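import Cfsg.Agent.Lib_lead_RootSub10

set_option autoImplicit false

namespace Cfsg.Agent.lead

open Cfsg Cfsg.Agent.helper25
open scoped commutatorElement

variable {G : Type*} [Group G]

/-- `M` is a "center" of the line of members of `S` inside `N`: the member `K` of `S` normalizes `N`,
fixes `M` and permutes the other members of `S` inside `N` transitively. -/
structure LineCenter (S : Set (Subgroup G)) (N M K : Subgroup G) : Prop where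
  hM : M ∈ S
  hK : K ∈ S
  hMN : M ≤ N
  hKN : K ≤ Subgroup.normalizer (N : Set G)
  fix : ∀ k ∈ K, conjBy M k = M
  trans : ∀ E₁ ∈ membersIn S N, ∀ E₂ ∈ membersIn S N, E₁ ≠ M → E₂ ≠ M → ∃ k ∈ K, conjBy E₁ k = E₂
  span : ∀ E ∈ membersIn S N, E ≠ M → E ⊔ M = N

theorem lineCenter_of_cc {S : Set (Subgroup G)} (hS : IsRootSubgroupSet S) {E₀ K₀ : Subgroup G}
    (hE₀ : E₀ ∈ S) (hK₀ : K₀ ∈ S) (hni : ¬ IsIsolatedIn (FAdj S) S E₀)
    (hcc : RootCommutatorCase S E₀ K₀) : LineCenter S (E₀ ⊔ ⁅E₀, K₀⁆) ⁅E₀, K₀⁆ K₀ := by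
  obtain ⟨hmem, _, _, _⟩ := Cfsg.Agent.S5029.result hS hni hE₀ hK₀ hcc.1
  have hMK : ∀ m ∈ ⁅E₀, K₀⁆, ∀ k ∈ K₀, m * k = k * m :=
    fun m hm k hk => rs_cc_comm_right hcc hm hk
  have hfix : ∀ k ∈ K₀, conjBy ⁅E₀, K₀⁆ k = ⁅E₀, K₀⁆ :=
    fun k hk => rs_conjBy_of_commute _ k (fun m hm => hMK m hm k hk)
  have hconjE : ∀ k ∈ K₀, conjBy E₀ k ≤ E₀ ⊔ ⁅E₀, K₀⁆ := by
    intro k hk y hy
    obtain ⟨a, ha, c, hc, rfl⟩ := rs_conj_elt hcc hk hy
    exact Subgroup.mul_mem _ (Subgroup.mem_sup_left ha) (Subgroup.mem_sup_right hc)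
  have hmapsup : ∀ k : G, conjBy (E₀ ⊔ ⁅E₀, K₀⁆) k = conjBy E₀ k ⊔ conjBy ⁅E₀, K₀⁆ k :=
    fun k => Subgroup.map_sup _ _ _
  have hKN : K₀ ≤ Subgroup.normalizer ((E₀ ⊔ ⁅E₀, K₀⁆ : Subgroup G) : Set G) := by
    apply rs_le_normalizer_of_conj_mem
    intro k hk w hw
    have h1 : k * w * k⁻¹ ∈ conjBy (E₀ ⊔ ⁅E₀, K₀⁆) k := conj_mem_conjBy _ k hw
    rw [hmapsup k, hfix k hk] at h1
    exact (sup_le (hconjE k hk) le_sup_right) h1
  refine ⟨hcc.1, hK₀, le_sup_right, hKN, hfix, ?_, ?_⟩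
  · intro E₁ hE₁ E₂ hE₂ h1 h2
    rw [hmem] at hE₁ hE₂
    rcases hE₁ with ⟨k₁, hk₁, rfl⟩ | h
    · rcases hE₂ with ⟨k₂, hk₂, rfl⟩ | h'
      · refine ⟨k₂ * k₁⁻¹, K₀.mul_mem hk₂ (K₀.inv_mem hk₁), ?_⟩
        show conjBy (conjBy E₀ k₁) (k₂ * k₁⁻¹) = conjBy E₀ k₂
        rw [conjBy_conjBy, inv_mul_cancel_right]
      · exact absurd (Set.mem_singleton_iff.mp h') h2
    · exact absurd (Set.mem_singleton_iff.mp h) h1
  · intro E hE hne
    rw [hmem] at hE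
    rcases hE with ⟨k, hk, rfl⟩ | h
    · have h2 := hmapsup k
      rw [hfix k hk] at h2
      show conjBy E₀ k ⊔ ⁅E₀, K₀⁆ = E₀ ⊔ ⁅E₀, K₀⁆
      rw [← h2]
      exact (conjBy_eq_self_iff _ k).mpr (hKN hk)
    · exact absurd (Set.mem_singleton_iff.mp h) hne

theorem rs_exists_center {S : Set (Subgroup G)} (hS : IsRootSubgroupSet S)
    (hpartner : ∀ X ∈ S, ∃ D ∈ S, IsRankOnePair X D) {A B F : Subgroup G} (hA : A ∈ S)
    (hBL : B ∈ linePartners S A) (hF : F ∈ S) (hAF : IsRankOnePair A F) :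
    ∃ M K, LineCenter S (A ⊔ B) M K ∧ M ≠ A ∧ M ∈ membersIn S (A ⊔ B) := by
  classical
  have hBL' := hBL
  obtain ⟨⟨hB, hBA, hbot⟩, hpart⟩ := hBL
  have hABc : ∀ a ∈ A, ∀ b ∈ B, a * b = b * a :=
    fun a ha b hb => commute_of_commutator_eq_bot hbot ha hb
  have hAA : ∀ a ∈ A, ∀ a' ∈ A, a * a' = a' * a := by
    intro a ha a' ha'
    have := hS.commutative _ hA
    exact setLike_mul_comm ha ha'
  have hBB : ∀ b ∈ B, ∀ b' ∈ B, b * b' = b' * b := by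
    intro b hb b' hb'
    have := hS.commutative _ hB
    exact setLike_mul_comm hb hb'
  have hNc : ∀ x ∈ A ⊔ B, ∀ y ∈ A ⊔ B, x * y = y * x := rs_sup_comm hAA hBB hABc
  have hAm : A ∈ membersIn S (A ⊔ B) := ⟨hA, le_sup_left⟩
  have hBm : B ∈ membersIn S (A ⊔ B) := ⟨hB, le_sup_right⟩
  have hdAB : A ⊓ B = ⊥ := hpart.2.2 A hAm B hBm (Ne.symm hBA)
  have hni : ∀ X ∈ S, ¬ IsIsolatedIn (FAdj S) S X := by
    intro X hX
    obtain ⟨D, hD, hr⟩ := hpartner X hX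
    exact rs_not_isolated_of_partner hX hD hr
  obtain ⟨a₀, ha₀, ha₀1⟩ := (A.bot_or_exists_ne_one).resolve_left (hS.ne_bot A hA)
  obtain ⟨b₀, hb₀, hb₀1⟩ := (B.bot_or_exists_ne_one).resolve_left (hS.ne_bot B hB)
  rcases hS.pair F hF B hB with hc | hr | hcc'
  · exfalso
    have hy1 : a₀ * b₀ ≠ 1 := by
      intro h0
      have h1 : a₀ = b₀⁻¹ := eq_inv_of_mul_eq_one_left h0
      have h2 : a₀ ∈ A ⊓ B := ⟨ha₀, by rw [h1]; exact B.inv_mem hb₀⟩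
      rw [hdAB, Subgroup.mem_bot] at h2
      exact ha₀1 h2
    obtain ⟨E, ⟨hES, hEle⟩, hyE⟩ := hpart.2.1 (a₀ * b₀)
      (Subgroup.mul_mem _ (Subgroup.mem_sup_left ha₀) (Subgroup.mem_sup_right hb₀)) hy1
    rcases rs_T2 hS B hA hF hAF hES hABc
        (fun f hf b hb => commute_of_commutator_eq_bot hc hf hb)
        (fun y hy => rs_sup_mem hABc (hEle hy)) with h1 | h1
    · rw [h1] at hyE
      have h2 : b₀ ∈ A := by
        have h3 := A.mul_mem (A.inv_mem ha₀) hyE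
        rwa [inv_mul_cancel_left] at h3
      have h3 : b₀ ∈ A ⊓ B := ⟨h2, hb₀⟩
      rw [hdAB, Subgroup.mem_bot] at h3
      exact hb₀1 h3
    · have h2 : a₀ ∈ B := by
        have h3 := B.mul_mem (h1 hyE) (B.inv_mem hb₀)
        rwa [mul_inv_cancel_right] at h3
      have h3 : a₀ ∈ A ⊓ B := ⟨ha₀, h2⟩
      rw [hdAB, Subgroup.mem_bot] at h3
      exact ha₀1 h3
  · obtain ⟨φ, hφ, hφ1⟩ := (F.bot_or_exists_ne_one).resolve_left (hS.ne_bot F hF)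
    obtain ⟨a, ha, ha1, r1⟩ := hAF.cond_right φ hφ hφ1
    obtain ⟨e, he, he1, r2⟩ := hr.cond_left φ hφ hφ1
    have hae : a * e = e * a := hABc a ha e he
    have hy₀m : e * a⁻¹ ∈ A ⊔ B :=
      Subgroup.mul_mem _ (Subgroup.mem_sup_right he) (Subgroup.mem_sup_left (A.inv_mem ha))
    have hy₀1 : e * a⁻¹ ≠ 1 := by
      intro h0
      rw [mul_inv_eq_one] at h0
      have h2 : e ∈ A ⊓ B := ⟨by rw [h0]; exact ha, he⟩
      rw [hdAB, Subgroup.mem_bot] at h2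
      exact he1 h2
    obtain ⟨F₀, ⟨hF₀S, hF₀le⟩, hyF₀⟩ := hpart.2.1 _ hy₀m hy₀1
    obtain ⟨_, hconj⟩ := rs_gArg hS hB hF₀S (Ne.symm hBA) hbot hae r1 r2 hyF₀ hy₀1
      (fun x hx => hNc x (hF₀le hx) e (Subgroup.mem_sup_right he))
    have hg : φ * (e * a⁻¹) * φ⁻¹ ∈ conjBy F₀ φ := conj_mem_conjBy F₀ φ hyF₀
    have hg1 : φ * (e * a⁻¹) * φ⁻¹ ≠ 1 := fun h0 => hy₀1 (conj_eq_one_iff.mp h0)
    have hY₀ : conjBy F₀ φ ∈ S := hS.conj_mem F₀ hF₀S φ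
    have hccY : RootCommutatorCase S B (conjBy F₀ φ) := by
      rcases hS.pair B hB _ hY₀ with h1 | h1 | h1
      · exfalso
        exact hBA (hconj.symm.trans (rs_conjBy_of_commute _ _
          (fun x hx => commute_of_commutator_eq_bot h1 hx hg))).symm
      · exfalso
        obtain ⟨b', hb', _, r3⟩ := h1.cond_right _ (Subgroup.inv_mem _ hg)
          (fun h0 => hg1 (inv_eq_one.mp h0))
        rw [inv_inv, hconj] at r3
        have h2 := rs_rankOne_conj h1 b'⁻¹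
        rw [r3, conjBy_of_mem _ (Subgroup.inv_mem _ hb')] at h2
        have h3 : ⁅B, A⁆ = ⊥ := by
          rw [Subgroup.commutator_comm]
          exact hbot
        exact rankOne_commutator_ne_bot h2 h3
      · exact h1
    have lc := lineCenter_of_cc hS hB hY₀ (hni B hB) hccY
    have hsup : B ⊔ ⁅B, conjBy F₀ φ⁆ = A ⊔ B := by
      apply le_antisymm
      · apply sup_le le_sup_right
        rw [← hccY.2.2.2 _ hg hg1, Subgroup.closure_le]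
        rintro _ ⟨b', hb', rfl⟩
        obtain ⟨g, hgd⟩ : ∃ g, g = φ * (e * a⁻¹) * φ⁻¹ := ⟨_, rfl⟩
        rw [← hgd] at hconj
        show b' * (φ * (e * a⁻¹) * φ⁻¹) * b'⁻¹ * (φ * (e * a⁻¹) * φ⁻¹)⁻¹ ∈ A ⊔ B
        rw [← hgd]
        have e3 : b' * g * b'⁻¹ * g⁻¹ = b' * (g * b'⁻¹ * g⁻¹) := by group
        rw [e3]
        have h5 : g * b'⁻¹ * g⁻¹ ∈ A := by
          rw [← hconj]
          exact conj_mem_conjBy B g (B.inv_mem hb')
        exact Subgroup.mul_mem _ (Subgroup.mem_sup_right hb') (Subgroup.mem_sup_left h5)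
      · apply sup_le _ le_sup_left
        intro y hy
        rw [← hconj] at hy
        obtain ⟨b', hb', m, hm, rfl⟩ := rs_conj_elt hccY hg hy
        exact Subgroup.mul_mem _ (Subgroup.mem_sup_left hb') (Subgroup.mem_sup_right hm)
    rw [hsup] at lc
    refine ⟨_, _, lc, ?_, ⟨lc.hM, lc.hMN⟩⟩
    intro h0
    -- ⁅B, Y₀⁆ = A = conjBy B g  ⇒  B = ⁅B, Y₀⁆
    have h1 : conjBy B (φ * (e * a⁻¹) * φ⁻¹) = ⁅B, conjBy F₀ φ⁆ := hconj.trans h0.symm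
    have h2 := (conjBy_eq_iff B _ _).mp h1
    rw [rs_conjBy_of_commute ⁅B, conjBy F₀ φ⁆ (φ * (e * a⁻¹) * φ⁻¹)⁻¹ (fun m hm =>
      ((show Commute m (φ * (e * a⁻¹) * φ⁻¹) from rs_cc_comm_right hccY hm hg).inv_right).eq)] at h2
    have h3 : b₀ ∈ ⁅B, conjBy F₀ φ⁆ := by
      rw [← h2]
      exact hb₀
    exact hb₀1 (rs_cc_disj' hccY hS hb₀ h3)
  · have hccBF := rs_cc_symm hcc'
    obtain ⟨hccAK, hPC⟩ := rs_23 hS hpartner hA hF hAF hBL' hccBF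
    have lc := lineCenter_of_cc hS hA hccBF.1 (hni A hA) hccAK
    rw [hPC] at lc
    exact ⟨B, ⁅B, F⁆, lc, hBA, hBm⟩

end Cfsg.Agent.lead
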