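import Cfsg.Agent.Lib_lead_RootSub2

set_option autoImplicit false

namespace Cfsg.Agent.lead

open Cfsg Cfsg.Agent.helper25
open scoped commutatorElement

variable {G : Type*} [Group G]

/-- The symmetric configuration `⁅A, B⁆ = C`, `⁅C, D⁆ = A`, both in the commutator case. -/
structure RS36 (S : Set (Subgroup G)) (A B C D : Subgroup G) : Prop where
  hS : IsRootSubgroupSet S
  hA : A ∈ S
  hB : B ∈ S
  hC : C ∈ S
  hD : D ∈ S
  h1 : RootCommutatorCase S A B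
  hAB : ⁅A, B⁆ = C
  h2 : RootCommutatorCase S C D
  hCD : ⁅C, D⁆ = A

namespace RS36

variable {S : Set (Subgroup G)} {A B C D : Subgroup G}

theorem swap (k : RS36 S A B C D) : RS36 S C D A B :=
  ⟨k.hS, k.hC, k.hD, k.hA, k.hB, k.h2, k.hCD, k.h1, k.hAB⟩

theorem memC (k : RS36 S A B C D) {c : G} (hc : c ∈ C) : c ∈ ⁅A, B⁆ := by
  rw [k.hAB]; exact hc

theorem cA_comm (k : RS36 S A B C D) {c a : G} (hc : c ∈ C) (ha : a ∈ A) : c * a = a * c :=
  rs_cc_comm_left k.h1 (k.memC hc) ha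

theorem cB_comm (k : RS36 S A B C D) {c b : G} (hc : c ∈ C) (hb : b ∈ B) : c * b = b * c :=
  rs_cc_comm_right k.h1 (k.memC hc) hb

theorem aD_comm (k : RS36 S A B C D) {a d : G} (ha : a ∈ A) (hd : d ∈ D) : a * d = d * a :=
  k.swap.cB_comm ha hd

theorem comm_mem (k : RS36 S A B C D) {a b : G} (ha : a ∈ A) (hb : b ∈ B) :
    a * b * a⁻¹ * b⁻¹ ∈ C := by
  rw [← k.hAB]; exact rs_cc_mem ha hb

theorem comm_mem' (k : RS36 S A B C D) {a b : G} (hb : b ∈ B) (ha : a ∈ A) :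
    b * a * b⁻¹ * a⁻¹ ∈ C := by
  have h := C.inv_mem (k.comm_mem ha hb)
  have e : (a * b * a⁻¹ * b⁻¹)⁻¹ = b * a * b⁻¹ * a⁻¹ := by group
  rwa [e] at h

theorem surjB (k : RS36 S A B C D) {a c : G} (ha : a ∈ A) (ha1 : a ≠ 1) (hc : c ∈ C) :
    ∃ b ∈ B, a * b * a⁻¹ * b⁻¹ = c :=
  rs_cc_surj k.h1 ha ha1 (k.memC hc)

theorem surjA (k : RS36 S A B C D) {b c : G} (hb : b ∈ B) (hb1 : b ≠ 1) (hc : c ∈ C) :
    ∃ a ∈ A, b * a * b⁻¹ * a⁻¹ = c := by
  have hc' : c ∈ ⁅B, A⁆ := by rw [Subgroup.commutator_comm]; exact k.memC hc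
  exact rs_cc_surj (rs_cc_symm k.h1) hb hb1 hc'

theorem disj (k : RS36 S A B C D) {x : G} (hxA : x ∈ A) (hxC : x ∈ C) : x = 1 :=
  rs_cc_disj' k.h1 k.hS hxA (k.memC hxC)

theorem not_all_comm (k : RS36 S A B C D) {b : G} (hb : b ∈ B) (hb1 : b ≠ 1)
    (hall : ∀ a ∈ A, b * a * b⁻¹ * a⁻¹ = 1) : False := by
  obtain ⟨c, hc⟩ := (Subgroup.ne_bot_iff_exists_ne_one).mp (k.hS.ne_bot C k.hC)
  obtain ⟨a, ha, hac⟩ := k.surjA hb hb1 c.2
  rw [hall a ha] at hac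
  exact hc (Subtype.ext hac.symm)

/-- `B` and `D` do not commute. -/
theorem not_comm (k : RS36 S A B C D) (hc : ⁅B, D⁆ = ⊥) : False := by
  obtain ⟨a, ha⟩ := (Subgroup.ne_bot_iff_exists_ne_one).mp (k.hS.ne_bot A k.hA)
  have ha1 : (a : G) ≠ 1 := fun h1 => ha (Subtype.ext h1)
  obtain ⟨c₁, hc₁⟩ := (Subgroup.ne_bot_iff_exists_ne_one).mp (k.hS.ne_bot C k.hC)
  have hc₁1 : (c₁ : G) ≠ 1 := fun h1 => hc₁ (Subtype.ext h1)
  obtain ⟨b, hb, hbc⟩ := k.surjB a.2 ha1 c₁.2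
  obtain ⟨d, hd, hda⟩ := k.swap.surjB c₁.2 hc₁1 a.2
  have e1 : (a : G) * d = d * a := k.aD_comm a.2 hd
  have e2 : b * d = d * b := commute_of_commutator_eq_bot hc hb hd
  have e3 : (c₁ : G) * d = d * c₁ := by
    rw [← hbc]
    have ca : Commute (a : G) d := e1
    have cb : Commute b d := e2
    exact (((ca.mul_left cb).mul_left ca.inv_left).mul_left cb.inv_left).eq
  apply ha1
  rw [← hda, e3]
  group

/-- `(B, D)` is not in the commutator case. -/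
theorem not_cc (k : RS36 S A B C D) (hcc : RootCommutatorCase S B D) : False := by
  obtain ⟨b, hb⟩ := (Subgroup.ne_bot_iff_exists_ne_one).mp (k.hS.ne_bot B k.hB)
  have hb1 : (b : G) ≠ 1 := fun h1 => hb (Subtype.ext h1)
  obtain ⟨d, hd⟩ := (Subgroup.ne_bot_iff_exists_ne_one).mp (k.hS.ne_bot D k.hD)
  have hd1 : (d : G) ≠ 1 := fun h1 => hd (Subtype.ext h1)
  obtain ⟨b, hbB⟩ := b
  obtain ⟨d, hdD⟩ := d
  simp only at hb1 hd1
  have hd1' : d⁻¹ ≠ 1 := fun h1 => hd1 (inv_eq_one.mp h1)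
  have hqm : d * b * d⁻¹ * b⁻¹ ∈ ⁅B, D⁆ := by
    rw [Subgroup.commutator_comm]; exact rs_cc_mem hdD hbB
  have hqb : (d * b * d⁻¹ * b⁻¹) * b = b * (d * b * d⁻¹ * b⁻¹) :=
    hcc.2.1 _ hqm b (Subgroup.mem_sup_left hbB)
  have hbb' : b * (d * b * d⁻¹) = (d * b * d⁻¹) * b := by
    calc b * (d * b * d⁻¹) = (b * (d * b * d⁻¹ * b⁻¹)) * b := by group
      _ = ((d * b * d⁻¹ * b⁻¹) * b) * b := by rw [hqb]
      _ = (d * b * d⁻¹) * b := by group
  have key : ∀ c ∈ C, ∀ a₃ c₄ a₅ : G, a₃ = d⁻¹ * c * d * c⁻¹ → c₄ = b * a₃ * b⁻¹ * a₃⁻¹ →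
      a₅ = d * c₄ * d⁻¹ * c₄⁻¹ → b * a₅ * b⁻¹ * a₅⁻¹ = 1 := by
    intro c hc a₃ c₄ a₅ ha₃ hc₄ ha₅
    have ha₃A : a₃ ∈ A := by
      have := k.swap.comm_mem' (D.inv_mem hdD) hc
      rw [inv_inv] at this
      rw [ha₃]; exact this
    have hc₄C : c₄ ∈ C := by rw [hc₄]; exact k.comm_mem' hbB ha₃A
    have hbc : b * c * b⁻¹ = c := by
      rw [← k.cB_comm hc hbB]; group
    have hbc₄ : b * c₄ * b⁻¹ = c₄ := by
      rw [← k.cB_comm hc₄C hbB]; group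
    obtain ⟨u, hu⟩ : ∃ u, u = (d * b * d⁻¹) * c * (d * b * d⁻¹)⁻¹ := ⟨_, rfl⟩
    have e1 : d⁻¹ * c * d = a₃ * c := by rw [ha₃]; group
    have e2 : b * a₃ * b⁻¹ = c₄ * a₃ := by rw [hc₄]; group
    have e3 : d * (a₃ * c) * d⁻¹ = c := by rw [ha₃]; group
    have hu2 : u = (d * c₄ * d⁻¹) * c := by
      calc u = d * (b * (d⁻¹ * c * d) * b⁻¹) * d⁻¹ := by rw [hu]; group
        _ = d * (b * (a₃ * c) * b⁻¹) * d⁻¹ := by rw [e1]
        _ = d * ((b * a₃ * b⁻¹) * (b * c * b⁻¹)) * d⁻¹ := by group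
        _ = d * ((c₄ * a₃) * c) * d⁻¹ := by rw [hbc, e2]
        _ = (d * c₄ * d⁻¹) * (d * (a₃ * c) * d⁻¹) := by group
        _ = (d * c₄ * d⁻¹) * c := by rw [e3]
    have hbu : b * u * b⁻¹ = u := by
      calc b * u * b⁻¹ = (b * (d * b * d⁻¹)) * c * (b * (d * b * d⁻¹))⁻¹ := by rw [hu]; group
        _ = ((d * b * d⁻¹) * b) * c * ((d * b * d⁻¹) * b)⁻¹ := by rw [hbb']
        _ = (d * b * d⁻¹) * (b * c * b⁻¹) * (d * b * d⁻¹)⁻¹ := by group
        _ = u := by rw [hbc, hu]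
    have hv : b * (d * c₄ * d⁻¹) * b⁻¹ = d * c₄ * d⁻¹ := by
      have h1 : (b * (d * c₄ * d⁻¹) * b⁻¹) * c = (d * c₄ * d⁻¹) * c := by
        calc (b * (d * c₄ * d⁻¹) * b⁻¹) * c = (b * (d * c₄ * d⁻¹) * b⁻¹) * (b * c * b⁻¹) := by
              rw [hbc]
          _ = b * ((d * c₄ * d⁻¹) * c) * b⁻¹ := by group
          _ = b * u * b⁻¹ := by rw [hu2]
          _ = u := hbu
          _ = (d * c₄ * d⁻¹) * c := hu2
      exact mul_right_cancel h1
    have hv2 : d * c₄ * d⁻¹ = a₅ * c₄ := by rw [ha₅]; group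
    rw [hv2] at hv
    have h3 : (b * a₅ * b⁻¹) * c₄ = a₅ * c₄ := by
      calc (b * a₅ * b⁻¹) * c₄ = (b * a₅ * b⁻¹) * (b * c₄ * b⁻¹) := by rw [hbc₄]
        _ = b * (a₅ * c₄) * b⁻¹ := by group
        _ = a₅ * c₄ := hv
    have h4 : b * a₅ * b⁻¹ = a₅ := mul_right_cancel h3
    rw [h4, mul_inv_cancel]
  apply k.not_all_comm hbB hb1
  intro a ha
  obtain ⟨c₄, hc₄C, hc₄⟩ := k.swap.surjA hdD hd1 ha
  obtain ⟨a₃, ha₃A, ha₃⟩ := k.surjA hbB hb1 hc₄C
  obtain ⟨c, hc, hca₃⟩ := k.swap.surjA (D.inv_mem hdD) hd1' ha₃A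
  rw [inv_inv] at hca₃
  exact key c hc a₃ c₄ a hca₃.symm ha₃.symm hc₄.symm

theorem rankOne (k : RS36 S A B C D) : IsRankOnePair B D := by
  rcases k.hS.pair B k.hB D k.hD with h | h | h
  · exact (k.not_comm h).elim
  · exact h
  · exact (k.not_cc h).elim

/-- one inclusion of `A^b = C^d`. -/
theorem conj_le (k : RS36 S A B C D) {b d : G} (hb : b ∈ B) (hd : d ∈ D)
    (hrel : conjBy D b⁻¹ = conjBy B d⁻¹) : conjBy A b⁻¹ ≤ conjBy C d⁻¹ := by
  have e1 : conjBy A b⁻¹ = ⁅conjBy C b⁻¹, conjBy D b⁻¹⁆ := by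
    calc conjBy A b⁻¹ = conjBy ⁅C, D⁆ b⁻¹ := by rw [k.hCD]
      _ = ⁅conjBy C b⁻¹, conjBy D b⁻¹⁆ := Subgroup.map_commutator C D _
  have e2 : conjBy C b⁻¹ = C :=
    rs_conjBy_of_commute C b⁻¹ (fun c hc => k.cB_comm hc (B.inv_mem hb))
  rw [e1, e2, hrel, Subgroup.commutator_le]
  intro c hc y hy
  have hb' : d * y * d⁻¹ ∈ B := by
    have := (mem_conjBy_iff B d⁻¹ y).mp hy
    rwa [inv_inv] at this
  rw [mem_conjBy_iff, inv_inv]
  obtain ⟨b', hb'def⟩ : ∃ b', b' = d * y * d⁻¹ := ⟨_, rfl⟩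
  obtain ⟨a', ha'def⟩ : ∃ a', a' = d * c * d⁻¹ * c⁻¹ := ⟨_, rfl⟩
  rw [← hb'def] at hb'
  have ha' : a' ∈ A := by rw [ha'def]; exact k.swap.comm_mem' hd hc
  have hcb : c * b' = b' * c := k.cB_comm hc hb'
  have e : d * ⁅c, y⁆ * d⁻¹ = a' * b' * a'⁻¹ * b'⁻¹ := by
    calc d * ⁅c, y⁆ * d⁻¹ = a' * (c * b') * c⁻¹ * a'⁻¹ * b'⁻¹ := by
          rw [commutatorElement_def, ha'def, hb'def]; group
      _ = a' * (b' * c) * c⁻¹ * a'⁻¹ * b'⁻¹ := by rw [hcb]
      _ = a' * b' * a'⁻¹ * b'⁻¹ := by group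
  rw [e]
  exact k.comm_mem ha' hb'

theorem conj_eq (k : RS36 S A B C D) {b d : G} (hb : b ∈ B) (hd : d ∈ D)
    (hrel : conjBy D b⁻¹ = conjBy B d⁻¹) : conjBy A b⁻¹ = conjBy C d⁻¹ :=
  le_antisymm (k.conj_le hb hd hrel) (k.swap.conj_le hd hb hrel.symm)

theorem exists_D (k : RS36 S A B C D) (h : IsRankOnePair B D) {b : G} (hb : b ∈ B) (hb1 : b ≠ 1) :
    ∃ d ∈ D, d ≠ 1 ∧ conjBy A b = conjBy C d := by
  have hb1' : b⁻¹ ≠ 1 := fun h1 => hb1 (inv_eq_one.mp h1)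
  obtain ⟨d, hd, hd1, hrel⟩ := h.cond_left b⁻¹ (B.inv_mem hb) hb1'
  have := k.conj_eq (B.inv_mem hb) hd hrel.symm
  rw [inv_inv] at this
  exact ⟨d⁻¹, D.inv_mem hd, fun h1 => hd1 (inv_eq_one.mp h1), this⟩

theorem exists_B (k : RS36 S A B C D) (h : IsRankOnePair B D) {d : G} (hd : d ∈ D) (hd1 : d ≠ 1) :
    ∃ b ∈ B, b ≠ 1 ∧ conjBy C d = conjBy A b :=
  k.swap.exists_D (RankOnePair_symm h) hd hd1

/-- the orbit set `A^B ∪ {C}`. -/
def orb (A B C : Subgroup G) : Set (Subgroup G) := {E | E = C ∨ ∃ b ∈ B, E = conjBy A b}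

theorem orb_gen (k : RS36 S A B C D) (h : IsRankOnePair B D) {x : G} (hx : x ∈ B ∨ x ∈ D)
    {E : Subgroup G} (hE : E ∈ orb A B C) : conjBy E x ∈ orb A B C := by
  have hCd : ∀ d ∈ D, conjBy C d ∈ orb A B C := by
    intro d hd
    by_cases hd1 : d = 1
    · left; rw [hd1, conjBy_one]
    · obtain ⟨b, hb, _, hbd⟩ := k.exists_B h hd hd1
      exact Or.inr ⟨b, hb, hbd⟩
  rcases hx with hx | hx
  · rcases hE with rfl | ⟨b, hb, rfl⟩
    · left
      exact rs_conjBy_of_commute E x (fun c hc => k.cB_comm hc hx)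
    · right
      exact ⟨x * b, B.mul_mem hx hb, conjBy_conjBy A b x⟩
  · rcases hE with rfl | ⟨b, hb, rfl⟩
    · exact hCd x hx
    · by_cases hb1 : b = 1
      · right
        refine ⟨1, B.one_mem, ?_⟩
        rw [hb1, conjBy_one]
        exact rs_conjBy_of_commute A x (fun a ha => k.aD_comm ha hx)
      · obtain ⟨d, hd, _, hbd⟩ := k.exists_D h hb hb1
        rw [hbd, conjBy_conjBy]
        exact hCd _ (D.mul_mem hx hd)

theorem orb_stable (k : RS36 S A B C D) (h : IsRankOnePair B D) {x : G} (hx : x ∈ B ⊔ D)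
    {E : Subgroup G} : E ∈ orb A B C ↔ conjBy E x ∈ orb A B C := by
  let M : Subgroup G :=
    { carrier := {x | ∀ E, E ∈ orb A B C ↔ conjBy E x ∈ orb A B C}
      one_mem' := fun E => by rw [conjBy_one]
      mul_mem' := by
        intro x y hx hy E
        rw [← conjBy_conjBy, ← hx, ← hy]
      inv_mem' := by
        intro x hx E
        have := hx (conjBy E x⁻¹)
        rw [conjBy_conjBy, mul_inv_cancel, conjBy_one] at this
        exact this.symm }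
  have hgen : ∀ x, (x ∈ B ∨ x ∈ D) → x ∈ M := by
    intro x hx E
    constructor
    · exact fun hE => k.orb_gen h hx hE
    · intro hE
      have hx' : x⁻¹ ∈ B ∨ x⁻¹ ∈ D := hx.imp (B.inv_mem) (D.inv_mem)
      have := k.orb_gen h hx' hE
      rwa [conjBy_conjBy, inv_mul_cancel, conjBy_one] at this
  have hle : B ⊔ D ≤ M := sup_le (fun b hb => hgen b (Or.inl hb)) (fun d hd => hgen d (Or.inr hd))
  exact hle hx E

theorem exists_conj_C (k : RS36 S A B C D) (h : IsRankOnePair B D) :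
    ∃ g ∈ B ⊔ D, C = conjBy A g := by
  obtain ⟨d, hd⟩ := (Subgroup.ne_bot_iff_exists_ne_one).mp (k.hS.ne_bot D k.hD)
  have hd1 : (d : G) ≠ 1 := fun h1 => hd (Subtype.ext h1)
  obtain ⟨b, hb, _, hbd⟩ := k.exists_B h d.2 hd1
  refine ⟨(d : G)⁻¹ * b, Subgroup.mul_mem _ (Subgroup.inv_mem _ (Subgroup.mem_sup_right d.2))
    (Subgroup.mem_sup_left hb), ?_⟩
  rw [← conjBy_conjBy, ← hbd, conjBy_conjBy, inv_mul_cancel, conjBy_one]

theorem orbit_eq (k : RS36 S A B C D) (h : IsRankOnePair B D) :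
    {E | ∃ x ∈ B ⊔ D, E = conjBy A x} = orb A B C := by
  ext E
  constructor
  · rintro ⟨x, hx, rfl⟩
    exact (k.orb_stable h hx).mp (Or.inr ⟨1, B.one_mem, (conjBy_one A).symm⟩)
  · rintro (rfl | ⟨b, hb, rfl⟩)
    · exact k.exists_conj_C h
    · exact ⟨b, Subgroup.mem_sup_left hb, rfl⟩

theorem orbit_eq' (k : RS36 S A B C D) (h : IsRankOnePair B D) :
    {E | ∃ x ∈ B ⊔ D, E = conjBy A x} = {E | ∃ x ∈ B ⊔ D, E = conjBy C x} := by
  obtain ⟨g, hg, hCg⟩ := k.exists_conj_C h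
  ext E
  constructor
  · rintro ⟨x, hx, rfl⟩
    refine ⟨x * g⁻¹, Subgroup.mul_mem _ hx (Subgroup.inv_mem _ hg), ?_⟩
    rw [hCg, conjBy_conjBy, inv_mul_cancel_right]
  · rintro ⟨x, hx, rfl⟩
    refine ⟨x * g, Subgroup.mul_mem _ hx hg, ?_⟩
    rw [hCg, conjBy_conjBy]

theorem orb_eq_image (A B C : Subgroup G) :
    orb A B C = (fun b : G => conjBy A b) '' (B : Set G) ∪ {C} := by
  ext E
  constructor
  · rintro (rfl | ⟨b, hb, rfl⟩)
    · right; exact rfl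
    · left; exact ⟨b, hb, rfl⟩
  · rintro (⟨b, hb, rfl⟩ | hE)
    · exact Or.inr ⟨b, hb, rfl⟩
    · exact Or.inl hE

theorem partition (k : RS36 S A B C D) (h : IsRankOnePair B D) :
    IsSubgroupPartition (A ⊔ C) (orb A B C) := by
  have hcommAC : ∀ a ∈ A, ∀ c ∈ C, a * c = c * a := fun a ha c hc => (k.cA_comm hc ha).symm
  have hAC : ∀ x : G, x ∈ A → ∀ d ∈ D, x ∈ conjBy C d → x = 1 := by
    intro x hxA d hd hx
    rw [mem_conjBy_iff] at hx
    have e : d⁻¹ * x * d = x := by rw [mul_assoc, k.aD_comm hxA hd]; group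
    rw [e] at hx
    exact k.disj hxA hx
  have hCA : ∀ x : G, x ∈ C → ∀ b ∈ B, x ∈ conjBy A b → x = 1 := by
    intro x hxC b hb hx
    rw [mem_conjBy_iff] at hx
    have e : b⁻¹ * x * b = x := by rw [mul_assoc, k.cB_comm hxC hb]; group
    rw [e] at hx
    exact k.disj hx hxC
  refine ⟨?_, ?_, ?_⟩
  · rintro E (rfl | ⟨b, hb, rfl⟩)
    · exact le_sup_right
    · intro y hy
      obtain ⟨a, ha, c, hc, rfl⟩ := rs_conj_elt k.h1 hb hy
      rw [k.hAB] at hc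
      exact Subgroup.mul_mem _ (Subgroup.mem_sup_left ha) (Subgroup.mem_sup_right hc)
  · intro x hx hx1
    obtain ⟨a, ha, c, hc, rfl⟩ := rs_sup_mem hcommAC hx
    by_cases ha1 : a = 1
    · refine ⟨C, Or.inl rfl, ?_⟩
      rw [ha1, one_mul]; exact hc
    · obtain ⟨b, hb, hyb⟩ := rs_exists_conj k.h1 ha ha1 (k.memC hc)
      exact ⟨conjBy A b, Or.inr ⟨b, hb, rfl⟩, hyb⟩
  · intro E hE F hF hne
    rw [eq_bot_iff]
    intro x hx
    rw [Subgroup.mem_bot]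
    have hxE : x ∈ E := (Subgroup.mem_inf.mp hx).1
    have hxF : x ∈ F := (Subgroup.mem_inf.mp hx).2
    have hAA : ∀ b ∈ B, ∀ b' ∈ B, conjBy A b ≠ conjBy A b' → ∀ x : G, x ∈ conjBy A b →
        x ∈ conjBy A b' → x = 1 := by
      intro b hb b' hb' hne' x hx hx'
      have hbb : b⁻¹ * b' ≠ 1 := by
        intro h1
        have : b' = b := by
          calc b' = b * (b⁻¹ * b') := by group
            _ = b := by rw [h1, mul_one]
        exact hne' (by rw [this])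
      obtain ⟨d, hd, _, hbd⟩ := k.exists_D h (B.mul_mem (B.inv_mem hb) hb') hbb
      rw [mem_conjBy_iff] at hx
      have hx2 : b⁻¹ * x * b ∈ conjBy A (b⁻¹ * b') := by
        rw [mem_conjBy_iff] at hx' ⊢
        have e : (b⁻¹ * b')⁻¹ * (b⁻¹ * x * b) * (b⁻¹ * b') = b'⁻¹ * x * b' := by group
        rw [e]; exact hx'
      rw [hbd] at hx2
      have := hAC _ hx d hd hx2
      calc x = b * (b⁻¹ * x * b) * b⁻¹ := by group
        _ = 1 := by rw [this]; group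
    rcases hE with rfl | ⟨b, hb, rfl⟩
    · rcases hF with rfl | ⟨b', hb', rfl⟩
      · exact absurd rfl hne
      · exact hCA x hxE b' hb' hxF
    · rcases hF with rfl | ⟨b', hb', rfl⟩
      · exact hCA x hxF b hb hxE
      · exact hAA b hb b' hb' hne x hxE hxF

/-- elements of `B ⊔ D` centralizing `A ⊔ C` normalize `B`. -/
theorem ker_normalizes (k : RS36 S A B C D) (h : IsRankOnePair B D) {x : G} (hx : x ∈ B ⊔ D)
    (hxc : x ∈ Subgroup.centralizer ((A ⊔ C : Subgroup G) : Set G)) : conjBy B x = B := by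
  have hΩ : conjBy B x ∈ unipotentSubgroups B D := ⟨x, hx, rfl⟩
  by_contra hne
  obtain ⟨b', hb', he⟩ := unipotent_ne_left h hΩ hne
  -- `conjBy B x` centralizes `C`
  have hxC : ∀ c ∈ C, x * c = c * x := by
    intro c hc
    have := Subgroup.mem_centralizer_iff.mp hxc c (Subgroup.mem_sup_right hc)
    exact this.symm
  have h1 : ∀ y ∈ conjBy B x, ∀ c ∈ C, y * c = c * y := by
    intro y hy c hc
    rw [mem_conjBy_iff] at hy
    have e1 := k.cB_comm hc hy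
    have e2 := hxC c hc
    have e3 : x⁻¹ * c = c * x⁻¹ := by
      calc x⁻¹ * c = x⁻¹ * (c * x) * x⁻¹ := by group
        _ = x⁻¹ * (x * c) * x⁻¹ := by rw [e2]
        _ = c * x⁻¹ := by group
    calc y * c = x * (x⁻¹ * y * x) * (x⁻¹ * c) := by group
      _ = x * (x⁻¹ * y * x) * (c * x⁻¹) := by rw [e3]
      _ = x * ((x⁻¹ * y * x) * c) * x⁻¹ := by group
      _ = x * (c * (x⁻¹ * y * x)) * x⁻¹ := by rw [e1]
      _ = (x * c) * (x⁻¹ * y) := by group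
      _ = (c * x) * (x⁻¹ * y) := by rw [e2]
      _ = c * y := by group
  -- hence `D` centralizes `C`
  apply k.hS.ne_bot A k.hA
  rw [← k.hCD, Subgroup.commutator_eq_bot_iff_le_centralizer]
  intro c hc
  rw [Subgroup.mem_centralizer_iff]
  intro d hd
  have hy : b' * d * b'⁻¹ ∈ conjBy B x := by rw [he]; exact conj_mem_conjBy D b' hd
  have e1 := h1 _ hy c hc
  have e2 := k.cB_comm hc hb'
  have e3 : b'⁻¹ * c = c * b'⁻¹ := by
    calc b'⁻¹ * c = b'⁻¹ * (c * b') * b'⁻¹ := by group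
      _ = b'⁻¹ * (b' * c) * b'⁻¹ := by rw [e2]
      _ = c * b'⁻¹ := by group
  calc d * c = b'⁻¹ * ((b' * d * b'⁻¹) * (b' * c)) := by group
    _ = b'⁻¹ * ((b' * d * b'⁻¹) * (c * b')) := by rw [e2]
    _ = b'⁻¹ * (((b' * d * b'⁻¹) * c) * b') := by group
    _ = b'⁻¹ * ((c * (b' * d * b'⁻¹)) * b') := by rw [e1]
    _ = (b'⁻¹ * c) * (b' * d) := by group
    _ = (c * b'⁻¹) * (b' * d) := by rw [e3]
    _ = c * d := by group

theorem B_normalizes_N (k : RS36 S A B C D) : B ≤ Subgroup.normalizer ((A ⊔ C : Subgroup G) : Set G) := by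
  have hcommAC : ∀ a ∈ A, ∀ c ∈ C, a * c = c * a := fun a ha c hc => (k.cA_comm hc ha).symm
  have hBN : ∀ b ∈ B, ∀ n ∈ A ⊔ C, b * n * b⁻¹ ∈ A ⊔ C := by
    intro b hb n hn
    obtain ⟨a, ha, c, hc, rfl⟩ := rs_sup_mem hcommAC hn
    have e1 : b * c * b⁻¹ = c := by rw [← k.cB_comm hc hb]; group
    have e : b * (a * c) * b⁻¹ = (b * a * b⁻¹ * a⁻¹) * a * c := by
      calc b * (a * c) * b⁻¹ = (b * a * b⁻¹ * a⁻¹) * a * (b * c * b⁻¹) := by group
        _ = (b * a * b⁻¹ * a⁻¹) * a * c := by rw [e1]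
    rw [e]
    exact Subgroup.mul_mem _ (Subgroup.mul_mem _ (Subgroup.mem_sup_right (k.comm_mem' hb ha))
      (Subgroup.mem_sup_left ha)) (Subgroup.mem_sup_right hc)
  intro b hb
  rw [Subgroup.mem_normalizer_iff]
  intro n
  constructor
  · exact hBN b hb n
  · intro hn
    have := hBN b⁻¹ (B.inv_mem hb) _ hn
    have e : b⁻¹ * (b * n * b⁻¹) * b⁻¹⁻¹ = n := by group
    rwa [e] at this

theorem BD_normalizes_N (k : RS36 S A B C D) :
    B ⊔ D ≤ Subgroup.normalizer ((A ⊔ C : Subgroup G) : Set G) := by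
  apply sup_le k.B_normalizes_N
  have := k.swap.B_normalizes_N
  rwa [sup_comm] at this

theorem ker_normalizes' (k : RS36 S A B C D) (h : IsRankOnePair B D) {x : G} (hx : x ∈ B ⊔ D)
    (hxc : x ∈ Subgroup.centralizer ((A ⊔ C : Subgroup G) : Set G)) : conjBy D x = D := by
  have hx' : x ∈ D ⊔ B := by rw [sup_comm]; exact hx
  have hxc' : x ∈ Subgroup.centralizer ((C ⊔ A : Subgroup G) : Set G) := by rw [sup_comm]; exact hxc
  exact k.swap.ker_normalizes (RankOnePair_symm h) hx' hxc'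

end RS36

theorem rs_centralizer_conj (N : Subgroup G) {g x : G} (hg : g ∈ Subgroup.normalizer (N : Set G))
    (hx : x ∈ Subgroup.centralizer (N : Set G)) : g * x * g⁻¹ ∈ Subgroup.centralizer (N : Set G) := by
  rw [Subgroup.mem_centralizer_iff]
  intro n hn
  have hn' : g⁻¹ * n * g ∈ N := by
    rw [Subgroup.mem_normalizer_iff] at hg
    rw [hg (g⁻¹ * n * g)]
    have e : g * (g⁻¹ * n * g) * g⁻¹ = n := by group
    rw [e]; exact hn
  have hc := Subgroup.mem_centralizer_iff.mp hx _ hn'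
  calc n * (g * x * g⁻¹) = g * ((g⁻¹ * n * g) * x) * g⁻¹ := by group
    _ = g * (x * (g⁻¹ * n * g)) * g⁻¹ := by rw [hc]
    _ = g * x * g⁻¹ * n := by group

namespace RS36

variable {S : Set (Subgroup G)} {A B C D : Subgroup G}

theorem ker_comm_B (k : RS36 S A B C D) (h : IsRankOnePair B D) {x : G} (hx : x ∈ B ⊔ D)
    (hxc : x ∈ Subgroup.centralizer ((A ⊔ C : Subgroup G) : Set G)) {b : G} (hb : b ∈ B) :
    x * b = b * x := by
  have hbBD : b ∈ B ⊔ D := Subgroup.mem_sup_left hb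
  have hxB : x * b * x⁻¹ ∈ B := by
    have := conj_mem_conjBy B x hb
    rwa [k.ker_normalizes h hx hxc] at this
  obtain ⟨w, hw⟩ : ∃ w, w = x * b * x⁻¹ * b⁻¹ := ⟨_, rfl⟩
  have hwB : w ∈ B := by rw [hw]; exact B.mul_mem hxB (B.inv_mem hb)
  have hwBD : w ∈ B ⊔ D := Subgroup.mem_sup_left hwB
  have hwc : w ∈ Subgroup.centralizer ((A ⊔ C : Subgroup G) : Set G) := by
    have h1 := rs_centralizer_conj (A ⊔ C) (k.BD_normalizes_N hbBD) (Subgroup.inv_mem _ hxc)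
    have h2 := Subgroup.mul_mem _ hxc h1
    have e : x * (b * x⁻¹ * b⁻¹) = w := by rw [hw]; group
    rwa [e] at h2
  have hwD : conjBy D w = D := k.ker_normalizes' h hwBD hwc
  have hw1 : w = 1 := rankOne_normalizer_left h hwB ((conjBy_eq_self_iff D w).mp hwD)
  calc x * b = (x * b * x⁻¹ * b⁻¹) * (b * x) := by group
    _ = b * x := by rw [← hw, hw1, one_mul]

theorem ker_central (k : RS36 S A B C D) (h : IsRankOnePair B D) {x : G} (hx : x ∈ B ⊔ D)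
    (hxc : x ∈ Subgroup.centralizer ((A ⊔ C : Subgroup G) : Set G)) {y : G} (hy : y ∈ B ⊔ D) :
    x * y = y * x := by
  have hx' : x ∈ D ⊔ B := by rw [sup_comm]; exact hx
  have hxc' : x ∈ Subgroup.centralizer ((C ⊔ A : Subgroup G) : Set G) := by rw [sup_comm]; exact hxc
  have hle : B ⊔ D ≤ Subgroup.centralizer ({x} : Set G) := by
    apply sup_le
    · intro b hb
      rw [Subgroup.mem_centralizer_iff]
      intro m hm
      rw [Set.mem_singleton_iff.mp hm]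
      exact k.ker_comm_B h hx hxc hb
    · intro d hd
      rw [Subgroup.mem_centralizer_iff]
      intro m hm
      rw [Set.mem_singleton_iff.mp hm]
      exact k.swap.ker_comm_B (RankOnePair_symm h) hx' hxc' hd
  exact Subgroup.mem_centralizer_iff.mp (hle hy) x (Set.mem_singleton x)

end RS36

end Cfsg.Agent.lead
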