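import Cfsg.Agent.S5038
import Cfsg.Agent.S5036

set_option autoImplicit false

namespace Cfsg.Agent.lead

open Cfsg Cfsg.Agent.helper25
open scoped commutatorElement

variable {G : Type*} [Group G]

theorem rs_rankOne_conj_mem {C D : Subgroup G} (h : IsRankOnePair C D) :
    ∃ g ∈ C ⊔ D, D = conjBy C g := by
  obtain ⟨a, ha, ha1⟩ := rankOne_exists_left h
  obtain ⟨b, hb, _, hrel⟩ := h.cond_left a ha ha1
  have := (conjBy_eq_iff D (conjBy C b⁻¹) a⁻¹).mp hrel.symm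
  rw [inv_inv, conjBy_conjBy] at this
  exact ⟨a * b⁻¹, Subgroup.mul_mem _ (Subgroup.mem_sup_left ha)
    (Subgroup.mem_sup_right (D.inv_mem hb)), this⟩

theorem rs_line_abelian {S : Set (Subgroup G)} (hS : IsRootSubgroupSet S) {A C : Subgroup G}
    (hA : A ∈ S) (hCL : C ∈ linePartners S A) :
    ∀ x ∈ A ⊔ C, ∀ y ∈ A ⊔ C, x * y = y * x := by
  obtain ⟨⟨hC, _, hbot⟩, _⟩ := hCL
  have hACc : ∀ a ∈ A, ∀ b ∈ C, a * b = b * a :=
    fun a ha b hb => commute_of_commutator_eq_bot hbot ha hb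
  have hAA : ∀ a ∈ A, ∀ a' ∈ A, a * a' = a' * a := by
    intro a ha a' ha'
    have := hS.commutative _ hA
    exact setLike_mul_comm ha ha'
  have hCC : ∀ b ∈ C, ∀ b' ∈ C, b * b' = b' * b := by
    intro b hb b' hb'
    have := hS.commutative _ hC
    exact setLike_mul_comm hb hb'
  exact rs_sup_comm hAA hCC hACc

/-- A rank one partner of `A` does not commute with a line partner of `A`. -/
theorem rs_partner_line_ne_bot {S : Set (Subgroup G)} (hS : IsRootSubgroupSet S) {A B F : Subgroup G}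
    (hA : A ∈ S) (hBL : B ∈ linePartners S A) (hF : F ∈ S) (hAF : IsRankOnePair A F) :
    ⁅F, B⁆ ≠ ⊥ := by
  intro hc
  obtain ⟨⟨hB, hBA, hbot⟩, hpart⟩ := hBL
  have hABc : ∀ a ∈ A, ∀ b ∈ B, a * b = b * a :=
    fun a ha b hb => commute_of_commutator_eq_bot hbot ha hb
  have hAm : A ∈ membersIn S (A ⊔ B) := ⟨hA, le_sup_left⟩
  have hBm : B ∈ membersIn S (A ⊔ B) := ⟨hB, le_sup_right⟩
  have hdAB : A ⊓ B = ⊥ := hpart.2.2 A hAm B hBm (Ne.symm hBA)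
  obtain ⟨a₀, ha₀, ha₀1⟩ := (A.bot_or_exists_ne_one).resolve_left (hS.ne_bot A hA)
  obtain ⟨b₀, hb₀, hb₀1⟩ := (B.bot_or_exists_ne_one).resolve_left (hS.ne_bot B hB)
  have hy1 : a₀ * b₀ ≠ 1 := by
    intro h0
    have h1 : a₀ = b₀⁻¹ := eq_inv_of_mul_eq_one_left h0
    have h2 : a₀ ∈ A ⊓ B := ⟨ha₀, by rw [h1]; exact B.inv_mem hb₀⟩
    rw [hdAB, Subgroup.mem_bot] at h2
    exact ha₀1 h2
  obtain ⟨E, ⟨hES, hEle⟩, hyE⟩ := hpart.2.1 (a₀ * b₀)
    (Subgroup.mul_mem _ (Subgroup.mem_sup_left ha₀) (Subgroup.mem_sup_right hb₀)) hy1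
  rcases rs_T2 hS B hA hF hAF hES hABc
      (fun f hf b hb => commute_of_commutator_eq_bot hc hf hb)
      (fun y hy => rs_sup_mem hABc (hEle hy)) with h1 | h1
  · rw [h1] at hyE
    have h2 : b₀ ∈ A := by
      have h3 := A.mul_mem (A.inv_mem ha₀) hyE
      rwa [inv_mul_cancel_left] at h3
    have h3 : b₀ ∈ A ⊓ B := ⟨h2, hb₀⟩
    rw [hdAB, Subgroup.mem_bot] at h3
    exact hb₀1 h3
  · have h2 : a₀ ∈ B := by
      have h3 := B.mul_mem (h1 hyE) (B.inv_mem hb₀)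
      rwa [mul_inv_cancel_right] at h3
    have h3 : a₀ ∈ A ⊓ B := ⟨ha₀, h2⟩
    rw [hdAB, Subgroup.mem_bot] at h3
    exact ha₀1 h3

/-- Any two different members of a line span it. -/
theorem rs_line_sup_eq {S : Set (Subgroup G)} (hS : IsRootSubgroupSet S)
    (hF : ∀ A ∈ S, ¬ IsIsolatedIn (FAdj S) S A) {A C : Subgroup G} (hA : A ∈ S)
    (hCL : C ∈ linePartners S A) {E₁ E₂ : Subgroup G} (hE₁ : E₁ ∈ membersIn S (A ⊔ C))
    (hE₂ : E₂ ∈ membersIn S (A ⊔ C)) (hne : E₁ ≠ E₂) : E₁ ⊔ E₂ = A ⊔ C := by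
  obtain ⟨x, hx, h1, h2⟩ := Cfsg.Agent.S5038.result hS hF hA hCL A ⟨hA, le_sup_left⟩ C
    ⟨hCL.1.1, le_sup_right⟩ E₁ hE₁ E₂ hE₂ (Ne.symm hCL.1.2.1) hne
  have hNt : (⨆ E ∈ normalizingMembers S (A ⊔ C), E) ≤
      Subgroup.normalizer ((A ⊔ C : Subgroup G) : Set G) := iSup₂_le (fun E hE => hE.2)
  have h3 : conjBy (A ⊔ C) x = A ⊔ C := (conjBy_eq_self_iff _ x).mpr (hNt hx)
  have h4 : conjBy (A ⊔ C) x = conjBy A x ⊔ conjBy C x := Subgroup.map_sup _ _ _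
  rw [← h1, ← h2, ← h4, h3]

/-- Every member of the line `A ⊔ C` other than `A` is a line partner of `A`. -/
theorem rs_mem_linePartners_of_member {S : Set (Subgroup G)} (hS : IsRootSubgroupSet S)
    (hF : ∀ A ∈ S, ¬ IsIsolatedIn (FAdj S) S A) {A C : Subgroup G} (hA : A ∈ S)
    (hCL : C ∈ linePartners S A) {C' : Subgroup G} (hC' : C' ∈ membersIn S (A ⊔ C))
    (hne : C' ≠ A) : C' ∈ linePartners S A := by
  have hsup : A ⊔ C' = A ⊔ C := rs_line_sup_eq hS hF hA hCL ⟨hA, le_sup_left⟩ hC' (Ne.symm hne)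
  have hNc := rs_line_abelian hS hA hCL
  refine ⟨⟨hC'.1, hne, ?_⟩, ?_⟩
  · rw [Subgroup.commutator_eq_bot_iff_le_centralizer]
    intro a ha
    rw [Subgroup.mem_centralizer_iff]
    intro c hc
    exact hNc c (hC'.2 hc) a (Subgroup.mem_sup_left ha)
  · rw [hsup]
    exact hCL.2

/-- Line partners are preserved by conjugation. -/
theorem rs_linePartners_conj {S : Set (Subgroup G)} (hS : IsRootSubgroupSet S) {A B : Subgroup G}
    (hBL : B ∈ linePartners S A) (g : G) : conjBy B g ∈ linePartners S (conjBy A g) := by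
  obtain ⟨⟨hB, hBA, hbot⟩, hp1, hp2, hp3⟩ := hBL
  have hsup : conjBy A g ⊔ conjBy B g = conjBy (A ⊔ B) g := (Subgroup.map_sup _ _ _).symm
  have hback : ∀ E ∈ membersIn S (conjBy (A ⊔ B) g), conjBy E g⁻¹ ∈ membersIn S (A ⊔ B) := by
    intro E hE
    refine ⟨hS.conj_mem E hE.1 g⁻¹, ?_⟩
    rintro _ ⟨e, he, rfl⟩
    have h1 := (mem_conjBy_iff (A ⊔ B) g e).mp (hE.2 he)
    show g⁻¹ * e * g⁻¹⁻¹ ∈ A ⊔ B
    rw [inv_inv]
    exact h1
  refine ⟨⟨hS.conj_mem B hB g, fun h0 => hBA (conjBy_inj B A g h0), ?_⟩, ?_⟩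
  · have h3 : conjBy ⁅A, B⁆ g = ⁅conjBy A g, conjBy B g⁆ := Subgroup.map_commutator A B _
    rw [← h3, hbot]
    exact Subgroup.map_bot _
  · rw [hsup]
    refine ⟨fun E hE => hE.2, ?_, ?_⟩
    · intro x hx hx1
      have hy : g⁻¹ * x * g ∈ A ⊔ B := (mem_conjBy_iff (A ⊔ B) g x).mp hx
      have hy1 : g⁻¹ * x * g ≠ 1 := by
        intro h0
        have e1 : x = g * (g⁻¹ * x * g) * g⁻¹ := by group
        rw [h0, mul_one, mul_inv_cancel] at e1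
        exact hx1 e1
      obtain ⟨E, hE, hyE⟩ := hp2 _ hy hy1
      refine ⟨conjBy E g, ⟨hS.conj_mem E hE.1 g, Subgroup.map_mono hE.2⟩, ?_⟩
      exact (mem_conjBy_iff E g x).mpr hyE
    · intro E hE E' hE' hne
      have hne' : conjBy E g⁻¹ ≠ conjBy E' g⁻¹ := fun h0 => hne (conjBy_inj E E' g⁻¹ h0)
      have h1 := hp3 _ (hback E hE) _ (hback E' hE') hne'
      rw [Subgroup.eq_bot_iff_forall]
      rintro x ⟨hxE, hxE'⟩
      have h2 : g⁻¹ * x * g⁻¹⁻¹ ∈ conjBy E g⁻¹ ⊓ conjBy E' g⁻¹ :=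
        ⟨conj_mem_conjBy E g⁻¹ hxE, conj_mem_conjBy E' g⁻¹ hxE'⟩
      rw [h1, Subgroup.mem_bot] at h2
      exact conj_eq_one_iff.mp h2

/-- Every line partner of `A` is conjugate to `A` under any subgroup `R` containing `A`, a rank one
partner `B` of `A` and all line partners of `A`. -/
theorem rs_linePartner_conj_in {S : Set (Subgroup G)} (hS : IsRootSubgroupSet S)
    (hF : ∀ A ∈ S, ¬ IsIsolatedIn (FAdj S) S A) {A B R : Subgroup G} (hA : A ∈ S) (hB : B ∈ S)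
    (hAB : IsRankOnePair A B) (hΛ : ∀ C ∈ linePartners S A, C ≤ R) (hAR : A ≤ R) (hBR : B ≤ R) :
    ∀ C ∈ linePartners S A, ∃ r ∈ R, C = conjBy A r := by
  classical
  have hpartner : ∀ X ∈ S, ∃ D ∈ S, IsRankOnePair X D :=
    fun X hX => exists_partner_of_not_isolated (hF X hX) hX
  intro C hCL
  have hC : C ∈ S := hCL.1.1
  have hCR : C ≤ R := hΛ C hCL
  rcases hS.pair B hB C hC with hc | hr | hcc
  · exact absurd hc (rs_partner_line_ne_bot hS hA hCL hB hAB)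
  · obtain ⟨g₁, hg₁, e₁⟩ := rs_rankOne_conj_mem hAB
    obtain ⟨g₂, hg₂, e₂⟩ := rs_rankOne_conj_mem hr
    refine ⟨g₂ * g₁, R.mul_mem (sup_le hBR hCR hg₂) (sup_le hAR hBR hg₁), ?_⟩
    calc C = conjBy B g₂ := e₂
      _ = conjBy (conjBy A g₁) g₂ := by rw [← e₁]
      _ = conjBy A (g₂ * g₁) := conjBy_conjBy _ _ _
  · have hccCB := rs_cc_symm hcc
    obtain ⟨hccAE, hAE⟩ := rs_23 hS hpartner hA hB hAB hCL hccCB
    have hE : ⁅C, B⁆ ∈ S := hccCB.1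
    have hER : ⁅C, B⁆ ≤ R := rs_commutator_le_of_le hCR hBR
    have hAm : A ∈ membersIn S (A ⊔ C) := ⟨hA, le_sup_left⟩
    have hCm : C ∈ membersIn S (A ⊔ C) := ⟨hC, le_sup_right⟩
    obtain ⟨x, _, hx1, hx2⟩ := Cfsg.Agent.S5038.result hS hF hA hCL A hAm C hCm C hCm A hAm
      (Ne.symm hCL.1.2.1) hCL.1.2.1
    have hD : conjBy ⁅C, B⁆ x ∈ S := hS.conj_mem _ hE x
    have hCD : ⁅C, conjBy ⁅C, B⁆ x⁆ = A := by
      have h3 : conjBy ⁅A, ⁅C, B⁆⁆ x = ⁅conjBy A x, conjBy ⁅C, B⁆ x⁆ :=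
        Subgroup.map_commutator A ⁅C, B⁆ _
      rw [hAE, hx2, hx1] at h3
      exact h3.symm
    have hDCe : ⁅conjBy ⁅C, B⁆ x, C⁆ = A := by
      rw [Subgroup.commutator_comm]
      exact hCD
    have hDL : conjBy ⁅C, B⁆ x ∈ linePartners S A := by
      have h4 := (Cfsg.Agent.S5029.result hS (hF _ hD) hD hC (by rw [hDCe]; exact hA)).2.2.1
      rwa [hDCe] at h4
    have hDR : conjBy ⁅C, B⁆ x ≤ R := hΛ _ hDL
    have h36 := Cfsg.Agent.S5036.result hS hC hD (by rw [hCD]; exact hA) hE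
      (by rw [hCD, Subgroup.commutator_comm]; exact hAE)
    obtain ⟨_, hset, _⟩ := h36
    have hmem : C ∈ {E' | ∃ y ∈ conjBy ⁅C, B⁆ x ⊔ ⁅C, B⁆, E' = conjBy C y} :=
      ⟨1, Subgroup.one_mem _, (conjBy_one C).symm⟩
    rw [hset] at hmem
    obtain ⟨y, hy, hyC⟩ := hmem
    rw [hCD] at hyC
    exact ⟨y, sup_le hDR hER hy, hyC⟩

end Cfsg.Agent.lead
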