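import Cfsg.Agent.Lib_lead_RootSub1

set_option autoImplicit false

namespace Cfsg.Agent.lead

open Cfsg Cfsg.Agent.helper25
open scoped commutatorElement

variable {G : Type*} [Group G] {S : Set (Subgroup G)} {A B D : Subgroup G}

/-- If `A` has the rank one partner `D` and `(A, B)` is in the commutator case, then `⁅A, B⁆` does
not commute with `D`. -/
theorem rs_cc_partner_not_comm (hS : IsRootSubgroupSet S) (hA : A ∈ S) (hB : B ∈ S) (hD : D ∈ S)
    (h : IsRankOnePair A D) (hcc : RootCommutatorCase S A B) : ⁅⁅A, B⁆, D⁆ ≠ ⊥ := by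
  intro hc
  obtain ⟨b, hb⟩ := (Subgroup.ne_bot_iff_exists_ne_one).mp (hS.ne_bot B hB)
  have hb1 : (b : G) ≠ 1 := fun h1 => hb (Subtype.ext h1)
  have hT2 := rs_T2 hS ⁅A, B⁆ hA hD h (hS.conj_mem A hA b)
    (fun a ha c hc' => (rs_cc_comm_left hcc hc' ha).symm)
    (fun d hd c hc' => (commute_of_commutator_eq_bot hc hc' hd).symm)
    (fun y hy => rs_conj_elt hcc b.2 hy)
  rcases hT2 with h1 | h1
  · exact hb1 (rs_cc_norm hS hD h hcc b.2 ((conjBy_eq_self_iff A b).mp h1))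
  · obtain ⟨a, ha, ha1⟩ := rankOne_exists_left h
    have h2 : (b : G) * a * (b : G)⁻¹ ∈ ⁅A, B⁆ := h1 (conj_mem_conjBy A b ha)
    have h3 := rs_cc_comm_right hcc h2 b.2
    have h4 : a = (b : G) * a * (b : G)⁻¹ := by
      calc a = (b : G)⁻¹ * ((b : G) * a * (b : G)⁻¹ * b) := by group
        _ = (b : G)⁻¹ * (b * ((b : G) * a * (b : G)⁻¹)) := by rw [h3]
        _ = (b : G) * a * (b : G)⁻¹ := by group
    exact ha1 (rs_cc_disj hS hD h hcc ha (h4 ▸ h2))

/-- `⁅A, B⁆ ∈ S` forces the commutator case. -/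
theorem rs_cc_of_mem (hS : IsRootSubgroupSet S) (hA : A ∈ S) (hB : B ∈ S) (hC : ⁅A, B⁆ ∈ S) :
    RootCommutatorCase S A B := by
  rcases hS.pair A hA B hB with h1 | h1 | h1
  · exact absurd h1 (hS.ne_bot _ hC)
  · exact absurd hC (rs_rankOne_comm_notin hS hA hB h1)
  · exact h1

/-- In the commutator case `A ∩ ⁅A, B⁆ = 1` (no isolation hypothesis needed). -/
theorem rs_cc_disj' (hcc : RootCommutatorCase S A B) (hS : IsRootSubgroupSet S) {x : G}
    (hxA : x ∈ A) (hxC : x ∈ ⁅A, B⁆) : x = 1 := by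
  by_contra hx1
  have hbot : ⁅A, B⁆ = ⊥ := by
    rw [← hcc.2.2.1 x hxA hx1, Subgroup.closure_eq_bot_iff]
    rintro _ ⟨b, hb, rfl⟩
    have := rs_cc_comm_right hcc hxC hb
    show x * b * x⁻¹ * b⁻¹ = 1
    rw [this]; group
  exact hS.ne_bot _ hcc.1 hbot

end Cfsg.Agent.lead
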