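import Cfsg.Agent.Lib_lead_RootSub1

set_option autoImplicit false

namespace Cfsg.Agent.lead

open Cfsg Cfsg.Agent.helper25
open scoped commutatorElement

variable {G : Type*} [Group G]

/-- Elementwise form of `rs_T2`: one element `y = a * c` of `A₁` with `1 ≠ a ∈ A` and `c` centralizing `D`
forces `(A₁, D)` to be a rank one pair. -/
theorem rs_T2_elt {S : Set (Subgroup G)} (hS : IsRootSubgroupSet S) {A D A₁ : Subgroup G}
    (hD : D ∈ S) (h : IsRankOnePair A D) (hA₁ : A₁ ∈ S)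
    {y a c : G} (hy : y ∈ A₁) (ha : a ∈ A) (ha1 : a ≠ 1) (hcD : ∀ d ∈ D, d * c = c * d)
    (hyac : y = a * c) : IsRankOnePair A₁ D := by
  have hkey : ∀ d ∈ D, y * d * y⁻¹ * d⁻¹ = a * d * a⁻¹ * d⁻¹ := by
    intro d hd
    have hcd := hcD d hd
    rw [hyac]
    calc a * c * d * (a * c)⁻¹ * d⁻¹ = a * (c * d) * c⁻¹ * a⁻¹ * d⁻¹ := by group
      _ = a * (d * c) * c⁻¹ * a⁻¹ * d⁻¹ := by rw [hcd]
      _ = a * d * a⁻¹ * d⁻¹ := by group
  have hcomm_fail : (∀ b ∈ D, ∀ b' ∈ D, (y * b * y⁻¹ * b⁻¹) * b' = b' * (y * b * y⁻¹ * b⁻¹)) →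
      False := by
    intro hc'
    apply rankOne_commutators_not_central h (hS.commutative D hD) ha ha1
    intro b hb b' hb'
    rw [← hkey b hb]
    exact hc' b hb b' hb'
  rcases hS.pair A₁ hA₁ D hD with hc' | hr | hcc
  · exfalso
    apply hcomm_fail
    intro b hb b' _
    have := commute_of_commutator_eq_bot hc' hy hb
    have e : y * b * y⁻¹ * b⁻¹ = 1 := by
      rw [this]; group
    rw [e, one_mul, mul_one]
  · exact hr
  · exfalso
    apply hcomm_fail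
    obtain ⟨_, hcen, _, _⟩ := hcc
    intro b hb b' hb'
    have hm : y * b * y⁻¹ * b⁻¹ ∈ ⁅A₁, D⁆ := by
      rw [← commutatorElement_def]
      exact Subgroup.commutator_mem_commutator hy hb
    exact hcen _ hm b' (Subgroup.mem_sup_right hb')

/-- Lemma H: `(A, C)` rank one, `B` commuting with `A`, `(C, B)` not rank one. Then every member of `S`
containing a product `a * b` with `1 ≠ a ∈ A`, `b ∈ B` forms a rank one pair with `C`. -/
theorem rs_lemmaH {S : Set (Subgroup G)} (hS : IsRootSubgroupSet S) {A B C E : Subgroup G}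
    (hB : B ∈ S) (hC : C ∈ S) (hE : E ∈ S) (h : IsRankOnePair A C)
    (hAB : ∀ a ∈ A, ∀ b ∈ B, a * b = b * a) (hnr : ¬ IsRankOnePair C B)
    {a b : G} (ha : a ∈ A) (ha1 : a ≠ 1) (hb : b ∈ B) (hab : a * b ∈ E) : IsRankOnePair E C := by
  rcases hS.pair C hC B hB with hc | hr | hcc
  · refine rs_T2_elt hS hC h hE hab ha ha1 ?_ rfl
    intro d hd
    exact commute_of_commutator_eq_bot hc hd hb
  · exact absurd hr hnr
  · obtain ⟨c, hc, _, hrel⟩ := h.cond_left a⁻¹ (A.inv_mem ha) (fun h0 => ha1 (inv_eq_one.mp h0))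
    rw [inv_inv] at hrel
    -- hrel : conjBy A c⁻¹ = conjBy C a
    obtain ⟨k, hk⟩ : ∃ k, k = c⁻¹ * b * c * b⁻¹ := ⟨_, rfl⟩
    have hkK : k ∈ ⁅C, B⁆ := by
      have := rs_cc_mem (A := C) (B := B) (C.inv_mem hc) hb
      rw [inv_inv] at this
      rw [hk]
      exact this
    have hkC : ∀ d ∈ C, d * k = k * d := fun d hd => (rs_cc_comm_left hcc hkK hd).symm
    have hw : ∀ d ∈ C, d * (a⁻¹ * (c⁻¹ * b * c) * a) = (a⁻¹ * (c⁻¹ * b * c) * a) * d := by
      intro d hd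
      have h1 : a * d * a⁻¹ ∈ conjBy C a := conj_mem_conjBy C a hd
      rw [← hrel, mem_conjBy_iff] at h1
      have h2 := hAB _ h1 b hb
      calc d * (a⁻¹ * (c⁻¹ * b * c) * a)
          = (c * a)⁻¹ * ((c⁻¹)⁻¹ * (a * d * a⁻¹) * c⁻¹ * b) * (c * a) := by group
        _ = (c * a)⁻¹ * (b * ((c⁻¹)⁻¹ * (a * d * a⁻¹) * c⁻¹)) * (c * a) := by rw [h2]
        _ = (a⁻¹ * (c⁻¹ * b * c) * a) * d := by group
    have hab' : a * b = b * a := hAB a ha b hb
    have e : (k⁻¹ * a * (k⁻¹)⁻¹)⁻¹ * (a * b) = k⁻¹ * (a⁻¹ * (c⁻¹ * b * c) * a) := by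
      rw [hab', hk]
      group
    have hc₀ : ∀ d ∈ C, d * ((k⁻¹ * a * (k⁻¹)⁻¹)⁻¹ * (a * b)) =
        ((k⁻¹ * a * (k⁻¹)⁻¹)⁻¹ * (a * b)) * d := by
      intro d hd
      rw [e]
      exact ((show Commute d k from hkC d hd).inv_right.mul_right
        (show Commute d (a⁻¹ * (c⁻¹ * b * c) * a) from hw d hd)).eq
    have h₂ : IsRankOnePair (conjBy A k⁻¹) C := by
      have h3 := rs_rankOne_conj h k⁻¹
      rwa [rs_conjBy_of_commute C k⁻¹
        (fun d hd => ((show Commute d k from hkC d hd).inv_right).eq)] at h3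
    exact rs_T2_elt hS hC h₂ hE hab (conj_mem_conjBy A k⁻¹ ha)
      (fun h0 => ha1 (conj_eq_one_iff.mp h0)) hc₀ (mul_inv_cancel_left _ _).symm

/-! ### Components of the graph of rank one pairs -/

theorem rs_FAdj_symm {S : Set (Subgroup G)} {X Y : Subgroup G} (h : FAdj S X Y) : FAdj S Y X :=
  ⟨h.2.1, h.1, RankOnePair_symm h.2.2⟩

theorem rs_rtg_symm {S : Set (Subgroup G)} {X Y : Subgroup G}
    (h : Relation.ReflTransGen (FAdj S) X Y) : Relation.ReflTransGen (FAdj S) Y X := by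
  induction h with
  | refl => exact Relation.ReflTransGen.refl
  | tail _ hbc ih => exact Relation.ReflTransGen.head (rs_FAdj_symm hbc) ih

theorem rs_rtg_of_eq {r : Subgroup G → Subgroup G → Prop} {X Y : Subgroup G} (h : X = Y) :
    Relation.ReflTransGen r X Y := by
  subst h
  exact Relation.ReflTransGen.refl

theorem rs_comp_eq {S : Set (Subgroup G)} {X Y : Subgroup G}
    (h : Relation.ReflTransGen (FAdj S) X Y) :
    componentOf (FAdj S) S X = componentOf (FAdj S) S Y := by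
  have h' := rs_rtg_symm h
  ext Z
  simp only [componentOf, Set.mem_setOf_eq]
  exact ⟨fun ⟨hZ, hr⟩ => ⟨hZ, h'.trans hr⟩, fun ⟨hZ, hr⟩ => ⟨hZ, h.trans hr⟩⟩

theorem rs_comp_eq_of_rankOne {S : Set (Subgroup G)} {X Y : Subgroup G} (hX : X ∈ S) (hY : Y ∈ S)
    (h : IsRankOnePair X Y) : componentOf (FAdj S) S X = componentOf (FAdj S) S Y :=
  rs_comp_eq (Relation.ReflTransGen.single ⟨hX, hY, h⟩)

theorem rs_rankOne_conj_exists {C D : Subgroup G} (h : IsRankOnePair C D) : ∃ g : G, D = conjBy C g := by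
  obtain ⟨a, ha, ha1⟩ := rankOne_exists_left h
  obtain ⟨b, _, _, hrel⟩ := h.cond_left a ha ha1
  have := (conjBy_eq_iff D (conjBy C b⁻¹) a⁻¹).mp hrel.symm
  rw [inv_inv, conjBy_conjBy] at this
  exact ⟨a * b⁻¹, this⟩

theorem rs_conj_of_path {S : Set (Subgroup G)} {X Y : Subgroup G}
    (h : Relation.ReflTransGen (FAdj S) X Y) : ∃ g : G, Y = conjBy X g := by
  induction h with
  | refl => exact ⟨1, (conjBy_one X).symm⟩
  | tail _ hCD ih =>
    obtain ⟨g, rfl⟩ := ih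
    obtain ⟨g', hg'⟩ := rs_rankOne_conj_exists hCD.2.2
    exact ⟨g' * g, by rw [hg', conjBy_conjBy]⟩

end Cfsg.Agent.lead
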