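import Cfsg.Agent.Lib_lead_RootSub2

set_option autoImplicit false

namespace Cfsg.Agent.lead

open Cfsg Cfsg.Agent.helper25
open scoped commutatorElement

variable {G : Type*} [Group G]

/-! ### Generic lemmas on commutators, normalizers and central chains -/

theorem rs_conj_mem_of_normalizer {T : Subgroup G} {g t : G}
    (hg : g ∈ Subgroup.normalizer (T : Set G)) (ht : t ∈ T) : g * t * g⁻¹ ∈ T :=
  (Subgroup.mem_normalizer_iff.mp hg t).mp ht

theorem rs_comm_closure (T : Subgroup G) (P Q : Set G)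
    (hP : ∀ p ∈ P, p ∈ Subgroup.normalizer (T : Set G))
    (hQ : ∀ q ∈ Q, q ∈ Subgroup.normalizer (T : Set G))
    (h : ∀ p ∈ P, ∀ q ∈ Q, p * q * p⁻¹ * q⁻¹ ∈ T) :
    ∀ x ∈ Subgroup.closure P, ∀ y ∈ Subgroup.closure Q, x * y * x⁻¹ * y⁻¹ ∈ T := by
  have hPn : Subgroup.closure P ≤ Subgroup.normalizer (T : Set G) := (Subgroup.closure_le _).mpr hP
  have hQn : Subgroup.closure Q ≤ Subgroup.normalizer (T : Set G) := (Subgroup.closure_le _).mpr hQ
  have h1 : ∀ p ∈ P, ∀ y ∈ Subgroup.closure Q, p * y * p⁻¹ * y⁻¹ ∈ T := by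
    intro p hp y hy
    induction hy using Subgroup.closure_induction with
    | mem q hq => exact h p hp q hq
    | one => simp
    | mul y₁ y₂ hy₁ hy₂ ih₁ ih₂ =>
      have e : p * (y₁ * y₂) * p⁻¹ * (y₁ * y₂)⁻¹ =
          (p * y₁ * p⁻¹ * y₁⁻¹) * (y₁ * (p * y₂ * p⁻¹ * y₂⁻¹) * y₁⁻¹) := by group
      rw [e]
      exact T.mul_mem ih₁ (rs_conj_mem_of_normalizer (hQn hy₁) ih₂)
    | inv y hy ih =>
      have e : p * y⁻¹ * p⁻¹ * y⁻¹⁻¹ = y⁻¹ * (p * y * p⁻¹ * y⁻¹)⁻¹ * y⁻¹⁻¹ := by group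
      rw [e]
      exact rs_conj_mem_of_normalizer (Subgroup.inv_mem _ (hQn hy)) (T.inv_mem ih)
  intro x hx y hy
  induction hx using Subgroup.closure_induction with
  | mem p hp => exact h1 p hp y hy
  | one => simp
  | mul x₁ x₂ hx₁ hx₂ ih₁ ih₂ =>
    have e : (x₁ * x₂) * y * (x₁ * x₂)⁻¹ * y⁻¹ =
        (x₁ * (x₂ * y * x₂⁻¹ * y⁻¹) * x₁⁻¹) * (x₁ * y * x₁⁻¹ * y⁻¹) := by group
    rw [e]
    exact T.mul_mem (rs_conj_mem_of_normalizer (hPn hx₁) ih₂) ih₁
  | inv x hx ih =>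
    have e : x⁻¹ * y * x⁻¹⁻¹ * y⁻¹ = x⁻¹ * (x * y * x⁻¹ * y⁻¹)⁻¹ * x⁻¹⁻¹ := by group
    rw [e]
    exact rs_conj_mem_of_normalizer (Subgroup.inv_mem _ (hPn hx)) (T.inv_mem ih)

theorem rs_le_normalizer_of_conj_mem (K W : Subgroup G) (h : ∀ g ∈ K, ∀ w ∈ W, g * w * g⁻¹ ∈ W) :
    K ≤ Subgroup.normalizer (W : Set G) := by
  intro g hg
  rw [Subgroup.mem_normalizer_iff]
  intro x
  constructor
  · exact h g hg x
  · intro hx
    have := h g⁻¹ (K.inv_mem hg) _ hx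
    have e : g⁻¹ * (g * x * g⁻¹) * g⁻¹⁻¹ = x := by group
    rwa [e] at this

theorem rs_chain_step (T : Subgroup G) (Q P : Set G)
    (hTn : Subgroup.closure Q ≤ Subgroup.normalizer (T : Set G))
    (hPR : P ⊆ (Subgroup.closure Q : Set G))
    (h : ∀ p ∈ P, ∀ q ∈ Q, p * q * p⁻¹ * q⁻¹ ∈ T) :
    Subgroup.closure Q ≤ Subgroup.normalizer ((Subgroup.closure P ⊔ T : Subgroup G) : Set G) ∧
    ∀ x ∈ Subgroup.closure P ⊔ T, ∀ g ∈ Subgroup.closure Q, x * g * x⁻¹ * g⁻¹ ∈ T := by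
  have hT' : Subgroup.closure P ⊔ T = Subgroup.closure (P ∪ (T : Set G)) := by
    rw [Subgroup.closure_union, Subgroup.closure_eq]
  have h2 : ∀ x ∈ Subgroup.closure P ⊔ T, ∀ g ∈ Subgroup.closure Q, x * g * x⁻¹ * g⁻¹ ∈ T := by
    rw [hT']
    apply rs_comm_closure T (P ∪ (T : Set G)) Q
    · rintro p (hp | hp)
      · exact hTn (hPR hp)
      · exact Subgroup.le_normalizer hp
    · intro q hq
      exact hTn (Subgroup.subset_closure hq)
    · rintro p (hp | hp) q hq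
      · exact h p hp q hq
      · have hq' : q ∈ Subgroup.normalizer (T : Set G) := hTn (Subgroup.subset_closure hq)
        have h3 := rs_conj_mem_of_normalizer hq' (T.inv_mem hp)
        have e : p * q * p⁻¹ * q⁻¹ = p * (q * p⁻¹ * q⁻¹) := by group
        rw [e]
        exact T.mul_mem hp h3
  refine ⟨?_, h2⟩
  apply rs_le_normalizer_of_conj_mem
  intro g hg x hx
  have hx' := h2 x⁻¹ (Subgroup.inv_mem _ hx) g hg
  have e : g * x * g⁻¹ = x * (x⁻¹ * g * x⁻¹⁻¹ * g⁻¹) := by group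
  rw [e]
  exact Subgroup.mul_mem _ hx (Subgroup.mem_sup_right hx')

theorem rs_nilpotent_of_chain4 (R T1 T2 T3 : Subgroup G)
    (h1 : ∀ x ∈ T1, ∀ g ∈ R, x * g * x⁻¹ * g⁻¹ = 1)
    (h2 : ∀ x ∈ T2, ∀ g ∈ R, x * g * x⁻¹ * g⁻¹ ∈ T1)
    (h3 : ∀ x ∈ T3, ∀ g ∈ R, x * g * x⁻¹ * g⁻¹ ∈ T2)
    (h4 : ∀ x ∈ R, ∀ g ∈ R, x * g * x⁻¹ * g⁻¹ ∈ T3) : Group.IsNilpotent ↥R := by
  have u1 : ∀ x : ↥R, (x : G) ∈ T1 → x ∈ Subgroup.upperCentralSeries ↥R (0 + 1) := by
    intro x hx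
    rw [Subgroup.mem_upperCentralSeries_succ_iff]
    intro y
    rw [Subgroup.upperCentralSeries_zero, Subgroup.mem_bot]
    apply Subtype.ext
    exact h1 x hx y y.2
  have u2 : ∀ x : ↥R, (x : G) ∈ T2 → x ∈ Subgroup.upperCentralSeries ↥R (1 + 1) := by
    intro x hx
    rw [Subgroup.mem_upperCentralSeries_succ_iff]
    intro y
    apply u1
    exact h2 x hx y y.2
  have u3 : ∀ x : ↥R, (x : G) ∈ T3 → x ∈ Subgroup.upperCentralSeries ↥R (2 + 1) := by
    intro x hx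
    rw [Subgroup.mem_upperCentralSeries_succ_iff]
    intro y
    apply u2
    exact h3 x hx y y.2
  have u4 : ∀ x : ↥R, x ∈ Subgroup.upperCentralSeries ↥R (3 + 1) := by
    intro x
    rw [Subgroup.mem_upperCentralSeries_succ_iff]
    intro y
    apply u3
    exact h4 x x.2 y y.2
  exact ⟨⟨4, eq_top_iff.mpr (fun x _ => u4 x)⟩⟩

theorem rs_sup_comm {H K : Subgroup G} (hH : ∀ x ∈ H, ∀ y ∈ H, x * y = y * x)
    (hK : ∀ x ∈ K, ∀ y ∈ K, x * y = y * x) (hHK : ∀ x ∈ H, ∀ y ∈ K, x * y = y * x) :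
    ∀ x ∈ H ⊔ K, ∀ y ∈ H ⊔ K, x * y = y * x := by
  have h1 : H ⊔ K ≤ Subgroup.centralizer ((H ⊔ K : Subgroup G) : Set G) := by
    apply sup_le
    · rw [Subgroup.le_centralizer_iff]
      apply sup_le
      · intro x hx
        rw [Subgroup.mem_centralizer_iff]
        intro y hy
        exact hH y hy x hx
      · intro x hx
        rw [Subgroup.mem_centralizer_iff]
        intro y hy
        exact hHK y hy x hx
    · rw [Subgroup.le_centralizer_iff]
      apply sup_le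
      · intro x hx
        rw [Subgroup.mem_centralizer_iff]
        intro y hy
        exact (hHK x hx y hy).symm
      · intro x hx
        rw [Subgroup.mem_centralizer_iff]
        intro y hy
        exact hK y hy x hx
  intro x hx y hy
  have := h1 hy
  rw [Subgroup.mem_centralizer_iff] at this
  exact this x hx

theorem rs_isMulComm_of {H : Subgroup G} (h : ∀ x ∈ H, ∀ y ∈ H, x * y = y * x) :
    IsMulCommutative ↥H :=
  ⟨⟨fun x y => Subtype.ext (h x x.2 y y.2)⟩⟩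

theorem rs_commutator_commute {H K : Subgroup G} {g : G} (hH : ∀ h ∈ H, h * g = g * h)
    (hK : ∀ k ∈ K, k * g = g * k) : ∀ z ∈ ⁅H, K⁆, z * g = g * z := by
  have hle : ⁅H, K⁆ ≤ Subgroup.centralizer ({g} : Set G) := by
    rw [Subgroup.commutator_le]
    intro a ha n hn
    have h1 : a ∈ Subgroup.centralizer ({g} : Set G) := by
      rw [Subgroup.mem_centralizer_iff]
      intro x hx
      rw [Set.mem_singleton_iff] at hx
      rw [hx]
      exact (hH a ha).symm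
    have h2 : n ∈ Subgroup.centralizer ({g} : Set G) := by
      rw [Subgroup.mem_centralizer_iff]
      intro x hx
      rw [Set.mem_singleton_iff] at hx
      rw [hx]
      exact (hK n hn).symm
    rw [commutatorElement_def]
    exact Subgroup.mul_mem _ (Subgroup.mul_mem _ (Subgroup.mul_mem _ h1 h2) (Subgroup.inv_mem _ h1))
      (Subgroup.inv_mem _ h2)
  intro z hz
  have := hle hz
  rw [Subgroup.mem_centralizer_iff] at this
  exact (this g rfl).symm

theorem rs_commutator_le_of_le {H K L : Subgroup G} (hH : H ≤ L) (hK : K ≤ L) : ⁅H, K⁆ ≤ L := by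
  rw [Subgroup.commutator_le]
  intro a ha n hn
  rw [commutatorElement_def]
  exact L.mul_mem (L.mul_mem (L.mul_mem (hH ha) (hK hn)) (L.inv_mem (hH ha))) (L.inv_mem (hK hn))

theorem rs_comm_mem (T : Subgroup G) {p q : G} (h : p * q = q * p) : p * q * p⁻¹ * q⁻¹ ∈ T := by
  have e : p * q * p⁻¹ * q⁻¹ = 1 := by rw [h, mul_inv_cancel_right, mul_inv_cancel]
  rw [e]
  exact T.one_mem

theorem rs_commute_of_conj {g x y : G}
    (h : (g⁻¹ * x * g) * (g⁻¹ * y * g) = (g⁻¹ * y * g) * (g⁻¹ * x * g)) : x * y = y * x := by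
  calc x * y = g * ((g⁻¹ * x * g) * (g⁻¹ * y * g)) * g⁻¹ := by group
    _ = g * ((g⁻¹ * y * g) * (g⁻¹ * x * g)) * g⁻¹ := by rw [h]
    _ = y * x := by group

theorem rs_bot_normalizer (g : G) : g ∈ Subgroup.normalizer (((⊥ : Subgroup G) : Subgroup G) : Set G) := by
  rw [Subgroup.mem_normalizer_iff]
  intro h
  rw [Subgroup.mem_bot, Subgroup.mem_bot, conj_eq_one_iff]

end Cfsg.Agent.lead
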