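import Cfsg.Agent.Lib_lead_RootSub5

set_option autoImplicit false

namespace Cfsg.Agent.lead

open Cfsg Cfsg.Agent.helper25
open scoped commutatorElement

variable {G : Type*} [Group G]

/-- Configuration of Timmesfeld II(2.2): `(A, B)` and `(C, B)` in the commutator case, `A` and `C` commuting. -/
structure RS30 (S : Set (Subgroup G)) (A B C : Subgroup G) : Prop where
  hS : IsRootSubgroupSet S
  hA : A ∈ S
  hB : B ∈ S
  hC : C ∈ S
  ccA : RootCommutatorCase S A B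
  ccC : RootCommutatorCase S C B
  comm : ∀ a ∈ A, ∀ c ∈ C, a * c = c * a

namespace RS30

variable {S : Set (Subgroup G)} {A B C : Subgroup G}

theorem swap (k : RS30 S A B C) : RS30 S C B A :=
  ⟨k.hS, k.hC, k.hB, k.hA, k.ccC, k.ccA, fun c hc a ha => (k.comm a ha c hc).symm⟩

theorem aa (k : RS30 S A B C) {a a' : G} (ha : a ∈ A) (ha' : a' ∈ A) : a * a' = a' * a := by
  have := k.hS.commutative A k.hA
  exact setLike_mul_comm ha ha'

theorem bb (k : RS30 S A B C) {b b' : G} (hb : b ∈ B) (hb' : b' ∈ B) : b * b' = b' * b := by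
  have := k.hS.commutative B k.hB
  exact setLike_mul_comm hb hb'

theorem mA (k : RS30 S A B C) {m a : G} (hm : m ∈ ⁅A, B⁆) (ha : a ∈ A) : m * a = a * m :=
  rs_cc_comm_left k.ccA hm ha

theorem mB (k : RS30 S A B C) {m b : G} (hm : m ∈ ⁅A, B⁆) (hb : b ∈ B) : m * b = b * m :=
  rs_cc_comm_right k.ccA hm hb

theorem exists_b (k : RS30 S A B C) : ∃ b ∈ B, b ≠ 1 :=
  (B.bot_or_exists_ne_one).resolve_left (k.hS.ne_bot B k.hB)

theorem exists_a (k : RS30 S A B C) : ∃ a ∈ A, a ≠ 1 :=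
  (A.bot_or_exists_ne_one).resolve_left (k.hS.ne_bot A k.hA)

theorem surjM (k : RS30 S A B C) {b m : G} (hb : b ∈ B) (hb1 : b ≠ 1) (hm : m ∈ ⁅A, B⁆) :
    ∃ a ∈ A, b * a * b⁻¹ * a⁻¹ = m := by
  have hm' : m ∈ ⁅B, A⁆ := by
    rw [Subgroup.commutator_comm]
    exact hm
  exact rs_cc_surj (rs_cc_symm k.ccA) hb hb1 hm'

/-- Elements of `b' A b'⁻¹`, `b' ∈ B`, lie in `⁅A, B⁆ A`. -/
theorem conjA_elt (k : RS30 S A B C) {b' y : G} (hb' : b' ∈ B) (hy : y ∈ conjBy A b') :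
    ∃ m ∈ ⁅A, B⁆, ∃ a ∈ A, y = m * a := by
  rw [mem_conjBy_iff] at hy
  obtain ⟨a, ha⟩ : ∃ a, a = b'⁻¹ * y * b' := ⟨_, rfl⟩
  rw [← ha] at hy
  refine ⟨(a * b' * a⁻¹ * b'⁻¹)⁻¹, Subgroup.inv_mem _ (rs_cc_mem hy hb'), a, hy, ?_⟩
  rw [ha]
  group

theorem not_rankOne (k : RS30 S A B C) : ¬ IsRankOnePair A ⁅C, B⁆ := by
  intro hr
  obtain ⟨b, hb, hb1⟩ := k.exists_b
  have hN : ⁅C, B⁆ ∈ S := k.ccC.1
  have hNC : ∀ n ∈ ⁅C, B⁆, ∀ c ∈ C, n * c = c * n := fun n hn c hc => k.swap.mA hn hc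
  have hNB : ∀ n ∈ ⁅C, B⁆, ∀ b ∈ B, n * b = b * n := fun n hn b hb => k.swap.mB hn hb
  rcases rs_T2 k.hS C hN k.hA (RankOnePair_symm hr) (k.hS.conj_mem C k.hC b⁻¹) hNC k.comm
      (fun y hy => k.swap.conjA_elt (B.inv_mem hb) hy) with h1 | h1
  · have h2 : C = ⁅C, B⁆ := by
      have h3 := (conjBy_eq_iff C ⁅C, B⁆ b⁻¹).mp h1
      rw [inv_inv, rs_conjBy_of_commute ⁅C, B⁆ b (fun n hn => hNB n hn b hb)] at h3
      exact h3
    apply k.hS.ne_bot _ hN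
    rw [Subgroup.commutator_eq_bot_iff_le_centralizer]
    intro c hc
    rw [Subgroup.mem_centralizer_iff]
    intro b' hb'
    have hc' : c ∈ ⁅C, B⁆ := h2 ▸ hc
    exact (hNB c hc' b' hb').symm
  · apply rankOne_commutator_ne_bot hr
    rw [Subgroup.commutator_eq_bot_iff_le_centralizer]
    intro a ha
    rw [Subgroup.mem_centralizer_iff]
    intro n hn
    obtain ⟨c, hc, hcn⟩ := k.swap.surjM (B.inv_mem hb) (fun h0 => hb1 (inv_eq_one.mp h0)) hn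
    have hnC : n ∈ C := by
      rw [← hcn]
      exact C.mul_mem (h1 (conj_mem_conjBy C b⁻¹ hc)) (C.inv_mem hc)
    exact (k.comm a ha n hnC).symm

theorem dich (k : RS30 S A B C) : ⁅A, ⁅C, B⁆⁆ = ⊥ ∨ RootCommutatorCase S A ⁅C, B⁆ := by
  rcases k.hS.pair A k.hA _ k.ccC.1 with h | h | h
  · exact Or.inl h
  · exact absurd h k.not_rankOne
  · exact Or.inr h

theorem zA (k : RS30 S A B C) {z a : G} (hz : z ∈ ⁅A, ⁅C, B⁆⁆) (ha : a ∈ A) : z * a = a * z := by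
  rcases k.dich with h | h
  · rw [h, Subgroup.mem_bot] at hz
    rw [hz, one_mul, mul_one]
  · exact rs_cc_comm_left h hz ha

theorem zN (k : RS30 S A B C) {z n : G} (hz : z ∈ ⁅A, ⁅C, B⁆⁆) (hn : n ∈ ⁅C, B⁆) : z * n = n * z := by
  rcases k.dich with h | h
  · rw [h, Subgroup.mem_bot] at hz
    rw [hz, one_mul, mul_one]
  · exact rs_cc_comm_right h hz hn

theorem zC (k : RS30 S A B C) {z c : G} (hz : z ∈ ⁅A, ⁅C, B⁆⁆) (hc : c ∈ C) : z * c = c * z :=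
  rs_commutator_commute (fun a ha => k.comm a ha c hc) (fun n hn => k.swap.mA hn hc) z hz

theorem zM (k : RS30 S A B C) {z m : G} (hz : z ∈ ⁅A, ⁅C, B⁆⁆) (hm : m ∈ ⁅A, B⁆) : z * m = m * z := by
  obtain ⟨b, hb, hb1⟩ := k.exists_b
  have hbi : b⁻¹ ∈ B := B.inv_mem hb
  have hbi1 : b⁻¹ ≠ 1 := fun h0 => hb1 (inv_eq_one.mp h0)
  obtain ⟨a', ha', hm'⟩ := k.surjM hbi hbi1 hm
  have hle : ⁅A, ⁅C, B⁆⁆ ≤ Subgroup.centralizer ({m} : Set G) := by
    rw [Subgroup.commutator_le]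
    intro a ha n hn
    obtain ⟨c, hc, hn'⟩ := k.swap.surjM hbi hbi1 hn
    rw [Subgroup.mem_centralizer_iff]
    intro x hx
    rw [Set.mem_singleton_iff] at hx
    rw [hx]
    obtain ⟨a₁, ha₁⟩ : ∃ a₁, a₁ = b⁻¹ * a' * b⁻¹⁻¹ := ⟨_, rfl⟩
    obtain ⟨c₁, hc₁⟩ : ∃ c₁, c₁ = b⁻¹ * c * b⁻¹⁻¹ := ⟨_, rfl⟩
    rw [← ha₁] at hm'
    rw [← hc₁] at hn'
    have hzz : ⁅a, n⁆ ∈ ⁅A, ⁅C, B⁆⁆ := Subgroup.commutator_mem_commutator ha hn
    have h1 : Commute a' ⁅a, n⁆ := (k.zA hzz ha').symm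
    have h2 : Commute a₁ a := by
      have e : a₁ = m * a' := by
        rw [← hm']
        group
      rw [e]
      exact (show Commute m a from k.mA hm ha).mul_left (show Commute a' a from k.aa ha' ha)
    have h3 : Commute a₁ c₁ := by
      have hac : a' * c = c * a' := k.comm a' ha' c hc
      show a₁ * c₁ = c₁ * a₁
      rw [ha₁, hc₁]
      calc b⁻¹ * a' * b⁻¹⁻¹ * (b⁻¹ * c * b⁻¹⁻¹) = b⁻¹ * (a' * c) * b⁻¹⁻¹ := by group
        _ = b⁻¹ * (c * a') * b⁻¹⁻¹ := by rw [hac]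
        _ = b⁻¹ * c * b⁻¹⁻¹ * (b⁻¹ * a' * b⁻¹⁻¹) := by group
    have h4 : ⁅a, n⁆ = a * c₁ * a⁻¹ * c₁⁻¹ := by
      have hac : Commute a c := k.comm a ha c hc
      have h5 : c⁻¹ * a⁻¹ * c = a⁻¹ := by
        have h6 : a⁻¹ * c = c * a⁻¹ := hac.inv_left.eq
        rw [mul_assoc, h6, inv_mul_cancel_left]
      rw [commutatorElement_def, ← hn']
      calc a * (c₁ * c⁻¹) * a⁻¹ * (c₁ * c⁻¹)⁻¹ = a * c₁ * (c⁻¹ * a⁻¹ * c) * c₁⁻¹ := by group
        _ = a * c₁ * a⁻¹ * c₁⁻¹ := by rw [h5]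
    have h7 : Commute a₁ ⁅a, n⁆ := by
      rw [h4]
      exact ((h2.mul_right h3).mul_right h2.inv_right).mul_right h3.inv_right
    rw [← hm']
    exact (h7.mul_left h1.inv_left).eq
  have := hle hz
  rw [Subgroup.mem_centralizer_iff] at this
  exact (this m rfl).symm

theorem not_rankOne_ZB (k : RS30 S A B C) (hcc : RootCommutatorCase S A ⁅C, B⁆) :
    ¬ IsRankOnePair ⁅A, ⁅C, B⁆⁆ B := by
  intro hr
  obtain ⟨a, ha, ha1⟩ := k.exists_a
  have hZ : ⁅A, ⁅C, B⁆⁆ ∈ S := hcc.1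
  have hN : ⁅C, B⁆ ∈ S := k.ccC.1
  have hle : ∀ y ∈ conjBy ⁅C, B⁆ a, ∃ z ∈ ⁅A, ⁅C, B⁆⁆, ∃ n ∈ ⁅C, B⁆, y = z * n := by
    intro y hy
    rw [mem_conjBy_iff] at hy
    obtain ⟨n, hn⟩ : ∃ n, n = a⁻¹ * y * a := ⟨_, rfl⟩
    rw [← hn] at hy
    refine ⟨a * n * a⁻¹ * n⁻¹, rs_cc_mem ha hy, n, hy, ?_⟩
    rw [hn]
    group
  rcases rs_T2 k.hS ⁅C, B⁆ hZ k.hB hr (k.hS.conj_mem _ hN a)
      (fun z hz n hn => k.zN hz hn) (fun b hb n hn => (k.swap.mB hn hb).symm) hle with h1 | h1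
  · have h2 : ⁅C, B⁆ = ⁅A, ⁅C, B⁆⁆ := by
      have h3 := (conjBy_eq_iff ⁅C, B⁆ ⁅A, ⁅C, B⁆⁆ a).mp h1
      rw [rs_conjBy_of_commute ⁅A, ⁅C, B⁆⁆ a⁻¹
        (fun z hz => ((show Commute z a from k.zA hz ha).inv_right).eq)] at h3
      exact h3
    apply k.hS.ne_bot _ hZ
    rw [Subgroup.commutator_eq_bot_iff_le_centralizer]
    intro a' ha'
    rw [Subgroup.mem_centralizer_iff]
    intro n hn
    have hn' : n ∈ ⁅A, ⁅C, B⁆⁆ := by
      rw [← h2]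
      exact hn
    exact k.zA hn' ha'
  · apply rankOne_commutator_ne_bot hr
    rw [Subgroup.commutator_eq_bot_iff_le_centralizer]
    intro z hz
    rw [Subgroup.mem_centralizer_iff]
    intro b hb
    have hzN : z ∈ ⁅C, B⁆ := by
      have h3 := hcc.2.2.1 a ha ha1
      rw [← h3] at hz
      refine (Subgroup.closure_le _).mpr ?_ hz
      rintro _ ⟨n, hn, rfl⟩
      exact Subgroup.mul_mem _ (h1 (conj_mem_conjBy _ a hn)) (Subgroup.inv_mem _ hn)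
    exact (k.swap.mB hzN hb).symm

theorem dichZB (k : RS30 S A B C) :
    ⁅⁅A, ⁅C, B⁆⁆, B⁆ = ⊥ ∨ RootCommutatorCase S ⁅A, ⁅C, B⁆⁆ B := by
  rcases k.dich with h | h
  · left
    rw [h]
    exact Subgroup.commutator_bot_left B
  · rcases k.hS.pair _ h.1 B k.hB with h' | h' | h'
    · exact Or.inl h'
    · exact absurd h' (k.not_rankOne_ZB h)
    · exact Or.inr h'

theorem vB (k : RS30 S A B C) {v b : G} (hv : v ∈ ⁅⁅A, ⁅C, B⁆⁆, B⁆) (hb : b ∈ B) : v * b = b * v := by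
  rcases k.dichZB with h | h
  · rw [h, Subgroup.mem_bot] at hv
    rw [hv, one_mul, mul_one]
  · exact rs_cc_comm_right h hv hb

theorem vA (k : RS30 S A B C) {v a : G} (hv : v ∈ ⁅⁅A, ⁅C, B⁆⁆, B⁆) (ha : a ∈ A) : v * a = a * v := by
  have h3 : ⁅⁅⁅A, ⁅C, B⁆⁆, B⁆, A⁆ = ⊥ := by
    apply Subgroup.commutator_commutator_eq_bot_of_rotate
    · rw [Subgroup.commutator_comm B A, Subgroup.commutator_eq_bot_iff_le_centralizer]
      intro m hm
      rw [Subgroup.mem_centralizer_iff]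
      intro z hz
      exact k.zM hz hm
    · have h4 : ⁅A, ⁅A, ⁅C, B⁆⁆⁆ = ⊥ := by
        rw [Subgroup.commutator_eq_bot_iff_le_centralizer]
        intro a ha
        rw [Subgroup.mem_centralizer_iff]
        intro z hz
        exact k.zA hz ha
      rw [h4]
      exact Subgroup.commutator_bot_left B
  exact commute_of_commutator_eq_bot h3 hv ha

theorem vC (k : RS30 S A B C) {v c : G} (hv : v ∈ ⁅⁅A, ⁅C, B⁆⁆, B⁆) (hc : c ∈ C) : v * c = c * v := by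
  have h3 : ⁅⁅⁅A, ⁅C, B⁆⁆, B⁆, C⁆ = ⊥ := by
    apply Subgroup.commutator_commutator_eq_bot_of_rotate
    · rw [Subgroup.commutator_comm B C, Subgroup.commutator_eq_bot_iff_le_centralizer]
      intro n hn
      rw [Subgroup.mem_centralizer_iff]
      intro z hz
      exact k.zN hz hn
    · have h4 : ⁅C, ⁅A, ⁅C, B⁆⁆⁆ = ⊥ := by
        rw [Subgroup.commutator_eq_bot_iff_le_centralizer]
        intro c hc
        rw [Subgroup.mem_centralizer_iff]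
        intro z hz
        exact k.zC hz hc
      rw [h4]
      exact Subgroup.commutator_bot_left B
  exact commute_of_commutator_eq_bot h3 hv hc

theorem z_bot (k : RS30 S A B C) (h : ⁅A, ⁅C, B⁆⁆ = ⊥) : ⁅C, ⁅A, B⁆⁆ = ⊥ := by
  have h3 : ⁅⁅A, B⁆, C⁆ = ⊥ := by
    apply Subgroup.commutator_commutator_eq_bot_of_rotate
    · rw [Subgroup.commutator_comm B C, Subgroup.commutator_comm ⁅C, B⁆ A]
      exact h
    · have h4 : ⁅C, A⁆ = ⊥ := by
        rw [Subgroup.commutator_eq_bot_iff_le_centralizer]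
        intro c hc
        rw [Subgroup.mem_centralizer_iff]
        intro a ha
        exact k.comm a ha c hc
      rw [h4]
      exact Subgroup.commutator_bot_left B
  rw [Subgroup.commutator_comm C ⁅A, B⁆]
  exact h3

end RS30

end Cfsg.Agent.lead
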