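import Cfsg.Agent.Lib_lead_RootSub6

set_option autoImplicit false

namespace Cfsg.Agent.lead

open Cfsg Cfsg.Agent.helper25
open scoped commutatorElement

variable {G : Type*} [Group G]

namespace RS30

variable {S : Set (Subgroup G)} {A B C : Subgroup G}

theorem X_comm_of_bot (k : RS30 S A B C) (h : ⁅A, ⁅C, B⁆⁆ = ⊥) {b' : G} (hb' : b' ∈ B) :
    ∀ x ∈ A ⊔ conjBy C b', ∀ y ∈ A ⊔ conjBy C b', x * y = y * x := by
  have hC' : IsMulCommutative ↥(conjBy C b') := k.hS.commutative _ (k.hS.conj_mem C k.hC b')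
  apply rs_sup_comm
  · intro x hx y hy
    exact k.aa hx hy
  · intro x hx y hy
    exact setLike_mul_comm hx hy
  · intro a ha y hy
    obtain ⟨n, hn, c, hc, rfl⟩ := k.swap.conjA_elt hb' hy
    exact ((show Commute a n from commute_of_commutator_eq_bot h ha hn).mul_right
      (show Commute a c from k.comm a ha c hc)).eq

theorem X_not_comm (k : RS30 S A B C) (h : ⁅A, ⁅C, B⁆⁆ ≠ ⊥) {b' : G} (hb' : b' ∈ B) (hb'1 : b' ≠ 1) :
    ¬ ∀ x ∈ A ⊔ conjBy C b', ∀ y ∈ A ⊔ conjBy C b', x * y = y * x := by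
  intro hX
  apply h
  rw [Subgroup.commutator_eq_bot_iff_le_centralizer]
  intro a ha
  rw [Subgroup.mem_centralizer_iff]
  intro n hn
  obtain ⟨c, hc, hcn⟩ := k.swap.surjM hb' hb'1 hn
  have h1 : Commute a (b' * c * b'⁻¹) :=
    hX a (Subgroup.mem_sup_left ha) _ (Subgroup.mem_sup_right (conj_mem_conjBy C b' hc))
  have h2 : Commute a c := k.comm a ha c hc
  rw [← hcn]
  exact (h1.mul_right h2.inv_right).eq.symm

theorem X_class2 (k : RS30 S A B C) {b' : G} (hb' : b' ∈ B) :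
    ⁅⁅A ⊔ conjBy C b', A ⊔ conjBy C b'⁆, A ⊔ conjBy C b'⁆ = ⊥ := by
  have hC' : IsMulCommutative ↥(conjBy C b') := k.hS.commutative _ (k.hS.conj_mem C k.hC b')
  have hzC' : ∀ z ∈ ⁅A, ⁅C, B⁆⁆, ∀ y ∈ conjBy C b', z * y = y * z := by
    intro z hz y hy
    obtain ⟨n, hn, c, hc, rfl⟩ := k.swap.conjA_elt hb' hy
    exact ((show Commute z n from k.zN hz hn).mul_right (show Commute z c from k.zC hz hc)).eq
  have hX : A ⊔ conjBy C b' = Subgroup.closure ((A : Set G) ∪ (conjBy C b' : Set G)) :=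
    Subgroup.sup_eq_closure _ _
  have hnorm : ∀ p ∈ (A : Set G) ∪ (conjBy C b' : Set G),
      p ∈ Subgroup.normalizer ((⁅A, ⁅C, B⁆⁆ : Subgroup G) : Set G) := by
    rintro p (hp | hp)
    · exact rs_mem_normalizer_of_commute _ p (fun z hz => (k.zA hz hp).symm)
    · exact rs_mem_normalizer_of_commute _ p (fun z hz => (hzC' z hz p hp).symm)
  have step1 : ⁅A ⊔ conjBy C b', A ⊔ conjBy C b'⁆ ≤ ⁅A, ⁅C, B⁆⁆ := by
    rw [Subgroup.commutator_le]
    intro x hx y hy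
    rw [commutatorElement_def]
    rw [hX] at hx hy
    refine rs_comm_closure ⁅A, ⁅C, B⁆⁆ _ _ hnorm hnorm ?_ x hx y hy
    rintro p (hp | hp) q (hq | hq)
    · exact rs_comm_mem _ (k.aa hp hq)
    · obtain ⟨n, hn, c, hc, rfl⟩ := k.swap.conjA_elt hb' hq
      have hpc : p * c = c * p := k.comm p hp c hc
      have e : p * (n * c) * p⁻¹ * (n * c)⁻¹ = p * n * p⁻¹ * n⁻¹ := by
        have h5 : c * p⁻¹ * c⁻¹ = p⁻¹ := by
          have h6 : c * p⁻¹ = p⁻¹ * c := ((show Commute c p from hpc.symm).inv_right).eq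
          rw [h6, mul_inv_cancel_right]
        calc p * (n * c) * p⁻¹ * (n * c)⁻¹ = p * n * (c * p⁻¹ * c⁻¹) * n⁻¹ := by group
          _ = p * n * p⁻¹ * n⁻¹ := by rw [h5]
      rw [e]
      exact rs_cc_mem hp hn
    · obtain ⟨n, hn, c, hc, rfl⟩ := k.swap.conjA_elt hb' hp
      have hqc : q * c = c * q := k.comm q hq c hc
      have e : (n * c) * q * (n * c)⁻¹ * q⁻¹ = (q * n * q⁻¹ * n⁻¹)⁻¹ := by
        have h5 : c * q * c⁻¹ = q := by
          rw [← hqc, mul_inv_cancel_right]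
        calc (n * c) * q * (n * c)⁻¹ * q⁻¹ = n * (c * q * c⁻¹) * n⁻¹ * q⁻¹ := by group
          _ = n * q * n⁻¹ * q⁻¹ := by rw [h5]
          _ = (q * n * q⁻¹ * n⁻¹)⁻¹ := by group
      rw [e]
      exact Subgroup.inv_mem _ (rs_cc_mem hq hn)
    · exact rs_comm_mem _ (setLike_mul_comm hp hq)
  have step2 : ⁅⁅A, ⁅C, B⁆⁆, A ⊔ conjBy C b'⁆ = ⊥ := by
    rw [Subgroup.commutator_eq_bot_iff_le_centralizer, Subgroup.le_centralizer_iff]
    apply sup_le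
    · intro a ha
      rw [Subgroup.mem_centralizer_iff]
      intro z hz
      exact k.zA hz ha
    · intro y hy
      rw [Subgroup.mem_centralizer_iff]
      intro z hz
      exact hzC' z hz y hy
  exact le_bot_iff.mp ((Subgroup.commutator_mono step1 le_rfl).trans step2.le)

theorem XY_comm (k : RS30 S A B C) {b' : G} (hb' : b' ∈ B) :
    ⁅A ⊔ conjBy C b', conjBy A b' ⊔ C⁆ = ⊥ := by
  have hC := k.hS.commutative C k.hC
  rw [Subgroup.commutator_eq_bot_iff_le_centralizer]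
  apply sup_le
  · rw [Subgroup.le_centralizer_iff]
    apply sup_le
    · intro y hy
      rw [Subgroup.mem_centralizer_iff]
      intro a ha
      obtain ⟨m, hm, a₀, ha₀, rfl⟩ := k.conjA_elt hb' hy
      exact ((show Commute a m from (k.mA hm ha).symm).mul_right
        (show Commute a a₀ from k.aa ha ha₀)).eq
    · intro c hc
      rw [Subgroup.mem_centralizer_iff]
      intro a ha
      exact k.comm a ha c hc
  · rw [Subgroup.le_centralizer_iff]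
    apply sup_le
    · intro y hy
      rw [Subgroup.mem_centralizer_iff]
      intro y' hy'
      rw [mem_conjBy_iff] at hy
      have hy'' : b'⁻¹ * y' * b' ∈ C := (mem_conjBy_iff C b' y').mp hy'
      exact rs_commute_of_conj (g := b') (k.comm _ hy _ hy'').symm
    · intro c hc
      rw [Subgroup.mem_centralizer_iff]
      intro y' hy'
      obtain ⟨n, hn, c', hc', rfl⟩ := k.swap.conjA_elt hb' hy'
      exact ((show Commute c n from (k.swap.mA hn hc).symm).mul_right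
        (show Commute c c' from setLike_mul_comm hc hc')).eq.symm

theorem M_le (k : RS30 S A B C) {b' : G} (hb' : b' ∈ B) (hb'1 : b' ≠ 1) {W : Subgroup G}
    (hA : A ≤ W) (hA' : conjBy A b' ≤ W) : ⁅A, B⁆ ≤ W := by
  intro m hm
  obtain ⟨a, ha, rfl⟩ := k.surjM hb' hb'1 hm
  exact W.mul_mem (hA' (conj_mem_conjBy A b' ha)) (W.inv_mem (hA ha))

theorem conj_gen (_k : RS30 S A B C) {β a : G} (hβ : β ∈ B) (ha : a ∈ A) {W : Subgroup G}
    (hM : ⁅A, B⁆ ≤ W) (hA : A ≤ W) : β * a * β⁻¹ ∈ W := by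
  have e : β * a * β⁻¹ = (a * β * a⁻¹ * β⁻¹)⁻¹ * a := by group
  rw [e]
  exact W.mul_mem (W.inv_mem (hM (rs_cc_mem ha hβ))) (hA ha)

theorem conj_gen' (k : RS30 S A B C) {β b' y : G} (hβ : β ∈ B) (hb' : b' ∈ B)
    (hy : y ∈ conjBy A b') {W : Subgroup G} (hM : ⁅A, B⁆ ≤ W) (hA : A ≤ W) : β * y * β⁻¹ ∈ W := by
  obtain ⟨m, hm, a, ha, rfl⟩ := k.conjA_elt hb' hy
  have hmβ : m * β = β * m := k.mB hm hβ
  have e : β * (m * a) * β⁻¹ = m * (β * a * β⁻¹) := by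
    calc β * (m * a) * β⁻¹ = (β * m) * a * β⁻¹ := by group
      _ = (m * β) * a * β⁻¹ := by rw [hmβ]
      _ = m * (β * a * β⁻¹) := by group
  rw [e]
  exact W.mul_mem (hM hm) (k.conj_gen hβ ha hM hA)

theorem W_normal (k : RS30 S A B C) {b' : G} (hb' : b' ∈ B) (hb'1 : b' ≠ 1) :
    A ⊔ B ⊔ C ≤ Subgroup.normalizer
      (((A ⊔ conjBy C b') ⊔ (conjBy A b' ⊔ C) : Subgroup G) : Set G) := by
  obtain ⟨W, hW⟩ : ∃ W, W = (A ⊔ conjBy C b') ⊔ (conjBy A b' ⊔ C) := ⟨_, rfl⟩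
  rw [← hW]
  have hAW : A ≤ W := by
    rw [hW]
    exact le_sup_left.trans le_sup_left
  have hC'W : conjBy C b' ≤ W := by
    rw [hW]
    exact le_sup_right.trans le_sup_left
  have hA'W : conjBy A b' ≤ W := by
    rw [hW]
    exact le_sup_left.trans le_sup_right
  have hCW : C ≤ W := by
    rw [hW]
    exact le_sup_right.trans le_sup_right
  have hMW := k.M_le hb' hb'1 hAW hA'W
  have hNW := k.swap.M_le hb' hb'1 hCW hC'W
  have hB : B ≤ Subgroup.normalizer (W : Set G) := by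
    apply rs_le_normalizer_of_conj_mem
    intro β hβ w hw
    have key : (A ⊔ conjBy C b') ⊔ (conjBy A b' ⊔ C) ≤ W.comap (MulAut.conj β).toMonoidHom := by
      refine sup_le (sup_le ?_ ?_) (sup_le ?_ ?_)
      · intro a ha
        rw [Subgroup.mem_comap]
        exact k.conj_gen hβ ha hMW hAW
      · intro y hy
        rw [Subgroup.mem_comap]
        exact k.swap.conj_gen' hβ hb' hy hNW hCW
      · intro y hy
        rw [Subgroup.mem_comap]
        exact k.conj_gen' hβ hb' hy hMW hAW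
      · intro c hc
        rw [Subgroup.mem_comap]
        exact k.swap.conj_gen hβ hc hNW hCW
    have hw' : w ∈ (A ⊔ conjBy C b') ⊔ (conjBy A b' ⊔ C) := by
      rw [← hW]
      exact hw
    exact key hw'
  exact sup_le (sup_le (hAW.trans Subgroup.le_normalizer) hB) (hCW.trans Subgroup.le_normalizer)

theorem W_sup_B (_k : RS30 S A B C) {b' : G} (hb' : b' ∈ B) :
    ((A ⊔ conjBy C b') ⊔ (conjBy A b' ⊔ C)) ⊔ B = A ⊔ B ⊔ C := by
  have hAR : A ≤ A ⊔ B ⊔ C := le_sup_left.trans le_sup_left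
  have hBR : B ≤ A ⊔ B ⊔ C := le_sup_right.trans le_sup_left
  have hCR : C ≤ A ⊔ B ⊔ C := le_sup_right
  apply le_antisymm
  · refine sup_le (sup_le (sup_le hAR ?_) (sup_le ?_ hCR)) hBR
    · exact conjBy_le C _ hCR (hBR hb')
    · exact conjBy_le A _ hAR (hBR hb')
  · refine sup_le (sup_le ?_ le_sup_right) ?_
    · exact (le_sup_left.trans le_sup_left).trans le_sup_left
    · exact (le_sup_right.trans le_sup_right).trans le_sup_left

theorem nilpotent (k : RS30 S A B C) : Group.IsNilpotent ↥(A ⊔ B ⊔ C) := by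
  obtain ⟨Q, hQ⟩ : ∃ Q : Set G, Q = (A : Set G) ∪ (B : Set G) ∪ (C : Set G) := ⟨_, rfl⟩
  have hR : A ⊔ B ⊔ C = Subgroup.closure Q := by
    rw [hQ, Subgroup.closure_union, Subgroup.closure_union, Subgroup.closure_eq,
      Subgroup.closure_eq, Subgroup.closure_eq]
  have hAR : A ≤ Subgroup.closure Q := by
    rw [← hR]
    exact le_sup_left.trans le_sup_left
  have hBR : B ≤ Subgroup.closure Q := by
    rw [← hR]
    exact le_sup_right.trans le_sup_left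
  have hCR : C ≤ Subgroup.closure Q := by
    rw [← hR]
    exact le_sup_right
  have hMR : ⁅A, B⁆ ≤ Subgroup.closure Q := rs_commutator_le_of_le hAR hBR
  have hNR : ⁅C, B⁆ ≤ Subgroup.closure Q := rs_commutator_le_of_le hCR hBR
  have hZ1R : ⁅A, ⁅C, B⁆⁆ ≤ Subgroup.closure Q := rs_commutator_le_of_le hAR hNR
  have hZ2R : ⁅C, ⁅A, B⁆⁆ ≤ Subgroup.closure Q := rs_commutator_le_of_le hCR hMR
  have hV1R : ⁅⁅A, ⁅C, B⁆⁆, B⁆ ≤ Subgroup.closure Q := rs_commutator_le_of_le hZ1R hBR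
  have hV2R : ⁅⁅C, ⁅A, B⁆⁆, B⁆ ≤ Subgroup.closure Q := rs_commutator_le_of_le hZ2R hBR
  obtain ⟨P1, hP1⟩ : ∃ P1 : Set G,
      P1 = ((⁅⁅A, ⁅C, B⁆⁆, B⁆ : Subgroup G) : Set G) ∪ ((⁅⁅C, ⁅A, B⁆⁆, B⁆ : Subgroup G) : Set G) :=
    ⟨_, rfl⟩
  obtain ⟨P2, hP2⟩ : ∃ P2 : Set G,
      P2 = ((⁅A, ⁅C, B⁆⁆ : Subgroup G) : Set G) ∪ ((⁅C, ⁅A, B⁆⁆ : Subgroup G) : Set G) := ⟨_, rfl⟩
  obtain ⟨P3, hP3⟩ : ∃ P3 : Set G,
      P3 = ((⁅A, B⁆ : Subgroup G) : Set G) ∪ ((⁅C, B⁆ : Subgroup G) : Set G) := ⟨_, rfl⟩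
  have hP1R : P1 ⊆ (Subgroup.closure Q : Set G) := by
    rw [hP1]
    rintro p (hp | hp)
    · exact hV1R hp
    · exact hV2R hp
  have hP2R : P2 ⊆ (Subgroup.closure Q : Set G) := by
    rw [hP2]
    rintro p (hp | hp)
    · exact hZ1R hp
    · exact hZ2R hp
  have hP3R : P3 ⊆ (Subgroup.closure Q : Set G) := by
    rw [hP3]
    rintro p (hp | hp)
    · exact hMR hp
    · exact hNR hp
  -- step 1
  have h1 : ∀ p ∈ P1, ∀ q ∈ Q, p * q * p⁻¹ * q⁻¹ ∈ (⊥ : Subgroup G) := by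
    rw [hP1, hQ]
    rintro p (hp | hp) q ((hq | hq) | hq)
    · exact rs_comm_mem _ (k.vA hp hq)
    · exact rs_comm_mem _ (k.vB hp hq)
    · exact rs_comm_mem _ (k.vC hp hq)
    · exact rs_comm_mem _ (k.swap.vC hp hq)
    · exact rs_comm_mem _ (k.swap.vB hp hq)
    · exact rs_comm_mem _ (k.swap.vA hp hq)
  have s1 := rs_chain_step ⊥ Q P1 (fun g _ => rs_bot_normalizer g) hP1R h1
  obtain ⟨T1, hT1⟩ : ∃ T1, T1 = Subgroup.closure P1 ⊔ ⊥ := ⟨_, rfl⟩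
  rw [← hT1] at s1
  have hP1T : P1 ⊆ (T1 : Set G) := by
    intro x hx
    rw [hT1]
    exact Subgroup.mem_sup_left (Subgroup.subset_closure hx)
  have hV1T : ⁅⁅A, ⁅C, B⁆⁆, B⁆ ≤ T1 := fun x hx => hP1T (by rw [hP1]; exact Or.inl hx)
  have hV2T : ⁅⁅C, ⁅A, B⁆⁆, B⁆ ≤ T1 := fun x hx => hP1T (by rw [hP1]; exact Or.inr hx)
  -- step 2
  have h2 : ∀ p ∈ P2, ∀ q ∈ Q, p * q * p⁻¹ * q⁻¹ ∈ T1 := by
    rw [hP2, hQ]
    rintro p (hp | hp) q ((hq | hq) | hq)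
    · exact rs_comm_mem _ (k.zA hp hq)
    · exact hV1T (rs_cc_mem hp hq)
    · exact rs_comm_mem _ (k.zC hp hq)
    · exact rs_comm_mem _ (k.swap.zC hp hq)
    · exact hV2T (rs_cc_mem hp hq)
    · exact rs_comm_mem _ (k.swap.zA hp hq)
  have s2 := rs_chain_step T1 Q P2 s1.1 hP2R h2
  obtain ⟨T2, hT2⟩ : ∃ T2, T2 = Subgroup.closure P2 ⊔ T1 := ⟨_, rfl⟩
  rw [← hT2] at s2
  have hP2T : P2 ⊆ (T2 : Set G) := by
    intro x hx
    rw [hT2]
    exact Subgroup.mem_sup_left (Subgroup.subset_closure hx)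
  have hZ1T : ⁅A, ⁅C, B⁆⁆ ≤ T2 := fun x hx => hP2T (by rw [hP2]; exact Or.inl hx)
  have hZ2T : ⁅C, ⁅A, B⁆⁆ ≤ T2 := fun x hx => hP2T (by rw [hP2]; exact Or.inr hx)
  -- step 3
  have h3 : ∀ p ∈ P3, ∀ q ∈ Q, p * q * p⁻¹ * q⁻¹ ∈ T2 := by
    rw [hP3, hQ]
    rintro p (hp | hp) q ((hq | hq) | hq)
    · exact rs_comm_mem _ (k.mA hp hq)
    · exact rs_comm_mem _ (k.mB hp hq)
    · have e : p * q * p⁻¹ * q⁻¹ = (q * p * q⁻¹ * p⁻¹)⁻¹ := by group
      rw [e]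
      exact hZ2T (Subgroup.inv_mem _ (rs_cc_mem hq hp))
    · have e : p * q * p⁻¹ * q⁻¹ = (q * p * q⁻¹ * p⁻¹)⁻¹ := by group
      rw [e]
      exact hZ1T (Subgroup.inv_mem _ (rs_cc_mem hq hp))
    · exact rs_comm_mem _ (k.swap.mB hp hq)
    · exact rs_comm_mem _ (k.swap.mA hp hq)
  have s3 := rs_chain_step T2 Q P3 s2.1 hP3R h3
  obtain ⟨T3, hT3⟩ : ∃ T3, T3 = Subgroup.closure P3 ⊔ T2 := ⟨_, rfl⟩
  rw [← hT3] at s3
  have hP3T : P3 ⊆ (T3 : Set G) := by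
    intro x hx
    rw [hT3]
    exact Subgroup.mem_sup_left (Subgroup.subset_closure hx)
  have hMT : ⁅A, B⁆ ≤ T3 := fun x hx => hP3T (by rw [hP3]; exact Or.inl hx)
  have hNT : ⁅C, B⁆ ≤ T3 := fun x hx => hP3T (by rw [hP3]; exact Or.inr hx)
  -- step 4
  have hQn : ∀ q ∈ Q, q ∈ Subgroup.normalizer (T3 : Set G) :=
    fun q hq => s3.1 (Subgroup.subset_closure hq)
  have h4 : ∀ x ∈ Subgroup.closure Q, ∀ g ∈ Subgroup.closure Q, x * g * x⁻¹ * g⁻¹ ∈ T3 := by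
    apply rs_comm_closure T3 Q Q hQn hQn
    rw [hQ]
    have hC := k.hS.commutative C k.hC
    rintro p ((hp | hp) | hp) q ((hq | hq) | hq)
    · exact rs_comm_mem _ (k.aa hp hq)
    · exact hMT (rs_cc_mem hp hq)
    · exact rs_comm_mem _ (k.comm p hp q hq)
    · have e : p * q * p⁻¹ * q⁻¹ = (q * p * q⁻¹ * p⁻¹)⁻¹ := by group
      rw [e]
      exact hMT (Subgroup.inv_mem _ (rs_cc_mem hq hp))
    · exact rs_comm_mem _ (k.bb hp hq)
    · have e : p * q * p⁻¹ * q⁻¹ = (q * p * q⁻¹ * p⁻¹)⁻¹ := by group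
      rw [e]
      exact hNT (Subgroup.inv_mem _ (rs_cc_mem hq hp))
    · exact rs_comm_mem _ (k.comm q hq p hp).symm
    · exact hNT (rs_cc_mem hp hq)
    · exact rs_comm_mem _ (setLike_mul_comm hp hq)
  exact rs_nilpotent_of_chain4 (A ⊔ B ⊔ C) T1 T2 T3
    (fun x hx g hg => Subgroup.mem_bot.mp (s1.2 x hx g (hR.le hg)))
    (fun x hx g hg => s2.2 x hx g (hR.le hg))
    (fun x hx g hg => s3.2 x hx g (hR.le hg))
    (fun x hx g hg => h4 x (hR.le hx) g (hR.le hg))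

end RS30

end Cfsg.Agent.lead
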