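import Cfsg.Statements.S5029
import Cfsg.Agent.Lib_lead_RootSub1

set_option autoImplicit false
open Cfsg

namespace Cfsg.Agent.S5029

/-- Let S be a set of abstract root subgroups of G, A ∈ S having a rank one partner in S, and B ∈ S with C = ⁅A, B⁆ ∈ S. Then the members of S contained in AC are the conjugates of A by elements of B together with C, they partition AC, the members of S inside AC partition AC so that A is a line partner of C, and for every non-identity a ∈ A the map b ↦ a⁻¹ b⁻¹ a b is an isomorphism from B onto C. -/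
theorem result {G : Type*} [Group G] {S : Set (Subgroup G)} (hS : Cfsg.IsRootSubgroupSet S)
    {A B : Subgroup G} (hA : ¬ Cfsg.IsIsolatedIn (Cfsg.FAdj S) S A) (hAS : A ∈ S) (hB : B ∈ S) (hC : ⁅A, B⁆ ∈ S) :
    Cfsg.membersIn S (A ⊔ ⁅A, B⁆) = (fun b : G => Cfsg.conjBy A b) '' (B : Set G) ∪ {⁅A, B⁆} ∧
    Cfsg.IsSubgroupPartition (A ⊔ ⁅A, B⁆) (Cfsg.membersIn S (A ⊔ ⁅A, B⁆)) ∧
    A ∈ Cfsg.linePartners S ⁅A, B⁆ ∧
    ∀ a ∈ A, a ≠ 1 → ∃ φ : ↥B ≃* ↥⁅A, B⁆, ∀ b : ↥B, (φ b : G) = a⁻¹ * (b : G)⁻¹ * a * b := by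
  classical
  obtain ⟨D, hD, h⟩ := Cfsg.Agent.helper25.exists_partner_of_not_isolated hA hAS
  have hcc : Cfsg.RootCommutatorCase S A B := by
    rcases hS.pair A hAS B hB with h1 | h1 | h1
    · exact absurd h1 (hS.ne_bot _ hC)
    · exact absurd hC (Cfsg.Agent.lead.rs_rankOne_comm_notin hS hAS hB h1)
    · exact h1
  have hcommAC : ∀ a ∈ A, ∀ c ∈ ⁅A, B⁆, a * c = c * a :=
    fun a ha c hc => (Cfsg.Agent.lead.rs_cc_comm_left hcc hc ha).symm
  have h1 : Cfsg.membersIn S (A ⊔ ⁅A, B⁆) =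
      (fun b : G => Cfsg.conjBy A b) '' (B : Set G) ∪ {⁅A, B⁆} := by
    ext E
    constructor
    · rintro ⟨hE, hle⟩
      by_cases hEC : E ≤ ⁅A, B⁆
      · right
        exact Cfsg.Agent.lead.rs_sub_eq hS hAS hB hD h hcc hE hEC
      · left
        obtain ⟨y, hy, hyC⟩ := SetLike.not_le_iff_exists.mp hEC
        obtain ⟨a, ha, c, hc, rfl⟩ := Cfsg.Agent.lead.rs_sup_mem hcommAC (hle hy)
        have ha1 : a ≠ 1 := by
          rintro rfl
          rw [one_mul] at hyC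
          exact hyC hc
        obtain ⟨b, hb, hyb⟩ := Cfsg.Agent.lead.rs_exists_conj hcc ha ha1 hc
        have hy1 : a * c ≠ 1 := by
          intro h1
          rw [h1] at hyC
          exact hyC (Subgroup.one_mem _)
        refine ⟨b, hb, ?_⟩
        exact (Cfsg.Agent.lead.rs_TI hS (hS.conj_mem D hD b) (Cfsg.Agent.lead.rs_rankOne_conj h b)
          hE hyb hy hy1).symm
    · rintro (⟨b, hb, rfl⟩ | hE)
      · refine ⟨hS.conj_mem A hAS b, ?_⟩
        intro y hy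
        obtain ⟨a, ha, c, hc, rfl⟩ := Cfsg.Agent.lead.rs_conj_elt hcc hb hy
        exact Subgroup.mul_mem _ (Subgroup.mem_sup_left ha) (Subgroup.mem_sup_right hc)
      · rw [Set.mem_singleton_iff] at hE
        rw [hE]
        exact ⟨hC, le_sup_right⟩
  have hTIconj : ∀ b : G, ∀ F ∈ S, ∀ x : G, x ∈ Cfsg.conjBy A b → x ∈ F → x ≠ 1 →
      F = Cfsg.conjBy A b := by
    intro b F hF x hxA hxF hx1
    exact Cfsg.Agent.lead.rs_TI hS (hS.conj_mem D hD b) (Cfsg.Agent.lead.rs_rankOne_conj h b)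
      hF hxA hxF hx1
  have h2 : Cfsg.IsSubgroupPartition (A ⊔ ⁅A, B⁆) (Cfsg.membersIn S (A ⊔ ⁅A, B⁆)) := by
    refine ⟨fun E hE => hE.2, ?_, ?_⟩
    · intro x hx hx1
      obtain ⟨a, ha, c, hc, rfl⟩ := Cfsg.Agent.lead.rs_sup_mem hcommAC hx
      by_cases ha1 : a = 1
      · refine ⟨⁅A, B⁆, ⟨hC, le_sup_right⟩, ?_⟩
        rw [ha1, one_mul]
        exact hc
      · obtain ⟨b, hb, hyb⟩ := Cfsg.Agent.lead.rs_exists_conj hcc ha ha1 hc
        refine ⟨Cfsg.conjBy A b, ?_, hyb⟩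
        rw [h1]
        left
        exact ⟨b, hb, rfl⟩
    · intro E hE F hF hne
      have hE' := hE
      have hF' := hF
      rw [h1] at hE' hF'
      by_contra hbot
      obtain ⟨x, hx⟩ := (Subgroup.ne_bot_iff_exists_ne_one).mp hbot
      have hx1 : (x : G) ≠ 1 := fun h => hx (Subtype.ext h)
      have hxE : (x : G) ∈ E := (Subgroup.mem_inf.mp x.2).1
      have hxF : (x : G) ∈ F := (Subgroup.mem_inf.mp x.2).2
      rcases hE' with ⟨b, _, rfl⟩ | hE'
      · exact hne (hTIconj b F hF.1 x hxE hxF hx1).symm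
      · rcases hF' with ⟨b, _, rfl⟩ | hF'
        · exact hne (hTIconj b E hE.1 x hxF hxE hx1)
        · rw [Set.mem_singleton_iff] at hE' hF'
          exact hne (hE'.trans hF'.symm)
  refine ⟨h1, h2, ?_, ?_⟩
  · refine ⟨⟨hAS, ?_, ?_⟩, ?_⟩
    · intro hAC
      obtain ⟨a, ha, ha1⟩ := Cfsg.Agent.helper25.rankOne_exists_left h
      have haC : a ∈ ⁅A, B⁆ := by rw [← hAC]; exact ha
      exact ha1 (Cfsg.Agent.lead.rs_cc_disj hS hD h hcc ha haC)
    · rw [Subgroup.commutator_eq_bot_iff_le_centralizer]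
      intro c hc
      rw [Subgroup.mem_centralizer_iff]
      intro a ha
      exact hcommAC a ha c hc
    · rw [sup_comm]
      exact h2
  · intro a ha ha1
    have ha' : a⁻¹ ∈ A := A.inv_mem ha
    have ha1' : a⁻¹ ≠ 1 := fun h => ha1 (inv_eq_one.mp h)
    have hCcomm := hS.commutative _ hC
    have hmem : ∀ b : G, b ∈ B → a⁻¹ * b⁻¹ * a * b ∈ ⁅A, B⁆ := by
      intro b hb
      have := Cfsg.Agent.lead.rs_cc_mem (A := A) (B := B) ha' (B.inv_mem hb)
      rwa [inv_inv, inv_inv] at this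
    have hmul : ∀ b₁ b₂ : G, b₁ ∈ B → b₂ ∈ B →
        a⁻¹ * (b₁ * b₂)⁻¹ * a * (b₁ * b₂) = (a⁻¹ * b₁⁻¹ * a * b₁) * (a⁻¹ * b₂⁻¹ * a * b₂) := by
      intro b₁ b₂ hb₁ hb₂
      have := Cfsg.Agent.lead.rs_cc_hom hcc ha' (B.inv_mem hb₂) (B.inv_mem hb₁)
      simp only [inv_inv, mul_inv_rev] at this
      rw [mul_inv_rev, this]
      exact setLike_mul_comm (hmem b₂ hb₂) (hmem b₁ hb₁)
    let ψ : ↥B →* ↥⁅A, B⁆ :=
      { toFun := fun b => ⟨a⁻¹ * (b : G)⁻¹ * a * b, hmem b b.2⟩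
        map_one' := by
          apply Subtype.ext
          show a⁻¹ * ((1 : ↥B) : G)⁻¹ * a * ((1 : ↥B) : G) = 1
          simp
        map_mul' := by
          intro b₁ b₂
          apply Subtype.ext
          exact hmul b₁ b₂ b₁.2 b₂.2 }
    have hinj : Function.Injective ψ := by
      rw [injective_iff_map_eq_one]
      intro b hb
      have hb' : a⁻¹ * (b : G)⁻¹ * a * b = 1 := congrArg Subtype.val hb
      have hab : a * (b : G) = b * a := by
        calc a * (b : G) = b * a * (a⁻¹ * (b : G)⁻¹ * a * b) := by group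
          _ = b * a := by rw [hb', mul_one]
      exact Subtype.ext (Cfsg.Agent.lead.rs_cc_inj hS hAS hD h hcc ha ha1 b.2 hab)
    have hsurj : Function.Surjective ψ := by
      rintro ⟨c, hc⟩
      obtain ⟨b, hb, hbc⟩ := Cfsg.Agent.lead.rs_cc_surj hcc ha' ha1' hc
      refine ⟨⟨b⁻¹, B.inv_mem hb⟩, ?_⟩
      apply Subtype.ext
      show a⁻¹ * (b⁻¹)⁻¹ * a * b⁻¹ = c
      rw [← hbc, inv_inv, inv_inv]
    exact ⟨MulEquiv.ofBijective ψ ⟨hinj, hsurj⟩, fun b => rfl⟩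

end Cfsg.Agent.S5029
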