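import Cfsg.Agent.Lib_lead_RootSub2
import Cfsg.Agent.S5029

set_option autoImplicit false

namespace Cfsg.Agent.lead

open Cfsg Cfsg.Agent.helper25
open scoped commutatorElement

variable {G : Type*} [Group G]

theorem rs_linePartners_symm {S : Set (Subgroup G)} {A B : Subgroup G} (hA : A ∈ S)
    (h : B ∈ linePartners S A) : A ∈ linePartners S B := by
  obtain ⟨⟨_, hne, hc⟩, hp⟩ := h
  refine ⟨⟨hA, fun h0 => hne h0.symm, ?_⟩, ?_⟩
  · rw [Subgroup.commutator_comm]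
    exact hc
  · rw [sup_comm]
    exact hp

theorem rs_not_isolated_of_partner {S : Set (Subgroup G)} {X D : Subgroup G} (hX : X ∈ S) (hD : D ∈ S)
    (hr : IsRankOnePair X D) : ¬ IsIsolatedIn (FAdj S) S X :=
  fun ⟨_, hiso⟩ => (hiso D).1 ⟨hX, hD, hr⟩

/-- If `(A, B)` is a rank one pair and `A` is in the commutator case with some `D`, then some line
partner `C` of `A` has `⁅B, C⁆ ∈ S`. -/
theorem rs_claimX {S : Set (Subgroup G)} (hS : IsRootSubgroupSet S) {A B D : Subgroup G}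
    (hA : A ∈ S) (hB : B ∈ S) (hD : D ∈ S) (hAB : IsRankOnePair A B)
    (hcc : RootCommutatorCase S A D) : ∃ C ∈ linePartners S A, ⁅B, C⁆ ∈ S := by
  classical
  have hE : ⁅A, D⁆ ∈ S := hcc.1
  have hniA : ¬ IsIsolatedIn (FAdj S) S A := rs_not_isolated_of_partner hA hB hAB
  obtain ⟨hmem, hpart, hline, _⟩ := Cfsg.Agent.S5029.result hS hniA hA hD hE
  have hAE : ∀ a ∈ A, ∀ e ∈ ⁅A, D⁆, a * e = e * a :=
    fun a ha e he => (rs_cc_comm_left hcc he ha).symm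
  have hEE : ∀ e ∈ ⁅A, D⁆, ∀ e' ∈ ⁅A, D⁆, e * e' = e' * e := by
    intro e he e' he'
    have := hS.commutative _ hE
    exact setLike_mul_comm he he'
  have hAA : ∀ a ∈ A, ∀ a' ∈ A, a * a' = a' * a := by
    intro a ha a' ha'
    have := hS.commutative _ hA
    exact setLike_mul_comm ha ha'
  have hEL : ⁅A, D⁆ ∈ linePartners S A := rs_linePartners_symm hE hline
  have hdisj : ∀ x, x ∈ A → x ∈ ⁅A, D⁆ → x = 1 := fun x hxA hxE => rs_cc_disj' hcc hS hxA hxE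
  rcases hS.pair B hB _ hE with hc | hr | hcc'
  · exfalso
    obtain ⟨d, hd, hd1⟩ := (D.bot_or_exists_ne_one).resolve_left (hS.ne_bot D hD)
    obtain ⟨a, ha, ha1⟩ := (A.bot_or_exists_ne_one).resolve_left (hS.ne_bot A hA)
    rcases rs_T2 hS ⁅A, D⁆ hA hB hAB (hS.conj_mem A hA d) hAE
        (fun b hb e he => commute_of_commutator_eq_bot hc hb he)
        (fun y hy => rs_conj_elt hcc hd hy) with h1 | h1
    · exact hd1 (rs_cc_norm hS hB hAB hcc hd ((conjBy_eq_self_iff A d).mp h1))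
    · have h2 : d * a * d⁻¹ ∈ ⁅A, D⁆ := h1 (conj_mem_conjBy A d ha)
      have h3 : a * d * a⁻¹ * d⁻¹ ∈ ⁅A, D⁆ := rs_cc_mem ha hd
      have h4 : a ∈ ⁅A, D⁆ := by
        have e : a = (a * d * a⁻¹ * d⁻¹) * (d * a * d⁻¹) := by group
        rw [e]
        exact Subgroup.mul_mem _ h3 h2
      exact ha1 (hdisj a ha h4)
  · obtain ⟨b, hb, hb1⟩ := (B.bot_or_exists_ne_one).resolve_left (hS.ne_bot B hB)
    obtain ⟨a, ha, ha1, r1⟩ := hAB.cond_right b hb hb1
    obtain ⟨e, he, he1, r2⟩ := hr.cond_left b hb hb1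
    have hae : a * e = e * a := hAE a ha e he
    obtain ⟨y₀, hy₀⟩ : ∃ y₀, y₀ = e * a⁻¹ := ⟨_, rfl⟩
    have hy₀m : y₀ ∈ A ⊔ ⁅A, D⁆ := by
      rw [hy₀]
      exact Subgroup.mul_mem _ (Subgroup.mem_sup_right he) (Subgroup.mem_sup_left (A.inv_mem ha))
    have hy₀1 : y₀ ≠ 1 := by
      intro h0
      rw [hy₀, mul_inv_eq_one] at h0
      have heA : e ∈ A := by
        rw [h0]
        exact ha
      exact he1 (hdisj e heA he)
    have hconj : conjBy ⁅A, D⁆ (b * y₀ * b⁻¹) = A := by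
      have e1 : conjBy ⁅A, D⁆ (b * y₀ * b⁻¹) = conjBy (conjBy (conjBy ⁅A, D⁆ b⁻¹) y₀) b := by
        rw [conjBy_conjBy, conjBy_conjBy]
      have e2 : e * a⁻¹ * e⁻¹ = a⁻¹ := by
        have h5 : e * a⁻¹ = a⁻¹ * e := ((show Commute e a from hae.symm).inv_right).eq
        rw [h5, mul_inv_cancel_right]
      have s1 : conjBy (conjBy B e⁻¹) y₀ = conjBy B a⁻¹ := by
        rw [conjBy_conjBy, hy₀, e2]
      calc conjBy ⁅A, D⁆ (b * y₀ * b⁻¹) = conjBy (conjBy (conjBy ⁅A, D⁆ b⁻¹) y₀) b := e1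
        _ = conjBy (conjBy (conjBy B e⁻¹) y₀) b := by rw [r2]
        _ = conjBy (conjBy B a⁻¹) b := by rw [s1]
        _ = conjBy (conjBy A b⁻¹) b := by rw [r1]
        _ = A := by rw [conjBy_conjBy, mul_inv_cancel, conjBy_one]
    obtain ⟨F₀, ⟨hF₀S, hF₀le⟩, hyF₀⟩ := hpart.2.1 y₀ hy₀m hy₀1
    have hg : b * y₀ * b⁻¹ ∈ conjBy F₀ b := conj_mem_conjBy F₀ b hyF₀
    have hg1 : b * y₀ * b⁻¹ ≠ 1 := fun h0 => hy₀1 (conj_eq_one_iff.mp h0)
    have hY₀ : conjBy F₀ b ∈ S := hS.conj_mem F₀ hF₀S b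
    have hAEne : A ≠ ⁅A, D⁆ := hline.1.2.1
    have hbotAE : ⁅A, ⁅A, D⁆⁆ = ⊥ := by
      rw [Subgroup.commutator_comm]
      exact hline.1.2.2
    have hccY : RootCommutatorCase S (conjBy F₀ b) ⁅A, D⁆ := by
      rcases hS.pair _ hY₀ _ hE with h1 | h1 | h1
      · exfalso
        exact hAEne (hconj.symm.trans (rs_conjBy_of_commute _ _
          (fun x hx => (commute_of_commutator_eq_bot h1 hg hx).symm)))
      · exfalso
        obtain ⟨e', he', _, r3⟩ := h1.cond_left _ (Subgroup.inv_mem _ hg)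
          (fun h0 => hg1 (inv_eq_one.mp h0))
        rw [inv_inv, hconj] at r3
        have h2 := rs_rankOne_conj h1 e'⁻¹
        rw [r3, conjBy_of_mem _ (Subgroup.inv_mem _ he')] at h2
        exact rankOne_commutator_ne_bot h2 hbotAE
      · exact h1
    have heF₀ : ∀ f ∈ F₀, f * e = e * f := by
      intro f hf
      obtain ⟨a', ha', e'', he'', rfl⟩ := rs_sup_mem hAE (hF₀le hf)
      exact ((show Commute a' e from hAE a' ha' e he).mul_left
        (show Commute e'' e from hEE e'' he'' e he)).eq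
    have hBF : ⁅B, F₀⁆ ∈ S := by
      have h1 : conjBy ⁅conjBy F₀ b, ⁅A, D⁆⁆ b⁻¹ ∈ S := hS.conj_mem _ hccY.1 b⁻¹
      have h2 : conjBy ⁅conjBy F₀ b, ⁅A, D⁆⁆ b⁻¹ =
          ⁅conjBy (conjBy F₀ b) b⁻¹, conjBy ⁅A, D⁆ b⁻¹⁆ := Subgroup.map_commutator _ _ _
      rw [conjBy_conjBy, inv_mul_cancel, conjBy_one, ← r2] at h2
      have h1' : ⁅F₀, conjBy B e⁻¹⁆ ∈ S := by
        rw [← h2]
        exact h1
      have h3 : conjBy ⁅F₀, conjBy B e⁻¹⁆ e ∈ S := hS.conj_mem _ h1' e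
      have h4 : conjBy ⁅F₀, conjBy B e⁻¹⁆ e = ⁅conjBy F₀ e, conjBy (conjBy B e⁻¹) e⁆ :=
        Subgroup.map_commutator _ _ _
      rw [conjBy_conjBy, mul_inv_cancel, conjBy_one, rs_conjBy_of_commute F₀ e heF₀] at h4
      rw [Subgroup.commutator_comm, ← h4]
      exact h3
    have hF₀A : F₀ ≠ A := by
      intro h0
      rw [h0, hy₀] at hyF₀
      have heA : e ∈ A := by
        have h5 := A.mul_mem hyF₀ ha
        rwa [inv_mul_cancel_right] at h5
      exact he1 (hdisj e heA he)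
    have hAF₀ : ⁅A, F₀⁆ = ⊥ := by
      rw [Subgroup.commutator_eq_bot_iff_le_centralizer]
      intro a' ha'
      rw [Subgroup.mem_centralizer_iff]
      intro f hf
      obtain ⟨a'', ha'', e'', he'', rfl⟩ := rs_sup_mem hAE (hF₀le hf)
      exact ((show Commute a'' a' from hAA a'' ha'' a' ha').mul_left
        (show Commute e'' a' from (hAE a' ha' e'' he'').symm)).eq
    have hsup : A ⊔ F₀ = A ⊔ ⁅A, D⁆ := by
      apply le_antisymm (sup_le le_sup_left hF₀le)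
      apply sup_le le_sup_left
      have hF₀mem : F₀ ∈ membersIn S (A ⊔ ⁅A, D⁆) := ⟨hF₀S, hF₀le⟩
      rw [hmem] at hF₀mem
      rcases hF₀mem with ⟨d, hd, hdF⟩ | h0
      · have hd1 : d ≠ 1 := by
          intro h0
          rw [h0] at hdF
          exact hF₀A (hdF.symm.trans (conjBy_one A))
        rw [← hcc.2.2.2 d hd hd1, Subgroup.closure_le]
        rintro _ ⟨a', ha', rfl⟩
        have e3 : a' * d * a'⁻¹ * d⁻¹ = a' * (d * a'⁻¹ * d⁻¹) := by group
        show a' * d * a'⁻¹ * d⁻¹ ∈ A ⊔ F₀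
        rw [e3, ← hdF]
        exact Subgroup.mul_mem _ (Subgroup.mem_sup_left ha')
          (Subgroup.mem_sup_right (conj_mem_conjBy A d (A.inv_mem ha')))
      · rw [Set.mem_singleton_iff] at h0
        rw [h0]
        exact le_sup_right
    refine ⟨F₀, ⟨⟨hF₀S, hF₀A, hAF₀⟩, ?_⟩, hBF⟩
    rw [hsup]
    exact hpart
  · exact ⟨_, hEL, hcc'.1⟩

end Cfsg.Agent.lead
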