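import Cfsg.Agent.Lib_lead_RootSub8
import Cfsg.Agent.Lib_lead_RootSub4
import Cfsg.Agent.Lib_lead_RootSub3
import Cfsg.Agent.Lib_lead_RootSub5

set_option autoImplicit false

namespace Cfsg.Agent.lead

open Cfsg Cfsg.Agent.helper25
open scoped commutatorElement

variable {G : Type*} [Group G]

/-- The "g-argument": two commuting members `A ≠ E`, both rank one partners of `B`, matched with the same `b`. -/
theorem rs_gArg {S : Set (Subgroup G)} (hS : IsRootSubgroupSet S) {A E B F₀ : Subgroup G}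
    (hE : E ∈ S) (hF₀S : F₀ ∈ S) (hAEne : A ≠ E) (hbotAE : ⁅A, E⁆ = ⊥) {a e b : G}
    (hae : a * e = e * a) (r1 : conjBy B a⁻¹ = conjBy A b⁻¹) (r2 : conjBy B e⁻¹ = conjBy E b⁻¹)
    (hyF₀ : e * a⁻¹ ∈ F₀) (hy₀1 : e * a⁻¹ ≠ 1) (heF₀ : ∀ f ∈ F₀, f * e = e * f) :
    ⁅B, F₀⁆ ∈ S ∧ conjBy E (b * (e * a⁻¹) * b⁻¹) = A := by
  have hconj : conjBy E (b * (e * a⁻¹) * b⁻¹) = A := by
    have e1 : conjBy E (b * (e * a⁻¹) * b⁻¹) = conjBy (conjBy (conjBy E b⁻¹) (e * a⁻¹)) b := by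
      rw [conjBy_conjBy, conjBy_conjBy]
    have e2 : e * a⁻¹ * e⁻¹ = a⁻¹ := by
      have h5 : e * a⁻¹ = a⁻¹ * e := ((show Commute e a from hae.symm).inv_right).eq
      rw [h5, mul_inv_cancel_right]
    have s1 : conjBy (conjBy B e⁻¹) (e * a⁻¹) = conjBy B a⁻¹ := by
      rw [conjBy_conjBy, e2]
    calc conjBy E (b * (e * a⁻¹) * b⁻¹) = conjBy (conjBy (conjBy E b⁻¹) (e * a⁻¹)) b := e1
      _ = conjBy (conjBy (conjBy B e⁻¹) (e * a⁻¹)) b := by rw [r2]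
      _ = conjBy (conjBy B a⁻¹) b := by rw [s1]
      _ = conjBy (conjBy A b⁻¹) b := by rw [r1]
      _ = A := by rw [conjBy_conjBy, mul_inv_cancel, conjBy_one]
  refine ⟨?_, hconj⟩
  have hg : b * (e * a⁻¹) * b⁻¹ ∈ conjBy F₀ b := conj_mem_conjBy F₀ b hyF₀
  have hg1 : b * (e * a⁻¹) * b⁻¹ ≠ 1 := fun h0 => hy₀1 (conj_eq_one_iff.mp h0)
  have hY₀ : conjBy F₀ b ∈ S := hS.conj_mem F₀ hF₀S b
  have hccY : RootCommutatorCase S (conjBy F₀ b) E := by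
    rcases hS.pair _ hY₀ _ hE with h1 | h1 | h1
    · exfalso
      exact hAEne (hconj.symm.trans (rs_conjBy_of_commute _ _
        (fun x hx => (commute_of_commutator_eq_bot h1 hg hx).symm)))
    · exfalso
      obtain ⟨e', he', _, r3⟩ := h1.cond_left _ (Subgroup.inv_mem _ hg)
        (fun h0 => hg1 (inv_eq_one.mp h0))
      rw [inv_inv, hconj] at r3
      have h2 := rs_rankOne_conj h1 e'⁻¹
      rw [r3, conjBy_of_mem _ (Subgroup.inv_mem _ he')] at h2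
      exact rankOne_commutator_ne_bot h2 hbotAE
    · exact h1
  have h1 : conjBy ⁅conjBy F₀ b, E⁆ b⁻¹ ∈ S := hS.conj_mem _ hccY.1 b⁻¹
  have h2 : conjBy ⁅conjBy F₀ b, E⁆ b⁻¹ =
      ⁅conjBy (conjBy F₀ b) b⁻¹, conjBy E b⁻¹⁆ := Subgroup.map_commutator _ _ _
  rw [conjBy_conjBy, inv_mul_cancel, conjBy_one, ← r2] at h2
  have h1' : ⁅F₀, conjBy B e⁻¹⁆ ∈ S := by
    rw [← h2]
    exact h1
  have h3 : conjBy ⁅F₀, conjBy B e⁻¹⁆ e ∈ S := hS.conj_mem _ h1' e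
  have h4 : conjBy ⁅F₀, conjBy B e⁻¹⁆ e = ⁅conjBy F₀ e, conjBy (conjBy B e⁻¹) e⁆ :=
    Subgroup.map_commutator _ _ _
  rw [conjBy_conjBy, mul_inv_cancel, conjBy_one, rs_conjBy_of_commute F₀ e heF₀] at h4
  rw [Subgroup.commutator_comm, ← h4]
  exact h3

/-- Timmesfeld II(2.3): `B` a rank one partner of `A`, `C` a line partner of `A` in the commutator case with `B`;
then `⁅A, ⁅C, B⁆⁆ = C`. -/
theorem rs_23 {S : Set (Subgroup G)} (hS : IsRootSubgroupSet S)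
    (hpartner : ∀ X ∈ S, ∃ D ∈ S, IsRankOnePair X D) {A B C : Subgroup G} (hA : A ∈ S) (hB : B ∈ S)
    (hAB : IsRankOnePair A B) (hCL : C ∈ linePartners S A) (hcc : RootCommutatorCase S C B) :
    RootCommutatorCase S A ⁅C, B⁆ ∧ ⁅A, ⁅C, B⁆⁆ = C := by
  classical
  obtain ⟨⟨hC, hCA, hbotAC⟩, hpart⟩ := hCL
  have hK : ⁅C, B⁆ ∈ S := hcc.1
  have hACc : ∀ a ∈ A, ∀ c ∈ C, a * c = c * a :=
    fun a ha c hc => commute_of_commutator_eq_bot hbotAC ha hc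
  have hAA : ∀ a ∈ A, ∀ a' ∈ A, a * a' = a' * a := by
    intro a ha a' ha'
    have := hS.commutative _ hA
    exact setLike_mul_comm ha ha'
  have hCC : ∀ c ∈ C, ∀ c' ∈ C, c * c' = c' * c := by
    intro c hc c' hc'
    have := hS.commutative _ hC
    exact setLike_mul_comm hc hc'
  have hAm : A ∈ membersIn S (A ⊔ C) := ⟨hA, le_sup_left⟩
  have hCm : C ∈ membersIn S (A ⊔ C) := ⟨hC, le_sup_right⟩
  have hdAC : A ⊓ C = ⊥ := hpart.2.2 A hAm C hCm (Ne.symm hCA)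
  have hnrBC : ¬ IsRankOnePair B C := fun h =>
    rs_rankOne_comm_notin hS hB hC h (by rw [Subgroup.commutator_comm]; exact hK)
  have hline_comm : ∀ F : Subgroup G, F ≤ A ⊔ C → ∀ f ∈ F, ∀ y ∈ A ⊔ C, f * y = y * f :=
    fun F hF f hf y hy => rs_sup_comm hAA hCC hACc f (hF hf) y hy
  -- Step 1
  obtain ⟨a₀, ha₀, ha₀1⟩ := (A.bot_or_exists_ne_one).resolve_left (hS.ne_bot A hA)
  obtain ⟨c₀, hc₀, hc₀1⟩ := (C.bot_or_exists_ne_one).resolve_left (hS.ne_bot C hC)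
  have hy1 : a₀ * c₀ ≠ 1 := by
    intro h0
    have h1 : a₀ = c₀⁻¹ := eq_inv_of_mul_eq_one_left h0
    have h2 : a₀ ∈ A ⊓ C := ⟨ha₀, by rw [h1]; exact C.inv_mem hc₀⟩
    rw [hdAC, Subgroup.mem_bot] at h2
    exact ha₀1 h2
  obtain ⟨F, ⟨hFS, hFle⟩, hyF⟩ := hpart.2.1 (a₀ * c₀)
    (Subgroup.mul_mem _ (Subgroup.mem_sup_left ha₀) (Subgroup.mem_sup_right hc₀)) hy1
  have hFB : IsRankOnePair F B := rs_lemmaH hS hC hB hFS hAB hACc hnrBC ha₀ ha₀1 hc₀ hyF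
  have hFA : F ≠ A := by
    intro h0
    rw [h0] at hyF
    have h1 : c₀ ∈ A := by
      have h2 := A.mul_mem (A.inv_mem ha₀) hyF
      rwa [inv_mul_cancel_left] at h2
    have h2 : c₀ ∈ A ⊓ C := ⟨h1, hc₀⟩
    rw [hdAC, Subgroup.mem_bot] at h2
    exact hc₀1 h2
  have hFC : F ≠ C := by
    intro h0
    rw [h0] at hyF
    have h1 : a₀ ∈ C := by
      have h2 := C.mul_mem hyF (C.inv_mem hc₀)
      rwa [mul_inv_cancel_right] at h2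
    have h2 : a₀ ∈ A ⊓ C := ⟨ha₀, h1⟩
    rw [hdAC, Subgroup.mem_bot] at h2
    exact ha₀1 h2
  have hFm : F ∈ membersIn S (A ⊔ C) := ⟨hFS, hFle⟩
  have hdAF : A ⊓ F = ⊥ := hpart.2.2 A hAm F hFm (Ne.symm hFA)
  have hdFC : F ⊓ C = ⊥ := hpart.2.2 F hFm C hCm hFC
  -- Step 2
  obtain ⟨b, hb, hb1⟩ := (B.bot_or_exists_ne_one).resolve_left (hS.ne_bot B hB)
  obtain ⟨a, ha, ha1, r1⟩ := hAB.cond_right b hb hb1
  obtain ⟨f, hf, hf1, r2⟩ := hFB.cond_right b hb hb1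
  have haf : a * f = f * a := (hline_comm F hFle f hf a (Subgroup.mem_sup_left ha)).symm
  have hy₀1 : f * a⁻¹ ≠ 1 := by
    intro h0
    rw [mul_inv_eq_one] at h0
    have h2 : f ∈ A ⊓ F := ⟨by rw [h0]; exact ha, hf⟩
    rw [hdAF, Subgroup.mem_bot] at h2
    exact hf1 h2
  have hy₀m : f * a⁻¹ ∈ A ⊔ C :=
    Subgroup.mul_mem _ (hFle hf) (Subgroup.mem_sup_left (A.inv_mem ha))
  obtain ⟨F₁, ⟨hF₁S, hF₁le⟩, hyF₁⟩ := hpart.2.1 _ hy₀m hy₀1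
  have hbotAF : ⁅A, F⁆ = ⊥ := by
    rw [Subgroup.commutator_eq_bot_iff_le_centralizer]
    intro a' ha'
    rw [Subgroup.mem_centralizer_iff]
    intro x hx
    exact hline_comm F hFle x hx a' (Subgroup.mem_sup_left ha')
  obtain ⟨hBF₁, hconj⟩ := rs_gArg hS hFS hF₁S (Ne.symm hFA) hbotAF haf r1 r2 hyF₁ hy₀1
    (fun x hx => hline_comm F₁ hF₁le x hx f (hFle hf))
  have hy₀C : f * a⁻¹ ∈ C := by
    obtain ⟨a', ha', c', hc', hy⟩ := rs_sup_mem hACc hy₀m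
    by_cases ha'1 : a' = 1
    · rw [hy, ha'1, one_mul]
      exact hc'
    · exfalso
      have hy' : a' * c' ∈ F₁ := by
        rw [← hy]
        exact hyF₁
      have hr : IsRankOnePair F₁ B :=
        rs_lemmaH hS hC hB hF₁S hAB hACc hnrBC ha' ha'1 hc' hy'
      exact rs_rankOne_comm_notin hS hF₁S hB hr (by rw [Subgroup.commutator_comm]; exact hBF₁)
  -- Step 3
  obtain ⟨k', hk'⟩ : ∃ k', k' = b * (f * a⁻¹) * b⁻¹ * (f * a⁻¹)⁻¹ := ⟨_, rfl⟩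
  have hk'K : k' ∈ ⁅C, B⁆ := by
    have h1 := Subgroup.inv_mem _ (rs_cc_mem (A := C) (B := B) hy₀C hb)
    have e : (f * a⁻¹ * b * (f * a⁻¹)⁻¹ * b⁻¹)⁻¹ = b * (f * a⁻¹) * b⁻¹ * (f * a⁻¹)⁻¹ := by group
    rw [hk', ← e]
    exact h1
  have hconj' : conjBy F k' = A := by
    have e : b * (f * a⁻¹) * b⁻¹ = k' * (f * a⁻¹) := by
      rw [hk']
      group
    rw [e, ← conjBy_conjBy, rs_conjBy_of_commute F (f * a⁻¹)
      (fun x hx => hline_comm F hFle x hx _ hy₀m)] at hconj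
    exact hconj
  -- Step 4
  have hKC : ∀ k ∈ ⁅C, B⁆, ∀ c ∈ C, k * c = c * k := fun k hk c hc => rs_cc_comm_left hcc hk hc
  have hKB : ∀ k ∈ ⁅C, B⁆, ∀ b ∈ B, k * b = b * k := fun k hk b hb => rs_cc_comm_right hcc hk hb
  have hF_eq : F = conjBy A k'⁻¹ := (conjBy_eq_iff F A k').mp hconj'
  have hccAK : RootCommutatorCase S A ⁅C, B⁆ := by
    rcases hS.pair A hA _ hK with h1 | h1 | h1
    · exfalso
      apply hFA
      rw [hF_eq]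
      exact rs_conjBy_of_commute A k'⁻¹ (fun x hx =>
        ((show Commute x k' from commute_of_commutator_eq_bot h1 hx hk'K).inv_right).eq)
    · exfalso
      rcases rs_T2 hS C hA hK h1 hFS hACc (fun k hk c hc => hKC k hk c hc)
          (fun y hy => rs_sup_mem hACc (hFle hy)) with h2 | h2
      · exact hFA h2
      · have h3 : F = ⊥ := by
          rw [← inf_eq_left.mpr h2]
          exact hdFC
        exact hS.ne_bot F hFS h3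
    · exact h1
  -- Step 5
  have hP : ⁅A, ⁅C, B⁆⁆ ∈ S := hccAK.1
  obtain ⟨p, hp⟩ : ∃ p, p = a₀⁻¹ * k'⁻¹ * a₀ * k' := ⟨_, rfl⟩
  have hpP : p ∈ ⁅A, ⁅C, B⁆⁆ := by
    have h1 := rs_cc_mem (A := A) (B := ⁅C, B⁆) (A.inv_mem ha₀) (Subgroup.inv_mem _ hk'K)
    rw [inv_inv, inv_inv] at h1
    rw [hp]
    exact h1
  have hconjmem : k'⁻¹ * a₀ * k' ∈ F := by
    rw [hF_eq]
    have h1 := conj_mem_conjBy A k'⁻¹ ha₀
    rwa [inv_inv] at h1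
  have hp_line : p ∈ A ⊔ C := by
    have e : p = a₀⁻¹ * (k'⁻¹ * a₀ * k') := by
      rw [hp]
      group
    rw [e]
    exact Subgroup.mul_mem _ (Subgroup.mem_sup_left (A.inv_mem ha₀)) (hFle hconjmem)
  have hp1 : p ≠ 1 := by
    intro h0
    have e : k'⁻¹ * a₀ * k' = a₀ * p := by
      rw [hp]
      group
    rw [h0, mul_one] at e
    have h2 : a₀ ∈ A ⊓ F := ⟨ha₀, by rw [← e]; exact hconjmem⟩
    rw [hdAF, Subgroup.mem_bot] at h2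
    exact ha₀1 h2
  obtain ⟨F', ⟨hF'S, hF'le⟩, hpF'⟩ := hpart.2.1 p hp_line hp1
  obtain ⟨D', hD', hr'⟩ := hpartner F' hF'S
  have hPF' : ⁅A, ⁅C, B⁆⁆ = F' := rs_TI hS hD' hr' hP hpF' hpP hp1
  -- Step 6
  have hPle : ⁅A, ⁅C, B⁆⁆ ≤ A ⊔ C := by
    rw [hPF']
    exact hF'le
  have hPm : ⁅A, ⁅C, B⁆⁆ ∈ membersIn S (A ⊔ C) := ⟨hP, hPle⟩
  refine ⟨hccAK, ?_⟩
  by_contra hne
  have hdPC : ⁅A, ⁅C, B⁆⁆ ⊓ C = ⊥ := hpart.2.2 _ hPm C hCm hne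
  obtain ⟨p', hp', hp'1⟩ := (Subgroup.bot_or_exists_ne_one _).resolve_left (hS.ne_bot _ hP)
  obtain ⟨a'', ha'', c'', hc'', hpe⟩ := rs_sup_mem hACc (hPle hp')
  have ha''1 : a'' ≠ 1 := by
    intro h0
    rw [h0, one_mul] at hpe
    have h2 : p' ∈ ⁅A, ⁅C, B⁆⁆ ⊓ C := ⟨hp', by rw [hpe]; exact hc''⟩
    rw [hdPC, Subgroup.mem_bot] at h2
    exact hp'1 h2
  have hPB : IsRankOnePair ⁅A, ⁅C, B⁆⁆ B :=
    rs_lemmaH hS hC hB hP hAB hACc hnrBC ha'' ha''1 hc'' (by rw [← hpe]; exact hp')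
  have hPK : ∀ p ∈ ⁅A, ⁅C, B⁆⁆, ∀ k ∈ ⁅C, B⁆, p * k = k * p :=
    fun p hp k hk => rs_cc_comm_right hccAK hp hk
  have hdKP : ∀ x, x ∈ ⁅C, B⁆ → x ∈ ⁅A, ⁅C, B⁆⁆ → x = 1 := by
    intro x hxK hxP
    have hsymm := rs_cc_symm hccAK
    have hxP' : x ∈ ⁅⁅C, B⁆, A⁆ := by
      rw [Subgroup.commutator_comm]
      exact hxP
    exact rs_cc_disj' hsymm hS hxK hxP'
  have hle : ∀ y ∈ conjBy ⁅C, B⁆ a₀, ∃ z ∈ ⁅A, ⁅C, B⁆⁆, ∃ n ∈ ⁅C, B⁆, y = z * n := by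
    intro y hy
    rw [mem_conjBy_iff] at hy
    obtain ⟨n, hn⟩ : ∃ n, n = a₀⁻¹ * y * a₀ := ⟨_, rfl⟩
    rw [← hn] at hy
    refine ⟨a₀ * n * a₀⁻¹ * n⁻¹, rs_cc_mem ha₀ hy, n, hy, ?_⟩
    rw [hn]
    group
  rcases rs_T2 hS ⁅C, B⁆ hP hB hPB (hS.conj_mem _ hK a₀) hPK
      (fun b hb k hk => (hKB k hk b hb).symm) hle with h2 | h2
  · have h3 := (conjBy_eq_iff ⁅C, B⁆ ⁅A, ⁅C, B⁆⁆ a₀).mp h2
    rw [rs_conjBy_of_commute ⁅A, ⁅C, B⁆⁆ a₀⁻¹ (fun x hx =>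
      ((show Commute x a₀ from rs_cc_comm_left hccAK hx ha₀).inv_right).eq)] at h3
    apply hS.ne_bot _ hK
    rw [Subgroup.eq_bot_iff_forall]
    intro x hx
    refine hdKP x hx ?_
    rw [← h3]
    exact hx
  · apply hS.ne_bot _ hP
    rw [Subgroup.eq_bot_iff_forall]
    intro x hx
    refine hdKP x ?_ hx
    have h3 := hccAK.2.2.1 a₀ ha₀ ha₀1
    rw [← h3] at hx
    refine (Subgroup.closure_le _).mpr ?_ hx
    rintro _ ⟨k, hk, rfl⟩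
    exact Subgroup.mul_mem _ (h2 (conj_mem_conjBy _ a₀ hk)) (Subgroup.inv_mem _ hk)

end Cfsg.Agent.lead
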