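import Mathlib

namespace Cfsg.Agent.lead.S2531

open Matrix

variable {F : Type*} [Field F] [Finite F] {n : ℕ}

theorem card_dot_zero (w : Fin n → F) (hw : w ≠ 0) :
    Set.ncard {v : Fin n → F | w ⬝ᵥ v = 0} * Nat.card F = Nat.card F ^ n := by
  classical
  let φ : (Fin n → F) →ₗ[F] F :=
    { toFun := fun v => w ⬝ᵥ v
      map_add' := fun a b => dotProduct_add w a b
      map_smul' := fun c a => by simp [dotProduct_smul] }
  have hφ : ∀ v, φ v = w ⬝ᵥ v := fun v => rfl
  have hsurj : Function.Surjective φ := by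
    obtain ⟨i, hi⟩ : ∃ i, w i ≠ 0 := by
      by_contra hcon
      push Not at hcon
      exact hw (funext hcon)
    intro c
    refine ⟨Pi.single i (c / w i), ?_⟩
    rw [hφ, dotProduct_single]
    field_simp
  have hker : {v : Fin n → F | w ⬝ᵥ v = 0} = (LinearMap.ker φ : Set (Fin n → F)) := by
    ext v
    simp [LinearMap.mem_ker, hφ]
  have h1 := Submodule.card_eq_card_quotient_mul_card (LinearMap.ker φ)
  have h2 : Nat.card ((Fin n → F) ⧸ LinearMap.ker φ) = Nat.card F :=
    Nat.card_congr (φ.quotKerEquivOfSurjective hsurj).toEquiv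
  have h3 : Nat.card (Fin n → F) = Nat.card F ^ n := by
    rw [Nat.card_fun]
    simp
  have h4 : Set.ncard (LinearMap.ker φ : Set (Fin n → F)) = Nat.card (LinearMap.ker φ) :=
    (Nat.card_coe_set_eq _).symm
  rw [hker, h4, ← h3, h1, h2]

end Cfsg.Agent.lead.S2531
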