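import Mathlib

set_option autoImplicit false

namespace Cfsg.Agent.lead.S2670t

/-- PIECE T6: the final arithmetic -/
theorem pieceT6 (orb X q1 R N1 C r e : ℕ) (hr : 2 ≤ r) (hR : R * r = q1) (hq1 : 0 < q1)
    (he : e ≤ 1) (hB : orb * q1 = X + (r - 1) * q1 * e) (hX : X = R * N1 + (q1 - R) * e)
    (hN : N1 + r = C) (hfix : q1 * e ≤ X) : orb = (C - r - e) / r + r * e := by
  obtain ⟨r', rfl⟩ : ∃ r', r = r' + 1 := ⟨r - 1, by omega⟩
  subst hN
  subst hR
  have hRpos : 0 < R := by
    rcases Nat.eq_zero_or_pos R with h | h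
    · subst h; simp at hq1
    · exact h
  have hsub : R * (r' + 1) - R = R * r' := by
    rw [Nat.mul_succ]; omega
  rw [hsub] at hX
  simp only [Nat.add_sub_cancel] at hB ⊢
  interval_cases e
  · simp only [mul_zero, add_zero, Nat.sub_zero] at *
    subst hX
    have h1 : R * (orb * (r' + 1)) = R * N1 := by rw [← hB]; ring
    have h2 : orb * (r' + 1) = N1 := Nat.eq_of_mul_eq_mul_left hRpos h1
    rw [← h2, Nat.mul_div_cancel _ (by omega)]
  · simp only [mul_one] at *
    subst hX
    have hN1 : 1 ≤ N1 := by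
      by_contra h
      push Not at h
      have h0 : N1 = 0 := by omega
      subst h0
      simp only [mul_zero, zero_add] at hfix
      nlinarith
    have h1 : R * (orb * (r' + 1)) = R * (N1 + r' + r' * (r' + 1)) := by nlinarith [hB]
    have h2 : orb * (r' + 1) = N1 + r' + r' * (r' + 1) := Nat.eq_of_mul_eq_mul_left hRpos h1
    have hOr : r' + 1 ≤ orb := by
      by_contra h
      push Not at h
      have h5 : orb * (r' + 1) ≤ r' * (r' + 1) := Nat.mul_le_mul_right _ (by omega)
      omega
    obtain ⟨o', rfl⟩ : ∃ o', orb = o' + (r' + 1) := ⟨orb - (r' + 1), by omega⟩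
    have h3 : N1 - 1 = (r' + 1) * o' := by
      have h4 : N1 = (r' + 1) * o' + 1 := by nlinarith
      omega
    rw [h3, Nat.mul_div_cancel_left _ (by omega)]

end Cfsg.Agent.lead.S2670t
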