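import Mathlib
import Cfsg.Prelude.Def_Local
import Cfsg.Prelude.Def_CaseTheorems
import Cfsg.Agent.Lib_helper17_LemmaA
import Cfsg.Agent.Lib_helper23_PSolv

set_option autoImplicit false

namespace Cfsg.Agent.lead.S4885

open Cfsg
open scoped commutatorElement

universe u

section
variable {G : Type u} [Group G] [Finite G] (p : ℕ) [Fact p.Prime]

theorem quot_hO (Q : Subgroup (G ⧸ Cfsg.pPrimeCore p G)) (hQn : Q.Normal)
    (hQc : (Nat.card Q).Coprime p) : Q = ⊥ := by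
  have h1 : Q ≤ Cfsg.pPrimeCore p (G ⧸ Cfsg.pPrimeCore p G) :=
    Cfsg.Agent.helper1.le_pPrimeCore hQn hQc
  rw [Cfsg.Agent.helper9.pPrimeCore_quotient_eq_bot] at h1
  exact le_bot_iff.mp h1

theorem comap_map_L (L : Subgroup G) (hVL : Cfsg.pPrimeCore p G ≤ L) :
    (L.map (QuotientGroup.mk' (Cfsg.pPrimeCore p G))).comap
      (QuotientGroup.mk' (Cfsg.pPrimeCore p G)) = L := by
  apply Subgroup.comap_map_eq_self
  rw [QuotientGroup.ker_mk']
  exact hVL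

theorem isPGroup_map_of_Q (hps : Cfsg.IsPSolvable p G)
    (L : Subgroup G) [L.Normal]
    (hQ : ∀ Pb : Sylow p (G ⧸ Cfsg.pPrimeCore p G),
      L.map (QuotientGroup.mk' (Cfsg.pPrimeCore p G)) ⊓ (Pb : Subgroup (G ⧸ Cfsg.pPrimeCore p G)) ≤
        ⁅(Pb : Subgroup (G ⧸ Cfsg.pPrimeCore p G)), (Pb : Subgroup (G ⧸ Cfsg.pPrimeCore p G))⁆) :
    IsPGroup p (L.map (QuotientGroup.mk' (Cfsg.pPrimeCore p G))) := by
  have hpsH : Cfsg.IsPSolvable p (G ⧸ Cfsg.pPrimeCore p G) :=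
    Cfsg.Agent.helper23.isPSolvable_of_surjective (Fact.out) (QuotientGroup.mk' (Cfsg.pPrimeCore p G))
      (QuotientGroup.mk'_surjective _) hps
  haveI : (L.map (QuotientGroup.mk' (Cfsg.pPrimeCore p G))).Normal :=
    Subgroup.Normal.map inferInstance _ (QuotientGroup.mk'_surjective _)
  exact Cfsg.Agent.helper17.LemmaA.isPGroup_of_inf_sylow_le_commutator p hpsH (quot_hO p)
    (L.map (QuotientGroup.mk' (Cfsg.pPrimeCore p G))) hQ

theorem relA_of_Q (hps : Cfsg.IsPSolvable p G)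
    (L : Subgroup G) [L.Normal] (hVL : Cfsg.pPrimeCore p G ≤ L)
    (hQ : ∀ Pb : Sylow p (G ⧸ Cfsg.pPrimeCore p G),
      L.map (QuotientGroup.mk' (Cfsg.pPrimeCore p G)) ⊓ (Pb : Subgroup (G ⧸ Cfsg.pPrimeCore p G)) ≤
        ⁅(Pb : Subgroup (G ⧸ Cfsg.pPrimeCore p G)), (Pb : Subgroup (G ⧸ Cfsg.pPrimeCore p G))⁆) :
    ∃ k : ℕ, (Cfsg.pPrimeCore p G).relIndex L = p ^ k := by
  have hU := isPGroup_map_of_Q p hps L hQ
  obtain ⟨k, hk⟩ := hU.exists_card_eq
  refine ⟨k, ?_⟩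
  rw [← hk]
  have h1 : ((⊥ : Subgroup (G ⧸ Cfsg.pPrimeCore p G)).comap
      (QuotientGroup.mk' (Cfsg.pPrimeCore p G))).relIndex L =
      Nat.card (L.map (QuotientGroup.mk' (Cfsg.pPrimeCore p G))) := by
    rw [Subgroup.relIndex_comap, Subgroup.relIndex_bot_left]
  rwa [MonoidHom.comap_bot, QuotientGroup.ker_mk'] at h1

theorem relcore_of_Q (hps : Cfsg.IsPSolvable p G)
    (L : Subgroup G) [L.Normal] (hVL : Cfsg.pPrimeCore p G ≤ L)
    (hQ : ∀ Pb : Sylow p (G ⧸ Cfsg.pPrimeCore p G),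
      L.map (QuotientGroup.mk' (Cfsg.pPrimeCore p G)) ⊓ (Pb : Subgroup (G ⧸ Cfsg.pPrimeCore p G)) ≤
        ⁅(Pb : Subgroup (G ⧸ Cfsg.pPrimeCore p G)), (Pb : Subgroup (G ⧸ Cfsg.pPrimeCore p G))⁆)
    (T : Subgroup G) [T.Normal] (hLT : L ≤ T) (hcop : (L.relIndex T).Coprime p) : T ≤ L := by
  set π := QuotientGroup.mk' (Cfsg.pPrimeCore p G) with hπ
  have hsurj : Function.Surjective π := QuotientGroup.mk'_surjective _
  have hU : IsPGroup p (L.map π) := isPGroup_map_of_Q p hps L hQ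
  haveI hUn : (L.map π).Normal := Subgroup.Normal.map inferInstance _ hsurj
  haveI hTn : (T.map π).Normal := Subgroup.Normal.map inferInstance _ hsurj
  have hUT : L.map π ≤ T.map π := Subgroup.map_mono hLT
  have hrel : (L.map π).relIndex (T.map π) = L.relIndex T := by
    have h1 := Subgroup.relIndex_comap (L.map π) π T
    rw [comap_map_L p L hVL] at h1
    exact h1.symm
  have hcop' : ((L.map π).relIndex (T.map π)).Coprime p := by rw [hrel]; exact hcop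
  have hUP : ∀ P : Sylow p (G ⧸ Cfsg.pPrimeCore p G),
      L.map π ≤ ⁅(P : Subgroup (G ⧸ Cfsg.pPrimeCore p G)), (P : Subgroup (G ⧸ Cfsg.pPrimeCore p G))⁆ := by
    intro P
    have hle : L.map π ≤ (P : Subgroup (G ⧸ Cfsg.pPrimeCore p G)) := by
      obtain ⟨Q, hQle⟩ := hU.exists_le_sylow
      obtain ⟨g, hg⟩ := MulAction.exists_smul_eq (G ⧸ Cfsg.pPrimeCore p G) Q P
      intro x hx
      rw [← hg, Sylow.coe_subgroup_smul, Subgroup.mem_pointwise_smul_iff_inv_smul_mem]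
      apply hQle
      have h2 : g⁻¹ * x * g⁻¹⁻¹ ∈ L.map π := hUn.conj_mem x hx g⁻¹
      simpa [MulAut.smul_def] using h2
    calc L.map π = L.map π ⊓ (P : Subgroup (G ⧸ Cfsg.pPrimeCore p G)) := (inf_eq_left.mpr hle).symm
      _ ≤ _ := hQ P
  have hcore := Cfsg.Agent.helper17.LemmaA.core p (quot_hO p) (L.map π) (T.map π) hUT hU hcop' hUP
  intro t ht
  have h3 : π t ∈ L.map π := hcore (Subgroup.mem_map_of_mem π ht)
  have h4 : t ∈ (L.map π).comap π := h3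
  rwa [comap_map_L p L hVL] at h4

end

end Cfsg.Agent.lead.S4885
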