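import Mathlib
import Cfsg.Agent.Lib_lead_S4885r
import Cfsg.Agent.Lib_helper6_S4885x

set_option autoImplicit false

namespace Cfsg.Agent.lead.S4885

open Cfsg
open scoped commutatorElement

universe u

/-- PIECE R1 -/
theorem relA {G : Type u} [Group G] [Finite G] (p : ℕ) [Fact p.Prime] (hps : Cfsg.IsPSolvable p G)
    (L : Subgroup G) [L.Normal] (hVL : Cfsg.pPrimeCore p G ≤ L)
    (hLP : ∀ P : Sylow p G, L ⊓ (P : Subgroup G) ≤ ⁅(P : Subgroup G), (P : Subgroup G)⁆) :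
    ∃ k : ℕ, (Cfsg.pPrimeCore p G).relIndex L = p ^ k :=
  relA_of_Q p hps L hVL
    (fun Pb => Cfsg.Agent.helper6.S4885x.pieceQ p (Cfsg.pPrimeCore p G) L
      (Cfsg.Agent.helper1.pPrimeCore_coprime p) hVL hLP Pb)

/-- PIECE R2 -/
theorem relcore {G : Type u} [Group G] [Finite G] (p : ℕ) [Fact p.Prime]
    (hps : Cfsg.IsPSolvable p G)
    (L : Subgroup G) [L.Normal] (hVL : Cfsg.pPrimeCore p G ≤ L)
    (hLP : ∀ P : Sylow p G, L ⊓ (P : Subgroup G) ≤ ⁅(P : Subgroup G), (P : Subgroup G)⁆)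
    (T : Subgroup G) [T.Normal] (hLT : L ≤ T) (hcop : (L.relIndex T).Coprime p) : T ≤ L :=
  relcore_of_Q p hps L hVL
    (fun Pb => Cfsg.Agent.helper6.S4885x.pieceQ p (Cfsg.pPrimeCore p G) L
      (Cfsg.Agent.helper1.pPrimeCore_coprime p) hVL hLP Pb) T hLT hcop

end Cfsg.Agent.lead.S4885
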