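import Mathlib
import Cfsg.Agent.Lib_lead_Coprime5
import Cfsg.Agent.Lib_helper23_Wielandt
import Cfsg.Agent.Lib_helper10_Alperin

set_option autoImplicit false

namespace Cfsg.Agent.lead.SelfNorm

open Cfsg.Agent.lead
open scoped Pointwise

universe u

theorem comm_inj {G : Type*} [Group G] (A : Subgroup G) (u : G)
    (hfpf : ∀ a ∈ A, u * a = a * u → a = 1) (a₁ a₂ : G) (h₁ : a₁ ∈ A) (h₂ : a₂ ∈ A)
    (h : a₁ * u * a₁⁻¹ * u⁻¹ = a₂ * u * a₂⁻¹ * u⁻¹) : a₁ = a₂ := by
  have h3 : a₁ * u * a₁⁻¹ = a₂ * u * a₂⁻¹ := mul_right_cancel h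
  have h4 : u * (a₂⁻¹ * a₁) = (a₂⁻¹ * a₁) * u := by
    calc u * (a₂⁻¹ * a₁) = a₂⁻¹ * (a₂ * u * a₂⁻¹) * a₁ := by group
      _ = a₂⁻¹ * (a₁ * u * a₁⁻¹) * a₁ := by rw [h3]
      _ = (a₂⁻¹ * a₁) * u := by group
  have h5 := hfpf _ (A.mul_mem (A.inv_mem h₂) h₁) h4
  exact (inv_mul_eq_one.mp h5).symm

theorem comm_surj {G : Type*} [Group G] [Finite G] (A B : Subgroup G) (hBA : B ≤ A) (u : G)
    (huB : ∀ b ∈ B, u * b * u⁻¹ ∈ B) (hfpf : ∀ a ∈ A, u * a = a * u → a = 1) (c : G)
    (hc : c ∈ B) : ∃ b ∈ B, b * u * b⁻¹ * u⁻¹ = c := by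
  let f : B → B := fun b => ⟨(b : G) * u * (b : G)⁻¹ * u⁻¹, by
    have h1 : (b : G) * u * (b : G)⁻¹ * u⁻¹ = (b : G) * (u * (b : G)⁻¹ * u⁻¹) := by group
    rw [h1]; exact B.mul_mem b.2 (huB _ (B.inv_mem b.2))⟩
  have hinj : Function.Injective f := by
    intro b₁ b₂ h
    have h' : (b₁ : G) * u * (b₁ : G)⁻¹ * u⁻¹ = (b₂ : G) * u * (b₂ : G)⁻¹ * u⁻¹ :=
      congrArg Subtype.val h
    exact Subtype.ext (comm_inj A u hfpf _ _ (hBA b₁.2) (hBA b₂.2) h')
  obtain ⟨b, hb⟩ := Finite.surjective_of_injective hinj ⟨c, hc⟩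
  exact ⟨b, b.2, congrArg Subtype.val hb⟩

theorem core {G : Type*} [Group G] [Finite G] (A : Subgroup G) [hAn : A.Normal] (y : G)
    (hgen : ∀ g : G, ∃ a ∈ A, ∃ j : ℕ, g = a * y ^ j)
    (hfpf : ∀ a ∈ A, y * a = a * y → a = 1) (H : Subgroup G) (hy : y ∈ H) (n : G)
    (hn : n ∈ Subgroup.normalizer (H : Set G)) : n ∈ H := by
  obtain ⟨a, ha, j, rfl⟩ := hgen n
  have hyj : y ^ j ∈ H := H.pow_mem hy j
  have haN : a ∈ Subgroup.normalizer (H : Set G) := by
    have h1 : a = (a * y ^ j) * (y ^ j)⁻¹ := by group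
    rw [h1]
    exact Subgroup.mul_mem _ hn (Subgroup.inv_mem _ (Subgroup.le_normalizer hyj))
  have h1 : a * y * a⁻¹ ∈ H := (Subgroup.mem_normalizer_iff.mp haN y).mp hy
  have hc : a * y * a⁻¹ * y⁻¹ ∈ H ⊓ A := by
    refine Subgroup.mem_inf.mpr ⟨H.mul_mem h1 (H.inv_mem hy), ?_⟩
    have h2 : a * y * a⁻¹ * y⁻¹ = a * (y * a⁻¹ * y⁻¹) := by group
    rw [h2]; exact A.mul_mem ha (hAn.conj_mem _ (A.inv_mem ha) y)
  obtain ⟨b, hb, hbe⟩ := comm_surj A (H ⊓ A) inf_le_right y
    (fun b hb => Subgroup.mem_inf.mpr ⟨H.mul_mem (H.mul_mem hy (Subgroup.mem_inf.mp hb).1) (H.inv_mem hy),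
      hAn.conj_mem _ (Subgroup.mem_inf.mp hb).2 y⟩) hfpf _ hc
  have hba : b = a := comm_inj A y hfpf b a (Subgroup.mem_inf.mp hb).2 ha hbe
  rw [← hba]
  exact H.mul_mem (Subgroup.mem_inf.mp hb).1 hyj

/-- The backward direction. -/
theorem backward {G : Type*} [Group G] [Finite G] (x : G) (A : Subgroup G) (p : ℕ) (hp : p.Prime)
    [hAn : A.Normal] [hAc : IsMulCommutative A] (hk : ∃ k : ℕ, orderOf x = p ^ k)
    (hcompl : (Subgroup.zpowers x).IsComplement' A) (hxp : x ^ p ∈ Subgroup.center G)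
    (hfpf : ∀ a : G, a ∈ A → a ≠ 1 → x * a * x⁻¹ ≠ a) (H : Subgroup G)
    (hH : ¬ IsMulCommutative H) : Subgroup.normalizer (H : Set G) = H := by
  refine le_antisymm ?_ Subgroup.le_normalizer
  have hAcomm : ∀ a ∈ A, ∀ b ∈ A, a * b = b * a := fun a ha b hb => setLike_mul_comm ha hb
  -- generation by x
  have hgenx : ∀ g : G, ∃ a ∈ A, ∃ j : ℕ, g = a * x ^ j := by
    intro g
    obtain ⟨⟨⟨z, hz⟩, ⟨a, ha⟩⟩, h⟩ := hcompl.2 g
    have h' : z * a = g := h
    obtain ⟨j, hj⟩ := Submonoid.mem_powers_iff _ _ |>.mp (mem_powers_iff_mem_zpowers.mpr hz)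
    refine ⟨z * a * z⁻¹, hAn.conj_mem _ ha z, j, ?_⟩
    rw [hj, ← h']; group
  have hfpfx : ∀ a ∈ A, x * a = a * x → a = 1 := by
    intro a ha h
    by_contra h1
    exact hfpf a ha h1 (by rw [h]; group)
  -- non-commuting pair
  have hpair : ∃ h₁ ∈ H, ∃ h₂ ∈ H, h₁ * h₂ ≠ h₂ * h₁ := by
    by_contra hall
    push_neg at hall
    exact hH ⟨⟨fun a b => Subtype.ext (hall a.1 a.2 b.1 b.2)⟩⟩
  obtain ⟨h₁, hh₁, h₂, hh₂, hne⟩ := hpair
  have hcent : ∀ i : ℕ, p ∣ i → x ^ i ∈ Subgroup.center G := by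
    rintro i ⟨m, rfl⟩
    rw [pow_mul]; exact Subgroup.pow_mem _ hxp m
  -- an element of H of the form a * x^i with p ∤ i
  have hex : ∃ h ∈ H, ∃ a ∈ A, ∃ i : ℕ, ¬ p ∣ i ∧ h = a * x ^ i := by
    obtain ⟨a₁, ha₁, i₁, e₁⟩ := hgenx h₁
    obtain ⟨a₂, ha₂, i₂, e₂⟩ := hgenx h₂
    by_cases hi₁ : p ∣ i₁
    · by_cases hi₂ : p ∣ i₂
      · exfalso
        apply hne
        have c1 := Subgroup.mem_center_iff.mp (hcent i₁ hi₁)
        have c2 := Subgroup.mem_center_iff.mp (hcent i₂ hi₂)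
        rw [e₁, e₂]
        calc a₁ * x ^ i₁ * (a₂ * x ^ i₂) = a₁ * (x ^ i₁ * a₂) * x ^ i₂ := by group
          _ = a₁ * (a₂ * x ^ i₁) * x ^ i₂ := by rw [← c1 a₂]
          _ = (a₁ * a₂) * (x ^ i₁ * x ^ i₂) := by group
          _ = (a₂ * a₁) * (x ^ i₂ * x ^ i₁) := by
              rw [hAcomm a₁ ha₁ a₂ ha₂, ← pow_add, ← pow_add, add_comm]
          _ = a₂ * (a₁ * x ^ i₂) * x ^ i₁ := by group
          _ = a₂ * (x ^ i₂ * a₁) * x ^ i₁ := by rw [← c2 a₁]
          _ = a₂ * x ^ i₂ * (a₁ * x ^ i₁) := by group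
      · exact ⟨h₂, hh₂, a₂, ha₂, i₂, hi₂, e₂⟩
    · exact ⟨h₁, hh₁, a₁, ha₁, i₁, hi₁, e₁⟩
  obtain ⟨h, hhH, a, ha, i, hi, he⟩ := hex
  obtain ⟨k, hk⟩ := hk
  have hcop : i.Coprime (orderOf x) := by
    rw [hk]
    exact Nat.Coprime.pow_right k ((Nat.Prime.coprime_iff_not_dvd hp).mpr hi).symm
  obtain ⟨m, hm⟩ := exists_pow_eq_self_of_coprime hcop
  set u := x ^ i with hu
  -- properties of u
  have hgenu : ∀ g : G, ∃ a ∈ A, ∃ j : ℕ, g = a * u ^ j := by
    intro g
    obtain ⟨a', ha', j, e⟩ := hgenx g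
    refine ⟨a', ha', m * j, ?_⟩
    rw [pow_mul, hm]; exact e
  have hfpfu : ∀ a ∈ A, u * a = a * u → a = 1 := by
    intro a' ha' h
    apply hfpfx a' ha'
    have h1 : Commute (u ^ m) a' := Commute.pow_left h m
    rw [hm] at h1
    exact h1
  obtain ⟨b, hb, hbe⟩ := comm_surj A A le_rfl u (fun b hb => hAn.conj_mem _ hb u) hfpfu a ha
  set y := b * u * b⁻¹ with hy
  have hyH : y ∈ H := by
    have h1 : y = a * u := by
      rw [← hbe, hy]; group
    rw [h1, ← he]; exact hhH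
  have hgeny : ∀ g : G, ∃ a ∈ A, ∃ j : ℕ, g = a * y ^ j := by
    intro g
    obtain ⟨a', ha', j, e⟩ := hgenu g
    refine ⟨a' * (b⁻¹ * (y ^ j * b * (y ^ j)⁻¹)), A.mul_mem ha' (A.mul_mem (A.inv_mem hb)
      (hAn.conj_mem _ hb _)), j, ?_⟩
    have h1 : y ^ j = b * u ^ j * b⁻¹ := by rw [hy, conj_pow]
    rw [e, h1]; group
  have hfpfy : ∀ a ∈ A, y * a = a * y → a = 1 := by
    intro a' ha' h
    have h1 : u * (b⁻¹ * a' * b) = (b⁻¹ * a' * b) * u := by
      calc u * (b⁻¹ * a' * b) = b⁻¹ * ((b * u * b⁻¹) * a') * b := by group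
        _ = b⁻¹ * (a' * (b * u * b⁻¹)) * b := by rw [← hy, h]
        _ = (b⁻¹ * a' * b) * u := by group
    have h2 := hfpfu _ (by
      have := hAn.conj_mem _ ha' b⁻¹
      simpa using this) h1
    have h3 : a' = b * (b⁻¹ * a' * b) * b⁻¹ := by group
    rw [h3, h2]; group
  intro n hn
  exact core A y hgeny hfpfy H hyH n hn


theorem eq_top_of_prime_index {G : Type*} [Group G] [Finite G] (M K : Subgroup G)
    (hMp : M.index.Prime) (hMK : M ≤ K) (x : G) (hxK : x ∈ K) (hxM : x ∉ M) : K = ⊤ := by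
  have h1 : K.index ∣ M.index := Subgroup.index_dvd_of_le hMK
  rcases (Nat.dvd_prime hMp).mp h1 with h | h
  · exact Subgroup.index_eq_one.mp h
  · exfalso
    have c1 := Subgroup.card_mul_index K
    have c2 := Subgroup.card_mul_index M
    rw [h] at c1
    have hpos : 0 < M.index := hMp.pos
    have hc : Nat.card K = Nat.card M :=
      Nat.eq_of_mul_eq_mul_right hpos (c1.trans c2.symm)
    have : M = K := Subgroup.eq_of_le_of_card_ge hMK (le_of_eq hc)
    exact hxM (this ▸ hxK)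

/-- The `t`-torsion subgroup of an abelian normal subgroup of order `p^k t`. -/
theorem exists_hall_compl {G : Type*} [Group G] [Finite G] (M : Subgroup G) [hMn : M.Normal]
    (hMc : ∀ a ∈ M, ∀ b ∈ M, a * b = b * a) (p k t : ℕ) [hp : Fact p.Prime] (ht : ¬ p ∣ t)
    (hM : Nat.card M = p ^ k * t) :
    ∃ A : Subgroup G, A.Normal ∧ A ≤ M ∧ Nat.card A = t := by
  letI : CommGroup M :=
    { (inferInstance : Group M) with mul_comm := fun a b => Subtype.ext (hMc a a.2 b b.2) }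
  let φ : M →* M := powMonoidHom t
  have hcard : Nat.card φ.ker * Nat.card φ.range = Nat.card M := by
    rw [← Subgroup.index_ker]; exact Subgroup.card_mul_index _
  have hrange : IsPGroup p φ.range := by
    rintro ⟨y, m, rfl⟩
    refine ⟨k, Subtype.ext ?_⟩
    show (φ m) ^ (p ^ k) = 1
    show (m ^ t) ^ (p ^ k) = 1
    rw [← pow_mul, mul_comm, ← hM]
    exact pow_card_eq_one'
  obtain ⟨j, hj⟩ := IsPGroup.iff_card.mp hrange
  have hker : ¬ p ∣ Nat.card φ.ker := by
    intro hdvd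
    obtain ⟨z, hz⟩ := exists_prime_orderOf_dvd_card' p hdvd
    have h1 : (z : M) ^ t = 1 := z.2
    have h2 : orderOf (z : M) ∣ t := orderOf_dvd_of_pow_eq_one h1
    rw [Subgroup.orderOf_coe, hz] at h2
    exact ht h2
  have ht0 : t ≠ 0 := fun h => ht (h ▸ dvd_zero p)
  have hkt : Nat.card φ.ker = t := by
    rw [hj, hM] at hcard
    have hcopk : (Nat.card φ.ker).Coprime (p ^ k) :=
      Nat.Coprime.pow_right k ((Nat.Prime.coprime_iff_not_dvd hp.out).mpr hker).symm
    have hcopt : t.Coprime (p ^ j) :=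
      Nat.Coprime.pow_right j ((Nat.Prime.coprime_iff_not_dvd hp.out).mpr ht).symm
    have d1 : Nat.card φ.ker ∣ t :=
      hcopk.dvd_of_dvd_mul_left (Dvd.intro _ hcard)
    have d2 : t ∣ Nat.card φ.ker :=
      hcopt.dvd_of_dvd_mul_right (Dvd.intro_left _ hcard.symm)
    exact Nat.dvd_antisymm d1 d2
  refine ⟨φ.ker.map M.subtype, ?_, Subgroup.map_subtype_le _, ?_⟩
  · constructor
    rintro _ ⟨m, hm, rfl⟩ g
    have hm1 : (m : G) ^ t = 1 := by
      have : φ m = 1 := hm
      have h2 : ((m ^ t : M) : G) = 1 := by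
        have : m ^ t = 1 := this
        rw [this]; rfl
      simpa using h2
    refine ⟨⟨g * (m : G) * g⁻¹, hMn.conj_mem _ m.2 g⟩, ?_, rfl⟩
    show φ _ = 1
    apply Subtype.ext
    show (g * (m : G) * g⁻¹) ^ t = 1
    rw [conj_pow, hm1]; group
  · rw [Subgroup.card_map_of_injective M.subtype_injective, hkt]

/-- The forward direction. -/
theorem forward {G : Type u} [Group G] [Finite G] [Group.IsSolvable G]
    (hnn : ¬ Group.IsNilpotent G)
    (hself : ∀ H : Subgroup G, ¬ IsMulCommutative H → Subgroup.normalizer (H : Set G) = H) :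
    ∃ (x : G) (A : Subgroup G) (p : ℕ), p.Prime ∧ A.Normal ∧ IsMulCommutative A ∧
      (∃ k : ℕ, orderOf x = p ^ k) ∧ ¬ p ∣ Nat.card A ∧ (Subgroup.zpowers x).IsComplement' A ∧
      x ^ p ∈ Subgroup.center G ∧ ∀ a : G, a ∈ A → a ≠ 1 → x * a * x⁻¹ ≠ a := by
  haveI : Nontrivial G := by
    by_contra h
    rw [not_nontrivial_iff_subsingleton] at h
    exact hnn inferInstance
  obtain ⟨M, hMn, hMp⟩ := Cfsg.Agent.helper23.exists_normal_prime_index G
  set p := M.index with hpdef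
  haveI : Fact p.Prime := ⟨hMp⟩
  have hcomm_of : ∀ H : Subgroup G, Subgroup.normalizer (H : Set G) ≠ H →
      ∀ a ∈ H, ∀ b ∈ H, a * b = b * a := by
    intro H hH
    by_contra hall
    push_neg at hall
    apply hH
    apply hself
    intro hc
    obtain ⟨a, ha, b, hb, hab⟩ := hall
    exact hab (setLike_mul_comm ha hb)
  have hMc : ∀ a ∈ M, ∀ b ∈ M, a * b = b * a := by
    apply hcomm_of
    rw [Subgroup.normalizer_eq_top]
    intro h
    have : M.index = 1 := by rw [← h]; exact Subgroup.index_top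
    exact hMp.ne_one (hpdef.trans this)
  obtain ⟨k, t, ht, hMkt⟩ := Nat.exists_eq_pow_mul_and_not_dvd (Nat.card_pos (α := M)).ne' p hMp.ne_one
  obtain ⟨A, hAn, hAM, hAt⟩ := exists_hall_compl M hMc p k t ht hMkt
  have ht0 : 0 < t := Nat.pos_of_ne_zero (fun h => ht (h ▸ dvd_zero p))
  have hAc : ∀ a ∈ A, ∀ b ∈ A, a * b = b * a := fun a ha b hb => hMc a (hAM ha) b (hAM hb)
  have hG : Nat.card G = p ^ (k + 1) * t := by
    rw [← Subgroup.card_mul_index M, hMkt, ← hpdef]; ring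
  obtain ⟨P⟩ : Nonempty (Sylow p G) := inferInstance
  have hPc : Nat.card (P : Subgroup G) = p ^ (k + 1) := by
    rw [P.card_eq_multiplicity, hG, Nat.factorization_mul (pow_pos hMp.pos _).ne' ht0.ne',
      Nat.Prime.factorization_pow hMp, Finsupp.add_apply, Finsupp.single_eq_same,
      Nat.factorization_eq_zero_of_not_dvd ht, add_zero]
  have hPM : ¬ (P : Subgroup G) ≤ M := by
    intro h
    have h1 : p ^ (k + 1) ∣ p ^ k * t := by
      rw [← hPc, ← hMkt]; exact Subgroup.card_dvd_of_le h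
    rw [pow_succ] at h1
    exact ht ((Nat.mul_dvd_mul_iff_left (pow_pos hMp.pos k)).mp h1)
  obtain ⟨x, hxP, hxM⟩ := SetLike.not_le_iff_exists.mp hPM
  have htop : ∀ K : Subgroup G, M ≤ K → x ∈ K → K = ⊤ := fun K hMK hxK =>
    eq_top_of_prime_index M K hMp hMK x hxK hxM
  -- x does not centralize A
  have hxA : ¬ ∀ a ∈ A, x * a = a * x := by
    intro hall
    apply hnn
    have hcen : A ≤ Subgroup.center G := by
      intro a ha
      have h1 : Subgroup.centralizer ({a} : Set G) = ⊤ := by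
        apply htop
        · intro m hm
          rw [Subgroup.mem_centralizer_singleton_iff]
          exact hMc m hm a (hAM ha)
        · rw [Subgroup.mem_centralizer_singleton_iff]
          exact hall a ha
      rw [Subgroup.mem_center_iff]
      intro g
      have : g ∈ Subgroup.centralizer ({a} : Set G) := h1 ▸ Subgroup.mem_top g
      exact Subgroup.mem_centralizer_singleton_iff.mp this
    have hq : Nat.card (G ⧸ A) = p ^ (k + 1) := by
      have h1 := Subgroup.card_eq_card_quotient_mul_card_subgroup A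
      rw [hG, hAt] at h1
      exact (Nat.eq_of_mul_eq_mul_right ht0 h1).symm
    have : Group.IsNilpotent (G ⧸ A) := (IsPGroup.of_card hq).isNilpotent
    exact _root_.isNilpotent_of_ker_le_center (QuotientGroup.mk' A)
      (by rw [QuotientGroup.ker_mk']; exact hcen)
  set Z := Subgroup.zpowers x with hZ
  have hZP : Z ≤ (P : Subgroup G) := Subgroup.zpowers_le.mpr hxP
  have hcopPA : (Nat.card (P : Subgroup G)).Coprime (Nat.card A) := by
    rw [hPc, hAt]
    exact Nat.Coprime.pow_left _ ((Nat.Prime.coprime_iff_not_dvd hMp).mpr ht)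
  have hAP : A ⊓ (P : Subgroup G) = ⊥ := Subgroup.inf_eq_bot_of_coprime hcopPA.symm
  -- K = A ⊔ Z is nonabelian hence self-normalizing
  have hK : Subgroup.normalizer ((A ⊔ Z : Subgroup G) : Set G) = A ⊔ Z := by
    apply hself
    intro hc
    apply hxA
    intro a ha
    exact setLike_mul_comm (s := A ⊔ Z) (Subgroup.mem_sup_right (Subgroup.mem_zpowers x))
      (Subgroup.mem_sup_left ha)
  have hNZ : (P : Subgroup G) ⊓ Subgroup.normalizer (Z : Set G) ≤ Z := by
    intro g hg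
    have hgP := (Subgroup.mem_inf.mp hg).1
    have hgN := (Subgroup.mem_inf.mp hg).2
    have h1 : g ∈ Subgroup.normalizer ((A ⊔ Z : Subgroup G) : Set G) := by
      apply Subgroup.normalizer_inf_normalizer_le_normalizer_sup A Z
      refine Subgroup.mem_inf.mpr ⟨?_, hgN⟩
      rw [Subgroup.normalizer_eq_top]; exact Subgroup.mem_top g
    rw [hK] at h1
    have h2 : g ∈ ((A ⊔ Z : Subgroup G) : Set G) := h1
    rw [Subgroup.normal_mul] at h2
    obtain ⟨a, ha, z, hz, hg0⟩ := h2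
    have hg1 : a * z = g := hg0
    subst hg1
    have haP : a ∈ (P : Subgroup G) := by
      have h3 : a = (a * z) * z⁻¹ := by group
      rw [h3]; exact Subgroup.mul_mem _ hgP (Subgroup.inv_mem _ (hZP hz))
    have ha1 : a = 1 := by
      have : a ∈ A ⊓ (P : Subgroup G) := Subgroup.mem_inf.mpr ⟨ha, haP⟩
      rw [hAP] at this
      exact Subgroup.mem_bot.mp this
    rw [ha1, one_mul]; exact hz
  have hZeq : Z = (P : Subgroup G) := by
    by_contra hne
    have hlt : Z < (P : Subgroup G) := lt_of_le_of_ne hZP hne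
    have := Cfsg.Agent.helper10.lt_inf_normalizer_of_lt P.isPGroup' hlt
    exact (lt_of_lt_of_le this hNZ).false
  have hZc : Nat.card Z = p ^ (k + 1) := by rw [hZeq, hPc]
  have hox : orderOf x = p ^ (k + 1) := by rw [← Nat.card_zpowers, ← hZ, hZc]
  -- x^p is central
  have hxpM : x ^ p ∈ M := by
    rw [← QuotientGroup.eq_one_iff, QuotientGroup.mk_pow]
    have h1 : Nat.card (G ⧸ M) = p := rfl
    rw [← h1]
    exact pow_card_eq_one'
  have hxpc : x ^ p ∈ Subgroup.center G := by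
    have h1 : Subgroup.centralizer ({x ^ p} : Set G) = ⊤ := by
      apply htop
      · intro m hm
        rw [Subgroup.mem_centralizer_singleton_iff]
        exact hMc m hm _ hxpM
      · rw [Subgroup.mem_centralizer_singleton_iff]
        rw [← pow_succ', ← pow_succ]
    rw [Subgroup.mem_center_iff]
    intro g
    have : g ∈ Subgroup.centralizer ({x ^ p} : Set G) := h1 ▸ Subgroup.mem_top g
    exact Subgroup.mem_centralizer_singleton_iff.mp this
  have hcopZA : (Nat.card Z).Coprime (Nat.card A) := by rw [hZeq]; exact hcopPA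
  refine ⟨x, A, p, hMp, hAn, ⟨⟨fun a b => Subtype.ext (hAc a a.2 b b.2)⟩⟩, ⟨k + 1, hox⟩, ?_, ?_,
    hxpc, ?_⟩
  · rw [hAt]; exact ht
  · exact Subgroup.isComplement'_of_coprime (by rw [hZc, hAt, hG]) hcopZA
  · intro a ha ha1 hxa
    have hxa' : x * a = a * x := by
      have : x * a = (x * a * x⁻¹) * x := by group
      rw [this, hxa]
    -- a is central
    have hac : a ∈ Subgroup.center G := by
      have h1 : Subgroup.centralizer ({a} : Set G) = ⊤ := by
        apply htop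
        · intro m hm
          rw [Subgroup.mem_centralizer_singleton_iff]
          exact hMc m hm a (hAM ha)
        · rw [Subgroup.mem_centralizer_singleton_iff]
          exact hxa'
      rw [Subgroup.mem_center_iff]
      intro g
      have : g ∈ Subgroup.centralizer ({a} : Set G) := h1 ▸ Subgroup.mem_top g
      exact Subgroup.mem_centralizer_singleton_iff.mp this
    have hZA : Z ≤ Subgroup.normalizer (A : Set G) := by
      rw [Subgroup.normalizer_eq_top]; exact le_top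
    have hZcomm : ∀ a ∈ Z, ∀ b ∈ Z, a * b = b * a := by
      intro a ha b hb
      obtain ⟨i, rfl⟩ := Subgroup.mem_zpowers_iff.mp ha
      obtain ⟨j, rfl⟩ := Subgroup.mem_zpowers_iff.mp hb
      rw [← zpow_add, ← zpow_add, add_comm]
    have hsolvZ : Group.IsSolvable Z :=
      Group.isSolvable_of_comm (fun a b : Z => Subtype.ext (hZcomm a a.2 b b.2))
    have e1 := coprime_abelian_inf Z A hAc hZA hcopZA
    have e2 := coprime_commutator_sup_fixed Z A hZA hcopZA (Or.inl hsolvZ)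
    set B : Subgroup G := ⁅A, Z⁆ with hB
    have hBA : B ≤ A := Subgroup.commutator_le_left A Z
    have hZB : Z ≤ Subgroup.normalizer (B : Set G) := by
      have := le_normalizer_commutator_left Z A
      rwa [Subgroup.commutator_comm] at this
    have haC : a ∈ A ⊓ Subgroup.centralizer (Z : Set G) := by
      refine Subgroup.mem_inf.mpr ⟨ha, ?_⟩
      rw [Subgroup.mem_centralizer_iff]
      intro h _
      exact (Subgroup.mem_center_iff.mp hac h)
    have haH : a ∉ B ⊔ Z := by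
      intro h
      have h2 : a ∈ ((B ⊔ Z : Subgroup G) : Set G) := h
      rw [Subgroup.coe_mul_of_right_le_normalizer_left B Z hZB] at h2
      obtain ⟨b, hb, z, hz, hbz0⟩ := h2
      have hbz : b * z = a := hbz0
      have hzA : z ∈ A := by
        have h3 : z = b⁻¹ * a := by rw [← hbz]; group
        rw [h3]; exact A.mul_mem (A.inv_mem (hBA hb)) ha
      have hz1 : z = 1 := by
        have : z ∈ A ⊓ (P : Subgroup G) := Subgroup.mem_inf.mpr ⟨hzA, hZP hz⟩
        rw [hAP] at this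
        exact Subgroup.mem_bot.mp this
      rw [hz1, mul_one] at hbz
      have : a ∈ (A ⊓ Subgroup.centralizer (Z : Set G)) ⊓ B :=
        Subgroup.mem_inf.mpr ⟨haC, hbz ▸ hb⟩
      rw [e1] at this
      exact ha1 (Subgroup.mem_bot.mp this)
    have haN : a ∈ Subgroup.normalizer ((B ⊔ Z : Subgroup G) : Set G) :=
      Subgroup.center_le_normalizer _ hac
    have hHc : ∀ g ∈ B ⊔ Z, ∀ h ∈ B ⊔ Z, g * h = h * g := by
      apply hcomm_of
      intro h
      exact haH (h ▸ haN)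
    apply hxA
    intro a' ha'
    have hle : A ≤ Subgroup.centralizer ({x} : Set G) := by
      rw [← e2]
      apply sup_le
      · intro b hb
        rw [Subgroup.mem_centralizer_singleton_iff]
        exact hHc b (Subgroup.mem_sup_left hb) x (Subgroup.mem_sup_right (Subgroup.mem_zpowers x))
      · intro c hc
        rw [Subgroup.mem_centralizer_singleton_iff]
        exact ((Subgroup.mem_centralizer_iff.mp (Subgroup.mem_inf.mp hc).2) x
          (Subgroup.mem_zpowers x)).symm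
    exact (Subgroup.mem_centralizer_singleton_iff.mp (hle ha')).symm

end Cfsg.Agent.lead.SelfNorm
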