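import Cfsg.Statements.S0011
import Mathlib

set_option autoImplicit false
set_option linter.style.haveILetI false
open Cfsg

namespace Cfsg.Agent.S0011

/-- If the Frattini quotient of a finite group is nilpotent then the group is nilpotent. -/
theorem result {G : Type*} [Group G] [Finite G]
    (h : Group.IsNilpotent (G ⧸ frattini G)) : Group.IsNilpotent G := by
  apply ((Group.isNilpotent_of_finite_tfae (G := G)).out 0 3 rfl rfl).mpr
  intro p hp P
  haveI := hp
  set Φ := frattini G with hΦ
  have hπ : Function.Surjective (QuotientGroup.mk' Φ) := QuotientGroup.mk'_surjective Φ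
  let Pbar : Sylow p (G ⧸ Φ) := P.mapSurjective hπ
  haveI : (Pbar : Subgroup (G ⧸ Φ)).Normal := inferInstance
  set N := (Pbar : Subgroup (G ⧸ Φ)).comap (QuotientGroup.mk' Φ) with hN
  haveI : N.Normal := Subgroup.Normal.comap inferInstance _
  have hN' : N = (P : Subgroup G) ⊔ Φ := by
    rw [hN, Sylow.coe_mapSurjective, Subgroup.comap_map_eq, QuotientGroup.ker_mk']
  have hPN : (P : Subgroup G) ≤ N := by rw [hN']; exact le_sup_left
  have h1 := Sylow.normalizer_sup_eq_top' P hPN
  have h2 : Subgroup.normalizer (P : Set G) ⊔ Φ = ⊤ := by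
    rw [← h1, hN', ← sup_assoc]
    congr 1
    exact (sup_eq_left.mpr (Subgroup.le_normalizer)).symm
  have h3 := frattini_nongenerating h2
  exact Subgroup.normalizer_eq_top_iff.mp h3

end Cfsg.Agent.S0011
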