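import Cfsg.Statements.S0014
import Cfsg.Agent.Lib_helper23_BurnsideBasis
import Cfsg.Agent.Lib_helper1_PGroup
import Cfsg.Agent.Lib_helper1_ElemAb

set_option autoImplicit false
open Cfsg

namespace Cfsg.Agent.S0014

/-- Burnside's basis Theorem: in a finite p-group whose Frattini quotient has order p ^ n, every generating set contains n elements that already generate, and no set with fewer than n elements generates. -/
theorem result {G : Type*} [Group G] [Finite G] (p n : ℕ) [Fact p.Prime]
    (hG : IsPGroup p G) (hn : (frattini G).index = p ^ n) :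
    (∀ S : Finset G, Subgroup.closure (S : Set G) = ⊤ → ∃ T : Finset G, T ⊆ S ∧ T.card = n ∧ Subgroup.closure (T : Set G) = ⊤) ∧
    (∀ T : Finset G, Subgroup.closure (T : Set G) = ⊤ → n ≤ T.card) := by
  classical
  haveI : (frattini G).Normal := inferInstance
  have hcomm : commutator G ≤ frattini G := helper1.commutator_le_frattini_of_isPGroup hG
  have hpw : ∀ x : G, x ^ p ∈ frattini G := fun x => helper1.pow_mem_frattini_of_isPGroup hG x
  have hc := helper1.quot_comm_of_commutator_le (frattini G) hcomm
  have hpow := helper1.quot_pow_eq_one_of_pow_mem (frattini G) hpw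
  have hcard : Nat.card (G ⧸ frattini G) = p ^ n := by
    rw [← Subgroup.index_eq_card]; exact hn
  obtain ⟨h1, h2⟩ := helper23.elemAb_basis (Q := G ⧸ frattini G) (p := p) n hc hpow hcard
  have hmapcl : ∀ S : Set G, Subgroup.closure S = ⊤ →
      Subgroup.closure ((QuotientGroup.mk' (frattini G)) '' S) = ⊤ := by
    intro S hS
    rw [← MonoidHom.map_closure, hS]
    exact Subgroup.map_top_of_surjective _ (QuotientGroup.mk'_surjective _)
  refine ⟨?_, ?_⟩
  · intro S hS
    obtain ⟨T', hT'S, hT'card, hT'cl⟩ := h1 _ (hmapcl _ hS)
    have hsec : ∀ q : G ⧸ frattini G, ∃ g : G, q ∈ T' → (g ∈ S ∧ QuotientGroup.mk' (frattini G) g = q) := by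
      intro q
      by_cases hq : q ∈ T'
      · obtain ⟨g, hg, hgq⟩ := hT'S hq
        exact ⟨g, fun _ => ⟨hg, hgq⟩⟩
      · exact ⟨1, fun h => absurd h hq⟩
    choose sec hsec using hsec
    have hT'fin : T'.Finite := Set.toFinite T'
    refine ⟨hT'fin.toFinset.image sec, ?_, ?_, ?_⟩
    · intro g hg
      rw [Finset.mem_image] at hg
      obtain ⟨q, hq, rfl⟩ := hg
      rw [Set.Finite.mem_toFinset] at hq
      exact (hsec q hq).1
    · rw [Finset.card_image_of_injOn, ← Set.ncard_eq_toFinset_card T' hT'fin, hT'card]
      intro a ha b hb hab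
      rw [Finset.mem_coe, Set.Finite.mem_toFinset] at ha hb
      have e1 := (hsec a ha).2
      have e2 := (hsec b hb).2
      have hab' : sec a = sec b := hab
      rw [← e1, ← e2, hab']
    · apply frattini_nongenerating
      have himg : (QuotientGroup.mk' (frattini G)) '' ((hT'fin.toFinset.image sec : Finset G) : Set G) = T' := by
        ext q
        constructor
        · rintro ⟨g, hg, rfl⟩
          rw [Finset.mem_coe, Finset.mem_image] at hg
          obtain ⟨q, hq, rfl⟩ := hg
          rw [Set.Finite.mem_toFinset] at hq
          rw [(hsec q hq).2]; exact hq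
        · intro hq
          refine ⟨sec q, ?_, (hsec q hq).2⟩
          rw [Finset.mem_coe, Finset.mem_image]
          exact ⟨q, (Set.Finite.mem_toFinset hT'fin).mpr hq, rfl⟩
      have hmap : (Subgroup.closure ((hT'fin.toFinset.image sec : Finset G) : Set G)).map
          (QuotientGroup.mk' (frattini G)) = ⊤ := by
        rw [MonoidHom.map_closure, himg, hT'cl]
      have hcm := Subgroup.comap_map_eq (QuotientGroup.mk' (frattini G))
        (Subgroup.closure ((hT'fin.toFinset.image sec : Finset G) : Set G))
      rw [hmap, Subgroup.comap_top, QuotientGroup.ker_mk'] at hcm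
      exact hcm.symm
  · intro T hT
    have h3 := h2 (T.image (QuotientGroup.mk' (frattini G))) (by
      rw [Finset.coe_image]; exact hmapcl _ hT)
    exact h3.trans Finset.card_image_le

end Cfsg.Agent.S0014
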