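import Cfsg.Statements.S0065
import Mathlib

set_option autoImplicit false
open Pointwise
open Cfsg

namespace Cfsg.Agent.S0065

/-- A nontrivial normal subgroup of a nilpotent group intersects the centre nontrivially. -/
theorem result {G : Type*} [Group G] [Finite G] [Group.IsNilpotent G]
    (N : Subgroup G) [N.Normal] (hN : N ≠ ⊥) : N ⊓ Subgroup.center G ≠ ⊥ := by
  classical
  have hex : ∃ n : ℕ, N ⊓ Subgroup.upperCentralSeries G n ≠ ⊥ := by
    obtain ⟨n, hn⟩ := (Group.isNilpotent_iff (G := G)).mp inferInstance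
    exact ⟨n, by rw [hn, inf_top_eq]; exact hN⟩
  have hmin : ∀ m, m < Nat.find hex → ¬ (N ⊓ Subgroup.upperCentralSeries G m ≠ ⊥) := fun m hm => Nat.find_min hex hm
  have hspec := Nat.find_spec hex
  set i := Nat.find hex with hi
  cases hi' : i with
  | zero =>
    rw [hi'] at hspec
    simp at hspec
  | succ j =>
    rw [hi'] at hspec
    have hj : N ⊓ Subgroup.upperCentralSeries G j = ⊥ := by
      by_contra hcon
      exact hmin j (by omega) hcon
    intro hbot
    apply hspec
    rw [eq_bot_iff] at hbot ⊢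
    intro x hx
    apply hbot
    refine ⟨hx.1, ?_⟩
    change x ∈ Subgroup.center G
    rw [Subgroup.mem_center_iff]
    intro y
    have h1 := (Subgroup.mem_upperCentralSeries_succ_iff).mp hx.2 y
    have h2 : x * y * x⁻¹ * y⁻¹ ∈ N := by
      have : y * x⁻¹ * y⁻¹ ∈ N := Subgroup.Normal.conj_mem inferInstance _ (N.inv_mem hx.1) y
      have := N.mul_mem hx.1 this
      convert this using 1; group
    have h3 : x * y * x⁻¹ * y⁻¹ ∈ N ⊓ Subgroup.upperCentralSeries G j := ⟨h2, h1⟩
    rw [hj, Subgroup.mem_bot] at h3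
    have : x * y = y * x := by
      calc x * y = (x * y * x⁻¹ * y⁻¹) * (y * x) := by group
        _ = y * x := by rw [h3, one_mul]
    exact this.symm

end Cfsg.Agent.S0065
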