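import Cfsg.Statements.S0015
import Mathlib
import Cfsg.Agent.S0065

set_option autoImplicit false
set_option linter.style.haveILetI false
set_option linter.unusedVariables false
open Cfsg

namespace Cfsg.Agent.S0015

/-- In a finite nilpotent group, an abelian normal subgroup that is maximal among abelian normal subgroups equals its own centralizer. -/
theorem result {G : Type*} [Group G] [Finite G] [Group.IsNilpotent G]
    (N : Subgroup G) [N.Normal] [IsMulCommutative N]
    (hmax : ∀ M : Subgroup G, M.Normal → IsMulCommutative M → N ≤ M → M = N) :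
    Subgroup.centralizer (N : Set G) = N := by
  have hc : ∀ x ∈ N, ∀ y ∈ N, x * y = y * x := by
    intro x hx y hy
    have := mul_comm' (⟨x, hx⟩ : N) ⟨y, hy⟩
    exact congrArg Subtype.val this
  set C := Subgroup.centralizer (N : Set G) with hC
  have hNC : N ≤ C := by
    intro x hx
    rw [hC, Subgroup.mem_centralizer_iff]
    intro y hy
    exact hc y hy x hx
  apply le_antisymm _ hNC
  by_contra hCN
  haveI hCn : C.Normal := by rw [hC]; infer_instance
  set π := QuotientGroup.mk' N with hπ
  have hπs : Function.Surjective π := QuotientGroup.mk'_surjective N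
  haveI : (C.map π).Normal := Subgroup.Normal.map hCn π hπs
  have hCbar : C.map π ≠ ⊥ := by
    intro h
    apply hCN
    intro c hc'
    have : π c ∈ C.map π := Subgroup.mem_map_of_mem π hc'
    rw [h, Subgroup.mem_bot] at this
    exact (QuotientGroup.eq_one_iff c).mp this
  have hne := Cfsg.Agent.S0065.result (C.map π) hCbar
  obtain ⟨z, hz1⟩ := (Subgroup.ne_bot_iff_exists_ne_one).mp hne
  have hz' : (z : G ⧸ N) ∈ C.map π ⊓ Subgroup.center (G ⧸ N) := z.2
  obtain ⟨x, hxC, hxz⟩ := Subgroup.mem_map.mp hz'.1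
  have hzc : (z : G ⧸ N) ∈ Subgroup.center (G ⧸ N) := hz'.2
  have hxN : x ∉ N := by
    intro hx
    apply hz1
    apply Subtype.ext
    rw [← hxz]
    exact (QuotientGroup.eq_one_iff x).mpr hx
  set M := (Subgroup.zpowers (z : G ⧸ N)).comap π with hM
  have hMn : M.Normal := by
    haveI : (Subgroup.zpowers (z : G ⧸ N)).Normal := by
      constructor
      intro a ha g
      have hac : a ∈ Subgroup.center (G ⧸ N) := by
        obtain ⟨k, rfl⟩ := Subgroup.mem_zpowers_iff.mp ha
        exact Subgroup.zpow_mem _ hzc k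
      rw [Subgroup.mem_center_iff] at hac
      rw [hac g, mul_assoc, mul_inv_cancel, mul_one]
      exact ha
    exact Subgroup.Normal.comap inferInstance π
  have hNM : N ≤ M := by
    intro n hn
    rw [hM, Subgroup.mem_comap]
    have : π n = 1 := (QuotientGroup.eq_one_iff n).mpr hn
    rw [this]; exact Subgroup.one_mem _
  have hxk : ∀ k : ℤ, ∀ n ∈ N, x ^ k * n = n * x ^ k := by
    intro k n hn
    have : x ^ k ∈ C := Subgroup.zpow_mem _ hxC k
    rw [hC, Subgroup.mem_centralizer_iff] at this
    exact (this n hn).symm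
  have hMdecomp : ∀ a ∈ M, ∃ k : ℤ, ∃ n ∈ N, a = x ^ k * n := by
    intro a ha
    rw [hM, Subgroup.mem_comap] at ha
    obtain ⟨k, hk⟩ := Subgroup.mem_zpowers_iff.mp ha
    refine ⟨k, (x ^ k)⁻¹ * a, ?_, by group⟩
    have : π ((x ^ k)⁻¹ * a) = 1 := by
      rw [map_mul, map_inv, map_zpow, hxz, hk, inv_mul_cancel]
    exact (QuotientGroup.eq_one_iff _).mp this
  have hMc : IsMulCommutative M := by
    refine ⟨⟨?_⟩⟩
    rintro ⟨a, ha⟩ ⟨b, hb⟩
    apply Subtype.ext
    change a * b = b * a
    obtain ⟨i, n, hn, rfl⟩ := hMdecomp a ha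
    obtain ⟨j, m, hm, rfl⟩ := hMdecomp b hb
    calc x ^ i * n * (x ^ j * m) = x ^ i * (n * x ^ j) * m := by group
      _ = x ^ i * (x ^ j * n) * m := by rw [hxk j n hn]
      _ = (x ^ i * x ^ j) * (n * m) := by group
      _ = (x ^ j * x ^ i) * (m * n) := by rw [hc n hn m hm, ← zpow_add, ← zpow_add, add_comm]
      _ = x ^ j * (x ^ i * m) * n := by group
      _ = x ^ j * (m * x ^ i) * n := by rw [hxk i m hm]
      _ = x ^ j * m * (x ^ i * n) := by group
  have hMN := hmax M hMn hMc hNM
  apply hxN
  rw [← hMN, hM, Subgroup.mem_comap, hxz]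
  exact Subgroup.mem_zpowers _

end Cfsg.Agent.S0015
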