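import Cfsg.Statements.S0018
import Cfsg.Agent.Lib_helper23_PSolv3

set_option autoImplicit false
open Cfsg

namespace Cfsg.Agent.S0018

/-- A finite solvable group whose Sylow p-subgroups are abelian has p-length one: a Sylow p-subgroup together with the largest normal subgroup of order prime to p generates a normal subgroup. -/
theorem result {G : Type*} [Group G] [Finite G] [Group.IsSolvable G]
    (p : ℕ) [Fact p.Prime] (P : Sylow p G) (hP : IsMulCommutative P) :
    ((P : Subgroup G) ⊔ Cfsg.pPrimeCore p G).Normal := by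
  haveI hKn : (Cfsg.pPrimeCore p G).Normal := Cfsg.Agent.helper1.pPrimeCore_normal p
  have hπ := QuotientGroup.mk'_surjective (Cfsg.pPrimeCore p G)
  have hps' : Cfsg.Agent.helper23.PSReach p (⊤ : Subgroup (G ⧸ Cfsg.pPrimeCore p G)) :=
    Cfsg.Agent.helper23.psreach_top_of_solvable p _ (G ⧸ Cfsg.pPrimeCore p G) rfl
  have hO' := Cfsg.Agent.helper9.pPrimeCore_quotient_eq_bot (G := G) p
  have hHH := Cfsg.Agent.helper23.hall_higman_123 hps' hO'
  have hP' : ((P.mapSurjective hπ : Sylow p (G ⧸ Cfsg.pPrimeCore p G)) :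
      Subgroup (G ⧸ Cfsg.pPrimeCore p G)) =
      (P : Subgroup G).map (QuotientGroup.mk' (Cfsg.pPrimeCore p G)) :=
    Sylow.coe_mapSurjective hπ P
  have hVP : Cfsg.pCore p (G ⧸ Cfsg.pPrimeCore p G) ≤
      (P : Subgroup G).map (QuotientGroup.mk' (Cfsg.pPrimeCore p G)) := by
    rw [← hP']; exact Cfsg.Agent.helper1.pCore_le_sylow _
  have hPV : (P : Subgroup G).map (QuotientGroup.mk' (Cfsg.pPrimeCore p G)) ≤
      Cfsg.pCore p (G ⧸ Cfsg.pPrimeCore p G) := by
    refine le_trans ?_ hHH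
    rintro _ ⟨x, hx, rfl⟩
    rw [Subgroup.mem_centralizer_iff]
    intro v hv
    obtain ⟨y, hy, rfl⟩ := hVP hv
    rw [← map_mul, ← map_mul]
    congr 1
    have h1 := hP.is_comm.comm (⟨y, hy⟩ : P) ⟨x, hx⟩
    exact congrArg Subtype.val h1
  have heq : (P : Subgroup G).map (QuotientGroup.mk' (Cfsg.pPrimeCore p G)) =
      Cfsg.pCore p (G ⧸ Cfsg.pPrimeCore p G) := le_antisymm hPV hVP
  have hn : ((Cfsg.pCore p (G ⧸ Cfsg.pPrimeCore p G)).comap
      (QuotientGroup.mk' (Cfsg.pPrimeCore p G))).Normal :=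
    (Cfsg.Agent.helper1.pCore_normal p).comap _
  rw [← heq, Subgroup.comap_map_eq, QuotientGroup.ker_mk'] at hn
  exact hn

end Cfsg.Agent.S0018
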