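import Cfsg.Statements.S0021
import Cfsg.Agent.Lib_helper23_HallConv
import Cfsg.Agent.Lib_helper23_PermJoin

set_option autoImplicit false
open Pointwise
open Cfsg

namespace Cfsg.Agent.S0021

open scoped Pointwise

/-- A finite group with a family of pairwise permuting Sylow subgroups, one for each prime, is solvable (this direction rests on Burnside's two-prime Theorem). -/
theorem result {G : Type*} [Group G] [Finite G]
    (S : (p : Nat.Primes) → Sylow (p : ℕ) G)
    (hS : ∀ p q : Nat.Primes, (S p : Set G) * (S q : Set G) = (S q : Set G) * (S p : Set G)) :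
    Group.IsSolvable G := by
  classical
  let S' : ℕ → Subgroup G := fun q => if h : q.Prime then (S ⟨q, h⟩ : Subgroup G) else ⊥
  let c : ℕ → ℕ := fun q => if q.Prime then q ^ (Nat.card G).factorization q else 1
  have hS'p : ∀ q (h : q.Prime), S' q = (S ⟨q, h⟩ : Subgroup G) := fun q h => dif_pos h
  have hS'n : ∀ q, ¬ q.Prime → S' q = ⊥ := fun q h => dif_neg h
  have hperm : ∀ q r : ℕ, ((S' q : Subgroup G) : Set G) * (S' r : Set G) =
      (S' r : Set G) * (S' q : Set G) := by
    intro q r
    by_cases hq : q.Prime
    · by_cases hr : r.Prime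
      · rw [hS'p q hq, hS'p r hr]; exact hS ⟨q, hq⟩ ⟨r, hr⟩
      · rw [hS'n r hr, Subgroup.coe_bot, Set.singleton_one, one_mul, mul_one]
    · rw [hS'n q hq, Subgroup.coe_bot, Set.singleton_one, one_mul, mul_one]
  have hc : ∀ q, Nat.card (S' q) = c q := by
    intro q
    by_cases hq : q.Prime
    · haveI : Fact q.Prime := ⟨hq⟩
      rw [hS'p q hq]
      simp only [c, if_pos hq]
      exact (S ⟨q, hq⟩).card_eq_multiplicity
    · rw [hS'n q hq]
      simp only [c, if_neg hq]
      exact Subgroup.card_bot
  apply helper23.hall_converse _ G rfl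
  intro p hp
  obtain ⟨J, -, hJ⟩ := helper23.exists_join_of_perm S' hperm c hc
    ((Nat.card G).primeFactors.erase p) (by
      intro q hq r hr hqr
      have hqp := Nat.prime_of_mem_primeFactors (Finset.mem_of_mem_erase hq)
      have hrp := Nat.prime_of_mem_primeFactors (Finset.mem_of_mem_erase hr)
      simp only [c, if_pos hqp, if_pos hrp]
      exact Nat.Coprime.pow _ _ ((Nat.coprime_primes hqp hrp).2 hqr))
  refine ⟨J, ?_⟩
  have hn : Nat.card G ≠ 0 := Nat.card_pos.ne'
  have hprod : Nat.card G = ∏ q ∈ (Nat.card G).primeFactors, q ^ (Nat.card G).factorization q := by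
    conv_lhs => rw [← Nat.prod_factorization_pow_eq_self hn]
    rw [Finsupp.prod, Nat.support_factorization]
  have hJ' : Nat.card J =
      ∏ q ∈ (Nat.card G).primeFactors.erase p, q ^ (Nat.card G).factorization q := by
    rw [hJ]
    apply Finset.prod_congr rfl
    intro q hq
    simp only [c, if_pos (Nat.prime_of_mem_primeFactors (Finset.mem_of_mem_erase hq))]
  have hmul : p ^ (Nat.card G).factorization p * Nat.card J = Nat.card G := by
    rw [hJ']
    by_cases hpm : p ∈ (Nat.card G).primeFactors
    · rw [Finset.mul_prod_erase _ (fun q => q ^ (Nat.card G).factorization q) hpm]; exact hprod.symm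
    · rw [Finset.erase_eq_of_notMem hpm]
      have h0 : (Nat.card G).factorization p = 0 := by
        apply Nat.factorization_eq_zero_of_not_dvd
        intro hd
        exact hpm (Nat.mem_primeFactors.2 ⟨hp, hd, hn⟩)
      rw [h0, pow_zero, one_mul]; exact hprod.symm
  have h1 := Subgroup.index_mul_card J
  have hpos : 0 < Nat.card J := Nat.card_pos
  exact Nat.eq_of_mul_eq_mul_right hpos (h1.trans hmul.symm)

end Cfsg.Agent.S0021
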