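import Mathlib
import Cfsg.Statements.S0024
import Cfsg.Agent.Lib_lead_Coprime4

set_option autoImplicit false
open Pointwise
open Cfsg

namespace Cfsg.Agent.S0024

open Cfsg.Agent.helper7 Cfsg.Agent.lead

theorem result {G : Type*} [Group G] [Finite G] (A K : Subgroup G) (hAK : A ≤ Subgroup.normalizer (K : Set G))
    (hcop : (Nat.card A).Coprime (Nat.card K)) (hsolv : Group.IsSolvable A ∨ Group.IsSolvable K)
    (p : ℕ) [Fact p.Prime] (P Q : Sylow p K)
    (hP : A ≤ Subgroup.normalizer ((P : Subgroup K).map K.subtype : Set G))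
    (hQ : A ≤ Subgroup.normalizer ((Q : Subgroup K).map K.subtype : Set G)) :
    ∃ c : K, (c : G) ∈ Subgroup.centralizer (A : Set G) ∧ MulAut.conj c • P = Q := by
  obtain ⟨k, hk⟩ := MulAction.exists_smul_eq K P Q
  have h1 : cj k (P : Subgroup K) = (Q : Subgroup K) := by
    rw [← hk, Sylow.coe_subgroup_smul, smul_eq_cj]
  have h2 : cj (k : G) ((P : Subgroup K).map K.subtype) = (Q : Subgroup K).map K.subtype := by
    rw [← map_subtype_cj, h1]
  obtain ⟨c, hc, hcPQ⟩ := invariant_sylow_conj A K hAK hcop hsolv _ _ (k : G) k.2 h2 hP hQ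
  obtain ⟨hcK, hcC⟩ := Subgroup.mem_inf.mp hc
  refine ⟨⟨c, hcK⟩, hcC, ?_⟩
  apply Sylow.ext
  rw [Sylow.pointwise_smul_def, smul_eq_cj]
  apply Subgroup.map_injective K.subtype_injective
  rw [map_subtype_cj]
  exact hcPQ

end Cfsg.Agent.S0024
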