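import Mathlib
import Cfsg.Statements.S0025
import Cfsg.Agent.Lib_lead_Coprime4

set_option autoImplicit false
open Cfsg

namespace Cfsg.Agent.S0025

open Cfsg.Agent.lead

theorem result {G : Type*} [Group G] [Finite G] (A K : Subgroup G) (hAK : A ≤ Subgroup.normalizer (K : Set G))
    (hcop : (Nat.card A).Coprime (Nat.card K)) (hsolv : Group.IsSolvable A ∨ Group.IsSolvable K)
    (p : ℕ) [Fact p.Prime] (U : Subgroup G) (hUK : U ≤ K) (hU : IsPGroup p U) (hUA : A ≤ Subgroup.normalizer (U : Set G)) :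
    ∃ P : Sylow p K, U ≤ (P : Subgroup K).map K.subtype ∧ A ≤ Subgroup.normalizer ((P : Subgroup K).map K.subtype : Set G) := by
  obtain ⟨V, hUV, hVK, hVc, hVA⟩ :=
    invariant_pgroup_le_invariant_sylow A K hAK hcop hsolv p U hUK hU hUA
  have hc : Nat.card (V.subgroupOf K) = p ^ (Nat.card K).factorization p := by
    rw [card_subgroupOf_of_le hVK, hVc]
  refine ⟨Sylow.ofCard (V.subgroupOf K) hc, ?_⟩
  rw [Sylow.coe_ofCard, Subgroup.subgroupOf_map_subtype, inf_of_le_left hVK]
  exact ⟨hUV, hVA⟩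

end Cfsg.Agent.S0025
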