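import Cfsg.Statements.S0037
import Cfsg.Agent.Lib_lead_FrobConj

set_option autoImplicit false
set_option linter.style.haveILetI false
open Pointwise
open Cfsg

namespace Cfsg.Agent.S0037

open Cfsg.Agent.lead Cfsg.Agent.helper7

/-- Of two Frobenius complements in one finite group, the one of smaller (or equal) order is conjugate to a subgroup of the other. -/
theorem result {G : Type*} [Group G] [Finite G] (H H₀ : Subgroup G)
    (hH : Cfsg.IsFrobeniusComplement H) (hH₀ : Cfsg.IsFrobeniusComplement H₀) (hle : Nat.card H₀ ≤ Nat.card H) :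
    ∃ g : G, MulAut.conj g • H₀ ≤ H := by
  obtain ⟨K, hKn, hc, hKne, hfpf, hconj, hcop⟩ := frob_data H hH
  obtain ⟨K₀, hK₀n, hc₀, hK₀ne, hfpf₀, hconj₀, hcop₀⟩ := frob_data H₀ hH₀
  haveI := hKn
  haveI := hK₀n
  obtain ⟨-, d, -, hd⟩ := frob_main H H₀ K K₀ hc hKne hfpf hcop hc₀ hfpf₀ hconj₀ hle
  exact ⟨d, by rw [smul_eq_cj]; exact hd⟩

end Cfsg.Agent.S0037
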