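import Cfsg.Statements.S0038
import Cfsg.Agent.Lib_lead_FrobConj

set_option autoImplicit false
set_option linter.style.haveILetI false
open Pointwise
open Cfsg

namespace Cfsg.Agent.S0038

open Cfsg.Agent.lead Cfsg.Agent.helper7

/-- All Frobenius complements of a finite group are conjugate to one another. -/
theorem result {G : Type*} [Group G] [Finite G] (H H₀ : Subgroup G)
    (hH : Cfsg.IsFrobeniusComplement H) (hH₀ : Cfsg.IsFrobeniusComplement H₀) :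
    ∃ g : G, MulAut.conj g • H₀ = H := by
  obtain ⟨K, hKn, hc, hKne, hfpf, hconj, hcop⟩ := frob_data H hH
  obtain ⟨K₀, hK₀n, hc₀, hK₀ne, hfpf₀, hconj₀, hcop₀⟩ := frob_data H₀ hH₀
  haveI := hKn
  haveI := hK₀n
  rcases le_total (Nat.card H₀) (Nat.card H) with hle | hle
  · obtain ⟨hKK₀, d, -, hd⟩ := frob_main H H₀ K K₀ hc hKne hfpf hcop hc₀ hfpf₀ hconj₀ hle
    have hcard := frob_card_eq H H₀ K K₀ hc hKne hH.1 hfpf hc₀ hH₀.1 hfpf₀ hconj₀ hKK₀ d hd
    refine ⟨d, ?_⟩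
    rw [smul_eq_cj]
    apply Subgroup.eq_of_le_of_card_ge hd
    rw [card_cj, hcard]
  · obtain ⟨hKK₀, d, -, hd⟩ := frob_main H₀ H K₀ K hc₀ hK₀ne hfpf₀ hcop₀ hc hfpf hconj hle
    have hcard := frob_card_eq H₀ H K₀ K hc₀ hK₀ne hH₀.1 hfpf₀ hc hH.1 hfpf hconj hKK₀ d hd
    refine ⟨d⁻¹, ?_⟩
    rw [smul_eq_cj]
    have heq : cj d H = H₀ := by
      apply Subgroup.eq_of_le_of_card_ge hd
      rw [card_cj, hcard]
    rw [← heq, cj_inv_cj]

end Cfsg.Agent.S0038
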