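import Cfsg.Statements.S0047
import Mathlib.Tactic.Group

set_option autoImplicit false
open Cfsg

namespace Cfsg.Agent.S0047

open scoped commutatorElement

/-- A finite group which is the product AB of two abelian subgroups A and B is solvable. -/
theorem result {G : Type*} [Group G] [Finite G] (A B : Subgroup G)
    [IsMulCommutative A] [IsMulCommutative B] (hAB : ∀ g : G, ∃ a ∈ A, ∃ b ∈ B, g = a * b) :
    Group.IsSolvable G := by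
  -- basic commutation facts
  have hAc : ∀ x ∈ A, ∀ y ∈ A, x * y = y * x := by
    intro x hx y hy
    have := mul_comm' (⟨x, hx⟩ : A) ⟨y, hy⟩
    exact congrArg Subtype.val this
  have hBc : ∀ x ∈ B, ∀ y ∈ B, x * y = y * x := by
    intro x hx y hy
    have := mul_comm' (⟨x, hx⟩ : B) ⟨y, hy⟩
    exact congrArg Subtype.val this
  have hBA : ∀ g : G, ∃ b ∈ B, ∃ a ∈ A, g = b * a := by
    intro g
    obtain ⟨a, ha, b, hb, h⟩ := hAB g⁻¹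
    refine ⟨b⁻¹, B.inv_mem hb, a⁻¹, A.inv_mem ha, ?_⟩
    rw [← mul_inv_rev, ← h, inv_inv]
  -- commutator identities
  have L1 : ∀ x y z : G, y * z = z * y → ⁅x * y, z⁆ = ⁅x, z⁆ := by
    intro x y z h
    rw [commutatorElement_def, commutatorElement_def, mul_inv_rev]
    have h' : y * z * y⁻¹ = z := by rw [h, mul_inv_cancel_right]
    calc x * y * z * (y⁻¹ * x⁻¹) * z⁻¹ = x * (y * z * y⁻¹) * x⁻¹ * z⁻¹ := by group
      _ = x * z * x⁻¹ * z⁻¹ := by rw [h']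
  have L2 : ∀ x y z : G, x * z = z * x → ⁅x, y * z⁆ = ⁅x, y⁆ := by
    intro x y z h
    rw [commutatorElement_def, commutatorElement_def, mul_inv_rev]
    have h' : z * x⁻¹ * z⁻¹ = x⁻¹ := by
      have : z * x⁻¹ = x⁻¹ * z := by
        calc z * x⁻¹ = x⁻¹ * (x * z) * x⁻¹ := by group
          _ = x⁻¹ * (z * x) * x⁻¹ := by rw [h]
          _ = x⁻¹ * z := by group
      rw [this, mul_inv_cancel_right]
    calc x * (y * z) * x⁻¹ * (z⁻¹ * y⁻¹) = x * y * (z * x⁻¹ * z⁻¹) * y⁻¹ := by group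
      _ = x * y * x⁻¹ * y⁻¹ := by rw [h']
  have Lc : ∀ g x y : G, g * ⁅x, y⁆ * g⁻¹ = ⁅g * x * g⁻¹, g * y * g⁻¹⁆ := by
    intro g x y
    rw [commutatorElement_def, commutatorElement_def]; group
  have conjfix : ∀ x y : G, x * y = y * x → x * y * x⁻¹ = y := by
    intro x y h; rw [h, mul_inv_cancel_right]
  -- key: conjugating [a,b] by a1*b1 or b1*a1 gives the same
  have key : ∀ a ∈ A, ∀ b ∈ B, ∀ a1 ∈ A, ∀ b1 ∈ B,
      (a1 * b1) * ⁅a, b⁆ * (a1 * b1)⁻¹ = (b1 * a1) * ⁅a, b⁆ * (b1 * a1)⁻¹ := by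
    intro a ha b hb a1 ha1 b1 hb1
    obtain ⟨a3, ha3, b3, hb3, h3⟩ := hAB (b1 * a * b1⁻¹)
    obtain ⟨b2, hb2, a2, ha2, h2⟩ := hBA (a1 * b * a1⁻¹)
    have e1 : (a1 * b1) * ⁅a, b⁆ * (a1 * b1)⁻¹ = ⁅a3, b2⁆ := by
      have s1 : b1 * ⁅a, b⁆ * b1⁻¹ = ⁅a3, b⁆ := by
        rw [Lc, conjfix b1 b (hBc b1 hb1 b hb), h3]
        exact L1 a3 b3 b (hBc b3 hb3 b hb)
      have s2 : a1 * ⁅a3, b⁆ * a1⁻¹ = ⁅a3, b2⁆ := by
        rw [Lc, conjfix a1 a3 (hAc a1 ha1 a3 ha3), h2]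
        exact L2 a3 b2 a2 (hAc a3 ha3 a2 ha2)
      calc (a1 * b1) * ⁅a, b⁆ * (a1 * b1)⁻¹ = a1 * (b1 * ⁅a, b⁆ * b1⁻¹) * a1⁻¹ := by group
        _ = ⁅a3, b2⁆ := by rw [s1, s2]
    have e2 : (b1 * a1) * ⁅a, b⁆ * (b1 * a1)⁻¹ = ⁅a3, b2⁆ := by
      have s1 : a1 * ⁅a, b⁆ * a1⁻¹ = ⁅a, b2⁆ := by
        rw [Lc, conjfix a1 a (hAc a1 ha1 a ha), h2]
        exact L2 a b2 a2 (hAc a ha a2 ha2)
      have s2 : b1 * ⁅a, b2⁆ * b1⁻¹ = ⁅a3, b2⁆ := by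
        rw [Lc, conjfix b1 b2 (hBc b1 hb1 b2 hb2), h3]
        exact L1 a3 b3 b2 (hBc b3 hb3 b2 hb2)
      calc (b1 * a1) * ⁅a, b⁆ * (b1 * a1)⁻¹ = b1 * (a1 * ⁅a, b⁆ * a1⁻¹) * b1⁻¹ := by group
        _ = ⁅a3, b2⁆ := by rw [s1, s2]
    rw [e1, e2]
  have comm : ∀ a ∈ A, ∀ b ∈ B, ∀ a1 ∈ A, ∀ b1 ∈ B, ⁅a1, b1⁆ * ⁅a, b⁆ = ⁅a, b⁆ * ⁅a1, b1⁆ := by
    intro a ha b hb a1 ha1 b1 hb1
    have h := key a ha b hb a1⁻¹ (A.inv_mem ha1) b1⁻¹ (B.inv_mem hb1)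
    have e : ⁅a1, b1⁆ = (b1⁻¹ * a1⁻¹)⁻¹ * (a1⁻¹ * b1⁻¹) := by
      rw [commutatorElement_def]; group
    rw [e]
    calc (b1⁻¹ * a1⁻¹)⁻¹ * (a1⁻¹ * b1⁻¹) * ⁅a, b⁆
        = (b1⁻¹ * a1⁻¹)⁻¹ * ((a1⁻¹ * b1⁻¹) * ⁅a, b⁆ * (a1⁻¹ * b1⁻¹)⁻¹) * (a1⁻¹ * b1⁻¹) := by group
      _ = (b1⁻¹ * a1⁻¹)⁻¹ * ((b1⁻¹ * a1⁻¹) * ⁅a, b⁆ * (b1⁻¹ * a1⁻¹)⁻¹) * (a1⁻¹ * b1⁻¹) := by rw [h]
      _ = ⁅a, b⁆ * ((b1⁻¹ * a1⁻¹)⁻¹ * (a1⁻¹ * b1⁻¹)) := by group
  -- N = [A, B]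
  have hNgen : ∀ s : G, (∃ a ∈ A, ∃ b ∈ B, ⁅a, b⁆ = s) → ∀ n ∈ ⁅A, B⁆, n * s = s * n := by
    rintro s ⟨a, ha, b, hb, rfl⟩ n hn
    have hle : ⁅A, B⁆ ≤ Subgroup.centralizer {⁅a, b⁆} := by
      rw [Subgroup.commutator_le]
      intro a1 ha1 b1 hb1
      rw [Subgroup.mem_centralizer_iff]
      intro x hx
      rw [Set.mem_singleton_iff] at hx
      subst hx
      exact (comm a ha b hb a1 ha1 b1 hb1).symm
    have := hle hn
    rw [Subgroup.mem_centralizer_iff] at this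
    exact (this _ rfl).symm
  have hNab : ⁅⁅A, B⁆, ⁅A, B⁆⁆ = ⊥ := by
    rw [Subgroup.commutator_eq_bot_iff_le_centralizer]
    intro n hn
    have hle : ⁅A, B⁆ ≤ Subgroup.centralizer {n} := by
      rw [Subgroup.commutator_le]
      intro a1 ha1 b1 hb1
      rw [Subgroup.mem_centralizer_iff]
      intro x hx
      rw [Set.mem_singleton_iff] at hx
      subst hx
      exact hNgen _ ⟨a1, ha1, b1, hb1, rfl⟩ x hn
    rw [Subgroup.mem_centralizer_iff]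
    intro m hm
    have := hle hm
    rw [Subgroup.mem_centralizer_iff] at this
    exact (this _ rfl).symm
  -- normality
  have hconjA : ∀ g ∈ A, ∀ n ∈ ⁅A, B⁆, g * n * g⁻¹ ∈ ⁅A, B⁆ := by
    intro g hg n hn
    have hle : ⁅A, B⁆ ≤ (⁅A, B⁆).comap (MulAut.conj g).toMonoidHom := by
      rw [Subgroup.commutator_le]
      intro a ha b hb
      rw [Subgroup.mem_comap]
      show g * ⁅a, b⁆ * g⁻¹ ∈ ⁅A, B⁆
      have e : g * ⁅a, b⁆ * g⁻¹ = ⁅g * a, b⁆ * ⁅g, b⁆⁻¹ := by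
        rw [commutatorElement_def, commutatorElement_def, commutatorElement_def]; group
      rw [e]
      exact Subgroup.mul_mem _ (Subgroup.commutator_mem_commutator (A.mul_mem hg ha) hb)
        (Subgroup.inv_mem _ (Subgroup.commutator_mem_commutator hg hb))
    exact hle hn
  have hconjB : ∀ g ∈ B, ∀ n ∈ ⁅A, B⁆, g * n * g⁻¹ ∈ ⁅A, B⁆ := by
    intro g hg n hn
    have hle : ⁅A, B⁆ ≤ (⁅A, B⁆).comap (MulAut.conj g).toMonoidHom := by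
      rw [Subgroup.commutator_le]
      intro a ha b hb
      rw [Subgroup.mem_comap]
      show g * ⁅a, b⁆ * g⁻¹ ∈ ⁅A, B⁆
      have e : g * ⁅a, b⁆ * g⁻¹ = ⁅a, g⁆⁻¹ * ⁅a, g * b⁆ := by
        rw [commutatorElement_def, commutatorElement_def, commutatorElement_def]; group
      rw [e]
      exact Subgroup.mul_mem _ (Subgroup.inv_mem _ (Subgroup.commutator_mem_commutator ha hg))
        (Subgroup.commutator_mem_commutator ha (B.mul_mem hg hb))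
    exact hle hn
  have hNn : (⁅A, B⁆).Normal := by
    constructor
    intro n hn g
    obtain ⟨a, ha, b, hb, rfl⟩ := hAB g
    have : a * b * n * (a * b)⁻¹ = a * (b * n * b⁻¹) * a⁻¹ := by group
    rw [this]
    exact hconjA a ha _ (hconjB b hb n hn)
  -- G' ≤ N
  have hder : commutator G ≤ ⁅A, B⁆ := by
    rw [commutator_def, Subgroup.commutator_le]
    intro g _ h _
    rw [← QuotientGroup.eq_one_iff, ← QuotientGroup.mk'_apply, map_commutatorElement,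
      commutatorElement_eq_one_iff_commute]
    obtain ⟨a, ha, b, hb, rfl⟩ := hAB g
    obtain ⟨a', ha', b', hb', rfl⟩ := hAB h
    have cab : ∀ x ∈ A, ∀ y ∈ B, Commute (QuotientGroup.mk' ⁅A, B⁆ x) (QuotientGroup.mk' ⁅A, B⁆ y) := by
      intro x hx y hy
      rw [← commutatorElement_eq_one_iff_commute, ← map_commutatorElement, QuotientGroup.mk'_apply,
        QuotientGroup.eq_one_iff]
      exact Subgroup.commutator_mem_commutator hx hy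
    have caa : ∀ x ∈ A, ∀ y ∈ A, Commute (QuotientGroup.mk' ⁅A, B⁆ x) (QuotientGroup.mk' ⁅A, B⁆ y) := by
      intro x hx y hy
      show _ * _ = _ * _
      rw [← map_mul, ← map_mul, hAc x hx y hy]
    have cbb : ∀ x ∈ B, ∀ y ∈ B, Commute (QuotientGroup.mk' ⁅A, B⁆ x) (QuotientGroup.mk' ⁅A, B⁆ y) := by
      intro x hx y hy
      show _ * _ = _ * _
      rw [← map_mul, ← map_mul, hBc x hx y hy]
    rw [map_mul, map_mul]
    exact Commute.mul_left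
      (Commute.mul_right (caa a ha a' ha') (cab a ha b' hb'))
      (Commute.mul_right (cab a' ha' b hb).symm (cbb b hb b' hb'))
  rw [Group.isSolvable_def]
  refine ⟨2, ?_⟩
  rw [derivedSeries_succ, derivedSeries_one]
  exact le_bot_iff.1 (hNab ▸ Subgroup.commutator_mono hder hder)

end Cfsg.Agent.S0047
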