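import Cfsg.Statements.S0049
import Mathlib

set_option autoImplicit false
set_option linter.style.haveILetI false
set_option linter.unusedVariables false
open Cfsg

namespace Cfsg.Agent.S0049

/-- A prime divisor of the order of a finite group also divides the index of the Frattini subgroup. -/
theorem result {G : Type*} [Group G] [Finite G] (p : ℕ) (hp : p.Prime) (hdvd : p ∣ Nat.card G) :
    p ∣ (frattini G).index := by
  by_contra hnd
  haveI : Fact p.Prime := ⟨hp⟩
  set Φ := frattini G with hΦ
  haveI : Group.IsNilpotent Φ := frattini_nilpotent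
  obtain ⟨Q⟩ := (inferInstance : Nonempty (Sylow p Φ))
  haveI : (Q : Subgroup Φ).Normal := inferInstance
  haveI : (Q : Subgroup Φ).Characteristic := Sylow.characteristic_of_normal Q inferInstance
  set Q' := (Q : Subgroup Φ).map Φ.subtype with hQ'
  haveI hn : Q'.Normal := ConjAct.normal_of_characteristic_of_normal
  have hcardQ' : Nat.card Q' = Nat.card Q := Subgroup.card_map_of_injective Φ.subtype_injective
  have hidx : Q'.index = (Q : Subgroup Φ).index * Φ.index := Subgroup.index_map_subtype _
  have hnd' : ¬ p ∣ Q'.index := by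
    rw [hidx]
    exact Nat.Prime.not_dvd_mul hp Q.not_dvd_index hnd
  have hcop : (Nat.card Q').Coprime Q'.index := by
    obtain ⟨k, hk⟩ := Q.isPGroup'.exists_card_eq
    rw [hcardQ', hk]
    exact Nat.Coprime.pow_left k ((Nat.Prime.coprime_iff_not_dvd hp).mpr hnd')
  obtain ⟨H, hH⟩ := Subgroup.exists_right_complement'_of_coprime hcop
  have h1 : H ⊔ Φ = ⊤ := by
    have := hH.sup_eq_top
    rw [eq_top_iff, ← this]
    apply sup_le
    · exact le_sup_of_le_right (Subgroup.map_subtype_le _)
    · exact le_sup_left
  have h2 : H = ⊤ := frattini_nongenerating h1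
  have h3 : Q' = ⊥ := by
    have := hH.disjoint.eq_bot
    rwa [h2, inf_top_eq] at this
  have h4 : p ∣ Nat.card Φ := by
    have := Subgroup.card_mul_index Φ
    rw [← this] at hdvd
    exact (hp.dvd_mul.mp hdvd).resolve_right hnd
  have h5 := Q.ne_bot_of_dvd_card h4
  apply h5
  have : Nat.card Q' = 1 := by rw [h3]; simp
  rw [hcardQ'] at this
  exact Subgroup.card_eq_one.mp this

end Cfsg.Agent.S0049
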