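import Cfsg.Statements.S0050
import Cfsg.Agent.Lib_helper23_Hall

set_option autoImplicit false
open Cfsg

namespace Cfsg.Agent.S0050

open scoped Pointwise

/-- Frattini argument for Hall subgroups: if L is a solvable normal subgroup and H a subgroup of L of order coprime to its index in L, then L together with the normaliser of H generates the whole group. -/
theorem result {G : Type*} [Group G] [Finite G] (L : Subgroup G) [L.Normal] (hL : Group.IsSolvable L)
    (H : Subgroup G) (hHL : H ≤ L) (hHall : (Nat.card H).Coprime (H.relIndex L)) :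
    L ⊔ Subgroup.normalizer (H : Set G) = ⊤ := by
  haveI := hL
  rw [eq_top_iff]
  intro g _
  have hconjL : MulAut.conj g • H ≤ L := by
    intro y hy
    rw [Cfsg.Agent.helper3.mem_conj_smul_iff] at hy
    have h1 : g * (g⁻¹ * y * g) * g⁻¹ ∈ L :=
      (inferInstance : L.Normal).conj_mem _ (hHL hy) g
    have e : g * (g⁻¹ * y * g) * g⁻¹ = y := by group
    rwa [e] at h1
  have hc1 : Nat.card (H.subgroupOf L) = Nat.card H :=
    Nat.card_congr (Subgroup.subgroupOfEquivOfLe hHL).toEquiv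
  have hc2 : Nat.card ((MulAut.conj g • H).subgroupOf L) = Nat.card H := by
    rw [← Cfsg.Agent.helper3.card_conj_smul g H]
    exact Nat.card_congr (Subgroup.subgroupOfEquivOfLe hconjL).toEquiv
  have hcL : Nat.card L = Nat.card H * H.relIndex L := by
    have h1 := (H.subgroupOf L).card_mul_index
    rw [hc1] at h1
    exact h1.symm
  obtain ⟨l, hl⟩ := Cfsg.Agent.helper23.hall_conj (Nat.card H) (H.relIndex L) hcL hHall
    (H.subgroupOf L) ((MulAut.conj g • H).subgroupOf L) hc1 hc2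
  have hsub : MulAut.conj ((l : G)⁻¹ * g) • H ≤ H := by
    intro z hz
    rw [Cfsg.Agent.helper3.mem_conj_smul_iff] at hz
    -- z = (l⁻¹ g) x (l⁻¹ g)⁻¹ with x := (l⁻¹g)⁻¹ z (l⁻¹ g) ∈ H
    have hyL : g * (((l : G)⁻¹ * g)⁻¹ * z * ((l : G)⁻¹ * g)) * g⁻¹ ∈ L :=
      (inferInstance : L.Normal).conj_mem _ (hHL hz) g
    have hy : (⟨_, hyL⟩ : L) ∈ (MulAut.conj g • H).subgroupOf L := by
      rw [Subgroup.mem_subgroupOf, Cfsg.Agent.helper3.mem_conj_smul_iff]
      have e : g⁻¹ * (g * (((l : G)⁻¹ * g)⁻¹ * z * ((l : G)⁻¹ * g)) * g⁻¹) * g =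
          ((l : G)⁻¹ * g)⁻¹ * z * ((l : G)⁻¹ * g) := by group
      show g⁻¹ * (g * (((l : G)⁻¹ * g)⁻¹ * z * ((l : G)⁻¹ * g)) * g⁻¹) * g ∈ H
      rw [e]; exact hz
    rw [← hl, Cfsg.Agent.helper3.mem_conj_smul_iff, Subgroup.mem_subgroupOf] at hy
    have e : ((l⁻¹ * (⟨_, hyL⟩ : L) * l : L) : G) = z := by
      simp only [Subgroup.coe_mul, Subgroup.coe_inv]
      group
    rwa [e] at hy
  have heq : MulAut.conj ((l : G)⁻¹ * g) • H = H :=
    Subgroup.eq_of_le_of_card_ge hsub (by rw [Cfsg.Agent.helper3.card_conj_smul])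
  have hn : (l : G)⁻¹ * g ∈ Subgroup.normalizer (H : Set G) :=
    (Cfsg.Agent.helper3.conj_smul_eq_self_iff _ H).1 heq
  have e : g = (l : G) * ((l : G)⁻¹ * g) := by group
  rw [e]
  exact Subgroup.mul_mem_sup l.2 hn

end Cfsg.Agent.S0050
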