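import Cfsg.Statements.S0052
import Cfsg.Agent.Lib_lead_Gaschutz
import Cfsg.Agent.Lib_lead_SZ

set_option autoImplicit false
open Pointwise
open Cfsg

namespace Cfsg.Agent.S0052

open Cfsg.Agent.helper7 Cfsg.Agent.lead

theorem result {G : Type*} [Group G] [Finite G] (K U : Subgroup G) [K.Normal] [IsMulCommutative K]
    (hKU : K ≤ U) (hcop : (Nat.card K).Coprime U.index)
    (H₀ H₁ : Subgroup G) (h₀ : Subgroup.IsComplement' K H₀) (h₁ : Subgroup.IsComplement' K H₁) (hU : H₀ ⊓ U = H₁ ⊓ U) :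
    ∃ g : G, MulAut.conj g • H₀ = H₁ := by
  obtain ⟨z, -, hz⟩ := gaschutz_conj K U
    (fun _ ha _ hb => setLike_mul_comm ha hb) hKU hcop H₀ H₁ h₀ h₁ hU
  refine ⟨z, ?_⟩
  rw [smul_eq_cj]
  apply Subgroup.eq_of_le_of_card_ge
  · rintro _ ⟨h, hh, rfl⟩
    exact hz h hh
  · rw [card_cj, ← h₀.symm.index_eq_card, ← h₁.symm.index_eq_card]

end Cfsg.Agent.S0052
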