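import Cfsg.Statements.S0053
import Mathlib
import Cfsg.Agent.Lib_helper1_Compl

set_option autoImplicit false
set_option linter.style.haveILetI false
set_option linter.unusedVariables false
open Cfsg

namespace Cfsg.Agent.S0053

/-- An abelian minimal normal subgroup N of a finite group is complemented exactly when N is not inside the Frattini subgroup. -/
theorem result {G : Type*} [Group G] [Finite G]
    (N : Subgroup G) [N.Normal] [IsMulCommutative N] (hN : N ≠ ⊥)
    (hmin : ∀ M : Subgroup G, M.Normal → M ≤ N → M = ⊥ ∨ M = N) :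
    (∃ H : Subgroup G, Subgroup.IsComplement' N H) ↔ ¬ N ≤ frattini G := by
  constructor
  · rintro ⟨H, hH⟩ hle
    have h1 : H ⊔ frattini G = ⊤ := by
      rw [eq_top_iff, ← hH.sup_eq_top]
      exact sup_le (le_sup_of_le_right hle) le_sup_left
    have h2 : H = ⊤ := frattini_nongenerating h1
    have h3 := hH.disjoint.eq_bot
    rw [h2, inf_top_eq] at h3
    exact hN h3
  · intro hle
    obtain ⟨M, hM, hNM⟩ := Cfsg.Agent.helper1.exists_coatom_not_le_of_not_le_frattini hle
    have hsup := Cfsg.Agent.helper1.coatom_sup_eq_top hM hNM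
    have hc : ∀ x ∈ N, ∀ y ∈ N, x * y = y * x := by
      intro x hx y hy
      have := mul_comm' (⟨x, hx⟩ : N) ⟨y, hy⟩
      exact congrArg Subtype.val this
    have hK : (N ⊓ M).Normal := by
      rw [← Subgroup.normalizer_eq_top_iff, eq_top_iff, ← hsup]
      apply sup_le
      · intro n hn
        apply Subgroup.mem_normalizer_fintype
        intro k hk
        have hk' : k ∈ N ⊓ M := hk
        have : n * k * n⁻¹ = k := by
          rw [hc n hn k hk'.1, mul_assoc, mul_inv_cancel, mul_one]
        change n * k * n⁻¹ ∈ N ⊓ M
        rw [this]; exact hk'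
      · intro m hm
        apply Subgroup.mem_normalizer_fintype
        intro k hk
        have hk' : k ∈ N ⊓ M := hk
        exact ⟨Subgroup.Normal.conj_mem inferInstance k hk'.1 m,
          M.mul_mem (M.mul_mem hm hk'.2) (M.inv_mem hm)⟩
    rcases hmin _ hK inf_le_left with h | h
    · exact ⟨M, Cfsg.Agent.helper1.isComplement'_of_normal_disjoint_sup N M (disjoint_iff.mpr h) hsup⟩
    · exfalso
      apply hNM
      rw [← h]
      exact inf_le_right

end Cfsg.Agent.S0053
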