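import Cfsg.Statements.S0054
import Cfsg.Agent.Lib_helper18_KPrim

set_option autoImplicit false
open Cfsg

namespace Cfsg.Agent.S0054

open Cfsg.Agent.helper18 MulAction

theorem result {G : Type*} [Group G] [Finite G]
    {X : Type*} [Nonempty X] [MulAction G X] (h2 : MulAction.IsMultiplyPretransitive G X 2)
    (N : Subgroup G) [N.Normal] (htrans : MulAction.IsPretransitive N X) (hreg : ∀ x : X, MulAction.stabilizer N x = ⊥) :
    IsMulCommutative N ∧ ∃ p : ℕ, p.Prime ∧ ∀ n ∈ N, n ^ p = 1 := by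
  classical
  obtain ⟨a⟩ := (inferInstance : Nonempty X)
  have hR := sreg_of_stabilizer_eq_bot N hreg
  have haS : a ∉ (∅ : Set X) := Set.notMem_empty a
  have h2t : IsPretransitive G (Fin 2 ↪ X) := h2
  -- all nonidentity elements of `N` are conjugate in `G`
  have hconj : ∀ n ∈ N, ∀ m ∈ N, n ≠ 1 → m ≠ 1 → ∃ g : G, g * n * g⁻¹ = m := by
    intro n hn m hm hn1 hm1
    have hna : n • a ≠ a := fun h => hn1 (hR n hn a haS h)
    have hma : m • a ≠ a := fun h => hm1 (hR m hm a haS h)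
    let x : Fin 2 ↪ X := ⟨![a, n • a], by
      intro i j hij
      fin_cases i <;> fin_cases j <;> simp_all [eq_comm]⟩
    let y : Fin 2 ↪ X := ⟨![a, m • a], by
      intro i j hij
      fin_cases i <;> fin_cases j <;> simp_all [eq_comm]⟩
    obtain ⟨g, hg⟩ := h2t.exists_smul_eq x y
    have h0 : g • a = a := congrArg (fun z : Fin 2 ↪ X => z 0) hg
    have h1 : g • (n • a) = m • a := congrArg (fun z : Fin 2 ↪ X => z 1) hg
    refine ⟨g, ?_⟩
    apply eq_of_smul_eq_of_sreg hR haS (Subgroup.Normal.conj_mem inferInstance n hn g) hm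
    have h3 : g⁻¹ • a = a := by rw [inv_smul_eq_iff, h0]
    rw [mul_smul, mul_smul, h3, h1]
  by_cases hN1 : ∀ n ∈ N, n = 1
  · refine ⟨⟨⟨fun x y => ?_⟩⟩, 2, Nat.prime_two, fun n hn => by rw [hN1 n hn, one_pow]⟩
    apply Subtype.ext
    have hx := hN1 x x.2
    have hy := hN1 y y.2
    simp [hx, hy]
  push Not at hN1
  obtain ⟨n0, hn0, hn01⟩ := hN1
  have hd0 : orderOf n0 ≠ 0 := (orderOf_pos n0).ne'
  have hd1 : orderOf n0 ≠ 1 := fun h => hn01 (orderOf_eq_one_iff.mp h)
  have hpprime : (orderOf n0).minFac.Prime := Nat.minFac_prime hd1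
  have hpd : (orderOf n0).minFac ∣ orderOf n0 := Nat.minFac_dvd _
  have hyord : orderOf (n0 ^ (orderOf n0 / (orderOf n0).minFac)) = (orderOf n0).minFac :=
    orderOf_pow_orderOf_div hd0 hpd
  have hyN : n0 ^ (orderOf n0 / (orderOf n0).minFac) ∈ N := N.pow_mem hn0 _
  have hyne : n0 ^ (orderOf n0 / (orderOf n0).minFac) ≠ 1 := by
    intro h
    rw [h, orderOf_one] at hyord
    exact hpprime.one_lt.ne hyord
  have hordconj : ∀ (g x : G), orderOf (g * x * g⁻¹) = orderOf x := fun g x =>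
    MulEquiv.orderOf_eq (MulAut.conj g) x
  have hdp : orderOf n0 = (orderOf n0).minFac := by
    obtain ⟨g, hg⟩ := hconj _ hyN n0 hn0 hyne hn01
    have h5 := hordconj g (n0 ^ (orderOf n0 / (orderOf n0).minFac))
    rw [hg, hyord] at h5
    exact h5
  have hprime : (orderOf n0).Prime := by
    rw [hdp]
    exact hpprime
  have hexp : ∀ m ∈ N, m ^ orderOf n0 = 1 := by
    intro m hm
    by_cases hm1 : m = 1
    · rw [hm1, one_pow]
    · obtain ⟨g, hg⟩ := hconj n0 hn0 m hm hn01 hm1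
      have : orderOf m = orderOf n0 := by rw [← hg, hordconj]
      rw [← this]
      exact pow_orderOf_eq_one m
  refine ⟨?_, orderOf n0, hprime, hexp⟩
  -- commutativity through the centre
  have : Fact (orderOf n0).Prime := ⟨hprime⟩
  have hpg : IsPGroup (orderOf n0) N := by
    intro g
    refine ⟨1, ?_⟩
    apply Subtype.ext
    have := hexp g g.2
    simpa using this
  have : Nontrivial N := ⟨⟨⟨n0, hn0⟩, 1, fun h => hn01 (congrArg Subtype.val h)⟩⟩
  have := hpg.center_nontrivial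
  obtain ⟨z, hz1⟩ := exists_ne (1 : Subgroup.center N)
  have hzc : ∀ x : N, x * (z : N) = (z : N) * x := fun x =>
    Subgroup.mem_center_iff.mp z.2 x
  have hzG1 : ((z : N) : G) ≠ 1 := by
    intro h
    apply hz1
    apply Subtype.ext
    apply Subtype.ext
    exact h
  have hcentral : ∀ m ∈ N, ∀ x ∈ N, m * x = x * m := by
    intro m hm x hx
    by_cases hm1 : m = 1
    · rw [hm1, one_mul, mul_one]
    · obtain ⟨g, hg⟩ := hconj ((z : N) : G) (z : N).2 m hm hzG1 hm1
      have hx' : g⁻¹ * x * g ∈ N := by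
        have := Subgroup.Normal.conj_mem (inferInstance : N.Normal) x hx g⁻¹
        simpa using this
      have h5 := hzc ⟨g⁻¹ * x * g, hx'⟩
      have h6 : (g⁻¹ * x * g) * ((z : N) : G) = ((z : N) : G) * (g⁻¹ * x * g) :=
        congrArg Subtype.val h5
      rw [← hg]
      calc g * ((z : N) : G) * g⁻¹ * x = g * (((z : N) : G) * (g⁻¹ * x * g)) * g⁻¹ := by group
        _ = g * ((g⁻¹ * x * g) * ((z : N) : G)) * g⁻¹ := by rw [h6]
        _ = x * (g * ((z : N) : G) * g⁻¹) := by group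
  exact ⟨⟨fun x y => Subtype.ext (hcentral x x.2 y y.2)⟩⟩

end Cfsg.Agent.S0054
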