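import Mathlib
import Cfsg.Statements.S0055
import Cfsg.Agent.Lib_lead_Coprime5

set_option autoImplicit false
open Cfsg

namespace Cfsg.Agent.S0055

open Cfsg.Agent.lead

theorem result {G : Type*} [Group G] [Finite G] (A V : Subgroup G) [IsMulCommutative V]
    (hAV : A ≤ Subgroup.normalizer (V : Set G)) (hcop : (Nat.card A).Coprime (Nat.card V)) :
    (V ⊓ Subgroup.centralizer (A : Set G)) ⊓ ⁅V, A⁆ = ⊥ ∧ (V ⊓ Subgroup.centralizer (A : Set G)) ⊔ ⁅V, A⁆ = V := by
  have hV : ∀ x ∈ V, ∀ y ∈ V, x * y = y * x := fun x hx y hy =>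
    congrArg Subtype.val ((inferInstance : IsMulCommutative V).is_comm.comm ⟨x, hx⟩ ⟨y, hy⟩)
  refine ⟨coprime_abelian_inf A V hV hAV hcop, ?_⟩
  rw [sup_comm]
  exact coprime_commutator_sup_fixed A V hAV hcop (Or.inr (solvable_of_comm_subgroup V hV))

end Cfsg.Agent.S0055
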