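import Mathlib
import Cfsg.Statements.S0056
import Cfsg.Agent.Lib_lead_Coprime5

set_option autoImplicit false
open Cfsg

namespace Cfsg.Agent.S0056

open Cfsg.Agent.lead Cfsg.Agent.helper7

theorem result {G : Type*} [Group G] [Finite G] (A V : Subgroup G) [IsMulCommutative V]
    (hAV : A ≤ Subgroup.normalizer (V : Set G)) (hcop : (Nat.card A).Coprime (Nat.card V))
    (hΩ : ∀ v ∈ V, (orderOf v).Prime → ∀ a ∈ A, a * v = v * a) : A ≤ Subgroup.centralizer (V : Set G) := by
  have hV : ∀ x ∈ V, ∀ y ∈ V, x * y = y * x := fun x hx y hy =>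
    congrArg Subtype.val ((inferInstance : IsMulCommutative V).is_comm.comm ⟨x, hx⟩ ⟨y, hy⟩)
  have hinf := coprime_abelian_inf A V hV hAV hcop
  have hWV : ⁅V, A⁆ ≤ V := commutator_le_of_normalizer hAV
  have hW : ⁅V, A⁆ = ⊥ := by
    by_contra hne
    have hcard : Nat.card (⁅V, A⁆ : Subgroup G) ≠ 1 := by
      intro h
      exact hne (Subgroup.eq_bot_of_card_eq _ h)
    obtain ⟨p, hp, hpd⟩ := Nat.exists_prime_and_dvd hcard
    haveI := Fact.mk hp
    obtain ⟨w, hw⟩ := exists_prime_orderOf_dvd_card' p hpd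
    have hwo : orderOf (w : G) = p := by rw [Subgroup.orderOf_coe]; exact hw
    have hwV : (w : G) ∈ V := hWV w.2
    have hwC : (w : G) ∈ Subgroup.centralizer (A : Set G) := by
      rw [Subgroup.mem_centralizer_iff]
      intro a ha
      exact hΩ _ hwV (hwo ▸ hp) a ha
    have hmem : (w : G) ∈ (V ⊓ Subgroup.centralizer (A : Set G)) ⊓ ⁅V, A⁆ :=
      Subgroup.mem_inf.mpr ⟨Subgroup.mem_inf.mpr ⟨hwV, hwC⟩, w.2⟩
    rw [hinf, Subgroup.mem_bot] at hmem
    rw [hmem, orderOf_one] at hwo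
    exact hp.one_lt.ne hwo
  rw [Subgroup.commutator_eq_bot_iff_le_centralizer] at hW
  intro a ha
  rw [Subgroup.mem_centralizer_iff]
  intro v hv
  have := hW hv
  rw [Subgroup.mem_centralizer_iff] at this
  exact (this a ha).symm

end Cfsg.Agent.S0056
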