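import Cfsg.Statements.S0057
import Cfsg.Agent.Lib_lead_Coprime4
import Cfsg.Agent.Lib_helper1_ElemAb
import Cfsg.Agent.Lib_helper1_PGroup

set_option autoImplicit false
set_option linter.style.haveILetI false
open Cfsg

namespace Cfsg.Agent.S0057

open scoped commutatorElement
open Cfsg.Agent.lead Cfsg.Agent.helper7

universe u

theorem card_mul_relIndex' {G : Type*} [Group G] {H K : Subgroup G} (h : H ≤ K) :
    Nat.card H * H.relIndex K = Nat.card K := by
  have := Subgroup.relIndex_mul_relIndex (H := (⊥ : Subgroup G)) (K := H) (L := K) bot_le h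
  rwa [Subgroup.relIndex_bot_left, Subgroup.relIndex_bot_left] at this

/-- product decomposition from equality of relative indices -/
theorem prod_of_relIndex_eq {G : Type*} [Group G] [Finite G] (C L K : Subgroup G) (hLK : L ≤ K)
    (h : C.relIndex L = C.relIndex K) : ∀ k ∈ K, ∃ s ∈ L, ∃ c ∈ C, k = s * c := by
  intro k hk
  have hcard : Nat.card (L ⧸ C.subgroupOf L) = Nat.card (K ⧸ C.subgroupOf K) := by
    rw [← Subgroup.index_eq_card, ← Subgroup.index_eq_card]; exact h
  have hsurj : Function.Surjective (Subgroup.quotientSubgroupOfEmbeddingOfLE C hLK) :=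
    ((Nat.bijective_iff_injective_and_card _).mpr
      ⟨(Subgroup.quotientSubgroupOfEmbeddingOfLE C hLK).injective, hcard⟩).2
  obtain ⟨q, hq⟩ := hsurj (QuotientGroup.mk ⟨k, hk⟩)
  induction q using QuotientGroup.induction_on with
  | H s =>
    rw [Subgroup.quotientSubgroupOfEmbeddingOfLE_apply_mk, QuotientGroup.eq,
      Subgroup.mem_subgroupOf] at hq
    refine ⟨s, s.2, (s : G)⁻¹ * k, ?_, by group⟩
    simpa using hq

theorem relIndex_eq_of_prod {G : Type*} [Group G] [Finite G] (C L K : Subgroup G) (hLK : L ≤ K)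
    (h : ∀ k ∈ K, ∃ s ∈ L, ∃ c ∈ C, k = s * c) : C.relIndex L = C.relIndex K := by
  have hsurj : Function.Surjective (Subgroup.quotientSubgroupOfEmbeddingOfLE C hLK) := by
    intro q
    induction q using QuotientGroup.induction_on with
    | H k =>
      obtain ⟨s, hs, c, hc, hkc⟩ := h k k.2
      refine ⟨QuotientGroup.mk ⟨s, hs⟩, ?_⟩
      rw [Subgroup.quotientSubgroupOfEmbeddingOfLE_apply_mk, QuotientGroup.eq,
        Subgroup.mem_subgroupOf]
      have : (((Subgroup.inclusion hLK ⟨s, hs⟩)⁻¹ * k : K) : G) = c := by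
        simp [hkc]
      rw [this]; exact hc
  have := Nat.card_congr (Equiv.ofBijective _
    ⟨(Subgroup.quotientSubgroupOfEmbeddingOfLE C hLK).injective, hsurj⟩)
  rw [Subgroup.relIndex, Subgroup.relIndex, Subgroup.index_eq_card, Subgroup.index_eq_card]
  exact this

theorem core {G : Type u} [Group G] [Finite G] (A K : Subgroup G)
    (hAK : A ≤ Subgroup.normalizer (K : Set G))
    (hcop : (Nat.card A).Coprime (Nat.card K)) (hsolv : Group.IsSolvable A ∨ Group.IsSolvable K)
    (p : ℕ) (hp : p.Prime) (hidx : (K ⊓ Subgroup.centralizer (A : Set G)).relIndex K = p)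
    (hKA : ⁅K, A⁆ = K) : Nat.card K = p := by
  classical
  haveI : Fact p.Prime := ⟨hp⟩
  obtain ⟨C, hCdef⟩ : ∃ C : Subgroup G, C = K ⊓ Subgroup.centralizer (A : Set G) := ⟨_, rfl⟩
  rw [← hCdef] at hidx
  have hCK : C ≤ K := hCdef ▸ inf_le_left
  have hCA : ∀ c ∈ C, ∀ a ∈ A, a * c = c * a := by
    intro c hc a ha
    rw [hCdef] at hc
    exact Subgroup.mem_centralizer_iff.mp hc.2 a ha
  have hKcard : Nat.card C * p = Nat.card K := by rw [← hidx]; exact card_mul_relIndex' hCK
  have hKpos : 0 < Nat.card K := Nat.card_pos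
  obtain ⟨P, hPK, hPcard, hAP⟩ := exists_invariant_sylow A K hAK hcop hsolv p
  obtain ⟨v, hvdef⟩ : ∃ v, v = (Nat.card K).factorization p := ⟨_, rfl⟩
  rw [← hvdef] at hPcard
  have hnd : ¬ p ^ v ∣ Nat.card C := by
    intro hd
    have : p ^ (v + 1) ∣ Nat.card K := by
      rw [← hKcard, pow_succ]; exact Nat.mul_dvd_mul_right hd p
    rw [hvdef] at this
    exact Nat.pow_succ_factorization_not_dvd hKpos.ne' hp this
  have hrelP : C.relIndex P = p := by
    have hle : C.relIndex P ≤ p := by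
      rw [← hidx]
      exact Subgroup.relIndex_le_of_le_right hPK (by rw [hidx]; exact hp.ne_zero)
    have hne : C.relIndex P ≠ 0 := by rw [Subgroup.relIndex]; exact Subgroup.index_ne_zero_of_finite
    have hdvd : p ∣ C.relIndex P := by
      by_contra hnp
      have h1 : Nat.card (C ⊓ P : Subgroup G) * C.relIndex P = Nat.card P := by
        rw [← Subgroup.inf_relIndex_right]; exact card_mul_relIndex' inf_le_right
      have h2 : p ^ v ∣ Nat.card (C ⊓ P : Subgroup G) * C.relIndex P := by rw [h1, hPcard]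
      have hcop' : Nat.Coprime (p ^ v) (C.relIndex P) :=
        Nat.Coprime.pow_left v ((Nat.Prime.coprime_iff_not_dvd hp).mpr hnp)
      have h3 : p ^ v ∣ Nat.card (C ⊓ P : Subgroup G) := hcop'.dvd_of_dvd_mul_right h2
      exact hnd (h3.trans (Subgroup.card_dvd_of_le inf_le_left))
    exact Nat.le_antisymm hle (Nat.le_of_dvd (Nat.pos_of_ne_zero hne) hdvd)
  have hdec := prod_of_relIndex_eq C P K hPK (by rw [hrelP, hidx])
  have hKP : ⁅K, A⁆ ≤ P := by
    rw [Subgroup.commutator_le]
    intro k hk a ha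
    obtain ⟨x, hx, c, hc, rfl⟩ := hdec k hk
    have hca : c * a = a * c := (hCA c hc a ha).symm
    have h1 : ⁅x * c, a⁆ = x * (a * x⁻¹ * a⁻¹) := by
      rw [commutatorElement_def]
      calc x * c * a * (x * c)⁻¹ * a⁻¹ = x * (c * a) * c⁻¹ * x⁻¹ * a⁻¹ := by group
        _ = x * (a * c) * c⁻¹ * x⁻¹ * a⁻¹ := by rw [hca]
        _ = x * (a * x⁻¹ * a⁻¹) := by group
    rw [h1]
    have hn := hAP ha
    rw [Subgroup.mem_normalizer_iff] at hn
    exact P.mul_mem hx ((hn x⁻¹).mp (P.inv_mem hx))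
  have hKeqP : K = P := le_antisymm (by rw [hKA] at hKP; exact hKP) hPK
  have hKc : Nat.card K = p ^ v := (congrArg (fun H : Subgroup G => Nat.card H) hKeqP).trans hPcard
  have hKpg : IsPGroup p K := IsPGroup.of_card hKc
  -- norm map
  haveI : Fintype A := Fintype.ofFinite A
  have hmemK : ∀ (a : A) (k : K), (a : G) * k * (a : G)⁻¹ ∈ K := fun a k =>
    (Subgroup.mem_normalizer_iff.mp (hAK a.2) k).mp k.2
  obtain ⟨cjK, hcjK⟩ : ∃ cjK : A → K → K, ∀ a k, ((cjK a k : K) : G) = (a : G) * k * (a : G)⁻¹ :=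
    ⟨fun a k => ⟨(a : G) * k * (a : G)⁻¹, hmemK a k⟩, fun _ _ => rfl⟩
  have cjK_mul : ∀ a k k', cjK a (k * k') = cjK a k * cjK a k' := by
    intro a k k'; apply Subtype.ext
    rw [Subgroup.coe_mul, hcjK, hcjK, hcjK, Subgroup.coe_mul]; group
  have cjK_one : ∀ a, cjK a 1 = 1 := by
    intro a; apply Subtype.ext; rw [hcjK]; simp
  have cjK_cjK : ∀ a b k, cjK a (cjK b k) = cjK (a * b) k := by
    intro a b k; apply Subtype.ext
    rw [hcjK, hcjK, hcjK, Subgroup.coe_mul]; group
  let N : K →* Abelianization K :=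
    { toFun := fun k => ∏ a : A, Abelianization.of (cjK a k)
      map_one' := by simp [cjK_one]
      map_mul' := fun k k' => by simp only [cjK_mul, map_mul, Finset.prod_mul_distrib] }
  have hNdef : ∀ k, N k = ∏ a : A, Abelianization.of (cjK a k) := fun _ => rfl
  have hNcj : ∀ b k, N (cjK b k) = N k := by
    intro b k
    rw [hNdef, hNdef]
    exact Fintype.prod_equiv (Equiv.mulRight b) _ _ (fun a => by rw [cjK_cjK]; rfl)
  have hNtriv : ∀ k : K, N k = 1 := by
    have hle : ⁅K, A⁆ ≤ (N.ker).map K.subtype := by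
      rw [Subgroup.commutator_le]
      intro k hk a ha
      refine ⟨⟨k, hk⟩ * cjK ⟨a, ha⟩ (⟨k, hk⟩)⁻¹, ?_, ?_⟩
      · rw [SetLike.mem_coe, MonoidHom.mem_ker, map_mul, hNcj, map_inv, mul_inv_cancel]
      · rw [Subgroup.subtype_apply, Subgroup.coe_mul, hcjK, commutatorElement_def]
        simp only [Subgroup.coe_inv]; group
    intro k
    have hk : (k : G) ∈ ⁅K, A⁆ := by rw [hKA]; exact k.2
    obtain ⟨k', hk', hkk⟩ := hle hk
    have : k' = k := Subtype.ext hkk
    rw [← this]; exact MonoidHom.mem_ker.mp hk'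
  have hCcomm : ∀ c : K, (c : G) ∈ C → c ∈ commutator K := by
    intro c hc
    have hfix : ∀ a : A, cjK a c = c := by
      intro a
      apply Subtype.ext
      rw [hcjK, hCA c hc a a.2, mul_inv_cancel_right]
    have hNc : N c = (Abelianization.of c) ^ Nat.card A := by
      rw [hNdef, Finset.prod_congr rfl (fun a _ => by rw [hfix a])]
      simp [Finset.prod_const, Finset.card_univ, Nat.card_eq_fintype_card]
    have h1 : orderOf (Abelianization.of c) ∣ Nat.card A :=
      orderOf_dvd_of_pow_eq_one (by rw [← hNc]; exact hNtriv c)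
    have h2 : orderOf (Abelianization.of c) ∣ Nat.card K := by
      apply orderOf_dvd_of_pow_eq_one
      rw [← map_pow, pow_card_eq_one', map_one]
    have h3 : orderOf (Abelianization.of c) = 1 := Nat.eq_one_of_dvd_coprimes hcop h1 h2
    rw [orderOf_eq_one_iff] at h3
    rwa [← MonoidHom.mem_ker, Abelianization.ker_of] at h3
  -- Frattini argument in K
  obtain ⟨C', hC'def⟩ : ∃ C' : Subgroup K, C' = C.subgroupOf K := ⟨_, rfl⟩
  have hC'idx : C'.index = p := by rw [hC'def]; exact hidx
  have hC'co : IsCoatom C' :=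
    Cfsg.Agent.helper1.isCoatom_of_index_prime (by rw [hC'idx]; exact hp)
  have hcomle : commutator K ≤ C' :=
    Cfsg.Agent.helper1.commutator_le_coatom_of_isPGroup hKpg hC'co
  have hC'le : C' ≤ commutator K := fun c hc => hCcomm c (by
    rw [hC'def] at hc; exact Subgroup.mem_subgroupOf.mp hc)
  have hC'eq : C' = commutator K := le_antisymm hC'le hcomle
  have hfrat : frattini K = C' := by
    apply le_antisymm (frattini_le_coatom hC'co)
    rw [hC'eq]
    exact Cfsg.Agent.helper1.commutator_le_frattini_of_isPGroup hKpg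
  obtain ⟨x, hx⟩ : ∃ x : K, x ∉ C' := by
    by_contra hall
    rw [not_exists] at hall
    have : C' = ⊤ := eq_top_iff.mpr fun y _ => not_not.mp (hall y)
    rw [this, Subgroup.index_top] at hC'idx
    exact hp.one_lt.ne hC'idx
  have hsup : Subgroup.zpowers x ⊔ frattini K = ⊤ := by
    rw [hfrat]
    by_contra hne
    have hlt : C' < Subgroup.zpowers x ⊔ C' := by
      refine lt_of_le_of_ne le_sup_right ?_
      intro heq
      apply hx
      rw [heq]
      exact (le_sup_left : Subgroup.zpowers x ≤ _) (Subgroup.mem_zpowers x)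
    exact hne (hC'co.2 _ hlt)
  have hcyc : Subgroup.zpowers x = ⊤ := frattini_nongenerating hsup
  have hcomm : commutator K = ⊥ := by
    rw [eq_bot_iff, commutator_eq_closure, Subgroup.closure_le]
    rintro _ ⟨a, b, rfl⟩
    obtain ⟨i, hi⟩ : a ∈ Subgroup.zpowers x := hcyc ▸ Subgroup.mem_top a
    obtain ⟨j, hj⟩ : b ∈ Subgroup.zpowers x := hcyc ▸ Subgroup.mem_top b
    rw [SetLike.mem_coe, Subgroup.mem_bot, commutatorElement_eq_one_iff_mul_comm, ← hi, ← hj]
    exact (Commute.zpow_zpow_self x i j)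
  have hC'bot : C' = ⊥ := hC'eq.trans hcomm
  have := Subgroup.card_mul_index C'
  rw [hC'idx, hC'bot, Subgroup.card_bot, one_mul] at this
  exact this.symm

/-- Under coprime action, if the centraliser of A in K has prime index p in K then the commutator subgroup [K, A] has order exactly p. -/
theorem result {G : Type*} [Group G] [Finite G] (A K : Subgroup G) (hAK : A ≤ Subgroup.normalizer (K : Set G))
    (hcop : (Nat.card A).Coprime (Nat.card K)) (hsolv : Group.IsSolvable A ∨ Group.IsSolvable K)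
    (p : ℕ) (hp : p.Prime) (hidx : (K ⊓ Subgroup.centralizer (A : Set G)).relIndex K = p) :
    Nat.card (⁅K, A⁆ : Subgroup G) = p := by
  have hLK : ⁅K, A⁆ ≤ K := commutator_le_of_normalizer hAK
  have hAL : A ≤ Subgroup.normalizer ((⁅K, A⁆ : Subgroup G) : Set G) := fun a ha =>
    mem_normalizer_commutator (hAK ha) (Subgroup.le_normalizer ha)
  have hcopL : (Nat.card A).Coprime (Nat.card (⁅K, A⁆ : Subgroup G)) :=
    Nat.Coprime.coprime_dvd_right (Subgroup.card_dvd_of_le hLK) hcop
  have hsolvL : Group.IsSolvable A ∨ Group.IsSolvable (⁅K, A⁆ : Subgroup G) :=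
    hsolv.imp id (solvable_of_le hLK)
  have hLL : ⁅⁅K, A⁆, A⁆ = ⁅K, A⁆ := coprime_commutator_commutator A K hAK hcop hsolv
  have hdec := coprime_decomp A K hAK hcop hsolv
  have hrel := relIndex_eq_of_prod (K ⊓ Subgroup.centralizer (A : Set G)) ⁅K, A⁆ K hLK hdec
  have hidxL : (⁅K, A⁆ ⊓ Subgroup.centralizer (A : Set G)).relIndex ⁅K, A⁆ = p := by
    rw [← hidx, ← hrel, ← Subgroup.inf_relIndex_right (K ⊓ Subgroup.centralizer (A : Set G)),
      ← Subgroup.inf_relIndex_right (⁅K, A⁆ ⊓ Subgroup.centralizer (A : Set G))]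
    congr 1
    ext g
    simp only [Subgroup.mem_inf]
    constructor
    · rintro ⟨⟨h1, h2⟩, _⟩; exact ⟨⟨hLK h1, h2⟩, h1⟩
    · rintro ⟨⟨_, h2⟩, h3⟩; exact ⟨⟨h3, h2⟩, h3⟩
  exact core A ⁅K, A⁆ hAL hcopL hsolvL p hp hidxL hLL

end Cfsg.Agent.S0057
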