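import Cfsg.Statements.S0060
import Mathlib
import Cfsg.Agent.Lib_helper1_Core
import Cfsg.Agent.Lib_helper10_Control
import Cfsg.Agent.Lib_helper3_Basic

set_option autoImplicit false
set_option linter.style.haveILetI false
set_option linter.unusedVariables false
open Pointwise
open Cfsg
open scoped Pointwise

namespace Cfsg.Agent.S0060

/-- Brodkey's Theorem: in a finite group with abelian Sylow p-subgroups and no nontrivial normal p-subgroup, some conjugate of a Sylow p-subgroup meets it trivially. -/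
theorem result {G : Type*} [Group G] [Finite G] (p : ℕ) [Fact p.Prime]
    (S : Sylow p G) (hS : IsMulCommutative S) (hOp : Cfsg.pCore p G = ⊥) :
    ∃ g : G, (S : Subgroup G) ⊓ MulAut.conj g • (S : Subgroup G) = ⊥ := by
  classical
  have hp : p.Prime := Fact.out
  -- choose g0 minimising the intersection
  obtain ⟨g0, hg0⟩ := Finite.exists_min (fun g : G =>
    Nat.card ((S : Subgroup G) ⊓ MulAut.conj g • (S : Subgroup G) : Subgroup G))
  refine ⟨g0, ?_⟩
  set T : Subgroup G := MulAut.conj g0 • (S : Subgroup G) with hT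
  set D : Subgroup G := (S : Subgroup G) ⊓ T with hD
  have hmemT : ∀ x, x ∈ T ↔ g0⁻¹ * x * g0 ∈ (S : Subgroup G) := fun x =>
    Cfsg.Agent.helper3.mem_conj_smul_iff g0 x _
  -- commutativity of S and T
  have hScomm : ∀ a ∈ (S : Subgroup G), ∀ b ∈ (S : Subgroup G), a * b = b * a := by
    intro a ha b hb
    have := hS.is_comm.comm (⟨a, ha⟩ : S) ⟨b, hb⟩
    exact congrArg Subtype.val this
  have hTcomm : ∀ a ∈ T, ∀ b ∈ T, a * b = b * a := by
    intro a ha b hb
    have h1 := hScomm _ ((hmemT a).mp ha) _ ((hmemT b).mp hb)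
    have : g0⁻¹ * (a * b) * g0 = g0⁻¹ * (b * a) * g0 := by
      calc g0⁻¹ * (a * b) * g0 = (g0⁻¹ * a * g0) * (g0⁻¹ * b * g0) := by group
        _ = (g0⁻¹ * b * g0) * (g0⁻¹ * a * g0) := h1
        _ = g0⁻¹ * (b * a) * g0 := by group
    have h5 : g0⁻¹ * (a * b) = g0⁻¹ * (b * a) := mul_right_cancel this
    exact mul_left_cancel h5
  set N : Subgroup G := Subgroup.normalizer (D : Set G) with hN
  have hcentN : ∀ x : G, (∀ d ∈ D, x * d = d * x) → x ∈ N := by
    intro x hx
    rw [hN, Subgroup.mem_normalizer_iff]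
    intro d
    constructor
    · intro hd
      have : x * d * x⁻¹ = d := by rw [hx d hd]; group
      change x * d * x⁻¹ ∈ D
      rw [this]; exact hd
    · intro hd
      change x * d * x⁻¹ ∈ D at hd
      have h2 := hx _ hd
      -- x * (x d x⁻¹) = (x d x⁻¹) * x ⇒ x d = d x ... so d = x d x⁻¹
      have : d = x * d * x⁻¹ := by
        have h3 : x * (x * d * x⁻¹) = x * d := by rw [h2]; group
        have h4 : x * d * x⁻¹ = d := mul_left_cancel h3
        exact h4.symm
      change d ∈ D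
      rw [this]; exact hd
  have hSN : (S : Subgroup G) ≤ N := fun s hs => hcentN s (fun d hd => hScomm s hs d hd.1)
  have hTN : T ≤ N := fun t ht => hcentN t (fun d hd => hTcomm t ht d hd.2)
  -- every Sylow subgroup contains D
  have hclaim : ∀ P : Sylow p G, D ≤ (P : Subgroup G) := by
    intro P
    -- conjugate P ⊓ N into S inside N
    have hrel : ¬ p ∣ (S : Subgroup G).relIndex N := by
      intro hdvd
      have h1 : (S : Subgroup G).relIndex N ∣ (S : Subgroup G).index :=
        Subgroup.relIndex_dvd_index_of_le hSN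
      exact S.not_dvd_index (dvd_trans hdvd h1)
    obtain ⟨n, hnN, hle⟩ := Cfsg.Agent.helper10.pgroup_conj_into_relSylow N
      ((P : Subgroup G) ⊓ N) (S : Subgroup G) inf_le_right
      (P.isPGroup'.to_le inf_le_left) S.isPGroup' hrel
    -- for x ∈ P ⊓ N: n x n⁻¹ ∈ S
    have hle' : ∀ x ∈ (P : Subgroup G), x ∈ N → n * x * n⁻¹ ∈ (S : Subgroup G) := by
      intro x hxP hxN
      apply hle
      exact Subgroup.mem_map.mpr ⟨x, ⟨hxP, hxN⟩, rfl⟩
    -- P' = n P n⁻¹
    obtain ⟨a, ha⟩ := MulAction.exists_smul_eq G S (n • P)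
    -- (n • P) ⊓ T ≤ D
    have hsub : ((n • P : Sylow p G) : Subgroup G) ⊓ T ≤ D := by
      intro y hy
      refine ⟨?_, hy.2⟩
      have hy1 : y ∈ MulAut.conj n • (P : Subgroup G) := hy.1
      rw [Cfsg.Agent.helper3.mem_conj_smul_iff] at hy1
      have hyN : n⁻¹ * y * n ∈ N :=
        N.mul_mem (N.mul_mem (N.inv_mem hnN) (hTN hy.2)) hnN
      have := hle' _ hy1 hyN
      have e : n * (n⁻¹ * y * n) * n⁻¹ = y := by group
      rwa [e] at this
    -- card (n•P ⊓ T) ≥ card D
    have hcard : Nat.card D ≤ Nat.card (((n • P : Sylow p G) : Subgroup G) ⊓ T : Subgroup G) := by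
      have h1 := hg0 (a⁻¹ * g0)
      -- (a • S) ⊓ (g0 • S) = a • (S ⊓ (a⁻¹ g0) • S)
      have h2 : (((n • P : Sylow p G) : Subgroup G) ⊓ T : Subgroup G)
          = MulAut.conj a • ((S : Subgroup G) ⊓ MulAut.conj (a⁻¹ * g0) • (S : Subgroup G)) := by
        rw [← ha]
        ext y
        simp only [Subgroup.mem_inf, Cfsg.Agent.helper3.mem_conj_smul_iff, hT]
        have e1 : (y ∈ ((a • S : Sylow p G) : Subgroup G)) ↔ a⁻¹ * y * a ∈ (S : Subgroup G) := by
          show y ∈ MulAut.conj a • (S : Subgroup G) ↔ _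
          rw [Cfsg.Agent.helper3.mem_conj_smul_iff]
        rw [e1]
        have e2 : (a⁻¹ * g0)⁻¹ * (a⁻¹ * y * a) * (a⁻¹ * g0) = g0⁻¹ * y * g0 := by group
        rw [e2]
      rw [h2, Cfsg.Agent.helper3.card_conj_smul]
      exact h1
    have heq : (((n • P : Sylow p G) : Subgroup G) ⊓ T : Subgroup G) = D :=
      Subgroup.eq_of_le_of_card_ge hsub hcard
    -- D ≤ n • P hence D = n⁻¹ D n ≤ P
    intro d hd
    have hdN : n * d * n⁻¹ ∈ D := by
      have := (Subgroup.mem_normalizer_iff.mp hnN d).mp hd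
      exact this
    have h3 : n * d * n⁻¹ ∈ ((n • P : Sylow p G) : Subgroup G) := by
      rw [← heq] at hdN
      exact hdN.1
    have h4 : n * d * n⁻¹ ∈ MulAut.conj n • (P : Subgroup G) := h3
    rw [Cfsg.Agent.helper3.mem_conj_smul_iff] at h4
    have e : n⁻¹ * (n * d * n⁻¹) * n = d := by group
    rwa [e] at h4
  have hDle : D ≤ pCore p G := by
    rw [Cfsg.Agent.helper1.pCore_eq_iInf_sylow]
    exact le_iInf hclaim
  rw [hOp] at hDle
  exact le_bot_iff.mp hDle

end Cfsg.Agent.S0060
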