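import Cfsg.Statements.S0063

set_option autoImplicit false
open Cfsg

namespace Cfsg.Agent.S0063

universe u

theorem class_le_one_of_comm {H : Type u} [Group H] [hn : Group.IsNilpotent H]
    (hc : ∀ a b : H, a * b = b * a) : Group.nilpotencyClass H ≤ 1 := by
  rw [← Subgroup.upperCentralSeries_eq_top_iff_nilpotencyClass_le, Subgroup.upperCentralSeries_one]
  rw [eq_top_iff]
  intro x _
  rw [Subgroup.mem_center_iff]
  intro y
  exact hc y x

theorem class_bound (p : ℕ) [Fact p.Prime] : ∀ (m : ℕ) (H : Type u) [Group H] [Finite H],
    Nat.card H = p ^ m → 2 ≤ m → Group.nilpotencyClass H ≤ m - 1 := by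
  intro m
  induction m using Nat.strong_induction_on with
  | _ m ih =>
    intro H _ _ hcard hm
    have hP : IsPGroup p H := IsPGroup.of_card hcard
    haveI : Group.IsNilpotent H := hP.isNilpotent
    by_cases hm2 : m = 2
    · subst hm2
      exact class_le_one_of_comm (IsPGroup.commutative_of_card_eq_prime_sq hcard)
    have hm3 : 3 ≤ m := by omega
    haveI hnt : Nontrivial H := by
      rw [← Finite.one_lt_card_iff_nontrivial, hcard]
      exact Nat.one_lt_pow (by omega) (Fact.out : p.Prime).one_lt
    haveI hzn : Nontrivial (Subgroup.center H) := hP.center_nontrivial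
    obtain ⟨k, hk⟩ := (hP.to_subgroup (Subgroup.center H)).exists_card_eq
    have hk1 : 1 ≤ k := by
      by_contra h
      have hk0 : k = 0 := by omega
      subst hk0
      rw [pow_zero] at hk
      have := Finite.one_lt_card_iff_nontrivial.2 hzn
      omega
    have hmul : Nat.card (H ⧸ Subgroup.center H) * Nat.card (Subgroup.center H) = Nat.card H := by
      rw [← Subgroup.index_eq_card]; exact Subgroup.index_mul_card _
    have hkm : k ≤ m := by
      have : p ^ k ∣ p ^ m := by rw [← hk, ← hcard]; exact Subgroup.card_subgroup_dvd_card _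
      exact (Nat.pow_dvd_pow_iff_le_right (Fact.out : p.Prime).one_lt).1 this
    have hq : Nat.card (H ⧸ Subgroup.center H) = p ^ (m - k) := by
      have hpos : 0 < p ^ k := pow_pos (Fact.out : p.Prime).pos k
      have : Nat.card (H ⧸ Subgroup.center H) * p ^ k = p ^ (m - k) * p ^ k := by
        rw [← hk, hmul, hcard, hk, ← pow_add, Nat.sub_add_cancel hkm]
      exact Nat.eq_of_mul_eq_mul_right hpos this
    rw [Group.nilpotencyClass_eq_quotient_center_plus_one]
    by_cases hj : 2 ≤ m - k
    · have := ih (m - k) (by omega) (H ⧸ Subgroup.center H) hq hj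
      omega
    · have hcomm : ∀ a b : H ⧸ Subgroup.center H, a * b = b * a := by
        have hj' : m - k = 0 ∨ m - k = 1 := by omega
        rcases hj' with h0 | h1
        · rw [h0, pow_zero] at hq
          haveI : Subsingleton (H ⧸ Subgroup.center H) := (Nat.card_eq_one_iff_unique.1 hq).1
          intro a b; exact Subsingleton.elim _ _
        · rw [h1, pow_one] at hq
          haveI := isCyclic_of_prime_card hq
          intro a b
          exact mul_comm' a b
      haveI : Group.IsNilpotent (H ⧸ Subgroup.center H) := (IsPGroup.of_card hq).isNilpotent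
      have := class_le_one_of_comm hcomm
      omega

/-- A finite group of prime-power order p ^ m with m > 1 is nilpotent of class at most m - 1. -/
theorem result {G : Type*} [Group G] [Finite G] (p m : ℕ) [Fact p.Prime]
    (hG : Nat.card G = p ^ m) (hm : 1 < m) : Group.nilpotencyClass G ≤ m - 1 := by
  exact class_bound p m G hG (by omega)

end Cfsg.Agent.S0063
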