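import Cfsg.Statements.S0064

set_option autoImplicit false
open Cfsg

namespace Cfsg.Agent.S0064

/-- A finite group is nilpotent exactly when each of its subgroups is subnormal. -/
theorem result {G : Type*} [Group G] [Finite G] :
    Group.IsNilpotent G ↔ ∀ H : Subgroup G, H.IsSubnormal := by
  constructor
  · intro hN H
    have hnc : NormalizerCondition G := normalizerCondition_of_isNilpotent
    have hwf : WellFounded (fun a b : Subgroup G => a > b) := wellFounded_gt
    induction H using hwf.induction with
    | _ H ih =>
      by_cases hH : H = ⊤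
      · subst hH; exact Subgroup.IsSubnormal.top
      · have hlt : H < Subgroup.normalizer (H : Set G) := hnc H (lt_top_iff_ne_top.2 hH)
        exact Subgroup.IsSubnormal.step H _ hlt.le (ih _ hlt)
          ((Subgroup.normal_subgroupOf_iff_le_normalizer hlt.le).2 le_rfl)
  · intro h
    refine (Group.isNilpotent_of_finite_tfae.out 0 2 rfl rfl).2 ?_
    intro H hH
    obtain ⟨K, hKn, hHK, hKlt⟩ := (h H).exists_normal_and_le_and_lt_top_of_ne hH.1
    have hKH : K = H := by
      by_contra hne
      exact hKlt.ne (hH.2 K (lt_of_le_of_ne hHK (Ne.symm hne)))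
    subst hKH; exact hKn

end Cfsg.Agent.S0064
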