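import Cfsg.Statements.S0066
import Cfsg.Agent.Lib_lead_Wielandt
import Cfsg.Agent.Lib_lead_SZ

set_option autoImplicit false
open Pointwise
open Cfsg

namespace Cfsg.Agent.S0066

open Cfsg.Agent.helper7 Cfsg.Agent.lead

/-- Wielandt's subnormality criterion: a subgroup that is subnormal in its join with each of its conjugates is subnormal in the whole finite group. -/
theorem result {G : Type*} [Group G] [Finite G] (A : Subgroup G)
    (h : ∀ g : G, (A.subgroupOf (A ⊔ MulAut.conj g • A)).IsSubnormal) : A.IsSubnormal := by
  rw [← sn_top_iff]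
  apply wielandt_criterion A _ ⊤ rfl le_top
  intro g _
  rw [sn_iff]
  refine ⟨le_sup_left, ?_⟩
  have := h g
  rwa [smul_eq_cj] at this

end Cfsg.Agent.S0066
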