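import Cfsg.Statements.S0067
import Cfsg.Agent.Lib_helper15_BaerSuzuki
import Cfsg.Agent.Lib_helper1_Core
import Cfsg.Agent.S3986
import Cfsg.Agent.S0064

set_option autoImplicit false
open Pointwise
open Cfsg

namespace Cfsg.Agent.S0067

theorem isPGroup_closure_pair_of_nilpotent {G : Type*} [Group G] [Finite G] {p : ℕ} [Fact p.Prime]
    (N : Subgroup G) (hN : Group.IsNilpotent N) (x y : G) (hx : x ∈ N) (hy : y ∈ N)
    (hxp : ∃ b : ℕ, orderOf x = p ^ b) (hyp : ∃ b : ℕ, orderOf y = p ^ b) :
    IsPGroup p (Subgroup.closure ({x, y} : Set G)) := by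
  obtain ⟨P⟩ := (inferInstance : Nonempty (Sylow p N))
  haveI : (P : Subgroup N).Normal := inferInstance
  have key : ∀ z : N, (∃ b : ℕ, orderOf (z : G) = p ^ b) → z ∈ (P : Subgroup N) := by
    intro z ⟨b, hb⟩
    have hz : IsPGroup p (Subgroup.zpowers z) := by
      apply IsPGroup.of_card (n := b)
      rw [Nat.card_zpowers, ← hb, Subgroup.orderOf_coe]
    obtain ⟨Q, hQ⟩ := hz.exists_le_sylow
    haveI := Sylow.unique_of_normal P inferInstance
    have : Q = P := Subsingleton.elim _ _
    rw [← this]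
    exact hQ (Subgroup.mem_zpowers z)
  have hle : Subgroup.closure ({x, y} : Set G) ≤ (P : Subgroup N).map N.subtype := by
    rw [Subgroup.closure_le]
    rintro z (rfl | rfl)
    · exact ⟨⟨z, hx⟩, key ⟨z, hx⟩ hxp, rfl⟩
    · exact ⟨⟨z, hy⟩, key ⟨z, hy⟩ hyp, rfl⟩
  exact (P.2.map N.subtype).to_le hle

/-- If the join of a subgroup A with each of its conjugates is nilpotent, then A is subnormal in the finite group and contained in the Fitting subgroup. -/
theorem result {G : Type*} [Group G] [Finite G] (A : Subgroup G)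
    (h : ∀ g : G, Group.IsNilpotent (A ⊔ MulAut.conj g • A : Subgroup G)) : A.IsSubnormal ∧ A ≤ Cfsg.fittingSubgroup G := by
  have hAF : A ≤ Cfsg.fittingSubgroup G := by
    intro x hx
    apply Cfsg.Agent.S3986.mem_of_primePow_powers (Cfsg.fittingSubgroup G) (orderOf x) x rfl
      (orderOf_pos x).ne'
    rintro k ⟨q, b, hq, hord⟩
    haveI := Fact.mk hq
    have hy : x ^ k ∈ A := A.pow_mem hx k
    have h1 : x ^ k ∈ (⨅ P : Sylow q G, (P : Subgroup G)) := by
      apply Cfsg.Agent.helper15.mem_iInf_sylow_of_baer_suzuki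
      intro g
      apply isPGroup_closure_pair_of_nilpotent (A ⊔ MulAut.conj g • A) (h g) _ _
        (Subgroup.mem_sup_left hy) _ ⟨b, hord⟩
      · refine ⟨b, ?_⟩
        rw [← hord]
        exact orderOf_injective (MulAut.conj g).toMonoidHom (MulAut.conj g).injective (x ^ k)
      · apply Subgroup.mem_sup_right
        have := Subgroup.smul_mem_pointwise_smul (x ^ k) (MulAut.conj g) A hy
        simpa [MulAut.smul_def] using this
    rw [← Cfsg.Agent.helper1.pCore_eq_iInf_sylow] at h1
    exact Cfsg.Agent.helper1.pCore_le_fitting q h1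
  refine ⟨?_, hAF⟩
  haveI := Cfsg.Agent.helper1.fitting_isNilpotent (G := G)
  have h1 : (A.subgroupOf (Cfsg.fittingSubgroup G)).IsSubnormal :=
    (Cfsg.Agent.S0064.result (G := Cfsg.fittingSubgroup G)).mp inferInstance _
  exact Subgroup.IsSubnormal.trans hAF h1 (Cfsg.Agent.helper1.fitting_normal (G := G)).isSubnormal

end Cfsg.Agent.S0067
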