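import Cfsg.Statements.S0070
import Cfsg.Agent.Lib_helper1_Core

set_option autoImplicit false
open Cfsg

namespace Cfsg.Agent.S0070

/-- The Fitting subgroup commutes with passing to the Frattini quotient: the Fitting subgroup of G modulo its Frattini subgroup is the image of the Fitting subgroup of G. -/
theorem result {G : Type*} [Group G] [Finite G] :
    Cfsg.fittingSubgroup (G ⧸ frattini G) = (Cfsg.fittingSubgroup G).map (QuotientGroup.mk' (frattini G)) := by
  classical
  have hπ : Function.Surjective (QuotientGroup.mk' (frattini G)) := QuotientGroup.mk'_surjective _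
  haveI hFn : (Cfsg.fittingSubgroup G).Normal := helper1.fitting_normal
  apply le_antisymm
  · -- F(G/Φ) ≤ image of F(G)
    rw [helper1.fitting_eq_iSup_pCore]
    apply iSup_le
    intro p
    haveI : Fact (p : ℕ).Prime := ⟨p.2⟩
    obtain ⟨N, hNdef⟩ : ∃ N : Subgroup G, N = (Cfsg.pCore (p : ℕ) (G ⧸ frattini G)).comap
        (QuotientGroup.mk' (frattini G)) := ⟨_, rfl⟩
    haveI hQn : (Cfsg.pCore (p : ℕ) (G ⧸ frattini G)).Normal := helper1.pCore_normal _
    haveI hNn : N.Normal := by rw [hNdef]; infer_instance
    have hΦN : frattini G ≤ N := by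
      rw [hNdef]
      intro x hx
      rw [Subgroup.mem_comap]
      have : QuotientGroup.mk' (frattini G) x = 1 := by
        rw [QuotientGroup.mk'_apply, QuotientGroup.eq_one_iff]; exact hx
      rw [this]; exact Subgroup.one_mem _
    have hmapN : N.map (QuotientGroup.mk' (frattini G)) = Cfsg.pCore (p : ℕ) (G ⧸ frattini G) := by
      rw [hNdef]; exact Subgroup.map_comap_eq_self_of_surjective hπ _
    obtain ⟨P⟩ : Nonempty (Sylow (p : ℕ) N) := Sylow.nonempty
    obtain ⟨P', hP'def⟩ : ∃ P' : Subgroup G, P' = (P : Subgroup N).map N.subtype := ⟨_, rfl⟩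
    have hP'N : P' ≤ N := by rw [hP'def]; exact Subgroup.map_subtype_le _
    have hP'p : IsPGroup (p : ℕ) P' := by
      rw [hP'def]; exact P.2.map _
    -- N ≤ P' ⊔ Φ
    have hNle : N ≤ P' ⊔ frattini G := by
      rw [← Subgroup.relIndex_eq_one]
      have h1 : (P' ⊔ frattini G).relIndex N ∣ P'.relIndex N :=
        Subgroup.relIndex_dvd_of_le_left N le_sup_left
      have h2 : (P' ⊔ frattini G).relIndex N ∣ (frattini G).relIndex N :=
        Subgroup.relIndex_dvd_of_le_left N le_sup_right
      have h3 : ¬ (p : ℕ) ∣ P'.relIndex N := by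
        have e : P'.subgroupOf N = (P : Subgroup N) := by
          rw [hP'def]
          exact Subgroup.comap_map_eq_self_of_injective (Subgroup.subtype_injective N) _
        rw [Subgroup.relIndex, e]
        exact P.not_dvd_index
      have h4 : ∃ k : ℕ, (frattini G).relIndex N = (p : ℕ) ^ k := by
        have hk : (QuotientGroup.mk' (frattini G)).ker = frattini G := QuotientGroup.ker_mk' _
        have := Subgroup.relIndex_ker N (QuotientGroup.mk' (frattini G))
        rw [hk, hmapN] at this
        rw [this]
        exact (helper1.pCore_isPGroup (p : ℕ)).exists_card_eq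
      obtain ⟨k, hk⟩ := h4
      rw [hk] at h2
      have hcop : ((P' ⊔ frattini G).relIndex N).Coprime ((p : ℕ) ^ k) := by
        apply Nat.Coprime.pow_right
        rw [Nat.coprime_comm, Nat.Prime.coprime_iff_not_dvd p.2]
        exact fun h => h3 (dvd_trans h h1)
      exact Nat.Coprime.eq_one_of_dvd hcop h2
    -- Frattini argument
    have hfa : Subgroup.normalizer (P' : Set G) ⊔ N = ⊤ := by
      rw [hP'def]; exact Sylow.normalizer_sup_eq_top P
    have hsup : Subgroup.normalizer (P' : Set G) ⊔ frattini G = ⊤ := by
      rw [eq_top_iff, ← hfa]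
      apply sup_le le_sup_left
      refine le_trans hNle (sup_le ?_ le_sup_right)
      exact le_trans Subgroup.le_normalizer le_sup_left
    have hnorm : Subgroup.normalizer (P' : Set G) = ⊤ := frattini_nongenerating hsup
    have hP'n : P'.Normal := Subgroup.normalizer_eq_top_iff.1 hnorm
    have hP'F : P' ≤ Cfsg.fittingSubgroup G :=
      le_trans (helper1.le_pCore hP'n hP'p) (helper1.pCore_le_fitting (p : ℕ))
    rw [← hmapN]
    refine le_trans (Subgroup.map_mono hNle) ?_
    rw [Subgroup.map_sup]
    apply sup_le (Subgroup.map_mono hP'F)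
    have : (frattini G).map (QuotientGroup.mk' (frattini G)) = ⊥ :=
      (Subgroup.map_eq_bot_iff _).2 (le_of_eq (QuotientGroup.ker_mk' (frattini G)).symm)
    rw [this]; exact bot_le
  · -- image of F(G) ≤ F(G/Φ)
    apply helper1.le_fitting (hFn.map _ hπ)
    haveI : Group.IsNilpotent (Cfsg.fittingSubgroup G) := helper1.fitting_isNilpotent
    exact nilpotent_of_surjective ((QuotientGroup.mk' (frattini G)).subgroupMap (Cfsg.fittingSubgroup G))
      (MonoidHom.subgroupMap_surjective _ _)

end Cfsg.Agent.S0070
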