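import Mathlib
import Cfsg.Statements.S0072
import Cfsg.Agent.S0071

set_option autoImplicit false
open Cfsg

namespace Cfsg.Agent.S0072

open Cfsg.Agent.lead Cfsg.Agent.helper10

/-- A finite group has a normal p-complement if and only if every p-local subgroup (normalizer of a nontrivial p-subgroup) has one. -/
theorem result {G : Type*} [Group G] [Finite G] (p : ℕ) [Fact p.Prime] : Cfsg.HasNormalPComplement p G ↔ ∀ Q : Subgroup G, IsPGroup p Q → Q ≠ ⊥ → Cfsg.HasNormalPComplement p (Subgroup.normalizer (Q : Set G)) := by
  constructor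
  · intro h Q _ _
    have hF := Cfsg.Agent.S0071.frobCond_of_hasNormalPComplement h
    have hF' := hF.subgroup (Subgroup.normalizer (Q : Set G))
    exact hasNormalPComplement_of_pResidual_coprime p (frob_pResidual_coprime p _ _ rfl hF')
  · intro h
    have hF : FrobCond p G := by
      intro Q hQ g hg hcop
      by_cases hQ1 : Q = ⊥
      · rw [hQ1, Subgroup.mem_centralizer_iff]
        intro x hx
        have : x = 1 := hx
        rw [this]; simp
      have hF' := Cfsg.Agent.S0071.frobCond_of_hasNormalPComplement (h Q hQ hQ1)
      set H := Subgroup.normalizer (Q : Set G) with hH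
      have hQ' : IsPGroup p (Q.subgroupOf H) := hQ.comap_subtype
      have hgn : (⟨g, hg⟩ : H) ∈ Subgroup.normalizer ((Q.subgroupOf H : Subgroup H) : Set H) := by
        rw [Subgroup.mem_normalizer_iff]
        intro x
        rw [Subgroup.mem_subgroupOf, Subgroup.mem_subgroupOf]
        exact Subgroup.mem_normalizer_iff.mp hg (x : G)
      have hc := hF' (Q.subgroupOf H) hQ' ⟨g, hg⟩ hgn (by
        rw [← Subgroup.orderOf_coe]; exact hcop)
      rw [Subgroup.mem_centralizer_iff] at hc ⊢
      intro x hx
      have := hc ⟨x, Subgroup.le_normalizer hx⟩ (by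
        show (⟨x, Subgroup.le_normalizer hx⟩ : H) ∈ Q.subgroupOf H
        rw [Subgroup.mem_subgroupOf]; exact hx)
      exact congrArg Subtype.val this
    exact hasNormalPComplement_of_pResidual_coprime p (frob_pResidual_coprime p _ G rfl hF)

end Cfsg.Agent.S0072
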