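import Mathlib
import Cfsg.Statements.S0073
import Cfsg.Agent.Lib_lead_AutFix

set_option autoImplicit false
open Cfsg

namespace Cfsg.Agent.S0073

theorem comm_of_card_le_sq {T : Type*} [Group T] [Finite T] {p : ℕ} [Fact p.Prime] {k : ℕ}
    (hk : k ≤ 2) (hT : Nat.card T = p ^ k) : ∀ a b : T, a * b = b * a := by
  have hp : p.Prime := Fact.out
  interval_cases k
  · rw [pow_zero] at hT
    have := (Nat.card_eq_one_iff_unique.mp hT).1
    intro a b; rw [Subsingleton.elim a b]
  · rw [pow_one] at hT
    haveI := isCyclic_of_prime_card hT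
    intro a b
    exact (IsCyclic.commutative (α := T)).is_comm.comm a b
  · have := IsPGroup.isMulCommutative_of_card_eq_prime_sq hT
    intro a b
    exact this.is_comm.comm a b

theorem no_aut {T : Type*} [Group T] [Finite T] {p : ℕ} (hp : p.Prime) {k : ℕ}
    (hk : k ≤ 2) (hT : Nat.card T = p ^ k) (q : ℕ) (hq : q.Prime) (hpq : p < q)
    (h23 : ¬ (p = 2 ∧ q = 3 ∧ k = 2)) (φ : MulAut T) : orderOf φ ≠ q := by
  intro hφ
  obtain ⟨F, hFtop, hmod⟩ := Cfsg.Agent.lead.aut_prime_fixed φ q hq hφ
  have hFd : Nat.card F ∣ p ^ k := hT ▸ Subgroup.card_subgroup_dvd_card F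
  obtain ⟨j, hjk, hj⟩ := (Nat.dvd_prime_pow hp).mp hFd
  have hjk' : j < k := by
    rcases lt_or_eq_of_le hjk with h | h
    · exact h
    · exfalso; apply hFtop
      apply Subgroup.eq_top_of_card_eq
      rw [hj, hT, h]
  rw [hT, hj] at hmod
  have hle : p ^ j ≤ p ^ k := Nat.pow_le_pow_right hp.pos hjk
  have hdvd : q ∣ p ^ k - p ^ j := (Nat.modEq_iff_dvd' hle).mp hmod.symm
  have hp1 : ¬ q ∣ p - 1 := by
    intro h
    have := Nat.le_of_dvd (Nat.sub_pos_of_lt hp.one_lt) h
    omega
  have hpp : ¬ q ∣ p := by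
    intro h
    have := Nat.le_of_dvd hp.pos h
    omega
  have hp2 := hp.two_le
  interval_cases k
  · omega
  · interval_cases j
    simp only [pow_one, pow_zero] at hdvd
    exact hp1 hdvd
  · interval_cases j
    · simp only [pow_zero] at hdvd
      have : p ^ 2 - 1 = (p - 1) * (p + 1) := by
        obtain ⟨m, rfl⟩ : ∃ m, p = m + 1 := ⟨p - 1, by omega⟩
        simp only [Nat.add_sub_cancel]
        have : (m + 1) ^ 2 = m * (m + 1 + 1) + 1 := by ring
        rw [this, Nat.add_sub_cancel]
      rw [this] at hdvd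
      rcases (Nat.Prime.dvd_mul hq).mp hdvd with h | h
      · exact hp1 h
      · have hle := Nat.le_of_dvd (by omega) h
        have hq1 : q = p + 1 := by omega
        apply h23
        rcases hp.eq_two_or_odd with h2 | h2
        · refine ⟨h2, by omega, rfl⟩
        · exfalso
          rcases hq.eq_two_or_odd with h3 | h3
          · omega
          · omega
    · simp only [pow_one] at hdvd
      have : p ^ 2 - p = p * (p - 1) := by
        rw [Nat.mul_sub, mul_one, sq]
      rw [this] at hdvd
      rcases (Nat.Prime.dvd_mul hq).mp hdvd with h | h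
      · exact hpp h
      · exact hp1 h

/-- For a finite non-abelian simple group, either the cube of the least prime divisor of the order divides the order, or 12 does. -/
theorem result {G : Type*} [Group G] [Finite G] [IsSimpleGroup G] (hG : ∃ x y : G, x * y ≠ y * x) : (Nat.card G).minFac ^ 3 ∣ Nat.card G ∨ 12 ∣ Nat.card G := by
  by_contra hcon
  rw [not_or] at hcon
  obtain ⟨h1, h2⟩ := hcon
  have hne : Nat.card G ≠ 1 := by
    intro h
    have := (Nat.card_eq_one_iff_unique.mp h).1
    obtain ⟨x, y, hxy⟩ := hG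
    exact hxy (Subsingleton.elim _ _)
  have hp : (Nat.card G).minFac.Prime := Nat.minFac_prime hne
  haveI := Fact.mk hp
  set p := (Nat.card G).minFac with hpdef
  let P : Sylow p G := default
  have hPcard := P.card_eq_multiplicity
  set k := Nat.factorization (Nat.card G) p with hkdef
  have hk : k ≤ 2 := by
    by_contra hk
    apply h1
    have : p ^ 3 ∣ p ^ k := pow_dvd_pow p (by omega)
    exact this.trans (hPcard ▸ Subgroup.card_subgroup_dvd_card (P : Subgroup G))
  have hcomm := comm_of_card_le_sq hk hPcard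
  obtain ⟨N, hN, hNP⟩ := Cfsg.Agent.lead.exists_normal_complement_of_aut P hcomm (by
    intro q hq hqG hqp φ
    have hpq : p < q := lt_of_le_of_ne (Nat.minFac_le_of_dvd hq.two_le hqG) (Ne.symm hqp)
    apply no_aut hp hk hPcard q hq hpq
    rintro ⟨hp2, hq3, hk2⟩
    apply h2
    have h4 : 4 ∣ Nat.card G := by
      have := hPcard ▸ Subgroup.card_subgroup_dvd_card (P : Subgroup G)
      rw [hp2, hk2] at this
      exact this
    have h3 : 3 ∣ Nat.card G := hq3 ▸ hqG
    have : (12 : ℕ) = 4 * 3 := by norm_num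
    rw [this]
    exact Nat.Coprime.mul_dvd_of_dvd_of_dvd (by norm_num) h4 h3)
  have hidx := hNP.index_eq_card
  rcases hN.eq_bot_or_eq_top with h | h
  · rw [h, Subgroup.card_bot, Subgroup.index_eq_one] at hidx
    obtain ⟨x, y, hxy⟩ := hG
    apply hxy
    have hx : x ∈ (P : Subgroup G) := hidx ▸ Subgroup.mem_top x
    have hy : y ∈ (P : Subgroup G) := hidx ▸ Subgroup.mem_top y
    exact congrArg Subtype.val (hcomm ⟨x, hx⟩ ⟨y, hy⟩)
  · rw [h, Subgroup.card_top] at hidx
    apply P.not_dvd_index
    rw [hidx]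
    exact Nat.minFac_dvd _

end Cfsg.Agent.S0073
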