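import Mathlib
import Cfsg.Statements.S0074
import Cfsg.Agent.Lib_lead_Fusion

set_option autoImplicit false
open Pointwise
open Cfsg

namespace Cfsg.Agent.S0074

open Cfsg.Agent.lead

theorem result {G : Type*} [Group G] [Finite G] {p : ℕ} [Fact p.Prime] (P : Sylow p G) (hP : IsMulCommutative P) : commutator G ⊓ (P : Subgroup G) = ⁅Subgroup.normalizer (P : Set G), Subgroup.normalizer (P : Set G)⁆ ⊓ (P : Subgroup G) := by
  have comm := sylow_comm P hP
  have hF : commutator G ⊓ (P : Subgroup G) = Subgroup.focalSubgroup (P : Subgroup G) :=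
    Subgroup.commutator_inf_eq_focalSubgroup P
  apply le_antisymm
  · rw [hF]
    refine le_inf ?_ (Subgroup.focalSubgroup_le _)
    rw [focal_eq_commutator_normalizer P comm]
    exact Subgroup.commutator_mono Subgroup.le_normalizer le_rfl
  · refine inf_le_inf_right _ ?_
    rw [commutator_def]
    exact Subgroup.commutator_mono le_top le_top

end Cfsg.Agent.S0074
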