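import Mathlib
import Cfsg.Statements.S0075
import Cfsg.Agent.Lib_lead_Fusion
import Cfsg.Agent.Lib_helper10_PResidual

set_option autoImplicit false
open Pointwise
open Cfsg
open scoped commutatorElement

namespace Cfsg.Agent.S0075

open Cfsg.Agent.lead

theorem result {G : Type*} [Group G] [Finite G] {p : ℕ} [Fact p.Prime] (T : Sylow p G) (hT : IsMulCommutative T) : (T : Subgroup G) ⊓ Cfsg.pResidual p G = ⁅(T : Subgroup G), Subgroup.normalizer (T : Set G)⁆ := by
  have comm := sylow_comm T hT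
  haveI hRn : (Cfsg.pResidual p G).Normal := Cfsg.Agent.helper10.pResidual_normal p G
  change (T : Subgroup G) ⊓ Cfsg.pResidual p G
    = ⁅(T : Subgroup G), Subgroup.normalizer ((T : Subgroup G) : Set G)⁆
  rw [← focal_eq_commutator_normalizer T comm]
  apply le_antisymm
  · -- T ⊓ R ≤ ker V ⊓ T = focal
    rw [← Subgroup.ker_transferFocal_inf_eq_focalSubgroup T, inf_comm]
    refine inf_le_inf_right _ ?_
    rw [Cfsg.pResidual, Subgroup.closure_le]
    intro g hg
    rw [SetLike.mem_coe, MonoidHom.mem_ker]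
    have hQ : IsPGroup p ((T : Subgroup G) ⧸ (T : Subgroup G).focalSubgroupOf) :=
      T.2.to_quotient _
    obtain ⟨k, hk⟩ := hQ ((T : Subgroup G).transferFocal g)
    have h1 : orderOf ((T : Subgroup G).transferFocal g) ∣ p ^ k := orderOf_dvd_of_pow_eq_one hk
    have h2 : orderOf ((T : Subgroup G).transferFocal g) ∣ orderOf g := orderOf_map_dvd _ g
    have hcop : Nat.Coprime (orderOf g) (p ^ k) := Nat.Coprime.pow_right k hg
    exact orderOf_eq_one_iff.mp (Nat.eq_one_of_dvd_coprimes hcop h2 h1)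
  · refine le_inf (Subgroup.focalSubgroup_le _) ?_
    rw [focal_eq_commutator_normalizer T comm, Subgroup.commutator_le]
    intro x hx n _
    obtain ⟨s, hs, k, hk, rfl⟩ := Cfsg.Agent.helper10.exists_mul_of_pResidual_sylow p T n
    have hxs : x * s = s * x := comm x hx s hs
    have h1 : ⁅x, s * k⁆ = s * ((x * k * x⁻¹) * k⁻¹) * s⁻¹ := by
      rw [commutatorElement_def]
      calc x * (s * k) * x⁻¹ * (s * k)⁻¹ = (x * s) * k * x⁻¹ * k⁻¹ * s⁻¹ := by group
        _ = (s * x) * k * x⁻¹ * k⁻¹ * s⁻¹ := by rw [hxs]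
        _ = s * ((x * k * x⁻¹) * k⁻¹) * s⁻¹ := by group
    rw [h1]
    apply hRn.conj_mem
    exact Subgroup.mul_mem _ (hRn.conj_mem k hk x) (Subgroup.inv_mem _ hk)

end Cfsg.Agent.S0075
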