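import Cfsg.Statements.S0076
import Mathlib

set_option autoImplicit false
open Pointwise
open Cfsg

namespace Cfsg.Agent.S0076

theorem image_conj_eq_iff {G : Type*} [Group G] [Finite G] (X : Set G) (g : G) :
    (fun y => g * y * g⁻¹) '' X = X ↔ g ∈ Subgroup.normalizer X := by
  constructor
  · intro h
    apply Subgroup.mem_normalizer_fintype
    intro n hn
    rw [← h]
    exact ⟨n, hn, rfl⟩
  · intro h
    ext y
    constructor
    · rintro ⟨z, hz, rfl⟩
      exact (h z).mp hz
    · intro hy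
      refine ⟨g⁻¹ * y * g, ?_, by group⟩
      have := (Subgroup.inv_mem _ h) y
      simpa using this.mp hy

/-- Two P-invariant subsets of a Sylow p-subgroup P that are conjugate in G are conjugate under the normalizer of P. -/
theorem result {G : Type*} [Group G] [Finite G] {p : ℕ} [Fact p.Prime] (P : Sylow p G) (X Y : Set G) (hXP : X ⊆ P) (hYP : Y ⊆ P) (hX : ∀ x ∈ P, (fun y => x * y * x⁻¹) '' X = X) (hY : ∀ x ∈ P, (fun y => x * y * x⁻¹) '' Y = Y) (g : G) (hg : (fun y => g * y * g⁻¹) '' X = Y) : ∃ n ∈ Subgroup.normalizer (P : Set G), (fun y => n * y * n⁻¹) '' X = Y := by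
  set M := Subgroup.normalizer X with hM
  have hPM : (P : Subgroup G) ≤ M := fun x hx => (image_conj_eq_iff X x).mp (hX x hx)
  have hconj : ∀ a b : G, ∀ Z : Set G, (fun y => (a * b) * y * (a * b)⁻¹) '' Z = (fun y => a * y * a⁻¹) '' ((fun y => b * y * b⁻¹) '' Z) := by
    intro a b Z
    rw [Set.image_image]
    congr 1
    ext y
    group
  have hQM : ((g⁻¹ • P : Sylow p G) : Subgroup G) ≤ M := by
    intro x hx
    rw [Sylow.coe_subgroup_smul, Subgroup.mem_pointwise_smul_iff_inv_smul_mem] at hx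
    have hh : g * x * g⁻¹ ∈ (P : Subgroup G) := by simpa using hx
    rw [hM, ← image_conj_eq_iff]
    have hx' : x = g⁻¹ * ((g * x * g⁻¹) * g) := by group
    generalize g * x * g⁻¹ = h at hh hx'
    subst hx'
    rw [hconj, hconj, hg, hY _ hh, ← hg, ← hconj]
    simp
  obtain ⟨m, hm⟩ := MulAction.exists_smul_eq M ((g⁻¹ • P : Sylow p G).subtype hQM) (P.subtype hPM)
  rw [Sylow.smul_subtype] at hm
  have hm' := Sylow.subtype_injective hm
  have hm2 : ((m : G) * g⁻¹) • P = P := by
    rw [mul_smul]; exact hm'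
  rw [Sylow.smul_eq_iff_mem_normalizer] at hm2
  refine ⟨g * (m : G)⁻¹, ?_, ?_⟩
  · have := Subgroup.inv_mem _ hm2
    simpa using this
  · rw [hconj, ← hg]
    congr 1
    exact (image_conj_eq_iff X _).mpr (Subgroup.inv_mem _ m.2)

end Cfsg.Agent.S0076
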