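import Mathlib
import Cfsg.Statements.S0077
import Cfsg.Agent.Lib_helper7_SN
import Cfsg.Agent.Lib_lead_Fusion

set_option autoImplicit false
open Cfsg

namespace Cfsg.Agent.S0077

open scoped commutatorElement
open Cfsg.Agent.helper7 Cfsg.Agent.lead

/-- Grün's fusion lemma: if `Z ≤ Z(P)` is weakly closed in `P`, then fusion of elements of `P`
is controlled by `N_G(Z)`. -/
theorem grun_fusion {G : Type*} [Group G] [Finite G] {p : ℕ} [Fact p.Prime] (P : Sylow p G)
    (Z : Subgroup G) (hZ : Z ≤ Subgroup.centralizer (P : Set G))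
    (hW : Cfsg.IsWeaklyClosed Z P) (x : G) (hx : x ∈ (P : Subgroup G)) (u : G)
    (hy : u * x * u⁻¹ ∈ (P : Subgroup G)) :
    ∃ n ∈ Subgroup.normalizer (Z : Set G), n * x * n⁻¹ = u * x * u⁻¹ := by
  set y := u * x * u⁻¹ with hydef
  set C := Subgroup.centralizer ({y} : Set G) with hC
  have hZp : IsPGroup p Z := P.isPGroup'.to_le hW.1
  have h1 : Z ≤ C := by
    intro z hz
    rw [hC, Subgroup.mem_centralizer_singleton_iff]
    have := hZ hz
    rw [Subgroup.mem_centralizer_iff] at this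
    exact (this y hy).symm
  have h2 : cj u Z ≤ C := by
    intro a ha
    rw [mem_cj] at ha
    have := hZ ha
    rw [Subgroup.mem_centralizer_iff] at this
    have h := this x hx
    rw [hC, Subgroup.mem_centralizer_singleton_iff, hydef]
    calc a * (u * x * u⁻¹) = u * ((u⁻¹ * a * u) * x) * u⁻¹ := by group
      _ = u * (x * (u⁻¹ * a * u)) * u⁻¹ := by rw [h]
      _ = u * x * u⁻¹ * a := by group
  have hZ'p : IsPGroup p (Z.subgroupOf C) := hZp.comap_subtype
  have hZu_p : IsPGroup p (cj u Z) := hZp.map _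
  have hZu'p : IsPGroup p ((cj u Z).subgroupOf C) := hZu_p.comap_subtype
  obtain ⟨R, hR⟩ := hZ'p.exists_le_sylow
  obtain ⟨S, hS⟩ := hZu'p.exists_le_sylow
  obtain ⟨c, hc⟩ := MulAction.exists_smul_eq C R S
  have hS₀p : IsPGroup p ((S : Subgroup C).map C.subtype) := S.isPGroup'.map _
  obtain ⟨T, hT⟩ := hS₀p.exists_le_sylow
  obtain ⟨v, hv⟩ := MulAction.exists_smul_eq G P T
  -- conjugates land in P
  have hA : cj (v⁻¹ * (c : G)) Z ≤ (P : Subgroup G) := by
    intro a ha
    rw [mem_cj] at ha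
    set z := (v⁻¹ * (c : G))⁻¹ * a * (v⁻¹ * (c : G)) with hz
    have hzR : (⟨z, h1 ha⟩ : C) ∈ (R : Subgroup C) := hR (by
      rw [Subgroup.mem_subgroupOf]; exact ha)
    have hzS : c * ⟨z, h1 ha⟩ * c⁻¹ ∈ (S : Subgroup C) := by
      rw [← hc, mem_smul_sylow]
      have : c⁻¹ * (c * ⟨z, h1 ha⟩ * c⁻¹) * c = ⟨z, h1 ha⟩ := by group
      rw [this]; exact hzR
    have hzT : (c : G) * z * (c : G)⁻¹ ∈ (T : Subgroup G) := by
      apply hT
      exact ⟨_, hzS, by simp⟩
    rw [← hv, mem_smul_sylow] at hzT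
    have : v⁻¹ * ((c : G) * z * (c : G)⁻¹) * v = a := by
      rw [hz]; group
    rwa [this] at hzT
  have hB : cj (v⁻¹ * u) Z ≤ (P : Subgroup G) := by
    intro a ha
    rw [mem_cj] at ha
    set z := (v⁻¹ * u)⁻¹ * a * (v⁻¹ * u) with hz
    have hb : u * z * u⁻¹ ∈ cj u Z := cj_mem_cj ha
    have hbS : (⟨u * z * u⁻¹, h2 hb⟩ : C) ∈ (S : Subgroup C) := hS (by
      rw [Subgroup.mem_subgroupOf]; exact hb)
    have hbT : u * z * u⁻¹ ∈ (T : Subgroup G) := by
      apply hT
      exact ⟨_, hbS, rfl⟩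
    rw [← hv, mem_smul_sylow] at hbT
    have : v⁻¹ * (u * z * u⁻¹) * v = a := by
      rw [hz]; group
    rwa [this] at hbT
  have hA' := hW.2 _ hA
  have hB' := hW.2 _ hB
  have hAB : cj (c : G) Z = cj u Z := by
    have h3 : cj (v⁻¹ * (c : G)) Z = cj (v⁻¹ * u) Z := hA'.trans hB'.symm
    have h4 := congrArg (cj v) h3
    rw [cj_cj, cj_cj] at h4
    simpa using h4
  have hn : cj ((c : G)⁻¹ * u) Z = Z := by
    have h4 := congrArg (cj (c : G)⁻¹) hAB
    rw [cj_cj, cj_cj] at h4
    rw [← h4]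
    simp [cj_one]
  refine ⟨(c : G)⁻¹ * u, mem_normalizer_of_cj_eq hn, ?_⟩
  have hcy : (c : G) * y = y * (c : G) := by
    have hc2 : (c : G) ∈ Subgroup.centralizer ({y} : Set G) := c.2
    rw [Subgroup.mem_centralizer_singleton_iff] at hc2
    exact hc2
  calc (c : G)⁻¹ * u * x * ((c : G)⁻¹ * u)⁻¹ = (c : G)⁻¹ * (u * x * u⁻¹) * (c : G) := by group
    _ = (c : G)⁻¹ * (y * (c : G)) := by rw [← hydef]; group
    _ = (c : G)⁻¹ * ((c : G) * y) := by rw [hcy]
    _ = y := by group

/-- If a subgroup Z of the centre of a Sylow p-subgroup P is weakly closed in P, then P meets the derived subgroup of G exactly where it meets the derived subgroup of the normalizer of Z. -/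
theorem result {G : Type*} [Group G] [Finite G] {p : ℕ} [Fact p.Prime] (P : Sylow p G) (Z : Subgroup G) (hZ : Z ≤ Subgroup.centralizer (P : Set G)) (hW : Cfsg.IsWeaklyClosed Z P) : commutator G ⊓ (P : Subgroup G) = ⁅Subgroup.normalizer (Z : Set G), Subgroup.normalizer (Z : Set G)⁆ ⊓ (P : Subgroup G) := by
  apply le_antisymm
  · rw [Subgroup.commutator_inf_eq_focalSubgroup]
    apply le_inf _ (Subgroup.focalSubgroup_le _)
    rw [Subgroup.focalSubgroup_def, Subgroup.closure_le]
    rintro g ⟨hgP, x, hx, u, rfl⟩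
    have h1 : u * x * u⁻¹ ∈ (P : Subgroup G) := by
      have h2 : (x⁻¹ * ⁅x, u⁆)⁻¹ ∈ (P : Subgroup G) :=
        Subgroup.inv_mem _ (Subgroup.mul_mem _ (Subgroup.inv_mem _ hx) hgP)
      have h3 : (x⁻¹ * ⁅x, u⁆)⁻¹ = u * x * u⁻¹ := by
        rw [commutatorElement_def]; group
      rwa [h3] at h2
    obtain ⟨n, hn, hnx⟩ := grun_fusion P Z hZ hW x hx u h1
    have h4 : ⁅x, u⁆ = ⁅x, n⁆ := by
      rw [commutatorElement_def, commutatorElement_def]
      calc x * u * x⁻¹ * u⁻¹ = x * (u * x * u⁻¹)⁻¹ := by group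
        _ = x * (n * x * n⁻¹)⁻¹ := by rw [hnx]
        _ = x * n * x⁻¹ * n⁻¹ := by group
    rw [SetLike.mem_coe, h4]
    have hxN : x ∈ Subgroup.normalizer (Z : Set G) := by
      rw [Subgroup.mem_normalizer_iff]
      intro z
      have key : ∀ w ∈ Z, x * w * x⁻¹ = w := by
        intro w hw
        have := hZ hw
        rw [Subgroup.mem_centralizer_iff] at this
        have h := this x hx
        calc x * w * x⁻¹ = w * x * x⁻¹ := by rw [h]
          _ = w := by group
      constructor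
      · intro hz; rw [key z hz]; exact hz
      · intro hz
        have := key _ hz
        have h5 : z = x⁻¹ * (x * z * x⁻¹) * x := by group
        rw [h5]
        have h6 : x⁻¹ * (x * z * x⁻¹) * x = x * z * x⁻¹ := by
          calc x⁻¹ * (x * z * x⁻¹) * x = x⁻¹ * (x * (x * z * x⁻¹) * x⁻¹) * x := by rw [this]
            _ = x * z * x⁻¹ := by group
        rw [h6]; exact hz
    exact Subgroup.commutator_mem_commutator hxN hn
  · exact inf_le_inf_right _ (Subgroup.commutator_mono le_top le_top)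

end Cfsg.Agent.S0077
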