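import Mathlib
import Cfsg.Statements.S0087
import Cfsg.Agent.Lib_lead_SZ

set_option autoImplicit false
open Cfsg

namespace Cfsg.Agent.S0087

open Cfsg.Agent.helper7 Cfsg.Agent.lead

universe u

/-- the hypotheses on the Hall subgroup -/
def Hyp {G : Type u} [Group G] (H : Subgroup G) : Prop :=
  Nat.Coprime (Nat.card H) H.index ∧
    Subgroup.normalizer (H : Set G) ≤ Subgroup.centralizer (H : Set G)

theorem Hyp.comm {G : Type u} [Group G] {H : Subgroup G} (hyp : Hyp H) :
    ∀ a ∈ H, ∀ b ∈ H, a * b = b * a := by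
  intro a ha b hb
  have h1 := hyp.2 (Subgroup.le_normalizer ha)
  rw [Subgroup.mem_centralizer_iff] at h1
  exact (h1 b hb).symm

theorem hyp_sub {G : Type u} [Group G] [Finite G] {H M : Subgroup G} (hHM : H ≤ M)
    (hyp : Hyp H) : Hyp (H.subgroupOf M) := by
  constructor
  · rw [card_subgroupOf_of_le hHM]
    have h1 : H.relIndex M ∣ H.index := Dvd.intro _ (Subgroup.relIndex_mul_index hHM)
    exact Nat.Coprime.coprime_dvd_right h1 hyp.1
  · intro x hx
    have hxN : (x : G) ∈ Subgroup.normalizer (H : Set G) := by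
      rw [Subgroup.mem_normalizer_iff] at hx ⊢
      intro h
      constructor
      · intro hh
        have h1 := (hx ⟨h, hHM hh⟩).mp (Subgroup.mem_subgroupOf.mpr hh)
        have h2 := Subgroup.mem_subgroupOf.mp h1
        simpa using h2
      · intro hh
        have hhM : h ∈ M := by
          have h1 : (x : G)⁻¹ * ((x : G) * h * (x : G)⁻¹) * (x : G) ∈ M :=
            M.mul_mem (M.mul_mem (M.inv_mem x.2) (hHM hh)) x.2
          simpa [mul_assoc] using h1
        have h2 : x * ⟨h, hhM⟩ * x⁻¹ ∈ H.subgroupOf M := by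
          rw [Subgroup.mem_subgroupOf]
          simpa using hh
        exact Subgroup.mem_subgroupOf.mp ((hx ⟨h, hhM⟩).mpr h2)
    have hxC := hyp.2 hxN
    rw [Subgroup.mem_centralizer_iff] at hxC ⊢
    intro y hy
    apply Subtype.ext
    have h1 := hxC (y : G) (Subgroup.mem_subgroupOf.mp hy)
    simpa using h1

theorem split_sub {G : Type u} [Group G] {H M : Subgroup G}
    (KM : Subgroup ↥M) (hKn : KM.Normal) (hc : KM.IsComplement' (H.subgroupOf M)) :
    ∃ K : Subgroup G, K ≤ M ∧ K ⊓ H = ⊥ ∧ (∀ m ∈ M, ∀ k ∈ K, m * k * m⁻¹ ∈ K) ∧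
      ∀ m ∈ M, ∃ k ∈ K, ∃ h ∈ H, m = k * h := by
  refine ⟨KM.map M.subtype, ?_, ?_, ?_, ?_⟩
  · rintro _ ⟨k, _, rfl⟩; exact k.2
  · rw [eq_bot_iff]
    rintro x ⟨⟨k, hk, rfl⟩, hxH⟩
    have h1 : k ∈ KM ⊓ H.subgroupOf M := ⟨hk, Subgroup.mem_subgroupOf.mpr hxH⟩
    rw [disjoint_iff.mp hc.disjoint, Subgroup.mem_bot] at h1
    rw [Subgroup.mem_bot, h1]; rfl
  · rintro m hm _ ⟨k, hk, rfl⟩
    exact ⟨⟨m, hm⟩ * k * ⟨m, hm⟩⁻¹, hKn.conj_mem k hk ⟨m, hm⟩, rfl⟩
  · intro m hm
    obtain ⟨⟨k, h⟩, hkh⟩ := hc.2 ⟨m, hm⟩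
    refine ⟨k, ⟨k, k.2, rfl⟩, h, Subgroup.mem_subgroupOf.mp h.2, ?_⟩
    have h1 := congrArg (fun z : ↥M => (z : G)) hkh
    simpa using h1.symm

/-- the inductive hypothesis -/
def IHyp (n : ℕ) : Prop :=
  ∀ m < n, ∀ (G' : Type u) [Group G'] [Finite G'], Nat.card G' = m →
    ∀ H' : Subgroup G', Hyp H' → ∃ N : Subgroup G', N.Normal ∧ N.IsComplement' H'

theorem card_lt_of_ne_top {G : Type u} [Group G] [Finite G] {n : ℕ} (hn : Nat.card G = n)
    (C : Subgroup G) (hC : C ≠ ⊤) : Nat.card C < n := by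
  rw [← hn]
  exact lt_of_le_of_ne (Subgroup.card_le_card_group C) (fun h => hC (Subgroup.eq_top_of_card_eq C h))

theorem centralizer_eq_top {n : ℕ} (IH : IHyp.{u} n) {G : Type u} [Group G] [Finite G]
    (hn : Nat.card G = n) (H : Subgroup G) (hyp : Hyp H) (A : Subgroup G) (hAH : A ≤ H)
    (hAn : A.Normal) : Subgroup.centralizer (A : Set G) = ⊤ := by
  by_contra hC
  obtain ⟨C, hCdef⟩ : ∃ C : Subgroup G, C = Subgroup.centralizer (A : Set G) := ⟨_, rfl⟩
  rw [← hCdef] at hC
  haveI hCn : C.Normal := by rw [hCdef]; infer_instance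
  have hHC : H ≤ C := by
    intro h hh
    rw [hCdef, Subgroup.mem_centralizer_iff]
    intro a ha
    exact hyp.comm a (hAH ha) h hh
  have hcentle : Subgroup.centralizer (H : Set G) ≤ C := by
    rw [hCdef]
    exact Subgroup.centralizer_le (by exact_mod_cast hAH)
  obtain ⟨KC, hKCn, hKCc⟩ := IH _ (card_lt_of_ne_top hn C hC) ↥C rfl (H.subgroupOf C)
    (hyp_sub hHC hyp)
  have hsubhyp := hyp_sub hHC hyp
  have hidx : KC.index = Nat.card H := by
    rw [hKCc.symm.index_eq_card, card_subgroupOf_of_le hHC]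
  have hcop : (Nat.card KC).Coprime KC.index := by
    have h1 := hKCc.card_mul_card
    have h2 := (H.subgroupOf C).index_mul_card
    have h3 : Nat.card KC = (H.subgroupOf C).index := by
      have h4 : Nat.card KC * Nat.card (H.subgroupOf C) =
          (H.subgroupOf C).index * Nat.card (H.subgroupOf C) := by rw [h1, h2]
      exact Nat.eq_of_mul_eq_mul_right Nat.card_pos h4
    rw [h3, hidx, ← card_subgroupOf_of_le hHC]
    exact hsubhyp.1.symm
  have hsolv : Group.IsSolvable (H.subgroupOf C) := by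
    apply isSolvable_of_comm
    intro a b
    apply Subtype.ext
    apply Subtype.ext
    exact hyp.comm _ (Subgroup.mem_subgroupOf.mp a.2) _ (Subgroup.mem_subgroupOf.mp b.2)
  apply hC
  rw [eq_top_iff]
  intro g _
  have hH'C : cj g H ≤ C := by
    intro x hx
    rw [mem_cj] at hx
    have h1 := hCn.conj_mem _ (hHC hx) g
    simpa [mul_assoc] using h1
  obtain ⟨c, hc⟩ := sz_conj_compl _ ↥C rfl KC hKCn hcop (H.subgroupOf C) ((cj g H).subgroupOf C)
    (by rw [hidx, card_subgroupOf_of_le hHC])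
    (by rw [hidx, card_subgroupOf_of_le hH'C, card_cj]) hsolv
  have h1 : cj (c : G) H = cj g H := cj_of_cj_subgroupOf C H (cj g H) hHC hH'C c hc
  have h2 : cj (g⁻¹ * (c : G)) H = H := by
    rw [← cj_cj, h1, cj_inv_cj]
  have h3 : g⁻¹ * (c : G) ∈ C := hcentle (hyp.2 (mem_normalizer_of_cj_eq h2))
  have h4 : g⁻¹ ∈ C := by
    have := C.mul_mem h3 (C.inv_mem c.2)
    simpa using this
  simpa using C.inv_mem h4

theorem normalizer_le_centralizer {n : ℕ} (IH : IHyp.{u} n) {G : Type u} [Group G] [Finite G]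
    (hn : Nat.card G = n) (H : Subgroup G) (hyp : Hyp H) (P : Subgroup G) (hPH : P ≤ H) :
    Subgroup.normalizer (P : Set G) ≤ Subgroup.centralizer (P : Set G) := by
  obtain ⟨M, hMdef⟩ : ∃ M : Subgroup G, M = Subgroup.normalizer (P : Set G) := ⟨_, rfl⟩
  rw [← hMdef]
  have hHcent : H ≤ Subgroup.centralizer (P : Set G) := by
    intro h hh
    rw [Subgroup.mem_centralizer_iff]
    intro a ha
    exact hyp.comm a (hPH ha) h hh
  have hHM : H ≤ M := by
    rw [hMdef]
    exact hHcent.trans (Subgroup.centralizer_le_normalizer _)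
  by_cases hM : M = ⊤
  · have hPn : P.Normal := Subgroup.normalizer_eq_top_iff.mp (hMdef ▸ hM)
    rw [centralizer_eq_top IH hn H hyp P hPH hPn]
    exact le_top
  · obtain ⟨KM, hKMn, hKMc⟩ := IH _ (card_lt_of_ne_top hn M hM) ↥M rfl (H.subgroupOf M)
      (hyp_sub hHM hyp)
    obtain ⟨K, hKM, hKH, hKconj, hKprod⟩ := split_sub KM hKMn hKMc
    have hPM : P ≤ M := hPH.trans hHM
    have hKcent : K ≤ Subgroup.centralizer (P : Set G) := by
      intro k hk
      rw [Subgroup.mem_centralizer_iff]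
      intro x hx
      have hkN : k ∈ Subgroup.normalizer (P : Set G) := hMdef ▸ hKM hk
      have h1 : k * x * k⁻¹ ∈ P := (Subgroup.mem_normalizer_iff.mp hkN x).mp hx
      have h2 : k * x * k⁻¹ * x⁻¹ ∈ H := hPH (P.mul_mem h1 (P.inv_mem hx))
      have h3 : x * k⁻¹ * x⁻¹ ∈ K := hKconj x (hPM hx) k⁻¹ (K.inv_mem hk)
      have h4 : k * x * k⁻¹ * x⁻¹ ∈ K := by
        have := K.mul_mem hk h3
        simpa [mul_assoc] using this
      have h5 : k * x * k⁻¹ * x⁻¹ ∈ K ⊓ H := Subgroup.mem_inf.mpr ⟨h4, h2⟩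
      rw [hKH, Subgroup.mem_bot] at h5
      have h6 : k * x = x * k := by
        have : k * x = (k * x * k⁻¹ * x⁻¹) * (x * k) := by group
        rw [this, h5, one_mul]
      exact h6.symm
    intro m hm
    obtain ⟨k, hk, h, hh, rfl⟩ := hKprod m hm
    exact Subgroup.mul_mem _ (hKcent hk) (hHcent hh)

theorem exists_normal_pcomplement {n : ℕ} (IH : IHyp.{u} n) {G : Type u} [Group G] [Finite G]
    (hn : Nat.card G = n) (H : Subgroup G) (hyp : Hyp H) (p : ℕ) (hp : p.Prime)
    (hpH : p ∣ Nat.card H) :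
    ∃ L : Subgroup G, L.Normal ∧ ¬ p ∣ Nat.card L ∧ ∀ q : ℕ, q.Prime → q ∣ L.index → q = p := by
  haveI : Fact p.Prime := ⟨hp⟩
  obtain ⟨Q⟩ : Nonempty (Sylow p ↥H) := inferInstance
  have hP'p : IsPGroup p ((Q : Subgroup ↥H).map H.subtype) := Q.2.map _
  have hP'idx : ¬ p ∣ ((Q : Subgroup ↥H).map H.subtype).index := by
    rw [Subgroup.index_map_subtype]
    intro hdvd
    rcases (Nat.Prime.dvd_mul hp).mp hdvd with h | h
    · exact Q.not_dvd_index h
    · have h1 : p ∣ Nat.gcd (Nat.card H) H.index := Nat.dvd_gcd hpH h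
      rw [hyp.1] at h1
      exact hp.one_lt.ne' (Nat.dvd_one.mp h1)
  obtain ⟨P, hP⟩ : ∃ P : Sylow p G, (P : Subgroup G) = (Q : Subgroup ↥H).map H.subtype :=
    ⟨hP'p.toSylow hP'idx, rfl⟩
  have hPH : (P : Subgroup G) ≤ H := by
    rw [hP]
    rintro _ ⟨x, _, rfl⟩
    exact x.2
  have hNC := normalizer_le_centralizer IH hn H hyp (P : Subgroup G) hPH
  refine ⟨(MonoidHom.transferSylow P hNC).ker, inferInstance,
    MonoidHom.not_dvd_card_ker_transferSylow P hNC, ?_⟩
  intro q hq hqd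
  have hc := MonoidHom.ker_transferSylow_isComplement' P hNC
  have h1 : (MonoidHom.transferSylow P hNC).ker.index = Nat.card (P : Subgroup G) :=
    hc.symm.index_eq_card
  obtain ⟨k, hk⟩ := P.2.exists_card_eq
  rw [h1, hk] at hqd
  exact (Nat.prime_dvd_prime_iff_eq hq hp).mp (hq.dvd_of_dvd_pow hqd)

theorem exists_inter {G : Type u} [Group G] [Finite G] (s : Finset ℕ)
    (hL : ∀ p ∈ s, ∃ L : Subgroup G, L.Normal ∧ ¬ p ∣ Nat.card L ∧
      ∀ q : ℕ, q.Prime → q ∣ L.index → q = p) :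
    ∃ N : Subgroup G, N.Normal ∧ (∀ p ∈ s, ¬ p ∣ Nat.card N) ∧
      ∀ q : ℕ, q.Prime → q ∣ N.index → q ∈ s := by
  classical
  induction s using Finset.induction_on with
  | empty =>
    refine ⟨⊤, inferInstance, by simp, ?_⟩
    intro q hq hqd
    rw [Subgroup.index_top] at hqd
    exact absurd (Nat.dvd_one.mp hqd) hq.one_lt.ne'
  | insert p s hps ih =>
    obtain ⟨N, hNn, hNcard, hNidx⟩ := ih (fun p' hp' => hL p' (Finset.mem_insert_of_mem hp'))
    obtain ⟨L, hLn, hLcard, hLidx⟩ := hL p (Finset.mem_insert_self p s)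
    haveI := hNn
    haveI := hLn
    refine ⟨N ⊓ L, inferInstance, ?_, ?_⟩
    · intro p' hp'
      rcases Finset.mem_insert.mp hp' with rfl | hp'
      · exact fun h => hLcard (h.trans (Subgroup.card_dvd_of_le inf_le_right))
      · exact fun h => hNcard p' hp' (h.trans (Subgroup.card_dvd_of_le inf_le_left))
    · intro q hq hqd
      have h1 : (N ⊓ L).index = L.relIndex N * N.index := by
        rw [← Subgroup.inf_relIndex_left, Subgroup.relIndex_mul_index inf_le_left]
      rw [h1] at hqd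
      rcases (Nat.Prime.dvd_mul hq).mp hqd with h | h
      · have h2 : L.relIndex N ∣ L.index := Subgroup.relIndex_dvd_index_of_normal L N
        rw [hLidx q hq (h.trans h2)]
        exact Finset.mem_insert_self _ _
      · exact Finset.mem_insert_of_mem (hNidx q hq h)

theorem coprime_of_no_prime {a b : ℕ} (h : ∀ p : ℕ, p.Prime → p ∣ a → ¬ p ∣ b) :
    Nat.Coprime a b := by
  rw [Nat.coprime_iff_gcd_eq_one, Nat.eq_one_iff_not_exists_prime_dvd]
  intro p hp hpd
  exact h p hp (hpd.trans (Nat.gcd_dvd_left a b)) (hpd.trans (Nat.gcd_dvd_right a b))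

theorem main (n : ℕ) : ∀ (G : Type u) [Group G] [Finite G], Nat.card G = n →
    ∀ H : Subgroup G, Hyp H → ∃ N : Subgroup G, N.Normal ∧ N.IsComplement' H := by
  induction n using Nat.strong_induction_on with
  | _ n ih =>
  intro G _ _ hn H hyp
  have IH : IHyp.{u} n := fun m hm G' _ _ hG' H' hH' => ih m hm G' hG' H' hH'
  obtain ⟨N, hNn, hNcard, hNidx⟩ := exists_inter (G := G) (Nat.card H).primeFactors
    (fun p hp => exists_normal_pcomplement IH hn H hyp p (Nat.prime_of_mem_primeFactors hp)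
      (Nat.dvd_of_mem_primeFactors hp))
  refine ⟨N, hNn, ?_⟩
  have hHpos : Nat.card H ≠ 0 := Nat.card_pos.ne'
  have hcop1 : Nat.Coprime (Nat.card N) (Nat.card H) := by
    apply coprime_of_no_prime
    intro p hp hpN hpH
    exact hNcard p (Nat.mem_primeFactors.mpr ⟨hp, hpH, hHpos⟩) hpN
  have hcop2 : Nat.Coprime N.index H.index := by
    apply coprime_of_no_prime
    intro p hp hpN hpH
    have h1 := Nat.dvd_of_mem_primeFactors (hNidx p hp hpN)
    have h2 : p ∣ Nat.gcd (Nat.card H) H.index := Nat.dvd_gcd h1 hpH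
    rw [hyp.1] at h2
    exact hp.one_lt.ne' (Nat.dvd_one.mp h2)
  have e1 : Nat.card N * N.index = Nat.card G := N.card_mul_index
  have e2 : Nat.card H * H.index = Nat.card G := H.card_mul_index
  have d1 : Nat.card N ∣ H.index := by
    apply Nat.Coprime.dvd_of_dvd_mul_left hcop1
    rw [e2, ← e1]
    exact Dvd.intro _ rfl
  have d2 : N.index ∣ Nat.card H := by
    apply Nat.Coprime.dvd_of_dvd_mul_right hcop2
    rw [e2, ← e1]
    exact Dvd.intro_left _ rfl
  have hpos1 : 0 < H.index := Nat.pos_of_ne_zero (Subgroup.index_ne_zero_of_finite)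
  have hpos2 : 0 < Nat.card H := Nat.card_pos
  have hpos3 : 0 < N.index := Nat.pos_of_ne_zero (Subgroup.index_ne_zero_of_finite)
  have l1 := Nat.le_of_dvd hpos1 d1
  have l2 := Nat.le_of_dvd hpos2 d2
  have hNeq : Nat.card N = H.index := by
    by_contra hne
    have hlt : Nat.card N < H.index := lt_of_le_of_ne l1 hne
    have : Nat.card N * N.index < H.index * Nat.card H :=
      calc Nat.card N * N.index < H.index * N.index := Nat.mul_lt_mul_of_pos_right hlt hpos3
        _ ≤ H.index * Nat.card H := Nat.mul_le_mul_left _ l2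
    rw [e1, mul_comm, e2] at this
    exact lt_irrefl _ this
  apply Subgroup.isComplement'_of_coprime _ hcop1
  rw [hNeq, mul_comm]
  exact e2

/-- A Hall subgroup that is central in its normalizer has a normal complement. -/
theorem result {G : Type*} [Group G] [Finite G] (H : Subgroup G) (hHall : Nat.Coprime (Nat.card H) H.index) (h : Subgroup.normalizer (H : Set G) ≤ Subgroup.centralizer (H : Set G)) : ∃ N : Subgroup G, N.Normal ∧ N.IsComplement' H := by
  exact main _ G rfl H ⟨hHall, h⟩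

end Cfsg.Agent.S0087
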