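import Mathlib
import Cfsg.Statements.S0079
import Cfsg.Agent.S0071
import Cfsg.Agent.S0087
import Cfsg.Agent.Lib_lead_Coprime3

set_option autoImplicit false
open Cfsg

namespace Cfsg.Agent.S0079

open Cfsg.Agent.helper7 Cfsg.Agent.lead
open scoped commutatorElement

universe u

/-- local normal complements for all primes dividing the order of a Hall subgroup combine -/
theorem complement_of_local {G : Type u} [Group G] [Finite G] (H : Subgroup G)
    (hHall : Nat.Coprime (Nat.card H) H.index)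
    (hL : ∀ p : ℕ, p.Prime → p ∣ Nat.card H → ∃ L : Subgroup G, L.Normal ∧ ¬ p ∣ Nat.card L ∧
      ∀ q : ℕ, q.Prime → q ∣ L.index → q = p) :
    ∃ N : Subgroup G, N.Normal ∧ N.IsComplement' H := by
  obtain ⟨N, hNn, hNcard, hNidx⟩ := Cfsg.Agent.S0087.exists_inter (G := G)
    (Nat.card H).primeFactors
    (fun p hp => hL p (Nat.prime_of_mem_primeFactors hp) (Nat.dvd_of_mem_primeFactors hp))
  refine ⟨N, hNn, ?_⟩
  have hHpos : Nat.card H ≠ 0 := Nat.card_pos.ne'
  have hcop1 : Nat.Coprime (Nat.card N) (Nat.card H) := by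
    apply Cfsg.Agent.S0087.coprime_of_no_prime
    intro p hp hpN hpH
    exact hNcard p (Nat.mem_primeFactors.mpr ⟨hp, hpH, hHpos⟩) hpN
  have hcop2 : Nat.Coprime N.index H.index := by
    apply Cfsg.Agent.S0087.coprime_of_no_prime
    intro p hp hpN hpH
    have h1 := Nat.dvd_of_mem_primeFactors (hNidx p hp hpN)
    have h2 : p ∣ Nat.gcd (Nat.card H) H.index := Nat.dvd_gcd h1 hpH
    rw [hHall] at h2
    exact hp.one_lt.ne' (Nat.dvd_one.mp h2)
  have e1 : Nat.card N * N.index = Nat.card G := N.card_mul_index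
  have e2 : Nat.card H * H.index = Nat.card G := H.card_mul_index
  have d1 : Nat.card N ∣ H.index := by
    apply Nat.Coprime.dvd_of_dvd_mul_left hcop1
    rw [e2, ← e1]
    exact Dvd.intro _ rfl
  have d2 : N.index ∣ Nat.card H := by
    apply Nat.Coprime.dvd_of_dvd_mul_right hcop2
    rw [e2, ← e1]
    exact Dvd.intro_left _ rfl
  have hpos1 : 0 < H.index := Nat.pos_of_ne_zero (Subgroup.index_ne_zero_of_finite)
  have hpos2 : 0 < Nat.card H := Nat.card_pos
  have hpos3 : 0 < N.index := Nat.pos_of_ne_zero (Subgroup.index_ne_zero_of_finite)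
  have l1 := Nat.le_of_dvd hpos1 d1
  have l2 := Nat.le_of_dvd hpos2 d2
  have hNeq : Nat.card N = H.index := by
    by_contra hne
    have hlt : Nat.card N < H.index := lt_of_le_of_ne l1 hne
    have : Nat.card N * N.index < H.index * Nat.card H :=
      calc Nat.card N * N.index < H.index * N.index := Nat.mul_lt_mul_of_pos_right hlt hpos3
        _ ≤ H.index * Nat.card H := Nat.mul_le_mul_left _ l2
    rw [e1, mul_comm, e2] at this
    exact lt_irrefl _ this
  apply Subgroup.isComplement'_of_coprime _ hcop1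
  rw [hNeq, mul_comm]
  exact e2

/-- a Sylow subgroup of the ambient group inside a Hall subgroup -/
theorem exists_sylow_le {G : Type u} [Group G] [Finite G] (H : Subgroup G)
    (hHall : Nat.Coprime (Nat.card H) H.index) (p : ℕ) [hp : Fact p.Prime]
    (hpH : p ∣ Nat.card H) : ∃ P : Sylow p G, (P : Subgroup G) ≤ H := by
  obtain ⟨Q⟩ : Nonempty (Sylow p ↥H) := inferInstance
  have hP'p : IsPGroup p ((Q : Subgroup ↥H).map H.subtype) := Q.2.map _
  have hP'idx : ¬ p ∣ ((Q : Subgroup ↥H).map H.subtype).index := by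
    rw [Subgroup.index_map_subtype]
    intro hdvd
    rcases (Nat.Prime.dvd_mul hp.out).mp hdvd with h | h
    · exact Q.not_dvd_index h
    · have h1 : p ∣ Nat.gcd (Nat.card H) H.index := Nat.dvd_gcd hpH h
      rw [hHall] at h1
      exact hp.out.one_lt.ne' (Nat.dvd_one.mp h1)
  refine ⟨hP'p.toSylow hP'idx, ?_⟩
  rintro _ ⟨x, _, rfl⟩
  exact x.2

theorem frobCond_of_control {G : Type u} [Group G] [Finite G] (H : Subgroup G)
    (hH : Group.IsNilpotent H)
    (hctl : ∀ x ∈ H, ∀ y ∈ H, (∃ g : G, g * x * g⁻¹ = y) → ∃ h ∈ H, h * x * h⁻¹ = y)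
    (p : ℕ) [hp : Fact p.Prime] (P : Sylow p G) (hPH : (P : Subgroup G) ≤ H) :
    FrobCond p G := by
  apply Cfsg.Agent.S0071.frobCond_of_sylow P
  intro Q hQP g hg hcop
  obtain ⟨A, hA⟩ : ∃ A : Subgroup G, A = Subgroup.zpowers g := ⟨_, rfl⟩
  have hAK : A ≤ Subgroup.normalizer (Q : Set G) := by
    rw [hA, Subgroup.zpowers_le]; exact hg
  have hQp : IsPGroup p Q := P.2.to_le hQP
  have hcop' : (Nat.card A).Coprime (Nat.card Q) := by
    obtain ⟨k, hk⟩ := hQp.exists_card_eq
    rw [hk, hA, Nat.card_zpowers]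
    exact Nat.Coprime.pow_right k hcop
  have hsolv : Group.IsSolvable A ∨ Group.IsSolvable Q := by
    left
    rw [hA]
    apply isSolvable_of_comm
    intro a b
    exact mul_comm' a b
  have h1 : ⁅⁅Q, A⁆, A⁆ = ⁅Q, A⁆ := coprime_commutator_commutator A Q hAK hcop' hsolv
  have hQ1Q : ⁅Q, A⁆ ≤ Q := commutator_le_of_normalizer hAK
  have hser : ∀ i : ℕ, ⁅Q, A⁆ ≤ H.lowerCentralSeries i := by
    intro i
    induction i with
    | zero => exact hQ1Q.trans (hQP.trans hPH)
    | succ i ih =>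
      rw [← h1, Subgroup.commutator_le]
      intro x hx a ha
      have hxQ : x ∈ Q := hQ1Q hx
      have haN := hAK ha
      have haxQ : a * x * a⁻¹ ∈ Q := (Subgroup.mem_normalizer_iff.mp haN x).mp hxQ
      obtain ⟨h, hh, hhx⟩ := hctl x (hPH (hQP hxQ)) (a * x * a⁻¹) (hPH (hQP haxQ)) ⟨a, rfl⟩
      have h2 : ⁅x, a⁆ = ⁅x, h⁆ := by
        rw [commutatorElement_def, commutatorElement_def]
        have e1 : x * a * x⁻¹ * a⁻¹ = x * (a * x * a⁻¹)⁻¹ := by group
        have e2 : x * h * x⁻¹ * h⁻¹ = x * (h * x * h⁻¹)⁻¹ := by group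
        rw [e1, e2, hhx]
      rw [h2, Subgroup.lowerCentralSeries_succ]
      exact Subgroup.commutator_mem_commutator (ih hx) hh
  obtain ⟨n, hn⟩ := (Subgroup.isNilpotent_iff_lowerCentralSeries H).mp hH
  have hbot : ⁅Q, A⁆ = ⊥ := by
    rw [eq_bot_iff, ← hn]
    exact hser n
  rw [Subgroup.commutator_eq_bot_iff_le_centralizer] at hbot
  rw [Subgroup.mem_centralizer_iff]
  intro x hx
  have h3 := hbot hx
  rw [Subgroup.mem_centralizer_iff] at h3
  exact (h3 g (hA ▸ Subgroup.mem_zpowers g)).symm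

/-- A nilpotent Hall subgroup has a normal complement exactly when elements of it that are conjugate in the whole group are already conjugate inside it. -/
theorem result {G : Type*} [Group G] [Finite G] (H : Subgroup G) (hH : Group.IsNilpotent H) (hHall : Nat.Coprime (Nat.card H) H.index) : (∃ N : Subgroup G, N.Normal ∧ N.IsComplement' H) ↔ ∀ x ∈ H, ∀ y ∈ H, (∃ g : G, g * x * g⁻¹ = y) → ∃ h ∈ H, h * x * h⁻¹ = y := by
  constructor
  · rintro ⟨N, hNn, hNc⟩ x hx y hy ⟨g, hg⟩
    obtain ⟨⟨n, h⟩, hnh⟩ := hNc.2 g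
    have hnh' : (n : G) * (h : G) = g := hnh
    have hnN : (n : G) ∈ N := n.2
    have hhH : (h : G) ∈ H := h.2
    refine ⟨(h : G), hhH, ?_⟩
    obtain ⟨x', hx'⟩ : ∃ x' : G, x' = (h : G) * x * (h : G)⁻¹ := ⟨_, rfl⟩
    have hx'H : x' ∈ H := hx' ▸ H.mul_mem (H.mul_mem hhH hx) (H.inv_mem hhH)
    have hy' : y = (n : G) * x' * (n : G)⁻¹ := by
      rw [← hg, ← hnh', hx']; group
    have h1 : y * x'⁻¹ ∈ N := by
      have h2 : x' * (n : G)⁻¹ * x'⁻¹ ∈ N := hNn.conj_mem _ (N.inv_mem hnN) x'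
      have h3 := N.mul_mem hnN h2
      have h4 : y * x'⁻¹ = (n : G) * (x' * (n : G)⁻¹ * x'⁻¹) := by rw [hy']; group
      rw [h4]; exact h3
    have h5 : y * x'⁻¹ ∈ N ⊓ H := Subgroup.mem_inf.mpr ⟨h1, H.mul_mem hy (H.inv_mem hx'H)⟩
    rw [disjoint_iff.mp hNc.disjoint, Subgroup.mem_bot] at h5
    rw [← hx']
    exact (mul_inv_eq_one.mp h5).symm
  · intro hctl
    apply complement_of_local H hHall
    intro p hp hpH
    haveI : Fact p.Prime := ⟨hp⟩
    obtain ⟨P, hPH⟩ := exists_sylow_le H hHall p hpH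
    have hF := frobCond_of_control H hH hctl p P hPH
    obtain ⟨hLn, hLc⟩ := Cfsg.Agent.S0071.complement_of_frobCond hF P
    refine ⟨Cfsg.pResidual p G, hLn, ?_, ?_⟩
    · have h1 : (P : Subgroup G).index = Nat.card (Cfsg.pResidual p G) := hLc.index_eq_card
      rw [← h1]
      exact P.not_dvd_index
    · intro q hq hqd
      have h1 : (Cfsg.pResidual p G).index = Nat.card (P : Subgroup G) := hLc.symm.index_eq_card
      obtain ⟨k, hk⟩ := P.2.exists_card_eq
      rw [h1, hk] at hqd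
      exact (Nat.prime_dvd_prime_iff_eq hq hp).mp (hq.dvd_of_dvd_pow hqd)

end Cfsg.Agent.S0079
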