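import Mathlib
import Cfsg.Statements.S0080

set_option autoImplicit false
open Pointwise
open Cfsg
open scoped commutatorElement
open scoped IsMulCommutative

namespace Cfsg.Agent.S0080

theorem result {G : Type*} [Group G] [Finite G] (H : Subgroup G) (h : Nat.Coprime H.index (⁅H, H⁆.relIndex H)) : Subgroup.focalSubgroup H = commutator G ⊓ H ∧ ∃ N : Subgroup G, N.Normal ∧ N ⊓ H = commutator G ⊓ H ∧ N ⊔ H = ⊤ := by
  -- cardinality of the quotient H / H*
  have hcardQ : Nat.card (H ⧸ H.focalSubgroupOf) ∣ ⁅H, H⁆.relIndex H := by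
    rw [← Subgroup.index_eq_card]
    exact Subgroup.relIndex_dvd_of_le_left H (Subgroup.commutator_le_focalSubgroup H)
  have hcop : Nat.Coprime (Nat.card (H ⧸ H.focalSubgroupOf)) H.index :=
    (Nat.Coprime.coprime_dvd_right hcardQ h).symm
  -- the transfer restricted to H is the index-th power map mod H*
  have hpow : ∀ x : H, H.transferFocal (x : G) = (x : H ⧸ H.focalSubgroupOf) ^ H.index :=
    fun x => Subgroup.transferFocal_eq_pow H x
  have hsurj : ∀ g : G, ∃ x : H, H.transferFocal (x : G) = H.transferFocal g := by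
    intro g
    obtain ⟨y, hy⟩ := (powCoprime hcop).surjective (H.transferFocal g)
    obtain ⟨x, rfl⟩ := QuotientGroup.mk'_surjective _ y
    exact ⟨x, (hpow x).trans hy⟩
  have hker : H.transferFocal.ker ⊓ H = H.focalSubgroup := by
    apply le_antisymm
    · rintro x ⟨hxk0, hxH0⟩
      have hxk : x ∈ H.transferFocal.ker := hxk0
      have hxH : x ∈ H := hxH0
      rw [MonoidHom.mem_ker] at hxk
      have h1 := hpow ⟨x, hxH⟩
      rw [Subgroup.coe_mk, hxk] at h1
      have h2 : (powCoprime hcop) ((⟨x, hxH⟩ : H) : H ⧸ H.focalSubgroupOf) = (powCoprime hcop) 1 := by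
        show ((⟨x, hxH⟩ : H) : H ⧸ H.focalSubgroupOf) ^ H.index = 1 ^ H.index
        rw [one_pow]; exact h1.symm
      have h3 := (powCoprime hcop).injective h2
      rw [QuotientGroup.eq_one_iff, Subgroup.focalSubgroupOf_def, Subgroup.mem_subgroupOf] at h3
      exact h3
    · refine le_inf ?_ (Subgroup.focalSubgroup_le H)
      intro x hx
      have hxH := Subgroup.focalSubgroup_le H hx
      rw [MonoidHom.mem_ker]
      have h1 := hpow ⟨x, hxH⟩
      rw [Subgroup.coe_mk] at h1
      rw [h1]
      have : ((⟨x, hxH⟩ : H) : H ⧸ H.focalSubgroupOf) = 1 := by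
        rw [QuotientGroup.eq_one_iff, Subgroup.focalSubgroupOf_def, Subgroup.mem_subgroupOf]
        exact hx
      rw [this, one_pow]
  have hfocal : Subgroup.focalSubgroup H = commutator G ⊓ H := by
    apply le_antisymm
    · exact le_inf (Subgroup.focalSubgroup_le_commutator H) (Subgroup.focalSubgroup_le H)
    · rw [← hker]
      exact inf_le_inf_right _ (Abelianization.commutator_subset_ker H.transferFocal)
  refine ⟨hfocal, H.transferFocal.ker, MonoidHom.normal_ker _, ?_, ?_⟩
  · rw [hker, hfocal]
  · rw [eq_top_iff]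
    intro g _
    obtain ⟨x, hx⟩ := hsurj g
    have h1 : g * (x : G)⁻¹ ∈ H.transferFocal.ker := by
      rw [MonoidHom.mem_ker, map_mul, map_inv, hx, mul_inv_cancel]
    have h2 := Subgroup.mul_mem_sup h1 x.2
    simpa using h2

end Cfsg.Agent.S0080
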