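import Mathlib
import Cfsg.Statements.S0082
import Cfsg.Agent.Lib_helper7_Coprime
import Cfsg.Agent.Lib_helper10_PResidual

set_option autoImplicit false
open Cfsg

namespace Cfsg.Agent.S0082

/-- In a finite cyclic `p`-group, if a generator is a product `s * c` then `s` or `c` has full order. -/
theorem cyclic_pgroup_split {P : Type*} [Group P] [Finite P] {p : ℕ} [Fact p.Prime]
    (hP : IsPGroup p P) (hc : IsCyclic P) (A B : Subgroup P)
    (h : ∀ u : P, ∃ s ∈ A, ∃ c ∈ B, u = s * c) : A = ⊤ ∨ B = ⊤ := by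
  have hp : p.Prime := Fact.out
  obtain ⟨x, hx⟩ := hc.exists_generator
  have hxo : orderOf x = Nat.card P := orderOf_eq_card_of_forall_mem_zpowers hx
  obtain ⟨n, hn⟩ := hP.exists_card_eq
  rcases Nat.eq_zero_or_pos n with h0 | h0
  · left
    rw [h0, pow_zero] at hn
    have := (Nat.card_eq_one_iff_unique.mp hn).1
    exact Subsingleton.elim _ _
  obtain ⟨s, hs, c, hc', hxsc⟩ := h x
  have hcomm : Commute s c := by
    have := (IsCyclic.commutative (α := P)).is_comm.comm s c
    exact this
  have key : ∀ y : P, orderOf y = p ^ n ∨ y ^ p ^ (n - 1) = 1 := by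
    intro y
    have hy : orderOf y ∣ p ^ n := hn ▸ orderOf_dvd_natCard y
    obtain ⟨j, hjn, hj⟩ := (Nat.dvd_prime_pow hp).mp hy
    rcases lt_or_eq_of_le hjn with h1 | h1
    · right
      apply orderOf_dvd_iff_pow_eq_one.mp
      rw [hj]
      exact pow_dvd_pow p (by omega)
    · left; rw [hj, h1]
  have full : ∀ (D : Subgroup P) (y : P), y ∈ D → orderOf y = p ^ n → D = ⊤ := by
    intro D y hy hyo
    apply Subgroup.eq_top_of_card_eq
    apply le_antisymm (Subgroup.card_le_card_group D)
    rw [hn, ← hyo, ← Nat.card_zpowers]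
    exact Subgroup.card_le_of_le (by rwa [Subgroup.zpowers_le])
  rcases key s with h1 | h1
  · left; exact full A s hs h1
  rcases key c with h2 | h2
  · right; exact full B c hc' h2
  exfalso
  have : x ^ p ^ (n - 1) = 1 := by
    rw [hxsc, hcomm.mul_pow, h1, h2, one_mul]
  have := orderOf_dvd_iff_pow_eq_one.mpr this
  rw [hxo, hn] at this
  have := (Nat.pow_dvd_pow_iff_le_right hp.one_lt).mp this
  omega

open Subgroup in
/-- With a cyclic Sylow p-subgroup, either there is a normal p-complement or the elements of order prime to p generate the whole group. -/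
theorem result {G : Type*} [Group G] [Finite G] {p : ℕ} [Fact p.Prime] (P : Sylow p G) (hP : IsCyclic P) : Cfsg.HasNormalPComplement p G ∨ Cfsg.pResidual p G = ⊤ := by
  have hp : p.Prime := Fact.out
  by_cases hNC : normalizer (P : Set G) ≤ centralizer (P : Set G)
  · left
    exact ⟨P, _, inferInstance, MonoidHom.ker_transferSylow_isComplement' P hNC⟩
  right
  have hcommP : ∀ a b : P, a * b = b * a := (IsCyclic.commutative (α := P)).is_comm.comm
  have hTC : (P : Subgroup G) ≤ centralizer (P : Set G) := by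
    intro x hx
    rw [mem_centralizer_iff]
    intro y hy
    have := hcommP ⟨y, hy⟩ ⟨x, hx⟩
    exact congrArg Subtype.val this
  have key : Nat.card P.normalizerMonoidHom.range =
      (centralizer (P : Set G)).relIndex (normalizer (P : Set G)) := by
    rw [← Subgroup.index_ker, normalizerMonoidHom_ker]
    rfl
  have hne1 : Nat.card P.normalizerMonoidHom.range ≠ 1 := by
    rw [key]
    intro h
    exact hNC (relIndex_eq_one.mp h)
  obtain ⟨q, hq, hqd⟩ := Nat.exists_prime_and_dvd hne1
  haveI := Fact.mk hq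
  obtain ⟨φ, hφ⟩ := exists_prime_orderOf_dvd_card' q hqd
  have hnp : ¬ (p ∣ (centralizer (P : Set G)).relIndex (normalizer (P : Set G))) := by
    intro h2
    have h2' := h2.trans ((relIndex_dvd_of_le_left _ hTC).trans
      (relIndex_dvd_index_of_le P.le_normalizer))
    exact P.not_dvd_index h2'
  have hqp : q ≠ p := by
    rintro rfl
    rw [key] at hqd; exact hnp hqd
  obtain ⟨φ, g, rfl⟩ := φ
  -- g : normalizer P
  have hφ' : orderOf (P.normalizerMonoidHom g) = q := by
    rw [← hφ]
    exact (Subgroup.orderOf_coe (H := P.normalizerMonoidHom.range)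
      ⟨P.normalizerMonoidHom g, ⟨g, rfl⟩⟩)
  have hgpos : orderOf (g : G) ≠ 0 := (orderOf_pos (g : G)).ne'
  obtain ⟨a, m, hqm, hgm⟩ := Nat.exists_eq_pow_mul_and_not_dvd hgpos q hq.ne_one
  set g' : G := (g : G) ^ m with hg'
  have hg'N : g' ∈ normalizer (P : Set G) := pow_mem g.2 m
  have hg'C : g' ∉ centralizer (P : Set G) := by
    intro hC
    have h1 : (g ^ m) ∈ P.normalizerMonoidHom.ker := by
      rw [normalizerMonoidHom_ker, mem_subgroupOf]
      exact hC
    rw [MonoidHom.mem_ker, map_pow] at h1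
    have := orderOf_dvd_iff_pow_eq_one.mpr h1
    rw [hφ'] at this
    exact hqm this
  have hg'pow : g' ^ q ^ a = 1 := by
    rw [hg', ← pow_mul, mul_comm, ← hgm]
    exact pow_orderOf_eq_one _
  set Q : Subgroup G := zpowers g' with hQ
  have hQq : IsPGroup q Q := by
    obtain ⟨j, hja, hj⟩ := (Nat.dvd_prime_pow hq).mp (orderOf_dvd_iff_pow_eq_one.mpr hg'pow)
    exact IsPGroup.of_card (n := j) (by rw [hQ, Nat.card_zpowers, hj])
  have hQN : Q ≤ normalizer ((P : Subgroup G) : Set G) := by
    rw [hQ, zpowers_le]; exact hg'N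
  have hcop : ¬ q ∣ Nat.card (P : Subgroup G) := by
    obtain ⟨n, hn⟩ := P.isPGroup'.exists_card_eq
    intro h
    have h' : q ∣ p ^ n := by rw [← hn]; exact h
    have := hq.dvd_of_dvd_pow h'
    exact hqp ((Nat.prime_dvd_prime_iff_eq hq hp).mp this)
  have hdec := fun (u : G) (hu : u ∈ (P : Subgroup G)) =>
    Cfsg.Agent.helper7.exists_decomp_comm_fixed hQq hQN hcop hu
  have hRP : ⁅(P : Subgroup G), Q⁆ ≤ (P : Subgroup G) :=
    Cfsg.Agent.helper7.commutator_le_of_normalizer hQN
  have hsplit := cyclic_pgroup_split P.isPGroup' hP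
    ((⁅(P : Subgroup G), Q⁆).subgroupOf (P : Subgroup G))
    (((P : Subgroup G) ⊓ centralizer (Q : Set G)).subgroupOf (P : Subgroup G)) (by
      intro u
      obtain ⟨s, hs, c, hc, huc⟩ := hdec u u.2
      refine ⟨⟨s, hRP hs⟩, ?_, ⟨c, (mem_inf.mp hc).1⟩, ?_, ?_⟩
      · rw [mem_subgroupOf]; exact hs
      · rw [mem_subgroupOf]; exact hc
      · exact Subtype.ext huc)
  have hPle : (P : Subgroup G) ≤ ⁅(P : Subgroup G), Q⁆ := by
    rcases hsplit with h | h
    · rw [subgroupOf_eq_top] at h; exact h
    · exfalso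
      rw [subgroupOf_eq_top] at h
      apply hg'C
      rw [mem_centralizer_iff]
      intro y hy
      have hy' := (mem_inf.mp (h hy)).2
      rw [mem_centralizer_iff] at hy'
      exact (hy' g' (mem_zpowers g')).symm
  have hPcomm : (P : Subgroup G) ≤ commutator G :=
    hPle.trans (Subgroup.commutator_mono le_top le_top)
  haveI hKn := Cfsg.Agent.helper10.pResidual_normal p G
  have hsup := Cfsg.Agent.helper10.pResidual_sup_sylow_eq_top p P
  -- G ⧸ K is cyclic
  have hsurj : Function.Surjective ((QuotientGroup.mk' (Cfsg.pResidual p G)).comp (P : Subgroup G).subtype) := by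
    intro x
    induction x using QuotientGroup.induction_on with
    | H y =>
      have hy : y ∈ Cfsg.pResidual p G ⊔ (P : Subgroup G) := hsup ▸ mem_top y
      rw [Subgroup.mem_sup_of_normal_left] at hy
      obtain ⟨k, hk, z, hz, rfl⟩ := hy
      refine ⟨⟨z, hz⟩, ?_⟩
      simp only [MonoidHom.coe_comp, Function.comp_apply, Subgroup.subtype_apply,
        QuotientGroup.mk'_apply]
      rw [QuotientGroup.eq]
      have : z⁻¹ * (k * z) = z⁻¹ * k * z := by group
      rw [this]
      have := hKn.conj_mem k hk z⁻¹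
      simpa using this
  haveI hcyc : IsCyclic (G ⧸ Cfsg.pResidual p G) := isCyclic_of_surjective _ hsurj
  letI : CommGroup (G ⧸ Cfsg.pResidual p G) := IsCyclic.commGroup
  have hcomK : commutator G ≤ Cfsg.pResidual p G := by
    have := Abelianization.commutator_subset_ker (QuotientGroup.mk' (Cfsg.pResidual p G))
    rwa [QuotientGroup.ker_mk'] at this
  have hPK : (P : Subgroup G) ≤ Cfsg.pResidual p G := hPcomm.trans hcomK
  rw [← hsup]
  exact (sup_eq_left.mpr hPK).symm

end Cfsg.Agent.S0082
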