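import Mathlib
import Cfsg.Statements.S0083
import Cfsg.Agent.Lib_lead_Fusion

set_option autoImplicit false
open Pointwise
open Cfsg

namespace Cfsg.Agent.S0083

open Cfsg.Agent.lead

theorem result {G : Type*} [Group G] [Finite G] {p : ℕ} [Fact p.Prime] (P : Sylow p G) (hP : IsMulCommutative P) : Cfsg.HasNormalPComplement p G ↔ ∃ Q : Subgroup G, Q ≤ Subgroup.centralizer (P : Set G) ∧ Q ⊓ (P : Subgroup G) = ⊥ ∧ Q ⊔ (P : Subgroup G) = Subgroup.normalizer (P : Set G) := by
  have comm := sylow_comm P hP
  constructor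
  · rintro ⟨P', K, hK, hKP'⟩
    -- K is a complement of P as well
    have hcardP : Nat.card (P' : Subgroup G) = Nat.card (P : Subgroup G) := by
      rw [Sylow.card_eq_multiplicity, Sylow.card_eq_multiplicity]
    have hcard : Nat.card K * Nat.card (P : Subgroup G) = Nat.card G := by
      rw [← hcardP]; exact hKP'.card_mul_card
    have hcopK : Nat.Coprime (Nat.card K) p := by
      have h1 : Nat.card K = (P' : Subgroup G).index := hKP'.index_eq_card.symm
      rw [Nat.coprime_comm, Nat.Prime.coprime_iff_not_dvd Fact.out, h1]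
      exact P'.not_dvd_index
    have hdisj : K ⊓ (P : Subgroup G) = ⊥ := by
      rw [eq_bot_iff]
      rintro x ⟨hxK, hxP⟩
      rw [Subgroup.mem_bot]
      have h1 : orderOf x ∣ Nat.card K := by
        have : orderOf (⟨x, hxK⟩ : K) ∣ Nat.card K := orderOf_dvd_natCard _
        rwa [Subgroup.orderOf_mk] at this
      obtain ⟨k, hk⟩ := P.2 ⟨x, hxP⟩
      have h2 : orderOf x ∣ p ^ k := by
        apply orderOf_dvd_of_pow_eq_one
        have := congrArg Subtype.val hk
        simpa using this
      exact orderOf_eq_one_iff.mp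
        (Nat.eq_one_of_dvd_coprimes (Nat.Coprime.pow_right k hcopK) h1 h2)
    have hKPc : K.IsComplement' (P : Subgroup G) :=
      Subgroup.isComplement'_of_card_mul_and_disjoint hcard (disjoint_iff.mpr hdisj)
    set N := Subgroup.normalizer ((P : Subgroup G) : Set G) with hN
    refine ⟨K ⊓ N, ?_, ?_, ?_⟩
    · intro q hq
      rw [Subgroup.mem_centralizer_iff]
      intro x hx
      -- ⁅q, x⁆ ∈ K ⊓ P = ⊥
      have hxP : x ∈ (P : Subgroup G) := hx
      have h1 : q * x * q⁻¹ ∈ (P : Subgroup G) :=
        (Subgroup.mem_normalizer_iff.mp hq.2 x).mp hxP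
      have h2 : q * x * q⁻¹ * x⁻¹ ∈ (P : Subgroup G) :=
        Subgroup.mul_mem _ h1 (Subgroup.inv_mem _ hxP)
      have h3 : q * x * q⁻¹ * x⁻¹ ∈ K := by
        have : q * x * q⁻¹ * x⁻¹ = q * (x * q⁻¹ * x⁻¹) := by group
        rw [this]
        exact K.mul_mem hq.1 (hK.conj_mem _ (K.inv_mem hq.1) x)
      have h4 : q * x * q⁻¹ * x⁻¹ ∈ K ⊓ (P : Subgroup G) := ⟨h3, h2⟩
      rw [hdisj, Subgroup.mem_bot] at h4
      -- x * q = q * x
      have : q * x = x * q := by
        calc q * x = (q * x * q⁻¹ * x⁻¹) * (x * q) := by group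
          _ = x * q := by rw [h4, one_mul]
      exact this.symm
    · rw [eq_bot_iff, ← hdisj]
      exact inf_le_inf_right _ inf_le_left
    · apply le_antisymm
      · exact sup_le inf_le_right Subgroup.le_normalizer
      · intro n hn
        have hn' : n ∈ K ⊔ (P : Subgroup G) := by rw [hKPc.sup_eq_top]; trivial
        obtain ⟨k, hk, x, hx, rfl⟩ := Subgroup.mem_sup_of_normal_left.1 hn'
        have hkN : k ∈ N := by
          have : k = (k * x) * x⁻¹ := by group
          rw [this]
          exact N.mul_mem hn (N.inv_mem (Subgroup.le_normalizer hx))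
        exact Subgroup.mul_mem_sup ⟨hk, hkN⟩ hx
  · rintro ⟨Q, hQC, hQP, hQN⟩
    have hNC : Subgroup.normalizer ((P : Subgroup G) : Set G)
        ≤ Subgroup.centralizer ((P : Subgroup G) : Set G) := by
      have : Subgroup.normalizer ((P : Subgroup G) : Set G) = Q ⊔ (P : Subgroup G) := hQN.symm
      rw [this]
      refine sup_le hQC ?_
      intro x hx
      rw [Subgroup.mem_centralizer_iff]
      intro y hy
      exact comm y hy x hx
    exact ⟨P, _, MonoidHom.normal_ker _, MonoidHom.ker_transferSylow_isComplement' P hNC⟩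

end Cfsg.Agent.S0083
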