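import Mathlib
import Cfsg.Statements.S0084

set_option autoImplicit false
open Cfsg

namespace Cfsg.Agent.S0084

open Subgroup in
/-- A group whose Sylow 2-subgroups are Klein four-groups and whose order is prime to 3 has a normal 2-complement. -/
theorem result {G : Type*} [Group G] [Finite G] (T : Sylow 2 G) (hT : IsKleinFour T) (h3 : ¬ 3 ∣ Nat.card G) : Cfsg.HasNormalPComplement 2 G := by
  haveI : Fact (Nat.Prime 2) := ⟨Nat.prime_two⟩
  have hcomm : ∀ a b : T, a * b = b * a := by
    intro a b
    exact mul_comm_of_exponent_two hT.exponent_two a b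
  have hTC : (T : Subgroup G) ≤ centralizer (T : Set G) := by
    intro x hx
    rw [mem_centralizer_iff]
    intro y hy
    have := hcomm ⟨y, hy⟩ ⟨x, hx⟩
    exact congrArg Subtype.val this
  have hNC : normalizer (T : Set G) ≤ centralizer (T : Set G) := by
    have key := card_dvd_of_injective _ (QuotientGroup.kerLift_injective T.normalizerMonoidHom)
    rw [normalizerMonoidHom_ker, ← index, ← relIndex] at key
    have hperm : Nat.card (MulAut T) ∣ 24 := by
      have h1 := card_dvd_of_injective (MulAut.toPerm (M := T)) (fun a b h => by
        apply MulEquiv.ext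
        intro x
        have := congrArg (fun f => f x) h
        exact this)
      rw [Nat.card_perm, hT.card_four] at h1
      exact h1
    have key2 : ((centralizer (T : Set G)).subgroupOf (normalizer (T : Set G))).index ∣ 24 := by
      have : ((centralizer (T : Set G)).relIndex (normalizer (T : Set G))) ∣ 24 := key.trans hperm
      exact this
    refine relIndex_eq_one.mp ?_
    have hodd : Nat.Coprime ((centralizer (T : Set G)).relIndex (normalizer (T : Set G))) 2 := by
      apply Nat.Coprime.coprime_dvd_left (relIndex_dvd_of_le_left _ hTC)
      apply Nat.Coprime.coprime_dvd_left (relIndex_dvd_index_of_le T.le_normalizer)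
      rw [Nat.coprime_comm, Nat.Prime.coprime_iff_not_dvd Nat.prime_two]
      exact T.not_dvd_index
    have hno3 : Nat.Coprime ((centralizer (T : Set G)).relIndex (normalizer (T : Set G))) 3 := by
      apply Nat.Coprime.coprime_dvd_left <| relIndex_dvd_card ..
      apply Nat.Coprime.coprime_dvd_left <| card_subgroup_dvd_card _
      rw [Nat.coprime_comm, Nat.Prime.coprime_iff_not_dvd Nat.prime_three]
      exact h3
    have h24 : Nat.Coprime ((centralizer (T : Set G)).relIndex (normalizer (T : Set G))) 24 := by
      have : (24 : ℕ) = 2 ^ 3 * 3 := by norm_num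
      rw [this]
      exact (Nat.Coprime.pow_right _ hodd).mul_right hno3
    exact Nat.eq_one_of_dvd_coprimes h24 dvd_rfl (key.trans hperm)
  exact ⟨T, _, inferInstance, MonoidHom.ker_transferSylow_isComplement' T hNC⟩

end Cfsg.Agent.S0084
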