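import Mathlib
import Cfsg.Statements.S0085

set_option autoImplicit false
open Cfsg

namespace Cfsg.Agent.S0085

/-- An automorphism of prime order `q` of a group `T` of order 8: `q ∈ {2,3,7}`. -/
theorem aut_prime_cases {T : Type*} [Group T] [Finite T] (h8 : Nat.card T = 8) (φ : MulAut T)
    (q : ℕ) (hq : q.Prime) (hφ : orderOf φ = q) : q = 2 ∨ q = 3 ∨ q = 7 := by
  haveI := Fact.mk hq
  have hpg : IsPGroup q (Subgroup.zpowers φ) :=
    IsPGroup.of_card (n := 1) (by rw [Nat.card_zpowers, hφ, pow_one])
  have h1 := hpg.card_modEq_card_fixedPoints T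
  let F : Subgroup T :=
    { carrier := {x | φ x = x}
      one_mem' := map_one φ
      mul_mem' := by
        intro a b ha hb
        simp only [Set.mem_setOf_eq] at ha hb ⊢
        rw [map_mul, ha, hb]
      inv_mem' := by
        intro a ha
        simp only [Set.mem_setOf_eq] at ha ⊢
        rw [map_inv, ha] }
  have hF : Nat.card (MulAction.fixedPoints (Subgroup.zpowers φ) T) = Nat.card F := by
    apply Nat.card_congr
    apply Equiv.subtypeEquivRight
    intro x
    rw [MulAction.mem_fixedPoints]
    constructor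
    · intro h
      exact h ⟨φ, Subgroup.mem_zpowers φ⟩
    · intro h ψ
      obtain ⟨ψ, n, rfl⟩ := ψ
      have hx : x ∈ MulAction.fixedBy T φ := h
      exact MulAction.fixedBy_subset_fixedBy_zpow T φ n hx
  rw [hF, h8] at h1
  have hdvd : Nat.card F ∣ 8 := h8 ▸ Subgroup.card_subgroup_dvd_card F
  have hmem : Nat.card F ∈ Nat.divisors 8 := by
    rw [Nat.mem_divisors]; exact ⟨hdvd, by norm_num⟩
  have hdiv : Nat.divisors 8 = {1, 2, 4, 8} := by decide
  rw [hdiv] at hmem
  simp only [Finset.mem_insert, Finset.mem_singleton] at hmem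
  have hq2 := hq.two_le
  rcases hmem with h | h | h | h
  · rw [h] at h1
    have : q ∣ 7 := (Nat.modEq_iff_dvd' (by norm_num)).mp h1.symm
    have := (Nat.prime_dvd_prime_iff_eq hq (by norm_num)).mp this
    right; right; exact this
  · rw [h] at h1
    have : q ∣ 6 := (Nat.modEq_iff_dvd' (by norm_num)).mp h1.symm
    have h6 : (6 : ℕ) = 2 * 3 := by norm_num
    rw [h6] at this
    rcases (Nat.Prime.dvd_mul hq).mp this with h' | h'
    · left; exact (Nat.prime_dvd_prime_iff_eq hq Nat.prime_two).mp h'
    · right; left; exact (Nat.prime_dvd_prime_iff_eq hq Nat.prime_three).mp h'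
  · rw [h] at h1
    have : q ∣ 4 := (Nat.modEq_iff_dvd' (by norm_num)).mp h1.symm
    have h4 : (4 : ℕ) = 2 * 2 := by norm_num
    rw [h4] at this
    rcases (Nat.Prime.dvd_mul hq).mp this with h' | h'
    · left; exact (Nat.prime_dvd_prime_iff_eq hq Nat.prime_two).mp h'
    · left; exact (Nat.prime_dvd_prime_iff_eq hq Nat.prime_two).mp h'
  · exfalso
    have hFtop : F = ⊤ := Subgroup.eq_top_of_card_eq F (by rw [h, h8])
    have hφ1 : φ = 1 := by
      apply MulEquiv.ext
      intro x
      have : x ∈ F := hFtop ▸ Subgroup.mem_top x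
      exact this
    rw [hφ1, orderOf_one] at hφ
    exact hq.one_lt.ne hφ

open Subgroup in
/-- A group whose Sylow 2-subgroups are elementary abelian of order 8 and whose order is prime to 3 and to 7 has a normal 2-complement. -/
theorem result {G : Type*} [Group G] [Finite G] (T : Sylow 2 G) (h8 : Nat.card T = 8) (he : ∀ x : T, x * x = 1) (h3 : ¬ 3 ∣ Nat.card G) (h7 : ¬ 7 ∣ Nat.card G) : Cfsg.HasNormalPComplement 2 G := by
  haveI : Fact (Nat.Prime 2) := ⟨Nat.prime_two⟩
  have hcomm : ∀ a b : T, a * b = b * a := by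
    intro a b
    have h1 := he (a * b)
    have ha := he a
    have hb := he b
    have ha' : a⁻¹ = a := inv_eq_of_mul_eq_one_left ha
    have hb' : b⁻¹ = b := inv_eq_of_mul_eq_one_left hb
    have : a * b = (a * b)⁻¹ := (inv_eq_of_mul_eq_one_left h1).symm
    rw [this, mul_inv_rev, ha', hb']
  have hTC : (T : Subgroup G) ≤ centralizer (T : Set G) := by
    intro x hx
    rw [mem_centralizer_iff]
    intro y hy
    have := hcomm ⟨y, hy⟩ ⟨x, hx⟩
    exact congrArg Subtype.val this
  have hNC : normalizer (T : Set G) ≤ centralizer (T : Set G) := by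
    have key : Nat.card T.normalizerMonoidHom.range = (centralizer (T : Set G)).relIndex (normalizer (T : Set G)) := by
      rw [← Subgroup.index_ker, normalizerMonoidHom_ker]
      rfl
    refine relIndex_eq_one.mp ?_
    rw [← key]
    rw [Nat.eq_one_iff_not_exists_prime_dvd]
    intro q hq hqd
    haveI := Fact.mk hq
    obtain ⟨φ, hφ⟩ := exists_prime_orderOf_dvd_card' q hqd
    have hφ' : orderOf (φ : MulAut T) = q := by
      rw [← hφ]; exact Subgroup.orderOf_coe φ
    have hqG : q ∣ Nat.card G := by
      rw [key] at hqd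
      exact hqd.trans ((relIndex_dvd_card _ _).trans (card_subgroup_dvd_card _))
    have hodd : ¬ (2 ∣ (centralizer (T : Set G)).relIndex (normalizer (T : Set G))) := by
      intro h2
      have h2' := h2.trans ((relIndex_dvd_of_le_left _ hTC).trans (relIndex_dvd_index_of_le T.le_normalizer))
      exact T.not_dvd_index h2'
    rcases aut_prime_cases h8 (φ : MulAut T) q hq hφ' with rfl | rfl | rfl
    · rw [key] at hqd; exact hodd hqd
    · exact h3 hqG
    · exact h7 hqG
  exact ⟨T, _, inferInstance, MonoidHom.ker_transferSylow_isComplement' T hNC⟩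

end Cfsg.Agent.S0085
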