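import Mathlib
import Cfsg.Statements.S0090
import Cfsg.Agent.S0105
import Cfsg.Agent.S0088

set_option autoImplicit false
open Pointwise
open Cfsg
open scoped commutatorElement
open scoped IsMulCommutative

namespace Cfsg.Agent.S0090


/-- `x ^ |H| = ν(x) * ∏ (x * (h • x)⁻¹)` in a commutative group. -/
theorem pow_card_eq {X : Type*} [CommGroup X] {H : Type*} [Group H] [Fintype H]
    (α : H →* MulAut X) (x : X) :
    x ^ Fintype.card H = Cfsg.Agent.S0105.normHom α x * ∏ h : H, (x * (α h x)⁻¹) := by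
  rw [Cfsg.Agent.S0105.normHom_apply, Finset.prod_mul_distrib, Finset.prod_inv_distrib, Finset.prod_const,
    Finset.card_univ]
  rw [mul_comm (x ^ Fintype.card H), ← mul_assoc, mul_inv_cancel, one_mul]

theorem mem_of_pow_mem {G : Type*} [Group G] [Finite G] (S : Subgroup G) (a : G) (m : ℕ)
    (hm : Nat.Coprime m (orderOf a)) (h : a ^ m ∈ S) : a ∈ S := by
  obtain ⟨s, hs⟩ := exists_pow_eq_self_of_coprime hm
  rw [← hs]
  exact S.pow_mem h s

theorem result {G : Type*} [Group G] [Finite G] (A : Subgroup G) [A.Normal] (hc : IsMulCommutative A) (hHall : Nat.Coprime (Nat.card A) A.index) : ⁅A, (⊤ : Subgroup G)⁆ = commutator G ⊓ A ∧ (commutator G ⊓ A) ⊓ (Subgroup.center G ⊓ A) = ⊥ ∧ (commutator G ⊓ A) ⊔ (Subgroup.center G ⊓ A) = A := by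
  classical
  have comm : ∀ a ∈ A, ∀ b ∈ A, a * b = b * a := by
    intro a ha b hb
    have := hc.is_comm.comm (⟨a, ha⟩ : A) ⟨b, hb⟩
    exact congrArg Subtype.val this
  obtain ⟨H, hH⟩ := Subgroup.exists_right_complement'_of_coprime hHall
  haveI : Fintype H := Fintype.ofFinite H
  have hcardH : Fintype.card H = A.index := by
    rw [← Nat.card_eq_fintype_card]; exact hH.symm.index_eq_card.symm
  set α : H →* MulAut A := (MulAut.conjNormal (H := A)).comp H.subtype with hα
  have hα_coe : ∀ (h : H) (x : A), ((α h x : A) : G) = (h : G) * (x : G) * (h : G)⁻¹ := by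
    intro h x
    rw [hα]
    rfl
  -- (2)
  have h2 : (commutator G ⊓ A) ⊓ (Subgroup.center G ⊓ A) = ⊥ := by
    have h0 := Cfsg.Agent.S0088.result A hc hHall
    rw [eq_bot_iff, ← h0]
    rintro x ⟨⟨h1, h2⟩, ⟨h3, _⟩⟩
    exact ⟨⟨h2, h1⟩, h3⟩
  -- ν lands in the centre
  have hνZ : ∀ x : A, ((Cfsg.Agent.S0105.normHom α x : A) : G) ∈ Subgroup.center G := by
    intro x
    rw [Subgroup.mem_center_iff]
    intro g
    have hg : g ∈ A ⊔ H := by rw [hH.sup_eq_top]; trivial
    obtain ⟨a, ha, h, hh, rfl⟩ := Subgroup.mem_sup_of_normal_left.1 hg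
    have e1 := Cfsg.Agent.S0105.normHom_fixed α ⟨h, hh⟩ x
    have e1' : h * ((Cfsg.Agent.S0105.normHom α x : A) : G) * h⁻¹ = ((Cfsg.Agent.S0105.normHom α x : A) : G) := by
      have := congrArg Subtype.val e1
      rw [hα_coe] at this
      exact this
    have e2 : a * ((Cfsg.Agent.S0105.normHom α x : A) : G) = ((Cfsg.Agent.S0105.normHom α x : A) : G) * a :=
      comm a ha _ (Cfsg.Agent.S0105.normHom α x).2
    generalize ((Cfsg.Agent.S0105.normHom α x : A) : G) = v at *
    calc a * h * v = a * (h * v * h⁻¹) * h := by group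
      _ = a * v * h := by rw [e1']
      _ = v * a * h := by rw [e2]
      _ = v * (a * h) := by group
  -- the product of commutators lies in ⁅A, ⊤⁆
  have hprod : ∀ x : A, ((∏ h : H, (x * (α h x)⁻¹) : A) : G) ∈ ⁅A, (⊤ : Subgroup G)⁆ := by
    intro x
    have : ∀ h : H, ((x * (α h x)⁻¹ : A) : G) ∈ ⁅A, (⊤ : Subgroup G)⁆ := by
      intro h
      have e : ((x * (α h x)⁻¹ : A) : G) = ⁅(x : G), (h : G)⁆ := by
        rw [Subgroup.coe_mul, Subgroup.coe_inv, hα_coe, commutatorElement_def]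
        group
      rw [e]
      exact Subgroup.commutator_mem_commutator x.2 (Subgroup.mem_top _)
    have h3 : (∏ h : H, (x * (α h x)⁻¹) : A) ∈ (⁅A, (⊤ : Subgroup G)⁆).subgroupOf A := by
      apply Subgroup.prod_mem
      intro h _
      rw [Subgroup.mem_subgroupOf]
      exact this h
    rwa [Subgroup.mem_subgroupOf] at h3
  have hcop_elt : ∀ a ∈ A, Nat.Coprime (Fintype.card H) (orderOf a) := by
    intro a ha
    rw [hcardH]
    have h1 : orderOf a ∣ Nat.card A := by
      have : orderOf (⟨a, ha⟩ : A) ∣ Nat.card A := orderOf_dvd_natCard _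
      rwa [Subgroup.orderOf_mk] at this
    exact (Nat.Coprime.coprime_dvd_left h1 hHall).symm
  have hAG_le : ⁅A, (⊤ : Subgroup G)⁆ ≤ commutator G ⊓ A := by
    refine le_inf ?_ ?_
    · rw [commutator_def]; exact Subgroup.commutator_mono le_top le_rfl
    · exact Subgroup.commutator_le_left A ⊤
  -- (1)
  have h1 : ⁅A, (⊤ : Subgroup G)⁆ = commutator G ⊓ A := by
    apply le_antisymm hAG_le
    rintro a ⟨haG', haA⟩
    -- ν a ∈ G' ⊓ Z ⊓ A = ⊥
    have hν1 : Cfsg.Agent.S0105.normHom α ⟨a, haA⟩ = 1 := by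
      have hmem : ((Cfsg.Agent.S0105.normHom α ⟨a, haA⟩ : A) : G) ∈ (commutator G ⊓ A) ⊓ (Subgroup.center G ⊓ A) := by
        refine ⟨⟨?_, (Cfsg.Agent.S0105.normHom α ⟨a, haA⟩).2⟩, ⟨hνZ _, (Cfsg.Agent.S0105.normHom α ⟨a, haA⟩).2⟩⟩
        rw [Cfsg.Agent.S0105.normHom_apply]
        have h3 : (∏ h : H, α h ⟨a, haA⟩ : A) ∈ (commutator G).subgroupOf A := by
          apply Subgroup.prod_mem
          intro h _
          rw [Subgroup.mem_subgroupOf, hα_coe]
          have hn : (commutator G).Normal := inferInstance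
          exact hn.conj_mem _ haG' _
        rwa [Subgroup.mem_subgroupOf] at h3
      rw [h2, Subgroup.mem_bot] at hmem
      exact Subtype.ext hmem
    have hpow := pow_card_eq α ⟨a, haA⟩
    rw [hν1, one_mul] at hpow
    have h3 : a ^ Fintype.card H ∈ ⁅A, (⊤ : Subgroup G)⁆ := by
      have := hprod ⟨a, haA⟩
      rw [← hpow] at this
      simpa using this
    exact mem_of_pow_mem _ a _ (hcop_elt a haA) h3
  refine ⟨h1, h2, ?_⟩
  apply le_antisymm
  · exact sup_le inf_le_right inf_le_right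
  · intro a haA
    have hpow := pow_card_eq α ⟨a, haA⟩
    have h3 : a ^ Fintype.card H ∈ (commutator G ⊓ A) ⊔ (Subgroup.center G ⊓ A) := by
      have e : a ^ Fintype.card H = ((Cfsg.Agent.S0105.normHom α ⟨a, haA⟩ : A) : G) *
          ((∏ h : H, ((⟨a, haA⟩ : A) * (α h ⟨a, haA⟩)⁻¹) : A) : G) := by
        have := congrArg Subtype.val hpow
        simpa using this
      rw [e, sup_comm]
      apply Subgroup.mul_mem_sup
      · exact ⟨hνZ _, (Cfsg.Agent.S0105.normHom α ⟨a, haA⟩).2⟩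
      · rw [← h1]; exact hprod _
    exact mem_of_pow_mem _ a _ (hcop_elt a haA) h3

end Cfsg.Agent.S0090
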