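import Mathlib
import Cfsg.Statements.S0091

set_option autoImplicit false
open Pointwise
open Cfsg
open scoped commutatorElement

namespace Cfsg.Agent.S0091

theorem result {G : Type*} [Group G] [Finite G] {p : ℕ} [Fact p.Prime] (P : Sylow p G) (hp : p ∣ Nat.card G) (h : ∀ x ∈ P, ∀ y ∈ P, (∃ g : G, g * x * g⁻¹ = y) → ∃ z ∈ P, z * x * z⁻¹ = y) : ¬ (P : Subgroup G) ≤ commutator G := by
  intro hle
  -- focal subgroup ≤ ⁅P, P⁆
  have hfoc : Subgroup.focalSubgroup (P : Subgroup G) ≤ ⁅(P : Subgroup G), (P : Subgroup G)⁆ := by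
    rw [Subgroup.focalSubgroup_def, Subgroup.closure_le]
    rintro g ⟨hgP, x, hx, u, rfl⟩
    have h1 : u * x * u⁻¹ ∈ (P : Subgroup G) := by
      have h2 : (x⁻¹ * ⁅x, u⁆)⁻¹ ∈ (P : Subgroup G) :=
        Subgroup.inv_mem _ (Subgroup.mul_mem _ (Subgroup.inv_mem _ hx) hgP)
      have h3 : (x⁻¹ * ⁅x, u⁆)⁻¹ = u * x * u⁻¹ := by
        rw [commutatorElement_def]; group
      rwa [h3] at h2
    obtain ⟨z, hz, hzx⟩ := h x hx (u * x * u⁻¹) h1 ⟨u, rfl⟩
    have h4 : ⁅x, u⁆ = ⁅x, z⁆ := by
      rw [commutatorElement_def, commutatorElement_def]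
      calc x * u * x⁻¹ * u⁻¹ = x * (u * x * u⁻¹)⁻¹ := by group
        _ = x * (z * x * z⁻¹)⁻¹ := by rw [hzx]
        _ = x * z * x⁻¹ * z⁻¹ := by group
    rw [SetLike.mem_coe, h4]
    exact Subgroup.commutator_mem_commutator hx hz
  have hF : commutator G ⊓ (P : Subgroup G) = Subgroup.focalSubgroup (P : Subgroup G) :=
    Subgroup.commutator_inf_eq_focalSubgroup P
  have hPP : (P : Subgroup G) ≤ ⁅(P : Subgroup G), (P : Subgroup G)⁆ := by
    calc (P : Subgroup G) = commutator G ⊓ (P : Subgroup G) := (inf_eq_right.mpr hle).symm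
      _ = Subgroup.focalSubgroup (P : Subgroup G) := hF
      _ ≤ _ := hfoc
  -- P is a nontrivial p-group, hence its derived subgroup is proper
  haveI hnil : Group.IsNilpotent (P : Subgroup G) := P.2.isNilpotent
  haveI hsolv : Group.IsSolvable (P : Subgroup G) := inferInstance
  haveI hnt : Nontrivial (P : Subgroup G) := by
    have hne : (P : Subgroup G) ≠ ⊥ := P.ne_bot_of_dvd_card hp
    exact (Subgroup.nontrivial_iff_ne_bot _).mpr hne
  have hlt := Group.IsSolvable.commutator_lt_top_of_nontrivial (P : Subgroup G)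
  have htop : commutator (P : Subgroup G) = ⊤ := by
    rw [eq_top_iff]
    intro x _
    have hx := hPP x.2
    -- ⁅P,P⁆ = map of commutator ↥P
    have hmap : ⁅(P : Subgroup G), (P : Subgroup G)⁆ = (commutator (P : Subgroup G)).map (P : Subgroup G).subtype := by
      rw [commutator_def, Subgroup.map_commutator, ← MonoidHom.range_eq_map, Subgroup.range_subtype]
    rw [hmap] at hx
    obtain ⟨y, hy, hyx⟩ := hx
    have : y = x := Subtype.ext hyx
    rwa [this] at hy
  rw [htop] at hlt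
  exact lt_irrefl _ hlt

end Cfsg.Agent.S0091
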