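import Cfsg.Statements.S0092
import Cfsg.Agent.S0075
import Cfsg.Agent.Lib_helper10_PResidual
import Cfsg.Agent.Lib_helper10_Hyperfocal
import Cfsg.Agent.Lib_lead_Coprime
import Cfsg.Agent.Lib_lead_Coprime5

set_option autoImplicit false
set_option linter.style.haveILetI false
set_option linter.deprecated false
open Cfsg

namespace Cfsg.Agent.S0092

open Cfsg.Agent.lead Cfsg.Agent.helper7
open scoped commutatorElement

universe u

/-- Schur–Zassenhaus existence, ambient form. -/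
theorem exists_compl_ambient {G : Type*} [Group G] [Finite G] (Q M : Subgroup G) (hQM : Q ≤ M)
    (hMQ : M ≤ Subgroup.normalizer (Q : Set G)) (hcop : (Nat.card Q).Coprime (Q.relIndex M)) :
    ∃ L : Subgroup G, L ≤ M ∧ Q ⊓ L = ⊥ ∧ Nat.card L = Q.relIndex M ∧
      ∀ m ∈ M, ∃ q ∈ Q, ∃ l ∈ L, m = q * l := by
  haveI : (Q.subgroupOf M).Normal := (Subgroup.normal_subgroupOf_iff_le_normalizer hQM).mpr hMQ
  have hc : (Nat.card (Q.subgroupOf M)).Coprime (Q.subgroupOf M).index := by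
    rw [card_subgroupOf_of_le hQM]; exact hcop
  obtain ⟨H, hH⟩ := Subgroup.exists_right_complement'_of_coprime hc
  refine ⟨H.map M.subtype, ?_, ?_, ?_, ?_⟩
  · rintro _ ⟨h, -, rfl⟩; exact h.2
  · rw [eq_bot_iff]
    rintro x ⟨hxQ, ⟨h, hh, rfl⟩⟩
    have h1 : h ∈ Q.subgroupOf M ⊓ H := ⟨Subgroup.mem_subgroupOf.mpr hxQ, hh⟩
    rw [hH.disjoint.eq_bot, Subgroup.mem_bot] at h1
    rw [Subgroup.mem_bot, h1]; rfl
  · rw [Subgroup.card_map_of_injective M.subtype_injective]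
    exact hH.symm.index_eq_card.symm
  · intro m hm
    obtain ⟨⟨q, h⟩, hqh⟩ := hH.2 ⟨m, hm⟩
    have hqh' : (q : M) * (h : M) = ⟨m, hm⟩ := hqh
    refine ⟨((q : M) : G), Subgroup.mem_subgroupOf.mp q.2, ((h : M) : G), ⟨h, h.2, rfl⟩, ?_⟩
    have := congrArg Subtype.val hqh'
    simpa using this.symm

/-- If the Sylow p-subgroups of O^p(G) are abelian then G splits over O^p(G). -/
theorem result {G : Type*} [Group G] [Finite G] {p : ℕ} [Fact p.Prime] (h : ∀ Q : Sylow p (Cfsg.pResidual p G), IsMulCommutative Q) : ∃ K : Subgroup G, K.IsComplement' (Cfsg.pResidual p G) := by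
  haveI hNn : (Cfsg.pResidual p G).Normal := Cfsg.Agent.helper10.pResidual_normal p G
  obtain ⟨N, hNdef⟩ : ∃ N : Subgroup G, N = Cfsg.pResidual p G := ⟨_, rfl⟩
  obtain ⟨Q₀⟩ : Nonempty (Sylow p (Cfsg.pResidual p G)) := inferInstance
  have hQ₀c := h Q₀
  obtain ⟨Q, hQdef⟩ : ∃ Q : Subgroup G, Q = (Q₀ : Subgroup (Cfsg.pResidual p G)).map
    (Cfsg.pResidual p G).subtype := ⟨_, rfl⟩
  have hQN : Q ≤ Cfsg.pResidual p G := by
    rw [hQdef]; rintro _ ⟨x, -, rfl⟩; exact x.2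
  have hQcomm : ∀ a ∈ Q, ∀ b ∈ Q, a * b = b * a := by
    rw [hQdef]
    rintro _ ⟨a, ha, rfl⟩ _ ⟨b, hb, rfl⟩
    have := hQ₀c.is_comm.comm (⟨a, ha⟩ : Q₀) ⟨b, hb⟩
    have h2 := congrArg Subtype.val this
    exact congrArg Subtype.val h2
  have hQp : IsPGroup p Q := by rw [hQdef]; exact Q₀.2.map _
  have hsub : Q.subgroupOf (Cfsg.pResidual p G) = (Q₀ : Subgroup (Cfsg.pResidual p G)) := by
    ext x
    rw [Subgroup.mem_subgroupOf, hQdef]
    constructor
    · rintro ⟨y, hy, hyx⟩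
      have : y = x := Subtype.ext hyx
      rw [← this]; exact hy
    · intro hx
      exact ⟨x, hx, rfl⟩
  -- (ii) Q = ⁅Q, M'⁆
  have hres : Cfsg.pResidual p (Cfsg.pResidual p G) = ⊤ :=
    Cfsg.Agent.helper10.pResidual_pResidual_eq_top p
  have h75 := Cfsg.Agent.S0075.result Q₀ hQ₀c
  rw [hres, inf_top_eq] at h75
  have h75' : (Q₀ : Subgroup (Cfsg.pResidual p G)) = ⁅(Q₀ : Subgroup (Cfsg.pResidual p G)),
      Subgroup.normalizer ((Q₀ : Subgroup (Cfsg.pResidual p G)) : Set (Cfsg.pResidual p G))⁆ := h75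
  obtain ⟨M', hM'def⟩ : ∃ M' : Subgroup G, M' = (Subgroup.normalizer
    ((Q₀ : Subgroup (Cfsg.pResidual p G)) : Set (Cfsg.pResidual p G))).map
    (Cfsg.pResidual p G).subtype := ⟨_, rfl⟩
  have hQM' : Q = ⁅Q, M'⁆ := by
    rw [hQdef, hM'def, ← Subgroup.map_commutator, ← h75']
  -- normalizer
  have hconjQ : ∀ n : Cfsg.pResidual p G, n ∈ Subgroup.normalizer
      ((Q₀ : Subgroup (Cfsg.pResidual p G)) : Set (Cfsg.pResidual p G)) →
      ∀ y ∈ Q, (n : G) * y * (n : G)⁻¹ ∈ Q := by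
    intro n hn y hy
    rw [hQdef] at hy ⊢
    obtain ⟨q, hq, rfl⟩ := hy
    exact ⟨n * q * n⁻¹, (Subgroup.mem_normalizer_iff.mp hn q).mp hq, by simp⟩
  have hM'H : M' ≤ Subgroup.normalizer (Q : Set G) := by
    rw [hM'def]
    rintro _ ⟨n, hn, rfl⟩
    rw [Subgroup.mem_normalizer_iff]
    intro y
    refine ⟨hconjQ n hn y, fun hy => ?_⟩
    have := hconjQ n⁻¹ (Subgroup.inv_mem _ hn) _ hy
    simpa [mul_assoc] using this
  have hM'N : M' ≤ Cfsg.pResidual p G := by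
    rw [hM'def]; rintro _ ⟨x, -, rfl⟩; exact x.2
  obtain ⟨H, hHdef⟩ : ∃ H : Subgroup G, H = Subgroup.normalizer (Q : Set G) := ⟨_, rfl⟩
  obtain ⟨M, hMdef⟩ : ∃ M : Subgroup G, M = Cfsg.pResidual p G ⊓ H := ⟨_, rfl⟩
  have hQH : Q ≤ H := by rw [hHdef]; exact Subgroup.le_normalizer
  have hQM : Q ≤ M := by rw [hMdef]; exact le_inf hQN hQH
  have hM'M : M' ≤ M := by rw [hMdef, hHdef]; exact le_inf hM'N hM'H
  have hMH : M ≤ H := by rw [hMdef]; exact inf_le_right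
  have hMN : M ≤ Cfsg.pResidual p G := by rw [hMdef]; exact inf_le_left
  have hMnQ : M ≤ Subgroup.normalizer (Q : Set G) := by rw [← hHdef]; exact hMH
  -- index coprime
  have hrel : ¬ p ∣ Q.relIndex M := by
    intro hd
    have h1 := Subgroup.relIndex_mul_relIndex Q M (Cfsg.pResidual p G) hQM hMN
    have h2 : Q.relIndex (Cfsg.pResidual p G) =
        (Q₀ : Subgroup (Cfsg.pResidual p G)).index := by
      rw [Subgroup.relIndex, hsub]
    have h3 : p ∣ (Q₀ : Subgroup (Cfsg.pResidual p G)).index := by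
      rw [← h2, ← h1]; exact Dvd.dvd.mul_right hd _
    exact Q₀.not_dvd_index h3
  obtain ⟨k, hk⟩ := IsPGroup.exists_card_eq hQp
  have hcop : (Nat.card Q).Coprime (Q.relIndex M) := by
    rw [hk]
    exact Nat.Coprime.pow_left k ((Nat.Prime.coprime_iff_not_dvd Fact.out).mpr hrel)
  obtain ⟨L, hLM, hQL, hLcard, hdecomp⟩ := exists_compl_ambient Q M hQM hMnQ hcop
  have hLQ : L ≤ Subgroup.normalizer (Q : Set G) := hLM.trans hMnQ
  have hcopLQ : (Nat.card L).Coprime (Nat.card Q) := by rw [hLcard]; exact hcop.symm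
  -- Q ≤ ⁅Q, L⁆
  have hQQL : Q ≤ ⁅Q, L⁆ := by
    have h1 : ⁅Q, M'⁆ ≤ ⁅Q, L⁆ := by
      rw [Subgroup.commutator_le]
      intro q hq m hm
      obtain ⟨q', hq', l, hl, rfl⟩ := hdecomp m (hM'M hm)
      have hc1 : ⁅q, l⁆ ∈ Q := by
        have : l * q⁻¹ * l⁻¹ ∈ Q :=
          (Subgroup.mem_normalizer_iff.mp (hLQ hl) q⁻¹).mp (Q.inv_mem hq)
        have e : ⁅q, l⁆ = q * (l * q⁻¹ * l⁻¹) := by rw [commutatorElement_def]; group
        rw [e]; exact Q.mul_mem hq this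
      have e : ⁅q, q' * l⁆ = ⁅q, l⁆ := by
        have e1 : ⁅q, q' * l⁆ = (q * q') * l * q⁻¹ * l⁻¹ * q'⁻¹ := by
          rw [commutatorElement_def]; group
        have e2 : q * q' = q' * q := hQcomm q hq q' hq'
        have e3 : q' * ⁅q, l⁆ = ⁅q, l⁆ * q' := hQcomm q' hq' _ hc1
        calc ⁅q, q' * l⁆ = (q * q') * l * q⁻¹ * l⁻¹ * q'⁻¹ := e1
          _ = (q' * q) * l * q⁻¹ * l⁻¹ * q'⁻¹ := by rw [e2]
          _ = (q' * ⁅q, l⁆) * q'⁻¹ := by rw [commutatorElement_def]; group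
          _ = (⁅q, l⁆ * q') * q'⁻¹ := by rw [e3]
          _ = ⁅q, l⁆ := by group
      rw [e]
      exact Subgroup.commutator_mem_commutator hq hl
    exact hQM'.le.trans h1
  have hCQL : Q ⊓ Subgroup.centralizer (L : Set G) = ⊥ := by
    have := coprime_abelian_inf L Q hQcomm hLQ hcopLQ
    rw [eq_bot_iff, ← this]
    exact le_inf le_rfl (inf_le_left.trans hQQL)
  obtain ⟨R, hRdef⟩ : ∃ R : Subgroup G, R = H ⊓ Subgroup.normalizer (L : Set G) := ⟨_, rfl⟩
  have hQR : Q ⊓ R = ⊥ := by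
    rw [eq_bot_iff]
    rintro x ⟨hxQ, hxR⟩
    rw [hRdef] at hxR
    have := mem_centralizer_of_normalizes L Q hLQ hQL x hxQ hxR.2
    rw [← hCQL]; exact ⟨hxQ, this⟩
  -- H = Q R
  have hsolvQ : Group.IsSolvable Q := solvable_of_comm_subgroup Q hQcomm
  have hHQR : ∀ x ∈ H, ∃ q ∈ Q, ∃ r ∈ R, x = q * r := by
    intro x hx
    have hxQ : cj x Q = Q := by rw [hHdef] at hx; exact cj_eq_of_mem_normalizer hx
    have hxM : cj x M = M := by
      rw [hMdef, cj_inf, hHdef, cj_normalizer, hxQ]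
      congr 1
      exact cj_eq_of_mem_normalizer (by rw [Subgroup.normalizer_eq_top]; exact Subgroup.mem_top x)
    have hle : cj x L ≤ Q ⊔ L := by
      intro y hy
      have hyM : y ∈ M := by rw [← hxM]; exact cj_mono hLM hy
      obtain ⟨q, hq, l, hl, rfl⟩ := hdecomp y hyM
      exact (Q ⊔ L).mul_mem (le_sup_left (a := Q) hq) (le_sup_right (b := L) hl)
    obtain ⟨d, hd, hdL⟩ := sz_conj_semidirect L Q hLQ hcopLQ (Or.inr hsolvQ) (cj x L) hle
      (card_cj x L)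
    rw [cj_cj] at hdL
    have hdxN : d * x ∈ Subgroup.normalizer (L : Set G) := mem_normalizer_of_cj_eq hdL
    have hdxH : d * x ∈ H := H.mul_mem (hQH hd) hx
    refine ⟨d⁻¹, Q.inv_mem hd, d * x, by rw [hRdef]; exact ⟨hdxH, hdxN⟩, by group⟩
  -- Sylow P of G
  obtain ⟨P, hQP⟩ := hQp.exists_le_sylow
  have hPN : (P : Subgroup G) ⊓ Cfsg.pResidual p G = Q := by
    apply le_antisymm
    · intro x hx
      have hpn : IsPGroup p ((P : Subgroup G) ⊓ Cfsg.pResidual p G : Subgroup G) :=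
        P.2.to_le inf_le_left
      have hY : IsPGroup p (((P : Subgroup G) ⊓ Cfsg.pResidual p G).subgroupOf
          (Cfsg.pResidual p G)) := hpn.comap_subtype
      have hle : (Q₀ : Subgroup (Cfsg.pResidual p G)) ≤
          ((P : Subgroup G) ⊓ Cfsg.pResidual p G).subgroupOf (Cfsg.pResidual p G) := by
        intro y hy
        rw [Subgroup.mem_subgroupOf]
        have hyQ : (y : G) ∈ Q := by rw [hQdef]; exact ⟨y, hy, rfl⟩
        exact ⟨hQP hyQ, y.2⟩
      have h1 := Q₀.3 hY hle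
      have h2 : (⟨x, hx.2⟩ : Cfsg.pResidual p G) ∈
          ((P : Subgroup G) ⊓ Cfsg.pResidual p G).subgroupOf (Cfsg.pResidual p G) := by
        rw [Subgroup.mem_subgroupOf]; exact hx
      rw [h1] at h2
      rw [hQdef]
      exact ⟨_, h2, rfl⟩
    · exact le_inf hQP hQN
  have hPH : (P : Subgroup G) ≤ H := by
    intro x hx
    rw [hHdef]
    apply mem_normalizer_of_cj_eq
    rw [← hPN, cj_inf, cj_eq_of_mem_normalizer (Subgroup.le_normalizer hx)]
    congr 1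
    exact cj_eq_of_mem_normalizer (by rw [Subgroup.normalizer_eq_top]; exact Subgroup.mem_top x)
  refine ⟨(P : Subgroup G) ⊓ R, ?_⟩
  have hdisj : ((P : Subgroup G) ⊓ R) ⊓ Cfsg.pResidual p G = ⊥ := by
    rw [eq_bot_iff]
    rintro x ⟨⟨hxP, hxR⟩, hxN⟩
    have hxQ : x ∈ Q := by rw [← hPN]; exact ⟨hxP, hxN⟩
    rw [← hQR]; exact ⟨hxQ, hxR⟩
  have hPle : (P : Subgroup G) ≤ ((P : Subgroup G) ⊓ R) ⊔ Cfsg.pResidual p G := by
    intro x hx
    obtain ⟨q, hq, r, hr, rfl⟩ := hHQR x (hPH hx)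
    have hrP : r ∈ (P : Subgroup G) := by
      have : r = q⁻¹ * (q * r) := by group
      rw [this]
      exact Subgroup.mul_mem _ (Subgroup.inv_mem _ (hQP hq)) hx
    exact Subgroup.mul_mem _ (le_sup_right (b := Cfsg.pResidual p G) (hQN hq))
      (le_sup_left (a := (P : Subgroup G) ⊓ R) ⟨hrP, hr⟩)
  have hsup : ((P : Subgroup G) ⊓ R) ⊔ Cfsg.pResidual p G = ⊤ := by
    rw [eq_top_iff, ← Cfsg.Agent.helper10.pResidual_sup_sylow_eq_top p P]
    exact sup_le le_sup_right hPle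
  apply Subgroup.isComplement'_of_disjoint_and_mul_eq_univ (disjoint_iff.mpr hdisj)
  rw [← Subgroup.mul_normal, hsup]
  rfl

end Cfsg.Agent.S0092
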