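import Mathlib
import Cfsg.Statements.S0094
import Cfsg.Agent.Lib_lead_Class2
import Cfsg.Agent.Lib_helper1_PGroup

set_option autoImplicit false
open Pointwise
open Cfsg
open scoped commutatorElement

namespace Cfsg.Agent.S0094

open Cfsg.Agent.lead

theorem result {P : Type*} [Group P] [Finite P] {p : ℕ} [Fact p.Prime] (h : Cfsg.IsSpecial p P) (z : P) (hz : z ∈ Subgroup.center P) : z ^ p = 1 := by
  obtain ⟨hpP, hfr, hcomm⟩ := h
  have h2 : ⁅commutator P, (⊤ : Subgroup P)⁆ = ⊥ := by
    rw [hcomm, Subgroup.commutator_eq_bot_iff_le_centralizer]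
    exact Subgroup.center_le_centralizer _
  have hpowZ : ∀ x : P, x ^ p ∈ Subgroup.center P := by
    intro x
    rw [← hfr]
    exact Cfsg.Agent.helper1.pow_mem_frattini_of_isPGroup hpP x
  rw [← hcomm, commutator_eq_closure] at hz
  have key : z ∈ Subgroup.center P ∧ z ^ p = 1 := by
    induction hz using Subgroup.closure_induction with
    | mem x hx =>
      obtain ⟨a, b, rfl⟩ := hx
      refine ⟨?_, ?_⟩
      · rw [← hcomm, commutator_def]
        exact Subgroup.commutator_mem_commutator (Subgroup.mem_top a) (Subgroup.mem_top b)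
      · rw [commutator_pow_of_class2 h2 b a p, commutatorElement_eq_one_iff_commute]
        exact (Subgroup.mem_center_iff.mp (hpowZ a) b).symm
    | one => exact ⟨Subgroup.one_mem _, one_pow p⟩
    | mul x y _ _ hx hy =>
      refine ⟨Subgroup.mul_mem _ hx.1 hy.1, ?_⟩
      have hc : Commute x y := (Subgroup.mem_center_iff.mp hx.1 y).symm
      rw [hc.mul_pow, hx.2, hy.2, one_mul]
    | inv x _ hx => exact ⟨Subgroup.inv_mem _ hx.1, by rw [inv_pow, hx.2, inv_one]⟩
  exact key.2

end Cfsg.Agent.S0094
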