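import Mathlib
import Cfsg.Statements.S0096
import Cfsg.Agent.Lib_lead_Class2

set_option autoImplicit false
open Pointwise
open Cfsg
open scoped commutatorElement

namespace Cfsg.Agent.S0096

open Cfsg.Agent.lead

theorem result {P : Type*} [Group P] [Finite P] {p : ℕ} [Fact p.Prime] (hp : p ≠ 2) (hP : IsPGroup p P) (h2 : ⁅commutator P, (⊤ : Subgroup P)⁆ = ⊥) (g : P) (hg : g ∈ Subgroup.closure {x : P | x ^ p = 1}) : g ^ p = 1 := by
  induction hg using Subgroup.closure_induction with
  | mem x hx => exact hx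
  | one => exact one_pow p
  | mul x y _ _ hx hy =>
    have hc : ⁅y, x⁆ ^ p = 1 := by
      rw [commutator_pow_of_class2 h2 x y p, hy, commutatorElement_one_left]
    rw [mul_pow_prime_of_class2 h2 Fact.out hp x y hc, hx, hy, one_mul]
  | inv x _ hx => rw [inv_pow, hx, inv_one]

end Cfsg.Agent.S0096
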