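import Mathlib
import Cfsg.Statements.S0097
import Cfsg.Agent.Lib_lead_Class2
import Cfsg.Agent.Lib_helper1_PGroup
import Cfsg.Agent.S0096

set_option autoImplicit false
open Pointwise
open Cfsg
open scoped commutatorElement

namespace Cfsg.Agent.S0097

open Cfsg.Agent.lead

theorem result {E : Type*} [Group E] [Finite E] {p : ℕ} [Fact p.Prime] (hp : p ≠ 2) (h : Cfsg.IsExtraspecial p E) : (Subgroup.closure {x : E | x ^ p = 1}).index ≤ p ∧ ∀ g ∈ Subgroup.closure {x : E | x ^ p = 1}, g ^ p = 1 := by
  obtain ⟨⟨hpE, hfr, hcomm⟩, hcard⟩ := h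
  have h2 : ⁅commutator E, (⊤ : Subgroup E)⁆ = ⊥ := by
    rw [hcomm, Subgroup.commutator_eq_bot_iff_le_centralizer]
    exact Subgroup.center_le_centralizer _
  refine ⟨?_, fun g hg => Cfsg.Agent.S0096.result hp hpE h2 g hg⟩
  have hpowZ : ∀ x : E, x ^ p ∈ Subgroup.center E := by
    intro x
    rw [← hfr]
    exact Cfsg.Agent.helper1.pow_mem_frattini_of_isPGroup hpE x
  have hmul : ∀ x y : E, (x * y) ^ p = x ^ p * y ^ p := by
    intro x y
    apply mul_pow_prime_of_class2 h2 Fact.out hp
    rw [commutator_pow_of_class2 h2 x y p]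
    have := Subgroup.mem_center_iff.mp (hpowZ y) x
    rw [commutatorElement_eq_one_iff_commute]
    exact this.symm
  let π : E →* Subgroup.center E :=
    { toFun := fun x => ⟨x ^ p, hpowZ x⟩
      map_one' := by apply Subtype.ext; simp
      map_mul' := fun x y => by apply Subtype.ext; simp [hmul] }
  have hker : π.ker ≤ Subgroup.closure {x : E | x ^ p = 1} := by
    intro x hx
    apply Subgroup.subset_closure
    rw [MonoidHom.mem_ker] at hx
    have := congrArg Subtype.val hx
    simpa [π] using this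
  have h3 : (Subgroup.closure {x : E | x ^ p = 1}).index ∣ π.ker.index :=
    Subgroup.index_dvd_of_le hker
  rw [Subgroup.index_ker] at h3
  have h4 : Nat.card π.range ∣ Nat.card (Subgroup.center E) := Subgroup.card_subgroup_dvd_card _
  rw [hcard] at h4
  exact Nat.le_of_dvd (Fact.out : p.Prime).pos (h3.trans h4)

end Cfsg.Agent.S0097
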