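import Mathlib
import Cfsg.Statements.S0098
import Cfsg.Agent.Lib_helper17_ES13
import Cfsg.Agent.S0095

set_option autoImplicit false
open Cfsg

namespace Cfsg.Agent.S0098

open Cfsg.Agent.helper17.ES

theorem exists_center_ne_one {E : Type*} [Group E] {p : ℕ} [hp : Fact p.Prime]
    (h : Nat.card (Subgroup.center E) = p) : ∃ z ∈ Subgroup.center E, z ≠ 1 := by
  have h1 : 1 < Nat.card (Subgroup.center E) := by rw [h]; exact hp.out.one_lt
  haveI : Finite (Subgroup.center E) := Nat.finite_of_card_ne_zero (by omega)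
  rw [Finite.one_lt_card_iff_nontrivial] at h1
  obtain ⟨z, hz⟩ := exists_ne (1 : Subgroup.center E)
  exact ⟨z, z.2, fun h => hz (Subtype.ext h)⟩

/-- For odd p, extraspecial p-groups of exponent p are determined up to isomorphism by their order. -/
theorem result {E₁ : Type*} {E₂ : Type*} [Group E₁] [Group E₂] [Finite E₁] [Finite E₂] {p : ℕ} [Fact p.Prime] (hp : p ≠ 2) (h₁ : Cfsg.IsExtraspecial p E₁) (h₂ : Cfsg.IsExtraspecial p E₂) (he₁ : Monoid.exponent E₁ = p) (he₂ : Monoid.exponent E₂ = p) (hc : Nat.card E₁ = Nat.card E₂) : Nonempty (E₁ ≃* E₂) := by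
  obtain ⟨n, _, hn⟩ := Cfsg.Agent.S0095.result h₁
  have c1 := CT.of_extraspecial h₁
  have c2 := CT.of_extraspecial h₂
  have hn2 : Nat.card E₂ = p ^ (2 * n + 1) := by rw [← hc, hn]
  obtain ⟨z, hz, hz1⟩ := exists_center_ne_one c1.1
  obtain ⟨z', hz', hz1'⟩ := exists_center_ne_one c2.1
  have hexp1 : ∀ g : E₁, g ^ p = 1 := fun g => by rw [← he₁]; exact Monoid.pow_exponent_eq_one g
  have hexp2 : ∀ g : E₂, g ^ p = 1 := fun g => by rw [← he₂]; exact Monoid.pow_exponent_eq_one g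
  obtain ⟨φ, _⟩ := classify_exp p n E₁ E₂ c1 c2 hexp1 hexp2 hn hn2 z hz hz1 z' hz' hz1'
  exact ⟨φ⟩

end Cfsg.Agent.S0098
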