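import Mathlib
import Cfsg.Statements.S0099
import Cfsg.Agent.Lib_helper17_ES5
import Cfsg.Agent.S0095

set_option autoImplicit false
open Cfsg

namespace Cfsg.Agent.S0099

open Cfsg.Agent.helper17.ES

/-- Among three extraspecial 2-groups of equal order, some two are isomorphic. -/
theorem result {E₁ : Type*} {E₂ : Type*} {E₃ : Type*} [Group E₁] [Group E₂] [Group E₃] [Finite E₁] [Finite E₂] [Finite E₃] (h₁ : Cfsg.IsExtraspecial 2 E₁) (h₂ : Cfsg.IsExtraspecial 2 E₂) (h₃ : Cfsg.IsExtraspecial 2 E₃) (h12 : Nat.card E₁ = Nat.card E₂) (h23 : Nat.card E₂ = Nat.card E₃) : Nonempty (E₁ ≃* E₂) ∨ Nonempty (E₂ ≃* E₃) ∨ Nonempty (E₁ ≃* E₃) := by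
  haveI : Fact (Nat.Prime 2) := ⟨Nat.prime_two⟩
  obtain ⟨m, _, hm⟩ := Cfsg.Agent.S0095.result h₁
  have c1 := CT.of_extraspecial h₁
  have c2 := CT.of_extraspecial h₂
  have c3 := CT.of_extraspecial h₃
  have hm2 : Nat.card E₂ = 2 ^ (2 * m + 1) := by rw [← h12, hm]
  have hm3 : Nat.card E₃ = 2 ^ (2 * m + 1) := by rw [← h23, hm2]
  rcases type_cases m E₁ c1 hm with ⟨_, p1⟩ | ⟨_, _, q1⟩ <;>
  rcases type_cases m E₂ c2 hm2 with ⟨_, p2⟩ | ⟨_, _, q2⟩ <;>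
  rcases type_cases m E₃ c3 hm3 with ⟨_, p3⟩ | ⟨_, _, q3⟩
  · exact Or.inl (classify m E₁ E₂ c1 c2 hm hm2 (by rw [p1, p2]))
  · exact Or.inl (classify m E₁ E₂ c1 c2 hm hm2 (by rw [p1, p2]))
  · exact Or.inr (Or.inr (classify m E₁ E₃ c1 c3 hm hm3 (by rw [p1, p3])))
  · exact Or.inr (Or.inl (classify m E₂ E₃ c2 c3 hm2 hm3 (by omega)))
  · exact Or.inr (Or.inl (classify m E₂ E₃ c2 c3 hm2 hm3 (by rw [p2, p3])))
  · exact Or.inr (Or.inr (classify m E₁ E₃ c1 c3 hm hm3 (by omega)))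
  · exact Or.inl (classify m E₁ E₂ c1 c2 hm hm2 (by omega))
  · exact Or.inl (classify m E₁ E₂ c1 c2 hm hm2 (by omega))

end Cfsg.Agent.S0099
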