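import Mathlib
import Cfsg.Statements.S0101
import Cfsg.Agent.Lib_helper1_PGroup

set_option autoImplicit false
open Pointwise
open Cfsg
open scoped commutatorElement

namespace Cfsg.Agent.S0101

/-- A central element of a finite group lying in the derived subgroup and in a Sylow subgroup `P`
lies in the derived subgroup of `P`. -/
theorem central_mem_commutator_sylow {H : Type*} [Group H] [Finite H] {p : ℕ} [Fact p.Prime]
    (P : Sylow p H) (z : H) (hzZ : z ∈ Subgroup.center H) (hzP : z ∈ (P : Subgroup H))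
    (hzH' : z ∈ commutator H) : (⟨z, hzP⟩ : (P : Subgroup H)) ∈ commutator (P : Subgroup H) := by
  have key : ∀ (k : ℕ) (g₀ : H), g₀⁻¹ * z ^ k * g₀ ∈ (P : Subgroup H) →
      g₀⁻¹ * z ^ k * g₀ = z ^ k := by
    intro k g₀ _
    have h1 : z ^ k ∈ Subgroup.center H := Subgroup.pow_mem _ hzZ k
    rw [Subgroup.mem_center_iff] at h1
    rw [mul_assoc, ← h1 g₀]
    group
  let ϕ : (P : Subgroup H) →* Abelianization (P : Subgroup H) := Abelianization.of
  have h1 := MonoidHom.transfer_eq_pow ϕ z key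
  have h2 : MonoidHom.transfer ϕ z = 1 :=
    Abelianization.commutator_subset_ker (MonoidHom.transfer ϕ) hzH'
  have h3 : ϕ ⟨z, hzP⟩ ^ (P : Subgroup H).index = 1 := by
    rw [← map_pow, ← h2, h1]
    congr 1
  have hQ : IsPGroup p (Abelianization (P : Subgroup H)) := P.2.to_quotient _
  obtain ⟨k, hk⟩ := hQ (ϕ ⟨z, hzP⟩)
  have hd1 : orderOf (ϕ ⟨z, hzP⟩) ∣ (P : Subgroup H).index := orderOf_dvd_of_pow_eq_one h3
  have hd2 : orderOf (ϕ ⟨z, hzP⟩) ∣ p ^ k := orderOf_dvd_of_pow_eq_one hk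
  have hcop : Nat.Coprime (P : Subgroup H).index (p ^ k) := by
    apply Nat.Coprime.pow_right
    rw [Nat.coprime_comm, Nat.Prime.coprime_iff_not_dvd Fact.out]
    exact P.not_dvd_index
  have h4 : ϕ ⟨z, hzP⟩ = 1 := orderOf_eq_one_iff.mp (Nat.eq_one_of_dvd_coprimes hcop hd1 hd2)
  exact (QuotientGroup.eq_one_iff _).mp h4

theorem result {H : Type*} {G : Type*} [Group H] [Group G] [Finite H] (σ : H →* G) (hσ : Function.Surjective σ) (hc : σ.ker ≤ Subgroup.center H) (hH : commutator H = ⊤) {p : ℕ} [Fact p.Prime] (P : Sylow p H) : σ.ker ⊓ (P : Subgroup H) ≤ (frattini P).map (P : Subgroup H).subtype := by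
  rintro z ⟨hzk, hzP⟩
  have h1 := central_mem_commutator_sylow P z (hc hzk) hzP (by rw [hH]; trivial)
  have h2 : (⟨z, hzP⟩ : (P : Subgroup H)) ∈ frattini (P : Subgroup H) :=
    Cfsg.Agent.helper1.commutator_le_frattini_of_isPGroup P.2 h1
  exact ⟨⟨z, hzP⟩, h2, rfl⟩

end Cfsg.Agent.S0101
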