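import Mathlib
import Cfsg.Statements.S0102
import Cfsg.Agent.S0101

set_option autoImplicit false
open Pointwise
open Cfsg
open scoped commutatorElement

namespace Cfsg.Agent.S0102

theorem result {G : Type*} {H : Type*} [Group G] [Group H] [Finite G] [Finite H] (hG : commutator G = ⊤) {p : ℕ} [Fact p.Prime] (hcyc : ∀ P : Sylow p G, IsCyclic P) (σ : H →* G) (hσ : Function.Surjective σ) (hz : σ.ker ≤ Subgroup.center H) (hH : commutator H = ⊤) : ¬ p ∣ Nat.card σ.ker := by
  intro hdvd
  obtain ⟨z, hzo⟩ := exists_prime_orderOf_dvd_card' p hdvd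
  have hzk : (z : H) ∈ σ.ker := z.2
  have hzo' : orderOf (z : H) = p := by rw [Subgroup.orderOf_coe]; exact hzo
  have hpz : IsPGroup p (Subgroup.zpowers (z : H)) := by
    apply IsPGroup.of_card (n := 1)
    rw [Nat.card_zpowers, hzo', pow_one]
  obtain ⟨P, hP⟩ := hpz.exists_le_sylow
  have hzP : (z : H) ∈ (P : Subgroup H) := hP (Subgroup.mem_zpowers _)
  have h1 := Cfsg.Agent.S0101.central_mem_commutator_sylow P (z : H) (hz hzk) hzP
    (by rw [hH]; trivial)
  -- P is commutative
  haveI hc : IsCyclic ((P : Subgroup H).map σ) := hcyc (P.mapSurjective hσ)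
  have hker : (σ.subgroupMap (P : Subgroup H)).ker ≤ Subgroup.center (P : Subgroup H) := by
    intro x hx
    rw [MonoidHom.mem_ker] at hx
    have hx1 : σ (x : H) = 1 := by
      have := congrArg Subtype.val hx
      simpa using this
    have hxZ : (x : H) ∈ Subgroup.center H := hz hx1
    rw [Subgroup.mem_center_iff] at hxZ ⊢
    intro g
    exact Subtype.ext (hxZ g)
  have hcomm : ∀ a b : (P : Subgroup H), a * b = b * a :=
    commutative_of_cyclic_center_quotient (σ.subgroupMap (P : Subgroup H)) hker
  have hbot : commutator (P : Subgroup H) = ⊥ := by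
    rw [commutator_eq_closure, Subgroup.closure_eq_bot_iff]
    rintro x ⟨a, b, rfl⟩
    rw [Set.mem_singleton_iff, commutatorElement_eq_one_iff_commute]
    exact hcomm a b
  rw [hbot, Subgroup.mem_bot] at h1
  have hz1 : (z : H) = 1 := congrArg Subtype.val h1
  rw [hz1, orderOf_one] at hzo'
  exact (Fact.out : p.Prime).one_lt.ne' hzo'.symm

end Cfsg.Agent.S0102
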