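import Cfsg.Statements.S0103
import Mathlib

set_option autoImplicit false
open Pointwise
open Cfsg

namespace Cfsg.Agent.S0103

/-- If a Sylow p-subgroup P intersects every distinct conjugate trivially, then its normalizer controls fusion in P. -/
theorem result {G : Type*} [Group G] [Finite G] {p : ℕ} [Fact p.Prime] (P : Sylow p G) (hTI : ∀ g : G, (P : Subgroup G).map (MulAut.conj g).toMonoidHom ≠ (P : Subgroup G) → (P : Subgroup G) ⊓ (P : Subgroup G).map (MulAut.conj g).toMonoidHom = ⊥) (x y : G) (hx : x ∈ P) (hy : y ∈ P) (hc : ∃ g : G, g * x * g⁻¹ = y) : ∃ n ∈ Subgroup.normalizer (P : Set G), n * x * n⁻¹ = y := by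
  obtain ⟨g, hg⟩ := hc
  by_cases hx1 : x = 1
  · refine ⟨1, Subgroup.one_mem _, ?_⟩
    rw [← hg, hx1]; group
  · have hy1 : y ≠ 1 := by
      intro h
      apply hx1
      rw [h] at hg
      calc x = g⁻¹ * (g * x * g⁻¹) * g := by group
        _ = 1 := by rw [hg]; group
    have hmap : (P : Subgroup G).map (MulAut.conj g).toMonoidHom = (P : Subgroup G) := by
      by_contra hne
      have := hTI g hne
      have hy2 : y ∈ (P : Subgroup G) ⊓ (P : Subgroup G).map (MulAut.conj g).toMonoidHom := by
        refine Subgroup.mem_inf.mpr ⟨hy, ?_⟩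
        rw [Subgroup.mem_map]
        exact ⟨x, hx, by simpa using hg⟩
      rw [this, Subgroup.mem_bot] at hy2
      exact hy1 hy2
    refine ⟨g, ?_, hg⟩
    change g ∈ Subgroup.normalizer ((P : Subgroup G) : Set G)
    rw [Subgroup.mem_normalizer_iff]
    intro h
    constructor
    · intro hh
      have : g * h * g⁻¹ ∈ (P : Subgroup G).map (MulAut.conj g).toMonoidHom := by
        rw [Subgroup.mem_map]
        exact ⟨h, hh, by simp⟩
      rw [hmap] at this
      exact this
    · intro hh
      have hh' : g * h * g⁻¹ ∈ (P : Subgroup G) := hh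
      rw [← hmap, Subgroup.mem_map] at hh'
      obtain ⟨h', hh'1, hh'2⟩ := hh'
      have : h' = h := by
        have h3 : g * h' * g⁻¹ = g * h * g⁻¹ := by simpa using hh'2
        calc h' = g⁻¹ * (g * h' * g⁻¹) * g := by group
          _ = g⁻¹ * (g * h * g⁻¹) * g := by rw [h3]
          _ = h := by group
      rw [← this]; exact hh'1

end Cfsg.Agent.S0103
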