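import Mathlib
import Cfsg.Statements.S0104

set_option autoImplicit false
open Pointwise
open Cfsg

namespace Cfsg.Agent.S0104

variable {G : Type*} [Group G]

theorem mem_map_conj (Z : Subgroup G) (g x : G) :
    x ∈ Z.map (MulAut.conj g).toMonoidHom ↔ g⁻¹ * x * g ∈ Z := by
  constructor
  · rintro ⟨z, hz, rfl⟩
    have : g⁻¹ * ((MulAut.conj g).toMonoidHom z) * g = z := by
      simp [MulAut.conj_apply, mul_assoc]
    rw [this]; exact hz
  · intro h
    refine ⟨g⁻¹ * x * g, h, ?_⟩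
    simp [MulAut.conj_apply, mul_assoc]

theorem mem_smul_sylow {p : ℕ} (g x : G) (P : Sylow p G) :
    x ∈ ((g • P : Sylow p G) : Subgroup G) ↔ g⁻¹ * x * g ∈ (P : Subgroup G) := by
  rw [Sylow.coe_subgroup_smul, Subgroup.mem_pointwise_smul_iff_inv_smul_mem]
  simp [MulAut.smul_def, mul_assoc]

/-- Two Sylow subgroups of `G` inside a subgroup `K` are conjugate by an element of `K`. -/
theorem exists_conj_in [Finite G] {p : ℕ} [Fact p.Prime] (P R : Sylow p G) (K : Subgroup G)
    (hP : (P : Subgroup G) ≤ K) (hR : (R : Subgroup G) ≤ K) :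
    ∃ n ∈ K, n • P = R := by
  obtain ⟨n, hn⟩ := MulAction.exists_smul_eq K (P.subtype hP) (R.subtype hR)
  refine ⟨(n : G), n.2, ?_⟩
  rw [Sylow.smul_subtype hP n] at hn
  exact Sylow.subtype_injective hn

/-- Statement S0104. -/
theorem result {G : Type*} [Group G] [Finite G] {p : ℕ} [Fact p.Prime] (P : Sylow p G) (Z : Subgroup G) (hZP : Z ≤ (P : Subgroup G)) (hZN : Subgroup.normalizer (P : Set G) ≤ Subgroup.normalizer (Z : Set G)) : Cfsg.IsWeaklyClosed Z P ↔ ∀ R : Sylow p G, Z ≤ (R : Subgroup G) → (R : Subgroup G) ≤ Subgroup.normalizer (Z : Set G) := by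
  constructor
  · rintro ⟨_, hw⟩ R hZR
    obtain ⟨h, rfl⟩ := MulAction.exists_smul_eq G P R
    have h1 : Z.map (MulAut.conj h⁻¹).toMonoidHom ≤ (P : Subgroup G) := by
      intro x hx
      rw [mem_map_conj, inv_inv] at hx
      have := hZR hx
      rw [mem_smul_sylow] at this
      simpa [mul_assoc] using this
    have h2 := hw h⁻¹ h1
    have key : ∀ x : G, h * x * h⁻¹ ∈ Z ↔ x ∈ Z := by
      intro x
      have := mem_map_conj Z h⁻¹ x
      rw [h2, inv_inv] at this
      exact this.symm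
    intro r hr
    rw [mem_smul_sylow] at hr
    have hq : h⁻¹ * r * h ∈ Subgroup.normalizer (Z : Set G) :=
      hZN (Subgroup.le_normalizer hr)
    rw [Subgroup.mem_normalizer_iff] at hq ⊢
    intro z
    have e1 := key (h⁻¹ * z * h)
    have e2 := hq (h⁻¹ * z * h)
    have e3 := key ((h⁻¹ * r * h) * (h⁻¹ * z * h) * (h⁻¹ * r * h)⁻¹)
    have a1 : h * (h⁻¹ * z * h) * h⁻¹ = z := by group
    have a2 : h * ((h⁻¹ * r * h) * (h⁻¹ * z * h) * (h⁻¹ * r * h)⁻¹) * h⁻¹ = r * z * r⁻¹ := by group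
    rw [a1] at e1
    rw [a2] at e3
    rw [e1, e2, ← e3]
  · intro hall
    refine ⟨hZP, fun g hg => ?_⟩
    -- Z ≤ g⁻¹ • P
    have hZR : Z ≤ ((g⁻¹ • P : Sylow p G) : Subgroup G) := by
      intro z hz
      rw [mem_smul_sylow, inv_inv]
      apply hg
      rw [mem_map_conj]
      simpa [mul_assoc] using hz
    have hR := hall _ hZR
    have hP := hall P hZP
    obtain ⟨n, hnK, hn⟩ := exists_conj_in (g⁻¹ • P) P _ hR hP
    rw [← mul_smul] at hn
    have hn' : n * g⁻¹ ∈ Subgroup.normalizer (Z : Set G) :=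
      hZN (Sylow.smul_eq_iff_mem_normalizer.mp hn)
    have hginv : g⁻¹ ∈ Subgroup.normalizer (Z : Set G) := by
      have := Subgroup.mul_mem _ (Subgroup.inv_mem _ hnK) hn'
      simpa [mul_assoc] using this
    have hgN : g ∈ Subgroup.normalizer (Z : Set G) := by
      simpa using Subgroup.inv_mem _ hginv
    ext x
    rw [mem_map_conj]
    rw [Subgroup.mem_normalizer_iff''] at hgN
    exact (hgN x).symm

end Cfsg.Agent.S0104
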