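import Mathlib
import Cfsg.Statements.S0107
import Cfsg.Agent.S0111

set_option autoImplicit false
open Pointwise
open Cfsg

namespace Cfsg.Agent.S0107

open DihedralGroup

theorem zmod_two_torsion_unique {m : ℕ} [NeZero m] (i j : ZMod m) (hi : 2 * i = 0)
    (hj : 2 * j = 0) (hi0 : i ≠ 0) (hj0 : j ≠ 0) : i = j := by
  have key : ∀ k : ZMod m, 2 * k = 0 → k ≠ 0 → 2 * k.val = m := by
    intro k hk hk0
    have h1 : ((2 * k.val : ℕ) : ZMod m) = 0 := by
      rw [Nat.cast_mul, ZMod.natCast_zmod_val]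
      exact_mod_cast hk
    rw [ZMod.natCast_eq_zero_iff] at h1
    have h2 : k.val < m := ZMod.val_lt k
    have h3 : k.val ≠ 0 := by
      intro h; exact hk0 ((ZMod.val_eq_zero k).mp h)
    obtain ⟨c, hc⟩ := h1
    rcases c with _ | _ | c
    · rw [Nat.mul_zero] at hc; omega
    · rw [Nat.zero_add, Nat.mul_one] at hc; omega
    · have : m * 2 ≤ m * (c + 1 + 1) := Nat.mul_le_mul_left m (by omega)
      omega
  have e1 := key i hi hi0
  have e2 := key j hj hj0
  apply ZMod.val_injective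
  omega

theorem orderOf_conj' {G : Type*} [Group G] (g u : G) : orderOf (g * u * g⁻¹) = orderOf u := by
  have := (MulAut.conj g).orderOf_eq u
  rwa [MulAut.conj_apply] at this

theorem mem_smul_sylow {G : Type*} [Group G] {p : ℕ} (g x : G) (P : Sylow p G) :
    x ∈ ((g • P : Sylow p G) : Subgroup G) ↔ g⁻¹ * x * g ∈ (P : Subgroup G) := by
  rw [Sylow.coe_subgroup_smul, Subgroup.mem_pointwise_smul_iff_inv_smul_mem]
  simp [MulAut.smul_def, mul_assoc]

theorem result {G : Type*} [Group G] [Finite G] (T : Sylow 2 G) (n : ℕ) (hn : 2 ≤ n) (hT : Nonempty ((T : Subgroup G) ≃* DihedralGroup (2 ^ n))) (hO : Cfsg.pResidual 2 G = ⊤) (x y : G) (hx : orderOf x = 2) (hy : orderOf y = 2) : ∃ g : G, g * x * g⁻¹ = y := by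
  classical
  obtain ⟨e⟩ := hT
  haveI : NeZero (2 ^ n) := ⟨by positivity⟩
  let Q : Subgroup G :=
    { carrier := {x | ∃ hx : x ∈ (T : Subgroup G), ∃ i, e ⟨x, hx⟩ = r i}
      one_mem' := ⟨Subgroup.one_mem _, 0, by
        rw [show (⟨1, Subgroup.one_mem _⟩ : (T : Subgroup G)) = 1 from rfl, map_one]; rfl⟩
      mul_mem' := by
        rintro a b ⟨ha, i, hi⟩ ⟨hb, j, hj⟩
        refine ⟨Subgroup.mul_mem _ ha hb, i + j, ?_⟩
        rw [show (⟨a * b, Subgroup.mul_mem _ ha hb⟩ : (T : Subgroup G)) = ⟨a, ha⟩ * ⟨b, hb⟩ from rfl,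
          map_mul, hi, hj, r_mul_r]
      inv_mem' := by
        rintro a ⟨ha, i, hi⟩
        refine ⟨Subgroup.inv_mem _ ha, -i, ?_⟩
        rw [show (⟨a⁻¹, Subgroup.inv_mem _ ha⟩ : (T : Subgroup G)) = ⟨a, ha⟩⁻¹ from rfl,
          map_inv, hi, inv_r] }
  have hQmem : ∀ a : G, a ∈ Q ↔ ∃ ha : a ∈ (T : Subgroup G), ∃ i, e ⟨a, ha⟩ = r i :=
    fun a => Iff.rfl
  have hQT : Q ≤ (T : Subgroup G) := by
    intro a ha
    obtain ⟨h, _⟩ := (hQmem a).mp ha
    exact h
  have hQi : Q.relIndex (T : Subgroup G) = 2 := by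
    show (Q.subgroupOf (T : Subgroup G)).index = 2
    rw [Subgroup.index_eq_two_iff]
    refine ⟨e.symm (sr 0), fun b => ?_⟩
    have hb_eta : (⟨(b : G), b.2⟩ : (T : Subgroup G)) = b := rfl
    rcases hb : e b with i | i
    · right
      refine ⟨?_, ?_⟩
      · rw [Subgroup.mem_subgroupOf, hQmem]
        exact ⟨b.2, i, by rw [hb_eta, hb]⟩
      · rw [Subgroup.mem_subgroupOf, hQmem]
        rintro ⟨h1, j, hj⟩
        have : e (b * e.symm (sr 0)) = r j := by
          rw [← hj]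
        rw [map_mul, hb, MulEquiv.apply_symm_apply, r_mul_sr] at this
        exact absurd this (by simp)
    · left
      refine ⟨?_, ?_⟩
      · rw [Subgroup.mem_subgroupOf, hQmem]
        refine ⟨(b * e.symm (sr 0)).2, 0 - i, ?_⟩
        rw [show (⟨((b * e.symm (sr 0) : (T : Subgroup G)) : G), (b * e.symm (sr 0)).2⟩ :
          (T : Subgroup G)) = b * e.symm (sr 0) from rfl, map_mul, hb, MulEquiv.apply_symm_apply,
          sr_mul_sr]
      · rw [Subgroup.mem_subgroupOf, hQmem]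
        rintro ⟨h1, j, hj⟩
        rw [hb_eta, hb] at hj
        exact absurd hj (by simp)
  have huniq : ∀ a b : G, a ∈ Q → b ∈ Q → orderOf a = 2 → orderOf b = 2 → a = b := by
    have aux : ∀ a : G, ∀ ha : a ∈ (T : Subgroup G), ∀ i, e ⟨a, ha⟩ = r i → orderOf a = 2 →
        2 * i = 0 ∧ i ≠ 0 := by
      intro a ha i hi hoa
      constructor
      · have h1 : (⟨a, ha⟩ : (T : Subgroup G)) ^ 2 = 1 := by
          apply Subtype.ext
          simp [← hoa, pow_orderOf_eq_one]
        have h2 := congrArg e h1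
        rw [map_pow, hi, map_one, r_pow, one_def] at h2
        have h3 := r.inj h2
        rw [mul_comm] at h3
        exact_mod_cast h3
      · rintro rfl
        rw [r_zero] at hi
        have h1 : (⟨a, ha⟩ : (T : Subgroup G)) = 1 := e.injective (by rw [hi, map_one])
        have h2 : a = 1 := congrArg Subtype.val h1
        rw [h2, orderOf_one] at hoa
        omega
    intro a b ha hb hoa hob
    obtain ⟨ha', i, hi⟩ := (hQmem a).mp ha
    obtain ⟨hb', j, hj⟩ := (hQmem b).mp hb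
    obtain ⟨hi2, hi0⟩ := aux a ha' i hi hoa
    obtain ⟨hj2, hj0⟩ := aux b hb' j hj hob
    have hij := zmod_two_torsion_unique i j hi2 hj2 hi0 hj0
    have h1 : (⟨a, ha'⟩ : (T : Subgroup G)) = ⟨b, hb'⟩ := e.injective (by rw [hi, hj, hij])
    exact congrArg Subtype.val h1
  have hno2 : ∀ M : Subgroup G, M.Normal → M.index = 2 → False := by
    intro M _ hMi
    have hle : Cfsg.pResidual 2 G ≤ M := by
      rw [Cfsg.pResidual, Subgroup.closure_le]
      intro g hg
      have hodd : Odd (orderOf g) := Nat.coprime_two_right.mp hg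
      obtain ⟨k, hk⟩ := hodd
      have h1 : (g ^ 2) ^ (k + 1) = g := by
        rw [← pow_mul]
        have : 2 * (k + 1) = orderOf g + 1 := by omega
        rw [this, pow_succ, pow_orderOf_eq_one, one_mul]
      rw [SetLike.mem_coe, ← h1]
      exact M.pow_mem (Subgroup.sq_mem_of_index_two hMi g) _
    rw [hO, top_le_iff] at hle
    rw [hle, Subgroup.index_top] at hMi
    omega
  -- every involution is conjugate to an involution of Q
  have hA : ∀ u : G, orderOf u = 2 → ∃ g : G, g * u * g⁻¹ ∈ Q := by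
    intro u hu
    have hpu : IsPGroup 2 (Subgroup.zpowers u) := by
      apply IsPGroup.of_card (n := 1)
      rw [Nat.card_zpowers, hu, pow_one]
    obtain ⟨R, hR⟩ := hpu.exists_le_sylow
    obtain ⟨g, hg⟩ := MulAction.exists_smul_eq G R T
    have hv : g * u * g⁻¹ ∈ (T : Subgroup G) := by
      rw [← hg, mem_smul_sylow]
      have : g⁻¹ * (g * u * g⁻¹) * g = u := by group
      rw [this]
      exact hR (Subgroup.mem_zpowers u)
    have hov : orderOf (g * u * g⁻¹) = 2 := by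
      rw [← hu]
      exact orderOf_conj' g u
    by_cases hvQ : g * u * g⁻¹ ∈ Q
    · exact ⟨g, hvQ⟩
    · rcases Cfsg.Agent.S0111.result T Q hQT hQi (g * u * g⁻¹) hov hv hvQ with ⟨M, hM, hMi, _⟩ | ⟨g', hg'⟩
      · exact (hno2 M hM hMi).elim
      · refine ⟨g' * g, ?_⟩
        have : g' * g * u * (g' * g)⁻¹ = g' * (g * u * g⁻¹) * g'⁻¹ := by group
        rw [this]; exact hg'
  obtain ⟨g1, h1⟩ := hA x hx
  obtain ⟨g2, h2⟩ := hA y hy
  have ho1 : orderOf (g1 * x * g1⁻¹) = 2 := by rw [← hx]; exact orderOf_conj' g1 x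
  have ho2 : orderOf (g2 * y * g2⁻¹) = 2 := by rw [← hy]; exact orderOf_conj' g2 y
  have heq := huniq _ _ h1 h2 ho1 ho2
  refine ⟨g2⁻¹ * g1, ?_⟩
  have : g2⁻¹ * g1 * x * (g2⁻¹ * g1)⁻¹ = g2⁻¹ * (g1 * x * g1⁻¹) * g2 := by group
  rw [this, heq]
  group

end Cfsg.Agent.S0107
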