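import Cfsg.Statements.S0599
import Cfsg.Agent.Lib_helper3_Timmesfeld
import Cfsg.Agent.Lib_helper3_NilAct
import Mathlib

set_option autoImplicit false
open Cfsg

open scoped commutatorElement
namespace Cfsg.Agent.S0599

/-- `v ↦ [v,a]` is multiplicative on an abelian subgroup `V` normalized by `a`. -/
theorem comm_mul_left {G : Type*} [Group G] {p : ℕ} {V : Subgroup G}
    (hV : Cfsg.IsElementaryAbelian p V) {a : G} (ha : a ∈ Subgroup.normalizer (V : Set G))
    {v w : G} (hv : v ∈ V) (hw : w ∈ V) : ⁅v * w, a⁆ = ⁅v, a⁆ * ⁅w, a⁆ := by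
  have hwc : ⁅w, a⁆ ∈ V := helper3.comm_mem_of_normalizer hw ha
  have hvc : ⁅v, a⁆ ∈ V := helper3.comm_mem_of_normalizer hv ha
  have h1 : ⁅v * w, a⁆ = v * ⁅w, a⁆ * v⁻¹ * ⁅v, a⁆ := by
    rw [commutatorElement_def, commutatorElement_def, commutatorElement_def]
    group
  rw [h1, helper3.ea_comm hV hv hwc, mul_assoc ⁅w, a⁆, mul_inv_cancel, mul_one,
    helper3.ea_comm hV hwc hvc]


/-- The Timmesfeld replacement Theorem: replacing a best offender A by C_A([U, A]) gives a best offender with fixed points [U, A]C_V(A), still nontrivial on V if A was. -/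
theorem result {G : Type*} [Group G] [Finite G] {p : ℕ} [Fact p.Prime] (V A : Subgroup G) (hV : Cfsg.IsElementaryAbelian p V) (hAV : A ≤ Subgroup.normalizer (V : Set G)) (hA : Cfsg.IsBestOffenderOn p V A) (U : Subgroup G) (hU : U ≤ V) : Cfsg.IsBestOffenderOn p V (A ⊓ Subgroup.centralizer ((⁅U, A⁆ : Subgroup G) : Set G)) ∧ V ⊓ Subgroup.centralizer ((A ⊓ Subgroup.centralizer ((⁅U, A⁆ : Subgroup G) : Set G) : Subgroup G) : Set G) = ⁅U, A⁆ ⊔ (V ⊓ Subgroup.centralizer (A : Set G)) ∧ (⁅V, A⁆ ≠ ⊥ → ⁅V, A ⊓ Subgroup.centralizer ((⁅U, A⁆ : Subgroup G) : Set G)⁆ ≠ ⊥) := by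
  obtain ⟨hbest, hab, hpow⟩ := hA
  obtain ⟨hc1, hc2⟩ := helper3.timmesfeld_core hV hAV hab hbest U hU
  refine ⟨⟨?_, ?_, ?_⟩, hc2, ?_⟩
  · intro B hB
    exact (hbest B (hB.trans inf_le_left)).trans hc1.symm.le
  · exact (Subgroup.commutator_mono inf_le_left inf_le_left).trans hab
  · intro a ha
    exact hpow a ha.1
  · intro hne hbot
    apply hne
    -- `V ≤ C(A*)`
    have h1 : A ⊓ Subgroup.centralizer ((⁅U, A⁆ : Subgroup G) : Set G) ≤
        Subgroup.centralizer (V : Set G) := by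
      rw [Subgroup.le_centralizer_iff]
      exact Subgroup.commutator_eq_bot_iff_le_centralizer.mp hbot
    have h2 : V ≤ ⁅U, A⁆ ⊔ (V ⊓ Subgroup.centralizer (A : Set G)) := by
      rw [← hc2]
      exact le_inf le_rfl (Subgroup.le_centralizer_iff.mp h1)
    have hXV : ⁅V, A⁆ ≤ V := by
      rw [Subgroup.commutator_le]
      intro v hv a ha
      exact helper3.comm_mem_of_normalizer hv (hAV ha)
    apply helper3.eq_bot_of_le_commutator_pact hV hAV hpow hXV
    rw [Subgroup.commutator_le]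
    intro v hv a ha
    have hv' := h2 hv
    rw [Subgroup.sup_eq_closure] at hv'
    have key : ∀ y, y ∈ Subgroup.closure (((⁅U, A⁆ : Subgroup G) : Set G) ∪
        ((V ⊓ Subgroup.centralizer (A : Set G) : Subgroup G) : Set G)) →
        y ∈ V ∧ ∀ a ∈ A, ⁅y, a⁆ ∈ ⁅⁅V, A⁆, A⁆ := by
      intro y hy
      induction hy using Subgroup.closure_induction with
      | mem x hx =>
        rcases hx with hx | hx
        · have hxV : x ∈ V := hXV (Subgroup.commutator_mono hU le_rfl hx)
          refine ⟨hxV, fun b hb => ?_⟩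
          exact Subgroup.commutator_mem_commutator (Subgroup.commutator_mono hU le_rfl hx) hb
        · refine ⟨hx.1, fun b hb => ?_⟩
          have : ⁅x, b⁆ = 1 := by
            rw [commutatorElement_eq_one_iff_mul_comm]
            exact (Subgroup.mem_centralizer_iff.mp hx.2 b hb).symm
          rw [this]
          exact Subgroup.one_mem _
      | one =>
        refine ⟨V.one_mem, fun b hb => ?_⟩
        rw [commutatorElement_one_left]
        exact Subgroup.one_mem _
      | mul x y _ _ ihx ihy =>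
        refine ⟨V.mul_mem ihx.1 ihy.1, fun b hb => ?_⟩
        rw [comm_mul_left hV (hAV hb) ihx.1 ihy.1]
        exact Subgroup.mul_mem _ (ihx.2 b hb) (ihy.2 b hb)
      | inv x _ ihx =>
        refine ⟨V.inv_mem ihx.1, fun b hb => ?_⟩
        have h3 := comm_mul_left hV (hAV hb) (V.inv_mem ihx.1) ihx.1
        rw [inv_mul_cancel, commutatorElement_one_left] at h3
        have h4 : ⁅x⁻¹, b⁆ = ⁅x, b⁆⁻¹ := eq_inv_of_mul_eq_one_left h3.symm
        rw [h4]
        exact Subgroup.inv_mem _ (ihx.2 b hb)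
    exact (key v hv').2 a ha

end Cfsg.Agent.S0599
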