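import Cfsg.Statements.S0607
import Cfsg.Agent.Lib_helper3_Timmesfeld
import Cfsg.Agent.S0599
import Cfsg.Agent.S0606
import Mathlib

set_option autoImplicit false
open Cfsg

open scoped commutatorElement
namespace Cfsg.Agent.S0607

/-- a subgroup `A` normalizes `[V, A]` when `V` is normal -/
theorem le_normalizer_commutator {G : Type*} [Group G] (V A : Subgroup G) [V.Normal] :
    A ≤ Subgroup.normalizer ((⁅V, A⁆ : Subgroup G) : Set G) := by
  intro a ha
  rw [Subgroup.mem_normalizer_iff_map_conj_eq, Subgroup.map_commutator]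
  have h1 : V.map (MulAut.conj a : G →* G) = V := by
    have := (Subgroup.mem_normalizer_iff_map_conj_eq (H := V) (g := a)).mp
      (by rw [Subgroup.normalizer_eq_top]; exact Subgroup.mem_top a)
    exact this
  have h2 : A.map (MulAut.conj a : G →* G) = A :=
    (Subgroup.mem_normalizer_iff_map_conj_eq (H := A) (g := a)).mp (Subgroup.le_normalizer ha)
  rw [h1, h2]

/-- `[V, V ⊔ A] ≤ [V, A]` for `V` abelian normal. -/
theorem commutator_sup_le {G : Type*} [Group G] {p : ℕ} (V A : Subgroup G) [V.Normal]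
    (hV : Cfsg.IsElementaryAbelian p V) : ⁅V, V ⊔ A⁆ ≤ ⁅V, A⁆ := by
  have hWV : ⁅V, A⁆ ≤ V := Subgroup.commutator_le_left V A
  have hVN : V ≤ Subgroup.normalizer ((⁅V, A⁆ : Subgroup G) : Set G) := by
    intro v hv
    rw [Subgroup.mem_normalizer_iff]
    intro h
    constructor
    · intro hh
      have : v * h * v⁻¹ = h := by
        rw [helper3.ea_comm hV hv (hWV hh)]; group
      rwa [this]
    · intro hh
      have h1 : v * h * v⁻¹ ∈ V := hWV hh
      have h2 : h ∈ V := by
        have : h = v⁻¹ * (v * h * v⁻¹) * v := by group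
        rw [this]
        exact V.mul_mem (V.mul_mem (V.inv_mem hv) h1) hv
      have : v * h * v⁻¹ = h := by
        rw [helper3.ea_comm hV hv h2]; group
      rwa [this] at hh
  have hN : V ⊔ A ≤ Subgroup.normalizer ((⁅V, A⁆ : Subgroup G) : Set G) :=
    sup_le hVN (le_normalizer_commutator V A)
  rw [Subgroup.commutator_le]
  intro v hv x hx
  have key : ∀ y, y ∈ Subgroup.closure ((V : Set G) ∪ (A : Set G)) → ∀ v ∈ V, ⁅v, y⁆ ∈ ⁅V, A⁆ := by
    intro y hy
    induction hy using Subgroup.closure_induction with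
    | mem y hy =>
      intro v hv
      rcases hy with hy | hy
      · have : ⁅v, y⁆ = 1 := by
          rw [commutatorElement_eq_one_iff_mul_comm]
          exact helper3.ea_comm hV hv hy
        rw [this]; exact Subgroup.one_mem _
      · exact Subgroup.commutator_mem_commutator hv hy
    | one =>
      intro v _
      rw [commutatorElement_one_right]; exact Subgroup.one_mem _
    | mul y z hy hz ihy ihz =>
      intro v hv
      have h1 : ⁅v, y * z⁆ = ⁅v, y⁆ * (y * ⁅v, z⁆ * y⁻¹) := by
        rw [commutatorElement_def, commutatorElement_def, commutatorElement_def]; group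
      rw [h1]
      have hyN : y ∈ Subgroup.normalizer ((⁅V, A⁆ : Subgroup G) : Set G) := by
        apply hN
        rw [Subgroup.sup_eq_closure]; exact hy
      exact Subgroup.mul_mem _ (ihy v hv) ((Subgroup.mem_normalizer_iff.mp hyN _).mp (ihz v hv))
    | inv y hy ihy =>
      intro v hv
      have h1 : ⁅v, y⁻¹⁆ = y⁻¹ * (⁅v, y⁆)⁻¹ * (y⁻¹)⁻¹ := by
        rw [commutatorElement_def, commutatorElement_def]; group
      rw [h1]
      have hyN : y⁻¹ ∈ Subgroup.normalizer ((⁅V, A⁆ : Subgroup G) : Set G) := by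
        apply Subgroup.inv_mem
        apply hN
        rw [Subgroup.sup_eq_closure]; exact hy
      exact (Subgroup.mem_normalizer_iff.mp hyN _).mp (Subgroup.inv_mem _ (ihy v hv))
  rw [Subgroup.sup_eq_closure] at hx
  exact key x hx v hv


/-- The replacement Theorem for the Thompson subgroup: from A of maximal order among elementary abelian p-subgroups one obtains A₀ = [V, A] C_A([V, A]) of the same kind, quadratic on V and nontrivial on V when A is. -/
theorem result {G : Type*} [Group G] [Finite G] {p : ℕ} [Fact p.Prime] (V : Subgroup G) [V.Normal] (hV : Cfsg.IsElementaryAbelian p V) (A : Subgroup G) (hA : A ∈ Cfsg.maxElementaryAbelianSubgroups p G) : (⁅V, A⁆ ⊔ (A ⊓ Subgroup.centralizer ((⁅V, A⁆ : Subgroup G) : Set G))) ∈ Cfsg.maxElementaryAbelianSubgroups p G ∧ ⁅⁅V, ⁅V, A⁆ ⊔ (A ⊓ Subgroup.centralizer ((⁅V, A⁆ : Subgroup G) : Set G))⁆, ⁅V, A⁆ ⊔ (A ⊓ Subgroup.centralizer ((⁅V, A⁆ : Subgroup G) : Set G))⁆ = ⊥ ∧ (⁅V, A⁆ ≠ ⊥ → ⁅V, ⁅V, A⁆ ⊔ (A ⊓ Subgroup.centralizer ((⁅V, A⁆ : Subgroup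 G) : Set G))⁆ ≠ ⊥) := by
  have hWV : ⁅V, A⁆ ≤ V := Subgroup.commutator_le_left V A
  have hAV : A ≤ Subgroup.normalizer (V : Set G) := by
    rw [Subgroup.normalizer_eq_top]; exact le_top
  have hbo : Cfsg.IsBestOffenderOn p V A := S0606.result V hV A hA
  obtain ⟨hbest, hab, hpow⟩ := hbo
  obtain ⟨hc1, hc2⟩ := helper3.timmesfeld_core hV hAV hab hbest V le_rfl
  obtain ⟨_, _, hc3⟩ := S0599.result V A hV hAV ⟨hbest, hab, hpow⟩ V le_rfl
  set W : Subgroup G := ⁅V, A⁆ with hW
  set As : Subgroup G := A ⊓ Subgroup.centralizer ((⁅V, A⁆ : Subgroup G) : Set G) with hAs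
  set CVA : Subgroup G := V ⊓ Subgroup.centralizer (A : Set G) with hCVA
  -- `A₀` is elementary abelian
  have hEA : Cfsg.IsElementaryAbelian p (W ⊔ As) := by
    apply helper3.ea_sup (helper3.ea_mono hV hWV) (helper3.ea_mono hA.1 inf_le_left)
    intro w hw a ha
    exact Subgroup.mem_centralizer_iff.mp ha.2 w hw
  -- `C_V(A) ≤ A`
  have hCA : CVA ≤ A := by
    have h1 : Cfsg.IsElementaryAbelian p (A ⊔ CVA) := by
      apply helper3.ea_sup hA.1 (helper3.ea_mono hV inf_le_left)
      intro a ha c hc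
      exact Subgroup.mem_centralizer_iff.mp hc.2 a ha
    have h2 : A = A ⊔ CVA := helper3.maxEA_eq_of_le hA h1 le_sup_left
    rw [h2]; exact le_sup_right
  have hCAs : CVA ≤ As := by
    refine le_inf hCA ?_
    intro c hc
    rw [Subgroup.mem_centralizer_iff]
    intro w hw
    exact helper3.ea_comm hV (hWV hw) hc.1
  -- `A₀ = A* ⊔ C_V(A*)`
  have hA0 : W ⊔ As = As ⊔ (V ⊓ Subgroup.centralizer (As : Set G)) := by
    rw [hc2]
    apply le_antisymm
    · exact sup_le (le_sup_of_le_right le_sup_left) le_sup_left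
    · exact sup_le le_sup_right (sup_le le_sup_left (hCAs.trans le_sup_right))
  -- cardinality
  have hcard : Nat.card A ≤ Nat.card (W ⊔ As : Subgroup G) := by
    have k1 := helper3.card_mul_card_le_sup_inf As (V ⊓ Subgroup.centralizer (As : Set G))
    have k2 : As ⊓ (V ⊓ Subgroup.centralizer (As : Set G)) ≤ CVA := by
      intro x hx
      refine ⟨hx.2.1, ?_⟩
      show x ∈ Subgroup.centralizer (A : Set G)
      rw [Subgroup.mem_centralizer_iff]
      intro a ha
      exact helper3.ea_comm hA.1 ha hx.1.1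
    have k3 : Nat.card (As ⊓ (V ⊓ Subgroup.centralizer (As : Set G)) : Subgroup G) ≤ Nat.card CVA :=
      Subgroup.card_le_of_le k2
    rw [← hA0] at k1
    have k4 : Nat.card A * Nat.card CVA ≤ Nat.card (W ⊔ As : Subgroup G) * Nat.card CVA := by
      calc Nat.card A * Nat.card CVA
          = Nat.card As * Nat.card ↥(V ⊓ Subgroup.centralizer (As : Set G)) := hc1.symm
        _ ≤ Nat.card (W ⊔ As : Subgroup G) *
            Nat.card (As ⊓ (V ⊓ Subgroup.centralizer (As : Set G)) : Subgroup G) := k1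
        _ ≤ Nat.card (W ⊔ As : Subgroup G) * Nat.card CVA := Nat.mul_le_mul_left _ k3
    exact Nat.le_of_mul_le_mul_right k4 Nat.card_pos
  have hVA0 : ⁅V, W ⊔ As⁆ ≤ W := by
    refine le_trans (Subgroup.commutator_mono le_rfl ?_) (commutator_sup_le V A hV)
    exact sup_le (hWV.trans le_sup_left) (inf_le_left.trans le_sup_right)
  refine ⟨⟨hEA, fun B hB => (hA.2 B hB).trans hcard⟩, ?_, ?_⟩
  · rw [Subgroup.commutator_eq_bot_iff_le_centralizer]
    intro x hx
    rw [Subgroup.mem_centralizer_iff]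
    intro y hy
    exact helper3.ea_comm hEA hy ((le_sup_left : W ≤ W ⊔ As) (hVA0 hx))
  · intro hne hbot
    apply hc3 hne
    rw [eq_bot_iff, ← hbot]
    exact Subgroup.commutator_mono le_rfl le_sup_right

end Cfsg.Agent.S0607
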