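import Cfsg.Statements.S0626
-- import your own Cfsg.Agent.* helpers here
import Mathlib
import Cfsg.Agent.Lib_helper4_RedG

set_option autoImplicit false
open Cfsg

namespace Cfsg.Agent.S0626


/-- For odd p, groups whose Sylow 2-subgroups are abelian are p-stable in the action sense. -/
theorem result {G : Type*} [Group G] [Finite G] {p : ℕ} [Fact p.Prime] (hp : p ≠ 2) (hab : ∀ T : Sylow 2 G, IsMulCommutative T) : Cfsg.IsActionPStable p G := by
  obtain ⟨T⟩ := (inferInstance : Nonempty (Sylow 2 G))
  have h1 : Cfsg.Agent.helper4.Red.TwoComm G := Cfsg.Agent.helper4.Red.twoComm_of_sylow T (hab T)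
  exact Cfsg.Agent.helper4.Red.isActionPStable_of_not_hasSec hp
    (Cfsg.Agent.helper4.Red.not_hasSec_of_twoComm hp h1)

end Cfsg.Agent.S0626
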