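import Cfsg.Statements.S0109
import Cfsg.Agent.S0601
import Cfsg.Agent.S0607
import Cfsg.Agent.S0608
import Cfsg.Agent.S0625
import Cfsg.Agent.S0626
import Cfsg.Agent.Lib_helper23_PSolv3

set_option autoImplicit false
open Cfsg

namespace Cfsg.Agent.S0109

/-- The Thompson factorization Theorem for solvable groups states that, with p odd (and abelian Sylow 2-subgroups when p = 3) and no nontrivial normal subgroup of order prime to p, every element of G is a product of an element normalizing J(P) and an element centralizing the elements of order dividing p in the centre of P. -/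
theorem result {G : Type*} [Group G] [Finite G] {p : ℕ} [Fact p.Prime] (hp : p ≠ 2) (hs : Group.IsSolvable G) (h3 : p = 3 → ∀ T : Sylow 2 G, IsMulCommutative T) (hF : ∀ N : Subgroup G, N.Normal → Nat.Coprime (Nat.card N) p → N = ⊥) (P : Sylow p G) (g : G) : ∃ a ∈ Subgroup.normalizer (Cfsg.thompsonSubgroupOf p (P : Subgroup G) : Set G), ∃ c ∈ Subgroup.centralizer {x : G | x ∈ (P : Subgroup G) ∧ (∀ y ∈ (P : Subgroup G), x * y = y * x) ∧ x ^ p = 1}, g = a * c := by
  haveI := hs
  have hpp : p.Prime := Fact.out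
  have hO : Cfsg.pPrimeCore p G = ⊥ :=
    hF _ (Cfsg.Agent.helper1.pPrimeCore_normal p) (Cfsg.Agent.helper1.pPrimeCore_coprime p)
  have hreach := Cfsg.Agent.helper23.psreach_top_of_solvable p _ G rfl
  have hc : Subgroup.centralizer (Cfsg.pCore p G : Set G) ≤ Cfsg.pCore p G :=
    Cfsg.Agent.helper23.hall_higman_123 hreach hO
  have hst : Cfsg.IsActionPStable p G := by
    by_cases h5 : 5 ≤ p
    · exact Cfsg.Agent.S0625.result h5 (Cfsg.Agent.helper23.isPSolvable_iff_psreach.mpr hreach)
    · have hp3 : p = 3 := by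
        have h2 := hpp.two_le
        have h4 : p ≠ 4 := by
          intro h
          rw [h] at hpp
          exact absurd hpp (by decide)
        omega
      exact Cfsg.Agent.S0626.result hp (h3 hp3)
  obtain ⟨hVn, hVea, -⟩ := Cfsg.Agent.S0601.result hc
  obtain ⟨V, hVdef⟩ : ∃ V : Subgroup G, V = ⨆ S : Sylow p G, Cfsg.omegaOne p
      (((S : Subgroup G)) ⊓ Subgroup.centralizer ((S : Subgroup G) : Set G)) := ⟨_, rfl⟩
  rw [← hVdef] at hVn hVea
  haveI := hVn
  have hstV : Cfsg.IsPStableOn p V := hst.1 V hVea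
  have hcore : ∀ a : G, (QuotientGroup.mk a : G ⧸ Subgroup.centralizer (V : Set G)) ∈
      Cfsg.pCore p (G ⧸ Subgroup.centralizer (V : Set G)) →
      a ∈ Subgroup.centralizer (V : Set G) := by
    intro a ha
    rw [hVdef, Cfsg.Agent.S0601.iSup_eq_closure, Cfsg.Agent.helper3.mem_centralizer_closure_iff]
    intro t ht
    have ht' := ht
    unfold Cfsg.Agent.S0601.gens at ht'
    rw [Set.mem_iUnion] at ht'
    obtain ⟨S, ⟨htS, htC⟩, htp⟩ := ht'
    obtain ⟨s, hs', hsx⟩ := Cfsg.Agent.helper3.exists_sylow_mul_of_mem_pCore _ ha S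
    have htV : t ∈ V := by
      rw [hVdef, Cfsg.Agent.S0601.iSup_eq_closure]
      exact Subgroup.subset_closure ht
    have h1 : Commute s t := (Subgroup.mem_centralizer_iff.mp htC s hs')
    have h2 : Commute t (s⁻¹ * a) := (Subgroup.mem_centralizer_iff.mp hsx t htV)
    have hx' : a = s * (s⁻¹ * a) := by group
    have h3 : Commute t a := by
      rw [hx']
      exact h1.symm.mul_right h2
    exact h3.eq
  have hJ : Cfsg.thompsonSubgroup p G ≤ Subgroup.centralizer (V : Set G) := by
    unfold Cfsg.thompsonSubgroup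
    apply sSup_le
    intro A hA
    obtain ⟨-, hquad, hne⟩ := Cfsg.Agent.S0607.result V hVea A hA
    by_contra hAV
    have hVA : ⁅V, A⁆ ≠ ⊥ := by
      intro h
      apply hAV
      rw [Subgroup.commutator_comm, Subgroup.commutator_eq_bot_iff_le_centralizer] at h
      exact h
    apply hne hVA
    rw [Subgroup.commutator_comm, Subgroup.commutator_eq_bot_iff_le_centralizer]
    intro a ha
    apply hcore
    apply hstV
    rw [eq_bot_iff, ← hquad]
    exact Subgroup.commutator_mono (Subgroup.commutator_mono le_rfl ((Subgroup.zpowers_le).2 ha))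
      ((Subgroup.zpowers_le).2 ha)
  rw [hVdef] at hJ
  have hTF := (Cfsg.Agent.S0608.result hO).mpr hJ
  obtain ⟨x, hx, c, hc', n, hn, hg⟩ := hTF P g⁻¹
  rw [hO, Subgroup.mem_bot] at hx
  subst hx
  refine ⟨n⁻¹, Subgroup.inv_mem _ hn, c⁻¹, ?_, ?_⟩
  · apply Subgroup.inv_mem
    refine Subgroup.centralizer_le ?_ hc'
    rintro x ⟨hxP, hxc, hxp⟩
    apply Subgroup.subset_closure
    exact ⟨⟨hxP, Subgroup.mem_centralizer_iff.2 (fun y hy => (hxc y hy).symm)⟩, hxp⟩
  · rw [← inv_inv g, hg]; group

end Cfsg.Agent.S0109
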