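import Cfsg.Statements.S3807
import Mathlib
import Cfsg.Agent.S3203

set_option autoImplicit false
set_option linter.style.haveILetI false
open Cfsg
open scoped commutatorElement

namespace Cfsg.Agent.S3807

section
variable {S : Type*} [Group S] [Finite S]

theorem eq_top_of_le_of_mem {p : ℕ} (hp : p.Prime) {B C : Subgroup S} (hBi : B.index = p)
    (hle : B ≤ C) {s : S} (hs : s ∈ C) (hsB : s ∉ B) : C = ⊤ := by
  have h1 := Subgroup.relIndex_mul_index hle
  rw [hBi] at h1
  have h2 : B.relIndex C ∣ p := Dvd.intro _ h1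
  rcases (Nat.dvd_prime hp).mp h2 with h3 | h3
  · exfalso
    exact hsB ((Subgroup.relIndex_eq_one.mp h3) hs)
  · rw [h3] at h1
    have h4 : C.index = 1 := by
      have hp0 : 0 < p := hp.pos
      exact Nat.eq_of_mul_eq_mul_left hp0 (by rw [h1, mul_one])
    exact Subgroup.index_eq_one.mp h4

theorem comm_of_mem {B : Subgroup S} (hB : IsMulCommutative ↥B) {a b : S} (ha : a ∈ B)
    (hb : b ∈ B) : a * b = b * a := by
  have := hB.is_comm.comm ⟨a, ha⟩ ⟨b, hb⟩
  exact congrArg Subtype.val this

theorem center_le_of_abelian {p : ℕ} (hp : p.Prime) (hna : ¬ IsMulCommutative S)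
    {B : Subgroup S} (hB : IsMulCommutative ↥B) (hBi : B.index = p) :
    Subgroup.center S ≤ B := by
  by_contra hle
  obtain ⟨z, hz, hzB⟩ := SetLike.not_le_iff_exists.mp hle
  have h1 : Subgroup.centralizer (B : Set S) = ⊤ := by
    apply eq_top_of_le_of_mem hp hBi _ _ hzB
    · intro b hb
      rw [Subgroup.mem_centralizer_iff]
      intro h hh
      exact comm_of_mem hB hh hb
    · rw [Subgroup.mem_centralizer_iff]
      intro h hh
      exact (Subgroup.mem_center_iff.mp hz) h
  have h2 : B ≤ Subgroup.center S := by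
    intro b hb
    rw [Subgroup.mem_center_iff]
    intro g
    have hg : g ∈ Subgroup.centralizer (B : Set S) := h1 ▸ Subgroup.mem_top g
    exact ((Subgroup.mem_centralizer_iff.mp hg) b hb).symm
  have h3 : Subgroup.center S = ⊤ := eq_top_of_le_of_mem hp hBi h2 hz hzB
  apply hna
  refine ⟨⟨fun a b => ?_⟩⟩
  have hb : b ∈ Subgroup.center S := h3 ▸ Subgroup.mem_top b
  exact (Subgroup.mem_center_iff.mp hb) a

theorem normal_of_index_p {p : ℕ} [Fact p.Prime] (hS : IsPGroup p S) {A : Subgroup S}
    (hAi : A.index = p) : A.Normal := by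
  obtain ⟨n, hn⟩ := IsPGroup.iff_card.mp hS
  apply Subgroup.normal_of_index_eq_minFac_card
  rw [hAi, hn]
  have hn0 : n ≠ 0 := by
    rintro rfl
    have : A.index ∣ Nat.card S := Subgroup.index_dvd_card A
    rw [hn, hAi, pow_zero] at this
    exact (Fact.out : p.Prime).one_lt.ne' (Nat.dvd_one.mp this)
  exact ((Fact.out : p.Prime).pow_minFac hn0).symm

theorem mem_center_of_comm {p : ℕ} (hp : p.Prime) {A : Subgroup S} (hA : IsMulCommutative ↥A)
    (hAi : A.index = p) {a g : S} (ha : a ∈ A) (hg : g ∉ A) (h : a * g = g * a) :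
    a ∈ Subgroup.center S := by
  have h1 : Subgroup.centralizer ({a} : Set S) = ⊤ := by
    apply eq_top_of_le_of_mem hp hAi _ _ hg
    · intro b hb
      rw [Subgroup.mem_centralizer_singleton_iff]
      exact comm_of_mem hA hb ha
    · rw [Subgroup.mem_centralizer_singleton_iff]
      exact h.symm
  rw [Subgroup.mem_center_iff]
  intro k
  have : k ∈ Subgroup.centralizer ({a} : Set S) := h1 ▸ Subgroup.mem_top k
  exact Subgroup.mem_centralizer_singleton_iff.mp this

theorem exists_phi (A : Subgroup S) [hAn : A.Normal] (hA : IsMulCommutative ↥A) (s : S) :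
    ∃ φ : ↥A →* ↥A, ∀ a : ↥A, ((φ a : ↥A) : S) = (a : S) * s * (a : S)⁻¹ * s⁻¹ := by
  have hmem : ∀ a : ↥A, (a : S) * s * (a : S)⁻¹ * s⁻¹ ∈ A := by
    intro a
    have h1 : s * (a : S)⁻¹ * s⁻¹ ∈ A := hAn.conj_mem _ (A.inv_mem a.2) s
    have h2 : (a : S) * s * (a : S)⁻¹ * s⁻¹ = (a : S) * (s * (a : S)⁻¹ * s⁻¹) := by group
    rw [h2]; exact A.mul_mem a.2 h1
  refine ⟨MonoidHom.mk' (fun a => ⟨(a : S) * s * (a : S)⁻¹ * s⁻¹, hmem a⟩) ?_, ?_⟩
  · intro a b
    apply Subtype.ext
    simp only [Subgroup.coe_mul]
    have h1 : s * (a : S)⁻¹ * s⁻¹ ∈ A := hAn.conj_mem _ (A.inv_mem a.2) s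
    have h3 := comm_of_mem hA h1 (hmem b)
    have e1 : ((a : S) * b) * s * ((a : S) * b)⁻¹ * s⁻¹ =
        (a : S) * (((b : S) * s * (b : S)⁻¹ * s⁻¹) * (s * (a : S)⁻¹ * s⁻¹)) := by group
    rw [e1, ← h3]
    group
  · intro a
    rfl

theorem index_center_and_commutator {p : ℕ} [Fact p.Prime] (hS : IsPGroup p S)
    (hna : ¬ IsMulCommutative S)
    (A : Subgroup S) (hA : IsMulCommutative ↥A) (hAi : A.index = p) :
    (Subgroup.center S).index = p * Nat.card (commutator S) := by
  have hp : p.Prime := Fact.out
  haveI hAn : A.Normal := normal_of_index_p hS hAi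
  have hZA : Subgroup.center S ≤ A := center_le_of_abelian hp hna hA hAi
  obtain ⟨s, hs⟩ : ∃ s, s ∉ A := by
    by_contra hcon
    push Not at hcon
    have : A = ⊤ := (Subgroup.eq_top_iff' A).mpr hcon
    rw [this, Subgroup.index_top] at hAi
    exact hp.one_lt.ne hAi
  obtain ⟨φ, hφ⟩ := exists_phi A hA s
  have hker : φ.ker = (Subgroup.center S).subgroupOf A := by
    ext a
    rw [MonoidHom.mem_ker, Subgroup.mem_subgroupOf]
    constructor
    · intro h
      have h1 : (a : S) * s * (a : S)⁻¹ * s⁻¹ = 1 := by rw [← hφ a, h]; rfl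
      have h2 : (a : S) * s = s * (a : S) := by
        have : (a : S) * s = ((a : S) * s * (a : S)⁻¹ * s⁻¹) * (s * a) := by group
        rw [this, h1, one_mul]
      exact mem_center_of_comm hp hA hAi a.2 hs h2
    · intro h
      apply Subtype.ext
      rw [hφ a]
      have := Subgroup.mem_center_iff.mp h s
      rw [← this]
      simp
  set D : Subgroup S := φ.range.map A.subtype with hD
  have hDmem : ∀ a ∈ A, a * s * a⁻¹ * s⁻¹ ∈ D := by
    intro a ha
    refine ⟨φ ⟨a, ha⟩, ⟨⟨a, ha⟩, rfl⟩, ?_⟩
    exact hφ ⟨a, ha⟩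
  have hDform : ∀ d ∈ D, ∃ a ∈ A, d = a * s * a⁻¹ * s⁻¹ := by
    rintro _ ⟨_, ⟨a, rfl⟩, rfl⟩
    exact ⟨a, a.2, hφ a⟩
  have hDA : D ≤ A := by
    rintro _ ⟨x, -, rfl⟩; exact x.2
  have hDle : D ≤ commutator S := by
    intro d hd
    obtain ⟨a, -, rfl⟩ := hDform d hd
    rw [commutator_def, ← commutatorElement_def]
    exact Subgroup.commutator_mem_commutator (Subgroup.mem_top _) (Subgroup.mem_top _)
  haveI hDn : D.Normal := by
    have h1 : Subgroup.normalizer (D : Set S) = ⊤ := by
      apply eq_top_of_le_of_mem hp hAi _ _ hs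
      · intro a ha
        apply Cfsg.Agent.S3203.mem_normalizer_of_forall
        intro d hd
        have hdA : d ∈ A := hDA hd
        have : a * d * a⁻¹ = d := by
          rw [comm_of_mem hA ha hdA]; group
        rw [this]; exact hd
      · apply Cfsg.Agent.S3203.mem_normalizer_of_forall
        intro d hd
        obtain ⟨a, ha, rfl⟩ := hDform d hd
        have h2 : s * a * s⁻¹ ∈ A := hAn.conj_mem _ ha s
        have h3 := hDmem _ h2
        have e : s * (a * s * a⁻¹ * s⁻¹) * s⁻¹ = s * a * s⁻¹ * s * (s * a * s⁻¹)⁻¹ * s⁻¹ := by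
          group
        rw [e]; exact h3
    exact Subgroup.normalizer_eq_top_iff.mp h1
  -- quotient by D is commutative
  have hquot : ∀ g h : S, ⁅g, h⁆ ∈ D := by
    let π := QuotientGroup.mk' D
    have hπA : ∀ a ∈ A, π a * π s = π s * π a := by
      intro a ha
      have h1 : π (a * s * a⁻¹ * s⁻¹) = 1 := (QuotientGroup.eq_one_iff _).mpr (hDmem a ha)
      rw [← commutatorElement_def, map_commutatorElement] at h1
      exact commutatorElement_eq_one_iff_mul_comm.mp h1
    have hs_central : ∀ g : S, π g * π s = π s * π g := by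
      have h1 : (Subgroup.centralizer ({π s} : Set (S ⧸ D))).comap π = ⊤ := by
        apply eq_top_of_le_of_mem hp hAi _ _ hs
        · intro a ha
          rw [Subgroup.mem_comap, Subgroup.mem_centralizer_singleton_iff]
          exact hπA a ha
        · rw [Subgroup.mem_comap, Subgroup.mem_centralizer_singleton_iff]
      intro g
      have : g ∈ (Subgroup.centralizer ({π s} : Set (S ⧸ D))).comap π := h1 ▸ Subgroup.mem_top g
      rw [Subgroup.mem_comap, Subgroup.mem_centralizer_singleton_iff] at this
      exact this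
    have hA_central : ∀ a ∈ A, ∀ g : S, π g * π a = π a * π g := by
      intro a ha
      have h1 : (Subgroup.centralizer ({π a} : Set (S ⧸ D))).comap π = ⊤ := by
        apply eq_top_of_le_of_mem hp hAi _ _ hs
        · intro b hb
          rw [Subgroup.mem_comap, Subgroup.mem_centralizer_singleton_iff, ← map_mul, ← map_mul,
            comm_of_mem hA hb ha]
        · rw [Subgroup.mem_comap, Subgroup.mem_centralizer_singleton_iff]
          exact (hs_central a).symm
      intro g
      have : g ∈ (Subgroup.centralizer ({π a} : Set (S ⧸ D))).comap π := h1 ▸ Subgroup.mem_top g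
      rw [Subgroup.mem_comap, Subgroup.mem_centralizer_singleton_iff] at this
      exact this
    have hall : (Subgroup.center (S ⧸ D)).comap π = ⊤ := by
      apply eq_top_of_le_of_mem hp hAi _ _ hs
      · intro a ha
        rw [Subgroup.mem_comap, Subgroup.mem_center_iff]
        intro x
        obtain ⟨g, rfl⟩ := QuotientGroup.mk'_surjective D x
        exact hA_central a ha g
      · rw [Subgroup.mem_comap, Subgroup.mem_center_iff]
        intro x
        obtain ⟨g, rfl⟩ := QuotientGroup.mk'_surjective D x
        exact hs_central g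
    intro g h
    have hh : h ∈ (Subgroup.center (S ⧸ D)).comap π := hall ▸ Subgroup.mem_top h
    rw [Subgroup.mem_comap, Subgroup.mem_center_iff] at hh
    have h1 : π ⁅g, h⁆ = 1 := by
      rw [map_commutatorElement]
      exact commutatorElement_eq_one_iff_mul_comm.mpr (hh (π g))
    exact (QuotientGroup.eq_one_iff _).mp h1
  have hDeq : commutator S = D := by
    apply le_antisymm _ hDle
    rw [commutator_def, Subgroup.commutator_le]
    intro g _ h _
    exact hquot g h
  have hc1 : Nat.card D = Nat.card φ.range :=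
    Subgroup.card_map_of_injective (Subgroup.subtype_injective A)
  have hc2 : Nat.card φ.ker = Nat.card (Subgroup.center S) := by
    rw [hker]
    exact Nat.card_congr (Subgroup.subgroupOfEquivOfLe hZA).toEquiv
  have hc3 : Nat.card φ.ker * Nat.card φ.range = Nat.card A := by
    rw [← Subgroup.index_ker]
    exact Subgroup.card_mul_index φ.ker
  have hc4 : Nat.card A * p = Nat.card S := by
    rw [← hAi]; exact Subgroup.card_mul_index A
  have hc5 : Nat.card (Subgroup.center S) * (Subgroup.center S).index = Nat.card S :=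
    Subgroup.card_mul_index _
  rw [hDeq, hc1]
  have hZpos : 0 < Nat.card (Subgroup.center S) := Nat.card_pos
  apply Nat.eq_of_mul_eq_mul_left hZpos
  rw [hc5, ← hc4, ← hc3, hc2]
  ring

end

section count
variable {Q : Type*} [Group Q] [Finite Q]

theorem card_subgroups_order_p {p : ℕ} (hp : p.Prime) (hQ : Nat.card Q = p ^ 2)
    (hexp : ∀ a : Q, a ^ p = 1) : Nat.card {L : Subgroup Q // Nat.card L = p} = p + 1 := by
  classical
  haveI : Fintype Q := Fintype.ofFinite Q
  haveI : Fintype (Subgroup Q) := Fintype.ofFinite _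
  have hord : ∀ v : Q, v ≠ 1 → orderOf v = p := by
    intro v hv
    have h1 : orderOf v ∣ p := orderOf_dvd_of_pow_eq_one (hexp v)
    rcases (Nat.dvd_prime hp).mp h1 with h | h
    · exfalso; rw [orderOf_eq_one_iff] at h; exact hv h
    · exact h
  set s : Finset Q := Finset.univ.filter (fun v => v ≠ 1) with hs
  set t : Finset (Subgroup Q) := Finset.univ.filter (fun L => Nat.card L = p) with ht
  have hst : Set.MapsTo (fun v : Q => Subgroup.zpowers v) (s : Set Q) (t : Set (Subgroup Q)) := by
    intro v hv
    have hv1 : v ≠ 1 := (Finset.mem_filter.mp hv).2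
    show Subgroup.zpowers v ∈ t
    rw [ht, Finset.mem_filter]
    refine ⟨Finset.mem_univ _, ?_⟩
    rw [Nat.card_zpowers]
    exact hord v hv1
  have h1 := Finset.card_eq_sum_card_fiberwise hst
  have hfib : ∀ L ∈ t, (s.filter (fun v => Subgroup.zpowers v = L)).card = p - 1 := by
    intro L hL
    have hLc : Nat.card L = p := (Finset.mem_filter.mp hL).2
    have e : s.filter (fun v => Subgroup.zpowers v = L) =
        (Finset.univ.filter (fun v => v ∈ L)).erase 1 := by
      ext v
      simp only [Finset.mem_filter, Finset.mem_erase, Finset.mem_univ, true_and, hs]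
      constructor
      · rintro ⟨hv1, hvL⟩
        refine ⟨hv1, ?_⟩
        rw [← hvL]; exact Subgroup.mem_zpowers v
      · rintro ⟨hv1, hvL⟩
        refine ⟨hv1, ?_⟩
        apply Subgroup.eq_of_le_of_card_ge (Subgroup.zpowers_le.mpr hvL)
        rw [hLc, Nat.card_zpowers, hord v hv1]
    rw [e, Finset.card_erase_of_mem (by simp [L.one_mem])]
    have : (Finset.univ.filter (fun v => v ∈ L)).card = Nat.card L := by
      rw [Nat.card_eq_fintype_card, Fintype.card_subtype]
    rw [this, hLc]
  rw [Finset.sum_congr rfl hfib, Finset.sum_const, smul_eq_mul] at h1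
  have hs_card : s.card = p ^ 2 - 1 := by
    rw [hs, Finset.filter_ne' Finset.univ (1 : Q), Finset.card_erase_of_mem (Finset.mem_univ _),
      Finset.card_univ, ← Nat.card_eq_fintype_card, hQ]
  have ht_card : Nat.card {L : Subgroup Q // Nat.card L = p} = t.card := by
    rw [Nat.card_eq_fintype_card, Fintype.card_subtype]
  rw [ht_card]
  rw [hs_card] at h1
  obtain ⟨k, rfl⟩ : ∃ k, p = k + 1 := ⟨p - 1, by have := hp.pos; omega⟩
  have hk : 0 < k := by have := hp.one_lt; omega
  have h2 : (k + 1) ^ 2 - 1 = (k + 2) * k := by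
    have : (k + 1) ^ 2 = (k + 2) * k + 1 := by ring
    omega
  rw [h2, Nat.add_sub_cancel] at h1
  have := Nat.eq_of_mul_eq_mul_right hk h1
  omega

end count

/-- Let S be a non-abelian finite p-group with an abelian subgroup A of index p. Then [S : Z(S)] = p·#[S,S], and either [S,S] has order p, S/Z(S) is elementary abelian of order p², and S has exactly p + 1 abelian subgroups of index p; or [S,S] has order at least p² and A is the only abelian subgroup of index p in S. -/
theorem result {S : Type*} [Group S] [Finite S] (p : ℕ) [Fact p.Prime] (hS : IsPGroup p S) (hna : ¬ IsMulCommutative S)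
    (A : Subgroup S) (hA : IsMulCommutative ↥A) (hAi : A.index = p) :
    (Subgroup.center S).index = p * Nat.card (commutator S) ∧
      ((Nat.card (commutator S) = p ∧ Cfsg.IsElementaryAbelian p (⊤ : Subgroup (S ⧸ Subgroup.center S)) ∧
          Nat.card (S ⧸ Subgroup.center S) = p ^ 2 ∧
          Nat.card {B : Subgroup S // IsMulCommutative ↥B ∧ B.index = p} = p + 1) ∨
        (p ^ 2 ≤ Nat.card (commutator S) ∧ ∀ B : Subgroup S, IsMulCommutative ↥B → B.index = p → B = A)) := by
  have hp : p.Prime := Fact.out
  have hidx := index_center_and_commutator hS hna A hA hAi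
  refine ⟨hidx, ?_⟩
  -- the order of the commutator subgroup
  obtain ⟨k, hk⟩ := IsPGroup.iff_card.mp (hS.to_subgroup (commutator S))
  have hk0 : k ≠ 0 := by
    rintro rfl
    rw [pow_zero] at hk
    apply hna
    have hbot : commutator S = ⊥ := Subgroup.card_eq_one.mp hk
    refine ⟨⟨fun a b => ?_⟩⟩
    have : ⁅a, b⁆ ∈ commutator S := by
      rw [commutator_def]
      exact Subgroup.commutator_mem_commutator (Subgroup.mem_top _) (Subgroup.mem_top _)
    rw [hbot, Subgroup.mem_bot] at this
    exact commutatorElement_eq_one_iff_mul_comm.mp this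
  by_cases hk1 : k = 1
  · left
    rw [hk1, pow_one] at hk
    rw [hk] at hidx
    have hQc : Nat.card (S ⧸ Subgroup.center S) = p ^ 2 := by
      rw [← Subgroup.index_eq_card, hidx, sq]
    have hexp : ∀ a : S ⧸ Subgroup.center S, a ^ p = 1 := by
      intro a
      have h1 : orderOf a ∣ p ^ 2 := hQc ▸ orderOf_dvd_natCard a
      obtain ⟨i, hi, hoi⟩ := (Nat.dvd_prime_pow hp).mp h1
      have hi2 : i ≠ 2 := by
        rintro rfl
        haveI : IsCyclic (S ⧸ Subgroup.center S) :=
          isCyclic_of_orderOf_eq_card a (by rw [hoi, hQc])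
        apply hna
        exact MonoidHom.isMulCommutative_of_isCyclic_of_ker_le_center
          (QuotientGroup.mk' (Subgroup.center S)) (by rw [QuotientGroup.ker_mk'])
      have hi1 : i ≤ 1 := by omega
      apply orderOf_dvd_iff_pow_eq_one.mp
      rw [hoi]
      exact pow_dvd_pow p hi1 |>.trans (by rw [pow_one])
    refine ⟨hk, ⟨?_, fun a _ => hexp a⟩, hQc, ?_⟩
    · have hcomm := IsPGroup.isMulCommutative_of_card_eq_prime_sq hQc
      refine ⟨⟨fun a b => Subtype.ext ?_⟩⟩
      exact hcomm.is_comm.comm a.1 b.1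
    · rw [← card_subgroups_order_p hp hQc hexp]
      have hπs : Function.Surjective (QuotientGroup.mk' (Subgroup.center S)) :=
        QuotientGroup.mk'_surjective _
      apply Nat.card_congr
      refine
        { toFun := fun B => ⟨B.1.map (QuotientGroup.mk' (Subgroup.center S)), ?_⟩
          invFun := fun L => ⟨L.1.comap (QuotientGroup.mk' (Subgroup.center S)), ?_, ?_⟩
          left_inv := ?_
          right_inv := ?_ }
      · have hZB := center_le_of_abelian hp hna B.2.1 B.2.2
        have h1 : (B.1.map (QuotientGroup.mk' (Subgroup.center S))).index = p := by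
          rw [Subgroup.index_map_eq B.1 hπs (by rw [QuotientGroup.ker_mk']; exact hZB)]
          exact B.2.2
        have h2 := Subgroup.card_mul_index (B.1.map (QuotientGroup.mk' (Subgroup.center S)))
        rw [h1, hQc, sq] at h2
        exact Nat.eq_of_mul_eq_mul_right hp.pos h2
      · -- abelian
        haveI : Fact p.Prime := ⟨hp⟩
        haveI : IsCyclic ↥L.1 := isCyclic_of_prime_card L.2
        obtain ⟨⟨t, ht⟩, hgen⟩ := IsCyclic.exists_generator (α := ↥L.1)
        obtain ⟨g, rfl⟩ := hπs t
        have hform : ∀ x ∈ L.1.comap (QuotientGroup.mk' (Subgroup.center S)),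
            ∃ (i : ℤ) (z : S), z ∈ Subgroup.center S ∧ x = g ^ i * z := by
          intro x hx
          rw [Subgroup.mem_comap] at hx
          obtain ⟨i, hi⟩ := Subgroup.mem_zpowers_iff.mp (hgen ⟨_, hx⟩)
          have hi' : (QuotientGroup.mk' (Subgroup.center S) g) ^ i =
              QuotientGroup.mk' (Subgroup.center S) x := by
            have := congrArg Subtype.val hi
            simpa using this
          rw [← map_zpow] at hi'
          have hz : (g ^ i)⁻¹ * x ∈ Subgroup.center S := QuotientGroup.eq.mp hi'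
          exact ⟨i, (g ^ i)⁻¹ * x, hz, by group⟩
        refine ⟨⟨fun x y => Subtype.ext ?_⟩⟩
        obtain ⟨i, z, hz, hx⟩ := hform x.1 x.2
        obtain ⟨j, w, hw, hy⟩ := hform y.1 y.2
        simp only [Subgroup.coe_mul]
        rw [hx, hy]
        have hz' := Subgroup.mem_center_iff.mp hz
        have hw' := Subgroup.mem_center_iff.mp hw
        calc g ^ i * z * (g ^ j * w) = g ^ i * (z * g ^ j) * w := by group
          _ = g ^ i * (g ^ j * z) * w := by rw [hz' (g ^ j)]
          _ = (g ^ i * g ^ j) * (z * w) := by group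
          _ = (g ^ j * g ^ i) * (w * z) := by
              rw [← zpow_add, ← zpow_add, add_comm, hz' w]
          _ = g ^ j * (g ^ i * w) * z := by group
          _ = g ^ j * (w * g ^ i) * z := by rw [hw' (g ^ i)]
          _ = g ^ j * w * (g ^ i * z) := by group
      · rw [Subgroup.index_comap_of_surjective _ hπs]
        have h2 := Subgroup.card_mul_index L.1
        rw [L.2, hQc, sq] at h2
        exact Nat.eq_of_mul_eq_mul_left hp.pos h2
      · intro B
        apply Subtype.ext
        have hZB := center_le_of_abelian hp hna B.2.1 B.2.2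
        exact Subgroup.comap_map_eq_self (by rw [QuotientGroup.ker_mk']; exact hZB)
      · intro L
        apply Subtype.ext
        exact Subgroup.map_comap_eq_self_of_surjective hπs L.1
  · right
    have hk2 : 2 ≤ k := by omega
    have hle : p ^ 2 ≤ Nat.card (commutator S) := by
      rw [hk]; exact Nat.pow_le_pow_right hp.pos hk2
    refine ⟨hle, ?_⟩
    intro B hB hBi
    by_contra hne
    -- B not ≤ A
    have hBA : ¬ B ≤ A := by
      intro hle'
      apply hne
      have h1 := Subgroup.relIndex_mul_index hle'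
      rw [hBi, hAi] at h1
      have h2 : B.relIndex A = 1 := by
        have := Nat.eq_of_mul_eq_mul_right hp.pos (by rw [h1, one_mul] : B.relIndex A * p = 1 * p)
        exact this
      exact le_antisymm hle' (Subgroup.relIndex_eq_one.mp h2)
    obtain ⟨b, hbB, hbA⟩ := SetLike.not_le_iff_exists.mp hBA
    have hinf : A ⊓ B ≤ Subgroup.center S := by
      intro x hx
      exact mem_center_of_comm hp hA hAi hx.1 hbA (comm_of_mem hB hx.2 hbB)
    have h1 : (Subgroup.center S).index ≤ p * p := by
      calc (Subgroup.center S).index ≤ (A ⊓ B).index :=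
            Nat.le_of_dvd (Nat.pos_of_ne_zero Subgroup.index_ne_zero_of_finite)
              (Subgroup.index_dvd_of_le hinf)
        _ ≤ A.index * B.index := Subgroup.index_inf_le
        _ = p * p := by rw [hAi, hBi]
    rw [hidx] at h1
    have h2 : Nat.card (commutator S) ≤ p := Nat.le_of_mul_le_mul_left h1 hp.pos
    have h3 : p < p ^ 2 := by
      rw [sq]; exact lt_mul_of_one_lt_left hp.pos hp.one_lt
    omega

end Cfsg.Agent.S3807
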