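import Cfsg.Statements.S4584
import Mathlib
import Cfsg.Agent.S3807

set_option autoImplicit false
set_option linter.style.haveILetI false
open Cfsg
open scoped commutatorElement

namespace Cfsg.Agent.S4584

open Subgroup

section
variable {P : Type*} [Group P] [Finite P]

/-- The index of the centralizer of `a` is at most the order of any subgroup containing all
commutators with `a`. -/
theorem index_centralizer_le (a : P) (T : Subgroup P) (hT : ∀ g : P, ⁅g, a⁆ ∈ T) :
    (centralizer ({a} : Set P)).index ≤ Nat.card T := by
  rw [Subgroup.index_eq_card]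
  let f : P ⧸ centralizer ({a} : Set P) → ↥T := fun q =>
    Quotient.liftOn' q (fun g => (⟨⁅g, a⁆, hT g⟩ : ↥T)) (by
      intro g h hgh
      rw [QuotientGroup.leftRel_apply, mem_centralizer_singleton_iff] at hgh
      apply Subtype.ext
      show ⁅g, a⁆ = ⁅h, a⁆
      rw [commutatorElement_def, commutatorElement_def]
      have h1 : g * a * g⁻¹ = h * a * h⁻¹ := by
        have : h * a * h⁻¹ = g * ((g⁻¹ * h) * a) * (g⁻¹ * h)⁻¹ * g⁻¹ := by group
        rw [this, hgh]
        group
      rw [h1])
  apply Nat.card_le_card_of_injective f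
  intro q₁ q₂
  induction q₁ using Quotient.inductionOn' with
  | h g =>
  induction q₂ using Quotient.inductionOn' with
  | h h =>
  intro hfe
  have h1 : ⁅g, a⁆ = ⁅h, a⁆ := congrArg Subtype.val hfe
  apply Quotient.sound'
  rw [QuotientGroup.leftRel_apply, mem_centralizer_singleton_iff]
  rw [commutatorElement_def, commutatorElement_def] at h1
  have h2 : g * a * g⁻¹ = h * a * h⁻¹ := mul_right_cancel h1
  calc g⁻¹ * h * a = g⁻¹ * (h * a * h⁻¹) * h := by group
    _ = g⁻¹ * (g * a * g⁻¹) * h := by rw [h2]
    _ = a * (g⁻¹ * h) := by group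

/-- In a group of order `p^4`, a centralizer of index `p` of a noncentral element is abelian. -/
theorem centralizer_comm {p : ℕ} [hp : Fact p.Prime] (hP : Nat.card P = p ^ 4) (a : P)
    (ha : a ∉ center P) (hidx : (centralizer ({a} : Set P)).index = p) :
    IsMulCommutative ↥(centralizer ({a} : Set P)) := by
  have hpp : p.Prime := hp.out
  have hPp : IsPGroup p P := IsPGroup.of_card hP
  set C : Subgroup P := centralizer ({a} : Set P) with hC
  set ZC : Subgroup P := C ⊓ centralizer (C : Set P) with hZC
  have hCcard : Nat.card C = p ^ 3 := by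
    have h1 := Subgroup.card_mul_index C
    rw [hidx, hP] at h1
    have : Nat.card C * p = p ^ 3 * p := by rw [h1]; ring
    exact Nat.eq_of_mul_eq_mul_right hpp.pos this
  have hZle : center P ≤ ZC := by
    intro z hz
    rw [mem_center_iff] at hz
    refine Subgroup.mem_inf.mpr ⟨?_, ?_⟩
    · rw [hC, mem_centralizer_singleton_iff]; exact (hz a).symm
    · rw [mem_centralizer_iff]; intro c _; exact hz c
  have haZC : a ∈ ZC := by
    refine Subgroup.mem_inf.mpr ⟨?_, ?_⟩
    · rw [hC, mem_centralizer_singleton_iff]
    · rw [mem_centralizer_iff]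
      intro c hc
      exact mem_centralizer_singleton_iff.mp hc
  -- order of ZC at least p^2
  have hZCcard : p ^ 2 ≤ Nat.card ZC := by
    obtain ⟨k, hk⟩ := IsPGroup.iff_card.mp (hPp.to_subgroup ZC)
    obtain ⟨j, hj⟩ := IsPGroup.iff_card.mp (hPp.to_subgroup (center P))
    have hj0 : j ≠ 0 := by
      rintro rfl
      rw [pow_zero] at hj
      haveI : Nontrivial P := by
        rw [← Finite.one_lt_card_iff_nontrivial, hP]
        exact Nat.one_lt_pow (by norm_num) hpp.one_lt
      haveI := hPp.center_nontrivial
      exact (Subgroup.nontrivial_iff_ne_bot _).mp inferInstance (Subgroup.card_eq_one.mp hj)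
    have hlt : Nat.card (center P) < Nat.card ZC := by
      apply lt_of_le_of_ne (Subgroup.card_le_of_le hZle)
      intro heq
      have := Subgroup.eq_of_le_of_card_ge hZle (le_of_eq heq.symm)
      exact ha (this ▸ haZC)
    rw [hk, hj] at hlt
    have hjk : j < k := (Nat.pow_lt_pow_iff_right hpp.one_lt).mp hlt
    rw [hk]
    exact Nat.pow_le_pow_right hpp.pos (by omega)
  -- quotient of C by ZC is cyclic
  set Z' : Subgroup ↥C := ZC.subgroupOf C with hZ'
  have hZ'le : Z' ≤ center ↥C := by
    intro x hx
    rw [hZ', mem_subgroupOf] at hx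
    rw [mem_center_iff]
    intro y
    apply Subtype.ext
    have := (mem_centralizer_iff.mp hx.2) y.1 y.2
    simpa using this
  haveI hZ'n : Z'.Normal := by
    refine ⟨fun x hx g => ?_⟩
    have h1 := mem_center_iff.mp (hZ'le hx) g
    have : g * x * g⁻¹ = x := by rw [h1]; group
    rw [this]; exact hx
  have hZ'card : Nat.card Z' = Nat.card ZC :=
    Nat.card_congr (Subgroup.subgroupOfEquivOfLe inf_le_left).toEquiv
  have hqcard : Nat.card (↥C ⧸ Z') ∣ p := by
    have h1 := Subgroup.card_eq_card_quotient_mul_card_subgroup Z'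
    rw [hCcard, hZ'card] at h1
    obtain ⟨k, hk⟩ := IsPGroup.iff_card.mp (hPp.to_subgroup ZC)
    rw [hk] at h1 hZCcard
    have hk2 : 2 ≤ k := (Nat.pow_le_pow_iff_right hpp.one_lt).mp hZCcard
    have hk3 : k ≤ 3 := by
      have : p ^ k ∣ p ^ 3 := Dvd.intro_left _ h1.symm
      exact (Nat.pow_dvd_pow_iff_le_right hpp.one_lt).mp this
    have h2 : p ^ 3 = p ^ (3 - k) * p ^ k := by rw [← pow_add]; congr 1; omega
    rw [h2] at h1
    have h3 : Nat.card (↥C ⧸ Z') = p ^ (3 - k) :=
      (Nat.eq_of_mul_eq_mul_right (pow_pos hpp.pos k) h1).symm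
    rw [h3]
    have : 3 - k ≤ 1 := by omega
    calc p ^ (3 - k) ∣ p ^ 1 := pow_dvd_pow p this
      _ = p := pow_one p
  haveI : IsCyclic (↥C ⧸ Z') := by
    rcases (Nat.dvd_prime hpp).mp hqcard with h | h
    · haveI : Subsingleton (↥C ⧸ Z') := (Nat.card_eq_one_iff_unique.mp h).1
      infer_instance
    · exact isCyclic_of_prime_card h
  exact MonoidHom.isMulCommutative_of_isCyclic_of_ker_le_center (QuotientGroup.mk' Z')
    (by rw [QuotientGroup.ker_mk']; exact hZ'le)

end

/-- Let p be a prime and P a group of order p^4. Then the derived subgroup P' has order p if and only if the centre Z(P) has index p^2 in P. -/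
theorem result {P : Type*} [Group P] [Finite P] (p : ℕ) [Fact p.Prime] (hP : Nat.card P = p ^ 4) :
    Nat.card (commutator P) = p ↔ (Subgroup.center P).index = p ^ 2 := by
  have hpp : p.Prime := Fact.out
  have hPp : IsPGroup p P := IsPGroup.of_card hP
  have hmemcomm : ∀ a b : P, ⁅a, b⁆ ∈ commutator P := by
    intro a b
    rw [commutator_def]
    exact Subgroup.commutator_mem_commutator (Subgroup.mem_top a) (Subgroup.mem_top b)
  -- common part: from a noncentral element with centralizer of index p
  have key : ∀ a : P, a ∉ center P → (centralizer ({a} : Set P)).index = p →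
      ¬ IsMulCommutative P → (center P).index = p * Nat.card (commutator P) := by
    intro a ha hidx hna
    exact Cfsg.Agent.S3807.index_center_and_commutator hPp hna _ (centralizer_comm hP a ha hidx) hidx
  constructor
  · intro hc
    have hna : ¬ IsMulCommutative P := by
      intro hcomm
      have : commutator P = ⊥ := by
        rw [eq_bot_iff, commutator_def, Subgroup.commutator_le]
        intro a _ b _
        rw [mem_bot]
        exact commutatorElement_eq_one_iff_mul_comm.mpr (hcomm.is_comm.comm a b)
      rw [this, Subgroup.card_bot] at hc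
      exact hpp.one_lt.ne hc
    obtain ⟨a, ha⟩ : ∃ a : P, a ∉ center P := by
      by_contra hcon
      push Not at hcon
      exact hna (Subgroup.center_eq_top_iff.mp ((Subgroup.eq_top_iff' _).mpr hcon))
    have h1 : (centralizer ({a} : Set P)).index ≤ p := by
      rw [← hc]
      exact index_centralizer_le a (commutator P) (fun g => hmemcomm g a)
    have h2 : (centralizer ({a} : Set P)).index ∣ p ^ 4 := hP ▸ Subgroup.index_dvd_card _
    obtain ⟨j, -, hj⟩ := (Nat.dvd_prime_pow hpp).mp h2
    have hj0 : j ≠ 0 := by
      rintro rfl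
      rw [pow_zero, Subgroup.index_eq_one] at hj
      apply ha
      rw [mem_center_iff]
      intro g
      have : g ∈ centralizer ({a} : Set P) := hj ▸ Subgroup.mem_top g
      exact mem_centralizer_singleton_iff.mp this
    have hj1 : j ≤ 1 := by
      rw [hj] at h1
      by_contra hcon
      push Not at hcon
      have : p ^ 2 ≤ p ^ j := Nat.pow_le_pow_right hpp.pos hcon
      have h3 : p < p ^ 2 := by
        rw [sq]; exact lt_mul_of_one_lt_left hpp.pos hpp.one_lt
      omega
    have hidx : (centralizer ({a} : Set P)).index = p := by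
      rw [hj]
      have : j = 1 := by omega
      rw [this, pow_one]
    rw [key a ha hidx hna, hc, sq]
  · intro hz
    have hna : ¬ IsMulCommutative P := by
      intro hcomm
      rw [Subgroup.center_eq_top_iff.mpr hcomm, Subgroup.index_top] at hz
      have : 1 < p ^ 2 := Nat.one_lt_pow (by norm_num) hpp.one_lt
      omega
    obtain ⟨a, ha⟩ : ∃ a : P, a ∉ center P := by
      by_contra hcon
      push Not at hcon
      exact hna (Subgroup.center_eq_top_iff.mp ((Subgroup.eq_top_iff' _).mpr hcon))
    have hZcard : Nat.card (center P) = p ^ 2 := by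
      have h1 := Subgroup.card_mul_index (center P)
      rw [hz, hP] at h1
      have : Nat.card (center P) * p ^ 2 = p ^ 2 * p ^ 2 := by rw [h1]; ring
      exact Nat.eq_of_mul_eq_mul_right (pow_pos hpp.pos 2) this
    have hZC : center P ≤ centralizer ({a} : Set P) := by
      intro z hz'
      rw [mem_centralizer_singleton_iff]
      exact ((mem_center_iff.mp hz') a).symm
    have haC : a ∈ centralizer ({a} : Set P) := by
      rw [mem_centralizer_singleton_iff]
    obtain ⟨k, hk⟩ := IsPGroup.iff_card.mp (hPp.to_subgroup (centralizer ({a} : Set P)))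
    have hlt : Nat.card (center P) < Nat.card (centralizer ({a} : Set P)) := by
      apply lt_of_le_of_ne (Subgroup.card_le_of_le hZC)
      intro heq
      have := Subgroup.eq_of_le_of_card_ge hZC (le_of_eq heq.symm)
      exact ha (this ▸ haC)
    rw [hk, hZcard] at hlt
    have hk2 : 2 < k := (Nat.pow_lt_pow_iff_right hpp.one_lt).mp hlt
    have hk4 : k ≤ 4 := by
      have : p ^ k ∣ p ^ 4 := by
        rw [← hk, ← hP]; exact Subgroup.card_subgroup_dvd_card _
      exact (Nat.pow_dvd_pow_iff_le_right hpp.one_lt).mp this
    have hk4' : k ≠ 4 := by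
      rintro rfl
      apply ha
      have htop : centralizer ({a} : Set P) = ⊤ := by
        apply Subgroup.eq_top_of_card_eq
        rw [hk, hP]
      rw [mem_center_iff]
      intro g
      have : g ∈ centralizer ({a} : Set P) := htop ▸ Subgroup.mem_top g
      exact mem_centralizer_singleton_iff.mp this
    have hk3 : k = 3 := by omega
    have hidx : (centralizer ({a} : Set P)).index = p := by
      have h1 := Subgroup.card_mul_index (centralizer ({a} : Set P))
      rw [hk, hk3, hP] at h1
      have : p ^ 3 * (centralizer ({a} : Set P)).index = p ^ 3 * p := by rw [h1]; ring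
      exact Nat.eq_of_mul_eq_mul_left (pow_pos hpp.pos 3) this
    have h2 := key a ha hidx hna
    rw [hz, sq] at h2
    exact (Nat.eq_of_mul_eq_mul_left hpp.pos h2).symm

end Cfsg.Agent.S4584
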