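import Cfsg.Statements.S0110
import Mathlib
import Cfsg.Agent.S4584
import Cfsg.Agent.S0129
import Cfsg.Agent.Lib_helper1_Compl

set_option autoImplicit false
set_option linter.style.haveILetI false
open Cfsg
open scoped commutatorElement

namespace Cfsg.Agent.S0110

open Subgroup

/-- In a p-group G, an extraspecial subgroup E with [G, E] ≤ Z(E) satisfies G = E C_G(E). -/
theorem result {G : Type*} [Group G] [Finite G] {p : ℕ} [Fact p.Prime] (hG : IsPGroup p G) (E : Subgroup G) (hE : Cfsg.IsExtraspecial p E) (h : ⁅(⊤ : Subgroup G), E⁆ ≤ E ⊓ Subgroup.centralizer (E : Set G)) : E ⊔ Subgroup.centralizer (E : Set G) = ⊤ := by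
  have hpp : p.Prime := Fact.out
  set Z : Subgroup G := E ⊓ centralizer (E : Set G) with hZ
  have hcomm : ∀ g : G, ∀ e ∈ E, ⁅g, e⁆ ∈ Z := fun g e he =>
    h (Subgroup.commutator_mem_commutator (Subgroup.mem_top g) he)
  -- E is normal
  haveI hEn : E.Normal := by
    refine ⟨fun e he g => ?_⟩
    have h1 : ⁅g, e⁆ ∈ E := (hcomm g e he).1
    have h2 : g * e * g⁻¹ = ⁅g, e⁆ * e := by rw [commutatorElement_def]; group
    rw [h2]; exact E.mul_mem h1 he
  haveI hZn : Z.Normal := inferInstance
  -- order of Z
  have hZcard : Nat.card Z = p := by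
    have hmap : (center ↥E).map E.subtype = Z := by
      ext g
      constructor
      · rintro ⟨x, hx, rfl⟩
        refine Subgroup.mem_inf.mpr ⟨x.2, ?_⟩
        rw [mem_centralizer_iff]
        intro k hk
        have := (mem_center_iff.mp hx) ⟨k, hk⟩
        exact congrArg Subtype.val this
      · intro hg
        have hg' := Subgroup.mem_inf.mp hg
        have hcen : (⟨g, hg'.1⟩ : ↥E) ∈ center ↥E := by
          rw [mem_center_iff]
          intro y
          apply Subtype.ext
          exact (mem_centralizer_iff.mp hg'.2) y.1 y.2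
        exact ⟨⟨g, hg'.1⟩, hcen, rfl⟩
    rw [← hmap, Subgroup.card_map_of_injective (Subgroup.subtype_injective E)]
    exact hE.2
  -- Z is central in G
  have hZcentral : ∀ z ∈ Z, ∀ g : G, g * z = z * g := by
    obtain ⟨B, hBn, hBZ, hBcard, hB⟩ := Cfsg.Agent.S0129.exists_normal_index_p 0 G hG Z hZn
      (by rw [hZcard, zero_add, pow_one])
    rw [pow_zero] at hBcard
    have hBbot : B = ⊥ := Subgroup.card_eq_one.mp hBcard
    intro z hz g
    have := hB g z hz
    rw [hBbot, mem_bot] at this
    calc g * z = (g * z * g⁻¹ * z⁻¹) * (z * g) := by group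
      _ = z * g := by rw [this, one_mul]
  -- the family of good subgroups
  have hfin : {F : Subgroup G | Z ≤ F ∧ F ≤ E ∧
      (centralizer (F : Set G)).index * p ≤ Nat.card F}.Finite := Set.toFinite _
  have hne : {F : Subgroup G | Z ≤ F ∧ F ≤ E ∧
      (centralizer (F : Set G)).index * p ≤ Nat.card F}.Nonempty := by
    refine ⟨Z, le_rfl, inf_le_left, ?_⟩
    have : centralizer (Z : Set G) = ⊤ := by
      rw [eq_top_iff]
      intro g _
      rw [mem_centralizer_iff]
      intro z hz
      exact (hZcentral z hz g).symm
    rw [this, Subgroup.index_top, one_mul, hZcard]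
  obtain ⟨F, ⟨hZF, hFE, hFb⟩, hmax⟩ := Set.exists_max_image _ (fun F : Subgroup G => Nat.card F)
    hfin hne
  have hFeq : F = E := by
    by_contra hFne
    have hlt : F < E := lt_of_le_of_ne hFE hFne
    obtain ⟨e, heE, heF⟩ := SetLike.exists_of_lt hlt
    set F' : Subgroup G := F ⊔ zpowers e with hF'
    have hFF' : F < F' := by
      apply lt_of_le_of_ne le_sup_left
      intro heq
      apply heF
      rw [heq]
      exact le_sup_right (a := F) (mem_zpowers e)
    have hF'E : F' ≤ E := sup_le hFE (zpowers_le.mpr heE)
    -- card F' ≥ p * card F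
    have hcardF' : p * Nat.card F ≤ Nat.card F' := by
      obtain ⟨a, ha⟩ := IsPGroup.iff_card.mp (hG.to_subgroup F)
      obtain ⟨b, hb⟩ := IsPGroup.iff_card.mp (hG.to_subgroup F')
      have hlt' : Nat.card F < Nat.card F' := by
        apply lt_of_le_of_ne (Subgroup.card_le_of_le hFF'.le)
        intro heq
        exact hFF'.ne (Subgroup.eq_of_le_of_card_ge hFF'.le (le_of_eq heq.symm))
      rw [ha, hb] at hlt' ⊢
      have hab : a < b := (Nat.pow_lt_pow_iff_right hpp.one_lt).mp hlt'
      calc p * p ^ a = p ^ (a + 1) := by rw [pow_succ, mul_comm]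
        _ ≤ p ^ b := Nat.pow_le_pow_right hpp.pos hab
    -- index bound
    have hidx : (centralizer (F' : Set G)).index ≤ (centralizer (F : Set G)).index * p := by
      have hle : centralizer (F : Set G) ⊓ centralizer ({e} : Set G) ≤ centralizer (F' : Set G) := by
        intro x hx
        rw [mem_centralizer_iff]
        have h1 : F ≤ centralizer ({x} : Set G) := by
          intro f hf
          rw [mem_centralizer_singleton_iff]
          exact ((mem_centralizer_iff.mp hx.1) f hf)
        have h2 : zpowers e ≤ centralizer ({x} : Set G) := by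
          rw [zpowers_le, mem_centralizer_singleton_iff]
          exact (mem_centralizer_singleton_iff.mp hx.2).symm
        intro k hk
        have := (sup_le h1 h2) hk
        exact mem_centralizer_singleton_iff.mp this
      have h3 : (centralizer ({e} : Set G)).index ≤ p := by
        rw [← hZcard]
        exact Cfsg.Agent.S4584.index_centralizer_le e Z (fun g => hcomm g e heE)
      calc (centralizer (F' : Set G)).index
          ≤ (centralizer (F : Set G) ⊓ centralizer ({e} : Set G)).index :=
            Nat.le_of_dvd (Nat.pos_of_ne_zero Subgroup.index_ne_zero_of_finite)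
              (Subgroup.index_dvd_of_le hle)
        _ ≤ (centralizer (F : Set G)).index * (centralizer ({e} : Set G)).index :=
            Subgroup.index_inf_le
        _ ≤ (centralizer (F : Set G)).index * p := Nat.mul_le_mul_left _ h3
    have hF'mem : F' ∈ {F : Subgroup G | Z ≤ F ∧ F ≤ E ∧
        (centralizer (F : Set G)).index * p ≤ Nat.card F} := by
      refine ⟨hZF.trans hFF'.le, hF'E, ?_⟩
      calc (centralizer (F' : Set G)).index * p
          ≤ (centralizer (F : Set G)).index * p * p := Nat.mul_le_mul_right _ hidx
        _ ≤ Nat.card F * p := Nat.mul_le_mul_right _ hFb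
        _ = p * Nat.card F := mul_comm _ _
        _ ≤ Nat.card F' := hcardF'
    have := hmax F' hF'mem
    have hlt' : Nat.card F < Nat.card F' := by
      apply lt_of_le_of_ne (Subgroup.card_le_of_le hFF'.le)
      intro heq
      exact hFF'.ne (Subgroup.eq_of_le_of_card_ge hFF'.le (le_of_eq heq.symm))
    omega
  rw [hFeq] at hFb
  -- counting
  set C : Subgroup G := centralizer (E : Set G) with hC
  have h1 := Cfsg.Agent.helper1.card_sup_eq_of_normal E C
  have h2 : E.relIndex C * Nat.card Z = Nat.card C := by
    rw [← Subgroup.inf_relIndex_right]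
    have := Subgroup.relIndex_mul_relIndex ⊥ (E ⊓ C) C bot_le inf_le_right
    rw [Subgroup.relIndex_bot_left, Subgroup.relIndex_bot_left] at this
    rw [mul_comm]; exact this
  have h3 := Subgroup.card_mul_index C
  apply Subgroup.eq_top_of_card_eq
  apply le_antisymm (Subgroup.card_le_card_group _)
  rw [h1, ← h3]
  rw [hZcard] at h2
  -- card C * index ≤ card E * relIndex
  have h4 : Nat.card C * C.index * p ≤ Nat.card E * E.relIndex C * p := by
    calc Nat.card C * C.index * p = Nat.card C * (C.index * p) := by ring
      _ ≤ Nat.card C * Nat.card E := Nat.mul_le_mul_left _ hFb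
      _ = E.relIndex C * p * Nat.card E := by rw [h2]
      _ = Nat.card E * E.relIndex C * p := by ring
  exact Nat.le_of_mul_le_mul_right h4 hpp.pos

end Cfsg.Agent.S0110
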