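import Mathlib
import Cfsg.Statements.S0113
import Cfsg.Agent.Lib_helper17_MaxClass2

set_option autoImplicit false

open Cfsg

namespace Cfsg.Agent.S0113

open Cfsg.Agent.helper17.MC2

theorem result {X : Type*} [Group X] [Finite X] (n : ℕ) (hn : 3 ≤ n) (hX : Nat.card X = 2 ^ n) (hc : Group.nilpotencyClass X = n - 1) : ∃ C : Subgroup X, IsCyclic C ∧ C.index = 2 := by
  obtain ⟨hidx, _⟩ := index_commutator_of_class n X hn hX hc
  exact exists_cyclic_index_two n X (by omega) hX hidx

end Cfsg.Agent.S0113
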