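import Mathlib
import Cfsg.Statements.S0114
import Cfsg.Agent.Lib_helper17_MaxClass2
import Cfsg.Agent.Lib_helper11_DihPres

set_option autoImplicit false

open Cfsg

namespace Cfsg.Agent.S0114

open Cfsg.Agent.helper17.MC2

theorem result {X : Type*} [Group X] [Finite X] (n : ℕ) (hn : 3 ≤ n) (hX : Nat.card X = 2 ^ n) (hc : Group.nilpotencyClass X = n - 1) : Nonempty (X ⧸ Subgroup.center X ≃* DihedralGroup (2 ^ (n - 2))) := by
  obtain ⟨hidx, _⟩ := index_commutator_of_class n X hn hX hc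
  obtain ⟨a, b, ha, hb, hcases⟩ := taussky n X hn hX hidx
  obtain ⟨hcen, hcenle⟩ := card_center_eq_two n X hn hX hidx
  have h8 : 2 ^ n ≥ 8 := by
    calc 2 ^ n ≥ 2 ^ 3 := Nat.pow_le_pow_right (by norm_num) hn
      _ = 8 := by norm_num
  have hXne : commutator X ≠ ⊥ := by
    intro h
    rw [h, Subgroup.index_bot, hX] at hidx
    omega
  have hHidx := index_zpowers_eq_two n (by omega) hX a ha
  have hcenH : Subgroup.center X ≤ Subgroup.zpowers a :=
    center_le_of_index_two _ hHidx (comm_zpowers a) hXne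
  -- the central involution
  have hz2 : (a ^ (2 ^ (n - 2))) ^ 2 = 1 := by
    rw [← pow_mul, ← pow_succ, show n - 2 + 1 = n - 1 by omega, ← ha, pow_orderOf_eq_one]
  have hz1 : a ^ (2 ^ (n - 2)) ≠ 1 := by
    apply pow_ne_one_of_lt_orderOf (by positivity)
    rw [ha]
    exact Nat.pow_lt_pow_right (by norm_num) (by omega)
  have hzo : orderOf (a ^ (2 ^ (n - 2))) = 2 := orderOf_eq_prime hz2 hz1
  have hzc : a ^ (2 ^ (n - 2)) ∈ Subgroup.center X := by
    haveI : Fact (Nat.Prime 2) := ⟨Nat.prime_two⟩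
    obtain ⟨⟨t, htc⟩, ht⟩ := exists_prime_orderOf_dvd_card' (G := Subgroup.center X) 2
      (by rw [hcen])
    have ht2 : orderOf t = 2 := by rwa [Subgroup.orderOf_mk] at ht
    have := Cfsg.Agent.S0213.unique_invol a (hcenH htc)
      (pow_mem (Subgroup.mem_zpowers a) _) ht2 hzo
    rw [← this]; exact htc
  have hmk1 : ∀ t ∈ Subgroup.center X, (t : X ⧸ Subgroup.center X) = 1 :=
    fun t ht => (QuotientGroup.eq_one_iff t).2 ht
  have hQcard : Nat.card (X ⧸ Subgroup.center X) = 2 ^ (n - 1) := by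
    have h1 := (Subgroup.center X).card_mul_index
    rw [hcen, hX, Subgroup.index_eq_card] at h1
    have h2 : 2 ^ n = 2 * 2 ^ (n - 1) := by
      conv_lhs => rw [show n = (n - 1) + 1 by omega, pow_succ']
    omega
  have hsurj : Function.Surjective (QuotientGroup.mk' (Subgroup.center X)) :=
    QuotientGroup.mk'_surjective _
  -- relations in the quotient
  have hx : (a : X ⧸ Subgroup.center X) ^ (2 ^ (n - 2)) = 1 := by
    rw [← QuotientGroup.mk_pow]; exact hmk1 _ hzc
  have hord : orderOf (a : X ⧸ Subgroup.center X) = 2 ^ (n - 2) := by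
    have h1 : ((Subgroup.zpowers a).map (QuotientGroup.mk' (Subgroup.center X))).index = 2 := by
      rw [Subgroup.index_map_eq _ hsurj (by rw [QuotientGroup.ker_mk']; exact hcenH)]
      exact hHidx
    rw [MonoidHom.map_zpowers] at h1
    have h2 := (Subgroup.zpowers ((QuotientGroup.mk' (Subgroup.center X)) a)).card_mul_index
    rw [h1, hQcard, Nat.card_zpowers] at h2
    have h3 : 2 ^ (n - 1) = 2 ^ (n - 2) * 2 := by
      conv_lhs => rw [show n - 1 = (n - 2) + 1 by omega, pow_succ]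
    rw [h3] at h2
    exact Nat.eq_of_mul_eq_mul_right (by norm_num) h2
  have hy : (b : X ⧸ Subgroup.center X) * (b : X ⧸ Subgroup.center X) = 1 := by
    rw [← QuotientGroup.mk_mul, ← pow_two]
    rcases hcases with ⟨hb2, _⟩ | ⟨hb2, _⟩ | ⟨_, hb2, _⟩
    · rw [hb2]; rfl
    · rw [hb2]; exact hmk1 _ hzc
    · rw [hb2]; rfl
  have hxy : (b : X ⧸ Subgroup.center X) * (a : X ⧸ Subgroup.center X) *
      (b : X ⧸ Subgroup.center X)⁻¹ = (a : X ⧸ Subgroup.center X)⁻¹ := by
    rw [← QuotientGroup.mk_inv, ← QuotientGroup.mk_mul, ← QuotientGroup.mk_mul]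
    rcases hcases with ⟨_, hba⟩ | ⟨_, hba⟩ | ⟨_, _, hba⟩
    · rw [hba]; rfl
    · rw [hba]; rfl
    · rw [hba, QuotientGroup.mk_pow]
      apply eq_inv_of_mul_eq_one_left
      rw [← pow_succ, show 2 ^ (n - 2) - 1 + 1 = 2 ^ (n - 2) by
        have : 0 < 2 ^ (n - 2) := by positivity
        omega]
      exact hx
  have hyx : (b : X ⧸ Subgroup.center X) ∉ Subgroup.zpowers (a : X ⧸ Subgroup.center X) := by
    intro h
    obtain ⟨k, hk⟩ := Subgroup.mem_zpowers_iff.1 h
    have h1 : (a ^ k)⁻¹ * b ∈ Subgroup.center X :=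
      QuotientGroup.eq.1 (by rw [QuotientGroup.mk_zpow]; exact hk)
    apply hb
    have e : b = a ^ k * ((a ^ k)⁻¹ * b) := by group
    rw [e]
    exact mul_mem (zpow_mem (Subgroup.mem_zpowers a) k) (hcenH h1)
  haveI : NeZero (2 ^ (n - 2)) := ⟨by positivity⟩
  have hinj := Cfsg.Agent.helper11.DihPres.dihHom_injective (n := 2 ^ (n - 2)) hx hord hy hxy hyx
  have hbij : Function.Bijective
      (Cfsg.Agent.helper11.DihPres.dihHom (a : X ⧸ Subgroup.center X)
        (b : X ⧸ Subgroup.center X) hx hy hxy) := by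
    apply hinj.bijective_of_nat_card_le
    rw [DihedralGroup.nat_card, hQcard]
    have : 2 ^ (n - 1) = 2 * 2 ^ (n - 2) := by
      conv_lhs => rw [show n - 1 = (n - 2) + 1 by omega, pow_succ']
    omega
  exact ⟨(MulEquiv.ofBijective _ hbij).symm⟩

end Cfsg.Agent.S0114
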