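import Mathlib
import Cfsg.Statements.S0115
import Cfsg.Agent.Lib_helper17_MaxClass2

set_option autoImplicit false

open Cfsg

namespace Cfsg.Agent.S0115

open Cfsg.Agent.helper17.MC2

theorem result {X : Type*} [Group X] [Finite X] (n : ℕ) (hn : 3 ≤ n) (hX : Nat.card X = 2 ^ n) : Group.nilpotencyClass X = n - 1 ↔ IsKleinFour (X ⧸ commutator X) := by
  constructor
  · intro hc
    obtain ⟨hidx, hnc⟩ := index_commutator_of_class n X hn hX hc
    exact isKleinFour_of_card_four (by rw [← Subgroup.index_eq_card, hidx]) hnc
  · intro hK
    have hidx : (commutator X).index = 4 := by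
      rw [Subgroup.index_eq_card]; exact hK.card_four
    exact class_eq n X (by omega) hX hidx

end Cfsg.Agent.S0115
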