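import Cfsg.Statements.S0116
import Cfsg.Agent.Lib_helper10_Control
import Cfsg.Agent.Lib_helper7_SN
import Cfsg.Agent.Lib_lead_SZ
import Cfsg.Agent.Lib_helper5_QuasiElem

set_option autoImplicit false
open Cfsg

namespace Cfsg.Agent.S0116

open Cfsg.Agent.helper7 Cfsg.Agent.helper10 Cfsg.Agent.lead

variable {G : Type*} [Group G]

/-- tame intersections with `P` -/
def tameFam {p : ℕ} [Fact p.Prime] (P : Sylow p G) : Set (Subgroup G) :=
  {U | ∃ Q : Sylow p G, U = (P : Subgroup G) ⊓ (Q : Subgroup G) ∧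
    ¬ p ∣ ((P : Subgroup G) ⊓ Subgroup.normalizer (U : Set G)).relIndex (Subgroup.normalizer (U : Set G)) ∧
    ¬ p ∣ ((Q : Subgroup G) ⊓ Subgroup.normalizer (U : Set G)).relIndex (Subgroup.normalizer (U : Set G))}

theorem rconj_coe' (T : Subgroup G) (g : G) : rconj (T : Set G) g = ((cj g⁻¹ T : Subgroup G) : Set G) :=
  rconj_coe T g

theorem chain_end {p : ℕ} [Fact p.Prime] (P : Sylow p G) :
    ∀ (l : List (Subgroup G × G)) (A : Set G), ChainCond A l →
      (∀ q ∈ l, q.1 ∈ tameFam P ∧ q.2 ∈ Subgroup.normalizer ((q.1 : Subgroup G) : Set G)) →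
      A ⊆ ((P : Subgroup G) : Set G) → rconj A (l.map Prod.snd).prod ⊆ ((P : Subgroup G) : Set G) := by
  intro l
  induction l with
  | nil => intro A _ _ hA; simpa [rconj_one] using hA
  | cons q l ih =>
    intro A hc hq hA
    obtain ⟨h1, h2⟩ := hc
    have hq1 := hq q (List.mem_cons_self)
    have hqP : q.1 ≤ (P : Subgroup G) := by
      obtain ⟨Q, hU, -, -⟩ := hq1.1
      rw [hU]; exact inf_le_left
    have h3 : rconj A q.2 ⊆ ((P : Subgroup G) : Set G) := by
      have : rconj A q.2 ⊆ rconj (q.1 : Set G) q.2 := rconj_mono h1 _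
      rw [rconj_eq_self_of_mem_normalizer _ _ hq1.2] at this
      exact this.trans hqP
    have := ih (rconj A q.2) h2 (fun q' hq' => hq q' (List.mem_cons_of_mem _ hq')) h3
    rw [rconj_rconj] at this
    simpa using this

theorem isChain_end {p : ℕ} [Fact p.Prime] (P : Sylow p G) {A : Set G} {x : G}
    (h : IsChain (tameFam P) A x) (hA : A ⊆ ((P : Subgroup G) : Set G)) :
    rconj A x ⊆ ((P : Subgroup G) : Set G) := by
  obtain ⟨l, h1, h2, h3⟩ := h
  rw [← h1]
  exact chain_end P l A h3 h2 hA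

/-- `Q` is related to `P`. -/
def Rel {p : ℕ} [Fact p.Prime] (P Q : Sylow p G) : Prop :=
  ∃ x : G, IsChain (tameFam P) (((P : Subgroup G) ⊓ (Q : Subgroup G) : Subgroup G) : Set G) x ∧
    cj x⁻¹ (Q : Subgroup G) = (P : Subgroup G)

theorem coe_smul_sylow {p : ℕ} [Fact p.Prime] (Q : Sylow p G) (z : G) :
    ((z • Q : Sylow p G) : Subgroup G) = cj z (Q : Subgroup G) := by
  rw [Sylow.coe_subgroup_smul, smul_eq_cj]

theorem rel_step {p : ℕ} [Fact p.Prime] (P Q : Sylow p G) (z : G)
    (hz : IsChain (tameFam P) (((P : Subgroup G) ⊓ (Q : Subgroup G) : Subgroup G) : Set G) z)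
    (hr : Rel P (z⁻¹ • Q)) : Rel P Q := by
  obtain ⟨w, hw, hwP⟩ := hr
  rw [coe_smul_sylow] at hw hwP
  refine ⟨z * w, ?_, ?_⟩
  · apply isChain_trans hz
    refine isChain_mono ?_ hw
    intro y hy
    have h1 : y ∈ ((P : Subgroup G) : Set G) := isChain_end P hz (by intro a ha; exact ha.1) hy
    have h2 : y ∈ rconj ((Q : Subgroup G) : Set G) z := rconj_mono (by intro a ha; exact ha.2) z hy
    rw [rconj_coe'] at h2
    exact ⟨h1, h2⟩
  · rw [cj_cj] at hwP
    rw [mul_inv_rev]; exact hwP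

theorem card_sylow_eq [Finite G] {p : ℕ} [Fact p.Prime] (P Q : Sylow p G) :
    Nat.card (Q : Subgroup G) = Nat.card (P : Subgroup G) := by
  rw [Sylow.card_eq_multiplicity, Sylow.card_eq_multiplicity]

theorem rel_of_le [Finite G] {p : ℕ} [Fact p.Prime] (P Q : Sylow p G)
    (h : (P : Subgroup G) ≤ (Q : Subgroup G)) : Rel P Q := by
  have hQP : (Q : Subgroup G) = (P : Subgroup G) :=
    (Subgroup.eq_of_le_of_card_ge h (card_sylow_eq P Q).le).symm
  refine ⟨1, isChain_one _ _, ?_⟩
  rw [inv_one, cj_one, hQP]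

theorem main [Finite G] {p : ℕ} [Fact p.Prime] (P : Sylow p G) :
    ∀ (m : ℕ) (Q : Sylow p G),
      Nat.card (P : Subgroup G) - Nat.card ((P : Subgroup G) ⊓ (Q : Subgroup G) : Subgroup G) = m → Rel P Q := by
  intro m
  induction m using Nat.strong_induction_on with
  | _ m IH =>
    -- common finishing step
    have finish : ∀ (Q : Sylow p G) (z : G),
        Nat.card (P : Subgroup G) - Nat.card ((P : Subgroup G) ⊓ (Q : Subgroup G) : Subgroup G) = m →
        IsChain (tameFam P) (((P : Subgroup G) ⊓ (Q : Subgroup G) : Subgroup G) : Set G) z →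
        (∃ X : Subgroup G, X ≤ (Q : Subgroup G) ∧
          Nat.card ((P : Subgroup G) ⊓ (Q : Subgroup G) : Subgroup G) < Nat.card X ∧
          cj z⁻¹ X ≤ (P : Subgroup G)) → Rel P Q := by
      intro Q z hm hz ⟨X, hXQ, hXc, hXP⟩
      apply rel_step P Q z hz
      have hle : cj z⁻¹ X ≤ (P : Subgroup G) ⊓ ((z⁻¹ • Q : Sylow p G) : Subgroup G) := by
        rw [coe_smul_sylow]
        exact le_inf hXP (cj_mono hXQ)
      have hc : Nat.card X ≤ Nat.card ((P : Subgroup G) ⊓ ((z⁻¹ • Q : Sylow p G) : Subgroup G) : Subgroup G) := by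
        have := Subgroup.card_le_of_le hle
        rwa [card_cj] at this
      have hPc : Nat.card ((P : Subgroup G) ⊓ ((z⁻¹ • Q : Sylow p G) : Subgroup G) : Subgroup G)
          ≤ Nat.card (P : Subgroup G) := Subgroup.card_le_of_le inf_le_left
      exact IH _ (by omega) _ rfl
    -- Claim 1
    have claim1 : ∀ Q : Sylow p G,
        Nat.card (P : Subgroup G) - Nat.card ((P : Subgroup G) ⊓ (Q : Subgroup G) : Subgroup G) = m →
        ¬ p ∣ ((P : Subgroup G) ⊓ Subgroup.normalizer ((((P : Subgroup G) ⊓ (Q : Subgroup G)) : Subgroup G) : Set G)).relIndex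
          (Subgroup.normalizer ((((P : Subgroup G) ⊓ (Q : Subgroup G)) : Subgroup G) : Set G)) → Rel P Q := by
      intro Q hm htame
      by_cases hPQ : (P : Subgroup G) ≤ (Q : Subgroup G)
      · exact rel_of_le P Q hPQ
      set D : Subgroup G := (P : Subgroup G) ⊓ (Q : Subgroup G) with hD
      set N : Subgroup G := Subgroup.normalizer (D : Set G) with hN
      have hDQ : D < (Q : Subgroup G) := by
        refine lt_of_le_of_ne inf_le_right ?_
        intro h
        have h1 : (Q : Subgroup G) ≤ (P : Subgroup G) := by rw [← h]; exact inf_le_left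
        have h2 : (Q : Subgroup G) = (P : Subgroup G) :=
          Subgroup.eq_of_le_of_card_ge h1 (card_sylow_eq Q P).le
        exact hPQ h2.ge
      have hDN : D < (Q : Subgroup G) ⊓ N := lt_inf_normalizer_of_lt Q.2 hDQ
      have hcardDN : Nat.card D < Nat.card ((Q : Subgroup G) ⊓ N : Subgroup G) := by
        refine lt_of_le_of_ne (Subgroup.card_le_of_le hDN.le) ?_
        intro h
        exact hDN.ne (Subgroup.eq_of_le_of_card_ge hDN.le h.ge)
      have hQNp : IsPGroup p ((Q : Subgroup G) ⊓ N : Subgroup G) := Q.2.to_le inf_le_left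
      obtain ⟨T, hT1, hT2, hT3, hT4⟩ := helper5.exists_sylow_in_subgroup p N _ (inf_le_right : (Q : Subgroup G) ⊓ N ≤ N) hQNp
      obtain ⟨Q', hQ'⟩ := hT3.exists_le_sylow
      have hQ'tame : ¬ p ∣ ((Q' : Subgroup G) ⊓ N).relIndex N := by
        intro h
        exact hT4 (dvd_trans h (Subgroup.relIndex_dvd_of_le_left N (le_inf hQ' hT2)))
      have hDQ' : D ≤ (P : Subgroup G) ⊓ (Q' : Subgroup G) :=
        le_inf inf_le_left ((hDN.le.trans hT1).trans hQ')
      by_cases hcase : (P : Subgroup G) ⊓ (Q' : Subgroup G) = D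
      · -- Case A
        have hDF : D ∈ tameFam P := ⟨Q', hcase.symm, htame, hQ'tame⟩
        obtain ⟨u, huN, hu⟩ := pgroup_conj_into_relSylow N ((Q : Subgroup G) ⊓ N) ((P : Subgroup G) ⊓ N)
          inf_le_right hQNp (P.2.to_le inf_le_left) htame
        have hvN : u⁻¹ ∈ N := N.inv_mem huN
        refine finish Q u⁻¹ hm (isChain_single hDF hvN (le_refl _)) ⟨(Q : Subgroup G) ⊓ N, inf_le_left, hcardDN, ?_⟩
        rw [inv_inv]
        exact hu.trans inf_le_left
      · -- Case B
        have hlt : D < (P : Subgroup G) ⊓ (Q' : Subgroup G) := lt_of_le_of_ne hDQ' (Ne.symm hcase)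
        have hcardlt : Nat.card D < Nat.card ((P : Subgroup G) ⊓ (Q' : Subgroup G) : Subgroup G) := by
          refine lt_of_le_of_ne (Subgroup.card_le_of_le hlt.le) ?_
          intro h
          exact hlt.ne (Subgroup.eq_of_le_of_card_ge hlt.le h.ge)
        have hPc : Nat.card ((P : Subgroup G) ⊓ (Q' : Subgroup G) : Subgroup G)
            ≤ Nat.card (P : Subgroup G) := Subgroup.card_le_of_le inf_le_left
        obtain ⟨z, hz, hzP⟩ := IH _ (by omega) Q' rfl
        refine finish Q z hm (isChain_mono (SetLike.coe_subset_coe.mpr hDQ') hz)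
          ⟨(Q : Subgroup G) ⊓ N, inf_le_left, hcardDN, ?_⟩
        rw [← hzP]
        exact cj_mono (hT1.trans hQ')
    -- Claim 2
    intro Q hm
    by_cases hPQ : (P : Subgroup G) ≤ (Q : Subgroup G)
    · exact rel_of_le P Q hPQ
    set D : Subgroup G := (P : Subgroup G) ⊓ (Q : Subgroup G) with hD
    set N : Subgroup G := Subgroup.normalizer (D : Set G) with hN
    have hDP : D < (P : Subgroup G) := by
      refine lt_of_le_of_ne inf_le_left ?_
      intro h
      apply hPQ
      rw [← h]; exact inf_le_right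
    have hDN : D < (P : Subgroup G) ⊓ N := lt_inf_normalizer_of_lt P.2 hDP
    have hcardDN : Nat.card D < Nat.card ((P : Subgroup G) ⊓ N : Subgroup G) := by
      refine lt_of_le_of_ne (Subgroup.card_le_of_le hDN.le) ?_
      intro h
      exact hDN.ne (Subgroup.eq_of_le_of_card_ge hDN.le h.ge)
    have hPNp : IsPGroup p ((P : Subgroup G) ⊓ N : Subgroup G) := P.2.to_le inf_le_left
    obtain ⟨T, hT1, hT2, hT3, hT4⟩ := helper5.exists_sylow_in_subgroup p N _ (inf_le_right : (P : Subgroup G) ⊓ N ≤ N) hPNp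
    obtain ⟨S, hS⟩ := hT3.exists_le_sylow
    have hPS : (P : Subgroup G) ⊓ N ≤ (P : Subgroup G) ⊓ (S : Subgroup G) :=
      le_inf inf_le_left (hT1.trans hS)
    have hcardPS : Nat.card D < Nat.card ((P : Subgroup G) ⊓ (S : Subgroup G) : Subgroup G) :=
      lt_of_lt_of_le hcardDN (Subgroup.card_le_of_le hPS)
    have hPc : Nat.card ((P : Subgroup G) ⊓ (S : Subgroup G) : Subgroup G)
        ≤ Nat.card (P : Subgroup G) := Subgroup.card_le_of_le inf_le_left
    obtain ⟨x, hx, hxP⟩ := IH _ (by omega) S rfl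
    have hxD : IsChain (tameFam P) (D : Set G) x :=
      isChain_mono (SetLike.coe_subset_coe.mpr (hDN.le.trans hPS)) hx
    apply rel_step P Q x hxD
    -- D^x ≤ P ⊓ Q^x
    have hDxP : cj x⁻¹ D ≤ (P : Subgroup G) := by
      have := isChain_end P hxD (SetLike.coe_subset_coe.mpr hDP.le)
      rw [rconj_coe'] at this
      exact SetLike.coe_subset_coe.mp this
    have hDx : cj x⁻¹ D ≤ (P : Subgroup G) ⊓ ((x⁻¹ • Q : Sylow p G) : Subgroup G) := by
      rw [coe_smul_sylow]
      exact le_inf hDxP (cj_mono inf_le_right)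
    by_cases hcase : (P : Subgroup G) ⊓ ((x⁻¹ • Q : Sylow p G) : Subgroup G) = cj x⁻¹ D
    · apply claim1
      · rw [hcase, card_cj]; exact hm
      · rw [hcase, ← cj_normalizer]
        intro hdvd
        apply hT4
        have h1 : cj x⁻¹ T ≤ (P : Subgroup G) ⊓ cj x⁻¹ N := by
          refine le_inf ?_ (cj_mono hT2)
          rw [← hxP]; exact cj_mono hS
        have h2 := dvd_trans hdvd (Subgroup.relIndex_dvd_of_le_left (cj x⁻¹ N) h1)
        rwa [Subgroup.relIndex_map_map_of_injective _ _ (MulAut.conj x⁻¹).injective] at h2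
    · have hlt : cj x⁻¹ D < (P : Subgroup G) ⊓ ((x⁻¹ • Q : Sylow p G) : Subgroup G) :=
        lt_of_le_of_ne hDx (Ne.symm hcase)
      have hcardlt : Nat.card D < Nat.card ((P : Subgroup G) ⊓ ((x⁻¹ • Q : Sylow p G) : Subgroup G) : Subgroup G) := by
        rw [← card_cj x⁻¹ D]
        refine lt_of_le_of_ne (Subgroup.card_le_of_le hlt.le) ?_
        intro h
        exact hlt.ne (Subgroup.eq_of_le_of_card_ge hlt.le h.ge)
      have hPc' : Nat.card ((P : Subgroup G) ⊓ ((x⁻¹ • Q : Sylow p G) : Subgroup G) : Subgroup G)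
          ≤ Nat.card (P : Subgroup G) := Subgroup.card_le_of_le inf_le_left
      exact IH _ (by omega) _ rfl

/-- The Alperin fusion Theorem states that conjugation between subsets of a Sylow p-subgroup P factors through normalizers of tame intersections P ∩ Q_i with other Sylow p-subgroups, carrying the subset along step by step. -/
theorem result {G : Type*} [Group G] [Finite G] {p : ℕ} [Fact p.Prime] (P : Sylow p G) (A : Set G) (g : G) (hA : A ⊆ (P : Set G)) (hAg : (fun a => g⁻¹ * a * g) '' A ⊆ (P : Set G)) : ∃ (n : ℕ) (Q : Fin n → Sylow p G) (x : Fin n → G), (List.ofFn x).prod = g ∧ (∀ i : Fin n, x i ∈ Subgroup.normalizer ((((P : Subgroup G) ⊓ (Q i : Subgroup G)) : Subgroup G) : Set G) ∧ ¬ p ∣ ((P : Subgroup G) ⊓ Subgroup.normalizer ((((P : Subgroup G) ⊓ (Q i : Subgroup G)) : Subgroup G) : Set G)).relIndex (Subgroup.normalizer ((((P : Subgroup G) ⊓ (Q i : Subgroup G)) : Subgroup G) : Set G)) ∧ ¬ p ∣ ((Q i : Subgroup G) ⊓ Subgroup.normalizer ((((P : Subgroup G)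 ⊓ (Q i : Subgroup G)) : Subgroup G) : Set G)).relIndex (Subgroup.normalizer ((((P : Subgroup G) ⊓ (Q i : Subgroup G)) : Subgroup G) : Set G))) ∧ (∀ h : 0 < n, A ⊆ (((P : Subgroup G) ⊓ (Q ⟨0, h⟩ : Subgroup G) : Subgroup G) : Set G)) ∧ ∀ i : Fin n, ∀ h : i.val + 1 < n, (fun a => (((List.ofFn x).take (i.val + 1)).prod)⁻¹ * a * ((List.ofFn x).take (i.val + 1)).prod) '' A ⊆ (((P : Subgroup G) ⊓ (Q ⟨i.val + 1, h⟩ : Subgroup G) : Subgroup G) : Set G) := by
  have hA' : A ⊆ ((P : Subgroup G) : Set G) := hA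
  have hAg' : rconj A g ⊆ ((P : Subgroup G) : Set G) := hAg
  -- R = g P g⁻¹
  obtain ⟨x, hx, hxP⟩ := main P _ (g • P) rfl
  rw [coe_smul_sylow] at hx hxP
  have hAR : A ⊆ ((cj g (P : Subgroup G) : Subgroup G) : Set G) := by
    intro a ha
    rw [SetLike.mem_coe, mem_cj]
    exact hAg' ⟨a, ha, rfl⟩
  have hAx : IsChain (tameFam P) A x := by
    refine isChain_mono ?_ hx
    intro a ha
    exact ⟨hA' ha, hAR ha⟩
  have hn : x⁻¹ * g ∈ Subgroup.normalizer (((P : Subgroup G) : Subgroup G) : Set G) := by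
    apply mem_normalizer_of_cj_eq
    rw [← cj_cj]; exact hxP
  have hPF : (P : Subgroup G) ∈ tameFam P := by
    refine ⟨P, (inf_idem _).symm, ?_, ?_⟩ <;>
    · intro h
      have h1 : (P : Subgroup G) ⊓ Subgroup.normalizer (((P : Subgroup G) : Subgroup G) : Set G) = (P : Subgroup G) :=
        inf_eq_left.mpr Subgroup.le_normalizer
      rw [h1] at h
      exact P.not_dvd_index (dvd_trans h (Subgroup.relIndex_dvd_index_of_le Subgroup.le_normalizer))
  have hAxP : rconj A x ⊆ ((P : Subgroup G) : Set G) := isChain_end P hAx hA'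
  have hfull : IsChain (tameFam P) A g := by
    have := isChain_trans hAx (isChain_single hPF hn hAxP)
    rwa [mul_inv_cancel_left] at this
  obtain ⟨n, T, xs, h1, h2, h3, h4, h5⟩ := isChain_to_fin hfull
  choose Q hQ1 hQ2 hQ3 using h2
  refine ⟨n, Q, xs, h1, ?_, ?_, ?_⟩
  · intro i
    rw [← hQ1 i]
    exact ⟨h3 i, hQ2 i, hQ3 i⟩
  · intro h
    rw [← hQ1]; exact h4 h
  · intro i h
    rw [← hQ1]; exact h5 i h

end Cfsg.Agent.S0116
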