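import Cfsg.Statements.S0119
import Cfsg.Agent.Lib_helper1_ElemAb
import Cfsg.Agent.Lib_helper1_PGroup

set_option autoImplicit false
set_option linter.style.haveILetI false
open Cfsg

namespace Cfsg.Agent.S0119

open scoped commutatorElement

theorem comm_pow_left {G : Type*} [Group G] {x y : G} (hc : ⁅x, y⁆ ∈ Subgroup.center G) (m : ℕ) :
    ⁅x ^ m, y⁆ = ⁅x, y⁆ ^ m := by
  induction m with
  | zero => simp
  | succ m ih =>
    have h1 : ⁅x ^ (m + 1), y⁆ = x ^ m * ⁅x, y⁆ * (x ^ m)⁻¹ * ⁅x ^ m, y⁆ := by
      rw [pow_succ]; simp only [commutatorElement_def]; group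
    rw [h1, ih]
    have h2 : x ^ m * ⁅x, y⁆ = ⁅x, y⁆ * x ^ m := Subgroup.mem_center_iff.mp hc (x ^ m)
    rw [h2, mul_inv_cancel_right, pow_succ']

theorem comm_pow_right {G : Type*} [Group G] {x y : G} (hc : ⁅x, y⁆ ∈ Subgroup.center G) (m : ℕ) :
    ⁅x, y ^ m⁆ = ⁅x, y⁆ ^ m := by
  have hc' : ⁅y, x⁆ ∈ Subgroup.center G := by
    rw [← commutatorElement_inv]; exact inv_mem hc
  rw [← commutatorElement_inv (y ^ m) x, comm_pow_left hc', ← inv_pow, commutatorElement_inv]

/-- Let A be a p'-group of automorphisms ... -/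
theorem result {G : Type*} [Group G] [Finite G] {p : ℕ} [Fact p.Prime] (hG : IsPGroup p G) (A : Subgroup (MulAut G)) (hA : Nat.Coprime (Nat.card A) p) (hGA : Subgroup.closure {x : G | ∃ g : G, ∃ a ∈ A, x = g⁻¹ * a g} = ⊤) (hchar : ∀ H : Subgroup G, H.Characteristic → IsMulCommutative H → ∀ a ∈ A, ∀ h ∈ H, a h = h) : Cfsg.IsSpecial p G ∧ (∀ g : G, (g ∈ Subgroup.center G ↔ ∀ a ∈ A, a g = g)) := by
  classical
  -- Step 1: characteristic abelian subgroups are central
  have hcent : ∀ H : Subgroup G, H.Characteristic → IsMulCommutative H → H ≤ Subgroup.center G := by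
    intro H hHc hHa h hh
    have hfix := hchar H hHc hHa
    have hHn : H.Normal := inferInstance
    have hle : (⊤ : Subgroup G) ≤ Subgroup.centralizer {h} := by
      rw [← hGA, Subgroup.closure_le]
      rintro x ⟨g, a, ha, rfl⟩
      have h1 : a (g * h * g⁻¹) = g * h * g⁻¹ := hfix a ha _ (hHn.conj_mem h hh g)
      have h2 : a h = h := hfix a ha h hh
      rw [map_mul, map_mul, h2, map_inv] at h1
      show g⁻¹ * a g ∈ Subgroup.centralizer {h}
      rw [Subgroup.mem_centralizer_singleton_iff]
      have h3 : a g * h = g * h * g⁻¹ * a g := by rw [← h1]; group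
      calc g⁻¹ * a g * h = g⁻¹ * (a g * h) := by group
        _ = g⁻¹ * (g * h * g⁻¹ * a g) := by rw [h3]
        _ = h * (g⁻¹ * a g) := by group
    rw [Subgroup.mem_center_iff]
    intro g
    have := hle (Subgroup.mem_top g)
    rw [Subgroup.mem_centralizer_singleton_iff] at this
    exact this
  -- Step 2: fixed points lie in the commutator subgroup
  have hfixed : ∀ g : G, (∀ a ∈ A, a g = g) → g ∈ commutator G := by
    intro g hg
    haveI : Fintype A := Fintype.ofFinite A
    let N : G →* Abelianization G :=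
      { toFun := fun x => ∏ a : A, Abelianization.of ((a : MulAut G) x)
        map_one' := by simp
        map_mul' := fun x y => by simp [Finset.prod_mul_distrib] }
    have hNdef : ∀ x, N x = ∏ a : A, Abelianization.of ((a : MulAut G) x) := fun _ => rfl
    have hN1 : ∀ x, N x = 1 := by
      have hker : (⊤ : Subgroup G) ≤ N.ker := by
        rw [← hGA, Subgroup.closure_le]
        rintro x ⟨y, a, ha, rfl⟩
        show (y⁻¹ * a y) ∈ N.ker
        rw [MonoidHom.mem_ker, map_mul, map_inv]
        have : N (a y) = N y := by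
          rw [hNdef, hNdef]
          exact Fintype.prod_equiv (Equiv.mulRight (⟨a, ha⟩ : A)) _ _ (fun b => by
            simp [MulAut.mul_apply])
        rw [this, inv_mul_cancel]
      intro x; exact MonoidHom.mem_ker.mp (hker (Subgroup.mem_top x))
    have hNg : N g = (Abelianization.of g) ^ Nat.card A := by
      rw [hNdef, Finset.prod_congr rfl (fun a _ => by rw [hg a a.2])]
      simp [Finset.prod_const, Finset.card_univ, Nat.card_eq_fintype_card]
    have hpow : (Abelianization.of g) ^ Nat.card A = 1 := by rw [← hNg]; exact hN1 g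
    obtain ⟨k, hk⟩ := hG g
    have hpk : (Abelianization.of g) ^ (p ^ k) = 1 := by rw [← map_pow, hk, map_one]
    have h1 : orderOf (Abelianization.of g) ∣ Nat.card A := orderOf_dvd_of_pow_eq_one hpow
    have h2 : orderOf (Abelianization.of g) ∣ p ^ k := orderOf_dvd_of_pow_eq_one hpk
    have hcop : Nat.Coprime (Nat.card A) (p ^ k) := Nat.Coprime.pow_right k hA
    have h3 : orderOf (Abelianization.of g) = 1 := Nat.eq_one_of_dvd_coprimes hcop h1 h2
    rw [orderOf_eq_one_iff] at h3
    rwa [← MonoidHom.mem_ker, Abelianization.ker_of] at h3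
  -- Step 3: Z ≤ G'
  have hZle : Subgroup.center G ≤ commutator G := by
    intro z hz
    exact hfixed z (fun a ha => hchar _ Subgroup.centerCharacteristic inferInstance a ha z hz)
  -- Step 4: Z₂ centralizes G'
  have hZ2 : ∀ x ∈ Subgroup.upperCentralSeries G 2, ∀ c ∈ commutator G, x * c = c * x := by
    intro x hx c hc
    have hxz : ∀ g, ⁅x, g⁆ ∈ Subgroup.center G := by
      intro g
      have := (Subgroup.mem_upperCentralSeries_succ_iff (G := G) (n := 1)).mp hx g
      rwa [Subgroup.upperCentralSeries_one] at this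
    let f : G →* Subgroup.center G :=
      { toFun := fun g => ⟨⁅x, g⁆, hxz g⟩
        map_one' := by ext; simp
        map_mul' := fun g h => by
          ext
          show ⁅x, g * h⁆ = ⁅x, g⁆ * ⁅x, h⁆
          have h1 : ⁅x, g * h⁆ = ⁅x, g⁆ * (g * ⁅x, h⁆ * g⁻¹) := by
            simp only [commutatorElement_def]; group
          rw [h1]
          have := Subgroup.mem_center_iff.mp (hxz h) g
          rw [this, mul_inv_cancel_right] }
    have h3 : ⁅x, c⁆ = 1 := by
      have hle : commutator G ≤ f.ker := by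
        rw [commutator_eq_closure, Subgroup.closure_le]
        rintro _ ⟨a, b, rfl⟩
        show ⁅a, b⁆ ∈ f.ker
        rw [MonoidHom.mem_ker, map_commutatorElement, commutatorElement_eq_one_iff_mul_comm]
        exact Subtype.ext (Subgroup.mem_center_iff.mp (f b).2 (f a))
      exact congrArg Subtype.val (MonoidHom.mem_ker.mp (hle hc))
    rwa [commutatorElement_eq_one_iff_mul_comm] at h3
  have hD : Subgroup.upperCentralSeries G 2 ⊓ commutator G ≤ Subgroup.center G := by
    apply hcent
    · haveI : (commutator G).Characteristic := by rw [commutator_def]; infer_instance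
      infer_instance
    · refine ⟨⟨?_⟩⟩
      rintro ⟨a, ha⟩ ⟨b, hb⟩
      apply Subtype.ext
      exact hZ2 a ha.1 b hb.2
  -- Step 5: G' ≤ Z
  have hG'Z : commutator G ≤ Subgroup.center G := by
    haveI : Group.IsNilpotent G := hG.isNilpotent
    obtain ⟨m, hm⟩ := (Subgroup.nilpotent_iff_lowerCentralSeries (G := G)).mp inferInstance
    have hex : ∃ n, (⊤ : Subgroup G).lowerCentralSeries n ≤ Subgroup.center G :=
      ⟨m, by rw [hm]; exact bot_le⟩
    have hn : (⊤ : Subgroup G).lowerCentralSeries (Nat.find hex) ≤ Subgroup.center G :=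
      Nat.find_spec hex
    have hmin : ∀ k < Nat.find hex, ¬ (⊤ : Subgroup G).lowerCentralSeries k ≤ Subgroup.center G :=
      fun k hk => Nat.find_min hex hk
    have h1 : (⊤ : Subgroup G).lowerCentralSeries 1 = commutator G :=
      Subgroup.top_lowerCentralSeries_one
    by_cases hn1 : Nat.find hex ≤ 1
    · rw [← h1]; exact le_trans (Subgroup.lowerCentralSeries_antitone _ hn1) hn
    · exfalso
      rw [not_le] at hn1
      obtain ⟨k, hk⟩ : ∃ k, Nat.find hex = k + 1 := ⟨Nat.find hex - 1, by omega⟩
      have hk1 : 1 ≤ k := by omega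
      apply hmin k (by omega)
      have hle2 : (⊤ : Subgroup G).lowerCentralSeries k ≤ Subgroup.upperCentralSeries G 2 := by
        intro x hx
        rw [show (2:ℕ) = 1 + 1 from rfl, Subgroup.mem_upperCentralSeries_succ_iff]
        intro y
        rw [Subgroup.upperCentralSeries_one]
        apply hn
        rw [hk, Subgroup.lowerCentralSeries_succ]
        exact Subgroup.commutator_mem_commutator hx (Subgroup.mem_top y)
      exact le_trans (le_inf hle2 (h1 ▸ Subgroup.lowerCentralSeries_antitone _ hk1)) hD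
  have hcc : ∀ x y : G, ⁅x, y⁆ ∈ Subgroup.center G := fun x y => hG'Z (by
    rw [commutator_def]
    exact Subgroup.commutator_mem_commutator (Subgroup.mem_top x) (Subgroup.mem_top y))
  -- Step 6: exponent of G/Z
  have hstep : ∀ k : ℕ, 1 ≤ k → (∀ x : G, x ^ p ^ (k + 1) ∈ Subgroup.center G) →
      ∀ x : G, x ^ p ^ k ∈ Subgroup.center G := by
    intro k hk hx1
    have hTcomm : ∀ a ∈ ({y | ∃ x : G, y = x ^ p ^ k} ∪ (Subgroup.center G : Set G)),
        ∀ b ∈ ({y | ∃ x : G, y = x ^ p ^ k} ∪ (Subgroup.center G : Set G)), a * b = b * a := by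
      rintro a (⟨x, rfl⟩ | ha) b (⟨y, rfl⟩ | hb)
      · have e1 : ⁅x ^ p ^ k, y ^ p ^ k⁆ = (⁅x, y⁆ ^ p ^ k) ^ p ^ k := by
          rw [comm_pow_left (hcc _ _), comm_pow_right (hcc _ _)]
        have e2 : ⁅x, y⁆ ^ p ^ (k + 1) = 1 := by
          rw [← comm_pow_left (hcc _ _)]
          rw [commutatorElement_eq_one_iff_mul_comm]
          exact (Subgroup.mem_center_iff.mp (hx1 x) y).symm
        have e3 : (⁅x, y⁆ ^ p ^ k) ^ p ^ k = 1 := by
          rw [← pow_mul, ← pow_add]
          have : k + k = (k + 1) + (k - 1) := by omega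
          rw [this, pow_add, pow_mul, e2, one_pow]
        rw [← commutatorElement_eq_one_iff_mul_comm, e1, e3]
      · exact (Subgroup.mem_center_iff.mp hb _)
      · exact (Subgroup.mem_center_iff.mp ha _).symm
      · exact (Subgroup.mem_center_iff.mp hb _)
    have hMcomm := Subgroup.isMulCommutative_closure hTcomm
    have hMchar : (Subgroup.closure ({y | ∃ x : G, y = x ^ p ^ k} ∪ (Subgroup.center G : Set G))).Characteristic := by
      rw [Subgroup.characteristic_iff_map_le]
      intro φ
      rw [MonoidHom.map_closure, Subgroup.closure_le]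
      rintro _ ⟨a, (⟨x, rfl⟩ | ha), rfl⟩
      · apply Subgroup.subset_closure; left; exact ⟨φ x, by simp [map_pow]⟩
      · apply Subgroup.subset_closure; right
        exact Subgroup.characteristic_iff_map_le.mp Subgroup.centerCharacteristic φ ⟨a, ha, rfl⟩
    intro x
    exact hcent _ hMchar hMcomm (Subgroup.subset_closure (Or.inl ⟨x, rfl⟩))
  have hdesc : ∀ d k : ℕ, 1 ≤ k → (∀ x : G, x ^ p ^ (k + d) ∈ Subgroup.center G) →
      ∀ x : G, x ^ p ^ k ∈ Subgroup.center G := by
    intro d
    induction d with
    | zero => intro k _ h; simpa using h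
    | succ d ih =>
      intro k hk h
      apply hstep k hk
      apply ih (k + 1) (by omega)
      intro x
      have : k + 1 + d = k + (d + 1) := by omega
      rw [this]; exact h x
  have hpowp : ∀ x : G, x ^ p ∈ Subgroup.center G := by
    obtain ⟨n, hn⟩ := IsPGroup.iff_card.mp hG
    have := hdesc n 1 le_rfl (fun x => by
      have : x ^ p ^ (1 + n) = 1 := by
        rw [pow_add, pow_one, pow_mul', ← hn, pow_card_eq_one', one_pow]
      rw [this]; exact one_mem _)
    simpa using this
  have hZeq : commutator G = Subgroup.center G := le_antisymm hG'Z hZle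
  have hfr : frattini G = Subgroup.center G := by
    apply le_antisymm
    · exact Cfsg.Agent.helper1.frattini_le_of_elemAb_quot (Subgroup.center G) hG'Z hpowp
    · rw [← hZeq]; exact Cfsg.Agent.helper1.commutator_le_frattini_of_isPGroup hG
  refine ⟨⟨hG, hfr, hZeq⟩, fun g => ⟨fun hg a ha =>
    hchar _ Subgroup.centerCharacteristic inferInstance a ha g hg, fun hg => hZeq ▸ hfixed g hg⟩⟩

end Cfsg.Agent.S0119
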