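import Mathlib
import Cfsg.Statements.S0121

set_option autoImplicit false
open Pointwise
open Cfsg
open scoped commutatorElement

namespace Cfsg.Agent.S0121

theorem result {G : Type*} [Group G] [Finite G] {p : ℕ} [Fact p.Prime] (hG : IsPGroup p G) (H : Subgroup G) (hH : H.Characteristic) (h1 : (frattini H).map H.subtype ≤ Subgroup.centralizer (H : Set G)) (h2 : ⁅H, (⊤ : Subgroup G)⁆ ≤ H ⊓ Subgroup.centralizer (H : Set G)) (h3 : Subgroup.centralizer (H : Set G) ≤ H) (a : MulAut G) (ha : Nat.Coprime (orderOf a) p) (h : ∀ x ∈ H, a x = x) : a = 1 := by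
  -- step 1: for every g, c := a g * g⁻¹ centralises H, hence lies in H and is fixed by a
  have hc : ∀ g : G, a g * g⁻¹ ∈ H := by
    intro g
    apply h3
    rw [Subgroup.mem_centralizer_iff]
    intro x hx
    -- z := x⁻¹ * (g⁻¹ * x * g)... use the commutator ⁅x, g⁻¹⁆ = x * g⁻¹ * x⁻¹ * g ∈ H
    have hz : ⁅x, g⁻¹⁆ ∈ H ⊓ Subgroup.centralizer (H : Set G) :=
      h2 (Subgroup.commutator_mem_commutator hx (Subgroup.mem_top _))
    have hzH : ⁅x, g⁻¹⁆ ∈ H := hz.1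
    have e1 : a ⁅x, g⁻¹⁆ = ⁅x, g⁻¹⁆ := h _ hzH
    rw [commutatorElement_def] at e1
    simp only [map_mul, map_inv, h x hx, inv_inv] at e1
    -- e1 : x * (a g)⁻¹ * x⁻¹ * a g = x * g⁻¹ * x⁻¹ * g
    have e2 : (a g)⁻¹ * x⁻¹ * a g = g⁻¹ * x⁻¹ * g := by
      have := congrArg (fun t => x⁻¹ * t) e1
      simpa [mul_assoc] using this
    -- goal: x * (a g * g⁻¹) = a g * g⁻¹ * x
    have e3 : x⁻¹ * (a g * g⁻¹) = (a g * g⁻¹) * x⁻¹ := by
      calc x⁻¹ * (a g * g⁻¹) = a g * ((a g)⁻¹ * x⁻¹ * a g) * g⁻¹ := by group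
        _ = a g * (g⁻¹ * x⁻¹ * g) * g⁻¹ := by rw [e2]
        _ = (a g * g⁻¹) * x⁻¹ := by group
    calc x * (a g * g⁻¹) = x * ((a g * g⁻¹) * x⁻¹) * x := by group
      _ = x * (x⁻¹ * (a g * g⁻¹)) * x := by rw [e3]
      _ = a g * g⁻¹ * x := by group
  -- step 2: iterate
  have hiter : ∀ (g : G) (k : ℕ), (a ^ k) g = (a g * g⁻¹) ^ k * g := by
    intro g k
    induction k with
    | zero => simp
    | succ k ih =>
      rw [pow_succ', MulAut.mul_apply, ih, map_mul, map_pow, h _ (hc g), pow_succ]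
      group
  ext g
  have hk := hiter g (orderOf a)
  rw [pow_orderOf_eq_one, MulAut.one_apply] at hk
  have hck : (a g * g⁻¹) ^ orderOf a = 1 := by
    have := congrArg (fun t => t * g⁻¹) hk
    simpa using this.symm
  -- the order of c divides orderOf a and is a power of p
  obtain ⟨n, hn⟩ := hG (a g * g⁻¹)
  have hd1 : orderOf (a g * g⁻¹) ∣ orderOf a := orderOf_dvd_of_pow_eq_one hck
  have hd2 : orderOf (a g * g⁻¹) ∣ p ^ n := orderOf_dvd_of_pow_eq_one hn
  have hcop : Nat.Coprime (orderOf a) (p ^ n) := Nat.Coprime.pow_right n ha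
  have h1' : orderOf (a g * g⁻¹) = 1 := Nat.eq_one_of_dvd_coprimes hcop hd1 hd2
  rw [orderOf_eq_one_iff] at h1'
  rw [MulAut.one_apply]
  exact mul_inv_eq_one.mp h1'

end Cfsg.Agent.S0121
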