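import Cfsg.Statements.S0124
import Mathlib

set_option autoImplicit false
set_option linter.style.haveILetI false
open Cfsg
open scoped commutatorElement

namespace Cfsg.Agent.S0124

section abstractPart
variable {M Z : Type*} [Monoid M] [CommMonoid Z] [MulAction Z M] [IsScalarTower Z M M]
  [SMulCommClass Z M M]

theorem powA {a b : M} {t : Z} (h : a * b = t • (b * a)) (m : ℕ) :
    a ^ m * b = t ^ m • (b * a ^ m) := by
  induction m with
  | zero => simp
  | succ m ih =>
    calc a ^ (m + 1) * b = a ^ m * (a * b) := by rw [pow_succ, mul_assoc]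
      _ = t • (a ^ m * b * a) := by rw [h, mul_smul_comm, mul_assoc]
      _ = t • (t ^ m • (b * a ^ m) * a) := by rw [ih]
      _ = t ^ (m + 1) • (b * a ^ (m + 1)) := by
        rw [smul_mul_assoc, smul_smul, mul_assoc, ← pow_succ, ← pow_succ']

theorem powA' {a b : M} {t : Z} (h : a * b = t • (b * a)) (m : ℕ) :
    a * b ^ m = t ^ m • (b ^ m * a) := by
  induction m with
  | zero => simp
  | succ m ih =>
    calc a * b ^ (m + 1) = a * b ^ m * b := by rw [pow_succ, mul_assoc]
      _ = t ^ m • (b ^ m * a) * b := by rw [ih]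
      _ = t ^ m • (b ^ m * (a * b)) := by rw [smul_mul_assoc, mul_assoc]
      _ = t ^ m • (b ^ m * t • (b * a)) := by rw [h]
      _ = t ^ (m + 1) • (b ^ (m + 1) * a) := by
        rw [mul_smul_comm, smul_smul, ← mul_assoc, ← pow_succ, ← pow_succ]

theorem powB {x y c : M} (h : y * x = x * y * c) (n : ℕ) : y ^ n * x = x * (y * c) ^ n := by
  induction n with
  | zero => simp
  | succ n ih =>
    calc y ^ (n + 1) * x = y ^ n * (y * x) := by rw [pow_succ, mul_assoc]
      _ = y ^ n * x * (y * c) := by rw [h]; simp only [mul_assoc]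
      _ = x * (y * c) ^ (n + 1) := by rw [ih, mul_assoc, ← pow_succ]

theorem choose_succ_two (n : ℕ) : (n + 1).choose 2 = n.choose 2 + n := by
  have := Nat.choose_succ_succ' n 1
  simp only [Nat.reduceAdd, Nat.choose_one_right] at this
  omega

theorem choose_succ_three (n : ℕ) : (n + 1).choose 3 = n.choose 2 + n.choose 3 := by
  have := Nat.choose_succ_succ' n 2
  simp only [Nat.reduceAdd] at this
  exact this

theorem powC {a b : M} {t : Z} (h : b * a = t • (a * b)) (n : ℕ) :
    (a * b) ^ n = t ^ (n.choose 2) • (a ^ n * b ^ n) := by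
  induction n with
  | zero => simp
  | succ n ih =>
    have hA := powA h n
    calc (a * b) ^ (n + 1) = (a * b) ^ n * (a * b) := pow_succ _ _
      _ = t ^ (n.choose 2) • (a ^ n * (b ^ n * a) * b) := by
        rw [ih, smul_mul_assoc]; simp only [mul_assoc]
      _ = t ^ (n.choose 2) • (a ^ n * (t ^ n • (a * b ^ n)) * b) := by rw [hA]
      _ = (t ^ (n.choose 2) * t ^ n) • (a ^ n * a * (b ^ n * b)) := by
        rw [mul_smul_comm, smul_mul_assoc, smul_smul]; simp only [mul_assoc]
      _ = t ^ ((n + 1).choose 2) • (a ^ (n + 1) * b ^ (n + 1)) := by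
        rw [← pow_add, ← choose_succ_two, ← pow_succ, ← pow_succ]

/-- exponent of the second weight-three commutator. -/
def fexp : ℕ → ℕ
  | 0 => 0
  | (n + 1) => fexp n + (n + n.choose 2 + n.choose 2)

theorem powMain {x y c : M} {e f : Z} (h1 : y * x = x * y * c) (h2 : c * x = e • (x * c))
    (h3 : c * y = f • (y * c)) (n : ℕ) :
    (x * y) ^ n =
      (e ^ (n.choose 3) * f ^ (fexp n)) • (x ^ n * y ^ n * c ^ (n.choose 2)) := by
  induction n with
  | zero => simp [fexp]
  | succ n ih =>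
    have e1 := powA h2 (n.choose 2)
    have e2 := powB h1 n
    have e3 := powC h3 n
    have e4 := powA h3 (n + n.choose 2)
    have hs : ((((e ^ (n.choose 3) * f ^ (fexp n)) * e ^ (n.choose 2)) * f ^ (n.choose 2)) *
        f ^ (n + n.choose 2)) = e ^ ((n + 1).choose 3) * f ^ (fexp (n + 1)) := by
      rw [choose_succ_three]
      simp only [fexp, pow_add]
      ac_rfl
    calc (x * y) ^ (n + 1) = (x * y) ^ n * (x * y) := pow_succ _ _
      _ = (e ^ (n.choose 3) * f ^ (fexp n)) • (x ^ n * y ^ n * (c ^ (n.choose 2) * x) * y) := by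
        rw [ih, smul_mul_assoc]; simp only [mul_assoc]
      _ = (e ^ (n.choose 3) * f ^ (fexp n)) •
          (x ^ n * y ^ n * (e ^ (n.choose 2) • (x * c ^ (n.choose 2))) * y) := by rw [e1]
      _ = ((e ^ (n.choose 3) * f ^ (fexp n)) * e ^ (n.choose 2)) •
          (x ^ n * (y ^ n * x) * c ^ (n.choose 2) * y) := by
        rw [mul_smul_comm, smul_mul_assoc, smul_smul]; simp only [mul_assoc]
      _ = ((e ^ (n.choose 3) * f ^ (fexp n)) * e ^ (n.choose 2)) •
          (x ^ n * (x * (f ^ (n.choose 2) • (y ^ n * c ^ n))) * c ^ (n.choose 2) * y) := by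
        rw [e2, e3]
      _ = (((e ^ (n.choose 3) * f ^ (fexp n)) * e ^ (n.choose 2)) * f ^ (n.choose 2)) •
          (x ^ n * x * y ^ n * (c ^ (n + n.choose 2) * y)) := by
        rw [mul_smul_comm, mul_smul_comm, smul_mul_assoc, smul_mul_assoc, smul_smul, pow_add]
        simp only [mul_assoc]
      _ = (((e ^ (n.choose 3) * f ^ (fexp n)) * e ^ (n.choose 2)) * f ^ (n.choose 2)) •
          (x ^ n * x * y ^ n * (f ^ (n + n.choose 2) • (y * c ^ (n + n.choose 2)))) := by rw [e4]
      _ = ((((e ^ (n.choose 3) * f ^ (fexp n)) * e ^ (n.choose 2)) * f ^ (n.choose 2)) *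
            f ^ (n + n.choose 2)) • (x ^ (n + 1) * y ^ (n + 1) * c ^ (n + n.choose 2)) := by
        rw [mul_smul_comm, smul_smul, pow_succ, pow_succ]; simp only [mul_assoc]
      _ = (e ^ ((n + 1).choose 3) * f ^ (fexp (n + 1))) •
          (x ^ (n + 1) * y ^ (n + 1) * c ^ ((n + 1).choose 2)) := by
        rw [hs, choose_succ_two, add_comm n (n.choose 2)]

end abstractPart

theorem two_mul_choose_two (m : ℕ) : 2 * (m + 1).choose 2 = (m + 1) * m := by
  induction m with
  | zero => simp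
  | succ m ih =>
    rw [choose_succ_two (m + 1)]
    nlinarith [ih]

theorem six_mul_fexp (m : ℕ) : 6 * fexp (m + 1) = m * (m + 1) * (2 * m + 1) := by
  induction m with
  | zero => simp [fexp]
  | succ m ih =>
    have h1 : fexp (m + 1 + 1) = fexp (m + 1) + ((m + 1) + (m + 1).choose 2 + (m + 1).choose 2) := rfl
    have h2 := two_mul_choose_two m
    rw [h1]
    nlinarith [ih, h2]

theorem prime_dvd_fexp {p : ℕ} (hp : p.Prime) (h3 : 3 < p) : p ∣ fexp p := by
  obtain ⟨m, rfl⟩ : ∃ m, p = m + 1 := ⟨p - 1, by omega⟩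
  have h1 : (m + 1) ∣ 6 * fexp (m + 1) := by
    rw [six_mul_fexp]
    exact ⟨m * (2 * m + 1), by ring⟩
  have hcop : (m + 1).Coprime 6 := by
    rw [Nat.Prime.coprime_iff_not_dvd hp]
    intro hd
    have hle := Nat.le_of_dvd (by norm_num) hd
    have : m + 1 = 4 ∨ m + 1 = 5 ∨ m + 1 = 6 := by omega
    rcases this with h | h | h
    · rw [h] at hp; exact absurd hp (by norm_num)
    · rw [h] at hd; exact absurd hd (by norm_num)
    · rw [h] at hp; exact absurd hp (by norm_num)
  exact (Nat.Coprime.dvd_mul_left hcop).mp h1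

section app
variable {R : Type*} [Group R]

theorem comm_mem_center
    (hcl : ⁅⁅commutator R, (⊤ : Subgroup R)⁆, (⊤ : Subgroup R)⁆ = ⊥) {d : R}
    (hd : d ∈ commutator R) (g : R) : ⁅d, g⁆ ∈ Submonoid.center R := by
  rw [Submonoid.mem_center_iff]
  intro k
  have h1 : ⁅⁅d, g⁆, k⁆ ∈ ⁅⁅commutator R, (⊤ : Subgroup R)⁆, (⊤ : Subgroup R)⁆ :=
    Subgroup.commutator_mem_commutator
      (Subgroup.commutator_mem_commutator hd (Subgroup.mem_top g)) (Subgroup.mem_top k)
  rw [hcl, Subgroup.mem_bot] at h1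
  exact (commutatorElement_eq_one_iff_mul_comm.mp h1).symm

theorem mem_commutator (a b : R) : ⁅a, b⁆ ∈ commutator R := by
  rw [commutator_def]
  exact Subgroup.commutator_mem_commutator (Subgroup.mem_top a) (Subgroup.mem_top b)

/-- The collection data for a pair `x, y` in a group of class at most three. -/
theorem exists_data
    (hcl : ⁅⁅commutator R, (⊤ : Subgroup R)⁆, (⊤ : Subgroup R)⁆ = ⊥) (x y : R) :
    ∃ (c : R) (e f : Submonoid.center R), c ∈ commutator R ∧ (e : R) ∈ commutator R ∧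
      (f : R) ∈ commutator R ∧ y * x = x * y * c ∧ c * x = e • (x * c) ∧ c * y = f • (y * c) := by
  have hc : ⁅y⁻¹, x⁻¹⁆ ∈ commutator R := mem_commutator _ _
  refine ⟨⁅y⁻¹, x⁻¹⁆, ⟨⁅⁅y⁻¹, x⁻¹⁆, x⁆, comm_mem_center hcl hc x⟩,
    ⟨⁅⁅y⁻¹, x⁻¹⁆, y⁆, comm_mem_center hcl hc y⟩, hc, mem_commutator _ _, mem_commutator _ _,
    ?_, ?_, ?_⟩
  · rw [commutatorElement_def]; group
  · show ⁅y⁻¹, x⁻¹⁆ * x = ⁅⁅y⁻¹, x⁻¹⁆, x⁆ * (x * ⁅y⁻¹, x⁻¹⁆)
    rw [commutatorElement_def ⁅y⁻¹, x⁻¹⁆ x]; group
  · show ⁅y⁻¹, x⁻¹⁆ * y = ⁅⁅y⁻¹, x⁻¹⁆, y⁆ * (y * ⁅y⁻¹, x⁻¹⁆)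
    rw [commutatorElement_def ⁅y⁻¹, x⁻¹⁆ y]; group

theorem pow_eq_one_of_dvd {Z : Type*} [Monoid Z] {t : Z} {p k : ℕ} (ht : t ^ p = 1) (hk : p ∣ k) :
    t ^ k = 1 := by
  obtain ⟨j, rfl⟩ := hk
  rw [pow_mul, ht, one_pow]

theorem mul_pow_prime_eq_one {p : ℕ} (hp : p.Prime) (h3 : 3 < p)
    (hcl : ⁅⁅commutator R, (⊤ : Subgroup R)⁆, (⊤ : Subgroup R)⁆ = ⊥) {x y : R}
    (hx : x ^ p = 1) (hy : y ^ p = 1) : (x * y) ^ p = 1 := by
  obtain ⟨c, e, f, -, -, -, h1, h2, h3'⟩ := exists_data hcl x y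
  have he : e ^ p = 1 := by
    have := powA' h2 p
    rw [hx, mul_one, one_mul] at this
    have h4 : ((e ^ p : Submonoid.center R) : R) * c = 1 * c := by
      rw [one_mul]; exact this.symm
    exact Subtype.ext (mul_right_cancel h4)
  have hf : f ^ p = 1 := by
    have := powA' h3' p
    rw [hy, mul_one, one_mul] at this
    have h4 : ((f ^ p : Submonoid.center R) : R) * c = 1 * c := by
      rw [one_mul]; exact this.symm
    exact Subtype.ext (mul_right_cancel h4)
  have hd2 : p ∣ p.choose 2 := hp.dvd_choose_self (by norm_num) (by omega)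
  have hd3 : p ∣ p.choose 3 := hp.dvd_choose_self (by norm_num) h3
  have hc : c ^ p = 1 := by
    have e2 := powB h1 p
    have e3 := powC h3' p
    rw [pow_eq_one_of_dvd hf hd2, one_smul, hy, one_mul] at e3
    rw [e3, hy, one_mul] at e2
    have : x * 1 = x * c ^ p := by rw [mul_one]; exact e2
    exact (mul_left_cancel this).symm
  have := powMain h1 h2 h3' p
  rw [pow_eq_one_of_dvd he hd3, pow_eq_one_of_dvd hf (prime_dvd_fexp hp h3),
    pow_eq_one_of_dvd hc hd2, hx, hy] at this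
  simpa using this

end app

/-- For p > 3, in a p-group of class at most three the elements of order dividing p generate a subgroup of exponent dividing p. -/
theorem result {R : Type*} [Group R] [Finite R] {p : ℕ} [Fact p.Prime] (hp : 3 < p) (hR : IsPGroup p R) (hcl : ⁅⁅commutator R, (⊤ : Subgroup R)⁆, (⊤ : Subgroup R)⁆ = ⊥) (g : R) (hg : g ∈ Subgroup.closure {x : R | x ^ p = 1}) : g ^ p = 1 := by
  have hpp : p.Prime := Fact.out
  induction hg using Subgroup.closure_induction with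
  | mem x hx => exact hx
  | one => exact one_pow p
  | mul x y _ _ hx hy => exact mul_pow_prime_eq_one hpp hp hcl hx hy
  | inv x _ hx => rw [inv_pow, hx, inv_one]

end Cfsg.Agent.S0124
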