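import Cfsg.Statements.S0123
import Mathlib
import Cfsg.Agent.S0124
import Cfsg.Agent.Lib_lead_Class2

set_option autoImplicit false
set_option linter.style.haveILetI false
open Cfsg
open scoped commutatorElement

namespace Cfsg.Agent.S0123

open Cfsg.Agent.S0124

/-- For a p-group of small class relative to p (class ≤ 2 with p odd, or class ≤ 3 with p > 3) whose derived subgroup is generated by elements of order dividing p, the p-th power map is multiplicative. -/
theorem result {R : Type*} [Group R] [Finite R] {p : ℕ} [Fact p.Prime] (hR : IsPGroup p R) (hcl : (p ≠ 2 ∧ ⁅commutator R, (⊤ : Subgroup R)⁆ = ⊥) ∨ (3 < p ∧ ⁅⁅commutator R, (⊤ : Subgroup R)⁆, (⊤ : Subgroup R)⁆ = ⊥)) (hder : commutator R ≤ Subgroup.closure {x : R | x ^ p = 1}) (x y : R) : (x * y) ^ p = x ^ p * y ^ p := by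
  have hpp : p.Prime := Fact.out
  rcases hcl with ⟨hp2, h2⟩ | ⟨hp3, h3⟩
  · -- class two, p odd
    have hexp : ∀ g ∈ Subgroup.closure {x : R | x ^ p = 1}, g ^ p = 1 := by
      intro g hg
      induction hg using Subgroup.closure_induction with
      | mem x hx => exact hx
      | one => exact one_pow p
      | mul a b _ _ ha hb =>
        have hc : ⁅b, a⁆ ^ p = 1 := by
          rw [Cfsg.Agent.lead.commutator_pow_of_class2 h2 a b p, hb, commutatorElement_one_left]
        rw [Cfsg.Agent.lead.mul_pow_prime_of_class2 h2 hpp hp2 a b hc, ha, hb, one_mul]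
      | inv x _ hx => rw [inv_pow, hx, inv_one]
    apply Cfsg.Agent.lead.mul_pow_prime_of_class2 h2 hpp hp2 x y
    exact hexp _ (hder (mem_commutator y x))
  · -- class three, p > 3
    have hexp : ∀ g ∈ commutator R, g ^ p = 1 := fun g hg =>
      Cfsg.Agent.S0124.result hp3 hR h3 g (hder hg)
    obtain ⟨c, e, f, hc, he, hf, h1, h2, h3'⟩ := exists_data h3 x y
    have hcp : c ^ p = 1 := hexp c hc
    have hep : e ^ p = 1 := Subtype.ext (by simpa using hexp _ he)
    have hfp : f ^ p = 1 := Subtype.ext (by simpa using hexp _ hf)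
    have hd2 : p ∣ p.choose 2 := hpp.dvd_choose_self (by norm_num) (by omega)
    have hd3 : p ∣ p.choose 3 := hpp.dvd_choose_self (by norm_num) hp3
    have := powMain h1 h2 h3' p
    rw [pow_eq_one_of_dvd hep hd3, pow_eq_one_of_dvd hfp (prime_dvd_fexp hpp hp3),
      pow_eq_one_of_dvd hcp hd2] at this
    simpa using this

end Cfsg.Agent.S0123
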