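import Mathlib
import Cfsg.Statements.S0125

set_option autoImplicit false
open Pointwise
open Cfsg

namespace Cfsg.Agent.S0125

variable {G : Type*} [Group G]

theorem mem_smul_sylow {p : ℕ} (g x : G) (P : Sylow p G) :
    x ∈ ((g • P : Sylow p G) : Subgroup G) ↔ g⁻¹ * x * g ∈ (P : Subgroup G) := by
  rw [Sylow.coe_subgroup_smul, Subgroup.mem_pointwise_smul_iff_inv_smul_mem]
  simp [MulAut.smul_def, mul_assoc]

theorem exists_conj_le_sylow [Finite G] {p : ℕ} [Fact p.Prime] (P : Sylow p G)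
    (K : Subgroup G) (hPK : (P : Subgroup G) ≤ K) (Q : Subgroup G) (hQ : IsPGroup p Q)
    (hQK : Q ≤ K) : ∃ m ∈ K, ∀ q ∈ Q, m * q * m⁻¹ ∈ (P : Subgroup G) := by
  have hQ' : IsPGroup p (Q.subgroupOf K) := hQ.comap_subtype
  obtain ⟨Q₁, hQ₁⟩ := hQ'.exists_le_sylow
  obtain ⟨m, hm⟩ := MulAction.exists_smul_eq K Q₁ (P.subtype hPK)
  refine ⟨m, m.2, fun q hq => ?_⟩
  have h1 : (⟨q, hQK hq⟩ : K) ∈ (Q₁ : Subgroup K) :=
    hQ₁ (by simpa [Subgroup.mem_subgroupOf] using hq)
  have h2 : m * ⟨q, hQK hq⟩ * m⁻¹ ∈ ((m • Q₁ : Sylow p K) : Subgroup K) := by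
    rw [mem_smul_sylow]
    have : m⁻¹ * (m * ⟨q, hQK hq⟩ * m⁻¹) * m = ⟨q, hQK hq⟩ := by group
    rw [this]; exact h1
  rw [hm, Sylow.coe_subtype, Subgroup.mem_subgroupOf] at h2
  simpa using h2

theorem result {G : Type*} [Group G] [Finite G] {p : ℕ} [Fact p.Prime] (R : Sylow p G) (A : Subgroup G) (hAR : A ≤ (R : Subgroup G)) (hAn : (R : Subgroup G) ≤ Subgroup.normalizer (A : Set G)) (hC : (R : Subgroup G) ⊓ Subgroup.centralizer (A : Set G) = A) : ∃ H : Subgroup G, H ≤ Subgroup.centralizer (A : Set G) ∧ Nat.Coprime (Nat.card H) p ∧ Subgroup.centralizer (A : Set G) ≤ Subgroup.normalizer (H : Set G) ∧ H ⊓ A = ⊥ ∧ H ⊔ A = Subgroup.centralizer (A : Set G) := by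
  set C := Subgroup.centralizer (A : Set G) with hCdef
  have hAC : A ≤ C := by rw [← hC]; exact inf_le_right
  have hRC : (R : Subgroup G) ≤ Subgroup.normalizer (C : Set G) := by
    intro r hr
    have hrA := hAn hr
    rw [Subgroup.mem_normalizer_iff]
    intro c
    simp only [hCdef, Subgroup.mem_centralizer_iff]
    constructor
    · intro hc a ha
      have h1 : r⁻¹ * a * r ∈ A := (Subgroup.mem_normalizer_iff''.mp hrA a).mp ha
      have h := hc _ h1
      calc a * (r * c * r⁻¹) = r * ((r⁻¹ * a * r) * c) * r⁻¹ := by group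
        _ = r * (c * (r⁻¹ * a * r)) * r⁻¹ := by rw [h]
        _ = r * c * r⁻¹ * a := by group
    · intro hc a ha
      have h1 : r * a * r⁻¹ ∈ A := (Subgroup.mem_normalizer_iff.mp hrA a).mp ha
      have h := hc _ h1
      have h2 : r * (a * c) * r⁻¹ = r * (c * a) * r⁻¹ := by
        calc r * (a * c) * r⁻¹ = (r * a * r⁻¹) * (r * c * r⁻¹) := by group
          _ = (r * c * r⁻¹) * (r * a * r⁻¹) := h
          _ = r * (c * a) * r⁻¹ := by group
      exact mul_left_cancel (mul_right_cancel h2)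
  have hpA : IsPGroup p A := R.2.to_le hAR
  have hpA' : IsPGroup p (A.subgroupOf C) := hpA.comap_subtype
  obtain ⟨S₁, hS₁⟩ := hpA'.exists_le_sylow
  have hS₀p : IsPGroup p ((S₁ : Subgroup C).map C.subtype) := S₁.2.map _
  obtain ⟨k, hk, hkS⟩ := exists_conj_le_sylow R (Subgroup.normalizer (C : Set G)) hRC _ hS₀p
      ((Subgroup.map_subtype_le _).trans Subgroup.le_normalizer)
  have hkA : ∀ s : C, s ∈ (S₁ : Subgroup C) → k * s * k⁻¹ ∈ A := by
    intro s hs
    rw [← hC]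
    refine ⟨hkS _ ⟨s, hs, rfl⟩, ?_⟩
    exact (Subgroup.mem_normalizer_iff.mp hk s).mp s.2
  have hcard : Nat.card (S₁ : Subgroup C) ≤ Nat.card A := by
    apply Nat.card_le_card_of_injective
      (fun s : (S₁ : Subgroup C) => (⟨k * ((s : C) : G) * k⁻¹, hkA s s.2⟩ : A))
    intro s t hst
    simp only [Subtype.mk.injEq] at hst
    have := mul_left_cancel (mul_right_cancel hst)
    exact Subtype.ext (Subtype.ext this)
  have hcardA' : Nat.card (A.subgroupOf C) = Nat.card A :=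
    Nat.card_congr (Subgroup.subgroupOfEquivOfLe hAC).toEquiv
  have hEq : A.subgroupOf C = (S₁ : Subgroup C) := by
    apply Subgroup.eq_of_le_of_card_ge hS₁
    rw [hcardA']; exact hcard
  have hidx : ¬ p ∣ (A.subgroupOf C).index := by rw [hEq]; exact S₁.not_dvd_index
  have hcentral : ∀ (a : C), a ∈ A.subgroupOf C → ∀ c : C, c * a = a * c := by
    intro a ha c
    apply Subtype.ext
    have := (Subgroup.mem_centralizer_iff.mp c.2) a ha
    simpa using this.symm
  haveI hnorm : (A.subgroupOf C).Normal := ⟨fun a ha c => by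
    have : c * a * c⁻¹ = a := by rw [hcentral a ha c]; group
    rw [this]; exact ha⟩
  have hcop : Nat.Coprime (Nat.card (A.subgroupOf C)) (A.subgroupOf C).index := by
    obtain ⟨n, hn⟩ := IsPGroup.iff_card.mp hpA'
    rw [hn]
    exact Nat.Coprime.pow_left n ((Nat.Prime.coprime_iff_not_dvd Fact.out).mpr hidx)
  obtain ⟨H', hH'⟩ := Subgroup.exists_right_complement'_of_coprime hcop
  have hH'n : ∀ (c x : C), x ∈ H' → c * x * c⁻¹ ∈ H' := by
    intro c x hx
    have hc : c ∈ A.subgroupOf C ⊔ H' := by rw [hH'.sup_eq_top]; trivial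
    obtain ⟨a, ha, h, hh, rfl⟩ := Subgroup.mem_sup_of_normal_left.1 hc
    have e : a * h * x * (a * h)⁻¹ = h * x * h⁻¹ := by
      have := hcentral a ha (h * x * h⁻¹)
      calc a * h * x * (a * h)⁻¹ = a * (h * x * h⁻¹) * a⁻¹ := by group
        _ = (h * x * h⁻¹) * a * a⁻¹ := by rw [this]
        _ = h * x * h⁻¹ := by group
    rw [e]
    exact H'.mul_mem (H'.mul_mem hh hx) (H'.inv_mem hh)
  refine ⟨H'.map C.subtype, Subgroup.map_subtype_le H', ?_, ?_, ?_, ?_⟩
  · have h1 : Nat.card (H'.map C.subtype) = Nat.card H' :=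
      Nat.card_congr (H'.equivMapOfInjective C.subtype (Subgroup.subtype_injective C)).symm.toEquiv
    rw [h1, ← hH'.symm.index_eq_card]
    exact ((Nat.Prime.coprime_iff_not_dvd Fact.out).mpr hidx).symm
  · intro c hc
    rw [Subgroup.mem_normalizer_iff]
    intro x
    constructor
    · rintro ⟨y, hy, rfl⟩
      exact ⟨⟨c, hc⟩ * y * ⟨c, hc⟩⁻¹, hH'n _ _ hy, by simp⟩
    · rintro ⟨y, hy, hyx⟩
      refine ⟨⟨c, hc⟩⁻¹ * y * (⟨c, hc⟩⁻¹)⁻¹, hH'n _ _ hy, ?_⟩
      simp only [Subgroup.coe_subtype, Subgroup.coe_mul, Subgroup.coe_inv, inv_inv] at hyx ⊢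
      rw [hyx]; group
  · rw [eq_bot_iff]
    rintro x ⟨⟨y, hy, rfl⟩, hxA⟩
    have hyA : y ∈ A.subgroupOf C := by
      rw [Subgroup.mem_subgroupOf]; exact hxA
    have : y ∈ A.subgroupOf C ⊓ H' := ⟨hyA, hy⟩
    rw [disjoint_iff.mp hH'.disjoint, Subgroup.mem_bot] at this
    rw [Subgroup.mem_bot, this]; simp
  · have h1 := congrArg (Subgroup.map C.subtype) hH'.sup_eq_top
    rw [Subgroup.map_sup, Subgroup.map_subgroupOf_eq_of_le hAC, ← MonoidHom.range_eq_map,
      Subgroup.range_subtype] at h1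
    rw [sup_comm]; exact h1

end Cfsg.Agent.S0125
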