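import Cfsg.Statements.S0127
import Mathlib
import Cfsg.Agent.S0636

set_option autoImplicit false
set_option linter.style.haveILetI false
open Cfsg

namespace Cfsg.Agent.S0127

/-- A subgroup of exponent dividing `p` inside a cyclic subgroup has at most `p` elements. -/
theorem card_le_of_exp_of_le_cyclic {R : Type*} [Group R] [Finite R] {p : ℕ} (hp0 : 0 < p)
    (C : Subgroup R) (hC : IsCyclic C) (B : Subgroup R) (hBC : B ≤ C) (hB : ∀ x ∈ B, x ^ p = 1) :
    Nat.card B ≤ p := by
  classical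
  have : Fintype ↥C := Fintype.ofFinite _
  have h1 : (Finset.univ.filter (fun a : ↥C => a ^ p = 1)).card ≤ p :=
    IsCyclic.card_pow_eq_one_le hp0
  have h2 : Nat.card {a : ↥C // a ^ p = 1} ≤ p := by
    rw [Nat.card_eq_fintype_card, Fintype.card_subtype]; exact h1
  refine le_trans ?_ h2
  apply Nat.card_le_card_of_injective
    (fun b : ↥B => (⟨⟨b.1, hBC b.2⟩, Subtype.ext (by simpa using hB b.1 b.2)⟩ :
      {a : ↥C // a ^ p = 1}))
  intro a b hab
  have h := congrArg (fun x => (x.1 : R)) hab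
  exact Subtype.ext h

/-- For odd p, in a non-cyclic p-group with a cyclic subgroup of index p, the elements of order dividing p generate an elementary abelian subgroup of order p^2. -/
theorem result {R : Type*} [Group R] [Finite R] {p : ℕ} [Fact p.Prime] (hp : p ≠ 2) (hR : IsPGroup p R) (hnc : ¬ IsCyclic R) (C : Subgroup R) (hC : IsCyclic C) (hCi : C.index = p) : Cfsg.IsElementaryAbelian p (Subgroup.closure {x : R | x ^ p = 1}) ∧ Nat.card (Subgroup.closure {x : R | x ^ p = 1}) = p ^ 2 := by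
  have hpp : p.Prime := Fact.out
  have hp0 : 0 < p := hpp.pos
  have hp1 : 1 < p := hpp.one_lt
  -- C is normal
  haveI hCn : C.Normal := by
    apply Subgroup.normal_of_index_eq_minFac_card
    rw [hCi]
    obtain ⟨k, hk⟩ := hR.exists_card_eq
    rw [hk]
    have hk0 : k ≠ 0 := by
      rintro rfl
      rw [pow_zero] at hk
      have : C.index ∣ Nat.card R := Subgroup.index_dvd_card C
      rw [hk, hCi] at this
      have := Nat.le_of_dvd one_pos this
      omega
    exact (hpp.pow_minFac hk0).symm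
  -- the elementary abelian normal subgroup
  have hTnc : ¬ IsCyclic (⊤ : Subgroup R) := by
    intro h
    apply hnc
    exact isCyclic_of_surjective (Subgroup.topEquiv (G := R)).toMonoidHom
      (Subgroup.topEquiv (G := R)).surjective
  obtain ⟨A, -, hAn, hAe, hAc⟩ := S0636.result hp hR (⊤ : Subgroup R) hTnc
  haveI := hAn
  -- A is not contained in C
  have hAC : ¬ A ≤ C := by
    intro h
    have := card_le_of_exp_of_le_cyclic hp0 C hC A h hAe.2
    rw [hAc] at this
    nlinarith
  -- A ⊔ C = ⊤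
  have hsup : A ⊔ C = ⊤ := by
    have h1 : C.relIndex (A ⊔ C) * (A ⊔ C).index = C.index := Subgroup.relIndex_mul_index le_sup_right
    rw [hCi] at h1
    have h2 : (A ⊔ C).index ∣ p := Dvd.intro_left _ h1
    rcases (Nat.dvd_prime hpp).mp h2 with h3 | h3
    · exact Subgroup.index_eq_one.mp h3
    · exfalso
      rw [h3] at h1
      have h4 : C.relIndex (A ⊔ C) = 1 := by
        have : C.relIndex (A ⊔ C) * p = 1 * p := by rw [h1, one_mul]
        exact Nat.eq_of_mul_eq_mul_right hp0 this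
      rw [Subgroup.relIndex_eq_one] at h4
      exact hAC (le_sup_left.trans h4)
  -- Z₀ = A ⊓ C is central
  have hZc : ∀ z ∈ A ⊓ C, ∀ u : R, u * z = z * u := by
    by_cases hbot : A ⊓ C = ⊥
    · intro z hz u
      rw [hbot, Subgroup.mem_bot] at hz
      rw [hz, mul_one, one_mul]
    · haveI : (A ⊓ C).Normal := inferInstance
      obtain ⟨b, hbZ, hbo, hbc⟩ := S0636.exists_central hR (A ⊓ C) hbot
      have hle : Subgroup.zpowers b ≤ A ⊓ C := by rw [Subgroup.zpowers_le]; exact hbZ
      have hcard : Nat.card ↥(A ⊓ C) ≤ Nat.card ↥(Subgroup.zpowers b) := by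
        rw [Nat.card_zpowers, hbo]
        exact card_le_of_exp_of_le_cyclic hp0 C hC (A ⊓ C) inf_le_right
          (fun x hx => hAe.2 x hx.1)
      have heq := Subgroup.eq_of_le_of_card_ge hle hcard
      intro z hz u
      rw [← heq] at hz
      obtain ⟨i, rfl⟩ := Subgroup.mem_zpowers_iff.mp hz
      exact ((show Commute u b from hbc u).zpow_right i).eq
  have hZp : ∀ z ∈ A ⊓ C, z ^ p = 1 := fun z hz => hAe.2 z hz.1
  -- commutators lie in Z₀
  set π := QuotientGroup.mk' (A ⊓ C) with hπ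
  have hker : π.ker = A ⊓ C := QuotientGroup.ker_mk' _
  have hAA : ∀ a ∈ A, ∀ a' ∈ A, Commute (π a) (π a') := by
    intro a ha a' ha'
    have := hAe.1.is_comm.comm (⟨a, ha⟩ : ↥A) ⟨a', ha'⟩
    have h := congrArg Subtype.val this
    show π a * π a' = π a' * π a
    rw [← map_mul, ← map_mul]
    exact congrArg π h
  have hCC : ∀ c ∈ C, ∀ c' ∈ C, Commute (π c) (π c') := by
    intro c hc c' hc'
    obtain ⟨g, hg⟩ := hC.exists_generator
    obtain ⟨i, hi⟩ := Subgroup.mem_zpowers_iff.mp (hg ⟨c, hc⟩)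
    obtain ⟨j, hj⟩ := Subgroup.mem_zpowers_iff.mp (hg ⟨c', hc'⟩)
    have h1 : c = (g : R) ^ i := by rw [← Subgroup.coe_zpow, hi]
    have h2 : c' = (g : R) ^ j := by rw [← Subgroup.coe_zpow, hj]
    show π c * π c' = π c' * π c
    rw [← map_mul, ← map_mul, h1, h2]
    congr 1
    exact (Commute.refl (g : R)).zpow_zpow i j |>.eq
  have hAC' : ∀ a ∈ A, ∀ c ∈ C, Commute (π a) (π c) := by
    intro a ha c hc
    show π a * π c = π c * π a
    rw [← map_mul, ← map_mul]
    apply (QuotientGroup.eq (s := A ⊓ C)).mpr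
    have h1 : (a * c)⁻¹ * (c * a) = (c⁻¹ * a⁻¹ * c) * a := by group
    have h2 : (a * c)⁻¹ * (c * a) = c⁻¹ * (a⁻¹ * c * a) := by group
    refine ⟨?_, ?_⟩
    · rw [h1]
      refine A.mul_mem ?_ ha
      have := hAn.conj_mem a⁻¹ (A.inv_mem ha) c⁻¹
      simpa using this
    · rw [h2]
      refine C.mul_mem (C.inv_mem hc) ?_
      have := hCn.conj_mem c hc a⁻¹
      simpa using this
  have hdecomp : ∀ x : R, ∃ a ∈ A, ∃ c ∈ C, x = a * c := by
    intro x
    have hx : x ∈ A ⊔ C := by rw [hsup]; exact Subgroup.mem_top x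
    rw [← SetLike.mem_coe, Subgroup.normal_mul] at hx
    obtain ⟨a, ha, c, hc, rfl⟩ := Set.mem_mul.mp hx
    exact ⟨a, ha, c, hc, rfl⟩
  have hcomm : ∀ x y : R, y * x * (x * y)⁻¹ ∈ A ⊓ C := by
    intro x y
    obtain ⟨a, ha, c, hc, rfl⟩ := hdecomp x
    obtain ⟨a', ha', c', hc', rfl⟩ := hdecomp y
    rw [← hker, MonoidHom.mem_ker, map_mul, map_inv]
    rw [mul_inv_eq_one]
    simp only [map_mul]
    have e1 : Commute (π a' * π c') (π a * π c) := by
      apply Commute.mul_left
      · exact Commute.mul_right (hAA a' ha' a ha) (hAC' a' ha' c hc)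
      · exact Commute.mul_right (hAC' a ha c' hc').symm (hCC c' hc' c hc)
    exact e1.eq
  have hmul : ∀ x ∈ (⊤ : Subgroup R), ∀ y ∈ (⊤ : Subgroup R), (x * y) ^ p = x ^ p * y ^ p := by
    intro x _ y _
    have hcN := hcomm x y
    have hyx : y * x = (y * x * (x * y)⁻¹) * (x * y) := by group
    have h1 := lead.mul_pow_class2 x y _ hyx (hZc _ hcN x).symm (hZc _ hcN y).symm p
    rw [h1]
    have hodd : Odd p := hpp.odd_of_ne_two hp
    obtain ⟨k, hk⟩ := hodd
    have h2 : p * (p - 1) / 2 = p * k := by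
      have : p - 1 = 2 * k := by omega
      rw [this, ← mul_assoc, mul_comm p 2, mul_assoc,
        Nat.mul_div_cancel_left _ (by norm_num : 0 < 2)]
    rw [h2, pow_mul, hZp _ hcN, one_pow, mul_one]
  set Ω := S0636.omegaSub (⊤ : Subgroup R) p hmul with hΩ
  have hΩmem : ∀ x : R, x ∈ Ω ↔ x ^ p = 1 := by
    intro x
    rw [hΩ, S0636.mem_omegaSub]
    simp
  have hcl : Subgroup.closure {x : R | x ^ p = 1} = Ω := by
    apply le_antisymm
    · rw [Subgroup.closure_le]
      intro x hx
      exact (hΩmem x).mpr hx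
    · intro x hx
      exact Subgroup.subset_closure ((hΩmem x).mp hx)
  have hAΩ : A ≤ Ω := fun x hx => (hΩmem x).mpr (hAe.2 x hx)
  have hΩcard : Nat.card Ω ≤ p ^ 2 := by
    have h1 : Nat.card ↥(C.subgroupOf Ω) * (C.subgroupOf Ω).index = Nat.card Ω :=
      Subgroup.card_mul_index _
    have h2 : (C.subgroupOf Ω).index ∣ p := by
      have : C.relIndex Ω ∣ C.index := Subgroup.relIndex_dvd_index_of_normal C Ω
      rw [hCi] at this
      exact this
    have h3 : (C.subgroupOf Ω).index ≤ p := Nat.le_of_dvd hp0 h2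
    have h4 : Nat.card ↥(C.subgroupOf Ω) ≤ p := by
      have h5 : Nat.card ↥(C.subgroupOf Ω) = Nat.card ↥(C ⊓ Ω) := by
        rw [← Subgroup.inf_subgroupOf_right]
        exact Nat.card_congr (Subgroup.subgroupOfEquivOfLe inf_le_right).toEquiv
      rw [h5]
      exact card_le_of_exp_of_le_cyclic hp0 C hC (C ⊓ Ω) inf_le_left
        (fun x hx => (hΩmem x).mp hx.2)
    rw [← h1, sq]
    exact Nat.mul_le_mul h4 h3
  have hAeq : A = Ω := by
    apply Subgroup.eq_of_le_of_card_ge hAΩ
    rw [hAc]; exact hΩcard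
  rw [hcl, ← hAeq]
  exact ⟨hAe, hAc⟩

end Cfsg.Agent.S0127
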