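import Mathlib
import Cfsg.Statements.S0131

set_option autoImplicit false
open Pointwise
open Cfsg
open scoped commutatorElement

namespace Cfsg.Agent.S0131

theorem result {G : Type*} [Group G] [Finite G] {p : ℕ} [Fact p.Prime] (P : Sylow p G) : (∃ N : Subgroup G, N.Normal ∧ N ⊓ (P : Subgroup G) = ⁅(P : Subgroup G), (P : Subgroup G)⁆ ∧ N ⊔ (P : Subgroup G) = ⊤) ↔ commutator G ⊓ (P : Subgroup G) = ⁅(P : Subgroup G), (P : Subgroup G)⁆ := by
  constructor
  · rintro ⟨N, hN, hinf, hsup⟩
    have hle : commutator G ≤ N := by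
      rw [commutator_def, Subgroup.commutator_le]
      intro x _ y _
      have hx : x ∈ (P : Subgroup G) ⊔ N := by rw [sup_comm, hsup]; trivial
      have hy : y ∈ (P : Subgroup G) ⊔ N := by rw [sup_comm, hsup]; trivial
      obtain ⟨z1, hz1, n1, hn1, rfl⟩ := Subgroup.mem_sup_of_normal_right.1 hx
      obtain ⟨z2, hz2, n2, hn2, rfl⟩ := Subgroup.mem_sup_of_normal_right.1 hy
      rw [← QuotientGroup.eq_one_iff (N := N)]
      have e1 : ((n1 : G) : G ⧸ N) = 1 := (QuotientGroup.eq_one_iff n1).mpr hn1
      have e2 : ((n2 : G) : G ⧸ N) = 1 := (QuotientGroup.eq_one_iff n2).mpr hn2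
      have e3 : ((⁅z1, z2⁆ : G) : G ⧸ N) = 1 := by
        rw [QuotientGroup.eq_one_iff]
        have : ⁅z1, z2⁆ ∈ ⁅(P : Subgroup G), (P : Subgroup G)⁆ :=
          Subgroup.commutator_mem_commutator hz1 hz2
        rw [← hinf] at this
        exact this.1
      rw [commutatorElement_def] at e3 ⊢
      simp only [QuotientGroup.mk_mul, QuotientGroup.mk_inv, e1, e2, mul_one] at e3 ⊢
      exact e3
    apply le_antisymm
    · rw [← hinf]
      exact inf_le_inf_right _ hle
    · refine le_inf ?_ ?_
      · rw [commutator_def]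
        exact Subgroup.commutator_mono le_top le_top
      · rw [Subgroup.commutator_le]
        intro a ha b hb
        rw [commutatorElement_def]
        exact Subgroup.mul_mem _ (Subgroup.mul_mem _ (Subgroup.mul_mem _ ha hb)
          (Subgroup.inv_mem _ ha)) (Subgroup.inv_mem _ hb)
  · intro h
    refine ⟨(Subgroup.transferFocal (P : Subgroup G)).ker, MonoidHom.normal_ker _, ?_, ?_⟩
    · rw [Subgroup.ker_transferFocal_inf_eq_focalSubgroup P, ← Subgroup.commutator_inf_eq_focalSubgroup P, h]
    · have hsurj : ∀ g : G, ∃ x : (P : Subgroup G),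
          Subgroup.transferFocal (P : Subgroup G) (x : G) = Subgroup.transferFocal (P : Subgroup G) g := by
        intro g
        obtain ⟨y, hy⟩ := Subgroup.focalSubgroupOf.pow_index_surjective P
          (Subgroup.transferFocal (P : Subgroup G) g)
        obtain ⟨x, rfl⟩ := QuotientGroup.mk'_surjective _ y
        exact ⟨x, (Subgroup.transferFocal_eq_pow (P : Subgroup G) x).trans hy⟩
      rw [eq_top_iff]
      intro g _
      obtain ⟨x, hx⟩ := hsurj g
      have h1 : g * (x : G)⁻¹ ∈ (Subgroup.transferFocal (P : Subgroup G)).ker := by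
        rw [MonoidHom.mem_ker, map_mul, map_inv, hx, mul_inv_cancel]
      have h2 := Subgroup.mul_mem_sup h1 x.2
      simpa using h2

end Cfsg.Agent.S0131
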