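import Cfsg.Statements.S0132
import Cfsg.Agent.S0071
import Cfsg.Agent.S3986
import Cfsg.Agent.Lib_helper18_MinNormal

set_option autoImplicit false
open Cfsg
open scoped commutatorElement

namespace Cfsg.Agent.S0132

open Cfsg.Agent.lead Cfsg.Agent.S0071

theorem result {G : Type*} [Group G] [Finite G] {p : ℕ} [Fact p.Prime] (h1 : ¬ Cfsg.HasNormalPComplement p G) (h2 : ∀ H : Subgroup G, H ≠ ⊤ → Cfsg.HasNormalPComplement p H) : (∀ H : Subgroup G, H ≠ ⊤ → Group.IsNilpotent H) ∧ ¬ Group.IsNilpotent G ∧ ∀ P : Sylow p G, (P : Subgroup G).Normal := by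
  have hp : p.Prime := Fact.out
  -- Step A
  have hnF : ¬ FrobCond p G := by
    intro hF
    obtain ⟨P⟩ := (inferInstance : Nonempty (Sylow p G))
    exact h1 ⟨P, _, (complement_of_frobCond hF P).1, (complement_of_frobCond hF P).2⟩
  unfold FrobCond at hnF
  push Not at hnF
  obtain ⟨Q, hQ, g, hg, hcop, hgC⟩ := hnF
  -- Step B
  have hM : Q ⊔ Subgroup.zpowers g = ⊤ := by
    by_contra hM
    have hFM : FrobCond p ↥(Q ⊔ Subgroup.zpowers g) := frobCond_of_hasNormalPComplement (h2 _ hM)
    have hgM : g ∈ Q ⊔ Subgroup.zpowers g := Subgroup.mem_sup_right (Subgroup.mem_zpowers g)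
    have h3 := hFM (Q.subgroupOf (Q ⊔ Subgroup.zpowers g)) hQ.comap_subtype ⟨g, hgM⟩ (by
      rw [Subgroup.mem_normalizer_iff]
      intro x
      rw [Subgroup.mem_subgroupOf, Subgroup.mem_subgroupOf]
      exact (Subgroup.mem_normalizer_iff.mp hg) (x : G)) (by
      rw [← Subgroup.orderOf_coe]; exact hcop)
    apply hgC
    rw [Subgroup.mem_centralizer_iff]
    intro q hq
    have hq' : (⟨q, Subgroup.mem_sup_left hq⟩ : ↥(Q ⊔ Subgroup.zpowers g)) ∈
        Q.subgroupOf (Q ⊔ Subgroup.zpowers g) := by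
      rw [Subgroup.mem_subgroupOf]; exact hq
    have := (Subgroup.mem_centralizer_iff.mp h3) _ hq'
    exact congrArg Subtype.val this
  -- Step C
  haveI hQn : Q.Normal := by
    rw [← Subgroup.normalizer_eq_top_iff, eq_top_iff, ← hM]
    exact sup_le Subgroup.le_normalizer (Subgroup.zpowers_le.mpr hg)
  -- Step D
  have hcomm : commutator G ≤ Q :=
    Subgroup.Normal.commutator_le_of_self_sup_commutative_eq_top hM inferInstance
  -- Step E
  have hidx : ¬ p ∣ Q.index := by
    intro hd
    have h3 : Q.index = Q.relIndex (Subgroup.zpowers g) := by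
      rw [← Subgroup.relIndex_top_right, ← hM, sup_comm, Subgroup.relIndex_sup_right]
    rw [h3] at hd
    have h4 := dvd_trans hd (Subgroup.relIndex_dvd_card Q (Subgroup.zpowers g))
    rw [Nat.card_zpowers] at h4
    exact (Nat.Prime.coprime_iff_not_dvd hp).mp hcop.symm h4
  set Qs : Sylow p G := hQ.toSylow hidx with hQs
  have hQs_coe : (Qs : Subgroup G) = Q := IsPGroup.toSylow_coe hQ hidx
  haveI : (Qs : Subgroup G).Normal := by rw [hQs_coe]; exact hQn
  have huniq : ∀ P : Sylow p G, P = Qs := by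
    intro P
    haveI := Sylow.unique_of_normal Qs inferInstance
    exact Subsingleton.elim _ _
  have hF1 : ∀ R : Subgroup G, IsPGroup p R → R ≤ Q := by
    intro R hR
    obtain ⟨S, hS⟩ := hR.exists_le_sylow
    rw [huniq S, hQs_coe] at hS
    exact hS
  refine ⟨?_, ?_, ?_⟩
  · -- proper subgroups nilpotent
    intro M hMne
    obtain ⟨PM, NM, hNMn, hNMc⟩ := h2 M hMne
    set X : Subgroup G := M ⊓ Q with hX
    set Y : Subgroup G := NM.map M.subtype with hY
    have hYM : Y ≤ M := Subgroup.map_subtype_le _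
    have hPX : (PM : Subgroup M).map M.subtype ≤ X :=
      le_inf (Subgroup.map_subtype_le _) (hF1 _ (PM.2.map _))
    have hXY : X ⊔ Y = M := by
      apply le_antisymm (sup_le inf_le_left hYM)
      have h3 : (NM ⊔ (PM : Subgroup M)).map M.subtype = M := by
        rw [hNMc.sup_eq_top, ← MonoidHom.range_eq_map, Subgroup.range_subtype]
      rw [Subgroup.map_sup] at h3
      have h4 : NM.map M.subtype ⊔ (PM : Subgroup M).map M.subtype ≤ X ⊔ Y :=
        sup_le (le_sup_right (a := X) (b := Y)) (hPX.trans le_sup_left)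
      exact h3.symm.le.trans h4
    have hXp : IsPGroup p X := hQ.to_le inf_le_right
    have hYcard : ¬ p ∣ Nat.card Y := by
      have h3 : Nat.card Y = (PM : Subgroup M).index := by
        rw [hNMc.index_eq_card]
        exact Subgroup.card_map_of_injective (Subgroup.subtype_injective _)
      rw [h3]
      exact PM.not_dvd_index
    have hdisj : X ⊓ Y = ⊥ := by
      apply Subgroup.inf_eq_bot_of_coprime
      obtain ⟨k, hk⟩ := hXp.exists_card_eq
      rw [hk]
      exact Nat.Coprime.pow_left k ((Nat.Prime.coprime_iff_not_dvd hp).mpr hYcard)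
    have hYnorm : ∀ m ∈ M, ∀ y ∈ Y, m * y * m⁻¹ ∈ Y := by
      rintro m hm _ ⟨y, hy, rfl⟩
      exact ⟨⟨m, hm⟩ * y * ⟨m, hm⟩⁻¹, hNMn.conj_mem y hy ⟨m, hm⟩, rfl⟩
    have hcommXY : ∀ x ∈ X, ∀ y ∈ Y, x * y = y * x := by
      intro x hx y hy
      have h3 : x * y * x⁻¹ * y⁻¹ ∈ X ⊓ Y := by
        constructor
        · have h4 : y * x⁻¹ * y⁻¹ ∈ X :=
            ⟨M.mul_mem (M.mul_mem (hYM hy) (M.inv_mem hx.1)) (M.inv_mem (hYM hy)),
              hQn.conj_mem _ (Q.inv_mem hx.2) y⟩
          have h5 : x * y * x⁻¹ * y⁻¹ = x * (y * x⁻¹ * y⁻¹) := by group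
          rw [h5]; exact X.mul_mem hx h4
        · exact Y.mul_mem (hYnorm x hx.1 y hy) (Y.inv_mem hy)
      rw [hdisj, Subgroup.mem_bot] at h3
      have h6 : x * y = (x * y * x⁻¹ * y⁻¹) * (y * x) := by group
      rw [h6, h3, one_mul]
    have hYc : ∀ a ∈ Y, ∀ b ∈ Y, a * b = b * a := by
      intro a ha b hb
      have h3 : ⁅a, b⁆ ∈ X ⊓ Y := by
        constructor
        · refine ⟨?_, hcomm (Subgroup.commutator_mem_commutator (Subgroup.mem_top a) (Subgroup.mem_top b))⟩
          rw [commutatorElement_def]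
          exact M.mul_mem (M.mul_mem (M.mul_mem (hYM ha) (hYM hb)) (M.inv_mem (hYM ha))) (M.inv_mem (hYM hb))
        · rw [commutatorElement_def]
          exact Y.mul_mem (Y.mul_mem (Y.mul_mem ha hb) (Y.inv_mem ha)) (Y.inv_mem hb)
      rw [hdisj, Subgroup.mem_bot, commutatorElement_eq_one_iff_mul_comm] at h3
      exact h3
    haveI : Group.IsNilpotent X := hXp.isNilpotent
    haveI : Group.IsNilpotent Y := by
      letI : CommGroup Y := { (inferInstance : Group Y) with
        mul_comm := fun a b => Subtype.ext (hYc a a.2 b b.2) }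
      exact CommGroup.isNilpotent
    have hnil : Group.IsNilpotent ↥(X ⊔ Y) :=
      Group.nilpotent_of_mulEquiv (Cfsg.Agent.helper18.supEquivProd X Y hcommXY hdisj)
    rw [hXY] at hnil
    exact hnil
  · -- G not nilpotent
    intro hnil
    apply hgC
    apply Cfsg.Agent.S3986.mem_of_primePow_powers (Subgroup.centralizer (Q : Set G)) (orderOf g) g rfl
      (orderOf_pos g).ne'
    rintro k ⟨r, b, hr, hord⟩
    by_cases hrp : r = p
    · subst hrp
      have hd : orderOf (g ^ k) ∣ orderOf g := orderOf_pow_dvd k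
      have h3 : (orderOf (g ^ k)).Coprime r := Nat.Coprime.coprime_dvd_left hd hcop
      rw [hord] at h3
      have hb0 : b = 0 := by
        by_contra hb
        have : r ∣ r ^ b := dvd_pow_self r hb
        have h4 := Nat.Coprime.coprime_dvd_left this h3
        rw [Nat.coprime_self] at h4
        exact hr.one_lt.ne' h4
      rw [hb0, pow_zero, orderOf_eq_one_iff] at hord
      rw [hord]; exact Subgroup.one_mem _
    · haveI : Fact r.Prime := ⟨hr⟩
      have hz : IsPGroup r (Subgroup.zpowers (g ^ k)) := by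
        apply IsPGroup.of_card (n := b)
        rw [Nat.card_zpowers, hord]
      obtain ⟨S, hS⟩ := hz.exists_le_sylow
      haveI : (S : Subgroup G).Normal := inferInstance
      have hdisj : Disjoint Q (S : Subgroup G) := by
        rw [disjoint_iff]
        apply Subgroup.inf_eq_bot_of_coprime
        obtain ⟨i, hi⟩ := hQ.exists_card_eq
        obtain ⟨j, hj⟩ := S.2.exists_card_eq
        rw [hi, hj]
        exact Nat.Coprime.pow _ _ ((Nat.coprime_primes hp hr).mpr (Ne.symm hrp))
      rw [Subgroup.mem_centralizer_iff]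
      intro q hq
      exact (Subgroup.commute_of_normal_of_disjoint Q (S : Subgroup G) hQn inferInstance hdisj q (g ^ k) hq
        (hS (Subgroup.mem_zpowers _))).eq
  · intro P
    rw [huniq P]
    infer_instance

end Cfsg.Agent.S0132
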