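import Cfsg.Statements.S0134
import Mathlib
import Cfsg.Agent.Lib_helper24_Char

set_option autoImplicit false
set_option linter.style.haveILetI false
set_option linter.unusedVariables false
open Cfsg

namespace Cfsg.Agent.S0134

/-- The sum of the squares of the degrees of the irreducible complex characters of a finite group is the order of the group. -/
theorem result {G : Type*} [Group G] [Finite G] : ∑ᶠ χ : Cfsg.IrrCharacter G, (χ : G → ℂ) 1 ^ 2 = (Nat.card G : ℂ) := by
  classical
  haveI := Fintype.ofFinite (Cfsg.IrrCharacter G)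
  rw [finsum_eq_sum_of_fintype]
  have h := Cfsg.Agent.helper24.sum_irr_degree_sq (G := G)
  have h2 : ∀ χ : Cfsg.IrrCharacter G, (χ : G → ℂ) 1 ^ 2 = ((Cfsg.charDegree (χ : G → ℂ) ^ 2 : ℕ) : ℂ) := by
    intro χ
    rw [Nat.cast_pow, Cfsg.Agent.helper24.char_charDegree_cast (Cfsg.Agent.helper24.irr_isCharacter χ.2)]
  rw [Finset.sum_congr rfl (fun χ _ => h2 χ), ← Nat.cast_sum, h]

end Cfsg.Agent.S0134
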