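import Cfsg.Statements.S0135
import Mathlib
import Cfsg.Agent.Lib_helper24_Char
import Cfsg.Agent.Lib_helper1_RepBridge

set_option autoImplicit false
set_option linter.style.haveILetI false
set_option linter.unusedVariables false
open Cfsg

namespace Cfsg.Agent.S0135

/-- The degree of an irreducible complex representation of a finite group divides the group order. -/
theorem result {G : Type*} [Group G] [Finite G] {V : Type*} [AddCommGroup V] [Module ℂ V] [FiniteDimensional ℂ V] (ρ : Representation ℂ G V) [ρ.IsIrreducible] : Module.finrank ℂ V ∣ Nat.card G := by
  have hirr := Cfsg.Agent.helper1.isIrrCharacter_character ρ inferInstance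
  have h := Cfsg.Agent.helper24.irr_degree_dvd_card hirr
  rwa [Cfsg.Agent.helper24.charDegree_natCast ρ.character (Module.finrank ℂ V) (by simp)] at h

end Cfsg.Agent.S0135
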