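import Cfsg.Statements.S0136
import Mathlib
import Cfsg.Agent.Lib_helper24_Char

set_option autoImplicit false
set_option linter.style.haveILetI false
set_option linter.unusedVariables false
open Cfsg

namespace Cfsg.Agent.S0136

/-- Two elements of a finite group are conjugate if and only if no irreducible complex character separates them. -/
theorem result {G : Type*} [Group G] [Finite G] (g h : G) : IsConj g h ↔ ∀ χ : Cfsg.IrrCharacter G, (χ : G → ℂ) g = (χ : G → ℂ) h := by
  classical
  haveI : Finite (Cfsg.IrrCharacter G) := Cfsg.Agent.helper24.irr_finite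
  haveI := Fintype.ofFinite (Cfsg.IrrCharacter G)
  constructor
  · intro hc χ
    exact Cfsg.Agent.helper24.isClassFunction_iff_isConj.mp
        (Cfsg.Agent.helper24.char_isClassFunction (Cfsg.Agent.helper24.irr_isCharacter χ.2)) g h hc
  · intro hall
    by_contra hc
    have h1 := Cfsg.Agent.helper24.irr_column_orthogonality g h
    rw [if_neg hc] at h1
    have h2 := Cfsg.Agent.helper24.irr_column_orthogonality h h
    rw [if_pos (IsConj.refl h)] at h2
    simp only [hall] at h1
    rw [h1] at h2
    have : (Nat.card (Subgroup.centralizer ({h} : Set G)) : ℂ) ≠ 0 := by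
      exact_mod_cast Nat.card_pos.ne'
    exact this h2.symm

end Cfsg.Agent.S0136
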