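import Cfsg.Statements.S0138
import Mathlib
import Cfsg.Agent.Lib_helper1_Scalar

set_option autoImplicit false
set_option linter.style.haveILetI false
set_option linter.unusedVariables false
open Cfsg

namespace Cfsg.Agent.S0138

/-- A character value has absolute value equal to the degree exactly when the group element acts by a scalar. -/
theorem result {G : Type*} [Group G] [Finite G] {V : Type*} [AddCommGroup V] [Module ℂ V] [FiniteDimensional ℂ V] (ρ : Representation ℂ G V) (g : G) : ‖ρ.character g‖ = (Module.finrank ℂ V : ℝ) ↔ ∃ ω : ℂ, ρ g = ω • (LinearMap.id : V →ₗ[ℂ] V) := by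
  constructor
  · intro h
    have h' : ‖(Cfsg.Agent.helper1.finRep ρ).character g‖ = (Module.finrank ℂ V : ℝ) := by
      rw [Cfsg.Agent.helper1.finRep_character]; exact h
    obtain ⟨ω, hω⟩ := Cfsg.Agent.helper1.rep_scalar_of_norm_char_eq (Cfsg.Agent.helper1.finRep ρ) g h'
    exact ⟨ω, (Cfsg.Agent.helper1.finRep_eq_smul_id_iff ρ g ω).mp hω⟩
  · rintro ⟨ω, hω⟩
    have := Cfsg.Agent.helper1.rep_norm_char_of_scalar (Cfsg.Agent.helper1.finRep ρ) g ω
      ((Cfsg.Agent.helper1.finRep_eq_smul_id_iff ρ g ω).mpr hω)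
    rwa [Cfsg.Agent.helper1.finRep_character] at this

end Cfsg.Agent.S0138
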