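import Cfsg.Statements.S0146
import Mathlib
import Cfsg.Agent.Lib_helper12_IndFun

set_option autoImplicit false
set_option linter.style.haveILetI false
set_option linter.unusedVariables false
open Cfsg

namespace Cfsg.Agent.S0146

/-- Frobenius reciprocity for the induction map on functions: pairing the induced function with a class function of the big group equals pairing the original function with the restriction. -/
theorem result {G : Type*} [Group G] [Fintype G] (H : Subgroup G) [Fintype H] (θ : H → ℂ) (χ : G → ℂ) (hχ : Cfsg.IsClassFunction G χ) : Cfsg.classInner (Cfsg.indFun H θ) χ = Cfsg.classInner θ (fun h : H => χ h) := by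
  classical
  rw [Cfsg.Agent.helper12.classInner_indFun H θ χ hχ]
  unfold Cfsg.classInner
  congr 1
  have h2 : (∑ y : G, Cfsg.extendByZero H θ y * (starRingEnd ℂ) (χ y)) =
      ∑ y ∈ Finset.univ.filter (fun y : G => y ∈ H), Cfsg.extendByZero H θ y * (starRingEnd ℂ) (χ y) := by
    symm
    apply Finset.sum_subset (Finset.subset_univ _)
    intro y _ hy
    have : y ∉ H := by simpa using hy
    rw [Cfsg.Agent.helper12.extendByZero_of_not_mem' H θ y this]; simp
  rw [h2, Finset.sum_subtype (Finset.univ.filter (fun y : G => y ∈ H)) (p := fun y => y ∈ H)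
    (by intro y; simp) (fun y => Cfsg.extendByZero H θ y * (starRingEnd ℂ) (χ y))]
  apply Finset.sum_congr rfl
  intro h _
  rw [Cfsg.Agent.helper12.extendByZero_of_mem' H θ h h.2]

end Cfsg.Agent.S0146
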