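import Cfsg.Statements.S0149
import Mathlib
import Cfsg.Agent.Lib_helper12_IndFun

set_option autoImplicit false
set_option linter.style.haveILetI false
set_option linter.unusedVariables false
open Cfsg

namespace Cfsg.Agent.S0149

/-- Let T be a subset of G meeting each of its conjugates by elements outside its normalizer N only in the identity, and let ψ be a class function of N vanishing on N away from T. Then the function induced from ψ agrees with ψ at every non-identity element of T. -/
theorem result {G : Type*} [Group G] [Fintype G] (T : Set G) (hTI : ∀ g : G, g ∉ Subgroup.normalizer T → ∀ t ∈ T, g * t * g⁻¹ ∈ T → t = 1) (hTN : T ⊆ Subgroup.normalizer T) (ψ : Subgroup.normalizer T → ℂ) (hψ : Cfsg.IsClassFunction (Subgroup.normalizer T) ψ) (hψT : ∀ x : Subgroup.normalizer T, (x : G) ∉ T → ψ x = 0) (t : Subgroup.normalizer T) (htT : (t : G) ∈ T) (ht1 : t ≠ 1) : Cfsg.indFun (Subgroup.normalizer T) ψ t = ψ t := by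
  classical
  haveI : Fintype (Subgroup.normalizer T) := Fintype.ofFinite _
  have hNne : (Nat.card (Subgroup.normalizer T) : ℂ) ≠ 0 := by
    have : Nat.card (Subgroup.normalizer T) ≠ 0 := Nat.card_pos.ne'
    exact_mod_cast this
  have htne : (t : G) ≠ 1 := by
    intro h; apply ht1; exact Subtype.ext h
  have hterm : ∀ x : G, extendByZero (Subgroup.normalizer T) ψ (x⁻¹ * (t : G) * x)
      = if x ∈ Subgroup.normalizer T then ψ t else 0 := by
    intro x
    by_cases hx : x ∈ Subgroup.normalizer T
    · rw [if_pos hx]
      have hmem : x⁻¹ * (t : G) * x ∈ Subgroup.normalizer T :=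
        (Subgroup.normalizer T).mul_mem ((Subgroup.normalizer T).mul_mem
          ((Subgroup.normalizer T).inv_mem hx) t.2) hx
      rw [Cfsg.Agent.helper12.extendByZero_of_mem' (Subgroup.normalizer T) ψ _ hmem]
      have := hψ t (⟨x, hx⟩⁻¹ : Subgroup.normalizer T)
      rw [← this]
      congr 1
      apply Subtype.ext
      simp
    · rw [if_neg hx]
      have hx' : x⁻¹ ∉ Subgroup.normalizer T :=
        fun h => hx (by simpa using (Subgroup.normalizer T).inv_mem h)
      have hnotT : x⁻¹ * (t : G) * x ∉ T := by
        intro hmem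
        apply htne
        apply hTI x⁻¹ hx' (t : G) htT
        simpa using hmem
      by_cases hmemN : x⁻¹ * (t : G) * x ∈ Subgroup.normalizer T
      · rw [Cfsg.Agent.helper12.extendByZero_of_mem' (Subgroup.normalizer T) ψ _ hmemN]
        exact hψT ⟨_, hmemN⟩ hnotT
      · exact Cfsg.Agent.helper12.extendByZero_of_not_mem' (Subgroup.normalizer T) ψ _ hmemN
  unfold indFun
  simp_rw [hterm]
  rw [Finset.sum_ite, Finset.sum_const, Finset.sum_const_zero, add_zero, nsmul_eq_mul]
  have hcard : (Finset.univ.filter (fun x : G => x ∈ Subgroup.normalizer T)).card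
      = Nat.card (Subgroup.normalizer T) := by
    rw [Nat.card_eq_fintype_card, Fintype.card_subtype]
  rw [hcard]
  field_simp

end Cfsg.Agent.S0149
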