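import Cfsg.Statements.S0154
import Mathlib
import Cfsg.Agent.Lib_helper22_LinChar
import Cfsg.Agent.Lib_helper23_Linear

set_option autoImplicit false
set_option linter.style.haveILetI false
set_option linter.unusedVariables false
open Cfsg

namespace Cfsg.Agent.S0154

/-- A finite group has exactly as many irreducible complex characters of degree 1 as the index of its commutator subgroup. -/
theorem result {G : Type*} [Group G] [Finite G] : Nat.card {χ : Cfsg.IrrCharacter G // (χ : G → ℂ) 1 = 1} = (commutator G).index := by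
  classical
  rw [← Cfsg.Agent.helper22.card_hom_eq_index]
  symm
  apply Nat.card_congr
  refine Equiv.ofBijective
    (fun φ : G →* ℂˣ => (⟨⟨fun g => ((φ g : ℂˣ) : ℂ), Cfsg.Agent.helper22.hom_isIrrCharacter φ⟩,
      by simp⟩ : {χ : Cfsg.IrrCharacter G // (χ : G → ℂ) 1 = 1})) ⟨?_, ?_⟩
  · intro φ ψ h
    have h1 : (fun g => ((φ g : ℂˣ) : ℂ)) = (fun g => ((ψ g : ℂˣ) : ℂ)) := by
      have := congrArg (fun x : {χ : Cfsg.IrrCharacter G // (χ : G → ℂ) 1 = 1} =>
        ((x : Cfsg.IrrCharacter G) : G → ℂ)) h
      exact this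
    ext g
    exact congrFun h1 g
  · rintro ⟨χ, hχ1⟩
    have hchar := Cfsg.Agent.helper24.irr_isCharacter χ.2
    let f : G →* ℂ :=
      { toFun := (χ : G → ℂ)
        map_one' := hχ1
        map_mul' := Cfsg.Agent.helper23.linear_char_mul hchar hχ1 }
    refine ⟨f.toHomUnits, ?_⟩
    apply Subtype.ext
    apply Subtype.ext
    funext g
    rfl

end Cfsg.Agent.S0154
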