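import Cfsg.Statements.S0156
import Mathlib
import Cfsg.Agent.Lib_helper24_Char
import Cfsg.Agent.S0155

set_option autoImplicit false
set_option linter.style.haveILetI false
set_option linter.unusedVariables false
open Cfsg

namespace Cfsg.Agent.S0156

/-- The character of the left regular representation is the sum over the irreducible characters χ of χ 1 • χ. -/
theorem result {G : Type*} [Group G] [Fintype G] : (Representation.leftRegular ℂ G).character = ∑ᶠ χ : Cfsg.IrrCharacter G, (χ : G → ℂ) 1 • (χ : G → ℂ) := by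
  classical
  haveI : Finite (Cfsg.IrrCharacter G) := Cfsg.Agent.helper24.irr_finite
  haveI := Fintype.ofFinite (Cfsg.IrrCharacter G)
  rw [finsum_eq_sum_of_fintype]
  funext g
  rw [Cfsg.Agent.S0155.result g]
  have h1 := Cfsg.Agent.helper24.irr_column_orthogonality g (1 : G)
  have hconj : ∀ χ : Cfsg.IrrCharacter G, (starRingEnd ℂ) ((χ : G → ℂ) 1) = (χ : G → ℂ) 1 := by
    intro χ
    obtain ⟨n, hn⟩ := Cfsg.Agent.helper24.char_apply_one (Cfsg.Agent.helper24.irr_isCharacter χ.2)
    rw [hn]; simp
  simp only [hconj] at h1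
  have h2 : (∑ χ : Cfsg.IrrCharacter G, (χ : G → ℂ) 1 • (χ : G → ℂ)) g
      = ∑ χ : Cfsg.IrrCharacter G, (χ : G → ℂ) g * (χ : G → ℂ) 1 := by
    rw [Finset.sum_apply]
    refine Finset.sum_congr rfl (fun χ _ => ?_)
    simp [mul_comm]
  rw [h2, h1]
  have hc : Subgroup.centralizer ({(1 : G)} : Set G) = ⊤ := by
    ext x; simp [Subgroup.mem_centralizer_iff]
  by_cases hg : g = 1
  · rw [if_pos hg, if_pos (by rw [hg]), hc]
    simp
  · rw [if_neg hg, if_neg]
    intro h
    exact hg (isConj_one_left.mp h)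

end Cfsg.Agent.S0156
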