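import Cfsg.Statements.S0190
import Mathlib
import Cfsg.Agent.Lib_helper12_IndFun

set_option autoImplicit false
set_option linter.style.haveILetI false
set_option linter.unusedVariables false
open Cfsg

namespace Cfsg.Agent.S0190

/-- For a transitive action of a finite group on X, the permutation character g ↦ (number of fixed points of g) is the function induced from the principal character of the stabilizer of any point. -/
theorem result {G : Type*} [Group G] [Fintype G] (X : Type*) [MulAction G X] [Finite X] [MulAction.IsPretransitive G X] (x : X) : (fun g : G => (Nat.card (MulAction.fixedBy X g) : ℂ)) = Cfsg.indFun (MulAction.stabilizer G x) (fun _ => 1) := by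
  classical
  funext g
  haveI := Fintype.ofFinite X
  set S := MulAction.stabilizer G x with hS
  have hne : (Nat.card S : ℂ) ≠ 0 := by
    have : Nat.card S ≠ 0 := Nat.card_pos.ne'
    exact_mod_cast this
  have hext : ∀ y : G, extendByZero S (fun _ => (1 : ℂ)) y = if y ∈ S then 1 else 0 := by
    intro y
    by_cases hy : y ∈ S
    · rw [Cfsg.Agent.helper12.extendByZero_of_mem' S _ y hy, if_pos hy]
    · rw [Cfsg.Agent.helper12.extendByZero_of_not_mem' S _ y hy, if_neg hy]
  have hmem : ∀ a : G, (a⁻¹ * g * a ∈ S) ↔ a • x ∈ MulAction.fixedBy X g := by
    intro a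
    rw [hS, MulAction.mem_stabilizer_iff, MulAction.mem_fixedBy, mul_smul, mul_smul,
      inv_smul_eq_iff]
  -- fibers of a ↦ a • x
  have hfib : ∀ y : X, (Finset.univ.filter (fun a : G => a • x = y)).card = Nat.card S := by
    intro y
    obtain ⟨b, hb⟩ := MulAction.exists_smul_eq G x y
    rw [Nat.card_eq_fintype_card, Fintype.card_subtype]
    apply Finset.card_bij (fun a _ => b⁻¹ * a)
    · intro a ha
      simp only [Finset.mem_filter, Finset.mem_univ, true_and] at ha ⊢
      rw [hS, MulAction.mem_stabilizer_iff, mul_smul, ha, ← hb, inv_smul_smul]
    · intro a _ a' _ h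
      exact mul_left_cancel h
    · intro c hc
      simp only [Finset.mem_filter, Finset.mem_univ, true_and] at hc
      refine ⟨b * c, ?_, by simp⟩
      simp only [Finset.mem_filter, Finset.mem_univ, true_and]
      rw [hS, MulAction.mem_stabilizer_iff] at hc
      rw [mul_smul, hc, hb]
  unfold indFun
  simp_rw [hext, hmem]
  rw [Finset.sum_boole]
  have hcount : (Finset.univ.filter (fun a : G => a • x ∈ MulAction.fixedBy X g)).card
      = Nat.card (MulAction.fixedBy X g) * Nat.card S := by
    rw [Finset.card_eq_sum_card_fiberwise (f := fun a : G => a • x)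
      (t := Finset.univ.filter (fun y : X => y ∈ MulAction.fixedBy X g))]
    · have : ∀ y ∈ Finset.univ.filter (fun y : X => y ∈ MulAction.fixedBy X g),
          ((Finset.univ.filter (fun a : G => a • x ∈ MulAction.fixedBy X g)).filter
            (fun a => a • x = y)).card = Nat.card S := by
        intro y hy
        rw [← hfib y]
        congr 1
        ext a
        simp only [Finset.mem_filter, Finset.mem_univ, true_and] at hy ⊢
        constructor
        · rintro ⟨_, h⟩; exact h
        · intro h; exact ⟨by rw [h]; exact hy, h⟩
      rw [Finset.sum_congr rfl this, Finset.sum_const, smul_eq_mul,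
        Nat.card_eq_fintype_card (α := MulAction.fixedBy X g), Fintype.card_subtype]
    · intro a ha
      simp only [Finset.coe_filter, Set.mem_setOf_eq, Finset.mem_univ, true_and] at ha ⊢
      exact ha
  rw [hcount]
  push_cast
  field_simp

end Cfsg.Agent.S0190
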