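import Cfsg.Statements.S0157
import Mathlib
import Cfsg.Agent.Lib_helper12_CharOps
import Cfsg.Agent.Lib_helper28_CamCohen
import Cfsg.Agent.Lib_helper18_Design
import Cfsg.Agent.S0190
import Cfsg.Agent.Lib_helper24_Char
import Cfsg.Agent.Lib_helper8_Ind

set_option autoImplicit false
set_option linter.style.haveILetI false
set_option linter.unusedVariables false
open Cfsg

namespace Cfsg.Agent.S0157

/-- For a transitive action of a finite group on a finite set with at least two points: the action is 2-transitive if and only if the function sending g to (number of fixed points of g) − 1 is an irreducible character. -/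
theorem result {G : Type*} [Group G] [Finite G] (X : Type*) [MulAction G X] [Finite X] [MulAction.IsPretransitive G X] (hX : 2 ≤ Nat.card X) : Cfsg.IsIrrCharacter G (fun g => (Nat.card (MulAction.fixedBy X g) : ℂ) - 1) ↔ MulAction.IsMultiplyPretransitive G X 2 := by
  classical
  haveI := Fintype.ofFinite G
  haveI := Fintype.ofFinite X
  have hGne : (Nat.card G : ℂ) ≠ 0 := by
    have : Nat.card G ≠ 0 := Nat.card_pos.ne'
    exact_mod_cast this
  -- two distinct points
  have hX' : 1 < Nat.card X := hX
  rw [Finite.one_lt_card_iff_nontrivial] at hX'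
  obtain ⟨x0, x1, hx01⟩ := hX'.exists_pair_ne
  set π : G → ℂ := fun g => (Nat.card (MulAction.fixedBy X g) : ℂ) with hπ
  set one : G → ℂ := fun _ => 1 with hone
  have hπind : π = indFun (MulAction.stabilizer G x0) (fun _ => 1) := Cfsg.Agent.S0190.result X x0
  have hπchar : IsCharacter G π := by
    rw [hπind]
    exact Cfsg.Agent.helper12.isCharacter_indFun _
      (Cfsg.Agent.helper24.irr_isCharacter Cfsg.Agent.helper24.isIrrCharacter_one)
  have hπcf : IsClassFunction G π := Cfsg.Agent.helper24.char_isClassFunction hπchar
  have honeirr : IsIrrCharacter G one := Cfsg.Agent.helper24.isIrrCharacter_one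
  have honecf : IsClassFunction G one :=
    Cfsg.Agent.helper24.char_isClassFunction (Cfsg.Agent.helper24.irr_isCharacter honeirr)
  have hπconj : ∀ g, (starRingEnd ℂ) (π g) = π g := fun g => Complex.conj_natCast _
  -- ⟨π, 1⟩ = 1
  have horb1 : Nat.card (Quotient (MulAction.orbitRel G X)) = 1 := by
    rw [Nat.card_eq_one_iff_unique]
    refine ⟨⟨fun a b => ?_⟩, ⟨Quotient.mk'' x0⟩⟩
    induction a using Quotient.inductionOn' with
    | h a =>
    induction b using Quotient.inductionOn' with
    | h b =>
    apply Quotient.sound'
    exact MulAction.exists_smul_eq G b a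
  have hπone : classInner π one = 1 := by
    unfold classInner
    have h1 := Cfsg.Agent.helper28.Der.burnside G X
    rw [horb1, one_mul] at h1
    have h2 : ∑ g : G, π g * (starRingEnd ℂ) (one g) = (Nat.card G : ℂ) := by
      rw [← h1]
      push_cast
      apply Finset.sum_congr rfl
      intro g _
      simp [hone, hπ]
    rw [h2, inv_mul_cancel₀ hGne]
  have honeπ : classInner one π = 1 := by
    rw [← Cfsg.Agent.helper24.classInner_conj_symm, hπone, map_one]
  have honeone : classInner one one = 1 := Cfsg.Agent.helper24.irr_classInner_self honeirr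
  -- ⟨π, π⟩ = number of orbits on pairs
  have hππ : classInner π π = (Nat.card (Quotient (MulAction.orbitRel G (X × X))) : ℂ) := by
    unfold classInner
    have h1 := Cfsg.Agent.helper28.Der.burnside G (X × X)
    have h2 : ∑ g : G, π g * (starRingEnd ℂ) (π g)
        = (Nat.card (Quotient (MulAction.orbitRel G (X × X))) : ℂ) * (Nat.card G : ℂ) := by
      rw [← Nat.cast_mul, ← h1]
      push_cast
      apply Finset.sum_congr rfl
      intro g _
      rw [hπconj, Cfsg.Agent.helper28.Der.card_fixedBy_prod]
      push_cast
      rfl
    rw [h2]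
    field_simp
  -- f = π - 1
  have hfeq : (fun g => (Nat.card (MulAction.fixedBy X g) : ℂ) - 1) = π - one := by
    funext g; rfl
  rw [hfeq]
  have hnorm : classInner (π - one) (π - one)
      = (Nat.card (Quotient (MulAction.orbitRel G (X × X))) : ℂ) - 1 := by
    rw [Cfsg.Agent.helper24.classInner_sub_left, Cfsg.Agent.helper8.classInner_sub_right,
      Cfsg.Agent.helper8.classInner_sub_right, hππ, hπone, honeπ, honeone]
    ring
  have hfcf : IsClassFunction G (π - one) := by
    intro g h
    simp only [Pi.sub_apply]
    rw [hπcf g h, honecf g h]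
  have hfchar : IsCharacter G (π - one) := by
    apply Cfsg.Agent.helper12.isCharacter_of_classInner_nat hfcf
    intro ψ
    obtain ⟨k, hk⟩ := Cfsg.Agent.helper12.classInner_char_nat hπchar
      (Cfsg.Agent.helper24.irr_isCharacter ψ.2)
    rw [Cfsg.Agent.helper24.classInner_sub_left, hk,
      Cfsg.Agent.helper24.irr_classInner honeirr ψ.2]
    by_cases h1 : one = (ψ : G → ℂ)
    · rw [if_pos h1]
      have : k = 1 := by
        rw [← h1, hπone] at hk
        exact_mod_cast hk.symm
      refine ⟨0, ?_⟩
      rw [this]; simp
    · rw [if_neg h1]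
      exact ⟨k, by simp⟩
  constructor
  · -- irreducible ⇒ 2-transitive
    intro hirr
    have h1 := Cfsg.Agent.helper24.irr_classInner_self hirr
    rw [hnorm] at h1
    have hcard2 : Nat.card (Quotient (MulAction.orbitRel G (X × X))) = 2 := by
      have : (Nat.card (Quotient (MulAction.orbitRel G (X × X))) : ℂ) = 2 := by
        linear_combination h1
      exact_mod_cast this
    rw [MulAction.is_two_pretransitive_iff]
    intro a b c d hab hcd
    haveI : Fintype (Quotient (MulAction.orbitRel G (X × X))) := Fintype.ofFinite _
    by_contra hcon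
    have hq12 : (Quotient.mk'' (a, b) : Quotient (MulAction.orbitRel G (X × X)))
        ≠ Quotient.mk'' (c, d) := by
      intro h
      obtain ⟨g, hg⟩ := Quotient.exact' h.symm
      apply hcon
      exact ⟨g, congrArg Prod.fst hg, congrArg Prod.snd hg⟩
    have hq01 : (Quotient.mk'' (a, a) : Quotient (MulAction.orbitRel G (X × X)))
        ≠ Quotient.mk'' (a, b) := by
      intro h
      obtain ⟨g, hg⟩ := Quotient.exact' h
      have e1 : g • a = a := congrArg Prod.fst hg
      have e2 : g • b = a := congrArg Prod.snd hg
      exact hab (smul_left_cancel g (e1.trans e2.symm))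
    have hq02 : (Quotient.mk'' (a, a) : Quotient (MulAction.orbitRel G (X × X)))
        ≠ Quotient.mk'' (c, d) := by
      intro h
      obtain ⟨g, hg⟩ := Quotient.exact' h
      have e1 : g • c = a := congrArg Prod.fst hg
      have e2 : g • d = a := congrArg Prod.snd hg
      exact hcd (smul_left_cancel g (e1.trans e2.symm))
    have h3 : 2 < Fintype.card (Quotient (MulAction.orbitRel G (X × X))) :=
      Fintype.two_lt_card_iff.mpr ⟨_, _, _, hq01, hq02, hq12⟩
    rw [← Nat.card_eq_fintype_card, hcard2] at h3
    exact lt_irrefl _ h3
  · -- 2-transitive ⇒ irreducible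
    intro h2
    have hcard2 := Cfsg.Agent.helper18.card_orbits_prod_of_two_transitive X h2 x0 x1 hx01
    apply Cfsg.Agent.helper12.isIrrCharacter_of_classInner_self hfchar
    rw [hnorm]
    have : (Nat.card (Quotient (MulAction.orbitRel G (X × X))) : ℂ) = 2 := by
      exact_mod_cast hcard2
    rw [this]; norm_num

end Cfsg.Agent.S0157
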