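import Cfsg.Statements.S0158
import Mathlib
import Cfsg.Agent.Lib_helper22_FS
import Cfsg.Agent.Lib_helper1_RepBridge

set_option autoImplicit false
set_option linter.style.haveILetI false
set_option linter.unusedVariables false
open Cfsg

namespace Cfsg.Agent.S0158

/-- The Frobenius–Schur indicator of an irreducible complex representation of a finite group — the average over s of the character at s * s — is 0, 1 or −1, and it vanishes exactly when some character value is not real. -/
theorem result {G : Type*} [Group G] [Fintype G] {V : Type*} [AddCommGroup V] [Module ℂ V] [FiniteDimensional ℂ V] (ρ : Representation ℂ G V) [ρ.IsIrreducible] : ((Nat.card G : ℂ)⁻¹ * ∑ s : G, ρ.character (s * s) = 0 ∨ (Nat.card G : ℂ)⁻¹ * ∑ s : G, ρ.character (s * s) = 1 ∨ (Nat.card G : ℂ)⁻¹ * ∑ s : G, ρ.character (s * s) = -1) ∧ ((Nat.card G : ℂ)⁻¹ * ∑ s : G, ρ.character (s * s) = 0 ↔ ∃ s : G, (ρ.character s).im ≠ 0) := by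
  classical
  have hirr : IsIrrCharacter G ρ.character :=
    Cfsg.Agent.helper1.isIrrCharacter_character ρ inferInstance
  have hcases := Cfsg.Agent.helper22.fsInd_cases hirr
  have hiff := Cfsg.Agent.helper22.fsInd_ne_zero_iff hirr
  unfold Cfsg.Agent.helper22.fsInd at hcases hiff
  refine ⟨hcases, ?_⟩
  constructor
  · intro h0
    by_contra hcon
    push Not at hcon
    exact (hiff.mpr hcon) h0
  · rintro ⟨s, hs⟩
    by_contra hne
    exact hs (hiff.mp hne s)

end Cfsg.Agent.S0158
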