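import Cfsg.Statements.S0159
import Mathlib
import Cfsg.Agent.Lib_helper24_Char

set_option autoImplicit false
set_option linter.style.haveILetI false
set_option linter.unusedVariables false
open Cfsg

namespace Cfsg.Agent.S0159

/-- The number of solutions of s * s = 1 in a finite group equals the sum, over the irreducible characters χ, of (the average over s of χ (s * s)) times χ 1. -/
theorem result {G : Type*} [Group G] [Fintype G] : (Nat.card {s : G // s * s = 1} : ℂ) = ∑ᶠ χ : Cfsg.IrrCharacter G, ((Nat.card G : ℂ)⁻¹ * ∑ s : G, (χ : G → ℂ) (s * s)) * (χ : G → ℂ) 1 := by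
  classical
  haveI : Finite (Cfsg.IrrCharacter G) := Cfsg.Agent.helper24.irr_finite
  haveI := Fintype.ofFinite (Cfsg.IrrCharacter G)
  rw [finsum_eq_sum_of_fintype]
  have hconj : ∀ χ : Cfsg.IrrCharacter G, (starRingEnd ℂ) ((χ : G → ℂ) 1) = (χ : G → ℂ) 1 := by
    intro χ
    obtain ⟨n, hn⟩ := Cfsg.Agent.helper24.char_apply_one (Cfsg.Agent.helper24.irr_isCharacter χ.2)
    rw [hn]; simp
  have hc : Subgroup.centralizer ({(1 : G)} : Set G) = ⊤ := by
    ext x; simp [Subgroup.mem_centralizer_iff]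
  have hcol : ∀ s : G, ∑ χ : Cfsg.IrrCharacter G, (χ : G → ℂ) (s * s) * (χ : G → ℂ) 1
      = if s * s = 1 then (Nat.card G : ℂ) else 0 := by
    intro s
    have h1 := Cfsg.Agent.helper24.irr_column_orthogonality (s * s) (1 : G)
    simp only [hconj] at h1
    rw [h1, hc]
    by_cases hs : s * s = 1
    · rw [if_pos hs, if_pos (by rw [hs])]; simp
    · rw [if_neg hs, if_neg]
      intro h
      exact hs (isConj_one_left.mp h)
  have hG : (Nat.card G : ℂ) ≠ 0 := by exact_mod_cast Nat.card_pos.ne'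
  calc (Nat.card {s : G // s * s = 1} : ℂ)
      = (Nat.card G : ℂ)⁻¹ * ∑ s : G, (if s * s = 1 then (Nat.card G : ℂ) else 0) := by
        rw [← Finset.sum_filter, Finset.sum_const, nsmul_eq_mul, Nat.card_eq_fintype_card,
          Fintype.card_subtype]
        field_simp
    _ = (Nat.card G : ℂ)⁻¹ * ∑ s : G, ∑ χ : Cfsg.IrrCharacter G, (χ : G → ℂ) (s * s) * (χ : G → ℂ) 1 := by
        simp only [hcol]
    _ = ∑ χ : Cfsg.IrrCharacter G, ((Nat.card G : ℂ)⁻¹ * ∑ s : G, (χ : G → ℂ) (s * s)) * (χ : G → ℂ) 1 := by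
        rw [Finset.sum_comm, Finset.mul_sum]
        refine Finset.sum_congr rfl (fun χ _ => ?_)
        rw [← Finset.sum_mul, mul_assoc]

end Cfsg.Agent.S0159
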