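import Cfsg.Statements.S0160
import Mathlib
import Cfsg.Agent.Lib_helper22_FS
import Cfsg.Agent.Lib_helper1_ClassCount

set_option autoImplicit false
set_option linter.style.haveILetI false
set_option linter.unusedVariables false
open Cfsg

namespace Cfsg.Agent.S0160

/-- A finite group has as many real-valued irreducible complex characters as conjugacy classes closed under taking inverses. -/
theorem result {G : Type*} [Group G] [Finite G] : Nat.card {χ : Cfsg.IrrCharacter G // ∀ g : G, ((χ : G → ℂ) g).im = 0} = Nat.card {C : ConjClasses G // ∀ g : G, ConjClasses.mk g = C → IsConj g g⁻¹} := by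
  classical
  haveI := Fintype.ofFinite G
  haveI := Fintype.ofFinite (IrrCharacter G)
  have hGne : (Nat.card G : ℂ) ≠ 0 := by
    have : Nat.card G ≠ 0 := Nat.card_pos.ne'
    exact_mod_cast this
  have h1 := Cfsg.Agent.helper22.sum_realInd (G := G)
  have hcent : ∀ x : G, Subgroup.centralizer ({x⁻¹} : Set G) = Subgroup.centralizer ({x} : Set G) := by
    intro x
    ext y
    simp only [Subgroup.mem_centralizer_iff, Set.mem_singleton_iff, forall_eq]
    constructor
    · intro h
      have : y * x⁻¹ = x⁻¹ * y := h.symm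
      calc x * y = x * (y * x⁻¹) * x := by group
        _ = x * (x⁻¹ * y) * x := by rw [this]
        _ = y * x := by group
    · intro h
      have : y * x = x * y := h.symm
      calc x⁻¹ * y = x⁻¹ * (y * x) * x⁻¹ := by group
        _ = x⁻¹ * (x * y) * x⁻¹ := by rw [this]
        _ = y * x⁻¹ := by group
  simp_rw [hcent] at h1
  have h3 := Cfsg.Agent.helper1.sum_centralizer_eq_card_mul_classes (fun x : G => IsConj x x⁻¹) ?_
  · have h4 : (∑ x : G, if IsConj x x⁻¹ then (Nat.card (Subgroup.centralizer ({x} : Set G)) : ℂ) else 0)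
        = (Nat.card G : ℂ) *
          (Nat.card {C : ConjClasses G // ∀ g : G, ConjClasses.mk g = C → IsConj g g⁻¹} : ℂ) := by
      convert h3
    rw [h4] at h1
    rw [← mul_assoc, inv_mul_cancel₀ hGne, one_mul] at h1
    have h2 : ∑ χ : IrrCharacter G, Cfsg.Agent.helper22.realInd (χ : G → ℂ)
        = (Nat.card {χ : Cfsg.IrrCharacter G // ∀ g : G, ((χ : G → ℂ) g).im = 0} : ℂ) := by
      have : ∀ χ : IrrCharacter G, Cfsg.Agent.helper22.realInd (χ : G → ℂ)
          = if (∀ g : G, ((χ : G → ℂ) g).im = 0) then 1 else 0 := by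
        intro χ
        by_cases hr : ∀ g : G, ((χ : G → ℂ) g).im = 0
        · rw [if_pos hr, Cfsg.Agent.helper22.realInd_of_real χ.2 hr]
        · rw [if_neg hr, Cfsg.Agent.helper22.realInd_of_not_real χ.2 hr]
      rw [Finset.sum_congr rfl (fun χ _ => this χ), Finset.sum_boole,
        Nat.card_eq_fintype_card, Fintype.card_subtype]
    rw [h2] at h1
    exact_mod_cast h1
  · intro g h
    have : (h * g * h⁻¹)⁻¹ = h * g⁻¹ * h⁻¹ := by group
    rw [this]
    constructor
    · intro hc
      obtain ⟨c, hc⟩ := isConj_iff.mp hc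
      apply isConj_iff.mpr
      refine ⟨h⁻¹ * c * h, ?_⟩
      have : h⁻¹ * (c * (h * g * h⁻¹) * c⁻¹) * h = h⁻¹ * (h * g⁻¹ * h⁻¹) * h := by rw [hc]
      calc h⁻¹ * c * h * g * (h⁻¹ * c * h)⁻¹ = h⁻¹ * (c * (h * g * h⁻¹) * c⁻¹) * h := by group
        _ = h⁻¹ * (h * g⁻¹ * h⁻¹) * h := this
        _ = g⁻¹ := by group
    · intro hc
      obtain ⟨c, hc⟩ := isConj_iff.mp hc
      apply isConj_iff.mpr
      refine ⟨h * c * h⁻¹, ?_⟩
      calc h * c * h⁻¹ * (h * g * h⁻¹) * (h * c * h⁻¹)⁻¹ = h * (c * g * c⁻¹) * h⁻¹ := by group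
        _ = h * g⁻¹ * h⁻¹ := by rw [hc]

end Cfsg.Agent.S0160
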