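import Cfsg.Statements.S0161
import Mathlib
import Cfsg.Agent.Lib_helper22_FS

set_option autoImplicit false
set_option linter.style.haveILetI false
set_option linter.unusedVariables false
open Cfsg

namespace Cfsg.Agent.S0161

/-- In a finite group of odd order, a real-valued irreducible complex character is the trivial character. -/
theorem result {G : Type*} [Group G] [Finite G] (hodd : Odd (Nat.card G)) (χ : Cfsg.IrrCharacter G) (hreal : ∀ g : G, ((χ : G → ℂ) g).im = 0) : (χ : G → ℂ) = fun _ => 1 := by
  classical
  haveI := Fintype.ofFinite G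
  have hGne : (Nat.card G : ℂ) ≠ 0 := by
    have : Nat.card G ≠ 0 := Nat.card_pos.ne'
    exact_mod_cast this
  obtain ⟨m, hm⟩ := hodd
  -- squaring is a bijection
  have hsqinj : Function.Injective (fun s : G => s * s) := by
    have hleft : ∀ g : G, (g * g) ^ (m + 1) = g := by
      intro g
      rw [← pow_two, ← pow_mul]
      have : 2 * (m + 1) = Nat.card G + 1 := by omega
      rw [this, pow_succ, pow_card_eq_one', one_mul]
    intro a b hab
    simp only at hab
    rw [← hleft a, ← hleft b, hab]
  have hsqbij : Function.Bijective (fun s : G => s * s) :=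
    (Fintype.bijective_iff_injective_and_card _).mpr ⟨hsqinj, rfl⟩
  have hsum : ∑ s : G, (χ : G → ℂ) (s * s) = ∑ g : G, (χ : G → ℂ) g :=
    Fintype.sum_bijective _ hsqbij _ _ (fun _ => rfl)
  have hfs := Cfsg.Agent.helper22.fsInd_of_real χ.2 hreal
  have hinner : Cfsg.Agent.helper22.fsInd (χ : G → ℂ) = classInner (χ : G → ℂ) (fun _ => 1) := by
    unfold Cfsg.Agent.helper22.fsInd classInner
    rw [hsum]
    simp
  rw [hinner, Cfsg.Agent.helper24.irr_classInner χ.2 Cfsg.Agent.helper24.isIrrCharacter_one] at hfs
  by_contra hne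
  rw [if_neg hne] at hfs
  rcases hfs with h | h
  · norm_num at h
  · norm_num at h

end Cfsg.Agent.S0161
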