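import Cfsg.Statements.S0162
import Mathlib
import Cfsg.Agent.Lib_helper1_ConjChar
import Cfsg.Agent.S0161

set_option autoImplicit false
set_option linter.style.haveILetI false
set_option linter.unusedVariables false
open Cfsg

namespace Cfsg.Agent.S0162

/-- If a finite group has odd order, its order is congruent to its number of conjugacy classes modulo 16. -/
theorem result {G : Type*} [Group G] [Finite G] (hodd : Odd (Nat.card G)) : Nat.card G ≡ Nat.card (ConjClasses G) [MOD 16] := by
  classical
  haveI := Fintype.ofFinite G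
  haveI := Fintype.ofFinite (IrrCharacter G)
  have hsum := Cfsg.Agent.helper24.sum_irr_degree_sq (G := G)
  have hk := Cfsg.Agent.helper24.card_irr_eq_card_conjClasses (G := G)
  rw [← hk, ← hsum, Nat.card_eq_fintype_card]
  -- work in ZMod 16
  rw [← ZMod.natCast_eq_natCast_iff]
  push_cast
  have hodd' : ∀ χ : IrrCharacter G, Odd (charDegree (χ : G → ℂ)) := by
    intro χ
    have hdvd := Cfsg.Agent.helper24.irr_degree_dvd_card χ.2
    exact Odd.of_dvd_nat hodd hdvd
  have h16 : ∀ d : ℕ, Odd d → (2 : ZMod 16) * ((d : ZMod 16) ^ 2 - 1) = 0 := by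
    intro d hd
    obtain ⟨j, rfl⟩ := hd
    have : ((2 * j + 1 : ℕ) : ZMod 16) = 2 * (j : ZMod 16) + 1 := by push_cast; ring
    rw [this]
    have h2 : (2 : ZMod 16) * ((2 * (j : ZMod 16) + 1) ^ 2 - 1) = 8 * ((j : ZMod 16) * ((j : ZMod 16) + 1)) := by
      ring
    rw [h2]
    have : ∀ x : ZMod 16, 8 * (x * (x + 1)) = 0 := by decide
    exact this _
  set F : IrrCharacter G → ZMod 16 := fun χ => ((charDegree (χ : G → ℂ) : ℕ) : ZMod 16) ^ 2 - 1 with hF
  have hzero : ∑ χ : IrrCharacter G, F χ = 0 := by
    refine Finset.sum_involution (fun χ _ => Cfsg.Agent.helper1.irrConj χ) ?_ ?_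
      (fun χ _ => Finset.mem_univ _) (fun χ _ => Cfsg.Agent.helper1.irrConj_irrConj χ)
    · intro χ _
      simp only [hF]
      rw [Cfsg.Agent.helper1.charDegree_irrConj]
      have := h16 _ (hodd' χ)
      rw [two_mul] at this
      exact this
    · intro χ _ hne hfix
      apply hne
      have hreal := (Cfsg.Agent.helper1.irrConj_eq_self_iff χ).mp hfix
      have htriv := Cfsg.Agent.S0161.result hodd χ hreal
      simp only [hF]
      have : charDegree (χ : G → ℂ) = 1 := by
        apply Cfsg.Agent.helper24.charDegree_natCast _ 1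
        rw [htriv]; simp
      rw [this]; simp
  have : ∑ χ : IrrCharacter G, ((charDegree (χ : G → ℂ) : ℕ) : ZMod 16) ^ 2
      = ∑ χ : IrrCharacter G, (F χ + 1) := by
    apply Finset.sum_congr rfl
    intro χ _
    simp only [hF]; ring
  rw [this, Finset.sum_add_distrib, hzero, zero_add]
  simp

end Cfsg.Agent.S0162
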