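import Cfsg.Statements.S0165
import Cfsg.Agent.Lib_helper24_DefectZero

set_option autoImplicit false
open Cfsg

namespace Cfsg.Agent.S0165

/-- If p ^ n is the exact power of the prime p dividing the order of a finite group and p ^ n divides the degree of an irreducible complex representation, then its character vanishes at every element of order divisible by p. -/
theorem result {G : Type*} [Group G] [Finite G] {V : Type*} [AddCommGroup V] [Module ℂ V] [FiniteDimensional ℂ V] (ρ : Representation ℂ G V) [ρ.IsIrreducible] (p n : ℕ) (hp : p.Prime) (hn : p ^ n ∣ Nat.card G) (hn' : ¬ p ^ (n + 1) ∣ Nat.card G) (hdeg : p ^ n ∣ Module.finrank ℂ V) (x : G) (hx : p ∣ orderOf x) : ρ.character x = 0 := by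
  classical
  have := Fintype.ofFinite G
  haveI : Fact p.Prime := ⟨hp⟩
  have hirr : Cfsg.IsIrrCharacter G ρ.character :=
    Cfsg.Agent.helper1.isIrrCharacter_character ρ inferInstance
  have hna : n = (Nat.card G).factorization p := by
    apply le_antisymm
    · exact (hp.pow_dvd_iff_le_factorization Nat.card_pos.ne').1 hn
    · by_contra h
      have h' : n + 1 ≤ (Nat.card G).factorization p := by omega
      exact hn' ((hp.pow_dvd_iff_le_factorization Nat.card_pos.ne').2 h')
  have hdeg' : p ^ (Nat.card G).factorization p ∣ Cfsg.charDegree ρ.character := by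
    rw [← hna]
    have h2 : Cfsg.charDegree ρ.character = Module.finrank ℂ V := by
      have h1 := Cfsg.Agent.helper24.char_charDegree_cast
        (Cfsg.Agent.helper24.irr_isCharacter hirr)
      rw [Representation.char_one] at h1
      exact_mod_cast h1
    rw [h2]
    exact hdeg
  exact Cfsg.Agent.helper24.defect_zero_vanish p ⟨ρ.character, hirr⟩ hdeg' x hx

end Cfsg.Agent.S0165
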