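import Cfsg.Statements.S0166
import Mathlib
import Cfsg.Agent.Lib_helper1_Split5

set_option autoImplicit false
set_option linter.style.haveILetI false
set_option linter.unusedVariables false
open Cfsg

namespace Cfsg.Agent.S0166

/-- Brauer's splitting field Theorem: a complex representation of a finite group of exponent m is equivalent to a representation by matrices with entries in ℚ adjoined exp(2πi/m). -/
theorem result {G : Type*} [Group G] [Finite G] (n : ℕ) (ρ : Representation ℂ G (Fin n → ℂ)) : ∃ σ : Representation ℂ G (Fin n → ℂ), Nonempty (ρ.Equiv σ) ∧ ∀ g : G, ∀ i j : Fin n, LinearMap.toMatrix' (σ g) i j ∈ Algebra.adjoin ℚ ({Complex.exp (2 * Real.pi * Complex.I / (Monoid.exponent G : ℂ))} : Set ℂ) := by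
  classical
  haveI : Fintype G := Fintype.ofFinite G
  have he : Monoid.exponent G ≠ 0 := Monoid.exponent_ne_zero_of_finite
  have hprim := Complex.isPrimitiveRoot_exp (Monoid.exponent G) he
  have hint : IsIntegral ℚ (Complex.exp (2 * Real.pi * Complex.I / (Monoid.exponent G : ℂ))) :=
    (hprim.isIntegral (Nat.pos_of_ne_zero he)).tower_top
  obtain ⟨σ, hσ, hent⟩ := Cfsg.Agent.helper1.splitting_of_values
    (IntermediateField.adjoin ℚ
      ({Complex.exp (2 * Real.pi * Complex.I / (Monoid.exponent G : ℂ))} : Set ℂ))
    (fun E lam h => Cfsg.Agent.helper1.lin_value_mem E lam h) n ρ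
  refine ⟨σ, hσ, fun g i j => ?_⟩
  have h1 := hent g i j
  rw [← IntermediateField.mem_toSubalgebra,
    IntermediateField.adjoin_simple_toSubalgebra_of_isAlgebraic hint.isAlgebraic] at h1
  exact h1

end Cfsg.Agent.S0166
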