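import Cfsg.Statements.S0168
import Mathlib
import Cfsg.Agent.Lib_helper1_CharKer

set_option autoImplicit false
set_option linter.style.haveILetI false
set_option linter.unusedVariables false
open Cfsg

namespace Cfsg.Agent.S0168

/-- The Burnside–Brauer Theorem. Let χ be the character of a faithful complex representation of a finite group, taking m distinct values. Then every irreducible character has nonzero inner product with χ ^ i for some i < m. -/
theorem result {G : Type*} [Group G] [Fintype G] {V : Type*} [AddCommGroup V] [Module ℂ V] [FiniteDimensional ℂ V] (ρ : Representation ℂ G V) (hfaithful : Function.Injective ρ) (ψ : G → ℂ) (hψ : Cfsg.IsIrrCharacter G ψ) : ∃ i : ℕ, i < Nat.card (Set.range ρ.character) ∧ Cfsg.classInner (fun g => ρ.character g ^ i) ψ ≠ 0 := by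
  classical
  set χ := ρ.character with hχdef
  set vals : Finset ℂ := Finset.univ.image χ with hvals
  have hcard : Nat.card (Set.range χ) = vals.card := by
    rw [hvals, ← Set.toFinset_range, Set.toFinset_card, Nat.card_eq_fintype_card]
  set a1 : ℂ := (Module.finrank ℂ V : ℂ) with ha1
  have hχ1 : χ 1 = a1 := Representation.char_one ρ
  have ha1mem : a1 ∈ vals := by
    rw [hvals, Finset.mem_image]; exact ⟨1, Finset.mem_univ _, hχ1⟩
  have hinj : Set.InjOn (id : ℂ → ℂ) vals := fun _ _ _ _ h => h
  set P : Polynomial ℂ := Lagrange.basis vals id a1 with hP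
  have hPdeg : P.natDegree = vals.card - 1 := Lagrange.natDegree_basis hinj ha1mem
  have hPa1 : P.eval a1 = 1 := Lagrange.eval_basis_self hinj ha1mem
  have hPother : ∀ g : G, g ≠ 1 → P.eval (χ g) = 0 := by
    intro g hg
    have hne : a1 ≠ χ g := by
      intro h
      exact hg ((Cfsg.Agent.helper1.char_eq_finrank_iff_of_faithful ρ hfaithful g).mp h.symm)
    have hmem : χ g ∈ vals := by
      rw [hvals, Finset.mem_image]; exact ⟨g, Finset.mem_univ _, rfl⟩
    exact Lagrange.eval_basis_of_ne (v := id) hne hmem
  have hvpos : 0 < vals.card := Finset.card_pos.mpr ⟨a1, ha1mem⟩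
  have hlt : P.natDegree < vals.card := by omega
  by_contra hcon
  push Not at hcon
  rw [hcard] at hcon
  have hψ1 : ψ 1 ≠ 0 := Cfsg.Agent.helper24.irr_apply_one_ne_zero hψ
  have hGne : (Nat.card G : ℂ) ≠ 0 := by
    have : Nat.card G ≠ 0 := Nat.card_pos.ne'
    exact_mod_cast this
  have hzero : ∀ i, i < vals.card → ∑ g : G, χ g ^ i * (starRingEnd ℂ) (ψ g) = 0 := by
    intro i hi
    have := hcon i hi
    unfold classInner at this
    exact (mul_eq_zero.mp this).resolve_left (inv_ne_zero hGne)
  have hsum1 : ∑ g : G, P.eval (χ g) * (starRingEnd ℂ) (ψ g) = (starRingEnd ℂ) (ψ 1) := by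
    rw [Finset.sum_eq_single (1 : G)]
    · rw [hχ1, hPa1, one_mul]
    · intro g _ hg
      rw [hPother g hg, zero_mul]
    · intro h; exact absurd (Finset.mem_univ _) h
  have hsum2 : ∑ g : G, P.eval (χ g) * (starRingEnd ℂ) (ψ g) = 0 := by
    simp_rw [Polynomial.eval_eq_sum_range' hlt, Finset.sum_mul]
    rw [Finset.sum_comm]
    apply Finset.sum_eq_zero
    intro i hi
    have := hzero i (Finset.mem_range.mp hi)
    simp_rw [mul_assoc]
    rw [← Finset.mul_sum, this, mul_zero]
  rw [hsum2] at hsum1
  apply hψ1
  have := congrArg (starRingEnd ℂ) hsum1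
  simpa using this.symm

end Cfsg.Agent.S0168
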