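import Cfsg.Statements.S0170
import Mathlib
import Cfsg.Agent.Lib_helper1_Isometry
import Cfsg.Agent.Lib_helper8_Clifford
import Cfsg.Agent.Lib_helper12_CharOps
import Cfsg.Agent.S0150

set_option autoImplicit false
set_option linter.style.haveILetI false
set_option linter.unusedVariables false
open Cfsg

namespace Cfsg.Agent.S0170

/-- Exceptional characters. Let S be a subset of a finite group contained in its normalizer N and meeting its conjugates by elements outside N only in the identity. Given n ≥ 2 distinct irreducible characters of N of equal degree that vanish on N away from S, there exist a sign ε and n distinct irreducible characters θ_i of G such that inducing χ_i − χ_j to G gives ε (θ_i − θ_j) for all i, j. -/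
theorem result {G : Type*} [Group G] [Fintype G] (S : Set G) (hSN : S ⊆ Subgroup.normalizer S) (hTI : ∀ g : G, g ∉ Subgroup.normalizer S → ∀ s ∈ S, g * s * g⁻¹ ∈ S → s = 1) (n : ℕ) (hn : 2 ≤ n) (χ : Fin n → (Subgroup.normalizer S → ℂ)) (hirr : ∀ i, Cfsg.IsIrrCharacter (Subgroup.normalizer S) (χ i)) (hinj : Function.Injective χ) (hvan : ∀ i, ∀ x : Subgroup.normalizer S, (x : G) ∉ S → χ i x = 0) (hdeg : ∀ i j, χ i 1 = χ j 1) : ∃ ε : ℂ, (ε = 1 ∨ ε = -1) ∧ ∃ θ : Fin n → (G → ℂ), (∀ i, Cfsg.IsIrrCharacter G (θ i)) ∧ Function.Injective θ ∧ ∀ i j, Cfsg.indFun (Subgroup.normalizer S) (χ i) - Cfsg.indFun (Subgroup.normalizer S) (χ j) = ε • (θ i - θ j) := by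
  classical
  haveI : Fintype (Subgroup.normalizer S) := Fintype.ofFinite _
  have hn0 : 0 < n := by omega
  set i₀ : Fin n := ⟨0, hn0⟩ with hi₀
  have hchar : ∀ i, IsCharacter (Subgroup.normalizer S) (χ i) := fun i => Cfsg.Agent.helper24.irr_isCharacter (hirr i)
  have hcf : ∀ i, IsClassFunction (Subgroup.normalizer S) (χ i) := fun i =>
    Cfsg.Agent.helper24.char_isClassFunction (hchar i)
  set τ : Fin n → (G → ℂ) := fun i => indFun (Subgroup.normalizer S) (χ i) - indFun (Subgroup.normalizer S) (χ i₀) with hτ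
  have hτeq : ∀ i, τ i = indFun (Subgroup.normalizer S) (χ i - χ i₀) := by
    intro i
    simp only [hτ]
    rw [sub_eq_add_neg (χ i), Cfsg.Agent.helper8.indFun_add, ← neg_one_smul ℂ (χ i₀),
      Cfsg.Agent.helper8.indFun_smul]
    funext g
    simp [sub_eq_add_neg]
  have h0 : τ i₀ = 0 := by simp [hτ]
  have hgen : ∀ i, IsGeneralizedCharacter G (τ i) := fun i =>
    ⟨indFun (Subgroup.normalizer S) (χ i), indFun (Subgroup.normalizer S) (χ i₀), Cfsg.Agent.helper12.isCharacter_indFun (Subgroup.normalizer S) (hchar i),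
      Cfsg.Agent.helper12.isCharacter_indFun (Subgroup.normalizer S) (hchar i₀), rfl⟩
  have hone : ∀ i, τ i 1 = 0 := by
    intro i
    simp only [hτ, Pi.sub_apply]
    rw [Cfsg.Agent.helper8.indFun_one_eq, Cfsg.Agent.helper8.indFun_one_eq, hdeg i i₀, sub_self]
  have hdiffcf : ∀ i, IsClassFunction (Subgroup.normalizer S) (χ i - χ i₀) := by
    intro i a b
    simp only [Pi.sub_apply]
    rw [hcf i a b, hcf i₀ a b]
  have hdiffvan : ∀ i, ∀ x : (Subgroup.normalizer S), (x : G) ∉ S → (χ i - χ i₀) x = 0 := by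
    intro i x hx
    simp only [Pi.sub_apply]
    rw [hvan i x hx, hvan i₀ x hx, sub_self]
  have hdiff1 : ∀ i, (χ i - χ i₀) 1 = 0 := by
    intro i
    simp only [Pi.sub_apply]
    rw [hdeg i i₀, sub_self]
  have hgram : ∀ i j, i ≠ i₀ → j ≠ i₀ → classInner (τ i) (τ j) = if i = j then 2 else 1 := by
    intro i j hi hj
    rw [hτeq i, hτeq j]
    rw [Cfsg.Agent.S0150.result S hTI hSN (χ i - χ i₀) (χ j - χ i₀) (hdiffcf i) (hdiffcf j)
      (hdiffvan i) (hdiffvan j) (hdiff1 i)]
    have key : ∀ a b : Fin n, classInner (χ a) (χ b) = if a = b then 1 else 0 := by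
      intro a b
      rw [Cfsg.Agent.helper24.irr_classInner (hirr a) (hirr b)]
      by_cases h : a = b
      · rw [if_pos h, if_pos (by rw [h])]
      · rw [if_neg h, if_neg (fun h' => h (hinj h'))]
    rw [Cfsg.Agent.helper24.classInner_sub_left, Cfsg.Agent.helper8.classInner_sub_right,
      Cfsg.Agent.helper8.classInner_sub_right, key, key, key, key]
    have h1 : ¬ (i = i₀) := hi
    have h2 : ¬ (i₀ = j) := fun h => hj h.symm
    rw [if_neg h1, if_neg h2, if_pos rfl]
    by_cases hij : i = j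
    · rw [if_pos hij, if_pos hij]; norm_num
    · rw [if_neg hij, if_neg hij]; norm_num
  obtain ⟨ε, hε, μ, hμirr, hμinj, hμ⟩ :=
    Cfsg.Agent.helper1.isometry_lemma n i₀ τ h0 hgen hone hgram
  refine ⟨ε, hε, μ, hμirr, hμinj, ?_⟩
  intro i j
  have h1 := hμ i
  have h2 := hμ j
  have : indFun (Subgroup.normalizer S) (χ i) - indFun (Subgroup.normalizer S) (χ j) = τ i - τ j := by
    simp only [hτ]; abel
  rw [this, h1, h2]
  funext g
  simp only [Pi.sub_apply, Pi.smul_apply, smul_eq_mul]
  ring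

end Cfsg.Agent.S0170
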