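import Cfsg.Statements.S0173
import Mathlib
import Cfsg.Agent.Lib_helper1_ClassCount

set_option autoImplicit false
set_option linter.style.haveILetI false
set_option linter.unusedVariables false
open Cfsg

namespace Cfsg.Agent.S0173

/-- Brauer's permutation lemma for a single automorphism: the number of conjugacy classes mapped to themselves equals the number of irreducible complex characters χ with χ ∘ α = χ. -/
theorem result {G : Type*} [Group G] [Finite G] (α : G ≃* G) : Nat.card {C : ConjClasses G // ConjClasses.map α.toMonoidHom C = C} = Nat.card {χ : Cfsg.IrrCharacter G // (χ : G → ℂ) ∘ α = (χ : G → ℂ)} := by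
  classical
  haveI := Fintype.ofFinite G
  haveI := Fintype.ofFinite (IrrCharacter G)
  have hGne : (Nat.card G : ℂ) ≠ 0 := by
    have : Nat.card G ≠ 0 := Nat.card_pos.ne'
    exact_mod_cast this
  -- characters side
  have hirr : ∀ χ : IrrCharacter G, IsIrrCharacter G ((χ : G → ℂ) ∘ α) := fun χ =>
    Cfsg.Agent.helper8.isIrrCharacter_comp_mulEquiv α χ.2
  have h2 : ∑ χ : IrrCharacter G, classInner ((χ : G → ℂ) ∘ α) (χ : G → ℂ)
      = (Nat.card {χ : Cfsg.IrrCharacter G // (χ : G → ℂ) ∘ α = (χ : G → ℂ)} : ℂ) := by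
    have : ∀ χ : IrrCharacter G, classInner ((χ : G → ℂ) ∘ α) (χ : G → ℂ)
        = if ((χ : G → ℂ) ∘ α = (χ : G → ℂ)) then 1 else 0 := by
      intro χ
      exact Cfsg.Agent.helper24.irr_classInner (hirr χ) χ.2
    rw [Finset.sum_congr rfl (fun χ _ => this χ), Finset.sum_boole,
      Nat.card_eq_fintype_card, Fintype.card_subtype]
  -- classes side
  have hP : ∀ g h : G, IsConj (α (h * g * h⁻¹)) (h * g * h⁻¹) ↔ IsConj (α g) g := by
    intro g h
    have h1 : IsConj (α g) (α (h * g * h⁻¹)) := isConj_iff.mpr ⟨α h, by simp⟩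
    have h2 : IsConj g (h * g * h⁻¹) := isConj_iff.mpr ⟨h, rfl⟩
    constructor
    · intro hc; exact (h1.trans hc).trans h2.symm
    · intro hc; exact (h1.symm.trans hc).trans h2
  have h3 := Cfsg.Agent.helper1.sum_centralizer_eq_card_mul_classes (fun g : G => IsConj (α g) g) hP
  have h4 : ∑ χ : IrrCharacter G, classInner ((χ : G → ℂ) ∘ α) (χ : G → ℂ)
      = (Nat.card G : ℂ)⁻¹ * ∑ g : G,
        (if IsConj (α g) g then (Nat.card (Subgroup.centralizer ({g} : Set G)) : ℂ) else 0) := by
    unfold classInner
    rw [← Finset.mul_sum, Finset.sum_comm]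
    congr 1
    apply Finset.sum_congr rfl
    intro g _
    have := Cfsg.Agent.helper24.irr_column_orthogonality (α g) g
    convert this using 2
    rfl
  have h5 : (∑ g : G,
        (if IsConj (α g) g then (Nat.card (Subgroup.centralizer ({g} : Set G)) : ℂ) else 0))
      = (Nat.card G : ℂ) *
        (Nat.card {C : ConjClasses G // ∀ g : G, ConjClasses.mk g = C → IsConj (α g) g} : ℂ) := by
    convert h3
  rw [h5, ← mul_assoc, inv_mul_cancel₀ hGne, one_mul, h2] at h4
  have h6 : Nat.card {C : ConjClasses G // ConjClasses.map α.toMonoidHom C = C}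
      = Nat.card {C : ConjClasses G // ∀ g : G, ConjClasses.mk g = C → IsConj (α g) g} := by
    apply Nat.card_congr
    apply Equiv.subtypeEquivRight
    intro C
    obtain ⟨g0, rfl⟩ := ConjClasses.mk_surjective C
    constructor
    · intro h g hg
      rw [← hg] at h
      exact ConjClasses.mk_eq_mk_iff_isConj.mp h
    · intro h
      exact ConjClasses.mk_eq_mk_iff_isConj.mpr (h g0 rfl)
  rw [h6]
  exact_mod_cast h4.symm

end Cfsg.Agent.S0173
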