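import Cfsg.Statements.S0193
import Mathlib
import Cfsg.Agent.Lib_helper8_Ind

set_option autoImplicit false
set_option linter.style.haveILetI false
set_option linter.unusedVariables false
open Cfsg

namespace Cfsg.Agent.S0193

/-- Let H be a normal subgroup of a finite group G and θ an irreducible character of H. Then |H| times the inner product of the induced function of θ with itself equals the number of g in G with θ(g h g⁻¹) = θ(h) for all h in H; in particular the induced character is irreducible when only elements of H stabilise θ. -/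
theorem result {G : Type*} [Group G] [Fintype G] (H : Subgroup G) [hN : H.Normal] (θ : H → ℂ) (hθ : Cfsg.IsIrrCharacter H θ) : (Nat.card H : ℂ) * Cfsg.classInner (Cfsg.indFun H θ) (Cfsg.indFun H θ) = (Nat.card {g : G // ∀ h : H, θ ⟨g * h * g⁻¹, hN.conj_mem h h.2 g⟩ = θ h} : ℂ) := by
  classical
  haveI : Fintype H := Fintype.ofFinite _
  have hHne : (Nat.card H : ℂ) ≠ 0 := by
    have : Nat.card H ≠ 0 := Nat.card_pos.ne'
    exact_mod_cast this
  rw [Cfsg.Agent.helper8.frobenius H θ _ (Cfsg.Agent.helper8.indFun_isClassFunction H θ),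
    Cfsg.Agent.helper8.indFun_restrict_normal H θ, Cfsg.Agent.helper8.classInner_smul_right,
    Cfsg.Agent.helper8.classInner_sum_right, map_inv₀, Complex.conj_natCast, ← mul_assoc,
    mul_inv_cancel₀ hHne, one_mul]
  have hterm : ∀ x : G, classInner θ (Cfsg.Agent.helper8.conjFunN H x⁻¹ θ)
      = if Cfsg.Agent.helper8.conjFunN H x⁻¹ θ = θ then 1 else 0 := by
    intro x
    rw [Cfsg.Agent.helper24.irr_classInner hθ (Cfsg.Agent.helper8.isIrrCharacter_conjFunN H x⁻¹ hθ)]
    by_cases h : Cfsg.Agent.helper8.conjFunN H x⁻¹ θ = θ
    · rw [if_pos h, if_pos h.symm]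
    · rw [if_neg h, if_neg (fun h' => h h'.symm)]
  rw [Finset.sum_congr rfl (fun x _ => hterm x), Finset.sum_boole]
  congr 1
  rw [Nat.card_eq_fintype_card, Fintype.card_subtype]
  apply Finset.card_bij (fun x _ => x⁻¹)
  · intro x hx
    simp only [Finset.mem_filter, Finset.mem_univ, true_and] at hx ⊢
    intro h
    have := congrFun hx h
    rw [Cfsg.Agent.helper8.conjFunN_apply] at this
    exact this
  · intro a _ b _ hab
    exact inv_injective hab
  · intro g hg
    simp only [Finset.mem_filter, Finset.mem_univ, true_and] at hg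
    refine ⟨g⁻¹, ?_, inv_inv g⟩
    simp only [Finset.mem_filter, Finset.mem_univ, true_and]
    funext h
    rw [Cfsg.Agent.helper8.conjFunN_apply]
    have := hg h
    convert this using 3 <;> simp

end Cfsg.Agent.S0193
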