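import Cfsg.Statements.S0171
import Mathlib
import Cfsg.Agent.Lib_helper12_CharOps
import Cfsg.Agent.S0173
import Cfsg.Agent.S0193

set_option autoImplicit false
set_option linter.style.haveILetI false
set_option linter.unusedVariables false
open Cfsg

namespace Cfsg.Agent.S0171

/-- Let G = K H with K normal, K ⊓ H trivial, and no non-identity element of H commuting with a non-identity element of K (a Frobenius group with kernel K and complement H). Then every non-principal irreducible character of K induces to an irreducible character of G. -/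
theorem result {G : Type*} [Group G] [Fintype G] (K H : Subgroup G) [K.Normal] (hKH : K ⊓ H = ⊥) (hKH' : K ⊔ H = ⊤) (hfpf : ∀ h ∈ H, h ≠ 1 → ∀ k ∈ K, h * k = k * h → k = 1) (τ : K → ℂ) (hτ : Cfsg.IsIrrCharacter K τ) (hτ1 : τ ≠ fun _ => 1) : Cfsg.IsIrrCharacter G (Cfsg.indFun K τ) := by
  classical
  haveI : Fintype K := Fintype.ofFinite _
  have hKne : (Nat.card K : ℂ) ≠ 0 := by
    have : Nat.card K ≠ 0 := Nat.card_pos.ne'
    exact_mod_cast this
  have hN : K.Normal := inferInstance
  have hτcf : IsClassFunction K τ :=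
    Cfsg.Agent.helper24.char_isClassFunction (Cfsg.Agent.helper24.irr_isCharacter hτ)
  -- key: a nonidentity element of H does not stabilise τ
  have key : ∀ h ∈ H, (∀ k : K, τ ⟨h * k * h⁻¹, hN.conj_mem k k.2 h⟩ = τ k) → h = 1 := by
    intro h hh hstab
    by_contra hne
    let α : K ≃* K := MulAut.conjNormal h
    have hαapp : ∀ k : K, ((α k : K) : G) = h * k * h⁻¹ := fun k => rfl
    have hτα : τ ∘ α = τ := by
      funext k
      exact hstab k
    have hbrauer := Cfsg.Agent.S0173.result α
    -- the map k ↦ k⁻¹ h k h⁻¹ is a bijection of K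
    let f : K → K := fun k => ⟨(k : G)⁻¹ * (h * k * h⁻¹), K.mul_mem (K.inv_mem k.2) (hN.conj_mem k k.2 h)⟩
    have hfinj : Function.Injective f := by
      intro a b hab
      have h1 : (a : G)⁻¹ * (h * a * h⁻¹) = (b : G)⁻¹ * (h * b * h⁻¹) := congrArg Subtype.val hab
      have h2 : h * ((b : G) * (a : G)⁻¹) = ((b : G) * (a : G)⁻¹) * h := by
        have h3 : (a : G)⁻¹ * h * a = (b : G)⁻¹ * h * b := by
          have := congrArg (fun z => z * h) h1
          simpa [mul_assoc] using this
        calc h * ((b : G) * (a : G)⁻¹) = (b : G) * ((b : G)⁻¹ * h * b) * (a : G)⁻¹ := by group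
          _ = (b : G) * ((a : G)⁻¹ * h * a) * (a : G)⁻¹ := by rw [h3]
          _ = ((b : G) * (a : G)⁻¹) * h := by group
      have h4 := hfpf h hh hne ((b : G) * (a : G)⁻¹) (K.mul_mem b.2 (K.inv_mem a.2)) h2
      apply Subtype.ext
      have : (b : G) = ((b : G) * (a : G)⁻¹) * (a : G) := by group
      rw [this, h4, one_mul]
    have hfsurj : Function.Surjective f := Finite.surjective_of_injective hfinj
    -- only the trivial class is fixed
    have hall : ∀ C : ConjClasses K, ConjClasses.map α.toMonoidHom C = C → C = ConjClasses.mk 1 := by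
      intro C hC
      obtain ⟨k0, rfl⟩ := ConjClasses.mk_surjective C
      have hconj : IsConj (α k0) k0 := ConjClasses.mk_eq_mk_iff_isConj.mp hC
      obtain ⟨c, hc⟩ := isConj_iff.mp hconj
      have hc' : (c : G) * (h * k0 * h⁻¹) * (c : G)⁻¹ = (k0 : G) := by
        have := congrArg Subtype.val hc
        rw [← hαapp k0]
        simpa using this
      obtain ⟨k, hk⟩ := hfsurj c
      have hk' : (k : G)⁻¹ * (h * k * h⁻¹) = (c : G) := congrArg Subtype.val hk
      have e : h * ((k : G) * k0 * (k : G)⁻¹) * h⁻¹ = (k : G) * k0 * (k : G)⁻¹ := by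
        calc h * ((k : G) * k0 * (k : G)⁻¹) * h⁻¹
            = (k : G) * (((k : G)⁻¹ * (h * k * h⁻¹)) * (h * k0 * h⁻¹)
                * ((k : G)⁻¹ * (h * k * h⁻¹))⁻¹) * (k : G)⁻¹ := by group
          _ = (k : G) * ((c : G) * (h * k0 * h⁻¹) * (c : G)⁻¹) * (k : G)⁻¹ := by rw [hk']
          _ = (k : G) * k0 * (k : G)⁻¹ := by rw [hc']
      have hcomm : h * ((k : G) * k0 * (k : G)⁻¹) = ((k : G) * k0 * (k : G)⁻¹) * h :=
        mul_inv_eq_iff_eq_mul.mp e
      have h1 := hfpf h hh hne ((k : G) * k0 * (k : G)⁻¹)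
        (K.mul_mem (K.mul_mem k.2 k0.2) (K.inv_mem k.2)) hcomm
      have hk01 : (k0 : G) = 1 := by
        have : (k0 : G) = (k : G)⁻¹ * ((k : G) * k0 * (k : G)⁻¹) * (k : G) := by group
        rw [this, h1]; group
      have : k0 = 1 := Subtype.ext hk01
      rw [this]
    have hsub : Subsingleton {C : ConjClasses K // ConjClasses.map α.toMonoidHom C = C} :=
      ⟨fun a b => Subtype.ext ((hall a.1 a.2).trans (hall b.1 b.2).symm)⟩
    have hle1 : Nat.card {C : ConjClasses K // ConjClasses.map α.toMonoidHom C = C} ≤ 1 :=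
      Finite.card_le_one_iff_subsingleton.mpr hsub
    -- but two characters are fixed
    let χ1 : {χ : Cfsg.IrrCharacter K // (χ : K → ℂ) ∘ α = (χ : K → ℂ)} :=
      ⟨⟨fun _ => 1, Cfsg.Agent.helper24.isIrrCharacter_one⟩, by funext k; rfl⟩
    let χ2 : {χ : Cfsg.IrrCharacter K // (χ : K → ℂ) ∘ α = (χ : K → ℂ)} := ⟨⟨τ, hτ⟩, hτα⟩
    have hne12 : χ1 ≠ χ2 := by
      intro h12
      apply hτ1
      have := congrArg (fun x : {χ : Cfsg.IrrCharacter K // (χ : K → ℂ) ∘ α = (χ : K → ℂ)} =>
        ((x : Cfsg.IrrCharacter K) : K → ℂ)) h12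
      exact this.symm
    haveI : Finite (Cfsg.IrrCharacter K) := Cfsg.Agent.helper24.irr_finite
    have h2le : 1 < Nat.card {χ : Cfsg.IrrCharacter K // (χ : K → ℂ) ∘ α = (χ : K → ℂ)} :=
      Finite.one_lt_card_iff_nontrivial.mpr ⟨⟨χ1, χ2, hne12⟩⟩
    omega
  -- the stabiliser is exactly K
  have hstabK : Nat.card {g : G // ∀ k : K, τ ⟨g * k * g⁻¹, hN.conj_mem k k.2 g⟩ = τ k}
      = Nat.card K := by
    apply Nat.card_congr
    apply Equiv.subtypeEquivRight
    intro g
    constructor
    · intro hg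
      have hgtop : g ∈ K ⊔ H := by rw [hKH']; exact Subgroup.mem_top g
      obtain ⟨k1, hk1, h1, hh1, rfl⟩ := Subgroup.mem_sup_of_normal_left.mp hgtop
      have : h1 = 1 := by
        apply key h1 hh1
        intro k
        rw [← hg k]
        have := hτcf ⟨h1 * k * h1⁻¹, hN.conj_mem k k.2 h1⟩ ⟨k1, hk1⟩
        rw [← this]
        congr 1
        apply Subtype.ext
        simp only [Subgroup.coe_mul, Subgroup.coe_inv, mul_inv_rev]
        group
      rw [this, mul_one]; exact hk1
    · intro hg k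
      have := hτcf k ⟨g, hg⟩
      rw [← this]
      congr 1
  have h193 := Cfsg.Agent.S0193.result K τ hτ
  rw [hstabK] at h193
  have hnorm : classInner (indFun K τ) (indFun K τ) = 1 := by
    have : (Nat.card K : ℂ) * classInner (indFun K τ) (indFun K τ) = (Nat.card K : ℂ) * 1 := by
      rw [h193, mul_one]
    exact mul_left_cancel₀ hKne this
  exact Cfsg.Agent.helper12.isIrrCharacter_of_classInner_self
    (Cfsg.Agent.helper12.isCharacter_indFun K (Cfsg.Agent.helper24.irr_isCharacter hτ)) hnorm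

end Cfsg.Agent.S0171
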