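import Cfsg.Statements.S0172
import Mathlib

set_option autoImplicit false
set_option linter.unusedSectionVars false
open Cfsg

namespace Cfsg.Agent.S0172

open scoped Classical

/-- `∑_g |C(g)| = k(X) |X|`. -/
lemma sum_card_centralizer (X : Type*) [Group X] [Fintype X] :
    ∑ g : X, Nat.card (Subgroup.centralizer ({g} : Set X)) =
      Nat.card (ConjClasses X) * Nat.card X := by
  rw [← card_comm_eq_card_conjClasses_mul_card]
  have e : {p : X × X // Commute p.1 p.2} ≃ Σ g : X, Subgroup.centralizer ({g} : Set X) :=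
    { toFun := fun p => ⟨p.1.1, ⟨p.1.2, by
        rw [Subgroup.mem_centralizer_iff]
        intro y hy
        rw [Set.mem_singleton_iff] at hy
        subst hy
        exact p.2.eq⟩⟩
      invFun := fun s => ⟨(s.1, s.2.1), by
        have := s.2.2
        rw [Subgroup.mem_centralizer_iff] at this
        exact this s.1 rfl⟩
      left_inv := fun p => rfl
      right_inv := fun s => rfl }
  rw [Nat.card_congr e, Nat.card_sigma]

variable {G : Type*} [Group G] [Finite G]

/-- every element of the coset `K h` is `K`-conjugate to `h`. -/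
lemma exists_conj (K H : Subgroup G) [K.Normal]
    (hfpf : ∀ h ∈ H, h ≠ 1 → ∀ k ∈ K, h * k = k * h → k = 1)
    (h : G) (hh : h ∈ H) (hh1 : h ≠ 1) (k : G) (hk : k ∈ K) :
    ∃ c ∈ K, c⁻¹ * h * c = k * h := by
  let φ : K → K := fun c => ⟨(c : G)⁻¹ * (h * c * h⁻¹), K.mul_mem (K.inv_mem c.2)
    (Subgroup.Normal.conj_mem inferInstance _ c.2 h)⟩
  have hinj : Function.Injective φ := by
    intro c d hcd
    have h1 : (c : G)⁻¹ * (h * c * h⁻¹) = (d : G)⁻¹ * (h * d * h⁻¹) := congrArg Subtype.val hcd
    have h2 : h * ((c : G) * (d : G)⁻¹) = ((c : G) * (d : G)⁻¹) * h := by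
      have h3 : (c : G)⁻¹ * h * c = (d : G)⁻¹ * h * d := by
        have := congrArg (fun z => z * h) h1
        calc (c : G)⁻¹ * h * c = (c : G)⁻¹ * (h * c * h⁻¹) * h := by group
          _ = (d : G)⁻¹ * (h * d * h⁻¹) * h := this
          _ = (d : G)⁻¹ * h * d := by group
      calc h * ((c : G) * (d : G)⁻¹) = (c : G) * ((c : G)⁻¹ * h * c) * (d : G)⁻¹ := by group
        _ = (c : G) * ((d : G)⁻¹ * h * d) * (d : G)⁻¹ := by rw [h3]
        _ = ((c : G) * (d : G)⁻¹) * h := by group
    have h4 := hfpf h hh hh1 _ (K.mul_mem c.2 (K.inv_mem d.2)) h2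
    apply Subtype.ext
    exact mul_inv_eq_one.1 h4
  have hsurj : Function.Surjective φ := Finite.injective_iff_surjective.1 hinj
  obtain ⟨c, hc⟩ := hsurj ⟨k, hk⟩
  refine ⟨c, c.2, ?_⟩
  have h1 : (c : G)⁻¹ * (h * c * h⁻¹) = k := congrArg Subtype.val hc
  rw [← h1]
  group

lemma centralizer_le_H (K H : Subgroup G) [K.Normal] (hKH : K ⊓ H = ⊥)
    (hcomp : Function.Bijective (fun x : K × H => (x.1 : G) * (x.2 : G)))
    (hfpf : ∀ h ∈ H, h ≠ 1 → ∀ k ∈ K, h * k = k * h → k = 1)
    (h : G) (hh : h ∈ H) (hh1 : h ≠ 1) (x : G) (hx : h * x = x * h) : x ∈ H := by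
  obtain ⟨⟨k, h'⟩, hkh⟩ := hcomp.2 x
  simp only at hkh
  have h1 : (k : G)⁻¹ * h * k = (h' : G) * h * (h' : G)⁻¹ := by
    have h2 : h * ((k : G) * (h' : G)) = ((k : G) * (h' : G)) * h := by rw [hkh]; exact hx
    calc (k : G)⁻¹ * h * k = (k : G)⁻¹ * (h * ((k : G) * (h' : G))) * (h' : G)⁻¹ := by group
      _ = (k : G)⁻¹ * (((k : G) * (h' : G)) * h) * (h' : G)⁻¹ := by rw [h2]
      _ = (h' : G) * h * (h' : G)⁻¹ := by group
  have hu : (k : G)⁻¹ * h * k * h⁻¹ ∈ K ⊓ H := by
    refine ⟨?_, ?_⟩
    · have : (k : G)⁻¹ * h * k * h⁻¹ = (k : G)⁻¹ * (h * k * h⁻¹) := by group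
      rw [this]
      exact K.mul_mem (K.inv_mem k.2) (Subgroup.Normal.conj_mem inferInstance _ k.2 h)
    · rw [h1]
      exact H.mul_mem (H.mul_mem (H.mul_mem h'.2 hh) (H.inv_mem h'.2)) (H.inv_mem hh)
  rw [hKH, Subgroup.mem_bot] at hu
  have h3 : h * (k : G) = (k : G) * h := by
    calc h * (k : G) = (k : G) * ((k : G)⁻¹ * h * k * h⁻¹) * h := by group
      _ = (k : G) * h := by rw [hu, mul_one]
  have hk1 := hfpf h hh hh1 k k.2 h3
  rw [← hkh, hk1, one_mul]
  exact h'.2

lemma centralizer_le_K (K H : Subgroup G) [K.Normal]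
    (hcomp : Function.Bijective (fun x : K × H => (x.1 : G) * (x.2 : G)))
    (hfpf : ∀ h ∈ H, h ≠ 1 → ∀ k ∈ K, h * k = k * h → k = 1)
    (g : G) (hg : g ∈ K) (hg1 : g ≠ 1) (x : G) (hx : g * x = x * g) : x ∈ K := by
  obtain ⟨⟨k, h'⟩, hkh⟩ := hcomp.2 x
  simp only at hkh
  by_cases hh' : (h' : G) = 1
  · rw [← hkh, hh', mul_one]; exact k.2
  · exfalso
    obtain ⟨c, hc, hcx⟩ := exists_conj K H hfpf (h' : G) h'.2 hh' k k.2
    rw [hkh] at hcx
    -- h' commutes with c g c⁻¹
    have h1 : (h' : G) * (c * g * c⁻¹) = (c * g * c⁻¹) * (h' : G) := by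
      have h2 : g * (c⁻¹ * (h' : G) * c) = (c⁻¹ * (h' : G) * c) * g := by rw [hcx]; exact hx
      calc (h' : G) * (c * g * c⁻¹) = c * ((c⁻¹ * (h' : G) * c) * g) * c⁻¹ := by group
        _ = c * (g * (c⁻¹ * (h' : G) * c)) * c⁻¹ := by rw [h2]
        _ = (c * g * c⁻¹) * (h' : G) := by group
    have h3 := hfpf (h' : G) h'.2 hh' (c * g * c⁻¹)
      (Subgroup.Normal.conj_mem inferInstance _ hg c) h1
    apply hg1
    calc g = c⁻¹ * (c * g * c⁻¹) * c := by group
      _ = 1 := by rw [h3]; group

/-- Class number of a Frobenius group: if G = K H with K normal, K ⊓ H trivial and no non-identity element of H commuting with a non-identity element of K, then |H| * k(G) + 1 = |H| * k(H) + k(K), where k denotes the number of conjugacy classes. -/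
theorem result {G : Type*} [Group G] [Finite G] (K H : Subgroup G) [K.Normal] (hKH : K ⊓ H = ⊥) (hKH' : K ⊔ H = ⊤) (hfpf : ∀ h ∈ H, h ≠ 1 → ∀ k ∈ K, h * k = k * h → k = 1) : Nat.card H * Nat.card (ConjClasses G) + 1 = Nat.card H * Nat.card (ConjClasses H) + Nat.card (ConjClasses K) := by
  haveI : Fintype G := Fintype.ofFinite G
  have hcomp' : Subgroup.IsComplement' K H := by
    apply Subgroup.isComplement'_of_disjoint_and_mul_eq_univ (disjoint_iff.2 hKH)
    rw [← Subgroup.normal_mul, hKH']
    rfl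
  have hcomp : Function.Bijective (fun x : K × H => (x.1 : G) * (x.2 : G)) := hcomp'
  have hcardG : Nat.card G = Nat.card K * Nat.card H := hcomp'.card_mul.symm
  -- centralizer cardinalities
  have cH : ∀ (k : K) (h : H), h ≠ 1 →
      Nat.card (Subgroup.centralizer ({(k : G) * (h : G)} : Set G)) =
        Nat.card (Subgroup.centralizer ({h} : Set H)) := by
    intro k h hh1
    have hh1' : (h : G) ≠ 1 := fun e => hh1 (Subtype.ext e)
    obtain ⟨c, hc, hcx⟩ := exists_conj K H hfpf (h : G) h.2 hh1' k k.2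
    rw [← hcx]
    apply Nat.card_congr
    refine
      { toFun := fun y => ⟨⟨c * (y : G) * c⁻¹, ?_⟩, ?_⟩
        invFun := fun z => ⟨c⁻¹ * ((z : H) : G) * c, ?_⟩
        left_inv := fun y => by apply Subtype.ext; simp only; group
        right_inv := fun z => by
          apply Subtype.ext; apply Subtype.ext; simp only; group }
    · have hy := y.2
      rw [Subgroup.mem_centralizer_iff] at hy
      have hy1 := hy _ rfl
      apply centralizer_le_H K H hKH hcomp hfpf (h : G) h.2 hh1'
      calc (h : G) * (c * (y : G) * c⁻¹) = c * ((c⁻¹ * (h : G) * c) * (y : G)) * c⁻¹ := by group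
        _ = c * ((y : G) * (c⁻¹ * (h : G) * c)) * c⁻¹ := by rw [hy1]
        _ = (c * (y : G) * c⁻¹) * (h : G) := by group
    · rw [Subgroup.mem_centralizer_iff]
      intro w hw
      rw [Set.mem_singleton_iff] at hw
      subst hw
      have hy := y.2
      rw [Subgroup.mem_centralizer_iff] at hy
      have hy1 := hy _ rfl
      apply Subtype.ext
      show (w : G) * (c * (y : G) * c⁻¹) = (c * (y : G) * c⁻¹) * (w : G)
      calc (w : G) * (c * (y : G) * c⁻¹) = c * ((c⁻¹ * (w : G) * c) * (y : G)) * c⁻¹ := by group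
        _ = c * ((y : G) * (c⁻¹ * (w : G) * c)) * c⁻¹ := by rw [hy1]
        _ = (c * (y : G) * c⁻¹) * (w : G) := by group
    · rw [Subgroup.mem_centralizer_iff]
      intro w hw
      rw [Set.mem_singleton_iff] at hw
      subst hw
      have hz := z.2
      rw [Subgroup.mem_centralizer_iff] at hz
      have hz1 := congrArg Subtype.val (hz h rfl)
      simp only [Subgroup.coe_mul] at hz1
      calc c⁻¹ * (h : G) * c * (c⁻¹ * ((z : H) : G) * c)
          = c⁻¹ * ((h : G) * ((z : H) : G)) * c := by group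
        _ = c⁻¹ * (((z : H) : G) * (h : G)) * c := by rw [hz1]
        _ = c⁻¹ * ((z : H) : G) * c * (c⁻¹ * (h : G) * c) := by group
  have cK : ∀ (k : K), k ≠ 1 →
      Nat.card (Subgroup.centralizer ({(k : G)} : Set G)) =
        Nat.card (Subgroup.centralizer ({k} : Set K)) := by
    intro k hk1
    have hk1' : (k : G) ≠ 1 := fun e => hk1 (Subtype.ext e)
    apply Nat.card_congr
    refine
      { toFun := fun y => ⟨⟨(y : G), ?_⟩, ?_⟩
        invFun := fun z => ⟨((z : K) : G), ?_⟩
        left_inv := fun y => rfl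
        right_inv := fun z => rfl }
    · have hy := y.2
      rw [Subgroup.mem_centralizer_iff] at hy
      exact centralizer_le_K K H hcomp hfpf (k : G) k.2 hk1' _ (hy _ rfl)
    · rw [Subgroup.mem_centralizer_iff]
      intro w hw
      rw [Set.mem_singleton_iff] at hw
      subst hw
      have hy := y.2
      rw [Subgroup.mem_centralizer_iff] at hy
      apply Subtype.ext
      exact hy _ rfl
    · rw [Subgroup.mem_centralizer_iff]
      intro w hw
      rw [Set.mem_singleton_iff] at hw
      subst hw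
      have hz := z.2
      rw [Subgroup.mem_centralizer_iff] at hz
      exact congrArg Subtype.val (hz k rfl)
  -- sums
  haveI : Fintype K := Fintype.ofFinite K
  haveI : Fintype H := Fintype.ofFinite H
  set fG : G → ℕ := fun g => Nat.card (Subgroup.centralizer ({g} : Set G)) with hfG
  set fH : H → ℕ := fun h => Nat.card (Subgroup.centralizer ({h} : Set H)) with hfH
  set fK : K → ℕ := fun k => Nat.card (Subgroup.centralizer ({k} : Set K)) with hfK
  have hone : ∀ (X : Type _) [Group X], Nat.card (Subgroup.centralizer ({(1 : X)} : Set X)) = Nat.card X := by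
    intro X _
    have : Subgroup.centralizer ({(1 : X)} : Set X) = ⊤ := by
      rw [Subgroup.centralizer_eq_top_iff_subset]
      intro y hy
      rw [Set.mem_singleton_iff] at hy
      subst hy
      exact Subgroup.one_mem _
    rw [this, Subgroup.card_top]
  set TH : ℕ := ∑ h ∈ (Finset.univ : Finset H).erase 1, fH h with hTH
  set TK : ℕ := ∑ k ∈ (Finset.univ : Finset K).erase 1, fK k with hTK
  have e2 : Nat.card (ConjClasses H) * Nat.card H = Nat.card H + TH := by
    rw [← sum_card_centralizer H, ← Finset.add_sum_erase Finset.univ _ (Finset.mem_univ (1 : H))]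
    rw [hone H]
  have e3 : Nat.card (ConjClasses K) * Nat.card K = Nat.card K + TK := by
    rw [← sum_card_centralizer K, ← Finset.add_sum_erase Finset.univ _ (Finset.mem_univ (1 : K))]
    rw [hone K]
  have e1 : Nat.card (ConjClasses G) * Nat.card G = Nat.card G + TK + Nat.card K * TH := by
    rw [← sum_card_centralizer G]
    have h1 : ∑ g : G, fG g = ∑ x : K × H, fG ((x.1 : G) * (x.2 : G)) :=
      (hcomp.sum_comp fG).symm
    have h2 : ∀ k : K, ∑ h : H, fG ((k : G) * (h : G)) = fG (k : G) + TH := by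
      intro k
      rw [← Finset.add_sum_erase Finset.univ _ (Finset.mem_univ (1 : H))]
      congr 1
      · simp
      · apply Finset.sum_congr rfl
        intro h hh
        exact cH k h (Finset.ne_of_mem_erase hh)
    have h3 : ∑ k : K, fG (k : G) = Nat.card G + TK := by
      rw [← Finset.add_sum_erase Finset.univ _ (Finset.mem_univ (1 : K))]
      congr 1
      · show Nat.card (Subgroup.centralizer ({((1 : K) : G)} : Set G)) = Nat.card G
        rw [Subgroup.coe_one]
        exact hone G
      · apply Finset.sum_congr rfl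
        intro k hk
        exact cK k (Finset.ne_of_mem_erase hk)
    show ∑ g : G, fG g = _
    rw [h1, Fintype.sum_prod_type]
    simp only [h2]
    rw [Finset.sum_add_distrib, h3, Finset.sum_const, Finset.card_univ, smul_eq_mul,
      Nat.card_eq_fintype_card (α := K)]
  have ha : 0 < Nat.card K := Nat.card_pos
  apply Nat.eq_of_mul_eq_mul_left ha
  rw [hcardG] at e1
  nlinarith [e1, e2, e3]

end Cfsg.Agent.S0172
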