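import Mathlib
import Cfsg.Agent.Lib_helper22_MGroup
import Cfsg.Agent.Lib_helper24_Char
import Cfsg.Agent.Lib_helper24_CharIntegral
import Cfsg.Statements.S0175

set_option autoImplicit false
set_option linter.unusedSectionVars false
set_option linter.unusedVariables false
open Cfsg

namespace Cfsg.Agent.S0175

open Cfsg.Agent.helper22
open scoped ComplexConjugate
open scoped commutatorElement

universe u

section
variable {G : Type u} [Group G] [Fintype G]

/-- an induced linear character is constant on a normal subgroup contained in the kernel -/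
theorem indFun_of_mem_ker (H : Subgroup G) (lam : H →* ℂˣ) (N : Subgroup G) (hNn : N.Normal)
    (hNH : N ≤ H) (hN : ∀ n (hn : n ∈ N), lam ⟨n, hNH hn⟩ = 1) (g : G) (hg : g ∈ N) :
    indFun H (fun h => ((lam h : ℂˣ) : ℂ)) g = indFun H (fun h => ((lam h : ℂˣ) : ℂ)) 1 := by
  unfold indFun
  congr 1
  apply Finset.sum_congr rfl
  intro x _
  have h1 : x⁻¹ * g * x ∈ N := by
    have := hNn.conj_mem g hg x⁻¹
    rwa [inv_inv] at this
  rw [helper5.extendByZero_of_mem _ _ _ (hNH h1), hN _ h1]
  have h2 : x⁻¹ * 1 * x = 1 := by group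
  rw [h2, helper5.extendByZero_of_mem _ _ _ H.one_mem]
  have : (⟨1, H.one_mem⟩ : H) = 1 := rfl
  rw [this, map_one]

/-- the kernel of the permutation character on the cosets of `H` lies in `H` -/
theorem mem_of_indFun_one_eq (H : Subgroup G) (g : G)
    (h : indFun H (fun _ => (1 : ℂ)) g = indFun H (fun _ => (1 : ℂ)) 1) : g ∈ H := by
  classical
  unfold indFun at h
  have hH : (Nat.card H : ℂ) ≠ 0 := by exact_mod_cast Nat.card_pos.ne'
  have h1 := mul_left_cancel₀ (inv_ne_zero hH) h
  have h2 : ∀ y : G, extendByZero H (fun _ => (1 : ℂ)) y = if y ∈ H then 1 else 0 := by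
    intro y
    split_ifs with hy
    · rw [helper5.extendByZero_of_mem _ _ _ hy]
    · rw [helper5.extendByZero_of_not_mem _ _ _ hy]
  simp only [h2] at h1
  rw [Finset.sum_boole, Finset.sum_boole] at h1
  have h3 : (Finset.univ.filter (fun x : G => x⁻¹ * g * x ∈ H)).card =
      (Finset.univ.filter (fun x : G => x⁻¹ * 1 * x ∈ H)).card := by exact_mod_cast h1
  have h4 : (Finset.univ.filter (fun x : G => x⁻¹ * 1 * x ∈ H)) = Finset.univ := by
    apply Finset.filter_true_of_mem
    intro x _
    have : x⁻¹ * 1 * x = 1 := by group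
    rw [this]
    exact H.one_mem
  rw [h4] at h3
  have h5 : Finset.univ.filter (fun x : G => x⁻¹ * g * x ∈ H) = Finset.univ :=
    Finset.eq_univ_of_card _ (by rw [h3, Finset.card_univ])
  have h6 : (1 : G) ∈ Finset.univ.filter (fun x : G => x⁻¹ * g * x ∈ H) := by
    rw [h5]; exact Finset.mem_univ _
  rw [Finset.mem_filter] at h6
  simpa using h6.2

theorem triv_isIrr : IsIrrCharacter G (fun _ => (1 : ℂ)) := by
  have := hom_isIrrCharacter (1 : G →* ℂˣ)
  simpa using this

theorem taketa_step (hM : ∀ χ : G → ℂ, Cfsg.IsIrrCharacter G χ →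
    ∃ (H : Subgroup G) (lam : H →* ℂˣ), χ = Cfsg.indFun H (fun h => (lam h : ℂ))) :
    ∀ d : ℕ, ∀ χ : G → ℂ, IsIrrCharacter G χ → charDegree χ ≤ d →
      ∀ g ∈ derivedSeries G d, χ g = χ 1 := by
  classical
  haveI : Fintype (IrrCharacter G) := Fintype.ofFinite _
  intro d
  induction d using Nat.strong_induction_on with
  | _ d ih =>
  intro χ hχ hd g hg
  rcases Nat.lt_or_ge (charDegree χ) d with hlt | hge
  · have hanti : derivedSeries G d ≤ derivedSeries G (charDegree χ) :=
      derivedSeries_antitone G hlt.le
    exact ih (charDegree χ) hlt χ hχ le_rfl g (hanti hg)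
  · have hdeq : charDegree χ = d := le_antisymm hd hge
    obtain ⟨H, lam, hχH⟩ := hM χ hχ
    haveI : Fintype H := Fintype.ofFinite _
    have hidx : H.index = d := by
      have h1 := helper5.indFun_one H (fun h => ((lam h : ℂˣ) : ℂ))
      rw [← hχH, map_one, Units.val_one, mul_one,
        ← helper24.char_charDegree_cast (helper24.irr_isCharacter hχ), hdeq] at h1
      exact_mod_cast h1.symm
    have hdpos : 0 < d := hdeq ▸ helper24.irr_charDegree_pos hχ
    obtain ⟨e, he⟩ : ∃ e, d = e + 1 := ⟨d - 1, by omega⟩
    -- the previous term of the derived series lies in `H`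
    have hle : derivedSeries G e ≤ H := by
      rcases Nat.eq_zero_or_pos e with he0 | hepos
      · have : H = ⊤ := by
          rw [← Subgroup.index_eq_one, hidx, he, he0]
        rw [this]
        exact le_top
      intro y hy
      apply mem_of_indFun_one_eq H y
      have h1H : IsCharacter H (fun _ => (1 : ℂ)) := helper24.irr_isCharacter triv_isIrr
      have hind := helper12.isCharacter_indFun H h1H
      obtain ⟨m, hexp, hm, -⟩ := helper12.char_decomp hind
      -- the trivial character is a constituent
      have hτ : m ⟨fun _ => (1 : ℂ), triv_isIrr⟩ = 1 := by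
        have h2 := hm ⟨fun _ => (1 : ℂ), triv_isIrr⟩
        rw [helper5.classInner_indFun_irr H _ (helper24.irr_isCharacter triv_isIrr)] at h2
        have h3 : classInner (fun _ : H => (1 : ℂ)) (helper5.res H (fun _ : G => (1 : ℂ))) = 1 := by
          unfold classInner
          simp only [helper5.res_apply, map_one, mul_one, Finset.sum_const, Finset.card_univ,
            nsmul_eq_mul]
          rw [Nat.card_eq_fintype_card]
          apply inv_mul_cancel₀
          have : 0 < Fintype.card H := Fintype.card_pos
          exact_mod_cast this.ne'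
        rw [h3] at h2
        exact_mod_cast h2.symm
      -- degrees
      have hdegsum : d = ∑ Y : IrrCharacter G, m Y * charDegree (Y : G → ℂ) := by
        have h2 : (indFun H (fun _ => (1 : ℂ))) 1 =
            ∑ Y : IrrCharacter G, (m Y : ℂ) * (Y : G → ℂ) 1 := by
          have := congrFun hexp 1
          rw [this, Finset.sum_apply]
          rfl
        have h3 : ((d : ℕ) : ℂ) =
            ((∑ Y : IrrCharacter G, m Y * charDegree (Y : G → ℂ) : ℕ) : ℂ) := by
          push_cast
          rw [← hidx]
          have h4 := helper5.indFun_one H (fun _ => (1 : ℂ))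
          rw [mul_one] at h4
          rw [← h4, h2]
          refine Finset.sum_congr rfl (fun Y _ => ?_)
          rw [helper24.char_charDegree_cast (helper24.irr_isCharacter Y.2)]
        exact_mod_cast h3
      have hdegτ : charDegree (fun _ : G => (1 : ℂ)) = 1 :=
        helper24.charDegree_natCast _ 1 (by simp)
      have hcons : ∀ Y : IrrCharacter G, m Y ≠ 0 → charDegree (Y : G → ℂ) ≤ e := by
        intro Y hY
        by_cases hYτ : Y = ⟨fun _ => (1 : ℂ), triv_isIrr⟩
        · rw [hYτ]
          show charDegree (fun _ : G => (1 : ℂ)) ≤ e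
          rw [hdegτ]
          exact hepos
        · have h2 : m ⟨fun _ => (1 : ℂ), triv_isIrr⟩ * charDegree (fun _ : G => (1 : ℂ)) +
              m Y * charDegree (Y : G → ℂ) ≤ d := by
            rw [hdegsum]
            have h3 := Finset.sum_le_sum_of_subset (f := fun Y : IrrCharacter G =>
              m Y * charDegree (Y : G → ℂ))
              (Finset.subset_univ ({⟨fun _ => (1 : ℂ), triv_isIrr⟩, Y} : Finset (IrrCharacter G)))
            rw [Finset.sum_pair (Ne.symm hYτ)] at h3
            exact h3
          rw [hτ, hdegτ] at h2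
          have h3 : charDegree (Y : G → ℂ) ≤ m Y * charDegree (Y : G → ℂ) :=
            Nat.le_mul_of_pos_left _ (Nat.pos_of_ne_zero hY)
          omega
      rw [hexp, Finset.sum_apply, Finset.sum_apply]
      apply Finset.sum_congr rfl
      intro Y _
      by_cases hY : m Y = 0
      · rw [hY]; simp
      · have h2 := ih e (by omega) (Y : G → ℂ) Y.2 (hcons Y hY) y hy
        rw [Pi.smul_apply, Pi.smul_apply, h2]
    -- the derived subgroup lies in the kernel of `lam`
    have hNH : derivedSeries G d ≤ H := by
      rw [he]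
      exact ((derivedSeries_antitone G (Nat.le_succ e)).trans hle)
    have hker : ∀ n (hn : n ∈ derivedSeries G d), lam ⟨n, hNH hn⟩ = 1 := by
      intro n hn
      have h1 : n ∈ ⁅H, H⁆ := by
        rw [he, derivedSeries_succ] at hn
        exact Subgroup.commutator_mono hle hle hn
      rw [← Subgroup.map_subtype_commutator] at h1
      obtain ⟨n', hn', hnn'⟩ := h1
      have h2 : n' = ⟨n, hNH hn⟩ := Subtype.ext hnn'
      rw [← h2]
      exact Abelianization.commutator_subset_ker lam hn'
    rw [hχH]
    exact indFun_of_mem_ker H lam (derivedSeries G d) (derivedSeries_normal G d) hNH hker g hg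

end

theorem result {G : Type*} [Group G] [Fintype G] (hM : ∀ χ : G → ℂ, Cfsg.IsIrrCharacter G χ → ∃ (H : Subgroup G) (lam : H →* ℂˣ), χ = Cfsg.indFun H (fun h => (lam h : ℂ))) : Group.IsSolvable G := by
  classical
  haveI : Fintype (IrrCharacter G) := Fintype.ofFinite _
  rw [Group.isSolvable_def]
  refine ⟨Nat.card G, ?_⟩
  rw [eq_bot_iff]
  intro g hg
  rw [Subgroup.mem_bot]
  have hall : ∀ χ : IrrCharacter G, (χ : G → ℂ) g = (χ : G → ℂ) 1 := fun χ =>
    taketa_step hM (Nat.card G) χ χ.2
      (Nat.le_of_dvd Nat.card_pos (helper24.irr_degree_dvd_card χ.2)) g hg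
  by_contra hne
  have h1 := helper24.irr_column_orthogonality g (1 : G)
  have h2 := helper24.irr_column_orthogonality (1 : G) (1 : G)
  rw [if_neg (by rw [isConj_one_left]; exact hne)] at h1
  rw [if_pos (IsConj.refl _)] at h2
  have h3 : ∑ χ : IrrCharacter G, (χ : G → ℂ) g * conj ((χ : G → ℂ) 1) =
      ∑ χ : IrrCharacter G, (χ : G → ℂ) 1 * conj ((χ : G → ℂ) 1) :=
    Finset.sum_congr rfl (fun χ _ => by rw [hall χ])
  rw [h3, h2] at h1
  have : (Nat.card (Subgroup.centralizer ({(1 : G)} : Set G)) : ℂ) ≠ 0 := by
    exact_mod_cast Nat.card_pos.ne'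
  exact this h1

end Cfsg.Agent.S0175
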