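import Mathlib
import Cfsg.Agent.Lib_helper22_MGroup
import Cfsg.Agent.Lib_helper24_Char
import Cfsg.Agent.Lib_helper8_Clifford
import Cfsg.Agent.S0187
import Cfsg.Statements.S0177

set_option autoImplicit false
set_option linter.unusedSectionVars false
set_option linter.unusedVariables false
open Cfsg

namespace Cfsg.Agent.S0177

open Cfsg.Agent.helper22
open scoped ComplexConjugate

universe u

/-- the complex numbers that are integers -/
abbrev intC : Subring ℂ := (Int.castRingHom ℂ).range

theorem mem_intC {z : ℂ} : z ∈ intC ↔ ∃ n : ℤ, (n : ℂ) = z := Iff.rfl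

theorem card_lt_of_lt {H : Type u} [Group H] [Finite H] {C B : Subgroup H} (h : C < B) :
    Nat.card C < Nat.card B := by
  rw [← SetLike.coe_sort_coe C, ← SetLike.coe_sort_coe B, Nat.card_coe_set_eq, Nat.card_coe_set_eq]
  exact Set.ncard_lt_ncard (SetLike.coe_ssubset_coe.mpr h) (Set.toFinite _)

open scoped Classical in
/-- Ramanujan sums are integers: the sum of a linear character over the generators of a
subgroup. -/
theorem sum_gen_int {H : Type u} [Group H] [Fintype H] (ν : H →* ℂˣ) :
    ∀ (N : ℕ) (B : Subgroup H), Nat.card B = N →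
      (∑ a : H, if Subgroup.zpowers a = B then ((ν a : ℂˣ) : ℂ) else 0) ∈ intC := by
  classical
  haveI : Fintype (Subgroup H) := Fintype.ofFinite _
  intro N
  induction N using Nat.strong_induction_on with
  | _ N ih =>
  intro B hB
  haveI : Fintype B := Fintype.ofFinite _
  -- the sum over `B`
  have hsub : (∑ a : H, if a ∈ B then ((ν a : ℂˣ) : ℂ) else 0) = ∑ b : B, ((ν b : ℂˣ) : ℂ) := by
    rw [← Finset.sum_filter]
    exact Finset.sum_subtype (Finset.univ.filter (fun a : H => a ∈ B)) (by simp)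
      (fun a : H => ((ν a : ℂˣ) : ℂ))
  have htot : (∑ a : H, if a ∈ B then ((ν a : ℂˣ) : ℂ) else 0) ∈ intC := by
    rw [hsub]
    by_cases h1 : ∀ b : B, ν b = 1
    · refine ⟨(Fintype.card B : ℤ), ?_⟩
      rw [Finset.sum_congr rfl (fun b _ => by rw [h1 b, Units.val_one])]
      simp
    · push Not at h1
      obtain ⟨b, hνb⟩ := h1
      refine ⟨0, ?_⟩
      rw [helper23.sum_eq_zero_of_mul_of_ne_one (fun b : B => ((ν b : ℂˣ) : ℂ))
        (fun a b => by simp) b (fun h => hνb (Units.ext h))]
      simp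
  -- partition by the generated subgroup
  have hpart : (∑ a : H, if a ∈ B then ((ν a : ℂˣ) : ℂ) else 0) =
      ∑ C ∈ Finset.univ.filter (fun C : Subgroup H => C ≤ B),
        ∑ a : H, if Subgroup.zpowers a = C then ((ν a : ℂˣ) : ℂ) else 0 := by
    rw [Finset.sum_comm]
    apply Finset.sum_congr rfl
    intro a _
    rw [Finset.sum_ite_eq]
    simp only [Finset.mem_filter, Finset.mem_univ, true_and, Subgroup.zpowers_le]
  have hsplit : ∑ C ∈ Finset.univ.filter (fun C : Subgroup H => C ≤ B),
        (∑ a : H, if Subgroup.zpowers a = C then ((ν a : ℂˣ) : ℂ) else 0) =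
      (∑ a : H, if Subgroup.zpowers a = B then ((ν a : ℂˣ) : ℂ) else 0) +
      ∑ C ∈ Finset.univ.filter (fun C : Subgroup H => C < B),
        (∑ a : H, if Subgroup.zpowers a = C then ((ν a : ℂˣ) : ℂ) else 0) := by
    have h1 : Finset.univ.filter (fun C : Subgroup H => C < B) =
        (Finset.univ.filter (fun C : Subgroup H => C ≤ B)).erase B := by
      ext C
      simp only [Finset.mem_filter, Finset.mem_univ, true_and, Finset.mem_erase]
      rw [lt_iff_le_and_ne]
      tauto
    rw [h1]
    exact (Finset.add_sum_erase _ _ (by simp)).symm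
  have hrest : (∑ C ∈ Finset.univ.filter (fun C : Subgroup H => C < B),
      (∑ a : H, if Subgroup.zpowers a = C then ((ν a : ℂˣ) : ℂ) else 0)) ∈ intC := by
    apply Subring.sum_mem
    intro C hC
    rw [Finset.mem_filter] at hC
    exact ih (Nat.card C) (hB ▸ card_lt_of_lt hC.2) C rfl
  have heq : (∑ a : H, if Subgroup.zpowers a = B then ((ν a : ℂˣ) : ℂ) else 0) =
      (∑ a : H, if a ∈ B then ((ν a : ℂˣ) : ℂ) else 0) -
      ∑ C ∈ Finset.univ.filter (fun C : Subgroup H => C < B),
        (∑ a : H, if Subgroup.zpowers a = C then ((ν a : ℂˣ) : ℂ) else 0) := by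
    rw [hpart, hsplit]
    ring
  rw [heq]
  exact Subring.sub_mem _ htot hrest

section Artin
variable {G : Type u} [Group G] [Fintype G]

open scoped Classical in
/-- Artin's function on the subgroup `A`, multiplied by `χ` -/
noncomputable def artinFun (χ : G → ℂ) (A : Subgroup G) : A → ℂ :=
  fun a => if Subgroup.zpowers (a : G) = A then (Nat.card A : ℂ) * χ a else 0

open scoped Classical in
theorem indFun_artinFun {χ : G → ℂ} (hχ : IsClassFunction G χ) (A : Subgroup G) (g : G) :
    indFun A (artinFun χ A) g =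
      ∑ x : G, if Subgroup.zpowers (x⁻¹ * g * x) = A then χ g else 0 := by
  classical
  unfold indFun
  rw [Finset.mul_sum]
  apply Finset.sum_congr rfl
  intro x _
  have hA : (Nat.card A : ℂ) ≠ 0 := by exact_mod_cast Nat.card_pos.ne'
  by_cases h : Subgroup.zpowers (x⁻¹ * g * x) = A
  · have hmem : x⁻¹ * g * x ∈ A := h ▸ Subgroup.mem_zpowers _
    rw [helper5.extendByZero_of_mem _ _ _ hmem, if_pos h]
    unfold artinFun
    rw [if_pos h, ← mul_assoc, inv_mul_cancel₀ hA, one_mul]
    have := hχ g x⁻¹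
    rw [inv_inv] at this
    exact this
  · rw [if_neg h]
    by_cases hmem : x⁻¹ * g * x ∈ A
    · rw [helper5.extendByZero_of_mem _ _ _ hmem]
      unfold artinFun
      rw [if_neg h, mul_zero]
    · rw [helper5.extendByZero_of_not_mem _ _ _ hmem, mul_zero]

theorem artin_sum [Fintype {A : Subgroup G // IsCyclic A}] {χ : G → ℂ}
    (hχ : IsClassFunction G χ) :
    ∑ A : {A : Subgroup G // IsCyclic A}, indFun A.1 (artinFun χ A.1) = (Nat.card G : ℂ) • χ := by
  classical
  funext g
  rw [Finset.sum_apply]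
  simp only [indFun_artinFun hχ]
  rw [Finset.sum_comm]
  have h1 : ∀ x : G, (∑ A : {A : Subgroup G // IsCyclic A},
      if Subgroup.zpowers (x⁻¹ * g * x) = A.1 then χ g else 0) = χ g := by
    intro x
    rw [Finset.sum_eq_single (⟨Subgroup.zpowers (x⁻¹ * g * x), inferInstance⟩ :
      {A : Subgroup G // IsCyclic A})]
    · rw [if_pos rfl]
    · intro A _ hA
      rw [if_neg]
      intro h
      apply hA
      exact Subtype.ext h.symm
    · intro h
      exact absurd (Finset.mem_univ _) h
  rw [Finset.sum_congr rfl (fun x _ => h1 x), Finset.sum_const, Finset.card_univ, nsmul_eq_mul,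
    Pi.smul_apply, smul_eq_mul, Nat.card_eq_fintype_card]

theorem zpowers_coe_eq_iff (A : Subgroup G) (a : A) :
    Subgroup.zpowers (a : G) = A ↔ Subgroup.zpowers a = ⊤ := by
  have h1 : (Subgroup.zpowers a).map A.subtype = Subgroup.zpowers (a : G) := by
    rw [MonoidHom.map_zpowers]
    rfl
  have h2 : (⊤ : Subgroup A).map A.subtype = A := by
    rw [← MonoidHom.range_eq_map, Subgroup.range_subtype]
  constructor
  · intro h
    apply Subgroup.map_injective A.subtype_injective
    rw [h1, h2, h]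
  · intro h
    rw [← h1, h, h2]

/-- the coefficients of Artin's function on a cyclic (commutative) subgroup are integers -/
theorem artin_coeff {χ : G → ℂ} (hχ : IsCharacter G χ) (A : Subgroup G) [Fintype A]
    (hA : ∀ a b : A, a * b = b * a) (θ : IrrCharacter A) :
    classInner (artinFun χ A) (θ : A → ℂ) ∈ intC := by
  classical
  haveI : Fintype (IrrCharacter A) := Fintype.ofFinite _
  have hlin : ∀ μ : IrrCharacter A, ∃ lam : A →* ℂˣ, ∀ a, (μ : A → ℂ) a = ((lam a : ℂˣ) : ℂ) := by
    intro μ
    have h1 : (μ : A → ℂ) 1 = 1 := (Cfsg.Agent.S0187.result (G := A)).mp hA μ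
    exact helper23.exists_hom_of_linear (helper24.irr_isCharacter μ.2) h1
  choose lam hlam using hlin
  obtain ⟨m, hexp, -, -⟩ := helper12.char_decomp (helper5.isCharacter_res A hχ)
  have hcard : (Nat.card A : ℂ) ≠ 0 := by exact_mod_cast Nat.card_pos.ne'
  have h1 : classInner (artinFun χ A) (θ : A → ℂ) =
      ∑ μ : IrrCharacter A, (m μ : ℂ) *
        ∑ a : A, if Subgroup.zpowers a = ⊤ then (((lam μ * (lam θ)⁻¹) a : ℂˣ) : ℂ) else 0 := by
    unfold classInner
    rw [Finset.mul_sum]
    simp only [Finset.mul_sum]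
    rw [Finset.sum_comm]
    apply Finset.sum_congr rfl
    intro a _
    unfold artinFun
    by_cases h : Subgroup.zpowers (a : G) = A
    · rw [if_pos h]
      have h' : Subgroup.zpowers a = ⊤ := (zpowers_coe_eq_iff A a).mp h
      simp only [if_pos h']
      have h2 : χ (a : G) = ∑ μ : IrrCharacter A, (m μ : ℂ) * ((lam μ a : ℂˣ) : ℂ) := by
        have h3 := congrFun hexp a
        rw [helper5.res_apply, Finset.sum_apply] at h3
        rw [h3]
        apply Finset.sum_congr rfl
        intro μ _
        rw [Pi.smul_apply, smul_eq_mul, hlam μ a]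
      have h4 : conj ((θ : A → ℂ) a) = (((lam θ)⁻¹ a : ℂˣ) : ℂ) := by
        rw [← helper24.char_inv (helper24.irr_isCharacter θ.2), hlam θ a⁻¹, map_inv,
          MonoidHom.inv_apply]
      rw [h2, h4, ← mul_assoc, ← mul_assoc, inv_mul_cancel₀ hcard, one_mul, Finset.sum_mul]
      apply Finset.sum_congr rfl
      intro μ _
      rw [MonoidHom.mul_apply, Units.val_mul]
      ring
    · rw [if_neg h]
      have h' : ¬ Subgroup.zpowers a = ⊤ := fun h'' => h ((zpowers_coe_eq_iff A a).mpr h'')
      simp only [if_neg h']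
      simp
  rw [h1]
  apply Subring.sum_mem
  intro μ _
  apply Subring.mul_mem
  · exact ⟨(m μ : ℤ), by simp⟩
  · exact sum_gen_int (lam μ * (lam θ)⁻¹) _ ⊤ rfl

end Artin

theorem result {G : Type*} [Group G] [Fintype G] (χ : G → ℂ) (hχ : Cfsg.IsCharacter G χ) : ∃ l : List ((A : Subgroup G) × ((A →* ℂˣ) × ℤ)), (∀ t ∈ l, IsCyclic t.1) ∧ (Nat.card G : ℂ) • χ = (l.map fun t => (t.2.2 : ℂ) • Cfsg.indFun t.1 (fun a => (t.2.1 a : ℂ))).sum := by
  classical
  haveI : Fintype (Subgroup G) := Fintype.ofFinite _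
  haveI hFA : ∀ A : Subgroup G, Fintype A := fun A => Fintype.ofFinite _
  haveI hFI : ∀ A : Subgroup G, Fintype (IrrCharacter A) := fun A => Fintype.ofFinite _
  have hcomm : ∀ A : {A : Subgroup G // IsCyclic A}, ∀ a b : A.1, a * b = b * a := by
    intro A a b
    haveI := A.2
    exact (IsCyclic.commGroup (α := A.1)).mul_comm a b
  have key : ∀ (A : {A : Subgroup G // IsCyclic A}) (θ : IrrCharacter A.1),
      ∃ (lam : A.1 →* ℂˣ) (n : ℤ), (∀ a, (θ : A.1 → ℂ) a = ((lam a : ℂˣ) : ℂ)) ∧
        classInner (artinFun χ A.1) (θ : A.1 → ℂ) = n := by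
    intro A θ
    have h1 : (θ : A.1 → ℂ) 1 = 1 := (Cfsg.Agent.S0187.result (G := A.1)).mp (hcomm A) θ
    obtain ⟨lam, hlam⟩ := helper23.exists_hom_of_linear (helper24.irr_isCharacter θ.2) h1
    obtain ⟨n, hn⟩ := artin_coeff hχ A.1 (hcomm A) θ
    exact ⟨lam, n, hlam, hn.symm⟩
  choose lam n hlam hn using key
  -- expansion on each cyclic subgroup
  have hexpA : ∀ A : {A : Subgroup G // IsCyclic A},
      artinFun χ A.1 = ∑ θ : IrrCharacter A.1, (n A θ : ℂ) • (fun a : A.1 => ((lam A θ a : ℂˣ) : ℂ)) := by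
    intro A
    have hcf : IsClassFunction A.1 (artinFun χ A.1) := by
      intro g h
      rw [hcomm A h g, mul_assoc, mul_inv_cancel, mul_one]
    conv_lhs => rw [helper24.classFunction_expansion hcf]
    apply Finset.sum_congr rfl
    intro θ _
    rw [hn A θ]
    congr 1
    funext a
    exact hlam A θ a
  refine ⟨(Finset.univ : Finset (Σ A : {A : Subgroup G // IsCyclic A}, IrrCharacter A.1)).toList.map
    (fun t => ⟨t.1.1, (lam t.1 t.2, n t.1 t.2)⟩), ?_, ?_⟩
  · intro t ht
    rw [List.mem_map] at ht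
    obtain ⟨s, -, rfl⟩ := ht
    exact s.1.2
  · rw [List.map_map]
    rw [Finset.sum_map_toList]
    rw [← Finset.univ_sigma_univ, Finset.sum_sigma]
    rw [← artin_sum (helper24.char_isClassFunction hχ)]
    apply Finset.sum_congr rfl
    intro A _
    conv_lhs => rw [hexpA A]
    rw [helper8.indFun_sum]
    apply Finset.sum_congr rfl
    intro θ _
    rw [helper8.indFun_smul]
    rfl

end Cfsg.Agent.S0177
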