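import Cfsg.Statements.S0178
import Mathlib
import Cfsg.Agent.Lib_helper1_RepBridge
import Cfsg.Agent.Lib_helper12_CharOps
import Cfsg.Agent.Lib_helper8_Clifford
import Cfsg.Agent.S0187

set_option autoImplicit false
set_option linter.style.haveILetI false
set_option linter.unusedVariables false
open Cfsg

namespace Cfsg.Agent.S0178

/-- The degree of an irreducible complex representation of a finite group is at most the index of any abelian subgroup. -/
theorem result {G : Type*} [Group G] [Finite G] {V : Type*} [AddCommGroup V] [Module ℂ V] [FiniteDimensional ℂ V] (ρ : Representation ℂ G V) [ρ.IsIrreducible] (A : Subgroup G) (hA : ∀ a ∈ A, ∀ b ∈ A, a * b = b * a) : Module.finrank ℂ V ≤ A.index := by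
  classical
  haveI := Fintype.ofFinite G
  haveI : Fintype A := Fintype.ofFinite _
  haveI := Fintype.ofFinite (IrrCharacter G)
  haveI := Fintype.ofFinite (IrrCharacter A)
  have hirr : IsIrrCharacter G ρ.character :=
    Cfsg.Agent.helper1.isIrrCharacter_character ρ inferInstance
  have hχchar := Cfsg.Agent.helper24.irr_isCharacter hirr
  have hχcf := Cfsg.Agent.helper24.char_isClassFunction hχchar
  set χ := ρ.character with hχ
  have hχ1 : χ 1 = (Module.finrank ℂ V : ℂ) := Representation.char_one ρ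
  have hresχ : IsCharacter A (fun a : A => χ a) := Cfsg.Agent.helper12.isCharacter_restrict A hχchar
  obtain ⟨nn, hexp, hnn, -⟩ := Cfsg.Agent.helper12.char_decomp hresχ
  -- some constituent occurs
  have hex : ∃ ψ : IrrCharacter A, nn ψ ≠ 0 := by
    by_contra hcon
    push Not at hcon
    have h1 := congrFun hexp 1
    simp only [hcon, Nat.cast_zero, zero_smul, Finset.sum_const_zero, Pi.zero_apply] at h1
    have h2 : χ 1 = 0 := h1
    exact Cfsg.Agent.helper24.irr_apply_one_ne_zero hirr h2
  obtain ⟨ψ, hψ⟩ := hex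
  have hψ1 : (ψ : A → ℂ) 1 = 1 := by
    have hcomm : ∀ a b : A, a * b = b * a := by
      intro a b
      exact Subtype.ext (hA a a.2 b b.2)
    exact (Cfsg.Agent.S0187.result (G := A)).mp hcomm ψ
  -- Frobenius reciprocity
  have hfrob : classInner (indFun A (ψ : A → ℂ)) χ = (nn ψ : ℂ) := by
    rw [Cfsg.Agent.helper8.frobenius A (ψ : A → ℂ) χ hχcf,
      ← Cfsg.Agent.helper24.classInner_conj_symm, hnn ψ, Complex.conj_natCast]
  have hindchar : IsCharacter G (indFun A (ψ : A → ℂ)) :=
    Cfsg.Agent.helper12.isCharacter_indFun A (Cfsg.Agent.helper24.irr_isCharacter ψ.2)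
  obtain ⟨m, hexpG, hm, -⟩ := Cfsg.Agent.helper12.char_decomp hindchar
  have hmχ : m ⟨χ, hirr⟩ = nn ψ := by
    have := hm ⟨χ, hirr⟩
    rw [hfrob] at this
    exact_mod_cast this.symm
  -- evaluate at 1
  have hdegcast : ∀ φ : IrrCharacter G, (φ : G → ℂ) 1 = (charDegree (φ : G → ℂ) : ℂ) := fun φ =>
    (Cfsg.Agent.helper24.char_charDegree_cast (Cfsg.Agent.helper24.irr_isCharacter φ.2)).symm
  have hind1 : indFun A (ψ : A → ℂ) 1 = (A.index : ℂ) := by
    rw [Cfsg.Agent.helper8.indFun_one_eq, hψ1, mul_one]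
    have hAne : (Nat.card A : ℂ) ≠ 0 := by
      have : Nat.card A ≠ 0 := Nat.card_pos.ne'
      exact_mod_cast this
    rw [← Subgroup.card_mul_index A]
    push_cast
    field_simp
  have hsum : A.index = ∑ φ : IrrCharacter G, m φ * charDegree (φ : G → ℂ) := by
    have h1 := congrFun hexpG 1
    rw [hind1, Finset.sum_apply] at h1
    simp only [Pi.smul_apply, smul_eq_mul, hdegcast] at h1
    exact_mod_cast h1
  have hdχ : charDegree χ = Module.finrank ℂ V :=
    Cfsg.Agent.helper24.charDegree_natCast _ _ hχ1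
  rw [hsum, ← hdχ]
  calc charDegree χ ≤ m ⟨χ, hirr⟩ * charDegree χ :=
        Nat.le_mul_of_pos_left _ (by rw [hmχ]; exact Nat.pos_of_ne_zero hψ)
    _ ≤ ∑ φ : IrrCharacter G, m φ * charDegree (φ : G → ℂ) :=
        Finset.single_le_sum (f := fun φ : IrrCharacter G => m φ * charDegree (φ : G → ℂ))
          (fun _ _ => Nat.zero_le _) (Finset.mem_univ (⟨χ, hirr⟩ : IrrCharacter G))

end Cfsg.Agent.S0178
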