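import Mathlib
import Cfsg.Agent.Lib_helper22_MGroup
import Cfsg.Agent.Lib_helper24_Char
import Cfsg.Agent.S0187
import Cfsg.Statements.S0180

set_option autoImplicit false
set_option linter.unusedSectionVars false
set_option linter.unusedVariables false
open Cfsg

namespace Cfsg.Agent.S0180

open Cfsg.Agent.helper22
open scoped ComplexConjugate
open Polynomial IsCyclotomicExtension

universe u

/-- Galois action on sums of roots of unity, packaged inside a cyclotomic field. -/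
theorem key_aux (n : ℕ) [NeZero n] (K : Type) [Field K] [Algebra ℚ K]
    [IsCyclotomicExtension {n} ℚ K] {I : Type*} [Fintype I] (m : I → ℕ) (z : I → ℂ)
    (hz : ∀ i, z i ^ n = 1) :
    ∃ (ι : K →ₐ[ℚ] ℂ) (y : K),
      ι y = ∑ i, (m i : ℂ) * z i ∧
      (∀ j : ℕ, j.Coprime n → ∃ σ : K ≃ₐ[ℚ] K, ι (σ y) = ∑ i, (m i : ℂ) * z i ^ j) ∧
      (∀ σ : K ≃ₐ[ℚ] K, ∃ j : ℕ, j.Coprime n ∧ ι (σ y) = ∑ i, (m i : ℂ) * z i ^ j) ∧
      ((∀ σ : K ≃ₐ[ℚ] K, σ y = y) → ∃ q : ℚ, y = algebraMap ℚ K q) := by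
  classical
  haveI : FiniteDimensional ℚ K := IsCyclotomicExtension.finiteDimensional {n} ℚ K
  haveI : IsGalois ℚ K := IsCyclotomicExtension.isGalois {n} ℚ K
  haveI : Algebra.IsAlgebraic ℚ K := Algebra.IsAlgebraic.of_finite ℚ K
  obtain ⟨ζ, hζdef⟩ : ∃ ζ : K, ζ = zeta n ℚ K := ⟨_, rfl⟩
  have hζ : IsPrimitiveRoot ζ n := hζdef ▸ zeta_spec n ℚ K
  obtain ⟨ι⟩ : Nonempty (K →ₐ[ℚ] ℂ) := ⟨IsAlgClosed.lift⟩
  have hιinj : Function.Injective ι := ι.toRingHom.injective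
  have hιζ : IsPrimitiveRoot (ι ζ) n := hζ.map_of_injective hιinj
  have hk : ∀ i, ∃ k : ℕ, (ι ζ) ^ k = z i := by
    intro i
    obtain ⟨k, -, hk⟩ := hιζ.eq_pow_of_pow_eq_one (hz i)
    exact ⟨k, hk⟩
  choose k hk using hk
  obtain ⟨y, hy⟩ : ∃ y : K, y = ∑ i, (m i : K) * ζ ^ (k i) := ⟨_, rfl⟩
  have hirr : Irreducible (cyclotomic n ℚ) := cyclotomic.irreducible_rat (NeZero.pos n)
  have hσy : ∀ (σ : K ≃ₐ[ℚ] K) (j : ℕ), σ ζ = ζ ^ j →
      ι (σ y) = ∑ i, (m i : ℂ) * z i ^ j := by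
    intro σ j hσ
    rw [hy]
    simp only [map_sum, map_mul, map_natCast, map_pow, hσ]
    apply Finset.sum_congr rfl
    intro i _
    rw [← hk i, ← pow_mul, ← pow_mul, mul_comm j]
  refine ⟨ι, y, ?_, ?_, ?_, ?_⟩
  · rw [hy]
    simp only [map_sum, map_mul, map_natCast, map_pow]
    apply Finset.sum_congr rfl
    intro i _
    rw [hk i]
  · intro j hj
    have hμ : IsPrimitiveRoot (ζ ^ j) n := hζ.pow_of_coprime j hj
    refine ⟨fromZetaAut hμ hirr, hσy _ j ?_⟩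
    have := fromZetaAut_spec hμ hirr
    rw [← hζdef] at this
    exact this
  · intro σ
    have h1 : IsPrimitiveRoot (σ ζ) n := hζ.map_of_injective σ.injective
    obtain ⟨j, -, hj⟩ := hζ.eq_pow_of_pow_eq_one h1.pow_eq_one
    have hjc : j.Coprime n := by
      rw [← hζ.pow_iff_coprime (NeZero.pos n) j, hj]
      exact h1
    exact ⟨j, hjc, hσy σ j hj.symm⟩
  · intro hfix
    have := (IsGalois.mem_range_algebraMap_iff_fixed (F := ℚ) (E := K) y).mpr hfix
    obtain ⟨q, hq⟩ := this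
    exact ⟨q, hq.symm⟩

theorem key_aux2 (n : ℕ) [NeZero n] (K : Type) [Field K] [Algebra ℚ K]
    [IsCyclotomicExtension {n} ℚ K] {I : Type*} [Fintype I] (m : I → ℕ) (z : I → ℂ)
    (hz : ∀ i, z i ^ n = 1) :
    ((∃ q : ℚ, ∑ i, (m i : ℂ) * z i = (q : ℂ)) →
      ∀ j : ℕ, j.Coprime n → ∑ i, (m i : ℂ) * z i ^ j = ∑ i, (m i : ℂ) * z i) ∧
    ((∀ j : ℕ, j.Coprime n → ∑ i, (m i : ℂ) * z i ^ j = ∑ i, (m i : ℂ) * z i) →
      ∃ q : ℚ, ∑ i, (m i : ℂ) * z i = (q : ℂ)) := by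
  obtain ⟨ι, y, hy, hσ1, hσ2, hfix⟩ := key_aux n K m z hz
  constructor
  · rintro ⟨q, hq⟩ j hj
    have hyq : y = algebraMap ℚ K q := by
      apply ι.toRingHom.injective
      show ι y = ι (algebraMap ℚ K q)
      rw [hy, hq, AlgHom.commutes]
      simp
    obtain ⟨σ, hσy⟩ := hσ1 j hj
    rw [← hσy, hyq, AlgEquiv.commutes, ← hyq, hy]
  · intro hall
    have hfixall : ∀ σ : K ≃ₐ[ℚ] K, σ y = y := by
      intro σ
      obtain ⟨j, hj, hσj⟩ := hσ2 σ
      apply ι.toRingHom.injective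
      show ι (σ y) = ι y
      rw [hσj, hall j hj, hy]
    obtain ⟨q, hq⟩ := hfix hfixall
    refine ⟨q, ?_⟩
    rw [← hy, hq, AlgHom.commutes]
    simp

/-- a sum of `n`-th roots of unity with natural multiplicities is rational iff it is invariant
under raising the roots to powers coprime to `n` -/
theorem key (n : ℕ) [NeZero n] {I : Type*} [Fintype I] (m : I → ℕ) (z : I → ℂ)
    (hz : ∀ i, z i ^ n = 1) :
    ((∃ q : ℚ, ∑ i, (m i : ℂ) * z i = (q : ℂ)) →
      ∀ j : ℕ, j.Coprime n → ∑ i, (m i : ℂ) * z i ^ j = ∑ i, (m i : ℂ) * z i) ∧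
    ((∀ j : ℕ, j.Coprime n → ∑ i, (m i : ℂ) * z i ^ j = ∑ i, (m i : ℂ) * z i) →
      ∃ q : ℚ, ∑ i, (m i : ℂ) * z i = (q : ℂ)) := by
  haveI : NeZero ((n : ℕ) : ℚ) := ⟨by exact_mod_cast (NeZero.ne n)⟩
  exact @key_aux2 n _ (CyclotomicField n ℚ) _ (CyclotomicField.algebra n ℚ)
    (CyclotomicField.isCyclotomicExtension n ℚ) I _ m z hz

/-- the values of a character on the powers of `g` are power sums of roots of unity -/
theorem char_pow_sum {G : Type u} [Group G] [Fintype G] {χ : G → ℂ} (hχ : IsCharacter G χ)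
    (g : G) :
    ∃ (I : Type u) (_ : Fintype I) (m : I → ℕ) (z : I → ℂ), (∀ i, z i ^ Nat.card G = 1) ∧
      ∀ j : ℕ, χ (g ^ j) = ∑ i, (m i : ℂ) * z i ^ j := by
  classical
  obtain ⟨C, hC⟩ : ∃ C : Subgroup G, C = Subgroup.zpowers g := ⟨_, rfl⟩
  haveI : Fintype C := Fintype.ofFinite _
  haveI : Fintype (IrrCharacter C) := Fintype.ofFinite _
  have hgC : g ∈ C := hC ▸ Subgroup.mem_zpowers g
  have hcomm : ∀ a b : C, a * b = b * a := by
    intro a b
    haveI : IsCyclic C := by rw [hC]; infer_instance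
    exact (IsCyclic.commGroup (α := C)).mul_comm a b
  have hlin : ∀ μ : IrrCharacter C, ∃ lam : C →* ℂˣ, ∀ a, (μ : C → ℂ) a = ((lam a : ℂˣ) : ℂ) := by
    intro μ
    have h1 : (μ : C → ℂ) 1 = 1 := (Cfsg.Agent.S0187.result (G := C)).mp hcomm μ
    exact helper23.exists_hom_of_linear (helper24.irr_isCharacter μ.2) h1
  choose lam hlam using hlin
  obtain ⟨m, hexp, -, -⟩ := helper12.char_decomp (helper5.isCharacter_res C hχ)
  refine ⟨IrrCharacter C, inferInstance, m, fun μ => ((lam μ ⟨g, hgC⟩ : ℂˣ) : ℂ), ?_, ?_⟩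
  · intro μ
    rw [← Units.val_pow_eq_pow_val, ← map_pow]
    have : (⟨g, hgC⟩ : C) ^ Nat.card G = 1 := by
      apply Subtype.ext
      show g ^ Nat.card G = 1
      exact pow_card_eq_one'
    rw [this, map_one, Units.val_one]
  · intro j
    have h3 := congrFun hexp (⟨g, hgC⟩ ^ j)
    rw [helper5.res_apply, Finset.sum_apply] at h3
    have h4 : (((⟨g, hgC⟩ : C) ^ j : C) : G) = g ^ j := rfl
    rw [h4] at h3
    rw [h3]
    apply Finset.sum_congr rfl
    intro μ _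
    rw [Pi.smul_apply, smul_eq_mul, hlam μ, map_pow, Units.val_pow_eq_pow_val]

theorem result {G : Type*} [Group G] [Finite G] : (∀ χ : Cfsg.IrrCharacter G, ∀ g : G, ∃ q : ℚ, (χ : G → ℂ) g = (q : ℂ)) ↔ ∀ m : ℕ, m.Coprime (Nat.card G) → ∀ g : G, IsConj g (g ^ m) := by
  classical
  haveI : Fintype G := Fintype.ofFinite G
  haveI : Fintype (IrrCharacter G) := Fintype.ofFinite _
  haveI : NeZero (Nat.card G) := ⟨Nat.card_pos.ne'⟩
  constructor
  · intro hrat m hm g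
    have hval : ∀ χ : IrrCharacter G, (χ : G → ℂ) (g ^ m) = (χ : G → ℂ) g := by
      intro χ
      obtain ⟨I, hI, mm, z, hz, hpow⟩ := char_pow_sum (helper24.irr_isCharacter χ.2) g
      obtain ⟨q, hq⟩ := hrat χ g
      have h1 := hpow 1
      simp only [pow_one] at h1
      have h2 := (key (Nat.card G) mm z hz).1 ⟨q, by rw [← h1, hq]⟩ m hm
      rw [hpow m, h2, ← h1]
    have h1 := helper24.irr_column_orthogonality g (g ^ m)
    by_contra hne
    rw [if_neg hne] at h1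
    have h2 := helper24.irr_column_orthogonality g g
    rw [if_pos (IsConj.refl _)] at h2
    have h3 : ∑ χ : IrrCharacter G, (χ : G → ℂ) g * conj ((χ : G → ℂ) (g ^ m)) =
        ∑ χ : IrrCharacter G, (χ : G → ℂ) g * conj ((χ : G → ℂ) g) :=
      Finset.sum_congr rfl (fun χ _ => by rw [hval χ])
    rw [h3, h2] at h1
    have : (Nat.card (Subgroup.centralizer ({g} : Set G)) : ℂ) ≠ 0 := by
      exact_mod_cast Nat.card_pos.ne'
    exact this h1
  · intro hconj χ g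
    obtain ⟨I, hI, mm, z, hz, hpow⟩ := char_pow_sum (helper24.irr_isCharacter χ.2) g
    have h1 := hpow 1
    simp only [pow_one] at h1
    have hall : ∀ j : ℕ, j.Coprime (Nat.card G) →
        ∑ i, (mm i : ℂ) * z i ^ j = ∑ i, (mm i : ℂ) * z i := by
      intro j hj
      rw [← hpow j, ← h1]
      obtain ⟨c, hc⟩ := isConj_iff.mp (hconj j hj g)
      rw [← hc]
      exact helper24.char_isClassFunction (helper24.irr_isCharacter χ.2) g c
    obtain ⟨q, hq⟩ := (key (Nat.card G) mm z hz).2 hall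
    exact ⟨q, by rw [h1, hq]⟩

end Cfsg.Agent.S0180
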