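import Cfsg.Statements.S0181
import Mathlib

set_option autoImplicit false
set_option linter.style.haveILetI false
set_option linter.unusedVariables false
open Cfsg

namespace Cfsg.Agent.S0181

/-- Let H be a normal subgroup of a finite group G and ρ an irreducible complex representation whose kernel does not contain H. If g commutes with no non-identity element of H, then the character of ρ vanishes at g. -/
theorem result {G : Type*} [Group G] [Finite G] {V : Type*} [AddCommGroup V] [Module ℂ V] [FiniteDimensional ℂ V] (ρ : Representation ℂ G V) [ρ.IsIrreducible] (H : Subgroup G) [H.Normal] (hker : ∃ h ∈ H, ρ h ≠ LinearMap.id) (g : G) (hg : ∀ h ∈ H, h * g = g * h → h = 1) : ρ.character g = 0 := by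
  classical
  haveI := Fintype.ofFinite G
  -- Schur's lemma for general V
  have schur : ∀ T : V →ₗ[ℂ] V, (∀ x, T ∘ₗ ρ x = ρ x ∘ₗ T) → ∃ c : ℂ, T = c • LinearMap.id := by
    intro T hT
    let f : Representation.IntertwiningMap ρ ρ := ⟨T, hT⟩
    obtain ⟨c, hc⟩ :=
      (Representation.IsIrreducible.algebraMap_intertwiningMap_bijective_of_isAlgClosed (ρ := ρ)).2 f
    refine ⟨c, ?_⟩
    have : f.toLinearMap = (algebraMap ℂ (Representation.IntertwiningMap ρ ρ) c).toLinearMap := by
      rw [hc]
    rw [Representation.IntertwiningMap.algebraMap_apply] at this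
    rw [Representation.IntertwiningMap.toLinearMap_smul] at this
    exact this
  -- S = Σ_{h ∈ H} ρ h
  set S : V →ₗ[ℂ] V := ∑ h : H, ρ (h : G) with hS
  have hScomm : ∀ x, S ∘ₗ ρ x = ρ x ∘ₗ S := by
    intro x
    rw [hS, ← Module.End.mul_eq_comp, ← Module.End.mul_eq_comp, Finset.sum_mul, Finset.mul_sum]
    -- reindex by conjugation
    let e : H ≃ H :=
      { toFun := fun h => ⟨x * h * x⁻¹, ‹H.Normal›.conj_mem h h.2 x⟩
        invFun := fun h => ⟨x⁻¹ * h * x, by
          have := ‹H.Normal›.conj_mem h h.2 x⁻¹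
          simpa using this⟩
        left_inv := fun h => by apply Subtype.ext; simp [mul_assoc]
        right_inv := fun h => by apply Subtype.ext; simp [mul_assoc] }
    rw [← Equiv.sum_comp e (fun h : H => ρ (h : G) * ρ x)]
    apply Finset.sum_congr rfl
    intro h _
    show ρ (x * h * x⁻¹) * ρ x = ρ x * ρ h
    rw [← map_mul, ← map_mul]
    congr 1
    group
  obtain ⟨c, hc⟩ := schur S hScomm
  obtain ⟨h0, hh0, hρh0⟩ := hker
  have hmulS : ρ h0 ∘ₗ S = S := by
    rw [hS, ← Module.End.mul_eq_comp, Finset.mul_sum]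
    rw [← Equiv.sum_comp (Equiv.mulLeft (⟨h0, hh0⟩ : H)) (fun h : H => ρ (h : G))]
    apply Finset.sum_congr rfl
    intro h _
    show ρ h0 * ρ h = ρ ((⟨h0, hh0⟩ * h : H) : G)
    rw [← map_mul]
    rfl
  have hc0 : c = 0 := by
    by_contra hne
    apply hρh0
    rw [hc] at hmulS
    rw [LinearMap.comp_smul, LinearMap.comp_id] at hmulS
    have := congrArg (fun T : V →ₗ[ℂ] V => c⁻¹ • T) hmulS
    simp only [smul_smul, inv_mul_cancel₀ hne, one_smul] at this
    exact this
  have hS0 : S = 0 := by rw [hc, hc0, zero_smul]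
  -- all elements of g H are conjugate to g
  have hconj : ∀ h : H, ∃ k : H, g * (h : G) = (k : G) * g * (k : G)⁻¹ := by
    let φ : H → H := fun k => ⟨g⁻¹ * (k : G) * g * (k : G)⁻¹, by
      have h1 : g⁻¹ * (k : G) * g ∈ H := by
        have := ‹H.Normal›.conj_mem k k.2 g⁻¹
        simpa using this
      exact H.mul_mem h1 (H.inv_mem k.2)⟩
    have hφinj : Function.Injective φ := by
      intro a b hab
      have h1 : g⁻¹ * (a : G) * g * (a : G)⁻¹ = g⁻¹ * (b : G) * g * (b : G)⁻¹ :=
        congrArg Subtype.val hab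
      have h2 : (b : G)⁻¹ * (a : G) * g = g * ((b : G)⁻¹ * (a : G)) := by
        have h3 : (a : G) * g * (a : G)⁻¹ = (b : G) * g * (b : G)⁻¹ := by
          have := congrArg (fun z => g * z) h1
          simpa [mul_assoc] using this
        calc (b : G)⁻¹ * (a : G) * g = (b : G)⁻¹ * ((a : G) * g * (a : G)⁻¹) * (a : G) := by group
          _ = (b : G)⁻¹ * ((b : G) * g * (b : G)⁻¹) * (a : G) := by rw [h3]
          _ = g * ((b : G)⁻¹ * (a : G)) := by group
      have h4 := hg ((b : G)⁻¹ * (a : G)) (H.mul_mem (H.inv_mem b.2) a.2) h2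
      apply Subtype.ext
      have : (a : G) = (b : G) * ((b : G)⁻¹ * (a : G)) := by group
      rw [this, h4, mul_one]
    have hφsurj : Function.Surjective φ := Finite.surjective_of_injective hφinj
    intro h
    obtain ⟨k, hk⟩ := hφsurj h
    refine ⟨k, ?_⟩
    have : g⁻¹ * (k : G) * g * (k : G)⁻¹ = (h : G) := congrArg Subtype.val hk
    rw [← this]
    group
  have hχconst : ∀ h : H, ρ.character (g * (h : G)) = ρ.character g := by
    intro h
    obtain ⟨k, hk⟩ := hconj h
    rw [hk, Representation.char_conj]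
  have hsum : ∑ h : H, ρ.character (g * (h : G)) = 0 := by
    have : ∑ h : H, ρ.character (g * (h : G)) = LinearMap.trace ℂ V (ρ g ∘ₗ S) := by
      rw [hS, ← Module.End.mul_eq_comp, Finset.mul_sum, map_sum]
      apply Finset.sum_congr rfl
      intro h _
      rw [Representation.character, map_mul]
    rw [this, hS0, LinearMap.comp_zero, map_zero]
  rw [Finset.sum_congr rfl (fun h _ => hχconst h), Finset.sum_const, Finset.card_univ,
    nsmul_eq_mul] at hsum
  have hcard : (Fintype.card H : ℂ) ≠ 0 := by
    have : Fintype.card H ≠ 0 := Fintype.card_ne_zero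
    exact_mod_cast this
  exact (mul_eq_zero.mp hsum).resolve_left hcard

end Cfsg.Agent.S0181
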