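import Cfsg.Statements.S0184
import Mathlib
import Cfsg.Agent.Lib_helper1_PCenter
import Cfsg.Agent.Lib_helper24_Char
import Cfsg.Agent.Lib_helper23_Schur

set_option autoImplicit false
set_option linter.style.haveILetI false
set_option linter.unusedVariables false
open Cfsg

namespace Cfsg.Agent.S0184

/-- A finite p-group admits a faithful irreducible complex representation if and only if its centre is cyclic. -/
theorem result {G : Type*} [Group G] [Finite G] (p : ℕ) [Fact p.Prime] (hG : IsPGroup p G) : (∃ (n : ℕ) (ρ : Representation ℂ G (Fin n → ℂ)), ρ.IsIrreducible ∧ Function.Injective ρ) ↔ IsCyclic (Subgroup.center G) := by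
  classical
  have hp : p.Prime := Fact.out
  constructor
  · -- faithful irreducible ⇒ centre cyclic
    rintro ⟨n, ρ, hirr, hinj⟩
    have hn : 0 < n := Cfsg.Agent.helper23.pos_of_irreducible ρ hirr
    -- central elements act as scalars
    have hscal : ∀ z : Subgroup.center G, ∃ c : ℂ, ρ (z : G) = c • LinearMap.id := by
      intro z
      apply Cfsg.Agent.helper23.schur_scalar ρ hirr
      intro g
      rw [← Module.End.mul_eq_comp, ← Module.End.mul_eq_comp, ← map_mul, ← map_mul]
      congr 1
      exact ((Subgroup.mem_center_iff.mp z.2) g).symm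
    choose c hc using hscal
    let i0 : Fin n := ⟨0, hn⟩
    have hc1 : c 1 = 1 := by
      have h1 := hc 1
      rw [Subgroup.coe_one, map_one] at h1
      have := congrArg (fun T : (Fin n → ℂ) →ₗ[ℂ] (Fin n → ℂ) => T (Pi.single i0 1) i0) h1
      simp at this
      exact this.symm
    have hcmul : ∀ a b : Subgroup.center G, c (a * b) = c a * c b := by
      intro a b
      have h1 := hc (a * b)
      rw [Subgroup.coe_mul, map_mul, hc a, hc b] at h1
      have := congrArg (fun T : (Fin n → ℂ) →ₗ[ℂ] (Fin n → ℂ) => T (Pi.single i0 1) i0) h1
      simp at this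
      rw [← this, mul_comm]
    let f : Subgroup.center G →* ℂ :=
      { toFun := c
        map_one' := hc1
        map_mul' := hcmul }
    have hfinj : Function.Injective f := by
      intro a b hab
      have hab' : c a = c b := hab
      have : ρ (a : G) = ρ (b : G) := by rw [hc a, hc b, hab']
      exact Subtype.ext (hinj this)
    exact isCyclic_of_injective_ringHom f hfinj
  · -- centre cyclic ⇒ faithful irreducible
    intro hcyc
    haveI := Fintype.ofFinite G
    haveI := Fintype.ofFinite (IrrCharacter G)
    by_cases htriv : Subsingleton G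
    · refine ⟨1, Representation.trivial ℂ G (Fin 1 → ℂ),
        Cfsg.Agent.helper24.rep_irreducible_of_dim_one _, ?_⟩
      intro a b _
      exact Subsingleton.elim a b
    · haveI : Nontrivial G := not_subsingleton_iff_nontrivial.mp htriv
      -- an element z0 of order p in the centre
      have hcent : Nontrivial (Subgroup.center G) := hG.center_nontrivial
      have hpcard : p ∣ Nat.card (Subgroup.center G) := by
        obtain ⟨k, hk0, hk⟩ := (hG.to_subgroup (Subgroup.center G)).nontrivial_iff_card.mp hcent
        rw [hk]; exact dvd_pow_self _ (ne_of_gt hk0)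
      obtain ⟨z0, hz0⟩ := exists_prime_orderOf_dvd_card' p hpcard
      have hz0ne : (z0 : G) ≠ 1 := by
        intro h
        have : z0 = 1 := Subtype.ext h
        rw [this, orderOf_one] at hz0
        exact hp.one_lt.ne hz0
      -- every nontrivial normal subgroup contains z0
      have hcontains : ∀ M : Subgroup G, M.Normal → M ≠ ⊥ → (z0 : G) ∈ M := by
        intro M hMn hM
        haveI := hMn
        obtain ⟨y, hyM, hyZ, hy1⟩ := Cfsg.Agent.helper1.exists_central_of_normal_ne_bot hG M hM
        -- the subgroup M ⊓ center has an element of order p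
        let Y : Subgroup (Subgroup.center G) := M.subgroupOf (Subgroup.center G)
        have hYnt : Nontrivial Y := by
          refine ⟨⟨⟨⟨y, hyZ⟩, Subgroup.mem_subgroupOf.mpr hyM⟩, 1, ?_⟩⟩
          intro h
          apply hy1
          have := congrArg (fun t : Y => ((t : Subgroup.center G) : G)) h
          exact this
        have hYp : IsPGroup p Y := (hG.to_subgroup (Subgroup.center G)).to_subgroup Y
        have hpY : p ∣ Nat.card Y := by
          obtain ⟨k, hk0, hk⟩ := hYp.nontrivial_iff_card.mp hYnt
          rw [hk]; exact dvd_pow_self _ (ne_of_gt hk0)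
        obtain ⟨w, hw⟩ := exists_prime_orderOf_dvd_card' p hpY
        -- w : Y of order p; its image in the centre has order p
        have hw' : orderOf (w : Subgroup.center G) = p := by
          rw [Subgroup.orderOf_coe]; exact hw
        have hz0p : z0 ^ p = 1 := by rw [← hz0]; exact pow_orderOf_eq_one z0
        have hmem := Cfsg.Agent.helper1.mem_zpowers_of_orderOf_eq_prime hp
          (w : Subgroup.center G) z0 hw' hz0p
        obtain ⟨k, hk⟩ := Subgroup.mem_zpowers_iff.mp hmem
        have hwM : ((w : Subgroup.center G) : G) ∈ M := Subgroup.mem_subgroupOf.mp w.2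
        have : (z0 : G) = ((w : Subgroup.center G) : G) ^ k := by
          rw [← hk]; simp
        rw [this]
        exact M.zpow_mem hwM k
      -- an irreducible character whose kernel avoids z0
      have hex : ∃ χ : IrrCharacter G, (χ : G → ℂ) (z0 : G) ≠ (χ : G → ℂ) 1 := by
        by_contra hcon
        push Not at hcon
        have h1 := Cfsg.Agent.helper24.irr_column_orthogonality (G := G) (z0 : G) 1
        have h2 := Cfsg.Agent.helper24.irr_column_orthogonality (G := G) 1 1
        rw [if_neg (by
          intro hconj
          exact hz0ne (isConj_one_left.mp hconj))] at h1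
        rw [if_pos (IsConj.refl _)] at h2
        simp_rw [hcon] at h1
        rw [h1] at h2
        have : (Nat.card (Subgroup.centralizer ({1} : Set G)) : ℂ) ≠ 0 := by
          have : Nat.card (Subgroup.centralizer ({1} : Set G)) ≠ 0 := Nat.card_pos.ne'
          exact_mod_cast this
        exact this h2.symm
      obtain ⟨χ, hχ⟩ := hex
      obtain ⟨n, ρ, hirr, hρχ⟩ := χ.2
      refine ⟨n, ρ, hirr, ?_⟩
      -- kernel of ρ is trivial
      have hker : MonoidHom.ker ρ = ⊥ := by
        by_contra hne
        have hz0ker := hcontains (MonoidHom.ker ρ) (MonoidHom.normal_ker ρ) hne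
        rw [MonoidHom.mem_ker] at hz0ker
        apply hχ
        rw [← hρχ]
        show LinearMap.trace ℂ _ (ρ (z0 : G)) = LinearMap.trace ℂ _ (ρ 1)
        rw [hz0ker, ← map_one ρ]
      exact (MonoidHom.ker_eq_bot_iff ρ).mp hker

end Cfsg.Agent.S0184
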