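import Cfsg.Statements.S0185
import Mathlib
import Cfsg.Agent.Lib_helper1_RepBridge
import Cfsg.Agent.Lib_helper12_CharOps
import Cfsg.Agent.Lib_helper23_Linear
import Cfsg.Agent.Lib_helper24_Char

set_option autoImplicit false
set_option linter.style.haveILetI false
set_option linter.unusedVariables false
open Cfsg

namespace Cfsg.Agent.S0185

/-- If a finite group has a faithful complex representation of degree less than the smallest prime dividing its order, the group is abelian. -/
theorem result {G : Type*} [Group G] [Finite G] {V : Type*} [AddCommGroup V] [Module ℂ V] [FiniteDimensional ℂ V] (ρ : Representation ℂ G V) (hfaithful : Function.Injective ρ) (hdeg : ∀ p : ℕ, p.Prime → p ∣ Nat.card G → Module.finrank ℂ V < p) (a b : G) : a * b = b * a := by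
  classical
  haveI := Fintype.ofFinite G
  haveI := Fintype.ofFinite (IrrCharacter G)
  have hχ : IsCharacter G ρ.character := Cfsg.Agent.helper1.isCharacter_character ρ
  obtain ⟨n, hexp, hn, -⟩ := Cfsg.Agent.helper12.char_decomp hχ
  have hχ1 : ρ.character 1 = (Module.finrank ℂ V : ℂ) := Representation.char_one ρ
  -- value at 1 : finrank V = Σ n ψ * deg ψ
  have hdegcast : ∀ ψ : IrrCharacter G, (ψ : G → ℂ) 1 = (charDegree (ψ : G → ℂ) : ℂ) := fun ψ =>
    (Cfsg.Agent.helper24.char_charDegree_cast (Cfsg.Agent.helper24.irr_isCharacter ψ.2)).symm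
  have hsum1 : Module.finrank ℂ V = ∑ ψ : IrrCharacter G, n ψ * charDegree (ψ : G → ℂ) := by
    have h1 := congrFun hexp 1
    rw [hχ1, Finset.sum_apply] at h1
    simp only [Pi.smul_apply, smul_eq_mul, hdegcast] at h1
    exact_mod_cast h1
  -- every constituent is linear
  have hlin : ∀ ψ : IrrCharacter G, n ψ ≠ 0 → (ψ : G → ℂ) 1 = 1 := by
    intro ψ hψ
    have hle : charDegree (ψ : G → ℂ) ≤ Module.finrank ℂ V := by
      rw [hsum1]
      calc charDegree (ψ : G → ℂ) ≤ n ψ * charDegree (ψ : G → ℂ) :=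
            Nat.le_mul_of_pos_left _ (Nat.pos_of_ne_zero hψ)
        _ ≤ ∑ ψ : IrrCharacter G, n ψ * charDegree (ψ : G → ℂ) :=
            Finset.single_le_sum (f := fun ψ : IrrCharacter G => n ψ * charDegree (ψ : G → ℂ))
              (fun _ _ => Nat.zero_le _) (Finset.mem_univ ψ)
    have hdvd : charDegree (ψ : G → ℂ) ∣ Nat.card G := Cfsg.Agent.helper24.irr_degree_dvd_card ψ.2
    have hd1 : charDegree (ψ : G → ℂ) = 1 := by
      by_contra hne
      obtain ⟨p, hp, hpd⟩ := Nat.exists_prime_and_dvd hne
      have hlt := hdeg p hp (dvd_trans hpd hdvd)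
      have hpos : 0 < charDegree (ψ : G → ℂ) := Cfsg.Agent.helper24.irr_charDegree_pos ψ.2
      have := Nat.le_of_dvd hpos hpd
      omega
    rw [hdegcast, hd1, Nat.cast_one]
  -- the commutator acts trivially
  set c : G := a * b * a⁻¹ * b⁻¹ with hc
  have hcmem : c ∈ commutator G := by
    rw [hc]
    exact Subgroup.commutator_mem_commutator (Subgroup.mem_top a) (Subgroup.mem_top b)
  have hψc : ∀ ψ : IrrCharacter G, n ψ ≠ 0 → (ψ : G → ℂ) c = (ψ : G → ℂ) 1 := by
    intro ψ hψ
    have := Cfsg.Agent.helper23.linear_char_mul_commutator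
      (Cfsg.Agent.helper24.irr_isCharacter ψ.2) (hlin ψ hψ) 1 c hcmem
    rwa [one_mul] at this
  have hχc : ρ.character c = (Module.finrank ℂ V : ℂ) := by
    rw [← hχ1]
    have h1 := congrFun hexp c
    have h2 := congrFun hexp 1
    rw [h1, h2, Finset.sum_apply, Finset.sum_apply]
    apply Finset.sum_congr rfl
    intro ψ _
    simp only [Pi.smul_apply, smul_eq_mul]
    by_cases hψ : n ψ = 0
    · rw [hψ]; simp
    · rw [hψc ψ hψ]
  have hρc : ρ c = LinearMap.id := by
    rw [← Cfsg.Agent.helper1.finRep_eq_id_iff]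
    have := (Cfsg.Agent.helper24.rep_char_eq_degree_iff (Cfsg.Agent.helper1.finRep ρ) c).mp (by
      rw [Cfsg.Agent.helper1.finRep_character]; exact hχc)
    exact this
  have hc1 : c = 1 := by
    apply hfaithful
    rw [hρc, map_one]
    rfl
  have : a * b * a⁻¹ * b⁻¹ = 1 := hc1
  calc a * b = (a * b * a⁻¹ * b⁻¹) * b * a := by group
    _ = b * a := by rw [this, one_mul]

end Cfsg.Agent.S0185
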