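import Cfsg.Statements.S0186
import Mathlib
import Cfsg.Agent.S0185
import Cfsg.Agent.Lib_helper24_Char

set_option autoImplicit false
set_option linter.style.haveILetI false
set_option linter.unusedVariables false
open Cfsg

namespace Cfsg.Agent.S0186

/-- Let G be a finite simple group of order n and p a prime dividing n. If G has more than n / p^2 conjugacy classes, then every Sylow p-subgroup of G is abelian. -/
theorem result {G : Type*} [Group G] [Finite G] [IsSimpleGroup G] (p : ℕ) [Fact p.Prime] (hp : p ∣ Nat.card G) (hmany : Nat.card G < p ^ 2 * Nat.card (ConjClasses G)) (P : Sylow p G) (a b : G) (ha : a ∈ P) (hb : b ∈ P) : a * b = b * a := by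
  classical
  have hpp : p.Prime := Fact.out
  haveI := Fintype.ofFinite G
  haveI := Fintype.ofFinite (IrrCharacter G)
  have hsum := Cfsg.Agent.helper24.sum_irr_degree_sq (G := G)
  have hk := Cfsg.Agent.helper24.card_irr_eq_card_conjClasses (G := G)
  rw [← hk, Nat.card_eq_fintype_card (α := IrrCharacter G)] at hmany
  set χ1 : IrrCharacter G := ⟨fun _ => 1, Cfsg.Agent.helper24.isIrrCharacter_one⟩ with hχ1
  by_cases hsmall : ∃ χ : IrrCharacter G, χ ≠ χ1 ∧ charDegree (χ : G → ℂ) < p
  · -- a faithful representation of small degree
    obtain ⟨χ, hχne, hχdeg⟩ := hsmall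
    obtain ⟨m, ρ, hirr, hρχ⟩ := χ.2
    have hm : charDegree (χ : G → ℂ) = m := by
      apply Cfsg.Agent.helper24.charDegree_natCast
      rw [← hρχ]; simp
    rw [hm] at hχdeg
    have hker : MonoidHom.ker ρ = ⊥ := by
      rcases (MonoidHom.normal_ker ρ).eq_bot_or_eq_top with h | h
      · exact h
      · exfalso
        have hall : ∀ g : G, (χ : G → ℂ) g = (m : ℂ) := by
          intro g
          have hg : g ∈ MonoidHom.ker ρ := by rw [h]; exact Subgroup.mem_top g
          rw [MonoidHom.mem_ker] at hg
          rw [← hρχ]
          show LinearMap.trace ℂ _ (ρ g) = _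
          rw [hg]
          simp
        have hnorm := Cfsg.Agent.helper24.irr_classInner_self χ.2
        unfold classInner at hnorm
        simp_rw [hall] at hnorm
        rw [Finset.sum_const, Finset.card_univ, nsmul_eq_mul, Complex.conj_natCast,
          ← Nat.card_eq_fintype_card, ← mul_assoc, ← mul_assoc, inv_mul_cancel₀, one_mul] at hnorm
        · have hm1 : m * m = 1 := by exact_mod_cast hnorm
          have hm1' : m = 1 := by
            have h2 : m ^ 2 = 1 := by rw [pow_two]; exact hm1
            rcases Nat.pow_eq_one.mp h2 with h | h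
            · exact h
            · omega
          apply hχne
          apply Subtype.ext
          funext g
          rw [hall g, hm1']
          simp [hχ1]
        · have : Nat.card G ≠ 0 := Nat.card_pos.ne'
          exact_mod_cast this
    have hinj : Function.Injective ρ := (MonoidHom.ker_eq_bot_iff ρ).mp hker
    let σ : Representation ℂ (P : Subgroup G) (Fin m → ℂ) := ρ.comp (P : Subgroup G).subtype
    have hσinj : Function.Injective σ := by
      intro x y hxy
      exact Subtype.ext (hinj hxy)
    have hdeg : ∀ q : ℕ, q.Prime → q ∣ Nat.card (P : Subgroup G) →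
        Module.finrank ℂ (Fin m → ℂ) < q := by
      intro q hq hqd
      obtain ⟨e, he⟩ := IsPGroup.iff_card.mp P.isPGroup'
      rw [he] at hqd
      have : q = p := (Nat.prime_dvd_prime_iff_eq hq hpp).mp (hq.dvd_of_dvd_pow hqd)
      rw [this, Module.finrank_fin_fun]
      exact hχdeg
    have := Cfsg.Agent.S0185.result σ hσinj hdeg ⟨a, ha⟩ ⟨b, hb⟩
    exact congrArg Subtype.val this
  · -- all nonprincipal degrees are at least p
    push Not at hsmall
    have hbound : 1 + (Fintype.card (IrrCharacter G) - 1) * p ^ 2 ≤ Nat.card G := by
      rw [← hsum, ← Finset.add_sum_erase Finset.univ _ (Finset.mem_univ χ1)]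
      have h1 : charDegree (χ1 : G → ℂ) ^ 2 = 1 := by
        have : charDegree (χ1 : G → ℂ) = 1 := by
          apply Cfsg.Agent.helper24.charDegree_natCast
          simp [hχ1]
        rw [this]; norm_num
      rw [h1]
      apply Nat.add_le_add_left
      calc (Fintype.card (IrrCharacter G) - 1) * p ^ 2
          = ∑ χ ∈ Finset.univ.erase χ1, p ^ 2 := by
            rw [Finset.sum_const, Finset.card_erase_of_mem (Finset.mem_univ _), Finset.card_univ,
              smul_eq_mul]
        _ ≤ ∑ χ ∈ Finset.univ.erase χ1, charDegree (χ : G → ℂ) ^ 2 := by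
            apply Finset.sum_le_sum
            intro χ hχ
            have := hsmall χ (Finset.ne_of_mem_erase hχ)
            exact Nat.pow_le_pow_left this 2
    by_cases hp2 : p ^ 2 ∣ Nat.card G
    · exfalso
      obtain ⟨t, ht⟩ := hp2
      rw [ht] at hbound hmany
      have hppos : 0 < p ^ 2 := pow_pos hpp.pos 2
      have h1 : t < Fintype.card (IrrCharacter G) := Nat.lt_of_mul_lt_mul_left hmany
      have h2 : (Fintype.card (IrrCharacter G) - 1) * p ^ 2 < p ^ 2 * t := by omega
      rw [mul_comm] at h2
      have h3 : Fintype.card (IrrCharacter G) - 1 < t := Nat.lt_of_mul_lt_mul_left h2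
      omega
    · -- Sylow subgroup of order p
      have hcardP : Nat.card (P : Subgroup G) = p := by
        rw [Sylow.card_eq_multiplicity]
        have hfac : (Nat.card G).factorization p = 1 := by
          have hn0 : Nat.card G ≠ 0 := Nat.card_pos.ne'
          have h1 : 1 ≤ (Nat.card G).factorization p :=
            (hpp.dvd_iff_one_le_factorization hn0).mp hp
          have h2 : ¬ 2 ≤ (Nat.card G).factorization p := by
            intro h
            exact hp2 ((hpp.pow_dvd_iff_le_factorization hn0).mpr h)
          omega
        rw [hfac, pow_one]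
      haveI : IsCyclic (P : Subgroup G) := isCyclic_of_prime_card hcardP
      have := (IsCyclic.commGroup (α := (P : Subgroup G))).mul_comm ⟨a, ha⟩ ⟨b, hb⟩
      exact congrArg Subtype.val this

end Cfsg.Agent.S0186
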