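import Cfsg.Statements.S0189
import Mathlib

set_option autoImplicit false
set_option linter.style.haveILetI false
set_option linter.unusedVariables false
open Cfsg

namespace Cfsg.Agent.S0189

/-- If a complex character of a finite group vanishes at every non-identity element of a Sylow p-subgroup P, then |P| divides its degree. -/
theorem result {G : Type*} [Group G] [Finite G] (p : ℕ) [Fact p.Prime] (P : Sylow p G) (χ : G → ℂ) (hχ : Cfsg.IsCharacter G χ) (hvan : ∀ g : G, g ∈ P → g ≠ 1 → χ g = 0) : ∃ k : ℕ, χ 1 = (Nat.card P : ℂ) * k := by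
  classical
  obtain ⟨n, ρ, hρ⟩ := hχ
  haveI : Fintype (P : Subgroup G) := Fintype.ofFinite _
  let ρ' : Representation ℂ (P : Subgroup G) (Fin n → ℂ) := ρ.comp (P : Subgroup G).subtype
  have hne : (Nat.card (P : Subgroup G) : ℂ) ≠ 0 := by
    have : Nat.card (P : Subgroup G) ≠ 0 := Nat.card_pos.ne'
    exact_mod_cast this
  letI : Invertible (Nat.card (P : Subgroup G) : ℂ) := invertibleOfNonzero hne
  have h := Representation.card_inv_mul_sum_char_eq_finrank ρ'
  refine ⟨Module.finrank ℂ (Representation.invariants ρ'), ?_⟩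
  have hsum : ∑ y : (P : Subgroup G), ρ'.character y = χ 1 := by
    rw [Finset.sum_eq_single (1 : (P : Subgroup G))]
    · rw [← hρ]; rfl
    · intro y _ hy
      have : χ (y : G) = 0 := hvan y y.2 (by
        intro h1; apply hy; exact Subtype.ext h1)
      rw [← this, ← hρ]; rfl
    · intro h1; exact absurd (Finset.mem_univ _) h1
  rw [← h, ← mul_assoc, mul_inv_cancel₀ hne, one_mul, hsum]

end Cfsg.Agent.S0189
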