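import Cfsg.Statements.S0191
import Mathlib
import Cfsg.Agent.Lib_helper1_Galois
import Cfsg.Agent.Lib_helper1_RepBridge
import Cfsg.Agent.Lib_helper24_CharOrth

set_option autoImplicit false
set_option linter.style.haveILetI false
set_option linter.unusedVariables false
open Cfsg

namespace Cfsg.Agent.S0191

/-- An irreducible complex representation of a finite group of degree greater than 1 has a character that vanishes somewhere. -/
theorem result {G : Type*} [Group G] [Finite G] {V : Type*} [AddCommGroup V] [Module ℂ V] [FiniteDimensional ℂ V] (ρ : Representation ℂ G V) [ρ.IsIrreducible] (hdeg : 1 < Module.finrank ℂ V) : ∃ g : G, ρ.character g = 0 := by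
  classical
  by_contra hne
  push Not at hne
  haveI : Fintype G := Fintype.ofFinite G
  set N := Nat.card G with hNdef
  have hN : N ≠ 0 := helper1.card_ne_zero'
  -- elements of the cyclotomic field
  let x : G → helper1.cycField N := fun g => ⟨ρ.character g, helper1.char_mem_cycField ρ g⟩
  let P : helper1.cycField N := ∏ g ∈ Finset.univ.erase (1 : G), x g
  have hPval : (P : ℂ) = ∏ g ∈ Finset.univ.erase (1 : G), ρ.character g := by
    simp only [P]
    push_cast
    rfl
  have hP0 : P ≠ 0 := by
    intro h
    have : (P : ℂ) = 0 := by rw [h]; rfl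
    rw [hPval, Finset.prod_eq_zero_iff] at this
    obtain ⟨g, _, hg⟩ := this
    exact hne g hg
  have hPint : IsIntegral ℤ (P : ℂ) := by
    rw [hPval]
    exact IsIntegral.prod _ fun g _ => helper1.isIntegral_char ρ g
  have hfix : ∀ σ : helper1.cycField N →ₐ[ℚ] ℂ, σ P = (P : ℂ) := by
    intro σ
    have ht := helper1.galExp_coprime N hN σ
    set t := helper1.galExp N hN σ with htdef
    have h1 : σ P = ∏ g ∈ Finset.univ.erase (1 : G), ρ.character (g ^ t) := by
      simp only [P, map_prod]
      refine Finset.prod_congr rfl fun g _ => ?_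
      exact helper1.galois_char σ ρ g (x g) rfl
    rw [h1, hPval]
    have hc : (Nat.card G).Coprime t := ht.symm
    refine Finset.prod_equiv (powCoprime hc) ?_ ?_
    · intro g
      simp only [Finset.mem_erase, Finset.mem_univ, and_true, ne_eq]
      rw [not_iff_not]
      constructor
      · rintro rfl; simp
      · intro h
        apply (powCoprime hc).injective
        rw [h]; simp
    · intro g _
      rfl
  have hnorm := helper1.one_le_norm_of_fixed N hN P hPint hP0 hfix
  -- orthogonality
  have hirr : IsIrrCharacter G ρ.character := helper1.isIrrCharacter_character ρ inferInstance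
  have horth := helper24.irr_classInner_self hirr
  unfold classInner at horth
  have hcardC : (Nat.card G : ℂ) ≠ 0 := by exact_mod_cast hN
  have hsum : ∑ g : G, ‖ρ.character g‖ ^ 2 = (Nat.card G : ℝ) := by
    have h2 : ∑ g : G, ρ.character g * (starRingEnd ℂ) (ρ.character g) = (Nat.card G : ℂ) := by
      field_simp at horth
      exact horth
    have h3 : ((∑ g : G, ‖ρ.character g‖ ^ 2 : ℝ) : ℂ) = (Nat.card G : ℂ) := by
      rw [← h2]
      push_cast
      refine Finset.sum_congr rfl fun g _ => ?_
      rw [Complex.mul_conj, Complex.normSq_eq_norm_sq]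
      push_cast
      rfl
    exact_mod_cast h3
  -- AM-GM via logarithms
  have hpos : ∀ g : G, 0 < ‖ρ.character g‖ ^ 2 := fun g => by
    have := norm_pos_iff.mpr (hne g)
    positivity
  have hprod : 1 ≤ ∏ g ∈ Finset.univ.erase (1 : G), ‖ρ.character g‖ ^ 2 := by
    rw [Finset.prod_pow, ← norm_prod, ← hPval]
    exact one_le_pow₀ hnorm
  have hlog : 0 ≤ ∑ g ∈ Finset.univ.erase (1 : G), Real.log (‖ρ.character g‖ ^ 2) := by
    rw [← Real.log_prod (fun g _ => (hpos g).ne')]
    exact Real.log_nonneg hprod
  have hle : ∑ g ∈ Finset.univ.erase (1 : G), Real.log (‖ρ.character g‖ ^ 2)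
      ≤ ∑ g ∈ Finset.univ.erase (1 : G), (‖ρ.character g‖ ^ 2 - 1) :=
    Finset.sum_le_sum fun g _ => Real.log_le_sub_one_of_pos (hpos g)
  rw [Finset.sum_sub_distrib, Finset.sum_const, Finset.card_erase_of_mem (Finset.mem_univ _),
    Finset.card_univ, nsmul_eq_mul, mul_one] at hle
  have hsplit := Finset.add_sum_erase Finset.univ (fun g : G => ‖ρ.character g‖ ^ 2)
    (Finset.mem_univ (1 : G))
  have hone : ‖ρ.character (1 : G)‖ ^ 2 = (Module.finrank ℂ V : ℝ) ^ 2 := by
    rw [Representation.char_one]
    simp
  have hcard : ((Fintype.card G - 1 : ℕ) : ℝ) = (Fintype.card G : ℝ) - 1 := by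
    rw [Nat.cast_sub Fintype.card_pos]; simp
  have hNF : (Nat.card G : ℝ) = Fintype.card G := by rw [Nat.card_eq_fintype_card]
  have hdeg' : (2 : ℝ) ≤ Module.finrank ℂ V := by exact_mod_cast hdeg
  nlinarith

end Cfsg.Agent.S0191
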