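import Cfsg.Statements.S0192
import Mathlib
import Cfsg.Agent.Lib_helper24_Char

set_option autoImplicit false
set_option linter.style.haveILetI false
set_option linter.unusedVariables false
open Cfsg

namespace Cfsg.Agent.S0192

/-- Brauer's generation criterion. Let G be a finite simple group, H₁ and H₂ subgroups, and χ a non-principal irreducible character. If the multiplicity of the principal character in χ restricted to H₁ ⊓ H₂ is less than the sum of the corresponding multiplicities for H₁ and H₂, then H₁ and H₂ do not generate G. -/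
theorem result {G : Type*} [Group G] [Fintype G] [IsSimpleGroup G] (H₁ H₂ : Subgroup G) [Fintype H₁] [Fintype H₂] [Fintype ↥(H₁ ⊓ H₂)] (χ : G → ℂ) (hχ : Cfsg.IsIrrCharacter G χ) (hχ1 : χ ≠ fun _ => 1) (hlt : (Cfsg.classInner (fun x : ↥(H₁ ⊓ H₂) => χ x) (fun _ => 1)).re < (Cfsg.classInner (fun x : H₁ => χ x) (fun _ => 1)).re + (Cfsg.classInner (fun x : H₂ => χ x) (fun _ => 1)).re) : H₁ ⊔ H₂ ≠ ⊤ := by
  classical
  intro htop
  obtain ⟨n, ρ, hirr, hρχ⟩ := hχ
  have hirrχ : IsIrrCharacter G χ := ⟨n, ρ, hirr, hρχ⟩
  -- multiplicity of the trivial character on a subgroup = dimension of invariants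
  have hmult : ∀ (H : Subgroup G) [Fintype H],
      classInner (fun x : H => χ x) (fun _ => 1)
        = (Module.finrank ℂ (Representation.invariants (ρ.comp H.subtype)) : ℂ) := by
    intro H _
    have hne : (Nat.card H : ℂ) ≠ 0 := by
      have : Nat.card H ≠ 0 := Nat.card_pos.ne'
      exact_mod_cast this
    letI : Invertible (Nat.card H : ℂ) := invertibleOfNonzero hne
    rw [← Representation.card_inv_mul_sum_char_eq_finrank (ρ.comp H.subtype)]
    unfold classInner
    congr 1
    apply Finset.sum_congr rfl
    intro h _
    rw [map_one, mul_one, ← hρχ]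
    rfl
  have hre : ∀ (H : Subgroup G) [Fintype H],
      (classInner (fun x : H => χ x) (fun _ => 1)).re
        = (Module.finrank ℂ (Representation.invariants (ρ.comp H.subtype)) : ℝ) := by
    intro H _
    rw [hmult H]
    simp
  rw [hre (H₁ ⊓ H₂), hre H₁, hre H₂] at hlt
  set I₁ := Representation.invariants (ρ.comp H₁.subtype) with hI₁
  set I₂ := Representation.invariants (ρ.comp H₂.subtype) with hI₂
  set I₁₂ := Representation.invariants (ρ.comp (H₁ ⊓ H₂).subtype) with hI₁₂
  -- invariants of the whole group vanish
  have hG0 : Representation.invariants ρ = ⊥ := by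
    have hne : (Nat.card G : ℂ) ≠ 0 := by
      have : Nat.card G ≠ 0 := Nat.card_pos.ne'
      exact_mod_cast this
    letI : Invertible (Nat.card G : ℂ) := invertibleOfNonzero hne
    have h1 := Representation.card_inv_mul_sum_char_eq_finrank ρ
    have h2 := Cfsg.Agent.helper24.irr_classInner hirrχ Cfsg.Agent.helper24.isIrrCharacter_one
    rw [if_neg hχ1] at h2
    unfold classInner at h2
    have h3 : (Nat.card G : ℂ)⁻¹ * ∑ g : G, ρ.character g = 0 := by
      rw [← h2]
      congr 1
      apply Finset.sum_congr rfl
      intro g _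
      rw [map_one, mul_one, hρχ]
    rw [h3] at h1
    have h4 : Module.finrank ℂ (Representation.invariants ρ) = 0 := by exact_mod_cast h1.symm
    exact Submodule.finrank_eq_zero.mp h4
  have hinf : I₁ ⊓ I₂ = ⊥ := by
    rw [eq_bot_iff, ← hG0]
    intro v hv
    rw [Submodule.mem_inf] at hv
    rw [Representation.mem_invariants]
    -- stabiliser of v
    let S : Subgroup G :=
      { carrier := {g | ρ g v = v}
        one_mem' := by simp
        mul_mem' := by
          intro a b ha hb
          simp only [Set.mem_ofPred_eq] at ha hb ⊢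
          rw [map_mul, Module.End.mul_apply, hb, ha]
        inv_mem' := by
          intro a ha
          simp only [Set.mem_ofPred_eq] at ha ⊢
          have : ρ a⁻¹ (ρ a v) = v := by
            rw [← Module.End.mul_apply, ← map_mul, inv_mul_cancel, map_one]
            rfl
          rw [ha] at this
          exact this }
    have h1 : H₁ ≤ S := fun g hg => (Representation.mem_invariants _ _).mp hv.1 ⟨g, hg⟩
    have h2 : H₂ ≤ S := fun g hg => (Representation.mem_invariants _ _).mp hv.2 ⟨g, hg⟩
    have hS : S = ⊤ := by
      rw [eq_top_iff, ← htop]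
      exact sup_le h1 h2
    intro g
    have : g ∈ S := by rw [hS]; exact Subgroup.mem_top g
    exact this
  have hsup : I₁ ⊔ I₂ ≤ I₁₂ := by
    apply sup_le
    · intro v hv
      rw [hI₁₂, Representation.mem_invariants]
      intro g
      exact (Representation.mem_invariants _ _).mp hv ⟨g, g.2.1⟩
    · intro v hv
      rw [hI₁₂, Representation.mem_invariants]
      intro g
      exact (Representation.mem_invariants _ _).mp hv ⟨g, g.2.2⟩
  have hdim := Submodule.finrank_sup_add_finrank_inf_eq I₁ I₂
  rw [hinf, finrank_bot, add_zero] at hdim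
  have hle := Submodule.finrank_mono hsup
  rw [hdim] at hle
  have : (Module.finrank ℂ I₁ : ℝ) + Module.finrank ℂ I₂ ≤ Module.finrank ℂ I₁₂ := by
    exact_mod_cast hle
  linarith

end Cfsg.Agent.S0192
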