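import Cfsg.Statements.S0194
import Mathlib
import Cfsg.Agent.Lib_helper8_Ind
import Cfsg.Agent.Lib_helper1_ConjChar
import Cfsg.Agent.S0161

set_option autoImplicit false
set_option linter.style.haveILetI false
set_option linter.unusedVariables false
open scoped ComplexConjugate
open Cfsg

namespace Cfsg.Agent.S0194

/-- Let G have odd order, H be a normal subgroup and θ a non-principal irreducible character of H. Then the function induced from θ is orthogonal to its complex conjugate. -/
theorem result {G : Type*} [Group G] [Fintype G] (hodd : Odd (Nat.card G)) (H : Subgroup G) [H.Normal] (θ : H → ℂ) (hθ : Cfsg.IsIrrCharacter H θ) (hθ1 : θ ≠ fun _ => 1) : Cfsg.classInner (fun g => conj (Cfsg.indFun H θ g)) (Cfsg.indFun H θ) = 0 := by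
  classical
  haveI : Fintype H := Fintype.ofFinite _
  have hHne : (Nat.card H : ℂ) ≠ 0 := by
    have : Nat.card H ≠ 0 := Nat.card_pos.ne'
    exact_mod_cast this
  have hHodd : Odd (Nat.card H) := Odd.of_dvd_nat hodd (Subgroup.card_subgroup_dvd_card H)
  set θc : H → ℂ := fun h => conj (θ h) with hθc
  have hθcirr : IsIrrCharacter H θc := Cfsg.Agent.helper1.isIrrCharacter_conj hθ
  -- conjugate of induced = induced of conjugate
  have hext : ∀ z : G, conj (extendByZero H θ z) = extendByZero H θc z := by
    intro z
    by_cases hz : z ∈ H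
    · rw [Cfsg.Agent.helper5.extendByZero_of_mem H θ z hz,
        Cfsg.Agent.helper5.extendByZero_of_mem H θc z hz]
    · rw [Cfsg.Agent.helper5.extendByZero_of_not_mem H θ z hz,
        Cfsg.Agent.helper5.extendByZero_of_not_mem H θc z hz, map_zero]
  have hind : (fun g => conj (indFun H θ g)) = indFun H θc := by
    funext g
    unfold indFun
    rw [map_mul, map_inv₀, Complex.conj_natCast, map_sum]
    congr 1
    apply Finset.sum_congr rfl
    intro x _
    exact hext _
  -- multiplicativity of conjFunN
  have hmul : ∀ (a b : G) (φ : H → ℂ), Cfsg.Agent.helper8.conjFunN H (a * b) φ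
      = Cfsg.Agent.helper8.conjFunN H b (Cfsg.Agent.helper8.conjFunN H a φ) := by
    intro a b φ
    funext h
    simp only [Cfsg.Agent.helper8.conjFunN_apply]
    congr 1
    apply Subtype.ext
    simp only [mul_inv_rev]
    group
  have hpow : ∀ (a : G), Cfsg.Agent.helper8.conjFunN H a θ = θ →
      ∀ k : ℕ, Cfsg.Agent.helper8.conjFunN H (a ^ k) θ = θ := by
    intro a ha k
    induction k with
    | zero =>
      funext h
      simp only [pow_zero, Cfsg.Agent.helper8.conjFunN_apply]
      congr 1
      apply Subtype.ext
      simp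
    | succ k ih =>
      rw [pow_succ, hmul, ih, ha]
  obtain ⟨m, hm⟩ := hodd
  have hne : ∀ x : G, θc ≠ Cfsg.Agent.helper8.conjFunN H x θ := by
    intro x hx
    have hxx : Cfsg.Agent.helper8.conjFunN H (x * x) θ = θ := by
      rw [hmul, ← hx]
      funext h
      rw [Cfsg.Agent.helper8.conjFunN_apply]
      show conj (θ _) = θ h
      have := congrFun hx h
      rw [Cfsg.Agent.helper8.conjFunN_apply] at this
      rw [← this]
      simp [hθc]
    have hx1 : (x * x) ^ (m + 1) = x := by
      rw [← pow_two, ← pow_mul]
      have : 2 * (m + 1) = Nat.card G + 1 := by omega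
      rw [this, pow_succ, pow_card_eq_one', one_mul]
    have hfix : Cfsg.Agent.helper8.conjFunN H x θ = θ := by
      have := hpow (x * x) hxx (m + 1)
      rwa [hx1] at this
    rw [hfix] at hx
    have hreal : ∀ h : H, (θ h).im = 0 := by
      intro h
      have := congrFun hx h
      exact Complex.conj_eq_iff_im.mp this
    exact hθ1 (Cfsg.Agent.S0161.result hHodd ⟨θ, hθ⟩ hreal)
  rw [hind, Cfsg.Agent.helper8.frobenius H θc _ (Cfsg.Agent.helper8.indFun_isClassFunction H θ),
    Cfsg.Agent.helper8.indFun_restrict_normal H θ, Cfsg.Agent.helper8.classInner_smul_right,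
    Cfsg.Agent.helper8.classInner_sum_right]
  rw [Finset.sum_eq_zero, mul_zero]
  intro x _
  exact Cfsg.Agent.helper24.irr_classInner_ne hθcirr
    (Cfsg.Agent.helper8.isIrrCharacter_conjFunN H x⁻¹ hθ) (hne x⁻¹)

end Cfsg.Agent.S0194
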