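import Cfsg.Statements.S0196
import Mathlib

set_option autoImplicit false
open Pointwise
open Cfsg

namespace Cfsg.Agent.S0196

theorem card_ne_one {α : Type*} [Finite α] (a : α) : Nat.card {x : α // x ≠ a} = Nat.card α - 1 := by
  classical
  haveI := Fintype.ofFinite α
  rw [Nat.card_eq_fintype_card, Nat.card_eq_fintype_card, Fintype.card_subtype_compl, Fintype.card_subtype_eq]

/-- Let A be a subgroup of a finite group G that equals the centralizer of each of its non-identity elements, and let N be its normalizer. Then the index of A in N divides |A| − 1 (N/A permutes the non-identity elements of A in orbits of full length). -/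
theorem result {G : Type*} [Group G] [Finite G] (A : Subgroup G) (hA : ∀ x ∈ A, x ≠ 1 → Subgroup.centralizer ({x} : Set G) = A) : (A.subgroupOf (Subgroup.normalizer (A : Set G))).index ∣ Nat.card A - 1 := by
  classical
  set N := Subgroup.normalizer (A : Set G) with hN
  let S := {x : A // x ≠ 1}
  letI : MulAction N S :=
    { smul := fun n x => ⟨⟨(n : G) * (x.1 : G) * (n : G)⁻¹, (Subgroup.mem_normalizer_iff.mp n.2 _).mp x.1.2⟩, by
        intro h
        apply x.2
        have h' : (n : G) * (x.1 : G) * (n : G)⁻¹ = 1 := congrArg Subtype.val h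
        ext
        calc (x.1 : G) = (n : G)⁻¹ * ((n : G) * (x.1 : G) * (n : G)⁻¹) * n := by group
          _ = 1 := by rw [h']; group⟩
      one_smul := by
        intro x
        apply Subtype.ext; apply Subtype.ext
        change ((1 : N) : G) * (x.1 : G) * ((1 : N) : G)⁻¹ = _
        simp
      mul_smul := by
        intro a b x
        apply Subtype.ext; apply Subtype.ext
        change ((a * b : N) : G) * (x.1 : G) * ((a * b : N) : G)⁻¹ = (a : G) * ((b : G) * (x.1 : G) * (b : G)⁻¹) * (a : G)⁻¹
        simp only [Subgroup.coe_mul]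
        group }
  have hsmul : ∀ (n : N) (x : S), (((n • x : S).1 : A) : G) = (n : G) * (x.1 : G) * (n : G)⁻¹ := fun _ _ => rfl
  have hstab : ∀ x : S, MulAction.stabilizer N x = A.subgroupOf N := by
    intro x
    ext n
    rw [MulAction.mem_stabilizer_iff, Subgroup.mem_subgroupOf]
    have hx1 : (x.1 : G) ≠ 1 := fun h => x.2 (Subtype.ext h)
    have := hA x.1 x.1.2 hx1
    conv_rhs => rw [← this]
    rw [Subgroup.mem_centralizer_iff]
    simp only [Set.mem_singleton_iff, forall_eq]
    constructor
    · intro h
      have h' : (n : G) * (x.1 : G) * (n : G)⁻¹ = (x.1 : G) := by rw [← hsmul, h]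
      calc (x.1 : G) * n = ((n : G) * (x.1 : G) * (n : G)⁻¹) * n := by rw [h']
        _ = n * (x.1 : G) := by group
    · intro h
      apply Subtype.ext; apply Subtype.ext
      rw [hsmul]
      calc (n : G) * (x.1 : G) * (n : G)⁻¹ = ((x.1 : G) * n) * (n : G)⁻¹ := by rw [h]
        _ = x.1 := by group
  have hcard : Nat.card S = Nat.card (Quotient (MulAction.orbitRel N S)) * (A.subgroupOf N).index := by
    haveI := Fintype.ofFinite (Quotient (MulAction.orbitRel N S))
    rw [Nat.card_congr (MulAction.selfEquivSigmaOrbitsQuotientStabilizer N S), Nat.card_sigma]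
    simp only [hstab, ← Subgroup.index_eq_card]
    simp [Nat.card_eq_fintype_card]
  have hS : Nat.card S = Nat.card A - 1 := card_ne_one (1 : A)
  rw [← hS, hcard]
  exact Dvd.intro_left _ rfl

end Cfsg.Agent.S0196
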