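import Cfsg.Statements.S0203
import Mathlib
import Cfsg.Agent.Lib_helper1_Klein

set_option autoImplicit false
set_option linter.style.haveILetI false
set_option linter.unusedVariables false
open Cfsg

namespace Cfsg.Agent.S0203

/-- If a Sylow 2-subgroup P of a finite group G is a Klein four-group, then G has three classes of involutions if and only if P has a normal complement in G. -/
theorem result {G : Type*} [Group G] [Finite G] (P : Sylow 2 G) (hP : IsKleinFour (P : Subgroup G)) : Nat.card {C : ConjClasses G // ∃ t : G, orderOf t = 2 ∧ ConjClasses.mk t = C} = 3 ↔ ∃ N : Subgroup G, N.Normal ∧ Subgroup.IsComplement' N (P : Subgroup G) := by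
  classical
  obtain ⟨a, b, ha, hb, ha1, hb1, hab, hcase⟩ := Cfsg.Agent.helper1.klein_classes P hP
  obtain ⟨-, -, -, -, -, -, -, -, hsq, comm⟩ :=
    Cfsg.Agent.helper1.klein_structure (P : Subgroup G) hP
  have hcover := Cfsg.Agent.helper1.klein_cover (P : Subgroup G) hP a b ha hb ha1 hb1 hab
  have hcP : a * b ∈ (P : Subgroup G) := Subgroup.mul_mem _ ha hb
  have hc1 : a * b ≠ 1 := by
    intro h
    have h2 := hsq a ha
    have : a * b = a * a := by rw [h, h2]
    exact hab (mul_left_cancel this).symm
  have hca : a * b ≠ a := by
    intro h
    have : a * b = a * 1 := by rw [h, mul_one]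
    exact hb1 (mul_left_cancel this)
  have hcb : a * b ≠ b := by
    intro h
    have : a * b = 1 * b := by rw [h, one_mul]
    exact ha1 (mul_right_cancel this)
  constructor
  · intro h3
    rcases hcase with h | h
    · rw [h.2.2] at h3; omega
    · obtain ⟨hab', hac', hbc', -⟩ := h
      -- the normaliser centralises P
      have hNC : Subgroup.normalizer ((P : Subgroup G) : Set G)
          ≤ Subgroup.centralizer ((P : Subgroup G) : Set G) := by
        intro n hn
        rw [Subgroup.mem_centralizer_iff]
        intro x hx
        -- n x n⁻¹ ∈ P is conjugate to x, so equals x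
        have hfix : ∀ y ∈ (P : Subgroup G), y ≠ 1 →
            (∀ w ∈ (P : Subgroup G), w ≠ 1 → w ≠ y → ¬ IsConj y w) → n * y * n⁻¹ = y := by
          intro y hy hy1 hnc
          have hmem : n * y * n⁻¹ ∈ (P : Subgroup G) :=
            (Subgroup.mem_normalizer_iff.mp hn y).mp hy
          by_contra hne
          apply hnc _ hmem _ hne
          · exact isConj_iff.mpr ⟨n, rfl⟩
          · intro h1
            apply hy1
            have e : y = n⁻¹ * (n * y * n⁻¹) * n := by group
            rw [e, h1]; group
        have hconj : n * x * n⁻¹ = x := by
          rcases hcover x hx with h | h | h | h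
          · rw [h]; group
          · rw [h]
            apply hfix a ha ha1
            intro w hw hw1 hwa
            rcases hcover w hw with h' | h' | h' | h'
            · exact absurd h' hw1
            · exact absurd h' hwa
            · rw [h']; exact hab'
            · rw [h']; exact hac'
          · rw [h]
            apply hfix b hb hb1
            intro w hw hw1 hwb
            rcases hcover w hw with h' | h' | h' | h'
            · exact absurd h' hw1
            · rw [h']; exact fun hc => hab' hc.symm
            · exact absurd h' hwb
            · rw [h']; exact hbc'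
          · rw [h]
            apply hfix (a * b) hcP hc1
            intro w hw hw1 hwc
            rcases hcover w hw with h' | h' | h' | h'
            · exact absurd h' hw1
            · rw [h']; exact fun hc => hac' hc.symm
            · rw [h']; exact fun hc => hbc' hc.symm
            · exact absurd h' hwc
        calc x * n = (n * x * n⁻¹) * n := by rw [hconj]
          _ = n * x := by group
      exact ⟨(MonoidHom.transferSylow P hNC).ker, MonoidHom.normal_ker _,
        MonoidHom.ker_transferSylow_isComplement' P hNC⟩
  · rintro ⟨N, hNn, hNP⟩
    rcases hcase with h | h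
    · exfalso
      obtain ⟨hab', -, -⟩ := h
      obtain ⟨g, hg⟩ := isConj_iff.mp hab'
      -- write g = n * x with n ∈ N, x ∈ P
      have hdisj : N ⊓ (P : Subgroup G) = ⊥ := hNP.disjoint.eq_bot
      have hsup : N ⊔ (P : Subgroup G) = ⊤ := hNP.sup_eq_top
      have hgtop : g ∈ N ⊔ (P : Subgroup G) := by rw [hsup]; exact Subgroup.mem_top g
      haveI := hNn
      obtain ⟨n, hn, x, hx, rfl⟩ := Subgroup.mem_sup_of_normal_left.mp hgtop
      have h1 : n * a * n⁻¹ = b := by
        rw [← hg]
        have : x * a * x⁻¹ = a := by rw [comm x hx a ha]; group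
        calc n * a * n⁻¹ = n * (x * a * x⁻¹) * n⁻¹ := by rw [this]
          _ = n * x * a * (n * x)⁻¹ := by group
      have h2 : b * a⁻¹ ∈ N := by
        have : b * a⁻¹ = n * (a * n⁻¹ * a⁻¹) := by rw [← h1]; group
        rw [this]
        exact N.mul_mem hn (hNn.conj_mem _ (N.inv_mem hn) a)
      have h3 : b * a⁻¹ ∈ N ⊓ (P : Subgroup G) :=
        ⟨h2, Subgroup.mul_mem _ hb (Subgroup.inv_mem _ ha)⟩
      rw [hdisj, Subgroup.mem_bot] at h3
      apply hab
      have : b = (b * a⁻¹) * a := by group
      rw [this, h3, one_mul]
    · exact h.2.2.2

end Cfsg.Agent.S0203
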