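import Cfsg.Statements.S0207
import Cfsg.Agent.Lib_helper1_Dihedral

set_option autoImplicit false
open Pointwise
open Cfsg

namespace Cfsg.Agent.S0207

open Cfsg.Agent.helper1 in
/-- If x, y are distinct involutions, every element of the subgroup they generate that lies outside the cyclic subgroup generated by xy is an involution. -/
theorem result {G : Type*} [Group G] [Finite G] (x y : G) (hx : orderOf x = 2) (hy : orderOf y = 2) (hxy : x ≠ y) (d : G) (hd : d ∈ Subgroup.closure ({x, y} : Set G)) (hd' : d ∉ Subgroup.zpowers (x * y)) : orderOf d = 2 := by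
  have hx2 := sq_eq_one_of_orderOf_eq_two hx
  have hy2 := sq_eq_one_of_orderOf_eq_two hy
  have hx1 := ne_one_of_orderOf_eq_two hx
  have hy1 := ne_one_of_orderOf_eq_two hy
  rw [← dihedralHom_range x y hx2 hy2] at hd
  obtain ⟨(i | i), rfl⟩ := hd
  · exfalso
    apply hd'
    rw [dihedralHom_r]
    exact zexp_mem_zpowers _ _
  · rw [orderOf_injective _ (dihedralHom_injective x y hx2 hy2 hx1 hy1)]
    exact DihedralGroup.orderOf_sr i

end Cfsg.Agent.S0207
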