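import Mathlib
import Cfsg.Statements.S0208

set_option autoImplicit false
open Cfsg

namespace Cfsg.Agent.S0208

theorem mul_pow_comm {G : Type*} [Group G] (x y : G) (j : ℕ) : y * (x * y) ^ j = (y * x) ^ j * y := by
  induction j with
  | zero => simp
  | succ n ih => rw [pow_succ, ← mul_assoc, ih, pow_succ]; group

/-- If x, y are involutions and xy has odd order, then some element of the subgroup generated by x and y conjugates x to y. -/
theorem result {G : Type*} [Group G] [Finite G] (x y : G) (hx : orderOf x = 2) (hy : orderOf y = 2) (hodd : Odd (orderOf (x * y))) : ∃ d ∈ Subgroup.closure ({x, y} : Set G), d * x * d⁻¹ = y := by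
  obtain ⟨k, hk⟩ := hodd
  have hx2 : x * x = 1 := by rw [← sq, ← hx, pow_orderOf_eq_one]
  have hy2 : y * y = 1 := by rw [← sq, ← hy, pow_orderOf_eq_one]
  have hxi : x⁻¹ = x := inv_eq_of_mul_eq_one_right hx2
  have hyi : y⁻¹ = y := inv_eq_of_mul_eq_one_right hy2
  have hxm : x ∈ Subgroup.closure ({x, y} : Set G) := Subgroup.subset_closure (by simp)
  have hym : y ∈ Subgroup.closure ({x, y} : Set G) := Subgroup.subset_closure (by simp)
  refine ⟨(x * y) ^ k, Subgroup.pow_mem _ (Subgroup.mul_mem _ hxm hym) k, ?_⟩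
  have hpow : (x * y) ^ (2 * k + 1) = 1 := hk ▸ pow_orderOf_eq_one _
  have h1 : (x * y) ^ k * x * (y * (x * y) ^ k) = 1 := by
    calc (x * y) ^ k * x * (y * (x * y) ^ k) = (x * y) ^ k * (x * y) * (x * y) ^ k := by group
      _ = (x * y) ^ (2 * k + 1) := by rw [← pow_succ, ← pow_add]; congr 1; ring
      _ = 1 := hpow
  have h2 : (x * y) ^ k * x = (y * (x * y) ^ k)⁻¹ := eq_inv_of_mul_eq_one_left h1
  have h3 : (y * (x * y) ^ k)⁻¹ = y * (x * y) ^ k := by
    rw [mul_inv_rev, ← inv_pow, mul_inv_rev, hxi, hyi, mul_pow_comm]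
  rw [h2, h3]; group

end Cfsg.Agent.S0208
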