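import Mathlib
import Cfsg.Statements.S0209

set_option autoImplicit false
open Cfsg

namespace Cfsg.Agent.S0209

theorem commute_of_inverts {G : Type*} [Group G] (t r : G) (k : ℕ) (h : t * r * t⁻¹ = r⁻¹)
    (hz : (r ^ k) * (r ^ k) = 1) : Commute (r ^ k) t := by
  have h1 : t * r ^ k * t⁻¹ = (r ^ k)⁻¹ := by rw [← conj_pow, h, inv_pow]
  have h2 : (r ^ k)⁻¹ = r ^ k := inv_eq_of_mul_eq_one_right hz
  rw [h2] at h1
  unfold Commute SemiconjBy
  calc r ^ k * t = (t * r ^ k * t⁻¹) * t := by rw [h1]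
    _ = t * r ^ k := by group

theorem result {G : Type*} [Group G] [Finite G] (x y : G) (hx : orderOf x = 2) (hy : orderOf y = 2) (heven : Even (orderOf (x * y))) : orderOf ((x * y) ^ (orderOf (x * y) / 2)) = 2 ∧ Commute ((x * y) ^ (orderOf (x * y) / 2)) x ∧ Commute ((x * y) ^ (orderOf (x * y) / 2)) y := by
  have hx2 : x * x = 1 := by rw [← sq, ← hx, pow_orderOf_eq_one]
  have hy2 : y * y = 1 := by rw [← sq, ← hy, pow_orderOf_eq_one]
  have hxi : x⁻¹ = x := inv_eq_of_mul_eq_one_right hx2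
  have hyi : y⁻¹ = y := inv_eq_of_mul_eq_one_right hy2
  obtain ⟨k, hk⟩ := heven
  have hpos : 0 < orderOf (x * y) := orderOf_pos _
  have hk0 : k ≠ 0 := by omega
  have hdiv : orderOf (x * y) / 2 = k := by omega
  rw [hdiv]
  have hord : orderOf ((x * y) ^ k) = 2 := by
    rw [orderOf_pow_of_dvd hk0 ⟨2, by omega⟩, hk]
    have : k + k = 2 * k := by ring
    rw [this, Nat.mul_div_cancel _ (Nat.pos_of_ne_zero hk0)]
  have hz : (x * y) ^ k * (x * y) ^ k = 1 := by rw [← sq, ← hord, pow_orderOf_eq_one]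
  refine ⟨hord, commute_of_inverts x (x * y) k ?_ hz, commute_of_inverts y (x * y) k ?_ hz⟩
  · rw [mul_inv_rev, hxi, hyi]; calc x * (x * y) * x = (x * x) * y * x := by group
      _ = y * x := by rw [hx2, one_mul]
  · rw [mul_inv_rev, hxi, hyi]; calc y * (x * y) * y = y * x * (y * y) := by group
      _ = y * x := by rw [hy2, mul_one]

end Cfsg.Agent.S0209
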