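import Mathlib
import Cfsg.Statements.S0210
import Cfsg.Agent.Lib_helper2_Dihedral

set_option autoImplicit false
open Cfsg

namespace Cfsg.Agent.S0210

open Cfsg.Agent.helper2

theorem result {G : Type*} [Group G] [Finite G] (x y : G) (hx : orderOf x = 2) (hy : orderOf y = 2) (heven : Even (orderOf (x * y))) (d : G) (hd : d ∈ Subgroup.closure ({x, y} : Set G)) : d * x * d⁻¹ ≠ y := by
  have hx2 := sq_of_order hx
  have hy2 := sq_of_order hy
  obtain ⟨i, hi⟩ := conj_x_of_mem hx2 hy2 d hd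
  intro h
  rw [hi] at h
  have h2 : (x * y) ^ (2 * i) * x = (x * y) ^ (-1 : ℤ) * x := by rw [h]; exact y_eq hx2 hy2
  have h3 : (x * y) ^ (2 * i) = (x * y) ^ (-1 : ℤ) := mul_right_cancel h2
  have h4 : (x * y) ^ (2 * i + 1) = 1 := by
    rw [zpow_add, h3, zpow_neg, zpow_one, inv_mul_cancel]
  have h5 : (orderOf (x * y) : ℤ) ∣ 2 * i + 1 := orderOf_dvd_iff_zpow_eq_one.mpr h4
  obtain ⟨k, hk⟩ := heven
  rw [hk] at h5
  obtain ⟨c, hc⟩ := h5
  push_cast at hc
  have : 2 * i + 1 = 2 * ((k : ℤ) * c) := by rw [hc]; ring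
  omega

end Cfsg.Agent.S0210
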