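import Mathlib
import Cfsg.Statements.S0211
import Cfsg.Agent.Lib_helper2_Dihedral

set_option autoImplicit false
open Cfsg

namespace Cfsg.Agent.S0211

open Cfsg.Agent.helper2

theorem result {G : Type*} [Group G] [Finite G] (x y : G) (hx : orderOf x = 2) (hy : orderOf y = 2) (heven : Even (orderOf (x * y))) : (∃ d ∈ Subgroup.closure ({x, y} : Set G), d * x * d⁻¹ = x * (x * y) ^ (orderOf (x * y) / 2)) ↔ 4 ∣ orderOf (x * y) := by
  have hx2 := sq_of_order hx
  have hy2 := sq_of_order hy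
  have hxm : x ∈ Subgroup.closure ({x, y} : Set G) := Subgroup.subset_closure (by simp)
  have hym : y ∈ Subgroup.closure ({x, y} : Set G) := Subgroup.subset_closure (by simp)
  obtain ⟨k, hk⟩ := heven
  have hpos : 0 < orderOf (x * y) := orderOf_pos _
  have hdiv : orderOf (x * y) / 2 = k := by omega
  rw [hdiv]
  have hkk : (x * y) ^ (-(k : ℤ)) = (x * y) ^ (k : ℤ) := by
    have : (x * y) ^ ((k : ℤ) + k) = 1 := by
      have := pow_orderOf_eq_one (x * y)
      rw [hk] at this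
      rw [← Nat.cast_add, zpow_natCast, this]
    rw [zpow_add] at this
    rw [zpow_neg]
    exact inv_eq_of_mul_eq_one_right this
  have hxz : x * (x * y) ^ k = (x * y) ^ (k : ℤ) * x := by
    rw [← zpow_natCast, x_mul_zpow hx2 hy2, hkk]
  rw [hxz]
  constructor
  · rintro ⟨d, hd, h⟩
    obtain ⟨i, hi⟩ := conj_x_of_mem hx2 hy2 d hd
    rw [hi] at h
    have h3 : (x * y) ^ (2 * i) = (x * y) ^ (k : ℤ) := mul_right_cancel h
    have h4 : (x * y) ^ (2 * i - k) = 1 := by
      rw [zpow_sub, h3, mul_inv_cancel]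
    have h5 : (orderOf (x * y) : ℤ) ∣ 2 * i - k := orderOf_dvd_iff_zpow_eq_one.mpr h4
    rw [hk] at h5 ⊢
    obtain ⟨c, hc⟩ := h5
    push_cast at hc
    have h6 : (2 : ℤ) ∣ (k : ℤ) := ⟨i - k * c, by linarith⟩
    have h7 : 2 ∣ k := by exact_mod_cast h6
    omega
  · rintro ⟨j, hj⟩
    refine ⟨(x * y) ^ j, Subgroup.pow_mem _ (Subgroup.mul_mem _ hxm hym) j, ?_⟩
    have hkj : k = 2 * j := by omega
    rw [mul_assoc, ← inv_pow, ← zpow_natCast, ← zpow_natCast, inv_zpow, ← zpow_neg,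
      x_mul_zpow hx2 hy2, neg_neg, ← mul_assoc, ← zpow_add, hkj]
    congr 2
    push_cast; ring

end Cfsg.Agent.S0211
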