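import Mathlib
import Cfsg.Agent.Lib_helper22_FS
import Cfsg.Statements.S4476

set_option autoImplicit false
set_option linter.unusedSectionVars false
set_option linter.unusedVariables false
open Cfsg
open scoped ComplexConjugate

namespace Cfsg.Agent.S4476

open Cfsg.Agent.helper22

theorem card_sq_eq_one {G : Type*} [Group G] [Fintype G] :
    Nat.card {s : G // s * s = 1} = Nat.card {x : G // orderOf x = 2} + 1 := by
  classical
  rw [Nat.card_eq_fintype_card, Nat.card_eq_fintype_card, Fintype.card_subtype,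
    Fintype.card_subtype]
  have h : Finset.univ.filter (fun s : G => s * s = 1) =
      insert 1 (Finset.univ.filter (fun s : G => orderOf s = 2)) := by
    ext s
    simp only [Finset.mem_filter, Finset.mem_univ, true_and, Finset.mem_insert]
    rw [orderOf_eq_prime_iff, pow_two]
    constructor
    · intro h
      by_cases h1 : s = 1
      · exact Or.inl h1
      · exact Or.inr ⟨h, h1⟩
    · rintro (rfl | ⟨h, _⟩)
      · simp
      · exact h
  rw [h, Finset.card_insert_of_notMem]
  simp [orderOf_one]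

/-- the arithmetic core of (b) -/
theorem arith_b {ι : Type*} (R : Finset ι) (d : ι → ℕ) (t g1 : ℕ) (ht1 : 1 ≤ t)
    (hdpos : ∀ i ∈ R, 0 < d i) (htD : t ≤ ∑ i ∈ R, d i) (hD2 : ∑ i ∈ R, d i ^ 2 ≤ g1)
    (hall : ∀ i ∈ R, g1 < d i * t) : False := by
  have hne : R.Nonempty := by
    by_contra h
    rw [Finset.not_nonempty_iff_eq_empty] at h
    rw [h, Finset.sum_empty] at htD
    omega
  have h1 : ∑ i ∈ R, g1 * d i < ∑ i ∈ R, t * d i ^ 2 := by
    apply Finset.sum_lt_sum_of_nonempty hne
    intro i hi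
    have := hall i hi
    have hp := hdpos i hi
    calc g1 * d i < d i * t * d i := Nat.mul_lt_mul_of_pos_right this hp
      _ = t * d i ^ 2 := by ring
  rw [← Finset.mul_sum, ← Finset.mul_sum] at h1
  have h2 : g1 * t ≤ g1 * ∑ i ∈ R, d i := Nat.mul_le_mul_left _ htD
  have h3 : t * ∑ i ∈ R, d i ^ 2 ≤ t * g1 := Nat.mul_le_mul_left _ hD2
  have h4 : g1 * t = t * g1 := mul_comm _ _
  omega

/-- the arithmetic core of (a) -/
theorem arith_a {ι κ : Type*} (R : Finset ι) (d : ι → ℕ) (S : Finset κ) (c idx : κ → ℕ)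
    (cj : κ → Prop) [DecidablePred cj] (t g g1 : ℕ) (hg : g = g1 + 1) (hg1 : 1 ≤ g1)
    (ht1 : 1 ≤ t) (htD : t ≤ ∑ i ∈ R, d i) (hD2 : ∑ i ∈ R, d i ^ 2 ≤ g1)
    (hS : S.card = g1) (hci : ∀ x ∈ S, c x * idx x = g)
    (hcount : R.card * g = ∑ x ∈ S, (if cj x then c x else 0))
    (hall : ∀ x ∈ S, g1 ^ 2 < idx x * t ^ 2) : False := by
  have hRpos : 1 ≤ R.card := by
    by_contra h
    have h0 : R = ∅ := by
      rw [← Finset.card_eq_zero]; omega
    rw [h0, Finset.sum_empty] at htD
    omega
  -- Cauchy–Schwarz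
  have hcs : t ^ 2 ≤ R.card * g1 := by
    calc t ^ 2 ≤ (∑ i ∈ R, d i) ^ 2 := Nat.pow_le_pow_left htD 2
      _ ≤ R.card * ∑ i ∈ R, d i ^ 2 := sq_sum_le_card_mul_sum_sq
      _ ≤ R.card * g1 := Nat.mul_le_mul_left _ hD2
  have hterm : ∀ x ∈ S, g1 * (if cj x then c x else 0) < R.card * g := by
    intro x hx
    have hgpos : 0 < g := by omega
    by_cases hcx : cj x
    · rw [if_pos hcx]
      have h1 := hall x hx
      have h2 : idx x * t ^ 2 ≤ idx x * (R.card * g1) := Nat.mul_le_mul_left _ hcs
      have h3 : g1 * g1 < (idx x * R.card) * g1 := by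
        calc g1 * g1 = g1 ^ 2 := (pow_two g1).symm
          _ < idx x * t ^ 2 := h1
          _ ≤ idx x * (R.card * g1) := h2
          _ = (idx x * R.card) * g1 := by ring
      have h4 : g1 < idx x * R.card := Nat.lt_of_mul_lt_mul_right h3
      have hcpos : 0 < c x := by
        rcases Nat.eq_zero_or_pos (c x) with h | h
        · have := hci x hx
          rw [h, zero_mul] at this
          omega
        · exact h
      calc g1 * c x < (idx x * R.card) * c x := Nat.mul_lt_mul_of_pos_right h4 hcpos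
        _ = R.card * (c x * idx x) := by ring
        _ = R.card * g := by rw [hci x hx]
    · rw [if_neg hcx, mul_zero]
      exact Nat.mul_pos hRpos hgpos
  have hSne : S.Nonempty := by
    rw [← Finset.card_pos]; omega
  have hlt : ∑ x ∈ S, g1 * (if cj x then c x else 0) < ∑ x ∈ S, R.card * g :=
    Finset.sum_lt_sum_of_nonempty hSne hterm
  rw [← Finset.mul_sum, ← hcount, Finset.sum_const, hS, smul_eq_mul] at hlt
  exact lt_irrefl _ hlt

theorem result {G : Type*} [Group G] [Fintype G] (heven : Even (Nat.card G)) (t : ℕ) (ht : Nat.card {x : G // orderOf x = 2} = t) : (∃ x : G, x ≠ 1 ∧ ((Subgroup.centralizer ({x} : Set G)).index : ℚ) ≤ (((Nat.card G : ℚ) - 1) / t) ^ 2) ∧ ∃ χ : Cfsg.IrrCharacter G, (χ : G → ℂ) ≠ (fun _ => 1) ∧ (∀ g : G, ((χ : G → ℂ) g).im = 0) ∧ (Cfsg.charDegree (χ : G → ℂ) : ℚ) ≤ ((Nat.card G : ℚ) - 1) / t := by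
  classical
  haveI : Fintype (IrrCharacter G) := Fintype.ofFinite _
  -- basic numbers
  have hgpos : 0 < Nat.card G := Nat.card_pos
  obtain ⟨g1, hg⟩ : ∃ g1, Nat.card G = g1 + 1 := ⟨Nat.card G - 1, by omega⟩
  have hg1 : 1 ≤ g1 := by
    obtain ⟨k, hk⟩ := heven
    omega
  have hg1Q : ((Nat.card G : ℚ) - 1) = (g1 : ℚ) := by
    rw [hg]; push_cast; ring
  have ht1 : 1 ≤ t := by
    obtain ⟨x, hx⟩ := exists_prime_orderOf_dvd_card' (G := G) 2 heven.two_dvd
    rw [← ht]
    haveI : Nonempty {x : G // orderOf x = 2} := ⟨⟨x, hx⟩⟩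
    exact Nat.card_pos
  have htQ : (0 : ℚ) < t := by exact_mod_cast ht1
  -- degrees
  set d : IrrCharacter G → ℕ := fun χ => charDegree (χ : G → ℂ) with hd
  have hdC : ∀ χ : IrrCharacter G, (d χ : ℂ) = (χ : G → ℂ) 1 := fun χ =>
    helper24.char_charDegree_cast (helper24.irr_isCharacter χ.2)
  have hdpos : ∀ χ : IrrCharacter G, 0 < d χ := fun χ => helper24.irr_charDegree_pos χ.2
  -- real characters
  set real : IrrCharacter G → Prop := fun χ => ∀ x, ((χ : G → ℂ) x).im = 0 with hreal
  set triv : IrrCharacter G := helper24.irrOne G with htriv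
  have htriv_real : real triv := fun x => by
    show ((1 : ℂ)).im = 0
    simp
  have hdtriv : d triv = 1 := by
    apply helper24.charDegree_natCast
    show (1 : ℂ) = ((1 : ℕ) : ℂ)
    simp
  set R : Finset (IrrCharacter G) :=
    Finset.univ.filter (fun χ => real χ ∧ (χ : G → ℂ) ≠ (fun _ => 1)) with hR
  have hfilter : Finset.univ.filter (fun χ => real χ) = insert triv R := by
    ext χ
    simp only [hR, Finset.mem_filter, Finset.mem_univ, true_and, Finset.mem_insert]
    constructor
    · intro h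
      by_cases h1 : (χ : G → ℂ) = (fun _ => 1)
      · left; exact Subtype.ext h1
      · right; exact ⟨h, h1⟩
    · rintro (rfl | ⟨h, _⟩)
      · exact htriv_real
      · exact h
  have htrivR : triv ∉ R := by
    simp only [hR, Finset.mem_filter, Finset.mem_univ, true_and, not_and, not_not]
    intro _
    rfl
  -- indicator integers
  set e : IrrCharacter G → ℤ :=
    fun χ => if real χ then (if fsInd (χ : G → ℂ) = 1 then 1 else -1) else 0 with he
  have heC : ∀ χ : IrrCharacter G, fsInd (χ : G → ℂ) = (e χ : ℂ) := by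
    intro χ
    simp only [he]
    by_cases h : real χ
    · rw [if_pos h]
      rcases fsInd_of_real χ.2 h with h1 | h1
      · rw [if_pos h1, h1]; simp
      · have : ¬ fsInd (χ : G → ℂ) = 1 := by rw [h1]; norm_num
        rw [if_neg this, h1]; simp
    · rw [if_neg h, fsInd_of_not_real χ.2 h]; simp
  have hele : ∀ χ : IrrCharacter G, e χ * (d χ : ℤ) ≤ if real χ then (d χ : ℤ) else 0 := by
    intro χ
    simp only [he]
    have hp : (0 : ℤ) ≤ (d χ : ℤ) := Int.natCast_nonneg _
    by_cases h : real χ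
    · rw [if_pos h, if_pos h]
      split_ifs <;> linarith
    · rw [if_neg h, if_neg h]; simp
  -- Frobenius–Schur count
  have hsumC : ∑ χ : IrrCharacter G, fsInd (χ : G → ℂ) * (χ : G → ℂ) 1 = ((t + 1 : ℕ) : ℂ) := by
    rw [sum_fsInd_mul_degree, card_sq_eq_one, ht]
  have hsumZ : ∑ χ : IrrCharacter G, e χ * (d χ : ℤ) = (t : ℤ) + 1 := by
    have h1 : ((∑ χ : IrrCharacter G, e χ * (d χ : ℤ) : ℤ) : ℂ) = (((t : ℤ) + 1 : ℤ) : ℂ) := by
      push_cast
      rw [show ((t : ℂ) + 1) = ((t + 1 : ℕ) : ℂ) by push_cast; rfl, ← hsumC]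
      refine Finset.sum_congr rfl (fun χ _ => ?_)
      rw [heC χ, ← hdC χ]
    exact_mod_cast h1
  have htD : t ≤ ∑ χ ∈ R, d χ := by
    have h1 : ∑ χ : IrrCharacter G, e χ * (d χ : ℤ) ≤
        ∑ χ : IrrCharacter G, (if real χ then (d χ : ℤ) else 0) :=
      Finset.sum_le_sum (fun χ _ => hele χ)
    rw [← Finset.sum_filter, hfilter, Finset.sum_insert htrivR, hsumZ, hdtriv] at h1
    have h2 : (t : ℤ) ≤ ∑ χ ∈ R, (d χ : ℤ) := by
      push_cast at h1; linarith
    exact_mod_cast h2
  -- sum of squares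
  have hD2 : ∑ χ ∈ R, d χ ^ 2 ≤ g1 := by
    have h1 : ∑ χ : IrrCharacter G, d χ ^ 2 = Nat.card G := helper24.sum_irr_degree_sq
    have h2 : ∑ χ ∈ insert triv R, d χ ^ 2 ≤ ∑ χ : IrrCharacter G, d χ ^ 2 :=
      Finset.sum_le_sum_of_subset (Finset.subset_univ _)
    rw [Finset.sum_insert htrivR, hdtriv, h1, hg] at h2
    omega
  constructor
  · -- (a)
    by_contra hcon
    push Not at hcon
    set S : Finset G := Finset.univ.erase 1 with hS
    have hScard : S.card = g1 := by
      rw [hS, Finset.card_erase_of_mem (Finset.mem_univ _), Finset.card_univ,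
        ← Nat.card_eq_fintype_card, hg]
      rfl
    have hcount : R.card * Nat.card G = ∑ x ∈ S, (if IsConj x x⁻¹ then
        Nat.card (Subgroup.centralizer ({x⁻¹} : Set G)) else 0) := by
      have h1 := sum_realInd (G := G)
      have h2 : ∑ χ : IrrCharacter G, realInd (χ : G → ℂ) =
          ∑ χ : IrrCharacter G, (if real χ then (1 : ℂ) else 0) := by
        refine Finset.sum_congr rfl (fun χ _ => ?_)
        by_cases h : real χ
        · rw [if_pos h, realInd_of_real χ.2 h]
        · rw [if_neg h, realInd_of_not_real χ.2 h]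
      rw [h2, Finset.sum_boole, hfilter, Finset.card_insert_of_notMem htrivR] at h1
      have hGC : (Nat.card G : ℂ) ≠ 0 := by exact_mod_cast hgpos.ne'
      have h3 : ((R.card + 1 : ℕ) : ℂ) * (Nat.card G : ℂ) = ∑ x : G, (if IsConj x x⁻¹ then
          (Nat.card (Subgroup.centralizer ({x⁻¹} : Set G)) : ℂ) else 0) := by
        rw [h1]; field_simp
      have h4 : (R.card + 1) * Nat.card G = ∑ x : G, (if IsConj x x⁻¹ then
          Nat.card (Subgroup.centralizer ({x⁻¹} : Set G)) else 0) := by
        have : (((R.card + 1) * Nat.card G : ℕ) : ℂ) = ((∑ x : G, (if IsConj x x⁻¹ then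
            Nat.card (Subgroup.centralizer ({x⁻¹} : Set G)) else 0) : ℕ) : ℂ) := by
          push_cast
          rw [← h3]
          push_cast
          rfl
        exact_mod_cast this
      rw [← Finset.add_sum_erase _ _ (Finset.mem_univ (1 : G))] at h4
      have h5 : (if IsConj (1 : G) (1 : G)⁻¹ then
          Nat.card (Subgroup.centralizer ({(1 : G)⁻¹} : Set G)) else 0) = Nat.card G := by
        rw [inv_one, if_pos (IsConj.refl 1)]
        have : Subgroup.centralizer ({1} : Set G) = ⊤ := by
          rw [eq_top_iff]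
          intro x _
          rw [Subgroup.mem_centralizer_iff]
          intro h hh
          rw [Set.mem_singleton_iff] at hh
          rw [hh, one_mul, mul_one]
        rw [this, Subgroup.card_top]
      rw [h5] at h4
      clear h5
      rw [hS]
      have h6 : (R.card + 1) * Nat.card G = R.card * Nat.card G + Nat.card G := by ring
      rw [h6] at h4
      omega
    refine arith_a R d S (fun x => Nat.card (Subgroup.centralizer ({x⁻¹} : Set G)))
      (fun x => (Subgroup.centralizer ({x⁻¹} : Set G)).index) (fun x => IsConj x x⁻¹) t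
      (Nat.card G) g1 hg hg1 ht1 htD hD2 hScard ?_ hcount ?_
    · intro x _
      exact Subgroup.card_mul_index _
    · intro x hx
      have hx1 : x⁻¹ ≠ 1 := by
        intro h
        rw [inv_eq_one] at h
        rw [hS, Finset.mem_erase] at hx
        exact hx.1 h
      have h1 := hcon x⁻¹ hx1
      rw [hg1Q, div_pow, div_lt_iff₀ (by positivity)] at h1
      exact_mod_cast h1
  · -- (b)
    by_contra hcon
    push Not at hcon
    apply arith_b R d t g1 ht1 (fun χ _ => hdpos χ) htD hD2
    intro χ hχ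
    simp only [hR, Finset.mem_filter, Finset.mem_univ, true_and] at hχ
    have h1 := hcon χ hχ.2 hχ.1
    rw [hg1Q, div_lt_iff₀ htQ] at h1
    exact_mod_cast h1

end Cfsg.Agent.S4476
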