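import Mathlib
import Cfsg.Agent.Lib_helper24_CharCount
import Cfsg.Agent.S4476
import Cfsg.Statements.S0212

set_option autoImplicit false
set_option linter.unusedSectionVars false
set_option linter.unusedVariables false
open Cfsg

namespace Cfsg.Agent.S0212

/-- the class of an involution consists of involutions: `|G| ≤ #involutions * |C(t)|` -/
theorem card_le_involutions_mul {G : Type*} [Group G] [Finite G] (t : G) (ht : orderOf t = 2) :
    Nat.card G ≤ Nat.card {x : G // orderOf x = 2} *
      Nat.card (Subgroup.centralizer ({t} : Set G)) := by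
  have h1 : Nat.card {x : G // IsConj x t} ≤ Nat.card {x : G // orderOf x = 2} := by
    apply Nat.card_le_card_of_injective
      (fun x : {x : G // IsConj x t} => (⟨x.1, by
        obtain ⟨c, hc⟩ := isConj_iff.mp x.2
        have h := (MulAut.conj c).orderOf_eq x.1
        rw [MulAut.conj_apply, hc, ht] at h
        exact h.symm⟩ : {x : G // orderOf x = 2}))
    intro a b hab
    apply Subtype.ext
    have h := congrArg (fun y : {x : G // orderOf x = 2} => y.1) hab
    exact h
  rw [helper24.card_conj_eq_index] at h1
  calc Nat.card G = Nat.card (Subgroup.centralizer ({t} : Set G)) *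
        (Subgroup.centralizer ({t} : Set G)).index := (Subgroup.card_mul_index _).symm
    _ = (Subgroup.centralizer ({t} : Set G)).index *
        Nat.card (Subgroup.centralizer ({t} : Set G)) := mul_comm _ _
    _ ≤ _ := Nat.mul_le_mul_right _ h1

/-- Brauer–Fowler: some non-identity element has a centralizer of index less than `|C(t)|²` -/
theorem exists_small_index {G : Type*} [Group G] [Finite G] (t : G) (ht : orderOf t = 2) :
    ∃ x : G, x ≠ 1 ∧ (Subgroup.centralizer ({x} : Set G)).index ≤
      (Nat.card (Subgroup.centralizer ({t} : Set G))) ^ 2 := by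
  classical
  haveI : Fintype G := Fintype.ofFinite G
  have heven : Even (Nat.card G) := by
    have h := orderOf_dvd_natCard t
    rw [ht] at h
    exact (even_iff_two_dvd).mpr h
  obtain ⟨⟨x, hx1, hx⟩, -⟩ := Cfsg.Agent.S4476.result heven _ rfl
  refine ⟨x, hx1, ?_⟩
  set tc := Nat.card {x : G // orderOf x = 2} with htc
  set n := Nat.card (Subgroup.centralizer ({t} : Set G)) with hn
  have h1 : Nat.card G ≤ tc * n := card_le_involutions_mul t ht
  have htcpos : 0 < tc := by
    haveI : Nonempty {x : G // orderOf x = 2} := ⟨⟨t, ht⟩⟩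
    exact Nat.card_pos
  have htcQ : (0 : ℚ) < tc := by exact_mod_cast htcpos
  have h2 : ((Nat.card G : ℚ) - 1) / tc ≤ n := by
    rw [div_le_iff₀ htcQ]
    have : (Nat.card G : ℚ) ≤ (tc : ℚ) * n := by exact_mod_cast h1
    linarith
  have h3 : (0 : ℚ) ≤ ((Nat.card G : ℚ) - 1) / tc := by
    apply div_nonneg _ htcQ.le
    have : (1 : ℚ) ≤ Nat.card G := by exact_mod_cast (Nat.card_pos (α := G))
    linarith
  have h4 : (((Subgroup.centralizer ({x} : Set G)).index : ℕ) : ℚ) ≤ ((n ^ 2 : ℕ) : ℚ) := by
    calc (((Subgroup.centralizer ({x} : Set G)).index : ℕ) : ℚ)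
        ≤ (((Nat.card G : ℚ) - 1) / tc) ^ 2 := hx
      _ ≤ (n : ℚ) ^ 2 := pow_le_pow_left₀ h3 h2 2
      _ = ((n ^ 2 : ℕ) : ℚ) := by push_cast; rfl
  exact_mod_cast h4

theorem result {G : Type*} [Group G] [Finite G] [IsSimpleGroup G] (t : G) (ht : orderOf t = 2) : Nat.card G ≤ Nat.factorial (2 * (Nat.card (Subgroup.centralizer ({t} : Set G))) ^ 2) := by
  classical
  obtain ⟨x, hx1, hx⟩ := exists_small_index t ht
  obtain ⟨n, hn⟩ : ∃ n, n = Nat.card (Subgroup.centralizer ({t} : Set G)) := ⟨_, rfl⟩
  rw [← hn] at hx ⊢
  by_cases hC : Subgroup.centralizer ({x} : Set G) = ⊤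
  · -- `x` is central, so `G` is commutative and `n = |G|`
    have hxc : x ∈ Subgroup.center G := by
      rw [Subgroup.mem_center_iff]
      intro g
      have hg : g ∈ Subgroup.centralizer ({x} : Set G) := by rw [hC]; trivial
      rw [Subgroup.mem_centralizer_iff] at hg
      exact (hg x rfl).symm
    have hcen : Subgroup.center G = ⊤ := by
      rcases IsSimpleGroup.eq_bot_or_eq_top_of_normal (Subgroup.center G) inferInstance with h | h
      · exfalso
        rw [h, Subgroup.mem_bot] at hxc
        exact hx1 hxc
      · exact h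
    have hCt : Subgroup.centralizer ({t} : Set G) = ⊤ := by
      rw [eq_top_iff]
      intro g _
      rw [Subgroup.mem_centralizer_iff]
      intro y hy
      rw [Set.mem_singleton_iff] at hy
      subst hy
      have hyc : y ∈ Subgroup.center G := by rw [hcen]; trivial
      exact (Subgroup.mem_center_iff.mp hyc g).symm
    have hnG : n = Nat.card G := by rw [hn, hCt, Subgroup.card_top]
    rw [← hnG]
    have h5 : n ≤ 2 * n ^ 2 := by nlinarith [Nat.zero_le n]
    exact le_trans h5 (Nat.self_le_factorial _)
  · -- `G` acts faithfully on the cosets of `C(x)`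
    set H := Subgroup.centralizer ({x} : Set G) with hH
    have hker : (MulAction.toPermHom G (G ⧸ H)).ker = ⊥ := by
      rw [← Subgroup.normalCore_eq_ker]
      rcases IsSimpleGroup.eq_bot_or_eq_top_of_normal H.normalCore inferInstance with h | h
      · exact h
      · exfalso
        apply hC
        rw [eq_top_iff, ← h]
        exact Subgroup.normalCore_le H
    have hinj : Function.Injective (MulAction.toPermHom G (G ⧸ H)) :=
      (MonoidHom.ker_eq_bot_iff _).mp hker
    have h6 : Nat.card G ≤ Nat.card (Equiv.Perm (G ⧸ H)) :=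
      Nat.card_le_card_of_injective _ hinj
    have h7 : Nat.card (Equiv.Perm (G ⧸ H)) = H.index.factorial := Nat.card_perm
    have h8 : H.index.factorial ≤ (2 * n ^ 2).factorial := by
      apply Nat.factorial_le
      have : n ^ 2 ≤ 2 * n ^ 2 := by omega
      exact le_trans hx this
    rw [h7] at h6
    exact le_trans h6 h8

end Cfsg.Agent.S0212
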