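import Mathlib
import Cfsg.Statements.S0216
import Cfsg.Agent.Lib_helper2_Sylow
import Cfsg.Agent.Lib_helper2_InvPairs
import Cfsg.Agent.S0210

set_option autoImplicit false
open Cfsg

namespace Cfsg.Agent.S0216

open Cfsg.Agent.helper2

theorem result {G : Type*} [Group G] [Finite G] (P : Sylow 2 G) (u : G) (hu : orderOf u = 2) (huP : u ∈ P) : (∀ g : G, g * u * g⁻¹ ∈ P → g * u * g⁻¹ = u) ↔ (∀ g : G, Odd (orderOf (u * g * u⁻¹ * g⁻¹))) := by
  have hui : u⁻¹ = u := inv_of_order_two hu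
  have : Fact (Nat.Prime 2) := ⟨Nat.prime_two⟩
  constructor
  · intro hiso g
    have hvo : orderOf (g * u * g⁻¹) = 2 := by rw [orderOf_conj']; exact hu
    have hcomm : u * g * u⁻¹ * g⁻¹ = u * (g * u * g⁻¹) := by rw [hui]; group
    rw [hcomm]
    by_contra hnodd
    rw [Nat.not_odd_iff_even] at hnodd
    obtain ⟨d, hd, h, h1, h2⟩ := exists_conj_both_mem_sylow P u (g * u * g⁻¹) hu hvo
    have e1 := hiso h h1
    have e2 : h * (d * (g * u * g⁻¹) * d⁻¹) * h⁻¹ = (h * d * g) * u * (h * d * g)⁻¹ := by group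
    rw [e2] at h2
    have e3 := hiso _ h2
    have e4 : u = d * (g * u * g⁻¹) * d⁻¹ := by
      have : h * u * h⁻¹ = h * (d * (g * u * g⁻¹) * d⁻¹) * h⁻¹ := by rw [e1, e2, e3]
      exact mul_left_cancel (mul_right_cancel this)
    refine Cfsg.Agent.S0210.result u (g * u * g⁻¹) hu hvo hnodd d⁻¹ (inv_mem hd) ?_
    nth_rewrite 1 [e4]
    group
  · intro hodd g hg
    have hcomm : u * g * u⁻¹ * g⁻¹ = u * (g * u * g⁻¹) := by rw [hui]; group
    have hmem : u * g * u⁻¹ * g⁻¹ ∈ (P : Subgroup G) := by rw [hcomm]; exact mul_mem huP hg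
    obtain ⟨k, hk⟩ := P.2 ⟨_, hmem⟩
    have h1 : orderOf (u * g * u⁻¹ * g⁻¹) ∣ 2 ^ k := by
      apply orderOf_dvd_of_pow_eq_one
      have := congrArg Subtype.val hk
      simpa using this
    have h2 := hodd g
    have h5 : orderOf (u * g * u⁻¹ * g⁻¹) = 1 :=
      Nat.Coprime.eq_one_of_dvd (Nat.Coprime.pow_right k (Nat.coprime_two_right.mpr h2)) h1
    rw [orderOf_eq_one_iff, hcomm] at h5
    have := eq_inv_of_mul_eq_one_right h5
    rw [this, hui]

end Cfsg.Agent.S0216
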