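import Mathlib
import Cfsg.Statements.S0218

set_option autoImplicit false
open Cfsg

namespace Cfsg.Agent.S0218

theorem key (N : ℕ) [NeZero N] (x : QuaternionGroup N) (hx : orderOf x = 2) :
    x = QuaternionGroup.a (N : ZMod (2 * N)) := by
  have hN : 0 < N := Nat.pos_of_ne_zero (NeZero.ne N)
  cases x with
  | xa i => rw [QuaternionGroup.orderOf_xa] at hx; omega
  | a i =>
    have h2 := (orderOf_eq_prime_iff (p := 2)).mp hx
    obtain ⟨h1, h3⟩ := h2
    rw [sq, QuaternionGroup.a_mul_a, QuaternionGroup.one_def] at h1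
    have h4 : i + i = 0 := by injection h1
    have h5 : i ≠ 0 := by
      intro h; apply h3; rw [h, QuaternionGroup.one_def]
    have hlt : i.val < 2 * N := ZMod.val_lt i
    have hpos : 0 < i.val := by
      rcases Nat.eq_zero_or_pos i.val with h | h
      · exact absurd ((ZMod.val_eq_zero i).mp h) h5
      · exact h
    have h6 : ((i.val + i.val : ℕ) : ZMod (2 * N)) = 0 := by
      push_cast; rw [ZMod.natCast_zmod_val]; exact h4
    rw [ZMod.natCast_eq_zero_iff] at h6
    obtain ⟨c, hc⟩ := h6
    have hc1 : c = 1 := by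
      rcases c with _ | _ | c
      · omega
      · rfl
      · exfalso
        have : 2 * N * (c + 1 + 1) ≥ 2 * N * 2 := Nat.mul_le_mul_left _ (by omega)
        omega
    subst hc1
    have h7 : i.val = N := by omega
    congr 1
    have h8 := ZMod.natCast_zmod_val i
    rw [h7] at h8
    exact h8.symm

theorem order_center (N : ℕ) [NeZero N] : orderOf (QuaternionGroup.a (N : ZMod (2 * N))) = 2 := by
  have hN : 0 < N := Nat.pos_of_ne_zero (NeZero.ne N)
  rw [orderOf_eq_prime_iff]
  constructor
  · rw [sq, QuaternionGroup.a_mul_a, QuaternionGroup.one_def]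
    congr 1
    have : ((N + N : ℕ) : ZMod (2 * N)) = 0 := by
      rw [ZMod.natCast_eq_zero_iff]; exact ⟨1, by ring⟩
    push_cast at this
    exact this
  · rw [QuaternionGroup.one_def]
    intro h
    injection h with h
    rw [ZMod.natCast_eq_zero_iff] at h
    have := Nat.le_of_dvd hN h
    omega

theorem result (n : ℕ) : Nat.card {x : QuaternionGroup (2 ^ (n + 1)) // orderOf x = 2} = 1 := by
  rw [Nat.card_eq_one_iff_unique]
  refine ⟨⟨fun x y => ?_⟩, ⟨⟨QuaternionGroup.a ((2 ^ (n + 1) : ℕ) : ZMod (2 * 2 ^ (n + 1))), order_center _⟩⟩⟩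
  apply Subtype.ext
  rw [key _ x.1 x.2, key _ y.1 y.2]

end Cfsg.Agent.S0218
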