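import Mathlib
import Cfsg.Statements.S0219

set_option autoImplicit false
open Cfsg

namespace Cfsg.Agent.S0219

theorem result {G : Type*} [Group G] [Finite G] (heven : Even (Nat.card G)) (T : Sylow 2 G) (hT : IsCyclic (T : Subgroup G)) : ∃ H : Subgroup G, H.index = 2 := by
  have : Fact (Nat.Prime 2) := ⟨Nat.prime_two⟩
  have h2dvd : 2 ∣ Nat.card G := even_iff_two_dvd.mp heven
  have hmin : (Nat.card G).minFac = 2 := (Nat.minFac_eq_two_iff _).mpr h2dvd
  have hc := IsCyclic.isComplement' hmin hT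
  set K := (MonoidHom.transferSylow T (hT.normalizer_le_centralizer hmin)).ker with hK
  have hKn : K.Normal := MonoidHom.normal_ker _
  have hidx : K.index = Nat.card T := hc.symm.index_eq_card
  obtain ⟨a, ha⟩ := T.2.exists_card_eq
  have h2T : 2 ∣ Nat.card T := T.dvd_card_of_dvd_card h2dvd
  have ha1 : 1 ≤ a := by
    rcases Nat.eq_zero_or_pos a with h | h
    · rw [ha, h, pow_zero] at h2T; omega
    · exact h
  have hcardQ : Nat.card (G ⧸ K) = 2 ^ a := by
    rw [← Subgroup.index_eq_card, hidx, ha]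
  obtain ⟨M, hM⟩ := Sylow.exists_subgroup_card_pow_prime (G := G ⧸ K) 2 (n := a - 1)
    (by rw [hcardQ]; exact pow_dvd_pow 2 (by omega))
  have hMidx : M.index = 2 := by
    have h1 := M.index_mul_card
    rw [hM, hcardQ] at h1
    have h3 : (2 : ℕ) ^ a = 2 * 2 ^ (a - 1) := by
      rw [← pow_succ']; congr 1; omega
    rw [h3] at h1
    exact Nat.eq_of_mul_eq_mul_right (by positivity) h1
  refine ⟨M.comap (QuotientGroup.mk' K), ?_⟩
  rw [Subgroup.index_comap_of_surjective M (QuotientGroup.mk'_surjective K)]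
  exact hMidx

end Cfsg.Agent.S0219
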