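import Mathlib
import Cfsg.Statements.S0220
import Cfsg.Agent.Lib_helper2_Sylow
import Cfsg.Agent.Lib_helper2_InvPairs
import Cfsg.Agent.S0219

set_option autoImplicit false
open Cfsg

namespace Cfsg.Agent.S0220

open Cfsg.Agent.helper2

theorem aux {G : Type*} [Group G] [Finite G] (x : G) (hx : orderOf x = 2) (C : Subgroup G)
    (hC : C = Subgroup.centralizer ({x} : Set G)) (S : Sylow 2 C)
    (hS : IsCyclic (S : Subgroup C)) : ∃ H : Subgroup G, H.index = 2 := by
  have : Fact (Nat.Prime 2) := ⟨Nat.prime_two⟩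
  have hmemC : ∀ g : G, g ∈ C ↔ x * g = g * x := by
    intro g; rw [hC]; exact mem_centralizer_single
  have hxC : x ∈ C := (hmemC x).mpr rfl
  have hx1 : x ≠ 1 := (order_two_iff.mp hx).2
  let x' : C := ⟨x, hxC⟩
  have hx'o : orderOf x' = 2 := by rw [Subgroup.orderOf_mk]; exact hx
  have hcentral : ∀ c : C, Commute c x' := by
    intro c
    apply Subtype.ext
    exact ((hmemC c.1).mp c.2).symm
  have hnorm : (Subgroup.zpowers x').Normal := by
    constructor
    intro n hn g
    obtain ⟨k, rfl⟩ := Subgroup.mem_zpowers_iff.mp hn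
    have hc : Commute g (x' ^ k) := (hcentral g).zpow_right k
    have : g * x' ^ k * g⁻¹ = x' ^ k := by rw [hc.eq]; group
    rw [this]; exact hn
  have hx'S : x' ∈ (S : Subgroup C) :=
    normal_pgroup_le_sylow S _ (isPGroup_zpowers_of_orderOf hx'o) (Subgroup.mem_zpowers x')
  set S' : Subgroup G := (S : Subgroup C).map C.subtype with hS'
  have hxS' : x ∈ S' := ⟨x', hx'S, rfl⟩
  have hS'p : IsPGroup 2 S' := S.2.map _
  have hS'cyc : IsCyclic S' := by
    have e := (S : Subgroup C).equivMapOfInjective C.subtype Subtype.coe_injective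
    have : IsCyclic (S : Subgroup C) := hS
    exact isCyclic_of_surjective e e.surjective
  obtain ⟨T, hT⟩ := hS'p.exists_le_sylow
  have hmax : ∀ R : Subgroup G, IsPGroup 2 R → S' ≤ R → R ≤ C → R = S' := by
    intro R hR hSR hRC
    have h1 : IsPGroup 2 (R.subgroupOf C) := hR.comap_subtype
    have h2 : (S : Subgroup C) ≤ R.subgroupOf C := by
      intro c hc
      rw [Subgroup.mem_subgroupOf]
      exact hSR ⟨c, hc, rfl⟩
    have h3 := S.3 h1 h2
    rw [hS', ← h3, Subgroup.map_subgroupOf_eq_of_le hRC]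
  have hxT : x ∈ T := hT hxS'
  have hTnontriv : Nontrivial T := by
    refine ⟨⟨⟨x, hxT⟩, 1, ?_⟩⟩
    intro h
    exact hx1 (congrArg Subtype.val h)
  have hcn : Nontrivial (Subgroup.center T) := T.2.center_nontrivial
  have hcp : IsPGroup 2 (Subgroup.center T) := T.2.to_subgroup _
  obtain ⟨k, hk⟩ := hcp.exists_card_eq
  have hk1 : k ≠ 0 := by
    intro h
    rw [h, pow_zero] at hk
    have := Finite.one_lt_card_iff_nontrivial.mpr hcn
    omega
  have h2dvd : 2 ∣ Nat.card (Subgroup.center T) := hk ▸ dvd_pow_self 2 hk1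
  obtain ⟨z, hz⟩ := exists_prime_orderOf_dvd_card' 2 h2dvd
  have hzo : orderOf ((z : T) : G) = 2 := by
    rw [Subgroup.orderOf_coe, Subgroup.orderOf_coe]; exact hz
  have hzT : ((z : T) : G) ∈ T := (z : T).2
  have hzcomm : ∀ t : G, t ∈ T → t * ((z : T) : G) = ((z : T) : G) * t := by
    intro t ht
    have := Subgroup.mem_center_iff.mp z.2 ⟨t, ht⟩
    exact congrArg Subtype.val this
  have hzC : ((z : T) : G) ∈ C := (hmemC _).mpr (hzcomm x hxT)
  have hR := hmax ((T : Subgroup G) ⊓ C) (T.2.to_le inf_le_left) (le_inf hT (by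
    rintro _ ⟨c, -, rfl⟩; exact c.2)) inf_le_right
  have hzS' : ((z : T) : G) ∈ S' := by rw [← hR]; exact ⟨hzT, hzC⟩
  have hzx : ((z : T) : G) = x :=
    cyclic_subgroup_unique_involution S' hS'cyc _ _ hzS' hxS' hzo hx
  have hTC : (T : Subgroup G) ≤ C := by
    intro t ht
    rw [hmemC, ← hzx]
    exact (hzcomm t ht).symm
  have hTS' := hmax T T.2 hT hTC
  have hTcyc : IsCyclic (T : Subgroup G) := by rw [hTS']; exact hS'cyc
  have heven : Even (Nat.card G) := by
    rw [even_iff_two_dvd, ← hx]; exact orderOf_dvd_natCard x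
  exact Cfsg.Agent.S0219.result heven T hTcyc

theorem result {G : Type*} [Group G] [Finite G] (x : G) (hx : orderOf x = 2) (S : Sylow 2 ↥(Subgroup.centralizer ({x} : Set G))) (hS : IsCyclic (S : Subgroup ↥(Subgroup.centralizer ({x} : Set G)))) : ∃ H : Subgroup G, H.index = 2 :=
  aux x hx _ rfl S hS

end Cfsg.Agent.S0220
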