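import Mathlib
import Cfsg.Statements.S0221
import Cfsg.Agent.H16Thompson
import Cfsg.Agent.Lib_helper7_NormalE2
import Cfsg.Agent.Lib_helper7_RankConn
import Cfsg.Agent.Lib_helper7_ExtLayer2
import Cfsg.Agent.Lib_helper7_Fitting

set_option autoImplicit false
open Cfsg

namespace Cfsg.Agent.helper7

/-- an elementary abelian 2-group of order more than 4 has a subgroup of order 8 -/
theorem exists_card_eight {Γ : Type*} [Group Γ] [Finite Γ] (X : Subgroup Γ)
    (hX : Cfsg.IsElementaryAbelian 2 X) (hc : 4 < Nat.card ↥X) :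
    ∃ E : Subgroup Γ, E ≤ X ∧ Nat.card ↥E = 8 := by
  haveI : Fact (Nat.Prime 2) := ⟨Nat.prime_two⟩
  obtain ⟨k, hk⟩ := (isPGroup_of_elemAb hX).exists_card_eq
  have hk3 : 3 ≤ k := by
    by_contra h
    push Not at h
    have : 2 ^ k ≤ 2 ^ 2 := Nat.pow_le_pow_right (by norm_num) (by omega)
    omega
  have hdvd : 2 ^ 3 ∣ Nat.card ↥X := by rw [hk]; exact pow_dvd_pow 2 hk3
  obtain ⟨K, hK⟩ := Sylow.exists_subgroup_card_pow_prime 2 hdvd
  refine ⟨K.map X.subtype, ?_, ?_⟩
  · rintro _ ⟨a, _, rfl⟩; exact a.2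
  · rw [card_map_subtype, hK]; norm_num

end Cfsg.Agent.helper7

namespace Cfsg.Agent.S0221

open Cfsg.Agent.helper7 in
/-- Let G be a finite group with no subgroup of index 2 whose 2-rank is at least 3 (it contains an elementary abelian subgroup of order 8). Then the centralizer of every involution of G also contains an elementary abelian subgroup of order 8. -/
theorem result {G : Type*} [Group G] [Finite G] (hno : ∀ H : Subgroup G, H.index ≠ 2) (hrank : ∃ E : Subgroup G, Nat.card E = 8 ∧ ∀ e ∈ E, e ^ 2 = 1) (x : G) (hx : orderOf x = 2) : ∃ E : Subgroup G, E ≤ Subgroup.centralizer ({x} : Set G) ∧ Nat.card E = 8 ∧ ∀ e ∈ E, e ^ 2 = 1 := by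
  classical
  haveI : Fact (Nat.Prime 2) := ⟨Nat.prime_two⟩
  obtain ⟨E, hEc, hEexp⟩ := hrank
  have hE2 : IsPGroup 2 ↥E := by
    intro e
    refine ⟨1, ?_⟩
    apply Subtype.ext
    rw [pow_one]
    exact hEexp e e.2
  have hEab : Cfsg.IsElementaryAbelian 2 E := by
    refine ⟨⟨⟨?_⟩⟩, hEexp⟩
    rintro ⟨a, ha⟩ ⟨b, hb⟩
    apply Subtype.ext
    show a * b = b * a
    have h1 := hEexp a ha
    have h2 := hEexp b hb
    have h3 := hEexp (a * b) (E.mul_mem ha hb)
    rw [pow_two] at h1 h2 h3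
    have ha' : a⁻¹ = a := inv_eq_of_mul_eq_one_left h1
    have hb' : b⁻¹ = b := inv_eq_of_mul_eq_one_left h2
    have hab' : (a * b)⁻¹ = a * b := inv_eq_of_mul_eq_one_left h3
    calc a * b = (a * b)⁻¹ := hab'.symm
      _ = b⁻¹ * a⁻¹ := mul_inv_rev a b
      _ = b * a := by rw [ha', hb']
  obtain ⟨S, hES⟩ := hE2.exists_le_sylow
  have hP : IsPGroup 2 ↥(S : Subgroup G) := S.isPGroup'
  have hrk : ¬ Cfsg.PRankLE 2 2 ↥(S : Subgroup G) :=
    not_pRankLE_subgroup_of (S : Subgroup G) E hEab hES (by rw [hEc]; norm_num)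
  obtain ⟨E', hE', hE'c⟩ := exists_of_not_pRankLE hrk
  have hE'3 := cube_le_card_of_sq_lt hE' hE'c
  obtain ⟨U, hUn, hU, hUc⟩ := exists_normal_elemAb_sq hP E' hE' hE'3
  haveI := hUn
  have hidx := index_centralizer_dvd_of_card_dvd_sq hP U (by rw [hUc])
  have hTrk := not_pRankLE_centralizer_normal hP hrk U hU hUc
  obtain ⟨B, hB, hBT, hBc⟩ :=
    exists_of_not_pRankLE_subgroup (Subgroup.centralizer (U : Set ↥(S : Subgroup G))) hTrk
  have hx2 : x * x = 1 := by
    have := pow_orderOf_eq_one x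
    rwa [hx, pow_two] at this
  -- conjugate x into T = C_S(U)
  have hconj : ∃ g : G, ∃ h : g⁻¹ * x * g ∈ (S : Subgroup G),
      (⟨g⁻¹ * x * g, h⟩ : ↥(S : Subgroup G)) ∈ Subgroup.centralizer (U : Set ↥(S : Subgroup G)) := by
    rcases (Nat.dvd_prime Nat.prime_two).mp hidx with h1 | h2
    · have hT : Subgroup.centralizer (U : Set ↥(S : Subgroup G)) = ⊤ := Subgroup.index_eq_one.mp h1
      obtain ⟨w, hw⟩ := exists_conj_mem_sylow S x (k := 1) (by rw [pow_one, pow_two]; exact hx2)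
      refine ⟨w, hw, ?_⟩
      rw [hT]
      exact Subgroup.mem_top _
    · have hM : ((Subgroup.centralizer (U : Set ↥(S : Subgroup G))).map
          (S : Subgroup G).subtype).relIndex (S : Subgroup G) = 2 := by
        rw [Subgroup.relIndex, Subgroup.subgroupOf,
          Subgroup.comap_map_eq_self_of_injective (Subgroup.subtype_injective _)]
        exact h2
      have hR : IsPGroup 2 ↥(Subgroup.zpowers x) := by
        rintro ⟨g, n, rfl⟩
        refine ⟨1, Subtype.ext ?_⟩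
        show (x ^ n) ^ 2 ^ 1 = 1
        rw [pow_one, ← zpow_natCast, ← zpow_mul, mul_comm, zpow_mul, zpow_natCast, pow_two, hx2,
          one_zpow]
      obtain ⟨g, _, hg⟩ := Cfsg.Agent.H16Thompson.thompson_extremal hno S _ hM x hx2
        (Subgroup.zpowers x) hR (Subgroup.mem_zpowers x) (by
          intro r hr
          obtain ⟨n, rfl⟩ := Subgroup.mem_zpowers_iff.mp hr
          exact (Commute.zpow_left (Commute.refl x) n).eq)
      obtain ⟨y, hy, hyeq⟩ := hg
      refine ⟨g, ?_, ?_⟩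
      · rw [← hyeq]; exact y.2
      · have : (⟨g⁻¹ * x * g, by rw [← hyeq]; exact y.2⟩ : ↥(S : Subgroup G)) = y :=
          Subtype.ext hyeq.symm
        rw [this]
        exact hy
  obtain ⟨g, hgS, hgT⟩ := hconj
  -- an elementary abelian subgroup X of S of order > 4 centralizing y = g⁻¹ x g
  have hX : ∃ X : Subgroup ↥(S : Subgroup G), Cfsg.IsElementaryAbelian 2 X ∧ 4 < Nat.card ↥X ∧
      ∀ e ∈ X, (e : G) * (g⁻¹ * x * g) = (g⁻¹ * x * g) * (e : G) := by
    by_cases hyU : (⟨g⁻¹ * x * g, hgS⟩ : ↥(S : Subgroup G)) ∈ U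
    · refine ⟨B, hB, by simpa using hBc, ?_⟩
      intro e he
      have h1 := Subgroup.mem_centralizer_iff.mp (hBT he) _ hyU
      have h2 := congrArg (fun z : ↥(S : Subgroup G) => (z : G)) h1
      simpa using h2.symm
    · have hy2 : (⟨g⁻¹ * x * g, hgS⟩ : ↥(S : Subgroup G)) ^ 2 = 1 := by
        apply Subtype.ext
        show (g⁻¹ * x * g) ^ 2 = 1
        rw [pow_two]
        calc g⁻¹ * x * g * (g⁻¹ * x * g) = g⁻¹ * (x * x) * g := by group
          _ = 1 := by rw [hx2]; group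
      have hZ := helper3.ea_zpowers (p := 2) (⟨g⁻¹ * x * g, hgS⟩ : ↥(S : Subgroup G)) hy2
      have hUZ : ∀ a ∈ U, ∀ b ∈ Subgroup.zpowers (⟨g⁻¹ * x * g, hgS⟩ : ↥(S : Subgroup G)),
          a * b = b * a := by
        intro a ha b hb
        have hle : Subgroup.zpowers (⟨g⁻¹ * x * g, hgS⟩ : ↥(S : Subgroup G)) ≤
            Subgroup.centralizer (U : Set ↥(S : Subgroup G)) := by
          rw [Subgroup.zpowers_le]; exact hgT
        exact Subgroup.mem_centralizer_iff.mp (hle hb) a ha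
      have hsup := helper3.ea_sup hU hZ hUZ
      refine ⟨U ⊔ Subgroup.zpowers (⟨g⁻¹ * x * g, hgS⟩ : ↥(S : Subgroup G)), hsup, ?_, ?_⟩
      · have hne : U ≠ U ⊔ Subgroup.zpowers (⟨g⁻¹ * x * g, hgS⟩ : ↥(S : Subgroup G)) := by
          intro h
          apply hyU
          rw [h]
          exact (le_sup_right : Subgroup.zpowers _ ≤ _) (Subgroup.mem_zpowers _)
        have := card_lt_of_lt (le_sup_left : U ≤ U ⊔ Subgroup.zpowers
          (⟨g⁻¹ * x * g, hgS⟩ : ↥(S : Subgroup G))) hne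
        rw [hUc] at this
        simpa using this
      · intro e he
        have hmem : (⟨g⁻¹ * x * g, hgS⟩ : ↥(S : Subgroup G)) ∈
            U ⊔ Subgroup.zpowers (⟨g⁻¹ * x * g, hgS⟩ : ↥(S : Subgroup G)) :=
          (le_sup_right : Subgroup.zpowers _ ≤ _) (Subgroup.mem_zpowers _)
        have h1 := helper3.ea_comm hsup he hmem
        have h2 := congrArg (fun z : ↥(S : Subgroup G) => (z : G)) h1
        simpa using h2
  obtain ⟨X, hXea, hXc, hXy⟩ := hX
  obtain ⟨E₀, hE₀X, hE₀c⟩ := exists_card_eight X hXea hXc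
  refine ⟨(E₀.map (S : Subgroup G).subtype).map (MulAut.conj g).toMonoidHom, ?_, ?_, ?_⟩
  · rintro _ ⟨_, ⟨e, he, rfl⟩, rfl⟩
    rw [Subgroup.mem_centralizer_singleton_iff]
    have h1 := hXy e (hE₀X he)
    show g * (e : G) * g⁻¹ * x = x * (g * (e : G) * g⁻¹)
    calc g * (e : G) * g⁻¹ * x = g * ((e : G) * (g⁻¹ * x * g)) * g⁻¹ := by group
      _ = g * ((g⁻¹ * x * g) * (e : G)) * g⁻¹ := by rw [h1]
      _ = x * (g * (e : G) * g⁻¹) := by group
  · rw [Subgroup.card_map_of_injective (MulAut.conj g).injective, card_map_subtype, hE₀c]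
  · rintro _ ⟨_, ⟨e, he, rfl⟩, rfl⟩
    have h1 := helper3.ea_pow hXea (hE₀X he)
    have h2 := congrArg (fun z : ↥(S : Subgroup G) => (z : G)) h1
    show (g * (e : G) * g⁻¹) ^ 2 = 1
    rw [conj_pow]
    have h3 : (e : G) ^ 2 = 1 := by simpa using h2
    rw [h3]; group

end Cfsg.Agent.S0221
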