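import Mathlib
import Cfsg.Statements.S0223
import Cfsg.Agent.Lib_helper2_SE
import Cfsg.Agent.Lib_helper2_InvPairs

set_option autoImplicit false
open Cfsg

namespace Cfsg.Agent.S0223

open Cfsg.Agent.helper2

theorem result {G : Type*} [Group G] [Finite G] (H : Subgroup G) (hH : H ≠ ⊤) (heven : Even (Nat.card H)) : Cfsg.IsStronglyEmbedded H ↔ ((∀ t ∈ H, orderOf t = 2 → Subgroup.centralizer ({t} : Set G) ≤ H) ∧ (∀ t ∈ H, ∀ s ∈ H, orderOf t = 2 → orderOf s = 2 → IsConj t s → ∃ h ∈ H, h * t * h⁻¹ = s)) := by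
  rw [se_iff]
  constructor
  · rintro ⟨-, -, hse⟩
    constructor
    · intro t ht h2 c hc
      by_contra hcH
      apply hse c hcH t ht h2
      have := mem_centralizer_single.mp hc
      have h3 : c⁻¹ * t * c = t := by
        rw [mul_assoc, this]; group
      rw [h3]; exact ht
    · intro t ht s hs h2 _ hconj
      obtain ⟨g, hg⟩ := isConj_iff.mp hconj
      by_cases hgH : g ∈ H
      · exact ⟨g, hgH, hg⟩
      · exfalso
        have hgi : g⁻¹ ∉ H := fun h => hgH (by simpa using H.inv_mem h)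
        apply hse g⁻¹ hgi t ht h2
        rw [inv_inv, hg]; exact hs
  · rintro ⟨h1, h2⟩
    refine ⟨hH, heven, ?_⟩
    intro g hg t ht ht2 hs
    have hs2 : orderOf (g⁻¹ * t * g) = 2 := by
      have := orderOf_conj' g⁻¹ t
      rw [inv_inv] at this
      rw [this]; exact ht2
    have hconj : IsConj t (g⁻¹ * t * g) := isConj_iff.mpr ⟨g⁻¹, by rw [inv_inv]⟩
    obtain ⟨h, hhH, hh⟩ := h2 t ht _ hs ht2 hs2 hconj
    have hc : g * h ∈ Subgroup.centralizer ({t} : Set G) := by
      rw [mem_centralizer_single]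
      have h3 : g * (h * t * h⁻¹) * g⁻¹ = t := by rw [hh]; group
      calc t * (g * h) = (g * (h * t * h⁻¹) * g⁻¹) * (g * h) := by rw [h3]
        _ = g * h * t := by group
    have hgh := h1 t ht ht2 hc
    apply hg
    have : g = (g * h) * h⁻¹ := by group
    rw [this]
    exact H.mul_mem hgh (H.inv_mem hhH)

end Cfsg.Agent.S0223
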