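import Mathlib
import Cfsg.Statements.S0224
import Cfsg.Agent.Lib_helper2_SE
import Cfsg.Agent.Lib_helper2_InvPairs

set_option autoImplicit false
open Cfsg

namespace Cfsg.Agent.S0224

open Cfsg.Agent.helper2

theorem fixed_iff {G : Type*} [Group G] (H : Subgroup G) (t g : G) :
    t • (QuotientGroup.mk g : G ⧸ H) = (QuotientGroup.mk g : G ⧸ H) ↔ g⁻¹ * t * g ∈ H := by
  rw [MulAction.Quotient.smul_mk, eq_comm, QuotientGroup.eq]
  simp only [smul_eq_mul, mul_assoc]

theorem card_fixed_eq_one_iff {G : Type*} [Group G] (H : Subgroup G) (t : G) (ht : t ∈ H) :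
    Nat.card {c : G ⧸ H // t • c = c} = 1 ↔ ∀ g : G, g⁻¹ * t * g ∈ H → g ∈ H := by
  rw [Nat.card_eq_one_iff_unique]
  constructor
  · rintro ⟨hsub, -⟩ g hg
    have h1 : t • (QuotientGroup.mk g : G ⧸ H) = (QuotientGroup.mk g : G ⧸ H) :=
      (fixed_iff H t g).mpr hg
    have h2 : t • (QuotientGroup.mk 1 : G ⧸ H) = (QuotientGroup.mk 1 : G ⧸ H) :=
      (fixed_iff H t 1).mpr (by simpa using ht)
    have h3 := hsub.elim ⟨_, h1⟩ ⟨_, h2⟩
    have h4 : (QuotientGroup.mk g : G ⧸ H) = QuotientGroup.mk 1 := congrArg Subtype.val h3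
    rw [QuotientGroup.eq] at h4
    simpa using H.inv_mem h4
  · intro h
    refine ⟨⟨?_⟩, ⟨⟨QuotientGroup.mk 1, (fixed_iff H t 1).mpr (by simpa using ht)⟩⟩⟩
    rintro ⟨a, ha⟩ ⟨b, hb⟩
    apply Subtype.ext
    induction a using QuotientGroup.induction_on with
    | H a =>
    induction b using QuotientGroup.induction_on with
    | H b =>
    have haH := h a ((fixed_iff H t a).mp ha)
    have hbH := h b ((fixed_iff H t b).mp hb)
    show (QuotientGroup.mk a : G ⧸ H) = QuotientGroup.mk b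
    rw [QuotientGroup.eq]
    exact H.mul_mem (H.inv_mem haH) hbH

theorem result {G : Type*} [Group G] [Finite G] (H : Subgroup G) (hH : H ≠ ⊤) (heven : Even (Nat.card H)) : Cfsg.IsStronglyEmbedded H ↔ ∀ t ∈ H, orderOf t = 2 → Nat.card {c : G ⧸ H // t • c = c} = 1 := by
  rw [se_iff]
  constructor
  · rintro ⟨-, -, hse⟩ t ht h2
    rw [card_fixed_eq_one_iff H t ht]
    intro g hg
    by_contra hgH
    exact hse g hgH t ht h2 hg
  · intro h
    refine ⟨hH, heven, ?_⟩
    intro g hg t ht h2 hc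
    exact hg ((card_fixed_eq_one_iff H t ht).mp (h t ht h2) g hc)

end Cfsg.Agent.S0224
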