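import Cfsg.Statements.S0225
import Cfsg.Agent.Lib_helper18_TwoRankOne

set_option autoImplicit false
open Cfsg

namespace Cfsg.Agent.S0225

/-- If a finite group G has even order but contains no Klein four-subgroup (2-rank 1), then some involution z of G is central modulo a normal subgroup of odd order: there is a normal subgroup N of odd order containing every commutator z g z⁻¹ g⁻¹. -/
theorem result {G : Type*} [Group G] [Finite G] (heven : Even (Nat.card G)) (hrank : ∀ E : Subgroup G, ¬ IsKleinFour E) : ∃ z : G, orderOf z = 2 ∧ ∃ N : Subgroup G, N.Normal ∧ Odd (Nat.card N) ∧ ∀ g : G, z * g * z⁻¹ * g⁻¹ ∈ N := by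
  classical
  haveI : Fact (Nat.Prime 2) := ⟨Nat.prime_two⟩
  obtain ⟨⟨N, hNn, hNodd⟩, hNmax⟩ : ∃ N : {N : Subgroup G // N.Normal ∧ Odd (Nat.card N)},
      ∀ M : {N : Subgroup G // N.Normal ∧ Odd (Nat.card N)}, Nat.card M.1 ≤ Nat.card N.1 := by
    haveI : Nonempty {N : Subgroup G // N.Normal ∧ Odd (Nat.card N)} :=
      ⟨⟨⊥, inferInstance, by simp⟩⟩
    exact Finite.exists_max
      (fun M : {N : Subgroup G // N.Normal ∧ Odd (Nat.card N)} => Nat.card M.1)
  haveI := hNn
  have hcardG : Nat.card G = Nat.card (G ⧸ N) * Nat.card N :=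
    Subgroup.card_eq_card_quotient_mul_card_subgroup N
  have hevenQ : Even (Nat.card (G ⧸ N)) := by
    rw [hcardG] at heven
    rcases Nat.even_mul.mp heven with h | h
    · exact h
    · exact absurd h (Nat.not_even_iff_odd.mpr hNodd)
  have hOQ : ∀ M : Subgroup (G ⧸ N), M.Normal → Odd (Nat.card M) → M = ⊥ := by
    intro M hMn hModd
    set M' := M.comap (QuotientGroup.mk' N) with hM'
    have hM'n : M'.Normal := hMn.comap _
    have hidx : M'.index = M.index :=
      Subgroup.index_comap_of_surjective M (QuotientGroup.mk'_surjective N)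
    have h1 : M'.index * Nat.card M' = Nat.card G := M'.index_mul_card
    have h2 : M.index * Nat.card M = Nat.card (G ⧸ N) := M.index_mul_card
    have hcardM' : Nat.card M' = Nat.card M * Nat.card N := by
      have hpos : 0 < M.index := Nat.pos_of_ne_zero (Subgroup.index_ne_zero_of_finite)
      apply Nat.eq_of_mul_eq_mul_left hpos
      rw [← hidx, h1, hidx, ← mul_assoc, h2, hcardG]
    have hodd' : Odd (Nat.card M') := by rw [hcardM']; exact hModd.mul hNodd
    have hle := hNmax ⟨M', hM'n, hodd'⟩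
    simp only at hle
    rw [hcardM'] at hle
    have hNpos : 0 < Nat.card N := Nat.card_pos
    have : Nat.card M ≤ 1 := by
      by_contra hcon
      push Not at hcon
      have : 2 * Nat.card N ≤ Nat.card M * Nat.card N := Nat.mul_le_mul_right _ hcon
      omega
    exact Subgroup.eq_bot_of_card_le M this
  let S : Sylow 2 G := default
  have hS := Cfsg.Agent.helper18.TwoRankOne.sylow_structure heven hrank S
  let f := QuotientGroup.mk' N
  have hf : Function.Surjective f := QuotientGroup.mk'_surjective N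
  let Sb : Sylow 2 (G ⧸ N) := S.mapSurjective hf
  have hSb : (Sb : Subgroup (G ⧸ N)) = (S : Subgroup G).map f := Sylow.coe_mapSurjective hf S
  have hinj : Function.Injective (f.comp (S : Subgroup G).subtype) := by
    rw [injective_iff_map_eq_one]
    intro s hs
    have hsN : (s : G) ∈ N := by
      rw [← QuotientGroup.eq_one_iff]; exact hs
    have hdisj : (S : Subgroup G) ⊓ N = ⊥ := by
      apply Disjoint.eq_bot
      apply Subgroup.disjoint_of_coprime_natCard
      obtain ⟨k, hk⟩ := S.2.exists_card_eq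
      rw [hk]
      exact (Nat.Coprime.pow_left k (Nat.coprime_two_left.mpr hNodd))
    have : (s : G) ∈ (S : Subgroup G) ⊓ N := Subgroup.mem_inf.mpr ⟨s.2, hsN⟩
    rw [hdisj, Subgroup.mem_bot] at this
    exact Subtype.ext this
  have hrange : (f.comp (S : Subgroup G).subtype).range = (Sb : Subgroup (G ⧸ N)) := by
    rw [hSb, MonoidHom.range_comp, Subgroup.range_subtype]
  let e : ↥(S : Subgroup G) ≃* ↥(Sb : Subgroup (G ⧸ N)) :=
    (MonoidHom.ofInjective hinj).trans (MulEquiv.subgroupCongr hrange)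
  have hSb' : IsCyclic ↥(Sb : Subgroup (G ⧸ N)) ∨
      ∃ m : ℕ, Nonempty (↥(Sb : Subgroup (G ⧸ N)) ≃* QuaternionGroup (2 ^ (m + 1))) := by
    rcases hS with h | ⟨m, ⟨e'⟩⟩
    · left
      haveI := h
      exact isCyclic_of_surjective e e.surjective
    · right
      exact ⟨m, ⟨e.symm.trans e'⟩⟩
  obtain ⟨zb, hzb, hzbc⟩ :=
    Cfsg.Agent.helper18.TwoRankOne.central_involution hevenQ Sb hSb' hOQ
  obtain ⟨a₀, ha₀⟩ := hf zb
  have hNodd' := hNodd
  obtain ⟨k, hk⟩ := hNodd'
  set z := a₀ ^ Nat.card N with hz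
  have hzb2 : zb ^ 2 = 1 := by rw [← hzb, pow_orderOf_eq_one]
  have hfz : f z = zb := by
    rw [hz, map_pow, ha₀, hk, pow_succ, pow_mul, hzb2, one_pow, one_mul]
  have hz2 : z ^ 2 = 1 := by
    have h1 : a₀ ^ 2 ∈ N := by
      rw [← QuotientGroup.eq_one_iff]
      change f (a₀ ^ 2) = 1
      rw [map_pow, ha₀, hzb2]
    rw [hz, ← pow_mul, mul_comm, pow_mul]
    have := pow_card_eq_one' (x := (⟨a₀ ^ 2, h1⟩ : N))
    exact congrArg Subtype.val this
  have hz1 : z ≠ 1 := by
    intro e1
    have : zb = 1 := by rw [← hfz, e1, map_one]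
    rw [this, orderOf_one] at hzb
    omega
  refine ⟨z, orderOf_eq_prime hz2 hz1, N, hNn, hNodd, ?_⟩
  intro g
  rw [← QuotientGroup.eq_one_iff]
  change f (z * g * z⁻¹ * g⁻¹) = 1
  rw [map_mul, map_mul, map_mul, map_inv, map_inv, hfz]
  have := Subgroup.mem_center_iff.mp hzbc (f g)
  rw [← this, mul_inv_cancel_right, mul_inv_cancel]

end Cfsg.Agent.S0225
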