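import Mathlib
import Cfsg.Statements.S0226

set_option autoImplicit false
open Cfsg

namespace Cfsg.Agent.S0226

theorem inv_eq_self_iff {G : Type*} [Group G] (g : G) : g⁻¹ = g ↔ g = 1 ∨ orderOf g = 2 := by
  rw [orderOf_eq_prime_iff, sq]
  constructor
  · intro h
    by_cases h1 : g = 1
    · exact Or.inl h1
    · refine Or.inr ⟨?_, h1⟩
      calc g * g = g⁻¹ * g := by rw [h]
        _ = 1 := inv_mul_cancel g
  · rintro (h | ⟨h, -⟩)
    · rw [h, inv_one]
    · exact inv_eq_of_mul_eq_one_right h

theorem result {G : Type*} [Group G] [Finite G] (heven : Even (Nat.card G)) : Odd (Nat.card {t : G // orderOf t = 2}) := by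
  classical
  have := Fintype.ofFinite G
  let σ : Equiv.Perm G := Equiv.inv G
  have hσ : σ ^ 2 ^ 1 = 1 := by ext g; simp [σ, sq]
  haveI : Fact (Nat.Prime 2) := ⟨Nat.prime_two⟩
  have h := Equiv.Perm.card_compl_support_modEq (p := 2) hσ
  have hset : (σ.support)ᶜ = insert 1 (Finset.univ.filter (fun t : G => orderOf t = 2)) := by
    ext g
    simp only [Finset.mem_compl, Equiv.Perm.mem_support, not_not, Finset.mem_insert,
      Finset.mem_filter, Finset.mem_univ, true_and]
    exact inv_eq_self_iff g
  rw [hset, Finset.card_insert_of_notMem (by simp)] at h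
  rw [Nat.card_eq_fintype_card, Fintype.card_subtype]
  rw [Nat.card_eq_fintype_card] at heven
  have h2 : (Fintype.card G) % 2 = 0 := Nat.even_iff.mp heven
  rw [Nat.odd_iff]
  unfold Nat.ModEq at h
  omega

end Cfsg.Agent.S0226
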