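import Mathlib
import Cfsg.Statements.S0228
import Cfsg.Agent.Lib_helper2_PermIso

set_option autoImplicit false
open Cfsg

namespace Cfsg.Agent.S0228

/-- A group of order 12 in which no involution is central is isomorphic to the alternating group on four letters. -/
theorem result {G : Type*} [Group G] [Finite G] (hG : Nat.card G = 12) (hz : ∀ z : G, orderOf z = 2 → z ∉ Subgroup.center G) : Nonempty (G ≃* alternatingGroup (Fin 4)) := by
  classical
  haveI : Fact (Nat.Prime 3) := ⟨Nat.prime_three⟩
  haveI : Fact (Nat.Prime 2) := ⟨Nat.prime_two⟩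
  obtain ⟨P⟩ : Nonempty (Sylow 3 G) := inferInstance
  have hPcard : Nat.card P = 3 := by
    rw [P.card_eq_multiplicity, hG]
    have : (12 : ℕ).factorization 3 = 1 := by
      have e : (12 : ℕ) = 3 ^ 1 * 4 := by norm_num
      rw [e, Nat.factorization_mul (by norm_num) (by norm_num),
        Nat.Prime.factorization_pow Nat.prime_three]
      simp [Nat.factorization_eq_zero_of_not_dvd (show ¬ 3 ∣ 4 by norm_num)]
    rw [this, pow_one]
  set N := Subgroup.normalizer ((P : Subgroup G) : Set G) with hN
  have hPN : (P : Subgroup G) ≤ N := Subgroup.le_normalizer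
  by_cases hNtop : N = ⊤
  · -- P normal: find a central involution
    exfalso
    haveI hPn : (P : Subgroup G).Normal := Subgroup.normalizer_eq_top_iff.mp hNtop
    obtain ⟨Q⟩ : Nonempty (Sylow 2 G) := inferInstance
    have hQcard : Nat.card Q = 2 ^ 2 := by
      rw [Q.card_eq_multiplicity, hG]
      have : (12 : ℕ).factorization 2 = 2 := by
        have e : (12 : ℕ) = 2 ^ 2 * 3 := by norm_num
        rw [e, Nat.factorization_mul (by norm_num) (by norm_num),
          Nat.Prime.factorization_pow Nat.prime_two]
        simp [Nat.factorization_eq_zero_of_not_dvd (show ¬ 2 ∣ 3 by norm_num)]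
      rw [this]
    let ψ : Q →* MulAut (P : Subgroup G) :=
      (MulAut.conjNormal (H := (P : Subgroup G))).comp (Q : Subgroup G).subtype
    have hcyc : IsCyclic (P : Subgroup G) := isCyclic_of_prime_card hPcard
    have hAut : Nat.card (MulAut (P : Subgroup G)) = 2 := by
      rw [IsCyclic.card_mulAut, hPcard, Nat.totient_prime Nat.prime_three]
    have h1 : Nat.card ψ.range ∣ 2 := by
      have := Subgroup.card_subgroup_dvd_card ψ.range
      rwa [hAut] at this
    have h2 : Nat.card ψ.range * Nat.card ψ.ker = 4 := by
      have := Subgroup.card_eq_card_quotient_mul_card_subgroup ψ.ker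
      rw [Nat.card_congr (QuotientGroup.quotientKerEquivRange ψ).toEquiv, hQcard] at this
      omega
    have h3 : 2 ∣ Nat.card ψ.ker := by
      have hle := Nat.le_of_dvd (by norm_num) h1
      have hpos : 0 < Nat.card ψ.range := Nat.card_pos
      interval_cases hr : Nat.card ψ.range
      · exact ⟨2, by omega⟩
      · exact ⟨1, by omega⟩
    obtain ⟨z, hz2⟩ := exists_prime_orderOf_dvd_card' 2 h3
    set z' : G := ((z : Q) : G) with hz'
    have hz'ord : orderOf z' = 2 := by
      rw [hz', Subgroup.orderOf_coe, Subgroup.orderOf_coe]; exact hz2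
    apply hz z' hz'ord
    have hCP : (P : Subgroup G) ≤ Subgroup.centralizer {z'} := by
      intro x hx
      rw [Subgroup.mem_centralizer_singleton_iff]
      have h1 : ψ (z : Q) = 1 := z.2
      have h2 := congrArg (fun f : MulAut (P : Subgroup G) => ((f ⟨x, hx⟩ : (P : Subgroup G)) : G)) h1
      simp only [ψ, MonoidHom.comp_apply, Subgroup.subtype_apply, MulAut.conjNormal_apply,
        MulAut.one_apply] at h2
      exact (mul_inv_eq_iff_eq_mul.mp h2).symm
    have hCQ : (Q : Subgroup G) ≤ Subgroup.centralizer {z'} := by
      intro y hy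
      rw [Subgroup.mem_centralizer_singleton_iff]
      have hc := IsPGroup.commutative_of_card_eq_prime_sq (p := 2) (G := (Q : Subgroup G)) hQcard
      have := hc ⟨y, hy⟩ (z : Q)
      exact congrArg Subtype.val this
    have h12 : 12 ∣ Nat.card (Subgroup.centralizer {z'}) := by
      have a := Subgroup.card_dvd_of_le hCP
      have b := Subgroup.card_dvd_of_le hCQ
      rw [hPcard] at a
      rw [hQcard] at b
      exact Nat.Coprime.mul_dvd_of_dvd_of_dvd (by norm_num : Nat.Coprime 3 (2 ^ 2)) a b
    have hCtop : Subgroup.centralizer {z'} = ⊤ := by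
      apply (Subgroup.card_eq_iff_eq_top _).mp
      have := Subgroup.card_subgroup_dvd_card (Subgroup.centralizer {z'})
      rw [hG] at this ⊢
      exact Nat.dvd_antisymm this h12
    rw [Subgroup.mem_center_iff]
    intro g
    have : g ∈ Subgroup.centralizer {z'} := by rw [hCtop]; trivial
    rw [Subgroup.mem_centralizer_singleton_iff] at this
    exact this
  · -- N ≠ ⊤
    have hPidx : (P : Subgroup G).index = 4 := by
      have := (P : Subgroup G).card_mul_index
      rw [hPcard, hG] at this
      omega
    have hidx : N.index = 4 := by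
      have h1 : Nat.card (Sylow 3 G) = N.index := P.card_eq_index_normalizer
      have h2 := card_sylow_modEq_one 3 G
      have h3 : Nat.card (Sylow 3 G) ∣ (P : Subgroup G).index := P.card_dvd_index
      rw [hPidx] at h3
      rw [h1] at h2 h3
      have hne1 : N.index ≠ 1 := fun h => hNtop (Subgroup.index_eq_one.mp h)
      have hle := Nat.le_of_dvd (by norm_num) h3
      unfold Nat.ModEq at h2
      interval_cases hi : N.index <;> simp_all
    have hNcard : Nat.card N = 3 := by
      have := N.card_mul_index
      rw [hidx, hG] at this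
      omega
    have hNeqP : (P : Subgroup G) = N :=
      Subgroup.eq_of_le_of_card_ge hPN (by rw [hNcard, hPcard])
    let θ := MulAction.toPermHom G (G ⧸ N)
    have hker : θ.ker = ⊥ := by
      have hle : θ.ker ≤ N := by
        rw [← Subgroup.normalCore_eq_ker]; exact Subgroup.normalCore_le N
      have hd := Subgroup.card_dvd_of_le hle
      rw [hNcard] at hd
      rcases (Nat.dvd_prime Nat.prime_three).mp hd with h | h
      · exact Subgroup.card_eq_one.mp h
      · exfalso
        have hkN : θ.ker = N := Subgroup.eq_of_le_of_card_ge hle (by rw [h, hNcard])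
        apply hNtop
        have hPn : (P : Subgroup G).Normal := by
          rw [hNeqP, ← hkN]; exact θ.normal_ker
        exact Subgroup.normalizer_eq_top_iff.mpr hPn
    have : Fintype (G ⧸ N) := Fintype.ofFinite _
    refine Cfsg.Agent.helper2.mulEquiv_alternating_of_injective 4 ?_ θ
      ((MonoidHom.ker_eq_bot_iff θ).mp hker) (by rw [hG]; rfl)
    rw [← Nat.card_eq_fintype_card, ← Subgroup.index_eq_card, hidx]

end Cfsg.Agent.S0228
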