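import Mathlib
import Cfsg.Statements.S0229
import Cfsg.Agent.Lib_helper2_Sylow
import Cfsg.Agent.Lib_helper2_InvPairs
import Cfsg.Agent.S0208
import Cfsg.Agent.S0209
import Cfsg.Agent.S0210
import Cfsg.Agent.S0211

set_option autoImplicit false
open Cfsg

namespace Cfsg.Agent.S0229

open Cfsg.Agent.helper2

theorem result {G : Type*} [Group G] [Finite G] (S : Sylow 2 G) (t : G) (ht : orderOf t = 2) (htS : t ∈ S) (hiso : ∀ g : G, g * t * g⁻¹ ∈ S → g * t * g⁻¹ = t) (s : G) (hs : orderOf s = 2) (hns : ¬ IsConj s t) : orderOf (s * t) % 4 = 2 := by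
  have hti : t⁻¹ = t := inv_of_order_two ht
  have : Fact (Nat.Prime 2) := ⟨Nat.prime_two⟩
  have hcomm : orderOf (t * s) = orderOf (s * t) := by
    have : t * s = t * (s * t) * t⁻¹ := by group
    rw [this, orderOf_conj']
  have heven : Even (orderOf (s * t)) := by
    by_contra hne
    rw [Nat.not_even_iff_odd] at hne
    obtain ⟨d, -, hd⟩ := Cfsg.Agent.S0208.result s t hs ht hne
    exact hns (isConj_iff.mpr ⟨d, hd⟩)
  have heven' : Even (orderOf (t * s)) := hcomm ▸ heven
  have h4 : ¬ 4 ∣ orderOf (t * s) := by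
    intro h4
    obtain ⟨d, -, hd⟩ := (Cfsg.Agent.S0211.result t s ht hs heven').mpr h4
    obtain ⟨hz, hzt, -⟩ := Cfsg.Agent.S0209.result t s ht hs heven'
    set z := (t * s) ^ (orderOf (t * s) / 2) with hzdef
    have htz : orderOf (t * z) = 2 := by rw [← hd, orderOf_conj']; exact ht
    obtain ⟨d', hd', h, h1, h2⟩ := exists_conj_both_mem_sylow S t (t * z) ht htz
    have e1 := hiso h h1
    have e2 : h * (d' * (t * z) * d'⁻¹) * h⁻¹ = (h * d' * d) * t * (h * d' * d)⁻¹ := by
      rw [← hd]; group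
    rw [e2] at h2
    have e3 := hiso _ h2
    have e4 : t = d' * (t * z) * d'⁻¹ := by
      have : h * t * h⁻¹ = h * (d' * (t * z) * d'⁻¹) * h⁻¹ := by rw [e1, e2, e3]
      exact mul_left_cancel (mul_right_cancel this)
    have hev2 : Even (orderOf (t * (t * z))) := by
      have : t * (t * z) = z := by
        rw [← mul_assoc, (order_two_iff.mp ht).1, one_mul]
      rw [this, hz]; exact even_two
    refine Cfsg.Agent.S0210.result t (t * z) ht htz hev2 d'⁻¹ (inv_mem hd') ?_
    nth_rewrite 1 [e4]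
    group
  rw [hcomm] at h4
  obtain ⟨k, hk⟩ := heven
  omega

end Cfsg.Agent.S0229
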