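import Mathlib
import Cfsg.Statements.S0230
import Cfsg.Agent.Lib_helper2_InvPairs
import Cfsg.Agent.S0208
import Cfsg.Agent.S0209

set_option autoImplicit false
open Cfsg

namespace Cfsg.Agent.S0230

open Cfsg.Agent.helper2

theorem card_filter_mem {G : Type*} [Group G] [Fintype G] [DecidableEq G] (K : Subgroup G)
    [DecidablePred (· ∈ K)] :
    (Finset.univ.filter (· ∈ K)).card = Nat.card K := by
  rw [Nat.card_eq_fintype_card, Fintype.card_subtype]

theorem result {G : Type*} [Group G] [Finite G] (s t : G) (hs : orderOf s = 2) (ht : orderOf t = 2) (hnc : ¬ IsConj s t) (hmax : ∀ u : G, orderOf u = 2 → Nat.card (Subgroup.centralizer ({u} : Set G)) ≤ Nat.card (Subgroup.centralizer ({t} : Set G))) : Nat.card G < Nat.card (Subgroup.centralizer ({t} : Set G)) ^ 3 := by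
  classical
  have := Fintype.ofFinite G
  set m := Nat.card (Subgroup.centralizer ({t} : Set G)) with hm
  have hmpos : 0 < m := Nat.card_pos
  let A : Finset G := Finset.univ.filter (fun u => IsConj s u)
  let Z : Finset G := Finset.univ.filter
    (fun z => orderOf z = 2 ∧ z ∈ Subgroup.centralizer ({t} : Set G))
  have hsub : A ⊆ Z.biUnion (fun z => Finset.univ.filter
      (fun u => u ∈ Subgroup.centralizer ({z} : Set G))) := by
    intro u hu
    simp only [A, Finset.mem_filter, Finset.mem_univ, true_and] at hu
    obtain ⟨c, hc⟩ := isConj_iff.mp hu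
    have hu2 : orderOf u = 2 := by rw [← hc, orderOf_conj']; exact hs
    have hnc' : ¬ IsConj u t := fun h => hnc (hu.trans h)
    have heven : Even (orderOf (u * t)) := by
      by_contra hne
      rw [Nat.not_even_iff_odd] at hne
      obtain ⟨d, -, hd⟩ := Cfsg.Agent.S0208.result u t hu2 ht hne
      exact hnc' (isConj_iff.mpr ⟨d, hd⟩)
    obtain ⟨hz, hzu, hzt⟩ := Cfsg.Agent.S0209.result u t hu2 ht heven
    simp only [Finset.mem_biUnion, Finset.mem_filter, Finset.mem_univ, true_and, Z]
    refine ⟨(u * t) ^ (orderOf (u * t) / 2), ⟨hz, ?_⟩, ?_⟩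
    · exact mem_centralizer_single.mpr hzt.eq.symm
    · exact mem_centralizer_single.mpr hzu.eq
  have h1 : A.card ≤ Z.card * m := by
    calc A.card ≤ (Z.biUnion (fun z => Finset.univ.filter
          (fun u => u ∈ Subgroup.centralizer ({z} : Set G)))).card := Finset.card_le_card hsub
      _ ≤ ∑ z ∈ Z, (Finset.univ.filter
          (fun u => u ∈ Subgroup.centralizer ({z} : Set G))).card := Finset.card_biUnion_le
      _ ≤ ∑ _z ∈ Z, m := by
          apply Finset.sum_le_sum
          intro z hz
          simp only [Finset.mem_filter, Finset.mem_univ, true_and, Z] at hz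
          rw [card_filter_mem]
          exact hmax z hz.1
      _ = Z.card * m := by rw [Finset.sum_const, smul_eq_mul]
  have h2 : Z.card < m := by
    rw [hm, ← card_filter_mem]
    apply Finset.card_lt_card
    rw [Finset.ssubset_iff_of_subset]
    · refine ⟨1, by simp, ?_⟩
      simp only [Finset.mem_filter, Finset.mem_univ, true_and, Z, not_and]
      intro h
      rw [orderOf_one] at h
      norm_num at h
    · intro z hz
      simp only [Finset.mem_filter, Finset.mem_univ, true_and, Z] at hz ⊢
      exact hz.2
  have h3 : Nat.card {y : G // IsConj s y} = A.card := by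
    rw [Nat.card_eq_fintype_card, Fintype.card_subtype]
  have h4 := card_conj_mul_card_centralizer s
  rw [h3] at h4
  have h5 := hmax s hs
  have h6 : Z.card + 1 ≤ m := h2
  calc Nat.card G = A.card * Nat.card (Subgroup.centralizer ({s} : Set G)) := h4.symm
    _ ≤ (Z.card * m) * m := Nat.mul_le_mul h1 h5
    _ < m ^ 3 := by
      have : Z.card * m * m < m * m * m := by
        apply Nat.mul_lt_mul_of_pos_right _ hmpos
        exact Nat.mul_lt_mul_of_pos_right h2 hmpos
      calc Z.card * m * m < m * m * m := this
        _ = m ^ 3 := by ring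

end Cfsg.Agent.S0230
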