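import Mathlib
import Cfsg.Statements.S0231
import Cfsg.Agent.Lib_helper2_Sylow
import Cfsg.Agent.Lib_helper2_InvPairs
import Cfsg.Agent.S0208
import Cfsg.Agent.S0209

set_option autoImplicit false
open Cfsg
open scoped Pointwise

namespace Cfsg.Agent.S0231

open Cfsg.Agent.helper2

variable {G : Type*} [Group G] [Finite G]

/-- In a TI situation, a 2-subgroup meeting `T` nontrivially lies in `T`. -/
theorem lemmaA (T : Sylow 2 G)
    (hTI : ∀ g : G, MulAut.conj g • (T : Subgroup G) ≠ T → MulAut.conj g • (T : Subgroup G) ⊓ T = ⊥)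
    (R : Subgroup G) (hR : IsPGroup 2 R) (a : G) (haT : a ∈ T) (ha1 : a ≠ 1) (haR : a ∈ R) :
    R ≤ T := by
  have : Fact (Nat.Prime 2) := ⟨Nat.prime_two⟩
  obtain ⟨Q, hQ⟩ := hR.exists_le_sylow
  obtain ⟨g, hg⟩ := MulAction.exists_smul_eq G T Q
  have hgQ : MulAut.conj g • (T : Subgroup G) = Q := by
    rw [← Sylow.coe_subgroup_smul, hg]
  by_cases h : MulAut.conj g • (T : Subgroup G) = T
  · rw [h] at hgQ
    rw [hgQ]; exact hQ
  · exfalso
    have h1 := hTI g h
    have h2 : a ∈ MulAut.conj g • (T : Subgroup G) ⊓ T := by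
      refine ⟨?_, haT⟩
      rw [hgQ]; exact hQ haR
    rw [h1, Subgroup.mem_bot] at h2
    exact ha1 h2

/-- Commuting involutions: if one lies in `T`, so does the other. -/
theorem lemmaB (T : Sylow 2 G)
    (hTI : ∀ g : G, MulAut.conj g • (T : Subgroup G) ≠ T → MulAut.conj g • (T : Subgroup G) ⊓ T = ⊥)
    (a b : G) (ha : orderOf a = 2) (hb : orderOf b = 2) (hab : Commute a b) (haT : a ∈ T) :
    b ∈ T := by
  have : Fact (Nat.Prime 2) := ⟨Nat.prime_two⟩
  obtain ⟨d, hd, R, hR, haR, hbR⟩ := exists_common_pgroup a b ha hb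
  have hle : Subgroup.closure ({a, b} : Set G) ≤ Subgroup.centralizer ({b} : Set G) := by
    rw [Subgroup.closure_le]
    intro x hx
    rcases hx with rfl | hx
    · exact mem_centralizer_single.mpr hab.eq.symm
    · rw [Set.mem_singleton_iff] at hx
      subst hx
      exact mem_centralizer_single.mpr rfl
  have hdb : b * d = d * b := mem_centralizer_single.mp (hle hd)
  have hconj : d * b * d⁻¹ = b := by rw [← hdb]; group
  rw [hconj] at hbR
  have ha1 : a ≠ 1 := (order_two_iff.mp ha).2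
  exact lemmaA T hTI R hR a haT ha1 haR hbR

/-- If `s ∈ T` is an involution, every involution not conjugate to `s` lies in `T`. -/
theorem claim (T : Sylow 2 G)
    (hTI : ∀ g : G, MulAut.conj g • (T : Subgroup G) ≠ T → MulAut.conj g • (T : Subgroup G) ⊓ T = ⊥)
    (s t : G) (hs : orderOf s = 2) (ht : orderOf t = 2) (hsT : s ∈ T) (hns : ¬ IsConj s t) :
    t ∈ T := by
  have heven : Even (orderOf (s * t)) := by
    by_contra hne
    rw [Nat.not_even_iff_odd] at hne
    obtain ⟨d, -, hd⟩ := Cfsg.Agent.S0208.result s t hs ht hne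
    exact hns (isConj_iff.mpr ⟨d, hd⟩)
  obtain ⟨hz, hzs, hzt⟩ := Cfsg.Agent.S0209.result s t hs ht heven
  have hzT := lemmaB T hTI s _ hs hz hzs.symm hsT
  exact lemmaB T hTI _ t hz ht hzt hzT

theorem result {G : Type*} [Group G] [Finite G] (T : Sylow 2 G) (hnn : ¬ (T : Subgroup G).Normal) (hTI : ∀ g : G, MulAut.conj g • (T : Subgroup G) ≠ T → MulAut.conj g • (T : Subgroup G) ⊓ T = ⊥) (s t : G) (hs : orderOf s = 2) (ht : orderOf t = 2) : IsConj s t := by
  have : Fact (Nat.Prime 2) := ⟨Nat.prime_two⟩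
  by_contra hns
  obtain ⟨h, hh⟩ := exists_conj_mem_sylow T (Subgroup.zpowers s) (isPGroup_zpowers_of_orderOf hs)
  have hs'T := hh s (Subgroup.mem_zpowers s)
  have hs' : orderOf (h * s * h⁻¹) = 2 := by rw [orderOf_conj']; exact hs
  have hconj : IsConj s (h * s * h⁻¹) := isConj_iff.mpr ⟨h, rfl⟩
  have hns' : ∀ t' : G, IsConj t t' → ¬ IsConj (h * s * h⁻¹) t' := by
    intro t' htt' hc
    exact hns ((hconj.trans hc).trans htt'.symm)
  have htT : t ∈ T := claim T hTI _ t hs' ht hs'T (hns' t (IsConj.refl t))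
  obtain ⟨g, hg⟩ : ∃ g : G, MulAut.conj g • (T : Subgroup G) ≠ T := by
    by_contra hall
    simp only [ne_eq, not_exists, not_not] at hall
    apply hnn
    constructor
    intro n hn g
    have := hall g
    rw [← this]
    exact Subgroup.smul_mem_pointwise_smul n (MulAut.conj g) (T : Subgroup G) hn
  have ht' : orderOf (g * t * g⁻¹) = 2 := by rw [orderOf_conj']; exact ht
  have ht'T : g * t * g⁻¹ ∈ T :=
    claim T hTI _ _ hs' ht' hs'T (hns' _ (isConj_iff.mpr ⟨g, rfl⟩))
  have hmem : g * t * g⁻¹ ∈ MulAut.conj g • (T : Subgroup G) ⊓ T := by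
    refine ⟨?_, ht'T⟩
    have := Subgroup.smul_mem_pointwise_smul t (MulAut.conj g) (T : Subgroup G) htT
    simp only [MulAut.smul_def, MulAut.conj_apply] at this
    exact this
  rw [hTI g hg, Subgroup.mem_bot] at hmem
  rw [hmem, orderOf_one] at ht'
  norm_num at ht'

end Cfsg.Agent.S0231
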