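import Cfsg.Statements.S0232
import Mathlib
import Cfsg.Agent.S0233
import Cfsg.Agent.S0636
import Cfsg.Agent.Lib_helper19_CP

set_option autoImplicit false
set_option linter.style.haveILetI false
open Cfsg

namespace Cfsg.Agent.S0232

/-- The class of an involution has at most as many elements as there are involutions. -/
theorem class_bound {G : Type*} [Group G] [Finite G] (t : G) (ht : orderOf t = 2) :
    Nat.card G ≤ Nat.card {s : G // orderOf s = 2} *
      Nat.card (Subgroup.centralizer ({t} : Set G)) := by
  classical
  have : Fintype G := Fintype.ofFinite G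
  set I : Finset G := Finset.univ.filter (fun t => orderOf t = 2) with hI
  have hIn : Nat.card {t : G // orderOf t = 2} = I.card := by
    rw [Nat.card_eq_fintype_card, Fintype.card_subtype]
  have hmaps : ((Finset.univ : Finset G) : Set G).MapsTo (fun g => g * t * g⁻¹) I := by
    intro g _
    rw [Finset.mem_coe, hI, Finset.mem_filter]
    refine ⟨Finset.mem_univ _, ?_⟩
    have := MulEquiv.orderOf_eq (MulAut.conj g) t
    rw [MulAut.conj_apply] at this
    rw [this, ht]
  have h1 := Finset.card_eq_sum_card_fiberwise hmaps
  rw [Finset.card_univ, ← Nat.card_eq_fintype_card] at h1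
  rw [h1, hIn]
  have h2 : ∀ s ∈ I, ((Finset.univ : Finset G).filter (fun g => g * t * g⁻¹ = s)).card ≤
      Nat.card (Subgroup.centralizer ({t} : Set G)) := by
    intro s _
    rcases Finset.eq_empty_or_nonempty
      ((Finset.univ : Finset G).filter (fun g => g * t * g⁻¹ = s)) with he | ⟨g₀, hg₀⟩
    · rw [he, Finset.card_empty]; exact Nat.zero_le _
    · rw [← S0233.card_filter_mem]
      rw [Finset.mem_filter] at hg₀
      apply Finset.card_le_card_of_injOn (fun g => g₀⁻¹ * g)
      · intro g hg
        rw [Finset.mem_coe, Finset.mem_filter] at hg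
        rw [Finset.mem_coe, Finset.mem_filter]
        refine ⟨Finset.mem_univ _, ?_⟩
        rw [Subgroup.mem_centralizer_singleton_iff]
        have h3 : g * t * g⁻¹ = g₀ * t * g₀⁻¹ := by rw [hg.2, hg₀.2]
        have h4 : g * t = g₀ * t * g₀⁻¹ * g := by rw [← h3]; group
        calc g₀⁻¹ * g * t = g₀⁻¹ * (g * t) := by rw [mul_assoc]
          _ = g₀⁻¹ * (g₀ * t * g₀⁻¹ * g) := by rw [h4]
          _ = t * (g₀⁻¹ * g) := by group
      · intro g _ g' _ h
        exact mul_left_cancel h
  calc _ ≤ ∑ _s ∈ I, Nat.card (Subgroup.centralizer ({t} : Set G)) := Finset.sum_le_sum h2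
    _ = _ := by rw [Finset.sum_const, smul_eq_mul]

theorem main.{u} : ∀ (N : ℕ) (G : Type u) [Group G] [Finite G], Nat.card G = N → Even N → 2 < N →
    ∃ H : Subgroup G, H ≠ ⊤ ∧ Nat.card G < (Nat.card H) ^ 3 := by
  intro N
  induction N using Nat.strong_induction_on with
  | _ N ih =>
    intro G _ _ hcard heven hgt
    haveI : Fact (Nat.Prime 2) := ⟨Nat.prime_two⟩
    by_cases hZ : Odd (Nat.card (Subgroup.center G))
    · -- the counting case
      obtain ⟨t, ht⟩ := exists_prime_orderOf_dvd_card' (G := G) 2 (hcard ▸ heven.two_dvd)
      have hCtop : Subgroup.centralizer ({t} : Set G) ≠ ⊤ := by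
        intro htop
        have hxc : t ∈ Subgroup.center G := by
          rw [Subgroup.mem_center_iff]
          intro g
          have : g ∈ Subgroup.centralizer ({t} : Set G) := by rw [htop]; exact Subgroup.mem_top g
          exact Subgroup.mem_centralizer_singleton_iff.mp this
        have h1 : orderOf (⟨t, hxc⟩ : Subgroup.center G) = 2 := by
          rw [← Subgroup.orderOf_coe]; exact ht
        have h3 : 2 ∣ Nat.card (Subgroup.center G) := by
          rw [← h1]; exact orderOf_dvd_natCard _
        rcases hZ with ⟨k, hk⟩
        omega
      have hcb := class_bound t ht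
      obtain ⟨H, hHtop, hH⟩ := S0233.result (hcard ▸ heven) hZ
      set n := Nat.card {s : G // orderOf s = 2} with hn
      set c := Nat.card (Subgroup.centralizer ({t} : Set G)) with hc
      set h := Nat.card H with hh
      have hidx : H.index * h = Nat.card G := Subgroup.index_mul_card H
      have hhpos : 0 < h := Nat.card_pos
      have hcpos : 0 < c := Nat.card_pos
      rw [hcard] at hcb hidx hH
      by_contra hcon
      push Not at hcon
      have hc3 : c ^ 3 ≤ N := by
        have := hcon _ hCtop
        rw [hcard] at this; exact this
      have hh3 : h ^ 3 ≤ N := by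
        have := hcon _ hHtop
        rw [hcard] at this; exact this
      rcases hH with hH | hH
      · rw [hH] at hidx
        -- N = 2 h, h³ ≤ 2h, so h ≤ 1, N ≤ 2
        have h5 : h * h * h ≤ 2 * h := by rw [hidx]; calc h * h * h = h ^ 3 := by ring
                                                        _ ≤ N := hh3
        have h6 : h * h ≤ 2 := by
          have : h * (h * h) ≤ h * 2 := by nlinarith
          exact Nat.le_of_mul_le_mul_left this hhpos
        have h7 : h ≤ 1 := by nlinarith
        omega
      · -- 2 idx n² < N (N + n) ≤ n² (c² + c)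
        have hnpos : 0 < n := by
          rcases Nat.eq_zero_or_pos n with h0 | h0
          · rw [h0, zero_mul] at hcb; omega
          · exact h0
        have h8 : N * (N + n) ≤ n ^ 2 * (c ^ 2 + c) := by
          calc N * (N + n) ≤ (n * c) * (n * c + n) :=
                Nat.mul_le_mul hcb (Nat.add_le_add_right hcb n)
            _ = n ^ 2 * (c ^ 2 + c) := by ring
        have h9 : n ^ 2 * (2 * H.index) < n ^ 2 * (c ^ 2 + c) := by
          calc n ^ 2 * (2 * H.index) = 2 * H.index * n ^ 2 := by ring
            _ < N * (N + n) := hH
            _ ≤ _ := h8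
        have h10 : 2 * H.index < c ^ 2 + c := Nat.lt_of_mul_lt_mul_left h9
        have h11 : c ≤ c ^ 2 := by nlinarith
        have h12 : H.index < c ^ 2 := by omega
        have h13 : N < c ^ 2 * h := by
          rw [← hidx]
          exact Nat.mul_lt_mul_of_pos_right h12 hhpos
        rcases le_total h c with hle | hle
        · have : c ^ 2 * h ≤ c ^ 3 := by
            calc c ^ 2 * h ≤ c ^ 2 * c := Nat.mul_le_mul_left _ hle
              _ = c ^ 3 := by ring
          omega
        · have : c ^ 2 * h ≤ h ^ 3 := by
            calc c ^ 2 * h ≤ h ^ 2 * h := Nat.mul_le_mul_right _ (Nat.pow_le_pow_left hle 2)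
              _ = h ^ 3 := by ring
          omega
    · -- a central involution
      rw [Nat.not_odd_iff_even] at hZ
      obtain ⟨z', hz'⟩ := exists_prime_orderOf_dvd_card' (G := Subgroup.center G) 2 hZ.two_dvd
      set z : G := (z' : G) with hz
      have hzo : orderOf z = 2 := by rw [hz, Subgroup.orderOf_coe]; exact hz'
      have hzc : ∀ u : G, u * z = z * u := fun u => Subgroup.mem_center_iff.mp z'.2 u
      set Zs := Subgroup.zpowers z with hZs
      haveI hZn : Zs.Normal := S0636.zpowers_normal_of_central z hzc
      have hZcard : Nat.card Zs = 2 := by rw [hZs, Nat.card_zpowers, hzo]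
      have hq : Nat.card G = Nat.card (G ⧸ Zs) * Nat.card Zs :=
        Subgroup.card_eq_card_quotient_mul_card_subgroup Zs
      rw [hZcard, hcard] at hq
      set q := Nat.card (G ⧸ Zs) with hqdef
      by_cases hqe : Even q
      · by_cases hq2 : 2 < q
        · -- induction
          have hlt : q < N := by omega
          obtain ⟨Hb, hHb, hHbc⟩ := ih q hlt (G ⧸ Zs) rfl hqe hq2
          set π := QuotientGroup.mk' Zs with hπ
          have hπs : Function.Surjective π := QuotientGroup.mk'_surjective Zs
          have hker : π.ker = Zs := QuotientGroup.ker_mk' Zs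
          refine ⟨Hb.comap π, ?_, ?_⟩
          · intro htop
            apply hHb
            have := Subgroup.map_comap_eq_self_of_surjective hπs Hb
            rw [htop, ← MonoidHom.range_eq_map, MonoidHom.range_eq_top.mpr hπs] at this
            exact this.symm
          · rw [helper19.card_comap_of_surjective π hπs, hker, hZcard, hcard]
            have h1 : (Nat.card Hb * 2) ^ 3 = 8 * (Nat.card Hb) ^ 3 := by ring
            rw [h1]
            omega
        · -- q = 2
          have hq2' : q = 2 := by
            rcases hqe with ⟨k, hk⟩
            omega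
          refine ⟨Zs, ?_, ?_⟩
          · intro htop
            have : Nat.card Zs = Nat.card G := by rw [htop, Subgroup.card_top]
            rw [hZcard, hcard] at this
            omega
          · rw [hZcard, hcard]; omega
      · -- q odd: complement
        rw [Nat.not_even_iff_odd] at hqe
        have hcop : Nat.Coprime (Nat.card Zs) Zs.index := by
          rw [hZcard]
          show Nat.Coprime 2 q
          exact (Nat.Prime.coprime_iff_not_dvd Nat.prime_two).mpr (by
              rcases hqe with ⟨k, hk⟩; omega)
        obtain ⟨K, hK⟩ := Subgroup.exists_right_complement'_of_coprime hcop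
        have hKc : Nat.card Zs * Nat.card K = Nat.card G := hK.card_mul_card
        rw [hZcard, hcard] at hKc
        have hKq : Nat.card K = q := by omega
        refine ⟨K, ?_, ?_⟩
        · intro htop
          have : Nat.card K = Nat.card G := by rw [htop, Subgroup.card_top]
          rw [hKq, hcard] at this
          omega
        · rw [hKq, hcard, hq]
          have hq2 : 2 ≤ q := by omega
          have : q * 2 < q * (q * q) := by
            apply Nat.mul_lt_mul_of_pos_left ?_ (by omega)
            nlinarith
          calc q * 2 < q * (q * q) := this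
            _ = q ^ 3 := by ring

/-- A finite group G of even order greater than 2 has a proper subgroup H with |G| < |H|^3. -/
theorem result {G : Type*} [Group G] [Finite G] (heven : Even (Nat.card G)) (hgt : 2 < Nat.card G) : ∃ H : Subgroup G, H ≠ ⊤ ∧ Nat.card G < (Nat.card H) ^ 3 := by
  exact main _ G rfl heven hgt

end Cfsg.Agent.S0232
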