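import Mathlib
import Cfsg.Agent.Lib_helper22_FS
import Cfsg.Agent.Lib_helper23_LinChar
import Cfsg.Agent.S4476
import Cfsg.Statements.S0234

set_option autoImplicit false
set_option linter.unusedSectionVars false
set_option linter.unusedVariables false
open Cfsg

namespace Cfsg.Agent.S0234

open Cfsg.Agent.helper22
open scoped commutatorElement

/-- a `2 × 2` complex matrix of determinant one squaring to one is scalar -/
theorem scalar_of_sq_one (M : Matrix (Fin 2) (Fin 2) ℂ) (hMM : M * M = 1) (hdet : M.det = 1) :
    M = M 0 0 • (1 : Matrix (Fin 2) (Fin 2) ℂ) := by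
  have h00 := congrFun (congrFun hMM 0) 0
  have h01 := congrFun (congrFun hMM 0) 1
  have h10 := congrFun (congrFun hMM 1) 0
  have h11 := congrFun (congrFun hMM 1) 1
  simp only [Matrix.mul_apply, Fin.sum_univ_two, Matrix.one_apply_eq, Matrix.one_apply_ne,
    ne_eq, zero_ne_one, one_ne_zero, not_false_eq_true, Fin.isValue] at h00 h01 h10 h11
  rw [Matrix.det_fin_two] at hdet
  have hs : (M 0 0 + M 1 1) * M 0 0 = 2 := by linear_combination h00 + hdet
  have hs0 : M 0 0 + M 1 1 ≠ 0 := by
    intro h
    rw [h, zero_mul] at hs
    norm_num at hs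
  have hb : M 0 1 = 0 := by
    have : (M 0 0 + M 1 1) * M 0 1 = 0 := by linear_combination h01
    rcases mul_eq_zero.mp this with h | h
    · exact absurd h hs0
    · exact h
  have hc : M 1 0 = 0 := by
    have : (M 0 0 + M 1 1) * M 1 0 = 0 := by linear_combination h10
    rcases mul_eq_zero.mp this with h | h
    · exact absurd h hs0
    · exact h
  have hd : M 1 1 = M 0 0 := by
    have h1 : (M 0 0 + M 1 1) * (M 1 1 - M 0 0) = 0 := by
      linear_combination h11 - h00
    rcases mul_eq_zero.mp h1 with h | h
    · exact absurd h hs0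
    · exact sub_eq_zero.mp h
  ext i j
  fin_cases i <;> fin_cases j <;> simp [hb, hc, hd]

theorem result {G : Type*} [Group G] [Finite G] [IsSimpleGroup G] (heven : Even (Nat.card G)) (hgt : 2 < Nat.card G) : 3 * Nat.card {t : G // orderOf t = 2} < Nat.card G := by
  classical
  haveI : Fintype G := Fintype.ofFinite G
  haveI : Fact (Nat.Prime 2) := ⟨Nat.prime_two⟩
  obtain ⟨u, hu⟩ := exists_prime_orderOf_dvd_card' (G := G) 2 heven.two_dvd
  have hu1 : u ≠ 1 := by
    intro h
    rw [h, orderOf_one] at hu
    omega
  have huu : u * u = 1 := by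
    rw [← pow_two, ← hu]
    exact pow_orderOf_eq_one u
  -- `G` is not commutative
  have hnc : ¬ ∀ a b : G, a * b = b * a := by
    intro hcomm
    have hnorm : (Subgroup.zpowers u).Normal := by
      constructor
      intro n hn g
      rw [hcomm g n, mul_assoc, mul_inv_cancel, mul_one]
      exact hn
    rcases IsSimpleGroup.eq_bot_or_eq_top_of_normal _ hnorm with h | h
    · apply hu1
      have : u ∈ Subgroup.zpowers u := Subgroup.mem_zpowers u
      rw [h, Subgroup.mem_bot] at this
      exact this
    · have h1 : Nat.card (Subgroup.zpowers u) = Nat.card G := by rw [h, Subgroup.card_top]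
      rw [Nat.card_zpowers, hu] at h1
      omega
  have hcen : Subgroup.center G = ⊥ := by
    rcases IsSimpleGroup.eq_bot_or_eq_top_of_normal (Subgroup.center G) inferInstance with h | h
    · exact h
    · exfalso
      apply hnc
      intro a b
      have : b ∈ Subgroup.center G := by rw [h]; trivial
      exact (Subgroup.mem_center_iff.mp this a)
  have hcomm : commutator G = ⊤ := by
    rcases IsSimpleGroup.eq_bot_or_eq_top_of_normal (commutator G) inferInstance with h | h
    · exfalso
      apply hnc
      intro a b
      have h1 : ⁅a, b⁆ ∈ commutator G := by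
        show _ ∈ ⁅(⊤ : Subgroup G), ⊤⁆
        exact Subgroup.commutator_mem_commutator (Subgroup.mem_top a) (Subgroup.mem_top b)
      rw [h, Subgroup.mem_bot, commutatorElement_eq_one_iff_mul_comm] at h1
      exact h1
    · exact h
  have hhom : ∀ φ : G →* ℂˣ, ∀ g : G, φ g = 1 := by
    intro φ g
    have h1 : commutator G ≤ φ.ker := Abelianization.commutator_subset_ker φ
    have h2 : g ∈ commutator G := by rw [hcomm]; trivial
    exact h1 h2
  -- Brauer–Fowler character
  obtain ⟨-, χ, hχ1, hreal, hdeg⟩ := Cfsg.Agent.S4476.result heven _ rfl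
  set tc := Nat.card {t : G // orderOf t = 2} with htc
  have htcpos : 0 < tc := by
    haveI : Nonempty {t : G // orderOf t = 2} := ⟨⟨u, hu⟩⟩
    exact Nat.card_pos
  have hd3 : 3 ≤ charDegree (χ : G → ℂ) := by
    have hpos : 0 < charDegree (χ : G → ℂ) := helper24.irr_charDegree_pos χ.2
    have hne1 : charDegree (χ : G → ℂ) ≠ 1 := by
      intro h1
      apply hχ1
      have h2 : (χ : G → ℂ) 1 = 1 := by
        rw [← helper24.char_charDegree_cast (helper24.irr_isCharacter χ.2), h1]
        simp
      obtain ⟨φ, hφ⟩ := helper23.exists_hom_of_linear (helper24.irr_isCharacter χ.2) h2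
      funext g
      rw [hφ g, hhom φ g]
      rfl
    have hne2 : charDegree (χ : G → ℂ) ≠ 2 := by
      intro h2
      obtain ⟨m, ρ, hρ, hχ⟩ := χ.2
      have hm : m = 2 := by
        have h3 : ((charDegree (χ : G → ℂ) : ℕ) : ℂ) = m := by
          rw [helper24.char_charDegree_cast (helper24.irr_isCharacter χ.2), ← hχ,
            Representation.char_one, Module.finrank_fin_fun]
        rw [h2] at h3
        exact_mod_cast h3.symm
      subst hm
      -- determinant is trivial
      have hdet : ∀ g : G, (helper24.repMatrix ρ g).det = 1 := by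
        intro g
        let f : G →* ℂ := (Matrix.detMonoidHom).comp (helper24.repMatrix ρ)
        have h4 := hhom f.toHomUnits g
        have h5 := congrArg Units.val h4
        exact h5
      have hMM : helper24.repMatrix ρ u * helper24.repMatrix ρ u = 1 := by
        rw [← map_mul, huu, map_one]
      have hscal := scalar_of_sq_one _ hMM (hdet u)
      -- faithfulness
      have hinj : Function.Injective (helper24.repMatrix ρ) := by
        rw [← MonoidHom.ker_eq_bot_iff]
        rcases IsSimpleGroup.eq_bot_or_eq_top_of_normal (helper24.repMatrix ρ).ker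
          inferInstance with h | h
        · exact h
        · exfalso
          have hX1 : ∀ g : G, helper24.repMatrix ρ g = 1 := by
            intro g
            have : g ∈ (helper24.repMatrix ρ).ker := by rw [h]; trivial
            exact this
          obtain ⟨c, hc⟩ := mat_schur ρ hρ (Matrix.single 0 1 (1 : ℂ)) (fun g => by
            rw [hX1 g, Matrix.mul_one, Matrix.one_mul])
          have h6 := congrFun (congrFun hc 0) 1
          simp at h6
      -- `u` is central
      apply hu1
      have huc : u ∈ Subgroup.center G := by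
        rw [Subgroup.mem_center_iff]
        intro g
        apply hinj
        rw [map_mul, map_mul, hscal, Matrix.smul_mul, Matrix.mul_smul, Matrix.one_mul,
          Matrix.mul_one]
      rw [hcen, Subgroup.mem_bot] at huc
      exact huc
    omega
  -- conclusion
  have htcQ : (0 : ℚ) < tc := by exact_mod_cast htcpos
  have h1 : (charDegree (χ : G → ℂ) : ℚ) * tc ≤ (Nat.card G : ℚ) - 1 := by
    rw [le_div_iff₀ htcQ] at hdeg
    exact hdeg
  have h2 : (3 : ℚ) * tc ≤ (charDegree (χ : G → ℂ) : ℚ) * tc := by
    apply mul_le_mul_of_nonneg_right _ htcQ.le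
    exact_mod_cast hd3
  have h3 : ((3 * tc : ℕ) : ℚ) < ((Nat.card G : ℕ) : ℚ) := by
    push_cast
    linarith
  exact_mod_cast h3

end Cfsg.Agent.S0234
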