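import Mathlib
import Cfsg.Statements.S0238
import Cfsg.Agent.Lib_helper2_InvPairs

set_option autoImplicit false
open Cfsg

namespace Cfsg.Agent.S0238

open Cfsg.Agent.helper2

variable {G : Type*} [Group G] [Finite G]

theorem part1 (x : G) : Nat.card {p : G × G // orderOf p.1 = 2 ∧ orderOf p.2 = 2 ∧ p.1 * p.2 = x} ≤ Nat.card (Subgroup.centralizer ({x} : Set G)) := by
  by_cases hx : x ^ 2 = 1
  · rw [card_pairs]
    have hmem : ∀ t : {t : G // orderOf t = 2 ∧ orderOf (t⁻¹ * x) = 2},
        t.1 ∈ Subgroup.centralizer ({x} : Set G) := by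
      rintro ⟨t, h1, h2⟩
      rw [mem_centralizer_single]
      show x * t = t * x
      by_cases hx1 : x = 1
      · clear h2; subst hx1; simp
      · have hox : orderOf x = 2 := order_two_iff.mpr ⟨by rw [← sq]; exact hx, hx1⟩
        exact (((commutes_iff hox h1).mp h2).1).eq.symm
    apply Nat.card_le_card_of_injective (fun t => (⟨t.1, hmem t⟩ : Subgroup.centralizer ({x} : Set G)))
    intro a b hab
    apply Subtype.ext
    exact congrArg (fun z : Subgroup.centralizer ({x} : Set G) => (z : G)) hab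
  · rw [card_pairs_inverting x hx]
    by_cases hreal : IsConj x x⁻¹
    · rw [← card_inverting x hreal]
      apply Nat.card_le_card_of_injective (fun t : {t : G // orderOf t = 2 ∧ t * x * t⁻¹ = x⁻¹} =>
        (⟨t.1, t.2.2⟩ : {g : G // g * x * g⁻¹ = x⁻¹}))
      intro a b hab
      apply Subtype.ext
      exact congrArg (fun z : {g : G // g * x * g⁻¹ = x⁻¹} => (z : G)) hab
    · have : IsEmpty {t : G // orderOf t = 2 ∧ t * x * t⁻¹ = x⁻¹} := by
        constructor
        rintro ⟨t, -, ht⟩
        exact hreal (isConj_iff.mpr ⟨t, ht⟩)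
      rw [Nat.card_of_isEmpty]
      exact Nat.zero_le _

omit [Finite G] in
theorem part2 (x : G) (h : ¬ IsConj x x⁻¹) : Nat.card {p : G × G // orderOf p.1 = 2 ∧ orderOf p.2 = 2 ∧ p.1 * p.2 = x} = 0 := by
  have hx : x ^ 2 ≠ 1 := by
    intro hx
    apply h
    have : x⁻¹ = x := inv_eq_of_mul_eq_one_right (by rw [← sq]; exact hx)
    rw [this]
  rw [card_pairs_inverting x hx]
  have : IsEmpty {t : G // orderOf t = 2 ∧ t * x * t⁻¹ = x⁻¹} := by
    constructor
    rintro ⟨t, -, ht⟩
    exact h (isConj_iff.mpr ⟨t, ht⟩)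
  exact Nat.card_of_isEmpty

theorem part3 (x : G) (hx : orderOf x = 2) : Nat.card {p : G × G // orderOf p.1 = 2 ∧ orderOf p.2 = 2 ∧ p.1 * p.2 = x} + 2 ≤ Nat.card (Subgroup.centralizer ({x} : Set G)) := by
  have h1 := card_pairs_commuting x hx
  have h2 : Nat.card {t : G // orderOf t = 2 ∧ Commute t x} + 1 ≤
      Nat.card (Subgroup.centralizer ({x} : Set G)) := by
    rw [← Finite.card_option]
    have hmem : ∀ t : {t : G // orderOf t = 2 ∧ Commute t x},
        t.1 ∈ Subgroup.centralizer ({x} : Set G) := by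
      rintro ⟨t, h1, h2⟩
      rw [mem_centralizer_single]
      exact h2.eq.symm
    apply Nat.card_le_card_of_injective (fun o : Option {t : G // orderOf t = 2 ∧ Commute t x} =>
      match o with
      | none => (1 : Subgroup.centralizer ({x} : Set G))
      | some t => ⟨t.1, hmem t⟩)
    intro a b hab
    rcases a with _ | a <;> rcases b with _ | b
    · rfl
    · exfalso
      have : (1 : G) = b.1 := congrArg (fun z : Subgroup.centralizer ({x} : Set G) => (z : G)) hab
      have hb := b.2.1
      rw [← this, orderOf_one] at hb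
      norm_num at hb
    · exfalso
      have : a.1 = (1 : G) := congrArg (fun z : Subgroup.centralizer ({x} : Set G) => (z : G)) hab
      have ha := a.2.1
      rw [this, orderOf_one] at ha
      norm_num at ha
    · congr 1
      apply Subtype.ext
      exact congrArg (fun z : Subgroup.centralizer ({x} : Set G) => (z : G)) hab
  omega

theorem result {G : Type*} [Group G] [Finite G] (x : G) : Nat.card {p : G × G // orderOf p.1 = 2 ∧ orderOf p.2 = 2 ∧ p.1 * p.2 = x} ≤ Nat.card (Subgroup.centralizer ({x} : Set G)) ∧ (¬ IsConj x x⁻¹ → Nat.card {p : G × G // orderOf p.1 = 2 ∧ orderOf p.2 = 2 ∧ p.1 * p.2 = x} = 0) ∧ (orderOf x = 2 → Nat.card {p : G × G // orderOf p.1 = 2 ∧ orderOf p.2 = 2 ∧ p.1 * p.2 = x} + 2 ≤ Nat.card (Subgroup.centralizer ({x} : Set G))) :=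
  ⟨part1 x, part2 x, part3 x⟩

end Cfsg.Agent.S0238
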