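import Mathlib
import Cfsg.Statements.S0239
import Cfsg.Agent.Lib_helper2_InvPairs

set_option autoImplicit false
open Cfsg

namespace Cfsg.Agent.S0239

open Cfsg.Agent.helper2

theorem result {G : Type*} [Group G] [Finite G] (x : G) (hx : x ≠ 1) (hreal : IsConj x x⁻¹) : Even (Nat.card G) := by
  by_contra hodd
  rw [Nat.not_even_iff_odd] at hodd
  obtain ⟨g, hg⟩ := isConj_iff.mp hreal
  have hog : Odd (orderOf g) := Odd.of_dvd_nat hodd (orderOf_dvd_natCard g)
  obtain ⟨k, hk⟩ := hog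
  have h1 := odd_pow_inverts hg k
  rw [← hk, pow_orderOf_eq_one] at h1
  simp only [one_mul, inv_one, mul_one] at h1
  have h2 : x * x = 1 := by
    calc x * x = x⁻¹ * x := by rw [← h1]
      _ = 1 := inv_mul_cancel x
  have h3 : orderOf x = 2 := order_two_iff.mpr ⟨h2, hx⟩
  have h4 : 2 ∣ Nat.card G := h3 ▸ orderOf_dvd_natCard x
  exact (Nat.not_even_iff_odd.mpr hodd) (even_iff_two_dvd.mpr h4)

end Cfsg.Agent.S0239
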