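import Mathlib
import Cfsg.Statements.S0240
import Cfsg.Agent.Lib_helper2_InvPairs

set_option autoImplicit false
open Cfsg

namespace Cfsg.Agent.S0240

open Cfsg.Agent.helper2

theorem result {G : Type*} [Group G] [Finite G] (H : Subgroup G) (hH : Nat.card G < Nat.card H * (Nat.card {t : G // orderOf t = 2} + 1)) : ∃ h : G, h ∈ H ∧ h ≠ 1 ∧ ∃ t : G, orderOf t = 2 ∧ t * h * t⁻¹ = h⁻¹ := by
  classical
  let ι : Option {t : G // orderOf t = 2} → G := fun o => o.elim 1 Subtype.val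
  have hι_sq : ∀ o, ι o * ι o = 1 := by
    intro o
    rcases o with _ | t
    · simp [ι]
    · exact (order_two_iff.mp t.2).1
  have hι_ne : ∀ o, ι o ≠ 1 → orderOf (ι o) = 2 := by
    intro o
    rcases o with _ | t
    · intro h; exact absurd rfl h
    · intro _; exact t.2
  have hι_inv : ∀ o, (ι o)⁻¹ = ι o := fun o => inv_eq_of_mul_eq_one_right (hι_sq o)
  let f : Option {t : G // orderOf t = 2} × H → G := fun p => ι p.1 * p.2.1
  have hcard : Nat.card G < Nat.card (Option {t : G // orderOf t = 2} × H) := by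
    rw [Nat.card_prod, Finite.card_option, mul_comm]; exact hH
  have := Fintype.ofFinite G
  have := Fintype.ofFinite (Option {t : G // orderOf t = 2} × H)
  rw [Nat.card_eq_fintype_card, Nat.card_eq_fintype_card] at hcard
  obtain ⟨⟨o₁, h₁⟩, ⟨o₂, h₂⟩, hne, heq⟩ := Fintype.exists_ne_map_eq_of_card_lt f hcard
  simp only [f] at heq
  have hι_inj : Function.Injective ι := by
    intro a b hab
    rcases a with _ | a <;> rcases b with _ | b
    · rfl
    · exfalso
      have h1 : (1 : G) = b.1 := hab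
      have := b.2
      rw [← h1, orderOf_one] at this
      norm_num at this
    · exfalso
      have h1 : a.1 = (1 : G) := hab
      have := a.2
      rw [h1, orderOf_one] at this
      norm_num at this
    · have h1 : a.1 = b.1 := hab
      rw [Subtype.ext h1]
  have e1 : ι o₂ = ι o₁ * h₁.1 * h₂.1⁻¹ := eq_mul_inv_of_mul_eq heq.symm
  have hkey : ι o₁ * ι o₂ = h₁.1 * h₂.1⁻¹ := by
    calc ι o₁ * ι o₂ = ι o₁ * (ι o₁ * h₁.1 * h₂.1⁻¹) := by rw [← e1]
      _ = (ι o₁ * ι o₁) * h₁.1 * h₂.1⁻¹ := by group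
      _ = h₁.1 * h₂.1⁻¹ := by rw [hι_sq, one_mul]
  have hmem : ι o₁ * ι o₂ ∈ H := by
    rw [hkey]; exact H.mul_mem h₁.2 (H.inv_mem h₂.2)
  have hne1 : ι o₁ * ι o₂ ≠ 1 := by
    intro h1
    apply hne
    have h2 : ι o₂ = ι o₁ := by
      rw [← hι_inv o₁]; exact eq_inv_of_mul_eq_one_right h1
    have h3 : o₁ = o₂ := hι_inj h2.symm
    have h4 : h₁.1 = h₂.1 := by
      rw [h2] at heq
      exact mul_left_cancel heq
    rw [h3, Subtype.ext h4]
  refine ⟨ι o₁ * ι o₂, hmem, hne1, ?_⟩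
  have hinv : (ι o₁ * ι o₂)⁻¹ = ι o₂ * ι o₁ := by rw [mul_inv_rev, hι_inv, hι_inv]
  by_cases h1 : ι o₁ = 1
  · refine ⟨ι o₂, hι_ne o₂ ?_, ?_⟩
    · intro h2; apply hne1; rw [h1, h2, one_mul]
    · rw [hinv, hι_inv, h1, one_mul, mul_one, hι_sq, one_mul]
  · refine ⟨ι o₁, hι_ne o₁ h1, ?_⟩
    rw [hinv, hι_inv, ← mul_assoc, hι_sq, one_mul]

end Cfsg.Agent.S0240
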