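import Mathlib
import Cfsg.Statements.S0241
import Cfsg.Agent.Lib_helper2_InvPairs

set_option autoImplicit false
open Cfsg

namespace Cfsg.Agent.S0241

open Cfsg.Agent.helper2

theorem result {G : Type*} [Group G] [Finite G] (x : G) (hx : x ≠ 1) (hreal : IsConj x x⁻¹) (hodd : Odd (Nat.card (Subgroup.centralizer ({x} : Set G)))) : ∃ t : G, orderOf t = 2 ∧ t * x * t⁻¹ = x⁻¹ := by
  obtain ⟨g, hg⟩ := isConj_iff.mp hreal
  have hpos : orderOf g ≠ 0 := (orderOf_pos g).ne'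
  obtain ⟨a, m, hm, ham⟩ := Nat.exists_eq_two_pow_mul_odd hpos
  obtain ⟨j, hj⟩ := hm
  have htinv : (g ^ m) * x * (g ^ m)⁻¹ = x⁻¹ := by rw [hj]; exact odd_pow_inverts hg j
  refine ⟨g ^ m, ?_, htinv⟩
  have hc : Commute ((g ^ m) ^ 2) x := sq_commute_of_inverts htinv
  have hmem : (g ^ m) ^ 2 ∈ Subgroup.centralizer ({x} : Set G) :=
    mem_centralizer_single.mpr hc.eq.symm
  have h1 : orderOf ((g ^ m) ^ 2) ∣ Nat.card (Subgroup.centralizer ({x} : Set G)) := by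
    have := orderOf_dvd_natCard (⟨(g ^ m) ^ 2, hmem⟩ : Subgroup.centralizer ({x} : Set G))
    rwa [Subgroup.orderOf_mk] at this
  have h2 : orderOf ((g ^ m) ^ 2) ∣ 2 ^ a := by
    apply orderOf_dvd_of_pow_eq_one
    rw [← pow_mul, ← pow_mul]
    have : m * (2 * 2 ^ a) = orderOf g * 2 := by rw [ham]; ring
    rw [this, pow_mul, pow_orderOf_eq_one, one_pow]
  have h3 : Odd (orderOf ((g ^ m) ^ 2)) := Odd.of_dvd_nat hodd h1
  have h4 : Nat.Coprime (orderOf ((g ^ m) ^ 2)) (2 ^ a) :=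
    Nat.Coprime.pow_right a (Nat.coprime_two_right.mpr h3)
  have h5 : orderOf ((g ^ m) ^ 2) = 1 := Nat.Coprime.eq_one_of_dvd h4 h2
  rw [orderOf_eq_one_iff] at h5
  rw [order_two_iff]
  refine ⟨by rw [← sq]; exact h5, ?_⟩
  intro ht1
  rw [ht1] at htinv
  simp only [one_mul, inv_one, mul_one] at htinv
  have h6 : x * x = 1 := by
    calc x * x = x⁻¹ * x := by rw [← htinv]
      _ = 1 := inv_mul_cancel x
  have h7 : orderOf x = 2 := order_two_iff.mpr ⟨h6, hx⟩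
  have hxmem : x ∈ Subgroup.centralizer ({x} : Set G) := mem_centralizer_single.mpr rfl
  have h8 : 2 ∣ Nat.card (Subgroup.centralizer ({x} : Set G)) := by
    have := orderOf_dvd_natCard (⟨x, hxmem⟩ : Subgroup.centralizer ({x} : Set G))
    rwa [Subgroup.orderOf_mk, h7] at this
  exact (Nat.not_even_iff_odd.mpr hodd) (even_iff_two_dvd.mpr h8)

end Cfsg.Agent.S0241
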