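import Mathlib
import Cfsg.Statements.S0247
import Cfsg.Agent.S2530
import Cfsg.Agent.S0245

set_option autoImplicit false
open Cfsg

namespace Cfsg.Agent.S0247

open Matrix

/-- matrices on `Fin 2 ⊕ Fin 2` from `4 × 4` matrices -/
def M4 (A : Matrix (Fin 4) (Fin 4) (ZMod 2)) : Matrix (Fin 2 ⊕ Fin 2) (Fin 2 ⊕ Fin 2) (ZMod 2) :=
  Matrix.reindex finSumFinEquiv.symm finSumFinEquiv.symm A

/-- five transvections forming a Coxeter system of type `A₅` -/
def Tm : Fin 5 → Matrix (Fin 4) (Fin 4) (ZMod 2) :=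
  ![!![1,0,0,0; 0,1,0,0; 0,0,1,0; 0,1,0,1],
    !![1,0,0,0; 0,0,0,1; 0,0,1,0; 0,1,0,0],
    !![1,0,0,0; 0,1,0,0; 1,1,1,0; 1,1,0,1],
    !![0,0,1,0; 0,1,0,0; 1,0,0,0; 0,0,0,1],
    !![1,0,0,0; 0,1,0,0; 1,0,1,0; 0,0,0,1]]

set_option maxRecDepth 100000 in
theorem Tm_mem (i : Fin 5) : M4 (Tm i) ∈ symplecticGroup (Fin 2) (ZMod 2) := by
  show M4 (Tm i) * J (Fin 2) (ZMod 2) * (M4 (Tm i))ᵀ = J (Fin 2) (ZMod 2)
  revert i
  decide +kernel

/-- the transvections as symplectic group elements -/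
def t (i : Fin 5) : symplecticGroup (Fin 2) (ZMod 2) := ⟨M4 (Tm i), Tm_mem i⟩

set_option maxRecDepth 100000 in
theorem t_liftable : (CoxeterMatrix.A 5).IsLiftable t := by
  unfold CoxeterMatrix.IsLiftable
  decide +kernel

set_option maxRecDepth 100000 in
theorem t01_entry : ((t 0 * t 1 : symplecticGroup (Fin 2) (ZMod 2)) :
    Matrix (Fin 2 ⊕ Fin 2) (Fin 2 ⊕ Fin 2) (ZMod 2)) (Sum.inl 1) (Sum.inr 1) = 1 := by
  decide +kernel

section transfer

variable {F : Type*} [Field F] (f : ZMod 2 →+* F)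

/-- map of symplectic groups induced by a ring hom -/
def spMap : symplecticGroup (Fin 2) (ZMod 2) →* symplecticGroup (Fin 2) F where
  toFun A := ⟨f.mapMatrix A.1, by
    have h := (SymplecticGroup.mem_iff).mp A.2
    rw [SymplecticGroup.mem_iff]
    have hJ : J (Fin 2) F = f.mapMatrix (J (Fin 2) (ZMod 2)) := by
      rw [RingHom.mapMatrix_apply, Matrix.map_J]
    rw [hJ, RingHom.mapMatrix_apply, RingHom.mapMatrix_apply, ← Matrix.transpose_map,
      ← Matrix.map_mul, ← Matrix.map_mul, h]⟩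
  map_one' := Subtype.ext (map_one f.mapMatrix)
  map_mul' a b := Subtype.ext (map_mul f.mapMatrix a.1 b.1)

theorem coe_spMap (A : symplecticGroup (Fin 2) (ZMod 2)) :
    ((spMap f A : symplecticGroup (Fin 2) F) : Matrix (Fin 2 ⊕ Fin 2) (Fin 2 ⊕ Fin 2) F) =
      f.mapMatrix A.1 := rfl

end transfer

/-- Sp_4(2) is isomorphic to the symmetric group S_6. -/
theorem result {F : Type*} [Field F] [Fintype F] (hF : Fintype.card F = 2) : Nonempty (Matrix.symplecticGroup (Fin 2) F ≃* Equiv.Perm (Fin 6)) := by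
  classical
  have hcard : Nat.card (Matrix.symplecticGroup (Fin 2) F) = 720 := by
    rw [Cfsg.Agent.S0245.result hF 2]
    norm_num [Finset.prod_range_succ]
  have hfin : Finite (Matrix.symplecticGroup (Fin 2) F) :=
    Nat.finite_of_card_ne_zero (by rw [hcard]; norm_num)
  let f2 : ZMod 2 →+* F := (ZMod.ringEquivOfPrime F (by norm_num) hF).toRingHom
  obtain ⟨cs, hcs⟩ := Cfsg.Agent.S2530.result 5
  have hlift : (CoxeterMatrix.A 5).IsLiftable (fun i => spMap f2 (t i)) := fun i j => by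
    rw [← map_mul, ← map_pow, t_liftable i j, map_one]
  let φ : Equiv.Perm (Fin 6) →* Matrix.symplecticGroup (Fin 2) F := cs.lift ⟨_, hlift⟩
  have hφ : ∀ i, φ (cs.simple i) = spMap f2 (t i) := fun i => cs.lift_apply_simple hlift i
  have hker : φ.ker = ⊥ := by
    by_contra hne
    have hnt : Nontrivial φ.ker := (Subgroup.nontrivial_iff_ne_bot _).mpr hne
    have hA := Equiv.Perm.alternatingGroup_le_of_normal (α := Fin 6) (by simp) hnt
    have hmem : cs.simple 0 * cs.simple 1 ∈ alternatingGroup (Fin 6) := by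
      rw [hcs, hcs, Equiv.Perm.mem_alternatingGroup, map_mul, Equiv.Perm.sign_swap,
        Equiv.Perm.sign_swap]
      · rfl
      · decide
      · decide
    have h1 := hA hmem
    rw [MonoidHom.mem_ker, map_mul, hφ, hφ, ← map_mul] at h1
    have h2 := congrArg (fun A : Matrix.symplecticGroup (Fin 2) F =>
      (A : Matrix (Fin 2 ⊕ Fin 2) (Fin 2 ⊕ Fin 2) F) (Sum.inl 1) (Sum.inr 1)) h1
    simp only [coe_spMap, RingHom.mapMatrix_apply, Matrix.map_apply, t01_entry, map_one] at h2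
    have h3 : ((1 : Matrix.symplecticGroup (Fin 2) F) :
        Matrix (Fin 2 ⊕ Fin 2) (Fin 2 ⊕ Fin 2) F) (Sum.inl 1) (Sum.inr 1) = 0 := by
      show (1 : Matrix (Fin 2 ⊕ Fin 2) (Fin 2 ⊕ Fin 2) F) (Sum.inl 1) (Sum.inr 1) = 0
      simp
    rw [h3] at h2
    exact one_ne_zero h2
  have hinj : Function.Injective φ := (MonoidHom.ker_eq_bot_iff φ).mp hker
  have hbij : Function.Bijective φ := by
    rw [Nat.bijective_iff_injective_and_card]
    refine ⟨hinj, ?_⟩
    rw [hcard, Nat.card_eq_fintype_card, Fintype.card_perm, Fintype.card_fin]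
    rfl
  exact ⟨(MulEquiv.ofBijective φ hbij).symm⟩

end Cfsg.Agent.S0247
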