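import Cfsg.Statements.S0253
import Cfsg.Agent.S3377
import Cfsg.Agent.Lib_helper12_Card
import Cfsg.Agent.Lib_helper2_Classical

set_option autoImplicit false
open Cfsg

namespace Cfsg.Agent.S0253

open Matrix

variable {F : Type*} [Field F]

/-- the element of order 3 -/
def xS : SpecialLinearGroup (Fin 2) F := ⟨!![0, -1; 1, -1], by simp [det_fin_two_of]⟩
/-- the element of order 5 -/
def yS : SpecialLinearGroup (Fin 2) F := ⟨!![1, 1; 0, 1], by simp [det_fin_two_of]⟩

theorem coe_xS : ((xS : SpecialLinearGroup (Fin 2) F) : Matrix (Fin 2) (Fin 2) F) = !![0, -1; 1, -1] := rfl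
theorem coe_yS : ((yS : SpecialLinearGroup (Fin 2) F) : Matrix (Fin 2) (Fin 2) F) = !![1, 1; 0, 1] := rfl

theorem sl_ext {A B : SpecialLinearGroup (Fin 2) F}
    (h : (A : Matrix (Fin 2) (Fin 2) F) = (B : Matrix (Fin 2) (Fin 2) F)) : A = B :=
  Subtype.ext h

theorem xS_pow : (xS : SpecialLinearGroup (Fin 2) F) ^ 3 = 1 := by
  apply sl_ext
  rw [Matrix.SpecialLinearGroup.coe_pow, coe_xS, Matrix.SpecialLinearGroup.coe_one]
  ext i j
  fin_cases i <;> fin_cases j <;> simp [pow_succ, Matrix.mul_apply, Fin.sum_univ_two]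

theorem yS_pow (h5 : (5 : F) = 0) : (yS : SpecialLinearGroup (Fin 2) F) ^ 5 = 1 := by
  apply sl_ext
  rw [Matrix.SpecialLinearGroup.coe_pow, coe_yS, Matrix.SpecialLinearGroup.coe_one]
  ext i j
  fin_cases i <;> fin_cases j <;> simp [pow_succ, Matrix.mul_apply, Fin.sum_univ_two]
  rw [← h5]
  ring

theorem xy_sq : ((xS * yS : SpecialLinearGroup (Fin 2) F) ^ 2 : SpecialLinearGroup (Fin 2) F) = -1 := by
  apply sl_ext
  rw [Matrix.SpecialLinearGroup.coe_pow, Matrix.SpecialLinearGroup.coe_mul, coe_xS, coe_yS,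
    Matrix.SpecialLinearGroup.coe_neg, Matrix.SpecialLinearGroup.coe_one]
  ext i j
  fin_cases i <;> fin_cases j <;> simp [pow_succ, Matrix.mul_apply, Fin.sum_univ_two]

theorem neg_one_mem_center :
    (-1 : SpecialLinearGroup (Fin 2) F) ∈ Subgroup.center (SpecialLinearGroup (Fin 2) F) := by
  rw [Matrix.SpecialLinearGroup.mem_center_iff]
  refine ⟨-1, by simp, ?_⟩
  rw [Matrix.SpecialLinearGroup.coe_neg, Matrix.SpecialLinearGroup.coe_one]
  ext i j
  fin_cases i <;> fin_cases j <;> simp [Matrix.scalar_apply]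

theorem xS_not_mem_center :
    (xS : SpecialLinearGroup (Fin 2) F) ∉ Subgroup.center (SpecialLinearGroup (Fin 2) F) := by
  rw [Matrix.SpecialLinearGroup.mem_center_iff]
  rintro ⟨r, -, hr⟩
  have := congrFun (congrFun hr 1) 0
  rw [coe_xS] at this
  simp [Matrix.scalar_apply] at this

/-- PSL_2(5) is isomorphic to A_5. -/
theorem result {F : Type*} [Field F] [Fintype F] (hF : Fintype.card F = 5) : Nonempty (Matrix.ProjectiveSpecialLinearGroup (Fin 2) F ≃* alternatingGroup (Fin 5)) := by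
  classical
  have h5 : (5 : F) = 0 := by
    have := Nat.cast_card_eq_zero F
    rw [hF] at this
    exact_mod_cast this
  obtain ⟨e⟩ := Cfsg.Agent.S3377.result
  let x : Matrix.ProjectiveSpecialLinearGroup (Fin 2) F := QuotientGroup.mk xS
  let y : Matrix.ProjectiveSpecialLinearGroup (Fin 2) F := QuotientGroup.mk yS
  have hx3 : x ^ 3 = 1 := by
    show (QuotientGroup.mk xS : Matrix.ProjectiveSpecialLinearGroup (Fin 2) F) ^ 3 = 1
    rw [← QuotientGroup.mk_pow, xS_pow]
    rfl
  have hy5 : y ^ 5 = 1 := by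
    show (QuotientGroup.mk yS : Matrix.ProjectiveSpecialLinearGroup (Fin 2) F) ^ 5 = 1
    rw [← QuotientGroup.mk_pow, yS_pow h5]
    rfl
  have hxy : (x * y) ^ 2 = 1 := by
    show ((QuotientGroup.mk xS : Matrix.ProjectiveSpecialLinearGroup (Fin 2) F) *
      QuotientGroup.mk yS) ^ 2 = 1
    rw [← QuotientGroup.mk_mul, ← QuotientGroup.mk_pow, xy_sq, QuotientGroup.eq_one_iff]
    exact neg_one_mem_center
  have hx1 : x ≠ 1 := by
    intro h
    rw [QuotientGroup.eq_one_iff] at h
    exact xS_not_mem_center h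
  let f : Fin 2 → Matrix.ProjectiveSpecialLinearGroup (Fin 2) F := ![x, y]
  have hrel : ∀ r ∈ ({FreeGroup.of (0 : Fin 2) ^ 3, FreeGroup.of (1 : Fin 2) ^ 5,
        (FreeGroup.of (0 : Fin 2) * FreeGroup.of 1) ^ 2} : Set (FreeGroup (Fin 2))),
      FreeGroup.lift f r = 1 := by
    intro r hr
    rcases hr with rfl | rfl | rfl
    · rw [map_pow, FreeGroup.lift_apply_of]
      exact hx3
    · rw [map_pow, FreeGroup.lift_apply_of]
      exact hy5
    · rw [map_pow, map_mul, FreeGroup.lift_apply_of, FreeGroup.lift_apply_of]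
      exact hxy
  let φ := PresentedGroup.toGroup hrel
  let ψ : alternatingGroup (Fin 5) →* Matrix.ProjectiveSpecialLinearGroup (Fin 2) F :=
    φ.comp e.symm.toMonoidHom
  have hψx : ψ (e (PresentedGroup.of 0)) = x := by
    show φ (e.symm (e (PresentedGroup.of 0))) = x
    rw [MulEquiv.symm_apply_apply, PresentedGroup.toGroup.of]
    rfl
  have : IsSimpleGroup (alternatingGroup (Fin 5)) := alternatingGroup.isSimpleGroup (by simp)
  have hker : ψ.ker = ⊥ := by
    rcases ψ.normal_ker.eq_bot_or_eq_top with h | h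
    · exact h
    · exfalso
      apply hx1
      rw [← hψx, ← MonoidHom.mem_ker, h]
      trivial
  have hinj : Function.Injective ψ := (MonoidHom.ker_eq_bot_iff ψ).mp hker
  have hcardA : Nat.card (alternatingGroup (Fin 5)) = 60 := by
    rw [nat_card_alternatingGroup, Nat.card_eq_fintype_card, Fintype.card_fin]
    rfl
  have hcardP : Nat.card (Matrix.ProjectiveSpecialLinearGroup (Fin 2) F) = 60 := by
    have h1 := Cfsg.Agent.helper2.card_SL_eq_card_PSL_mul (F := F) 2
    rw [Cfsg.Agent.helper12.card_SL2, Cfsg.Agent.helper2.card_center_SL 2 (by norm_num), hF] at h1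
    have : Nat.gcd (5 - 1) 2 = 2 := by decide
    rw [this] at h1
    omega
  have hbij : Function.Bijective ψ :=
    (Nat.bijective_iff_injective_and_card ψ).mpr ⟨hinj, by rw [hcardA, hcardP]⟩
  exact ⟨(MulEquiv.ofBijective ψ hbij).symm⟩

end Cfsg.Agent.S0253
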