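import Cfsg.Statements.S0257
import Cfsg.Agent.S0261
import Cfsg.Agent.Lib_helper2_Classical
import Cfsg.Agent.Lib_helper12_Card

set_option autoImplicit false
open Cfsg

namespace Cfsg.Agent.S0257

set_option maxRecDepth 100000 in
theorem zmod3_closed : ∀ g h : Matrix.SpecialLinearGroup (Fin 2) (ZMod 3),
    g ^ 4 = 1 → h ^ 4 = 1 → (g * h) ^ 4 = 1 := by decide +kernel

set_option maxRecDepth 100000 in
theorem zmod3_pow8 : ∀ g : Matrix.SpecialLinearGroup (Fin 2) (ZMod 3),
    g ^ 8 = 1 → g ^ 4 = 1 := by decide +kernel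

theorem map_injective {R S : Type*} [CommRing R] [CommRing S] (f : R →+* S)
    (hf : Function.Injective f) :
    Function.Injective (Matrix.SpecialLinearGroup.map (n := Fin 2) f) := by
  intro g h hgh
  ext i j
  have := congrArg (fun x : Matrix.SpecialLinearGroup (Fin 2) S =>
    (x : Matrix (Fin 2) (Fin 2) S) i j) hgh
  simp only [Matrix.SpecialLinearGroup.map_apply_coe, RingHom.mapMatrix_apply,
    Matrix.map_apply] at this
  exact hf this

/-- SL_2(3) has a normal subgroup of index 3 isomorphic to the quaternion group of order 8, and its centre has order 2. -/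
theorem result {F : Type*} [Field F] [Fintype F] (hF : Fintype.card F = 3) : (∃ Q : Subgroup (Matrix.SpecialLinearGroup (Fin 2) F), Q.Normal ∧ Q.index = 3 ∧ Nonempty (Q ≃* QuaternionGroup 2)) ∧ Nat.card (Subgroup.center (Matrix.SpecialLinearGroup (Fin 2) F)) = 2 := by
  classical
  refine ⟨?_, ?_⟩
  swap
  · rw [Cfsg.Agent.helper2.card_center_SL 2 (by norm_num), hF]
    rfl
  have hodd : Odd (Fintype.card F) := by rw [hF]; decide
  let e : F →+* ZMod 3 := (ZMod.ringEquivOfPrime F Nat.prime_three hF).symm.toRingHom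
  have he : Function.Injective e := (ZMod.ringEquivOfPrime F Nat.prime_three hF).symm.injective
  let φ := Matrix.SpecialLinearGroup.map (n := Fin 2) e
  have hφ : Function.Injective φ := map_injective e he
  have closed : ∀ g h : Matrix.SpecialLinearGroup (Fin 2) F,
      g ^ 4 = 1 → h ^ 4 = 1 → (g * h) ^ 4 = 1 := by
    intro g h hg hh
    apply hφ
    rw [map_pow, map_mul, map_one]
    apply zmod3_closed
    · rw [← map_pow, hg, map_one]
    · rw [← map_pow, hh, map_one]
  have pow8 : ∀ g : Matrix.SpecialLinearGroup (Fin 2) F, g ^ 8 = 1 → g ^ 4 = 1 := by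
    intro g hg
    apply hφ
    rw [map_pow, map_one]
    apply zmod3_pow8
    rw [← map_pow, hg, map_one]
  let T : Subgroup (Matrix.SpecialLinearGroup (Fin 2) F) :=
    { carrier := {g | g ^ 4 = 1}
      mul_mem' := fun {g h} hg hh => closed g h hg hh
      one_mem' := one_pow 4
      inv_mem' := fun {g} hg => by
        change g⁻¹ ^ 4 = 1
        rw [inv_pow, hg, inv_one] }
  have hTmem : ∀ g, g ∈ T ↔ g ^ 4 = 1 := fun g => Iff.rfl
  have hTnormal : T.Normal := by
    constructor
    intro g hg c
    rw [hTmem] at hg ⊢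
    rw [conj_pow, hg, mul_one, mul_inv_cancel]
  have hcard : Nat.card (Matrix.SpecialLinearGroup (Fin 2) F) = 24 := by
    rw [Cfsg.Agent.helper12.card_SL2, hF]
    rfl
  have hfac : (24 : ℕ).factorization 2 = 3 := by
    have : (24 : ℕ) = 2 ^ 3 * 3 := by norm_num
    rw [this, Nat.factorization_mul (by norm_num) (by norm_num), Finsupp.add_apply,
      Nat.prime_two.factorization_pow, Finsupp.single_eq_same,
      Nat.factorization_eq_zero_of_not_dvd (by norm_num)]
  obtain ⟨P⟩ := (inferInstance : Nonempty (Sylow 2 (Matrix.SpecialLinearGroup (Fin 2) F)))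
  have hPcard : Nat.card (P : Subgroup (Matrix.SpecialLinearGroup (Fin 2) F)) = 8 := by
    rw [Sylow.card_eq_multiplicity, hcard, hfac]
    norm_num
  have hPT : (P : Subgroup (Matrix.SpecialLinearGroup (Fin 2) F)) ≤ T := by
    intro g hg
    rw [hTmem]
    apply pow8
    have : (⟨g, hg⟩ : (P : Subgroup (Matrix.SpecialLinearGroup (Fin 2) F))) ^ 8 = 1 := by
      rw [← hPcard]
      exact pow_card_eq_one'
    have := congrArg Subtype.val this
    simpa using this
  have hT2 : IsPGroup 2 T := by
    intro g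
    refine ⟨2, ?_⟩
    apply Subtype.ext
    have := (hTmem g.1).mp g.2
    simpa using this
  have hTP : T = (P : Subgroup (Matrix.SpecialLinearGroup (Fin 2) F)) := P.is_maximal' hT2 hPT
  refine ⟨(P : Subgroup (Matrix.SpecialLinearGroup (Fin 2) F)), ?_, ?_, ?_⟩
  · rw [← hTP]
    exact hTnormal
  · have := Subgroup.card_mul_index (P : Subgroup (Matrix.SpecialLinearGroup (Fin 2) F))
    rw [hPcard, hcard] at this
    omega
  · obtain ⟨k, hk, ⟨ek⟩⟩ := Cfsg.Agent.S0261.result hodd P
    have hc := Nat.card_congr ek.toEquiv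
    have hk0 : NeZero (2 ^ k) := ⟨by positivity⟩
    rw [hPcard, Nat.card_eq_fintype_card, QuaternionGroup.card] at hc
    have hk1 : k = 1 := by
      have h2 : 2 ^ k = 2 ^ 1 := by omega
      exact Nat.pow_right_injective (le_refl 2) h2
    subst hk1
    exact ⟨ek⟩

end Cfsg.Agent.S0257
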