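import Cfsg.Statements.S0263
import Mathlib

set_option autoImplicit false
open Cfsg

namespace Cfsg.Agent.S0263

/-- A Sylow p-subgroup of GL_n(q), p the characteristic, has order q^(n(n-1)/2). -/
theorem result {F : Type*} [Field F] [Fintype F] {q : ℕ} (hF : Fintype.card F = q) (p : ℕ) [Fact p.Prime] [CharP F p] (n : ℕ) (P : Sylow p (Matrix.GeneralLinearGroup (Fin n) F)) : Nat.card P = q ^ (n * (n - 1) / 2) := by
  classical
  have hp : p.Prime := Fact.out
  obtain ⟨f, _, hqf⟩ := FiniteField.card F p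
  rw [hF] at hqf
  have hf : (f : ℕ) ≠ 0 := f.ne_zero
  have hq0 : 0 < q := by rw [hqf]; exact pow_pos hp.pos _
  rw [Sylow.card_eq_multiplicity, Matrix.card_GL_field, hF]
  set e := n * (n - 1) / 2 with he
  set M := ∏ i : Fin n, (q ^ (n - (i : ℕ)) - 1) with hM
  have key : ∏ i : Fin n, (q ^ n - q ^ (i : ℕ)) = q ^ e * M := by
    have h1 : ∀ i : Fin n, q ^ n - q ^ (i : ℕ) = q ^ (i : ℕ) * (q ^ (n - (i : ℕ)) - 1) := by
      intro i
      rw [Nat.mul_sub, mul_one, ← pow_add, Nat.add_sub_cancel' i.2.le]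
    rw [Finset.prod_congr rfl (fun i _ => h1 i), Finset.prod_mul_distrib,
      Finset.prod_pow_eq_pow_sum, Fin.sum_univ_eq_sum_range (fun i => i) n, Finset.sum_range_id]
  have hMdvd : ¬ p ∣ M := by
    intro h
    rw [hM, Prime.dvd_finset_prod_iff hp.prime] at h
    obtain ⟨i, _, hi⟩ := h
    have hpos : n - (i : ℕ) ≠ 0 := by have := i.2; omega
    have h2 : p ∣ q ^ (n - (i : ℕ)) := by
      rw [hqf, ← pow_mul]
      exact dvd_pow_self p (mul_ne_zero hf hpos)
    have h3 : 1 ≤ q ^ (n - (i : ℕ)) := Nat.one_le_pow _ _ hq0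
    have h4 : p ∣ 1 := by
      have := Nat.dvd_sub h2 hi
      rwa [Nat.sub_sub_self h3] at this
    exact hp.one_lt.ne' (Nat.dvd_one.mp h4)
  have hM0 : M ≠ 0 := fun h => hMdvd (h ▸ dvd_zero p)
  have hqe0 : q ^ e ≠ 0 := (pow_pos hq0 e).ne'
  rw [key, Nat.factorization_mul hqe0 hM0, Finsupp.add_apply,
    Nat.factorization_eq_zero_of_not_dvd hMdvd, add_zero, hqf, ← pow_mul,
    hp.factorization_pow, Finsupp.single_eq_same]

end Cfsg.Agent.S0263
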