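import Mathlib
import Cfsg.Statements.S0264
import Cfsg.Agent.Lib_helper2_SLn
import Cfsg.Agent.Lib_helper2_Classical

set_option autoImplicit false
open Cfsg

namespace Cfsg.Agent.S0264

open Cfsg.Agent.helper2
open Matrix

theorem SL_subsingleton_of_le_one {F : Type*} [Field F] (n : ℕ) (hn : n ≤ 1) :
    Subsingleton (SpecialLinearGroup (Fin n) F) := by
  constructor
  intro A B
  apply Subtype.ext
  ext i j
  have hn1 : n = 1 := by
    have := i.2
    omega
  subst hn1
  have hi : i = 0 := Subsingleton.elim _ _
  have hj : j = 0 := Subsingleton.elim _ _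
  subst hi hj
  have hA := A.2
  have hB := B.2
  rw [Matrix.det_fin_one] at hA hB
  rw [hA, hB]

theorem result {F : Type*} [Field F] (n : ℕ) (h : n = 2 → ∃ a : F, a ≠ 0 ∧ a ≠ 1) : commutator (Matrix.GeneralLinearGroup (Fin n) F) = (Matrix.GeneralLinearGroup.det : Matrix.GeneralLinearGroup (Fin n) F →* Fˣ).ker := by
  apply le_antisymm
  · exact Abelianization.commutator_subset_ker _
  · rw [← range_toGL_eq_ker_det]
    rintro _ ⟨A, rfl⟩
    rcases Nat.lt_or_ge n 2 with hn | hn
    · have := SL_subsingleton_of_le_one (F := F) n (by omega)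
      rw [Subsingleton.elim A 1, map_one]
      exact one_mem _
    · rcases Nat.eq_or_lt_of_le hn with hn2 | hn3
      · obtain ⟨a, ha, ha1⟩ := h hn2.symm
        have : Nontrivial (Fin n) := Fin.nontrivial_iff_two_le.mpr hn
        exact toGL_mem_commutator_of_field a ha ha1 A
      · exact toGL_mem_commutator_of_three (by rw [Fintype.card_fin]; omega) A

end Cfsg.Agent.S0264
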