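import Cfsg.Statements.S0266
import Cfsg.Agent.Lib_helper11_P1

set_option autoImplicit false
open Cfsg

namespace Cfsg.Agent.S0266

open Cfsg.Agent.helper11.P1

theorem mk_smul' {F : Type*} [Field F] (g : GL (Fin 2) F) (p : Projectivization F (Fin 2 → F)) :
    (Matrix.ProjGenLinGroup.mk g : Matrix.ProjGenLinGroup (Fin 2) F) • p = g • p := rfl

/-- PGL_2(F) is sharply 3-transitive on the projective line: it is 3-transitive and the stabiliser of three distinct points is trivial. -/
theorem result {F : Type*} [Field F] : MulAction.IsMultiplyPretransitive (Matrix.ProjGenLinGroup (Fin 2) F) (Projectivization F (Fin 2 → F)) 3 ∧ ∀ (g : Matrix.ProjGenLinGroup (Fin 2) F) (a b c : Projectivization F (Fin 2 → F)), a ≠ b → a ≠ c → b ≠ c → g • a = a → g • b = b → g • c = c → g = 1 := by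
  constructor
  · rw [MulAction.isMultiplyPretransitive_iff]
    intro x y
    obtain ⟨gx, hx0, hx1, hx2⟩ := exists_GL_std (x 0) (x 1) (x 2)
      (x.injective.ne (by decide)) (x.injective.ne (by decide)) (x.injective.ne (by decide))
    obtain ⟨gy, hy0, hy1, hy2⟩ := exists_GL_std (y 0) (y 1) (y 2)
      (y.injective.ne (by decide)) (y.injective.ne (by decide)) (y.injective.ne (by decide))
    refine ⟨Matrix.ProjGenLinGroup.mk (gy * gx⁻¹), ?_⟩
    ext i
    rw [Function.Embedding.smul_apply, mk_smul', mul_smul]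
    fin_cases i
    · change gy • gx⁻¹ • x 0 = y 0
      rw [← hx0, inv_smul_smul, hy0]
    · change gy • gx⁻¹ • x 1 = y 1
      rw [← hx1, inv_smul_smul, hy1]
    · change gy • gx⁻¹ • x 2 = y 2
      rw [← hx2, inv_smul_smul, hy2]
  · intro g a b c hab hac hbc ha hb hc
    induction g using Matrix.ProjGenLinGroup.induction_on with | mk g =>
    rw [mk_smul'] at ha hb hc
    obtain ⟨h, h0, h1, h2⟩ := exists_GL_std a b c hab hac hbc
    have k0 : (h⁻¹ * g * h) • (pInf : Projectivization F (Fin 2 → F)) = pInf := by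
      rw [mul_smul, mul_smul, h0, ha, ← h0, inv_smul_smul]
    have k1 : (h⁻¹ * g * h) • (pZero : Projectivization F (Fin 2 → F)) = pZero := by
      rw [mul_smul, mul_smul, h1, hb, ← h1, inv_smul_smul]
    have k2 : (h⁻¹ * g * h) • (pOne : Projectivization F (Fin 2 → F)) = pOne := by
      rw [mul_smul, mul_smul, h2, hc, ← h2, inv_smul_smul]
    obtain ⟨s, hs⟩ := scalar_of_fix_std _ k0 k1 k2
    have := Matrix.ProjGenLinGroup.mk_scalar (n := Fin 2) s
    rw [← hs, map_mul, map_mul, map_inv] at this
    -- mk h⁻¹ * mk g * mk h = 1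
    have e : Matrix.ProjGenLinGroup.mk g =
        Matrix.ProjGenLinGroup.mk h * ((Matrix.ProjGenLinGroup.mk h)⁻¹ *
          Matrix.ProjGenLinGroup.mk g * Matrix.ProjGenLinGroup.mk h) *
          (Matrix.ProjGenLinGroup.mk h)⁻¹ := by group
    rw [e, this, mul_one, mul_inv_cancel]

end Cfsg.Agent.S0266
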