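import Cfsg.Statements.S0267
import Cfsg.Agent.Lib_helper11_P1

set_option autoImplicit false
open Cfsg

namespace Cfsg.Agent.S0267

open Cfsg.Agent.helper11.P1 Projectivization

variable {F : Type*} [Field F]

theorem SL_smul_mk (g : Matrix.SpecialLinearGroup (Fin 2) F) (v : Fin 2 → F) (hv : v ≠ 0) :
    g • mk F v hv = mk F ((g : Matrix (Fin 2) (Fin 2) F).mulVec v)
      ((smul_ne_zero_iff_ne g).mpr hv) := rfl

theorem det2_eq_zero_of_eq {x y : Fin 2 → F} (hx : x ≠ 0) (hy : y ≠ 0)
    (h : mk F x hx = mk F y hy) : det2 x y = 0 := by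
  rw [mk_eq_mk_iff'] at h
  obtain ⟨a, rfl⟩ := h
  unfold det2
  simp only [Pi.smul_apply, smul_eq_mul]
  ring

theorem one_delta_ne_zero (δ : F) : (![1, δ] : Fin 2 → F) ≠ 0 := by
  intro h
  have := congrFun h 0
  simp at this

theorem inj3 {α : Type*} (a b c : α) (hab : a ≠ b) (hac : a ≠ c) (hbc : b ≠ c) :
    Function.Injective ![a, b, c] := by
  intro i j h
  fin_cases i <;> fin_cases j <;> simp_all

theorem forward [Fintype F] (hchar : ringChar F = 2) :
    MulAction.IsMultiplyPretransitive (Matrix.SpecialLinearGroup (Fin 2) F)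
      (Projectivization F (Fin 2 → F)) 3 := by
  rw [MulAction.isMultiplyPretransitive_iff]
  intro x y
  obtain ⟨gx, hx0, hx1, hx2⟩ := exists_GL_std (x 0) (x 1) (x 2)
    (x.injective.ne (by decide)) (x.injective.ne (by decide)) (x.injective.ne (by decide))
  obtain ⟨gy, hy0, hy1, hy2⟩ := exists_GL_std (y 0) (y 1) (y 2)
    (y.injective.ne (by decide)) (y.injective.ne (by decide)) (y.injective.ne (by decide))
  set g₀ : GL (Fin 2) F := gy * gx⁻¹ with hg₀
  have hg : ∀ i, g₀ • x i = y i := by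
    intro i
    rw [hg₀, mul_smul]
    fin_cases i
    · change gy • gx⁻¹ • x 0 = y 0
      rw [← hx0, inv_smul_smul, hy0]
    · change gy • gx⁻¹ • x 1 = y 1
      rw [← hx1, inv_smul_smul, hy1]
    · change gy • gx⁻¹ • x 2 = y 2
      rw [← hx2, inv_smul_smul, hy2]
  obtain ⟨ε, hε⟩ := FiniteField.isSquare_of_char_two hchar
    ((g₀ : Matrix (Fin 2) (Fin 2) F).det)
  have hdet0 : (g₀ : Matrix (Fin 2) (Fin 2) F).det ≠ 0 := by
    have := (Matrix.isUnit_iff_isUnit_det _).mp g₀.isUnit
    exact this.ne_zero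
  have hε0 : ε ≠ 0 := by
    rintro rfl
    rw [mul_zero] at hε
    exact hdet0 hε
  have hdet : (ε⁻¹ • (g₀ : Matrix (Fin 2) (Fin 2) F)).det = 1 := by
    rw [Matrix.det_smul, Fintype.card_fin, hε]
    field_simp
  obtain ⟨s, hs⟩ : ∃ s : Matrix.SpecialLinearGroup (Fin 2) F,
      (s : Matrix (Fin 2) (Fin 2) F) = ε⁻¹ • (g₀ : Matrix (Fin 2) (Fin 2) F) :=
    ⟨⟨_, hdet⟩, rfl⟩
  refine ⟨s, ?_⟩
  ext i
  rw [Function.Embedding.smul_apply, ← hg i]
  generalize x i = p
  induction p using Projectivization.ind with | h v hv =>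
  rw [SL_smul_mk, GL_smul_mk, mk_eq_mk_iff']
  refine ⟨ε⁻¹, ?_⟩
  rw [hs, Matrix.smul_mulVec]

theorem backward [Fintype F] (hchar : ringChar F ≠ 2) :
    ¬ MulAction.IsMultiplyPretransitive (Matrix.SpecialLinearGroup (Fin 2) F)
      (Projectivization F (Fin 2 → F)) 3 := by
  rw [MulAction.isMultiplyPretransitive_iff]
  intro h
  obtain ⟨δ, hδ⟩ := FiniteField.exists_nonsquare hchar
  have hδ0 : δ ≠ 0 := by
    rintro rfl
    exact hδ ⟨0, by simp⟩
  set pδ : Projectivization F (Fin 2 → F) := mk F ![1, δ] (one_delta_ne_zero δ) with hpδ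
  have n1 : (pInf : Projectivization F (Fin 2 → F)) ≠ pZero := by
    intro h
    have := det2_eq_zero_of_eq _ _ h
    simp [det2] at this
  have n2 : (pInf : Projectivization F (Fin 2 → F)) ≠ pOne := by
    intro h
    have := det2_eq_zero_of_eq _ _ h
    simp [det2] at this
  have n3 : (pZero : Projectivization F (Fin 2 → F)) ≠ pOne := by
    intro h
    have := det2_eq_zero_of_eq _ _ h
    simp [det2] at this
  have n4 : (pInf : Projectivization F (Fin 2 → F)) ≠ pδ := by
    intro h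
    have := det2_eq_zero_of_eq _ _ h
    simp [det2] at this
    exact hδ0 this
  have n5 : (pZero : Projectivization F (Fin 2 → F)) ≠ pδ := by
    intro h
    have := det2_eq_zero_of_eq _ _ h
    simp [det2] at this
  let x : Fin 3 ↪ Projectivization F (Fin 2 → F) := ⟨![pInf, pZero, pOne], inj3 _ _ _ n1 n2 n3⟩
  let y : Fin 3 ↪ Projectivization F (Fin 2 → F) := ⟨![pInf, pZero, pδ], inj3 _ _ _ n1 n4 n5⟩
  obtain ⟨g, hg⟩ := h x y
  have h0 : g • (pInf : Projectivization F (Fin 2 → F)) = pInf := by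
    have := congrArg (fun e : Fin 3 ↪ Projectivization F (Fin 2 → F) => e 0) hg
    simpa [x, y, Function.Embedding.smul_apply] using this
  have h1 : g • (pZero : Projectivization F (Fin 2 → F)) = pZero := by
    have := congrArg (fun e : Fin 3 ↪ Projectivization F (Fin 2 → F) => e 1) hg
    simpa [x, y, Function.Embedding.smul_apply] using this
  have h2 : g • (pOne : Projectivization F (Fin 2 → F)) = pδ := by
    have := congrArg (fun e : Fin 3 ↪ Projectivization F (Fin 2 → F) => e 2) hg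
    simpa [x, y, Function.Embedding.smul_apply] using this
  rw [pInf, SL_smul_mk, mk_eq_mk_iff'] at h0
  rw [pZero, SL_smul_mk, mk_eq_mk_iff'] at h1
  rw [pOne, hpδ, SL_smul_mk, mk_eq_mk_iff'] at h2
  obtain ⟨a, ha⟩ := h0
  obtain ⟨b, hb⟩ := h1
  obtain ⟨c, hc⟩ := h2
  have ha0 := congrFun ha 0
  have ha1 := congrFun ha 1
  have hb0 := congrFun hb 0
  have hb1 := congrFun hb 1
  have hc0 := congrFun hc 0
  have hc1 := congrFun hc 1
  simp [Matrix.mulVec, dotProduct, Fin.sum_univ_two] at ha0 ha1 hb0 hb1 hc0 hc1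
  have hdet := g.2
  rw [Matrix.det_fin_two, ← ha0, ← ha1, ← hb0, ← hb1] at hdet
  rw [← ha0, ← hb0] at hc0
  rw [← ha1, ← hb1] at hc1
  simp at hc0 hc1 hdet
  -- c = a, c * δ = b, a * b = 1
  apply hδ
  have ha_ne : a ≠ 0 := by
    rintro rfl
    simp at hdet
  refine ⟨a⁻¹, ?_⟩
  rw [← hc1, hc0] at hdet
  field_simp
  linear_combination hdet

/-- SL_2(q) is 3-transitive on the q+1 points of the projective line if and only if q is even. -/
theorem result {F : Type*} [Field F] [Fintype F] : MulAction.IsMultiplyPretransitive (Matrix.SpecialLinearGroup (Fin 2) F) (Projectivization F (Fin 2 → F)) 3 ↔ ringChar F = 2 := by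
  constructor
  · intro h
    by_contra hne
    exact backward hne h
  · exact forward

end Cfsg.Agent.S0267
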