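import Mathlib
import Cfsg.Statements.S0268

set_option autoImplicit false
open Cfsg

namespace Cfsg.Agent.S0268

theorem two_ne_zero_of_odd {F : Type*} [Field F] [Fintype F] (hF : Odd (Fintype.card F)) : (2 : F) ≠ 0 := by
  intro h
  have h1 : ringChar F ∣ 2 := (ringChar.spec F 2).mp (by exact_mod_cast h)
  have h2 : ringChar F = 2 := by
    rcases (Nat.dvd_prime Nat.prime_two).mp h1 with h3 | h3
    · exact absurd h3 (CharP.ringChar_ne_one)
    · exact h3
  have h3 := FiniteField.even_card_of_char_two h2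
  rw [Nat.odd_iff] at hF
  omega

theorem field_lemma {F : Type*} [Field F] (a b c d : F) (h2F : (2 : F) ≠ 0) (hdet : a * d - b * c = 1)
    (e00 : a * a + b * c = 1) (e01 : a * b + b * d = 0) (e10 : c * a + d * c = 0)
    (e11 : c * b + d * d = 1) :
    (a = 1 ∧ b = 0 ∧ c = 0 ∧ d = 1) ∨ (a = -1 ∧ b = 0 ∧ c = 0 ∧ d = -1) := by
  by_cases hs : a + d = 0
  · exfalso
    have hd : d = -a := by linear_combination hs
    subst hd
    apply h2F
    linear_combination (-1 : F) * (e00 + hdet)
  · have hb : b = 0 := by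
      have : b * (a + d) = 0 := by linear_combination e01
      rcases mul_eq_zero.mp this with h | h
      · exact h
      · exact absurd h hs
    have hc : c = 0 := by
      have : c * (a + d) = 0 := by linear_combination e10
      rcases mul_eq_zero.mp this with h | h
      · exact h
      · exact absurd h hs
    subst hb hc
    simp only [mul_zero, add_zero, zero_mul, sub_zero, zero_add] at *
    have ha : a = 1 ∨ a = -1 := mul_self_eq_one_iff.mp e00
    have ha0 : a ≠ 0 := by
      intro h; rw [h, zero_mul] at e00; exact zero_ne_one e00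
    have hda : d = a := by
      apply mul_left_cancel₀ ha0
      rw [hdet, e00]
    rcases ha with h | h
    · left; exact ⟨h, trivial, trivial, by rw [hda, h]⟩
    · right; exact ⟨h, trivial, trivial, by rw [hda, h]⟩

theorem result {F : Type*} [Field F] [Fintype F] (hF : Odd (Fintype.card F)) (g : Matrix.SpecialLinearGroup (Fin 2) F) (h1 : g ≠ 1) (h2 : g * g = 1) : (g : Matrix (Fin 2) (Fin 2) F) = -1 := by
  have h2F := two_ne_zero_of_odd hF
  have hdet : (g : Matrix (Fin 2) (Fin 2) F) 0 0 * (g : Matrix (Fin 2) (Fin 2) F) 1 1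
      - (g : Matrix (Fin 2) (Fin 2) F) 0 1 * (g : Matrix (Fin 2) (Fin 2) F) 1 0 = 1 := by
    rw [← Matrix.det_fin_two]; exact g.det_coe
  have hmul : (g : Matrix (Fin 2) (Fin 2) F) * (g : Matrix (Fin 2) (Fin 2) F) = 1 := by
    rw [← Matrix.SpecialLinearGroup.coe_mul, h2, Matrix.SpecialLinearGroup.coe_one]
  have e00 := congrFun (congrFun hmul 0) 0
  have e01 := congrFun (congrFun hmul 0) 1
  have e10 := congrFun (congrFun hmul 1) 0
  have e11 := congrFun (congrFun hmul 1) 1
  simp only [Matrix.mul_apply, Fin.sum_univ_two, Matrix.one_apply_eq, Matrix.one_apply_ne,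
    ne_eq, one_ne_zero, zero_ne_one, not_false_eq_true, Fin.isValue] at e00 e01 e10 e11
  rcases field_lemma _ _ _ _ h2F hdet e00 e01 e10 e11 with ⟨ha, hb, hc, hd⟩ | ⟨ha, hb, hc, hd⟩
  · exfalso
    apply h1
    apply Subtype.ext
    ext i j
    fin_cases i <;> fin_cases j <;> simp [ha, hb, hc, hd]
  · ext i j
    fin_cases i <;> fin_cases j <;> simp [ha, hb, hc, hd]

end Cfsg.Agent.S0268
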