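import Cfsg.Statements.S0271
import Cfsg.Agent.Lib_helper4_Symp

set_option autoImplicit false
open Cfsg

namespace Cfsg.Agent.S0271

open Cfsg.Agent.helper4 Matrix

variable {F : Type*} [Field F] {m : ℕ}

theorem exists_form_ne_zero (v : Fin m ⊕ Fin m → F) (hv : v ≠ 0) :
    ∃ z, Cfsg.sympForm m F v z ≠ 0 := by
  by_contra h
  push Not at h
  apply hv
  apply dotProduct_eq_zero
  intro w
  have := h (-(Matrix.J (Fin m) F *ᵥ w))
  unfold Cfsg.sympForm at this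
  rw [Matrix.mulVec_neg, J_mulVec_J_mulVec, neg_neg] at this
  exact this

theorem step (v w : Fin m ⊕ Fin m → F) (h : Cfsg.sympForm m F v w ≠ 0) :
    ∃ g : Matrix.symplecticGroup (Fin m) F,
      (g : Matrix (Fin m ⊕ Fin m) (Fin m ⊕ Fin m) F).mulVec v = w := by
  refine ⟨⟨Cfsg.sympTransvection m (v - w) (Cfsg.sympForm m F v w)⁻¹,
    sympTransvection_mem _ _⟩, ?_⟩
  show Cfsg.sympTransvection m (v - w) (Cfsg.sympForm m F v w)⁻¹ *ᵥ v = w
  rw [sympTransvection_mulVec, sympForm_sub_right, sympForm_self, zero_sub, mul_neg,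
    inv_mul_cancel₀ h, neg_smul, one_smul]
  abel

theorem result {F : Type*} [Field F] (m : ℕ) (v w : Fin m ⊕ Fin m → F) (hv : v ≠ 0) (hw : w ≠ 0) : ∃ g : Matrix.symplecticGroup (Fin m) F, (g : Matrix (Fin m ⊕ Fin m) (Fin m ⊕ Fin m) F).mulVec v = w := by
  by_cases h : Cfsg.sympForm m F v w = 0
  · obtain ⟨z₁, hz₁⟩ := exists_form_ne_zero v hv
    obtain ⟨z₂, hz₂⟩ := exists_form_ne_zero w hw
    have key : ∃ z, Cfsg.sympForm m F v z ≠ 0 ∧ Cfsg.sympForm m F w z ≠ 0 := by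
      by_cases h1 : Cfsg.sympForm m F w z₁ = 0
      · by_cases h2 : Cfsg.sympForm m F v z₂ = 0
        · refine ⟨z₁ + z₂, ?_, ?_⟩
          · rw [sympForm_add_right, h2, add_zero]; exact hz₁
          · rw [sympForm_add_right, h1, zero_add]; exact hz₂
        · exact ⟨z₂, h2, hz₂⟩
      · exact ⟨z₁, hz₁, h1⟩
    obtain ⟨z, hvz, hwz⟩ := key
    have hzw : Cfsg.sympForm m F z w ≠ 0 := by
      rw [sympForm_swap]
      exact neg_ne_zero.mpr hwz
    obtain ⟨g₁, hg₁⟩ := step v z hvz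
    obtain ⟨g₂, hg₂⟩ := step z w hzw
    refine ⟨g₂ * g₁, ?_⟩
    rw [Submonoid.coe_mul, ← Matrix.mulVec_mulVec, hg₁, hg₂]
  · exact step v w h

end Cfsg.Agent.S0271
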