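import Cfsg.Statements.S0274
-- import your own Cfsg.Agent.* helpers here
import Mathlib
import Cfsg.Agent.Lib_helper4_DkH
import Cfsg.Agent.Lib_helper15_BaerSuzuki

set_option autoImplicit false
open Cfsg

namespace Cfsg.Agent.S0274

open Cfsg.Agent.helper4.Dk Matrix


/-- Dickson's Theorem for SL_2: if p is odd and H is a subgroup of SL_2(q), q a power of p, with more than one Sylow p-subgroup, then H contains a copy of SL_2(p). -/
theorem result {F : Type*} [Field F] [Fintype F] (p : ℕ) [Fact p.Prime] [CharP F p] (hp : p ≠ 2) (H : Subgroup (Matrix.SpecialLinearGroup (Fin 2) F)) (hH : 1 < Nat.card (Sylow p H)) : ∃ K : Subgroup (Matrix.SpecialLinearGroup (Fin 2) F), K ≤ H ∧ Nonempty (K ≃* Matrix.SpecialLinearGroup (Fin 2) (ZMod p)) := by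
  haveI : CharP (AlgebraicClosure F) p :=
    charP_of_injective_algebraMap (algebraMap F (AlgebraicClosure F)).injective p
  set ι : SpecialLinearGroup (Fin 2) F →* SpecialLinearGroup (Fin 2) (AlgebraicClosure F) :=
    Matrix.SpecialLinearGroup.map (algebraMap F (AlgebraicClosure F)) with hι
  have hιinj : Function.Injective ι := by
    intro g h hgh
    apply Subtype.ext
    ext i j
    apply (algebraMap F (AlgebraicClosure F)).injective
    have := congrArg (fun m : SpecialLinearGroup (Fin 2) (AlgebraicClosure F) => m i j) hgh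
    simpa [hι, Matrix.map_apply] using this
  -- two Sylow subgroups
  haveI : Finite (Sylow p H) := inferInstance
  have hnt : Nontrivial (Sylow p H) := Finite.one_lt_card_iff_nontrivial.mp hH
  obtain ⟨P₁, P₂, hne⟩ := hnt
  have hx : ∃ x : H, x ∈ P₁ ∧ x ∉ P₂ := by
    by_contra hcon
    simp only [not_exists, not_and, not_not] at hcon
    apply hne
    have hle : (P₁ : Subgroup H) ≤ P₂ := fun x hx => hcon x hx
    exact (Sylow.ext (P₁.is_maximal' P₂.isPGroup' hle)).symm
  obtain ⟨x, hx1, hx2⟩ := hx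
  obtain ⟨k, hk⟩ := P₁.isPGroup' ⟨x, hx1⟩
  have hxk : x ^ p ^ k = 1 := by
    have := congrArg Subtype.val hk
    simpa using this
  have hBS : ∃ g : H, ¬ IsPGroup p ↥(Subgroup.closure ({x, g * x * g⁻¹} : Set H)) := by
    by_contra hcon
    simp only [not_exists, not_not] at hcon
    exact hx2 (Cfsg.Agent.helper15.mem_sylow_of_baer_suzuki x hcon P₂)
  obtain ⟨g, hg⟩ := hBS
  -- in the algebraic closure
  set H' : Subgroup (SpecialLinearGroup (Fin 2) (AlgebraicClosure F)) := H.map ι with hH'
  haveI : Finite H' := by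
    rw [hH']
    exact Finite.of_surjective (fun h : H => (⟨ι h, Subgroup.mem_map_of_mem ι h.2⟩ : H.map ι))
      (by rintro ⟨_, ⟨h, hh, rfl⟩⟩; exact ⟨⟨h, hh⟩, rfl⟩)
  have hX : ι (x : SpecialLinearGroup (Fin 2) F) ∈ H' := Subgroup.mem_map_of_mem ι x.2
  have hX' : ι ((g * x * g⁻¹ : H) : SpecialLinearGroup (Fin 2) F) ∈ H' :=
    Subgroup.mem_map_of_mem ι (g * x * g⁻¹).2
  have hXp : ι (x : SpecialLinearGroup (Fin 2) F) ^ p ^ k = 1 := by
    rw [← map_pow, ← Subgroup.coe_pow, hxk, Subgroup.coe_one, map_one]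
  have hXp' : ι ((g * x * g⁻¹ : H) : SpecialLinearGroup (Fin 2) F) ^ p ^ k = 1 := by
    rw [← map_pow, ← Subgroup.coe_pow]
    have : (g * x * g⁻¹) ^ p ^ k = 1 := by
      rw [conj_pow, hxk]; group
    rw [this, Subgroup.coe_one, map_one]
  have hnp : ¬ IsPGroup p (Subgroup.closure ({ι (x : SpecialLinearGroup (Fin 2) F),
      ι ((g * x * g⁻¹ : H) : SpecialLinearGroup (Fin 2) F)} :
        Set (SpecialLinearGroup (Fin 2) (AlgebraicClosure F)))) := by
    intro hP
    apply hg
    intro y
    have hy : ι ((y : H) : SpecialLinearGroup (Fin 2) F) ∈ Subgroup.closure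
        ({ι (x : SpecialLinearGroup (Fin 2) F), ι ((g * x * g⁻¹ : H) : SpecialLinearGroup (Fin 2) F)} :
          Set (SpecialLinearGroup (Fin 2) (AlgebraicClosure F))) := by
      have hle : Subgroup.closure ({x, g * x * g⁻¹} : Set H) ≤
          (Subgroup.closure ({ι (x : SpecialLinearGroup (Fin 2) F),
            ι ((g * x * g⁻¹ : H) : SpecialLinearGroup (Fin 2) F)} :
              Set (SpecialLinearGroup (Fin 2) (AlgebraicClosure F)))).comap (ι.comp H.subtype) := by
        rw [Subgroup.closure_le]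
        rintro z (rfl | rfl)
        · exact Subgroup.subset_closure (by simp)
        · exact Subgroup.subset_closure (by simp)
      exact hle y.2
    obtain ⟨j, hj⟩ := hP ⟨_, hy⟩
    refine ⟨j, ?_⟩
    apply Subtype.ext
    apply Subtype.ext
    apply hιinj
    have := congrArg Subtype.val hj
    simpa using this
  obtain ⟨f, hf, hfr⟩ := exists_sl2p_of_not_pgroup hp H' hX hX' hXp hXp' hnp
  refine ⟨f.range.comap ι, ?_, ?_⟩
  · intro z hz
    obtain ⟨h, hh, hhz⟩ := hfr hz
    rw [← hιinj hhz]; exact hh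
  · have hbij : Function.Bijective (ι.subgroupComap f.range) := by
      constructor
      · intro z w hzw
        apply Subtype.ext
        apply hιinj
        exact congrArg Subtype.val hzw
      · rintro ⟨z, hz⟩
        obtain ⟨h, hh, hhz⟩ := hfr hz
        refine ⟨⟨h, by rw [Subgroup.mem_comap, hhz]; exact hz⟩, ?_⟩
        apply Subtype.ext
        exact hhz
    exact ⟨(MulEquiv.ofBijective _ hbij).trans (MonoidHom.ofInjective hf).symm⟩

end Cfsg.Agent.S0274
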