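import Cfsg.Statements.S0275
import Mathlib
import Cfsg.Agent.S0274
import Cfsg.Agent.S0016
import Cfsg.Agent.Lib_helper4_RedD

set_option autoImplicit false
open Cfsg

namespace Cfsg.Agent.S0275

open Matrix

/-- In `SL₂(F)` with `2 ≠ 0`, the only elements of square one are `±1`. -/
theorem sl2_sq_eq_one {F : Type*} [Field F] (h2 : (2 : F) ≠ 0)
    (g : Matrix.SpecialLinearGroup (Fin 2) F) (hg : g ^ 2 = 1) : g = 1 ∨ g = -1 := by
  have hdet : g 0 0 * g 1 1 - g 0 1 * g 1 0 = 1 := by
    have := g.2
    rwa [Matrix.det_fin_two] at this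
  have hsq : (g : Matrix (Fin 2) (Fin 2) F) * (g : Matrix (Fin 2) (Fin 2) F) = 1 := by
    have := congrArg (fun x : Matrix.SpecialLinearGroup (Fin 2) F =>
      (x : Matrix (Fin 2) (Fin 2) F)) hg
    simpa [pow_two] using this
  have e00 := congrFun (congrFun hsq 0) 0
  have e01 := congrFun (congrFun hsq 0) 1
  have e10 := congrFun (congrFun hsq 1) 0
  have e11 := congrFun (congrFun hsq 1) 1
  simp only [Matrix.mul_apply, Fin.sum_univ_two, Matrix.one_apply_eq] at e00 e11
  simp only [Matrix.mul_apply, Fin.sum_univ_two] at e01 e10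
  rw [Matrix.one_apply_ne (by decide)] at e01 e10
  have htr : g 0 0 + g 1 1 ≠ 0 := by
    intro h
    have hd : g 1 1 = - g 0 0 := by linear_combination h
    rw [hd] at hdet
    apply h2
    linear_combination -(e00 + hdet)
  have hb : g 0 1 = 0 := by
    have : g 0 1 * (g 0 0 + g 1 1) = 0 := by linear_combination e01
    rcases mul_eq_zero.mp this with h | h
    · exact h
    · exact absurd h htr
  have hc : g 1 0 = 0 := by
    have : g 1 0 * (g 0 0 + g 1 1) = 0 := by linear_combination e10
    rcases mul_eq_zero.mp this with h | h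
    · exact h
    · exact absurd h htr
  rw [hb, hc] at hdet
  rw [hb] at e00
  have ha : (g 0 0 - 1) * (g 0 0 + 1) = 0 := by linear_combination e00
  rcases mul_eq_zero.mp ha with h | h
  · left
    have ha1 : g 0 0 = 1 := by linear_combination h
    have hd1 : g 1 1 = 1 := by rw [ha1] at hdet; linear_combination hdet
    apply Subtype.ext
    ext i j
    fin_cases i <;> fin_cases j <;> simp [ha1, hd1, hb, hc]
  · right
    have ha1 : g 0 0 = -1 := by linear_combination h
    have hd1 : g 1 1 = -1 := by rw [ha1] at hdet; linear_combination -hdet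
    apply Subtype.ext
    ext i j
    fin_cases i <;> fin_cases j <;> simp [ha1, hd1, hb, hc]

theorem hcomm_of_cyc {P : Type*} [Group P] (hc : IsCyclic P) : IsMulCommutative P :=
  ⟨⟨fun a b => by
    letI := hc
    exact (IsCyclic.commGroup (α := P)).mul_comm a b⟩⟩

/-- If p is odd and H is a subgroup of SL_2(q), q a power of p, with more than one Sylow p-subgroup, then the Sylow 2-subgroups of H are generalised quaternion. -/
theorem result {F : Type*} [Field F] [Fintype F] (p : ℕ) [Fact p.Prime] [CharP F p] (hp : p ≠ 2) (H : Subgroup (Matrix.SpecialLinearGroup (Fin 2) F)) (hH : 1 < Nat.card (Sylow p H)) (S : Sylow 2 H) : ∃ k : ℕ, 1 ≤ k ∧ Nonempty ((S : Subgroup H) ≃* QuaternionGroup (2 ^ k)) := by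
  classical
  have hpp : p.Prime := Fact.out
  have h2 : (2 : F) ≠ 0 := by
    intro h
    have h' : ((2 : ℕ) : F) = 0 := by exact_mod_cast h
    rw [CharP.cast_eq_zero_iff F p 2] at h'
    exact hp ((Nat.prime_dvd_prime_iff_eq hpp Nat.prime_two).mp h')
  obtain ⟨K, hKH, ⟨e⟩⟩ := Cfsg.Agent.S0274.result p hp H hH
  -- Sylow 2-subgroups of H are not commutative
  have hnc : ¬ IsMulCommutative (S : Subgroup H) := by
    intro hS
    have h1 : Cfsg.Agent.helper4.Red.TwoComm H := Cfsg.Agent.helper4.Red.twoComm_of_sylow S hS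
    have h3 : Cfsg.Agent.helper4.Red.TwoComm (Matrix.SpecialLinearGroup (Fin 2) (ZMod p)) :=
      h1.of_injective ((Subgroup.inclusion hKH).comp e.symm.toMonoidHom)
        ((Subgroup.inclusion_injective hKH).comp e.symm.injective)
    exact Cfsg.Agent.helper4.Red.not_twoComm_sl2 p hp h3
  -- elements of square one
  have key : ∀ a : (S : Subgroup H), a ^ 2 = 1 →
      ((a : H) : Matrix.SpecialLinearGroup (Fin 2) F) = 1 ∨
      ((a : H) : Matrix.SpecialLinearGroup (Fin 2) F) = -1 := by
    intro a ha
    apply sl2_sq_eq_one h2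
    have := congrArg (fun x : (S : Subgroup H) => ((x : H) : Matrix.SpecialLinearGroup (Fin 2) F)) ha
    simpa using this
  have hinj : ∀ a b : (S : Subgroup H), ((a : H) : Matrix.SpecialLinearGroup (Fin 2) F) =
      ((b : H) : Matrix.SpecialLinearGroup (Fin 2) F) → a = b := by
    intro a b hab
    exact Subtype.ext (Subtype.ext hab)
  have hsq : ∀ A : Subgroup (S : Subgroup H), Nat.card A = 2 → ∀ a ∈ A, a ^ 2 = 1 := by
    intro A hA a ha
    have := pow_card_eq_one' (G := A) (x := ⟨a, ha⟩)
    rw [hA] at this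
    have := congrArg Subtype.val this
    simpa using this
  have hle : ∀ A B : Subgroup (S : Subgroup H), Nat.card A = 2 → Nat.card B = 2 → A ≤ B := by
    intro A B hA hB a ha
    rcases key a (hsq A hA a ha) with h1 | h1
    · have : a = 1 := hinj a 1 (by rw [h1]; rfl)
      rw [this]; exact one_mem B
    · have hBne : B ≠ ⊥ := by
        intro hb
        rw [hb, Subgroup.card_bot] at hB
        omega
      obtain ⟨⟨z, hz⟩, hz1⟩ := (Subgroup.ne_bot_iff_exists_ne_one).mp hBne
      have hz1' : z ≠ 1 := fun h => hz1 (Subtype.ext h)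
      rcases key z (hsq B hB z hz) with h3 | h3
      · exact absurd (hinj z 1 (by rw [h3]; rfl)) hz1'
      · have : a = z := hinj a z (by rw [h1, h3])
        rw [this]; exact hz
  haveI : Finite H := inferInstance
  have huniq : ∀ A B : Subgroup (S : Subgroup H), Nat.card A = 2 → Nat.card B = 2 → A = B := by
    intro A B hA hB
    exact le_antisymm (hle A B hA hB) (hle B A hB hA)
  rcases Cfsg.Agent.S0016.result 2 S.isPGroup' huniq with hc | ⟨_, n, ⟨f⟩⟩
  · exact absurd (hcomm_of_cyc hc) hnc
  · refine ⟨n, ?_, ⟨f⟩⟩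
    by_contra hn
    have hn0 : n = 0 := by omega
    subst hn0
    have hcyc : IsCyclic (QuaternionGroup (2 ^ 0)) := by
      rw [pow_zero]; exact QuaternionGroup.quaternionGroup_one_isCyclic
    have hcyc' : IsCyclic (S : Subgroup H) := isCyclic_of_surjective f.symm f.symm.surjective
    exact absurd (hcomm_of_cyc hcyc') hnc

end Cfsg.Agent.S0275
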