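import Cfsg.Statements.S0276
import Cfsg.Agent.Lib_helper11_SL2Order
import Cfsg.Agent.Lib_helper12_Card
import Cfsg.Agent.Lib_helper2_Classical

set_option autoImplicit false
open Cfsg

namespace Cfsg.Agent.S0276

open Matrix

variable {F : Type*} [Field F] [Fintype F]

/-- in odd characteristic the only elements of `SL₂` squaring to one are central -/
theorem sq_eq_one_mem_center (h2 : (2 : F) ≠ 0) (h : Matrix.SpecialLinearGroup (Fin 2) F)
    (hh : h * h = 1) : h ∈ Subgroup.center (Matrix.SpecialLinearGroup (Fin 2) F) := by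
  set H : Matrix (Fin 2) (Fin 2) F := (h : Matrix (Fin 2) (Fin 2) F) with hH
  have hHH : H * H = 1 := by
    have := congrArg (fun x : Matrix.SpecialLinearGroup (Fin 2) F =>
      (x : Matrix (Fin 2) (Fin 2) F)) hh
    simpa using this
  have hsq := Cfsg.Agent.helper11.SL2.sq_eq H h.2
  rw [hHH] at hsq
  -- t • H = 2
  have htH : H.trace • H = (2 : F) • (1 : Matrix (Fin 2) (Fin 2) F) := by
    rw [two_smul]
    exact (eq_sub_iff_add_eq.mp hsq).symm
  have ht0 : H.trace ≠ 0 := by
    intro h0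
    rw [h0, zero_smul] at htH
    have := congrFun (congrFun htH 0) 0
    simp at this
    exact h2 this.symm
  have hHc : ∃ c : F, H = c • (1 : Matrix (Fin 2) (Fin 2) F) := by
    refine ⟨H.trace⁻¹ * 2, ?_⟩
    have := congrArg (fun M => (H.trace)⁻¹ • M) htH
    simpa only [smul_smul, inv_mul_cancel₀ ht0, one_smul] using this
  obtain ⟨c, hHc⟩ := hHc
  rw [Matrix.SpecialLinearGroup.mem_center_iff]
  refine ⟨c, ?_, ?_⟩
  · have hdet := h.2
    rw [← hH, hHc, Matrix.det_smul, Matrix.det_one, mul_one] at hdet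
    exact hdet
  · rw [← hH, hHc]
    ext i j
    simp [Matrix.scalar_apply, Matrix.diagonal_apply, Matrix.one_apply]

theorem center_sq (z : Matrix.SpecialLinearGroup (Fin 2) F)
    (hz : z ∈ Subgroup.center (Matrix.SpecialLinearGroup (Fin 2) F)) : z * z = 1 := by
  rw [Matrix.SpecialLinearGroup.mem_center_iff] at hz
  obtain ⟨r, hr, hrz⟩ := hz
  rw [Fintype.card_fin] at hr
  apply Subtype.ext
  rw [Matrix.SpecialLinearGroup.coe_mul, ← hrz, Matrix.SpecialLinearGroup.coe_one]
  rw [← map_mul, ← pow_two, hr, map_one]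

theorem result {F : Type*} [Field F] [Fintype F] {q : ℕ} (hF : Fintype.card F = q) (hq : q % 8 = 3 ∨ q % 8 = 5) (P : Sylow 2 (Matrix.ProjectiveSpecialLinearGroup (Fin 2) F)) : IsKleinFour (P : Subgroup (Matrix.ProjectiveSpecialLinearGroup (Fin 2) F)) := by
  classical
  subst hF
  set q := Fintype.card F with hqdef
  obtain ⟨p, hpchar⟩ := CharP.exists F
  haveI : Fact p.Prime := ⟨CharP.char_is_prime F p⟩
  have hp : p.Prime := Fact.out
  have hchar : ringChar F ≠ 2 := by
    intro h
    have := (FiniteField.even_card_iff_char_two (F := F)).mp h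
    omega
  have h2 : (2 : F) ≠ 0 := Ring.two_ne_zero hchar
  have hp2 : p ≠ 2 := by
    rw [← ringChar.eq F p]
    exact hchar
  -- order of PSL₂
  have hcard : Nat.card (Matrix.ProjectiveSpecialLinearGroup (Fin 2) F) * 2 = q * (q ^ 2 - 1) := by
    have h1 := Cfsg.Agent.helper2.card_SL_eq_card_PSL_mul (F := F) 2
    rw [Cfsg.Agent.helper12.card_SL2, Cfsg.Agent.helper2.card_center_SL 2 (by norm_num)] at h1
    have hg : Nat.gcd (q - 1) 2 = 2 := by
      apply Nat.gcd_eq_right
      omega
    rw [← hqdef, hg] at h1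
    exact h1.symm
  have hcard4 : ∃ m : ℕ, ¬ 2 ∣ m ∧ Nat.card (Matrix.ProjectiveSpecialLinearGroup (Fin 2) F) = 4 * m := by
    rcases hq with h3 | h5
    · obtain ⟨k, hk⟩ : ∃ k, q = 8 * k + 3 := ⟨q / 8, by omega⟩
      refine ⟨q * (8 * k ^ 2 + 6 * k + 1), ?_, ?_⟩
      · rw [Nat.Prime.dvd_mul Nat.prime_two]
        omega
      · have e : q ^ 2 - 1 = 8 * (8 * k ^ 2 + 6 * k + 1) := by
          have : q ^ 2 = 8 * (8 * k ^ 2 + 6 * k + 1) + 1 := by rw [hk]; ring
          omega
        rw [e] at hcard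
        have : Nat.card (Matrix.ProjectiveSpecialLinearGroup (Fin 2) F) * 2
            = (4 * (q * (8 * k ^ 2 + 6 * k + 1))) * 2 := by rw [hcard]; ring
        exact Nat.eq_of_mul_eq_mul_right (by norm_num) this
    · obtain ⟨k, hk⟩ : ∃ k, q = 8 * k + 5 := ⟨q / 8, by omega⟩
      refine ⟨q * (8 * k ^ 2 + 10 * k + 3), ?_, ?_⟩
      · rw [Nat.Prime.dvd_mul Nat.prime_two]
        omega
      · have e : q ^ 2 - 1 = 8 * (8 * k ^ 2 + 10 * k + 3) := by
          have : q ^ 2 = 8 * (8 * k ^ 2 + 10 * k + 3) + 1 := by rw [hk]; ring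
          omega
        rw [e] at hcard
        have : Nat.card (Matrix.ProjectiveSpecialLinearGroup (Fin 2) F) * 2
            = (4 * (q * (8 * k ^ 2 + 10 * k + 3))) * 2 := by rw [hcard]; ring
        exact Nat.eq_of_mul_eq_mul_right (by norm_num) this
  obtain ⟨m, hm, hcm⟩ := hcard4
  have hPcard : Nat.card (P : Subgroup (Matrix.ProjectiveSpecialLinearGroup (Fin 2) F)) = 4 := by
    have hm0 : m ≠ 0 := by rintro rfl; exact hm (dvd_zero 2)
    rw [Sylow.card_eq_multiplicity, hcm, Nat.factorization_mul (by norm_num) hm0, Finsupp.add_apply,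
      Nat.factorization_eq_zero_of_not_dvd hm, add_zero]
    have : (4 : ℕ) = 2 ^ 2 := by norm_num
    rw [this, Nat.prime_two.factorization_pow, Finsupp.single_eq_same]
  -- every element of PSL₂ with x^4 = 1 has x^2 = 1
  have key : ∀ y : Matrix.ProjectiveSpecialLinearGroup (Fin 2) F, y ^ 4 = 1 → y ^ 2 = 1 := by
    intro y hy
    obtain ⟨g, rfl⟩ := QuotientGroup.mk_surjective y
    rw [← QuotientGroup.mk_pow, QuotientGroup.eq_one_iff] at hy ⊢
    have hg8 : g ^ 8 = 1 := by
      have := center_sq _ hy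
      rw [← pow_add] at this
      exact this
    have ho8 : orderOf g ∣ 8 := orderOf_dvd_of_pow_eq_one hg8
    have ho4 : orderOf g ∣ 4 := by
      have h8 : (8 : ℕ) = 2 ^ 3 := by norm_num
      rw [h8, Nat.dvd_prime_pow Nat.prime_two] at ho8
      obtain ⟨j, hj, hoj⟩ := ho8
      have hj' : j ≤ 2 := by
        by_contra hcon
        have hj3 : j = 3 := by omega
        rw [hj3] at hoj
        rcases Cfsg.Agent.helper11.SL2.sl2_pow_trichotomy p g with h | h | h
        · have := orderOf_dvd_of_pow_eq_one h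
          rw [hoj, ← hqdef] at this
          omega
        · have := orderOf_dvd_of_pow_eq_one h
          rw [hoj, ← hqdef] at this
          omega
        · have h3 := orderOf_dvd_of_pow_eq_one h
          rw [hoj] at h3
          have h4 : 2 ∣ p := by
            have : (2 : ℕ) ^ 3 = 2 * 4 := by norm_num
            rw [this] at h3
            have := Nat.dvd_of_mul_dvd_mul_left (by norm_num : 0 < 2) h3
            exact dvd_trans (by norm_num : 2 ∣ 4) this
          exact hp2 ((Nat.prime_dvd_prime_iff_eq Nat.prime_two hp).mp h4).symm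
      rw [hoj]
      have : (4 : ℕ) = 2 ^ 2 := by norm_num
      rw [this]
      exact pow_dvd_pow 2 hj'
    have hg4 : g ^ 4 = 1 := orderOf_dvd_iff_pow_eq_one.mp ho4
    have : g ^ 2 * g ^ 2 = 1 := by rw [← pow_add]; exact hg4
    exact sq_eq_one_mem_center h2 _ this
  refine ⟨hPcard, ?_⟩
  haveI : Nontrivial (P : Subgroup (Matrix.ProjectiveSpecialLinearGroup (Fin 2) F)) := by
    rw [← Finite.one_lt_card_iff_nontrivial, hPcard]
    norm_num
  rw [Monoid.exponent_eq_prime_iff Nat.prime_two]
  intro x hx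
  have hx4 : x ^ 4 = 1 := by
    rw [← hPcard]
    exact pow_card_eq_one'
  have hx2 : x ^ 2 = 1 := by
    have := key (x : Matrix.ProjectiveSpecialLinearGroup (Fin 2) F)
      (by rw [← Subgroup.coe_pow, hx4, Subgroup.coe_one])
    apply Subtype.ext
    rw [Subgroup.coe_pow, this, Subgroup.coe_one]
  exact orderOf_eq_prime hx2 hx

end Cfsg.Agent.S0276
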