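import Cfsg.Statements.S0281
import Cfsg.Agent.Lib_helper11_Unitary4
import Cfsg.Agent.Lib_helper12_Card

set_option autoImplicit false
open Cfsg

namespace Cfsg.Agent.S0281

open Matrix
open Cfsg.Agent.helper11.HermCount Cfsg.Agent.helper11.Unitary

/-- the field with `q` elements embeds in the field with `q²` elements, onto Frobenius-fixed points -/
theorem exists_embedding {F K : Type*} [Field F] [Fintype F] [Field K] [Fintype K] {q : ℕ}
    (hF : Fintype.card F = q ^ 2) (hK : Fintype.card K = q) :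
    ∃ ι : K →+* F, ∀ x, (ι x) ^ q = ι x := by
  obtain ⟨p, j, hp, hcF, rfl⟩ := exists_char_pow hF
  haveI := Fact.mk hp
  haveI : CharP K p := charP_of_card_eq_prime_pow hK
  letI : Algebra (ZMod p) K := ZMod.algebra K p
  letI : Algebra (ZMod p) F := ZMod.algebra F p
  have h1 : Module.finrank (ZMod p) K = j := by
    have := FiniteField.pow_finrank_eq_card p K
    rw [hK] at this
    exact Nat.pow_right_injective hp.two_le this
  have h2 : Module.finrank (ZMod p) F = 2 * j := by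
    have := FiniteField.pow_finrank_eq_card p F
    rw [hF, ← pow_mul, mul_comm] at this
    exact Nat.pow_right_injective hp.two_le this
  obtain ⟨f⟩ := FiniteField.nonempty_algHom_of_finrank_dvd (F := ZMod p) (K := K) (L := F)
    (by rw [h1, h2]; exact dvd_mul_left _ _)
  refine ⟨f.toRingHom, fun x => ?_⟩
  show (f x) ^ (p ^ j) = f x
  rw [← map_pow, ← hK, FiniteField.pow_card]

theorem conj_mul {R : Type*} [CommRing R] (P Pinv A B : Matrix (Fin 2) (Fin 2) R)
    (h : Pinv * P = 1) : P * (A * B) * Pinv = (P * A * Pinv) * (P * B * Pinv) := by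
  calc P * (A * B) * Pinv = P * A * 1 * B * Pinv := by
        rw [Matrix.mul_one]; simp only [Matrix.mul_assoc]
    _ = (P * A * Pinv) * (P * B * Pinv) := by rw [← h]; simp only [Matrix.mul_assoc]

/-- SU_2(q) is isomorphic to SL_2(q). -/
theorem result {F K : Type*} [Field F] [Fintype F] [Field K] [Fintype K] {q : ℕ} (hF : Fintype.card F = q ^ 2) (hK : Fintype.card K = q) : Nonempty (Cfsg.SU 2 F q ≃* Matrix.SpecialLinearGroup (Fin 2) K) := by
  classical
  obtain ⟨ι, hι⟩ := exists_embedding hF hK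
  have hq2 := two_le_q hF
  -- a nonzero element with `ε ^ q = -ε`
  obtain ⟨l, hlN, hl2⟩ := exists_norm_one_sq_ne_one hF
  obtain ⟨ε, hεdef⟩ : ∃ ε : F, ε = l - l ^ q := ⟨_, rfl⟩
  have hε0 : ε ≠ 0 := by
    intro h
    rw [hεdef, sub_eq_zero] at h
    apply hl2
    rw [← h] at hlN
    exact hlN
  have hεq : ε ^ q = -ε := by
    rw [hεdef, sub_pow_q hF, pow_q_q hF]
    ring
  -- two distinct elements of norm `-1`
  have hm1 : (-1 : F) ^ q = -1 := by
    have := sub_pow_q hF (0 : F) 1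
    simpa [zero_pow (q_ne_zero hF)] using this
  have hm10 : (-1 : F) ≠ 0 := neg_ne_zero.mpr one_ne_zero
  have hcard := card_norm_fiber hF (-1 : F) hm1
  rw [if_neg hm10] at hcard
  have hnt : Nontrivial {x : F // x * x ^ q = -1} := by
    rw [← Finite.one_lt_card_iff_nontrivial, hcard]
    omega
  obtain ⟨⟨β, hβ⟩, ⟨β', hβ'⟩, hne⟩ := exists_pair_ne {x : F // x * x ^ q = -1}
  have hββ' : β ≠ β' := fun h => hne (Subtype.ext h)
  have hβ'0 : β' ≠ 0 := by
    rintro rfl
    rw [zero_mul] at hβ'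
    exact hm10 hβ'.symm
  obtain ⟨γ, hγdef⟩ : ∃ γ : F, γ = 1 + β * β' ^ q := ⟨_, rfl⟩
  have hγ0 : γ ≠ 0 := by
    intro h
    apply hββ'
    have h1 : β * β' ^ q = -1 := by rw [hγdef] at h; linear_combination h
    have h2 : (β - β') * β' ^ q = 0 := by rw [sub_mul, h1, hβ']; ring
    rcases mul_eq_zero.mp h2 with h3 | h3
    · exact sub_eq_zero.mp h3
    · exact absurd (pow_eq_zero_iff (q_ne_zero hF) |>.mp h3) hβ'0
  have hγq : γ ^ q = 1 + β' * β ^ q := by
    rw [hγdef, add_pow_q hF, one_pow, mul_pow, pow_q_q hF]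
    ring
  obtain ⟨t, htdef⟩ : ∃ t : F, t = (ε / γ) ^ q := ⟨_, rfl⟩
  have htq : t ^ q = ε / γ := by rw [htdef, pow_q_q hF]
  have ht0 : t ≠ 0 := by
    rw [htdef]
    exact pow_ne_zero _ (div_ne_zero hε0 hγ0)
  have h01 : t ^ q * γ = ε := by rw [htq]; field_simp
  have h10 : t * γ ^ q = -ε := by
    have := congrArg (· ^ q) h01
    simp only [mul_pow, pow_q_q hF] at this
    rw [this, hεq]
  -- the base change matrix
  obtain ⟨P, hPdef⟩ : ∃ P : Matrix (Fin 2) (Fin 2) F, P = !![1, t; β, t * β'] := ⟨_, rfl⟩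
  have hPdet : P.det = t * (β' - β) := by
    rw [hPdef, Matrix.det_fin_two_of]
    ring
  have hPunit : IsUnit P := by
    rw [Matrix.isUnit_iff_isUnit_det, hPdet]
    exact (mul_ne_zero ht0 (sub_ne_zero.mpr hββ'.symm)).isUnit
  have hPdetU : IsUnit P.det := (Matrix.isUnit_iff_isUnit_det P).mp hPunit
  have hPP : P * P⁻¹ = 1 := Matrix.mul_nonsing_inv P hPdetU
  have hPP' : P⁻¹ * P = 1 := Matrix.nonsing_inv_mul P hPdetU
  have key1 : ∀ u v : Fin 2 → F, hermForm 2 F q (P *ᵥ u) (P *ᵥ v) =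
      ε * (u 0 * v 1 ^ q - u 1 * v 0 ^ q) := by
    intro u v
    have e0 : ∀ w : Fin 2 → F, (P *ᵥ w) 0 = w 0 + t * w 1 := by
      intro w
      rw [hPdef]
      simp [Matrix.mulVec, dotProduct, Fin.sum_univ_two]
    have e1 : ∀ w : Fin 2 → F, (P *ᵥ w) 1 = β * w 0 + t * β' * w 1 := by
      intro w
      rw [hPdef]
      simp [Matrix.mulVec, dotProduct, Fin.sum_univ_two]
    unfold hermForm
    rw [Fin.sum_univ_two, e0, e0, e1, e1, add_pow_q hF, add_pow_q hF]
    simp only [mul_pow]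
    rw [hγdef] at h01
    rw [hγq] at h10
    linear_combination (u 0 * v 0 ^ q) * hβ + (u 1 * v 1 ^ q * t * t ^ q) * hβ' +
      (u 0 * v 1 ^ q) * h01 + (u 1 * v 0 ^ q) * h10
  have key2 : ∀ (A : Matrix.SpecialLinearGroup (Fin 2) K) (u v : Fin 2 → F),
      ε * ((((Matrix.SpecialLinearGroup.map ι A : Matrix.SpecialLinearGroup (Fin 2) F) :
          Matrix (Fin 2) (Fin 2) F) *ᵥ u) 0 *
        (((Matrix.SpecialLinearGroup.map ι A : Matrix.SpecialLinearGroup (Fin 2) F) :
          Matrix (Fin 2) (Fin 2) F) *ᵥ v) 1 ^ q -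
        (((Matrix.SpecialLinearGroup.map ι A : Matrix.SpecialLinearGroup (Fin 2) F) :
          Matrix (Fin 2) (Fin 2) F) *ᵥ u) 1 *
        (((Matrix.SpecialLinearGroup.map ι A : Matrix.SpecialLinearGroup (Fin 2) F) :
          Matrix (Fin 2) (Fin 2) F) *ᵥ v) 0 ^ q) = ε * (u 0 * v 1 ^ q - u 1 * v 0 ^ q) := by
    intro A u v
    have hdet : ι (A.1 0 0) * ι (A.1 1 1) - ι (A.1 0 1) * ι (A.1 1 0) = 1 := by
      have := A.2
      rw [Matrix.det_fin_two] at this
      rw [← map_mul, ← map_mul, ← map_sub, this, map_one]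
    have e : ∀ (w : Fin 2 → F) (i : Fin 2),
        (((Matrix.SpecialLinearGroup.map ι A : Matrix.SpecialLinearGroup (Fin 2) F) :
          Matrix (Fin 2) (Fin 2) F) *ᵥ w) i = ι (A.1 i 0) * w 0 + ι (A.1 i 1) * w 1 := by
      intro w i
      rw [Matrix.SpecialLinearGroup.map_apply_coe, RingHom.mapMatrix_apply]
      simp [Matrix.mulVec, dotProduct, Fin.sum_univ_two]
    rw [e, e, e, e, add_pow_q hF, add_pow_q hF]
    simp only [mul_pow, hι]
    linear_combination (ε * (u 0 * v 1 ^ q - u 1 * v 0 ^ q)) * hdet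
  -- the homomorphism
  let Φ : Matrix.SpecialLinearGroup (Fin 2) K →* Matrix.SpecialLinearGroup (Fin 2) F :=
    { toFun := fun A => ⟨P * ((Matrix.SpecialLinearGroup.map ι A :
          Matrix.SpecialLinearGroup (Fin 2) F) : Matrix (Fin 2) (Fin 2) F) * P⁻¹, by
        rw [Matrix.det_conj hPunit]
        exact (Matrix.SpecialLinearGroup.map ι A).2⟩
      map_one' := by
        apply Subtype.ext
        show P * ((Matrix.SpecialLinearGroup.map ι 1 : Matrix.SpecialLinearGroup (Fin 2) F) :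
          Matrix (Fin 2) (Fin 2) F) * P⁻¹ = 1
        rw [map_one, Matrix.SpecialLinearGroup.coe_one, Matrix.mul_one, hPP]
      map_mul' := by
        intro A B
        apply Subtype.ext
        show P * ((Matrix.SpecialLinearGroup.map ι (A * B) : Matrix.SpecialLinearGroup (Fin 2) F) :
          Matrix (Fin 2) (Fin 2) F) * P⁻¹ =
          (P * ((Matrix.SpecialLinearGroup.map ι A : Matrix.SpecialLinearGroup (Fin 2) F) :
            Matrix (Fin 2) (Fin 2) F) * P⁻¹) *
          (P * ((Matrix.SpecialLinearGroup.map ι B : Matrix.SpecialLinearGroup (Fin 2) F) :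
            Matrix (Fin 2) (Fin 2) F) * P⁻¹)
        rw [map_mul, Matrix.SpecialLinearGroup.coe_mul]
        exact conj_mul P P⁻¹ _ _ hPP' }
  have hΦ_coe : ∀ A, ((Φ A : Matrix.SpecialLinearGroup (Fin 2) F) : Matrix (Fin 2) (Fin 2) F) =
      P * ((Matrix.SpecialLinearGroup.map ι A : Matrix.SpecialLinearGroup (Fin 2) F) :
        Matrix (Fin 2) (Fin 2) F) * P⁻¹ := fun _ => rfl
  have hΦmem : ∀ A, Φ A ∈ Cfsg.SU 2 F q := by
    intro A
    rw [mem_SU_iff]
    intro u v
    rw [hΦ_coe, ← Matrix.mulVec_mulVec, ← Matrix.mulVec_mulVec, ← Matrix.mulVec_mulVec,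
      ← Matrix.mulVec_mulVec, key1, key2, ← key1, Matrix.mulVec_mulVec, Matrix.mulVec_mulVec, hPP,
      Matrix.one_mulVec, Matrix.one_mulVec]
  let Ψ : Matrix.SpecialLinearGroup (Fin 2) K →* Cfsg.SU 2 F q := Φ.codRestrict _ hΦmem
  have hΨinj : Function.Injective Ψ := by
    intro A B hAB
    have h1 : ((Φ A : Matrix.SpecialLinearGroup (Fin 2) F) : Matrix (Fin 2) (Fin 2) F) =
        ((Φ B : Matrix.SpecialLinearGroup (Fin 2) F) : Matrix (Fin 2) (Fin 2) F) :=
      congrArg (fun s : Cfsg.SU 2 F q =>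
        ((s : Matrix.SpecialLinearGroup (Fin 2) F) : Matrix (Fin 2) (Fin 2) F)) hAB
    rw [hΦ_coe, hΦ_coe] at h1
    have h2 : ((Matrix.SpecialLinearGroup.map ι A : Matrix.SpecialLinearGroup (Fin 2) F) :
        Matrix (Fin 2) (Fin 2) F) = ((Matrix.SpecialLinearGroup.map ι B :
        Matrix.SpecialLinearGroup (Fin 2) F) : Matrix (Fin 2) (Fin 2) F) := by
      have := congrArg (fun M => P⁻¹ * M * P) h1
      simp only [Matrix.mul_assoc, hPP', Matrix.mul_one] at this
      simp only [← Matrix.mul_assoc, hPP', Matrix.one_mul] at this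
      exact this
    apply Subtype.ext
    ext i j
    have := congrFun (congrFun h2 i) j
    rw [Matrix.SpecialLinearGroup.map_apply_coe, Matrix.SpecialLinearGroup.map_apply_coe,
      RingHom.mapMatrix_apply, RingHom.mapMatrix_apply, Matrix.map_apply, Matrix.map_apply] at this
    exact ι.injective this
  have hcardSL : Nat.card (Matrix.SpecialLinearGroup (Fin 2) K) = q * (q ^ 2 - 1) := by
    rw [Cfsg.Agent.helper12.card_SL2, hK]
  have hcardSU : Nat.card (Cfsg.SU 2 F q) = q * (q ^ 2 - 1) := by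
    have h1 := card_GU_eq hF 1
    have h2 := card_GU hF 2
    rw [h1] at h2
    change (q + 1) * Nat.card (Cfsg.SU 2 F q) = _ at h2
    generalize Nat.card (Cfsg.SU 2 F q) = N at h2 ⊢
    rw [Finset.prod_range_succ, Finset.prod_range_succ, Finset.prod_range_zero] at h2
    have e0 : Even 0 := by decide
    have e1 : ¬ Even 1 := by decide
    have e2 : 2 * (2 - 1) / 2 = 1 := by norm_num
    rw [if_pos e0, if_neg e1, e2] at h2
    have h3 : q ^ 2 - 1 = (q - 1) * (q + 1) := by
      obtain ⟨k, rfl⟩ : ∃ k, q = k + 1 := ⟨q - 1, by omega⟩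
      have : (k + 1) ^ 2 = k * (k + 2) + 1 := by ring
      rw [this]
      simp
    rw [h3]
    have h4 : (q + 1) * N = (q + 1) * (q * ((q - 1) * (q + 1))) := by
      rw [h2]
      simp only [zero_add, pow_one, one_mul]
      have : q ^ (1 + 1) - 1 = (q - 1) * (q + 1) := h3
      rw [this]
      ring
    exact Nat.eq_of_mul_eq_mul_left (by omega) h4
  have hfin : Finite (Cfsg.SU 2 F q) := inferInstance
  have hΨbij : Function.Bijective Ψ := by
    apply hΨinj.bijective_of_nat_card_le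
    rw [hcardSL, hcardSU]
  exact ⟨(MulEquiv.ofBijective Ψ hΨbij).symm⟩

end Cfsg.Agent.S0281
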