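import Cfsg.Statements.S0284
import Cfsg.Agent.Lib_helper11_HermCount

set_option autoImplicit false
open Cfsg

namespace Cfsg.Agent.S0284

open Cfsg.Agent.helper11.HermCount

/-- The standard Hermitian form on F^n, |F| = q^2, has exactly q^(n-1) (q^n - (-1)^n) vectors of norm 1. -/
theorem result {F : Type*} [Field F] [Fintype F] {q : ℕ} (hF : Fintype.card F = q ^ 2) (n : ℕ) : Nat.card {v : Fin n → F // Cfsg.hermForm n F q v v = 1} = (if Even n then q ^ (n - 1) * (q ^ n - 1) else q ^ (n - 1) * (q ^ n + 1)) := by
  classical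
  have hq2 := two_le_q hF
  have hq0 : (q : ℤ) ≠ 0 := by exact_mod_cast (by omega : q ≠ 0)
  rcases n with _ | m
  · rw [card_herm_zero_dim, if_neg one_ne_zero]
    simp
  · have hint := card_herm_one_int hF (m + 1)
    have hpow : 1 ≤ q ^ (m + 1) := Nat.one_le_pow _ _ (by omega)
    rw [Nat.add_sub_cancel]
    apply Nat.cast_injective (R := ℤ)
    apply mul_left_cancel₀ hq0
    rw [hint]
    by_cases he : Even (m + 1)
    · rw [if_pos he, he.neg_one_pow]
      push_cast [Nat.cast_sub hpow]
      ring
    · rw [if_neg he]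
      have ho : Odd (m + 1) := Nat.not_even_iff_odd.mp he
      rw [ho.neg_one_pow]
      push_cast
      ring

end Cfsg.Agent.S0284
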