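import Cfsg.Statements.S0289
import Cfsg.Agent.Lib_helper11_QuadCount

set_option autoImplicit false
open Cfsg

namespace Cfsg.Agent.S0289

open Cfsg.Agent.helper11

theorem result {F : Type*} [Field F] [Fintype F] {q : ℕ} (hF : Fintype.card F = q) (m : ℕ) (hm : 1 ≤ m) : Nat.card {v : Fin m ⊕ Fin m → F // Cfsg.quadFormPlus m F v = 0} = q ^ (2 * m - 1) + q ^ m - q ^ (m - 1) := by
  classical
  let e : (Fin m ⊕ Fin m → F) ≃ Unit × (Fin m → F) × (Fin m → F) :=
    (Equiv.sumArrowEquivProdArrow (Fin m) (Fin m) F).trans (Equiv.punitProd _).symm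
  have he : ∀ v : Fin m ⊕ Fin m → F, Cfsg.quadFormPlus m F v = 0 ↔
      (e v).2.1 ⬝ᵥ (e v).2.2 = (fun _ : Unit => (0 : F)) (e v).1 := by
    intro v
    rfl
  rw [Nat.card_congr (Equiv.subtypeEquiv
    (q := fun p : Unit × (Fin m → F) × (Fin m → F) =>
      p.2.1 ⬝ᵥ p.2.2 = (fun _ : Unit => (0 : F)) p.1) e he),
    card_param_dotProduct (ι := Fin m) (fun _ : Unit => (0 : F))]
  have hZ : Nat.card {s : Unit // (fun _ : Unit => (0 : F)) s = 0} = 1 := by
    rw [Nat.card_eq_fintype_card, Fintype.card_eq_one_iff]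
    exact ⟨⟨(), rfl⟩, fun y => Subtype.ext rfl⟩
  rw [hZ, hF, Fintype.card_fin, Fintype.card_unique, one_mul, one_mul]
  have hq : 1 ≤ q := by rw [← hF]; exact Fintype.card_pos
  set a := q ^ (m - 1) with ha
  have ha1 : 1 ≤ a := Nat.one_le_pow _ _ hq
  have e1 : q ^ m = q * a := by
    rw [ha, ← pow_succ']
    congr 1
    omega
  have e2 : q ^ (2 * m - 1) = q * a * a := by
    rw [← e1, ha, ← pow_add]
    congr 1
    omega
  rw [e1, e2]
  have h1 : 1 ≤ q * a := Nat.mul_pos hq ha1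
  have h2 : a ≤ q * a * a + q * a := by nlinarith
  zify [h1, h2]
  ring

end Cfsg.Agent.S0289
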