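import Cfsg.Statements.S0290
import Cfsg.Agent.Lib_helper11_QuadCount

set_option autoImplicit false
open Cfsg

namespace Cfsg.Agent.S0290

open Cfsg.Agent.helper11

theorem result {F : Type*} [Field F] [Fintype F] {q : ℕ} (hF : Fintype.card F = q) (m : ℕ) (hm : 1 ≤ m) (a b : F) (hab : ∀ z₁ z₂ : F, z₁ ^ 2 + a * z₁ * z₂ + b * z₂ ^ 2 = 0 → z₁ = 0 ∧ z₂ = 0) : Nat.card {v : (Fin (m - 1) ⊕ Fin (m - 1)) ⊕ Fin 2 → F // Cfsg.quadFormMinus (m - 1) F a b v = 0} = q ^ (2 * m - 1) + q ^ (m - 1) - q ^ m := by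
  classical
  let c : (Fin 2 → F) → F := fun z => -(z 0 ^ 2 + a * z 0 * z 1 + b * z 1 ^ 2)
  let e : ((Fin (m - 1) ⊕ Fin (m - 1)) ⊕ Fin 2 → F) ≃
      (Fin 2 → F) × (Fin (m - 1) → F) × (Fin (m - 1) → F) :=
    ((Equiv.sumArrowEquivProdArrow (Fin (m - 1) ⊕ Fin (m - 1)) (Fin 2) F).trans
      (Equiv.prodCongr (Equiv.sumArrowEquivProdArrow (Fin (m - 1)) (Fin (m - 1)) F)
        (Equiv.refl _))).trans (Equiv.prodComm _ _)
  have he : ∀ v : (Fin (m - 1) ⊕ Fin (m - 1)) ⊕ Fin 2 → F,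
      Cfsg.quadFormMinus (m - 1) F a b v = 0 ↔ (e v).2.1 ⬝ᵥ (e v).2.2 = c (e v).1 := by
    intro v
    show (∑ i : Fin (m - 1), v (.inl (.inl i)) * v (.inl (.inr i)))
        + (v (.inr 0) ^ 2 + a * v (.inr 0) * v (.inr 1) + b * v (.inr 1) ^ 2) = 0 ↔
      (∑ i : Fin (m - 1), v (.inl (.inl i)) * v (.inl (.inr i))) =
        -(v (.inr 0) ^ 2 + a * v (.inr 0) * v (.inr 1) + b * v (.inr 1) ^ 2)
    constructor
    · intro h
      linear_combination h
    · intro h
      linear_combination h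
  rw [Nat.card_congr (Equiv.subtypeEquiv
    (q := fun p : (Fin 2 → F) × (Fin (m - 1) → F) × (Fin (m - 1) → F) =>
      p.2.1 ⬝ᵥ p.2.2 = c p.1) e he),
    card_param_dotProduct (ι := Fin (m - 1)) c]
  have hZ : Nat.card {s : Fin 2 → F // c s = 0} = 1 := by
    rw [Nat.card_eq_fintype_card, Fintype.card_eq_one_iff]
    refine ⟨⟨0, by simp [c]⟩, fun y => Subtype.ext ?_⟩
    have h1 := y.2
    simp only [c, neg_eq_zero] at h1
    obtain ⟨h2, h3⟩ := hab _ _ h1
    funext i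
    fin_cases i
    · exact h2
    · exact h3
  rw [hZ, hF, Fintype.card_fin, one_mul, Fintype.card_fun, Fintype.card_fin, hF]
  have hq : 1 ≤ q := by rw [← hF]; exact Fintype.card_pos
  rcases Nat.lt_or_ge m 2 with hm1 | hm2
  · have : m = 1 := by omega
    subst this
    simp
  · set t := q ^ (m - 2) with ht
    have ht1 : 1 ≤ t := Nat.one_le_pow _ _ hq
    have e0 : q ^ (m - 1 - 1) = t := by
      rw [ht]
      congr 1
    have e1 : q ^ (m - 1) = q * t := by
      rw [ht, ← pow_succ']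
      congr 1
      omega
    have e2 : q ^ m = q * (q * t) := by
      rw [← e1, ← pow_succ']
      congr 1
      omega
    have e3 : q ^ (2 * m - 1) = q * t * (q * (q * t)) := by
      have : q ^ (2 * m - 1) = q ^ (m - 1) * q ^ m := by
        rw [← pow_add]
        congr 1
        omega
      rw [this, e1, e2]
    rw [e0, e1, e2, e3]
    have h1 : 1 ≤ q * t := Nat.mul_pos hq ht1
    have h2 : q * (q * t) ≤ q * t * (q * (q * t)) + q * t :=
      le_trans (Nat.le_mul_of_pos_left (q * (q * t)) h1) (Nat.le_add_right _ _)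
    zify [h1, h2]
    ring

end Cfsg.Agent.S0290
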