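import Cfsg.Statements.S0291
import Cfsg.Agent.Lib_helper11_QuadCount

set_option autoImplicit false
open Cfsg

namespace Cfsg.Agent.S0291

open Cfsg.Agent.helper11

theorem result {F : Type*} [Field F] [Fintype F] {q : ℕ} (hF : Fintype.card F = q) (hodd : Odd q) (m : ℕ) : Nat.card {v : Unit ⊕ (Fin m ⊕ Fin m) → F // Cfsg.quadFormOdd m F v = 0} = q ^ (2 * m) := by
  classical
  let e : (Unit ⊕ (Fin m ⊕ Fin m) → F) ≃ F × (Fin m → F) × (Fin m → F) :=
    (Equiv.sumArrowEquivProdArrow Unit (Fin m ⊕ Fin m) F).trans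
      (Equiv.prodCongr (Equiv.funUnique Unit F) (Equiv.sumArrowEquivProdArrow (Fin m) (Fin m) F))
  have he : ∀ v : Unit ⊕ (Fin m ⊕ Fin m) → F, Cfsg.quadFormOdd m F v = 0 ↔
      (e v).2.1 ⬝ᵥ (e v).2.2 = (fun s : F => -s ^ 2) (e v).1 := by
    intro v
    show v (.inl ()) ^ 2 + ∑ i : Fin m, v (.inr (.inl i)) * v (.inr (.inr i)) = 0 ↔
      (∑ i : Fin m, v (.inr (.inl i)) * v (.inr (.inr i))) = -(v (.inl ())) ^ 2
    constructor
    · intro h
      linear_combination h
    · intro h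
      linear_combination h
  rw [Nat.card_congr (Equiv.subtypeEquiv
    (q := fun p : F × (Fin m → F) × (Fin m → F) =>
      p.2.1 ⬝ᵥ p.2.2 = (fun s : F => -s ^ 2) p.1) e he),
    card_param_dotProduct (ι := Fin m) (fun s : F => -s ^ 2)]
  have hZ : Nat.card {s : F // (fun s : F => -s ^ 2) s = 0} = 1 := by
    rw [Nat.card_eq_fintype_card, Fintype.card_eq_one_iff]
    refine ⟨⟨0, by simp⟩, fun y => Subtype.ext ?_⟩
    have := y.2
    simpa using this
  rw [hZ, hF, Fintype.card_fin, one_mul]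
  have hq : 1 ≤ q := by rw [← hF]; exact Fintype.card_pos
  rcases Nat.eq_zero_or_pos m with rfl | hm
  · simp
  · set a := q ^ (m - 1) with ha
    have ha1 : 1 ≤ a := Nat.one_le_pow _ _ hq
    have e1 : q ^ m = q * a := by
      rw [ha, ← pow_succ']
      congr 1
      omega
    have e2 : q ^ (2 * m) = q * a * (q * a) := by
      rw [← e1, ← pow_add]
      congr 1
      omega
    rw [e1, e2]
    have h1 : 1 ≤ q * a := Nat.mul_pos hq ha1
    zify [h1]
    ring

end Cfsg.Agent.S0291
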