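import Cfsg.Statements.S0292
import Cfsg.Agent.Lib_helper13_Center3
import Cfsg.Agent.Lib_helper13_ReflI

set_option autoImplicit false
open Cfsg

namespace Cfsg.Agent.S0292

open Matrix QuadraticMap Cfsg.Agent.helper13


/-- 2 |PΩ_{2m+1}(q)| = q^(m^2) prod_{i=1}^{m} (q^(2i) - 1), for q odd and m at least 3 (type B_m). -/
theorem result {F : Type*} [Field F] [Fintype F] {q : ℕ} (hF : Fintype.card F = q) (hodd : Odd q) (m : ℕ) (hm : 3 ≤ m) : 2 * Nat.card (Cfsg.POmega F (Cfsg.quadFormOdd m F)) = q ^ (m ^ 2) * ∏ i ∈ Finset.range m, (q ^ (2 * (i + 1)) - 1) := by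
  classical
  have h2 : (2 : F) ≠ 0 := two_ne_zero_of_odd_card hF hodd
  have hcard := card_odd (F := F) h2 m
  rw [hF] at hcard
  rw [← QOdd_coe F m] at hcard ⊢
  have hnd := QOdd_nondeg (F := F) h2 m
  have hcardι : Fintype.card (Unit ⊕ (Fin m ⊕ Fin m)) = 2 * m + 1 := by
    rw [Fintype.card_sum, Fintype.card_sum, Fintype.card_fin, Fintype.card_unit]; omega
  have hn : 5 ≤ Fintype.card (Unit ⊕ (Fin m ⊕ Fin m)) := by rw [hcardι]; omega
  have hT := oddT_ts F m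
  have hT3 : 3 ≤ Module.finrank F ↥(LinearMap.range (oddMap F m)) := by
    rw [oddT_finrank]; omega
  have hnoneg : ¬ ∃ x : ↥(Cfsg.isometryGroup F ⇑(QOdd F m)),
      x ∈ commutator ↥(Cfsg.isometryGroup F ⇑(QOdd F m)) ∧
      ((x : Matrix.GeneralLinearGroup (Unit ⊕ (Fin m ⊕ Fin m)) F) :
        Matrix (Unit ⊕ (Fin m ⊕ Fin m)) (Unit ⊕ (Fin m ⊕ Fin m)) F) = -1 := by
    rintro ⟨x, hx, hxm⟩
    have hker := Abelianization.commutator_subset_ker
      (Matrix.GeneralLinearGroup.det.comp (Cfsg.isometryGroup F ⇑(QOdd F m)).subtype) hx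
    have hdet : ((x : Matrix.GeneralLinearGroup (Unit ⊕ (Fin m ⊕ Fin m)) F) :
        Matrix (Unit ⊕ (Fin m ⊕ Fin m)) (Unit ⊕ (Fin m ⊕ Fin m)) F).det = 1 := by
      have h1 := MonoidHom.mem_ker.mp hker
      have h3 := congrArg Units.val h1
      simpa using h3
    rw [hxm, Matrix.det_neg, Matrix.det_one, mul_one, hcardι,
      Odd.neg_one_pow ⟨m, rfl⟩] at hdet
    apply h2
    have : (1 : F) + 1 = 0 := by
      nth_rewrite 1 [← hdet]
      ring
    rw [← one_add_one_eq_two]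
    exact this
  exact gcd_card_POmega (QOdd F m) hnd hn _ hT hT3
    (q ^ (m ^ 2) * ∏ i ∈ Finset.range m, (q ^ (2 * (i + 1)) - 1))
    (by rw [hcard]; ring) 2 (fun h => absurd h h2) (fun _ h => absurd h hnoneg) (fun _ _ => rfl)

end Cfsg.Agent.S0292
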