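import Cfsg.Statements.S0293
import Cfsg.Agent.Lib_helper13_Center3
import Cfsg.Agent.S0790

set_option autoImplicit false
open Cfsg

namespace Cfsg.Agent.S0293

open Matrix QuadraticMap Cfsg.Agent.helper13


/-- gcd(4, q^m - 1) |PΩ^+_{2m}(q)| = q^(m(m-1)) (q^m - 1) prod_{i=1}^{m-1} (q^(2i) - 1), m at least 4 (type D_m). -/
theorem result {F : Type*} [Field F] [Fintype F] {q : ℕ} (hF : Fintype.card F = q) (m : ℕ) (hm : 4 ≤ m) : Nat.gcd 4 (q ^ m - 1) * Nat.card (Cfsg.POmega F (Cfsg.quadFormPlus m F)) = q ^ (m * (m - 1)) * (q ^ m - 1) * ∏ i ∈ Finset.range (m - 1), (q ^ (2 * (i + 1)) - 1) := by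
  classical
  obtain ⟨k, rfl⟩ : ∃ k, m = k + 1 := ⟨m - 1, by omega⟩
  have hq0 : 0 < q := by rw [← hF]; exact Fintype.card_pos
  have hpos : 0 < q ^ (k + 1) := pow_pos hq0 _
  have hcard := card_plus (F := F) k
  rw [hF] at hcard
  rw [← QPlus_coe F (k + 1)] at hcard ⊢
  have hnd := QPlus_nondeg (F := F) (k + 1)
  have hn : 5 ≤ Fintype.card (Fin (k + 1) ⊕ Fin (k + 1)) := by
    rw [Fintype.card_sum, Fintype.card_fin]; omega
  have hT := (stdU_mts F (k + 1)).ts
  have hT3 : 3 ≤ Module.finrank F ↥(LinearMap.range (inlMap F (k + 1))) := by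
    rw [(stdU_mts F (k + 1)).rk]; omega
  have key := gcd_card_POmega (QPlus F (k + 1)) hnd hn _ hT hT3
    (q ^ ((k + 1) * k) * (q ^ (k + 1) - 1) * ∏ i ∈ Finset.range k, (q ^ (2 * (i + 1)) - 1))
    (by rw [hcard]; ring) (Nat.gcd 4 (q ^ (k + 1) - 1)) ?_ ?_ ?_
  · simpa [Nat.add_sub_cancel] using key
  · intro h2
    have hch : ringChar F = 2 := CharP.ringChar_of_prime_eq_zero Nat.prime_two h2
    have hq2 := FiniteField.even_card_of_char_two hch
    rw [hF] at hq2
    have hpe := pow_mod_two_of_even hq2 (k + 1) (by omega)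
    rw [gcd_four]
    have h1 : (q ^ (k + 1) - 1) % 4 ≠ 0 := by omega
    have h3 : (q ^ (k + 1) - 1) % 4 ≠ 2 := by omega
    rw [if_neg h1, if_neg h3]
  · intro h2 hneg
    have hq2 := FiniteField.odd_card_of_char_ne_two (ringChar_ne_two_of h2)
    rw [hF] at hq2
    have h790 := Cfsg.Agent.S0790.result hF (Nat.odd_iff.mpr hq2) (k + 1) (by omega)
    rw [← QPlus_coe F (k + 1)] at h790
    have h1 := h790.mp hneg
    rw [gcd_four]
    have h3 : (q ^ (k + 1) - 1) % 4 = 0 := by omega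
    rw [if_pos h3]
  · intro h2 hneg
    have hq2 := FiniteField.odd_card_of_char_ne_two (ringChar_ne_two_of h2)
    rw [hF] at hq2
    have h790 := Cfsg.Agent.S0790.result hF (Nat.odd_iff.mpr hq2) (k + 1) (by omega)
    rw [← QPlus_coe F (k + 1)] at h790
    have h1 : ¬ q ^ (k + 1) % 4 = 1 := fun h => hneg (h790.mpr h)
    rcases pow_mod_four_of_odd hq2 (k + 1) with h4 | h4
    · exact absurd h4 h1
    · rw [gcd_four]
      have h3 : (q ^ (k + 1) - 1) % 4 ≠ 0 := by omega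
      have h5 : (q ^ (k + 1) - 1) % 4 = 2 := by omega
      rw [if_neg h3, if_pos h5]

end Cfsg.Agent.S0293
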