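import Cfsg.Statements.S0294
import Cfsg.Agent.Lib_helper13_Center3
import Cfsg.Agent.S0791

set_option autoImplicit false
open Cfsg

namespace Cfsg.Agent.S0294

open Matrix QuadraticMap Cfsg.Agent.helper13


/-- gcd(4, q^m + 1) |PΩ^-_{2m}(q)| = q^(m(m-1)) (q^m + 1) prod_{i=1}^{m-1} (q^(2i) - 1), m at least 4 (type ²D_m). -/
theorem result {F : Type*} [Field F] [Fintype F] {q : ℕ} (hF : Fintype.card F = q) (m : ℕ) (hm : 4 ≤ m) (a b : F) (hab : ∀ z₁ z₂ : F, z₁ ^ 2 + a * z₁ * z₂ + b * z₂ ^ 2 = 0 → z₁ = 0 ∧ z₂ = 0) : Nat.gcd 4 (q ^ m + 1) * Nat.card (Cfsg.POmega F (Cfsg.quadFormMinus (m - 1) F a b)) = q ^ (m * (m - 1)) * (q ^ m + 1) * ∏ i ∈ Finset.range (m - 1), (q ^ (2 * (i + 1)) - 1) := by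
  classical
  obtain ⟨k, hk⟩ : ∃ k, m - 1 = k := ⟨m - 1, rfl⟩
  have hmk : m = k + 1 := by omega
  rw [hk]
  subst hmk
  have hq0 : 0 < q := by rw [← hF]; exact Fintype.card_pos
  have hpos : 0 < q ^ (k + 1) := pow_pos hq0 _
  have hcard := card_minus (F := F) k a b hab
  rw [hF] at hcard
  rw [← QMinus_coe F k a b] at hcard ⊢
  have hnd := QMinus_nondeg (F := F) k a b (disc_ne_zero_of_aniso a b hab)
  have hn : 5 ≤ Fintype.card ((Fin k ⊕ Fin k) ⊕ Fin 2) := by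
    rw [Fintype.card_sum, Fintype.card_sum, Fintype.card_fin, Fintype.card_fin]; omega
  have hT := minusT_ts F k a b
  have hT3 : 3 ≤ Module.finrank F ↥(LinearMap.range (minusMap F k)) := by
    rw [minusT_finrank]; omega
  have h791 : ∀ hodd : Odd q, ((∃ g : ↥(Cfsg.isometryGroup F (Cfsg.quadFormMinus k F a b)),
      g ∈ Cfsg.Omega F (Cfsg.quadFormMinus k F a b) ∧
      ((g : Matrix.GeneralLinearGroup ((Fin k ⊕ Fin k) ⊕ Fin 2) F) :
        Matrix ((Fin k ⊕ Fin k) ⊕ Fin 2) ((Fin k ⊕ Fin k) ⊕ Fin 2) F) = -1) ↔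
      q ^ (k + 1) % 4 = 3) :=
    fun hodd => Cfsg.Agent.S0791.result hF hodd (k + 1) (by omega) a b hab
  rw [← QMinus_coe F k a b] at h791
  have key := gcd_card_POmega (QMinus F k a b) hnd hn _ hT hT3
    (q ^ ((k + 1) * k) * (q ^ (k + 1) + 1) * ∏ i ∈ Finset.range k, (q ^ (2 * (i + 1)) - 1))
    (by rw [hcard]; ring) (Nat.gcd 4 (q ^ (k + 1) + 1)) ?_ ?_ ?_
  · exact key
  · intro h2
    have hch : ringChar F = 2 := CharP.ringChar_of_prime_eq_zero Nat.prime_two h2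
    have hq2 := FiniteField.even_card_of_char_two hch
    rw [hF] at hq2
    have hpe := pow_mod_two_of_even hq2 (k + 1) (by omega)
    rw [gcd_four]
    have h1 : (q ^ (k + 1) + 1) % 4 ≠ 0 := by omega
    have h3 : (q ^ (k + 1) + 1) % 4 ≠ 2 := by omega
    rw [if_neg h1, if_neg h3]
  · intro h2 hneg
    have hq2 := FiniteField.odd_card_of_char_ne_two (ringChar_ne_two_of h2)
    rw [hF] at hq2
    have h1 := (h791 (Nat.odd_iff.mpr hq2)).mp hneg
    rw [gcd_four]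
    have h3 : (q ^ (k + 1) + 1) % 4 = 0 := by omega
    rw [if_pos h3]
  · intro h2 hneg
    have hq2 := FiniteField.odd_card_of_char_ne_two (ringChar_ne_two_of h2)
    rw [hF] at hq2
    have h1 : ¬ q ^ (k + 1) % 4 = 3 := fun h => hneg ((h791 (Nat.odd_iff.mpr hq2)).mpr h)
    rcases pow_mod_four_of_odd hq2 (k + 1) with h4 | h4
    · rw [gcd_four]
      have h3 : (q ^ (k + 1) + 1) % 4 ≠ 0 := by omega
      have h5 : (q ^ (k + 1) + 1) % 4 = 2 := by omega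
      rw [if_neg h3, if_pos h5]
    · exact absurd h4 h1

end Cfsg.Agent.S0294
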