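import Cfsg.Statements.S0295
import Cfsg.Agent.Lib_helper13_SimpF
import Cfsg.Agent.Lib_helper13_ReflI
import Cfsg.Agent.Lib_helper13_OrthE
import Cfsg.Agent.Lib_helper13_OrthG
import Cfsg.Agent.Lib_helper13_QStd

set_option autoImplicit false
open Cfsg

namespace Cfsg.Agent.S0295




/-- PΩ_{2m+1}(q) is simple for q odd and m at least 3. -/
theorem result {F : Type*} [Field F] [Fintype F] (hodd : Odd (Fintype.card F)) (m : ℕ) (hm : 3 ≤ m) : IsSimpleGroup (Cfsg.POmega F (Cfsg.quadFormOdd m F)) := by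
  classical
  have h2 : (2 : F) ≠ 0 := Cfsg.Agent.helper13.two_ne_zero_of_odd_card rfl hodd
  rw [← Cfsg.Agent.helper13.QOdd_coe F m]
  exact Cfsg.Agent.helper13.pomega_simple (Cfsg.Agent.helper13.QOdd F m)
    (Cfsg.Agent.helper13.QOdd_nondeg h2 m) (by simp [Fintype.card_sum]; omega)

end Cfsg.Agent.S0295
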