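import Cfsg.Statements.S0296
import Cfsg.Agent.Lib_helper13_SimpF
import Cfsg.Agent.Lib_helper13_ReflI
import Cfsg.Agent.Lib_helper13_OrthE
import Cfsg.Agent.Lib_helper13_OrthG
import Cfsg.Agent.Lib_helper13_QStd

set_option autoImplicit false
open Cfsg

namespace Cfsg.Agent.S0296




/-- PΩ^+_{2m}(q) is simple for m at least 4. -/
theorem result {F : Type*} [Field F] [Fintype F] (m : ℕ) (hm : 4 ≤ m) : IsSimpleGroup (Cfsg.POmega F (Cfsg.quadFormPlus m F)) := by
  classical
  rw [← Cfsg.Agent.helper13.QPlus_coe F m]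
  exact Cfsg.Agent.helper13.pomega_simple (Cfsg.Agent.helper13.QPlus F m)
    (Cfsg.Agent.helper13.QPlus_nondeg m) (by simp [Fintype.card_sum]; omega)

end Cfsg.Agent.S0296
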