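import Cfsg.Statements.S0298
import Cfsg.Agent.Lib_helper13_O3C
import Cfsg.Agent.Lib_helper13_ReflI

set_option autoImplicit false
open Cfsg

namespace Cfsg.Agent.S0298




/-- PΩ_3(q) is isomorphic to PSL_2(q) for q odd. -/
theorem result {F : Type*} [Field F] [Fintype F] (hodd : Odd (Fintype.card F)) : Nonempty (Cfsg.POmega F (Cfsg.quadFormOdd 1 F) ≃* Matrix.ProjectiveSpecialLinearGroup (Fin 2) F) := by
  have h2 : (2 : F) ≠ 0 := Cfsg.Agent.helper13.two_ne_zero_of_odd_card rfl hodd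
  have hF : ∃ a : F, a ≠ 0 ∧ a ≠ 1 := by
    refine ⟨-1, neg_ne_zero.mpr one_ne_zero, ?_⟩
    intro h
    apply h2
    linear_combination -h
  rw [← Cfsg.Agent.helper13.QOdd_coe F 1]
  exact Cfsg.Agent.helper13.pomega3_iso h2 hF

end Cfsg.Agent.S0298
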