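import Mathlib
import Cfsg.Statements.S0299
import Cfsg.Agent.Lib_helper17_O4f

set_option autoImplicit false

open Cfsg

namespace Cfsg.Agent.S0299

open Cfsg.Agent.helper17.O4 Matrix

theorem result {F : Type*} [Field F] [Fintype F] (hF : 3 ≤ Fintype.card F) : Nonempty (Cfsg.POmega F (Cfsg.quadFormPlus 2 F) ≃* Matrix.ProjectiveSpecialLinearGroup (Fin 2) F × Matrix.ProjectiveSpecialLinearGroup (Fin 2) F) := by
  let ψ : Matrix.SpecialLinearGroup (Fin 2) F × Matrix.SpecialLinearGroup (Fin 2) F →* OW F :=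
    (psi0 F).codRestrict (OW F) psi0_mem_OW
  have hrange : ψ.range = commutator (OW F) := by
    ext x
    constructor
    · rintro ⟨s, rfl⟩
      rw [mem_commutator_subtype_iff]
      exact psi0_mem_commutator hF s
    · intro hx
      rw [mem_commutator_subtype_iff] at hx
      obtain ⟨s, hs⟩ := commutator_OW_le hx
      exact ⟨s, Subtype.ext hs⟩
  have hN : ∀ h, h ∈ (Subgroup.center (Matrix.SpecialLinearGroup (Fin 2) F)).prod
      (Subgroup.center (Matrix.SpecialLinearGroup (Fin 2) F)) ↔
      ∀ h', ψ h' * ψ h = ψ h * ψ h' := by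
    intro h
    constructor
    · rintro ⟨h1, h2⟩ h'
      rw [← map_mul, ← map_mul]
      congr 1
      exact Prod.ext (Subgroup.mem_center_iff.mp h1 h'.1) (Subgroup.mem_center_iff.mp h2 h'.2)
    · intro hc
      have := central_of_comm h (fun h' => congrArg Subtype.val (hc h'))
      exact ⟨this.1, this.2⟩
  obtain ⟨e1⟩ := commQuot_congr (isoEquiv (F := F))
  obtain ⟨e2⟩ := commQuot_of_range ψ hrange _ hN
  exact ⟨(e1.trans e2).trans (QuotientGroup.prodMulEquiv _ _)⟩

end Cfsg.Agent.S0299
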