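import Mathlib
import Cfsg.Statements.S0300
import Cfsg.Agent.Lib_helper17_O4n

set_option autoImplicit false

open Cfsg

namespace Cfsg.Agent.S0300

open Cfsg.Agent.helper17.O4 Cfsg.Agent.helper17.O4m Matrix

theorem result {F K : Type*} [Field F] [Fintype F] [Field K] [Fintype K] {q : ℕ} (hF : Fintype.card F = q) (hK : Fintype.card K = q ^ 2) (a b : F) (hab : ∀ z₁ z₂ : F, z₁ ^ 2 + a * z₁ * z₂ + b * z₂ ^ 2 = 0 → z₁ = 0 ∧ z₂ = 0) : Nonempty (Cfsg.POmega F (Cfsg.quadFormMinus 1 F a b) ≃* Matrix.ProjectiveSpecialLinearGroup (Fin 2) K) := by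
  haveI : Fact (Fintype.card K = q ^ 2) := ⟨hK⟩
  haveI : Fact (Fintype.card F = q) := ⟨hF⟩
  obtain ⟨ι⟩ := Cfsg.Agent.helper13.exists_ringHom_of_card_pow (F := F) (K := K) 2 (by norm_num)
    (by rw [hK, hF])
  letI : Algebra F K := ι.toAlgebra
  obtain ⟨θ, h1, h2, h3⟩ := exists_theta (K := K) q hF a b hab
  have hθ : ThetaData q a b θ := ⟨h1, h2, h3⟩
  let ψ : Matrix.SpecialLinearGroup (Fin 2) K →* OW K q F :=
    (psi0 K q F).codRestrict (OW K q F) (psi0_mem_OW q)
  have hrange : ψ.range = commutator (OW K q F) := by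
    ext x
    constructor
    · rintro ⟨s, rfl⟩
      rw [mem_commutator_subtype_iff]
      exact psi0_mem_commutator q s
    · intro hx
      rw [mem_commutator_subtype_iff] at hx
      obtain ⟨s, hs⟩ := commutator_OW_le q hθ hab hx
      exact ⟨s, Subtype.ext hs⟩
  have hN : ∀ h, h ∈ Subgroup.center (Matrix.SpecialLinearGroup (Fin 2) K) ↔
      ∀ h', ψ h' * ψ h = ψ h * ψ h' := by
    intro h
    constructor
    · intro h1 h'
      rw [← map_mul, ← map_mul]
      congr 1
      exact Subgroup.mem_center_iff.mp h1 h'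
    · intro hc
      exact central_of_comm q h (fun h' => congrArg Subtype.val (hc h'))
  obtain ⟨e1⟩ := commQuot_congr (isoEquiv q hθ)
  obtain ⟨e2⟩ := commQuot_of_range ψ hrange _ hN
  exact ⟨e1.trans e2⟩

end Cfsg.Agent.S0300
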