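import Mathlib
import Cfsg.Statements.S0301
import Cfsg.Agent.Lib_helper17_O5d

set_option autoImplicit false

open Cfsg

namespace Cfsg.Agent.S0301

open Cfsg.Agent.helper17.O4 Cfsg.Agent.helper17.O5 Matrix

theorem result {F : Type*} [Field F] [Fintype F] (hodd : Odd (Fintype.card F)) : Nonempty (Cfsg.POmega F (Cfsg.quadFormOdd 2 F) ≃* Cfsg.PSp 2 F) := by
  obtain ⟨e1⟩ := commQuot_congr (isoEquiv5 (F := F))
  obtain ⟨e2⟩ := commQuot_of_range (psi5 F) (range_psi5_eq hodd) _ (psi5_central hodd)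
  have e3 : Cfsg.PSp 2 F ≃* Sp4 F ⧸ Subgroup.center (Sp4 F) :=
    QuotientGroup.congr _ _ (spEquiv (F := F)) (map_center_equiv (spEquiv (F := F)))
  exact ⟨(e1.trans e2).trans e3.symm⟩

end Cfsg.Agent.S0301
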