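import Mathlib
import Cfsg.Statements.S0302
import Cfsg.Agent.Lib_helper17_O6e

set_option autoImplicit false

open Cfsg

namespace Cfsg.Agent.S0302

open Cfsg.Agent.helper17.O4 Cfsg.Agent.helper17.O6 Matrix

theorem result {F : Type*} [Field F] [Fintype F] : Nonempty (Cfsg.POmega F (Cfsg.quadFormPlus 3 F) ≃* Matrix.ProjectiveSpecialLinearGroup (Fin 4) F) := by
  obtain ⟨e1⟩ := commQuot_congr (isoEquiv6 (F := F))
  obtain ⟨e2⟩ := commQuot_of_range (psi6 F) range_psi6_eq _ psi6_central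
  exact ⟨e1.trans e2⟩

end Cfsg.Agent.S0302
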