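import Mathlib
import Cfsg.Statements.S0303
import Cfsg.Agent.Lib_helper17_O7f

set_option autoImplicit false

open Cfsg

namespace Cfsg.Agent.S0303

open Cfsg.Agent.helper17.O4 Cfsg.Agent.helper17.O4m Cfsg.Agent.helper17.O7 Matrix

theorem result {F K : Type*} [Field F] [Fintype F] [Field K] [Fintype K] {q : ℕ} (hF : Fintype.card F = q) (hK : Fintype.card K = q ^ 2) (a b : F) (hab : ∀ z₁ z₂ : F, z₁ ^ 2 + a * z₁ * z₂ + b * z₂ ^ 2 = 0 → z₁ = 0 ∧ z₂ = 0) : Nonempty (Cfsg.POmega F (Cfsg.quadFormMinus 2 F a b) ≃* Cfsg.PSU 4 K q) := by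
  haveI : Fact (Fintype.card K = q ^ 2) := ⟨hK⟩
  haveI : Fact (Fintype.card F = q) := ⟨hF⟩
  obtain ⟨ι⟩ := Cfsg.Agent.helper13.exists_ringHom_of_card_pow (F := F) (K := K) 2 (by norm_num)
    (by rw [hK, hF])
  letI : Algebra F K := ι.toAlgebra
  obtain ⟨θ, h1, h2, h3⟩ := exists_theta (K := K) q hF a b hab
  have hθ : ThetaData q a b θ := ⟨h1, h2, h3⟩
  obtain ⟨ε, ε', σ, hε⟩ := exists_epsData (K := K) q
  obtain ⟨e1⟩ := commQuot_congr (isoEquivU q hθ hε)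
  obtain ⟨e2⟩ := commQuot_of_range (psiU K q F) (range_psiU_eq q hθ hε hab) _
    (psiU_central q hθ.ne)
  exact ⟨e1.trans e2⟩

end Cfsg.Agent.S0303
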