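import Cfsg.Statements.S0305
import Cfsg.Agent.Lib_helper11_DihPres

set_option autoImplicit false
open Cfsg

namespace Cfsg.Agent.S0305

open Matrix

variable {F : Type*} [Field F]

/-- diagonal matrix -/
def dMat (a b : F) : Matrix (Fin 1 ⊕ Fin 1) (Fin 1 ⊕ Fin 1) F := fun i j =>
  match i, j with
  | .inl _, .inl _ => a
  | .inr _, .inr _ => b
  | _, _ => 0

/-- antidiagonal matrix -/
def wMat (a b : F) : Matrix (Fin 1 ⊕ Fin 1) (Fin 1 ⊕ Fin 1) F := fun i j =>
  match i, j with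
  | .inl _, .inr _ => a
  | .inr _, .inl _ => b
  | _, _ => 0

theorem dMat_mul_dMat (a b c d : F) : dMat a b * dMat c d = dMat (a * c) (b * d) := by
  ext i j
  rcases i with i | i <;> rcases j with j | j <;>
    simp [dMat, Matrix.mul_apply, Fintype.sum_sum_type]

theorem wMat_mul_dMat (a b c d : F) : wMat a b * dMat c d = wMat (a * d) (b * c) := by
  ext i j
  rcases i with i | i <;> rcases j with j | j <;>
    simp [dMat, wMat, Matrix.mul_apply, Fintype.sum_sum_type]

theorem dMat_mul_wMat (a b c d : F) : dMat a b * wMat c d = wMat (a * c) (b * d) := by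
  ext i j
  rcases i with i | i <;> rcases j with j | j <;>
    simp [dMat, wMat, Matrix.mul_apply, Fintype.sum_sum_type]

theorem wMat_mul_wMat (a b c d : F) : wMat a b * wMat c d = dMat (a * d) (b * c) := by
  ext i j
  rcases i with i | i <;> rcases j with j | j <;>
    simp [dMat, wMat, Matrix.mul_apply, Fintype.sum_sum_type]

theorem dMat_one : dMat (1 : F) 1 = 1 := by
  ext i j
  rcases i with i | i <;> rcases j with j | j <;>
    simp [dMat, Matrix.one_apply, Subsingleton.elim i j]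

theorem quad_mulVec (M : Matrix (Fin 1 ⊕ Fin 1) (Fin 1 ⊕ Fin 1) F) (u : Fin 1 ⊕ Fin 1 → F) :
    quadFormPlus 1 F (M *ᵥ u) =
      (M (.inl 0) (.inl 0) * u (.inl 0) + M (.inl 0) (.inr 0) * u (.inr 0)) *
      (M (.inr 0) (.inl 0) * u (.inl 0) + M (.inr 0) (.inr 0) * u (.inr 0)) := by
  simp [quadFormPlus, Matrix.mulVec, dotProduct, Fintype.sum_sum_type]

theorem quad_apply (u : Fin 1 ⊕ Fin 1 → F) :
    quadFormPlus 1 F u = u (.inl 0) * u (.inr 0) := by
  simp [quadFormPlus]

theorem mem_iso_iff (g : GL (Fin 1 ⊕ Fin 1) F) :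
    g ∈ isometryGroup F (quadFormPlus 1 F) ↔
      ∀ u : Fin 1 ⊕ Fin 1 → F, quadFormPlus 1 F ((g : Matrix (Fin 1 ⊕ Fin 1) (Fin 1 ⊕ Fin 1) F) *ᵥ u) = quadFormPlus 1 F u := by
  constructor
  · intro h u
    exact h u u
  · intro h u v
    exact h u

/-- diagonal units -/
def dU (a : Fˣ) : GL (Fin 1 ⊕ Fin 1) F :=
  ⟨dMat (a : F) ((a⁻¹ : Fˣ) : F), dMat ((a⁻¹ : Fˣ) : F) (a : F),
    by rw [dMat_mul_dMat]; simp [dMat_one], by rw [dMat_mul_dMat]; simp [dMat_one]⟩

/-- the swap -/
def wU : GL (Fin 1 ⊕ Fin 1) F :=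
  ⟨wMat 1 1, wMat 1 1, by rw [wMat_mul_wMat]; simp [dMat_one], by rw [wMat_mul_wMat]; simp [dMat_one]⟩

theorem coe_dU (a : Fˣ) : ((dU a : GL (Fin 1 ⊕ Fin 1) F) : Matrix (Fin 1 ⊕ Fin 1) (Fin 1 ⊕ Fin 1) F) =
    dMat (a : F) ((a⁻¹ : Fˣ) : F) := rfl

theorem coe_wU : ((wU : GL (Fin 1 ⊕ Fin 1) F) : Matrix (Fin 1 ⊕ Fin 1) (Fin 1 ⊕ Fin 1) F) = wMat 1 1 := rfl

theorem dU_mem (a : Fˣ) : dU a ∈ isometryGroup F (quadFormPlus 1 F) := by
  rw [mem_iso_iff]
  intro u
  rw [quad_mulVec, quad_apply, coe_dU]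
  simp only [dMat]
  have : (a : F) * ((a⁻¹ : Fˣ) : F) = 1 := by simp
  linear_combination (u (.inl 0) * u (.inr 0)) * this

theorem wU_mem : (wU : GL (Fin 1 ⊕ Fin 1) F) ∈ isometryGroup F (quadFormPlus 1 F) := by
  rw [mem_iso_iff]
  intro u
  rw [quad_mulVec, quad_apply, coe_wU]
  simp only [wMat]
  ring

theorem dU_mul (a b : Fˣ) : dU (a * b) = dU a * dU b := by
  apply Units.ext
  rw [Units.val_mul, coe_dU, coe_dU, coe_dU, dMat_mul_dMat]
  simp [mul_comm]

theorem dU_one : dU (1 : Fˣ) = 1 := by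
  apply Units.ext
  rw [coe_dU]
  simp [dMat_one]

/-- the torus homomorphism -/
def dHom : Fˣ →* GL (Fin 1 ⊕ Fin 1) F where
  toFun := dU
  map_one' := dU_one
  map_mul' := dU_mul

theorem dHom_injective : Function.Injective (dHom (F := F)) := by
  intro a b h
  have := congrArg (fun g : GL (Fin 1 ⊕ Fin 1) F => (g : Matrix (Fin 1 ⊕ Fin 1) (Fin 1 ⊕ Fin 1) F) (Sum.inl 0) (Sum.inl 0)) h
  simp only [dHom, MonoidHom.coe_mk, OneHom.coe_mk, coe_dU, dMat] at this
  exact Units.ext this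

theorem wU_mul_self : (wU : GL (Fin 1 ⊕ Fin 1) F) * wU = 1 := by
  apply Units.ext
  rw [Units.val_mul, coe_wU, wMat_mul_wMat]
  simp [dMat_one]

theorem wU_conj (a : Fˣ) : (wU : GL (Fin 1 ⊕ Fin 1) F) * dU a * wU⁻¹ = (dU a)⁻¹ := by
  rw [mul_inv_eq_iff_eq_mul]
  have : (dU a)⁻¹ = dU a⁻¹ := by
    apply inv_eq_of_mul_eq_one_right
    rw [← dU_mul, mul_inv_cancel, dU_one]
  rw [this]
  apply Units.ext
  rw [Units.val_mul, Units.val_mul, coe_wU, coe_dU, coe_dU, wMat_mul_dMat, dMat_mul_wMat]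
  simp

/-- classification of the isometries -/
theorem classify (g : GL (Fin 1 ⊕ Fin 1) F) (hg : g ∈ isometryGroup F (quadFormPlus 1 F)) :
    (∃ a : Fˣ, g = dU a) ∨ (∃ a : Fˣ, g = wU * dU a) := by
  rw [mem_iso_iff] at hg
  set M : Matrix (Fin 1 ⊕ Fin 1) (Fin 1 ⊕ Fin 1) F := (g : Matrix (Fin 1 ⊕ Fin 1) (Fin 1 ⊕ Fin 1) F) with hM
  have h1 := hg (fun i => match i with | .inl _ => 1 | .inr _ => 0)
  have h2 := hg (fun i => match i with | .inl _ => 0 | .inr _ => 1)
  have h3 := hg (fun _ => 1)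
  rw [quad_mulVec, quad_apply] at h1 h2 h3
  simp only [mul_one, mul_zero, add_zero, zero_add] at h1 h2 h3
  set a := M (.inl 0) (.inl 0)
  set b := M (.inl 0) (.inr 0)
  set c := M (.inr 0) (.inl 0)
  set d := M (.inr 0) (.inr 0)
  have h4 : a * d + b * c = 1 := by linear_combination h3 - h1 - h2
  have hMeq : M = fun i j => match i, j with
      | .inl _, .inl _ => a
      | .inl _, .inr _ => b
      | .inr _, .inl _ => c
      | .inr _, .inr _ => d := by
    ext i j
    rcases i with i | i <;> rcases j with j | j <;>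
      simp [a, b, c, d, Subsingleton.elim i 0, Subsingleton.elim j 0]
  by_cases ha : a = 0
  · right
    rw [ha, zero_mul, zero_add] at h4
    have hb : b ≠ 0 := by
      rintro hb
      rw [hb, zero_mul] at h4
      exact zero_ne_one h4
    have hd : d = 0 := by
      rcases mul_eq_zero.mp h2 with h | h
      · exact absurd h hb
      · exact h
    have hc : c ≠ 0 := by
      rintro hc
      rw [hc, mul_zero] at h4
      exact zero_ne_one h4
    refine ⟨Units.mk0 c hc, ?_⟩
    apply Units.ext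
    rw [Units.val_mul, coe_wU, coe_dU, wMat_mul_dMat, ← hM, hMeq]
    ext i j
    rcases i with i | i <;> rcases j with j | j <;> simp [wMat, ha, hd]
    field_simp
    linear_combination h4
  · left
    have hc : c = 0 := by
      rcases mul_eq_zero.mp h1 with h | h
      · exact absurd h ha
      · exact h
    rw [hc, mul_zero, add_zero] at h4
    have hd : d ≠ 0 := by
      rintro hd
      rw [hd, mul_zero] at h4
      exact zero_ne_one h4
    have hb : b = 0 := by
      rcases mul_eq_zero.mp h2 with h | h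
      · exact h
      · exact absurd h hd
    refine ⟨Units.mk0 a ha, ?_⟩
    apply Units.ext
    rw [coe_dU, ← hM, hMeq]
    ext i j
    rcases i with i | i <;> rcases j with j | j <;> simp [dMat, hb, hc]
    field_simp
    linear_combination h4

/-- GO^+_2(q) is dihedral of order 2(q-1). -/
theorem result {F : Type*} [Field F] [Fintype F] {q : ℕ} (hF : Fintype.card F = q) : Nonempty (Cfsg.isometryGroup F (Cfsg.quadFormPlus 1 F) ≃* DihedralGroup (q - 1)) := by
  classical
  subst hF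
  have hq2 : 2 ≤ Fintype.card F := Fintype.one_lt_card
  have : NeZero (Fintype.card F - 1) := ⟨by omega⟩
  obtain ⟨ζ, hζ⟩ := IsCyclic.exists_generator (α := Fˣ)
  have hζord : orderOf ζ = Fintype.card F - 1 := by
    rw [orderOf_eq_card_of_forall_mem_zpowers hζ, Nat.card_units, Nat.card_eq_fintype_card]
  set x : isometryGroup F (quadFormPlus 1 F) := ⟨dU ζ, dU_mem ζ⟩ with hxdef
  set y : isometryGroup F (quadFormPlus 1 F) := ⟨wU, wU_mem⟩ with hydef
  have hord : orderOf x = Fintype.card F - 1 := by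
    rw [hxdef, Subgroup.orderOf_mk]
    have := orderOf_injective (dHom (F := F)) dHom_injective ζ
    rw [hζord] at this
    exact this
  have hx : x ^ (Fintype.card F - 1) = 1 := by
    rw [← hord]
    exact pow_orderOf_eq_one x
  have hy : y * y = 1 := by
    apply Subtype.ext
    exact wU_mul_self
  have hxy : y * x * y⁻¹ = x⁻¹ := by
    apply Subtype.ext
    exact wU_conj ζ
  have hpow : ∀ k : ℕ, ((x ^ k : isometryGroup F (quadFormPlus 1 F)) : GL (Fin 1 ⊕ Fin 1) F) =
      dU (ζ ^ k) := by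
    intro k
    rw [Subgroup.coe_pow]
    show (dHom ζ) ^ k = dHom (ζ ^ k)
    rw [map_pow]
  have hyx : y ∉ Subgroup.zpowers x := by
    intro hmem
    rw [← mem_powers_iff_mem_zpowers] at hmem
    obtain ⟨k, hk⟩ := hmem
    have h1 := congrArg (fun g : isometryGroup F (quadFormPlus 1 F) =>
      ((g : GL (Fin 1 ⊕ Fin 1) F) : Matrix (Fin 1 ⊕ Fin 1) (Fin 1 ⊕ Fin 1) F)
        (Sum.inl 0) (Sum.inl 0)) hk
    simp only [hpow, coe_dU, dMat] at h1
    rw [hydef] at h1
    simp only [coe_wU, wMat] at h1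
    exact (ζ ^ k).ne_zero h1
  let f := Cfsg.Agent.helper11.DihPres.dihHom x y hx hy hxy
  have hinj : Function.Injective f :=
    Cfsg.Agent.helper11.DihPres.dihHom_injective hx hord hy hxy hyx
  have hxk : ∀ k : ℕ, f (DihedralGroup.r (k : ZMod (Fintype.card F - 1))) = x ^ k := by
    intro k
    show x ^ ((k : ZMod (Fintype.card F - 1))).val = x ^ k
    rw [ZMod.val_natCast]
    conv_lhs => rw [← hord]
    exact pow_mod_orderOf x k
  have hyk : ∀ k : ℕ, f (DihedralGroup.sr (k : ZMod (Fintype.card F - 1))) = y * x ^ k := by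
    intro k
    show y * x ^ ((k : ZMod (Fintype.card F - 1))).val = y * x ^ k
    rw [ZMod.val_natCast]
    conv_lhs => rw [← hord]
    rw [pow_mod_orderOf x k]
  have hgen : ∀ a : Fˣ, ∃ k : ℕ, ζ ^ k = a := by
    intro a
    have := hζ a
    rw [← mem_powers_iff_mem_zpowers] at this
    exact this
  have hsurj : Function.Surjective f := by
    rintro ⟨g, hg⟩
    rcases classify g hg with ⟨a, rfl⟩ | ⟨a, rfl⟩
    · obtain ⟨k, rfl⟩ := hgen a
      refine ⟨DihedralGroup.r (k : ZMod (Fintype.card F - 1)), ?_⟩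
      rw [hxk]
      apply Subtype.ext
      exact hpow k
    · obtain ⟨k, rfl⟩ := hgen a
      refine ⟨DihedralGroup.sr (k : ZMod (Fintype.card F - 1)), ?_⟩
      rw [hyk]
      apply Subtype.ext
      rw [Subgroup.coe_mul, hpow k]
  exact ⟨(MulEquiv.ofBijective f ⟨hinj, hsurj⟩).symm⟩

end Cfsg.Agent.S0305
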