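import Mathlib
import Cfsg.Statements.S0306
import Cfsg.Agent.Lib_helper11_DihPres

set_option autoImplicit false
open Cfsg

namespace Cfsg.Agent.S0306

open Matrix Polynomial

/-- abstract recognition of a dihedral subgroup -/
theorem dihedral_of {G : Type*} [Group G] (O : Subgroup G) (n : ℕ) [NeZero n] (X S : G)
    (hXO : X ∈ O) (hSO : S ∈ O) (hord : orderOf X = n) (hS : S * S = 1)
    (hconj : S * X * S⁻¹ = X⁻¹) (hSX : S ∉ Subgroup.zpowers X)
    (hall : ∀ g ∈ O, ∃ k : ℕ, g = X ^ k ∨ g = X ^ k * S) : Nonempty (O ≃* DihedralGroup n) := by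
  set x : O := ⟨X, hXO⟩ with hxdef
  set y : O := ⟨S, hSO⟩ with hydef
  have hordx : orderOf x = n := by rw [hxdef, Subgroup.orderOf_mk]; exact hord
  have hx : x ^ n = 1 := by rw [← hordx]; exact pow_orderOf_eq_one x
  have hy : y * y = 1 := Subtype.ext hS
  have hxy : y * x * y⁻¹ = x⁻¹ := Subtype.ext hconj
  have hyx : y ∉ Subgroup.zpowers x := by
    intro hmem
    apply hSX
    obtain ⟨k, hk⟩ := Subgroup.mem_zpowers_iff.mp hmem
    rw [Subgroup.mem_zpowers_iff]
    refine ⟨k, ?_⟩
    have := congrArg Subtype.val hk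
    rw [Subgroup.coe_zpow] at this
    exact this
  let f := Cfsg.Agent.helper11.DihPres.dihHom x y hx hy hxy
  have hinj : Function.Injective f :=
    Cfsg.Agent.helper11.DihPres.dihHom_injective hx hordx hy hxy hyx
  have hxmem : x ∈ f.range := by
    refine ⟨DihedralGroup.r 1, ?_⟩
    show x ^ (1 : ZMod n).val = x
    rw [ZMod.val_one_eq_one_mod]
    conv_lhs => rw [← hordx]
    rw [pow_mod_orderOf, pow_one]
  have hymem : y ∈ f.range := by
    refine ⟨DihedralGroup.sr 0, ?_⟩
    show y * x ^ (0 : ZMod n).val = y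
    rw [ZMod.val_zero, pow_zero, mul_one]
  have hsurj : Function.Surjective f := by
    intro g
    rw [← MonoidHom.mem_range]
    obtain ⟨k, hk | hk⟩ := hall g.1 g.2
    · have : g = x ^ k := Subtype.ext (by rw [hk, Subgroup.coe_pow])
      rw [this]
      exact Subgroup.pow_mem _ hxmem k
    · have : g = x ^ k * y := Subtype.ext (by rw [hk, Subgroup.coe_mul, Subgroup.coe_pow])
      rw [this]
      exact Subgroup.mul_mem _ (Subgroup.pow_mem _ hxmem k) hymem
  exact ⟨(MulEquiv.ofBijective f ⟨hinj, hsurj⟩).symm⟩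

section field

variable {F : Type*} [Field F] (a b : F)

/-- the binary norm form -/
def N (c d : F) : F := c ^ 2 + a * c * d + b * d ^ 2

/-- the binary quadratic form on `Fin 2 → F` -/
def Q2 (v : Fin 2 → F) : F := v 0 ^ 2 + a * v 0 * v 1 + b * v 1 ^ 2

/-- multiplication by `c + d θ` -/
def M (c d : F) : Matrix (Fin 2) (Fin 2) F := !![c, -(b * d); d, c + a * d]

/-- the conjugation -/
def S : Matrix (Fin 2) (Fin 2) F := !![1, a; 0, -1]

/-- preservation of the form -/
def Pres (A : Matrix (Fin 2) (Fin 2) F) : Prop := ∀ v, Q2 a b (A *ᵥ v) = Q2 a b v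

theorem Q2_mulVec (A : Matrix (Fin 2) (Fin 2) F) (v : Fin 2 → F) :
    Q2 a b (A *ᵥ v) = (A 0 0 * v 0 + A 0 1 * v 1) ^ 2 +
      a * (A 0 0 * v 0 + A 0 1 * v 1) * (A 1 0 * v 0 + A 1 1 * v 1) +
      b * (A 1 0 * v 0 + A 1 1 * v 1) ^ 2 := by
  simp [Q2, Matrix.mulVec, dotProduct, Fin.sum_univ_two]

theorem pres_mul {A B : Matrix (Fin 2) (Fin 2) F} (hA : Pres a b A) (hB : Pres a b B) :
    Pres a b (A * B) := by
  intro v
  rw [← Matrix.mulVec_mulVec, hA, hB]

theorem pres_M {c d : F} (h : N a b c d = 1) : Pres a b (M a b c d) := by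
  intro v
  rw [Q2_mulVec]
  simp only [M, Matrix.of_apply, Matrix.cons_val', Matrix.cons_val_zero, Matrix.cons_val_one,
    Matrix.cons_val_fin_one]
  unfold N at h
  unfold Q2
  linear_combination (v 0 ^ 2 + a * v 0 * v 1 + b * v 1 ^ 2) * h

theorem pres_S : Pres a b (S a) := by
  intro v
  rw [Q2_mulVec]
  simp only [S, Matrix.of_apply, Matrix.cons_val', Matrix.cons_val_zero, Matrix.cons_val_one,
    Matrix.cons_val_fin_one]
  unfold Q2
  ring

theorem M_mul_M (c d c' d' : F) :
    M a b c d * M a b c' d' = M a b (c * c' - b * d * d') (c * d' + d * c' + a * d * d') := by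
  ext i j
  fin_cases i <;> fin_cases j <;> simp [M, Matrix.mul_apply, Fin.sum_univ_two] <;> ring

theorem M_one : M a b 1 0 = 1 := by
  ext i j
  fin_cases i <;> fin_cases j <;> simp [M]

theorem S_mul_S : S a * S a = 1 := by
  ext i j
  fin_cases i <;> fin_cases j <;> simp [S, Matrix.mul_apply, Fin.sum_univ_two]

theorem S_M_S (c d : F) : S a * M a b c d * S a = M a b (c + a * d) (-d) := by
  ext i j
  fin_cases i <;> fin_cases j <;> simp [S, M, Matrix.mul_apply, Fin.sum_univ_two] <;> ring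

theorem det_M (c d : F) : det (M a b c d) = N a b c d := by
  rw [M, Matrix.det_fin_two_of, N]
  ring

theorem M_conj_inv {c d : F} (h : N a b c d = 1) :
    M a b c d * M a b (c + a * d) (-d) = 1 := by
  rw [M_mul_M, ← M_one a b]
  unfold N at h
  congr 1
  · linear_combination h
  · ring

theorem M_conj_inv' {c d : F} (h : N a b c d = 1) :
    M a b (c + a * d) (-d) * M a b c d = 1 := by
  rw [M_mul_M, ← M_one a b]
  unfold N at h
  congr 1
  · linear_combination h
  · ring

variable {a b}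

theorem disc_ne_zero [Finite F]
    (hab : ∀ z₁ z₂ : F, z₁ ^ 2 + a * z₁ * z₂ + b * z₂ ^ 2 = 0 → z₁ = 0 ∧ z₂ = 0) :
    a ^ 2 - 4 * b ≠ 0 := by
  intro h
  by_cases h2 : (2 : F) = 0
  · have h4 : (4 : F) = 0 := by
      have : (4 : F) = 2 * 2 := by norm_num
      rw [this, h2, mul_zero]
    rw [h4, zero_mul, sub_zero] at h
    have ha : a = 0 := pow_eq_zero_iff (two_ne_zero) |>.mp h
    have hchar : ringChar F = 2 :=
      CharP.ringChar_of_prime_eq_zero Nat.prime_two (by exact_mod_cast h2)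
    obtain ⟨β, hβ⟩ := FiniteField.isSquare_of_char_two hchar b
    have := hab β 1 (by rw [ha, hβ]; linear_combination (β * β) * h2)
    exact one_ne_zero this.2
  · have := hab a (-2) (by linear_combination -h)
    exact h2 (neg_eq_zero.mp this.2)

omit [Field F] in
theorem mat_eq {p q r s p' q' r' s' : F} (h1 : p = p') (h2 : q = q') (h3 : r = r') (h4 : s = s') :
    !![p, q; r, s] = !![p', q'; r', s'] := by
  subst h1 h2 h3 h4; rfl

theorem classify [Finite F]
    (hab : ∀ z₁ z₂ : F, z₁ ^ 2 + a * z₁ * z₂ + b * z₂ ^ 2 = 0 → z₁ = 0 ∧ z₂ = 0)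
    (A : Matrix (Fin 2) (Fin 2) F) (hA : Pres a b A) (h00 : A 0 0 = 1) (h10 : A 1 0 = 0) :
    A = 1 ∨ A = S a := by
  have hΔ := disc_ne_zero hab
  have h1 := hA ![0, 1]
  have h2 := hA ![1, 1]
  rw [Q2_mulVec] at h1 h2
  simp only [Q2, h00, h10, Matrix.cons_val_zero, Matrix.cons_val_one, Matrix.cons_val_fin_one] at h1 h2
  have hAeq : A = !![1, A 0 1; 0, A 1 1] := by
    ext i j
    fin_cases i <;> fin_cases j <;> simp [h00, h10]
  generalize A 0 1 = x at *
  generalize A 1 1 = y at *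
  have hlin : 2 * x + a * y = a := by linear_combination h2 - h1
  have hy2 : (a ^ 2 - 4 * b) * ((y - 1) * (y + 1)) = 0 := by
    linear_combination (2 * x + a * y + a) * hlin - 4 * h1
  rw [hAeq, Matrix.one_fin_two, S]
  rcases mul_eq_zero.mp hy2 with h | h
  · exact absurd h hΔ
  rcases mul_eq_zero.mp h with hy | hy
  · have hy1 : y = 1 := by linear_combination hy
    subst hy1
    have hx2 : 2 * x = 0 := by linear_combination hlin
    have hxx : x * (x + a) = 0 := by linear_combination h1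
    rcases mul_eq_zero.mp hxx with hx | hx
    · left
      exact mat_eq rfl hx rfl rfl
    · have hxa : x = -a := by linear_combination hx
      have h2a : (2 : F) * a = 0 := by rw [hxa] at hx2; linear_combination -hx2
      rcases mul_eq_zero.mp h2a with h2 | ha
      · right
        refine mat_eq rfl ?_ rfl ?_
        · rw [hxa]; linear_combination -a * h2
        · linear_combination h2
      · left
        refine mat_eq rfl ?_ rfl rfl
        rw [hxa, ha, neg_zero]
  · have hy1 : y = -1 := by linear_combination hy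
    subst hy1
    have hx2 : 2 * x = 2 * a := by linear_combination hlin
    have hxx : x * (x - a) = 0 := by linear_combination h1
    rcases mul_eq_zero.mp hxx with hx | hx
    · have h2a : (2 : F) * a = 0 := by rw [hx] at hx2; linear_combination -hx2
      rcases mul_eq_zero.mp h2a with h2 | ha
      · left
        refine mat_eq rfl hx rfl ?_
        linear_combination -h2
      · right
        refine mat_eq rfl ?_ rfl rfl
        rw [hx, ha]
    · right
      refine mat_eq rfl ?_ rfl rfl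
      linear_combination hx

theorem decompose [Finite F]
    (hab : ∀ z₁ z₂ : F, z₁ ^ 2 + a * z₁ * z₂ + b * z₂ ^ 2 = 0 → z₁ = 0 ∧ z₂ = 0)
    (A : Matrix (Fin 2) (Fin 2) F) (hA : Pres a b A) :
    ∃ c d, N a b c d = 1 ∧ (A = M a b c d ∨ A = M a b c d * S a) := by
  have h1 := hA ![1, 0]
  rw [Q2_mulVec] at h1
  simp only [Q2, Matrix.cons_val_zero, Matrix.cons_val_one, Matrix.cons_val_fin_one, mul_one,
    mul_zero, add_zero] at h1
  have hN : N a b (A 0 0) (A 1 0) = 1 := by unfold N; linear_combination h1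
  refine ⟨A 0 0, A 1 0, hN, ?_⟩
  have hN' : N a b (A 0 0 + a * A 1 0) (-A 1 0) = 1 := by
    unfold N at hN ⊢; linear_combination hN
  have hA'pres : Pres a b (M a b (A 0 0 + a * A 1 0) (-A 1 0) * A) :=
    pres_mul a b (pres_M a b hN') hA
  have h00 : (M a b (A 0 0 + a * A 1 0) (-A 1 0) * A) 0 0 = 1 := by
    simp only [M, Matrix.mul_apply, Fin.sum_univ_two, Matrix.of_apply, Matrix.cons_val',
      Matrix.cons_val_zero, Matrix.cons_val_one, Matrix.cons_val_fin_one]
    unfold N at hN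
    linear_combination hN
  have h10 : (M a b (A 0 0 + a * A 1 0) (-A 1 0) * A) 1 0 = 0 := by
    simp only [M, Matrix.mul_apply, Fin.sum_univ_two, Matrix.of_apply, Matrix.cons_val',
      Matrix.cons_val_zero, Matrix.cons_val_one, Matrix.cons_val_fin_one]
    ring
  have hAA' : A = M a b (A 0 0) (A 1 0) * (M a b (A 0 0 + a * A 1 0) (-A 1 0) * A) := by
    rw [← Matrix.mul_assoc, M_conj_inv a b hN, Matrix.one_mul]
  rcases classify hab _ hA'pres h00 h10 with h | h
  · left
    rw [h, Matrix.mul_one] at hAA'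
    exact hAA'
  · right
    rw [h] at hAA'
    exact hAA'

end field

section ext

variable {F : Type*} [Field F] (a b : F)

/-- the quadratic polynomial `X² - aX + b` -/
noncomputable def fpoly : F[X] := X ^ 2 - C a * X + C b

theorem fpoly_monic : (fpoly a b).Monic := by
  unfold fpoly
  monicity!

theorem fpoly_natDegree : (fpoly a b).natDegree = 2 := by
  unfold fpoly
  compute_degree!

theorem fpoly_irreducible
    (hab : ∀ z₁ z₂ : F, z₁ ^ 2 + a * z₁ * z₂ + b * z₂ ^ 2 = 0 → z₁ = 0 ∧ z₂ = 0) :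
    Irreducible (fpoly a b) := by
  apply (Polynomial.Monic.irreducible_iff_roots_eq_zero_of_degree_le_three (fpoly_monic a b)
    (by rw [fpoly_natDegree]) (by rw [fpoly_natDegree]; norm_num)).mpr
  rw [Multiset.eq_zero_iff_forall_notMem]
  intro z hz
  rw [Polynomial.mem_roots (fpoly_monic a b).ne_zero, IsRoot.def] at hz
  simp only [fpoly, eval_add, eval_sub, eval_mul, eval_pow, eval_X, eval_C] at hz
  have := hab (-z) 1 (by linear_combination hz)
  exact one_ne_zero this.2

variable [hirr : Fact (Irreducible (fpoly a b))]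

/-- the quadratic extension -/
abbrev K : Type _ := AdjoinRoot (fpoly a b)

/-- the root -/
noncomputable def θ : K a b := AdjoinRoot.root (fpoly a b)

theorem θ_sq : θ a b ^ 2 = algebraMap F (K a b) a * θ a b - algebraMap F (K a b) b := by
  have h1 : aeval (θ a b) (fpoly a b) = 0 := by
    rw [θ, AdjoinRoot.aeval_eq, AdjoinRoot.mk_self]
  have h2 : aeval (θ a b) (fpoly a b) =
      θ a b ^ 2 - algebraMap F (K a b) a * θ a b + algebraMap F (K a b) b := by
    show aeval (θ a b) (X ^ 2 - C a * X + C b) = _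
    simp only [map_add, map_sub, map_mul, map_pow, aeval_X, aeval_C]
  rw [h2] at h1
  linear_combination h1

/-- the power basis -/
noncomputable def pbK : PowerBasis F (K a b) := AdjoinRoot.powerBasis' (fpoly_monic a b)

theorem pbK_dim : (pbK a b).dim = 2 := fpoly_natDegree a b

/-- the basis `1, θ` -/
noncomputable def bK : Module.Basis (Fin 2) F (K a b) :=
  (pbK a b).basis.reindex (finCongr (pbK_dim a b))

theorem bK_apply (i : Fin 2) : bK a b i = θ a b ^ (i : ℕ) := by
  simp only [bK, pbK, θ, Module.Basis.reindex_apply, PowerBasis.coe_basis,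
    AdjoinRoot.powerBasis'_gen]
  rfl

/-- regular representation -/
noncomputable def ρ : K a b →ₐ[F] Matrix (Fin 2) (Fin 2) F := Algebra.leftMulMatrix (bK a b)

theorem ρ_injective : Function.Injective (ρ a b) := Algebra.leftMulMatrix_injective _

theorem ρ_θ : ρ a b (θ a b) = M a b 0 1 := by
  ext i j
  rw [ρ, Algebra.leftMulMatrix_eq_repr_mul]
  fin_cases j
  · have h : θ a b * bK a b 0 = bK a b 1 := by
      rw [bK_apply, bK_apply]; simp
    simp only [Fin.zero_eta, h, Module.Basis.repr_self]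
    fin_cases i <;> simp [M]
  · have h : θ a b * bK a b 1 = (-b) • bK a b 0 + a • bK a b 1 := by
      rw [bK_apply, bK_apply]
      simp only [Fin.val_zero, pow_zero, Fin.val_one, pow_one, Algebra.smul_def, mul_one]
      rw [← sq, θ_sq, map_neg]
      ring
    simp only [Fin.mk_one, h, map_add, map_smul, Module.Basis.repr_self]
    fin_cases i <;> simp [M]

theorem ρ_apply (c d : F) : ρ a b (algebraMap F (K a b) c + d • θ a b) = M a b c d := by
  rw [map_add, map_smul, ρ_θ, AlgHom.commutes]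
  ext i j
  fin_cases i <;> fin_cases j <;> simp [M, Matrix.algebraMap_matrix_apply, mul_comm]

theorem exists_rep (u : K a b) : ∃ c d : F, u = algebraMap F (K a b) c + d • θ a b := by
  refine ⟨(bK a b).repr u 0, (bK a b).repr u 1, ?_⟩
  conv_lhs => rw [← (bK a b).sum_repr u]
  rw [Fin.sum_univ_two, bK_apply, bK_apply]
  simp [Algebra.smul_def]

instance instModFinK : Module.Finite F (K a b) := PowerBasis.finite (pbK a b)

variable [Fintype F]

instance instFiniteK : Finite (K a b) := Module.finite_of_finite F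

theorem natCard_K : Nat.card (K a b) = Fintype.card F ^ 2 := by
  rw [Module.natCard_eq_pow_finrank (K := F), Nat.card_eq_fintype_card, (pbK a b).finrank,
    pbK_dim]

theorem det_ρ (x : K a b) :
    algebraMap F (K a b) (det (ρ a b x)) = x ^ (Fintype.card F + 1) := by
  have h1 := Algebra.norm_eq_matrix_det (bK a b) x
  rw [ρ, ← h1, FiniteField.algebraMap_norm_eq_pow, natCard_K, Nat.card_eq_fintype_card]
  congr 1
  have hq : 2 ≤ Fintype.card F := Fintype.one_lt_card
  obtain ⟨k, hk⟩ : ∃ k, Fintype.card F = k + 2 := ⟨Fintype.card F - 2, by omega⟩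
  rw [hk]
  have e1 : (k + 2) ^ 2 - 1 = (k + 2 + 1) * (k + 1) := by
    have : (k + 2) ^ 2 = (k + 2 + 1) * (k + 1) + 1 := by ring
    omega
  have e2 : k + 2 - 1 = k + 1 := by omega
  rw [e1, e2, Nat.mul_div_cancel _ (by omega)]

theorem N_eq_one_iff (c d : F) :
    N a b c d = 1 ↔ (algebraMap F (K a b) c + d • θ a b) ^ (Fintype.card F + 1) = 1 := by
  rw [← det_ρ, ρ_apply, det_M]
  constructor
  · intro h
    rw [h, map_one]
  · intro h
    apply (algebraMap F (K a b)).injective
    rw [h, map_one]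

/-- the conjugation as a unit -/
def T : GL (Fin 2) F := ⟨S a, S a, S_mul_S a, S_mul_S a⟩

omit hirr [Fintype F] in
theorem coe_T : ((T a : GL (Fin 2) F) : Matrix (Fin 2) (Fin 2) F) = S a := rfl

/-- the unit-level representation -/
noncomputable def ρu : (K a b)ˣ →* GL (Fin 2) F :=
  Units.map ((ρ a b : K a b →ₐ[F] Matrix (Fin 2) (Fin 2) F) : K a b →* Matrix (Fin 2) (Fin 2) F)

omit [Fintype F] in
theorem coe_ρu (u : (K a b)ˣ) :
    ((ρu a b u : GL (Fin 2) F) : Matrix (Fin 2) (Fin 2) F) = ρ a b (u : K a b) := rfl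

omit [Fintype F] in
theorem ρu_injective : Function.Injective (ρu a b) := by
  intro u v h
  apply Units.ext
  apply ρ_injective a b
  have := congrArg (fun g : GL (Fin 2) F => (g : Matrix (Fin 2) (Fin 2) F)) h
  exact this

theorem exists_M_of_pow (u : (K a b)ˣ) (hu : u ^ (Fintype.card F + 1) = 1) :
    ∃ c d : F, N a b c d = 1 ∧ ((ρu a b u : GL (Fin 2) F) : Matrix (Fin 2) (Fin 2) F) = M a b c d := by
  obtain ⟨c, d, hcd⟩ := exists_rep a b (u : K a b)
  refine ⟨c, d, ?_, ?_⟩
  · rw [N_eq_one_iff, ← hcd, ← Units.val_pow_eq_pow_val, hu, Units.val_one]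
  · rw [coe_ρu, hcd, ρ_apply]

omit [Fintype F] in
theorem exists_M (u : (K a b)ˣ) :
    ∃ c d : F, ((ρu a b u : GL (Fin 2) F) : Matrix (Fin 2) (Fin 2) F) = M a b c d := by
  obtain ⟨c, d, hcd⟩ := exists_rep a b (u : K a b)
  exact ⟨c, d, by rw [coe_ρu, hcd, ρ_apply]⟩

theorem main2
    (hab : ∀ z₁ z₂ : F, z₁ ^ 2 + a * z₁ * z₂ + b * z₂ ^ 2 = 0 → z₁ = 0 ∧ z₂ = 0) :
    ∃ (X Y : GL (Fin 2) F), Pres a b (X : Matrix (Fin 2) (Fin 2) F) ∧
      Pres a b (Y : Matrix (Fin 2) (Fin 2) F) ∧ orderOf X = Fintype.card F + 1 ∧ Y * Y = 1 ∧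
      Y * X * Y⁻¹ = X⁻¹ ∧ Y ∉ Subgroup.zpowers X ∧
      ∀ g : GL (Fin 2) F, Pres a b (g : Matrix (Fin 2) (Fin 2) F) →
        ∃ k : ℕ, g = X ^ k ∨ g = X ^ k * Y := by
  have hq : 2 ≤ Fintype.card F := Fintype.one_lt_card
  obtain ⟨ζ, hζ⟩ := IsCyclic.exists_generator (α := (K a b)ˣ)
  have hζord : orderOf ζ = Fintype.card F ^ 2 - 1 := by
    rw [orderOf_eq_card_of_forall_mem_zpowers hζ, Nat.card_units, natCard_K]
  have hfac : Fintype.card F ^ 2 - 1 = (Fintype.card F + 1) * (Fintype.card F - 1) := by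
    obtain ⟨k, hk⟩ : ∃ k, Fintype.card F = k + 1 := ⟨Fintype.card F - 1, by omega⟩
    rw [hk]
    have : (k + 1) ^ 2 = (k + 1 + 1) * k + 1 := by ring
    rw [this]
    simp
  set η : (K a b)ˣ := ζ ^ (Fintype.card F - 1) with hη
  have hηord : orderOf η = Fintype.card F + 1 := by
    rw [hη, orderOf_pow_of_dvd (by omega) (by rw [hζord, hfac]; exact dvd_mul_left _ _), hζord,
      hfac, Nat.mul_div_cancel _ (by omega)]
  have hη1 : η ^ (Fintype.card F + 1) = 1 := by rw [← hηord]; exact pow_orderOf_eq_one η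
  have hpow : ∀ u : (K a b)ˣ, u ^ (Fintype.card F + 1) = 1 → ∃ k : ℕ, u = η ^ k := by
    intro u hu
    have hu' := hζ u
    rw [← mem_powers_iff_mem_zpowers] at hu'
    obtain ⟨k, rfl⟩ := hu'
    rw [← pow_mul] at hu
    have := orderOf_dvd_of_pow_eq_one hu
    rw [hζord, hfac, mul_comm k] at this
    have hdvd : Fintype.card F - 1 ∣ k := (Nat.mul_dvd_mul_iff_left (by omega)).mp this
    obtain ⟨j, rfl⟩ := hdvd
    exact ⟨j, by rw [hη, ← pow_mul]⟩
  obtain ⟨c₀, d₀, hN₀, hX₀⟩ := exists_M_of_pow a b η hη1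
  have hTT : T a * T a = 1 := Units.ext (by rw [Units.val_mul, coe_T, S_mul_S, Units.val_one])
  refine ⟨ρu a b η, T a, ?_, ?_, ?_, hTT, ?_, ?_, ?_⟩
  · rw [hX₀]; exact pres_M a b hN₀
  · rw [coe_T]; exact pres_S a b
  · rw [orderOf_injective (ρu a b) (ρu_injective a b), hηord]
  · have hTinv : (T a)⁻¹ = T a := inv_eq_of_mul_eq_one_right hTT
    rw [hTinv]
    apply eq_inv_of_mul_eq_one_left
    apply Units.ext
    rw [Units.val_mul, Units.val_mul, Units.val_mul, coe_T, hX₀, S_M_S, M_conj_inv' a b hN₀,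
      Units.val_one]
  · intro hmem
    obtain ⟨k, hk⟩ := Subgroup.mem_zpowers_iff.mp hmem
    rw [← map_zpow] at hk
    obtain ⟨c, d, hcd⟩ := exists_M a b (η ^ k)
    rw [hk, coe_T] at hcd
    have h10 := congrFun (congrFun hcd 1) 0
    have h00 := congrFun (congrFun hcd 0) 0
    have h01 := congrFun (congrFun hcd 0) 1
    have h11 := congrFun (congrFun hcd 1) 1
    simp [S, M] at h10 h00 h01 h11
    apply disc_ne_zero hab
    rw [← h10] at h01 h11
    rw [← h00] at h11
    rw [h01]
    linear_combination (2 * b) * h11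
  · intro g hg
    obtain ⟨c, d, hN, hcases⟩ := decompose hab _ hg
    have hu1 := (N_eq_one_iff a b c d).mp hN
    have hunit : IsUnit (algebraMap F (K a b) c + d • θ a b) :=
      IsUnit.of_pow_eq_one hu1 (by omega)
    obtain ⟨u, hu⟩ := hunit
    have hu1' : u ^ (Fintype.card F + 1) = 1 := by
      apply Units.ext
      rw [Units.val_pow_eq_pow_val, hu, hu1, Units.val_one]
    obtain ⟨k, hk⟩ := hpow u hu1'
    refine ⟨k, ?_⟩
    have hXk : (((ρu a b η) ^ k : GL (Fin 2) F) : Matrix (Fin 2) (Fin 2) F) = M a b c d := by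
      rw [← map_pow, ← hk, coe_ρu, hu, ρ_apply]
    rcases hcases with h | h
    · left
      apply Units.ext
      rw [hXk, h]
    · right
      apply Units.ext
      rw [Units.val_mul, hXk, coe_T, h]

end ext

section transport

variable {F : Type*} [Field F] (a b : F)

/-- the index type of the statement -/
abbrev ι : Type := (Fin 0 ⊕ Fin 0) ⊕ Fin 2

/-- `Fin 2 ≃ ι` -/
def eι : Fin 2 ≃ ι := (Equiv.emptySum (Fin 0 ⊕ Fin 0) (Fin 2)).symm

theorem eι_apply (i : Fin 2) : eι i = Sum.inr i := rfl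

/-- the group isomorphism -/
noncomputable def Φ : GL (Fin 2) F ≃* GL ι F :=
  Units.mapEquiv (Matrix.reindexAlgEquiv F F eι).toMulEquiv

theorem coe_Φ (g : GL (Fin 2) F) :
    ((Φ g : GL ι F) : Matrix ι ι F) = Matrix.reindex eι eι (g : Matrix (Fin 2) (Fin 2) F) := rfl

theorem quad_comp (w : ι → F) : quadFormMinus 0 F a b w = Q2 a b (w ∘ eι) := by
  simp [quadFormMinus, Q2, eι_apply]

theorem reindex_mulVec (A : Matrix (Fin 2) (Fin 2) F) (w : ι → F) :
    (Matrix.reindex eι eι A *ᵥ w) ∘ eι = A *ᵥ (w ∘ eι) := by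
  rw [Matrix.reindex_apply, Matrix.submatrix_mulVec_equiv]
  ext i
  simp

theorem mem_iso_iff (g : GL (Fin 2) F) :
    Φ g ∈ isometryGroup F (quadFormMinus 0 F a b) ↔
      Pres a b (g : Matrix (Fin 2) (Fin 2) F) := by
  constructor
  · intro h v
    have := h (v ∘ eι.symm) (v ∘ eι.symm)
    change quadFormMinus 0 F a b ((Φ g : Matrix ι ι F) *ᵥ (v ∘ eι.symm)) =
      quadFormMinus 0 F a b (v ∘ eι.symm) at this
    rw [quad_comp, quad_comp] at this
    simp only [Units.coeHom_apply, coe_Φ, reindex_mulVec] at this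
    have hv : (v ∘ eι.symm) ∘ eι = v := by ext i; simp
    rw [hv] at this
    exact this
  · intro h u v
    show quadFormMinus 0 F a b ((Φ g : Matrix ι ι F) *ᵥ u) = quadFormMinus 0 F a b u
    rw [quad_comp, quad_comp, coe_Φ, reindex_mulVec]
    exact h _

end transport

/-- GO^-_2(q) is dihedral of order 2(q+1). -/
theorem result {F : Type*} [Field F] [Fintype F] {q : ℕ} (hF : Fintype.card F = q) (a b : F) (hab : ∀ z₁ z₂ : F, z₁ ^ 2 + a * z₁ * z₂ + b * z₂ ^ 2 = 0 → z₁ = 0 ∧ z₂ = 0) : Nonempty (Cfsg.isometryGroup F (Cfsg.quadFormMinus 0 F a b) ≃* DihedralGroup (q + 1)) := by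
  subst hF
  haveI : Fact (Irreducible (fpoly a b)) := ⟨fpoly_irreducible a b hab⟩
  obtain ⟨X, Y, hX, hY, hord, hYY, hconj, hYX, hall⟩ := main2 a b hab
  refine dihedral_of (isometryGroup F (quadFormMinus 0 F a b)) (Fintype.card F + 1) (Φ X) (Φ Y)
    ((mem_iso_iff a b X).mpr hX) ((mem_iso_iff a b Y).mpr hY) ?_ ?_ ?_ ?_ ?_
  · have := orderOf_injective (Φ : GL (Fin 2) F ≃* GL ι F).toMonoidHom Φ.injective X
    rw [← hord, ← this]
    rfl
  · rw [← map_mul, hYY, map_one]
  · rw [← map_inv, ← map_mul, ← map_mul, hconj, map_inv]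
  · intro hmem
    apply hYX
    obtain ⟨k, hk⟩ := Subgroup.mem_zpowers_iff.mp hmem
    rw [← map_zpow] at hk
    exact Subgroup.mem_zpowers_iff.mpr ⟨k, Φ.injective hk⟩
  · intro g hg
    obtain ⟨g₂, rfl⟩ := (Φ : GL (Fin 2) F ≃* GL ι F).surjective g
    obtain ⟨k, hk | hk⟩ := hall g₂ ((mem_iso_iff a b g₂).mp hg)
    · exact ⟨k, Or.inl (by rw [hk, map_pow])⟩
    · exact ⟨k, Or.inr (by rw [hk, map_mul, map_pow])⟩

end Cfsg.Agent.S0306
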