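import Cfsg.Statements.S0307
import Mathlib

set_option autoImplicit false
open Cfsg

namespace Cfsg.Agent.S0307

open Matrix

theorem pow_eq_one_of_dvd {d n : ℕ} [NeZero d] (hdn : d ∣ n) (y : Multiplicative (ZMod d)) :
    y ^ n = 1 := by
  apply orderOf_dvd_iff_pow_eq_one.mp
  refine dvd_trans (orderOf_dvd_natCard y) ?_
  rw [Nat.card_eq_fintype_card, Fintype.card_multiplicative, ZMod.card]
  exact hdn

/-- PSL_n(q) is normal in PGL_n(q) with cyclic quotient of order gcd(n, q-1): the image of the natural map PSL_n → PGL_n is the kernel of a surjective homomorphism onto the cyclic group of that order. -/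
theorem result {F : Type*} [Field F] [Fintype F] {q : ℕ} (hF : Fintype.card F = q) (n : ℕ) (hn : 1 ≤ n) : ∃ g : Matrix.ProjGenLinGroup (Fin n) F →* Multiplicative (ZMod (Nat.gcd n (q - 1))), Function.Surjective g ∧ g.ker = (Matrix.ProjectiveSpecialLinearGroup.toPGL : Matrix.ProjectiveSpecialLinearGroup (Fin n) F →* Matrix.ProjGenLinGroup (Fin n) F).range := by
  classical
  subst hF
  set q := Fintype.card F with hq
  have hq2 : 2 ≤ q := Fintype.one_lt_card
  set d := Nat.gcd n (q - 1) with hd
  have hdpos : 0 < d := Nat.gcd_pos_of_pos_left _ (by omega)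
  have : NeZero d := ⟨by omega⟩
  have : NeZero n := ⟨by omega⟩
  have hdn : d ∣ n := Nat.gcd_dvd_left _ _
  obtain ⟨ζ, hζ⟩ := IsCyclic.exists_generator (α := Fˣ)
  have hζord : orderOf ζ = q - 1 := by
    rw [orderOf_eq_card_of_forall_mem_zpowers hζ, Nat.card_units, Nat.card_eq_fintype_card]
  set t : Multiplicative (ZMod d) := Multiplicative.ofAdd 1 with ht
  have htord : orderOf t = d := by
    rw [ht, orderOf_ofAdd_eq_addOrderOf, ZMod.addOrderOf_one]
  have hdvd : orderOf t ∣ orderOf ζ := by
    rw [htord, hζord]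
    exact Nat.gcd_dvd_right _ _
  set φ : Fˣ →* Multiplicative (ZMod d) := monoidHomOfForallMemZpowers hζ hdvd with hφ
  have hφζ : φ ζ = t := monoidHomOfForallMemZpowers_apply_gen hζ hdvd
  have hφsurj : Function.Surjective φ := by
    intro y
    refine ⟨ζ ^ (Multiplicative.toAdd y).val, ?_⟩
    rw [map_pow, hφζ, ht, ← ofAdd_nsmul, nsmul_one, ZMod.natCast_zmod_val]
    rfl
  have hker : φ.ker = (powMonoidHom n : Fˣ →* Fˣ).range := by
    symm
    apply Subgroup.eq_of_le_of_card_ge
    · rintro _ ⟨u, rfl⟩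
      rw [MonoidHom.mem_ker, powMonoidHom_apply, map_pow]
      exact pow_eq_one_of_dvd hdn _
    · rw [IsCyclic.card_powMonoidHom_range, Nat.card_units, Nat.card_eq_fintype_card (α := F),
        ← hq, Nat.gcd_comm, ← hd]
      have h1 := Subgroup.card_mul_index φ.ker
      rw [Subgroup.index_ker, MonoidHom.range_eq_top.mpr hφsurj, Subgroup.card_top,
        Nat.card_eq_fintype_card (α := Multiplicative (ZMod d)), Fintype.card_multiplicative,
        ZMod.card, Nat.card_units, Nat.card_eq_fintype_card (α := F), ← hq] at h1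
      rw [← h1, Nat.mul_div_cancel _ hdpos]
  have hscalar : (φ.comp Matrix.GeneralLinearGroup.det).comp
      (Matrix.GeneralLinearGroup.scalar (Fin n)) = 1 := by
    ext u
    simp only [MonoidHom.comp_apply, Matrix.GeneralLinearGroup.det_scalar, Fintype.card_fin,
      map_pow, MonoidHom.one_apply]
    rw [pow_eq_one_of_dvd hdn]
  refine ⟨Matrix.ProjGenLinGroup.lift (φ.comp Matrix.GeneralLinearGroup.det) hscalar, ?_, ?_⟩
  · intro y
    obtain ⟨u, hu⟩ := hφsurj y
    obtain ⟨A, hA⟩ := Matrix.GeneralLinearGroup.det_surjective (n := Fin n) u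
    refine ⟨Matrix.ProjGenLinGroup.mk A, ?_⟩
    rw [Matrix.ProjGenLinGroup.lift_mk, MonoidHom.comp_apply, hA, hu]
  · ext x
    induction x using Matrix.ProjGenLinGroup.induction_on with | mk A =>
    rw [MonoidHom.mem_ker, Matrix.ProjGenLinGroup.lift_mk, MonoidHom.comp_apply,
      ← MonoidHom.mem_ker, hker]
    constructor
    · rintro ⟨l, hl⟩
      rw [powMonoidHom_apply] at hl
      have hdet : Matrix.det (((l⁻¹ : Fˣ) : F) • (A : Matrix (Fin n) (Fin n) F)) = 1 := by
        rw [Matrix.det_smul, Fintype.card_fin]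
        have : (A : Matrix (Fin n) (Fin n) F).det = ((Matrix.GeneralLinearGroup.det A : Fˣ) : F) :=
          rfl
        rw [this, ← hl, ← Units.val_pow_eq_pow_val, ← Units.val_mul, ← mul_pow, inv_mul_cancel,
          one_pow, Units.val_one]
      obtain ⟨s, hs⟩ : ∃ s : Matrix.SpecialLinearGroup (Fin n) F,
          (s : Matrix (Fin n) (Fin n) F) = ((l⁻¹ : Fˣ) : F) • (A : Matrix (Fin n) (Fin n) F) :=
        ⟨⟨_, hdet⟩, rfl⟩
      refine ⟨QuotientGroup.mk s, ?_⟩
      rw [Matrix.ProjectiveSpecialLinearGroup.toPGL_mk, Matrix.ProjGenLinGroup.mk_eq_mk_iff]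
      refine ⟨l, Units.ext ?_⟩
      rw [Units.val_mul, Matrix.SpecialLinearGroup.coe_GL_coe_matrix, hs,
        Matrix.GeneralLinearGroup.coe_scalar]
      ext i j
      simp [Matrix.mul_apply, Matrix.scalar_apply, Matrix.diagonal_apply]
      field_simp
    · rintro ⟨s, hs⟩
      induction s using QuotientGroup.induction_on with | H s =>
      rw [Matrix.ProjectiveSpecialLinearGroup.toPGL_mk, Matrix.ProjGenLinGroup.mk_eq_mk_iff] at hs
      obtain ⟨u, hu⟩ := hs
      refine ⟨u, ?_⟩
      rw [powMonoidHom_apply, ← hu, map_mul, Matrix.GeneralLinearGroup.det_scalar,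
        Fintype.card_fin]
      have : Matrix.GeneralLinearGroup.det (Matrix.SpecialLinearGroup.toGL s) = 1 := by
        apply Units.ext
        exact s.2
      rw [this, one_mul]

end Cfsg.Agent.S0307
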