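import Mathlib
import Cfsg.Statements.S0312
import Cfsg.Agent.Lib_helper2_BN3

set_option autoImplicit false
open Cfsg

namespace Cfsg.Agent.S0312

open Cfsg.Agent.helper2

theorem result {G : Type*} [Group G] (P : Cfsg.BNPair G) {J : Set G}
    (hJ : J ⊆ P.S) : Subgroup.normalizer (P.parabolic J : Set G) = P.parabolic J := by
  apply le_antisymm
  · intro g hg
    rw [Subgroup.mem_set_normalizer_iff] at hg
    obtain ⟨n, hn, hgn⟩ := BN.bruhat_exists P g
    obtain ⟨b1, hb1, b2, hb2, rfl⟩ := (BN.mem_C P).mp hgn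
    have hb1' : b1 ∈ P.parabolic J := BN.B_le_parabolic P J hb1
    have hb2' : b2 ∈ P.parabolic J := BN.B_le_parabolic P J hb2
    have hnP : n ∈ P.parabolic J := by
      apply BN.mem_of_conj_le P hn (BN.B_le_parabolic P J)
      intro b hb
      have h1 : b2⁻¹ * b * b2 ∈ (P.parabolic J : Set G) :=
        BN.B_le_parabolic P J (P.B.mul_mem (P.B.mul_mem (P.B.inv_mem hb2) hb) hb2)
      have h2 : b1 * n * b2 * (b2⁻¹ * b * b2) * (b1 * n * b2)⁻¹ ∈ P.parabolic J := (hg _).mp h1
      have h3 := (P.parabolic J).mul_mem ((P.parabolic J).mul_mem ((P.parabolic J).inv_mem hb1') h2) hb1'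
      convert h3 using 1
      group
    exact (P.parabolic J).mul_mem ((P.parabolic J).mul_mem hb1' hnP) hb2'
  · exact Subgroup.le_normalizer

end Cfsg.Agent.S0312
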