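import Mathlib
import Cfsg.Statements.S0313
import Cfsg.Agent.Lib_helper2_BN3

set_option autoImplicit false
open Cfsg

namespace Cfsg.Agent.S0313

open Cfsg.Agent.helper2

theorem result {G : Type*} [Group G] (P : Cfsg.BNPair G) {J K : Set G}
    (hJ : J ⊆ P.S) (hK : K ⊆ P.S) (g : G)
    (h : (P.parabolic J).map (MulAut.conj g).toMonoidHom = P.parabolic K) :
    P.parabolic J = P.parabolic K := by
  have hfwd : ∀ x ∈ P.parabolic J, g * x * g⁻¹ ∈ P.parabolic K := by
    intro x hx
    rw [← h]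
    exact Subgroup.mem_map.mpr ⟨x, hx, by simp [MulAut.conj_apply]⟩
  have hbwd : ∀ y ∈ P.parabolic K, ∃ x ∈ P.parabolic J, g * x * g⁻¹ = y := by
    intro y hy
    rw [← h] at hy
    obtain ⟨x, hx, hxy⟩ := Subgroup.mem_map.mp hy
    exact ⟨x, hx, by simpa [MulAut.conj_apply] using hxy⟩
  obtain ⟨n, hn, hgn⟩ := BN.bruhat_exists P g
  obtain ⟨b1, hb1, b2, hb2, hg⟩ := (BN.mem_C P).mp hgn
  have hb1' : b1 ∈ P.parabolic K := BN.B_le_parabolic P K hb1
  have hb2' : b2 ∈ P.parabolic K := BN.B_le_parabolic P K hb2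
  have hnP : n ∈ P.parabolic K := by
    apply BN.mem_of_conj_le P hn (BN.B_le_parabolic P K)
    intro b hb
    have h1 : b2⁻¹ * b * b2 ∈ P.parabolic J :=
      BN.B_le_parabolic P J (P.B.mul_mem (P.B.mul_mem (P.B.inv_mem hb2) hb) hb2)
    have h2 := hfwd _ h1
    have h3 := (P.parabolic K).mul_mem ((P.parabolic K).mul_mem ((P.parabolic K).inv_mem hb1') h2) hb1'
    convert h3 using 1
    rw [hg]
    group
  have hgK : g ∈ P.parabolic K := by
    rw [hg]
    exact (P.parabolic K).mul_mem ((P.parabolic K).mul_mem hb1' hnP) hb2'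
  apply le_antisymm
  · intro x hx
    have h1 := hfwd x hx
    have h2 := (P.parabolic K).mul_mem ((P.parabolic K).mul_mem ((P.parabolic K).inv_mem hgK) h1) hgK
    convert h2 using 1
    group
  · intro y hy
    have h1 : g * y * g⁻¹ ∈ P.parabolic K :=
      (P.parabolic K).mul_mem ((P.parabolic K).mul_mem hgK hy) ((P.parabolic K).inv_mem hgK)
    obtain ⟨x, hx, hxy⟩ := hbwd _ h1
    have : x = y := by
      have := congrArg (fun z => g⁻¹ * z * g) hxy
      simpa [mul_assoc] using this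
    rw [← this]
    exact hx

end Cfsg.Agent.S0313
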