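import Mathlib
import Cfsg.Statements.S0315
import Cfsg.Agent.Lib_helper2_BN3

set_option autoImplicit false
open Cfsg

namespace Cfsg.Agent.S0315

open Cfsg.Agent.helper2

theorem result {G : Type*} [Group G] (P : Cfsg.BNPair G) {J K : Set G}
    (hJ : J ⊆ P.S) (hK : K ⊆ P.S) : P.parabolic J ⊓ P.parabolic K = P.parabolic (J ∩ K) := by
  have hM : P.B ≤ P.parabolic J ⊓ P.parabolic K :=
    le_inf (BN.B_le_parabolic P J) (BN.B_le_parabolic P K)
  have h1 := BN.eq_parabolic_of_B_le P hM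
  have h2 : P.S ∩ ((P.parabolic J ⊓ P.parabolic K : Subgroup G) : Set G) = J ∩ K := by
    ext s
    constructor
    · rintro ⟨hs, hsJ, hsK⟩
      exact ⟨BN.mem_of_mem_parabolic P hJ hs hsJ, BN.mem_of_mem_parabolic P hK hs hsK⟩
    · rintro ⟨hsJ, hsK⟩
      exact ⟨hJ hsJ, BN.closure_le_parabolic P J (Subgroup.subset_closure hsJ),
        BN.closure_le_parabolic P K (Subgroup.subset_closure hsK)⟩
  rw [h2] at h1
  exact h1

end Cfsg.Agent.S0315
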