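import Mathlib
import Cfsg.Statements.S0316
import Cfsg.Agent.Lib_helper2_BN3

set_option autoImplicit false
open Cfsg

namespace Cfsg.Agent.S0316

open Cfsg.Agent.helper2

theorem result {G : Type*} [Group G] (P : Cfsg.BNPair G) :
    ∃ e : Set P.S ≃o {M : Subgroup G // P.B ≤ M},
      ∀ J : Set P.S, ((e J : {M : Subgroup G // P.B ≤ M}) : Subgroup G) = P.parabolic (Subtype.val '' J) := by
  have himg : ∀ J : Set P.S, (Subtype.val '' J : Set G) ⊆ P.S := by
    rintro J _ ⟨s, _, rfl⟩
    exact s.2
  let toF : Set P.S → {M : Subgroup G // P.B ≤ M} :=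
    fun J => ⟨P.parabolic (Subtype.val '' J), BN.B_le_parabolic P _⟩
  let invF : {M : Subgroup G // P.B ≤ M} → Set P.S :=
    fun M => {s : P.S | (s : G) ∈ (M : Subgroup G)}
  have hleft : Function.LeftInverse invF toF := by
    intro J
    ext s
    constructor
    · intro h
      have h' : (s : G) ∈ P.parabolic (Subtype.val '' J) := h
      obtain ⟨s', hs', he⟩ := BN.mem_of_mem_parabolic P (himg J) s.2 h'
      have : s' = s := Subtype.ext he
      rw [← this]
      exact hs'
    · intro h
      show (s : G) ∈ P.parabolic (Subtype.val '' J)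
      exact BN.closure_le_parabolic P _ (Subgroup.subset_closure ⟨s, h, rfl⟩)
  have hright : Function.RightInverse invF toF := by
    intro M
    apply Subtype.ext
    show P.parabolic (Subtype.val '' {s : P.S | (s : G) ∈ (M : Subgroup G)}) = M
    have h1 := BN.eq_parabolic_of_B_le P M.2
    have h2 : Subtype.val '' {s : P.S | (s : G) ∈ (M : Subgroup G)}
        = P.S ∩ ((M : Subgroup G) : Set G) := by
      ext x
      constructor
      · rintro ⟨s, hs, rfl⟩
        exact ⟨s.2, hs⟩
      · rintro ⟨hx, hxM⟩
        exact ⟨⟨x, hx⟩, hxM, rfl⟩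
    rw [h2]
    exact h1.symm
  refine ⟨{ toFun := toF, invFun := invF, left_inv := hleft, right_inv := hright,
            map_rel_iff' := ?_ }, fun J => rfl⟩
  intro J K
  show P.parabolic (Subtype.val '' J) ≤ P.parabolic (Subtype.val '' K) ↔ J ≤ K
  rw [BN.parabolic_le_iff P (himg J) (himg K)]
  exact Set.image_subset_image_iff Subtype.val_injective

end Cfsg.Agent.S0316
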