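import Mathlib
import Cfsg.Statements.S0318
import Cfsg.Agent.Lib_helper2_BN3

set_option autoImplicit false
open Cfsg

namespace Cfsg.Agent.S0318

open Cfsg.Agent.helper2

theorem result {G : Type*} [Group G] (P : Cfsg.BNPair G) {n : G}
    (hn : n ∈ P.N) :
    P.B ⊔ Subgroup.closure {n} = P.B ⊔ P.B.map (MulAut.conj n).toMonoidHom := by
  apply le_antisymm
  · apply sup_le le_sup_left
    rw [Subgroup.closure_le]
    intro x hx
    rw [Set.mem_singleton_iff] at hx
    subst hx
    exact BN.mem_Q_self P hn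
  · apply sup_le le_sup_left
    intro x hx
    obtain ⟨b, hb, rfl⟩ := Subgroup.mem_map.mp hx
    have hnc : n ∈ P.B ⊔ Subgroup.closure {n} :=
      (le_sup_right : Subgroup.closure {n} ≤ P.B ⊔ Subgroup.closure {n}) (Subgroup.subset_closure rfl)
    have hbc : b ∈ P.B ⊔ Subgroup.closure {n} :=
      (le_sup_left : P.B ≤ P.B ⊔ Subgroup.closure {n}) hb
    simp only [MulEquiv.coe_toMonoidHom, MulAut.conj_apply]
    exact mul_mem (mul_mem hnc hbc) (inv_mem hnc)

end Cfsg.Agent.S0318
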