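import Cfsg.Statements.S0320
import Mathlib

set_option autoImplicit false
set_option linter.unusedSectionVars false
open Cfsg

namespace Cfsg.Agent.S0320

open CoxeterSystem

section PartI

variable {I W : Type*} [Group W] (ι : I → W)

/-- word product in `W`. -/
def wp (l : List I) : W := (l.map ι).prod

@[simp] lemma wp_nil : wp ι [] = 1 := by simp [wp]
@[simp] lemma wp_cons (a : I) (l : List I) : wp ι (a :: l) = ι a * wp ι l := by simp [wp]
@[simp] lemma wp_append (l l' : List I) : wp ι (l ++ l') = wp ι l * wp ι l' := by simp [wp]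

/-- reduced words. -/
def IsRed (l : List I) : Prop := ∀ l' : List I, wp ι l' = wp ι l → l.length ≤ l'.length

variable {ι}

lemma IsRed.of_append_left {l₁ l₂ : List I} (h : IsRed ι (l₁ ++ l₂)) : IsRed ι l₁ := by
  intro l' hl'
  have := h (l' ++ l₂) (by simp [hl'])
  simp at this; omega

lemma IsRed.of_append_right {l₁ l₂ : List I} (h : IsRed ι (l₁ ++ l₂)) : IsRed ι l₂ := by
  intro l' hl'
  have := h (l₁ ++ l') (by simp [hl'])
  simp at this; omega

lemma IsRed.of_eq {l l' : List I} (h : IsRed ι l) (hp : wp ι l' = wp ι l)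
    (hl : l'.length = l.length) : IsRed ι l' := by
  intro l'' h''; rw [hl]; exact h l'' (h''.trans hp)

lemma IsRed.length_eq {l l' : List I} (h : IsRed ι l) (h' : IsRed ι l')
    (hp : wp ι l = wp ι l') : l.length = l'.length :=
  le_antisymm (h l' hp.symm) (h' l hp)

variable (ι)

lemma exists_red (hsurj : Function.Surjective (wp ι)) (w : W) :
    ∃ l, wp ι l = w ∧ IsRed ι l := by
  classical
  have hex : ∃ n, ∃ l, wp ι l = w ∧ l.length = n := by
    obtain ⟨l, hl⟩ := hsurj w; exact ⟨_, l, hl, rfl⟩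
  obtain ⟨l, hl, hlen⟩ := Nat.find_spec hex
  refine ⟨l, hl, fun l' hl' => ?_⟩
  rw [hlen]; exact Nat.find_min' hex ⟨l', hl'.trans hl, rfl⟩

/-- the exchange condition. -/
def Exch : Prop := ∀ (s : I) (l : List I), IsRed ι l → ¬ IsRed ι (s :: l) →
  ∃ l₁ e l₂, l = l₁ ++ e :: l₂ ∧ ι s * wp ι l₁ = wp ι l₁ * ι e

/-- data: involutions, injectively indexed. -/
structure Dat (ι : I → W) : Prop where
  sq : ∀ i, ι i * ι i = 1
  inj : Function.Injective ι

variable {ι}

lemma Dat.inv (D : Dat ι) (i : I) : (ι i)⁻¹ = ι i :=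
  inv_eq_of_mul_eq_one_right (D.sq i)

/-- the Coxeter matrix of orders. -/
noncomputable def cmat (D : Dat ι) : CoxeterMatrix I where
  M := Matrix.of fun i j => orderOf (ι i * ι j)
  isSymm := by
    ext i j
    simp only [Matrix.transpose_apply, Matrix.of_apply]
    have : ι j * ι i = (ι i * ι j)⁻¹ := by
      rw [mul_inv_rev, D.inv, D.inv]
    rw [this, orderOf_inv]
  diagonal i := by simp [D.sq]
  off_diagonal i j hij := by
    simp only [Matrix.of_apply, ne_eq, orderOf_eq_one_iff]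
    intro h
    apply hij; apply D.inj
    have := eq_inv_of_mul_eq_one_left h
    rw [this, D.inv]

lemma cmat_apply (D : Dat ι) (i j : I) :
    (cmat D) i j = orderOf (ι i * ι j) := rfl

lemma cmat_liftable (D : Dat ι) : (cmat D).IsLiftable ι := by
  intro i j
  rw [cmat_apply]; exact pow_orderOf_eq_one _

/-- The canonical map from the Coxeter group. -/
noncomputable def fhat (D : Dat ι) : (cmat D).Group →* W :=
  (cmat D).toCoxeterSystem.lift ⟨ι, cmat_liftable D⟩

lemma fhat_simple (D : Dat ι) (i : I) :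
    fhat D ((cmat D).toCoxeterSystem.simple i) = ι i := by
  unfold fhat
  exact lift_apply_simple _ _ i

/-- word product in the Coxeter group. -/
noncomputable def wt (D : Dat ι) (l : List I) : (cmat D).Group :=
  (cmat D).toCoxeterSystem.wordProd l

lemma wt_cons (D : Dat ι) (a : I) (l : List I) :
    wt D (a :: l) = (cmat D).toCoxeterSystem.simple a * wt D l := wordProd_cons _ a l

lemma wt_append (D : Dat ι) (l l' : List I) :
    wt D (l ++ l') = wt D l * wt D l' := wordProd_append _ l l'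

@[simp] lemma wt_nil (D : Dat ι) : wt D [] = 1 := wordProd_nil _

lemma fhat_wt (D : Dat ι) (l : List I) : fhat D (wt D l) = wp ι l := by
  induction l with
  | nil => simp
  | cons a l ih => rw [wt_cons, map_mul, ih, fhat_simple, wp_cons]

/-- generic lemma on alternating products of two involutions. -/
lemma alt_generic {H : Type*} [Group H] (x y : H) (hx : x * x = 1) (hy : y * y = 1) (n : ℕ) :
    ((if Even n then 1 else y) * (x * y) ^ (n / 2) = (if Even n then 1 else x) * (y * x) ^ (n / 2))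
      ↔ (x * y) ^ n = 1 := by
  have hxi : x⁻¹ = x := inv_eq_of_mul_eq_one_right hx
  have hyi : y⁻¹ = y := inv_eq_of_mul_eq_one_right hy
  have hyx : y * x = (x * y)⁻¹ := by rw [mul_inv_rev, hxi, hyi]
  rw [hyx, inv_pow]
  rcases Nat.even_or_odd' n with ⟨k, rfl | rfl⟩
  · have h1 : Even (2 * k) := even_two_mul k
    have h2 : 2 * k / 2 = k := by omega
    rw [if_pos h1, if_pos h1, h2, one_mul, one_mul, eq_inv_iff_mul_eq_one, ← pow_add, two_mul]
  · have h1 : ¬ Even (2 * k + 1) := by simp [parity_simps]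
    have h2 : (2 * k + 1) / 2 = k := by omega
    rw [if_neg h1, if_neg h1, h2]
    have h3 : (x * y) ^ (2 * k + 1) = x * (y * (x * y) ^ k) * (x * y) ^ k := by
      rw [two_mul, pow_succ', pow_add]
      generalize (x * y) ^ k = t
      group
    rw [h3]
    generalize (x * y) ^ k = t
    constructor
    · intro h
      rw [h]
      calc x * (x * t⁻¹) * t = (x * x) * (t⁻¹ * t) := by group
        _ = 1 := by rw [hx]; simp
    · intro h
      have : y * t = x⁻¹ * (x * (y * t) * t) * t⁻¹ := by group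
      rw [this, h, hxi]; simp

/-- induction hypothesis of Bourbaki's Prop. 5. -/
def IH (D : Dat ι) (n : ℕ) : Prop := ∀ l l' : List I, l.length < n → IsRed ι l →
  l'.length = l.length → wp ι l = wp ι l' → wt D l = wt D l'

lemma A1 (D : Dat ι) {n : ℕ} (ih : IH D n) {a : I} {m m' : List I} (hn : (a :: m).length = n)
    (hr : IsRed ι (a :: m)) (hl : m'.length = m.length) (hp : wp ι (a :: m) = wp ι (a :: m')) :
    wt D (a :: m) = wt D (a :: m') := by
  have hrm : IsRed ι m := IsRed.of_append_right (l₁ := [a]) hr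
  have h1 : wp ι m = wp ι m' := by simpa using hp
  rw [wt_cons, wt_cons, ih m m' (by simp at hn; omega) hrm hl h1]

lemma A2 (D : Dat ι) {n : ℕ} (ih : IH D n) {a : I} {m m' : List I} (hn : (m ++ [a]).length = n)
    (hr : IsRed ι (m ++ [a])) (hl : m'.length = m.length)
    (hp : wp ι (m ++ [a]) = wp ι (m' ++ [a])) :
    wt D (m ++ [a]) = wt D (m' ++ [a]) := by
  have hrm : IsRed ι m := IsRed.of_append_left hr
  have h1 : wp ι m = wp ι m' := by simpa using hp
  rw [wt_append, wt_append, ih m m' (by simp at hn; omega) hrm hl h1]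

lemma B (D : Dat ι) (hE : Exch ι) {n : ℕ} (ih : IH D n) {x y' : List I} {b : I} (hx : IsRed ι x)
    (hxn : x.length = n) (hyn : (b :: y').length = n) (hp : wp ι x = wp ι (b :: y'))
    (hne : wt D x ≠ wt D (b :: y')) : ∃ k e, x = k ++ [e] ∧ wp ι (b :: k) = wp ι x := by
  have hnr : ¬ IsRed ι (b :: x) := by
    intro h
    have := h y' (by rw [wp_cons, hp, wp_cons, ← mul_assoc, D.sq, one_mul])
    simp at this hyn; omega
  obtain ⟨l₁, e, l₂, rfl, hc⟩ := hE b x hx hnr
  have hu : wp ι (b :: (l₁ ++ l₂)) = wp ι (l₁ ++ e :: l₂) := by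
    simp only [wp_cons, wp_append, ← mul_assoc, hc]
  have hur : IsRed ι (b :: (l₁ ++ l₂)) := hx.of_eq hu (by simp; omega)
  have h1 : wt D (b :: (l₁ ++ l₂)) = wt D (b :: y') :=
    A1 D ih (by simp at hxn ⊢; omega) hur (by simp at hxn hyn ⊢; omega) (hu.trans hp)
  rcases List.eq_nil_or_concat' l₂ with rfl | ⟨l₂', e', rfl⟩
  · exact ⟨l₁, e, rfl, by simpa using hu⟩
  · exfalso; apply hne; rw [← h1]
    have e1 : l₁ ++ e :: (l₂' ++ [e']) = (l₁ ++ e :: l₂') ++ [e'] := by simp
    have e2 : b :: (l₁ ++ (l₂' ++ [e'])) = (b :: (l₁ ++ l₂')) ++ [e'] := by simp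
    rw [e1] at hx hxn hu ⊢
    rw [e2] at hu ⊢
    exact A2 D ih hxn hx (by simp; omega) hu.symm

lemma step (D : Dat ι) (hE : Exch ι) {n : ℕ} (ih : IH D n) {c d : I} {lc' ld' p : List I} {e : I}
    (hc : IsRed ι (c :: lc')) (hcn : (c :: lc').length = n) (hd : IsRed ι (d :: ld'))
    (hcd : wp ι (c :: lc') = wp ι (d :: ld')) (hne : wt D (c :: lc') ≠ wt D (d :: ld'))
    (hx : IsRed ι (d :: (p ++ [e]))) (hxp : wp ι (d :: (p ++ [e])) = wp ι (d :: ld')) :
    IsRed ι (c :: d :: p) ∧ wp ι (c :: d :: p) = wp ι (d :: ld') := by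
  have hxn : (d :: (p ++ [e])).length = n := by
    rw [← hcn]; exact hx.length_eq hc (hxp.trans hcd.symm)
  have hdn : (d :: ld').length = n := by
    rw [← hcn]; exact hd.length_eq hc hcd.symm
  have h1 : wt D (d :: (p ++ [e])) = wt D (d :: ld') :=
    A1 D ih hxn hx (by simp at hxn hdn ⊢; omega) hxp
  have h2 : wt D (d :: (p ++ [e])) ≠ wt D (c :: lc') := by rw [h1]; exact hne.symm
  obtain ⟨k, e2, hk, hk2⟩ := B D hE ih hx hxn hcn (hxp.trans hcd.symm) h2
  have hk' : (d :: p) ++ [e] = k ++ [e2] := by simpa using hk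
  have hkk : d :: p = k := List.append_inj_left' hk' (by simp)
  subst hkk
  refine ⟨hx.of_eq hk2 (by simp), hk2.trans hxp⟩

lemma Calt (D : Dat ι) (hE : Exch ι) {n : ℕ} (ih : IH D n) {a b : I} {la' lb' : List I}
    (ha : IsRed ι (a :: la')) (han : (a :: la').length = n) (hb : IsRed ι (b :: lb'))
    (hab : wp ι (a :: la') = wp ι (b :: lb')) (hne : wt D (a :: la') ≠ wt D (b :: lb')) :
    ∀ j, j + 1 ≤ n → ∃ r, IsRed ι (alternatingWord a b (j + 1) ++ r) ∧
      wp ι (alternatingWord a b (j + 1) ++ r) = wp ι (a :: la') := by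
  have hbn : (b :: lb').length = n := by rw [← han]; exact hb.length_eq ha hab.symm
  intro j
  induction j with
  | zero =>
    intro _
    refine ⟨lb', ?_, ?_⟩
    · simpa [alternatingWord] using hb
    · simpa [alternatingWord] using hab.symm
  | succ j ihj =>
    intro hj
    obtain ⟨r, hr, hrp⟩ := ihj (by omega)
    have hlen : (alternatingWord a b (j + 1) ++ r).length = n := by
      rw [← han]; exact hr.length_eq ha hrp
    rcases List.eq_nil_or_concat' r with rfl | ⟨r', e, rfl⟩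
    · simp at hlen; omega
    · refine ⟨r', ?_⟩
      rw [alternatingWord_succ' a b (j + 1), alternatingWord_succ' a b j]
      rw [alternatingWord_succ' a b j] at hr hrp
      by_cases hev : Even j
      · have hev' : ¬ Even (j + 1) := by simp [parity_simps, hev]
        rw [if_pos hev] at hr hrp ⊢
        rw [if_neg hev']
        have e1 : b :: alternatingWord a b j ++ (r' ++ [e]) =
            b :: ((alternatingWord a b j ++ r') ++ [e]) := by simp
        rw [e1] at hr hrp
        have := step D hE ih ha han hb hab hne hr (hrp.trans hab)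
        exact ⟨by simpa using this.1, by simpa using this.2.trans hab.symm⟩
      · have hev' : Even (j + 1) := by simp [parity_simps, hev]
        rw [if_neg hev] at hr hrp ⊢
        rw [if_pos hev']
        have e1 : a :: alternatingWord a b j ++ (r' ++ [e]) =
            a :: ((alternatingWord a b j ++ r') ++ [e]) := by simp
        rw [e1] at hr hrp
        have := step D hE ih hb hbn ha hab.symm hne.symm hr hrp
        exact ⟨by simpa using this.1, by simpa using this.2⟩


lemma Dlem (D : Dat ι) (a b : I) (n : ℕ)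
    (h : wp ι (alternatingWord a b n) = wp ι (alternatingWord b a n)) :
    wt D (alternatingWord a b n) = wt D (alternatingWord b a n) := by
  have key : ∀ (i j : I), wt D (alternatingWord i j n) =
      (if Even n then 1 else (cmat D).toCoxeterSystem.simple j) *
        ((cmat D).toCoxeterSystem.simple i * (cmat D).toCoxeterSystem.simple j) ^ (n / 2) :=
    fun i j => prod_alternatingWord_eq_mul_pow _ i j n
  have key2 : ∀ i j, wp ι (alternatingWord i j n) =
      (if Even n then 1 else ι j) * (ι i * ι j) ^ (n / 2) := by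
    intro i j
    rw [← fhat_wt D, key, map_mul, map_pow, map_mul, fhat_simple, fhat_simple,
      apply_ite (fhat D), map_one, fhat_simple]
  rw [key2, key2, alt_generic _ _ (D.sq a) (D.sq b)] at h
  rw [key, key, alt_generic _ _ (simple_mul_simple_self _ a) (simple_mul_simple_self _ b)]
  have hdvd : orderOf (ι a * ι b) ∣ n := orderOf_dvd_of_pow_eq_one h
  obtain ⟨c, rfl⟩ := hdvd
  rw [pow_mul, ← cmat_apply D, simple_mul_simple_pow, one_pow]

lemma P5 (D : Dat ι) (hE : Exch ι) : ∀ n, IH D n := by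
  intro n
  induction n with
  | zero => intro l l' h; simp at h
  | succ n ih =>
    intro l l' hlen hl hll hp
    rcases Nat.lt_succ_iff_lt_or_eq.mp hlen with h | h
    · exact ih l l' h hl hll hp
    · by_contra hne
      have hl' : IsRed ι l' := hl.of_eq hp.symm hll
      cases l with
      | nil =>
        simp at hll; subst hll; exact hne rfl
      | cons a la' =>
        cases l' with
        | nil => simp at hll
        | cons b lb' =>
          have hbn : (b :: lb').length = n := by rw [hll, h]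
          obtain ⟨k, rfl⟩ : ∃ k, n = k + 1 := ⟨la'.length, by simpa using h.symm⟩
          obtain ⟨r, hr, hrp⟩ := Calt D hE ih hl h hl' hp hne k le_rfl
          obtain ⟨r2, hr2, hrp2⟩ := Calt D hE ih hl' hbn hl hp.symm (Ne.symm hne) k le_rfl
          have hrn : r = [] := by
            have := hr.length_eq hl hrp
            simp at this h
            apply List.eq_nil_of_length_eq_zero; omega
          have hrn2 : r2 = [] := by
            have := hr2.length_eq hl' hrp2
            simp at this hbn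
            apply List.eq_nil_of_length_eq_zero; omega
          subst hrn hrn2
          simp only [List.append_nil] at hr hrp hr2 hrp2
          have hD := Dlem D a b (k + 1) (hrp.trans (hp.trans hrp2.symm))
          rw [alternatingWord_succ' a b k] at hr hrp hD
          rw [alternatingWord_succ' b a k] at hr2 hrp2 hD
          by_cases hev : Even k
          · rw [if_pos hev] at hr hrp hr2 hrp2 hD
            rw [if_pos hev] at hD
            have e1 : wt D (b :: alternatingWord a b k) = wt D (b :: lb') :=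
              A1 D ih (by simp) hr (by simp at hbn ⊢; omega) (hrp.trans hp)
            have e2 : wt D (a :: alternatingWord b a k) = wt D (a :: la') :=
              A1 D ih (by simp) hr2 (by simp at h ⊢; omega) (hrp2.trans hp.symm)
            exact hne (by rw [← e2, ← hD, e1])
          · rw [if_neg hev] at hr hrp hr2 hrp2 hD
            rw [if_neg hev] at hD
            have e1 : wt D (a :: alternatingWord a b k) = wt D (a :: la') :=
              A1 D ih (by simp) hr (by simp at h ⊢; omega) hrp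
            have e2 : wt D (b :: alternatingWord b a k) = wt D (b :: lb') :=
              A1 D ih (by simp) hr2 (by simp at hbn ⊢; omega) hrp2
            exact hne (by rw [← e1, hD, e2])

lemma exch_del (D : Dat ι) (hE : Exch ι) {s : I} {l : List I} (hl : IsRed ι l)
    (hnr : ¬ IsRed ι (s :: l)) : ∃ l', wp ι l' = ι s * wp ι l ∧ l'.length + 1 = l.length := by
  obtain ⟨l₁, e, l₂, rfl, hc⟩ := hE s l hl hnr
  refine ⟨l₁ ++ l₂, ?_, by simp; omega⟩
  simp only [wp_append, wp_cons]
  rw [← mul_assoc, ← mul_assoc, hc, mul_assoc (wp ι l₁), D.sq, mul_one]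

theorem coxeter_of_exch (D : Dat ι) (hsurj : Function.Surjective (wp ι)) (hE : Exch ι) :
    ∃ (M : CoxeterMatrix I) (cs : CoxeterSystem M W), ∀ s, cs.simple s = ι s := by
  classical
  choose rd hrw hrr using exists_red ι hsurj
  have hg : ∀ l, IsRed ι l → wt D (rd (wp ι l)) = wt D l := fun l hl =>
    P5 D hE ((rd (wp ι l)).length + 1) _ _ (Nat.lt_succ_self _) (hrr _)
      ((hrr _).length_eq hl (hrw _)).symm (hrw _)
  have key : ∀ s w, IsRed ι (s :: rd w) →
      wt D (rd (ι s * w)) = (cmat D).toCoxeterSystem.simple s * wt D (rd w) := by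
    intro s w h
    have := hg (s :: rd w) h
    rwa [wp_cons, hrw, wt_cons] at this
  have hgs : ∀ s w, wt D (rd (ι s * w)) = (cmat D).toCoxeterSystem.simple s * wt D (rd w) := by
    intro s w
    by_cases h : IsRed ι (s :: rd w)
    · exact key s w h
    · obtain ⟨l', hl', hlen'⟩ := exch_del D hE (hrr w) h
      rw [hrw] at hl'
      have h2 : IsRed ι (s :: rd (ι s * w)) := by
        by_contra h2
        obtain ⟨l'', hl'', hlen''⟩ := exch_del D hE (hrr _) h2
        rw [hrw, ← mul_assoc, D.sq, one_mul] at hl''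
        have h3 := hrr w l'' (hl''.trans (hrw w).symm)
        have h4 := hrr (ι s * w) l' (hl'.trans (hrw _).symm)
        omega
      have h5 := key s (ι s * w) h2
      rw [← mul_assoc, D.sq, one_mul] at h5
      rw [h5, ← mul_assoc, simple_mul_simple_self, one_mul]
  have hinv : ∀ x : (cmat D).Group, wt D (rd (fhat D x)) = x := by
    intro x
    refine (cmat D).toCoxeterSystem.simple_induction_left (p := fun x => wt D (rd (fhat D x)) = x) x ?_ ?_
    · show wt D (rd (fhat D 1)) = 1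
      rw [map_one]
      have h1 : (rd 1).length ≤ ([] : List I).length := hrr 1 [] (by simp [hrw])
      have h2 : rd 1 = [] := List.eq_nil_of_length_eq_zero (by simpa using h1)
      rw [h2, wt_nil]
    · intro y i hy
      show wt D (rd (fhat D ((cmat D).toCoxeterSystem.simple i * y))) = _
      rw [map_mul, fhat_simple, hgs, hy]
  have hfinj : Function.Injective (fhat D) := Function.LeftInverse.injective (g := fun w => wt D (rd w)) hinv
  have hfsurj : Function.Surjective (fhat D) := by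
    intro w
    obtain ⟨l, rfl⟩ := hsurj w
    exact ⟨wt D l, fhat_wt D l⟩
  refine ⟨cmat D, ⟨(MulEquiv.ofBijective (fhat D) ⟨hfinj, hfsurj⟩).symm⟩, fun s => ?_⟩
  simp only [CoxeterSystem.simple, MulEquiv.symm_symm]
  exact fhat_simple D s

end PartI


section PartII

variable {G I W : Type*} [Group G] [Group W] (ι : I → W) (C : W → Set G)

/-- abstract Tits system data over `W`. -/
structure Tits : Prop where
  sq : ∀ s, ι s * ι s = 1
  ne1 : ∀ s, ι s ≠ 1
  surj : Function.Surjective (wp ι)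
  uniq1 : ∀ g w, g ∈ C 1 → g ∈ C w → w = 1
  nonempty : ∀ w, ∃ g, g ∈ C w
  inv : ∀ g w, g ∈ C w → g⁻¹ ∈ C w⁻¹
  split : ∀ g w w', g ∈ C (w * w') → ∃ g₁ ∈ C w, ∃ g₂ ∈ C w', g = g₁ * g₂
  mul_one_mem : ∀ g h w, g ∈ C w → h ∈ C 1 → g * h ∈ C w
  T3 : ∀ s g h w, g ∈ C (ι s) → h ∈ C w → g * h ∈ C w ∨ g * h ∈ C (ι s * w)
  T4 : ∀ s, ∃ g₁ ∈ C (ι s), ∃ g₂ ∈ C (ι s), g₁ * g₂ ∈ C (ι s)

variable {ι C}

lemma Tits.sinv (T : Tits ι C) (s : I) : (ι s)⁻¹ = ι s :=
  inv_eq_of_mul_eq_one_right (T.sq s)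

lemma Tits.T3r (T : Tits ι C) (s : I) (x y : G) (v : W) (hx : x ∈ C v) (hy : y ∈ C (ι s)) :
    x * y ∈ C v ∨ x * y ∈ C (v * ι s) := by
  have h1 : y⁻¹ ∈ C (ι s) := by simpa [T.sinv] using T.inv y _ hy
  have h2 : x⁻¹ ∈ C v⁻¹ := T.inv x _ hx
  rcases T.T3 s y⁻¹ x⁻¹ v⁻¹ h1 h2 with h | h
  · left
    have := T.inv _ _ h
    simpa using this
  · right
    have := T.inv _ _ h
    simpa [T.sinv] using this

lemma Tits.bruhat_aux (T : Tits ι C) : ∀ (l : List I) (w' : W),
    (∀ l', wp ι l' = w' → l.length ≤ l'.length) → ∀ g, g ∈ C (wp ι l) → g ∈ C w' →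
    wp ι l = w' := by
  intro l
  induction l with
  | nil =>
    intro w' _ g hg hg'
    rw [wp_nil] at hg ⊢
    exact (T.uniq1 g w' hg hg').symm
  | cons s l ih =>
    intro w' hmin g hg hg'
    rw [wp_cons] at hg ⊢
    obtain ⟨g₁, hg₁, g₂, hg₂, rfl⟩ := T.split g _ _ hg
    have h1 : g₁⁻¹ ∈ C (ι s) := by simpa [T.sinv] using T.inv g₁ _ hg₁
    have h2 : g₁⁻¹ * (g₁ * g₂) = g₂ := by group
    rcases T.T3 s g₁⁻¹ (g₁ * g₂) w' h1 hg' with h | h
    · rw [h2] at h
      have := ih w' (fun l' hl' => by have := hmin l' hl'; simp at this; omega) g₂ hg₂ h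
      have := hmin l this
      simp at this
    · rw [h2] at h
      have := ih (ι s * w') (fun l' hl' => by
        have := hmin (s :: l') (by rw [wp_cons, hl', ← mul_assoc, T.sq, one_mul])
        simpa using this) g₂ hg₂ h
      rw [this, ← mul_assoc, T.sq, one_mul]

lemma Tits.bruhat_unique (T : Tits ι C) (w w' : W) (g : G) (h : g ∈ C w) (h' : g ∈ C w') :
    w = w' := by
  obtain ⟨l, rfl, hl⟩ := exists_red ι T.surj w
  obtain ⟨l', rfl, hl'⟩ := exists_red ι T.surj w'
  rcases le_total l.length l'.length with hle | hle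
  · exact T.bruhat_aux l _ (fun l'' h'' => le_trans hle (hl' l'' h'')) g h h'
  · exact (T.bruhat_aux l' _ (fun l'' h'' => le_trans hle (hl l'' h'')) g h' h).symm

/-- the set `P_s`. -/
def Ps (ι : I → W) (C : W → Set G) (s : I) (w : W) : Prop :=
  ∀ g ∈ C (ι s), ∀ h ∈ C w, g * h ∈ C (ι s * w)

lemma Tits.Ps_one (T : Tits ι C) (s : I) : Ps ι C s 1 := by
  intro g hg h hh
  rw [mul_one]
  exact T.mul_one_mem g h _ hg hh

lemma Tits.Ps_B (T : Tits ι C) (s : I) (w : W) (h1 : Ps ι C s w) (h2 : Ps ι C s (ι s * w)) :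
    False := by
  obtain ⟨g₁, hg₁, g₂, hg₂, hg₁₂⟩ := T.T4 s
  obtain ⟨h, hh⟩ := T.nonempty w
  have a1 : g₂ * h ∈ C (ι s * w) := h1 g₂ hg₂ h hh
  have a2 : g₁ * (g₂ * h) ∈ C (ι s * (ι s * w)) := h2 g₁ hg₁ _ a1
  rw [← mul_assoc, T.sq, one_mul, ← mul_assoc] at a2
  have a3 : g₁ * g₂ * h ∈ C (ι s * w) := h1 _ hg₁₂ h hh
  have := T.bruhat_unique _ _ _ a2 a3
  apply T.ne1 s
  have h3 : ι s * w = 1 * w := by rw [one_mul]; exact this.symm
  exact mul_right_cancel h3

lemma Tits.Ps_C (T : Tits ι C) (s s' : I) (w : W) (h1 : Ps ι C s w)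
    (h2 : ¬ Ps ι C s (w * ι s')) : ι s * w = w * ι s' := by
  unfold Ps at h2
  push Not at h2
  obtain ⟨g, hg, h, hh, hgh⟩ := h2
  have hgh' : g * h ∈ C (w * ι s') := by
    rcases T.T3 s g h _ hg hh with h3 | h3
    · exact h3
    · exact absurd h3 hgh
  obtain ⟨h₁, hh₁, h₂, hh₂, rfl⟩ := T.split h _ _ hh
  have a1 : g * h₁ ∈ C (ι s * w) := h1 g hg h₁ hh₁
  have a2 : h₂⁻¹ ∈ C (ι s') := by simpa [T.sinv] using T.inv h₂ _ hh₂
  have a3 : g * (h₁ * h₂) * h₂⁻¹ = g * h₁ := by group
  rcases T.T3r s' (g * (h₁ * h₂)) h₂⁻¹ _ hgh' a2 with h3 | h3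
  · rw [a3] at h3
    exact T.bruhat_unique _ _ _ a1 h3
  · rw [a3, mul_assoc, T.sq, mul_one] at h3
    exfalso
    apply T.ne1 s
    have := T.bruhat_unique _ _ _ a1 h3
    have h4 : ι s * w = 1 * w := by rw [one_mul]; exact this
    exact mul_right_cancel h4

lemma Tits.first (T : Tits ι C) (s : I) : ∀ l : List I, ¬ Ps ι C s (wp ι l) →
    ∃ l₁ e l₂, l = l₁ ++ e :: l₂ ∧ ι s * wp ι l₁ = wp ι l₁ * ι e := by
  intro l
  induction l using List.reverseRecOn with
  | nil => intro h; exact absurd (by simpa using T.Ps_one s) h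
  | append_singleton l e ih =>
    intro h
    by_cases hP : Ps ι C s (wp ι l)
    · refine ⟨l, e, [], rfl, ?_⟩
      apply T.Ps_C s e _ hP
      simpa using h
    · obtain ⟨l₁, e', l₂, rfl, hc⟩ := ih hP
      exact ⟨l₁, e', l₂ ++ [e], by simp, hc⟩

theorem Tits.exch (T : Tits ι C) : Exch ι := by
  intro s l hl hnr
  apply T.first s l
  intro hP
  have hP2 : ¬ Ps ι C s (ι s * wp ι l) := fun h => T.Ps_B s _ hP h
  unfold IsRed at hnr
  push Not at hnr
  obtain ⟨l', hl', hlen⟩ := hnr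
  rw [wp_cons] at hl'
  rw [← hl'] at hP2
  obtain ⟨l₁, e, l₂, rfl, hc⟩ := T.first s l' hP2
  have h1 : wp ι (l₁ ++ l₂) = wp ι l := by
    have : ι s * (ι s * wp ι l) = wp ι l := by rw [← mul_assoc, T.sq, one_mul]
    rw [← this, ← hl']
    simp only [wp_append, wp_cons]
    rw [← mul_assoc, ← mul_assoc, hc, mul_assoc (wp ι l₁), T.sq, mul_one]
  have := hl _ h1
  simp at this hlen
  omega

end PartII


section PartIII

variable {G : Type*} [Group G] (P : Cfsg.BNPair G)
  [hN : ((P.B ⊓ P.N).subgroupOf P.N).Normal]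

/-- the image of a distinguished representative in the Weyl group. -/
def iota (s : P.S) : P.N ⧸ (P.B ⊓ P.N).subgroupOf P.N :=
  QuotientGroup.mk (⟨(s : G), P.subset s.2⟩ : P.N)

/-- the double coset attached to an element of the Weyl group. -/
def Cc (w : P.N ⧸ (P.B ⊓ P.N).subgroupOf P.N) : Set G :=
  {g | ∃ n : P.N, (QuotientGroup.mk n : P.N ⧸ (P.B ⊓ P.N).subgroupOf P.N) = w ∧
    ∃ b ∈ P.B, ∃ b' ∈ P.B, g = b * (n : G) * b'}

lemma mk_eq_iff (n n' : P.N) :
    (QuotientGroup.mk n : P.N ⧸ (P.B ⊓ P.N).subgroupOf P.N) = QuotientGroup.mk n' ↔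
      (n : G)⁻¹ * (n' : G) ∈ P.B := by
  rw [QuotientGroup.eq, Subgroup.mem_subgroupOf]
  constructor
  · intro h; exact h.1
  · intro h; exact ⟨h, (n⁻¹ * n').2⟩

lemma mk_eq_one_iff (n : P.N) :
    (QuotientGroup.mk n : P.N ⧸ (P.B ⊓ P.N).subgroupOf P.N) = 1 ↔ (n : G) ∈ P.B := by
  rw [QuotientGroup.eq_one_iff, Subgroup.mem_subgroupOf]
  constructor
  · intro h; exact h.1
  · intro h; exact ⟨h, n.2⟩

lemma mem_Cc_mk (n : P.N) (g : G) :
    g ∈ Cc P (QuotientGroup.mk n) ↔ ∃ b ∈ P.B, ∃ b' ∈ P.B, g = b * (n : G) * b' := by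
  constructor
  · rintro ⟨n', hn', b, hb, b', hb', rfl⟩
    have ht := (mk_eq_iff P n n').mp hn'.symm
    refine ⟨b, hb, (n : G)⁻¹ * (n' : G) * b', P.B.mul_mem ht hb', ?_⟩
    group
  · rintro ⟨b, hb, b', hb', rfl⟩
    exact ⟨n, rfl, b, hb, b', hb', rfl⟩


lemma mem_Cc_one (g : G) : g ∈ Cc P 1 ↔ g ∈ P.B := by
  have h1 : (1 : P.N ⧸ (P.B ⊓ P.N).subgroupOf P.N) = QuotientGroup.mk (1 : P.N) := rfl
  rw [h1, mem_Cc_mk]
  constructor
  · rintro ⟨b, hb, b', hb', rfl⟩
    simpa using P.B.mul_mem hb hb'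
  · intro hg
    exact ⟨g, hg, 1, P.B.one_mem, by simp⟩

lemma exists_conj_notin (s : P.S) : ∃ b ∈ P.B, (s : G) * b * s ∉ P.B := by
  by_contra h
  push Not at h
  apply P.conj_ne s s.2
  ext x
  constructor
  · rintro ⟨b, hb, rfl⟩
    exact h b hb
  · intro hx
    have hx' : x ∈ P.B := hx
    refine ⟨(s : G)⁻¹ * x * (s : G)⁻¹, ?_, by group⟩
    have h1 : (s : G)⁻¹ * x * (s : G)⁻¹ =
        ((s : G) * s)⁻¹ * ((s : G) * x * s) * ((s : G) * s)⁻¹ := by group
    show (s : G)⁻¹ * x * (s : G)⁻¹ ∈ P.B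
    rw [h1]
    exact P.B.mul_mem (P.B.mul_mem (P.B.inv_mem (P.sq_mem s s.2)) (h x hx'))
      (P.B.inv_mem (P.sq_mem s s.2))

lemma s_notin_B (s : P.S) : (s : G) ∉ P.B := by
  intro hs
  obtain ⟨b, hb, hn⟩ := exists_conj_notin P s
  exact hn (P.B.mul_mem (P.B.mul_mem hs hb) hs)

lemma iota_sq (s : P.S) : iota P s * iota P s = 1 := by
  show (QuotientGroup.mk ((⟨(s : G), P.subset s.2⟩ : P.N) * ⟨(s : G), P.subset s.2⟩) :
    P.N ⧸ (P.B ⊓ P.N).subgroupOf P.N) = 1
  rw [mk_eq_one_iff]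
  exact P.sq_mem s s.2

lemma iota_ne_one (s : P.S) : iota P s ≠ 1 := by
  intro h
  unfold iota at h
  rw [mk_eq_one_iff] at h
  exact s_notin_B P s h

lemma iota_inj : Function.Injective (iota P) := by
  intro s s' h
  unfold iota at h
  rw [mk_eq_iff] at h
  exact Subtype.ext (P.inj s s.2 s' s'.2 h)

lemma wp_reverse {I W : Type*} [Group W] {ι : I → W} (h2 : ∀ i, ι i * ι i = 1) (l : List I) :
    wp ι l.reverse = (wp ι l)⁻¹ := by
  induction l with
  | nil => simp
  | cons a l ih => simp [ih, mul_inv_rev, inv_eq_of_mul_eq_one_right (h2 a)]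

lemma iota_surj : Function.Surjective (wp (iota P)) := by
  intro w
  obtain ⟨n, rfl⟩ := QuotientGroup.mk_surjective w
  have hQ : ∀ g ∈ Subgroup.closure (P.S ∪ ((P.B ⊓ P.N : Subgroup G) : Set G)),
      ∃ hn : g ∈ P.N, ∃ l, wp (iota P) l = QuotientGroup.mk (⟨g, hn⟩ : P.N) := by
    intro g hg
    induction hg using Subgroup.closure_induction with
    | mem x hx =>
      rcases hx with hx | hx
      · exact ⟨P.subset hx, [⟨x, hx⟩], by simp [iota]⟩
      · refine ⟨hx.2, [], ?_⟩
        rw [wp_nil]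
        exact ((mk_eq_one_iff P ⟨x, hx.2⟩).mpr hx.1).symm
    | one => exact ⟨P.N.one_mem, [], by rw [wp_nil]; rfl⟩
    | mul x y _ _ hx hy =>
      obtain ⟨hnx, lx, hlx⟩ := hx
      obtain ⟨hny, ly, hly⟩ := hy
      exact ⟨P.N.mul_mem hnx hny, lx ++ ly, by rw [wp_append, hlx, hly]; rfl⟩
    | inv x _ hx =>
      obtain ⟨hnx, lx, hlx⟩ := hx
      exact ⟨P.N.inv_mem hnx, lx.reverse, by rw [wp_reverse (iota_sq P), hlx]; rfl⟩
  have hN' : (n : G) ∈ Subgroup.closure (P.S ∪ ((P.B ⊓ P.N : Subgroup G) : Set G)) := by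
    rw [Subgroup.closure_union, Subgroup.closure_eq, P.closure_sup]; exact n.2
  obtain ⟨hn, l, hl⟩ := hQ _ hN'
  exact ⟨l, hl⟩

lemma tits : Tits (iota P) (Cc P) where
  sq := iota_sq P
  ne1 := iota_ne_one P
  surj := iota_surj P
  uniq1 := by
    rintro g w hg ⟨n, rfl, b, hb, b', hb', rfl⟩
    rw [mem_Cc_one] at hg
    rw [mk_eq_one_iff]
    have h1 : (n : G) = b⁻¹ * (b * (n : G) * b') * b'⁻¹ := by group
    rw [h1]
    exact P.B.mul_mem (P.B.mul_mem (P.B.inv_mem hb) hg) (P.B.inv_mem hb')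
  nonempty := by
    intro w
    obtain ⟨n, rfl⟩ := QuotientGroup.mk_surjective w
    exact ⟨n, n, rfl, 1, P.B.one_mem, 1, P.B.one_mem, by simp⟩
  inv := by
    rintro g w ⟨n, rfl, b, hb, b', hb', rfl⟩
    exact ⟨n⁻¹, rfl, b'⁻¹, P.B.inv_mem hb', b⁻¹, P.B.inv_mem hb, by simp [mul_assoc]⟩
  split := by
    rintro g w w' ⟨n, hn, b, hb, b', hb', rfl⟩
    obtain ⟨n₁, rfl⟩ := QuotientGroup.mk_surjective w
    refine ⟨b * (n₁ : G), ⟨n₁, rfl, b, hb, 1, P.B.one_mem, by simp⟩,
      (n₁ : G)⁻¹ * (n : G) * b', ⟨n₁⁻¹ * n, ?_, 1, P.B.one_mem, b', hb', by simp⟩, by group⟩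
    rw [QuotientGroup.mk_mul, hn, QuotientGroup.mk_inv, inv_mul_cancel_left]
  mul_one_mem := by
    rintro g h w ⟨n, rfl, b, hb, b', hb', rfl⟩ hh
    rw [mem_Cc_one] at hh
    exact ⟨n, rfl, b, hb, b' * h, P.B.mul_mem hb' hh, by group⟩
  T3 := by
    rintro s g h w hg ⟨n, rfl, b₃, hb₃, b₄, hb₄, rfl⟩
    unfold iota at hg
    rw [mem_Cc_mk] at hg
    obtain ⟨b₁, hb₁, b₂, hb₂, rfl⟩ := hg
    have hmem := P.mul_mem_union s s.2 n n.2 (b₂ * b₃) (P.B.mul_mem hb₂ hb₃)
    rcases hmem with hmem | hmem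
    · right
      rw [DoubleCoset.mem_doubleCoset] at hmem
      obtain ⟨x, hx, y, hy, hxy⟩ := hmem
      refine ⟨⟨(s : G), P.subset s.2⟩ * n, rfl, b₁ * x, P.B.mul_mem hb₁ hx, y * b₄,
        P.B.mul_mem hy hb₄, ?_⟩
      have h1 : b₁ * (s : G) * b₂ * (b₃ * (n : G) * b₄) =
          b₁ * ((s : G) * (b₂ * b₃) * (n : G)) * b₄ := by group
      show b₁ * (s : G) * b₂ * (b₃ * (n : G) * b₄) = b₁ * x * ((s : G) * (n : G)) * (y * b₄)
      rw [h1, hxy]; group
    · left
      rw [DoubleCoset.mem_doubleCoset] at hmem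
      obtain ⟨x, hx, y, hy, hxy⟩ := hmem
      refine ⟨n, rfl, b₁ * x, P.B.mul_mem hb₁ hx, y * b₄, P.B.mul_mem hy hb₄, ?_⟩
      have h1 : b₁ * (s : G) * b₂ * (b₃ * (n : G) * b₄) =
          b₁ * ((s : G) * (b₂ * b₃) * (n : G)) * b₄ := by group
      show b₁ * (s : G) * b₂ * (b₃ * (n : G) * b₄) = b₁ * x * (n : G) * (y * b₄)
      rw [h1, hxy]; group
  T4 := by
    intro s
    obtain ⟨b, hb, hn⟩ := exists_conj_notin P s
    have hmem := P.mul_mem_union s s.2 s (P.subset s.2) b hb
    rcases hmem with hmem | hmem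
    · exfalso
      rw [DoubleCoset.mem_doubleCoset] at hmem
      obtain ⟨x, hx, y, hy, hxy⟩ := hmem
      apply hn
      rw [hxy]
      exact P.B.mul_mem (P.B.mul_mem hx (P.sq_mem s s.2)) hy
    · rw [DoubleCoset.mem_doubleCoset] at hmem
      obtain ⟨x, hx, y, hy, hxy⟩ := hmem
      unfold iota
      refine ⟨(s : G), ?_, b * (s : G), ?_, ?_⟩
      · rw [mem_Cc_mk]; exact ⟨1, P.B.one_mem, 1, P.B.one_mem, by simp⟩
      · rw [mem_Cc_mk]; exact ⟨b, hb, 1, P.B.one_mem, by simp⟩
      · rw [mem_Cc_mk]; exact ⟨x, hx, y, hy, by rw [← hxy]; group⟩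

end PartIII

/-- The Weyl group `W = N / (B ⊓ N)` of a (B,N)-pair, with its distinguished involutions, is a Coxeter system. -/
theorem result {G : Type*} [Group G] (P : Cfsg.BNPair G)
    [hN : ((P.B ⊓ P.N).subgroupOf P.N).Normal] :
    ∃ (M : CoxeterMatrix P.S) (cs : CoxeterSystem M (P.N ⧸ (P.B ⊓ P.N).subgroupOf P.N)),
      ∀ s : P.S, cs.simple s = QuotientGroup.mk (⟨(s : G), P.subset s.2⟩ : P.N) := by
  have T := tits P
  have D : Dat (iota P) := ⟨T.sq, iota_inj P⟩
  obtain ⟨M, cs, h⟩ := coxeter_of_exch D T.surj T.exch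
  exact ⟨M, cs, h⟩

end Cfsg.Agent.S0320
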