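import Mathlib
import Cfsg.Statements.S0321
import Cfsg.Agent.Lib_helper2_BN3

set_option autoImplicit false
open Cfsg

namespace Cfsg.Agent.S0321

open Cfsg.Agent.helper2

theorem result {G : Type*} [Group G] (P : Cfsg.BNPair G) {n : G}
    (hn : n ∈ P.N) (hnB : n ∉ P.B) :
    (∃ H : Subgroup G, (H : Set G) = (P.B : Set G) ∪ DoubleCoset.doubleCoset n (P.B : Set G) P.B) ↔ ∃ s ∈ P.S, s⁻¹ * n ∈ P.B := by
  constructor
  · rintro ⟨H, hH⟩
    have hBH : P.B ≤ H := by
      intro b hb
      have : b ∈ (H : Set G) := by rw [hH]; exact Or.inl hb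
      exact this
    have hnH : n ∈ H := by
      have : n ∈ (H : Set G) := by rw [hH]; exact Or.inr (BN.self_mem_C P n)
      exact this
    have h1 := BN.eq_parabolic_of_B_le P hBH
    have hne : (P.S ∩ (H : Set G)).Nonempty := by
      by_contra hemp
      rw [Set.not_nonempty_iff_eq_empty] at hemp
      rw [hemp, BN.parabolic_empty] at h1
      rw [h1] at hnH
      exact hnB hnH
    obtain ⟨s, hs, hsH⟩ := hne
    refine ⟨s, hs, ?_⟩
    rw [hH] at hsH
    rcases hsH with hsB | hsC
    · exact absurd hsB (BN.S_not_mem_B P hs)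
    · have : BN.C P s = BN.C P n := BN.C_eq_of_mem P hsC
      exact (BN.C_eq_iff P (P.subset hs) hn).mp this
  · rintro ⟨s, hs, hsn⟩
    refine ⟨P.parabolic {s}, ?_⟩
    rw [BN.parabolic_singleton P hs]
    have : BN.C P s = BN.C P n := (BN.C_eq_iff P (P.subset hs) hn).mpr hsn
    rw [this]
    rfl

end Cfsg.Agent.S0321
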