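import Mathlib
import Cfsg.Statements.S0322
import Cfsg.Agent.Lib_helper2_BN3

set_option autoImplicit false
open Cfsg

namespace Cfsg.Agent.S0322

open Cfsg.Agent.helper2

theorem result {G : Type*} [Group G] (P : Cfsg.BNPair G) (h : P.rank = 1) : MulAction.IsMultiplyPretransitive G (G ⧸ P.B) 2 := by
  unfold BNPair.rank at h
  obtain ⟨⟨s, hs⟩, hall⟩ := Nat.card_eq_one_iff_exists.mp h
  have hS : P.S = {s} := by
    ext x
    constructor
    · intro hx
      have := hall ⟨x, hx⟩
      exact congrArg Subtype.val this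
    · intro hx
      rw [Set.mem_singleton_iff] at hx
      rw [hx]
      exact hs
  have hG : ∀ g : G, g ∈ P.B ∨ g ∈ BN.C P s := by
    intro g
    have h1 : g ∈ (P.parabolic {s} : Set G) := by
      rw [← hS, BN.parabolic_S_eq_top]
      trivial
    rw [BN.parabolic_singleton P hs] at h1
    exact h1
  have key : ∀ x y : G, (QuotientGroup.mk x : G ⧸ P.B) ≠ QuotientGroup.mk y →
      ∃ b ∈ P.B, (QuotientGroup.mk y : G ⧸ P.B) = QuotientGroup.mk (x * b * s) := by
    intro x y hxy
    have h1 : x⁻¹ * y ∉ P.B := fun hmem => hxy (QuotientGroup.eq.mpr hmem)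
    rcases hG (x⁻¹ * y) with h2 | h2
    · exact absurd h2 h1
    · obtain ⟨b1, hb1, b2, hb2, he⟩ := (BN.mem_C P).mp h2
      refine ⟨b1, hb1, ?_⟩
      rw [QuotientGroup.eq]
      have e : y⁻¹ * (x * b1 * s) = b2⁻¹ := by
        have hy : y = x * (b1 * s * b2) := by
          rw [← he]
          group
        rw [hy]
        group
      rw [e]
      exact P.B.inv_mem hb2
  rw [MulAction.is_two_pretransitive_iff]
  intro a b c d hab hcd
  obtain ⟨x, rfl⟩ := QuotientGroup.mk_surjective a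
  obtain ⟨y, rfl⟩ := QuotientGroup.mk_surjective b
  obtain ⟨u, rfl⟩ := QuotientGroup.mk_surjective c
  obtain ⟨v, rfl⟩ := QuotientGroup.mk_surjective d
  obtain ⟨b1, hb1, e1⟩ := key x y hab
  obtain ⟨b3, hb3, e3⟩ := key u v hcd
  refine ⟨u * b3 * (x * b1)⁻¹, ?_, ?_⟩
  · rw [MulAction.Quotient.smul_mk, smul_eq_mul, QuotientGroup.eq]
    have e : (u * b3 * (x * b1)⁻¹ * x)⁻¹ * u = b1 * b3⁻¹ := by group
    rw [e]
    exact P.B.mul_mem hb1 (P.B.inv_mem hb3)
  · rw [e1, e3, MulAction.Quotient.smul_mk, smul_eq_mul]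
    congr 1
    group

end Cfsg.Agent.S0322
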