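import Mathlib
import Cfsg.Statements.S0323

set_option autoImplicit false
open scoped Pointwise
open Cfsg

namespace Cfsg.Agent.S0323

theorem mem_pair_stab {G Ω : Type*} [Group G] [MulAction G Ω] {x y : Ω} {n : G} :
    n ∈ MulAction.stabilizer G ({x, y} : Set Ω) ↔
      (n • x = x ∧ n • y = y) ∨ (n • x = y ∧ n • y = x) := by
  rw [MulAction.mem_stabilizer_iff, Set.smul_set_insert, Set.smul_set_singleton,
    Set.pair_eq_pair_iff]

theorem result {G Ω : Type*} [Group G] [MulAction G Ω]
    (h2 : MulAction.IsMultiplyPretransitive G Ω 2) {x y z : Ω} (hxy : x ≠ y) (hyz : y ≠ z) (hxz : x ≠ z) :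
    ∃ P : Cfsg.BNPair G, P.B = MulAction.stabilizer G x ∧
      P.N = MulAction.stabilizer G ({x, y} : Set Ω) ∧ P.rank = 1 := by
  rw [MulAction.is_two_pretransitive_iff] at h2
  obtain ⟨s, hsx, hsy⟩ := h2 hxy hxy.symm
  have hsx' : s⁻¹ • y = x := by rw [← hsx, inv_smul_smul]
  have hsy' : s⁻¹ • x = y := by rw [← hsy, inv_smul_smul]
  have L2 : ∀ u v : Ω, u ≠ x → v ≠ x → ∃ b : G, b • x = x ∧ b • u = v := by
    intro u v hu hv
    exact h2 (Ne.symm hu) (Ne.symm hv)
  have hsN : s ∈ MulAction.stabilizer G ({x, y} : Set Ω) :=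
    mem_pair_stab.mpr (Or.inr ⟨hsx, hsy⟩)
  refine ⟨{ B := MulAction.stabilizer G x
            N := MulAction.stabilizer G ({x, y} : Set Ω)
            S := {s}
            sup_eq_top := ?_
            conj_mem := ?_
            subset := ?_
            sq_mem := ?_
            inj := ?_
            closure_sup := ?_
            mul_mem_union := ?_
            conj_ne := ?_ }, rfl, rfl, ?_⟩
  · rw [eq_top_iff]
    intro g _
    by_cases hg : g • x = x
    · exact Subgroup.mem_sup_left (MulAction.mem_stabilizer_iff.mpr hg)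
    · obtain ⟨b, hbx, hb⟩ := L2 (g • x) y hg hxy.symm
      have hb' : s⁻¹ * b * g ∈ MulAction.stabilizer G x := by
        rw [MulAction.mem_stabilizer_iff, mul_smul, mul_smul, hb, hsx']
      have e : g = b⁻¹ * s * (s⁻¹ * b * g) := by group
      rw [e]
      apply mul_mem (mul_mem _ _) _
      · exact Subgroup.mem_sup_left (inv_mem (MulAction.mem_stabilizer_iff.mpr hbx))
      · exact Subgroup.mem_sup_right hsN
      · exact Subgroup.mem_sup_left hb'
  · intro n hn t ht
    obtain ⟨htB, htN⟩ := Subgroup.mem_inf.mp ht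
    rw [MulAction.mem_stabilizer_iff] at htB ⊢
    have hty : t • y = y := by
      rcases mem_pair_stab.mp htN with h | h
      · exact h.2
      · exfalso
        exact hxy (htB.symm.trans h.1)
    rw [mul_smul, mul_smul]
    rcases mem_pair_stab.mp (inv_mem hn) with h | h
    · rw [h.1, htB]
      exact (inv_smul_eq_iff.mp h.1).symm
    · rw [h.1, hty]
      exact (inv_smul_eq_iff.mp h.1).symm
  · intro a ha
    rw [Set.mem_singleton_iff] at ha
    rw [ha]
    exact hsN
  · intro a ha
    rw [Set.mem_singleton_iff] at ha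
    rw [ha, MulAction.mem_stabilizer_iff, mul_smul, hsx, hsy]
  · intro a ha a' ha' _
    rw [Set.mem_singleton_iff] at ha ha'
    rw [ha, ha']
  · apply le_antisymm
    · apply sup_le
      · rw [Subgroup.closure_le]
        intro a ha
        rw [Set.mem_singleton_iff] at ha
        rw [ha]
        exact hsN
      · exact inf_le_right
    · intro n hn
      rcases mem_pair_stab.mp hn with h | h
      · apply Subgroup.mem_sup_right
        exact Subgroup.mem_inf.mpr ⟨MulAction.mem_stabilizer_iff.mpr h.1, hn⟩
      · have e : n = s * (s⁻¹ * n) := by group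
        rw [e]
        apply mul_mem
        · exact Subgroup.mem_sup_left (Subgroup.subset_closure rfl)
        · apply Subgroup.mem_sup_right
          refine Subgroup.mem_inf.mpr ⟨?_, mul_mem (inv_mem hsN) hn⟩
          rw [MulAction.mem_stabilizer_iff, mul_smul, h.1, hsx']
  · intro a ha n hn b hb
    rw [Set.mem_singleton_iff] at ha
    subst ha
    rw [MulAction.mem_stabilizer_iff] at hb
    rcases mem_pair_stab.mp hn with h | h
    · left
      rw [DoubleCoset.mem_doubleCoset]
      refine ⟨1, one_mem _, n⁻¹ * b * n, ?_, by group⟩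
      rw [SetLike.mem_coe, MulAction.mem_stabilizer_iff, mul_smul, mul_smul, h.1, hb]
      exact inv_smul_eq_iff.mpr h.1.symm
    · by_cases hg : (a * b * n) • x = x
      · left
        rw [DoubleCoset.mem_doubleCoset]
        refine ⟨(a * b * n) * (a * n)⁻¹, ?_, 1, one_mem _, by group⟩
        have hsn : (a * n) • x = x := by rw [mul_smul, h.1, hsy]
        rw [SetLike.mem_coe, MulAction.mem_stabilizer_iff, mul_smul,
          inv_smul_eq_iff.mpr hsn.symm, hg]
      · right
        obtain ⟨b', hb'x, hb'⟩ := L2 ((a * b * n) • x) y hg hxy.symm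
        rw [DoubleCoset.mem_doubleCoset]
        refine ⟨b'⁻¹, inv_mem (MulAction.mem_stabilizer_iff.mpr hb'x),
          n⁻¹ * b' * (a * b * n), ?_, by group⟩
        rw [SetLike.mem_coe, MulAction.mem_stabilizer_iff, mul_smul, mul_smul, hb']
        exact inv_smul_eq_iff.mpr h.1.symm
  · intro a ha
    rw [Set.mem_singleton_iff] at ha
    subst ha
    intro himg
    obtain ⟨b, hbx, hb⟩ := L2 y z hxy.symm hxz.symm
    have h1 : a * b * a ∈ (fun b : G => a * b * a) '' (MulAction.stabilizer G x : Set G) :=
      ⟨b, MulAction.mem_stabilizer_iff.mpr hbx, rfl⟩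
    rw [himg, SetLike.mem_coe, MulAction.mem_stabilizer_iff, mul_smul, mul_smul, hsx, hb] at h1
    apply hyz
    rw [← hsy', ← h1, inv_smul_smul]
  · show Nat.card ({s} : Set G) = 1
    simp

end Cfsg.Agent.S0323
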