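import Cfsg.Statements.S0325
import Cfsg.Agent.Lib_helper11_Sz11

set_option autoImplicit false
open Cfsg

namespace Cfsg.Agent.S0325

open Cfsg.Agent.helper11.Sz

/-- The Suzuki group over a field with `2^(2m+1)` elements, `m ≥ 1`, is a simple group. -/
theorem result {F : Type*} [Field F] [Fintype F] {m : ℕ} (hm : 1 ≤ m)
    (hF : Fintype.card F = 2 ^ (2 * m + 1)) :
    IsSimpleGroup (Cfsg.Sz F m) := by
  haveI := Cfsg.Agent.helper11.Sz.charP_two hF
  haveI : Nontrivial (Cfsg.Sz F m) := by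
    refine ⟨⟨tq hF 1 0, 1, ?_⟩⟩
    intro h
    have := (tq_eq_one_iff hm hF).mp h
    exact one_ne_zero this.1
  refine ⟨fun N hN => ?_⟩
  by_cases h : N = ⊥
  · exact Or.inl h
  · exact Or.inr (normal_eq_top hm hF N hN h)

end Cfsg.Agent.S0325
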