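import Cfsg.Statements.S0328
import Cfsg.Agent.Lib_helper11_Sz6

set_option autoImplicit false
open Cfsg

namespace Cfsg.Agent.S0328

open Cfsg.Agent.helper11.Sz Cfsg.Agent.S0326 Matrix

/-- The stabiliser in the Suzuki group of the two ovoid points spanned by `(1,0,0,0)` and `(0,0,0,1)` is
isomorphic to the multiplicative group of the field (cyclic of order `q - 1`). -/
theorem result {F : Type*} [Field F] [Fintype F] {m : ℕ} (hm : 1 ≤ m)
    (hF : Fintype.card F = 2 ^ (2 * m + 1)) :
    Nonempty (↥(MulAction.stabilizer (Cfsg.Sz F m) (Cfsg.suzukiPointInfinity F) ⊓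
        MulAction.stabilizer (Cfsg.Sz F m) (Cfsg.suzukiPointZero F)) ≃* Fˣ) := by
  haveI := Cfsg.Agent.helper11.Sz.charP_two hF
  let f : Fˣ →* ↥(MulAction.stabilizer (Cfsg.Sz F m) (Cfsg.suzukiPointInfinity F) ⊓
        MulAction.stabilizer (Cfsg.Sz F m) (Cfsg.suzukiPointZero F)) :=
    { toFun := fun k => ⟨⟨Hs m k, Hs_mem hF k⟩, by
        rw [Subgroup.mem_inf, MulAction.mem_stabilizer_iff, MulAction.mem_stabilizer_iff,
          Subgroup.mk_smul, Subgroup.mk_smul, pointInf_eq (m := m), pointZero_eq (m := m)]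
        exact ⟨Hs_smul_inf k, Hs_smul_zero hF k⟩⟩
      map_one' := by
        apply Subtype.ext
        apply Subtype.ext
        exact Hs_one
      map_mul' := by
        intro k k'
        apply Subtype.ext
        apply Subtype.ext
        exact (Hs_mul hm hF k k').symm }
  have hbij : Function.Bijective f := by
    constructor
    · intro k k' h
      have h' : Hs m k = Hs m k' :=
        congrArg (fun x : ↥(MulAction.stabilizer (Cfsg.Sz F m) (Cfsg.suzukiPointInfinity F) ⊓
          MulAction.stabilizer (Cfsg.Sz F m) (Cfsg.suzukiPointZero F)) =>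
            ((x : Cfsg.Sz F m) : SpecialLinearGroup (Fin 4) F)) h
      have h'' : Ts m (0 : F) 0 * Hs m k = Ts m 0 0 * Hs m k' := by rw [h']
      exact (Ts_Hs_injective hF h'').2.2
    · rintro ⟨⟨g, hg⟩, hg1⟩
      rw [Subgroup.mem_inf, MulAction.mem_stabilizer_iff, MulAction.mem_stabilizer_iff,
          Subgroup.mk_smul, Subgroup.mk_smul, pointInf_eq (m := m), pointZero_eq (m := m)] at hg1
      obtain ⟨k, rfl⟩ := stab_inf_zero hm hF g hg hg1.1 hg1.2
      exact ⟨k, rfl⟩
  exact ⟨(MulEquiv.ofBijective f hbij).symm⟩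

end Cfsg.Agent.S0328
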