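import Cfsg.Statements.S0330
import Cfsg.Agent.Lib_helper11_Sz9

set_option autoImplicit false
open Cfsg

namespace Cfsg.Agent.S0330

open Cfsg.Agent.helper11.Sz Cfsg.Agent.S0326 Matrix

theorem center_eq_commutator_of_equiv {P Q : Type*} [Group P] [Group Q] (e : P ≃* Q)
    (hQ : Subgroup.center Q = commutator Q) : Subgroup.center P = commutator P := by
  have hc : commutator Q = (commutator P).map e.toMonoidHom := by
    rw [commutator_def, commutator_def, Subgroup.map_commutator,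
      Subgroup.map_top_of_surjective _ e.surjective]
  ext x
  have h1 : x ∈ Subgroup.center P ↔ e x ∈ Subgroup.center Q := by
    rw [Subgroup.mem_center_iff, Subgroup.mem_center_iff]
    constructor
    · intro h g
      obtain ⟨g', rfl⟩ := e.surjective g
      rw [← map_mul, ← map_mul, h g']
    · intro h g
      apply e.injective
      rw [map_mul, map_mul, h (e g)]
  rw [h1, hQ, hc]
  exact Subgroup.mem_map_iff_mem e.injective

theorem factorization_two {m : ℕ} :
    ((2 ^ (2 * m + 1)) ^ 2 * ((2 ^ (2 * m + 1)) ^ 2 + 1) * (2 ^ (2 * m + 1) - 1)).factorization 2 =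
      2 * (2 * m + 1) := by
  have h1 : (2 ^ (2 * m + 1)) ^ 2 * ((2 ^ (2 * m + 1)) ^ 2 + 1) * (2 ^ (2 * m + 1) - 1) =
      2 ^ (2 * (2 * m + 1)) * (((2 ^ (2 * m + 1)) ^ 2 + 1) * (2 ^ (2 * m + 1) - 1)) := by
    rw [← pow_mul, mul_comm (2 * m + 1) 2, mul_assoc]
  have hq : 2 ≤ 2 ^ (2 * m + 1) := by
    calc 2 = 2 ^ 1 := by norm_num
      _ ≤ 2 ^ (2 * m + 1) := Nat.pow_le_pow_right (by norm_num) (by omega)
  have hodd : ¬ 2 ∣ ((2 ^ (2 * m + 1)) ^ 2 + 1) * (2 ^ (2 * m + 1) - 1) := by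
    rw [Nat.Prime.dvd_mul Nat.prime_two]
    rintro (h | h)
    · have : 2 ∣ (2 ^ (2 * m + 1)) ^ 2 := by
        rw [← pow_mul]; exact dvd_pow_self 2 (by omega)
      omega
    · have : 2 ∣ 2 ^ (2 * m + 1) := dvd_pow_self 2 (by omega)
      omega
  have hne : ((2 ^ (2 * m + 1)) ^ 2 + 1) * (2 ^ (2 * m + 1) - 1) ≠ 0 := by
    intro h
    apply hodd
    rw [h]
    exact dvd_zero 2
  rw [h1, Nat.factorization_mul (pow_ne_zero _ (by norm_num)) hne,
    Nat.Prime.factorization_pow Nat.prime_two, Finsupp.add_apply, Finsupp.single_eq_same,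
    Nat.factorization_eq_zero_of_not_dvd hodd, add_zero]

/-- A Sylow 2-subgroup `P` of the Suzuki group (field with `q = 2^(2m+1)` elements, `m ≥ 1`) has order `q²` and
exponent `4`; its centre coincides with its commutator subgroup and has order `q`. -/
theorem result {F : Type*} [Field F] [Fintype F] {m : ℕ} (hm : 1 ≤ m)
    (hF : Fintype.card F = 2 ^ (2 * m + 1)) (P : Sylow 2 (Cfsg.Sz F m)) :
    Nat.card P = (2 ^ (2 * m + 1)) ^ 2 ∧ Monoid.exponent P = 4 ∧
      Subgroup.center P = commutator P ∧ Nat.card (Subgroup.center P) = 2 ^ (2 * m + 1) := by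
  haveI := Cfsg.Agent.helper11.Sz.charP_two hF
  haveI : Fact (Nat.Prime 2) := ⟨Nat.prime_two⟩
  have hcard : Nat.card (Qs hm hF) = 2 ^ (Nat.card (Cfsg.Sz F m)).factorization 2 := by
    rw [card_Qs hm hF, card_Sz hm hF, hF, factorization_two, ← pow_mul, mul_comm]
  let Q₀ : Sylow 2 (Cfsg.Sz F m) := Sylow.ofCard (Qs hm hF) hcard
  let e : P ≃* Qs hm hF := Sylow.equiv P Q₀
  refine ⟨?_, ?_, ?_, ?_⟩
  · rw [Nat.card_congr e.toEquiv, card_Qs hm hF, hF]
  · rw [Monoid.exponent_eq_of_mulEquiv e, exponent_Qs hm hF]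
  · exact center_eq_commutator_of_equiv e (center_eq_commutator_Qs hm hF)
  · rw [Nat.card_congr (Subgroup.centerCongr e).toEquiv, card_center_Qs hm hF, hF]

end Cfsg.Agent.S0330
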