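import Cfsg.Statements.S0332
import Cfsg.Agent.Lib_helper11_Sz16

set_option autoImplicit false
open Cfsg

namespace Cfsg.Agent.S0332

open Cfsg.Agent.helper11.Sz Cfsg.Agent.S0326 Cfsg.Agent.S0327 Matrix

theorem nilpotent_of_comm {G : Type*} [Group G] (H : Subgroup G)
    (h : ∀ a ∈ H, ∀ b ∈ H, a * b = b * a) : Group.IsNilpotent H := by
  letI : CommGroup H :=
    { (inferInstance : Group H) with
      mul_comm := fun a b => Subtype.ext (h a.1 a.2 b.1 b.2) }
  exact CommGroup.isNilpotent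

/-- The Suzuki group is a CN-group: every non-identity element has nilpotent centraliser. -/
theorem result {F : Type*} [Field F] [Fintype F] {m : ℕ} (hm : 1 ≤ m)
    (hF : Fintype.card F = 2 ^ (2 * m + 1)) : Cfsg.IsCNGroup (Cfsg.Sz F m) := by
  haveI := Cfsg.Agent.helper11.Sz.charP_two hF
  haveI : Fact (Nat.Prime 2) := ⟨Nat.prime_two⟩
  intro g hg1
  by_cases hfix : ∃ y : Cfsg.suzukiOvoid F m, g • y = y
  · obtain ⟨y, hy⟩ := hfix
    obtain ⟨o, rfl⟩ := exists_pt y
    obtain ⟨x₀, hx₀, hx₀o⟩ := exists_smul_inf_eq hF o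
    set z : Cfsg.Sz F m := ⟨x₀, hx₀⟩ with hz
    have hzo : z • pt (F := F) m none = pt m o := (smul_pt_eq_iff _ _ _).mpr hx₀o
    have hfix' : (z⁻¹ * g * z) • pt (F := F) m none = pt m none := by
      rw [mul_smul, mul_smul, hzo, hy, ← hzo, inv_smul_smul]
    rw [smul_pt_eq_iff] at hfix'
    obtain ⟨a, b, k, hk⟩ := stab_inf' hm hF _ hfix'
    have hg : g = z * (tq hF a b * hq hF k) * z⁻¹ := by rw [← hk]; group
    by_cases hk1 : k = 1
    · -- a 2-element
      rw [hk1, hq_one, mul_one] at hg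
      have hab : ¬ (a = 0 ∧ b = 0) := by
        rintro ⟨rfl, rfl⟩
        apply hg1
        rw [hg, tq_zero hm hF]
        group
      have hP : IsPGroup 2 (Subgroup.centralizer ({g} : Set (Cfsg.Sz F m))) := by
        rintro ⟨c, hc⟩
        rw [Subgroup.mem_centralizer_singleton_iff, hg] at hc
        obtain ⟨a', b', hc'⟩ := centralizer_tq hm hF a b hab _ (conj_commute z _ c hc)
        refine ⟨2, ?_⟩
        apply Subtype.ext
        show c ^ 2 ^ 2 = 1
        have hc'' : c = z * tq hF a' b' * z⁻¹ := by rw [← hc']; group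
        have e4 : ∀ w : Cfsg.Sz F m, w ^ 2 ^ 2 = (w * w) * (w * w) := by
          intro w
          rw [show (2 : ℕ) ^ 2 = 2 + 2 from rfl, pow_add, pow_two]
        have e5 : (z * tq hF a' b' * z⁻¹) * (z * tq hF a' b' * z⁻¹) =
            z * (tq hF a' b' * tq hF a' b') * z⁻¹ := by group
        rw [hc'', e4, e5, tq_sq hm hF]
        have e6 : z * tq hF 0 (th F m a' * a') * z⁻¹ * (z * tq hF 0 (th F m a' * a') * z⁻¹) =
            z * (tq hF 0 (th F m a' * a') * tq hF 0 (th F m a' * a')) * z⁻¹ := by group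
        rw [e6, tq_zero_sq hm hF]
        group
      exact hP.isNilpotent
    · -- conjugate to `H(κ)`
      obtain ⟨t, k', ht⟩ := exists_conj_hq hm hF a b k hk1
      rw [ht] at hg
      have hg' : g = (z * t) * hq hF k' * (z * t)⁻¹ := by rw [hg]; group
      have hk'1 : k' ≠ 1 := by
        rintro rfl
        apply hg1
        rw [hg', hq_one]
        group
      apply nilpotent_of_comm
      intro c hc c' hc'
      rw [Subgroup.mem_centralizer_singleton_iff, hg'] at hc hc'
      obtain ⟨k₁, h1⟩ := centralizer_hq hm hF k' hk'1 _ (conj_commute (z * t) _ c hc)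
      obtain ⟨k₂, h2⟩ := centralizer_hq hm hF k' hk'1 _ (conj_commute (z * t) _ c' hc')
      have e1 : c = (z * t) * hq hF k₁ * (z * t)⁻¹ := by rw [← h1]; group
      have e2 : c' = (z * t) * hq hF k₂ * (z * t)⁻¹ := by rw [← h2]; group
      have e3 : hq hF k₁ * hq hF k₂ = hq (m := m) hF k₂ * hq hF k₁ := by
        rw [hq_mul hm hF, hq_mul hm hF, mul_comm]
      rw [e1, e2]
      calc (z * t) * hq hF k₁ * (z * t)⁻¹ * ((z * t) * hq hF k₂ * (z * t)⁻¹)
          = (z * t) * (hq hF k₁ * hq hF k₂) * (z * t)⁻¹ := by group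
        _ = (z * t) * (hq hF k₂ * hq hF k₁) * (z * t)⁻¹ := by rw [e3]
        _ = (z * t) * hq hF k₂ * (z * t)⁻¹ * ((z * t) * hq hF k₁ * (z * t)⁻¹) := by group
  · push Not at hfix
    apply nilpotent_of_comm
    intro c hc c' hc'
    rw [Subgroup.mem_centralizer_singleton_iff] at hc hc'
    exact comm_of_fpf hm hF g hfix c c' hc hc'

end Cfsg.Agent.S0332
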