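import Cfsg.Statements.S0335
import Cfsg.Agent.Lib_helper11_Sz7

set_option autoImplicit false
open Cfsg

namespace Cfsg.Agent.S0335

open Cfsg.Agent.helper11.Sz Cfsg.Agent.S0326 Matrix

theorem indep_aux {F : Type*} [Field F] {m : ℕ} (x y : F) (hxy : ¬ (x = 0 ∧ y = 0)) :
    LinearIndependent F (![![1, 0, 0, 0], ovVec m 0 0, ovVec m x y] : Fin 3 → (Fin 4 → F)) := by
  rw [Fintype.linearIndependent_iff]
  intro c hc
  rw [Fin.sum_univ_three] at hc
  have h0 := congrFun hc 0
  have h1 := congrFun hc 1
  have h2 := congrFun hc 2
  have h3 := congrFun hc 3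
  simp [ovVec] at h0 h1 h2 h3
  have hc2 : c 2 = 0 := by
    by_contra hne
    apply hxy
    constructor
    · rcases h2 with h | h
      · exact absurd h hne
      · exact h
    · rcases h1 with h | h
      · exact absurd h hne
      · exact h
  rw [hc2] at h0 h3
  simp at h0 h3
  intro i
  fin_cases i
  · exact h0
  · exact h3
  · exact hc2

/-- The Suzuki–Tits point set is an ovoid: any three distinct points of it are projectively independent
(no line of projective 3-space meets it in more than two points). -/
theorem result {F : Type*} [Field F] [Fintype F] {m : ℕ} (hm : 1 ≤ m)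
    (hF : Fintype.card F = 2 ^ (2 * m + 1)) (p : Fin 3 ↪ Cfsg.suzukiOvoid F m) :
    Projectivization.Independent (fun i => (p i : Projectivization F (Fin 4 → F))) := by
  haveI := Cfsg.Agent.helper11.Sz.charP_two hF
  have hex : ∀ i, ∃ o : Option (F × F), param m o = (p i : Projectivization F (Fin 4 → F)) := by
    intro i
    have h2 : (p i : Projectivization F (Fin 4 → F)) ∈ Set.range (param (F := F) m) := by
      rw [range_param]
      exact (p i).2
    exact h2
  choose o ho using hex
  have hoinj : Function.Injective o := by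
    intro i j hij
    apply p.injective
    apply Subtype.ext
    rw [← ho i, ← ho j, hij]
  have h01 : o 0 ≠ o 1 := fun h => absurd (hoinj h) (by decide)
  obtain ⟨g, hg, hg0, hg1⟩ := two_trans hF (o 0) (o 1) h01
  obtain ⟨o', ho'⟩ := smul_mem_ovoid g hg (o 2)
  have hne0 : o' ≠ none := by
    rintro rfl
    rw [← hg0] at ho'
    exact absurd (hoinj (param_injective m (MulAction.injective _ ho'))) (by decide)
  have hne1 : o' ≠ some (0, 0) := by
    rintro rfl
    rw [← hg1] at ho'
    exact absurd (hoinj (param_injective m (MulAction.injective _ ho'))) (by decide)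
  rcases o' with _ | ⟨x, y⟩
  · exact absurd rfl hne0
  have hxy : ¬ (x = 0 ∧ y = 0) := by
    rintro ⟨rfl, rfl⟩
    exact hne1 rfl
  set w : Fin 3 → (Fin 4 → F) := ![![1, 0, 0, 0], ovVec m 0 0, ovVec m x y] with hw
  have hwi : LinearIndependent F w := indep_aux x y hxy
  have hw0 : ∀ i, w i ≠ 0 := fun i => hwi.ne_zero i
  have hgp : ∀ i, g • (p i : Projectivization F (Fin 4 → F)) = Projectivization.mk F (w i) (hw0 i) := by
    intro i
    fin_cases i
    · rw [← ho]; exact hg0
    · rw [← ho]; exact hg1
    · rw [← ho]; exact ho'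
  set e := DistribMulAction.toLinearEquiv F (Fin 4 → F) g⁻¹ with he
  have hfi : LinearIndependent F (fun i => e (w i)) := hwi.map' e.toLinearMap e.ker
  have hf0 : ∀ i, e (w i) ≠ 0 := fun i => hfi.ne_zero i
  have key : (fun i => (p i : Projectivization F (Fin 4 → F))) =
      fun i => Projectivization.mk F (e (w i)) (hf0 i) := by
    funext i
    have h1 : (p i : Projectivization F (Fin 4 → F)) = g⁻¹ • Projectivization.mk F (w i) (hw0 i) := by
      rw [← hgp i, inv_smul_smul]
    rw [h1, Projectivization.smul_mk]
    rfl
  rw [key]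
  exact Projectivization.Independent.mk _ hf0 hfi

end Cfsg.Agent.S0335
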