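import Mathlib
import Cfsg.Statements.S0339
import Cfsg.Agent.Lib_helper17_Zassenhaus

set_option autoImplicit false
open Cfsg

namespace Cfsg.Agent.S0339

open MulAction Cfsg.Agent.helper17.Zass

theorem result {G Ω : Type*} [Group G] [MulAction G Ω] [Finite Ω]
    (hZ : Cfsg.IsZassenhausGroup G Ω) (N : Subgroup G) [N.Normal] (hN : N ≠ ⊥) :
    Cfsg.IsZassenhausGroup N Ω := by
  classical
  obtain ⟨hfaith, h2t, h3, ⟨g₀, hg₀, a', b', hab', hga', hgb'⟩, hreg⟩ := hZ
  have hNn : N.Normal := inferInstance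
  have h2 : ∀ {a b c d : Ω}, a ≠ b → c ≠ d → ∃ g : G, g • a = c ∧ g • b = d :=
    fun {a b c d} hab hcd => MulAction.is_two_pretransitive_iff.mp h2t hab hcd
  obtain ⟨c', hc'⟩ := exists_moved (Ω := Ω) g₀ hg₀
  have hca : a' ≠ c' := fun h => hc' (h ▸ hga')
  have hcb : b' ≠ c' := fun h => hc' (h ▸ hgb')
  obtain ⟨⟨h, hhN, hh1, a, b, hab, hha, hhb⟩, hN2⟩ :=
    normal_two_trans h2 h3 hreg hab' N hN
  refine ⟨?_, ?_, ?_, ?_, ?_⟩
  · exact ⟨fun {m1 m2} hm => Subtype.ext (hfaith.eq_of_smul_eq_smul (fun x => hm x))⟩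
  · rw [MulAction.is_two_pretransitive_iff]
    intro x y z w hxy hzw
    obtain ⟨n, hn, h1, h2'⟩ := hN2 hxy hzw
    exact ⟨⟨n, hn⟩, h1, h2'⟩
  · intro g x y z hxy hyz hxz hx hy hz
    exact Subtype.ext (h3 g x y z hxy hyz hxz hx hy hz)
  · exact ⟨⟨h, hhN⟩, fun h' => hh1 (congrArg Subtype.val h'), a, b, hab, hha, hhb⟩
  · intro R₀ hR₀n hR₀t
    by_contra hcon
    push Not at hcon
    set R : Subgroup G := R₀.map N.subtype with hR
    have hmemR : ∀ r : G, r ∈ R ↔ ∃ hr : r ∈ N, (⟨r, hr⟩ : N) ∈ R₀ := by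
      intro r
      rw [hR, Subgroup.mem_map]
      constructor
      · rintro ⟨x, hx, rfl⟩
        exact ⟨x.2, hx⟩
      · rintro ⟨hr, hx⟩
        exact ⟨⟨r, hr⟩, hx, rfl⟩
    have hRN : RegNormalIn Ω N R := by
      refine ⟨?_, ?_, ?_, ?_⟩
      · intro r hr
        obtain ⟨hr', _⟩ := (hmemR r).mp hr
        exact hr'
      · intro n hn r hr
        obtain ⟨hr', hx⟩ := (hmemR r).mp hr
        rw [hmemR]
        refine ⟨N.mul_mem (N.mul_mem hn hr') (N.inv_mem hn), ?_⟩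
        have := hR₀n.conj_mem ⟨r, hr'⟩ hx ⟨n, hn⟩
        exact this
      · intro x y
        obtain ⟨z, hz⟩ := hR₀t.exists_smul_eq x y
        refine ⟨((z : N) : G), (hmemR _).mpr ⟨(z : N).2, z.2⟩, hz⟩
      · intro r hr x hx
        obtain ⟨hr', hx'⟩ := (hmemR r).mp hr
        have hmem : (⟨⟨r, hr'⟩, hx'⟩ : R₀) ∈ stabilizer R₀ x := by
          rw [mem_stabilizer_iff]
          exact hx
        rw [hcon x, Subgroup.mem_bot] at hmem
        have := congrArg (fun z : R₀ => ((z : N) : G)) hmem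
        exact this
    have hconjR : ∀ k : G, RegNormalIn Ω N (R.map (MulAut.conj k).toMonoidHom) := by
      intro k
      have hmemk : ∀ y : G, y ∈ R.map (MulAut.conj k).toMonoidHom ↔ ∃ r ∈ R, k * r * k⁻¹ = y := by
        intro y
        rw [Subgroup.mem_map]
        simp only [MulEquiv.coe_toMonoidHom, MulAut.conj_apply]
      refine ⟨?_, ?_, ?_, ?_⟩
      · intro y hy
        obtain ⟨r, hr, rfl⟩ := (hmemk y).mp hy
        exact hNn.conj_mem r (hRN.le hr) k
      · intro n hn y hy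
        obtain ⟨r, hr, rfl⟩ := (hmemk y).mp hy
        rw [hmemk]
        refine ⟨(k⁻¹ * n * k) * r * (k⁻¹ * n * k)⁻¹, ?_, by group⟩
        apply hRN.conj _ _ r hr
        have := hNn.conj_mem n hn k⁻¹
        simpa using this
      · intro x y
        obtain ⟨r, hr, hrx⟩ := hRN.trans (k⁻¹ • x) (k⁻¹ • y)
        refine ⟨k * r * k⁻¹, (hmemk _).mpr ⟨r, hr, rfl⟩, ?_⟩
        rw [mul_smul, mul_smul, hrx, smul_inv_smul]
      · intro y hy x hx
        obtain ⟨r, hr, rfl⟩ := (hmemk y).mp hy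
        rw [mul_smul, mul_smul] at hx
        have h1 : r • (k⁻¹ • x) = k⁻¹ • x := (smul_eq_iff_eq_inv_smul _).mp hx
        rw [hRN.semi r hr _ h1]
        group
    have hnorm : R.Normal := by
      constructor
      intro r hr k
      have heq := RegNormalIn.unique hN2 h3 hab' hcb hca (hconjR k) hRN
      rw [← heq, Subgroup.mem_map]
      exact ⟨r, hr, by simp [MulAut.conj_apply]⟩
    haveI : IsPretransitive R Ω := ⟨fun x y => by
      obtain ⟨r, hr, h⟩ := hRN.trans x y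
      exact ⟨⟨r, hr⟩, h⟩⟩
    obtain ⟨a₁, ha₁⟩ := hreg R hnorm inferInstance
    have := (Subgroup.eq_bot_iff_forall _).not.mp ha₁
    push Not at this
    obtain ⟨x, hx, hx1⟩ := this
    rw [mem_stabilizer_iff] at hx
    exact hx1 (Subtype.ext (hRN.semi x.1 x.2 a₁ hx))

end Cfsg.Agent.S0339
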