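import Mathlib
import Cfsg.Statements.S0338
import Cfsg.Agent.S0339
import Cfsg.Agent.S0740

set_option autoImplicit false
open Cfsg

namespace Cfsg.Agent.S0338

open MulAction Cfsg.Agent.helper17.Zass

theorem result {G Ω : Type*} [Group G] [MulAction G Ω] [Fintype Ω]
    (hZ : Cfsg.IsZassenhausGroup G Ω) (hodd : Odd (Fintype.card Ω)) : IsSimpleGroup G := by
  classical
  have hZ' := hZ
  obtain ⟨hfaith, h2t, h3, ⟨g₀, hg₀, a, b, hab, hga, hgb⟩, hreg⟩ := hZ'
  haveI : Finite G := finite_of_faithful (Ω := Ω)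
  haveI : Fintype G := Fintype.ofFinite G
  haveI : Nontrivial G := ⟨⟨g₀, 1, hg₀⟩⟩
  refine ⟨fun N hNn => ?_⟩
  by_cases hN : N = ⊥
  · exact Or.inl hN
  right
  haveI := hNn
  have hZN : Cfsg.IsZassenhausGroup N Ω := Cfsg.Agent.S0339.result hZ N hN
  obtain ⟨⟨s, hs2, hsa, hsb⟩, _, _⟩ := Cfsg.Agent.S0740.result hZN hab
  obtain ⟨_, hpart2, _⟩ := Cfsg.Agent.S0740.result hZ hab
  set t : G := (s : G) with ht
  have htN : t ∈ N := s.2
  have hto : orderOf t = 2 := by rw [ht, Subgroup.orderOf_coe]; exact hs2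
  have hta : t • a = b := hsa
  have htb : t • b = a := hsb
  obtain ⟨ht1, ht2⟩ := (Cfsg.Agent.S0740.orderOf_two_iff t).mp hto
  have hfix := (hpart2 t hto hta htb).1 hodd
  rw [Nat.card_eq_one_iff_unique] at hfix
  obtain ⟨hsub, ⟨⟨c, hc⟩⟩⟩ := hfix
  rw [mem_fixedBy] at hc
  have hcuniq : ∀ x : Ω, t • x = x → x = c := by
    intro x hx
    have := hsub.elim (⟨x, hx⟩ : fixedBy Ω t) ⟨c, hc⟩
    exact congrArg Subtype.val this
  have hca : a ≠ c := by
    intro h
    rw [← h, hta] at hc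
    exact hab hc.symm
  have hcb : b ≠ c := by
    intro h
    rw [← h, htb] at hc
    exact hab hc
  have htinv : t⁻¹ = t := inv_eq_of_mul_eq_one_left ht2
  -- the two-point stabiliser
  let HF : Finset G := Finset.univ.filter (fun g => g • a = a ∧ g • b = b)
  have hmemHF : ∀ g, g ∈ HF ↔ g • a = a ∧ g • b = b := by intro g; simp [HF]
  have hinj : Set.InjOn (fun h : G => h⁻¹ * t * h * t⁻¹) (HF : Set G) := by
    intro h hh h' hh' heq
    rw [Finset.mem_coe, hmemHF] at hh hh'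
    have heq' : h⁻¹ * t * h * t⁻¹ = h'⁻¹ * t * h' * t⁻¹ := heq
    have h1 : h⁻¹ * t * h = h'⁻¹ * t * h' := mul_right_cancel heq'
    -- z = h' * h⁻¹ commutes with t
    have hz : (h' * h⁻¹) * t = t * (h' * h⁻¹) := by
      have : h' * (h⁻¹ * t * h) * h⁻¹ = h' * (h'⁻¹ * t * h') * h⁻¹ := by rw [h1]
      calc (h' * h⁻¹) * t = h' * (h⁻¹ * t * h) * h⁻¹ := by group
        _ = h' * (h'⁻¹ * t * h') * h⁻¹ := this
        _ = t * (h' * h⁻¹) := by group
    have hza : (h' * h⁻¹) • a = a := by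
      rw [mul_smul, inv_smul_eq_iff.mpr hh.1.symm, hh'.1]
    have hzb : (h' * h⁻¹) • b = b := by
      rw [mul_smul, inv_smul_eq_iff.mpr hh.2.symm, hh'.2]
    have hzc : (h' * h⁻¹) • c = c := by
      apply hcuniq
      rw [← mul_smul, ← hz, mul_smul, hc]
    have hz1 : h' * h⁻¹ = 1 := h3 _ a b c hab hcb hca hza hzb hzc
    exact (mul_inv_eq_one.mp hz1).symm
  have hmaps : ∀ h ∈ HF, (fun h : G => h⁻¹ * t * h * t⁻¹) h ∈ HF.filter (fun g => g ∈ N) := by
    intro h hh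
    rw [hmemHF] at hh
    rw [Finset.mem_filter, hmemHF]
    have hia : h⁻¹ • a = a := inv_smul_eq_iff.mpr hh.1.symm
    have hib : h⁻¹ • b = b := inv_smul_eq_iff.mpr hh.2.symm
    refine ⟨⟨?_, ?_⟩, ?_⟩
    · show (h⁻¹ * t * h * t⁻¹) • a = a
      rw [htinv, mul_smul, mul_smul, mul_smul, hta, hh.2, htb, hia]
    · show (h⁻¹ * t * h * t⁻¹) • b = b
      rw [htinv, mul_smul, mul_smul, mul_smul, htb, hh.1, hta, hib]
    · show h⁻¹ * t * h * t⁻¹ ∈ N
      apply N.mul_mem _ (N.inv_mem htN)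
      have := hNn.conj_mem t htN h⁻¹
      simpa using this
  have hcard := Finset.card_le_card_of_injOn _ hmaps hinj
  have hfeq : HF.filter (fun g => g ∈ N) = HF :=
    Finset.eq_of_subset_of_card_le (Finset.filter_subset _ _) hcard
  have hHN : ∀ g : G, g • a = a → g • b = b → g ∈ N := by
    intro g h1 h2
    have : g ∈ HF.filter (fun g => g ∈ N) := by
      rw [hfeq, hmemHF]; exact ⟨h1, h2⟩
    exact (Finset.mem_filter.mp this).2
  -- N is 2-transitive
  have h2 : ∀ {a b c d : Ω}, a ≠ b → c ≠ d → ∃ g : G, g • a = c ∧ g • b = d :=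
    fun {a b c d} hab hcd => MulAction.is_two_pretransitive_iff.mp h2t hab hcd
  obtain ⟨_, hN2⟩ := normal_two_trans h2 h3 hreg hab N hN
  rw [eq_top_iff]
  intro g _
  have hgab : g • a ≠ g • b := fun h => hab (smul_left_cancel g h)
  obtain ⟨n, hn, hna, hnb⟩ := hN2 hab hgab
  have h1 : n⁻¹ * g ∈ N := by
    apply hHN
    · rw [mul_smul, inv_smul_eq_iff, hna]
    · rw [mul_smul, inv_smul_eq_iff, hnb]
  have : g = n * (n⁻¹ * g) := by group
  rw [this]
  exact N.mul_mem hn h1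

end Cfsg.Agent.S0338
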