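import Mathlib
import Cfsg.Statements.S0350
import Cfsg.Agent.Lib_helper2_Steiner

set_option autoImplicit false
open Cfsg

namespace Cfsg.Agent.S0350

open Cfsg.Agent.helper2

theorem result {α : Type*} [Fintype α] [DecidableEq α] {t k : ℕ} {B : Set (Finset α)} (hB : Cfsg.IsSteinerSystem t k B) : B.ncard * Nat.choose k t = Nat.choose (Fintype.card α) t := by
  have h := St.master hB (∅ : Finset α) (i := 0) (Nat.zero_le t)
  have h1 : ∑ d ∈ St.blocks B, ((d ∩ (∅ : Finset α)).card.choose 0) = (St.blocks B).card := by simp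
  rw [h1] at h
  rw [St.ncard_eq]
  simpa using h

end Cfsg.Agent.S0350
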