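import Mathlib
import Cfsg.Statements.S0351
import Cfsg.Agent.Lib_helper2_Steiner

set_option autoImplicit false
open Cfsg

namespace Cfsg.Agent.S0351

open Cfsg.Agent.helper2

theorem result {α : Type*} [Fintype α] [DecidableEq α] {t k : ℕ} {B : Set (Finset α)} (hB : Cfsg.IsSteinerSystem (t + 1) (k + 1) B) (p : α) : Cfsg.IsSteinerSystem t k {b' : Finset {a : α // a ≠ p} | ∃ b ∈ B, p ∈ b ∧ b' = Finset.subtype (fun a => a ≠ p) b} := by
  constructor
  · rintro b' ⟨b, hb, hpb, rfl⟩
    rw [Finset.card_subtype]
    have hbk := hB.1 b hb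
    have : b.filter (fun a => a ≠ p) = b.erase p := by
      ext a
      simp [Finset.mem_erase, and_comm]
    rw [this, Finset.card_erase_of_mem hpb, hbk]
    rfl
  · intro s hs
    have hps : p ∉ s.map (Function.Embedding.subtype _) := by
      intro h
      rw [Finset.mem_map] at h
      obtain ⟨a, _, ha⟩ := h
      exact a.2 ha
    have hs' : (insert p (s.map (Function.Embedding.subtype _))).card = t + 1 := by
      rw [Finset.card_insert_of_notMem hps, Finset.card_map, hs]
    obtain ⟨b, ⟨hb, hsb⟩, huniq⟩ := hB.2 _ hs'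
    have hpb : p ∈ b := hsb (Finset.mem_insert_self _ _)
    refine ⟨Finset.subtype (fun a => a ≠ p) b, ⟨⟨b, hb, hpb, rfl⟩, ?_⟩, ?_⟩
    · intro a ha
      rw [Finset.mem_subtype]
      exact hsb (Finset.mem_insert_of_mem (Finset.mem_map_of_mem _ ha))
    · rintro b'' ⟨⟨b2, hb2, hpb2, rfl⟩, hsub⟩
      have : b2 = b := by
        apply huniq b2 ⟨hb2, ?_⟩
        intro a ha
        rcases Finset.mem_insert.mp ha with rfl | ha
        · exact hpb2
        · rw [Finset.mem_map] at ha
          obtain ⟨a', ha', rfl⟩ := ha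
          have := hsub ha'
          rwa [Finset.mem_subtype] at this
      rw [this]

end Cfsg.Agent.S0351
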