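import Mathlib
import Cfsg.Statements.S0353
import Cfsg.Agent.Lib_helper2_Steiner
import Cfsg.Agent.S0352

set_option autoImplicit false
open Cfsg

namespace Cfsg.Agent.S0353

open Cfsg.Agent.helper2

theorem result {α : Type*} [Fintype α] [DecidableEq α] (hα : Fintype.card α = 24) {B : Set (Finset α)} (hB : Cfsg.IsSteinerSystem 5 8 B) {b c : Finset α} (hb : b ∈ B) (hc : c ∈ B) (h4 : (b ∩ c).card = 4) : symmDiff b c ∈ B := by
  have hbk : b.card = 8 := hB.1 b hb
  have hck : c.card = 8 := hB.1 c hc
  have hD : symmDiff b c = (b \ c) ∪ (c \ b) := rfl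
  have hdisj : Disjoint (b \ c) (c \ b) := disjoint_sdiff_sdiff
  have hDk : (symmDiff b c).card = 8 := by
    rw [hD, Finset.card_union_of_disjoint hdisj]
    have h1 := Finset.card_sdiff_add_card_inter b c
    have h2 := Finset.card_sdiff_add_card_inter c b
    rw [Finset.inter_comm c b] at h2
    omega
  have heven : ∀ d ∈ B, (d ∩ symmDiff b c).card % 2 = 0 := by
    intro d hd
    have hdb : (d ∩ b).card % 2 = 0 := by
      by_cases hdb : d = b
      · rw [hdb, Finset.inter_self, hbk]
      · rcases Cfsg.Agent.S0352.result hα hB hd hb hdb with h | h | h <;> rw [h]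
    have hdc : (d ∩ c).card % 2 = 0 := by
      by_cases hdc : d = c
      · rw [hdc, Finset.inter_self, hck]
      · rcases Cfsg.Agent.S0352.result hα hB hd hc hdc with h | h | h <;> rw [h]
    have e1 : (d ∩ symmDiff b c).card = (d ∩ (b \ c)).card + (d ∩ (c \ b)).card := by
      rw [hD, Finset.inter_union_distrib_left, Finset.card_union_of_disjoint]
      exact Finset.disjoint_of_subset_left Finset.inter_subset_right
        (Finset.disjoint_of_subset_right Finset.inter_subset_right hdisj)
    have e2 : (d ∩ (b \ c)).card + ((d ∩ b) ∩ c).card = (d ∩ b).card := by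
      have := Finset.card_sdiff_add_card_inter (d ∩ b) c
      rwa [Finset.inter_sdiff_assoc] at this
    have e3 : (d ∩ (c \ b)).card + ((d ∩ c) ∩ b).card = (d ∩ c).card := by
      have := Finset.card_sdiff_add_card_inter (d ∩ c) b
      rwa [Finset.inter_sdiff_assoc] at this
    have e4 : (d ∩ c) ∩ b = (d ∩ b) ∩ c := Finset.inter_right_comm d c b
    rw [e4] at e3
    omega
  have M1 := St.moment_val hB (symmDiff b c) (i := 1) (by norm_num) 2024
    (by rw [hDk, hα]; decide) (by decide)
  have M2 := St.moment_val hB (symmDiff b c) (i := 2) (by norm_num) 2156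
    (by rw [hDk, hα]; decide) (by decide)
  have M3 := St.moment_val hB (symmDiff b c) (i := 3) (by norm_num) 1176
    (by rw [hDk, hα]; decide) (by decide)
  have M4 := St.moment_val hB (symmDiff b c) (i := 4) (by norm_num) 350
    (by rw [hDk, hα]; decide) (by decide)
  have hp : ∀ j : ℕ, j ≤ 8 → (((j:ℤ) * ((j:ℤ) - 2) * ((j:ℤ) - 4) * ((j:ℤ) - 6))
      = -15 * (j.choose 1 : ℤ) + 30 * (j.choose 2 : ℤ) - 36 * (j.choose 3 : ℤ)
        + 24 * (j.choose 4 : ℤ)) := by decide
  have hsum : ∑ d ∈ St.blocks B, ((((d ∩ symmDiff b c).card : ℤ))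
      * (((d ∩ symmDiff b c).card : ℤ) - 2) * (((d ∩ symmDiff b c).card : ℤ) - 4)
      * (((d ∩ symmDiff b c).card : ℤ) - 6)) = 384 := by
    have h1 : ∀ d ∈ St.blocks B, ((((d ∩ symmDiff b c).card : ℤ))
        * (((d ∩ symmDiff b c).card : ℤ) - 2) * (((d ∩ symmDiff b c).card : ℤ) - 4)
        * (((d ∩ symmDiff b c).card : ℤ) - 6))
        = -15 * ((d ∩ symmDiff b c).card.choose 1 : ℤ)
          + 30 * ((d ∩ symmDiff b c).card.choose 2 : ℤ)
          - 36 * ((d ∩ symmDiff b c).card.choose 3 : ℤ)
          + 24 * ((d ∩ symmDiff b c).card.choose 4 : ℤ) := by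
      intro d _
      exact hp _ (by rw [← hDk]; exact St.inter_card_le d _)
    rw [Finset.sum_congr rfl h1]
    simp only [Finset.sum_add_distrib, Finset.sum_sub_distrib, ← Finset.mul_sum]
    rw [M1, M2, M3, M4]
    norm_num
  by_contra hne
  have hzero : ∀ d ∈ St.blocks B, ((((d ∩ symmDiff b c).card : ℤ))
      * (((d ∩ symmDiff b c).card : ℤ) - 2) * (((d ∩ symmDiff b c).card : ℤ) - 4)
      * (((d ∩ symmDiff b c).card : ℤ) - 6)) = 0 := by
    intro d hd
    have hle : (d ∩ symmDiff b c).card ≤ 8 := by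
      rw [← hDk]
      exact St.inter_card_le d _
    have hev := heven d (St.mem_blocks.mp hd)
    have hne8 : (d ∩ symmDiff b c).card ≠ 8 := by
      intro h8
      apply hne
      have hsub : d ∩ symmDiff b c = symmDiff b c :=
        Finset.eq_of_subset_of_card_le Finset.inter_subset_right (by rw [h8, hDk])
      have hDd : symmDiff b c ⊆ d := by
        rw [← hsub]
        exact Finset.inter_subset_left
      have hdk : d.card = 8 := hB.1 d (St.mem_blocks.mp hd)
      have : symmDiff b c = d := Finset.eq_of_subset_of_card_le hDd (by rw [hdk, hDk])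
      rw [this]
      exact St.mem_blocks.mp hd
    have : ∀ j : ℕ, j ≤ 8 → j % 2 = 0 → j ≠ 8 →
        (((j:ℤ) * ((j:ℤ) - 2) * ((j:ℤ) - 4) * ((j:ℤ) - 6))) = 0 := by decide
    exact this _ hle hev hne8
  rw [Finset.sum_eq_zero hzero] at hsum
  norm_num at hsum

end Cfsg.Agent.S0353
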