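import Mathlib
import Cfsg.Statements.S0354
import Cfsg.Agent.Lib_helper2_Steiner
import Cfsg.Agent.S0352

set_option autoImplicit false
open Cfsg

namespace Cfsg.Agent.S0354

open Cfsg.Agent.helper2

theorem result {α : Type*} [Fintype α] [DecidableEq α] (hα : Fintype.card α = 24) {B : Set (Finset α)} (hB : Cfsg.IsSteinerSystem 5 8 B) {b : Finset α} (hb : b ∈ B) : {c : Finset α | c ∈ B ∧ Disjoint b c}.ncard = 30 := by
  have hbk : b.card = 8 := hB.1 b hb
  have M0 := St.moment_val hB b (i := 0) (by norm_num) 759 (by rw [hbk, hα]; decide) (by decide)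
  have M1 := St.moment_val hB b (i := 1) (by norm_num) 2024 (by rw [hbk, hα]; decide) (by decide)
  have M2 := St.moment_val hB b (i := 2) (by norm_num) 2156 (by rw [hbk, hα]; decide) (by decide)
  have M3 := St.moment_val hB b (i := 3) (by norm_num) 1176 (by rw [hbk, hα]; decide) (by decide)
  have hp : ∀ j : ℕ, j ≤ 8 → ((((j:ℤ) - 2) * ((j:ℤ) - 4) * ((j:ℤ) - 8))
      = -64 * (j.choose 0 : ℤ) + 43 * (j.choose 1 : ℤ) - 22 * (j.choose 2 : ℤ)
        + 6 * (j.choose 3 : ℤ)) := by decide
  have hsum : ∑ d ∈ St.blocks B, ((((d ∩ b).card : ℤ) - 2)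
      * (((d ∩ b).card : ℤ) - 4) * (((d ∩ b).card : ℤ) - 8)) = -1920 := by
    have h1 : ∀ d ∈ St.blocks B, ((((d ∩ b).card : ℤ) - 2)
        * (((d ∩ b).card : ℤ) - 4) * (((d ∩ b).card : ℤ) - 8))
        = -64 * ((d ∩ b).card.choose 0 : ℤ) + 43 * ((d ∩ b).card.choose 1 : ℤ)
          - 22 * ((d ∩ b).card.choose 2 : ℤ) + 6 * ((d ∩ b).card.choose 3 : ℤ) := by
      intro d _
      exact hp _ (by rw [← hbk]; exact St.inter_card_le d b)
    rw [Finset.sum_congr rfl h1]
    simp only [Finset.sum_add_distrib, Finset.sum_sub_distrib, ← Finset.mul_sum]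
    rw [M0, M1, M2, M3]
    norm_num
  have hterm : ∀ d ∈ St.blocks B, ((((d ∩ b).card : ℤ) - 2)
      * (((d ∩ b).card : ℤ) - 4) * (((d ∩ b).card : ℤ) - 8))
      = if Disjoint b d then (-64 : ℤ) else 0 := by
    intro d hd
    by_cases hdb : d = b
    · have hnd : ¬ Disjoint b d := by
        rw [hdb, disjoint_self]
        intro hbot
        rw [Finset.bot_eq_empty] at hbot
        rw [hbot] at hbk
        simp at hbk
      rw [if_neg hnd, hdb, Finset.inter_self, hbk]
      norm_num
    · have h3 := Cfsg.Agent.S0352.result hα hB (St.mem_blocks.mp hd) hb hdb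
      by_cases hdis : Disjoint b d
      · rw [if_pos hdis]
        have : d ∩ b = ∅ := by
          rw [Finset.inter_comm]
          exact Finset.disjoint_iff_inter_eq_empty.mp hdis
        rw [this]
        norm_num
      · rw [if_neg hdis]
        have hne0 : (d ∩ b).card ≠ 0 := by
          intro h0
          apply hdis
          rw [Finset.disjoint_iff_inter_eq_empty, Finset.inter_comm]
          exact Finset.card_eq_zero.mp h0
        rcases h3 with h3 | h3 | h3
        · exact absurd h3 hne0
        · rw [h3]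
          norm_num
        · rw [h3]
          norm_num
  rw [Finset.sum_congr rfl hterm, ← Finset.sum_filter, Finset.sum_const] at hsum
  have hset : {c : Finset α | c ∈ B ∧ Disjoint b c}
      = ↑((St.blocks B).filter (fun d => Disjoint b d)) := by
    ext c
    simp [St.mem_blocks]
  rw [hset, Set.ncard_coe_finset]
  have h5 : (((St.blocks B).filter (fun d => Disjoint b d)).card : ℤ) * (-64) = -1920 := by
    rw [← hsum]
    simp
  omega

end Cfsg.Agent.S0354
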