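import Mathlib
import Cfsg.Statements.S0356
import Cfsg.Agent.Lib_helper2_Steiner

set_option autoImplicit false
open Cfsg

namespace Cfsg.Agent.S0356

open Cfsg.Agent.helper2

theorem result {α : Type*} [Fintype α] [DecidableEq α] (hα : Fintype.card α = 22) {B : Set (Finset α)} (hB : Cfsg.IsSteinerSystem 3 6 B) {b c : Finset α} (hb : b ∈ B) (hc : c ∈ B) (hbc : b ≠ c) : (b ∩ c).card = 0 ∨ (b ∩ c).card = 2 := by
  have hbk : b.card = 6 := hB.1 b hb
  have M1 := St.moment_val hB b (i := 1) (by norm_num) 126 (by rw [hbk, hα]; decide) (by decide)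
  have M2 := St.moment_val hB b (i := 2) (by norm_num) 75 (by rw [hbk, hα]; decide) (by decide)
  have M3 := St.moment_val hB b (i := 3) (by norm_num) 20 (by rw [hbk, hα]; decide) (by decide)
  have hp : ∀ j : ℕ, j ≤ 6 → (((j:ℤ) * ((j:ℤ) - 2) * ((j:ℤ) - 6))
      = 5 * (j.choose 1 : ℤ) - 10 * (j.choose 2 : ℤ) + 6 * (j.choose 3 : ℤ)) := by decide
  have hsum : ∑ d ∈ St.blocks B, ((((d ∩ b).card : ℤ))
      * (((d ∩ b).card : ℤ) - 2) * (((d ∩ b).card : ℤ) - 6)) = 0 := by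
    have h1 : ∀ d ∈ St.blocks B, ((((d ∩ b).card : ℤ))
        * (((d ∩ b).card : ℤ) - 2) * (((d ∩ b).card : ℤ) - 6))
        = 5 * ((d ∩ b).card.choose 1 : ℤ) - 10 * ((d ∩ b).card.choose 2 : ℤ)
          + 6 * ((d ∩ b).card.choose 3 : ℤ) := by
      intro d _
      exact hp _ (by rw [← hbk]; exact St.inter_card_le d b)
    rw [Finset.sum_congr rfl h1]
    simp only [Finset.sum_add_distrib, Finset.sum_sub_distrib, ← Finset.mul_sum]
    rw [M1, M2, M3]
    norm_num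
  have hnonneg : ∀ d ∈ St.blocks B, 0 ≤ ((((d ∩ b).card : ℤ))
      * (((d ∩ b).card : ℤ) - 2) * (((d ∩ b).card : ℤ) - 6)) := by
    intro d hd
    by_cases hdb : d = b
    · rw [hdb, Finset.inter_self, hbk]
      norm_num
    · have hlt := St.inter_card_lt hB (St.mem_blocks.mp hd) hb hdb
      have : ∀ j : ℕ, j < 3 → 0 ≤ (((j:ℤ) * ((j:ℤ) - 2) * ((j:ℤ) - 6))) := by
        decide
      exact this _ hlt
  have hc0 := (Finset.sum_eq_zero_iff_of_nonneg hnonneg).mp hsum c (St.mem_blocks.mpr hc)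
  have hlt := St.inter_card_lt hB hc hb (Ne.symm hbc)
  have hfin : ∀ j : ℕ, j < 3 → (((j:ℤ) * ((j:ℤ) - 2) * ((j:ℤ) - 6))) = 0 →
      j = 0 ∨ j = 2 := by decide
  rw [Finset.inter_comm]
  exact hfin _ hlt hc0

end Cfsg.Agent.S0356
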