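import Mathlib
import Cfsg.Statements.S0358
import Cfsg.Agent.Lib_helper2_Golay2

set_option autoImplicit false
open Cfsg

namespace Cfsg.Agent.S0358

open Cfsg.Agent.helper2

theorem result : Module.finrank (ZMod 2) Cfsg.golayCode = 12 := by
  have hcard : Nat.card Cfsg.golayCode = 4096 := by
    have hset : (Cfsg.golayCode : Set (Cfsg.GolayPt → ZMod 2))
        = ↑(Finset.image (fun m => Golay.toWord (Golay.cw m)) (Finset.range 4096)) := by
      ext w
      rw [SetLike.mem_coe, Golay.mem_iff, Finset.mem_coe, Finset.mem_image]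
      constructor
      · rintro ⟨m, hm, rfl⟩
        exact ⟨m, Finset.mem_range.mpr hm, rfl⟩
      · rintro ⟨m, hm, rfl⟩
        exact ⟨m, Finset.mem_range.mp hm, rfl⟩
    have h1 : Nat.card Cfsg.golayCode
        = (Cfsg.golayCode : Set (Cfsg.GolayPt → ZMod 2)).ncard := rfl
    rw [h1, hset, Set.ncard_coe_finset, Finset.card_image_of_injOn, Finset.card_range]
    intro m hm m' hm' h
    rw [Finset.mem_coe, Finset.mem_range] at hm hm'
    exact Golay.cw_injOn hm hm' (Golay.toWord_inj_pts h)
  have h2 := Module.natCard_eq_pow_finrank (K := ZMod 2) (V := Cfsg.golayCode)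
  rw [hcard, Nat.card_zmod] at h2
  have h3 : (2 : ℕ) ^ 12 = 2 ^ Module.finrank (ZMod 2) Cfsg.golayCode := by
    rw [← h2]
    norm_num
  exact (Nat.pow_right_injective (le_refl 2) h3).symm

end Cfsg.Agent.S0358
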