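import Mathlib
import Cfsg.Statements.S0359
import Cfsg.Agent.Lib_helper2_Golay2

set_option autoImplicit false
open Cfsg

namespace Cfsg.Agent.S0359

open Cfsg.Agent.helper2

theorem result (w : Cfsg.GolayPt → ZMod 2) (hw : w ∈ Cfsg.golayCode) : hammingNorm w = 0 ∨ hammingNorm w = 8 ∨ hammingNorm w = 12 ∨ hammingNorm w = 16 ∨ hammingNorm w = 24 := by
  obtain ⟨m, hm, rfl⟩ := Golay.exists_of_mem hw
  rw [Golay.hammingNorm_toWord]
  exact Golay.weights m hm

end Cfsg.Agent.S0359
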