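import Mathlib
import Cfsg.Statements.S0360
import Cfsg.Agent.Lib_helper2_Golay2

set_option autoImplicit false
open Cfsg

namespace Cfsg.Agent.S0360

open Cfsg.Agent.helper2

theorem result : Cfsg.octads.ncard = 759 := by
  unfold Cfsg.octads
  rw [Golay.ncard_wordsOfWeight]
  exact Golay.count8

end Cfsg.Agent.S0360
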