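import Mathlib
import Cfsg.Statements.S0361
import Cfsg.Agent.Lib_helper2_Golay2

set_option autoImplicit false
open Cfsg

namespace Cfsg.Agent.S0361

open Cfsg.Agent.helper2

theorem result : Cfsg.dodecads.ncard = 2576 := by
  unfold Cfsg.dodecads
  rw [Golay.ncard_wordsOfWeight]
  exact Golay.count12

end Cfsg.Agent.S0361
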