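import Mathlib
import Cfsg.Statements.S0364
import Cfsg.Agent.Lib_helper2_M24b

set_option autoImplicit false
open Cfsg

namespace Cfsg.Agent.S0364

open Cfsg.Agent.helper2

theorem result : Nat.card Cfsg.M24 = 244823040 := by
  exact Golay.card_M24

end Cfsg.Agent.S0364
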