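import Mathlib
import Cfsg.Statements.S0365
import Cfsg.Agent.Lib_helper2_M24s0

set_option autoImplicit false
open Cfsg

namespace Cfsg.Agent.S0365

open Cfsg.Agent.helper2

open Cfsg.Agent.helper2.Golay Cfsg.Agent.helper27


theorem result : IsSimpleGroup Cfsg.M24 := by
  have h : GF 0 = M24 := by
    ext g
    rw [mem_GF]
    constructor
    · exact fun hg => hg.1
    · exact fun hg => ⟨hg, fun j hj => absurd hj (Nat.not_lt_zero j)⟩
  have := GF0_simple
  exact (MulEquiv.subgroupCongr h).symm.isSimpleGroup

end Cfsg.Agent.S0365
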