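import Mathlib
import Cfsg.Statements.S0367
import Cfsg.Agent.Lib_helper2_M24

set_option autoImplicit false
open scoped Pointwise
open Cfsg

namespace Cfsg.Agent.S0367

open Cfsg.Agent.helper2

/-- An embedding of `Fin 5` into a finset with 8 elements. -/
theorem exists_emb (o : Finset GolayPt) (ho : o.card = 8) :
    ∃ x : Fin 5 ↪ GolayPt, ∀ i, x i ∈ o := by
  let e : o ≃ Fin 8 := Finset.equivFinOfCardEq ho
  refine ⟨(Fin.castLEEmb (by norm_num : 5 ≤ 8)).trans
    (e.symm.toEmbedding.trans (Function.Embedding.subtype _)), ?_⟩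
  intro i
  exact (e.symm _).2

theorem smul_mem_octads (g : M24) {o : Finset GolayPt} (ho : o ∈ octads) : g • o ∈ octads := by
  obtain ⟨hs, hc⟩ := ho
  have hg : (g : Equiv.Perm GolayPt) • supports (golayCode : Set (GolayPt → ZMod 2))
      = supports (golayCode : Set (GolayPt → ZMod 2)) := MulAction.mem_stabilizer_iff.mp g.2
  refine ⟨?_, ?_⟩
  · rw [← hg]
    exact Set.smul_mem_smul_set hs
  · show ((g : Equiv.Perm GolayPt) • o).card = 8
    rw [Finset.card_smul_finset]
    exact hc

theorem result (o o' : Finset Cfsg.GolayPt) (ho : o ∈ Cfsg.octads) (ho' : o' ∈ Cfsg.octads) : ∃ g : Cfsg.M24, g • o = o' := by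
  have hSt := Golay.octads_steiner
  obtain ⟨x, hx⟩ := exists_emb o (hSt.1 o ho)
  obtain ⟨y, hy⟩ := exists_emb o' (hSt.1 o' ho')
  have := Golay.m24_five_transitive
  obtain ⟨g, hg⟩ := MulAction.exists_smul_eq M24 x y
  refine ⟨g, ?_⟩
  have hs : (Finset.univ.map y).card = 5 := by
    rw [Finset.card_map, Finset.card_univ, Fintype.card_fin]
  obtain ⟨b, _, huniq⟩ := hSt.2 _ hs
  have h1 : g • o = b := by
    apply huniq
    refine ⟨smul_mem_octads g ho, ?_⟩
    intro p hp
    rw [Finset.mem_map] at hp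
    obtain ⟨i, _, rfl⟩ := hp
    rw [← hg]
    show g • x i ∈ g • o
    exact Finset.smul_mem_smul_finset (hx i)
  have h2 : o' = b := by
    apply huniq
    refine ⟨ho', ?_⟩
    intro p hp
    rw [Finset.mem_map] at hp
    obtain ⟨i, _, rfl⟩ := hp
    exact hy i
  rw [h1, h2]

end Cfsg.Agent.S0367
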