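import Mathlib
import Cfsg.Statements.S0370
import Cfsg.Agent.Lib_helper27_Golay

set_option autoImplicit false
open Cfsg

namespace Cfsg.Agent.S0370


theorem result : Equiv.optionCongr (Equiv.addRight (1 : ZMod 23)) ∈ Cfsg.M24 := by
  have : Equiv.optionCongr (Equiv.addRight (1 : ZMod 23)) = Cfsg.Agent.helper27.gshift := by
    ext p
    cases p with
    | none => rfl
    | some x => rfl
  rw [this]
  exact Cfsg.Agent.helper27.gshift_mem_M24

end Cfsg.Agent.S0370
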