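import Mathlib
import Cfsg.Statements.S0371
import Cfsg.Agent.Lib_helper27_Golay

set_option autoImplicit false
open scoped Pointwise
open Cfsg

namespace Cfsg.Agent.S0371

open Cfsg.Agent.helper27

theorem key (v : (ZMod 23)ˣ) (s : (ZMod 23)ˣ) (hv : v = s * s) (t : ZMod 23) :
    wperm (Equiv.optionCongr (Units.mulLeft v)) (qrWord t) = qrWord ((v : ZMod 23) * t) := by
  funext p
  cases p with
  | none => rfl
  | some x =>
    have h1 : (Equiv.optionCongr (Units.mulLeft v)).symm (some x)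
        = some (((v⁻¹ : (ZMod 23)ˣ) : ZMod 23) * x) := rfl
    unfold wperm
    rw [h1]
    show (if ∃ r : ZMod 23, ((v⁻¹ : (ZMod 23)ˣ) : ZMod 23) * x = r ^ 2 + t then (1 : ZMod 2) else 0)
      = if ∃ r : ZMod 23, x = r ^ 2 + (v : ZMod 23) * t then 1 else 0
    have hiff : (∃ r : ZMod 23, ((v⁻¹ : (ZMod 23)ˣ) : ZMod 23) * x = r ^ 2 + t)
        ↔ ∃ r : ZMod 23, x = r ^ 2 + (v : ZMod 23) * t := by
      constructor
      · rintro ⟨r, hr⟩
        refine ⟨(s : ZMod 23) * r, ?_⟩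
        have h2 : x = (v : ZMod 23) * (((v⁻¹ : (ZMod 23)ˣ) : ZMod 23) * x) := by
          rw [← mul_assoc, Units.mul_inv, one_mul]
        rw [h2, hr, hv]
        push_cast
        ring
      · rintro ⟨r, hr⟩
        refine ⟨((s⁻¹ : (ZMod 23)ˣ) : ZMod 23) * r, ?_⟩
        have hvi : ((v⁻¹ : (ZMod 23)ˣ) : ZMod 23)
            = ((s⁻¹ : (ZMod 23)ˣ) : ZMod 23) * ((s⁻¹ : (ZMod 23)ˣ) : ZMod 23) := by
          rw [hv, mul_inv, Units.val_mul]
        have hvv : ((v⁻¹ : (ZMod 23)ˣ) : ZMod 23) * (v : ZMod 23) = 1 := Units.inv_mul v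
        rw [hr, mul_add, ← mul_assoc, hvv, one_mul, hvi]
        ring
    rw [if_congr hiff rfl rfl]

theorem preserves (v : (ZMod 23)ˣ) (hv : IsSquare v) :
    ∀ w ∈ golayCode, wperm (Equiv.optionCongr (Units.mulLeft v)) w ∈ golayCode := by
  obtain ⟨s, hs⟩ := hv
  apply wperm_mem_of_gens
  intro t
  rw [key v s hs t]
  exact qrWord_mem_golayCode _

theorem result (u : (ZMod 23)ˣ) (hu : IsSquare u) : Equiv.optionCongr (Units.mulLeft u) ∈ Cfsg.M24 := by
  apply mem_M24_of_preserves _ (preserves u hu)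
  have hinv : (Equiv.optionCongr (Units.mulLeft u))⁻¹ = Equiv.optionCongr (Units.mulLeft u⁻¹) := by
    ext p
    cases p with
    | none => rfl
    | some x => rfl
  rw [hinv]
  apply preserves
  obtain ⟨s, hs⟩ := hu
  exact ⟨s⁻¹, by rw [hs, mul_inv]⟩

end Cfsg.Agent.S0371
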