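import Mathlib
import Cfsg.Statements.S0374
import Cfsg.Agent.Lib_helper2_M24k

set_option autoImplicit false
open Cfsg

namespace Cfsg.Agent.S0374

open Cfsg.Agent.helper2

theorem result : Subgroup.closure {Equiv.optionCongr (Equiv.addRight (1 : ZMod 23)), Cfsg.projInv, Cfsg.cubeTwist} = Cfsg.M24 := by
  exact Golay.closure_eq_M24

end Cfsg.Agent.S0374
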