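import Mathlib
import Cfsg.Statements.S0376
import Cfsg.Agent.Lib_helper2_M24c

set_option autoImplicit false
open Cfsg

namespace Cfsg.Agent.S0376

open Cfsg.Agent.helper2

theorem result (p : Cfsg.GolayPt) : Nat.card (MulAction.stabilizer Cfsg.M24 p) = 10200960 := by
  exact Golay.card_stab_point p

end Cfsg.Agent.S0376
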