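import Mathlib
import Cfsg.Statements.S0377
import Cfsg.Agent.Lib_helper2_M24s1

set_option autoImplicit false
open Cfsg

namespace Cfsg.Agent.S0377

open Cfsg.Agent.helper2

open Cfsg.Agent.helper2.Golay Cfsg.Agent.helper27


theorem result (p : Cfsg.GolayPt) : IsSimpleGroup (MulAction.stabilizer Cfsg.M24 p) := by
  obtain ⟨h, hh, hp, -⟩ := exists_map_two (p := p) (q := if p = pt 23 then pt 0 else pt 23)
    (p' := pt 23) (q' := pt 0) (by split_ifs with h1 <;> [(rw [h1]; decide); exact h1])
    (by decide)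
  have e := conjIso h hh (MulAction.stabilizer M24 p) (GF 1) (GF_le_M24 1) (by
    intro g
    rw [MulAction.mem_stabilizer_iff, mem_GF]
    have hsm : g • p = (g : Equiv.Perm GolayPt) p := rfl
    rw [hsm]
    constructor
    · intro hg
      refine ⟨Subgroup.mul_mem _ (Subgroup.mul_mem _ hh g.2) (Subgroup.inv_mem _ hh),
        fun j hj => ?_⟩
      interval_cases j
      show (h * (g : Equiv.Perm GolayPt) * h⁻¹) (pt 23) = pt 23
      rw [Equiv.Perm.mul_apply, Equiv.Perm.mul_apply, ← hp, perm_inv_apply, hg]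
    · rintro ⟨_, hfix⟩
      have h1 : (h * (g : Equiv.Perm GolayPt) * h⁻¹) (pt 23) = pt 23 := hfix 0 (by norm_num)
      rw [Equiv.Perm.mul_apply, Equiv.Perm.mul_apply, ← hp, perm_inv_apply] at h1
      exact h.injective h1)
  have := GF1_simple
  exact e.isSimpleGroup

end Cfsg.Agent.S0377
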