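import Mathlib
import Cfsg.Statements.S0379
import Cfsg.Agent.Lib_helper2_M24s2

set_option autoImplicit false
open Cfsg

namespace Cfsg.Agent.S0379

open Cfsg.Agent.helper2

open Cfsg.Agent.helper2.Golay Cfsg.Agent.helper27


theorem result (p q : Cfsg.GolayPt) (hpq : p ≠ q) : IsSimpleGroup ↥(MulAction.stabilizer Cfsg.M24 p ⊓ MulAction.stabilizer Cfsg.M24 q) := by
  obtain ⟨h, hh, hp, hq⟩ := exists_map_two hpq (show pt 23 ≠ pt 0 by decide)
  have e := conjIso h hh (MulAction.stabilizer M24 p ⊓ MulAction.stabilizer M24 q) (GF 2)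
    (GF_le_M24 2) (by
    intro g
    rw [Subgroup.mem_inf, MulAction.mem_stabilizer_iff, MulAction.mem_stabilizer_iff, mem_GF]
    have hsm : ∀ x : GolayPt, g • x = (g : Equiv.Perm GolayPt) x := fun _ => rfl
    rw [hsm, hsm]
    constructor
    · rintro ⟨hgp, hgq⟩
      refine ⟨Subgroup.mul_mem _ (Subgroup.mul_mem _ hh g.2) (Subgroup.inv_mem _ hh),
        fun j hj => ?_⟩
      interval_cases j
      · show (h * (g : Equiv.Perm GolayPt) * h⁻¹) (pt 23) = pt 23
        rw [Equiv.Perm.mul_apply, Equiv.Perm.mul_apply, ← hp, perm_inv_apply, hgp]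
      · show (h * (g : Equiv.Perm GolayPt) * h⁻¹) (pt 0) = pt 0
        rw [Equiv.Perm.mul_apply, Equiv.Perm.mul_apply, ← hq, perm_inv_apply, hgq]
    · rintro ⟨_, hfix⟩
      have h1 : (h * (g : Equiv.Perm GolayPt) * h⁻¹) (pt 23) = pt 23 := hfix 0 (by norm_num)
      have h2 : (h * (g : Equiv.Perm GolayPt) * h⁻¹) (pt 0) = pt 0 := hfix 1 (by norm_num)
      rw [Equiv.Perm.mul_apply, Equiv.Perm.mul_apply, ← hp, perm_inv_apply] at h1
      rw [Equiv.Perm.mul_apply, Equiv.Perm.mul_apply, ← hq, perm_inv_apply] at h2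
      exact ⟨h.injective h1, h.injective h2⟩)
  have := GF2_simple
  exact e.isSimpleGroup

end Cfsg.Agent.S0379
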