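import Mathlib
import Cfsg.Statements.S0384
import Cfsg.Agent.Lib_helper2_M24c

set_option autoImplicit false
open scoped Pointwise
open Cfsg

namespace Cfsg.Agent.S0384

open Cfsg.Agent.helper2

theorem result (d : Finset Cfsg.GolayPt) (hd : d ∈ Cfsg.dodecads) (x y : Fin 5 ↪ Cfsg.GolayPt) (hx : ∀ i, x i ∈ d) (hy : ∀ i, y i ∈ d) : ∃! g : MulAction.stabilizer Cfsg.M24 d, ∀ i, ((g : Cfsg.M24) : Equiv.Perm Cfsg.GolayPt) (x i) = y i := by
  obtain ⟨g, hg, hgd, hgx⟩ := Golay.dodecad_five_transitive hd hd x y hx hy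
  refine ⟨⟨⟨g, hg⟩, MulAction.mem_stabilizer_iff.mpr hgd⟩, hgx, ?_⟩
  intro k hk
  have h1 : ((k : M24) : Equiv.Perm GolayPt)⁻¹ * g = 1 := by
    apply Golay.dodecad_sharp hd x hx
      (Subgroup.mul_mem _ (Subgroup.inv_mem _ (k : M24).2) hg)
    · have hkd : ((k : M24) : Equiv.Perm GolayPt) • d = d := MulAction.mem_stabilizer_iff.mp k.2
      rw [mul_smul, hgd, inv_smul_eq_iff]
      exact hkd.symm
    · intro i
      rw [Equiv.Perm.mul_apply, hgx, Equiv.Perm.inv_eq_iff_eq, hk]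
  have h2 : ((k : M24) : Equiv.Perm GolayPt) = g := by
    have := congrArg (fun t => ((k : M24) : Equiv.Perm GolayPt) * t) h1
    simpa using this.symm
  exact Subtype.ext (Subtype.ext h2)

end Cfsg.Agent.S0384
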