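import Mathlib
import Cfsg.Statements.S0385
import Cfsg.Agent.Lib_helper2_Golay3

set_option autoImplicit false
open Cfsg

namespace Cfsg.Agent.S0385

open Cfsg.Agent.helper2

theorem result (d : Finset Cfsg.GolayPt) (hd : d ∈ Cfsg.dodecads) : Cfsg.IsSteinerSystem 5 6 {h : Finset {p : Cfsg.GolayPt // p ∈ d} | ∃ o ∈ Cfsg.octads, (o ∩ d).card = 6 ∧ h = Finset.subtype (fun p => p ∈ d) o} := by
  have hoct : Cfsg.octads = ↑(Golay.weightFinset 8) := Golay.wordsOfWeight_eq 8
  have hdod : Cfsg.dodecads = ↑(Golay.weightFinset 12) := Golay.wordsOfWeight_eq 12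
  have hd' : d ∈ Golay.weightFinset 12 := by
    rw [hdod] at hd
    exact hd
  have hSt := Golay.octads_steiner
  constructor
  · rintro h ⟨o, ho, h6, rfl⟩
    rw [Finset.card_subtype, Finset.filter_mem_eq_inter, h6]
  · intro s hs
    have hs' : (s.map (Function.Embedding.subtype _)).card = 5 := by rw [Finset.card_map, hs]
    obtain ⟨o, ⟨ho, hso⟩, huniq⟩ := hSt.2 _ hs'
    have ho' : o ∈ Golay.weightFinset 8 := by
      rw [hoct] at ho
      exact ho
    have hsd : s.map (Function.Embedding.subtype _) ⊆ d := by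
      intro p hp
      rw [Finset.mem_map] at hp
      obtain ⟨q, _, rfl⟩ := hp
      exact q.2
    have h6 : (o ∩ d).card = 6 := by
      have h1 : s.map (Function.Embedding.subtype _) ⊆ o ∩ d := Finset.subset_inter hso hsd
      have h2 := Finset.card_le_card h1
      rw [hs'] at h2
      rcases Golay.octad_dodecad_inter ho' hd' with h | h | h <;> omega
    refine ⟨Finset.subtype (fun p => p ∈ d) o, ⟨⟨o, ho, h6, rfl⟩, ?_⟩, ?_⟩
    · intro q hq
      rw [Finset.mem_subtype]
      exact hso (Finset.mem_map_of_mem _ hq)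
    · rintro h' ⟨⟨o2, ho2, _, rfl⟩, hsub⟩
      have : o2 = o := by
        apply huniq o2 ⟨ho2, ?_⟩
        intro p hp
        rw [Finset.mem_map] at hp
        obtain ⟨q, hq, rfl⟩ := hp
        have := hsub hq
        rwa [Finset.mem_subtype] at this
      rw [this]

end Cfsg.Agent.S0385
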