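import Mathlib
import Cfsg.Statements.S0386
import Cfsg.Agent.Lib_helper2_Golay3
import Cfsg.Agent.Lib_helper2_Steiner

set_option autoImplicit false
open Cfsg

namespace Cfsg.Agent.S0386

open Cfsg.Agent.helper2

theorem result (d : Finset Cfsg.GolayPt) (hd : d ∈ Cfsg.dodecads) : {o : Finset Cfsg.GolayPt | o ∈ Cfsg.octads ∧ (o ∩ d).card = 6}.ncard = 132 ∧ {o : Finset Cfsg.GolayPt | o ∈ Cfsg.octads ∧ (o ∩ d).card = 2}.ncard = 132 ∧ {o : Finset Cfsg.GolayPt | o ∈ Cfsg.octads ∧ (o ∩ d).card = 4}.ncard = 495 := by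
  have hoct : Cfsg.octads = ↑(Golay.weightFinset 8) := Golay.wordsOfWeight_eq 8
  have hdod : Cfsg.dodecads = ↑(Golay.weightFinset 12) := Golay.wordsOfWeight_eq 12
  have hd' : d ∈ Golay.weightFinset 12 := by
    rw [hdod] at hd
    exact hd
  have hSt := Golay.octads_steiner
  have hdk : d.card = 12 := Golay.card_of_mem_weightFinset hd'
  have hcard := Golay.card_golayPt
  have M0 := St.moment_val hSt d (i := 0) (by norm_num) 759 (by rw [hdk, hcard]; decide) (by decide)
  have M1 := St.moment_val hSt d (i := 1) (by norm_num) 3036 (by rw [hdk, hcard]; decide) (by decide)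
  have M2 := St.moment_val hSt d (i := 2) (by norm_num) 5082 (by rw [hdk, hcard]; decide) (by decide)
  have hj : ∀ o ∈ St.blocks Cfsg.octads,
      (o ∩ d).card = 2 ∨ (o ∩ d).card = 4 ∨ (o ∩ d).card = 6 := by
    intro o ho
    have ho' : o ∈ Golay.weightFinset 8 := by
      have := St.mem_blocks.mp ho
      rw [hoct] at this
      exact this
    exact Golay.octad_dodecad_inter ho' hd'
  have e0 : ∀ o ∈ St.blocks Cfsg.octads, (((o ∩ d).card.choose 0 : ℕ) : ℤ)
      = (if (o ∩ d).card = 2 then 1 else 0) + (if (o ∩ d).card = 4 then 1 else 0)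
        + (if (o ∩ d).card = 6 then 1 else 0) := by
    intro o ho
    rcases hj o ho with h | h | h <;> rw [h] <;> norm_num
  have e1 : ∀ o ∈ St.blocks Cfsg.octads, (((o ∩ d).card.choose 1 : ℕ) : ℤ)
      = 2 * (if (o ∩ d).card = 2 then 1 else 0) + 4 * (if (o ∩ d).card = 4 then 1 else 0)
        + 6 * (if (o ∩ d).card = 6 then 1 else 0) := by
    intro o ho
    rcases hj o ho with h | h | h <;> rw [h] <;> norm_num
  have e2 : ∀ o ∈ St.blocks Cfsg.octads, (((o ∩ d).card.choose 2 : ℕ) : ℤ)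
      = 1 * (if (o ∩ d).card = 2 then 1 else 0) + 6 * (if (o ∩ d).card = 4 then 1 else 0)
        + 15 * (if (o ∩ d).card = 6 then 1 else 0) := by
    intro o ho
    rcases hj o ho with h | h | h <;> rw [h] <;> norm_num [Nat.choose]
  rw [Finset.sum_congr rfl e0] at M0
  rw [Finset.sum_congr rfl e1] at M1
  rw [Finset.sum_congr rfl e2] at M2
  simp only [Finset.sum_add_distrib, ← Finset.mul_sum, Finset.sum_boole] at M0 M1 M2
  have hset : ∀ k : ℕ, {o : Finset Cfsg.GolayPt | o ∈ Cfsg.octads ∧ (o ∩ d).card = k}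
      = ↑((St.blocks Cfsg.octads).filter (fun o => (o ∩ d).card = k)) := by
    intro k
    ext o
    simp [St.mem_blocks]
  rw [hset 6, hset 2, hset 4, Set.ncard_coe_finset, Set.ncard_coe_finset, Set.ncard_coe_finset]
  refine ⟨?_, ?_, ?_⟩ <;> omega

end Cfsg.Agent.S0386
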