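import Cfsg.Statements.S0436

set_option autoImplicit false
open Cfsg

namespace Cfsg.Agent.S0436

theorem sq_of_order_two {G : Type*} [Group G] {a : G} (ha : orderOf a = 2) : a⁻¹ = a := by
  have := pow_orderOf_eq_one a
  rw [ha, pow_two] at this
  exact inv_eq_of_mul_eq_one_right this

theorem braid {G : Type*} [Group G] {a e : G} (ha : a⁻¹ = a) (he : e⁻¹ = e)
    (hea : (e * a) ^ 3 = 1) : a * e * a = e * a * e := by
  have hea' : e * a * (e * a) * (e * a) = 1 := by
    rw [← hea]; simp [pow_succ]
  have h1 : a * e * a = (e * a * e)⁻¹ * (e * a * (e * a) * (e * a)) := by group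
  have h2 : (e * a * e)⁻¹ = e⁻¹ * a⁻¹ * e⁻¹ := by group
  rw [h1, hea', mul_one, h2, ha, he]

/-- Key lemma: if `e` commutes with `a * b` but the products `e a`, `e b` have order 3, then `a = b`. -/
theorem key {G : Type*} [Group G] {a b e : G} (ha : a⁻¹ = a) (hb : b⁻¹ = b) (he : e⁻¹ = e)
    (hea : (e * a) ^ 3 = 1) (heb : (e * b) ^ 3 = 1)
    (hc : e * (a * b) = (a * b) * e) : a = b := by
  have h1 := braid ha he hea
  have h2 := braid hb he heb
  have h3 : a * e * a = b * e * b := by
    have : a * e * a = a * (e * (a * b)) * b⁻¹ := by group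
    rw [this, hc]
    have : a * (a * b * e) * b⁻¹ = (a * a) * b * e * b⁻¹ := by group
    rw [this, hb]
    have h4 : a * a = 1 := by
      have h5 := mul_inv_cancel a
      rwa [ha] at h5
    rw [h4, one_mul]
  have h5 : e * a * e = e * b * e := by rw [← h1, ← h2, h3]
  exact mul_left_cancel (mul_right_cancel h5)

theorem commute_of_sq {G : Type*} [Group G] {a e : G} (ha : a⁻¹ = a) (he : e⁻¹ = e)
    (h : (e * a) ^ 2 = 1) : Commute e a := by
  rw [pow_two] at h
  have h1 : e * a = (e * a) * (e * a) * a⁻¹ * e⁻¹ := by group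
  rw [h, one_mul, ha, he] at h1
  exact h1

theorem result {G : Type*} [Group G] {E : Set G} (hE : Cfsg.IsThreeTranspositionSet E) {a b e : G} (ha : a ∈ E) (hb : b ∈ E) (he : e ∈ E) (hab : a ≠ b) (hcomm : Commute a b) : Commute e (a * b) ↔ (Commute e a ∧ Commute e b) := by
  have ha' := sq_of_order_two (hE.1 a ha)
  have hb' := sq_of_order_two (hE.1 b hb)
  have he' := sq_of_order_two (hE.1 e he)
  constructor
  · intro h
    have hmain : Commute e a := by
      rcases hE.2 e he a ha with h2 | h3
      · exact commute_of_sq ha' he' h2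
      · rcases hE.2 e he b hb with h2' | h3'
        · have hcb : Commute e b := commute_of_sq hb' he' h2'
          have : a = (a * b) * b⁻¹ := by group
          rw [this]
          exact h.mul_right hcb.inv_right
        · exact absurd (key ha' hb' he' h3 h3' h.eq) hab
    refine ⟨hmain, ?_⟩
    have : b = a⁻¹ * (a * b) := by group
    rw [this]
    exact hmain.inv_right.mul_right h
  · rintro ⟨h1, h2⟩
    exact h1.mul_right h2

end Cfsg.Agent.S0436
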