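import Cfsg.Statements.S0437
import Cfsg.Agent.S0436

set_option autoImplicit false
open Cfsg

namespace Cfsg.Agent.S0437

open Cfsg.Agent.S0436

theorem sq_one {G : Type*} [Group G] {a : G} (ha : a⁻¹ = a) : a * a = 1 := by
  have h5 := mul_inv_cancel a
  rwa [ha] at h5

theorem conj_fix {G : Type*} [Group G] {b c : G} (hb : b⁻¹ = b) (hbc : b * c = c * b) :
    b * c * b = c := by
  rw [hbc, mul_assoc, sq_one hb, mul_one]

/-- If `e` commutes with `a b c` and has order-3 products with each, then `e = a`. -/
theorem key3 {G : Type*} [Group G] {a b c e : G} (ha : a⁻¹ = a) (hb : b⁻¹ = b) (hc : c⁻¹ = c)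
    (he : e⁻¹ = e) (hab : a * b = b * a) (hac : a * c = c * a) (hbc : b * c = c * b)
    (hea : (e * a) ^ 3 = 1) (heb : (e * b) ^ 3 = 1) (hec : (e * c) ^ 3 = 1)
    (h : e * (a * b * c) = a * b * c * e) : e = a := by
  have B1 := braid ha he hea
  have B2 := braid hb he heb
  have B3 := braid hc he hec
  have s1 : b * c * e * c * b = a * e * a := by
    have t1 : b * c * e * c * b = a⁻¹ * (a * b * c * e) * c * b := by group
    rw [t1, ← h]
    have t2 : a⁻¹ * (e * (a * b * c)) * c * b = a⁻¹ * e * a * b * (c * c) * b := by group
    rw [t2, sq_one hc, mul_one]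
    have t3 : a⁻¹ * e * a * b * b = a⁻¹ * e * a * (b * b) := by group
    rw [t3, sq_one hb, mul_one, ha]
  have s2 : b * c * e * c * b = (e * b * e) * c * (e * b * e) := by
    have t1 : b * c * e * c * b = b * (c * e * c) * b := by group
    rw [t1, B3]
    have t2 : b * (e * c * e) * b = (b * e * b⁻¹) * (b * c * b⁻¹) * (b * e * b) := by group
    rw [t2, hb, B2, conj_fix hb hbc]
  have s3 : a = b * e * c * e * b := by
    have t1 : a = e⁻¹ * (e * a * e) * e⁻¹ := by group
    rw [t1, ← B1, ← s1, s2]
    group
  have s4 : a = b * (c * e * c) * b := by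
    rw [B3]
    rw [s3]
    group
  have s5 : e = c⁻¹ * b⁻¹ * (b * (c * e * c) * b) * b⁻¹ * c⁻¹ := by group
  rw [← s4, hb, hc] at s5
  rw [s5]
  have t1 : c * b * a * b * c = c * (b * a * b) * c := by group
  rw [t1, conj_fix hb hab.symm, conj_fix hc hac.symm]

theorem result {G : Type*} [Group G] {E : Set G} (hE : Cfsg.IsThreeTranspositionSet E) {a b c e : G} (ha : a ∈ E) (hb : b ∈ E) (hc : c ∈ E) (he : e ∈ E) (hab : a ≠ b) (hac : a ≠ c) (hbc : b ≠ c) (h₁ : Commute a b) (h₂ : Commute a c) (h₃ : Commute b c) : Commute e (a * b * c) ↔ (Commute e a ∧ Commute e b ∧ Commute e c) := by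
  have ha' := sq_of_order_two (hE.1 a ha)
  have hb' := sq_of_order_two (hE.1 b hb)
  have hc' := sq_of_order_two (hE.1 c hc)
  have he' := sq_of_order_two (hE.1 e he)
  constructor
  · intro h
    have hmain : Commute e a := by
      rcases hE.2 e he a ha with h2 | h3
      · exact commute_of_sq ha' he' h2
      · rcases hE.2 e he b hb with h2' | h3'
        · have hcb : Commute e b := commute_of_sq hb' he' h2'
          -- e commutes with a * c
          have hac' : Commute e (a * c) := by
            have : a * c = b⁻¹ * (a * b * c) := by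
              have : b⁻¹ * (a * b * c) = b⁻¹ * (a * b) * c := by group
              rw [this, h₁.eq]
              group
            rw [this]
            exact hcb.inv_right.mul_right h
          exact ((Cfsg.Agent.S0436.result hE ha hc he hac h₂).1 hac').1
        · rcases hE.2 e he c hc with h2'' | h3''
          · have hcc : Commute e c := commute_of_sq hc' he' h2''
            have hab' : Commute e (a * b) := by
              have : a * b = (a * b * c) * c⁻¹ := by group
              rw [this]
              exact h.mul_right hcc.inv_right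
            exact ((Cfsg.Agent.S0436.result hE ha hb he hab h₁).1 hab').1
          · have : e = a := key3 ha' hb' hc' he' h₁.eq h₂.eq h₃.eq h3 h3' h3'' h.eq
            rw [this]
    have hbc' : Commute e (b * c) := by
      have : b * c = a⁻¹ * (a * b * c) := by group
      rw [this]
      exact hmain.inv_right.mul_right h
    have := (Cfsg.Agent.S0436.result hE hb hc he hbc h₃).1 hbc'
    exact ⟨hmain, this.1, this.2⟩
  · rintro ⟨h1, h2, h3⟩
    exact (h1.mul_right h2).mul_right h3

end Cfsg.Agent.S0437
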