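import Cfsg.Statements.S0438
import Cfsg.Agent.S0436

set_option autoImplicit false
open Cfsg

namespace Cfsg.Agent.S0438

open Cfsg.Agent.S0436

theorem result {G : Type*} [Group G] {E : Set G} (hE : Cfsg.IsThreeTranspositionSet E) (hconj : ∀ g : G, ∀ d ∈ E, g * d * g⁻¹ ∈ E) (x : G ≃* G) (hx : ∀ g : G, x (x g) = g) (hxE : ∀ d ∈ E, x d ∈ E) {a : G} (ha : a ∈ E) (h : ¬ Commute a (x a)) : ∃ d ∈ E, x d = d := by
  have hb := hxE a ha
  have ha' := sq_of_order_two (hE.1 a ha)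
  have hb' := sq_of_order_two (hE.1 (x a) hb)
  have h3 : (a * x a) ^ 3 = 1 := by
    rcases hE.2 a ha (x a) hb with h2 | h3
    · exact absurd (commute_of_sq hb' ha' h2) h
    · exact h3
  -- braid: (x a) * a * (x a) = a * (x a) * a
  have hbr := braid hb' ha' h3
  refine ⟨a * x a * a⁻¹, hconj a (x a) hb, ?_⟩
  rw [map_mul, map_mul, map_inv, hx, hb', ha', hbr]

end Cfsg.Agent.S0438
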