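import Cfsg.Statements.S0442
import Mathlib.Tactic

set_option autoImplicit false
open Cfsg

namespace Cfsg.Agent.S0442

theorem inv_of_order_two {G : Type*} [Group G] {a : G} (ha : orderOf a = 2) : a⁻¹ = a := by
  have := pow_orderOf_eq_one a
  rw [ha, pow_two] at this
  exact inv_eq_of_mul_eq_one_right this

/-- For an involution `a` and any involution `b`: `a * (a*b)^k * a = (a*b)⁻¹^k`. -/
theorem conj_pow_inv {G : Type*} [Group G] {a b : G} (ha : a⁻¹ = a) (hb : b⁻¹ = b) (k : ℕ) :
    a * (a * b) ^ k * a⁻¹ = ((a * b)⁻¹) ^ k := by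
  have h1 : a * (a * b) ^ k * a⁻¹ = (a * (a * b) * a⁻¹) ^ k := by
    rw [_root_.conj_pow]
  rw [h1]
  congr 1
  have : (a * b)⁻¹ = b⁻¹ * a⁻¹ := by group
  rw [this, hb, ha]
  have h2 : a * a = 1 := by
    have h5 := mul_inv_cancel a
    rwa [ha] at h5
  rw [← mul_assoc, h2, one_mul]

theorem result {G : Type*} [Group G] (a g : G) (ha : orderOf a = 2) : (∀ m : ℕ, orderOf (a * (g⁻¹ * a * g)) = 2 * m + 1 → Commute (g * (a * (g⁻¹ * a * g)) ^ m) a) ∧ (∀ m : ℕ, orderOf (a * (g⁻¹ * a * g)) = 2 * m → Commute ((a * (g⁻¹ * a * g)) ^ m) a ∧ Commute ((a * (g * a * g⁻¹)) ^ m) a) := by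
  have ha' := inv_of_order_two ha
  have haa : a * a = 1 := by
    have h5 := mul_inv_cancel a
    rwa [ha'] at h5
  have hb' : (g⁻¹ * a * g)⁻¹ = g⁻¹ * a * g := by
    have : (g⁻¹ * a * g)⁻¹ = g⁻¹ * a⁻¹ * g := by group
    rw [this, ha']
  have hc' : (g * a * g⁻¹)⁻¹ = g * a * g⁻¹ := by
    have : (g * a * g⁻¹)⁻¹ = g * a⁻¹ * g⁻¹ := by group
    rw [this, ha']
  constructor
  · intro m hm
    set b := g⁻¹ * a * g with hb
    set u := a * b with hu
    have hpow : u ^ (2 * m + 1) = 1 := by rw [← hm]; exact pow_orderOf_eq_one u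
    have hconj := conj_pow_inv ha' hb' m
    -- u^m * a = a * u⁻¹^m ... show conj of a by u^m is b
    have h1 : a * u ^ m = (u⁻¹) ^ m * a := by
      have : a * u ^ m = (a * u ^ m * a⁻¹) * a := by group
      rw [this, hconj]
    have h2 : u ^ m * a * (u ^ m)⁻¹ = b := by
      have e1 : u ^ m * a = a * (u⁻¹) ^ m := by
        have := conj_pow_inv ha' hb' m
        -- a * u^m * a⁻¹ = u⁻¹^m  → u^m = a⁻¹ * u⁻¹^m * a
        have e2 : u ^ m = a⁻¹ * (a * u ^ m * a⁻¹) * a := by group
        rw [e2, this, ha']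
        have : a * u⁻¹ ^ m * a * a = a * u⁻¹ ^ m * (a * a) := by group
        rw [this, haa, mul_one]
      rw [e1]
      have e3 : a * u⁻¹ ^ m * (u ^ m)⁻¹ = a * (u ^ (2 * m))⁻¹ := by
        rw [two_mul, pow_add, inv_pow]
        group
      rw [e3]
      have e4 : (u ^ (2 * m))⁻¹ = u := by
        rw [inv_eq_iff_mul_eq_one, ← pow_succ, hpow]
      rw [e4, hu, ← mul_assoc, haa, one_mul]
    -- now commute
    show g * u ^ m * a = a * (g * u ^ m)
    have e5 : g * u ^ m * a = g * (u ^ m * a * (u ^ m)⁻¹) * u ^ m := by group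
    rw [e5, h2, hb]
    group
  · intro m hm
    constructor
    · set b := g⁻¹ * a * g with hb
      set u := a * b with hu
      have hpow : u ^ (2 * m) = 1 := by rw [← hm]; exact pow_orderOf_eq_one u
      have hconj := conj_pow_inv ha' hb' m
      have hinv : (u⁻¹) ^ m = u ^ m := by
        rw [inv_pow, inv_eq_iff_mul_eq_one, ← pow_add, ← two_mul, hpow]
      show u ^ m * a = a * u ^ m
      have : a * u ^ m = (a * u ^ m * a⁻¹) * a := by group
      rw [this, hconj, hinv]
    · set c := g * a * g⁻¹ with hc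
      set w := a * c with hw
      -- w⁻¹ = c * a is conjugate to u = a * (g⁻¹ a g) by g
      have hpow : w ^ (2 * m) = 1 := by
        have h1 : (a * (g⁻¹ * a * g)) ^ (2 * m) = 1 := by
          rw [← hm]; exact pow_orderOf_eq_one _
        have h2 : w⁻¹ = g * (a * (g⁻¹ * a * g)) * g⁻¹ := by
          have : w⁻¹ = c⁻¹ * a⁻¹ := by rw [hw]; group
          rw [this, hc', ha', hc]
          group
        have h3 : (w⁻¹) ^ (2 * m) = 1 := by
          rw [h2, _root_.conj_pow, h1]
          group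
        rw [inv_pow, inv_eq_one] at h3
        exact h3
      have hconj := conj_pow_inv ha' hc' m
      have hinv : (w⁻¹) ^ m = w ^ m := by
        rw [inv_pow, inv_eq_iff_mul_eq_one, ← pow_add, ← two_mul, hpow]
      show w ^ m * a = a * w ^ m
      have : a * w ^ m = (a * w ^ m * a⁻¹) * a := by group
      rw [this, hconj, hinv]

end Cfsg.Agent.S0442
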