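import Cfsg.Statements.S0443

set_option autoImplicit false
open Cfsg

namespace Cfsg.Agent.S0443

/-- An element of order 2 centralizing a Sylow 2-subgroup lies in it. -/
theorem mem_sylow_of_centralizes {G : Type*} [Group G] (t : G) (ht : orderOf t = 2)
    (P : Sylow 2 G) (hP : (P : Subgroup G) ≤ Subgroup.centralizer ({t} : Set G)) :
    t ∈ (P : Subgroup G) := by
  have hz : IsPGroup 2 (Subgroup.zpowers t) := by
    rw [IsPGroup.iff_orderOf]
    intro x
    obtain ⟨x, hx⟩ := x
    have hdvd : orderOf x ∣ 2 := by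
      rw [← ht]
      exact orderOf_dvd_of_mem_zpowers hx
    rcases (Nat.dvd_prime Nat.prime_two).1 hdvd with h1 | h2
    · refine ⟨0, ?_⟩
      rw [Subgroup.orderOf_mk, h1, pow_zero]
    · refine ⟨1, ?_⟩
      rw [Subgroup.orderOf_mk, h2, pow_one]
  have hnorm : Subgroup.zpowers t ≤ Subgroup.normalizer ((P : Subgroup G) : Set G) := by
    rw [Subgroup.zpowers_le]
    rw [Subgroup.mem_normalizer_iff]
    intro x
    constructor
    · intro hx
      have h1 := Subgroup.mem_centralizer_iff.1 (hP hx) t rfl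
      have : t * x * t⁻¹ = x := by
        rw [h1]; group
      rw [this]; exact hx
    · intro hx
      have h1 := Subgroup.mem_centralizer_iff.1 (hP hx) t rfl
      have : x = t⁻¹ * (t * x * t⁻¹) * t := by group
      have h2 : t * (t * x * t⁻¹) = (t * x * t⁻¹) * t := h1
      have h3 : x = t * x * t⁻¹ := by
        rw [this]
        calc t⁻¹ * (t * x * t⁻¹) * t = t⁻¹ * ((t * x * t⁻¹) * t) := by group
          _ = t⁻¹ * (t * (t * x * t⁻¹)) := by rw [h2]
          _ = t * x * t⁻¹ := by group
          _ = t * (t⁻¹ * (t * x * t⁻¹) * t) * t⁻¹ := by group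
      rw [h3]; exact hx
  have hsup : IsPGroup 2 ((P : Subgroup G) ⊔ Subgroup.zpowers t : Subgroup G) :=
    IsPGroup.to_sup_of_normal_left' P.2 hz hnorm
  have := P.is_maximal' hsup le_sup_left
  have h2 : Subgroup.zpowers t ≤ (P : Subgroup G) := by
    calc Subgroup.zpowers t ≤ (P : Subgroup G) ⊔ Subgroup.zpowers t := le_sup_right
      _ = P := this
  exact h2 (Subgroup.mem_zpowers t)

theorem result {G : Type*} [Group G] [Finite G] (t : G) (ht : orderOf t = 2) : Cfsg.IsTwoCentralInvolution t ↔ ∃ P : Sylow 2 G, (P : Subgroup G) ≤ Subgroup.centralizer ({t} : Set G) := by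
  constructor
  · rintro ⟨_, P, htP, hP⟩
    refine ⟨P, fun x hx => ?_⟩
    rw [Subgroup.mem_centralizer_iff]
    intro y hy
    rw [Set.mem_singleton_iff] at hy
    subst hy
    exact (hP x hx).symm
  · rintro ⟨P, hP⟩
    refine ⟨ht, P, mem_sylow_of_centralizes t ht P hP, fun x hx => ?_⟩
    exact (Subgroup.mem_centralizer_iff.1 (hP hx) t rfl).symm

end Cfsg.Agent.S0443
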