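import Cfsg.Statements.S2579
import Mathlib

set_option autoImplicit false
open Cfsg

namespace Cfsg.Agent.S2579

open Matrix Module

variable {F : Type*} [Field F]

/-- the standard transvection. -/
def E' (F : Type*) [Field F] (k : ℕ) : Matrix (Fin (k + 2)) (Fin (k + 2)) F := 1 + Matrix.single 1 0 1

theorem exists_adapted (k : ℕ) (t : Matrix (Fin (k + 2)) (Fin (k + 2)) F) (hrank : (t - 1).rank = 1)
    (hsq : (t - 1) * (t - 1) = 0) :
    ∃ P : Matrix (Fin (k + 2)) (Fin (k + 2)) F, IsUnit P.det ∧ t * P = P * E' F k := by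
  classical
  set N : Matrix (Fin (k + 2)) (Fin (k + 2)) F := t - 1 with hN
  set K : Submodule F (Fin (k + 2) → F) := LinearMap.ker (Matrix.mulVecLin N) with hKdef
  have hrankR : finrank F (LinearMap.range (Matrix.mulVecLin N)) = 1 := hrank
  have hK : finrank F K = k + 1 := by
    have h : finrank F (LinearMap.range (Matrix.mulVecLin N)) + finrank F K = finrank F (Fin (k + 2) → F) :=
      LinearMap.finrank_range_add_finrank_ker (Matrix.mulVecLin N)
    rw [Module.finrank_fin_fun, hrankR] at h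
    omega
  have hmemK : ∀ x : Fin (k + 2) → F, x ∈ K ↔ N *ᵥ x = 0 := by
    intro x
    rw [hKdef, LinearMap.mem_ker, Matrix.mulVecLin_apply]
  obtain ⟨w, hw⟩ : ∃ w : Fin (k + 2) → F, w ∉ K := by
    by_contra hcon
    push Not at hcon
    have : K = ⊤ := by
      rw [eq_top_iff]
      intro x _
      exact hcon x
    rw [this, finrank_top, Module.finrank_fin_fun] at hK
    omega
  set v : Fin (k + 2) → F := N *ᵥ w with hv
  have hv0 : v ≠ 0 := by
    intro h
    exact hw ((hmemK w).mpr h)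
  have hvK : v ∈ K := by
    rw [hmemK, hv, mulVec_mulVec, hsq, zero_mulVec]
  have hrange : ∀ z : Fin (k + 2) → F, ∃ a : F, N *ᵥ z = a • v := by
    intro z
    have hne : (⟨v, ⟨w, rfl⟩⟩ : LinearMap.range (Matrix.mulVecLin N)) ≠ 0 := by
      intro h
      exact hv0 (congrArg Subtype.val h)
    obtain ⟨c, hc⟩ := (finrank_eq_one_iff_of_nonzero' _ hne).mp hrankR ⟨N *ᵥ z, ⟨z, rfl⟩⟩
    exact ⟨c, (congrArg Subtype.val hc).symm⟩
  set v' : K := ⟨v, hvK⟩ with hv'
  have hv'0 : v' ≠ 0 := by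
    intro h
    exact hv0 (congrArg Subtype.val h)
  obtain ⟨C, hC⟩ := Submodule.exists_isCompl (F ∙ v')
  have hCk : finrank F C = k := by
    have h := Submodule.finrank_add_eq_of_isCompl hC
    rw [finrank_span_singleton hv'0, hK] at h
    omega
  haveI : Module.Free F C := Module.Free.of_divisionRing F C
  let bC : Basis (Fin k) F C := Module.finBasisOfFinrankEq F C hCk
  let bK : Basis (Fin (k + 1)) F K := Basis.mkFinCons v' bC
    (by
      intro c x hx hc
      have h1 : c • v' ∈ (F ∙ v') ⊓ C := by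
        refine ⟨Submodule.smul_mem _ _ (Submodule.mem_span_singleton_self _), ?_⟩
        have : c • v' = -x := eq_neg_of_add_eq_zero_left hc
        rw [this]
        exact C.neg_mem hx
      rw [hC.inf_eq_bot, Submodule.mem_bot] at h1
      exact (smul_eq_zero.1 h1).resolve_right hv'0)
    (by
      intro z
      have hz : z ∈ (F ∙ v') ⊔ C := by rw [hC.sup_eq_top]; exact Submodule.mem_top
      obtain ⟨y, hy, c', hc', hyz⟩ := Submodule.mem_sup.1 hz
      obtain ⟨a, rfl⟩ := Submodule.mem_span_singleton.1 hy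
      refine ⟨-a, ?_⟩
      rw [← hyz]
      have : a • v' + c' + (-a) • v' = c' := by
        module
      rw [this]
      exact hc')
  let bV : Basis (Fin (k + 2)) F (Fin (k + 2) → F) := Basis.mkFinCons w bK
    (by
      intro c x hx hc
      have h1 := congrArg (fun y => N *ᵥ y) hc
      simp only [mulVec_add, mulVec_smul, mulVec_zero] at h1
      rw [(hmemK x).mp hx, add_zero] at h1
      exact (smul_eq_zero.1 h1).resolve_right hv0)
    (by
      intro z
      obtain ⟨a, ha⟩ := hrange z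
      refine ⟨-a, ?_⟩
      rw [hmemK, mulVec_add, mulVec_smul, ha, neg_smul, add_neg_cancel])
  have hbV0 : bV 0 = w := by
    simp only [bV, Basis.coe_mkFinCons, Fin.cons_zero]
  have hbVs : ∀ j : Fin (k + 1), bV j.succ ∈ K := by
    intro j
    simp only [bV, Basis.coe_mkFinCons, Fin.cons_succ, Function.comp_apply]
    exact (bK j).2
  have hbV1 : bV 1 = v := by
    have : (1 : Fin (k + 2)) = Fin.succ 0 := rfl
    rw [this]
    simp only [bV, bK, Basis.coe_mkFinCons, Fin.cons_succ, Function.comp_apply, Fin.cons_zero]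
    rfl
  have htb : ∀ j : Fin (k + 2), t *ᵥ bV j = bV j + (if j = 0 then bV 1 else 0) := by
    intro j
    have ht : t = 1 + N := by rw [hN]; abel
    rw [ht, add_mulVec, one_mulVec]
    congr 1
    refine Fin.cases ?_ (fun j' => ?_) j
    · rw [if_pos rfl, hbV0, hbV1]
    · rw [if_neg (Fin.succ_ne_zero j')]
      exact (hmemK _).mp (hbVs j')
  let P : Matrix (Fin (k + 2)) (Fin (k + 2)) F := Matrix.of (fun i j => bV j i)
  have hP : P = (Pi.basisFun F (Fin (k + 2))).toMatrix bV := by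
    ext i j
    simp [P, Basis.toMatrix_apply]
  refine ⟨P, ?_, ?_⟩
  · rw [hP]
    haveI := (Pi.basisFun F (Fin (k + 2))).invertibleToMatrix bV
    exact Matrix.isUnit_det_of_invertible _
  · ext i j
    have h1 : (t * P) i j = (t *ᵥ bV j) i := by
      simp only [Matrix.mul_apply, mulVec, dotProduct, P, Matrix.of_apply]
    rw [h1, htb j]
    unfold E'
    rw [Matrix.mul_add, Matrix.mul_one, Matrix.add_apply, Pi.add_apply]
    congr 1
    by_cases hj : j = 0
    · subst hj
      rw [if_pos rfl, Matrix.mul_single_apply_same (1 : F) 1 0 i P, mul_one]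
      rfl
    · rw [if_neg hj, Matrix.mul_single_apply_of_ne (1 : F) 1 0 i j hj P]
      rfl

/-- diagonal matrix with one entry `d`. -/
def Dg (F : Type*) [Field F] (k : ℕ) (d : F) : Matrix (Fin (k + 3)) (Fin (k + 3)) F :=
  Matrix.diagonal (fun i => if i = 2 then d else 1)

theorem Dg_det (k : ℕ) (d : F) : (Dg F k d).det = d := by
  unfold Dg
  rw [Matrix.det_diagonal, Finset.prod_ite_eq']
  simp

theorem Dg_comm (k : ℕ) (d : F) : Dg F k d * E' F (k + 1) = E' F (k + 1) * Dg F k d := by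
  unfold Dg E'
  rw [Matrix.mul_add, Matrix.add_mul, Matrix.mul_one, Matrix.one_mul]
  congr 1
  ext i j
  rw [Matrix.diagonal_mul, Matrix.mul_diagonal]
  by_cases hi : i = 1
  · subst hi
    by_cases hj : j = 0
    · subst hj
      have h3 : 2 % (k + 3) = 2 := Nat.mod_eq_of_lt (by omega)
      have h1 : ((1 : Fin (k + 3)) = 2) = False := by
        simp [Fin.ext_iff, h3]
      have h2 : ((0 : Fin (k + 3)) = 2) = False := by
        simp [Fin.ext_iff, h3]
      simp [h1, h2]
    · simp [Matrix.single_apply, hj, Ne.symm hj]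
  · simp [Matrix.single_apply, hi, Ne.symm hi]

/-- In SL_n(F) with n ≥ 3, over a finite field F, any two transvections (matrices t with t − 1 of rank one and square zero) are conjugate by an element of SL_n(F). -/
theorem result {F : Type*} [Field F] [Finite F] {n : ℕ} (hn : 3 ≤ n) (s t : Matrix.SpecialLinearGroup (Fin n) F) (hs : Cfsg.IsTransvection (s : Matrix (Fin n) (Fin n) F)) (ht : Cfsg.IsTransvection (t : Matrix (Fin n) (Fin n) F)) : IsConj s t := by
  classical
  obtain ⟨k, rfl⟩ : ∃ k, n = k + 3 := ⟨n - 3, by omega⟩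
  obtain ⟨Ps, hPs, hs'⟩ := exists_adapted (k + 1) (s : Matrix (Fin (k + 3)) (Fin (k + 3)) F) hs.1 hs.2
  obtain ⟨Pt, hPt, ht'⟩ := exists_adapted (k + 1) (t : Matrix (Fin (k + 3)) (Fin (k + 3)) F) ht.1 ht.2
  have hPs0 : Ps.det ≠ 0 := hPs.ne_zero
  have hPt0 : Pt.det ≠ 0 := hPt.ne_zero
  set d : F := Ps.det * (Pt.det)⁻¹ with hd
  set c : Matrix (Fin (k + 3)) (Fin (k + 3)) F := Pt * Dg F k d * Ps⁻¹ with hc
  have hcdet : c.det = 1 := by
    rw [hc, Matrix.det_mul, Matrix.det_mul, Dg_det, Matrix.det_nonsing_inv, Ring.inverse_eq_inv', hd]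
    field_simp
  have hPsinv : Ps⁻¹ * (s : Matrix (Fin (k + 3)) (Fin (k + 3)) F) = E' F (k + 1) * Ps⁻¹ := by
    have h1 : Ps⁻¹ * ((s : Matrix (Fin (k + 3)) (Fin (k + 3)) F) * Ps) * Ps⁻¹ = Ps⁻¹ * (Ps * E' F (k + 1)) * Ps⁻¹ := by
      rw [hs']
    rw [← Matrix.mul_assoc, Matrix.mul_assoc, Matrix.mul_nonsing_inv _ hPs, Matrix.mul_one,
      ← Matrix.mul_assoc, Matrix.nonsing_inv_mul _ hPs, Matrix.one_mul] at h1
    exact h1
  have hcs : c * (s : Matrix (Fin (k + 3)) (Fin (k + 3)) F) = (t : Matrix (Fin (k + 3)) (Fin (k + 3)) F) * c := by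
    rw [hc, Matrix.mul_assoc, hPsinv, ← Matrix.mul_assoc, Matrix.mul_assoc Pt, Dg_comm, ← Matrix.mul_assoc,
      ← ht', Matrix.mul_assoc, Matrix.mul_assoc, Matrix.mul_assoc]
  rw [isConj_iff]
  let g : Matrix.SpecialLinearGroup (Fin (k + 3)) F := ⟨c, hcdet⟩
  refine ⟨g, ?_⟩
  rw [mul_inv_eq_iff_eq_mul]
  apply Subtype.ext
  show c * (s : Matrix (Fin (k + 3)) (Fin (k + 3)) F) = (t : Matrix (Fin (k + 3)) (Fin (k + 3)) F) * c
  exact hcs

end Cfsg.Agent.S2579
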