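-- Statement S2572: order of the centraliser of a transvection in GL_n(q).
import Cfsg.Statements.S2572
import Cfsg.Agent.S2579

set_option autoImplicit false
open Cfsg

namespace Cfsg.Agent.S2572

open Matrix

section aux
variable {F : Type*} [Field F] {k : ℕ}

/-- The nilpotent part of the standard transvection. -/
def Nmat (F : Type*) [Field F] (k : ℕ) : Matrix (Fin (k+2)) (Fin (k+2)) F := Matrix.single 1 0 1

/-- The general element of the commutant of `Nmat`. -/
def mk (a : F) (c : Fin (k+1) → F) (r : Fin k → F) (H : Matrix (Fin k) (Fin k) F) :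
    Matrix (Fin (k+2)) (Fin (k+2)) F :=
  Matrix.of fun i j => Fin.cases (motive := fun _ => F) (Fin.cases (motive := fun _ => F) a (fun _ => 0) j)
      (fun i' => Fin.cases (motive := fun _ => F) (c i')
        (fun j' => Fin.cases (motive := fun _ => F) (Fin.cases (motive := fun _ => F) a r j')
          (fun i'' => Fin.cases (motive := fun _ => F) 0 (H i'') j') i') j) i

theorem mul_N_apply (M : Matrix (Fin (k+2)) (Fin (k+2)) F) (a b : Fin (k+2)) :
    (M * Nmat F k) a b = if b = 0 then M a 1 else 0 := by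
  unfold Nmat
  by_cases hb : b = 0
  · subst hb; rw [if_pos rfl, Matrix.mul_single_apply_same, mul_one]
  · rw [if_neg hb, Matrix.mul_single_apply_of_ne _ _ _ _ _ hb]

theorem N_mul_apply (M : Matrix (Fin (k+2)) (Fin (k+2)) F) (a b : Fin (k+2)) :
    (Nmat F k * M) a b = if a = 1 then M 0 b else 0 := by
  unfold Nmat
  by_cases ha : a = 1
  · subst ha; rw [if_pos rfl, Matrix.single_mul_apply_same, one_mul]
  · rw [if_neg ha, Matrix.single_mul_apply_of_ne _ _ _ _ _ ha]

theorem succ_succ_ne_one (i : Fin k) : (i.succ.succ : Fin (k+2)) ≠ 1 := by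
  intro h
  have := congrArg Fin.val h
  simp at this

theorem comm_iff (M : Matrix (Fin (k+2)) (Fin (k+2)) F) :
    M * Nmat F k = Nmat F k * M ↔
      (∀ j : Fin (k+1), M 0 j.succ = 0) ∧ (∀ i : Fin k, M i.succ.succ 1 = 0) ∧ M 1 1 = M 0 0 := by
  constructor
  · intro h
    have h' : ∀ a b, (if b = 0 then M a 1 else 0) = (if a = 1 then M 0 b else 0) := by
      intro a b
      rw [← mul_N_apply, ← N_mul_apply, h]
    refine ⟨fun j => ?_, fun i => ?_, ?_⟩
    · have := h' 1 j.succ
      rw [if_neg (Fin.succ_ne_zero j), if_pos rfl] at this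
      exact this.symm
    · have := h' i.succ.succ 0
      rw [if_pos rfl, if_neg (succ_succ_ne_one i)] at this
      exact this
    · have := h' 1 0
      rw [if_pos rfl, if_pos rfl] at this
      exact this
  · rintro ⟨h1, h2, h3⟩
    ext a b
    rw [mul_N_apply, N_mul_apply]
    refine Fin.cases ?_ (fun b' => ?_) b
    · rw [if_pos rfl]
      refine Fin.cases ?_ (fun a' => ?_) a
      · rw [if_neg (by intro h; exact absurd (congrArg Fin.val h) (by simp))]
        exact h1 0
      · refine Fin.cases ?_ (fun a'' => ?_) a'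
        · rw [if_pos Fin.succ_zero_eq_one, Fin.succ_zero_eq_one]; exact h3
        · rw [if_neg (succ_succ_ne_one a'')]; exact h2 a''
    · rw [if_neg (Fin.succ_ne_zero b')]
      split_ifs
      · exact (h1 b').symm
      · rfl

theorem mk_comm (a : F) (c : Fin (k+1) → F) (r : Fin k → F) (H : Matrix (Fin k) (Fin k) F) :
    mk a c r H * Nmat F k = Nmat F k * mk a c r H := by
  rw [comm_iff]
  exact ⟨fun _ => rfl, fun _ => rfl, rfl⟩

theorem eq_mk (M : Matrix (Fin (k+2)) (Fin (k+2)) F) (h : M * Nmat F k = Nmat F k * M) :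
    M = mk (M 0 0) (fun i => M i.succ 0) (fun j => M 1 j.succ.succ)
      (M.submatrix (fun i => i.succ.succ) (fun i => i.succ.succ)) := by
  obtain ⟨h1, h2, h3⟩ := (comm_iff M).mp h
  ext i j
  refine Fin.cases ?_ (fun i' => ?_) i
  · refine Fin.cases ?_ (fun j' => ?_) j
    · rfl
    · exact h1 j'
  · refine Fin.cases ?_ (fun j' => ?_) j
    · rfl
    · refine Fin.cases ?_ (fun i'' => ?_) i'
      · refine Fin.cases ?_ (fun j'' => ?_) j'
        · exact h3
        · rfl
      · refine Fin.cases ?_ (fun j'' => ?_) j'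
        · exact h2 i''
        · rfl

theorem det_of_comm (M : Matrix (Fin (k+2)) (Fin (k+2)) F) (h : M * Nmat F k = Nmat F k * M) :
    M.det = (M 0 0) ^ 2 * (M.submatrix (fun i : Fin k => i.succ.succ) (fun i => i.succ.succ)).det := by
  obtain ⟨h1, h2, h3⟩ := (comm_iff M).mp h
  rw [Matrix.det_succ_row_zero, Finset.sum_eq_single 0]
  · rw [Fin.val_zero, pow_zero, one_mul, Fin.succAbove_zero, Matrix.det_succ_column_zero,
      Finset.sum_eq_single 0]
    · rw [Fin.val_zero, pow_zero, one_mul, Fin.succAbove_zero]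
      simp only [Matrix.submatrix_apply, Matrix.submatrix_submatrix]
      rw [Fin.succ_zero_eq_one, h3, pow_two, mul_assoc]
      rfl
    · intro i _ hi
      obtain ⟨i', rfl⟩ := Fin.exists_succ_eq.mpr hi
      simp only [Matrix.submatrix_apply]
      rw [Fin.succ_zero_eq_one, h2 i']
      ring
    · intro h0; exact absurd (Finset.mem_univ _) h0
  · intro j _ hj
    obtain ⟨j', rfl⟩ := Fin.exists_succ_eq.mpr hj
    rw [h1 j']
    ring
  · intro h0; exact absurd (Finset.mem_univ _) h0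

theorem det_mk (a : F) (c : Fin (k+1) → F) (r : Fin k → F) (H : Matrix (Fin k) (Fin k) F) :
    (mk a c r H).det = a ^ 2 * H.det := by
  rw [det_of_comm _ (mk_comm a c r H)]
  rfl

theorem det_mk_ne (p : Fˣ × (Fin (k+1) → F) × (Fin k → F) × GL (Fin k) F) :
    (mk (p.1 : F) p.2.1 p.2.2.1 (p.2.2.2 : Matrix (Fin k) (Fin k) F)).det ≠ 0 := by
  rw [det_mk]
  exact mul_ne_zero (pow_ne_zero _ (Units.ne_zero p.1)) (Matrix.GeneralLinearGroup.det_ne_zero p.2.2.2)

/-- Parametrisation of the commutant inside GL. -/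
noncomputable def toC (p : Fˣ × (Fin (k+1) → F) × (Fin k → F) × GL (Fin k) F) :
    {g : GL (Fin (k+2)) F // (g : Matrix (Fin (k+2)) (Fin (k+2)) F) * Nmat F k =
      Nmat F k * (g : Matrix (Fin (k+2)) (Fin (k+2)) F)} :=
  ⟨Matrix.GeneralLinearGroup.mkOfDetNeZero _ (det_mk_ne p), mk_comm _ _ _ _⟩

theorem toC_coe (p : Fˣ × (Fin (k+1) → F) × (Fin k → F) × GL (Fin k) F) :
    (((toC p).1 : GL (Fin (k+2)) F) : Matrix (Fin (k+2)) (Fin (k+2)) F) =
      mk (p.1 : F) p.2.1 p.2.2.1 (p.2.2.2 : Matrix (Fin k) (Fin k) F) := rfl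

theorem toC_bijective : Function.Bijective (toC (F := F) (k := k)) := by
  constructor
  · rintro ⟨a, c, r, H⟩ ⟨a', c', r', H'⟩ h
    have hm : mk (a : F) c r (H : Matrix (Fin k) (Fin k) F) =
        mk (a' : F) c' r' (H' : Matrix (Fin k) (Fin k) F) := by
      have := congrArg (fun x => ((x.1 : GL (Fin (k+2)) F) : Matrix (Fin (k+2)) (Fin (k+2)) F)) h
      exact this
    have h1 : (a : F) = a' := congrFun (congrFun hm 0) 0
    have h2 : c = c' := funext fun i => congrFun (congrFun hm i.succ) 0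
    have h3 : r = r' := funext fun j => congrFun (congrFun hm 1) j.succ.succ
    have h4 : (H : Matrix (Fin k) (Fin k) F) = H' := by
      ext i j
      exact congrFun (congrFun hm i.succ.succ) j.succ.succ
    rw [Units.ext h1, h2, h3, Units.ext h4]
  · rintro ⟨g, hg⟩
    have hdet := det_of_comm _ hg
    have hgdet : (g : Matrix (Fin (k+2)) (Fin (k+2)) F).det ≠ 0 :=
      Matrix.GeneralLinearGroup.det_ne_zero g
    rw [hdet] at hgdet
    have ha : (g : Matrix (Fin (k+2)) (Fin (k+2)) F) 0 0 ≠ 0 := by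
      intro h0
      apply hgdet
      rw [h0]; ring
    have hH : ((g : Matrix (Fin (k+2)) (Fin (k+2)) F).submatrix (fun i : Fin k => i.succ.succ)
        (fun i => i.succ.succ)).det ≠ 0 := by
      intro h0
      apply hgdet
      rw [h0]; ring
    refine ⟨(Units.mk0 _ ha, fun i => (g : Matrix (Fin (k+2)) (Fin (k+2)) F) i.succ 0,
      fun j => (g : Matrix (Fin (k+2)) (Fin (k+2)) F) 1 j.succ.succ,
      Matrix.GeneralLinearGroup.mkOfDetNeZero _ hH), ?_⟩
    apply Subtype.ext
    apply Units.ext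
    rw [toC_coe]
    exact (eq_mk _ hg).symm

theorem card_std [Fintype F] {q : ℕ} (hF : Fintype.card F = q) :
    Nat.card {g : GL (Fin (k+2)) F // (g : Matrix (Fin (k+2)) (Fin (k+2)) F) * Nmat F k =
      Nmat F k * (g : Matrix (Fin (k+2)) (Fin (k+2)) F)} =
      q ^ (2 * k + 1) * (q - 1) * ∏ i : Fin k, (q ^ k - q ^ (i : ℕ)) := by
  rw [← Nat.card_congr (Equiv.ofBijective _ (toC_bijective (F := F) (k := k))), Nat.card_prod,
    Nat.card_prod, Nat.card_prod, Nat.card_units, Nat.card_fun, Nat.card_fun, Matrix.card_GL_field,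
    Nat.card_eq_fintype_card (α := F), hF, Nat.card_eq_fintype_card, Nat.card_eq_fintype_card,
    Fintype.card_fin, Fintype.card_fin]
  ring

end aux

/-- Centraliser of a transvection in GL_n(q), n ≥ 2: if t − 1 has rank one and square zero, the centraliser of t in GL_n(q) has order q^(2n−3) (q − 1) |GL_(n−2)(q)| (a group of order q^(2n−3) extended by GL_1(q) × GL_(n−2)(q)). -/
theorem result {F : Type*} [Field F] [Fintype F] {q n : ℕ} (hF : Fintype.card F = q) (hn : 2 ≤ n) (t : GL (Fin n) F) (ht : Cfsg.IsTransvection (t : Matrix (Fin n) (Fin n) F)) : Nat.card ↥(Subgroup.centralizer ({t} : Set (GL (Fin n) F))) = q ^ (2 * n - 3) * (q - 1) * ∏ i : Fin (n - 2), (q ^ (n - 2) - q ^ (i : ℕ)) := by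
  obtain ⟨k, rfl⟩ : ∃ k, n = k + 2 := ⟨n - 2, by omega⟩
  obtain ⟨P, hP, hPt⟩ := Cfsg.Agent.S2579.exists_adapted k
    (t : Matrix (Fin (k+2)) (Fin (k+2)) F) ht.1 ht.2
  have hPdet : P.det ≠ 0 := hP.ne_zero
  set Pg : GL (Fin (k+2)) F := Matrix.GeneralLinearGroup.mkOfDetNeZero P hPdet with hPg
  have hPgc : (Pg : Matrix (Fin (k+2)) (Fin (k+2)) F) = P := rfl
  have hE : Cfsg.Agent.S2579.E' F k = 1 + Nmat F k := rfl
  -- the standard transvection as a group element
  have hEg : ((Pg⁻¹ * t * Pg : GL (Fin (k+2)) F) : Matrix (Fin (k+2)) (Fin (k+2)) F) = 1 + Nmat F k := by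
    rw [Units.val_mul, Units.val_mul, hPgc, Matrix.mul_assoc, hPt, ← hPgc, ← Matrix.mul_assoc,
      ← Units.val_mul, inv_mul_cancel, Units.val_one, Matrix.one_mul, hE]
  have hiff : ∀ g : GL (Fin (k+2)) F, g ∈ Subgroup.centralizer ({t} : Set (GL (Fin (k+2)) F)) ↔
      (((MulAut.conj Pg⁻¹).toEquiv g : GL (Fin (k+2)) F) : Matrix (Fin (k+2)) (Fin (k+2)) F) * Nmat F k =
        Nmat F k * (((MulAut.conj Pg⁻¹).toEquiv g : GL (Fin (k+2)) F) : Matrix (Fin (k+2)) (Fin (k+2)) F) := by
    intro g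
    rw [Subgroup.mem_centralizer_singleton_iff]
    have h1 : (MulAut.conj Pg⁻¹).toEquiv g = Pg⁻¹ * g * Pg := by
      simp [MulAut.conj_apply]
    rw [h1]
    have h2 : t * g = g * t ↔ (Pg⁻¹ * t * Pg) * (Pg⁻¹ * g * Pg) = (Pg⁻¹ * g * Pg) * (Pg⁻¹ * t * Pg) := by
      constructor
      · intro h
        have e1 : (Pg⁻¹ * t * Pg) * (Pg⁻¹ * g * Pg) = Pg⁻¹ * (t * g) * Pg := by group
        have e2 : (Pg⁻¹ * g * Pg) * (Pg⁻¹ * t * Pg) = Pg⁻¹ * (g * t) * Pg := by group
        rw [e1, e2, h]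
      · intro h
        have e1 : t * g = Pg * ((Pg⁻¹ * t * Pg) * (Pg⁻¹ * g * Pg)) * Pg⁻¹ := by group
        have e2 : g * t = Pg * ((Pg⁻¹ * g * Pg) * (Pg⁻¹ * t * Pg)) * Pg⁻¹ := by group
        rw [e1, e2, h]
    rw [eq_comm, h2]
    constructor
    · intro h
      have h3 := congrArg (fun x : GL (Fin (k+2)) F => (x : Matrix (Fin (k+2)) (Fin (k+2)) F)) h
      simp only [Units.val_mul] at h3
      simp only [Units.val_mul] at hEg
      rw [hEg, Matrix.add_mul, Matrix.mul_add, Matrix.one_mul, Matrix.mul_one] at h3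
      simp only [Units.val_mul]
      exact (add_left_cancel h3).symm
    · intro h
      apply Units.ext
      simp only [Units.val_mul] at h hEg ⊢
      rw [hEg, Matrix.add_mul, Matrix.mul_add, Matrix.one_mul, Matrix.mul_one, h]
  rw [Nat.card_congr (Equiv.subtypeEquiv
    (q := fun h : GL (Fin (k+2)) F => (h : Matrix (Fin (k+2)) (Fin (k+2)) F) * Nmat F k =
      Nmat F k * (h : Matrix (Fin (k+2)) (Fin (k+2)) F)) (MulAut.conj Pg⁻¹).toEquiv hiff), card_std hF]
  have e1 : 2 * (k + 2) - 3 = 2 * k + 1 := by omega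
  rw [e1]
  rfl

end Cfsg.Agent.S2572
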