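-- Statement S0445: centraliser of a transvection in SL_5(2).
import Cfsg.Statements.S0445
import Cfsg.Agent.S2572

set_option autoImplicit false
open Cfsg

namespace Cfsg.Agent.S0445

open Matrix

theorem rank_single_one {F : Type*} [Field F] {n : ℕ} (i j : Fin n) :
    (Matrix.single i j (1 : F)).rank = 1 := by
  apply le_antisymm
  · rw [Matrix.single_eq_single_vecMulVec_single]
    exact Matrix.rank_vecMulVec_le _ _
  · by_contra hlt
    have h0 : (Matrix.single i j (1 : F)).rank = 0 := by omega
    unfold Matrix.rank at h0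
    have hbot := Submodule.finrank_eq_zero.mp h0
    have hmem : (Matrix.single i j (1 : F)).mulVecLin (Pi.single j 1) ∈
        LinearMap.range (Matrix.single i j (1 : F)).mulVecLin := LinearMap.mem_range_self _ _
    rw [hbot, Submodule.mem_bot, Matrix.mulVecLin_apply] at hmem
    have := congrFun hmem i
    simp at this

theorem units_zmod2 (u : (ZMod 2)ˣ) : u = 1 := by
  revert u; decide

/-- In the special linear group of dimension 5 over the field with two elements, the centraliser of a transvection has order 21504 = 2 ^ 7 · 168 (it is an extension of an extraspecial group of order 2 ^ 7 by the simple group of order 168). -/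
theorem result (s : Matrix.SpecialLinearGroup (Fin 5) (ZMod 2)) (hs : (s : Matrix (Fin 5) (Fin 5) (ZMod 2)) = Matrix.transvection 0 1 1) : Nat.card (Subgroup.centralizer ({s} : Set (Matrix.SpecialLinearGroup (Fin 5) (ZMod 2)))) = 21504 := by
  haveI : Fact (Nat.Prime 2) := ⟨Nat.prime_two⟩
  set t : GL (Fin 5) (ZMod 2) := Matrix.SpecialLinearGroup.toGL s with ht
  have htc : (t : Matrix (Fin 5) (Fin 5) (ZMod 2)) = 1 + Matrix.single 0 1 1 := by
    rw [ht]
    change (s : Matrix (Fin 5) (Fin 5) (ZMod 2)) = _
    rw [hs]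
    rfl
  have htr : Cfsg.IsTransvection (t : Matrix (Fin 5) (Fin 5) (ZMod 2)) := by
    unfold Cfsg.IsTransvection
    rw [htc, add_sub_cancel_left]
    refine ⟨rank_single_one 0 1, ?_⟩
    rw [Matrix.single_mul_single_of_ne]
    decide
  have h1 := Cfsg.Agent.S2572.result (F := ZMod 2) (q := 2) (n := 5) (ZMod.card 2) (by norm_num) t htr
  have hbij : Function.Bijective (fun x : Subgroup.centralizer ({s} : Set (Matrix.SpecialLinearGroup (Fin 5) (ZMod 2))) =>
      (⟨Matrix.SpecialLinearGroup.toGL x.1, by
        have hx := x.2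
        rw [Subgroup.mem_centralizer_singleton_iff] at hx ⊢
        rw [ht, ← map_mul, ← map_mul, hx]⟩ : Subgroup.centralizer ({t} : Set (GL (Fin 5) (ZMod 2))))) := by
    constructor
    · intro x y h
      have h2 := congrArg Subtype.val h
      exact Subtype.ext (Matrix.SpecialLinearGroup.toGL_injective h2)
    · rintro ⟨g, hg⟩
      have hdet : (g : Matrix (Fin 5) (Fin 5) (ZMod 2)).det = 1 := by
        have h2 : Matrix.GeneralLinearGroup.det g = 1 := units_zmod2 _
        have h3 := congrArg Units.val h2
        rw [Units.val_one] at h3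
        rw [← h3, Matrix.GeneralLinearGroup.val_det_apply]
      obtain ⟨x, hx⟩ : ∃ x : Matrix.SpecialLinearGroup (Fin 5) (ZMod 2),
          Matrix.SpecialLinearGroup.toGL x = g := by
        obtain ⟨x, hx'⟩ : ∃ x : Matrix.SpecialLinearGroup (Fin 5) (ZMod 2),
            (x : Matrix (Fin 5) (Fin 5) (ZMod 2)) = (g : Matrix (Fin 5) (Fin 5) (ZMod 2)) :=
          ⟨⟨(g : Matrix (Fin 5) (Fin 5) (ZMod 2)), hdet⟩, rfl⟩
        refine ⟨x, ?_⟩
        apply Units.ext
        rw [Matrix.SpecialLinearGroup.coe_GL_coe_matrix, hx']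
      have hxs : x ∈ Subgroup.centralizer ({s} : Set (Matrix.SpecialLinearGroup (Fin 5) (ZMod 2))) := by
        rw [Subgroup.mem_centralizer_singleton_iff] at hg ⊢
        apply Matrix.SpecialLinearGroup.toGL_injective
        rw [map_mul, map_mul, hx, ← ht, hg]
      exact ⟨⟨x, hxs⟩, Subtype.ext hx⟩
  rw [Nat.card_congr (Equiv.ofBijective _ hbij), h1]
  simp [Fin.prod_univ_succ]

end Cfsg.Agent.S0445
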