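import Cfsg.Statements.S0447
import Cfsg.Agent.Lib_helper11_DCovE
import Cfsg.Agent.Lib_helper11_DCovF

set_option autoImplicit false
open Cfsg

namespace Cfsg.Agent.S0447

/-- Involutions in double covers of alternating groups: for n ≤ 7, a finite non-split double cover of the alternating group of degree n has exactly one element of order 2 (the central one); for degree 8 there is a non-split double cover with two distinct involutions. -/
theorem result : (∀ (n : ℕ) (H : Type) (_ : Group H) (_ : Finite H), n ≤ 7 → Cfsg.IsNonsplitDoubleCover H (alternatingGroup (Fin n)) → ∀ x y : H, orderOf x = 2 → orderOf y = 2 → x = y) ∧ ∃ (H : Type) (_ : Group H) (_ : Finite H), Cfsg.IsNonsplitDoubleCover H (alternatingGroup (Fin 8)) ∧ ∃ x y : H, x ≠ y ∧ orderOf x = 2 ∧ orderOf y = 2 := by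
  refine ⟨?_, ↥(Cfsg.Agent.helper11.DCov.Gam 8), inferInstance, inferInstance,
    Cfsg.Agent.helper11.DCov.nonsplit_Gam (by norm_num),
    Cfsg.Agent.helper11.DCov.two_invol_Gam (le_refl 8)⟩
  intro n H _ _ hn hcov x y hx hy
  obtain ⟨hc, ⟨e⟩, hns⟩ := hcov
  have hx' := Cfsg.Agent.helper11.DCov2.invol_mem_center hn hc e hns x hx
  have hy' := Cfsg.Agent.helper11.DCov2.invol_mem_center hn hc e hns y hy
  obtain ⟨z0, -, hz0u⟩ := (Nat.card_eq_two_iff' (1 : Subgroup.center H)).mp hc
  have h1 : (⟨x, hx'⟩ : Subgroup.center H) = z0 := by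
    apply hz0u
    intro h
    have : x = 1 := congrArg Subtype.val h
    rw [this, orderOf_one] at hx; omega
  have h2 : (⟨y, hy'⟩ : Subgroup.center H) = z0 := by
    apply hz0u
    intro h
    have : y = 1 := congrArg Subtype.val h
    rw [this, orderOf_one] at hy; omega
  exact congrArg Subtype.val (h1.trans h2.symm)

end Cfsg.Agent.S0447
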