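import Cfsg.Statements.S0481
import Cfsg.Agent.S0443

set_option autoImplicit false
open Cfsg

namespace Cfsg.Agent.S0481

open scoped Pointwise

/-- Under the hypotheses, every Sylow 2-subgroup `P` containing `Q` has centre `{1, z}`:
any central element of `P` is `1` or `z`. -/
theorem center_cases {G : Type*} [Group G] [Finite G] (z : G) (hz : orderOf z = 2) (Q : Subgroup G)
    (hQC : Q ≤ Subgroup.centralizer ({z} : Set G))
    (hZ : Nat.card (Subgroup.center Q) = 2)
    (hlarge : Subgroup.centralizer (Q : Set G) ≤ Q) (P : Subgroup G) (hQP : Q ≤ P)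
    (x : G) (hxP : ∀ y ∈ P, y * x = x * y) : x = 1 ∨ x = z := by
  have hzQc : z ∈ Subgroup.centralizer (Q : Set G) := by
    rw [Subgroup.mem_centralizer_iff]
    intro q hq
    exact (Subgroup.mem_centralizer_iff.1 (hQC hq) z rfl).symm
  have hzQ : z ∈ Q := hlarge hzQc
  have hxQc : x ∈ Subgroup.centralizer (Q : Set G) := by
    rw [Subgroup.mem_centralizer_iff]
    intro q hq
    exact hxP q (hQP hq)
  have hxQ : x ∈ Q := hlarge hxQc
  have hz1 : z ≠ 1 := by
    intro h
    rw [h, orderOf_one] at hz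
    omega
  have hzc : (⟨z, hzQ⟩ : Q) ∈ Subgroup.center Q := by
    rw [Subgroup.mem_center_iff]
    rintro ⟨q, hq⟩
    apply Subtype.ext
    exact Subgroup.mem_centralizer_iff.1 hzQc q hq
  have hxc : (⟨x, hxQ⟩ : Q) ∈ Subgroup.center Q := by
    rw [Subgroup.mem_center_iff]
    rintro ⟨q, hq⟩
    apply Subtype.ext
    exact Subgroup.mem_centralizer_iff.1 hxQc q hq
  obtain ⟨w, _, hw⟩ := (Nat.card_eq_two_iff' (1 : Subgroup.center Q)).1 hZ
  by_cases hx1 : x = 1
  · left; exact hx1
  · right
    have h1 : (⟨⟨x, hxQ⟩, hxc⟩ : Subgroup.center Q) = w := by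
      apply hw
      intro h
      apply hx1
      have := congrArg (fun t : Subgroup.center Q => ((t : Q) : G)) h
      simpa using this
    have h2 : (⟨⟨z, hzQ⟩, hzc⟩ : Subgroup.center Q) = w := by
      apply hw
      intro h
      apply hz1
      have := congrArg (fun t : Subgroup.center Q => ((t : Q) : G)) h
      simpa using this
    have := congrArg (fun t : Subgroup.center Q => ((t : Q) : G)) (h1.trans h2.symm)
    simpa using this

theorem z_central {G : Type*} [Group G] [Finite G] (z : G) (hz : orderOf z = 2) (Q : Subgroup G)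
    (hQC : Q ≤ Subgroup.centralizer ({z} : Set G))
    (hZ : Nat.card (Subgroup.center Q) = 2)
    (hlarge : Subgroup.centralizer (Q : Set G) ≤ Q) (P : Sylow 2 G) (hQP : Q ≤ (P : Subgroup G)) :
    ∀ y ∈ (P : Subgroup G), y * z = z * y := by
  haveI : Fact (Nat.Prime 2) := ⟨Nat.prime_two⟩
  have hzQc : z ∈ Subgroup.centralizer (Q : Set G) := by
    rw [Subgroup.mem_centralizer_iff]
    intro q hq
    exact (Subgroup.mem_centralizer_iff.1 (hQC hq) z rfl).symm
  have hzP : z ∈ (P : Subgroup G) := hQP (hlarge hzQc)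
  have hz1 : z ≠ 1 := by
    intro h
    rw [h, orderOf_one] at hz
    omega
  haveI : Nontrivial (P : Subgroup G) := by
    refine ⟨⟨⟨z, hzP⟩, 1, ?_⟩⟩
    intro h
    apply hz1
    have := congrArg (fun t : (P : Subgroup G) => (t : G)) h
    simpa using this
  haveI := (P.2).center_nontrivial
  obtain ⟨c, hc⟩ := exists_ne (1 : Subgroup.center (P : Subgroup G))
  have hcP : ∀ y ∈ (P : Subgroup G), y * ((c : (P : Subgroup G)) : G) = ((c : (P : Subgroup G)) : G) * y := by
    intro y hy
    have := Subgroup.mem_center_iff.1 c.2 ⟨y, hy⟩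
    have h3 := congrArg (fun t : (P : Subgroup G) => (t : G)) this
    simpa using h3
  rcases center_cases z hz Q hQC hZ hlarge P hQP _ hcP with h1 | h2
  · exfalso
    apply hc
    apply Subtype.ext
    apply Subtype.ext
    simpa using h1
  · rw [← h2]; exact hcP

theorem result {G : Type*} [Group G] [Finite G] (z : G) (hz : orderOf z = 2) (Q : Subgroup G) (hQC : Q ≤ Subgroup.centralizer ({z} : Set G)) (hQn : ∀ g ∈ Subgroup.centralizer ({z} : Set G), ∀ q ∈ Q, g * q * g⁻¹ ∈ Q) (hQ2 : IsPGroup 2 Q) (hZ : Nat.card (Subgroup.center Q) = 2) (hsq : ∀ x : Q, x ^ 2 ∈ Subgroup.center Q) (hlarge : Subgroup.centralizer (Q : Set G) ≤ Q) : (∃ P : Sylow 2 G, (P : Subgroup G) ≤ Subgroup.centralizer ({z} : Set G)) ∧ ∀ u : G, orderOf u = 2 → (∃ P : Sylow 2 G, (P : Subgroup G) ≤ Subgroup.centralizer ({u} : Set G)) → IsConj z u := by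
  haveI : Fact (Nat.Prime 2) := ⟨Nat.prime_two⟩
  obtain ⟨P, hQP⟩ := hQ2.exists_le_sylow
  have hzc := z_central z hz Q hQC hZ hlarge P hQP
  have hPz : (P : Subgroup G) ≤ Subgroup.centralizer ({z} : Set G) := by
    intro y hy
    rw [Subgroup.mem_centralizer_iff]
    intro t ht
    rw [Set.mem_singleton_iff] at ht
    subst ht
    exact (hzc y hy).symm
  refine ⟨⟨P, hPz⟩, ?_⟩
  rintro u hu ⟨P', hP'⟩
  obtain ⟨g, hg⟩ := MulAction.exists_smul_eq G P' P
  -- u' = g u g⁻¹ centralizes P
  set u' := g * u * g⁻¹ with hu'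
  have hu'ord : orderOf u' = 2 := by
    have := orderOf_injective (MulAut.conj g).toMonoidHom (MulAut.conj g).injective u
    simp only [MulEquiv.coe_toMonoidHom, MulAut.conj_apply] at this
    rw [hu', this, hu]
  have hPu' : (P : Subgroup G) ≤ Subgroup.centralizer ({u'} : Set G) := by
    intro y hy
    rw [← hg, Sylow.coe_subgroup_smul, Subgroup.mem_pointwise_smul_iff_inv_smul_mem] at hy
    have h1 := Subgroup.mem_centralizer_iff.1 (hP' hy) u rfl
    rw [MulAut.smul_def, MulAut.conj_inv_apply] at h1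
    rw [Subgroup.mem_centralizer_iff]
    intro t ht
    rw [Set.mem_singleton_iff] at ht
    subst ht
    rw [hu']
    have e1 : g * u * g⁻¹ * y = g * (u * (g⁻¹ * y * g)) * g⁻¹ := by group
    rw [e1, h1]
    group
  have hu'P : u' ∈ (P : Subgroup G) := Cfsg.Agent.S0443.mem_sylow_of_centralizes u' hu'ord P hPu'
  have hu'c : ∀ y ∈ (P : Subgroup G), y * u' = u' * y := by
    intro y hy
    exact (Subgroup.mem_centralizer_iff.1 (hPu' hy) u' rfl).symm
  have hu'1 : u' ≠ 1 := by
    intro h
    rw [h, orderOf_one] at hu'ord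
    omega
  rcases center_cases z hz Q hQC hZ hlarge P hQP u' hu'c with h1 | h2
  · exact absurd h1 hu'1
  · rw [isConj_comm, isConj_iff]
    exact ⟨g, by rw [← h2]⟩

end Cfsg.Agent.S0481
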