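import Mathlib
import Cfsg.Statements.S0499
import Cfsg.Agent.S0071
import Cfsg.Agent.Lib_lead_AutFix

set_option autoImplicit false
open Cfsg

namespace Cfsg.Agent.S0499

/-- A finite simple `p`-group is commutative. -/
theorem comm_of_simple_pgroup {G : Type*} [Group G] [Finite G] [IsSimpleGroup G] {p : ℕ}
    [Fact p.Prime] (hPG : IsPGroup p G) : ∀ a b : G, a * b = b * a := by
  have : Nontrivial G := IsSimpleGroup.toNontrivial
  have hc : Nontrivial (Subgroup.center G) := hPG.center_nontrivial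
  have hcn : (Subgroup.center G) = ⊤ := by
    rcases (inferInstance : (Subgroup.center G).Normal).eq_bot_or_eq_top with h | h
    · exfalso
      rw [Subgroup.nontrivial_iff_ne_bot] at hc
      exact hc h
    · exact h
  intro a b
  have : a ∈ Subgroup.center G := by rw [hcn]; trivial
  exact (Subgroup.mem_center_iff.mp this b).symm

/-- Numerical core: an odd prime `r` dividing `2^k - 2^j` with `j < k ≤ 3`. -/
theorem numerics (r k j : ℕ) (hr : r.Prime) (hr2 : r ≠ 2) (hjk : j < k) (hk : k ≤ 3)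
    (h : 2 ^ k ≡ 2 ^ j [MOD r]) : (r = 3 ∧ 2 ≤ k) ∨ (r = 7 ∧ k = 3) := by
  have hle : 2 ^ j ≤ 2 ^ k := Nat.pow_le_pow_right (by norm_num) hjk.le
  have hdvd : r ∣ 2 ^ k - 2 ^ j := (Nat.modEq_iff_dvd' hle).mp h.symm
  have hpos : 0 < 2 ^ k - 2 ^ j := by
    have : 2 ^ j < 2 ^ k := Nat.pow_lt_pow_right (by norm_num) hjk
    omega
  have hrle : r ≤ 2 ^ k - 2 ^ j := Nat.le_of_dvd hpos hdvd
  have h2 := hr.two_le
  interval_cases k <;> interval_cases j <;> norm_num at hrle hdvd ⊢ <;>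
    (interval_cases r <;> first | omega | (exfalso; revert hr; norm_num; done) | (exfalso; revert hdvd; norm_num; done))

/-- A non-abelian finite simple group of even order has order divisible by 12, 16 or 56. -/
theorem result {G : Type*} [Group G] [Finite G] [IsSimpleGroup G]
    (hG : ¬ IsMulCommutative G) (h2 : Even (Nat.card G)) :
    12 ∣ Nat.card G ∨ 16 ∣ Nat.card G ∨ 56 ∣ Nat.card G := by
  classical
  haveI : Fact (Nat.Prime 2) := ⟨Nat.prime_two⟩
  by_cases h16 : 16 ∣ Nat.card G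
  · exact Or.inr (Or.inl h16)
  obtain ⟨P⟩ : Nonempty (Sylow 2 G) := inferInstance
  have hP1 : (P : Subgroup G) ≠ ⊥ :=
    Sylow.ne_bot_of_dvd_card P (even_iff_two_dvd.mp h2)
  have hP2 : (P : Subgroup G) ≠ ⊤ := by
    intro ht
    apply hG
    have hPG : IsPGroup 2 G := by
      have := P.isPGroup'
      rw [ht] at this
      exact IsPGroup.of_equiv this Subgroup.topEquiv
    exact ⟨⟨comm_of_simple_pgroup hPG⟩⟩
  -- no normal complement
  have hno : ¬ ∃ N : Subgroup G, N.Normal ∧ N.IsComplement' (P : Subgroup G) := by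
    rintro ⟨N, hN, hNP⟩
    rcases hN.eq_bot_or_eq_top with h | h
    · rw [h] at hNP
      exact hP2 (Subgroup.isComplement'_bot_left.mp hNP)
    · rw [h] at hNP
      exact hP1 (Subgroup.isComplement'_top_left.mp hNP)
  rw [Cfsg.Agent.S0071.result P] at hno
  push Not at hno
  obtain ⟨Q, hQP, g, hgN, hcop, hgC⟩ := hno
  -- the automorphism induced by g
  set φ : MulAut Q := Q.normalizerMonoidHom ⟨g, hgN⟩ with hφ
  have hφ1 : φ ≠ 1 := by
    intro h1
    have : (⟨g, hgN⟩ : Subgroup.normalizer (Q : Set G)) ∈ Q.normalizerMonoidHom.ker := h1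
    rw [Subgroup.normalizerMonoidHom_ker, Subgroup.mem_subgroupOf] at this
    exact hgC this
  have hord : orderOf φ ∣ orderOf g := by
    have := orderOf_map_dvd Q.normalizerMonoidHom (⟨g, hgN⟩ : Subgroup.normalizer (Q : Set G))
    rwa [Subgroup.orderOf_mk] at this
  have hn1 : orderOf φ ≠ 1 := by
    rw [Ne, orderOf_eq_one_iff]
    exact hφ1
  obtain ⟨r, hr, hrdvd⟩ := Nat.exists_prime_and_dvd hn1
  have hr2 : r ≠ 2 := by
    rintro rfl
    have : 2 ∣ orderOf g := hrdvd.trans hord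
    have := Nat.Coprime.eq_one_of_dvd hcop.symm this
    omega
  have hrG : r ∣ Nat.card G := (hrdvd.trans hord).trans (orderOf_dvd_natCard g)
  have hgpos : 0 < orderOf g := orderOf_pos g
  have hφpos : 0 < orderOf φ := Nat.pos_of_dvd_of_pos hord hgpos
  have hφ' : orderOf (φ ^ (orderOf φ / r)) = r := by
    rw [orderOf_pow_orderOf_div hφpos.ne' hrdvd]
  obtain ⟨F, hFtop, hmod⟩ := Cfsg.Agent.lead.aut_prime_fixed (φ ^ (orderOf φ / r)) r hr hφ'
  -- orders
  have hQ2 : IsPGroup 2 Q := P.isPGroup'.to_le hQP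
  obtain ⟨k, hk⟩ := hQ2.exists_card_eq
  obtain ⟨j, hj⟩ := (hQ2.to_subgroup F).exists_card_eq
  have hkG : 2 ^ k ∣ Nat.card G := hk ▸ Subgroup.card_subgroup_dvd_card Q
  have hk3 : k ≤ 3 := by
    by_contra hk4
    push Not at hk4
    apply h16
    exact (pow_dvd_pow 2 hk4 : 2 ^ 4 ∣ 2 ^ k).trans hkG
  have hjk : j < k := by
    have h1 : Nat.card F ∣ Nat.card Q := Subgroup.card_subgroup_dvd_card F
    rw [hk, hj] at h1
    have hjk' : j ≤ k := (Nat.pow_dvd_pow_iff_le_right (by norm_num)).mp h1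
    rcases hjk'.lt_or_eq with h | h
    · exact h
    · exfalso
      apply hFtop
      apply (Subgroup.card_eq_iff_eq_top F).mp
      rw [hj, hk, h]
  rw [hk, hj] at hmod
  have hcopr : Nat.Coprime r (2 ^ k) := by
    apply Nat.Coprime.pow_right
    rw [Nat.coprime_primes hr Nat.prime_two]
    exact hr2
  have hprod : r * 2 ^ k ∣ Nat.card G := hcopr.mul_dvd_of_dvd_of_dvd hrG hkG
  rcases numerics r k j hr hr2 hjk hk3 hmod with ⟨rfl, hk2⟩ | ⟨rfl, rfl⟩
  · left
    refine Dvd.dvd.trans ?_ hprod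
    have : (2 : ℕ) ^ 2 ∣ 2 ^ k := pow_dvd_pow 2 hk2
    obtain ⟨c, hc⟩ := this
    exact ⟨c, by rw [hc]; ring⟩
  · right; right
    refine Dvd.dvd.trans ?_ hprod
    norm_num

end Cfsg.Agent.S0499
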