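import Cfsg.Statements.S0502
import Cfsg.Agent.Lib_helper19_Pairing
import Cfsg.Agent.Lib_helper6_Klein
import Cfsg.Agent.Lib_helper1_Klein

set_option autoImplicit false
open Cfsg

namespace Cfsg.Agent.S0502


open Cfsg.Agent.helper6.Klein

variable {P : Type*} [Group P]

/-- The commuting relation on four-subgroups. -/
def R (A B : Subgroup P) : Prop :=
  IsKleinFour A ∧ IsKleinFour B ∧ ∀ a ∈ A, ∀ b ∈ B, a * b = b * a

theorem R_symm {A B : Subgroup P} (h : R A B) : R B A :=
  ⟨h.2.1, h.1, fun b hb a ha => (h.2.2 a ha b hb).symm⟩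

theorem rtg_symm {A B : Subgroup P} (h : Relation.ReflTransGen R A B) :
    Relation.ReflTransGen R B A :=
  by
  induction h with
  | refl => exact Relation.ReflTransGen.refl
  | tail _ hbc ih => exact Relation.ReflTransGen.head (R_symm hbc) ih

theorem four_le_centralizer {a c : P} {ha : a * a = 1} {hc : c * c = 1} {hac : a * c = c * a}
    (T : Set P) (h1 : a ∈ Subgroup.centralizer T) (h2 : c ∈ Subgroup.centralizer T) :
    four a c ha hc hac ≤ Subgroup.centralizer T := by
  intro x hx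
  rcases hx with rfl | rfl | rfl | rfl
  · exact Subgroup.one_mem _
  · exact h1
  · exact h2
  · exact Subgroup.mul_mem _ h1 h2

theorem mem_centralizer_four {x a c : P} {ha : a * a = 1} {hc : c * c = 1} {hac : a * c = c * a}
    (h1 : x * a = a * x) (h2 : x * c = c * x) :
    x ∈ Subgroup.centralizer (four a c ha hc hac : Set P) := by
  rw [Subgroup.mem_centralizer_iff]
  intro y hy
  rcases hy with rfl | rfl | rfl | rfl
  · simp
  · exact h1.symm
  · exact h2.symm
  · rw [mul_assoc, ← h2, ← mul_assoc, ← h1, mul_assoc]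

/-- Two four-groups with commuting generators commute elementwise. -/
theorem R_four {a c a' c' : P} (ha : a * a = 1) (hc : c * c = 1) (hac : a * c = c * a)
    (ha' : a' * a' = 1) (hc' : c' * c' = 1) (hac' : a' * c' = c' * a')
    (hA : IsKleinFour (four a c ha hc hac)) (hB : IsKleinFour (four a' c' ha' hc' hac'))
    (h1 : a * a' = a' * a) (h2 : a * c' = c' * a) (h3 : c * a' = a' * c) (h4 : c * c' = c' * c) :
    R (four a c ha hc hac) (four a' c' ha' hc' hac') := by
  refine ⟨hA, hB, fun x hx y hy => ?_⟩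
  have := four_le_centralizer (ha := ha) (hc := hc) (hac := hac)
    (four a' c' ha' hc' hac' : Set P) (mem_centralizer_four h1 h2) (mem_centralizer_four h3 h4) hx
  exact ((Subgroup.mem_centralizer_iff.mp this) y hy).symm

theorem exists_not_mem (E : Subgroup P) (F : Finset P) (h : F.card < Nat.card E) :
    ∃ e ∈ E, e ∉ F := by
  by_contra hcon
  push Not at hcon
  have h1 : (E : Set P) ⊆ (F : Set P) := fun e he => hcon e he
  have h2 := Nat.card_mono (Finset.finite_toSet F) h1
  have h3 : Nat.card ((F : Set P)) = F.card := by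
    rw [Nat.card_eq_fintype_card]; simp
  rw [h3] at h2
  have h4 : Nat.card (E : Set P) = Nat.card E := rfl
  omega

/-- The centralizer in `E` of an involution has an element outside `{1, z}`. -/
theorem exists_centralized (E : Subgroup P) [E.Normal]
    (hE : ∀ x ∈ E, ∀ y ∈ E, x * y = y * x) (hE2 : ∀ e ∈ E, e * e = 1) (hE8 : 8 ≤ Nat.card E)
    (a z : P) (ha : a * a = 1) (hzE : z ∈ E) (hzZ : ∀ g : P, g * z = z * g) :
    ∃ y ∈ E, a * y = y * a ∧ y ≠ 1 ∧ y ≠ z := by
  classical
  by_contra hcon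
  push Not at hcon
  have hainv : a⁻¹ = a := inv_eq_of_mul_eq_one_right ha
  have hconj : ∀ e ∈ E, a * e * a ∈ E := fun e he => by
    have := ‹E.Normal›.conj_mem e he a
    rwa [hainv] at this
  -- f e = e * (a e a)
  have hfE : ∀ e ∈ E, e * (a * e * a) ∈ E := fun e he => E.mul_mem he (hconj e he)
  have hfC : ∀ e ∈ E, a * (e * (a * e * a)) = (e * (a * e * a)) * a := by
    intro e he
    have h1 := hE e he (a * e * a) (hconj e he)
    calc a * (e * (a * e * a)) = (a * e * a) * e * (a * a) * a⁻¹ := by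
            rw [hainv]; simp only [mul_assoc]; rw [ha, mul_one]
      _ = (a * e * a) * e * a := by rw [ha, mul_one, hainv]
      _ = e * (a * e * a) * a := by rw [h1]
  have hf1 : ∀ e ∈ E, e * (a * e * a) = 1 → a * e = e * a := by
    intro e he h
    have h1 : a * e * a = e := by
      have := hE2 e he
      calc a * e * a = e * e * (a * e * a) := by rw [this, one_mul]
        _ = e * (e * (a * e * a)) := by rw [mul_assoc]
        _ = e := by rw [h, mul_one]
    calc a * e = a * e * (a * a) := by rw [ha, mul_one]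
      _ = (a * e * a) * a := by simp only [mul_assoc]
      _ = e * a := by rw [h1]
  have hfz : ∀ e ∈ E, e ≠ 1 → e ≠ z → e * (a * e * a) = z := by
    intro e he he1 hez
    have h1 := hcon _ (hfE e he) (hfC e he)
    by_cases h2 : e * (a * e * a) = 1
    · exact absurd (hcon e he (hf1 e he h2) he1) hez
    · exact h1 h2
  obtain ⟨e₁, he₁, hn₁⟩ := exists_not_mem E {1, z}
    (lt_of_le_of_lt Finset.card_le_two (by omega))
  obtain ⟨e₂, he₂, hn₂⟩ := exists_not_mem E {1, z, e₁, e₁ * z}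
    (lt_of_le_of_lt Finset.card_le_four (by omega))
  simp only [Finset.mem_insert, Finset.mem_singleton, not_or] at hn₁ hn₂
  have h1 := hfz e₁ he₁ hn₁.1 hn₁.2
  have h2 := hfz e₂ he₂ hn₂.1 hn₂.2.1
  have he12 : e₁ * e₂ ∈ E := E.mul_mem he₁ he₂
  -- f (e₁ e₂) = z * z = 1
  have h3 : (e₁ * e₂) * (a * (e₁ * e₂) * a) = 1 := by
    have hc1 := hE e₂ he₂ (a * e₁ * a) (hconj e₁ he₁)
    have hc12 : a * (e₁ * e₂) * a = (a * e₁ * a) * (a * e₂ * a) := by
      calc a * (e₁ * e₂) * a = a * e₁ * 1 * (e₂ * a) := by simp only [mul_assoc, one_mul]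
        _ = a * e₁ * (a * a) * (e₂ * a) := by rw [ha]
        _ = (a * e₁ * a) * (a * e₂ * a) := by simp only [mul_assoc]
    calc (e₁ * e₂) * (a * (e₁ * e₂) * a)
        = e₁ * (e₂ * (a * e₁ * a)) * (a * e₂ * a) := by
          rw [hc12]; simp only [mul_assoc]
      _ = e₁ * ((a * e₁ * a) * e₂) * (a * e₂ * a) := by rw [hc1]
      _ = (e₁ * (a * e₁ * a)) * (e₂ * (a * e₂ * a)) := by simp only [mul_assoc]
      _ = 1 := by rw [h1, h2, hE2 z hzE]
  have h4 := hf1 _ he12 h3
  by_cases h5 : e₁ * e₂ = 1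
  · apply hn₂.2.2.1
    have := hE2 e₁ he₁
    calc e₂ = (e₁ * e₁) * e₂ := by rw [this, one_mul]
      _ = e₁ * (e₁ * e₂) := by rw [mul_assoc]
      _ = e₁ := by rw [h5, mul_one]
  · have h6 := hcon _ he12 h4 h5
    apply hn₂.2.2.2
    have := hE2 e₁ he₁
    calc e₂ = (e₁ * e₁) * e₂ := by rw [this, one_mul]
      _ = e₁ * (e₁ * e₂) := by rw [mul_assoc]
      _ = e₁ * z := by rw [h6]

/-- Every four-subgroup is connected to a four-subgroup of `E`. -/
theorem to_E [Finite P] (hP : IsPGroup 2 P) (E : Subgroup P) [E.Normal]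
    (hE : ∀ x ∈ E, ∀ y ∈ E, x * y = y * x) (hE2 : ∀ e ∈ E, e * e = 1) (hE8 : 8 ≤ Nat.card E)
    (U : Subgroup P) (hU : IsKleinFour U) :
    ∃ A : Subgroup P, IsKleinFour A ∧ A ≤ E ∧ Relation.ReflTransGen R U A := by
  haveI : Fact (Nat.Prime 2) := ⟨Nat.prime_two⟩
  have hEne : E ≠ ⊥ := by
    rintro rfl
    rw [Subgroup.card_bot] at hE8
    omega
  obtain ⟨z, hz, hz1⟩ := (Subgroup.bot_or_exists_ne_one _).resolve_left
    (helper19.inf_center_ne_bot_of_normal hP E hEne)
  have hzE : z ∈ E := hz.1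
  have hzZ : ∀ g : P, g * z = z * g := fun g => Subgroup.mem_center_iff.mp hz.2 g
  have hzz : z * z = 1 := hE2 z hzE
  obtain ⟨a, b, haU, hbU, ha1, hb1, hab, -, hsq, hcomm⟩ := helper1.klein_structure U hU
  -- pick a' ∈ U with a' ≠ 1, a' ≠ z
  obtain ⟨a', ha'U, ha'1, ha'z⟩ : ∃ a' ∈ U, a' ≠ 1 ∧ a' ≠ z := by
    by_cases h : a = z
    · exact ⟨b, hbU, hb1, fun hbz => hab (h.trans hbz.symm)⟩
    · exact ⟨a, haU, ha1, h⟩
  have ha'a' : a' * a' = 1 := hsq a' ha'U
  obtain ⟨y, hyE, hay, hy1, hyz⟩ := exists_centralized E hE hE2 hE8 a' z ha'a' hzE hzZ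
  have hyy : y * y = 1 := hE2 y hyE
  have hK1 : IsKleinFour (four a' z ha'a' hzz (hzZ a')) :=
    isKleinFour_four ha'a' hzz (hzZ a') ha'1 hz1 ha'z
  have hK2 : IsKleinFour (four z y hzz hyy (hzZ y).symm) :=
    isKleinFour_four hzz hyy (hzZ y).symm hz1 hy1 (Ne.symm hyz)
  refine ⟨four z y hzz hyy (hzZ y).symm, hK2, ?_, ?_⟩
  · intro x hx
    rcases hx with rfl | rfl | rfl | rfl
    · exact E.one_mem
    · exact hzE
    · exact hyE
    · exact E.mul_mem hzE hyE
  · have hR1 : R U (four a' z ha'a' hzz (hzZ a')) := by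
      refine ⟨hU, hK1, fun u hu x hx => ?_⟩
      have := mem_centralizer_four (ha := ha'a') (hc := hzz) (hac := hzZ a')
        (hcomm u hu a' ha'U) (hzZ u)
      exact ((Subgroup.mem_centralizer_iff.mp this) x hx).symm
    have hR2 : R (four a' z ha'a' hzz (hzZ a')) (four z y hzz hyy (hzZ y).symm) :=
      R_four ha'a' hzz (hzZ a') hzz hyy (hzZ y).symm hK1 hK2 (hzZ a') hay rfl (hzZ y).symm
    exact (Relation.ReflTransGen.single hR1).trans (Relation.ReflTransGen.single hR2)

/-- If a finite 2-group has a normal elementary abelian subgroup of order at least 8, then any two of its Klein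
four-subgroups are joined by a chain of Klein four-subgroups with consecutive members commuting elementwise. -/
theorem result {P : Type*} [Group P] [Finite P] (hP : IsPGroup 2 P)
    (E : Subgroup P) [E.Normal] (hE : IsMulCommutative E) (hE2 : ∀ e ∈ E, e ^ 2 = 1) (hE8 : 8 ≤ Nat.card E) :
    Cfsg.IsFourConnected P := by
  have hEc : ∀ x ∈ E, ∀ y ∈ E, x * y = y * x := fun x hx y hy =>
    congrArg Subtype.val (hE.is_comm.comm ⟨x, hx⟩ ⟨y, hy⟩)
  have hEs : ∀ e ∈ E, e * e = 1 := fun e he => by rw [← sq]; exact hE2 e he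
  intro U V hU hV
  obtain ⟨A, hA, hAE, hUA⟩ := to_E hP E hEc hEs hE8 U hU
  obtain ⟨B, hB, hBE, hVB⟩ := to_E hP E hEc hEs hE8 V hV
  have hAB : R A B := ⟨hA, hB, fun a ha b hb => hEc a (hAE ha) b (hBE hb)⟩
  exact (hUA.trans (Relation.ReflTransGen.single hAB)).trans (rtg_symm hVB)

end Cfsg.Agent.S0502
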