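import Cfsg.Statements.S0505
import Cfsg.Agent.Lib_helper7_Balance3
import Cfsg.Agent.S1264
import Cfsg.Agent.Lib_helper1_Core

set_option autoImplicit false
open Cfsg

namespace Cfsg.Agent.S0505


/-- In a finite group `M` with `O(M) = 1`, `F(M) ≤ O₂(M)`. -/
theorem fitting_le_pCore_two {M : Type*} [Group M] [Finite M] (hO : Cfsg.pPrimeCore 2 M = ⊥) :
    Cfsg.fittingSubgroup M ≤ Cfsg.pCore 2 M := by
  rw [helper1.fitting_eq_iSup_pCore]
  apply iSup_le
  intro q
  by_cases hq : (q : ℕ) = 2
  · rw [hq]
  · have h1 : Cfsg.pCore (q : ℕ) M ≤ Cfsg.pPrimeCore 2 M := by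
      apply le_sSup
      refine ⟨helper1.pCore_normal (q : ℕ), ?_⟩
      haveI : Fact (q : ℕ).Prime := ⟨q.2⟩
      obtain ⟨k, hk⟩ := IsPGroup.iff_card.1 (helper1.pCore_isPGroup (G := M) (q : ℕ))
      rw [hk]
      apply Nat.Coprime.pow_left
      exact (Nat.coprime_primes q.2 Nat.prime_two).mpr hq
    rw [hO] at h1
    exact h1.trans bot_le

/-- If `O(M) = 1` and `C_M(O₂(M))` is solvable then `C_M(O₂(M)) ≤ O₂(M)`. -/
theorem main {M : Type*} [Group M] [Finite M] (hO : Cfsg.pPrimeCore 2 M = ⊥)
    (hsolv : Group.IsSolvable ↥(Subgroup.centralizer (Cfsg.pCore 2 M : Set M))) :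
    Subgroup.centralizer (Cfsg.pCore 2 M : Set M) ≤ Cfsg.pCore 2 M := by
  haveI : Fact (Nat.Prime 2) := ⟨Nat.prime_two⟩
  have hF : Cfsg.fittingSubgroup M = Cfsg.pCore 2 M :=
    le_antisymm (fitting_le_pCore_two hO) (helper1.pCore_le_fitting 2)
  have h := S1264.result (Subgroup.centralizer (Cfsg.pCore 2 M : Set M))
    (by rw [hF]) (by rw [hF]; exact Subgroup.le_normalizer) hsolv
  exact h.trans ((Subgroup.map_subtype_le _).trans hF.le)

/-- Let G be a finite group of even order in which the centralizer of every involution is solvable and has trivial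
core (no nontrivial normal subgroup of odd order). Then G is of characteristic 2 type. -/
theorem result {G : Type*} [Group G] [Finite G]
    (h2 : Even (Nat.card G))
    (hs : ∀ t : G, orderOf t = 2 → Group.IsSolvable (Subgroup.centralizer ({t} : Set G)))
    (hc : ∀ t : G, orderOf t = 2 → Cfsg.oddCore (Subgroup.centralizer ({t} : Set G)) = ⊥) :
    Cfsg.IsCharacteristicTwoType G := by
  haveI : Fact (Nat.Prime 2) := ⟨Nat.prime_two⟩
  refine ⟨h2, fun T hT hTne => ?_⟩
  -- a central involution of `T`
  obtain ⟨t, htT, ht2, htc⟩ : ∃ t ∈ T, orderOf t = 2 ∧ ∀ x ∈ T, x * t = t * x := by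
    haveI : Nontrivial T := (Subgroup.nontrivial_iff_ne_bot T).mpr hTne
    haveI : Nontrivial (Subgroup.center T) := hT.center_nontrivial
    have hZ : IsPGroup 2 (Subgroup.center T) := hT.to_subgroup _
    obtain ⟨k, hk⟩ := IsPGroup.iff_card.1 hZ
    have hk0 : k ≠ 0 := by
      rintro rfl
      rw [pow_zero] at hk
      exact (Finite.one_lt_card (α := Subgroup.center T)).ne' hk
    have hdvd : 2 ∣ Nat.card (Subgroup.center T) := by rw [hk]; exact dvd_pow_self 2 hk0
    obtain ⟨z, hz⟩ := exists_prime_orderOf_dvd_card' 2 hdvd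
    refine ⟨((z : T) : G), (z : T).2, ?_, ?_⟩
    · rw [Subgroup.orderOf_coe, Subgroup.orderOf_coe]; exact hz
    · intro x hx
      have := Subgroup.mem_center_iff.mp z.2 ⟨x, hx⟩
      exact congrArg Subtype.val this
  have hsC := hs t ht2
  have hcC : Cfsg.pPrimeCore 2 ↥(Subgroup.centralizer ({t} : Set G)) = ⊥ := hc t ht2
  have hTC : T ≤ Subgroup.centralizer ({t} : Set G) := by
    intro x hx
    rw [Subgroup.mem_centralizer_iff]
    intro y hy
    rw [Set.mem_singleton_iff] at hy
    subst hy
    exact (htc x hx).symm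
  -- `X := O(N)` mapped into `G`
  have hXN : (Cfsg.pPrimeCore 2 ↥(Subgroup.normalizer (T : Set G))).map
      (Subgroup.normalizer (T : Set G)).subtype ≤ Subgroup.normalizer (T : Set G) :=
    Subgroup.map_subtype_le _
  have hXc : (Nat.card ↥((Cfsg.pPrimeCore 2 ↥(Subgroup.normalizer (T : Set G))).map
      (Subgroup.normalizer (T : Set G)).subtype)).Coprime 2 := by
    rw [helper7.card_map_subtype]; exact helper7.pPrimeCore_coprime Nat.prime_two
  have hNX : Subgroup.normalizer (T : Set G) ≤ Subgroup.normalizer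
      (((Cfsg.pPrimeCore 2 ↥(Subgroup.normalizer (T : Set G))).map
      (Subgroup.normalizer (T : Set G)).subtype : Subgroup G) : Set G) := by
    rw [helper7.map_pPrimeCore_eq Nat.prime_two]
    exact helper7.piCoreIn_normal _ _
  have hdisj : (Cfsg.pPrimeCore 2 ↥(Subgroup.normalizer (T : Set G))).map
      (Subgroup.normalizer (T : Set G)).subtype ⊓ T = ⊥ := by
    apply Subgroup.inf_eq_bot_of_coprime
    obtain ⟨k, hk⟩ := IsPGroup.iff_card.1 hT
    rw [hk]
    exact Nat.Coprime.pow_right k hXc
  have hXT : (Cfsg.pPrimeCore 2 ↥(Subgroup.normalizer (T : Set G))).map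
      (Subgroup.normalizer (T : Set G)).subtype ≤ Subgroup.centralizer (T : Set G) := by
    intro x hx
    rw [Subgroup.mem_centralizer_iff]
    intro a ha
    have h1 : x * a * x⁻¹ * a⁻¹ ∈ (Cfsg.pPrimeCore 2 ↥(Subgroup.normalizer (T : Set G))).map
      (Subgroup.normalizer (T : Set G)).subtype ⊓ T := by
      constructor
      · have h2 := (Subgroup.mem_normalizer_iff.1 (hNX (Subgroup.le_normalizer ha)) x⁻¹).1
          (Subgroup.inv_mem _ hx)
        have : x * a * x⁻¹ * a⁻¹ = x * (a * x⁻¹ * a⁻¹) := by group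
        rw [this]
        exact Subgroup.mul_mem _ hx h2
      · have h2 := (Subgroup.mem_normalizer_iff.1 (hXN hx) a).1 ha
        exact T.mul_mem h2 (T.inv_mem ha)
    rw [hdisj, Subgroup.mem_bot] at h1
    calc a * x = (x * a * x⁻¹ * a⁻¹)⁻¹ * (x * a) := by group
      _ = x * a := by rw [h1]; group
  have hXC : (Cfsg.pPrimeCore 2 ↥(Subgroup.normalizer (T : Set G))).map
      (Subgroup.normalizer (T : Set G)).subtype ≤ Subgroup.centralizer ({t} : Set G) :=
    hXT.trans (Subgroup.centralizer_le (by simpa using htT))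
  have hXbot := helper7.balance_pprime_sub Nat.prime_two
    (helper7.pLayer_eq_bot_of_solvable 2 hsC) hTC hXC hT hXc hXT
    (inf_le_right.trans ((Subgroup.centralizer_le_normalizer _).trans hNX))
  rw [hcC, Subgroup.map_bot, le_bot_iff] at hXbot
  have hON : Cfsg.pPrimeCore 2 ↥(Subgroup.normalizer (T : Set G)) = ⊥ :=
    (Subgroup.map_eq_bot_iff_of_injective _ (Subgroup.subtype_injective _)).mp hXbot
  -- `T ≤ O₂(N)`
  have hT'n : (T.subgroupOf (Subgroup.normalizer (T : Set G))).Normal :=
    Subgroup.normal_in_normalizer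
  have hT'p : IsPGroup 2 (T.subgroupOf (Subgroup.normalizer (T : Set G))) :=
    hT.comap_of_injective _ (Subgroup.subtype_injective _)
  have hT'le : T.subgroupOf (Subgroup.normalizer (T : Set G)) ≤
      Cfsg.pCore 2 ↥(Subgroup.normalizer (T : Set G)) := helper1.le_pCore hT'n hT'p
  -- solvability of `C_N(O₂(N))`
  have hKs : Group.IsSolvable ↥(Subgroup.centralizer
      (Cfsg.pCore 2 ↥(Subgroup.normalizer (T : Set G)) : Set ↥(Subgroup.normalizer (T : Set G)))) := by
    let f : ↥(Subgroup.centralizer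
        (Cfsg.pCore 2 ↥(Subgroup.normalizer (T : Set G)) : Set ↥(Subgroup.normalizer (T : Set G)))) →*
        ↥(Subgroup.centralizer ({t} : Set G)) :=
      ((Subgroup.normalizer (T : Set G)).subtype.comp (Subgroup.subtype _)).codRestrict
        (Subgroup.centralizer ({t} : Set G)) (by
        intro k
        rw [Subgroup.mem_centralizer_iff]
        intro y hy
        rw [Set.mem_singleton_iff] at hy
        subst hy
        have htN : y ∈ Subgroup.normalizer (T : Set G) := Subgroup.le_normalizer htT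
        have ht' : (⟨y, htN⟩ : ↥(Subgroup.normalizer (T : Set G))) ∈
            Cfsg.pCore 2 ↥(Subgroup.normalizer (T : Set G)) :=
          hT'le (Subgroup.mem_subgroupOf.mpr htT)
        have := Subgroup.mem_centralizer_iff.mp k.2 ⟨y, htN⟩ ht'
        exact congrArg Subtype.val this)
    have hf : Function.Injective f := by
      intro a b hab
      have := congrArg Subtype.val hab
      exact Subtype.ext (Subtype.ext this)
    exact solvable_of_solvable_injective hf
  exact main hON hKs

end Cfsg.Agent.S0505
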