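import Mathlib
import Cfsg.Statements.S0519
import Cfsg.Agent.S3761
import Cfsg.Agent.S0129

set_option autoImplicit false

open Cfsg

namespace Cfsg.Agent.S0519

/-- Let P be a finite p-group in which every abelian normal subgroup is cyclic, but which has a non-cyclic abelian subgroup. Then p = 2 and P is generalized quaternion, dihedral of order at least 16, or quasi-dihedral. -/
theorem result {P : Type*} [Group P] [Finite P] (p : ℕ) [Fact p.Prime]
    (hP : IsPGroup p P) (hn : ∀ A : Subgroup P, A.Normal → IsMulCommutative A → IsCyclic A)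
    (hm : ∃ B : Subgroup P, IsMulCommutative B ∧ ¬ IsCyclic B) :
    p = 2 ∧ ((∃ n : ℕ, Nonempty (P ≃* QuaternionGroup n)) ∨ (∃ n : ℕ, 8 ≤ n ∧ Nonempty (P ≃* DihedralGroup n)) ∨
      Cfsg.IsQuasiDihedral P) := by
  have hpp : p.Prime := Fact.out
  obtain ⟨B, hBab, hBnc⟩ := hm
  have hna : ¬ IsMulCommutative P := by
    intro hab
    have h1 : IsMulCommutative (⊤ : Subgroup P) :=
      ⟨⟨fun a b => Subtype.ext (hab.is_comm.comm a.1 b.1)⟩⟩
    have h2 : IsCyclic (⊤ : Subgroup P) := hn ⊤ inferInstance h1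
    haveI : IsCyclic P := by
      obtain ⟨⟨g, hg⟩, hgen⟩ := h2.exists_generator
      refine ⟨⟨g, fun x => ?_⟩⟩
      have h3 := hgen ⟨x, Subgroup.mem_top x⟩
      obtain ⟨k, hk⟩ := Subgroup.mem_zpowers_iff.mp h3
      exact ⟨k, by have h4 := congrArg Subtype.val hk; simpa using h4⟩
    exact hBnc inferInstance
  have hbot : IsMulCommutative (⊥ : Subgroup P) := ⟨⟨fun a b => by
    have ha := Subgroup.mem_bot.mp a.2
    have hb := Subgroup.mem_bot.mp b.2
    exact Subtype.ext (by rw [Subgroup.coe_mul, Subgroup.coe_mul, ha, hb])⟩⟩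
  obtain ⟨U, -, hUmax⟩ := Finite.exists_le_maximal (α := Subgroup P)
    (p := fun A => A.Normal ∧ IsMulCommutative A) (a := ⊥) ⟨inferInstance, hbot⟩
  obtain ⟨⟨hUn, hUab⟩, hUmax'⟩ := hUmax
  haveI := hUn
  have hUcyc := hn U hUn hUab
  have hCU := Cfsg.Agent.S0129.centralizer_eq hP U hUab
    (fun B' hB'n hB'ab hle => le_antisymm (hUmax' ⟨hB'n, hB'ab⟩ hle) hle)
  obtain ⟨k, hk⟩ := IsPGroup.iff_card.mp (hP.to_subgroup U)
  rcases Cfsg.Agent.S3761.result hP hna U hUcyc k hk hCU with
    ⟨hp2, hcard, hstr⟩ | ⟨-, hEA, hcardΩ, hchar⟩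
  · subst hp2
    refine ⟨rfl, ?_⟩
    have hk3 : 3 ≤ k := by
      by_contra hk3
      obtain ⟨j, hj⟩ := IsPGroup.iff_card.mp (hP.to_subgroup B)
      have hjle : j ≤ k + 1 := by
        have h1 := Subgroup.card_subgroup_dvd_card B
        rw [hj, hcard] at h1
        exact (Nat.pow_dvd_pow_iff_le_right (by norm_num)).mp h1
      have hj2 : 2 ≤ j := by
        by_contra h
        have h01 : j = 0 ∨ j = 1 := by omega
        apply hBnc
        rcases h01 with h0 | h1
        · rw [h0, pow_zero] at hj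
          haveI : Subsingleton B := (Nat.card_eq_one_iff_unique.mp hj).1
          infer_instance
        · rw [h1, pow_one] at hj
          exact isCyclic_of_prime_card hj
      by_cases hjk : j = k + 1
      · apply hna
        have hBtop : B = ⊤ := Subgroup.eq_top_of_card_eq B (by rw [hj, hcard, hjk])
        refine ⟨⟨fun a b => ?_⟩⟩
        have ha : a ∈ B := hBtop ▸ Subgroup.mem_top a
        have hb : b ∈ B := hBtop ▸ Subgroup.mem_top b
        exact congrArg Subtype.val (hBab.is_comm.comm ⟨a, ha⟩ ⟨b, hb⟩)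
      · have hjk' : j = k := by omega
        apply hBnc
        have hidx : B.index = 2 := by
          have h1 := B.card_mul_index
          rw [hj, hcard, hjk', pow_succ] at h1
          exact Nat.eq_of_mul_eq_mul_left (pow_pos (by norm_num) k) h1
        exact hn B (Subgroup.normal_of_index_eq_two hidx) hBab
    rcases hstr with ⟨m, ⟨e⟩⟩ | ⟨m, ⟨e⟩⟩ | hqd
    · right; left
      refine ⟨m, ?_, ⟨e⟩⟩
      have h1 : Nat.card P = Nat.card (DihedralGroup m) := Nat.card_congr e.toEquiv
      rw [hcard, DihedralGroup.nat_card, pow_succ, mul_comm] at h1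
      have h2 : m = 2 ^ k := (Nat.eq_of_mul_eq_mul_left (by norm_num) h1).symm
      rw [h2]
      calc 8 = 2 ^ 3 := by norm_num
        _ ≤ 2 ^ k := Nat.pow_le_pow_right (by norm_num) hk3
    · left; exact ⟨m, ⟨e⟩⟩
    · right; right; exact hqd
  · exfalso
    haveI := hchar
    have hWcyc := hn _ inferInstance hEA.1
    obtain ⟨g, hg⟩ := hWcyc.exists_generator
    have hord : orderOf g = p ^ 2 := by
      rw [← hcardΩ]; exact orderOf_eq_card_of_forall_mem_zpowers hg
    have hgp : g ^ p = 1 := by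
      have h1 := hEA.2 g.1 g.2
      exact Subtype.ext (by rw [Subgroup.coe_pow, h1, Subgroup.coe_one])
    have h1 := orderOf_dvd_of_pow_eq_one hgp
    rw [hord] at h1
    have h2 := Nat.le_of_dvd hpp.pos h1
    have h3 : p < p ^ 2 := by
      rw [pow_two]; exact lt_mul_of_one_lt_left hpp.pos hpp.one_lt
    omega

end Cfsg.Agent.S0519
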