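import Mathlib
import Cfsg.Statements.S3890

set_option autoImplicit false
set_option linter.style.haveILetI false
open Cfsg

namespace Cfsg.Agent.S3890

open Subgroup

set_option linter.unusedSectionVars false
variable {G : Type*} [Group G] [Finite G]

/-- the hypothesis on the cover -/
def IsMinNilCover (𝓐 : Finset (Subgroup G)) : Prop :=
  ((∀ A ∈ 𝓐, A ≠ ⊤) ∧ (∀ g : G, ∃ A ∈ 𝓐, g ∈ A)) ∧ (∀ 𝓑 : Finset (Subgroup G), (∀ A ∈ 𝓑, A ≠ ⊤) ∧ (∀ g : G, ∃ A ∈ 𝓑, g ∈ A) → 𝓐.card ≤ 𝓑.card) ∧ (∀ A ∈ 𝓐, Group.IsNilpotent ↥A)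

theorem unique_of_le {𝓐 : Finset (Subgroup G)} (h𝓐 : IsMinNilCover 𝓐) {A B H : Subgroup G}
    (hA : A ∈ 𝓐) (hB : B ∈ 𝓐) (hH : H ≠ ⊤) (hAH : A ≤ H) (hBH : B ≤ H) : A = B := by
  by_contra hne
  classical
  let 𝓑 : Finset (Subgroup G) := insert H ((𝓐.erase A).erase B)
  have hcover : (∀ C ∈ 𝓑, C ≠ ⊤) ∧ (∀ g : G, ∃ C ∈ 𝓑, g ∈ C) := by
    constructor
    · intro C hC
      rcases Finset.mem_insert.mp hC with rfl | hC
      · exact hH
      · exact h𝓐.1.1 C (Finset.mem_of_mem_erase (Finset.mem_of_mem_erase hC))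
    · intro g
      obtain ⟨C, hC, hg⟩ := h𝓐.1.2 g
      by_cases h1 : C = A
      · exact ⟨H, Finset.mem_insert_self _ _, hAH (h1 ▸ hg)⟩
      by_cases h2 : C = B
      · exact ⟨H, Finset.mem_insert_self _ _, hBH (h2 ▸ hg)⟩
      · exact ⟨C, Finset.mem_insert_of_mem
          (Finset.mem_erase.mpr ⟨h2, Finset.mem_erase.mpr ⟨h1, hC⟩⟩), hg⟩
  have hcard := h𝓐.2.1 𝓑 hcover
  have hBm : B ∈ 𝓐.erase A := Finset.mem_erase.mpr ⟨fun h => hne h.symm, hB⟩
  have h1 : ((𝓐.erase A).erase B).card = 𝓐.card - 1 - 1 := by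
    rw [Finset.card_erase_of_mem hBm, Finset.card_erase_of_mem hA]
  have h2 : 𝓑.card ≤ ((𝓐.erase A).erase B).card + 1 := Finset.card_insert_le _ _
  have h3 : 1 < 𝓐.card := Finset.one_lt_card.mpr ⟨A, hA, B, hB, hne⟩
  omega

theorem isPGroup_zpowers {H : Type*} [Group H] {p : ℕ} [hp : Fact p.Prime] {x : H} {k : ℕ}
    (hx : x ^ p ^ k = 1) : IsPGroup p (Subgroup.zpowers x) := by
  obtain ⟨j, -, hj⟩ := (Nat.dvd_prime_pow hp.out).mp (orderOf_dvd_of_pow_eq_one hx)
  exact IsPGroup.of_card (n := j) (by rw [Nat.card_zpowers, hj])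

theorem mem_sylow_of_normalizes {p : ℕ} [Fact p.Prime] (Q : Sylow p G) {y : G} {k : ℕ}
    (hy : y ^ p ^ k = 1) (hyN : y ∈ Subgroup.normalizer ((Q : Subgroup G) : Set G)) :
    y ∈ (Q : Subgroup G) := by
  have h1 : IsPGroup p (Subgroup.zpowers y) := isPGroup_zpowers hy
  have h2 := h1.inf_normalizer_sylow Q
  have h3 : Subgroup.zpowers y ≤ Subgroup.normalizer ((Q : Subgroup G) : Set G) :=
    Subgroup.zpowers_le.mpr hyN
  have h4 : Subgroup.zpowers y ⊓ Subgroup.normalizer ((Q : Subgroup G) : Set G)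
      = Subgroup.zpowers y := inf_eq_left.mpr h3
  have h5 : Subgroup.zpowers y ≤ (Q : Subgroup G) := by
    have : Subgroup.zpowers y ⊓ (Q : Subgroup G) = Subgroup.zpowers y := by
      rw [← h2]; exact h4
    exact inf_eq_left.mp this
  exact h5 (Subgroup.mem_zpowers y)

/-- In a nilpotent subgroup `A`, a `p`-element `x ∈ A` is centralised by `A` as soon as the
Sylow `p`-subgroups of `G` are abelian. -/
theorem le_centralizer_of_mem {p : ℕ} [hp : Fact p.Prime]
    (hab : ∀ Q : Sylow p G, ∀ x ∈ (Q : Subgroup G), ∀ y ∈ (Q : Subgroup G), x * y = y * x)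
    {A : Subgroup G} [hnil : Group.IsNilpotent ↥A] {x : G} (hxA : x ∈ A) {k : ℕ}
    (hx : x ^ p ^ k = 1) : A ≤ Subgroup.centralizer {x} := by
  set x' : ↥A := ⟨x, hxA⟩ with hx'
  have hx'k : x' ^ p ^ k = 1 := Subtype.ext (by simpa using hx)
  have hpg : IsPGroup p (Subgroup.zpowers x') := isPGroup_zpowers hx'k
  obtain ⟨T, hT⟩ := hpg.exists_le_sylow
  have hxT : x' ∈ (T : Subgroup ↥A) := hT (Subgroup.mem_zpowers x')
  -- every Sylow subgroup of `A` has a representative inside the centraliser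
  have key : ∀ q : ℕ, q.Prime → ¬ q ∣ (Subgroup.centralizer ({x'} : Set ↥A)).index := by
    intro q hq
    haveI : Fact q.Prime := ⟨hq⟩
    have hex : ∃ S : Sylow q ↥A, (S : Subgroup ↥A) ≤ Subgroup.centralizer ({x'} : Set ↥A) := by
      by_cases hqp : q = p
      · subst hqp
        refine ⟨T, ?_⟩
        intro s hs
        obtain ⟨Q, hQ⟩ := (T.2.map A.subtype).exists_le_sylow
        have hsQ : (s : G) ∈ (Q : Subgroup G) := hQ (Subgroup.mem_map_of_mem _ hs)
        have hxQ : (x' : G) ∈ (Q : Subgroup G) := hQ (Subgroup.mem_map_of_mem _ hxT)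
        rw [Subgroup.mem_centralizer_iff]
        intro h hh
        rw [Set.mem_singleton_iff] at hh
        subst hh
        exact Subtype.ext (hab Q _ hxQ _ hsQ)
      · obtain ⟨S⟩ : Nonempty (Sylow q ↥A) := inferInstance
        refine ⟨S, ?_⟩
        intro s hs
        have hdis : Disjoint (S : Subgroup ↥A) (T : Subgroup ↥A) :=
          IsPGroup.disjoint_of_ne q p hqp _ _ S.2 T.2
        have hc := Subgroup.commute_of_normal_of_disjoint (S : Subgroup ↥A) (T : Subgroup ↥A)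
          inferInstance inferInstance hdis s x' hs hxT
        rw [Subgroup.mem_centralizer_iff]
        intro h hh
        rw [Set.mem_singleton_iff] at hh
        subst hh
        exact hc.eq.symm
    obtain ⟨S, hS⟩ := hex
    intro hdvd
    exact S.not_dvd_index (dvd_trans hdvd (Subgroup.index_dvd_of_le hS))
  have htop : Subgroup.centralizer ({x'} : Set ↥A) = ⊤ := by
    rw [← Subgroup.index_eq_one]
    exact Nat.eq_one_iff_not_exists_prime_dvd.mpr fun q hq => key q hq
  intro a ha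
  have : (⟨a, ha⟩ : ↥A) ∈ Subgroup.centralizer ({x'} : Set ↥A) := htop ▸ Subgroup.mem_top _
  rw [Subgroup.mem_centralizer_iff] at this ⊢
  intro h hh
  rw [Set.mem_singleton_iff] at hh
  subst hh
  exact congrArg Subtype.val (this x' rfl)

theorem pelement_of_mem {p : ℕ} [Fact p.Prime] (Q : Sylow p G) {x : G} (hx : x ∈ (Q : Subgroup G)) :
    ∃ k : ℕ, x ^ p ^ k = 1 := by
  obtain ⟨k, hk⟩ := Q.2 ⟨x, hx⟩
  exact ⟨k, by simpa using congrArg Subtype.val hk⟩

theorem centralizer_singleton_ne_top (hZ : Subgroup.center G = ⊥) {x : G} (hx1 : x ≠ 1) :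
    Subgroup.centralizer ({x} : Set G) ≠ ⊤ := by
  intro h
  apply hx1
  have : x ∈ Subgroup.center G := by
    rw [Subgroup.mem_center_iff]
    intro g
    have hg : g ∈ Subgroup.centralizer ({x} : Set G) := h ▸ Subgroup.mem_top g
    rw [Subgroup.mem_centralizer_iff] at hg
    exact (hg x rfl).symm
  rw [hZ] at this
  exact Subgroup.mem_bot.mp this

theorem unique_member (hZ : Subgroup.center G = ⊥) {𝓐 : Finset (Subgroup G)}
    (h𝓐 : IsMinNilCover 𝓐) {p : ℕ} [hp : Fact p.Prime]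
    (hab : ∀ Q : Sylow p G, ∀ x ∈ (Q : Subgroup G), ∀ y ∈ (Q : Subgroup G), x * y = y * x)
    (Q : Sylow p G) {x : G} (hx : x ∈ (Q : Subgroup G)) (hx1 : x ≠ 1) {A B : Subgroup G}
    (hA : A ∈ 𝓐) (hB : B ∈ 𝓐) (hxA : x ∈ A) (hxB : x ∈ B) : A = B := by
  haveI := h𝓐.2.2 A hA
  haveI := h𝓐.2.2 B hB
  obtain ⟨k, hk⟩ := pelement_of_mem Q hx
  exact unique_of_le h𝓐 hA hB (centralizer_singleton_ne_top hZ hx1)
    (le_centralizer_of_mem hab hxA hk) (le_centralizer_of_mem hab hxB hk)

/-- The dichotomy for an arbitrary (nontrivial) Sylow subgroup. -/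
theorem key (hZ : Subgroup.center G = ⊥) {𝓐 : Finset (Subgroup G)}
    (h𝓐 : IsMinNilCover 𝓐) {p : ℕ} [hp : Fact p.Prime]
    (hab : ∀ Q : Sylow p G, ∀ x ∈ (Q : Subgroup G), ∀ y ∈ (Q : Subgroup G), x * y = y * x)
    (Q : Sylow p G) (hQ : (Q : Subgroup G) ≠ ⊥) :
    ((∀ x ∈ (Q : Subgroup G), x ^ p = 1) ∧ p < Nat.card ↥(Q : Subgroup G)) ∨
      Subgroup.centralizer ((Q : Subgroup G) : Set G) ∈ 𝓐 := by
  obtain ⟨x0, hx0Q, hx01⟩ : ∃ x0 ∈ (Q : Subgroup G), x0 ≠ 1 := by
    obtain ⟨a, ha⟩ := (Subgroup.ne_bot_iff_exists_ne_one).mp hQ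
    exact ⟨a.1, a.2, fun h => ha (Subtype.ext h)⟩
  by_cases hI : ∃ A ∈ 𝓐, (Q : Subgroup G) ≤ A
  · right
    obtain ⟨A, hA, hQA⟩ := hI
    haveI := h𝓐.2.2 A hA
    have heq : Subgroup.centralizer ((Q : Subgroup G) : Set G) = A := by
      apply le_antisymm
      · -- centraliser inside `A`
        intro c hc
        have hcomm : ∀ x ∈ (Q : Subgroup G), x * c = c * x := fun x hx =>
          (Subgroup.mem_centralizer_iff.mp hc) x hx
        have hn0 : orderOf c ≠ 0 := (orderOf_pos c).ne'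
        obtain ⟨e, m, hpm, hn⟩ := Nat.exists_eq_pow_mul_and_not_dvd hn0 p hp.out.ne_one
        -- the `p`-part
        have hc1 : c ^ m ∈ A := by
          apply hQA
          have h1 : (c ^ m) ^ p ^ e = 1 := by
            rw [← pow_mul, mul_comm, ← hn, pow_orderOf_eq_one]
          refine mem_sylow_of_normalizes Q h1 ?_
          exact Subgroup.centralizer_le_normalizer _ (Subgroup.pow_mem _ hc m)
        -- the `p'`-part
        have hc2 : c ^ p ^ e ∈ A := by
          set h := c ^ p ^ e with hh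
          have hhm : h ^ m = 1 := by
            rw [hh, ← pow_mul, ← hn, pow_orderOf_eq_one]
          have hcomm2 : Commute x0 h := by
            have : x0 * c = c * x0 := hcomm x0 hx0Q
            exact (Commute.pow_right this (p ^ e))
          obtain ⟨A', hA', hyA'⟩ := h𝓐.1.2 (x0 * h)
          have hpow : (x0 * h) ^ m = x0 ^ m := by
            rw [hcomm2.mul_pow, hhm, mul_one]
          have hx0m : x0 ^ m ≠ 1 := by
            intro h1
            obtain ⟨j, hj⟩ := pelement_of_mem Q hx0Q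
            have hd1 : orderOf x0 ∣ m := orderOf_dvd_of_pow_eq_one h1
            obtain ⟨i, -, hi⟩ := (Nat.dvd_prime_pow hp.out).mp (orderOf_dvd_of_pow_eq_one hj)
            rcases Nat.eq_zero_or_pos i with rfl | hipos
            · rw [pow_zero, orderOf_eq_one_iff] at hi
              exact hx01 hi
            · apply hpm
              refine dvd_trans ?_ hd1
              rw [hi]
              exact dvd_pow_self p hipos.ne'
          have hmem1 : x0 ^ m ∈ A' := hpow ▸ Subgroup.pow_mem _ hyA' m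
          have hmem2 : x0 ^ m ∈ A := Subgroup.pow_mem _ (hQA hx0Q) m
          have hmem3 : x0 ^ m ∈ (Q : Subgroup G) := Subgroup.pow_mem _ hx0Q m
          have hAA : A' = A := unique_member hZ h𝓐 hab Q hmem3 hx0m hA' hA hmem1 hmem2
          have : h = x0⁻¹ * (x0 * h) := by group
          rw [this]
          exact A.mul_mem (A.inv_mem (hQA hx0Q)) (hAA ▸ hyA')
        have hcop : Nat.Coprime m (p ^ e) :=
          (((Nat.Prime.coprime_iff_not_dvd hp.out).mpr hpm).pow_left e).symm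
        have hg : (1 : ℤ) = (m : ℤ) * Nat.gcdA m (p ^ e) + ((p ^ e : ℕ) : ℤ) * Nat.gcdB m (p ^ e) := by
          rw [← Nat.gcd_eq_gcd_ab, hcop.gcd_eq_one]; simp
        have hc' : c = (c ^ m) ^ (Nat.gcdA m (p ^ e)) * (c ^ p ^ e) ^ (Nat.gcdB m (p ^ e)) := by
          rw [← zpow_natCast, ← zpow_natCast, ← zpow_mul, ← zpow_mul, ← zpow_add, ← hg, zpow_one]
        rw [hc']
        exact A.mul_mem (A.zpow_mem hc1 _) (A.zpow_mem hc2 _)
      · -- `A` centralises `Q`
        intro a ha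
        rw [Subgroup.mem_centralizer_iff]
        intro x hx
        obtain ⟨k, hk⟩ := pelement_of_mem Q hx
        have := le_centralizer_of_mem hab (hQA hx) hk ha
        rw [Subgroup.mem_centralizer_iff] at this
        exact this x rfl
    rw [heq]
    exact hA
  · left
    push Not at hI
    constructor
    · -- exponent `p`
      by_contra hcon
      push Not at hcon
      obtain ⟨u, huQ, hup⟩ := hcon
      obtain ⟨A, hA, huA⟩ := h𝓐.1.2 u
      obtain ⟨v, hvQ, hvA⟩ := SetLike.not_le_iff_exists.mp (hI A hA)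
      have hv1 : v ≠ 1 := fun h => hvA (h ▸ A.one_mem)
      obtain ⟨B, hB, hvB⟩ := h𝓐.1.2 v
      obtain ⟨j, hj⟩ := pelement_of_mem Q hvQ
      obtain ⟨i, -, hi⟩ := (Nat.dvd_prime_pow hp.out).mp (orderOf_dvd_of_pow_eq_one hj)
      have hipos : 0 < i := by
        rcases Nat.eq_zero_or_pos i with rfl | h
        · rw [pow_zero, orderOf_eq_one_iff] at hi
          exact absurd hi hv1
        · exact h
      set v' := v ^ p ^ (i - 1) with hv'
      have hv'p : v' ^ p = 1 := by
        rw [hv', ← pow_mul, ← pow_succ, Nat.sub_add_cancel hipos, ← hi, pow_orderOf_eq_one]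
      have hv'1 : v' ≠ 1 := by
        apply pow_ne_one_of_lt_orderOf (pow_pos hp.out.pos _).ne'
        rw [hi]
        exact Nat.pow_lt_pow_right hp.out.one_lt (by omega)
      have hv'B : v' ∈ B := Subgroup.pow_mem _ hvB _
      have hv'Q : v' ∈ (Q : Subgroup G) := Subgroup.pow_mem _ hvQ _
      have hv'A : v' ∉ A := by
        intro h
        have := unique_member hZ h𝓐 hab Q hv'Q hv'1 hA hB h hv'B
        exact hvA (this ▸ hvB)
      obtain ⟨C, hC, hwC⟩ := h𝓐.1.2 (u * v')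
      have hcomm : Commute u v' := hab Q u huQ v' hv'Q
      have hwp : (u * v') ^ p = u ^ p := by rw [hcomm.mul_pow, hv'p, mul_one]
      have h1 : u ^ p ∈ C := hwp ▸ Subgroup.pow_mem _ hwC p
      have h2 : u ^ p ∈ A := Subgroup.pow_mem _ huA p
      have h3 : u ^ p ∈ (Q : Subgroup G) := Subgroup.pow_mem _ huQ p
      have hCA : C = A := unique_member hZ h𝓐 hab Q h3 hup hC hA h1 h2
      apply hv'A
      have : v' = u⁻¹ * (u * v') := by group
      rw [this]
      exact A.mul_mem (A.inv_mem huA) (hCA ▸ hwC)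
    · -- order larger than `p`
      obtain ⟨n, hn⟩ := (IsPGroup.iff_card.mp Q.2)
      rcases n with _ | _ | n
      · exfalso
        apply hQ
        exact Subgroup.card_eq_one.mp (by simpa using hn)
      · exfalso
        obtain ⟨A, hA, hxA⟩ := h𝓐.1.2 x0
        apply hI A hA
        have hcard : Nat.card ↥(Q : Subgroup G) = p := by simpa using hn
        have hdvd : Nat.card ↥(A ⊓ (Q : Subgroup G)) ∣ p := by
          have := Subgroup.card_dvd_of_le (inf_le_right : A ⊓ (Q : Subgroup G) ≤ (Q : Subgroup G))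
          rwa [hcard] at this
        rcases (Nat.dvd_prime hp.out).mp hdvd with h1 | h1
        · exfalso
          have : A ⊓ (Q : Subgroup G) = ⊥ := Subgroup.card_eq_one.mp h1
          have hmem : x0 ∈ A ⊓ (Q : Subgroup G) := ⟨hxA, hx0Q⟩
          rw [this] at hmem
          exact hx01 (Subgroup.mem_bot.mp hmem)
        · have : A ⊓ (Q : Subgroup G) = (Q : Subgroup G) :=
            Subgroup.eq_of_le_of_card_ge inf_le_right (by rw [h1, hcard])
          exact this ▸ inf_le_left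
      · rw [hn]
        calc p = p ^ 1 := (pow_one p).symm
          _ < p ^ (n + 1 + 1) := Nat.pow_lt_pow_right hp.out.one_lt (by omega)


theorem mem_smul_iff {p : ℕ} [Fact p.Prime] (P : Sylow p G) (g x : G) :
    x ∈ ((g • P : Sylow p G) : Subgroup G) ↔ g⁻¹ * x * g ∈ (P : Subgroup G) := by
  rw [Sylow.coe_subgroup_smul, Subgroup.mem_pointwise_smul_iff_inv_smul_mem]
  simp [MulAut.smul_def]

theorem conj_mem_smul {p : ℕ} [Fact p.Prime] (P : Sylow p G) (g : G) {x : G}
    (hx : x ∈ (P : Subgroup G)) : g * x * g⁻¹ ∈ ((g • P : Sylow p G) : Subgroup G) := by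
  rw [mem_smul_iff]
  have : g⁻¹ * (g * x * g⁻¹) * g = x := by group
  rw [this]
  exact hx

/-- all Sylow `p`-subgroups are abelian when one of them is -/
theorem all_abelian {p : ℕ} [Fact p.Prime] (P : Sylow p G)
    (hab : IsMulCommutative ↥(P : Subgroup G)) :
    ∀ Q : Sylow p G, ∀ x ∈ (Q : Subgroup G), ∀ y ∈ (Q : Subgroup G), x * y = y * x := by
  intro Q
  obtain ⟨g, rfl⟩ := MulAction.exists_smul_eq G P Q
  intro x hx y hy
  have hx' := (mem_smul_iff P g x).mp hx
  have hy' := (mem_smul_iff P g y).mp hy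
  have h := congrArg Subtype.val (hab.is_comm.comm ⟨_, hx'⟩ ⟨_, hy'⟩)
  simp only [Subgroup.coe_mul] at h
  calc x * y = g * ((g⁻¹ * x * g) * (g⁻¹ * y * g)) * g⁻¹ := by group
    _ = g * ((g⁻¹ * y * g) * (g⁻¹ * x * g)) * g⁻¹ := by rw [h]
    _ = y * x := by group

theorem all_mem (hZ : Subgroup.center G = ⊥) {𝓐 : Finset (Subgroup G)}
    (h𝓐 : IsMinNilCover 𝓐) {p : ℕ} [hp : Fact p.Prime] (P : Sylow p G)
    (hab : IsMulCommutative ↥(P : Subgroup G)) (hnn : ¬ (P : Subgroup G).Normal)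
    (h1 : ¬ ((∀ x ∈ (P : Subgroup G), x ^ p = 1) ∧ p < Nat.card ↥(P : Subgroup G))) :
    ∀ Q : Sylow p G, Subgroup.centralizer ((Q : Subgroup G) : Set G) ∈ 𝓐 := by
  intro Q
  have habQ := all_abelian P hab
  have hcardQ : Nat.card ↥(Q : Subgroup G) = Nat.card ↥(P : Subgroup G) := by
    rw [Q.card_eq_multiplicity, P.card_eq_multiplicity]
  have hP : (P : Subgroup G) ≠ ⊥ := by
    intro h; apply hnn; rw [h]; infer_instance
  have hQ : (Q : Subgroup G) ≠ ⊥ := by
    intro h
    apply hP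
    apply Subgroup.card_eq_one.mp
    rw [← hcardQ, h]
    exact Subgroup.card_bot
  rcases key hZ h𝓐 habQ Q hQ with h | h
  · exfalso
    apply h1
    obtain ⟨g, rfl⟩ := MulAction.exists_smul_eq G P Q
    refine ⟨?_, lt_of_lt_of_eq h.2 hcardQ⟩
    intro x hx
    have h2 := h.1 _ (conj_mem_smul P g hx)
    rw [conj_pow] at h2
    have : x ^ p = g⁻¹ * (g * x ^ p * g⁻¹) * g := by group
    rw [this, h2]
    group
  · exact h

theorem eq_of_centralizer_eq {p : ℕ} [Fact p.Prime] (P Q : Sylow p G)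
    (habQ : ∀ x ∈ (Q : Subgroup G), ∀ y ∈ (Q : Subgroup G), x * y = y * x)
    (h : Subgroup.centralizer ((Q : Subgroup G) : Set G)
      = Subgroup.centralizer ((P : Subgroup G) : Set G)) : Q = P := by
  have hle : (Q : Subgroup G) ≤ P := by
    intro y hy
    obtain ⟨k, hk⟩ := pelement_of_mem Q hy
    apply mem_sylow_of_normalizes P hk
    apply Subgroup.centralizer_le_normalizer
    rw [← h, Subgroup.mem_centralizer_iff]
    intro x hx
    exact habQ x hx y hy
  exact (Sylow.ext (Q.3 P.2 hle)).symm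

theorem centralizer_smul_le {p : ℕ} [Fact p.Prime] (P : Sylow p G) {M : Subgroup G} {m : G}
    (hm : m ∈ M) (hCM : Subgroup.centralizer ((P : Subgroup G) : Set G) ≤ M) :
    Subgroup.centralizer (((m • P : Sylow p G) : Subgroup G) : Set G) ≤ M := by
  intro z hz
  have h1 : m⁻¹ * z * m ∈ Subgroup.centralizer ((P : Subgroup G) : Set G) := by
    rw [Subgroup.mem_centralizer_iff]
    intro x hx
    have hx' := conj_mem_smul P m hx
    have := (Subgroup.mem_centralizer_iff.mp hz) _ hx'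
    calc x * (m⁻¹ * z * m) = m⁻¹ * ((m * x * m⁻¹) * z) * m := by group
      _ = m⁻¹ * (z * (m * x * m⁻¹)) * m := by rw [this]
      _ = m⁻¹ * z * m * x := by group
  have h2 := hCM h1
  have : z = m * (m⁻¹ * z * m) * m⁻¹ := by group
  rw [this]
  exact M.mul_mem (M.mul_mem hm h2) (M.inv_mem hm)

theorem le_normalizer_of {𝓐 : Finset (Subgroup G)} (h𝓐 : IsMinNilCover 𝓐) {p : ℕ}
    [hp : Fact p.Prime] (P : Sylow p G)
    (hall : ∀ Q : Sylow p G, Subgroup.centralizer ((Q : Subgroup G) : Set G) ∈ 𝓐)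
    (habQ : ∀ Q : Sylow p G, ∀ x ∈ (Q : Subgroup G), ∀ y ∈ (Q : Subgroup G), x * y = y * x)
    {M : Subgroup G} (hM : M ≠ ⊤)
    (hCM : Subgroup.centralizer ((P : Subgroup G) : Set G) ≤ M) :
    M ≤ Subgroup.normalizer ((P : Subgroup G) : Set G) := by
  intro m hm
  have h1 := centralizer_smul_le P hm hCM
  have h2 := unique_of_le h𝓐 (hall (m • P)) (hall P) hM h1 hCM
  have h3 := eq_of_centralizer_eq P (m • P) (habQ (m • P)) h2
  exact Sylow.smul_eq_iff_mem_normalizer.mp h3

theorem result {G : Type*} [Group G] [Finite G] (hZ : Subgroup.center G = ⊥) (𝓐 : Finset (Subgroup G))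
    (h𝓐 : ((∀ A ∈ 𝓐, A ≠ ⊤) ∧ (∀ g : G, ∃ A ∈ 𝓐, g ∈ A)) ∧ (∀ 𝓑 : Finset (Subgroup G), (∀ A ∈ 𝓑, A ≠ ⊤) ∧ (∀ g : G, ∃ A ∈ 𝓑, g ∈ A) → 𝓐.card ≤ 𝓑.card) ∧ (∀ A ∈ 𝓐, Group.IsNilpotent ↥A)) {p : ℕ} [Fact p.Prime] (P : Sylow p G) (hab : IsMulCommutative ↥(P : Subgroup G))
    (hnn : ¬ (P : Subgroup G).Normal) :
    (Cfsg.IsElementaryAbelian p (P : Subgroup G) ∧ p < Nat.card ↥(P : Subgroup G)) ∨
    (∃ A ∈ 𝓐, (P : Subgroup G) ≤ A ∧ ¬ p ∣ ((P : Subgroup G).subgroupOf A).index ∧
      IsCoatom (Subgroup.normalizer ((P : Subgroup G) : Set G)) ∧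
      (∀ g : G, g ∉ Subgroup.normalizer ((P : Subgroup G) : Set G) →
        ¬ p ∣ Nat.card ↥(Subgroup.normalizer ((P : Subgroup G) : Set G) ⊓
          (Subgroup.normalizer ((P : Subgroup G) : Set G)).map (MulAut.conj g).toMonoidHom)) ∧
      Subgroup.centralizer ((P : Subgroup G) : Set G) = A) := by
  have h𝓐' : IsMinNilCover 𝓐 := h𝓐
  by_cases h1 : (∀ x ∈ (P : Subgroup G), x ^ p = 1) ∧ p < Nat.card ↥(P : Subgroup G)
  · left
    exact ⟨⟨hab, h1.1⟩, h1.2⟩
  · right
    have habQ := all_abelian P hab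
    have hall := all_mem hZ h𝓐' P hab hnn h1
    have hQC : ∀ Q : Sylow p G,
        (Q : Subgroup G) ≤ Subgroup.centralizer ((Q : Subgroup G) : Set G) := by
      intro Q x hx
      rw [Subgroup.mem_centralizer_iff]
      intro y hy
      exact habQ Q y hy x hx
    have hCN : Subgroup.centralizer ((P : Subgroup G) : Set G)
        ≤ Subgroup.normalizer ((P : Subgroup G) : Set G) := Subgroup.centralizer_le_normalizer _
    have hNtop : Subgroup.normalizer ((P : Subgroup G) : Set G) ≠ ⊤ :=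
      fun h => hnn (Subgroup.normalizer_eq_top_iff.mp h)
    refine ⟨_, hall P, hQC P, ?_, ?_, ?_, rfl⟩
    · intro hdvd
      apply P.not_dvd_index
      exact dvd_trans hdvd (Subgroup.relIndex_dvd_index_of_le (hQC P))
    · refine ⟨hNtop, fun M hM => ?_⟩
      by_contra hMtop
      have := le_normalizer_of h𝓐' P hall habQ hMtop (le_trans hCN hM.le)
      exact absurd hM (not_lt_of_ge this)
    · intro g hg hdvd
      obtain ⟨x, hx⟩ := exists_prime_orderOf_dvd_card' p hdvd
      have hx1 : (x : G) ≠ 1 := by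
        intro h
        have : x = 1 := Subtype.ext h
        rw [this, orderOf_one] at hx
        exact (Fact.out : p.Prime).one_lt.ne hx
      have hxp : (x : G) ^ p = 1 := by
        have := pow_orderOf_eq_one x
        rw [hx] at this
        have h2 := congrArg Subtype.val this
        rwa [Subgroup.coe_pow, Subgroup.coe_one] at h2
      have hxp1 : (x : G) ^ p ^ 1 = 1 := by rw [pow_one]; exact hxp
      have hxN := x.2.1
      have hxNg := x.2.2
      have hxP : (x : G) ∈ (P : Subgroup G) := mem_sylow_of_normalizes P hxp1 hxN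
      obtain ⟨n, hnN, hnx⟩ := Subgroup.mem_map.mp hxNg
      have hnx' : g * n * g⁻¹ = x := by simpa using hnx
      have hnp : n ^ p ^ 1 = 1 := by
        have h2 : g * n ^ p * g⁻¹ = 1 := by rw [← conj_pow, hnx', hxp]
        have : n ^ p = g⁻¹ * (g * n ^ p * g⁻¹) * g := by group
        rw [pow_one, this, h2]
        group
      have hnP : n ∈ (P : Subgroup G) := mem_sylow_of_normalizes P hnp hnN
      have hxQ : (x : G) ∈ ((g • P : Sylow p G) : Subgroup G) := by
        rw [← hnx']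
        exact conj_mem_smul P g hnP
      have h2 := unique_member hZ h𝓐' habQ P hxP hx1 (hall P) (hall (g • P))
        (hQC P hxP) (hQC (g • P) hxQ)
      have h3 := eq_of_centralizer_eq P (g • P) (habQ _) h2.symm
      exact hg (Sylow.smul_eq_iff_mem_normalizer.mp h3)

end Cfsg.Agent.S3890
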