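import Mathlib
import Cfsg.Statements.S0520
import Cfsg.Agent.S3890

set_option autoImplicit false
set_option linter.style.haveILetI false
set_option linter.unusedSectionVars false
open Cfsg
open scoped Pointwise

namespace Cfsg.Agent.S0520

variable {G : Type*} [Group G]

/-- Klein four subgroup -/
def KF (U : Subgroup G) : Prop := IsKleinFour ↥U

theorem kf_of_equiv {A B : Type*} [Group A] [Group B] (e : A ≃* B) (h : IsKleinFour A) :
    IsKleinFour B :=
  ⟨by rw [← Nat.card_congr e.toEquiv]; exact h.card_four,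
   by rw [← Monoid.exponent_eq_of_mulEquiv e]; exact h.exponent_two⟩

theorem KF.smul {U : Subgroup G} (h : KF U) (g : G) : KF (MulAut.conj g • U) :=
  kf_of_equiv (Subgroup.equivSMul (MulAut.conj g) U) h

theorem KF.comm {U : Subgroup G} (h : KF U) {a b : G} (ha : a ∈ U) (hb : b ∈ U) :
    a * b = b * a := by
  have := mul_comm_of_exponent_two h.exponent_two (⟨a, ha⟩ : U) ⟨b, hb⟩
  exact congrArg Subtype.val this

theorem KF.sq {U : Subgroup G} (h : KF U) {a : G} (ha : a ∈ U) : a ^ 2 = 1 := by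
  have := Monoid.pow_exponent_eq_one (⟨a, ha⟩ : U)
  rw [h.exponent_two] at this
  exact congrArg Subtype.val this

theorem KF.isPGroup {U : Subgroup G} (h : KF U) : IsPGroup 2 U :=
  IsPGroup.of_card (n := 2) (by rw [h.card_four]; norm_num)

/-- adjacency in the commuting graph -/
def Adj (A B : Subgroup G) : Prop :=
  IsKleinFour A ∧ IsKleinFour B ∧ ∀ a ∈ A, ∀ b ∈ B, a * b = b * a

theorem Adj.symm {A B : Subgroup G} (h : Adj A B) : Adj B A :=
  ⟨h.2.1, h.1, fun b hb a ha => (h.2.2 a ha b hb).symm⟩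

theorem Adj.smul {A B : Subgroup G} (h : Adj A B) (g : G) :
    Adj (MulAut.conj g • A) (MulAut.conj g • B) := by
  refine ⟨KF.smul h.1 g, KF.smul h.2.1 g, ?_⟩
  intro a ha b hb
  obtain ⟨a', ha', rfl⟩ := (Subgroup.mem_smul_pointwise_iff_exists _ _ _).mp ha
  obtain ⟨b', hb', rfl⟩ := (Subgroup.mem_smul_pointwise_iff_exists _ _ _).mp hb
  rw [← smul_mul', ← smul_mul', h.2.2 a' ha' b' hb']

/-- connectedness relation -/
def R (A B : Subgroup G) : Prop := Relation.ReflTransGen Adj A B

theorem R.refl (A : Subgroup G) : R A A := Relation.ReflTransGen.refl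

theorem R.trans {A B C : Subgroup G} (h1 : R A B) (h2 : R B C) : R A C :=
  Relation.ReflTransGen.trans h1 h2

theorem R.symm {A B : Subgroup G} (h : R A B) : R B A := by
  unfold R at h ⊢
  induction h with
  | refl => exact Relation.ReflTransGen.refl
  | tail _ hbc ih => exact Relation.ReflTransGen.head hbc.symm ih

theorem R.smul {A B : Subgroup G} (h : R A B) (g : G) :
    R (MulAut.conj g • A) (MulAut.conj g • B) := by
  unfold R at h ⊢
  induction h with
  | refl => exact Relation.ReflTransGen.refl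
  | tail _ hbc ih => exact Relation.ReflTransGen.tail ih (hbc.smul g)

theorem conj_mul_smul (g h : G) (U : Subgroup G) :
    MulAut.conj (g * h) • U = MulAut.conj g • MulAut.conj h • U := by
  rw [map_mul, mul_smul]

theorem conj_inv_smul_smul (g : G) (U : Subgroup G) :
    MulAut.conj g⁻¹ • MulAut.conj g • U = U := by
  rw [map_inv, inv_smul_smul]

theorem conj_smul_inv_smul (g : G) (U : Subgroup G) :
    MulAut.conj g • MulAut.conj g⁻¹ • U = U := by
  rw [map_inv, smul_inv_smul]

theorem conj_smul_le {U V : Subgroup G} (h : U ≤ V) (g : G) :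
    MulAut.conj g • U ≤ MulAut.conj g • V :=
  Subgroup.pointwise_smul_le_pointwise_smul_iff.mpr h

theorem conj_smul_mem {U : Subgroup G} {x : G} (hx : x ∈ U) (g : G) :
    g * x * g⁻¹ ∈ MulAut.conj g • U := by
  have := Subgroup.smul_mem_pointwise_smul x (MulAut.conj g) U hx
  simpa [MulAut.smul_def] using this

theorem mem_conj_smul_iff {U : Subgroup G} {x g : G} :
    x ∈ MulAut.conj g • U ↔ g⁻¹ * x * g ∈ U := by
  rw [Subgroup.mem_pointwise_smul_iff_inv_smul_mem]
  simp [MulAut.smul_def]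

/-- not of rank one when it contains a four-group -/
theorem not_prank_of_kf {Q U : Subgroup G} (hU : KF U) (hUQ : U ≤ Q) :
    ¬ Cfsg.PRankLE 2 1 ↥Q := by
  intro h
  have hc : IsMulCommutative ↥(U.subgroupOf Q) :=
    ⟨⟨fun a b => Subtype.ext (Subtype.ext (hU.comm (Subgroup.mem_subgroupOf.mp a.2)
      (Subgroup.mem_subgroupOf.mp b.2)))⟩⟩
  have h1 := h (U.subgroupOf Q) hc (fun a ha => Subtype.ext (hU.sq (Subgroup.mem_subgroupOf.mp ha)))
  rw [Nat.card_congr (Subgroup.subgroupOfEquivOfLe hUQ).toEquiv, hU.card_four] at h1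
  norm_num at h1

theorem exponent_two_of {X : Type*} [Group X] (hc : Nat.card X = 4) (hsq : ∀ x : X, x ^ 2 = 1) :
    Monoid.exponent X = 2 := by
  have hd : Monoid.exponent X ∣ 2 := Monoid.exponent_dvd_of_forall_pow_eq_one hsq
  rcases (Nat.dvd_prime Nat.prime_two).mp hd with h | h
  · exfalso
    have := Monoid.exp_eq_one_iff.mp h
    have h1 : Nat.card X ≤ 1 := Finite.card_le_one_iff_subsingleton.mpr this
    omega
  · exact h

theorem exists_kf_of_not_prank {X : Type*} [Group X] [Finite X] (h : ¬ Cfsg.PRankLE 2 1 X) :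
    ∃ U : Subgroup X, KF U := by
  unfold Cfsg.PRankLE at h
  push Not at h
  obtain ⟨A, -, hsq, hcard⟩ := h
  have hp : IsPGroup 2 ↥A := fun a => ⟨1, by rw [pow_one]; exact Subtype.ext (hsq a a.2)⟩
  obtain ⟨k, hk⟩ := IsPGroup.iff_card.mp hp
  have hk2 : 2 ≤ k := by
    rw [hk] at hcard
    rcases k with _ | _ | k
    · norm_num at hcard
    · norm_num at hcard
    · omega
  haveI : Fact (Nat.Prime 2) := ⟨Nat.prime_two⟩
  have hdvd : 2 ^ 2 ∣ Nat.card ↥A := by rw [hk]; exact pow_dvd_pow 2 hk2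
  obtain ⟨K, hK⟩ := Sylow.exists_subgroup_card_pow_prime 2 hdvd
  refine ⟨K.map A.subtype, ?_⟩
  have e := K.equivMapOfInjective A.subtype A.subtype_injective
  have hc4 : Nat.card ↥(K.map A.subtype) = 4 := by
    rw [← Nat.card_congr e.toEquiv, hK]; norm_num
  refine ⟨hc4, exponent_two_of hc4 ?_⟩
  rintro ⟨x, hx⟩
  obtain ⟨a, -, rfl⟩ := hx
  exact Subtype.ext (hsq a a.2)

variable [Finite G]

theorem exists_conj_le_sylow (S : Sylow 2 G) {Γ : Subgroup G} (hSΓ : (S : Subgroup G) ≤ Γ)
    {T : Subgroup G} (hT : IsPGroup 2 T) (hTΓ : T ≤ Γ) :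
    ∃ γ ∈ Γ, MulAut.conj γ • T ≤ (S : Subgroup G) := by
  haveI : Fact (Nat.Prime 2) := ⟨Nat.prime_two⟩
  let S' : Sylow 2 Γ := S.subtype hSΓ
  have hT' : IsPGroup 2 (T.subgroupOf Γ) := hT.comap_subtype
  obtain ⟨Q', hQ'⟩ := hT'.exists_le_sylow
  obtain ⟨γ, hγ⟩ := MulAction.exists_smul_eq Γ Q' S'
  refine ⟨γ, γ.2, ?_⟩
  intro x hx
  obtain ⟨r, hr, rfl⟩ := (Subgroup.mem_smul_pointwise_iff_exists _ _ _).mp hx
  have hrQ : (⟨r, hTΓ hr⟩ : Γ) ∈ (Q' : Subgroup Γ) := hQ' (Subgroup.mem_subgroupOf.mpr hr)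
  have h1 := Cfsg.Agent.S3890.conj_mem_smul Q' γ hrQ
  rw [hγ] at h1
  have h2 : (((γ * ⟨r, hTΓ hr⟩ * γ⁻¹ : Γ)) : G) ∈ (S : Subgroup G) := by
    have : (γ * ⟨r, hTΓ hr⟩ * γ⁻¹ : Γ) ∈ (S : Subgroup G).subgroupOf Γ := h1
    exact Subgroup.mem_subgroupOf.mp this
  simpa [MulAut.smul_def] using h2

/-- The generated subgroup. -/
def Gam (S : Sylow 2 G) : Subgroup G :=
  ⨆ Q : {Q : Subgroup G // Q ≤ (S : Subgroup G) ∧ ¬ Cfsg.PRankLE 2 1 Q},
    Subgroup.normalizer ((Q : Subgroup G) : Set G)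

theorem normalizer_le_Gam (S : Sylow 2 G) {Q U : Subgroup G} (hQS : Q ≤ (S : Subgroup G))
    (hU : KF U) (hUQ : U ≤ Q) : Subgroup.normalizer (Q : Set G) ≤ Gam S :=
  le_iSup (fun Q : {Q : Subgroup G // Q ≤ (S : Subgroup G) ∧ ¬ Cfsg.PRankLE 2 1 Q} =>
    Subgroup.normalizer ((Q : Subgroup G) : Set G)) ⟨Q, hQS, not_prank_of_kf hU hUQ⟩

theorem conj_normalizer_le (Q : Subgroup G) (h : G) :
    MulAut.conj h • Subgroup.normalizer (Q : Set G)
      ≤ Subgroup.normalizer ((MulAut.conj h • Q : Subgroup G) : Set G) := by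
  intro x hx
  rw [mem_conj_smul_iff] at hx
  rw [Subgroup.mem_normalizer_iff]
  intro y
  rw [mem_conj_smul_iff, mem_conj_smul_iff]
  have := (Subgroup.mem_normalizer_iff.mp hx) (h⁻¹ * y * h)
  rw [this]
  have e : h⁻¹ * x * h * (h⁻¹ * y * h) * (h⁻¹ * x * h)⁻¹ = h⁻¹ * (x * y * x⁻¹) * h := by group
  rw [e]

/-- key induction -/
theorem mem_Gam_of_conj_le (S : Sylow 2 G) {U : Subgroup G} (hU : KF U) :
    ∀ (n : ℕ) (Q : Subgroup G), Nat.card ↥(S : Subgroup G) - Nat.card ↥Q = n → U ≤ Q →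
      Q ≤ (S : Subgroup G) → ∀ h : G, MulAut.conj h • Q ≤ (S : Subgroup G) → h ∈ Gam S := by
  haveI : Fact (Nat.Prime 2) := ⟨Nat.prime_two⟩
  intro n
  induction n using Nat.strong_induction_on with
  | _ n ih =>
    intro Q hn hUQ hQS h hh
    by_cases hQeq : Q = (S : Subgroup G)
    · subst hQeq
      have heq : MulAut.conj h • (S : Subgroup G) = (S : Subgroup G) := by
        apply Subgroup.eq_of_le_of_card_ge hh
        rw [← Nat.card_congr (Subgroup.equivSMul (MulAut.conj h) (S : Subgroup G)).toEquiv]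
      have : h • S = S := Sylow.ext heq
      have hN := Sylow.smul_eq_iff_mem_normalizer.mp this
      exact normalizer_le_Gam S le_rfl hU hUQ hN
    · -- proper: normalizer grows
      have hlt : Q < (S : Subgroup G) := lt_of_le_of_ne hQS hQeq
      haveI : Group.IsNilpotent ↥(S : Subgroup G) := S.2.isNilpotent
      have hNC := Group.normalizerCondition_of_isNilpotent (G := ↥(S : Subgroup G))
      have hQ'lt : Q.subgroupOf (S : Subgroup G) < ⊤ := by
        rw [lt_top_iff_ne_top]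
        intro htop
        rw [Subgroup.subgroupOf_eq_top] at htop
        exact hQeq (le_antisymm hQS htop)
      obtain ⟨s, hsN, hsQ⟩ := SetLike.exists_of_lt (hNC _ hQ'lt)
      set T : Subgroup G := (S : Subgroup G) ⊓ Subgroup.normalizer (Q : Set G) with hT
      have hQT : Q ≤ T := le_inf hQS Subgroup.le_normalizer
      have hsT : (s : G) ∈ T := by
        refine Subgroup.mem_inf.mpr ⟨s.2, ?_⟩
        rw [Subgroup.mem_normalizer_iff]
        intro y
        have := (Subgroup.mem_normalizer_iff.mp hsN)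
        constructor
        · intro hy
          have h1 := (this ⟨y, hQS hy⟩).mp (Subgroup.mem_subgroupOf.mpr hy)
          exact Subgroup.mem_subgroupOf.mp h1
        · intro hy
          have hyS : y ∈ (S : Subgroup G) := by
            have hmem : (s : G)⁻¹ * ((s : G) * y * (s : G)⁻¹) * (s : G) ∈ (S : Subgroup G) :=
              Subgroup.mul_mem _ (Subgroup.mul_mem _ (Subgroup.inv_mem _ s.2) (hQS hy)) s.2
            have e : (s : G)⁻¹ * ((s : G) * y * (s : G)⁻¹) * (s : G) = y := by group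
            rwa [e] at hmem
          have h1 := (this ⟨y, hyS⟩).mpr (Subgroup.mem_subgroupOf.mpr hy)
          exact Subgroup.mem_subgroupOf.mp h1
      have hsQ' : (s : G) ∉ Q := fun hc => hsQ (Subgroup.mem_subgroupOf.mpr hc)
      have hTS : T ≤ (S : Subgroup G) := inf_le_left
      have hcardlt : Nat.card ↥Q < Nat.card ↥T := by
        by_contra hcon
        push Not at hcon
        have he : Q = T := Subgroup.eq_of_le_of_card_ge hQT hcon
        exact hsQ' (he ▸ hsT)
      -- conjugate of T lies in Gam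
      have hTG : MulAut.conj h • T ≤ Gam S := by
        refine le_trans (conj_smul_le inf_le_right h) ?_
        refine le_trans (conj_normalizer_le Q h) ?_
        exact normalizer_le_Gam S hh (hU.smul h) (conj_smul_le hUQ h)
      have hTp : IsPGroup 2 ↥(MulAut.conj h • T) :=
        (S.2.to_le hTS).of_equiv (Subgroup.equivSMul (MulAut.conj h) T)
      have hSG : (S : Subgroup G) ≤ Gam S := by
        intro x hx
        exact normalizer_le_Gam S le_rfl hU (le_trans hUQ hQS) (Subgroup.le_normalizer hx)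
      obtain ⟨γ, hγ, hγT⟩ := exists_conj_le_sylow S hSG hTp hTG
      have hcS : Nat.card ↥T ≤ Nat.card ↥(S : Subgroup G) := Subgroup.card_le_of_le hTS
      have key := ih (Nat.card ↥(S : Subgroup G) - Nat.card ↥T) (by omega) T rfl
        (le_trans hUQ hQT) hTS (γ * h) (by rw [conj_mul_smul]; exact hγT)
      have : h = γ⁻¹ * (γ * h) := by group
      rw [this]
      exact Subgroup.mul_mem _ (Subgroup.inv_mem _ hγ) key


/-- four-subgroups of `S` are connected in `G` -/
theorem conn_in_sylow (S : Sylow 2 G) (hS : Cfsg.IsFourConnected (S : Subgroup G))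
    {U V : Subgroup G} (hU : KF U) (hV : KF V) (hUS : U ≤ (S : Subgroup G))
    (hVS : V ≤ (S : Subgroup G)) : R U V := by
  have hU' : IsKleinFour ↥(U.subgroupOf (S : Subgroup G)) :=
    kf_of_equiv (Subgroup.subgroupOfEquivOfLe hUS).symm hU
  have hV' : IsKleinFour ↥(V.subgroupOf (S : Subgroup G)) :=
    kf_of_equiv (Subgroup.subgroupOfEquivOfLe hVS).symm hV
  have h : Relation.ReflTransGen (Adj (G := ↥(S : Subgroup G))) _ _ := hS _ _ hU' hV'
  have hl : ∀ A B : Subgroup ↥(S : Subgroup G), Adj A B →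
      Adj (A.map (S : Subgroup G).subtype) (B.map (S : Subgroup G).subtype) := by
    intro A B hAB
    obtain ⟨hA, hB, hc⟩ := hAB
    refine ⟨kf_of_equiv (A.equivMapOfInjective _ (Subgroup.subtype_injective _)) hA,
      kf_of_equiv (B.equivMapOfInjective _ (Subgroup.subtype_injective _)) hB, ?_⟩
    rintro _ ⟨a, ha, rfl⟩ _ ⟨b, hb, rfl⟩
    exact congrArg Subtype.val (hc a ha b hb)
  have h2 := Relation.ReflTransGen.lift
    (fun A : Subgroup ↥(S : Subgroup G) => A.map (S : Subgroup G).subtype) hl _ _ h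
  simp only [Function.onFun, Subgroup.map_subgroupOf_eq_of_le hUS,
    Subgroup.map_subgroupOf_eq_of_le hVS] at h2
  exact h2

theorem gam_top_of_connected (S : Sylow 2 G) (hconn : Cfsg.IsFourConnected G)
    {U0 : Subgroup G} (hU0 : KF U0) (hU0S : U0 ≤ (S : Subgroup G)) : Gam S = ⊤ := by
  have hSG : (S : Subgroup G) ≤ Gam S := fun x hx =>
    normalizer_le_Gam S le_rfl hU0 hU0S (Subgroup.le_normalizer hx)
  rw [eq_top_iff]
  intro g _
  have hR : R U0 (MulAut.conj g • U0) := hconn U0 (MulAut.conj g • U0) hU0 (hU0.smul g)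
  have key : ∀ W : Subgroup G, R U0 W → ∃ γ ∈ Gam S, MulAut.conj γ • W ≤ (S : Subgroup G) := by
    intro W hW
    unfold R at hW
    induction hW with
    | refl => exact ⟨1, one_mem _, by rw [map_one, one_smul]; exact hU0S⟩
    | @tail b c _ hbc ih =>
      obtain ⟨γ, hγ, hγb⟩ := ih
      have hadj := hbc.smul γ
      have hle : MulAut.conj γ • c ≤ Gam S := by
        intro x hx
        apply normalizer_le_Gam S hγb hadj.1 le_rfl
        apply Subgroup.centralizer_le_normalizer
        rw [Subgroup.mem_centralizer_iff]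
        intro y hy
        exact hadj.2.2 y hy x hx
      obtain ⟨γ2, hγ2, h2⟩ := exists_conj_le_sylow S hSG (KF.isPGroup hadj.2.1) hle
      exact ⟨γ2 * γ, mul_mem hγ2 hγ, by rw [conj_mul_smul]; exact h2⟩
  obtain ⟨γ, hγ, hγW⟩ := key _ hR
  have h1 := mem_Gam_of_conj_le S hU0 _ U0 rfl le_rfl hU0S (γ * g)
    (by rw [conj_mul_smul]; exact hγW)
  have : g = γ⁻¹ * (γ * g) := by group
  rw [this]
  exact Subgroup.mul_mem _ (Subgroup.inv_mem _ hγ) h1

/-- stabiliser of the connected component of `U0` -/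
def Mstab (U0 : Subgroup G) : Subgroup G where
  carrier := {g | R U0 (MulAut.conj g • U0)}
  one_mem' := by
    show R U0 (MulAut.conj 1 • U0)
    rw [map_one, one_smul]
    exact R.refl _
  mul_mem' {a b} ha hb := by
    show R U0 (MulAut.conj (a * b) • U0)
    rw [conj_mul_smul]
    exact R.trans ha (R.smul hb a)
  inv_mem' {a} ha := by
    show R U0 (MulAut.conj a⁻¹ • U0)
    have h1 : R (MulAut.conj a⁻¹ • U0) (MulAut.conj a⁻¹ • MulAut.conj a • U0) := R.smul ha a⁻¹
    rw [conj_inv_smul_smul] at h1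
    exact h1.symm

theorem mem_Mstab {U0 : Subgroup G} {g : G} : g ∈ Mstab U0 ↔ R U0 (MulAut.conj g • U0) := Iff.rfl

theorem connected_of_gam_top (S : Sylow 2 G) (hS : Cfsg.IsFourConnected (S : Subgroup G))
    {U0 : Subgroup G} (hU0 : KF U0) (hU0S : U0 ≤ (S : Subgroup G)) (htop : Gam S = ⊤) :
    Cfsg.IsFourConnected G := by
  have hle : Gam S ≤ Mstab U0 := by
    apply iSup_le
    rintro ⟨Q, hQS, hQr⟩
    obtain ⟨U', hU'⟩ := exists_kf_of_not_prank hQr
    have hU : KF (U'.map Q.subtype) :=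
      kf_of_equiv (U'.equivMapOfInjective _ (Subgroup.subtype_injective _)) hU'
    have hUQ : U'.map Q.subtype ≤ Q := Subgroup.map_subtype_le U'
    intro g hg
    rw [mem_Mstab]
    have hgU : MulAut.conj g • (U'.map Q.subtype) ≤ (S : Subgroup G) := by
      intro x hx
      rw [mem_conj_smul_iff] at hx
      have h1 := hUQ hx
      have h2 := ((Subgroup.mem_normalizer_iff.mp hg) (g⁻¹ * x * g)).mp h1
      have e : g * (g⁻¹ * x * g) * g⁻¹ = x := by group
      rw [e] at h2
      exact hQS h2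
    have r1 : R U0 (U'.map Q.subtype) := conn_in_sylow S hS hU0 hU hU0S (le_trans hUQ hQS)
    have r2 : R (U'.map Q.subtype) (MulAut.conj g • (U'.map Q.subtype)) :=
      conn_in_sylow S hS hU (hU.smul g) (le_trans hUQ hQS) hgU
    have r3 : R (MulAut.conj g • U0) (MulAut.conj g • (U'.map Q.subtype)) := r1.smul g
    exact (r1.trans r2).trans r3.symm
  have hM : Mstab U0 = ⊤ := top_le_iff.mp (htop ▸ hle)
  have key : ∀ V : Subgroup G, KF V → R U0 V := by
    intro V hV
    obtain ⟨g, -, hg⟩ := exists_conj_le_sylow S le_top hV.isPGroup le_top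
    have r1 : R U0 (MulAut.conj g • V) := conn_in_sylow S hS hU0 (hV.smul g) hU0S hg
    have r2 := r1.smul g⁻¹
    rw [conj_inv_smul_smul] at r2
    have hmem : g⁻¹ ∈ Mstab U0 := hM ▸ Subgroup.mem_top _
    exact (mem_Mstab.mp hmem).trans r2
  intro V W hV hW
  exact (key V hV).symm.trans (key W hW)

theorem result {G : Type*} [Group G] [Finite G] (h2 : ¬ Cfsg.PRankLE 2 1 G)
    (S : Sylow 2 G) (hS : Cfsg.IsFourConnected (S : Subgroup G)) :
    ¬ Cfsg.IsFourConnected G ↔
      (⨆ Q : {Q : Subgroup G // Q ≤ (S : Subgroup G) ∧ ¬ Cfsg.PRankLE 2 1 Q},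
          Subgroup.normalizer ((Q : Subgroup G) : Set G)) ≠ ⊤ := by
  obtain ⟨U1, hU1⟩ := exists_kf_of_not_prank h2
  obtain ⟨g, -, hg⟩ := exists_conj_le_sylow S le_top hU1.isPGroup le_top
  have hU0 : KF (MulAut.conj g • U1) := hU1.smul g
  change ¬ Cfsg.IsFourConnected G ↔ Gam S ≠ ⊤
  constructor
  · intro hnc htop
    exact hnc (connected_of_gam_top S hS hU0 hg htop)
  · intro hne hc
    exact hne (gam_top_of_connected S hc hU0 hg)

end Cfsg.Agent.S0520
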