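import Cfsg.Statements.S0521
import Cfsg.Agent.Lib_helper14_QuadCore
import Cfsg.Agent.S1457
import Cfsg.Agent.Lib_helper23_PSolv3
import Cfsg.Agent.Lib_helper7_Quot
import Cfsg.Agent.Lib_helper1_PGroup

set_option autoImplicit false
open Cfsg

namespace Cfsg.Agent.S0521

open scoped commutatorElement
open Cfsg.Agent.helper14.QuadCore

section hol
variable {G : Type*} [Group G]

theorem quad_hol' (P : Subgroup G) (a : G) (haN : a ∈ Subgroup.normalizer (P : Set G))
    (hq : ∀ w : ↥P, (w : G) ∈ ⁅P, Subgroup.zpowers a⁆ →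
      w⁻¹ * P.normalizerMonoidHom ⟨a, haN⟩ w ∈ frattini ↥P) :
    ⁅⁅Vh P, Subgroup.zpowers (iota P ⟨a, haN⟩)⁆, Subgroup.zpowers (iota P ⟨a, haN⟩)⁆ = ⊥ := by
  rw [Subgroup.commutator_eq_bot_iff_le_centralizer, Subgroup.commutator_le]
  rintro _ ⟨v, rfl⟩ z hz
  obtain ⟨i, rfl⟩ := Subgroup.mem_zpowers_iff.mp hz
  induction v using QuotientGroup.induction_on with
  | H u =>
    have hbN : a ^ i ∈ Subgroup.normalizer (P : Set G) := Subgroup.zpow_mem _ haN i
    have hz' : (iota P ⟨a, haN⟩) ^ i = iota P ⟨a ^ i, hbN⟩ := by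
      rw [← map_zpow]; rfl
    rw [hz']
    have hwP : (u : G) * ((a ^ i) * (u : G)⁻¹ * (a ^ i)⁻¹) ∈ P :=
      P.mul_mem u.2 ((Subgroup.mem_normalizer_iff.mp hbN _).mp (P.inv_mem u.2))
    have hcomm : ⁅(SemidirectProduct.inl (QuotientGroup.mk u : VV P) : Hol P),
        iota P ⟨a ^ i, hbN⟩⁆
        = SemidirectProduct.inl (QuotientGroup.mk (⟨_, hwP⟩ : ↥P) : VV P) := by
      rw [commutatorElement_def]
      have e1 : (SemidirectProduct.inl (QuotientGroup.mk u : VV P) : Hol P) * iota P ⟨a ^ i, hbN⟩ *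
          (SemidirectProduct.inl (QuotientGroup.mk u : VV P) : Hol P)⁻¹ * (iota P ⟨a ^ i, hbN⟩)⁻¹
          = SemidirectProduct.inl (QuotientGroup.mk u : VV P) *
            (iota P ⟨a ^ i, hbN⟩ * SemidirectProduct.inl ((QuotientGroup.mk u : VV P)⁻¹) *
              (iota P ⟨a ^ i, hbN⟩)⁻¹) := by
        rw [map_inv]; group
      rw [e1, conj_inl, ← map_mul]
      congr 1
    rw [hcomm]
    rw [Subgroup.mem_centralizer_iff]
    intro h hh
    obtain ⟨j, rfl⟩ := Subgroup.mem_zpowers_iff.mp hh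
    have hfix : iota P ⟨a, haN⟩ *
        SemidirectProduct.inl (QuotientGroup.mk (⟨_, hwP⟩ : ↥P) : VV P) *
        (iota P ⟨a, haN⟩)⁻¹ = SemidirectProduct.inl (QuotientGroup.mk (⟨_, hwP⟩ : ↥P) : VV P) := by
      rw [conj_inl, theta_mk]
      congr 1
      rw [eq_comm, QuotientGroup.eq]
      apply hq
      have hw3 : (u : G) * ((a ^ i) * (u : G)⁻¹ * (a ^ i)⁻¹) = ⁅(u : G), a ^ i⁆ := by
        rw [commutatorElement_def]; group
      show (u : G) * ((a ^ i) * (u : G)⁻¹ * (a ^ i)⁻¹) ∈ _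
      rw [hw3]
      exact Subgroup.commutator_mem_commutator u.2 (Subgroup.zpow_mem_zpowers a i)
    have hc : Commute (iota P ⟨a, haN⟩)
        (SemidirectProduct.inl (QuotientGroup.mk (⟨_, hwP⟩ : ↥P) : VV P) : Hol P) := by
      show _ * _ = _ * _
      calc iota P ⟨a, haN⟩ * SemidirectProduct.inl (QuotientGroup.mk (⟨_, hwP⟩ : ↥P) : VV P)
          = (iota P ⟨a, haN⟩ * SemidirectProduct.inl (QuotientGroup.mk (⟨_, hwP⟩ : ↥P) : VV P) *
              (iota P ⟨a, haN⟩)⁻¹) * iota P ⟨a, haN⟩ := by group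
        _ = _ := by rw [hfix]
    exact (hc.zpow_left j).eq

theorem quad_in_pCore' [Finite G] {p : ℕ} [Fact p.Prime] (hodd : Odd (Nat.card G)) (hp2 : p ≠ 2)
    (P : Subgroup G) (hP : IsPGroup p P) (a : ↥(Subgroup.normalizer (P : Set G)))
    (hq : ∀ w : ↥P, (w : G) ∈ ⁅P, Subgroup.zpowers (a : G)⁆ →
      w⁻¹ * P.normalizerMonoidHom a w ∈ frattini ↥P) :
    QuotientGroup.mk' ((Subgroup.centralizer (P : Set G)).subgroupOf
      (Subgroup.normalizer (P : Set G))) a ∈ Cfsg.pCore p _ := by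
  by_contra hnot
  haveI : Finite (Hol P) := Finite.of_equiv _ SemidirectProduct.equivProd.symm
  obtain ⟨K, L, hL, hKH, ⟨e⟩⟩ := Cfsg.Agent.helper4.Red.section_of_quadratic_not_core hp2
    (Vh P) (Hh P) (elemAb_Vh hP) (normalizes P) (faithful P) (iota P a) ⟨a, rfl⟩
    (quad_hol' P (a : G) a.2 hq) (not_mem_pCore_hol hP a hnot)
  have h1 : Nat.card (Matrix.SpecialLinearGroup (Fin 2) (ZMod p)) ∣ Nat.card ↥K := by
    rw [← Nat.card_congr e.toEquiv]
    exact Subgroup.card_quotient_dvd_card _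
  have h2 : Nat.card ↥K ∣ Nat.card ↥(Hh P) := Subgroup.card_dvd_of_le hKH
  have h3 : Nat.card ↥(Hh P) ∣ Nat.card ↥(Subgroup.normalizer (P : Set G)) :=
    Subgroup.card_range_dvd (iota P)
  have h4 : Nat.card ↥(Subgroup.normalizer (P : Set G)) ∣ Nat.card G :=
    Subgroup.card_subgroup_dvd_card _
  have h5 : 2 ∣ Nat.card G :=
    (two_dvd_card_SL2 hp2).trans (h1.trans (h2.trans (h3.trans h4)))
  rw [← even_iff_two_dvd] at h5
  exact (Nat.not_even_iff_odd.mpr hodd) h5

end hol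


section pgrp
variable {Y : Type*} [Group Y] [Finite Y] {p : ℕ} [Fact p.Prime]

theorem commutator_lt_of_normalized (T C : Subgroup Y) (hT : IsPGroup p T) (hCT : C ≤ T)
    (hTC : T ≤ Subgroup.normalizer (C : Set Y)) (hC : C ≠ ⊥) : ⁅C, T⁆ < C := by
  have hle : ⁅C, T⁆ ≤ C := Subgroup.le_normalizer_iff_commutator_le_left.mp hTC
  refine lt_of_le_of_ne hle ?_
  intro heq
  apply hC
  haveI : Group.IsNilpotent ↥T := hT.isNilpotent
  obtain ⟨n, hn⟩ := (Subgroup.isNilpotent_iff_lowerCentralSeries T).mp inferInstance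
  have hall : ∀ m, C ≤ T.lowerCentralSeries m := by
    intro m
    induction m with
    | zero => exact hCT
    | succ m ih =>
      rw [Subgroup.lowerCentralSeries_succ]
      calc C = ⁅C, T⁆ := heq.symm
        _ ≤ ⁅T.lowerCentralSeries m, T⁆ := Subgroup.commutator_mono ih le_rfl
  rw [eq_bot_iff, ← hn]
  exact hall n

theorem exists_pow_p_of_lt_cyclic (C D : Subgroup Y) (hCc : IsCyclic ↥C) (hCp : IsPGroup p C)
    (hDC : D < C) (d : Y) (hd : d ∈ D) : ∃ c ∈ C, c ^ p = d := by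
  have hp : p.Prime := Fact.out
  obtain ⟨g, hg⟩ := hCc.exists_monoid_generator
  obtain ⟨m, hm⟩ := hg ⟨d, hDC.le hd⟩
  have hm' : (g : Y) ^ m = d := by
    have := congrArg Subtype.val hm
    rwa [Subgroup.coe_pow] at this
  by_cases hpm : p ∣ m
  · obtain ⟨k, rfl⟩ := hpm
    refine ⟨(g : Y) ^ k, C.pow_mem g.2 k, ?_⟩
    rw [← pow_mul, mul_comm, hm']
  · exfalso
    obtain ⟨j, hj⟩ := hCp g
    have hord : orderOf (g : Y) ∣ p ^ j := by
      apply orderOf_dvd_of_pow_eq_one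
      have := congrArg Subtype.val hj
      rwa [Subgroup.coe_pow, Subgroup.coe_one] at this
    have hcop : m.Coprime (orderOf (g : Y)) := by
      apply Nat.Coprime.coprime_dvd_right hord
      exact Nat.Coprime.pow_right _ ((Nat.Prime.coprime_iff_not_dvd hp).mpr hpm).symm
    obtain ⟨m', hm''⟩ := exists_pow_eq_self_of_coprime hcop
    have hgD : (g : Y) ∈ D := by
      rw [← hm'', hm']
      exact D.pow_mem hd m'
    apply hDC.ne
    apply le_antisymm hDC.le
    intro c hc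
    obtain ⟨k, hk⟩ := hg ⟨c, hc⟩
    have hk' : (g : Y) ^ k = c := by
      have := congrArg Subtype.val hk
      rwa [Subgroup.coe_pow] at this
    rw [← hk']
    exact D.pow_mem hgD k

end pgrp

section lemB

theorem sylow_le_pCore {Y : Type*} [Group Y] [Finite Y] [Group.IsSolvable Y]
    (hodd : Odd (Nat.card Y)) {p : ℕ} [Fact p.Prime] (hp2 : p ≠ 2)
    (hO : Cfsg.pPrimeCore p Y = ⊥) (T : Sylow p Y)
    (hcyc : IsCyclic ↥⁅(T : Subgroup Y), (T : Subgroup Y)⁆) :
    (T : Subgroup Y) ≤ Cfsg.pCore p Y := by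
  haveI hRn : (Cfsg.pCore p Y).Normal := Cfsg.Agent.helper1.pCore_normal p
  have hRp : IsPGroup p ↥(Cfsg.pCore p Y) := Cfsg.Agent.helper1.pCore_isPGroup p
  have hRT : Cfsg.pCore p Y ≤ T := Cfsg.Agent.helper1.pCore_le_sylow T
  have hHH : Subgroup.centralizer ((Cfsg.pCore p Y : Subgroup Y) : Set Y) ≤ Cfsg.pCore p Y :=
    Cfsg.Agent.helper23.hall_higman_123
      (Cfsg.Agent.helper23.psreach_top_of_solvable p _ Y rfl) hO
  obtain ⟨C, hC⟩ : ∃ C : Subgroup Y, C = ⁅(T : Subgroup Y), (T : Subgroup Y)⁆ := ⟨_, rfl⟩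
  rw [← hC] at hcyc
  have hCT : C ≤ T := by rw [hC]; exact Subgroup.commutator_le_self _
  have hTC : (T : Subgroup Y) ≤ Subgroup.normalizer (C : Set Y) := by
    rw [Subgroup.le_normalizer_iff_commutator_le_left]
    calc ⁅C, (T : Subgroup Y)⁆ ≤ ⁅(T : Subgroup Y), (T : Subgroup Y)⁆ :=
          Subgroup.commutator_mono hCT le_rfl
      _ = C := hC.symm
  have hCcomm : IsMulCommutative ↥C := by
    haveI := hcyc
    exact IsCyclic.commutative
  have hPP : Cfsg.pPrimePCore p Y ≤ Cfsg.pCore p Y := by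
    apply Cfsg.Agent.helper1.le_pCore
    · exact (Cfsg.Agent.helper1.pCore_normal p).comap _
    · unfold Cfsg.pPrimePCore
      apply IsPGroup.comap_of_ker_isPGroup
      · exact Cfsg.Agent.helper1.pCore_isPGroup p
      · rw [QuotientGroup.ker_mk', hO]; exact IsPGroup.of_bot
  have hCR : C ≤ Cfsg.pCore p Y :=
    (Cfsg.Agent.S1457.result hodd p T C hCT hCcomm hTC).trans hPP
  have hCp : IsPGroup p ↥C := T.2.to_le hCT
  have hNtop : Subgroup.normalizer ((Cfsg.pCore p Y : Subgroup Y) : Set Y) = ⊤ :=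
    Subgroup.normalizer_eq_top _
  intro x hx
  have hxN : x ∈ Subgroup.normalizer ((Cfsg.pCore p Y : Subgroup Y) : Set Y) := by
    rw [hNtop]; trivial
  have hq : ∀ w : ↥(Cfsg.pCore p Y), (w : Y) ∈ ⁅Cfsg.pCore p Y, Subgroup.zpowers x⁆ →
      w⁻¹ * (Cfsg.pCore p Y).normalizerMonoidHom ⟨x, hxN⟩ w ∈ frattini ↥(Cfsg.pCore p Y) := by
    intro w hw
    have hwC : (w : Y) ∈ C := by
      rw [hC]
      exact Subgroup.commutator_mono hRT ((Subgroup.zpowers_le).2 hx) hw
    have hd : ⁅(w : Y)⁻¹, x⁆ ∈ ⁅C, (T : Subgroup Y)⁆ :=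
      Subgroup.commutator_mem_commutator (C.inv_mem hwC) hx
    obtain ⟨c, hcC, hcp⟩ : ∃ c ∈ C, c ^ p = ⁅(w : Y)⁻¹, x⁆ := by
      by_cases hCb : C = ⊥
      · refine ⟨1, C.one_mem, ?_⟩
        have h0 : ⁅C, (T : Subgroup Y)⁆ = ⊥ := by rw [hCb]; exact Subgroup.commutator_bot_left _
        rw [h0, Subgroup.mem_bot] at hd
        rw [hd, one_pow]
      · exact exists_pow_p_of_lt_cyclic C ⁅C, (T : Subgroup Y)⁆ hcyc hCp
          (commutator_lt_of_normalized (T : Subgroup Y) C T.2 hCT hTC hCb) _ hd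
    have heq : w⁻¹ * (Cfsg.pCore p Y).normalizerMonoidHom ⟨x, hxN⟩ w
        = (⟨c, hCR hcC⟩ : ↥(Cfsg.pCore p Y)) ^ p := by
      apply Subtype.ext
      rw [Subgroup.coe_mul, nmh_coe, Subgroup.coe_pow, Subgroup.coe_inv]
      show (w : Y)⁻¹ * (x * (w : Y) * x⁻¹) = c ^ p
      rw [hcp, commutatorElement_def]
      group
    rw [heq]
    exact Cfsg.Agent.helper1.pow_mem_frattini_of_isPGroup hRp _
  have key := quad_in_pCore' hodd hp2 (Cfsg.pCore p Y) hRp ⟨x, hxN⟩ hq
  -- pull back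
  obtain ⟨K, hK⟩ : ∃ K : Subgroup ↥(Subgroup.normalizer ((Cfsg.pCore p Y : Subgroup Y) : Set Y)),
      K = (Cfsg.pCore p _).comap (QuotientGroup.mk'
        ((Subgroup.centralizer ((Cfsg.pCore p Y : Subgroup Y) : Set Y)).subgroupOf
          (Subgroup.normalizer ((Cfsg.pCore p Y : Subgroup Y) : Set Y)))) := ⟨_, rfl⟩
  have hKn : K.Normal := by
    rw [hK]; exact (Cfsg.Agent.helper1.pCore_normal p).comap _
  have hKp : IsPGroup p ↥K := by
    rw [hK]
    apply IsPGroup.comap_of_ker_isPGroup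
    · exact Cfsg.Agent.helper1.pCore_isPGroup p
    · rw [QuotientGroup.ker_mk']
      have hle : (Subgroup.centralizer ((Cfsg.pCore p Y : Subgroup Y) : Set Y)).subgroupOf
          (Subgroup.normalizer ((Cfsg.pCore p Y : Subgroup Y) : Set Y))
          ≤ (Cfsg.pCore p Y).subgroupOf
            (Subgroup.normalizer ((Cfsg.pCore p Y : Subgroup Y) : Set Y)) := by
        intro y hy
        exact hHH hy
      refine IsPGroup.to_le ?_ hle
      exact hRp.comap_of_injective _ (Subgroup.subtype_injective _)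
  have hsurj : Function.Surjective
      (Subgroup.normalizer ((Cfsg.pCore p Y : Subgroup Y) : Set Y)).subtype := by
    intro y
    exact ⟨⟨y, by rw [hNtop]; trivial⟩, rfl⟩
  have hK'n : (K.map (Subgroup.normalizer ((Cfsg.pCore p Y : Subgroup Y) : Set Y)).subtype).Normal :=
    hKn.map _ hsurj
  have hK'p : IsPGroup p ↥(K.map (Subgroup.normalizer ((Cfsg.pCore p Y : Subgroup Y) : Set Y)).subtype) :=
    hKp.map _
  have hle := Cfsg.Agent.helper1.le_pCore hK'n hK'p
  apply hle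
  refine ⟨⟨x, hxN⟩, ?_, rfl⟩
  rw [hK]
  exact key

end lemB

/-- Let X be a finite solvable group of odd order, p a prime and S a Sylow p-subgroup of X whose commutator subgroup is
cyclic. Then the product of the largest normal subgroup of X of order prime to p with S is a normal subgroup of X. -/
theorem result {X : Type*} [Group X] [Finite X] [Group.IsSolvable X]
    (hX : Odd (Nat.card X)) (p : ℕ) [Fact p.Prime] (S : Sylow p X) (hS : IsCyclic (commutator (S : Subgroup X))) :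
    (Cfsg.pPrimeCore p X ⊔ (S : Subgroup X)).Normal := by
  have hpp : p.Prime := Fact.out
  haveI hNn : (Cfsg.pPrimeCore p X).Normal := Cfsg.Agent.helper1.pPrimeCore_normal p
  by_cases hp2 : p = 2
  · have hSbot : (S : Subgroup X) = ⊥ := by
      apply Subgroup.eq_bot_of_card_eq
      obtain ⟨k, hk⟩ := IsPGroup.iff_card.mp S.2
      have hdvd : Nat.card (S : Subgroup X) ∣ Nat.card X := Subgroup.card_subgroup_dvd_card _
      have hoddS : Odd (Nat.card (S : Subgroup X)) := Odd.of_dvd_nat hX hdvd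
      rw [hk, hp2] at hoddS
      rw [hk, hp2]
      cases k with
      | zero => rfl
      | succ k =>
        exfalso
        rw [pow_succ] at hoddS
        exact (Nat.not_even_iff_odd.mpr hoddS) (even_two.mul_left _)
    rw [hSbot, sup_bot_eq]
    exact hNn
  · have hπ : Function.Surjective (QuotientGroup.mk' (Cfsg.pPrimeCore p X)) :=
      QuotientGroup.mk'_surjective _
    obtain ⟨T, hT⟩ : ∃ T : Sylow p (X ⧸ Cfsg.pPrimeCore p X),
        (T : Subgroup (X ⧸ Cfsg.pPrimeCore p X))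
          = (S : Subgroup X).map (QuotientGroup.mk' (Cfsg.pPrimeCore p X)) :=
      ⟨S.mapSurjective hπ, Sylow.coe_mapSurjective _ _⟩
    have hoddY : Odd (Nat.card (X ⧸ Cfsg.pPrimeCore p X)) :=
      Odd.of_dvd_nat hX (Subgroup.card_quotient_dvd_card _)
    have hO := Cfsg.Agent.helper7.pPrimeCore_quotient_eq_bot (G := X) hpp
    have hcyc : IsCyclic ↥⁅(T : Subgroup (X ⧸ Cfsg.pPrimeCore p X)),
        (T : Subgroup (X ⧸ Cfsg.pPrimeCore p X))⁆ := by
      rw [hT, ← Subgroup.map_commutator, ← Subgroup.map_subtype_commutator, Subgroup.map_map]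
      haveI := hS
      exact isCyclic_of_surjective
        (((QuotientGroup.mk' (Cfsg.pPrimeCore p X)).comp (S : Subgroup X).subtype).subgroupMap
          (commutator ↥(S : Subgroup X)))
        (MonoidHom.subgroupMap_surjective _ _)
    have hle := sylow_le_pCore hoddY hp2 hO T hcyc
    have hTeq : (T : Subgroup (X ⧸ Cfsg.pPrimeCore p X)) = Cfsg.pCore p _ :=
      le_antisymm hle (Cfsg.Agent.helper1.pCore_le_sylow T)
    have hcomap : (Cfsg.pPrimeCore p X ⊔ (S : Subgroup X))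
        = (T : Subgroup (X ⧸ Cfsg.pPrimeCore p X)).comap
          (QuotientGroup.mk' (Cfsg.pPrimeCore p X)) := by
      rw [hT, Subgroup.comap_map_eq, QuotientGroup.ker_mk', sup_comm]
    rw [hcomap, hTeq]
    exact (Cfsg.Agent.helper1.pCore_normal p).comap _

end Cfsg.Agent.S0521
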