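import Cfsg.Statements.S0522
import Cfsg.Agent.Lib_helper15_TT3
import Cfsg.Agent.Lib_helper15_KL
import Cfsg.Agent.Lib_helper23_Tr13
import Cfsg.Agent.Lib_helper23_PSolv3
import Cfsg.Agent.Lib_helper7_PSolv

set_option autoImplicit false
open Cfsg

namespace Cfsg.Agent.S0522

/-- Transitivity Theorem (odd-order setting). Let X be a finite group of odd order in which the normalizer of every
nontrivial p-subgroup is solvable, P a Sylow p-subgroup, and B an abelian subgroup of P, normalized by P, with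
C_P(B) = B and containing an elementary abelian subgroup of order p^3. Then for every prime q ≠ p, any two q-subgroups
that are maximal among the q-subgroups normalized by B are conjugate by an element of the centralizer of B. -/
theorem result {X : Type*} [Group X] [Finite X] (hX : Odd (Nat.card X)) (p : ℕ)
    [Fact p.Prime] (hloc : ∀ T : Subgroup X, IsPGroup p T → T ≠ ⊥ → Group.IsSolvable (Subgroup.normalizer (T : Set X)))
    (P : Sylow p X) (B : Subgroup X) (hBP : B ≤ (P : Subgroup X))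
    (hBn : ∀ x ∈ (P : Subgroup X), ∀ b ∈ B, x * b * x⁻¹ ∈ B) (hBa : IsMulCommutative B)
    (hBc : (P : Subgroup X) ⊓ Subgroup.centralizer (B : Set X) = B)
    (hB3 : ∃ E : Subgroup X, E ≤ B ∧ (∀ e ∈ E, e ^ p = 1) ∧ p ^ 3 ≤ Nat.card E)
    (q : ℕ) [Fact q.Prime] (hqp : q ≠ p) (Q₁ Q₂ : Subgroup X)
    (h₁ : IsPGroup q Q₁ ∧ B ≤ Subgroup.normalizer (Q₁ : Set X) ∧
      ∀ R : Subgroup X, IsPGroup q R → B ≤ Subgroup.normalizer (R : Set X) → Q₁ ≤ R → R = Q₁)
    (h₂ : IsPGroup q Q₂ ∧ B ≤ Subgroup.normalizer (Q₂ : Set X) ∧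
      ∀ R : Subgroup X, IsPGroup q R → B ≤ Subgroup.normalizer (R : Set X) → Q₂ ≤ R → R = Q₂) :
    ∃ c ∈ Subgroup.centralizer (B : Set X), Q₂ = Q₁.map (MulAut.conj c).toMonoidHom := by
  classical
  have hpp : p.Prime := Fact.out
  obtain ⟨E₁, hE₁B, hE₁e, hE₁c⟩ := hB3
  have hBp : IsPGroup p B := P.isPGroup'.to_le hBP
  -- `p` is odd
  have hE₁1 : 1 < Nat.card E₁ := by
    have : 1 < p ^ 3 := Nat.one_lt_pow (by norm_num) hpp.one_lt
    omega
  have hpB : p ∣ Nat.card B := by
    obtain ⟨j, hj⟩ := hBp.exists_card_eq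
    have hj0 : j ≠ 0 := by
      intro h0
      rw [h0, pow_zero] at hj
      have := Subgroup.card_le_of_le hE₁B
      omega
    rw [hj]; exact dvd_pow_self p hj0
  have hp2 : p ≠ 2 := by
    intro h
    have h2 : 2 ∣ Nat.card X := by
      rw [← h]; exact hpB.trans (Subgroup.card_subgroup_dvd_card B)
    exact (Nat.not_even_iff_odd.2 hX) (even_iff_two_dvd.2 h2)
  -- `B` contains the `p`-elements of its centralizer
  have hPN : (P : Subgroup X) ≤ Subgroup.normalizer (B : Set X) := by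
    intro x hx
    rw [Subgroup.mem_normalizer_iff]
    intro b
    constructor
    · intro hb; exact hBn x hx b hb
    · intro hb
      have := hBn x⁻¹ (Subgroup.inv_mem _ hx) _ hb
      have e : x⁻¹ * (x * b * x⁻¹) * x⁻¹⁻¹ = b := by group
      rw [e] at this; exact this
  have hEfull : ∀ x ∈ Subgroup.centralizer (B : Set X), IsPGroup p (Subgroup.zpowers x) → x ∈ B := by
    intro x hx hxp
    apply Cfsg.Agent.helper23.pelement_centralizer_mem P B hPN hBc x hx
    obtain ⟨k, hk⟩ := hxp ⟨x, Subgroup.mem_zpowers x⟩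
    exact ⟨k, by simpa using congrArg Subtype.val hk⟩
  have hE₁ea : Cfsg.IsElementaryAbelian p E₁ := by
    refine ⟨⟨⟨fun x y => ?_⟩⟩, hE₁e⟩
    apply Subtype.ext
    have h0 := hBa.is_comm.comm ⟨x, hE₁B x.2⟩ ⟨y, hE₁B y.2⟩
    have h1 := congrArg Subtype.val h0
    exact h1
  have hE₁c2 : p ^ 2 < Nat.card E₁ := by
    have : p ^ 2 < p ^ 3 := Nat.pow_lt_pow_right hpp.one_lt (by norm_num)
    omega
  have hKL : ∀ a ∈ B, a ≠ 1 → ∃ L : Subgroup X, (Nat.card L).Coprime p ∧
      B ≤ Subgroup.normalizer (L : Set X) ∧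
      ∀ T : Subgroup X, IsPGroup q T → B ≤ Subgroup.normalizer (T : Set X) →
        T ≤ Subgroup.centralizer ({a} : Set X) → T ≤ L := by
    intro a haB ha1
    apply Cfsg.Agent.helper15.TT.hKL_of_local hqp B hBa a haB
    have hZp : IsPGroup p (Subgroup.zpowers a) := hBp.to_le (by
      rw [Subgroup.zpowers_le]; exact haB)
    have hZ1 : Subgroup.zpowers a ≠ ⊥ := by
      intro h
      exact ha1 (Subgroup.zpowers_eq_bot.1 h)
    haveI hsolv := hloc (Subgroup.zpowers a) hZp hZ1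
    have hcon : Cfsg.IsPConstrained p
        ↥(Subgroup.normalizer ((Subgroup.zpowers a : Subgroup X) : Set X)) :=
      Cfsg.Agent.helper7.isPConstrained_of_isPSolvable hpp
        (Cfsg.Agent.helper23.isPSolvable_of_solvable p _)
    have hBN : B ≤ Subgroup.normalizer ((Subgroup.zpowers a : Subgroup X) : Set X) := by
      intro x hx
      have hxc : x ∈ Subgroup.centralizer ((Subgroup.zpowers a : Subgroup X) : Set X) := by
        rw [Subgroup.mem_centralizer_iff]
        intro y hy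
        have hyB : y ∈ B := by
          have : Subgroup.zpowers a ≤ B := by rw [Subgroup.zpowers_le]; exact haB
          exact this hy
        have h0 := hBa.is_comm.comm ⟨y, hyB⟩ ⟨x, hx⟩
        exact congrArg Subtype.val h0
      exact Subgroup.centralizer_le_normalizer _ hxc
    intro R hR hBR
    exact Cfsg.Agent.helper15.Baer.kl_odd hp2 hcon _ R hBp.comap_subtype
      (Cfsg.Agent.helper15.TT.full_subgroupOf B _ hBN hEfull) hR hBR
  have hmax : ∀ Q : Subgroup X, (IsPGroup q Q ∧ B ≤ Subgroup.normalizer (Q : Set X) ∧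
      ∀ R : Subgroup X, IsPGroup q R → B ≤ Subgroup.normalizer (R : Set X) → Q ≤ R → R = Q) →
      Q ∈ Cfsg.maxInvSubgroups ⊤ B {q} := by
    intro Q hQ
    refine ⟨⟨le_top, Cfsg.Agent.helper23.primes_of_isPGroup q Q hQ.1, hQ.2.1⟩, ?_⟩
    intro R hR hQR
    exact hQ.2.2 R (Cfsg.Agent.helper23.isPGroup_of_primes q R hR.2.1) hR.2.2 hQR
  obtain ⟨k, hk, hkQ⟩ := Cfsg.Agent.helper15.TT.tt_main hqp B E₁ (Subgroup.centralizer (B : Set X))
    hBp hBa hE₁B hE₁ea hE₁c2 le_rfl (fun c hc _ => hc) hKL _ Q₁ Q₂ (hmax Q₁ h₁) (hmax Q₂ h₂) rfl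
  exact ⟨k, hk, hkQ⟩

end Cfsg.Agent.S0522
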