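import Cfsg.Statements.S0526
import Cfsg.Agent.Lib_helper3_SS

set_option autoImplicit false
open Cfsg

namespace Cfsg.Agent.S0526

open Subgroup Cfsg.Agent.helper3
open scoped commutatorElement

/-- In a group `Q` with a normal cyclic subgroup `zpowers c`, every commutator centralizes `c`. -/
theorem comm_centralizes {Q : Type*} [Group Q] (c : Q) (hC : (zpowers c).Normal) (r q : Q) :
    ⁅r, q⁆ * c = c * ⁅r, q⁆ := by
  have hA : ∀ q : Q, ∃ i : ℤ, q * c * q⁻¹ = c ^ i := by
    intro q
    have := hC.conj_mem c (mem_zpowers c) q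
    obtain ⟨i, hi⟩ := mem_zpowers_iff.1 this
    exact ⟨i, hi.symm⟩
  have hB : ∀ q r : Q, (q * r) * c * (q * r)⁻¹ = (r * q) * c * (r * q)⁻¹ := by
    intro q r
    obtain ⟨i, hi⟩ := hA q
    obtain ⟨j, hj⟩ := hA r
    have e1 : (q * r) * c * (q * r)⁻¹ = q * (r * c * r⁻¹) * q⁻¹ := by group
    have e2 : (r * q) * c * (r * q)⁻¹ = r * (q * c * q⁻¹) * r⁻¹ := by group
    have e3 : ∀ (x y : Q) (k : ℤ), x * y ^ k * x⁻¹ = (x * y * x⁻¹) ^ k := by
      intro x y k
      rw [conj_zpow]
    rw [e1, e2, hj, hi, e3, e3, hi, hj, ← zpow_mul, ← zpow_mul, mul_comm]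
  have h := hB q⁻¹ r⁻¹
  have e4 : ⁅r, q⁆ * c = (q⁻¹ * r⁻¹)⁻¹ * ((r⁻¹ * q⁻¹) * c * (r⁻¹ * q⁻¹)⁻¹) * (q⁻¹ * r⁻¹) * ⁅r, q⁆ := by
    simp only [commutatorElement_def]; group
  rw [e4, ← h]
  simp only [commutatorElement_def]; group

/-- Key step: `⁅H ⊔ zpowers g, commutator G⁆ ≤ H`. -/
theorem key {G : Type*} [Group G] (H : Subgroup G) (g : G) (hHn : H.Normal)
    (hn : (H ⊔ zpowers g).Normal) : ⁅H ⊔ zpowers g, commutator G⁆ ≤ H := by
  haveI := hHn
  set π := QuotientGroup.mk' H with hπ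
  have hmap : (H ⊔ zpowers g).map π = zpowers (π g) := by
    rw [Subgroup.map_sup, QuotientGroup.map_mk'_self, bot_sup_eq, MonoidHom.map_zpowers]
  have hC : (zpowers (π g)).Normal := by
    rw [← hmap]; exact hn.map π (QuotientGroup.mk'_surjective H)
  rw [Subgroup.commutator_le]
  intro n hnN d hd
  rw [← QuotientGroup.ker_mk' H, MonoidHom.mem_ker, map_commutatorElement,
    commutatorElement_eq_one_iff_mul_comm]
  have h1 : π n ∈ zpowers (π g) := by rw [← hmap]; exact ⟨n, hnN, rfl⟩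
  obtain ⟨t, ht⟩ := mem_zpowers_iff.1 h1
  have h2 : π d ∈ commutator (G ⧸ H) := by
    have : (commutator G).map π ≤ commutator (G ⧸ H) := by
      rw [_root_.commutator_def, Subgroup.map_commutator, _root_.commutator_def]
      exact Subgroup.commutator_mono le_top le_top
    exact this ⟨d, hd, rfl⟩
  -- commutator (G ⧸ H) ≤ centralizer {π g}
  have h3 : commutator (G ⧸ H) ≤ Subgroup.centralizer ({π g} : Set (G ⧸ H)) := by
    rw [_root_.commutator_def, Subgroup.commutator_le]
    intro r _ q _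
    rw [Subgroup.mem_centralizer_iff]
    intro x hx
    rw [Set.mem_singleton_iff] at hx
    subst hx
    exact (comm_centralizes (π g) hC r q).symm
  have h4 : π g * π d = π d * π g := Subgroup.mem_centralizer_iff.1 (h3 h2) (π g) rfl
  rw [← ht]
  exact ((Commute.zpow_left (show Commute (π g) (π d) from h4) t)).eq

theorem nil_aux {G : Type*} [Group G] {N : Subgroup G} (h : SSReach N) :
    ∀ m, (commutator G).lowerCentralSeries m ≤ N → ∃ k, (commutator G).lowerCentralSeries k = ⊥ := by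
  induction h with
  | bot => intro m hm; exact ⟨m, le_bot_iff.1 hm⟩
  | step H g _ hHn hn ih =>
    intro m hm
    apply ih (m + 1)
    rw [Subgroup.lowerCentralSeries_succ]
    exact (Subgroup.commutator_mono hm le_rfl).trans (key H g hHn hn)

theorem result {G : Type*} [Group G] [Finite G] (hG : Cfsg.IsSupersolvable G) : Group.IsNilpotent (commutator G) := by
  rw [Subgroup.isNilpotent_iff_lowerCentralSeries]
  exact nil_aux (ssreach_of_isSupersolvable hG) 0 le_top

end Cfsg.Agent.S0526
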