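import Cfsg.Statements.S0527
import Cfsg.Agent.Lib_helper3_SS
import Cfsg.Agent.Lib_helper3_SS2
import Cfsg.Agent.Lib_helper19_Sylow
import Mathlib

set_option autoImplicit false
open Cfsg

namespace Cfsg.Agent.S0527

universe u

theorem isCoatom_map_mk {G : Type*} [Group G] (N : Subgroup G) [N.Normal] {M : Subgroup G}
    (hM : IsCoatom M) (hNM : N ≤ M) : IsCoatom (M.map (QuotientGroup.mk' N)) := by
  have hsurj : Function.Surjective (QuotientGroup.mk' N) := QuotientGroup.mk'_surjective N
  have hcm : (M.map (QuotientGroup.mk' N)).comap (QuotientGroup.mk' N) = M := by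
    apply Subgroup.comap_map_eq_self
    rw [QuotientGroup.ker_mk']; exact hNM
  constructor
  · intro h
    rw [h, Subgroup.comap_top] at hcm
    exact hM.1 hcm.symm
  · intro K' hK'
    have h1 : M < K'.comap (QuotientGroup.mk' N) := by
      rw [← hcm]
      refine lt_of_le_of_ne (Subgroup.comap_mono hK'.le) ?_
      intro heq
      have := congrArg (Subgroup.map (QuotientGroup.mk' N)) heq
      rw [Subgroup.map_comap_eq_self_of_surjective hsurj,
        Subgroup.map_comap_eq_self_of_surjective hsurj] at this
      exact hK'.ne this
    have h2 := hM.2 _ h1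
    have := congrArg (Subgroup.map (QuotientGroup.mk' N)) h2
    rwa [Subgroup.map_comap_eq_self_of_surjective hsurj, Subgroup.map_top_of_surjective _ hsurj] at this

theorem main (n : ℕ) : ∀ (G : Type u) [Group G] [Finite G], Nat.card G = n →
    Cfsg.IsSupersolvable G → ∀ M : Subgroup G, IsCoatom M → M.index.Prime := by
  induction n using Nat.strong_induction_on with
  | _ n ih =>
    intro G _ _ hn hG M hM
    haveI : Nontrivial G := by
      by_contra hnt
      rw [not_nontrivial_iff_subsingleton] at hnt
      exact hM.1 (Subsingleton.elim _ _)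
    obtain ⟨N, hNn, hNp⟩ := helper3.exists_normal_prime_card hG
    haveI := hNn
    by_cases hNM : N ≤ M
    · have hsurj : Function.Surjective (QuotientGroup.mk' N) := QuotientGroup.mk'_surjective N
      have hco := isCoatom_map_mk N hM hNM
      have hss : Cfsg.IsSupersolvable (G ⧸ N) := helper3.isSupersolvable_quotient hG N
      have hlt : Nat.card (G ⧸ N) < n := by
        have h1 := Subgroup.card_eq_card_quotient_mul_card_subgroup N
        have h2 : 2 ≤ Nat.card N := hNp.two_le
        have h3 : 0 < Nat.card (G ⧸ N) := Nat.card_pos
        rw [← hn, h1]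
        nlinarith
      have hpr := ih _ hlt (G ⧸ N) rfl hss _ hco
      have hcm : (M.map (QuotientGroup.mk' N)).comap (QuotientGroup.mk' N) = M := by
        apply Subgroup.comap_map_eq_self
        rw [QuotientGroup.ker_mk']; exact hNM
      rw [← hcm, Subgroup.index_comap_of_surjective _ hsurj]
      exact hpr
    · have hsup : M ⊔ N = ⊤ := by
        apply hM.2
        exact lt_of_le_of_ne le_sup_left (fun h => hNM (h ▸ le_sup_right))
      have hinf : M ⊓ N = ⊥ := by
        have hdvd : Nat.card (M ⊓ N : Subgroup G) ∣ Nat.card N := Subgroup.card_dvd_of_le inf_le_right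
        rcases (Nat.dvd_prime hNp).mp hdvd with h1 | h1
        · exact Subgroup.card_eq_one.mp h1
        · exfalso
          apply hNM
          have : M ⊓ N = N := Subgroup.eq_of_le_of_card_ge inf_le_right h1.ge
          rw [← this]; exact inf_le_left
      have h1 := helper19.relIndex_inf_normal M N
      rw [hsup, hinf, Subgroup.relIndex_bot_left, Subgroup.relIndex_top_right] at h1
      rw [← h1]
      exact hNp


/-- In a finite supersolvable group the index of any maximal subgroup is a prime number. -/
theorem result {G : Type*} [Group G] [Finite G] (hG : Cfsg.IsSupersolvable G) (M : Subgroup G) (hM : IsCoatom M) : M.index.Prime := by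
  exact main (Nat.card G) G rfl hG M hM

end Cfsg.Agent.S0527
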