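import Cfsg.Statements.S0580
import Mathlib

set_option autoImplicit false
open Cfsg

namespace Cfsg.Agent.S0580

open Subgroup

universe u

/-- If every maximal subgroup has prime index, the Sylow subgroup for the largest prime is normal. -/
theorem sylow_normal_of_largest {G : Type u} [Group G] [Finite G]
    (h : ∀ M : Subgroup G, IsCoatom M → M.index.Prime) (p : ℕ) [Fact p.Prime]
    (hmax : ∀ q : ℕ, q.Prime → q ∣ Nat.card G → q ≤ p) (P : Sylow p G) :
    (P : Subgroup G).Normal := by
  by_contra hPn
  have hne : normalizer ((P : Subgroup G) : Set G) ≠ ⊤ := fun h1 => hPn (normalizer_eq_top_iff.1 h1)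
  obtain ⟨M, hM, hNM⟩ := (eq_top_or_exists_le_coatom (normalizer ((P : Subgroup G) : Set G))).resolve_left hne
  have hq := h M hM
  have hPM : (P : Subgroup G) ≤ M := le_normalizer.trans hNM
  have c1 : Nat.card (Sylow p G) = (normalizer ((P : Subgroup G) : Set G)).index :=
    P.card_eq_index_normalizer
  have c2 : Nat.card (Sylow p M) = (normalizer (((P.subtype hPM : Sylow p M) : Subgroup M) : Set M)).index :=
    (P.subtype hPM).card_eq_index_normalizer
  have e : normalizer (((P.subtype hPM : Sylow p M) : Subgroup M) : Set M)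
      = (normalizer ((P : Subgroup G) : Set G)).subgroupOf M := by
    rw [Sylow.coe_subtype, subgroupOf_normalizer_eq hPM]
  rw [e] at c2
  have c3 : (normalizer ((P : Subgroup G) : Set G)).relIndex M * M.index
      = (normalizer ((P : Subgroup G) : Set G)).index := relIndex_mul_index hNM
  have m1 : Nat.card (Sylow p G) ≡ 1 [MOD p] := card_sylow_modEq_one p G
  have m2 : Nat.card (Sylow p M) ≡ 1 [MOD p] := card_sylow_modEq_one p M
  have hmod : M.index ≡ 1 [MOD p] := by
    have h1 : Nat.card (Sylow p M) * M.index ≡ 1 * M.index [MOD p] := m2.mul_right _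
    rw [one_mul] at h1
    have h2 : Nat.card (Sylow p M) * M.index = Nat.card (Sylow p G) := by
      rw [c2, c1]; exact c3
    rw [h2] at h1
    exact h1.symm.trans m1
  have hq1 : 1 ≤ M.index := hq.one_lt.le
  have hdvd : p ∣ M.index - 1 := (Nat.modEq_iff_dvd' hq1).1 hmod.symm
  have hpos : 0 < M.index - 1 := by have := hq.one_lt; omega
  have hle : p ≤ M.index - 1 := Nat.le_of_dvd hpos hdvd
  have hqp : M.index ≤ p := hmax _ hq (Subgroup.index_dvd_card M)
  omega

theorem main (n : ℕ) : ∀ (G : Type u) [Group G] [Finite G], Nat.card G = n →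
    (∀ M : Subgroup G, IsCoatom M → M.index.Prime) → Group.IsSolvable G := by
  induction n using Nat.strong_induction_on with
  | _ n ih =>
  intro G _ _ hn h
  by_cases htriv : Nat.card G ≤ 1
  · haveI : Subsingleton G := Finite.card_le_one_iff_subsingleton.1 htriv
    infer_instance
  · have hS : (Nat.card G).primeFactors.Nonempty := Nat.nonempty_primeFactors.2 (by omega)
    set p := (Nat.card G).primeFactors.max' hS with hp
    have hpm : p ∈ (Nat.card G).primeFactors := Finset.max'_mem _ hS
    have hpp : p.Prime := Nat.prime_of_mem_primeFactors hpm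
    have hpd : p ∣ Nat.card G := Nat.dvd_of_mem_primeFactors hpm
    haveI : Fact p.Prime := ⟨hpp⟩
    have hmax : ∀ q : ℕ, q.Prime → q ∣ Nat.card G → q ≤ p := by
      intro q hq hqd
      apply Finset.le_max'
      exact Nat.mem_primeFactors.2 ⟨hq, hqd, Nat.card_pos.ne'⟩
    obtain ⟨P⟩ : Nonempty (Sylow p G) := inferInstance
    haveI hPn : (P : Subgroup G).Normal := sylow_normal_of_largest h p hmax P
    -- card of quotient is smaller
    have hPcard : 2 ≤ Nat.card (P : Subgroup G) := by
      rw [P.card_eq_multiplicity]
      have : 0 < (Nat.card G).factorization p :=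
        Nat.Prime.factorization_pos_of_dvd hpp Nat.card_pos.ne' hpd
      calc 2 ≤ p := hpp.two_le
        _ = p ^ 1 := (pow_one p).symm
        _ ≤ p ^ (Nat.card G).factorization p := Nat.pow_le_pow_right hpp.pos this
    have hlt : Nat.card (G ⧸ (P : Subgroup G)) < n := by
      rw [← hn, ← Subgroup.index_eq_card, ← Subgroup.card_mul_index (P : Subgroup G)]
      have hpos : 0 < (P : Subgroup G).index := Nat.pos_of_ne_zero Subgroup.index_ne_zero_of_finite
      nlinarith
    have hquot : Group.IsSolvable (G ⧸ (P : Subgroup G)) := by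
      apply ih _ hlt (G ⧸ (P : Subgroup G)) rfl
      intro M' hM'
      have hco := isCoatom_comap_of_surjective (QuotientGroup.mk'_surjective (P : Subgroup G)) hM'
      have := h _ hco
      rwa [Subgroup.index_comap_of_surjective M' (QuotientGroup.mk'_surjective (P : Subgroup G))] at this
    haveI : Group.IsNilpotent (P : Subgroup G) := P.2.isNilpotent
    haveI : Group.IsSolvable (P : Subgroup G) := inferInstance
    haveI := hquot
    apply Group.isSolvable_of_ker_le_range (P : Subgroup G).subtype (QuotientGroup.mk' (P : Subgroup G))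
    rw [QuotientGroup.ker_mk', Subgroup.range_subtype]

theorem result {G : Type*} [Group G] [Finite G] (h : ∀ M : Subgroup G, IsCoatom M → M.index.Prime) : Group.IsSolvable G :=
  main (Nat.card G) G rfl h

end Cfsg.Agent.S0580
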