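import Cfsg.Statements.S0529
import Cfsg.Agent.Lib_helper3_SS3
import Cfsg.Agent.S0527
import Cfsg.Agent.S0580
import Mathlib

set_option autoImplicit false
open Cfsg

namespace Cfsg.Agent.S0529

universe u

theorem main (n : ℕ) : ∀ (G : Type u) [Group G] [Finite G], Nat.card G = n →
    Cfsg.IsSupersolvable G →
    ∃ (m : ℕ) (H : Fin (m + 1) → Subgroup G), H 0 = ⊥ ∧ H (Fin.last m) = ⊤ ∧
      (∀ i, (H i).Normal) ∧
      (∀ i : Fin m, H i.castSucc ≤ H i.succ ∧ ((H i.castSucc).relIndex (H i.succ)).Prime) ∧
      ∀ i j : Fin m, i ≤ j →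
        (H j.castSucc).relIndex (H j.succ) ≤ (H i.castSucc).relIndex (H i.succ) := by
  induction n using Nat.strong_induction_on with
  | _ n ih =>
    intro G _ _ hn hG
    by_cases h1 : Nat.card G = 1
    · have hs : Subsingleton G := (Nat.card_eq_one_iff_unique.mp h1).1
      refine ⟨0, fun _ => ⊥, rfl, Subsingleton.elim _ _, fun _ => Subgroup.normal_bot,
        fun i => i.elim0, fun i => i.elim0⟩
    · have hpos : 0 < Nat.card G := Nat.card_pos
      have hne : (Nat.card G).primeFactors.Nonempty := Nat.nonempty_primeFactors.mpr (by omega)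
      set p := (Nat.card G).primeFactors.max' hne with hpdef
      have hpmem : p ∈ (Nat.card G).primeFactors := Finset.max'_mem _ hne
      have hpp : p.Prime := Nat.prime_of_mem_primeFactors hpmem
      have hpd : p ∣ Nat.card G := Nat.dvd_of_mem_primeFactors hpmem
      have hmax : ∀ q : ℕ, q.Prime → q ∣ Nat.card G → q ≤ p := by
        intro q hq hqd
        exact Finset.le_max' _ q (Nat.mem_primeFactors.mpr ⟨hq, hqd, hpos.ne'⟩)
      haveI : Fact p.Prime := ⟨hpp⟩
      obtain ⟨P⟩ : Nonempty (Sylow p G) := inferInstance
      haveI hPn : (P : Subgroup G).Normal :=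
        S0580.sylow_normal_of_largest (fun M hM => S0527.result hG M hM) p hmax P
      have hPne : (P : Subgroup G) ≠ ⊥ := P.ne_bot_of_dvd_card hpd
      obtain ⟨N, hNP, hNn, hNc⟩ := helper3.exists_normal_prime_card_le hG (P : Subgroup G) P.2 hPne
      haveI := hNn
      have hsurj : Function.Surjective (QuotientGroup.mk' N) := QuotientGroup.mk'_surjective N
      have hss : Cfsg.IsSupersolvable (G ⧸ N) := helper3.isSupersolvable_quotient hG N
      have hcq := Subgroup.card_eq_card_quotient_mul_card_subgroup N
      have hlt : Nat.card (G ⧸ N) < n := by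
        have h2 : 2 ≤ Nat.card N := hNc ▸ hpp.two_le
        have h3 : 0 < Nat.card (G ⧸ N) := Nat.card_pos
        rw [← hn, hcq]
        nlinarith
      obtain ⟨m, Hb, h0, hl, hnm, hs, ha⟩ := ih _ hlt (G ⧸ N) rfl hss
      -- the pulled back chain with `⊥` prepended
      have step_zero : ((Fin.cons (α := fun _ => Subgroup G) ⊥
          (fun i => (Hb i).comap (QuotientGroup.mk' N)) : Fin (m + 2) → Subgroup G)
            (Fin.castSucc (0 : Fin (m + 1)))).relIndex
          ((Fin.cons (α := fun _ => Subgroup G) ⊥
          (fun i => (Hb i).comap (QuotientGroup.mk' N)) : Fin (m + 2) → Subgroup G)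
            (Fin.succ (0 : Fin (m + 1)))) = p := by
        rw [Fin.castSucc_zero, Fin.cons_zero, Fin.cons_succ, h0, MonoidHom.comap_bot,
          QuotientGroup.ker_mk', Subgroup.relIndex_bot_left, hNc]
      have step_succ : ∀ j : Fin m, ((Fin.cons (α := fun _ => Subgroup G) ⊥
          (fun i => (Hb i).comap (QuotientGroup.mk' N)) : Fin (m + 2) → Subgroup G)
            (Fin.castSucc (Fin.succ j))).relIndex
          ((Fin.cons (α := fun _ => Subgroup G) ⊥
          (fun i => (Hb i).comap (QuotientGroup.mk' N)) : Fin (m + 2) → Subgroup G)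
            (Fin.succ (Fin.succ j))) = (Hb j.castSucc).relIndex (Hb j.succ) := by
        intro j
        rw [← Fin.succ_castSucc, Fin.cons_succ, Fin.cons_succ, Subgroup.relIndex_comap,
          Subgroup.map_comap_eq_self_of_surjective hsurj]
      have hle_p : ∀ j : Fin m, (Hb j.castSucc).relIndex (Hb j.succ) ≤ p := by
        intro j
        apply hmax _ (hs j).2
        refine (Subgroup.relIndex_dvd_card _ _).trans ?_
        refine (Subgroup.card_subgroup_dvd_card _).trans ?_
        exact Dvd.intro _ hcq.symm
      refine ⟨m + 1, Fin.cons (α := fun _ => Subgroup G) ⊥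
          (fun i => (Hb i).comap (QuotientGroup.mk' N)), ?_, ?_, ?_, ?_, ?_⟩
      · exact Fin.cons_zero (α := fun _ => Subgroup G) _ _
      · rw [← Fin.succ_last, Fin.cons_succ, hl, Subgroup.comap_top]
      · intro i
        refine Fin.cases ?_ (fun j => ?_) i
        · rw [Fin.cons_zero]; exact Subgroup.normal_bot
        · rw [Fin.cons_succ]; exact (hnm j).comap _
      · intro i
        refine Fin.cases ?_ (fun j => ?_) i
        · refine ⟨?_, ?_⟩
          · rw [Fin.castSucc_zero, Fin.cons_zero]; exact bot_le
          · rw [step_zero]; exact hpp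
        · refine ⟨?_, ?_⟩
          · rw [← Fin.succ_castSucc, Fin.cons_succ, Fin.cons_succ]
            exact Subgroup.comap_mono (hs j).1
          · rw [step_succ]; exact (hs j).2
      · intro i j
        refine Fin.cases ?_ (fun i' => ?_) i
        · refine Fin.cases ?_ (fun j' => ?_) j
          · intro _; exact le_rfl
          · intro _
            rw [step_succ, step_zero]
            exact hle_p j'
        · refine Fin.cases ?_ (fun j' => ?_) j
          · intro hij
            exact absurd hij (not_le.mpr (Fin.succ_pos i'))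
          · intro hij
            rw [step_succ, step_succ]
            exact ha i' j' (Fin.succ_le_succ_iff.mp hij)


/-- A finite supersolvable group has a chain of normal subgroups, from the trivial subgroup to the whole group, in which every step has prime index and the primes occurring are non-increasing as one goes up the chain. -/
theorem result {G : Type*} [Group G] [Finite G] (hG : Cfsg.IsSupersolvable G) : ∃ (n : ℕ) (H : Fin (n + 1) → Subgroup G), H 0 = ⊥ ∧ H (Fin.last n) = ⊤ ∧ (∀ i, (H i).Normal) ∧ (∀ i : Fin n, H i.castSucc ≤ H i.succ ∧ ((H i.castSucc).relIndex (H i.succ)).Prime) ∧ ∀ i j : Fin n, i ≤ j → (H j.castSucc).relIndex (H j.succ) ≤ (H i.castSucc).relIndex (H i.succ) := by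
  exact main (Nat.card G) G rfl hG

end Cfsg.Agent.S0529
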