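import Cfsg.Statements.S0530
import Cfsg.Agent.Lib_helper3_SS
import Mathlib

set_option autoImplicit false
open Cfsg

namespace Cfsg.Agent.S0530

universe u

theorem zpowers_normal_of_conj {G : Type*} [Group G] (y : G)
    (h : ∀ g : G, g * y * g⁻¹ ∈ Subgroup.zpowers y) : (Subgroup.zpowers y).Normal := by
  refine ⟨fun n hn g => ?_⟩
  obtain ⟨k, rfl⟩ := hn
  have : g * y ^ k * g⁻¹ = (g * y * g⁻¹) ^ k := by rw [conj_zpow]
  rw [this]
  exact Subgroup.zpow_mem _ (h g) k

/-- Finite `p`-groups are supersolvable. -/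
theorem supersolvable_of_card_prime_pow (p : ℕ) (hp : p.Prime) (n : ℕ) :
    ∀ (G : Type u) [Group G] [Finite G], Nat.card G = p ^ n → Cfsg.IsSupersolvable G := by
  induction n with
  | zero =>
    intro G _ _ h
    rw [pow_zero] at h
    have hs : Subsingleton G := (Nat.card_eq_one_iff_unique.mp h).1
    rw [helper3.isSupersolvable_iff_ssreach]
    have : (⊤ : Subgroup G) = ⊥ := Subsingleton.elim _ _
    rw [this]
    exact helper3.SSReach.bot
  | succ n ih =>
    intro G _ _ h
    haveI : Fact p.Prime := ⟨hp⟩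
    have hG : IsPGroup p G := IsPGroup.of_card h
    haveI : Nontrivial G := by
      rw [← Finite.one_lt_card_iff_nontrivial, h]
      exact Nat.one_lt_pow (Nat.succ_ne_zero n) hp.one_lt
    have hc : Nontrivial (Subgroup.center G) := hG.center_nontrivial
    obtain ⟨k, hk⟩ := (hG.to_subgroup (Subgroup.center G)).exists_card_eq
    have hk0 : k ≠ 0 := by
      intro h0
      rw [h0, pow_zero] at hk
      have := Finite.one_lt_card_iff_nontrivial.mpr hc
      omega
    have hdvd : p ∣ Nat.card (Subgroup.center G) := hk ▸ dvd_pow_self p hk0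
    obtain ⟨z, hz⟩ := exists_prime_orderOf_dvd_card' p hdvd
    haveI hNn : (Subgroup.zpowers (z : G)).Normal := by
      apply zpowers_normal_of_conj
      intro g
      have : g * (z : G) * g⁻¹ = z := by
        have hzc := Subgroup.mem_center_iff.mp z.2 g
        rw [hzc]; group
      rw [this]
      exact Subgroup.mem_zpowers _
    haveI : IsCyclic (Subgroup.zpowers (z : G)) := Subgroup.isCyclic_zpowers _
    have hN : Nat.card (Subgroup.zpowers (z : G)) = p := by
      rw [Nat.card_zpowers, Subgroup.orderOf_coe, hz]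
    have hq : Nat.card (G ⧸ Subgroup.zpowers (z : G)) = p ^ n := by
      have := Subgroup.card_eq_card_quotient_mul_card_subgroup (Subgroup.zpowers (z : G))
      rw [h, hN, pow_succ] at this
      exact (Nat.eq_of_mul_eq_mul_right hp.pos this).symm
    exact helper3.isSupersolvable_of_cyclic_normal _ (ih (G ⧸ Subgroup.zpowers (z : G)) hq)

theorem normal_of_index_two_conj {G : Type*} [Group G] (P : Subgroup G) (hidx : P.index = 2)
    (t : G) (ht : t ∉ P) (y : G) (hP : ∀ q ∈ P, q * y * q⁻¹ = y)
    (hty : t * y * t⁻¹ ∈ Subgroup.zpowers y) : (Subgroup.zpowers y).Normal := by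
  apply zpowers_normal_of_conj
  intro g
  by_cases hg : g ∈ P
  · rw [hP g hg]; exact Subgroup.mem_zpowers _
  · have hq : t⁻¹ * g ∈ P := by
      rw [Subgroup.mul_mem_iff_of_index_two hidx, Subgroup.inv_mem_iff]
      exact ⟨fun h => absurd h ht, fun h => absurd h hg⟩
    have e : g * y * g⁻¹ = t * ((t⁻¹ * g) * y * (t⁻¹ * g)⁻¹) * t⁻¹ := by group
    rw [e, hP _ hq]
    exact hty

theorem main (p : ℕ) (hp : p.Prime) (hp2 : p ≠ 2) (n : ℕ) :
    ∀ (G : Type u) [Group G] [Finite G], Nat.card G = 2 * p ^ n → Cfsg.IsSupersolvable G := by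
  induction n with
  | zero =>
    intro G _ _ h
    rw [pow_zero, mul_one] at h
    exact supersolvable_of_card_prime_pow 2 Nat.prime_two 1 G (by rw [h, pow_one])
  | succ n ih =>
    intro G _ _ h
    haveI : Fact p.Prime := ⟨hp⟩
    obtain ⟨P⟩ : Nonempty (Sylow p G) := inferInstance
    have hp2' : ¬ p ∣ 2 := by
      intro hd
      exact hp2 ((Nat.prime_dvd_prime_iff_eq hp Nat.prime_two).mp hd)
    have hPcard : Nat.card (P : Subgroup G) = p ^ (n + 1) := by
      rw [Sylow.card_eq_multiplicity, h, Nat.factorization_mul (by norm_num) (pow_ne_zero _ hp.ne_zero),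
        Nat.Prime.factorization_pow hp]
      simp [Nat.factorization_eq_zero_of_not_dvd hp2']
    have hidx : (P : Subgroup G).index = 2 := by
      have := (P : Subgroup G).card_mul_index
      rw [hPcard, h, mul_comm] at this
      exact Nat.eq_of_mul_eq_mul_right (pow_pos hp.pos _) this
    haveI hPn : (P : Subgroup G).Normal := Subgroup.normal_of_index_eq_two hidx
    -- an element of order p in the centre of P
    have hPp : IsPGroup p (P : Subgroup G) := P.2
    haveI : Nontrivial (P : Subgroup G) := by
      rw [← Finite.one_lt_card_iff_nontrivial, hPcard]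
      exact Nat.one_lt_pow (Nat.succ_ne_zero n) hp.one_lt
    have hc : Nontrivial (Subgroup.center (P : Subgroup G)) := hPp.center_nontrivial
    obtain ⟨k, hk⟩ := (hPp.to_subgroup (Subgroup.center (P : Subgroup G))).exists_card_eq
    have hk0 : k ≠ 0 := by
      intro h0
      rw [h0, pow_zero] at hk
      have := Finite.one_lt_card_iff_nontrivial.mpr hc
      omega
    have hdvd : p ∣ Nat.card (Subgroup.center (P : Subgroup G)) := hk ▸ dvd_pow_self p hk0
    obtain ⟨z, hz⟩ := exists_prime_orderOf_dvd_card' p hdvd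
    set x : G := ((z : (P : Subgroup G)) : G) with hx
    have hxP : x ∈ (P : Subgroup G) := (z : (P : Subgroup G)).2
    have hxo : orderOf x = p := by
      rw [hx, Subgroup.orderOf_coe, Subgroup.orderOf_coe, hz]
    have hxc : ∀ q ∈ (P : Subgroup G), q * x = x * q := by
      intro q hq
      have := Subgroup.mem_center_iff.mp z.2 ⟨q, hq⟩
      exact congrArg Subtype.val this
    have hxp : x ^ p = 1 := by rw [← hxo]; exact pow_orderOf_eq_one x
    have hx1 : x ≠ 1 := by
      intro h1
      rw [h1, orderOf_one] at hxo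
      exact hp.one_lt.ne hxo
    -- an element outside P
    obtain ⟨t, ht⟩ : ∃ t : G, t ∉ (P : Subgroup G) := by
      by_contra hall
      push Not at hall
      have : (P : Subgroup G) = ⊤ := eq_top_iff.mpr (fun g _ => hall g)
      rw [this, Subgroup.index_top] at hidx
      omega
    have htt : t * t ∈ (P : Subgroup G) := by
      rw [Subgroup.mul_mem_iff_of_index_two hidx]
    have hx'P : t * x * t⁻¹ ∈ (P : Subgroup G) := hPn.conj_mem x hxP t
    have hx'c : ∀ q ∈ (P : Subgroup G), q * (t * x * t⁻¹) = (t * x * t⁻¹) * q := by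
      intro q hq
      have hq' : t⁻¹ * q * t ∈ (P : Subgroup G) := by
        have := hPn.conj_mem q hq t⁻¹
        rwa [inv_inv] at this
      have h1 := hxc _ hq'
      calc q * (t * x * t⁻¹) = t * (t⁻¹ * q * t * x) * t⁻¹ := by group
        _ = t * (x * (t⁻¹ * q * t)) * t⁻¹ := by rw [h1]
        _ = t * x * t⁻¹ * q := by group
    have hx'p : (t * x * t⁻¹) ^ p = 1 := by
      rw [conj_pow, hxp, mul_one, mul_inv_cancel]
    have htx' : t * (t * x * t⁻¹) * t⁻¹ = x := by
      have h1 := hxc _ htt
      calc t * (t * x * t⁻¹) * t⁻¹ = (t * t * x) * (t * t)⁻¹ := by group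
        _ = (x * (t * t)) * (t * t)⁻¹ := by rw [h1]
        _ = x := by group
    have hcomm : x * (t * x * t⁻¹) = (t * x * t⁻¹) * x := (hx'c x hxP)
    -- the normal subgroup of order p
    obtain ⟨y, hy1, hyp, hyn⟩ : ∃ y : G, y ≠ 1 ∧ y ^ p = 1 ∧ (Subgroup.zpowers y).Normal := by
      by_cases hy : x * (t * x * t⁻¹) = 1
      · refine ⟨x, hx1, hxp, ?_⟩
        apply normal_of_index_two_conj _ hidx t ht x
        · intro q hq
          rw [hxc q hq]; group
        · have : t * x * t⁻¹ = x⁻¹ := eq_inv_of_mul_eq_one_right hy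
          rw [this]
          exact Subgroup.inv_mem _ (Subgroup.mem_zpowers x)
      · refine ⟨x * (t * x * t⁻¹), hy, ?_, ?_⟩
        · have hc' : Commute x (t * x * t⁻¹) := hcomm
          rw [hc'.mul_pow, hxp, hx'p, one_mul]
        · apply normal_of_index_two_conj _ hidx t ht
          · intro q hq
            calc q * (x * (t * x * t⁻¹)) * q⁻¹ = (q * x) * (t * x * t⁻¹) * q⁻¹ := by group
              _ = (x * q) * (t * x * t⁻¹) * q⁻¹ := by rw [hxc q hq]
              _ = x * (q * (t * x * t⁻¹)) * q⁻¹ := by group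
              _ = x * ((t * x * t⁻¹) * q) * q⁻¹ := by rw [hx'c q hq]
              _ = x * (t * x * t⁻¹) := by group
          · have e : t * (x * (t * x * t⁻¹)) * t⁻¹ = (t * x * t⁻¹) * (t * (t * x * t⁻¹) * t⁻¹) := by
              group
            rw [e, htx', ← hcomm]
            exact Subgroup.mem_zpowers _
    haveI := hyn
    haveI : IsCyclic (Subgroup.zpowers y) := Subgroup.isCyclic_zpowers _
    have hyo : orderOf y = p := orderOf_eq_prime hyp hy1
    have hN : Nat.card (Subgroup.zpowers y) = p := by rw [Nat.card_zpowers, hyo]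
    have hq : Nat.card (G ⧸ Subgroup.zpowers y) = 2 * p ^ n := by
      have := Subgroup.card_eq_card_quotient_mul_card_subgroup (Subgroup.zpowers y)
      rw [h, hN, pow_succ, ← mul_assoc] at this
      exact (Nat.eq_of_mul_eq_mul_right hp.pos this).symm
    exact helper3.isSupersolvable_of_cyclic_normal _ (ih (G ⧸ Subgroup.zpowers y) hq)


/-- A finite group whose order is twice a prime power is supersolvable. -/
theorem result {G : Type*} [Group G] [Finite G] (p n : ℕ) (hp : p.Prime) (hG : Nat.card G = 2 * p ^ n) : Cfsg.IsSupersolvable G := by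
  by_cases hp2 : p = 2
  · subst hp2
    exact supersolvable_of_card_prime_pow 2 hp (n + 1) G (by rw [hG, pow_succ, mul_comm])
  · exact main p hp hp2 n G hG

end Cfsg.Agent.S0530
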