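import Cfsg.Statements.S0531
import Cfsg.Agent.Lib_helper3_SS2

set_option autoImplicit false
open Cfsg

namespace Cfsg.Agent.S0531

open Subgroup Cfsg.Agent.helper3

universe u

theorem card_comap_mk {G : Type u} [Group G] [Finite G] (N : Subgroup G) [N.Normal]
    (S' : Subgroup (G ⧸ N)) :
    Nat.card (S'.comap (QuotientGroup.mk' N)) = Nat.card S' * Nat.card N := by
  have hpos : 0 < S'.index := Nat.pos_of_ne_zero Subgroup.index_ne_zero_of_finite
  have key : Nat.card (S'.comap (QuotientGroup.mk' N)) * S'.index
      = Nat.card S' * Nat.card N * S'.index := by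
    calc Nat.card (S'.comap (QuotientGroup.mk' N)) * S'.index
        = Nat.card (S'.comap (QuotientGroup.mk' N)) * (S'.comap (QuotientGroup.mk' N)).index := by
          rw [Subgroup.index_comap_of_surjective S' (QuotientGroup.mk'_surjective N)]
      _ = Nat.card G := Subgroup.card_mul_index _
      _ = Nat.card N * N.index := (Subgroup.card_mul_index N).symm
      _ = Nat.card N * Nat.card (G ⧸ N) := by rw [Subgroup.index_eq_card]
      _ = Nat.card N * (Nat.card S' * S'.index) := by rw [Subgroup.card_mul_index S']
      _ = Nat.card S' * Nat.card N * S'.index := by ring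
  exact Nat.eq_of_mul_eq_mul_right hpos key

theorem main (n : ℕ) : ∀ (G : Type u) [Group G] [Finite G], Nat.card G = n →
    Cfsg.IsSupersolvable G → Cfsg.HasSubgroupOfEveryOrder G := by
  induction n using Nat.strong_induction_on with
  | _ n ih =>
  intro G _ _ hn hG d hd
  by_cases htriv : Nat.card G ≤ 1
  · have h1 : Nat.card G = 1 := le_antisymm htriv Nat.card_pos
    rw [h1, Nat.dvd_one] at hd
    exact ⟨⊥, by rw [hd]; exact Subgroup.card_bot⟩
  · haveI : Nontrivial G := Finite.one_lt_card_iff_nontrivial.1 (by omega)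
    obtain ⟨N, hNn, hNp⟩ := exists_normal_prime_card hG
    haveI := hNn
    set r := Nat.card N with hr
    have hQ : Cfsg.IsSupersolvable (G ⧸ N) := isSupersolvable_quotient hG N
    have hcard : Nat.card (G ⧸ N) * r = Nat.card G := by
      rw [← Subgroup.index_eq_card, mul_comm]; exact Subgroup.card_mul_index N
    have hlt : Nat.card (G ⧸ N) < n := by
      rw [← hn, ← hcard]
      have h1 := hNp.one_lt
      have h2 : 0 < Nat.card (G ⧸ N) := Nat.card_pos
      nlinarith
    by_cases hrd : r ∣ d
    · obtain ⟨d', rfl⟩ := hrd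
      have hd' : d' ∣ Nat.card (G ⧸ N) := by
        rw [← hcard, mul_comm] at hd
        exact Nat.dvd_of_mul_dvd_mul_right hNp.pos hd
      obtain ⟨S', hS'⟩ := ih _ hlt (G ⧸ N) rfl hQ d' hd'
      refine ⟨S'.comap (QuotientGroup.mk' N), ?_⟩
      rw [card_comap_mk, hS', mul_comm]
    · have hcop : Nat.Coprime r d := (Nat.Prime.coprime_iff_not_dvd hNp).2 hrd
      have hd' : d ∣ Nat.card (G ⧸ N) := by
        rw [← hcard] at hd
        exact hcop.symm.dvd_of_dvd_mul_right hd
      obtain ⟨S', hS'⟩ := ih _ hlt (G ⧸ N) rfl hQ d hd'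
      set T := S'.comap (QuotientGroup.mk' N) with hT
      have hTcard : Nat.card T = d * r := by rw [hT, card_comap_mk, hS']
      have hNT : N ≤ T := by
        rw [hT]
        have := Subgroup.ker_le_comap (QuotientGroup.mk' N) S'
        rwa [QuotientGroup.ker_mk'] at this
      haveI : (N.subgroupOf T).Normal := hNn.subgroupOf T
      have hNTcard : Nat.card (N.subgroupOf T) = r :=
        Nat.card_congr (Subgroup.subgroupOfEquivOfLe hNT).toEquiv
      have hidx : (N.subgroupOf T).index = d := by
        have h1 := Subgroup.card_mul_index (N.subgroupOf T)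
        rw [hNTcard, hTcard, mul_comm d r] at h1
        exact Nat.eq_of_mul_eq_mul_left hNp.pos h1
      have hcop' : Nat.Coprime (Nat.card (N.subgroupOf T)) (N.subgroupOf T).index := by
        rw [hNTcard, hidx]; exact hcop
      obtain ⟨C, hC⟩ := Subgroup.exists_right_complement'_of_coprime hcop'
      have hCcard : Nat.card C = d := by
        have h1 := hC.card_mul_card
        rw [hNTcard, hTcard, mul_comm d r] at h1
        exact Nat.eq_of_mul_eq_mul_left hNp.pos h1
      refine ⟨C.map T.subtype, ?_⟩
      rw [Subgroup.card_map_of_injective (Subgroup.subtype_injective _), hCcard]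

theorem result {G : Type*} [Group G] [Finite G] (hG : Cfsg.IsSupersolvable G) : Cfsg.HasSubgroupOfEveryOrder G :=
  main (Nat.card G) G rfl hG

end Cfsg.Agent.S0531
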