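import Cfsg.Statements.S0532
import Mathlib

set_option autoImplicit false
open Cfsg

namespace Cfsg.Agent.S0532

open Subgroup

universe u

theorem hasSub_of_equiv {A B : Type u} [Group A] [Group B] (e : A ≃* B)
    (h : Cfsg.HasSubgroupOfEveryOrder B) : Cfsg.HasSubgroupOfEveryOrder A := by
  intro d hd
  rw [Nat.card_congr e.toEquiv] at hd
  obtain ⟨S, hS⟩ := h d hd
  refine ⟨S.map (e.symm : B →* A), ?_⟩
  rw [← hS]
  exact (Nat.card_congr (e.symm.subgroupMap S).toEquiv).symm

/-- A `p`-subgroup lies in every normal subgroup whose index is coprime to `p`. -/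
theorem le_of_coprime_index {G : Type u} [Group G] [Finite G] (p : ℕ) [Fact p.Prime]
    (P K : Subgroup G) (hP : IsPGroup p P) [K.Normal] (hc : Nat.Coprime K.index p) : P ≤ K := by
  intro x hx
  obtain ⟨k, hk⟩ := hP ⟨x, hx⟩
  have hk' : x ^ p ^ k = 1 := by
    have := congrArg (fun t : P => (t : G)) hk
    simpa using this
  rw [← QuotientGroup.eq_one_iff (N := K) x, ← orderOf_eq_one_iff]
  have h1 : orderOf (x : G ⧸ K) ∣ K.index := by
    rw [Subgroup.index_eq_card]; exact orderOf_dvd_natCard _
  have h2 : orderOf (x : G ⧸ K) ∣ p ^ k := by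
    apply orderOf_dvd_of_pow_eq_one
    rw [← QuotientGroup.mk_pow, hk']; rfl
  exact Nat.eq_one_of_dvd_coprimes (Nat.Coprime.pow_right k hc) h1 h2

theorem main (n : ℕ) : ∀ (G : Type u) [Group G] [Finite G], Nat.card G = n →
    (∀ H : Subgroup G, Cfsg.HasSubgroupOfEveryOrder H) → ∀ (p : ℕ) [Fact p.Prime],
    p ∣ Nat.card G → (∀ q : ℕ, q.Prime → q ∣ Nat.card G → q ≤ p) → ∀ P : Sylow p G,
    (P : Subgroup G).Normal := by
  induction n using Nat.strong_induction_on with
  | _ n ih =>
  intro G _ _ hn h p _ hdvd hmax P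
  have hp : p.Prime := Fact.out
  have hcard1 : Nat.card G ≠ 1 := by
    intro h1; rw [h1] at hdvd; exact hp.one_lt.ne' (Nat.dvd_one.1 hdvd)
  set q := (Nat.card G).minFac with hq
  have hqp : q.Prime := Nat.minFac_prime hcard1
  have hqd : q ∣ Nat.card G := Nat.minFac_dvd _
  have hqle : q ≤ p := hmax q hqp hqd
  rcases hqle.eq_or_lt with heq | hlt
  · -- G is a p-group
    have hall : ∀ {d : ℕ}, d.Prime → d ∣ Nat.card G → d = p := by
      intro d hd hdd
      apply le_antisymm (hmax d hd hdd)
      rw [← heq]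
      exact Nat.minFac_le_of_dvd hd.two_le hdd
    have hpow := Nat.eq_prime_pow_of_unique_prime_dvd Nat.card_pos.ne' hall
    have hG : IsPGroup p G := IsPGroup.of_card hpow
    have htop : IsPGroup p (⊤ : Subgroup G) := hG.to_subgroup _
    have := P.is_maximal' htop le_top
    rw [← this]
    infer_instance
  · -- subgroup K of index q
    have hdq : Nat.card G / q ∣ Nat.card (⊤ : Subgroup G) := by
      rw [Subgroup.card_top]; exact Nat.div_dvd_of_dvd hqd
    obtain ⟨K', hK'⟩ := h ⊤ _ hdq
    set K : Subgroup G := K'.map (⊤ : Subgroup G).subtype with hKdef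
    have hKcard : Nat.card K = Nat.card G / q := by
      rw [hKdef, Subgroup.card_map_of_injective (Subgroup.subtype_injective _), hK']
    have hKindex : K.index = q := by
      have h1 := Subgroup.card_mul_index K
      rw [hKcard] at h1
      have h2 : Nat.card G / q * q = Nat.card G := Nat.div_mul_cancel hqd
      have hpos : 0 < Nat.card G / q := Nat.div_pos (Nat.le_of_dvd Nat.card_pos hqd) hqp.pos
      exact Nat.eq_of_mul_eq_mul_left hpos (h1.trans h2.symm)
    haveI hKn : K.Normal := Subgroup.normal_of_index_eq_minFac_card hKindex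
    have hcop : Nat.Coprime K.index p := by
      rw [hKindex]
      exact (Nat.coprime_primes hqp hp).2 hlt.ne
    have hPK : (P : Subgroup G) ≤ K := le_of_coprime_index p P K P.2 hcop
    -- apply IH to K
    have hKlt : Nat.card K < n := by
      rw [← hn, hKcard]
      exact Nat.div_lt_self Nat.card_pos hqp.one_lt
    have hKh : ∀ L : Subgroup K, Cfsg.HasSubgroupOfEveryOrder L := by
      intro L
      exact hasSub_of_equiv (L.equivMapOfInjective K.subtype (Subgroup.subtype_injective _))
        (h (L.map K.subtype))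
    have hKdvd : p ∣ Nat.card K := by
      have h1 : Nat.card K * q = Nat.card G := by
        rw [← hKindex]; exact Subgroup.card_mul_index K
      rw [← h1] at hdvd
      exact (Nat.Coprime.dvd_mul_right ((Nat.coprime_primes hp hqp).2 hlt.ne')).1 hdvd
    have hKmax : ∀ q' : ℕ, q'.Prime → q' ∣ Nat.card K → q' ≤ p := by
      intro q' hq' hd'
      exact hmax q' hq' (hd'.trans (Subgroup.card_subgroup_dvd_card K))
    have hnorm := ih _ hKlt K rfl hKh p hKdvd hKmax (P.subtype hPK)
    haveI hchar : ((P.subtype hPK : Sylow p K) : Subgroup K).Characteristic :=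
      Sylow.characteristic_of_normal _ hnorm
    have hfinal : (((P.subtype hPK : Sylow p K) : Subgroup K).map K.subtype).Normal :=
      ConjAct.normal_of_characteristic_of_normal
    rw [Sylow.coe_subtype, Subgroup.subgroupOf_map_subtype, inf_of_le_left hPK] at hfinal
    exact hfinal

theorem result {G : Type*} [Group G] [Finite G] (h : ∀ H : Subgroup G, Cfsg.HasSubgroupOfEveryOrder H) (p : ℕ) [Fact p.Prime] (hdvd : p ∣ Nat.card G) (hmax : ∀ q : ℕ, q.Prime → q ∣ Nat.card G → q ≤ p) (P : Sylow p G) : (P : Subgroup G).Normal :=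
  main (Nat.card G) G rfl h p hdvd hmax P

end Cfsg.Agent.S0532
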