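import Cfsg.Statements.S0582
import Mathlib
import Cfsg.Agent.Lib_helper3_Basic
import Cfsg.Agent.Lib_helper3_SS
import Cfsg.Agent.Lib_helper23_Hall
import Cfsg.Agent.S0580
import Cfsg.Agent.S0527

set_option autoImplicit false
open Pointwise
open Cfsg

namespace Cfsg.Agent.S0582

open Cfsg.Agent.helper3 Cfsg.Agent.helper23
open scoped Pointwise

universe u

theorem ss_of_surjective {A B : Type*} [Group A] [Group B] (f : A →* B)
    (hf : Function.Surjective f) (hA : Cfsg.IsSupersolvable A) : Cfsg.IsSupersolvable B := by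
  rw [isSupersolvable_iff_ssreach] at hA ⊢
  have := hA.map f hf
  rwa [Subgroup.map_top_of_surjective _ hf] at this

theorem ss_sylow_normal {X : Type u} [Group X] [Finite X] (hX : Cfsg.IsSupersolvable X) (p : ℕ)
    [Fact p.Prime] (hmax : ∀ q : ℕ, q.Prime → q ∣ Nat.card X → q ≤ p) (P : Sylow p X) :
    (P : Subgroup X).Normal :=
  Cfsg.Agent.S0580.sylow_normal_of_largest
    (fun M hM => Cfsg.Agent.S0527.result hX M hM) p hmax P

theorem le_normalizer_of_conj_mem' {G : Type*} [Group G] {A B : Subgroup G}
    (h : ∀ a ∈ A, ∀ b ∈ B, a * b * a⁻¹ ∈ B) : A ≤ Subgroup.normalizer (B : Set G) := by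
  intro a ha
  rw [Subgroup.mem_normalizer_iff]
  intro b
  constructor
  · exact h a ha b
  · intro hb
    have := h a⁻¹ (A.inv_mem ha) _ hb
    have e : a⁻¹ * (a * b * a⁻¹) * a⁻¹⁻¹ = b := by group
    rwa [e] at this

theorem index_conj_smul {G : Type*} [Group G] [Finite G] (g : G) (H : Subgroup G) :
    (MulAut.conj g • H).index = H.index := by
  have h1 := Subgroup.card_mul_index (MulAut.conj g • H)
  have h2 := Subgroup.card_mul_index H
  rw [card_conj_smul, ← h2] at h1
  exact Nat.eq_of_mul_eq_mul_left Nat.card_pos h1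

theorem core {G : Type u} [Group G] [Finite G]
    (ih : ∀ (G' : Type u) [Group G'] [Finite G'], Nat.card G' < Nat.card G →
      ∀ H K : Subgroup G', Cfsg.IsSupersolvable H → Cfsg.IsSupersolvable K →
      Nat.card H = Nat.card K → (Nat.card H).Coprime H.index → ∃ x : G', MulAut.conj x • H = K)
    (H K Q : Subgroup G) (hH : Cfsg.IsSupersolvable H) (hK : Cfsg.IsSupersolvable K)
    (hcard : Nat.card H = Nat.card K) (hHall : (Nat.card H).Coprime H.index)
    (hQH : Q ≤ H) (hQK : Q ≤ K) (hQ1 : Q ≠ ⊥)
    (hHN : H ≤ Subgroup.normalizer (Q : Set G)) (hKN : K ≤ Subgroup.normalizer (Q : Set G)) :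
    ∃ x : G, MulAut.conj x • H = K := by
  classical
  set N := Subgroup.normalizer (Q : Set G) with hN
  have hQN : Q ≤ N := Subgroup.le_normalizer
  haveI hQn : (Q.subgroupOf N).Normal := Subgroup.normal_in_normalizer
  have hπs : Function.Surjective (QuotientGroup.mk' (Q.subgroupOf N)) :=
    QuotientGroup.mk'_surjective _
  have hcQ : Nat.card (Q.subgroupOf N) = Nat.card Q :=
    Nat.card_congr (Subgroup.subgroupOfEquivOfLe hQN).toEquiv
  have hlt : Nat.card (↥N ⧸ Q.subgroupOf N) < Nat.card G := by
    have h1 := Subgroup.card_eq_card_quotient_mul_card_subgroup (Q.subgroupOf N)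
    have h3 : 1 < Nat.card Q := (Subgroup.one_lt_card_iff_ne_bot Q).mpr hQ1
    have h4 : Nat.card N ≤ Nat.card G := Subgroup.card_le_card_group N
    have h5 : 0 < Nat.card (↥N ⧸ Q.subgroupOf N) := Nat.card_pos
    rw [hcQ] at h1
    nlinarith
  have key : ∀ L : Subgroup G, L ≤ N → Q ≤ L → Cfsg.IsSupersolvable L →
      Cfsg.IsSupersolvable ((L.subgroupOf N).map (QuotientGroup.mk' (Q.subgroupOf N))) ∧
      Nat.card ((L.subgroupOf N).map (QuotientGroup.mk' (Q.subgroupOf N))) * Nat.card Q
        = Nat.card L ∧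
      ((L.subgroupOf N).map (QuotientGroup.mk' (Q.subgroupOf N))).index * N.index = L.index := by
    intro L hLN hQL hL
    have hQL' : Q.subgroupOf N ≤ L.subgroupOf N := Subgroup.comap_mono hQL
    refine ⟨?_, ?_, ?_⟩
    · apply ss_of_surjective
        (((QuotientGroup.mk' (Q.subgroupOf N)).subgroupMap (L.subgroupOf N)).comp
          (Subgroup.subgroupOfEquivOfLe hLN).symm.toMonoidHom) _ hL
      exact ((QuotientGroup.mk' (Q.subgroupOf N)).subgroupMap_surjective _).comp
        (Subgroup.subgroupOfEquivOfLe hLN).symm.surjective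
    · have h1 := card_map_mk'_mul (Q.subgroupOf N) (L.subgroupOf N)
      rw [inf_eq_left.mpr hQL', hcQ] at h1
      rw [h1]
      exact Nat.card_congr (Subgroup.subgroupOfEquivOfLe hLN).toEquiv
    · rw [Subgroup.index_map_eq _ hπs (by rw [QuotientGroup.ker_mk']; exact hQL')]
      exact Subgroup.relIndex_mul_index hLN
  obtain ⟨hHs, hHc, hHi⟩ := key H hHN hQH hH
  obtain ⟨hKs, hKc, hKi⟩ := key K hKN hQK hK
  have hcard' : Nat.card ((H.subgroupOf N).map (QuotientGroup.mk' (Q.subgroupOf N)))
      = Nat.card ((K.subgroupOf N).map (QuotientGroup.mk' (Q.subgroupOf N))) := by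
    have : Nat.card ((H.subgroupOf N).map (QuotientGroup.mk' (Q.subgroupOf N))) * Nat.card Q
        = Nat.card ((K.subgroupOf N).map (QuotientGroup.mk' (Q.subgroupOf N))) * Nat.card Q := by
      rw [hHc, hKc, hcard]
    exact Nat.eq_of_mul_eq_mul_right Nat.card_pos this
  have hHall' : (Nat.card ((H.subgroupOf N).map (QuotientGroup.mk' (Q.subgroupOf N)))).Coprime
      ((H.subgroupOf N).map (QuotientGroup.mk' (Q.subgroupOf N))).index := by
    apply Nat.Coprime.coprime_dvd_left (Dvd.intro _ hHc)
    apply Nat.Coprime.coprime_dvd_right (Dvd.intro _ hHi)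
    exact hHall
  obtain ⟨xbar, hx⟩ := ih _ hlt _ _ hHs hKs hcard' hHall'
  obtain ⟨x, rfl⟩ := hπs xbar
  refine ⟨(x : G), ?_⟩
  symm
  apply Subgroup.eq_of_le_of_card_ge
  · intro y hy
    have hyN : y ∈ N := hKN hy
    have h1 : QuotientGroup.mk' (Q.subgroupOf N) ⟨y, hyN⟩ ∈
        (K.subgroupOf N).map (QuotientGroup.mk' (Q.subgroupOf N)) :=
      Subgroup.mem_map_of_mem _ (by rw [Subgroup.mem_subgroupOf]; exact hy)
    rw [← hx, mem_conj_smul_iff] at h1
    obtain ⟨h, hh, he⟩ := h1
    have h2 : QuotientGroup.mk' (Q.subgroupOf N) h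
        = QuotientGroup.mk' (Q.subgroupOf N) (x⁻¹ * ⟨y, hyN⟩ * x) := by
      rw [he, map_mul, map_mul, map_inv]
    have h3 : h⁻¹ * (x⁻¹ * ⟨y, hyN⟩ * x) ∈ Q.subgroupOf N := QuotientGroup.eq.mp h2
    have h4 : (x⁻¹ * ⟨y, hyN⟩ * x : ↥N) ∈ H.subgroupOf N := by
      have e : (x⁻¹ * ⟨y, hyN⟩ * x : ↥N) = h * (h⁻¹ * (x⁻¹ * ⟨y, hyN⟩ * x)) := by group
      rw [e]
      exact Subgroup.mul_mem _ hh (Subgroup.comap_mono hQH h3)
    rw [mem_conj_smul_iff]
    rw [Subgroup.mem_subgroupOf] at h4
    simpa using h4
  · rw [card_conj_smul, hcard]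

theorem main (n : ℕ) : ∀ (G : Type u) [Group G] [Finite G], Nat.card G = n →
    ∀ H K : Subgroup G, Cfsg.IsSupersolvable H → Cfsg.IsSupersolvable K →
    Nat.card H = Nat.card K → (Nat.card H).Coprime H.index →
    ∃ x : G, MulAut.conj x • H = K := by
  induction n using Nat.strong_induction_on with
  | _ n ih =>
    intro G _ _ hn H K hH hK hcard hHall
    by_cases h1 : Nat.card H = 1
    · refine ⟨1, ?_⟩
      have hH1 : H = ⊥ := Subgroup.card_eq_one.mp h1
      have hK1 : K = ⊥ := Subgroup.card_eq_one.mp (hcard ▸ h1)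
      rw [hH1, hK1, map_one, one_smul]
    · have hne : (Nat.card H).primeFactors.Nonempty := by
        rw [Nat.nonempty_primeFactors]
        have := Nat.card_pos (α := H)
        omega
      set p := (Nat.card H).primeFactors.max' hne with hp
      have hpmem : p ∈ (Nat.card H).primeFactors := Finset.max'_mem _ _
      have hpp : p.Prime := Nat.prime_of_mem_primeFactors hpmem
      have hpd : p ∣ Nat.card H := Nat.dvd_of_mem_primeFactors hpmem
      haveI : Fact p.Prime := ⟨hpp⟩
      have hmaxH : ∀ q : ℕ, q.Prime → q ∣ Nat.card H → q ≤ p := by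
        intro q hq hqd
        exact Finset.le_max' _ q (Nat.mem_primeFactors.mpr ⟨hq, hqd, Nat.card_pos.ne'⟩)
      have hmaxK : ∀ q : ℕ, q.Prime → q ∣ Nat.card K → q ≤ p := by
        rw [← hcard]; exact hmaxH
      obtain ⟨PH⟩ : Nonempty (Sylow p H) := inferInstance
      obtain ⟨QK⟩ : Nonempty (Sylow p K) := inferInstance
      have hPHn := ss_sylow_normal hH p hmaxH PH
      have hQKn := ss_sylow_normal hK p hmaxK QK
      have hidx0 : H.index ≠ 0 := Subgroup.index_ne_zero_of_finite
      have hfac : (Nat.card G).factorization p = (Nat.card H).factorization p := by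
        have h2 := Subgroup.card_mul_index H
        rw [← h2, Nat.factorization_mul Nat.card_pos.ne' hidx0, Finsupp.add_apply]
        have : H.index.factorization p = 0 := by
          apply Nat.factorization_eq_zero_of_not_dvd
          intro hd
          have h4 : p ∣ Nat.gcd (Nat.card H) H.index := Nat.dvd_gcd hpd hd
          rw [hHall.gcd_eq_one] at h4
          exact hpp.one_lt.ne' (Nat.dvd_one.mp h4)
        omega
      have hfacpos : 0 < (Nat.card H).factorization p :=
        hpp.factorization_pos_of_dvd Nat.card_pos.ne' hpd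
      have hcP : Nat.card ((PH : Subgroup H).map H.subtype)
          = p ^ (Nat.card G).factorization p := by
        rw [hfac, Subgroup.card_map_of_injective H.subtype_injective]
        exact PH.card_eq_multiplicity
      have hcQ : Nat.card ((QK : Subgroup K).map K.subtype)
          = p ^ (Nat.card G).factorization p := by
        rw [hfac, hcard, Subgroup.card_map_of_injective K.subtype_injective]
        exact QK.card_eq_multiplicity
      obtain ⟨g, hg⟩ := MulAction.exists_smul_eq G
        (Sylow.ofCard ((PH : Subgroup H).map H.subtype) hcP)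
        (Sylow.ofCard ((QK : Subgroup K).map K.subtype) hcQ)
      have hg' : MulAut.conj g • (PH : Subgroup H).map H.subtype
          = (QK : Subgroup K).map K.subtype := by
        have h3 := congrArg (fun S : Sylow p G => (S : Subgroup G)) hg
        simp only [Sylow.coe_subgroup_smul, Sylow.coe_ofCard] at h3
        exact h3
      have hH' : Cfsg.IsSupersolvable ↥(MulAut.conj g • H) :=
        ss_of_surjective (Subgroup.equivSMul (MulAut.conj g) H).toMonoidHom
          (Subgroup.equivSMul (MulAut.conj g) H).surjective hH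
      have hcardH' : Nat.card ↥(MulAut.conj g • H) = Nat.card K := by
        rw [card_conj_smul, hcard]
      have hHall' : (Nat.card ↥(MulAut.conj g • H)).Coprime (MulAut.conj g • H).index := by
        rw [card_conj_smul, index_conj_smul]; exact hHall
      have hQH' : (QK : Subgroup K).map K.subtype ≤ MulAut.conj g • H := by
        rw [← hg']
        intro y hy
        rw [mem_conj_smul_iff] at hy ⊢
        exact Subgroup.map_subtype_le _ hy
      have hQK : (QK : Subgroup K).map K.subtype ≤ K := Subgroup.map_subtype_le _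
      have hQ1 : (QK : Subgroup K).map K.subtype ≠ ⊥ := by
        intro h0
        rw [h0, Subgroup.card_bot, hfac] at hcQ
        have : 1 < p ^ (Nat.card H).factorization p :=
          Nat.one_lt_pow hfacpos.ne' hpp.one_lt
        omega
      have hKN : K ≤ Subgroup.normalizer (((QK : Subgroup K).map K.subtype : Subgroup G) : Set G) := by
        apply le_normalizer_of_conj_mem'
        rintro k hk _ ⟨z, hz, rfl⟩
        exact ⟨_, hQKn.conj_mem z hz ⟨k, hk⟩, by simp⟩
      have hH'N : MulAut.conj g • H ≤
          Subgroup.normalizer (((QK : Subgroup K).map K.subtype : Subgroup G) : Set G) := by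
        apply le_normalizer_of_conj_mem'
        intro y hy b hb
        rw [← hg'] at hb ⊢
        rw [mem_conj_smul_iff] at hy hb ⊢
        obtain ⟨z, hz, hze⟩ := hb
        have := hPHn.conj_mem z hz ⟨g⁻¹ * y * g, hy⟩
        refine ⟨_, this, ?_⟩
        simp only [Subgroup.subtype_apply, Subgroup.coe_mul, Subgroup.coe_inv] at hze ⊢
        rw [hze]; group
      obtain ⟨x, hx⟩ := core (fun G' _ _ hlt => ih _ (hn ▸ hlt) G' rfl) (MulAut.conj g • H) K
        ((QK : Subgroup K).map K.subtype) hH' hK hcardH' hHall' hQH' hQK hQ1 hH'N hKN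
      refine ⟨x * g, ?_⟩
      rw [map_mul, mul_smul, hx]

/-- Let H and K be supersolvable subgroups of a finite group G of the same order, that order being coprime to their index. Then H and K are conjugate in G. -/
theorem result {G : Type*} [Group G] [Finite G] (H K : Subgroup G) (hH : Cfsg.IsSupersolvable H) (hK : Cfsg.IsSupersolvable K) (hcard : Nat.card H = Nat.card K) (hHall : (Nat.card H).Coprime H.index) : ∃ x : G, MulAut.conj x • H = K := by
  exact main _ G rfl H K hH hK hcard hHall

end Cfsg.Agent.S0582
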