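import Cfsg.Statements.S0533
import Mathlib
import Cfsg.Agent.Lib_helper3_Basic
import Cfsg.Agent.Lib_helper3_SS
import Cfsg.Agent.Lib_helper3_Prim
import Cfsg.Agent.Lib_helper23_Hall
import Cfsg.Agent.S0582
import Cfsg.Agent.S0531
import Cfsg.Agent.S0530

set_option autoImplicit false
open Cfsg

namespace Cfsg.Agent.S0533

open Cfsg.Agent.helper3 Cfsg.Agent.helper23
open scoped Pointwise

universe u

/-- Hereditarily CLT. -/
def HCLT (G : Type*) [Group G] : Prop := ∀ H : Subgroup G, Cfsg.HasSubgroupOfEveryOrder H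

theorem hso_of_equiv {A B : Type*} [Group A] [Group B] (e : A ≃* B)
    (hA : Cfsg.HasSubgroupOfEveryOrder A) : Cfsg.HasSubgroupOfEveryOrder B := by
  intro d hd
  rw [← Nat.card_congr e.toEquiv] at hd
  obtain ⟨S, hS⟩ := hA d hd
  refine ⟨S.map e.toMonoidHom, ?_⟩
  rw [Subgroup.card_map_of_injective e.injective, hS]

theorem hclt_subgroup {G : Type*} [Group G] (hG : HCLT G) (K : Subgroup G) : HCLT ↥K := by
  intro H'
  exact hso_of_equiv (Subgroup.equivMapOfInjective H' K.subtype K.subtype_injective).symm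
    (hG (H'.map K.subtype))

theorem hclt_self {G : Type*} [Group G] (hG : HCLT G) : Cfsg.HasSubgroupOfEveryOrder G :=
  hso_of_equiv Subgroup.topEquiv (hG ⊤)

/-- CLT from "maximal" CLT subgroups of every prime index. -/
theorem clt_of_max {Q : Type*} [Group Q] [Finite Q]
    (h : ∀ r : ℕ, r.Prime → r ∣ Nat.card Q → ∃ X : Subgroup Q, Nat.card X = Nat.card Q / r ∧
      Cfsg.HasSubgroupOfEveryOrder X) : Cfsg.HasSubgroupOfEveryOrder Q := by
  intro d hd
  by_cases hdc : d = Nat.card Q
  · exact ⟨⊤, by rw [hdc]; exact Subgroup.card_top⟩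
  · obtain ⟨e, he⟩ := hd
    have he1 : e ≠ 1 := by
      rintro rfl
      rw [mul_one] at he
      exact hdc he.symm
    obtain ⟨r, hr, hre⟩ := Nat.exists_prime_and_dvd he1
    obtain ⟨e', rfl⟩ := hre
    obtain ⟨X, hX, hXc⟩ := h r hr ⟨d * e', by rw [he]; ring⟩
    have hdX : d ∣ Nat.card X := by
      rw [hX, he]
      have : d * (r * e') / r = d * e' := by
        rw [show d * (r * e') = r * (d * e') by ring]
        exact Nat.mul_div_cancel_left _ hr.pos
      rw [this]
      exact Dvd.intro _ rfl
    obtain ⟨S, hS⟩ := hXc d hdX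
    refine ⟨S.map X.subtype, ?_⟩
    rw [Subgroup.card_map_of_injective X.subtype_injective, hS]

/-- A normal Sylow subgroup lies in every subgroup whose order is divisible by its order. -/
theorem normal_sylow_le {G : Type*} [Group G] [Finite G] {p : ℕ} [Fact p.Prime] (P : Subgroup G)
    [hP : P.Normal] (hcP : Nat.card P = p ^ (Nat.card G).factorization p) (Y : Subgroup G)
    (hY : p ^ (Nat.card G).factorization p ∣ Nat.card Y) : P ≤ Y := by
  obtain ⟨R', hR'⟩ := Sylow.exists_subgroup_card_pow_prime p hY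
  have hRc : Nat.card (R'.map Y.subtype) = p ^ (Nat.card G).factorization p := by
    rw [Subgroup.card_map_of_injective Y.subtype_injective, hR']
  have hRp : IsPGroup p (R'.map Y.subtype) := IsPGroup.of_card hRc
  obtain ⟨S, hS⟩ := hRp.exists_le_sylow
  obtain ⟨g, hg⟩ := MulAction.exists_smul_eq G (Sylow.ofCard P hcP) S
  have hSP : (S : Subgroup G) = P := by
    rw [← hg, Sylow.coe_subgroup_smul, Sylow.coe_ofCard]
    rw [conj_smul_eq_self_iff, Subgroup.normalizer_eq_top_iff.mpr hP]
    exact Subgroup.mem_top g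
  rw [hSP] at hS
  have hRP : R'.map Y.subtype = P :=
    Subgroup.eq_of_le_of_card_ge hS (by rw [hRc, hcP])
  rw [← hRP]
  exact Subgroup.map_subtype_le _

theorem stepB {G : Type u} [Group G] [Finite G] (hG : HCLT G)
    (ih : ∀ X : Subgroup G, X ≠ ⊤ → Cfsg.IsSupersolvable X)
    (ihq : ∀ (N : Subgroup G) [N.Normal], N ≠ ⊥ → HCLT (G ⧸ N) → Cfsg.IsSupersolvable (G ⧸ N))
    {p : ℕ} [hpf : Fact p.Prime] (P : Subgroup G) [hPn : P.Normal] (a k : ℕ) (ha : 0 < a)
    (hk : Nat.card G = p ^ a * k) (hkcop : Nat.Coprime p k)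
    (hcP : Nat.card P = p ^ a) : Cfsg.IsSupersolvable G := by
  classical
  have hp : p.Prime := hpf.out
  have hcltG := hclt_self hG
  have hG0 : Nat.card G ≠ 0 := Nat.card_pos.ne'
  have hk0 : 0 < k := by
    rcases Nat.eq_zero_or_pos k with h | h
    · rw [h, mul_zero] at hk; exact absurd hk hG0
    · exact h
  have hfac : (Nat.card G).factorization p = a := by
    rw [hk, Nat.factorization_mul (pow_pos hp.pos a).ne' hk0.ne', Finsupp.add_apply,
      hp.factorization_pow, Finsupp.single_eq_same,
      Nat.factorization_eq_zero_of_not_dvd (fun h => hp.one_lt.ne'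
        (Nat.Coprime.eq_one_of_dvd hkcop h)), add_zero]
  have hPp : IsPGroup p P := IsPGroup.of_card hcP
  -- complement K of order k
  obtain ⟨K, hK⟩ := hcltG k (Dvd.intro_left _ hk.symm)
  have hcopPK : (Nat.card P).Coprime (Nat.card K) := by
    rw [hcP, hK]; exact Nat.Coprime.pow_left a hkcop
  have hPK : P ⊓ K = ⊥ := (Subgroup.disjoint_of_coprime_natCard hcopPK).eq_bot
  have hPKtop : P ⊔ K = ⊤ := by
    apply Subgroup.eq_top_of_le_card
    have := card_sup_mul_card_inf K P
    rw [hPK, Subgroup.card_bot, mul_one, hK, hcP, sup_comm] at this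
    rw [this, hk, mul_comm]
  -- a minimal normal subgroup inside Z(P)
  have hP1 : P ≠ ⊥ := by
    intro h
    rw [h, Subgroup.card_bot] at hcP
    have : 1 < p ^ a := Nat.one_lt_pow ha.ne' hp.one_lt
    omega
  have hZn : (P ⊓ Subgroup.centralizer (P : Set G)).Normal := Subgroup.normal_inf_normal _ _
  have hZ1 : P ⊓ Subgroup.centralizer (P : Set G) ≠ ⊥ := by
    haveI : Nontrivial ↥P := (Subgroup.nontrivial_iff_ne_bot P).mpr hP1
    haveI := hPp.center_nontrivial
    obtain ⟨z, hz⟩ := exists_ne (1 : Subgroup.center ↥P)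
    intro h
    have hzmem : ((z : ↥P) : G) ∈ P ⊓ Subgroup.centralizer (P : Set G) := by
      refine Subgroup.mem_inf.mpr ⟨(z : ↥P).2, ?_⟩
      rw [Subgroup.mem_centralizer_iff]
      intro y hy
      have := (Subgroup.mem_center_iff.mp z.2) ⟨y, hy⟩
      exact congrArg Subtype.val this
    rw [h, Subgroup.mem_bot] at hzmem
    apply hz
    apply Subtype.ext; apply Subtype.ext
    exact hzmem
  obtain ⟨N, hNmin⟩ := exists_minimal_of_wellFoundedLT
    (fun N : Subgroup G => N.Normal ∧ N ≠ ⊥ ∧ N ≤ P ⊓ Subgroup.centralizer (P : Set G))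
    ⟨_, hZn, hZ1, le_rfl⟩
  haveI hNn : N.Normal := hNmin.1.1
  have hN1 : N ≠ ⊥ := hNmin.1.2.1
  have hNP : N ≤ P := hNmin.1.2.2.trans inf_le_left
  have hNcent : ∀ x ∈ N, ∀ y ∈ P, y * x = x * y := by
    intro x hx y hy
    have := (hNmin.1.2.2 hx).2
    exact (Subgroup.mem_centralizer_iff.mp this) y hy
  have hNminimal : ∀ K' : Subgroup G, K'.Normal → K' ≤ N → K' = ⊥ ∨ K' = N := by
    intro K' hK'n hK'N
    by_cases h0 : K' = ⊥
    · exact Or.inl h0
    · right
      exact le_antisymm hK'N (hNmin.2 ⟨hK'n, h0, hK'N.trans hNmin.1.2.2⟩ hK'N)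
  have hNp : IsPGroup p N := hPp.to_le hNP
  obtain ⟨c, hc⟩ := hNp.exists_card_eq
  have hc0 : 0 < c := by
    rcases Nat.eq_zero_or_pos c with h | h
    · rw [h, pow_zero] at hc
      exact absurd (Subgroup.card_eq_one.mp hc) hN1
    · exact h
  -- |N| = p
  have hcN : Nat.card N = p := by
    have hNK : N ⊓ K = ⊥ := le_bot_iff.mp (hPK ▸ inf_le_inf_right K hNP)
    have hcH : Nat.card (N ⊔ K : Subgroup G) = p ^ c * k := by
      have := card_sup_mul_card_inf K N
      rw [hNK, Subgroup.card_bot, mul_one, hK, hc, sup_comm] at this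
      rw [this, mul_comm]
    have hdvd : p ^ (c - 1) * k ∣ Nat.card (N ⊔ K : Subgroup G) := by
      rw [hcH]
      exact Nat.mul_dvd_mul (pow_dvd_pow p (Nat.sub_le c 1)) (dvd_refl k)
    obtain ⟨L', hL'⟩ := hG (N ⊔ K) _ hdvd
    have hL₂c : Nat.card (L'.map (N ⊔ K).subtype) = p ^ (c - 1) * k := by
      rw [Subgroup.card_map_of_injective (Subgroup.subtype_injective _), hL']
    have hL₂le : L'.map (N ⊔ K).subtype ≤ N ⊔ K := Subgroup.map_subtype_le _
    have hL₂N : L'.map (N ⊔ K).subtype ⊔ N = N ⊔ K := by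
      apply Subgroup.eq_of_le_of_card_ge (sup_le hL₂le le_sup_left)
      rw [hcH]
      apply Nat.le_of_dvd Nat.card_pos
      apply Nat.Coprime.mul_dvd_of_dvd_of_dvd (Nat.Coprime.pow_left c hkcop)
      · rw [← hc]; exact Subgroup.card_dvd_of_le le_sup_right
      · exact (Dvd.intro_left _ hL₂c.symm).trans (Subgroup.card_dvd_of_le le_sup_left)
    have hinf : Nat.card (N ⊓ L'.map (N ⊔ K).subtype : Subgroup G) = p ^ (c - 1) := by
      have := card_sup_mul_card_inf (L'.map (N ⊔ K).subtype) N
      rw [hL₂N, hcH, hL₂c, hc] at this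
      have hpos : 0 < p ^ c * k := Nat.mul_pos (pow_pos hp.pos c) hk0
      apply Nat.eq_of_mul_eq_mul_left hpos
      rw [this]; ring
    have hPL₂ : P ⊔ L'.map (N ⊔ K).subtype = ⊤ := by
      rw [eq_top_iff, ← hPKtop]
      apply sup_le le_sup_left
      calc K ≤ N ⊔ K := le_sup_right
        _ = L'.map (N ⊔ K).subtype ⊔ N := hL₂N.symm
        _ ≤ P ⊔ L'.map (N ⊔ K).subtype := sup_le le_sup_right (hNP.trans le_sup_left)
    have hnorm : (N ⊓ L'.map (N ⊔ K).subtype).Normal := by
      constructor
      intro x hx g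
      obtain ⟨y, hy, l, hl, rfl⟩ := prim_exists_mul hPL₂ g
      have h1 : l * x * l⁻¹ ∈ N ⊓ L'.map (N ⊔ K).subtype :=
        Subgroup.mem_inf.mpr ⟨hNn.conj_mem _ hx.1 _,
          Subgroup.mul_mem _ (Subgroup.mul_mem _ hl hx.2) (Subgroup.inv_mem _ hl)⟩
      have e : y * l * x * (y * l)⁻¹ = y * (l * x * l⁻¹) * y⁻¹ := by group
      rw [e, hNcent _ h1.1 y hy]
      have e' : l * x * l⁻¹ * y * y⁻¹ = l * x * l⁻¹ := by group
      rw [e']; exact h1
    rcases hNminimal _ hnorm inf_le_left with h | h
    · rw [h, Subgroup.card_bot] at hinf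
      have hc1 : c - 1 = 0 := by
        rcases Nat.pow_eq_one.mp hinf.symm with h2 | h2
        · exact absurd h2 hp.one_lt.ne'
        · exact h2
      have : c = 1 := by omega
      rw [hc, this, pow_one]
    · exfalso
      rw [h, hc] at hinf
      have : p ^ (c - 1) < p ^ c := Nat.pow_lt_pow_right hp.one_lt (by omega)
      omega
  haveI : IsCyclic N := isCyclic_of_prime_card hcN
  apply isSupersolvable_of_cyclic_normal N
  -- the quotient
  have hpdvd : p ∣ Nat.card G := by
    rw [hk]; exact Dvd.dvd.mul_right (dvd_pow_self p ha.ne') k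
  obtain ⟨L, hL⟩ := hcltG (Nat.card G / p) (Nat.div_dvd_of_dvd hpdvd)
  have hLp : Nat.card L * p = Nat.card G := by rw [hL]; exact Nat.div_mul_cancel hpdvd
  have hLtop : L ≠ ⊤ := by
    intro h
    rw [h, Subgroup.card_top] at hLp
    have : Nat.card G * p = Nat.card G * 1 := by rw [hLp, mul_one]
    have := Nat.eq_of_mul_eq_mul_left Nat.card_pos this
    exact hp.one_lt.ne' this
  have hπ : Function.Surjective (QuotientGroup.mk' N) := QuotientGroup.mk'_surjective N
  have hQp : Nat.card (G ⧸ N) * p = Nat.card G := by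
    rw [← hcN]; exact (Subgroup.card_eq_card_quotient_mul_card_subgroup N).symm
  by_cases hNL : N ≤ L
  · -- G ⧸ N is hereditarily CLT
    apply ihq N hN1
    -- images of proper subgroups containing N
    have key : ∀ (Y : Subgroup G) (r : ℕ), r.Prime → r ∣ Nat.card (G ⧸ N) → N ≤ Y → Y ≠ ⊤ →
        Nat.card Y = Nat.card G / r →
        ∃ X : Subgroup (G ⧸ N), Nat.card X = Nat.card (G ⧸ N) / r ∧
          Cfsg.HasSubgroupOfEveryOrder X := by
      intro Y r hr hrd hNY hYtop hYc
      refine ⟨Y.map (QuotientGroup.mk' N), ?_, ?_⟩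
      · have h1 := card_map_mk'_mul N Y
        rw [inf_eq_left.mpr hNY, hcN, hYc] at h1
        obtain ⟨t, ht⟩ := hrd
        rw [ht, Nat.mul_div_cancel_left t hr.pos]
        rw [← hQp, ht, show r * t * p = r * (t * p) by ring, Nat.mul_div_cancel_left _ hr.pos] at h1
        exact Nat.eq_of_mul_eq_mul_right hp.pos h1
      · apply Cfsg.Agent.S0531.result
        exact Cfsg.Agent.S0582.ss_of_surjective ((QuotientGroup.mk' N).subgroupMap Y)
          ((QuotientGroup.mk' N).subgroupMap_surjective Y) (ih Y hYtop)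
    intro Hbar
    by_cases hH : Hbar.comap (QuotientGroup.mk' N) = ⊤
    · have hHb : Hbar = ⊤ := by
        rw [← Subgroup.map_comap_eq_self_of_surjective hπ Hbar, hH,
          Subgroup.map_top_of_surjective _ hπ]
      rw [hHb]
      apply hso_of_equiv Subgroup.topEquiv.symm
      apply clt_of_max
      intro r hr hrd
      by_cases hrp : r = p
      · exact key L r hr hrd hNL hLtop (by rw [hrp]; exact hL)
      · have hrG : r ∣ Nat.card G := hrd.trans (Dvd.intro _ hQp)
        obtain ⟨Y, hY⟩ := hcltG (Nat.card G / r) (Nat.div_dvd_of_dvd hrG)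
        have hrk : r ∣ k := by
          rw [hk] at hrG
          have hcop : Nat.Coprime r (p ^ a) :=
            Nat.Coprime.pow_right a ((Nat.coprime_primes hr hp).mpr hrp)
          exact hcop.dvd_of_dvd_mul_left hrG
        have hPY : P ≤ Y := by
          apply normal_sylow_le P (by rw [hfac]; exact hcP) Y
          rw [hfac, hY, hk]
          obtain ⟨k', rfl⟩ := hrk
          rw [show p ^ a * (r * k') = r * (p ^ a * k') by ring, Nat.mul_div_cancel_left _ hr.pos]
          exact Dvd.intro _ rfl
        have hYtop : Y ≠ ⊤ := by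
          intro h
          rw [h, Subgroup.card_top] at hY
          have h2 := Nat.div_mul_cancel hrG
          rw [← hY] at h2
          have : Nat.card G * r = Nat.card G * 1 := by rw [h2, mul_one]
          exact hr.one_lt.ne' (Nat.eq_of_mul_eq_mul_left Nat.card_pos this)
        exact key Y r hr hrd (hNP.trans hPY) hYtop hY
    · have h1 : Cfsg.IsSupersolvable ↥((Hbar.comap (QuotientGroup.mk' N)).map (QuotientGroup.mk' N)) :=
        Cfsg.Agent.S0582.ss_of_surjective ((QuotientGroup.mk' N).subgroupMap _)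
          ((QuotientGroup.mk' N).subgroupMap_surjective _) (ih _ hH)
      rw [Subgroup.map_comap_eq_self_of_surjective hπ Hbar] at h1
      exact Cfsg.Agent.S0531.result h1
  · -- N ∩ L = 1, G = N L
    have hNL0 : N ⊓ L = ⊥ := by
      have hd : Nat.card (N ⊓ L : Subgroup G) ∣ p := by
        rw [← hcN]; exact Subgroup.card_dvd_of_le inf_le_left
      rcases (Nat.dvd_prime hp).mp hd with h | h
      · exact Subgroup.card_eq_one.mp h
      · exfalso
        apply hNL
        have : N ⊓ L = N := Subgroup.eq_of_le_of_card_ge inf_le_left (by rw [h, hcN])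
        exact inf_eq_left.mp this
    have hLN : L ⊔ N = ⊤ := by
      apply Subgroup.eq_top_of_le_card
      have := card_sup_mul_card_inf L N
      rw [hNL0, Subgroup.card_bot, mul_one, hcN] at this
      rw [this, hLp]
    apply Cfsg.Agent.S0582.ss_of_surjective ((QuotientGroup.mk' N).comp L.subtype) _ (ih L hLtop)
    intro x
    obtain ⟨g, rfl⟩ := hπ x
    have hg : g ∈ ((L ⊔ N : Subgroup G) : Set G) := by rw [hLN]; trivial
    rw [Subgroup.mul_normal] at hg
    obtain ⟨l, hl, y, hy, rfl⟩ := hg
    refine ⟨⟨l, hl⟩, ?_⟩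
    show QuotientGroup.mk' N l = QuotientGroup.mk' N (l * y)
    have hy1 : QuotientGroup.mk' N y = 1 := (QuotientGroup.eq_one_iff y).mpr hy
    rw [map_mul, hy1, mul_one]

theorem main (n : ℕ) : ∀ (G : Type u) [Group G] [Finite G], Nat.card G = n → HCLT G →
    Cfsg.IsSupersolvable G := by
  induction n using Nat.strong_induction_on with
  | _ n ih =>
    intro G _ _ hn hG
    classical
    have hcltG := hclt_self hG
    have ihsub : ∀ X : Subgroup G, X ≠ ⊤ → Cfsg.IsSupersolvable X := by
      intro X hX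
      apply ih (Nat.card X) _ ↥X rfl (hclt_subgroup hG X)
      rw [← hn]
      by_contra hlt
      push Not at hlt
      exact hX (Subgroup.eq_top_of_le_card X hlt)
    have ihq : ∀ (N : Subgroup G) [N.Normal], N ≠ ⊥ → HCLT (G ⧸ N) →
        Cfsg.IsSupersolvable (G ⧸ N) := by
      intro N _ hN1 hQ
      apply ih (Nat.card (G ⧸ N)) _ (G ⧸ N) rfl hQ
      rw [← hn, Subgroup.card_eq_card_quotient_mul_card_subgroup N]
      have h1 : 1 < Nat.card N := (Subgroup.one_lt_card_iff_ne_bot N).mpr hN1
      have h2 : 0 < Nat.card (G ⧸ N) := Nat.card_pos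
      nlinarith
    by_cases h1 : Nat.card G = 1
    · exact Cfsg.Agent.S0530.supersolvable_of_card_prime_pow 2 Nat.prime_two 0 G
        (by rw [h1, pow_zero])
    have hG0 : Nat.card G ≠ 0 := Nat.card_pos.ne'
    have hne : (Nat.card G).primeFactors.Nonempty := by
      rw [Nat.nonempty_primeFactors]
      have := Nat.card_pos (α := G)
      omega
    set p := (Nat.card G).primeFactors.max' hne with hp_def
    have hpmem : p ∈ (Nat.card G).primeFactors := Finset.max'_mem _ _
    have hpp : p.Prime := Nat.prime_of_mem_primeFactors hpmem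
    have hpd : p ∣ Nat.card G := Nat.dvd_of_mem_primeFactors hpmem
    haveI : Fact p.Prime := ⟨hpp⟩
    have hmax : ∀ q : ℕ, q.Prime → q ∣ Nat.card G → q ≤ p := by
      intro q hq hqd
      exact Finset.le_max' _ q (Nat.mem_primeFactors.mpr ⟨hq, hqd, hG0⟩)
    have hqpr : (Nat.card G).minFac.Prime := Nat.minFac_prime h1
    have hqd : (Nat.card G).minFac ∣ Nat.card G := Nat.minFac_dvd _
    by_cases hqp : (Nat.card G).minFac = p
    · -- G is a p-group
      have hpow := Nat.eq_prime_pow_of_unique_prime_dvd (n := Nat.card G) (p := p) hG0 (by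
        intro d hd hdd
        apply le_antisymm (hmax d hd hdd)
        rw [← hqp]
        exact Nat.minFac_le_of_dvd hd.two_le hdd)
      exact Cfsg.Agent.S0530.supersolvable_of_card_prime_pow p hpp _ G hpow
    · -- a normal subgroup M of index q, supersolvable
      obtain ⟨M, hM⟩ := hcltG (Nat.card G / (Nat.card G).minFac) (Nat.div_dvd_of_dvd hqd)
      have hMq : Nat.card M * (Nat.card G).minFac = Nat.card G := by
        rw [hM]; exact Nat.div_mul_cancel hqd
      have hMidx : M.index = (Nat.card G).minFac := by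
        have h2 := Subgroup.card_mul_index M
        rw [← hMq] at h2
        exact Nat.eq_of_mul_eq_mul_left Nat.card_pos h2
      haveI hMn : M.Normal := Subgroup.normal_of_index_eq_minFac_card hMidx
      have hMtop : M ≠ ⊤ := by
        intro h
        rw [h, Subgroup.index_top] at hMidx
        exact hqpr.one_lt.ne hMidx
      have ssM := ihsub M hMtop
      have hmaxM : ∀ q : ℕ, q.Prime → q ∣ Nat.card M → q ≤ p := by
        intro q hq hqdM
        exact hmax q hq (hqdM.trans (Dvd.intro _ hMq))
      obtain ⟨PM⟩ : Nonempty (Sylow p M) := inferInstance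
      have hPMn := Cfsg.Agent.S0582.ss_sylow_normal ssM p hmaxM PM
      haveI hPMc : (PM : Subgroup M).Characteristic := Sylow.characteristic_of_normal PM hPMn
      haveI hPn : ((PM : Subgroup M).map M.subtype).Normal :=
        ConjAct.normal_of_characteristic_of_normal
      have hfacq : (Nat.card G).minFac.factorization p = 0 := by
        rw [hqpr.factorization, Finsupp.single_apply, if_neg hqp]
      have hfacM : (Nat.card M).factorization p = (Nat.card G).factorization p := by
        rw [← hMq, Nat.factorization_mul Nat.card_pos.ne' hqpr.ne_zero, Finsupp.add_apply, hfacq,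
          add_zero]
      have hcP : Nat.card ((PM : Subgroup M).map M.subtype) = p ^ (Nat.card G).factorization p := by
        rw [Subgroup.card_map_of_injective M.subtype_injective, ← hfacM]
        exact PM.card_eq_multiplicity
      have hapos : 0 < (Nat.card G).factorization p := hpp.factorization_pos_of_dvd hG0 hpd
      have hk : Nat.card G = p ^ (Nat.card G).factorization p *
          (Nat.card G / p ^ (Nat.card G).factorization p) :=
        (Nat.ordProj_mul_ordCompl_eq_self (Nat.card G) p).symm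
      exact stepB hG ihsub ihq ((PM : Subgroup M).map M.subtype) _ _ hapos hk
        (Nat.coprime_ordCompl hpp hG0) hcP

/-- If every subgroup of a finite group has subgroups of all orders dividing its order, then the group is supersolvable. -/
theorem result {G : Type*} [Group G] [Finite G] (h : ∀ H : Subgroup G, Cfsg.HasSubgroupOfEveryOrder H) : Cfsg.IsSupersolvable G := by
  exact main _ G rfl h

end Cfsg.Agent.S0533
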