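import Cfsg.Statements.S0534
import Mathlib
import Cfsg.Agent.Lib_helper23_Hall

set_option autoImplicit false
open Cfsg

namespace Cfsg.Agent.S0534

open Cfsg.Agent.helper23

universe u

theorem comm_clt (k : ℕ) : ∀ (A : Type u) [CommGroup A] [Finite A], k ∣ Nat.card A →
    ∃ B : Subgroup A, Nat.card B = k := by
  induction k using Nat.strong_induction_on with
  | _ k ih =>
    intro A _ _ hk
    have hk0 : k ≠ 0 := by
      rintro rfl
      exact Nat.card_pos.ne' (Nat.eq_zero_of_zero_dvd hk)
    by_cases hk1 : k = 1
    · exact ⟨⊥, by rw [hk1]; exact Subgroup.card_bot⟩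
    · have hp : (k.minFac).Prime := Nat.minFac_prime hk1
      haveI : Fact (k.minFac).Prime := ⟨hp⟩
      obtain ⟨k', hk'⟩ : k.minFac ∣ k := Nat.minFac_dvd k
      obtain ⟨x, hx⟩ := exists_prime_orderOf_dvd_card' (G := A) k.minFac
        ((Nat.minFac_dvd k).trans hk)
      have hN : Nat.card (Subgroup.zpowers x) = k.minFac := by rw [Nat.card_zpowers, hx]
      have hcard := Subgroup.card_eq_card_quotient_mul_card_subgroup (Subgroup.zpowers x)
      rw [hN] at hcard
      have hk'dvd : k' ∣ Nat.card (A ⧸ Subgroup.zpowers x) := by
        rw [hk', hcard, mul_comm] at hk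
        exact Nat.dvd_of_mul_dvd_mul_right hp.pos hk
      have hk'lt : k' < k := by
        have h2 := hp.two_le
        have hk'pos : 0 < k' := by
          rcases Nat.eq_zero_or_pos k' with h | h
          · rw [h, mul_zero] at hk'; exact absurd hk' hk0
          · exact h
        rw [hk']
        nlinarith
      obtain ⟨B', hB'⟩ := ih k' hk'lt (A ⧸ Subgroup.zpowers x) hk'dvd
      refine ⟨B'.comap (QuotientGroup.mk' (Subgroup.zpowers x)), ?_⟩
      rw [card_comap_mk', hN, hB', ← hk']

/-- Let G be a finite solvable group and A a finite abelian group such that every prime dividing the order of A divides the order of G and, for each prime p dividing the order of G, the exponent of p in the order of A is one less than its exponent in the order of G. Then G × A has a subgroup of every order dividing its order. -/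
theorem result {G A : Type*} [Group G] [CommGroup A] [Finite G] [Finite A] [Group.IsSolvable G] (hA : ∀ p : ℕ, p.Prime → p ∣ Nat.card A → p ∣ Nat.card G) (hexp : ∀ p : ℕ, p.Prime → p ∣ Nat.card G → (Nat.card A).factorization p + 1 = (Nat.card G).factorization p) : Cfsg.HasSubgroupOfEveryOrder (G × A) := by
  classical
  intro d hd
  have hn : Nat.card G ≠ 0 := Nat.card_pos.ne'
  have ha : Nat.card A ≠ 0 := Nat.card_pos.ne'
  rw [Nat.card_prod] at hd
  have hna : Nat.card G * Nat.card A ≠ 0 := mul_ne_zero hn ha
  have hd0 : d ≠ 0 := ne_zero_of_dvd_ne_zero hna hd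
  set f : ℕ →₀ ℕ := (Nat.card G).factorization.filter
    (fun p => (Nat.card G).factorization p ≤ d.factorization p) with hf
  have hfp : ∀ p, f p = if (Nat.card G).factorization p ≤ d.factorization p
      then (Nat.card G).factorization p else 0 := fun p => Finsupp.filter_apply _ _ p
  have hfprime : ∀ p ∈ f.support, p.Prime := by
    intro p hp
    rw [Finsupp.mem_support_iff, hfp] at hp
    have h1 : (Nat.card G).factorization p ≠ 0 := by
      intro h0
      apply hp
      split_ifs <;> simp [h0]
    by_contra hnp
    exact h1 (Nat.factorization_eq_zero_of_not_prime _ hnp)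
  set m := f.prod (· ^ ·) with hm
  have hmf : m.factorization = f := Nat.prod_pow_factorization_eq_self hfprime
  have hm0 : m ≠ 0 := by
    intro h0
    have h1 : f = 0 := by rw [← hmf, h0]; exact Nat.factorization_zero
    rw [hm, h1] at h0
    simp at h0
  have hmn : m ∣ Nat.card G := by
    rw [← Nat.factorization_le_iff_dvd hm0 hn, hmf]
    intro p
    rw [hfp]
    split_ifs <;> simp
  have hmd : m ∣ d := by
    rw [← Nat.factorization_le_iff_dvd hm0 hd0, hmf]
    intro p
    rw [hfp]
    split_ifs with h
    · exact h
    · simp
  have hnm0 : Nat.card G / m ≠ 0 := by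
    intro h0
    have := Nat.div_mul_cancel hmn
    rw [h0, zero_mul] at this
    exact hn this.symm
  have hcop : m.Coprime (Nat.card G / m) := by
    apply Nat.coprime_of_dvd
    intro k hk hkm hkn
    have h1 : m.factorization k ≠ 0 := by
      intro h0
      rcases (Nat.factorization_eq_zero_iff m k).mp h0 with h | h | h
      · exact h hk
      · exact h hkm
      · exact hm0 h
    rw [hmf, hfp] at h1
    have h2 : f k = (Nat.card G).factorization k := by
      rw [hfp]
      split_ifs with h
      · rfl
      · rw [if_neg h] at h1; exact absurd rfl h1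
    have h3 : (Nat.card G / m).factorization k = 0 := by
      rw [Nat.factorization_div hmn, hmf]
      simp [h2]
    rcases (Nat.factorization_eq_zero_iff _ k).mp h3 with h | h | h
    · exact h hk
    · exact h hkn
    · exact hnm0 h
  have hdm0 : d / m ≠ 0 := by
    intro h0
    have := Nat.div_mul_cancel hmd
    rw [h0, zero_mul] at this
    exact hd0 this.symm
  have hdm : d / m ∣ Nat.card A := by
    rw [← Nat.factorization_le_iff_dvd hdm0 ha, Nat.factorization_div hmd, hmf]
    intro p
    simp only [Finsupp.coe_tsub, Pi.sub_apply]
    have hdle : d.factorization p ≤ (Nat.card G).factorization p + (Nat.card A).factorization p := by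
      have := (Nat.factorization_le_iff_dvd hd0 hna).mpr hd p
      rwa [Nat.factorization_mul hn ha, Finsupp.add_apply] at this
    by_cases hp : p.Prime
    · by_cases hpn : p ∣ Nat.card G
      · have h1 := hexp p hp hpn
        rw [hfp]
        split_ifs with h
        · omega
        · omega
      · have h1 : (Nat.card G).factorization p = 0 := Nat.factorization_eq_zero_of_not_dvd hpn
        have h2 : (Nat.card A).factorization p = 0 :=
          Nat.factorization_eq_zero_of_not_dvd (fun h => hpn (hA p hp h))
        omega
    · have h1 : d.factorization p = 0 := Nat.factorization_eq_zero_of_not_prime _ hp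
      omega
  obtain ⟨H, hH⟩ := hall_exists (G := G) m (Nat.card G / m) (Nat.mul_div_cancel' hmn).symm hcop
  obtain ⟨B, hB⟩ := comm_clt (d / m) A hdm
  refine ⟨H.prod B, ?_⟩
  rw [Nat.card_congr (Subgroup.prodEquiv H B).toEquiv, Nat.card_prod, hH, hB]
  exact Nat.mul_div_cancel' hmd

end Cfsg.Agent.S0534
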