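import Cfsg.Statements.S0535
import Cfsg.Agent.S0006
import Cfsg.Agent.Lib_helper23_Hall
import Mathlib

set_option autoImplicit false
open Cfsg

namespace Cfsg.Agent.S0535

universe u

theorem main (n : ℕ) : ∀ (G : Type u) [Group G] [Finite G], Nat.card G = n →
    (∀ H : Subgroup G, H ≠ ⊥ → ∀ p : ℕ, p.Prime → p ∣ Nat.card H →
      ∃ K : Subgroup H, K ≠ ⊤ ∧ ∃ k : ℕ, K.index = p ^ k) → Group.IsSolvable G := by
  induction n using Nat.strong_induction_on with
  | _ n ih =>
    intro G _ _ hn h
    apply Cfsg.Agent.S0006.result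
    intro p hp
    have hn0 : Nat.card G ≠ 0 := Nat.card_pos.ne'
    by_cases hpd : p ∣ Nat.card G
    · have htop : (⊤ : Subgroup G) ≠ ⊥ := by
        intro htb
        have h1 : Nat.card (⊤ : Subgroup G) = 1 := by rw [htb, Subgroup.card_bot]
        rw [Subgroup.card_top] at h1
        rw [h1] at hpd
        exact hp.one_lt.ne' (Nat.dvd_one.mp hpd)
      obtain ⟨K₀, hK₀, k, hk⟩ := h ⊤ htop p hp (by rwa [Subgroup.card_top])
      have hk0 : k ≠ 0 := by
        intro h0
        rw [h0, pow_zero, Subgroup.index_eq_one] at hk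
        exact hK₀ hk
      have hidx : (K₀.map (⊤ : Subgroup G).subtype).index = p ^ k := by
        rw [Subgroup.index_map_subtype, hk, Subgroup.index_top, mul_one]
      have hcm := (K₀.map (⊤ : Subgroup G).subtype).card_mul_index
      rw [hidx] at hcm
      have hlt : Nat.card (K₀.map (⊤ : Subgroup G).subtype) < n := by
        have h2 : 2 ≤ p ^ k := by
          calc 2 ≤ p := hp.two_le
            _ = p ^ 1 := (pow_one p).symm
            _ ≤ p ^ k := Nat.pow_le_pow_right hp.pos (Nat.one_le_iff_ne_zero.mpr hk0)
        have h3 : 0 < Nat.card (K₀.map (⊤ : Subgroup G).subtype) := Nat.card_pos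
        rw [← hn, ← hcm]
        nlinarith
      -- the hypothesis passes to the subgroup
      have hyp' : ∀ H : Subgroup (K₀.map (⊤ : Subgroup G).subtype), H ≠ ⊥ → ∀ q : ℕ, q.Prime →
          q ∣ Nat.card H → ∃ K : Subgroup H, K ≠ ⊤ ∧ ∃ j : ℕ, K.index = q ^ j := by
        intro H hH q hq hqd
        have hinj : Function.Injective (K₀.map (⊤ : Subgroup G).subtype).subtype :=
          Subgroup.subtype_injective _
        have hne : H.map (K₀.map (⊤ : Subgroup G).subtype).subtype ≠ ⊥ := by
          intro hb
          exact hH ((Subgroup.map_eq_bot_iff_of_injective H hinj).mp hb)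
        have hcard : Nat.card (H.map (K₀.map (⊤ : Subgroup G).subtype).subtype) = Nat.card H :=
          Subgroup.card_subtype _ H
        obtain ⟨K₁, hK₁, j, hj⟩ := h _ hne q hq (hcard ▸ hqd)
        let e := Subgroup.equivMapOfInjective H _ hinj
        refine ⟨K₁.comap e.toMonoidHom, ?_, j, ?_⟩
        · intro ht
          apply hK₁
          have := congrArg (Subgroup.map e.toMonoidHom) ht
          rwa [Subgroup.map_comap_eq_self_of_surjective e.surjective,
            Subgroup.map_top_of_surjective _ e.surjective] at this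
        · rw [Subgroup.index_comap_of_surjective _ e.surjective, hj]
      haveI hsolv : Group.IsSolvable (K₀.map (⊤ : Subgroup G).subtype) := ih _ hlt _ rfl hyp'
      -- arithmetic
      set f := (Nat.card G).factorization p with hf
      set m := Nat.card G / p ^ f with hm
      have hfm : p ^ f * m = Nat.card G := Nat.ordProj_mul_ordCompl_eq_self _ p
      have hpm : ¬ p ∣ m := Nat.not_dvd_ordCompl hp hn0
      have hcop : m.Coprime p := (Nat.Prime.coprime_iff_not_dvd hp).mpr hpm |>.symm
      have hkf : k ≤ f := (Nat.Prime.pow_dvd_iff_le_factorization hp hn0).mp (Dvd.intro_left _ hcm)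
      have hKcard : Nat.card (K₀.map (⊤ : Subgroup G).subtype) = m * p ^ (f - k) := by
        have h4 : Nat.card (K₀.map (⊤ : Subgroup G).subtype) * p ^ k = (m * p ^ (f - k)) * p ^ k := by
          rw [hcm, ← hfm, mul_assoc, ← pow_add, Nat.sub_add_cancel hkf, mul_comm]
        exact Nat.eq_of_mul_eq_mul_right (pow_pos hp.pos k) h4
      obtain ⟨H₀, hH₀⟩ := helper23.hall_exists m (p ^ (f - k)) hKcard (Nat.Coprime.pow_right _ hcop)
      refine ⟨H₀.map (K₀.map (⊤ : Subgroup G).subtype).subtype, ?_⟩
      have hc : Nat.card (H₀.map (K₀.map (⊤ : Subgroup G).subtype).subtype) = m := by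
        rw [Subgroup.card_subtype, hH₀]
      have h5 := (H₀.map (K₀.map (⊤ : Subgroup G).subtype).subtype).card_mul_index
      rw [hc, ← hfm, mul_comm] at h5
      have hm0 : 0 < m := by
        rcases Nat.eq_zero_or_pos m with h0 | h0
        · rw [h0, mul_zero] at hfm; exact absurd hfm.symm hn0
        · exact h0
      exact Nat.eq_of_mul_eq_mul_right hm0 h5
    · exact ⟨⊤, by rw [Subgroup.index_top, Nat.factorization_eq_zero_of_not_dvd hpd, pow_zero]⟩


/-- Suppose that for every nontrivial subgroup H of a finite group and every prime p dividing the order of H there is a proper subgroup of H whose index in H is a power of p. Then the group is solvable. -/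
theorem result {G : Type*} [Group G] [Finite G] (h : ∀ H : Subgroup G, H ≠ ⊥ → ∀ p : ℕ, p.Prime → p ∣ Nat.card H → ∃ K : Subgroup H, K ≠ ⊤ ∧ ∃ k : ℕ, K.index = p ^ k) : Group.IsSolvable G := by
  exact main (Nat.card G) G rfl h

end Cfsg.Agent.S0535
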