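import Mathlib
import Cfsg.Statements.S0537
import Cfsg.Agent.Lib_helper17_MinNonNil

set_option autoImplicit false

open Cfsg

namespace Cfsg.Agent.S0537

open Cfsg.Agent.helper17.MNN

theorem nilpotent_of_comm {K : Type*} [Group K] (h : IsMulCommutative K) : Group.IsNilpotent K := by
  letI : CommGroup K := { (inferInstance : Group K) with mul_comm := fun a b => h.is_comm.comm a b }
  exact CommGroup.isNilpotent

theorem result {G : Type*} [Group G] [Finite G] (hna : ¬ IsMulCommutative G) (h : ∀ H : Subgroup G, H ≠ ⊤ → IsMulCommutative H) : (∃ p : ℕ, p.Prime ∧ IsPGroup p G) ∨ ∃ p q : ℕ, p.Prime ∧ q.Prime ∧ p ≠ q ∧ ∃ (P : Sylow p G) (Q : Sylow q G), IsCyclic P ∧ (Q : Subgroup G).Normal ∧ Cfsg.IsElementaryAbelian q (Q : Subgroup G) ∧ (P : Subgroup G) ⊔ Q = ⊤ := by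
  classical
  have hna' : ¬ ∀ a b : G, a * b = b * a := fun hc => hna ⟨⟨hc⟩⟩
  by_cases hnil : Group.IsNilpotent G
  · left
    by_contra hcon
    push Not at hcon
    apply hna'
    -- every Sylow subgroup is proper hence abelian
    have hS : ∀ (p : ℕ) [Fact p.Prime] (P : Sylow p G), IsMulCommutative (P : Subgroup G) := by
      intro p _ P
      apply h
      intro htop
      apply hcon p Fact.out
      intro g
      obtain ⟨k, hk⟩ := P.isPGroup' ⟨g, htop ▸ Subgroup.mem_top g⟩
      exact ⟨k, by simpa using congrArg Subtype.val hk⟩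
    obtain ⟨e⟩ := ((Group.isNilpotent_of_finite_tfae (G := G)).out 0 4).1 hnil
    intro a b
    have hab : e.symm a * e.symm b = e.symm b * e.symm a := by
      funext p
      funext P
      haveI : Fact (p : ℕ).Prime := ⟨Nat.prime_of_mem_primeFactors p.2⟩
      have := hS p P
      exact this.is_comm.comm _ _
    have := congrArg e hab
    simpa using this
  · right
    obtain ⟨p, q, hp, hq, hpq, P, Q, ⟨x, hx⟩, hQn, hPQ⟩ :=
      minNonNilpotent_structure hnil (fun H hH => nilpotent_of_comm (h H hH))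
    haveI : Fact p.Prime := ⟨hp⟩
    haveI : Fact q.Prime := ⟨hq⟩
    haveI := hQn
    have hPc : IsCyclic (P : Subgroup G) := by
      rw [hx]; infer_instance
    refine ⟨p, q, hp, hq, hpq, P, Q, hPc, hQn, ?_, hPQ⟩
    -- Q is proper
    have hQtop : (Q : Subgroup G) ≠ ⊤ := by
      intro htop
      apply hnil
      have hqG : IsPGroup q G := by
        intro g
        obtain ⟨k, hk⟩ := Q.isPGroup' ⟨g, htop ▸ Subgroup.mem_top g⟩
        exact ⟨k, by simpa using congrArg Subtype.val hk⟩
      exact hqG.isNilpotent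
    have hQc : IsMulCommutative (Q : Subgroup G) := h _ hQtop
    have hQcomm : ∀ a ∈ (Q : Subgroup G), ∀ b ∈ (Q : Subgroup G), a * b = b * a := by
      intro a ha b hb
      have := hQc.is_comm.comm (⟨a, ha⟩ : (Q : Subgroup G)) ⟨b, hb⟩
      exact congrArg Subtype.val this
    have hdisj : (P : Subgroup G) ⊓ Q = ⊥ :=
      (IsPGroup.disjoint_of_ne p q hpq _ _ P.isPGroup' Q.isPGroup').eq_bot
    have hxP : x ∈ (P : Subgroup G) := by rw [hx]; exact Subgroup.mem_zpowers x
    -- Ω₁(Q)
    let Ω : Subgroup G :=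
      { carrier := {y | y ∈ (Q : Subgroup G) ∧ y ^ q = 1}
        one_mem' := ⟨Subgroup.one_mem _, one_pow _⟩
        mul_mem' := by
          rintro a b ⟨ha, ha'⟩ ⟨hb, hb'⟩
          refine ⟨mul_mem ha hb, ?_⟩
          have hc : Commute a b := hQcomm a ha b hb
          rw [hc.mul_pow, ha', hb', one_mul]
        inv_mem' := by
          rintro a ⟨ha, ha'⟩
          exact ⟨inv_mem ha, by rw [inv_pow, ha', inv_one]⟩ }
    have hΩmem : ∀ y, y ∈ Ω ↔ y ∈ (Q : Subgroup G) ∧ y ^ q = 1 := fun y => Iff.rfl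
    have hΩn : Ω.Normal := by
      refine ⟨fun y hy g => ?_⟩
      rw [hΩmem] at hy ⊢
      refine ⟨hQn.conj_mem y hy.1 g, ?_⟩
      rw [conj_pow, hy.2, mul_one, mul_inv_cancel]
    haveI := hΩn
    by_cases hH : (P : Subgroup G) ⊔ Ω = ⊤
    · -- then Q = Ω
      refine ⟨hQc, ?_⟩
      intro g hg
      have hg' : g ∈ (P : Subgroup G) ⊔ Ω := hH ▸ Subgroup.mem_top g
      rw [Subgroup.mem_sup_of_normal_right] at hg'
      obtain ⟨a, ha, b, hb, hab⟩ := hg'
      have hbQ : b ∈ (Q : Subgroup G) := ((hΩmem b).1 hb).1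
      have haQ : a ∈ (Q : Subgroup G) := by
        have e : a = g * b⁻¹ := by rw [← hab]; group
        rw [e]; exact mul_mem hg (inv_mem hbQ)
      have ha1 : a = 1 := by
        have ha2 : a ∈ (P : Subgroup G) ⊓ Q := ⟨ha, haQ⟩
        rwa [hdisj, Subgroup.mem_bot] at ha2
      rw [← hab, ha1, one_mul]
      exact ((hΩmem b).1 hb).2
    · -- P ⊔ Ω abelian, so x centralizes Ω, hence Q, and G is abelian
      exfalso
      have hHc := h _ hH
      have hxΩ : ∀ a ∈ (Q : Subgroup G), a ^ q = 1 → x * a * x⁻¹ = a := by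
        intro a ha ha'
        have haΩ : a ∈ Ω := (hΩmem a).2 ⟨ha, ha'⟩
        have := hHc.is_comm.comm (⟨x, le_sup_left (a := (P : Subgroup G)) hxP⟩ : ((P : Subgroup G) ⊔ Ω : Subgroup G))
          ⟨a, le_sup_right (b := Ω) haΩ⟩
        have e : x * a = a * x := congrArg Subtype.val this
        rw [e, mul_inv_cancel_right]
      obtain ⟨k, hk⟩ := P.isPGroup' ⟨x, hxP⟩
      have hk' : x ^ (p ^ k) = 1 := by simpa using congrArg Subtype.val hk
      have hcop : Nat.Coprime (p ^ k) q :=
        Nat.Coprime.pow_left k ((Nat.coprime_primes hp hq).2 hpq)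
      have hxQ : ∀ a ∈ (Q : Subgroup G), x * a * x⁻¹ = a :=
        centralizes_of_centralizes_omega (Q : Subgroup G) hQcomm
          (fun a ha => by
            obtain ⟨j, hj⟩ := Q.isPGroup' ⟨a, ha⟩
            exact ⟨j, by simpa using congrArg Subtype.val hj⟩)
          x (fun a ha => hQn.conj_mem a ha x) hk' hcop hxΩ
      have hxQ' : ∀ a ∈ (Q : Subgroup G), Commute x a := by
        intro a ha
        have := hxQ a ha
        exact mul_inv_eq_iff_eq_mul.1 this
      -- decomposition of every element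
      have hdec : ∀ g : G, ∃ i : ℤ, ∃ b ∈ (Q : Subgroup G), g = x ^ i * b := by
        intro g
        have hg' : g ∈ (P : Subgroup G) ⊔ Q := hPQ ▸ Subgroup.mem_top g
        rw [Subgroup.mem_sup_of_normal_right] at hg'
        obtain ⟨a, ha, b, hb, hab⟩ := hg'
        rw [hx, Subgroup.mem_zpowers_iff] at ha
        obtain ⟨i, hi⟩ := ha
        exact ⟨i, b, hb, by rw [hi, hab]⟩
      apply hna'
      intro g1 g2
      obtain ⟨i, b, hb, rfl⟩ := hdec g1
      obtain ⟨j, c, hc, rfl⟩ := hdec g2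
      have h1 : Commute (x ^ i) c := (hxQ' c hc).zpow_left i
      have h2 : Commute (x ^ j) b := (hxQ' b hb).zpow_left j
      have h3 : Commute b c := hQcomm b hb c hc
      have h4 : Commute (x ^ i) (x ^ j) := (Commute.refl x).zpow_zpow i j
      calc x ^ i * b * (x ^ j * c) = x ^ i * (b * x ^ j) * c := by group
        _ = x ^ i * (x ^ j * b) * c := by rw [h2.eq]
        _ = (x ^ i * x ^ j) * (b * c) := by group
        _ = (x ^ j * x ^ i) * (c * b) := by rw [h4.eq, h3.eq]
        _ = x ^ j * (x ^ i * c) * b := by group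
        _ = x ^ j * (c * x ^ i) * b := by rw [h1.eq]
        _ = x ^ j * c * (x ^ i * b) := by group

end Cfsg.Agent.S0537
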