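import Cfsg.Statements.S0539
import Cfsg.Agent.Lib_lead_Wielandt
import Cfsg.Agent.Lib_lead_SZ

set_option autoImplicit false
open Pointwise
open Cfsg

namespace Cfsg.Agent.S0539

open Cfsg.Agent.helper7 Cfsg.Agent.lead

theorem isSubnormal_sSup {G : Type*} [Group G] [Finite G] (T : Set (Subgroup G))
    (hT : ∀ U ∈ T, U.IsSubnormal) : (sSup T).IsSubnormal := by
  have hfin : T.Finite := Set.toFinite T
  induction T, hfin using Set.Finite.induction_on with
  | empty => rw [sSup_empty]; exact Subgroup.IsSubnormal.bot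
  | insert _ _ ih =>
    rw [sSup_insert]
    exact isSubnormal_sup _ G rfl _ _ (hT _ (Set.mem_insert _ _))
      (ih fun U hU => hT U (Set.mem_insert_of_mem _ hU))

theorem exists_conj_of_sn {G : Type*} [Group G] [Finite G] {S K : Subgroup G} (h : SN S K)
    (hn : ¬ K ≤ Subgroup.normalizer (S : Set G)) :
    ∃ x ∈ K, x ∉ Subgroup.normalizer (S : Set G) ∧ cj x S ≤ Subgroup.normalizer (S : Set G) := by
  cases h with
  | refl => exact absurd Subgroup.le_normalizer hn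
  | step _ K₁ _ h1 h2 h3 => exact exists_conj_le_normalizer h1 h2 h3 hn

theorem result {G : Type*} [Group G] [Finite G] (S S₀ : Set (Subgroup G)) (hS : ∀ U ∈ S, U.IsSubnormal) (hconj : ∀ U ∈ S, ∀ g : G, MulAut.conj g • U ∈ S) (h₀ : S₀ ⊂ S) : ∃ X ∈ S, X ∉ S₀ ∧ X ≤ Subgroup.normalizer ((sSup S₀ : Subgroup G) : Set G) := by
  set J := sSup S₀ with hJ
  have hJsub : J.IsSubnormal := isSubnormal_sSup S₀ fun U hU => hS U (h₀.subset hU)
  obtain ⟨X₁, hX₁S, hX₁⟩ := Set.exists_of_ssubset h₀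
  by_cases hn : (⊤ : Subgroup G) ≤ Subgroup.normalizer (J : Set G)
  · exact ⟨X₁, hX₁S, hX₁, le_top.trans hn⟩
  have hSN : SN J ⊤ := sn_top_iff.mpr hJsub
  obtain ⟨x, -, hxJ, hxn⟩ : ∃ x ∈ (⊤ : Subgroup G), x ∉ Subgroup.normalizer (J : Set G) ∧
      cj x J ≤ Subgroup.normalizer (J : Set G) := exists_conj_of_sn hSN hn
  have hnot : ¬ cj x J ≤ J := by
    intro h
    apply hxJ
    apply mem_normalizer_of_cj_eq
    exact Subgroup.eq_of_le_of_card_ge h (by rw [card_cj])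
  obtain ⟨X₀, hX₀, hX₀J⟩ : ∃ X₀ ∈ S₀, ¬ cj x X₀ ≤ J := by
    by_contra hcon
    push Not at hcon
    apply hnot
    rw [cj_le_iff]
    apply sSup_le
    intro X₀ hX₀
    rw [← cj_le_iff]
    exact hcon X₀ hX₀
  refine ⟨MulAut.conj x • X₀, hconj X₀ (h₀.subset hX₀) x, ?_, ?_⟩
  · intro hmem
    apply hX₀J
    rw [← smul_eq_cj]
    exact le_sSup hmem
  · rw [smul_eq_cj]
    exact (cj_mono (le_sSup hX₀)).trans hxn

end Cfsg.Agent.S0539
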