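import Cfsg.Statements.S0540
import Cfsg.Agent.S0539
import Cfsg.Agent.Lib_lead_Wielandt
import Cfsg.Agent.Lib_lead_SZ

set_option autoImplicit false
open Pointwise
open Cfsg

namespace Cfsg.Agent.S0540

open Cfsg.Agent.helper7 Cfsg.Agent.lead

theorem sn_bot {G : Type*} [Group G] (K : Subgroup G) : SN (⊥ : Subgroup G) K := by
  apply SN.of_normal bot_le
  rw [Subgroup.normalizer_eq_top]
  exact le_top

theorem sn_sSup {G : Type*} [Group G] [Finite G] (K : Subgroup G) (T : Set (Subgroup G))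
    (hT : ∀ B ∈ T, SN B K) : SN (sSup T) K := by
  have hfin : T.Finite := Set.toFinite T
  induction T, hfin using Set.Finite.induction_on with
  | empty => rw [sSup_empty]; exact sn_bot K
  | insert _ _ ih =>
    rw [sSup_insert]
    exact SN.sup (hT _ (Set.mem_insert _ _)) (ih fun B hB => hT B (Set.mem_insert_of_mem _ hB))

/-- relative form of `S0539` -/
theorem rel539 {G : Type*} [Group G] [Finite G] (K : Subgroup G) (T T₀ : Set (Subgroup G))
    (hT : ∀ B ∈ T, SN B K) (hconj : ∀ B ∈ T, ∀ k ∈ K, cj k B ∈ T) (h₀ : T₀ ⊂ T) :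
    ∃ X ∈ T, X ∉ T₀ ∧ X ≤ Subgroup.normalizer ((sSup T₀ : Subgroup G) : Set G) := by
  set J := sSup T₀ with hJ
  have hSN : SN J K := sn_sSup K T₀ fun B hB => hT B (h₀.subset hB)
  obtain ⟨X₁, hX₁T, hX₁⟩ := Set.exists_of_ssubset h₀
  by_cases hn : K ≤ Subgroup.normalizer (J : Set G)
  · exact ⟨X₁, hX₁T, hX₁, (hT X₁ hX₁T).le.trans hn⟩
  obtain ⟨x, hxK, hxJ, hxn⟩ := Cfsg.Agent.S0539.exists_conj_of_sn hSN hn
  have hnot : ¬ cj x J ≤ J := by
    intro h
    apply hxJ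
    apply mem_normalizer_of_cj_eq
    exact Subgroup.eq_of_le_of_card_ge h (by rw [card_cj])
  obtain ⟨X₀, hX₀, hX₀J⟩ : ∃ X₀ ∈ T₀, ¬ cj x X₀ ≤ J := by
    by_contra hcon
    push Not at hcon
    apply hnot
    rw [cj_le_iff]
    apply sSup_le
    intro X₀ hX₀
    rw [← cj_le_iff]
    exact hcon X₀ hX₀
  refine ⟨cj x X₀, hconj X₀ (h₀.subset hX₀) x hxK, ?_, ?_⟩
  · intro hmem
    exact hX₀J (le_sSup hmem)
  · exact (cj_mono (le_sSup hX₀)).trans hxn

theorem result {G : Type*} [Group G] [Finite G] (A : Subgroup G) (U : Set (Subgroup G)) (hU : U.Nonempty) (S : Subgroup G → Set (Subgroup G)) (hS : ∀ V B : Subgroup G, B ∈ S V ↔ (∃ g : G, B = MulAut.conj g • A) ∧ B ≤ V ∧ (B.subgroupOf V).IsSubnormal) (h1 : ∀ V ∈ U, A ∈ S V) (h2 : ∀ V ∈ U, ∀ W ∈ U, ∀ B ∈ S W, B ≤ V → B ∈ S V) (h3 : ∀ V ∈ U, ∀ W ∈ U, ∃ X ∈ U, Subgroup.normalizer ((sSup (S V ∩ S W) : Subgroup G) : Set G) ≤ X) : ∃ M ∈ U, ∀ V ∈ U, V ≤ M := by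
  have hS' : ∀ V B : Subgroup G, B ∈ S V ↔ (∃ g : G, B = cj g A) ∧ SN B V := by
    intro V B
    rw [hS, sn_iff]
    simp only [smul_eq_cj]
  have hUfin : U.Finite := Set.toFinite U
  -- key claim
  have key : ∀ V W : Subgroup G, Maximal (· ∈ U) V → Maximal (· ∈ U) W →
      (∀ V' W' : Subgroup G, Maximal (· ∈ U) V' → Maximal (· ∈ U) W' → V' ≠ W' →
        S V ∩ S W ⊆ S V' ∩ S W' → S V' ∩ S W' ⊆ S V ∩ S W) →
      ∀ X' : Subgroup G, Maximal (· ∈ U) X' →
        Subgroup.normalizer ((sSup (S V ∩ S W) : Subgroup G) : Set G) ≤ X' → V = X' := by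
    intro V W hV hW hmax X' hX' hNX'
    set Sg := S V ∩ S W with hSgdef
    set J := sSup Sg with hJ
    have hJN : J ≤ Subgroup.normalizer (J : Set G) := Subgroup.le_normalizer
    by_cases hcase : Sg = S V
    · -- V normalizes J
      have hVJ : V ≤ Subgroup.normalizer (J : Set G) := by
        intro v hv
        apply mem_normalizer_sSup
        intro B hB
        rw [hcase] at hB ⊢
        obtain ⟨⟨g, rfl⟩, hBV⟩ := (hS' V B).mp hB
        rw [hS']
        refine ⟨⟨v * g, cj_cj v g A⟩, ?_⟩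
        have := hBV.conj v
        rwa [cj_eq_of_mem_normalizer (Subgroup.le_normalizer hv)] at this
      exact le_antisymm (hVJ.trans hNX') (hV.2 hX'.1 (hVJ.trans hNX'))
    · have hss : Sg ⊂ S V := by
        refine ⟨Set.inter_subset_left, ?_⟩
        intro h
        exact hcase (Set.Subset.antisymm Set.inter_subset_left h)
      obtain ⟨B, hBV, hBSg, hBJ⟩ := rel539 V (S V) Sg
        (fun B hB => ((hS' V B).mp hB).2)
        (by
          intro B hB v hv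
          obtain ⟨⟨g, rfl⟩, hBV⟩ := (hS' V B).mp hB
          rw [hS']
          refine ⟨⟨v * g, cj_cj v g A⟩, ?_⟩
          have := hBV.conj v
          rwa [cj_eq_of_mem_normalizer (Subgroup.le_normalizer hv)] at this) hss
      by_contra hne
      have hBX' : B ∈ S X' := h2 X' hX'.1 V hV.1 B hBV (hBJ.trans hNX')
      have hsub : Sg ⊆ S V ∩ S X' := by
        intro C hC
        refine ⟨hC.1, h2 X' hX'.1 V hV.1 C hC.1 ?_⟩
        exact ((le_sSup hC : C ≤ J).trans hJN).trans hNX'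
      have := hmax V X' hV hX' hne hsub ⟨hBV, hBX'⟩
      exact hBSg this
  -- suppose two distinct maximal elements
  by_cases huniq : ∀ V W : Subgroup G, Maximal (· ∈ U) V → Maximal (· ∈ U) W → V = W
  · obtain ⟨V₀, hV₀⟩ := hU
    obtain ⟨M, -, hM⟩ := hUfin.exists_le_maximal hV₀
    refine ⟨M, hM.1, ?_⟩
    intro V hV
    obtain ⟨M', hVM', hM'⟩ := hUfin.exists_le_maximal hV
    rw [huniq M M' hM hM']
    exact hVM'
  exfalso
  push Not at huniq
  obtain ⟨V₀, W₀, hV₀, hW₀, hne₀⟩ := huniq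
  let P : Set (Subgroup G × Subgroup G) :=
    {q | Maximal (· ∈ U) q.1 ∧ Maximal (· ∈ U) q.2 ∧ q.1 ≠ q.2}
  have hPne : P.Nonempty := ⟨(V₀, W₀), hV₀, hW₀, hne₀⟩
  obtain ⟨⟨V, W⟩, ⟨hV, hW, hne⟩, hmaxP⟩ :=
    (Set.toFinite P).exists_maximalFor (fun q => S q.1 ∩ S q.2) P hPne
  have hmax : ∀ V' W' : Subgroup G, Maximal (· ∈ U) V' → Maximal (· ∈ U) W' → V' ≠ W' →
      S V ∩ S W ⊆ S V' ∩ S W' → S V' ∩ S W' ⊆ S V ∩ S W := by
    intro V' W' hV' hW' hne' hsub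
    exact hmaxP (j := (V', W')) ⟨hV', hW', hne'⟩ hsub
  obtain ⟨X, hXU, hNX⟩ := h3 V hV.1 W hW.1
  obtain ⟨X', hXX', hX'⟩ := hUfin.exists_le_maximal hXU
  have e1 : V = X' := key V W hV hW hmax X' hX' (hNX.trans hXX')
  have hmax' : ∀ V' W' : Subgroup G, Maximal (· ∈ U) V' → Maximal (· ∈ U) W' → V' ≠ W' →
      S W ∩ S V ⊆ S V' ∩ S W' → S V' ∩ S W' ⊆ S W ∩ S V := by
    intro V' W' hV' hW' hne' hsub
    rw [Set.inter_comm (S W) (S V)] at hsub ⊢
    exact hmax V' W' hV' hW' hne' hsub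
  have e2 : W = X' := key W V hW hV hmax' X' hX' (by
    rw [Set.inter_comm (S W) (S V)]; exact hNX.trans hXX')
  exact hne (e1.trans e2.symm)

end Cfsg.Agent.S0540
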