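import Mathlib
import Cfsg.Statements.S0541
import Cfsg.Agent.Lib_helper7_SN
import Cfsg.Agent.Lib_helper7_CoprimeSylow

set_option autoImplicit false
open Pointwise
open Cfsg

namespace Cfsg.Agent.S0541

open Cfsg.Agent.helper7

variable {G : Type*} [Group G]

/-- subgroup generated by the conjugates of `Z` inside `Q` -/
def W (Z Q : Subgroup G) : Subgroup G :=
  ⨆ g ∈ {g : G | MulAut.conj g • Z ≤ Q}, MulAut.conj g • Z

theorem W_le (Z Q : Subgroup G) : W Z Q ≤ Q := iSup₂_le (fun _ hg => hg)

theorem le_W (Z Q : Subgroup G) {g : G} (h : cj g Z ≤ Q) : cj g Z ≤ W Z Q :=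
  le_iSup₂ (f := fun g (_ : g ∈ {g : G | MulAut.conj g • Z ≤ Q}) => MulAut.conj g • Z) g h

theorem W_mono (Z : Subgroup G) {Q Q' : Subgroup G} (h : Q ≤ Q') : W Z Q ≤ W Z Q' :=
  iSup₂_le fun _ hg => le_W Z Q' (le_trans hg h)

/-- Let Z and Y be subgroups of a finite group G and p a prime. Suppose that for every g in G the subgroup generated by the conjugates of g Z g⁻¹ under Y is a p-group. Then there is a Sylow p-subgroup P of G such that Y normalizes the subgroup generated by all conjugates of Z contained in P. -/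
theorem result {G : Type*} [Group G] [Finite G] (p : ℕ) [Fact p.Prime] (Z Y : Subgroup G) (h : ∀ g : G, IsPGroup p ↥(⨆ y ∈ Y, MulAut.conj (y * g) • Z)) : ∃ P : Sylow p G, Y ≤ Subgroup.normalizer ((⨆ g ∈ {g : G | MulAut.conj g • Z ≤ (P : Subgroup G)}, MulAut.conj g • Z : Subgroup G) : Set G) := by
  classical
  have hbot : (fun R : Subgroup G => IsPGroup p ↥R ∧ Y ≤ Subgroup.normalizer (R : Set G) ∧
      W Z R = R) ⊥ := by
    refine ⟨IsPGroup.of_bot, ?_, le_antisymm (W_le Z ⊥) bot_le⟩
    intro y _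
    rw [Subgroup.mem_normalizer_iff]
    intro x
    simp only [Subgroup.mem_bot]
    constructor
    · intro hx; rw [hx]; group
    · intro hx
      have : x = y⁻¹ * (y * x * y⁻¹) * y := by group
      rw [this, hx]; group
  obtain ⟨R, -, hRmax⟩ := Finite.exists_le_maximal (p := fun R : Subgroup G =>
    IsPGroup p ↥R ∧ Y ≤ Subgroup.normalizer (R : Set G) ∧ W Z R = R) hbot
  obtain ⟨⟨hRp, hYR, hWR⟩, hmax⟩ := hRmax
  obtain ⟨P, hRP⟩ := hRp.exists_le_sylow
  have step3 : ∀ g : G, cj g Z ≤ (P : Subgroup G) ⊓ Subgroup.normalizer (R : Set G) →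
      cj g Z ≤ R := by
    intro g hg
    obtain ⟨X, hX⟩ : ∃ X : Subgroup G, X = ⨆ y ∈ Y, MulAut.conj (y * g) • Z := ⟨_, rfl⟩
    have hXp : IsPGroup p ↥X := by rw [hX]; exact h g
    have hterm : ∀ y ∈ Y, cj (y * g) Z ≤ X := by
      intro y hy
      rw [hX]
      exact le_iSup₂ (f := fun y (_ : y ∈ Y) => MulAut.conj (y * g) • Z) y hy
    have hXle : ∀ T : Subgroup G, (∀ y ∈ Y, cj (y * g) Z ≤ T) → X ≤ T := by
      intro T hT
      rw [hX]
      exact iSup₂_le hT
    have hXN : X ≤ Subgroup.normalizer (R : Set G) := by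
      apply hXle
      intro y hy x hx
      rw [← cj_cj, mem_cj] at hx
      have h1 := (Subgroup.mem_inf.mp (hg hx)).2
      have hyN := hYR hy
      have hxe : x = y * (y⁻¹ * x * y) * y⁻¹ := by group
      rw [hxe]
      exact Subgroup.mul_mem _ (Subgroup.mul_mem _ hyN h1) (Subgroup.inv_mem _ hyN)
    have key : ∀ y'' ∈ Y, cj y'' X ≤ X := by
      intro y'' hy''
      rw [cj, Subgroup.map_le_iff_le_comap]
      apply hXle
      intro y hy
      rw [← Subgroup.map_le_iff_le_comap]
      change cj y'' (cj (y * g) Z) ≤ X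
      rw [cj_cj, ← mul_assoc]
      exact hterm (y'' * y) (Y.mul_mem hy'' hy)
    have hYX : Y ≤ Subgroup.normalizer (X : Set G) := by
      intro y' hy'
      apply mem_normalizer_of_cj_eq
      apply le_antisymm (key y' hy')
      have := key y'⁻¹ (Y.inv_mem hy')
      rwa [cj_le_iff, inv_inv] at this
    have hR'p : IsPGroup p ↥(R ⊔ X : Subgroup G) := IsPGroup.to_sup_of_normal_left' hRp hXp hXN
    have hR'Y : Y ≤ Subgroup.normalizer ((R ⊔ X : Subgroup G) : Set G) :=
      le_normalizer_sup hYR hYX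
    have hR'W : W Z (R ⊔ X) = R ⊔ X := by
      apply le_antisymm (W_le Z _)
      apply sup_le
      · calc R = W Z R := hWR.symm
          _ ≤ W Z (R ⊔ X) := W_mono Z le_sup_left
      · apply hXle
        intro y hy
        apply le_W
        exact le_trans (hterm y hy) le_sup_right
    have hle : R ⊔ X ≤ R := hmax ⟨hR'p, hR'Y, hR'W⟩ le_sup_left
    have hXR : X ≤ R := le_sup_right.trans hle
    have h1 : cj g Z ≤ X := by
      have := hterm 1 Y.one_mem
      rwa [one_mul] at this
    exact h1.trans hXR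
  obtain ⟨N, hN⟩ : ∃ N : Subgroup G, N = (P : Subgroup G) ⊓ Subgroup.normalizer (R : Set G) :=
    ⟨_, rfl⟩
  have hRN : R ≤ N := by rw [hN]; exact le_inf hRP Subgroup.le_normalizer
  have hNleP : N ≤ (P : Subgroup G) := by rw [hN]; exact inf_le_left
  have hNP : N = (P : Subgroup G) := by
    by_contra hne
    obtain ⟨x, hxP, hxN, hxnot⟩ := exists_mem_normalizer_not_mem P.isPGroup' hNleP hne
    apply hxnot
    rw [hN]
    refine Subgroup.mem_inf.mpr ⟨hxP, ?_⟩
    have key : ∀ x' ∈ Subgroup.normalizer (N : Set G), cj x' R ≤ R := by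
      intro x' hx'
      have h1 : cj x' (W Z R) ≤ R := by
        rw [cj, Subgroup.map_le_iff_le_comap]
        apply iSup₂_le
        intro g hg
        rw [← Subgroup.map_le_iff_le_comap]
        change cj x' (cj g Z) ≤ R
        have hg' : cj g Z ≤ N := le_trans hg hRN
        rw [cj_cj]
        apply step3
        rw [← cj_cj, ← hN]
        calc cj x' (cj g Z) ≤ cj x' N := cj_mono hg'
          _ = N := cj_eq_of_mem_normalizer hx'
      rwa [hWR] at h1
    apply mem_normalizer_of_cj_eq
    apply le_antisymm (key x hxN)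
    have := key x⁻¹ (Subgroup.inv_mem _ hxN)
    rwa [cj_le_iff, inv_inv] at this
  refine ⟨P, ?_⟩
  have hWP : (⨆ g ∈ {g : G | MulAut.conj g • Z ≤ (P : Subgroup G)}, MulAut.conj g • Z :
      Subgroup G) = R := by
    change W Z (P : Subgroup G) = R
    apply le_antisymm
    · apply iSup₂_le
      intro g hg
      apply step3
      rw [← hN, hNP]
      exact hg
    · calc R = W Z R := hWR.symm
        _ ≤ W Z (P : Subgroup G) := W_mono Z hRP
  rw [hWP]
  exact hYR

end Cfsg.Agent.S0541
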