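import Cfsg.Statements.S0543
import Cfsg.Agent.Lib_helper23_Hall
import Cfsg.Agent.Lib_helper23_SylowSys
import Cfsg.Agent.Lib_helper21_Basic
import Cfsg.Agent.Lib_helper3_Basic

set_option autoImplicit false
open Pointwise
open Cfsg

namespace Cfsg.Agent.S0543

open scoped Pointwise

/-- In a finite solvable group any two Hall complement systems are simultaneously conjugate: one element conjugates every member of the first system to the corresponding member of the second. -/
theorem result {G : Type*} [Group G] [Finite G] [Group.IsSolvable G] (K L : Nat.Primes → Subgroup G) (hK : Cfsg.IsComplementSystem K) (hL : Cfsg.IsComplementSystem L) : ∃ g : G, ∀ p : Nat.Primes, MulAut.conj g • K p = L p := by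
  classical
  have hn0 : Nat.card G ≠ 0 := Nat.card_pos.ne'
  have hNidx : ∀ p : Nat.Primes, (Subgroup.normalizer (L p : Set G)).index ∣
      (p : ℕ) ^ (Nat.card G).factorization p := by
    intro p
    rw [← hL p]
    exact Subgroup.index_dvd_of_le Subgroup.le_normalizer
  have hQ : ∀ S : Finset Nat.Primes, ∀ r : ℕ, r.Prime →
      r ∣ (S.inf (fun p => Subgroup.normalizer (L p : Set G))).index → ∃ p ∈ S, (p : ℕ) = r := by
    intro S
    induction S using Finset.induction_on with
    | empty =>
      intro r hr hdvd
      rw [Finset.inf_empty, Subgroup.index_top] at hdvd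
      exact absurd (Nat.dvd_one.mp hdvd) hr.one_lt.ne'
    | insert a S ha ih =>
      intro r hr hdvd
      rw [Finset.inf_insert] at hdvd
      have hcop : (Subgroup.normalizer (L a : Set G)).index.Coprime
          (S.inf (fun p => Subgroup.normalizer (L p : Set G))).index := by
        apply Nat.coprime_of_dvd
        intro k hk hk1 hk2
        have hka : k = (a : ℕ) :=
          (Nat.prime_dvd_prime_iff_eq hk a.2).mp (hk.dvd_of_dvd_pow (hk1.trans (hNidx a)))
        obtain ⟨p, hpS, hpk⟩ := ih k hk hk2
        apply ha
        have : p = a := Subtype.ext (hpk.trans hka)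
        rw [← this]; exact hpS
      rw [helper23.index_inf_of_coprime _ _ hcop] at hdvd
      rcases (Nat.Prime.dvd_mul hr).mp hdvd with h1 | h1
      · refine ⟨a, Finset.mem_insert_self a S, ?_⟩
        exact ((Nat.prime_dvd_prime_iff_eq hr a.2).mp
          (hr.dvd_of_dvd_pow (h1.trans (hNidx a)))).symm
      · obtain ⟨p, hpS, hpr⟩ := ih r hr h1
        exact ⟨p, Finset.mem_insert_of_mem hpS, hpr⟩
  have hcardKL : ∀ p : Nat.Primes, ∀ g : G,
      ∃ x : G, MulAut.conj x • (MulAut.conj g • K p) = L p := by
    intro p g
    have h1 : Nat.card (K p) * (p : ℕ) ^ (Nat.card G).factorization p = Nat.card G := by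
      rw [← hK p]; exact Subgroup.card_mul_index _
    have h2 : Nat.card (L p) * (p : ℕ) ^ (Nat.card G).factorization p = Nat.card G := by
      rw [← hL p]; exact Subgroup.card_mul_index _
    have hppos : 0 < (p : ℕ) ^ (Nat.card G).factorization p := pow_pos p.2.pos _
    have hKL : Nat.card (L p) = Nat.card (K p) :=
      Nat.eq_of_mul_eq_mul_right hppos (h2.trans h1.symm)
    have hcop : (Nat.card (K p)).Coprime ((p : ℕ) ^ (Nat.card G).factorization p) := by
      have h3 : Nat.card (K p) = Nat.card G / (p : ℕ) ^ (Nat.card G).factorization p :=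
        (Nat.div_eq_of_eq_mul_left hppos h1.symm).symm
      rw [h3]
      exact (Nat.Coprime.pow_left _ (Nat.coprime_ordCompl p.2 hn0)).symm
    exact helper23.hall_conj _ _ h1.symm hcop (MulAut.conj g • K p) (L p)
      (helper3.card_conj_smul g (K p)) hKL
  have hP : ∀ S : Finset Nat.Primes, ∃ g : G, ∀ p ∈ S, MulAut.conj g • K p = L p := by
    intro S
    induction S using Finset.induction_on with
    | empty => exact ⟨1, fun p hp => absurd hp (Finset.notMem_empty p)⟩
    | insert a S ha ih =>
      obtain ⟨g, hg⟩ := ih
      obtain ⟨x, hx⟩ := hcardKL a g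
      have hcop : (S.inf (fun p => Subgroup.normalizer (L p : Set G))).index.Coprime
          (Subgroup.normalizer (L a : Set G)).index := by
        apply Nat.coprime_of_dvd
        intro k hk hk1 hk2
        have hka : k = (a : ℕ) :=
          (Nat.prime_dvd_prime_iff_eq hk a.2).mp (hk.dvd_of_dvd_pow (hk2.trans (hNidx a)))
        obtain ⟨p, hpS, hpk⟩ := hQ S k hk hk1
        apply ha
        have : p = a := Subtype.ext (hpk.trans hka)
        rw [← this]; exact hpS
      obtain ⟨n, hn, h, hh, hxnh⟩ := helper21.exists_mul_of_coprime_index _ _ hcop x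
      refine ⟨h * g, ?_⟩
      intro p hp
      rw [map_mul, mul_smul]
      rcases Finset.mem_insert.mp hp with hpa | hpS
      · rw [hpa]
        rw [hxnh, map_mul, mul_smul] at hx
        have hn' : MulAut.conj n • L a = L a := (helper3.conj_smul_eq_self_iff n (L a)).mpr hn
        rw [← hn'] at hx
        exact smul_left_cancel _ hx
      · rw [hg p hpS]
        have hmem : h ∈ Subgroup.normalizer (L p : Set G) := by
          have hle : S.inf (fun p => Subgroup.normalizer (L p : Set G)) ≤
              Subgroup.normalizer (L p : Set G) := Finset.inf_le hpS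
          exact hle hh
        exact (helper3.conj_smul_eq_self_iff h (L p)).mpr hmem
  obtain ⟨g, hg⟩ := hP (Finset.subtype Nat.Prime (Nat.card G).primeFactors : Finset Nat.Primes)
  refine ⟨g, fun p => ?_⟩
  by_cases hp : p ∈ (Finset.subtype Nat.Prime (Nat.card G).primeFactors : Finset Nat.Primes)
  · exact hg p hp
  · have hp' : ¬ ((p : ℕ) ∈ (Nat.card G).primeFactors) := fun h => hp (Finset.mem_subtype.mpr h)
    rw [Nat.mem_primeFactors] at hp'
    have hnd : ¬ (p : ℕ) ∣ Nat.card G := fun hd => hp' ⟨p.2, hd, hn0⟩
    have hf : (Nat.card G).factorization p = 0 := Nat.factorization_eq_zero_of_not_dvd hnd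
    have hKt : K p = ⊤ := by
      have := hK p
      rw [hf, pow_zero] at this
      exact Subgroup.index_eq_one.mp this
    have hLt : L p = ⊤ := by
      have := hL p
      rw [hf, pow_zero] at this
      exact Subgroup.index_eq_one.mp this
    rw [hKt, hLt]
    exact Subgroup.Normal.conj_smul_eq_self g ⊤

end Cfsg.Agent.S0543
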