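import Cfsg.Statements.S0546
import Cfsg.Agent.Lib_helper23_SysNorm2
import Cfsg.Agent.Lib_helper1_ElemAb

set_option autoImplicit false
open Cfsg

namespace Cfsg.Agent.S0546

/-- The normal closure of a system normalizer of a finite solvable group is the whole group. -/
theorem result {G : Type*} [Group G] [Finite G] [Group.IsSolvable G] (K : Nat.Primes → Subgroup G) (hK : Cfsg.IsComplementSystem K) : Subgroup.normalClosure ((Cfsg.systemNormalizer K : Subgroup G) : Set G) = ⊤ := by
  classical
  by_contra hne
  obtain ⟨M, hM⟩ : ∃ M : Subgroup G,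
      M = Subgroup.normalClosure ((Cfsg.systemNormalizer K : Subgroup G) : Set G) := ⟨_, rfl⟩
  rw [← hM] at hne
  haveI hMn : M.Normal := by rw [hM]; exact Subgroup.normalClosure_normal
  have hDM : Cfsg.systemNormalizer K ≤ M := by rw [hM]; exact Subgroup.le_normalClosure
  haveI : Nontrivial (G ⧸ M) := by
    rw [← not_subsingleton_iff_nontrivial]
    intro hss
    exact hne (QuotientGroup.subgroup_eq_top_of_subsingleton M hss)
  have hlt : commutator (G ⧸ M) < ⊤ := Group.IsSolvable.commutator_lt_top_of_nontrivial (G ⧸ M)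
  obtain ⟨R, hR⟩ : ∃ R : Subgroup G,
      R = (commutator (G ⧸ M)).comap (QuotientGroup.mk' M) := ⟨_, rfl⟩
  haveI hRn : R.Normal := by rw [hR]; exact Subgroup.Normal.comap inferInstance _
  have hMR : M ≤ R := by
    rw [hR]; intro x hx
    rw [Subgroup.mem_comap]
    have h1 : QuotientGroup.mk' M x = 1 := (QuotientGroup.eq_one_iff x).mpr hx
    rw [h1]; exact Subgroup.one_mem _
  have hRtop : R ≠ ⊤ := by
    intro h
    apply hlt.ne
    rw [eq_top_iff]
    intro y _
    obtain ⟨x, rfl⟩ := QuotientGroup.mk'_surjective M y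
    have h1 : x ∈ R := by rw [h]; exact Subgroup.mem_top x
    rw [hR] at h1
    exact h1
  have hcomm : commutator G ≤ R := by
    rw [commutator_def, Subgroup.commutator_le]
    intro g _ h _
    rw [hR, Subgroup.mem_comap, map_commutatorElement, commutator_def]
    exact Subgroup.commutator_mem_commutator (Subgroup.mem_top _) (Subgroup.mem_top _)
  have hab := helper1.quot_comm_of_commutator_le R hcomm
  obtain ⟨-, h2⟩ := helper23.systemNormalizer_map K hK R
  have htop : Cfsg.systemNormalizer (fun p => (K p).map (QuotientGroup.mk' R)) = ⊤ := by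
    rw [eq_top_iff]
    intro y _
    unfold Cfsg.systemNormalizer
    rw [Subgroup.mem_iInf]
    intro p
    rw [Subgroup.mem_normalizer_iff]
    intro h
    have h1 : y * h * y⁻¹ = h := by rw [hab y h, mul_inv_cancel_right]
    rw [h1]
  have hbot : (Cfsg.systemNormalizer K).map (QuotientGroup.mk' R) = ⊥ := by
    rw [Subgroup.map_eq_bot_iff, QuotientGroup.ker_mk']
    exact hDM.trans hMR
  rw [htop, hbot] at h2
  apply hRtop
  rw [eq_top_iff]
  intro x _
  have h3 : QuotientGroup.mk' R x ∈ (⊤ : Subgroup (G ⧸ R)) := Subgroup.mem_top _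
  rw [h2, Subgroup.mem_bot] at h3
  exact (QuotientGroup.eq_one_iff x).mp h3

end Cfsg.Agent.S0546
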