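import Cfsg.Statements.S0547
import Cfsg.Agent.Lib_helper18_SolvPrim

set_option autoImplicit false
open Cfsg

namespace Cfsg.Agent.S0547

open Cfsg.Agent.helper18.B2T Cfsg.Agent.helper18.SolvPrim

theorem result {G : Type*} [Group G] [Finite G] [Group.IsSolvable G] {Ω : Type*} [Nonempty Ω] [MulAction G Ω] [FaithfulSMul G Ω] (hprim : MulAction.IsPreprimitive G Ω) (M : Subgroup G) [M.Normal] (hM : M ≠ ⊥) (hmin : ∀ K : Subgroup G, K.Normal → K ≤ M → K = ⊥ ∨ K = M) : MulAction.IsPretransitive M Ω ∧ (∀ ω : Ω, MulAction.stabilizer M ω = ⊥) ∧ ∃ p d : ℕ, p.Prime ∧ 0 < d ∧ Nat.card Ω = p ^ d ∧ Nat.card M = p ^ d := by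
  obtain ⟨ω₀⟩ := ‹Nonempty Ω›
  have hfin : Finite Ω := by
    have : MulAction.IsPretransitive G Ω := hprim.toIsPretransitive
    exact Finite.of_surjective (fun g : G => g • ω₀) (MulAction.surjective_smul G ω₀)
  obtain ⟨_, ht, hs, p, d, hpp, hd, hcard⟩ := solvable_primitive_core hprim M hM hmin
  refine ⟨isPretransitive_of_trans ht, ?_, p, d, hpp, hd, ?_, hcard⟩
  · intro ω
    rw [eq_bot_iff]
    intro m hm
    rw [Subgroup.mem_bot]
    apply Subtype.ext
    exact hs (m : G) m.2 ω hm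
  · rw [← card_eq_of_regular M ht hs ω₀, hcard]

end Cfsg.Agent.S0547
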