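import Cfsg.Statements.S0548
import Cfsg.Agent.Lib_helper18_SolvPrim

set_option autoImplicit false
open Cfsg

namespace Cfsg.Agent.S0548

open Cfsg.Agent.helper18.B2T Cfsg.Agent.helper18.SolvPrim

theorem result {G : Type*} [Group G] [Finite G] [Group.IsSolvable G] {Ω : Type*} [MulAction G Ω] [FaithfulSMul G Ω] (hprim : MulAction.IsPreprimitive G Ω) (M : Subgroup G) [M.Normal] (hM : M ≠ ⊥) (hmin : ∀ K : Subgroup G, K.Normal → K ≤ M → K = ⊥ ∨ K = M) (ω : Ω) : Subgroup.IsComplement' M (MulAction.stabilizer G ω) ∧ MulAction.stabilizer G ω ⊓ Subgroup.centralizer (M : Set G) = ⊥ ∧ ∀ K : Subgroup G, K ≤ M → MulAction.stabilizer G ω ≤ Subgroup.normalizer (K : Set G) → K = ⊥ ∨ K = M := by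
  have hfin : Finite Ω := by
    have : MulAction.IsPretransitive G Ω := hprim.toIsPretransitive
    exact Finite.of_surjective (fun g : G => g • ω) (MulAction.surjective_smul G ω)
  obtain ⟨hc, ht, hs, -⟩ := solvable_primitive_core hprim M hM hmin
  have hcompl : Subgroup.IsComplement' M (MulAction.stabilizer G ω) := by
    apply Subgroup.isComplement'_stabilizer
    · intro h hh
      apply Subtype.ext
      exact hs (h : G) h.2 ω hh
    · intro g
      obtain ⟨m, hm, hmg⟩ := ht (g • ω) ω
      exact ⟨⟨m, hm⟩, hmg⟩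
  refine ⟨hcompl, ?_, ?_⟩
  · rw [eq_bot_iff]
    intro c hcm
    rw [Subgroup.mem_bot]
    obtain ⟨hcω, hcc⟩ := hcm
    have hsr : SemiReg (Subgroup.zpowers c) Ω := by
      apply semiReg_of_centralized (Subgroup.zpowers c) M ht
      intro z hz t htM
      obtain ⟨k, rfl⟩ := Subgroup.mem_zpowers_iff.mp hz
      have h1 : t * c = c * t := (Subgroup.mem_centralizer_iff.mp hcc) t htM
      have h2 : Commute c t := h1.symm
      exact (h2.zpow_left k).eq
    exact hsr c (Subgroup.mem_zpowers c) ω hcω
  · intro K hKM hnorm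
    have hKn : K.Normal := by
      rw [← Subgroup.normalizer_eq_top_iff, eq_top_iff]
      intro g _
      -- write `g = m * s`
      obtain ⟨m, hm, hmg⟩ := ht (g • ω) ω
      have hs' : m * g ∈ MulAction.stabilizer G ω := by
        change (m * g) • ω = ω
        rw [mul_smul, hmg]
      have hmN : m⁻¹ ∈ Subgroup.normalizer (K : Set G) := by
        rw [Subgroup.mem_normalizer_iff]
        intro k
        constructor
        · intro hk
          have : m⁻¹ * k * m⁻¹⁻¹ = k := by
            rw [inv_inv, hc m⁻¹ (M.inv_mem hm) k (hKM hk), mul_assoc, inv_mul_cancel, mul_one]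
          rw [this]; exact hk
        · intro hk
          have hk' : m⁻¹ * k * m⁻¹⁻¹ ∈ M := hKM hk
          have hkM : k ∈ M := by
            have h1 := M.mul_mem (M.mul_mem hm hk') (M.inv_mem hm)
            have h2 : m * (m⁻¹ * k * m⁻¹⁻¹) * m⁻¹ = k := by group
            rwa [h2] at h1
          have : m⁻¹ * k * m⁻¹⁻¹ = k := by
            rw [inv_inv, hc m⁻¹ (M.inv_mem hm) k hkM, mul_assoc, inv_mul_cancel, mul_one]
          rw [this] at hk; exact hk
      have : g = m⁻¹ * (m * g) := by group
      rw [this]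
      exact Subgroup.mul_mem _ hmN (hnorm hs')
    exact hmin K hKn hKM

end Cfsg.Agent.S0548
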