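import Cfsg.Statements.S0549
import Mathlib.Tactic

set_option autoImplicit false
open Cfsg

namespace Cfsg.Agent.S0549

open scoped Pointwise

/-- A nontrivial normal subgroup is not contained in a core-free subgroup. -/
theorem not_le_of_core {G : Type*} [Group G] (U : Subgroup G) (hcore : U.normalCore = ⊥)
    (K : Subgroup G) (hKn : K.Normal) (hK : K ≠ ⊥) : ¬ K ≤ U := by
  intro h
  apply hK
  have := (Subgroup.normal_le_normalCore (H := U) (N := K)).2 h
  rw [hcore] at this
  exact le_bot_iff.1 this

theorem sup_eq_top {G : Type*} [Group G] (U : Subgroup G) (hU : IsCoatom U)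
    (K : Subgroup G) (hK : ¬ K ≤ U) : K ⊔ U = ⊤ := by
  by_contra h
  have h1 : U < K ⊔ U := lt_of_le_of_ne le_sup_right (fun h2 => hK (by rw [h2]; exact le_sup_left))
  exact h (hU.2 _ h1)

theorem result {G : Type*} [Group G] [Finite G] (U : Subgroup G) (hU : IsCoatom U) (hcore : U.normalCore = ⊥) (N : Subgroup G) [N.Normal] (hN : N ≠ ⊥) : Subgroup.centralizer (N : Set G) ⊓ U = ⊥ ∧ (Subgroup.centralizer (N : Set G) = ⊥ ∨ (Subgroup.centralizer (N : Set G) ≠ ⊥ ∧ ∀ K : Subgroup G, K.Normal → K ≤ Subgroup.centralizer (N : Set G) → K = ⊥ ∨ K = Subgroup.centralizer (N : Set G))) := by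
  set C := Subgroup.centralizer (N : Set G) with hC
  haveI hCn : C.Normal := Subgroup.normal_centralizer
  have hNU : N ⊔ U = ⊤ := sup_eq_top U hU N (not_le_of_core U hcore N inferInstance hN)
  have h1 : C ⊓ U = ⊥ := by
    have hnorm : (C ⊓ U).Normal := by
      rw [← Subgroup.normalizer_eq_top_iff, eq_top_iff, ← hNU]
      apply sup_le
      · intro n hn
        rw [Subgroup.mem_normalizer_iff]
        intro d
        have key : ∀ d ∈ C, n * d * n⁻¹ = d := by
          intro d hd
          have := Subgroup.mem_centralizer_iff.1 hd n hn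
          rw [this]; group
        constructor
        · intro hd
          rw [key d hd.1]; exact hd
        · intro hd
          have hdC : d ∈ C := by
            have := hCn.conj_mem _ hd.1 n⁻¹
            have e : n⁻¹ * (n * d * n⁻¹) * n⁻¹⁻¹ = d := by group
            rwa [e] at this
          rw [key d hdC] at hd; exact hd
      · intro u hu
        rw [Subgroup.mem_normalizer_iff]
        intro d
        constructor
        · intro hd
          exact ⟨hCn.conj_mem _ hd.1 u, U.mul_mem (U.mul_mem hu hd.2) (U.inv_mem hu)⟩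
        · intro hd
          have e : d = u⁻¹ * (u * d * u⁻¹) * u⁻¹⁻¹ := by group
          rw [e]
          exact ⟨hCn.conj_mem _ hd.1 u⁻¹, U.mul_mem (U.mul_mem (U.inv_mem hu) hd.2) (U.inv_mem (U.inv_mem hu))⟩
    have := (Subgroup.normal_le_normalCore (H := U) (N := C ⊓ U)).2 inf_le_right
    rw [hcore] at this
    exact le_bot_iff.1 this
  refine ⟨h1, ?_⟩
  by_cases hC0 : C = ⊥
  · left; exact hC0
  · right
    refine ⟨hC0, ?_⟩
    intro K hKn hKC
    by_cases hK0 : K = ⊥
    · left; exact hK0
    · right
      have hKU : K ⊔ U = ⊤ := sup_eq_top U hU K (not_le_of_core U hcore K hKn hK0)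
      apply le_antisymm hKC
      intro c hc
      have hc' : c ∈ ((K ⊔ U : Subgroup G) : Set G) := by rw [hKU]; trivial
      haveI := hKn
      rw [Subgroup.normal_mul] at hc'
      obtain ⟨k, hk, u, hu, rfl⟩ := hc'
      change k * u ∈ C at hc
      have huC : u ∈ C := by
        have : u = k⁻¹ * (k * u) := by group
        rw [this]
        exact C.mul_mem (C.inv_mem (hKC hk)) hc
      have hu1 : u ∈ C ⊓ U := ⟨huC, hu⟩
      rw [h1, Subgroup.mem_bot] at hu1
      rw [hu1]
      show k * 1 ∈ K
      rw [mul_one]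
      exact hk

end Cfsg.Agent.S0549
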