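import Cfsg.Statements.S0550
import Mathlib
import Cfsg.Agent.Lib_helper3_Prim

set_option autoImplicit false
open Cfsg

namespace Cfsg.Agent.S0550

open Cfsg.Agent.helper3 Cfsg.Agent.helper1

theorem equiv_of_sup_eq {G : Type*} [Group G] (N : Subgroup G) [N.Normal] (H K : Subgroup G)
    (hH : H ⊓ N = ⊥) (hK : K ⊓ N = ⊥) (h : H ⊔ N = K ⊔ N) : Nonempty (H ≃* K) := by
  have inj : ∀ L : Subgroup G, L ⊓ N = ⊥ →
      Function.Injective ((QuotientGroup.mk' N).subgroupMap L) := by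
    intro L hL x y hxy
    have h1 : QuotientGroup.mk' N x = QuotientGroup.mk' N y := congrArg Subtype.val hxy
    have h2 : (x : G)⁻¹ * y ∈ N := QuotientGroup.eq.mp h1
    have h3 : (x : G)⁻¹ * y ∈ L ⊓ N :=
      Subgroup.mem_inf.mpr ⟨L.mul_mem (L.inv_mem x.2) y.2, h2⟩
    rw [hL, Subgroup.mem_bot] at h3
    apply Subtype.ext
    exact inv_mul_eq_one.mp h3
  have hmap : H.map (QuotientGroup.mk' N) = K.map (QuotientGroup.mk' N) := by
    rw [Subgroup.map_eq_map_iff, QuotientGroup.ker_mk']; exact h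
  exact ⟨(MulEquiv.ofBijective _ ⟨inj H hH, (QuotientGroup.mk' N).subgroupMap_surjective H⟩).trans
    ((MulEquiv.subgroupCongr hmap).trans
      (MulEquiv.ofBijective _ ⟨inj K hK, (QuotientGroup.mk' N).subgroupMap_surjective K⟩).symm)⟩

theorem dedekind_eq {G : Type*} [Group G] {N M C : Subgroup G} [N.Normal] (hsup : N ⊔ M = ⊤)
    (hNC : N ≤ C) (hCM : C ⊓ M = ⊥) : C = N := by
  apply le_antisymm _ hNC
  intro c hc
  obtain ⟨n, hn, m, hm, rfl⟩ := prim_exists_mul hsup c
  have h1 : m ∈ C ⊓ M := by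
    refine Subgroup.mem_inf.mpr ⟨?_, hm⟩
    have : m = n⁻¹ * (n * m) := by group
    rw [this]
    exact C.mul_mem (C.inv_mem (hNC hn)) hc
  rw [hCM, Subgroup.mem_bot] at h1
  rw [h1, mul_one]; exact hn

theorem cent_inf_eq_bot {G : Type*} [Group G] {U A : Subgroup G} [A.Normal]
    (hcore : U.normalCore = ⊥) (hAU : A ⊔ U = ⊤) :
    Subgroup.centralizer (A : Set G) ⊓ U = ⊥ := by
  apply prim_inf_eq_bot_of_centralized (N := A) hcore hAU inferInstance
  intro n hn x hx
  have := (Subgroup.mem_centralizer_iff.mp hx.1) n hn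
  rw [this]; group

theorem sup_inf_sup {G : Type*} [Group G] {U A B : Subgroup G} [B.Normal] (hBU : B ⊔ U = ⊤) :
    A ⊔ B = (A ⊔ B) ⊓ U ⊔ B := by
  apply le_antisymm
  · intro x hx
    obtain ⟨b, hb, u, hu, rfl⟩ := prim_exists_mul hBU x
    have h1 : u ∈ A ⊔ B := by
      have : u = b⁻¹ * (b * u) := by group
      rw [this]
      exact Subgroup.mul_mem _ (Subgroup.inv_mem _ (Subgroup.mem_sup_right hb)) hx
    exact Subgroup.mul_mem _ (Subgroup.mem_sup_right hb)
      (Subgroup.mem_sup_left (Subgroup.mem_inf.mpr ⟨h1, hu⟩))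
  · exact sup_le inf_le_left le_sup_right

/-- Let U be a maximal subgroup with trivial normal core in a finite group G, and A ≠ B two minimal normal subgroups. Then A is the centralizer of B and B that of A, U complements each of them, A and B are non-abelian, and A, B and (A ⊔ B) ∩ U are pairwise isomorphic. -/
theorem result {G : Type*} [Group G] [Finite G] (U : Subgroup G) (hU : IsCoatom U) (hcore : U.normalCore = ⊥) (A B : Subgroup G) [A.Normal] [B.Normal] (hA : A ≠ ⊥) (hB : B ≠ ⊥) (hAmin : ∀ K : Subgroup G, K.Normal → K ≤ A → K = ⊥ ∨ K = A) (hBmin : ∀ K : Subgroup G, K.Normal → K ≤ B → K = ⊥ ∨ K = B) (hAB : A ≠ B) : Subgroup.centralizer (B : Set G) = A ∧ Subgroup.centralizer (A : Set G) = B ∧ Subgroup.IsComplement' A U ∧ Subgroup.IsComplement' B U ∧ ¬ IsMulCommutative A ∧ Nonempty (A ≃* B) ∧ Nonempty (A ≃* ↥((A ⊔ B) ⊓ U)) := by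
  have hAB0 : A ⊓ B = ⊥ := by
    rcases hAmin (A ⊓ B) (Subgroup.normal_inf_normal A B) inf_le_left with h | h
    · exact h
    · exfalso
      have h1 : A ≤ B := inf_eq_left.mp h
      rcases hBmin A inferInstance h1 with h2 | h2
      · exact hA h2
      · exact hAB h2
  have hAn : A.Normal := inferInstance
  have hBn : B.Normal := inferInstance
  have hcomm : ∀ a ∈ A, ∀ b ∈ B, a * b = b * a := by
    intro a ha b hb
    have h1 : a * b * a⁻¹ * b⁻¹ ∈ A ⊓ B := by
      refine Subgroup.mem_inf.mpr ⟨?_, ?_⟩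
      · have : a * b * a⁻¹ * b⁻¹ = a * (b * a⁻¹ * b⁻¹) := by group
        rw [this]
        exact A.mul_mem ha (hAn.conj_mem _ (A.inv_mem ha) _)
      · exact B.mul_mem (hBn.conj_mem _ hb _) (B.inv_mem hb)
    rw [hAB0, Subgroup.mem_bot] at h1
    have : a * b = (a * b * a⁻¹ * b⁻¹) * (b * a) := by group
    rw [this, h1, one_mul]
  have hAU : A ⊔ U = ⊤ := prim_sup_eq_top hU hcore A hA
  have hBU : B ⊔ U = ⊤ := prim_sup_eq_top hU hcore B hB
  have hCA : Subgroup.centralizer (A : Set G) ⊓ U = ⊥ := cent_inf_eq_bot hcore hAU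
  have hCB : Subgroup.centralizer (B : Set G) ⊓ U = ⊥ := cent_inf_eq_bot hcore hBU
  have hBCA : B ≤ Subgroup.centralizer (A : Set G) := by
    intro b hb
    rw [Subgroup.mem_centralizer_iff]
    intro a ha
    exact hcomm a ha b hb
  have hACB : A ≤ Subgroup.centralizer (B : Set G) := by
    intro a ha
    rw [Subgroup.mem_centralizer_iff]
    intro b hb
    exact (hcomm a ha b hb).symm
  have hcentA : Subgroup.centralizer (A : Set G) = B := dedekind_eq hBU hBCA hCA
  have hcentB : Subgroup.centralizer (B : Set G) = A := dedekind_eq hAU hACB hCB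
  have hAU0 : A ⊓ U = ⊥ := le_bot_iff.mp (hCB ▸ inf_le_inf_right U hACB)
  have hBU0 : B ⊓ U = ⊥ := le_bot_iff.mp (hCA ▸ inf_le_inf_right U hBCA)
  have hDB : (A ⊔ B) ⊓ U ⊓ B = ⊥ := by
    apply le_bot_iff.mp
    rw [← hBU0]
    exact le_inf inf_le_right (inf_le_left.trans inf_le_right)
  have hDA : (A ⊔ B) ⊓ U ⊓ A = ⊥ := by
    apply le_bot_iff.mp
    rw [← hAU0]
    exact le_inf inf_le_right (inf_le_left.trans inf_le_right)
  obtain ⟨eAD⟩ := equiv_of_sup_eq B A ((A ⊔ B) ⊓ U) hAB0 hDB (sup_inf_sup hBU)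
  have hBA : B ⊔ A = (A ⊔ B) ⊓ U ⊔ A := by
    have := sup_inf_sup (U := U) (A := B) (B := A) hAU
    rw [sup_comm A B]
    exact this
  obtain ⟨eBD⟩ := equiv_of_sup_eq A B ((A ⊔ B) ⊓ U) (by rw [inf_comm]; exact hAB0) hDA hBA
  refine ⟨hcentB, hcentA, isComplement'_of_normal_disjoint_sup A U (disjoint_iff.mpr hAU0) hAU,
    isComplement'_of_normal_disjoint_sup B U (disjoint_iff.mpr hBU0) hBU, ?_,
    ⟨eAD.trans eBD.symm⟩, ⟨eAD⟩⟩
  intro hcom
  apply hA
  have h1 : A ≤ Subgroup.centralizer (A : Set G) := by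
    intro x hx
    rw [Subgroup.mem_centralizer_iff]
    intro y hy
    have := hcom.is_comm.comm (⟨y, hy⟩ : A) ⟨x, hx⟩
    exact congrArg Subtype.val this
  rw [hcentA] at h1
  rw [← inf_eq_left.mpr h1, hAB0]

end Cfsg.Agent.S0550
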