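import Cfsg.Statements.S0552
import Cfsg.Agent.S1264
import Cfsg.Agent.Lib_helper1_Core
import Mathlib

set_option autoImplicit false
open Cfsg

namespace Cfsg.Agent.S0552


/-- Let σ be an automorphism of a finite solvable group G fixing every element of the Fitting subgroup. If σ is not the identity then the order of σ and the order of G have a common prime factor. -/
theorem result {G : Type*} [Group G] [Finite G] [Group.IsSolvable G] (σ : G ≃* G) (hσ : ∀ x ∈ Cfsg.fittingSubgroup G, σ x = x) (hne : σ ≠ MulEquiv.refl G) : ¬ (orderOf σ).Coprime (Nat.card G) := by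
  intro hcop
  apply hne
  -- `C_G(F(G)) ≤ F(G)` for solvable `G`
  have hFn : (Cfsg.fittingSubgroup G).Normal := helper1.fitting_normal
  have hCF : Subgroup.centralizer (Cfsg.fittingSubgroup G : Set G) ≤ Cfsg.fittingSubgroup G := by
    have h1 := Cfsg.Agent.S1264.result (Subgroup.centralizer (Cfsg.fittingSubgroup G : Set G))
      le_rfl Subgroup.le_normalizer inferInstance
    exact h1.trans (Subgroup.map_subtype_le _)
  have key : ∀ g : G, σ g = g := by
    intro g
    -- `z = g⁻¹ σ(g)` centralizes `F(G)`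
    have hz : g⁻¹ * σ g ∈ Subgroup.centralizer (Cfsg.fittingSubgroup G : Set G) := by
      rw [Subgroup.mem_centralizer_iff]
      intro x hx
      have hx' : g * x * g⁻¹ ∈ Cfsg.fittingSubgroup G := hFn.conj_mem x hx g
      have h1 : σ (g * x * g⁻¹) = g * x * g⁻¹ := hσ _ hx'
      rw [map_mul, map_mul, map_inv, hσ x hx] at h1
      calc x * (g⁻¹ * σ g) = g⁻¹ * (g * x * g⁻¹) * σ g := by group
        _ = g⁻¹ * (σ g * x * (σ g)⁻¹) * σ g := by rw [h1]
        _ = g⁻¹ * σ g * x := by group
    have hzF : g⁻¹ * σ g ∈ Cfsg.fittingSubgroup G := hCF hz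
    have hσz : σ (g⁻¹ * σ g) = g⁻¹ * σ g := hσ _ hzF
    have hσg : σ g = g * (g⁻¹ * σ g) := by group
    have hpow : ∀ k : ℕ, (σ ^ k) g = g * (g⁻¹ * σ g) ^ k := by
      intro k
      induction k with
      | zero => simp
      | succ k ih =>
        rw [pow_succ', MulAut.mul_apply, ih, map_mul, map_pow, hσz, pow_succ', ← mul_assoc, ← hσg]
    have h1 := hpow (orderOf σ)
    rw [pow_orderOf_eq_one, MulAut.one_apply] at h1
    have h2 : (g⁻¹ * σ g) ^ orderOf σ = 1 := by
      have : g * (g⁻¹ * σ g) ^ orderOf σ = g * 1 := by rw [mul_one]; exact h1.symm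
      exact mul_left_cancel this
    have h3 : orderOf (g⁻¹ * σ g) ∣ orderOf σ := orderOf_dvd_of_pow_eq_one h2
    have h4 : orderOf (g⁻¹ * σ g) ∣ Nat.card G := orderOf_dvd_natCard _
    have h5 : orderOf (g⁻¹ * σ g) = 1 := Nat.eq_one_of_dvd_coprimes hcop h3 h4
    rw [orderOf_eq_one_iff] at h5
    rw [hσg, h5, mul_one]
  ext g
  exact key g

end Cfsg.Agent.S0552
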