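import Cfsg.Statements.S0553
import Cfsg.Agent.Lib_helper23_PSolv3
import Cfsg.Agent.Lib_helper23_Hall
import Cfsg.Agent.Lib_helper1_PGroup
import Cfsg.Agent.Lib_helper1_Core

set_option autoImplicit false
open Cfsg

namespace Cfsg.Agent.S0553

universe u

theorem aux : ∀ (n : ℕ) (G : Type u) [Group G] [Finite G] [Group.IsSolvable G] [Nontrivial G],
    Nat.card G = n →
    (∀ M : Subgroup G, IsCoatom M → (Nat.card M).Coprime M.index) →
    ∃ p : ℕ, p.Prime ∧ p ∣ Nat.card G ∧ ∀ P : Sylow p G, (P : Subgroup G).Normal := by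
  intro n
  induction n using Nat.strong_induction_on with
  | _ n ih =>
  intro G _ _ _ _ hcard h
  obtain ⟨q, hq⟩ := helper23.exists_pCore_ne_bot_of_solvable G
  haveI : Fact (q : ℕ).Prime := ⟨q.2⟩
  obtain ⟨N, hN⟩ : ∃ N : Subgroup G, N = Cfsg.pCore (q : ℕ) G := ⟨_, rfl⟩
  have hNne : N ≠ ⊥ := by rw [hN]; exact hq
  haveI hNn : N.Normal := by rw [hN]; exact helper1.pCore_normal _
  have hNp : IsPGroup (q : ℕ) N := by rw [hN]; exact helper1.pCore_isPGroup _
  have hNcard1 : 1 < Nat.card N := (Subgroup.one_lt_card_iff_ne_bot N).mpr hNne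
  by_cases hNF : N ≤ frattini G
  · -- quotient case
    have hNtop : N ≠ ⊤ := by
      intro htop
      have h1 : (⊥ : Subgroup G) ⊔ frattini G = ⊤ := by
        rw [bot_sup_eq]; exact top_le_iff.mp (htop ▸ hNF)
      have h2 := frattini_nongenerating h1
      exact bot_ne_top h2
    haveI : Nontrivial (G ⧸ N) := by
      rw [← not_subsingleton_iff_nontrivial]
      intro hss
      exact hNtop (QuotientGroup.subgroup_eq_top_of_subsingleton N hss)
    have hlt : Nat.card (G ⧸ N) < n := by
      rw [← hcard, Subgroup.card_eq_card_quotient_mul_card_subgroup N]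
      have : 0 < Nat.card (G ⧸ N) := Nat.card_pos
      nlinarith
    have hquot : ∀ M : Subgroup (G ⧸ N), IsCoatom M → (Nat.card M).Coprime M.index := by
      intro M hM
      have hco : IsCoatom (M.comap (QuotientGroup.mk' N)) :=
        Subgroup.isCoatom_comap_of_surjective (QuotientGroup.mk'_surjective N) hM
      have h1 := h _ hco
      rw [Subgroup.index_comap_of_surjective M (QuotientGroup.mk'_surjective N)] at h1
      have h2 : Nat.card M ∣ Nat.card (M.comap (QuotientGroup.mk' N)) := by
        have := Subgroup.card_map_dvd (H := M.comap (QuotientGroup.mk' N)) (QuotientGroup.mk' N)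
        rwa [Subgroup.map_comap_eq_self_of_surjective (QuotientGroup.mk'_surjective N)] at this
      exact Nat.Coprime.coprime_dvd_left h2 h1
    obtain ⟨p, hp, hpdvd, hpS⟩ := ih _ hlt (G ⧸ N) rfl hquot
    haveI : Fact p.Prime := ⟨hp⟩
    refine ⟨p, hp, hpdvd.trans (Subgroup.card_quotient_dvd_card N), ?_⟩
    intro P
    have hPn := hpS (P.mapSurjective (QuotientGroup.mk'_surjective N))
    rw [Sylow.coe_mapSurjective] at hPn
    haveI hQn : ((P : Subgroup G) ⊔ N).Normal := by
      have h1 : (((P : Subgroup G).map (QuotientGroup.mk' N)).comap (QuotientGroup.mk' N)).Normal :=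
        hPn.comap _
      rwa [Subgroup.comap_map_eq, QuotientGroup.ker_mk'] at h1
    have h3 := Sylow.normalizer_sup_eq_top' (N := (P : Subgroup G) ⊔ N) P le_sup_left
    have h4 : Subgroup.normalizer ((P : Subgroup G) : Set G) ⊔ frattini G = ⊤ := by
      rw [eq_top_iff, ← h3]
      refine sup_le le_sup_left (sup_le ?_ ?_)
      · exact le_trans Subgroup.le_normalizer le_sup_left
      · exact le_trans hNF le_sup_right
    have h5 := frattini_nongenerating h4
    exact Subgroup.normalizer_eq_top_iff.mp h5
  · -- N not in the Frattini subgroup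
    have hex : ∃ M : Subgroup G, IsCoatom M ∧ ¬ N ≤ M := by
      by_contra hcon
      push Not at hcon
      exact hNF (helper1.le_frattini_of_forall_coatom hcon)
    obtain ⟨M, hM, hNM⟩ := hex
    have hsup : M ⊔ N = ⊤ := by
      apply hM.2
      apply lt_of_le_of_ne le_sup_left
      intro he
      apply hNM
      rw [he]; exact le_sup_right
    have hcop := h M hM
    have hc1 := helper23.card_sup_mul_card_inf M N
    rw [hsup, Subgroup.card_top] at hc1
    have hc2 : M.index * Nat.card M = Nat.card G := Subgroup.index_mul_card M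
    have hMpos : 0 < Nat.card M := Nat.card_pos
    have hc3 : M.index * Nat.card (N ⊓ M : Subgroup G) = Nat.card N := by
      have : (M.index * Nat.card (N ⊓ M : Subgroup G)) * Nat.card M = Nat.card N * Nat.card M := by
        calc (M.index * Nat.card (N ⊓ M : Subgroup G)) * Nat.card M
            = (M.index * Nat.card M) * Nat.card (N ⊓ M : Subgroup G) := by ring
          _ = Nat.card M * Nat.card N := by rw [hc2, hc1]
          _ = Nat.card N * Nat.card M := by ring
      exact Nat.eq_of_mul_eq_mul_right hMpos this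
    have hidvd : M.index ∣ Nat.card N := ⟨_, hc3.symm⟩
    obtain ⟨a, ha⟩ := hNp.exists_card_eq
    rw [ha] at hidvd
    obtain ⟨k, hk, hkidx⟩ := (Nat.dvd_prime_pow q.2).mp hidvd
    have hk0 : k ≠ 0 := by
      intro hk0
      rw [hk0, pow_zero] at hkidx
      exact hM.1 (Subgroup.index_eq_one.mp hkidx)
    have hqM : ¬ (q : ℕ) ∣ Nat.card M := by
      intro hdvd
      rw [hkidx] at hcop
      have h1 : (q : ℕ) ∣ (q : ℕ) ^ k := dvd_pow_self _ hk0
      have := Nat.dvd_gcd hdvd h1
      rw [hcop] at this
      exact q.2.one_lt.ne' (Nat.dvd_one.mp this)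
    have hqdvd : (q : ℕ) ∣ Nat.card G := by
      have h1 : (q : ℕ) ∣ Nat.card N := by
        rw [ha]
        apply dvd_pow_self
        intro ha0
        rw [ha0, pow_zero] at ha
        omega
      exact h1.trans (Subgroup.card_subgroup_dvd_card N)
    refine ⟨q, q.2, hqdvd, ?_⟩
    intro P
    have hNP : N ≤ (P : Subgroup G) := by rw [hN]; exact helper1.pCore_le_sylow P
    have hPcard : Nat.card (P : Subgroup G) ∣ M.index := by
      have h1 : Nat.card (P : Subgroup G) ∣ M.index * Nat.card M := by
        rw [hc2]; exact Subgroup.card_subgroup_dvd_card _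
      have h2 : (Nat.card (P : Subgroup G)).Coprime (Nat.card M) := by
        obtain ⟨b, hb⟩ := P.2.exists_card_eq
        rw [hb]
        exact Nat.Coprime.pow_left _ ((Nat.Prime.coprime_iff_not_dvd q.2).mpr hqM)
      exact h2.dvd_of_dvd_mul_right h1
    have hle : Nat.card (P : Subgroup G) ≤ Nat.card N := by
      have h1 : Nat.card (P : Subgroup G) ∣ Nat.card N := hPcard.trans ⟨_, hc3.symm⟩
      exact Nat.le_of_dvd Nat.card_pos h1
    have heq : N = (P : Subgroup G) := Subgroup.eq_of_le_of_card_ge hNP hle
    rw [← heq]; exact hNn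

/-- Let G be a nontrivial finite solvable group in which every maximal subgroup has order coprime to its index. Then for some prime p dividing the order of G the Sylow p-subgroups of G are normal. -/
theorem result {G : Type*} [Group G] [Finite G] [Group.IsSolvable G] [Nontrivial G] (h : ∀ M : Subgroup G, IsCoatom M → (Nat.card M).Coprime M.index) : ∃ p : ℕ, p.Prime ∧ p ∣ Nat.card G ∧ ∀ P : Sylow p G, (P : Subgroup G).Normal := by
  exact aux _ G rfl h

end Cfsg.Agent.S0553
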