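import Cfsg.Statements.S0554
import Mathlib
import Cfsg.Agent.Lib_helper23_Hall
import Cfsg.Agent.Lib_helper1_Core

set_option autoImplicit false
open Cfsg

namespace Cfsg.Agent.S0554

open Cfsg.Agent.helper1 Cfsg.Agent.helper23

universe u

theorem absorb {G : Type*} [Group G] (N : Subgroup G) [hN : N.Normal] :
    ∀ (t : ℕ) (T : Fin t → Subgroup G) (j : Fin t), N ≤ T j →
      ∀ (s : Fin t → G), (∀ i, s i ∈ T i) → ∀ n ∈ N,
        ∃ s' : Fin t → G, (∀ i, s' i ∈ T i) ∧ (List.ofFn s).prod * n = (List.ofFn s').prod := by
  intro t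
  induction t with
  | zero => intro T j; exact j.elim0
  | succ t ih =>
    intro T j
    refine Fin.cases ?_ ?_ j
    · intro hNT s hs n hn
      set r := (List.ofFn (fun i : Fin t => s i.succ)).prod with hr
      refine ⟨Fin.cons (s 0 * (r * n * r⁻¹)) (fun i => s i.succ), ?_, ?_⟩
      · intro i
        refine Fin.cases ?_ ?_ i
        · rw [Fin.cons_zero]
          exact (T 0).mul_mem (hs 0) (hNT (hN.conj_mem n hn r))
        · intro i
          rw [Fin.cons_succ]
          exact hs i.succ
      · rw [List.ofFn_cons, List.prod_cons, List.ofFn_succ, List.prod_cons, ← hr]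
        group
    · intro j' hNT s hs n hn
      obtain ⟨s'', hs'', e⟩ := ih (fun i => T i.succ) j' hNT (fun i => s i.succ)
        (fun i => hs i.succ) n hn
      refine ⟨Fin.cons (s 0) s'', ?_, ?_⟩
      · intro i
        refine Fin.cases ?_ ?_ i
        · rw [Fin.cons_zero]; exact hs 0
        · intro i
          rw [Fin.cons_succ]; exact hs'' i
      · rw [List.ofFn_cons, List.prod_cons, List.ofFn_succ, List.prod_cons, mul_assoc, e]

theorem main (n : ℕ) : ∀ (G : Type u) [Group G] [Finite G] [Group.IsSolvable G], Nat.card G = n →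
    ∀ (t : ℕ) (p : Fin t → ℕ) (hp : ∀ i, (p i).Prime)
      (_ : ∀ q : ℕ, q.Prime → q ∣ Nat.card G → ∃ i, p i = q)
      (S : (i : Fin t) → Sylow (p i) G) (g : G),
      ∃ s : (i : Fin t) → G, (∀ i, s i ∈ (S i : Subgroup G)) ∧ g = (List.ofFn s).prod := by
  induction n using Nat.strong_induction_on with
  | _ n ih =>
    intro G _ _ _ hcard t p hp hall S g
    rcases subsingleton_or_nontrivial G with hsub | hnt
    · refine ⟨fun _ => 1, fun i => (S i : Subgroup G).one_mem, ?_⟩
      rw [Subsingleton.elim g 1]
      symm
      apply List.prod_eq_one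
      intro x hx
      rw [List.mem_ofFn] at hx
      obtain ⟨i, rfl⟩ := hx
      rfl
    · obtain ⟨q, hq, N, hNn, hNne, hNq, -⟩ := exists_abelian_normal_pgroup G
      haveI := hNn
      haveI : Fact q.Prime := ⟨hq⟩
      have hqdvd : q ∣ Nat.card G := by
        obtain ⟨k, hk⟩ := hNq.exists_card_eq
        have hk0 : k ≠ 0 := by
          rintro rfl
          rw [pow_zero] at hk
          exact hNne (Subgroup.card_eq_one.mp hk)
        exact (dvd_pow_self q hk0).trans (hk ▸ Subgroup.card_subgroup_dvd_card N)
      obtain ⟨j, hj⟩ := hall q hq hqdvd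
      have hNS : N ≤ (S j : Subgroup G) := by
        haveI : Fact (p j).Prime := ⟨hp j⟩
        have h1 : N ≤ Cfsg.pCore (p j) G := le_pCore hNn (hj ▸ hNq)
        exact h1.trans (pCore_le_sylow (S j))
      have hπ : Function.Surjective (QuotientGroup.mk' N) := QuotientGroup.mk'_surjective N
      have hlt : Nat.card (G ⧸ N) < n := by
        rw [← hcard, Subgroup.card_eq_card_quotient_mul_card_subgroup N]
        have h1 : 1 < Nat.card N := by
          rcases Nat.lt_or_ge 1 (Nat.card N) with h | h
          · exact h
          · exfalso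
            have : Nat.card N = 1 := le_antisymm h Nat.card_pos
            exact hNne (Subgroup.card_eq_one.mp this)
        have h2 : 0 < Nat.card (G ⧸ N) := Nat.card_pos
        nlinarith
      have hall' : ∀ q' : ℕ, q'.Prime → q' ∣ Nat.card (G ⧸ N) → ∃ i, p i = q' := by
        intro q' hq' hd
        exact hall q' hq' (hd.trans (Subgroup.card_quotient_dvd_card N))
      obtain ⟨sbar, hsbar, e⟩ := ih _ hlt (G ⧸ N) rfl t p hp hall'
        (fun i => by
          haveI : Fact (p i).Prime := ⟨hp i⟩
          exact (S i).mapSurjective hπ) (QuotientGroup.mk' N g)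
      have hlift : ∀ i, ∃ x ∈ (S i : Subgroup G), QuotientGroup.mk' N x = sbar i := by
        intro i
        have h0 : sbar i ∈ (S i : Subgroup G).map (QuotientGroup.mk' N) := hsbar i
        obtain ⟨x, hx, hx'⟩ := h0
        exact ⟨x, hx, hx'⟩
      choose s hs hs' using hlift
      have e2 : (List.ofFn sbar).prod = QuotientGroup.mk' N (List.ofFn s).prod := by
        rw [map_list_prod, List.map_ofFn]
        congr 1
        congr 1
        funext i
        exact (hs' i).symm
      rw [e2] at e
      have hmem : ((List.ofFn s).prod)⁻¹ * g ∈ N := by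
        have := QuotientGroup.eq.mp e.symm
        exact this
      obtain ⟨s', hs'', e3⟩ := absorb N t (fun i => (S i : Subgroup G)) j hNS s hs _ hmem
      refine ⟨s', hs'', ?_⟩
      rw [← e3]; group

/-- Let G be a finite solvable group and let S assign to each of t distinct primes, including every prime divisor of the order of G, a Sylow subgroup of G. Then every element of G is a product s_0 s_1 ⋯ s_(t-1) with s_i in S i, the factors taken in the given order. -/
theorem result {G : Type*} [Group G] [Finite G] [Group.IsSolvable G] (t : ℕ) (p : Fin t → ℕ) (hp : ∀ i, (p i).Prime) (hinj : Function.Injective p) (hall : ∀ q : ℕ, q.Prime → q ∣ Nat.card G → ∃ i, p i = q) (S : (i : Fin t) → Sylow (p i) G) : ∀ g : G, ∃ s : (i : Fin t) → G, (∀ i, s i ∈ (S i : Subgroup G)) ∧ g = (List.ofFn s).prod := by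
  exact main _ G rfl t p hp hall S

end Cfsg.Agent.S0554
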