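import Cfsg.Statements.S0555
import Mathlib

set_option autoImplicit false
open Cfsg

open scoped commutatorElement
namespace Cfsg.Agent.S0555

theorem comm_cent_cyclic {Q : Type*} [Group Q] (C : Subgroup Q) [C.Normal]
    [hc : IsCyclic ↥C] (g h : Q) :
    ∀ c ∈ C, (g * h * g⁻¹ * h⁻¹) * c = c * (g * h * g⁻¹ * h⁻¹) := by
  intro c hcC
  have hcomm : ∀ φ ψ : MulAut ↥C, φ * ψ = ψ * φ := by
    intro φ ψ
    apply (IsCyclic.mulAutMulEquiv ↥C).injective
    rw [map_mul, map_mul, mul_comm]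
  have h1 : (MulAut.conjNormal (g * h * g⁻¹ * h⁻¹) : MulAut ↥C) = 1 := by
    rw [map_mul, map_mul, map_mul, map_inv, map_inv,
      hcomm (MulAut.conjNormal g) (MulAut.conjNormal h)]
    group
  have h2 := congrArg (fun φ : MulAut ↥C => ((φ ⟨c, hcC⟩ : ↥C) : Q)) h1
  simp only [MulAut.conjNormal_apply, MulAut.one_apply] at h2
  calc (g * h * g⁻¹ * h⁻¹) * c
      = ((g * h * g⁻¹ * h⁻¹) * c * (g * h * g⁻¹ * h⁻¹)⁻¹) * (g * h * g⁻¹ * h⁻¹) := by group
    _ = c * (g * h * g⁻¹ * h⁻¹) := by rw [h2]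

theorem cyc_gen {G : Type*} [Group G] (A B : Subgroup G) [hn : (B.subgroupOf A).Normal]
    (h : IsCyclic (↥A ⧸ B.subgroupOf A)) :
    ∃ a ∈ A, ∀ x ∈ A, ∃ k : ℤ, (a ^ k)⁻¹ * x ∈ B := by
  obtain ⟨g, hg⟩ := IsCyclic.exists_generator (α := ↥A ⧸ B.subgroupOf A)
  obtain ⟨a, rfl⟩ := QuotientGroup.mk_surjective g
  refine ⟨a, a.2, ?_⟩
  intro x hx
  obtain ⟨k, hk⟩ := Subgroup.mem_zpowers_iff.mp (hg (QuotientGroup.mk (⟨x, hx⟩ : A)))
  refine ⟨k, ?_⟩
  have h1 : ((a ^ k : A) : ↥A ⧸ B.subgroupOf A) = ((⟨x, hx⟩ : A) : ↥A ⧸ B.subgroupOf A) := by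
    rw [← hk]; rfl
  have h2 := QuotientGroup.eq.mp h1
  rw [Subgroup.mem_subgroupOf] at h2
  simpa using h2

theorem main {G : Type*} [Group G] (H A B C : Subgroup G) [C.Normal] [B.Normal]
    (hA : A = ⁅H, H⁆) (hB : B = ⁅A, A⁆) (hCB : C ≤ B) (hBA : B ≤ A)
    (h₁ : ∃ a ∈ A, ∀ x ∈ A, ∃ k : ℤ, (a ^ k)⁻¹ * x ∈ B)
    (h₂ : ∃ a ∈ B, ∀ x ∈ B, ∃ k : ℤ, (a ^ k)⁻¹ * x ∈ C) : B = C := by
  classical
  refine le_antisymm ?_ hCB
  set π := QuotientGroup.mk' C with hπ
  have hπs : Function.Surjective π := QuotientGroup.mk'_surjective C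
  obtain ⟨b, hbB, hb⟩ := h₂
  obtain ⟨a₀, ha₀, ha⟩ := h₁
  have hBbar : B.map π = Subgroup.zpowers (π b) := by
    apply le_antisymm
    · rintro _ ⟨x, hx, rfl⟩
      obtain ⟨k, hk⟩ := hb x hx
      rw [Subgroup.mem_zpowers_iff]
      refine ⟨k, ?_⟩
      have : π ((b ^ k)⁻¹ * x) = 1 := by
        rw [hπ, QuotientGroup.mk'_apply, QuotientGroup.eq_one_iff]; exact hk
      rw [map_mul, map_inv, map_zpow] at this
      rw [← mul_one (π b ^ k), ← this]; group
    · rw [Subgroup.zpowers_le]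
      exact Subgroup.mem_map_of_mem _ hbB
  haveI hnB : (B.map π).Normal := Subgroup.Normal.map inferInstance π hπs
  haveI hcB : IsCyclic ↥(B.map π) := by
    rw [hBbar]; infer_instance
  have hcent : A.map π ≤ Subgroup.centralizer ((B.map π : Subgroup (G ⧸ C)) : Set (G ⧸ C)) := by
    rw [hA, Subgroup.map_commutator, Subgroup.commutator_le]
    intro g _ h _
    rw [Subgroup.mem_centralizer_iff]
    intro c hc
    have := comm_cent_cyclic (B.map π) g h c hc
    rw [commutatorElement_def]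
    exact this.symm
  have hcomm : ∀ x ∈ A, ∀ y ∈ B, Commute (π y) (π x) := by
    intro x hx y hy
    have := hcent (Subgroup.mem_map_of_mem π hx)
    rw [Subgroup.mem_centralizer_iff] at this
    exact this (π y) (Subgroup.mem_map_of_mem π hy)
  rw [hB, Subgroup.commutator_le]
  intro x hx x' hx'
  obtain ⟨k, hk⟩ := ha x hx
  obtain ⟨k', hk'⟩ := ha x' hx'
  have ea : ∀ n : ℤ, a₀ ^ n ∈ A := fun n => A.zpow_mem ha₀ n
  have hx1 : π x = π a₀ ^ k * π ((a₀ ^ k)⁻¹ * x) := by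
    rw [← map_zpow, ← map_mul]; congr 1; group
  have hx2 : π x' = π a₀ ^ k' * π ((a₀ ^ k')⁻¹ * x') := by
    rw [← map_zpow, ← map_mul]; congr 1; group
  have c1 : Commute (π ((a₀ ^ k)⁻¹ * x)) (π x') := hcomm x' hx' _ hk
  have c2 : Commute (π a₀ ^ k) (π x') := by
    rw [hx2]
    refine Commute.mul_right ((Commute.refl _).zpow_zpow k k') ?_
    rw [← map_zpow]
    exact (hcomm _ (ea k) _ hk').symm
  have c3 : Commute (π x) (π x') := by
    rw [hx1]; exact Commute.mul_left c2 c1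
  have : π ⁅x, x'⁆ = 1 := by
    rw [commutatorElement_def, map_mul, map_mul, map_mul, map_inv, map_inv, c3.eq]
    group
  rwa [hπ, QuotientGroup.mk'_apply, QuotientGroup.eq_one_iff] at this

/-- Let i ≥ 1. If in the derived series of a group the quotient of the i-th term by the (i+1)-st and the quotient of the (i+1)-st by the (i+2)-nd are both cyclic, then the (i+1)-st and (i+2)-nd terms coincide. -/
theorem result {G : Type*} [Group G] (i : ℕ) (hi : 1 ≤ i) (h₁ : IsCyclic (↥(derivedSeries G i) ⧸ (derivedSeries G (i + 1)).subgroupOf (derivedSeries G i))) (h₂ : IsCyclic (↥(derivedSeries G (i + 1)) ⧸ (derivedSeries G (i + 2)).subgroupOf (derivedSeries G (i + 1)))) : derivedSeries G (i + 1) = derivedSeries G (i + 2) := by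
  obtain ⟨j, rfl⟩ : ∃ j, i = j + 1 := ⟨i - 1, by omega⟩
  have e1 := cyc_gen _ _ h₁
  have e2 := cyc_gen _ _ h₂
  exact main (derivedSeries G j) (derivedSeries G (j + 1)) (derivedSeries G (j + 1 + 1))
    (derivedSeries G (j + 1 + 2)) (derivedSeries_succ G j) (derivedSeries_succ G (j + 1))
    (derivedSeries_antitone G (by omega)) (derivedSeries_antitone G (by omega)) e1 e2

end Cfsg.Agent.S0555
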