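import Cfsg.Statements.S0557
import Cfsg.Agent.S0080
import Cfsg.Agent.Lib_helper23_Hall
import Cfsg.Agent.Lib_lead_SZ

set_option autoImplicit false
set_option linter.style.haveILetI false
open Cfsg

namespace Cfsg.Agent.S0557

open scoped commutatorElement
open Cfsg.Agent.lead

universe u

theorem focal_mono {G : Type*} [Group G] {H L : Subgroup G} (h : H ≤ L) :
    H.focalSubgroup ≤ L.focalSubgroup := by
  rw [Subgroup.focalSubgroup_def, Subgroup.focalSubgroup_def]
  apply Subgroup.closure_mono
  rintro g ⟨hg, x, hx, u, rfl⟩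
  exact ⟨h hg, x, h hx, u, rfl⟩

theorem map_focal_le {G : Type*} [Group G] (N : Subgroup G) (K : Subgroup N) :
    (K.focalSubgroup).map N.subtype ≤ (K.map N.subtype).focalSubgroup := by
  rw [Subgroup.focalSubgroup_def, MonoidHom.map_closure, Subgroup.closure_le]
  rintro _ ⟨g, ⟨hg, x, hx, u, rfl⟩, rfl⟩
  apply Subgroup.subset_closure
  refine ⟨⟨_, hg, rfl⟩, (x : G), ⟨x, hx, rfl⟩, (u : G), ?_⟩
  simp [commutatorElement_def]

theorem map_iterate_le {G : Type*} [Group G] (N : Subgroup G) (K : Subgroup N) (i : ℕ) :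
    (((fun K : Subgroup N => K.focalSubgroup)^[i]) K).map N.subtype ≤
      ((fun K : Subgroup G => K.focalSubgroup)^[i]) (K.map N.subtype) := by
  induction i with
  | zero => simp
  | succ i ih =>
    rw [Function.iterate_succ_apply', Function.iterate_succ_apply']
    exact (map_focal_le N _).trans (focal_mono ih)

theorem mem_of_coprime_index {Γ : Type*} [Group Γ] [Finite Γ] (M : Subgroup Γ) [M.Normal] (x : Γ)
    (h : (orderOf x).Coprime M.index) : x ∈ M := by
  have h1 : orderOf (QuotientGroup.mk' M x) ∣ orderOf x := orderOf_map_dvd _ _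
  have h2 : orderOf (QuotientGroup.mk' M x) ∣ M.index := by
    rw [Subgroup.index_eq_card]; exact orderOf_dvd_natCard _
  have h3 : orderOf (QuotientGroup.mk' M x) = 1 := Nat.eq_one_of_dvd_coprimes h h1 h2
  rw [orderOf_eq_one_iff] at h3
  exact (QuotientGroup.eq_one_iff x).mp h3

theorem aux : ∀ n : ℕ, ∀ (G : Type u) [Group G] [Finite G] (H : Subgroup G),
    (Nat.card H).Coprime H.index → ((fun K : Subgroup G => K.focalSubgroup)^[n]) H = ⊥ →
    ∃ N : Subgroup G, N.Normal ∧ Subgroup.IsComplement' N H := by
  intro n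
  induction n with
  | zero =>
    intro G _ _ H _ hH
    simp only [Function.iterate_zero, id_eq] at hH
    subst hH
    exact ⟨⊤, inferInstance, Subgroup.isComplement'_top_bot⟩
  | succ n ih =>
    intro G _ _ H hHall hfoc
    rw [Function.iterate_succ_apply] at hfoc
    have hcop : Nat.Coprime H.index (⁅H, H⁆.relIndex H) :=
      (hHall.coprime_dvd_left (Subgroup.relIndex_dvd_card _ _)).symm
    obtain ⟨hfocal, N₁, hN₁n, hN₁H, hN₁sup⟩ := Cfsg.Agent.S0080.result H hcop
    haveI := hN₁n
    obtain ⟨H₁, hH₁⟩ : ∃ H₁, H₁ = H.focalSubgroup := ⟨_, rfl⟩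
    rw [← hH₁] at hfoc hfocal
    have hH₁N : H₁ ≤ N₁ := by rw [hfocal, ← hN₁H]; exact inf_le_left
    have hH₁H : H₁ ≤ H := by rw [hH₁]; exact Subgroup.focalSubgroup_le H
    have hmap : (H₁.subgroupOf N₁).map N₁.subtype = H₁ := Subgroup.map_subgroupOf_eq_of_le hH₁N
    have hcard' : Nat.card (H₁.subgroupOf N₁) = Nat.card H₁ := card_subgroupOf_of_le hH₁N
    have hidx : (H₁.subgroupOf N₁).index = H.index := by
      have e1 : (H₁.subgroupOf N₁).index * Nat.card (H₁.subgroupOf N₁) = Nat.card N₁ :=
        Subgroup.index_mul_card _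
      have e2 := Cfsg.Agent.helper23.card_sup_mul_card_inf H N₁
      rw [sup_comm, hN₁sup, hN₁H, ← hfocal, Subgroup.card_top] at e2
      have e3 : H.index * Nat.card H = Nat.card G := Subgroup.index_mul_card _
      rw [hcard'] at e1
      have hpos : 0 < Nat.card H₁ := Nat.card_pos
      have hposH : 0 < Nat.card H := Nat.card_pos
      have e4 : Nat.card G * Nat.card H₁ =
          (Nat.card H * (H₁.subgroupOf N₁).index) * Nat.card H₁ := by
        rw [e2, ← e1]; ring
      have e5 : Nat.card G = Nat.card H * (H₁.subgroupOf N₁).index :=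
        Nat.eq_of_mul_eq_mul_right hpos e4
      rw [← e3, mul_comm] at e5
      exact (Nat.eq_of_mul_eq_mul_left hposH e5).symm
    have hHall' : (Nat.card (H₁.subgroupOf N₁)).Coprime (H₁.subgroupOf N₁).index := by
      rw [hidx, hcard']
      exact hHall.coprime_dvd_left (Subgroup.card_dvd_of_le hH₁H)
    have hfoc' : ((fun K : Subgroup N₁ => K.focalSubgroup)^[n]) (H₁.subgroupOf N₁) = ⊥ := by
      have := map_iterate_le N₁ (H₁.subgroupOf N₁) n
      rw [hmap, hfoc, le_bot_iff] at this
      exact (Subgroup.map_eq_bot_iff_of_injective _ N₁.subtype_injective).mp this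
    obtain ⟨M, hMn, hMc⟩ := ih N₁ (H₁.subgroupOf N₁) hHall' hfoc'
    haveI := hMn
    have hMcard : Nat.card M = H.index := by rw [← hidx]; exact hMc.index_eq_card.symm
    have hMidx : M.index = Nat.card H₁ := by rw [← hcard']; exact hMc.symm.index_eq_card
    have hcopM : (Nat.card M).Coprime M.index := by
      rw [hMcard, hMidx]
      exact (hHall.coprime_dvd_left (Subgroup.card_dvd_of_le hH₁H)).symm
    refine ⟨M.map N₁.subtype, ?_, ?_⟩
    · constructor
      rintro _ ⟨m, hm, rfl⟩ g
      have h1 : g * (m : G) * g⁻¹ ∈ N₁ := hN₁n.conj_mem _ m.2 g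
      have h2 : orderOf (⟨g * (m : G) * g⁻¹, h1⟩ : N₁) = orderOf m := by
        rw [← Subgroup.orderOf_coe, ← Subgroup.orderOf_coe m]
        have := orderOf_injective (MulAut.conj g).toMonoidHom (MulAut.conj g).injective (m : G)
        simpa [MulAut.conj_apply] using this
      have h3 : (orderOf (⟨g * (m : G) * g⁻¹, h1⟩ : N₁)).Coprime M.index := by
        rw [h2]
        have h4 : orderOf m ∣ Nat.card M := by
          have := orderOf_dvd_natCard (⟨m, hm⟩ : M)
          rwa [Subgroup.orderOf_mk] at this
        exact hcopM.coprime_dvd_left h4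
      have h5 := mem_of_coprime_index M _ h3
      exact ⟨_, h5, rfl⟩
    · have hNcard : Nat.card (M.map N₁.subtype) = H.index := by
        rw [Subgroup.card_map_of_injective N₁.subtype_injective, hMcard]
      apply Subgroup.isComplement'_of_card_mul_and_disjoint
      · rw [hNcard]; exact Subgroup.index_mul_card H
      · apply Subgroup.disjoint_of_coprime_natCard
        rw [hNcard]; exact hHall.symm

/-- Let H be a subgroup of a finite group G with order coprime to its index. If iterating the focal-subgroup construction starting from H reaches the trivial subgroup after finitely many steps, then H has a normal complement in G. -/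
theorem result {G : Type*} [Group G] [Finite G] (H : Subgroup G) (hHall : (Nat.card H).Coprime H.index) (n : ℕ) (hfoc : (fun K : Subgroup G => Subgroup.focalSubgroup K)^[n] H = ⊥) : ∃ N : Subgroup G, N.Normal ∧ Subgroup.IsComplement' N H :=
  aux n G H hHall hfoc

end Cfsg.Agent.S0557
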