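import Cfsg.Statements.S0559
import Mathlib.Tactic

set_option autoImplicit false
open Cfsg

namespace Cfsg.Agent.S0559

open scoped Pointwise

theorem result {G : Type*} [Group G] [Finite G] (H K A B : Subgroup G) (hHK : ∀ g : G, ∃ h ∈ H, ∃ k ∈ K, g = h * k) (hA : ∃ x : G, A = MulAut.conj x • H) (hB : ∃ y : G, B = MulAut.conj y • K) : (∀ g : G, ∃ a ∈ A, ∃ b ∈ B, g = a * b) ∧ ∃ g : G, A = MulAut.conj g • H ∧ B = MulAut.conj g • K := by
  obtain ⟨x, rfl⟩ := hA
  obtain ⟨y, rfl⟩ := hB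
  obtain ⟨h, hh, k, hk, hxy⟩ := hHK (x⁻¹ * y)
  have hA' : MulAut.conj x • H = MulAut.conj (x * h) • H := by
    rw [map_mul, mul_smul, Subgroup.conj_smul_eq_self_of_mem hh]
  have hB' : MulAut.conj y • K = MulAut.conj (x * h) • K := by
    have hy : y = (x * h) * k := by
      have : y = x * (x⁻¹ * y) := by group
      rw [this, hxy]; group
    rw [hy, map_mul, mul_smul, Subgroup.conj_smul_eq_self_of_mem hk]
  refine ⟨?_, x * h, hA', hB'⟩
  intro g
  rw [hA', hB']
  set c := x * h with hc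
  obtain ⟨h', hh', k', hk', hg⟩ := hHK (c⁻¹ * g * c)
  refine ⟨c * h' * c⁻¹, ?_, c * k' * c⁻¹, ?_, ?_⟩
  · have := Subgroup.smul_mem_pointwise_smul h' (MulAut.conj c) H hh'
    simpa [MulAut.smul_def] using this
  · have := Subgroup.smul_mem_pointwise_smul k' (MulAut.conj c) K hk'
    simpa [MulAut.smul_def] using this
  · have : c * h' * c⁻¹ * (c * k' * c⁻¹) = c * (h' * k') * c⁻¹ := by group
    rw [this, ← hg]; group

end Cfsg.Agent.S0559
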