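import Cfsg.Statements.S0563
import Mathlib
import Cfsg.Agent.H16KW6

set_option autoImplicit false
set_option linter.style.haveILetI false
open Pointwise
open Cfsg

namespace Cfsg.Agent.S0563

open Cfsg.Agent.H16KW Cfsg.Agent.helper23

theorem hall_aux {G : Type*} [Group G] [Finite G] {A B : Subgroup G} (c : Cfg A B) (p : ℕ)
    [hp : Fact p.Prime] (P : Sylow p A) :
    A ≤ Subgroup.normalizer ((((P : Subgroup A).map A.subtype : Subgroup G)) : Set G) ∧
    (Nat.card ((P : Subgroup A).map A.subtype : Subgroup G)).Coprime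
      ((P : Subgroup A).map A.subtype : Subgroup G).index := by
  haveI := c.nilH
  haveI hn : (P : Subgroup A).Normal := inferInstance
  have hle : (P : Subgroup A).map A.subtype ≤ A := Subgroup.map_subtype_le _
  have hsub : ((P : Subgroup A).map A.subtype).subgroupOf A = (P : Subgroup A) :=
    Subgroup.comap_map_eq_self_of_injective A.subtype_injective _
  constructor
  · rw [← Subgroup.normal_subgroupOf_iff_le_normalizer hle, hsub]
    exact hn
  · rw [Subgroup.card_map_of_injective A.subtype_injective, Subgroup.index_map_subtype,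
      c.index_left]
    obtain ⟨k, hk⟩ := IsPGroup.iff_card.1 P.isPGroup'
    rw [hk]
    by_cases hk0 : k = 0
    · rw [hk0, pow_zero]; exact Nat.coprime_one_left _
    · apply Nat.Coprime.pow_left
      rw [Nat.Prime.coprime_iff_not_dvd hp.out]
      intro h1
      rcases (Nat.Prime.dvd_mul hp.out).1 h1 with h2 | h2
      · exact P.not_dvd_index h2
      · have h3 : p ∣ Nat.card A := by
          have : p ∣ Nat.card (P : Subgroup A) := by rw [hk]; exact dvd_pow_self p hk0
          exact this.trans (Subgroup.card_subgroup_dvd_card _)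
        exact c.not_dvd_right hp.out h3 h2

/-- If a finite group G is the product AB of two nilpotent subgroups of coprime orders, then G is solvable, and for every Sylow p-subgroup P of A and Sylow q-subgroup Q of B the product set PQ is a subgroup. -/
theorem result {G : Type*} [Group G] [Finite G] (A B : Subgroup G) (hA : Group.IsNilpotent A) (hB : Group.IsNilpotent B) (hcop : (Nat.card A).Coprime (Nat.card B)) (hAB : ∀ g : G, ∃ a ∈ A, ∃ b ∈ B, g = a * b) : Group.IsSolvable G ∧ ∀ (p q : ℕ) [Fact p.Prime] [Fact q.Prime] (P : Sylow p A) (Q : Sylow q B), ∃ S : Subgroup G, (S : Set G) = (((P : Subgroup A).map A.subtype : Subgroup G) : Set G) * (((Q : Subgroup B).map B.subtype : Subgroup G) : Set G) := by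
  have c : Cfg A B := ⟨hA, hB, hcop, hAB⟩
  have hsolv : Group.IsSolvable G := wielandt_solvable _ G A B c rfl
  refine ⟨hsolv, ?_⟩
  intro p q _ _ P Q
  haveI := hsolv
  obtain ⟨h1, h2⟩ := hall_aux c p P
  obtain ⟨h3, h4⟩ := hall_aux c.symm q Q
  obtain ⟨S, hS⟩ := prod_normal_hall_isSubgroup A B _ _ hAB h1 h3 h2 h4 1 1
  rw [conj_one_smul, conj_one_smul] at hS
  exact ⟨S, hS⟩

end Cfsg.Agent.S0563
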