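import Cfsg.Statements.S0567
import Mathlib

set_option autoImplicit false
open Cfsg

open scoped commutatorElement
namespace Cfsg.Agent.S0567

theorem le_normalizer_of_conj_mem {G : Type*} [Group G] (K D : Subgroup G)
    (h : ∀ k ∈ K, ∀ d ∈ D, k * d * k⁻¹ ∈ D) : K ≤ Subgroup.normalizer (D : Set G) := by
  intro k hk
  rw [Subgroup.mem_normalizer_iff]
  intro d
  constructor
  · exact h k hk d
  · intro hd
    have := h k⁻¹ (K.inv_mem hk) _ hd
    have e : k⁻¹ * (k * d * k⁻¹) * k⁻¹⁻¹ = d := by group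
    rwa [e] at this

/-- `H ⊔ [K,H]` is normalized by `H ⊔ K`. -/
theorem sup_le_normalizer {G : Type*} [Group G] (H K : Subgroup G) :
    H ⊔ K ≤ Subgroup.normalizer ((H ⊔ ⁅K, H⁆ : Subgroup G) : Set G) := by
  apply sup_le
  · exact le_trans le_sup_left Subgroup.le_normalizer
  · apply le_normalizer_of_conj_mem
    intro k hk d hd
    have h1 : (H ⊔ ⁅K, H⁆).map (MulAut.conj k : G →* G) ≤ H ⊔ ⁅K, H⁆ := by
      rw [Subgroup.map_sup]
      apply sup_le
      · rintro _ ⟨h, hh, rfl⟩
        show MulAut.conj k h ∈ H ⊔ ⁅K, H⁆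
        rw [conj_eq_commutatorElement_mul]
        exact Subgroup.mul_mem _
          ((le_sup_right : ⁅K, H⁆ ≤ H ⊔ ⁅K, H⁆) (Subgroup.commutator_mem_commutator hk hh))
          ((le_sup_left : H ≤ H ⊔ ⁅K, H⁆) hh)
      · have hkN : k ∈ Subgroup.normalizer ((⁅K, H⁆ : Subgroup G) : Set G) :=
          Subgroup.normalizer_commutator_ge_left K H hk
        rw [Subgroup.mem_normalizer_iff_map_conj_eq.mp hkN]
        exact le_sup_right
    have h2 : MulAut.conj k d ∈ (H ⊔ ⁅K, H⁆).map (MulAut.conj k : G →* G) := ⟨d, hd, rfl⟩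
    have h3 := h1 h2
    rwa [MulAut.conj_apply] at h3

theorem iterate_mono {G : Type*} [Group G] {H K : Subgroup G} (hHK : H ≤ K) (m : ℕ) :
    (fun L : Subgroup G => ⁅L, H⁆)^[m] ⊤ ≤ (fun L : Subgroup G => ⁅L, K⁆)^[m] ⊤ := by
  induction m with
  | zero => exact le_rfl
  | succ m ih =>
    rw [Function.iterate_succ_apply', Function.iterate_succ_apply']
    exact Subgroup.commutator_mono ih hHK

theorem subnormal_chain {G : Type*} [Group G] (H : Subgroup G) (j : ℕ) :
    (H ⊔ (fun L : Subgroup G => ⁅L, H⁆)^[j] ⊤).IsSubnormal := by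
  induction j with
  | zero =>
    have : H ⊔ (fun L : Subgroup G => ⁅L, H⁆)^[0] ⊤ = ⊤ := by
      rw [Function.iterate_zero, id_eq, sup_top_eq]
    rw [this]
    exact Subgroup.IsSubnormal.top
  | succ j ih =>
    rw [Function.iterate_succ_apply']
    have hle : H ⊔ ⁅(fun L : Subgroup G => ⁅L, H⁆)^[j] ⊤, H⁆ ≤
        H ⊔ (fun L : Subgroup G => ⁅L, H⁆)^[j] ⊤ := by
      apply sup_le le_sup_left
      rw [sup_comm H]
      exact Subgroup.commutator_le_sup _ _
    exact Subgroup.IsSubnormal.step _ _ hle ih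
      (Subgroup.normal_subgroupOf_of_le_normalizer (sup_le_normalizer H _))


/-- A subgroup H of a group G is subnormal exactly when, for some m, the subgroup obtained from G by taking the commutator with H m times in succession is contained in H. -/
theorem result {G : Type*} [Group G] (H : Subgroup G) : H.IsSubnormal ↔ ∃ m : ℕ, (fun K : Subgroup G => ⁅K, H⁆)^[m] ⊤ ≤ H := by
  constructor
  · intro hH
    induction hH with
    | top => exact ⟨0, le_rfl⟩
    | step H K hle _ hN ih =>
      obtain ⟨m, hm⟩ := ih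
      refine ⟨m + 1, ?_⟩
      rw [Function.iterate_succ_apply']
      have h1 : (fun L : Subgroup G => ⁅L, H⁆)^[m] ⊤ ≤ K := (iterate_mono hle m).trans hm
      refine (Subgroup.commutator_mono h1 le_rfl).trans ?_
      rw [Subgroup.commutator_le]
      intro k hk h hh
      have h2 : (⟨k, hk⟩ : K) * ⟨h, hle hh⟩ * (⟨k, hk⟩ : K)⁻¹ ∈ H.subgroupOf K :=
        hN.conj_mem _ (Subgroup.mem_subgroupOf.mpr hh) _
      rw [Subgroup.mem_subgroupOf] at h2
      rw [commutatorElement_def]
      exact H.mul_mem h2 (H.inv_mem hh)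
  · rintro ⟨m, hm⟩
    have h := subnormal_chain H m
    rwa [sup_eq_left.mpr hm] at h

end Cfsg.Agent.S0567
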