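import Cfsg.Statements.S0569
import Cfsg.Agent.Lib_helper23_SysCarter

set_option autoImplicit false
open Cfsg

namespace Cfsg.Agent.S0569

/-- In a finite solvable group: each nilpotent self-normalizing subgroup contains the system normalizer of some Hall complement system, and the system normalizer of any Hall complement system lies in some nilpotent self-normalizing subgroup. -/
theorem result {G : Type*} [Group G] [Finite G] [Group.IsSolvable G] : (∀ C : Subgroup G, Cfsg.IsCarterSubgroup C → ∃ K : Nat.Primes → Subgroup G, Cfsg.IsComplementSystem K ∧ Cfsg.systemNormalizer K ≤ C) ∧ ∀ K : Nat.Primes → Subgroup G, Cfsg.IsComplementSystem K → ∃ C : Subgroup G, Cfsg.IsCarterSubgroup C ∧ Cfsg.systemNormalizer K ≤ C := by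
  classical
  constructor
  · intro C hC
    obtain ⟨K0, hK0⟩ := helper23.exists_complementSystem (G := G)
    obtain ⟨C0, hC0, -, hle⟩ := helper23.sysNorm_le_carter_aux _ G rfl K0 hK0
    obtain ⟨g, hg⟩ := (helper23.carter (G := G)).2 _ _ hC0 hC
    obtain ⟨h1, h2⟩ := helper23.systemNormalizer_conj K0 hK0 g
    refine ⟨_, h1, ?_⟩
    rw [h2, ← hg]
    intro x hx
    rw [helper3.mem_conj_smul_iff] at hx ⊢
    exact hle hx
  · intro K hK
    obtain ⟨C, hC, -, hle⟩ := helper23.sysNorm_le_carter_aux _ G rfl K hK
    exact ⟨C, hC, hle⟩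

end Cfsg.Agent.S0569
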