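import Cfsg.Statements.S0570
import Cfsg.Agent.Lib_helper23_NilLen2

set_option autoImplicit false
open Cfsg

namespace Cfsg.Agent.S0570

/-- Let G be a finite group with a nilpotent normal subgroup F such that G modulo F is nilpotent (nilpotent length at most two). Then a subgroup of G is a Carter subgroup if and only if it is the system normalizer of some Hall complement system. -/
theorem result {G : Type*} [Group G] [Finite G] (F : Subgroup G) [F.Normal] (hF : Group.IsNilpotent F) (hGF : Group.IsNilpotent (G ⧸ F)) (C : Subgroup G) : Cfsg.IsCarterSubgroup C ↔ ∃ K : Nat.Primes → Subgroup G, Cfsg.IsComplementSystem K ∧ C = Cfsg.systemNormalizer K := by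
  classical
  haveI hsolv : Group.IsSolvable G := helper23.solvable_of_nilpotent_by_nilpotent F hF hGF
  constructor
  · intro hC
    obtain ⟨K0, hK0⟩ := helper23.exists_complementSystem (G := G)
    have hD0 := helper23.isCarter_systemNormalizer F hF hGF K0 hK0
    obtain ⟨g, hg⟩ := (helper23.carter (G := G)).2 _ _ hD0 hC
    obtain ⟨h1, h2⟩ := helper23.systemNormalizer_conj K0 hK0 g
    exact ⟨_, h1, by rw [h2, hg]⟩
  · rintro ⟨K, hK, rfl⟩
    exact helper23.isCarter_systemNormalizer F hF hGF K hK

end Cfsg.Agent.S0570
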