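import Cfsg.Statements.S0573
import Mathlib
import Cfsg.Agent.S3807

set_option autoImplicit false
set_option linter.style.haveILetI false
set_option linter.unusedSectionVars false
open Cfsg
open scoped commutatorElement

namespace Cfsg.Agent.S0573

section
variable {G : Type*} [Group G]

theorem comm_mul_left_of_comm {x y z : G} (h : y * z = z * y) : ⁅x * y, z⁆ = ⁅x, z⁆ := by
  rw [commutatorElement_def, commutatorElement_def]
  have e : x * y * z * (x * y)⁻¹ * z⁻¹ = x * (y * z) * y⁻¹ * x⁻¹ * z⁻¹ := by group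
  rw [e, h]; group

theorem comm_mul_right_of_comm {x y z : G} (h : x * z = z * x) : ⁅x, y * z⁆ = ⁅x, y⁆ := by
  rw [commutatorElement_def, commutatorElement_def]
  have h' : z * x⁻¹ = x⁻¹ * z := by
    have e : z * x⁻¹ = x⁻¹ * (x * z) * x⁻¹ := by group
    rw [e, h]; group
  have e : x * (y * z) * x⁻¹ * (y * z)⁻¹ = x * y * (z * x⁻¹) * z⁻¹ * y⁻¹ := by group
  rw [e, h']; group

theorem conj_comm (g x y : G) : g * ⁅x, y⁆ * g⁻¹ = ⁅g * x * g⁻¹, g * y * g⁻¹⁆ := by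
  rw [commutatorElement_def, commutatorElement_def]; group

theorem conj_eq_of_comm {g x : G} (h : g * x = x * g) : g * x * g⁻¹ = x := by
  rw [h]; group

/-- Core of Itô's theorem. -/
theorem ito_conj (A B : Subgroup G) (hA : ∀ x ∈ A, ∀ y ∈ A, x * y = y * x)
    (hB : ∀ x ∈ B, ∀ y ∈ B, x * y = y * x)
    (hAB : ∀ g : G, ∃ a ∈ A, ∃ b ∈ B, g = a * b) (hBA : ∀ g : G, ∃ b ∈ B, ∃ a ∈ A, g = b * a)
    {a a₁ b b₁ : G} (ha : a ∈ A) (ha₁ : a₁ ∈ A) (hb : b ∈ B) (hb₁ : b₁ ∈ B) :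
    (a₁ * b₁) * ⁅a, b⁆ * (a₁ * b₁)⁻¹ = (b₁ * a₁) * ⁅a, b⁆ * (b₁ * a₁)⁻¹ := by
  obtain ⟨a₃, ha₃, b₃, hb₃, h3⟩ := hAB (b₁ * a * b₁⁻¹)
  obtain ⟨b₂, hb₂, a₂, ha₂, h2⟩ := hBA (a₁ * b * a₁⁻¹)
  have L : (a₁ * b₁) * ⁅a, b⁆ * (a₁ * b₁)⁻¹ = ⁅a₃, b₂⁆ := by
    have e1 : (a₁ * b₁) * ⁅a, b⁆ * (a₁ * b₁)⁻¹ = a₁ * (b₁ * ⁅a, b⁆ * b₁⁻¹) * a₁⁻¹ := by group
    rw [e1, conj_comm b₁ a b, conj_eq_of_comm (hB b₁ hb₁ b hb), h3,
      comm_mul_left_of_comm (hB b₃ hb₃ b hb), conj_comm a₁ a₃ b,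
      conj_eq_of_comm (hA a₁ ha₁ a₃ ha₃), h2, comm_mul_right_of_comm (hA a₃ ha₃ a₂ ha₂)]
  have R : (b₁ * a₁) * ⁅a, b⁆ * (b₁ * a₁)⁻¹ = ⁅a₃, b₂⁆ := by
    have e1 : (b₁ * a₁) * ⁅a, b⁆ * (b₁ * a₁)⁻¹ = b₁ * (a₁ * ⁅a, b⁆ * a₁⁻¹) * b₁⁻¹ := by group
    rw [e1, conj_comm a₁ a b, conj_eq_of_comm (hA a₁ ha₁ a ha), h2,
      comm_mul_right_of_comm (hA a ha a₂ ha₂), conj_comm b₁ a b₂,
      conj_eq_of_comm (hB b₁ hb₁ b₂ hb₂), h3, comm_mul_left_of_comm (hB b₃ hb₃ b₂ hb₂)]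
  rw [L, R]

theorem ito_gen_comm (A B : Subgroup G) (hA : ∀ x ∈ A, ∀ y ∈ A, x * y = y * x)
    (hB : ∀ x ∈ B, ∀ y ∈ B, x * y = y * x)
    (hAB : ∀ g : G, ∃ a ∈ A, ∃ b ∈ B, g = a * b) (hBA : ∀ g : G, ∃ b ∈ B, ∃ a ∈ A, g = b * a)
    {a a₁ b b₁ : G} (ha : a ∈ A) (ha₁ : a₁ ∈ A) (hb : b ∈ B) (hb₁ : b₁ ∈ B) :
    ⁅a₁, b₁⁆ * ⁅a, b⁆ = ⁅a, b⁆ * ⁅a₁, b₁⁆ := by
  have h := ito_conj A B hA hB hAB hBA ha (A.inv_mem ha₁) hb (B.inv_mem hb₁)
  generalize ⁅a, b⁆ = c at h ⊢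
  have e : ⁅a₁, b₁⁆ * c =
      (b₁⁻¹ * a₁⁻¹)⁻¹ * ((a₁⁻¹ * b₁⁻¹) * c * (a₁⁻¹ * b₁⁻¹)⁻¹) * (a₁⁻¹ * b₁⁻¹) := by
    rw [commutatorElement_def]; group
  rw [e, h, commutatorElement_def]; group

/-- Itô: the commutator subgroup `⁅A, B⁆` is abelian. -/
theorem ito_abelian (A B : Subgroup G) (hA : ∀ x ∈ A, ∀ y ∈ A, x * y = y * x)
    (hB : ∀ x ∈ B, ∀ y ∈ B, x * y = y * x)
    (hAB : ∀ g : G, ∃ a ∈ A, ∃ b ∈ B, g = a * b) (hBA : ∀ g : G, ∃ b ∈ B, ∃ a ∈ A, g = b * a) :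
    ∀ x ∈ ⁅A, B⁆, ∀ y ∈ ⁅A, B⁆, x * y = y * x := by
  have hS : ∀ s ∈ {g | ∃ g₁ ∈ A, ∃ g₂ ∈ B, ⁅g₁, g₂⁆ = g}, ∀ t ∈ {g | ∃ g₁ ∈ A, ∃ g₂ ∈ B, ⁅g₁, g₂⁆ = g},
      s * t = t * s := by
    rintro _ ⟨a₁, ha₁, b₁, hb₁, rfl⟩ _ ⟨a, ha, b, hb, rfl⟩
    exact ito_gen_comm A B hA hB hAB hBA ha ha₁ hb hb₁
  have h1 : ⁅A, B⁆ ≤ Subgroup.centralizer {g | ∃ g₁ ∈ A, ∃ g₂ ∈ B, ⁅g₁, g₂⁆ = g} := by
    rw [Subgroup.commutator_def, Subgroup.closure_le]
    intro s hs
    rw [SetLike.mem_coe, Subgroup.mem_centralizer_iff]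
    intro t ht
    exact hS t ht s hs
  have h2 : ⁅A, B⁆ ≤ Subgroup.centralizer ((⁅A, B⁆ : Subgroup G) : Set G) := by
    rw [Subgroup.commutator_def, Subgroup.closure_le]
    intro s hs
    rw [SetLike.mem_coe, Subgroup.mem_centralizer_iff]
    intro t ht
    have := h1 (by rw [Subgroup.commutator_def]; exact ht)
    rw [Subgroup.mem_centralizer_iff] at this
    exact (this s hs).symm
  intro x hx y hy
  have := h2 hy
  rw [Subgroup.mem_centralizer_iff] at this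
  exact this x hx

end

section
variable {G : Type*} [Group G] [Finite G]

/-- A `q`-subgroup acting with a fixed-point-free element on a group of order divisible by `q`:
impossible. -/
theorem pgroup_le_centralizer {q : ℕ} [hq : Fact q.Prime] (N : Subgroup G) [hN : N.Normal]
    (hqN : q ∣ Nat.card N)
    (hfpf : ∀ g : G, g ∉ Subgroup.centralizer (N : Set G) → ∀ n ∈ N, g * n = n * g → n = 1)
    (Q : Subgroup G) (hQ : IsPGroup q Q) : Q ≤ Subgroup.centralizer (N : Set G) := by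
  by_contra hle
  obtain ⟨g₀, hg₀Q, hg₀⟩ := SetLike.not_le_iff_exists.mp hle
  letI : MulAction ↥Q ↥N :=
    MulAction.compHom ↥N ((MulAut.conjNormal (H := N)).comp Q.subtype)
  have hsmul : ∀ (g : ↥Q) (n : ↥N), ((g • n : ↥N) : G) = (g : G) * n * (g : G)⁻¹ :=
    fun g n => MulAut.conjNormal_apply (g : G) n
  have h1 := hQ.card_modEq_card_fixedPoints ↥N
  have h2 : Nat.card (MulAction.fixedPoints ↥Q ↥N) = 1 := by
    rw [Nat.card_eq_one_iff_unique]
    refine ⟨⟨fun x y => ?_⟩, ⟨⟨1, fun g => ?_⟩⟩⟩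
    · have hx1 : (x.1 : G) = 1 := by
        apply hfpf g₀ hg₀ _ x.1.2
        have := x.2 ⟨g₀, hg₀Q⟩
        have h3 := congrArg Subtype.val this
        rw [hsmul] at h3
        have e : g₀ * (x.1 : G) = (g₀ * (x.1 : G) * g₀⁻¹) * g₀ := by group
        rw [e]
        exact congrArg (· * g₀) h3
      have hy1 : (y.1 : G) = 1 := by
        apply hfpf g₀ hg₀ _ y.1.2
        have := y.2 ⟨g₀, hg₀Q⟩
        have h3 := congrArg Subtype.val this
        rw [hsmul] at h3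
        have e : g₀ * (y.1 : G) = (g₀ * (y.1 : G) * g₀⁻¹) * g₀ := by group
        rw [e]
        exact congrArg (· * g₀) h3
      apply Subtype.ext
      apply Subtype.ext
      rw [hx1, hy1]
    · apply Subtype.ext
      rw [hsmul]
      simp
  rw [h2] at h1
  have hq1 : 1 < q := hq.out.one_lt
  have h3 : Nat.card ↥N % q = 1 % q := h1
  rw [Nat.mod_eq_zero_of_dvd hqN, Nat.mod_eq_of_lt hq1] at h3
  exact absurd h3 (by norm_num)

omit [Finite G] in
/-- If `G = B X` as sets then the index of `X` is the relative index of `X` in `B`. -/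
theorem index_eq_relIndex_of_mul (X B : Subgroup G)
    (h : ∀ g : G, ∃ b ∈ B, ∃ x ∈ X, g = b * x) : X.index = X.relIndex B := by
  rw [Subgroup.relIndex, Subgroup.index_eq_card, Subgroup.index_eq_card]
  symm
  let f : ↥B ⧸ X.subgroupOf B → G ⧸ X :=
    Quotient.map' (fun b => (b : G)) (by
      intro b₁ b₂ hb
      rw [QuotientGroup.leftRel_apply] at hb ⊢
      exact hb)
  apply Nat.card_eq_of_bijective f
  constructor
  · intro q₁ q₂
    induction q₁ using Quotient.inductionOn' with | _ b₁ => ?_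
    induction q₂ using Quotient.inductionOn' with | _ b₂ => ?_
    intro hq
    apply Quotient.sound'
    have := Quotient.exact' hq
    rw [QuotientGroup.leftRel_apply] at this ⊢
    exact this
  · intro q
    induction q using Quotient.inductionOn' with | _ g => ?_
    obtain ⟨b, hb, x, hx, rfl⟩ := h g
    refine ⟨Quotient.mk'' ⟨b, hb⟩, ?_⟩
    apply Quotient.sound'
    rw [QuotientGroup.leftRel_apply]
    have e : (b : G)⁻¹ * (b * x) = x := by group
    show (b : G)⁻¹ * (b * x) ∈ X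
    rw [e]; exact hx

omit [Finite G] in
theorem mem_of_pow_mem_of_coprime (K : Subgroup G) (c : G) {m n : ℕ} (hm : c ^ m ∈ K)
    (hn : c ^ n ∈ K) (hco : Nat.Coprime m n) : c ∈ K := by
  have h1 : (c ^ (m : ℤ)) ^ (Nat.gcdA m n) * (c ^ (n : ℤ)) ^ (Nat.gcdB m n) = c := by
    rw [← zpow_mul, ← zpow_mul, ← zpow_add, ← Nat.gcd_eq_gcd_ab, hco.gcd_eq_one]
    simp
  rw [← h1]
  apply K.mul_mem
  · apply K.zpow_mem
    rw [zpow_natCast]; exact hm
  · apply K.zpow_mem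
    rw [zpow_natCast]; exact hn

end

/-- If a nontrivial finite group G is the product AB of abelian subgroups A and B, then some nontrivial normal subgroup of G is contained in A or in B. -/
theorem result {G : Type*} [Group G] [Finite G] [Nontrivial G] (A B : Subgroup G) [IsMulCommutative A] [IsMulCommutative B] (hAB : ∀ g : G, ∃ a ∈ A, ∃ b ∈ B, g = a * b) : ∃ N : Subgroup G, N.Normal ∧ N ≠ ⊥ ∧ (N ≤ A ∨ N ≤ B) := by
  by_contra hcon
  have hno : ∀ N : Subgroup G, N.Normal → (N ≤ A ∨ N ≤ B) → N = ⊥ := by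
    intro N hN h
    by_contra hne
    exact hcon ⟨N, hN, hne, h⟩
  have hA : ∀ x ∈ A, ∀ y ∈ A, x * y = y * x :=
    fun x hx y hy => Cfsg.Agent.S3807.comm_of_mem inferInstance hx hy
  have hB : ∀ x ∈ B, ∀ y ∈ B, x * y = y * x :=
    fun x hx y hy => Cfsg.Agent.S3807.comm_of_mem inferInstance hx hy
  have hBA : ∀ g : G, ∃ b ∈ B, ∃ a ∈ A, g = b * a := by
    intro g
    obtain ⟨a, ha, b, hb, h⟩ := hAB g⁻¹
    refine ⟨b⁻¹, B.inv_mem hb, a⁻¹, A.inv_mem ha, ?_⟩
    have e : g = (g⁻¹)⁻¹ := by simp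
    rw [e, h]; group
  -- S1
  have hcentral_normal : ∀ L : Subgroup G, L ≤ Subgroup.center G → L.Normal := by
    intro L hL
    refine ⟨fun z hz g => ?_⟩
    have h1 := Subgroup.mem_center_iff.mp (hL hz) g
    rw [h1]
    have e : z * g * g⁻¹ = z := by group
    rw [e]; exact hz
  have hZA : Subgroup.center G ⊓ A = ⊥ :=
    hno _ (hcentral_normal _ inf_le_left) (Or.inl inf_le_right)
  have hZB : Subgroup.center G ⊓ B = ⊥ :=
    hno _ (hcentral_normal _ inf_le_left) (Or.inr inf_le_right)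
  have hAB_inf : ∀ x, x ∈ A → x ∈ B → x = 1 := by
    intro x hxA hxB
    have hxZ : x ∈ Subgroup.center G := by
      rw [Subgroup.mem_center_iff]
      intro g
      obtain ⟨a, ha, b, hb, rfl⟩ := hAB g
      calc a * b * x = a * (b * x) := mul_assoc _ _ _
        _ = a * (x * b) := by rw [hB b hb x hxB]
        _ = (a * x) * b := (mul_assoc _ _ _).symm
        _ = (x * a) * b := by rw [hA a ha x hxA]
        _ = x * (a * b) := mul_assoc _ _ _
    have h1 : x ∈ Subgroup.center G ⊓ A := Subgroup.mem_inf.mpr ⟨hxZ, hxA⟩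
    rw [hZA] at h1
    exact Subgroup.mem_bot.mp h1
  have hCA : Subgroup.centralizer (A : Set G) ≤ A := by
    intro g hg
    rw [Subgroup.mem_centralizer_iff] at hg
    obtain ⟨a, ha, b, hb, rfl⟩ := hAB g
    have hbA : ∀ a' ∈ A, a' * b = b * a' := by
      intro a' ha'
      have h1 := hg a' ha'
      have h2 : a * (a' * b) = a * (b * a') := by
        calc a * (a' * b) = (a * a') * b := (mul_assoc _ _ _).symm
          _ = (a' * a) * b := by rw [hA a ha a' ha']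
          _ = a' * (a * b) := mul_assoc _ _ _
          _ = a * b * a' := h1
          _ = a * (b * a') := mul_assoc _ _ _
      exact mul_left_cancel h2
    have hbZ : b ∈ Subgroup.center G := by
      rw [Subgroup.mem_center_iff]
      intro g'
      obtain ⟨a', ha', b', hb', rfl⟩ := hAB g'
      calc a' * b' * b = a' * (b' * b) := mul_assoc _ _ _
        _ = a' * (b * b') := by rw [hB b' hb' b hb]
        _ = (a' * b) * b' := (mul_assoc _ _ _).symm
        _ = (b * a') * b' := by rw [hbA a' ha']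
        _ = b * (a' * b') := mul_assoc _ _ _
    have h1 : b ∈ Subgroup.center G ⊓ B := Subgroup.mem_inf.mpr ⟨hbZ, hb⟩
    rw [hZB] at h1
    rw [Subgroup.mem_bot.mp h1, mul_one]; exact ha
  have hCB : Subgroup.centralizer (B : Set G) ≤ B := by
    intro g hg
    rw [Subgroup.mem_centralizer_iff] at hg
    obtain ⟨b, hb, a, ha, rfl⟩ := hBA g
    have haB : ∀ b' ∈ B, b' * a = a * b' := by
      intro b' hb'
      have h1 := hg b' hb'
      have h2 : b * (b' * a) = b * (a * b') := by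
        calc b * (b' * a) = (b * b') * a := (mul_assoc _ _ _).symm
          _ = (b' * b) * a := by rw [hB b hb b' hb']
          _ = b' * (b * a) := mul_assoc _ _ _
          _ = b * a * b' := h1
          _ = b * (a * b') := mul_assoc _ _ _
      exact mul_left_cancel h2
    have haZ : a ∈ Subgroup.center G := by
      rw [Subgroup.mem_center_iff]
      intro g'
      obtain ⟨a', ha', b', hb', rfl⟩ := hAB g'
      calc a' * b' * a = a' * (b' * a) := mul_assoc _ _ _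
        _ = a' * (a * b') := by rw [haB b' hb']
        _ = (a' * a) * b' := (mul_assoc _ _ _).symm
        _ = (a * a') * b' := by rw [hA a' ha' a ha]
        _ = a * (a' * b') := mul_assoc _ _ _
    have h1 : a ∈ Subgroup.center G ⊓ A := Subgroup.mem_inf.mpr ⟨haZ, ha⟩
    rw [hZA] at h1
    rw [Subgroup.mem_bot.mp h1, mul_one]; exact hb
  -- S2
  obtain ⟨M, hMdef⟩ : ∃ M : Subgroup G, M = ⁅A, B⁆ := ⟨_, rfl⟩
  have hMab : ∀ x ∈ M, ∀ y ∈ M, x * y = y * x := by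
    rw [hMdef]; exact ito_abelian A B hA hB hAB hBA
  have hMgen : ∀ a ∈ A, ∀ b ∈ B, ⁅a, b⁆ ∈ M := by
    intro a ha b hb
    rw [hMdef]; exact Subgroup.commutator_mem_commutator ha hb
  have hMn : M.Normal := by
    have h1 : Subgroup.normalizer (M : Set G) = ⊤ := by
      rw [eq_top_iff]
      intro g _
      obtain ⟨a, ha, b, hb, rfl⟩ := hAB g
      rw [hMdef]
      exact (Subgroup.normalizer _).mul_mem (Subgroup.normalizer_commutator_ge_left A B ha)
        (Subgroup.normalizer_commutator_ge_right A B hb)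
    exact Subgroup.normalizer_eq_top_iff.mp h1
  have hcommM : ∀ u v : G, ⁅u, v⁆ ∈ M := by
    intro u v
    let π := QuotientGroup.mk' M
    have hab : ∀ a ∈ A, ∀ b ∈ B, π a * π b = π b * π a := by
      intro a ha b hb
      have h1 : π ⁅a, b⁆ = 1 := (QuotientGroup.eq_one_iff _).mpr (hMgen a ha b hb)
      rw [map_commutatorElement] at h1
      exact commutatorElement_eq_one_iff_mul_comm.mp h1
    have hπ : π u * π v = π v * π u := by
      obtain ⟨a, ha, b, hb, rfl⟩ := hAB u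
      obtain ⟨a', ha', b', hb', rfl⟩ := hAB v
      rw [map_mul, map_mul]
      have haa : π a * π a' = π a' * π a := by rw [← map_mul, ← map_mul, hA a ha a' ha']
      have hbb : π b * π b' = π b' * π b := by rw [← map_mul, ← map_mul, hB b hb b' hb']
      calc π a * π b * (π a' * π b') = π a * (π b * π a') * π b' := by group
        _ = π a * (π a' * π b) * π b' := by rw [hab a' ha' b hb]
        _ = (π a * π a') * (π b * π b') := by group
        _ = (π a' * π a) * (π b' * π b) := by rw [haa, hbb]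
        _ = π a' * (π a * π b') * π b := by group
        _ = π a' * (π b' * π a) * π b := by rw [hab a ha b' hb']
        _ = π a' * π b' * (π a * π b) := by group
    have h1 : π ⁅u, v⁆ = 1 := by
      rw [map_commutatorElement]
      exact commutatorElement_eq_one_iff_mul_comm.mpr hπ
    exact (QuotientGroup.eq_one_iff _).mp h1
  have hMne : M ≠ ⊥ := by
    intro hbot
    have hcomm : ∀ a ∈ A, ∀ b ∈ B, a * b = b * a := by
      intro a ha b hb
      have h1 := hMgen a ha b hb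
      rw [hbot, Subgroup.mem_bot] at h1
      exact commutatorElement_eq_one_iff_mul_comm.mp h1
    have hAn : A.Normal := by
      refine ⟨fun x hx g => ?_⟩
      obtain ⟨a, ha, b, hb, rfl⟩ := hAB g
      have e : a * b * x * (a * b)⁻¹ = a * (b * x * b⁻¹) * a⁻¹ := by group
      rw [e, conj_eq_of_comm (hcomm x hx b hb).symm, conj_eq_of_comm (hA a ha x hx)]
      exact hx
    have hBn : B.Normal := by
      refine ⟨fun x hx g => ?_⟩
      obtain ⟨b, hb, a, ha, rfl⟩ := hBA g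
      have e : b * a * x * (b * a)⁻¹ = b * (a * x * a⁻¹) * b⁻¹ := by group
      rw [e, conj_eq_of_comm (hcomm a ha x hx), conj_eq_of_comm (hB b hb x hx)]
      exact hx
    have hA1 := hno A hAn (Or.inl le_rfl)
    have hB1 := hno B hBn (Or.inr le_rfl)
    obtain ⟨g, hg⟩ := exists_ne (1 : G)
    obtain ⟨a, ha, b, hb, rfl⟩ := hAB g
    rw [hA1, Subgroup.mem_bot] at ha
    rw [hB1, Subgroup.mem_bot] at hb
    apply hg; rw [ha, hb, mul_one]
  -- S3
  let s : Set (Subgroup G) := {N | N.Normal ∧ N ≠ ⊥ ∧ N ≤ M}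
  have hsne : s.Nonempty := ⟨M, hMn, hMne, le_rfl⟩
  obtain ⟨N, ⟨hNn, hNne, hNM⟩, hNmin⟩ := (Set.toFinite s).exists_minimal hsne
  haveI := hNn
  have hmin : ∀ N' : Subgroup G, N'.Normal → N' ≤ N → N' = ⊥ ∨ N' = N := by
    intro N' hN'n hle
    by_cases h : N' = ⊥
    · exact Or.inl h
    · exact Or.inr (le_antisymm hle (hNmin ⟨hN'n, h, hle.trans hNM⟩ hle))
  obtain ⟨C, hC⟩ : ∃ C : Subgroup G, C = Subgroup.centralizer (N : Set G) := ⟨_, rfl⟩
  have hmemC : ∀ g : G, g ∈ C ↔ ∀ n ∈ N, n * g = g * n := by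
    intro g; rw [hC, Subgroup.mem_centralizer_iff]; rfl
  have hMC : M ≤ C := by
    intro m hm
    rw [hmemC]
    intro n hn
    exact hMab n (hNM hn) m hm
  have hfpf : ∀ g : G, g ∉ C → ∀ n ∈ N, g * n = n * g → n = 1 := by
    intro g hg n hn hgn
    let N' : Subgroup G := N ⊓ Subgroup.centralizer ({g} : Set G)
    have hN'n : N'.Normal := by
      refine ⟨fun k hk x => ?_⟩
      have hk' := Subgroup.mem_inf.mp hk
      have hkg : k * g = g * k := Subgroup.mem_centralizer_singleton_iff.mp hk'.2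
      refine Subgroup.mem_inf.mpr ⟨hNn.conj_mem k hk'.1 x, ?_⟩
      rw [Subgroup.mem_centralizer_singleton_iff]
      obtain ⟨m, hm⟩ : ∃ m : G, m = g⁻¹ * x⁻¹ * g * x := ⟨_, rfl⟩
      have hmM : m ∈ M := by
        have h1 := hcommM g⁻¹ x⁻¹
        rw [commutatorElement_def] at h1
        rw [hm]
        simpa using h1
      have hkm : k * m = m * k := hMab k (hNM hk'.1) m hmM
      have e1 : k * (g * m) = (g * m) * k := by
        calc k * (g * m) = (k * g) * m := (mul_assoc _ _ _).symm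
          _ = (g * k) * m := by rw [hkg]
          _ = g * (k * m) := mul_assoc _ _ _
          _ = g * (m * k) := by rw [hkm]
          _ = (g * m) * k := (mul_assoc _ _ _).symm
      have e2 : x * k * x⁻¹ * g = x * (k * (g * m)) * x⁻¹ := by rw [hm]; group
      have e3 : g * (x * k * x⁻¹) = x * ((g * m) * k) * x⁻¹ := by rw [hm]; group
      rw [e2, e3, e1]
    rcases hmin N' hN'n inf_le_left with h | h
    · have h1 : n ∈ N' :=
        Subgroup.mem_inf.mpr ⟨hn, Subgroup.mem_centralizer_singleton_iff.mpr hgn.symm⟩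
      rw [h] at h1; exact Subgroup.mem_bot.mp h1
    · exfalso; apply hg
      rw [hmemC]
      intro n' hn'
      have h1 : n' ∈ N' := h ▸ hn'
      exact Subgroup.mem_centralizer_singleton_iff.mp (Subgroup.mem_inf.mp h1).2
  -- S4
  have hAC : ¬ A ≤ C := by
    intro h
    have h1 : N ≤ A := by
      apply le_trans _ hCA
      intro n hn
      rw [Subgroup.mem_centralizer_iff]
      intro a ha
      exact (((hmemC a).mp (h ha)) n hn).symm
    exact hNne (hno N hNn (Or.inl h1))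
  have hBC : ¬ B ≤ C := by
    intro h
    have h1 : N ≤ B := by
      apply le_trans _ hCB
      intro n hn
      rw [Subgroup.mem_centralizer_iff]
      intro b hb
      exact (((hmemC b).mp (h hb)) n hn).symm
    exact hNne (hno N hNn (Or.inr h1))
  obtain ⟨a₀, ha₀, ha₀C⟩ := SetLike.not_le_iff_exists.mp hAC
  obtain ⟨b₀, hb₀, hb₀C⟩ := SetLike.not_le_iff_exists.mp hBC
  -- S6
  obtain ⟨ν, hνN, hν1⟩ : ∃ ν ∈ N, ν ≠ 1 := by
    by_contra h
    push Not at h
    exact hNne ((Subgroup.eq_bot_iff_forall N).mpr h)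
  obtain ⟨β', hβ', a₁, ha₁, hνeq⟩ := hBA ν
  obtain ⟨β, hβdef⟩ : ∃ β : G, β = β'⁻¹ := ⟨_, rfl⟩
  have hβ : β ∈ B := by rw [hβdef]; exact B.inv_mem hβ'
  have ha₁eq : a₁ = β * ν := by rw [hβdef, hνeq]; group
  -- S7
  obtain ⟨c, hc⟩ : ∃ c : G, c = ⁅a₀, b₀⁆ := ⟨_, rfl⟩
  have hcM : c ∈ M := by rw [hc]; exact hMgen a₀ ha₀ b₀ hb₀
  have hcC : c ∈ C := hMC hcM
  obtain ⟨w, hw⟩ : ∃ w : G, w = ⁅ν, b₀⁆ := ⟨_, rfl⟩
  have hwN : w ∈ N := by
    rw [hw, commutatorElement_def]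
    have e : ν * b₀ * ν⁻¹ * b₀⁻¹ = ν * (b₀ * ν⁻¹ * b₀⁻¹) := by group
    rw [e]
    exact N.mul_mem hνN (hNn.conj_mem _ (N.inv_mem hνN) b₀)
  have hw1 : w ≠ 1 := by
    intro h
    rw [hw] at h
    have h1 := commutatorElement_eq_one_iff_mul_comm.mp h
    exact hν1 (hfpf b₀ hb₀C ν hνN h1.symm)
  obtain ⟨n₂, hn₂⟩ : ∃ n₂ : G, n₂ = β * w * β⁻¹ := ⟨_, rfl⟩
  have hn₂N : n₂ ∈ N := by rw [hn₂]; exact hNn.conj_mem w hwN β
  have hn₂1 : n₂ ≠ 1 := by
    intro h
    apply hw1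
    have e : w = β⁻¹ * n₂ * β := by rw [hn₂]; group
    rw [e, h]; group
  have hkey : a₁ * c * a₁⁻¹ = ⁅a₀, n₂⁆ * c := by
    rw [hc, conj_comm a₁ a₀ b₀, conj_eq_of_comm (hA a₁ ha₁ a₀ ha₀)]
    have e1 : a₁ * b₀ * a₁⁻¹ = n₂ * b₀ := by
      have e2 : a₁ * b₀ * a₁⁻¹ = (β * ⁅ν, b₀⁆ * β⁻¹) * (β * b₀ * β⁻¹) := by
        rw [ha₁eq, commutatorElement_def]; group
      rw [e2, conj_eq_of_comm (hB β hβ b₀ hb₀), hn₂, hw]
    rw [e1]
    have hcn : ⁅a₀, b₀⁆ * n₂⁻¹ = n₂⁻¹ * ⁅a₀, b₀⁆ := by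
      rw [← hc]
      exact (((hmemC c).mp hcC) n₂⁻¹ (N.inv_mem hn₂N)).symm
    have e3 : ⁅a₀, n₂ * b₀⁆ = (a₀ * n₂ * a₀⁻¹) * (⁅a₀, b₀⁆ * n₂⁻¹) := by
      simp only [commutatorElement_def]; group
    rw [e3, hcn]
    simp only [commutatorElement_def]; group
  have hne : a₁ * c * a₁⁻¹ ≠ c := by
    rw [hkey]
    intro h
    have h1 : ⁅a₀, n₂⁆ = 1 := by
      have h2 := congrArg (· * c⁻¹) h
      simpa using h2
    have h3 := commutatorElement_eq_one_iff_mul_comm.mp h1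
    exact hn₂1 (hfpf a₀ ha₀C n₂ hn₂N h3)
  -- S8
  obtain ⟨H, hH⟩ : ∃ H : Subgroup G, H = (A ⊔ N) ⊓ (B ⊔ N) := ⟨_, rfl⟩
  have hNH : N ≤ H := by rw [hH]; exact le_inf le_sup_right le_sup_right
  have ha₁H : a₁ ∈ H := by
    rw [hH]
    refine Subgroup.mem_inf.mpr ⟨Subgroup.mem_sup_left ha₁, ?_⟩
    rw [ha₁eq]
    exact (B ⊔ N).mul_mem (Subgroup.mem_sup_left hβ) (Subgroup.mem_sup_right hνN)
  have hAN : ∀ h ∈ A ⊔ N, ∃ a ∈ A, ∃ n ∈ N, h = a * n := by
    intro h hh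
    rw [← SetLike.mem_coe, Subgroup.mul_normal A N] at hh
    obtain ⟨a, ha, n, hn, rfl⟩ := Set.mem_mul.mp hh
    exact ⟨a, ha, n, hn, rfl⟩
  have hBN : ∀ h ∈ B ⊔ N, ∃ b ∈ B, ∃ n ∈ N, h = b * n := by
    intro h hh
    rw [← SetLike.mem_coe, Subgroup.mul_normal B N] at hh
    obtain ⟨b, hb, n, hn, rfl⟩ := Set.mem_mul.mp hh
    exact ⟨b, hb, n, hn, rfl⟩
  have hAH : ∀ x ∈ A, ∀ h ∈ H, x * h * x⁻¹ * h⁻¹ ∈ N := by
    intro x hx h hh
    rw [hH] at hh
    obtain ⟨a', ha', n', hn', rfl⟩ := hAN h (Subgroup.mem_inf.mp hh).1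
    have e : x * (a' * n') * x⁻¹ * (a' * n')⁻¹ = (x * a') * n' * x⁻¹ * n'⁻¹ * a'⁻¹ := by group
    rw [e, hA x hx a' ha']
    have e2 : a' * x * n' * x⁻¹ * n'⁻¹ * a'⁻¹ = a' * (x * n' * x⁻¹ * n'⁻¹) * a'⁻¹ := by group
    rw [e2]
    exact hNn.conj_mem _ (N.mul_mem (hNn.conj_mem n' hn' x) (N.inv_mem hn')) a'
  have hBH : ∀ x ∈ B, ∀ h ∈ H, x * h * x⁻¹ * h⁻¹ ∈ N := by
    intro x hx h hh
    rw [hH] at hh
    obtain ⟨b', hb', n', hn', rfl⟩ := hBN h (Subgroup.mem_inf.mp hh).2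
    have e : x * (b' * n') * x⁻¹ * (b' * n')⁻¹ = (x * b') * n' * x⁻¹ * n'⁻¹ * b'⁻¹ := by group
    rw [e, hB x hx b' hb']
    have e2 : b' * x * n' * x⁻¹ * n'⁻¹ * b'⁻¹ = b' * (x * n' * x⁻¹ * n'⁻¹) * b'⁻¹ := by group
    rw [e2]
    exact hNn.conj_mem _ (N.mul_mem (hNn.conj_mem n' hn' x) (N.inv_mem hn')) b'
  have hGH : ∀ g : G, ∀ h ∈ H, g * h * g⁻¹ * h⁻¹ ∈ N := by
    intro g h hh
    obtain ⟨x, hx, y, hy, rfl⟩ := hAB g
    have e : x * y * h * (x * y)⁻¹ * h⁻¹ =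
        (x * (y * h * y⁻¹ * h⁻¹) * x⁻¹) * (x * h * x⁻¹ * h⁻¹) := by group
    rw [e]
    exact N.mul_mem (hNn.conj_mem _ (hBH y hy h hh) x) (hAH x hx h hh)
  have hHn : H.Normal := by
    refine ⟨fun h hh g => ?_⟩
    have e : g * h * g⁻¹ = (g * h * g⁻¹ * h⁻¹) * h := by group
    rw [e]; exact H.mul_mem (hNH (hGH g h hh)) hh
  haveI := hHn
  obtain ⟨K, hK⟩ : ∃ K : Subgroup G, K = Subgroup.centralizer (H : Set G) := ⟨_, rfl⟩
  have hmemK : ∀ g : G, g ∈ K ↔ ∀ h ∈ H, h * g = g * h := by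
    intro g; rw [hK, Subgroup.mem_centralizer_iff]; rfl
  haveI hKn : K.Normal := by rw [hK]; infer_instance
  have hACK : ∀ x ∈ A, x ∈ C → x ∈ K := by
    intro x hxA hxC
    rw [hmemK]
    intro h hh
    rw [hH] at hh
    obtain ⟨a', ha', n', hn', rfl⟩ := hAN h (Subgroup.mem_inf.mp hh).1
    have h1 : n' * x = x * n' := ((hmemC x).mp hxC) n' hn'
    calc a' * n' * x = a' * (n' * x) := mul_assoc _ _ _
      _ = a' * (x * n') := by rw [h1]
      _ = (a' * x) * n' := (mul_assoc _ _ _).symm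
      _ = (x * a') * n' := by rw [hA a' ha' x hxA]
      _ = x * (a' * n') := mul_assoc _ _ _
  have hBCK : ∀ x ∈ B, x ∈ C → x ∈ K := by
    intro x hxB hxC
    rw [hmemK]
    intro h hh
    rw [hH] at hh
    obtain ⟨b', hb', n', hn', rfl⟩ := hBN h (Subgroup.mem_inf.mp hh).2
    have h1 : n' * x = x * n' := ((hmemC x).mp hxC) n' hn'
    calc b' * n' * x = b' * (n' * x) := mul_assoc _ _ _
      _ = b' * (x * n') := by rw [h1]
      _ = (b' * x) * n' := (mul_assoc _ _ _).symm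
      _ = (x * b') * n' := by rw [hB b' hb' x hxB]
      _ = x * (b' * n') := mul_assoc _ _ _
  have hcK : c ∉ K := by
    intro h
    have h1 := ((hmemK c).mp h) a₁ ha₁H
    apply hne
    rw [h1]; group
  have hcpow : c ^ Nat.card N ∈ K := by
    rw [hmemK]
    intro h hh
    obtain ⟨νh, hνh⟩ : ∃ νh : G, νh = c * h * c⁻¹ * h⁻¹ := ⟨_, rfl⟩
    have hνhN : νh ∈ N := by rw [hνh]; exact hGH c h hh
    have hcν : Commute c νh := (((hmemC c).mp hcC) νh hνhN).symm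
    have hch : c * h = νh * h * c := by rw [hνh]; group
    have hind : ∀ j : ℕ, c ^ j * h = νh ^ j * h * c ^ j := by
      intro j
      induction j with
      | zero => simp
      | succ j ih =>
        have hcjν : c ^ j * νh = νh * c ^ j := (hcν.pow_left j).eq
        calc c ^ (j + 1) * h = c ^ j * (c * h) := by rw [pow_succ, mul_assoc]
          _ = c ^ j * (νh * h * c) := by rw [hch]
          _ = (c ^ j * νh) * h * c := by simp only [mul_assoc]
          _ = (νh * c ^ j) * h * c := by rw [hcjν]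
          _ = νh * (c ^ j * h) * c := by simp only [mul_assoc]
          _ = νh * (νh ^ j * h * c ^ j) * c := by rw [ih]
          _ = νh ^ (j + 1) * h * c ^ (j + 1) := by
            rw [pow_succ' νh j, pow_succ c j]; simp only [mul_assoc]
    have h1 := hind (Nat.card N)
    have hν1 : νh ^ Nat.card N = 1 := by
      have h2 : (⟨νh, hνhN⟩ : ↥N) ^ Nat.card ↥N = 1 := pow_card_eq_one'
      exact congrArg Subtype.val h2
    rw [hν1, one_mul] at h1
    exact h1.symm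
  have hcidx : c ^ K.index ∈ K := Subgroup.pow_index_mem K c
  have hcop : Nat.Coprime (Nat.card N) K.index := by
    apply Nat.coprime_of_dvd
    intro q hq hqN hqK
    haveI := Fact.mk hq
    have hfpf' : ∀ g : G, g ∉ Subgroup.centralizer (N : Set G) → ∀ n ∈ N, g * n = n * g → n = 1 := by
      rw [← hC]; exact hfpf
    have hQC : ∀ Q : Subgroup G, IsPGroup q Q → Q ≤ C := by
      intro Q hQ
      rw [hC]
      exact pgroup_le_centralizer N hqN hfpf' Q hQ
    have hrel : ∀ X : Subgroup G, (∀ x ∈ X, x ∈ C → x ∈ K) → ¬ q ∣ K.relIndex X := by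
      intro X hX
      obtain ⟨S⟩ : Nonempty (Sylow q ↥X) := inferInstance
      obtain ⟨S', hS'⟩ : ∃ S' : Subgroup G, S' = (S : Subgroup ↥X).map X.subtype := ⟨_, rfl⟩
      have hS'p : IsPGroup q S' := by rw [hS']; exact S.isPGroup'.map X.subtype
      have hS'X : S' ≤ X := by
        rw [hS']; rintro _ ⟨x, _, rfl⟩; exact x.2
      have hS'K : S' ≤ K := fun x hx => hX x (hS'X hx) (hQC S' hS'p hx)
      have h1 : K.relIndex X ∣ S'.relIndex X := Subgroup.relIndex_dvd_of_le_left X hS'K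
      have h2 : S'.relIndex X = (S : Subgroup ↥X).index := by
        rw [Subgroup.relIndex, hS']
        congr 1
        exact Subgroup.comap_map_eq_self_of_injective (Subgroup.subtype_injective X) _
      intro hdvd
      exact S.not_dvd_index (h2 ▸ dvd_trans hdvd h1)
    have hidx : K.index ∣ K.relIndex A * K.relIndex B := by
      have h1 : K.relIndex (A ⊔ K) * (A ⊔ K).index = K.index :=
        Subgroup.relIndex_mul_index le_sup_right
      have h2 : K.relIndex (A ⊔ K) = K.relIndex A := Subgroup.relIndex_sup_right A K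
      have h3 : (A ⊔ K).index = (A ⊔ K).relIndex B := index_eq_relIndex_of_mul (A ⊔ K) B (by
        intro g
        obtain ⟨b, hb, a, ha, rfl⟩ := hBA g
        exact ⟨b, hb, a, Subgroup.mem_sup_left ha, rfl⟩)
      have h4 : (A ⊔ K).relIndex B ∣ K.relIndex B := Subgroup.relIndex_dvd_of_le_left B le_sup_right
      rw [← h1, h2, h3]
      exact Nat.mul_dvd_mul_left _ h4
    rcases (Nat.Prime.dvd_mul hq).mp (dvd_trans hqK hidx) with h | h
    · exact hrel A hACK h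
    · exact hrel B hBCK h
  exact hcK (mem_of_pow_mem_of_coprime K c hcpow hcidx hcop)

end Cfsg.Agent.S0573
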