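import Cfsg.Statements.S0571
import Mathlib
import Cfsg.Agent.S0573
import Cfsg.Agent.Lib_helper3_SS

set_option autoImplicit false
set_option linter.style.haveILetI false
open Cfsg

namespace Cfsg.Agent.S0571

universe u

theorem isCyclic_of_le {G : Type*} [Group G] {N A : Subgroup G} [hA : IsCyclic A] (h : N ≤ A) :
    IsCyclic N := by
  have h1 : IsCyclic (N.subgroupOf A) := inferInstance
  exact (Subgroup.subgroupOfEquivOfLe h).isCyclic.mp h1

theorem key : ∀ (n : ℕ) (G : Type u) [Group G] [Finite G] (A B : Subgroup G),
    IsCyclic A → IsCyclic B → (∀ g : G, ∃ a ∈ A, ∃ b ∈ B, g = a * b) → Nat.card G = n →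
    Cfsg.IsSupersolvable G := by
  intro n
  induction n using Nat.strong_induction_on with
  | _ n ih =>
    intro G _ _ A B hA hB hAB hn
    by_cases htriv : Nontrivial G
    · haveI := htriv
      haveI := hA
      haveI := hB
      haveI : IsMulCommutative A := ⟨⟨fun a b => by
        letI := IsCyclic.commGroup (α := ↥A)
        exact mul_comm a b⟩⟩
      haveI : IsMulCommutative B := ⟨⟨fun a b => by
        letI := IsCyclic.commGroup (α := ↥B)
        exact mul_comm a b⟩⟩
      obtain ⟨N, hNn, hNne, hNAB⟩ := Cfsg.Agent.S0573.result A B hAB
      haveI := hNn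
      haveI hNc : IsCyclic N := by
        rcases hNAB with h | h
        · exact isCyclic_of_le h
        · exact isCyclic_of_le h
      apply Cfsg.Agent.helper3.isSupersolvable_of_cyclic_normal N
      let π := QuotientGroup.mk' N
      have hπs : Function.Surjective π := QuotientGroup.mk'_surjective N
      have hlt : Nat.card (G ⧸ N) < n := by
        rw [← hn, ← Subgroup.index_eq_card]
        have h1 := Subgroup.card_mul_index N
        have h2 : 1 < Nat.card N := by
          rw [Subgroup.one_lt_card_iff_ne_bot]; exact hNne
        have h3 : 0 < N.index := Nat.pos_of_ne_zero Subgroup.index_ne_zero_of_finite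
        nlinarith
      refine ih _ hlt (G ⧸ N) (A.map π) (B.map π) ?_ ?_ ?_ rfl
      · have : IsCyclic (A.map π) := by
          have h1 : Function.Surjective (π.subgroupMap A) := MonoidHom.subgroupMap_surjective π A
          exact isCyclic_of_surjective (π.subgroupMap A) h1
        exact this
      · have : IsCyclic (B.map π) := by
          have h1 : Function.Surjective (π.subgroupMap B) := MonoidHom.subgroupMap_surjective π B
          exact isCyclic_of_surjective (π.subgroupMap B) h1
        exact this
      · intro q
        obtain ⟨g, rfl⟩ := hπs q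
        obtain ⟨a, ha, b, hb, rfl⟩ := hAB g
        exact ⟨π a, Subgroup.mem_map_of_mem π ha, π b, Subgroup.mem_map_of_mem π hb, map_mul π a b⟩
    · rw [not_nontrivial_iff_subsingleton] at htriv
      refine ⟨0, fun _ => ⊥, rfl, ?_, fun _ => inferInstance, fun i => i.elim0⟩
      exact Subsingleton.elim _ _

/-- If a finite group G is the product AB of two cyclic subgroups (every element is a product ab), then G is supersolvable. -/
theorem result {G : Type*} [Group G] [Finite G] (A B : Subgroup G) [IsCyclic A] [IsCyclic B] (hAB : ∀ g : G, ∃ a ∈ A, ∃ b ∈ B, g = a * b) : Cfsg.IsSupersolvable G :=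
  key _ G A B inferInstance inferInstance hAB rfl

end Cfsg.Agent.S0571
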