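import Cfsg.Statements.S0572
import Mathlib

set_option autoImplicit false
open Cfsg

namespace Cfsg.Agent.S0572

open Subgroup
open scoped commutatorElement

theorem conj_comm {G : Type*} [Group G] (g x y : G) :
    g * ⁅x, y⁆ * g⁻¹ = ⁅g * x * g⁻¹, g * y * g⁻¹⁆ := by
  simp only [commutatorElement_def]; group

theorem comm_mul_left {G : Type*} [Group G] {a b c : G} (h : b * c = c * b) :
    ⁅a * b, c⁆ = ⁅a, c⁆ := by
  simp only [commutatorElement_def]
  have e1 : a * b * c * (a * b)⁻¹ * c⁻¹ = a * (b * c) * b⁻¹ * a⁻¹ * c⁻¹ := by group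
  rw [e1, h]; group

theorem comm_mul_right {G : Type*} [Group G] {a b c : G} (h : c * a = a * c) :
    ⁅a, b * c⁆ = ⁅a, b⁆ := by
  simp only [commutatorElement_def]
  have e1 : a * (b * c) * a⁻¹ * (b * c)⁻¹ = a * b * (c * a⁻¹) * c⁻¹ * b⁻¹ := by group
  have e2 : c * a⁻¹ = a⁻¹ * c := by
    have : c * a⁻¹ = a⁻¹ * (a * c) * a⁻¹ := by group
    rw [this, ← h]; group
  rw [e1, e2]; group

theorem conj_fix {G : Type*} [Group G] {x y : G} (h : x * y = y * x) : x * y * x⁻¹ = y := by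
  rw [h]; group

variable {G : Type*} [Group G] (A B : Subgroup G) [IsMulCommutative A] [IsMulCommutative B]

theorem commA {a a' : G} (ha : a ∈ A) (ha' : a' ∈ A) : a * a' = a' * a := by
  have := mul_comm' (⟨a, ha⟩ : A) ⟨a', ha'⟩
  exact congrArg (fun t : A => (t : G)) this

omit [IsMulCommutative A] [IsMulCommutative B] in
/-- `G = BA` as well. -/
theorem exists_BA (hAB : ∀ g : G, ∃ a ∈ A, ∃ b ∈ B, g = a * b) (g : G) :
    ∃ b ∈ B, ∃ a ∈ A, g = b * a := by
  obtain ⟨a, ha, b, hb, h⟩ := hAB g⁻¹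
  refine ⟨b⁻¹, B.inv_mem hb, a⁻¹, A.inv_mem ha, ?_⟩
  have : g = (g⁻¹)⁻¹ := by group
  rw [this, h]; group

theorem key (hAB : ∀ g : G, ∃ a ∈ A, ∃ b ∈ B, g = a * b) {a α b β : G}
    (ha : a ∈ A) (hα : α ∈ A) (hb : b ∈ B) (hβ : β ∈ B) :
    (α * β) * ⁅a, b⁆ * (α * β)⁻¹ = (β * α) * ⁅a, b⁆ * (β * α)⁻¹ := by
  obtain ⟨a₃, ha₃, b₃, hb₃, h3⟩ := hAB (β * a * β⁻¹)
  obtain ⟨b₂, hb₂, a₂, ha₂, h2⟩ := exists_BA A B hAB (α * b * α⁻¹)
  have hβb : β * b * β⁻¹ = b := conj_fix (commA B hβ hb)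
  have hαa : α * a * α⁻¹ = a := conj_fix (commA A hα ha)
  have hαa₃ : α * a₃ * α⁻¹ = a₃ := conj_fix (commA A hα ha₃)
  have hβb₂ : β * b₂ * β⁻¹ = b₂ := conj_fix (commA B hβ hb₂)
  have L : (α * β) * ⁅a, b⁆ * (α * β)⁻¹ = ⁅a₃, b₂⁆ := by
    have e1 : (α * β) * ⁅a, b⁆ * (α * β)⁻¹ = α * (β * ⁅a, b⁆ * β⁻¹) * α⁻¹ := by group
    rw [e1, conj_comm β, hβb, h3, comm_mul_left (commA B hb₃ hb), conj_comm α, hαa₃, h2,
      comm_mul_right (commA A ha₂ ha₃)]
  have R : (β * α) * ⁅a, b⁆ * (β * α)⁻¹ = ⁅a₃, b₂⁆ := by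
    have e1 : (β * α) * ⁅a, b⁆ * (β * α)⁻¹ = β * (α * ⁅a, b⁆ * α⁻¹) * β⁻¹ := by group
    rw [e1, conj_comm α, hαa, h2, comm_mul_right (commA A ha₂ ha), conj_comm β, hβb₂, h3,
      comm_mul_left (commA B hb₃ hb₂)]
  rw [L, R]

/-- Commutators `⁅α, β⁆` and `⁅a, b⁆` commute. -/
theorem comm_comm (hAB : ∀ g : G, ∃ a ∈ A, ∃ b ∈ B, g = a * b) {a α b β : G}
    (ha : a ∈ A) (hα : α ∈ A) (hb : b ∈ B) (hβ : β ∈ B) :
    ⁅α, β⁆ * ⁅a, b⁆ = ⁅a, b⁆ * ⁅α, β⁆ := by
  have h := key A B hAB ha (A.inv_mem hα) hb (B.inv_mem hβ)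
  set c := ⁅a, b⁆ with hc
  have e1 : ⁅α, β⁆ * c = (β⁻¹ * α⁻¹)⁻¹ * ((α⁻¹ * β⁻¹) * c * (α⁻¹ * β⁻¹)⁻¹) * (α⁻¹ * β⁻¹) := by
    simp only [commutatorElement_def]; group
  rw [e1, h]
  simp only [commutatorElement_def]; group

theorem result {G : Type*} [Group G] (A B : Subgroup G) [IsMulCommutative A] [IsMulCommutative B] (hAB : ∀ g : G, ∃ a ∈ A, ∃ b ∈ B, g = a * b) : derivedSeries G 2 = ⊥ := by
  -- N = ⁅A, B⁆ is abelian
  set N : Subgroup G := ⁅A, B⁆ with hN
  have hNc : IsMulCommutative N := by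
    rw [hN, Subgroup.commutator_def]
    apply Subgroup.isMulCommutative_closure
    rintro x ⟨α, hα, β, hβ, rfl⟩ y ⟨a, ha, b, hb, rfl⟩
    exact comm_comm A B hAB ha hα hb hβ
  -- N is normalized by A and by B
  have hgen : ∀ a ∈ A, ∀ b ∈ B, ⁅a, b⁆ ∈ N := fun a ha b hb =>
    Subgroup.commutator_mem_commutator ha hb
  have hconj : ∀ g : G, ∀ x ∈ N, g * x * g⁻¹ ∈ N := by
    intro g x hx
    obtain ⟨α, hα, β, hβ, rfl⟩ := hAB g
    have hA : ∀ α ∈ A, ∀ x ∈ N, α * x * α⁻¹ ∈ N := by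
      intro α hα x hx
      rw [hN, Subgroup.commutator_def] at hx
      induction hx using Subgroup.closure_induction with
      | mem y hy =>
        obtain ⟨a, ha, b, hb, rfl⟩ := hy
        have e : α * ⁅a, b⁆ * α⁻¹ = ⁅α * a, b⁆ * ⁅α, b⁆⁻¹ := by
          simp only [commutatorElement_def]; group
        rw [e]
        exact N.mul_mem (hgen _ (A.mul_mem hα ha) _ hb) (N.inv_mem (hgen _ hα _ hb))
      | one => simp
      | mul y z _ _ hy hz =>
        have e : α * (y * z) * α⁻¹ = (α * y * α⁻¹) * (α * z * α⁻¹) := by group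
        rw [e]; exact N.mul_mem hy hz
      | inv y _ hy =>
        have e : α * y⁻¹ * α⁻¹ = (α * y * α⁻¹)⁻¹ := by group
        rw [e]; exact N.inv_mem hy
    have hB : ∀ β ∈ B, ∀ x ∈ N, β * x * β⁻¹ ∈ N := by
      intro β hβ x hx
      rw [hN, Subgroup.commutator_def] at hx
      induction hx using Subgroup.closure_induction with
      | mem y hy =>
        obtain ⟨a, ha, b, hb, rfl⟩ := hy
        have e : β * ⁅a, b⁆ * β⁻¹ = ⁅a, β⁆⁻¹ * ⁅a, β * b⁆ := by
          simp only [commutatorElement_def]; group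
        rw [e]
        exact N.mul_mem (N.inv_mem (hgen _ ha _ hβ)) (hgen _ ha _ (B.mul_mem hβ hb))
      | one => simp
      | mul y z _ _ hy hz =>
        have e : β * (y * z) * β⁻¹ = (β * y * β⁻¹) * (β * z * β⁻¹) := by group
        rw [e]; exact N.mul_mem hy hz
      | inv y _ hy =>
        have e : β * y⁻¹ * β⁻¹ = (β * y * β⁻¹)⁻¹ := by group
        rw [e]; exact N.inv_mem hy
    have e : α * β * x * (α * β)⁻¹ = α * (β * x * β⁻¹) * α⁻¹ := by group
    rw [e]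
    exact hA α hα _ (hB β hβ x hx)
  haveI hNn : N.Normal := ⟨fun x hx g => hconj g x hx⟩
  -- G / N is commutative
  have hcomm : commutator G ≤ N := by
    rw [_root_.commutator_def, Subgroup.commutator_le]
    intro g _ h _
    rw [← QuotientGroup.eq_one_iff]
    show (QuotientGroup.mk' N) ⁅g, h⁆ = 1
    rw [map_commutatorElement, commutatorElement_eq_one_iff_mul_comm]
    obtain ⟨a, ha, b, hb, rfl⟩ := hAB g
    obtain ⟨α, hα, β, hβ, rfl⟩ := hAB h
    set π := QuotientGroup.mk' N with hπ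
    have c1 : π a * π α = π α * π a := by
      rw [← map_mul, ← map_mul, commA A ha hα]
    have c2 : π b * π β = π β * π b := by
      rw [← map_mul, ← map_mul, commA B hb hβ]
    have c3 : π a * π β = π β * π a := by
      rw [← commutatorElement_eq_one_iff_mul_comm, ← map_commutatorElement]
      exact (QuotientGroup.eq_one_iff _).2 (hgen a ha β hβ)
    have c4 : π α * π b = π b * π α := by
      rw [← commutatorElement_eq_one_iff_mul_comm, ← map_commutatorElement]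
      exact (QuotientGroup.eq_one_iff _).2 (hgen α hα b hb)
    rw [map_mul, map_mul]
    calc π a * π b * (π α * π β) = π a * (π b * π α) * π β := by group
      _ = π a * (π α * π b) * π β := by rw [c4]
      _ = (π a * π α) * (π b * π β) := by group
      _ = (π α * π a) * (π β * π b) := by rw [c1, c2]
      _ = π α * (π a * π β) * π b := by group
      _ = π α * (π β * π a) * π b := by rw [c3]
      _ = π α * π β * (π a * π b) := by group
  rw [show (2 : ℕ) = 1 + 1 from rfl, derivedSeries_succ, derivedSeries_one, eq_bot_iff]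
  calc ⁅commutator G, commutator G⁆ ≤ ⁅N, N⁆ := Subgroup.commutator_mono hcomm hcomm
    _ = ⊥ := by
      rw [Subgroup.commutator_eq_bot_iff_le_centralizer]
      intro x hx
      rw [Subgroup.mem_centralizer_iff]
      intro y hy
      exact commA N hy hx

end Cfsg.Agent.S0572
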