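import Cfsg.Statements.S0576
import Mathlib
import Cfsg.Agent.Lib_helper1_Compl

set_option autoImplicit false
open Cfsg

namespace Cfsg.Agent.S0576

open Cfsg.Agent.helper1

/-- Let H be a normal subgroup of a finite group G with H contained in the Frattini subgroup of G. Then the group of inner automorphisms of H is contained in the Frattini subgroup of the automorphism group of H. -/
theorem result {G : Type*} [Group G] [Finite G] (H : Subgroup G) [H.Normal] (hH : H ≤ frattini G) : (MulAut.conj : ↥H →* MulAut ↥H).range ≤ frattini (MulAut ↥H) := by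
  classical
  unfold frattini Order.radical
  apply le_iInf₂
  intro U hU
  by_contra hIU
  -- Inn(H) is normal in Aut(H)
  have hIn : ((MulAut.conj : ↥H →* MulAut ↥H).range).Normal := by
    constructor
    rintro _ ⟨h, rfl⟩ φ
    refine ⟨φ h, ?_⟩
    ext x
    simp [MulAut.conj_apply]
  haveI := hIn
  have hsup : (MulAut.conj : ↥H →* MulAut ↥H).range ⊔ U = ⊤ := coatom_sup_eq_top hU hIU
  -- the conjugation hom
  have hW : H ⊔ U.comap (MulAut.conjNormal (H := H)) = ⊤ := by
    rw [eq_top_iff]
    intro g _
    have hg : (MulAut.conjNormal (H := H) g) ∈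
        (((MulAut.conj : ↥H →* MulAut ↥H).range ⊔ U : Subgroup (MulAut ↥H)) :
          Set (MulAut ↥H)) := by
      rw [hsup]; trivial
    rw [Subgroup.normal_mul] at hg
    obtain ⟨i, ⟨h, rfl⟩, u, hu, e⟩ := hg
    have hconj : (MulAut.conj h : MulAut ↥H) = MulAut.conjNormal (H := H) (h : G) := by
      ext x
      simp [MulAut.conj_apply, MulAut.conjNormal_apply]
    have hu' : MulAut.conjNormal (H := H) ((h : G)⁻¹ * g) = u := by
      rw [map_mul, map_inv, ← hconj, ← e]
      group
    have hmem : (h : G)⁻¹ * g ∈ U.comap (MulAut.conjNormal (H := H)) := by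
      rw [Subgroup.mem_comap, hu']; exact hu
    have : g = (h : G) * ((h : G)⁻¹ * g) := by group
    rw [this]
    exact Subgroup.mul_mem _ (Subgroup.mem_sup_left h.2) (Subgroup.mem_sup_right hmem)
  have hWtop : U.comap (MulAut.conjNormal (H := H)) = ⊤ := by
    apply frattini_nongenerating
    rw [eq_top_iff, ← hW]
    exact sup_le (hH.trans le_sup_right) le_sup_left
  apply hIU
  rintro _ ⟨h, rfl⟩
  have hconj : (MulAut.conj h : MulAut ↥H) = MulAut.conjNormal (H := H) (h : G) := by
    ext x
    simp [MulAut.conj_apply, MulAut.conjNormal_apply]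
  rw [hconj]
  have : (h : G) ∈ U.comap (MulAut.conjNormal (H := H)) := by rw [hWtop]; trivial
  exact this

end Cfsg.Agent.S0576
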