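import Mathlib
import Cfsg.Statements.S0577
import Cfsg.Agent.Lib_helper17_MinNonNil

set_option autoImplicit false

open Cfsg

namespace Cfsg.Agent.S0577

open Cfsg.Agent.helper17.MNN
open scoped commutatorElement Pointwise

theorem mem_conj_sylow {G : Type*} [Group G] {p : ℕ} {g b : G} {P : Sylow p G} :
    b ∈ ((g • P : Sylow p G) : Subgroup G) ↔ g⁻¹ * b * g ∈ (P : Subgroup G) := by
  rw [Sylow.coe_subgroup_smul, Subgroup.mem_pointwise_smul_iff_inv_smul_mem]
  simp [MulAut.smul_def]

theorem result {G : Type*} [Group G] [Finite G] (hG : Cfsg.IsMinimalNonNilpotent G) (q : ℕ) [Fact q.Prime] (hq : q ∣ Nat.card G) (Q : Sylow q G) (hQ : (Q : Subgroup G).Normal) (D : Subgroup G) [D.Normal] (hD : D = (commutator ↥(Q : Subgroup G)).map (Q : Subgroup G).subtype) : ¬ IsMulCommutative (G ⧸ D) ∧ ∀ K : Subgroup (G ⧸ D), K ≠ ⊤ → IsMulCommutative K := by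
  classical
  obtain ⟨hnn, hprop⟩ := hG
  obtain ⟨p, q0, hp, hq0, hpq0, P, Q0, ⟨x, hx⟩, hQ0n, hPQ0⟩ := minNonNilpotent_structure hnn hprop
  haveI : Fact p.Prime := ⟨hp⟩
  haveI : Fact q0.Prime := ⟨hq0⟩
  haveI := hQ0n
  haveI := hQ
  have hPnn : ¬ (P : Subgroup G).Normal := not_normal_of_sup_eq_top hnn P Q0 hQ0n hPQ0
  have hQne : (Q : Subgroup G) ≠ ⊥ := Q.ne_bot_of_dvd_card hq
  -- q ≠ p
  have hqp : q ≠ p := by
    intro h
    apply hPnn
    have hall : ∀ (P' : Sylow q G), (P' : Subgroup G).Normal := by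
      intro P'
      obtain ⟨g, rfl⟩ := MulAction.exists_smul_eq G Q P'
      rw [Sylow.smul_eq_of_normal]
      exact hQ
    have hall' : ∀ (P' : Sylow p G), (P' : Subgroup G).Normal := by
      rw [← h]; exact hall
    exact hall' P
  -- q = q0
  have hqq0 : q = q0 := by
    by_contra hne
    apply hQne
    rw [eq_bot_iff]
    intro y hy
    obtain ⟨k, hk⟩ := Q.isPGroup' ⟨y, hy⟩
    have hk' : y ^ (q ^ k) = 1 := by simpa using congrArg Subtype.val hk
    rw [Subgroup.mem_bot]
    exact eq_one_of_pow_eq_one_of_sup hqp hne P Q0 hPQ0 hk'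
  have hPQ : (P : Subgroup G) ⊔ Q = ⊤ := by
    have hall : ∀ (Q' : Sylow q0 G), (P : Subgroup G) ⊔ Q' = ⊤ := by
      intro Q'
      obtain ⟨g, rfl⟩ := MulAction.exists_smul_eq G Q0 Q'
      rw [Sylow.smul_eq_of_normal]
      exact hPQ0
    have hall' : ∀ (Q' : Sylow q G), (P : Subgroup G) ⊔ Q' = ⊤ := by
      rw [hqq0]; exact hall
    exact hall' Q
  have hpq : p ≠ q := fun h => hqp h.symm
  have hdisj : (P : Subgroup G) ⊓ Q = ⊥ :=
    (IsPGroup.disjoint_of_ne p q hpq _ _ P.isPGroup' Q.isPGroup').eq_bot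
  have hDQ : D ≤ (Q : Subgroup G) := by
    rw [hD]; exact Subgroup.map_subtype_le _
  have hxP : x ∈ (P : Subgroup G) := by rw [hx]; exact Subgroup.mem_zpowers x
  -- commutators of elements of Q lie in D
  have hcommD : ∀ a ∈ (Q : Subgroup G), ∀ b ∈ (Q : Subgroup G), a * b * a⁻¹ * b⁻¹ ∈ D := by
    intro a ha b hb
    rw [hD]
    refine ⟨⁅(⟨a, ha⟩ : (Q : Subgroup G)), ⟨b, hb⟩⁆, ?_, ?_⟩
    · rw [commutator_def]
      exact Subgroup.commutator_mem_commutator (Subgroup.mem_top _) (Subgroup.mem_top _)
    · simp [commutatorElement_def]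
  have hmkD : ∀ g : G, (g : G ⧸ D) = 1 ↔ g ∈ D := fun g => QuotientGroup.eq_one_iff g
  constructor
  · -- G/D is not commutative
    intro hcomm
    have hc : ∀ g h : G, g * h * g⁻¹ * h⁻¹ ∈ D := by
      intro g h
      rw [← hmkD]
      have := hcomm.is_comm.comm (g : G ⧸ D) (h : G ⧸ D)
      rw [QuotientGroup.mk_mul, QuotientGroup.mk_mul, QuotientGroup.mk_inv, QuotientGroup.mk_inv,
        QuotientGroup.mk_mul, this]
      group
    by_cases hH : (P : Subgroup G) ⊔ D = ⊤
    · -- then Q ≤ D, so Q is perfect, impossible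
      have hQD : (Q : Subgroup G) ≤ D := by
        intro y hy
        have hy' : y ∈ (P : Subgroup G) ⊔ D := hH ▸ Subgroup.mem_top y
        rw [Subgroup.mem_sup_of_normal_right] at hy'
        obtain ⟨a, ha, d, hd, had⟩ := hy'
        have haQ : a ∈ (Q : Subgroup G) := by
          have e : a = y * d⁻¹ := by rw [← had]; group
          rw [e]; exact mul_mem hy (inv_mem (hDQ hd))
        have ha1 : a = 1 := by
          have ha2 : a ∈ (P : Subgroup G) ⊓ Q := ⟨ha, haQ⟩
          rwa [hdisj, Subgroup.mem_bot] at ha2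
        rw [← had, ha1, one_mul]; exact hd
      have htop : commutator ↥(Q : Subgroup G) = ⊤ := by
        rw [eq_top_iff]
        intro y _
        have hy : (y : G) ∈ D := hQD y.2
        rw [hD] at hy
        obtain ⟨z, hz, hzy⟩ := hy
        have : z = y := Subtype.ext hzy
        rw [← this]; exact hz
      haveI : Nontrivial ↥(Q : Subgroup G) := (Subgroup.nontrivial_iff_ne_bot _).2 hQne
      haveI : Group.IsNilpotent ↥(Q : Subgroup G) := Q.isPGroup'.isNilpotent
      have hlt : commutator ↥(Q : Subgroup G) < ⊤ :=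
        Group.IsSolvable.commutator_lt_top_of_nontrivial _
      exact hlt.ne htop
    · -- P ⊔ D nilpotent, normal; P is then normal in G
      apply hPnn
      have hHnil := hprop _ hH
      have hHN : (P : Subgroup G) ⊔ D ≤ Subgroup.normalizer ((P : Subgroup G) : Set G) :=
        le_normalizer_of_nilpotent _ hHnil P le_sup_left
      refine ⟨fun a ha g => ?_⟩
      -- the conjugate Sylow subgroup
      have hsub : ((g • P : Sylow p G) : Subgroup G) ≤ (P : Subgroup G) := by
        have h1 : ((g • P : Sylow p G) : Subgroup G) ≤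
            Subgroup.normalizer ((P : Subgroup G) : Set G) := by
          refine le_trans ?_ hHN
          intro b hb
          rw [mem_conj_sylow] at hb
          have e : b = (g * (g⁻¹ * b * g) * g⁻¹ * (g⁻¹ * b * g)⁻¹) * (g⁻¹ * b * g) := by group
          rw [e]
          exact mul_mem (le_sup_right (a := (P : Subgroup G)) (hc g (g⁻¹ * b * g)))
            (le_sup_left (b := D) hb)
        have h2 : ((g • P : Sylow p G) : Subgroup G) ⊓
            Subgroup.normalizer ((P : Subgroup G) : Set G) =
            ((g • P : Sylow p G) : Subgroup G) ⊓ (P : Subgroup G) :=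
          (g • P : Sylow p G).isPGroup'.inf_normalizer_sylow P
        rw [inf_of_le_left h1] at h2
        rw [h2]; exact inf_le_right
      apply hsub
      rw [mem_conj_sylow]
      have e : g⁻¹ * (g * a * g⁻¹) * g = a := by group
      rw [e]; exact ha
  · -- proper subgroups of G/D are commutative
    intro K hK
    have hsurj : Function.Surjective (QuotientGroup.mk' D) := QuotientGroup.mk'_surjective D
    have hKc : K.comap (QuotientGroup.mk' D) ≠ ⊤ := by
      intro h
      apply hK
      rw [← Subgroup.map_comap_eq_self_of_surjective hsurj K, h,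
        Subgroup.map_top_of_surjective _ hsurj]
    have hnil1 := hprop _ hKc
    have hKnil : Group.IsNilpotent K := by
      have e : K = (K.comap (QuotientGroup.mk' D)).map (QuotientGroup.mk' D) :=
        (Subgroup.map_comap_eq_self_of_surjective hsurj _).symm
      rw [e]
      exact Group.nilpotent_of_surjective ((QuotientGroup.mk' D).subgroupMap _)
        (MonoidHom.subgroupMap_surjective _ _)
    -- images of Sylow subgroups of G are commutative in G/D
    have hSyl : ∀ (r : ℕ) [Fact r.Prime] (S : Sylow r G), ∀ a ∈ (S : Subgroup G),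
        ∀ b ∈ (S : Subgroup G), (a : G ⧸ D) * (b : G ⧸ D) = (b : G ⧸ D) * (a : G ⧸ D) := by
      intro r _ S a ha b hb
      by_cases hrq : r = q
      · subst hrq
        have hSQ : S = Q := by
          obtain ⟨g, rfl⟩ := MulAction.exists_smul_eq G Q S
          exact Sylow.smul_eq_of_normal
        rw [hSQ] at ha hb
        have h1 := (hmkD _).2 (hcommD a ha b hb)
        rw [QuotientGroup.mk_mul, QuotientGroup.mk_mul, QuotientGroup.mk_mul,
          QuotientGroup.mk_inv, QuotientGroup.mk_inv] at h1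
        have h2 := mul_inv_eq_one.1 h1
        exact mul_inv_eq_iff_eq_mul.1 h2
      · by_cases hrp : r = p
        · subst hrp
          obtain ⟨g, rfl⟩ := MulAction.exists_smul_eq G P S
          have ha' : g⁻¹ * a * g ∈ (P : Subgroup G) := mem_conj_sylow.1 ha
          have hb' : g⁻¹ * b * g ∈ (P : Subgroup G) := mem_conj_sylow.1 hb
          rw [hx, Subgroup.mem_zpowers_iff] at ha' hb'
          obtain ⟨i, hi⟩ := ha'
          obtain ⟨j, hj⟩ := hb'
          have hcm : (g⁻¹ * a * g) * (g⁻¹ * b * g) = (g⁻¹ * b * g) * (g⁻¹ * a * g) := by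
            rw [← hi, ← hj]
            exact ((Commute.refl x).zpow_zpow i j).eq
          have hab : a * b = b * a := by
            have e1 : a * b = g * ((g⁻¹ * a * g) * (g⁻¹ * b * g)) * g⁻¹ := by group
            have e2 : b * a = g * ((g⁻¹ * b * g) * (g⁻¹ * a * g)) * g⁻¹ := by group
            rw [e1, e2, hcm]
          rw [← QuotientGroup.mk_mul, ← QuotientGroup.mk_mul, hab]
        · have ha1 : a = 1 := by
            obtain ⟨k, hk⟩ := S.isPGroup' ⟨a, ha⟩
            have hk' : a ^ (r ^ k) = 1 := by simpa using congrArg Subtype.val hk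
            exact eq_one_of_pow_eq_one_of_sup hrp hrq P Q hPQ hk'
          rw [ha1]; simp
    have hKcomm : ∀ a b : K, a * b = b * a := by
      apply comm_of_nilpotent_of_sylow_comm hKnil
      intro r _ T s hs t ht
      -- the image of T in G/D is an r-group, inside the image of a Sylow subgroup of G
      have hT' : IsPGroup r ((T : Subgroup K).map K.subtype) := T.isPGroup'.map _
      obtain ⟨S', hS'⟩ := hT'.exists_le_sylow
      obtain ⟨S, rfl⟩ := Sylow.mapSurjective_surjective hsurj r S'
      have hs' : (s : G ⧸ D) ∈ (S.mapSurjective hsurj : Subgroup (G ⧸ D)) :=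
        hS' ⟨s, hs, rfl⟩
      have ht' : (t : G ⧸ D) ∈ (S.mapSurjective hsurj : Subgroup (G ⧸ D)) :=
        hS' ⟨t, ht, rfl⟩
      rw [Sylow.coe_mapSurjective] at hs' ht'
      obtain ⟨a, ha, has⟩ := hs'
      obtain ⟨b, hb, hbt⟩ := ht'
      apply Subtype.ext
      rw [Subgroup.coe_mul, Subgroup.coe_mul, ← has, ← hbt]
      exact hSyl r S a ha b hb
    exact ⟨⟨hKcomm⟩⟩

end Cfsg.Agent.S0577
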