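import Cfsg.Statements.S0578
import Mathlib

set_option autoImplicit false
open Cfsg

namespace Cfsg.Agent.S0578

open Subgroup
open scoped commutatorElement

/-- Under the hypothesis, every `p`-subgroup is abelian. -/
theorem pgroup_comm {G : Type*} [Group G] [Finite G]
    (h : ∀ A : Subgroup G, IsMulCommutative A → Subgroup.normalizer (A : Set G) = Subgroup.centralizer (A : Set G))
    (p : ℕ) [Fact p.Prime] (P : Subgroup G) (hP : IsPGroup p P) : IsMulCommutative P := by
  obtain ⟨A, hA⟩ := exists_maximal_of_wellFoundedGT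
    (fun A : Subgroup G => A ≤ P ∧ IsMulCommutative A) ⟨⊥, bot_le, inferInstance⟩
  obtain ⟨⟨hAP, hAc⟩, hAmax⟩ := hA
  suffices hPA : P ≤ A by
    have : A = P := le_antisymm hAP hPA
    rw [← this]; exact hAc
  by_contra hne
  haveI : Group.IsNilpotent P := hP.isNilpotent
  have hnc : NormalizerCondition P := Group.normalizerCondition_of_isNilpotent
  have hlt : A.subgroupOf P < ⊤ := by
    rw [lt_top_iff_ne_top, Ne, Subgroup.subgroupOf_eq_top]
    exact hne
  have hlt2 := hnc _ hlt
  obtain ⟨x, hxN, hxA⟩ := SetLike.exists_of_lt hlt2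
  -- x normalizes A in G
  have hxG : (x : G) ∈ Subgroup.normalizer (A : Set G) := by
    rw [Subgroup.mem_normalizer_iff]
    rw [Subgroup.mem_normalizer_iff] at hxN
    intro g
    constructor
    · intro hg
      have := (hxN ⟨g, hAP hg⟩).1 (by rw [Subgroup.mem_subgroupOf]; exact hg)
      rw [Subgroup.mem_subgroupOf] at this
      simpa using this
    · intro hg
      have hgP : g ∈ P := by
        have e : g = (x : G)⁻¹ * ((x : G) * g * (x : G)⁻¹) * (x : G) := by group
        rw [e]
        exact P.mul_mem (P.mul_mem (P.inv_mem x.2) (hAP hg)) x.2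
      have := (hxN ⟨g, hgP⟩).2 (by rw [Subgroup.mem_subgroupOf]; simpa using hg)
      rw [Subgroup.mem_subgroupOf] at this
      exact this
  rw [h A hAc] at hxG
  -- A ⊔ zpowers x is abelian
  have hcomm : IsMulCommutative (A ⊔ Subgroup.zpowers (x : G) : Subgroup G) := by
    have e : (A ⊔ Subgroup.zpowers (x : G) : Subgroup G) = Subgroup.closure ((A : Set G) ∪ {(x : G)}) := by
      rw [Subgroup.closure_union, Subgroup.closure_eq, Subgroup.zpowers_eq_closure]
    rw [e]
    apply Subgroup.isMulCommutative_closure
    intro a ha b hb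
    rcases ha with ha | ha <;> rcases hb with hb | hb
    · have := mul_comm' (⟨a, ha⟩ : A) ⟨b, hb⟩
      exact congrArg (fun t : A => (t : G)) this
    · rw [Set.mem_singleton_iff] at hb; subst hb
      exact Subgroup.mem_centralizer_iff.1 hxG a ha
    · rw [Set.mem_singleton_iff] at ha; subst ha
      exact (Subgroup.mem_centralizer_iff.1 hxG b hb).symm
    · rw [Set.mem_singleton_iff] at ha hb; subst ha; subst hb; rfl
  have hle : A ⊔ Subgroup.zpowers (x : G) ≤ P := by
    apply sup_le hAP
    rw [Subgroup.zpowers_le]; exact x.2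
  have := hAmax ⟨hle, hcomm⟩ le_sup_left
  apply hxA
  rw [Subgroup.mem_subgroupOf]
  exact this (Subgroup.mem_sup_right (Subgroup.mem_zpowers _))

theorem result {G : Type*} [Group G] [Finite G] (h : ∀ A : Subgroup G, IsMulCommutative A → Subgroup.normalizer (A : Set G) = Subgroup.centralizer (A : Set G)) : IsMulCommutative G := by
  have hcomm : commutator G = ⊥ := by
    rw [← Subgroup.card_eq_one]
    by_contra hne
    obtain ⟨p, hp, hpd⟩ := Nat.exists_prime_and_dvd hne
    haveI : Fact p.Prime := ⟨hp⟩
    obtain ⟨P⟩ : Nonempty (Sylow p G) := inferInstance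
    have hPc : IsMulCommutative (P : Subgroup G) := pgroup_comm h p P P.2
    have hP : normalizer ((P : Subgroup G) : Set G) ≤ centralizer ((P : Subgroup G) : Set G) := by
      rw [h P hPc]
    have hker : commutator G ≤ (MonoidHom.transferSylow P hP).ker := by
      rw [_root_.commutator_def, Subgroup.commutator_le]
      intro a _ b _
      rw [MonoidHom.mem_ker, map_commutatorElement, commutatorElement_eq_one_iff_mul_comm]
      exact mul_comm' _ _
    have h1 := MonoidHom.not_dvd_card_ker_transferSylow P hP
    exact h1 (hpd.trans (Subgroup.card_dvd_of_le hker))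
  refine ⟨⟨fun a b => ?_⟩⟩
  have : ⁅a, b⁆ ∈ commutator G := by
    rw [_root_.commutator_def]
    exact Subgroup.commutator_mem_commutator (Subgroup.mem_top a) (Subgroup.mem_top b)
  rw [hcomm, Subgroup.mem_bot, commutatorElement_eq_one_iff_mul_comm] at this
  exact this

end Cfsg.Agent.S0578
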