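import Cfsg.Statements.S0579
import Cfsg.Agent.Lib_helper18_Huppert
import Cfsg.Agent.Lib_helper3_SS3

set_option autoImplicit false
set_option linter.unusedSectionVars false
set_option linter.unusedVariables false
set_option linter.style.longLine false
set_option linter.style.haveILetI false

namespace Cfsg.Agent.S0579

open Cfsg.Agent.helper18.Hup
open scoped commutatorElement

universe u

/-- the chief-factor property in a group whose proper quotients are supersolvable -/
theorem chief_step {G : Type u} [Group G] [Finite G] (p : ℕ) [hp : Fact p.Prime]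
    (P A : Subgroup G) [hPn : P.Normal] [hAn : A.Normal] (hP : IsPGroup p P) (hAP : A ≤ P)
    (hne : A ≠ P) (hss : Cfsg.IsSupersolvable (G ⧸ A)) :
    ∃ B : Subgroup G, B.Normal ∧ A ≤ B ∧ B ≤ P ∧ A.relIndex B = p := by
  have hsurj := QuotientGroup.mk'_surjective A
  haveI hPbn : (P.map (QuotientGroup.mk' A)).Normal := Subgroup.Normal.map hPn _ hsurj
  have hPbp : IsPGroup p (P.map (QuotientGroup.mk' A)) := hP.map _
  have hPbne : P.map (QuotientGroup.mk' A) ≠ ⊥ := by
    intro h
    apply hne
    apply le_antisymm hAP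
    intro x hx
    have : QuotientGroup.mk' A x ∈ P.map (QuotientGroup.mk' A) := ⟨x, hx, rfl⟩
    rw [h, Subgroup.mem_bot] at this
    exact (QuotientGroup.eq_one_iff x).1 this
  obtain ⟨C, hCP, hCn, hCcard⟩ :=
    Cfsg.Agent.helper3.exists_normal_prime_card_le hss (P.map (QuotientGroup.mk' A)) hPbp hPbne
  have hker : (QuotientGroup.mk' A).ker = A := QuotientGroup.ker_mk' A
  refine ⟨C.comap (QuotientGroup.mk' A), hCn.comap _, ?_, ?_, ?_⟩
  · conv_lhs => rw [← hker]
    exact Subgroup.ker_le_comap _ _
  · calc C.comap (QuotientGroup.mk' A) ≤ (P.map (QuotientGroup.mk' A)).comap (QuotientGroup.mk' A) :=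
          Subgroup.comap_mono hCP
      _ = P := Subgroup.comap_map_eq_self (by rw [hker]; exact hAP)
  · have := Subgroup.relIndex_ker (C.comap (QuotientGroup.mk' A)) (QuotientGroup.mk' A)
    rw [hker, Subgroup.map_comap_eq_self_of_surjective hsurj] at this
    rw [this, hCcard]

theorem main : ∀ (n : ℕ) (G : Type u) [Group G] [Finite G], Nat.card G = n → MaxPrime G →
    Cfsg.IsSupersolvable G := by
  intro n
  induction n using Nat.strong_induction_on with
  | _ n ih =>
  intro G _ _ hcard hG
  by_cases htriv : Subsingleton G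
  · rw [Cfsg.Agent.helper3.isSupersolvable_iff_ssreach]
    have : (⊤ : Subgroup G) = ⊥ := (Subgroup.subsingleton_iff.2 htriv).elim _ _
    rw [this]
    exact Cfsg.Agent.helper3.SSReach.bot
  rw [not_subsingleton_iff_nontrivial] at htriv
  have hcard1 : 1 < Nat.card G := Finite.one_lt_card
  -- proper quotients are supersolvable
  have hquot : ∀ (A : Subgroup G) [A.Normal], A ≠ ⊥ → Cfsg.IsSupersolvable (G ⧸ A) := by
    intro A _ hA
    apply ih (Nat.card (G ⧸ A)) _ (G ⧸ A) rfl (hG.quotient A)
    rw [← hcard, ← Subgroup.index_eq_card, ← Subgroup.card_mul_index A]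
    have h1 : 1 < Nat.card A := (Subgroup.one_lt_card_iff_ne_bot A).2 hA
    have h2 : 0 < A.index := Nat.pos_of_ne_zero Subgroup.index_ne_zero_of_finite
    nlinarith
  -- the largest prime
  have hne : (Nat.card G).primeFactors.Nonempty := by
    rw [Nat.nonempty_primeFactors]; exact hcard1
  set p := (Nat.card G).primeFactors.max' hne with hpdef
  have hpmem : p ∈ (Nat.card G).primeFactors := Finset.max'_mem _ hne
  have hpp : p.Prime := (Nat.mem_primeFactors.1 hpmem).1
  have hpd : p ∣ Nat.card G := (Nat.mem_primeFactors.1 hpmem).2.1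
  haveI hp : Fact p.Prime := ⟨hpp⟩
  have hlarge : ∀ q : ℕ, q.Prime → q ∣ Nat.card G → q ≤ p := by
    intro q hq hqd
    apply Finset.le_max'
    exact Nat.mem_primeFactors.2 ⟨hq, hqd, by omega⟩
  obtain ⟨P⟩ : Nonempty (Sylow p G) := inferInstance
  haveI hPn : (P : Subgroup G).Normal := sylow_normal_of_largest hG p hlarge P
  have hPne : (P : Subgroup G) ≠ ⊥ := P.ne_bot_of_dvd_card hpd
  have hPp : IsPGroup p (P : Subgroup G) := P.2
  -- the centre of P
  haveI : Nontrivial ↥(P : Subgroup G) := (Subgroup.nontrivial_iff_ne_bot _).2 hPne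
  haveI : Finite ↥(P : Subgroup G) := inferInstance
  set Z : Subgroup G := (Subgroup.center ↥(P : Subgroup G)).map (P : Subgroup G).subtype with hZdef
  haveI hZn : Z.Normal := ConjAct.normal_of_characteristic_of_normal
  have hZne : Z ≠ ⊥ := by
    rw [hZdef, Ne, Subgroup.map_eq_bot_iff_of_injective _ (Subgroup.subtype_injective _)]
    have : Nontrivial ↥(Subgroup.center ↥(P : Subgroup G)) := hPp.center_nontrivial
    exact (Subgroup.nontrivial_iff_ne_bot _).1 this
  have hZP : Z ≤ (P : Subgroup G) := Subgroup.map_subtype_le _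
  have hZcent : ∀ z ∈ Z, ∀ x ∈ (P : Subgroup G), z * x = x * z := by
    rintro _ ⟨z, hz, rfl⟩ x hx
    have := Subgroup.mem_center_iff.1 hz ⟨x, hx⟩
    have := congrArg Subtype.val this
    simpa using this.symm
  obtain ⟨N, hNn, hNne, hNZ, hmin⟩ := exists_min_normal_le Z hZne
  haveI := hNn
  have hNP : N ≤ (P : Subgroup G) := hNZ.trans hZP
  have hNp : IsPGroup p N := hPp.to_le hNP
  have hab : ∀ a ∈ N, ∀ b ∈ N, a * b = b * a := fun a ha b hb => hZcent a (hNZ ha) b (hNP hb)
  have hPN : (P : Subgroup G) ≤ Subgroup.centralizer (N : Set G) := by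
    intro x hx
    rw [Subgroup.mem_centralizer_iff]
    intro n hn
    exact hZcent n (hNZ hn) x hx
  have hGN : Cfsg.IsSupersolvable (G ⧸ N) := hquot N hNne
  -- it suffices that N is cyclic
  suffices hcyc : IsCyclic N from Cfsg.Agent.helper3.isSupersolvable_of_cyclic_normal N hGN
  by_cases hΦ : N ≤ frattini G
  · -- the Frattini case
    obtain ⟨H, hPH⟩ := Subgroup.exists_right_complement'_of_coprime (N := (P : Subgroup G))
      P.card_coprime_index
    have hHcard : Nat.card H = (P : Subgroup G).index := hPH.symm.index_eq_card.symm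
    have hHcop : (Nat.card H).Coprime p := by
      rw [hHcard]
      exact ((Nat.Prime.coprime_iff_not_dvd hpp).2 P.not_dvd_index).symm
    have hchief : ∀ A : Subgroup G, A.Normal → N ≤ A → A ≤ (P : Subgroup G) → A ≠ (P : Subgroup G) →
        ∃ B : Subgroup G, B.Normal ∧ A ≤ B ∧ B ≤ (P : Subgroup G) ∧ A.relIndex B = p := by
      intro A hAn hNA hAP hAne
      haveI := hAn
      have hA0 : A ≠ ⊥ := by
        intro h
        apply hNne
        rw [eq_bot_iff, ← h]
        exact hNA
      exact chief_step p (P : Subgroup G) A hPp hAP hAne (hquot A hA0)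
    have hT := trivSec_le_centralizer p (P : Subgroup G) N H hPp hNP hPH hHcop hΦ hPN hchief
    have hcardN : Nat.card N = p := by
      apply card_eq_prime_of_abelian_action p N hNne hNp hab hmin
      · intro g h
        exact hT (mem_trivSec_of p _ (Or.inl ⟨g, h, rfl⟩))
      · intro g
        exact hT (mem_trivSec_of p _ (Or.inr ⟨g, rfl⟩))
    exact isCyclic_of_prime_card hcardN
  · obtain ⟨M, hM, hNM⟩ := Cfsg.Agent.helper1.exists_coatom_not_le_of_not_le_frattini hΦ
    have hcardN := card_eq_index_of_not_le N M hab hmin hM hNM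
    haveI : Fact (M.index).Prime := ⟨hG M hM⟩
    exact isCyclic_of_prime_card hcardN

/-- Huppert's supersolvability criterion: if every maximal subgroup of a finite group has prime index, then the group is supersolvable. -/
theorem result {G : Type*} [Group G] [Finite G] (h : ∀ M : Subgroup G, IsCoatom M → M.index.Prime) : Cfsg.IsSupersolvable G :=
  main (Nat.card G) G rfl h

end Cfsg.Agent.S0579
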