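import Cfsg.Statements.S0584
import Mathlib

set_option autoImplicit false
open Cfsg

namespace Cfsg.Agent.S0584

open Subgroup

theorem result {G : Type*} [Group G] [Finite G] (A B : Subgroup G) [A.Normal] [B.Normal] (hBA : B ≤ A) (hB : B ≤ frattini G) (h : Group.IsNilpotent (↥A ⧸ B.subgroupOf A)) : Group.IsNilpotent A := by
  have q := (Group.isNilpotent_of_finite_tfae (G := A)).out 0 3
  rw [q]; clear q
  intro p hp P
  set BA := B.subgroupOf A with hBAdef
  let Q : Sylow p (A ⧸ BA) := P.mapSurjective (QuotientGroup.mk'_surjective BA)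
  haveI hQn : (Q : Subgroup (A ⧸ BA)).Normal := inferInstance
  set R := (Q : Subgroup (A ⧸ BA)).comap (QuotientGroup.mk' BA) with hRdef
  haveI hRn : R.Normal := Subgroup.Normal.comap hQn _
  have hR : R = (P : Subgroup A) ⊔ BA := by
    rw [hRdef, Sylow.coe_mapSurjective, Subgroup.comap_map_eq, QuotientGroup.ker_mk']
  have hPR : (P : Subgroup A) ≤ R := by rw [hR]; exact le_sup_left
  have h1 : normalizer ((P : Subgroup A) : Set A) ⊔ R = ⊤ := Sylow.normalizer_sup_eq_top' P hPR
  have h2 : normalizer ((P : Subgroup A) : Set A) ⊔ BA = ⊤ := by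
    rw [hR, ← sup_assoc, sup_of_le_left (le_normalizer)] at h1
    exact h1
  set N := normalizer (((P : Subgroup A).map A.subtype : Subgroup G) : Set G) with hN
  have h3 : A ≤ N ⊔ B := by
    have e1 : A = (⊤ : Subgroup A).map A.subtype := by
      rw [← MonoidHom.range_eq_map, Subgroup.range_subtype]
    rw [e1, ← h2, Subgroup.map_sup]
    apply sup_le_sup
    · exact le_normalizer_map _
    · rw [hBAdef, Subgroup.subgroupOf_map_subtype]
      exact inf_le_left
  have h4 : N ⊔ A = ⊤ := Sylow.normalizer_sup_eq_top P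
  have h5 : N ⊔ frattini G = ⊤ := by
    rw [eq_top_iff, ← h4]
    apply sup_le le_sup_left
    exact h3.trans (sup_le_sup_left hB N)
  have h6 : N = ⊤ := frattini_nongenerating h5
  have h7 : ((P : Subgroup A).map A.subtype).Normal := normalizer_eq_top_iff.mp h6
  exact h7.of_map_subtype

end Cfsg.Agent.S0584
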