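import Cfsg.Statements.S0585
import Mathlib

set_option autoImplicit false
open Cfsg

namespace Cfsg.Agent.S0585

open Subgroup
open scoped Pointwise

theorem result {G : Type*} [Group G] [Finite G] (hΦ : frattini G = ⊥) (A : Subgroup G) [A.Normal] [IsMulCommutative A] : ∃ H : Subgroup G, Subgroup.IsComplement' A H := by
  obtain ⟨H, hH⟩ := exists_minimal_of_wellFoundedLT (fun H : Subgroup G => A ⊔ H = ⊤) ⟨⊤, sup_top_eq _⟩
  have hAH : A ⊔ H = ⊤ := hH.1
  refine ⟨H, ?_⟩
  -- D = A ⊓ H is normal in G
  set D := A ⊓ H with hD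
  have hDn : D.Normal := by
    rw [← normalizer_eq_top_iff, eq_top_iff, ← hAH]
    apply sup_le
    · intro a ha
      rw [Subgroup.mem_normalizer_iff]
      intro d
      have key : ∀ d ∈ A, a * d * a⁻¹ = d := by
        intro d hd
        have := mul_comm' (⟨a, ha⟩ : A) ⟨d, hd⟩
        have h2 := congrArg (fun t : A => (t : G)) this
        change a * d = d * a at h2
        rw [h2]; group
      constructor
      · intro hd
        rw [key d hd.1]; exact hd
      · intro hd
        have hdA : d ∈ A := by
          have := (inferInstance : A.Normal).conj_mem _ hd.1 a⁻¹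
          have e : a⁻¹ * (a * d * a⁻¹) * a⁻¹⁻¹ = d := by group
          rwa [e] at this
        rw [key d hdA] at hd; exact hd
    · intro u hu
      rw [Subgroup.mem_normalizer_iff]
      intro d
      constructor
      · intro hd
        exact ⟨(inferInstance : A.Normal).conj_mem _ hd.1 u, H.mul_mem (H.mul_mem hu hd.2) (H.inv_mem hu)⟩
      · intro hd
        have e : d = u⁻¹ * (u * d * u⁻¹) * u⁻¹⁻¹ := by group
        rw [e]
        exact ⟨(inferInstance : A.Normal).conj_mem _ hd.1 u⁻¹, H.mul_mem (H.mul_mem (H.inv_mem hu) hd.2) (H.inv_mem (H.inv_mem hu))⟩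
  have hD0 : D = ⊥ := by
    by_contra hne
    -- some coatom M does not contain D
    have : ∃ M : Subgroup G, IsCoatom M ∧ ¬ D ≤ M := by
      by_contra hcon
      push Not at hcon
      apply hne
      rw [eq_bot_iff, ← hΦ]
      unfold frattini Order.radical
      exact le_iInf₂ hcon
    obtain ⟨M, hM, hDM⟩ := this
    have hsup : D ⊔ M = ⊤ := by
      by_contra h
      have h1 : M < D ⊔ M := lt_of_le_of_ne le_sup_right (fun h2 => hDM (by rw [h2]; exact le_sup_left))
      exact h (hM.2 _ h1)
    have hH' : A ⊔ (H ⊓ M) = ⊤ := by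
      rw [eq_top_iff]
      intro g _
      have hg : g ∈ ((A ⊔ H : Subgroup G) : Set G) := by rw [hAH]; trivial
      rw [Subgroup.normal_mul] at hg
      obtain ⟨a, ha, h, hh, rfl⟩ := hg
      have hh' : h ∈ ((D ⊔ M : Subgroup G) : Set G) := by rw [hsup]; trivial
      haveI := hDn
      rw [Subgroup.normal_mul] at hh'
      obtain ⟨d, hd, m, hm, rfl⟩ := hh'
      change a * (d * m) ∈ A ⊔ (H ⊓ M)
      have hmH : m ∈ H := by
        have : m = d⁻¹ * (d * m) := by group
        rw [this]; exact H.mul_mem (H.inv_mem hd.2) hh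
      have : a * (d * m) = (a * d) * m := by group
      rw [this]
      exact Subgroup.mul_mem _ (Subgroup.mem_sup_left (A.mul_mem ha hd.1)) (Subgroup.mem_sup_right ⟨hmH, hm⟩)
    have hle : H ≤ H ⊓ M := hH.2 hH' inf_le_left
    exact hDM ((inf_le_right : D ≤ H).trans (hle.trans inf_le_right))
  apply isComplement'_of_disjoint_and_mul_eq_univ
  · rw [disjoint_iff]; exact hD0
  · rw [← Subgroup.normal_mul, hAH]; rfl

end Cfsg.Agent.S0585
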