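import Cfsg.Statements.S0587
import Mathlib
import Cfsg.Agent.Lib_helper3_Prim
import Cfsg.Agent.Lib_helper1_Core

set_option autoImplicit false
open Cfsg

namespace Cfsg.Agent.S0587

open Cfsg.Agent.helper3 Cfsg.Agent.helper1

/-- Fixed-point congruence for a `q`-subgroup `Q` acting by conjugation on a normal subgroup `P`
with `C_P(Q) = 1`. -/
theorem card_mod_of_fixed_trivial {G : Type*} [Group G] [Finite G] {q : ℕ} [Fact q.Prime]
    (P Q : Subgroup G) [hP : P.Normal] (hQ : IsPGroup q Q)
    (hfix : ∀ x ∈ P, (∀ y ∈ Q, y * x * y⁻¹ = x) → x = 1) :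
    Nat.card P ≡ 1 [MOD q] := by
  let f : ↥Q →* MulAut ↥P := (MulAut.conjNormal (H := P)).comp Q.subtype
  letI : MulAction ↥Q ↥P := MulAction.compHom ↥P f
  have h1 := hQ.card_modEq_card_fixedPoints ↥P
  have h2 : Nat.card (MulAction.fixedPoints ↥Q ↥P) = 1 := by
    rw [Nat.card_eq_one_iff_unique]
    refine ⟨⟨?_⟩, ⟨⟨1, ?_⟩⟩⟩
    · rintro ⟨x, hx⟩ ⟨y, hy⟩
      have key : ∀ z : ↥P, z ∈ MulAction.fixedPoints ↥Q ↥P → z = 1 := by
        intro z hz
        apply Subtype.ext
        apply hfix z.1 z.2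
        intro y hy
        have h0 : f ⟨y, hy⟩ z = z := hz ⟨y, hy⟩
        have h3 : ((MulAut.conjNormal (y : G) z : ↥P) : G) = z := congrArg Subtype.val h0
        rwa [MulAut.conjNormal_apply] at h3
      apply Subtype.ext
      show x = y
      rw [key x hx, key y hy]
    · intro y
      show f y 1 = 1
      exact map_one _
  rw [h2] at h1
  exact h1

/-- Let G be a finite group whose largest normal p-subgroup L is nontrivial, and M a maximal subgroup of G with trivial normal core. Then L is elementary abelian, M is a complement to L, L is a minimal normal subgroup of G, the centralizer of L is L, and for every prime q such that the largest normal q-subgroup of M is nontrivial, the order of L is congruent to 1 modulo q and q ≠ p. -/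
theorem result {G : Type*} [Group G] [Finite G] (p : ℕ) [Fact p.Prime] (hL : Cfsg.pCore p G ≠ ⊥) (M : Subgroup G) (hM : IsCoatom M) (hcore : M.normalCore = ⊥) : Cfsg.IsElementaryAbelian p (Cfsg.pCore p G) ∧ Subgroup.IsComplement' (Cfsg.pCore p G) M ∧ (∀ K : Subgroup G, K.Normal → K ≤ Cfsg.pCore p G → K = ⊥ ∨ K = Cfsg.pCore p G) ∧ Subgroup.centralizer ((Cfsg.pCore p G : Subgroup G) : Set G) = Cfsg.pCore p G ∧ ∀ (q : ℕ) [Fact q.Prime], Cfsg.pCore q ↥M ≠ ⊥ → Nat.card (Cfsg.pCore p G) % q = 1 % q ∧ q ≠ p := by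
  classical
  have hp : p.Prime := Fact.out
  set P := Cfsg.pCore p G with hPdef
  haveI hPn : P.Normal := pCore_normal p
  have hPp : IsPGroup p P := pCore_isPGroup p
  -- the centre of P
  have hZn : (P ⊓ Subgroup.centralizer (P : Set G)).Normal := Subgroup.normal_inf_normal _ _
  have hZab : ∀ x ∈ P ⊓ Subgroup.centralizer (P : Set G),
      ∀ y ∈ P ⊓ Subgroup.centralizer (P : Set G), x * y = y * x := by
    intro x hx y hy
    exact ((Subgroup.mem_centralizer_iff.mp hx.2) y hy.1).symm
  have hZne : P ⊓ Subgroup.centralizer (P : Set G) ≠ ⊥ := by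
    haveI : Nontrivial ↥P := (Subgroup.nontrivial_iff_ne_bot P).mpr hL
    haveI := hPp.center_nontrivial
    obtain ⟨z, hz⟩ := exists_ne (1 : Subgroup.center ↥P)
    intro h
    have hzmem : ((z : ↥P) : G) ∈ P ⊓ Subgroup.centralizer (P : Set G) := by
      refine Subgroup.mem_inf.mpr ⟨(z : ↥P).2, ?_⟩
      rw [Subgroup.mem_centralizer_iff]
      intro y hy
      have := (Subgroup.mem_center_iff.mp z.2) ⟨y, hy⟩
      exact congrArg Subtype.val this
    rw [h, Subgroup.mem_bot] at hzmem
    apply hz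
    apply Subtype.ext; apply Subtype.ext
    exact hzmem
  have hZcent := prim_centralizer_eq (N := P ⊓ Subgroup.centralizer (P : Set G)) hM hcore hZab hZne
  have hPZ : P ≤ P ⊓ Subgroup.centralizer (P : Set G) := by
    rw [← hZcent]
    intro x hx
    rw [Subgroup.mem_centralizer_iff]
    intro z hz
    exact ((Subgroup.mem_centralizer_iff.mp hz.2) x hx).symm
  have hab : ∀ x ∈ P, ∀ y ∈ P, x * y = y * x := by
    intro x hx y hy
    exact hZab x (hPZ hx) y (hPZ hy)
  have hmin : ∀ K : Subgroup G, K.Normal → K ≤ P → K = ⊥ ∨ K = P := by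
    intro K hK hKP
    by_cases h : K = ⊥
    · exact Or.inl h
    · exact Or.inr (prim_eq_of_le hM hcore hab K hK hKP h)
  have hcent : Subgroup.centralizer (P : Set G) = P := prim_centralizer_eq hM hcore hab hL
  have hcompl : Subgroup.IsComplement' P M := prim_isComplement' hM hcore hab hL
  have hPM : P ⊓ M = ⊥ := prim_inf_eq_bot hM hcore hab hL
  have hsup : P ⊔ M = ⊤ := prim_sup_eq_top hM hcore P hL
  have hpdvd : p ∣ Nat.card P := by
    obtain ⟨k, hk⟩ := hPp.exists_card_eq
    rcases Nat.eq_zero_or_pos k with h0 | h0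
    · exfalso
      rw [h0, pow_zero] at hk
      exact hL ((Subgroup.card_eq_one).mp hk)
    · rw [hk]; exact dvd_pow_self p h0.ne'
  refine ⟨?_, hcompl, hmin, hcent, ?_⟩
  · -- elementary abelian
    refine ⟨⟨⟨fun a b => Subtype.ext (hab a a.2 b b.2)⟩⟩, ?_⟩
    let Ω : Subgroup G :=
      { carrier := {x | x ∈ P ∧ x ^ p = 1}
        one_mem' := ⟨P.one_mem, one_pow p⟩
        mul_mem' := by
          rintro a b ⟨ha, ha'⟩ ⟨hb, hb'⟩
          refine ⟨P.mul_mem ha hb, ?_⟩
          have : Commute a b := hab a ha b hb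
          rw [this.mul_pow, ha', hb', one_mul]
        inv_mem' := by
          rintro a ⟨ha, ha'⟩
          exact ⟨P.inv_mem ha, by rw [inv_pow, ha', inv_one]⟩ }
    have hΩn : Ω.Normal := by
      constructor
      rintro x ⟨hx, hx'⟩ g
      refine ⟨hPn.conj_mem x hx g, ?_⟩
      rw [conj_pow, hx', mul_one, mul_inv_cancel]
    have hΩP : Ω ≤ P := fun x hx => hx.1
    have hΩne : Ω ≠ ⊥ := by
      obtain ⟨x, hx⟩ := exists_prime_orderOf_dvd_card' (G := ↥P) p hpdvd
      intro h
      have hmem : (x : G) ∈ Ω := by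
        refine ⟨x.2, ?_⟩
        have := pow_orderOf_eq_one x
        rw [hx] at this
        exact_mod_cast congrArg Subtype.val this
      rw [h, Subgroup.mem_bot] at hmem
      have hx1 : x = 1 := Subtype.ext hmem
      rw [hx1, orderOf_one] at hx
      exact hp.one_lt.ne hx
    have hΩ : Ω = P := (hmin Ω hΩn hΩP).resolve_left hΩne
    intro a ha
    rw [← hΩ] at ha
    exact ha.2
  · intro q hqf hQ
    have hq : q.Prime := hqf.out
    set Q : Subgroup G := (Cfsg.pCore q ↥M).map M.subtype with hQdef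
    have hQM : Q ≤ M := Subgroup.map_subtype_le _
    have hQq : IsPGroup q Q := (pCore_isPGroup (G := ↥M) q).map M.subtype
    have hQne : Q ≠ ⊥ := by
      intro h
      apply hQ
      rw [hQdef, Subgroup.map_eq_bot_iff_of_injective _ M.subtype_injective] at h
      exact h
    have hQnorm : ∀ m ∈ M, ∀ y ∈ Q, m * y * m⁻¹ ∈ Q := by
      rintro m hm _ ⟨y, hy, rfl⟩
      have := (pCore_normal (G := ↥M) q).conj_mem y hy ⟨m, hm⟩
      exact ⟨_, this, by simp⟩
    -- C_P(Q) is normal in G
    have hCn : (P ⊓ Subgroup.centralizer (Q : Set G)).Normal := by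
      constructor
      intro x hx g
      obtain ⟨n, hn, m, hm, rfl⟩ := prim_exists_mul hsup g
      have h1 : m * x * m⁻¹ ∈ P ⊓ Subgroup.centralizer (Q : Set G) := by
        refine Subgroup.mem_inf.mpr ⟨hPn.conj_mem _ hx.1 _, ?_⟩
        rw [Subgroup.mem_centralizer_iff]
        intro y hy
        have h2 : m⁻¹ * y * m⁻¹⁻¹ ∈ Q := hQnorm m⁻¹ (M.inv_mem hm) y hy
        have h3 := (Subgroup.mem_centralizer_iff.mp hx.2) _ h2
        have e1 : y * (m * x * m⁻¹) = m * ((m⁻¹ * y * m⁻¹⁻¹) * x) * m⁻¹ := by group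
        have e2 : m * x * m⁻¹ * y = m * (x * (m⁻¹ * y * m⁻¹⁻¹)) * m⁻¹ := by group
        rw [e1, e2, h3]
      have e : n * m * x * (n * m)⁻¹ = n * (m * x * m⁻¹) * n⁻¹ := by group
      rw [e, hab n hn _ h1.1]
      have e' : m * x * m⁻¹ * n * n⁻¹ = m * x * m⁻¹ := by group
      rw [e']; exact h1
    have hC : P ⊓ Subgroup.centralizer (Q : Set G) = ⊥ := by
      rcases hmin _ hCn inf_le_left with h | h
      · exact h
      · exfalso
        apply hQne
        have h1 : Q ≤ Subgroup.centralizer (P : Set G) := by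
          intro y hy
          rw [Subgroup.mem_centralizer_iff]
          intro x hx
          have hx' : x ∈ P ⊓ Subgroup.centralizer (Q : Set G) := by rw [h]; exact hx
          exact ((Subgroup.mem_centralizer_iff.mp hx'.2) y hy).symm
        rw [hcent] at h1
        exact le_bot_iff.mp (hPM ▸ le_inf h1 hQM)
    have hmod : Nat.card P ≡ 1 [MOD q] := by
      apply card_mod_of_fixed_trivial P Q hQq
      intro x hx hfix
      have : x ∈ P ⊓ Subgroup.centralizer (Q : Set G) := by
        refine Subgroup.mem_inf.mpr ⟨hx, ?_⟩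
        rw [Subgroup.mem_centralizer_iff]
        intro y hy
        have := hfix y hy
        calc y * x = (y * x * y⁻¹) * y := by group
          _ = x * y := by rw [this]
      rw [hC, Subgroup.mem_bot] at this
      exact this
    refine ⟨hmod, ?_⟩
    rintro rfl
    have h0 : Nat.card P % q = 0 := Nat.mod_eq_zero_of_dvd hpdvd
    have h1 : Nat.card P % q = 1 % q := hmod
    rw [h0, Nat.mod_eq_of_lt hq.one_lt] at h1
    exact absurd h1 (by norm_num)

end Cfsg.Agent.S0587
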