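import Cfsg.Statements.S0588
import Mathlib

set_option autoImplicit false
open Cfsg

namespace Cfsg.Agent.S0588

theorem result {G : Type*} [Group G] [Finite G] (H : Subgroup G) (h : ∀ x ∈ H, x ≠ 1 → Subgroup.centralizer ({x} : Set G) ≤ H) : (Nat.card H).Coprime H.index := by
  apply Nat.coprime_of_dvd
  intro p hp hpH hpI
  haveI : Fact p.Prime := ⟨hp⟩
  -- an element of order p in H
  obtain ⟨x, hx⟩ := exists_prime_orderOf_dvd_card' p hpH
  have hxG : orderOf (x : G) = p := by rw [Subgroup.orderOf_coe, hx]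
  have hx1 : (x : G) ≠ 1 := by
    intro h1
    rw [h1, orderOf_one] at hxG
    exact hp.one_lt.ne hxG
  -- zpowers x is a p-group
  have hz : IsPGroup p (Subgroup.zpowers (x : G)) := by
    apply IsPGroup.of_card (n := 1)
    rw [Nat.card_zpowers, hxG, pow_one]
  obtain ⟨S, hS⟩ := hz.exists_le_sylow
  have hxS : (x : G) ∈ (S : Subgroup G) := hS (Subgroup.mem_zpowers _)
  haveI : Nontrivial (S : Subgroup G) := by
    refine ⟨⟨⟨x, hxS⟩, 1, ?_⟩⟩
    intro h2
    apply hx1
    have := congrArg (fun t : (S : Subgroup G) => (t : G)) h2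
    simpa using this
  haveI := (S.2).center_nontrivial
  obtain ⟨c, hc⟩ := exists_ne (1 : Subgroup.center (S : Subgroup G))
  have hcS : ∀ y ∈ (S : Subgroup G), y * ((c : (S : Subgroup G)) : G) = ((c : (S : Subgroup G)) : G) * y := by
    intro y hy
    have := Subgroup.mem_center_iff.1 c.2 ⟨y, hy⟩
    have h3 := congrArg (fun t : (S : Subgroup G) => (t : G)) this
    simpa using h3
  set z : G := ((c : (S : Subgroup G)) : G) with hzdef
  have hz1 : z ≠ 1 := by
    intro h1
    apply hc
    apply Subtype.ext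
    apply Subtype.ext
    rw [hzdef] at h1
    simpa using h1
  have hzH : z ∈ H := by
    apply h x x.2 hx1
    rw [Subgroup.mem_centralizer_iff]
    intro t ht
    rw [Set.mem_singleton_iff] at ht
    subst ht
    exact hcS _ hxS
  have hSH : (S : Subgroup G) ≤ H := by
    intro y hy
    apply h z hzH hz1
    rw [Subgroup.mem_centralizer_iff]
    intro t ht
    rw [Set.mem_singleton_iff] at ht
    subst ht
    exact (hcS y hy).symm
  have h1 : Nat.card (S : Subgroup G) ∣ Nat.card H := Subgroup.card_dvd_of_le hSH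
  rw [S.card_eq_multiplicity] at h1
  have h2 : p ^ ((Nat.card G).factorization p + 1) ∣ Nat.card G := by
    have h3 := Nat.mul_dvd_mul h1 hpI
    rw [Subgroup.card_mul_index H, ← pow_succ] at h3
    exact h3
  exact Nat.pow_succ_factorization_not_dvd Nat.card_pos.ne' hp h2

end Cfsg.Agent.S0588
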