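import Cfsg.Statements.S0589
import Cfsg.Agent.Lib_helper21_FrobCount
import Cfsg.Agent.Lib_helper20_FixedPoint
import Mathlib

set_option autoImplicit false
open Pointwise
open Cfsg

namespace Cfsg.Agent.S0589


/-- Let H be a Frobenius complement in a finite group G and L a subgroup of G whose order divides the order of H. Then L is contained in some conjugate of H. -/
theorem result {G : Type*} [Group G] [Finite G] (H : Subgroup G) (hH : Cfsg.IsFrobeniusComplement H) (L : Subgroup G) (hL : Nat.card L ∣ Nat.card H) : ∃ x : G, L ≤ MulAut.conj x • H := by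
  classical
  haveI : Fintype L := Fintype.ofFinite L
  haveI : ∀ l : L, Fintype (MulAction.fixedBy (G ⧸ H) l) := fun l => Fintype.ofFinite _
  haveI : Fintype (Quotient (MulAction.orbitRel L (G ⧸ H))) := Fintype.ofFinite _
  -- cardinalities of fixed point sets
  have hfix_le : ∀ l : L, l ≠ 1 → Fintype.card (MulAction.fixedBy (G ⧸ H) l) ≤ 1 := by
    intro l hl
    rw [← Nat.card_eq_fintype_card]
    have hl' : (l : G) ≠ 1 := fun h => hl (Subtype.ext h)
    by_cases hex : ∃ a : G, a⁻¹ * (l : G) * a ∈ H
    · exact (helper21.frobc_card_fixedBy_eq_one H hH (l : G) hl' hex).le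
    · push Not at hex
      exact (helper21.frobc_card_fixedBy_zero H (l : G) hex).le.trans zero_le_one
  have hfix_one : Fintype.card (MulAction.fixedBy (G ⧸ H) (1 : L)) = H.index := by
    rw [← Nat.card_eq_fintype_card]
    exact helper21.frobc_card_fixedBy_one H
  have hburn := MulAction.sum_card_fixedBy_eq_card_orbits_mul_card_group L (G ⧸ H)
  have hLdvd : Nat.card L ∣ H.index - 1 := hL.trans (helper21.frobc_card_dvd H hH)
  have hidx : 1 ≤ H.index := Nat.one_le_iff_ne_zero.mpr Subgroup.index_ne_zero_of_finite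
  -- every nonidentity element of `L` has exactly one fixed point
  have hall : ∀ l : L, l ≠ 1 → Nat.card (MulAction.fixedBy (G ⧸ H) l) = 1 := by
    intro l₀ hl₀
    by_contra hbad
    have hl₀' : ((l₀ : L) : G) ≠ 1 := fun h => hl₀ (Subtype.ext h)
    have hzero : Fintype.card (MulAction.fixedBy (G ⧸ H) l₀) = 0 := by
      rw [← Nat.card_eq_fintype_card]
      by_cases hex : ∃ a : G, a⁻¹ * (l₀ : G) * a ∈ H
      · exact absurd (helper21.frobc_card_fixedBy_eq_one H hH (l₀ : G) hl₀' hex) hbad
      · push Not at hex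
        exact helper21.frobc_card_fixedBy_zero H (l₀ : G) hex
    have h1 : (1 : L) ∈ (Finset.univ : Finset L) := Finset.mem_univ _
    have h2 : l₀ ∈ (Finset.univ : Finset L).erase 1 := Finset.mem_erase.mpr ⟨hl₀, Finset.mem_univ _⟩
    have hs1 := Finset.add_sum_erase (Finset.univ : Finset L)
      (fun l => Fintype.card (MulAction.fixedBy (G ⧸ H) l)) h1
    have hs2 := Finset.add_sum_erase ((Finset.univ : Finset L).erase 1)
      (fun l => Fintype.card (MulAction.fixedBy (G ⧸ H) l)) h2
    have hs3 : ∑ l ∈ ((Finset.univ : Finset L).erase 1).erase l₀,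
        Fintype.card (MulAction.fixedBy (G ⧸ H) l) ≤ (((Finset.univ : Finset L).erase 1).erase l₀).card • 1 := by
      apply Finset.sum_le_card_nsmul
      intro l hl
      exact hfix_le l (Finset.mem_erase.mp (Finset.mem_erase.mp hl).2).1
    rw [Finset.card_erase_of_mem h2, Finset.card_erase_of_mem h1, Finset.card_univ, smul_eq_mul,
      mul_one] at hs3
    rw [hzero, zero_add] at hs2
    rw [hfix_one, ← hs2] at hs1
    rw [← hs1, ← Nat.card_eq_fintype_card (α := L)] at hburn
    rw [← Nat.card_eq_fintype_card (α := L)] at hs3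
    have hd : Nat.card L ∣ H.index + ∑ l ∈ ((Finset.univ : Finset L).erase 1).erase l₀,
        Fintype.card (MulAction.fixedBy (G ⧸ H) l) := Dvd.intro_left _ hburn.symm
    set T := ∑ l ∈ ((Finset.univ : Finset L).erase 1).erase l₀,
        Fintype.card (MulAction.fixedBy (G ⧸ H) l) with hT
    have hcard2 : 2 ≤ Nat.card L := by
      have : Nontrivial L := ⟨⟨l₀, 1, hl₀⟩⟩
      exact Finite.one_lt_card_iff_nontrivial.mpr this
    have hd2 : Nat.card L ∣ T + 1 := by
      have e : H.index + T = (H.index - 1) + (T + 1) := by omega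
      rw [e] at hd
      exact (Nat.dvd_add_right hLdvd).mp hd
    have := Nat.le_of_dvd (by omega) hd2
    omega
  obtain ⟨x, hx⟩ := helper20.exists_fixed_of_unique_fixed (K := L) (X := G ⧸ H) hall
  obtain ⟨a, rfl⟩ := QuotientGroup.mk_surjective x
  refine ⟨a, ?_⟩
  intro l hl
  rw [helper21.frobc_mem_conj]
  have h3 := hx ⟨l, hl⟩
  have h4 : (QuotientGroup.mk a : G ⧸ H) ∈ MulAction.fixedBy (G ⧸ H) l := h3
  exact (helper21.frobc_fixedBy_iff H l a).mp h4

end Cfsg.Agent.S0589
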