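import Cfsg.Statements.S0591
import Cfsg.Agent.Lib_helper3_Quad
import Mathlib

set_option autoImplicit false
open Cfsg

open scoped commutatorElement
namespace Cfsg.Agent.S0591


/-- For a quadratically acting element a on an elementary abelian p-group V, the fixed points C_V(a) have order at least the square root of the order of V. -/
theorem result {G : Type*} [Group G] [Finite G] {p : ℕ} [Fact p.Prime] (V : Subgroup G) (hV : Cfsg.IsElementaryAbelian p V) (a : G) (ha : a ∈ Subgroup.normalizer (V : Set G)) (hq : ⁅⁅V, Subgroup.zpowers a⁆, Subgroup.zpowers a⁆ = ⊥) : Nat.card V ≤ Nat.card ↥(V ⊓ Subgroup.centralizer (Subgroup.zpowers a : Set G)) ^ 2 := by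
  classical
  have hZ : Subgroup.zpowers a ≤ Subgroup.normalizer (V : Set G) := Subgroup.zpowers_le.mpr ha
  have haZ : a ∈ Subgroup.zpowers a := Subgroup.mem_zpowers a
  set C : Subgroup G := V ⊓ Subgroup.centralizer (Subgroup.zpowers a : Set G) with hC
  -- the homomorphism v ↦ [v, a]
  have hmul : ∀ v w : V, ⁅((v * w : V) : G), a⁆ = ⁅(v : G), a⁆ * ⁅(w : G), a⁆ := by
    intro v w
    have hw : ⁅(w : G), a⁆ ∈ V := helper3.comm_mem_of_normalizer w.2 ha
    have hv : ⁅(v : G), a⁆ ∈ V := helper3.comm_mem_of_normalizer v.2 ha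
    have h1 : ⁅((v * w : V) : G), a⁆ = (v : G) * ⁅(w : G), a⁆ * (v : G)⁻¹ * ⁅(v : G), a⁆ := by
      rw [Subgroup.coe_mul, commutatorElement_def, commutatorElement_def, commutatorElement_def]
      group
    rw [h1, helper3.ea_comm hV v.2 hw, mul_assoc ⁅(w : G), a⁆, mul_inv_cancel, mul_one,
      helper3.ea_comm hV hw hv]
  let f : V →* G := MonoidHom.mk' (fun v => ⁅(v : G), a⁆) hmul
  have hrange : f.range ≤ C := by
    rintro _ ⟨v, rfl⟩
    refine ⟨helper3.comm_mem_of_normalizer v.2 ha, ?_⟩
    show f v ∈ Subgroup.centralizer (Subgroup.zpowers a : Set G)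
    rw [Subgroup.mem_centralizer_iff]
    intro h hh
    exact (helper3.quad_commute hq v.2 haZ hh).eq
  have hker : f.ker ≤ C.subgroupOf V := by
    intro v hv
    rw [MonoidHom.mem_ker] at hv
    have hv' : ⁅(v : G), a⁆ = 1 := hv
    rw [commutatorElement_eq_one_iff_mul_comm] at hv'
    rw [Subgroup.mem_subgroupOf]
    refine ⟨v.2, ?_⟩
    show (v : G) ∈ Subgroup.centralizer (Subgroup.zpowers a : Set G)
    rw [Subgroup.mem_centralizer_iff]
    rintro h ⟨k, rfl⟩
    have hc : Commute a (v : G) := hv'.symm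
    exact (hc.zpow_left k).eq
  have h1 : Nat.card f.ker * f.ker.index = Nat.card V := f.ker.card_mul_index
  rw [Subgroup.index_ker] at h1
  have h2 : Nat.card f.ker ≤ Nat.card C := by
    calc Nat.card f.ker ≤ Nat.card (C.subgroupOf V) := Subgroup.card_le_of_le hker
      _ = Nat.card C := Nat.card_congr (Subgroup.subgroupOfEquivOfLe (inf_le_left : C ≤ V)).toEquiv
  have h3 : Nat.card f.range ≤ Nat.card C := Subgroup.card_le_of_le hrange
  calc Nat.card V = Nat.card f.ker * Nat.card f.range := h1.symm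
    _ ≤ Nat.card C * Nat.card C := Nat.mul_le_mul h2 h3
    _ = Nat.card C ^ 2 := (sq _).symm

end Cfsg.Agent.S0591
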