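import Cfsg.Statements.S0592
-- import your own Cfsg.Agent.* helpers here
import Mathlib
import Cfsg.Agent.Lib_helper4_RedJ

set_option autoImplicit false
open Cfsg

namespace Cfsg.Agent.S0592

open Cfsg.Agent.helper4.Red


/-- Two quadratically acting generators of a linear group that is not a p-group, with the p'-part of the order of their product dividing q - 1, give a homomorphism onto a subgroup of SL(2, q) that is not a p-group. -/
theorem result {K : Type*} [Field K] [Fintype K] {p : ℕ} [Fact p.Prime] [CharP K p] {W : Type*} [AddCommGroup W] [Module K W] [FiniteDimensional K W] [Finite W] [Nontrivial W] (H : Subgroup (W ≃ₗ[K] W)) (a b : W ≃ₗ[K] W) (hH : H = Subgroup.closure {a, b}) (ha : ∀ w : W, a (a w - w) = a w - w) (hb : ∀ w : W, b (b w - w) = b w - w) (hnp : ¬ IsPGroup p H) (hk : ∃ e k : ℕ, orderOf (a * b) = p ^ e * k ∧ k ∣ Fintype.card K - 1) : ∃ φ : H →* Matrix.SpecialLinearGroup (Fin 2) K, ¬ IsPGroup p φ.range := by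
  have haH : a ∈ H := by rw [hH]; exact Subgroup.subset_closure (by simp)
  have hbH : b ∈ H := by rw [hH]; exact Subgroup.subset_closure (by simp)
  have hgen : Subgroup.closure ({⟨a, haH⟩, ⟨b, hbH⟩} : Set H) = ⊤ := by
    apply Subgroup.map_injective H.subtype_injective
    rw [MonoidHom.map_closure, ← MonoidHom.range_eq_map, Subgroup.range_subtype]
    have : (H.subtype '' ({⟨a, haH⟩, ⟨b, hbH⟩} : Set H)) = {a, b} := by
      ext x
      simp [Set.image_insert_eq]
    rw [this, ← hH]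
  let ρ₀ : H →* Module.End K W :=
    { toFun := fun g => ((g : W ≃ₗ[K] W) : W →ₗ[K] W)
      map_one' := by ext w; simp
      map_mul' := fun g h => by ext w; simp }
  have hρ₀ : ∀ (g : H) (w : W), ρ₀ g w = (g : W ≃ₗ[K] W) w := fun g w => rfl
  have ha2 : (ρ₀ ⟨a, haH⟩ - 1) * (ρ₀ ⟨a, haH⟩ - 1) = 0 := by
    ext w
    simp only [Module.End.mul_apply, LinearMap.sub_apply, Module.End.one_apply, hρ₀,
      LinearMap.zero_apply]
    rw [ha, sub_self]
  have hb2 : (ρ₀ ⟨b, hbH⟩ - 1) * (ρ₀ ⟨b, hbH⟩ - 1) = 0 := by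
    ext w
    simp only [Module.End.mul_apply, LinearMap.sub_apply, Module.End.one_apply, hρ₀,
      LinearMap.zero_apply]
    rw [hb, sub_self]
  have hnu : ∃ g : H, ∀ j : ℕ, ρ₀ (g ^ p ^ j) ≠ 1 := by
    unfold IsPGroup at hnp
    simp only [not_forall, not_exists] at hnp
    obtain ⟨g, hg⟩ := hnp
    refine ⟨g, fun j h => hg j ?_⟩
    apply Subtype.ext
    apply LinearEquiv.ext
    intro w
    have h1 : ρ₀ (g ^ p ^ j) w = w := by rw [h]; rfl
    rw [hρ₀] at h1
    rw [h1]
    rfl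
  have hk' : ∃ e m : ℕ, ((⟨a, haH⟩ : H) * ⟨b, hbH⟩) ^ (p ^ e * m) = 1 ∧ m ∣ Fintype.card K - 1 := by
    obtain ⟨e, k, hord, hkd⟩ := hk
    refine ⟨e, k, ?_, hkd⟩
    apply Subtype.ext
    simp only [Subgroup.coe_pow, Subgroup.coe_mul, Subgroup.coe_one]
    rw [← hord, pow_orderOf_eq_one]
  exact comb_finite hgen ρ₀ ha2 hb2 hnu hk'

end Cfsg.Agent.S0592
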