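import Cfsg.Statements.S0594
-- import your own Cfsg.Agent.* helpers here
import Mathlib
import Cfsg.Agent.Lib_helper4_RedI
import Cfsg.Agent.Lib_helper4_RedH

set_option autoImplicit false
open Cfsg

namespace Cfsg.Agent.S0594

open Cfsg.Agent.helper4.Red
open scoped commutatorElement


/-- For odd p, two quadratic generators of a faithful group that is not a p-group, one of which acts nontrivially on a normal subgroup of order prime to p, force p = 3 and a section isomorphic to SL(2,3). -/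
theorem result {G : Type*} [Group G] [Finite G] {p : ℕ} [Fact p.Prime] (hp : p ≠ 2) (V H : Subgroup G) (hV : Cfsg.IsElementaryAbelian p V) (hHV : H ≤ Subgroup.normalizer (V : Set G)) (hf : H ⊓ Subgroup.centralizer (V : Set G) = ⊥) (a b : G) (hab : H = Subgroup.closure {a, b}) (ha : ⁅⁅V, Subgroup.zpowers a⁆, Subgroup.zpowers a⁆ = ⊥) (hb : ⁅⁅V, Subgroup.zpowers b⁆, Subgroup.zpowers b⁆ = ⊥) (hnp : ¬ IsPGroup p H) (Q : Subgroup G) (hQH : Q ≤ H) (hQn : H ≤ Subgroup.normalizer (Q : Set G)) (hQ : (Nat.card Q).Coprime p) (hQa : ⁅Q, Subgroup.zpowers a⁆ ≠ ⊥) : p = 3 ∧ ∃ (K L : Subgroup G) (hL : (L.subgroupOf K).Normal), K ≤ H ∧ Nonempty ((K ⧸ L.subgroupOf K) ≃* Matrix.SpecialLinearGroup (Fin 2) (ZMod 3)) := by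
  have hpp : p.Prime := Fact.out
  haveI : Fact (Cfsg.IsElementaryAbelian p V) := ⟨hV⟩
  have haH : a ∈ H := by rw [hab]; exact Subgroup.subset_closure (by simp)
  -- a has order dividing p
  have hap : a ^ p = 1 := by
    have h1 := conjRep_quadratic (p := p) V H hHV ⟨a, haH⟩ ha
    have h2 : conjRep p V H hHV ⟨a, haH⟩ = 1 + (conjRep p V H hHV ⟨a, haH⟩ - 1) := by abel
    have h3 : conjRep p V H hHV (⟨a, haH⟩ ^ p) = 1 := by
      rw [map_pow, h2, one_add_pow_of_sq_zero _ h1, ZMod.natCast_self, zero_smul, add_zero]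
    have h4 := mem_centralizer_of_conjRep_eq_one V H hHV _ h3
    have h5 : a ^ p ∈ H ⊓ Subgroup.centralizer (V : Set G) := ⟨H.pow_mem haH p, by simpa using h4⟩
    rw [hf, Subgroup.mem_bot] at h5
    exact h5
  -- the subgroup H₁
  set H₁ : Subgroup G := Q ⊔ Subgroup.zpowers a with hH₁
  have hQH₁ : Q ≤ H₁ := le_sup_left
  have haH₁ : a ∈ H₁ := (le_sup_right : Subgroup.zpowers a ≤ H₁) (Subgroup.mem_zpowers a)
  have hH₁H : H₁ ≤ H := sup_le hQH (by rw [Subgroup.zpowers_le]; exact haH)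
  set Q₁ : Subgroup H₁ := Q.subgroupOf H₁ with hQ₁
  haveI hQ₁n : Q₁.Normal :=
    (Subgroup.normal_subgroupOf_iff_le_normalizer hQH₁).mpr (le_trans hH₁H hQn)
  set Z₁ : Subgroup H₁ := Subgroup.zpowers (⟨a, haH₁⟩ : H₁) with hZ₁
  have hQ₁map : Q₁.map H₁.subtype = Q := by
    rw [hQ₁, Subgroup.subgroupOf_map_subtype, inf_eq_left.mpr hQH₁]
  have hZ₁map : Z₁.map H₁.subtype = Subgroup.zpowers a := by
    rw [hZ₁, MonoidHom.map_zpowers]; rfl
  have hcardQ₁ : Nat.card Q₁ = Nat.card Q :=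
    Nat.card_congr (Subgroup.subgroupOfEquivOfLe hQH₁).toEquiv
  -- a ∉ O_p(H₁)
  have hx : (⟨a, haH₁⟩ : H₁) ∉ Cfsg.pCore p H₁ := by
    intro hmem
    apply hQa
    have hOn : (Cfsg.pCore p H₁).Normal := Cfsg.Agent.helper1.pCore_normal p
    have hOp : IsPGroup p (Cfsg.pCore p H₁) := Cfsg.Agent.helper1.pCore_isPGroup p
    obtain ⟨k, hk⟩ := IsPGroup.iff_card.mp hOp
    have hdisj : Q₁ ⊓ Cfsg.pCore p H₁ = ⊥ := by
      apply Disjoint.eq_bot
      apply Subgroup.disjoint_of_coprime_natCard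
      rw [hk, hcardQ₁]
      exact Nat.Coprime.pow_right k hQ
    have hZle : Z₁ ≤ Cfsg.pCore p H₁ := by
      rw [hZ₁, Subgroup.zpowers_le]; exact hmem
    have hcomm : ⁅Q₁, Z₁⁆ = ⊥ := by
      rw [eq_bot_iff, Subgroup.commutator_le]
      intro q hq z hz
      rw [← hdisj]
      constructor
      · have : ⁅q, z⁆ = q * (z * q⁻¹ * z⁻¹) := by rw [commutatorElement_def]; group
        rw [this]
        exact Q₁.mul_mem hq (hQ₁n.conj_mem _ (Q₁.inv_mem hq) z)
      · have : ⁅q, z⁆ = (q * z * q⁻¹) * z⁻¹ := by rw [commutatorElement_def]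
        rw [this]
        exact (Cfsg.pCore p H₁).mul_mem (hOn.conj_mem _ (hZle hz) q)
          ((Cfsg.pCore p H₁).inv_mem (hZle hz))
    have := congrArg (Subgroup.map H₁.subtype) hcomm
    rwa [Subgroup.map_commutator, hQ₁map, hZ₁map, Subgroup.map_bot] at this
  have hf₁ : H₁ ⊓ Subgroup.centralizer (V : Set G) = ⊥ := by
    rw [eq_bot_iff, ← hf]
    exact inf_le_inf_right _ hH₁H
  obtain ⟨K, L, hL, hKH₁, e⟩ :=
    section_of_quadratic_not_core hp V H₁ hV (le_trans hH₁H hHV) hf₁ a haH₁ ha hx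
  -- p-solvability of H₁
  have hsol : Cfsg.IsPSolvable p H₁ := by
    rw [Cfsg.Agent.helper23.isPSolvable_iff_psreach]
    have h1 : Cfsg.Agent.helper23.PSReach p Q₁ := by
      refine Cfsg.Agent.helper23.PSReach.step ⊥ Q₁ Cfsg.Agent.helper23.PSReach.bot bot_le hQ₁n
        (Or.inr ?_)
      rw [Subgroup.relIndex_bot_left, hcardQ₁]
      exact hQ
    refine Cfsg.Agent.helper23.PSReach.step Q₁ ⊤ h1 le_top inferInstance (Or.inl ?_)
    have htop : Q₁ ⊔ Z₁ = ⊤ := by
      apply Subgroup.map_injective H₁.subtype_injective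
      rw [Subgroup.map_sup, hQ₁map, hZ₁map, ← MonoidHom.range_eq_map, Subgroup.range_subtype]
    have hdvd : Q₁.relIndex ⊤ ∣ p := by
      rw [← htop, Subgroup.relIndex_sup_left]
      refine (Subgroup.relIndex_dvd_card _ _).trans ?_
      rw [hZ₁, Nat.card_zpowers]
      apply orderOf_dvd_of_pow_eq_one
      apply Subtype.ext
      simpa using hap
    rcases (Nat.dvd_prime hpp).mp hdvd with h | h
    · exact ⟨0, by rw [h, pow_zero]⟩
    · exact ⟨1, by rw [h, pow_one]⟩
  have hp3 : p = 3 := by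
    by_contra hne
    have h5 : 5 ≤ p := by
      have h2 := hpp.two_le
      rcases Nat.lt_or_ge p 5 with h | h
      · interval_cases p
        · exact absurd rfl hp
        · exact absurd rfl hne
        · exact absurd hpp (by decide)
      · exact h
    have hKsol : Cfsg.IsPSolvable p K := by
      have h1 := Cfsg.Agent.helper24.isPSolvable_subgroup hpp hsol (K.subgroupOf H₁)
      exact Cfsg.Agent.helper23.isPSolvable_of_surjective hpp
        (Subgroup.subgroupOfEquivOfLe hKH₁).toMonoidHom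
        (Subgroup.subgroupOfEquivOfLe hKH₁).surjective h1
    apply not_hasSec_of_isPSolvable h5 hKsol
    obtain ⟨e'⟩ := e
    refine ⟨⊤, (e'.toMonoidHom.comp (QuotientGroup.mk' _)).comp Subgroup.topEquiv.toMonoidHom, ?_⟩
    exact (e'.surjective.comp (QuotientGroup.mk'_surjective _)).comp Subgroup.topEquiv.surjective
  subst hp3
  exact ⟨rfl, K, L, hL, le_trans hKH₁ hH₁H, e⟩

end Cfsg.Agent.S0594
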