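import Cfsg.Statements.S0596
-- import your own Cfsg.Agent.* helpers here
import Mathlib
import Cfsg.Agent.Lib_helper4_RedI
import Cfsg.Agent.Lib_helper4_RedH

set_option autoImplicit false
open Cfsg

namespace Cfsg.Agent.S0596


/-- For odd p, a p-separable group with a faithful action on an elementary abelian p-group that is not p-stable has p = 3 and involves SL(2,3). -/
theorem result {G : Type*} [Group G] [Finite G] {p : ℕ} [Fact p.Prime] (hp : p ≠ 2) (V H : Subgroup G) (hV : Cfsg.IsElementaryAbelian p V) (hHV : H ≤ Subgroup.normalizer (V : Set G)) (hf : H ⊓ Subgroup.centralizer (V : Set G) = ⊥) (hsep : Cfsg.IsPSolvable p H) (a : G) (haH : a ∈ H) (hq : ⁅⁅V, Subgroup.zpowers a⁆, Subgroup.zpowers a⁆ = ⊥) (hna : a ∉ (Cfsg.pCore p H).map H.subtype) : p = 3 ∧ ∃ (K L : Subgroup G) (hL : (L.subgroupOf K).Normal), K ≤ H ∧ Nonempty ((K ⧸ L.subgroupOf K) ≃* Matrix.SpecialLinearGroup (Fin 2) (ZMod 3)) := by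
  have hpp : p.Prime := Fact.out
  have hx : (⟨a, haH⟩ : H) ∉ Cfsg.pCore p H := by
    intro h
    exact hna ⟨⟨a, haH⟩, h, rfl⟩
  obtain ⟨K, L, hL, hKH, e⟩ :=
    Cfsg.Agent.helper4.Red.section_of_quadratic_not_core hp V H hV hHV hf a haH hq hx
  have hp3 : p = 3 := by
    by_contra hne
    have h5 : 5 ≤ p := by
      have h2 := hpp.two_le
      rcases Nat.lt_or_ge p 5 with h | h
      · interval_cases p
        · exact absurd rfl hp
        · exact absurd rfl hne
        · exact absurd hpp (by decide)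
      · exact h
    have hKsol : Cfsg.IsPSolvable p K := by
      have h1 := Cfsg.Agent.helper24.isPSolvable_subgroup hpp hsep (K.subgroupOf H)
      exact Cfsg.Agent.helper23.isPSolvable_of_surjective hpp
        (Subgroup.subgroupOfEquivOfLe hKH).toMonoidHom (Subgroup.subgroupOfEquivOfLe hKH).surjective h1
    apply Cfsg.Agent.helper4.Red.not_hasSec_of_isPSolvable h5 hKsol
    obtain ⟨e'⟩ := e
    refine ⟨⊤, (e'.toMonoidHom.comp (QuotientGroup.mk' _)).comp Subgroup.topEquiv.toMonoidHom, ?_⟩
    exact (e'.surjective.comp (QuotientGroup.mk'_surjective _)).comp Subgroup.topEquiv.surjective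
  subst hp3
  exact ⟨rfl, K, L, hL, hKH, e⟩

end Cfsg.Agent.S0596
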