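import Cfsg.Statements.S0597
import Cfsg.Agent.S0590
import Cfsg.Agent.S0538
import Cfsg.Agent.S0542
import Cfsg.Agent.Lib_helper1_Core

set_option autoImplicit false
open Cfsg

open scoped commutatorElement
namespace Cfsg.Agent.S0597


/-- Elements normalizing `W` and acting trivially on `V` modulo `W`. -/
def trivMod {G : Type*} [Group G] (V W : Subgroup G) : Subgroup G where
  carrier := {h | h ∈ Subgroup.normalizer (W : Set G) ∧ ∀ v ∈ V, ⁅v, h⁆ ∈ W}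
  one_mem' := ⟨Subgroup.one_mem _, fun v _ => by
    rw [commutatorElement_one_right]; exact W.one_mem⟩
  mul_mem' := by
    rintro a b ⟨ha, ha'⟩ ⟨hb, hb'⟩
    refine ⟨Subgroup.mul_mem _ ha hb, fun v hv => ?_⟩
    have e : ⁅v, a * b⁆ = ⁅v, a⁆ * (a * ⁅v, b⁆ * a⁻¹) := by
      simp [commutatorElement_def, mul_assoc]
    rw [e]
    exact W.mul_mem (ha' v hv) ((Subgroup.mem_normalizer_iff.mp ha _).mp (hb' v hv))
  inv_mem' := by
    rintro a ⟨ha, ha'⟩
    refine ⟨Subgroup.inv_mem _ ha, fun v hv => ?_⟩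
    have e : ⁅v, a⁻¹⁆ = a⁻¹ * ⁅v, a⁆⁻¹ * a⁻¹⁻¹ := by
      simp [commutatorElement_def, mul_assoc]
    rw [e]
    exact (Subgroup.mem_normalizer_iff.mp (Subgroup.inv_mem _ ha) _).mp (W.inv_mem (ha' v hv))

theorem mem_trivMod {G : Type*} [Group G] {V W : Subgroup G} {h : G} :
    h ∈ trivMod V W ↔ h ∈ Subgroup.normalizer (W : Set G) ∧ ∀ v ∈ V, ⁅v, h⁆ ∈ W := Iff.rfl

/-- A subnormal `p`-subgroup lies in `O_p`. -/
theorem le_pCore_of_subnormal {K : Type*} [Group K] [Finite K] {p : ℕ} [Fact p.Prime]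
    (Q : Subgroup K) (hQ : Q.IsSubnormal) (hp : IsPGroup p Q) : Q ≤ Cfsg.pCore p K := by
  rw [helper1.pCore_eq_iInf_sylow]
  refine le_iInf fun S => ?_
  obtain ⟨Q₀, hQ₀⟩ := S0542.result p Q hQ S
  have htop : IsPGroup p (⊤ : Subgroup Q) := by
    intro g
    obtain ⟨k, hk⟩ := hp g.1
    exact ⟨k, Subtype.ext (by simpa using hk)⟩
  have h1 : (⊤ : Subgroup Q) = (Q₀ : Subgroup Q) := Q₀.is_maximal' htop le_top
  rw [hQ₀] at h1
  intro x hx
  have : (⟨x, hx⟩ : Q) ∈ (S : Subgroup K).subgroupOf Q := by rw [← h1]; trivial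
  exact Subgroup.mem_subgroupOf.mp this

/-- The quadratic-action core of the statement. -/
theorem quad_core {G : Type*} [Group G] (V H E₁ E₂ : Subgroup G)
    (hHV : H ≤ Subgroup.normalizer (V : Set G)) (h₁ : E₁ ≤ H) (h₂ : E₂ ≤ H)
    (hc : ⁅⁅V, E₁⁆, E₂⁆ = ⊥) : ⁅⁅V, ⁅E₁, E₂⁆⁆, ⁅E₁, E₂⁆⁆ = ⊥ := by
  set W := ⁅V, E₁⁆ with hW
  have hE₁W : E₁ ≤ Subgroup.normalizer (W : Set G) := Subgroup.normalizer_commutator_ge_right V E₁
  have hWE₂ : W ≤ Subgroup.centralizer (E₂ : Set G) :=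
    Subgroup.commutator_eq_bot_iff_le_centralizer.mp hc
  -- `e₂` commutes with every `w ∈ W`
  have hcomm : ∀ w ∈ W, ∀ e ∈ E₂, e * w = w * e := fun w hw e he =>
    (Subgroup.mem_centralizer_iff.mp (hWE₂ hw) e he)
  have hE₂W : E₂ ≤ Subgroup.normalizer (W : Set G) := by
    intro e he
    rw [Subgroup.mem_normalizer_iff]
    intro w
    constructor
    · intro hw
      rw [hcomm w hw e he, mul_inv_cancel_right]; exact hw
    · intro hw
      have := hcomm _ hw e⁻¹ (E₂.inv_mem he)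
      have e2 : w = e⁻¹ * (e * w * e⁻¹) * e := by group
      rw [e2, this, inv_mul_cancel_right]; exact hw
  -- D centralizes W
  have hDW : W ≤ Subgroup.centralizer ((⁅E₁, E₂⁆ : Subgroup G) : Set G) := by
    have : ⁅E₁, E₂⁆ ≤ Subgroup.centralizer (W : Set G) := by
      rw [Subgroup.commutator_le]
      intro a ha b hb
      rw [Subgroup.mem_centralizer_iff]
      intro w hw
      -- a⁻¹ w a ∈ W
      have h1 : a⁻¹ * w * a⁻¹⁻¹ ∈ W :=
        (Subgroup.mem_normalizer_iff.mp (hE₁W (E₁.inv_mem ha)) w).mp hw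
      rw [inv_inv] at h1
      have h2 := hcomm _ h1 b hb
      have h3 := hcomm w hw b⁻¹ (E₂.inv_mem hb)
      -- ⁅a,b⁆ w = w ⁅a,b⁆
      rw [commutatorElement_def]
      calc w * (a * b * a⁻¹ * b⁻¹) = a * ((a⁻¹ * w * a) * b) * a⁻¹ * b⁻¹ := by group
        _ = a * (b * (a⁻¹ * w * a)) * a⁻¹ * b⁻¹ := by rw [h2]
        _ = a * b * a⁻¹ * (w * b⁻¹) := by group
        _ = a * b * a⁻¹ * (b⁻¹ * w) := by rw [h3]
        _ = a * b * a⁻¹ * b⁻¹ * w := by group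
    intro w hw
    rw [Subgroup.mem_centralizer_iff]
    intro d hd
    exact ((Subgroup.mem_centralizer_iff.mp (this hd)) w hw).symm
  -- D ≤ trivMod V W
  have hDT : ⁅E₁, E₂⁆ ≤ trivMod V W := by
    rw [Subgroup.commutator_le]
    intro a ha b hb
    have haT : a ∈ trivMod V W :=
      ⟨hE₁W ha, fun v hv => Subgroup.commutator_mem_commutator hv ha⟩
    have hbT : b * a⁻¹ * b⁻¹ ∈ trivMod V W := by
      refine ⟨Subgroup.mul_mem _ (Subgroup.mul_mem _ (hE₂W hb) (Subgroup.inv_mem _ (hE₁W ha)))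
        (Subgroup.inv_mem _ (hE₂W hb)), fun v hv => ?_⟩
      have hv' : b⁻¹ * v * b⁻¹⁻¹ ∈ V :=
        (Subgroup.mem_normalizer_iff.mp (hHV (h₂ (E₂.inv_mem hb))) v).mp hv
      rw [inv_inv] at hv'
      have h1 : ⁅b⁻¹ * v * b, a⁻¹⁆ ∈ W :=
        Subgroup.commutator_mem_commutator hv' (E₁.inv_mem ha)
      have e : ⁅v, b * a⁻¹ * b⁻¹⁆ = b * ⁅b⁻¹ * v * b, a⁻¹⁆ * b⁻¹ := by
        simp [commutatorElement_def, mul_assoc]
      rw [e]
      exact (Subgroup.mem_normalizer_iff.mp (hE₂W hb) _).mp h1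
    have e : ⁅a, b⁆ = a * (b * a⁻¹ * b⁻¹) := by
      simp [commutatorElement_def, mul_assoc]
    rw [e]
    exact Subgroup.mul_mem _ haT hbT
  have hVD : ⁅V, ⁅E₁, E₂⁆⁆ ≤ W := by
    rw [Subgroup.commutator_le]
    intro v hv d hd
    exact (hDT hd).2 v hv
  rw [eq_bot_iff]
  calc ⁅⁅V, ⁅E₁, E₂⁆⁆, ⁅E₁, E₂⁆⁆ ≤ ⁅W, ⁅E₁, E₂⁆⁆ := Subgroup.commutator_mono hVD le_rfl
    _ = ⊥ := Subgroup.commutator_eq_bot_iff_le_centralizer.mpr hDW

/-- If two subnormal subgroups of a faithful group on an elementary abelian p-group satisfy [V, E₁, E₂] = 1, then their commutator lies in the largest normal p-subgroup. -/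
theorem result {G : Type*} [Group G] [Finite G] {p : ℕ} [Fact p.Prime] (V H : Subgroup G) (hV : Cfsg.IsElementaryAbelian p V) (hHV : H ≤ Subgroup.normalizer (V : Set G)) (hf : H ⊓ Subgroup.centralizer (V : Set G) = ⊥) (E₁ E₂ : Subgroup G) (h₁ : E₁ ≤ H) (h₂ : E₂ ≤ H) (hs₁ : (E₁.subgroupOf H).IsSubnormal) (hs₂ : (E₂.subgroupOf H).IsSubnormal) (hc : ⁅⁅V, E₁⁆, E₂⁆ = ⊥) : ⁅E₁, E₂⁆ ≤ (Cfsg.pCore p H).map H.subtype := by
  classical
  have hDH : ⁅E₁, E₂⁆ ≤ H := by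
    rw [Subgroup.commutator_le]
    intro a ha b hb
    rw [commutatorElement_def]
    exact H.mul_mem (H.mul_mem (H.mul_mem (h₁ ha) (h₂ hb)) (H.inv_mem (h₁ ha))) (H.inv_mem (h₂ hb))
  have hq := quad_core V H E₁ E₂ hHV h₁ h₂ hc
  have h590 := (S0590.result V ⁅E₁, E₂⁆ hV (hDH.trans hHV) hq).2
  have hpow : ∀ a ∈ ⁅E₁, E₂⁆, a ^ p = 1 := by
    intro a ha
    have : a ^ p ∈ H ⊓ Subgroup.centralizer (V : Set G) :=
      ⟨H.pow_mem (hDH ha) p, h590 a ha⟩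
    rw [hf] at this
    exact Subgroup.mem_bot.mp this
  -- work in H
  set D' : Subgroup H := ⁅E₁.subgroupOf H, E₂.subgroupOf H⁆ with hD'
  have hmap : D'.map H.subtype = ⁅E₁, E₂⁆ := by
    rw [hD', Subgroup.map_commutator, Subgroup.map_subgroupOf_eq_of_le h₁,
      Subgroup.map_subgroupOf_eq_of_le h₂]
  have hD'p : IsPGroup p D' := by
    intro g
    refine ⟨1, ?_⟩
    have hg : ((g : H) : G) ∈ ⁅E₁, E₂⁆ := by
      rw [← hmap]; exact Subgroup.mem_map_of_mem _ g.2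
    have := hpow _ hg
    apply Subtype.ext
    apply Subtype.ext
    simpa using this
  have hJ : (E₁.subgroupOf H ⊔ E₂.subgroupOf H).IsSubnormal := S0538.result _ _ hs₁ hs₂
  have hD'le : D' ≤ E₁.subgroupOf H ⊔ E₂.subgroupOf H := by
    rw [hD', Subgroup.commutator_le]
    intro a ha b hb
    have ha' : a ∈ E₁.subgroupOf H ⊔ E₂.subgroupOf H := (le_sup_left : E₁.subgroupOf H ≤ _) ha
    have hb' : b ∈ E₁.subgroupOf H ⊔ E₂.subgroupOf H := (le_sup_right : E₂.subgroupOf H ≤ _) hb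
    rw [commutatorElement_def]
    exact Subgroup.mul_mem _ (Subgroup.mul_mem _ (Subgroup.mul_mem _ ha' hb')
      (Subgroup.inv_mem _ ha')) (Subgroup.inv_mem _ hb')
  have hD'sn : D'.IsSubnormal :=
    Subgroup.IsSubnormal.step D' _ hD'le hJ
      (Subgroup.normal_subgroupOf_commutator_sup (E₁.subgroupOf H) (E₂.subgroupOf H))
  have hfin := le_pCore_of_subnormal D' hD'sn hD'p
  rw [← hmap]
  exact Subgroup.map_mono hfin

end Cfsg.Agent.S0597
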