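import Cfsg.Statements.S0600
import Cfsg.Agent.Lib_helper3_EA
import Cfsg.Agent.Lib_helper1_Core
import Mathlib

set_option autoImplicit false
open Cfsg

namespace Cfsg.Agent.S0600


/-- A normal elementary abelian p-subgroup generated by the fixed points of the Sylow p-subgroups admits no nontrivial normal p-subgroup of G modulo its centralizer. -/
theorem result {G : Type*} [Group G] [Finite G] {p : ℕ} [Fact p.Prime] (V : Subgroup G) [V.Normal] (hV : Cfsg.IsElementaryAbelian p V) (hgen : V = ⨆ S : Sylow p G, V ⊓ Subgroup.centralizer ((S : Subgroup G) : Set G)) : Cfsg.pCore p (G ⧸ Subgroup.centralizer (V : Set G)) = ⊥ := by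
  rw [eq_bot_iff]
  intro y hy
  obtain ⟨x, rfl⟩ := QuotientGroup.mk_surjective y
  rw [Subgroup.mem_bot, QuotientGroup.eq_one_iff]
  have hzx : Subgroup.zpowers x ≤ Subgroup.centralizer (V : Set G) := by
    rw [Subgroup.le_centralizer_iff, hgen]
    apply iSup_le
    intro S
    have hsurj : Function.Surjective (QuotientGroup.mk' (Subgroup.centralizer (V : Set G))) :=
      QuotientGroup.mk'_surjective _
    have h1 : (x : G ⧸ Subgroup.centralizer (V : Set G)) ∈
        ((Sylow.mapSurjective hsurj S : Sylow p (G ⧸ Subgroup.centralizer (V : Set G))) :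
          Subgroup (G ⧸ Subgroup.centralizer (V : Set G))) :=
      helper1.pCore_le_sylow _ hy
    rw [Sylow.coe_mapSurjective] at h1
    obtain ⟨s, hs, hsx⟩ := h1
    have hc : s⁻¹ * x ∈ Subgroup.centralizer (V : Set G) := by
      rw [← QuotientGroup.eq_one_iff, QuotientGroup.mk_mul, QuotientGroup.mk_inv]
      rw [QuotientGroup.mk'_apply] at hsx
      rw [hsx, inv_mul_cancel]
    intro w hw
    rw [Subgroup.mem_centralizer_iff]
    rintro h ⟨k, rfl⟩
    have hws : Commute s w := Subgroup.mem_centralizer_iff.mp hw.2 s hs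
    have hwc : Commute w (s⁻¹ * x) := Subgroup.mem_centralizer_iff.mp hc w hw.1
    have hx : x = s * (s⁻¹ * x) := by group
    have hwx : Commute x w := by
      rw [hx]
      exact hws.mul_left hwc.symm
    exact (hwx.zpow_left k).eq
  exact hzx (Subgroup.mem_zpowers x)

end Cfsg.Agent.S0600
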