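import Cfsg.Statements.S0603
import Cfsg.Agent.Lib_helper3_EA
import Mathlib

set_option autoImplicit false
open Cfsg

namespace Cfsg.Agent.S0603


/-- The Thompson subgroup of any subgroup containing J(G) is J(G) itself. -/
theorem result {G : Type*} [Group G] [Finite G] {p : ℕ} [Fact p.Prime] (U : Subgroup G) (hU : Cfsg.thompsonSubgroup p G ≤ U) : Cfsg.thompsonSubgroupOf p U = Cfsg.thompsonSubgroup p G := by
  obtain ⟨A₀, hA₀⟩ := helper3.exists_maxEA p G
  have hA₀U : A₀ ≤ U := le_trans (helper3.maxEA_le_thompson hA₀) hU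
  apply le_antisymm
  · exact helper3.thompsonSubgroupOf_le hA₀ hA₀U
  · unfold Cfsg.thompsonSubgroup
    apply sSup_le
    intro A hA
    exact helper3.le_thompsonSubgroupOf hA (le_trans (helper3.maxEA_le_thompson hA) hU)

end Cfsg.Agent.S0603
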