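import Cfsg.Statements.S0605
import Cfsg.Agent.Lib_helper3_EA
import Mathlib

set_option autoImplicit false
open Cfsg

namespace Cfsg.Agent.S0605


/-- Elements of order p in the centralizer of the Thompson subgroup belong to the Thompson subgroup (so to its centre). -/
theorem result {G : Type*} [Group G] [Finite G] {p : ℕ} [Fact p.Prime] (x : G) (hx : x ∈ Subgroup.centralizer (Cfsg.thompsonSubgroup p G : Set G)) (ho : orderOf x = p) : x ∈ Cfsg.thompsonSubgroup p G := by
  obtain ⟨A, hA⟩ := helper3.exists_maxEA p G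
  have hAJ : A ≤ Cfsg.thompsonSubgroup p G := helper3.maxEA_le_thompson hA
  have hxp : x ^ p = 1 := by rw [← ho]; exact pow_orderOf_eq_one x
  have hZ : Cfsg.IsElementaryAbelian p (Subgroup.zpowers x) := helper3.ea_zpowers x hxp
  have hcomm : ∀ a ∈ A, ∀ b ∈ Subgroup.zpowers x, a * b = b * a := by
    intro a ha b hb
    have hb' : b ∈ Subgroup.centralizer (Cfsg.thompsonSubgroup p G : Set G) :=
      (Subgroup.zpowers_le.mpr hx) hb
    exact Subgroup.mem_centralizer_iff.mp hb' a (hAJ ha)
  have hsup : Cfsg.IsElementaryAbelian p (A ⊔ Subgroup.zpowers x) := helper3.ea_sup hA.1 hZ hcomm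
  have heq : A = A ⊔ Subgroup.zpowers x := helper3.maxEA_eq_of_le hA hsup le_sup_left
  apply hAJ
  rw [heq]
  exact (le_sup_right : Subgroup.zpowers x ≤ A ⊔ Subgroup.zpowers x) (Subgroup.mem_zpowers x)

end Cfsg.Agent.S0605
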