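import Cfsg.Statements.S0609
import Mathlib
import Cfsg.Agent.Lib_helper10_Sec3
import Cfsg.Agent.Lib_helper10_Tr4
import Cfsg.Agent.Lib_helper3_ThompsonOf
import Cfsg.Agent.Lib_helper4_StableW
import Cfsg.Agent.Lib_helper7_Quot
-- import your own Cfsg.Agent.* helpers here

set_option autoImplicit false
open Cfsg

namespace Cfsg.Agent.S0609


universe u

section transport
variable {G G' : Type*} [Group G] [Group G']

theorem map_center_of_injOn (f : G →* G') (S : Subgroup G)
    (hinj : ∀ x ∈ S, ∀ y ∈ S, f x = f y → x = y) :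
    (S ⊓ Subgroup.centralizer (S : Set G)).map f
      = S.map f ⊓ Subgroup.centralizer ((S.map f : Subgroup G') : Set G') := by
  ext y
  constructor
  · intro hy
    obtain ⟨x, hx, rfl⟩ := Subgroup.mem_map.mp hy
    obtain ⟨hxS, hxC⟩ := Subgroup.mem_inf.mp hx
    refine Subgroup.mem_inf.mpr ⟨Subgroup.mem_map_of_mem f hxS, ?_⟩
    rw [Subgroup.mem_centralizer_iff]
    intro s' hs'
    obtain ⟨s, hs, rfl⟩ := Subgroup.mem_map.mp hs'
    rw [← map_mul, ← map_mul, Subgroup.mem_centralizer_iff.mp hxC s hs]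
  · intro hy
    obtain ⟨hyS, hyC⟩ := Subgroup.mem_inf.mp hy
    obtain ⟨x, hxS, rfl⟩ := Subgroup.mem_map.mp hyS
    refine Subgroup.mem_map.mpr ⟨x, Subgroup.mem_inf.mpr ⟨hxS, ?_⟩, rfl⟩
    rw [Subgroup.mem_centralizer_iff]
    intro s hs
    apply hinj _ (S.mul_mem hs hxS) _ (S.mul_mem hxS hs)
    rw [map_mul, map_mul]
    exact Subgroup.mem_centralizer_iff.mp hyC (f s) (Subgroup.mem_map_of_mem f hs)

theorem map_omegaOne_of_injOn (p : ℕ) (f : G →* G') (S K : Subgroup G) (hKS : K ≤ S)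
    (hinj : ∀ x ∈ S, ∀ y ∈ S, f x = f y → x = y) :
    (Cfsg.omegaOne p K).map f = Cfsg.omegaOne p (K.map f) := by
  unfold Cfsg.omegaOne
  rw [MonoidHom.map_closure]
  congr 1
  ext y
  constructor
  · rintro ⟨x, ⟨hxK, hxp⟩, rfl⟩
    exact ⟨Subgroup.mem_map_of_mem f hxK, by rw [← map_pow, hxp, map_one]⟩
  · rintro ⟨⟨x, hxK, rfl⟩, hyp⟩
    refine ⟨x, ⟨hxK, hinj _ (S.pow_mem (hKS hxK) p) _ S.one_mem ?_⟩, rfl⟩
    rw [map_pow, map_one]; exact hyp

end transport

theorem thompsonSubgroupOf_map_of_injOn {G G' : Type u} [Group G] [Group G'] (p : ℕ)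
    (f : G →* G') (S : Subgroup G) (hinj : ∀ x ∈ S, ∀ y ∈ S, f x = f y → x = y) :
    Cfsg.thompsonSubgroupOf p (S.map f) = (Cfsg.thompsonSubgroupOf p S).map f := by
  have hbij : Function.Bijective (f.subgroupMap S) := by
    refine ⟨?_, f.subgroupMap_surjective S⟩
    intro a b hab
    apply Subtype.ext
    apply hinj _ a.2 _ b.2
    exact congrArg Subtype.val hab
  have he := Cfsg.Agent.helper4.StableW.thompson_map_equiv p
    (MulEquiv.ofBijective (f.subgroupMap S) hbij)
  have hcomp : (S.map f).subtype.comp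
      (MulEquiv.ofBijective (f.subgroupMap S) hbij).toMonoidHom = f.comp S.subtype := by
    ext x; rfl
  unfold Cfsg.thompsonSubgroupOf
  rw [← he, Subgroup.map_map, Subgroup.map_map, hcomp]

theorem centralizer_map_mk_coprime_le {X : Type u} [Group X] [Finite X] {p : ℕ} [hp : Fact p.Prime]
    (S : Sylow p X) (D : Subgroup X) [D.Normal]
    (hD : (Nat.card D).Coprime p) (V : Subgroup X) (hVS : V ≤ (S : Subgroup X))
    (hSV : (S : Subgroup X) ≤ Subgroup.normalizer (V : Set X)) :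
    Subgroup.centralizer ((V.map (QuotientGroup.mk' D) : Subgroup (X ⧸ D)) : Set (X ⧸ D)) ≤
      (Subgroup.centralizer (V : Set X)).map (QuotientGroup.mk' D) := by
  intro y hy
  obtain ⟨x, rfl⟩ := QuotientGroup.mk'_surjective D y
  have hVp : IsPGroup p V := S.isPGroup'.to_le hVS
  have hyN : (QuotientGroup.mk' D) x ∈ Subgroup.normalizer
      (((V.map (QuotientGroup.mk' D) : Subgroup (X ⧸ D))) : Set (X ⧸ D)) :=
    Subgroup.centralizer_le_normalizer _ hy
  have hx : x ∈ Subgroup.normalizer (((V ⊔ D : Subgroup X)) : Set X) := by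
    have h1 : x ∈ (Subgroup.normalizer (((V.map (QuotientGroup.mk' D) :
        Subgroup (X ⧸ D))) : Set (X ⧸ D))).comap (QuotientGroup.mk' D) := hyN
    have h2 := Subgroup.le_normalizer_comap (QuotientGroup.mk' D) h1
    rw [Subgroup.comap_map_eq, QuotientGroup.ker_mk'] at h2
    exact h2
  obtain ⟨d, hdN, hdD, -⟩ := Cfsg.Agent.helper10.correct_step S D hD V hVS hSV x hx ∅
    (Set.empty_subset _)
    (by rintro _ ⟨b, hb, -⟩; exact absurd hb (Set.notMem_empty b))
  have hdx : (QuotientGroup.mk' D) d = (QuotientGroup.mk' D) x := by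
    have h3 : d = (d * x⁻¹) * x := by group
    rw [h3, map_mul]
    have h4 : (QuotientGroup.mk' D) (d * x⁻¹) = 1 := by
      have : d * x⁻¹ ∈ (QuotientGroup.mk' D).ker := by rw [QuotientGroup.ker_mk']; exact hdD
      exact this
    rw [h4, one_mul]
  have hdC : d ∈ Subgroup.centralizer (V : Set X) := by
    rw [Subgroup.mem_centralizer_iff]
    intro v hv
    have h5 : d * v * d⁻¹ * v⁻¹ ∈ V :=
      V.mul_mem ((Subgroup.mem_normalizer_iff.mp hdN v).mp hv) (V.inv_mem hv)
    have h6 : d * v * d⁻¹ * v⁻¹ ∈ D := by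
      rw [← QuotientGroup.ker_mk' D, MonoidHom.mem_ker]
      simp only [map_mul, map_inv]
      rw [hdx]
      have h7 := Subgroup.mem_centralizer_iff.mp hy ((QuotientGroup.mk' D) v) ⟨v, hv, rfl⟩
      rw [← h7]; group
    have h8 := Cfsg.Agent.helper10.eq_one_of_mem_of_coprime V D hVp hD _ h5 h6
    calc v * d = (d * v * d⁻¹ * v⁻¹)⁻¹ * (d * v) := by group
      _ = d * v := by rw [h8]; group
  exact ⟨d, hdC, hdx⟩

/-- Thompson factorizability passes to and from the quotient by the largest normal subgroup of order prime to p. -/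
theorem result {G : Type*} [Group G] [Finite G] {p : ℕ} [Fact p.Prime] : Cfsg.IsThompsonFactorizable p G ↔ Cfsg.IsThompsonFactorizable p (G ⧸ Cfsg.pPrimeCore p G) := by
  have hp : p.Prime := Fact.out
  have hNcop : (Nat.card (Cfsg.pPrimeCore p G)).Coprime p :=
    Cfsg.Agent.helper7.pPrimeCore_coprime hp
  have hsurj : Function.Surjective (QuotientGroup.mk' (Cfsg.pPrimeCore p G)) :=
    QuotientGroup.mk'_surjective _
  have hinj : ∀ (S : Sylow p G), ∀ x ∈ (S : Subgroup G), ∀ y ∈ (S : Subgroup G),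
      QuotientGroup.mk' (Cfsg.pPrimeCore p G) x = QuotientGroup.mk' (Cfsg.pPrimeCore p G) y →
        x = y := by
    intro S x hx y hy hxy
    have h1 : x⁻¹ * y ∈ Cfsg.pPrimeCore p G := QuotientGroup.eq.mp hxy
    have h2 : x⁻¹ * y ∈ (S : Subgroup G) := Subgroup.mul_mem _ (Subgroup.inv_mem _ hx) hy
    have h3 := Cfsg.Agent.helper10.eq_one_of_mem_of_coprime (S : Subgroup G)
      (Cfsg.pPrimeCore p G) S.isPGroup' hNcop _ h2 h1
    exact inv_mul_eq_one.mp h3
  have hJ : ∀ S : Sylow p G,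
      Cfsg.thompsonSubgroupOf p ((S : Subgroup G).map (QuotientGroup.mk' (Cfsg.pPrimeCore p G)))
        = (Cfsg.thompsonSubgroupOf p (S : Subgroup G)).map
            (QuotientGroup.mk' (Cfsg.pPrimeCore p G)) :=
    fun S => thompsonSubgroupOf_map_of_injOn p _ _ (hinj S)
  have hZ : ∀ S : Sylow p G,
      Cfsg.omegaOne p ((S : Subgroup G).map (QuotientGroup.mk' (Cfsg.pPrimeCore p G)) ⊓
        Subgroup.centralizer ((((S : Subgroup G).map (QuotientGroup.mk' (Cfsg.pPrimeCore p G)) :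
          Subgroup (G ⧸ Cfsg.pPrimeCore p G))) : Set (G ⧸ Cfsg.pPrimeCore p G)))
        = (Cfsg.omegaOne p ((S : Subgroup G) ⊓ Subgroup.centralizer ((S : Subgroup G) : Set G))).map
            (QuotientGroup.mk' (Cfsg.pPrimeCore p G)) := by
    intro S
    rw [← map_center_of_injOn _ _ (hinj S),
      map_omegaOne_of_injOn p _ (S : Subgroup G) _ inf_le_left (hinj S)]
  constructor
  · intro h S' gb
    obtain ⟨S, rfl⟩ := Sylow.mapSurjective_surjective hsurj p S'
    obtain ⟨g, rfl⟩ := hsurj gb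
    obtain ⟨x, hx, c, hc, n, hn, hg⟩ := h S g
    refine ⟨1, Subgroup.one_mem _, QuotientGroup.mk' (Cfsg.pPrimeCore p G) c, ?_,
      QuotientGroup.mk' (Cfsg.pPrimeCore p G) n, ?_, ?_⟩
    · rw [Sylow.coe_mapSurjective, hZ S, Subgroup.mem_centralizer_iff]
      intro z' hz'
      obtain ⟨z, hz, rfl⟩ := Subgroup.mem_map.mp hz'
      rw [← map_mul, ← map_mul, Subgroup.mem_centralizer_iff.mp hc z hz]
    · rw [Sylow.coe_mapSurjective, hJ S]
      exact Subgroup.le_normalizer_map _ (Subgroup.mem_map_of_mem _ hn)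
    · rw [hg, map_mul, map_mul, one_mul]
      have : QuotientGroup.mk' (Cfsg.pPrimeCore p G) x = 1 := (QuotientGroup.eq_one_iff x).mpr hx
      rw [this, one_mul]
  · intro h S g
    obtain ⟨x', hx', c', hc', n', hn', hg⟩ := h (S.mapSurjective hsurj)
      (QuotientGroup.mk' (Cfsg.pPrimeCore p G) g)
    rw [Cfsg.Agent.helper7.pPrimeCore_quotient_eq_bot hp, Subgroup.mem_bot] at hx'
    rw [Sylow.coe_mapSurjective, hZ S] at hc'
    rw [Sylow.coe_mapSurjective, hJ S] at hn'
    have hZle : Cfsg.omegaOne p ((S : Subgroup G) ⊓ Subgroup.centralizer ((S : Subgroup G) : Set G))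
        ≤ (S : Subgroup G) ⊓ Subgroup.centralizer ((S : Subgroup G) : Set G) :=
      Cfsg.Agent.helper4.StableW.omegaOne_le p _
    have hSZ : (S : Subgroup G) ≤ Subgroup.normalizer
        ((Cfsg.omegaOne p ((S : Subgroup G) ⊓ Subgroup.centralizer ((S : Subgroup G) : Set G)) :
          Subgroup G) : Set G) := by
      refine le_trans ?_ (Subgroup.centralizer_le_normalizer _)
      rw [Subgroup.le_centralizer_iff]
      exact hZle.trans inf_le_right
    obtain ⟨c, hc, rfl⟩ := centralizer_map_mk_coprime_le S (Cfsg.pPrimeCore p G) hNcop _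
      (hZle.trans inf_le_left) hSZ hc'
    obtain ⟨n, hn, rfl⟩ := Cfsg.Agent.helper10.normalizer_map_mk_coprime_le S
      (Cfsg.pPrimeCore p G) hNcop _
      (Cfsg.Agent.helper3.thompsonSubgroupOf_le_self p (S : Subgroup G))
      (Subgroup.le_normalizer.trans
        (Cfsg.Agent.helper3.normalizer_le_normalizer_thompsonSubgroupOf p (S : Subgroup G))) hn'
    rw [hx', one_mul, ← map_mul] at hg
    have h1 : g⁻¹ * (c * n) ∈ Cfsg.pPrimeCore p G := QuotientGroup.eq.mp hg
    refine ⟨g * (c * n)⁻¹, ?_, c, hc, n, hn, by group⟩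
    have h2 := (Cfsg.pPrimeCore_normal p G).conj_mem _ (Subgroup.inv_mem _ h1) g
    have h3 : g * (g⁻¹ * (c * n))⁻¹ * g⁻¹ = g * (c * n)⁻¹ := by group
    rw [h3] at h2
    exact h2

end Cfsg.Agent.S0609
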