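import Cfsg.Statements.S0613
import Mathlib
import Cfsg.Agent.Lib_helper9_Offender4

set_option autoImplicit false
open Cfsg

namespace Cfsg.Agent.S0613

/-- A minimal nontrivially-acting best offender and a conjugate of it under a non-centralizing element of the p'-core generate SL(2, p) acting naturally on a plane, and p is 2 or 3. -/
theorem result {G : Type*} [Group G] [Finite G] {p : ℕ} [Fact p.Prime] (V H : Subgroup G) (hV : Cfsg.IsElementaryAbelian p V) (hHV : H ≤ Subgroup.normalizer (V : Set G)) (hf : H ⊓ Subgroup.centralizer (V : Set G) = ⊥) (hS1 : Subgroup.centralizer (Cfsg.pPrimeCore p ↥H : Set ↥H) ≤ Cfsg.pPrimeCore p ↥H) (hS3 : H = ⨆ A : {A : Subgroup G // A ≤ H ∧ Cfsg.IsBestOffenderOn p V A}, (A : Subgroup G)) (hH1 : H ≠ ⊥) (A : Subgroup G) (hAH : A ≤ H) (hA : Cfsg.IsBestOffenderOn p V A) (hAV : ⁅V, A⁆ ≠ ⊥) (hmin : ∀ B : Subgroup G, B ≤ A → Cfsg.IsBestOffenderOn p V B → ⁅V, B⁆ ≠ ⊥ → B = A) (x : G) (hx : x ∈ ((Cfsg.pPrimeCore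 p ↥H).map H.subtype)) (hxA : x ∉ Subgroup.centralizer (A : Set G)) : (p = 2 ∨ p = 3) ∧ Nat.card ↥(⁅V, A ⊔ A.map (MulAut.conj x).toMonoidHom⁆) = p ^ 2 ∧ (A ⊔ A.map (MulAut.conj x).toMonoidHom) ⊓ Subgroup.centralizer ((⁅V, A ⊔ A.map (MulAut.conj x).toMonoidHom⁆ : Subgroup G) : Set G) = ⊥ ∧ Nonempty (↥(A ⊔ A.map (MulAut.conj x).toMonoidHom) ≃* Matrix.SpecialLinearGroup (Fin 2) (ZMod p)) := by
  have S : Cfsg.Agent.helper9.Off.Setup p V H := ⟨hV, hHV, hf, hS1⟩
  obtain ⟨hcA, hUa, hidx⟩ := Cfsg.Agent.helper9.Off.minimal_best S hAH hA hAV hmin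
  have hex : ∃ a ∈ A, a * x ≠ x * a := by
    by_contra hcon
    push Not at hcon
    exact hxA (Subgroup.mem_centralizer_iff.mpr hcon)
  obtain ⟨a, ha, hax⟩ := hex
  have hxQ : x ∈ Cfsg.Agent.helper9.Off.Qof p H := hx
  have hxH : x ∈ H := Cfsg.Agent.helper9.Off.Qof_le p H hxQ
  have hxV : x ∈ Subgroup.normalizer (V : Set G) := hHV hxH
  have hBH : A.map (MulAut.conj x).toMonoidHom ≤ H := by
    rintro _ ⟨y, hy, rfl⟩
    simp only [MulEquiv.coe_toMonoidHom, MulAut.conj_apply]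
    exact H.mul_mem (H.mul_mem hxH (hAH hy)) (H.inv_mem hxH)
  have hcomm : ⁅V, A.map (MulAut.conj x).toMonoidHom⁆ = Cfsg.Agent.helper7.cj x ⁅V, A⁆ := by
    rw [Cfsg.Agent.helper7.cj_commutator, Cfsg.Agent.helper7.cj_eq_of_mem_normalizer hxV]
  have hCa : Nat.card ↥(V ⊓ Subgroup.centralizer (A : Set G)) * p = Nat.card V := by
    have := Cfsg.Agent.helper9.Off.card_relIndex
      (inf_le_left : V ⊓ Subgroup.centralizer (A : Set G) ≤ V)
    rwa [hidx] at this
  have hmap : (V ⊓ Subgroup.centralizer (A : Set G)).map (MulAut.conj x).toMonoidHom ≤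
      V ⊓ Subgroup.centralizer ((A.map (MulAut.conj x).toMonoidHom : Subgroup G) : Set G) := by
    rintro _ ⟨y, hy, rfl⟩
    obtain ⟨hyV, hyC⟩ := Subgroup.mem_inf.mp hy
    simp only [MulEquiv.coe_toMonoidHom, MulAut.conj_apply]
    refine ⟨(Subgroup.mem_normalizer_iff.mp hxV y).mp hyV, ?_⟩
    show x * y * x⁻¹ ∈ Subgroup.centralizer
      ((A.map (MulAut.conj x).toMonoidHom : Subgroup G) : Set G)
    rw [Subgroup.mem_centralizer_iff]
    rintro _ ⟨z, hz, rfl⟩
    simp only [MulEquiv.coe_toMonoidHom, MulAut.conj_apply]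
    rw [Subgroup.mem_centralizer_iff] at hyC
    have h1 := hyC z hz
    calc x * z * x⁻¹ * (x * y * x⁻¹) = x * (z * y) * x⁻¹ := by group
      _ = x * (y * z) * x⁻¹ := by rw [h1]
      _ = x * y * x⁻¹ * (x * z * x⁻¹) := by group
  have hCb : Nat.card V ≤
      Nat.card ↥(V ⊓ Subgroup.centralizer ((A.map (MulAut.conj x).toMonoidHom : Subgroup G) : Set G)) * p := by
    have h1 := Subgroup.card_le_of_le hmap
    rw [Subgroup.card_map_of_injective (MulAut.conj x).injective] at h1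
    calc Nat.card V = Nat.card ↥(V ⊓ Subgroup.centralizer (A : Set G)) * p := hCa.symm
      _ ≤ _ := Nat.mul_le_mul_right p h1
  have P : Cfsg.Agent.helper9.Off.Pair p V H A (A.map (MulAut.conj x).toMonoidHom) a
      (x * a * x⁻¹) :=
    { hAH := hAH
      hBH := hBH
      hcA := hcA
      hcB := by
        rw [Subgroup.card_map_of_injective (MulAut.conj x).injective]; exact hcA
      hUa := hUa
      hUb := by
        rw [hcomm, Cfsg.Agent.helper7.card_cj]; exact hUa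
      hCa := hCa.ge
      hCb := hCb
      ha := ha
      hb := ⟨a, ha, by simp [MulAut.conj_apply]⟩
      ht := by
        have h1 : a * x⁻¹ * a⁻¹ ∈ Cfsg.Agent.helper9.Off.Qof p H :=
          (Subgroup.mem_normalizer_iff.mp
            (Cfsg.Agent.helper9.Off.Qof_normalizer p H (hAH ha)) x⁻¹).mp
            (Subgroup.inv_mem _ hxQ)
        have h2 : x * a * x⁻¹ * a⁻¹ = x * (a * x⁻¹ * a⁻¹) := by group
        rw [h2]
        exact Subgroup.mul_mem _ hxQ h1
      hne := by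
        intro h
        apply hax
        calc a * x = (x * a * x⁻¹) * x := by rw [h]
          _ = x * a := by group }
  exact ⟨P.p_cases S, P.card_W S, P.faithful S, P.iso_sl2 S⟩

end Cfsg.Agent.S0613
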