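import Cfsg.Statements.S0614
import Mathlib
import Cfsg.Agent.Lib_helper9_Offender5

set_option autoImplicit false
open Cfsg

namespace Cfsg.Agent.S0614

/-- The commutator of the p'-core with a minimal nontrivially-acting best offender is a 3-group (when p = 2) or a non-abelian 2-group (when p = 3). -/
theorem result {G : Type*} [Group G] [Finite G] {p : ℕ} [Fact p.Prime] (V H : Subgroup G) (hV : Cfsg.IsElementaryAbelian p V) (hHV : H ≤ Subgroup.normalizer (V : Set G)) (hf : H ⊓ Subgroup.centralizer (V : Set G) = ⊥) (hS1 : Subgroup.centralizer (Cfsg.pPrimeCore p ↥H : Set ↥H) ≤ Cfsg.pPrimeCore p ↥H) (hS3 : H = ⨆ A : {A : Subgroup G // A ≤ H ∧ Cfsg.IsBestOffenderOn p V A}, (A : Subgroup G)) (hH1 : H ≠ ⊥) (A : Subgroup G) (hAH : A ≤ H) (hA : Cfsg.IsBestOffenderOn p V A) (hAV : ⁅V, A⁆ ≠ ⊥) (hmin : ∀ B : Subgroup G, B ≤ A → Cfsg.IsBestOffenderOn p V B → ⁅V, B⁆ ≠ ⊥ → B = A) : (p = 2 ∧ IsPGroup 3 ↥(⁅((Cfsg.pPrimeCore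 p ↥H).map H.subtype), A⁆)) ∨ (p = 3 ∧ IsPGroup 2 ↥(⁅((Cfsg.pPrimeCore p ↥H).map H.subtype), A⁆) ∧ ¬ IsMulCommutative ↥(⁅((Cfsg.pPrimeCore p ↥H).map H.subtype), A⁆)) := by
  have S : Cfsg.Agent.helper9.Off.Setup p V H := ⟨hV, hHV, hf, hS1⟩
  have MA := Cfsg.Agent.helper9.Off.Min.of_minimal S hAH hA hAV hmin
  obtain ⟨x, hxQ, hxA⟩ := Cfsg.Agent.helper9.Off.exists_not_centralizing S MA
  obtain ⟨a, ha, P⟩ := Cfsg.Agent.helper9.Off.pair_of_conj S MA hxQ hxA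
  have hxH := Cfsg.Agent.helper9.Off.Qof_le p H hxQ
  have MB := MA.conj S hxH
  have hba : x * a * x⁻¹ * a⁻¹ ∈ ⁅Cfsg.Agent.helper9.Off.Qof p H, A⁆ := by
    have := Subgroup.commutator_mem_commutator hxQ ha
    rwa [commutatorElement_def] at this
  have heq := P.comm_eq S MA MB hba
  have hcard : Nat.card ↥⁅Cfsg.Agent.helper9.Off.Qof p H, A⁆ = p ^ 2 - 1 := by
    rw [heq]; exact P.card_K S
  show (p = 2 ∧ IsPGroup 3 ↥(⁅Cfsg.Agent.helper9.Off.Qof p H, A⁆)) ∨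
    (p = 3 ∧ IsPGroup 2 ↥(⁅Cfsg.Agent.helper9.Off.Qof p H, A⁆) ∧
      ¬ IsMulCommutative ↥(⁅Cfsg.Agent.helper9.Off.Qof p H, A⁆))
  rcases P.p_cases S with h2 | h3
  · left
    refine ⟨h2, ?_⟩
    apply IsPGroup.of_card (n := 1)
    have e : p ^ 2 - 1 = 3 ^ 1 := by simp [h2]
    rw [hcard, e]
  · right
    refine ⟨h3, ?_, ?_⟩
    · apply IsPGroup.of_card (n := 3)
      have e : p ^ 2 - 1 = 2 ^ 3 := by simp [h3]
      rw [hcard, e]
    · intro hcomm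
      subst h3
      obtain ⟨φ⟩ := P.iso_sl2 S
      have hEH : A ⊔ Cfsg.Agent.helper7.cj x A ≤ H := sup_le P.hAH P.hBH
      have hKn : ((Cfsg.Agent.helper9.Off.Qof 3 H).subgroupOf
          (A ⊔ Cfsg.Agent.helper7.cj x A)).Normal :=
        Subgroup.normal_subgroupOf_of_le_normalizer
          (hEH.trans (Cfsg.Agent.helper9.Off.Qof_normalizer 3 H))
      have hidx : ((Cfsg.Agent.helper9.Off.Qof 3 H).subgroupOf
          (A ⊔ Cfsg.Agent.helper7.cj x A)).index = 3 := by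
        have h1 := Subgroup.card_mul_index ((Cfsg.Agent.helper9.Off.Qof 3 H).subgroupOf
          (A ⊔ Cfsg.Agent.helper7.cj x A))
        have h2 : Nat.card ((Cfsg.Agent.helper9.Off.Qof 3 H).subgroupOf
            (A ⊔ Cfsg.Agent.helper7.cj x A)) = 8 := by
          rw [← Subgroup.inf_subgroupOf_right,
            Nat.card_congr (Subgroup.subgroupOfEquivOfLe inf_le_right).toEquiv, P.card_K S]
          norm_num
        rw [h2, P.card_E S] at h1
        norm_num at h1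
        omega
      obtain ⟨u, hu, v, hv, huv⟩ :=
        Cfsg.Agent.helper9.Off.exists_noncomm_of_index_three φ _ hidx
      apply huv
      apply Subtype.ext
      have hu' : (u : G) ∈ ⁅Cfsg.Agent.helper9.Off.Qof 3 H, A⁆ := by
        rw [heq]; exact ⟨Subgroup.mem_subgroupOf.mp hu, u.2⟩
      have hv' : (v : G) ∈ ⁅Cfsg.Agent.helper9.Off.Qof 3 H, A⁆ := by
        rw [heq]; exact ⟨Subgroup.mem_subgroupOf.mp hv, v.2⟩
      have := hcomm.is_comm.comm (⟨u, hu'⟩ : ↥⁅Cfsg.Agent.helper9.Off.Qof 3 H, A⁆) ⟨v, hv'⟩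
      exact congrArg (fun z : ↥⁅Cfsg.Agent.helper9.Off.Qof 3 H, A⁆ => (z : G)) this

end Cfsg.Agent.S0614
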