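import Mathlib
import Cfsg.Statements.S0615
import Cfsg.Agent.Lib_helper9_SubnPair

set_option autoImplicit false
open Cfsg

namespace Cfsg.Agent.S0615

/-- Two subnormal subgroups acting irreducibly on their incomparable commutator modules, in a faithful group with trivial largest normal p-subgroup, generate their direct product, and the commutator module splits accordingly. -/
theorem result {G : Type*} [Group G] [Finite G] {p : ℕ} [Fact p.Prime] (V E E₁ E₂ : Subgroup G) (hV : Cfsg.IsElementaryAbelian p V) (hEV : E ≤ Subgroup.normalizer (V : Set G)) (hf : E ⊓ Subgroup.centralizer (V : Set G) = ⊥) (hgen : E = E₁ ⊔ E₂) (hs₁ : (E₁.subgroupOf E).IsSubnormal) (hs₂ : (E₂.subgroupOf E).IsSubnormal) (hOp : Cfsg.pCore p ↥E = ⊥) (hirr₁ : (∀ U : Subgroup G, U ≤ ⁅V, E₁⁆ → E₁ ≤ Subgroup.normalizer (U : Set G) → U = ⊥ ∨ U = ⁅V, E₁⁆)) (hirr₂ : (∀ U : Subgroup G, U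 ≤ ⁅V, E₂⁆ → E₂ ≤ Subgroup.normalizer (U : Set G) → U = ⊥ ∨ U = ⁅V, E₂⁆)) (h12 : ¬ ⁅V, E₁⁆ ≤ ⁅V, E₂⁆) (h21 : ¬ ⁅V, E₂⁆ ≤ ⁅V, E₁⁆) (hc₁ : 2 < Nat.card E₁) (hc₂ : 2 < Nat.card E₂) : ⁅E₁, E₂⁆ = ⊥ ∧ E₁ ⊓ E₂ = ⊥ ∧ ⁅V, E₁⁆ ⊓ ⁅V, E₂⁆ = ⊥ ∧ ⁅V, E⁆ = ⁅V, E₁⁆ ⊔ ⁅V, E₂⁆ := by
  have hE₁E : E₁ ≤ E := by rw [hgen]; exact le_sup_left
  have hE₂E : E₂ ≤ E := by rw [hgen]; exact le_sup_right
  have hSN₁ : Cfsg.Agent.helper7.SN E₁ E := Cfsg.Agent.helper7.sn_iff.mpr ⟨hE₁E, hs₁⟩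
  have hSN₂ : Cfsg.Agent.helper7.SN E₂ E := Cfsg.Agent.helper7.sn_iff.mpr ⟨hE₂E, hs₂⟩
  have hNP : ∀ P : Subgroup G, Cfsg.Agent.helper7.SN P E → IsPGroup p ↥P → P = ⊥ := by
    intro P hP hPp
    have h1 : (P.subgroupOf E).IsSubnormal := Cfsg.Agent.helper7.sn_comap_subtype hP
    have h2 : Cfsg.Agent.helper7.SN (P.subgroupOf E) ⊤ := Cfsg.Agent.helper7.sn_top_iff.mpr h1
    have h3 : IsPGroup p ↥(P.subgroupOf E) := hPp.comap_subtype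
    have h4 : P.subgroupOf E = ⊥ := Cfsg.Agent.helper23.sn_p_eq_bot hOp h2 h3
    have h5 : P ⊓ E = ⊥ := Subgroup.subgroupOf_eq_bot.mp h4 |>.eq_bot
    rw [← inf_eq_left.mpr hP.le]
    exact h5
  have A : Cfsg.Agent.helper9.SubnPair.Amb p V E := ⟨hV, hEV, hf, hNP⟩
  subst hgen
  obtain ⟨hc, hI⟩ := Cfsg.Agent.helper9.SubnPair.main (G := G) (p := p) _ V E₁ E₂ rfl A hSN₁ hSN₂
    hirr₁ hirr₂ h12 h21 hc₁ hc₂
  have hE₁V : E₁ ≤ Subgroup.normalizer (V : Set G) := hE₁E.trans hEV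
  have hE₂V : E₂ ≤ Subgroup.normalizer (V : Set G) := hE₂E.trans hEV
  have hW₁V : ⁅V, E₁⁆ ≤ V := Cfsg.Agent.helper7.commutator_le_of_normalizer hE₁V
  have hW₂V : ⁅V, E₂⁆ ≤ V := Cfsg.Agent.helper7.commutator_le_of_normalizer hE₂V
  refine ⟨hc, ?_, hI, ?_⟩
  · -- `E₁ ⊓ E₂ = ⊥`
    have h1 : ⁅V, E₁ ⊓ E₂⁆ = ⊥ := by
      rw [eq_bot_iff, ← hI]
      exact le_inf (Subgroup.commutator_mono le_rfl inf_le_left)
        (Subgroup.commutator_mono le_rfl inf_le_right)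
    have h2 : E₁ ⊓ E₂ ≤ Subgroup.centralizer (V : Set G) := by
      rw [Subgroup.commutator_comm] at h1
      exact Subgroup.commutator_eq_bot_iff_le_centralizer.mp h1
    rw [eq_bot_iff, ← hf]
    exact le_inf (inf_le_left.trans hE₁E) h2
  · apply le_antisymm
    · have hN₁ : E₁ ≤ Subgroup.normalizer ((⁅V, E₁⁆ ⊔ ⁅V, E₂⁆ : Subgroup G) : Set G) := by
        apply Subgroup.le_normalizer_iff_commutator_le_left.mpr
        exact (Subgroup.commutator_mono (sup_le hW₁V hW₂V) le_rfl).trans le_sup_left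
      have hN₂ : E₂ ≤ Subgroup.normalizer ((⁅V, E₁⁆ ⊔ ⁅V, E₂⁆ : Subgroup G) : Set G) := by
        apply Subgroup.le_normalizer_iff_commutator_le_left.mpr
        exact (Subgroup.commutator_mono (sup_le hW₁V hW₂V) le_rfl).trans le_sup_right
      have hE : E₁ ⊔ E₂ ≤ Cfsg.Agent.helper9.Off.stabSub V (⁅V, E₁⁆ ⊔ ⁅V, E₂⁆) :=
        sup_le (Cfsg.Agent.helper9.Off.le_stabSub hN₁ le_sup_left)
          (Cfsg.Agent.helper9.Off.le_stabSub hN₂ le_sup_right)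
      exact Cfsg.Agent.helper9.Off.commutator_le_of_le_stabSub hE
    · exact sup_le (Subgroup.commutator_mono le_rfl le_sup_left)
        (Subgroup.commutator_mono le_rfl le_sup_right)

end Cfsg.Agent.S0615
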