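import Cfsg.Statements.S0616
import Mathlib
import Cfsg.Agent.Lib_helper9_Offender7

set_option autoImplicit false
open Cfsg

namespace Cfsg.Agent.S0616

/-- Each minimal nontrivially-acting best offender spans, with its commutator on the p'-core, a direct factor E of H isomorphic to SL(2, p) with a 2-dimensional commutator module complementing C_V(E). -/
theorem result {G : Type*} [Group G] [Finite G] {p : ℕ} [Fact p.Prime] (V H : Subgroup G) (hV : Cfsg.IsElementaryAbelian p V) (hHV : H ≤ Subgroup.normalizer (V : Set G)) (hf : H ⊓ Subgroup.centralizer (V : Set G) = ⊥) (hS1 : Subgroup.centralizer (Cfsg.pPrimeCore p ↥H : Set ↥H) ≤ Cfsg.pPrimeCore p ↥H) (hS3 : H = ⨆ A : {A : Subgroup G // A ≤ H ∧ Cfsg.IsBestOffenderOn p V A}, (A : Subgroup G)) (hH1 : H ≠ ⊥) (A : Subgroup G) (hAH : A ≤ H) (hA : Cfsg.IsBestOffenderOn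 p V A) (hAV : ⁅V, A⁆ ≠ ⊥) (hmin : ∀ B : Subgroup G, B ≤ A → Cfsg.IsBestOffenderOn p V B → ⁅V, B⁆ ≠ ⊥ → B = A) : (p = 2 ∨ p = 3) ∧ Nonempty (↥(⁅((Cfsg.pPrimeCore p ↥H).map H.subtype), A⁆ ⊔ A) ≃* Matrix.SpecialLinearGroup (Fin 2) (ZMod p)) ∧ Nat.card ↥(⁅V, ⁅((Cfsg.pPrimeCore p ↥H).map H.subtype), A⁆ ⊔ A⁆) = p ^ 2 ∧ ⁅V, ⁅((Cfsg.pPrimeCore p ↥H).map H.subtype), A⁆ ⊔ A⁆ ⊓ (V ⊓ Subgroup.centralizer ((⁅((Cfsg.pPrimeCore p ↥H).map H.subtype), A⁆ ⊔ A : Subgroup G) : Set G)) = ⊥ ∧ ⁅V, ⁅((Cfsg.pPrimeCore p ↥H).map H.subtype), A⁆ ⊔ A⁆ ⊔ (V ⊓ Subgroup.centralizer ((⁅((Cfsg.pPrimeCore p ↥H).map H.subtype), A⁆ ⊔ A : Subgroup G) : Set G)) = V ∧ ⁅⁅((Cfsg.pPrimeCore p ↥H).map H.subtype), A⁆ ⊔ A, H ⊓ Subgroup.centralizer ((⁅V, ⁅((Cfsg.pPrimeCore p ↥H).map H.subtype), A⁆ ⊔ A⁆ : Subgroup G) : Set G)⁆ = ⊥ ∧ (⁅((Cfsg.pPrimeCore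 p ↥H).map H.subtype), A⁆ ⊔ A) ⊓ (H ⊓ Subgroup.centralizer ((⁅V, ⁅((Cfsg.pPrimeCore p ↥H).map H.subtype), A⁆ ⊔ A⁆ : Subgroup G) : Set G)) = ⊥ ∧ (⁅((Cfsg.pPrimeCore p ↥H).map H.subtype), A⁆ ⊔ A) ⊔ (H ⊓ Subgroup.centralizer ((⁅V, ⁅((Cfsg.pPrimeCore p ↥H).map H.subtype), A⁆ ⊔ A⁆ : Subgroup G) : Set G)) = H ∧ ⁅V, H ⊓ Subgroup.centralizer ((⁅V, ⁅((Cfsg.pPrimeCore p ↥H).map H.subtype), A⁆ ⊔ A⁆ : Subgroup G) : Set G)⁆ ≤ V ⊓ Subgroup.centralizer ((⁅((Cfsg.pPrimeCore p ↥H).map H.subtype), A⁆ ⊔ A : Subgroup G) : Set G) := by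
  have S : Cfsg.Agent.helper9.Off.Setup p V H := ⟨hV, hHV, hf, hS1⟩
  have MA := Cfsg.Agent.helper9.Off.Min.of_minimal S hAH hA hAV hmin
  have h4 : ⁅V, Cfsg.Agent.helper9.Off.EA p H A⁆ ⊓
      (V ⊓ Subgroup.centralizer ((Cfsg.Agent.helper9.Off.EA p H A : Subgroup G) : Set G)) = ⊥ :=
    le_bot_iff.mp ((inf_le_inf_left _ inf_le_right).trans
      (Cfsg.Agent.helper9.Off.WA_inf S MA).le)
  have h7 : Cfsg.Agent.helper9.Off.EA p H A ⊓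
      (H ⊓ Subgroup.centralizer
        ((⁅V, Cfsg.Agent.helper9.Off.EA p H A⁆ : Subgroup G) : Set G)) = ⊥ :=
    le_bot_iff.mp ((inf_le_inf_left _ inf_le_right).trans
      (Cfsg.Agent.helper9.Off.EA_faithful S MA).le)
  exact ⟨MA.p_cases S, Cfsg.Agent.helper9.Off.EA_iso S MA, Cfsg.Agent.helper9.Off.WA_card S MA,
    h4, Cfsg.Agent.helper9.Off.V_decomp_EA S MA, Cfsg.Agent.helper9.Off.EA_comm_C S MA, h7,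
    Cfsg.Agent.helper9.Off.EA_sup_C S hS3 MA, Cfsg.Agent.helper9.Off.V_comm_C S MA⟩

end Cfsg.Agent.S0616
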