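import Cfsg.Statements.S0619
-- import your own Cfsg.Agent.* helpers here
import Mathlib
import Cfsg.Agent.Lib_helper4_PS2
import Cfsg.Agent.Lib_helper4_ZJ2

set_option autoImplicit false
open Cfsg

namespace Cfsg.Agent.S0619

open Cfsg.Agent.helper4.PS Cfsg.Agent.helper4.ZJ

/-- the join of an elementary abelian subgroup and a commuting normal elementary abelian subgroup -/
theorem isEA_sup {G : Type*} [Group G] {p : ℕ} {H V : Subgroup G} [V.Normal]
    (hH : Cfsg.IsElementaryAbelian p H) (hV : Cfsg.IsElementaryAbelian p V)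
    (hc : ∀ h ∈ H, ∀ v ∈ V, h * v = v * h) : Cfsg.IsElementaryAbelian p (H ⊔ V) := by
  have hHc : ∀ a ∈ H, ∀ b ∈ H, a * b = b * a := fun a ha b hb =>
    congrArg Subtype.val (hH.1.is_comm.comm (⟨a, ha⟩ : H) ⟨b, hb⟩)
  have hVc : ∀ a ∈ V, ∀ b ∈ V, a * b = b * a := fun a ha b hb =>
    congrArg Subtype.val (hV.1.is_comm.comm (⟨a, ha⟩ : V) ⟨b, hb⟩)
  have key : ∀ x ∈ H ⊔ V, ∀ y ∈ H ⊔ V, x * y = y * x := by
    intro x hx y hy
    obtain ⟨h, hh, v, hv, rfl⟩ := Subgroup.mem_sup_of_normal_right.mp hx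
    obtain ⟨h', hh', v', hv', rfl⟩ := Subgroup.mem_sup_of_normal_right.mp hy
    have e1 := hHc h hh h' hh'
    have e2 := hVc v hv v' hv'
    have e3 := hc h hh v' hv'
    have e4 := hc h' hh' v hv
    calc h * v * (h' * v') = h * (v * h') * v' := by group
      _ = h * (h' * v) * v' := by rw [e4]
      _ = (h * h') * (v * v') := by group
      _ = (h' * h) * (v' * v) := by rw [e1, e2]
      _ = h' * (h * v') * v := by group
      _ = h' * (v' * h) * v := by rw [e3]
      _ = h' * v' * (h * v) := by group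
  refine ⟨⟨⟨fun x y => Subtype.ext (key x x.2 y y.2)⟩⟩, ?_⟩
  intro x hx
  obtain ⟨h, hh, v, hv, rfl⟩ := Subgroup.mem_sup_of_normal_right.mp hx
  have hcomm : Commute h v := hc h hh v hv
  rw [hcomm.mul_pow, hH.2 h hh, hV.2 v hv, one_mul]


theorem le_centralizer_self {G : Type*} [Group G] {p : ℕ} {V : Subgroup G}
    (hV : Cfsg.IsElementaryAbelian p V) : V ≤ Subgroup.centralizer (V : Set G) := by
  intro x hx
  rw [Subgroup.mem_centralizer_iff]
  intro y hy
  exact congrArg Subtype.val (hV.1.is_comm.comm (⟨y, hy⟩ : V) ⟨x, hx⟩)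

theorem key_card {G : Type*} [Group G] [Finite G] {p : ℕ} [Fact p.Prime]
    (hsep : Cfsg.IsPSolvable p G) (V : Subgroup G) [V.Normal]
    (hV : Cfsg.IsElementaryAbelian p V)
    (hO : Cfsg.pCore p (G ⧸ Subgroup.centralizer (V : Set G)) = ⊥)
    (A : Subgroup G) (hA : Cfsg.IsElementaryAbelian p A) :
    Nat.card A ≤ Nat.card ↥((A ⊓ Subgroup.centralizer (V : Set G)) ⊔ V) := by
  have hVC := le_centralizer_self hV
  have hnoo := no_over_offender V hsep hV hO A hA
  have h1 : Nat.card V * V.relIndex ((A ⊓ Subgroup.centralizer (V : Set G)) ⊔ V) =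
      Nat.card ↥((A ⊓ Subgroup.centralizer (V : Set G)) ⊔ V) :=
    Cfsg.Agent.helper9.Off.card_relIndex le_sup_right
  rw [Subgroup.relIndex_sup_right] at h1
  have h2 : V ⊓ (A ⊓ Subgroup.centralizer (V : Set G)) = A ⊓ V := by
    rw [inf_comm, inf_assoc, inf_eq_right.mpr hVC]
  have h3 : Nat.card ↥(A ⊓ V) * V.relIndex (A ⊓ Subgroup.centralizer (V : Set G)) =
      Nat.card ↥(A ⊓ Subgroup.centralizer (V : Set G)) := by
    have := Cfsg.Agent.helper9.Off.card_relIndex
      (inf_le_right : V ⊓ (A ⊓ Subgroup.centralizer (V : Set G)) ≤ A ⊓ Subgroup.centralizer (V : Set G))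
    rw [Subgroup.inf_relIndex_right, h2] at this
    exact this
  have h4 : Nat.card ↥(A ⊓ Subgroup.centralizer (V : Set G)) *
      (Subgroup.centralizer (V : Set G)).relIndex A = Nat.card A := by
    have := Cfsg.Agent.helper9.Off.card_relIndex
      (inf_le_right : Subgroup.centralizer (V : Set G) ⊓ A ≤ A)
    rw [Subgroup.inf_relIndex_right, inf_comm] at this
    exact this
  have h5 : (Subgroup.centralizer (V : Set G)).relIndex A =
      Nat.card (A.map (QuotientGroup.mk' (Subgroup.centralizer (V : Set G)))) := by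
    rw [← Subgroup.relIndex_ker, QuotientGroup.ker_mk']
  have h6 : Nat.card ↥(A ⊓ V) ≤ Nat.card ↥(V ⊓ Subgroup.centralizer (A : Set G)) := by
    apply Subgroup.card_le_of_le
    intro x hx
    refine ⟨hx.2, ?_⟩
    show x ∈ Subgroup.centralizer (A : Set G)
    rw [Subgroup.mem_centralizer_iff]
    intro y hy
    exact congrArg Subtype.val (hA.1.is_comm.comm (⟨y, hy⟩ : A) ⟨x, hx.1⟩)
  have hpos : 0 < Nat.card ↥(A ⊓ V) := Nat.card_pos
  rw [← h5] at hnoo
  set a := Nat.card A
  set b := Nat.card ↥((A ⊓ Subgroup.centralizer (V : Set G)) ⊔ V)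
  set v := Nat.card V
  set r := V.relIndex (A ⊓ Subgroup.centralizer (V : Set G))
  set c := Nat.card ↥(A ⊓ Subgroup.centralizer (V : Set G))
  set m := (Subgroup.centralizer (V : Set G)).relIndex A
  set i := Nat.card ↥(A ⊓ V)
  set f := Nat.card ↥(V ⊓ Subgroup.centralizer (A : Set G))
  have e1 : a * i ≤ b * i := by
    calc a * i = c * m * i := by rw [h4]
      _ ≤ c * m * f := Nat.mul_le_mul_left _ h6
      _ = c * (m * f) := by ring
      _ ≤ c * v := Nat.mul_le_mul_left _ hnoo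
      _ = (i * r) * v := by rw [h3]
      _ = (v * r) * i := by ring
      _ = b * i := by rw [h1]
  exact Nat.le_of_mul_le_mul_right e1 hpos


theorem gen_comm {G : Type*} [Group G] [Finite G] {p : ℕ} [Fact p.Prime]
    (hsep : Cfsg.IsPSolvable p G) (V : Subgroup G) [V.Normal]
    (hV : Cfsg.IsElementaryAbelian p V)
    (hO : Cfsg.pCore p (G ⧸ Subgroup.centralizer (V : Set G)) = ⊥)
    (w : G) (hw : w ∈ Cfsg.centerThompsonOf p (Subgroup.centralizer (V : Set G)))
    (hwp : w ^ p = 1) (A : Subgroup G) (hA : A ∈ Cfsg.maxElementaryAbelianSubgroups p G)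
    (a : G) (ha : a ∈ A) : w * a * w⁻¹ * a⁻¹ ∈ V := by
  obtain ⟨hAe, hAmax⟩ := hA
  have hVC := le_centralizer_self hV
  have hAc : ∀ x ∈ A, ∀ y ∈ A, x * y = y * x := fun x hx y hy =>
    congrArg Subtype.val (hAe.1.is_comm.comm (⟨x, hx⟩ : A) ⟨y, hy⟩)
  have hACe : Cfsg.IsElementaryAbelian p (A ⊓ Subgroup.centralizer (V : Set G)) := by
    refine ⟨⟨⟨fun x y => Subtype.ext (hAc x x.2.1 y y.2.1)⟩⟩, fun x hx => hAe.2 x hx.1⟩
  obtain ⟨B, hB⟩ : ∃ B : Subgroup G, B = (A ⊓ Subgroup.centralizer (V : Set G)) ⊔ V := ⟨_, rfl⟩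
  have hBe : Cfsg.IsElementaryAbelian p B := by
    rw [hB]
    apply isEA_sup hACe hV
    intro h hh v hv
    have : h ∈ Subgroup.centralizer (V : Set G) := hh.2
    rw [Subgroup.mem_centralizer_iff] at this
    exact (this v hv).symm
  have hBcard : Nat.card A ≤ Nat.card B := by
    rw [hB]
    exact key_card hsep V hV hO A hAe
  have hBC : B ≤ Subgroup.centralizer (V : Set G) := by
    rw [hB]
    exact sup_le inf_le_right hVC
  have hBc : ∀ x ∈ B, ∀ y ∈ B, x * y = y * x := fun x hx y hy =>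
    congrArg Subtype.val (hBe.1.is_comm.comm (⟨x, hx⟩ : B) ⟨y, hy⟩)
  have hB0 : B.subgroupOf (Subgroup.centralizer (V : Set G)) ∈
      Cfsg.maxElementaryAbelianSubgroups p ↥(Subgroup.centralizer (V : Set G)) := by
    refine ⟨isEA_subgroupOf _ hBe, ?_⟩
    intro D hD
    have hDe : Cfsg.IsElementaryAbelian p (D.map (Subgroup.centralizer (V : Set G)).subtype) :=
      isEA_map_subtype _ hD
    have h2 : Nat.card (B.subgroupOf (Subgroup.centralizer (V : Set G))) = Nat.card B :=
      Nat.card_congr (Subgroup.subgroupOfEquivOfLe hBC).toEquiv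
    calc Nat.card D = Nat.card (D.map (Subgroup.centralizer (V : Set G)).subtype) :=
          (Subgroup.card_subtype _ D).symm
      _ ≤ Nat.card A := hAmax _ hDe
      _ ≤ Nat.card B := hBcard
      _ = Nat.card (B.subgroupOf (Subgroup.centralizer (V : Set G))) := h2.symm
  have hBJ : B ≤ Cfsg.thompsonSubgroupOf p (Subgroup.centralizer (V : Set G)) := by
    intro x hx
    refine ⟨⟨x, hBC hx⟩, ?_, rfl⟩
    have hle : B.subgroupOf (Subgroup.centralizer (V : Set G)) ≤
        Cfsg.thompsonSubgroup p ↥(Subgroup.centralizer (V : Set G)) := le_sSup hB0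
    apply hle
    rw [Subgroup.mem_subgroupOf]
    exact hx
  have hwB : ∀ b ∈ B, w * b = b * w := by
    intro b hb
    have : w ∈ Subgroup.centralizer
        ((Cfsg.thompsonSubgroupOf p (Subgroup.centralizer (V : Set G)) : Subgroup G) : Set G) := hw.2
    rw [Subgroup.mem_centralizer_iff] at this
    exact (this b (hBJ hb)).symm
  have hBw : Cfsg.IsElementaryAbelian p (B ⊔ Subgroup.zpowers w) := by
    refine ⟨⟨⟨fun x y => Subtype.ext (sup_zpowers_comm B w hBc hwB x x.2 y y.2)⟩⟩, ?_⟩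
    exact sup_zpowers_pow p B w hBc hwB hBe.2 hwp
  have hle : Nat.card ↥(B ⊔ Subgroup.zpowers w) ≤ Nat.card B := (hAmax _ hBw).trans hBcard
  have hwB' : w ∈ B := by
    have h1 : B = B ⊔ Subgroup.zpowers w := Subgroup.eq_of_le_of_card_ge le_sup_left hle
    rw [h1]
    exact Subgroup.mem_sup_right (Subgroup.mem_zpowers w)
  rw [hB] at hwB'
  obtain ⟨x, hx, v, hv, rfl⟩ := Subgroup.mem_sup_of_normal_right.mp hwB'
  have hxa : x * a = a * x := hAc x hx.1 a ha
  have hVn : V.Normal := inferInstance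
  have e : x * v * a * (x * v)⁻¹ * a⁻¹ = x * (v * (a * v⁻¹ * a⁻¹)) * x⁻¹ := by
    have hxa' : a * x⁻¹ = x⁻¹ * a := by
      calc a * x⁻¹ = x⁻¹ * (x * a) * x⁻¹ := by group
        _ = x⁻¹ * (a * x) * x⁻¹ := by rw [hxa]
        _ = x⁻¹ * a := by group
    calc x * v * a * (x * v)⁻¹ * a⁻¹ = x * v * a * v⁻¹ * x⁻¹ * a⁻¹ := by group
      _ = x * v * a * v⁻¹ * (a⁻¹ * (a * x⁻¹)) * a⁻¹ := by group
      _ = x * v * a * v⁻¹ * (a⁻¹ * (x⁻¹ * a)) * a⁻¹ := by rw [hxa']
      _ = x * v * a * v⁻¹ * a⁻¹ * x⁻¹ := by group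
      _ = x * (v * (a * v⁻¹ * a⁻¹)) * x⁻¹ := by group
  rw [e]
  exact hVn.conj_mem _ (V.mul_mem hv (hVn.conj_mem _ (V.inv_mem hv) a)) x


/-- For a p-separable group and a normal elementary abelian p-subgroup V with no nontrivial normal p-subgroup modulo its centralizer C, the Thompson subgroup J(G) moves Ω₁(Z(J(C))) only inside V. -/
theorem result {G : Type*} [Group G] [Finite G] {p : ℕ} [Fact p.Prime] (hsep : Cfsg.IsPSolvable p G) (V : Subgroup G) [V.Normal] (hV : Cfsg.IsElementaryAbelian p V) (hO : Cfsg.pCore p (G ⧸ Subgroup.centralizer (V : Set G)) = ⊥) : ⁅Cfsg.omegaOne p (Cfsg.centerThompsonOf p (Subgroup.centralizer (V : Set G))), Cfsg.thompsonSubgroup p G⁆ ≤ V := by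
  classical
  have hVn : V.Normal := inferInstance
  rw [Subgroup.commutator_le]
  -- every generator commutes with `J` modulo `V`
  have hgen : ∀ w : G, w ∈ Cfsg.centerThompsonOf p (Subgroup.centralizer (V : Set G)) → w ^ p = 1 →
      ∀ j ∈ Cfsg.thompsonSubgroup p G,
        (QuotientGroup.mk' V w) * (QuotientGroup.mk' V j) =
          (QuotientGroup.mk' V j) * (QuotientGroup.mk' V w) := by
    intro w hw hwp
    have hle : Cfsg.thompsonSubgroup p G ≤
        (Subgroup.centralizer ({QuotientGroup.mk' V w} : Set (G ⧸ V))).comap (QuotientGroup.mk' V) := by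
      unfold Cfsg.thompsonSubgroup
      apply sSup_le
      intro A hA a ha
      rw [Subgroup.mem_comap, Subgroup.mem_centralizer_iff]
      intro y hy
      rw [Set.mem_singleton_iff] at hy
      rw [hy]
      have h1 := gen_comm hsep V hV hO w hw hwp A hA a ha
      have h2 : (QuotientGroup.mk' V) (w * a * w⁻¹ * a⁻¹) = 1 := by
        rw [QuotientGroup.mk'_apply, QuotientGroup.eq_one_iff]
        exact h1
      rw [map_mul, map_mul, map_mul, map_inv, map_inv] at h2
      calc (QuotientGroup.mk' V) w * (QuotientGroup.mk' V) a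
          = ((QuotientGroup.mk' V) w * (QuotientGroup.mk' V) a * ((QuotientGroup.mk' V) w)⁻¹ *
              ((QuotientGroup.mk' V) a)⁻¹) * ((QuotientGroup.mk' V) a * (QuotientGroup.mk' V) w) := by
            group
        _ = (QuotientGroup.mk' V) a * (QuotientGroup.mk' V) w := by rw [h2, one_mul]
    intro j hj
    have := hle hj
    rw [Subgroup.mem_comap, Subgroup.mem_centralizer_iff] at this
    exact this _ rfl
  have hW : Cfsg.omegaOne p (Cfsg.centerThompsonOf p (Subgroup.centralizer (V : Set G))) ≤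
      (Subgroup.centralizer (((Cfsg.thompsonSubgroup p G).map (QuotientGroup.mk' V) :
        Subgroup (G ⧸ V)) : Set (G ⧸ V))).comap (QuotientGroup.mk' V) := by
    unfold Cfsg.omegaOne
    rw [Subgroup.closure_le]
    rintro w ⟨hw, hwp⟩
    rw [SetLike.mem_coe, Subgroup.mem_comap, Subgroup.mem_centralizer_iff]
    rintro _ ⟨j, hj, rfl⟩
    exact (hgen w hw hwp j hj).symm
  intro g₁ hg₁ g₂ hg₂
  have h1 := hW hg₁
  rw [Subgroup.mem_comap, Subgroup.mem_centralizer_iff] at h1
  have h2 := h1 _ ⟨g₂, hg₂, rfl⟩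
  rw [← QuotientGroup.eq_one_iff, commutatorElement_def]
  have h3 : ((g₁ * g₂ * g₁⁻¹ * g₂⁻¹ : G) : G ⧸ V) =
      (QuotientGroup.mk' V) g₁ * (QuotientGroup.mk' V) g₂ * ((QuotientGroup.mk' V) g₁)⁻¹ *
        ((QuotientGroup.mk' V) g₂)⁻¹ := by
    rw [← map_inv, ← map_inv, ← map_mul, ← map_mul, ← map_mul]
    rfl
  rw [h3, ← h2]
  group

end Cfsg.Agent.S0619
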