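import Mathlib
import Cfsg.Statements.S0620
import Cfsg.Agent.Lib_helper9_TFCop3
import Cfsg.Agent.Lib_helper3_ThompsonOf
import Cfsg.Agent.Lib_helper19_Sylow

set_option autoImplicit false
open Cfsg

namespace Cfsg.Agent.S0620

open Cfsg.Agent.helper9.TFModel

/-- `J(K)` lies in the group generated by a Sylow subgroup, the fixed points of `X`
and the centralizer of `V`. -/
theorem thompson_le {G : Type*} [Group G] [Finite G] {p : ℕ} [Fact p.Prime] {q : ℕ}
    [Fact q.Prime] (K X : Subgroup G) (hXK : X ≤ Subgroup.normalizer (K : Set G))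
    (hX : Cfsg.IsElementaryAbelian q X) (hq : ¬ q ∣ Nat.card K)
    (hsep : Cfsg.IsPSolvable p ↥K) (hO : Cfsg.pPrimeCore p ↥K = ⊥) (S : Sylow p ↥K) :
    Cfsg.thompsonSubgroup p ↥K ≤ (S : Subgroup ↥K) ⊔
      (Subgroup.centralizer (X : Set G)).subgroupOf K ⊔
      Subgroup.centralizer ((VK K p : Subgroup ↥K) : Set ↥K) := by
  have hp : p.Prime := Fact.out
  haveI hJn : (Cfsg.thompsonSubgroup p ↥K).Normal := by
    haveI := (Cfsg.Agent.S0602.result (G := ↥K) (p := p)).1
    exact Subgroup.normal_of_characteristic _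
  -- the operator group inside `N_G(K)`
  obtain ⟨Y, hYdef⟩ : ∃ Y : Subgroup ↥(Subgroup.normalizer (K : Set G)),
      Y = X.subgroupOf (Subgroup.normalizer (K : Set G)) := ⟨_, rfl⟩
  have hXq : IsPGroup q ↥X := by
    intro g
    refine ⟨1, ?_⟩
    rw [pow_one]
    apply Subtype.ext
    rw [Subgroup.coe_pow, Subgroup.coe_one]
    exact hX.2 g g.2
  have hYq : IsPGroup q ↥Y := by rw [hYdef]; exact hXq.comap_subtype
  have hcardJ : Nat.card ↥(J1 K p) = Nat.card ↥(Cfsg.thompsonSubgroup p ↥K) :=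
    Subgroup.card_map_of_injective (iota_injective K)
  have hq' : ¬ q ∣ Nat.card ↥(J1 K p) := by
    rw [hcardJ]
    intro h
    apply hq
    exact h.trans (Subgroup.card_subgroup_dvd_card _)
  -- the Sylow subgroup
  have hS1 : Cfsg.Agent.helper25.IsSylowIn p (S : Subgroup ↥K) ⊤ := by
    rw [Cfsg.Agent.helper25.isSylowIn_iff_card le_top, Subgroup.card_top]
    exact S.card_eq_multiplicity
  have hS2 : Cfsg.Agent.helper25.IsSylowIn p ((S : Subgroup ↥K) ⊓ Cfsg.thompsonSubgroup p ↥K)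
      (Cfsg.thompsonSubgroup p ↥K) :=
    Cfsg.Agent.helper25.isSylowIn_inf_of_normal le_top hS1 le_top
      (by rw [Subgroup.normalizer_eq_top]; )
  have hPJ : ((S : Subgroup ↥K) ⊓ Cfsg.thompsonSubgroup p ↥K).map (iota K) ≤ J1 K p :=
    Subgroup.map_mono inf_le_right
  have hP : Cfsg.Agent.helper25.IsSylowIn p
      (((S : Subgroup ↥K) ⊓ Cfsg.thompsonSubgroup p ↥K).map (iota K)) (J1 K p) := by
    rw [Cfsg.Agent.helper25.isSylowIn_iff_card hPJ, hcardJ,
      Subgroup.card_map_of_injective (iota_injective K)]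
    exact (Cfsg.Agent.helper25.isSylowIn_iff_card inf_le_right).mp hS2
  have hmain := gen_cop (V1 K p) (V1_ea K hsep hO) (J1 K p) (hsolv1 K hsep) (hcore1 K hsep hO)
    (hgen1 K hsep hO) Y hYq hq' _ hPJ hP
  -- pull back
  have hle : ((S : Subgroup ↥K) ⊓ Cfsg.thompsonSubgroup p ↥K).map (iota K) ⊔
      (J1 K p ⊓ Subgroup.centralizer ((Y : Subgroup _) : Set _)) ⊔
      (J1 K p ⊓ Subgroup.centralizer ((V1 K p : Subgroup _) : Set _)) ≤
      ((S : Subgroup ↥K) ⊔ (Subgroup.centralizer (X : Set G)).subgroupOf K ⊔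
        Subgroup.centralizer ((VK K p : Subgroup ↥K) : Set ↥K)).map (iota K) := by
    refine sup_le (sup_le ?_ ?_) ?_
    · exact Subgroup.map_mono (inf_le_left.trans (le_sup_left.trans le_sup_left))
    · rintro _ ⟨⟨j, hj, rfl⟩, hc⟩
      refine ⟨j, Subgroup.mem_sup_left (Subgroup.mem_sup_right ?_), rfl⟩
      rw [Subgroup.mem_subgroupOf, Subgroup.mem_centralizer_iff]
      intro x hx
      have hc' : iota K j ∈ Subgroup.centralizer ((Y : Subgroup _) : Set _) := hc
      rw [Subgroup.mem_centralizer_iff] at hc'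
      have hxY : (⟨x, hXK hx⟩ : ↥(Subgroup.normalizer (K : Set G))) ∈ Y := by
        rw [hYdef, Subgroup.mem_subgroupOf]; exact hx
      exact congrArg Subtype.val (hc' _ hxY)
    · rintro _ ⟨⟨j, hj, rfl⟩, hc⟩
      refine ⟨j, Subgroup.mem_sup_right ?_, rfl⟩
      exact (iota_mem_centralizer_V1 K p j).mp hc
  intro j hj
  obtain ⟨j', hj', hjj⟩ := hle (hmain ⟨j, hj, rfl⟩)
  rw [← iota_injective K hjj]
  exact hj'

/-- Under coprime action of an elementary abelian q-group X on a p-separable group K with trivial p'-core, K is generated by the normalizer of J(S), the centralizer of Ω₁(Z(S)) and the fixed points of X. -/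
theorem result {G : Type*} [Group G] [Finite G] {p : ℕ} [Fact p.Prime] {q : ℕ} [Fact q.Prime] (K X : Subgroup G) (hXK : X ≤ Subgroup.normalizer (K : Set G)) (hX : Cfsg.IsElementaryAbelian q X) (hq : ¬ q ∣ Nat.card K) (hsep : Cfsg.IsPSolvable p ↥K) (hO : Cfsg.pPrimeCore p ↥K = ⊥) (S : Sylow p ↥K) : (Subgroup.normalizer (Cfsg.thompsonSubgroupOf p (S : Subgroup ↥K) : Set ↥K) ⊔ Subgroup.centralizer (Cfsg.omegaOne p ((S : Subgroup ↥K) ⊓ Subgroup.centralizer ((S : Subgroup ↥K) : Set ↥K)) : Set ↥K) ⊔ (Subgroup.centralizer (X : Set G)).subgroupOf K) = ⊤ := by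
  have hJle := thompson_le K X hXK hX hq hsep hO S
  obtain ⟨hVn, hVe, hD⟩ := Cfsg.Agent.S0601.result (p := p) (hc_of K hsep hO)
  haveI := hVn
  haveI hJn : (Cfsg.thompsonSubgroup p ↥K).Normal := by
    haveI := (Cfsg.Agent.S0602.result (G := ↥K) (p := p)).1
    exact Subgroup.normal_of_characteristic _
  obtain ⟨R, hR⟩ : ∃ R : Subgroup ↥K, R =
      Subgroup.normalizer (Cfsg.thompsonSubgroupOf p (S : Subgroup ↥K) : Set ↥K) ⊔
      Subgroup.centralizer (Cfsg.omegaOne p ((S : Subgroup ↥K) ⊓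
        Subgroup.centralizer ((S : Subgroup ↥K) : Set ↥K)) : Set ↥K) ⊔
      (Subgroup.centralizer (X : Set G)).subgroupOf K := ⟨_, rfl⟩
  rw [← hR]
  -- the pieces
  have h1 : (S : Subgroup ↥K) ≤ R := by
    rw [hR]
    refine le_trans ?_ (le_sup_left.trans le_sup_left)
    exact Subgroup.le_normalizer.trans
      (Cfsg.Agent.helper3.normalizer_le_normalizer_thompsonSubgroupOf p _)
  have h2 : Subgroup.centralizer ((VK K p : Subgroup ↥K) : Set ↥K) ≤ R := by
    rw [hR]
    refine le_trans ?_ (le_sup_right.trans le_sup_left)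
    apply Subgroup.centralizer_le
    exact SetLike.coe_subset_coe.mpr
      (le_iSup (fun S : Sylow p ↥K => Cfsg.omegaOne p ((S : Subgroup ↥K) ⊓
        Subgroup.centralizer ((S : Subgroup ↥K) : Set ↥K))) S)
  have h3 : (Subgroup.centralizer (X : Set G)).subgroupOf K ≤ R := by
    rw [hR]; exact le_sup_right
  have h4 : Cfsg.thompsonSubgroup p ↥K ≤ R := hJle.trans (sup_le (sup_le h1 h3) h2)
  -- Frattini
  haveI hMn : (Cfsg.thompsonSubgroup p ↥K ⊔
      Subgroup.centralizer ((VK K p : Subgroup ↥K) : Set ↥K)).Normal := by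
    haveI : (Subgroup.centralizer ((VK K p : Subgroup ↥K) : Set ↥K)).Normal :=
      Subgroup.normal_centralizer
    infer_instance
  have hfr := Cfsg.Agent.helper19.frattini_inf S (Cfsg.thompsonSubgroup p ↥K ⊔
      Subgroup.centralizer ((VK K p : Subgroup ↥K) : Set ↥K))
  have hJS : Cfsg.thompsonSubgroupOf p (S : Subgroup ↥K) ≤ (S : Subgroup ↥K) ⊓
      (Cfsg.thompsonSubgroup p ↥K ⊔
        Subgroup.centralizer ((VK K p : Subgroup ↥K) : Set ↥K)) := by
    apply le_inf (Cfsg.Agent.helper3.thompsonSubgroupOf_le_self p _)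
    refine le_trans ?_ le_sup_left
    rw [Cfsg.Agent.S0604.result]
    exact le_iSup (fun S : Sylow p ↥K => Cfsg.thompsonSubgroupOf p (S : Subgroup ↥K)) S
  have e := Cfsg.Agent.helper3.thompsonSubgroupOf_eq_of_le (p := p) inf_le_left hJS
  have h5 : Subgroup.normalizer ((((S : Subgroup ↥K) ⊓ (Cfsg.thompsonSubgroup p ↥K ⊔
      Subgroup.centralizer ((VK K p : Subgroup ↥K) : Set ↥K)) : Subgroup ↥K)) : Set ↥K) ≤ R := by
    rw [hR]
    refine le_trans ?_ (le_sup_left.trans le_sup_left)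
    rw [← e]
    exact Cfsg.Agent.helper3.normalizer_le_normalizer_thompsonSubgroupOf p _
  rw [eq_top_iff, ← hfr]
  exact sup_le h5 (sup_le h4 h2)

end Cfsg.Agent.S0620
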