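import Mathlib
import Cfsg.Statements.S0621
import Cfsg.Agent.S0608
import Cfsg.Agent.Lib_helper9_TFCop4

set_option autoImplicit false
open Cfsg

namespace Cfsg.Agent.S0621

open Cfsg.Agent.helper9.TFModel

/-- Let K be p-separable with O_p'(K) = 1, normalized by an elementary abelian q-group X for a prime q not dividing the order of K. If the Thompson factorization fails in K, then p is 2 or 3 and the fixed points of X contain a plane W of order p² and a subgroup inducing SL(2, p) on it. -/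
theorem result {G : Type*} [Group G] [Finite G] {p : ℕ} [Fact p.Prime] {q : ℕ} [Fact q.Prime] (K X : Subgroup G) (hXK : X ≤ Subgroup.normalizer (K : Set G)) (hX : Cfsg.IsElementaryAbelian q X) (hq : ¬ q ∣ Nat.card K) (hsep : Cfsg.IsPSolvable p ↥K) (hO : Cfsg.pPrimeCore p ↥K = ⊥) (hnf : ¬ Cfsg.IsThompsonFactorizable p ↥K) : (p = 2 ∨ p = 3) ∧ ∃ W D : Subgroup G, W ≤ K ⊓ Subgroup.centralizer (X : Set G) ∧ D ≤ K ⊓ Subgroup.centralizer (X : Set G) ∧ Cfsg.IsElementaryAbelian p W ∧ Nat.card W = p ^ 2 ∧ D ≤ Subgroup.normalizer (W : Set G) ∧ ∃ hn : ((Subgroup.centralizer (W : Set G)).subgroupOf D).Normal, Nonempty ((↥D ⧸ (Subgroup.centralizer (W : Set G)).subgroupOf D) ≃* Matrix.SpecialLinearGroup (Fin 2) (ZMod p)) := by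
  have hp : p.Prime := Fact.out
  -- the operator group inside `N_G(K)`
  obtain ⟨Y, hYdef⟩ : ∃ Y : Subgroup ↥(Subgroup.normalizer (K : Set G)),
      Y = X.subgroupOf (Subgroup.normalizer (K : Set G)) := ⟨_, rfl⟩
  have hXq : IsPGroup q ↥X := by
    intro g
    refine ⟨1, ?_⟩
    rw [pow_one]
    apply Subtype.ext
    rw [Subgroup.coe_pow, Subgroup.coe_one]
    exact hX.2 g g.2
  have hYq : IsPGroup q ↥Y := by rw [hYdef]; exact hXq.comap_subtype
  have hcardJ : Nat.card ↥(J1 K p) = Nat.card ↥(Cfsg.thompsonSubgroup p ↥K) :=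
    Subgroup.card_map_of_injective (iota_injective K)
  have hq' : ¬ q ∣ Nat.card ↥(J1 K p) := by
    rw [hcardJ]
    intro h
    apply hq
    exact h.trans (Subgroup.card_subgroup_dvd_card _)
  have hJ := mt (Cfsg.Agent.S0608.result (G := ↥K) (p := p) hO).mpr hnf
  have hne : ¬ J1 K p ≤ Subgroup.centralizer ((V1 K p : Subgroup _) : Set _) := by
    intro h
    apply hJ
    intro j hj
    exact (iota_mem_centralizer_V1 K p j).mp (h ⟨j, hj, rfl⟩)
  obtain ⟨hp23, W, D, hW, hD, hWc, hDN, hn, ⟨e⟩⟩ :=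
    sl2_cop (V1 K p) (V1_ea K hsep hO) (J1 K p) (hsolv1 K hsep) (hcore1 K hsep hO)
      (hgen1 K hsep hO) Y hYq hq' hne
  refine ⟨hp23, W.map (Subgroup.normalizer (K : Set G)).subtype,
    D.map (Subgroup.normalizer (K : Set G)).subtype, ?_, ?_, ?_, ?_, ?_, ?_⟩
  · rintro _ ⟨w, hw, rfl⟩
    obtain ⟨⟨v, hv, hvw⟩, hwY⟩ := hW hw
    refine ⟨?_, ?_⟩
    · rw [← hvw]; exact v.2
    · have hwY' : w ∈ Subgroup.centralizer ((Y : Subgroup _) : Set _) := hwY
      show (w : G) ∈ Subgroup.centralizer (X : Set G)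
      rw [Subgroup.mem_centralizer_iff] at hwY' ⊢
      intro x hx
      have hxY : (⟨x, hXK hx⟩ : ↥(Subgroup.normalizer (K : Set G))) ∈ Y := by
        rw [hYdef, Subgroup.mem_subgroupOf]; exact hx
      exact congrArg Subtype.val (hwY' _ hxY)
  · rintro _ ⟨d, hd, rfl⟩
    obtain ⟨⟨j, hj, hjd⟩, hdY⟩ := hD hd
    refine ⟨?_, ?_⟩
    · rw [← hjd]; exact j.2
    · have hdY' : d ∈ Subgroup.centralizer ((Y : Subgroup _) : Set _) := hdY
      show (d : G) ∈ Subgroup.centralizer (X : Set G)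
      rw [Subgroup.mem_centralizer_iff] at hdY' ⊢
      intro x hx
      have hxY : (⟨x, hXK hx⟩ : ↥(Subgroup.normalizer (K : Set G))) ∈ Y := by
        rw [hYdef, Subgroup.mem_subgroupOf]; exact hx
      exact congrArg Subtype.val (hdY' _ hxY)
  · apply isEA_map
    exact Cfsg.Agent.helper9.OffCop.isEA_of_le (V1_ea K hsep hO) (hW.trans inf_le_left)
  · rw [Subgroup.card_map_of_injective (Subgroup.subtype_injective _), hWc]
  · exact (Subgroup.map_mono hDN).trans (Subgroup.le_normalizer_map _)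
  · obtain ⟨hn', ⟨e'⟩⟩ := sect_transfer_inj (Subgroup.normalizer (K : Set G)).subtype
      (Subgroup.subtype_injective _) W D hn
    exact ⟨hn', ⟨e'.trans e⟩⟩

end Cfsg.Agent.S0621
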