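import Cfsg.Statements.S0627
import Cfsg.Agent.S0622
import Cfsg.Agent.S0624
import Cfsg.Agent.S0625
import Cfsg.Agent.Lib_helper23_PSolv3
import Cfsg.Agent.Lib_helper7_Quot
import Cfsg.Agent.Lib_helper15_AG4

set_option autoImplicit false
open Cfsg

namespace Cfsg.Agent.S0627

universe u

/-- transport of `W(S)` along a homomorphism injective on `S` -/
theorem map_stableNormalClosure {G H : Type u} [Group G] [Group H] [Finite G] {p : ℕ} [Fact p.Prime]
    (π : G →* H) (S : Subgroup G) (hS : IsPGroup p ↥S) (hinj : S ⊓ π.ker = ⊥)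
    (T : Subgroup H) (hT : T = S.map π) :
    ((Cfsg.stableNormalClosure p ↥S).map S.subtype).map π
      = (Cfsg.stableNormalClosure p ↥T).map T.subtype := by
  subst hT
  have hbij : Function.Bijective (π.subgroupMap S) := by
    refine ⟨?_, π.subgroupMap_surjective S⟩
    rw [injective_iff_map_eq_one]
    intro x hx
    have h1 : π (x : G) = 1 := by
      have := congrArg Subtype.val hx
      simpa using this
    have h2 : (x : G) ∈ S ⊓ π.ker := Subgroup.mem_inf.2 ⟨x.2, MonoidHom.mem_ker.2 h1⟩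
    rw [hinj, Subgroup.mem_bot] at h2
    exact Subtype.ext h2
  have h5 := (Cfsg.Agent.S0622.result (p := p) (S := ↥S) hS).2.2.2.2 ↥(S.map π)
    (MulEquiv.ofBijective (π.subgroupMap S) hbij)
  rw [← h5, Subgroup.map_map, Subgroup.map_map]
  rfl


/-- In a p-separable group with p at least 5, the normalizer of W(S) supplements the largest normal subgroup of order prime to p. -/
theorem result {G : Type*} [Group G] [Finite G] {p : ℕ} [Fact p.Prime] (hp : 5 ≤ p) (hsep : Cfsg.IsPSolvable p G) (S : Sylow p G) : Cfsg.pPrimeCore p G ⊔ Subgroup.normalizer (((Cfsg.stableNormalClosure p ↥(S : Subgroup G)).map (S : Subgroup G).subtype) : Set G) = ⊤ := by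
  have hpp : p.Prime := Fact.out
  haveI hNn : (Cfsg.pPrimeCore p G).Normal := Cfsg.Agent.helper1.pPrimeCore_normal p
  have hNc : (Nat.card ↥(Cfsg.pPrimeCore p G)).Coprime p := Cfsg.Agent.helper1.pPrimeCore_coprime p
  have hπ : Function.Surjective (QuotientGroup.mk' (Cfsg.pPrimeCore p G)) :=
    QuotientGroup.mk'_surjective _
  have hreach := Cfsg.Agent.helper23.psreach_top_quotient hpp hsep (Cfsg.pPrimeCore p G)
  have hO := Cfsg.Agent.helper7.pPrimeCore_quotient_eq_bot (G := G) hpp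
  have hc := Cfsg.Agent.helper23.hall_higman_123 hreach hO
  have hst := Cfsg.Agent.S0625.result hp (Cfsg.Agent.helper23.isPSolvable_iff_psreach.mpr hreach)
  obtain ⟨T, hT⟩ : ∃ T : Sylow p (G ⧸ Cfsg.pPrimeCore p G),
      (T : Subgroup (G ⧸ Cfsg.pPrimeCore p G))
        = (S : Subgroup G).map (QuotientGroup.mk' (Cfsg.pPrimeCore p G)) :=
    ⟨S.mapSurjective hπ, Sylow.coe_mapSurjective _ _⟩
  have hWbar := Cfsg.Agent.S0624.result hst hc T
  have hSN : (S : Subgroup G) ⊓ Cfsg.pPrimeCore p G = ⊥ := by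
    rw [eq_bot_iff]
    intro x hx
    rw [Subgroup.mem_bot]
    have h1 : orderOf x ∣ Nat.card ↥(Cfsg.pPrimeCore p G) := by
      have := orderOf_dvd_natCard (⟨x, hx.2⟩ : ↥(Cfsg.pPrimeCore p G))
      rwa [Subgroup.orderOf_mk] at this
    obtain ⟨k, hk⟩ := S.2 ⟨x, hx.1⟩
    have h2 : orderOf x ∣ p ^ k := by
      apply orderOf_dvd_of_pow_eq_one
      have := congrArg Subtype.val hk
      rwa [Subgroup.coe_pow, Subgroup.coe_one] at this
    have h3 : orderOf x = 1 :=
      Nat.eq_one_of_dvd_coprimes (Nat.Coprime.pow_right k hNc) h1 h2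
    exact orderOf_eq_one_iff.mp h3
  have hmap := map_stableNormalClosure (QuotientGroup.mk' (Cfsg.pPrimeCore p G)) (S : Subgroup G)
    S.2 (by rw [QuotientGroup.ker_mk']; exact hSN) (T : Subgroup (G ⧸ Cfsg.pPrimeCore p G)) hT
  obtain ⟨W, hW⟩ : ∃ W : Subgroup G,
      W = (Cfsg.stableNormalClosure p ↥(S : Subgroup G)).map (S : Subgroup G).subtype := ⟨_, rfl⟩
  rw [← hW] at hmap ⊢
  have hWS : W ≤ S := by
    rw [hW]; exact Subgroup.map_subtype_le _
  have hWp : IsPGroup p ↥W := S.2.to_le hWS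
  have hWN : W ⊓ Cfsg.pPrimeCore p G = ⊥ := by
    rw [eq_bot_iff, ← hSN]
    exact inf_le_inf_right _ hWS
  -- K = W ⊔ N is normal
  haveI hKn : (W ⊔ Cfsg.pPrimeCore p G).Normal := by
    have : W ⊔ Cfsg.pPrimeCore p G
        = ((Cfsg.stableNormalClosure p ↥(T : Subgroup (G ⧸ Cfsg.pPrimeCore p G))).map
            (T : Subgroup (G ⧸ Cfsg.pPrimeCore p G)).subtype).comap
          (QuotientGroup.mk' (Cfsg.pPrimeCore p G)) := by
      rw [← hmap, Subgroup.comap_map_eq, QuotientGroup.ker_mk']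
    rw [this]
    exact hWbar.comap _
  -- index of W in K
  have hidx : ¬ p ∣ W.relIndex (W ⊔ Cfsg.pPrimeCore p G) := by
    have h1 : W.relIndex (W ⊔ Cfsg.pPrimeCore p G) ∣ Nat.card ↥(Cfsg.pPrimeCore p G) := by
      have h2 : Nat.card ↥(W ⊔ Cfsg.pPrimeCore p G : Subgroup G)
          = Nat.card ↥W * W.relIndex (W ⊔ Cfsg.pPrimeCore p G) := by
        have := Subgroup.relIndex_mul_relIndex ⊥ W (W ⊔ Cfsg.pPrimeCore p G) bot_le le_sup_left
        rw [Subgroup.relIndex_bot_left, Subgroup.relIndex_bot_left] at this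
        exact this.symm
      have h3 : Nat.card ↥(W ⊔ Cfsg.pPrimeCore p G : Subgroup G)
          ∣ Nat.card ↥(Cfsg.pPrimeCore p G) * Nat.card ↥W := by
        rw [sup_comm]
        exact Cfsg.Agent.helper1.card_sup_dvd_mul _ _
      rw [h2, mul_comm (Nat.card ↥(Cfsg.pPrimeCore p G))] at h3
      exact Nat.dvd_of_mul_dvd_mul_left Nat.card_pos h3
    intro hdvd
    have h4 : p ∣ Nat.card ↥(Cfsg.pPrimeCore p G) := hdvd.trans h1
    have h5 : p ∣ Nat.gcd (Nat.card ↥(Cfsg.pPrimeCore p G)) p := Nat.dvd_gcd h4 dvd_rfl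
    rw [hNc] at h5
    exact hpp.one_lt.ne' (Nat.dvd_one.mp h5)
  have hfr := Sylow.normalizer_sup_eq_top
    (Cfsg.Agent.helper15.sylowOfRelIndex (W ⊔ Cfsg.pPrimeCore p G) W hWp hidx)
  rw [Cfsg.Agent.helper15.coe_sylowOfRelIndex, Subgroup.subgroupOf_map_subtype,
    inf_eq_left.2 (le_sup_left : W ≤ W ⊔ Cfsg.pPrimeCore p G)] at hfr
  rw [eq_top_iff]
  refine hfr.ge.trans (sup_le le_sup_right (sup_le ?_ le_sup_left))
  exact le_sup_of_le_right Subgroup.le_normalizer

end Cfsg.Agent.S0627
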