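import Cfsg.Statements.S0628
import Cfsg.Agent.S0622
import Cfsg.Agent.S0624
import Cfsg.Agent.S0626
import Cfsg.Agent.Lib_helper10_Thompson3
import Cfsg.Agent.Lib_helper10_HH4

set_option autoImplicit false
open Cfsg

namespace Cfsg.Agent.S0628

universe u

theorem isCharPFunctor_stable (p : ℕ) [hp : Fact p.Prime] :
    Cfsg.IsCharPFunctor.{u} p (fun Q _ => Cfsg.stableNormalClosure p Q) := by
  refine ⟨?_, ?_⟩
  · intro Q _ _ hQ hnt
    exact (Cfsg.Agent.S0622.result (p := p) (S := Q) hQ).2.2.2.1 hnt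
  · intro Q R _ _ _ hQ φ
    exact (Cfsg.Agent.S0622.result (p := p) (S := Q) hQ).2.2.2.2 R φ

/-- Sylow `2`-subgroups are abelian in a group `Y` with `Y/O_p(Y)` having a normal `p`-complement
and a maximal Sylow `p`-subgroup, `p` odd. -/
theorem sylow_two_comm {Y : Type u} [Group Y] [Finite Y] {p : ℕ} [hp : Fact p.Prime] (hp2 : p ≠ 2)
    (hnpc : Cfsg.HasNormalPComplement p (Y ⧸ Cfsg.pCore p Y))
    (T : Sylow p Y) (hT : IsCoatom (T : Subgroup Y)) (Q : Sylow 2 Y) :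
    IsMulCommutative ↥(Q : Subgroup Y) := by
  have hpp : p.Prime := hp.out
  haveI hPn : (Cfsg.pCore p Y).Normal := Cfsg.Agent.helper1.pCore_normal p
  have hPT : Cfsg.pCore p Y ≤ (T : Subgroup Y) := Cfsg.Agent.helper1.pCore_le_sylow T
  have hPp : IsPGroup p (Cfsg.pCore p Y) := Cfsg.Agent.helper1.pCore_isPGroup p
  have hsurj : Function.Surjective (QuotientGroup.mk' (Cfsg.pCore p Y)) :=
    QuotientGroup.mk'_surjective _
  obtain ⟨Tb, hTb⟩ : ∃ Tb : Sylow p (Y ⧸ Cfsg.pCore p Y),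
      (Tb : Subgroup (Y ⧸ Cfsg.pCore p Y)) =
        (T : Subgroup Y).map (QuotientGroup.mk' (Cfsg.pCore p Y)) :=
    ⟨T.mapSurjective hsurj, rfl⟩
  have hTbc : IsCoatom (Tb : Subgroup (Y ⧸ Cfsg.pCore p Y)) := by
    rw [hTb]; exact Cfsg.Agent.helper10.isCoatom_map_mk _ _ hPT hT
  obtain ⟨Kb, hKn, hKcop, hKab, hTK⟩ := Cfsg.Agent.helper10.coatom_sylow_structure Tb hTbc hnpc
  haveI := hKn
  have hcop2 : Nat.Coprime 2 p := by
    rw [Nat.coprime_primes Nat.prime_two hpp]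
    exact fun h => hp2 h.symm
  -- images of 2-elements lie in Kb
  have hmem : ∀ x ∈ (Q : Subgroup Y), QuotientGroup.mk' (Cfsg.pCore p Y) x ∈ Kb := by
    intro x hx
    obtain ⟨t, ht, c, hc, hz⟩ := hTK (QuotientGroup.mk' (Cfsg.pCore p Y) x)
    obtain ⟨k, hk⟩ := Tb.isPGroup' ⟨t, ht⟩
    have hk' : t ^ (p ^ k) = 1 := by
      have := congrArg Subtype.val hk
      rwa [Subgroup.coe_pow, Subgroup.coe_one] at this
    obtain ⟨j, hj⟩ := Q.isPGroup' ⟨x, hx⟩
    have hj' : x ^ (2 ^ j) = 1 := by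
      have := congrArg Subtype.val hj
      rwa [Subgroup.coe_pow, Subgroup.coe_one] at this
    -- in the quotient by Kb
    have e1 : (QuotientGroup.mk' Kb (QuotientGroup.mk' (Cfsg.pCore p Y) x))
        = QuotientGroup.mk' Kb t := by
      rw [hz, map_mul]
      have : QuotientGroup.mk' Kb c = 1 := (QuotientGroup.eq_one_iff c).mpr hc
      rw [this, mul_one]
    have e2 : (QuotientGroup.mk' Kb (QuotientGroup.mk' (Cfsg.pCore p Y) x)) ^ (p ^ k) = 1 := by
      rw [e1, ← map_pow, hk', map_one]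
    have e3 : (QuotientGroup.mk' Kb (QuotientGroup.mk' (Cfsg.pCore p Y) x)) ^ (2 ^ j) = 1 := by
      rw [← map_pow, ← map_pow, hj', map_one, map_one]
    have e4 : (QuotientGroup.mk' Kb (QuotientGroup.mk' (Cfsg.pCore p Y) x))
        ^ (Nat.gcd (2 ^ j) (p ^ k)) = 1 := pow_gcd_eq_one.2 ⟨e3, e2⟩
    have e5 : Nat.gcd (2 ^ j) (p ^ k) = 1 := Nat.Coprime.pow j k hcop2
    rw [e5, pow_one] at e4
    exact (QuotientGroup.eq_one_iff _).mp e4
  have hQcop : (Nat.card ↥(Q : Subgroup Y)).Coprime p := by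
    obtain ⟨j, hj⟩ := IsPGroup.iff_card.mp Q.isPGroup'
    rw [hj]
    exact Nat.Coprime.pow_left j hcop2
  refine ⟨⟨fun a b => ?_⟩⟩
  apply Subtype.ext
  rw [Subgroup.coe_mul, Subgroup.coe_mul]
  have h1 := hKab _ (hmem a a.2) _ (hmem b b.2)
  have h2 : (a : Y) * b * ((b : Y) * a)⁻¹ ∈ Cfsg.pCore p Y := by
    rw [← QuotientGroup.eq_one_iff, ← QuotientGroup.mk'_apply, map_mul, map_mul, map_inv, map_mul, h1]
    group
  have h3 : (a : Y) * b * ((b : Y) * a)⁻¹ ∈ (Q : Subgroup Y) :=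
    Subgroup.mul_mem _ (Subgroup.mul_mem _ a.2 b.2) (Subgroup.inv_mem _ (Subgroup.mul_mem _ b.2 a.2))
  have h4 := Cfsg.Agent.helper10.eq_one_of_mem_of_coprime (Cfsg.pCore p Y) (Q : Subgroup Y) hPp hQcop
    _ h2 h3
  exact mul_inv_eq_one.mp h4

theorem hypT_stable {p : ℕ} [hp : Fact p.Prime] (hp2 : p ≠ 2) (X : Type u) [Group X] :
    Cfsg.Agent.helper10.HypT p (fun Q _ => Cfsg.stableNormalClosure p Q) X := by
  intro K Y _ _ f hf hcon hnpc T hT
  have hst : Cfsg.IsActionPStable p Y :=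
    Cfsg.Agent.S0626.result hp2 (fun Q => sylow_two_comm hp2 hnpc T hT Q)
  exact Cfsg.Agent.S0624.result hst hcon T


/-- The normal p-complement Theorem of Thompson in the form with W(S): for odd p, G has a normal p-complement as soon as the normalizer of the characteristic subgroup W(S) of a Sylow p-subgroup S has one. -/
theorem result {G : Type*} [Group G] [Finite G] {p : ℕ} [Fact p.Prime] (hp : p ≠ 2) (S : Sylow p G) (hN : Cfsg.HasNormalPComplement p ↥(Subgroup.normalizer (((Cfsg.stableNormalClosure p ↥(S : Subgroup G)).map (S : Subgroup G).subtype) : Set G))) : Cfsg.HasNormalPComplement p G := by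
  exact Cfsg.Agent.helper10.thompson_main (isCharPFunctor_stable p) _ G rfl
    (hypT_stable hp G) S hN

end Cfsg.Agent.S0628
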