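import Mathlib
import Cfsg.Statements.S0629
import Cfsg.Agent.Lib_helper7_PSolv
import Cfsg.Agent.Lib_helper7_Balance

set_option autoImplicit false
open Cfsg

namespace Cfsg.Agent.S0629


open Cfsg.Agent.helper7 in
/-- A component of a group `Q` with `O_{p'}(Q) = 1` is not contained in the image of a
`p`-solvable group. -/
theorem aux {Q C : Type*} [Group Q] [Finite Q] [Group C] {p : ℕ} (hp : p.Prime)
    (hO : Cfsg.pPrimeCore p Q = ⊥) {L : Subgroup Q} (hL : Comp L ⊤) (hsol : Cfsg.IsPSolvable p C)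
    (f : C →* Q) (hLf : L ≤ f.range) : False := by
  obtain ⟨n, H, h0, hn, hmono, hnorm, hfac⟩ := hsol
  have hNR : ∀ i : Fin (n + 1), (H i).map f ≤ f.range := by
    rintro i _ ⟨h, _, rfl⟩
    exact ⟨h, rfl⟩
  have hNn : ∀ i : Fin (n + 1), f.range ≤ Subgroup.normalizer (((H i).map f : Subgroup Q) : Set Q) := by
    rintro i _ ⟨c, rfl⟩
    rw [Subgroup.mem_normalizer_iff]
    intro y
    constructor
    · rintro ⟨h, hh, rfl⟩
      exact ⟨c * h * c⁻¹, (hnorm i).conj_mem h hh c, by simp⟩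
    · rintro ⟨h, hh, hhy⟩
      refine ⟨c⁻¹ * h * c⁻¹⁻¹, (hnorm i).conj_mem h hh c⁻¹, ?_⟩
      simp only [map_mul, map_inv, inv_inv]
      rw [SetLike.mem_coe] at hh
      have : f h = f c * y * (f c)⁻¹ := hhy
      rw [this]; group
  have hLR : SN L f.range := hL.1.of_le hLf le_top
  have key : ∀ i : ℕ, ∀ hi : i < n + 1, ¬ L ≤ (H ⟨i, hi⟩).map f := by
    intro i
    induction i with
    | zero =>
      intro hi hle
      have : (⟨0, hi⟩ : Fin (n + 1)) = 0 := rfl
      rw [this, h0, Subgroup.map_bot] at hle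
      exact hL.2.2.1 (le_bot_iff.1 hle)
    | succ i ih =>
      intro hi hle
      have hi' : i < n := Nat.lt_of_succ_lt_succ hi
      have hprev := ih (Nat.lt_of_succ_lt hi)
      have e1 : (⟨i, Nat.lt_of_succ_lt hi⟩ : Fin (n + 1)) = (⟨i, hi'⟩ : Fin n).castSucc := rfl
      have e2 : (⟨i + 1, hi⟩ : Fin (n + 1)) = (⟨i, hi'⟩ : Fin n).succ := rfl
      rw [e1] at hprev
      rw [e2] at hle
      haveI := hnorm (⟨i, hi'⟩ : Fin n).castSucc
      have hNsn : SN ((H (⟨i, hi'⟩ : Fin n).castSucc).map f) f.range :=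
        SN.of_normal (hNR _) (hNn _)
      have hcomm : ⁅L, (H (⟨i, hi'⟩ : Fin n).castSucc).map f⁆ = ⊥ := by
        rcases comp_le_or_comm hLR hL.2 hNsn with h1 | h1
        · exact absurd h1 hprev
        · exact h1
      have hcent : (H (⟨i, hi'⟩ : Fin n).castSucc).map f ≤ Subgroup.centralizer (L : Set Q) := by
        rw [Subgroup.commutator_comm] at hcomm
        exact Subgroup.commutator_eq_bot_iff_le_centralizer.1 hcomm
      have hpow : ∀ y ∈ L, y ^ ((H (⟨i, hi'⟩ : Fin n).castSucc).relIndex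
          (H (⟨i, hi'⟩ : Fin n).succ)) ∈ Subgroup.centralizer (L : Set Q) := by
        intro y hy
        obtain ⟨h, hh, rfl⟩ := hle hy
        rw [← map_pow]
        exact hcent (Subgroup.mem_map_of_mem _ (Subgroup.pow_relIndex_mem _ hh))
      rcases hfac ⟨i, hi'⟩ with ⟨m, hm⟩ | hm
      · rw [hm] at hpow
        exact QS.not_pgroup_mod_central hp hL.2 hpow
      · exact comp_not_pprime_mod_center hp hO hL hm hpow
  have := key n (Nat.lt_succ_self n)
  have e : (⟨n, Nat.lt_succ_self n⟩ : Fin (n + 1)) = Fin.last n := rfl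
  rw [e, hn] at this
  apply this
  intro y hy
  obtain ⟨c, rfl⟩ := hLf hy
  exact ⟨c, Subgroup.mem_top c, rfl⟩

open Cfsg.Agent.helper7 in
/-- A group in which the centralizer of a Sylow p-subgroup of O_{p',p}(G) is p-solvable is p-constrained. -/
theorem result {G : Type*} [Group G] [Finite G] {p : ℕ} [Fact p.Prime] (P : Sylow p ↥(Cfsg.pPrimePCore p G)) (hsol : Cfsg.IsPSolvable p ↥(Subgroup.centralizer (((P : Subgroup ↥(Cfsg.pPrimePCore p G)).map (Cfsg.pPrimePCore p G).subtype : Subgroup G) : Set G))) : Cfsg.IsPConstrained p G := by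
  have hp : p.Prime := Fact.out
  rw [isPConstrained_iff hp, eq_bot_iff]
  unfold Cfsg.pLayer
  apply sSup_le
  intro K hK
  exfalso
  obtain ⟨hK1, hK2, hK3⟩ := isPComponent_iff.1 hK
  have hPmap := map_sylow_pPrimePCore hp P
  have hPp : IsPGroup p ↥((P : Subgroup ↥(Cfsg.pPrimePCore p G)).map (Cfsg.pPrimePCore p G).subtype) :=
    P.isPGroup'.map _
  have hRF : Cfsg.pCore p (G ⧸ Cfsg.pPrimeCore p G) ≤
      fitOf (⊤ : Subgroup (G ⧸ Cfsg.pPrimeCore p G)) := by
    rw [pCore_eq hp]; exact piCoreIn_le_fitOf hp ⊤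
  have hcF : K.map (QuotientGroup.mk' (Cfsg.pPrimeCore p G)) ≤
      Subgroup.centralizer ((fitOf (⊤ : Subgroup (G ⧸ Cfsg.pPrimeCore p G)) : Subgroup _) : Set _) :=
    Subgroup.commutator_eq_bot_iff_le_centralizer.1 hK2.comm_fitOf
  -- K̄ ≤ π(C)
  have hKC : K.map (QuotientGroup.mk' (Cfsg.pPrimeCore p G)) ≤
      (Subgroup.centralizer (((P : Subgroup ↥(Cfsg.pPrimePCore p G)).map
        (Cfsg.pPrimePCore p G).subtype : Subgroup G) : Set G)).map
        (QuotientGroup.mk' (Cfsg.pPrimeCore p G)) := by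
    rintro _ ⟨x, hx, rfl⟩
    have hxc := (hcF.trans (Subgroup.centralizer_le hRF)) (Subgroup.mem_map_of_mem _ hx)
    rw [← hPmap, Subgroup.mem_centralizer_iff] at hxc
    obtain ⟨y, hy, o, ho, rfl⟩ := exists_lift_centralizer hp (pPrimeCore_coprime hp) hPp x (by
      intro a ha
      rw [← ker_mk_pPrimeCore p, MonoidHom.mem_ker, map_mul, map_mul, map_mul, map_inv, map_inv]
      have := hxc _ (Subgroup.mem_map_of_mem _ ha)
      rw [this]; group)
    refine ⟨o * x, hy, ?_⟩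
    rw [map_mul]
    have : QuotientGroup.mk' (Cfsg.pPrimeCore p G) o = 1 := by
      rw [← MonoidHom.mem_ker, ker_mk_pPrimeCore]; exact ho
    rw [this, one_mul]
  apply aux hp (pPrimeCore_quotient_eq_bot hp) hK2 hsol
    ((QuotientGroup.mk' (Cfsg.pPrimeCore p G)).comp (Subgroup.subtype _))
  intro y hy
  obtain ⟨c, hc, rfl⟩ := hKC hy
  exact ⟨⟨c, hc⟩, rfl⟩

end Cfsg.Agent.S0629
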