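import Cfsg.Statements.S0635
import Cfsg.Agent.Lib_lead_PLength

set_option autoImplicit false
set_option linter.style.haveILetI false
open Cfsg

namespace Cfsg.Agent.S0635

open Cfsg.Agent.lead

universe u

theorem aux (p : ℕ) [hp : Fact p.Prime] : ∀ (c : ℕ) (G : Type u) [Group G] [Finite G],
    Cfsg.IsPSolvable p G → ∀ (S : Sylow p G),
    Group.nilpotencyClass (S : Subgroup G) ≤ c → Cfsg.PLengthLE p c G := by
  intro c
  induction c with
  | zero =>
    intro G _ _ hsol S hc
    haveI : Group.IsNilpotent (S : Subgroup G) := S.isPGroup'.isNilpotent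
    have h0 : Group.nilpotencyClass (S : Subgroup G) = 0 := Nat.le_zero.mp hc
    rw [Group.nilpotencyClass_zero_iff_subsingleton] at h0
    have hS1 : Nat.card (S : Subgroup G) = 1 := Nat.card_eq_one_iff_unique.mpr ⟨h0, ⟨1⟩⟩
    have hfac : (Nat.card G).factorization p = 0 := by
      have := S.card_eq_multiplicity
      rw [hS1] at this
      by_contra hne
      have h2 : 1 < p ^ (Nat.card G).factorization p := Nat.one_lt_pow hne hp.out.one_lt
      omega
    have hcopG : (Nat.card G).Coprime p := by
      rw [Nat.coprime_comm, Nat.Prime.coprime_iff_not_dvd hp.out]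
      intro hd
      have := (hp.out.dvd_iff_one_le_factorization Nat.card_pos.ne').mp hd
      omega
    show (upperPSeries p G (2 * 0 + 1)).1 = ⊤
    rw [show 2 * 0 + 1 = 0 + 1 from rfl, helper23.upperPSeries_succ_of_even p 0 (by decide)]
    have htop : pPrimeCore p (G ⧸ (upperPSeries p G 0).1) = ⊤ := by
      apply top_le_iff.mp
      apply helper1.le_pPrimeCore inferInstance
      rw [Subgroup.card_top, ← Subgroup.index_eq_card]
      exact Nat.Coprime.coprime_dvd_left (Subgroup.index_dvd_card _) hcopG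
    rw [htop, Subgroup.comap_top]
  | succ c ih =>
    intro G _ _ hsol S hc
    haveI : Group.IsNilpotent (S : Subgroup G) := S.isPGroup'.isNilpotent
    -- notation
    obtain ⟨U₁, hU₁⟩ : ∃ U : Subgroup G, U = (upperPSeries p G 1).1 := ⟨_, rfl⟩
    haveI hU₁n : U₁.Normal := by rw [hU₁]; infer_instance
    have hU₁eq : U₁ = (pPrimeCore p (G ⧸ (upperPSeries p G 0).1)).comap (QuotientGroup.mk' _) := by
      rw [hU₁]; exact helper23.upperPSeries_succ_of_even p 0 (by decide)
    have hO : pPrimeCore p (G ⧸ U₁) = ⊥ :=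
      helper23.pPrimeCore_quotient_comap_eq_bot p (upperPSeries p G 0).1 U₁ hU₁eq
    have hps : helper23.PSReach p (⊤ : Subgroup (G ⧸ U₁)) :=
      helper23.psreach_top_quotient hp.out hsol U₁
    have hHH := helper23.hall_higman_123 hps hO
    have hU₂eq : (upperPSeries p G 2).1 = (pCore p (G ⧸ U₁)).comap (QuotientGroup.mk' U₁) := by
      have := helper23.upperPSeries_succ_of_not_even (G := G) p 1 (by decide)
      rw [show (1 + 1 : ℕ) = 2 from rfl] at this
      rw [this]
      subst hU₁
      rfl
    -- Z(S) ≤ U₂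
    have hZ : ∀ z : (S : Subgroup G), z ∈ Subgroup.center (S : Subgroup G) →
        (z : G) ∈ (upperPSeries p G 2).1 := by
      intro z hz
      rw [hU₂eq, Subgroup.mem_comap]
      apply hHH
      rw [Subgroup.mem_centralizer_iff]
      intro y hy
      have hy' : y ∈ ((Sylow.mapSurjective (QuotientGroup.mk'_surjective U₁) S : Sylow p (G ⧸ U₁)) :
          Subgroup (G ⧸ U₁)) := helper1.pCore_le_sylow _ hy
      rw [Sylow.coe_mapSurjective] at hy'
      obtain ⟨s, hs, rfl⟩ := hy'
      have := Subgroup.mem_center_iff.mp hz ⟨s, hs⟩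
      have h2 : s * (z : G) = (z : G) * s := congrArg Subtype.val this
      rw [← map_mul, ← map_mul, h2]
    -- the quotient
    obtain ⟨U₂, hU₂⟩ : ∃ U : Subgroup G, U = (upperPSeries p G 2).1 := ⟨_, rfl⟩
    haveI hU₂n : U₂.Normal := by rw [hU₂]; infer_instance
    have hsol' : Cfsg.IsPSolvable p (G ⧸ U₂) :=
      helper23.isPSolvable_of_surjective hp.out (QuotientGroup.mk' U₂)
        (QuotientGroup.mk'_surjective U₂) hsol
    let S' : Sylow p (G ⧸ U₂) := Sylow.mapSurjective (QuotientGroup.mk'_surjective U₂) S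
    haveI : Group.IsNilpotent (S' : Subgroup (G ⧸ U₂)) := S'.isPGroup'.isNilpotent
    have hS'coe : (S' : Subgroup (G ⧸ U₂)) = (S : Subgroup G).map (QuotientGroup.mk' U₂) :=
      Sylow.coe_mapSurjective _ S
    -- surjection S / Z(S) → S'
    let φ : (S : Subgroup G) →* (S' : Subgroup (G ⧸ U₂)) :=
      ((QuotientGroup.mk' U₂).comp (S : Subgroup G).subtype).codRestrict (S' : Subgroup (G ⧸ U₂))
        (fun x => by rw [hS'coe]; exact ⟨x, x.2, rfl⟩)
    have hφsurj : Function.Surjective φ := by
      rintro ⟨y, hy⟩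
      rw [hS'coe] at hy
      obtain ⟨s, hs, rfl⟩ := hy
      exact ⟨⟨s, hs⟩, Subtype.ext rfl⟩
    have hker : Subgroup.center (S : Subgroup G) ≤ φ.ker := by
      intro z hz
      rw [MonoidHom.mem_ker]
      apply Subtype.ext
      show QuotientGroup.mk' U₂ (z : G) = 1
      rw [QuotientGroup.mk'_apply, QuotientGroup.eq_one_iff, hU₂]
      exact hZ z hz
    let ψ : (S : Subgroup G) ⧸ Subgroup.center (S : Subgroup G) →* (S' : Subgroup (G ⧸ U₂)) :=
      QuotientGroup.lift (Subgroup.center (S : Subgroup G)) φ hker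
    have hψsurj : Function.Surjective ψ := by
      intro y
      obtain ⟨s, hs⟩ := hφsurj y
      exact ⟨QuotientGroup.mk s, by rw [← hs]; rfl⟩
    have hclass : Group.nilpotencyClass (S' : Subgroup (G ⧸ U₂)) ≤ c := by
      have h1 := Group.nilpotencyClass_le_of_surjective ψ hψsurj
      rw [Group.nilpotencyClass_quotient_center] at h1
      omega
    have hIH := ih (G ⧸ U₂) hsol' S' hclass
    -- shift
    show (upperPSeries p G (2 * (c + 1) + 1)).1 = ⊤
    subst hU₂
    have hshift := comap_upperPSeries_quotient_le (G := G) p (2 * c + 1)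
    have hIH' : (upperPSeries p (G ⧸ (upperPSeries p G 2).1) (2 * c + 1)).1 = ⊤ := hIH
    rw [hIH', Subgroup.comap_top] at hshift
    rw [show 2 * (c + 1) + 1 = 2 * c + 1 + 2 by ring]
    exact top_le_iff.mp hshift

/-- The p-length of a p-soluble group is at most the nilpotency class of its Sylow p-subgroups. -/
theorem result {G : Type*} [Group G] [Finite G] {p : ℕ} [Fact p.Prime] (hsol : Cfsg.IsPSolvable p G) (S : Sylow p G) : Cfsg.PLengthLE p (Group.nilpotencyClass ↥(S : Subgroup G)) G := by
  exact aux p _ G hsol S le_rfl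

end Cfsg.Agent.S0635
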