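import Cfsg.Statements.S0639
import Cfsg.Agent.Lib_helper23_Reg3

set_option autoImplicit false
open Cfsg

namespace Cfsg.Agent.S0639

/-- Huppert's criterion: for p greater than 3, a p-group whose elements of order dividing p generate a subgroup of order at most p² is metacyclic. -/
theorem result {R : Type*} [Group R] [Finite R] {p : ℕ} [Fact p.Prime] (hp : 3 < p) (hR : IsPGroup p R) (hO : Nat.card ↥(Cfsg.omegaOne p (⊤ : Subgroup R)) ≤ p ^ 2) : Cfsg.IsMetacyclic R := by
  have hpp : p.Prime := Fact.out
  have hp5 : 5 ≤ p := by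
    rcases Nat.lt_or_ge 4 p with h | h
    · exact h
    · have : p = 4 := by omega
      subst this
      exact absurd hpp (by decide)
  have hsub : {x : R | x ^ p = 1} ⊆ (Cfsg.omegaOne p (⊤ : Subgroup R) : Set R) := by
    intro x hx
    exact Subgroup.subset_closure ⟨Subgroup.mem_top x, hx⟩
  have h1 : {x : R | x ^ p = 1}.ncard ≤ p ^ 2 := by
    refine (Set.ncard_le_ncard hsub (Set.toFinite _)).trans ?_
    have : (Cfsg.omegaOne p (⊤ : Subgroup R) : Set R).ncard =
        Nat.card ↥(Cfsg.omegaOne p (⊤ : Subgroup R)) := (Nat.card_coe_set_eq _).symm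
    rw [this]; exact hO
  exact Cfsg.Agent.helper23.meta_of_small_omega hp5 _ R rfl hR h1

end Cfsg.Agent.S0639
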