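import Mathlib
import Cfsg.Agent.Lib_helper21_Regular
import Cfsg.Statements.S4225

set_option autoImplicit false
open Cfsg

namespace Cfsg.Agent.S4225

/-- In a regular `p`-group, for every `k` the elements whose `p^k`-th power is `1` form a characteristic subgroup. -/
theorem result {G : Type*} [Group G] [Finite G] {p : ℕ} [Fact p.Prime] (hG : Cfsg.IsRegularPGroup p G) (k : ℕ) : ∃ H : Subgroup G, H.Characteristic ∧ (H : Set G) = {x : G | x ^ p ^ k = 1} := by
  refine ⟨{ carrier := {x : G | x ^ p ^ k = 1}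
            one_mem' := one_pow _
            mul_mem' := ?_
            inv_mem' := ?_ }, ?_, rfl⟩
  · intro x y hx hy
    have hx' : x ^ p ^ k = 1 := hx
    have hy' : y ^ p ^ k = 1 := hy
    have := (helper21.reg_pow_eq_iff hG x y⁻¹ k).mp (by rw [hx', inv_pow, hy', inv_one])
    rw [inv_inv] at this
    exact this
  · intro x hx
    have hx' : x ^ p ^ k = 1 := hx
    change x⁻¹ ^ p ^ k = 1
    rw [inv_pow, hx', inv_one]
  · rw [Subgroup.characteristic_iff_comap_eq]
    intro ϕ
    ext x
    rw [Subgroup.mem_comap]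
    change (ϕ x) ^ p ^ k = 1 ↔ x ^ p ^ k = 1
    rw [← map_pow]
    exact ϕ.map_eq_one_iff

end Cfsg.Agent.S4225
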