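import Cfsg.Statements.S0637
import Cfsg.Agent.Lib_helper23_Reg3
import Cfsg.Agent.S0639
import Cfsg.Agent.S4225

set_option autoImplicit false
open Cfsg

namespace Cfsg.Agent.S0637

/-- For p greater than 3, the bound p² on the order of the subgroup generated by the elements of order dividing p passes from a p-group to all its quotients. -/
theorem result {R : Type*} [Group R] [Finite R] {p : ℕ} [Fact p.Prime] (hp : 3 < p) (hR : IsPGroup p R) (hO : Nat.card ↥(Cfsg.omegaOne p (⊤ : Subgroup R)) ≤ p ^ 2) (T : Subgroup R) [T.Normal] : Nat.card ↥(Cfsg.omegaOne p (⊤ : Subgroup (R ⧸ T))) ≤ p ^ 2 := by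
  have hpp : p.Prime := Fact.out
  have hp2 : p ≠ 2 := by omega
  have hm : Cfsg.IsMetacyclic R := Cfsg.Agent.S0639.result hp hR hO
  have hmQ : Cfsg.IsMetacyclic (R ⧸ T) := Cfsg.Agent.helper19.isMetacyclic_quotient hm T
  have hQ : IsPGroup p (R ⧸ T) := hR.to_quotient T
  have hreg := Cfsg.Agent.helper23.regular_of_meta hp2 hQ hmQ
  obtain ⟨H, -, hH⟩ := Cfsg.Agent.S4225.result hreg 1
  have hle : Cfsg.omegaOne p (⊤ : Subgroup (R ⧸ T)) ≤ H := by
    unfold Cfsg.omegaOne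
    rw [Subgroup.closure_le]
    rintro x ⟨-, hx⟩
    show x ∈ (H : Set (R ⧸ T))
    rw [hH]
    show x ^ p ^ 1 = 1
    rw [pow_one]; exact hx
  have h1 : Nat.card ↥H = {x : R ⧸ T | x ^ p = 1}.ncard := by
    rw [← Nat.card_coe_set_eq]
    have : (H : Set (R ⧸ T)) = {x : R ⧸ T | x ^ p = 1} := by
      rw [hH]; ext x; simp
    rw [← this]; rfl
  calc Nat.card ↥(Cfsg.omegaOne p (⊤ : Subgroup (R ⧸ T))) ≤ Nat.card ↥H := Subgroup.card_le_of_le hle
    _ = {x : R ⧸ T | x ^ p = 1}.ncard := h1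
    _ ≤ p ^ 2 := Cfsg.Agent.helper19.ncard_pow_p_le hp2 hQ hmQ

end Cfsg.Agent.S0637
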