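import Cfsg.Statements.S0638
import Mathlib
import Cfsg.Agent.S0636
import Cfsg.Agent.S0127
import Cfsg.Agent.Lib_helper19_CP

set_option autoImplicit false
set_option linter.style.haveILetI false
open Cfsg

namespace Cfsg.Agent.S0638

/-- For odd p, in a non-cyclic metacyclic p-group the elements of order dividing p generate an elementary abelian subgroup of order p². -/
theorem result {R : Type*} [Group R] [Finite R] {p : ℕ} [Fact p.Prime] (hp : p ≠ 2) (hR : IsPGroup p R) (hm : Cfsg.IsMetacyclic R) (hnc : ¬ IsCyclic R) : Cfsg.IsElementaryAbelian p (Cfsg.omegaOne p (⊤ : Subgroup R)) ∧ Nat.card ↥(Cfsg.omegaOne p (⊤ : Subgroup R)) = p ^ 2 := by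
  have hpp : p.Prime := Fact.out
  have hp0 : 0 < p := hpp.pos
  have hp1 : 1 < p := hpp.one_lt
  obtain ⟨N, hNn, hNc, hQc⟩ := hm
  haveI := hNn
  -- the elementary abelian subgroup
  have hTnc : ¬ IsCyclic (⊤ : Subgroup R) := by
    intro h
    apply hnc
    exact isCyclic_of_surjective (Subgroup.topEquiv (G := R)).toMonoidHom
      (Subgroup.topEquiv (G := R)).surjective
  obtain ⟨A, -, hAn, hAe, hAc⟩ := S0636.result hp hR (⊤ : Subgroup R) hTnc
  -- the quotient
  set π := QuotientGroup.mk' N with hπ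
  have hπs : Function.Surjective π := QuotientGroup.mk'_surjective N
  have hker : π.ker = N := QuotientGroup.ker_mk' N
  have hQcomm : ∀ u v : R ⧸ N, u * v = v * u := fun u v =>
    (IsCyclic.commGroup (α := R ⧸ N)).mul_comm u v
  have hmulQ : ∀ u ∈ (⊤ : Subgroup (R ⧸ N)), ∀ v ∈ (⊤ : Subgroup (R ⧸ N)),
      (u * v) ^ p = u ^ p * v ^ p := fun u _ v _ =>
    (show Commute u v from hQcomm u v).mul_pow p
  set Ωq := S0636.omegaSub (⊤ : Subgroup (R ⧸ N)) p hmulQ with hΩq
  have hTc : IsCyclic (⊤ : Subgroup (R ⧸ N)) :=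
    isCyclic_of_surjective (Subgroup.topEquiv (G := R ⧸ N)).symm.toMonoidHom
      (Subgroup.topEquiv (G := R ⧸ N)).symm.surjective
  have hΩcard : Nat.card Ωq ≤ p :=
    S0127.card_le_of_exp_of_le_cyclic hp0 ⊤ hTc Ωq le_top (fun u hu => hu.2)
  set M := Ωq.comap π with hM
  have hallM : ∀ x : R, x ^ p = 1 → x ∈ M := by
    intro x hx
    rw [hM, Subgroup.mem_comap]
    refine ⟨Subgroup.mem_top _, ?_⟩
    rw [← map_pow, hx, map_one]
  have hNM : N ≤ M := by
    intro x hx
    rw [hM, Subgroup.mem_comap]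
    have : π x = 1 := by rw [← MonoidHom.mem_ker, hker]; exact hx
    rw [this]; exact Subgroup.one_mem _
  have hAM : A ≤ M := fun a ha => hallM a (hAe.2 a ha)
  have hMnc : ¬ IsCyclic ↥M := by
    intro h
    have := S0127.card_le_of_exp_of_le_cyclic hp0 M h A hAM hAe.2
    rw [hAc] at this
    nlinarith
  -- the order of Ωq
  have hMcard : Nat.card M = Nat.card Ωq * Nat.card N := by
    rw [hM, helper19.card_comap_of_surjective π hπs, hker]
  obtain ⟨k, hk⟩ := ((hR.to_quotient N).to_subgroup Ωq).exists_card_eq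
  have hk1 : k = 1 := by
    have hk0 : k ≠ 0 := by
      rintro rfl
      rw [pow_zero, Subgroup.card_eq_one] at hk
      apply hMnc
      have : M = N := by
        rw [hM, hk]
        exact hker
      rw [this]; exact hNc
    have hkle : k ≤ 1 := by
      by_contra hgt
      push Not at hgt
      have : p ^ 2 ≤ p ^ k := Nat.pow_le_pow_right hp0 hgt
      rw [← hk] at this
      nlinarith
    omega
  rw [hk1, pow_one] at hk
  -- apply S0127 to M
  have hC' : IsCyclic ↥(N.subgroupOf M) :=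
    isCyclic_of_surjective (Subgroup.subgroupOfEquivOfLe hNM).symm.toMonoidHom
      (Subgroup.subgroupOfEquivOfLe hNM).symm.surjective
  have hC'i : (N.subgroupOf M).index = p := by
    have h1 := Subgroup.card_mul_index (N.subgroupOf M)
    have h2 : Nat.card ↥(N.subgroupOf M) = Nat.card N :=
      Nat.card_congr (Subgroup.subgroupOfEquivOfLe hNM).toEquiv
    rw [h2, hMcard, hk, mul_comm] at h1
    have hNpos : 0 < Nat.card N := Nat.card_pos
    exact Nat.eq_of_mul_eq_mul_right hNpos h1
  obtain ⟨hKe, hKc⟩ := S0127.result hp (hR.to_subgroup M) hMnc (N.subgroupOf M) hC' hC'i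
  set K := Subgroup.closure {x : ↥M | x ^ p = 1} with hK
  have hmap : Cfsg.omegaOne p (⊤ : Subgroup R) = K.map M.subtype := by
    rw [Cfsg.omegaOne, hK, MonoidHom.map_closure]
    congr 1
    ext x
    constructor
    · rintro ⟨-, hx⟩
      exact ⟨⟨x, hallM x hx⟩, Subtype.ext hx, rfl⟩
    · rintro ⟨y, hy, rfl⟩
      refine ⟨Subgroup.mem_top _, ?_⟩
      have := congrArg Subtype.val hy
      simpa using this
  rw [hmap]
  refine ⟨⟨⟨⟨?_⟩⟩, ?_⟩, ?_⟩
  · rintro ⟨u, u', hu', rfl⟩ ⟨v, v', hv', rfl⟩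
    apply Subtype.ext
    have := hKe.1.is_comm.comm (⟨u', hu'⟩ : ↥K) ⟨v', hv'⟩
    have h2 := congrArg (fun t : ↥K => ((t : ↥M) : R)) this
    exact h2
  · rintro u ⟨u', hu', rfl⟩
    have := hKe.2 u' hu'
    have h2 := congrArg Subtype.val this
    simpa using h2
  · rw [Subgroup.card_map_of_injective M.subtype_injective]
    exact hKc

end Cfsg.Agent.S0638
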