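import Cfsg.Statements.S0642
-- import your own Cfsg.Agent.* helpers here
import Mathlib

set_option autoImplicit false
open Cfsg

namespace Cfsg.Agent.S0642

open scoped commutatorElement

theorem closure_normal_of_conj {G : Type*} [Group G] (S : Set G)
    (h : ∀ s ∈ S, ∀ g : G, g * s * g⁻¹ ∈ S) : (Subgroup.closure S).Normal := by
  constructor
  intro n hn g
  induction hn using Subgroup.closure_induction with
  | mem x hx => exact Subgroup.subset_closure (h x hx g)
  | one => simp
  | mul x y _ _ hx hy =>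
    have : g * (x * y) * g⁻¹ = (g * x * g⁻¹) * (g * y * g⁻¹) := by group
    rw [this]; exact Subgroup.mul_mem _ hx hy
  | inv x _ hx =>
    have : g * x⁻¹ * g⁻¹ = (g * x * g⁻¹)⁻¹ := by group
    rw [this]; exact Subgroup.inv_mem _ hx

theorem powerClosure_mono {G : Type*} [Group G] (p n : ℕ) {H K : Subgroup G} (h : H ≤ K) :
    Cfsg.powerClosure p n H ≤ Cfsg.powerClosure p n K := by
  unfold Cfsg.powerClosure
  apply Subgroup.closure_mono
  rintro y ⟨x, hx, rfl⟩
  exact ⟨x, h hx, rfl⟩

theorem powerClosure_le_self {G : Type*} [Group G] (p n : ℕ) (H : Subgroup G) :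
    Cfsg.powerClosure p n H ≤ H := by
  unfold Cfsg.powerClosure
  rw [Subgroup.closure_le]
  rintro y ⟨x, hx, rfl⟩
  exact H.pow_mem hx _

theorem powerClosure_ne {G : Type*} [Group G] [Finite G] {p : ℕ} [Fact p.Prime] (D : Subgroup G)
    (hD : IsPGroup p D) (hne : D ≠ ⊥) : Cfsg.powerClosure p 1 D ≠ D := by
  intro heq
  have hp : p.Prime := Fact.out
  obtain ⟨n, hn⟩ := IsPGroup.iff_card.mp hD
  have hn0 : n ≠ 0 := by
    rintro rfl
    rw [pow_zero] at hn
    apply hne
    exact Subgroup.card_eq_one.mp hn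
  obtain ⟨K, hK⟩ := Sylow.exists_subgroup_card_pow_prime (G := D) p (n := n - 1)
    (by rw [hn]; exact pow_dvd_pow p (Nat.sub_le n 1))
  have hidx : K.index = p := by
    have h1 := Subgroup.card_mul_index K
    rw [hK, hn] at h1
    have h2 : p ^ (n - 1) * p = p ^ n := by
      rw [← pow_succ]; congr 1; omega
    have hpos : 0 < p ^ (n - 1) := pow_pos hp.pos _
    exact Nat.eq_of_mul_eq_mul_left hpos (h1.trans h2.symm)
  have hKn : K.Normal := by
    apply Subgroup.normal_of_index_eq_minFac_card
    rw [hidx, hn, hp.pow_minFac hn0]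
  have hpow : ∀ d : D, d ^ p ∈ K := by
    intro d
    have h1 : (QuotientGroup.mk d : D ⧸ K) ^ p = 1 := by
      have := pow_card_eq_one' (G := D ⧸ K) (x := (QuotientGroup.mk d : D ⧸ K))
      rwa [← Subgroup.index_eq_card, hidx] at this
    rw [← QuotientGroup.mk_pow, QuotientGroup.eq_one_iff] at h1
    exact h1
  have hle : Cfsg.powerClosure p 1 D ≤ K.map D.subtype := by
    unfold Cfsg.powerClosure
    rw [Subgroup.closure_le]
    rintro y ⟨x, hx, rfl⟩
    rw [pow_one]
    exact ⟨⟨x, hx⟩ ^ p, hpow ⟨x, hx⟩, rfl⟩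
  rw [heq] at hle
  have hKtop : K = ⊤ := by
    rw [eq_top_iff]
    intro d _
    obtain ⟨k, hk, hkd⟩ := hle d.2
    have : k = d := Subtype.ext hkd
    rwa [← this]
  rw [hKtop, Subgroup.index_top] at hidx
  exact hp.one_lt.ne hidx


/-- Among finite 2-groups the regular ones are exactly the abelian ones. -/
theorem result {G : Type*} [Group G] [Finite G] (hG : IsPGroup 2 G) : Cfsg.IsRegularPGroup 2 G ↔ ∀ a b : G, a * b = b * a := by
  constructor
  · rintro ⟨_, hreg⟩
    have : Fact (Nat.Prime 2) := ⟨Nat.prime_two⟩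
    set D : Subgroup G := commutator G with hD
    set P := Cfsg.powerClosure 2 1 D with hP
    have hDn : D.Normal := by rw [hD]; infer_instance
    have hPn : P.Normal := by
      rw [hP]; unfold Cfsg.powerClosure
      apply closure_normal_of_conj
      rintro s ⟨x, hx, rfl⟩ g
      refine ⟨g * x * g⁻¹, hDn.conj_mem x hx g, ?_⟩
      rw [conj_pow]
    have hcomm : ∀ x y : G, ⁅y⁻¹, x⁻¹⁆ ∈ P := by
      intro x y
      obtain ⟨c, hc, hcc⟩ := hreg x y 1
      have hcP : c ∈ P := by
        apply powerClosure_mono 2 1 _ hc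
        rw [hD, commutator_def]
        exact Subgroup.commutator_mono le_top le_top
      have h1 : ⁅y⁻¹, x⁻¹⁆ = y * c * y⁻¹ := by
        have h2 : c = (x ^ 2 * y ^ 2)⁻¹ * (x * y) ^ 2 := by
          rw [pow_one] at hcc
          rw [hcc]; group
        rw [h2, commutatorElement_def]
        simp only [pow_two]
        group
      rw [h1]
      exact hPn.conj_mem c hcP y
    have hDP : D ≤ P := by
      rw [hD, commutator_eq_closure, Subgroup.closure_le]
      rintro z ⟨a, b, rfl⟩
      have := hcomm b⁻¹ a⁻¹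
      simpa using this
    have hPD : P = D := le_antisymm (powerClosure_le_self 2 1 D) hDP
    have hDbot : D = ⊥ := by
      by_contra hne
      exact powerClosure_ne D (hG.to_subgroup D) hne hPD
    intro a b
    have : ⁅a, b⁆ ∈ D := by
      rw [hD, commutator_eq_closure]
      exact Subgroup.subset_closure ⟨a, b, rfl⟩
    rw [hDbot, Subgroup.mem_bot] at this
    exact commutatorElement_eq_one_iff_mul_comm.mp this
  · intro hab
    refine ⟨hG, ?_⟩
    intro a b n
    refine ⟨1, Subgroup.one_mem _, ?_⟩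
    rw [mul_one]
    exact (Commute.mul_pow (hab a b) _)

end Cfsg.Agent.S0642
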