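import Cfsg.Statements.S0645
import Mathlib
import Cfsg.Agent.S0636
import Cfsg.Agent.S0127
import Cfsg.Agent.Lib_lead_Class2

set_option autoImplicit false
set_option linter.style.haveILetI false
open Cfsg

namespace Cfsg.Agent.S0645

/-- Structure of an odd-order non-cyclic `p`-group with a cyclic subgroup `C` of index `p`. -/
theorem structure_facts {R : Type*} [Group R] [Finite R] {p : ℕ} [Fact p.Prime] (hp : p ≠ 2)
    (hR : IsPGroup p R) (hnc : ¬ IsCyclic R) (C : Subgroup R) (hC : IsCyclic C)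
    (hCi : C.index = p) :
    ∃ A : Subgroup R, A.Normal ∧ C.Normal ∧ Cfsg.IsElementaryAbelian p A ∧
      (∀ z ∈ A ⊓ C, ∀ u : R, u * z = z * u) ∧ (∀ x : R, ∃ a ∈ A, ∃ c ∈ C, x = a * c) := by
  have hpp : p.Prime := Fact.out
  have hp0 : 0 < p := hpp.pos
  have hp1 : 1 < p := hpp.one_lt
  haveI hCn : C.Normal := by
    apply Subgroup.normal_of_index_eq_minFac_card
    rw [hCi]
    obtain ⟨k, hk⟩ := hR.exists_card_eq
    rw [hk]
    have hk0 : k ≠ 0 := by
      rintro rfl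
      rw [pow_zero] at hk
      have : C.index ∣ Nat.card R := Subgroup.index_dvd_card C
      rw [hk, hCi] at this
      have := Nat.le_of_dvd one_pos this
      omega
    exact (hpp.pow_minFac hk0).symm
  have hTnc : ¬ IsCyclic (⊤ : Subgroup R) := by
    intro h
    apply hnc
    exact isCyclic_of_surjective (Subgroup.topEquiv (G := R)).toMonoidHom
      (Subgroup.topEquiv (G := R)).surjective
  obtain ⟨A, -, hAn, hAe, hAc⟩ := S0636.result hp hR (⊤ : Subgroup R) hTnc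
  haveI := hAn
  have hAC : ¬ A ≤ C := by
    intro h
    have := S0127.card_le_of_exp_of_le_cyclic hp0 C hC A h hAe.2
    rw [hAc] at this
    nlinarith
  have hsup : A ⊔ C = ⊤ := by
    have h1 : C.relIndex (A ⊔ C) * (A ⊔ C).index = C.index :=
      Subgroup.relIndex_mul_index le_sup_right
    rw [hCi] at h1
    have h2 : (A ⊔ C).index ∣ p := Dvd.intro_left _ h1
    rcases (Nat.dvd_prime hpp).mp h2 with h3 | h3
    · exact Subgroup.index_eq_one.mp h3
    · exfalso
      rw [h3] at h1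
      have h4 : C.relIndex (A ⊔ C) = 1 := by
        have : C.relIndex (A ⊔ C) * p = 1 * p := by rw [h1, one_mul]
        exact Nat.eq_of_mul_eq_mul_right hp0 this
      rw [Subgroup.relIndex_eq_one] at h4
      exact hAC (le_sup_left.trans h4)
  have hZc : ∀ z ∈ A ⊓ C, ∀ u : R, u * z = z * u := by
    by_cases hbot : A ⊓ C = ⊥
    · intro z hz u
      rw [hbot, Subgroup.mem_bot] at hz
      rw [hz, mul_one, one_mul]
    · haveI : (A ⊓ C).Normal := inferInstance
      obtain ⟨b, hbZ, hbo, hbc⟩ := S0636.exists_central hR (A ⊓ C) hbot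
      have hle : Subgroup.zpowers b ≤ A ⊓ C := by rw [Subgroup.zpowers_le]; exact hbZ
      have hcard : Nat.card ↥(A ⊓ C) ≤ Nat.card ↥(Subgroup.zpowers b) := by
        rw [Nat.card_zpowers, hbo]
        exact S0127.card_le_of_exp_of_le_cyclic hp0 C hC (A ⊓ C) inf_le_right
          (fun x hx => hAe.2 x hx.1)
      have heq := Subgroup.eq_of_le_of_card_ge hle hcard
      intro z hz u
      rw [← heq] at hz
      obtain ⟨i, rfl⟩ := Subgroup.mem_zpowers_iff.mp hz
      exact ((show Commute u b from hbc u).zpow_right i).eq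
  refine ⟨A, hAn, hCn, hAe, hZc, ?_⟩
  intro x
  have hx : x ∈ A ⊔ C := by rw [hsup]; exact Subgroup.mem_top x
  rw [← SetLike.mem_coe, Subgroup.normal_mul] at hx
  obtain ⟨a, ha, c, hc, rfl⟩ := Set.mem_mul.mp hx
  exact ⟨a, ha, c, hc, rfl⟩

/-- Classification of p-groups with a cyclic maximal subgroup, odd p: a non-abelian one of order p^n has generators a of order p^(n-1) and b of order p, b outside the cyclic subgroup generated by a, with b a b⁻¹ = a^(1 + p^(n-2)). -/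
theorem result {G : Type*} [Group G] [Finite G] {p : ℕ} [Fact p.Prime] (hp : p ≠ 2) (n : ℕ) (hn : 3 ≤ n) (hG : Nat.card G = p ^ n) (C : Subgroup G) (hC : IsCyclic C) (hCi : C.index = p) (hna : ∃ x y : G, x * y ≠ y * x) : ∃ a b : G, orderOf a = p ^ (n - 1) ∧ orderOf b = p ∧ b ∉ Subgroup.zpowers a ∧ b * a * b⁻¹ = a ^ (1 + p ^ (n - 2)) := by
  have hpp : p.Prime := Fact.out
  have hp0 : 0 < p := hpp.pos
  have hR : IsPGroup p G := IsPGroup.of_card hG
  have hnc : ¬ IsCyclic G := by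
    intro h
    obtain ⟨x, y, hxy⟩ := hna
    exact hxy ((IsCyclic.commGroup (α := G)).mul_comm x y)
  obtain ⟨A, hAn, hCn, hAe, hZc, hdecomp⟩ := structure_facts hp hR hnc C hC hCi
  -- generator of C
  obtain ⟨g, hg⟩ := hC.exists_generator
  set a₀ : G := (g : G) with ha₀
  have hCz : C = Subgroup.zpowers a₀ := by
    apply le_antisymm
    · intro c hc
      obtain ⟨i, hi⟩ := Subgroup.mem_zpowers_iff.mp (hg ⟨c, hc⟩)
      rw [Subgroup.mem_zpowers_iff]
      refine ⟨i, ?_⟩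
      rw [ha₀, ← Subgroup.coe_zpow, hi]
    · rw [Subgroup.zpowers_le]; exact g.2
  have hCcard : Nat.card C = p ^ (n - 1) := by
    have h1 := Subgroup.card_mul_index C
    rw [hCi, hG] at h1
    have h2 : p ^ n = p ^ (n - 1) * p := by
      rw [← pow_succ]; congr 1; omega
    rw [h2] at h1
    exact Nat.eq_of_mul_eq_mul_right hp0 h1
  have ha₀o : orderOf a₀ = p ^ (n - 1) := by
    rw [← Nat.card_zpowers, ← hCz, hCcard]
  have ha₀C : a₀ ∈ C := g.2
  -- an element of A not commuting with a₀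
  have hexb : ∃ b₀ ∈ A, b₀ * a₀ ≠ a₀ * b₀ := by
    by_contra hcon
    push Not at hcon
    obtain ⟨x, y, hxy⟩ := hna
    apply hxy
    obtain ⟨a, ha, c, hc, rfl⟩ := hdecomp x
    obtain ⟨a', ha', c', hc', rfl⟩ := hdecomp y
    have hAC : ∀ a ∈ A, ∀ c ∈ C, Commute a c := by
      intro a ha c hc
      rw [hCz] at hc
      obtain ⟨i, rfl⟩ := Subgroup.mem_zpowers_iff.mp hc
      exact (show Commute a a₀ from hcon a ha).zpow_right i
    have hAA : ∀ a ∈ A, ∀ a' ∈ A, Commute a a' := by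
      intro a ha a' ha'
      have := hAe.1.is_comm.comm (⟨a, ha⟩ : ↥A) ⟨a', ha'⟩
      exact congrArg Subtype.val this
    have hCC : ∀ c ∈ C, ∀ c' ∈ C, Commute c c' := by
      intro c hc c' hc'
      rw [hCz] at hc hc'
      obtain ⟨i, rfl⟩ := Subgroup.mem_zpowers_iff.mp hc
      obtain ⟨j, rfl⟩ := Subgroup.mem_zpowers_iff.mp hc'
      exact (Commute.refl a₀).zpow_zpow i j
    have e1 : Commute (a * c) (a' * c') := by
      apply Commute.mul_left
      · exact Commute.mul_right (hAA a ha a' ha') (hAC a ha c' hc')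
      · exact Commute.mul_right (hAC a' ha' c hc).symm (hCC c hc c' hc')
    exact e1.eq
  obtain ⟨b₀, hb₀A, hb₀a⟩ := hexb
  have hb₀p : b₀ ^ p = 1 := hAe.2 b₀ hb₀A
  set c := b₀ * a₀ * b₀⁻¹ * a₀⁻¹ with hc
  have hcC : c ∈ C := C.mul_mem (hCn.conj_mem a₀ ha₀C b₀) (C.inv_mem ha₀C)
  have hcA : c ∈ A := by
    have : c = b₀ * (a₀ * b₀⁻¹ * a₀⁻¹) := by rw [hc]; group
    rw [this]
    exact A.mul_mem hb₀A (hAn.conj_mem _ (A.inv_mem hb₀A) a₀)
  have hcZ : c ∈ A ⊓ C := ⟨hcA, hcC⟩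
  have hcp : c ^ p = 1 := hAe.2 c hcA
  have hc1 : c ≠ 1 := by
    intro h
    apply hb₀a
    have : b₀ * a₀ * b₀⁻¹ * a₀⁻¹ = 1 := h
    have h2 : b₀ * a₀ * b₀⁻¹ = a₀ := by
      rw [mul_inv_eq_one] at this; exact this
    exact mul_inv_eq_iff_eq_mul.mp h2
  have hco : orderOf c = p := by
    have h1 : orderOf c ∣ p := orderOf_dvd_of_pow_eq_one hcp
    rcases (Nat.dvd_prime hpp).mp h1 with h2 | h2
    · exact absurd (orderOf_eq_one_iff.mp h2) hc1
    · exact h2
  -- the element z₁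
  set z₁ := a₀ ^ (p ^ (n - 2)) with hz₁
  have hz₁o : orderOf z₁ = p := by
    have h1 : orderOf a₀ / p = p ^ (n - 2) := by
      rw [ha₀o]
      have : p ^ (n - 1) = p ^ (n - 2) * p := by rw [← pow_succ]; congr 1; omega
      rw [this, Nat.mul_div_cancel _ hp0]
    have h2 : p ∣ orderOf a₀ := by
      rw [ha₀o]; exact dvd_pow_self p (by omega)
    have := orderOf_pow_orderOf_div (orderOf_pos a₀).ne' h2
    rw [h1] at this
    exact this
  have hz₁C : z₁ ∈ C := C.pow_mem ha₀C _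
  -- Ω₁(C)
  have hCcomm : ∀ u ∈ C, ∀ v ∈ C, Commute u v := by
    intro u hu v hv
    rw [hCz] at hu hv
    obtain ⟨i, rfl⟩ := Subgroup.mem_zpowers_iff.mp hu
    obtain ⟨j, rfl⟩ := Subgroup.mem_zpowers_iff.mp hv
    exact (Commute.refl a₀).zpow_zpow i j
  have hmul : ∀ u ∈ C, ∀ v ∈ C, (u * v) ^ p = u ^ p * v ^ p := fun u hu v hv =>
    (hCcomm u hu v hv).mul_pow p
  set ΩC := S0636.omegaSub C p hmul with hΩC
  have hΩle : ΩC ≤ C := fun u hu => hu.1
  have hΩcard : Nat.card ΩC ≤ p :=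
    S0127.card_le_of_exp_of_le_cyclic hp0 C hC ΩC hΩle (fun u hu => hu.2)
  have hcΩ : Subgroup.zpowers c = ΩC := by
    apply Subgroup.eq_of_le_of_card_ge
    · rw [Subgroup.zpowers_le]; exact ⟨hcC, hcp⟩
    · rw [Nat.card_zpowers, hco]; exact hΩcard
  have hz₁Ω : z₁ ∈ ΩC := ⟨hz₁C, by rw [← hz₁o]; exact pow_orderOf_eq_one z₁⟩
  rw [← hcΩ] at hz₁Ω
  have hfin : IsOfFinOrder c := isOfFinOrder_of_finite c
  rw [← mem_powers_iff_mem_zpowers] at hz₁Ω
  obtain ⟨i, hi⟩ := (Submonoid.mem_powers_iff _ _).mp hz₁Ω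
  -- the element b
  have hyx : b₀ * a₀ = c * (a₀ * b₀) := by rw [hc]; group
  have hcb₀ : Commute c b₀ := (hZc c hcZ b₀).symm
  have h1 := lead.pow_mul_comm_class2 a₀ b₀ c hyx hcb₀ i
  have hconj : b₀ ^ i * a₀ * (b₀ ^ i)⁻¹ = a₀ ^ (1 + p ^ (n - 2)) := by
    rw [h1, hi, ← mul_assoc, mul_inv_cancel_right, hz₁, ← pow_succ, add_comm]
  have hz₁1 : z₁ ≠ 1 := by
    intro h
    rw [h, orderOf_one] at hz₁o
    have := hpp.one_lt
    omega
  have hne : b₀ ^ i * a₀ * (b₀ ^ i)⁻¹ ≠ a₀ := by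
    rw [h1, hi, ← mul_assoc, mul_inv_cancel_right]
    intro h
    apply hz₁1
    have : z₁ * a₀ = 1 * a₀ := by rw [h, one_mul]
    exact mul_right_cancel this
  refine ⟨a₀, b₀ ^ i, ha₀o, ?_, ?_, hconj⟩
  · have hbp : (b₀ ^ i) ^ p = 1 := by rw [← pow_mul, mul_comm, pow_mul, hb₀p, one_pow]
    have h2 : orderOf (b₀ ^ i) ∣ p := orderOf_dvd_of_pow_eq_one hbp
    rcases (Nat.dvd_prime hpp).mp h2 with h3 | h3
    · exfalso
      apply hne
      rw [orderOf_eq_one_iff.mp h3, one_mul, inv_one, mul_one]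
    · exact h3
  · intro hmem
    apply hne
    obtain ⟨j, hj⟩ := Subgroup.mem_zpowers_iff.mp hmem
    rw [← hj]
    have : Commute (a₀ ^ j) a₀ := (Commute.refl a₀).zpow_left j
    rw [this.eq, mul_inv_cancel_right]

end Cfsg.Agent.S0645
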