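import Cfsg.Statements.S0647
-- import your own Cfsg.Agent.* helpers here

set_option autoImplicit false
open Cfsg

namespace Cfsg.Agent.S0647


/-- For a nonempty family of maximal abelian subgroups of a finite group, the intersection of the family is the centre of the subgroup it generates, which is also the full centralizer of that subgroup. -/
theorem result {S : Type*} [Group S] [Finite S] (𝒜 : Set (Subgroup S)) (hne : 𝒜.Nonempty) (hab : ∀ A ∈ 𝒜, IsMulCommutative A) (hmax : ∀ A ∈ 𝒜, ∀ B : Subgroup S, IsMulCommutative B → A ≤ B → B = A) : sInf 𝒜 = sSup 𝒜 ⊓ Subgroup.centralizer ((sSup 𝒜 : Subgroup S) : Set S) ∧ sInf 𝒜 = Subgroup.centralizer ((sSup 𝒜 : Subgroup S) : Set S) := by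
  have key : sInf 𝒜 = Subgroup.centralizer ((sSup 𝒜 : Subgroup S) : Set S) := by
    apply le_antisymm
    · intro x hx
      rw [Subgroup.mem_sInf] at hx
      -- sSup 𝒜 ≤ centralizer {x}
      have h1 : sSup 𝒜 ≤ Subgroup.centralizer ({x} : Set S) := by
        apply sSup_le
        intro A hA y hy
        rw [Subgroup.mem_centralizer_singleton_iff]
        have := hab A hA
        exact setLike_mul_comm hy (hx A hA)
      intro y hy
      have := h1 hy
      rw [Subgroup.mem_centralizer_singleton_iff] at this
      exact this
    · intro x hx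
      rw [Subgroup.mem_sInf]
      intro A hA
      have := hab A hA
      have hAJ : A ≤ sSup 𝒜 := le_sSup hA
      have hxA : ∀ a ∈ A, a * x = x * a := fun a ha => hx a (hAJ ha)
      have hcomm : ∀ u ∈ ((A : Set S) ∪ {x}), ∀ v ∈ ((A : Set S) ∪ {x}), u * v = v * u := by
        rintro u (hu | hu) v (hv | hv)
        · exact setLike_mul_comm hu hv
        · rw [Set.mem_singleton_iff] at hv; subst hv; exact hxA u hu
        · rw [Set.mem_singleton_iff] at hu; subst hu; exact (hxA v hv).symm
        · rw [Set.mem_singleton_iff] at hu hv; subst hu; subst hv; rfl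
      have hB : IsMulCommutative (Subgroup.closure ((A : Set S) ∪ {x})) :=
        Subgroup.isMulCommutative_closure hcomm
      have hle : A ≤ Subgroup.closure ((A : Set S) ∪ {x}) := fun a ha =>
        Subgroup.subset_closure (Or.inl ha)
      have hEq := hmax A hA _ hB hle
      have : x ∈ Subgroup.closure ((A : Set S) ∪ {x}) := Subgroup.subset_closure (Or.inr rfl)
      rwa [hEq] at this
  refine ⟨?_, key⟩
  obtain ⟨A, hA⟩ := hne
  rw [← key]
  exact (inf_eq_right.mpr ((sInf_le hA).trans (le_sSup hA))).symm

end Cfsg.Agent.S0647
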