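import Cfsg.Statements.S0651
-- import your own Cfsg.Agent.* helpers here
import Mathlib
import Cfsg.Agent.Lib_helper4_Glaub2

set_option autoImplicit false
open Cfsg

namespace Cfsg.Agent.S0651


/-- For odd p and D normal in the p-group S, the abelian subgroups of D of largest order satisfy the replacement property: a class-2 normal subgroup B of S with a member containing [B, B] but not B normalizes some such member. -/
theorem result {S : Type*} [Group S] [Finite S] {p : ℕ} [Fact p.Prime] (hS : IsPGroup p S) (hp : p ≠ 2) (D : Subgroup S) [D.Normal] : ∀ (B : Subgroup S) [B.Normal], ⁅⁅B, B⁆, B⁆ = ⊥ → (∃ U ∈ (Set.image (fun A : Subgroup ↥D => A.map D.subtype) (Cfsg.maxAbelianSubgroups ↥D)), ⁅B, B⁆ ≤ U ∧ ¬ B ≤ U) → ∃ A ∈ (Set.image (fun A : Subgroup ↥D => A.map D.subtype) (Cfsg.maxAbelianSubgroups ↥D)), ⁅B, B⁆ ≤ A ∧ ¬ B ≤ A ∧ B ≤ Subgroup.normalizer (A : Set S) := by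
  intro B _ _ hex
  refine Cfsg.Agent.helper4.Glaub.replacement_generic hS hp D B _ ?_ ?_ ?_ hex
  · rintro A ⟨A₀, hA₀, rfl⟩
    haveI := hA₀.1
    exact Subgroup.map_isMulCommutative _ _
  · rintro A ⟨A₀, hA₀, rfl⟩
    exact Subgroup.map_subtype_le _
  · rintro A ⟨A₀, hA₀, rfl⟩ A' hA'D hA'c hcard _
    refine ⟨A'.subgroupOf D, ⟨?_, ?_⟩, Subgroup.map_subgroupOf_eq_of_le hA'D⟩
    · haveI := hA'c
      exact Subgroup.subgroupOf_isMulCommutative _ _
    · intro B₀ hB₀
      have h1 := hA₀.2 B₀ hB₀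
      have h2 : Nat.card (A'.subgroupOf D) = Nat.card A' :=
        Nat.card_congr (Subgroup.subgroupOfEquivOfLe hA'D).toEquiv
      have h3 : Nat.card (A₀.map D.subtype) = Nat.card A₀ := Subgroup.card_subtype D A₀
      rw [h2, hcard]
      simp only at h3 ⊢
      rw [h3]; exact h1

end Cfsg.Agent.S0651
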