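import Cfsg.Statements.S0652
-- import your own Cfsg.Agent.* helpers here
import Mathlib
import Cfsg.Agent.Lib_helper4_Glaub2

set_option autoImplicit false
open Cfsg

namespace Cfsg.Agent.S0652


/-- For odd p and D normal in the p-group S, the elementary abelian subgroups of D of largest order satisfy the replacement property for class-2 normal subgroups of S. -/
theorem result {S : Type*} [Group S] [Finite S] {p : ℕ} [Fact p.Prime] (hS : IsPGroup p S) (hp : p ≠ 2) (D : Subgroup S) [D.Normal] : ∀ (B : Subgroup S) [B.Normal], ⁅⁅B, B⁆, B⁆ = ⊥ → (∃ U ∈ (Set.image (fun A : Subgroup ↥D => A.map D.subtype) (Cfsg.maxElementaryAbelianSubgroups p ↥D)), ⁅B, B⁆ ≤ U ∧ ¬ B ≤ U) → ∃ A ∈ (Set.image (fun A : Subgroup ↥D => A.map D.subtype) (Cfsg.maxElementaryAbelianSubgroups p ↥D)), ⁅B, B⁆ ≤ A ∧ ¬ B ≤ A ∧ B ≤ Subgroup.normalizer (A : Set S) := by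
  intro B _ _ hex
  refine Cfsg.Agent.helper4.Glaub.replacement_generic hS hp D B _ ?_ ?_ ?_ hex
  · rintro A ⟨A₀, hA₀, rfl⟩
    haveI := hA₀.1.1
    exact Subgroup.map_isMulCommutative _ _
  · rintro A ⟨A₀, hA₀, rfl⟩
    exact Subgroup.map_subtype_le _
  · rintro A ⟨A₀, hA₀, rfl⟩ A' hA'D hA'c hcard hexp
    simp only at hcard hexp
    refine ⟨A'.subgroupOf D, ⟨⟨?_, ?_⟩, ?_⟩, Subgroup.map_subgroupOf_eq_of_le hA'D⟩
    · haveI := hA'c
      exact Subgroup.subgroupOf_isMulCommutative _ _
    · intro a ha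
      rw [Subgroup.mem_subgroupOf] at ha
      have hexpA : Monoid.exponent (A₀.map D.subtype) ∣ p := by
        apply Monoid.exponent_dvd_of_forall_pow_eq_one
        rintro ⟨y, hy⟩
        obtain ⟨a₀, ha₀, rfl⟩ := Subgroup.mem_map.mp hy
        apply Subtype.ext
        rw [Subgroup.coe_pow, Subgroup.coe_one]
        have := hA₀.1.2 a₀ ha₀
        have := congrArg Subtype.val this
        simpa using this
      have h1 : (⟨(a : S), ha⟩ : A') ^ p = 1 := by
        rw [← orderOf_dvd_iff_pow_eq_one]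
        exact (Monoid.order_dvd_exponent _).trans (hexp.trans hexpA)
      have h2 := congrArg Subtype.val h1
      rw [Subgroup.coe_pow, Subgroup.coe_one] at h2
      apply Subtype.ext
      rw [Subgroup.coe_pow, Subgroup.coe_one]
      exact h2
    · intro B₀ hB₀
      have h1 := hA₀.2 B₀ hB₀
      have h2 : Nat.card (A'.subgroupOf D) = Nat.card A' :=
        Nat.card_congr (Subgroup.subgroupOfEquivOfLe hA'D).toEquiv
      have h3 : Nat.card (A₀.map D.subtype) = Nat.card A₀ := Subgroup.card_subtype D A₀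
      rw [h2, hcard, h3]; exact h1

end Cfsg.Agent.S0652
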