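import Cfsg.Statements.S0657
-- import your own Cfsg.Agent.* helpers here
import Mathlib
import Cfsg.Agent.Lib_helper4_RedI

set_option autoImplicit false
open Cfsg

namespace Cfsg.Agent.S0657


/-- For odd p, a group that fails to be p-stable modulo its largest normal subgroup of order prime to p, and whose upper p-series does not stop there, has a section isomorphic to SL(2, p). -/
theorem result {G : Type*} [Group G] [Finite G] {p : ℕ} [Fact p.Prime] (hp : p ≠ 2) (hO : Cfsg.pPrimeCore p G < Cfsg.pPrimePCore p G) (hns : ¬ Cfsg.IsPStable p (G ⧸ Cfsg.pPrimeCore p G)) : ∃ (K L : Subgroup G) (hL : (L.subgroupOf K).Normal), K ≤ ⊤ ∧ Nonempty ((K ⧸ L.subgroupOf K) ≃* Matrix.SpecialLinearGroup (Fin 2) (ZMod p)) := by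
  have hpp : p.Prime := Fact.out
  by_contra hcon
  have hno : ¬ Cfsg.Agent.helper4.Red.HasSec p G := by
    intro h
    obtain ⟨K, L, hL, e⟩ := h.exists_section
    exact hcon ⟨K, L, hL, le_top, e⟩
  have hno' : ¬ Cfsg.Agent.helper4.Red.HasSec p (G ⧸ Cfsg.pPrimeCore p G) :=
    fun h => hno (h.of_surjective (QuotientGroup.mk' _) (QuotientGroup.mk'_surjective _))
  apply hns
  refine ⟨hpp.odd_of_ne_two hp, ?_, ?_⟩
  · intro hbot
    unfold Cfsg.pPrimePCore at hO
    rw [hbot, MonoidHom.comap_bot, QuotientGroup.ker_mk'] at hO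
    exact lt_irrefl _ hO
  · intro A P hA hP hnorm hPle hPn hquad
    rintro _ ⟨a', ha', rfl⟩
    have hq' : ⁅⁅P, Subgroup.zpowers (a' : G ⧸ Cfsg.pPrimeCore p G)⁆,
        Subgroup.zpowers (a' : G ⧸ Cfsg.pPrimeCore p G)⁆ = ⊥ := by
      rw [eq_bot_iff, ← hquad]
      have hz : Subgroup.zpowers (a' : G ⧸ Cfsg.pPrimeCore p G) ≤ A := by
        rw [Subgroup.zpowers_le]
        exact ha'
      exact Subgroup.commutator_mono (Subgroup.commutator_mono le_rfl hz) hz
    exact Cfsg.Agent.helper4.Red.isNormalizerPStable_of_not_hasSec hp hno' P hP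
      (a' : G ⧸ Cfsg.pPrimeCore p G) a'.2 hq'

end Cfsg.Agent.S0657
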