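import Cfsg.Statements.S0660
-- import your own Cfsg.Agent.* helpers here
import Mathlib

set_option autoImplicit false
open Cfsg

namespace Cfsg.Agent.S0660

open scoped IsMulCommutative


/-- Under a coprime action on an abelian group, an invariant subgroup that is complemented admits an invariant complement. -/
theorem result {G : Type*} [Group G] [Finite G] (V A U : Subgroup G) (hVab : IsMulCommutative V) (hAV : A ≤ Subgroup.normalizer (V : Set G)) (hcop : (Nat.card A).Coprime (Nat.card V)) (hUV : U ≤ V) (hAU : A ≤ Subgroup.normalizer (U : Set G)) (W : Subgroup G) (hWV : W ≤ V) (hUW : U ⊓ W = ⊥) (hUWV : U ⊔ W = V) : ∃ W' : Subgroup G, W' ≤ V ∧ A ≤ Subgroup.normalizer (W' : Set G) ∧ U ⊓ W' = ⊥ ∧ U ⊔ W' = V := by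
  classical
  have : IsMulCommutative V := hVab
  let : Fintype A := Fintype.ofFinite A
  have hconjV : ∀ a ∈ A, ∀ v ∈ V, a * v * a⁻¹ ∈ V := fun a ha v hv =>
    (Subgroup.mem_normalizer_iff.mp (hAV ha) v).mp hv
  have hconjU : ∀ a ∈ A, ∀ u ∈ U, a * u * a⁻¹ ∈ U := fun a ha u hu =>
    (Subgroup.mem_normalizer_iff.mp (hAU ha) u).mp hu
  -- conjugation action on V
  let σ : A → (V →* V) := fun a =>
    { toFun := fun v => ⟨(a : G) * v * (a : G)⁻¹, hconjV a a.2 v v.2⟩
      map_one' := by apply Subtype.ext; simp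
      map_mul' := by intro x y; apply Subtype.ext; simp [mul_assoc] }
  have hσ_val : ∀ (a : A) (v : V), ((σ a v : V) : G) = (a : G) * v * (a : G)⁻¹ := fun a v => rfl
  have hσ_mul : ∀ (a b : A) (v : V), σ (a * b) v = σ a (σ b v) := by
    intro a b v; apply Subtype.ext
    simp only [hσ_val, Subgroup.coe_mul, mul_inv_rev, mul_assoc]
  have hσ_inv : ∀ (a : A) (v : V), σ a⁻¹ (σ a v) = v := by
    intro a v; apply Subtype.ext
    simp only [hσ_val, Subgroup.coe_inv, inv_inv, mul_assoc, inv_mul_cancel_left, inv_mul_cancel, mul_one]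
  set U' : Subgroup V := U.subgroupOf V with hU'
  set W' : Subgroup V := W.subgroupOf V with hW'
  have hσU : ∀ (a : A) (v : V), v ∈ U' → σ a v ∈ U' := by
    intro a v hv
    rw [hU', Subgroup.mem_subgroupOf] at hv ⊢
    exact hconjU a a.2 v hv
  have hsup : U' ⊔ W' = ⊤ := by
    rw [hU', hW', ← Subgroup.subgroupOf_sup hUV hWV, hUWV, Subgroup.subgroupOf_self]
  have hinf : ∀ x : V, x ∈ U' → x ∈ W' → x = 1 := by
    intro x hxU hxW
    rw [hU', Subgroup.mem_subgroupOf] at hxU
    rw [hW', Subgroup.mem_subgroupOf] at hxW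
    have : (x : G) ∈ U ⊓ W := ⟨hxU, hxW⟩
    rw [hUW, Subgroup.mem_bot] at this
    exact Subtype.ext this
  -- the isomorphism U' × W' ≃ V
  let f : U' × W' →* V := U'.subtype.coprod W'.subtype
  have hf_apply : ∀ p : U' × W', f p = (p.1 : V) * (p.2 : V) := fun p => MonoidHom.coprod_apply _ _ p
  have hf_inj : Function.Injective f := by
    rw [injective_iff_map_eq_one]
    rintro ⟨u, w⟩ huw
    rw [hf_apply] at huw
    have h1 : (u : V) = (w : V)⁻¹ := eq_inv_of_mul_eq_one_left huw
    have hu1 : (u : V) = 1 := hinf _ u.2 (by rw [h1]; exact W'.inv_mem w.2)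
    have hw1 : (w : V) = 1 := by
      rw [hu1, one_mul] at huw; exact huw
    exact Prod.ext (Subtype.ext hu1) (Subtype.ext hw1)
  have hf_surj : Function.Surjective f := by
    intro v
    have hv : v ∈ U' ⊔ W' := by rw [hsup]; trivial
    obtain ⟨y, hy, z, hz, hyz⟩ := Subgroup.mem_sup.mp hv
    exact ⟨(⟨y, hy⟩, ⟨z, hz⟩), by rw [hf_apply]; exact hyz⟩
  let e : U' × W' ≃* V := MulEquiv.ofBijective f ⟨hf_inj, hf_surj⟩
  let π : V →* V := U'.subtype.comp ((MonoidHom.fst U' W').comp e.symm.toMonoidHom)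
  have hπU : ∀ v : V, π v ∈ U' := fun v => ((e.symm v).1).2
  have hπ_fix : ∀ v : V, v ∈ U' → π v = v := by
    intro v hv
    have h1 : e (⟨v, hv⟩, 1) = v := by
      change f (⟨v, hv⟩, 1) = v
      rw [hf_apply]; simp
    have h2 : e.symm v = (⟨v, hv⟩, 1) := by
      rw [MulEquiv.symm_apply_eq]; exact h1.symm
    change ((e.symm v).1 : V) = v
    rw [h2]
  -- the averaged projection
  let θ : V →* V := ∏ a : A, (σ a⁻¹).comp (π.comp (σ a))
  have hθ_apply : ∀ v : V, θ v = ∏ a : A, σ a⁻¹ (π (σ a v)) := by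
    intro v
    change (∏ a : A, (σ a⁻¹).comp (π.comp (σ a))) v = _
    rw [MonoidHom.finsetProd_apply]
    rfl
  have hθU : ∀ v : V, θ v ∈ U' := by
    intro v
    rw [hθ_apply]
    apply Subgroup.prod_mem
    intro a _
    exact hσU _ _ (hπU _)
  have hθ_onU : ∀ v : V, v ∈ U' → θ v = v ^ (Nat.card A) := by
    intro v hv
    rw [hθ_apply]
    have : ∀ a : A, σ a⁻¹ (π (σ a v)) = v := by
      intro a
      rw [hπ_fix _ (hσU a v hv), hσ_inv]
    simp only [this, Finset.prod_const, Finset.card_univ, Nat.card_eq_fintype_card]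
  have hθ_equiv : ∀ (b : A) (v : V), θ (σ b v) = σ b (θ v) := by
    intro b v
    rw [hθ_apply, hθ_apply, map_prod]
    -- reindex a ↦ a * b⁻¹
    rw [← Equiv.prod_comp (Equiv.mulRight b⁻¹)]
    apply Finset.prod_congr rfl
    intro a _
    simp only [Equiv.coe_mulRight]
    rw [← hσ_mul, inv_mul_cancel_right]
    have : (a * b⁻¹)⁻¹ = b * a⁻¹ := by group
    rw [this, hσ_mul]
  -- the complement
  refine ⟨(θ.ker).map V.subtype, Subgroup.map_subtype_le _, ?_, ?_, ?_⟩
  · intro b hb
    have key : ∀ c ∈ A, ∀ h ∈ (θ.ker).map V.subtype, c * h * c⁻¹ ∈ (θ.ker).map V.subtype := by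
      rintro c hc h ⟨v, hv, rfl⟩
      refine ⟨σ ⟨c, hc⟩ v, ?_, rfl⟩
      rw [SetLike.mem_coe, MonoidHom.mem_ker] at hv ⊢
      rw [hθ_equiv, hv, map_one]
    rw [Subgroup.mem_normalizer_iff]
    intro h
    constructor
    · exact key b hb h
    · intro hh
      have := key b⁻¹ (A.inv_mem hb) _ hh
      simpa [mul_assoc] using this
  · rw [Subgroup.eq_bot_iff_forall]
    rintro x ⟨hxU, ⟨v, hv, rfl⟩⟩
    have hvU : v ∈ U' := by rw [hU', Subgroup.mem_subgroupOf]; exact hxU
    rw [SetLike.mem_coe, MonoidHom.mem_ker, hθ_onU v hvU] at hv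
    have h1 : orderOf v ∣ Nat.card A := orderOf_dvd_of_pow_eq_one hv
    have h2 : orderOf v ∣ Nat.card V := orderOf_dvd_natCard v
    have h3 : orderOf v = 1 := Nat.eq_one_of_dvd_coprimes hcop h1 h2
    rw [orderOf_eq_one_iff] at h3
    rw [h3]; rfl
  · apply le_antisymm
    · exact sup_le hUV (Subgroup.map_subtype_le _)
    · intro x hx
      set v : V := ⟨x, hx⟩ with hv
      have hcopU : (Nat.card U').Coprime (Nat.card A) := by
        have h1 : Nat.card U' ∣ Nat.card V := Subgroup.card_subgroup_dvd_card U'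
        exact (Nat.Coprime.coprime_dvd_left h1 hcop.symm)
      obtain ⟨u, hu⟩ := (powCoprime hcopU).surjective ⟨θ v, hθU v⟩
      rw [powCoprime_apply] at hu
      have hu' : (u : V) ^ (Nat.card A) = θ v := by
        have := congrArg Subtype.val hu
        simpa using this
      have hker : (u : V)⁻¹ * v ∈ θ.ker := by
        rw [MonoidHom.mem_ker, map_mul, map_inv, hθ_onU _ u.2, hu', inv_mul_cancel]
      have hxeq : x = ((u : V) : G) * (((u : V)⁻¹ * v : V) : G) := by
        simp [hv]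
      rw [hxeq]
      apply Subgroup.mul_mem_sup
      · exact Subgroup.mem_subgroupOf.mp u.2
      · exact ⟨_, hker, rfl⟩

end Cfsg.Agent.S0660
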