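import Mathlib
import Cfsg.Statements.S0661
import Cfsg.Agent.Lib_helper7_Balance4

set_option autoImplicit false
open Cfsg

namespace Cfsg.Agent.S0661

open Cfsg.Agent.helper7 in
/-- If, modulo the largest normal subgroup of order prime to p, the largest normal p-subgroup contains its centralizer, then for every p-subgroup P the p'-core of N_G(P) is just O_p'(G) ∩ N_G(P). -/
theorem result {G : Type*} [Group G] [Finite G] {p : ℕ} [Fact p.Prime] (hc : Subgroup.centralizer (Cfsg.pCore p (G ⧸ Cfsg.pPrimeCore p G) : Set (G ⧸ Cfsg.pPrimeCore p G)) ≤ Cfsg.pCore p (G ⧸ Cfsg.pPrimeCore p G)) (P : Subgroup G) (hP : IsPGroup p P) : (Cfsg.pPrimeCore p ↥(Subgroup.normalizer (P : Set G))).map (Subgroup.normalizer (P : Set G)).subtype = Cfsg.pPrimeCore p G ⊓ Subgroup.normalizer (P : Set G) := by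
  have hp : p.Prime := Fact.out
  have hL : Cfsg.pLayer p G = ⊥ := pLayer_eq_bot_of_centralizer_le hp hc
  apply le_antisymm
  · exact le_inf (pPrimeCore_normalizer_le hp hL hP) (Subgroup.map_subtype_le _)
  · have hn : Subgroup.normalizer (P : Set G) ≤ Subgroup.normalizer
        ((Cfsg.pPrimeCore p G ⊓ Subgroup.normalizer (P : Set G) : Subgroup G) : Set G) := by
      intro g hg
      apply Subgroup.inf_normalizer_le_normalizer_inf
      refine Subgroup.mem_inf.2 ⟨?_, Subgroup.le_normalizer hg⟩
      rw [Subgroup.normalizer_eq_top]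
      exact Subgroup.mem_top g
    have hle : (Cfsg.pPrimeCore p G ⊓ Subgroup.normalizer (P : Set G)).subgroupOf
        (Subgroup.normalizer (P : Set G)) ≤ Cfsg.pPrimeCore p ↥(Subgroup.normalizer (P : Set G)) := by
      apply le_sSup
      refine ⟨Subgroup.normal_subgroupOf_of_le_normalizer hn, ?_⟩
      rw [Nat.card_congr (Subgroup.subgroupOfEquivOfLe inf_le_right).toEquiv]
      exact Nat.Coprime.coprime_dvd_left (Subgroup.card_dvd_of_le inf_le_left)
        (pPrimeCore_coprime hp)
    intro x hx
    exact ⟨⟨x, hx.2⟩, hle (Subgroup.mem_subgroupOf.mpr hx), rfl⟩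

end Cfsg.Agent.S0661
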