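import Cfsg.Statements.S0662
-- import your own Cfsg.Agent.* helpers here
import Mathlib
import Cfsg.Agent.Lib_helper17_MaxClass2
import Cfsg.Agent.S3807
import Cfsg.Agent.S0063

set_option autoImplicit false
open Cfsg

namespace Cfsg.Agent.S0662

open Cfsg.Agent.helper17.MC2

variable {G : Type*} [Group G] [Finite G] {p : ℕ} [Fact p.Prime]

omit [Finite G] in
theorem lcs_one : (⊤ : Subgroup G).lowerCentralSeries 1 = commutator G := by
  show (⊤ : Subgroup G).lowerCentralSeries (0 + 1) = commutator G
  rw [Subgroup.lowerCentralSeries_succ, Subgroup.lowerCentralSeries_zero, ← commutator_def]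

theorem lcs_card_eq (n : ℕ) (hG : Nat.card G = p ^ n) (hcl : Group.nilpotencyClass G = n - 1)
    (hn : 3 ≤ n) (i : ℕ) (h1 : 1 ≤ i) (hi : i ≤ n - 1) :
    Nat.card ((⊤ : Subgroup G).lowerCentralSeries i) = p ^ (n - 1 - i) := by
  have hp : p.Prime := Fact.out
  have hP : IsPGroup p G := IsPGroup.of_card hG
  haveI : Group.IsNilpotent G := hP.isNilpotent
  have hex : ∀ k, ∃ a, Nat.card ((⊤ : Subgroup G).lowerCentralSeries k) = p ^ a := fun k =>
    IsPGroup.iff_card.mp (hP.to_subgroup _)
  choose a ha using hex
  have ha0 : a 0 = n := by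
    have := ha 0
    rw [Subgroup.lowerCentralSeries_zero, Subgroup.card_top, hG] at this
    exact (Nat.pow_right_injective hp.two_le this).symm
  have hlast : a (n - 1) = 0 := by
    have h := ha (n - 1)
    have hb : (⊤ : Subgroup G).lowerCentralSeries (n - 1) = ⊥ := by
      rw [← hcl]; exact Subgroup.lowerCentralSeries_nilpotencyClass
    rw [hb, Subgroup.card_bot] at h
    by_contra h0
    have : 1 < p ^ a (n - 1) := Nat.one_lt_pow h0 hp.one_lt
    omega
  have hstrict : ∀ k, k < n - 1 → a (k + 1) < a k := by
    intro k hk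
    have hlt := lcs_strict (X := G) k (by rw [hcl]; exact hk)
    have hcardlt : Nat.card ((⊤ : Subgroup G).lowerCentralSeries (k + 1)) <
        Nat.card ((⊤ : Subgroup G).lowerCentralSeries k) := by
      refine lt_of_le_of_ne (Subgroup.card_le_of_le hlt.le) ?_
      intro heq
      exact hlt.ne (Subgroup.eq_of_le_of_card_ge hlt.le heq.symm.le)
    rw [ha, ha] at hcardlt
    exact (Nat.pow_lt_pow_iff_right hp.one_lt).mp hcardlt
  have hone : a 1 ≤ n - 2 := by
    by_contra hcon
    have h0 := hstrict 0 (by omega)
    rw [ha0, zero_add] at h0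
    have ha1 : a 1 = n - 1 := by omega
    have hne : commutator G ≠ ⊥ := by
      intro h
      rw [← lcs_one, Subgroup.lowerCentralSeries_eq_bot_iff_nilpotencyClass_le] at h
      omega
    apply not_isCyclic_abelianization hP hne
    apply isCyclic_of_prime_card (p := p)
    rw [← Subgroup.index_eq_card]
    have h2 := (commutator G).card_mul_index
    rw [← lcs_one, ha 1, ha1, hG] at h2
    have h3 : p ^ n = p ^ (n - 1) * p := by
      rw [← pow_succ]; congr 1; omega
    rw [h3] at h2
    have hpos : 0 < p ^ (n - 1) := pow_pos hp.pos _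
    rw [lcs_one] at h2
    exact Nat.eq_of_mul_eq_mul_left hpos h2
  have hlow : ∀ j, j ≤ n - 1 → j ≤ a (n - 1 - j) := by
    intro j
    induction j with
    | zero => intro _; exact Nat.zero_le _
    | succ j ih =>
      intro hj
      have h2 := ih (by omega)
      have h3 := hstrict (n - 1 - (j + 1)) (by omega)
      have e : n - 1 - (j + 1) + 1 = n - 1 - j := by omega
      rw [e] at h3
      omega
  have hup : ∀ i, 1 ≤ i → i ≤ n - 1 → a i ≤ n - 1 - i := by
    intro i hi1
    induction i, hi1 using Nat.le_induction with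
    | base => intro _; omega
    | succ i hi1 ih =>
      intro hi2
      have h2 := ih (by omega)
      have h3 := hstrict i (by omega)
      omega
  rw [ha i]
  congr 1
  have h2 := hlow (n - 1 - i) (by omega)
  have e : n - 1 - (n - 1 - i) = i := by omega
  rw [e] at h2
  have h3 := hup i h1 hi
  omega

theorem part_a (n : ℕ) (hG : Nat.card G = p ^ n) (hcl : Group.nilpotencyClass G = n - 1)
    (hn : 3 ≤ n) (N : Subgroup G) [N.Normal] (r : ℕ) (hr : 2 ≤ r) (hN : N.index = p ^ r) :
    N = (⊤ : Subgroup G).lowerCentralSeries (r - 1) := by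
  have hp : p.Prime := Fact.out
  have hrn : r ≤ n := by
    have := N.index_dvd_card
    rw [hN, hG] at this
    exact (Nat.pow_dvd_pow_iff_le_right hp.one_lt).mp this
  have hQ : Nat.card (G ⧸ N) = p ^ r := by rw [← Subgroup.index_eq_card, hN]
  have hPQ : IsPGroup p (G ⧸ N) := IsPGroup.of_card hQ
  have hnilQ : Group.IsNilpotent (G ⧸ N) := hPQ.isNilpotent
  have hclQ := Cfsg.Agent.S0063.result p r hQ (by omega)
  have hbot : (⊤ : Subgroup (G ⧸ N)).lowerCentralSeries (r - 1) = ⊥ :=
    Subgroup.lowerCentralSeries_eq_bot_iff_nilpotencyClass_le.mpr hclQ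
  have hle : (⊤ : Subgroup G).lowerCentralSeries (r - 1) ≤ N := by
    have h1 := Subgroup.map_lowerCentralSeries (S := (⊤ : Subgroup G)) (QuotientGroup.mk' N) (r - 1)
    have h2 : (⊤ : Subgroup G).map (QuotientGroup.mk' N) = ⊤ := by
      rw [← MonoidHom.range_eq_map, MonoidHom.range_eq_top]
      exact QuotientGroup.mk'_surjective N
    rw [h2, hbot] at h1
    intro x hx
    have : (QuotientGroup.mk' N) x ∈ ((⊤ : Subgroup G).lowerCentralSeries (r - 1)).map
        (QuotientGroup.mk' N) := Subgroup.mem_map_of_mem _ hx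
    rw [h1, Subgroup.mem_bot] at this
    exact (QuotientGroup.eq_one_iff x).mp this
  symm
  apply Subgroup.eq_of_le_of_card_ge hle
  rw [lcs_card_eq n hG hcl hn (r - 1) (by omega) (by omega)]
  have h3 := N.card_mul_index
  rw [hN, hG] at h3
  have h4 : p ^ n = p ^ (n - r) * p ^ r := by
    rw [← pow_add]; congr 1; omega
  rw [h4] at h3
  have := Nat.eq_of_mul_eq_mul_right (pow_pos hp.pos r) h3
  rw [this]
  apply le_of_eq
  congr 1
  omega

theorem part_b (n : ℕ) (hG : Nat.card G = p ^ n) (hcl : Group.nilpotencyClass G = n - 1)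
    (hn : 3 ≤ n) : Nat.card {N : Subgroup G // N.Normal ∧ N.index = p} = p + 1 := by
  have hp : p.Prime := Fact.out
  have hP : IsPGroup p G := IsPGroup.of_card hG
  have hnil : Group.IsNilpotent G := hP.isNilpotent
  have hc1 : Nat.card (commutator G) = p ^ (n - 2) := by
    rw [← lcs_one, lcs_card_eq n hG hcl hn 1 le_rfl (by omega)]
    congr 1
  have hQ : Nat.card (G ⧸ commutator G) = p ^ 2 := by
    rw [← Subgroup.index_eq_card]
    have h2 := (commutator G).card_mul_index
    rw [hc1, hG] at h2
    have h3 : p ^ n = p ^ (n - 2) * p ^ 2 := by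
      rw [← pow_add]; congr 1; omega
    rw [h3] at h2
    exact Nat.eq_of_mul_eq_mul_left (pow_pos hp.pos _) h2
  have hne : commutator G ≠ ⊥ := by
    intro h
    rw [← lcs_one, Subgroup.lowerCentralSeries_eq_bot_iff_nilpotencyClass_le] at h
    omega
  have hncyc := not_isCyclic_abelianization hP hne
  have hexp : ∀ a : G ⧸ commutator G, a ^ p = 1 := by
    intro a
    have h1 : orderOf a ∣ p ^ 2 := by rw [← hQ]; exact orderOf_dvd_natCard a
    obtain ⟨k, hk, hk2⟩ := (Nat.dvd_prime_pow hp).mp h1
    have hk1 : k ≤ 1 := by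
      by_contra hcon
      have : k = 2 := by omega
      subst this
      exact hncyc (isCyclic_of_orderOf_eq_card a (by rw [hk2, hQ]))
    rw [← orderOf_dvd_iff_pow_eq_one, hk2]
    exact pow_dvd_pow p hk1 |>.trans (by rw [pow_one])
  rw [← Cfsg.Agent.S3807.card_subgroups_order_p hp hQ hexp]
  symm
  have hsurj : Function.Surjective (QuotientGroup.mk' (commutator G)) :=
    QuotientGroup.mk'_surjective _
  have hcomm : ∀ L : Subgroup (G ⧸ commutator G), L.Normal := by
    intro L
    constructor
    intro x hx g
    have : g * x * g⁻¹ = x := by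
      obtain ⟨a, rfl⟩ := hsurj g
      obtain ⟨b, rfl⟩ := hsurj x
      have h1 : ∀ u v : G ⧸ commutator G, u * v = v * u := by
        have := (Subgroup.Normal.quotient_commutative_iff_commutator_le
          (N := commutator G)).mpr le_rfl
        intro u v
        exact mul_comm' u v
      rw [h1 _ _, inv_mul_cancel_left]
    rw [this]; exact hx
  have hidx : ∀ L : Subgroup (G ⧸ commutator G), Nat.card L = p ↔ L.index = p := by
    intro L
    have h2 := L.card_mul_index
    rw [hQ, pow_two] at h2
    constructor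
    · intro h
      rw [h] at h2
      exact Nat.eq_of_mul_eq_mul_left hp.pos h2
    · intro h
      rw [h] at h2
      exact Nat.eq_of_mul_eq_mul_right hp.pos h2
  refine Nat.card_eq_of_bijective (fun L => ⟨L.1.comap (QuotientGroup.mk' (commutator G)),
    ⟨(hcomm L.1).comap _, ?_⟩⟩) ⟨?_, ?_⟩
  · rw [Subgroup.index_comap_of_surjective _ hsurj]
    exact (hidx L.1).mp L.2
  · intro L L' h
    apply Subtype.ext
    exact Subgroup.comap_injective hsurj (congrArg Subtype.val h)
  · rintro ⟨N, hNn, hNi⟩
    have hle : commutator G ≤ N := by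
      haveI := hNn
      rw [← Subgroup.Normal.quotient_commutative_iff_commutator_le]
      have hc : Nat.card (G ⧸ N) = p := by rw [← Subgroup.index_eq_card, hNi]
      have hcyc : IsCyclic (G ⧸ N) := isCyclic_of_prime_card hc
      exact hcyc.commutative
    have hcm : (N.map (QuotientGroup.mk' (commutator G))).comap (QuotientGroup.mk' (commutator G))
        = N := by
      apply Subgroup.comap_map_eq_self
      rw [QuotientGroup.ker_mk']
      exact hle
    refine ⟨⟨N.map (QuotientGroup.mk' (commutator G)), ?_⟩, ?_⟩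
    · rw [hidx, ← Subgroup.index_comap_of_surjective _ hsurj, hcm, hNi]
    · apply Subtype.ext
      exact hcm


/-- In a p-group of maximal class of order at least p³ the normal subgroups of index at least p² are exactly the terms of the lower central series, and there are exactly p + 1 normal subgroups of index p. -/
theorem result {G : Type*} [Group G] [Finite G] {p : ℕ} [Fact p.Prime] (n : ℕ) (hG : Nat.card G = p ^ n) (hcl : Group.nilpotencyClass G = n - 1) (hn : 3 ≤ n) : (∀ (N : Subgroup G) [N.Normal] (r : ℕ), 2 ≤ r → N.index = p ^ r → N = (⊤ : Subgroup G).lowerCentralSeries (r - 1)) ∧ Nat.card {N : Subgroup G // N.Normal ∧ N.index = p} = p + 1 := by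
  refine ⟨?_, part_b n hG hcl hn⟩
  intro N _ r hr hN
  exact part_a n hG hcl hn N r hr hN

end Cfsg.Agent.S0662
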