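import Cfsg.Statements.S0663
-- import your own Cfsg.Agent.* helpers here
import Mathlib

set_option autoImplicit false
open Cfsg

open scoped commutatorElement
namespace Cfsg.Agent.S0663

variable {L : Type*} [Group L]

theorem comm_le_of_inv {H G : Subgroup L} (h : G ≤ Subgroup.normalizer (H : Set L)) :
    ⁅H, G⁆ ≤ H := by
  rw [Subgroup.commutator_le]
  intro a ha g hg
  have h1 := (Subgroup.mem_normalizer_iff.mp (h hg) a⁻¹).mp (H.inv_mem ha)
  have e : ⁅a, g⁆ = a * (g * a⁻¹ * g⁻¹) := by rw [commutatorElement_def]; group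
  rw [e]; exact H.mul_mem ha h1

theorem conj_mem_comm {H G : Subgroup L} {k : L} (hH : k ∈ Subgroup.normalizer (H : Set L))
    (hG : k ∈ Subgroup.normalizer (G : Set L)) {x : L} (hx : x ∈ ⁅H, G⁆) :
    k * x * k⁻¹ ∈ ⁅H, G⁆ := by
  have h1 : (MulAut.conj k).toMonoidHom x ∈ Subgroup.map (MulAut.conj k).toMonoidHom ⁅H, G⁆ :=
    Subgroup.mem_map_of_mem _ hx
  rw [Subgroup.map_commutator] at h1
  have h2 : Subgroup.map (MulAut.conj k).toMonoidHom H ≤ H := by
    rintro _ ⟨a, ha, rfl⟩
    exact (Subgroup.mem_normalizer_iff.mp hH a).mp ha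
  have h3 : Subgroup.map (MulAut.conj k).toMonoidHom G ≤ G := by
    rintro _ ⟨a, ha, rfl⟩
    exact (Subgroup.mem_normalizer_iff.mp hG a).mp ha
  have h4 := Subgroup.commutator_mono h2 h3 h1
  simpa using h4

theorem inv_comm {H G K : Subgroup L} (hH : K ≤ Subgroup.normalizer (H : Set L))
    (hG : K ≤ Subgroup.normalizer (G : Set L)) :
    K ≤ Subgroup.normalizer ((⁅H, G⁆ : Subgroup L) : Set L) := by
  intro k hk
  rw [Subgroup.mem_normalizer_iff]
  intro x
  constructor
  · exact conj_mem_comm (hH hk) (hG hk)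
  · intro hx
    have := conj_mem_comm (hH (K.inv_mem hk)) (hG (K.inv_mem hk)) hx
    simpa [mul_assoc] using this

theorem eq_bot_of_le_comm [Finite L] {p : ℕ} [Fact p.Prime] {H P : Subgroup L}
    (hP : IsPGroup p P) (hHP : H ≤ P) (h : H ≤ ⁅H, P⁆) : H = ⊥ := by
  have hall : ∀ k, H ≤ P.lowerCentralSeries k := by
    intro k
    induction k with
    | zero => simpa using hHP
    | succ k ih =>
      rw [Subgroup.lowerCentralSeries_succ]
      exact h.trans (Subgroup.commutator_mono ih le_rfl)
  have hnil : Group.IsNilpotent P := hP.isNilpotent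
  obtain ⟨k, hk⟩ := Subgroup.nilpotent_iff_lowerCentralSeries.mp hnil
  have := Subgroup.top_subtype_lowerCentralSeries P k
  rw [hk, Subgroup.map_bot] at this
  rw [eq_bot_iff, this]; exact hall k

theorem C_inv (N G : Subgroup L) (hGN : G ≤ Subgroup.normalizer (N : Set L)) :
    ∀ i, G ≤ Subgroup.normalizer ((iterCommutator N G i : Subgroup L) : Set L)
  | 0 => hGN
  | i + 1 => inv_comm (C_inv N G hGN i) Subgroup.le_normalizer

theorem C_succ_le (N G : Subgroup L) (hGN : G ≤ Subgroup.normalizer (N : Set L)) (i : ℕ) :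
    iterCommutator N G (i + 1) ≤ iterCommutator N G i :=
  comm_le_of_inv (C_inv N G hGN i)

theorem C_antitone (N G : Subgroup L) (hGN : G ≤ Subgroup.normalizer (N : Set L)) :
    Antitone (iterCommutator N G) :=
  antitone_nat_of_succ_le (C_succ_le N G hGN)

theorem C_le (N G : Subgroup L) (hGN : G ≤ Subgroup.normalizer (N : Set L)) (i : ℕ) :
    iterCommutator N G i ≤ N :=
  C_antitone N G hGN (Nat.zero_le i)

theorem card_mul_relIndex {A B : Subgroup L} (h : A ≤ B) :
    Nat.card A * A.relIndex B = Nat.card B := by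
  have := Subgroup.relIndex_mul_relIndex (⊥ : Subgroup L) A B bot_le h
  rwa [Subgroup.relIndex_bot_left, Subgroup.relIndex_bot_left] at this

section main
variable [Finite L] {p : ℕ} [Fact p.Prime] (N G : Subgroup L)

/-- the uniserial condition -/
def Unis (N G : Subgroup L) (p : ℕ) : Prop :=
  ∀ H : Subgroup L, H ≤ N → G ≤ Subgroup.normalizer (H : Set L) → H ≠ ⊥ →
    (⁅H, G⁆).relIndex H = p

theorem C_ne (hN : IsPGroup p N) (hG : IsPGroup p G)
    (hGN : G ≤ Subgroup.normalizer (N : Set L)) (i : ℕ) (hne : iterCommutator N G i ≠ ⊥) :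
    iterCommutator N G (i + 1) ≠ iterCommutator N G i := by
  intro heq
  apply hne
  have hP : IsPGroup p (N ⊔ G : Subgroup L) := IsPGroup.to_sup_of_normal_left' hN hG hGN
  apply eq_bot_of_le_comm hP ((C_le N G hGN i).trans le_sup_left)
  calc iterCommutator N G i = iterCommutator N G (i + 1) := heq.symm
    _ = ⁅iterCommutator N G i, G⁆ := rfl
    _ ≤ ⁅iterCommutator N G i, N ⊔ G⁆ := Subgroup.commutator_mono le_rfl le_sup_right

theorem card_of_unis (hGN : G ≤ Subgroup.normalizer (N : Set L)) (n : ℕ)
    (hn : Nat.card N = p ^ n) (hU : Unis N G p) :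
    ∀ i ≤ n, Nat.card (iterCommutator N G i) = p ^ (n - i) := by
  have hp : p.Prime := Fact.out
  intro i
  induction i with
  | zero => intro _; exact hn
  | succ i ih =>
    intro hi
    have h1 := ih (by omega)
    have hne : iterCommutator N G i ≠ ⊥ := by
      intro h
      rw [h, Subgroup.card_bot] at h1
      have : 1 < p ^ (n - i) := Nat.one_lt_pow (by omega) hp.one_lt
      omega
    have h2 := hU _ (C_le N G hGN i) (C_inv N G hGN i) hne
    have h3 := card_mul_relIndex (C_succ_le N G hGN i)
    change (iterCommutator N G (i + 1)).relIndex _ = p at h2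
    rw [h2, h1] at h3
    have h4 : p ^ (n - i) = p ^ (n - (i + 1)) * p := by rw [← pow_succ]; congr 1; omega
    rw [h4] at h3
    exact Nat.eq_of_mul_eq_mul_right hp.pos h3

theorem card_of_ne_bot (hN : IsPGroup p N) (hG : IsPGroup p G)
    (hGN : G ≤ Subgroup.normalizer (N : Set L)) (n : ℕ)
    (hn : Nat.card N = p ^ n) (hn1 : 1 ≤ n) (hne : iterCommutator N G (n - 1) ≠ ⊥) :
    ∀ i ≤ n, Nat.card (iterCommutator N G i) = p ^ (n - i) := by
  have hp : p.Prime := Fact.out
  have hex : ∀ k, ∃ a, Nat.card (iterCommutator N G k) = p ^ a := fun k =>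
    IsPGroup.iff_card.mp (hN.to_le (C_le N G hGN k))
  choose a ha using hex
  have ha0 : a 0 = n := by
    have := ha 0
    change Nat.card N = _ at this
    rw [hn] at this
    exact (Nat.pow_right_injective hp.two_le this).symm
  have hstrict : ∀ k, k ≤ n - 1 → a (k + 1) < a k := by
    intro k hk
    have hk_ne : iterCommutator N G k ≠ ⊥ := by
      intro h
      apply hne
      have := C_antitone N G hGN hk
      rw [h] at this
      exact le_bot_iff.mp this
    have h1 := C_ne N G hN hG hGN k hk_ne
    have hle := C_succ_le N G hGN k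
    have hcardlt : Nat.card (iterCommutator N G (k + 1)) < Nat.card (iterCommutator N G k) :=
      lt_of_le_of_ne (Subgroup.card_le_of_le hle)
        (fun heq => h1 (Subgroup.eq_of_le_of_card_ge hle heq.symm.le))
    rw [ha, ha] at hcardlt
    exact (Nat.pow_lt_pow_iff_right hp.one_lt).mp hcardlt
  have hlast : 1 ≤ a (n - 1) := by
    by_contra h0
    have h1 : a (n - 1) = 0 := by omega
    have h2 := ha (n - 1)
    rw [h1, pow_zero] at h2
    exact hne (Subgroup.card_eq_one.mp h2)
  have hup : ∀ i, i ≤ n → a i ≤ n - i := by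
    intro i
    induction i with
    | zero => intro _; omega
    | succ i ih =>
      intro hi
      have h2 := ih (by omega)
      have h3 := hstrict i (by omega)
      omega
  have hlow : ∀ j, j ≤ n - 1 → j + 1 ≤ a (n - 1 - j) := by
    intro j
    induction j with
    | zero => intro _; exact hlast
    | succ j ih =>
      intro hj
      have h2 := ih (by omega)
      have h3 := hstrict (n - 1 - (j + 1)) (by omega)
      have e : n - 1 - (j + 1) + 1 = n - 1 - j := by omega
      rw [e] at h3
      omega
  intro i hi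
  rw [ha i]
  congr 1
  by_cases hin : i = n
  · subst hin
    have := hup i le_rfl
    omega
  · have h2 := hlow (n - 1 - i) (by omega)
    have e : n - 1 - (n - 1 - i) = i := by omega
    rw [e] at h2
    have := hup i hi
    omega

theorem relIndex_C (hGN : G ≤ Subgroup.normalizer (N : Set L)) (n : ℕ)
    (hcard : ∀ i ≤ n, Nat.card (iterCommutator N G i) = p ^ (n - i)) (i : ℕ) (hi : i + 1 ≤ n) :
    (iterCommutator N G (i + 1)).relIndex (iterCommutator N G i) = p := by
  have hp : p.Prime := Fact.out
  have h3 := card_mul_relIndex (C_succ_le N G hGN i)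
  rw [hcard (i + 1) hi, hcard i (by omega)] at h3
  have h4 : p ^ (n - i) = p ^ (n - (i + 1)) * p := by rw [← pow_succ]; congr 1; omega
  rw [h4] at h3
  exact Nat.eq_of_mul_eq_mul_left (pow_pos hp.pos _) h3

/-- arithmetic: `a * b = p`, `a ≠ 1` gives `b = 1`. -/
theorem eq_one_of_mul_eq_prime {a b p : ℕ} (hp : p.Prime) (h : a * b = p) (ha : a ≠ 1) : b = 1 := by
  rcases (Nat.dvd_prime hp).mp (Dvd.intro _ h) with h1 | h1
  · exact absurd h1 ha
  · rw [h1] at h
    have : p * b = p * 1 := by rw [h, mul_one]
    exact Nat.eq_of_mul_eq_mul_left hp.pos this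

theorem P_normalizes (hN : IsPGroup p N) (hG : IsPGroup p G)
    (hGN : G ≤ Subgroup.normalizer (N : Set L)) (n : ℕ)
    (hcard : ∀ i ≤ n, Nat.card (iterCommutator N G i) = p ^ (n - i)) :
    ∀ i ≤ n, (N ⊔ G) ≤ Subgroup.normalizer ((iterCommutator N G i : Subgroup L) : Set L) := by
  have hp : p.Prime := Fact.out
  have hP : IsPGroup p (N ⊔ G : Subgroup L) := IsPGroup.to_sup_of_normal_left' hN hG hGN
  intro i
  induction i with
  | zero => intro _; exact sup_le Subgroup.le_normalizer hGN
  | succ i ih =>
    intro hi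
    have hPi := ih (by omega)
    have h1 : iterCommutator N G (i + 1) ≤ ⁅iterCommutator N G i, N ⊔ G⁆ :=
      Subgroup.commutator_mono le_rfl le_sup_right
    have h2 : ⁅iterCommutator N G i, N ⊔ G⁆ ≤ iterCommutator N G i := comm_le_of_inv hPi
    have hne : iterCommutator N G i ≠ ⊥ := by
      intro h
      have h1 := hcard i (by omega)
      rw [h, Subgroup.card_bot] at h1
      have : 1 < p ^ (n - i) := Nat.one_lt_pow (by omega) hp.one_lt
      omega
    have h3 : ⁅iterCommutator N G i, N ⊔ G⁆ ≠ iterCommutator N G i := fun h =>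
      hne (eq_bot_of_le_comm hP ((C_le N G hGN i).trans le_sup_left) h.symm.le)
    have h4 := Subgroup.relIndex_mul_relIndex _ _ _ h1 h2
    rw [relIndex_C N G hGN n hcard i hi] at h4
    have h5 : (⁅iterCommutator N G i, N ⊔ G⁆).relIndex (iterCommutator N G i) ≠ 1 := fun h =>
      h3 (le_antisymm h2 (Subgroup.relIndex_eq_one.mp h))
    have h6 : (iterCommutator N G (i + 1)).relIndex ⁅iterCommutator N G i, N ⊔ G⁆ = 1 := by
      rw [mul_comm] at h4
      exact eq_one_of_mul_eq_prime hp h4 h5
    have h7 : ⁅iterCommutator N G i, N ⊔ G⁆ = iterCommutator N G (i + 1) :=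
      le_antisymm (Subgroup.relIndex_eq_one.mp h6) h1
    rw [← h7]
    exact inv_comm hPi Subgroup.le_normalizer

theorem key (hN : IsPGroup p N) (hG : IsPGroup p G)
    (hGN : G ≤ Subgroup.normalizer (N : Set L)) (n : ℕ)
    (hcard : ∀ i ≤ n, Nat.card (iterCommutator N G i) = p ^ (n - i))
    (H : Subgroup L) (hHN : H ≤ N) (hHG : G ≤ Subgroup.normalizer (H : Set L)) :
    ∃ i ≤ n, H = iterCommutator N G i := by
  classical
  have hp : p.Prime := Fact.out
  have hCn : iterCommutator N G n = ⊥ :=
    Subgroup.card_eq_one.mp (by rw [hcard n le_rfl, Nat.sub_self, pow_zero])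
  have hiH : H ≤ iterCommutator N G (Nat.findGreatest (fun i => H ≤ iterCommutator N G i) n) :=
    Nat.findGreatest_spec (P := fun i => H ≤ iterCommutator N G i) (Nat.zero_le n) hHN
  have hin : Nat.findGreatest (fun i => H ≤ iterCommutator N G i) n ≤ n := Nat.findGreatest_le n
  have hgreat : ∀ k, Nat.findGreatest (fun i => H ≤ iterCommutator N G i) n < k → k ≤ n →
      ¬ H ≤ iterCommutator N G k := fun k hk hkn =>
    Nat.findGreatest_is_greatest (P := fun i => H ≤ iterCommutator N G i) hk hkn
  generalize Nat.findGreatest (fun i => H ≤ iterCommutator N G i) n = i at hiH hin hgreat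
  refine ⟨i, hin, ?_⟩
  by_cases hlt : i = n
  · rw [hlt, hCn]
    rw [hlt, hCn] at hiH
    exact le_bot_iff.mp hiH
  have hlt' : i < n := lt_of_le_of_ne hin hlt
  have hnot : ¬ H ≤ iterCommutator N G (i + 1) := hgreat (i + 1) (Nat.lt_succ_self i) hlt'
  have hPn := P_normalizes N G hN hG hGN n hcard
  have hbase : iterCommutator N G i ≤ H ⊔ iterCommutator N G (i + 1) := by
    have h1 : iterCommutator N G (i + 1) ≤ H ⊔ iterCommutator N G (i + 1) := le_sup_right
    have h2 : H ⊔ iterCommutator N G (i + 1) ≤ iterCommutator N G i :=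
      sup_le hiH (C_succ_le N G hGN i)
    have h4 := Subgroup.relIndex_mul_relIndex _ _ _ h1 h2
    rw [relIndex_C N G hGN n hcard i hlt'] at h4
    have h5 : (iterCommutator N G (i + 1)).relIndex (H ⊔ iterCommutator N G (i + 1)) ≠ 1 := by
      intro h
      apply hnot
      exact le_sup_left.trans (Subgroup.relIndex_eq_one.mp h)
    exact Subgroup.relIndex_eq_one.mp (eq_one_of_mul_eq_prime hp h4 h5)
  have hclaim : ∀ k, i + 1 ≤ k → k ≤ n → iterCommutator N G i ≤ H ⊔ iterCommutator N G k := by
    intro k hk
    induction k, hk using Nat.le_induction with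
    | base => intro _; exact hbase
    | succ k hk ih =>
      intro hkn
      have h1 := ih (by omega)
      have h2 : iterCommutator N G (i + 1) ≤ H ⊔ iterCommutator N G (k + 1) := by
        show ⁅iterCommutator N G i, G⁆ ≤ _
        rw [Subgroup.commutator_le]
        intro y hy g hg
        have hy2 := h1 hy
        have hnorm : H ≤ Subgroup.normalizer ((iterCommutator N G k : Subgroup L) : Set L) :=
          (hHN.trans le_sup_left).trans (hPn k (by omega))
        rw [← SetLike.mem_coe, Subgroup.coe_mul_of_left_le_normalizer_right H _ hnorm] at hy2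
        obtain ⟨h, hh, x, hx, rfl⟩ := Set.mem_mul.mp hy2
        have e : ⁅h * x, g⁆ = (h * ⁅x, g⁆ * h⁻¹) * ⁅h, g⁆ := by
          simp only [commutatorElement_def]; group
        rw [e]
        apply Subgroup.mul_mem
        · apply (le_sup_right : iterCommutator N G (k + 1) ≤ H ⊔ iterCommutator N G (k + 1))
          have hxg : ⁅x, g⁆ ∈ iterCommutator N G (k + 1) :=
            Subgroup.commutator_mem_commutator hx hg
          have hhn : h ∈ Subgroup.normalizer ((iterCommutator N G (k + 1) : Subgroup L) : Set L) :=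
            ((hHN.trans le_sup_left).trans (hPn (k + 1) hkn)) hh
          exact (Subgroup.mem_normalizer_iff.mp hhn _).mp hxg
        · apply (le_sup_left : H ≤ H ⊔ iterCommutator N G (k + 1))
          exact comm_le_of_inv hHG (Subgroup.commutator_mem_commutator hh hg)
      exact hbase.trans (sup_le le_sup_left h2)
  have := hclaim n (by omega) le_rfl
  rw [hCn, sup_bot_eq] at this
  exact le_antisymm hiH this

end main


/-- A p-group acts uniserially on a p-group N of order p^n exactly when the iterated commutator chain from N has length n; in that case the chain terms are all the invariant subgroups of N and they are normal in N. -/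
theorem result {L : Type*} [Group L] [Finite L] {p : ℕ} [Fact p.Prime] (N G : Subgroup L) (hN : IsPGroup p N) (hG : IsPGroup p G) (hGN : G ≤ Subgroup.normalizer (N : Set L)) (n : ℕ) (hn : Nat.card N = p ^ n) : ((∀ H : Subgroup L, H ≤ N → G ≤ Subgroup.normalizer (H : Set L) → H ≠ ⊥ → (⁅H, G⁆).relIndex H = p) ↔ Cfsg.iterCommutator N G (n - 1) ≠ ⊥ ∨ n = 0) ∧ ((∀ H : Subgroup L, H ≤ N → G ≤ Subgroup.normalizer (H : Set L) → H ≠ ⊥ → (⁅H, G⁆).relIndex H = p) → ∀ H : Subgroup L, H ≤ N → G ≤ Subgroup.normalizer (H : Set L) → (∃ i ≤ n, H = Cfsg.iterCommutator N G i) ∧ N ≤ Subgroup.normalizer (H : Set L)) := by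
  have hp : p.Prime := Fact.out
  constructor
  · constructor
    · intro hU
      by_cases h0 : n = 0
      · right; exact h0
      · left
        intro hbot
        have h1 := card_of_unis N G hGN n hn hU (n - 1) (by omega)
        rw [hbot, Subgroup.card_bot] at h1
        have : 1 < p ^ (n - (n - 1)) := Nat.one_lt_pow (by omega) hp.one_lt
        omega
    · intro h H hHN hHG hHne
      have hn0 : n ≠ 0 := by
        rintro rfl
        rw [pow_zero] at hn
        have hNb : N = ⊥ := Subgroup.card_eq_one.mp hn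
        apply hHne
        rw [hNb] at hHN
        exact le_bot_iff.mp hHN
      have hne : iterCommutator N G (n - 1) ≠ ⊥ := h.resolve_right hn0
      have hcard := card_of_ne_bot N G hN hG hGN n hn (by omega) hne
      obtain ⟨i, hi, rfl⟩ := key N G hN hG hGN n hcard H hHN hHG
      have hin : i < n := by
        by_contra hcon
        have : i = n := by omega
        subst this
        apply hHne
        exact Subgroup.card_eq_one.mp (by rw [hcard i le_rfl, Nat.sub_self, pow_zero])
      exact relIndex_C N G hGN n hcard i hin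
  · intro hU H hHN hHG
    by_cases h0 : n = 0
    · subst h0
      rw [pow_zero] at hn
      have hNb : N = ⊥ := Subgroup.card_eq_one.mp hn
      have hHb : H = ⊥ := by rw [hNb] at hHN; exact le_bot_iff.mp hHN
      refine ⟨⟨0, le_rfl, ?_⟩, ?_⟩
      · rw [hHb]; exact hNb.symm
      · rw [hHb, hNb]
        exact bot_le
    · have hcard := card_of_unis N G hGN n hn hU
      obtain ⟨i, hi, rfl⟩ := key N G hN hG hGN n hcard H hHN hHG
      exact ⟨⟨i, hi, rfl⟩, le_sup_left.trans (P_normalizes N G hN hG hGN n hcard i hi)⟩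

end Cfsg.Agent.S0663
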