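import Cfsg.Statements.S0666
import Cfsg.Agent.S0035
import Cfsg.Agent.Lib_helper21_FrobCount

set_option autoImplicit false
set_option linter.style.haveILetI false
open Cfsg

namespace Cfsg.Agent.S0666

theorem norm_fixed {F : Type*} [Group F] [Fintype F] {W : Type*} [CommGroup W] (φ : F →* MulAut W)
    (w : W) (x₀ : F) : φ x₀ (∏ x : F, φ x w) = ∏ x : F, φ x w := by
  rw [map_prod]
  exact Fintype.prod_equiv (Equiv.mulLeft x₀) _ _ (fun x => by simp [map_mul, MulAut.mul_apply])

theorem norm_fixed_sub {F : Type*} [Group F] {W : Type*} [CommGroup W] (φ : F →* MulAut W)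
    (X : Subgroup F) [Fintype X] (w : W) (x₀ : F) (hx₀ : x₀ ∈ X) :
    φ x₀ (∏ x : X, φ (x : F) w) = ∏ x : X, φ (x : F) w := by
  rw [map_prod]
  exact Fintype.prod_equiv (Equiv.mulLeft (⟨x₀, hx₀⟩ : X)) _ _
    (fun x => by simp [map_mul, MulAut.mul_apply])

/-- A Frobenius group acting on a nontrivial abelian group of order prime to that of its kernel, with the kernel acting without nontrivial fixed points, has a complement with a nontrivial fixed point. -/
theorem result {G : Type*} [Group G] [Finite G] (V F : Subgroup G) (hVab : IsMulCommutative V) (hV1 : V ≠ ⊥) (hFV : F ≤ Subgroup.normalizer (V : Set G)) (H : Subgroup ↥F) (hH : Cfsg.IsFrobeniusComplement H) (hcop : (Nat.card V).Coprime (Nat.card (Cfsg.frobeniusKernel H))) (hCK : V ⊓ Subgroup.centralizer (Subtype.val '' Cfsg.frobeniusKernel H : Set G) = ⊥) : V ⊓ Subgroup.centralizer ((H.map F.subtype : Subgroup G) : Set G) ≠ ⊥ := by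
  classical
  intro hbot
  obtain ⟨K, hKset, hKn, hc⟩ := Cfsg.Agent.S0035.result H hH
  haveI := hKn
  letI : CommGroup V :=
    { (inferInstance : Group V) with mul_comm := fun a b => hVab.is_comm.comm a b }
  obtain ⟨φ, hφ⟩ : ∃ φ : F →* MulAut V, ∀ (f : F) (v : V),
      ((φ f v : V) : G) = (f : G) * v * (f : G)⁻¹ :=
    ⟨V.normalizerMonoidHom.comp (Subgroup.inclusion hFV), fun f v => by simp⟩
  haveI : Fintype F := Fintype.ofFinite F
  have hKH : K ⊓ H = ⊥ := hc.disjoint.eq_bot
  -- fixed implies trivial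
  have hfixH : ∀ w : V, (∀ h ∈ H, φ h w = w) → w = 1 := by
    intro w hw
    have : (w : G) ∈ V ⊓ Subgroup.centralizer ((H.map F.subtype : Subgroup G) : Set G) := by
      refine Subgroup.mem_inf.mpr ⟨w.2, ?_⟩
      rw [Subgroup.mem_centralizer_iff]
      rintro _ ⟨h, hh, rfl⟩
      have := congrArg Subtype.val (hw h hh)
      rw [hφ] at this
      show (h : G) * w = w * (h : G)
      calc (h : G) * w = ((h : G) * w * (h : G)⁻¹) * h := by group
        _ = w * h := by rw [this]
    rw [hbot, Subgroup.mem_bot] at this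
    exact Subtype.ext this
  have hfixK : ∀ w : V, (∀ k ∈ K, φ k w = w) → w = 1 := by
    intro w hw
    have : (w : G) ∈ V ⊓ Subgroup.centralizer (Subtype.val '' Cfsg.frobeniusKernel H : Set G) := by
      refine Subgroup.mem_inf.mpr ⟨w.2, ?_⟩
      rw [Subgroup.mem_centralizer_iff]
      rintro _ ⟨k, hk, rfl⟩
      have hkK : k ∈ K := by rw [← SetLike.mem_coe, hKset]; exact hk
      have := congrArg Subtype.val (hw k hkK)
      rw [hφ] at this
      calc (k : G) * w = ((k : G) * w * (k : G)⁻¹) * k := by group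
        _ = w * k := by rw [this]
    rw [hCK, Subgroup.mem_bot] at this
    exact Subtype.ext this
  -- the bijection facts
  have hnotK : ∀ x ∈ K, ∀ h ∈ H, h ≠ 1 → x * h * x⁻¹ ∉ K := by
    intro x hx h hh h1 hmem
    apply h1
    have h2 : h ∈ K := by
      have : h = x⁻¹ * (x * h * x⁻¹) * x := by group
      rw [this]
      exact K.mul_mem (K.mul_mem (K.inv_mem hx) hmem) hx
    have h3 : h ∈ K ⊓ H := ⟨h2, hh⟩
    rwa [hKH, Subgroup.mem_bot] at h3
  have hconj : ∀ g : F, g ∉ K → ∃ x ∈ K, ∃ h ∈ H, h ≠ 1 ∧ x * h * x⁻¹ = g := by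
    intro g hg
    have hg' : g ∉ Cfsg.frobeniusKernel H := by rw [← hKset]; exact hg
    simp only [Cfsg.frobeniusKernel, Set.mem_setOf_eq, not_or, not_forall, not_not] at hg'
    obtain ⟨hg1, y, hy⟩ := hg'
    have hy' := (Cfsg.Agent.helper21.frobc_mem_conj H y g).mp hy
    obtain ⟨⟨k, h₀⟩, hkh⟩ := hc.2 y
    have hkh' : (k : F) * (h₀ : F) = y := hkh
    have h1 : (k : F)⁻¹ * g * k ∈ H := by
      have : (k : F)⁻¹ * g * k = (h₀ : F) * (y⁻¹ * g * y) * (h₀ : F)⁻¹ := by
        rw [← hkh']; group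
      rw [this]
      exact H.mul_mem (H.mul_mem h₀.2 hy') (H.inv_mem h₀.2)
    refine ⟨k, k.2, (k : F)⁻¹ * g * k, h1, ?_, by group⟩
    intro h
    apply hg1
    have : g = (k : F) * ((k : F)⁻¹ * g * k) * (k : F)⁻¹ := by group
    rw [this, h]; group
  have hinj : ∀ x ∈ K, ∀ h ∈ H, h ≠ 1 → ∀ y ∈ K, ∀ h' ∈ H, h' ≠ 1 →
      x * h * x⁻¹ = y * h' * y⁻¹ → x = y ∧ h = h' := by
    intro x hx h hh h1 y hy h' hh' h1' e
    have hz : (y⁻¹ * x)⁻¹ * h' * (y⁻¹ * x) ∈ H := by
      have : (y⁻¹ * x)⁻¹ * h' * (y⁻¹ * x) = h := by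
        have : h' = y⁻¹ * (x * h * x⁻¹) * y := by rw [e]; group
        rw [this]; group
      rw [this]; exact hh
    have hzH := Cfsg.Agent.helper21.frobc_comm H hH h' (y⁻¹ * x) hh' h1' hz
    have hzK : y⁻¹ * x ∈ K := K.mul_mem (K.inv_mem hy) hx
    have hz1 : y⁻¹ * x ∈ K ⊓ H := ⟨hzK, hzH⟩
    rw [hKH, Subgroup.mem_bot] at hz1
    have hxy : x = y := (inv_mul_eq_one.mp hz1).symm
    subst hxy
    refine ⟨rfl, ?_⟩
    have := mul_right_cancel e
    exact mul_left_cancel this
  -- every v is trivial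
  have hall : ∀ v : V, v = 1 := by
    intro v
    have hNF : ∏ g : F, φ g v = 1 := hfixK _ (fun k _ => norm_fixed φ v k)
    have hNK : ∏ k : K, φ (k : F) v = 1 := hfixK _ (fun k hk => norm_fixed_sub φ K v k hk)
    have hsplit : ∏ g : F, φ g v =
        (∏ g ∈ Finset.univ.filter (fun g : F => g ∈ K), φ g v) *
          ∏ g ∈ Finset.univ.filter (fun g : F => g ∉ K), φ g v :=
      (Finset.prod_filter_mul_prod_filter_not Finset.univ (fun g : F => g ∈ K) _).symm
    have hKprod : (∏ g ∈ Finset.univ.filter (fun g : F => g ∈ K), φ g v) =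
        ∏ k : K, φ (k : F) v := by
      apply Finset.prod_subtype
      intro x; simp
    have hout : ∏ g ∈ Finset.univ.filter (fun g : F => g ∉ K), φ g v = 1 := by
      rw [hNF, hKprod, hNK, one_mul] at hsplit
      exact hsplit.symm
    -- the double product
    have hT1 : ∏ x : K, ∏ h : H, φ ((x : F) * h * (x : F)⁻¹) v = 1 := by
      apply Finset.prod_eq_one
      intro x _
      have h1 : ∏ h : H, φ ((x : F) * h * (x : F)⁻¹) v =
          φ (x : F) (∏ h : H, φ (h : F) (φ (x : F)⁻¹ v)) := by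
        rw [map_prod]
        apply Finset.prod_congr rfl
        intro h _
        simp [map_mul, MulAut.mul_apply]
      have h2 : ∏ h : H, φ (h : F) (φ (x : F)⁻¹ v) = 1 :=
        hfixH _ (fun h hh => norm_fixed_sub φ H _ h hh)
      rw [h1, h2, map_one]
    have hT2 : ∏ x : K, ∏ h : H, φ ((x : F) * h * (x : F)⁻¹) v =
        v ^ (Nat.card K) * ∏ g ∈ Finset.univ.filter (fun g : F => g ∉ K), φ g v := by
      have e1 : ∀ x : K, ∏ h : H, φ ((x : F) * h * (x : F)⁻¹) v =
          v * ∏ h ∈ ({(1 : H)}ᶜ : Finset H), φ ((x : F) * h * (x : F)⁻¹) v := by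
        intro x
        rw [Fintype.prod_eq_mul_prod_compl (1 : H)]
        congr 1
        simp
      rw [Finset.prod_congr rfl (fun x _ => e1 x), Finset.prod_mul_distrib, Finset.prod_const,
        Finset.card_univ, ← Nat.card_eq_fintype_card]
      congr 1
      rw [← Finset.prod_product']
      apply Finset.prod_bij (fun (p : K × H) _ => (p.1 : F) * p.2 * (p.1 : F)⁻¹)
      · intro p hp
        simp only [Finset.mem_product, Finset.mem_univ, Finset.mem_compl, Finset.mem_singleton,
          true_and] at hp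
        simp only [Finset.mem_filter, Finset.mem_univ, true_and]
        exact hnotK p.1 p.1.2 p.2 p.2.2 (fun h => hp (Subtype.ext h))
      · intro p hp q hq e
        simp only [Finset.mem_product, Finset.mem_univ, Finset.mem_compl, Finset.mem_singleton,
          true_and] at hp hq
        obtain ⟨h1, h2⟩ := hinj p.1 p.1.2 p.2 p.2.2 (fun h => hp (Subtype.ext h))
          q.1 q.1.2 q.2 q.2.2 (fun h => hq (Subtype.ext h)) e
        exact Prod.ext (Subtype.ext h1) (Subtype.ext h2)
      · intro g hg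
        simp only [Finset.mem_filter, Finset.mem_univ, true_and] at hg
        obtain ⟨x, hx, h, hh, h1, e⟩ := hconj g hg
        refine ⟨(⟨x, hx⟩, ⟨h, hh⟩), ?_, e⟩
        simp only [Finset.mem_product, Finset.mem_univ, Finset.mem_compl, Finset.mem_singleton,
          true_and]
        intro h'
        exact h1 (congrArg Subtype.val h')
      · intro p _
        rfl
    rw [hT1, hout, mul_one] at hT2
    have ho1 : orderOf v ∣ Nat.card K := orderOf_dvd_of_pow_eq_one hT2.symm
    have ho2 : orderOf v ∣ Nat.card V := orderOf_dvd_natCard v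
    have hKcard : Nat.card K = Nat.card (Cfsg.frobeniusKernel H) := by
      show Nat.card ((K : Set F)) = _
      rw [hKset]
    rw [hKcard] at ho1
    have := Nat.eq_one_of_dvd_coprimes hcop ho2 ho1
    exact orderOf_eq_one_iff.mp this
  apply hV1
  rw [eq_bot_iff]
  intro x hx
  have := hall ⟨x, hx⟩
  rw [Subgroup.mem_bot]
  exact congrArg Subtype.val this

end Cfsg.Agent.S0666
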