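import Cfsg.Statements.S0668
-- import your own Cfsg.Agent.* helpers here
import Mathlib

set_option autoImplicit false
open Cfsg

namespace Cfsg.Agent.S0668


/-- The equivariant linear maps between the permutation modules of two finite `G`-sets form a space whose dimension is the number of `G`-orbits on the product of the two sets. -/
theorem result {G : Type*} [Group G] {K : Type*} [Field K] {Ω₁ Ω₂ : Type*} [Fintype Ω₁] [Fintype Ω₂] [MulAction G Ω₁] [MulAction G Ω₂] : Module.finrank K ((Cfsg.permRep K G Ω₁).linHom (Cfsg.permRep K G Ω₂)).invariants = Nat.card (MulAction.orbitRel.Quotient G (Ω₁ × Ω₂)) := by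
  classical
  set ρ₁ := permRep K G Ω₁ with hρ₁
  set ρ₂ := permRep K G Ω₂ with hρ₂
  have hρ₁a : ∀ (g : G) (f : Ω₁ → K) (x : Ω₁), ρ₁ g f x = f (g⁻¹ • x) := fun g f x => rfl
  have hρ₂a : ∀ (g : G) (f : Ω₂ → K) (x : Ω₂), ρ₂ g f x = f (g⁻¹ • x) := fun g f x => rfl
  let mk : Ω₁ × Ω₂ → MulAction.orbitRel.Quotient G (Ω₁ × Ω₂) := Quotient.mk''
  have hmk : ∀ (g : G) (x : Ω₁) (y : Ω₂), mk (g • x, g • y) = mk (x, y) := by
    intro g x y
    apply Quotient.sound
    exact ⟨g, rfl⟩
  haveI : Finite (MulAction.orbitRel.Quotient G (Ω₁ × Ω₂)) := Quotient.finite _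
  haveI : Fintype (MulAction.orbitRel.Quotient G (Ω₁ × Ω₂)) := Fintype.ofFinite _
  let Ψ : (MulAction.orbitRel.Quotient G (Ω₁ × Ω₂) → K) →ₗ[K] ((Ω₁ → K) →ₗ[K] (Ω₂ → K)) :=
    { toFun := fun c =>
        { toFun := fun f y => ∑ x, c (mk (x, y)) * f x
          map_add' := by
            intro f f'
            funext y
            simp only [Pi.add_apply, mul_add, Finset.sum_add_distrib]
          map_smul' := by
            intro a f
            funext y
            simp only [Pi.smul_apply, smul_eq_mul, RingHom.id_apply, Finset.mul_sum]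
            exact Finset.sum_congr rfl (fun x _ => by ring) }
      map_add' := by
        intro c c'
        apply LinearMap.ext
        intro f
        funext y
        show ∑ x, (c + c') (mk (x, y)) * f x = ∑ x, c (mk (x, y)) * f x + ∑ x, c' (mk (x, y)) * f x
        simp only [Pi.add_apply, add_mul, Finset.sum_add_distrib]
      map_smul' := by
        intro a c
        apply LinearMap.ext
        intro f
        funext y
        show ∑ x, (a • c) (mk (x, y)) * f x = a * ∑ x, c (mk (x, y)) * f x
        simp only [Pi.smul_apply, smul_eq_mul, Finset.mul_sum]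
        exact Finset.sum_congr rfl (fun x _ => by ring) }
  have hΨ : ∀ c f y, Ψ c f y = ∑ x, c (mk (x, y)) * f x := fun c f y => rfl
  have hΨsingle : ∀ c x y, Ψ c (Pi.single x 1) y = c (mk (x, y)) := by
    intro c x y
    rw [hΨ, Finset.sum_eq_single x]
    · simp
    · intro x' _ hx'
      rw [Pi.single_eq_of_ne hx']; simp
    · intro h; exact absurd (Finset.mem_univ _) h
  have hinj : Function.Injective Ψ := by
    rw [← LinearMap.ker_eq_bot, LinearMap.ker_eq_bot']
    intro c hc
    funext q
    induction q using Quotient.inductionOn' with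
    | h p =>
      obtain ⟨x, y⟩ := p
      have := hΨsingle c x y
      rw [hc] at this
      exact this.symm
  have hrange : LinearMap.range Ψ = (ρ₁.linHom ρ₂).invariants := by
    ext T
    rw [Representation.mem_invariants]
    constructor
    · rintro ⟨c, rfl⟩ g
      apply LinearMap.ext
      intro f
      funext y
      rw [Representation.linHom_apply]
      simp only [LinearMap.comp_apply]
      rw [hρ₂a, hΨ, hΨ]
      rw [← Equiv.sum_comp (MulAction.toPerm g) (fun x => c (mk (x, y)) * f x)]
      apply Finset.sum_congr rfl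
      intro x _
      rw [hρ₁a, inv_inv, MulAction.toPerm_apply, ← hmk g x (g⁻¹ • y), smul_inv_smul]
    · intro hT
      have hδ : ∀ (g : G) (x : Ω₁), ρ₁ g⁻¹ (Pi.single (g • x) 1) = Pi.single x 1 := by
        intro g x
        funext z
        rw [hρ₁a, inv_inv, Pi.single_apply, Pi.single_apply]
        simp only [smul_left_cancel_iff]
      have hwd : ∀ (g : G) (x : Ω₁) (y : Ω₂),
          T (Pi.single (g • x) 1) (g • y) = T (Pi.single x 1) y := by
        intro g x y
        have h1 := hT g
        rw [Representation.linHom_apply] at h1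
        have h2 := congrFun (LinearMap.congr_fun h1 (Pi.single (g • x) 1)) (g • y)
        simp only [LinearMap.comp_apply] at h2
        rw [hρ₂a, hδ, inv_smul_smul] at h2
        exact h2.symm
      let c : MulAction.orbitRel.Quotient G (Ω₁ × Ω₂) → K :=
        Quotient.lift (fun p : Ω₁ × Ω₂ => T (Pi.single p.1 1) p.2) (by
          rintro ⟨x, y⟩ ⟨x', y'⟩ ⟨g, hg⟩
          have hx : g • x' = x := congrArg Prod.fst hg
          have hy : g • y' = y := congrArg Prod.snd hg
          show T (Pi.single x 1) y = T (Pi.single x' 1) y'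
          rw [← hx, ← hy, hwd])
      have hc : ∀ x y, c (mk (x, y)) = T (Pi.single x 1) y := fun x y => rfl
      refine ⟨c, ?_⟩
      apply LinearMap.ext
      intro f
      funext y
      rw [hΨ, LinearMap.pi_apply_eq_sum_univ T f, Finset.sum_apply]
      apply Finset.sum_congr rfl
      intro x _
      have : (fun j => if x = j then (1 : K) else 0) = Pi.single x 1 := by
        funext j
        rw [Pi.single_apply]
        simp only [eq_comm]
      rw [this, hc, Pi.smul_apply, smul_eq_mul, mul_comm]
  rw [← hrange, LinearMap.finrank_range_of_inj hinj, Module.finrank_fintype_fun_eq_card,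
    Nat.card_eq_fintype_card]

end Cfsg.Agent.S0668
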