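import Cfsg.Statements.S0669
-- import your own Cfsg.Agent.* helpers here
import Mathlib

set_option autoImplicit false
open Cfsg

namespace Cfsg.Agent.S0669


/-- The rank of a transitive action: orbits on ordered pairs correspond to orbits of a point stabiliser. -/
theorem result {G : Type*} [Group G] {Ω : Type*} [Finite Ω] [MulAction G Ω] [MulAction.IsPretransitive G Ω] (a : Ω) : Nat.card (MulAction.orbitRel.Quotient G (Ω × Ω)) = Nat.card (MulAction.orbitRel.Quotient (MulAction.stabilizer G a) Ω) := by
  symm
  let f : MulAction.orbitRel.Quotient (MulAction.stabilizer G a) Ω → MulAction.orbitRel.Quotient G (Ω × Ω) :=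
    Quotient.lift (fun b : Ω => (Quotient.mk (MulAction.orbitRel G (Ω × Ω)) (a, b))) (by
      intro b b' hbb'
      apply Quotient.sound
      change (a, b) ∈ MulAction.orbit G (a, b')
      have : b ∈ MulAction.orbit (MulAction.stabilizer G a) b' := hbb'
      obtain ⟨h, hh⟩ := this
      refine ⟨(h : G), ?_⟩
      have h1 : (h : G) • a = a := h.2
      have h2 : (h : G) • b' = b := hh
      simp only [Prod.smul_mk, h1, h2])
  have hf : Function.Bijective f := by
    constructor
    · intro x y
      induction x using Quotient.inductionOn with | _ b => ?_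
      induction y using Quotient.inductionOn with | _ b' => ?_
      intro hxy
      have hxy' : Quotient.mk (MulAction.orbitRel G (Ω × Ω)) (a, b) = Quotient.mk (MulAction.orbitRel G (Ω × Ω)) (a, b') := hxy
      have := Quotient.exact hxy'
      have hmem : (a, b) ∈ MulAction.orbit G (a, b') := this
      obtain ⟨g, hg⟩ := hmem
      simp only [Prod.smul_mk, Prod.mk.injEq] at hg
      apply Quotient.sound
      change b ∈ MulAction.orbit (MulAction.stabilizer G a) b'
      exact ⟨⟨g, hg.1⟩, hg.2⟩
    · intro z
      induction z using Quotient.inductionOn with | _ p => ?_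
      obtain ⟨x, y⟩ := p
      obtain ⟨g, hg⟩ := MulAction.exists_smul_eq G a x
      refine ⟨Quotient.mk _ (g⁻¹ • y), ?_⟩
      apply Quotient.sound
      change (a, g⁻¹ • y) ∈ MulAction.orbit G (x, y)
      refine ⟨g⁻¹, ?_⟩
      simp only [Prod.smul_mk, ← hg, inv_smul_smul]
  exact Nat.card_congr (Equiv.ofBijective f hf)

end Cfsg.Agent.S0669
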