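import Cfsg.Statements.S0670
-- import your own Cfsg.Agent.* helpers here
import Mathlib
import Cfsg.Agent.Lib_helper4_PFix

set_option autoImplicit false
open Cfsg

namespace Cfsg.Agent.S0670


/-- In characteristic `p`, the permutation module of a transitive action of degree `p ^ f` has the line of constant functions as its only irreducible submodule: every non-zero subrepresentation contains it. -/
theorem result {G : Type*} [Group G] [Finite G] {K : Type*} [Field K] {p f : ℕ} [Fact p.Prime] [CharP K p] {Ω : Type*} [Fintype Ω] [MulAction G Ω] [MulAction.IsPretransitive G Ω] (hf : 1 ≤ f) (hcard : Fintype.card Ω = p ^ f) (W : Subrepresentation (Cfsg.permRep K G Ω)) (hW : W.toSubmodule ≠ ⊥) : (Cfsg.permConstants K G Ω).toSubmodule ≤ W.toSubmodule := by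
  classical
  let P : Sylow p G := default
  haveI : MulAction.IsPretransitive P Ω :=
    Cfsg.Agent.helper4.sylow_isPretransitive_of_card_prime_pow
      (by rw [Nat.card_eq_fintype_card, hcard]) P
  let ρ : P →* ((Ω → K) →ₗ[K] (Ω → K)) := (permRep K G Ω).comp (P : Subgroup G).subtype
  obtain ⟨w, hwW, hw0, hfix⟩ := Cfsg.Agent.helper4.exists_fixed_vector_of_isPGroup P.isPGroup' ρ
    W.toSubmodule (fun g w hw => W.apply_mem_toSubmodule g.1 hw) hW
  have hconst : ∀ x y, w x = w y := by
    intro x y
    obtain ⟨g, rfl⟩ := MulAction.exists_smul_eq P y x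
    have := congrFun (hfix g) (g • y)
    have h2 : (ρ g w) (g • y) = w (g⁻¹ • (g • y)) := rfl
    rw [h2, inv_smul_smul] at this
    exact this.symm
  have hne : Nonempty Ω := by
    rw [← Fintype.card_pos_iff, hcard]
    exact pow_pos (Fact.out : p.Prime).pos f
  obtain ⟨x₀⟩ := hne
  have hc : w x₀ ≠ 0 := by
    intro h; apply hw0; funext x; rw [hconst x x₀, h]; rfl
  show Submodule.span K {fun _ => (1 : K)} ≤ W.toSubmodule
  rw [Submodule.span_singleton_le_iff_mem]
  have : (fun _ : Ω => (1 : K)) = (w x₀)⁻¹ • w := by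
    funext x; simp [hconst x x₀, hc]
  rw [this]; exact W.toSubmodule.smul_mem _ hwW

end Cfsg.Agent.S0670
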