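import Cfsg.Statements.S0671
-- import your own Cfsg.Agent.* helpers here
import Mathlib
import Cfsg.Agent.Lib_helper4_PFix

set_option autoImplicit false
open Cfsg

namespace Cfsg.Agent.S0671

open Cfsg.Agent.helper4

/-- A `P`-invariant subspace of the permutation module of a transitive `p`-group in characteristic
`p` that is not contained in the sum-zero functions is everything. -/
theorem unique_max {p : ℕ} [Fact p.Prime] {K : Type*} [Field K] [CharP K p] {P : Type*} [Group P]
    [Finite P] (hP : IsPGroup p P) {Ω : Type*} [Fintype Ω] [MulAction P Ω]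
    [MulAction.IsPretransitive P Ω] (U : Submodule K (Ω → K))
    (hU : ∀ g : P, ∀ u ∈ U, (fun x => u (g⁻¹ • x)) ∈ U) (hne : ∃ u ∈ U, ∑ x, u x ≠ 0) :
    U = ⊤ := by
  classical
  by_contra hU'
  obtain ⟨φ, hφ0, hφU⟩ := Submodule.exists_dual_map_eq_bot_of_lt_top (lt_top_iff_ne_top.mpr hU')
    inferInstance
  have hφ : ∀ v : Ω → K, φ v = ∑ x, v x * φ (Pi.single x 1) := by
    intro v
    rw [LinearMap.pi_apply_eq_sum_univ φ v]
    apply Finset.sum_congr rfl
    intro x _
    rw [smul_eq_mul]
    congr 2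
    funext j
    rw [Pi.single_apply]
    by_cases h : x = j
    · rw [if_pos h, if_pos h.symm]
    · rw [if_neg h, if_neg (fun h' => h h'.symm)]
  let Uperp : Submodule K (Ω → K) :=
    { carrier := {h | ∀ u ∈ U, ∑ x, u x * h x = 0}
      add_mem' := by
        intro a b ha hb u hu
        simp only [Pi.add_apply, mul_add, Finset.sum_add_distrib]
        rw [ha u hu, hb u hu, add_zero]
      zero_mem' := by intro u _; simp
      smul_mem' := by
        intro c a ha u hu
        have : ∀ x, u x * (c • a) x = c * (u x * a x) := by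
          intro x; rw [Pi.smul_apply, smul_eq_mul]; ring
        rw [Finset.sum_congr rfl (fun x _ => this x), ← Finset.mul_sum, ha u hu, mul_zero] }
  have hmem : ∀ h, h ∈ Uperp ↔ ∀ u ∈ U, ∑ x, u x * h x = 0 := fun h => Iff.rfl
  have hUperp_ne : Uperp ≠ ⊥ := by
    intro hbot
    apply hφ0
    have h1 : (fun x => φ (Pi.single x 1)) ∈ Uperp := by
      rw [hmem]
      intro u hu
      rw [← hφ u]
      have : φ u ∈ Submodule.map φ U := ⟨u, hu, rfl⟩
      rw [hφU] at this
      exact this
    rw [hbot, Submodule.mem_bot] at h1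
    apply LinearMap.ext
    intro v
    rw [hφ v]
    simp only [LinearMap.zero_apply]
    apply Finset.sum_eq_zero
    intro x _
    rw [congrFun h1 x]; simp
  obtain ⟨w, hwU, hw0, hwfix⟩ := exists_fixed_vector_of_isPGroup hP
    (Cfsg.permRep K P Ω : P →* ((Ω → K) →ₗ[K] (Ω → K))) Uperp (by
      intro g h hh
      rw [hmem] at hh ⊢
      intro u hu
      have := hh _ (hU g⁻¹ u hu)
      rw [← this]
      rw [← Equiv.sum_comp (MulAction.toPerm g : Equiv.Perm Ω)]
      apply Finset.sum_congr rfl
      intro x _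
      change u (g • x) * h (g⁻¹ • g • x) = u ((g⁻¹)⁻¹ • x) * h x
      rw [inv_inv, inv_smul_smul]) hUperp_ne
  -- `w` is constant
  have hconst : ∀ x y : Ω, w x = w y := by
    intro x y
    obtain ⟨g, hg⟩ := MulAction.exists_smul_eq P y x
    have := congrFun (hwfix g⁻¹) y
    change w ((g⁻¹)⁻¹ • y) = w y at this
    rw [inv_inv, hg] at this
    exact this
  obtain ⟨u, hu, hus⟩ := hne
  have hx : ∃ x : Ω, w x ≠ 0 := by
    by_contra hcon
    push Not at hcon
    exact hw0 (funext hcon)
  obtain ⟨x₀, hx₀⟩ := hx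
  have := (hmem w).mp hwU u hu
  rw [Finset.sum_congr rfl (fun x _ => by rw [hconst x x₀]), ← Finset.sum_mul] at this
  rcases mul_eq_zero.mp this with h | h
  · exact hus h
  · exact hx₀ h

/-- image of a subrepresentation under an equivariant map -/
def mapSub {K G V : Type*} [Field K] [Group G] [AddCommGroup V] [Module K V]
    {ρ : Representation K G V} (θ : V →ₗ[K] V) (hθ : ∀ g v, θ (ρ g v) = ρ g (θ v))
    (A : Subrepresentation ρ) : Subrepresentation ρ where
  toSubmodule := A.toSubmodule.map θ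
  apply_mem_toSubmodule := by
    rintro g _ ⟨v, hv, rfl⟩
    exact ⟨ρ g v, A.apply_mem_toSubmodule g hv, hθ g v⟩

theorem exists_bad_pair {G Ω : Type*} [Group G] [MulAction G Ω] [MulAction.IsPretransitive G Ω]
    (h2 : ¬ MulAction.IsMultiplyPretransitive G Ω 2) (a : Ω) :
    ∃ b c : Ω, b ≠ a ∧ c ≠ a ∧ ∀ g : G, g • a = a → g • b ≠ c := by
  by_contra hcon
  push Not at hcon
  apply h2
  rw [MulAction.is_two_pretransitive_iff]
  intro x y z w hxy hzw
  obtain ⟨g₁, hg₁⟩ := MulAction.exists_smul_eq G x a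
  obtain ⟨g₂, hg₂⟩ := MulAction.exists_smul_eq G z a
  have hb : g₁ • y ≠ a := by
    rw [← hg₁]; exact fun h => hxy (MulAction.injective g₁ h).symm
  have hc : g₂ • w ≠ a := by
    rw [← hg₂]; exact fun h => hzw (MulAction.injective g₂ h).symm
  obtain ⟨g, hga, hgb⟩ := hcon (g₁ • y) (g₂ • w) hb hc
  refine ⟨g₂⁻¹ * g * g₁, ?_, ?_⟩
  · rw [mul_smul, mul_smul, hg₁, hga, ← hg₂, inv_smul_smul]
  · rw [mul_smul, mul_smul, hgb, inv_smul_smul]

section construction
variable (G : Type*) {Ω : Type*} (K : Type*) [Group G] [MulAction G Ω] [Fintype Ω] [Field K]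

/-- the orbital of `(a, b)` -/
def Del (a b x y : Ω) : Prop := ∃ g : G, g • a = x ∧ g • b = y

variable {G} in
theorem Del_smul (a b x y : Ω) (g : G) : Del G a b (g • x) (g • y) ↔ Del G a b x y := by
  constructor
  · rintro ⟨k, hk1, hk2⟩
    refine ⟨g⁻¹ * k, ?_, ?_⟩
    · rw [mul_smul, hk1, inv_smul_smul]
    · rw [mul_smul, hk2, inv_smul_smul]
  · rintro ⟨k, hk1, hk2⟩
    exact ⟨g * k, by rw [mul_smul, hk1], by rw [mul_smul, hk2]⟩

open scoped Classical in
/-- subdegree -/
noncomputable def subdeg (a b x : Ω) : ℕ := (Finset.univ.filter (fun y => Del G a b x y)).card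

open scoped Classical in
variable {G} in
theorem subdeg_smul (a b x : Ω) (g : G) : subdeg G a b (g • x) = subdeg G a b x := by
  unfold subdeg
  symm
  apply Finset.card_nbij' (fun y => g • y) (fun y => g⁻¹ • y)
  · intro y hy
    simp only [Finset.coe_filter, Finset.mem_univ, true_and, Set.mem_setOf_eq] at hy ⊢
    exact (Del_smul a b x y g).mpr hy
  · intro y hy
    simp only [Finset.coe_filter, Finset.mem_univ, true_and, Set.mem_setOf_eq] at hy ⊢
    have := (Del_smul a b (g • x) y g⁻¹).mpr hy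
    rwa [inv_smul_smul] at this
  · intro y _; exact inv_smul_smul g y
  · intro y _; exact smul_inv_smul g y

open scoped Classical in
/-- the kernel function -/
noncomputable def Fk (a b x y : Ω) : K :=
  (if Del G a b x y then 1 else 0) - (subdeg G a b a : K) * (if x = y then 1 else 0)

variable {G} in
theorem Fk_smul (a b x y : Ω) (g : G) : Fk G K a b (g • x) (g • y) = Fk G K a b x y := by
  classical
  unfold Fk
  have h1 : (g • x = g • y) ↔ x = y := (MulAction.injective g).eq_iff
  simp only [Del_smul, h1]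

variable {G} in
theorem Fk_row_sum [MulAction.IsPretransitive G Ω] (a b x : Ω) : ∑ y, Fk G K a b x y = 0 := by
  classical
  unfold Fk
  rw [Finset.sum_sub_distrib, Finset.sum_boole, ← Finset.mul_sum, Finset.sum_ite_eq]
  simp only [Finset.mem_univ, if_true, mul_one]
  obtain ⟨g, rfl⟩ := MulAction.exists_smul_eq G a x
  have := subdeg_smul a b a g
  unfold subdeg at this ⊢
  rw [this, sub_self]

/-- the operator with kernel `Fk` -/
noncomputable def thetaMap (a b : Ω) : (Ω → K) →ₗ[K] (Ω → K) where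
  toFun v := fun y => ∑ x, v x * Fk G K a b x y
  map_add' v w := by
    funext y
    simp only [Pi.add_apply, add_mul, Finset.sum_add_distrib]
  map_smul' c v := by
    funext y
    simp only [Pi.smul_apply, smul_eq_mul, RingHom.id_apply, Finset.mul_sum, mul_assoc]

variable {G} in
theorem thetaMap_apply (a b : Ω) (v : Ω → K) (y : Ω) :
    thetaMap G K a b v y = ∑ x, v x * Fk G K a b x y := rfl

variable {G} in
theorem thetaMap_equi (a b : Ω) (g : G) (v : Ω → K) :
    thetaMap G K a b (Cfsg.permRep K G Ω g v) = Cfsg.permRep K G Ω g (thetaMap G K a b v) := by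
  funext y
  change ∑ x, v (g⁻¹ • x) * Fk G K a b x y = ∑ x, v x * Fk G K a b x (g⁻¹ • y)
  rw [← Equiv.sum_comp (MulAction.toPerm g : Equiv.Perm Ω)]
  apply Finset.sum_congr rfl
  intro x _
  change v (g⁻¹ • g • x) * Fk G K a b (g • x) y = _
  rw [inv_smul_smul, ← Fk_smul K a b x (g⁻¹ • y) g, smul_inv_smul]

variable {G} in
theorem thetaMap_sum [MulAction.IsPretransitive G Ω] (a b : Ω) (v : Ω → K) :
    ∑ y, thetaMap G K a b v y = 0 := by
  simp only [thetaMap_apply]
  rw [Finset.sum_comm]
  apply Finset.sum_eq_zero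
  intro x _
  rw [← Finset.mul_sum, Fk_row_sum, mul_zero]

variable {G} in
theorem thetaMap_single [DecidableEq Ω] (a b : Ω) (y : Ω) :
    thetaMap G K a b (Pi.single a 1) y = Fk G K a b a y := by
  rw [thetaMap_apply, Finset.sum_eq_single a]
  · simp
  · intro x _ hx
    rw [Pi.single_apply, if_neg hx, zero_mul]
  · intro h; exact absurd (Finset.mem_univ a) h

end construction


/-- If the heart of the permutation module in characteristic `p` of a transitive action of degree `p ^ f` has no trivial composition factor, the action is doubly transitive. The hypothesis is phrased without composition series: no invariant subspaces `W < W'` between the constants and the sum-zero functions with trivial action on the quotient. -/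
theorem result {G : Type*} [Group G] [Finite G] {K : Type*} [Field K] {p f : ℕ} [Fact p.Prime] [CharP K p] {Ω : Type*} [Fintype Ω] [MulAction G Ω] [MulAction.IsPretransitive G Ω] (hf : 1 ≤ f) (hcard : Fintype.card Ω = p ^ f) (h : ∀ W W' : Subrepresentation (Cfsg.permRep K G Ω), (Cfsg.permConstants K G Ω).toSubmodule ≤ W.toSubmodule → W.toSubmodule < W'.toSubmodule → W'.toSubmodule ≤ (Cfsg.permSumZero K G Ω).toSubmodule → ∃ g : G, ∃ v ∈ W'.toSubmodule, Cfsg.permRep K G Ω g v - v ∉ W.toSubmodule) : MulAction.IsMultiplyPretransitive G Ω 2 := by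
  classical
  by_contra h2
  have hp : p.Prime := Fact.out
  haveI : Nonempty Ω := by
    rw [← Fintype.card_pos_iff, hcard]; exact pow_pos hp.pos f
  obtain ⟨a⟩ := ‹Nonempty Ω›
  obtain ⟨b, c, hba, hca, hbc⟩ := exists_bad_pair h2 a
  -- the operator
  obtain ⟨θ, hθdef⟩ : ∃ θ, θ = thetaMap G K a b := ⟨_, rfl⟩
  have hθequi : ∀ g v, θ (Cfsg.permRep K G Ω g v) = Cfsg.permRep K G Ω g (θ v) := by
    intro g v; rw [hθdef]; exact thetaMap_equi K a b g v
  have hθsum : ∀ v, ∑ y, θ v y = 0 := by
    intro v; rw [hθdef]; exact thetaMap_sum K a b v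
  have hθb : θ (Pi.single a 1) b = 1 := by
    rw [hθdef, thetaMap_single]
    unfold Fk
    rw [if_pos ⟨1, one_smul _ _, one_smul _ _⟩, if_neg (fun h => hba h.symm)]
    simp
  have hθc : θ (Pi.single a 1) c = 0 := by
    rw [hθdef, thetaMap_single]
    unfold Fk
    rw [if_neg (fun h => by obtain ⟨g, hg1, hg2⟩ := h; exact hbc g hg1 hg2),
      if_neg (fun h => hca h.symm)]
    simp
  -- constants have sum zero
  have hcardK : (Fintype.card Ω : K) = 0 := by
    rw [hcard, Nat.cast_pow, CharP.cast_eq_zero K p, zero_pow (by omega)]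
  have hCS : (Cfsg.permConstants K G Ω).toSubmodule ≤ (Cfsg.permSumZero K G Ω).toSubmodule := by
    change Submodule.span K {fun _ => (1 : K)} ≤ _
    rw [Submodule.span_le]
    rintro _ rfl
    change ∑ _x : Ω, (1 : K) = 0
    rw [Finset.sum_const, Finset.card_univ, nsmul_eq_mul, mul_one, hcardK]
  have hCfix : ∀ (g : G) (v : Ω → K), v ∈ (Cfsg.permConstants K G Ω).toSubmodule →
      Cfsg.permRep K G Ω g v = v := by
    intro g v hv
    change v ∈ Submodule.span K {fun _ => (1 : K)} at hv
    rw [Submodule.mem_span_singleton] at hv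
    obtain ⟨k, rfl⟩ := hv
    funext x
    rfl
  have hSmem : ∀ v : Ω → K, v ∈ (Cfsg.permSumZero K G Ω).toSubmodule ↔ ∑ x, v x = 0 :=
    fun v => Iff.rfl
  -- the two subrepresentations
  let W : Subrepresentation (Cfsg.permRep K G Ω) :=
    Cfsg.permConstants K G Ω ⊔ mapSub θ hθequi (Cfsg.permSumZero K G Ω)
  let W' : Subrepresentation (Cfsg.permRep K G Ω) :=
    Cfsg.permConstants K G Ω ⊔ mapSub θ hθequi ⊤
  have hW : W.toSubmodule = (Cfsg.permConstants K G Ω).toSubmodule ⊔
      (Cfsg.permSumZero K G Ω).toSubmodule.map θ := Subrepresentation.toSubmodule_sup _ _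
  have hW' : W'.toSubmodule = (Cfsg.permConstants K G Ω).toSubmodule ⊔
      (⊤ : Submodule K (Ω → K)).map θ := Subrepresentation.toSubmodule_sup _ _
  have hWW' : W.toSubmodule ≤ W'.toSubmodule := by
    rw [hW, hW']
    exact sup_le_sup_left (Submodule.map_mono le_top) _
  have hW'S : W'.toSubmodule ≤ (Cfsg.permSumZero K G Ω).toSubmodule := by
    rw [hW']
    apply sup_le hCS
    rintro _ ⟨v, _, rfl⟩
    exact hθsum v
  have hnlt : ¬ W.toSubmodule < W'.toSubmodule := by
    intro hlt
    obtain ⟨g, v, hv, hgv⟩ := h W W' (by rw [hW]; exact le_sup_left) hlt hW'S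
    apply hgv
    rw [hW'] at hv
    obtain ⟨c₀, hc₀, w, hw, rfl⟩ := Submodule.mem_sup.mp hv
    obtain ⟨m, _, rfl⟩ := hw
    rw [hW, map_add, hCfix g c₀ hc₀, ← hθequi, add_sub_add_left_eq_sub, ← map_sub]
    apply Submodule.mem_sup_right
    refine ⟨_, (hSmem _).mpr ?_, rfl⟩
    simp only [Pi.sub_apply, Finset.sum_sub_distrib]
    rw [sub_eq_zero]
    change ∑ x, m (g⁻¹ • x) = ∑ x, m x
    exact Equiv.sum_comp (MulAction.toPerm g⁻¹ : Equiv.Perm Ω) m
  have hW'W : W'.toSubmodule ≤ W.toSubmodule := by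
    by_contra hcon
    exact hnlt (lt_of_le_not_ge hWW' hcon)
  -- `θ δ_a ∈ C + θ S`
  have h1 : θ (Pi.single a 1) ∈ W.toSubmodule := by
    apply hW'W
    rw [hW']
    exact Submodule.mem_sup_right ⟨_, trivial, rfl⟩
  rw [hW] at h1
  obtain ⟨c₀, hc₀, w, hw, hsum⟩ := Submodule.mem_sup.mp h1
  obtain ⟨s, hs, rfl⟩ := hw
  -- the subspace `U = θ⁻¹(C)`
  let U : Submodule K (Ω → K) := (Cfsg.permConstants K G Ω).toSubmodule.comap θ
  have hUmem : (Pi.single a 1 - s : Ω → K) ∈ U := by
    apply Submodule.mem_comap.mpr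
    rw [map_sub, ← hsum, add_sub_cancel_right]
    exact hc₀
  have hUsum : ∑ x, (Pi.single a 1 - s : Ω → K) x ≠ 0 := by
    simp only [Pi.sub_apply, Finset.sum_sub_distrib]
    rw [(hSmem s).mp hs, sub_zero, Finset.sum_pi_single']
    simp
  have hUinv : ∀ (g : G), ∀ u ∈ U, Cfsg.permRep K G Ω g u ∈ U := by
    intro g u hu
    apply Submodule.mem_comap.mpr
    rw [hθequi]
    exact (Cfsg.permConstants K G Ω).apply_mem_toSubmodule g (Submodule.mem_comap.mp hu)
  -- Sylow subgroup
  obtain ⟨P⟩ : Nonempty (Sylow p G) := inferInstance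
  have : MulAction.IsPretransitive P Ω :=
    sylow_isPretransitive_of_card_prime_pow (f := f) (by rw [Nat.card_eq_fintype_card, hcard]) P
  have hUtop : U = ⊤ := by
    apply unique_max (p := p) (P := P) P.isPGroup' U
    · intro g u hu
      exact hUinv (g : G) u hu
    · exact ⟨_, hUmem, hUsum⟩
  have h3 : (Pi.single a 1 : Ω → K) ∈ U := by rw [hUtop]; trivial
  have h4 : θ (Pi.single a 1) ∈ Submodule.span K {fun _ : Ω => (1 : K)} := h3
  rw [Submodule.mem_span_singleton] at h4
  obtain ⟨k, hk⟩ := h4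
  have hb' := congrFun hk b
  have hc' := congrFun hk c
  rw [hθb] at hb'
  rw [hθc] at hc'
  simp only [Pi.smul_apply, smul_eq_mul, mul_one] at hb' hc'
  rw [hb'] at hc'
  exact one_ne_zero hc'

end Cfsg.Agent.S0671
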