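import Cfsg.Statements.S0672
-- import your own Cfsg.Agent.* helpers here
import Mathlib

set_option autoImplicit false
open Cfsg

namespace Cfsg.Agent.S0672

open scoped Pointwise

section build
variable {G : Type*} [Group G] {K : Type*} [Field K] {Ω : Type*} [Fintype Ω] [DecidableEq Ω]
  [MulAction G Ω]

/-- the operator with kernel `F` -/
noncomputable def kerMap (F : Ω → ↥(Set.powersetCard Ω 2) → K) :
    (Ω → K) →ₗ[K] (↥(Set.powersetCard Ω 2) → K) where
  toFun v := fun s => ∑ x, v x * F x s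
  map_add' v w := by
    funext s
    simp only [Pi.add_apply, add_mul, Finset.sum_add_distrib]
  map_smul' c v := by
    funext s
    simp only [Pi.smul_apply, smul_eq_mul, RingHom.id_apply, Finset.mul_sum, mul_assoc]

theorem kerMap_apply (F : Ω → ↥(Set.powersetCard Ω 2) → K) (v : Ω → K)
    (s : ↥(Set.powersetCard Ω 2)) : kerMap F v s = ∑ x, v x * F x s := rfl

theorem kerMap_equi (F : Ω → ↥(Set.powersetCard Ω 2) → K)
    (hinv : ∀ (g : G) x s, F (g • x) (g • s) = F x s) (g : G) (v : Ω → K) :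
    kerMap F (Cfsg.permRep K G Ω g v) =
      Cfsg.permRep K G ↥(Set.powersetCard Ω 2) g (kerMap F v) := by
  funext s
  change ∑ x, v (g⁻¹ • x) * F x s = ∑ x, v x * F x (g⁻¹ • s)
  rw [← Equiv.sum_comp (MulAction.toPerm g : Equiv.Perm Ω)]
  apply Finset.sum_congr rfl
  intro x _
  change v (g⁻¹ • g • x) * F (g • x) s = _
  rw [inv_smul_smul, ← hinv g x (g⁻¹ • s), smul_inv_smul]

/-- the contradiction from a suitable kernel -/
theorem build (F : Ω → ↥(Set.powersetCard Ω 2) → K)
    (hinv : ∀ (g : G) x s, F (g • x) (g • s) = F x s) (hrow : ∀ s, ∑ x, F x s = 0)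
    (hne : ∃ x y s, F x s ≠ F y s)
    (h : ∀ f : Representation.IntertwiningMap (Cfsg.permSumZero K G Ω).toRepresentation (Cfsg.permRep K G (Set.powersetCard Ω 2)), (∀ v : (Cfsg.permSumZero K G Ω).toSubmodule, (v : Ω → K) ∈ (Cfsg.permConstants K G Ω).toSubmodule → f v = 0) → f = 0) :
    False := by
  let f : Representation.IntertwiningMap (Cfsg.permSumZero K G Ω).toRepresentation
      (Cfsg.permRep K G (Set.powersetCard Ω 2)) :=
    LinearMap.intertwiningMap_of_isIntertwiningMap _ _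
      ((kerMap F).comp (Cfsg.permSumZero K G Ω).toSubmodule.subtype) (by
        intro g v
        exact kerMap_equi F hinv g (v : Ω → K))
  have hf : ∀ v : (Cfsg.permSumZero K G Ω).toSubmodule, f v = kerMap F (v : Ω → K) := fun v => rfl
  have hf0 := h f (by
    intro v hv
    rw [hf]
    change (v : Ω → K) ∈ Submodule.span K {fun _ => (1 : K)} at hv
    rw [Submodule.mem_span_singleton] at hv
    obtain ⟨c, hc⟩ := hv
    funext s
    rw [kerMap_apply, ← hc]
    simp only [Pi.smul_apply, smul_eq_mul, mul_one, Pi.zero_apply]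
    rw [← Finset.mul_sum, hrow, mul_zero])
  obtain ⟨x, y, s, hxy⟩ := hne
  have hmem : (Pi.single x 1 - Pi.single y 1 : Ω → K) ∈ (Cfsg.permSumZero K G Ω).toSubmodule := by
    change ∑ z, (Pi.single x 1 - Pi.single y 1 : Ω → K) z = 0
    simp only [Pi.sub_apply, Finset.sum_sub_distrib, Finset.sum_pi_single']
    simp
  have h1 := hf ⟨_, hmem⟩
  rw [hf0] at h1
  have h2 := congrFun h1 s
  rw [kerMap_apply] at h2
  simp only [Pi.sub_apply, sub_mul, Finset.sum_sub_distrib] at h2
  rw [Finset.sum_eq_single x (by intro b _ hb; rw [Pi.single_apply, if_neg hb, zero_mul])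
    (by intro hx; exact absurd (Finset.mem_univ x) hx),
    Finset.sum_eq_single y (by intro b _ hb; rw [Pi.single_apply, if_neg hb, zero_mul])
    (by intro hx; exact absurd (Finset.mem_univ y) hx)] at h2
  simp only [Pi.single_eq_same, one_mul] at h2
  apply hxy
  have : (0 : ↥(Set.powersetCard Ω 2) → K) s = 0 := rfl
  rw [Representation.IntertwiningMap.coe_zero] at h2
  exact sub_eq_zero.mp h2.symm

end build

section data
variable {G : Type*} [Group G] [Finite G] {Ω : Type*} [Fintype Ω] [DecidableEq Ω]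
  [MulAction G Ω] [FaithfulSMul G Ω]

/-- a 2-subset from two distinct points -/
def mkPair (b c : Ω) (h : b ≠ c) : ↥(Set.powersetCard Ω 2) := ⟨{b, c}, Finset.card_pair h⟩

omit [Finite G] [Fintype Ω] [FaithfulSMul G Ω] in
theorem smul_mkPair (g : G) (b c : Ω) (h : b ≠ c) :
    g • mkPair b c h = mkPair (g • b) (g • c) (fun h' => h (MulAction.injective g h')) := by
  apply Subtype.ext
  rw [Set.powersetCard.coe_smul]
  change g • ({b, c} : Finset Ω) = {g • b, g • c}
  rw [Finset.smul_finset_insert, Finset.smul_finset_singleton]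

omit [Finite G] [Fintype Ω] [FaithfulSMul G Ω] [MulAction G Ω] in
theorem mkPair_eq_iff (b c b' c' : Ω) (h : b ≠ c) (h' : b' ≠ c') :
    mkPair b c h = mkPair b' c' h' → (b = b' ∧ c = c') ∨ (b = c' ∧ c = b') := by
  intro heq
  have h1 : ({b, c} : Finset Ω) = {b', c'} := congrArg Subtype.val heq
  have hb : b ∈ ({b', c'} : Finset Ω) := by rw [← h1]; simp
  have hc : c ∈ ({b', c'} : Finset Ω) := by rw [← h1]; simp
  simp only [Finset.mem_insert, Finset.mem_singleton] at hb hc
  rcases hb with rfl | rfl <;> rcases hc with rfl | rfl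
  · exact absurd rfl h
  · left; exact ⟨rfl, rfl⟩
  · right; exact ⟨rfl, rfl⟩
  · exact absurd rfl h

theorem exists_data (h2 : MulAction.IsMultiplyPretransitive G Ω 2)
    (heven : ∀ a : Ω, Even (Nat.card (MulAction.stabilizer G a)))
    (h3 : ¬ MulAction.IsMultiplyPretransitive G Ω 3) :
    ∃ (a : Ω) (s₁ s₂ : ↥(Set.powersetCard Ω 2)), a ∉ (s₁ : Finset Ω) ∧ a ∉ (s₂ : Finset Ω) ∧
      ∀ g : G, g • a = a → g • s₁ ≠ s₂ := by
  haveI : MulAction.IsPretransitive G Ω := MulAction.isPretransitive_of_is_two_pretransitive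
  -- a bad pair of triples
  have hbad : ∃ x y : Fin 3 ↪ Ω, ∀ g : G, g • x ≠ y := by
    by_contra hcon
    push Not at hcon
    exact h3 ⟨hcon⟩
  obtain ⟨x, y, hxy⟩ := hbad
  obtain ⟨g₀, hg₀⟩ := MulAction.exists_smul_eq G (x 0) (y 0)
  obtain ⟨a, ha⟩ : ∃ a, a = y 0 := ⟨_, rfl⟩
  obtain ⟨b, hb⟩ : ∃ b, b = g₀ • x 1 := ⟨_, rfl⟩
  obtain ⟨c, hc⟩ : ∃ c, c = g₀ • x 2 := ⟨_, rfl⟩
  have hx01 : x 0 ≠ x 1 := x.injective.ne (by decide)
  have hx02 : x 0 ≠ x 2 := x.injective.ne (by decide)
  have hx12 : x 1 ≠ x 2 := x.injective.ne (by decide)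
  have hy01 : y 0 ≠ y 1 := y.injective.ne (by decide)
  have hy02 : y 0 ≠ y 2 := y.injective.ne (by decide)
  have hy12 : y 1 ≠ y 2 := y.injective.ne (by decide)
  have hba : b ≠ a := by
    rw [hb, ha, ← hg₀]; exact fun h => hx01 (MulAction.injective g₀ h).symm
  have hca : c ≠ a := by
    rw [hc, ha, ← hg₀]; exact fun h => hx02 (MulAction.injective g₀ h).symm
  have hbc : b ≠ c := by
    rw [hb, hc]; exact fun h => hx12 (MulAction.injective g₀ h)
  have hda : y 1 ≠ a := by rw [ha]; exact hy01.symm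
  have hea : y 2 ≠ a := by rw [ha]; exact hy02.symm
  have hno : ∀ g : G, g • a = a → g • b = y 1 → g • c = y 2 → False := by
    intro g hga hgb hgc
    apply hxy (g * g₀)
    ext i
    fin_cases i
    · change (g * g₀) • x 0 = y 0
      rw [mul_smul, hg₀, ← ha, hga]
    · change (g * g₀) • x 1 = y 1
      rw [mul_smul, ← hb, hgb]
    · change (g * g₀) • x 2 = y 2
      rw [mul_smul, ← hc, hgc]
  -- an involution in the stabiliser
  haveI : Fact (Nat.Prime 2) := ⟨Nat.prime_two⟩
  obtain ⟨t, ht⟩ := exists_prime_orderOf_dvd_card' (G := MulAction.stabilizer G a) 2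
    (heven a).two_dvd
  obtain ⟨τ, hτ⟩ : ∃ τ : G, τ = (t : G) := ⟨_, rfl⟩
  have hta : τ • a = a := by rw [hτ]; exact t.2
  have ht2 : τ * τ = 1 := by
    have := pow_orderOf_eq_one t
    rw [ht, pow_two] at this
    rw [hτ]
    exact_mod_cast congrArg Subtype.val this
  have ht1 : τ ≠ 1 := by
    intro h
    have : t = 1 := Subtype.ext (by rw [← hτ, h]; rfl)
    rw [this, orderOf_one] at ht
    omega
  clear hτ ht t
  have hz : ∃ z : Ω, τ • z ≠ z := by
    by_contra hcon
    push Not at hcon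
    apply ht1
    apply FaithfulSMul.eq_of_smul_eq_smul (α := Ω)
    intro z
    rw [hcon z, one_smul]
  obtain ⟨z, hz⟩ := hz
  obtain ⟨z', hz'⟩ : ∃ z', z' = τ • z := ⟨_, rfl⟩
  have htz' : τ • z' = z := by rw [hz', ← mul_smul, ht2, one_smul]
  have hza : z ≠ a := by
    rintro rfl
    exact hz hta
  have hz'a : z' ≠ a := by
    rw [hz']
    intro h
    apply hza
    have h' : τ • z = τ • a := by rw [h, hta]
    exact MulAction.injective _ h'
  have hzz' : z ≠ z' := by rw [hz']; exact fun h => hz h.symm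
  -- the pairs
  have key : ∀ (u v : Ω) (huv : u ≠ v), (∃ g : G, g • a = a ∧ g • mkPair z z' hzz' = mkPair u v huv) →
      ∃ g : G, g • a = a ∧ g • z = u ∧ g • z' = v := by
    rintro u v huv ⟨g, hga, hg⟩
    rw [smul_mkPair] at hg
    rcases mkPair_eq_iff _ _ _ _ _ _ hg with ⟨h1, h2⟩ | ⟨h1, h2⟩
    · exact ⟨g, hga, h1, h2⟩
    · refine ⟨g * τ, ?_, ?_, ?_⟩
      · rw [mul_smul, hta, hga]
      · rw [mul_smul, ← hz', h2]
      · rw [mul_smul, htz', h1]
  have memPair : ∀ (u v : Ω) (huv : u ≠ v), u ≠ a → v ≠ a →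
      a ∉ ((mkPair u v huv : ↥(Set.powersetCard Ω 2)) : Finset Ω) := by
    intro u v huv hu hv
    change a ∉ ({u, v} : Finset Ω)
    simp only [Finset.mem_insert, Finset.mem_singleton, not_or]
    exact ⟨fun h => hu h.symm, fun h => hv h.symm⟩
  by_cases H1 : ∃ g : G, g • a = a ∧ g • mkPair z z' hzz' = mkPair b c hbc
  · by_cases H2 : ∃ g : G, g • a = a ∧ g • mkPair z z' hzz' = mkPair (y 1) (y 2) hy12
    · exfalso
      obtain ⟨g₁, hg₁a, hg₁z, hg₁z'⟩ := key _ _ _ H1
      obtain ⟨g₂, hg₂a, hg₂z, hg₂z'⟩ := key _ _ _ H2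
      apply hno (g₂ * g₁⁻¹)
      · rw [mul_smul, inv_smul_eq_iff.mpr hg₁a.symm, hg₂a]
      · rw [mul_smul, inv_smul_eq_iff.mpr hg₁z.symm, hg₂z]
      · rw [mul_smul, inv_smul_eq_iff.mpr hg₁z'.symm, hg₂z']
    · push Not at H2
      exact ⟨a, mkPair z z' hzz', mkPair (y 1) (y 2) hy12, memPair _ _ _ hza hz'a,
        memPair _ _ _ hda hea, H2⟩
  · push Not at H1
    exact ⟨a, mkPair z z' hzz', mkPair b c hbc, memPair _ _ _ hza hz'a,
      memPair _ _ _ hba hca, H1⟩

end data

/-- incidence kernel -/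
def F1 (K : Type*) [Field K] {Ω : Type*} [DecidableEq Ω] (x : Ω) (s : ↥(Set.powersetCard Ω 2)) : K :=
  if x ∈ (s : Finset Ω) then 1 else 0

open scoped Classical in
/-- orbital kernel -/
noncomputable def F2 (G : Type*) [Group G] (K : Type*) [Field K] {Ω : Type*} [DecidableEq Ω]
    [MulAction G Ω] (a : Ω) (s₁ : ↥(Set.powersetCard Ω 2)) (x : Ω)
    (s : ↥(Set.powersetCard Ω 2)) : K :=
  if (∃ g : G, g • a = x ∧ g • s₁ = s) then 1 else 0


/-- Let a finite group act faithfully and doubly transitively with point stabilisers of even order, and let `K` have characteristic `p` dividing the degree. If the heart of the permutation module admits no non-zero equivariant map to the permutation module on unordered pairs (phrased: every intertwining map from the sum-zero functions vanishing on the constants is zero), the action is triply transitive. -/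
theorem result {G : Type*} [Group G] [Finite G] {K : Type*} [Field K] {p : ℕ} [Fact p.Prime] [CharP K p] {Ω : Type*} [Fintype Ω] [DecidableEq Ω] [MulAction G Ω] [FaithfulSMul G Ω] (h2 : MulAction.IsMultiplyPretransitive G Ω 2) (hp : p ∣ Fintype.card Ω) (heven : ∀ a : Ω, Even (Nat.card (MulAction.stabilizer G a))) (h : ∀ f : Representation.IntertwiningMap (Cfsg.permSumZero K G Ω).toRepresentation (Cfsg.permRep K G (Set.powersetCard Ω 2)), (∀ v : (Cfsg.permSumZero K G Ω).toSubmodule, (v : Ω → K) ∈ (Cfsg.permConstants K G Ω).toSubmodule → f v = 0) → f = 0) : MulAction.IsMultiplyPretransitive G Ω 3 := by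
  classical
  by_contra h3
  obtain ⟨a, s₁, s₂, has₁, has₂, hno⟩ := exists_data h2 heven h3
  haveI : MulAction.IsPretransitive G ↥(Set.powersetCard Ω 2) :=
    Set.powersetCard.isPretransitive_of_isMultiplyPretransitive G h2
  -- the incidence kernel
  obtain ⟨F₁, hF₁⟩ : ∃ F₁ : Ω → ↥(Set.powersetCard Ω 2) → K, F₁ = F1 K := ⟨_, rfl⟩
  have hF₁inv : ∀ (g : G) x s, F₁ (g • x) (g • s) = F₁ x s := by
    intro g x s
    rw [hF₁]
    unfold F1
    simp only [Set.powersetCard.coe_smul, Finset.smul_mem_smul_finset_iff]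
  have hF₁row : ∀ s, ∑ x, F₁ x s = 2 := by
    intro s
    rw [hF₁]
    unfold F1
    rw [Finset.sum_boole]
    have : (Finset.univ.filter (fun x => x ∈ (s : Finset Ω))) = (s : Finset Ω) := by
      ext x; simp
    rw [this]
    have : (s : Finset Ω).card = 2 := s.2
    rw [this]; norm_num
  by_cases h2K : (2 : K) = 0
  · -- characteristic two
    apply build F₁ hF₁inv (fun s => by rw [hF₁row, h2K]) _ h
    have hne : (s₁ : Finset Ω).Nonempty := by
      rw [← Finset.card_pos]
      have : (s₁ : Finset Ω).card = 2 := s₁.2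
      omega
    obtain ⟨z, hz⟩ := hne
    refine ⟨z, a, s₁, ?_⟩
    rw [hF₁]
    unfold F1
    simp only [if_pos hz, if_neg has₁]
    exact one_ne_zero
  · -- odd characteristic
    obtain ⟨F₂, hF₂⟩ : ∃ F₂ : Ω → ↥(Set.powersetCard Ω 2) → K, F₂ = F2 G K a s₁ := ⟨_, rfl⟩
    have hF₂inv : ∀ (g : G) x s, F₂ (g • x) (g • s) = F₂ x s := by
      intro g x s
      rw [hF₂]
      unfold F2
      have : (∃ g' : G, g' • a = g • x ∧ g' • s₁ = g • s) ↔ (∃ g' : G, g' • a = x ∧ g' • s₁ = s) := by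
        constructor
        · rintro ⟨k, hk1, hk2⟩
          refine ⟨g⁻¹ * k, ?_, ?_⟩
          · rw [mul_smul, hk1, inv_smul_smul]
          · rw [mul_smul, hk2, inv_smul_smul]
        · rintro ⟨k, hk1, hk2⟩
          exact ⟨g * k, by rw [mul_smul, hk1], by rw [mul_smul, hk2]⟩
      simp only [this]
    have hρ : ∀ (g : G) s, ∑ x, F₂ x (g • s) = ∑ x, F₂ x s := by
      intro g s
      rw [← Equiv.sum_comp (MulAction.toPerm g : Equiv.Perm Ω)]
      apply Finset.sum_congr rfl
      intro x _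
      exact hF₂inv g x s
    obtain ⟨d, hd⟩ : ∃ d : K, d = ∑ x, F₂ x s₁ := ⟨_, rfl⟩
    have hF₂row : ∀ s, ∑ x, F₂ x s = d := by
      intro s
      obtain ⟨g, rfl⟩ := MulAction.exists_smul_eq G s₁ s
      rw [hρ, hd]
    apply build (fun x s => d * F₁ x s - 2 * F₂ x s) _ _ _ h
    · intro g x s
      simp only [hF₁inv, hF₂inv]
    · intro s
      simp only [Finset.sum_sub_distrib, ← Finset.mul_sum, hF₁row, hF₂row]
      ring
    · obtain ⟨g, hg⟩ := MulAction.exists_smul_eq G s₁ s₂
      refine ⟨a, g⁻¹ • a, s₁, ?_⟩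
      have e1 : F₁ a s₁ = 0 := by rw [hF₁]; unfold F1; simp only [if_neg has₁]
      have e2 : F₂ a s₁ = 1 := by
        rw [hF₂]; unfold F2
        rw [if_pos ⟨1, one_smul _ _, one_smul _ _⟩]
      have e3 : F₁ (g⁻¹ • a) s₁ = 0 := by
        rw [← hF₁inv g, smul_inv_smul, hg, hF₁]; unfold F1; simp only [if_neg has₂]
      have e4 : F₂ (g⁻¹ • a) s₁ = 0 := by
        rw [← hF₂inv g, smul_inv_smul, hg, hF₂]; unfold F2
        rw [if_neg]
        rintro ⟨k, hk1, hk2⟩
        exact hno k hk1 hk2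
      simp only [e1, e2, e3, e4, mul_zero, mul_one, zero_sub, sub_zero]
      exact neg_ne_zero.mpr h2K

end Cfsg.Agent.S0672
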