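import Cfsg.Statements.S0674
-- import your own Cfsg.Agent.* helpers here
import Mathlib
import Cfsg.Agent.Lib_helper4_Burnside

set_option autoImplicit false
open Cfsg

namespace Cfsg.Agent.S0674

open Cfsg.Agent.helper4


/-- Let `G` be a non-solvable transitive permutation group of prime degree `p` and `K` a field of characteristic `p`. Then the heart of the permutation module is irreducible: an invariant subspace containing the constants and contained in the sum-zero functions is one or the other. -/
theorem result {α : Type*} [Fintype α] [DecidableEq α] {p : ℕ} [Fact p.Prime] (hα : Fintype.card α = p) (G : Subgroup (Equiv.Perm α)) [MulAction.IsPretransitive G α] (hG : ¬ Group.IsSolvable G) {K : Type*} [Field K] [CharP K p] (W : Subrepresentation (Cfsg.permRep K G α)) (h₁ : (Cfsg.permConstants K G α).toSubmodule ≤ W.toSubmodule) (h₂ : W.toSubmodule ≤ (Cfsg.permSumZero K G α).toSubmodule) : W = Cfsg.permConstants K G α ∨ W = Cfsg.permSumZero K G α := by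
  have hW : ∀ g ∈ G, ∀ f ∈ W.toSubmodule, (fun x => f (g x)) ∈ W.toSubmodule := by
    intro g hg f hf
    have := W.apply_mem_toSubmodule (⟨g, hg⟩⁻¹ : G) hf
    convert this using 1
    funext x
    change f (g x) = f ((⟨g, hg⟩⁻¹ : G)⁻¹ • x)
    rw [inv_inv]; rfl
  have hone : (fun _ : α => (1 : K)) ∈ W.toSubmodule :=
    h₁ (Submodule.subset_span (Set.mem_singleton _))
  have hsum : ∀ f ∈ W.toSubmodule, ∑ x, f x = 0 := fun f hf => h₂ hf
  rcases heart_dichotomy hα G W.toSubmodule hW hone hsum with h | h | h
  · exact absurd h hG
  · left
    apply Subrepresentation.toSubmodule_injective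
    apply le_antisymm _ h₁
    intro f hf
    obtain ⟨c, rfl⟩ := h f hf
    change _ ∈ Submodule.span K {fun _ => (1 : K)}
    rw [Submodule.mem_span_singleton]
    exact ⟨c, by funext x; simp⟩
  · right
    apply Subrepresentation.toSubmodule_injective
    apply le_antisymm h₂
    intro f hf
    exact h f hf

end Cfsg.Agent.S0674
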