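import Cfsg.Statements.S0675
-- import your own Cfsg.Agent.* helpers here
import Mathlib
import Cfsg.Agent.Lib_helper4_Burnside2

set_option autoImplicit false
open Cfsg

namespace Cfsg.Agent.S0675

open Cfsg.Agent.helper4

theorem perm3 (σ : Equiv.Perm (ZMod 3)) : σ ∈ Cfsg.affineGroup (ZMod 3) := by
  have h1 : σ 0 + σ 1 + σ 2 = 0 := by
    have := Equiv.sum_comp σ (fun x : ZMod 3 => x)
    have h3 : ∀ f : ZMod 3 → ZMod 3, ∑ x, f x = f 0 + f 1 + f 2 := fun f => Fin.sum_univ_three f
    rw [h3, h3] at this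
    rw [this]; decide
  have hne : σ 1 - σ 0 ≠ 0 := by
    intro hcon
    have := σ.injective (sub_eq_zero.mp hcon)
    exact absurd this (by decide)
  refine ⟨Units.mk0 _ hne, σ 0, fun x => ?_⟩
  rw [Units.val_mk0]
  have h2 : σ 2 = - σ 0 - σ 1 := by linear_combination h1
  have h3 : (3 : ZMod 3) = 0 := by decide
  fin_cases x
  · change σ 0 = (σ 1 - σ 0) * 0 + σ 0
    ring
  · change σ 1 = (σ 1 - σ 0) * 1 + σ 0
    ring
  · change σ 2 = (σ 1 - σ 0) * 2 + σ 0
    rw [h2]
    linear_combination (-σ 1) * h3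

theorem perm_affine_of_three {p : ℕ} (hp3 : p = 3) (σ : Equiv.Perm (ZMod p)) :
    σ ∈ Cfsg.affineGroup (ZMod p) := by
  subst hp3
  exact perm3 σ


/-- Burnside's Theorem on permutation groups of prime degree: a transitive permutation group of prime degree that is not solvable is doubly transitive. -/
theorem result {α : Type*} [Fintype α] [DecidableEq α] (hα : (Fintype.card α).Prime) (G : Subgroup (Equiv.Perm α)) [MulAction.IsPretransitive G α] : Group.IsSolvable G ∨ MulAction.IsMultiplyPretransitive G α 2 := by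
  obtain ⟨p, hp⟩ : ∃ p, p = Fintype.card α := ⟨_, rfl⟩
  rw [← hp] at hα
  haveI : Fact p.Prime := ⟨hα⟩
  by_cases hp2 : p = 2
  · left
    haveI : Fact (Nat.Prime 2) := ⟨Nat.prime_two⟩
    have h1 : IsPGroup 2 (Equiv.Perm α) := by
      apply IsPGroup.of_card (n := 1)
      rw [Nat.card_eq_fintype_card, Fintype.card_perm, ← hp, hp2]; rfl
    have h2 : IsPGroup 2 G := h1.to_subgroup G
    haveI := h2.isNilpotent
    infer_instance
  obtain ⟨e, t, ht, het⟩ := exists_equiv_zmod hp.symm G
  by_cases hp3 : p = 3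
  · left
    apply isSolvable_of_imgGroup e G
    apply isSolvable_of_le_affine
    intro σ _
    exact perm_affine_of_three hp3 σ
  have hp5 : 5 ≤ p := by
    have := hα.two_le
    by_contra hcon
    have h4 : p = 4 := by omega
    rw [h4] at hα
    exact absurd hα (by decide)
  by_cases h2 : TwoTrans (imgGroup e G)
  · right
    rw [MulAction.is_two_pretransitive_iff]
    intro a b c d hab hcd
    obtain ⟨h, hh, hac, hbd⟩ := h2 (e a) (e b) (e c) (e d) (e.injective.ne hab) (e.injective.ne hcd)
    obtain ⟨g, hg, hj⟩ := (mem_imgGroup e G h).mp hh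
    refine ⟨⟨g, hg⟩, ?_, ?_⟩
    · apply e.injective
      rw [← hac, hj, Equiv.symm_apply_apply]; rfl
    · apply e.injective
      rw [← hbd, hj, Equiv.symm_apply_apply]; rfl
  · left
    apply isSolvable_of_imgGroup e G
    apply isSolvable_of_le_affine
    exact le_affine_of_not_twoTrans (shift_mem_imgGroup e G t ht het) h2 hp5

end Cfsg.Agent.S0675
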