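import Cfsg.Statements.S0677
-- import your own Cfsg.Agent.* helpers here
import Mathlib
import Cfsg.Agent.Lib_helper4_PrimeDeg
import Cfsg.Agent.S0675

set_option autoImplicit false
open Cfsg

set_option linter.style.haveILetI false
namespace Cfsg.Agent.S0677

open Cfsg.Agent.helper4 Cfsg.Agent.helper4.PrimeDeg

section ident
variable {p : ℕ} [Fact p.Prime]

theorem exists_equiv_zmod_of_order {α : Type*} [Fintype α] [DecidableEq α]
    (hα : Fintype.card α = p) (t : Equiv.Perm α) (ht' : orderOf t = p) :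
    ∃ (e : α ≃ ZMod p), ∀ x, e (t x) = e x + 1 := by
  classical
  have hp : p.Prime := Fact.out
  haveI : Fact (1 < p) := ⟨hp.one_lt⟩
  haveI : NeZero p := ⟨hp.ne_zero⟩
  haveI : Nonempty α := by
    rw [← Fintype.card_pos_iff, hα]; exact hp.pos
  obtain ⟨x₀⟩ := ‹Nonempty α›
  have hcyc : t.IsCycle :=
    Equiv.Perm.isCycle_of_prime_order'' (by rw [hα]; exact hp) (by rw [ht', hα])
  have hsupp : t.support = Finset.univ := by
    apply Finset.eq_univ_of_card
    rw [← hcyc.orderOf, ht', hα]
  have hmoved : ∀ x : α, t x ≠ x := by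
    intro x
    rw [← Equiv.Perm.mem_support, hsupp]; exact Finset.mem_univ x
  let φ : ZMod p → α := fun j => (t ^ j.val) x₀
  have hsurj : Function.Surjective φ := by
    intro y
    obtain ⟨i, hi⟩ := hcyc.exists_pow_eq (hmoved x₀) (hmoved y)
    refine ⟨(i : ZMod p), ?_⟩
    change (t ^ ((i : ZMod p)).val) x₀ = y
    rw [ZMod.val_natCast, ← hi]
    conv_lhs => rw [← ht', pow_mod_orderOf]
  have hbij : Function.Bijective φ :=
    (Fintype.bijective_iff_surjective_and_card φ).mpr ⟨hsurj, by rw [ZMod.card, hα]⟩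
  refine ⟨(Equiv.ofBijective φ hbij).symm, fun x => ?_⟩
  obtain ⟨j, rfl⟩ := hsurj x
  rw [Equiv.symm_apply_eq]
  have h1 : (Equiv.ofBijective φ hbij).symm (φ j) = j := by
    rw [Equiv.symm_apply_eq]; rfl
  rw [h1]
  change t ((t ^ j.val) x₀) = (t ^ (j + 1).val) x₀
  rw [← Equiv.Perm.mul_apply, ← pow_succ']
  congr 1
  rw [pow_eq_pow_iff_modEq, ht', ZMod.val_add, ZMod.val_one]
  exact (Nat.mod_modEq _ _).symm

/-- an involution of `ZMod p` (p odd) with `û (j+1) = û j + k` is `j ↦ c - j` -/
theorem invol_form (hp2 : p ≠ 2) (û : Equiv.Perm (ZMod p)) (k : ZMod p)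
    (hk : ∀ j, û (j + 1) = û j + k) (hsq : ∀ j, û (û j) = j) (hne : ∃ j, û j ≠ j) :
    ∃ c : ZMod p, ∀ j, û j = c - j := by
  have hp : p.Prime := Fact.out
  haveI : NeZero p := ⟨hp.ne_zero⟩
  have h2ne : (2 : ZMod p) ≠ 0 := by
    intro h
    have h' : ((2 : ℕ) : ZMod p) = 0 := by exact_mod_cast h
    rw [ZMod.natCast_eq_zero_iff] at h'
    exact hp2 ((Nat.prime_dvd_prime_iff_eq hp Nat.prime_two).mp h')
  have hnat : ∀ m : ℕ, û (m : ZMod p) = û 0 + k * m := by
    intro m
    induction m with
    | zero => simp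
    | succ m ih =>
      push_cast
      rw [hk, ih]; ring
  have hform : ∀ j : ZMod p, û j = û 0 + k * j := by
    intro j
    have := hnat j.val
    rwa [ZMod.natCast_zmod_val] at this
  have h0 := hsq 0
  have h1 := hsq 1
  rw [hform (û 0)] at h0
  rw [hform (û 1), hform 1] at h1
  have hk2 : (k - 1) * (k + 1) = 0 := by linear_combination h1 - h0
  rcases mul_eq_zero.mp hk2 with hk1 | hk1
  · exfalso
    have hk1' : k = 1 := by linear_combination hk1
    rw [hk1'] at h0
    have hc : (2 : ZMod p) * û 0 = 0 := by linear_combination h0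
    have hc0 : û 0 = 0 := (mul_eq_zero.mp hc).resolve_left h2ne
    obtain ⟨j, hj⟩ := hne
    apply hj
    rw [hform j, hc0, hk1']; ring
  · refine ⟨û 0, fun j => ?_⟩
    have hk1' : k = -1 := by linear_combination hk1
    rw [hform j, hk1']; ring

end ident

theorem perm2 (σ : Equiv.Perm (ZMod 2)) : σ ∈ Cfsg.affineGroup (ZMod 2) := by
  refine ⟨1, σ 0, fun x => ?_⟩
  have hne : σ 1 ≠ σ 0 := fun h => absurd (σ.injective h) (by decide)
  have key : ∀ a b : ZMod 2, b ≠ a → b = 1 + a := by decide
  fin_cases x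
  · change σ 0 = ((1 : (ZMod 2)ˣ) : ZMod 2) * 0 + σ 0
    simp
  · change σ 1 = ((1 : (ZMod 2)ˣ) : ZMod 2) * 1 + σ 0
    rw [Units.val_one, mul_one]
    exact key _ _ hne

theorem perm_affine_of_two {p : ℕ} (hp2 : p = 2) (σ : Equiv.Perm (ZMod p)) :
    σ ∈ Cfsg.affineGroup (ZMod p) := by
  subst hp2
  exact perm2 σ


/-- In a transitive permutation group of prime degree `p` whose Sylow `p`-normaliser has even order, the point stabilisers are the only subgroups of index `p`. -/
theorem result {α : Type*} [Fintype α] [DecidableEq α] {p : ℕ} [Fact p.Prime] (hα : Fintype.card α = p) (G : Subgroup (Equiv.Perm α)) [MulAction.IsPretransitive G α] (P : Sylow p G) (heven : Even (Nat.card (Subgroup.normalizer ((P : Subgroup G) : Set G)))) (H : Subgroup G) (hH : H.index = p) : ∃ a : α, H = MulAction.stabilizer G a := by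
  classical
  have hp : p.Prime := Fact.out
  haveI : NeZero p := ⟨hp.ne_zero⟩
  have hGH : Nat.card G = p * Nat.card H := by
    have := H.card_mul_index
    rw [hH] at this
    rw [← this, mul_comm]
  have hGdvd : Nat.card G ∣ p.factorial := by
    have := Subgroup.card_subgroup_dvd_card G
    rwa [Nat.card_eq_fintype_card (α := Equiv.Perm α), Fintype.card_perm, hα] at this
  have hcop : ¬ p ∣ Nat.card H := by
    intro hdvd
    obtain ⟨m, hm⟩ := hdvd
    have h1 : p * p ∣ p.factorial := by
      refine dvd_trans ?_ hGdvd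
      rw [hGH, hm]
      exact ⟨m, by ring⟩
    have h2 : p.factorial = p * (p - 1).factorial := by
      obtain ⟨q, rfl⟩ : ∃ q, p = q + 1 := ⟨p - 1, by have := hp.pos; omega⟩
      rw [Nat.factorial_succ]; simp
    rw [h2] at h1
    have h3 : p ∣ (p - 1).factorial := Nat.dvd_of_mul_dvd_mul_left hp.pos h1
    have h4 := (hp.dvd_factorial).mp h3
    have := hp.pos
    omega
  have hPcard : Nat.card (P : Subgroup G) = p := by
    obtain ⟨k, hk⟩ := IsPGroup.iff_card.mp P.isPGroup'
    have hdvdP : Nat.card (P : Subgroup G) ∣ Nat.card G := Subgroup.card_subgroup_dvd_card _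
    have hpG : p ∣ Nat.card G := ⟨_, hGH⟩
    have hpP : p ∣ Nat.card (P : Subgroup G) := P.dvd_card_of_dvd_card hpG
    rw [hk] at hdvdP hpP ⊢
    have hk1 : k ≠ 0 := by
      rintro rfl
      rw [pow_zero] at hpP
      exact hp.one_lt.ne' (Nat.dvd_one.mp hpP)
    have hk2 : k < 2 := by
      by_contra hcon
      have h5 : p ^ 2 ∣ p ^ k := pow_dvd_pow p (by omega)
      have h4 := h5.trans hdvdP
      rw [hGH, pow_two] at h4
      exact hcop (Nat.dvd_of_mul_dvd_mul_left hp.pos h4)
    have : k = 1 := by omega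
    rw [this, pow_one]
  obtain ⟨t, htP, ht1⟩ : ∃ t : G, t ∈ (P : Subgroup G) ∧ t ≠ 1 := by
    by_contra hcon
    push Not at hcon
    have : (P : Subgroup G) = ⊥ := (Subgroup.eq_bot_iff_forall _).mpr hcon
    rw [this, Subgroup.card_bot] at hPcard
    exact hp.one_lt.ne hPcard
  have hto : orderOf t = p := by
    have h1 : orderOf t ∣ p := by rw [← hPcard]; exact Subgroup.orderOf_dvd_natCard _ htP
    rcases (Nat.dvd_prime hp).mp h1 with h | h
    · exact absurd (orderOf_eq_one_iff.mp h) ht1
    · exact h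
  have hPz : (P : Subgroup G) = Subgroup.zpowers t := by
    symm
    apply Subgroup.eq_of_le_of_card_ge (Subgroup.zpowers_le.mpr htP)
    rw [Nat.card_zpowers, hto, hPcard]
  have hto' : orderOf (t : Equiv.Perm α) = p := by rw [Subgroup.orderOf_coe]; exact hto
  obtain ⟨e, het⟩ := exists_equiv_zmod_of_order hα (t : Equiv.Perm α) hto'
  have hesymm : ∀ j : ZMod p, e.symm (j + 1) = (t : Equiv.Perm α) (e.symm j) := by
    intro j
    rw [Equiv.symm_apply_eq, het, Equiv.apply_symm_apply]
  obtain ⟨f, hfdef⟩ : ∃ f : G →* Equiv.Perm (ZMod p), f =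
      (e.permCongrHom : Equiv.Perm α ≃* Equiv.Perm (ZMod p)).toMonoidHom.comp G.subtype := ⟨_, rfl⟩
  have hf : Function.Injective f := by
    rw [hfdef]
    exact (e.permCongrHom : Equiv.Perm α ≃* Equiv.Perm (ZMod p)).injective.comp
      G.subtype_injective
  have hfapply : ∀ (g : G) (j : ZMod p), f g j = e ((g : Equiv.Perm α) (e.symm j)) := by
    intro g j; rw [hfdef]; rfl
  have hcardΓ : Nat.card ((⊤ : Subgroup G).map f) = p * Nat.card (H.map f) := by
    rw [Subgroup.card_map_of_injective hf, Subgroup.card_map_of_injective hf, Subgroup.card_top, hGH]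
  have hcopH : ¬ p ∣ Nat.card (H.map f) := by
    rw [Subgroup.card_map_of_injective hf]; exact hcop
  have hHΓ : H.map f ≤ (⊤ : Subgroup G).map f := Subgroup.map_mono le_top
  have hsΓ : ∃ s ∈ (⊤ : Subgroup G).map f, ∀ j, s j = j + 1 := by
    refine ⟨f t, Subgroup.mem_map_of_mem f (Subgroup.mem_top t), fun j => ?_⟩
    rw [hfapply, het, Equiv.apply_symm_apply]
  have hfix : ∃ j₀, ∀ h ∈ H.map f, h j₀ = j₀ := by
    by_cases hp2 : p = 2
    · exact fixed_of_affine _ (fun σ _ => perm_affine_of_two hp2 σ) hcopH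
    by_cases hp3 : p = 3
    · exact fixed_of_affine _ (fun σ _ => Cfsg.Agent.S0675.perm_affine_of_three hp3 σ) hcopH
    have hp5 : 5 ≤ p := by
      have := hp.two_le
      by_contra hcon
      have h4 : p = 4 := by omega
      rw [h4] at hp
      exact absurd hp (by decide)
    by_cases h2 : TwoTrans ((⊤ : Subgroup G).map f)
    · -- the involution
      haveI : Fact (Nat.Prime 2) := ⟨Nat.prime_two⟩
      obtain ⟨u, hu2⟩ := exists_prime_orderOf_dvd_card' 2 heven.two_dvd
      have hconj : (u : G) * t * (u : G)⁻¹ ∈ (P : Subgroup G) :=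
        (Subgroup.mem_normalizer_iff.mp u.2 t).mp htP
      have hconj2 : (u : G) * t * (u : G)⁻¹ ∈ Subgroup.zpowers t := hPz ▸ hconj
      rw [← mem_powers_iff_mem_zpowers, Submonoid.mem_powers_iff] at hconj2
      obtain ⟨n, hn⟩ := hconj2
      have hrel : ∀ x : α, ((u : G) : Equiv.Perm α) ((t : Equiv.Perm α) x) =
          ((t : Equiv.Perm α) ^ n) (((u : G) : Equiv.Perm α) x) := by
        intro x
        have h1 : t ^ n * (u : G) = (u : G) * t := by rw [hn]; group
        have h2 := congrArg (fun g : G => (g : Equiv.Perm α) x) h1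
        simp only [Subgroup.coe_mul, Subgroup.coe_pow, Equiv.Perm.mul_apply] at h2
        exact h2.symm
      have hpow : ∀ (m : ℕ) (y : α), e (((t : Equiv.Perm α) ^ m) y) = e y + m := by
        intro m
        induction m with
        | zero => intro y; simp
        | succ m ih =>
          intro y
          rw [pow_succ', Equiv.Perm.mul_apply, het, ih]
          push_cast; ring
      have hk : ∀ j, f (u : G) (j + 1) = f (u : G) j + (n : ZMod p) := by
        intro j
        rw [hfapply, hfapply, hesymm, hrel, hpow]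
      have hu1 : (u : G) ^ 2 = 1 := by
        have : u ^ 2 = 1 := by rw [← hu2]; exact pow_orderOf_eq_one u
        exact_mod_cast congrArg Subtype.val this
      have hsq : ∀ j, f (u : G) (f (u : G) j) = j := by
        intro j
        rw [← Equiv.Perm.mul_apply, ← map_mul, ← pow_two, hu1, map_one]
        rfl
      have hune : (u : G) ≠ 1 := by
        intro h
        have : u = 1 := Subtype.ext h
        rw [this, orderOf_one] at hu2
        exact absurd hu2 (by norm_num)
      have hne : ∃ j, f (u : G) j ≠ j := by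
        by_contra hcon
        push Not at hcon
        apply hune
        apply hf
        rw [map_one]
        exact Equiv.ext hcon
      obtain ⟨c, hc⟩ := invol_form hp2 (f (u : G)) (n : ZMod p) hk hsq hne
      exact fixed_of_twoTrans hp2 _ _ hHΓ hsΓ
        ⟨f (u : G), Subgroup.mem_map_of_mem f (Subgroup.mem_top _), c, hc⟩ h2 hcardΓ hcopH
    · have haff := le_affine_of_not_twoTrans hsΓ h2 hp5
      exact fixed_of_affine _ (hHΓ.trans haff) hcopH
  obtain ⟨j₀, hj₀⟩ := hfix
  refine ⟨e.symm j₀, ?_⟩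
  have hle : H ≤ MulAction.stabilizer G (e.symm j₀) := by
    intro h hh
    rw [MulAction.mem_stabilizer_iff]
    have := hj₀ (f h) (Subgroup.mem_map_of_mem f hh)
    rw [hfapply] at this
    show (h : Equiv.Perm α) (e.symm j₀) = e.symm j₀
    apply e.injective
    rw [this, Equiv.apply_symm_apply]
  apply le_antisymm hle
  have h1 := Subgroup.relIndex_mul_index hle
  rw [hH, MulAction.index_stabilizer_of_transitive G (e.symm j₀), Nat.card_eq_fintype_card, hα]
    at h1
  have h2 : H.relIndex (MulAction.stabilizer G (e.symm j₀)) = 1 :=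
    Nat.eq_of_mul_eq_mul_right hp.pos (by rw [h1, one_mul])
  exact Subgroup.relIndex_eq_one.mp h2

end Cfsg.Agent.S0677
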