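import Mathlib
import Cfsg.Statements.S0678
import Cfsg.Agent.Lib_helper20_D7C

set_option autoImplicit false
set_option linter.style.haveILetI false
set_option maxRecDepth 100000

open Cfsg

namespace Cfsg.Agent.S0678

open Cfsg.Agent.helper20.D7 Equiv MulAction

theorem result {α : Type*} [Fintype α] [DecidableEq α] (hα : Fintype.card α = 7) (G : Subgroup (Equiv.Perm α)) [MulAction.IsPretransitive G α] (hG : ¬ Group.IsSolvable G) (hA : ¬ alternatingGroup α ≤ G) : Nat.card G = 168 ∧ IsSimpleGroup G := by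
  haveI := fact7
  have hne : Nonempty α := Fintype.card_pos_iff.mp (by omega)
  obtain ⟨a₀'⟩ := hne
  have h7 : 7 ∣ Nat.card G := by
    have := MulAction.index_stabilizer_of_transitive (G := G) (X := α) (x := a₀')
    rw [Nat.card_eq_fintype_card, hα] at this
    rw [← this]
    exact Subgroup.index_dvd_card _
  obtain ⟨g₀, hg₀⟩ := exists_prime_orderOf_dvd_card' 7 h7
  obtain ⟨σ, hσG, hσ⟩ : ∃ σ : Perm α, σ ∈ G ∧ σ = (g₀ : Perm α) := ⟨_, g₀.2, rfl⟩
  have hoσ : orderOf σ = 7 := by rw [hσ, Subgroup.orderOf_coe]; exact hg₀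
  have hσ1 : σ ≠ 1 := by
    intro h
    rw [h, orderOf_one] at hoσ
    omega
  obtain ⟨a₀, ha₀⟩ : ∃ a, σ a ≠ a := by
    by_contra hno
    push Not at hno
    exact hσ1 (Perm.ext hno)
  have key : ∀ n : ℕ, (σ ^ n) a₀ = a₀ → 7 ∣ n := by
    intro n hn
    by_contra hnd
    have hcop : Nat.Coprime n 7 :=
      (Nat.Coprime.symm ((Nat.Prime.coprime_iff_not_dvd (by norm_num)).mpr hnd))
    obtain ⟨m, -, hm⟩ := Nat.exists_mul_mod_eq_one_of_coprime hcop (by norm_num)
    have e : (σ ^ n) ^ m = σ := by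
      rw [← pow_mul, ← pow_mod_orderOf, hoσ, hm, pow_one]
    apply ha₀
    have := Perm.pow_apply_eq_self_of_apply_eq_self hn m
    rwa [e] at this
  have inj : ∀ i j : ℕ, i ≤ j → j < 7 → (σ ^ i) a₀ = (σ ^ j) a₀ → i = j := by
    intro i j hij hj h
    have e : σ ^ j = σ ^ i * σ ^ (j - i) := by
      rw [← pow_add, Nat.add_sub_cancel' hij]
    rw [e, Perm.mul_apply] at h
    have h2 := (σ ^ i).injective h
    have h3 := key _ h2.symm
    have : j - i = 0 := Nat.eq_zero_of_dvd_of_lt h3 (by omega)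
    omega
  have hinj : Function.Injective (fun i : Z7 => (σ ^ i.val) a₀) := by
    intro i j h
    have hi := ZMod.val_lt i
    have hj := ZMod.val_lt j
    apply ZMod.val_injective
    rcases le_total i.val j.val with hle | hle
    · exact inj _ _ hle hj h
    · exact (inj _ _ hle hi h.symm).symm
  have hbij : Function.Bijective (fun i : Z7 => (σ ^ i.val) a₀) :=
    (Fintype.bijective_iff_injective_and_card _).mpr ⟨hinj, by rw [ZMod.card, hα]⟩
  let E : Z7 ≃ α := Equiv.ofBijective _ hbij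
  have hE : ∀ x : Z7, σ (E x) = E (x + 1) := by
    intro x
    show σ ((σ ^ x.val) a₀) = (σ ^ (x + 1).val) a₀
    have h1 : (x + 1).val = (x.val + 1) % 7 := by
      rw [ZMod.val_add]
      rfl
    have h2 : σ ^ ((x.val + 1) % 7) = σ ^ (x.val + 1) := by
      have := pow_mod_orderOf σ (x.val + 1)
      rwa [hoσ] at this
    rw [h1, h2, pow_succ', Perm.mul_apply]
  let Φ : Perm α ≃* Perm Z7 := E.symm.permCongrHom
  have hΦ : ∀ (p : Perm α) (x : Z7), Φ p x = E.symm (p (E x)) := by
    intro p x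
    rfl
  have hΦσ : Φ σ = trc 1 := by
    ext x : 1
    rw [hΦ, hE, Equiv.symm_apply_apply]
    rfl
  have hT : trc 1 ∈ G.map Φ.toMonoidHom := ⟨σ, hσG, hΦσ⟩
  let eG : G ≃* G.map Φ.toMonoidHom := G.equivMapOfInjective Φ.toMonoidHom Φ.injective
  have hns : ¬ Group.IsSolvable (G.map Φ.toMonoidHom) := by
    intro h
    exact hG (Group.isSolvable_of_isSolvable_injective (f := eG.toMonoidHom) eG.injective)
  have hA' : ¬ alternatingGroup Z7 ≤ G.map Φ.toMonoidHom := by
    intro h
    apply hA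
    intro τ hτ
    rw [Equiv.Perm.mem_alternatingGroup] at hτ
    have h1 : Φ τ ∈ alternatingGroup Z7 := by
      rw [Equiv.Perm.mem_alternatingGroup]
      show Equiv.Perm.sign (E.symm.permCongr τ) = 1
      rw [Equiv.Perm.sign_permCongr, hτ]
    obtain ⟨ρ, hρ, hρτ⟩ := h h1
    have : ρ = τ := Φ.injective hρτ
    rwa [← this]
  obtain ⟨hc, hs⟩ := main (G.map Φ.toMonoidHom) hT hns hA'
  refine ⟨?_, ?_⟩
  · rw [Nat.card_congr eG.toEquiv, hc]
  · haveI := hs
    exact eG.isSimpleGroup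

end Cfsg.Agent.S0678
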