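import Cfsg.Statements.S0680
import Cfsg.Agent.Lib_helper18_Sharp2

set_option autoImplicit false
open Cfsg

namespace Cfsg.Agent.S0680

open Cfsg.Agent.helper18 MulAction

/-- A finite sharply doubly transitive permutation group has degree a prime power `p ^ j`; a Sylow `p`-subgroup is normal, elementary abelian and regular, and consists of the identity together with the elements without fixed points. (Frobenius' Theorem is not needed.) -/
theorem result {α : Type*} [Fintype α] [DecidableEq α] (G : Subgroup (Equiv.Perm α)) [MulAction.IsMultiplyPretransitive G α 2] (hsharp : ∀ x : Fin 2 ↪ α, MulAction.stabilizer G x = ⊥) (h2 : 2 ≤ Fintype.card α) : ∃ p j : ℕ, p.Prime ∧ 1 ≤ j ∧ Fintype.card α = p ^ j ∧ ∀ (hp : Fact p.Prime) (P : Sylow p G), (P : Subgroup G).Normal ∧ IsMulCommutative (P : Subgroup G) ∧ (∀ x ∈ (P : Subgroup G), x ^ p = 1) ∧ MulAction.IsPretransitive (P : Subgroup G) α ∧ (∀ a : α, MulAction.stabilizer (P : Subgroup G) a = ⊥) ∧ ∀ g : G, g ∈ (P : Subgroup G) ↔ g = 1 ∨ ∀ a : α, g • a ≠ a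 := by
  classical
  have hsh : ∀ g : G, ∀ a b : α, a ≠ b → g • a = a → g • b = b → g = 1 := by
    intro g a b hab ha hb
    let x : Fin 2 ↪ α := ⟨![a, b], by
      intro i j hij
      fin_cases i <;> fin_cases j <;> simp_all⟩
    have hg : g ∈ stabilizer G x := by
      rw [mem_stabilizer_iff]
      ext i
      fin_cases i
      · exact ha
      · exact hb
    rw [hsharp x, Subgroup.mem_bot] at hg
    exact hg
  have htrans : IsPretransitive G α := by
    rw [← is_one_pretransitive_iff]
    exact isMultiplyPretransitive_of_le (n := 2) (by norm_num)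
      (by rw [Nat.card_eq_fintype_card]; exact h2)
  have hcard : Nat.card G = Fintype.card α * (Fintype.card α - 1) := by
    have hne : Nonempty (Fin 2 ↪ α) := by
      rw [Function.Embedding.nonempty_iff_card_le, Fintype.card_fin]
      exact h2
    obtain ⟨x0⟩ := hne
    have h2t : IsMultiplyPretransitive G α 2 := inferInstance
    have h2t' : IsPretransitive G (Fin 2 ↪ α) := h2t
    have h1 := @MulAction.index_stabilizer_of_transitive G (Fin 2 ↪ α) _ _ x0 h2t'
    rw [hsharp x0, Subgroup.index_bot] at h1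
    rw [h1, Nat.card_eq_fintype_card, Fintype.card_embedding_eq, Fintype.card_fin]
    simp [Nat.descFactorial, Nat.mul_comm]
  obtain ⟨p, j, K, hp, hj, hpj, hKn, hmem, hcomm, hexp, hKcard⟩ :=
    sharp_two_trans_structure (Γ := G) (α := α) htrans hsh h2 hcard
  refine ⟨p, j, hp, hj, hpj, fun hpf P => ?_⟩
  have hKpg : IsPGroup p K := by
    intro g
    refine ⟨1, ?_⟩
    apply Subtype.ext
    have := hexp g g.2
    simpa using this
  have := hKn
  have hKP : K ≤ P := IsPGroup.le_sylow_of_normal hKpg P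
  obtain ⟨m, hm⟩ := IsPGroup.iff_card.mp P.isPGroup'
  have hdvd : Nat.card (P : Subgroup G) ∣ Nat.card G := Subgroup.card_subgroup_dvd_card _
  have hnd : ¬ p ∣ Fintype.card α - 1 := by
    intro h
    have h1 : p ∣ Fintype.card α := by
      rw [hpj]
      exact dvd_pow_self p (by omega)
    have h3 : p ∣ Fintype.card α - (Fintype.card α - 1) := Nat.dvd_sub h1 h
    have h4 : Fintype.card α - (Fintype.card α - 1) = 1 := by omega
    rw [h4] at h3
    exact hp.one_lt.ne' (Nat.dvd_one.mp h3)
  have hcop : Nat.Coprime (p ^ m) (Fintype.card α - 1) :=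
    Nat.Coprime.pow_left m ((Nat.Prime.coprime_iff_not_dvd hp).mpr hnd)
  have hPle : Nat.card (P : Subgroup G) ≤ Nat.card K := by
    rw [hKcard]
    apply Nat.le_of_dvd (by omega)
    have h5 : p ^ m ∣ Fintype.card α * (Fintype.card α - 1) := by
      rw [← hcard]
      have h6 : Nat.card (P : Subgroup G) = p ^ m := hm
      rw [← h6]
      exact hdvd
    have h6 : Nat.card (P : Subgroup G) = p ^ m := hm
    rw [h6]
    exact hcop.dvd_of_dvd_mul_right h5
  have hPK : (P : Subgroup G) = K := (Subgroup.eq_of_le_of_card_ge hKP hPle).symm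
  rw [hPK]
  obtain ⟨a0⟩ : Nonempty α := Fintype.card_pos_iff.mp (by omega)
  have hsemi : ∀ k : G, k ∈ K → ∀ a : α, k • a = a → k = 1 := by
    intro k hk a ha
    rcases (hmem k).mp hk with h | h
    · exact h
    · exact absurd ha (h a)
  refine ⟨hKn, ⟨⟨fun a b => Subtype.ext (hcomm a a.2 b b.2)⟩⟩, hexp, ?_, ?_, hmem⟩
  · have hinj : Function.Injective (fun k : K => (k : G) • a0) := by
      intro k1 k2 h12
      have h12' : (k1 : G) • a0 = (k2 : G) • a0 := h12
      have h3 : ((k2 : G)⁻¹ * (k1 : G)) = 1 := by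
        apply hsemi _ (K.mul_mem (K.inv_mem k2.2) k1.2) a0
        rw [mul_smul, h12', inv_smul_smul]
      apply Subtype.ext
      calc (k1 : G) = (k2 : G) * ((k2 : G)⁻¹ * (k1 : G)) := by group
        _ = k2 := by rw [h3, mul_one]
    have hbij : Function.Bijective (fun k : K => (k : G) • a0) :=
      hinj.bijective_of_nat_card_le (by rw [hKcard, Nat.card_eq_fintype_card])
    refine ⟨fun a b => ?_⟩
    obtain ⟨k1, hk1⟩ := hbij.2 a
    obtain ⟨k2, hk2⟩ := hbij.2 b
    refine ⟨k2 * k1⁻¹, ?_⟩
    have hk1' : (k1 : G) • a0 = a := hk1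
    have hk2' : (k2 : G) • a0 = b := hk2
    show ((k2 * k1⁻¹ : K) : G) • a = b
    rw [Subgroup.coe_mul, Subgroup.coe_inv, mul_smul, ← hk1', inv_smul_smul, hk2']
  · intro a
    rw [eq_bot_iff]
    intro k hk
    rw [Subgroup.mem_bot]
    have hk' : (k : G) • a = a := mem_stabilizer_iff.mp hk
    exact Subtype.ext (hsemi k k.2 a hk')

end Cfsg.Agent.S0680
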