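import Cfsg.Statements.S0681
-- import your own Cfsg.Agent.* helpers here
import Mathlib

set_option autoImplicit false
open Cfsg

namespace Cfsg.Agent.S0681

section nf
variable {F : Type*} [Cfsg.NearField F]

theorem nf_zero_mul (c : F) : (0 : F) * c = 0 := by
  have h := Cfsg.NearField.right_distrib (0 : F) 0 c
  rw [add_zero] at h
  exact left_eq_add.mp h

theorem nf_neg_mul (a c : F) : (-a) * c = -(a * c) := by
  have h := Cfsg.NearField.right_distrib (-a) a c
  rw [neg_add_cancel, nf_zero_mul] at h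
  exact eq_neg_of_add_eq_zero_left h.symm

theorem nf_sub_mul (a b c : F) : (a - b) * c = a * c - b * c := by
  rw [sub_eq_add_neg, Cfsg.NearField.right_distrib, nf_neg_mul, ← sub_eq_add_neg]

theorem nf_add_mul (a b c : F) : (a + b) * c = a * c + b * c := Cfsg.NearField.right_distrib a b c

theorem nf_mul_zero (a : F) : a * 0 = 0 := Cfsg.NearField.mul_zero a

theorem nf_one_ne_zero : (1 : F) ≠ 0 := fun h => Cfsg.NearField.zero_ne_one h.symm

/-- a chosen inverse -/
noncomputable def nfInv (a : F) : F := by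
  classical
  exact if h : a ≠ 0 then (Cfsg.NearField.exists_inv a h).choose else 0

theorem nf_mul_inv {a : F} (h : a ≠ 0) : a * nfInv a = 1 := by
  unfold nfInv
  rw [dif_pos h]
  exact (Cfsg.NearField.exists_inv a h).choose_spec.1

theorem nf_inv_mul {a : F} (h : a ≠ 0) : nfInv a * a = 1 := by
  unfold nfInv
  rw [dif_pos h]
  exact (Cfsg.NearField.exists_inv a h).choose_spec.2

theorem nf_inv_ne_zero {a : F} (h : a ≠ 0) : nfInv a ≠ 0 := by
  intro h0
  have := nf_mul_inv h
  rw [h0, nf_mul_zero] at this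
  exact Cfsg.NearField.zero_ne_one this

theorem nf_mul_ne_zero {a c : F} (ha : a ≠ 0) (hc : c ≠ 0) : a * c ≠ 0 := by
  intro h
  apply ha
  have : a * c * nfInv c = a := by rw [mul_assoc, nf_mul_inv hc, mul_one]
  rw [← this, h, nf_zero_mul]

/-- the affine group of the near-field -/
def affH (F : Type*) [Cfsg.NearField F] : Subgroup (Equiv.Perm F) where
  carrier := {σ | ∃ a b : F, a ≠ 0 ∧ ∀ x : F, σ x = x * a + b}
  one_mem' := ⟨1, 0, nf_one_ne_zero, fun x => by simp⟩
  mul_mem' := by
    rintro σ τ ⟨a, b, ha, hσ⟩ ⟨c, d, hc, hτ⟩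
    refine ⟨c * a, d * a + b, nf_mul_ne_zero hc ha, fun x => ?_⟩
    rw [Equiv.Perm.mul_apply, hτ, hσ, nf_add_mul, mul_assoc, add_assoc]
  inv_mem' := by
    rintro σ ⟨a, b, ha, hσ⟩
    refine ⟨nfInv a, -(b * nfInv a), nf_inv_ne_zero ha, fun x => ?_⟩
    apply σ.injective
    rw [Equiv.Perm.inv_def, Equiv.apply_symm_apply, hσ, nf_add_mul, nf_neg_mul, mul_assoc, mul_assoc, nf_inv_mul ha,
      mul_one, mul_one, neg_add_cancel_right]

theorem mem_affH (σ : Equiv.Perm F) : σ ∈ affH F ↔ ∃ a b : F, a ≠ 0 ∧ ∀ x : F, σ x = x * a + b :=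
  Iff.rfl

/-- the affine permutation `x ↦ x * a + b` -/
noncomputable def affPerm (a b : F) (ha : a ≠ 0) : Equiv.Perm F where
  toFun x := x * a + b
  invFun y := (y - b) * nfInv a
  left_inv x := by
    change (x * a + b - b) * nfInv a = x
    rw [add_sub_cancel_right, mul_assoc, nf_mul_inv ha, mul_one]
  right_inv y := by
    change (y - b) * nfInv a * a + b = y
    rw [mul_assoc, nf_inv_mul ha, mul_one, sub_add_cancel]

theorem affPerm_apply (a b : F) (ha : a ≠ 0) (x : F) : affPerm a b ha x = x * a + b := rfl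

theorem affPerm_mem (a b : F) (ha : a ≠ 0) : affPerm a b ha ∈ affH F :=
  ⟨a, b, ha, fun _ => rfl⟩

end nf


/-- The affine maps `x ↦ x * a + b`, `a ≠ 0`, of a near-field form a sharply doubly transitive permutation group. -/
theorem result {F : Type*} [Cfsg.NearField F] : ∃ H : Subgroup (Equiv.Perm F), (∀ σ : Equiv.Perm F, σ ∈ H ↔ ∃ a b : F, a ≠ 0 ∧ ∀ x : F, σ x = x * a + b) ∧ MulAction.IsMultiplyPretransitive H F 2 ∧ ∀ x : Fin 2 ↪ F, MulAction.stabilizer H x = ⊥ := by
  refine ⟨affH F, mem_affH, ?_, ?_⟩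
  · refine ⟨fun x y => ?_⟩
    have hx : x 0 - x 1 ≠ 0 := by
      intro h
      have := x.injective (sub_eq_zero.mp h)
      exact absurd this (by decide)
    have hy : y 0 - y 1 ≠ 0 := by
      intro h
      have := y.injective (sub_eq_zero.mp h)
      exact absurd this (by decide)
    set a : F := nfInv (x 0 - x 1) * (y 0 - y 1) with ha_def
    have ha : a ≠ 0 := nf_mul_ne_zero (nf_inv_ne_zero hx) hy
    have hda : (x 0 - x 1) * a = y 0 - y 1 := by
      rw [ha_def, ← mul_assoc, nf_mul_inv hx, one_mul]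
    set b : F := -(x 0 * a) + y 0 with hb_def
    refine ⟨⟨affPerm a b ha, affPerm_mem a b ha⟩, ?_⟩
    ext i
    rw [Function.Embedding.smul_apply]
    change affPerm a b ha (x i) = y i
    rw [affPerm_apply]
    have h0 : x 0 * a + b = y 0 := by
      rw [hb_def, ← add_assoc, add_neg_cancel, zero_add]
    have h1 : x 1 * a + b = y 1 := by
      have e1 : x 1 * a = -(y 0 - y 1) + x 0 * a := by
        rw [← hda, nf_sub_mul, neg_sub, sub_add_cancel]
      rw [e1, hb_def, add_assoc, ← add_assoc (x 0 * a), add_neg_cancel, zero_add, neg_sub,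
        sub_add_cancel]
    fin_cases i
    · exact h0
    · exact h1
  · intro x
    rw [Subgroup.eq_bot_iff_forall]
    rintro ⟨σ, a, b, ha, hσ⟩ hg
    rw [MulAction.mem_stabilizer_iff] at hg
    have hx : x 0 - x 1 ≠ 0 := by
      intro h
      have := x.injective (sub_eq_zero.mp h)
      exact absurd this (by decide)
    have e0 : x 0 * a + b = x 0 := by
      have := DFunLike.congr_fun hg 0
      rw [← hσ]; exact this
    have e1 : x 1 * a + b = x 1 := by
      have := DFunLike.congr_fun hg 1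
      rw [← hσ]; exact this
    have hd : (x 0 - x 1) * a = x 0 - x 1 := by
      rw [nf_sub_mul]
      conv_rhs => rw [← e0, ← e1]
      rw [add_sub_add_right_eq_sub]
    have ha1 : a = 1 := by
      have : nfInv (x 0 - x 1) * ((x 0 - x 1) * a) = nfInv (x 0 - x 1) * (x 0 - x 1) := by rw [hd]
      rw [← mul_assoc, nf_inv_mul hx, one_mul] at this
      exact this
    have hb0 : b = 0 := by
      rw [ha1, mul_one] at e0
      exact left_eq_add.mp e0.symm
    apply Subtype.ext
    apply Equiv.ext
    intro z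
    change σ z = z
    rw [hσ, ha1, hb0, mul_one, add_zero]

end Cfsg.Agent.S0681
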