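import Cfsg.Statements.S0682
-- import your own Cfsg.Agent.* helpers here
import Cfsg.Agent.S0681
import Mathlib

set_option autoImplicit false
open Cfsg

namespace Cfsg.Agent.S0682

open Cfsg.Agent.S0681

theorem nf_nsmul_mul {F : Type*} [Cfsg.NearField F] (n : ℕ) (x c : F) : (n • x) * c = n • (x * c) := by
  induction n with
  | zero => rw [zero_nsmul, zero_nsmul, nf_zero_mul]
  | succ n ih => rw [succ_nsmul, succ_nsmul, nf_add_mul, ih]


/-- A finite near-field has prime-power order; its additive group is commutative of prime exponent. -/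
theorem result {F : Type*} [Cfsg.NearField F] [Finite F] : ∃ p j : ℕ, p.Prime ∧ 1 ≤ j ∧ Nat.card F = p ^ j ∧ (∀ x y : F, x + y = y + x) ∧ ∀ x : F, p • x = 0 := by
  classical
  have hnt : Nontrivial F := ⟨⟨0, 1, Cfsg.NearField.zero_ne_one⟩⟩
  have hcard2 : 1 < Nat.card F := Finite.one_lt_card
  set p := (Nat.card F).minFac with hp_def
  have hp : p.Prime := Nat.minFac_prime (by omega)
  have hpF : Fact p.Prime := ⟨hp⟩
  have hdvd : p ∣ Nat.card F := Nat.minFac_dvd _
  obtain ⟨x, hx⟩ := exists_prime_addOrderOf_dvd_card' p hdvd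
  have hx0 : x ≠ 0 := by
    intro h
    rw [h, addOrderOf_zero] at hx
    exact hp.one_lt.ne hx
  have hpx : p • x = 0 := by rw [← hx]; exact addOrderOf_nsmul_eq_zero x
  have hexp : ∀ y : F, p • y = 0 := by
    intro y
    have : y = x * (nfInv x * y) := by rw [← mul_assoc, nf_mul_inv hx0, one_mul]
    rw [this, ← nf_nsmul_mul, hpx, nf_zero_mul]
  have hPG : IsPGroup p (Multiplicative F) := by
    intro g
    refine ⟨1, ?_⟩
    rw [pow_one]
    exact congrArg Multiplicative.ofAdd (hexp (Multiplicative.toAdd g))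
  obtain ⟨j, hj⟩ := IsPGroup.iff_card.mp hPG
  have hj' : Nat.card F = p ^ j := hj
  have hj1 : 1 ≤ j := by
    rcases Nat.eq_zero_or_pos j with h | h
    · rw [h, pow_zero] at hj'; omega
    · exact h
  -- commutativity
  have hntM : Nontrivial (Multiplicative F) := hnt
  have hcen := hPG.center_nontrivial
  obtain ⟨⟨z, hz⟩, hz1⟩ := exists_ne (1 : Subgroup.center (Multiplicative F))
  have hz0 : Multiplicative.toAdd z ≠ 0 := by
    intro h
    apply hz1
    apply Subtype.ext
    exact h
  have hzc : ∀ w : F, w + Multiplicative.toAdd z = Multiplicative.toAdd z + w := by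
    intro w
    have := (Subgroup.mem_center_iff.mp hz) (Multiplicative.ofAdd w)
    exact this
  set z' : F := Multiplicative.toAdd z with hz'
  have hcomm0 : ∀ y : F, y ≠ 0 → ∀ w : F, w + y = y + w := by
    intro y hy w
    set c := nfInv z' * y with hc
    have hc0 : c ≠ 0 := nf_mul_ne_zero (nf_inv_ne_zero hz0) hy
    have hy' : y = z' * c := by rw [hc, ← mul_assoc, nf_mul_inv hz0, one_mul]
    have hw' : w = (w * nfInv c) * c := by rw [mul_assoc, nf_inv_mul hc0, mul_one]
    rw [hy']
    conv_lhs => rw [hw']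
    conv_rhs => rw [hw']
    rw [← nf_add_mul, ← nf_add_mul, hzc]
  refine ⟨p, j, hp, hj1, hj', ?_, hexp⟩
  intro a b
  by_cases hb : b = 0
  · rw [hb, add_zero, zero_add]
  · exact hcomm0 b hb a

end Cfsg.Agent.S0682
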