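import Cfsg.Statements.S0683
import Cfsg.Agent.Lib_helper18_Sharp2

set_option autoImplicit false
open Cfsg

namespace Cfsg.Agent.S0683

open Cfsg.Agent.helper18 MulAction Equiv

section mk
variable {α : Type*} [DecidableEq α] (o e : α) (τ μ : α → Perm α)

/-- additive group from translations -/
def mkAddGroup (T1 : ∀ a, τ a o = a) (T2 : ∀ b c, τ (τ c b) = τ c * τ b) (T3 : τ o = 1) :
    AddGroup α :=
  letI : Add α := ⟨fun x b => τ b x⟩
  letI : Zero α := ⟨o⟩
  letI : Neg α := ⟨fun a => (τ a)⁻¹ o⟩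
  AddGroup.ofLeftAxioms
    (by
      intro a b c
      show τ c (τ b a) = τ (τ c b) a
      rw [T2]
      rfl)
    (by
      intro b
      exact T1 b)
    (by
      intro a
      show τ a ((τ a)⁻¹ o) = o
      simp)

/-- multiplicative monoid from multiplications -/
def mkMonoid (hoe : o ≠ e) (M1 : ∀ a, a ≠ o → μ a o = o ∧ μ a e = a)
    (M2 : ∀ a b, a ≠ o → b ≠ o → μ (μ b a) = μ b * μ a) (M3 : μ e = 1) : Monoid α :=
  { mul := fun x a => if a = o then o else μ a x
    one := e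
    mul_assoc := by
      intro x a b
      show (if b = o then o else μ b (if a = o then o else μ a x)) =
        (if (if b = o then o else μ b a) = o then o else μ (if b = o then o else μ b a) x)
      by_cases hb : b = o
      · simp [hb]
      · by_cases ha : a = o
        · simp [hb, ha, (M1 b hb).1]
        · have hba : μ b a ≠ o := by
            intro h
            apply ha
            apply (μ b).injective
            rw [h, (M1 b hb).1]
          simp only [if_neg hb, if_neg ha, if_neg hba]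
          rw [M2 a b ha hb]
          rfl
    one_mul := by
      intro a
      show (if a = o then o else μ a e) = a
      by_cases ha : a = o
      · simp [ha]
      · rw [if_neg ha]
        exact (M1 a ha).2
    mul_one := by
      intro x
      show (if e = o then o else μ e x) = x
      rw [if_neg (Ne.symm hoe), M3]
      rfl }

/-- abstract construction of a near-field from translations and multiplications -/
def mkNearField (hoe : o ≠ e)
    (T1 : ∀ a, τ a o = a) (T2 : ∀ b c, τ (τ c b) = τ c * τ b) (T3 : τ o = 1)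
    (M1 : ∀ a, a ≠ o → μ a o = o ∧ μ a e = a)
    (M2 : ∀ a b, a ≠ o → b ≠ o → μ (μ b a) = μ b * μ a) (M3 : μ e = 1)
    (D : ∀ b c, c ≠ o → μ c * τ b = τ (μ c b) * μ c)
    (I : ∀ a, a ≠ o → μ ((μ a)⁻¹ e) = (μ a)⁻¹) : Cfsg.NearField α :=
  { toAddGroup := mkAddGroup o τ T1 T2 T3
    toMonoid := mkMonoid o e μ hoe M1 M2 M3
    right_distrib := by
      intro a b c
      show (if c = o then o else μ c (τ b a)) =
        τ (if c = o then o else μ c b) (if c = o then o else μ c a)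
      by_cases hc : c = o
      · simp only [if_pos hc]
        rw [T1]
      · simp only [if_neg hc]
        have := congrArg (fun f : Perm α => f a) (D b c hc)
        simpa using this
    mul_zero := by
      intro a
      show (if o = o then o else μ o a) = o
      simp
    zero_ne_one := hoe
    exists_inv := by
      intro a ha
      have ha' : a ≠ o := ha
      have hb : (μ a)⁻¹ e ≠ o := by
        intro h
        apply hoe
        have h1 : e = μ a o := by
          rw [← h]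
          simp
        rw [h1, (M1 a ha').1]
      refine ⟨(μ a)⁻¹ e, ?_, ?_⟩
      · show (if (μ a)⁻¹ e = o then o else μ ((μ a)⁻¹ e) a) = e
        rw [if_neg hb, I a ha']
        rw [Perm.inv_eq_iff_eq]
        exact ((M1 a ha').2).symm
      · show (if a = o then o else μ a ((μ a)⁻¹ e)) = e
        rw [if_neg ha']
        simp }

end mk

/-- A finite sharply doubly transitive permutation group is the affine group of a near-field: the permuted set carries a near-field structure for which the group consists exactly of the maps `x ↦ x * a + b` with `a ≠ 0`. -/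
theorem result {α : Type*} [Fintype α] [DecidableEq α] (H : Subgroup (Equiv.Perm α)) [MulAction.IsMultiplyPretransitive H α 2] (hsharp : ∀ x : Fin 2 ↪ α, MulAction.stabilizer H x = ⊥) (h2 : 2 ≤ Fintype.card α) : ∃ _ : Cfsg.NearField α, ∀ σ : Equiv.Perm α, σ ∈ H ↔ ∃ a b : α, a ≠ 0 ∧ ∀ x : α, σ x = x * a + b := by
  classical
  -- basic facts, as in S0680
  have hsh : ∀ g : H, ∀ a b : α, a ≠ b → g • a = a → g • b = b → g = 1 := by
    intro g a b hab ha hb
    let x : Fin 2 ↪ α := ⟨![a, b], by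
      intro i j hij
      fin_cases i <;> fin_cases j <;> simp_all⟩
    have hg : g ∈ stabilizer H x := by
      rw [mem_stabilizer_iff]
      ext i
      fin_cases i
      · exact ha
      · exact hb
    rw [hsharp x, Subgroup.mem_bot] at hg
    exact hg
  have htrans : IsPretransitive H α := by
    rw [← is_one_pretransitive_iff]
    exact isMultiplyPretransitive_of_le (n := 2) (by norm_num)
      (by rw [Nat.card_eq_fintype_card]; exact h2)
  have h2t : IsMultiplyPretransitive H α 2 := inferInstance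
  have h2t' : IsPretransitive H (Fin 2 ↪ α) := h2t
  have hcard : Nat.card H = Fintype.card α * (Fintype.card α - 1) := by
    have hne : Nonempty (Fin 2 ↪ α) := by
      rw [Function.Embedding.nonempty_iff_card_le, Fintype.card_fin]
      exact h2
    obtain ⟨x0⟩ := hne
    have h1 := @MulAction.index_stabilizer_of_transitive H (Fin 2 ↪ α) _ _ x0 h2t'
    rw [hsharp x0, Subgroup.index_bot] at h1
    rw [h1, Nat.card_eq_fintype_card, Fintype.card_embedding_eq, Fintype.card_fin]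
    simp [Nat.descFactorial, Nat.mul_comm]
  obtain ⟨p, j, K, -, -, -, hKn, hmem, -, -, hKcard⟩ :=
    sharp_two_trans_structure (Γ := H) (α := α) htrans hsh h2 hcard
  -- facts in terms of permutations
  have F1 : ∀ σ ρ : Perm α, σ ∈ H → ρ ∈ H → ∀ a b : α, a ≠ b → σ a = ρ a → σ b = ρ b →
      σ = ρ := by
    intro σ ρ hσ hρ a b hab ha hb
    have h1 := hsh (⟨ρ, hρ⟩⁻¹ * ⟨σ, hσ⟩) a b hab
      (by
        show (ρ⁻¹ * σ) a = a
        rw [Perm.mul_apply, ha]
        simp)
      (by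
        show (ρ⁻¹ * σ) b = b
        rw [Perm.mul_apply, hb]
        simp)
    have h3 : ρ⁻¹ * σ = 1 := congrArg (Subtype.val : H → Perm α) h1
    calc σ = ρ * (ρ⁻¹ * σ) := by group
      _ = ρ := by rw [h3, mul_one]
  have F2 : ∀ a b c d : α, a ≠ b → c ≠ d → ∃ σ ∈ H, σ a = c ∧ σ b = d := by
    intro a b c d hab hcd
    let x : Fin 2 ↪ α := ⟨![a, b], by
      intro i j hij
      fin_cases i <;> fin_cases j <;> simp_all⟩
    let y : Fin 2 ↪ α := ⟨![c, d], by
      intro i j hij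
      fin_cases i <;> fin_cases j <;> simp_all⟩
    obtain ⟨g, hg⟩ := h2t'.exists_smul_eq x y
    refine ⟨g, g.2, ?_, ?_⟩
    · have := congrArg (fun z : Fin 2 ↪ α => z 0) hg
      exact this
    · have := congrArg (fun z : Fin 2 ↪ α => z 1) hg
      exact this
  obtain ⟨o, e, hoe⟩ : ∃ o e : α, o ≠ e := by
    have : 1 < Fintype.card α := by omega
    exact Fintype.exists_pair_of_one_lt_card this
  -- the regular normal subgroup, as a predicate on permutations
  have hKone : ∀ σ : Perm α, (∃ h : σ ∈ H, (⟨σ, h⟩ : H) ∈ K) → ∀ a : α, σ a = a → σ = 1 := by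
    rintro σ ⟨hσ, hσK⟩ a ha
    rcases (hmem _).mp hσK with h | h
    · exact congrArg (Subtype.val : H → Perm α) h
    · exact absurd ha (h a)
  have hKmul : ∀ σ ρ : Perm α, (∃ h : σ ∈ H, (⟨σ, h⟩ : H) ∈ K) →
      (∃ h : ρ ∈ H, (⟨ρ, h⟩ : H) ∈ K) → ∃ h : σ * ρ ∈ H, (⟨σ * ρ, h⟩ : H) ∈ K := by
    rintro σ ρ ⟨hσ, hσK⟩ ⟨hρ, hρK⟩
    exact ⟨H.mul_mem hσ hρ, K.mul_mem hσK hρK⟩
  have hKinv : ∀ σ : Perm α, (∃ h : σ ∈ H, (⟨σ, h⟩ : H) ∈ K) →
      ∃ h : σ⁻¹ ∈ H, (⟨σ⁻¹, h⟩ : H) ∈ K := by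
    rintro σ ⟨hσ, hσK⟩
    exact ⟨H.inv_mem hσ, K.inv_mem hσK⟩
  have hKconj : ∀ σ ρ : Perm α, ρ ∈ H → (∃ h : σ ∈ H, (⟨σ, h⟩ : H) ∈ K) →
      ∃ h : ρ * σ * ρ⁻¹ ∈ H, (⟨ρ * σ * ρ⁻¹, h⟩ : H) ∈ K := by
    rintro σ ρ hρ ⟨hσ, hσK⟩
    exact ⟨H.mul_mem (H.mul_mem hρ hσ) (H.inv_mem hρ), hKn.conj_mem _ hσK ⟨ρ, hρ⟩⟩
  have hKuniq : ∀ σ ρ : Perm α, (∃ h : σ ∈ H, (⟨σ, h⟩ : H) ∈ K) →
      (∃ h : ρ ∈ H, (⟨ρ, h⟩ : H) ∈ K) → ∀ a : α, σ a = ρ a → σ = ρ := by
    intro σ ρ hσ hρ a ha
    have h1 := hKone _ (hKmul _ _ (hKinv _ hρ) hσ) a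
      (by
        rw [Perm.mul_apply, ha]
        simp)
    calc σ = ρ * (ρ⁻¹ * σ) := by group
      _ = ρ := by rw [h1, mul_one]
  have hKtrans : ∀ a : α, ∃ σ : Perm α, (∃ h : σ ∈ H, (⟨σ, h⟩ : H) ∈ K) ∧ σ o = a := by
    have hinj : Function.Injective (fun k : K => ((k : H) : Perm α) o) := by
      intro k1 k2 h12
      have h3 := hKuniq ((k1 : H) : Perm α) ((k2 : H) : Perm α) ⟨(k1 : H).2, k1.2⟩
        ⟨(k2 : H).2, k2.2⟩ o h12
      exact Subtype.ext (Subtype.ext h3)
    have hbij : Function.Bijective (fun k : K => ((k : H) : Perm α) o) :=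
      hinj.bijective_of_nat_card_le (by rw [hKcard, Nat.card_eq_fintype_card])
    intro a
    obtain ⟨k, hk⟩ := hbij.2 a
    exact ⟨((k : H) : Perm α), ⟨(k : H).2, k.2⟩, hk⟩
  -- translations and multiplications
  choose τ hτK hτo using hKtrans
  have hμex : ∀ a : α, ∃ σ : Perm α, σ ∈ H ∧ (a ≠ o → σ o = o ∧ σ e = a) := by
    intro a
    by_cases ha : a = o
    · exact ⟨1, H.one_mem, fun h => absurd ha h⟩
    · obtain ⟨σ, hσ, h1, h3⟩ := F2 o e o a hoe (Ne.symm ha)
      exact ⟨σ, hσ, fun _ => ⟨h1, h3⟩⟩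
  choose μ hμH hμ using hμex
  have T1 : ∀ a, τ a o = a := hτo
  have T2 : ∀ b c, τ (τ c b) = τ c * τ b := by
    intro b c
    apply hKuniq _ _ (hτK _) (hKmul _ _ (hτK c) (hτK b)) o
    rw [T1, Perm.mul_apply, T1]
  have T3 : τ o = 1 := hKone _ (hτK o) o (T1 o)
  have M1 : ∀ a, a ≠ o → μ a o = o ∧ μ a e = a := hμ
  have M2 : ∀ a b, a ≠ o → b ≠ o → μ (μ b a) = μ b * μ a := by
    intro a b ha hb
    have hba : μ b a ≠ o := by
      intro h
      apply ha
      apply (μ b).injective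
      rw [h, (M1 b hb).1]
    apply F1 _ _ (hμH _) (H.mul_mem (hμH b) (hμH a)) o e hoe
    · rw [(M1 _ hba).1, Perm.mul_apply, (M1 a ha).1, (M1 b hb).1]
    · rw [(M1 _ hba).2, Perm.mul_apply, (M1 a ha).2]
  have M3 : μ e = 1 := by
    apply F1 _ _ (hμH e) H.one_mem o e hoe
    · rw [(M1 e (Ne.symm hoe)).1]
      rfl
    · rw [(M1 e (Ne.symm hoe)).2]
      rfl
  have D : ∀ b c, c ≠ o → μ c * τ b = τ (μ c b) * μ c := by
    intro b c hc
    have h1 : μ c * τ b * (μ c)⁻¹ = τ (μ c b) := by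
      apply hKuniq _ _ (hKconj _ _ (hμH c) (hτK b)) (hτK _) o
      have h3 : (μ c)⁻¹ o = o := by
        rw [Perm.inv_eq_iff_eq, (M1 c hc).1]
      rw [Perm.mul_apply, Perm.mul_apply, h3, T1, T1]
    rw [← h1]
    group
  have I : ∀ a, a ≠ o → μ ((μ a)⁻¹ e) = (μ a)⁻¹ := by
    intro a ha
    have h3 : (μ a)⁻¹ o = o := by
      rw [Perm.inv_eq_iff_eq, (M1 a ha).1]
    have hb : (μ a)⁻¹ e ≠ o := by
      intro h
      apply hoe
      have h' : (μ a)⁻¹ e = (μ a)⁻¹ o := h.trans h3.symm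
      exact ((μ a)⁻¹.injective h').symm
    apply F1 _ _ (hμH _) (H.inv_mem (hμH a)) o e hoe
    · rw [(M1 _ hb).1, h3]
    · rw [(M1 _ hb).2]
  refine ⟨mkNearField o e τ μ hoe T1 T2 T3 M1 M2 M3 D I, ?_⟩
  intro σ
  show σ ∈ H ↔ ∃ a b : α, a ≠ o ∧ ∀ x : α, σ x = τ b (if a = o then o else μ a x)
  constructor
  · intro hσ
    have hρH : (τ (σ o))⁻¹ * σ ∈ H := H.mul_mem (H.inv_mem (hτK _).1) hσ
    have hρo : ((τ (σ o))⁻¹ * σ) o = o := by
      rw [Perm.mul_apply, Perm.inv_eq_iff_eq, T1]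
    have hρe : ((τ (σ o))⁻¹ * σ) e ≠ o := by
      intro h
      have h' : ((τ (σ o))⁻¹ * σ) e = ((τ (σ o))⁻¹ * σ) o := h.trans hρo.symm
      exact hoe (((τ (σ o))⁻¹ * σ).injective h').symm
    refine ⟨((τ (σ o))⁻¹ * σ) e, σ o, hρe, fun x => ?_⟩
    rw [if_neg hρe]
    have h5 : μ (((τ (σ o))⁻¹ * σ) e) = (τ (σ o))⁻¹ * σ := by
      apply F1 _ _ (hμH _) hρH o e hoe
      · rw [(M1 _ hρe).1, hρo]
      · rw [(M1 _ hρe).2]
    rw [h5, Perm.mul_apply]
    simp
  · rintro ⟨a, b, ha, hσ⟩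
    have h5 : σ = τ b * μ a := by
      ext x
      rw [hσ x, if_neg ha, Perm.mul_apply]
    rw [h5]
    exact H.mul_mem (hτK b).1 (hμH a)

end Cfsg.Agent.S0683
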