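import Cfsg.Statements.S0684
-- import your own Cfsg.Agent.* helpers here
import Mathlib

set_option autoImplicit false
open Cfsg

set_option linter.style.haveILetI false
set_option linter.deprecated false
set_option linter.unusedSectionVars false
namespace Cfsg.Agent.S0684

section
variable {p : ℕ} [Fact p.Prime] {V : Type*} [AddCommGroup V] [Module (ZMod p) V] [Finite V]
variable (H : Subgroup (V ≃ₗ[ZMod p] V)) (A : Subgroup H)

/-- invariance of a submodule under `A`. -/
def Inv (W : Submodule (ZMod p) V) : Prop :=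
  ∀ a ∈ A, ∀ v ∈ W, ((a : H) : V ≃ₗ[ZMod p] V) v ∈ W

theorem finite_H : Finite H := by
  haveI : Finite (V ≃ₗ[ZMod p] V) :=
    Finite.of_injective (fun e : V ≃ₗ[ZMod p] V => (e : V → V)) DFunLike.coe_injective
  infer_instance

theorem exists_min_inv (W₀ : Submodule (ZMod p) V) (h0 : W₀ ≠ ⊥) (hinv : Inv H A W₀) :
    ∃ W : Submodule (ZMod p) V, W ≤ W₀ ∧ W ≠ ⊥ ∧ Inv H A W ∧
      ∀ W' : Submodule (ZMod p) V, W' ≤ W → Inv H A W' → W' = ⊥ ∨ W' = W := by
  let T := {W : Submodule (ZMod p) V // W ≤ W₀ ∧ W ≠ ⊥ ∧ Inv H A W}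
  haveI : Nonempty T := ⟨⟨W₀, le_rfl, h0, hinv⟩⟩
  haveI : Finite (Submodule (ZMod p) V) :=
    Finite.of_injective (fun W : Submodule (ZMod p) V => (W : Set V)) SetLike.coe_injective
  haveI : Finite T := Subtype.finite
  obtain ⟨⟨W, hW1, hW2, hW3⟩, hmin⟩ := Finite.exists_min (fun W : T => Nat.card ↥(W.1))
  refine ⟨W, hW1, hW2, hW3, fun W' hW' hinv' => ?_⟩
  by_cases h : W' = ⊥
  · exact Or.inl h
  · right
    have hc := hmin ⟨W', hW'.trans hW1, h, hinv'⟩
    simp only at hc
    have hsub : (W' : Set V) ⊆ (W : Set V) := hW'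
    have : (W' : Set V) = (W : Set V) := by
      apply Set.eq_of_subset_of_ncard_le hsub _ (Set.toFinite _)
      rw [← Nat.card_coe_set_eq, ← Nat.card_coe_set_eq]
      exact hc
    exact SetLike.coe_injective this

variable {H A}

theorem fpf (hreg : ∀ v w : V, v ≠ 0 → w ≠ 0 → ∃! h : H, (h : V ≃ₗ[ZMod p] V) v = w)
    (a : H) (v : V) (hv : v ≠ 0) (h : (a : V ≃ₗ[ZMod p] V) v = v) : a = 1 := by
  obtain ⟨h₀, _, huniq⟩ := hreg v v hv hv
  have h1 := huniq a h
  have h2 := huniq 1 (by simp)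
  rw [h1, h2]

/-- the restriction homomorphism. -/
noncomputable def rho (W : Submodule (ZMod p) V) (hinv : Inv H A W) :
    A →* Module.End (ZMod p) W where
  toFun a := (((a : H) : V ≃ₗ[ZMod p] V) : V →ₗ[ZMod p] V).restrict (hinv a a.2)
  map_one' := by
    ext w
    simp
  map_mul' a b := by
    ext w
    simp [LinearMap.restrict_apply]

theorem rho_apply (W : Submodule (ZMod p) V) (hinv : Inv H A W) (a : A) (w : W) :
    ((rho W hinv a) w : V) = ((a : H) : V ≃ₗ[ZMod p] V) w := rfl

theorem cyclic_of_min (hreg : ∀ v w : V, v ≠ 0 → w ≠ 0 → ∃! h : H, (h : V ≃ₗ[ZMod p] V) v = w)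
    (hAc : IsMulCommutative A) (W : Submodule (ZMod p) V) (hW0 : W ≠ ⊥) (hinv : Inv H A W)
    (hmin : ∀ W' : Submodule (ZMod p) V, W' ≤ W → Inv H A W' → W' = ⊥ ∨ W' = W) :
    IsCyclic A := by
  haveI : Finite H := finite_H H
  obtain ⟨w₀, hw₀W, hw₀⟩ := (Submodule.ne_bot_iff W).mp hW0
  let S : Set (Module.End (ZMod p) W) := Set.range (rho W hinv)
  have hcomm : ∀ x ∈ S, ∀ y ∈ S, x * y = y * x := by
    rintro _ ⟨a, rfl⟩ _ ⟨b, rfl⟩
    rw [← map_mul, ← map_mul, hAc.is_comm.comm a b]
  letI : CommRing (Algebra.adjoin (ZMod p) S) := Algebra.adjoinCommRingOfComm (ZMod p) hcomm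
  have key : ∀ r ∈ Algebra.adjoin (ZMod p) S, r = 0 ∨ Function.Injective r := by
    intro r hr
    have hrc : ∀ a : A, r * rho W hinv a = rho W hinv a * r := by
      intro a
      have ha : rho W hinv a ∈ Algebra.adjoin (ZMod p) S := Algebra.subset_adjoin ⟨a, rfl⟩
      have := mul_comm (⟨r, hr⟩ : Algebra.adjoin (ZMod p) S) ⟨rho W hinv a, ha⟩
      exact congrArg Subtype.val this
    have hinv' : Inv H A ((LinearMap.ker r).map W.subtype) := by
      intro a ha v hv
      obtain ⟨w, hw, rfl⟩ := Submodule.mem_map.mp hv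
      refine Submodule.mem_map.mpr ⟨rho W hinv ⟨a, ha⟩ w, ?_, rfl⟩
      rw [LinearMap.mem_ker] at hw ⊢
      have := congrArg (fun f : Module.End (ZMod p) W => f w) (hrc ⟨a, ha⟩)
      simp only [Module.End.mul_apply] at this
      rw [this, hw, map_zero]
    have hle : (LinearMap.ker r).map W.subtype ≤ W := by
      intro v hv
      obtain ⟨w, _, rfl⟩ := Submodule.mem_map.mp hv
      exact w.2
    rcases hmin _ hle hinv' with h | h
    · right
      rw [← LinearMap.ker_eq_bot, eq_bot_iff]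
      intro w hw
      have : (w : V) ∈ (LinearMap.ker r).map W.subtype := Submodule.mem_map.mpr ⟨w, hw, rfl⟩
      rw [h, Submodule.mem_bot] at this
      rw [Submodule.mem_bot]
      exact Subtype.ext this
    · left
      ext w
      have : (w : V) ∈ (LinearMap.ker r).map W.subtype := by rw [h]; exact w.2
      obtain ⟨w', hw', hww⟩ := Submodule.mem_map.mp this
      have : w' = w := Subtype.ext hww
      rw [← this, LinearMap.mem_ker.mp hw']
      simp
  haveI : Nontrivial (Algebra.adjoin (ZMod p) S) := by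
    refine ⟨⟨1, 0, fun h => ?_⟩⟩
    have h1 := congrArg Subtype.val h
    have h2 := congrArg (fun f : Module.End (ZMod p) W => f ⟨w₀, hw₀W⟩) h1
    simp only [OneMemClass.coe_one, ZeroMemClass.coe_zero, Module.End.one_apply,
      LinearMap.zero_apply] at h2
    exact hw₀ (congrArg Subtype.val h2)
  haveI : NoZeroDivisors (Algebra.adjoin (ZMod p) S) := by
    refine ⟨fun {r s} hrs => ?_⟩
    by_cases hr0 : r = 0
    · exact Or.inl hr0
    right
    have hrv : (r : Module.End (ZMod p) W) ≠ 0 := fun h => hr0 (Subtype.ext h)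
    have hinj : Function.Injective (r : Module.End (ZMod p) W) :=
      (key r.1 r.2).resolve_left hrv
    apply Subtype.ext
    ext w
    have h1 := congrArg Subtype.val hrs
    have h2 := congrArg (fun f : Module.End (ZMod p) W => f w) h1
    simp only [MulMemClass.coe_mul, Module.End.mul_apply, ZeroMemClass.coe_zero,
      LinearMap.zero_apply] at h2
    have h3 : (r : Module.End (ZMod p) W) ((s : Module.End (ZMod p) W) w)
        = (r : Module.End (ZMod p) W) 0 := by rw [h2, map_zero]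
    have := hinj h3
    simp [this]
  haveI : IsDomain (Algebra.adjoin (ZMod p) S) := NoZeroDivisors.to_isDomain _
  let f : A →* Algebra.adjoin (ZMod p) S :=
    { toFun := fun a => ⟨rho W hinv a, Algebra.subset_adjoin ⟨a, rfl⟩⟩
      map_one' := Subtype.ext (map_one _)
      map_mul' := fun a b => Subtype.ext (map_mul _ a b) }
  have hf : Function.Injective f := by
    intro a b hab
    have h1 : rho W hinv a = rho W hinv b := congrArg Subtype.val hab
    have h2 := congrArg (fun g : Module.End (ZMod p) W => ((g ⟨w₀, hw₀W⟩ : W) : V)) h1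
    simp only [rho_apply] at h2
    have h3 : (((a⁻¹ * b : A) : H) : V ≃ₗ[ZMod p] V) w₀ = w₀ := by
      simp only [Subgroup.coe_mul, Subgroup.coe_inv, LinearEquiv.mul_apply]
      rw [← h2]
      simp
    have h4 := fpf hreg _ w₀ hw₀ h3
    have h5 : a⁻¹ * b = 1 := Subtype.ext h4
    exact (inv_mul_eq_one.mp h5)
  exact isCyclic_of_subgroup_isDomain f hf


theorem card_dvd (hreg : ∀ v w : V, v ≠ 0 → w ≠ 0 → ∃! h : H, (h : V ≃ₗ[ZMod p] V) v = w)
    (W : Submodule (ZMod p) V) (hinv : Inv H A W) :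
    Nat.card A ∣ p ^ Module.finrank (ZMod p) W - 1 := by
  classical
  let X : SubMulAction A V :=
    { carrier := {v | v ∈ W ∧ v ≠ 0}
      smul_mem' := by
        rintro a v ⟨hv1, hv2⟩
        refine ⟨hinv a a.2 v hv1, fun h => hv2 ?_⟩
        have : ((a : H) : V ≃ₗ[ZMod p] V) v = 0 := h
        simpa using this }
  have hfree : ∀ x : X, MulAction.stabilizer A x = ⊥ := by
    intro x
    rw [eq_bot_iff]
    intro a ha
    rw [MulAction.mem_stabilizer_iff] at ha
    have h1 : ((a : H) : V ≃ₗ[ZMod p] V) (x : V) = (x : V) := congrArg Subtype.val ha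
    have h2 := fpf hreg _ _ x.2.2 h1
    rw [Subgroup.mem_bot]
    exact Subtype.ext h2
  have e := MulAction.selfEquivOrbitsQuotientProd (G := A) (X := X) hfree
  have hdvd : Nat.card A ∣ Nat.card X := by
    rw [Nat.card_congr e, Nat.card_prod]
    exact dvd_mul_left _ _
  have hX : Nat.card X = Nat.card W - 1 := by
    have e2 : X ≃ {w : W // w ≠ 0} :=
      { toFun := fun x => ⟨⟨x.1, x.2.1⟩, fun h => x.2.2 (congrArg Subtype.val h)⟩
        invFun := fun w => ⟨w.1.1, w.1.2, fun h => w.2 (Subtype.ext h)⟩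
        left_inv := fun x => rfl
        right_inv := fun w => rfl }
    rw [Nat.card_congr e2]
    have := Fintype.ofFinite W
    rw [Nat.card_eq_fintype_card, Nat.card_eq_fintype_card,
      Fintype.card_subtype_compl (fun w : W => w = 0), Fintype.card_subtype_eq]
  have hW : Nat.card W = p ^ Module.finrank (ZMod p) W := by
    have := Fintype.ofFinite W
    rw [Nat.card_eq_fintype_card, Module.card_eq_pow_finrank (K := ZMod p) (V := W), ZMod.card]
  rw [← hW, ← hX]
  exact hdvd

end


/-- Point stabiliser of a sharply doubly transitive group not of semilinear type: a maximal normal abelian subgroup `A` of a linear group `H` that is regular on non-zero vectors and has no irreducible cyclic normal subgroup is cyclic and reducible, and the order of `A` divides `p ^ k - 1` for `k` the dimension of a minimal `A`-invariant subspace. -/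
theorem result {p : ℕ} [Fact p.Prime] {V : Type*} [AddCommGroup V] [Module (ZMod p) V] [Finite V] (H : Subgroup (V ≃ₗ[ZMod p] V)) (hreg : ∀ v w : V, v ≠ 0 → w ≠ 0 → ∃! h : H, (h : V ≃ₗ[ZMod p] V) v = w) (hI : ∀ A : Subgroup H, A.Normal → IsCyclic A → ∃ W : Submodule (ZMod p) V, W ≠ ⊥ ∧ W ≠ ⊤ ∧ ∀ a ∈ A, ∀ v ∈ W, ((a : H) : V ≃ₗ[ZMod p] V) v ∈ W) (A : Subgroup H) (hAn : A.Normal) (hAc : IsMulCommutative A) (hAmax : ∀ B : Subgroup H, B.Normal → IsMulCommutative B → A ≤ B → B = A) : IsCyclic A ∧ ∃ W : Submodule (ZMod p) V, W ≠ ⊥ ∧ W ≠ ⊤ ∧ (∀ a ∈ A, ∀ v ∈ W, ((a : H) : V ≃ₗ[ZMod p] V) v ∈ W) ∧ (∀ W' : Submodule (ZMod p) V, W' ≤ W → (∀ a ∈ A, ∀ v ∈ W', ((a : H) : V ≃ₗ[ZMod p] V) v ∈ W') → W' = ⊥ ∨ W' = W) ∧ Nat.card A ∣ p ^ Module.finrank (ZMod p) W - 1 := by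
  have hcyc : IsCyclic A := by
    by_cases hV : (⊤ : Submodule (ZMod p) V) = ⊥
    · -- V trivial: A is trivial
      have hsub : ∀ v : V, v = 0 := by
        intro v
        have : v ∈ (⊤ : Submodule (ZMod p) V) := Submodule.mem_top
        rw [hV, Submodule.mem_bot] at this
        exact this
      haveI : Subsingleton A := by
        refine ⟨fun a b => ?_⟩
        apply Subtype.ext
        apply Subtype.ext
        ext v
        rw [hsub v]; simp
      infer_instance
    · have hinvtop : Inv H A ⊤ := fun _ _ _ _ => Submodule.mem_top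
      obtain ⟨W, -, hW0, hWinv, hWmin⟩ := exists_min_inv H A ⊤ hV hinvtop
      exact cyclic_of_min hreg hAc W hW0 hWinv hWmin
  obtain ⟨W₀, hW₀0, hW₀t, hW₀inv⟩ := hI A hAn hcyc
  obtain ⟨W, hWle, hW0, hWinv, hWmin⟩ := exists_min_inv H A W₀ hW₀0 hW₀inv
  refine ⟨hcyc, W, hW0, ?_, hWinv, hWmin, card_dvd hreg W hWinv⟩
  intro h
  apply hW₀t
  rw [eq_top_iff, ← h]
  exact hWle

end Cfsg.Agent.S0684
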