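import Cfsg.Statements.S0685
import Cfsg.Agent.Lib_helper18_S2T

set_option autoImplicit false
open Cfsg

namespace Cfsg.Agent.S0685

/-- In a linear group over the prime field that is regular on non-zero vectors and has no irreducible cyclic normal subgroup, a maximal normal abelian subgroup is properly contained in its centraliser, which is non-abelian. -/
theorem result {p : ℕ} [Fact p.Prime] {V : Type*} [AddCommGroup V] [Module (ZMod p) V] [Finite V] (H : Subgroup (V ≃ₗ[ZMod p] V)) (hreg : ∀ v w : V, v ≠ 0 → w ≠ 0 → ∃! h : H, (h : V ≃ₗ[ZMod p] V) v = w) (hI : ∀ A : Subgroup H, A.Normal → IsCyclic A → ∃ W : Submodule (ZMod p) V, W ≠ ⊥ ∧ W ≠ ⊤ ∧ ∀ a ∈ A, ∀ v ∈ W, ((a : H) : V ≃ₗ[ZMod p] V) v ∈ W) (A : Subgroup H) (hAn : A.Normal) (hAc : IsMulCommutative A) (hAmax : ∀ B : Subgroup H, B.Normal → IsMulCommutative B → A ≤ B → B = A) : A < Subgroup.centralizer (A : Set H) ∧ ¬ IsMulCommutative (Subgroup.centralizer (A : Set H)) := by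
  classical
  have hpp : p.Prime := Fact.out
  haveI := hAn
  haveI : Finite (V ≃ₗ[ZMod p] V) :=
    Finite.of_injective (fun e : V ≃ₗ[ZMod p] V => (e : V → V)) DFunLike.coe_injective
  have hcommA : ∀ a b : A, a * b = b * a := fun a b => hAc.is_comm.comm a b
  have hAle : A ≤ Subgroup.centralizer (A : Set H) := by
    intro a ha
    rw [Subgroup.mem_centralizer_iff]
    intro b hb
    exact congrArg Subtype.val (hcommA ⟨b, hb⟩ ⟨a, ha⟩)
  suffices hne : Subgroup.centralizer (A : Set H) ≠ A by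
    have hlt : A < Subgroup.centralizer (A : Set H) := lt_of_le_of_ne hAle (Ne.symm hne)
    refine ⟨hlt, fun hcomm => hne ?_⟩
    exact hAmax _ inferInstance hcomm hAle
  intro hCA
  have hmul : ∀ (x y : H) (v : V), ((x * y : H) : V ≃ₗ[ZMod p] V) v =
      (x : V ≃ₗ[ZMod p] V) ((y : V ≃ₗ[ZMod p] V) v) := fun _ _ _ => rfl
  have hone : ∀ v : V, ((1 : H) : V ≃ₗ[ZMod p] V) v = v := fun _ => rfl
  have hsr : ∀ h : H, ∀ v : V, v ≠ 0 → (h : V ≃ₗ[ZMod p] V) v = v → h = 1 := by
    intro h v hv e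
    obtain ⟨h₀, -, huniq⟩ := hreg v v hv hv
    rw [huniq h e, huniq 1 (hone v)]
  have hcancel : ∀ (x y : H) (v : V), (x : V ≃ₗ[ZMod p] V) v = (y : V ≃ₗ[ZMod p] V) v →
      ((y⁻¹ * x : H) : V ≃ₗ[ZMod p] V) v = v := by
    intro x y v e
    rw [hmul, e, ← hmul, inv_mul_cancel, hone]
  let ι : ↥A →* Module.End (ZMod p) V :=
    LinearEquiv.automorphismGroup.toLinearMapMonoidHom.comp (H.subtype.comp A.subtype)
  have hι : ∀ (a : A) (v : V), ι a v = ((a : H) : V ≃ₗ[ZMod p] V) v := fun a v => rfl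
  have hcyc : IsCyclic A := by
    by_cases hV : Nontrivial V
    · exact Cfsg.Agent.helper18.S2T.isCyclic_of_semiregular ι hcommA (by
        intro a v hv e
        rw [hι] at e
        exact Subtype.ext (hsr (a : H) v hv e))
    · rw [not_nontrivial_iff_subsingleton] at hV
      haveI : Subsingleton A :=
        ⟨fun a b => Subtype.ext (Subtype.ext (LinearEquiv.ext fun v => Subsingleton.elim _ _))⟩
      exact isCyclic_of_subsingleton
  obtain ⟨W, hWb, hWt, hWinv⟩ := hI A hAn hcyc
  haveI hVnt : Nontrivial V := by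
    by_contra hV
    rw [not_nontrivial_iff_subsingleton] at hV
    haveI := (Submodule.subsingleton_iff (ZMod p)).mpr hV
    exact hWb (Subsingleton.elim _ _)
  obtain ⟨v₀, hv₀⟩ := exists_ne (0 : V)
  have hne0 : ∀ (h : H) (v : V), v ≠ 0 → (h : V ≃ₗ[ZMod p] V) v ≠ 0 := by
    intro h v hv e0
    exact hv ((LinearEquiv.map_eq_zero_iff _).mp e0)
  have hcardH : Nat.card H + 1 = Nat.card V := by
    have e : H ≃ {w : V // w ≠ 0} := Equiv.ofBijective
      (fun h => ⟨(h : V ≃ₗ[ZMod p] V) v₀, hne0 h v₀ hv₀⟩) ⟨by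
        intro h₁ h₂ e
        have e' : (h₁ : V ≃ₗ[ZMod p] V) v₀ = (h₂ : V ≃ₗ[ZMod p] V) v₀ := congrArg Subtype.val e
        obtain ⟨h₀, -, huniq⟩ := hreg v₀ ((h₂ : V ≃ₗ[ZMod p] V) v₀) hv₀ (hne0 h₂ v₀ hv₀)
        rw [huniq h₁ e', huniq h₂ rfl], by
        rintro ⟨w, hw⟩
        obtain ⟨h, hh, -⟩ := hreg v₀ w hv₀ hw
        exact ⟨h, Subtype.ext hh⟩⟩
    rw [Nat.card_congr e, ← Finite.card_option, Nat.card_congr (Equiv.optionSubtypeNe (0 : V))]
  have hmpos : 0 < Nat.card A := Nat.card_pos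
  have hWinv' : ∀ a ∈ A, ∀ v : V, ((a : H) : V ≃ₗ[ZMod p] V) v ∈ W → v ∈ W := by
    intro a ha v hv
    have h1 := hWinv a⁻¹ (A.inv_mem ha) _ hv
    rwa [← hmul, inv_mul_cancel, hone] at h1
  obtain ⟨w₀, hw₀W, hw₀⟩ := Submodule.exists_mem_ne_zero_of_ne_bot hWb
  have hmW : Nat.card A + 1 ≤ Nat.card W := by
    let e : A → {w : W // w ≠ 0} := fun a =>
      ⟨⟨((a : H) : V ≃ₗ[ZMod p] V) w₀, hWinv a a.2 w₀ hw₀W⟩, by
        intro e0
        exact hne0 (a : H) w₀ hw₀ (congrArg Subtype.val e0)⟩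
    have hinj : Function.Injective e := by
      intro a b hab
      have h1 : ((a : H) : V ≃ₗ[ZMod p] V) w₀ = ((b : H) : V ≃ₗ[ZMod p] V) w₀ :=
        congrArg (fun x : {w : W // w ≠ 0} => ((x : W) : V)) hab
      have h2 := hsr _ w₀ hw₀ (hcancel _ _ _ h1)
      exact Subtype.ext (inv_mul_eq_one.mp h2).symm
    have h3 := Nat.card_le_card_of_injective e hinj
    have h4 : Nat.card {w : W // w ≠ 0} + 1 = Nat.card W := by
      rw [← Finite.card_option, Nat.card_congr (Equiv.optionSubtypeNe (0 : W))]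
    omega
  have hpm : ¬ p ∣ Nat.card A := by
    have h1 : Nat.card A ∣ Nat.card H := Subgroup.card_subgroup_dvd_card A
    have h2 : p ∣ Nat.card V := by
      have : addOrderOf v₀ = p := by
        apply addOrderOf_eq_prime
        · rw [← Nat.cast_smul_eq_nsmul (ZMod p), ZMod.natCast_self, zero_smul]
        · exact hv₀
      rw [← this]
      exact addOrderOf_dvd_natCard v₀
    intro h3
    have h4 : p ∣ Nat.card H := h3.trans h1
    have h5 : p ∣ Nat.card H + 1 := by rw [hcardH]; exact h2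
    have h6 : p ∣ 1 := (Nat.dvd_add_right h4).mp h5
    exact hpp.one_lt.ne' (Nat.dvd_one.mp h6)
  have hkey : ∀ c : H, c ∈ A → ∀ v : V, v ∉ W → (c : V ≃ₗ[ZMod p] V) v - v ∈ W → c = 1 := by
    intro c hc v hvW hcv
    by_contra hc1
    have hcm : c ^ Nat.card A = 1 := by
      have := pow_card_eq_one' (x := (⟨c, hc⟩ : A))
      exact congrArg Subtype.val this
    let f : ℕ → V := fun i => ((c ^ i : H) : V ≃ₗ[ZMod p] V) v
    have hf0 : f 0 = v := by simp only [f, pow_zero]; exact hone v
    have hfm : f (Nat.card A) = v := by simp only [f, hcm]; exact hone v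
    have hfs : ∀ i, (c : V ≃ₗ[ZMod p] V) (f i) = f (i + 1) := by
      intro i
      simp only [f]
      rw [pow_succ', hmul]
    have hfix : (c : V ≃ₗ[ZMod p] V) (∑ i ∈ Finset.range (Nat.card A), f i) =
        ∑ i ∈ Finset.range (Nat.card A), f i := by
      rw [map_sum]
      simp_rw [hfs]
      have h1 := Finset.sum_range_succ' f (Nat.card A)
      have h2 := Finset.sum_range_succ f (Nat.card A)
      rw [hf0] at h1
      rw [hfm] at h2
      exact add_right_cancel (h1.symm.trans h2)
    have hu0 : ∑ i ∈ Finset.range (Nat.card A), f i = 0 := by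
      by_contra hu0
      exact hc1 (hsr c _ hu0 hfix)
    have hstep : ∀ i : ℕ, f i - v ∈ W := by
      intro i
      induction i with
      | zero => rw [hf0, sub_self]; exact W.zero_mem
      | succ i ih =>
        have e : f (i + 1) - v = (c : V ≃ₗ[ZMod p] V) (f i - v) + ((c : V ≃ₗ[ZMod p] V) v - v) := by
          rw [← hfs, map_sub]; abel
        rw [e]
        exact W.add_mem (hWinv c hc _ ih) hcv
    have hsum : (∑ i ∈ Finset.range (Nat.card A), f i) - Nat.card A • v ∈ W := by
      have : (∑ i ∈ Finset.range (Nat.card A), f i) - Nat.card A • v =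
          ∑ i ∈ Finset.range (Nat.card A), (f i - v) := by
        rw [Finset.sum_sub_distrib, Finset.sum_const, Finset.card_range]
      rw [this]
      exact W.sum_mem (fun i _ => hstep i)
    rw [hu0, zero_sub] at hsum
    have hmv : Nat.card A • v ∈ W := by
      have := W.neg_mem hsum
      rwa [neg_neg] at this
    have hmz : ((Nat.card A : ℕ) : ZMod p) ≠ 0 := by
      rw [Ne, ZMod.natCast_eq_zero_iff]
      exact hpm
    apply hvW
    have : v = ((Nat.card A : ℕ) : ZMod p)⁻¹ • (((Nat.card A : ℕ) : ZMod p) • v) := by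
      rw [smul_smul, inv_mul_cancel₀ hmz, one_smul]
    rw [this, Nat.cast_smul_eq_nsmul]
    exact W.smul_mem _ hmv
  obtain ⟨v₁, hv₁⟩ : ∃ v : V, v ∉ W := by
    by_contra hcon
    push Not at hcon
    exact hWt (Submodule.eq_top_iff'.mpr hcon)
  haveI : Finite (V ⧸ W) :=
    Finite.of_surjective (Submodule.Quotient.mk) (Submodule.Quotient.mk_surjective W)
  have hmQ : Nat.card A + 1 ≤ Nat.card (V ⧸ W) := by
    let e : A → {c : V ⧸ W // c ≠ 0} := fun a =>
      ⟨Submodule.Quotient.mk (((a : H) : V ≃ₗ[ZMod p] V) v₁), by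
        rw [Ne, Submodule.Quotient.mk_eq_zero]
        intro h
        exact hv₁ (hWinv' a a.2 v₁ h)⟩
    have hinj : Function.Injective e := by
      intro a b hab
      have h1 : (Submodule.Quotient.mk (((a : H) : V ≃ₗ[ZMod p] V) v₁) : V ⧸ W) =
          Submodule.Quotient.mk (((b : H) : V ≃ₗ[ZMod p] V) v₁) := congrArg Subtype.val hab
      rw [Submodule.Quotient.eq] at h1
      have h2 : (((b : H)⁻¹ * (a : H) : H) : V ≃ₗ[ZMod p] V) v₁ - v₁ ∈ W := by
        have h3 := hWinv (b : H)⁻¹ (A.inv_mem b.2) _ h1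
        rw [map_sub, ← hmul, ← hmul, inv_mul_cancel, hone] at h3
        exact h3
      have h4 := hkey _ (A.mul_mem (A.inv_mem b.2) a.2) v₁ hv₁ h2
      exact Subtype.ext (inv_mul_eq_one.mp h4).symm
    have h3 := Nat.card_le_card_of_injective e hinj
    have h4 : Nat.card {c : V ⧸ W // c ≠ 0} + 1 = Nat.card (V ⧸ W) := by
      rw [← Finite.card_option, Nat.card_congr (Equiv.optionSubtypeNe (0 : V ⧸ W))]
    omega
  have hidx : (Subgroup.centralizer (A : Set H)).index ≤ Nat.card A := by
    have hker : (MulAut.conjNormal (H := A)).ker = Subgroup.centralizer (A : Set H) := by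
      ext h
      rw [MonoidHom.mem_ker, Subgroup.mem_centralizer_iff]
      constructor
      · intro e a ha
        have := congrArg (fun φ : MulAut A => ((φ ⟨a, ha⟩ : A) : H)) e
        simp only [MulAut.conjNormal_apply, MulAut.one_apply] at this
        calc a * h = (h * a * h⁻¹) * h := by rw [this]
          _ = h * a := by group
      · intro e
        apply MulEquiv.ext
        intro a
        apply Subtype.ext
        simp only [MulAut.conjNormal_apply, MulAut.one_apply]
        have := e a a.2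
        calc h * a * h⁻¹ = (a * h) * h⁻¹ := by rw [this]
          _ = a := by group
    rw [← hker, Subgroup.index_ker]
    have h1 : Nat.card (MulAut.conjNormal (H := A)).range ∣ Nat.card (MulAut A) :=
      Subgroup.card_subgroup_dvd_card _
    rw [IsCyclic.card_mulAut] at h1
    have h2 : 0 < Nat.totient (Nat.card A) := Nat.totient_pos.mpr hmpos
    exact (Nat.le_of_dvd h2 h1).trans (Nat.totient_le _)
  have hHm : Nat.card H = Nat.card A * (Subgroup.centralizer (A : Set H)).index := by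
    have := Subgroup.card_mul_index (Subgroup.centralizer (A : Set H))
    rw [hCA] at this
    rw [hCA]
    exact this.symm
  have hVW : Nat.card V = Nat.card W * Nat.card (V ⧸ W) :=
    Submodule.card_eq_card_quotient_mul_card W
  have h1 : (Nat.card A + 1) * (Nat.card A + 1) ≤ Nat.card W * Nat.card (V ⧸ W) :=
    Nat.mul_le_mul hmW hmQ
  have h2 : Nat.card A * (Subgroup.centralizer (A : Set H)).index ≤ Nat.card A * Nat.card A :=
    Nat.mul_le_mul_left _ hidx
  rw [← hVW, ← hcardH, hHm] at h1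
  nlinarith

end Cfsg.Agent.S0685
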