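import Cfsg.Statements.S0687
import Cfsg.Agent.Lib_helper26_Spread

set_option autoImplicit false
open Cfsg

namespace Cfsg.Agent.S0687

open Cfsg.Agent.helper26 in

/-- In a linear group over the prime field that is regular on non-zero vectors and has no irreducible cyclic normal subgroup, a normal subgroup `N` minimal among the non-abelian normal subgroups centralising a maximal normal abelian subgroup `A` is irreducible on `V`, and its centraliser is `A`. -/
theorem result {p : ℕ} [Fact p.Prime] {V : Type*} [AddCommGroup V] [Module (ZMod p) V] [Finite V] (H : Subgroup (V ≃ₗ[ZMod p] V)) (hreg : ∀ v w : V, v ≠ 0 → w ≠ 0 → ∃! h : H, (h : V ≃ₗ[ZMod p] V) v = w) (hI : ∀ A : Subgroup H, A.Normal → IsCyclic A → ∃ W : Submodule (ZMod p) V, W ≠ ⊥ ∧ W ≠ ⊤ ∧ ∀ a ∈ A, ∀ v ∈ W, ((a : H) : V ≃ₗ[ZMod p] V) v ∈ W) (A : Subgroup H) (hAn : A.Normal) (hAc : IsMulCommutative A) (hAmax : ∀ B : Subgroup H, B.Normal → IsMulCommutative B → A ≤ B → B = A) (N : Subgroup H) (hNn : N.Normal)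 (hNle : N ≤ Subgroup.centralizer (A : Set H)) (hNna : ¬ IsMulCommutative N) (hNmin : ∀ M : Subgroup H, M.Normal → M ≤ N → ¬ IsMulCommutative M → M = N) : (∀ W : Submodule (ZMod p) V, (∀ n ∈ N, ∀ v ∈ W, ((n : H) : V ≃ₗ[ZMod p] V) v ∈ W) → W = ⊥ ∨ W = ⊤) ∧ Subgroup.centralizer (N : Set H) = A := by
  classical
  have htr : ∀ v w : V, v ≠ 0 → w ≠ 0 → ∃ h : H, Spread.ap H h v = w := by
    intro v w hv hw
    obtain ⟨h, hh, _⟩ := hreg v w hv hw
    exact ⟨h, hh⟩
  haveI := hNn
  have hirr : ∀ W : Submodule (ZMod p) V, Spread.Inv H N W → W = ⊥ ∨ W = ⊤ := by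
    intro W hW
    by_contra hc
    push Not at hc
    obtain ⟨hW0, hW1⟩ := hc
    haveI : IsArtinian (ZMod p) V := isArtinian_of_finite
    obtain ⟨W', ⟨hW'le, hW'0, hW'inv⟩, hW'min⟩ := IsArtinian.set_has_minimal
      {U : Submodule (ZMod p) V | U ≤ W ∧ U ≠ ⊥ ∧ Spread.Inv H N U} ⟨W, le_refl _, hW0, hW⟩
    have hW'1 : W' ≠ ⊤ := by
      intro h; apply hW1; rw [eq_top_iff, ← h]; exact hW'le
    have hmin : ∀ U : Submodule (ZMod p) V, U ≤ W' → U ≠ ⊥ → Spread.Inv H N U → U = W' := by
      intro U hU hU0 hUinv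
      by_contra hne
      exact hW'min U ⟨hU.trans hW'le, hU0, hUinv⟩ (lt_of_le_of_ne hU hne)
    have hcomm := Spread.normal_reducible_comm H htr N W' hW'0 hW'1 hW'inv hmin
    apply hNna
    exact ⟨⟨fun a b => Subtype.ext (hcomm a a.2 b b.2)⟩⟩
  refine ⟨fun W hW => hirr W hW, ?_⟩
  haveI : Nontrivial V := by
    by_contra hnt
    rw [not_nontrivial_iff_subsingleton] at hnt
    apply hNna
    refine ⟨⟨fun a b => ?_⟩⟩
    apply Subtype.ext; apply Subtype.ext; apply LinearEquiv.ext; intro v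
    exact Subsingleton.elim _ _
  have hCn : (Subgroup.centralizer (N : Set H)).Normal := inferInstance
  have hAC : A ≤ Subgroup.centralizer (N : Set H) := by
    intro a ha
    rw [Subgroup.mem_centralizer_iff]
    intro n hn
    have := hNle hn
    rw [Subgroup.mem_centralizer_iff] at this
    exact (this a ha).symm
  let C : Subring (Module.End (ZMod p) V) := Subring.centralizer
    {φ | ∃ n ∈ N, φ = (((n : H) : V ≃ₗ[ZMod p] V) : Module.End (ZMod p) V)}
  have hCinj : ∀ φ ∈ C, φ ≠ 0 → Function.Injective φ := by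
    intro φ hφ hφ0
    rw [← LinearMap.ker_eq_bot]
    have hker : Spread.Inv H N (LinearMap.ker φ) := by
      intro n hn v hv
      rw [LinearMap.mem_ker] at hv ⊢
      have h1 := (Subring.mem_centralizer_iff.mp hφ) _ ⟨n, hn, rfl⟩
      have h2 := congrArg (fun f : Module.End (ZMod p) V => f v) h1
      have h3 : ((n : H) : V ≃ₗ[ZMod p] V) (φ v) = φ (((n : H) : V ≃ₗ[ZMod p] V) v) := h2
      show φ (((n : H) : V ≃ₗ[ZMod p] V) v) = 0
      rw [← h3, hv]
      exact map_zero _
    rcases hirr _ hker with h | h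
    · exact h
    · exact absurd (LinearMap.ker_eq_top.mp h) hφ0
  have hcomm := Spread.subring_comm C hCinj
  have hCmem : ∀ c ∈ Subgroup.centralizer (N : Set H),
      (((c : H) : V ≃ₗ[ZMod p] V) : Module.End (ZMod p) V) ∈ C := by
    intro c hc
    rw [Subring.mem_centralizer_iff]
    rintro g ⟨n, hn, rfl⟩
    rw [Subgroup.mem_centralizer_iff] at hc
    have h1 := hc n hn
    apply LinearMap.ext
    intro v
    have h2 := congrArg (fun f : H => ((f : H) : V ≃ₗ[ZMod p] V) v) h1
    exact h2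
  have hCc : IsMulCommutative (Subgroup.centralizer (N : Set H)) := by
    refine ⟨⟨fun a b => ?_⟩⟩
    apply Subtype.ext
    apply Subtype.ext
    apply LinearEquiv.ext
    intro v
    have h1 := hcomm _ (hCmem a a.2) _ (hCmem b b.2)
    have h2 := congrArg (fun f : Module.End (ZMod p) V => f v) h1
    exact h2
  exact hAmax _ hCn hCc hAC

end Cfsg.Agent.S0687
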