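import Cfsg.Statements.S0691
-- import your own Cfsg.Agent.* helpers here
import Cfsg.Agent.Lib_helper4_MatGroup

set_option autoImplicit false
open Cfsg

namespace Cfsg.Agent.S0691

open Cfsg.Agent.helper4 Matrix

def gens : List Q4 := [(2, 0, 0, 3), (0, 4, 1, 0), (1, 2, 1, 3)]

def words : List (List ℕ) := [[], [0], [1], [2], [0, 0], [0, 1], [0, 2], [1, 0], [1, 2], [2, 0], [2, 2], [0, 0, 0], [0, 0, 1], [0, 0, 2], [0, 1, 2], [0, 2, 2], [1, 2, 0], [1, 2, 2], [2, 0, 1], [2, 0, 2], [0, 0, 2, 2], [0, 1, 2, 2], [1, 2, 0, 2], [2, 0, 1, 2]]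


/-- An exceptional sharply doubly transitive group of degree 5^2: the listed matrices generate a subgroup of GL(2,5) of order 24 acting regularly on the non-zero vectors. -/
theorem result (A : Matrix.GeneralLinearGroup (Fin 2) (ZMod 5)) (B : Matrix.GeneralLinearGroup (Fin 2) (ZMod 5)) (C : Matrix.GeneralLinearGroup (Fin 2) (ZMod 5)) (hA : (A : Matrix (Fin 2) (Fin 2) (ZMod 5)) = !![2, 0; 0, -2]) (hB : (B : Matrix (Fin 2) (Fin 2) (ZMod 5)) = !![0, -1; 1, 0]) (hC : (C : Matrix (Fin 2) (Fin 2) (ZMod 5)) = !![1, 2; 1, -2]) : Nat.card (Subgroup.closure ({A, B, C} : Set (Matrix.GeneralLinearGroup (Fin 2) (ZMod 5)))) = 24 ∧ ∀ v w : Fin 2 → ZMod 5, v ≠ 0 → w ≠ 0 → ∃! h : Subgroup.closure ({A, B, C} : Set (Matrix.GeneralLinearGroup (Fin 2) (ZMod 5))), Matrix.mulVec ((h : Matrix.GeneralLinearGroup (Fin 2) (ZMod 5)) : Matrix (Fin 2) (Fin 2) (ZMod 5)) v = w := by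
  have : Fact (Nat.Prime 5) := ⟨by norm_num⟩
  have eA : (A : Matrix (Fin 2) (Fin 2) (ZMod 5)) = toM 5 (2, 0, 0, 3) := by
    rw [hA]; unfold toM; decide
  have eB : (B : Matrix (Fin 2) (Fin 2) (ZMod 5)) = toM 5 (0, 4, 1, 0) := by
    rw [hB]; unfold toM; decide
  have eC : (C : Matrix (Fin 2) (Fin 2) (ZMod 5)) = toM 5 (1, 2, 1, 3) := by
    rw [hC]; unfold toM; decide
  have hS : ∀ s ∈ ({A, B, C} : Set (GL2 5)), ∃ g ∈ gens, (s : Matrix (Fin 2) (Fin 2) (ZMod 5)) = toM 5 g := by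
    rintro s (rfl | rfl | rfl)
    · exact ⟨_, by simp [gens], eA⟩
    · exact ⟨_, by simp [gens], eB⟩
    · exact ⟨_, by simp [gens], eC⟩
  have hgens : ∀ g ∈ gens, ∃ s ∈ ({A, B, C} : Set (GL2 5)), (s : Matrix (Fin 2) (Fin 2) (ZMod 5)) = toM 5 g := by
    intro g hg
    simp only [gens, List.mem_cons, List.not_mem_nil, or_false] at hg
    rcases hg with rfl | rfl | rfl
    · exact ⟨A, by simp, eA⟩
    · exact ⟨B, by simp, eB⟩
    · exact ⟨C, by simp, eC⟩
  have hone : oneQ ∈ words.map (evalW 5 gens) := by decide +kernel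
  have hclosed : ∀ g ∈ gens, ∀ t ∈ words.map (evalW 5 gens), mulQ 5 t g ∈ words.map (evalW 5 gens) := by
    decide +kernel
  have hlt : ∀ t ∈ words.map (evalW 5 gens), ltQ 5 t := by decide +kernel
  have hnodup : (words.map (evalW 5 gens)).Nodup := by decide +kernel
  have hfix : ∀ t ∈ words.map (evalW 5 gens), t = oneQ ∨ fixQ 5 t ≠ 0 := by decide +kernel
  have hlen : words.length = 24 := by decide +kernel
  have hcard := card_closure ({A, B, C} : Set (GL2 5)) gens words hS hgens hone hclosed hlt hnodup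
  have hsub := closure_subset ({A, B, C} : Set (GL2 5)) gens (words.map (evalW 5 gens)) hS hone hclosed
  refine ⟨by rw [hcard, hlen], ?_⟩
  apply regular_of_free (Subgroup.closure ({A, B, C} : Set (GL2 5))) (by rw [hcard, hlen]; norm_num)
  intro h hh v hv hv0
  obtain ⟨t, ht, hht⟩ := hsub h hh
  rcases hfix t ht with rfl | hf
  · apply Units.ext; rw [hht, toM_one]; rfl
  · exfalso; apply hv0; exact free_of_fixQ 5 t hf v (by rw [← hht]; exact hv)

end Cfsg.Agent.S0691
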