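import Cfsg.Statements.S0693
-- import your own Cfsg.Agent.* helpers here
import Cfsg.Agent.Lib_helper4_MatGroup

set_option autoImplicit false
open Cfsg

namespace Cfsg.Agent.S0693

open Cfsg.Agent.helper4 Matrix

def gens : List Q4 := [(0, 58, 1, 0), (9, 15, 49, 49)]

def words : List (List ℕ) := [[], [0], [1], [0, 0], [0, 1], [1, 0], [1, 1], [0, 0, 0], [0, 0, 1], [0, 1, 0], [0, 1, 1], [1, 0, 1], [1, 1, 0], [0, 0, 0, 1], [0, 0, 1, 0], [0, 0, 1, 1], [0, 1, 0, 1], [0, 1, 1, 0], [1, 0, 1, 0], [1, 0, 1, 1], [1, 1, 0, 1], [0, 0, 0, 1, 0], [0, 0, 0, 1, 1], [0, 0, 1, 0, 1], [0, 0, 1, 1, 0], [0, 1, 0, 1, 0], [0, 1, 0, 1, 1], [0, 1, 1, 0, 1], [1, 0, 1, 0, 1], [1, 0, 1, 1, 0], [1, 1, 0, 1, 0], [1, 1, 0, 1, 1], [0, 0, 0, 1, 0, 1], [0, 0, 0, 1, 1, 0], [0, 0, 1, 0, 1, 0], [0, 0, 1, 0, 1, 1], [0, 0, 1, 1, 0, 1], [0, 1, 0, 1, 0, 1], [0, 1, 0, 1, 1, 0], [0,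 1, 1, 0, 1, 0], [0, 1, 1, 0, 1, 1], [1, 0, 1, 0, 1, 1], [1, 0, 1, 1, 0, 1], [1, 1, 0, 1, 0, 1], [0, 0, 0, 1, 0, 1, 0], [0, 0, 0, 1, 0, 1, 1], [0, 0, 0, 1, 1, 0, 1], [0, 0, 1, 0, 1, 0, 1], [0, 0, 1, 0, 1, 1, 0], [0, 0, 1, 1, 0, 1, 0], [0, 0, 1, 1, 0, 1, 1], [0, 1, 0, 1, 0, 1, 1], [0, 1, 0, 1, 1, 0, 1], [0, 1, 1, 0, 1, 0, 1], [1, 0, 1, 0, 1, 1, 0], [1, 0, 1, 1, 0, 1, 0], [1, 0, 1, 1, 0, 1, 1], [1, 1, 0, 1, 0, 1, 1], [0, 0, 0, 1, 0, 1, 0, 1], [0, 0, 0, 1, 0, 1, 1, 0], [0, 0, 0, 1, 1, 0, 1, 0], [0, 0, 0, 1, 1, 0, 1, 1], [0, 0, 1, 0, 1, 0, 1, 1], [0, 0, 1, 0, 1, 1, 0, 1], [0, 0, 1, 1, 0, 1, 0, 1], [0, 1, 0, 1, 0, 1, 1, 0], [0, 1, 0, 1, 1, 0, 1, 0], [0, 1, 0, 1, 1, 0, 1, 1], [0, 1, 1, 0, 1, 0, 1, 1], [1, 0, 1, 0, 1, 1, 0, 1], [1, 0, 1, 1, 0, 1, 0, 1], [1, 1, 0, 1, 0, 1, 1, 0], [0, 0, 0, 1, 0, 1, 0, 1, 1], [0, 0, 0, 1, 0, 1, 1, 0, 1], [0, 0, 0, 1,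 1, 0, 1, 0, 1], [0, 0, 1, 0, 1, 0, 1, 1, 0], [0, 0, 1, 0, 1, 1, 0, 1, 0], [0, 0, 1, 0, 1, 1, 0, 1, 1], [0, 0, 1, 1, 0, 1, 0, 1, 1], [0, 1, 0, 1, 0, 1, 1, 0, 1], [0, 1, 0, 1, 1, 0, 1, 0, 1], [0, 1, 1, 0, 1, 0, 1, 1, 0], [1, 0, 1, 0, 1, 1, 0, 1, 0], [1, 0, 1, 0, 1, 1, 0, 1, 1], [1, 0, 1, 1, 0, 1, 0, 1, 1], [1, 1, 0, 1, 0, 1, 1, 0, 1], [0, 0, 0, 1, 0, 1, 0, 1, 1, 0], [0, 0, 0, 1, 0, 1, 1, 0, 1, 0], [0, 0, 0, 1, 0, 1, 1, 0, 1, 1], [0, 0, 0, 1, 1, 0, 1, 0, 1, 1], [0, 0, 1, 0, 1, 0, 1, 1, 0, 1], [0, 0, 1, 0, 1, 1, 0, 1, 0, 1], [0, 0, 1, 1, 0, 1, 0, 1, 1, 0], [0, 1, 0, 1, 0, 1, 1, 0, 1, 0], [0, 1, 0, 1, 0, 1, 1, 0, 1, 1], [0, 1, 0, 1, 1, 0, 1, 0, 1, 1], [0, 1, 1, 0, 1, 0, 1, 1, 0, 1], [1, 0, 1, 0, 1, 1, 0, 1, 0, 1], [1, 0, 1, 1, 0, 1, 0, 1, 1, 0], [1, 1, 0, 1, 0, 1, 1, 0, 1, 0], [0, 0, 0, 1, 0, 1, 0, 1, 1, 0, 1], [0, 0, 0, 1, 0, 1, 1, 0, 1, 0, 1],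 [0, 0, 1, 0, 1, 0, 1, 1, 0, 1, 0], [0, 0, 1, 0, 1, 0, 1, 1, 0, 1, 1], [0, 0, 1, 0, 1, 1, 0, 1, 0, 1, 1], [0, 0, 1, 1, 0, 1, 0, 1, 1, 0, 1], [0, 1, 0, 1, 1, 0, 1, 0, 1, 1, 0], [0, 1, 1, 0, 1, 0, 1, 1, 0, 1, 0], [1, 0, 1, 0, 1, 1, 0, 1, 0, 1, 1], [1, 0, 1, 1, 0, 1, 0, 1, 1, 0, 1], [1, 1, 0, 1, 0, 1, 1, 0, 1, 0, 1], [0, 0, 0, 1, 0, 1, 0, 1, 1, 0, 1, 0], [0, 0, 0, 1, 0, 1, 0, 1, 1, 0, 1, 1], [0, 0, 0, 1, 0, 1, 1, 0, 1, 0, 1, 1], [0, 0, 1, 1, 0, 1, 0, 1, 1, 0, 1, 0], [0, 1, 0, 1, 1, 0, 1, 0, 1, 1, 0, 1], [0, 1, 1, 0, 1, 0, 1, 1, 0, 1, 0, 1], [1, 0, 1, 0, 1, 1, 0, 1, 0, 1, 1, 0], [1, 0, 1, 1, 0, 1, 0, 1, 1, 0, 1, 0], [1, 1, 0, 1, 0, 1, 1, 0, 1, 0, 1, 1]]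

def zq (j : ℕ) : Q4 := (4 ^ j % 59, 0, 0, 4 ^ j % 59)

theorem toM_zq (j : ℕ) : toM 59 (zq j) = ((4 : ZMod 59) ^ j) • (1 : Matrix (Fin 2) (Fin 2) (ZMod 59)) := by
  unfold toM zq
  ext a b
  fin_cases a <;> fin_cases b <;> simp [ZMod.natCast_mod]

theorem four_pow : (4 : ZMod 59) ^ 29 = 1 := by decide

theorem four_ne_one : ¬ ((4 : ZMod 59) = 1) := by decide


/-- An exceptional sharply doubly transitive group of degree 59^2: the listed matrices generate a subgroup of GL(2,59) of order 3480 acting regularly on the non-zero vectors. -/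
theorem result (A : Matrix.GeneralLinearGroup (Fin 2) (ZMod 59)) (B : Matrix.GeneralLinearGroup (Fin 2) (ZMod 59)) (C : Matrix.GeneralLinearGroup (Fin 2) (ZMod 59)) (hA : (A : Matrix (Fin 2) (Fin 2) (ZMod 59)) = !![0, -1; 1, 0]) (hB : (B : Matrix (Fin 2) (Fin 2) (ZMod 59)) = !![9, 15; -10, -10]) (hC : (C : Matrix (Fin 2) (Fin 2) (ZMod 59)) = !![4, 0; 0, 4]) : Nat.card (Subgroup.closure ({A, B, C} : Set (Matrix.GeneralLinearGroup (Fin 2) (ZMod 59)))) = 3480 ∧ ∀ v w : Fin 2 → ZMod 59, v ≠ 0 → w ≠ 0 → ∃! h : Subgroup.closure ({A, B, C} : Set (Matrix.GeneralLinearGroup (Fin 2) (ZMod 59))), Matrix.mulVec ((h : Matrix.GeneralLinearGroup (Fin 2) (ZMod 59)) : Matrix (Fin 2) (Fin 2) (ZMod 59)) v = w := by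
  have : Fact (Nat.Prime 59) := ⟨by norm_num⟩
  have eA : (A : Matrix (Fin 2) (Fin 2) (ZMod 59)) = toM 59 (0, 58, 1, 0) := by
    rw [hA]; unfold toM; decide
  have eB : (B : Matrix (Fin 2) (Fin 2) (ZMod 59)) = toM 59 (9, 15, 49, 49) := by
    rw [hB]; unfold toM; decide
  have eC : (C : Matrix (Fin 2) (Fin 2) (ZMod 59)) = (4 : ZMod 59) • (1 : Matrix (Fin 2) (Fin 2) (ZMod 59)) := by
    rw [hC]
    ext a b
    fin_cases a <;> fin_cases b <;> simp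
  -- the subgroup H₀ generated by A and B
  have hS : ∀ s ∈ ({A, B} : Set (GL2 59)), ∃ g ∈ gens, (s : Matrix (Fin 2) (Fin 2) (ZMod 59)) = toM 59 g := by
    rintro s (rfl | rfl)
    · exact ⟨_, by simp [gens], eA⟩
    · exact ⟨_, by simp [gens], eB⟩
  have hgens : ∀ g ∈ gens, ∃ s ∈ ({A, B} : Set (GL2 59)), (s : Matrix (Fin 2) (Fin 2) (ZMod 59)) = toM 59 g := by
    intro g hg
    simp only [gens, List.mem_cons, List.not_mem_nil, or_false] at hg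
    rcases hg with rfl | rfl
    · exact ⟨A, by simp, eA⟩
    · exact ⟨B, by simp, eB⟩
  have hone : oneQ ∈ words.map (evalW 59 gens) := by decide +kernel
  have hclosed : ∀ g ∈ gens, ∀ t ∈ words.map (evalW 59 gens), mulQ 59 t g ∈ words.map (evalW 59 gens) := by
    decide +kernel
  have hlt : ∀ t ∈ words.map (evalW 59 gens), ltQ 59 t := by decide +kernel
  have hnodup : (words.map (evalW 59 gens)).Nodup := by decide +kernel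
  have hfix : ∀ t ∈ words.map (evalW 59 gens), ∀ j ∈ List.range 29,
      mulQ 59 t (zq j) = oneQ ∨ fixQ 59 (mulQ 59 t (zq j)) ≠ 0 := by decide +kernel
  have hlen : words.length = 120 := by decide +kernel
  have hcard₀ := card_closure ({A, B} : Set (GL2 59)) gens words hS hgens hone hclosed hlt hnodup
  rw [hlen] at hcard₀
  have hsub := closure_subset ({A, B} : Set (GL2 59)) gens (words.map (evalW 59 gens)) hS hone hclosed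
  set H₀ := Subgroup.closure ({A, B} : Set (GL2 59)) with hH₀
  set Z := Subgroup.zpowers C with hZ
  -- C is central
  have hCcentral : ∀ g : GL2 59, g * C = C * g := by
    intro g
    apply Units.ext
    rw [Units.val_mul, Units.val_mul, eC]
    simp
  have hZnormal : Z.Normal := by
    constructor
    intro n hn g
    obtain ⟨k, rfl⟩ := Subgroup.mem_zpowers_iff.mp hn
    have hcomm : Commute g (C ^ k) := (Commute.zpow_right (hCcentral g) k)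
    rw [hcomm.eq, mul_inv_cancel_right]
    exact hn
  have hCpow : C ^ 29 = 1 := by
    apply Units.ext
    rw [Units.val_pow_eq_pow_val, eC, smul_pow, one_pow, Units.val_one]
    rw [four_pow, one_smul]
  have hC1 : C ≠ 1 := by
    intro h
    have h2 := congrArg (fun g : GL2 59 => (g : Matrix (Fin 2) (Fin 2) (ZMod 59)) 0 0) h
    simp only [eC, Units.val_one, Matrix.smul_apply, Matrix.one_apply_eq, smul_eq_mul, mul_one] at h2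
    exact absurd h2 four_ne_one
  have : Fact (Nat.Prime 29) := ⟨by norm_num⟩
  have hordC : orderOf C = 29 := orderOf_eq_prime hCpow hC1
  have hcardZ : Nat.card Z = 29 := by rw [hZ, Nat.card_zpowers, hordC]
  have hHeq : Subgroup.closure ({A, B, C} : Set (GL2 59)) = H₀ ⊔ Z := by
    have : ({A, B, C} : Set (GL2 59)) = {A, B} ∪ {C} := by
      rw [Set.insert_union, Set.singleton_union]
    rw [this, Subgroup.closure_union, hZ, Subgroup.zpowers_eq_closure]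
  have hdisj : Disjoint H₀ Z := by
    apply Subgroup.disjoint_of_coprime_natCard
    rw [hcard₀, hcardZ]; norm_num
  -- decomposition of elements
  have hdecomp : ∀ h ∈ Subgroup.closure ({A, B, C} : Set (GL2 59)), ∃ a ∈ H₀, ∃ c ∈ Z, h = a * c := by
    intro h hh
    rw [hHeq] at hh
    have : h ∈ ((H₀ ⊔ Z : Subgroup (GL2 59)) : Set (GL2 59)) := hh
    rw [Subgroup.mul_normal] at this
    obtain ⟨a, ha, c, hc, rfl⟩ := this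
    exact ⟨a, ha, c, hc, rfl⟩
  -- cardinality
  have hcard : Nat.card (Subgroup.closure ({A, B, C} : Set (GL2 59))) = 3480 := by
    let φ : H₀ × Z → Subgroup.closure ({A, B, C} : Set (GL2 59)) := fun x =>
      ⟨(x.1 : GL2 59) * (x.2 : GL2 59), by
        rw [hHeq]
        exact Subgroup.mul_mem _ (Subgroup.mem_sup_left x.1.2) (Subgroup.mem_sup_right x.2.2)⟩
    have hφinj : Function.Injective φ := by
      intro x y hxy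
      apply Subgroup.mul_injective_of_disjoint hdisj
      exact congrArg Subtype.val hxy
    have hφsurj : Function.Surjective φ := by
      rintro ⟨h, hh⟩
      obtain ⟨a, ha, c, hc, rfl⟩ := hdecomp h hh
      exact ⟨(⟨a, ha⟩, ⟨c, hc⟩), rfl⟩
    rw [← Nat.card_congr (Equiv.ofBijective φ ⟨hφinj, hφsurj⟩), Nat.card_prod, hcard₀, hcardZ]
  refine ⟨hcard, ?_⟩
  apply regular_of_free (Subgroup.closure ({A, B, C} : Set (GL2 59))) (by rw [hcard]; norm_num)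
  intro h hh v hv hv0
  obtain ⟨a, ha, c, hc, rfl⟩ := hdecomp h hh
  obtain ⟨t, ht, hat⟩ := hsub a ha
  obtain ⟨k, rfl⟩ := Subgroup.mem_zpowers_iff.mp hc
  -- reduce exponent
  have hk : C ^ k = C ^ (k % 29).toNat := by
    have h1 : C ^ k = C ^ (k % (orderOf C : ℤ)) := (zpow_mod_orderOf C k).symm
    rw [h1, hordC]
    simp only [Nat.cast_ofNat]
    have h2 : (0 : ℤ) ≤ k % 29 := Int.emod_nonneg _ (by norm_num)
    conv_lhs => rw [← Int.toNat_of_nonneg h2]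
    rw [zpow_natCast]
  set j := (k % 29).toNat with hj
  have hjlt : j < 29 := by
    have h2 : (0 : ℤ) ≤ k % 29 := Int.emod_nonneg _ (by norm_num)
    have h3 : k % 29 < 29 := Int.emod_lt_of_pos _ (by norm_num)
    omega
  have hmat : ((a * C ^ k : GL2 59) : Matrix (Fin 2) (Fin 2) (ZMod 59)) = toM 59 (mulQ 59 t (zq j)) := by
    rw [hk, Units.val_mul, hat, Units.val_pow_eq_pow_val, eC, smul_pow, one_pow, toM_mulQ, toM_zq]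
  rcases hfix t ht j (List.mem_range.mpr hjlt) with h1 | hf
  · apply Units.ext; rw [hmat, h1, toM_one]; rfl
  · exfalso; apply hv0; exact free_of_fixQ 59 _ hf v (by rw [← hmat]; exact hv)

end Cfsg.Agent.S0693
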