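import Cfsg.Statements.S0694
-- import your own Cfsg.Agent.* helpers here
import Mathlib

set_option autoImplicit false
open Cfsg

namespace Cfsg.Agent.S0694

theorem modEq_one_iff (N x : ℕ) (hx : 1 ≤ x) : x ≡ 1 [MOD N] ↔ N ∣ x - 1 := by
  rw [Nat.ModEq.comm, Nat.modEq_iff_dvd' hx]

theorem one_le_pow' (q k : ℕ) (hq : 2 ≤ q) : 1 ≤ q ^ k := Nat.one_le_pow _ _ (by omega)

/-- `x - 1 ∣ x ^ k - 1` with cofactor the geometric sum -/
theorem pow_sub_one_eq (x k : ℕ) (hx : 1 ≤ x) :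
    x ^ k - 1 = (∑ i ∈ Finset.range k, x ^ i) * (x - 1) := by
  have h1 : 1 ≤ x ^ k := Nat.one_le_pow _ _ hx
  zify [h1, hx]
  rw [geom_sum_mul]

/-- the geometric sum of `r` terms is divisible by `r` when `x ≡ 1 mod r` -/
theorem dvd_geom_sum (r x : ℕ) (hx : 1 ≤ x) (h : r ∣ x - 1) :
    r ∣ ∑ i ∈ Finset.range r, x ^ i := by
  have h1 : x ≡ 1 [MOD r] := (modEq_one_iff r x hx).mpr h
  have h2 : ∑ i ∈ Finset.range r, x ^ i ≡ ∑ _i ∈ Finset.range r, 1 [MOD r] := by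
    apply Nat.ModEq.sum
    intro i _
    simpa using h1.pow i
  rw [Finset.sum_const, Finset.card_range, smul_eq_mul, mul_one] at h2
  exact (Nat.modEq_zero_iff_dvd.mp (h2.trans (by simp [Nat.ModEq])))

/-- **C1** -/
theorem C1 (q : ℕ) (hq : 2 ≤ q) : ∀ n : ℕ, 1 ≤ n → (∀ r : ℕ, r.Prime → r ∣ n → r ∣ q - 1) →
    n * (q - 1) ∣ q ^ n - 1 := by
  intro n
  induction n using Nat.strong_induction_on with
  | _ n ih =>
    intro hn hr
    by_cases h1 : n = 1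
    · subst h1; simp
    have hp := Nat.minFac_prime h1
    obtain ⟨n', hn'⟩ := Nat.minFac_dvd n
    have hn'pos : 1 ≤ n' := by
      rcases Nat.eq_zero_or_pos n' with h | h
      · rw [h, mul_zero] at hn'; omega
      · exact h
    have hlt : n' < n := by
      rw [hn']; nlinarith [hp.two_le]
    have ih' := ih n' hlt hn'pos (fun r hr' hrn => hr r hr' (by rw [hn']; exact Dvd.dvd.mul_left hrn _))
    have hy : 1 ≤ q ^ n' := one_le_pow' q n' hq
    have hrq : n.minFac ∣ q ^ n' - 1 :=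
      (hr _ hp (Nat.minFac_dvd n)).trans (Nat.sub_one_dvd_pow_sub_one q n')
    have h2 : q ^ n - 1 = (∑ i ∈ Finset.range n.minFac, (q ^ n') ^ i) * (q ^ n' - 1) := by
      rw [← pow_sub_one_eq _ _ hy, ← pow_mul, mul_comm n', ← hn']
    rw [h2]
    conv_lhs => rw [hn', mul_assoc]
    exact mul_dvd_mul (dvd_geom_sum _ _ hy hrq) ih'

theorem not_dvd_of_dvd_sub_one (r q : ℕ) (hr : r.Prime) (hq : 2 ≤ q) (h : r ∣ q - 1) : ¬ r ∣ q := by
  intro h'
  have : r ∣ q - (q - 1) := Nat.dvd_sub h' h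
  have h1 : q - (q - 1) = 1 := by omega
  rw [h1] at this
  exact hr.one_lt.ne' (Nat.dvd_one.mp this)

/-- lifting the exponent -/
theorem lte (r q k : ℕ) [hr : Fact r.Prime] (hq : 2 ≤ q) (hrq : r ∣ q - 1)
    (h4 : r = 2 → 4 ∣ q - 1) (hk : k ≠ 0) :
    padicValNat r (q ^ k - 1) = padicValNat r (q - 1) + padicValNat r k := by
  have hnd := not_dvd_of_dvd_sub_one r q hr.out hq hrq
  by_cases h2 : r = 2
  · subst h2
    have h4' := h4 rfl
    have hx : ¬ (2 : ℤ) ∣ (q : ℤ) := by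
      intro h
      exact hnd (by exact_mod_cast h)
    have hxy : (4 : ℤ) ∣ (q : ℤ) - 1 := by
      have : ((4 : ℕ) : ℤ) ∣ ((q - 1 : ℕ) : ℤ) := Int.natCast_dvd_natCast.mpr h4'
      rwa [Nat.cast_sub (by omega)] at this
    have h := Int.two_pow_sub_pow' k hxy hx
    rw [one_pow] at h
    have e1 : (q : ℤ) ^ k - 1 = ((q ^ k - 1 : ℕ) : ℤ) := by
      rw [Nat.cast_sub (one_le_pow' q k hq)]; simp
    have e2 : (q : ℤ) - 1 = ((q - 1 : ℕ) : ℤ) := by
      rw [Nat.cast_sub (by omega)]; simp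
    rw [e1, e2] at h
    have hne1 : q ^ k - 1 ≠ 0 := by
      have : 2 ≤ q ^ k := by
        calc 2 ≤ q := hq
          _ = q ^ 1 := (pow_one q).symm
          _ ≤ q ^ k := Nat.pow_le_pow_right (by omega) (by omega)
      omega
    have e3 : emultiplicity (2 : ℤ) ((q ^ k - 1 : ℕ) : ℤ) = emultiplicity 2 (q ^ k - 1) :=
      Int.natCast_emultiplicity 2 _
    have e4 : emultiplicity (2 : ℤ) ((q - 1 : ℕ) : ℤ) = emultiplicity 2 (q - 1) :=
      Int.natCast_emultiplicity 2 _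
    have e5 : emultiplicity (2 : ℤ) ((k : ℕ) : ℤ) = emultiplicity 2 k :=
      Int.natCast_emultiplicity 2 _
    rw [e3, e4, e5, ← padicValNat_eq_emultiplicity hne1,
      ← padicValNat_eq_emultiplicity (by omega), ← padicValNat_eq_emultiplicity hk] at h
    exact_mod_cast h
  · have hodd : Odd r := hr.out.odd_of_ne_two h2
    have := padicValNat.pow_sub_pow hodd (show 1 < q by omega) hrq hnd hk
    rwa [one_pow] at this

theorem zmod_eq_one_iff (N x : ℕ) (hx : 1 ≤ x) : ((x : ℕ) : ZMod N) = 1 ↔ N ∣ x - 1 := by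
  rw [← modEq_one_iff N x hx, ← ZMod.natCast_eq_natCast_iff]
  simp

theorem pow_mod_four_of_odd (q k : ℕ) (hq : q % 4 = 3) (hk : Odd k) : q ^ k % 4 = 3 := by
  obtain ⟨j, rfl⟩ := hk
  rw [Nat.pow_mod, hq, pow_succ, pow_mul, Nat.mul_mod, Nat.pow_mod]
  norm_num

theorem forward_min (q n : ℕ) (hq : 2 ≤ q) (hn : 1 < n)
    (L1 : ∀ r : ℕ, r.Prime → r ∣ n → r ∣ q - 1) (L2 : 4 ∣ n → 4 ∣ q - 1)
    (i : ℕ) (hi0 : 0 < i) (hin : i < n) (hD : n * (q - 1) ∣ q ^ i - 1) : False := by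
  obtain ⟨N, hN⟩ : ∃ N, N = n * (q - 1) := ⟨_, rfl⟩
  have hN0 : N ≠ 0 := by
    rw [hN]; exact Nat.mul_ne_zero (by omega) (by omega)
  rw [← hN] at hD
  have hC1 := C1 q hq n (by omega) L1
  rw [← hN] at hC1
  have hxn : ((q : ℕ) : ZMod N) ^ n = 1 := by
    rw [← Nat.cast_pow]; exact (zmod_eq_one_iff N _ (one_le_pow' q n hq)).mpr hC1
  have hxi : ((q : ℕ) : ZMod N) ^ i = 1 := by
    rw [← Nat.cast_pow]; exact (zmod_eq_one_iff N _ (one_le_pow' q i hq)).mpr hD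
  have ho_n := orderOf_dvd_iff_pow_eq_one.mpr hxn
  have ho_i := orderOf_dvd_iff_pow_eq_one.mpr hxi
  obtain ⟨o, ho⟩ : ∃ o, o = orderOf ((q : ℕ) : ZMod N) := ⟨_, rfl⟩
  rw [← ho] at ho_n ho_i
  have ho_pos : 0 < o := Nat.pos_of_dvd_of_pos ho_n (by omega)
  have ho_le : o ≤ i := Nat.le_of_dvd hi0 ho_i
  obtain ⟨c, hc⟩ := ho_n
  have hc2 : c ≠ 1 := by
    rintro rfl
    rw [mul_one] at hc; omega
  have hr := Nat.minFac_prime hc2
  obtain ⟨c', hc'⟩ := Nat.minFac_dvd c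
  obtain ⟨r, hrdef⟩ : ∃ r, r = c.minFac := ⟨_, rfl⟩
  rw [← hrdef] at hr hc'
  haveI : Fact r.Prime := ⟨hr⟩
  obtain ⟨n', hn'⟩ : ∃ n', n' = o * c' := ⟨_, rfl⟩
  have hnr : n = r * n' := by rw [hc, hc', hn']; ring
  have hn'0 : n' ≠ 0 := by
    rintro rfl
    rw [mul_zero] at hnr; omega
  have hxn' : ((q : ℕ) : ZMod N) ^ n' = 1 := by
    rw [hn', pow_mul, ho, pow_orderOf_eq_one, one_pow]
  have hDn' : N ∣ q ^ n' - 1 := by
    rw [← Nat.cast_pow] at hxn'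
    exact (zmod_eq_one_iff N _ (one_le_pow' q n' hq)).mp hxn'
  have hrn : r ∣ n := ⟨n', hnr⟩
  have hrq := L1 r hr hrn
  have hqn'1 : q ^ n' - 1 ≠ 0 := by
    have : 2 ≤ q ^ n' := by
      calc 2 ≤ q := hq
        _ = q ^ 1 := (pow_one q).symm
        _ ≤ q ^ n' := Nat.pow_le_pow_right (by omega) (by omega)
    omega
  by_cases h4 : r = 2 → 4 ∣ q - 1
  · have h1 := lte r q n' hq hrq h4 hn'0
    have h2 : padicValNat r N = padicValNat r n + padicValNat r (q - 1) := by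
      rw [hN]; exact padicValNat.mul (by omega) (by omega)
    have h3 : padicValNat r n = 1 + padicValNat r n' := by
      rw [hnr, padicValNat.mul hr.ne_zero hn'0, padicValNat_self]
    have h5 : r ^ padicValNat r N ∣ q ^ n' - 1 := pow_padicValNat_dvd.trans hDn'
    rw [padicValNat_dvd_iff_le hqn'1] at h5
    omega
  · push Not at h4
    obtain ⟨rfl, h4⟩ := h4
    have h4n : ¬ 4 ∣ n := fun h => h4 (L2 h)
    have hn'odd : Odd n' := by
      rw [← Nat.not_even_iff_odd]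
      rintro ⟨j, hj⟩
      apply h4n
      exact ⟨j, by rw [hnr, hj]; ring⟩
    have hq4 : q % 4 = 3 := by
      obtain ⟨j, hj⟩ := hrq
      have : ¬ 2 ∣ j := by
        rintro ⟨l, rfl⟩
        exact h4 ⟨l, by rw [hj]; ring⟩
      omega
    have h4N : 4 ∣ N := by
      rw [hN, hnr]
      obtain ⟨j, hj⟩ := hrq
      exact ⟨n' * j, by rw [hj]; ring⟩
    have := pow_mod_four_of_odd q n' hq4 hn'odd
    have h6 := h4N.trans hDn'
    have h7 := one_le_pow' q n' hq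
    omega

theorem geom_sum_modEq (t Q k : ℕ) (hQ : 1 ≤ Q) (h : t ∣ Q - 1) :
    ∑ i ∈ Finset.range k, Q ^ i ≡ k [MOD t] := by
  have h1 : Q ≡ 1 [MOD t] := (modEq_one_iff t Q hQ).mpr h
  have h2 : ∑ i ∈ Finset.range k, Q ^ i ≡ ∑ _i ∈ Finset.range k, 1 [MOD t] := by
    apply Nat.ModEq.sum
    intro i _
    simpa using h1.pow i
  rwa [Finset.sum_const, Finset.card_range, smul_eq_mul, mul_one] at h2

theorem backward1 (q n : ℕ) (hq : 2 ≤ q) (hn : 1 < n) (A : n * (q - 1) ∣ q ^ n - 1)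
    (B : ∀ i : ℕ, 0 < i → i < n → ¬ n * (q - 1) ∣ q ^ i - 1) :
    ∀ r : ℕ, r.Prime → r ∣ n → r ∣ q - 1 := by
  by_contra hcon
  push Not at hcon
  obtain ⟨r₀, hr₀, hr₀n, hr₀q⟩ := hcon
  obtain ⟨S, hS⟩ : ∃ S, S = n.primeFactors.filter (fun r => ¬ r ∣ q - 1) := ⟨_, rfl⟩
  have hSne : S.Nonempty := ⟨r₀, by
    rw [hS, Finset.mem_filter, Nat.mem_primeFactors]
    exact ⟨⟨hr₀, hr₀n, by omega⟩, hr₀q⟩⟩
  obtain ⟨s, hs⟩ : ∃ s, s = S.max' hSne := ⟨_, rfl⟩
  have hsS : s ∈ S := by rw [hs]; exact Finset.max'_mem S hSne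
  have hmax : ∀ t : ℕ, t.Prime → t ∣ n → ¬ t ∣ q - 1 → t ≤ s := by
    intro t ht htn htq
    rw [hs]
    apply Finset.le_max'
    rw [hS, Finset.mem_filter, Nat.mem_primeFactors]
    exact ⟨⟨ht, htn, by omega⟩, htq⟩
  rw [hS, Finset.mem_filter, Nat.mem_primeFactors] at hsS
  obtain ⟨⟨hsp, hsn, _⟩, hsq⟩ := hsS
  haveI : Fact s.Prime := ⟨hsp⟩
  obtain ⟨a, m, hsm, hnam⟩ := Nat.exists_eq_pow_mul_and_not_dvd (show n ≠ 0 by omega) s hsp.ne_one
  have ha : a ≠ 0 := by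
    rintro rfl
    rw [pow_zero, one_mul] at hnam
    rw [hnam] at hsn
    exact hsm hsn
  obtain ⟨a', rfl⟩ : ∃ a', a = a' + 1 := ⟨a - 1, by omega⟩
  obtain ⟨n', hn'⟩ : ∃ n', n' = s ^ a' * m := ⟨_, rfl⟩
  have hnn' : n = n' * s := by rw [hnam, hn']; ring
  have hm0 : m ≠ 0 := by
    rintro rfl
    rw [mul_zero] at hnam; omega
  have hn'pos : 0 < n' := by
    rw [hn']; exact Nat.mul_pos (pow_pos hsp.pos _) (Nat.pos_of_ne_zero hm0)
  have hn'lt : n' < n := by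
    rw [hnn']; nlinarith [hsp.two_le]
  obtain ⟨Q, hQ⟩ : ∃ Q, Q = q ^ n' := ⟨_, rfl⟩
  have hQ1 : 1 ≤ Q := by rw [hQ]; exact one_le_pow' q n' hq
  have hQs : Q ^ s = q ^ n := by rw [hQ, ← pow_mul, ← hnn']
  -- (i)
  have h_i : s ^ (a' + 1) ∣ Q - 1 := by
    have hsqn : s ∣ q ^ n - 1 := (hsn.trans (Dvd.intro _ rfl)).trans A
    have hx : ((q : ℕ) : ZMod s) ^ m = 1 := by
      have h1 : ((q : ℕ) : ZMod s) ^ n = 1 := by
        rw [← Nat.cast_pow]; exact (zmod_eq_one_iff s _ (one_le_pow' q n hq)).mpr hsqn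
      rw [hnam, pow_mul, ZMod.pow_card_pow] at h1
      exact h1
    have hsqm : s ∣ q ^ m - 1 := by
      rw [← Nat.cast_pow] at hx
      exact (zmod_eq_one_iff s _ (one_le_pow' q m hq)).mp hx
    have hz : ((s : ℕ) : ℤ) ∣ ((q ^ m : ℕ) : ℤ) - 1 := by
      have := Int.natCast_dvd_natCast.mpr hsqm
      rwa [Nat.cast_sub (one_le_pow' q m hq), Nat.cast_one] at this
    have h2 := dvd_sub_pow_of_dvd_sub hz a'
    rw [one_pow] at h2
    have h3 : ((s : ℕ) : ℤ) ^ (a' + 1) ∣ ((Q - 1 : ℕ) : ℤ) := by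
      rw [Nat.cast_sub hQ1, hQ, hn']
      have e : (((q ^ (s ^ a' * m) : ℕ) : ℤ) - ((1 : ℕ) : ℤ)) =
          ((q ^ m : ℕ) : ℤ) ^ s ^ a' - 1 := by
        push_cast
        rw [← pow_mul, mul_comm]
      rw [e]
      exact h2
    exact_mod_cast h3
  -- (ii)
  obtain ⟨M, hM⟩ : ∃ M, M = m * (q - 1) := ⟨_, rfl⟩
  have hNM : n * (q - 1) = s ^ (a' + 1) * M := by rw [hnam, hM]; ring
  have hsM : ¬ s ∣ M := by
    rw [hM]
    intro h
    rcases (Nat.Prime.dvd_mul hsp).mp h with h | h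
    · exact hsm h
    · exact hsq h
  have hQexp : Q ^ s - 1 = (∑ i ∈ Finset.range s, Q ^ i) * (Q - 1) := pow_sub_one_eq Q s hQ1
  have hMdvd : M ∣ (∑ i ∈ Finset.range s, Q ^ i) * (Q - 1) := by
    rw [← hQexp, hQs]
    exact (Dvd.intro_left _ hNM.symm).trans A
  have hcop : Nat.Coprime M (∑ i ∈ Finset.range s, Q ^ i) := by
    apply Nat.coprime_of_dvd
    intro t ht htM htΦ
    have : Fact t.Prime := ⟨ht⟩
    by_cases htQ : t ∣ Q - 1
    · have h1 := geom_sum_modEq t Q s hQ1 htQ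
      have h2 : t ∣ s := by
        have := (Nat.modEq_zero_iff_dvd.mpr htΦ).symm.trans h1
        exact Nat.modEq_zero_iff_dvd.mp this.symm
      have h3 : t = s := (Nat.prime_dvd_prime_iff_eq ht hsp).mp h2
      rw [h3] at htM
      exact hsM htM
    · have htQs : t ∣ Q ^ s - 1 := by
        rw [hQexp]; exact Dvd.dvd.mul_right htΦ _
      have hy : ((Q : ℕ) : ZMod t) ^ s = 1 := by
        rw [← Nat.cast_pow]
        exact (zmod_eq_one_iff t _ (Nat.one_le_pow _ _ hQ1)).mpr htQs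
      have hy1 : ((Q : ℕ) : ZMod t) ≠ 1 := by
        intro h
        exact htQ ((zmod_eq_one_iff t Q hQ1).mp h)
      have hord : orderOf ((Q : ℕ) : ZMod t) = s := orderOf_eq_prime hy hy1
      have hy0 : ((Q : ℕ) : ZMod t) ≠ 0 := by
        intro h
        rw [h, zero_pow hsp.ne_zero] at hy
        exact zero_ne_one hy
      have h1 := ZMod.orderOf_dvd_card_sub_one hy0
      rw [hord] at h1
      have hst : s < t := by
        have := Nat.le_of_dvd (by have := ht.two_le; omega) h1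
        have := ht.two_le
        omega
      rw [hM] at htM
      rcases (Nat.Prime.dvd_mul ht).mp htM with h | h
      · have htn : t ∣ n := by rw [hnam]; exact Dvd.dvd.mul_left h _
        have htq : ¬ t ∣ q - 1 := by
          intro h'
          apply htQ
          rw [hQ]
          exact h'.trans (Nat.sub_one_dvd_pow_sub_one q n')
        have := hmax t ht htn htq
        omega
      · apply htQ
        rw [hQ]
        exact h.trans (Nat.sub_one_dvd_pow_sub_one q n')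
  have h_ii : M ∣ Q - 1 := hcop.dvd_of_dvd_mul_left hMdvd
  -- (iii)
  have hcop2 : Nat.Coprime (s ^ (a' + 1)) M :=
    Nat.Coprime.pow_left _ ((Nat.Prime.coprime_iff_not_dvd hsp).mpr hsM)
  have hfin : n * (q - 1) ∣ Q - 1 := by
    rw [hNM]
    exact hcop2.mul_dvd_of_dvd_of_dvd h_i h_ii
  rw [hQ] at hfin
  exact B n' hn'pos hn'lt hfin

theorem backward2 (q n : ℕ) (hq : 2 ≤ q) (hn : 1 < n) (A : n * (q - 1) ∣ q ^ n - 1)
    (B : ∀ i : ℕ, 0 < i → i < n → ¬ n * (q - 1) ∣ q ^ i - 1)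
    (L1 : ∀ r : ℕ, r.Prime → r ∣ n → r ∣ q - 1) (h4n : 4 ∣ n) : 4 ∣ q - 1 := by
  by_contra h4q
  have h2n : 2 ∣ n := (by norm_num : 2 ∣ 4).trans h4n
  have h2q : 2 ∣ q - 1 := L1 2 Nat.prime_two h2n
  obtain ⟨j, hj⟩ := h2q
  have hjodd : ¬ 2 ∣ j := by
    rintro ⟨l, rfl⟩
    exact h4q ⟨l, by rw [hj]; ring⟩
  have hq4 : q % 4 = 3 := by omega
  have hq2 : ¬ 2 ∣ q := by omega
  obtain ⟨a, m, hm2, hnam⟩ := Nat.exists_eq_pow_mul_and_not_dvd (show n ≠ 0 by omega) 2 (by norm_num)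
  have ha2 : 2 ≤ a := by
    by_contra hcon
    have : a = 0 ∨ a = 1 := by omega
    rcases this with rfl | rfl
    · rw [pow_zero, one_mul] at hnam
      rw [hnam] at h2n; exact hm2 h2n
    · rw [pow_one] at hnam
      rw [hnam] at h4n
      obtain ⟨l, hl⟩ := h4n
      exact hm2 ⟨l, by omega⟩
  obtain ⟨a'', rfl⟩ : ∃ a'', a = a'' + 2 := ⟨a - 2, by omega⟩
  obtain ⟨n', hn'⟩ : ∃ n', n' = 2 ^ (a'' + 1) * m := ⟨_, rfl⟩
  have hnn' : n = n' * 2 := by rw [hnam, hn']; ring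
  have hm0 : m ≠ 0 := by
    rintro rfl
    rw [mul_zero] at hnam; omega
  have hn'pos : 0 < n' := by
    rw [hn']; exact Nat.mul_pos (pow_pos (by norm_num) _) (Nat.pos_of_ne_zero hm0)
  have hn'lt : n' < n := by omega
  have hn'even : Even n' := by
    rw [hn', pow_succ]
    exact ⟨2 ^ a'' * m, by ring⟩
  obtain ⟨Q, hQ⟩ : ∃ Q, Q = q ^ n' := ⟨_, rfl⟩
  have hQ1 : 1 ≤ Q := by rw [hQ]; exact one_le_pow' q n' hq
  have hQ2 : 2 ≤ Q := by
    rw [hQ]
    calc 2 ≤ q := hq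
      _ = q ^ 1 := (pow_one q).symm
      _ ≤ q ^ n' := Nat.pow_le_pow_right (by omega) (by omega)
  have hQs : Q ^ 2 = q ^ n := by rw [hQ, ← pow_mul, ← hnn']
  haveI : Fact (Nat.Prime 2) := ⟨Nat.prime_two⟩
  -- (i)
  have h_i : 2 ^ (a'' + 3) ∣ Q - 1 := by
    have h1 := padicValNat.pow_two_sub_one (show 1 < q by omega) hq2 (by omega : n' ≠ 0) hn'even
    have h2 : 2 ≤ padicValNat 2 (q + 1) := by
      rw [← padicValNat_dvd_iff_le (by omega)]
      exact ⟨(q + 1) / 4, by omega⟩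
    have h3 : 1 ≤ padicValNat 2 (q - 1) := by
      rw [← padicValNat_dvd_iff_le (by omega), pow_one]
      exact ⟨j, hj⟩
    have h4 : padicValNat 2 n' = a'' + 1 := by
      rw [hn', padicValNat.mul (pow_ne_zero _ (by norm_num)) hm0, padicValNat.prime_pow,
        padicValNat.eq_zero_of_not_dvd hm2, add_zero]
    rw [hQ, padicValNat_dvd_iff_le (by rw [← hQ]; omega)]
    omega
  -- (ii)
  obtain ⟨M, hM⟩ : ∃ M, M = m * j := ⟨_, rfl⟩
  have hNM : n * (q - 1) = 2 ^ (a'' + 3) * M := by rw [hnam, hM, hj]; ring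
  have h2M : ¬ 2 ∣ M := by
    rw [hM]
    intro h
    rcases (Nat.Prime.dvd_mul Nat.prime_two).mp h with h | h
    · exact hm2 h
    · exact hjodd h
  have hQexp : Q ^ 2 - 1 = (Q + 1) * (Q - 1) := by
    have : 1 ≤ Q ^ 2 := Nat.one_le_pow _ _ hQ1
    zify [this, hQ1]
    ring
  have hMdvd : M ∣ (Q + 1) * (Q - 1) := by
    rw [← hQexp, hQs]
    exact (Dvd.intro_left _ hNM.symm).trans A
  have hcop : Nat.Coprime M (Q + 1) := by
    apply Nat.coprime_of_dvd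
    intro t ht htM htQ
    have htq : t ∣ q - 1 := by
      rw [hM] at htM
      rcases (Nat.Prime.dvd_mul ht).mp htM with h | h
      · exact L1 t ht (by rw [hnam]; exact Dvd.dvd.mul_left h _)
      · rw [hj]; exact Dvd.dvd.mul_left h _
    have htQ1 : t ∣ Q - 1 := by
      rw [hQ]; exact htq.trans (Nat.sub_one_dvd_pow_sub_one q n')
    have ht2 : t ∣ 2 := by
      have := Nat.dvd_sub htQ htQ1
      have e : Q + 1 - (Q - 1) = 2 := by omega
      rwa [e] at this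
    have : t = 2 := (Nat.prime_dvd_prime_iff_eq ht Nat.prime_two).mp ht2
    rw [this] at htM
    exact h2M htM
  have h_ii : M ∣ Q - 1 := hcop.dvd_of_dvd_mul_left hMdvd
  have hcop2 : Nat.Coprime (2 ^ (a'' + 3)) M :=
    Nat.Coprime.pow_left _ ((Nat.Prime.coprime_iff_not_dvd Nat.prime_two).mpr h2M)
  have hfin : n * (q - 1) ∣ Q - 1 := by
    rw [hNM]
    exact hcop2.mul_dvd_of_dvd_of_dvd h_i h_ii
  rw [hQ] at hfin
  exact B n' hn'pos hn'lt hfin


/-- The Dickson pair condition: for a prime power `q` and `n > 1`, (every prime factor of `n` divides `q - 1`, and `4 ∣ n → 4 ∣ q - 1`) holds exactly when `q ^ n ≡ 1` modulo `n * (q - 1)` but `q ^ i` is not, for `0 < i < n`. -/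
theorem result (q n : ℕ) (hq : IsPrimePow q) (hn : 1 < n) : ((∀ r : ℕ, r.Prime → r ∣ n → r ∣ q - 1) ∧ (4 ∣ n → 4 ∣ q - 1)) ↔ (q ^ n ≡ 1 [MOD n * (q - 1)] ∧ ∀ i : ℕ, 0 < i → i < n → ¬ q ^ i ≡ 1 [MOD n * (q - 1)]) := by
  have hq2 : 2 ≤ q := hq.two_le
  have key : ∀ i : ℕ, q ^ i ≡ 1 [MOD n * (q - 1)] ↔ n * (q - 1) ∣ q ^ i - 1 :=
    fun i => modEq_one_iff _ _ (one_le_pow' q i hq2)
  simp only [key]
  constructor
  · rintro ⟨L1, L2⟩
    exact ⟨C1 q hq2 n (by omega) L1, fun i hi0 hin hD => forward_min q n hq2 hn L1 L2 i hi0 hin hD⟩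
  · rintro ⟨A, B⟩
    have L1 := backward1 q n hq2 hn A B
    exact ⟨L1, backward2 q n hq2 hn A B L1⟩

end Cfsg.Agent.S0694
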