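import Cfsg.Statements.S0695
import Cfsg.Agent.Lib_helper18_KPrim

set_option autoImplicit false
open Cfsg

namespace Cfsg.Agent.S0695

open Cfsg.Agent.helper18 MulAction

/-- A regular normal subgroup of a doubly primitive group of finite degree at least 2 is an elementary abelian 2-group (and the degree is a power of 2), unless the degree is 3. -/
theorem result {G : Type*} [Group G] {X : Type*} [Fintype X] [MulAction G X] (hX : 2 ≤ Fintype.card X) (h2 : MulAction.IsMultiplyPreprimitive G X 2) (N : Subgroup G) [N.Normal] (htrans : MulAction.IsPretransitive N X) (hreg : ∀ x : X, MulAction.stabilizer N x = ⊥) : Fintype.card X = 3 ∨ (IsMulCommutative N ∧ (∀ n ∈ N, n ^ 2 = 1) ∧ ∃ m : ℕ, Fintype.card X = 2 ^ m) := by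
  classical
  have hne : Nonempty X := by
    rw [← Fintype.card_pos_iff]
    omega
  obtain ⟨a⟩ := hne
  have hprim : IsPreprimitive (fixingSubgroup G ({a} : Set X))
      (SubMulAction.ofFixingSubgroup G ({a} : Set X)) := by
    apply IsMultiplyPreprimitive.isPreprimitive_ofFixingSubgroup G 2
    rw [Set.encard_singleton]
    rfl
  have hB := blockTriv_top_stab_of_isPreprimitive a hprim
  have hR := sreg_of_stabilizer_eq_bot N hreg
  rcases sq_eq_one_or_ncard_three fixes_top_empty (nnormal_top N) hR (Set.notMem_empty a) hB
    with h | hE
  · left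
    rw [Set.compl_empty, Set.ncard_univ, Nat.card_eq_fintype_card] at h
    exact h
  · right
    refine ⟨⟨⟨fun x y => ?_⟩⟩, hE, ?_⟩
    · apply mul_comm_of_sq_eq_one
      intro c
      apply Subtype.ext
      have := hE c c.2
      simpa using this
    · have hbij : Function.Bijective (fun n : N => n • a) := by
        constructor
        · intro n m hnm
          have h1 : (n : G) • a = (m : G) • a := hnm
          exact Subtype.ext (eq_of_smul_eq_of_sreg hR (Set.notMem_empty a) n.2 m.2 h1)
        · intro x
          exact htrans.exists_smul_eq a x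
      haveI : Finite N := Finite.of_injective _ hbij.1
      have hcard : Nat.card N = Fintype.card X := by
        rw [Nat.card_eq_of_bijective _ hbij, Nat.card_eq_fintype_card]
      haveI : Fact (Nat.Prime 2) := ⟨Nat.prime_two⟩
      have hp : IsPGroup 2 N := by
        intro g
        refine ⟨1, ?_⟩
        apply Subtype.ext
        have := hE g g.2
        simpa using this
      obtain ⟨m, hm⟩ := IsPGroup.iff_card.mp hp
      exact ⟨m, by rw [← hcard, hm]⟩

end Cfsg.Agent.S0695
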