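import Cfsg.Statements.S0696
import Cfsg.Agent.Lib_helper18_KPrim

set_option autoImplicit false
open Cfsg

namespace Cfsg.Agent.S0696

open Cfsg.Agent.helper18 MulAction

/-- A triply primitive group of degree at least 3 having a regular normal subgroup has degree 3 or 4. -/
theorem result {G : Type*} [Group G] {X : Type*} [Fintype X] [MulAction G X] (hX : 3 ≤ Fintype.card X) (h3 : MulAction.IsMultiplyPreprimitive G X 3) (N : Subgroup G) [N.Normal] (htrans : MulAction.IsPretransitive N X) (hreg : ∀ x : X, MulAction.stabilizer N x = ⊥) : Fintype.card X = 3 ∨ Fintype.card X = 4 := by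
  classical
  have hne : Nonempty X := by
    rw [← Fintype.card_pos_iff]
    omega
  obtain ⟨a⟩ := hne
  have h2 : IsMultiplyPreprimitive G X 2 := by
    apply isMultiplyPreprimitive_of_le G X h3 (by norm_num)
    rw [ENat.card_eq_coe_fintype_card]
    exact_mod_cast hX
  have hprim : IsPreprimitive (fixingSubgroup G ({a} : Set X))
      (SubMulAction.ofFixingSubgroup G ({a} : Set X)) := by
    apply IsMultiplyPreprimitive.isPreprimitive_ofFixingSubgroup G 2
    rw [Set.encard_singleton]
    rfl
  have hB1 := blockTriv_top_stab_of_isPreprimitive a hprim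
  have hB2 : ∀ b, b ∉ insert a (∅ : Set X) →
      BlockTriv ((⊤ : Subgroup G) ⊓ stabilizer G a ⊓ stabilizer G b)
        (insert b (insert a (∅ : Set X))) := by
    intro b hb
    have hba : b ≠ a := by
      intro h
      apply hb
      rw [h]
      exact Set.mem_insert a _
    apply blockTriv_top_stab_stab_of_isPreprimitive
    apply IsMultiplyPreprimitive.isPreprimitive_ofFixingSubgroup G 3
    rw [Set.encard_pair hba]
    rfl
  have hR := sreg_of_stabilizer_eq_bot N hreg
  have hT := kt_one_of_isPretransitive N htrans
  have hcard : ((∅ : Set X)ᶜ).ncard = Fintype.card X := by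
    rw [Set.compl_empty, Set.ncard_univ, Nat.card_eq_fintype_card]
  have := ncard_three_or_four fixes_top_empty (nnormal_top N) hT hR (Set.notMem_empty a)
    (by rw [hcard]; exact hX) hB1 hB2
  rw [hcard] at this
  exact this

end Cfsg.Agent.S0696
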