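import Cfsg.Statements.S0697
import Cfsg.Agent.Lib_helper18_KPrim2

set_option autoImplicit false
open Cfsg

namespace Cfsg.Agent.S0697

open Cfsg.Agent.helper18 MulAction

/-- In a `k`-primitive permutation group which is not the whole symmetric group, a non-trivial non-regular normal subgroup is `k`-transitive. -/
theorem result {α : Type*} [Fintype α] [DecidableEq α] (G : Subgroup (Equiv.Perm α)) {k : ℕ} (hk : 1 ≤ k) (hkn : k ≤ Fintype.card α) (hG : MulAction.IsMultiplyPreprimitive G α k) (htop : G ≠ ⊤) (H : Subgroup G) [H.Normal] (hH : H ≠ ⊥) (hnr : ∃ a : α, MulAction.stabilizer H a ≠ ⊥) : MulAction.IsMultiplyPretransitive H α k := by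
  classical
  have hcardα : Nat.card α = Fintype.card α := Nat.card_eq_fintype_card
  have hKT : KT (⊤ : Subgroup G) (∅ : Set α) k :=
    kt_top_of_isMultiplyPretransitive (by omega) hG.isMultiplyPretransitive
  have hKP : KP (⊤ : Subgroup G) (∅ : Set α) k := by
    refine ⟨hKT, fun T _ hT => ?_⟩
    rw [Set.diff_empty] at hT
    have hprim : IsPreprimitive (fixingSubgroup G T) (SubMulAction.ofFixingSubgroup G T) := by
      apply IsMultiplyPreprimitive.isPreprimitive_ofFixingSubgroup G k
      rw [← hT, Nat.cast_add, Set.Finite.cast_ncard_eq (Set.toFinite T)]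
      rfl
    exact (blockTriv_of_isPreprimitive T hprim).mono (le_inf le_top le_rfl)
  have hcard : k ≤ ((∅ : Set α)ᶜ).ncard := by
    rw [Set.compl_empty, Set.ncard_univ, hcardα]
    exact hkn
  have hnR : ¬ SReg H (∅ : Set α) := by
    intro hR
    obtain ⟨a, ha⟩ := hnr
    apply ha
    rw [eq_bot_iff]
    intro h hh
    rw [Subgroup.mem_bot]
    have h1 : ((h : G)) • a = a := mem_stabilizer_iff.mp hh
    exact Subtype.ext (hR (h : G) h.2 a (Set.notMem_empty a) h1)
  have hnF : ¬ FullSym (⊤ : Subgroup G) (∅ : Set α) := by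
    intro hF
    apply htop
    rw [eq_top_iff]
    intro σ _
    obtain ⟨g, -, hg⟩ := hF σ (fun z hz => absurd hz (Set.notMem_empty z))
    have h1 : (g : Equiv.Perm α) = σ := by
      ext x
      exact hg x
    rw [← h1]
    exact g.2
  have := wielandt_normal (G := G) (X := α) k hk ∅ ⊤ H fixes_top_empty (nnormal_top H) hKP hcard
    hnR hnF
  exact isMultiplyPretransitive_of_kt H this

end Cfsg.Agent.S0697
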