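import Cfsg.Statements.S0698
import Cfsg.Agent.Lib_helper18_KTrans

set_option autoImplicit false
open Cfsg

namespace Cfsg.Agent.S0698

open Cfsg.Agent.helper18

/-- Jordan's Theorem on normal subgroups of multiply transitive groups: if `G` is `k`-transitive (`k > 1`) of degree greater than `k`, a non-trivial normal subgroup is `(k-1)`-transitive, except possibly for `k = 3` when it may be an elementary abelian 2-group. -/
theorem result {α : Type*} [Fintype α] [DecidableEq α] (G : Subgroup (Equiv.Perm α)) {k : ℕ} (hk : 1 < k) (hdeg : k < Fintype.card α) (hG : MulAction.IsMultiplyPretransitive G α k) (N : Subgroup G) [N.Normal] (hN : N ≠ ⊥) : MulAction.IsMultiplyPretransitive N α (k - 1) ∨ (k = 3 ∧ IsMulCommutative N ∧ ∀ n ∈ N, n ^ 2 = 1) := by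
  classical
  have hcardα : Nat.card α = Fintype.card α := Nat.card_eq_fintype_card
  have hKT : KT (⊤ : Subgroup G) (∅ : Set α) k :=
    kt_top_of_isMultiplyPretransitive (by omega) hG
  have hF : Fixes (⊤ : Subgroup G) (∅ : Set α) := fun _ _ z hz => absurd hz (Set.notMem_empty z)
  have hNN : NNormal (⊤ : Subgroup G) N :=
    ⟨le_top, fun g _ n hn => Subgroup.Normal.conj_mem inferInstance n hn g⟩
  have hcard : k < ((∅ : Set α)ᶜ).ncard := by
    rw [Set.compl_empty, Set.ncard_univ, hcardα]
    exact hdeg
  rcases jordan_normal (G := G) (X := α) k hk ∅ ⊤ N hF hNN hN hKT hcard with h | ⟨h3, _, hE⟩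
  · left
    exact isMultiplyPretransitive_of_kt N h
  · right
    refine ⟨h3, ⟨⟨fun a b => ?_⟩⟩, hE⟩
    apply mul_comm_of_sq_eq_one
    intro c
    apply Subtype.ext
    have := hE c c.2
    simpa using this

end Cfsg.Agent.S0698
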