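import Cfsg.Statements.S0700
import Cfsg.Agent.Lib_helper18_Burnside2T

set_option autoImplicit false
open Cfsg

namespace Cfsg.Agent.S0700

open Cfsg.Agent.helper18.B2T

/-- Burnside's theorem: a minimal normal subgroup of a finite `2`-transitive group is either elementary abelian and regular, or nonabelian simple and primitive. -/
theorem result {α : Type*} [Fintype α] [DecidableEq α] (G : Subgroup (Equiv.Perm α)) (hG : MulAction.IsMultiplyPretransitive G α 2) (N : Subgroup G) [N.Normal] (hN : N ≠ ⊥) (hmin : ∀ M : Subgroup G, M.Normal → M ≤ N → M = ⊥ ∨ M = N) : (IsMulCommutative N ∧ (∃ p : ℕ, p.Prime ∧ ∀ n ∈ N, n ^ p = 1) ∧ ∀ a : α, MulAction.stabilizer N a = ⊥) ∨ (IsSimpleGroup N ∧ MulAction.IsPreprimitive N α) := by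
  have h2 : TwoT G α := by
    intro a b c d hab hcd
    exact MulAction.is_two_pretransitive_iff.mp hG hab hcd
  by_cases hs : SemiReg N α
  · left
    obtain ⟨hc, p, hp, hexp⟩ := elementary_of_semiReg h2 N hN hmin hs
    refine ⟨⟨⟨fun a b => Subtype.ext (hc a a.2 b b.2)⟩⟩, ⟨p, hp, hexp⟩, ?_⟩
    intro a
    rw [eq_bot_iff]
    intro m hm
    rw [Subgroup.mem_bot]
    apply Subtype.ext
    exact hs (m : G) m.2 a hm
  · right
    have hprim := isPreprimitive_of_not_semiReg h2 N hN hmin hs
    exact ⟨isSimpleGroup_of_isPreprimitive h2 N hN hmin hprim hs, hprim⟩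

end Cfsg.Agent.S0700
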