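import Cfsg.Statements.S0701
-- import your own Cfsg.Agent.* helpers here

set_option autoImplicit false
open Cfsg

namespace Cfsg.Agent.S0701


/-- The centraliser in the full symmetric group of a transitive permutation group `G` is semiregular, and it is transitive if and only if `G` is regular. -/
theorem result {α : Type*} (G : Subgroup (Equiv.Perm α)) [MulAction.IsPretransitive G α] : (∀ c ∈ Subgroup.centralizer (G : Set (Equiv.Perm α)), ∀ a : α, c a = a → c = 1) ∧ (MulAction.IsPretransitive (Subgroup.centralizer (G : Set (Equiv.Perm α))) α ↔ ∀ a : α, MulAction.stabilizer G a = ⊥) := by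
  have hcomm : ∀ c ∈ Subgroup.centralizer (G : Set (Equiv.Perm α)), ∀ g : G, ∀ x : α,
      c ((g : Equiv.Perm α) x) = (g : Equiv.Perm α) (c x) := by
    intro c hc g x
    have := hc (g : Equiv.Perm α) g.2
    have h2 := congrArg (fun σ : Equiv.Perm α => σ x) this
    simp only [Equiv.Perm.coe_mul, Function.comp_apply] at h2
    exact h2.symm
  have htr : ∀ a b : α, ∃ g : G, (g : Equiv.Perm α) a = b := by
    intro a b
    obtain ⟨g, hg⟩ := MulAction.exists_smul_eq G a b
    exact ⟨g, hg⟩
  refine ⟨?_, ?_, ?_⟩
  · intro c hc a hca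
    ext b
    obtain ⟨g, rfl⟩ := htr a b
    rw [hcomm c hc g a, hca]
    rfl
  · intro hC a
    rw [Subgroup.eq_bot_iff_forall]
    intro g hg
    rw [MulAction.mem_stabilizer_iff] at hg
    have hg' : (g : Equiv.Perm α) a = a := hg
    apply Subtype.ext
    ext b
    obtain ⟨c, hc⟩ := MulAction.exists_smul_eq (Subgroup.centralizer (G : Set (Equiv.Perm α))) a b
    have hcb : (c : Equiv.Perm α) a = b := hc
    rw [← hcb, ← hcomm c c.2 g a, hg']
    rfl
  · intro hreg
    have hinj : ∀ a : α, Function.Injective (fun g : G => (g : Equiv.Perm α) a) := by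
      intro a g h hgh
      have : g⁻¹ * h ∈ MulAction.stabilizer G a := by
        rw [MulAction.mem_stabilizer_iff]
        change ((g⁻¹ * h : G) : Equiv.Perm α) a = a
        simp only [Subgroup.coe_mul, Subgroup.coe_inv, Equiv.Perm.coe_mul, Function.comp_apply]
        have hgh' : (g : Equiv.Perm α) a = (h : Equiv.Perm α) a := hgh
        rw [← hgh']
        simp
      rw [hreg a, Subgroup.mem_bot] at this
      exact (inv_mul_eq_one.mp this)
    have hbij : ∀ a : α, Function.Bijective (fun g : G => (g : Equiv.Perm α) a) :=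
      fun a => ⟨hinj a, fun b => htr a b⟩
    refine ⟨fun a b => ?_⟩
    let ea := Equiv.ofBijective _ (hbij a)
    let eb := Equiv.ofBijective _ (hbij b)
    let c : Equiv.Perm α := ea.symm.trans eb
    have hc_apply : ∀ g : G, c ((g : Equiv.Perm α) a) = (g : Equiv.Perm α) b := by
      intro g
      have : ea.symm ((g : Equiv.Perm α) a) = g := by
        rw [Equiv.symm_apply_eq]; rfl
      simp only [c, Equiv.trans_apply, this]
      rfl
    have hc_mem : c ∈ Subgroup.centralizer (G : Set (Equiv.Perm α)) := by
      rw [Subgroup.mem_centralizer_iff]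
      intro h hh
      ext x
      obtain ⟨g, rfl⟩ := htr a x
      simp only [Equiv.Perm.coe_mul, Function.comp_apply]
      rw [hc_apply g]
      have h1 : h ((g : Equiv.Perm α) a) = ((⟨h, hh⟩ * g : G) : Equiv.Perm α) a := by
        simp
      have h2 : h ((g : Equiv.Perm α) b) = ((⟨h, hh⟩ * g : G) : Equiv.Perm α) b := by
        simp
      rw [h1, h2, hc_apply]
    refine ⟨⟨c, hc_mem⟩, ?_⟩
    change c a = b
    have := hc_apply 1
    simpa using this

end Cfsg.Agent.S0701
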