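import Cfsg.Statements.S0702
-- import your own Cfsg.Agent.* helpers here
import Mathlib

set_option autoImplicit false
open Cfsg

namespace Cfsg.Agent.S0702

section
variable {α : Type*} (G : Subgroup (Equiv.Perm α)) [MulAction.IsPretransitive G α] (a : α)

/-- a chosen representative -/
noncomputable def rep (x : α) : G := Classical.choose (MulAction.exists_smul_eq G a x)

theorem rep_spec (x : α) : rep G a x • a = x := Classical.choose_spec (MulAction.exists_smul_eq G a x)

noncomputable def F (n : G) (x : α) : α := (rep G a x * n⁻¹) • a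

theorem F_key (n : G) (hn : n ∈ Subgroup.normalizer ((MulAction.stabilizer G a : Subgroup G) : Set G))
    (g : G) : F G a n (g • a) = (g * n⁻¹) • a := by
  unfold F
  set r := rep G a (g • a) with hr
  have hra : r • a = g • a := rep_spec G a (g • a)
  have h1 : g⁻¹ * r ∈ MulAction.stabilizer G a := by
    rw [MulAction.mem_stabilizer_iff, mul_smul, hra, inv_smul_smul]
  have h2 := (Subgroup.mem_normalizer_iff.mp hn (g⁻¹ * r)).mp h1
  rw [MulAction.mem_stabilizer_iff] at h2
  have : (r * n⁻¹) • a = (g * n⁻¹) • ((n * (g⁻¹ * r) * n⁻¹) • a) := by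
    rw [← mul_smul]; congr 1; group
  rw [this, h2]

theorem F_one (x : α) : F G a 1 x = x := by
  unfold F
  rw [inv_one, mul_one, rep_spec]

theorem F_mul (n m : G) (hn : n ∈ Subgroup.normalizer ((MulAction.stabilizer G a : Subgroup G) : Set G))
    (x : α) : F G a n (F G a m x) = F G a (n * m) x := by
  have : F G a m x = (rep G a x * m⁻¹) • a := rfl
  rw [this, F_key G a n hn]
  unfold F
  rw [mul_inv_rev, mul_assoc]

noncomputable def cperm
    (n : Subgroup.normalizer ((MulAction.stabilizer G a : Subgroup G) : Set G)) : Equiv.Perm α where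
  toFun := F G a n.1
  invFun := F G a (n.1)⁻¹
  left_inv x := by rw [F_mul G a _ _ (inv_mem n.2), inv_mul_cancel, F_one]
  right_inv x := by rw [F_mul G a _ _ n.2, mul_inv_cancel, F_one]

theorem cperm_apply (n : Subgroup.normalizer ((MulAction.stabilizer G a : Subgroup G) : Set G))
    (g : G) : cperm G a n (g • a) = (g * n.1⁻¹) • a := F_key G a n.1 n.2 g

theorem cperm_mem (n : Subgroup.normalizer ((MulAction.stabilizer G a : Subgroup G) : Set G)) :
    cperm G a n ∈ Subgroup.centralizer (G : Set (Equiv.Perm α)) := by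
  rw [Subgroup.mem_centralizer_iff]
  intro h hh
  ext x
  obtain ⟨g, rfl⟩ := MulAction.exists_smul_eq G a x
  rw [Equiv.Perm.mul_apply, Equiv.Perm.mul_apply, cperm_apply]
  have : h (g • a) = ((⟨h, hh⟩ : G) * g) • a := by rw [mul_smul]; rfl
  rw [this, cperm_apply, mul_assoc, mul_smul]; rfl

noncomputable def Φ : Subgroup.normalizer ((MulAction.stabilizer G a : Subgroup G) : Set G) →*
    Subgroup.centralizer (G : Set (Equiv.Perm α)) where
  toFun n := ⟨cperm G a n, cperm_mem G a n⟩
  map_one' := by
    apply Subtype.ext; ext x; exact F_one G a x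
  map_mul' n m := by
    apply Subtype.ext; ext x
    show F G a (n * m).1 x = F G a n.1 (F G a m.1 x)
    rw [F_mul G a _ _ n.2]; rfl

theorem Φ_apply (n : Subgroup.normalizer ((MulAction.stabilizer G a : Subgroup G) : Set G))
    (g : G) : ((Φ G a n : Subgroup.centralizer (G : Set (Equiv.Perm α))) : Equiv.Perm α) (g • a)
      = (g * n.1⁻¹) • a := cperm_apply G a n g

theorem Φ_ker : (Φ G a).ker = (MulAction.stabilizer G a).subgroupOf
    (Subgroup.normalizer ((MulAction.stabilizer G a : Subgroup G) : Set G)) := by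
  ext n
  rw [MonoidHom.mem_ker, Subgroup.mem_subgroupOf, MulAction.mem_stabilizer_iff]
  constructor
  · intro h
    have h1 := Φ_apply G a n 1
    rw [h, one_smul, one_mul] at h1
    have : (n.1)⁻¹ • a = a := h1.symm
    rw [inv_smul_eq_iff] at this
    exact this.symm
  · intro h
    apply Subtype.ext
    ext x
    obtain ⟨g, rfl⟩ := MulAction.exists_smul_eq G a x
    rw [Φ_apply, mul_smul]
    have : (n.1)⁻¹ • a = a := by rw [inv_smul_eq_iff]; exact h.symm
    rw [this]; rfl

/-- membership in the normalizer of the point stabiliser from an "iff" on fixing -/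
theorem mem_norm_of (g₀ : G) (h : ∀ h : G, h • a = a ↔ h • (g₀ • a) = g₀ • a) :
    g₀⁻¹ ∈ Subgroup.normalizer ((MulAction.stabilizer G a : Subgroup G) : Set G) := by
  rw [Subgroup.mem_normalizer_iff]
  intro k
  rw [MulAction.mem_stabilizer_iff, MulAction.mem_stabilizer_iff, h k, inv_inv, mul_smul, mul_smul,
    inv_smul_eq_iff]

theorem Φ_surj_aux (c : Equiv.Perm α) (hc : c ∈ Subgroup.centralizer (G : Set (Equiv.Perm α)))
    (g : G) : c (g • a) = g • c a := by
  have := Subgroup.mem_centralizer_iff.mp hc g.1 g.2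
  have h2 := congrArg (fun f : Equiv.Perm α => f a) this
  simp only [Equiv.Perm.mul_apply] at h2
  exact h2.symm

theorem Φ_surj : Function.Surjective (Φ G a) := by
  rintro ⟨c, hc⟩
  obtain ⟨g₀, hg₀⟩ := MulAction.exists_smul_eq G a (c a)
  have hn : g₀⁻¹ ∈ Subgroup.normalizer ((MulAction.stabilizer G a : Subgroup G) : Set G) := by
    apply mem_norm_of
    intro h
    rw [hg₀, ← Φ_surj_aux G a c hc h]
    exact ⟨fun e => by rw [e], fun e => c.injective e⟩
  refine ⟨⟨g₀⁻¹, hn⟩, ?_⟩
  apply Subtype.ext
  ext x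
  obtain ⟨g, rfl⟩ := MulAction.exists_smul_eq G a x
  rw [Φ_apply]
  show (g * (g₀⁻¹)⁻¹) • a = c (g • a)
  rw [inv_inv, mul_smul, hg₀, Φ_surj_aux G a c hc g]

end


/-- For a transitive permutation group `G` on a finite set, the centraliser of `G` in the symmetric group is isomorphic to `N_G(G_ω)/G_ω`, and its orbit of `ω` is the set of fixed points of `G_ω`. -/
theorem result {α : Type*} [Finite α] (G : Subgroup (Equiv.Perm α)) [MulAction.IsPretransitive G α] (a : α) : Nonempty (Subgroup.centralizer (G : Set (Equiv.Perm α)) ≃* Subgroup.normalizer ((MulAction.stabilizer G a : Subgroup G) : Set G) ⧸ (MulAction.stabilizer G a).subgroupOf (Subgroup.normalizer ((MulAction.stabilizer G a : Subgroup G) : Set G))) ∧ MulAction.orbit (Subgroup.centralizer (G : Set (Equiv.Perm α))) a = MulAction.fixedPoints (MulAction.stabilizer G a) α := by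
  constructor
  · exact ⟨((QuotientGroup.quotientMulEquivOfEq (Φ_ker G a)).symm.trans
      (QuotientGroup.quotientKerEquivOfSurjective (Φ G a) (Φ_surj G a))).symm⟩
  · ext x
    constructor
    · rintro ⟨c, rfl⟩
      rw [MulAction.mem_fixedPoints]
      rintro ⟨h, hh⟩
      rw [MulAction.mem_stabilizer_iff] at hh
      show h • ((c : Equiv.Perm α) a) = (c : Equiv.Perm α) a
      rw [← Φ_surj_aux G a c.1 c.2 h, hh]
    · intro hx
      rw [MulAction.mem_fixedPoints] at hx
      obtain ⟨g₀, rfl⟩ := MulAction.exists_smul_eq G a x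
      have hle : MulAction.stabilizer G a ≤ MulAction.stabilizer G (g₀ • a) := by
        intro h hh
        exact hx ⟨h, hh⟩
      have hcard : Nat.card (MulAction.stabilizer G (g₀ • a)) ≤ Nat.card (MulAction.stabilizer G a) := by
        rw [MulAction.stabilizer_smul_eq_stabilizer_map_conj,
          Subgroup.card_map_of_injective (MulAut.conj g₀).injective]
      have heq := Subgroup.eq_of_le_of_card_ge hle hcard
      have hn : g₀⁻¹ ∈ Subgroup.normalizer ((MulAction.stabilizer G a : Subgroup G) : Set G) := by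
        apply mem_norm_of
        intro h
        rw [← MulAction.mem_stabilizer_iff, ← MulAction.mem_stabilizer_iff, heq]
      refine ⟨Φ G a ⟨g₀⁻¹, hn⟩, ?_⟩
      have := Φ_apply G a ⟨g₀⁻¹, hn⟩ 1
      rw [one_smul, one_mul] at this
      show ((Φ G a ⟨g₀⁻¹, hn⟩ : Subgroup.centralizer (G : Set (Equiv.Perm α))) : Equiv.Perm α) a = _
      rw [this, inv_inv]

end Cfsg.Agent.S0702
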