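import Cfsg.Statements.S0703
-- import your own Cfsg.Agent.* helpers here
import Cfsg.Agent.Lib_helper4_Regular
import Mathlib

set_option autoImplicit false
open Cfsg

namespace Cfsg.Agent.S0703

open MulAction Cfsg.Agent.helper4


/-- An abelian transitive minimal normal subgroup `M` of a permutation group on a finite set is self-centralising in the symmetric group, regular, elementary abelian, and is the unique minimal normal subgroup. -/
theorem result {α : Type*} [Finite α] (G : Subgroup (Equiv.Perm α)) (M : Subgroup G) [M.Normal] (hM : M ≠ ⊥) (hmin : ∀ L : Subgroup G, L.Normal → L ≤ M → L = ⊥ ∨ L = M) (hab : IsMulCommutative M) (htrans : MulAction.IsPretransitive M α) : Subgroup.centralizer ((M.map G.subtype : Subgroup (Equiv.Perm α)) : Set (Equiv.Perm α)) = M.map G.subtype ∧ (∀ a : α, MulAction.stabilizer M a = ⊥) ∧ (∃ p : ℕ, p.Prime ∧ ∀ m ∈ M, m ^ p = 1) ∧ ∀ L : Subgroup G, L.Normal → L ≠ ⊥ → (∀ L' : Subgroup G, L'.Normal → L' ≤ L → L' = ⊥ ∨ L' = L) → L = M := by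
  classical
  have hMn : M.Normal := inferInstance
  set M' : Subgroup (Equiv.Perm α) := M.map G.subtype with hM'
  have hPT : PTrans M' := ptrans_map G M htrans
  -- M' is abelian
  have hcommM : ∀ x ∈ M, ∀ y ∈ M, x * y = y * x := fun x hx y hy =>
    congrArg Subtype.val (hab.is_comm.comm (⟨x, hx⟩ : M) ⟨y, hy⟩)
  have hM'cent : M' ≤ Subgroup.centralizer (M' : Set (Equiv.Perm α)) := by
    rintro x ⟨m, hm, rfl⟩
    rw [Subgroup.mem_centralizer_iff]
    rintro y ⟨m', hm', rfl⟩
    exact congrArg Subtype.val (hcommM m' hm' m hm)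
  have hcent : Subgroup.centralizer (M' : Set (Equiv.Perm α)) = M' :=
    centralizer_eq_of_ptrans hPT hPT hM'cent
  have hfinG : Finite G := inferInstance
  refine ⟨hcent, ?_, ?_, ?_⟩
  · intro a
    rw [Subgroup.eq_bot_iff_forall]
    intro m hm
    rw [mem_stabilizer_iff] at hm
    have hx : ((m : G) : Equiv.Perm α) ∈ M' := ⟨(m : G), m.2, rfl⟩
    have h1 := eq_one_of_centralizer_fix hPT (hM'cent hx) (a := a) hm
    apply Subtype.ext
    apply Subtype.ext
    exact h1
  · -- elementary abelian
    have hMnt : Nontrivial M := (Subgroup.nontrivial_iff_ne_bot M).mpr hM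
    have hcard : 1 < Nat.card M := Finite.one_lt_card
    set p := (Nat.card M).minFac with hp
    have hpp : p.Prime := Nat.minFac_prime (by omega)
    have hpF : Fact p.Prime := ⟨hpp⟩
    have hdvd : p ∣ Nat.card M := Nat.minFac_dvd _
    obtain ⟨x, hx⟩ := exists_prime_orderOf_dvd_card' p hdvd
    let P : Subgroup G :=
      { carrier := {m | m ∈ M ∧ m ^ p = 1}
        one_mem' := ⟨M.one_mem, one_pow p⟩
        mul_mem' := by
          rintro a b ⟨ha, hap⟩ ⟨hb, hbp⟩
          refine ⟨M.mul_mem ha hb, ?_⟩
          have hc : Commute a b := hcommM a ha b hb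
          rw [hc.mul_pow, hap, hbp, one_mul]
        inv_mem' := by
          rintro a ⟨ha, hap⟩
          exact ⟨M.inv_mem ha, by rw [inv_pow, hap, inv_one]⟩ }
    have hPn : P.Normal := by
      constructor
      rintro a ⟨ha, hap⟩ g
      refine ⟨hMn.conj_mem a ha g, ?_⟩
      rw [conj_pow, hap, mul_one, mul_inv_cancel]
    have hPle : P ≤ M := fun a ha => ha.1
    have hP0 : P ≠ ⊥ := by
      intro h
      have hxP : (x : G) ∈ P := by
        refine ⟨x.2, ?_⟩
        have := pow_orderOf_eq_one x
        rw [hx] at this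
        exact congrArg Subtype.val this
      rw [h, Subgroup.mem_bot] at hxP
      have hx1 : x = 1 := Subtype.ext hxP
      rw [hx1, orderOf_one] at hx
      exact hpp.one_lt.ne hx
    rcases hmin P hPn hPle with h | h
    · exact absurd h hP0
    · refine ⟨p, hpp, fun m hm => ?_⟩
      have : m ∈ P := by rw [h]; exact hm
      exact this.2
  · intro L hLn hL0 hLmin
    by_contra hne
    have hd := inf_eq_bot_of_minimal G L M hLn hMn hL0 hLmin hmin hne
    have h1 := map_le_centralizer_of_disjoint G L M hLn hMn hd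
    rw [← hM', hcent, hM', map_subtype_le_iff] at h1
    apply hL0
    rw [← inf_eq_left.mpr h1]
    exact hd

end Cfsg.Agent.S0703
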