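import Cfsg.Statements.S0704
-- import your own Cfsg.Agent.* helpers here
import Cfsg.Agent.Lib_helper4_Regular
import Mathlib

set_option autoImplicit false
open Cfsg

namespace Cfsg.Agent.S0704

open MulAction Cfsg.Agent.helper4

section
variable {α : Type*} (G : Subgroup (Equiv.Perm α))

/-- semiregularity from centralizing a transitive group -/
theorem stab_eq_bot (M N : Subgroup G) (hMt : IsPretransitive M α)
    (hNM : N.map G.subtype ≤ Subgroup.centralizer ((M.map G.subtype : Subgroup (Equiv.Perm α)) : Set (Equiv.Perm α)))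
    (a : α) : stabilizer N a = ⊥ := by
  rw [Subgroup.eq_bot_iff_forall]
  intro n hn
  rw [mem_stabilizer_iff] at hn
  have hx : ((n : G) : Equiv.Perm α) ∈ N.map G.subtype := ⟨(n : G), n.2, rfl⟩
  have h1 := eq_one_of_centralizer_fix (ptrans_map G M hMt) (hNM hx) (a := a) hn
  apply Subtype.ext
  apply Subtype.ext
  exact h1

/-- the isomorphism between two commuting regular groups -/
theorem iso_of_regular (M N : Subgroup G) (hMt : IsPretransitive M α) (hNt : IsPretransitive N α)
    (hMs : ∀ a : α, stabilizer M a = ⊥) (hNs : ∀ a : α, stabilizer N a = ⊥)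
    (hcomm : ∀ m ∈ M, ∀ n ∈ N, m * n = n * m) (a : α) : Nonempty (M ≃* N) := by
  classical
  have hsm : ∀ (m : M) (x : α), m • x = ((m : G) : Equiv.Perm α) x := fun _ _ => rfl
  have hsn : ∀ (n : N) (x : α), n • x = ((n : G) : Equiv.Perm α) x := fun _ _ => rfl
  have hc : ∀ (m : M) (n : N) (x : α), m • (n • x) = n • (m • x) := by
    intro m n x
    have := hcomm m m.2 n n.2
    have h2 : ((m : G) : Equiv.Perm α) * ((n : G) : Equiv.Perm α) =
        ((n : G) : Equiv.Perm α) * ((m : G) : Equiv.Perm α) := congrArg Subtype.val this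
    rw [hsm, hsn, hsn, hsm, ← Equiv.Perm.mul_apply, h2, Equiv.Perm.mul_apply]
  -- uniqueness
  have huN : ∀ (n n' : N) (x : α), n • x = n' • x → n = n' := by
    intro n n' x h
    have : n'⁻¹ * n ∈ stabilizer N x := by
      rw [mem_stabilizer_iff, mul_smul, h, inv_smul_smul]
    rw [hNs x, Subgroup.mem_bot] at this
    have := congrArg (fun z => n' * z) this
    simpa using this
  have huM : ∀ (m m' : M) (x : α), m • x = m' • x → m = m' := by
    intro m m' x h
    have : m'⁻¹ * m ∈ stabilizer M x := by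
      rw [mem_stabilizer_iff, mul_smul, h, inv_smul_smul]
    rw [hMs x, Subgroup.mem_bot] at this
    have := congrArg (fun z => m' * z) this
    simpa using this
  have hexN : ∀ m : M, ∃ n : N, n • (m • a) = a := fun m => hNt.exists_smul_eq (m • a) a
  have hexM : ∀ n : N, ∃ m : M, m • (n • a) = a := fun n => hMt.exists_smul_eq (n • a) a
  let f : M → N := fun m => (hexN m).choose
  let g : N → M := fun n => (hexM n).choose
  have hf : ∀ m : M, f m • (m • a) = a := fun m => (hexN m).choose_spec
  have hg : ∀ n : N, g n • (n • a) = a := fun n => (hexM n).choose_spec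
  refine ⟨{ toFun := f, invFun := g, left_inv := ?_, right_inv := ?_, map_mul' := ?_ }⟩
  · intro m
    -- g (f m) • (f m • a) = a and m • (f m • a) = f m • m • a = a
    apply huM _ _ (f m • a)
    rw [hg, hc, hf]
  · intro n
    apply huN _ _ (g n • a)
    rw [hf, ← hc, hg]
  · intro m₁ m₂
    apply huN _ _ ((m₁ * m₂) • a)
    rw [hf, mul_smul, mul_smul, ← hc m₁ (f m₂), hf m₂, hf m₁]

end


/-- Two distinct transitive minimal normal subgroups `M`, `N` of a permutation group are regular, non-abelian, isomorphic, each other's centraliser in the symmetric group, and the only minimal normal subgroups. -/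
theorem result {α : Type*} (G : Subgroup (Equiv.Perm α)) (M N : Subgroup G) [M.Normal] [N.Normal] (hM : M ≠ ⊥) (hN : N ≠ ⊥) (hMmin : ∀ L : Subgroup G, L.Normal → L ≤ M → L = ⊥ ∨ L = M) (hNmin : ∀ L : Subgroup G, L.Normal → L ≤ N → L = ⊥ ∨ L = N) (hMN : M ≠ N) (hMt : MulAction.IsPretransitive M α) (hNt : MulAction.IsPretransitive N α) : (∀ a : α, MulAction.stabilizer M a = ⊥) ∧ (∀ a : α, MulAction.stabilizer N a = ⊥) ∧ ¬ IsMulCommutative M ∧ Nonempty (M ≃* N) ∧ Subgroup.centralizer ((M.map G.subtype : Subgroup (Equiv.Perm α)) : Set (Equiv.Perm α)) = N.map G.subtype ∧ Subgroup.centralizer ((N.map G.subtype : Subgroup (Equiv.Perm α)) : Set (Equiv.Perm α)) = M.map G.subtype ∧ ∀ L : Subgroup G, L.Normal → L ≠ ⊥ → (∀ L' : Subgroup G, L'.Normal → L' ≤ L → L' = ⊥ ∨ L' = L) → L = M ∨ L = N := by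
  classical
  have hMn : M.Normal := inferInstance
  have hNn : N.Normal := inferInstance
  have hdMN : M ⊓ N = ⊥ := inf_eq_bot_of_minimal G M N hMn hNn hM hMmin hNmin hMN
  have hdNM : N ⊓ M = ⊥ := by rw [inf_comm]; exact hdMN
  have hNcM := map_le_centralizer_of_disjoint G N M hNn hMn hdNM
  have hMcN := map_le_centralizer_of_disjoint G M N hMn hNn hdMN
  have hPM := ptrans_map G M hMt
  have hPN := ptrans_map G N hNt
  have hcM := centralizer_eq_of_ptrans hPM hPN hNcM
  have hcN := centralizer_eq_of_ptrans hPN hPM hMcN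
  have hMs := stab_eq_bot G N M hNt hMcN
  have hNs := stab_eq_bot G M N hMt hNcM
  have hcomm : ∀ m ∈ M, ∀ n ∈ N, m * n = n * m := fun m hm n hn =>
    (Subgroup.commute_of_normal_of_disjoint M N hMn hNn (disjoint_iff.mpr hdMN) m n hm hn).eq
  refine ⟨hMs, hNs, ?_, ?_, hcM, hcN, ?_⟩
  · intro hab
    have hcommM : ∀ x ∈ M, ∀ y ∈ M, x * y = y * x := fun x hx y hy =>
      congrArg Subtype.val (hab.is_comm.comm (⟨x, hx⟩ : M) ⟨y, hy⟩)
    have hM'cent : M.map G.subtype ≤ Subgroup.centralizer ((M.map G.subtype : Subgroup (Equiv.Perm α)) : Set (Equiv.Perm α)) := by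
      rintro x ⟨m, hm, rfl⟩
      rw [Subgroup.mem_centralizer_iff]
      rintro y ⟨m', hm', rfl⟩
      exact congrArg Subtype.val (hcommM m' hm' m hm)
    rw [hcM, map_subtype_le_iff] at hM'cent
    apply hM
    rw [← inf_eq_left.mpr hM'cent]
    exact hdMN
  · rcases isEmpty_or_nonempty α with hα | ⟨⟨a⟩⟩
    · exfalso
      apply hM
      rw [Subgroup.eq_bot_iff_forall]
      intro m _
      apply Subtype.ext
      exact Equiv.ext (fun x => (hα.false x).elim)
    · exact iso_of_regular G M N hMt hNt hMs hNs hcomm a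
  · intro L hLn hL0 hLmin
    by_cases hLM : L = M
    · exact Or.inl hLM
    · right
      have hd := inf_eq_bot_of_minimal G L M hLn hMn hL0 hLmin hMmin hLM
      have h1 := map_le_centralizer_of_disjoint G L M hLn hMn hd
      rw [hcM, map_subtype_le_iff] at h1
      rcases hNmin L hLn h1 with h | h
      · exact absurd h hL0
      · exact h

end Cfsg.Agent.S0704
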