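import Cfsg.Statements.S0705
-- import your own Cfsg.Agent.* helpers here
import Mathlib

set_option autoImplicit false
open scoped Pointwise
open Cfsg

namespace Cfsg.Agent.S0705

section
variable {α : Type*} [Fintype α] [DecidableEq α] (G : Subgroup (Equiv.Perm α)) {k : ℕ}

theorem induce (hgen : ∀ s : Finset α, s.card = k + 1 → ∀ σ : Equiv.Perm ↥s, ∃ g ∈ G, ∀ x : ↥s, g (x : α) = σ x)
    (t : Finset α) (ht : t.card = k + 1) (π : Equiv.Perm α) (hπ : ∀ z, z ∈ t → π z ∈ t) :
    ∃ g ∈ G, ∀ z ∈ t, g z = π z := by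
  obtain ⟨g, hg, h⟩ := hgen t ht (π.subtypePermOfFintype hπ)
  refine ⟨g, hg, ?_⟩
  intro z hz
  have := h ⟨z, hz⟩
  rw [Equiv.Perm.subtypePermOfFintype_apply] at this
  exact this

theorem trans_aux (hk : k < Fintype.card α)
    (hgen : ∀ s : Finset α, s.card = k + 1 → ∀ σ : Equiv.Perm ↥s, ∃ g ∈ G, ∀ x : ↥s, g (x : α) = σ x) :
    ∀ (d : ℕ) (x y : Fin k ↪ α), (Finset.univ.filter (fun j => x j ≠ y j)).card = d →
      ∃ g ∈ G, ∀ j, g (x j) = y j := by
  intro d
  induction d using Nat.strong_induction_on with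
  | _ d ih =>
    intro x y hd
    by_cases hall : ∀ j, x j = y j
    · exact ⟨1, G.one_mem, fun j => by simpa using hall j⟩
    push Not at hall
    obtain ⟨i, hi⟩ := hall
    -- the set t
    let X : Finset α := Finset.univ.map x
    have hXcard : X.card = k := by simp [X]
    have hsub : insert (y i) X ⊆ Finset.univ := Finset.subset_univ _
    have hc1 : (insert (y i) X).card ≤ k + 1 := by
      have := Finset.card_insert_le (y i) X
      omega
    obtain ⟨t, ht1, -, ht⟩ := Finset.exists_subsuperset_card_eq hsub hc1 (by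
      rw [Finset.card_univ]; omega)
    have hxt : ∀ j, x j ∈ t := fun j => ht1 (Finset.mem_insert_of_mem (by simp [X]))
    have hyt : y i ∈ t := ht1 (Finset.mem_insert_self _ _)
    obtain ⟨g, hg, hgt⟩ := induce G hgen t ht (Equiv.swap (x i) (y i)) (by
      intro z hz
      rcases eq_or_ne z (x i) with rfl | h1
      · rw [Equiv.swap_apply_left]; exact hyt
      rcases eq_or_ne z (y i) with rfl | h2
      · rw [Equiv.swap_apply_right]; exact hxt i
      · rw [Equiv.swap_apply_of_ne_of_ne h1 h2]; exact hz)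
    let x' : Fin k ↪ α := x.trans (g : Equiv.Perm α).toEmbedding
    have hx' : ∀ j, x' j = g (x j) := fun j => rfl
    have hx'i : x' i = y i := by
      rw [hx', hgt _ (hxt i), Equiv.swap_apply_left]
    have hx'j : ∀ j, x j = y j → x' j = y j := by
      intro j hj
      have hji : j ≠ i := fun h => hi (h ▸ hj)
      rw [hx', hgt _ (hxt j), Equiv.swap_apply_of_ne_of_ne, hj]
      · exact fun h => hji (x.injective h)
      · rw [hj]; exact fun h => hji (y.injective h)
    have hlt : (Finset.univ.filter (fun j => x' j ≠ y j)).card < d := by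
      rw [← hd]
      apply Finset.card_lt_card
      rw [Finset.ssubset_iff_of_subset]
      · exact ⟨i, by simp [hi], by simp [hx'i]⟩
      · intro j hj
        simp only [Finset.mem_filter, Finset.mem_univ, true_and] at hj ⊢
        exact fun h => hj (hx'j j h)
    obtain ⟨g', hg', h'⟩ := ih _ hlt x' y rfl
    refine ⟨g' * g, G.mul_mem hg' hg, ?_⟩
    intro j
    rw [Equiv.Perm.mul_apply, ← hx', h' j]

end


/-- A generously `k`-transitive permutation group (every `(k+1)`-subset has its full symmetric group induced by the setwise stabiliser) of degree greater than `k` is `k`-transitive, and for a `k`-subset the setwise and pointwise stabilisers have the same orbits outside it. -/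
theorem result {α : Type*} [Fintype α] [DecidableEq α] (G : Subgroup (Equiv.Perm α)) {k : ℕ} (hk : k < Fintype.card α) (hgen : ∀ s : Finset α, s.card = k + 1 → ∀ σ : Equiv.Perm ↥s, ∃ g ∈ G, ∀ x : ↥s, g (x : α) = σ x) : MulAction.IsMultiplyPretransitive G α k ∧ ∀ s : Finset α, s.card = k → ∀ a b : α, a ∉ s → b ∉ s → (∃ g ∈ G, g • s = s ∧ g a = b) → ∃ g ∈ G, (∀ x ∈ s, g x = x) ∧ g a = b := by
  constructor
  · constructor
    intro x y
    obtain ⟨g, hg, h⟩ := trans_aux G hk hgen _ x y rfl
    refine ⟨⟨g, hg⟩, ?_⟩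
    ext j
    exact h j
  · intro s hs a b ha hb
    rintro ⟨g, hg, hgs, hgab⟩
    have hs1 : ∀ x, x ∈ s → g x ∈ s := by
      intro x hx
      have := Finset.smul_mem_smul_finset (a := g) hx
      rw [hgs] at this
      exact this
    have hs2 : ∀ x, x ∈ s → g⁻¹ x ∈ s := by
      intro x hx
      rw [← hgs] at hx
      obtain ⟨y, hy, hyx⟩ := Finset.mem_smul_finset.mp hx
      rw [← hyx, Equiv.Perm.smul_def, Equiv.Perm.inv_def, Equiv.symm_apply_apply]
      exact hy
    let ρ : Equiv.Perm {x // x ∈ s} := (g⁻¹).subtypePermOfFintype hs2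
    let π : Equiv.Perm α := Equiv.Perm.ofSubtype ρ
    have hπs : ∀ z, z ∈ s → π z = g⁻¹ z := by
      intro z hz
      show Equiv.Perm.ofSubtype ρ z = _
      rw [Equiv.Perm.ofSubtype_apply_of_mem ρ hz]
      rfl
    have hπb : π b = b := Equiv.Perm.ofSubtype_apply_of_not_mem ρ hb
    have ht : (insert b s).card = k + 1 := by rw [Finset.card_insert_of_notMem hb, hs]
    obtain ⟨h, hh, hht⟩ := induce G hgen (insert b s) ht π (by
      intro z hz
      rcases Finset.mem_insert.mp hz with rfl | hz
      · rw [hπb]; exact Finset.mem_insert_self _ _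
      · rw [hπs z hz]; exact Finset.mem_insert_of_mem (hs2 z hz))
    refine ⟨h * g, G.mul_mem hh hg, ?_, ?_⟩
    · intro x hx
      rw [Equiv.Perm.mul_apply, hht _ (Finset.mem_insert_of_mem (hs1 x hx)), hπs _ (hs1 x hx),
        Equiv.Perm.inv_def, Equiv.symm_apply_apply]
    · rw [Equiv.Perm.mul_apply, hgab, hht _ (Finset.mem_insert_self _ _), hπb]

end Cfsg.Agent.S0705
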