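import Cfsg.Statements.S0706
import Mathlib
import Cfsg.Agent.S0705
import Cfsg.Agent.Lib_helper18_Derangement3

set_option autoImplicit false
set_option linter.unusedSectionVars false
set_option linter.unusedVariables false
open Cfsg
open scoped Pointwise

namespace Cfsg.Agent.S0706

section
variable {α : Type*} [Fintype α] [DecidableEq α] (G : Subgroup (Equiv.Perm α))

/-- The pointwise stabiliser of `Γ` in `G`, as a subgroup of `Perm α`. -/
def KK (Γ : Finset α) : Subgroup (Equiv.Perm α) := G ⊓ fixingSubgroup (Equiv.Perm α) (Γ : Set α)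

/-- The subgroup of `G` fixing `Σ` pointwise and `Γ` setwise. -/
def LL (S Γ : Finset α) : Subgroup (Equiv.Perm α) :=
  G ⊓ fixingSubgroup (Equiv.Perm α) (S : Set α) ⊓ MulAction.stabilizer (Equiv.Perm α) Γ

lemma mem_KK {Γ : Finset α} {g : Equiv.Perm α} :
    g ∈ KK G Γ ↔ g ∈ G ∧ ∀ y ∈ Γ, g y = y := by
  unfold KK
  rw [Subgroup.mem_inf, mem_fixingSubgroup_iff]
  rfl

lemma mem_LL {S Γ : Finset α} {g : Equiv.Perm α} :
    g ∈ LL G S Γ ↔ g ∈ G ∧ (∀ y ∈ S, g y = y) ∧ g • Γ = Γ := by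
  unfold LL
  rw [Subgroup.mem_inf, Subgroup.mem_inf, mem_fixingSubgroup_iff, MulAction.mem_stabilizer_iff,
    and_assoc]
  rfl

lemma perm_inv_apply_self (g : Equiv.Perm α) (x : α) : g⁻¹ (g x) = x := by
  rw [Equiv.Perm.inv_def, Equiv.symm_apply_apply]

lemma smul_finset_eq_of_fix {Γ : Finset α} {g : Equiv.Perm α} (h : ∀ y ∈ Γ, g y = y) :
    g • Γ = Γ := by
  ext z
  rw [Finset.mem_smul_finset]
  constructor
  · rintro ⟨y, hy, rfl⟩
    rw [Equiv.Perm.smul_def, h y hy]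
    exact hy
  · intro hz
    exact ⟨z, hz, by rw [Equiv.Perm.smul_def, h z hz]⟩

lemma KK_le_LL {S Γ : Finset α} (hS : S ⊆ Γ) : KK G Γ ≤ LL G S Γ := by
  intro g hg
  rw [mem_KK] at hg
  rw [mem_LL]
  exact ⟨hg.1, fun y hy => hg.2 y (hS hy), smul_finset_eq_of_fix hg.2⟩

lemma apply_mem_of_smul_eq {Γ : Finset α} {g : Equiv.Perm α} (h : g • Γ = Γ) {z : α} (hz : z ∈ Γ) :
    g z ∈ Γ := by
  have := Finset.smul_mem_smul_finset (a := g) hz
  rw [h] at this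
  exact this

lemma inv_apply_mem_of_smul_eq {Γ : Finset α} {g : Equiv.Perm α} (h : g • Γ = Γ) {z : α}
    (hz : z ∈ Γ) : g⁻¹ z ∈ Γ := by
  rw [← h] at hz
  obtain ⟨y, hy, hyx⟩ := Finset.mem_smul_finset.mp hz
  rw [← hyx, Equiv.Perm.smul_def, Equiv.Perm.inv_def, Equiv.symm_apply_apply]
  exact hy

lemma apply_not_mem_of_smul_eq {Γ : Finset α} {g : Equiv.Perm α} (h : g • Γ = Γ) {z : α}
    (hz : z ∉ Γ) : g z ∉ Γ := by
  intro hgz
  apply hz
  have := inv_apply_mem_of_smul_eq h hgz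
  rwa [Equiv.Perm.inv_def, Equiv.symm_apply_apply] at this

lemma conj_mem_KK {S Γ : Finset α} {h g : Equiv.Perm α} (hh : h ∈ LL G S Γ) (hg : g ∈ KK G Γ) :
    h * g * h⁻¹ ∈ KK G Γ := by
  rw [mem_LL] at hh
  rw [mem_KK] at hg ⊢
  refine ⟨G.mul_mem (G.mul_mem hh.1 hg.1) (G.inv_mem hh.1), ?_⟩
  intro y hy
  have h1 : h⁻¹ y ∈ Γ := inv_apply_mem_of_smul_eq hh.2.2 hy
  rw [Equiv.Perm.mul_apply, Equiv.Perm.mul_apply, hg.2 _ h1, Equiv.Perm.inv_def,
    Equiv.apply_symm_apply]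

lemma exists_x0 {k : ℕ}
    (hgen : ∀ s : Finset α, s.card = k + 1 → ∀ σ : Equiv.Perm ↥s, ∃ g ∈ G, ∀ x : ↥s, g (x : α) = σ x)
    {p : ℕ} (hp : p.Prime) (Γ : Finset α) (hΓ : Γ.card = k) (T : Finset α) (hTΓ : T ⊆ Γ)
    (hT : T.card = p) (b : α) (hb : b ∉ Γ) :
    ∃ x0 ∈ LL G (Γ \ T) Γ, x0 ^ p ∈ KK G Γ ∧ x0 ∉ KK G Γ := by
  haveI : Fact p.Prime := ⟨hp⟩
  have hcard : p ∣ Nat.card (Equiv.Perm ↥T) := by
    rw [Nat.card_perm, Nat.card_eq_fintype_card, Fintype.card_coe, hT]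
    exact Nat.dvd_factorial hp.pos le_rfl
  obtain ⟨c, hc⟩ := exists_prime_orderOf_dvd_card' p hcard
  let π : Equiv.Perm α := Equiv.Perm.ofSubtype c
  have hπT : ∀ z, z ∈ T → π z ∈ T := by
    intro z hz
    show Equiv.Perm.ofSubtype c z ∈ T
    rw [Equiv.Perm.ofSubtype_apply_of_mem c hz]
    exact (c ⟨z, hz⟩).2
  have hπnT : ∀ z, z ∉ T → π z = z := fun z hz => Equiv.Perm.ofSubtype_apply_of_not_mem c hz
  have hπp : π ^ p = 1 := by
    show (Equiv.Perm.ofSubtype c) ^ p = 1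
    rw [← map_pow, ← hc, pow_orderOf_eq_one, map_one]
  have hπne : ∃ z ∈ T, π z ≠ z := by
    have hc1 : c ≠ 1 := by
      intro h
      rw [h, orderOf_one] at hc
      exact hp.one_lt.ne hc
    by_contra hcon
    push Not at hcon
    apply hc1
    ext z
    have := hcon z.1 z.2
    show ((c z : ↥T) : α) = z
    rw [← this]
    show _ = Equiv.Perm.ofSubtype c z
    rw [Equiv.Perm.ofSubtype_apply_of_mem c z.2]
  have hπΓ : ∀ z, z ∈ Γ → π z ∈ Γ := by
    intro z hz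
    by_cases hzT : z ∈ T
    · exact hTΓ (hπT z hzT)
    · rw [hπnT z hzT]; exact hz
  have ht : (insert b Γ).card = k + 1 := by rw [Finset.card_insert_of_notMem hb, hΓ]
  have hbT : b ∉ T := fun h => hb (hTΓ h)
  obtain ⟨x0, hx0G, hx0⟩ := Cfsg.Agent.S0705.induce G hgen (insert b Γ) ht π (by
    intro z hz
    rcases Finset.mem_insert.mp hz with rfl | hz
    · rw [hπnT _ hbT]; exact Finset.mem_insert_self _ _
    · exact Finset.mem_insert_of_mem (hπΓ z hz))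
  have hx0Γ : ∀ z, z ∈ Γ → x0 z = π z := fun z hz => hx0 z (Finset.mem_insert_of_mem hz)
  have hpow : ∀ j : ℕ, ∀ z, z ∈ Γ → (x0 ^ j) z = (π ^ j) z ∧ (π ^ j) z ∈ Γ := by
    intro j
    induction j with
    | zero => intro z hz; simpa using hz
    | succ j ih =>
      intro z hz
      obtain ⟨h1, h2⟩ := ih z hz
      rw [pow_succ', pow_succ', Equiv.Perm.mul_apply, Equiv.Perm.mul_apply, h1, hx0Γ _ h2]
      exact ⟨rfl, hπΓ _ h2⟩
  refine ⟨x0, ?_, ?_, ?_⟩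
  · rw [mem_LL]
    refine ⟨hx0G, ?_, ?_⟩
    · intro y hy
      rw [Finset.mem_sdiff] at hy
      rw [hx0Γ y hy.1, hπnT y hy.2]
    · apply Finset.eq_of_subset_of_card_le
      · intro z hz
        obtain ⟨y, hy, rfl⟩ := Finset.mem_smul_finset.mp hz
        rw [Equiv.Perm.smul_def, hx0Γ y hy]
        exact hπΓ y hy
      · rw [Finset.card_smul_finset]
  · rw [mem_KK]
    refine ⟨G.pow_mem hx0G p, ?_⟩
    intro y hy
    rw [(hpow p y hy).1, hπp]
    rfl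
  · rw [mem_KK]
    rintro ⟨-, h⟩
    obtain ⟨z, hzT, hz⟩ := hπne
    apply hz
    rw [← hx0Γ z (hTΓ hzT)]
    exact h z (hTΓ hzT)

lemma p_mul_card_dvd {S Γ : Finset α} (hS : S ⊆ Γ) {p : ℕ} (hp : p.Prime) (x0 : Equiv.Perm α)
    (hx0L : x0 ∈ LL G S Γ) (hx0p : x0 ^ p ∈ KK G Γ) (hx0K : x0 ∉ KK G Γ) :
    p * Nat.card (KK G Γ) ∣ Nat.card (LL G S Γ) := by
  haveI : Fact p.Prime := ⟨hp⟩
  set K' := (KK G Γ).subgroupOf (LL G S Γ) with hK'
  haveI : K'.Normal := by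
    refine ⟨fun n hn g => ?_⟩
    rw [hK', Subgroup.mem_subgroupOf] at hn ⊢
    exact conj_mem_KK G g.2 hn
  have hcardK' : Nat.card K' = Nat.card (KK G Γ) :=
    Nat.card_congr (Subgroup.subgroupOfEquivOfLe (KK_le_LL G hS)).toEquiv
  let q : (LL G S Γ) ⧸ K' := QuotientGroup.mk ⟨x0, hx0L⟩
  have hq : orderOf q = p := by
    apply orderOf_eq_prime
    · show (QuotientGroup.mk (⟨x0, hx0L⟩ : LL G S Γ) : (LL G S Γ) ⧸ K') ^ p = 1
      rw [← QuotientGroup.mk_pow, QuotientGroup.eq_one_iff, hK', Subgroup.mem_subgroupOf]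
      exact hx0p
    · show (QuotientGroup.mk (⟨x0, hx0L⟩ : LL G S Γ) : (LL G S Γ) ⧸ K') ≠ 1
      rw [Ne, QuotientGroup.eq_one_iff, hK', Subgroup.mem_subgroupOf]
      exact hx0K
  have hdvd : p ∣ K'.index := by
    rw [Subgroup.index_eq_card, ← hq]
    exact orderOf_dvd_natCard q
  rw [← K'.card_mul_index, hcardK', mul_comm]
  exact Nat.mul_dvd_mul_left _ hdvd

theorem main {k : ℕ} (hk : k < Fintype.card α)
    (hgen : ∀ s : Finset α, s.card = k + 1 → ∀ σ : Equiv.Perm ↥s, ∃ g ∈ G, ∀ x : ↥s, g (x : α) = σ x)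
    {p : ℕ} (hp : p.Prime) (hpk : p ≤ k) (Γ : Finset α) (hΓ : Γ.card = k) (f : Fin p → α)
    (hf : ∀ i, f i ∉ Γ) (hdist : ∀ i j, i ≠ j → ¬ ∃ g ∈ KK G Γ, g (f i) = f j) :
    ∃ i, p ∣ ({y | ∃ g ∈ KK G Γ, g (f i) = y} : Set α).ncard := by
  by_contra hcon
  push Not at hcon
  haveI : Fact p.Prime := ⟨hp⟩
  obtain ⟨T, hTΓ, hT⟩ := Finset.exists_subset_card_eq (hpk.trans_eq hΓ.symm)
  set S := Γ \ T with hS
  have hSΓ : S ⊆ Γ := Finset.sdiff_subset
  let i0 : Fin p := ⟨0, hp.pos⟩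
  obtain ⟨x0, hx0L, hx0p, hx0K⟩ := exists_x0 G hgen hp Γ hΓ T hTΓ hT (f i0) (hf i0)
  have hdvd := p_mul_card_dvd G hSΓ hp x0 hx0L hx0p hx0K
  set a := (Nat.card (KK G Γ)).factorization p with ha
  have hpa : p ^ (a + 1) ∣ Nat.card (LL G S Γ) := by
    have h1 : p ^ a ∣ Nat.card (KK G Γ) := Nat.ordProj_dvd _ _
    rw [pow_succ']
    exact (Nat.mul_dvd_mul_left p h1).trans hdvd
  have hna : ¬ p ^ (a + 1) ∣ Nat.card (KK G Γ) :=
    Nat.pow_succ_factorization_not_dvd (Nat.card_pos.ne') hp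
  obtain ⟨P', hP'⟩ := Sylow.exists_subgroup_card_pow_prime p hpa
  set P := P'.map (LL G S Γ).subtype with hP
  have hPcard : Nat.card P = p ^ (a + 1) := by
    rw [hP, Subgroup.card_map_of_injective (Subgroup.subtype_injective _), hP']
  have hPL : P ≤ LL G S Γ := Subgroup.map_subtype_le P'
  -- fixed points of `P` in the orbits
  have hfixpt : ∀ i, ∃ d, (∃ g ∈ KK G Γ, g (f i) = d) ∧ ∀ h ∈ P, h d = d := by
    intro i
    by_contra hno
    push Not at hno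
    apply hcon i
    apply Cfsg.Agent.helper18.dvd_ncard_of_invariant ↥P α {y | ∃ g ∈ KK G Γ, g (f i) = y}
    · rintro ⟨h, hh⟩ x ⟨g, hg, rfl⟩
      show h (g (f i)) ∈ _
      have hhL := hPL hh
      obtain ⟨hLG, hLS, hLΓ⟩ := (mem_LL G).mp hhL
      have hb : h (f i) ∉ Γ := apply_not_mem_of_smul_eq hLΓ (hf i)
      obtain ⟨g', hg'G, hg'fix, hg'⟩ := (Cfsg.Agent.S0705.result G hk hgen).2 Γ hΓ (f i) (h (f i))
        (hf i) hb ⟨h, hLG, hLΓ, rfl⟩
      refine ⟨h * g * h⁻¹ * g', ?_, ?_⟩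
      · exact (KK G Γ).mul_mem (conj_mem_KK G hhL hg) ((mem_KK G).mpr ⟨hg'G, hg'fix⟩)
      · rw [Equiv.Perm.mul_apply, hg', Equiv.Perm.mul_apply, perm_inv_apply_self,
          Equiv.Perm.mul_apply]
    · rintro x hx
      obtain ⟨h, hh, hne⟩ := hno x hx
      have hstab : MulAction.stabilizer ↥P x ≠ ⊤ := by
        intro htop
        have hmem : (⟨h, hh⟩ : P) ∈ MulAction.stabilizer ↥P x := htop ▸ Subgroup.mem_top _
        exact hne (MulAction.mem_stabilizer_iff.mp hmem)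
      have hidx : (MulAction.stabilizer ↥P x).index ∣ p ^ (a + 1) :=
        hPcard ▸ Subgroup.index_dvd_card _
      obtain ⟨j, hj, hjeq⟩ := (Nat.dvd_prime_pow hp).mp hidx
      rcases Nat.eq_zero_or_pos j with h0 | h0
      · exfalso
        rw [h0, pow_zero, Subgroup.index_eq_one] at hjeq
        exact hstab hjeq
      · rw [hjeq]
        exact dvd_pow_self p h0.ne'
  choose d hd1 hd2 using hfixpt
  have hdinj : Function.Injective d := by
    intro i j hij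
    by_contra hne
    obtain ⟨g1, hg1, h1⟩ := hd1 i
    obtain ⟨g2, hg2, h2⟩ := hd1 j
    apply hdist i j hne
    refine ⟨g2⁻¹ * g1, (KK G Γ).mul_mem ((KK G Γ).inv_mem hg2) hg1, ?_⟩
    rw [Equiv.Perm.mul_apply, h1, hij, ← h2, perm_inv_apply_self]
  have hdΓ : ∀ i, d i ∉ Γ := by
    intro i hmem
    obtain ⟨g, hg, h1⟩ := hd1 i
    have hgfix := ((mem_KK G).mp hg).2
    apply hf i
    have h2 : g (d i) = d i := hgfix _ hmem
    have h3 : f i = d i := g.injective (h1.trans h2.symm)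
    rw [h3]
    exact hmem
  set Γ' := S ∪ Finset.univ.image d with hΓ'
  have hΓ'card : Γ'.card = k := by
    have hdisj : Disjoint S (Finset.univ.image d) := by
      rw [Finset.disjoint_left]
      intro y hyS hyd
      obtain ⟨i, -, rfl⟩ := Finset.mem_image.mp hyd
      exact hdΓ i (hSΓ hyS)
    rw [hΓ', Finset.card_union_of_disjoint hdisj, Finset.card_image_of_injective _ hdinj,
      Finset.card_univ, Fintype.card_fin, hS, Finset.card_sdiff_of_subset hTΓ, hΓ, hT]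
    omega
  have hPfix : ∀ h ∈ P, ∀ y ∈ Γ', h y = y := by
    intro h hh y hy
    rcases Finset.mem_union.mp hy with hy | hy
    · exact ((mem_LL G).mp (hPL hh)).2.1 y hy
    · obtain ⟨i, -, rfl⟩ := Finset.mem_image.mp hy
      exact hd2 i h hh
  let ex : Fin k ↪ α :=
    ((Γ.equivFinOfCardEq hΓ).symm.toEmbedding).trans (Function.Embedding.subtype _)
  let ey : Fin k ↪ α :=
    ((Γ'.equivFinOfCardEq hΓ'card).symm.toEmbedding).trans (Function.Embedding.subtype _)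
  obtain ⟨g, hgG, hg⟩ := Cfsg.Agent.S0705.trans_aux G hk hgen _ ex ey rfl
  have hgΓ : ∀ y ∈ Γ, g y ∈ Γ' := by
    intro y hy
    have hy' : y = ex (Γ.equivFinOfCardEq hΓ ⟨y, hy⟩) := by simp [ex]
    rw [hy', hg]
    exact ((Γ'.equivFinOfCardEq hΓ'card).symm _).2
  set Pc := P.map (MulAut.conj g⁻¹).toMonoidHom with hPcdef
  have hPc : Nat.card Pc = p ^ (a + 1) := by
    rw [hPcdef, Subgroup.card_map_of_injective (MulAut.conj g⁻¹).injective, hPcard]
  have hPcK : Pc ≤ KK G Γ := by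
    rintro _ ⟨h, hh, rfl⟩
    rw [mem_KK]
    have hhG : h ∈ G := ((mem_LL G).mp (hPL hh)).1
    refine ⟨?_, ?_⟩
    · simp only [MulEquiv.coe_toMonoidHom, MulAut.conj_apply, inv_inv]
      exact G.mul_mem (G.mul_mem (G.inv_mem hgG) hhG) hgG
    · intro y hy
      simp only [MulEquiv.coe_toMonoidHom, MulAut.conj_apply, inv_inv, Equiv.Perm.mul_apply]
      rw [hPfix h hh _ (hgΓ y hy), perm_inv_apply_self]
  exact hna (hPc ▸ Subgroup.card_dvd_of_le hPcK)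

lemma orbit_eq (Γ : Finset α) (x : α) :
    (MulAction.orbit (fixingSubgroup G (Γ : Set α)) x : Set α) = {y | ∃ g ∈ KK G Γ, g x = y} := by
  ext y
  constructor
  · rintro ⟨m, rfl⟩
    refine ⟨((m : G) : Equiv.Perm α), (mem_KK G).mpr ⟨(m : G).2, fun z hz => ?_⟩, rfl⟩
    exact (mem_fixingSubgroup_iff _).mp m.2 z hz
  · rintro ⟨g, hg, rfl⟩
    obtain ⟨hgG, hfix⟩ := (mem_KK G).mp hg
    exact ⟨⟨⟨g, hgG⟩, (mem_fixingSubgroup_iff _).mpr (fun z hz => hfix z hz)⟩, rfl⟩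

end

/-- In a generously `k`-transitive permutation group, for a prime `p ≤ k` and a `k`-set `Γ`, there are no `p` points outside `Γ` lying in distinct orbits of the pointwise stabiliser of `Γ` all of length prime to `p` (at most `p - 1` such orbits). -/
theorem result {α : Type*} [Fintype α] [DecidableEq α] (G : Subgroup (Equiv.Perm α)) {k : ℕ} (hk : k < Fintype.card α) (hgen : ∀ s : Finset α, s.card = k + 1 → ∀ σ : Equiv.Perm ↥s, ∃ g ∈ G, ∀ x : ↥s, g (x : α) = σ x) {p : ℕ} (hp : p.Prime) (hpk : p ≤ k) (Γ : Finset α) (hΓ : Γ.card = k) (f : Fin p → α) (hf : ∀ i, f i ∉ Γ) (hdist : ∀ i j, i ≠ j → f j ∉ MulAction.orbit (fixingSubgroup G (Γ : Set α)) (f i)) : ∃ i, p ∣ Nat.card (MulAction.orbit (fixingSubgroup G (Γ : Set α)) (f i)) := by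
  have hdist' : ∀ i j, i ≠ j → ¬ ∃ g ∈ KK G Γ, g (f i) = f j := by
    intro i j hij hex
    apply hdist i j hij
    rw [orbit_eq]
    exact hex
  obtain ⟨i, hi⟩ := main G hk hgen hp hpk Γ hΓ f hf hdist'
  refine ⟨i, ?_⟩
  rw [Nat.card_coe_set_eq, orbit_eq]
  exact hi

end Cfsg.Agent.S0706
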