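import Cfsg.Statements.S0707
-- import your own Cfsg.Agent.* helpers here
import Mathlib

set_option autoImplicit false
open Cfsg

namespace Cfsg.Agent.S0707

theorem prime_card_of_isCoatom_bot {G : Type*} [Group G] [Nontrivial G]
    (h : IsCoatom (⊥ : Subgroup G)) : (Nat.card G).Prime := by
  obtain ⟨g, hg⟩ := exists_ne (1 : G)
  have htop : ∀ x : G, x ≠ 1 → Subgroup.zpowers x = ⊤ := by
    intro x hx
    have hne : Subgroup.zpowers x ≠ ⊥ := by
      rwa [Ne, Subgroup.zpowers_eq_bot]
    by_contra hcon
    have hlt : (⊥ : Subgroup G) < Subgroup.zpowers x := bot_lt_iff_ne_bot.mpr hne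
    exact hcon (h.2 _ hlt)
  have hn0 : orderOf g ≠ 0 := by
    intro h0
    have hg2 : g ^ 2 ≠ 1 := by
      intro h2
      have := orderOf_dvd_of_pow_eq_one h2
      rw [h0] at this
      simp at this
    have hmem : g ∈ Subgroup.zpowers (g ^ 2) := by
      rw [htop _ hg2]; trivial
    obtain ⟨k, hk⟩ := Subgroup.mem_zpowers_iff.mp hmem
    have h1 : g ^ (2 * k - 1) = 1 := by
      rw [zpow_sub, zpow_mul, zpow_one]
      have : (g ^ (2:ℤ)) ^ k = g := by
        have h2 : g ^ (2:ℤ) = g ^ 2 := by norm_cast
        rw [h2]; exact hk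
      rw [this, mul_inv_cancel]
    have := (orderOf_dvd_iff_zpow_eq_one).mpr h1
    rw [h0] at this
    simp only [Nat.cast_zero, zero_dvd_iff] at this
    omega
  have hn1 : orderOf g ≠ 1 := by
    rwa [Ne, orderOf_eq_one_iff]
  obtain ⟨q, hq, hqn⟩ := Nat.exists_prime_and_dvd hn1
  obtain ⟨m, hm⟩ := hqn
  have hm0 : m ≠ 0 := by
    rintro rfl; rw [mul_zero] at hm; exact hn0 hm
  have hord : orderOf (g ^ m) = q := by
    rw [orderOf_pow' g hm0, hm, Nat.gcd_mul_left_left, Nat.mul_div_cancel _ (Nat.pos_of_ne_zero hm0)]
  have hgm : g ^ m ≠ 1 := by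
    intro h1
    rw [h1, orderOf_one] at hord
    exact hq.one_lt.ne hord
  have h3 := htop _ hgm
  have : Nat.card G = q := by
    rw [← Subgroup.card_top (G := G), ← h3, Nat.card_zpowers, hord]
  rw [this]; exact hq

theorem main {G α : Type*} [Group G] [MulAction G α] [FaithfulSMul G α] [MulAction.IsPreprimitive G α]
    (h : ¬ (Nat.card α).Prime ∨ ∃ a : α, MulAction.stabilizer G a ≠ ⊥) {a b : α} (hab : a ≠ b) :
    MulAction.stabilizer G a ≠ MulAction.stabilizer G b := by
  intro heq
  have : Nontrivial α := ⟨⟨a, b, hab⟩⟩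
  have htrans : MulAction.IsPretransitive G α := inferInstance
  have hco : IsCoatom (MulAction.stabilizer G a) :=
    MulAction.IsPreprimitive.isCoatom_stabilizer_of_isPreprimitive (G := G) a
  obtain ⟨g, hg⟩ := MulAction.exists_smul_eq G a b
  have hgn : g ∈ Subgroup.normalizer ((MulAction.stabilizer G a : Subgroup G) : Set G) := by
    have h1 : (MulAction.stabilizer G a).map (MulAut.conj g).toMonoidHom = MulAction.stabilizer G a := by
      rw [← MulAction.stabilizer_smul_eq_stabilizer_map_conj, hg, heq]
    rw [Subgroup.mem_normalizer_iff]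
    intro x
    conv_rhs => rw [← h1, Subgroup.mem_map_equiv, MulAut.conj_symm_apply]
    simp [mul_assoc]
  have hgs : g ∉ MulAction.stabilizer G a := by
    intro hgs
    rw [MulAction.mem_stabilizer_iff] at hgs
    exact hab (hgs.symm.trans hg)
  have hnorm : Subgroup.normalizer ((MulAction.stabilizer G a : Subgroup G) : Set G) = ⊤ := by
    by_contra hcon
    have hle : MulAction.stabilizer G a ≤ Subgroup.normalizer ((MulAction.stabilizer G a : Subgroup G) : Set G) :=
      Subgroup.le_normalizer
    rcases eq_or_lt_of_le hle with heq' | hlt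
    · apply hgs; rw [heq']; exact hgn
    · exact hcon (hco.2 _ hlt)
  have hstab_all : ∀ x : α, MulAction.stabilizer G x = MulAction.stabilizer G a := by
    intro x
    obtain ⟨k, rfl⟩ := MulAction.exists_smul_eq G a x
    rw [MulAction.stabilizer_smul_eq_stabilizer_map_conj]
    have hk : k ∈ Subgroup.normalizer ((MulAction.stabilizer G a : Subgroup G) : Set G) := by
      rw [hnorm]; trivial
    ext y
    rw [Subgroup.mem_map_equiv, MulAut.conj_symm_apply]
    rw [Subgroup.mem_normalizer_iff'] at hk
    have := hk (k⁻¹ * y)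
    rw [mul_inv_cancel_left] at this
    exact this
  have hbot : MulAction.stabilizer G a = ⊥ := by
    rw [Subgroup.eq_bot_iff_forall]
    intro y hy
    apply FaithfulSMul.eq_of_smul_eq_smul (α := α)
    intro x
    have : y ∈ MulAction.stabilizer G x := by rw [hstab_all x]; exact hy
    rw [MulAction.mem_stabilizer_iff] at this
    rw [this, one_smul]
  rcases h with h | ⟨c, hc⟩
  · apply h
    rw [hbot] at hco
    have : Nontrivial G := by
      refine ⟨⟨g, 1, ?_⟩⟩
      rintro rfl
      rw [one_smul] at hg
      exact hab hg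
    have hprime := prime_card_of_isCoatom_bot hco
    have hbij : Function.Bijective (fun k : G => k • a) := by
      constructor
      · intro k l hkl
        have : k⁻¹ * l ∈ MulAction.stabilizer G a := by
          rw [MulAction.mem_stabilizer_iff, mul_smul]
          change k • a = l • a at hkl
          rw [← hkl, inv_smul_smul]
        rw [hbot, Subgroup.mem_bot] at this
        exact inv_mul_eq_one.mp this
      · intro x
        exact MulAction.exists_smul_eq G a x
    rw [← Nat.card_congr (Equiv.ofBijective _ hbij)]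
    exact hprime
  · apply hc
    rw [hstab_all c, hbot]


/-- In a primitive permutation group, distinct points have distinct stabilisers unless the group is regular of prime degree. -/
theorem result {α : Type*} (G : Subgroup (Equiv.Perm α)) [MulAction.IsPreprimitive G α] (h : ¬ (Nat.card α).Prime ∨ ∃ a : α, MulAction.stabilizer G a ≠ ⊥) {a b : α} (hab : a ≠ b) : MulAction.stabilizer G a ≠ MulAction.stabilizer G b := by
  exact main h hab

end Cfsg.Agent.S0707
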