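import Cfsg.Statements.S0708
-- import your own Cfsg.Agent.* helpers here
import Mathlib
import Cfsg.Agent.Lib_helper4_SharpG

set_option autoImplicit false
open Cfsg

namespace Cfsg.Agent.S0708

open Cfsg.Agent.helper4.Sharp


/-- Tits' argument: a sharply 4-transitive group (no finiteness assumed) has finite degree at most 11, and at most 6 when the degree is even. -/
theorem result {G : Type*} [Group G] {Ω : Type*} [MulAction G Ω] (h4 : MulAction.IsMultiplyPretransitive G Ω 4) (hsharp : ∀ x : Fin 4 ↪ Ω, MulAction.stabilizer G x = ⊥) (hne : Nonempty (Fin 4 ↪ Ω)) : Finite Ω ∧ Nat.card Ω ≤ 11 ∧ (Even (Nat.card Ω) → Nat.card Ω ≤ 6) := by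
  have S := sharpK_of_pretransitive (G := G) (Ω := Ω) 4 hsharp
  by_cases h7 : Nonempty (Fin 7 ↪ Ω)
  · obtain ⟨e⟩ := h7
    obtain ⟨hf, hc⟩ := core4 S e
    refine ⟨hf, by omega, ?_⟩
    intro hev
    rw [hc] at hev
    exact absurd hev (by decide)
  · have hfin : Finite Ω := by
      by_contra hinf
      rw [not_finite_iff_infinite] at hinf
      exact h7 ⟨(Fin.valEmbedding).trans (Infinite.natEmbedding Ω)⟩
    have hle : Nat.card Ω ≤ 6 := by
      by_contra hcon
      push Not at hcon
      apply h7
      have := Fintype.ofFinite Ω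
      apply Function.Embedding.nonempty_of_card_le
      rw [Fintype.card_fin, ← Nat.card_eq_fintype_card]
      exact hcon
    exact ⟨hfin, by omega, fun _ => hle⟩

end Cfsg.Agent.S0708
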