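import Cfsg.Statements.S0710
import Mathlib

set_option autoImplicit false
open Cfsg

namespace Cfsg.Agent.S0710

open Equiv

/-- No transitive permutation group on 13 points has order `13 * 12 * 11 * 10 * 9 * 8`. -/
theorem result {α : Type*} [Fintype α] [DecidableEq α] (hα : Fintype.card α = 13) (G : Subgroup (Equiv.Perm α)) [MulAction.IsPretransitive G α] : Nat.card G ≠ 13 * 12 * 11 * 10 * 9 * 8 := by
  classical
  intro hG
  have : Fact (Nat.Prime 13) := ⟨by norm_num⟩
  obtain ⟨P⟩ : Nonempty (Sylow 13 G) := inferInstance
  -- the order of `P`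
  have hPcard : Nat.card P = 13 := by
    obtain ⟨k, hk⟩ := P.2.exists_card_eq
    have h1 : (13 : ℕ) ∣ Nat.card P := P.dvd_card_of_dvd_card (by rw [hG]; norm_num)
    have h2 : Nat.card P ∣ Nat.card G := Subgroup.card_subgroup_dvd_card _
    rw [hk] at h1 h2
    rw [hG] at h2
    have hk1 : k ≠ 0 := by
      intro h
      rw [h, pow_zero] at h1
      norm_num at h1
    have hk2 : k < 2 := by
      by_contra hge
      push Not at hge
      have h3 : (13 : ℕ) ^ 2 ∣ 13 ^ k := pow_dvd_pow 13 hge
      have h4 := h3.trans h2
      norm_num at h4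
    have hk3 : k = 1 := by omega
    rw [hk, hk3, pow_one]
  have hPc : IsCyclic P := isCyclic_of_prime_card hPcard
  -- a generator, as a permutation
  obtain ⟨g0, hg0⟩ := IsCyclic.exists_generator (α := P)
  have hord0 : orderOf g0 = 13 := by
    rw [orderOf_eq_card_of_forall_mem_zpowers hg0, hPcard]
  have hordσ : orderOf (((g0 : G) : Perm α)) = 13 := by
    rw [Subgroup.orderOf_coe, Subgroup.orderOf_coe, hord0]
  have hct : (((g0 : G) : Perm α)).cycleType = {13} := by
    obtain ⟨n, hn⟩ := Perm.cycleType_prime_order (σ := ((g0 : G) : Perm α))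
      (by rw [hordσ]; norm_num)
    rw [hordσ] at hn
    have hsum := Perm.sum_cycleType ((g0 : G) : Perm α)
    rw [hn, Multiset.sum_replicate, smul_eq_mul] at hsum
    have hle : (((g0 : G) : Perm α)).support.card ≤ 13 :=
      le_trans (Finset.card_le_univ _) (le_of_eq hα)
    have hn0 : n = 0 := by omega
    rw [hn, hn0]
    rfl
  have hcentσ : Nat.card (Subgroup.centralizer ({((g0 : G) : Perm α)} : Set (Perm α))) = 13 := by
    rw [Perm.nat_card_centralizer, hct, hα]
    simp
  -- the centraliser of `P` in `G`
  have hCle : Nat.card (Subgroup.centralizer ((P : Subgroup G) : Set G)) ≤ 13 := by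
    refine le_trans ?_ (le_of_eq hcentσ)
    apply Nat.card_le_card_of_injective
      (fun c : Subgroup.centralizer ((P : Subgroup G) : Set G) =>
        (⟨((c : G) : Perm α), by
          rw [Subgroup.mem_centralizer_iff]
          intro h hh
          rw [Set.mem_singleton_iff] at hh
          subst hh
          have h1 := Subgroup.mem_centralizer_iff.mp c.2 (g0 : G) g0.2
          have h2 := congrArg (Subtype.val : G → Perm α) h1
          simpa using h2⟩ :
          Subgroup.centralizer ({((g0 : G) : Perm α)} : Set (Perm α))))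
    intro c1 c2 h12
    have h1 : ((c1 : G) : Perm α) = ((c2 : G) : Perm α) :=
      congrArg (fun z : Subgroup.centralizer ({((g0 : G) : Perm α)} : Set (Perm α)) =>
        (z : Perm α)) h12
    exact Subtype.ext (Subtype.ext h1)
  have hPC : (P : Subgroup G) ≤ Subgroup.centralizer ((P : Subgroup G) : Set G) :=
    Subgroup.le_centralizer _
  have hCcard : Nat.card (Subgroup.centralizer ((P : Subgroup G) : Set G)) = 13 := by
    have h1 : Nat.card (P : Subgroup G) ∣
        Nat.card (Subgroup.centralizer ((P : Subgroup G) : Set G)) :=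
      Subgroup.card_dvd_of_le hPC
    rw [hPcard] at h1
    have h2 : 0 < Nat.card (Subgroup.centralizer ((P : Subgroup G) : Set G)) := Nat.card_pos
    obtain ⟨t, ht⟩ := h1
    rw [ht] at hCle h2 ⊢
    have : t = 1 := by omega
    rw [this]
  -- the normaliser
  have hCN : Subgroup.centralizer ((P : Subgroup G) : Set G) ≤
      Subgroup.normalizer ((P : Subgroup G) : Set G) := Subgroup.centralizer_le_normalizer _
  have key := Subgroup.card_dvd_of_injective _
    (QuotientGroup.kerLift_injective (P : Subgroup G).normalizerMonoidHom)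
  rw [Subgroup.normalizerMonoidHom_ker, ← Subgroup.index, ← Subgroup.relIndex,
    IsCyclic.card_mulAut, hPcard] at key
  have htot : Nat.totient 13 = 12 := by
    rw [Nat.totient_prime (by norm_num)]
  rw [htot] at key
  have hrel : (Subgroup.centralizer ((P : Subgroup G) : Set G)).relIndex
      (Subgroup.normalizer ((P : Subgroup G) : Set G)) *
      Nat.card (Subgroup.centralizer ((P : Subgroup G) : Set G)) =
      Nat.card (Subgroup.normalizer ((P : Subgroup G) : Set G)) := by
    rw [Subgroup.relIndex, ← Nat.card_congr (Subgroup.subgroupOfEquivOfLe hCN).toEquiv]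
    exact Subgroup.index_mul_card _
  have hsyl : Nat.card (Sylow 13 G) ≡ 1 [MOD 13] := card_sylow_modEq_one 13 G
  rw [Sylow.card_eq_index_normalizer P] at hsyl
  have hmul := Subgroup.card_mul_index (Subgroup.normalizer ((P : Subgroup G) : Set G))
  rw [← hrel, hCcard, hG] at hmul
  have hr_pos : 0 < (Subgroup.centralizer ((P : Subgroup G) : Set G)).relIndex
      (Subgroup.normalizer ((P : Subgroup G) : Set G)) := Nat.pos_of_dvd_of_pos key (by norm_num)
  have hr_le : (Subgroup.centralizer ((P : Subgroup G) : Set G)).relIndex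
      (Subgroup.normalizer ((P : Subgroup G) : Set G)) ≤ 12 := Nat.le_of_dvd (by norm_num) key
  unfold Nat.ModEq at hsyl
  generalize (Subgroup.centralizer ((P : Subgroup G) : Set G)).relIndex
      (Subgroup.normalizer ((P : Subgroup G) : Set G)) = r at *
  generalize (Subgroup.normalizer ((P : Subgroup G) : Set G)).index = m at *
  interval_cases r <;> omega

end Cfsg.Agent.S0710
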