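import Cfsg.Statements.S0711
import Cfsg.Agent.Lib_helper18_MinDegree

set_option autoImplicit false
open Cfsg

namespace Cfsg.Agent.S0711

open Equiv MulAction Cfsg.Agent.helper18

/-- A `k`-transitive permutation group (`k ≥ 3`) with a non-identity element of support smaller than `2k - 2` contains a non-identity element of support at most 3, and therefore contains the alternating group. -/
theorem result {α : Type*} [Fintype α] [DecidableEq α] (G : Subgroup (Equiv.Perm α)) {k : ℕ} (hk : 3 ≤ k) (hkn : k ≤ Fintype.card α) (hG : MulAction.IsMultiplyPretransitive G α k) (g : Equiv.Perm α) (hg : g ∈ G) (hg1 : g ≠ 1) (hsupp : g.support.card < 2 * k - 2) : (∃ h : Equiv.Perm α, h ∈ G ∧ h ≠ 1 ∧ h.support.card ≤ 3) ∧ alternatingGroup α ≤ G := by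
  have := hG
  have hcard : Nat.card α = Fintype.card α := Nat.card_eq_fintype_card
  have h2t : IsMultiplyPretransitive G α 2 :=
    isMultiplyPretransitive_of_le (n := k) (by omega) (by rw [hcard]; exact hkn)
  have hprim : IsPreprimitive G α := isPreprimitive_of_is_two_pretransitive h2t
  have hex : ∃ h : Equiv.Perm α, h ∈ G ∧ h ≠ 1 ∧ h.support.card ≤ 3 := by
    by_cases hkn2 : k + 2 ≤ Fintype.card α
    · obtain ⟨h, hhG, hh1, hhs⟩ :=
        exists_support_le_three_of_lt G hk hkn2 hG g.support.card g hg hg1 rfl hsupp
      exact ⟨h, hhG, hh1, hhs⟩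
    · have htop : G = ⊤ := by
        apply Equiv.Perm.eq_top_of_isMultiplyPretransitive
        exact isMultiplyPretransitive_of_le (n := k) (by rw [hcard]; omega)
          (by rw [hcard]; exact hkn)
      obtain ⟨a, b, hab⟩ : ∃ a b : α, a ≠ b := by
        have h1 : 1 < Fintype.card α := by omega
        exact Fintype.exists_pair_of_one_lt_card h1
      refine ⟨Equiv.swap a b, by rw [htop]; exact Subgroup.mem_top _, ?_, ?_⟩
      · intro h
        have := Equiv.Perm.card_support_swap hab
        rw [h, Equiv.Perm.support_one, Finset.card_empty] at this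
        omega
      · rw [Equiv.Perm.card_support_swap hab]
        omega
  refine ⟨hex, ?_⟩
  obtain ⟨h, hhG, hh1, hhs⟩ := hex
  have h0 : h.support.card ≠ 0 := by
    intro h0
    rw [Finset.card_eq_zero, Equiv.Perm.support_eq_empty_iff] at h0
    exact hh1 h0
  have h1 : h.support.card ≠ 1 := Equiv.Perm.card_support_ne_one h
  have h23 : h.support.card = 2 ∨ h.support.card = 3 := by omega
  rcases h23 with h2 | h3
  · have hsw : h.IsSwap := Equiv.Perm.card_support_eq_two.mp h2
    have htop := Equiv.Perm.subgroup_eq_top_of_isPreprimitive_of_isSwap_mem hprim h hsw hhG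
    rw [htop]
    exact le_top
  · have h3c : h.IsThreeCycle := _root_.card_support_eq_three_iff.mp h3
    exact Equiv.Perm.alternatingGroup_le_of_isPreprimitive_of_isThreeCycle_mem hprim h3c hhG

end Cfsg.Agent.S0711
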