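import Cfsg.Statements.S0713
-- import your own Cfsg.Agent.* helpers here
import Mathlib

set_option autoImplicit false
open Cfsg

namespace Cfsg.Agent.S0713

open MulAction Equiv.Perm
open scoped Pointwise

section
variable {α : Type*} [Fintype α] [DecidableEq α] (G : Subgroup (Equiv.Perm α))

/-- Step 1 : `G` is `(n - p + 1)`-transitive. -/
theorem ktrans (hG : MulAction.IsPreprimitive G α) {p : ℕ} (hp : p.Prime) {m : ℕ}
    (hcard : Fintype.card α = p + (m + 3)) {g : Equiv.Perm α} (hgc : g.IsCycle)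
    (hgp : g.support.card = p) (hg : g ∈ G) : MulAction.IsMultiplyPretransitive G α (m + 3) := by
  classical
  have hsc : Set.ncard ((g.support : Set α)ᶜ) = (m + 2) + 1 := by
    have := Set.ncard_add_ncard_compl (g.support : Set α)
    rw [Set.ncard_coe_finset, hgp, Nat.card_eq_fintype_card] at this
    omega
  have hprim : IsPreprimitive (fixingSubgroup G ((g.support : Set α)ᶜ))
      (SubMulAction.ofFixingSubgroup G ((g.support : Set α)ᶜ)) := by
    have := isPretransitive_of_isCycle_mem hgc hg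
    apply IsPreprimitive.of_prime_card
    convert hp
    rw [Nat.card_eq_fintype_card, Fintype.card_subtype, ← hgp]
    congr 1
    ext x
    simp only [Finset.mem_filter, Finset.mem_univ, true_and]
    rw [SubMulAction.mem_ofFixingSubgroup_iff]
    simp
  have h := hG.isMultiplyPreprimitive hsc (by
    rw [Nat.card_eq_fintype_card, hcard]
    have := hp.two_le
    omega) hprim
  have := h.isMultiplyPretransitive
  exact MulAction.isMultiplyPretransitive_of_le (n := m + 2 + 2) (by omega) (by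
    rw [Nat.card_eq_fintype_card, hcard]
    have := hp.two_le
    omega)

/-- prescribing the values on a `k`-set -/
theorem extendΓ {k : ℕ} (h : MulAction.IsMultiplyPretransitive G α k) (Γ : Finset α)
    (hΓ : Γ.card = k) (σ : Equiv.Perm α) : ∃ x ∈ G, ∀ d ∈ Γ, x d = σ d := by
  let e : Fin k ↪ α := (Γ.equivFinOfCardEq hΓ).symm.toEmbedding.trans (Function.Embedding.subtype _)
  let e' : Fin k ↪ α := e.trans σ.toEmbedding
  obtain ⟨⟨x, hx⟩, hxe⟩ := MulAction.exists_smul_eq G e e'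
  refine ⟨x, hx, ?_⟩
  intro d hd
  have := DFunLike.congr_fun hxe (Γ.equivFinOfCardEq hΓ ⟨d, hd⟩)
  have he : e (Γ.equivFinOfCardEq hΓ ⟨d, hd⟩) = d := by
    simp [e]
  have h1 : (((⟨x, hx⟩ : G) • e) (Γ.equivFinOfCardEq hΓ ⟨d, hd⟩)) = x d := by
    rw [Function.Embedding.smul_apply, he]; rfl
  have h2 : e' (Γ.equivFinOfCardEq hΓ ⟨d, hd⟩) = σ d := by
    show σ (e _) = σ d
    rw [he]
  rw [h1, h2] at this
  exact this

/-- conjugacy of subgroups of order `p` when `p ^ 2` does not divide the order -/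
theorem conj_of_orderOf {K : Type*} [Group K] [Finite K] {p : ℕ} (hp : p.Prime)
    (hK : ¬ p ^ 2 ∣ Nat.card K) (a b : K) (ha : orderOf a = p) (hb : orderOf b = p) :
    ∃ y : K, y * b * y⁻¹ ∈ Subgroup.zpowers a := by
  haveI : Fact p.Prime := ⟨hp⟩
  have hfac : (Nat.card K).factorization p = 1 := by
    have h1 : p ∣ Nat.card K := by rw [← ha]; exact orderOf_dvd_natCard a
    have h2 : 1 ≤ (Nat.card K).factorization p :=
      (hp.dvd_iff_one_le_factorization Nat.card_pos.ne').mp h1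
    have h3 : ¬ 2 ≤ (Nat.card K).factorization p := by
      intro h
      exact hK ((hp.pow_dvd_iff_le_factorization Nat.card_pos.ne').mpr h)
    omega
  have hcard : ∀ c : K, orderOf c = p →
      Nat.card (Subgroup.zpowers c) = p ^ (Nat.card K).factorization p := by
    intro c hc
    rw [Nat.card_zpowers, hc, hfac, pow_one]
  let P : Sylow p K := Sylow.ofCard (Subgroup.zpowers a) (hcard a ha)
  let Q : Sylow p K := Sylow.ofCard (Subgroup.zpowers b) (hcard b hb)
  obtain ⟨y, hy⟩ := MulAction.exists_smul_eq K Q P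
  refine ⟨y, ?_⟩
  have h1 : b ∈ (Q : Subgroup K) := Subgroup.mem_zpowers b
  have h2 : MulAut.conj y • b ∈ MulAut.conj y • (Q : Subgroup K) :=
    Subgroup.smul_mem_pointwise_smul b (MulAut.conj y) _ h1
  have h3 : ((y • Q : Sylow p K) : Subgroup K) = MulAut.conj y • (Q : Subgroup K) :=
    Sylow.coe_subgroup_smul
  rw [← h3, hy] at h2
  exact h2

theorem not_sq_dvd_factorial {p : ℕ} (hp : p.Prime) : ¬ p ^ 2 ∣ p.factorial := by
  intro h
  obtain ⟨q, rfl⟩ : ∃ q, p = q + 1 := ⟨p - 1, by have := hp.pos; omega⟩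
  rw [Nat.factorial_succ, pow_two] at h
  have h1 : (q + 1) ∣ q.factorial := Nat.dvd_of_mul_dvd_mul_left (Nat.succ_pos q) h
  have := (hp.dvd_factorial).mp h1
  omega

theorem normΓ {p : ℕ} (hp : p.Prime) {k : ℕ} (h : MulAction.IsMultiplyPretransitive G α k)
    {g : Equiv.Perm α} (hgc : g.IsCycle) (hgp : g.support.card = p) (hg : g ∈ G)
    (hΓ : (g.supportᶜ).card = k) (σ : Equiv.Perm α) (hσ : ∀ d ∈ g.supportᶜ, σ d ∈ g.supportᶜ) :
    ∃ z ∈ G, z * g * z⁻¹ ∈ Subgroup.zpowers g ∧ ∀ d ∈ g.supportᶜ, z d = σ d := by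
  set Γ := g.supportᶜ with hΓdef
  obtain ⟨x, hxG, hx⟩ := extendΓ G h Γ hΓ σ
  have hxΓ : ∀ d ∈ Γ, x d ∈ Γ := fun d hd => by rw [hx d hd]; exact hσ d hd
  have hxΓ' : ∀ d ∈ Γ, x⁻¹ d ∈ Γ := by
    intro d hd
    have himg : Γ.image x = Γ := by
      apply Finset.eq_of_subset_of_card_le
      · intro y hy
        obtain ⟨d', hd', rfl⟩ := Finset.mem_image.mp hy
        exact hxΓ d' hd'
      · rw [Finset.card_image_of_injective _ x.injective]
    rw [← himg] at hd
    obtain ⟨d', hd', rfl⟩ := Finset.mem_image.mp hd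
    rw [Equiv.Perm.inv_def, Equiv.symm_apply_apply]
    exact hd'
  let K : Subgroup (Equiv.Perm α) := G ⊓ fixingSubgroup (Equiv.Perm α) (Γ : Set α)
  have hKmem : ∀ y, y ∈ K ↔ y ∈ G ∧ ∀ d ∈ Γ, y d = d := by
    intro y
    simp only [K, Subgroup.mem_inf, mem_fixingSubgroup_iff]
    rfl
  have hgK : g ∈ K := (hKmem g).mpr ⟨hg, fun d hd => notMem_support.mp (Finset.mem_compl.mp hd)⟩
  have hcK : x * g * x⁻¹ ∈ K := by
    rw [hKmem]
    refine ⟨G.mul_mem (G.mul_mem hxG hg) (G.inv_mem hxG), ?_⟩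
    intro d hd
    simp only [Equiv.Perm.mul_apply]
    rw [notMem_support.mp (Finset.mem_compl.mp (hxΓ' d hd))]
    simp
  have hKcard : ¬ p ^ 2 ∣ Nat.card K := by
    have hle : K ≤ (Equiv.Perm.ofSubtype :
        Equiv.Perm {x // x ∈ g.support} →* Equiv.Perm α).range := by
      intro y hy
      obtain ⟨hyG, hyΓ⟩ := (hKmem y).mp hy
      have h₂ : ∀ a, y a ≠ a → a ∈ g.support := by
        intro a ha
        by_contra hns
        exact ha (hyΓ a (Finset.mem_compl.mpr hns))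
      have h₁ : ∀ a, y a ∈ g.support ↔ a ∈ g.support := by
        intro a
        constructor
        · intro hya
          by_contra hns
          rw [hyΓ a (Finset.mem_compl.mpr hns)] at hya
          exact hns hya
        · intro ha
          by_contra hns
          have h3 := hyΓ (y a) (Finset.mem_compl.mpr hns)
          have h4 := y.injective h3
          rw [h4] at hns; exact hns ha
      exact ⟨Equiv.Perm.subtypePerm y h₁, Equiv.Perm.ofSubtype_subtypePerm h₁ h₂⟩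
    have hdvd : Nat.card K ∣ Nat.card (Equiv.Perm {x // x ∈ g.support}) := by
      have h1 := Subgroup.card_dvd_of_le hle
      rwa [Nat.card_congr (MonoidHom.ofInjective Equiv.Perm.ofSubtype_injective).toEquiv.symm] at h1
    rw [Nat.card_perm, Nat.card_eq_fintype_card (α := {x // x ∈ g.support}), Fintype.card_coe,
      hgp] at hdvd
    intro h2
    exact not_sq_dvd_factorial hp (dvd_trans h2 hdvd)
  have hord : orderOf g = p := by rw [hgc.orderOf, hgp]
  have hord1 : orderOf (⟨g, hgK⟩ : K) = p := by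
    rw [← Subgroup.orderOf_coe]; exact hord
  have hord2 : orderOf (⟨x * g * x⁻¹, hcK⟩ : K) = p := by
    rw [← Subgroup.orderOf_coe]
    show orderOf (x * g * x⁻¹) = p
    rw [← MulAut.conj_apply, MulEquiv.orderOf_eq]; exact hord
  obtain ⟨y, i, hi⟩ := conj_of_orderOf hp hKcard (⟨g, hgK⟩ : K) ⟨x * g * x⁻¹, hcK⟩ hord1 hord2
  refine ⟨y.1 * x, G.mul_mem ((hKmem y.1).mp y.2).1 hxG, ?_, ?_⟩
  · refine ⟨i, ?_⟩
    have h5 := congrArg Subtype.val hi
    simp only [Subgroup.coe_zpow, Subgroup.coe_mul, Subgroup.coe_inv] at h5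
    show g ^ i = _
    rw [h5]; group
  · intro d hd
    rw [Equiv.Perm.mul_apply, ((hKmem y.1).mp y.2).2 _ (hxΓ d hd), hx d hd]

end


/-- Jordan's Theorem: a primitive permutation group of degree `n ≥ 5` containing a `p`-cycle for a prime `p ≤ n - 3` contains the alternating group. -/
theorem result {α : Type*} [Fintype α] [DecidableEq α] (G : Subgroup (Equiv.Perm α)) (hG : MulAction.IsPreprimitive G α) {p : ℕ} (hp : p.Prime) (hn : 5 ≤ Fintype.card α) (hpn : p + 3 ≤ Fintype.card α) {g : Equiv.Perm α} (hgc : g.IsCycle) (hgp : g.support.card = p) (hg : g ∈ G) : alternatingGroup α ≤ G := by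
  obtain ⟨m, hm⟩ : ∃ m, Fintype.card α = p + (m + 3) := ⟨Fintype.card α - p - 3, by omega⟩
  have hk := ktrans G hG hp hm hgc hgp hg
  set Γ := g.supportᶜ with hΓdef
  have hΓcard : Γ.card = m + 3 := by rw [Finset.card_compl, hgp, hm]; omega
  obtain ⟨a, b, c, ha, hb, hc, hab, hac, hbc⟩ :=
    Finset.two_lt_card_iff.mp (show 2 < Γ.card by rw [hΓcard]; omega)
  have hσ₁v : ∀ d, d ≠ a → d ≠ b → d ≠ c → (Equiv.swap a c * Equiv.swap a b) d = d := by
    intro d h1 h2 h3
    rw [Equiv.Perm.mul_apply, Equiv.swap_apply_of_ne_of_ne h1 h2, Equiv.swap_apply_of_ne_of_ne h1 h3]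
  have hσ₁a : (Equiv.swap a c * Equiv.swap a b) a = b := by
    rw [Equiv.Perm.mul_apply, Equiv.swap_apply_left, Equiv.swap_apply_of_ne_of_ne hab.symm hbc]
  have hσ₁b : (Equiv.swap a c * Equiv.swap a b) b = c := by
    rw [Equiv.Perm.mul_apply, Equiv.swap_apply_right, Equiv.swap_apply_left]
  have hσ₁c : (Equiv.swap a c * Equiv.swap a b) c = a := by
    rw [Equiv.Perm.mul_apply, Equiv.swap_apply_of_ne_of_ne hac.symm hbc.symm, Equiv.swap_apply_right]
  have hσ₁ : ∀ d ∈ Γ, (Equiv.swap a c * Equiv.swap a b) d ∈ Γ := by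
    intro d hd
    by_cases h1 : d = a
    · rw [h1, hσ₁a]; exact hb
    by_cases h2 : d = b
    · rw [h2, hσ₁b]; exact hc
    by_cases h3 : d = c
    · rw [h3, hσ₁c]; exact ha
    rw [hσ₁v d h1 h2 h3]; exact hd
  have hσ₂ : ∀ d ∈ Γ, (Equiv.swap a b) d ∈ Γ := by
    intro d hd
    by_cases h1 : d = a
    · rw [h1, Equiv.swap_apply_left]; exact hb
    by_cases h2 : d = b
    · rw [h2, Equiv.swap_apply_right]; exact ha
    rw [Equiv.swap_apply_of_ne_of_ne h1 h2]; exact hd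
  obtain ⟨z₁, hz₁G, hz₁g, hz₁⟩ := normΓ G hp hk hgc hgp hg hΓcard _ hσ₁
  obtain ⟨z₂, hz₂G, hz₂g, hz₂⟩ := normΓ G hp hk hgc hgp hg hΓcard _ hσ₂
  have z1a : z₁ a = b := by rw [hz₁ a ha, hσ₁a]
  have z1b : z₁ b = c := by rw [hz₁ b hb, hσ₁b]
  have z1c : z₁ c = a := by rw [hz₁ c hc, hσ₁c]
  have z1d : ∀ d ∈ Γ, d ≠ a → d ≠ b → d ≠ c → z₁ d = d := by
    intro d hd h1 h2 h3; rw [hz₁ d hd, hσ₁v d h1 h2 h3]
  have z2a : z₂ a = b := by rw [hz₂ a ha, Equiv.swap_apply_left]
  have z2b : z₂ b = a := by rw [hz₂ b hb, Equiv.swap_apply_right]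
  have z2c : z₂ c = c := by rw [hz₂ c hc, Equiv.swap_apply_of_ne_of_ne hac.symm hbc.symm]
  have z2d : ∀ d ∈ Γ, d ≠ a → d ≠ b → d ≠ c → z₂ d = d := by
    intro d hd h1 h2 h3; rw [hz₂ d hd, Equiv.swap_apply_of_ne_of_ne h1 h2]
  have hinv : ∀ (z : Equiv.Perm α) (x y : α), z x = y → z⁻¹ y = x := by
    intro z x y h; rw [← h, Equiv.Perm.inv_def, Equiv.symm_apply_apply]
  set w := z₁⁻¹ * z₂⁻¹ * z₁ * z₂ with hw
  have hwG : w ∈ G :=
    G.mul_mem (G.mul_mem (G.mul_mem (G.inv_mem hz₁G) (G.inv_mem hz₂G)) hz₁G) hz₂G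
  have hwa : w a = b := by
    simp only [hw, Equiv.Perm.mul_apply]
    rw [z2a, z1b, hinv z₂ c c z2c, hinv z₁ b c z1b]
  have hwb : w b = c := by
    simp only [hw, Equiv.Perm.mul_apply]
    rw [z2b, z1a, hinv z₂ a b z2a, hinv z₁ c a z1c]
  have hwc : w c = a := by
    simp only [hw, Equiv.Perm.mul_apply]
    rw [z2c, z1c, hinv z₂ b a z2b, hinv z₁ a b z1a]
  have hwd : ∀ d ∈ Γ, d ≠ a → d ≠ b → d ≠ c → w d = d := by
    intro d hd h1 h2 h3
    simp only [hw, Equiv.Perm.mul_apply]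
    rw [z2d d hd h1 h2 h3, z1d d hd h1 h2 h3, hinv z₂ d d (z2d d hd h1 h2 h3),
      hinv z₁ d d (z1d d hd h1 h2 h3)]
  obtain ⟨i, hi⟩ := hz₁g
  obtain ⟨j, hj⟩ := hz₂g
  have hi' : g ^ i = z₁ * g * z₁⁻¹ := hi
  have hj' : g ^ j = z₂ * g * z₂⁻¹ := hj
  have hcomm : Commute w g := by
    have e1 : z₁ * z₂ * g * z₂⁻¹ * z₁⁻¹ = g ^ (i * j) := by
      have : z₁ * z₂ * g * z₂⁻¹ * z₁⁻¹ = z₁ * (z₂ * g * z₂⁻¹) * z₁⁻¹ := by group
      rw [this, ← hj', ← conj_zpow, ← hi', ← zpow_mul]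
    have e2 : z₂ * z₁ * g * z₁⁻¹ * z₂⁻¹ = g ^ (i * j) := by
      have : z₂ * z₁ * g * z₁⁻¹ * z₂⁻¹ = z₂ * (z₁ * g * z₁⁻¹) * z₂⁻¹ := by group
      rw [this, ← hi', ← conj_zpow, ← hj', ← zpow_mul, mul_comm]
    have e3 : w * g * w⁻¹ = g := by
      have : w * g * w⁻¹ = z₁⁻¹ * z₂⁻¹ * (z₁ * z₂ * g * z₂⁻¹ * z₁⁻¹) * z₂ * z₁ := by
        rw [hw]; group
      rw [this, e1, ← e2]; group
    show w * g = g * w
    calc w * g = w * g * w⁻¹ * w := by group
      _ = g * w := by rw [e3]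
  obtain ⟨hc', j', hj''⟩ := hgc.commute_iff.mp hcomm
  have hgj : g ^ j' = Equiv.Perm.ofSubtype (Equiv.Perm.subtypePerm w hc') := hj''
  set u := (g ^ j')⁻¹ * w with hu
  have huG : u ∈ G := G.mul_mem (G.inv_mem (G.zpow_mem hg j')) hwG
  have hfix : ∀ y, y ∉ g.support → (g ^ j')⁻¹ y = y := by
    intro y hy
    apply hinv
    rw [← Equiv.Perm.notMem_support]
    exact fun h => hy (Equiv.Perm.support_zpow_le g j' h)
  have hnotsupp : ∀ d ∈ Γ, d ∉ g.support := fun d hd => Finset.mem_compl.mp hd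
  have hueq : u = Equiv.swap a c * Equiv.swap a b := by
    ext x
    by_cases hx : x ∈ g.support
    · have hwx : w x = (g ^ j') x := by
        rw [hgj, Equiv.Perm.ofSubtype_subtypePerm_of_mem hc' hx]
      have hxa : x ≠ a := fun h => hnotsupp a ha (h ▸ hx)
      have hxb : x ≠ b := fun h => hnotsupp b hb (h ▸ hx)
      have hxc : x ≠ c := fun h => hnotsupp c hc (h ▸ hx)
      rw [hu, Equiv.Perm.mul_apply, hwx, hσ₁v x hxa hxb hxc, Equiv.Perm.inv_def,
        Equiv.symm_apply_apply]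
    · have hxΓ : x ∈ Γ := Finset.mem_compl.mpr hx
      rw [hu, Equiv.Perm.mul_apply]
      by_cases h1 : x = a
      · rw [h1, hwa, hσ₁a, hfix b (hnotsupp b hb)]
      by_cases h2 : x = b
      · rw [h2, hwb, hσ₁b, hfix c (hnotsupp c hc)]
      by_cases h3 : x = c
      · rw [h3, hwc, hσ₁c, hfix a (hnotsupp a ha)]
      rw [hwd x hxΓ h1 h2 h3, hσ₁v x h1 h2 h3, hfix x hx]
  have h3 : u.IsThreeCycle := by
    rw [hueq]
    exact Equiv.Perm.isThreeCycle_swap_mul_swap_same hac hab hbc.symm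
  exact Equiv.Perm.alternatingGroup_le_of_isPreprimitive_of_isThreeCycle_mem hG h3 huG

end Cfsg.Agent.S0713
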