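import Cfsg.Statements.S0714
import Mathlib
-- import your own Cfsg.Agent.* helpers here

set_option autoImplicit false
open Cfsg

namespace Cfsg.Agent.S0714

open Equiv Equiv.Perm

variable {α : Type*} [Fintype α] [DecidableEq α] {K : Type*} [Field K]

lemma exists_not_mem (h : 5 ≤ Fintype.card α) (s : Finset α) (hs : s.card ≤ 4) : ∃ x, x ∉ s := by
  by_contra hh
  push Not at hh
  have : s = Finset.univ := Finset.eq_univ_iff_forall.mpr hh
  rw [this, Finset.card_univ] at hs
  omega

/-- the three-cycle action -/
lemma inv3 (V : Submodule K (α → K))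
    (hV : ∀ g : alternatingGroup α, ∀ v ∈ V, permRep K (alternatingGroup α) α g v ∈ V)
    (a b c : α) (hab : a ≠ b) (hac : a ≠ c) (hbc : b ≠ c) (v : α → K) (hv : v ∈ V) :
    (fun x => if x = a then v b else if x = b then v c else if x = c then v a else v x) ∈ V := by
  have h3 : IsThreeCycle (swap a b * swap a c) := isThreeCycle_swap_mul_swap_same hab hac hbc
  have := hV ⟨swap a b * swap a c, h3.mem_alternatingGroup⟩ v hv
  convert this using 1
  funext x
  show _ = v ((swap a b * swap a c)⁻¹ x)
  rw [mul_inv_rev, swap_inv, swap_inv, Perm.mul_apply]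
  by_cases hxa : x = a
  · rw [if_pos hxa, hxa, swap_apply_left, swap_apply_of_ne_of_ne hab.symm hbc]
  · rw [if_neg hxa]
    by_cases hxb : x = b
    · rw [if_pos hxb, hxb, swap_apply_right, swap_apply_left]
    · rw [if_neg hxb]
      by_cases hxc : x = c
      · rw [if_pos hxc, hxc, swap_apply_of_ne_of_ne hac.symm hbc.symm, swap_apply_right]
      · rw [if_neg hxc, swap_apply_of_ne_of_ne hxa hxb, swap_apply_of_ne_of_ne hxa hxc]



lemma diff_mem (h5 : 5 ≤ Fintype.card α) (V : Submodule K (α → K))
    (hV : ∀ g : alternatingGroup α, ∀ v ∈ V, permRep K (alternatingGroup α) α g v ∈ V)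
    (v : α → K) (hv : v ∈ V) (i j : α) (hij : v i ≠ v j) :
    ∃ l, l ≠ i ∧ (Pi.single i 1 - Pi.single l 1 : α → K) ∈ V := by
  have hij' : i ≠ j := by rintro rfl; exact hij rfl
  obtain ⟨k, hk⟩ := exists_not_mem h5 ({i, j} : Finset α) (by
    exact (Finset.card_le_two).trans (by norm_num))
  simp only [Finset.mem_insert, Finset.mem_singleton, not_or] at hk
  obtain ⟨l, hl⟩ := exists_not_mem h5 ({i, j, k} : Finset α) (by
    exact (Finset.card_le_three).trans (by norm_num))
  simp only [Finset.mem_insert, Finset.mem_singleton, not_or] at hl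
  obtain ⟨m, hm⟩ := exists_not_mem h5 ({i, j, k, l} : Finset α) (by
    exact (Finset.card_le_four).trans (by norm_num))
  simp only [Finset.mem_insert, Finset.mem_singleton, not_or] at hm
  have hg := inv3 V hV i j k hij' (Ne.symm hk.1) (Ne.symm hk.2) v hv
  set w : α → K := v - (fun x => if x = i then v j else if x = j then v k
    else if x = k then v i else v x) with hw
  have hwV : w ∈ V := V.sub_mem hv hg
  have hwi : w i = v i - v j := by simp [hw]
  have hwi0 : w i ≠ 0 := by rw [hwi]; exact sub_ne_zero.mpr hij
  have hw0 : ∀ x, x ≠ i → x ≠ j → x ≠ k → w x = 0 := by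
    intro x h1 h2 h3
    simp [hw, h1, h2, h3]
  have hwl : w l = 0 := hw0 l hl.1 hl.2.1 hl.2.2
  have hwm : w m = 0 := hw0 m hm.1 hm.2.1 hm.2.2.1
  have hh := inv3 V hV l i m hl.1 (Ne.symm hm.2.2.2) (Ne.symm hm.1) w hwV
  have huV := V.sub_mem hwV hh
  refine ⟨l, hl.1, ?_⟩
  have : (Pi.single i 1 - Pi.single l 1 : α → K) = (w i)⁻¹ • (w - (fun x => if x = l then w i
      else if x = i then w m else if x = m then w l else w x)) := by
    funext x
    simp only [Pi.sub_apply, Pi.smul_apply, smul_eq_mul, Pi.single_apply]
    by_cases hxl : x = l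
    · subst hxl
      simp [hl.1, hwl, hwi0]
    · by_cases hxi : x = i
      · subst hxi
        simp [hxl, hwm, hwi0]
      · by_cases hxm : x = m
        · subst hxm
          simp [hxl, hxi, hwl, hwm]
        · simp [hxl, hxi, hxm]
  rw [this]
  exact V.smul_mem _ huV

lemma all_diff (h5 : 5 ≤ Fintype.card α) (V : Submodule K (α → K))
    (hV : ∀ g : alternatingGroup α, ∀ v ∈ V, permRep K (alternatingGroup α) α g v ∈ V)
    (i l : α) (hil : l ≠ i) (hd : (Pi.single i 1 - Pi.single l 1 : α → K) ∈ V) :
    ∀ b, b ≠ i → (Pi.single i 1 - Pi.single b 1 : α → K) ∈ V := by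
  intro b hb
  by_cases hbl : b = l
  · rw [hbl]; exact hd
  · obtain ⟨c, hc⟩ := exists_not_mem h5 ({i, l, b} : Finset α) (by
      exact (Finset.card_le_three).trans (by norm_num))
    simp only [Finset.mem_insert, Finset.mem_singleton, not_or] at hc
    have hh := inv3 V hV b l c hbl (Ne.symm hc.2.2) (Ne.symm hc.2.1) _ hd
    convert hh using 1
    funext x
    simp only [Pi.sub_apply, Pi.single_apply]
    by_cases hxb : x = b
    · subst hxb
      simp [hb, hil, Ne.symm hil]
    · by_cases hxl : x = l
      · subst hxl
        simp [hxb, hil, hc.1, hc.2.1, Ne.symm hbl]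
      · by_cases hxc : x = c
        · subst hxc
          simp [hxb, hxl, hc.1, hb, hbl]
        · simp [hxb, hxl, hxc]



theorem main14 (hα : 5 ≤ Fintype.card α)
    (W : Subrepresentation (Cfsg.permRep K (alternatingGroup α) α)) :
    W.toSubmodule = ⊥ ∨ W = Cfsg.permConstants K (alternatingGroup α) α ∨
      W = Cfsg.permSumZero K (alternatingGroup α) α ∨ W.toSubmodule = ⊤ := by
  set V := W.toSubmodule with hVdef
  have hV : ∀ g : alternatingGroup α, ∀ v ∈ V, permRep K (alternatingGroup α) α g v ∈ V :=
    fun g v hv => W.apply_mem_toSubmodule g hv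
  obtain ⟨x₀⟩ : Nonempty α := Fintype.card_pos_iff.mp (by omega)
  by_cases hconst : ∀ v ∈ V, ∀ i j, v i = v j
  · by_cases hbot : V = ⊥
    · left; exact hbot
    · right; left
      apply Subrepresentation.toSubmodule_injective
      show V = Submodule.span K {fun _ => 1}
      apply le_antisymm
      · intro v hv
        rw [Submodule.mem_span_singleton]
        exact ⟨v x₀, funext fun x => by simp [hconst v hv x x₀]⟩
      · rw [Submodule.span_singleton_le_iff_mem]
        obtain ⟨v, hv, hv0⟩ := Submodule.exists_mem_ne_zero_of_ne_bot hbot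
        have hc : v x₀ ≠ 0 := by
          intro h
          apply hv0
          funext x
          rw [hconst v hv x x₀, h]; rfl
        have : (fun _ => 1 : α → K) = (v x₀)⁻¹ • v := by
          funext x
          simp [hconst v hv x x₀, hc]
        rw [this]; exact V.smul_mem _ hv
  · push Not at hconst
    obtain ⟨v, hv, i, j, hij⟩ := hconst
    obtain ⟨l, hli, hd⟩ := diff_mem hα V hV v hv i j hij
    have hall := all_diff hα V hV i l hli hd
    have hsz : (permSumZero K (alternatingGroup α) α).toSubmodule ≤ V := by
      intro f hf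
      have hf0 : ∑ x, f x = 0 := hf
      have : f = ∑ x, (-(f x)) • (Pi.single i 1 - Pi.single x 1 : α → K) := by
        funext y
        simp only [Finset.sum_apply, Pi.smul_apply, Pi.sub_apply, Pi.single_apply, smul_eq_mul,
          mul_sub, Finset.sum_sub_distrib, ← Finset.sum_mul, Finset.sum_neg_distrib, hf0]
        simp
      rw [this]
      apply V.sum_mem
      intro x _
      by_cases hx : x = i
      · subst hx; simp
      · exact V.smul_mem _ (hall x hx)
    by_cases hsum : ∀ v ∈ V, ∑ x, v x = 0
    · right; right; left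
      apply Subrepresentation.toSubmodule_injective
      exact le_antisymm (fun v hv => hsum v hv) hsz
    · right; right; right
      push Not at hsum
      obtain ⟨u, hu, hus⟩ := hsum
      rw [eq_top_iff]
      intro f _
      have : f = (f - ((∑ x, f x) / (∑ x, u x)) • u) + ((∑ x, f x) / (∑ x, u x)) • u := by
        abel
      rw [this]
      apply V.add_mem (hsz _) (V.smul_mem _ hu)
      show ∑ x, (f - ((∑ x, f x) / (∑ x, u x)) • u) x = 0
      simp only [Pi.sub_apply, Pi.smul_apply, smul_eq_mul, Finset.sum_sub_distrib,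
        ← Finset.mul_sum]
      field_simp
      ring

/-- Over any field, the permutation module of the alternating group of degree at least 5 has exactly four invariant subspaces: zero, the constant functions, the functions with coordinate sum zero, and everything. -/
theorem result {α : Type*} [Fintype α] [DecidableEq α] (hα : 5 ≤ Fintype.card α) {K : Type*} [Field K] (W : Subrepresentation (Cfsg.permRep K (alternatingGroup α) α)) : W.toSubmodule = ⊥ ∨ W = Cfsg.permConstants K (alternatingGroup α) α ∨ W = Cfsg.permSumZero K (alternatingGroup α) α ∨ W.toSubmodule = ⊤ := by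
  exact main14 hα W

end Cfsg.Agent.S0714
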