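import Cfsg.Statements.S0721
-- import your own Cfsg.Agent.* helpers here
import Mathlib

set_option autoImplicit false
open Cfsg

namespace Cfsg.Agent.S0721

open scoped Pointwise

section
variable {K : Type*} [Group K]

theorem smul_normal (φ : MulAut K) (S : Subgroup K) (hS : S.Normal) : (φ • S).Normal := by
  constructor
  intro x hx g
  rw [Subgroup.mem_pointwise_smul_iff_inv_smul_mem] at hx ⊢
  rw [smul_mul', smul_mul', smul_inv']
  exact hS.conj_mem _ hx _

/-- `(Fin k → T) × T ≃* (Fin (k+1) → T)` -/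
def snocMulEquiv (T : Type*) [Group T] (k : ℕ) : ((Fin k → T) × T) ≃* (Fin (k + 1) → T) where
  toFun p := Fin.snoc (α := fun _ => T) p.1 p.2
  invFun f := (Fin.init (α := fun _ => T) f, f (Fin.last k))
  left_inv p := by
    apply Prod.ext
    · exact Fin.init_snoc (α := fun _ => T) p.2 p.1
    · exact Fin.snoc_last (α := fun _ => T) p.2 p.1
  right_inv f := Fin.snoc_init_self (α := fun _ => T) f
  map_mul' p q := by
    funext i
    refine Fin.lastCases ?_ (fun j => ?_) i
    · simp [Fin.snoc_last]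
    · simp [Fin.snoc_castSucc]

/-- internal direct product of two disjoint normal subgroups -/
noncomputable def supEquivProd (M P : Subgroup K) (hM : M.Normal) (hP : P.Normal) (hd : Disjoint M P) :
    (M × P) ≃* ↥(M ⊔ P) := by
  have comm : ∀ (x : M) (y : P), Commute (M.subtype x) (P.subtype y) := fun x y =>
    Subgroup.commute_of_normal_of_disjoint M P hM hP hd x y x.2 y.2
  have hinj : Function.Injective (MonoidHom.noncommCoprod M.subtype P.subtype comm) := by
    rw [MonoidHom.noncommCoprod_injective]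
    refine ⟨Subgroup.subtype_injective _, Subgroup.subtype_injective _, ?_⟩
    rw [Subgroup.range_subtype, Subgroup.range_subtype]
    exact hd
  have hrange : (MonoidHom.noncommCoprod M.subtype P.subtype comm).range = M ⊔ P := by
    rw [MonoidHom.noncommCoprod_range, Subgroup.range_subtype, Subgroup.range_subtype]
  exact (MonoidHom.ofInjective hinj).trans (MulEquiv.subgroupCongr hrange)

theorem main [Finite K] [Nontrivial K] (Φ : Subgroup (MulAut K))
    (hΦ : ∀ L : Subgroup K, L.Normal → (∀ φ ∈ Φ, φ • L = L) → L = ⊥ ∨ L = ⊤) :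
    ∃ (T : Subgroup K) (m : ℕ), IsSimpleGroup T ∧ 0 < m ∧ Nonempty (K ≃* (Fin m → T)) := by
  classical
  -- Step 1: a minimal normal subgroup
  obtain ⟨T, hTmin⟩ := (Set.toFinite {T : Subgroup K | T.Normal ∧ T ≠ ⊥}).exists_minimal
    ⟨⊤, ⟨inferInstance, top_ne_bot⟩⟩
  have hTn : T.Normal := hTmin.prop.1
  have hT0 : T ≠ ⊥ := hTmin.prop.2
  have hTm : ∀ T' : Subgroup K, T'.Normal → T' ≤ T → T' = ⊥ ∨ T' = T := by
    intro T' hn hle
    by_cases h0 : T' = ⊥
    · left; exact h0
    · right; exact le_antisymm hle (hTmin.le_of_le ⟨hn, h0⟩ hle)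
  have hPm : ∀ (φ : MulAut K) (T' : Subgroup K), T'.Normal → T' ≤ φ • T → T' = ⊥ ∨ T' = φ • T := by
    intro φ T' hn hle
    have h1 : φ⁻¹ • T' ≤ T := by
      have := Subgroup.pointwise_smul_le_pointwise_smul_iff (a := φ⁻¹) |>.mpr hle
      rwa [inv_smul_smul] at this
    rcases hTm _ (smul_normal φ⁻¹ T' hn) h1 with h | h
    · left
      have := congrArg (fun S => φ • S) h
      simp only [smul_inv_smul, Subgroup.smul_bot] at this
      exact this
    · right
      have := congrArg (fun S => φ • S) h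
      simp only [smul_inv_smul] at this
      exact this
  -- Step 2: a maximal normal subgroup which is a power of T
  obtain ⟨M, hMmax⟩ := (Set.toFinite {M : Subgroup K | M.Normal ∧
      ∃ k : ℕ, Nonempty (M ≃* (Fin k → T))}).exists_maximal
    ⟨⊥, ⟨inferInstance, 0, ⟨MulEquiv.ofUnique⟩⟩⟩
  have hMn : M.Normal := hMmax.prop.1
  obtain ⟨k, ⟨eM⟩⟩ := hMmax.prop.2
  -- Step 3: all conjugates of T lie in M
  have hconj : ∀ φ : MulAut K, φ • T ≤ M := by
    intro φ
    by_contra hnot
    have hPn : (φ • T).Normal := smul_normal φ T hTn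
    have hdisj : Disjoint M (φ • T) := by
      rw [disjoint_iff]
      rcases hPm φ (M ⊓ φ • T) (Subgroup.normal_inf_normal _ _) inf_le_right with h | h
      · exact h
      · exfalso; exact hnot (inf_eq_right.mp h)
    have hM'n : (M ⊔ φ • T).Normal := Subgroup.sup_normal _ _
    have e1 : ↥(M ⊔ φ • T) ≃* (Fin (k + 1) → T) :=
      (supEquivProd M (φ • T) hMn hPn hdisj).symm.trans
        ((MulEquiv.prodCongr eM (Subgroup.equivSMul φ T).symm).trans (snocMulEquiv T k))
    have hle := hMmax.le_of_ge ⟨hM'n, k + 1, ⟨e1⟩⟩ le_sup_left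
    exact hnot (le_trans le_sup_right hle)
  -- Step 4: the conjugates generate K
  have hinst : ∀ φ : Φ, ((φ : MulAut K) • T).Normal := fun φ => smul_normal φ T hTn
  set L : Subgroup K := ⨆ φ : Φ, (φ : MulAut K) • T with hL
  have hLn : L.Normal := Subgroup.iSup_normal _
  have hLle : ∀ ψ ∈ Φ, ψ • L ≤ L := by
    intro ψ hψ
    have h0 : ∀ φ : Φ, (φ : MulAut K) • T ≤ ψ⁻¹ • L := by
      intro φ
      have h1 : (ψ * (φ : MulAut K)) • T ≤ L :=
        le_iSup (fun φ : Φ => (φ : MulAut K) • T) ⟨ψ * φ, Φ.mul_mem hψ φ.2⟩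
      have h2 := (Subgroup.pointwise_smul_le_pointwise_smul_iff (a := ψ⁻¹)).mpr h1
      rwa [mul_smul, inv_smul_smul] at h2
    have h3 : L ≤ ψ⁻¹ • L := iSup_le h0
    have h4 := (Subgroup.pointwise_smul_le_pointwise_smul_iff (a := ψ)).mpr h3
    rwa [smul_inv_smul] at h4
  have hLinv : ∀ ψ ∈ Φ, ψ • L = L := by
    intro ψ hψ
    apply le_antisymm (hLle ψ hψ)
    have h1 := hLle ψ⁻¹ (Φ.inv_mem hψ)
    have := Subgroup.pointwise_smul_le_pointwise_smul_iff (a := ψ) |>.mpr h1
    rwa [smul_inv_smul] at this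
  have hTL : T ≤ L := by
    have := le_iSup (fun φ : Φ => (φ : MulAut K) • T) ⟨1, Φ.one_mem⟩
    simpa using this
  have hLtop : L = ⊤ := by
    rcases hΦ L hLn hLinv with h | h
    · exfalso
      apply hT0
      rw [eq_bot_iff, ← h]; exact hTL
    · exact h
  have hMtop : M = ⊤ := by
    rw [eq_top_iff, ← hLtop, hL]
    exact iSup_le (fun φ => hconj φ)
  -- Step 5: the isomorphism
  have eK : K ≃* (Fin k → T) :=
    (Subgroup.topEquiv.symm.trans (MulEquiv.subgroupCongr hMtop.symm)).trans eM
  have hk : 0 < k := by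
    rcases Nat.eq_zero_or_pos k with h | h
    · exfalso
      subst h
      have : Subsingleton K := eK.toEquiv.subsingleton
      exact not_subsingleton K this
    · exact h
  -- Step 6: T is simple
  have hTnt : Nontrivial T := (Subgroup.nontrivial_iff_ne_bot T).mpr hT0
  have hsimple : IsSimpleGroup T := by
    refine ⟨?_⟩
    intro Q hQ
    set Q' : Subgroup K := Q.map T.subtype with hQ'
    have hQ'T : Q' ≤ T := Subgroup.map_subtype_le Q
    have hmemQ' : ∀ x : K, x ∈ Q' ↔ ∃ hx : x ∈ T, (⟨x, hx⟩ : T) ∈ Q := by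
      intro x
      constructor
      · rintro ⟨y, hy, rfl⟩
        exact ⟨y.2, hy⟩
      · rintro ⟨hx, hy⟩
        exact ⟨⟨x, hx⟩, hy, rfl⟩
    have hC : ∀ g : K, g ∈ L → ∀ h ∈ Q', g * h * g⁻¹ ∈ Q' := by
      intro g hg
      refine Subgroup.iSup_induction (fun φ : Φ => (φ : MulAut K) • T)
        (C := fun g => ∀ h ∈ Q', g * h * g⁻¹ ∈ Q') hg ?_ ?_ ?_
      · intro φ x hx h hh
        have hPn : ((φ : MulAut K) • T).Normal := smul_normal φ T hTn
        rcases hTm (T ⊓ (φ : MulAut K) • T) (Subgroup.normal_inf_normal _ _) inf_le_left with h0 | h0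
        · have hd : Disjoint T ((φ : MulAut K) • T) := disjoint_iff.mpr h0
          have hc := Subgroup.commute_of_normal_of_disjoint T _ hTn hPn hd h x (hQ'T hh) hx
          have : x * h * x⁻¹ = h := by
            rw [← hc.eq, mul_inv_cancel_right]
          rw [this]; exact hh
        · have hTP : T ≤ (φ : MulAut K) • T := inf_eq_left.mp h0
          have hPT : (φ : MulAut K) • T = T := by
            rcases hPm φ T hTn hTP with h1 | h1
            · exact absurd h1 hT0
            · exact h1.symm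
          rw [hPT] at hx
          obtain ⟨hhT, hhQ⟩ := (hmemQ' h).mp hh
          rw [hmemQ']
          refine ⟨T.mul_mem (T.mul_mem hx hhT) (T.inv_mem hx), ?_⟩
          have := hQ.conj_mem ⟨h, hhT⟩ hhQ ⟨x, hx⟩
          exact this
      · intro h hh; simpa using hh
      · intro x y hx hy h hh
        have := hx _ (hy h hh)
        simpa [mul_assoc] using this
    have hQ'n : Q'.Normal := ⟨fun h hh g => hC g (by rw [hLtop]; trivial) h hh⟩
    rcases hTm Q' hQ'n hQ'T with h | h
    · left
      rw [hQ', Subgroup.map_eq_bot_iff_of_injective _ (Subgroup.subtype_injective T)] at h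
      exact h
    · right
      rw [eq_top_iff]
      intro x _
      have : (x : K) ∈ Q' := by rw [h]; exact x.2
      obtain ⟨_, hx⟩ := (hmemQ' _).mp this
      exact hx
  exact ⟨T, k, hsimple, hk, ⟨eK⟩⟩

end


/-- A minimal normal subgroup of a finite group is isomorphic to a direct power `T ^ m` of a simple group `T` (possibly of prime order). -/
theorem result {H : Type*} [Group H] [Finite H] (N : Subgroup H) [N.Normal] (hN : N ≠ ⊥) (hmin : ∀ M : Subgroup H, M.Normal → M ≤ N → M = ⊥ ∨ M = N) : ∃ (T : Type) (_ : Group T) (m : ℕ), IsSimpleGroup T ∧ 0 < m ∧ Nonempty (N ≃* (Fin m → T)) := by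
  classical
  have hNnt : Nontrivial N := (Subgroup.nontrivial_iff_ne_bot N).mpr hN
  set Φ : Subgroup (MulAut N) := (MulAut.conjNormal (H := N)).range with hΦdef
  have hΦ : ∀ L : Subgroup N, L.Normal → (∀ φ ∈ Φ, φ • L = L) → L = ⊥ ∨ L = ⊤ := by
    intro L _ hinv
    set L' : Subgroup H := L.map N.subtype with hL'
    have hL'N : L' ≤ N := Subgroup.map_subtype_le L
    have hL'n : L'.Normal := by
      constructor
      rintro x ⟨y, hy, rfl⟩ g
      set ψ : MulAut N := MulAut.conjNormal (H := N) g with hψ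
      have h1 : ψ • L = L := hinv _ ⟨g, rfl⟩
      have h2 : ψ • y ∈ ψ • L :=
        Subgroup.smul_mem_pointwise_smul _ _ _ hy
      rw [h1] at h2
      refine ⟨ψ • y, h2, ?_⟩
      simp [hψ, MulAut.conjNormal_apply]
    rcases hmin L' hL'n hL'N with h | h
    · left
      rw [hL', Subgroup.map_eq_bot_iff_of_injective _ (Subgroup.subtype_injective N)] at h
      exact h
    · right
      rw [eq_top_iff]
      intro x _
      have : (x : H) ∈ L' := by rw [h]; exact x.2
      obtain ⟨y, hy, hyx⟩ := this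
      have : y = x := Subtype.ext hyx
      rw [← this]; exact hy
  obtain ⟨T, m, hsimple, hm, ⟨e⟩⟩ := main Φ hΦ
  -- transport T to `Type`
  have hfin : Finite T := inferInstance
  let n := Nat.card T
  let S : Type := {i : ℕ // i < n}
  let eq0 : T ≃ S := (Finite.equivFin T).trans Fin.equivSubtype
  let instS : Group S := eq0.symm.group
  let eqm : S ≃* T := eq0.symm.mulEquiv
  refine ⟨S, instS, m, ?_, hm, ⟨e.trans (MulEquiv.arrowCongr (Equiv.refl _) eqm.symm)⟩⟩
  have hSnt : Nontrivial S := eq0.symm.nontrivial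
  exact IsSimpleGroup.isSimpleGroup_of_surjective eqm.symm.toMonoidHom eqm.symm.surjective

end Cfsg.Agent.S0721
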