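import Mathlib
import Cfsg.Statements.S0723
import Cfsg.Agent.Lib_helper7_ONS5

set_option autoImplicit false
open Cfsg

namespace Cfsg.Agent.S0723

/-- The core of the O'Nan–Scott Theorem. Let `H` be a primitive permutation group on a finite set whose unique minimal normal subgroup `N` is non-abelian, and `K` a point stabiliser. Then there are a non-abelian simple group `T` and an isomorphism `N ≃* T^m` (`m ≥ 1`) under which `K ⊓ N` becomes either a product `∏ K_i` of proper subgroups `K_i < T`, or the set of functions constant on each block of a partition of the index set into blocks of one common size `k ≥ 2`. -/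
theorem result {α : Type*} [Finite α] (H : Subgroup (Equiv.Perm α)) [MulAction.IsPreprimitive H α] (N : Subgroup H) [N.Normal] (hN : N ≠ ⊥) (hmin : ∀ M : Subgroup H, M.Normal → M ≤ N → M = ⊥ ∨ M = N) (huniq : ∀ L : Subgroup H, L.Normal → L ≠ ⊥ → (∀ M : Subgroup H, M.Normal → M ≤ L → M = ⊥ ∨ M = L) → L = N) (hnab : ¬ IsMulCommutative N) (a : α) : ∃ (T : Type) (_ : Group T) (m : ℕ) (e : N ≃* (Fin m → T)), IsSimpleGroup T ∧ ¬ IsMulCommutative T ∧ 0 < m ∧ ((∃ K : Fin m → Subgroup T, (∀ i, K i ≠ ⊤) ∧ ∀ n : N, (n : H) ∈ MulAction.stabilizer H a ↔ ∀ i, e n i ∈ K i) ∨ (∃ (k : ℕ) (c : Fin m → Fin m), 2 ≤ k ∧ (∀ j : Fin m, Nat.card {i : Fin m // c i = j} = k ∨ Nat.card {i : Fin m // c i = j} = 0) ∧ ∀ n : N, (n : H) ∈ MulAction.stabilizer H a ↔ ∀ i j : Fin m, c i = c j → e n i = e n j)) := by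
  classical
  -- a nontrivial element of `N` moves some point
  have hfix : ∀ n : ↥H, (∀ x : α, n • x = x) → n = 1 := by
    intro n hn
    apply Subtype.ext
    apply Equiv.ext
    intro x
    exact hn x
  have hne : ∃ n : ↥H, n ∈ N ∧ n ≠ 1 := by
    by_contra hcon
    push Not at hcon
    apply hN
    rw [eq_bot_iff]
    intro n hn
    rw [Subgroup.mem_bot]
    exact hcon n hn
  obtain ⟨n0, hn0, hn01⟩ := hne
  have hnt : Nontrivial α := by
    by_contra hcon
    rw [not_nontrivial_iff_subsingleton] at hcon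
    exact hn01 (hfix n0 (fun x => Subsingleton.elim _ _))
  have hK : IsCoatom (MulAction.stabilizer ↥H a) :=
    (MulAction.isCoatom_stabilizer_iff_preprimitive (G := ↥H) a).mpr inferInstance
  have hNK : ¬ N ≤ MulAction.stabilizer ↥H a := by
    intro hle
    apply hn01
    apply hfix
    intro x
    obtain ⟨g, rfl⟩ := MulAction.exists_smul_eq ↥H a x
    have h1 : g⁻¹ * n0 * g ∈ N := by
      have := ‹N.Normal›.conj_mem n0 hn0 g⁻¹
      rwa [inv_inv] at this
    have h2 : (g⁻¹ * n0 * g) • a = a := MulAction.mem_stabilizer_iff.mp (hle h1)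
    calc n0 • g • a = g • ((g⁻¹ * n0 * g) • a) := by
          rw [← mul_smul, ← mul_smul]
          congr 1
          group
      _ = g • a := by rw [h2]
  exact Cfsg.Agent.helper7.ONS.ons_core N (MulAction.stabilizer ↥H a) hN hmin hnab hK hNK

end Cfsg.Agent.S0723
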