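import Cfsg.Statements.S0724
-- import your own Cfsg.Agent.* helpers here
import Mathlib

set_option autoImplicit false
open Cfsg

namespace Cfsg.Agent.S0724

open MulAction

/-- Burnside's lemma with `Nat.card`. -/
theorem burnside_nat (H : Type*) [Group H] [Fintype H] (X : Type*) [MulAction H X] [Finite X] :
    ∑ h : H, Nat.card (fixedBy X h) = Nat.card (orbitRel.Quotient H X) * Nat.card H := by
  classical
  have : Fintype X := Fintype.ofFinite X
  have : Fintype (orbitRel.Quotient H X) := Fintype.ofFinite _
  have := MulAction.sum_card_fixedBy_eq_card_orbits_mul_card_group H X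
  simp only [← Nat.card_eq_fintype_card] at this
  exact this

/-- fixed points on tuples -/
def fixedByPiEquiv {H : Type*} [Group H] {X : Type*} [MulAction H X] (k : ℕ) (h : H) :
    fixedBy (Fin k → X) h ≃ (Fin k → fixedBy X h) where
  toFun f := fun i => ⟨f.1 i, congrFun f.2 i⟩
  invFun q := ⟨fun i => (q i).1, funext fun i => (q i).2⟩
  left_inv f := rfl
  right_inv q := rfl

theorem card_fixedBy_pi {H : Type*} [Group H] {X : Type*} [MulAction H X] [Finite X] (k : ℕ) (h : H) :
    Nat.card (fixedBy (Fin k → X) h) = Nat.card (fixedBy X h) ^ k := by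
  rw [Nat.card_congr (fixedByPiEquiv k h), Nat.card_fun, Nat.card_fin]

theorem dvd_sum_pow {H : Type*} [Group H] [Fintype H] {X : Type*} [MulAction H X] [Finite X] (k : ℕ) :
    (Nat.card H : ℤ) ∣ ∑ h : H, (Nat.card (fixedBy X h) : ℤ) ^ k := by
  have h1 := burnside_nat H (Fin k → X)
  simp only [card_fixedBy_pi] at h1
  have h2 : (∑ h : H, (Nat.card (fixedBy X h) : ℤ) ^ k) =
      ((Nat.card (orbitRel.Quotient H (Fin k → X)) * Nat.card H : ℕ) : ℤ) := by
    rw [← h1]; push_cast; rfl
  rw [h2]
  push_cast
  exact Dvd.intro_left _ rfl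

theorem dvd_sum_poly {H : Type*} [Group H] [Fintype H] {X : Type*} [MulAction H X] [Finite X]
    (P : Polynomial ℤ) :
    (Nat.card H : ℤ) ∣ ∑ h : H, P.eval (Nat.card (fixedBy X h) : ℤ) := by
  simp only [Polynomial.eval_eq_sum_range]
  rw [Finset.sum_comm]
  apply Finset.dvd_sum
  intro i _
  rw [← Finset.mul_sum]
  exact Dvd.dvd.mul_left (dvd_sum_pow i) _


/-- Blichfeldt's Theorem: if a finite set `L` of natural numbers contains the number of fixed points of every non-identity element of a permutation group `G` of degree `n`, then the order of `G` divides `∏ (n - l)` over `l ∈ L`. -/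
theorem result {α : Type*} [Fintype α] [DecidableEq α] (G : Subgroup (Equiv.Perm α)) (L : Finset ℕ) (hL : ∀ g ∈ G, g ≠ 1 → Nat.card (MulAction.fixedBy α g) ∈ L) : Nat.card G ∣ ∏ l ∈ L, (Fintype.card α - l) := by
  classical
  by_cases hbig : ∃ l ∈ L, Fintype.card α ≤ l
  · obtain ⟨l, hl, hle⟩ := hbig
    have : ∏ l ∈ L, (Fintype.card α - l) = 0 := by
      apply Finset.prod_eq_zero hl
      omega
    rw [this]
    exact dvd_zero _
  · push Not at hbig
    have hfin : Fintype G := Fintype.ofFinite G
    set P : Polynomial ℤ := ∏ l ∈ L, (Polynomial.X - Polynomial.C (l : ℤ)) with hP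
    have hdvd := dvd_sum_poly (H := G) (X := α) P
    have hPeval : ∀ z : ℤ, P.eval z = ∏ l ∈ L, (z - l) := by
      intro z
      rw [hP, Polynomial.eval_prod]
      apply Finset.prod_congr rfl
      intro l _
      simp
    have hsum : ∑ h : G, P.eval (Nat.card (fixedBy α h) : ℤ) = ∏ l ∈ L, ((Fintype.card α : ℤ) - l) := by
      rw [Finset.sum_eq_single (1 : G)]
      · rw [hPeval]
        have : Nat.card (fixedBy α (1 : G)) = Fintype.card α := by
          have hu : fixedBy α (1 : G) = Set.univ := by
            ext a; simp [MulAction.mem_fixedBy]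
          rw [hu, Nat.card_congr (Equiv.Set.univ α), Nat.card_eq_fintype_card]
        rw [this]
      · intro g _ hg
        rw [hPeval]
        have hg1 : (g : Equiv.Perm α) ≠ 1 := fun h => hg (Subtype.ext h)
        have hmem := hL g g.2 hg1
        apply Finset.prod_eq_zero hmem
        have : fixedBy α g = fixedBy α (g : Equiv.Perm α) := rfl
        rw [this, sub_self]
      · intro h; exact absurd (Finset.mem_univ _) h
    rw [hsum] at hdvd
    have hcast : ∏ l ∈ L, ((Fintype.card α : ℤ) - l) = ((∏ l ∈ L, (Fintype.card α - l) : ℕ) : ℤ) := by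
      rw [Nat.cast_prod]
      apply Finset.prod_congr rfl
      intro l hl
      rw [Nat.cast_sub (hbig l hl).le]
    rw [hcast] at hdvd
    exact Int.natCast_dvd_natCast.mp hdvd

end Cfsg.Agent.S0724
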