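import Cfsg.Statements.S0727
-- import your own Cfsg.Agent.* helpers here
import Mathlib
import Cfsg.Agent.Lib_helper4_Z3E

set_option autoImplicit false
open Cfsg

namespace Cfsg.Agent.S0727

open Cfsg.Agent.helper4.Z3 in

/-- A sharply triply transitive permutation group of degree `2^f + 1` is isomorphic to the projective general linear group of degree 2 over the field with `2^f` elements. -/
theorem result {α : Type*} [Fintype α] [DecidableEq α] {f : ℕ} (hf : 1 ≤ f) (hα : Fintype.card α = 2 ^ f + 1) (G : Subgroup (Equiv.Perm α)) (h3 : MulAction.IsMultiplyPretransitive G α 3) (hsharp : ∀ x : Fin 3 ↪ α, MulAction.stabilizer G x = ⊥) : ∃ (F : Type) (_ : Field F) (_ : Fintype F), Fintype.card F = 2 ^ f ∧ Nonempty (G ≃* Matrix.ProjGenLinGroup (Fin 2) F) := by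
  have T := tri_of_pretransitive G h3 hsharp
  have h2f : 2 ∣ 2 ^ f := dvd_pow_self 2 (by omega)
  have hodd : ¬ 2 ∣ Fintype.card α := by
    rw [hα]
    intro h
    omega
  have h2le : 2 ≤ 2 ^ f := by
    calc 2 = 2 ^ 1 := by norm_num
      _ ≤ 2 ^ f := Nat.pow_le_pow_right (by norm_num) hf
  have h3card : 2 < Fintype.card α := by rw [hα]; omega
  obtain ⟨o, z, u, hoz, hou, hzu⟩ := Fintype.two_lt_card_iff.mp h3card
  let C : Ctx G := ⟨T, hodd, o, z, u, Ne.symm hoz, Ne.symm hou, hzu⟩
  obtain ⟨e⟩ := main C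
  have hcardK := card_KF C
  haveI : Fintype (GaloisField 2 f) := Fintype.ofFinite _
  have hcardF : Fintype.card (GaloisField 2 f) = 2 ^ f := by
    rw [← Nat.card_eq_fintype_card]
    exact GaloisField.card 2 f (by omega)
  have hKF : Fintype.card (KF (fdata C)) = Fintype.card (GaloisField 2 f) := by omega
  exact ⟨GaloisField 2 f, inferInstance, inferInstance, hcardF,
    ⟨e.trans (pglCongr (FiniteField.ringEquivOfCardEq hKF))⟩⟩

end Cfsg.Agent.S0727
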