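import Mathlib
import Cfsg.Statements.S0728

set_option autoImplicit false
open Cfsg

namespace Cfsg.Agent.S0728

open MulAction

/-- In a sharply 3-transitive group, a two-point stabiliser contains at most two elements of
order 3 (double counting). -/
theorem card_order_three_le {Γ α : Type*} [Group Γ] [Fintype Γ] [DecidableEq Γ] [MulAction Γ α]
    [Fintype α] [DecidableEq α]
    (h3t : ∀ x y z x' y' z' : α, x ≠ y → x ≠ z → y ≠ z → x' ≠ y' → x' ≠ z' → y' ≠ z' →
      ∃ g : Γ, g • x = x' ∧ g • y = y' ∧ g • z = z')
    (h3s : ∀ g : Γ, ∀ x y z : α, x ≠ y → x ≠ z → y ≠ z → g • x = x → g • y = y → g • z = z → g = 1)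
    {a b : α} (hab : a ≠ b) (c₀ : α) (hc₀a : a ≠ c₀) (hc₀b : b ≠ c₀) :
    (Finset.univ.filter (fun g : Γ => orderOf g = 3 ∧ g • a = a ∧ g • b = b)).card ≤ 2 := by
  classical
  set N := Fintype.card α with hN
  set T : Finset Γ := Finset.univ.filter (fun g => orderOf g = 3) with hT
  set P : Finset (α × α) := (Finset.univ : Finset α).offDiag with hP
  set E : Finset Γ := Finset.univ.filter (fun g : Γ => orderOf g = 3 ∧ g • a = a ∧ g • b = b)
    with hE
  have hN3 : 3 ≤ N := by
    have : 2 < (Finset.univ : Finset α).card :=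
      Finset.two_lt_card_iff.mpr ⟨a, b, c₀, Finset.mem_univ _, Finset.mem_univ _,
        Finset.mem_univ _, hab, hc₀a, hc₀b⟩
    rw [Finset.card_univ] at this
    omega
  have hPcard : P.card = N * N - N := by
    rw [hP, Finset.offDiag_card, Finset.card_univ]
  have hPpos : 0 < P.card := by
    rw [Finset.card_pos]
    exact ⟨(a, b), by simp [hP, hab]⟩
  -- facts on elements of order 3
  have hcube : ∀ g ∈ T, g * g * g = 1 := by
    intro g hg
    simp only [hT, Finset.mem_filter, Finset.mem_univ, true_and] at hg
    have := pow_orderOf_eq_one g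
    rw [hg] at this
    calc g * g * g = g ^ 3 := by rw [pow_succ, pow_two]
      _ = 1 := this
  have hne1 : ∀ g ∈ T, g ≠ 1 := by
    intro g hg h1
    simp only [hT, Finset.mem_filter, Finset.mem_univ, true_and] at hg
    rw [h1, orderOf_one] at hg
    omega
  have hfixle : ∀ g ∈ T, (Finset.univ.filter (fun x : α => g • x = x)).card ≤ 2 := by
    intro g hg
    by_contra hcon
    push Not at hcon
    obtain ⟨x, y, z, hx, hy, hz, hxy, hxz, hyz⟩ := Finset.two_lt_card_iff.mp hcon
    simp only [Finset.mem_filter, Finset.mem_univ, true_and] at hx hy hz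
    exact hne1 g hg (h3s g x y z hxy hxz hyz hx hy hz)
  -- cycle facts
  have hcyc : ∀ g ∈ T, ∀ x : α, g • x ≠ x → g • g • x ≠ g • x ∧ g • g • x ≠ x ∧ g • g • g • x = x := by
    intro g hg x hx
    have h3 : g • g • g • x = x := by
      rw [← mul_smul, ← mul_smul, hcube g hg, one_smul]
    refine ⟨?_, ?_, h3⟩
    · intro h
      exact hx (smul_left_cancel g h)
    · intro h
      apply hx
      have : g • g • g • x = g • x := by rw [h]
      rw [h3] at this
      exact this.symm
  -- (I) |T| * (N-2) ≤ |P| * (N-2)
  have hI : T.card * (N - 2) ≤ P.card * (N - 2) := by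
    apply Finset.card_mul_le_card_mul (fun (g : Γ) (p : α × α) => g • p.1 = p.2)
    · intro g hg
      have hsum := Finset.card_filter_add_card_filter_not (s := (Finset.univ : Finset α))
        (fun x : α => g • x = x)
      rw [Finset.card_univ] at hsum
      have hle := hfixle g hg
      have hinj : (Finset.univ.filter (fun x : α => ¬ g • x = x)).card ≤
          (Finset.bipartiteAbove (fun (g : Γ) (p : α × α) => g • p.1 = p.2) P g).card := by
        apply Finset.card_le_card_of_injOn (fun x => (x, g • x))
        · intro x hx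
          simp only [Finset.coe_filter, Finset.mem_univ, true_and, Set.mem_ofPred_eq] at hx
          simp only [Finset.bipartiteAbove, hP, Finset.coe_filter, Finset.mem_offDiag,
            Finset.mem_univ, true_and, Set.mem_ofPred_eq]
          exact ⟨fun h => hx h.symm, trivial⟩
        · intro x _ y _ h
          exact (Prod.mk.inj h).1
      omega
    · intro p hp
      rw [hP, Finset.mem_offDiag] at hp
      obtain ⟨_, _, hp12⟩ := hp
      -- g ↦ g • p.2 injective into univ \ {p.1, p.2}
      have hinj : (Finset.bipartiteBelow (fun (g : Γ) (p : α × α) => g • p.1 = p.2) T p).card ≤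
          (((Finset.univ : Finset α).erase p.1).erase p.2).card := by
        apply Finset.card_le_card_of_injOn (fun g => g • p.2)
        · intro g hg
          simp only [Finset.bipartiteBelow, Finset.coe_filter, Set.mem_ofPred_eq] at hg
          obtain ⟨hgT, hg1⟩ := hg
          have hx : g • p.1 ≠ p.1 := by rw [hg1]; exact Ne.symm hp12
          obtain ⟨h1, h2, _⟩ := hcyc g hgT p.1 hx
          rw [hg1] at h1 h2
          simp only [Finset.coe_erase, Finset.coe_univ, Set.mem_diff, Set.mem_univ, true_and,
            Set.mem_singleton_iff]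
          exact ⟨h2, h1⟩
        · intro g hg g' hg' h
          simp only [Finset.bipartiteBelow, Finset.coe_filter, Set.mem_ofPred_eq] at hg hg'
          obtain ⟨hgT, hg1⟩ := hg
          obtain ⟨hgT', hg1'⟩ := hg'
          have h' : g • p.2 = g' • p.2 := h
          have hx : g • p.1 ≠ p.1 := by rw [hg1]; exact Ne.symm hp12
          have hx' : g' • p.1 ≠ p.1 := by rw [hg1']; exact Ne.symm hp12
          obtain ⟨h1, h2, h3⟩ := hcyc g hgT p.1 hx
          obtain ⟨h1', h2', h3'⟩ := hcyc g' hgT' p.1 hx'
          rw [hg1] at h1 h2 h3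
          rw [hg1'] at h1' h2' h3'
          -- g'⁻¹ g fixes p.1, p.2, g • p.2
          have e1 : (g'⁻¹ * g) • p.1 = p.1 := by
            rw [mul_smul, hg1, inv_smul_eq_iff, hg1']
          have e2 : (g'⁻¹ * g) • p.2 = p.2 := by
            rw [mul_smul, h', inv_smul_smul]
          have e3 : (g'⁻¹ * g) • (g • p.2) = g • p.2 := by
            rw [mul_smul, h3, inv_smul_eq_iff, h', h3']
          have := h3s _ p.1 p.2 (g • p.2) hp12 (Ne.symm h2) (Ne.symm h1) e1 e2 e3
          exact (inv_mul_eq_one.mp this).symm
      have hc : (((Finset.univ : Finset α).erase p.1).erase p.2).card = N - 2 := by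
        rw [Finset.card_erase_of_mem, Finset.card_erase_of_mem (Finset.mem_univ _),
          Finset.card_univ]
        · omega
        · rw [Finset.mem_erase]; exact ⟨Ne.symm hp12, Finset.mem_univ _⟩
      rw [hc] at hinj
      exact hinj
  have hTP : T.card ≤ P.card := Nat.le_of_mul_le_mul_right hI (by omega)
  -- (II) |P| * e ≤ |T| * 2
  have hII : P.card * E.card ≤ T.card * 2 := by
    apply Finset.card_mul_le_card_mul (fun (p : α × α) (g : Γ) => g • p.1 = p.1 ∧ g • p.2 = p.2)
    · intro p hp
      rw [hP, Finset.mem_offDiag] at hp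
      obtain ⟨_, _, hp12⟩ := hp
      obtain ⟨k, hka, hkb, _⟩ : ∃ k : Γ, k • a = p.1 ∧ k • b = p.2 ∧ True := by
        -- pick third points
        obtain ⟨z, hz1, hz2⟩ : ∃ z : α, p.1 ≠ z ∧ p.2 ≠ z := by
          by_contra hcon
          push Not at hcon
          have : (Finset.univ : Finset α) ⊆ {p.1, p.2} := by
            intro z _
            by_cases h : p.1 = z
            · simp [h]
            · have := hcon z h
              simp [this]
          have := Finset.card_le_card this
          rw [Finset.card_univ] at this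
          have h2 : ({p.1, p.2} : Finset α).card ≤ 2 := Finset.card_le_two
          omega
        obtain ⟨k, h1, h2, _⟩ := h3t a b c₀ p.1 p.2 z hab hc₀a hc₀b hp12 hz1 hz2
        exact ⟨k, h1, h2, trivial⟩
      apply Finset.card_le_card_of_injOn (fun g => k * g * k⁻¹)
      · intro g hg
        simp only [hE, Finset.coe_filter, Finset.mem_univ, true_and, Set.mem_ofPred_eq] at hg
        simp only [Finset.bipartiteAbove, hT, Finset.coe_filter, Finset.mem_filter,
          Finset.mem_univ, true_and, Set.mem_ofPred_eq]
        refine ⟨?_, ?_, ?_⟩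
        · rw [← MulAut.conj_apply, MulEquiv.orderOf_eq]; exact hg.1
        · rw [mul_smul, mul_smul, inv_smul_eq_iff.mpr hka.symm, hg.2.1, hka]
        · rw [mul_smul, mul_smul, inv_smul_eq_iff.mpr hkb.symm, hg.2.2, hkb]
      · intro g _ g' _ h
        have h' : k * g * k⁻¹ = k * g' * k⁻¹ := h
        have := mul_right_cancel h'
        exact mul_left_cancel this
    · intro g hg
      set F := (Finset.univ.filter (fun x : α => g • x = x)) with hF
      have hsub : Finset.bipartiteBelow
          (fun (p : α × α) (g : Γ) => g • p.1 = p.1 ∧ g • p.2 = p.2) P g ⊆ F.offDiag := by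
        intro p hp
        simp only [Finset.bipartiteBelow, hP, Finset.mem_filter, Finset.mem_offDiag,
          Finset.mem_univ, true_and] at hp
        rw [Finset.mem_offDiag]
        simp only [hF, Finset.mem_filter, Finset.mem_univ, true_and]
        exact ⟨hp.2.1, hp.2.2, hp.1⟩
      have h1 := Finset.card_le_card hsub
      rw [Finset.offDiag_card] at h1
      have hle : F.card ≤ 2 := hfixle g hg
      have h2' : F.card * F.card - F.card ≤ 2 := by
        have : F.card = 0 ∨ F.card = 1 ∨ F.card = 2 := by omega
        rcases this with h | h | h <;> simp [h]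
      omega
  have h5 : P.card * E.card ≤ P.card * 2 :=
    le_trans hII (Nat.mul_le_mul_right _ hTP)
  exact Nat.le_of_mul_le_mul_left h5 hPpos

theorem inj3 {α : Type*} (x y z : α) (hxy : x ≠ y) (hxz : x ≠ z) (hyz : y ≠ z) :
    Function.Injective ![x, y, z] := by
  intro i j h
  fin_cases i <;> fin_cases j <;> simp_all

theorem result {α : Type*} [Fintype α] [DecidableEq α] (heven : Even (Fintype.card α)) (h6 : 6 ≤ Fintype.card α) (G : Subgroup (Equiv.Perm α)) (h3 : MulAction.IsMultiplyPretransitive G α 3) (hsharp : ∀ x : Fin 3 ↪ α, MulAction.stabilizer G x = ⊥) {a b : α} (hab : a ≠ b) (A B : Subgroup G) (hA : A ≤ MulAction.stabilizer G a ⊓ MulAction.stabilizer G b) (hB : B ≤ MulAction.stabilizer G a ⊓ MulAction.stabilizer G b) (hA3 : Nat.card A = 3) (hB3 : Nat.card B = 3) : A = B := by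
  classical
  haveI : Fintype G := Fintype.ofFinite G
  have h3t : ∀ x y z x' y' z' : α, x ≠ y → x ≠ z → y ≠ z → x' ≠ y' → x' ≠ z' → y' ≠ z' →
      ∃ g : G, g • x = x' ∧ g • y = y' ∧ g • z = z' := by
    intro x y z x' y' z' hxy hxz hyz hxy' hxz' hyz'
    obtain ⟨g, hg⟩ := h3.exists_smul_eq (⟨![x, y, z], inj3 x y z hxy hxz hyz⟩ : Fin 3 ↪ α)
      ⟨![x', y', z'], inj3 x' y' z' hxy' hxz' hyz'⟩
    refine ⟨g, ?_, ?_, ?_⟩
    · have := congrArg (fun e : Fin 3 ↪ α => e 0) hg
      simpa [Function.Embedding.smul_apply] using this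
    · have := congrArg (fun e : Fin 3 ↪ α => e 1) hg
      simpa [Function.Embedding.smul_apply] using this
    · have := congrArg (fun e : Fin 3 ↪ α => e 2) hg
      simpa [Function.Embedding.smul_apply] using this
  have h3s : ∀ g : G, ∀ x y z : α, x ≠ y → x ≠ z → y ≠ z → g • x = x → g • y = y → g • z = z →
      g = 1 := by
    intro g x y z hxy hxz hyz hx hy hz
    have hmem : g ∈ stabilizer G (⟨![x, y, z], inj3 x y z hxy hxz hyz⟩ : Fin 3 ↪ α) := by
      rw [mem_stabilizer_iff]
      ext i
      show g • (![x, y, z] i) = ![x, y, z] i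
      fin_cases i
      · simpa using hx
      · simpa using hy
      · simpa using hz
    rw [hsharp, Subgroup.mem_bot] at hmem
    exact hmem
  obtain ⟨c₀, hc₀a, hc₀b⟩ : ∃ c₀ : α, a ≠ c₀ ∧ b ≠ c₀ := by
    by_contra hcon
    push Not at hcon
    have : (Finset.univ : Finset α) ⊆ {a, b} := by
      intro z _
      by_cases h : a = z
      · simp [h]
      · have := hcon z h
        simp [this]
    have := Finset.card_le_card this
    rw [Finset.card_univ] at this
    have h2 : ({a, b} : Finset α).card ≤ 2 := Finset.card_le_two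
    omega
  have hE := card_order_three_le h3t h3s hab c₀ hc₀a hc₀b
  set E : Finset G := Finset.univ.filter (fun g : G => orderOf g = 3 ∧ g • a = a ∧ g • b = b)
    with hEdef
  -- every subgroup of order 3 in the two-point stabiliser is {1} ∪ E
  have key : ∀ C : Subgroup G, C ≤ MulAction.stabilizer G a ⊓ MulAction.stabilizer G b →
      Nat.card C = 3 → ∀ x : G, x ∈ C ↔ (x = 1 ∨ x ∈ E) := by
    intro C hC hC3
    set CF : Finset G := Finset.univ.filter (fun g => g ∈ C) with hCF
    have hCFcard : CF.card = 3 := by
      rw [← hC3, Nat.card_eq_fintype_card, Fintype.card_subtype]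
    have h1mem : (1 : G) ∈ CF := by simp [hCF, C.one_mem]
    have hsub : CF.erase 1 ⊆ E := by
      intro x hx
      rw [Finset.mem_erase] at hx
      simp only [hCF, Finset.mem_filter, Finset.mem_univ, true_and] at hx
      simp only [hEdef, Finset.mem_filter, Finset.mem_univ, true_and]
      have hxs := hC hx.2
      rw [Subgroup.mem_inf, mem_stabilizer_iff, mem_stabilizer_iff] at hxs
      refine ⟨?_, hxs.1, hxs.2⟩
      have hdvd : orderOf x ∣ 3 := by
        rw [← hC3]; exact Subgroup.orderOf_dvd_natCard C hx.2
      rcases (Nat.dvd_prime Nat.prime_three).mp hdvd with h | h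
      · exact absurd (orderOf_eq_one_iff.mp h) hx.1
      · exact h
    have hEq : CF.erase 1 = E := by
      apply Finset.eq_of_subset_of_card_le hsub
      rw [Finset.card_erase_of_mem h1mem, hCFcard]
      exact hE
    intro x
    constructor
    · intro hx
      by_cases hx1 : x = 1
      · exact Or.inl hx1
      · right
        rw [← hEq, Finset.mem_erase]
        exact ⟨hx1, by simp [hCF, hx]⟩
    · rintro (h | h)
      · rw [h]; exact C.one_mem
      · rw [← hEq, Finset.mem_erase] at h
        simpa [hCF] using h.2
  ext x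
  rw [key A hA hA3, key B hB hB3]

end Cfsg.Agent.S0728
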