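import Cfsg.Statements.S0733
-- import your own Cfsg.Agent.* helpers here
import Mathlib

set_option autoImplicit false
open Cfsg

namespace Cfsg.Agent.S0733

open MulAction
open scoped Pointwise


/-- A permutation group of affine type — generated by the translations of a finite vector space `V` over `ZMod p` together with a group `G₀` of linear automorphisms — is primitive on `V` if and only if `G₀` is irreducible on `V`. -/
theorem result {p : ℕ} [Fact p.Prime] {V : Type*} [AddCommGroup V] [Module (ZMod p) V] [Finite V] [Nontrivial V] (G₀ : Subgroup (V ≃ₗ[ZMod p] V)) (G : Subgroup (Equiv.Perm V)) (hG : ∀ σ : Equiv.Perm V, σ ∈ G ↔ ∃ g ∈ G₀, ∃ b : V, ∀ x : V, σ x = (g : V ≃ₗ[ZMod p] V) x + b) : MulAction.IsPreprimitive G V ↔ ∀ W : Submodule (ZMod p) V, (∀ g ∈ G₀, ∀ v ∈ W, (g : V ≃ₗ[ZMod p] V) v ∈ W) → W = ⊥ ∨ W = ⊤ := by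
  have hmem : ∀ g ∈ G₀, ∀ b : V, ((g : V ≃ₗ[ZMod p] V).toEquiv.trans (Equiv.addRight b)) ∈ G :=
    fun g hg b => (hG _).mpr ⟨g, hg, b, fun x => rfl⟩
  have hsmul : ∀ (σ : G) (x : V), σ • x = (σ : Equiv.Perm V) x := fun σ x => rfl
  -- translations
  have htr : ∀ b : V, ∃ t : G, ∀ x : V, t • x = x + b := by
    intro b
    refine ⟨⟨_, hmem 1 (one_mem _) b⟩, fun x => ?_⟩
    rfl
  have htrans : IsPretransitive G V := by
    refine ⟨fun x y => ?_⟩
    obtain ⟨t, ht⟩ := htr (y - x)
    exact ⟨t, by rw [ht]; abel⟩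
  constructor
  · intro hprim W hW
    have hblock : IsBlock G (W : Set V) := by
      rw [isBlock_iff_smul_eq_or_disjoint]
      rintro ⟨σ, hσ⟩
      obtain ⟨g, hg, b, hσx⟩ := (hG σ).mp hσ
      by_cases hb : b ∈ W
      · left
        ext x
        constructor
        · rintro ⟨w, hw, rfl⟩
          change σ w ∈ W
          rw [hσx]; exact W.add_mem (hW g hg w hw) hb
        · intro hx
          have hx' : x ∈ W := hx
          have hginv : g⁻¹ ∈ G₀ := G₀.inv_mem hg
          refine ⟨(g⁻¹ : V ≃ₗ[ZMod p] V) (x - b), hW _ hginv _ (W.sub_mem hx' hb), ?_⟩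
          change σ ((g⁻¹ : V ≃ₗ[ZMod p] V) (x - b)) = x
          rw [hσx]
          have : g ((g⁻¹ : V ≃ₗ[ZMod p] V) (x - b)) = x - b := by
            change (g * g⁻¹) (x - b) = x - b
            rw [mul_inv_cancel]; rfl
          rw [this]; abel
      · right
        rw [Set.disjoint_left]
        rintro x ⟨w, hw, rfl⟩ hx
        apply hb
        have hx' : σ w ∈ W := hx
        rw [hσx] at hx'
        have := W.sub_mem hx' (hW g hg w hw)
        rwa [add_sub_cancel_left] at this
    rcases hblock.subsingleton_or_eq_univ with hs | hu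
    · left
      rw [Submodule.eq_bot_iff]
      intro x hx
      exact hs hx W.zero_mem
    · right
      rw [Submodule.eq_top_iff']
      intro x
      have : x ∈ (W : Set V) := by rw [hu]; trivial
      exact this
  · intro hirr
    apply IsPreprimitive.of_isTrivialBlock_base (0 : V)
    intro B h0 hB
    have hfix : ∀ (t : G) (a : V), a ∈ B → t • a ∈ B → t • B = B := fun t a ha hta =>
      (isBlock_iff_smul_eq_of_mem.mp hB) ha hta
    have hadd : ∀ u ∈ B, ∀ v ∈ B, v + u ∈ B := by
      intro u hu v hv
      obtain ⟨t, ht⟩ := htr u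
      have htB : t • B = B := hfix t 0 h0 (by rw [ht, zero_add]; exact hu)
      have : v + u ∈ t • B := ⟨v, hv, ht v⟩
      rwa [htB] at this
    have hneg : ∀ u ∈ B, -u ∈ B := by
      intro u hu
      obtain ⟨t, ht⟩ := htr (-u)
      have htB : t • B = B := hfix t u hu (by rw [ht, add_neg_cancel]; exact h0)
      have : -u ∈ t • B := ⟨0, h0, by change t • (0 : V) = -u; rw [ht, zero_add]⟩
      rwa [htB] at this
    let A : AddSubgroup V :=
      { carrier := B
        add_mem' := fun ha hb => hadd _ hb _ ha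
        zero_mem' := h0
        neg_mem' := fun ha => hneg _ ha }
    have hinv : ∀ g ∈ G₀, ∀ v ∈ AddSubgroup.toZModSubmodule p A, (g : V ≃ₗ[ZMod p] V) v ∈ AddSubgroup.toZModSubmodule p A := by
      intro g hg v hv
      have hvB : v ∈ B := hv
      change g v ∈ B
      let s : G := ⟨_, hmem g hg 0⟩
      have hs : ∀ x : V, s • x = g x := fun x => by
        change g x + 0 = g x
        rw [add_zero]
      have hsB : s • B = B := hfix s 0 h0 (by rw [hs, map_zero]; exact h0)
      have : g v ∈ s • B := ⟨v, hvB, hs v⟩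
      rwa [hsB] at this
    rcases hirr _ hinv with h | h
    · left
      intro x hx y hy
      have hx' : x ∈ AddSubgroup.toZModSubmodule p A := hx
      have hy' : y ∈ AddSubgroup.toZModSubmodule p A := hy
      rw [h, Submodule.mem_bot] at hx' hy'
      rw [hx', hy']
    · right
      ext x
      simp only [Set.mem_univ, iff_true]
      have : x ∈ AddSubgroup.toZModSubmodule p A := by rw [h]; trivial
      exact this

end Cfsg.Agent.S0733
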