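import Cfsg.Statements.S0734
-- import your own Cfsg.Agent.* helpers here
import Mathlib

set_option autoImplicit false
open Cfsg

namespace Cfsg.Agent.S0734

open MulAction
open scoped Pointwise

section
variable {G : Type*} [Group G] {Ω : Type*} [MulAction G Ω]

/-- the orbital graph of the pair `(a, b)` -/
abbrev orbGraph (G : Type*) [Group G] {Ω : Type*} [MulAction G Ω] (a b : Ω) : SimpleGraph Ω :=
  SimpleGraph.fromRel fun x y : Ω => ∃ g : G, g • a = x ∧ g • b = y

theorem orbGraph_adj_smul (a b : Ω) (h : G) {x y : Ω} (hxy : (orbGraph G a b).Adj x y) :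
    (orbGraph G a b).Adj (h • x) (h • y) := by
  rw [SimpleGraph.fromRel_adj] at hxy ⊢
  obtain ⟨hne, hr⟩ := hxy
  refine ⟨fun e => hne (smul_left_cancel h e), ?_⟩
  rcases hr with ⟨g, hg1, hg2⟩ | ⟨g, hg1, hg2⟩
  · left; exact ⟨h * g, by rw [mul_smul, hg1], by rw [mul_smul, hg2]⟩
  · right; exact ⟨h * g, by rw [mul_smul, hg1], by rw [mul_smul, hg2]⟩

theorem orbGraph_reach_smul (a b : Ω) (h : G) {x y : Ω} (hxy : (orbGraph G a b).Reachable x y) :
    (orbGraph G a b).Reachable (h • x) (h • y) := by
  rw [SimpleGraph.reachable_iff_reflTransGen] at hxy ⊢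
  induction hxy with
  | refl => exact Relation.ReflTransGen.refl
  | tail _ hadj ih => exact Relation.ReflTransGen.tail ih (orbGraph_adj_smul a b h hadj)

theorem isBlock_reach (a b : Ω) : IsBlock G {x | (orbGraph G a b).Reachable a x} := by
  rw [isBlock_iff_smul_eq_of_mem]
  intro g a' ha' hga'
  simp only [Set.mem_setOf_eq] at ha' hga'
  have h1 : (orbGraph G a b).Reachable a (g • a) :=
    hga'.trans (orbGraph_reach_smul a b g ha').symm
  ext x
  constructor
  · rintro ⟨y, hy, rfl⟩
    exact h1.trans (orbGraph_reach_smul a b g hy)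
  · intro hx
    refine ⟨g⁻¹ • x, ?_, by simp⟩
    simp only [Set.mem_setOf_eq] at hx ⊢
    have h2 := orbGraph_reach_smul a b g⁻¹ (h1.symm.trans hx)
    rwa [inv_smul_smul] at h2

theorem orbGraph_adj_base (a b : Ω) (hab : a ≠ b) : (orbGraph G a b).Adj a b := by
  rw [SimpleGraph.fromRel_adj]
  exact ⟨hab, Or.inl ⟨1, one_smul _ _, one_smul _ _⟩⟩

end


/-- Higman's criterion for primitivity: a transitive action on a finite set is primitive if and only if every non-trivial orbital graph (edges = images of a fixed pair of distinct points) is connected. -/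
theorem result {G : Type*} [Group G] {Ω : Type*} [Finite Ω] [MulAction G Ω] [MulAction.IsPretransitive G Ω] [Nontrivial Ω] : MulAction.IsPreprimitive G Ω ↔ ∀ a b : Ω, a ≠ b → (SimpleGraph.fromRel fun x y : Ω => ∃ g : G, g • a = x ∧ g • b = y).Connected := by
  constructor
  · intro hprim a b hab
    have hB := isBlock_reach (G := G) a b
    have htriv := hB.subsingleton_or_eq_univ
    have hall : ∀ x, (orbGraph G a b).Reachable a x := by
      rcases htriv with hs | hu
      · exfalso
        apply hab
        apply hs
        · exact SimpleGraph.Reachable.refl _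
        · exact (orbGraph_adj_base a b hab).reachable
      · intro x
        have : x ∈ {x | (orbGraph G a b).Reachable a x} := by rw [hu]; trivial
        exact this
    have hne : Nonempty Ω := ⟨a⟩
    refine (SimpleGraph.connected_iff _).mpr ⟨?_, hne⟩
    intro x y
    exact (hall x).symm.trans (hall y)
  · intro hconn
    refine ⟨?_⟩
    intro B hB
    by_cases hs : B.Subsingleton
    · exact Or.inl hs
    · right
      rw [Set.not_subsingleton_iff] at hs
      obtain ⟨a, ha, b, hb, hab⟩ := hs
      have hc := hconn a b hab
      -- adjacency preserves membership in translates of B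
      have hadj : ∀ x y : Ω, (orbGraph G a b).Adj x y → ∀ g : G, x ∈ g • B ↔ y ∈ g • B := by
        intro x y hxy g
        rw [SimpleGraph.fromRel_adj] at hxy
        obtain ⟨_, hr⟩ := hxy
        have aux : ∀ h : G, ∀ u v : Ω, u ∈ h • B → v ∈ h • B → u ∈ g • B → v ∈ g • B := by
          intro h u v hu hv hug
          have : g • B = h • B := by
            have hblock := isBlock_iff_smul_eq_smul_of_nonempty.mp hB
            exact hblock ⟨u, hug, hu⟩
          rw [this]; exact hv
        rcases hr with ⟨h, h1, h2⟩ | ⟨h, h1, h2⟩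
        · have hx : x ∈ h • B := by rw [← h1]; exact Set.smul_mem_smul_set ha
          have hy : y ∈ h • B := by rw [← h2]; exact Set.smul_mem_smul_set hb
          exact ⟨aux h x y hx hy, aux h y x hy hx⟩
        · have hy : y ∈ h • B := by rw [← h1]; exact Set.smul_mem_smul_set ha
          have hx : x ∈ h • B := by rw [← h2]; exact Set.smul_mem_smul_set hb
          exact ⟨aux h x y hx hy, aux h y x hy hx⟩
      have hreach : ∀ x y : Ω, (orbGraph G a b).Reachable x y → ∀ g : G, x ∈ g • B ↔ y ∈ g • B := by
        intro x y hxy
        rw [SimpleGraph.reachable_iff_reflTransGen] at hxy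
        induction hxy with
        | refl => intro g; exact Iff.rfl
        | tail _ hadj' ih => intro g; exact (ih g).trans (hadj _ _ hadj' g)
      ext x
      simp only [Set.mem_univ, iff_true]
      have := (hreach a x (hc.preconnected a x) 1).mp (by rw [one_smul]; exact ha)
      rwa [one_smul] at this

end Cfsg.Agent.S0734
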