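import Cfsg.Statements.S0735
-- import your own Cfsg.Agent.* helpers here
import Mathlib

set_option autoImplicit false
open Cfsg

namespace Cfsg.Agent.S0735

open MulAction
open scoped Pointwise

/-- the pair lemma for 2-homogeneous groups -/
theorem pair_lemma {α : Type*} [Fintype α] [DecidableEq α] (G : Subgroup (Equiv.Perm α))
    (h2 : MulAction.IsPretransitive G (Set.powersetCard α 2)) {a b c d : α} (hab : a ≠ b) (hcd : c ≠ d) :
    ∃ g : G, (g • a = c ∧ g • b = d) ∨ (g • a = d ∧ g • b = c) := by
  let s : Set.powersetCard α 2 := ⟨{a, b}, Finset.card_pair hab⟩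
  let t : Set.powersetCard α 2 := ⟨{c, d}, Finset.card_pair hcd⟩
  obtain ⟨g, hg⟩ := h2.exists_smul_eq s t
  refine ⟨g, ?_⟩
  have hg' : g • ({a, b} : Finset α) = {c, d} := by
    have h1 : ((g • s : Set.powersetCard α 2) : Finset α) = (t : Finset α) := by rw [hg]
    exact h1
  have ha : g • a ∈ ({c, d} : Finset α) := by
    rw [← hg']; exact Finset.smul_mem_smul_finset (by simp)
  have hb : g • b ∈ ({c, d} : Finset α) := by
    rw [← hg']; exact Finset.smul_mem_smul_finset (by simp)
  have hne : g • a ≠ g • b := fun e => hab (smul_left_cancel g e)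
  simp only [Finset.mem_insert, Finset.mem_singleton] at ha hb
  rcases ha with ha | ha <;> rcases hb with hb | hb
  · exact absurd (ha.trans hb.symm) hne
  · exact Or.inl ⟨ha, hb⟩
  · exact Or.inr ⟨ha, hb⟩
  · exact absurd (ha.trans hb.symm) hne

theorem exists_third {α : Type*} [Fintype α] [DecidableEq α] (hα : 3 ≤ Fintype.card α) (x y : α) :
    ∃ z : α, z ≠ x ∧ z ≠ y := by
  by_contra h
  push Not at h
  have : (Finset.univ : Finset α) ⊆ {x, y} := by
    intro z _
    by_cases hz : z = x
    · simp [hz]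
    · simp [h z hz]
  have h1 := Finset.card_le_card this
  have h2 : ({x, y} : Finset α).card ≤ 2 := Finset.card_le_two
  rw [Finset.card_univ] at h1
  omega

theorem trans_of_hom {α : Type*} [Fintype α] [DecidableEq α] (G : Subgroup (Equiv.Perm α))
    (h2 : MulAction.IsPretransitive G (Set.powersetCard α 2)) (hα : 3 ≤ Fintype.card α) :
    MulAction.IsPretransitive G α := by
  refine ⟨fun x y => ?_⟩
  by_cases hxy : x = y
  · exact ⟨1, by rw [one_smul, hxy]⟩
  · obtain ⟨z, hzx, hzy⟩ := exists_third hα x y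
    obtain ⟨g, hg | hg⟩ := pair_lemma G h2 (Ne.symm hzx) (Ne.symm hzy)
    · exact ⟨g, hg.1⟩
    · exact ⟨g * g, by rw [mul_smul, hg.1, hg.2]⟩


/-- A 2-homogeneous permutation group (transitive on 2-subsets) of even order is doubly transitive; a non-trivial 2-homogeneous group is primitive. -/
theorem result {α : Type*} [Fintype α] [DecidableEq α] (G : Subgroup (Equiv.Perm α)) (h2 : MulAction.IsPretransitive G (Set.powersetCard α 2)) (hα : 3 ≤ Fintype.card α) : (Even (Nat.card G) → MulAction.IsMultiplyPretransitive G α 2) ∧ (G ≠ ⊥ → MulAction.IsPreprimitive G α) := by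
  constructor
  · intro heven
    have h2dvd : 2 ∣ Nat.card G := even_iff_two_dvd.mp heven
    have : Fact (Nat.Prime 2) := ⟨Nat.prime_two⟩
    obtain ⟨t, ht⟩ := exists_prime_orderOf_dvd_card' 2 h2dvd
    have ht1 : t ≠ 1 := by
      intro h
      rw [h, orderOf_one] at ht
      omega
    have htt : t * t = 1 := by
      rw [← pow_two, ← ht]; exact pow_orderOf_eq_one t
    have hmove : ∃ a : α, t • a ≠ a := by
      by_contra h
      push Not at h
      apply ht1
      apply Subtype.ext
      apply Equiv.ext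
      intro a
      exact h a
    obtain ⟨a, ha⟩ := hmove
    set b := t • a with hb
    have htb : t • b = a := by rw [hb, ← mul_smul, htt, one_smul]
    have hab : a ≠ b := Ne.symm ha
    -- every ordered pair maps to (a, b)
    have key : ∀ x : Fin 2 ↪ α, ∃ g : G, g • x 0 = a ∧ g • x 1 = b := by
      intro x
      have hx : x 0 ≠ x 1 := fun h => absurd (x.injective h) (by decide)
      obtain ⟨g, hg | hg⟩ := pair_lemma G h2 hx hab
      · exact ⟨g, hg⟩
      · exact ⟨t * g, by rw [mul_smul, hg.1, htb], by rw [mul_smul, hg.2]⟩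
    refine ⟨fun x y => ?_⟩
    obtain ⟨g₁, hg₁⟩ := key x
    obtain ⟨g₂, hg₂⟩ := key y
    refine ⟨g₂⁻¹ * g₁, ?_⟩
    ext i
    rw [Function.Embedding.smul_apply]
    fin_cases i
    · change (g₂⁻¹ * g₁) • x 0 = y 0
      rw [mul_smul, hg₁.1, ← hg₂.1, inv_smul_smul]
    · change (g₂⁻¹ * g₁) • x 1 = y 1
      rw [mul_smul, hg₁.2, ← hg₂.2, inv_smul_smul]
  · intro _
    have htrans := trans_of_hom G h2 hα
    refine ⟨?_⟩
    intro B hB
    by_cases hs : B.Subsingleton
    · exact Or.inl hs
    · right
      rw [Set.not_subsingleton_iff] at hs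
      obtain ⟨a, ha, b, hb, hab⟩ := hs
      by_contra hne
      rw [Set.eq_univ_iff_forall] at hne
      push Not at hne
      obtain ⟨c, hc⟩ := hne
      have hac : a ≠ c := fun h => hc (h ▸ ha)
      obtain ⟨g, hg | hg⟩ := pair_lemma G h2 hab hac
      · have hgB : g • B = B := (isBlock_iff_smul_eq_of_mem.mp hB) ha (by rw [hg.1]; exact ha)
        apply hc
        rw [← hgB, ← hg.2]
        exact Set.smul_mem_smul_set hb
      · have hgB : g • B = B := (isBlock_iff_smul_eq_of_mem.mp hB) hb (by rw [hg.2]; exact ha)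
        apply hc
        rw [← hgB, ← hg.1]
        exact Set.smul_mem_smul_set ha

end Cfsg.Agent.S0735
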