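import Cfsg.Statements.S0736
import Mathlib

set_option autoImplicit false
set_option linter.unusedSectionVars false
open Cfsg
open scoped Pointwise

namespace Cfsg.Agent.S0736

/-- Kummer: `p ∤ C(q - 1 + k, k)` when `q = p ^ a ∣ k`. -/
lemma not_dvd_choose (p a k : ℕ) [hp : Fact p.Prime] (hqk : p ^ a ∣ k) :
    ¬ p ∣ Nat.choose (p ^ a - 1 + k) k := by
  have hpos : 0 < p ^ a := pow_pos hp.out.pos a
  have h := padicValNat_choose' (p := p) (n := p ^ a - 1) (k := k)
    (b := Nat.log p (p ^ a - 1 + k) + 1) (Nat.lt_succ_self _)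
  have hempty : (Finset.filter (fun i => p ^ i ≤ k % p ^ i + (p ^ a - 1) % p ^ i)
      (Finset.Ico 1 (Nat.log p (p ^ a - 1 + k) + 1))) = ∅ := by
    rw [Finset.filter_eq_empty_iff]
    intro i _
    rw [not_le]
    have hM : 0 < p ^ i := pow_pos hp.out.pos i
    rcases le_or_gt i a with hia | hia
    · have h1 : p ^ i ∣ k := (pow_dvd_pow p hia).trans hqk
      rw [Nat.mod_eq_zero_of_dvd h1, zero_add]
      exact Nat.mod_lt _ hM
    · have hqM : p ^ a ∣ p ^ i := pow_dvd_pow p hia.le
      have hlt : p ^ a < p ^ i := Nat.pow_lt_pow_right hp.out.one_lt hia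
      have h1 : p ^ a ∣ k % p ^ i := (Nat.dvd_mod_iff hqM).2 hqk
      have h2 : k % p ^ i < p ^ i := Nat.mod_lt _ hM
      have h3 : p ^ a ∣ p ^ i - k % p ^ i := Nat.dvd_sub hqM h1
      have h4 : p ^ a ≤ p ^ i - k % p ^ i := Nat.le_of_dvd (by omega) h3
      have h5 : (p ^ a - 1) % p ^ i = p ^ a - 1 := Nat.mod_eq_of_lt (by omega)
      rw [h5]
      omega
  rw [hempty, Finset.card_empty] at h
  have hne : Nat.choose (p ^ a - 1 + k) k ≠ 0 := (Nat.choose_pos (by omega)).ne'
  intro hdvd
  exact (dvd_iff_padicValNat_ne_zero hne).1 hdvd h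

variable {α : Type*} [DecidableEq α]

/-- the `k`-subsets of `A` containing a `(k-1)`-subset `I ⊆ A`. -/
lemma card_supersets (A I : Finset α) (k : ℕ) (hk : 1 ≤ k) (hIA : I ⊆ A) (hI : I.card = k - 1) :
    ((A.powersetCard k).filter (fun Δ => I ⊆ Δ)).card = A.card - (k - 1) := by
  have : (A.powersetCard k).filter (fun Δ => I ⊆ Δ) = (A \ I).image (fun x => insert x I) := by
    ext Δ
    simp only [Finset.mem_filter, Finset.mem_powersetCard, Finset.mem_image, Finset.mem_sdiff]
    constructor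
    · rintro ⟨⟨hΔA, hΔk⟩, hIΔ⟩
      have h1 : (Δ \ I).card = 1 := by
        rw [Finset.card_sdiff_of_subset hIΔ, hΔk, hI]; omega
      obtain ⟨x, hx⟩ := Finset.card_eq_one.1 h1
      have hxm : x ∈ Δ \ I := by rw [hx]; exact Finset.mem_singleton_self x
      rw [Finset.mem_sdiff] at hxm
      refine ⟨x, ⟨hΔA hxm.1, hxm.2⟩, ?_⟩
      rw [← Finset.sdiff_union_of_subset hIΔ, hx]
      ext y
      simp [Finset.mem_insert, Finset.mem_union]
    · rintro ⟨x, ⟨hxA, hxI⟩, rfl⟩
      refine ⟨⟨?_, ?_⟩, Finset.subset_insert x I⟩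
      · exact Finset.insert_subset hxA hIA
      · rw [Finset.card_insert_of_notMem hxI, hI]; omega
  rw [this, Finset.card_image_of_injOn, Finset.card_sdiff_of_subset hIA, hI]
  intro x hx y hy hxy
  simp only [Finset.coe_sdiff, Set.mem_diff, Finset.mem_coe] at hx hy
  have hxy' : insert x I = insert y I := hxy
  have : x ∈ insert y I := by rw [← hxy']; exact Finset.mem_insert_self x I
  rcases Finset.mem_insert.1 this with h | h
  · exact h
  · exact absurd h hx.2

/-- double counting inside a set `A`. -/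
lemma design_count (O : Finset (Finset α)) (k c : ℕ) (hk : 1 ≤ k)
    (hc : ∀ Δ : Finset α, Δ.card = k → ((Δ.powersetCard (k - 1)).filter (· ∈ O)).card = c)
    (A : Finset α) :
    ((A.powersetCard (k - 1)).filter (· ∈ O)).card * (A.card - (k - 1)) = A.card.choose k * c := by
  classical
  have h := Finset.sum_card_bipartiteAbove_eq_sum_card_bipartiteBelow
    (fun (Δ : Finset α) (I : Finset α) => I ⊆ Δ) (s := A.powersetCard k)
    (t := (A.powersetCard (k - 1)).filter (· ∈ O))
  have h1 : ∀ Δ ∈ A.powersetCard k,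
      (Finset.bipartiteAbove (fun (Δ : Finset α) (I : Finset α) => I ⊆ Δ)
        ((A.powersetCard (k - 1)).filter (· ∈ O)) Δ).card = c := by
    intro Δ hΔ
    rw [Finset.mem_powersetCard] at hΔ
    rw [← hc Δ hΔ.2]
    congr 1
    ext I
    simp only [Finset.bipartiteAbove, Finset.mem_filter, Finset.mem_powersetCard]
    constructor
    · rintro ⟨⟨⟨_, h2⟩, h3⟩, h4⟩
      exact ⟨⟨h4, h2⟩, h3⟩
    · rintro ⟨⟨h4, h2⟩, h3⟩
      exact ⟨⟨⟨h4.trans hΔ.1, h2⟩, h3⟩, h4⟩
  have h2 : ∀ I ∈ (A.powersetCard (k - 1)).filter (· ∈ O),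
      (Finset.bipartiteBelow (fun (Δ : Finset α) (I : Finset α) => I ⊆ Δ)
        (A.powersetCard k) I).card = A.card - (k - 1) := by
    intro I hI
    rw [Finset.mem_filter, Finset.mem_powersetCard] at hI
    exact card_supersets A I k hk hI.1.1 hI.1.2
  rw [Finset.sum_congr rfl h1, Finset.sum_congr rfl h2, Finset.sum_const, Finset.sum_const,
    smul_eq_mul, smul_eq_mul, Finset.card_powersetCard] at h
  exact h.symm

/-- A `k`-homogeneous permutation group of degree `n`, `k ≥ 2`, with `k + q - 1 ≤ n` for every prime power `q` dividing `k`, is `(k-1)`-homogeneous. -/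
theorem result {α : Type*} [Fintype α] [DecidableEq α] (G : Subgroup (Equiv.Perm α)) {k : ℕ} (hk : 2 ≤ k) (hG : MulAction.IsPretransitive G (Set.powersetCard α k)) (hq : ∀ q : ℕ, IsPrimePow q → q ∣ k → k + q - 1 ≤ Fintype.card α) : MulAction.IsPretransitive G (Set.powersetCard α (k - 1)) := by
  classical
  -- transitivity on k-sets in Finset form
  have htr : ∀ Δ Δ' : Finset α, Δ.card = k → Δ'.card = k → ∃ g : G, g • Δ = Δ' := by
    intro Δ Δ' h h'
    obtain ⟨g, hg⟩ := MulAction.exists_smul_eq G (⟨Δ, h⟩ : Set.powersetCard α k) ⟨Δ', h'⟩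
    refine ⟨g, ?_⟩
    exact congrArg (fun z : Set.powersetCard α k => (z : Finset α)) hg
  -- n ≥ k + 1
  have hn : k + 1 ≤ Fintype.card α := by
    obtain ⟨p, hp, hpk⟩ := Nat.exists_prime_and_dvd (by omega : k ≠ 1)
    have := hq p hp.isPrimePow hpk
    have := hp.two_le
    omega
  constructor
  intro s t
  set I₀ : Finset α := (s : Finset α) with hI₀
  have hI₀c : I₀.card = k - 1 := s.2
  set O : Finset (Finset α) := Finset.univ.filter (fun I => ∃ g : G, g • I₀ = I) with hO
  have hOmem : ∀ I, I ∈ O ↔ ∃ g : G, g • I₀ = I := by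
    intro I; rw [hO, Finset.mem_filter]; simp
  -- extension of a (k-1)-set to a k-set
  have hext : ∀ I : Finset α, I.card = k - 1 → ∃ Δ : Finset α, I ⊆ Δ ∧ Δ.card = k := by
    intro I hI
    have : ∃ x, x ∉ I := by
      by_contra hcon
      push Not at hcon
      have : I = Finset.univ := Finset.eq_univ_iff_forall.2 hcon
      rw [this, Finset.card_univ] at hI
      omega
    obtain ⟨x, hx⟩ := this
    exact ⟨insert x I, Finset.subset_insert x I, by rw [Finset.card_insert_of_notMem hx, hI]; omega⟩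
  obtain ⟨Δ₀, hIΔ₀, hΔ₀⟩ := hext I₀ hI₀c
  set c := ((Δ₀.powersetCard (k - 1)).filter (· ∈ O)).card with hc
  have hconst : ∀ Δ : Finset α, Δ.card = k → ((Δ.powersetCard (k - 1)).filter (· ∈ O)).card = c := by
    intro Δ hΔ
    obtain ⟨g, hg⟩ := htr Δ₀ Δ hΔ₀ hΔ
    rw [hc]
    symm
    apply Finset.card_bij (fun I _ => g • I)
    · intro I hI
      rw [Finset.mem_filter, Finset.mem_powersetCard] at hI ⊢
      refine ⟨⟨?_, ?_⟩, ?_⟩
      · rw [← hg]; exact Finset.smul_finset_subset_smul_finset_iff.2 hI.1.1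
      · rw [Finset.card_smul_finset]; exact hI.1.2
      · obtain ⟨h, hh⟩ := (hOmem I).1 hI.2
        exact (hOmem _).2 ⟨g * h, by rw [mul_smul, hh]⟩
    · intro I _ J _ hIJ
      exact smul_left_cancel g hIJ
    · intro J hJ
      rw [Finset.mem_filter, Finset.mem_powersetCard] at hJ
      refine ⟨g⁻¹ • J, ?_, smul_inv_smul g J⟩
      rw [Finset.mem_filter, Finset.mem_powersetCard]
      refine ⟨⟨?_, ?_⟩, ?_⟩
      · rw [← Finset.smul_finset_subset_smul_finset_iff (a := g), smul_inv_smul, hg]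
        exact hJ.1.1
      · rw [Finset.card_smul_finset]; exact hJ.1.2
      · obtain ⟨h, hh⟩ := (hOmem J).1 hJ.2
        exact (hOmem _).2 ⟨g⁻¹ * h, by rw [mul_smul, hh]⟩
  have hc1 : 1 ≤ c := by
    rw [hc]
    apply Finset.card_pos.2
    refine ⟨I₀, ?_⟩
    rw [Finset.mem_filter, Finset.mem_powersetCard]
    exact ⟨⟨hIΔ₀, hI₀c⟩, (hOmem _).2 ⟨1, one_smul _ _⟩⟩
  have hck : c ≤ k := by
    rw [hc]
    calc ((Δ₀.powersetCard (k - 1)).filter (· ∈ O)).card ≤ (Δ₀.powersetCard (k - 1)).card :=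
          Finset.card_filter_le _ _
      _ = k := by
        rw [Finset.card_powersetCard, hΔ₀]
        have := Nat.choose_symm (n := k) (k := 1) (by omega)
        rw [this, Nat.choose_one_right]
  have hkc : k ∣ c := by
    apply (Nat.factorization_prime_le_iff_dvd (by omega) (by omega)).1
    intro p hp
    have : Fact p.Prime := ⟨hp⟩
    by_cases hpk : p ∣ k
    · set a := k.factorization p with ha
      have ha1 : 1 ≤ a := (hp.dvd_iff_one_le_factorization (by omega)).1 hpk
      have hqk : p ^ a ∣ k := Nat.ordProj_dvd k p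
      have hpp : IsPrimePow (p ^ a) := ⟨p, a, hp.prime, ha1, rfl⟩
      have hle := hq (p ^ a) hpp hqk
      have hqpos : 0 < p ^ a := pow_pos hp.pos a
      obtain ⟨A, -, hA⟩ := Finset.exists_subset_card_eq (s := (Finset.univ : Finset α))
        (n := p ^ a - 1 + k) (by rw [Finset.card_univ]; omega)
      have hcount := design_count O k c (by omega) hconst A
      rw [hA] at hcount
      have h1 : p ^ a - 1 + k - (k - 1) = p ^ a := by omega
      rw [h1] at hcount
      have hcop : (p ^ a).Coprime (Nat.choose (p ^ a - 1 + k) k) :=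
        Nat.Coprime.pow_left a ((Nat.Prime.coprime_iff_not_dvd hp).2 (not_dvd_choose p a k hqk))
      have hdvd : p ^ a ∣ Nat.choose (p ^ a - 1 + k) k * c := ⟨_, by rw [← hcount]; ring⟩
      have := hcop.dvd_of_dvd_mul_left hdvd
      exact (hp.pow_dvd_iff_le_factorization (by omega)).1 this
    · rw [Nat.factorization_eq_zero_of_not_dvd hpk]
      exact Nat.zero_le _
  have hceq : c = k := by
    obtain ⟨m, hm⟩ := hkc
    have : m = 1 := by
      rcases Nat.lt_or_ge m 1 with h | h
      · have : m = 0 := by omega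
        subst this; omega
      · rcases Nat.lt_or_ge 1 m with h' | h'
        · have : k * 2 ≤ k * m := Nat.mul_le_mul_left k h'
          omega
        · omega
    rw [hm, this, mul_one]
  -- t lies in the orbit
  obtain ⟨Δ₁, htΔ₁, hΔ₁⟩ := hext (t : Finset α) t.2
  have hfull : (Δ₁.powersetCard (k - 1)).filter (· ∈ O) = Δ₁.powersetCard (k - 1) := by
    apply Finset.eq_of_subset_of_card_le (Finset.filter_subset _ _)
    rw [hconst Δ₁ hΔ₁, hceq, Finset.card_powersetCard, hΔ₁]
    have := Nat.choose_symm (n := k) (k := 1) (by omega)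
    rw [this, Nat.choose_one_right]
  have ht : (t : Finset α) ∈ (Δ₁.powersetCard (k - 1)).filter (· ∈ O) := by
    rw [hfull, Finset.mem_powersetCard]
    exact ⟨htΔ₁, t.2⟩
  rw [Finset.mem_filter] at ht
  obtain ⟨g, hg⟩ := (hOmem _).1 ht.2
  refine ⟨g, ?_⟩
  apply Subtype.ext
  exact hg

end Cfsg.Agent.S0736
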