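import Mathlib
import Cfsg.Statements.S0738
import Cfsg.Agent.Lib_helper17_Zassenhaus

set_option autoImplicit false
open Cfsg

namespace Cfsg.Agent.S0738

open MulAction Cfsg.Agent.helper17.Zass

theorem card_modEq_card_fixed {α : Type*} [DecidableEq α] [Fintype α] (σ : Equiv.Perm α) (p : ℕ)
    [hp : Fact p.Prime] (hσ : σ ^ p = 1) (S : Finset α) (hS : ∀ x ∈ S, σ x ∈ S) :
    S.card ≡ (S.filter (fun x => σ x = x)).card [MOD p] := by
  have hpow : ∀ k : ℕ, ∀ y ∈ S, (σ ^ k) y ∈ S := by
    intro k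
    induction k with
    | zero => intro y hy; simpa using hy
    | succ k ih =>
      intro y hy
      rw [pow_succ', Equiv.Perm.mul_apply]
      exact hS _ (ih y hy)
  have hS' : ∀ x, σ x ∈ S ↔ x ∈ S := by
    intro x
    constructor
    · intro h
      have h2 := hpow (p - 1) (σ x) h
      have h3 : (σ ^ (p - 1)) (σ x) = x := by
        rw [← Equiv.Perm.mul_apply, ← pow_succ, Nat.sub_add_cancel hp.out.one_le, hσ]
        rfl
      rwa [h3] at h2
    · exact hS x
  let τ : Equiv.Perm {x // x ∈ S} := σ.subtypePerm hS'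
  have hτ : τ ^ p ^ 1 = 1 := by
    rw [pow_one, Equiv.Perm.subtypePerm_pow]
    ext x
    simp [hσ]
  have h := Equiv.Perm.card_compl_support_modEq (p := p) (n := 1) hτ
  rw [Fintype.card_coe] at h
  have hc : τ.supportᶜ.card = (S.filter (fun x => σ x = x)).card := by
    rw [← Finset.card_map ⟨Subtype.val, Subtype.val_injective⟩]
    congr 1
    ext x
    simp only [Finset.mem_map, Finset.mem_compl, Equiv.Perm.mem_support, not_not,
      Function.Embedding.coeFn_mk, Finset.mem_filter]
    constructor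
    · rintro ⟨y, hy, rfl⟩
      refine ⟨y.2, ?_⟩
      have := congrArg Subtype.val hy
      simpa [τ] using this
    · rintro ⟨hx, hfx⟩
      refine ⟨⟨x, hx⟩, ?_, rfl⟩
      apply Subtype.ext
      simpa [τ] using hfx
  rw [hc] at h
  exact h.symm

theorem result {G Ω : Type*} [Group G] [Finite G] [MulAction G Ω] [Fintype Ω] (hZ : Cfsg.IsZassenhausGroup G Ω) {a b : Ω} (hab : a ≠ b) (hd : Fintype.card Ω - 2 ≤ 2 * Nat.card ↥(MulAction.stabilizer G a ⊓ MulAction.stabilizer G b)) (F : Subgroup G) (hFle : F ≤ MulAction.stabilizer G a) (hFn : (F.subgroupOf (MulAction.stabilizer G a)).Normal) (hreg : ∀ y z : Ω, y ≠ a → z ≠ a → ∃! u : F, (u : G) • y = z) : IsMulCommutative F ∧ ∃ p f : ℕ, p.Prime ∧ (∀ u ∈ F, u ^ p = 1) ∧ Fintype.card Ω = p ^ f + 1 := by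
  classical
  obtain ⟨hfaith, h2t, h3, ⟨g₀, hg₀, a', b', hab', hga', hgb'⟩, _⟩ := hZ
  haveI : Fintype G := Fintype.ofFinite G
  have hFa : ∀ u ∈ F, u • a = a := fun u hu => mem_stabilizer_iff.mp (hFle hu)
  -- H normalises F
  have hHnorm : ∀ h : G, h • a = a → ∀ u ∈ F, h * u * h⁻¹ ∈ F := by
    intro h hh u hu
    have hmem : (⟨u, hFle hu⟩ : stabilizer G a) ∈ F.subgroupOf (stabilizer G a) := by
      rw [Subgroup.mem_subgroupOf]; exact hu
    have := hFn.conj_mem _ hmem ⟨h, mem_stabilizer_iff.mpr hh⟩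
    rw [Subgroup.mem_subgroupOf] at this
    exact this
  -- regularity
  have hR1 : ∀ u ∈ F, ∀ y : Ω, y ≠ a → u • y = y → u = 1 := by
    intro u hu y hy huy
    obtain ⟨w, _, hw2⟩ := hreg y y hy hy
    have e1 := hw2 ⟨u, hu⟩ huy
    have e2 := hw2 1 (by simp)
    have := e1.trans e2.symm
    exact congrArg Subtype.val this
  have hR2 : ∀ y z : Ω, y ≠ a → z ≠ a → ∃ u ∈ F, u • y = z := by
    intro y z hy hz
    obtain ⟨w, hw1, _⟩ := hreg y z hy hz
    exact ⟨w.1, w.2, hw1⟩
  have hba : b ≠ a := Ne.symm hab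
  -- three points
  obtain ⟨c', hc'⟩ := exists_moved (Ω := Ω) g₀ hg₀
  have hca : a' ≠ c' := fun h => hc' (h ▸ hga')
  have hcb : b' ≠ c' := fun h => hc' (h ▸ hgb')
  have hΩ3 : 3 ≤ Fintype.card Ω := by
    have : 2 < (Finset.univ : Finset Ω).card :=
      Finset.two_lt_card_iff.mpr ⟨a', b', c', Finset.mem_univ _, Finset.mem_univ _,
        Finset.mem_univ _, hab', hca, hcb⟩
    rw [Finset.card_univ] at this
    omega
  -- the finset of F
  set FF : Finset G := Finset.univ.filter (fun g => g ∈ F) with hFF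
  have hmemFF : ∀ g, g ∈ FF ↔ g ∈ F := by intro g; simp [hFF]
  set n := Nat.card F with hn
  have hFFcard : FF.card = n := by
    rw [hn, Nat.card_eq_fintype_card, Fintype.card_subtype]
  have hnΩ : n + 1 = Fintype.card Ω := by
    have h1 : FF.card = ((Finset.univ : Finset Ω).erase a).card := by
      apply Finset.card_bij (fun u _ => u • b)
      · intro u hu
        rw [hmemFF] at hu
        rw [Finset.mem_erase]
        refine ⟨?_, Finset.mem_univ _⟩
        intro h
        have : u • b = u • a := by rw [h, hFa u hu]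
        exact hba (smul_left_cancel u this)
      · intro u hu u' hu' h
        rw [hmemFF] at hu hu'
        have h1 : u'⁻¹ * u = 1 := by
          apply hR1 _ (F.mul_mem (F.inv_mem hu') hu) b hba
          rw [mul_smul, h, inv_smul_smul]
        exact (inv_mul_eq_one.mp h1).symm
      · intro z hz
        rw [Finset.mem_erase] at hz
        obtain ⟨u, hu, huz⟩ := hR2 b z hba hz.1
        exact ⟨u, (hmemFF u).mpr hu, huz⟩
    rw [Finset.card_erase_of_mem (Finset.mem_univ _), Finset.card_univ, hFFcard] at h1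
    omega
  -- the finset of H
  set d := Nat.card ↥(MulAction.stabilizer G a ⊓ MulAction.stabilizer G b) with hdd
  set HF : Finset G := Finset.univ.filter (fun g => g • a = a ∧ g • b = b) with hHF
  have hmemHF : ∀ g, g ∈ HF ↔ g • a = a ∧ g • b = b := by intro g; simp [hHF]
  have hHFcard : HF.card = d := by
    rw [hdd, Nat.card_eq_fintype_card, Fintype.card_subtype]
    congr 1
    ext g
    simp only [hHF, Finset.mem_filter, Finset.mem_univ, true_and, Subgroup.mem_inf,
      mem_stabilizer_iff]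
  have hd' : n - 1 ≤ 2 * d := by omega
  have hn2 : 2 ≤ n := by omega
  -- semiregular conjugation action
  have hsemi : ∀ h : G, h • a = a → h • b = b → ∀ u ∈ F, u ≠ 1 → h * u * h⁻¹ = u → h = 1 := by
    intro h hha hhb u hu hu1 hcomm
    have hub : u • b ≠ b := fun h' => hu1 (hR1 u hu b hba h')
    have hua : u • b ≠ a := by
      intro h'
      have : u • b = u • a := by rw [h', hFa u hu]
      exact hba (smul_left_cancel u this)
    have hfix : h • (u • b) = u • b := by
      have e : h * u = u * h := by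
        have := congrArg (fun x => x * h) hcomm
        simpa using this
      rw [← mul_smul, e, mul_smul, hhb]
    exact h3 h a b (u • b) hab (Ne.symm hub) (Ne.symm hua) hha hhb hfix
  -- Lemma A'
  have hA : ∀ X : Finset G, (∀ u ∈ X, u ∈ F ∧ u ≠ 1) →
      (∀ h : G, h • a = a → h • b = b → ∀ u ∈ X, h * u * h⁻¹ ∈ X) → X.Nonempty → d ≤ X.card := by
    intro X hX hinv ⟨u, hu⟩
    rw [← hHFcard]
    apply Finset.card_le_card_of_injOn (fun h => h * u * h⁻¹)
    · intro h hh
      rw [Finset.mem_coe, hmemHF] at hh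
      exact hinv h hh.1 hh.2 u hu
    · intro h hh h' hh' heq
      rw [Finset.mem_coe, hmemHF] at hh hh'
      have heq' : h * u * h⁻¹ = h' * u * h'⁻¹ := heq
      have h1 : (h'⁻¹ * h) * u * (h'⁻¹ * h)⁻¹ = u := by
        have : (h'⁻¹ * h) * u * (h'⁻¹ * h)⁻¹ = h'⁻¹ * (h * u * h⁻¹) * h' := by group
        rw [this, heq']; group
      have h2 := hsemi (h'⁻¹ * h)
        (by rw [mul_smul, hh.1, inv_smul_eq_iff, hh'.1])
        (by rw [mul_smul, hh.2, inv_smul_eq_iff, hh'.2]) u (hX u hu).1 (hX u hu).2 h1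
      exact (inv_mul_eq_one.mp h2).symm
  -- Lemma B
  have hB : ∀ S : Subgroup G, S ≤ F → S ≠ ⊥ →
      (∀ h : G, h • a = a → h • b = b → ∀ s ∈ S, h * s * h⁻¹ ∈ S) → S = F := by
    intro S hSF hS1 hSinv
    by_contra hne
    set SF : Finset G := Finset.univ.filter (fun g => g ∈ S) with hSFdef
    have hSFcard : SF.card = Nat.card S := by
      rw [Nat.card_eq_fintype_card, Fintype.card_subtype]
    have h1mem : (1 : G) ∈ SF := by simp [hSFdef, S.one_mem]
    have hX := hA (SF.erase 1)
      (by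
        intro u hu
        rw [Finset.mem_erase] at hu
        simp only [hSFdef, Finset.mem_filter, Finset.mem_univ, true_and] at hu
        exact ⟨hSF hu.2, hu.1⟩)
      (by
        intro h hha hhb u hu
        rw [Finset.mem_erase] at hu ⊢
        simp only [hSFdef, Finset.mem_filter, Finset.mem_univ, true_and] at hu ⊢
        refine ⟨?_, hSinv h hha hhb u hu.2⟩
        intro h1
        apply hu.1
        have : u = h⁻¹ * (h * u * h⁻¹) * h := by group
        rw [this, h1]; group)
      (by
        obtain ⟨x, hx⟩ := (Subgroup.ne_bot_iff_exists_ne_one).mp hS1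
        obtain ⟨s, hs, hs1⟩ : ∃ s : G, s ∈ S ∧ s ≠ 1 :=
          ⟨x.1, x.2, fun h => hx (Subtype.ext h)⟩
        exact ⟨s, by
          rw [Finset.mem_erase]
          simp only [hSFdef, Finset.mem_filter, Finset.mem_univ, true_and]
          exact ⟨hs1, hs⟩⟩)
    rw [Finset.card_erase_of_mem h1mem, hSFcard] at hX
    have hdvd : Nat.card S ∣ n := Subgroup.card_dvd_of_le hSF
    have hlt : Nat.card S ≠ n := by
      intro heq
      apply hne
      exact Subgroup.eq_of_le_of_card_ge hSF (by rw [heq])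
    obtain ⟨j, hj⟩ := hdvd
    have hSpos : 0 < Nat.card S := Nat.card_pos
    have hj2 : 2 ≤ j := by
      rcases j with _ | _ | j
      · rw [Nat.mul_zero] at hj; omega
      · rw [Nat.zero_add, Nat.mul_one] at hj; exact absurd hj.symm hlt
      · omega
    have : 2 * Nat.card S ≤ n := by
      calc 2 * Nat.card S = Nat.card S * 2 := by ring
        _ ≤ Nat.card S * j := Nat.mul_le_mul_left _ hj2
        _ = n := hj.symm
    omega
  -- orders are conjugation invariant
  have hord : ∀ h u : G, orderOf (h * u * h⁻¹) = orderOf u := by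
    intro h u
    rw [← MulAut.conj_apply]
    exact MulEquiv.orderOf_eq _ _
  have hXq : ∀ q : ℕ, q.Prime →
      (∀ u ∈ Finset.univ.filter (fun g : G => g ∈ F ∧ orderOf g = q), u ∈ F ∧ u ≠ 1) ∧
      (∀ h : G, h • a = a → h • b = b →
        ∀ u ∈ Finset.univ.filter (fun g : G => g ∈ F ∧ orderOf g = q),
          h * u * h⁻¹ ∈ Finset.univ.filter (fun g : G => g ∈ F ∧ orderOf g = q)) := by
    intro q hq
    constructor
    · intro u hu
      simp only [Finset.mem_filter, Finset.mem_univ, true_and] at hu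
      refine ⟨hu.1, ?_⟩
      intro h1
      rw [h1, orderOf_one] at hu
      exact hq.one_lt.ne hu.2
    · intro h hha hhb u hu
      simp only [Finset.mem_filter, Finset.mem_univ, true_and] at hu ⊢
      exact ⟨hHnorm h hha u hu.1, by rw [hord]; exact hu.2⟩
  -- uniqueness of the prime
  have hprime : ∀ p p' : ℕ, p.Prime → p'.Prime → p ∣ n → p' ∣ n → p = p' := by
    intro p p' hp hp' hpn hp'n
    by_contra hne
    haveI : Fact p.Prime := ⟨hp⟩
    haveI : Fact p'.Prime := ⟨hp'⟩
    set Xp : Finset G := Finset.univ.filter (fun g => g ∈ F ∧ orderOf g = p) with hXp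
    set Xp' : Finset G := Finset.univ.filter (fun g => g ∈ F ∧ orderOf g = p') with hXp'
    obtain ⟨u₀, hu₀F, hu₀⟩ : ∃ u₀ : G, u₀ ∈ F ∧ orderOf u₀ = p := by
      obtain ⟨x, hx⟩ := exists_prime_orderOf_dvd_card' (G := F) p hpn
      exact ⟨x.1, x.2, by rw [Subgroup.orderOf_coe]; exact hx⟩
    obtain ⟨v₀, hv₀F, hv₀⟩ : ∃ v₀ : G, v₀ ∈ F ∧ orderOf v₀ = p' := by
      obtain ⟨x, hx⟩ := exists_prime_orderOf_dvd_card' (G := F) p' hp'n
      exact ⟨x.1, x.2, by rw [Subgroup.orderOf_coe]; exact hx⟩
    have hXpne : Xp.Nonempty := ⟨u₀, by simp [hXp, hu₀F, hu₀]⟩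
    have hXp'ne : Xp'.Nonempty := ⟨v₀, by simp [hXp', hv₀F, hv₀]⟩
    have h1 := hA Xp (hXq p hp).1 (hXq p hp).2 hXpne
    have h2 := hA Xp' (hXq p' hp').1 (hXq p' hp').2 hXp'ne
    have hdisj : Disjoint Xp Xp' := by
      rw [Finset.disjoint_left]
      intro u hu hu'
      simp only [hXp, hXp', Finset.mem_filter, Finset.mem_univ, true_and] at hu hu'
      exact hne (hu.2.symm.trans hu'.2)
    have hsub : Xp ∪ Xp' ⊆ FF.erase 1 := by
      intro u hu
      rw [Finset.mem_union] at hu
      rw [Finset.mem_erase, hmemFF]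
      rcases hu with hu | hu
      · exact ⟨((hXq p hp).1 u hu).2, ((hXq p hp).1 u hu).1⟩
      · exact ⟨((hXq p' hp').1 u hu).2, ((hXq p' hp').1 u hu).1⟩
    have hcard := Finset.card_le_card hsub
    have h1F : (1 : G) ∈ FF := (hmemFF 1).mpr F.one_mem
    rw [Finset.card_union_of_disjoint hdisj, Finset.card_erase_of_mem h1F, hFFcard] at hcard
    have hXp'd : Xp'.card = d := by omega
    have hn2d : n - 1 = 2 * d := by omega
    have hall : Xp ∪ Xp' = FF.erase 1 := by
      apply Finset.eq_of_subset_of_card_le hsub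
      rw [Finset.card_union_of_disjoint hdisj, Finset.card_erase_of_mem h1F, hFFcard]
      omega
    have hor : ∀ u ∈ F, u ≠ 1 → orderOf u = p ∨ orderOf u = p' := by
      intro u hu hu1
      have : u ∈ Xp ∪ Xp' := by
        rw [hall, Finset.mem_erase, hmemFF]; exact ⟨hu1, hu⟩
      rw [Finset.mem_union] at this
      simp only [hXp, hXp', Finset.mem_filter, Finset.mem_univ, true_and] at this
      rcases this with h | h
      · exact Or.inl h.2
      · exact Or.inr h.2
    -- conjugation by u₀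
    set σ : Equiv.Perm G := MulAut.toPerm G (MulAut.conj u₀) with hσdef
    have hσapp : ∀ x : G, σ x = u₀ * x * u₀⁻¹ := by
      intro x
      rw [hσdef]
      rfl
    have hσp : σ ^ p = 1 := by
      rw [hσdef, ← map_pow, ← map_pow, ← hu₀, pow_orderOf_eq_one, map_one, map_one]
    have hmod := card_modEq_card_fixed σ p hσp Xp' (by
      intro x hx
      rw [hσapp]
      simp only [hXp', Finset.mem_filter, Finset.mem_univ, true_and] at hx ⊢
      exact ⟨F.mul_mem (F.mul_mem hu₀F hx.1) (F.inv_mem hu₀F), by rw [hord]; exact hx.2⟩)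
    have hfixempty : Xp'.filter (fun x => σ x = x) = ∅ := by
      rw [Finset.filter_eq_empty_iff]
      intro v hv hfix
      simp only [hXp', Finset.mem_filter, Finset.mem_univ, true_and] at hv
      rw [hσapp] at hfix
      have hcm : Commute u₀ v := by
        have := congrArg (fun x => x * u₀) hfix
        have h' : u₀ * v = v * u₀ := by simpa using this
        exact h'
      have hcop : (orderOf u₀).Coprime (orderOf v) := by
        rw [hu₀, hv.2]
        exact (Nat.coprime_primes hp hp').mpr hne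
      have ho := hcm.orderOf_mul_eq_mul_orderOf_of_coprime hcop
      rw [hu₀, hv.2] at ho
      have huv1 : u₀ * v ≠ 1 := by
        intro h1
        rw [h1, orderOf_one] at ho
        have := Nat.mul_le_mul hp.two_le hp'.two_le
        omega
      rcases hor (u₀ * v) (F.mul_mem hu₀F hv.1) huv1 with h | h
      · rw [h] at ho
        have : p * 1 = p * p' := by rw [mul_one]; exact ho
        have := Nat.eq_of_mul_eq_mul_left hp.pos this
        exact hp'.one_lt.ne this
      · rw [h] at ho
        have : 1 * p' = p * p' := by rw [one_mul]; exact ho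
        have := Nat.eq_of_mul_eq_mul_right hp'.pos this
        exact hp.one_lt.ne this
    rw [hfixempty, Finset.card_empty, hXp'd] at hmod
    have hpd : p ∣ d := (Nat.modEq_zero_iff_dvd).mp hmod
    have hp2d : p ∣ n - 1 := by rw [hn2d]; exact Dvd.dvd.mul_left hpd 2
    have hp1 : p ∣ n - (n - 1) := Nat.dvd_sub hpn hp2d
    have : n - (n - 1) = 1 := by omega
    rw [this] at hp1
    exact hp.one_lt.ne' (Nat.dvd_one.mp hp1)
  obtain ⟨p, hp, hpn⟩ := Nat.exists_prime_and_dvd (show n ≠ 1 by omega)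
  have hnpow : n = p ^ n.primeFactorsList.length :=
    Nat.eq_prime_pow_of_unique_prime_dvd (by omega) (fun {q} hq hqn => hprime q p hq hp hqn hpn)
  obtain ⟨f, hf⟩ : ∃ f : ℕ, n = p ^ f := ⟨_, hnpow⟩
  haveI : Fact p.Prime := ⟨hp⟩
  have hPG : IsPGroup p F := IsPGroup.of_card (n := f) hf
  haveI : Nontrivial F := (Finite.one_lt_card_iff_nontrivial).mp (by rw [← hn]; omega)
  have hcn := hPG.center_nontrivial
  -- the centre, as a subgroup of G
  set Z : Subgroup G := F ⊓ Subgroup.centralizer (F : Set G) with hZdef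
  have hZ1 : Z ≠ ⊥ := by
    obtain ⟨z, hz⟩ := exists_ne (1 : Subgroup.center F)
    intro hbot
    have hzmem : ((z : F) : G) ∈ Z := by
      rw [hZdef, Subgroup.mem_inf, Subgroup.mem_centralizer_iff]
      refine ⟨(z : F).2, ?_⟩
      intro u hu
      have := (Subgroup.mem_center_iff.mp z.2) ⟨u, hu⟩
      exact congrArg Subtype.val this
    rw [hbot, Subgroup.mem_bot] at hzmem
    apply hz
    apply Subtype.ext
    apply Subtype.ext
    exact hzmem
  have hZinv : ∀ h : G, h • a = a → h • b = b → ∀ s ∈ Z, h * s * h⁻¹ ∈ Z := by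
    intro h hha hhb s hs
    rw [hZdef, Subgroup.mem_inf, Subgroup.mem_centralizer_iff] at hs ⊢
    refine ⟨hHnorm h hha s hs.1, ?_⟩
    intro u hu
    have hu' : h⁻¹ * u * h ∈ F := by
      have := hHnorm h⁻¹ (by rw [inv_smul_eq_iff, hha]) u hu
      simpa using this
    have := hs.2 _ hu'
    calc u * (h * s * h⁻¹) = h * ((h⁻¹ * u * h) * s) * h⁻¹ := by group
      _ = h * (s * (h⁻¹ * u * h)) * h⁻¹ := by rw [this]
      _ = h * s * h⁻¹ * u := by group
  have hZF := hB Z inf_le_left hZ1 hZinv
  have hcomm : ∀ u ∈ F, ∀ v ∈ F, u * v = v * u := by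
    intro u hu v hv
    have : v ∈ Z := by rw [hZF]; exact hv
    rw [hZdef, Subgroup.mem_inf, Subgroup.mem_centralizer_iff] at this
    exact this.2 u hu
  -- elements of order dividing p
  let S : Subgroup G :=
    { carrier := {u | u ∈ F ∧ u ^ p = 1}
      mul_mem' := by
        rintro u v ⟨hu, hup⟩ ⟨hv, hvp⟩
        refine ⟨F.mul_mem hu hv, ?_⟩
        have hc : Commute u v := hcomm u hu v hv
        rw [hc.mul_pow, hup, hvp, one_mul]
      one_mem' := ⟨F.one_mem, one_pow _⟩
      inv_mem' := by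
        rintro u ⟨hu, hup⟩
        exact ⟨F.inv_mem hu, by rw [inv_pow, hup, inv_one]⟩ }
  have hmemS : ∀ u : G, u ∈ S ↔ u ∈ F ∧ u ^ p = 1 := fun u => Iff.rfl
  have hS1 : S ≠ ⊥ := by
    obtain ⟨x, hx⟩ := exists_prime_orderOf_dvd_card' (G := F) p hpn
    intro hbot
    have hxS : (x : G) ∈ S := by
      rw [hmemS]
      refine ⟨x.2, ?_⟩
      have := pow_orderOf_eq_one x
      rw [hx] at this
      have := congrArg Subtype.val this
      simpa using this
    rw [hbot, Subgroup.mem_bot] at hxS
    have : x = 1 := Subtype.ext hxS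
    rw [this, orderOf_one] at hx
    exact hp.one_lt.ne hx
  have hSinv : ∀ h : G, h • a = a → h • b = b → ∀ s ∈ S, h * s * h⁻¹ ∈ S := by
    intro h hha hhb s hs
    rw [hmemS] at hs ⊢
    exact ⟨hHnorm h hha s hs.1, by rw [conj_pow, hs.2]; group⟩
  have hSF := hB S (fun u hu => ((hmemS u).mp hu).1) hS1 hSinv
  refine ⟨⟨⟨fun x y => Subtype.ext (hcomm x x.2 y y.2)⟩⟩, p, f, hp, ?_, ?_⟩
  · intro u hu
    have : u ∈ S := by rw [hSF]; exact hu
    exact ((hmemS u).mp this).2
  · rw [← hnΩ, hf]

end Cfsg.Agent.S0738
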