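import Mathlib
import Cfsg.Statements.S0741
import Cfsg.Agent.S0740

set_option autoImplicit false
open Cfsg

namespace Cfsg.Agent.S0741

open MulAction

theorem result {G Ω : Type*} [Group G] [Finite G] [MulAction G Ω] [Fintype Ω] (hZ : Cfsg.IsZassenhausGroup G Ω) {a b : Ω} (hab : a ≠ b) (heven : Even (Nat.card ↥(MulAction.stabilizer G a ⊓ MulAction.stabilizer G b))) : Fintype.card Ω - 2 ≤ 2 * Nat.card ↥(MulAction.stabilizer G a ⊓ MulAction.stabilizer G b) := by
  classical
  obtain ⟨hfaith, h2t, h3, _, _⟩ := hZ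
  have h2 : ∀ {a b c d : Ω}, a ≠ b → c ≠ d → ∃ g : G, g • a = c ∧ g • b = d :=
    fun {a b c d} hab hcd => MulAction.is_two_pretransitive_iff.mp h2t hab hcd
  haveI : Fintype G := Fintype.ofFinite G
  have : Fact (Nat.Prime 2) := ⟨Nat.prime_two⟩
  -- involution u in H
  obtain ⟨u0, hu1, hu2, huab⟩ : ∃ u0 : G, u0 ≠ 1 ∧ u0 * u0 = 1 ∧ (u0 • a = a ∧ u0 • b = b) := by
    obtain ⟨u, hu⟩ := exists_prime_orderOf_dvd_card' 2 heven.two_dvd
    have hu' : orderOf u.1 = 2 := by rw [Subgroup.orderOf_coe]; exact hu
    obtain ⟨hu1, hu2⟩ := (Cfsg.Agent.S0740.orderOf_two_iff u.1).mp hu'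
    have huab : u.1 • a = a ∧ u.1 • b = b := by
      have := u.2
      rw [Subgroup.mem_inf, mem_stabilizer_iff, mem_stabilizer_iff] at this
      exact this
    exact ⟨u.1, hu1, hu2, huab⟩
  set H : Subgroup G := stabilizer G a ⊓ stabilizer G b with hH
  set d := Nat.card H with hd
  set N := Fintype.card Ω with hN
  let I : Finset G := Finset.univ.filter (fun z => z * z = 1 ∧ z ≠ 1)
  let HF : Finset G := Finset.univ.filter (fun z => z ∈ H)
  have hHF : HF.card = d := by
    rw [hd, Nat.card_eq_fintype_card, Fintype.card_subtype]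
  have hmemH : ∀ z : G, z ∈ H ↔ z • a = a ∧ z • b = b := by
    intro z
    rw [hH, Subgroup.mem_inf, mem_stabilizer_iff, mem_stabilizer_iff]
  -- fiber bound
  have hfiber : ∀ x y : Ω, x ≠ y → (I.filter (fun z => z • x = y)).card ≤ d := by
    intro x y hxy
    rcases (I.filter (fun z => z • x = y)).eq_empty_or_nonempty with he | ⟨z₀, hz₀⟩
    · rw [he]; simp
    · obtain ⟨g, hga, hgb⟩ := h2 hab hxy
      rw [← hHF]
      simp only [I, Finset.mem_filter, Finset.mem_univ, true_and] at hz₀
      obtain ⟨⟨hz₀2, _⟩, hz₀x⟩ := hz₀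
      have hz₀y : z₀ • y = x := by rw [← hz₀x, ← mul_smul, hz₀2, one_smul]
      apply Finset.card_le_card_of_injOn (fun z => g⁻¹ * z₀⁻¹ * z * g)
      · intro z hz
        simp only [I, Finset.coe_filter, Finset.mem_filter, Finset.mem_univ, true_and,
          Set.mem_ofPred_eq] at hz
        obtain ⟨⟨hz2, _⟩, hzx⟩ := hz
        have hzy : z • y = x := by rw [← hzx, ← mul_smul, hz2, one_smul]
        simp only [HF, Finset.coe_filter, Finset.mem_univ, true_and, Set.mem_ofPred_eq]
        rw [hmemH]
        constructor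
        · rw [mul_smul, mul_smul, mul_smul, hga, hzx, inv_smul_eq_iff.mpr hz₀x.symm,
            inv_smul_eq_iff.mpr hga.symm]
        · rw [mul_smul, mul_smul, mul_smul, hgb, hzy, inv_smul_eq_iff.mpr hz₀y.symm,
            inv_smul_eq_iff.mpr hgb.symm]
      · intro z1 _ z2 _ h
        simpa using h
  -- (A): N*N - N ≤ 2 * |I|
  have hA : ((Finset.univ : Finset Ω).offDiag).card * 1 ≤ I.card * 2 := by
    apply Finset.card_mul_le_card_mul
      (fun (p : Ω × Ω) (z : G) => z • p.1 = p.1 ∧ z • p.2 = p.2)
    · intro p hp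
      rw [Finset.mem_offDiag] at hp
      obtain ⟨_, _, hp12⟩ := hp
      obtain ⟨g, hga, hgb⟩ := h2 hab hp12
      rw [Nat.succ_le_iff, Finset.card_pos]
      refine ⟨g * u0 * g⁻¹, ?_⟩
      simp only [Finset.bipartiteAbove, I, Finset.mem_filter, Finset.mem_univ, true_and]
      refine ⟨⟨?_, ?_⟩, ?_, ?_⟩
      · have : g * u0 * g⁻¹ * (g * u0 * g⁻¹) = g * (u0 * u0) * g⁻¹ := by
          group
        rw [this, hu2]; group
      · intro h1
        apply hu1
        have : u0 = g⁻¹ * (g * u0 * g⁻¹) * g := by group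
        rw [this, h1]; group
      · rw [mul_smul, mul_smul, inv_smul_eq_iff.mpr hga.symm, huab.1, hga]
      · rw [mul_smul, mul_smul, inv_smul_eq_iff.mpr hgb.symm, huab.2, hgb]
    · intro z hz
      simp only [I, Finset.mem_filter, Finset.mem_univ, true_and] at hz
      have hle := Cfsg.Agent.S0740.card_fix_le_two h3 z hz.2
      set F := (Finset.univ.filter (fun x : Ω => z • x = x)) with hF
      have hsub : Finset.bipartiteBelow
          (fun (p : Ω × Ω) (z : G) => z • p.1 = p.1 ∧ z • p.2 = p.2)
          ((Finset.univ : Finset Ω).offDiag) z ⊆ F.offDiag := by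
        intro p hp
        simp only [Finset.bipartiteBelow, Finset.mem_filter, Finset.mem_offDiag,
          Finset.mem_univ, true_and] at hp
        rw [Finset.mem_offDiag]
        simp only [hF, Finset.mem_filter, Finset.mem_univ, true_and]
        exact ⟨hp.2.1, hp.2.2, hp.1⟩
      have h1 := Finset.card_le_card hsub
      rw [Finset.offDiag_card] at h1
      have h2' : F.card * F.card - F.card ≤ 2 := by
        have : F.card = 0 ∨ F.card = 1 ∨ F.card = 2 := by omega
        rcases this with h | h | h <;> simp [h]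
      omega
  -- (B): |I| * (N-2) ≤ N * ((N-1) * d)
  have hB : I.card * (N - 2) ≤ (Finset.univ : Finset Ω).card * (d * (N - 1)) := by
    apply Finset.card_mul_le_card_mul (fun (z : G) (x : Ω) => z • x ≠ x)
    · intro z hz
      simp only [I, Finset.mem_filter, Finset.mem_univ, true_and] at hz
      have hle := Cfsg.Agent.S0740.card_fix_le_two h3 z hz.2
      have hsum := Finset.card_filter_add_card_filter_not (s := (Finset.univ : Finset Ω))
        (fun x : Ω => z • x = x)
      rw [Finset.card_univ] at hsum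
      simp only [Finset.bipartiteAbove, ne_eq]
      omega
    · intro x _
      simp only [Finset.bipartiteBelow]
      set S := I.filter (fun z => z • x ≠ x) with hS
      have h1 := Finset.card_le_mul_card_image (f := fun z : G => z • x) S d (by
        intro y hy
        rw [Finset.mem_image] at hy
        obtain ⟨z, hz, hzy⟩ := hy
        rw [hS, Finset.mem_filter] at hz
        have hxy : x ≠ y := by rw [← hzy]; exact Ne.symm hz.2
        refine le_trans (Finset.card_le_card ?_) (hfiber x y hxy)
        intro w hw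
        rw [Finset.mem_filter, hS, Finset.mem_filter] at hw
        rw [Finset.mem_filter]
        exact ⟨hw.1.1, hw.2⟩)
      have h2' : (S.image (fun z : G => z • x)).card ≤ N - 1 := by
        have hsub : S.image (fun z : G => z • x) ⊆ (Finset.univ : Finset Ω).erase x := by
          intro y hy
          rw [Finset.mem_image] at hy
          obtain ⟨z, hz, hzy⟩ := hy
          rw [hS, Finset.mem_filter] at hz
          rw [Finset.mem_erase]
          exact ⟨by rw [← hzy]; exact hz.2, Finset.mem_univ _⟩
        have := Finset.card_le_card hsub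
        rw [Finset.card_erase_of_mem (Finset.mem_univ _), Finset.card_univ] at this
        exact this
      calc S.card ≤ d * (S.image (fun z : G => z • x)).card := h1
        _ ≤ d * (N - 1) := Nat.mul_le_mul_left _ h2'
  rw [Finset.offDiag_card, Finset.card_univ] at hA
  rw [Finset.card_univ, ← hN] at hB
  have hN2 : 2 ≤ N := by
    have := Fintype.one_lt_card_iff.mpr ⟨a, b, hab⟩
    omega
  obtain ⟨k, hk⟩ : ∃ k, N = k + 2 := ⟨N - 2, by omega⟩
  rw [← hN] at hA
  rw [hk] at hA hB ⊢
  have e1 : k + 2 - 2 = k := by omega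
  have e2 : k + 2 - 1 = k + 1 := by omega
  have e3 : (k + 2) * (k + 2) - (k + 2) = (k + 2) * (k + 1) := by
    have : (k + 2) * (k + 2) = (k + 2) * (k + 1) + (k + 2) := by ring
    omega
  rw [e1, e2] at hB
  rw [e3] at hA
  rw [e1]
  have h5 : (k + 2) * (k + 1) * k ≤ (k + 2) * (k + 1) * (2 * d) := by
    calc (k + 2) * (k + 1) * k = ((k + 2) * (k + 1) * 1) * k := by ring
      _ ≤ (I.card * 2) * k := Nat.mul_le_mul_right _ hA
      _ = 2 * (I.card * k) := by ring
      _ ≤ 2 * ((k + 2) * (d * (k + 1))) := Nat.mul_le_mul_left _ hB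
      _ = (k + 2) * (k + 1) * (2 * d) := by ring
  exact Nat.le_of_mul_le_mul_left h5 (by positivity)

end Cfsg.Agent.S0741
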