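import Cfsg.Statements.S0743
-- import your own Cfsg.Agent.* helpers here
import Mathlib

set_option autoImplicit false
open Cfsg

namespace Cfsg.Agent.S0743

open MulAction
open scoped Pointwise

/-- counting fixed points of a `p`-group on an invariant subset -/
theorem card_subMul_modEq {P : Type*} [Group P] {α : Type*} [MulAction P α] [Finite α] {p : ℕ}
    [Fact p.Prime] (hP : IsPGroup p P) (S : SubMulAction P α) :
    Nat.card S ≡ Nat.card ↥(fixedPoints P α ∩ S.carrier) [MOD p] := by
  have h1 := hP.card_modEq_card_fixedPoints S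
  have e : fixedPoints P S ≃ ↥(fixedPoints P α ∩ S.carrier) :=
    { toFun := fun x => ⟨x.1.1, ⟨fun g => congrArg Subtype.val (x.2 g), x.1.2⟩⟩
      invFun := fun y => ⟨⟨y.1, y.2.2⟩, fun g => Subtype.ext (y.2.1 g)⟩
      left_inv := fun x => rfl
      right_inv := fun y => rfl }
  rw [Nat.card_congr e] at h1
  exact h1

theorem lemmaA {α : Type*} [Fintype α] [DecidableEq α] (G : Subgroup (Equiv.Perm α)) {p : ℕ}
    (hp : p.Prime) (Δ : Finset α)
    (h : ∀ ω, ω ∉ Δ → ∃ P : Subgroup G, IsPGroup p P ∧
      fixedPoints P α = ((insert ω Δ : Finset α) : Set α))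
    (a b : α) (ha : a ∉ Δ) (hb : b ∉ Δ) : ∃ g : G, (∀ d ∈ Δ, g • d = d) ∧ g • a = b := by
  classical
  have hpF : Fact p.Prime := ⟨hp⟩
  set H : Subgroup G := fixingSubgroup G ((Δ : Finset α) : Set α) with hH
  have hHmem : ∀ g : G, g ∈ H ↔ ∀ d ∈ Δ, g • d = d := by
    intro g
    rw [hH, mem_fixingSubgroup_iff]
    simp only [Finset.mem_coe]
  by_cases hbO : b ∈ orbit H a
  · obtain ⟨g, hg⟩ := hbO
    exact ⟨g.1, (hHmem g.1).mp g.2, hg⟩
  · exfalso
    -- the orbit misses Δ
    have hOΔ : ∀ x ∈ orbit H a, x ∉ Δ := by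
      rintro x ⟨g, rfl⟩ hx
      apply ha
      have h1 : (g.1)⁻¹ • ((g : G) • a) = (g : G) • a := (hHmem _).mp (H.inv_mem g.2) _ hx
      have h2 : (g.1)⁻¹ • ((g : G) • a) = a := inv_smul_smul _ _
      rw [← h2, h1]; exact hx
    have key : ∀ ω, ω ∉ Δ → Nat.card (orbit H a) ≡
        Nat.card ↥((((insert ω Δ : Finset α) : Set α)) ∩ orbit H a) [MOD p] := by
      intro ω hω
      obtain ⟨P, hP, hfix⟩ := h ω hω
      have hPH : ∀ g : P, (g : G) ∈ H := by
        intro g
        rw [hHmem]
        intro d hd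
        have : d ∈ fixedPoints P α := by rw [hfix]; simp [hd]
        exact this g
      let S : SubMulAction P α :=
        { carrier := orbit H a
          smul_mem' := by
            rintro g x ⟨h', rfl⟩
            exact ⟨⟨(g : G), hPH g⟩ * h', by
              change (⟨(g : G), hPH g⟩ * h') • a = g • (h' • a)
              rw [mul_smul]; rfl⟩ }
      have := card_subMul_modEq hP S
      rw [hfix] at this
      exact this
    have h1 := key a ha
    have h0 := key b hb
    have e1 : (((insert a Δ : Finset α) : Set α)) ∩ orbit H a = {a} := by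
      ext x
      simp only [Finset.coe_insert, Set.mem_inter_iff, Set.mem_insert_iff, Finset.mem_coe,
        Set.mem_singleton_iff]
      constructor
      · rintro ⟨hx | hx, hxO⟩
        · exact hx
        · exact absurd hx (hOΔ x hxO)
      · intro hx
        rw [hx]
        exact ⟨Or.inl rfl, mem_orbit_self a⟩
    have e0 : (((insert b Δ : Finset α) : Set α)) ∩ orbit H a = ∅ := by
      ext x
      simp only [Finset.coe_insert, Set.mem_inter_iff, Set.mem_insert_iff, Finset.mem_coe,
        Set.mem_empty_iff_false, iff_false, not_and]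
      rintro (hx | hx) hxO
      · rw [hx] at hxO; exact hbO hxO
      · exact hOΔ x hxO hx
    rw [e1] at h1
    rw [e0] at h0
    have h11 : Nat.card ↥({a} : Set α) = 1 := by simp
    rw [h11] at h1
    have h00 : Nat.card ↥(∅ : Set α) = 0 := Nat.card_of_isEmpty
    rw [h00] at h0
    have := h1.symm.trans h0
    have hdvd : p ∣ 1 := (Nat.modEq_zero_iff_dvd.mp this)
    exact hp.one_lt.ne' (Nat.dvd_one.mp hdvd)

theorem star {α : Type*} [Fintype α] [DecidableEq α] (G : Subgroup (Equiv.Perm α)) {p k : ℕ}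
    (hp : p.Prime) (hk : 1 ≤ k) (hkn : k < Fintype.card α)
    (h : ∀ s : Finset α, s.card = k → ∃ P : Subgroup G, IsPGroup p P ∧
      MulAction.fixedPoints P α = (s : Set α))
    (Δ : Finset α) (hΔ : Δ.card + 1 ≤ k) (a b : α) (ha : a ∉ Δ) (hb : b ∉ Δ) :
    ∃ g : G, (∀ d ∈ Δ, g • d = d) ∧ g • a = b := by
  by_cases hab : a = b
  · exact ⟨1, fun d _ => one_smul _ d, by rw [one_smul, hab]⟩
  · set t : Finset α := Finset.univ \ {a, b} with ht
    have htcard : t.card = Fintype.card α - 2 := by
      rw [ht, Finset.card_sdiff_of_subset (Finset.subset_univ _), Finset.card_univ,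
        Finset.card_pair hab]
    have hΔt : Δ ⊆ t := by
      intro x hx
      rw [ht, Finset.mem_sdiff]
      refine ⟨Finset.mem_univ _, ?_⟩
      simp only [Finset.mem_insert, Finset.mem_singleton, not_or]
      exact ⟨fun e => ha (e ▸ hx), fun e => hb (e ▸ hx)⟩
    obtain ⟨Δ₁, hΔΔ₁, hΔ₁t, hΔ₁card⟩ := Finset.exists_subsuperset_card_eq hΔt
      (show Δ.card ≤ k - 1 by omega) (show k - 1 ≤ t.card by omega)
    have ha₁ : a ∉ Δ₁ := by
      intro hx
      have := hΔ₁t hx
      rw [ht, Finset.mem_sdiff] at this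
      exact this.2 (by simp)
    have hb₁ : b ∉ Δ₁ := by
      intro hx
      have := hΔ₁t hx
      rw [ht, Finset.mem_sdiff] at this
      exact this.2 (by simp)
    obtain ⟨g, hg1, hg2⟩ := lemmaA G hp Δ₁ (fun ω hω => h _ (by
      rw [Finset.card_insert_of_notMem hω, hΔ₁card]; omega)) a b ha₁ hb₁
    exact ⟨g, fun d hd => hg1 d (hΔΔ₁ hd), hg2⟩


/-- Gleason's Lemma: let `p` be a prime and `1 ≤ k < n`; if every `k`-subset of the `n` points is exactly the fixed-point set of some `p`-subgroup of `G`, then `G` is `k`-transitive. -/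
theorem result {α : Type*} [Fintype α] [DecidableEq α] (G : Subgroup (Equiv.Perm α)) {p k : ℕ} (hp : p.Prime) (hk : 1 ≤ k) (hkn : k < Fintype.card α) (h : ∀ s : Finset α, s.card = k → ∃ P : Subgroup G, IsPGroup p P ∧ MulAction.fixedPoints P α = (s : Set α)) : MulAction.IsMultiplyPretransitive G α k := by
  have main : ∀ j : ℕ, j ≤ k → ∀ x y : Fin j ↪ α, ∃ g : G, ∀ i, g • x i = y i := by
    intro j
    induction j with
    | zero => intro _ x y; exact ⟨1, fun i => i.elim0⟩
    | succ j ih =>
      intro hj x y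
      obtain ⟨g, hg⟩ := ih (by omega) (Fin.castSuccEmb.trans x) (Fin.castSuccEmb.trans y)
      have hg' : ∀ i : Fin j, g • x i.castSucc = y i.castSucc := fun i => hg i
      set Δ : Finset α := Finset.univ.image (fun i : Fin j => y i.castSucc) with hΔ
      have hΔcard : Δ.card ≤ j := by
        rw [hΔ]
        exact (Finset.card_image_le).trans (by simp)
      have ha : g • x (Fin.last j) ∉ Δ := by
        rw [hΔ, Finset.mem_image]
        rintro ⟨i, _, hi⟩
        rw [← hg' i] at hi
        have := x.injective (smul_left_cancel g hi)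
        exact (Fin.castSucc_lt_last i).ne this
      have hb : y (Fin.last j) ∉ Δ := by
        rw [hΔ, Finset.mem_image]
        rintro ⟨i, _, hi⟩
        have := y.injective hi
        exact (Fin.castSucc_lt_last i).ne this
      obtain ⟨h', hh1, hh2⟩ := star G hp hk hkn h Δ (by omega) _ _ ha hb
      refine ⟨h' * g, fun i => ?_⟩
      rw [mul_smul]
      rcases Fin.eq_castSucc_or_eq_last i with ⟨i', rfl⟩ | rfl
      · rw [hg' i']
        apply hh1
        rw [hΔ, Finset.mem_image]
        exact ⟨i', Finset.mem_univ _, rfl⟩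
      · exact hh2
  refine ⟨fun x y => ?_⟩
  obtain ⟨g, hg⟩ := main k le_rfl x y
  exact ⟨g, by ext i; exact hg i⟩

end Cfsg.Agent.S0743
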