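import Cfsg.Statements.S0744
-- import your own Cfsg.Agent.* helpers here
import Mathlib

set_option autoImplicit false
open Cfsg

namespace Cfsg.Agent.S0744

open MulAction
open scoped Pointwise

theorem dvd_card_of_orbits {K X : Type*} [Group K] [MulAction K X] [Finite X] (r : ℕ)
    (h : ∀ x : X, Nat.card (orbit K x) = r) : r ∣ Nat.card X := by
  classical
  have : Fintype (orbitRel.Quotient K X) := Fintype.ofFinite _
  have e := selfEquivSigmaOrbits K X
  rw [Nat.card_congr e, Nat.card_sigma]
  apply Finset.dvd_sum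
  intro ω _
  rw [h]

theorem card_orbit_mul_card_stab {K X : Type*} [Group K] [MulAction K X] (x : X) :
    Nat.card (orbit K x) * Nat.card (stabilizer K x) = Nat.card K := by
  rw [← Nat.card_prod, Nat.card_congr (orbitProdStabilizerEquivGroup K x)]

theorem stab_fixing {M α : Type*} [Group M] [MulAction M α] (s : Set α) (x : α) :
    stabilizer (fixingSubgroup M s) x =
      (fixingSubgroup M (insert x s)).subgroupOf (fixingSubgroup M s) := by
  ext g
  rw [mem_stabilizer_iff, Subgroup.mem_subgroupOf, mem_fixingSubgroup_iff]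
  constructor
  · intro h y hy
    rcases hy with rfl | hy
    · exact h
    · exact (mem_fixingSubgroup_iff M).mp g.2 y hy
  · intro h; exact h x (Set.mem_insert _ _)

theorem fixing_insert_le {M α : Type*} [Group M] [MulAction M α] (s : Set α) (x : α) :
    fixingSubgroup M (insert x s) ≤ fixingSubgroup M s :=
  fixingSubgroup_antitone M α (Set.subset_insert x s)

theorem orbStab {M α : Type*} [Group M] [MulAction M α] (s : Set α) (x : α) :
    Nat.card (orbit (fixingSubgroup M s) x) * Nat.card (fixingSubgroup M (insert x s)) =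
      Nat.card (fixingSubgroup M s) := by
  rw [← card_orbit_mul_card_stab (K := fixingSubgroup M s) x, stab_fixing,
    Nat.card_congr (Subgroup.subgroupOfEquivOfLe (fixing_insert_le s x)).toEquiv]

theorem lemmaB {α : Type*} [Fintype α] [DecidableEq α] (G : Subgroup (Equiv.Perm α)) (Δ : Set α)
    (l m : ℕ) (hl : 1 < l)
    (hl' : ∀ x, x ∉ Δ → Nat.card (fixingSubgroup G (insert x Δ)) = l)
    (hm' : ∀ x, x ∉ Δ → ∀ y, y ∉ Δ → x ≠ y →
      Nat.card (fixingSubgroup G (insert y (insert x Δ))) = m)
    (a b : α) (ha : a ∉ Δ) (hb : b ∉ Δ) : b ∈ orbit (fixingSubgroup G Δ) a := by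
  classical
  by_contra hbO
  set H := fixingSubgroup G Δ with hH
  set K := fixingSubgroup G (insert a Δ) with hK
  have hKH : K ≤ H := fixing_insert_le Δ a
  have hba : b ≠ a := fun h => hbO (by rw [h]; exact mem_orbit_self a)
  have hOΔ : ∀ c, c ∉ Δ → ∀ x ∈ orbit H c, x ∉ Δ := by
    rintro c hc x ⟨g, rfl⟩ hx
    apply hc
    have hg : ∀ y ∈ Δ, (g⁻¹ : H) • y = y := (mem_fixingSubgroup_iff G).mp (g⁻¹).2
    have h1 : (g⁻¹ : H) • (g • c) = g • c := hg _ hx
    rw [inv_smul_smul] at h1
    rw [h1]; exact hx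
  have haOb : a ∉ orbit H b := by
    intro h
    apply hbO
    rw [← orbit_eq_iff] at h ⊢
    exact h.symm
  have hta : Nat.card (orbit H a) * l = Nat.card H := by
    have := orbStab (M := G) Δ a
    rw [hl' a ha] at this
    exact this
  have htb : Nat.card (orbit H b) * l = Nat.card H := by
    have := orbStab (M := G) Δ b
    rw [hl' b hb] at this
    exact this
  have hl0 : 0 < l := by omega
  have htab : Nat.card (orbit H b) = Nat.card (orbit H a) :=
    Nat.eq_of_mul_eq_mul_right hl0 (htb.trans hta.symm)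
  have hcardK : Nat.card K = l := hl' a ha
  have hKy : ∀ y, y ∉ Δ → y ≠ a → Nat.card (orbit K y) * m = l := by
    intro y hy hya
    have := orbStab (M := G) (insert a Δ) y
    rw [hm' a ha y hy (Ne.symm hya), ← hK, hcardK] at this
    exact this
  have hm0 : 0 < m := by
    rw [← hm' a ha b hb (Ne.symm hba)]
    exact Nat.card_pos
  set r := Nat.card (orbit K b) with hr
  have hrm : r * m = l := hKy b hb hba
  have hKy' : ∀ y, y ∉ Δ → y ≠ a → Nat.card (orbit K y) = r := by
    intro y hy hya
    exact Nat.eq_of_mul_eq_mul_right hm0 ((hKy y hy hya).trans hrm.symm)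
  -- orbits in a sub-action have the same size
  have hsub : ∀ (S : SubMulAction K α) (z : S), Nat.card (orbit K z) = Nat.card (orbit K (z : α)) := by
    intro S z
    have h1 := card_orbit_mul_card_stab (K := K) z
    have h2 := card_orbit_mul_card_stab (K := K) (z : α)
    rw [SubMulAction.stabilizer_of_subMul] at h1
    have hpos : 0 < Nat.card (stabilizer K (z : α)) := Nat.card_pos
    exact Nat.eq_of_mul_eq_mul_right hpos (h1.trans h2.symm)
  have hKorb : ∀ c : α, ∀ (g : K) (x : α), x ∈ orbit H c → g • x ∈ orbit H c := by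
    rintro c g x ⟨h', rfl⟩
    refine ⟨⟨(g : G), hKH g.2⟩ * h', ?_⟩
    change (⟨(g : G), hKH g.2⟩ * h') • c = g • (h' • c)
    rw [mul_smul]; rfl
  have hKa : ∀ g : K, g • a = a := fun g =>
    (mem_fixingSubgroup_iff G).mp g.2 a (Set.mem_insert _ _)
  let Sb : SubMulAction K α :=
    { carrier := orbit H b
      smul_mem' := fun g x hx => hKorb b g x hx }
  let Sa : SubMulAction K α :=
    { carrier := orbit H a \ {a}
      smul_mem' := by
        rintro g x ⟨hx, hxa⟩
        refine ⟨hKorb a g x hx, ?_⟩
        intro h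
        apply hxa
        rw [Set.mem_singleton_iff] at h ⊢
        have : g • x = g • a := by rw [h, hKa]
        exact smul_left_cancel g this }
  have hdb : r ∣ Nat.card Sb := by
    apply dvd_card_of_orbits (K := K)
    intro z
    rw [hsub Sb z]
    apply hKy' _ (hOΔ b hb _ z.2)
    intro h
    apply haOb
    rw [← h]; exact z.2
  have hda : r ∣ Nat.card Sa := by
    apply dvd_card_of_orbits (K := K)
    intro z
    rw [hsub Sa z]
    apply hKy' _ (hOΔ a ha _ z.2.1)
    exact fun h => z.2.2 h
  have hcSb : Nat.card Sb = Nat.card (orbit H a) := htab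
  have hcSa : Nat.card Sa + 1 = Nat.card (orbit H a) := by
    change Nat.card ↥(orbit H a \ {a}) + 1 = Nat.card ↥(orbit H a)
    rw [Nat.card_coe_set_eq, Nat.card_coe_set_eq]
    exact Set.ncard_diff_singleton_add_one (mem_orbit_self a) (Set.toFinite _)
  have hr1 : r = 1 := by
    rw [hcSb] at hdb
    rw [← hcSa] at hdb
    have := (Nat.dvd_add_right hda).mp hdb
    exact Nat.dvd_one.mp this
  -- K is trivial
  have hKbot : K = ⊥ := by
    rw [Subgroup.eq_bot_iff_forall]
    intro g hg
    apply Subtype.ext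
    apply Equiv.ext
    intro y
    change (⟨g, hg⟩ : K) • y = y
    by_cases hy : y ∈ insert a Δ
    · exact (mem_fixingSubgroup_iff G).mp hg y hy
    · have hyΔ : y ∉ Δ := fun h => hy (Set.mem_insert_of_mem _ h)
      have hya : y ≠ a := fun h => hy (h ▸ Set.mem_insert _ _)
      have hc := hKy' y hyΔ hya
      rw [hr1] at hc
      have hsubs : Subsingleton (orbit K y) := by
        have hfin : Finite (orbit K y) := inferInstance
        exact (Finite.card_le_one_iff_subsingleton).mp hc.le
      have := @Subsingleton.elim _ hsubs (⟨(⟨g, hg⟩ : K) • y, mem_orbit y _⟩ : orbit K y)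
        ⟨y, mem_orbit_self y⟩
      exact congrArg Subtype.val this
  rw [hKbot] at hcardK
  have : Nat.card (⊥ : Subgroup G) = 1 := Subgroup.card_bot
  omega

theorem star' {α : Type*} [Fintype α] [DecidableEq α] (G : Subgroup (Equiv.Perm α)) {k : ℕ}
    (hk : 1 < k) (hkn : k ≤ Fintype.card α) (l m : ℕ) (hl : 1 < l)
    (hkm1 : ∀ s : Finset α, s.card = k - 1 → Nat.card (fixingSubgroup G (s : Set α)) = l)
    (hkm : ∀ s : Finset α, s.card = k → Nat.card (fixingSubgroup G (s : Set α)) = m)
    (Δ : Finset α) (hΔ : Δ.card + 1 ≤ k - 1) (a b : α) (ha : a ∉ Δ) (hb : b ∉ Δ) :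
    ∃ g : G, (∀ d ∈ Δ, g • d = d) ∧ g • a = b := by
  by_cases hab : a = b
  · exact ⟨1, fun d _ => one_smul _ d, by rw [one_smul, hab]⟩
  · set t : Finset α := Finset.univ \ {a, b} with ht
    have htcard : t.card = Fintype.card α - 2 := by
      rw [ht, Finset.card_sdiff_of_subset (Finset.subset_univ _), Finset.card_univ,
        Finset.card_pair hab]
    have hΔt : Δ ⊆ t := by
      intro x hx
      rw [ht, Finset.mem_sdiff]
      refine ⟨Finset.mem_univ _, ?_⟩
      simp only [Finset.mem_insert, Finset.mem_singleton, not_or]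
      exact ⟨fun e => ha (e ▸ hx), fun e => hb (e ▸ hx)⟩
    obtain ⟨Δ₁, hΔΔ₁, hΔ₁t, hΔ₁card⟩ := Finset.exists_subsuperset_card_eq hΔt
      (show Δ.card ≤ k - 2 by omega) (show k - 2 ≤ t.card by omega)
    have ha₁ : a ∉ Δ₁ := by
      intro hx
      have := hΔ₁t hx
      rw [ht, Finset.mem_sdiff] at this
      exact this.2 (by simp)
    have hb₁ : b ∉ Δ₁ := by
      intro hx
      have := hΔ₁t hx
      rw [ht, Finset.mem_sdiff] at this
      exact this.2 (by simp)
    have hB := lemmaB G (Δ₁ : Set α) l m hl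
      (fun x hx => by
        have hx' : x ∉ Δ₁ := fun h => hx (Finset.mem_coe.mpr h)
        rw [← Finset.coe_insert]
        apply hkm1
        rw [Finset.card_insert_of_notMem hx', hΔ₁card]; omega)
      (fun x hx y hy hxy => by
        have hx' : x ∉ Δ₁ := fun h => hx (Finset.mem_coe.mpr h)
        have hy' : y ∉ Δ₁ := fun h => hy (Finset.mem_coe.mpr h)
        rw [← Finset.coe_insert, ← Finset.coe_insert]
        apply hkm
        rw [Finset.card_insert_of_notMem, Finset.card_insert_of_notMem hx', hΔ₁card]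
        · omega
        · rw [Finset.mem_insert, not_or]
          exact ⟨Ne.symm hxy, hy'⟩)
      a b (fun h => ha₁ (Finset.mem_coe.mp h)) (fun h => hb₁ (Finset.mem_coe.mp h))
    obtain ⟨g, hg⟩ := hB
    refine ⟨g.1, fun d hd => ?_, hg⟩
    exact (mem_fixingSubgroup_iff G).mp g.2 d (Finset.mem_coe.mpr (hΔΔ₁ hd))

theorem mtrans_of_star {α : Type*} [Fintype α] [DecidableEq α] (G : Subgroup (Equiv.Perm α)) (n : ℕ)
    (hstar : ∀ Δ : Finset α, Δ.card + 1 ≤ n → ∀ a b : α, a ∉ Δ → b ∉ Δ →
      ∃ g : G, (∀ d ∈ Δ, g • d = d) ∧ g • a = b) :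
    MulAction.IsMultiplyPretransitive G α n := by
  have main : ∀ j : ℕ, j ≤ n → ∀ x y : Fin j ↪ α, ∃ g : G, ∀ i, g • x i = y i := by
    intro j
    induction j with
    | zero => intro _ x y; exact ⟨1, fun i => i.elim0⟩
    | succ j ih =>
      intro hj x y
      obtain ⟨g, hg⟩ := ih (by omega) (Fin.castSuccEmb.trans x) (Fin.castSuccEmb.trans y)
      have hg' : ∀ i : Fin j, g • x i.castSucc = y i.castSucc := fun i => hg i
      set Δ : Finset α := Finset.univ.image (fun i : Fin j => y i.castSucc) with hΔ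
      have hΔcard : Δ.card ≤ j := by
        rw [hΔ]
        exact (Finset.card_image_le).trans (by simp)
      have ha : g • x (Fin.last j) ∉ Δ := by
        rw [hΔ, Finset.mem_image]
        rintro ⟨i, _, hi⟩
        rw [← hg' i] at hi
        have := x.injective (smul_left_cancel g hi)
        exact (Fin.castSucc_lt_last i).ne this
      have hb : y (Fin.last j) ∉ Δ := by
        rw [hΔ, Finset.mem_image]
        rintro ⟨i, _, hi⟩
        have := y.injective hi
        exact (Fin.castSucc_lt_last i).ne this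
      obtain ⟨h', hh1, hh2⟩ := hstar Δ (by omega) _ _ ha hb
      refine ⟨h' * g, fun i => ?_⟩
      rw [mul_smul]
      rcases Fin.eq_castSucc_or_eq_last i with ⟨i', rfl⟩ | rfl
      · rw [hg' i']
        apply hh1
        rw [hΔ, Finset.mem_image]
        exact ⟨i', Finset.mem_univ _, rfl⟩
      · exact hh2
  refine ⟨fun x y => ?_⟩
  obtain ⟨g, hg⟩ := main n le_rfl x y
  exact ⟨g, by ext i; exact hg i⟩


/-- If for some `k > 1` the pointwise stabilisers of all `(k-1)`-subsets have the same order `> 1` and those of all `k`-subsets have the same order, then the group is `(k-1)`-transitive. -/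
theorem result {α : Type*} [Fintype α] [DecidableEq α] (G : Subgroup (Equiv.Perm α)) {k : ℕ} (hk : 1 < k) (hkn : k ≤ Fintype.card α) (l m : ℕ) (hl : 1 < l) (hkm1 : ∀ s : Finset α, s.card = k - 1 → Nat.card (fixingSubgroup G (s : Set α)) = l) (hkm : ∀ s : Finset α, s.card = k → Nat.card (fixingSubgroup G (s : Set α)) = m) : MulAction.IsMultiplyPretransitive G α (k - 1) := by
  exact mtrans_of_star G (k - 1) (fun Δ hΔ a b ha hb => star' G hk hkn l m hl hkm1 hkm Δ hΔ a b ha hb)

end Cfsg.Agent.S0744
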