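import Cfsg.Statements.S0754
-- import your own Cfsg.Agent.* helpers here
import Mathlib

set_option autoImplicit false
open Cfsg

namespace Cfsg.Agent.S0754

open Finset in
theorem card_pow_eq_le {F : Type*} [Field F] [Fintype F] [DecidableEq F] (n : ℕ) (hn : 0 < n) (c : F) :
    (univ.filter (fun x : F => x ^ n = c)).card ≤ n := by
  have hsub : univ.filter (fun x : F => x ^ n = c) ⊆ (Polynomial.nthRoots n c).toFinset := by
    intro x hx
    rw [mem_filter] at hx
    rw [Multiset.mem_toFinset, Polynomial.mem_nthRoots hn]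
    exact hx.2
  calc (univ.filter (fun x : F => x ^ n = c)).card ≤ (Polynomial.nthRoots n c).toFinset.card := card_le_card hsub
    _ ≤ Multiset.card (Polynomial.nthRoots n c) := Multiset.toFinset_card_le _
    _ ≤ n := Polynomial.card_nthRoots n c

open Finset in

/-- In a field F with q^2 elements, every non-zero μ with μ^q = μ (that is, μ in the subfield of order q) has exactly q + 1 solutions λ of λ^(q+1) = μ. -/
theorem result {F : Type*} [Field F] [Fintype F] {q : ℕ} (hF : Fintype.card F = q ^ 2) (μ : F) (hμ : μ ≠ 0) (hμq : μ ^ q = μ) : Nat.card {x : F // x ^ (q + 1) = μ} = q + 1 := by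
  classical
  have hq : 2 ≤ q := by
    have h1 : 1 < Fintype.card F := Fintype.one_lt_card
    rw [hF] at h1
    by_contra hcon
    have : q = 0 ∨ q = 1 := by omega
    rcases this with rfl | rfl <;> simp at h1
  set n : F → ℕ := fun c => (univ.filter (fun x : F => x ^ (q + 1) = c)).card with hn
  have hn_le : ∀ c, n c ≤ q + 1 := fun c => card_pow_eq_le (q + 1) (Nat.succ_pos q) c
  set S : Finset F := univ.filter (fun y : F => y ^ (q - 1) = 1) with hS
  have hS_le : S.card ≤ q - 1 := card_pow_eq_le (q - 1) (by omega) 1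
  set U : Finset F := univ.filter (fun x : F => x ≠ 0) with hU
  have hUcard : U.card = q ^ 2 - 1 := by
    rw [hU, Finset.filter_ne', Finset.card_erase_of_mem (mem_univ _), Finset.card_univ, hF]
  have hmaps : ∀ x ∈ U, x ^ (q + 1) ∈ S := by
    intro x hx
    rw [hU, mem_filter] at hx
    rw [hS, mem_filter]
    refine ⟨mem_univ _, ?_⟩
    rw [← pow_mul]
    have : (q + 1) * (q - 1) = Fintype.card F - 1 := by
      rw [hF]
      have : q ^ 2 = (q + 1) * (q - 1) + 1 := by
        obtain ⟨k, rfl⟩ : ∃ k, q = k + 1 := ⟨q - 1, by omega⟩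
        simp only [Nat.add_sub_cancel]; ring
      omega
    rw [this]
    exact FiniteField.pow_card_sub_one_eq_one x hx.2
  have hfib := Finset.card_eq_sum_card_fiberwise hmaps
  have hfib_eq : ∀ c ∈ S, (U.filter (fun x => x ^ (q + 1) = c)).card = n c := by
    intro c hc
    rw [hS, mem_filter] at hc
    have hc0 : c ≠ 0 := by
      rintro rfl
      have := hc.2
      rw [zero_pow (by omega)] at this
      exact zero_ne_one this
    rw [hn]
    congr 1
    ext x
    simp only [hU, mem_filter, mem_univ, true_and]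
    constructor
    · exact fun h => h.2
    · intro h
      refine ⟨?_, h⟩
      rintro rfl
      rw [zero_pow (Nat.succ_ne_zero q)] at h
      exact hc0 h.symm
  rw [Finset.sum_congr rfl hfib_eq] at hfib
  have hμS : μ ∈ S := by
    rw [hS, mem_filter]
    refine ⟨mem_univ _, ?_⟩
    have h1 : μ * μ ^ (q - 1) = μ * 1 := by
      rw [← pow_succ', mul_one]
      have : q - 1 + 1 = q := by omega
      rw [this, hμq]
    exact mul_left_cancel₀ hμ h1
  have hnμ : n μ = q + 1 := by
    by_contra hne
    have hlt : n μ < q + 1 := lt_of_le_of_ne (hn_le μ) hne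
    have hsum : ∑ c ∈ S, n c < ∑ _c ∈ S, (q + 1) :=
      Finset.sum_lt_sum (fun c _ => hn_le c) ⟨μ, hμS, hlt⟩
    rw [Finset.sum_const, smul_eq_mul] at hsum
    have h2 : S.card * (q + 1) ≤ (q - 1) * (q + 1) := Nat.mul_le_mul_right _ hS_le
    have h3 : (q - 1) * (q + 1) = q ^ 2 - 1 := by
      obtain ⟨k, rfl⟩ : ∃ k, q = k + 1 := ⟨q - 1, by omega⟩
      simp only [Nat.add_sub_cancel]
      have : (k + 1) ^ 2 = k * (k + 1 + 1) + 1 := by ring
      omega
    have h4 : U.card < U.card := by
      calc U.card = ∑ c ∈ S, n c := hfib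
        _ < S.card * (q + 1) := hsum
        _ ≤ (q - 1) * (q + 1) := h2
        _ = q ^ 2 - 1 := h3
        _ = U.card := hUcard.symm
    exact lt_irrefl _ h4
  rw [Nat.card_eq_fintype_card, Fintype.card_subtype]
  exact hnμ

end Cfsg.Agent.S0754
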