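import Cfsg.Statements.S0756
-- import your own Cfsg.Agent.* helpers here
import Mathlib

set_option autoImplicit false
open Cfsg

namespace Cfsg.Agent.S0756

open LinearMap LinearMap.BilinForm Module

universe u v

section
variable {F : Type v} [Field F] [Finite F]

/-- a binary diagonal form over a finite field of odd characteristic represents 1 -/
theorem exists_repr_one (h2 : (2 : F) ≠ 0) (d₀ d₁ : F) (hd₀ : d₀ ≠ 0) (hd₁ : d₁ ≠ 0) :
    ∃ x y : F, d₀ * x ^ 2 + d₁ * y ^ 2 = 1 := by
  classical
  have hfin : Fintype F := Fintype.ofFinite F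
  have hchar : ringChar F ≠ 2 := by
    intro h
    have : CharP F 2 := ringChar.of_eq h
    exact h2 (CharTwo.two_eq_zero)
  have hodd := FiniteField.odd_card_of_char_ne_two hchar
  have hf : (Polynomial.C d₀ * Polynomial.X ^ 2 : Polynomial F).degree = 2 := by
    rw [Polynomial.degree_C_mul_X_pow 2 hd₀]; rfl
  have hg : (Polynomial.C d₁ * Polynomial.X ^ 2 - Polynomial.C 1 : Polynomial F).degree = 2 := by
    rw [Polynomial.degree_sub_C]
    · rw [Polynomial.degree_C_mul_X_pow 2 hd₁]; rfl
    · rw [Polynomial.degree_C_mul_X_pow 2 hd₁]; exact by norm_num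
  obtain ⟨a, b, hab⟩ := FiniteField.exists_root_sum_quadratic hf hg hodd
  refine ⟨a, b, ?_⟩
  simp only [Polynomial.eval_mul, Polynomial.eval_C, Polynomial.eval_pow, Polynomial.eval_X,
    Polynomial.eval_sub] at hab
  linear_combination hab

theorem exists_unit_vec (h2 : (2 : F) ≠ 0) {V : Type u} [AddCommGroup V] [Module F V]
    [FiniteDimensional F V] (B : LinearMap.BilinForm F V) (hS : B.IsSymm) (hB : B.Nondegenerate)
    (hdim : 2 ≤ Module.finrank F V) : ∃ v : V, B v v = 1 := by
  have : Invertible (2 : F) := invertibleOfNonzero h2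
  obtain ⟨b, hb⟩ := LinearMap.BilinForm.exists_orthogonal_basis (LinearMap.BilinForm.isSymm_iff.mp hS)
  have hne := fun i => LinearMap.BilinForm.iIsOrtho.not_isOrtho_basis_self_of_nondegenerate hb hB i
  let i₀ : Fin (Module.finrank F V) := ⟨0, by omega⟩
  let i₁ : Fin (Module.finrank F V) := ⟨1, by omega⟩
  have h01 : i₀ ≠ i₁ := by
    intro h; have := congrArg Fin.val h; simp [i₀, i₁] at this
  have hd₀ : B (b i₀) (b i₀) ≠ 0 := hne i₀
  have hd₁ : B (b i₁) (b i₁) ≠ 0 := hne i₁
  have h01' : B (b i₀) (b i₁) = 0 := hb h01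
  have h10' : B (b i₁) (b i₀) = 0 := hb (Ne.symm h01)
  obtain ⟨x, y, hxy⟩ := exists_repr_one h2 _ _ hd₀ hd₁
  refine ⟨x • b i₀ + y • b i₁, ?_⟩
  simp only [map_add, map_smul, LinearMap.add_apply, LinearMap.smul_apply, smul_eq_mul, h01', h10',
    mul_zero, add_zero, zero_add]
  linear_combination hxy

theorem nonsq_mul_nonsq (h2 : (2 : F) ≠ 0) {a b : F} (ha : ¬ IsSquare a) (hb : ¬ IsSquare b) :
    IsSquare (a * b) := by
  classical
  have hfin : Fintype F := Fintype.ofFinite F
  have ha0 : a ≠ 0 := fun h => ha (h ▸ IsSquare.zero)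
  have hb0 : b ≠ 0 := fun h => hb (h ▸ IsSquare.zero)
  rw [← quadraticChar_neg_one_iff_not_isSquare] at ha hb
  rw [← quadraticChar_one_iff_isSquare (mul_ne_zero ha0 hb0), map_mul, ha, hb]
  norm_num

theorem fam (h2 : (2 : F) ≠ 0) (α : F) (hα : ¬ IsSquare α) : ∀ (n : ℕ) (V : Type u) [AddCommGroup V] [Module F V]
    [FiniteDimensional F V] (B : LinearMap.BilinForm F V), B.IsSymm → B.Nondegenerate →
    Module.finrank F V = n + 1 →
    ∃ b : Fin (n + 1) → V, (∀ i j, i ≠ j → B (b i) (b j) = 0) ∧
      (∀ i, i ≠ Fin.last n → B (b i) (b i) = 1) ∧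
      (B (b (Fin.last n)) (b (Fin.last n)) = 1 ∨ B (b (Fin.last n)) (b (Fin.last n)) = α) := by
  intro n
  induction n with
  | zero =>
    intro V _ _ _ B hS hB hdim
    have hnt : Nontrivial V := Module.nontrivial_of_finrank_pos (R := F) (by omega)
    obtain ⟨v₀, hv₀⟩ := exists_ne (0 : V)
    have hspan : ∀ w : V, ∃ c : F, c • v₀ = w := by
      have := (finrank_eq_one_iff_of_nonzero' v₀ hv₀).mp (by omega)
      exact this
    have hd : B v₀ v₀ ≠ 0 := by
      intro h0
      apply hv₀
      apply hB.1
      intro w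
      obtain ⟨c, rfl⟩ := hspan w
      rw [map_smul, smul_eq_mul, h0, mul_zero]
    have key : ∃ v : V, B v v = 1 ∨ B v v = α := by
      by_cases hsq : IsSquare (B v₀ v₀)
      · obtain ⟨r, hr⟩ := hsq
        have hr0 : r ≠ 0 := fun h => hd (by rw [hr, h, mul_zero])
        refine ⟨r⁻¹ • v₀, Or.inl ?_⟩
        simp only [map_smul, LinearMap.smul_apply, smul_eq_mul]
        rw [hr]
        field_simp
      · have hα0 : α ≠ 0 := fun h => hα (h ▸ IsSquare.zero)
        obtain ⟨s, hs⟩ := nonsq_mul_nonsq h2 hsq hα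
        have hs0 : s ≠ 0 := by
          intro h
          rw [h, mul_zero] at hs
          exact (mul_ne_zero hd hα0) hs
        refine ⟨(α * s⁻¹) • v₀, Or.inr ?_⟩
        simp only [map_smul, LinearMap.smul_apply, smul_eq_mul]
        have : B v₀ v₀ = s * s / α := by
          field_simp
          rw [hs]; ring
        rw [this]
        field_simp
    obtain ⟨v, hv⟩ := key
    refine ⟨fun _ => v, ?_, ?_, hv⟩
    · intro i j hij
      exact absurd (Fin.ext (by have := i.2; have := j.2; omega)) hij
    · intro i hi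
      exact absurd (Fin.ext (by have := i.2; simp [Fin.last])) hi
  | succ n ih =>
    intro V _ _ _ B hS hB hdim
    obtain ⟨v, hv⟩ := exists_unit_vec h2 B hS hB (by omega)
    have hv0 : B v v ≠ 0 := by rw [hv]; exact one_ne_zero
    set W := B.orthogonal (F ∙ v) with hW
    have hWnd := restrict_nondegenerate_orthogonal_spanSingleton B hB hS.isRefl hv0
    have hWsymm : (B.restrict W).IsSymm := hS.restrict W
    have hcompl := LinearMap.BilinForm.isCompl_span_singleton_orthogonal hv0
    have hWdim : Module.finrank F W = n + 1 := by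
      have h1 := Submodule.finrank_add_eq_of_isCompl hcompl
      have h2' : Module.finrank F (F ∙ v) = 1 :=
        finrank_span_singleton (ne_zero_of_not_isOrtho_self v hv0)
      rw [h2', hdim] at h1
      change 1 + Module.finrank F W = n + 1 + 1 at h1
      omega
    obtain ⟨b', hb1, hb2, hb3⟩ := ih W (B.restrict W) hWsymm hWnd hWdim
    have hvW : ∀ w : W, B v (w : V) = 0 := by
      intro w
      have := LinearMap.BilinForm.mem_orthogonal_iff.mp w.2
      exact this v (Submodule.mem_span_singleton_self v)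
    have hWv : ∀ w : W, B (w : V) v = 0 := by
      intro w
      rw [← hS.eq, hvW]
    refine ⟨Fin.cons v (fun i => (b' i : V)), ?_, ?_, ?_⟩
    · intro i j
      refine Fin.cases ?_ (fun i' => ?_) i <;> refine Fin.cases ?_ (fun j' => ?_) j
      · intro h; exact absurd rfl h
      · intro _; simp only [Fin.cons_zero, Fin.cons_succ]; exact hvW _
      · intro _; simp only [Fin.cons_zero, Fin.cons_succ]; exact hWv _
      · intro h
        simp only [Fin.cons_succ]
        have hne : i' ≠ j' := fun e => h (by rw [e])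
        exact hb1 i' j' hne
    · intro i
      refine Fin.cases ?_ (fun i' => ?_) i
      · intro _; simp only [Fin.cons_zero]; exact hv
      · intro h
        simp only [Fin.cons_succ]
        have hne : i' ≠ Fin.last n := fun e => h (by rw [e, Fin.succ_last])
        exact hb2 i' hne
    · have : Fin.last (n + 1) = Fin.succ (Fin.last n) := (Fin.succ_last n).symm
      rw [this]
      simp only [Fin.cons_succ]
      exact hb3

end


/-- Classification of symmetric bilinear forms over finite fields of odd characteristic: if B is non-degenerate symmetric on V of dimension n + 1 and α is a fixed non-square of F, there is an orthogonal basis b_0, ..., b_n with B(b_i, b_i) = 1 for i < n and B(b_n, b_n) ∈ {1, α}. -/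
theorem result {F V : Type*} [Field F] [Finite F] [AddCommGroup V] [Module F V] [FiniteDimensional F V] (h2 : (2 : F) ≠ 0) (B : LinearMap.BilinForm F V) (hS : B.IsSymm) (hB : B.Nondegenerate) {n : ℕ} (hn : Module.finrank F V = n + 1) (α : F) (hα : ¬ IsSquare α) : ∃ b : Module.Basis (Fin (n + 1)) F V, (∀ i j, i ≠ j → B (b i) (b j) = 0) ∧ (∀ i, i ≠ Fin.last n → B (b i) (b i) = 1) ∧ (B (b (Fin.last n)) (b (Fin.last n)) = 1 ∨ B (b (Fin.last n)) (b (Fin.last n)) = α) := by
  obtain ⟨b, hb1, hb2, hb3⟩ := fam h2 α hα n V B hS hB hn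
  have hα0 : α ≠ 0 := fun h => hα (h ▸ IsSquare.zero)
  have hne : ∀ i, B (b i) (b i) ≠ 0 := by
    intro i
    by_cases hi : i = Fin.last n
    · rw [hi]
      rcases hb3 with h | h <;> rw [h]
      · exact one_ne_zero
      · exact hα0
    · rw [hb2 i hi]; exact one_ne_zero
  have hortho : B.iIsOrtho b := fun i j hij => hb1 i j hij
  have hli : LinearIndependent F b := linearIndependent_of_iIsOrtho hortho hne
  have hcard : Fintype.card (Fin (n + 1)) = Module.finrank F V := by
    rw [Fintype.card_fin, hn]
  refine ⟨basisOfLinearIndependentOfCardEqFinrank hli hcard, ?_, ?_, ?_⟩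
  · intro i j hij
    rw [coe_basisOfLinearIndependentOfCardEqFinrank]
    exact hb1 i j hij
  · intro i hi
    rw [coe_basisOfLinearIndependentOfCardEqFinrank]
    exact hb2 i hi
  · rw [coe_basisOfLinearIndependentOfCardEqFinrank]
    exact hb3

end Cfsg.Agent.S0756
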