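import Cfsg.Statements.S0757
-- import your own Cfsg.Agent.* helpers here
import Mathlib

set_option autoImplicit false
open Cfsg

namespace Cfsg.Agent.S0757


/-- The two diagonal forms Σ x_i^2 and Σ_(i<n) x_i^2 + α x_n^2 on F^(n+1), with α a non-square and 2 ≠ 0 in F, are inequivalent quadratic forms (so over a finite field of odd order there are exactly two classes of non-singular symmetric bilinear forms in each dimension). -/
theorem result {F : Type*} [Field F] (h2 : (2 : F) ≠ 0) (n : ℕ) (α : F) (hα : ¬ IsSquare α) : ¬ (QuadraticMap.weightedSumSquares F (fun _ : Fin (n + 1) => (1 : F))).Equivalent (QuadraticMap.weightedSumSquares F (fun i : Fin (n + 1) => if i = Fin.last n then α else (1 : F))) := by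
  rintro ⟨e⟩
  set W : Fin (n + 1) → F := fun i => if i = Fin.last n then α else (1 : F) with hW
  have hmap : ∀ x : Fin (n + 1) → F, ∑ i, W i * (e x i * e x i) = ∑ i, x i * x i := by
    intro x
    have := e.map_app x
    simp only [QuadraticMap.weightedSumSquares_apply, smul_eq_mul, one_mul] at this
    exact this
  have hbil : ∀ x y : Fin (n + 1) → F, ∑ i, W i * (e x i * e y i) = ∑ i, x i * y i := by
    intro x y
    have h1 := hmap (x + y)
    have hx := hmap x
    have hy := hmap y
    simp only [map_add, Pi.add_apply] at h1
    have h3 : (2 : F) * ∑ i, W i * (e x i * e y i) = 2 * ∑ i, x i * y i := by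
      have e1 : ∑ i, W i * ((e x i + e y i) * (e x i + e y i)) =
          ∑ i, W i * (e x i * e x i) + 2 * ∑ i, W i * (e x i * e y i) + ∑ i, W i * (e y i * e y i) := by
        rw [Finset.mul_sum, ← Finset.sum_add_distrib, ← Finset.sum_add_distrib]
        apply Finset.sum_congr rfl
        intro i _; ring
      have e2 : ∑ i, (x i + y i) * (x i + y i) =
          ∑ i, x i * x i + 2 * ∑ i, x i * y i + ∑ i, y i * y i := by
        rw [Finset.mul_sum, ← Finset.sum_add_distrib, ← Finset.sum_add_distrib]
        apply Finset.sum_congr rfl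
        intro i _; ring
      rw [e1, e2, hx, hy] at h1
      linear_combination h1
    exact mul_left_cancel₀ h2 h3
  set E : Matrix (Fin (n + 1)) (Fin (n + 1)) F := LinearMap.toMatrix' (e.toLinearEquiv : (Fin (n + 1) → F) →ₗ[F] (Fin (n + 1) → F)) with hE
  have hEapp : ∀ i j, E i j = e (Pi.single j 1) i := by
    intro i j
    rw [hE, LinearMap.toMatrix'_apply]
    rfl
  have hprod : E.transpose * Matrix.diagonal W * E = 1 := by
    ext j k
    rw [Matrix.mul_apply]
    simp only [Matrix.mul_diagonal, Matrix.transpose_apply]
    have := hbil (Pi.single j 1) (Pi.single k 1)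
    simp only [← hEapp] at this
    have h4 : ∑ i, E i j * W i * E i k = ∑ i, W i * (E i j * E i k) := by
      apply Finset.sum_congr rfl; intro i _; ring
    rw [h4, this, Matrix.one_apply]
    simp [Pi.single_apply, eq_comm]
  have hdet := congrArg Matrix.det hprod
  rw [Matrix.det_mul, Matrix.det_mul, Matrix.det_transpose, Matrix.det_diagonal, Matrix.det_one] at hdet
  have hWprod : ∏ i, W i = α := by
    rw [hW]
    simp [Finset.prod_ite_eq']
  rw [hWprod] at hdet
  apply hα
  have hd : E.det ≠ 0 := by
    rintro h0
    rw [h0] at hdet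
    simp at hdet
  refine ⟨E.det⁻¹, ?_⟩
  field_simp
  linear_combination hdet

end Cfsg.Agent.S0757
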