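import Cfsg.Statements.S0758
-- import your own Cfsg.Agent.* helpers here

set_option autoImplicit false
open Cfsg

namespace Cfsg.Agent.S0758


/-- For a finite field F of odd order q and a non-square α: the form x² + y² is isotropic iff q ≡ 1 mod 4, and the form x² + α y² is isotropic iff q ≡ 3 mod 4. -/
theorem result {F : Type*} [Field F] [Fintype F] (h2 : (2 : F) ≠ 0) (α : F) (hα : ¬ IsSquare α) : ((∃ x y : F, (x ≠ 0 ∨ y ≠ 0) ∧ x ^ 2 + y ^ 2 = 0) ↔ Fintype.card F % 4 = 1) ∧ ((∃ x y : F, (x ≠ 0 ∨ y ≠ 0) ∧ x ^ 2 + α * y ^ 2 = 0) ↔ Fintype.card F % 4 = 3) := by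
  classical
  have hchar : ringChar F ≠ 2 := by
    intro h
    apply h2
    have : ((2 : ℕ) : F) = 0 := by
      rw [← h]; exact ringChar.Nat.cast_ringChar
    exact_mod_cast this
  have hodd : Fintype.card F % 2 = 1 := FiniteField.odd_card_of_char_ne_two hchar
  have hsq : IsSquare (-1 : F) ↔ Fintype.card F % 4 ≠ 3 := FiniteField.isSquare_neg_one_iff
  have hα0 : α ≠ 0 := by
    rintro rfl
    exact hα ⟨0, by simp⟩
  -- general: nontrivial zero of x^2 + c y^2 iff IsSquare (-c), for c ≠ 0
  have gen : ∀ c : F, c ≠ 0 → ((∃ x y : F, (x ≠ 0 ∨ y ≠ 0) ∧ x ^ 2 + c * y ^ 2 = 0) ↔ IsSquare (-c)) := by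
    intro c hc
    constructor
    · rintro ⟨x, y, hxy, h⟩
      have hy : y ≠ 0 := by
        intro hy
        subst hy
        simp only [ne_eq, not_true_eq_false, or_false] at hxy
        apply hxy
        simpa using h
      refine ⟨x / y, ?_⟩
      field_simp
      linear_combination (-1 : F) * h
    · rintro ⟨a, ha⟩
      refine ⟨a, 1, Or.inr one_ne_zero, ?_⟩
      linear_combination (-1 : F) * ha
  constructor
  · have := gen 1 one_ne_zero
    simp only [one_mul] at this
    rw [this, hsq]
    omega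
  · rw [gen α hα0]
    have hm : quadraticChar F (-α) = quadraticChar F (-1) * quadraticChar F α := by
      rw [← map_mul]; simp
    have hα' : quadraticChar F α = -1 := quadraticChar_neg_one_iff_not_isSquare.mpr hα
    rw [← quadraticChar_one_iff_isSquare (neg_ne_zero.mpr hα0), hm, hα']
    have h3 : Fintype.card F % 4 = 3 ↔ ¬ IsSquare (-1 : F) := by
      rw [hsq]; omega
    rw [h3, ← quadraticChar_neg_one_iff_not_isSquare]
    constructor
    · intro h; linarith
    · intro h; rw [h]; norm_num

end Cfsg.Agent.S0758
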