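import Cfsg.Statements.S0759
-- import your own Cfsg.Agent.* helpers here
import Mathlib

set_option autoImplicit false
open Cfsg

namespace Cfsg.Agent.S0759

section det
variable {F : Type*} [Field F] {n : Type*} [Fintype n] [DecidableEq n]
open Matrix

theorem det_J' : (fromBlocks (0 : Matrix n n F) (1 : Matrix n n F) (-1 : Matrix n n F)
    (0 : Matrix n n F)).det = 1 := by
  have h : fromBlocks (0 : Matrix n n F) (1 : Matrix n n F) (-1 : Matrix n n F) (0 : Matrix n n F) =
      fromBlocks (1 : Matrix n n F) (1 : Matrix n n F) (0 : Matrix n n F) (1 : Matrix n n F) *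
        fromBlocks (1 : Matrix n n F) (0 : Matrix n n F) (-1 : Matrix n n F) (1 : Matrix n n F) *
        fromBlocks (1 : Matrix n n F) (1 : Matrix n n F) (0 : Matrix n n F) (1 : Matrix n n F) := by
    simp [fromBlocks_multiply]
  rw [h, det_mul, det_mul, det_fromBlocks_zero₂₁, det_fromBlocks_zero₁₂]
  simp

theorem det_block0 (A B C : Matrix n n F) :
    (fromBlocks 0 A B C).det = (-1) ^ Fintype.card n * (A.det * B.det) := by
  have h : fromBlocks (0 : Matrix n n F) (1 : Matrix n n F) (-1) 0 * fromBlocks 0 A B C = fromBlocks B C 0 (-A) := by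
    simp [fromBlocks_multiply]
  have := congrArg Matrix.det h
  rw [det_mul, det_J', one_mul, det_fromBlocks_zero₂₁, det_neg] at this
  rw [this]; ring

end det

theorem forward {F : Type*} [Field F] [Fintype F] (h2 : (2 : F) ≠ 0) (m : ℕ)
    (W : Submodule F (Fin (2 * m) → F)) (hW : Module.finrank F W = m)
    (hQ : ∀ w ∈ W, ∑ i, w i ^ 2 = 0) (hodd : Odd m) : IsSquare (-1 : F) := by
  classical
  -- bilinear vanishing
  have hB : ∀ x ∈ W, ∀ y ∈ W, ∑ i, x i * y i = 0 := by
    intro x hx y hy
    have h1 := hQ (x + y) (W.add_mem hx hy)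
    have h2' := hQ x hx
    have h3 := hQ y hy
    have : (2 : F) * ∑ i, x i * y i = 0 := by
      have : ∑ i, (x + y) i ^ 2 = ∑ i, x i ^ 2 + ∑ i, y i ^ 2 + 2 * ∑ i, x i * y i := by
        rw [Finset.mul_sum, ← Finset.sum_add_distrib, ← Finset.sum_add_distrib]
        apply Finset.sum_congr rfl
        intro i _
        simp only [Pi.add_apply]; ring
      rw [this, h2', h3] at h1
      simpa using h1
    exact (mul_eq_zero.mp this).resolve_left h2
  obtain ⟨W', hc⟩ := Submodule.exists_isCompl W
  have hW' : Module.finrank F W' = m := by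
    have := Submodule.finrank_add_eq_of_isCompl hc
    rw [hW, Module.finrank_fin_fun] at this
    omega
  let bW := Module.finBasisOfFinrankEq F W hW
  let bW' := Module.finBasisOfFinrankEq F W' hW'
  let B : Module.Basis (Fin m ⊕ Fin m) F (Fin (2*m) → F) :=
    (bW.prod bW').map (Submodule.prodEquivOfIsCompl W W' hc)
  have hBl : ∀ i, B (Sum.inl i) ∈ W := by
    intro i
    simp [B]
  have hcard : Fintype.card (Fin m ⊕ Fin m) = Fintype.card (Fin (2 * m)) := by
    simp; omega
  let e : Fin m ⊕ Fin m ≃ Fin (2 * m) := Fintype.equivOfCardEq hcard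
  let P : Matrix (Fin m ⊕ Fin m) (Fin m ⊕ Fin m) F := Matrix.of fun r c => B r (e c)
  have hPdet : P.det ≠ 0 := by
    have hli : LinearIndependent F P.row := by
      have := B.linearIndependent.map' (LinearEquiv.funCongrLeft F F e).toLinearMap
        (LinearEquiv.ker _)
      have heq : P.row = ⇑(LinearEquiv.funCongrLeft F F e).toLinearMap ∘ ⇑B := by
        funext r
        rfl
      rw [heq]
      exact this
    have := (Matrix.linearIndependent_rows_iff_isUnit.mp hli)
    rw [Matrix.isUnit_iff_isUnit_det] at this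
    exact this.ne_zero
  have hGapply : ∀ r s, (P * P.transpose) r s = ∑ k, B r k * B s k := by
    intro r s
    rw [Matrix.mul_apply]
    simp only [Matrix.transpose_apply, P, Matrix.of_apply]
    exact Equiv.sum_comp e (fun k => B r k * B s k)
  set G := P * P.transpose with hG
  have hG11 : G.toBlocks₁₁ = 0 := by
    ext i j
    simp only [Matrix.toBlocks₁₁, Matrix.of_apply, Matrix.zero_apply, hGapply]
    exact hB _ (hBl i) _ (hBl j)
  have hG21 : G.toBlocks₂₁ = G.toBlocks₁₂.transpose := by
    ext i j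
    simp only [Matrix.toBlocks₂₁, Matrix.toBlocks₁₂, Matrix.of_apply, Matrix.transpose_apply, hGapply]
    exact Finset.sum_congr rfl (fun k _ => mul_comm _ _)
  have hGdet : G.det = P.det * P.det := by rw [hG, Matrix.det_mul, Matrix.det_transpose]
  have hGb : G = Matrix.fromBlocks 0 G.toBlocks₁₂ G.toBlocks₁₂.transpose G.toBlocks₂₂ := by
    rw [← hG11, ← hG21, Matrix.fromBlocks_toBlocks]
  rw [hGb, det_block0, Matrix.det_transpose, Fintype.card_fin, hodd.neg_one_pow] at hGdet
  have ha : G.toBlocks₁₂.det ≠ 0 := by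
    intro h
    rw [h] at hGdet
    simp at hGdet
    exact hPdet hGdet
  refine ⟨P.det / G.toBlocks₁₂.det, ?_⟩
  field_simp
  linear_combination hGdet

theorem lemmaA {F : Type*} [Field F] (m : ℕ) (S : Matrix (Fin m) (Fin m) F)
    (hS : S.transpose * S = -1) :
    ∃ W : Submodule F (Fin (2 * m) → F), Module.finrank F W = m ∧ ∀ w ∈ W, ∑ i, w i ^ 2 = 0 := by
  classical
  let E : Fin 2 × Fin m ≃ Fin (2 * m) := finProdFinEquiv
  let f : (Fin m → F) →ₗ[F] (Fin (2 * m) → F) :=
    LinearMap.pi (fun k => if (E.symm k).1 = 0 then LinearMap.proj (E.symm k).2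
      else (LinearMap.proj (E.symm k).2).comp (Matrix.mulVecLin S))
  have hf0 : ∀ c j, f c (E (0, j)) = c j := by
    intro c j
    simp [f]
  have hf1 : ∀ c j, f c (E (1, j)) = (S.mulVec c) j := by
    intro c j
    simp [f]
  have hinj : Function.Injective f := by
    rw [← LinearMap.ker_eq_bot, LinearMap.ker_eq_bot']
    intro c hc
    funext j
    rw [← hf0 c j, hc]
    rfl
  refine ⟨LinearMap.range f, ?_, ?_⟩
  · rw [LinearMap.finrank_range_of_inj hinj, Module.finrank_fin_fun]
  · rintro _ ⟨c, rfl⟩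
    rw [← Equiv.sum_comp E, Fintype.sum_prod_type, Fin.sum_univ_two]
    simp only [hf0, hf1]
    have h1 : ∑ j, c j ^ 2 = dotProduct c c := by
      simp [dotProduct, sq]
    have h2 : ∑ j, (S.mulVec c) j ^ 2 = dotProduct (S.mulVec c) (S.mulVec c) := by
      simp [dotProduct, sq]
    rw [h1, h2, Matrix.dotProduct_mulVec, Matrix.vecMul_mulVec]
    rw [hS, Matrix.vecMul_neg, Matrix.vecMul_one, neg_dotProduct, add_neg_cancel]

theorem lemmaB {F : Type*} [Field F] (a b : F) (hab : a ^ 2 + b ^ 2 = -1) (k : ℕ) :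
    ∃ S : Matrix (Fin (2 * k)) (Fin (2 * k)) F, S.transpose * S = -1 := by
  classical
  let E : Fin 2 × Fin k ≃ Fin (2 * k) := finProdFinEquiv
  let M : Matrix (Fin 2) (Fin 2) F := !![a, -b; b, a]
  have hM : M.transpose * M = -1 := by
    ext i j
    fin_cases i <;> fin_cases j <;> simp [M, Matrix.mul_apply, Fin.sum_univ_two] <;>
      first | ring1 | linear_combination hab
  let S0 : Matrix (Fin 2 × Fin k) (Fin 2 × Fin k) F := Matrix.blockDiagonal (fun _ => M)
  have hS0 : S0.transpose * S0 = -1 := by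
    show (Matrix.blockDiagonal fun _ => M).transpose * (Matrix.blockDiagonal fun _ => M) = -1
    rw [Matrix.blockDiagonal_transpose, ← Matrix.blockDiagonal_mul]
    simp only [hM]
    rw [← Matrix.blockDiagonal_one, ← Matrix.blockDiagonal_neg]
    rfl
  refine ⟨S0.submatrix E.symm E.symm, ?_⟩
  rw [Matrix.transpose_submatrix, Matrix.submatrix_mul_equiv, hS0]
  ext i j
  simp [Matrix.one_apply]


/-- Type of the orthonormal form: over a finite field of odd order q and for m ≥ 1, the quadratic form Σ_(i<2m) x_i² on F^(2m) admits an m-dimensional subspace on which it vanishes identically if and only if it is not the case that q ≡ 3 (mod 4) and m is odd. -/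
theorem result {F : Type*} [Field F] [Fintype F] (h2 : (2 : F) ≠ 0) (m : ℕ) (hm : 1 ≤ m) : (∃ W : Submodule F (Fin (2 * m) → F), Module.finrank F W = m ∧ ∀ w ∈ W, ∑ i, w i ^ 2 = 0) ↔ ¬ (Fintype.card F % 4 = 3 ∧ Odd m) := by
  constructor
  · rintro ⟨W, hW, hQ⟩ ⟨h3, hodd⟩
    have := forward h2 m W hW hQ hodd
    rw [FiniteField.isSquare_neg_one_iff] at this
    exact this h3
  · intro h
    by_cases h3 : Fintype.card F % 4 = 3
    · have hev : Even m := by
        rw [← Nat.not_odd_iff_even]; exact fun ho => h ⟨h3, ho⟩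
      obtain ⟨k, rfl⟩ := hev.two_dvd
      obtain ⟨p, hp⟩ := CharP.exists F
      haveI : NeZero p := ⟨(CharP.char_is_prime F p).ne_zero⟩
      obtain ⟨a, b, hab⟩ := CharP.sq_add_sq F p (-1 : ℤ)
      have hab' : (a : F) ^ 2 + (b : F) ^ 2 = -1 := by
        rw [hab]; simp
      obtain ⟨S, hS⟩ := lemmaB (a : F) (b : F) hab' k
      exact lemmaA (2 * k) S hS
    · have hsq : IsSquare (-1 : F) := FiniteField.isSquare_neg_one_iff.mpr h3
      obtain ⟨i, hi⟩ := hsq
      apply lemmaA m (i • (1 : Matrix (Fin m) (Fin m) F))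
      rw [Matrix.transpose_smul, Matrix.transpose_one, Matrix.smul_mul, Matrix.mul_smul,
        Matrix.one_mul, smul_smul, ← hi, neg_smul, one_smul]

end Cfsg.Agent.S0759
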