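import Cfsg.Statements.S0760
-- import your own Cfsg.Agent.* helpers here
import Mathlib

set_option autoImplicit false
open Cfsg

namespace Cfsg.Agent.S0760

theorem le_of_max {F V : Type*} [Field F] [AddCommGroup V] [Module F V] [FiniteDimensional F V]
    (Q : QuadraticForm F V) (hQ : (QuadraticMap.polarBilin Q).Nondegenerate)
    (W₁ W₂ : Submodule F V) (h₁ : ∀ w ∈ W₁, Q w = 0) (h₂ : ∀ w ∈ W₂, Q w = 0)
    (hmax₁ : ∀ W : Submodule F V, W₁ ≤ W → (∀ w ∈ W, Q w = 0) → W = W₁) :
    Module.finrank F W₂ ≤ Module.finrank F W₁ := by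
  classical
  set B : LinearMap.BilinForm F V := QuadraticMap.polarBilin Q with hBdef
  have hBapp : ∀ x y, B x y = Q (x + y) - Q x - Q y := fun x y => rfl
  have hiso : ∀ (W : Submodule F V), (∀ w ∈ W, Q w = 0) → ∀ x ∈ W, ∀ y ∈ W, B x y = 0 := by
    intro W hW x hx y hy
    rw [hBapp, hW _ (W.add_mem hx hy), hW x hx, hW y hy]; simp
  -- step 3
  have h3 : W₂ ⊓ B.orthogonal W₁ ≤ W₁ ⊓ W₂ := by
    have hU : W₁ ⊔ (W₂ ⊓ B.orthogonal W₁) = W₁ := by
      apply hmax₁ (W₁ ⊔ (W₂ ⊓ B.orthogonal W₁)) le_sup_left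
      intro x hx
      obtain ⟨w, hw, u, hu, rfl⟩ := Submodule.mem_sup.mp hx
      have hwu : B w u = 0 := (LinearMap.BilinForm.mem_orthogonal_iff.mp hu.2) w hw
      have : Q (w + u) = B w u + Q w + Q u := by rw [hBapp]; ring
      rw [this, hwu, h₁ w hw, h₂ u hu.1]; simp
    have : W₂ ⊓ B.orthogonal W₁ ≤ W₁ := le_sup_right.trans hU.le
    exact le_inf this inf_le_left
  -- step 4
  have h4 : W₂ ⊔ B.orthogonal W₁ ≤ B.orthogonal (W₁ ⊓ W₂) := by
    apply sup_le
    · intro w hw
      rw [LinearMap.BilinForm.mem_orthogonal_iff]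
      intro d hd
      exact hiso W₂ h₂ d hd.2 w hw
    · exact LinearMap.BilinForm.orthogonal_le inf_le_left
  have e1 := Submodule.finrank_sup_add_finrank_inf_eq W₂ (B.orthogonal W₁)
  have e2 := LinearMap.BilinForm.finrank_orthogonal hQ W₁
  have e3 := LinearMap.BilinForm.finrank_orthogonal hQ (W₁ ⊓ W₂)
  have e4 := Submodule.finrank_mono h3
  have e5 := Submodule.finrank_mono h4
  have e6 := Submodule.finrank_le W₁
  have e7 := Submodule.finrank_le (W₁ ⊓ W₂)
  omega


/-- Witt index is well defined: if Q is a quadratic form on a finite-dimensional space V over a finite field with non-degenerate polar form, and W₁, W₂ are subspaces on which Q vanishes that are maximal with this property, then W₁ and W₂ have the same dimension, and twice this dimension is at most dim V. -/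
theorem result {F V : Type*} [Field F] [Finite F] [AddCommGroup V] [Module F V] [FiniteDimensional F V] (Q : QuadraticForm F V) (hQ : (QuadraticMap.polarBilin Q).Nondegenerate) (W₁ W₂ : Submodule F V) (h₁ : ∀ w ∈ W₁, Q w = 0) (h₂ : ∀ w ∈ W₂, Q w = 0) (hmax₁ : ∀ W : Submodule F V, W₁ ≤ W → (∀ w ∈ W, Q w = 0) → W = W₁) (hmax₂ : ∀ W : Submodule F V, W₂ ≤ W → (∀ w ∈ W, Q w = 0) → W = W₂) : Module.finrank F W₁ = Module.finrank F W₂ ∧ 2 * Module.finrank F W₁ ≤ Module.finrank F V := by
  refine ⟨le_antisymm (le_of_max Q hQ W₂ W₁ h₂ h₁ hmax₂) (le_of_max Q hQ W₁ W₂ h₁ h₂ hmax₁), ?_⟩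
  have hle : W₁ ≤ LinearMap.BilinForm.orthogonal (QuadraticMap.polarBilin Q) W₁ := by
    intro w hw
    rw [LinearMap.BilinForm.mem_orthogonal_iff]
    intro d hd
    show QuadraticMap.polar Q d w = 0
    unfold QuadraticMap.polar
    rw [h₁ _ (W₁.add_mem hd hw), h₁ d hd, h₁ w hw]; simp
  have e2 := LinearMap.BilinForm.finrank_orthogonal hQ W₁
  have e4 := Submodule.finrank_mono hle
  have e6 := Submodule.finrank_le W₁
  omega

end Cfsg.Agent.S0760
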