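import Cfsg.Statements.S0761
-- import your own Cfsg.Agent.* helpers here
import Mathlib

set_option autoImplicit false
open Cfsg

namespace Cfsg.Agent.S0761


/-- Hyperbolic partners: let B be a non-degenerate bilinear form on a finite-dimensional space, either alternating, or symmetric with 2 ≠ 0. If Z is a subspace on which B vanishes, x ∉ Z is isotropic and orthogonal to Z, then there is an isotropic y with B x y = 1 which is orthogonal to Z. -/
theorem result {F V : Type*} [Field F] [AddCommGroup V] [Module F V] [FiniteDimensional F V] (B : LinearMap.BilinForm F V) (hB : B.Nondegenerate) (hform : B.IsAlt ∨ (B.IsSymm ∧ (2 : F) ≠ 0)) (x : V) (Z : Submodule F V) (hxZ : x ∉ Z) (hx : B x x = 0) (hxz : ∀ z ∈ Z, B x z = 0) (hZ : ∀ z ∈ Z, ∀ z' ∈ Z, B z z' = 0) : ∃ y : V, B y y = 0 ∧ B x y = 1 ∧ ∀ z ∈ Z, B z y = 0 := by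
  obtain ⟨f, hfx, hfZ⟩ := Submodule.exists_dual_map_eq_bot_of_notMem hxZ inferInstance
  have hfz : ∀ z ∈ Z, f z = 0 := by
    intro z hz
    have : f z ∈ Z.map f := Submodule.mem_map_of_mem hz
    rw [hfZ] at this
    exact (Submodule.mem_bot F).mp this
  -- y0 with B y0 v = (f x)⁻¹ * f v
  set g : Module.Dual F V := (f x)⁻¹ • f with hg
  have hgx : g x = 1 := by
    simp [hg, inv_mul_cancel₀ hfx]
  have hgz : ∀ z ∈ Z, g z = 0 := by
    intro z hz
    simp [hg, hfz z hz]
  set y0 : V := (B.toDual hB).symm g with hy0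
  have hy0B : ∀ v, B y0 v = g v := by
    intro v
    rw [← LinearMap.BilinForm.toDual_def hB, hy0, LinearEquiv.apply_symm_apply]
  rcases hform with hAlt | ⟨hSymm, h2⟩
  · refine ⟨-y0, ?_, ?_, ?_⟩
    · exact hAlt.self_eq_zero _
    · rw [map_neg, hAlt.neg_eq x y0, hy0B, hgx]
    · intro z hz
      rw [map_neg, hAlt.neg_eq z y0, hy0B, hgz z hz]
  · have hsym : ∀ u v, B u v = B v u := fun u v => hSymm.eq u v
    set c : F := - B y0 y0 / 2 with hc
    refine ⟨y0 + c • x, ?_, ?_, ?_⟩
    · simp only [map_add, map_smul, LinearMap.add_apply, LinearMap.smul_apply, smul_eq_mul, hx,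
        mul_zero, add_zero]
      rw [hsym x y0, hy0B x, hgx, hc]
      field_simp
      ring
    · rw [map_add, map_smul, hx, smul_zero, add_zero, hsym x y0, hy0B, hgx]
    · intro z hz
      rw [map_add, map_smul, hsym z y0, hy0B, hgz z hz, hsym z x, hxz z hz, smul_zero, add_zero]

end Cfsg.Agent.S0761
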