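import Cfsg.Statements.S0762
-- import your own Cfsg.Agent.* helpers here
import Mathlib

set_option autoImplicit false
open Cfsg

namespace Cfsg.Agent.S0762


/-- In characteristic two over a finite field, a quadratic form on a space of dimension at least 3 vanishes on some non-zero vector. -/
theorem result {F V : Type*} [Field F] [Finite F] [CharP F 2] [AddCommGroup V] [Module F V] [FiniteDimensional F V] (Q : QuadraticForm F V) (h3 : 3 ≤ Module.finrank F V) : ∃ v : V, v ≠ 0 ∧ Q v = 0 := by
  have hpos : 0 < Module.finrank F V := by omega
  have : Nontrivial V := Module.finrank_pos_iff.mp hpos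
  obtain ⟨u, hu⟩ := exists_ne (0 : V)
  by_cases hQu : Q u = 0
  · exact ⟨u, hu, hQu⟩
  let φ : V →ₗ[F] F := QuadraticMap.polarBilin Q u
  have hker : 2 ≤ Module.finrank F (LinearMap.ker φ) := by
    have h1 := LinearMap.finrank_range_add_finrank_ker φ
    have h2 : Module.finrank F (LinearMap.range φ) ≤ 1 := by
      have := Submodule.finrank_le (LinearMap.range φ)
      rwa [Module.finrank_self] at this
    omega
  have hspan : Module.finrank F (Submodule.span F {u}) ≤ 1 := by
    have := finrank_span_le_card (R := F) ({u} : Set V)
    simpa using this
  have hnot : ¬ LinearMap.ker φ ≤ Submodule.span F {u} := by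
    intro hle
    have := Submodule.finrank_mono hle
    omega
  obtain ⟨y, hyK, hyS⟩ := SetLike.not_le_iff_exists.mp hnot
  have hpol : QuadraticMap.polar Q u y = 0 := by
    have : φ y = 0 := hyK
    simpa [φ] using this
  -- squares are surjective
  have hsq : Function.Surjective (fun a : F => a * a) := by
    have hinj : Function.Injective (fun a : F => a * a) := by
      intro a b hab
      have h := frobenius_inj F 2
      apply h
      simp only [frobenius_def, pow_two]
      exact hab
    exact Finite.injective_iff_surjective.mp hinj
  obtain ⟨a, ha⟩ := hsq (Q y / Q u)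
  refine ⟨a • u + y, ?_, ?_⟩
  · intro h0
    apply hyS
    have : y = (-a) • u := by
      rw [neg_smul]
      exact eq_neg_of_add_eq_zero_right h0
    rw [this]
    exact Submodule.smul_mem _ _ (Submodule.mem_span_singleton_self u)
  · rw [QuadraticMap.map_add Q, QuadraticMap.map_smul, QuadraticMap.polar_smul_left, hpol]
    simp only [smul_eq_mul, mul_zero, add_zero]
    have ha' : a * a = Q y / Q u := ha
    rw [ha', div_mul_cancel₀ _ hQu]
    exact CharTwo.add_self_eq_zero _

end Cfsg.Agent.S0762
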