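import Cfsg.Statements.S0763
-- import your own Cfsg.Agent.* helpers here
import Mathlib

set_option autoImplicit false
open Cfsg

namespace Cfsg.Agent.S0763

open QuadraticMap


/-- Binary quadratic forms in characteristic two over a finite field: if Q is a quadratic form on a 2-dimensional space whose polar form is non-degenerate, then either there are vectors v, w with Q v = Q w = 0 and polar value 1 (Q is xy in these coordinates), or there are v, w and μ with Q v = 1, Q w = μ, polar value 1 and x² + x + μ without roots in F (Q is x² + xy + μy²). -/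
theorem result {F V : Type*} [Field F] [Finite F] [CharP F 2] [AddCommGroup V] [Module F V] (Q : QuadraticForm F V) (h2 : Module.finrank F V = 2) (hQ : (QuadraticMap.polarBilin Q).Nondegenerate) : (∃ v w : V, LinearIndependent F ![v, w] ∧ Q v = 0 ∧ Q w = 0 ∧ QuadraticMap.polar Q v w = 1) ∨ (∃ (v w : V) (μ : F), LinearIndependent F ![v, w] ∧ (∀ x : F, x ^ 2 + x + μ ≠ 0) ∧ Q v = 1 ∧ Q w = μ ∧ QuadraticMap.polar Q v w = 1) := by
  classical
  have hfin : Fintype F := Fintype.ofFinite F
  have hnt : Nontrivial V := Module.nontrivial_of_finrank_pos (R := F) (by omega)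
  have hsep : ∀ v : V, v ≠ 0 → ∃ w, polar Q v w ≠ 0 := by
    intro v hv
    by_contra h
    push Not at h
    exact hv (hQ.1 v (fun y => by rw [polarBilin_apply_apply]; exact h y))
  have hpself : ∀ x : V, polar Q x x = 0 := by
    intro x
    rw [polar_self, two_smul]
    exact CharTwo.add_self_eq_zero _
  -- normalising the second vector
  have hnorm : ∀ v : V, v ≠ 0 → ∃ w, polar Q v w = 1 := by
    intro v hv
    obtain ⟨w₀, hw₀⟩ := hsep v hv
    refine ⟨(polar Q v w₀)⁻¹ • w₀, ?_⟩
    rw [polar_smul_right, smul_eq_mul, inv_mul_cancel₀ hw₀]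
  have hindep : ∀ v w : V, polar Q v w = 1 → LinearIndependent F ![v, w] := by
    intro v w hvw
    rw [LinearIndependent.pair_iff]
    intro s t hst
    have h1 : polar Q v (s • v + t • w) = t := by
      rw [polar_add_right, polar_smul_right, polar_smul_right, hpself, hvw]
      simp
    have h2' : polar Q (s • v + t • w) w = s := by
      rw [polar_add_left, polar_smul_left, polar_smul_left, hpself, hvw]
      simp
    rw [hst] at h1 h2'
    rw [polar_zero_right] at h1
    rw [polar_zero_left] at h2'
    exact ⟨h2'.symm, h1.symm⟩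
  by_cases hiso : ∃ v : V, v ≠ 0 ∧ Q v = 0
  · left
    obtain ⟨v, hv, hQv⟩ := hiso
    obtain ⟨w₁, hw₁⟩ := hnorm v hv
    set c := Q w₁ with hc
    refine ⟨v, w₁ + c • v, ?_, hQv, ?_, ?_⟩
    · apply hindep
      rw [polar_add_right, polar_smul_right, hpself, hw₁]
      simp
    · rw [QuadraticMap.map_add (⇑Q) w₁ (c • v), QuadraticMap.map_smul, hQv, polar_smul_right, polar_comm, hw₁]
      simp only [smul_eq_mul, mul_zero, add_zero, mul_one]
      rw [← hc]
      exact CharTwo.add_self_eq_zero c
    · rw [polar_add_right, polar_smul_right, hpself, hw₁]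
      simp
  · right
    push Not at hiso
    obtain ⟨v₀, hv₀⟩ := exists_ne (0 : V)
    have hQv₀ : Q v₀ ≠ 0 := hiso v₀ hv₀
    obtain ⟨r, hr⟩ := FiniteField.isSquare_of_char_two (ringChar.eq F 2) (Q v₀)
    have hr0 : r ≠ 0 := by
      intro h; rw [h, mul_zero] at hr; exact hQv₀ hr
    set v := r⁻¹ • v₀ with hv
    have hv0 : v ≠ 0 := by
      rw [hv]; exact smul_ne_zero (inv_ne_zero hr0) hv₀
    have hQv : Q v = 1 := by
      rw [hv, QuadraticMap.map_smul, hr, smul_eq_mul]
      field_simp
    obtain ⟨w, hw⟩ := hnorm v hv0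
    refine ⟨v, w, Q w, hindep v w hw, ?_, hQv, rfl, hw⟩
    intro x
    have hne : x • v + w ≠ 0 := by
      intro h
      have hli := hindep v w hw
      rw [LinearIndependent.pair_iff] at hli
      have := (hli x 1 (by rw [one_smul]; exact h)).2
      exact one_ne_zero this
    have := hiso _ hne
    rw [QuadraticMap.map_add (⇑Q) (x • v) w, QuadraticMap.map_smul, hQv, polar_smul_left, hw] at this
    simp only [smul_eq_mul, mul_one] at this
    intro h0
    apply this
    rw [← h0]; ring

end Cfsg.Agent.S0763
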