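import Cfsg.Statements.S0767
-- import your own Cfsg.Agent.* helpers here
import Cfsg.Agent.Lib_helper4_Symp

set_option autoImplicit false
open Cfsg

namespace Cfsg.Agent.S0767

open Matrix Cfsg.Agent.helper4


/-- The root group of a point: T_v(c) T_v(d) = T_v(c + d), and for A in the symplectic group with A v = a v, the conjugate A T_v(c) A⁻¹ is again some T_v(d). -/
theorem result {F : Type*} [Field F] (m : ℕ) (v : Fin m ⊕ Fin m → F) : (∀ c d : F, Cfsg.sympTransvection m v c * Cfsg.sympTransvection m v d = Cfsg.sympTransvection m v (c + d)) ∧ ∀ (A : Matrix (Fin m ⊕ Fin m) (Fin m ⊕ Fin m) F) (a : F), A ∈ Matrix.symplecticGroup (Fin m) F → A.mulVec v = a • v → ∀ c : F, ∃ d : F, A * Cfsg.sympTransvection m v c * A⁻¹ = Cfsg.sympTransvection m v d := by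
  refine ⟨fun c d => sympTransvection_mul v c d, ?_⟩
  intro A a hA hAv c
  refine ⟨c * (a * a), ?_⟩
  have hinv : A⁻¹ = -(Matrix.J (Fin m) F) * Aᵀ * Matrix.J (Fin m) F :=
    SymplecticGroup.inv_eq_symplectic_inv A hA
  have hdet : IsUnit A.det := SymplecticGroup.symplectic_det hA
  unfold Cfsg.sympTransvection
  rw [Matrix.mul_add, Matrix.mul_one, Matrix.add_mul, Matrix.mul_nonsing_inv A hdet,
    Matrix.mul_smul, Matrix.smul_mul, Matrix.mul_vecMulVec, Matrix.vecMulVec_mul, hAv]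
  congr 1
  have h1 : (Matrix.J (Fin m) F *ᵥ v) ᵥ* A⁻¹ = a • (Matrix.J (Fin m) F *ᵥ v) := by
    rw [hinv, ← Matrix.vecMul_vecMul, ← Matrix.vecMul_vecMul, Matrix.vecMul_neg, J_mulVec_vecMul_J,
      Matrix.neg_vecMul, Matrix.vecMul_transpose, hAv, Matrix.neg_vecMul, Matrix.smul_vecMul, vecMul_J]
    simp
  rw [h1, Matrix.smul_vecMulVec, Matrix.vecMulVec_smul, smul_smul, smul_smul, mul_assoc]

end Cfsg.Agent.S0767
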