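import Cfsg.Statements.S0769
-- import your own Cfsg.Agent.* helpers here
import Mathlib

set_option autoImplicit false
open Cfsg

namespace Cfsg.Agent.S0769

theorem card_pairs (n : ℕ) : Fintype.card {p : Fin n × Fin n // p.2 < p.1} = n * (n - 1) / 2 := by
  rw [Fintype.card_subtype]
  have : (Finset.univ.filter (fun p : Fin n × Fin n => p.2 < p.1)).card = ∑ i : Fin n, (i : ℕ) := by
    rw [Finset.card_filter, ← Finset.univ_product_univ, Finset.sum_product]
    apply Finset.sum_congr rfl
    intro i _
    rw [← Finset.card_filter]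
    have : Finset.univ.filter (fun x : Fin n => x < i) = Finset.Iio i := by
      ext x; simp
    rw [this, Fin.card_Iio]
  rw [this, Fin.sum_univ_eq_sum_range (fun i => i) n, Finset.sum_range_id]

theorem det_lower {F : Type*} [Field F] {n : ℕ} (M : Matrix (Fin n) (Fin n) F)
    (h : ∀ i j : Fin n, i < j → M i j = 0) : M.det = ∏ i, M i i := by
  apply Matrix.det_of_isLowerTriangular
  intro i j hij
  exact h i j hij


/-- Order of the Borel subgroup of GL_n(q): the invertible lower-triangular n × n matrices over a field with q elements number q^(n(n-1)/2) (q-1)^n (unitriangular part times the diagonal torus). -/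
theorem result {F : Type*} [Field F] [Fintype F] {q : ℕ} (hF : Fintype.card F = q) (n : ℕ) : Nat.card {g : Matrix.GeneralLinearGroup (Fin n) F // ∀ i j : Fin n, i < j → (g : Matrix (Fin n) (Fin n) F) i j = 0} = q ^ (n * (n - 1) / 2) * (q - 1) ^ n := by
  classical
  let I := {p : Fin n × Fin n // p.2 < p.1}
  have hdiag : ∀ g : {g : Matrix.GeneralLinearGroup (Fin n) F // ∀ i j : Fin n, i < j →
      (g : Matrix (Fin n) (Fin n) F) i j = 0}, ∀ i, (g.1 : Matrix (Fin n) (Fin n) F) i i ≠ 0 := by
    intro g i
    have h1 : (g.1 : Matrix (Fin n) (Fin n) F).det ≠ 0 := by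
      have := Matrix.GeneralLinearGroup.det_ne_zero g.1
      exact this
    rw [det_lower _ g.2] at h1
    exact (Finset.prod_ne_zero_iff.mp h1) i (Finset.mem_univ i)
  let Mat : (I → F) × (Fin n → Fˣ) → Matrix (Fin n) (Fin n) F := fun ad i j =>
    if h : j < i then ad.1 ⟨(i, j), h⟩ else if i = j then (ad.2 i : F) else 0
  have hMat : ∀ ad, ∀ i j : Fin n, i < j → Mat ad i j = 0 := by
    intro ad i j hij
    simp only [Mat]
    rw [dif_neg (not_lt.mpr hij.le), if_neg hij.ne]
  have hMatdet : ∀ ad, (Mat ad).det ≠ 0 := by
    intro ad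
    rw [det_lower _ (hMat ad)]
    apply Finset.prod_ne_zero_iff.mpr
    intro i _
    simp only [Mat]
    rw [dif_neg (lt_irrefl i), if_pos trivial]
    exact Units.ne_zero _
  let e : {g : Matrix.GeneralLinearGroup (Fin n) F // ∀ i j : Fin n, i < j →
      (g : Matrix (Fin n) (Fin n) F) i j = 0} ≃ (I → F) × (Fin n → Fˣ) :=
    { toFun := fun g => (fun p => (g.1 : Matrix (Fin n) (Fin n) F) p.1.1 p.1.2,
        fun i => Units.mk0 ((g.1 : Matrix (Fin n) (Fin n) F) i i) (hdiag g i))
      invFun := fun ad => ⟨Matrix.GeneralLinearGroup.mkOfDetNeZero (Mat ad) (hMatdet ad), hMat ad⟩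
      left_inv := by
        intro g
        apply Subtype.ext
        apply Matrix.GeneralLinearGroup.ext
        intro i j
        show Mat _ i j = _
        simp only [Mat]
        by_cases h : j < i
        · rw [dif_pos h]
        · rw [dif_neg h]
          by_cases h2 : i = j
          · rw [if_pos h2]; subst h2; rfl
          · rw [if_neg h2]
            exact (g.2 i j (lt_of_le_of_ne (not_lt.mp h) h2)).symm
      right_inv := by
        rintro ⟨a, d⟩
        apply Prod.ext
        · funext p
          show Mat (a, d) p.1.1 p.1.2 = a p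
          simp only [Mat]
          rw [dif_pos p.2]
        · funext i
          apply Units.ext
          show Mat (a, d) i i = d i
          simp only [Mat]
          rw [dif_neg (lt_irrefl i), if_pos trivial] }
  rw [Nat.card_congr e, Nat.card_eq_fintype_card, Fintype.card_prod, Fintype.card_fun,
    Fintype.card_fun, card_pairs, Fintype.card_units, hF, Fintype.card_fin]

end Cfsg.Agent.S0769
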