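import Cfsg.Statements.S0770
-- import your own Cfsg.Agent.* helpers here
import Mathlib

set_option autoImplicit false
open Cfsg

namespace Cfsg.Agent.S0770

open Matrix

section
variable {F : Type*} [Field F] {n : ℕ}

/-- the diagonal torus -/
abbrev torus (n : ℕ) (F : Type*) [Field F] : Subgroup (Matrix.GeneralLinearGroup (Fin n) F) :=
  (Units.map (Matrix.diagonalRingHom (Fin n) F).toMonoidHom).range

theorem mem_torus_iff (t : Matrix.GeneralLinearGroup (Fin n) F) :
    t ∈ torus n F ↔ ∀ i j : Fin n, i ≠ j → (t : Matrix (Fin n) (Fin n) F) i j = 0 := by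
  constructor
  · rintro ⟨u, rfl⟩ i j hij
    change Matrix.diagonal (u : Fin n → F) i j = 0
    exact Matrix.diagonal_apply_ne _ hij
  · intro h
    set d : Fin n → F := fun i => (t : Matrix (Fin n) (Fin n) F) i i with hd
    have htd : (t : Matrix (Fin n) (Fin n) F) = Matrix.diagonal d := by
      ext i j
      by_cases hij : i = j
      · subst hij; rw [Matrix.diagonal_apply_eq]
      · rw [Matrix.diagonal_apply_ne _ hij, h i j hij]
    have hdet : (t : Matrix (Fin n) (Fin n) F).det ≠ 0 := by
      have := Matrix.GeneralLinearGroup.det_ne_zero t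
      exact this
    rw [htd, Matrix.det_diagonal, Finset.prod_ne_zero_iff] at hdet
    have hd0 : ∀ i, d i ≠ 0 := fun i => hdet i (Finset.mem_univ _)
    let u : (Fin n → F)ˣ :=
      ⟨d, fun i => (d i)⁻¹, by ext i; simp [mul_inv_cancel₀ (hd0 i)],
        by ext i; simp [inv_mul_cancel₀ (hd0 i)]⟩
    refine ⟨u, ?_⟩
    apply Units.ext
    rw [htd]
    rfl

/-- monomial matrices -/
def IsMono (g : Matrix.GeneralLinearGroup (Fin n) F) : Prop :=
  ∀ i : Fin n, ∃! j : Fin n, (g : Matrix (Fin n) (Fin n) F) i j ≠ 0

theorem mono_key (g : Matrix.GeneralLinearGroup (Fin n) F) (σ : Fin n → Fin n)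
    (hσ : ∀ i j, (g : Matrix (Fin n) (Fin n) F) i j ≠ 0 → j = σ i) (i k : Fin n) :
    (g : Matrix (Fin n) (Fin n) F) i (σ i) * ((g⁻¹ : Matrix.GeneralLinearGroup (Fin n) F) : Matrix (Fin n) (Fin n) F) (σ i) k
      = if i = k then 1 else 0 := by
  have h1 : (g : Matrix (Fin n) (Fin n) F) * ((g⁻¹ : Matrix.GeneralLinearGroup (Fin n) F) : Matrix (Fin n) (Fin n) F) = 1 := by
    rw [← Units.val_mul, mul_inv_cancel]; rfl
  have h2 := congrFun (congrFun h1 i) k
  rw [Matrix.mul_apply, Matrix.one_apply] at h2
  rw [Finset.sum_eq_single (σ i)] at h2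
  · exact h2
  · intro j _ hj
    have : (g : Matrix (Fin n) (Fin n) F) i j = 0 := by
      by_contra hne
      exact hj (hσ i j hne)
    rw [this, zero_mul]
  · intro h; exact absurd (Finset.mem_univ _) h

theorem mono_conj (g : Matrix.GeneralLinearGroup (Fin n) F) (hg : IsMono g)
    (t : Matrix.GeneralLinearGroup (Fin n) F) (ht : t ∈ torus n F) : g * t * g⁻¹ ∈ torus n F := by
  classical
  rw [mem_torus_iff] at ht ⊢
  intro i k hik
  set σ : Fin n → Fin n := fun i => (hg i).choose with hσdef
  have hσ : ∀ i j, (g : Matrix (Fin n) (Fin n) F) i j ≠ 0 → j = σ i := fun i j h =>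
    (hg i).choose_spec.2 j h
  have hkey := mono_key g σ hσ
  rw [Units.val_mul, Units.val_mul, Matrix.mul_apply]
  apply Finset.sum_eq_zero
  intro j _
  rw [Matrix.mul_apply]
  by_cases hj : j = σ i
  · subst hj
    rw [Finset.sum_eq_single (σ i)]
    · have := hkey i k
      rw [if_neg hik] at this
      rw [mul_comm ((g : Matrix (Fin n) (Fin n) F) i (σ i)), mul_assoc, this, mul_zero]
    · intro l _ hl
      rw [ht l (σ i) hl, mul_zero]
    · intro h; exact absurd (Finset.mem_univ _) h
  · have : ∑ l, (g : Matrix (Fin n) (Fin n) F) i l * (t : Matrix (Fin n) (Fin n) F) l j = 0 := by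
      apply Finset.sum_eq_zero
      intro l _
      by_cases hl : l = j
      · subst hl
        have : (g : Matrix (Fin n) (Fin n) F) i l = 0 := by
          by_contra hne
          exact hj (hσ i l hne)
        rw [this, zero_mul]
      · rw [ht l j hl, mul_zero]
    rw [this, zero_mul]

theorem mono_inv (g : Matrix.GeneralLinearGroup (Fin n) F) (hg : IsMono g) : IsMono g⁻¹ := by
  classical
  set σ : Fin n → Fin n := fun i => (hg i).choose with hσdef
  have hσ : ∀ i j, (g : Matrix (Fin n) (Fin n) F) i j ≠ 0 → j = σ i := fun i j h =>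
    (hg i).choose_spec.2 j h
  have hσ0 : ∀ i, (g : Matrix (Fin n) (Fin n) F) i (σ i) ≠ 0 := fun i => (hg i).choose_spec.1
  have hkey := mono_key g σ hσ
  have hinj : Function.Injective σ := by
    intro i i' h
    by_contra hne
    have h1 := hkey i i
    have h2 := hkey i' i
    rw [if_pos rfl] at h1
    rw [if_neg (Ne.symm hne)] at h2
    have hne0 : ((g⁻¹ : Matrix.GeneralLinearGroup (Fin n) F) : Matrix (Fin n) (Fin n) F) (σ i) i ≠ 0 := by
      intro h0; rw [h0, mul_zero] at h1; exact zero_ne_one h1
    rw [← h] at h2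
    rcases mul_eq_zero.mp h2 with h3 | h3
    · exact hσ0 i' (by rw [← h]; exact h3)
    · exact hne0 h3
  have hbij : Function.Bijective σ := Finite.injective_iff_bijective.mp hinj
  intro j
  obtain ⟨i, rfl⟩ := hbij.2 j
  refine ⟨i, ?_, ?_⟩
  · intro h0
    have h1 := hkey i i
    rw [if_pos rfl, h0, mul_zero] at h1
    exact zero_ne_one h1
  · intro k hk
    by_contra hne
    have h2 := hkey i k
    rw [if_neg (Ne.symm hne)] at h2
    rcases mul_eq_zero.mp h2 with h3 | h3
    · exact hσ0 i h3
    · exact hk h3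

end


/-- For a field with at least 3 elements, an invertible matrix normalises the subgroup of invertible diagonal matrices of GL_n if and only if it is monomial (exactly one non-zero entry in each row). -/
theorem result {F : Type*} [Field F] (hF : ∃ a : F, a ≠ 0 ∧ a ≠ 1) (n : ℕ) (g : Matrix.GeneralLinearGroup (Fin n) F) : g ∈ Subgroup.normalizer ((Units.map (Matrix.diagonalRingHom (Fin n) F).toMonoidHom).range : Subgroup (Matrix.GeneralLinearGroup (Fin n) F)) ↔ ∀ i : Fin n, ∃! j : Fin n, (g : Matrix (Fin n) (Fin n) F) i j ≠ 0 := by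
  classical
  constructor
  · intro hg i
    -- existence
    have hex : ∃ j, (g : Matrix (Fin n) (Fin n) F) i j ≠ 0 := by
      by_contra h
      push Not at h
      have h1 : (g : Matrix (Fin n) (Fin n) F) * ((g⁻¹ : Matrix.GeneralLinearGroup (Fin n) F) : Matrix (Fin n) (Fin n) F) = 1 := by
        rw [← Units.val_mul, mul_inv_cancel]; rfl
      have h2 := congrFun (congrFun h1 i) i
      rw [Matrix.mul_apply, Matrix.one_apply_eq] at h2
      rw [Finset.sum_eq_zero (fun j _ => by rw [h j, zero_mul])] at h2
      exact zero_ne_one h2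
    obtain ⟨j, hj⟩ := hex
    refine ⟨j, hj, ?_⟩
    intro k hk
    by_contra hkj
    obtain ⟨a, ha0, ha1⟩ := hF
    set d : Fin n → F := Function.update (fun _ => (1 : F)) j a with hd
    have hd0 : ∀ l, d l ≠ 0 := by
      intro l
      rw [hd]
      by_cases hl : l = j
      · subst hl; rw [Function.update_self]; exact ha0
      · rw [Function.update_of_ne hl]; exact one_ne_zero
    let u : (Fin n → F)ˣ :=
      ⟨d, fun i => (d i)⁻¹, by ext i; simp [mul_inv_cancel₀ (hd0 i)],
        by ext i; simp [inv_mul_cancel₀ (hd0 i)]⟩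
    set t : Matrix.GeneralLinearGroup (Fin n) F :=
      Units.map (Matrix.diagonalRingHom (Fin n) F).toMonoidHom u with ht
    have htT : t ∈ (Units.map (Matrix.diagonalRingHom (Fin n) F).toMonoidHom).range := ⟨u, rfl⟩
    have htval : (t : Matrix (Fin n) (Fin n) F) = Matrix.diagonal d := rfl
    have hconj := (Subgroup.mem_normalizer_iff.mp hg t).mp htT
    obtain ⟨u', hu'⟩ := hconj
    have hu'val : ((g * t * g⁻¹ : Matrix.GeneralLinearGroup (Fin n) F) : Matrix (Fin n) (Fin n) F)
        = Matrix.diagonal (u' : Fin n → F) := by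
      rw [← hu']; rfl
    have heq : (g : Matrix (Fin n) (Fin n) F) * Matrix.diagonal d =
        Matrix.diagonal (u' : Fin n → F) * (g : Matrix (Fin n) (Fin n) F) := by
      rw [← hu'val, ← htval, ← Units.val_mul, ← Units.val_mul]
      congr 1
      group
    have e1 := congrFun (congrFun heq i) j
    have e2 := congrFun (congrFun heq i) k
    rw [Matrix.mul_diagonal, Matrix.diagonal_mul] at e1 e2
    have hdj : d j = a := by rw [hd, Function.update_self]
    have hdk : d k = 1 := by rw [hd, Function.update_of_ne hkj]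
    rw [hdj] at e1
    rw [hdk, mul_one] at e2
    have hu1 : (u' : Fin n → F) i = 1 := by
      have : (u' : Fin n → F) i * (g : Matrix (Fin n) (Fin n) F) i k = 1 * (g : Matrix (Fin n) (Fin n) F) i k := by
        rw [one_mul]; exact e2.symm
      exact mul_right_cancel₀ hk this
    rw [hu1, one_mul] at e1
    have : a = 1 := by
      have h3 : (g : Matrix (Fin n) (Fin n) F) i j * a = (g : Matrix (Fin n) (Fin n) F) i j * 1 := by
        rw [mul_one]; exact e1
      exact mul_left_cancel₀ hj h3
    exact ha1 this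
  · intro hg
    have hg' : IsMono g := hg
    rw [Subgroup.mem_normalizer_iff]
    intro t
    constructor
    · exact mono_conj g hg' t
    · intro h
      have := mono_conj g⁻¹ (mono_inv g hg') _ h
      have e : g⁻¹ * (g * t * g⁻¹) * g⁻¹⁻¹ = t := by group
      rw [e] at this
      exact this

end Cfsg.Agent.S0770
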