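import Cfsg.Statements.S0779
-- import your own Cfsg.Agent.* helpers here
import Mathlib

set_option autoImplicit false
open Cfsg

namespace Cfsg.Agent.S0779

open Matrix


/-- Unitary transvections: let |F| = q², h the standard Hermitian form Σ x_i y_i^q and v ≠ 0 with h(v, v) = 0. The linear map x ↦ x + c h(x, v) v is an isometry of h if and only if c = 0 or c^(q−1) = −1. -/
theorem result {F : Type*} [Field F] [Fintype F] {q : ℕ} (hF : Fintype.card F = q ^ 2) (n : ℕ) (v : Fin n → F) (hv : v ≠ 0) (hv0 : Cfsg.hermForm n F q v v = 0) (c : F) : (∀ x y : Fin n → F, Cfsg.hermForm n F q ((Cfsg.unitaryTransvection n q v c).mulVec x) ((Cfsg.unitaryTransvection n q v c).mulVec y) = Cfsg.hermForm n F q x y) ↔ (c = 0 ∨ c ^ (q - 1) = -1) := by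
  obtain ⟨p, hpchar⟩ := CharP.exists F
  obtain ⟨k', hp, hcard⟩ := FiniteField.card F p
  haveI : Fact p.Prime := ⟨hp⟩
  have hqdvd : q ∣ p ^ (k' : ℕ) := by
    rw [← hcard, hF]; exact Dvd.intro_left (q ^ 1) (by ring)
  obtain ⟨k, _, hqk⟩ := (Nat.dvd_prime_pow hp).mp hqdvd
  have hq1 : 1 ≤ q := by rw [hqk]; exact Nat.one_le_pow _ _ hp.pos
  -- Frobenius-type facts
  have hadd : ∀ a b : F, (a + b) ^ q = a ^ q + b ^ q := by
    intro a b; rw [hqk]; exact add_pow_char_pow a b p k
  have hsum : ∀ f : Fin n → F, (∑ i, f i) ^ q = ∑ i, f i ^ q := by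
    intro f; rw [hqk]; exact sum_pow_char_pow p k Finset.univ f
  have hqq : ∀ a : F, (a ^ q) ^ q = a := by
    intro a
    rw [← pow_mul, ← pow_two, ← hF]
    exact FiniteField.pow_card a
  set h := Cfsg.hermForm n F q with hh
  have h_add_left : ∀ u u' w, h (u + u') w = h u w + h u' w := by
    intro u u' w
    simp only [hh, Cfsg.hermForm, Pi.add_apply, add_mul, Finset.sum_add_distrib]
  have h_add_right : ∀ u w w', h u (w + w') = h u w + h u w' := by
    intro u w w'
    simp only [hh, Cfsg.hermForm, Pi.add_apply, hadd, mul_add, Finset.sum_add_distrib]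
  have h_smul_left : ∀ (a : F) u w, h (a • u) w = a * h u w := by
    intro a u w
    simp only [hh, Cfsg.hermForm, Pi.smul_apply, smul_eq_mul, Finset.mul_sum, mul_assoc]
  have h_smul_right : ∀ (a : F) u w, h u (a • w) = a ^ q * h u w := by
    intro a u w
    simp only [hh, Cfsg.hermForm, Pi.smul_apply, smul_eq_mul, Finset.mul_sum, mul_pow]
    apply Finset.sum_congr rfl; intro i _; ring
  have h_conj : ∀ y, h v y = (h y v) ^ q := by
    intro y
    simp only [hh, Cfsg.hermForm]
    rw [hsum]
    apply Finset.sum_congr rfl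
    intro i _
    rw [mul_pow, hqq, mul_comm]
  have hT : ∀ x, (Cfsg.unitaryTransvection n q v c).mulVec x = x + (c * h x v) • v := by
    intro x
    unfold Cfsg.unitaryTransvection
    rw [Matrix.add_mulVec, Matrix.one_mulVec, Matrix.smul_mulVec, Matrix.vecMulVec_mulVec,
      op_smul_eq_smul, smul_smul]
    congr 3
    simp only [hh, Cfsg.hermForm, dotProduct]
    apply Finset.sum_congr rfl; intro i _; ring
  have hkey : ∀ x y, h ((Cfsg.unitaryTransvection n q v c).mulVec x) ((Cfsg.unitaryTransvection n q v c).mulVec y)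
      = h x y + (c ^ q + c) * (h x v * (h y v) ^ q) := by
    intro x y
    rw [hT, hT, h_add_left, h_add_right, h_add_right, h_smul_left, h_smul_right, h_smul_right,
      h_smul_left, hv0, h_conj y, mul_pow]
    ring
  -- existence of x with h x v ≠ 0
  have hex : ∃ x, h x v ≠ 0 := by
    obtain ⟨i, hi⟩ := Function.ne_iff.mp hv
    refine ⟨Pi.single i 1, ?_⟩
    simp only [hh, Cfsg.hermForm]
    rw [Finset.sum_eq_single i]
    · simp only [Pi.single_eq_same, one_mul]
      exact pow_ne_zero _ hi
    · intro j _ hji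
      simp [Pi.single_apply, hji]
    · intro hi'; exact absurd (Finset.mem_univ i) hi'
  have hiff : (∀ x y : Fin n → F, h ((Cfsg.unitaryTransvection n q v c).mulVec x) ((Cfsg.unitaryTransvection n q v c).mulVec y) = h x y) ↔ c ^ q + c = 0 := by
    constructor
    · intro hall
      obtain ⟨x, hx⟩ := hex
      have := hall x x
      rw [hkey] at this
      have h2 : (c ^ q + c) * (h x v * (h x v) ^ q) = 0 := by linear_combination this
      rcases mul_eq_zero.mp h2 with h3 | h3
      · exact h3
      · exfalso
        rcases mul_eq_zero.mp h3 with h4 | h4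
        · exact hx h4
        · exact hx (pow_eq_zero_iff (by omega) |>.mp h4)
    · intro hc x y
      rw [hkey, hc, zero_mul, add_zero]
  rw [hiff]
  constructor
  · intro hc
    by_cases hc0 : c = 0
    · left; exact hc0
    · right
      have h1 : c * (c ^ (q - 1) + 1) = 0 := by
        have : c * c ^ (q - 1) = c ^ q := by
          rw [← pow_succ']; congr 1; omega
        rw [mul_add, this, mul_one]; exact hc
      rcases mul_eq_zero.mp h1 with h2 | h2
      · exact absurd h2 hc0
      · linear_combination h2
  · rintro (rfl | hc)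
    · rw [zero_pow (by omega), add_zero]
    · have : c ^ q = c * c ^ (q - 1) := by
        rw [← pow_succ']; congr 1; omega
      rw [this, hc]; ring

end Cfsg.Agent.S0779
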