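import Cfsg.Statements.S0781
import Mathlib
import Cfsg.Agent.Lib_helper29_USiegel
-- import your own Cfsg.Agent.* helpers here

set_option autoImplicit false
open Cfsg

namespace Cfsg.Agent.S0781

/-- In SU_n(q) with n ≥ 4, or n = 3 and q > 2, every element whose matrix is a unitary transvection x ↦ x + c h(x, v) v (v isotropic) is a commutator ⁅B, C⁆ of two elements of SU_n(q). -/
theorem result {F : Type*} [Field F] [Fintype F] {q : ℕ} (hF : Fintype.card F = q ^ 2) (n : ℕ) (hn : 4 ≤ n ∨ (n = 3 ∧ 3 ≤ q)) (A : ↥(Cfsg.SU n F q)) (v : Fin n → F) (c : F) (hv0 : Cfsg.hermForm n F q v v = 0) (hA : ((A : Matrix.SpecialLinearGroup (Fin n) F) : Matrix (Fin n) (Fin n) F) = Cfsg.unitaryTransvection n q v c) : A ∈ commutatorSet ↥(Cfsg.SU n F q) := by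
  have hn3 : 3 ≤ n := by omega
  have hAone : ((A : Matrix.SpecialLinearGroup (Fin n) F) : Matrix (Fin n) (Fin n) F) = 1 → A ∈ commutatorSet ↥(Cfsg.SU n F q) := by
    intro h1
    have : A = 1 := by
      apply Subtype.ext
      apply Subtype.ext
      exact h1
    rw [this]
    exact one_mem_commutatorSet _
  by_cases hv : v = 0
  · apply hAone
    rw [hA, hv]
    unfold Cfsg.unitaryTransvection
    simp
  by_cases hc0 : c = 0
  · apply hAone
    rw [hA, hc0]
    unfold Cfsg.unitaryTransvection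
    simp
  have hgA : Cfsg.Agent.helper29.suToGL n F q A = Cfsg.Agent.helper29.TTu q v c := by
    apply Units.ext
    rw [Cfsg.Agent.helper29.suToGL_val, hA, Cfsg.Agent.helper29.TTu_val v c hv0]
  have hGU := (Subgroup.mem_inf.mp (Cfsg.Agent.helper29.suToGL_mem A)).1
  have hc : c ^ q = -c := by
    obtain ⟨y, -, hyy, hvy⟩ := Cfsg.Agent.helper29.exists_partner_u hF ⊤
      (Cfsg.Agent.helper29.ndeg_top hF) v trivial hv hv0
    have hyv := Cfsg.Agent.helper29.herm_yx_of_xy hF v y hvy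
    have h := Cfsg.Agent.helper29.gu_herm _ hGU y y
    rw [hgA, Cfsg.Agent.helper29.TTu_mulVec v c hv0, hyv, mul_one] at h
    simp only [Cfsg.Agent.helper11.Unitary.herm_add_left,
      Cfsg.Agent.helper11.Unitary.herm_add_right hF,
      Cfsg.Agent.helper11.Unitary.herm_smul_left,
      Cfsg.Agent.helper11.Unitary.herm_smul_right, hyy, hv0, hvy, hyv] at h
    linear_combination h
  obtain ⟨g₁, hg₁, g₂, hg₂, hcomm⟩ := Cfsg.Agent.helper29.TTu_comm hF hn3 v c hv hv0 hc
  obtain ⟨a₁, ha₁⟩ := Cfsg.Agent.helper29.suToGL_surj g₁ hg₁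
  obtain ⟨a₂, ha₂⟩ := Cfsg.Agent.helper29.suToGL_surj g₂ hg₂
  rw [mem_commutatorSet_iff]
  refine ⟨a₁, a₂, ?_⟩
  apply Cfsg.Agent.helper29.suToGL_inj
  rw [map_commutatorElement, ha₁, ha₂, hcomm, hgA]

end Cfsg.Agent.S0781
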