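import Cfsg.Statements.S0782
import Mathlib
import Cfsg.Agent.Lib_helper29_UTI6
import Cfsg.Agent.S0278
import Cfsg.Agent.S0774
-- import your own Cfsg.Agent.* helpers here

set_option autoImplicit false
open Cfsg

namespace Cfsg.Agent.S0782

/-- Maximal parabolics of SU_n(q): if W is a k-dimensional subspace of F^n (n ≥ 1, |F| = q²) on which the Hermitian form vanishes, then (q + 1) times the order of its stabiliser in SU_n(q) equals q^(k(2n−3k)) · |GL_k(q²)| · |GU_(n−2k)(q)|, where |GU_m(q)| = q^(m(m−1)/2) Π_(i=1..m) (q^i − (−1)^i). -/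
theorem result {F : Type*} [Field F] [Fintype F] {q : ℕ} (hF : Fintype.card F = q ^ 2) (n k : ℕ) (hn : 1 ≤ n) (hk : 2 * k ≤ n) (W : Submodule F (Fin n → F)) (hWk : Module.finrank F W = k) (hW : ∀ u ∈ W, ∀ v ∈ W, Cfsg.hermForm n F q u v = 0) : (q + 1) * Nat.card ↥((Cfsg.stabilizing (Cfsg.slToMat n F) (W : Set (Fin n → F))).subgroupOf (Cfsg.SU n F q)) = q ^ (k * (2 * n - 3 * k)) * (∏ i : Fin k, ((q ^ 2) ^ k - (q ^ 2) ^ (i : ℕ))) * (q ^ ((n - 2 * k) * ((n - 2 * k) - 1) / 2) * ∏ i ∈ Finset.range (n - 2 * k), (if Even i then q ^ (i + 1) + 1 else q ^ (i + 1) - 1)) := by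
  classical
  have h2q := Cfsg.Agent.helper11.HermCount.two_le_q hF
  by_cases hk0 : k = 0
  · subst hk0
    have hWbot : W = ⊥ := Submodule.finrank_eq_zero.mp hWk
    have htop : (Cfsg.stabilizing (Cfsg.slToMat n F) (W : Set (Fin n → F))).subgroupOf
        (Cfsg.SU n F q) = ⊤ := by
      rw [eq_top_iff]
      intro s _
      rw [Subgroup.mem_subgroupOf]
      apply Cfsg.Agent.S0774.mem_of_forward
      intro v hv
      rw [hWbot] at hv ⊢
      have hv0 : v = 0 := hv
      rw [hv0, Matrix.mulVec_zero]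
      exact Submodule.zero_mem _
    rw [htop, Subgroup.card_top, Cfsg.Agent.S0278.result hF n hn]
    simp
  · obtain ⟨B⟩ : Nonempty (Module.Basis (Fin k) F W) := ⟨Module.finBasisOfFinrankEq F W hWk⟩
    obtain ⟨b₀, hb₀def⟩ : ∃ b₀ : Fin k → (Fin n → F), b₀ = fun i => ((B i : W) : Fin n → F) :=
      ⟨_, rfl⟩
    have hb₀ : LinearIndependent F b₀ := by
      rw [hb₀def]
      exact B.linearIndependent.map' W.subtype (Submodule.ker_subtype W)
    have hspan : Submodule.span F (Set.range b₀) = W := by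
      have e : Set.range b₀ = W.subtype '' Set.range B := by
        rw [hb₀def, ← Set.range_comp]
        rfl
      rw [e, ← Submodule.map_span, B.span_eq, Submodule.map_subtype_top]
    have hb₀W : ∀ i, b₀ i ∈ W := fun i => by rw [hb₀def]; exact (B i).2
    have hfr : Cfsg.Agent.helper29.UTI.IsFrame q b₀ :=
      ⟨hb₀, fun i j => hW _ (hb₀W i) _ (hb₀W j)⟩
    have hx0 : b₀ ⟨0, by omega⟩ ≠ 0 := hb₀.ne_zero _
    have h1 := Cfsg.Agent.helper29.UTI.card_SW_eq hF W hW (b₀ ⟨0, by omega⟩) (hb₀W _) hx0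
    have h2 := Cfsg.Agent.helper29.UTI.card_SW hF W hWk hW b₀ hb₀ hspan
    have h3 := Cfsg.Agent.helper29.UTI.card_GU_frames hF b₀ hfr
    have h4 := Cfsg.Agent.helper29.UTI.card_frames (F := F) hF k hk
    have h5 : Nat.card ↥(Cfsg.GU n F q) = Cfsg.Agent.helper29.UTI.guN q n :=
      Cfsg.Agent.helper11.Unitary.card_GU hF n
    have hGUpos : 0 < Nat.card ↥(Cfsg.GU n F q) := Nat.card_pos
    have hFpos : 0 < Nat.card (Cfsg.Agent.helper29.UTI.Frames q n F k) := by
      rw [h3] at hGUpos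
      exact Nat.pos_of_mul_pos_left hGUpos
    have h6 : Nat.card (MulAction.stabilizer ↥(Cfsg.GU n F q) b₀) =
        q ^ (k * (2 * n - 3 * k)) * Cfsg.Agent.helper29.UTI.guN q (n - 2 * k) := by
      apply Nat.eq_of_mul_eq_mul_right hFpos
      rw [← h3, h5, ← h4]
      ring
    rw [← h1, h2, h6]
    show _ = q ^ (k * (2 * n - 3 * k)) * (∏ i : Fin k, ((q ^ 2) ^ k - (q ^ 2) ^ (i : ℕ))) *
      Cfsg.Agent.helper29.UTI.guN q (n - 2 * k)
    ring

end Cfsg.Agent.S0782
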