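import Cfsg.Statements.S0783
-- import your own Cfsg.Agent.* helpers here
import Mathlib
import Cfsg.Agent.Lib_helper11_Unitary3

set_option autoImplicit false
open Cfsg

namespace Cfsg.Agent.S0783

open Cfsg.Agent.helper11.Unitary Cfsg.Agent.helper11.HermCount
open Matrix

set_option linter.unusedSectionVars false

/-- abstract cyclic-group lemma -/
theorem exists_psi {M : Type*} [CommGroup M] [Finite M] [IsCyclic M] (n N : ℕ)
    (hN : Nat.card M = N) :
    ∃ ψ : M →* Multiplicative (ZMod (Nat.gcd n N)), Function.Surjective ψ ∧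
      ψ.ker = (powMonoidHom n : M →* M).range := by
  classical
  have hidx : Nat.card (M ⧸ (powMonoidHom n : M →* M).range) = Nat.gcd n N := by
    rw [← Subgroup.index_eq_card, IsCyclic.index_powMonoidHom_range, hN, Nat.gcd_comm]
  have hcyc : IsCyclic (M ⧸ (powMonoidHom n : M →* M).range) :=
    isCyclic_of_surjective (QuotientGroup.mk' _) (QuotientGroup.mk'_surjective _)
  let e1 := (zmodCyclicMulEquiv hcyc).symm
  let e2 : Multiplicative (ZMod (Nat.card (M ⧸ (powMonoidHom n : M →* M).range))) ≃*
      Multiplicative (ZMod (Nat.gcd n N)) :=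
    AddEquiv.toMultiplicative (ZMod.ringEquivCongr hidx).toAddEquiv
  refine ⟨(e2.toMonoidHom.comp e1.toMonoidHom).comp
    (QuotientGroup.mk' (powMonoidHom n : M →* M).range), ?_, ?_⟩
  · intro y
    obtain ⟨x, hx⟩ := QuotientGroup.mk'_surjective (powMonoidHom n : M →* M).range
      (e1.symm (e2.symm y))
    refine ⟨x, ?_⟩
    simp only [MonoidHom.comp_apply, hx]
    simp
  · ext x
    rw [MonoidHom.mem_ker]
    simp only [MonoidHom.comp_apply, MulEquiv.coe_toMonoidHom]
    rw [MulEquiv.map_eq_one_iff, MulEquiv.map_eq_one_iff, ← MonoidHom.mem_ker,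
      QuotientGroup.ker_mk']

variable {F : Type*} [Field F] [Fintype F] {q : ℕ} {n : ℕ}

theorem perm_preserves (σ : Equiv.Perm (Fin n)) (u v : Fin n → F) :
    hermForm n F q ((σ.permMatrix F) *ᵥ u) ((σ.permMatrix F) *ᵥ v) = hermForm n F q u v := by
  rw [Matrix.permMatrix_mulVec, Matrix.permMatrix_mulVec]
  unfold hermForm
  exact Equiv.sum_comp σ (fun i => u i * v i ^ q)

/-- matrix of an element of GU -/
abbrev mat (g : GU n F q) : Matrix (Fin n) (Fin n) F :=
  ((g : Matrix.GeneralLinearGroup (Fin n) F) : Matrix (Fin n) (Fin n) F)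

theorem mat_mul (g h : GU n F q) : mat (g * h) = mat g * mat h := rfl

theorem mat_mkGU (hF : Fintype.card F = q ^ 2) (A : Matrix (Fin n) (Fin n) F)
    (hA : ∀ u v, hermForm n F q (A *ᵥ u) (A *ᵥ v) = hermForm n F q u v) :
    mat (mkGU hF A hA) = A := rfl

theorem mat_injective : Function.Injective (mat : GU n F q → Matrix (Fin n) (Fin n) F) := by
  intro g h hgh
  apply Subtype.ext
  apply Units.ext
  exact hgh

theorem center_comm (z : GU n F q) (hz : z ∈ Subgroup.center (GU n F q)) (s : GU n F q) :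
    mat s * mat z = mat z * mat s := by
  have := Subgroup.mem_center_iff.mp hz s
  rw [← mat_mul, ← mat_mul, this]

theorem center_offdiag (hF : Fintype.card F = q ^ 2) (z : GU n F q)
    (hz : z ∈ Subgroup.center (GU n F q)) (i j : Fin n) (hij : i ≠ j) : mat z i j = 0 := by
  obtain ⟨l, hl1, hl⟩ := exists_norm_one_ne_one hF
  have hd : ∀ k, Function.update (fun _ => (1 : F)) i l k *
      Function.update (fun _ => (1 : F)) i l k ^ q = 1 := by
    intro k
    by_cases hk : k = i
    · subst hk; simpa using hl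
    · simp [Function.update_of_ne hk]
  have h := center_comm z hz (mkGU hF _ (diag_preserves _ hd))
  rw [mat_mkGU] at h
  have h2 := congrFun (congrFun h i) j
  rw [Matrix.diagonal_mul, Matrix.mul_diagonal, Function.update_self,
    Function.update_of_ne (Ne.symm hij)] at h2
  have h3 : (l - 1) * mat z i j = 0 := by linear_combination h2
  rcases mul_eq_zero.mp h3 with h4 | h4
  · exact absurd (sub_eq_zero.mp h4) hl1
  · exact h4

theorem center_diag (hF : Fintype.card F = q ^ 2) (z : GU n F q)
    (hz : z ∈ Subgroup.center (GU n F q)) (i j : Fin n) : mat z i i = mat z j j := by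
  have h := center_comm z hz (mkGU hF _ (perm_preserves (Equiv.swap i j)))
  rw [mat_mkGU] at h
  have h2 : (Equiv.Perm.permMatrix F (Equiv.swap i j) * mat z) *ᵥ (Pi.single j 1) =
      (mat z * Equiv.Perm.permMatrix F (Equiv.swap i j)) *ᵥ (Pi.single j 1) := by rw [h]
  rw [← Matrix.mulVec_mulVec, ← Matrix.mulVec_mulVec, Matrix.permMatrix_mulVec,
    Matrix.permMatrix_mulVec, Matrix.mulVec_single_one] at h2
  have h3 : (Pi.single j (1 : F) : Fin n → F) ∘ (Equiv.swap i j) = Pi.single i 1 := by
    ext k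
    simp only [Function.comp_apply, Pi.single_apply]
    by_cases hk : k = i
    · subst hk; simp
    · rw [if_neg hk]
      by_cases hkj : k = j
      · subst hkj
        rw [Equiv.swap_apply_right, if_neg (Ne.symm hk)]
      · rw [Equiv.swap_apply_of_ne_of_ne hk hkj, if_neg hkj]
  rw [h3, Matrix.mulVec_single_one] at h2
  have h4 := congrFun h2 i
  simp only [Function.comp_apply, Equiv.swap_apply_left, Matrix.col_apply] at h4
  exact h4.symm

/-- scalar element of GU -/
noncomputable def scal (hF : Fintype.card F = q ^ 2) (l : F) (hl : l * l ^ q = 1) : GU n F q :=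
  mkGU hF (Matrix.diagonal fun _ => l) (diag_preserves _ (fun _ => hl))

theorem mat_scal (hF : Fintype.card F = q ^ 2) (l : F) (hl : l * l ^ q = 1) :
    mat (scal (n := n) hF l hl) = Matrix.diagonal fun _ => l := rfl

theorem scal_mem_center (hF : Fintype.card F = q ^ 2) (l : F) (hl : l * l ^ q = 1) :
    scal (n := n) hF l hl ∈ Subgroup.center (GU n F q) := by
  rw [Subgroup.mem_center_iff]
  intro g
  apply mat_injective
  rw [mat_mul, mat_mul, mat_scal]
  ext a b
  rw [Matrix.mul_diagonal, Matrix.diagonal_mul]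
  ring

theorem detGU_scal (hF : Fintype.card F = q ^ 2) (l : F) (hl : l * l ^ q = 1) :
    ((detGU n (scal (n := n) hF l hl) : Fˣ) : F) = l ^ n := by
  rw [detGU_val]
  change (mat (scal (n := n) hF l hl)).det = l ^ n
  rw [mat_scal, Matrix.det_diagonal, Finset.prod_const, Finset.card_univ, Fintype.card_fin]

theorem center_eq_scal (hF : Fintype.card F = q ^ 2) {m : ℕ} (z : GU (m + 1) F q)
    (hz : z ∈ Subgroup.center (GU (m + 1) F q)) :
    ∃ (l : F) (hl : l * l ^ q = 1), z = scal hF l hl := by
  have hm : mat z = Matrix.diagonal fun _ => mat z 0 0 := by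
    ext a b
    by_cases hab : a = b
    · subst hab
      rw [Matrix.diagonal_apply_eq]
      exact center_diag hF z hz a 0
    · rw [Matrix.diagonal_apply_ne _ hab]
      exact center_offdiag hF z hz a b hab
  have hl : mat z 0 0 * mat z 0 0 ^ q = 1 := by
    have h := (mem_GU_iff (z : Matrix.GeneralLinearGroup (Fin (m + 1)) F)).mp z.2
      (Pi.single 0 1) (Pi.single 0 1)
    rw [Matrix.mulVec_single_one, herm_col, herm_single_right (q_ne_zero hF),
      Pi.single_eq_same] at h
    rw [← h]
    symm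
    apply Finset.sum_eq_single 0
    · intro k _ hk
      have : mat z k 0 = 0 := center_offdiag hF z hz k 0 hk
      change mat z k 0 * mat z k 0 ^ q = 0
      rw [this, zero_mul]
    · intro h0
      exact absurd (Finset.mem_univ _) h0
  refine ⟨mat z 0 0, hl, ?_⟩
  apply mat_injective
  rw [mat_scal]
  exact hm


/-- PGU_n(q)/PSU_n(q) is cyclic of order (n, q+1): for n ≥ 2 and |F| = q² there is a surjective homomorphism from GU_n(q) onto the cyclic group of order gcd(n, q + 1) whose kernel is generated by the determinant-one elements together with the centre. -/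
theorem result {F : Type*} [Field F] [Fintype F] {q : ℕ} (hF : Fintype.card F = q ^ 2) (n : ℕ) (hn : 2 ≤ n) : ∃ φ : ↥(Cfsg.GU n F q) →* Multiplicative (ZMod (Nat.gcd n (q + 1))), Function.Surjective φ ∧ φ.ker = (Matrix.GeneralLinearGroup.det : Matrix.GeneralLinearGroup (Fin n) F →* Fˣ).ker.subgroupOf (Cfsg.GU n F q) ⊔ Subgroup.center ↥(Cfsg.GU n F q) := by
  obtain ⟨m, rfl⟩ : ∃ m, n = m + 1 := ⟨n - 1, by omega⟩
  have hδ : ∀ g : GU (m + 1) F q,
      detGU (m + 1) g ∈ (powMonoidHom (q + 1) : Fˣ →* Fˣ).ker := fun g => by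
    rw [← range_detGU hF]; exact ⟨g, rfl⟩
  have hδs : Function.Surjective
      ((detGU (F := F) (q := q) (m + 1)).codRestrict (powMonoidHom (q + 1) : Fˣ →* Fˣ).ker hδ) := by
    rintro ⟨d, hd⟩
    rw [← range_detGU (n := m) hF] at hd
    obtain ⟨g, rfl⟩ := hd
    exact ⟨g, Subtype.ext rfl⟩
  obtain ⟨ψ, hψs, hψk⟩ := exists_psi (M := (powMonoidHom (q + 1) : Fˣ →* Fˣ).ker) (m + 1) (q + 1)
    (card_norm_ker hF)
  refine ⟨ψ.comp ((detGU (F := F) (q := q) (m + 1)).codRestrict _ hδ), hψs.comp hδs, ?_⟩
  apply le_antisymm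
  · intro g hg
    rw [MonoidHom.mem_ker, MonoidHom.comp_apply, ← MonoidHom.mem_ker, hψk] at hg
    obtain ⟨y, hy⟩ := hg
    have hy2 : (y : Fˣ) ^ (m + 1) = detGU (m + 1) g := congrArg Subtype.val hy
    have hl : ((y : Fˣ) : F) * ((y : Fˣ) : F) ^ q = 1 := by
      have := y.2
      rw [MonoidHom.mem_ker, powMonoidHom_apply] at this
      rw [← pow_succ', ← Units.val_pow_eq_pow_val, this, Units.val_one]
    have hs : detGU (m + 1) (scal (n := m + 1) hF _ hl) = (y : Fˣ) ^ (m + 1) := by
      apply Units.ext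
      rw [detGU_scal, Units.val_pow_eq_pow_val]
    have hgs : g = (g * (scal (n := m + 1) hF _ hl)⁻¹) * scal (n := m + 1) hF _ hl := by
      rw [inv_mul_cancel_right]
    rw [hgs]
    apply Subgroup.mul_mem_sup
    · rw [Subgroup.mem_subgroupOf, MonoidHom.mem_ker]
      change detGU (m + 1) (g * (scal (n := m + 1) hF _ hl)⁻¹) = 1
      rw [map_mul, map_inv, hs, ← hy2, mul_inv_cancel]
    · exact scal_mem_center hF _ hl
  · rw [sup_le_iff]
    constructor
    · intro g hg
      rw [Subgroup.mem_subgroupOf, MonoidHom.mem_ker] at hg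
      rw [MonoidHom.mem_ker, MonoidHom.comp_apply]
      have : (detGU (F := F) (q := q) (m + 1)).codRestrict
          (powMonoidHom (q + 1) : Fˣ →* Fˣ).ker hδ g = 1 := Subtype.ext hg
      rw [this, map_one]
    · intro z hz
      obtain ⟨l, hl, rfl⟩ := center_eq_scal hF z hz
      rw [MonoidHom.mem_ker, MonoidHom.comp_apply, ← MonoidHom.mem_ker, hψk]
      have hl0 : l ≠ 0 := by
        rintro rfl
        rw [zero_mul] at hl
        exact zero_ne_one hl
      have hmem : Units.mk0 l hl0 ∈ (powMonoidHom (q + 1) : Fˣ →* Fˣ).ker := by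
        rw [MonoidHom.mem_ker, powMonoidHom_apply]
        apply Units.ext
        rw [Units.val_pow_eq_pow_val, Units.val_mk0, Units.val_one, pow_succ']
        exact hl
      refine ⟨⟨Units.mk0 l hl0, hmem⟩, ?_⟩
      apply Subtype.ext
      apply Units.ext
      change ((Units.mk0 l hl0 ^ (m + 1) : Fˣ) : F) = ((detGU (m + 1) (scal hF l hl) : Fˣ) : F)
      rw [detGU_scal, Units.val_pow_eq_pow_val, Units.val_mk0]

end Cfsg.Agent.S0783
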