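import Cfsg.Statements.S0785
-- import your own Cfsg.Agent.* helpers here
import Cfsg.Agent.Lib_helper4_Orth

set_option autoImplicit false
open Cfsg

namespace Cfsg.Agent.S0785

open Cfsg.Agent.helper4 Matrix

theorem mem_isometryGroup_iff {F : Type*} [Field F] {n : ℕ} (Q : (Fin n → F) → F)
    (g : Matrix.GeneralLinearGroup (Fin n) F) :
    g ∈ Cfsg.isometryGroup F Q ↔ ∀ u : Fin n → F, Q ((g : Matrix (Fin n) (Fin n) F) *ᵥ u) = Q u := by
  constructor
  · intro h u
    exact h u 0
  · intro h u v
    exact h u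

theorem det_sq_of_isometry {F : Type*} [Field F] {n : ℕ} (Q : QuadraticForm F (Fin n → F))
    (hQ : (QuadraticMap.polarBilin Q).Nondegenerate) (G : Matrix (Fin n) (Fin n) F)
    (hG : ∀ u : Fin n → F, Q (G *ᵥ u) = Q u) : G.det = 1 ∨ G.det = -1 := by
  set B : LinearMap.BilinForm F (Fin n → F) := QuadraticMap.polarBilin Q with hB
  have hpol : ∀ x y, B (G *ᵥ x) (G *ᵥ y) = B x y := by
    intro x y
    simp only [hB, QuadraticMap.polarBilin_apply_apply, QuadraticMap.polar, ← Matrix.mulVec_add, hG]
  have hcomp : LinearMap.BilinForm.comp B (Matrix.toLin' G) (Matrix.toLin' G) = B := by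
    apply LinearMap.ext₂
    intro x y
    rw [LinearMap.BilinForm.comp_apply, Matrix.toLin'_apply, Matrix.toLin'_apply]
    exact hpol _ _
  have hmat := congrArg LinearMap.BilinForm.toMatrix' hcomp
  rw [LinearMap.BilinForm.toMatrix'_comp, LinearMap.toMatrix'_toLin'] at hmat
  have hdet := congrArg Matrix.det hmat
  rw [Matrix.det_mul, Matrix.det_mul, Matrix.det_transpose] at hdet
  have hM : (LinearMap.BilinForm.toMatrix' B).det ≠ 0 := by
    rw [← Matrix.nondegenerate_iff_det_ne_zero]
    exact LinearMap.BilinForm.nondegenerate_toMatrix'_iff.mpr hQ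
  have h1 : (G.det - 1) * (G.det + 1) = 0 := by
    have : (G.det * G.det - 1) * (LinearMap.BilinForm.toMatrix' B).det = 0 := by
      linear_combination hdet
    rcases mul_eq_zero.mp this with h | h
    · linear_combination h
    · exact absurd h hM
  rcases mul_eq_zero.mp h1 with h | h
  · left; linear_combination h
  · right; linear_combination h


/-- det(I) = {±1}: for a quadratic form on F^n whose polar form is non-degenerate, every element of the isometry group has determinant 1 or −1, and as soon as Q takes a non-zero value some isometry has determinant −1. -/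
theorem result {F : Type*} [Field F] {n : ℕ} (Q : QuadraticForm F (Fin n → F)) (hQ : (QuadraticMap.polarBilin Q).Nondegenerate) : (∀ g : ↥(Cfsg.isometryGroup F ⇑Q), ((g : Matrix.GeneralLinearGroup (Fin n) F) : Matrix (Fin n) (Fin n) F).det = 1 ∨ ((g : Matrix.GeneralLinearGroup (Fin n) F) : Matrix (Fin n) (Fin n) F).det = -1) ∧ ((∃ v, Q v ≠ 0) → ∃ g : ↥(Cfsg.isometryGroup F ⇑Q), ((g : Matrix.GeneralLinearGroup (Fin n) F) : Matrix (Fin n) (Fin n) F).det = -1) := by
  constructor
  · intro g
    exact det_sq_of_isometry Q hQ _ ((mem_isometryGroup_iff (⇑Q) g.1).mp g.2)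
  · rintro ⟨v, hv⟩
    have hdet : (Cfsg.reflectionMatrix (⇑Q) v).det = -1 := det_reflection Q v hv
    have hunit : IsUnit (Cfsg.reflectionMatrix (⇑Q) v).det := by
      rw [hdet]; exact isUnit_one.neg
    let g : Matrix.GeneralLinearGroup (Fin n) F := Matrix.nonsingInvUnit _ hunit
    have hg : (g : Matrix (Fin n) (Fin n) F) = Cfsg.reflectionMatrix (⇑Q) v := rfl
    have hmem : g ∈ Cfsg.isometryGroup F (⇑Q) := by
      rw [mem_isometryGroup_iff]
      intro u
      rw [hg]
      exact Q_reflection Q v hv u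
    exact ⟨⟨g, hmem⟩, by rw [hg]; exact hdet⟩

end Cfsg.Agent.S0785
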