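import Cfsg.Statements.S0787
import Cfsg.Agent.Lib_helper13_Idx2

set_option autoImplicit false
open Cfsg

namespace Cfsg.Agent.S0787

open Matrix QuadraticMap Module Cfsg.Agent.helper13


/-- Existence and uniqueness of Ω: if F is finite, n ≥ 2, Q is a quadratic form on F^n with non-degenerate polar form and (|F|, n) ≠ (2, 4), then the group of isometries of determinant one has a unique subgroup of index 2. -/
theorem result {F : Type*} [Field F] [Fintype F] {n : ℕ} (hn : 2 ≤ n) (Q : QuadraticForm F (Fin n → F)) (hQ : (QuadraticMap.polarBilin Q).Nondegenerate) (h : Fintype.card F ≠ 2 ∨ n ≠ 4) : ∃! H : Subgroup ↥(Cfsg.specialIsometryGroup F ⇑Q), H.index = 2 := by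
  classical
  have hne : Fintype.card F ≠ 2 ∨ Fintype.card (Fin n) ≠ 4 := by
    rw [Fintype.card_fin]; exact h
  have hn2 : 2 ≤ Fintype.card (Fin n) := by rw [Fintype.card_fin]; exact hn
  have hn1 : 1 ≤ Fintype.card (Fin n) := by omega
  have hR : Subgroup.closure {r : ↥(Cfsg.isometryGroup F ⇑Q) |
      ∃ w, ∃ hw : Q w ≠ 0, r = reflG Q w hw} = ⊤ := by
    rw [eq_top_iff]
    intro g _
    have hg : g ∈ RU Q ⊤ := by
      by_cases h2 : (2 : F) = 0
      · exact cd2 Q h2 hQ hne g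
      · exact cartan_dieudonne Q h2 hQ g
    unfold RU at hg
    refine Subgroup.closure_mono ?_ hg
    rintro r ⟨w, -, hw, rfl⟩
    exact ⟨w, hw, rfl⟩
  have hinv : ∀ r ∈ {r : ↥(Cfsg.isometryGroup F ⇑Q) |
      ∃ w, ∃ hw : Q w ≠ 0, r = reflG Q w hw}, r * r = 1 := by
    rintro r ⟨w, hw, rfl⟩
    exact reflG_mul_self Q w hw
  have hmemS : ∀ g : ↥(Cfsg.isometryGroup F ⇑Q), g ∈ Cfsg.specialIsometryGroup F ⇑Q ↔
      ((g : Matrix.GeneralLinearGroup (Fin n) F) : Matrix (Fin n) (Fin n) F).det = 1 := by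
    intro g
    unfold Cfsg.specialIsometryGroup
    rw [MonoidHom.mem_ker, Units.ext_iff]
    simp
  have hRS : ∀ r ∈ {r : ↥(Cfsg.isometryGroup F ⇑Q) | ∃ w, ∃ hw : Q w ≠ 0, r = reflG Q w hw},
      ∀ s ∈ {r : ↥(Cfsg.isometryGroup F ⇑Q) | ∃ w, ∃ hw : Q w ≠ 0, r = reflG Q w hw},
      r * s ∈ Cfsg.specialIsometryGroup F ⇑Q := by
    rintro r ⟨w, hw, rfl⟩ s ⟨v, hv, rfl⟩
    rw [hmemS, Subgroup.coe_mul, Units.val_mul, Matrix.det_mul, det_reflG, det_reflG]
    ring
  haveI : (Cfsg.specialIsometryGroup F ⇑Q).Normal := by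
    unfold Cfsg.specialIsometryGroup
    infer_instance
  have hcS : commutator ↥(Cfsg.isometryGroup F ⇑Q) ≤ Cfsg.specialIsometryGroup F ⇑Q := by
    unfold Cfsg.specialIsometryGroup
    exact Abelianization.commutator_subset_ker _
  have hidx : (commutator ↥(Cfsg.isometryGroup F ⇑Q)).relIndex
      (Cfsg.specialIsometryGroup F ⇑Q) = 2 := by
    have h1 := Subgroup.relIndex_mul_index hcS
    obtain ⟨v1, hv1⟩ := exists_nonsing_top Q hQ hn1
    by_cases h2 : (2 : F) = 0
    · have htop : Cfsg.specialIsometryGroup F ⇑Q = ⊤ := by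
        rw [eq_top_iff, ← hR, Subgroup.closure_le]
        rintro r ⟨w, hw, rfl⟩
        rw [SetLike.mem_coe, hmemS, det_reflG]
        exact neg_one_eq_one_of_two h2
      rw [index_commutator_two Q h2 hQ hne hn1, htop, Subgroup.index_top] at h1
      rw [htop]
      omega
    · obtain ⟨θ, hθ⟩ := exists_spinor Q h2 hQ
      obtain ⟨δ, hδ, hδdet⟩ := exists_detSign Q h2 hQ
      have hS : Cfsg.specialIsometryGroup F ⇑Q = δ.ker := by
        ext g
        rw [hmemS, MonoidHom.mem_ker, hδdet]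
      have hSi : (Cfsg.specialIsometryGroup F ⇑Q).index = 2 := by
        rw [hS]
        exact index_ker_of_neg_one δ (reflG Q v1 hv1) (hδ v1 hv1)
      rw [index_commutator Q θ δ h2 hQ hn2 hθ hδ, hSi] at h1
      omega
  exact existsUnique_index_two (Cfsg.specialIsometryGroup F ⇑Q) _ hR hinv hRS hidx

end Cfsg.Agent.S0787
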