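import Cfsg.Statements.S0792
import Cfsg.Agent.Lib_helper13_ReflG

set_option autoImplicit false
open Cfsg

namespace Cfsg.Agent.S0792

open Matrix QuadraticMap Cfsg.Agent.helper13
theorem pairs_mem {F : Type*} [Field F] {n : ℕ} (Q : QuadraticForm F (Fin n → F)) :
    ∀ (k : ℕ) (vs : List (Fin n → F)), (∀ v ∈ vs, Q v ≠ 0) → vs.length = 2 * k →
      prodR Q vs ∈ Subgroup.closure {g : ↥(Cfsg.isometryGroup F ⇑Q) | ∃ u v : Fin n → F,
        Q u ≠ 0 ∧ Q v ≠ 0 ∧ ((g : Matrix.GeneralLinearGroup (Fin n) F) : Matrix (Fin n) (Fin n) F) =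
          Cfsg.reflectionMatrix ⇑Q u * Cfsg.reflectionMatrix ⇑Q v} := by
  intro k
  induction k with
  | zero =>
    intro vs _ hl
    have : vs = [] := List.length_eq_zero_iff.mp (by omega)
    rw [this, prodR_nil]
    exact Subgroup.one_mem _
  | succ k ih =>
    intro vs hvs hl
    match vs, hvs, hl with
    | [], _, hl => simp at hl
    | [a], _, hl => simp at hl; omega
    | a :: b :: rest, hvs, hl =>
      have ha : Q a ≠ 0 := hvs a (by simp)
      have hb : Q b ≠ 0 := hvs b (by simp)
      rw [prodR_cons, prodR_cons, ← mul_assoc]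
      apply Subgroup.mul_mem
      · apply Subgroup.subset_closure
        refine ⟨a, b, ha, hb, ?_⟩
        rw [reflG'_of Q a ha, reflG'_of Q b hb]
        rfl
      · apply ih rest
        · intro v hv
          exact hvs v (by simp [hv])
        · simp at hl
          omega


/-- For q odd and Q with non-degenerate polar form on F^n, the determinant-one isometries form the subgroup generated by all products r_u r_v of two reflections (Q(u), Q(v) ≠ 0). -/
theorem result {F : Type*} [Field F] [Fintype F] (h2 : (2 : F) ≠ 0) {n : ℕ} (Q : QuadraticForm F (Fin n → F)) (hQ : (QuadraticMap.polarBilin Q).Nondegenerate) : Cfsg.specialIsometryGroup F ⇑Q = Subgroup.closure {g : ↥(Cfsg.isometryGroup F ⇑Q) | ∃ u v : Fin n → F, Q u ≠ 0 ∧ Q v ≠ 0 ∧ ((g : Matrix.GeneralLinearGroup (Fin n) F) : Matrix (Fin n) (Fin n) F) = Cfsg.reflectionMatrix ⇑Q u * Cfsg.reflectionMatrix ⇑Q v} := by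
  classical
  obtain ⟨δ, hδ, hδdet⟩ := exists_detSign Q h2 hQ
  apply le_antisymm
  · intro g hg
    have hdet : ((g : Matrix.GeneralLinearGroup (Fin n) F) : Matrix (Fin n) (Fin n) F).det = 1 := by
      have h1 := MonoidHom.mem_ker.mp hg
      have h3 := congrArg Units.val h1
      simpa using h3
    have hd : δ g = 1 := (hδdet g).mpr hdet
    obtain ⟨vs, hvs, rfl⟩ := exists_list Q h2 hQ g
    rw [delta_prodR Q δ hδ vs hvs, neg_one_pow_eq_one_iff_even int_units_neg_one_ne_one] at hd
    obtain ⟨k, hk⟩ := hd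
    exact pairs_mem Q k vs hvs (by omega)
  · rw [Subgroup.closure_le]
    rintro g ⟨u, v, hu, hv, hg⟩
    show g ∈ MonoidHom.ker _
    rw [MonoidHom.mem_ker]
    apply Units.ext
    simp only [MonoidHom.comp_apply, Subgroup.coe_subtype, Matrix.GeneralLinearGroup.val_det_apply,
      Units.val_one]
    rw [hg, Matrix.det_mul, Cfsg.Agent.helper4.det_reflection Q u hu,
      Cfsg.Agent.helper4.det_reflection Q v hv]
    ring

end Cfsg.Agent.S0792
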