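import Cfsg.Statements.S0796
-- import your own Cfsg.Agent.* helpers here
import Mathlib

set_option autoImplicit false
open Cfsg

namespace Cfsg.Agent.S0796


/-- If G is finite and acts faithfully and primitively on X, H is the stabiliser of a point, A is a normal subgroup of H whose normal closure in G is G, then for every non-trivial normal subgroup K of G the quotient G ⧸ K is isomorphic to A ⧸ B for some normal subgroup B of A. -/
theorem result {G X : Type*} [Group G] [Finite G] [MulAction G X] [FaithfulSMul G X] (hprim : MulAction.IsPreprimitive G X) (x : X) (A : Subgroup G) (hA : A ≤ MulAction.stabilizer G x) (hAn : (A.subgroupOf (MulAction.stabilizer G x)).Normal) (hgen : Subgroup.normalClosure (A : Set G) = ⊤) (K : Subgroup G) [K.Normal] (hK : K ≠ ⊥) : ∃ (B : Subgroup A) (_ : B.Normal), Nonempty (G ⧸ K ≃* A ⧸ B) := by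
  have hfix : MulAction.fixedPoints K X ≠ Set.univ := by
    intro h
    apply hK
    rw [Subgroup.eq_bot_iff_forall]
    intro k hk
    apply FaithfulSMul.eq_of_smul_eq_smul (α := X)
    intro y
    rw [one_smul]
    have : y ∈ MulAction.fixedPoints K X := by rw [h]; trivial
    exact this ⟨k, hk⟩
  have htrK : MulAction.IsPretransitive K X :=
    MulAction.IsQuasiPreprimitive.isPretransitive_of_normal hfix
  -- every g is k * h with k ∈ K, h in the stabilizer
  have hdecomp : ∀ g : G, ∃ k ∈ K, ∃ h ∈ MulAction.stabilizer G x, g = k * h := by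
    intro g
    obtain ⟨k, hk⟩ := MulAction.exists_smul_eq K x (g • x)
    refine ⟨k, k.2, (k : G)⁻¹ * g, ?_, by group⟩
    rw [MulAction.mem_stabilizer_iff, mul_smul]
    have : (k : G) • x = g • x := hk
    rw [← this, inv_smul_smul]
  have hconjA : ∀ h ∈ MulAction.stabilizer G x, ∀ a ∈ A, h * a * h⁻¹ ∈ A := by
    intro h hh a ha
    have := hAn.conj_mem ⟨a, hA ha⟩ (by rw [Subgroup.mem_subgroupOf]; exact ha) ⟨h, hh⟩
    rw [Subgroup.mem_subgroupOf] at this
    exact this
  have hnormal : (K ⊔ A).Normal := by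
    constructor
    intro n hn g
    obtain ⟨k, hk, h, hh, rfl⟩ := hdecomp g
    have hn' : n ∈ ((K ⊔ A : Subgroup G) : Set G) := hn
    rw [Subgroup.normal_mul] at hn'
    obtain ⟨k', hk', a', ha', rfl⟩ := hn'
    have h1 : h * (k' * a') * h⁻¹ ∈ K ⊔ A := by
      have : h * (k' * a') * h⁻¹ = (h * k' * h⁻¹) * (h * a' * h⁻¹) := by group
      rw [this]
      exact (K ⊔ A).mul_mem (Subgroup.mem_sup_left (Subgroup.Normal.conj_mem inferInstance k' hk' h))
        (Subgroup.mem_sup_right (hconjA h hh a' ha'))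
    have h2 : k * h * (k' * a') * (k * h)⁻¹ = k * (h * (k' * a') * h⁻¹) * k⁻¹ := by group
    rw [h2]
    exact (K ⊔ A).mul_mem ((K ⊔ A).mul_mem (Subgroup.mem_sup_left hk) h1)
      ((K ⊔ A).inv_mem (Subgroup.mem_sup_left hk))
  have htop : K ⊔ A = ⊤ := by
    rw [eq_top_iff, ← hgen]
    exact Subgroup.normalClosure_le_normal (fun a ha => Subgroup.mem_sup_right ha)
  let φ : A →* G ⧸ K := (QuotientGroup.mk' K).comp A.subtype
  have hφ : Function.Surjective φ := by
    intro q
    obtain ⟨g, rfl⟩ := QuotientGroup.mk_surjective q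
    have hg : g ∈ ((K ⊔ A : Subgroup G) : Set G) := by rw [htop]; trivial
    rw [Subgroup.normal_mul] at hg
    obtain ⟨k, hk, a, ha, rfl⟩ := hg
    refine ⟨⟨a, ha⟩, ?_⟩
    change (QuotientGroup.mk' K) a = (QuotientGroup.mk' K) (k * a)
    rw [map_mul]
    have : (QuotientGroup.mk' K) k = 1 := by
      rw [QuotientGroup.mk'_apply, QuotientGroup.eq_one_iff]; exact hk
    rw [this, one_mul]
  exact ⟨φ.ker, inferInstance, ⟨(QuotientGroup.quotientKerEquivOfSurjective φ hφ).symm⟩⟩

end Cfsg.Agent.S0796
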