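import Cfsg.Statements.S0797
import Cfsg.Agent.Lib_helper13_ReflG

set_option autoImplicit false
open Cfsg

namespace Cfsg.Agent.S0797

open Matrix QuadraticMap Cfsg.Agent.helper13


/-- O^ε_2m(q) ≅ Ω.2² for q odd: if F is finite of odd characteristic, n ≥ 2 is even and Q has non-degenerate polar form on F^n, the isometry group of Q has exactly three subgroups of index 2. -/
theorem result {F : Type*} [Field F] [Fintype F] (h2 : (2 : F) ≠ 0) {n : ℕ} (hn : 2 ≤ n) (heven : Even n) (Q : QuadraticForm F (Fin n → F)) (hQ : (QuadraticMap.polarBilin Q).Nondegenerate) : Nat.card {H : Subgroup ↥(Cfsg.isometryGroup F ⇑Q) // H.index = 2} = 3 := by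
  classical
  have hn' : 2 ≤ Fintype.card (Fin n) := by rw [Fintype.card_fin]; exact hn
  obtain ⟨θ, hθ⟩ := exists_spinor Q h2 hQ
  obtain ⟨δ, hδ, -⟩ := exists_detSign Q h2 hQ
  obtain ⟨v1, vn, hv1, hvn, hs1, hsn⟩ := exists_class_reps Q h2 hQ hn'
  have hmm : (-1 : ℤˣ) * -1 = 1 := by decide
  have key : ∀ H : Subgroup ↥(Cfsg.isometryGroup F ⇑Q),
      H.index = 2 ↔ H = θ.ker ∨ H = δ.ker ∨ H = (θ * δ).ker := by
    intro H
    constructor
    · intro hH
      let χ : ↥(Cfsg.isometryGroup F ⇑Q) →* ℤˣ :=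
        { toFun := fun g => if g ∈ H then 1 else -1
          map_one' := by simp [H.one_mem]
          map_mul' := by
            intro a b
            by_cases ha : a ∈ H <;> by_cases hb : b ∈ H <;>
              simp [ha, hb, Subgroup.mul_mem_iff_of_index_two hH, int_units_neg_one_ne_one] }
      have hker : H = χ.ker := by
        ext g
        rw [MonoidHom.mem_ker]
        show _ ↔ (if g ∈ H then (1 : ℤˣ) else -1) = 1
        by_cases hg : g ∈ H <;> simp [hg, int_units_neg_one_ne_one]
      rcases hom_classification Q θ δ h2 hQ hn' hθ hδ χ with h | h | h | h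
      · exfalso
        have : H = ⊤ := by
          rw [hker, h]
          exact MonoidHom.ker_one
        rw [this, Subgroup.index_top] at hH
        omega
      · left; rw [hker, h]
      · right; left; rw [hker, h]
      · right; right; rw [hker, h]
    · rintro (rfl | rfl | rfl)
      · exact index_ker_of_neg_one θ (reflG Q vn hvn) (theta_eq_neg_one Q θ hθ vn hvn hsn)
      · exact index_ker_of_neg_one δ (reflG Q v1 hv1) (hδ v1 hv1)
      · exact index_ker_of_neg_one (θ * δ) (reflG Q v1 hv1)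
          (by rw [MonoidHom.mul_apply, theta_eq_one Q θ hθ v1 hv1 hs1, hδ, one_mul])
  have e : {H : Subgroup ↥(Cfsg.isometryGroup F ⇑Q) // H.index = 2} ≃
      ↥({θ.ker, δ.ker, (θ * δ).ker} : Set (Subgroup ↥(Cfsg.isometryGroup F ⇑Q))) :=
    Equiv.subtypeEquivRight (fun H => by
      rw [key]
      simp [Set.mem_insert_iff])
  rw [Nat.card_congr e, Nat.card_coe_set_eq, Set.ncard_eq_three]
  refine ⟨θ.ker, δ.ker, (θ * δ).ker, ?_, ?_, ?_, rfl⟩
  · intro h
    have h1 : reflG Q v1 hv1 ∈ θ.ker := MonoidHom.mem_ker.mpr (theta_eq_one Q θ hθ v1 hv1 hs1)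
    rw [h, MonoidHom.mem_ker, hδ] at h1
    exact int_units_neg_one_ne_one h1
  · intro h
    have h1 : reflG Q v1 hv1 ∈ θ.ker := MonoidHom.mem_ker.mpr (theta_eq_one Q θ hθ v1 hv1 hs1)
    rw [h, MonoidHom.mem_ker, MonoidHom.mul_apply, theta_eq_one Q θ hθ v1 hv1 hs1, hδ,
      one_mul] at h1
    exact int_units_neg_one_ne_one h1
  · intro h
    have h1 : reflG Q vn hvn ∈ (θ * δ).ker := by
      rw [MonoidHom.mem_ker, MonoidHom.mul_apply, theta_eq_neg_one Q θ hθ vn hvn hsn, hδ, hmm]
    rw [← h, MonoidHom.mem_ker, hδ] at h1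
    exact int_units_neg_one_ne_one h1

end Cfsg.Agent.S0797
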