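import Cfsg.Statements.S0800
import Cfsg.Agent.Lib_helper11_SL2Order

set_option autoImplicit false
open Cfsg

namespace Cfsg.Agent.S0800

theorem result {F : Type*} [Field F] [Fintype F] {q : ℕ} (hF : Fintype.card F = q) (p : ℕ) [Fact p.Prime] [CharP F p] (g : Matrix.SpecialLinearGroup (Fin 2) F) (hg : Nat.Coprime (orderOf g) p) : orderOf g ∣ q - 1 ∨ orderOf g ∣ q + 1 := by
  subst hF
  rcases Cfsg.Agent.helper11.SL2.sl2_pow_trichotomy p g with h | h | h
  · left
    exact orderOf_dvd_of_pow_eq_one h
  · right
    exact orderOf_dvd_of_pow_eq_one h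
  · left
    have h1 : orderOf g ∣ 2 * p := orderOf_dvd_of_pow_eq_one h
    have h2 : orderOf g ∣ 2 := (Nat.Coprime.dvd_mul_right hg).mp h1
    rcases (Nat.dvd_prime Nat.prime_two).mp h2 with h3 | h3
    · rw [h3]
      exact one_dvd _
    · rw [h3]
      have hp2 : p ≠ 2 := by
        rintro rfl
        rw [h3] at hg
        norm_num at hg
      have hchar : ringChar F ≠ 2 := by
        rw [ringChar.eq F p]
        exact hp2
      have := (not_congr (FiniteField.even_card_iff_char_two (F := F))).mp hchar
      have hpos : 1 ≤ Fintype.card F := Fintype.card_pos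
      omega

end Cfsg.Agent.S0800
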