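import Cfsg.Statements.S0801
-- import your own Cfsg.Agent.* helpers here
import Mathlib
import Cfsg.Agent.Lib_helper4_G120B
import Cfsg.Agent.Lib_helper4_RedJ
import Cfsg.Agent.Lib_helper4_DkG

set_option autoImplicit false
open Cfsg

namespace Cfsg.Agent.S0801

open Matrix Cfsg.Agent.helper4.Dk Cfsg.Agent.helper4.Red Cfsg.Agent.helper4

theorem caseA {F : Type*} [Field F] [Fintype F] (h2 : (2 : F) ≠ 0) (lam : F)
    (hgen : Subfield.closure ({lam} : Set F) = ⊤)
    (hlam : lam ≠ 0)
    (hc : ¬ (Fintype.card F = 9 ∧ lam ^ 2 = -1)) :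
    Subgroup.closure (G120.gens lam) = ⊤ := by
  classical
  obtain ⟨p, hp⟩ := CharP.exists F
  haveI := hp
  haveI : Fact p.Prime := ⟨CharP.char_is_prime F p⟩
  haveI : CharP (AlgebraicClosure F) p :=
    charP_of_injective_algebraMap (algebraMap F (AlgebraicClosure F)).injective p
  have hp2 : p ≠ 2 := by
    rintro rfl
    apply h2
    have : ((2 : ℕ) : F) = 0 := CharP.cast_eq_zero F 2
    exact_mod_cast this
  have hl1 : lS (1 : F) ∈ Subgroup.closure (G120.gens lam) :=
    Subgroup.subset_closure (Or.inl rfl)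
  have hul : uS lam ∈ Subgroup.closure (G120.gens lam) :=
    Subgroup.subset_closure (Or.inr rfl)
  have ht : -(algebraMap F (AlgebraicClosure F) lam) ≠ 0 := by
    rw [neg_ne_zero]
    intro h
    apply hlam
    apply (algebraMap F (AlgebraicClosure F)).injective
    rw [h, map_zero]
  have hconj_l : ∀ a : AlgebraicClosure F, (wS (0 : AlgebraicClosure F))⁻¹ * lS a * wS 0 = uS (-a) := by
    intro a
    apply sl_ext' <;>
      simp [mul_00, mul_01, mul_10, mul_11, inv_00, inv_01, inv_10, inv_11]
  have hconj_u : ∀ a : AlgebraicClosure F, (wS (0 : AlgebraicClosure F))⁻¹ * uS a * wS 0 = lS (-a) := by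
    intro a
    apply sl_ext' <;>
      simp [mul_00, mul_01, mul_10, mul_11, inv_00, inv_01, inv_10, inv_11]
  have hGle : Subgroup.closure {uS (1 : AlgebraicClosure F), lS (-(algebraMap F (AlgebraicClosure F) lam))} ≤
      cjS (wS 0) ((Subgroup.closure (G120.gens lam)).map (slMap F (AlgebraicClosure F))) := by
    rw [Subgroup.closure_le]
    rintro x (rfl | rfl)
    · rw [SetLike.mem_coe, mem_cjS, hconj_u]
      refine ⟨(lS (1 : F))⁻¹, Subgroup.inv_mem _ hl1, ?_⟩
      rw [lS_inv, slMap_lS, map_neg, map_one]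
    · rw [SetLike.mem_coe, mem_cjS, hconj_l, neg_neg]
      exact ⟨uS lam, hul, slMap_uS F _ lam⟩
  have hfin0 : Finite (SpecialLinearGroup (Fin 2) F) := Subtype.finite
  have hfin1 : Finite ((Subgroup.closure (G120.gens lam)).map (slMap F (AlgebraicClosure F))) := by
    have : (((Subgroup.closure (G120.gens lam)).map (slMap F (AlgebraicClosure F)) :
        Subgroup (SpecialLinearGroup (Fin 2) (AlgebraicClosure F))) :
        Set (SpecialLinearGroup (Fin 2) (AlgebraicClosure F))).Finite := by
      rw [Subgroup.coe_map]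
      exact (Set.toFinite _).image _
    exact this.to_subtype
  have : Finite (Subgroup.closure {uS (1 : AlgebraicClosure F), lS (-(algebraMap F (AlgebraicClosure F) lam))}) :=
    Finite.of_injective (Subgroup.inclusion hGle) (Subgroup.inclusion_injective _)
  rcases dickson hp2 ht _ rfl with ⟨F', htF', hF'⟩ | ⟨hp3, ht2⟩
  · have hall : ∀ b : F, algebraMap F (AlgebraicClosure F) b ∈ F' := by
      have hle : Subfield.closure ({lam} : Set F) ≤ F'.comap (algebraMap F (AlgebraicClosure F)) := by
        rw [Subfield.closure_le]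
        intro y hy
        rw [Set.mem_singleton_iff] at hy
        subst hy
        have := F'.neg_mem htF'
        rw [neg_neg] at this
        exact this
      rw [hgen] at hle
      intro b
      exact hle (Subfield.mem_top b)
    apply Cfsg.Agent.helper11.SL2U.eq_top_of_uS_lS_mem
    · intro b
      have h1 := (hF' _ (F'.neg_mem (hall b))).2
      have h3 := hGle h1
      rw [mem_cjS, hconj_l, neg_neg] at h3
      obtain ⟨g, hg, hge⟩ := h3
      rw [← slMap_uS] at hge
      rw [slMap_injective F _ hge] at hg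
      exact hg
    · intro b
      have h1 := (hF' _ (F'.neg_mem (hall b))).1
      have h3 := hGle h1
      rw [mem_cjS, hconj_u, neg_neg] at h3
      obtain ⟨g, hg, hge⟩ := h3
      rw [← slMap_lS] at hge
      rw [slMap_injective F _ hge] at hg
      exact hg
  · exfalso
    subst hp3
    have hl : lam ^ 2 = -1 := by
      apply (algebraMap F (AlgebraicClosure F)).injective
      rw [map_pow, map_neg, map_one, ← ht2, neg_sq]
    apply hc
    refine ⟨?_, hl⟩
    have := G120.card_eq_nine hl hgen
    rw [Nat.card_eq_fintype_card] at this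
    exact this


/-- Let F be a finite field of odd characteristic and λ ≠ 0 an element generating F as a field. Then the lower and upper unitriangular matrices with off-diagonal entries 1 and λ generate SL_2(F), unless |F| = 9 and λ² = −1, in which case they generate a subgroup of order 120. -/
theorem result {F : Type*} [Field F] [Fintype F] (h2 : (2 : F) ≠ 0) (lam : F) (hlam : lam ≠ 0) (hgen : Subfield.closure ({lam} : Set F) = ⊤) : (Subgroup.closure {g : Matrix.SpecialLinearGroup (Fin 2) F | (g : Matrix (Fin 2) (Fin 2) F) = !![1, 0; 1, 1] ∨ (g : Matrix (Fin 2) (Fin 2) F) = !![1, lam; 0, 1]} = ⊤ ∧ ¬ (Fintype.card F = 9 ∧ lam ^ 2 = -1)) ∨ (Fintype.card F = 9 ∧ lam ^ 2 = -1 ∧ Nat.card ↥(Subgroup.closure {g : Matrix.SpecialLinearGroup (Fin 2) F | (g : Matrix (Fin 2) (Fin 2) F) = !![1, 0; 1, 1] ∨ (g : Matrix (Fin 2) (Fin 2) F) = !![1, lam; 0, 1]}) = 120) := by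
  by_cases hc : Fintype.card F = 9 ∧ lam ^ 2 = -1
  · right
    obtain ⟨h9, hl⟩ := hc
    have : CharP F 3 := G120.charP_three_of_card h9
    exact ⟨h9, hl, G120.card_closure hl⟩
  · left
    exact ⟨caseA h2 lam hgen hlam hc, hc⟩

end Cfsg.Agent.S0801
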