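import Cfsg.Statements.S0806
-- import your own Cfsg.Agent.* helpers here
import Mathlib
import Cfsg.Agent.Lib_helper4_DnI

set_option autoImplicit false
open Cfsg

namespace Cfsg.Agent.S0806

open Matrix
open Cfsg.Agent.helper4.Dk Cfsg.Agent.helper4.Dn

theorem neg_one_mem_center {F : Type*} [Field F] :
    (-1 : SpecialLinearGroup (Fin 2) F) ∈ Subgroup.center (SpecialLinearGroup (Fin 2) F) := by
  rw [Subgroup.mem_center_iff]
  intro g
  simp


/-- Minimal index (Galois): if q ∉ {2, 3, 5, 7, 9, 11} then every proper subgroup of PSL_2(q) has index ≥ q + 1, and some subgroup has index exactly q + 1. -/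
theorem result {F : Type*} [Field F] [Fintype F] {q : ℕ} (hF : Fintype.card F = q) (hq : q ∉ ({2, 3, 5, 7, 9, 11} : Finset ℕ)) : (∀ H : Subgroup (Matrix.ProjectiveSpecialLinearGroup (Fin 2) F), H ≠ ⊤ → q + 1 ≤ H.index) ∧ ∃ H : Subgroup (Matrix.ProjectiveSpecialLinearGroup (Fin 2) F), H.index = q + 1 := by
  classical
  subst hF
  set π := QuotientGroup.mk' (Subgroup.center (SpecialLinearGroup (Fin 2) F)) with hπ
  have hπs : Function.Surjective π := QuotientGroup.mk'_surjective _
  constructor
  · intro H hH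
    have h1 : (H.comap π).index = H.index := Subgroup.index_comap_of_surjective H hπs
    rw [← h1]
    apply index_ge hq
    · rw [Subgroup.mem_comap]
      have : π (-1) = 1 := by
        rw [hπ, QuotientGroup.mk'_apply, QuotientGroup.eq_one_iff]
        exact neg_one_mem_center
      rw [this]; exact H.one_mem
    · intro htop
      apply hH
      rw [← Subgroup.map_comap_eq_self_of_surjective hπs H, htop, Subgroup.map_top_of_surjective π hπs]
  · refine ⟨(GB (⊤ : Subgroup (SpecialLinearGroup (Fin 2) F))).map π, ?_⟩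
    have hker : π.ker ≤ GB (⊤ : Subgroup (SpecialLinearGroup (Fin 2) F)) := by
      intro g hg
      rw [hπ, QuotientGroup.ker_mk'] at hg
      obtain ⟨r, _, hr⟩ := Matrix.SpecialLinearGroup.mem_center_iff.mp hg
      refine ⟨Subgroup.mem_top _, ?_⟩
      have := congrFun (congrFun hr 1) 0
      simp at this
      exact this.symm
    rw [Subgroup.index_map_eq _ hπs hker]
    have h1 := Subgroup.card_mul_index (GB (⊤ : Subgroup (SpecialLinearGroup (Fin 2) F)))
    rw [card_GB_top, Cfsg.Agent.helper12.card_SL2] at h1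
    have hq2 : 2 ≤ Fintype.card F := Fintype.one_lt_card
    obtain ⟨m, hm⟩ : ∃ m, Fintype.card F = m + 2 := ⟨Fintype.card F - 2, by omega⟩
    rw [hm] at h1 ⊢
    have e1 : m + 2 - 1 = m + 1 := by omega
    have e2 : (m + 2) ^ 2 - 1 = (m + 1) * (m + 3) := by
      have : (m + 2) ^ 2 = (m + 1) * (m + 3) + 1 := by ring
      omega
    rw [e1, e2] at h1
    have h3 : (m + 1) * (m + 2) * (GB (⊤ : Subgroup (SpecialLinearGroup (Fin 2) F))).index =
        (m + 1) * (m + 2) * (m + 3) := by rw [h1]; ring
    exact Nat.eq_of_mul_eq_mul_left (by positivity) h3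

end Cfsg.Agent.S0806
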