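import Cfsg.Statements.S0810
-- import your own Cfsg.Agent.* helpers here
import Mathlib
import Cfsg.Agent.Lib_helper4_DnAA

set_option autoImplicit false
open Cfsg

namespace Cfsg.Agent.S0810

open Matrix
open Cfsg.Agent.helper4.Dk Cfsg.Agent.helper4.Dn


/-- PSL_2(q) is minimal simple iff q is 2^r (r prime), 3^r (r an odd prime), a prime greater than 5 congruent to 2 or 3 mod 5, or 5. -/
theorem result {F : Type*} [Field F] [Fintype F] {q : ℕ} (hF : Fintype.card F = q) : Cfsg.IsMinimalSimple (Matrix.ProjectiveSpecialLinearGroup (Fin 2) F) ↔ ((∃ r : ℕ, r.Prime ∧ q = 2 ^ r) ∨ (∃ r : ℕ, r.Prime ∧ r ≠ 2 ∧ q = 3 ^ r) ∨ (q.Prime ∧ 5 < q ∧ (q % 5 = 2 ∨ q % 5 = 3)) ∨ q = 5) := by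
  classical
  subst hF
  constructor
  · intro hMS
    obtain ⟨hsimple, hnc, hsolv⟩ := hMS
    have hno : ¬ ∃ H : Subgroup (Matrix.ProjectiveSpecialLinearGroup (Fin 2) F),
        H ≠ ⊤ ∧ ¬ Group.IsSolvable H := by
      rintro ⟨H, h1, h2⟩
      exact h2 (hsolv H h1)
    obtain ⟨p, hpc⟩ := CharP.exists F
    obtain ⟨f, hp, hcard⟩ := FiniteField.card F p
    have hf1 : 1 ≤ (f : ℕ) := f.pos
    have hp2 := hp.two_le
    -- `q ≥ 4`
    have h4 : 4 ≤ Fintype.card F := by
      by_contra hlt
      push Not at hlt
      have h2 : 2 ≤ Fintype.card F := Fintype.one_lt_card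
      have hs : Group.IsSolvable (Matrix.ProjectiveSpecialLinearGroup (Fin 2) F) := by
        have h1 := Cfsg.Agent.helper2.card_SL_eq_card_PSL_mul (F := F) 2
        rw [Cfsg.Agent.helper12.card_SL2, Cfsg.Agent.helper2.card_center_SL 2 (by norm_num)] at h1
        have h23 : Fintype.card F = 2 ∨ Fintype.card F = 3 := by omega
        rcases h23 with h | h
        · rw [h] at h1
          norm_num at h1
          exact solvable_of_card_two_pow_mul_three 1 (by rw [Nat.card_eq_fintype_card]; omega)
        · rw [h] at h1
          norm_num at h1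
          exact solvable_of_card_two_pow_mul_three 2 (by rw [Nat.card_eq_fintype_card]; omega)
      haveI := hsimple
      have := (IsSimpleGroup.comm_iff_isSolvable).mpr hs
      exact hnc ⟨⟨this⟩⟩
    have hsub : ∀ a : ℕ, a ∣ (f : ℕ) → a < (f : ℕ) → 4 ≤ p ^ a → False := by
      intro a ha hlt h4a
      have ha0 : a ≠ 0 := by
        rintro rfl
        norm_num at h4a
      haveI : Fact p.Prime := ⟨hp⟩
      haveI : Fintype (GaloisField p a) := Fintype.ofFinite _
      have hK : Fintype.card (GaloisField p a) = p ^ a := by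
        rw [← Nat.card_eq_fintype_card, GaloisField.card p a ha0]
      obtain ⟨m, hm⟩ := ha
      obtain ⟨ι⟩ := Cfsg.Agent.S0805.exists_ringHom (F := F) (K := GaloisField p a) m
        (by rw [hK, hcard, hm, pow_mul])
      exact hno (not_minimal_of_subfield ι (by rw [hK]; exact h4a)
        (by rw [hK, hcard]; exact Nat.pow_lt_pow_right hp.one_lt hlt))
    have hA5 : 7 ≤ Fintype.card F → ¬ 5 ∣ Fintype.card F * (Fintype.card F ^ 2 - 1) :=
      fun h7 h5 => hno (not_minimal_of_A5 h5 h7)
    by_cases hfone : (f : ℕ) = 1
    · -- `q = p`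
      rw [hfone, pow_one] at hcard
      rw [hcard] at h4 hA5 ⊢
      by_cases hp5 : p = 5
      · right; right; right; exact hp5
      · right; right; left
        have hp7 : 7 ≤ p := by
          have h6 : p ≠ 6 := by
            rintro rfl
            norm_num at hp
          have h4' : p ≠ 4 := by
            rintro rfl
            norm_num at hp
          omega
        refine ⟨hp, by omega, ?_⟩
        by_contra hmod
        have hp1 : 1 ≤ p ^ 2 := Nat.one_le_pow _ _ (by omega)
        have hcases : p % 5 = 0 ∨ p % 5 = 1 ∨ p % 5 = 4 := by omega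
        rcases hcases with h | h | h
        · have : 5 ∣ p := Nat.dvd_of_mod_eq_zero h
          exact hp5 ((Nat.prime_dvd_prime_iff_eq Nat.prime_five hp).mp this).symm
        · apply hA5 hp7
          apply dvd_mul_of_dvd_right
          apply Nat.dvd_of_mod_eq_zero
          have : p ^ 2 % 5 = 1 := by rw [Nat.pow_mod, h]
          omega
        · apply hA5 hp7
          apply dvd_mul_of_dvd_right
          apply Nat.dvd_of_mod_eq_zero
          have : p ^ 2 % 5 = 1 := by rw [Nat.pow_mod, h]
          omega
    · have hf2 : 2 ≤ (f : ℕ) := by omega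
      by_cases hp2' : p = 2
      · subst hp2'
        by_cases hfp : (f : ℕ).Prime
        · left; exact ⟨f, hfp, hcard⟩
        · exfalso
          have hlt := (Nat.not_prime_iff_minFac_lt hf2).mp hfp
          have hmf := Nat.minFac_prime (by omega : (f : ℕ) ≠ 1)
          apply hsub _ (Nat.minFac_dvd f) hlt
          calc 4 = 2 ^ 2 := by norm_num
            _ ≤ 2 ^ (f : ℕ).minFac := Nat.pow_le_pow_right (by norm_num) hmf.two_le
      · by_cases hp3 : p = 3
        · subst hp3
          by_cases hfp : (f : ℕ).Prime
          · by_cases hf2' : (f : ℕ) = 2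
            · exfalso
              rw [hf2'] at hcard
              rw [hcard] at hA5
              exact hA5 (by norm_num) (by norm_num)
            · right; left; exact ⟨f, hfp, hf2', hcard⟩
          · exfalso
            have hlt := (Nat.not_prime_iff_minFac_lt hf2).mp hfp
            have hmf := Nat.minFac_prime (by omega : (f : ℕ) ≠ 1)
            apply hsub _ (Nat.minFac_dvd f) hlt
            calc 4 ≤ 3 ^ 2 := by norm_num
              _ ≤ 3 ^ (f : ℕ).minFac := Nat.pow_le_pow_right (by norm_num) hmf.two_le
        · exfalso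
          have hp5 : 5 ≤ p := by
            have h4' : p ≠ 4 := by
              rintro rfl
              norm_num at hp
            omega
          apply hsub 1 (one_dvd _) (by omega)
          rw [pow_one]; omega
  · intro h
    exact minimalSimple_of_list h

end Cfsg.Agent.S0810
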