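import Cfsg.Statements.S0811
-- import your own Cfsg.Agent.* helpers here
import Mathlib
import Cfsg.Agent.Lib_helper4_DnP

set_option autoImplicit false
open Cfsg

namespace Cfsg.Agent.S0811

open Matrix
open Cfsg.Agent.helper4.Dk Cfsg.Agent.helper4.Dn


/-- For q ∉ {2, 7, 9}, PSL_2(q) has a maximal subgroup isomorphic to the dihedral group of order 2(q + 1)/d, d = gcd(2, q − 1). -/
theorem result {F : Type*} [Field F] [Fintype F] {q : ℕ} (hF : Fintype.card F = q) (hq : q ∉ ({2, 7, 9} : Finset ℕ)) : ∃ H : Subgroup (Matrix.ProjectiveSpecialLinearGroup (Fin 2) F), IsCoatom H ∧ Nonempty (H ≃* DihedralGroup ((q + 1) / Nat.gcd 2 (q - 1))) := by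
  classical
  subst hF
  have hq2 : 2 ≤ Fintype.card F := Fintype.one_lt_card
  simp only [Finset.mem_insert, Finset.mem_singleton, not_or] at hq
  obtain ⟨hq_2, hq_7, hq_9⟩ := hq
  obtain ⟨y, y', c₀, g₀, hyy, hord, hc1, hc2, hg1, hg2⟩ :=
    nonsplit_data (F := F) (K := AlgebraicClosure F)
  by_cases hq3 : Fintype.card F = 3
  · have := coatom_dihedral_three (K := AlgebraicClosure F) hq3 hyy (by rw [hord, hq3]) hc1 hc2 hg1 hg2
    rw [hq3] at this ⊢
    exact this
  · have hq4 : 4 ≤ Fintype.card F := by omega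
    exact coatom_dihedral (K := AlgebraicClosure F) hyy (Or.inr rfl) hq4 hq_9
      (fun _ => hq_7) (fun h => by omega) hord hc1 hc2 hg1 hg2

end Cfsg.Agent.S0811
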