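import Cfsg.Statements.S0812
-- import your own Cfsg.Agent.* helpers here
import Mathlib
import Cfsg.Agent.Lib_helper4_DnN

set_option autoImplicit false
open Cfsg

namespace Cfsg.Agent.S0812

open Matrix
open Cfsg.Agent.helper4.Dk Cfsg.Agent.helper4.Dn


/-- For q ∉ {2, 3, 5, 7, 9, 11}, PSL_2(q) has a maximal subgroup isomorphic to the dihedral group of order 2(q − 1)/d, d = gcd(2, q − 1). -/
theorem result {F : Type*} [Field F] [Fintype F] {q : ℕ} (hF : Fintype.card F = q) (hq : q ∉ ({2, 3, 5, 7, 9, 11} : Finset ℕ)) : ∃ H : Subgroup (Matrix.ProjectiveSpecialLinearGroup (Fin 2) F), IsCoatom H ∧ Nonempty (H ≃* DihedralGroup ((q - 1) / Nat.gcd 2 (q - 1))) := by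
  classical
  subst hF
  have hq2 : 2 ≤ Fintype.card F := Fintype.one_lt_card
  simp only [Finset.mem_insert, Finset.mem_singleton, not_or] at hq
  obtain ⟨hq_2, hq_3, hq_5, hq_7, hq_9, hq_11⟩ := hq
  have hpp : IsPrimePow (Fintype.card F) := FiniteField.isPrimePow_card F
  have hq4 : 4 ≤ Fintype.card F := by omega
  obtain ⟨c₀, g₀, hord, hc1, hc2, hg1, hg2⟩ := split_data (F := F) (K := AlgebraicClosure F)
  exact coatom_dihedral (K := AlgebraicClosure F) (Ne.symm (pt_ne_pInf 0)) (Or.inl rfl) hq4 hq_9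
    (fun h => by omega) (fun _ => ⟨hq_5, hq_7, hq_11⟩) hord hc1 hc2 hg1 hg2

end Cfsg.Agent.S0812
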