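import Cfsg.Statements.S2162
import Cfsg.Agent.Lib_helper11_SqZero

set_option autoImplicit false
open Cfsg

namespace Cfsg.Agent.S2162

open Cfsg.Agent.helper11 Module

variable {F : Type*} [Field F] [Fintype F] [CharP F 2]

theorem sq_zero_of_order_two {n : ℕ} (a : Matrix.SpecialLinearGroup (Fin n) F)
    (ha : orderOf a = 2) :
    ((a : Matrix (Fin n) (Fin n) F) - 1) * ((a : Matrix (Fin n) (Fin n) F) - 1) = 0 := by
  have h1 : a ^ 2 = 1 := by rw [← ha]; exact pow_orderOf_eq_one a
  have h2 : (a : Matrix (Fin n) (Fin n) F) * (a : Matrix (Fin n) (Fin n) F) = 1 := by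
    have := congrArg (fun x : Matrix.SpecialLinearGroup (Fin n) F =>
      (x : Matrix (Fin n) (Fin n) F)) h1
    simpa [pow_two] using this
  have h3 : (a : Matrix (Fin n) (Fin n) F) + (a : Matrix (Fin n) (Fin n) F) = 0 := by
    rw [← two_smul F, CharTwo.two_eq_zero, zero_smul]
  have h4 : (1 : Matrix (Fin n) (Fin n) F) + 1 = 0 := by
    rw [← two_smul F, CharTwo.two_eq_zero, zero_smul]
  calc ((a : Matrix (Fin n) (Fin n) F) - 1) * ((a : Matrix (Fin n) (Fin n) F) - 1)
      = (a : Matrix (Fin n) (Fin n) F) * (a : Matrix (Fin n) (Fin n) F)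
        - ((a : Matrix (Fin n) (Fin n) F) + (a : Matrix (Fin n) (Fin n) F)) + 1 := by
        noncomm_ring
    _ = 0 := by rw [h2, h3, sub_zero, h4]

theorem result {F : Type*} [Field F] [Fintype F] [CharP F 2] {n : ℕ} (hn : 3 ≤ n) (a b : Matrix.SpecialLinearGroup (Fin n) F) (ha : orderOf a = 2) (hb : orderOf b = 2) :
    IsConj a b ↔ ((a : Matrix (Fin n) (Fin n) F) - 1).rank = ((b : Matrix (Fin n) (Fin n) F) - 1).rank := by
  classical
  constructor
  · intro h
    obtain ⟨c, hc⟩ := isConj_iff.mp h
    have hcb : (b : Matrix (Fin n) (Fin n) F) - 1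
        = (c : Matrix (Fin n) (Fin n) F) * ((a : Matrix (Fin n) (Fin n) F) - 1)
          * ((c⁻¹ : Matrix.SpecialLinearGroup (Fin n) F) : Matrix (Fin n) (Fin n) F) := by
      have h1 : (c : Matrix (Fin n) (Fin n) F)
          * ((c⁻¹ : Matrix.SpecialLinearGroup (Fin n) F) : Matrix (Fin n) (Fin n) F) = 1 := by
        rw [← Matrix.SpecialLinearGroup.coe_mul, mul_inv_cancel, Matrix.SpecialLinearGroup.coe_one]
      rw [← hc, Matrix.SpecialLinearGroup.coe_mul, Matrix.SpecialLinearGroup.coe_mul, mul_sub,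
        sub_mul, mul_one, h1]
    have hu1 : IsUnit (c : Matrix (Fin n) (Fin n) F).det := by
      rw [c.2]; exact isUnit_one
    have hu2 : IsUnit ((c⁻¹ : Matrix.SpecialLinearGroup (Fin n) F) :
        Matrix (Fin n) (Fin n) F).det := by
      rw [(c⁻¹).2]; exact isUnit_one
    rw [hcb, Matrix.rank_mul_eq_left_of_isUnit_det _ _ hu2,
      Matrix.rank_mul_eq_right_of_isUnit_det _ _ hu1]
  · intro hrank
    set A : Matrix (Fin n) (Fin n) F := (a : Matrix (Fin n) (Fin n) F) with hA
    set B : Matrix (Fin n) (Fin n) F := (b : Matrix (Fin n) (Fin n) F) with hB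
    have hsq : ∀ x : F, IsSquare x :=
      FiniteField.isSquare_of_char_two (ringChar.eq F 2)
    have hNa : ∀ v, Matrix.toLin' (A - 1) (Matrix.toLin' (A - 1) v) = 0 := by
      intro v
      rw [Matrix.toLin'_apply, Matrix.toLin'_apply, Matrix.mulVec_mulVec, hA,
        sq_zero_of_order_two a ha, Matrix.zero_mulVec]
    have hNb : ∀ v, Matrix.toLin' (B - 1) (Matrix.toLin' (B - 1) v) = 0 := by
      intro v
      rw [Matrix.toLin'_apply, Matrix.toLin'_apply, Matrix.mulVec_mulVec, hB,
        sq_zero_of_order_two b hb, Matrix.zero_mulVec]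
    have hne : Matrix.toLin' (A - 1) ≠ 0 := by
      intro h0
      have h1 : A - 1 = 0 := by
        apply Matrix.toLin'.injective
        rw [h0, map_zero]
      have h2 : a = 1 := by
        apply Subtype.ext
        rw [Matrix.SpecialLinearGroup.coe_one]
        exact sub_eq_zero.mp h1
      rw [h2, orderOf_one] at ha
      norm_num at ha
    have hrk : finrank F (LinearMap.range (Matrix.toLin' (A - 1)))
        = finrank F (LinearMap.range (Matrix.toLin' (B - 1))) := by
      have h1 : ∀ M : Matrix (Fin n) (Fin n) F,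
          finrank F (LinearMap.range (Matrix.toLin' M)) = M.rank := by
        intro M
        rw [Matrix.rank, Matrix.toLin'_apply']
      rw [h1, h1]
      exact hrank
    obtain ⟨P, hdet, hP⟩ := exists_intertwiner_det_one hsq _ _ hNa hNb hrk hne
    set C : Matrix (Fin n) (Fin n) F := LinearMap.toMatrix' P with hC
    have hCdet : C.det = 1 := by
      rw [hC, LinearMap.det_toMatrix']
      exact hdet
    have hCN : C * (A - 1) = (B - 1) * C := by
      have h1 : P ∘ₗ Matrix.toLin' (A - 1) = Matrix.toLin' (B - 1) ∘ₗ P :=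
        LinearMap.ext hP
      have h2 := congrArg LinearMap.toMatrix' h1
      rw [LinearMap.toMatrix'_comp, LinearMap.toMatrix'_comp, LinearMap.toMatrix'_toLin',
        LinearMap.toMatrix'_toLin'] at h2
      exact h2
    have hCA : C * A = B * C := by
      rw [mul_sub, sub_mul, mul_one, one_mul] at hCN
      exact sub_left_injective hCN
    rw [isConj_iff]
    let c : Matrix.SpecialLinearGroup (Fin n) F := ⟨C, hCdet⟩
    have hc : c * a = b * c := by
      apply Subtype.ext
      rw [Matrix.SpecialLinearGroup.coe_mul, Matrix.SpecialLinearGroup.coe_mul]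
      exact hCA
    exact ⟨c, mul_inv_eq_iff_eq_mul.mpr hc⟩

end Cfsg.Agent.S2162
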