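import Cfsg.Statements.S0820
import Cfsg.Agent.S2162

set_option autoImplicit false
open Cfsg

namespace Cfsg.Agent.S0820

variable {F : Type*} [Field F] [Fintype F]

/-- an involution of `PSL₃(F)` lifts to an involution of `SL₃(F)` -/
theorem exists_lift (x : Matrix.ProjectiveSpecialLinearGroup (Fin 3) F) (hx : orderOf x = 2) :
    ∃ X : Matrix.SpecialLinearGroup (Fin 3) F,
      (QuotientGroup.mk X : Matrix.ProjectiveSpecialLinearGroup (Fin 3) F) = x ∧ orderOf X = 2 := by
  obtain ⟨X, rfl⟩ := QuotientGroup.mk_surjective x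
  have hx2 : (QuotientGroup.mk X : Matrix.ProjectiveSpecialLinearGroup (Fin 3) F) ^ 2 = 1 := by
    rw [← hx, pow_orderOf_eq_one]
  have hx1 : (QuotientGroup.mk X : Matrix.ProjectiveSpecialLinearGroup (Fin 3) F) ≠ 1 := by
    intro h
    rw [h, orderOf_one] at hx
    norm_num at hx
  have h2 : X ^ 2 ∈ Subgroup.center (Matrix.SpecialLinearGroup (Fin 3) F) := by
    rw [← QuotientGroup.eq_one_iff, QuotientGroup.mk_pow, hx2]
  obtain ⟨l, hl3, hl⟩ := Matrix.SpecialLinearGroup.mem_center_iff.mp h2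
  have h6 : (X ^ 2) ^ 3 = 1 := by
    apply Subtype.ext
    rw [Matrix.SpecialLinearGroup.coe_pow, ← hl, ← map_pow]
    simp only [Fintype.card_fin] at hl3
    rw [hl3, map_one, Matrix.SpecialLinearGroup.coe_one]
  have hmk : (QuotientGroup.mk (X ^ 3) : Matrix.ProjectiveSpecialLinearGroup (Fin 3) F)
      = QuotientGroup.mk X := by
    rw [QuotientGroup.mk_pow, pow_succ, hx2, one_mul]
  refine ⟨X ^ 3, hmk, ?_⟩
  apply orderOf_eq_prime
  · rw [← pow_mul, mul_comm, pow_mul]; exact h6
  · intro h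
    rw [h] at hmk
    exact hx1 hmk.symm

theorem rank_eq_one [CharP F 2] (Z : Matrix.SpecialLinearGroup (Fin 3) F) (hZ : orderOf Z = 2) :
    ((Z : Matrix (Fin 3) (Fin 3) F) - 1).rank = 1 := by
  have h0 := Cfsg.Agent.S2162.sq_zero_of_order_two Z hZ
  have h1 := Matrix.rank_add_rank_le_card_of_mul_eq_zero h0
  simp only [Fintype.card_fin] at h1
  have h2 : ((Z : Matrix (Fin 3) (Fin 3) F) - 1).rank ≠ 0 := by
    intro h
    rw [Matrix.rank] at h
    have h3 := Submodule.finrank_eq_zero.mp h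
    have h4 := LinearMap.range_eq_bot.mp h3
    have h5 : (Z : Matrix (Fin 3) (Fin 3) F) - 1 = 0 := by
      apply Matrix.toLin'.injective
      rw [Matrix.toLin'_apply', h4, map_zero]
    have h6 : Z = 1 := by
      apply Subtype.ext
      rw [Matrix.SpecialLinearGroup.coe_one]
      exact sub_eq_zero.mp h5
    rw [h6, orderOf_one] at hZ
    norm_num at hZ
  omega

/-- Any two elements of order 2 of PSL_3(4) are conjugate. -/
theorem result {F : Type*} [Field F] [Fintype F] (hF : Fintype.card F = 4) (x y : Matrix.ProjectiveSpecialLinearGroup (Fin 3) F) (hx : orderOf x = 2) (hy : orderOf y = 2) : IsConj x y := by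
  haveI : Fact (Nat.Prime 2) := ⟨Nat.prime_two⟩
  haveI : CharP F 2 := charP_of_card_eq_prime_pow (f := 2) (by rw [hF]; norm_num)
  obtain ⟨X, rfl, hX⟩ := exists_lift x hx
  obtain ⟨Y, rfl, hY⟩ := exists_lift y hy
  have h := (Cfsg.Agent.S2162.result (le_refl 3) X Y hX hY).mpr
    (by rw [rank_eq_one X hX, rank_eq_one Y hY])
  exact (QuotientGroup.mk' _).map_isConj h

end Cfsg.Agent.S0820
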