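import Cfsg.Statements.S0823
import Cfsg.Agent.Lib_helper11_A4S4
import Cfsg.Agent.Lib_helper13_IsoTransfer
import Cfsg.Agent.S0286

open Cfsg

namespace Cfsg.Agent.S0823

open Matrix Cfsg.Agent.helper11

abbrev I3 := Unit ⊕ (Fin 1 ⊕ Fin 1)
abbrev K := ZMod 3
abbrev M3 := Matrix I3 I3 K

/-- the index bijection -/
def ix : I3 → Fin 3 := Sum.elim (fun _ => 0) (Sum.elim (fun _ => 1) (fun _ => 2))

def m1 : M3 := (!![1, 0, 0; 0, -1, 0; 0, 0, -1] : Matrix (Fin 3) (Fin 3) K).submatrix ix ix
def m2 : M3 := (!![1, 0, 1; -1, -1, 1; 0, 0, -1] : Matrix (Fin 3) (Fin 3) K).submatrix ix ix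
def m3 : M3 := (!![-1, 0, 0; 0, 0, 1; 0, 1, 0] : Matrix (Fin 3) (Fin 3) K).submatrix ix ix
def m0 : M3 := (!![-1, 0, 0; 0, 1, 0; 0, 0, 1] : Matrix (Fin 3) (Fin 3) K).submatrix ix ix

theorem m1_sq : m1 * m1 = 1 := by decide
theorem m2_sq : m2 * m2 = 1 := by decide
theorem m3_sq : m3 * m3 = 1 := by decide
theorem m0_sq : m0 * m0 = 1 := by decide
theorem m12 : (m1 * m2) ^ 3 = 1 := by decide
theorem m23 : (m2 * m3) ^ 3 = 1 := by decide
theorem m13 : (m1 * m3) ^ 2 = 1 := by decide
theorem m13_ne : m1 * m3 ≠ 1 := by decide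

theorem iso1 : ∀ u : I3 → K, quadFormOdd 1 K (m1 *ᵥ u) = quadFormOdd 1 K u := by decide
theorem iso2 : ∀ u : I3 → K, quadFormOdd 1 K (m2 *ᵥ u) = quadFormOdd 1 K u := by decide
theorem iso3 : ∀ u : I3 → K, quadFormOdd 1 K (m3 *ᵥ u) = quadFormOdd 1 K u := by decide
theorem iso0 : ∀ u : I3 → K, quadFormOdd 1 K (m0 *ᵥ u) = quadFormOdd 1 K u := by decide

theorem det1 : m1.det = 1 := by decide
theorem det2 : m2.det = 1 := by decide
theorem det3 : m3.det = 1 := by decide
theorem det0 : m0.det ≠ 1 := by decide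

/-- an involutory matrix as an element of `GL` -/
def gl (m : M3) (h : m * m = 1) : GL I3 K := ⟨m, m, h, h⟩

theorem coe_gl (m : M3) (h : m * m = 1) : ((gl m h : GL I3 K) : M3) = m := rfl

/-- an involutory isometry -/
def go (m : M3) (h : m * m = 1) (hiso : ∀ u : I3 → K, quadFormOdd 1 K (m *ᵥ u) = quadFormOdd 1 K u) :
    isometryGroup K (quadFormOdd 1 K) := ⟨gl m h, fun u _ => hiso u⟩

theorem mem_special_iff {F : Type*} [Field F] (g : isometryGroup F (quadFormOdd 1 F)) :
    g ∈ specialIsometryGroup F (quadFormOdd 1 F) ↔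
      ((g : GL I3 F) : Matrix I3 I3 F).det = 1 := by
  unfold specialIsometryGroup
  rw [MonoidHom.mem_ker]
  constructor
  · intro h
    have := congrArg Units.val h
    exact this
  · intro h
    apply Units.ext
    exact h

/-- an involutory special isometry -/
def so (m : M3) (h : m * m = 1) (hiso : ∀ u : I3 → K, quadFormOdd 1 K (m *ᵥ u) = quadFormOdd 1 K u)
    (hdet : m.det = 1) : specialIsometryGroup K (quadFormOdd 1 K) :=
  ⟨go m h hiso, (mem_special_iff _).mpr hdet⟩

theorem coe_so (m : M3) (h : m * m = 1) (hiso) (hdet : m.det = 1) :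
    ((((so m h hiso hdet : specialIsometryGroup K (quadFormOdd 1 K)) :
      isometryGroup K (quadFormOdd 1 K)) : GL I3 K) : M3) = m := rfl

/-- the matrix of an element of `SO₃(3)` -/
def mat : specialIsometryGroup K (quadFormOdd 1 K) →* M3 :=
  (Units.coeHom M3).comp ((isometryGroup K (quadFormOdd 1 K)).subtype.comp
    (specialIsometryGroup K (quadFormOdd 1 K)).subtype)

theorem mat_injective : Function.Injective mat := by
  intro a b h
  apply Subtype.ext
  apply Subtype.ext
  apply Units.ext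
  exact h

theorem mat_so (m : M3) (h : m * m = 1) (hiso) (hdet : m.det = 1) : mat (so m h hiso hdet) = m := rfl

theorem card_GO : Nat.card (isometryGroup K (quadFormOdd 1 K)) = 48 := by
  have := Cfsg.Agent.S0286.result (F := K) (q := 3) (by simp [ZMod.card]) (by decide) 1
  rw [this]
  simp [Finset.prod_range_one]

theorem card_SO_le : Nat.card (specialIsometryGroup K (quadFormOdd 1 K)) ≤ 24 := by
  set φ : isometryGroup K (quadFormOdd 1 K) →* Kˣ :=
    Matrix.GeneralLinearGroup.det.comp (isometryGroup K (quadFormOdd 1 K)).subtype with hφ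
  have hker : specialIsometryGroup K (quadFormOdd 1 K) = φ.ker := rfl
  have h1 := Subgroup.card_mul_index φ.ker
  rw [Subgroup.index_ker, card_GO] at h1
  have h2 : 1 < Nat.card φ.range := by
    rw [Subgroup.one_lt_card_iff_ne_bot]
    intro hbot
    have hmem : φ (go m0 m0_sq iso0) ∈ φ.range := ⟨_, rfl⟩
    rw [hbot, Subgroup.mem_bot] at hmem
    have : go m0 m0_sq iso0 ∈ specialIsometryGroup K (quadFormOdd 1 K) := by
      rw [hker]; exact hmem
    rw [mem_special_iff] at this
    exact det0 this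
  rw [hker]
  nlinarith

theorem key : Nonempty (↥(specialIsometryGroup K (quadFormOdd 1 K)) ≃* Equiv.Perm (Fin 4)) := by
  have hpow : ∀ (g : specialIsometryGroup K (quadFormOdd 1 K)) (n : ℕ), mat g ^ n = 1 → g ^ n = 1 := by
    intro g n h
    apply mat_injective
    rw [map_pow, h, map_one]
  obtain ⟨ψ, hψ⟩ := A4S4.exists_injective_S4 (so m1 m1_sq iso1 det1) (so m2 m2_sq iso2 det2)
    (so m3 m3_sq iso3 det3)
    (hpow _ 2 (by rw [mat_so, sq]; exact m1_sq)) (hpow _ 2 (by rw [mat_so, sq]; exact m2_sq))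
    (hpow _ 2 (by rw [mat_so, sq]; exact m3_sq))
    (hpow _ 3 (by rw [map_mul, mat_so, mat_so]; exact m12))
    (hpow _ 3 (by rw [map_mul, mat_so, mat_so]; exact m23))
    (hpow _ 2 (by rw [map_mul, mat_so, mat_so]; exact m13))
    (by
      intro h
      apply m13_ne
      have := congrArg mat h
      rw [map_mul, mat_so, mat_so, map_one] at this
      exact this)
  have hbij : Function.Bijective ψ := by
    apply Function.Injective.bijective_of_nat_card_le hψ
    rw [Nat.card_perm, Nat.card_fin]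
    exact card_SO_le
  exact ⟨(MulEquiv.ofBijective ψ hbij).symm⟩

/-- SO_3(3) ≅ S_4: the determinant-one isometries of the form x_0² + x_1y_1 over the field with 3 elements form a group isomorphic to the symmetric group on 4 letters. -/
theorem result {F : Type*} [Field F] [Fintype F] (hF : Fintype.card F = 3) : Nonempty (↥(Cfsg.specialIsometryGroup F (Cfsg.quadFormOdd 1 F)) ≃* Equiv.Perm (Fin 4)) := by
  obtain ⟨e3⟩ := key
  let θ : K ≃+* F := ZMod.ringEquivOfPrime F Nat.prime_three hF
  let E := helper13.isoGroupCongr θ (quadFormOdd 1 K) (quadFormOdd 1 F)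
    (helper13.quadFormOdd_map θ 1)
  have hdet : ∀ g : isometryGroup K (quadFormOdd 1 K),
      ((E g : GL I3 F) : Matrix I3 I3 F).det = θ ((g : GL I3 K) : M3).det := by
    intro g
    have : ((E g : GL I3 F) : Matrix I3 I3 F) = (θ : K →+* F).mapMatrix ((g : GL I3 K) : M3) := rfl
    rw [this, ← RingHom.map_det]
    rfl
  have hiff : ∀ g : isometryGroup K (quadFormOdd 1 K),
      E g ∈ specialIsometryGroup F (quadFormOdd 1 F) ↔ g ∈ specialIsometryGroup K (quadFormOdd 1 K) := by
    intro g
    rw [mem_special_iff, mem_special_iff, hdet]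
    constructor
    · intro h
      apply θ.injective
      rw [h, map_one]
    · intro h
      rw [h, map_one]
  have hmap : (specialIsometryGroup K (quadFormOdd 1 K)).map E.toMonoidHom =
      specialIsometryGroup F (quadFormOdd 1 F) := by
    ext g
    constructor
    · rintro ⟨g₀, hg₀, rfl⟩
      exact (hiff g₀).mpr hg₀
    · intro hg
      refine ⟨E.symm g, ?_, ?_⟩
      · rw [SetLike.mem_coe, ← hiff]
        simpa using hg
      · simp
  have e1 : specialIsometryGroup K (quadFormOdd 1 K) ≃*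
      (specialIsometryGroup K (quadFormOdd 1 K)).map E.toMonoidHom :=
    Subgroup.equivMapOfInjective _ _ E.injective
  have e2 : (specialIsometryGroup K (quadFormOdd 1 K)).map E.toMonoidHom ≃*
      specialIsometryGroup F (quadFormOdd 1 F) := MulEquiv.subgroupCongr hmap
  exact ⟨(e1.trans e2).symm.trans e3⟩

end Cfsg.Agent.S0823
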