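import Cfsg.Statements.S0824
import Cfsg.Agent.Lib_helper13_OrthG

set_option autoImplicit false
open Cfsg

namespace Cfsg.Agent.S0824

open Cfsg.Agent.helper13 Matrix

variable {F : Type*} [Field F] [Fintype F]

theorem elt_cases (hF : Fintype.card F = 2) (x : F) : x = 0 ∨ x = 1 := by
  classical
  by_contra h
  push Not at h
  have hc : ({0, 1, x} : Finset F).card ≤ Fintype.card F := Finset.card_le_univ _
  rw [hF, Finset.card_insert_of_notMem, Finset.card_insert_of_notMem, Finset.card_singleton] at hc
  · omega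
  · simp only [Finset.mem_singleton]
    exact fun h1 => h.2 h1.symm
  · simp only [Finset.mem_insert, Finset.mem_singleton, not_or]
    exact ⟨zero_ne_one, fun h0 => h.1 h0.symm⟩

theorem two_eq_zero (hF : Fintype.card F = 2) : (1 : F) + 1 = 0 := by
  rcases elt_cases hF ((1 : F) + 1) with h | h
  · exact h
  · exfalso
    have h1 : (1 : F) + 1 = 0 + 1 := by rw [h, zero_add]
    exact one_ne_zero (add_right_cancel h1)

theorem hab (hF : Fintype.card F = 2) :
    ∀ z₁ z₂ : F, z₁ ^ 2 + 1 * z₁ * z₂ + 1 * z₂ ^ 2 = 0 → z₁ = 0 ∧ z₂ = 0 := by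
  intro z₁ z₂ h
  have h2 := two_eq_zero hF
  rcases elt_cases hF z₁ with rfl | rfl <;> rcases elt_cases hF z₂ with rfl | rfl
  · exact ⟨rfl, rfl⟩
  · exfalso
    have h' : (1 : F) = 0 := by rw [← h]; ring
    exact one_ne_zero h'
  · exfalso
    have h' : (1 : F) = 0 := by rw [← h]; ring
    exact one_ne_zero h'
  · exfalso
    have h' : (1 : F) + 1 + 1 = 0 := by rw [← h]; ring
    rw [h2, zero_add] at h'
    exact one_ne_zero h'

abbrev Idx : Type := (Fin 1 ⊕ Fin 1) ⊕ Fin 2

abbrev QM (F : Type*) [Field F] : (Idx → F) → F := Cfsg.quadFormMinus 1 F 1 1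

/-- the nonzero singular vectors. -/
abbrev Sing (F : Type*) [Field F] : Type _ := {v : Idx → F // v ≠ 0 ∧ QM F v = 0}

theorem card_iso (hF : Fintype.card F = 2) :
    Nat.card (Cfsg.isometryGroup F (QM F)) = 120 := by
  have h := card_minus 1 (1 : F) 1 (hab hF)
  rw [hF] at h
  rw [h]
  norm_num [Finset.prod_range_succ]

theorem card_sing (hF : Fintype.card F = 2) : Nat.card (Sing F) = 5 := by
  classical
  have hz := zeros_minus' 1 (1 : F) 1 (hab hF)
  rw [hF] at hz
  have hz6 : zeros (QM F) = 6 := by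
    rw [hz]
    norm_num [Cfsg.Agent.S2617.cseq]
  rw [Nat.card_eq_fintype_card, Fintype.card_subtype]
  unfold zeros at hz6
  have hins : (Finset.univ.filter (fun v : Idx → F => QM F v = 0)) =
      insert 0 (Finset.univ.filter (fun v : Idx → F => v ≠ 0 ∧ QM F v = 0)) := by
    ext v
    simp only [Finset.mem_filter, Finset.mem_univ, true_and, Finset.mem_insert]
    constructor
    · intro hv
      by_cases h0 : v = 0
      · left; exact h0
      · right; exact ⟨h0, hv⟩
    · rintro (rfl | ⟨_, hv⟩)
      · simp [QM, Cfsg.quadFormMinus]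
      · exact hv
  have hnot : (0 : Idx → F) ∉ Finset.univ.filter (fun v : Idx → F => v ≠ 0 ∧ QM F v = 0) := by
    simp
  have hcard := congrArg Finset.card hins
  rw [Finset.card_insert_of_notMem hnot] at hcard
  have : (Finset.univ.filter (fun v : Idx → F => QM F v = 0)).card = 6 := by
    convert hz6 using 2
  omega

theorem mulVec_ne_zero (g : Cfsg.isometryGroup F (QM F)) (v : Idx → F) (hv : v ≠ 0) :
    ((g : Matrix.GeneralLinearGroup Idx F) : Matrix Idx Idx F) *ᵥ v ≠ 0 := by
  intro h
  apply hv
  have h1 : (((g : Matrix.GeneralLinearGroup Idx F)⁻¹ : Matrix.GeneralLinearGroup Idx F) :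
      Matrix Idx Idx F) *ᵥ (((g : Matrix.GeneralLinearGroup Idx F) : Matrix Idx Idx F) *ᵥ v) = v := by
    rw [Matrix.mulVec_mulVec, Units.inv_mul, Matrix.one_mulVec]
  rw [h, Matrix.mulVec_zero] at h1
  exact h1.symm

/-- the action on singular vectors. -/
def actS (g : Cfsg.isometryGroup F (QM F)) (v : Sing F) : Sing F :=
  ⟨((g : Matrix.GeneralLinearGroup Idx F) : Matrix Idx Idx F) *ᵥ v.1, mulVec_ne_zero g v.1 v.2.1, by
    have h : QM F (((g : Matrix.GeneralLinearGroup Idx F) : Matrix Idx Idx F) *ᵥ v.1) =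
        QM F v.1 := g.2 v.1 v.1
    rw [h]
    exact v.2.2⟩

theorem actS_one (v : Sing F) : actS (1 : Cfsg.isometryGroup F (QM F)) v = v := by
  apply Subtype.ext
  simp [actS]

theorem actS_mul (g h : Cfsg.isometryGroup F (QM F)) (v : Sing F) :
    actS (g * h) v = actS g (actS h v) := by
  apply Subtype.ext
  simp [actS, Matrix.mulVec_mulVec]

/-- the permutation representation on singular vectors. -/
def permHom : Cfsg.isometryGroup F (QM F) →* Equiv.Perm (Sing F) where
  toFun g :=
    { toFun := actS g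
      invFun := actS g⁻¹
      left_inv := fun v => by rw [← actS_mul, inv_mul_cancel, actS_one]
      right_inv := fun v => by rw [← actS_mul, mul_inv_cancel, actS_one] }
  map_one' := by
    ext v
    simp [actS_one]
  map_mul' g h := by
    ext v
    simp [actS_mul]

theorem sing_inl (i : Fin 1 ⊕ Fin 1) :
    (Pi.single (Sum.inl i) 1 : Idx → F) ≠ 0 ∧ QM F (Pi.single (Sum.inl i) 1) = 0 := by
  constructor
  · intro h
    have := congr_fun h (Sum.inl i)
    simp at this
  · exact quadFormMinus_single_inl 1 1 1 i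

theorem sing_mixed (hF : Fintype.card F = 2) (j : Fin 2) :
    (Pi.single (Sum.inl (Sum.inl 0)) 1 + Pi.single (Sum.inl (Sum.inr 0)) 1 +
      Pi.single (Sum.inr j) 1 : Idx → F) ≠ 0 ∧
    QM F (Pi.single (Sum.inl (Sum.inl 0)) 1 + Pi.single (Sum.inl (Sum.inr 0)) 1 +
      Pi.single (Sum.inr j) 1) = 0 := by
  have h2 := two_eq_zero hF
  constructor
  · intro h
    have := congr_fun h (Sum.inr j)
    simp at this
  · fin_cases j
    · simp [QM, Cfsg.quadFormMinus, h2]
    · simp [QM, Cfsg.quadFormMinus, h2]

theorem permHom_injective (hF : Fintype.card F = 2) :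
    Function.Injective (permHom (F := F)) := by
  rw [injective_iff_map_eq_one]
  intro g hg
  have hfix : ∀ v : Idx → F, v ≠ 0 ∧ QM F v = 0 →
      ((g : Matrix.GeneralLinearGroup Idx F) : Matrix Idx Idx F) *ᵥ v = v := by
    intro v hv
    have := congrArg (fun p : Equiv.Perm (Sing F) => (p ⟨v, hv⟩).1) hg
    simpa [permHom, actS] using this
  have hbasis : ∀ j : Idx, ((g : Matrix.GeneralLinearGroup Idx F) : Matrix Idx Idx F) *ᵥ
      (Pi.single j 1) = Pi.single j 1 := by
    intro j
    rcases j with i | j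
    · exact hfix _ (sing_inl i)
    · have h1 := hfix _ (sing_mixed hF j)
      have h2 := hfix _ (sing_inl (F := F) (Sum.inl 0))
      have h3 := hfix _ (sing_inl (F := F) (Sum.inr 0))
      rw [Matrix.mulVec_add, Matrix.mulVec_add, h2, h3] at h1
      exact add_left_cancel h1
  apply Subtype.ext
  apply Units.ext
  ext i j
  have := congr_fun (hbasis j) i
  rw [Matrix.mulVec_single_one] at this
  simpa [Matrix.one_apply, Pi.single_apply, eq_comm] using this


/-- O⁻_4(2) ≅ S_5: the isometry group of the form x y + z_1² + z_1 z_2 + z_2² over the field with 2 elements is isomorphic to the symmetric group on 5 letters. -/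
theorem result {F : Type*} [Field F] [Fintype F] (hF : Fintype.card F = 2) : Nonempty (↥(Cfsg.isometryGroup F (Cfsg.quadFormMinus 1 F 1 1)) ≃* Equiv.Perm (Fin 5)) := by
  classical
  have hinj := permHom_injective hF
  have hbij : Function.Bijective (permHom (F := F)) := by
    apply hinj.bijective_of_nat_card_le
    rw [Nat.card_perm, card_sing hF, card_iso hF]
    decide
  have e1 : ↥(Cfsg.isometryGroup F (QM F)) ≃* Equiv.Perm (Sing F) :=
    MulEquiv.ofBijective permHom hbij
  have hcard : Fintype.card (Sing F) = 5 := by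
    rw [← Nat.card_eq_fintype_card]
    exact card_sing hF
  exact ⟨e1.trans (Equiv.permCongrHom (Fintype.equivFinOfCardEq hcard))⟩

end Cfsg.Agent.S0824
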