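import Cfsg.Statements.S0826
import Mathlib
import Cfsg.Agent.S0752
-- import your own Cfsg.Agent.* helpers here

set_option autoImplicit false
open Cfsg

namespace Cfsg.Agent.S0826

set_option linter.unusedSectionVars false
set_option linter.unusedVariables false
open Matrix

abbrev K2 := ZMod 2

theorem k2_add_self (a : K2) : a + a = 0 := by revert a; decide
theorem k2_mul_self (a : K2) : a * a = a := by revert a; decide
theorem k2_cases (a : K2) : a = 0 ∨ a = 1 := by revert a; decide

section perm

variable {Y : Type} [Fintype Y] [DecidableEq Y]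

abbrev XX (Y : Type) := Option (Option Y)

local notation "UU" => (XX Y → K2)

theorem sum_XX (g : XX Y → K2) :
    ∑ x, g x = g none + (g (some none) + ∑ y, g (some (some y))) := by
  rw [Fintype.sum_option, Fintype.sum_option]

/-- the permutation action -/
def act (σ : Equiv.Perm (XX Y)) : UU →ₗ[K2] UU := LinearMap.funLeft K2 K2 σ.symm

theorem act_apply (σ : Equiv.Perm (XX Y)) (u : UU) (x : XX Y) : act σ u x = u (σ.symm x) := rfl

theorem act_mul (σ τ : Equiv.Perm (XX Y)) (u : UU) : act (σ * τ) u = act σ (act τ u) := by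
  funext x
  rw [act_apply, act_apply, act_apply]
  rfl

def one1 : UU := fun _ => 1

theorem act_one1 (σ : Equiv.Perm (XX Y)) : act σ (one1 : UU) = one1 := by
  funext x; rfl

/-- the projection killing the all-ones vector -/
def Pm : UU →ₗ[K2] UU :=
  LinearMap.id + (LinearMap.proj (none : XX Y)).smulRight (one1 : UU)

theorem Pm_apply (u : UU) (x : XX Y) : Pm u x = u x + u none := by
  simp [Pm, one1]

theorem Pm_shift (w : UU) (c : K2) : Pm (w + c • one1) = Pm w := by
  funext x
  rw [Pm_apply, Pm_apply]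
  simp only [Pi.add_apply, Pi.smul_apply, one1, smul_eq_mul, mul_one]
  have := k2_add_self c
  calc w x + c + (w none + c) = w x + w none + (c + c) := by ring
    _ = w x + w none := by rw [this, add_zero]

theorem Pm_eq (u : UU) : Pm u = u + u none • one1 := by
  funext x
  rw [Pm_apply]
  simp [one1]

def RR (σ : Equiv.Perm (XX Y)) : UU →ₗ[K2] UU := Pm.comp (act σ)

theorem RR_apply (σ : Equiv.Perm (XX Y)) (u : UU) : RR σ u = Pm (act σ u) := rfl

theorem RR_mul (σ τ : Equiv.Perm (XX Y)) (u : UU) : RR (σ * τ) u = RR σ (RR τ u) := by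
  rw [RR_apply, RR_apply, RR_apply, Pm_eq (act τ u), map_add, map_smul, act_one1, Pm_shift, act_mul]

theorem RR_one (u : UU) (h : u none = 0) : RR 1 u = u := by
  funext x
  rw [RR_apply, Pm_apply]
  have : act (1 : Equiv.Perm (XX Y)) u = u := by funext z; rfl
  rw [this, h, add_zero]

def sm (u : UU) : K2 := ∑ x, u x

def dot (u v : UU) : K2 := ∑ x, u x * v x

theorem sm_act (σ : Equiv.Perm (XX Y)) (u : UU) : sm (act σ u) = sm u := by
  unfold sm
  exact Equiv.sum_comp σ.symm u

theorem dot_act (σ : Equiv.Perm (XX Y)) (u v : UU) : dot (act σ u) (act σ v) = dot u v := by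
  unfold dot
  exact Equiv.sum_comp σ.symm (fun x => u x * v x)

theorem card_XX (hY : Even (Fintype.card Y)) : ((Fintype.card (XX Y) : ℕ) : K2) = 0 := by
  rw [Fintype.card_option, Fintype.card_option]
  obtain ⟨r, hr⟩ := hY
  rw [hr]
  push_cast
  have := k2_add_self (r : K2)
  have h1 := k2_add_self (1 : K2)
  calc (r : K2) + r + 1 + 1 = (r + r) + (1 + 1) := by ring
    _ = 0 := by rw [this, h1, add_zero]

theorem sm_one1 (hY : Even (Fintype.card Y)) : sm (one1 : UU) = 0 := by
  unfold sm one1
  rw [Finset.sum_const, Finset.card_univ, nsmul_eq_mul, mul_one]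
  exact card_XX hY

theorem sm_Pm (hY : Even (Fintype.card Y)) (u : UU) : sm (Pm u) = sm u := by
  have h : sm (Pm u) = sm u + u none * sm (one1 : UU) := by
    unfold sm
    rw [Finset.mul_sum, ← Finset.sum_add_distrib]
    apply Finset.sum_congr rfl
    intro x _
    rw [Pm_apply]; simp [one1]
  rw [h, sm_one1 hY, mul_zero, add_zero]

theorem dot_Pm (hY : Even (Fintype.card Y)) (u v : UU) (hu : sm u = 0) (hv : sm v = 0) :
    dot (Pm u) (Pm v) = dot u v := by
  have h : dot (Pm u) (Pm v) = dot u v + v none * sm u + u none * sm v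
      + u none * v none * sm (one1 : UU) := by
    unfold dot sm
    rw [Finset.mul_sum, Finset.mul_sum, Finset.mul_sum, ← Finset.sum_add_distrib,
      ← Finset.sum_add_distrib, ← Finset.sum_add_distrib]
    apply Finset.sum_congr rfl
    intro x _
    rw [Pm_apply, Pm_apply]
    simp only [one1]
    ring
  rw [h, hu, hv, sm_one1 hY]
  ring

theorem dot_RR (hY : Even (Fintype.card Y)) (σ : Equiv.Perm (XX Y)) (u v : UU)
    (hu : sm u = 0) (hv : sm v = 0) : dot (RR σ u) (RR σ v) = dot u v := by
  rw [RR_apply, RR_apply, dot_Pm hY _ _ (by rw [sm_act, hu]) (by rw [sm_act, hv]), dot_act]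

end perm

section mat

variable {Y : Type} [Fintype Y] [DecidableEq Y]

local notation "UU" => (XX Y → K2)

/-- the coordinate basis of the heart -/
def cc (y : Y) : UU := Pi.single (some (some y)) 1 + Pi.single (some none) 1

theorem cc_none (y : Y) : cc y none = 0 := by
  simp [cc]

theorem cc_pp (y : Y) : cc y (some none) = 1 := by
  simp [cc]

theorem cc_io (y y' : Y) : cc y (some (some y')) = if y' = y then 1 else 0 := by
  simp [cc, Pi.single_apply]

theorem sm_cc (y : Y) : sm (cc y) = 0 := by
  unfold sm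
  rw [sum_XX, cc_none, cc_pp]
  simp only [cc_io, Finset.sum_ite_eq', Finset.mem_univ, if_true, zero_add]
  exact k2_add_self 1

/-- expansion in the coordinate basis -/
theorem expand (v : UU) (h1 : sm v = 0) (h2 : v none = 0) :
    v = ∑ y, v (some (some y)) • cc y := by
  funext x
  rw [Finset.sum_apply]
  rcases x with _ | _ | y₀
  · simp [cc_none, h2]
  · simp only [Pi.smul_apply, cc_pp, smul_eq_mul, mul_one]
    unfold sm at h1
    rw [sum_XX, h2, zero_add] at h1
    have := k2_add_self (v (some none))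
    calc v (some none) = v (some none) + 0 := (add_zero _).symm
      _ = v (some none) + (v (some none) + ∑ y, v (some (some y))) := by rw [h1]
      _ = (v (some none) + v (some none)) + ∑ y, v (some (some y)) := by ring
      _ = ∑ y, v (some (some y)) := by rw [this, zero_add]
  · simp only [Pi.smul_apply, cc_io, smul_eq_mul, mul_ite, mul_one, mul_zero]
    rw [Finset.sum_ite_eq]
    simp

/-- the matrix of `σ` in the coordinate basis -/
def MM (σ : Equiv.Perm (XX Y)) : Matrix Y Y K2 := fun y y' => RR σ (cc y') (some (some y))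

theorem RR_none (σ : Equiv.Perm (XX Y)) (u : UU) : RR σ u none = 0 := by
  rw [RR_apply, Pm_apply]
  exact k2_add_self _

theorem sm_RR (hY : Even (Fintype.card Y)) (σ : Equiv.Perm (XX Y)) (u : UU) (hu : sm u = 0) :
    sm (RR σ u) = 0 := by
  rw [RR_apply, sm_Pm hY, sm_act, hu]

theorem RR_cc_expand (hY : Even (Fintype.card Y)) (σ : Equiv.Perm (XX Y)) (y' : Y) :
    RR σ (cc y') = ∑ y, MM σ y y' • cc y :=
  expand _ (sm_RR hY σ _ (sm_cc y')) (RR_none σ _)

theorem MM_mul (hY : Even (Fintype.card Y)) (σ τ : Equiv.Perm (XX Y)) :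
    MM (σ * τ) = MM σ * MM τ := by
  ext y y''
  rw [Matrix.mul_apply]
  change RR (σ * τ) (cc y'') (some (some y)) = _
  rw [RR_mul, RR_cc_expand hY τ y'', map_sum, Finset.sum_apply]
  apply Finset.sum_congr rfl
  intro y' _
  rw [map_smul, Pi.smul_apply, smul_eq_mul, mul_comm]
  rfl

theorem MM_one : MM (1 : Equiv.Perm (XX Y)) = 1 := by
  ext y y'
  change RR 1 (cc y') (some (some y)) = _
  rw [RR_one _ (cc_none y'), cc_io, Matrix.one_apply]

/-- the Gram matrix -/
def AA : Matrix Y Y K2 := fun y y' => dot (cc y) (cc y')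

theorem AA_apply (y y' : Y) : (AA : Matrix Y Y K2) y y' = if y = y' then 0 else 1 := by
  unfold AA dot
  rw [sum_XX, cc_none, cc_pp, cc_pp]
  simp only [cc_io, zero_mul, zero_add, mul_one, ite_mul, one_mul, zero_mul, Finset.sum_ite_eq',
    Finset.mem_univ, if_true]
  by_cases h : y = y'
  · rw [if_pos h, if_pos h]; exact k2_add_self 1
  · rw [if_neg h, if_neg h, add_zero]

theorem dot_sum_sum (a b : Y → K2) :
    dot (∑ y, a y • (cc y : UU)) (∑ z, b z • (cc z : UU)) = ∑ y, ∑ z, a y * (AA y z) * b z := by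
  unfold dot AA dot
  simp only [Finset.sum_apply, Pi.smul_apply, smul_eq_mul]
  calc ∑ x, (∑ y, a y * (cc y : UU) x) * (∑ z, b z * (cc z : UU) x)
      = ∑ x, ∑ y, ∑ z, (a y * (cc y : UU) x) * (b z * (cc z : UU) x) := by
        apply Finset.sum_congr rfl; intro x _; rw [Finset.sum_mul_sum]
    _ = ∑ y, ∑ x, ∑ z, (a y * (cc y : UU) x) * (b z * (cc z : UU) x) := Finset.sum_comm
    _ = ∑ y, ∑ z, ∑ x, (a y * (cc y : UU) x) * (b z * (cc z : UU) x) := by
        apply Finset.sum_congr rfl; intro y _; exact Finset.sum_comm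
    _ = ∑ y, ∑ z, a y * (∑ x, (cc y : UU) x * (cc z : UU) x) * b z := by
        apply Finset.sum_congr rfl; intro y _
        apply Finset.sum_congr rfl; intro z _
        rw [Finset.mul_sum, Finset.sum_mul]
        apply Finset.sum_congr rfl; intro x _
        ring

theorem MM_pres (hY : Even (Fintype.card Y)) (σ : Equiv.Perm (XX Y)) :
    (MM σ)ᵀ * AA * MM σ = AA := by
  ext y' y''
  have h := dot_RR hY σ (cc y') (cc y'') (sm_cc y') (sm_cc y'')
  rw [RR_cc_expand hY σ y', RR_cc_expand hY σ y'', dot_sum_sum] at h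
  rw [Matrix.mul_apply]
  simp only [Matrix.mul_apply, Matrix.transpose_apply, Finset.sum_mul]
  rw [Finset.sum_comm]
  exact h

end mat

section inj

variable {Y : Type} [Fintype Y] [DecidableEq Y]

local notation "UU" => (XX Y → K2)

theorem act_single (σ : Equiv.Perm (XX Y)) (x : XX Y) :
    act σ (Pi.single x 1 : UU) = Pi.single (σ x) 1 := by
  funext z
  rw [act_apply, Pi.single_apply, Pi.single_apply]
  simp only [Equiv.symm_apply_eq]

theorem MM_inj (hY : Even (Fintype.card Y)) (h3 : 3 ≤ Fintype.card Y)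
    (σ : Equiv.Perm (XX Y)) (h : MM σ = 1) : σ = 1 := by
  have hfix : ∀ y, RR σ (cc y) = cc y := by
    intro y
    rw [RR_cc_expand hY σ y, h]
    simp [Matrix.one_apply]
  have hw : ∀ y, act σ (cc y) = Pi.single (σ (some (some y))) 1 + Pi.single (σ (some none)) 1 := by
    intro y; unfold cc; rw [map_add, act_single, act_single]
  have hwc : ∀ y, (Pi.single (σ (some (some y))) 1 + Pi.single (σ (some none)) 1 : UU) = cc y := by
    intro y
    have h1 := hfix y
    rw [RR_apply, Pm_eq] at h1
    rcases k2_cases (act σ (cc y) none) with h0 | h0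
    · rw [h0, zero_smul, add_zero, hw y] at h1; exact h1
    · exfalso
      rw [h0, one_smul] at h1
      obtain ⟨z, -, hz⟩ := Finset.exists_mem_notMem_of_card_lt_card
        (s := ({σ (some (some y)), σ (some none), some (some y), some none} : Finset (XX Y)))
        (t := Finset.univ) (by
          calc _ ≤ 4 := Finset.card_le_four
            _ < Fintype.card (XX Y) := by rw [Fintype.card_option, Fintype.card_option]; omega
            _ = _ := Finset.card_univ.symm)
      simp only [Finset.mem_insert, Finset.mem_singleton, not_or] at hz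
      obtain ⟨hz1, hz2, hz3, hz4⟩ := hz
      have := congrFun h1 z
      rw [hw y] at this
      simp [cc, one1, Pi.single_apply, hz1, hz2, hz3, hz4] at this
  have hpcases : ∀ y, σ (some none) = some (some y) ∨ σ (some none) = some none := by
    intro y
    have h1 := congrFun (hwc y) (σ (some none))
    have hne : σ (some none) ≠ σ (some (some y)) := by
      intro h2
      have := σ.injective h2
      cases this
    simp only [Pi.add_apply, Pi.single_apply, cc, hne, if_false, zero_add, if_true] at h1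
    by_contra hcon
    push Not at hcon
    rw [if_neg hcon.1, if_neg hcon.2, add_zero] at h1
    exact one_ne_zero h1
  have hp : σ (some none) = some none := by
    by_contra hcon
    haveI : Nontrivial Y := Fintype.one_lt_card_iff_nontrivial.mp (by omega)
    obtain ⟨y₁, y₂, hne⟩ := exists_pair_ne Y
    have h1 := (hpcases y₁).resolve_right hcon
    have h2 := (hpcases y₂).resolve_right hcon
    rw [h1] at h2
    exact hne (Option.some.inj (Option.some.inj h2))
  have hy : ∀ y, σ (some (some y)) = some (some y) := by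
    intro y
    have h1 := congrFun (hwc y) (σ (some (some y)))
    have hne : σ (some (some y)) ≠ σ (some none) := by
      intro h2
      have := σ.injective h2
      cases this
    simp only [Pi.add_apply, Pi.single_apply, cc, hne, if_false, add_zero, if_true] at h1
    by_contra hcon
    have hne2 : σ (some (some y)) ≠ some none := by rw [← hp]; exact hne
    rw [if_neg hcon, if_neg hne2, add_zero] at h1
    exact one_ne_zero h1
  have hl : σ none = none := by
    rcases hσ : σ none with _ | _ | y
    · rfl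
    · exfalso
      rw [← hp] at hσ
      have := σ.injective hσ
      cases this
    · exfalso
      rw [← hy y] at hσ
      have := σ.injective hσ
      cases this
  apply Equiv.ext
  intro x
  rcases x with _ | _ | y
  · exact hl
  · exact hp
  · exact hy y

end inj

section final

variable {N : ℕ}

local notation "YY" => (Fin N ⊕ Fin N)

/-- the vector of the heart attached to a coordinate vector -/
def vv (a : YY → K2) : XX YY → K2 := ∑ y, a y • cc y

theorem sm_vv (a : YY → K2) : sm (vv a) = 0 := by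
  unfold sm vv
  simp only [Finset.sum_apply, Pi.smul_apply, smul_eq_mul]
  rw [Finset.sum_comm]
  apply Finset.sum_eq_zero
  intro y _
  rw [← Finset.mul_sum]
  have := sm_cc y
  unfold sm at this
  rw [this, mul_zero]

theorem dot_self (u : XX YY → K2) : dot u u = sm u := by
  unfold dot sm
  apply Finset.sum_congr rfl
  intro x _
  exact k2_mul_self _

theorem BB_eq (a b : YY → K2) : Matrix.toBilin' (AA : Matrix YY YY K2) a b = dot (vv a) (vv b) := by
  rw [Matrix.toBilin'_apply]
  unfold vv
  rw [dot_sum_sum]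

theorem BB_alt : (Matrix.toBilin' (AA : Matrix YY YY K2)).IsAlt := by
  intro a
  rw [BB_eq, dot_self, sm_vv]

theorem BB_nondeg (r : YY → K2)
    (h : ∀ b : YY → K2, Matrix.toBilin' (AA : Matrix YY YY K2) r b = 0) : r = 0 := by
  have h1 : ∀ y', r y' = ∑ y, r y := by
    intro y'
    have := h (Pi.single y' 1)
    rw [Matrix.toBilin'_apply', Matrix.mulVec_single_one] at this
    simp only [dotProduct, Matrix.col_apply, AA_apply] at this
    have h2 : ∑ y, r y * (if y = y' then (0 : K2) else 1) = ∑ y, r y + r y' := by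
      have : ∀ y, r y * (if y = y' then (0 : K2) else 1) = r y + (if y = y' then r y else 0) := by
        intro y
        by_cases hy : y = y'
        · rw [if_pos hy, if_pos hy, mul_zero]; exact (k2_add_self _).symm
        · rw [if_neg hy, if_neg hy, mul_one, add_zero]
      simp only [this]
      rw [Finset.sum_add_distrib, Finset.sum_ite_eq']
      simp
    rw [h2] at this
    have h3 := k2_add_self (r y')
    calc r y' = 0 + r y' := (zero_add _).symm
      _ = (∑ y, r y + r y') + r y' := by rw [this]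
      _ = ∑ y, r y + (r y' + r y') := by ring
      _ = ∑ y, r y := by rw [h3, add_zero]
  have h2 : ∑ y, r y = 0 := by
    have : ∑ y : YY, r y = ∑ y : YY, ∑ z, r z := Finset.sum_congr rfl (fun y _ => h1 y)
    rw [Finset.sum_const, Finset.card_univ, Fintype.card_sum, Fintype.card_fin, nsmul_eq_mul] at this
    rw [this]
    push_cast
    have h4 := k2_add_self (N : K2)
    rw [h4, zero_mul]
  funext y
  rw [h1 y, h2]; rfl

theorem exists_C : ∃ C : Matrix YY YY K2, IsUnit C.det ∧ Cᵀ * AA * C = Matrix.J (Fin N) K2 := by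
  classical
  obtain ⟨m', k', b, hb1, hb2, hb3, hb4⟩ :=
    Cfsg.Agent.S0752.result (Matrix.toBilin' (AA : Matrix YY YY K2)) BB_alt
  have hk' : k' = 0 := by
    by_contra h
    have hpos : 0 < k' := Nat.pos_of_ne_zero h
    have h0 : b (Sum.inr ⟨0, hpos⟩) = 0 := BB_nondeg _ (fun v => hb4 ⟨0, hpos⟩ v)
    exact b.ne_zero _ h0
  subst hk'
  have hm' : m' = N := by
    have := Module.finrank_eq_card_basis b
    rw [Module.finrank_fintype_fun_eq_card] at this
    simp at this
    omega
  subst hm'
  set C : Matrix (Fin m' ⊕ Fin m') (Fin m' ⊕ Fin m') K2 := fun y s => b (Sum.inl s) y with hC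
  have hent : ∀ s t, (Cᵀ * (AA : Matrix (Fin m' ⊕ Fin m') (Fin m' ⊕ Fin m') K2) * C) s t = Matrix.toBilin' (AA : Matrix _ _ K2) (b (Sum.inl s)) (b (Sum.inl t)) := by
    intro s t
    rw [Matrix.toBilin'_apply, Matrix.mul_apply]
    simp only [Matrix.mul_apply, Matrix.transpose_apply, Finset.sum_mul]
    rw [Finset.sum_comm]
  have hCJ : Cᵀ * (AA : Matrix (Fin m' ⊕ Fin m') (Fin m' ⊕ Fin m') K2) * C = Matrix.J (Fin m') K2 := by
    ext s t
    rw [hent]
    have hneg : (-1 : K2) = 1 := by decide
    rcases s with i | i <;> rcases t with j | j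
    · rw [hb2]; simp [Matrix.J]
    · rw [hb1]; simp [Matrix.J, Matrix.one_apply, hneg]
    · rw [Cfsg.Agent.S0752.alt_swap BB_alt, hb1]
      by_cases hij : i = j
      · simp [Matrix.J, Matrix.one_apply, hij, hneg]
      · simp [Matrix.J, Matrix.one_apply, hij, Ne.symm hij]
    · rw [hb3]; simp [Matrix.J]
  refine ⟨C, ?_, hCJ⟩
  have hdet : IsUnit (Cᵀ * (AA : Matrix (Fin m' ⊕ Fin m') (Fin m' ⊕ Fin m') K2) * C).det := by rw [hCJ]; exact Matrix.isUnit_det_J _ _
  rw [Matrix.det_mul] at hdet
  exact isUnit_of_mul_isUnit_right hdet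

end final

section assemble

variable {N : ℕ}

local notation "YY" => (Fin N ⊕ Fin N)

theorem even_card_YY : Even (Fintype.card YY) := by
  rw [Fintype.card_sum, Fintype.card_fin]; exact ⟨N, rfl⟩

theorem conj_mem (C : Matrix YY YY K2) (hC : IsUnit C.det)
    (hCJ : Cᵀ * (AA : Matrix YY YY K2) * C = Matrix.J (Fin N) K2) (σ : Equiv.Perm (XX YY)) :
    C⁻¹ * MM σ * C ∈ Matrix.symplecticGroup (Fin N) K2 := by
  rw [SymplecticGroup.mem_iff']
  have h1 : C * C⁻¹ = 1 := Matrix.mul_nonsing_inv C hC
  have h2 : (C⁻¹)ᵀ * Cᵀ = 1 := by rw [← Matrix.transpose_mul, h1, Matrix.transpose_one]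
  have h3 := MM_pres even_card_YY σ
  rw [← hCJ, Matrix.transpose_mul, Matrix.transpose_mul]
  calc Cᵀ * ((MM σ)ᵀ * (C⁻¹)ᵀ) * (Cᵀ * AA * C) * (C⁻¹ * MM σ * C)
      = Cᵀ * (MM σ)ᵀ * ((C⁻¹)ᵀ * Cᵀ) * AA * (C * C⁻¹) * MM σ * C := by
        simp only [Matrix.mul_assoc]
    _ = Cᵀ * ((MM σ)ᵀ * AA * MM σ) * C := by
        rw [h1, h2]; simp only [Matrix.mul_one, Matrix.mul_assoc]
    _ = Cᵀ * AA * C := by rw [h3, Matrix.mul_assoc]

/-- the embedding for `Perm (XX YY)` -/
noncomputable def FF (C : Matrix YY YY K2) (hC : IsUnit C.det)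
    (hCJ : Cᵀ * (AA : Matrix YY YY K2) * C = Matrix.J (Fin N) K2) :
    Equiv.Perm (XX YY) →* Matrix.symplecticGroup (Fin N) K2 where
  toFun σ := ⟨C⁻¹ * MM σ * C, conj_mem C hC hCJ σ⟩
  map_one' := by
    apply Subtype.ext
    change C⁻¹ * MM 1 * C = 1
    rw [MM_one, Matrix.mul_one, Matrix.nonsing_inv_mul C hC]
  map_mul' σ τ := by
    apply Subtype.ext
    change C⁻¹ * MM (σ * τ) * C = (C⁻¹ * MM σ * C) * (C⁻¹ * MM τ * C)
    have h1 : C * C⁻¹ = 1 := Matrix.mul_nonsing_inv C hC
    rw [MM_mul even_card_YY]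
    calc C⁻¹ * (MM σ * MM τ) * C = C⁻¹ * MM σ * 1 * MM τ * C := by
          simp only [Matrix.mul_one, Matrix.mul_assoc]
      _ = C⁻¹ * MM σ * C * (C⁻¹ * MM τ * C) := by
          rw [← h1]; simp only [Matrix.mul_assoc]

theorem FF_inj (hN : 2 ≤ N) (C : Matrix YY YY K2) (hC : IsUnit C.det)
    (hCJ : Cᵀ * (AA : Matrix YY YY K2) * C = Matrix.J (Fin N) K2) :
    Function.Injective (FF C hC hCJ) := by
  rw [injective_iff_map_eq_one]
  intro σ h
  have h0 : C⁻¹ * MM σ * C = 1 := congrArg Subtype.val h
  have h1 : C * C⁻¹ = 1 := Matrix.mul_nonsing_inv C hC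
  have h2 : MM σ = 1 := by
    calc MM σ = (C * C⁻¹) * MM σ * (C * C⁻¹) := by rw [h1, Matrix.one_mul, Matrix.mul_one]
      _ = C * (C⁻¹ * MM σ * C) * C⁻¹ := by simp only [Matrix.mul_assoc]
      _ = 1 := by rw [h0, Matrix.mul_one, h1]
  apply MM_inj even_card_YY _ σ h2
  rw [Fintype.card_sum, Fintype.card_fin]; omega

end assemble

/-- S_2n ≤ Sp_(2n−2)(2) for n ≥ 3: there is an injective homomorphism from the symmetric group on 2n letters into the symplectic group of degree 2n − 2 over the field with two elements. -/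
theorem result (n : ℕ) (hn : 3 ≤ n) : ∃ f : Equiv.Perm (Fin (2 * n)) →* Matrix.symplecticGroup (Fin (n - 1)) (ZMod 2), Function.Injective f := by
  classical
  obtain ⟨C, hC, hCJ⟩ := exists_C (N := n - 1)
  have hcard : Fintype.card (Fin (2 * n)) = Fintype.card (XX (Fin (n - 1) ⊕ Fin (n - 1))) := by
    rw [Fintype.card_option, Fintype.card_option, Fintype.card_sum, Fintype.card_fin, Fintype.card_fin]
    omega
  let e : Fin (2 * n) ≃ XX (Fin (n - 1) ⊕ Fin (n - 1)) := Fintype.equivOfCardEq hcard
  refine ⟨(FF C hC hCJ).comp (Equiv.permCongrHom e).toMonoidHom, ?_⟩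
  rw [MonoidHom.coe_comp]
  exact (FF_inj (by omega) C hC hCJ).comp (Equiv.permCongrHom e).injective

end Cfsg.Agent.S0826
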