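import Cfsg.Statements.S0828
-- import your own Cfsg.Agent.* helpers here
import Mathlib
import Cfsg.Agent.Lib_helper4_Symp
import Cfsg.Agent.S0765

set_option autoImplicit false
open Cfsg

namespace Cfsg.Agent.S0828

open Cfsg.Agent.helper4

section
variable {F : Type*} [Field F]

/-- non-degeneracy -/
theorem exists_ne_zero {m : ℕ} (u : Fin m ⊕ Fin m → F) (hu : u ≠ 0) :
    ∃ b, Cfsg.sympForm m F u b ≠ 0 := by
  have : ∃ a, u a ≠ 0 := by
    by_contra h
    push Not at h
    exact hu (funext h)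
  obtain ⟨a, ha⟩ := this
  rcases a with i | i
  · refine ⟨Cfsg.Agent.S0765.bv (Sum.inr i), ?_⟩
    rw [sympForm_swap, Cfsg.Agent.S0765.form_bv_inr]
    exact neg_ne_zero.mpr ha
  · refine ⟨Cfsg.Agent.S0765.bv (Sum.inl i), ?_⟩
    rw [sympForm_swap, Cfsg.Agent.S0765.form_bv_inl, neg_neg]
    exact ha

/-- the functional `B(v, ·)` -/
def phi (v : Fin 2 ⊕ Fin 2 → F) : (Fin 2 ⊕ Fin 2 → F) →ₗ[F] F where
  toFun w := Cfsg.sympForm 2 F v w
  map_add' := sympForm_add_right v
  map_smul' c w := by simp [sympForm_smul_right]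

@[simp] theorem phi_apply (v w : Fin 2 ⊕ Fin 2 → F) : phi v w = Cfsg.sympForm 2 F v w := rfl

theorem finrank_ker_phi (v : Fin 2 ⊕ Fin 2 → F) (hv : v ≠ 0) :
    Module.finrank F (LinearMap.ker (phi v)) = 3 := by
  have h1 := LinearMap.finrank_range_add_finrank_ker (phi v)
  rw [Module.finrank_fintype_fun_eq_card] at h1
  have h2 : LinearMap.range (phi v) = ⊤ := by
    obtain ⟨b, hb⟩ := exists_ne_zero v hv
    rw [eq_top_iff]
    intro c _
    refine ⟨(c / Cfsg.sympForm 2 F v b) • b, ?_⟩
    rw [map_smul, phi_apply, smul_eq_mul, div_mul_cancel₀ _ hb]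
  rw [h2, finrank_top, Module.finrank_self] at h1
  simp at h1
  omega

/-- totally isotropic -/
def TI (W : Submodule F (Fin 2 ⊕ Fin 2 → F)) : Prop :=
  ∀ u ∈ W, ∀ w ∈ W, Cfsg.sympForm 2 F u w = 0

theorem span_pair_TI (v w : Fin 2 ⊕ Fin 2 → F) (h : Cfsg.sympForm 2 F v w = 0) :
    TI (Submodule.span F {v, w}) := by
  intro x hx y hy
  obtain ⟨a, b, rfl⟩ := Submodule.mem_span_pair.mp hx
  obtain ⟨c, d, rfl⟩ := Submodule.mem_span_pair.mp hy
  have h' : Cfsg.sympForm 2 F w v = 0 := by rw [sympForm_swap, h, neg_zero]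
  simp only [sympForm_add_left, sympForm_add_right, sympForm_smul_left, sympForm_smul_right,
    sympForm_self, h, h', mul_zero, add_zero]

theorem finrank_span_pair (v w : Fin 2 ⊕ Fin 2 → F) (hv : v ≠ 0)
    (hw : w ∉ Submodule.span F {v}) : Module.finrank F (Submodule.span F {v, w}) = 2 := by
  have hli : LinearIndependent F ![v, w] := by
    rw [LinearIndependent.pair_iff' hv]
    intro a ha
    apply hw
    rw [Submodule.mem_span_singleton]
    exact ⟨a, ha⟩
  have := finrank_span_eq_card hli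
  rw [Fintype.card_fin] at this
  have h2 : Set.range ![v, w] = {v, w} := by
    ext x
    simp [eq_comm, or_comm]
  rw [h2] at this
  exact this

end

section count
variable {F : Type*} [Field F] [Fintype F]

open scoped Classical in
theorem card_filter_mem (W : Submodule F (Fin 2 ⊕ Fin 2 → F)) (k : ℕ)
    (hk : Module.finrank F W = k) :
    (Finset.univ.filter (fun x => x ∈ W)).card = Fintype.card F ^ k := by
  rw [← Fintype.card_subtype, ← hk]
  exact Module.card_eq_pow_finrank (K := F) (V := ↥W)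

noncomputable instance : Fintype (Submodule F (Fin 2 ⊕ Fin 2 → F)) := Fintype.ofFinite _

theorem arith1 (q : ℕ) (hq : 2 ≤ q) : q ^ 3 - q = (q + 1) * (q ^ 2 - q) := by
  obtain ⟨r, rfl⟩ : ∃ r, q = r + 2 := ⟨q - 2, by omega⟩
  have h1 : r + 2 ≤ (r + 2) ^ 2 := by nlinarith
  have h2 : r + 2 ≤ (r + 2) ^ 3 := by nlinarith [sq_nonneg r]
  zify [h1, h2]
  ring

theorem arith2 (q : ℕ) (hq : 2 ≤ q) : (q ^ 4 - 1) * (q + 1) = (q + 1) * (q ^ 2 + 1) * (q ^ 2 - 1) := by
  have h1 : 1 ≤ q ^ 2 := Nat.one_le_pow _ _ (by omega)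
  have h2 : 1 ≤ q ^ 4 := Nat.one_le_pow _ _ (by omega)
  zify [h1, h2]
  ring

set_option maxHeartbeats 2000000 in
open scoped Classical in
theorem count_through (v : Fin 2 ⊕ Fin 2 → F) (hv : v ≠ 0) :
    (Finset.univ.filter (fun W : Submodule F (Fin 2 ⊕ Fin 2 → F) =>
      Module.finrank F W = 2 ∧ v ∈ W ∧ TI W)).card = Fintype.card F + 1 := by
  obtain ⟨q, hq⟩ : ∃ q, q = Fintype.card F := ⟨_, rfl⟩
  have hq2 : 2 ≤ q := by rw [hq]; exact Fintype.one_lt_card
  rw [← hq]
  have hspan : Submodule.span F {v} ≤ LinearMap.ker (phi v) := by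
    rw [Submodule.span_singleton_le_iff_mem, LinearMap.mem_ker, phi_apply, sympForm_self]
  have hcard := Finset.card_mul_eq_card_mul
    (fun (W : Submodule F (Fin 2 ⊕ Fin 2 → F)) (w : Fin 2 ⊕ Fin 2 → F) => w ∈ W)
    (s := Finset.univ.filter (fun W : Submodule F (Fin 2 ⊕ Fin 2 → F) =>
      Module.finrank F W = 2 ∧ v ∈ W ∧ TI W))
    (t := Finset.univ.filter (fun w : Fin 2 ⊕ Fin 2 → F =>
      Cfsg.sympForm 2 F v w = 0 ∧ w ∉ Submodule.span F {v}))
    (m := q ^ 2 - q) (n := 1) ?_ ?_
  · have ht : (Finset.univ.filter (fun w : Fin 2 ⊕ Fin 2 → F =>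
        Cfsg.sympForm 2 F v w = 0 ∧ w ∉ Submodule.span F {v})).card = q ^ 3 - q := by
      have : (Finset.univ.filter (fun w : Fin 2 ⊕ Fin 2 → F =>
          Cfsg.sympForm 2 F v w = 0 ∧ w ∉ Submodule.span F {v})) =
          (Finset.univ.filter (fun w => w ∈ LinearMap.ker (phi v))) \
            (Finset.univ.filter (fun w => w ∈ Submodule.span F {v})) := by
        ext w
        simp [LinearMap.mem_ker]
      have h3 := card_filter_mem (LinearMap.ker (phi v)) 3 (finrank_ker_phi v hv)
      have h1 := card_filter_mem (Submodule.span F {v}) 1 (finrank_span_singleton hv)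
      rw [this, Finset.card_sdiff_of_subset, h3, h1, ← hq, pow_one]
      intro w hw
      simp only [Finset.mem_filter, Finset.mem_univ, true_and] at hw ⊢
      exact hspan hw
    rw [ht, mul_one, arith1 q hq2] at hcard
    exact Nat.eq_of_mul_eq_mul_right (by
      have : q < q ^ 2 := by nlinarith
      omega) hcard
  · intro W hW
    simp only [Finset.mem_filter, Finset.mem_univ, true_and] at hW
    obtain ⟨hW2, hvW, hTI⟩ := hW
    have : Finset.bipartiteAbove (fun (W : Submodule F (Fin 2 ⊕ Fin 2 → F))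
        (w : Fin 2 ⊕ Fin 2 → F) => w ∈ W) (Finset.univ.filter (fun w : Fin 2 ⊕ Fin 2 → F =>
        Cfsg.sympForm 2 F v w = 0 ∧ w ∉ Submodule.span F {v})) W =
        (Finset.univ.filter (fun w => w ∈ W)) \
          (Finset.univ.filter (fun w => w ∈ Submodule.span F {v})) := by
      ext w
      simp only [Finset.bipartiteAbove, Finset.mem_filter, Finset.mem_univ, true_and,
        Finset.mem_sdiff]
      constructor
      · rintro ⟨⟨_, h2⟩, h3⟩
        exact ⟨h3, h2⟩
      · rintro ⟨h3, h2⟩
        exact ⟨⟨hTI v hvW w h3, h2⟩, h3⟩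
    have h3 := card_filter_mem W 2 hW2
    have h1 := card_filter_mem (Submodule.span F {v}) 1 (finrank_span_singleton hv)
    rw [this, Finset.card_sdiff_of_subset, h3, h1, ← hq, pow_one]
    intro w hw
    simp only [Finset.mem_filter, Finset.mem_univ, true_and] at hw ⊢
    exact (Submodule.span_singleton_le_iff_mem v W).mpr hvW hw
  · intro w hw
    simp only [Finset.mem_filter, Finset.mem_univ, true_and] at hw
    obtain ⟨hvw, hwv⟩ := hw
    rw [Finset.card_eq_one]
    refine ⟨Submodule.span F {v, w}, ?_⟩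
    ext W
    simp only [Finset.bipartiteBelow, Finset.mem_filter, Finset.mem_univ, true_and,
      Finset.mem_singleton]
    constructor
    · rintro ⟨⟨hW2, hvW, _⟩, hwW⟩
      symm
      apply Submodule.eq_of_le_of_finrank_eq
      · rw [Submodule.span_le]
        rintro x (rfl | rfl)
        · exact hvW
        · exact hwW
      · rw [finrank_span_pair v w hv hwv, hW2]
    · rintro rfl
      refine ⟨⟨finrank_span_pair v w hv hwv, Submodule.subset_span (by simp),
        span_pair_TI v w hvw⟩, Submodule.subset_span (by simp)⟩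

set_option maxHeartbeats 2000000 in
open scoped Classical in
theorem count_all :
    (Finset.univ.filter (fun W : Submodule F (Fin 2 ⊕ Fin 2 → F) =>
      Module.finrank F W = 2 ∧ TI W)).card =
      (Fintype.card F + 1) * (Fintype.card F ^ 2 + 1) := by
  obtain ⟨q, hq⟩ : ∃ q, q = Fintype.card F := ⟨_, rfl⟩
  have hq2 : 2 ≤ q := by rw [hq]; exact Fintype.one_lt_card
  have hcard := Finset.card_mul_eq_card_mul
    (fun (W : Submodule F (Fin 2 ⊕ Fin 2 → F)) (w : Fin 2 ⊕ Fin 2 → F) => w ∈ W)
    (s := Finset.univ.filter (fun W : Submodule F (Fin 2 ⊕ Fin 2 → F) =>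
      Module.finrank F W = 2 ∧ TI W))
    (t := Finset.univ.filter (fun w : Fin 2 ⊕ Fin 2 → F => w ≠ 0))
    (m := q ^ 2 - 1) (n := q + 1) ?_ ?_
  · have ht : (Finset.univ.filter (fun w : Fin 2 ⊕ Fin 2 → F => w ≠ 0)).card = q ^ 4 - 1 := by
      rw [Finset.filter_ne', Finset.card_erase_of_mem (Finset.mem_univ _), Finset.card_univ,
        Module.card_eq_pow_finrank (K := F), Module.finrank_fintype_fun_eq_card, ← hq]
      simp
    rw [ht, arith2 q hq2] at hcard
    rw [← hq]
    exact Nat.eq_of_mul_eq_mul_right (by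
      have : 1 < q ^ 2 := by nlinarith
      omega) hcard
  · intro W hW
    simp only [Finset.mem_filter, Finset.mem_univ, true_and] at hW
    obtain ⟨hW2, hTI⟩ := hW
    have : Finset.bipartiteAbove (fun (W : Submodule F (Fin 2 ⊕ Fin 2 → F))
        (w : Fin 2 ⊕ Fin 2 → F) => w ∈ W)
        (Finset.univ.filter (fun w : Fin 2 ⊕ Fin 2 → F => w ≠ 0)) W =
        (Finset.univ.filter (fun w => w ∈ W)).erase 0 := by
      ext w
      simp only [Finset.bipartiteAbove, Finset.mem_filter, Finset.mem_univ, true_and,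
        Finset.mem_erase]
    have h3 := card_filter_mem W 2 hW2
    rw [this, Finset.card_erase_of_mem (by simp), h3, ← hq]
  · intro v hv
    simp only [Finset.mem_filter, Finset.mem_univ, true_and] at hv
    have := count_through v hv
    rw [← hq] at this
    rw [← this]
    congr 1
    ext W
    simp only [Finset.bipartiteBelow, Finset.mem_filter, Finset.mem_univ, true_and]
    tauto

end count


/-- The symplectic generalised quadrangle over a field with q elements: the number of 2-dimensional subspaces of F^4 on which the symplectic form vanishes is (q + 1)(q² + 1), and every non-zero vector lies in exactly q + 1 of them. -/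
theorem result {F : Type*} [Field F] [Fintype F] {q : ℕ} (hF : Fintype.card F = q) : Nat.card {W : Submodule F (Fin 2 ⊕ Fin 2 → F) // Module.finrank F W = 2 ∧ ∀ u ∈ W, ∀ v ∈ W, Cfsg.sympForm 2 F u v = 0} = (q + 1) * (q ^ 2 + 1) ∧ ∀ v : Fin 2 ⊕ Fin 2 → F, v ≠ 0 → Nat.card {W : Submodule F (Fin 2 ⊕ Fin 2 → F) // Module.finrank F W = 2 ∧ v ∈ W ∧ ∀ u ∈ W, ∀ w ∈ W, Cfsg.sympForm 2 F u w = 0} = q + 1 := by
  classical
  have key : ∀ P : Submodule F (Fin 2 ⊕ Fin 2 → F) → Prop,
      Nat.card {W // P W} = (Finset.univ.filter P).card := by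
    intro P
    rw [Nat.card_eq_fintype_card]
    exact Fintype.card_subtype P
  constructor
  · refine (key _).trans ?_
    rw [← hF]
    have := count_all (F := F)
    unfold TI at this
    convert this
  · intro v hv
    refine (key _).trans ?_
    rw [← hF]
    have := count_through v hv
    unfold TI at this
    convert this

end Cfsg.Agent.S0828
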