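import Cfsg.Statements.S0830
import Cfsg.Agent.Lib_helper11_HermLines3

set_option autoImplicit false
open Cfsg

namespace Cfsg.Agent.S0830

open Cfsg.Agent.helper11.HermCount Cfsg.Agent.helper11.Unitary Cfsg.Agent.helper11.HermLines

/-- The unitary quadrangle of PSU_5(q): with |F| = q², the number of 2-dimensional subspaces of F^5 on which the Hermitian form vanishes is (q³ + 1)(q⁵ + 1). -/
theorem result {F : Type*} [Field F] [Fintype F] {q : ℕ} (hF : Fintype.card F = q ^ 2) : Nat.card {W : Submodule F (Fin 5 → F) // Module.finrank F W = 2 ∧ ∀ u ∈ W, ∀ v ∈ W, Cfsg.hermForm 5 F q u v = 0} = (q ^ 3 + 1) * (q ^ 5 + 1) := by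
  classical
  have hq2 : 2 ≤ q := two_le_q hF
  have hq0 : (q : ℤ) ≠ 0 := by exact_mod_cast (show q ≠ 0 by omega)
  have hq1 : (2 : ℤ) ≤ q := by exact_mod_cast hq2
  -- isotropic vectors
  obtain ⟨I, hI⟩ : ∃ I, I = Nat.card {v : Fin 5 → F // hermForm 5 F q v v = 0} := ⟨_, rfl⟩
  have h1 := card_herm_isotropic_int hF 5
  rw [← hI] at h1
  norm_num at h1
  have hIz : (I : ℤ) = (q : ℤ) ^ 9 - (q : ℤ) ^ 5 + (q : ℤ) ^ 4 := by
    apply mul_left_cancel₀ hq0
    linear_combination h1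
  -- lines through a point
  have hL : ∀ v : Fin 5 → F, v ≠ 0 → hermForm 5 F q v v = 0 →
      (Finset.univ.filter (fun W : Submodule F (Fin 5 → F) =>
        Module.finrank F W = 2 ∧ v ∈ W ∧ TI 5 F q W)).card = q ^ 3 + 1 := by
    intro v hv hvv
    obtain ⟨A, hA⟩ : ∃ A, A = Nat.card {w : Fin 5 → F //
        hermForm 5 F q w v = 0 ∧ hermForm 5 F q w w = 0} := ⟨_, rfl⟩
    obtain ⟨S, hS⟩ : ∃ S, S = (Finset.univ.filter (fun W : Submodule F (Fin 5 → F) =>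
        Module.finrank F W = 2 ∧ v ∈ W ∧ TI 5 F q W)).card := ⟨_, rfl⟩
    have h2 := card_perp_iso hF v hv hvv
    have h3 := lines_through hF v hv hvv
    rw [← hA, ← hI, hF] at h2
    rw [← hA, ← hS, hF] at h3
    rw [← hS]
    have hle1 : (q ^ 2) ^ (5 - 1) ≤ (q ^ 2) ^ 5 :=
      Nat.pow_le_pow_right (by positivity) (by norm_num)
    have hle2 : q ^ 2 ≤ (q ^ 2) ^ 2 := by nlinarith
    have h2z : ((q : ℤ) ^ 2) * (A : ℤ) + (q : ℤ) * (((q : ℤ) ^ 2) ^ 5 - ((q : ℤ) ^ 2) ^ 4)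
        = (I : ℤ) * (q : ℤ) ^ 2 := by
      have := congrArg (Nat.cast : ℕ → ℤ) h2
      push_cast [Nat.cast_sub hle1] at this
      exact this
    have h3z : (S : ℤ) * (((q : ℤ) ^ 2) ^ 2 - (q : ℤ) ^ 2) + (q : ℤ) ^ 2 = (A : ℤ) := by
      have := congrArg (Nat.cast : ℕ → ℤ) h3
      push_cast [Nat.cast_sub hle2] at this
      exact this
    have hAz : (A : ℤ) = (q : ℤ) ^ 7 - (q : ℤ) ^ 5 + (q : ℤ) ^ 4 := by
      apply mul_left_cancel₀ (pow_ne_zero 2 hq0)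
      rw [hIz] at h2z
      linear_combination h2z
    have hne : ((q : ℤ) ^ 2) ^ 2 - (q : ℤ) ^ 2 ≠ 0 := by
      have : (q : ℤ) ^ 2 * ((q : ℤ) ^ 2 - 1) ≠ 0 := by
        apply mul_ne_zero (pow_ne_zero 2 hq0)
        nlinarith
      intro h
      apply this
      linear_combination h
    have hSz : (S : ℤ) = (q : ℤ) ^ 3 + 1 := by
      apply mul_right_cancel₀ hne
      rw [hAz] at h3z
      linear_combination h3z
    exact_mod_cast hSz
  -- all lines
  have h4 := lines_all (q ^ 3 + 1) hL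
  obtain ⟨S, hS⟩ : ∃ S, S = (Finset.univ.filter (fun W : Submodule F (Fin 5 → F) =>
      Module.finrank F W = 2 ∧ TI 5 F q W)).card := ⟨_, rfl⟩
  rw [← hS, ← hI, hF] at h4
  have hle3 : 1 ≤ (q ^ 2) ^ 2 := Nat.one_le_pow _ _ (by positivity)
  have h4z : (S : ℤ) * (((q : ℤ) ^ 2) ^ 2 - 1) + ((q : ℤ) ^ 3 + 1) = (I : ℤ) * ((q : ℤ) ^ 3 + 1) := by
    have := congrArg (Nat.cast : ℕ → ℤ) h4
    push_cast [Nat.cast_sub hle3] at this
    exact this
  have hne4 : ((q : ℤ) ^ 2) ^ 2 - 1 ≠ 0 := by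
    have h4' : (4 : ℤ) ≤ (q : ℤ) ^ 2 := by nlinarith
    intro h
    nlinarith
  have hSz : (S : ℤ) = ((q : ℤ) ^ 3 + 1) * ((q : ℤ) ^ 5 + 1) := by
    apply mul_right_cancel₀ hne4
    rw [hIz] at h4z
    linear_combination h4z
  have key : Nat.card {W : Submodule F (Fin 5 → F) // Module.finrank F W = 2 ∧
      ∀ u ∈ W, ∀ v ∈ W, Cfsg.hermForm 5 F q u v = 0} = S := by
    rw [Nat.card_eq_fintype_card, Fintype.card_subtype]
    have hS' := hS
    unfold TI at hS'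
    convert hS'.symm
  rw [key]
  exact_mod_cast hSz

end Cfsg.Agent.S0830
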