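import Cfsg.Statements.S0831
import Cfsg.Agent.Lib_helper13_MaxTS2

set_option autoImplicit false
open Cfsg

namespace Cfsg.Agent.S0831

open Cfsg.Agent.helper13 Module QuadraticMap


/-- The two families of maximal totally singular subspaces of the hyperbolic quadric: for the form Σ x_i y_i on F^(2m), m ≥ 1, and m-dimensional subspaces U, W, X on which it vanishes, the parities of m − dim(U ∩ W), m − dim(W ∩ X) and m − dim(U ∩ X) sum to an even number (so 'even codimension of the intersection' is an equivalence relation), and there exist two such subspaces meeting in codimension 1 (so there are exactly two classes). -/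
theorem result {F : Type*} [Field F] (m : ℕ) (hm : 1 ≤ m) : (∀ U W X : Submodule F (Fin m ⊕ Fin m → F), (Module.finrank F U = m ∧ ∀ w ∈ U, Cfsg.quadFormPlus m F w = 0) → (Module.finrank F W = m ∧ ∀ w ∈ W, Cfsg.quadFormPlus m F w = 0) → (Module.finrank F X = m ∧ ∀ w ∈ X, Cfsg.quadFormPlus m F w = 0) → Even ((m - Module.finrank F ↥(U ⊓ W)) + (m - Module.finrank F ↥(W ⊓ X)) + (m - Module.finrank F ↥(U ⊓ X)))) ∧ ∃ U W : Submodule F (Fin m ⊕ Fin m → F), (Module.finrank F U = m ∧ ∀ w ∈ U, Cfsg.quadFormPlus m F w = 0) ∧ (Module.finrank F W = m ∧ ∀ w ∈ W, Cfsg.quadFormPlus m F w = 0) ∧ Module.finrank F ↥(U ⊓ W) + 1 = m := by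
  have hnd := QPlus_nondeg (F := F) m
  have hV := finrank_plus_space F m
  constructor
  · intro U W X hU hW hX
    exact parity hnd hV U W X ⟨(ts_plus_iff F m U).mpr hU.2, hU.1⟩
      ⟨(ts_plus_iff F m W).mpr hW.2, hW.1⟩ ⟨(ts_plus_iff F m X).mpr hX.2, hX.1⟩
  · have hU₀ := stdU_mts F m
    have hx : QPlus F m (Pi.single (Sum.inr (⟨0, hm⟩ : Fin m)) 1) = 0 := by
      rw [QPlus_apply]
      exact quadFormPlus_single m _
    have hxU : (Pi.single (Sum.inr (⟨0, hm⟩ : Fin m)) 1 : Fin m ⊕ Fin m → F) ∉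
        LinearMap.range (inlMap F m) := by
      rintro ⟨a, ha⟩
      have := congr_fun ha (Sum.inr (⟨0, hm⟩ : Fin m))
      simp [inlMap] at this
    obtain ⟨X', hX', _, _, hadj⟩ := exists_adjacent hnd hV hU₀ hx hxU
    exact ⟨X', LinearMap.range (inlMap F m), ⟨hX'.rk, (ts_plus_iff F m X').mp hX'.ts⟩,
      ⟨hU₀.rk, (ts_plus_iff F m _).mp hU₀.ts⟩, hadj⟩

end Cfsg.Agent.S0831
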