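import Cfsg.Statements.S0832
import Cfsg.Agent.Lib_helper13_MaxTS2

set_option autoImplicit false
open Cfsg

namespace Cfsg.Agent.S0832

open Cfsg.Agent.helper13 Module QuadraticMap


/-- For the form Σ x_i y_i on F^(2m) over a finite field, m ≥ 1: an (m−1)-dimensional subspace on which the form vanishes is contained in exactly two m-dimensional subspaces on which it vanishes. -/
theorem result {F : Type*} [Field F] [Finite F] (m : ℕ) (hm : 1 ≤ m) (U : Submodule F (Fin m ⊕ Fin m → F)) (hU : Module.finrank F U + 1 = m ∧ ∀ u ∈ U, Cfsg.quadFormPlus m F u = 0) : Nat.card {W : Submodule F (Fin m ⊕ Fin m → F) // Module.finrank F W = m ∧ (∀ w ∈ W, Cfsg.quadFormPlus m F w = 0) ∧ U ≤ W} = 2 := by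
  obtain ⟨hUrk, hUts⟩ := hU
  have hnd := QPlus_nondeg (F := F) m
  have hV := finrank_plus_space F m
  have hH : TS (QPlus F m) U := (ts_plus_iff F m U).mpr hUts
  obtain ⟨A, B, hA, hB, hUA, hUB, hne, hall⟩ :=
    exists_two_through hnd hV (stdU_mts F m) hH hUrk
  rw [Nat.card_eq_two_iff]
  refine ⟨⟨A, hA.rk, (ts_plus_iff F m A).mp hA.ts, hUA⟩,
    ⟨B, hB.rk, (ts_plus_iff F m B).mp hB.ts, hUB⟩, ?_, ?_⟩
  · intro h
    exact hne (congrArg Subtype.val h)
  · ext ⟨W, hWrk, hWts, hUW⟩
    simp only [Set.mem_insert_iff, Set.mem_singleton_iff, Set.mem_univ, iff_true]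
    rcases hall W ⟨(ts_plus_iff F m W).mpr hWts, hWrk⟩ hUW with h | h
    · left
      exact Subtype.ext h
    · right
      exact Subtype.ext h

end Cfsg.Agent.S0832
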