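import Cfsg.Statements.S0833
import Mathlib
import Cfsg.Agent.S0752
-- import your own Cfsg.Agent.* helpers here

set_option autoImplicit false
open Cfsg

namespace Cfsg.Agent.S0833

open TensorProduct LinearMap in
attribute [local ext] TensorProduct.ext in
theorem tmul_symm_of_alt {F U W : Type*} [Field F] [AddCommGroup U] [Module F U]
    [AddCommGroup W] [Module F W] (B₁ : LinearMap.BilinForm F U) (B₂ : LinearMap.BilinForm F W)
    (hA₁ : B₁.IsAlt) (hA₂ : B₂.IsAlt) : (B₁.tmul B₂).IsSymm := by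
  rw [LinearMap.isSymm_iff_eq_flip]
  ext x₁ x₂ y₁ y₂
  show B₂ x₂ y₂ • B₁ x₁ y₁ = B₂ y₂ x₂ • B₁ y₁ x₁
  rw [← hA₁.neg_eq y₁ x₁, ← hA₂.neg_eq y₂ x₂]
  simp

open TensorProduct in
theorem tmul_eq_comp {F U W : Type*} [Field F] [AddCommGroup U] [Module F U]
    [AddCommGroup W] [Module F W] (B₁ : LinearMap.BilinForm F U) (B₂ : LinearMap.BilinForm F W) :
    (B₁.tmul B₂ : U ⊗[F] W →ₗ[F] Module.Dual F (U ⊗[F] W)) =
      (TensorProduct.dualDistrib F U W) ∘ₗ (TensorProduct.map B₁ B₂) := by
  apply TensorProduct.ext'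
  intro x w
  apply TensorProduct.ext'
  intro x' w'
  rw [LinearMap.comp_apply, TensorProduct.map_tmul, TensorProduct.dualDistrib_apply]
  show B₂ w w' • B₁ x x' = _
  rw [smul_eq_mul, mul_comm]

open TensorProduct in
theorem tmul_nondeg {F U W : Type*} [Field F] [AddCommGroup U] [Module F U]
    [FiniteDimensional F U] [AddCommGroup W] [Module F W] [FiniteDimensional F W]
    (B₁ : LinearMap.BilinForm F U) (B₂ : LinearMap.BilinForm F W)
    (h₁ : B₁.Nondegenerate) (h₂ : B₂.Nondegenerate) (hs : (B₁.tmul B₂).IsSymm) :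
    (B₁.tmul B₂).Nondegenerate := by
  have hinj : Function.Injective (B₁.tmul B₂ : U ⊗[F] W →ₗ[F] Module.Dual F (U ⊗[F] W)) := by
    rw [tmul_eq_comp]
    have e1 : (TensorProduct.map (B₁ : U →ₗ[F] Module.Dual F U) (B₂ : W →ₗ[F] Module.Dual F W)) =
        (TensorProduct.congr (B₁.toDual h₁) (B₂.toDual h₂)).toLinearMap := by
      apply TensorProduct.ext'
      intro x w
      rfl
    have i2 : Function.Injective (TensorProduct.dualDistrib F U W) :=
      (TensorProduct.dualDistribEquiv F U W).injective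
    rw [e1, LinearMap.coe_comp]
    exact i2.comp (LinearEquiv.injective _)
  have hleft : ∀ x : U ⊗[F] W, (∀ y, (B₁.tmul B₂) x y = 0) → x = 0 := by
    intro x hx
    apply hinj
    rw [map_zero]
    apply LinearMap.ext
    intro y
    exact hx y
  refine ⟨hleft, ?_⟩
  intro y hy
  apply hleft
  intro x
  have h := hs.eq x y
  rw [RingHom.id_apply] at h
  rw [← h]
  exact hy x

theorem exists_lagrangian {F U : Type*} [Field F] [AddCommGroup U] [Module F U]
    [FiniteDimensional F U] (B₁ : LinearMap.BilinForm F U) (h₁ : B₁.Nondegenerate)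
    (hA₁ : B₁.IsAlt) (k : ℕ) (hU : Module.finrank F U = 2 * k) :
    ∃ L : Submodule F U, Module.finrank F L = k ∧ ∀ x ∈ L, ∀ y ∈ L, B₁ x y = 0 := by
  classical
  obtain ⟨m', k', b, hb1, hb2, hb3, hb4⟩ := Cfsg.Agent.S0752.result B₁ hA₁
  have hk' : k' = 0 := by
    by_contra h
    have hpos : 0 < k' := Nat.pos_of_ne_zero h
    have h0 : b (Sum.inr ⟨0, hpos⟩) = 0 := h₁.1 _ (fun v => hb4 ⟨0, hpos⟩ v)
    exact b.ne_zero _ h0
  subst hk'
  have hm' : m' = k := by
    have := Module.finrank_eq_card_basis b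
    rw [hU] at this
    simp at this
    omega
  subst hm'
  set e : Fin m' → U := fun i => b (Sum.inl (Sum.inl i)) with he
  have hli : LinearIndependent F e := by
    have := b.linearIndependent.comp (fun i : Fin m' => (Sum.inl (Sum.inl i) : (Fin m' ⊕ Fin m') ⊕ Fin 0))
      (fun i j h => Sum.inl.inj (Sum.inl.inj h))
    exact this
  refine ⟨Submodule.span F (Set.range e), ?_, ?_⟩
  · rw [finrank_span_eq_card hli, Fintype.card_fin]
  · intro x hx y hy
    induction hx using Submodule.span_induction with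
    | mem x hx =>
      obtain ⟨i, rfl⟩ := hx
      induction hy using Submodule.span_induction with
      | mem y hy =>
        obtain ⟨j, rfl⟩ := hy
        exact hb2 i j
      | zero => rw [map_zero]
      | add _ _ _ _ h1 h2 => rw [map_add, h1, h2, add_zero]
      | smul a _ _ h => rw [map_smul, h, smul_zero]
    | zero => rw [map_zero, LinearMap.zero_apply]
    | add _ _ _ _ h1 h2 => rw [map_add, LinearMap.add_apply, h1, h2, add_zero]
    | smul a _ _ h => rw [map_smul, LinearMap.smul_apply, h, smul_zero]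

open TensorProduct in
theorem exists_isotropic_tensor {F U W : Type*} [Field F] [AddCommGroup U] [Module F U]
    [FiniteDimensional F U] [AddCommGroup W] [Module F W] [FiniteDimensional F W]
    (B₁ : LinearMap.BilinForm F U) (B₂ : LinearMap.BilinForm F W)
    (L : Submodule F U) (hL : ∀ x ∈ L, ∀ y ∈ L, B₁ x y = 0) :
    ∃ X : Submodule F (U ⊗[F] W), Module.finrank F X = Module.finrank F L * Module.finrank F W ∧
      ∀ x ∈ X, ∀ y ∈ X, (B₁.tmul B₂) x y = 0 := by
  have hinj : Function.Injective (L.subtype.rTensor W) :=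
    Module.Flat.rTensor_preserves_injective_linearMap _ L.subtype_injective
  refine ⟨LinearMap.range (L.subtype.rTensor W), ?_, ?_⟩
  · rw [LinearMap.finrank_range_of_inj hinj, Module.finrank_tensorProduct]
  · have key : (B₁.tmul B₂).compl₁₂ (L.subtype.rTensor W) (L.subtype.rTensor W) = 0 := by
      apply TensorProduct.ext'
      intro x w
      apply TensorProduct.ext'
      intro x' w'
      rw [LinearMap.compl₁₂_apply, LinearMap.rTensor_tmul, LinearMap.rTensor_tmul]
      show B₂ w w' • B₁ (x : U) (x' : U) = 0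
      rw [hL _ x.2 _ x'.2, smul_zero]
    rintro _ ⟨a, rfl⟩ _ ⟨b, rfl⟩
    have := congrArg (fun f => f a b) key
    simpa [LinearMap.compl₁₂_apply] using this

/-- If B₁, B₂ are non-degenerate alternating forms on U (dim 2k) and W (dim 2l), then B₁ ⊗ B₂ on U ⊗ W is symmetric, non-degenerate, and vanishes identically on some subspace of dimension 2kl (half of dim U ⊗ W). -/
theorem result {F U W : Type*} [Field F] [Fintype F] [AddCommGroup U] [Module F U] [FiniteDimensional F U] [AddCommGroup W] [Module F W] [FiniteDimensional F W] (B₁ : LinearMap.BilinForm F U) (B₂ : LinearMap.BilinForm F W) (h₁ : B₁.Nondegenerate) (h₂ : B₂.Nondegenerate) (hA₁ : B₁.IsAlt) (hA₂ : B₂.IsAlt) (k l : ℕ) (hU : Module.finrank F U = 2 * k) (hW : Module.finrank F W = 2 * l) : (B₁.tmul B₂).IsSymm ∧ (B₁.tmul B₂).Nondegenerate ∧ (∃ X : Submodule F (TensorProduct F U W), Module.finrank F X = 2 * k * l ∧ ∀ x ∈ X, ∀ y ∈ X, (B₁.tmul B₂) x y = 0) := by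
  have hs := tmul_symm_of_alt B₁ B₂ hA₁ hA₂
  refine ⟨hs, tmul_nondeg B₁ B₂ h₁ h₂ hs, ?_⟩
  obtain ⟨L, hLk, hL⟩ := exists_lagrangian B₁ h₁ hA₁ k hU
  obtain ⟨X, hX1, hX2⟩ := exists_isotropic_tensor B₁ B₂ L hL
  refine ⟨X, ?_, hX2⟩
  rw [hX1, hLk, hW]
  ring

end Cfsg.Agent.S0833
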