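import Cfsg.Statements.S0834
import Cfsg.Agent.Lib_helper13_TensorType

set_option autoImplicit false
open Cfsg

namespace Cfsg.Agent.S0834

open Cfsg.Agent.helper13 Module


/-- Over a finite field with 2 ≠ 0: if B₁ on U (dim 2k, k ≥ 1) and B₂ on W (dim 2l, l ≥ 1) are non-degenerate symmetric forms admitting no totally isotropic subspaces of dimensions k, resp. l (minus type), then B₁ ⊗ B₂ admits a totally isotropic subspace of dimension 2kl (plus type). -/
theorem result {F U W : Type*} [Field F] [Fintype F] [AddCommGroup U] [Module F U] [FiniteDimensional F U] [AddCommGroup W] [Module F W] [FiniteDimensional F W] (h2 : (2 : F) ≠ 0) (B₁ : LinearMap.BilinForm F U) (B₂ : LinearMap.BilinForm F W) (h₁ : B₁.Nondegenerate) (h₂ : B₂.Nondegenerate) (hS₁ : B₁.IsSymm) (hS₂ : B₂.IsSymm) (k l : ℕ) (hk : 1 ≤ k) (hl : 1 ≤ l) (hU : Module.finrank F U = 2 * k) (hW : Module.finrank F W = 2 * l) (hm₁ : ¬ (∃ X : Submodule F (U), Module.finrank F X = k ∧ ∀ x ∈ X,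 ∀ y ∈ X, (B₁) x y = 0)) (hm₂ : ¬ (∃ X : Submodule F (W), Module.finrank F X = l ∧ ∀ x ∈ X, ∀ y ∈ X, (B₂) x y = 0)) : (∃ X : Submodule F (TensorProduct F U W), Module.finrank F X = 2 * k * l ∧ ∀ x ∈ X, ∀ y ∈ X, (B₁.tmul B₂) x y = 0) := by
  classical
  have hq : Odd (Fintype.card F) :=
    Nat.odd_iff.mpr (FiniteField.odd_card_of_char_ne_two (ringChar_ne_two_of h2))
  set b₁ := Module.finBasis F U with hb₁
  set b₂ := Module.finBasis F W with hb₂
  have hd₁ : (LinearMap.BilinForm.toMatrix b₁ B₁).det ≠ 0 :=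
    (LinearMap.BilinForm.nondegenerate_iff_det_ne_zero b₁).mp h₁
  have hd₂ : (LinearMap.BilinForm.toMatrix b₂ B₂).det ≠ 0 :=
    (LinearMap.BilinForm.nondegenerate_iff_det_ne_zero b₂).mp h₂
  have hc1 : Fintype.card (Fin (Module.finrank F W)) = 2 * l := by rw [Fintype.card_fin, hW]
  have hc2 : Fintype.card (Fin (Module.finrank F U)) = 2 * k := by rw [Fintype.card_fin, hU]
  have hdet := det_toMatrix_tmul b₁ b₂ B₁ B₂
  rw [hc1, hc2] at hdet
  have hT : LinearMap.BilinForm.Nondegenerate (B₁.tmul B₂) := by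
    apply (LinearMap.BilinForm.nondegenerate_iff_det_ne_zero (b₁.tensorProduct b₂)).mpr
    rw [hdet]
    exact mul_ne_zero (pow_ne_zero _ hd₁) (pow_ne_zero _ hd₂)
  have hTS : LinearMap.BilinForm.IsSymm (B₁.tmul B₂) :=
    LinearMap.BilinForm.isSymm_iff.mpr (LinearMap.IsSymm.tmul (LinearMap.BilinForm.isSymm_iff.mp hS₁)
      (LinearMap.BilinForm.isSymm_iff.mp hS₂))
  have hVT : Module.finrank F (TensorProduct F U W) = 2 * (2 * k * l) := by
    rw [Module.finrank_tensorProduct, hU, hW]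
    ring
  have hK : 1 ≤ 2 * k * l := by nlinarith
  apply (ti_iff_disc h2 (B₁.tmul B₂) hT hTS hK hVT (b₁.tensorProduct b₂)).mpr
  rw [hdet]
  constructor
  · intro _
    obtain ⟨h, hh⟩ := hq
    rw [hh, Nat.add_sub_cancel]
    have : 2 * k * l * (2 * h) / 2 = 2 * (k * l * h) := by
      rw [show 2 * k * l * (2 * h) = 2 * (2 * (k * l * h)) by ring]
      exact Nat.mul_div_cancel_left _ (by norm_num)
    rw [this]
    exact even_two_mul _
  · intro _
    exact ⟨(LinearMap.BilinForm.toMatrix b₁ B₁).det ^ l * (LinearMap.BilinForm.toMatrix b₂ B₂).det ^ k,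
      by ring⟩

end Cfsg.Agent.S0834
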