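import Cfsg.Statements.S0835
import Cfsg.Agent.Lib_helper13_TensorType

set_option autoImplicit false
open Cfsg

namespace Cfsg.Agent.S0835

open Cfsg.Agent.helper13 Module


/-- Over a finite field with 2 ≠ 0: if B₁ on U (dim 2k, k ≥ 1) is non-degenerate symmetric of minus type (no totally isotropic k-subspace) and B₂ on W (dim 2l + 1) is non-degenerate symmetric, then B₁ ⊗ B₂ (dimension 2k(2l+1)) admits no totally isotropic subspace of dimension k(2l+1) (minus type). -/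
theorem result {F U W : Type*} [Field F] [Fintype F] [AddCommGroup U] [Module F U] [FiniteDimensional F U] [AddCommGroup W] [Module F W] [FiniteDimensional F W] (h2 : (2 : F) ≠ 0) (B₁ : LinearMap.BilinForm F U) (B₂ : LinearMap.BilinForm F W) (h₁ : B₁.Nondegenerate) (h₂ : B₂.Nondegenerate) (hS₁ : B₁.IsSymm) (hS₂ : B₂.IsSymm) (k l : ℕ) (hk : 1 ≤ k) (hU : Module.finrank F U = 2 * k) (hW : Module.finrank F W = 2 * l + 1) (hm₁ : ¬ (∃ X : Submodule F (U), Module.finrank F X = k ∧ ∀ x ∈ X, ∀ y ∈ X, (B₁) x y = 0)) : ¬ (∃ X : Submodule F (TensorProduct F U W), Module.finrank F X = k * (2 * l + 1) ∧ ∀ x ∈ X, ∀ y ∈ X, (B₁.tmul B₂) x y = 0) := by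
  classical
  have hq : Odd (Fintype.card F) :=
    Nat.odd_iff.mpr (FiniteField.odd_card_of_char_ne_two (ringChar_ne_two_of h2))
  set b₁ := Module.finBasis F U with hb₁
  set b₂ := Module.finBasis F W with hb₂
  set d₁ := (LinearMap.BilinForm.toMatrix b₁ B₁).det with hd₁def
  set d₂ := (LinearMap.BilinForm.toMatrix b₂ B₂).det with hd₂def
  have hd₁ : d₁ ≠ 0 := (LinearMap.BilinForm.nondegenerate_iff_det_ne_zero b₁).mp h₁
  have hd₂ : d₂ ≠ 0 := (LinearMap.BilinForm.nondegenerate_iff_det_ne_zero b₂).mp h₂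
  have hc1 : Fintype.card (Fin (Module.finrank F W)) = 2 * l + 1 := by rw [Fintype.card_fin, hW]
  have hc2 : Fintype.card (Fin (Module.finrank F U)) = 2 * k := by rw [Fintype.card_fin, hU]
  have hdet := det_toMatrix_tmul b₁ b₂ B₁ B₂
  rw [hc1, hc2, ← hd₁def, ← hd₂def] at hdet
  have hT : LinearMap.BilinForm.Nondegenerate (B₁.tmul B₂) := by
    apply (LinearMap.BilinForm.nondegenerate_iff_det_ne_zero (b₁.tensorProduct b₂)).mpr
    rw [hdet]
    exact mul_ne_zero (pow_ne_zero _ hd₁) (pow_ne_zero _ hd₂)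
  have hTS : LinearMap.BilinForm.IsSymm (B₁.tmul B₂) :=
    LinearMap.BilinForm.isSymm_iff.mpr (LinearMap.IsSymm.tmul (LinearMap.BilinForm.isSymm_iff.mp hS₁)
      (LinearMap.BilinForm.isSymm_iff.mp hS₂))
  have hVT : Module.finrank F (TensorProduct F U W) = 2 * (k * (2 * l + 1)) := by
    rw [Module.finrank_tensorProduct, hU, hW]
    ring
  have hK : 1 ≤ k * (2 * l + 1) := by nlinarith
  rw [ti_iff_disc h2 (B₁.tmul B₂) hT hTS hK hVT (b₁.tensorProduct b₂)]
  rw [ti_iff_disc h2 B₁ h₁ hS₁ hk hU b₁, ← hd₁def] at hm₁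
  rw [hdet]
  have e1 : d₁ ^ (2 * l + 1) * d₂ ^ (2 * k) = (d₁ ^ l * d₂ ^ k) ^ 2 * d₁ := by ring
  rw [e1, isSquare_sq_mul _ _ (mul_ne_zero (pow_ne_zero _ hd₁) (pow_ne_zero _ hd₂))]
  obtain ⟨h, hh⟩ := hq
  rw [hh, Nat.add_sub_cancel] at hm₁ ⊢
  have e2 : k * (2 * l + 1) * (2 * h) / 2 = k * (2 * l + 1) * h := by
    rw [show k * (2 * l + 1) * (2 * h) = 2 * (k * (2 * l + 1) * h) by ring]
    exact Nat.mul_div_cancel_left _ (by norm_num)
  have e3 : k * (2 * h) / 2 = k * h := by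
    rw [show k * (2 * h) = 2 * (k * h) by ring]
    exact Nat.mul_div_cancel_left _ (by norm_num)
  rw [e2]
  rw [e3] at hm₁
  have e4 : Even (k * (2 * l + 1) * h) ↔ Even (k * h) := by
    simp only [Nat.even_mul, Nat.even_add_one, even_two, true_or, not_true_eq_false, or_false]
  rw [e4]
  exact hm₁

end Cfsg.Agent.S0835
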