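import Mathlib
import Cfsg.Statements.S0836

set_option autoImplicit false
open Cfsg

namespace Cfsg.Agent.S0836

open Matrix
open scoped commutatorElement

theorem comm_eq_of_mul_eq {G : Type*} [Group G] (g h t : G) (H : g * h = t * h * g) :
    ⁅g, h⁆ = t := by
  rw [commutatorElement_def, H]
  group

/-- the matrix identity for three distinct indices -/
theorem mat_identity {F : Type*} [Field F] {n : ℕ} (i j k : Fin n) (hij : i ≠ j) (hik : i ≠ k)
    (hjk : j ≠ k) (a : F) :
    transvection i k a * transvection k j (1 : F) =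
      transvection i j a * transvection k j (1 : F) * transvection i k a := by
  unfold transvection
  have e1 : single i j a * single k j (1 : F) = 0 := Matrix.single_mul_single_of_ne _ _ _ _ hjk _
  have e2 : single i j a * single i k a = 0 := Matrix.single_mul_single_of_ne _ _ _ _ hij.symm _
  have e3 : single k j (1 : F) * single i k a = 0 := Matrix.single_mul_single_of_ne _ _ _ _ hij.symm _
  simp only [add_mul, mul_add, one_mul, mul_one, Matrix.single_mul_single_same, e1, e2, e3,
    add_zero, zero_add, zero_mul]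
  abel

/-- For i ≠ j and any scalar c, the elementary transvection 1 + c E_ij is a commutator ⁅g, h⁆ of two elements of SL_n(F) provided n ≥ 3, or n = 2 and F contains x ≠ 0 with x² ≠ 1. -/
theorem result {F : Type*} [Field F] (n : ℕ) (hn : 3 ≤ n ∨ (n = 2 ∧ ∃ x : F, x ≠ 0 ∧ x ^ 2 ≠ 1)) (i j : Fin n) (hij : i ≠ j) (c : F) (t : Matrix.SpecialLinearGroup (Fin n) F) (ht : (t : Matrix (Fin n) (Fin n) F) = Matrix.transvection i j c) : t ∈ commutatorSet (Matrix.SpecialLinearGroup (Fin n) F) := by
  classical
  rw [mem_commutatorSet_iff]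
  rcases hn with hn | ⟨rfl, x, hx0, hx1⟩
  · -- a third index
    have hcard : ({i, j} : Finset (Fin n)).card < (Finset.univ : Finset (Fin n)).card := by
      have h1 : ({i, j} : Finset (Fin n)).card ≤ 2 := Finset.card_le_two
      have h2 : (Finset.univ : Finset (Fin n)).card = n := by simp
      omega
    obtain ⟨k, _, hk⟩ := Finset.exists_mem_notMem_of_card_lt_card hcard
    have hki : k ≠ i := fun h => hk (by simp [h])
    have hkj : k ≠ j := fun h => hk (by simp [h])
    let A : Matrix.SpecialLinearGroup (Fin n) F :=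
      ⟨transvection i k c, det_transvection_of_ne i k hki.symm c⟩
    let B : Matrix.SpecialLinearGroup (Fin n) F :=
      ⟨transvection k j 1, det_transvection_of_ne k j hkj 1⟩
    refine ⟨A, B, comm_eq_of_mul_eq A B t ?_⟩
    apply Subtype.ext
    change (transvection i k c * transvection k j 1 : Matrix (Fin n) (Fin n) F) =
      (t : Matrix (Fin n) (Fin n) F) * transvection k j 1 * transvection i k c
    rw [ht]
    exact mat_identity i j k hij hki.symm hkj.symm c
  · -- n = 2
    have hx2 : x ^ 2 - 1 ≠ 0 := sub_ne_zero.mpr hx1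
    have hxi : x⁻¹ ^ 2 - 1 ≠ 0 := by
      intro h
      apply hx1
      have h1 : x⁻¹ ^ 2 = 1 := sub_eq_zero.mp h
      have h2 : (x ^ 2) * (x⁻¹ ^ 2) = 1 := by
        rw [← mul_pow, mul_inv_cancel₀ hx0, one_pow]
      rw [h1, mul_one] at h2
      exact h2
    let D : Matrix.SpecialLinearGroup (Fin 2) F :=
      ⟨!![x, 0; 0, x⁻¹], by simp [Matrix.det_fin_two, hx0]⟩
    have hi2 : ∀ a : Fin 2, a = 0 ∨ a = 1 := by
      intro a; fin_cases a <;> simp
    rcases hi2 i with rfl | rfl <;> rcases hi2 j with rfl | rfl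
    · exact absurd rfl hij
    · -- (0,1)
      let B : Matrix.SpecialLinearGroup (Fin 2) F :=
        ⟨transvection 0 1 (c / (x ^ 2 - 1)), det_transvection_of_ne 0 1 (by decide) _⟩
      refine ⟨D, B, comm_eq_of_mul_eq D B t ?_⟩
      apply Subtype.ext
      change ((!![x, 0; 0, x⁻¹] : Matrix (Fin 2) (Fin 2) F) * (B : Matrix (Fin 2) (Fin 2) F)) =
        (t : Matrix (Fin 2) (Fin 2) F) * (B : Matrix (Fin 2) (Fin 2) F) * !![x, 0; 0, x⁻¹]
      rw [ht]
      ext a b
      fin_cases a <;> fin_cases b <;>
        simp [B, transvection, Matrix.mul_apply, Fin.sum_univ_two, Matrix.single, Matrix.one_apply] <;>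
        (try field_simp) <;> (try ring)
    · -- (1,0)
      let B : Matrix.SpecialLinearGroup (Fin 2) F :=
        ⟨transvection 1 0 (c / (x⁻¹ ^ 2 - 1)), det_transvection_of_ne 1 0 (by decide) _⟩
      refine ⟨D, B, comm_eq_of_mul_eq D B t ?_⟩
      apply Subtype.ext
      change ((!![x, 0; 0, x⁻¹] : Matrix (Fin 2) (Fin 2) F) * (B : Matrix (Fin 2) (Fin 2) F)) =
        (t : Matrix (Fin 2) (Fin 2) F) * (B : Matrix (Fin 2) (Fin 2) F) * !![x, 0; 0, x⁻¹]
      rw [ht]
      ext a b
      fin_cases a <;> fin_cases b <;>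
        simp [B, transvection, Matrix.mul_apply, Fin.sum_univ_two, Matrix.single, Matrix.one_apply] <;>
        (try field_simp) <;> (try ring)
    · exact absurd rfl hij

end Cfsg.Agent.S0836
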