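-- Statement S0838: odd-dimensional quadratic forms over finite fields of odd order are similar.
import Cfsg.Statements.S0838
import Cfsg.Agent.S2623

set_option autoImplicit false
open Cfsg

namespace Cfsg.Agent.S0838

open Matrix QuadraticMap

section aux
variable {F : Type*} [Field F] {n : ℕ}

theorem gram_eq (Q : QuadraticForm F (Fin n → F)) :
    (Matrix.of (fun i j : Fin n => polar (⇑Q) (Pi.single i 1) (Pi.single j 1))) =
      LinearMap.BilinForm.toMatrix' (polarBilin Q) := by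
  ext i j
  rw [LinearMap.BilinForm.toMatrix'_apply, polarBilin_apply_apply]
  rfl

theorem det_ne_iff (Q : QuadraticForm F (Fin n → F)) :
    (polarBilin Q).Nondegenerate ↔
    (Matrix.of (fun i j : Fin n => polar (⇑Q) (Pi.single i 1) (Pi.single j 1))).det ≠ 0 := by
  rw [gram_eq, ← Matrix.nondegenerate_iff_det_ne_zero,
    LinearMap.BilinForm.nondegenerate_toMatrix'_iff]

theorem gram_smul (Q : QuadraticForm F (Fin n → F)) (c : F) :
    (Matrix.of (fun i j : Fin n => polar (⇑(c • Q)) (Pi.single i 1) (Pi.single j 1))) =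
      c • (Matrix.of (fun i j : Fin n => polar (⇑Q) (Pi.single i 1) (Pi.single j 1))) := by
  ext i j
  rw [Matrix.smul_apply, Matrix.of_apply, Matrix.of_apply, QuadraticMap.coeFn_smul, polar_smul]

end aux

/-- Over a finite field with 2 ≠ 0 and n odd: two quadratic forms Q₁, Q₂ on F^n with non-degenerate polar forms are similar — there are an invertible linear map g and a scalar c ≠ 0 with Q₂ (g v) = c · Q₁ v for all v. -/
theorem result {F : Type*} [Field F] [Fintype F] (h2 : (2 : F) ≠ 0) {n : ℕ} (hn : Odd n) (Q₁ Q₂ : QuadraticForm F (Fin n → F)) (h₁ : (QuadraticMap.polarBilin Q₁).Nondegenerate) (h₂ : (QuadraticMap.polarBilin Q₂).Nondegenerate) : ∃ (g : (Fin n → F) ≃ₗ[F] (Fin n → F)) (c : F), c ≠ 0 ∧ ∀ v, Q₂ (g v) = c * Q₁ v := by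
  have hd₁ := (det_ne_iff Q₁).mp h₁
  have hd₂ := (det_ne_iff Q₂).mp h₂
  set d₁ := (Matrix.of (fun i j : Fin n => polar (⇑Q₁) (Pi.single i 1) (Pi.single j 1))).det with hd₁def
  set d₂ := (Matrix.of (fun i j : Fin n => polar (⇑Q₂) (Pi.single i 1) (Pi.single j 1))).det with hd₂def
  have hc : d₁ * d₂ ≠ 0 := mul_ne_zero hd₁ hd₂
  obtain ⟨k, hk⟩ := hn
  have hdet : (Matrix.of (fun i j : Fin n => polar (⇑((d₁ * d₂) • Q₁)) (Pi.single i 1) (Pi.single j 1))).det =
      (d₁ * d₂) ^ n * d₁ := by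
    rw [gram_smul, Matrix.det_smul, Fintype.card_fin]
  have hnd : (polarBilin ((d₁ * d₂) • Q₁)).Nondegenerate := by
    rw [det_ne_iff, hdet]
    exact mul_ne_zero (pow_ne_zero _ hc) hd₁
  have hsq : IsSquare ((Matrix.of (fun i j : Fin n => polar (⇑((d₁ * d₂) • Q₁)) (Pi.single i 1) (Pi.single j 1))).det *
      (Matrix.of (fun i j : Fin n => polar (⇑Q₂) (Pi.single i 1) (Pi.single j 1))).det) := by
    rw [hdet, ← hd₂def, hk]
    exact ⟨(d₁ * d₂) ^ k * (d₁ * d₂), by ring⟩
  obtain ⟨g, hg⟩ := (Cfsg.Agent.S2623.result h2 ((d₁ * d₂) • Q₁) Q₂ hnd h₂).mpr hsq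
  refine ⟨g, d₁ * d₂, hc, fun v => ?_⟩
  rw [hg v, QuadraticMap.smul_apply, smul_eq_mul]

end Cfsg.Agent.S0838
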