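-- Statement S0839: transvections of SL conjugate into the first-column root group.
import Cfsg.Statements.S0839
import Cfsg.Agent.S2579

set_option autoImplicit false
open Cfsg

namespace Cfsg.Agent.S0839

open Matrix

theorem key {F : Type*} [Field F] (n : ℕ) (δ : F) (hδ : δ ≠ 0) :
    Cfsg.Agent.S2579.E' F n * Matrix.diagonal (fun i : Fin (n + 2) => if i = 1 then δ⁻¹ else 1) =
      Matrix.diagonal (fun i : Fin (n + 2) => if i = 1 then δ⁻¹ else 1) *
        (1 + Matrix.vecMulVec (Pi.single 1 δ) (Pi.single 0 1)) := by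
  have h01 : (0 : Fin (n + 2)) ≠ 1 := by
    intro h
    have := congrArg Fin.val h
    simp at this
  ext i j
  rw [Matrix.mul_diagonal, Matrix.diagonal_mul]
  simp only [Cfsg.Agent.S2579.E', Matrix.add_apply, Matrix.one_apply, Matrix.single_apply,
    Matrix.vecMulVec_apply, Pi.single_apply]
  by_cases hi : i = 1
  · by_cases hj : j = 0
    · subst hi; subst hj
      simp [h01, h01.symm, hδ]
    · subst hi
      by_cases hj1 : j = 1
      · subst hj1; simp [h01, h01.symm]
      · simp [hj, hj1, Ne.symm hj1, Ne.symm hj]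
  · by_cases hij : i = j
    · subst hij; simp [hi, Ne.symm hi]
    · simp [hi, hij, Ne.symm hi]

/-- Every transvection t ∈ SL_(n+2)(F) (rank(t − 1) = 1, (t − 1)² = 0) is conjugate in SL_(n+2)(F) to 1 + v·e_0ᵀ for some column vector v with v_0 = 0 (the group A of matrices that are the identity except in the first column below the diagonal); the dimension is written n + 2 ≥ 2. -/
theorem result {F : Type*} [Field F] (n : ℕ) (t : Matrix.SpecialLinearGroup (Fin (n + 2)) F) (ht : Cfsg.IsTransvection (t : Matrix (Fin (n + 2)) (Fin (n + 2)) F)) : ∃ (g : Matrix.SpecialLinearGroup (Fin (n + 2)) F) (v : Fin (n + 2) → F), v 0 = 0 ∧ ((g⁻¹ * t * g : Matrix.SpecialLinearGroup (Fin (n + 2)) F) : Matrix (Fin (n + 2)) (Fin (n + 2)) F) = 1 + Matrix.vecMulVec v (Pi.single 0 1) := by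
  obtain ⟨P, hP, hPt⟩ := Cfsg.Agent.S2579.exists_adapted n (t : Matrix (Fin (n + 2)) (Fin (n + 2)) F) ht.1 ht.2
  have hδ : P.det ≠ 0 := hP.ne_zero
  have h01 : (0 : Fin (n + 2)) ≠ 1 := by
    intro h
    have := congrArg Fin.val h
    simp at this
  have hdetD : (Matrix.diagonal (fun i : Fin (n + 2) => if i = 1 then P.det⁻¹ else 1)).det = P.det⁻¹ := by
    rw [Matrix.det_diagonal, Finset.prod_ite_eq' Finset.univ (1 : Fin (n + 2))]
    simp
  have hdetG : (P * Matrix.diagonal (fun i : Fin (n + 2) => if i = 1 then P.det⁻¹ else 1)).det = 1 := by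
    rw [Matrix.det_mul, hdetD, mul_inv_cancel₀ hδ]
  refine ⟨⟨_, hdetG⟩, Pi.single 1 P.det, ?_, ?_⟩
  · rw [Pi.single_apply, if_neg h01]
  · have heq : (t : Matrix (Fin (n + 2)) (Fin (n + 2)) F) *
        (P * Matrix.diagonal (fun i : Fin (n + 2) => if i = 1 then P.det⁻¹ else 1)) =
        (P * Matrix.diagonal (fun i : Fin (n + 2) => if i = 1 then P.det⁻¹ else 1)) *
          (1 + Matrix.vecMulVec (Pi.single 1 P.det) (Pi.single 0 1)) := by
      rw [← Matrix.mul_assoc, hPt, Matrix.mul_assoc, key n P.det hδ, Matrix.mul_assoc]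
    set g : Matrix.SpecialLinearGroup (Fin (n + 2)) F := ⟨_, hdetG⟩ with hg
    have hgc : (g : Matrix (Fin (n + 2)) (Fin (n + 2)) F) =
        P * Matrix.diagonal (fun i : Fin (n + 2) => if i = 1 then P.det⁻¹ else 1) := rfl
    rw [Matrix.SpecialLinearGroup.coe_mul, Matrix.SpecialLinearGroup.coe_mul, Matrix.mul_assoc, hgc,
      heq, ← hgc, ← Matrix.mul_assoc, ← Matrix.SpecialLinearGroup.coe_mul, inv_mul_cancel,
      Matrix.SpecialLinearGroup.coe_one, Matrix.one_mul]

end Cfsg.Agent.S0839
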