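import Cfsg.Statements.S0840
import Mathlib
import Cfsg.Agent.Lib_helper24_Char
import Cfsg.Agent.Lib_helper23_ClassSum
import Cfsg.Agent.Lib_helper5_Ind
import Cfsg.Agent.Lib_helper5_Sylow

set_option autoImplicit false
open scoped ComplexConjugate
open Cfsg

namespace Cfsg.Agent.S0840

open Cfsg.Agent.helper24 Cfsg.Agent.helper23 Cfsg.Agent.helper5

theorem card_class_mul {G : Type*} [Group G] [Finite G] (a : G) :
    (Nat.card {x : G // IsConj a x} : ℂ) * (Nat.card (Subgroup.centralizer ({a} : Set G)) : ℂ) =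
      (Nat.card G : ℂ) := by
  have h1 : Nat.card {x : G // IsConj a x} = Nat.card {x : G // IsConj x a} :=
    Nat.card_congr (Equiv.subtypeEquivRight (fun x => isConj_comm))
  rw [h1]
  exact_mod_cast card_conj_mul_card_centralizer a

theorem result {G : Type*} [Group G] [Finite G] (a b c : G) : (Nat.card {p : G × G // IsConj a p.1 ∧ IsConj b p.2 ∧ p.1 * p.2 = c} : ℂ) = (Nat.card {x : G // IsConj a x} : ℂ) * (Nat.card {x : G // IsConj b x} : ℂ) / (Nat.card G : ℂ) * ∑ᶠ χ : Cfsg.IrrCharacter G, (χ : G → ℂ) a * (χ : G → ℂ) b * conj ((χ : G → ℂ) c) / (χ : G → ℂ) 1 := by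
  classical
  have := Fintype.ofFinite G
  have : Fintype (IrrCharacter G) := Fintype.ofFinite _
  rw [finsum_eq_sum_of_fintype]
  set Ca : ℂ := (Nat.card (Subgroup.centralizer ({a} : Set G)) : ℂ) with hCa
  set Cb : ℂ := (Nat.card (Subgroup.centralizer ({b} : Set G)) : ℂ) with hCb
  have hCa0 : Ca ≠ 0 := by rw [hCa]; exact_mod_cast Nat.card_pos.ne'
  have hCb0 : Cb ≠ 0 := by rw [hCb]; exact_mod_cast Nat.card_pos.ne'
  have hG0 : (Nat.card G : ℂ) ≠ 0 := by exact_mod_cast Nat.card_pos.ne'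
  -- step (i): the count as a sum of indicators
  have hN : (Nat.card {p : G × G // IsConj a p.1 ∧ IsConj b p.2 ∧ p.1 * p.2 = c} : ℂ) =
      ∑ x : G, if IsConj a x then (if IsConj b (x⁻¹ * c) then (1 : ℂ) else 0) else 0 := by
    have e : {p : G × G // IsConj a p.1 ∧ IsConj b p.2 ∧ p.1 * p.2 = c} ≃
        {x : G // IsConj a x ∧ IsConj b (x⁻¹ * c)} :=
      { toFun := fun p => ⟨p.1.1, p.2.1, by
          have h3 := p.2.2.2
          have : p.1.1⁻¹ * c = p.1.2 := inv_mul_eq_iff_eq_mul.mpr h3.symm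
          rw [this]; exact p.2.2.1⟩
        invFun := fun x => ⟨(x.1, x.1⁻¹ * c), x.2.1, x.2.2, by simp⟩
        left_inv := fun p => by
          apply Subtype.ext
          apply Prod.ext
          · rfl
          · have h3 := p.2.2.2
            show p.1.1⁻¹ * c = p.1.2
            exact inv_mul_eq_iff_eq_mul.mpr h3.symm
        right_inv := fun x => rfl }
    rw [Nat.card_congr e, Nat.card_eq_fintype_card, Fintype.card_subtype, Finset.card_filter]
    push_cast
    apply Finset.sum_congr rfl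
    intro x _
    by_cases h1 : IsConj a x
    · by_cases h2 : IsConj b (x⁻¹ * c)
      · rw [if_pos ⟨h1, h2⟩, if_pos h1, if_pos h2]
      · rw [if_neg (fun h => h2 h.2), if_pos h1, if_neg h2]
    · rw [if_neg (fun h => h1 h.1), if_neg h1]
  -- step (ii): indicator of the class of b
  have hind : ∀ z : G, (if IsConj b z then (1 : ℂ) else 0) =
      Cb⁻¹ * ∑ χ : IrrCharacter G, (χ : G → ℂ) b * conj ((χ : G → ℂ) z) := by
    intro z
    rw [irr_column_orthogonality b z]
    by_cases h : IsConj b z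
    · rw [if_pos h, if_pos h, card_centralizer_of_isConj h, ← hCb, inv_mul_cancel₀ hCb0]
    · rw [if_neg h, if_neg h, mul_zero]
  -- step (iii): sum over the class of a
  have hclass : ∀ χ : IrrCharacter G,
      (∑ x : G, if IsConj a x then conj ((χ : G → ℂ) (x⁻¹ * c)) else 0) =
        Ca⁻¹ * ((Nat.card G : ℂ) * (χ : G → ℂ) a * conj ((χ : G → ℂ) c) / (χ : G → ℂ) 1) := by
    intro χ
    have hch : IsCharacter G (χ : G → ℂ) := irr_isCharacter χ.2
    have h1 : ∀ x : G, conj ((χ : G → ℂ) (x⁻¹ * c)) = (χ : G → ℂ) (x * c⁻¹) := by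
      intro x
      rw [← char_inv hch, mul_inv_rev, inv_inv, char_mul_comm hch]
    simp_rw [h1]
    have h2 := sum_conj_eq a (fun y => (χ : G → ℂ) (y * c⁻¹))
    beta_reduce at h2
    have h3 : ∑ x : G, (χ : G → ℂ) (x⁻¹ * a * x * c⁻¹) =
        (Nat.card G : ℂ) * (χ : G → ℂ) a * (χ : G → ℂ) c⁻¹ / (χ : G → ℂ) 1 := by
      rw [← irr_sum_conj_mul χ a c⁻¹]
      apply Fintype.sum_equiv (Equiv.inv G)
      intro x
      simp
    rw [h3, ← hCa] at h2
    rw [char_inv hch] at h2
    rw [h2, ← mul_assoc, inv_mul_cancel₀ hCa0, one_mul]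
  -- assemble
  rw [hN]
  have hstep : ∀ x : G, (if IsConj a x then (if IsConj b (x⁻¹ * c) then (1 : ℂ) else 0) else 0) =
      Cb⁻¹ * ∑ χ : IrrCharacter G, (χ : G → ℂ) b *
        (if IsConj a x then conj ((χ : G → ℂ) (x⁻¹ * c)) else 0) := by
    intro x
    by_cases h : IsConj a x
    · simp only [if_pos h]; exact hind _
    · simp only [if_neg h, mul_zero, Finset.sum_const_zero]
  simp_rw [hstep]
  rw [← Finset.mul_sum, Finset.sum_comm]
  simp_rw [← Finset.mul_sum, hclass]
  have hA := card_class_mul a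
  have hB := card_class_mul b
  rw [← hCa] at hA
  rw [← hCb] at hB
  have hA' : (Nat.card {x : G // IsConj a x} : ℂ) = (Nat.card G : ℂ) / Ca := by
    field_simp; exact hA
  have hB' : (Nat.card {x : G // IsConj b x} : ℂ) = (Nat.card G : ℂ) / Cb := by
    field_simp; exact hB
  rw [hA', hB', Finset.mul_sum, Finset.mul_sum]
  apply Finset.sum_congr rfl
  intro χ _
  have h1ne : (χ : G → ℂ) 1 ≠ 0 := irr_apply_one_ne_zero χ.2
  field_simp

end Cfsg.Agent.S0840
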