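import Mathlib
import Cfsg.Statements.S0842
import Cfsg.Agent.Lib_helper5_Quat
import Cfsg.Agent.Lib_helper5_Sylow
import Cfsg.Agent.Lib_helper5_QuatSylow

set_option autoImplicit false
open Cfsg

namespace Cfsg.Agent.S0842

open scoped commutatorElement
open Cfsg.Agent.helper5 Cfsg.Agent.helper5.QuatSylow

theorem two_pow_cancel {a b o1 o2 : ℕ} (h1 : Odd o1) (h2 : Odd o2)
    (h : 2 ^ a * o1 = 2 ^ b * o2) : a = b := by
  rcases Nat.lt_trichotomy a b with hab | hab | hab
  · exfalso
    obtain ⟨c, rfl⟩ := Nat.exists_eq_add_of_lt hab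
    have : o1 = 2 * (2 ^ c * o2) := by
      have h3 : 2 ^ (a + c + 1) * o2 = 2 ^ a * (2 * (2 ^ c * o2)) := by ring
      rw [h3] at h
      exact Nat.eq_of_mul_eq_mul_left (by positivity) h
    rw [this] at h1
    exact (Nat.not_odd_iff_even.mpr (even_two_mul _)) h1
  · exact hab
  · exfalso
    obtain ⟨c, rfl⟩ := Nat.exists_eq_add_of_lt hab
    have : o2 = 2 * (2 ^ c * o1) := by
      have h3 : 2 ^ (b + c + 1) * o1 = 2 ^ b * (2 * (2 ^ c * o1)) := by ring
      rw [h3] at h
      exact (Nat.eq_of_mul_eq_mul_left (by positivity) h).symm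
    rw [this] at h2
    exact (Nat.not_odd_iff_even.mpr (even_two_mul _)) h2

section
variable {G : Type*} [Group G] [Finite G]

/-- the cyclic subgroup `⟨a⟩` is a Sylow 2-subgroup of `C = C_G(D)` -/
theorem exists_sylow_C (S : Sylow 2 G) (n : ℕ)
    (e : (S : Subgroup G) ≃* QuaternionGroup (2 ^ (n + 2))) :
    ∃ P : Sylow 2 (Subgroup.centralizer
        ((⁅(S : Subgroup G), (S : Subgroup G)⁆ : Subgroup G) : Set G)),
      (P : Subgroup (Subgroup.centralizer
        ((⁅(S : Subgroup G), (S : Subgroup G)⁆ : Subgroup G) : Set G))) =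
        (Subgroup.zpowers (gen e)).subgroupOf _ := by
  haveI : Fact (Nat.Prime 2) := ⟨Nat.prime_two⟩
  set D : Subgroup G := ⁅(S : Subgroup G), (S : Subgroup G)⁆ with hD
  set C : Subgroup G := Subgroup.centralizer (D : Set G) with hC
  set R : Subgroup G := Subgroup.zpowers (gen e) with hR
  have hRC : R ≤ C := zpowers_le_centralizer e
  have hRS : R ≤ S := Subgroup.zpowers_le.mpr (gen_mem e)
  have hRp : IsPGroup 2 R := S.isPGroup'.to_le hRS
  have hSN : (S : Subgroup G) ≤ Subgroup.normalizer (D : Set G) := le_normalizer_commutator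
  obtain ⟨Q, hQ⟩ := (hRp.comap_subtype (K := C)).exists_le_sylow
  refine ⟨Q, le_antisymm ?_ hQ⟩
  -- compare cardinalities through conjugation into `S`
  set Q' : Subgroup G := (Q : Subgroup C).map C.subtype with hQ'
  have hQ'p : IsPGroup 2 Q' := Q.isPGroup'.map _
  have hQ'C : Q' ≤ C := by
    rintro _ ⟨x, _, rfl⟩
    exact x.2
  have hQ'N : Q' ≤ Subgroup.normalizer (D : Set G) :=
    hQ'C.trans (Subgroup.centralizer_le_normalizer _)
  obtain ⟨g, hgN, hg⟩ := exists_conj_le_of_le 2 (Subgroup.normalizer (D : Set G)) S hSN Q' hQ'p hQ'N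
  have hkN : g⁻¹ ∈ Subgroup.normalizer (D : Set G) := Subgroup.inv_mem _ hgN
  have hcard : Nat.card Q' ≤ Nat.card R := by
    have hmem : ∀ x : Q', g⁻¹ * (x : G) * g ∈ R := by
      intro x
      apply inf_centralizer_le_zpowers e
      refine Subgroup.mem_inf.mpr ⟨hg _ x.2, ?_⟩
      have := conj_mem_centralizer hkN (hQ'C x.2)
      rwa [inv_inv] at this
    apply Nat.card_le_card_of_injective (fun x : Q' => (⟨g⁻¹ * (x : G) * g, hmem x⟩ : R))
    intro x y hxy
    have h1 : g⁻¹ * (x : G) * g = g⁻¹ * (y : G) * g := congrArg Subtype.val hxy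
    apply Subtype.ext
    have h2 := congrArg (fun z => g * z * g⁻¹) h1
    simpa [mul_assoc] using h2
  have hRQ' : R ≤ Q' := by
    intro x hx
    refine ⟨⟨x, hRC hx⟩, hQ ?_, rfl⟩
    exact hx
  have heq : R = Q' := Subgroup.eq_of_le_of_card_ge hRQ' hcard
  intro x hx
  rw [Subgroup.mem_subgroupOf, heq]
  exact ⟨x, hx, rfl⟩

end

/-- Suppose a Sylow 2-subgroup S of the finite group G is generalized quaternion of order at least 16, and let D be the commutator subgroup of S, C its centralizer and N its normalizer in G. Then there is a subgroup K of odd order, contained in C and normalized by N, with K ⊔ S = N and K ⊔ (S ⊓ C) = C, and C has index 2 in N. -/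
theorem result {G : Type*} [Group G] [Finite G] (S : Sylow 2 G) (n : ℕ) (e : (S : Subgroup G) ≃* QuaternionGroup (2 ^ (n + 2))) (D : Subgroup G) (hD : D = ⁅(S : Subgroup G), (S : Subgroup G)⁆) : ∃ K : Subgroup G, Odd (Nat.card K) ∧ K ≤ Subgroup.centralizer (D : Set G) ∧ Subgroup.normalizer (D : Set G) ≤ Subgroup.normalizer (K : Set G) ∧ K ⊔ (S : Subgroup G) = Subgroup.normalizer (D : Set G) ∧ K ⊔ ((S : Subgroup G) ⊓ Subgroup.centralizer (D : Set G)) = Subgroup.centralizer (D : Set G) ∧ ((Subgroup.centralizer (D : Set G)).subgroupOf (Subgroup.normalizer (D : Set G))).index = 2 := by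
  subst hD
  haveI : Fact (Nat.Prime 2) := ⟨Nat.prime_two⟩
  set D : Subgroup G := ⁅(S : Subgroup G), (S : Subgroup G)⁆ with hD
  set C : Subgroup G := Subgroup.centralizer (D : Set G) with hC
  set N : Subgroup G := Subgroup.normalizer (D : Set G) with hN
  set R : Subgroup G := Subgroup.zpowers (gen e) with hR
  have hRC : R ≤ C := zpowers_le_centralizer e
  have hRS : R ≤ S := Subgroup.zpowers_le.mpr (gen_mem e)
  have hSN : (S : Subgroup G) ≤ N := le_normalizer_commutator
  have hCN : C ≤ N := Subgroup.centralizer_le_normalizer _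
  have hSC : (S : Subgroup G) ⊓ C = R :=
    le_antisymm (inf_centralizer_le_zpowers e) (le_inf hRS hRC)
  have hcardR : Nat.card R = 2 ^ (n + 3) := by rw [Nat.card_zpowers, orderOf_gen]
  have hcardS : Nat.card (S : Subgroup G) = 2 ^ (n + 4) := by
    rw [Nat.card_congr e.toEquiv, Nat.card_eq_fintype_card, QuaternionGroup.card]
    ring
  obtain ⟨P, hP⟩ := exists_sylow_C S n e
  have hcardP : Nat.card P = 2 ^ (n + 3) := by
    have : Nat.card (P : Subgroup C) = Nat.card (R.subgroupOf C) := by rw [hP]
    rw [card_subgroupOf_of_le hRC, hcardR] at this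
    exact this
  have hPcyc : IsCyclic P := by
    have h1 : IsCyclic (R.subgroupOf C) :=
      (Subgroup.subgroupOfEquivOfLe hRC).symm.isCyclic.mp inferInstance
    have h2 : IsCyclic (P : Subgroup C) := by rw [hP]; exact h1
    exact h2
  have h2C : 2 ∣ Nat.card C := by
    have h1 : Nat.card (P : Subgroup C) ∣ Nat.card C := Subgroup.card_subgroup_dvd_card _
    have h2 : Nat.card (P : Subgroup C) = 2 ^ (n + 3) := hcardP
    rw [h2] at h1
    exact dvd_trans (dvd_pow_self 2 (by omega)) h1
  have hmin : (Nat.card C).minFac = 2 := (Nat.minFac_eq_two_iff _).mpr h2C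
  have hcompl := IsCyclic.isComplement' hmin hPcyc
  set φ := MonoidHom.transferSylow P (hPcyc.normalizer_le_centralizer hmin) with hφ
  set K' : Subgroup C := φ.ker with hK'
  have hK'card : Nat.card K' = (P : Subgroup C).index := hcompl.index_eq_card.symm
  have hK'odd : Odd (Nat.card K') := by
    rw [hK'card, ← Nat.not_even_iff_odd, even_iff_two_dvd]
    exact P.not_dvd_index
  have hmul : Nat.card K' * Nat.card P = Nat.card C := hcompl.card_mul_card
  -- elements of K' are the elements of odd order
  have hK'mem : ∀ x : C, x ∈ K' ↔ Odd (orderOf x) := by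
    intro x
    constructor
    · intro hx
      exact Odd.of_dvd_nat hK'odd (Subgroup.orderOf_dvd_natCard _ hx)
    · intro hodd
      rw [hK', MonoidHom.mem_ker]
      have h1 : orderOf (φ x) ∣ orderOf x := orderOf_map_dvd φ x
      have h2 : orderOf (φ x) ∣ 2 ^ (n + 3) := by
        rw [← hcardP]
        exact orderOf_dvd_natCard _
      have h3 : Nat.Coprime (orderOf x) (2 ^ (n + 3)) :=
        (Nat.coprime_two_right.mpr hodd).pow_right _
      have h4 : orderOf (φ x) = 1 := Nat.eq_one_of_dvd_coprimes h3 h1 h2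
      exact orderOf_eq_one_iff.mp h4
  set K : Subgroup G := K'.map C.subtype with hK
  have hKcard : Nat.card K = Nat.card K' :=
    Subgroup.card_map_of_injective (Subgroup.subtype_injective C)
  have hKmem : ∀ h : G, h ∈ K ↔ h ∈ C ∧ Odd (orderOf h) := by
    intro h
    constructor
    · rintro ⟨x, hx, rfl⟩
      refine ⟨x.2, ?_⟩
      have := (hK'mem x).mp hx
      rwa [← Subgroup.orderOf_coe] at this
    · rintro ⟨hc, hodd⟩
      refine ⟨⟨h, hc⟩, (hK'mem _).mpr ?_, rfl⟩
      rw [← Subgroup.orderOf_coe]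
      exact hodd
  have hconjord : ∀ g y : G, orderOf (g * y * g⁻¹) = orderOf y := by
    intro g y
    have := (MulAut.conj g).orderOf_eq y
    rwa [MulAut.conj_apply] at this
  have hKC : K ≤ C := fun h hh => ((hKmem h).mp hh).1
  have hKodd : Odd (Nat.card K) := by rw [hKcard]; exact hK'odd
  -- the index of C in N
  have hidx : C.relIndex N = 2 := by
    have hDS : D ≤ S := commutator_le_self
    obtain ⟨d, hd⟩ := (S.isPGroup'.to_le hDS).exists_card_eq
    have hDcyc : IsCyclic D := Subgroup.isCyclic_of_le (commutator_le_zpowers e)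
    have key := Subgroup.card_dvd_of_injective _
      (QuotientGroup.kerLift_injective D.normalizerMonoidHom)
    rw [Subgroup.normalizerMonoidHom_ker, ← Subgroup.index, ← Subgroup.relIndex] at key
    rw [hDcyc.card_mulAut, hd] at key
    have htot : Nat.totient (2 ^ d) ∣ 2 ^ d := by
      cases d with
      | zero => simp
      | succ d =>
        rw [Nat.totient_prime_pow_succ Nat.prime_two]
        norm_num
        exact pow_dvd_pow 2 (Nat.le_succ d)
    obtain ⟨j, _, hj⟩ := (Nat.dvd_prime_pow Nat.prime_two).mp (key.trans htot)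
    have hN1 : Nat.card (C.subgroupOf N) * C.relIndex N = Nat.card N :=
      Subgroup.card_mul_index (C.subgroupOf N)
    rw [card_subgroupOf_of_le hCN] at hN1
    have hN2 : Nat.card ((S : Subgroup G).subgroupOf N) * (S : Subgroup G).relIndex N = Nat.card N :=
      Subgroup.card_mul_index ((S : Subgroup G).subgroupOf N)
    rw [card_subgroupOf_of_le hSN] at hN2
    have hoddS : Odd ((S : Subgroup G).relIndex N) := by
      have h1 : (S : Subgroup G).relIndex N ∣ (S : Subgroup G).index :=
        Subgroup.relIndex_dvd_index_of_le hSN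
      have h2 : Odd (S : Subgroup G).index := by
        rw [← Nat.not_even_iff_odd, even_iff_two_dvd]
        exact S.not_dvd_index
      exact Odd.of_dvd_nat h2 h1
    have hP' : Nat.card (P : Subgroup C) = 2 ^ (n + 3) := hcardP
    have hcomb : 2 ^ (j + (n + 3)) * Nat.card K' = 2 ^ (n + 4) * (S : Subgroup G).relIndex N := by
      rw [← hcardS, hN2, ← hN1, ← hmul, hj]
      have : Nat.card P = 2 ^ (n + 3) := hcardP
      rw [this, pow_add]
      ring
    have := two_pow_cancel hK'odd hoddS hcomb
    have hj1 : j = 1 := by omega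
    rw [hj, hj1, pow_one]
  have hNcard : Nat.card N = Nat.card K * Nat.card (S : Subgroup G) := by
    have hN1 : Nat.card (C.subgroupOf N) * C.relIndex N = Nat.card N :=
      Subgroup.card_mul_index (C.subgroupOf N)
    rw [card_subgroupOf_of_le hCN, hidx, ← hmul] at hN1
    have : Nat.card P = 2 ^ (n + 3) := hcardP
    rw [← hN1, hKcard, hcardS, this]
    ring
  have hcopS : Nat.Coprime (Nat.card K) (Nat.card (S : Subgroup G)) := by
    rw [hcardS]
    exact (Nat.coprime_two_right.mpr hKodd).pow_right _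
  have hcopR : Nat.Coprime (Nat.card K) (Nat.card R) := by
    rw [hcardR]
    exact (Nat.coprime_two_right.mpr hKodd).pow_right _
  refine ⟨K, hKodd, hKC, ?_, ?_, ?_, hidx⟩
  · -- N normalizes K
    intro g hg
    rw [Subgroup.mem_normalizer_iff]
    intro h
    rw [hKmem, hKmem, hconjord]
    constructor
    · rintro ⟨hc, ho⟩
      exact ⟨conj_mem_centralizer hg hc, ho⟩
    · rintro ⟨hc, ho⟩
      refine ⟨?_, ho⟩
      have := conj_mem_centralizer (Subgroup.inv_mem _ hg) hc
      rw [inv_inv] at this
      have h2 : g⁻¹ * (g * h * g⁻¹) * g = h := by group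
      rwa [h2] at this
  · -- K S = N
    apply Subgroup.eq_of_le_of_card_ge (sup_le (hKC.trans hCN) hSN)
    rw [hNcard]
    apply Nat.le_of_dvd Nat.card_pos
    exact hcopS.mul_dvd_of_dvd_of_dvd (Subgroup.card_dvd_of_le le_sup_left)
      (Subgroup.card_dvd_of_le le_sup_right)
  · -- K R = C
    rw [hSC]
    apply Subgroup.eq_of_le_of_card_ge (sup_le hKC hRC)
    have : Nat.card P = 2 ^ (n + 3) := hcardP
    rw [← hmul, ← hKcard, this, ← hcardR]
    apply Nat.le_of_dvd Nat.card_pos
    exact hcopR.mul_dvd_of_dvd_of_dvd (Subgroup.card_dvd_of_le le_sup_left)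
      (Subgroup.card_dvd_of_le le_sup_right)

end Cfsg.Agent.S0842
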