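import Mathlib
import Cfsg.Statements.S0843
import Cfsg.Agent.Lib_helper5_Quat
import Cfsg.Agent.Lib_helper5_Sylow
import Cfsg.Agent.Lib_helper5_QuatSylow

set_option autoImplicit false
open Cfsg

namespace Cfsg.Agent.S0843

open scoped commutatorElement
open Cfsg.Agent.helper5

/-- In a finite cyclic group, subgroups are ordered by divisibility of their orders. -/
theorem le_of_card_dvd_cyclic {R : Type*} [Group R] [Finite R] [IsCyclic R] (A B : Subgroup R)
    (h : Nat.card A ∣ Nat.card B) : A ≤ B := by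
  classical
  haveI : Fintype R := Fintype.ofFinite R
  intro x hx
  have hxA : x ^ Nat.card A = 1 := by
    have h1 : (⟨x, hx⟩ : A) ^ Nat.card A = 1 := pow_card_eq_one'
    have h2 := congrArg Subtype.val h1
    rw [Subgroup.coe_pow, Subgroup.coe_one] at h2
    exact h2
  have hxB : x ^ Nat.card B = 1 := by
    obtain ⟨c, hc⟩ := h
    rw [hc, pow_mul, hxA, one_pow]
  have hpos : 0 < Nat.card B := Nat.card_pos
  have hT := IsCyclic.card_pow_eq_one_le (α := R) hpos
  have hsub : (Finset.univ.filter (fun y : R => y ∈ B)) ⊆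
      (Finset.univ.filter (fun y : R => y ^ Nat.card B = 1)) := by
    intro y hy
    rw [Finset.mem_filter] at hy ⊢
    refine ⟨hy.1, ?_⟩
    have h1 : (⟨y, hy.2⟩ : B) ^ Nat.card B = 1 := pow_card_eq_one'
    have h2 := congrArg Subtype.val h1
    rw [Subgroup.coe_pow, Subgroup.coe_one] at h2
    exact h2
  have hcardB : (Finset.univ.filter (fun y : R => y ∈ B)).card = Nat.card B := by
    rw [← Nat.card_eq_finsetCard]
    apply Nat.card_congr
    exact Equiv.subtypeEquivRight (fun y => by simp)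
  have heq := Finset.eq_of_subset_of_card_le hsub (by rw [hcardB]; exact hT)
  have hx' : x ∈ Finset.univ.filter (fun y : R => y ^ Nat.card B = 1) := by
    rw [Finset.mem_filter]; exact ⟨Finset.mem_univ _, hxB⟩
  rw [← heq, Finset.mem_filter] at hx'
  exact hx'.2

/-- Subgroups of a cyclic subgroup `⟨g⟩` are ordered by divisibility of their orders. -/
theorem le_of_card_dvd_of_le_zpowers {G : Type*} [Group G] [Finite G] (g : G) (A B : Subgroup G)
    (hA : A ≤ Subgroup.zpowers g) (hB : B ≤ Subgroup.zpowers g)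
    (h : Nat.card A ∣ Nat.card B) : A ≤ B := by
  have h1 : A.subgroupOf (Subgroup.zpowers g) ≤ B.subgroupOf (Subgroup.zpowers g) := by
    apply le_of_card_dvd_cyclic
    rw [card_subgroupOf_of_le hA, card_subgroupOf_of_le hB]
    exact h
  intro x hx
  have := h1 (x := ⟨x, hA hx⟩) (by rw [Subgroup.mem_subgroupOf]; exact hx)
  rw [Subgroup.mem_subgroupOf] at this
  exact this


open Cfsg.Agent.helper5.QuatSylow

section
variable {G : Type*} [Group G] [Finite G]

theorem key (S : Sylow 2 G) (n : ℕ) (e : (S : Subgroup G) ≃* QuaternionGroup (2 ^ (n + 2)))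
    (y : G) (hy : y ∈ Subgroup.centralizer ((⁅(S : Subgroup G), (S : Subgroup G)⁆ : Subgroup G) : Set G))
    (hdvd : Nat.card (⁅(S : Subgroup G), (S : Subgroup G)⁆ : Subgroup G) ∣ orderOf y) :
    (⁅(S : Subgroup G), (S : Subgroup G)⁆ : Subgroup G) ≤ Subgroup.zpowers y := by
  haveI : Fact (Nat.Prime 2) := ⟨Nat.prime_two⟩
  set D : Subgroup G := ⁅(S : Subgroup G), (S : Subgroup G)⁆ with hD
  have hDS : D ≤ S := commutator_le_self
  have hDp : IsPGroup 2 D := S.isPGroup'.to_le hDS
  obtain ⟨d, hd⟩ := hDp.exists_card_eq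
  have hpos : orderOf y ≠ 0 := (orderOf_pos y).ne'
  obtain ⟨a, m, hm, ham⟩ := Nat.exists_eq_two_pow_mul_odd hpos
  have hm0 : m ≠ 0 := by
    rintro rfl
    simp at hm
  have hda : 2 ^ d ∣ 2 ^ a := by
    have hcop : Nat.Coprime (2 ^ d) m := (Nat.coprime_two_left.mpr hm).pow_left d
    rw [hd, ham] at hdvd
    exact hcop.dvd_of_dvd_mul_right hdvd
  -- the 2-part of y
  have hy2ord : orderOf (y ^ m) = 2 ^ a := by
    rw [orderOf_pow_of_dvd hm0 (by rw [ham]; exact Dvd.intro_left _ rfl), ham,
      Nat.mul_div_cancel _ (Nat.pos_of_ne_zero hm0)]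
  have hy2C : y ^ m ∈ Subgroup.centralizer (D : Set G) := Subgroup.pow_mem _ hy m
  have hSN : (S : Subgroup G) ≤ Subgroup.normalizer (D : Set G) := le_normalizer_commutator
  have hHN : Subgroup.zpowers (y ^ m) ≤ Subgroup.normalizer (D : Set G) := by
    rw [Subgroup.zpowers_le]
    exact Subgroup.centralizer_le_normalizer _ hy2C
  have hHp : IsPGroup 2 (Subgroup.zpowers (y ^ m)) := by
    apply IsPGroup.of_card (n := a)
    rw [Nat.card_zpowers, hy2ord]
  obtain ⟨g, hgN, hg⟩ := exists_conj_le_of_le 2 (Subgroup.normalizer (D : Set G)) S hSN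
    (Subgroup.zpowers (y ^ m)) hHp hHN
  -- k = g⁻¹ conjugates y^m into S ∩ C
  have hkN : g⁻¹ ∈ Subgroup.normalizer (D : Set G) := Subgroup.inv_mem _ hgN
  have hyS : g⁻¹ * y ^ m * g ∈ (S : Subgroup G) := hg _ (Subgroup.mem_zpowers _)
  have hyC : g⁻¹ * y ^ m * g ∈ Subgroup.centralizer (D : Set G) := by
    have := conj_mem_centralizer hkN hy2C
    rwa [inv_inv] at this
  have hyZ : g⁻¹ * y ^ m * g ∈ Subgroup.zpowers (gen e) :=
    inf_centralizer_le_zpowers e (Subgroup.mem_inf.mpr ⟨hyS, hyC⟩)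
  have hord : orderOf (g⁻¹ * y ^ m * g) = 2 ^ a := by
    have := (MulAut.conj g⁻¹).orderOf_eq (y ^ m)
    rw [MulAut.conj_apply, inv_inv] at this
    rw [this, hy2ord]
  have hDle : D ≤ Subgroup.zpowers (g⁻¹ * y ^ m * g) := by
    apply le_of_card_dvd_of_le_zpowers (gen e) D _ (commutator_le_zpowers e)
      (Subgroup.zpowers_le.mpr hyZ)
    rw [Nat.card_zpowers, hord, hd]
    exact hda
  intro x hx
  have hx' : g⁻¹ * x * g ∈ D := by
    rw [Subgroup.mem_normalizer_iff''] at hgN
    exact (hgN x).mp hx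
  have hx'' := hDle hx'
  rw [Subgroup.mem_zpowers_iff] at hx'' ⊢
  obtain ⟨j, hj⟩ := hx''
  refine ⟨m * j, ?_⟩
  have h1 : (g⁻¹ * y ^ m * g) ^ j = g⁻¹ * (y ^ m) ^ j * g := by
    have := conj_zpow (a := g⁻¹) (b := y ^ m) (i := j)
    rwa [inv_inv] at this
  rw [h1] at hj
  have h2 : (y ^ m) ^ j = x := by
    have : g * (g⁻¹ * (y ^ m) ^ j * g) * g⁻¹ = g * (g⁻¹ * x * g) * g⁻¹ := by rw [hj]
    rw [show g * (g⁻¹ * (y ^ m) ^ j * g) * g⁻¹ = (y ^ m) ^ j by group,
      show g * (g⁻¹ * x * g) * g⁻¹ = x by group] at this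
    exact this
  rw [← h2, zpow_mul, zpow_natCast]

end

/-- Suppose a Sylow 2-subgroup S of the finite group G is generalized quaternion of order at least 16; let D be the commutator subgroup of S and X the set of elements of the centralizer of D whose order is divisible by the order of D. Then D is contained in the cyclic subgroup generated by any element of X; an element of G conjugating some element of X into the centralizer of D normalizes D; and the normalizer of D maps X to itself under conjugation. -/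
theorem result {G : Type*} [Group G] [Finite G] (S : Sylow 2 G) (n : ℕ) (e : (S : Subgroup G) ≃* QuaternionGroup (2 ^ (n + 2))) (D : Subgroup G) (hD : D = ⁅(S : Subgroup G), (S : Subgroup G)⁆) : (∀ y : G, y ∈ Subgroup.centralizer (D : Set G) → Nat.card D ∣ orderOf y → D ≤ Subgroup.zpowers y) ∧ (∀ g y : G, y ∈ Subgroup.centralizer (D : Set G) → Nat.card D ∣ orderOf y → g * y * g⁻¹ ∈ Subgroup.centralizer (D : Set G) → g ∈ Subgroup.normalizer (D : Set G)) ∧ (∀ g y : G, g ∈ Subgroup.normalizer (D : Set G) → y ∈ Subgroup.centralizer (D : Set G) → Nat.card D ∣ orderOf y → g * y * g⁻¹ ∈ Subgroup.centralizer (D : Set G) ∧ Nat.card D ∣ orderOf (g * y * g⁻¹)) := by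
  subst hD
  set D : Subgroup G := ⁅(S : Subgroup G), (S : Subgroup G)⁆ with hD
  have h1 : ∀ y : G, y ∈ Subgroup.centralizer (D : Set G) → Nat.card D ∣ orderOf y →
      D ≤ Subgroup.zpowers y := fun y hy hdvd => key S n e y hy hdvd
  have hconjord : ∀ g y : G, orderOf (g * y * g⁻¹) = orderOf y := by
    intro g y
    have := (MulAut.conj g).orderOf_eq y
    rwa [MulAut.conj_apply] at this
  refine ⟨h1, ?_, ?_⟩
  · intro g y hy hdvd hgy
    -- D and its conjugate both lie in the cyclic group generated by g y g⁻¹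
    have hD1 : D ≤ Subgroup.zpowers (g * y * g⁻¹) := h1 _ hgy (by rw [hconjord]; exact hdvd)
    have hD2 : D.map (MulAut.conj g).toMonoidHom ≤ Subgroup.zpowers (g * y * g⁻¹) := by
      rintro _ ⟨x, hx, rfl⟩
      have hx' := h1 y hy hdvd hx
      rw [Subgroup.mem_zpowers_iff] at hx' ⊢
      obtain ⟨j, rfl⟩ := hx'
      refine ⟨j, ?_⟩
      show (g * y * g⁻¹) ^ j = g * y ^ j * g⁻¹
      exact conj_zpow
    have hcard : Nat.card (D.map (MulAut.conj g).toMonoidHom) = Nat.card D :=
      Subgroup.card_map_of_injective (MulAut.conj g).injective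
    have hle1 : D.map (MulAut.conj g).toMonoidHom ≤ D :=
      le_of_card_dvd_of_le_zpowers _ _ _ hD2 hD1 (by rw [hcard])
    have hle2 : D ≤ D.map (MulAut.conj g).toMonoidHom :=
      le_of_card_dvd_of_le_zpowers _ _ _ hD1 hD2 (by rw [hcard])
    rw [Subgroup.mem_normalizer_iff]
    intro h
    constructor
    · intro hh
      exact hle1 ⟨h, hh, rfl⟩
    · intro hh
      obtain ⟨h', hh', heq⟩ := hle2 hh
      have heq' : g * h' * g⁻¹ = g * h * g⁻¹ := heq
      have : h' = h := by
        have := congrArg (fun z => g⁻¹ * z * g) heq'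
        simpa [mul_assoc] using this
      rwa [← this]
  · intro g y hg hy hdvd
    exact ⟨conj_mem_centralizer hg hy, by rw [hconjord]; exact hdvd⟩

end Cfsg.Agent.S0843
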