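import Mathlib
import Cfsg.Statements.S0849
import Cfsg.Agent.Lib_helper5_Ind

set_option autoImplicit false
open Cfsg

namespace Cfsg.Agent.S0849

open Cfsg.Agent.helper5

theorem sq_one_of_conj {G : Type*} [Group G] (u a : G) (hu : orderOf u = 2) (h : IsConj u a) :
    a * a = 1 := by
  obtain ⟨c, hc⟩ := isConj_iff.mp h
  have hu2 : u * u = 1 := by
    have := pow_orderOf_eq_one u
    rw [hu, pow_two] at this
    exact this
  subst hc
  calc c * u * c⁻¹ * (c * u * c⁻¹) = c * (u * u) * c⁻¹ := by group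
    _ = 1 := by rw [hu2]; group

theorem finsum_set_eq {α : Type*} [Fintype α] (P : α → Prop) [DecidablePred P] (f : α → ℂ) :
    ∑ᶠ p ∈ {p : α | P p}, f p = ∑ p ∈ Finset.univ.filter P, f p := by
  have : {p : α | P p} = ↑(Finset.univ.filter P) := by ext; simp
  rw [this, finsum_mem_coe_finset]

/-- Let H be a subgroup of a finite group G and S a subset of H that is mapped to itself under conjugation by H, is disjoint from its conjugate by any element outside H, and is closed under inverses. Let φ be a class function of H vanishing on H away from S, and let u, v be involutions of G. Then the sum of the induced function of φ over all products a * b with a conjugate to u and b conjugate to v equals the index of H times the sum of φ (a * b) over such pairs with a and b in H. -/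
theorem result {G : Type*} [Group G] [Fintype G] (H : Subgroup G) (S : Set G) (hSH : S ⊆ H) (hHS : ∀ h ∈ H, ∀ s ∈ S, h * s * h⁻¹ ∈ S) (hTI : ∀ g : G, g ∉ H → ∀ s ∈ S, g * s * g⁻¹ ∉ S) (hinv : ∀ s ∈ S, s⁻¹ ∈ S) (φ : H → ℂ) (hφ : Cfsg.IsClassFunction H φ) (hφS : ∀ x : H, (x : G) ∉ S → φ x = 0) (u v : G) (hu : orderOf u = 2) (hv : orderOf v = 2) : ∑ᶠ p ∈ {p : G × G | IsConj u p.1 ∧ IsConj v p.2}, Cfsg.indFun H φ (p.1 * p.2) = (H.index : ℂ) * ∑ᶠ p ∈ {p : H × H | IsConj u (p.1 : G) ∧ IsConj v (p.2 : G)}, φ (p.1 * p.2) := by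
  classical
  haveI : Fintype H := Fintype.ofFinite H
  rw [finsum_set_eq, finsum_set_eq]
  -- key support lemma
  have key : ∀ a b : G, IsConj u a → IsConj v b → extendByZero H φ (a * b) ≠ 0 → a ∈ H ∧ b ∈ H := by
    intro a b ha hb hne
    have haa := sq_one_of_conj u a hu ha
    have hbb := sq_one_of_conj v b hv hb
    have hab : a * b ∈ H := by
      by_contra hn
      exact hne (extendByZero_of_not_mem H φ _ hn)
    have habS : a * b ∈ S := by
      by_contra hn
      apply hne
      rw [extendByZero_of_mem H φ _ hab]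
      exact hφS ⟨a * b, hab⟩ hn
    have hainv : a⁻¹ = a := inv_eq_of_mul_eq_one_left haa
    have hbinv : b⁻¹ = b := inv_eq_of_mul_eq_one_left hbb
    have hconj : a * (a * b) * a⁻¹ = (a * b)⁻¹ := by
      rw [mul_inv_rev, hainv, hbinv, ← mul_assoc, haa, one_mul]
    have haH : a ∈ H := by
      by_contra hn
      apply hTI a hn (a * b) habS
      rw [hconj]
      exact hinv _ habS
    refine ⟨haH, ?_⟩
    have : b = a⁻¹ * (a * b) := by group
    rw [this]
    exact H.mul_mem (H.inv_mem haH) hab
  -- step 1: swap sums and reindex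
  have step1 : ∑ p ∈ Finset.univ.filter (fun p : G × G => IsConj u p.1 ∧ IsConj v p.2),
      Cfsg.indFun H φ (p.1 * p.2) =
      (Nat.card H : ℂ)⁻¹ * ((Fintype.card G : ℂ) *
        ∑ p ∈ Finset.univ.filter (fun p : G × G => IsConj u p.1 ∧ IsConj v p.2),
          extendByZero H φ (p.1 * p.2)) := by
    unfold indFun
    rw [← Finset.mul_sum, Finset.sum_comm]
    congr 1
    have : ∀ x : G, ∑ p ∈ Finset.univ.filter (fun p : G × G => IsConj u p.1 ∧ IsConj v p.2),
        extendByZero H φ (x⁻¹ * (p.1 * p.2) * x) =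
        ∑ p ∈ Finset.univ.filter (fun p : G × G => IsConj u p.1 ∧ IsConj v p.2),
          extendByZero H φ (p.1 * p.2) := by
      intro x
      refine Finset.sum_equiv ((MulAut.conj x⁻¹).toEquiv.prodCongr (MulAut.conj x⁻¹).toEquiv)
        ?_ ?_
      · intro p
        simp only [Finset.mem_filter, Finset.mem_univ, true_and, Equiv.prodCongr_apply,
          Prod.map_fst, Prod.map_snd, MulEquiv.toEquiv_eq_coe, MulEquiv.coe_toEquiv,
          MulAut.conj_apply, inv_inv]
        constructor
        · rintro ⟨h1, h2⟩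
          exact ⟨h1.trans (isConj_iff.mpr ⟨x⁻¹, by simp⟩), h2.trans (isConj_iff.mpr ⟨x⁻¹, by simp⟩)⟩
        · rintro ⟨h1, h2⟩
          exact ⟨h1.trans (isConj_iff.mpr ⟨x, by group⟩), h2.trans (isConj_iff.mpr ⟨x, by group⟩)⟩
      · intro p _
        simp only [Equiv.prodCongr_apply, Prod.map_fst, Prod.map_snd, MulEquiv.toEquiv_eq_coe,
          MulEquiv.coe_toEquiv, MulAut.conj_apply, inv_inv]
        congr 1
        group
    rw [Finset.sum_congr rfl (fun x _ => this x), Finset.sum_const, Finset.card_univ,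
      nsmul_eq_mul]
  -- step 2: restrict to H × H
  have step2 : ∑ p ∈ Finset.univ.filter (fun p : H × H => IsConj u (p.1 : G) ∧ IsConj v (p.2 : G)),
      φ (p.1 * p.2) =
      ∑ p ∈ Finset.univ.filter (fun p : G × G => IsConj u p.1 ∧ IsConj v p.2),
          extendByZero H φ (p.1 * p.2) := by
    refine Finset.sum_bij_ne_zero (fun q _ _ => ((q.1 : G), (q.2 : G))) ?_ ?_ ?_ ?_
    · intro q hq _
      simpa using hq
    · intro q1 _ _ q2 _ _ h
      simp only [Prod.mk.injEq] at h
      exact Prod.ext (Subtype.ext h.1) (Subtype.ext h.2)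
    · intro p hp hne
      have hp' := (Finset.mem_filter.mp hp).2
      obtain ⟨h1, h2⟩ := key p.1 p.2 hp'.1 hp'.2 hne
      refine ⟨(⟨p.1, h1⟩, ⟨p.2, h2⟩), ?_, ?_, rfl⟩
      · simpa using hp'
      · rw [extendByZero_of_mem H φ _ (H.mul_mem h1 h2)] at hne
        exact hne
    · intro q _ _
      have : ((q.1 : G) * (q.2 : G)) = ((q.1 * q.2 : H) : G) := rfl
      rw [this, extendByZero_coe]
  rw [step1, step2, ← mul_assoc]
  congr 1
  have h1 := Subgroup.card_mul_index H
  have hH : (Nat.card H : ℂ) ≠ 0 := by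
    exact_mod_cast (Nat.card_pos (α := H)).ne'
  rw [← Nat.card_eq_fintype_card, ← h1, Nat.cast_mul, ← mul_assoc, inv_mul_cancel₀ hH, one_mul]

end Cfsg.Agent.S0849
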