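import Cfsg.Statements.S1528
import Mathlib
import Cfsg.Agent.Lib_helper8_Clifford
import Cfsg.Agent.S0173

set_option autoImplicit false
open Cfsg

namespace Cfsg.Agent.S1528

open Cfsg.Agent.helper8 Cfsg.Agent.helper24
open scoped ComplexConjugate

/-- Let N be a normal subgroup of the finite group G such that every element of G commuting with a non-identity element of N lies in N. If χ is an irreducible character of G with χ n ≠ χ 1 for some n ∈ N, then χ is the function induced from some irreducible character of N. -/
theorem result {G : Type*} [Group G] [Fintype G] (N : Subgroup G) [N.Normal] (hC : ∀ n ∈ N, n ≠ 1 → Subgroup.centralizer ({n} : Set G) ≤ N) (χ : G → ℂ) (hχ : Cfsg.IsIrrCharacter G χ) (hker : ∃ n ∈ N, χ n ≠ χ 1) : ∃ φ : N → ℂ, Cfsg.IsIrrCharacter N φ ∧ χ = Cfsg.indFun N φ := by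
  classical
  haveI : Fintype N := Fintype.ofFinite N
  haveI : Fintype (IrrCharacter N) := Fintype.ofFinite _
  have hχc : IsCharacter G χ := irr_isCharacter hχ
  -- step 1: a nonprincipal irreducible character of N has inertia group N
  have hinertia : ∀ φ : N → ℂ, IsIrrCharacter N φ → φ ≠ (fun _ => 1) →
      ∀ g : G, g ∈ N ↔ conjFunN N g φ = φ := by
    intro φ hφ hφ1 g
    constructor
    · intro hg
      funext h
      exact char_isClassFunction (irr_isCharacter hφ) h ⟨g, hg⟩
    · intro hfix
      by_contra hg
      have hfixed : ∀ C : ConjClasses N,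
          ConjClasses.map (MulAut.conjNormal g : N ≃* N).toMonoidHom C = C → C = ConjClasses.mk 1 := by
        intro C hC
        obtain ⟨x, rfl⟩ := ConjClasses.mk_surjective C
        change ConjClasses.mk ((MulAut.conjNormal g : N ≃* N) x) = ConjClasses.mk x at hC
        rw [ConjClasses.mk_eq_mk_iff_isConj, isConj_iff] at hC
        obtain ⟨m, hm⟩ := hC
        by_cases hx : x = 1
        · rw [hx]
        · exfalso
          apply hg
          have hx' : (x : G) ≠ 1 := fun h => hx (Subtype.ext h)
          have hm' : (m : G) * (g * (x : G) * g⁻¹) * (m : G)⁻¹ = (x : G) := by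
            have := congrArg Subtype.val hm
            simpa [MulAut.conjNormal_apply] using this
          have hcomm : (m : G) * g ∈ Subgroup.centralizer ({(x : G)} : Set G) := by
            rw [Subgroup.mem_centralizer_singleton_iff]
            calc (m : G) * g * (x : G) = ((m : G) * (g * (x : G) * g⁻¹) * (m : G)⁻¹) * ((m : G) * g) := by
                  group
              _ = (x : G) * ((m : G) * g) := by rw [hm']
          have hmem := hC (x : G) x.2 hx' hcomm
          have := N.mul_mem (N.inv_mem m.2) hmem
          simpa using this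
      have hcard1 : Nat.card {C : ConjClasses N //
          ConjClasses.map (MulAut.conjNormal g : N ≃* N).toMonoidHom C = C} = 1 := by
        rw [Nat.card_eq_one_iff_unique]
        refine ⟨⟨fun a b => Subtype.ext ((hfixed a.1 a.2).trans (hfixed b.1 b.2).symm)⟩,
          ⟨⟨ConjClasses.mk 1, ?_⟩⟩⟩
        change ConjClasses.mk ((MulAut.conjNormal g : N ≃* N) 1) = ConjClasses.mk 1
        rw [map_one]
      rw [Cfsg.Agent.S0173.result (MulAut.conjNormal g : N ≃* N), Nat.card_eq_one_iff_unique] at hcard1
      obtain ⟨hsub, -⟩ := hcard1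
      have hφfix : φ ∘ (MulAut.conjNormal g : N ≃* N) = φ := by
        funext h
        have := congr_fun hfix h
        rw [conjFunN_apply] at this
        rw [Function.comp_apply, ← this]
        congr 1
      have h1fix : (fun _ : N => (1 : ℂ)) ∘ (MulAut.conjNormal g : N ≃* N) = fun _ => 1 := rfl
      have := hsub.elim (⟨⟨φ, hφ⟩, hφfix⟩ : {χ : IrrCharacter N //
          (χ : N → ℂ) ∘ (MulAut.conjNormal g : N ≃* N) = (χ : N → ℂ)})
        ⟨⟨fun _ => 1, isIrrCharacter_one⟩, h1fix⟩
      apply hφ1
      exact congrArg (fun z => (z.1 : N → ℂ)) this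
  -- step 2: a nonprincipal constituent of the restriction
  have hR := Cfsg.Agent.helper12.isCharacter_restrict N hχc
  obtain ⟨m, hexp, hm, -⟩ := Cfsg.Agent.helper12.char_decomp hR
  have hex : ∃ φ : IrrCharacter N, m φ ≠ 0 ∧ (φ : N → ℂ) ≠ fun _ => 1 := by
    by_contra hcon
    push Not at hcon
    obtain ⟨n, hn, hne⟩ := hker
    apply hne
    have hval : ∀ x : N, (fun h : N => χ h) x
        = (m ⟨fun _ => 1, isIrrCharacter_one⟩ : ℂ) := by
      intro x
      rw [hexp, Finset.sum_apply, Finset.sum_eq_single (⟨fun _ => 1, isIrrCharacter_one⟩ : IrrCharacter N)]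
      · simp
      · intro φ _ hφ
        have : m φ = 0 := by
          by_contra h0
          apply hφ
          exact Subtype.ext (hcon φ h0)
        rw [this]
        simp
      · intro h
        exact absurd (Finset.mem_univ _) h
    have h1 := hval ⟨n, hn⟩
    have h2 := hval 1
    simp only at h1 h2
    rw [h1]
    exact h2.symm
  obtain ⟨φ, hmφ, hφ1⟩ := hex
  have hT := hinertia φ φ.2 hφ1
  have hnorm := norm_indFun_inertia N N φ.2 hT
  have hN0 : (Nat.card N : ℂ) ≠ 0 := by exact_mod_cast (Nat.card_pos (α := N)).ne'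
  rw [inv_mul_cancel₀ hN0] at hnorm
  have hirr : IsIrrCharacter G (indFun N (φ : N → ℂ)) :=
    Cfsg.Agent.helper12.isIrrCharacter_of_classInner_self
      (Cfsg.Agent.helper12.isCharacter_indFun N (irr_isCharacter φ.2)) hnorm
  refine ⟨φ, φ.2, ?_⟩
  have hfrob := frobenius N (φ : N → ℂ) χ (char_isClassFunction hχc)
  rw [← classInner_conj_symm (fun h : N => χ h) (φ : N → ℂ), hm φ, map_natCast] at hfrob
  have hne : classInner (indFun N (φ : N → ℂ)) χ ≠ 0 := by
    rw [hfrob]
    exact_mod_cast hmφ
  rw [irr_classInner hirr hχ] at hne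
  by_contra hcon
  rw [if_neg (fun h => hcon h.symm)] at hne
  exact hne rfl

end Cfsg.Agent.S1528
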