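import Cfsg.Statements.S0851
import Mathlib
import Cfsg.Agent.Lib_helper8_EqDeg
import Cfsg.Agent.S1528
import Cfsg.Agent.S0850
import Cfsg.Agent.Lib_helper8_Ind
import Cfsg.Agent.Lib_helper8_Clifford
import Cfsg.Agent.Lib_helper5_Clifford
import Cfsg.Agent.Lib_helper12_CharOps
import Cfsg.Agent.Lib_helper24_Inertia
import Cfsg.Agent.Lib_helper24_CharCount

set_option autoImplicit false
open Cfsg

namespace Cfsg.Agent.S0851
open Cfsg Cfsg.Agent.helper24

theorem indFun_sub' {G : Type*} [Group G] [Fintype G] (H : Subgroup G) (a b : H → ℂ) :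
    indFun H (a - b) = indFun H a - indFun H b := by
  have e : a - b = a + (-1 : ℂ) • b := by rw [neg_one_smul, sub_eq_add_neg]
  rw [e, Cfsg.Agent.helper8.indFun_add, Cfsg.Agent.helper8.indFun_smul, neg_one_smul,
    ← sub_eq_add_neg]

theorem main {G : Type*} [Group G] [Fintype G] (K N : Subgroup G)
    (hN : N = Subgroup.normalizer (K : Set G))
    (hTI : ∀ g : G, g ∉ N → ∀ k ∈ K, g * k * g⁻¹ ∈ K → k = 1)
    (hlt : K < N)
    (hC : ∀ k ∈ K, k ≠ 1 → Subgroup.centralizer ({k} : Set G) ≤ K)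
    (hab : ∀ a ∈ K, ∀ b ∈ K, a * b = b * a) :
    ∃ (ε : ℂ) (f : {χ : IrrCharacter N // ∃ k : N, (k : G) ∈ K ∧
        (χ : N → ℂ) k ≠ (χ : N → ℂ) 1} → IrrCharacter G),
      (ε = 1 ∨ ε = -1) ∧ Function.Injective f ∧ ∀ χ ξ,
        indFun N ((χ.1 : N → ℂ) - (ξ.1 : N → ℂ)) = ε • ((f χ : G → ℂ) - (f ξ : G → ℂ)) := by
  classical
  haveI : Fintype N := Fintype.ofFinite N
  haveI hK'n : (K.subgroupOf N).Normal := by
    rw [hN]; exact Subgroup.normal_in_normalizer
  have hrel : ∀ χ : {χ : IrrCharacter N // ∃ k : N, (k : G) ∈ K ∧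
      (χ : N → ℂ) k ≠ (χ : N → ℂ) 1},
      (χ.1 : N → ℂ) 1 = ((K.subgroupOf N).index : ℂ) ∧
        ∀ x : N, (x : G) ∉ K → (χ.1 : N → ℂ) x = 0 := by
    rintro ⟨χ, k, hk, hne⟩
    have hC' : ∀ n ∈ K.subgroupOf N, n ≠ 1 →
        Subgroup.centralizer ({n} : Set N) ≤ K.subgroupOf N := by
      intro n hn hn1 x hx
      rw [Subgroup.mem_subgroupOf]
      apply hC (n : G) (Subgroup.mem_subgroupOf.mp hn) (fun h => hn1 (Subtype.ext h))
      rw [Subgroup.mem_centralizer_singleton_iff] at hx ⊢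
      exact congrArg Subtype.val hx
    obtain ⟨φ, hφ, hχφ⟩ := Cfsg.Agent.S1528.result (K.subgroupOf N) hC' χ.1 χ.2
      ⟨k, Subgroup.mem_subgroupOf.mpr hk, hne⟩
    have hcomm : ∀ a b : K.subgroupOf N, a * b = b * a := by
      intro a b
      apply Subtype.ext
      apply Subtype.ext
      exact hab _ (Subgroup.mem_subgroupOf.mp a.2) _ (Subgroup.mem_subgroupOf.mp b.2)
    have hdeg : φ 1 = 1 := by
      have h1 := irr_degree_eq_one_of_comm hcomm ⟨φ, hφ⟩
      rw [← char_charDegree_cast (irr_isCharacter hφ)]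
      simp only at h1
      rw [h1, Nat.cast_one]
    constructor
    · show (χ : N → ℂ) 1 = _
      rw [hχφ, Cfsg.Agent.helper5.indFun_one, hdeg, mul_one]
    · intro x hx
      show (χ : N → ℂ) x = 0
      rw [hχφ]
      exact Cfsg.Agent.helper8.indFun_of_not_mem_normal _ φ x
        (fun h => hx (Subgroup.mem_subgroupOf.mp h))
  have hp1 : ∀ x ∈ N, x ∉ K → ∀ g : G, g * x * g⁻¹ ∉ K := by
    rw [hN]
    exact Cfsg.Agent.S0850.part1 K (by rw [← hN]; exact hTI) hC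
  have hres : ∀ χ ξ : {χ : IrrCharacter N // ∃ k : N, (k : G) ∈ K ∧
      (χ : N → ℂ) k ≠ (χ : N → ℂ) 1}, ∀ x : N,
      indFun N ((χ.1 : N → ℂ) - (ξ.1 : N → ℂ)) x = ((χ.1 : N → ℂ) - (ξ.1 : N → ℂ)) x := by
    intro χ ξ x
    apply Cfsg.Agent.S0850.part2 K N hTI hp1
    · exact isClassFunction_sub (char_isClassFunction (irr_isCharacter χ.1.2))
        (char_isClassFunction (irr_isCharacter ξ.1.2))
    · intro y hy
      rw [Pi.sub_apply, (hrel χ).2 y hy, (hrel ξ).2 y hy, sub_zero]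
    · rw [Pi.sub_apply, (hrel χ).1, (hrel ξ).1, sub_self]
  have hinner : ∀ χ ξ χ' ξ' : {χ : IrrCharacter N // ∃ k : N, (k : G) ∈ K ∧
      (χ : N → ℂ) k ≠ (χ : N → ℂ) 1},
      classInner (indFun N ((χ.1 : N → ℂ) - (ξ.1 : N → ℂ)))
        (indFun N ((χ'.1 : N → ℂ) - (ξ'.1 : N → ℂ)))
      = classInner ((χ.1 : N → ℂ) - (ξ.1 : N → ℂ)) ((χ'.1 : N → ℂ) - (ξ'.1 : N → ℂ)) := by
    intro χ ξ χ' ξ'
    rw [Cfsg.Agent.helper8.frobenius N _ _ (Cfsg.Agent.helper8.indFun_isClassFunction N _)]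
    congr 1
    funext x
    exact hres χ' ξ' x
  have hne_fun : ∀ χ ξ : {χ : IrrCharacter N // ∃ k : N, (k : G) ∈ K ∧
      (χ : N → ℂ) k ≠ (χ : N → ℂ) 1}, χ ≠ ξ → (χ.1 : N → ℂ) ≠ (ξ.1 : N → ℂ) :=
    fun χ ξ h h' => h (Subtype.ext (Subtype.ext h'))
  apply Cfsg.Agent.helper8.EqDeg.eqdeg_coherent (X := G)
    (fun χ ξ : {χ : IrrCharacter N // ∃ k : N, (k : G) ∈ K ∧
      (χ : N → ℂ) k ≠ (χ : N → ℂ) 1} => indFun N ((χ.1 : N → ℂ) - (ξ.1 : N → ℂ)))
  · intro χ ξ
    exact ⟨indFun N (χ.1 : N → ℂ), indFun N (ξ.1 : N → ℂ),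
      Cfsg.Agent.helper12.isCharacter_indFun N (irr_isCharacter χ.1.2),
      Cfsg.Agent.helper12.isCharacter_indFun N (irr_isCharacter ξ.1.2), indFun_sub' N _ _⟩
  · intro χ ξ
    have := hres χ ξ 1
    rw [Subgroup.coe_one] at this
    show indFun N ((χ.1 : N → ℂ) - (ξ.1 : N → ℂ)) 1 = 0
    rw [this, Pi.sub_apply, (hrel χ).1, (hrel ξ).1, sub_self]
  · intro χ ξ ζ
    show indFun N ((χ.1 : N → ℂ) - (ξ.1 : N → ℂ)) + indFun N ((ξ.1 : N → ℂ) - (ζ.1 : N → ℂ))
      = indFun N ((χ.1 : N → ℂ) - (ζ.1 : N → ℂ))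
    rw [← Cfsg.Agent.helper8.indFun_add]
    congr 1
    abel
  · intro χ ξ hχξ
    show classInner (indFun N ((χ.1 : N → ℂ) - (ξ.1 : N → ℂ)))
      (indFun N ((χ.1 : N → ℂ) - (ξ.1 : N → ℂ))) = 2
    rw [hinner, classInner_sub_left, Cfsg.Agent.helper8.classInner_sub_right,
      Cfsg.Agent.helper8.classInner_sub_right, irr_classInner_self χ.1.2,
      irr_classInner_self ξ.1.2, irr_classInner_ne χ.1.2 ξ.1.2 (hne_fun χ ξ hχξ),
      irr_classInner_ne ξ.1.2 χ.1.2 (hne_fun ξ χ hχξ.symm)]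
    norm_num
  · intro χ ξ ζ hχξ hχζ hξζ
    show classInner (indFun N ((χ.1 : N → ℂ) - (ξ.1 : N → ℂ)))
      (indFun N ((χ.1 : N → ℂ) - (ζ.1 : N → ℂ))) = 1
    rw [hinner, classInner_sub_left, Cfsg.Agent.helper8.classInner_sub_right,
      Cfsg.Agent.helper8.classInner_sub_right, irr_classInner_self χ.1.2,
      irr_classInner_ne χ.1.2 ζ.1.2 (hne_fun χ ζ hχζ),
      irr_classInner_ne ξ.1.2 χ.1.2 (hne_fun ξ χ hχξ.symm),
      irr_classInner_ne ξ.1.2 ζ.1.2 (hne_fun ξ ζ hξζ)]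
    norm_num


/-- Let K be a subgroup of the finite group G that meets each conjugate by an element outside its normalizer N trivially, is properly contained in N, and contains the centralizer of each of its non-identity elements (a T.I. subgroup with Frobenius normalizer). Suppose K is abelian, let e be the index of K in N, and call an irreducible character of N relevant when it takes at some element of K a value different from its degree. Then either there is exactly one relevant character and K is an elementary abelian p-group of order e + 1 for some prime p, or there are a sign ε and an injective map f from the relevant characters to the irreducible characters of G such that inducing χ - ξ to G gives ε (f χ - f ξ) for all relevant χ and ξ. -/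
theorem result {G : Type*} [Group G] [Fintype G] (K : Subgroup G) (hTI : ∀ g : G, g ∉ Subgroup.normalizer (K : Set G) → ∀ k ∈ K, g * k * g⁻¹ ∈ K → k = 1) (hlt : K < Subgroup.normalizer (K : Set G)) (hC : ∀ k ∈ K, k ≠ 1 → Subgroup.centralizer ({k} : Set G) ≤ K) (hab : ∀ a ∈ K, ∀ b ∈ K, a * b = b * a) : (Nat.card {χ : Cfsg.IrrCharacter (Subgroup.normalizer (K : Set G)) // ∃ k : Subgroup.normalizer (K : Set G), (k : G) ∈ K ∧ (χ : ↥(Subgroup.normalizer (K : Set G)) → ℂ) k ≠ (χ : ↥(Subgroup.normalizer (K : Set G)) → ℂ) 1} = 1 ∧ ∃ p : ℕ, p.Prime ∧ Cfsg.IsElementaryAbelian p K ∧ Nat.card K = (K.subgroupOf (Subgroup.normalizer (K : Set G))).index + 1) ∨ ∃ (ε : ℂ) (f : {χ : Cfsg.IrrCharacter (Subgroup.normalizer (K : Set G)) // ∃ k : Subgroup.normalizer (K : Set G), (k : G) ∈ K ∧ (χ : ↥(Subgroup.normalizer (K : Set G)) → ℂ) k ≠ (χ : ↥(Subgroup.normalizer (K : Set G)) → ℂ) 1} → Cfsg.IrrCharacter G), (ε = 1 ∨ ε = -1) ∧ Function.Injective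 f ∧ ∀ χ ξ, Cfsg.indFun (Subgroup.normalizer (K : Set G)) ((χ.1 : ↥(Subgroup.normalizer (K : Set G)) → ℂ) - (ξ.1 : ↥(Subgroup.normalizer (K : Set G)) → ℂ)) = ε • ((f χ : G → ℂ) - (f ξ : G → ℂ)) := by
  right
  exact main K (Subgroup.normalizer (K : Set G)) rfl hTI hlt hC hab

end Cfsg.Agent.S0851
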