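import Cfsg.Statements.S0852
import Mathlib
import Cfsg.Agent.Lib_helper8_TIFN2

set_option autoImplicit false
open Cfsg

namespace Cfsg.Agent.S0852

/-- Let K be a subgroup of the finite group G that meets each conjugate by an element outside its normalizer N trivially, is properly contained in N, and contains the centralizer of each of its non-identity elements (a T.I. subgroup with Frobenius normalizer). Let S be the set of irreducible characters of N taking at some element of K a value different from their degree, suppose S has at least two members, and let star be a linear isometry on the integer span of S into the generalized characters of G that agrees with induction on the members vanishing at the identity (so S is coherent, with star as the extending isometry). Then an irreducible character ψ of G is of the form star χ or -star χ for some χ in S if and only if ψ is not constant on the non-identity elements of K. -/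
theorem result {G : Type*} [Group G] [Fintype G] (K : Subgroup G) (hTI : ∀ g : G, g ∉ Subgroup.normalizer (K : Set G) → ∀ k ∈ K, g * k * g⁻¹ ∈ K → k = 1) (hlt : K < Subgroup.normalizer (K : Set G)) (hC : ∀ k ∈ K, k ≠ 1 → Subgroup.centralizer ({k} : Set G) ≤ K) [Fintype ↥(Subgroup.normalizer (K : Set G))] (S : Set (↥(Subgroup.normalizer (K : Set G)) → ℂ)) (hS : S = {χ : ↥(Subgroup.normalizer (K : Set G)) → ℂ | Cfsg.IsIrrCharacter ↥(Subgroup.normalizer (K : Set G)) χ ∧ ∃ k : ↥(Subgroup.normalizer (K : Set G)), (k : G) ∈ K ∧ χ k ≠ χ 1}) (htwo : ∃ χ ∈ S, ∃ ξ ∈ S, χ ≠ ξ) (star : (↥(Subgroup.normalizer (K : Set G)) → ℂ) → (G → ℂ)) (hstar : Cfsg.IsLinearIsometryOn (Cfsg.zspan S) star) (hext : ∀ α ∈ Cfsg.zspanOn S ({1}ᶜ : Set ↥(Subgroup.normalizer (K : Set G))), star α = Cfsg.indFun (Subgroup.normalizer (K : Set G)) α) (ψ : G → ℂ) (hψ : Cfsg.IsIrrCharacter G ψ) : (∃ χ ∈ S, ψ = star χ ∨ ψ = -star χ) ↔ ∃ a ∈ K, ∃ b ∈ K, a ≠ 1 ∧ b ≠ 1 ∧ ψ a ≠ ψ b := by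
  have hset : Cfsg.Agent.helper8.TIFN.Setup K (Subgroup.normalizer (K : Set G)) S star :=
    ⟨rfl, hTI, hC, hS, hstar, hext⟩
  have hne : ∃ χ, χ ∈ S := by
    obtain ⟨χ, hχ, -⟩ := htwo
    exact ⟨χ, hχ⟩
  constructor
  · rintro ⟨χ, hχ, h | h⟩
    · obtain ⟨a, ha, b, hb, ha1, hb1, hab⟩ := hset.nonconst htwo hχ
      exact ⟨a, ha, b, hb, ha1, hb1, by rw [h]; exact hab⟩
    · obtain ⟨a, ha, b, hb, ha1, hb1, hab⟩ := hset.nonconst htwo hχ
      refine ⟨a, ha, b, hb, ha1, hb1, ?_⟩
      rw [h, Pi.neg_apply, Pi.neg_apply]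
      exact fun h' => hab (neg_injective h')
  · rintro ⟨a, ha, b, hb, ha1, hb1, hab⟩
    by_contra hcon
    push Not at hcon
    apply hab
    have hirr : ∀ χ ∈ S, Cfsg.IsIrrCharacter ↥(Subgroup.normalizer (K : Set G)) χ := by
      intro χ hχ
      exact (hset.mem_S hχ).1
    have h0 : ∀ α ∈ Cfsg.zspan S, α 1 = 0 → star α 1 = 0 := by
      intro α hα h1
      have hα' : α ∈ Cfsg.zspanOn S ({1}ᶜ : Set ↥(Subgroup.normalizer (K : Set G))) := by
        refine ⟨hα, ?_⟩
        intro x hx
        have hx1 : x = 1 := by simpa using hx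
        rw [hx1]; exact h1
      have := hset.star_eq hα' 1
      rw [h1] at this
      exact this
    obtain ⟨ε, hε, hεirr, -⟩ := Cfsg.Agent.S1529.result (Subgroup.normalizer (K : Set G)) S hirr htwo
      star hstar h0
    have hε0 : (starRingEnd ℂ) ε ≠ 0 := by
      rcases hε with rfl | rfl <;> simp
    have horth : ∀ χ ∈ S, Cfsg.classInner ψ (star χ) = 0 := by
      intro χ hχ
      have hne' : ψ ≠ ε • star χ := by
        rcases hε with rfl | rfl
        · rw [one_smul]; exact (hcon χ hχ).1
        · rw [neg_one_smul]; exact (hcon χ hχ).2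
      have h1 := Cfsg.Agent.helper24.irr_classInner_ne hψ (hεirr χ hχ) hne'
      rw [Cfsg.Agent.helper8.classInner_smul_right] at h1
      exact (mul_eq_zero.mp h1).resolve_left hε0
    exact hset.const_of_orth hne
      (Cfsg.Agent.helper24.char_isClassFunction (Cfsg.Agent.helper24.irr_isCharacter hψ)) horth
      a ha b hb ha1 hb1

end Cfsg.Agent.S0852
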