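import Mathlib
import Cfsg.Statements.S0854
import Cfsg.Agent.Lib_helper5_Clifford
import Cfsg.Agent.Lib_helper5_IndTrans

set_option autoImplicit false
open Cfsg

namespace Cfsg.Agent.S0854

open Cfsg.Agent.helper5 Cfsg.Agent.helper8 Cfsg.Agent.helper12 Cfsg.Agent.helper24
open scoped ComplexConjugate

/-- The arithmetic heart of the norm argument. -/
theorem nat_norm_arith {ι : Type*} [Fintype ι] [DecidableEq ι] (f : ι → ℕ) (m : ι → ι → ℕ)
    (h1 : ∀ i, 1 ≤ m i i)
    (h2 : ∑ i, ∑ j, f i * f j * m i j = ∑ i, f i ^ 2) :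
    (∀ i, f i ≠ 0 → m i i = 1) ∧ (∀ i j, i ≠ j → f i ≠ 0 → f j ≠ 0 → m i j = 0) := by
  have hA : ∀ i, f i ^ 2 ≤ ∑ j, f i * f j * m i j := by
    intro i
    calc f i ^ 2 = f i * f i * 1 := by ring
      _ ≤ f i * f i * m i i := Nat.mul_le_mul_left _ (h1 i)
      _ ≤ ∑ j, f i * f j * m i j :=
        Finset.single_le_sum (f := fun j => f i * f j * m i j) (fun j _ => Nat.zero_le _)
          (Finset.mem_univ i)
  have hB : ∀ i, f i ^ 2 = ∑ j, f i * f j * m i j := by
    have := (Finset.sum_eq_sum_iff_of_le (s := Finset.univ) (fun i _ => hA i)).mp h2.symm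
    intro i
    exact this i (Finset.mem_univ i)
  have hC : ∀ i, f i * f i * m i i + ∑ j ∈ Finset.univ.erase i, f i * f j * m i j = f i ^ 2 := by
    intro i
    rw [hB i]
    exact Finset.add_sum_erase Finset.univ (fun j => f i * f j * m i j) (Finset.mem_univ i)
  have hD : ∀ i, f i ^ 2 ≤ f i * f i * m i i := by
    intro i
    calc f i ^ 2 = f i * f i * 1 := by ring
      _ ≤ f i * f i * m i i := Nat.mul_le_mul_left _ (h1 i)
  constructor
  · intro i hi
    have h3 : f i * f i * m i i = f i * f i * 1 := by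
      have := hC i
      have := hD i
      have e : f i ^ 2 = f i * f i * 1 := by ring
      omega
    exact Nat.eq_of_mul_eq_mul_left (Nat.mul_pos (Nat.pos_of_ne_zero hi) (Nat.pos_of_ne_zero hi)) h3
  · intro i j hij hi hj
    have h3 : ∑ j ∈ Finset.univ.erase i, f i * f j * m i j = 0 := by
      have := hC i
      have := hD i
      omega
    have h4 := (Finset.sum_eq_zero_iff.mp h3) j (Finset.mem_erase.mpr ⟨fun h => hij h.symm, Finset.mem_univ j⟩)
    rcases Nat.mul_eq_zero.mp h4 with h5 | h5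
    · rcases Nat.mul_eq_zero.mp h5 with h6 | h6
      · exact absurd h6 hi
      · exact absurd h6 hj
    · exact h5

/-- A character with zero norm is zero. -/
theorem char_eq_zero_of_norm {G : Type*} [Group G] [Fintype G] {χ : G → ℂ} (hχ : IsCharacter G χ)
    (h : classInner χ χ = 0) : χ = 0 := by
  classical
  haveI : Fintype (IrrCharacter G) := Fintype.ofFinite _
  obtain ⟨n, hexp, _, hnorm⟩ := char_decomp hχ
  rw [h] at hnorm
  have hsum : ∑ ψ : IrrCharacter G, n ψ ^ 2 = 0 := by exact_mod_cast hnorm.symm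
  have hz : ∀ ψ, n ψ = 0 := by
    intro ψ
    have := (Finset.sum_eq_zero_iff.mp hsum) ψ (Finset.mem_univ ψ)
    exact pow_eq_zero_iff (two_ne_zero) |>.mp this
  rw [hexp]
  apply Finset.sum_eq_zero
  intro ψ _
  rw [hz ψ]
  simp

theorem result {G : Type*} [Group G] [Fintype G] (H : Subgroup G) [hN : H.Normal] [Fintype H] (ϑ : H → ℂ) (hϑ : Cfsg.IsIrrCharacter H ϑ) (T : Subgroup G) [Fintype T] (hT : ∀ g : G, g ∈ T ↔ ∀ n : H, ϑ ⟨g * n * g⁻¹, hN.conj_mem (n : G) n.2 g⟩ = ϑ n) (hHT : H ≤ T) (χ : G → ℂ) (hχ : Cfsg.IsIrrCharacter G χ) (hcon : Cfsg.classInner (fun n : H => χ n) ϑ ≠ 0) : ∃ ψ : T → ℂ, Cfsg.IsIrrCharacter T ψ ∧ Cfsg.indFun T ψ = χ ∧ Cfsg.classInner (fun n : H => ψ ⟨(n : G), hHT n.2⟩) ϑ = Cfsg.classInner (fun n : H => χ n) ϑ := by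
  classical
  haveI : Fintype (IrrCharacter T) := Fintype.ofFinite _
  haveI : Fintype (H.subgroupOf T) := Fintype.ofFinite _
  haveI hN' : (H.subgroupOf T).Normal := inferInstance
  -- the character ϑ read on H' = H ∩ T ≤ T
  have hϑ' : IsIrrCharacter (H.subgroupOf T) (pullH H T hHT ϑ) := isIrrCharacter_pullH H T hHT hϑ
  have hinv : ∀ t : T, conjFunN (H.subgroupOf T) t (pullH H T hHT ϑ) = pullH H T hHT ϑ := by
    intro t
    funext n
    exact (hT t).mp t.2 ⟨((n : T) : G), Subgroup.mem_subgroupOf.mp n.2⟩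
  -- Θ = ϑ induced to T
  have hΘchar : IsCharacter T (indFun (H.subgroupOf T) (pullH H T hHT ϑ)) :=
    isCharacter_indFun _ (irr_isCharacter hϑ')
  obtain ⟨f, hexp, hf, hnorm⟩ := char_decomp hΘchar
  have hnorm2 := classInner_indFun_self_of_invariant (H.subgroupOf T) hϑ' hinv
  have hsumf : ∑ ψ : IrrCharacter T, f ψ ^ 2 = (H.subgroupOf T).index := by
    rw [hnorm2] at hnorm
    exact_mod_cast hnorm.symm
  -- induced characters of the irreducible characters of T
  have hindchar : ∀ ψ : IrrCharacter T, IsCharacter G (indFun T (ψ : T → ℂ)) :=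
    fun ψ => isCharacter_indFun T (irr_isCharacter ψ.2)
  choose m hm using fun ψ ψ' : IrrCharacter T => classInner_char_nat (hindchar ψ) (hindchar ψ')
  have hm1 : ∀ ψ, 1 ≤ m ψ ψ := by
    intro ψ
    by_contra hlt
    have h0 : m ψ ψ = 0 := by omega
    have h1 : classInner (indFun T (ψ : T → ℂ)) (indFun T (ψ : T → ℂ)) = 0 := by
      rw [hm, h0]; simp
    have h2 := char_eq_zero_of_norm (hindchar ψ) h1
    have h3 : indFun T (ψ : T → ℂ) 1 = (T.index : ℂ) * (ψ : T → ℂ) 1 := indFun_one T _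
    rw [h2] at h3
    have h4 : (ψ : T → ℂ) 1 ≠ 0 := by
      obtain ⟨n, hn, h⟩ := irr_apply_one ψ.2
      rw [h]
      exact_mod_cast hn.ne'
    have h5 : (T.index : ℂ) ≠ 0 := by
      have : T.index ≠ 0 := Subgroup.index_ne_zero_of_finite
      exact_mod_cast this
    exact mul_ne_zero h5 h4 h3.symm
  -- the induced character of ϑ
  have hInd : indFun H ϑ = ∑ ψ : IrrCharacter T, (f ψ : ℂ) • indFun T (ψ : T → ℂ) := by
    rw [← indFun_trans H T hHT ϑ]
    conv_lhs => rw [hexp]
    rw [indFun_sum]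
    apply Finset.sum_congr rfl
    intro ψ _
    rw [indFun_smul]
  -- its norm
  have hP3 : classInner (indFun H ϑ) (indFun H ϑ) = ((H.subgroupOf T).index : ℂ) := by
    rw [classInner_indFun_eq_restrict H ϑ _ (helper8.indFun_isClassFunction H ϑ), ← classInner_conj_symm]
    have h1 := classInner_res_indFun H ϑ ϑ
    have h1' : classInner (fun h : H => indFun H ϑ (h : G)) ϑ =
        (Nat.card H : ℂ)⁻¹ * ∑ x : G, classInner (conjFunN H x⁻¹ ϑ) ϑ := h1
    rw [h1']
    have h2 : ∀ x : G, classInner (conjFunN H x⁻¹ ϑ) ϑ = if x ∈ T then 1 else 0 := by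
      intro x
      rw [irr_classInner (isIrrCharacter_conjFunN H x⁻¹ hϑ) hϑ]
      have hiff : conjFunN H x⁻¹ ϑ = ϑ ↔ x ∈ T := by
        rw [← T.inv_mem_iff, hT x⁻¹]
        constructor
        · intro h n
          exact congrFun h n
        · intro h
          funext n
          exact h n
      by_cases hx : x ∈ T
      · rw [if_pos hx, if_pos (hiff.mpr hx)]
      · rw [if_neg hx, if_neg (fun h => hx (hiff.mp h))]
    rw [Finset.sum_congr rfl (fun x _ => h2 x), Finset.sum_boole]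
    have h3 : (Finset.univ.filter (fun x : G => x ∈ T)).card = Nat.card T := by
      rw [Nat.card_eq_fintype_card, Fintype.card_subtype]
    have h4 : Nat.card T = Nat.card H * (H.subgroupOf T).index := by
      rw [← card_subgroupOf_le H T hHT, Subgroup.card_mul_index]
    have hH0 : (Nat.card H : ℂ) ≠ 0 := by exact_mod_cast (Nat.card_pos (α := H)).ne'
    rw [h3, h4]
    push_cast
    simp only [map_mul, map_inv₀, map_natCast]
    field_simp
  -- expansion of the norm
  have hnormexp : classInner (indFun H ϑ) (indFun H ϑ) =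
      ((∑ ψ : IrrCharacter T, ∑ ψ' : IrrCharacter T, f ψ * f ψ' * m ψ ψ' : ℕ) : ℂ) := by
    conv_lhs => rw [hInd]
    rw [classInner_sum_left]
    push_cast
    apply Finset.sum_congr rfl
    intro ψ _
    rw [classInner_smul_left, classInner_sum_right, Finset.mul_sum]
    apply Finset.sum_congr rfl
    intro ψ' _
    rw [classInner_smul_right, hm, Complex.conj_natCast]
    ring
  have harith : ∑ ψ : IrrCharacter T, ∑ ψ' : IrrCharacter T, f ψ * f ψ' * m ψ ψ' =
      ∑ ψ : IrrCharacter T, f ψ ^ 2 := by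
    rw [hsumf]
    rw [hP3] at hnormexp
    exact_mod_cast hnormexp.symm
  obtain ⟨hdiag, hoff⟩ := nat_norm_arith f m hm1 harith
  -- the inner product of ϑ^G with χ
  have hχchar := irr_isCharacter hχ
  have hfrob : classInner (indFun H ϑ) χ = conj (classInner (fun n : H => χ n) ϑ) := by
    rw [classInner_indFun_eq_restrict H ϑ χ (char_isClassFunction hχchar), classInner_conj_symm]
  have hne : classInner (indFun H ϑ) χ ≠ 0 := by
    rw [hfrob]
    intro h
    exact hcon ((map_eq_zero _).mp h)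
  have hexp2 : classInner (indFun H ϑ) χ =
      ∑ ψ : IrrCharacter T, (f ψ : ℂ) * classInner (indFun T (ψ : T → ℂ)) χ := by
    conv_lhs => rw [hInd]
    rw [classInner_sum_left]
    apply Finset.sum_congr rfl
    intro ψ _
    rw [classInner_smul_left]
  obtain ⟨ψ₀, -, hψ₀⟩ := Finset.exists_ne_zero_of_sum_ne_zero (hexp2 ▸ hne)
  have hfψ₀ : f ψ₀ ≠ 0 := by
    intro h
    apply hψ₀
    rw [h]; simp
  have hcψ₀ : classInner (indFun T (ψ₀ : T → ℂ)) χ ≠ 0 := by
    intro h
    apply hψ₀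
    rw [h]; simp
  have hirr : IsIrrCharacter G (indFun T (ψ₀ : T → ℂ)) := by
    apply isIrrCharacter_of_classInner_self (hindchar ψ₀)
    rw [hm, hdiag ψ₀ hfψ₀]; simp
  have heq : indFun T (ψ₀ : T → ℂ) = χ := by
    by_contra hne'
    exact hcψ₀ (irr_classInner_ne hirr hχ hne')
  refine ⟨ψ₀, ψ₀.2, heq, ?_⟩
  -- the multiplicities
  have hL : classInner (fun n : H => (ψ₀ : T → ℂ) ⟨(n : G), hHT n.2⟩) ϑ = (f ψ₀ : ℂ) := by
    rw [← classInner_res_pullH H T hHT (ψ₀ : T → ℂ) ϑ, ← classInner_conj_symm]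
    have := classInner_indFun_eq_restrict (H.subgroupOf T) (pullH H T hHT ϑ) (ψ₀ : T → ℂ)
      (char_isClassFunction (irr_isCharacter ψ₀.2))
    have e : res (H.subgroupOf T) (ψ₀ : T → ℂ) = fun h : H.subgroupOf T => (ψ₀ : T → ℂ) h := rfl
    rw [e, ← this, hf, Complex.conj_natCast]
  have hR : classInner (fun n : H => χ n) ϑ = (f ψ₀ : ℂ) := by
    have h1 : classInner (fun n : H => χ n) ϑ = conj (classInner (indFun H ϑ) χ) := by
      rw [hfrob, Complex.conj_conj]
    rw [h1, hexp2, Finset.sum_eq_single ψ₀]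
    · rw [heq, irr_classInner_self hχ]; simp
    · intro ψ _ hψ
      by_cases hfψ : f ψ = 0
      · rw [hfψ]; simp
      · rw [← heq, hm, hoff ψ ψ₀ hψ hfψ hfψ₀]; simp
    · intro h
      exact absurd (Finset.mem_univ _) h
  rw [hL, hR]

end Cfsg.Agent.S0854
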