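import Mathlib
import Cfsg.Statements.S0856
import Cfsg.Agent.Lib_helper5_Clifford
import Cfsg.Agent.Lib_helper5_IndTrans
import Cfsg.Agent.Lib_helper1_ProdChar
import Cfsg.Agent.S0854

set_option autoImplicit false
open Cfsg

namespace Cfsg.Agent.S0856

open Cfsg.Agent.helper5 Cfsg.Agent.helper8 Cfsg.Agent.helper12 Cfsg.Agent.helper24
open scoped ComplexConjugate

/-- Inducing a product with a restricted class function. -/
theorem indFun_mul_res {G : Type*} [Group G] [Fintype G] (N : Subgroup G) (φ ϑ : N → ℂ)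
    (χ : G → ℂ) (hχ : IsClassFunction G χ) (hext : ∀ n : N, χ n = ϑ n) :
    indFun N (φ * ϑ) = indFun N φ * χ := by
  funext g
  have hE : ∀ z : G, extendByZero N (φ * ϑ) z = extendByZero N φ z * χ z := by
    intro z
    by_cases h : z ∈ N
    · rw [extendByZero_of_mem _ _ _ h, extendByZero_of_mem _ _ _ h, Pi.mul_apply, ← hext]
    · rw [extendByZero_of_not_mem _ _ _ h, extendByZero_of_not_mem _ _ _ h, zero_mul]
  have hc : ∀ x : G, χ (x⁻¹ * g * x) = χ g := by
    intro x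
    have := hχ g x⁻¹
    rwa [inv_inv] at this
  rw [Pi.mul_apply]
  unfold indFun
  rw [Finset.sum_congr rfl (fun x _ => by rw [hE, hc]), ← Finset.sum_mul]
  ring

theorem result {G : Type*} [Group G] [Fintype G] (N : Subgroup G) [hN : N.Normal] (φ ϑ : N → ℂ) (hφ : Cfsg.IsIrrCharacter N φ) (hϑ : Cfsg.IsIrrCharacter N ϑ) (hφinv : ∀ (g : G) (n : N), φ ⟨g * n * g⁻¹, hN.conj_mem (n : G) n.2 g⟩ = φ n) (hϑinv : ∀ (g : G) (n : N), ϑ ⟨g * n * g⁻¹, hN.conj_mem (n : G) n.2 g⟩ = ϑ n) (hprod : Cfsg.IsIrrCharacter N (φ * ϑ)) (χ : G → ℂ) (hχ : Cfsg.IsIrrCharacter G χ) (hext : ∀ n : N, χ n = ϑ n) : Set.BijOn (fun β : G → ℂ => β * χ) {β : G → ℂ | Cfsg.IsIrrCharacter G β ∧ Cfsg.classInner (Cfsg.indFun N φ) β ≠ 0} {ψ : G → ℂ | Cfsg.IsIrrCharacter G ψ ∧ Cfsg.classInner (Cfsg.indFun N (φ * ϑ)) ψ ≠ 0} := by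
  classical
  haveI : Fintype N := Fintype.ofFinite _
  haveI : Fintype (IrrCharacter G) := Fintype.ofFinite _
  have hχchar := irr_isCharacter hχ
  have hinv1 : ∀ g : G, conjFunN N g φ = φ := fun g => funext (fun n => hφinv g n)
  have hinv2 : ∀ g : G, conjFunN N g (φ * ϑ) = φ * ϑ := by
    intro g
    funext n
    change φ _ * ϑ _ = φ n * ϑ n
    rw [hφinv g n, hϑinv g n]
  have hΘchar : IsCharacter G (indFun N φ) := isCharacter_indFun _ (irr_isCharacter hφ)
  obtain ⟨e, hexp, he, hnorm⟩ := char_decomp hΘchar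
  have hnorm1 := classInner_indFun_self_of_invariant N hφ hinv1
  have hnorm2 := classInner_indFun_self_of_invariant N hprod hinv2
  have hsume : ∑ β : IrrCharacter G, e β ^ 2 = N.index := by
    rw [hnorm1] at hnorm
    exact_mod_cast hnorm.symm
  have hprodchar : ∀ β : IrrCharacter G, IsCharacter G ((β : G → ℂ) * χ) :=
    fun β => Cfsg.Agent.helper1.isCharacter_mul (irr_isCharacter β.2) hχchar
  choose m hm using fun β β' : IrrCharacter G => classInner_char_nat (hprodchar β) (hprodchar β')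
  have hχ1 : χ 1 ≠ 0 := by
    obtain ⟨n, hn, h⟩ := irr_apply_one hχ
    rw [h]
    exact_mod_cast hn.ne'
  have hm1 : ∀ β, 1 ≤ m β β := by
    intro β
    by_contra hlt
    have h0 : m β β = 0 := by omega
    have h1 : classInner ((β : G → ℂ) * χ) ((β : G → ℂ) * χ) = 0 := by
      rw [hm, h0]; simp
    have h2 := Cfsg.Agent.S0854.char_eq_zero_of_norm (hprodchar β) h1
    have h3 : ((β : G → ℂ) * χ) 1 = 0 := by rw [h2]; rfl
    rw [Pi.mul_apply] at h3
    have h4 : (β : G → ℂ) 1 ≠ 0 := by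
      obtain ⟨n, hn, h⟩ := irr_apply_one β.2
      rw [h]
      exact_mod_cast hn.ne'
    exact mul_ne_zero h4 hχ1 h3
  have hInd : indFun N (φ * ϑ) = ∑ β : IrrCharacter G, (e β : ℂ) • ((β : G → ℂ) * χ) := by
    rw [indFun_mul_res N φ ϑ χ (char_isClassFunction hχchar) hext]
    conv_lhs => rw [hexp]
    rw [Finset.sum_mul]
    apply Finset.sum_congr rfl
    intro β _
    rw [smul_mul_assoc]
  have hnormexp : classInner (indFun N (φ * ϑ)) (indFun N (φ * ϑ)) =
      ((∑ β : IrrCharacter G, ∑ β' : IrrCharacter G, e β * e β' * m β β' : ℕ) : ℂ) := by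
    conv_lhs => rw [hInd]
    rw [classInner_sum_left]
    push_cast
    apply Finset.sum_congr rfl
    intro β _
    rw [classInner_smul_left, classInner_sum_right, Finset.mul_sum]
    apply Finset.sum_congr rfl
    intro β' _
    rw [classInner_smul_right, hm, Complex.conj_natCast]
    ring
  have harith : ∑ β : IrrCharacter G, ∑ β' : IrrCharacter G, e β * e β' * m β β' =
      ∑ β : IrrCharacter G, e β ^ 2 := by
    rw [hsume]
    rw [hnorm2] at hnormexp
    exact_mod_cast hnormexp.symm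
  obtain ⟨hdiag, hoff⟩ := Cfsg.Agent.S0854.nat_norm_arith e m hm1 harith
  have hexp2 : ∀ ψ : G → ℂ, classInner (indFun N (φ * ϑ)) ψ =
      ∑ β : IrrCharacter G, (e β : ℂ) * classInner ((β : G → ℂ) * χ) ψ := by
    intro ψ
    conv_lhs => rw [hInd]
    rw [classInner_sum_left]
    apply Finset.sum_congr rfl
    intro β _
    rw [classInner_smul_left]
  have hirr : ∀ β : IrrCharacter G, e β ≠ 0 → IsIrrCharacter G ((β : G → ℂ) * χ) := by
    intro β hβ
    apply isIrrCharacter_of_classInner_self (hprodchar β)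
    rw [hm, hdiag β hβ]; simp
  have hval : ∀ β : IrrCharacter G, e β ≠ 0 →
      classInner (indFun N (φ * ϑ)) ((β : G → ℂ) * χ) = (e β : ℂ) := by
    intro β hβ
    rw [hexp2, Finset.sum_eq_single β]
    · rw [hm, hdiag β hβ]; simp
    · intro β' _ hβ'
      by_cases h0 : e β' = 0
      · rw [h0]; simp
      · rw [hm, hoff β' β hβ' h0 hβ]; simp
    · intro h
      exact absurd (Finset.mem_univ _) h
  refine ⟨?_, ?_, ?_⟩
  · -- MapsTo
    rintro β ⟨hβirr, hβne⟩
    have hβe : e ⟨β, hβirr⟩ ≠ 0 := by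
      intro h
      apply hβne
      rw [he ⟨β, hβirr⟩, h]; simp
    refine ⟨hirr ⟨β, hβirr⟩ hβe, ?_⟩
    change classInner (indFun N (φ * ϑ)) (β * χ) ≠ 0
    have := hval ⟨β, hβirr⟩ hβe
    change classInner (indFun N (φ * ϑ)) (β * χ) = _ at this
    rw [this]
    exact_mod_cast hβe
  · -- InjOn
    rintro β ⟨hβirr, hβne⟩ β' ⟨hβ'irr, hβ'ne⟩ heq
    change β * χ = β' * χ at heq
    by_contra hne
    have hβe : e ⟨β, hβirr⟩ ≠ 0 := by
      intro h
      apply hβne
      rw [he ⟨β, hβirr⟩, h]; simp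
    have hβ'e : e ⟨β', hβ'irr⟩ ≠ 0 := by
      intro h
      apply hβ'ne
      rw [he ⟨β', hβ'irr⟩, h]; simp
    have hne' : (⟨β, hβirr⟩ : IrrCharacter G) ≠ ⟨β', hβ'irr⟩ := by
      intro h
      exact hne (congrArg Subtype.val h)
    have h1 := hm ⟨β, hβirr⟩ ⟨β', hβ'irr⟩
    rw [hoff _ _ hne' hβe hβ'e] at h1
    change classInner (β * χ) (β' * χ) = _ at h1
    rw [← heq] at h1
    have h2 := hm ⟨β, hβirr⟩ ⟨β, hβirr⟩
    rw [hdiag _ hβe] at h2
    change classInner (β * χ) (β * χ) = _ at h2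
    rw [h1] at h2
    simp at h2
  · -- SurjOn
    rintro ψ ⟨hψirr, hψne⟩
    rw [hexp2] at hψne
    obtain ⟨β, -, hβ⟩ := Finset.exists_ne_zero_of_sum_ne_zero hψne
    have hβe : e β ≠ 0 := by
      intro h
      apply hβ
      rw [h]; simp
    have hc : classInner ((β : G → ℂ) * χ) ψ ≠ 0 := by
      intro h
      apply hβ
      rw [h]; simp
    have heq : (β : G → ℂ) * χ = ψ := by
      by_contra hne'
      exact hc (irr_classInner_ne (hirr β hβe) hψirr hne')
    refine ⟨β, ⟨β.2, ?_⟩, heq⟩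
    rw [he β]
    exact_mod_cast hβe

end Cfsg.Agent.S0856
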