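import Mathlib
import Cfsg.Agent.Lib_helper22_AGroup
import Cfsg.Agent.Lib_helper22_ExtLin
import Cfsg.Statements.S0859
-- import your own Cfsg.Agent.* helpers here

set_option autoImplicit false
open Cfsg

namespace Cfsg.Agent.S0859

/-- Let G be a finite solvable group and N a normal subgroup such that for every prime p every Sylow p-subgroup of N is abelian. Suppose every irreducible character of G is induced from an irreducible character of some subgroup containing N whose restriction to N is irreducible. Then every irreducible character of G is induced from a character of degree 1 of some subgroup. -/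
theorem result {G : Type*} [Group G] [Fintype G] [Group.IsSolvable G] (N : Subgroup G) [N.Normal] (hab : ∀ (p : ℕ) [Fact p.Prime] (P : Sylow p N), ∀ a ∈ P, ∀ b ∈ P, a * b = b * a) (hrel : ∀ χ : G → ℂ, Cfsg.IsIrrCharacter G χ → ∃ (H : Subgroup G) (hNH : N ≤ H) (ψ : H → ℂ), Cfsg.IsIrrCharacter H ψ ∧ Cfsg.indFun H ψ = χ ∧ Cfsg.IsIrrCharacter N (fun n : N => ψ ⟨(n : G), hNH n.2⟩)) (χ : G → ℂ) (hχ : Cfsg.IsIrrCharacter G χ) : ∃ (U : Subgroup G) (lam : U → ℂ), Cfsg.IsCharacter U lam ∧ lam 1 = 1 ∧ Cfsg.indFun U lam = χ := by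
  classical
  obtain ⟨H, hNH, ψ, hψ, hind, hψN⟩ := hrel χ hχ
  haveI : Fintype H := Fintype.ofFinite _
  -- `N` has abelian `p`-subgroups
  have hA : helper22.AbSylow N := by
    intro p hp Q hQ hQp a ha b hb
    haveI : Fact p.Prime := ⟨hp⟩
    have hQ' : IsPGroup p (Q.subgroupOf N) := hQp.comap_subtype
    obtain ⟨P, hP⟩ := hQ'.exists_le_sylow
    have h1 := hab p P ⟨a, hQ ha⟩ (hP (Subgroup.mem_subgroupOf.mpr ha)) ⟨b, hQ hb⟩
      (hP (Subgroup.mem_subgroupOf.mpr hb))
    exact congrArg Subtype.val h1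
  have hsN : Group.IsSolvable N := inferInstance
  have hs' : Group.IsSolvable (N.subgroupOf H) := lead.solvable_subgroupOf_of_solvable N H hsN
  have hirr : IsIrrCharacter (N.subgroupOf H) (helper5.res (N.subgroupOf H) ψ) := by
    have h1 := helper8.isIrrCharacter_comp_mulEquiv (Subgroup.subgroupOfEquivOfLe hNH) hψN
    have h2 : helper5.res (N.subgroupOf H) ψ = fun a : N.subgroupOf H =>
        (fun n : N => ψ ⟨(n : G), hNH n.2⟩) (Subgroup.subgroupOfEquivOfLe hNH a) := by
      funext a
      rfl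
    rw [h2]
    exact h1
  obtain ⟨U', lam', hlam'⟩ := helper22.monomial_of_res_irr (Nat.card H) H (N.subgroupOf H) rfl hs'
    (hA.subgroupOf H) ψ hψ hirr
  obtain ⟨U, lam, hU⟩ := helper22.indFun_map_subtype H U' lam'
  have hlin := helper22.linear_iff_hom.mpr ⟨lam, fun g => rfl⟩
  refine ⟨U, fun h => ((lam h : ℂˣ) : ℂ), hlin.1, hlin.2, ?_⟩
  rw [← hU, ← hlam', hind]

end Cfsg.Agent.S0859
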