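import Mathlib
import Cfsg.Agent.Lib_helper22_KGV
import Cfsg.Agent.Lib_helper24_ItoMichler
import Cfsg.Agent.Lib_helper24_CharKer
import Cfsg.Agent.S0187
import Cfsg.Statements.S0861
-- import your own Cfsg.Agent.* helpers here

set_option autoImplicit false
open Cfsg

namespace Cfsg.Agent.S0861

/-- Let P be a normal abelian Sylow p-subgroup of the finite group G and suppose some element g of P has centralizer exactly P. Then the number of irreducible characters of G is at most the order of P, and if equality holds then G / P is abelian (the commutator subgroup lies in P). -/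
theorem result {G : Type*} [Group G] [Finite G] (p : ℕ) [Fact p.Prime] (P : Sylow p G) [(P : Subgroup G).Normal] (hab : ∀ a ∈ P, ∀ b ∈ P, a * b = b * a) (g : G) (hg : g ∈ P) (hC : Subgroup.centralizer ({g} : Set G) = P) : Nat.card (Cfsg.IrrCharacter G) ≤ Nat.card P ∧ (Nat.card (Cfsg.IrrCharacter G) = Nat.card P → commutator G ≤ P) := by
  classical
  have hp : p.Prime := Fact.out
  -- the order of `g` is a power of `p`
  obtain ⟨a, ha⟩ : ∃ a : ℕ, orderOf g = p ^ a := by
    obtain ⟨k, hk⟩ := P.2 ⟨g, hg⟩
    have h1 : g ^ (p ^ k) = 1 := by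
      have := congrArg (Subtype.val) hk
      simpa using this
    have h2 : orderOf g ∣ p ^ k := orderOf_dvd_of_pow_eq_one h1
    obtain ⟨a, -, ha⟩ := (Nat.dvd_prime_pow hp).mp h2
    exact ⟨a, ha⟩
  have hne : ∀ χ : IrrCharacter G, (χ : G → ℂ) g ≠ 0 := by
    intro χ
    apply helper22.char_ne_zero_of_ppow_order p (helper24.irr_isCharacter χ.2) ?_ g a ha
    intro hdvd
    have h1 := helper24.ito_degree_dvd_index (P : Subgroup G) hab χ
    exact Sylow.not_dvd_index P (hdvd.trans h1)
  obtain ⟨h1, h2⟩ := helper22.card_irr_le_of_regular (P : Subgroup G) g hg hC hne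
  refine ⟨h1, fun heq => ?_⟩
  have h3 := h2 heq
  rw [← Subgroup.Normal.quotient_commutative_iff_commutator_le]
  have h4 : ∀ a b : G ⧸ (P : Subgroup G), a * b = b * a := by
    rw [S0187.result]
    intro β
    have h5 := h3 ⟨_, helper24.irr_inflation (P : Subgroup G) β.2⟩ (by
      intro x hx
      show (β : G ⧸ (P : Subgroup G) → ℂ) (x : G ⧸ (P : Subgroup G)) =
        (β : G ⧸ (P : Subgroup G) → ℂ) ((1 : G) : G ⧸ (P : Subgroup G))
      rw [(QuotientGroup.eq_one_iff x).mpr hx]
      rfl)
    exact h5
  exact ⟨⟨fun a b => h4 a b⟩⟩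

end Cfsg.Agent.S0861
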