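import Cfsg.Statements.S0877
import Cfsg.Agent.Lib_helper24_BrauerGlobal
import Cfsg.Agent.Lib_helper24_BrauerLinear
import Cfsg.Agent.Lib_helper24_RBrauer
import Cfsg.Agent.Lib_helper24_CharCount
import Cfsg.Agent.Lib_helper24_CharCod
import Cfsg.Agent.Lib_helper12_Card
import Cfsg.Agent.Lib_helper12_CharOps
import Cfsg.Agent.Lib_helper23_Integral
import Cfsg.Agent.Lib_helper8_Virtual
import Cfsg.Agent.Lib_helper8_Ind
import Cfsg.Agent.Lib_helper24_DefectOrder

set_option autoImplicit false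
open Cfsg

namespace Cfsg.Agent.S0877

open Cfsg.Agent.helper24
open scoped ComplexConjugate

universe u

set_option linter.style.haveILetI false
set_option linter.unusedVariables false
set_option linter.unusedSectionVars false

section Pow

/-- powers by an exponent congruent to 1 -/
theorem pow_eq_self_of {X : Type*} [Group X] {m e : ℕ} (he : e ≡ 1 [MOD m]) {x : X}
    (hx : x ^ m = 1) : x ^ e = x := by
  have h1 : e ≡ 1 [MOD orderOf x] := he.of_dvd (orderOf_dvd_of_pow_eq_one hx)
  have h2 := (pow_eq_pow_iff_modEq (x := x)).2 h1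
  rwa [pow_one] at h2

/-- powers by an exponent congruent to 0 -/
theorem pow_eq_one_of {X : Type*} [Group X] {n e : ℕ} (he : e ≡ 0 [MOD n]) {x : X}
    (hx : x ^ n = 1) : x ^ e = 1 := by
  have h1 : e ≡ 0 [MOD orderOf x] := he.of_dvd (orderOf_dvd_of_pow_eq_one hx)
  have h2 := (pow_eq_pow_iff_modEq (x := x)).2 h1
  rwa [pow_zero] at h2

/-- in a finite group of order dividing `m * n`, the `e`-th power has order dividing `m` -/
theorem pow_pow_eq_one_of {X : Type*} [Group X] [Finite X] {m n e : ℕ}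
    (hcard : Nat.card X ∣ m * n) (he : e ≡ 0 [MOD n]) (x : X) : (x ^ e) ^ m = 1 := by
  obtain ⟨k, hk⟩ := (Nat.modEq_zero_iff_dvd.1 he)
  rw [← pow_mul, hk]
  have h1 : n * k * m = (m * n) * k := by ring
  rw [h1, pow_mul]
  obtain ⟨j, hj⟩ := hcard
  rw [hj, pow_mul, pow_card_eq_one', one_pow, one_pow]

/-- in a finite nilpotent group whose order divides `m * n` (coprime), the `e`-th power map is
multiplicative -/
theorem nilpotent_pow_mul {E : Type*} [Group E] [Finite E] (hnil : Group.IsNilpotent E)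
    {m n e : ℕ} (hmn : Nat.Coprime m n) (hcard : Nat.card E ∣ m * n)
    (he1 : e ≡ 1 [MOD m]) (he0 : e ≡ 0 [MOD n]) (x y : E) : (x * y) ^ e = x ^ e * y ^ e := by
  classical
  obtain ⟨f⟩ := ((isNilpotent_of_finite_tfae (G := E)).out 0 4).1 hnil
  apply f.symm.injective
  rw [map_pow, map_mul, map_mul, map_pow, map_pow]
  funext p
  funext P
  show ((f.symm x * f.symm y) ^ e) p P = ((f.symm x) ^ e * (f.symm y) ^ e) p P
  rw [Pi.pow_apply, Pi.pow_apply, Pi.mul_apply, Pi.mul_apply, Pi.mul_apply, Pi.mul_apply,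
    Pi.pow_apply, Pi.pow_apply, Pi.pow_apply, Pi.pow_apply]
  have hp : (p : ℕ).Prime := Nat.prime_of_mem_primeFactors p.2
  haveI : Fact (p : ℕ).Prime := ⟨hp⟩
  -- the order of `P` divides `m` or `n`
  obtain ⟨k, hk⟩ : ∃ k : ℕ, Nat.card (P : Subgroup E) = (p : ℕ) ^ k :=
    ⟨_, P.card_eq_multiplicity⟩
  have hPdvd : Nat.card (P : Subgroup E) ∣ m * n :=
    dvd_trans (Subgroup.card_subgroup_dvd_card _) hcard
  have hall : (∀ c : (P : Subgroup E), c ^ e = c) ∨ (∀ c : (P : Subgroup E), c ^ e = 1) := by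
    by_cases hpm : (p : ℕ) ∣ m
    · left
      intro c
      apply pow_eq_self_of he1
      have hpn : ¬ (p : ℕ) ∣ n := by
        intro hpn
        have := Nat.dvd_gcd hpm hpn
        rw [hmn] at this
        exact hp.one_lt.ne' (Nat.dvd_one.1 this)
      have hcop : Nat.Coprime (Nat.card (P : Subgroup E)) n := by
        rw [hk]
        exact Nat.Coprime.pow_left _ ((Nat.Prime.coprime_iff_not_dvd hp).2 hpn)
      have hdm : Nat.card (P : Subgroup E) ∣ m := hcop.dvd_of_dvd_mul_right hPdvd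
      obtain ⟨j, hj⟩ := hdm
      rw [hj, pow_mul, pow_card_eq_one', one_pow]
    · right
      intro c
      apply pow_eq_one_of he0
      have hcop : Nat.Coprime (Nat.card (P : Subgroup E)) m := by
        rw [hk]
        exact Nat.Coprime.pow_left _ ((Nat.Prime.coprime_iff_not_dvd hp).2 hpm)
      have hdn : Nat.card (P : Subgroup E) ∣ n := hcop.dvd_of_dvd_mul_left hPdvd
      obtain ⟨j, hj⟩ := hdn
      rw [hj, pow_mul, pow_card_eq_one', one_pow]
  rcases hall with h | h
  · rw [h, h, h]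
  · rw [h, h, h, one_mul]

/-- the power map as a homomorphism -/
noncomputable def powHom {E : Type*} [Group E] [Finite E] (hnil : Group.IsNilpotent E)
    {m n e : ℕ} (hmn : Nat.Coprime m n) (hcard : Nat.card E ∣ m * n)
    (he1 : e ≡ 1 [MOD m]) (he0 : e ≡ 0 [MOD n]) : E →* E :=
  MonoidHom.mk' (fun x => x ^ e) (nilpotent_pow_mul hnil hmn hcard he1 he0)

theorem powHom_apply {E : Type*} [Group E] [Finite E] (hnil : Group.IsNilpotent E)
    {m n e : ℕ} (hmn : Nat.Coprime m n) (hcard : Nat.card E ∣ m * n)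
    (he1 : e ≡ 1 [MOD m]) (he0 : e ≡ 0 [MOD n]) (x : E) :
    powHom hnil hmn hcard he1 he0 x = x ^ e := rfl

/-- a cyclic subgroup is elementary -/
theorem exists_isElementary_zpowers {G : Type*} [Group G] [Finite G] (y : G) :
    ∃ q : ℕ, q.Prime ∧ IsElementary q ↥(Subgroup.zpowers y) := by
  obtain ⟨q, hq1, hq⟩ := Nat.exists_infinite_primes (orderOf y + 1)
  refine ⟨q, hq, ⟨y, Subgroup.mem_zpowers y⟩, ?_, ?_, 0, ?_⟩
  · rw [Subgroup.mem_center_iff]
    intro g
    apply Subtype.ext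
    obtain ⟨k, hk⟩ := Subgroup.mem_zpowers_iff.1 g.2
    show (g : G) * y = y * (g : G)
    rw [← hk]
    exact ((Commute.refl y).zpow_left k).eq
  · have h1 : orderOf (⟨y, Subgroup.mem_zpowers y⟩ : Subgroup.zpowers y) = orderOf y :=
      Subgroup.orderOf_mk y _
    rw [h1]
    have hpos : 0 < orderOf y := orderOf_pos y
    exact Nat.Coprime.symm ((Nat.Prime.coprime_iff_not_dvd hq).2
      (Nat.not_dvd_of_pos_of_lt hpos (by omega)))
  · rw [pow_zero]
    have h2 : Subgroup.zpowers (⟨y, Subgroup.mem_zpowers y⟩ : Subgroup.zpowers y) = ⊤ := by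
      rw [eq_top_iff]
      intro g _
      obtain ⟨k, hk⟩ := Subgroup.mem_zpowers_iff.1 g.2
      rw [Subgroup.mem_zpowers_iff]
      refine ⟨k, ?_⟩
      apply Subtype.ext
      rw [Subgroup.coe_zpow]
      exact hk
    rw [h2, Subgroup.index_top]

end Pow

section Hat

variable {G : Type u} [Group G] [Fintype G]

/-- the data of the problem, with an exponent `e` computing `π`-parts -/
structure HallData (H : Subgroup G) (e : ℕ) : Prop where
  cop : Nat.Coprime (Nat.card H) H.index
  fus : ∀ x ∈ H, ∀ y ∈ H, IsConj x y → ∃ h ∈ H, h * x * h⁻¹ = y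
  elem : ∀ (E : Subgroup G) (p : ℕ), p.Prime → IsElementary p E → Nat.card E ∣ Nat.card H →
    ∃ g : G, E.map (MulAut.conj g).toMonoidHom ≤ H
  e1 : e ≡ 1 [MOD Nat.card H]
  e0 : e ≡ 0 [MOD H.index]

variable {H : Subgroup G} {e : ℕ}

theorem HallData.exists_conj (hd : HallData H e) (g : G) : ∃ c : G, c * g ^ e * c⁻¹ ∈ H := by
  obtain ⟨q, hq, hel⟩ := exists_isElementary_zpowers (g ^ e)
  have hcard : Nat.card (Subgroup.zpowers (g ^ e)) ∣ Nat.card H := by
    rw [Nat.card_zpowers]
    apply orderOf_dvd_of_pow_eq_one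
    exact pow_pow_eq_one_of (by rw [H.card_mul_index]) hd.e0 g
  obtain ⟨c, hc⟩ := hd.elem _ q hq hel hcard
  refine ⟨c, hc ?_⟩
  rw [Subgroup.mem_map]
  exact ⟨g ^ e, Subgroup.mem_zpowers _, by simp [MulAut.conj_apply]⟩

/-- chosen conjugating element -/
noncomputable def HallData.cj (hd : HallData H e) (g : G) : G := (hd.exists_conj g).choose

/-- the representative in `H` of the `π`-part of `g` -/
noncomputable def HallData.rep (hd : HallData H e) (g : G) : H :=
  ⟨hd.cj g * g ^ e * (hd.cj g)⁻¹, (hd.exists_conj g).choose_spec⟩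

theorem HallData.rep_isConj (hd : HallData H e) (g : G) : IsConj (g ^ e) (hd.rep g : G) :=
  isConj_iff.2 ⟨hd.cj g, rfl⟩

/-- the extension of a function on `H` -/
noncomputable def HallData.hat (hd : HallData H e) (φ : H → ℂ) : G → ℂ := fun g => φ (hd.rep g)

theorem HallData.conj_in_H (hd : HallData H e) {a b : H} (hab : IsConj (a : G) (b : G)) :
    IsConj a b := by
  obtain ⟨k, hk, hkk⟩ := hd.fus _ a.2 _ b.2 hab
  rw [isConj_iff]
  refine ⟨⟨k, hk⟩, ?_⟩
  apply Subtype.ext
  simpa using hkk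

theorem HallData.rep_conj (hd : HallData H e) {g : G} {h : H} (hgh : IsConj (g ^ e) (h : G)) :
    IsConj (hd.rep g) h :=
  hd.conj_in_H ((hd.rep_isConj g).symm.trans hgh)

theorem HallData.hat_eq (hd : HallData H e) {φ : H → ℂ} (hφ : IsClassFunction H φ) {g : G}
    {h : H} (hgh : IsConj (g ^ e) (h : G)) : hd.hat φ g = φ h :=
  (isClassFunction_iff_isConj.1 hφ) _ _ (hd.rep_conj hgh)

theorem HallData.pow_coe (hd : HallData H e) (h : H) : (h : G) ^ e = h := by
  apply pow_eq_self_of hd.e1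
  have h1 : h ^ Nat.card H = 1 := pow_card_eq_one'
  have h2 : ((h ^ Nat.card H : H) : G) = ((1 : H) : G) := by rw [h1]
  rwa [Subgroup.coe_pow, Subgroup.coe_one] at h2

theorem HallData.hat_isClassFunction (hd : HallData H e) {φ : H → ℂ} (hφ : IsClassFunction H φ) :
    IsClassFunction G (hd.hat φ) := by
  intro g k
  apply hd.hat_eq hφ
  have h1 : (k * g * k⁻¹) ^ e = k * g ^ e * k⁻¹ := conj_pow
  rw [h1]
  exact (isConj_iff.2 ⟨k, rfl⟩ : IsConj (g ^ e) (k * g ^ e * k⁻¹)).symm.trans (hd.rep_isConj g)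

theorem HallData.hat_coe (hd : HallData H e) {φ : H → ℂ} (hφ : IsClassFunction H φ) (h : H) :
    hd.hat φ (h : G) = φ h := by
  apply hd.hat_eq hφ
  rw [hd.pow_coe]

theorem HallData.hat_restrict_isCharacter (hd : HallData H e) {χ : H → ℂ} (hχ : IsCharacter H χ)
    (E : Subgroup G) (q : ℕ) (hq : q.Prime) (hE : IsElementary q E) :
    IsCharacter E (fun x : E => hd.hat χ x) := by
  classical
  have hnil : Group.IsNilpotent E := isNilpotent_of_isElementary hq hE
  have hcardE : Nat.card E ∣ Nat.card H * H.index := by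
    rw [H.card_mul_index]; exact Subgroup.card_subgroup_dvd_card E
  obtain ⟨ε, hε⟩ : ∃ ε : E →* E, ∀ x, ε x = x ^ e :=
    ⟨powHom hnil hd.cop hcardE hd.e1 hd.e0, fun x => rfl⟩
  obtain ⟨R, hR⟩ : ∃ R : Subgroup E, R = ε.range := ⟨_, rfl⟩
  obtain ⟨E', hE'⟩ : ∃ E' : Subgroup G, E' = R.map E.subtype := ⟨_, rfl⟩
  have hel' : IsElementary q E' := by
    have h1 : IsElementary q R := isElementary_subgroup hq R hE
    rw [hE']
    exact isElementary_of_mulEquiv (R.equivMapOfInjective E.subtype Subtype.val_injective) h1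
  have hmemE' : ∀ x : E, ((ε x : E) : G) ∈ E' := by
    intro x
    rw [hE', Subgroup.mem_map]
    refine ⟨ε x, ?_, rfl⟩
    rw [hR]
    exact ⟨x, rfl⟩
  have hpow : ∀ y ∈ E', y ^ Nat.card H = 1 := by
    intro y hy
    rw [hE', Subgroup.mem_map] at hy
    obtain ⟨z, hz, rfl⟩ := hy
    rw [hR] at hz
    obtain ⟨x, rfl⟩ := hz
    rw [hε]
    have h1 := pow_pow_eq_one_of hcardE hd.e0 x
    have h2 := congrArg Subtype.val h1
    simpa using h2
  have hcardE' : Nat.card E' ∣ Nat.card H := by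
    have hcop : Nat.Coprime (Nat.card E') H.index := by
      apply Nat.coprime_of_dvd
      intro p hp hpE hpn
      haveI : Fact p.Prime := ⟨hp⟩
      obtain ⟨y, hy⟩ := exists_prime_orderOf_dvd_card' (G := E') p hpE
      have h1 : (y : G) ^ Nat.card H = 1 := hpow y y.2
      have h2 : orderOf (y : G) = p := by rw [Subgroup.orderOf_coe]; exact hy
      have h3 : p ∣ Nat.card H := by rw [← h2]; exact orderOf_dvd_of_pow_eq_one h1
      have h4 := Nat.dvd_gcd h3 hpn
      rw [hd.cop] at h4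
      exact hp.one_lt.ne' (Nat.dvd_one.1 h4)
    apply hcop.dvd_of_dvd_mul_right
    rw [H.card_mul_index]
    exact Subgroup.card_subgroup_dvd_card E'
  obtain ⟨g₀, hg₀⟩ := hd.elem E' q hq hel' hcardE'
  have hmem : ∀ x : E, (MulAut.conj g₀).toMonoidHom.comp (E.subtype.comp ε) x ∈ H := by
    intro x
    apply hg₀
    rw [Subgroup.mem_map]
    exact ⟨((ε x : E) : G), hmemE' x, rfl⟩
  obtain ⟨δ, hδ⟩ : ∃ δ : E →* H, ∀ x, ((δ x : H) : G) = g₀ * (x : G) ^ e * g₀⁻¹ := by
    refine ⟨((MulAut.conj g₀).toMonoidHom.comp (E.subtype.comp ε)).codRestrict H hmem, ?_⟩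
    intro x
    simp [hε, MulAut.conj_apply]
  have hchar := isCharacter_comp_monoidHom δ hχ
  convert hchar using 1
  funext x
  apply hd.hat_eq (char_isClassFunction hχ)
  rw [hδ]
  exact isConj_iff.2 ⟨g₀, rfl⟩

theorem HallData.hat_isGeneralizedCharacter (hd : HallData H e) {χ : H → ℂ}
    (hχ : IsCharacter H χ) : IsGeneralizedCharacter G (hd.hat χ) := by
  apply brauer_characterization _ (hd.hat_isClassFunction (char_isClassFunction hχ))
  intro E q hq hE
  refine ⟨_, 0, hd.hat_restrict_isCharacter hχ E q hq hE, helper12.isCharacter_zero, ?_⟩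
  rw [sub_zero]

end Hat

section Count

theorem sum_fiber {α β : Type*} [Fintype α] [Fintype β] (f : α → β) (w : β → ℂ) :
    ∑ a, w (f a) = ∑ b, (Nat.card {a // f a = b} : ℂ) * w b := by
  classical
  rw [← Finset.sum_fiberwise Finset.univ f (fun a => w (f a))]
  refine Finset.sum_congr rfl (fun b _ => ?_)
  have h1 : ∀ a ∈ Finset.univ.filter (fun a => f a = b), w (f a) = w b := by
    intro a ha; rw [(Finset.mem_filter.1 ha).2]
  rw [Finset.sum_congr rfl h1, Finset.sum_const, nsmul_eq_mul, Nat.card_eq_fintype_card,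
    Fintype.card_subtype]

theorem card_fiber_sum {α β : Type*} [Fintype α] [Fintype β] (f : α → β) :
    ∑ b, Nat.card {a // f a = b} = Nat.card α := by
  classical
  have h := sum_fiber f (fun _ => (1 : ℂ))
  simp only [mul_one, Finset.sum_const, Finset.card_univ, nsmul_eq_mul] at h
  rw [Nat.card_eq_fintype_card]
  exact_mod_cast h.symm

variable {G : Type u} [Group G] [Fintype G] {H : Subgroup G} {e : ℕ}

theorem HallData.hat_inner_one_int (hd : HallData H e) {ψ : H → ℂ} (hψ : IsCharacter H ψ) :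
    ∃ z : ℤ, classInner (hd.hat ψ) (fun _ : G => (1 : ℂ)) = (z : ℂ) := by
  obtain ⟨α, β, hα, hβ, hαβ⟩ := hd.hat_isGeneralizedCharacter hψ
  have hone : IsCharacter G (fun _ : G => (1 : ℂ)) := irr_isCharacter isIrrCharacter_one
  obtain ⟨n₁, hn₁⟩ := helper12.classInner_char_nat hα hone
  obtain ⟨n₂, hn₂⟩ := helper12.classInner_char_nat hβ hone
  refine ⟨(n₁ : ℤ) - (n₂ : ℤ), ?_⟩
  rw [hαβ, classInner_sub_left, hn₁, hn₂]
  push_cast
  rfl

theorem HallData.dvd_cnt (hd : HallData H e) [Fintype H] (h₀ : H) :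
    H.index * Nat.card {h : H // ConjClasses.mk h = ConjClasses.mk h₀} ∣
      Nat.card {g : G // ConjClasses.mk (hd.rep g) = ConjClasses.mk h₀} := by
  classical
  haveI := Fintype.ofFinite (IrrCharacter H)
  have hG0 : (Nat.card G : ℂ) ≠ 0 := by exact_mod_cast (Nat.card_pos (α := G)).ne'
  obtain ⟨a, ha⟩ : ∃ a : ℕ, a = Nat.card (Subgroup.centralizer ({h₀} : Set H)) := ⟨_, rfl⟩
  obtain ⟨N, hN⟩ : ∃ N : ℕ,
      N = Nat.card {g : G // ConjClasses.mk (hd.rep g) = ConjClasses.mk h₀} := ⟨_, rfl⟩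
  obtain ⟨M, hM⟩ : ∃ M : ℕ,
      M = Nat.card {h : H // ConjClasses.mk h = ConjClasses.mk h₀} := ⟨_, rfl⟩
  rw [← hN, ← hM]
  have haM : M * a = Nat.card H := by
    have h1 := helper12.card_class_mul_card_centralizer h₀
    rw [← h1, hM, ha]
    congr 1
    apply Nat.card_congr
    exact Equiv.subtypeEquivRight (fun h => by rw [ConjClasses.mem_carrier_iff_mk_eq])
  have hL : ∀ ψ : IrrCharacter H, ∃ z : ℤ,
      ∑ g : G, (ψ : H → ℂ) (hd.rep g) = (Nat.card G : ℂ) * (z : ℂ) := by
    intro ψ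
    obtain ⟨z, hz⟩ := hd.hat_inner_one_int (irr_isCharacter ψ.2)
    refine ⟨z, ?_⟩
    rw [← hz]
    unfold classInner
    rw [← mul_assoc, mul_inv_cancel₀ hG0, one_mul]
    refine Finset.sum_congr rfl (fun g _ => ?_)
    simp [HallData.hat]
  choose z hz using hL
  have hkey : ((a * N : ℕ) : ℂ) = (Nat.card G : ℂ) *
      ∑ ψ : IrrCharacter H, conj ((ψ : H → ℂ) h₀) * (z ψ : ℂ) := by
    have h1 : ∀ g : G, ∑ ψ : IrrCharacter H, (ψ : H → ℂ) (hd.rep g) * conj ((ψ : H → ℂ) h₀) =
        if ConjClasses.mk (hd.rep g) = ConjClasses.mk h₀ then (a : ℂ) else 0 := by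
      intro g
      rw [irr_column_orthogonality, ha]
      by_cases hc : IsConj (hd.rep g) h₀
      · rw [if_pos hc, if_pos (ConjClasses.mk_eq_mk_iff_isConj.2 hc)]
      · rw [if_neg hc, if_neg (fun h => hc (ConjClasses.mk_eq_mk_iff_isConj.1 h))]
    have h2 : ∑ g : G, ∑ ψ : IrrCharacter H,
        (ψ : H → ℂ) (hd.rep g) * conj ((ψ : H → ℂ) h₀) = ((a * N : ℕ) : ℂ) := by
      rw [Finset.sum_congr rfl (fun g _ => h1 g), ← Finset.sum_filter, Finset.sum_const,
        nsmul_eq_mul, hN, Nat.card_eq_fintype_card, Fintype.card_subtype]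
      push_cast
      ring
    rw [← h2, Finset.sum_comm, Finset.mul_sum]
    refine Finset.sum_congr rfl (fun ψ _ => ?_)
    rw [← Finset.sum_mul, hz ψ]
    ring
  have hT : IsIntegral ℤ (∑ ψ : IrrCharacter H, conj ((ψ : H → ℂ) h₀) * (z ψ : ℂ)) := by
    apply IsIntegral.sum
    intro ψ _
    apply IsIntegral.mul
    · exact isIntegral_conj (helper23.irr_isIntegral ψ h₀)
    · exact isIntegral_intCast_complex _
  have hdvd : ((Nat.card G : ℕ) : ℤ) ∣ ((a * N : ℕ) : ℤ) := by
    apply helper23.int_dvd_of_eq_mul_isIntegral _ _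
      (by exact_mod_cast (Nat.card_pos (α := G)).ne') _ hT
    push_cast
    push_cast at hkey
    exact hkey
  have hdvd' : Nat.card G ∣ a * N := by exact_mod_cast hdvd
  rw [← H.card_mul_index, ← haM] at hdvd'
  have hapos : 0 < a := by rw [ha]; exact Nat.card_pos
  have h3 : a * (H.index * M) ∣ a * N := by
    have e1 : M * a * H.index = a * (H.index * M) := by ring
    rwa [e1] at hdvd'
  exact (Nat.mul_dvd_mul_iff_left hapos).1 h3

theorem HallData.cnt_pos (hd : HallData H e) (h₀ : H) :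
    0 < Nat.card {g : G // ConjClasses.mk (hd.rep g) = ConjClasses.mk h₀} := by
  haveI : Nonempty {g : G // ConjClasses.mk (hd.rep g) = ConjClasses.mk h₀} :=
    ⟨⟨(h₀ : G), by
      rw [ConjClasses.mk_eq_mk_iff_isConj]
      apply hd.rep_conj
      rw [hd.pow_coe]⟩⟩
  exact Nat.card_pos

theorem HallData.cnt_eq (hd : HallData H e) [Fintype H] (c : ConjClasses H) :
    Nat.card {g : G // ConjClasses.mk (hd.rep g) = c} =
      H.index * Nat.card {h : H // ConjClasses.mk h = c} := by
  classical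
  haveI := Fintype.ofFinite (ConjClasses H)
  have hle : ∀ c : ConjClasses H, H.index * Nat.card {h : H // ConjClasses.mk h = c} ≤
      Nat.card {g : G // ConjClasses.mk (hd.rep g) = c} := by
    intro c
    obtain ⟨h₀, rfl⟩ := ConjClasses.mk_surjective c
    exact Nat.le_of_dvd (hd.cnt_pos h₀) (hd.dvd_cnt h₀)
  have hsum : ∑ c : ConjClasses H, Nat.card {g : G // ConjClasses.mk (hd.rep g) = c} =
      ∑ c : ConjClasses H, H.index * Nat.card {h : H // ConjClasses.mk h = c} := by
    rw [card_fiber_sum (fun g : G => ConjClasses.mk (hd.rep g)), ← Finset.mul_sum,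
      card_fiber_sum (fun h : H => ConjClasses.mk h), mul_comm, H.card_mul_index]
  by_contra hne
  have hlt : H.index * Nat.card {h : H // ConjClasses.mk h = c} <
      Nat.card {g : G // ConjClasses.mk (hd.rep g) = c} := lt_of_le_of_ne (hle c) (Ne.symm hne)
  have h4 := Finset.sum_lt_sum (fun c _ => hle c) ⟨c, Finset.mem_univ c, hlt⟩
  rw [hsum] at h4
  exact lt_irrefl _ h4

theorem HallData.sum_rep (hd : HallData H e) [Fintype H] (F : H → ℂ) (hF : IsClassFunction H F) :
    ∑ g : G, F (hd.rep g) = (H.index : ℂ) * ∑ h : H, F h := by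
  classical
  haveI := Fintype.ofFinite (ConjClasses H)
  choose rp hrp using (ConjClasses.mk_surjective (α := H))
  have hFc : ∀ h : H, F h = F (rp (ConjClasses.mk h)) := by
    intro h
    apply (isClassFunction_iff_isConj.1 hF)
    rw [← ConjClasses.mk_eq_mk_iff_isConj, hrp]
  have h1 : ∑ g : G, F (hd.rep g) =
      ∑ g : G, F (rp (ConjClasses.mk (hd.rep g))) :=
    Finset.sum_congr rfl (fun g _ => hFc _)
  have h2 : ∑ h : H, F h = ∑ h : H, F (rp (ConjClasses.mk h)) :=
    Finset.sum_congr rfl (fun h _ => hFc _)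
  have e1 := sum_fiber (fun g : G => ConjClasses.mk (hd.rep g)) (fun c => F (rp c))
  have e2 := sum_fiber (fun h : H => ConjClasses.mk h) (fun c => F (rp c))
  beta_reduce at e1 e2
  rw [h1, h2, e1, e2, Finset.mul_sum]
  refine Finset.sum_congr rfl (fun c _ => ?_)
  rw [hd.cnt_eq c]
  push_cast
  ring

theorem HallData.hat_inner (hd : HallData H e) [Fintype H] {φ₁ φ₂ : H → ℂ}
    (h1 : IsClassFunction H φ₁) (h2 : IsClassFunction H φ₂) :
    classInner (hd.hat φ₁) (hd.hat φ₂) = classInner φ₁ φ₂ := by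
  have hF : IsClassFunction H (fun h => φ₁ h * conj (φ₂ h)) := by
    intro g k
    show φ₁ (k * g * k⁻¹) * conj (φ₂ (k * g * k⁻¹)) = _
    rw [h1 g k, h2 g k]
  have h3 := hd.sum_rep _ hF
  unfold classInner
  show (Nat.card G : ℂ)⁻¹ * ∑ g : G, φ₁ (hd.rep g) * conj (φ₂ (hd.rep g)) = _
  rw [h3, ← H.card_mul_index]
  have hH0 : (Nat.card H : ℂ) ≠ 0 := by exact_mod_cast (Nat.card_pos (α := H)).ne'
  have hi0 : (H.index : ℂ) ≠ 0 := by
    have : H.index ≠ 0 := Subgroup.index_ne_zero_of_finite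
    exact_mod_cast this
  push_cast
  field_simp

theorem HallData.hat_irr (hd : HallData H e) [Fintype H] (χ : IrrCharacter H) :
    IsIrrCharacter G (hd.hat (χ : H → ℂ)) := by
  have hχc := irr_isCharacter χ.2
  have hgen := hd.hat_isGeneralizedCharacter hχc
  have hcf := char_isClassFunction hχc
  have hnorm : classInner (hd.hat (χ : H → ℂ)) (hd.hat (χ : H → ℂ)) = 1 := by
    rw [hd.hat_inner hcf hcf]
    exact irr_classInner_self χ.2
  rcases helper8.virt_norm_one hgen hnorm with h | h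
  · exact h
  · exfalso
    have h1 : hd.hat (χ : H → ℂ) 1 = (χ : H → ℂ) 1 := by
      have h2 := hd.hat_coe hcf (1 : H)
      simpa using h2
    obtain ⟨n, hn0, hn⟩ := irr_apply_one χ.2
    obtain ⟨n', hn0', hn'⟩ := irr_apply_one h
    have h3 : (-hd.hat (χ : H → ℂ)) 1 = -(n : ℂ) := by
      show -(hd.hat (χ : H → ℂ) 1) = _
      rw [h1, hn]
    rw [h3] at hn'
    have h4 : ((n + n' : ℕ) : ℂ) = 0 := by
      push_cast
      rw [← hn']
      ring
    have h5 : n + n' = 0 := by exact_mod_cast h4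
    omega

theorem HallData.exists_complement (hd : HallData H e) :
    ∃ K : Subgroup G, K.Normal ∧ K ⊔ H = ⊤ ∧ K ⊓ H = ⊥ := by
  classical
  haveI := Fintype.ofFinite H
  haveI := Fintype.ofFinite (IrrCharacter H)
  have hch : ∀ χ : IrrCharacter H, IsCharacter G (hd.hat (χ : H → ℂ)) :=
    fun χ => irr_isCharacter (hd.hat_irr χ)
  obtain ⟨K, hK⟩ : ∃ K : Subgroup G, K = ⨅ χ : IrrCharacter H, charKer (hch χ) := ⟨_, rfl⟩
  have hKn : K.Normal := by
    rw [hK]
    exact Subgroup.normal_iInf_normal (fun χ => charKer_normal (hch χ))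
  have hmemK : ∀ g : G, g ∈ K ↔
      ∀ χ : IrrCharacter H, hd.hat (χ : H → ℂ) g = hd.hat (χ : H → ℂ) 1 := by
    intro g
    rw [hK, Subgroup.mem_iInf]
    exact forall_congr' (fun χ => mem_charKer (hch χ) g)
  have hhat1 : ∀ χ : IrrCharacter H, hd.hat (χ : H → ℂ) 1 = (χ : H → ℂ) 1 := by
    intro χ
    have h2 := hd.hat_coe (char_isClassFunction (irr_isCharacter χ.2)) (1 : H)
    simpa using h2
  have hdisj : K ⊓ H = ⊥ := by
    rw [eq_bot_iff]
    intro x hx
    rw [Subgroup.mem_inf] at hx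
    rw [Subgroup.mem_bot]
    have h1 : ∀ χ : IrrCharacter H, (χ : H → ℂ) ⟨x, hx.2⟩ = (χ : H → ℂ) 1 := by
      intro χ
      have h2 := (hmemK x).1 hx.1 χ
      rw [hhat1] at h2
      rw [← h2]
      exact (hd.hat_coe (char_isClassFunction (irr_isCharacter χ.2)) ⟨x, hx.2⟩).symm
    have h3 := irr_column_orthogonality (G := H) (⟨x, hx.2⟩ : H) 1
    have h4 := irr_column_orthogonality (G := H) (1 : H) 1
    rw [Finset.sum_congr rfl (fun χ _ => by rw [h1 χ])] at h3
    rw [h4, if_pos (IsConj.refl 1)] at h3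
    by_contra hx1
    have hnc : ¬ IsConj (⟨x, hx.2⟩ : H) 1 := by
      intro hc
      have h5 := isConj_one_left.1 hc
      exact hx1 (congrArg Subtype.val h5)
    rw [if_neg hnc] at h3
    have h6 : (Nat.card (Subgroup.centralizer ({(1 : H)} : Set H)) : ℂ) ≠ 0 := by
      exact_mod_cast (Nat.card_pos (α := Subgroup.centralizer ({(1 : H)} : Set H))).ne'
    exact h6 h3
  have hsub : ∀ g : G, ConjClasses.mk (hd.rep g) = ConjClasses.mk (1 : H) → g ∈ K := by
    intro g hg
    rw [hmemK]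
    intro χ
    rw [hhat1]
    show (χ : H → ℂ) (hd.rep g) = _
    apply (isClassFunction_iff_isConj.1 (char_isClassFunction (irr_isCharacter χ.2)))
    exact ConjClasses.mk_eq_mk_iff_isConj.1 hg
  have hcardK : H.index ≤ Nat.card K := by
    have h1 := hd.cnt_eq (ConjClasses.mk (1 : H))
    have h2 : Nat.card {h : H // ConjClasses.mk h = ConjClasses.mk (1 : H)} = 1 := by
      haveI : Unique {h : H // ConjClasses.mk h = ConjClasses.mk (1 : H)} :=
        { default := ⟨1, rfl⟩
          uniq := fun a => Subtype.ext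
            (isConj_one_left.1 (ConjClasses.mk_eq_mk_iff_isConj.1 a.2)) }
      exact Nat.card_unique
    rw [h2, mul_one] at h1
    rw [← h1]
    exact Nat.card_le_card_of_injective
      (fun g : {g : G // ConjClasses.mk (hd.rep g) = ConjClasses.mk (1 : H)} =>
        (⟨g.1, hsub g.1 g.2⟩ : K))
      (fun a b hab => Subtype.ext (congrArg (fun k : K => (k : G)) hab))
  have hcard : Nat.card K * Nat.card H = Nat.card G := by
    apply le_antisymm
    · have hinj := Subgroup.mul_injective_of_disjoint (disjoint_iff.2 hdisj)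
      have h7 := Nat.card_le_card_of_injective _ hinj
      rwa [Nat.card_prod] at h7
    · rw [← H.card_mul_index, mul_comm]
      exact Nat.mul_le_mul_right _ hcardK
  have hcompl : Subgroup.IsComplement' K H :=
    Subgroup.isComplement'_of_card_mul_and_disjoint hcard (disjoint_iff.2 hdisj)
  exact ⟨K, hKn, hcompl.sup_eq_top, hdisj⟩

end Count

/-- Let H be a subgroup of the finite group G whose order is coprime to its index. Suppose that elements of H conjugate in G are conjugate in H, and that every subgroup E of G that is elementary for some prime (in the sense used for Brauer's characterisation of characters) and whose order divides the order of H is conjugate to a subgroup of H. Then there is a normal subgroup K with K ⊔ H = ⊤ and K ⊓ H trivial. -/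
theorem result {G : Type*} [Group G] [Finite G] (H : Subgroup G) (hHall : Nat.Coprime (Nat.card H) H.index) (hfus : ∀ x ∈ H, ∀ y ∈ H, IsConj x y → ∃ h ∈ H, h * x * h⁻¹ = y) (helem : ∀ (E : Subgroup G) (p : ℕ), p.Prime → Cfsg.IsElementary p E → Nat.card E ∣ Nat.card H → ∃ g : G, E.map (MulAut.conj g).toMonoidHom ≤ H) : ∃ K : Subgroup G, K.Normal ∧ K ⊔ H = ⊤ ∧ K ⊓ H = ⊥ := by
  classical
  haveI := Fintype.ofFinite G
  obtain ⟨e, he1, he0⟩ : ∃ e : ℕ, e ≡ 1 [MOD Nat.card H] ∧ e ≡ 0 [MOD H.index] :=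
    ⟨_, (Nat.chineseRemainder hHall 1 0).2⟩
  have hd : HallData H e := ⟨hHall, hfus, helem, he1, he0⟩
  exact hd.exists_complement

end Cfsg.Agent.S0877
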