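import Mathlib
import Cfsg.Statements.S0878
import Cfsg.Agent.Lib_helper18_Derangement

set_option autoImplicit false
open Cfsg

namespace Cfsg.Agent.S0878

open MulAction

/-- The action of the stabilizer of `a` on the other points. -/
@[reducible] def stabAction {G Ω : Type*} [Group G] [MulAction G Ω] (a : Ω) :
    MulAction (stabilizer G a) {c : Ω // c ≠ a} where
  smul := fun s c => ⟨(s : G) • c.1, fun h => c.2 (by
    have hs : (s : G) • a = a := s.2
    have : (s : G) • c.1 = (s : G) • a := by rw [h, hs]
    exact smul_left_cancel _ this)⟩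
  one_smul := fun c => by
    apply Subtype.ext
    change ((1 : stabilizer G a) : G) • c.1 = c.1
    simp
  mul_smul := fun s t c => by
    apply Subtype.ext
    change ((s * t : stabilizer G a) : G) • c.1 = (s : G) • ((t : G) • c.1)
    rw [Subgroup.coe_mul, mul_smul]

/-- Core counting: every element of the stabilizer outside `H` fixes a second point. -/
theorem exists_fixed_of_not_mem {G Ω : Type*} [Group G] [Finite G] [MulAction G Ω] [Fintype Ω]
    (h2 : ∀ {a b c d : Ω}, a ≠ b → c ≠ d → ∃ g : G, g • a = c ∧ g • b = d)
    (h3 : ∀ g : G, ∀ a b c : Ω, a ≠ b → b ≠ c → a ≠ c → g • a = a → g • b = b → g • c = c → g = 1)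
    (a : Ω) (H : Subgroup G) (hHa : H ≤ stabilizer G a)
    (hHcard : Nat.card H + 1 = Fintype.card Ω)
    (hHfix : ∀ u ∈ H, u ≠ 1 → ∀ c : Ω, u • c = c → c = a)
    (s : G) (hs : s ∈ stabilizer G a) (hsH : s ∉ H) : ∃ c : Ω, c ≠ a ∧ s • c = c := by
  classical
  let S := stabilizer G a
  let X := {c : Ω // c ≠ a}
  letI : MulAction S X := stabAction a
  haveI : Fintype G := Fintype.ofFinite G
  haveI : Fintype S := Fintype.ofFinite S
  have hsmul : ∀ (t : S) (c : X), ((t • c : X) : Ω) = (t : G) • (c : Ω) := fun _ _ => rfl
  -- card X
  have hX : Nat.card X + 1 = Fintype.card Ω := by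
    rw [Nat.card_eq_fintype_card, Fintype.card_subtype_compl, Fintype.card_subtype_eq]
    have : 0 < Fintype.card Ω := Fintype.card_pos_iff.mpr ⟨a⟩
    omega
  -- X nonempty: since s ∉ H, and ... we get X nonempty from cardinalities
  by_contra hcon
  push Not at hcon
  -- transitivity
  have htrans : ∀ c d : X, ∃ t : S, t • c = d := by
    intro c d
    obtain ⟨g, hga, hgc⟩ := h2 (Ne.symm c.2) (Ne.symm d.2)
    exact ⟨⟨g, hga⟩, Subtype.ext hgc⟩
  have horb : Nat.card (orbitRel.Quotient S X) ≤ 1 := by
    apply Finite.card_le_one_iff_subsingleton.mpr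
    constructor
    intro q1 q2
    induction q1 using Quotient.inductionOn' with | _ c => ?_
    induction q2 using Quotient.inductionOn' with | _ d => ?_
    apply Quotient.sound'
    obtain ⟨t, ht⟩ := htrans d c
    exact ⟨t, ht⟩
  have hburn := Cfsg.Agent.helper18.burnside_natCard S X
  -- bound each term
  let H' : Subgroup S := H.subgroupOf S
  let gbound : S → ℕ := fun t => if t = 1 then Nat.card X else if t ∈ H' then 0 else 1
  have hle : ∀ t : S, Nat.card (fixedBy X t) ≤ gbound t := by
    intro t
    by_cases h1 : t = 1
    · simp only [gbound, if_pos h1]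
      exact Nat.card_le_card_of_injective _ Subtype.val_injective
    · simp only [gbound, if_neg h1]
      have ht1 : (t : G) ≠ 1 := fun h => h1 (Subtype.ext h)
      by_cases hH : t ∈ H'
      · rw [if_pos hH]
        have : IsEmpty (fixedBy X t) := by
          constructor
          rintro ⟨c, hc⟩
          have hc' : (t : G) • (c : Ω) = c := by
            have := congrArg Subtype.val hc
            rwa [hsmul] at this
          exact c.2 (hHfix _ (Subgroup.mem_subgroupOf.mp hH) ht1 _ hc')
        simp
      · rw [if_neg hH]
        apply Finite.card_le_one_iff_subsingleton.mpr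
        constructor
        rintro ⟨c, hc⟩ ⟨d, hd⟩
        apply Subtype.ext
        by_contra hne
        have hc' : (t : G) • (c : Ω) = c := by
          have := congrArg Subtype.val hc
          rwa [hsmul] at this
        have hd' : (t : G) • (d : Ω) = d := by
          have := congrArg Subtype.val hd
          rwa [hsmul] at this
        have hne' : (c : Ω) ≠ d := fun h => hne (Subtype.ext h)
        exact ht1 (h3 _ a c d (Ne.symm c.2) hne' (Ne.symm d.2) t.2 hc' hd')
  have hlt : ∃ t ∈ (Finset.univ : Finset S), Nat.card (fixedBy X t) < gbound t := by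
    refine ⟨⟨s, hs⟩, Finset.mem_univ _, ?_⟩
    have h1 : (⟨s, hs⟩ : S) ≠ 1 := by
      intro h
      apply hsH
      have : s = 1 := congrArg Subtype.val h
      rw [this]; exact H.one_mem
    have hH : (⟨s, hs⟩ : S) ∉ H' := fun h => hsH (Subgroup.mem_subgroupOf.mp h)
    simp only [gbound, if_neg h1, if_neg hH]
    have : IsEmpty (fixedBy X (⟨s, hs⟩ : S)) := by
      constructor
      rintro ⟨c, hc⟩
      have hc' : s • (c : Ω) = c := by
        have := congrArg Subtype.val hc
        rwa [hsmul] at this
      exact hcon c c.2 hc'
    simp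
  have hsum_lt := Finset.sum_lt_sum (fun t _ => hle t) hlt
  -- compute the sum of the bound
  have hsumg : ∑ t : S, gbound t = Nat.card X + (Finset.univ.filter (fun t : S => t ∉ H')).card := by
    have e : ∀ t : S, gbound t = (if t = 1 then Nat.card X else 0) + (if t ∉ H' then 1 else 0) := by
      intro t
      by_cases h1 : t = 1
      · have : t ∈ H' := h1 ▸ H'.one_mem
        simp [gbound, h1, H'.one_mem]
      · by_cases hH : t ∈ H' <;> simp [gbound, h1, hH]
    rw [Finset.sum_congr rfl (fun t _ => e t), Finset.sum_add_distrib, Finset.sum_ite_eq' ,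
      if_pos (Finset.mem_univ _), Finset.card_filter]
  have hcf := Cfsg.Agent.helper18.card_filter_not_mem H'
  have hH'card : Nat.card H' = Nat.card H :=
    Nat.card_congr (Subgroup.subgroupOfEquivOfLe hHa).toEquiv
  rw [hburn, hsumg] at hsum_lt
  have : Nat.card (orbitRel.Quotient S X) * Nat.card S ≤ Nat.card S := by
    calc Nat.card (orbitRel.Quotient S X) * Nat.card S ≤ 1 * Nat.card S :=
          Nat.mul_le_mul_right _ horb
      _ = Nat.card S := one_mul _
  -- need: orbits ≥ 1 (X nonempty)  -- derive from numbers
  have hXpos : 0 < Nat.card X := by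
    by_contra h0
    have h0' : Nat.card X = 0 := by omega
    have : Nat.card H = 0 := by omega
    exact (Nat.card_pos (α := H)).ne' this
  have horb1 : 1 ≤ Nat.card (orbitRel.Quotient S X) := by
    have : Nonempty X := (Nat.card_pos_iff.mp hXpos).1
    have : Nonempty (orbitRel.Quotient S X) := Nonempty.map (Quotient.mk'') this
    exact Nat.card_pos
  have h5 : Nat.card (orbitRel.Quotient S X) * Nat.card S = Nat.card S := by
    have : Nat.card (orbitRel.Quotient S X) = 1 := le_antisymm horb horb1
    rw [this, one_mul]
  rw [h5] at hsum_lt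
  omega

/-- Let G be a Zassenhaus group on the finite set Ω, a a point, and let H be the subgroup of the stabilizer of a consisting of the identity and the elements fixing no point other than a (given here as a subgroup of the stabilizer of order one less than the number of points whose non-identity elements fix only a; it is the Frobenius kernel of the stabilizer). Then an element outside the stabilizer of a conjugates no non-identity element of H into H, and the normalizer of H is exactly the stabilizer of a. -/
theorem result {G Ω : Type*} [Group G] [Finite G] [MulAction G Ω] [Fintype Ω] (hZ : Cfsg.IsZassenhausGroup G Ω) (a : Ω) (H : Subgroup G) (hHa : H ≤ MulAction.stabilizer G a) (hHcard : Nat.card H + 1 = Fintype.card Ω) (hHfix : ∀ u ∈ H, u ≠ 1 → ∀ c : Ω, u • c = c → c = a) : (∀ g : G, g ∉ MulAction.stabilizer G a → ∀ u ∈ H, g * u * g⁻¹ ∈ H → u = 1) ∧ Subgroup.normalizer (H : Set G) = MulAction.stabilizer G a := by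
  classical
  obtain ⟨hfaith, h2t, h3, ⟨g₀, hg₀, a', b', hab', hga', hgb'⟩, _⟩ := hZ
  have h2 : ∀ {a b c d : Ω}, a ≠ b → c ≠ d → ∃ g : G, g • a = c ∧ g • b = d :=
    fun {a b c d} hab hcd => MulAction.is_two_pretransitive_iff.mp h2t hab hcd
  have part1 : ∀ g : G, g ∉ MulAction.stabilizer G a → ∀ u ∈ H, g * u * g⁻¹ ∈ H → u = 1 := by
    intro g hg u hu hconj
    by_contra hu1
    apply hg
    have hne : g * u * g⁻¹ ≠ 1 := by
      intro h
      apply hu1
      have : u = g⁻¹ * (g * u * g⁻¹) * g := by group
      rw [this, h]; group
    have hfix : (g * u * g⁻¹) • (g • a) = g • a := by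
      have hua : u • a = a := hHa hu
      rw [mul_smul, mul_smul, inv_smul_smul, hua]
    exact hHfix _ hconj hne _ hfix
  refine ⟨part1, ?_⟩
  apply le_antisymm
  · intro g hg
    by_contra hgS
    -- H is trivial
    have htriv : ∀ u ∈ H, u = 1 := by
      intro u hu
      apply part1 g hgS u hu
      exact (Subgroup.mem_normalizer_iff.mp hg u).mp hu
    have hcard1 : Nat.card H = 1 := by
      have : Subsingleton H := ⟨fun x y => Subtype.ext ((htriv x x.2).trans (htriv y y.2).symm)⟩
      exact Nat.card_unique
    have hn2 : Fintype.card Ω = 2 := by omega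
    -- g₀ fixes everything
    apply hg₀
    apply hfaith.eq_of_smul_eq_smul
    intro c
    rw [one_smul]
    by_cases hca : c = a'
    · rw [hca, hga']
    by_cases hcb : c = b'
    · rw [hcb, hgb']
    exfalso
    have : ({a', b', c} : Finset Ω).card ≤ Fintype.card Ω := Finset.card_le_univ _
    rw [Finset.card_insert_of_notMem, Finset.card_insert_of_notMem, Finset.card_singleton] at this
    · omega
    · simpa using Ne.symm hcb
    · simp only [Finset.mem_insert, Finset.mem_singleton, not_or]
      exact ⟨hab', Ne.symm hca⟩
  · -- the stabilizer normalizes H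
    have hK : ∀ s : G, s ∈ MulAction.stabilizer G a → (∀ c : Ω, s • c = c → c = a) → s ∈ H := by
      intro s hs hfix
      by_contra hsH
      obtain ⟨c, hca, hc⟩ := exists_fixed_of_not_mem h2 h3 a H hHa hHcard hHfix s hs hsH
      exact hca (hfix c hc)
    intro s hs
    apply Subgroup.mem_normalizer_fintype
    intro u hu
    by_cases hu1 : u = 1
    · rw [hu1]
      simp only [mul_one, mul_inv_cancel]
      exact H.one_mem
    · apply hK
      · exact (MulAction.stabilizer G a).mul_mem ((MulAction.stabilizer G a).mul_mem hs (hHa hu))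
          ((MulAction.stabilizer G a).inv_mem hs)
      · intro c hc
        have h1 : u • (s⁻¹ • c) = s⁻¹ • c := by
          have := congrArg (fun z => s⁻¹ • z) hc
          simp only [mul_smul, inv_smul_smul] at this
          exact this
        have h2' := hHfix u hu hu1 _ h1
        have hsa : s • a = a := hs
        rw [← hsa, ← h2', smul_inv_smul]

end Cfsg.Agent.S0878
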