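import Mathlib
import Cfsg.Statements.S0879

set_option autoImplicit false
open Cfsg

namespace Cfsg.Agent.S0879

open MulAction

theorem mem_E {G Ω : Type*} [Group G] [MulAction G Ω] (a b : Ω) (x : G) :
    x ∈ (stabilizer G a ⊓ stabilizer G b : Subgroup G) ↔ x • a = a ∧ x • b = b := by
  rw [Subgroup.mem_inf, mem_stabilizer_iff, mem_stabilizer_iff]

theorem keyA {G Ω : Type*} [Group G] [MulAction G Ω]
    (h3 : ∀ g : G, ∀ a b c : Ω, a ≠ b → b ≠ c → a ≠ c → g • a = a → g • b = b → g • c = c → g = 1)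
    {a b : Ω} (hab : a ≠ b) (g x : G) (hx : x • a = a ∧ x • b = b) (hx1 : x ≠ 1)
    (hy : (g * x * g⁻¹) • a = a ∧ (g * x * g⁻¹) • b = b) :
    (g • a = a ∧ g • b = b) ∨ (g • a = b ∧ g • b = a) := by
  have hy1 : g * x * g⁻¹ ≠ 1 := by
    intro h
    apply hx1
    have : x = g⁻¹ * (g * x * g⁻¹) * g := by group
    rw [this, h]; group
  have hfa : (g * x * g⁻¹) • (g • a) = g • a := by
    rw [mul_smul, mul_smul, inv_smul_smul, hx.1]
  have hfb : (g * x * g⁻¹) • (g • b) = g • b := by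
    rw [mul_smul, mul_smul, inv_smul_smul, hx.2]
  have hga : g • a = a ∨ g • a = b := by
    by_contra hcon
    push Not at hcon
    exact hy1 (h3 _ a b (g • a) hab (Ne.symm hcon.2) (Ne.symm hcon.1) hy.1 hy.2 hfa)
  have hgb : g • b = a ∨ g • b = b := by
    by_contra hcon
    push Not at hcon
    exact hy1 (h3 _ a b (g • b) hab (Ne.symm hcon.2) (Ne.symm hcon.1) hy.1 hy.2 hfb)
  have hne : g • a ≠ g • b := fun h => hab (smul_left_cancel g h)
  rcases hga with h1 | h1 <;> rcases hgb with h2 | h2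
  · exact absurd (h1.trans h2.symm) hne
  · exact Or.inl ⟨h1, h2⟩
  · exact Or.inr ⟨h1, h2⟩
  · exact absurd (h1.trans h2.symm) hne

theorem keyB {G Ω : Type*} [Group G] [Finite G] [MulAction G Ω] {a b : Ω} (g : G)
    (hg : (g • a = a ∧ g • b = b) ∨ (g • a = b ∧ g • b = a)) :
    g ∈ Subgroup.normalizer ((stabilizer G a ⊓ stabilizer G b : Subgroup G) : Set G) := by
  apply Subgroup.mem_normalizer_fintype
  intro y hy
  have hy' := (mem_E a b y).mp hy
  change g * y * g⁻¹ ∈ (stabilizer G a ⊓ stabilizer G b : Subgroup G)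
  rw [mem_E]
  rcases hg with ⟨h1, h2⟩ | ⟨h1, h2⟩
  · have h1' : g⁻¹ • a = a := by rw [inv_smul_eq_iff, h1]
    have h2' : g⁻¹ • b = b := by rw [inv_smul_eq_iff, h2]
    constructor
    · rw [mul_smul, mul_smul, h1', hy'.1, h1]
    · rw [mul_smul, mul_smul, h2', hy'.2, h2]
  · have h1' : g⁻¹ • b = a := by rw [inv_smul_eq_iff, h1]
    have h2' : g⁻¹ • a = b := by rw [inv_smul_eq_iff, h2]
    constructor
    · rw [mul_smul, mul_smul, h2', hy'.2, h2]
    · rw [mul_smul, mul_smul, h1', hy'.1, h1]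

/-- Let G be a Zassenhaus group on the finite set Ω and E the stabilizer of two distinct points a, b. Then an element outside the normalizer of E conjugates no non-identity element of E into E, and E has index 2 in its normalizer. -/
theorem result {G Ω : Type*} [Group G] [Finite G] [MulAction G Ω] [Fintype Ω] (hZ : Cfsg.IsZassenhausGroup G Ω) {a b : Ω} (hab : a ≠ b) : (∀ g : G, g ∉ Subgroup.normalizer ((MulAction.stabilizer G a ⊓ MulAction.stabilizer G b : Subgroup G) : Set G) → ∀ x ∈ (MulAction.stabilizer G a ⊓ MulAction.stabilizer G b : Subgroup G), g * x * g⁻¹ ∈ (MulAction.stabilizer G a ⊓ MulAction.stabilizer G b : Subgroup G) → x = 1) ∧ ((MulAction.stabilizer G a ⊓ MulAction.stabilizer G b : Subgroup G).subgroupOf (Subgroup.normalizer ((MulAction.stabilizer G a ⊓ MulAction.stabilizer G b : Subgroup G) : Set G))).index = 2 := by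
  classical
  obtain ⟨hfaith, h2t, h3, ⟨g₀, hg₀, a', b', hab', hga', hgb'⟩, _⟩ := hZ
  have h2 : ∀ {a b c d : Ω}, a ≠ b → c ≠ d → ∃ g : G, g • a = c ∧ g • b = d :=
    fun {a b c d} hab hcd => MulAction.is_two_pretransitive_iff.mp h2t hab hcd
  constructor
  · intro g hg x hx hconj
    by_contra hx1
    exact hg (keyB g (keyA h3 hab g x ((mem_E a b x).mp hx) hx1 ((mem_E a b _).mp hconj)))
  · -- a non-identity element of E
    obtain ⟨h, hha, hhb⟩ := h2 hab' hab
    set x₀ : G := h * g₀ * h⁻¹ with hx₀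
    have hx₀E : x₀ • a = a ∧ x₀ • b = b := by
      have h1' : h⁻¹ • a = a' := by rw [inv_smul_eq_iff, hha]
      have h2' : h⁻¹ • b = b' := by rw [inv_smul_eq_iff, hhb]
      constructor
      · rw [hx₀, mul_smul, mul_smul, h1', hga', hha]
      · rw [hx₀, mul_smul, mul_smul, h2', hgb', hhb]
    have hx₀1 : x₀ ≠ 1 := by
      intro h1
      apply hg₀
      have : g₀ = h⁻¹ * x₀ * h := by rw [hx₀]; group
      rw [this, h1]; group
    -- the swapper
    obtain ⟨w, hwa, hwb⟩ := h2 hab (Ne.symm hab)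
    have hwN : w ∈ Subgroup.normalizer
        ((MulAction.stabilizer G a ⊓ MulAction.stabilizer G b : Subgroup G) : Set G) :=
      keyB w (Or.inr ⟨hwa, hwb⟩)
    rw [Subgroup.index_eq_two_iff]
    refine ⟨⟨w, hwN⟩, ?_⟩
    intro n
    have hn : (n.1 • a = a ∧ n.1 • b = b) ∨ (n.1 • a = b ∧ n.1 • b = a) := by
      apply keyA h3 hab n.1 x₀ hx₀E hx₀1
      rw [← mem_E]
      exact (Subgroup.mem_normalizer_iff.mp n.2 x₀).mp ((mem_E a b x₀).mpr hx₀E)
    rw [Subgroup.mem_subgroupOf, Subgroup.mem_subgroupOf, mem_E, mem_E]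
    change Xor ((n.1 * w) • a = a ∧ (n.1 * w) • b = b) _
    rw [mul_smul, mul_smul, hwa, hwb]
    rcases hn with ⟨h1, h2'⟩ | ⟨h1, h2'⟩
    · right
      refine ⟨⟨h1, h2'⟩, ?_⟩
      rintro ⟨h3', _⟩
      exact hab (h3'.symm.trans h2')
    · left
      refine ⟨⟨h2', h1⟩, ?_⟩
      rintro ⟨h3', _⟩
      exact hab (h3'.symm.trans h1)

end Cfsg.Agent.S0879
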