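import Cfsg.Statements.S0880
import Cfsg.Agent.Lib_helper11_ZCount

set_option autoImplicit false
open Cfsg

namespace Cfsg.Agent.S0880

open MulAction

/-- Let G be a finite simple Zassenhaus group on Ω with n points whose two-point stabilizer E has odd order less than n - 2. Then there are two elements of G, each fixing no point of Ω, that are not conjugate. -/
theorem result {G Ω : Type*} [Group G] [Finite G] [MulAction G Ω] [Fintype Ω] (hZ : Cfsg.IsZassenhausGroup G Ω) {a b : Ω} (hab : a ≠ b) [IsSimpleGroup G] (hodd : Odd (Nat.card ↥(MulAction.stabilizer G a ⊓ MulAction.stabilizer G b : Subgroup G))) (hlt : Nat.card ↥(MulAction.stabilizer G a ⊓ MulAction.stabilizer G b : Subgroup G) < Fintype.card Ω - 2) : ∃ x y : G, (∀ c : Ω, x • c ≠ c) ∧ (∀ c : Ω, y • c ≠ c) ∧ ¬ IsConj x y := by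
  classical
  obtain ⟨hfaith, h2t, h3, ⟨g₀, hg₀1, c₀, d₀, hcd₀, hg₀c, hg₀d⟩, -⟩ := hZ
  haveI : Fintype G := Fintype.ofFinite G
  haveI : IsPretransitive G Ω := isPretransitive_of_is_two_pretransitive
  haveI : Nonempty Ω := ⟨a⟩
  have h2t' : ∀ {a b c d : Ω}, a ≠ b → c ≠ d → ∃ g : G, g • a = c ∧ g • b = d :=
    is_two_pretransitive_iff.mp h2t
  by_contra hcon
  push_neg at hcon
  obtain ⟨n, hn⟩ : ∃ n, n = Fintype.card Ω := ⟨_, rfl⟩
  obtain ⟨e, he⟩ : ∃ e, e = Nat.card ↥(stabilizer G a ⊓ stabilizer G b : Subgroup G) := ⟨_, rfl⟩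
  rw [← he] at hodd hlt
  rw [← hn] at hlt
  obtain ⟨fx, hfx⟩ : ∃ fx : G → ℕ, fx = fun g => Nat.card (fixedBy Ω g) := ⟨_, rfl⟩
  have hfxg : ∀ g, fx g = Nat.card (fixedBy Ω g) := fun g => by rw [hfx]
  -- Burnside
  have hB1 : ∑ g : G, fx g = Nat.card G := by
    have := helper18.burnside_natCard G Ω
    rw [helper11.ZCount.card_orbits_one, one_mul] at this
    rw [← this]
    exact Finset.sum_congr rfl (fun g _ => hfxg g)
  have hB2 : ∑ g : G, fx g * fx g = 2 * Nat.card G := by
    have := helper18.burnside_natCard G (Ω × Ω)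
    rw [helper11.ZCount.card_orbits_prod h2t hab] at this
    rw [← this]
    apply Finset.sum_congr rfl
    intro g _
    rw [helper18.card_fixedBy_prod, hfxg]
  have hfx1 : fx 1 = n := by
    rw [hfxg, fixedBy_one_eq_univ, Nat.card_coe_set_eq, Set.ncard_univ, Nat.card_eq_fintype_card, hn]
  have hfxle : ∀ g : G, g ≠ 1 → fx g ≤ 2 := by
    intro g hg
    by_contra hlt'
    push_neg at hlt'
    rw [hfxg, Nat.card_eq_fintype_card, Fintype.two_lt_card_iff] at hlt'
    obtain ⟨x, y, z, hxy, hxz, hyz⟩ := hlt'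
    apply hg
    refine h3 g x y z ?_ ?_ ?_ x.2 y.2 z.2
    · exact fun h => hxy (Subtype.ext h)
    · exact fun h => hyz (Subtype.ext h)
    · exact fun h => hxz (Subtype.ext h)
  -- the order
  have hcard : Nat.card G = e * (n * n - n) := by
    rw [he, hn]
    exact helper11.ZCount.card_eq h2t hab
  -- e ≥ 3
  have he3 : 3 ≤ e := by
    have hne : (stabilizer G a ⊓ stabilizer G b : Subgroup G) ≠ ⊥ := by
      obtain ⟨g, hg1, hg2⟩ := h2t' hcd₀ hab
      intro hbot
      apply hg₀1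
      have hmem : g * g₀ * g⁻¹ ∈ (stabilizer G a ⊓ stabilizer G b : Subgroup G) := by
        rw [Subgroup.mem_inf, mem_stabilizer_iff, mem_stabilizer_iff]
        constructor
        · rw [← hg1, mul_smul, mul_smul, inv_smul_smul, hg₀c]
        · rw [← hg2, mul_smul, mul_smul, inv_smul_smul, hg₀d]
      rw [hbot, Subgroup.mem_bot] at hmem
      have e1 : g₀ = g⁻¹ * (g * g₀ * g⁻¹) * g := by group
      rw [e1, hmem]; group
    have h1 : 1 < e := by
      rw [he]
      exact (Subgroup.one_lt_card_iff_ne_bot _).mpr hne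
    obtain ⟨k, hk⟩ := hodd
    omega
  have hn3 : 3 ≤ n := by omega
  -- split the sums
  obtain ⟨S, hS⟩ : ∃ S : Finset G, S = Finset.univ.erase 1 := ⟨_, rfl⟩
  have hSle : ∀ g ∈ S, fx g ≤ 2 := by
    intro g hg
    rw [hS] at hg
    exact hfxle g (Finset.ne_of_mem_erase hg)
  have hsplit : ∀ φ : ℕ → ℕ, ∑ g : G, φ (fx g) = φ n + ∑ g ∈ S, φ (fx g) := by
    intro φ
    rw [hS, ← Finset.add_sum_erase Finset.univ (fun g => φ (fx g)) (Finset.mem_univ (1 : G)), hfx1]
  obtain ⟨N0, hN0⟩ : ∃ N0, N0 = (S.filter (fun g => fx g = 0)).card := ⟨_, rfl⟩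
  obtain ⟨N1, hN1⟩ : ∃ N1, N1 = (S.filter (fun g => fx g = 1)).card := ⟨_, rfl⟩
  obtain ⟨N2, hN2⟩ : ∃ N2, N2 = (S.filter (fun g => fx g = 2)).card := ⟨_, rfl⟩
  have hE1 : n + (N1 + 2 * N2) = Nat.card G := by
    have h := hsplit (fun x => x)
    rw [hB1, helper11.ZCount.sum_fiber S fx hSle (fun x => x), ← hN0, ← hN1, ← hN2] at h
    omega
  have hE2 : n * n + (N1 + 4 * N2) = 2 * Nat.card G := by
    have h := hsplit (fun x => x * x)
    rw [hB2, helper11.ZCount.sum_fiber S fx hSle (fun x => x * x), ← hN0, ← hN1, ← hN2] at h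
    omega
  have hE3 : 1 + (N0 + N1 + N2) = Nat.card G := by
    have h := hsplit (fun _ => 1)
    rw [helper11.ZCount.sum_fiber S fx hSle (fun _ => 1), ← hN0, ← hN1, ← hN2] at h
    simp only [Finset.sum_const, Finset.card_univ, smul_eq_mul, mul_one] at h
    rw [Nat.card_eq_fintype_card]
    omega
  -- arithmetic facts
  obtain ⟨P, hP⟩ : ∃ P, P = n * n := ⟨_, rfl⟩
  have hP3 : 3 * n ≤ P := by rw [hP]; nlinarith
  have hG3 : 3 * (P - n) ≤ Nat.card G := by
    rw [hcard, ← hP]
    exact Nat.mul_le_mul_right _ he3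
  rw [← hP] at hE2
  have hN0pos : 0 < N0 := by omega
  -- the fixed-point-free elements form one class
  have hfpf : ∀ g : G, fx g = 0 ↔ ∀ c : Ω, g • c ≠ c := by
    intro g
    rw [hfxg, Nat.card_eq_zero]
    constructor
    · rintro (h | h)
      · intro c hc
        exact h.false ⟨c, hc⟩
      · exact absurd h (not_infinite_iff_finite.mpr inferInstance)
    · intro h
      left
      constructor
      rintro ⟨c, hc⟩
      exact h c hc
  have hne0 : (S.filter (fun g => fx g = 0)).Nonempty := by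
    rw [← Finset.card_pos, ← hN0]; exact hN0pos
  obtain ⟨x₀, hx₀⟩ := hne0
  have hx₀0 : fx x₀ = 0 := (Finset.mem_filter.mp hx₀).2
  have hclass : (orbit (ConjAct G) x₀ : Set G) = ((S.filter (fun g => fx g = 0) : Finset G) : Set G) := by
    ext g
    rw [ConjAct.mem_orbit_conjAct, Finset.mem_coe, Finset.mem_filter]
    constructor
    · intro hc
      have hg0 : fx g = 0 := by
        rw [hfpf]
        obtain ⟨c, hc'⟩ := isConj_iff.mp hc.symm
        intro w hw
        have := (hfpf x₀).mp hx₀0 (c⁻¹ • w)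
        apply this
        have e1 : x₀ = c⁻¹ * g * c := by rw [← hc']; group
        rw [e1, mul_smul, mul_smul, smul_inv_smul, hw]
      refine ⟨?_, hg0⟩
      rw [hS, Finset.mem_erase]
      refine ⟨?_, Finset.mem_univ _⟩
      rintro rfl
      rw [hfx1] at hg0
      omega
    · rintro ⟨-, hg0⟩
      exact hcon g x₀ ((hfpf g).mp hg0) ((hfpf x₀).mp hx₀0)
  have hdvd : N0 ∣ Nat.card G := by
    have h1 := MulAction.index_stabilizer (ConjAct G) x₀
    rw [hclass, Set.ncard_coe_finset, ← hN0] at h1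
    rw [← h1]
    exact Subgroup.index_dvd_card _
  -- final arithmetic
  have h2N0 : 2 * N0 + (P + 2 - 3 * n) = Nat.card G := by omega
  have hdvd2 : N0 ∣ (P + 2 - 3 * n) := by
    have : N0 ∣ 2 * N0 + (P + 2 - 3 * n) := by rw [h2N0]; exact hdvd
    exact (Nat.dvd_add_right (dvd_mul_left N0 2)).mp this
  have hle := Nat.le_of_dvd (by omega) hdvd2
  omega

end Cfsg.Agent.S0880
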