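import Cfsg.Statements.S0881
import Cfsg.Agent.Lib_helper11_ZInd

set_option autoImplicit false
open Cfsg

namespace Cfsg.Agent.S0881

/-- Let G be a finite simple Zassenhaus group on Ω with n points, a ≠ b points with two-point stabilizer E of odd order less than n - 2, and let H be the subgroup of the stabilizer of a consisting of the identity and the elements fixing no point other than a (given here as a subgroup of the stabilizer of order one less than the number of points whose non-identity elements fix only a; it is the Frobenius kernel of the stabilizer). Let μ be a character of degree 1 of the stabilizer of a that is identically 1 on H but not identically 1. Then the function induced from μ to G is an irreducible character of G, and it takes the value 1 at every non-identity element of H. -/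
theorem result {G Ω : Type*} [Group G] [Fintype G] [MulAction G Ω] [Fintype Ω] (hZ : Cfsg.IsZassenhausGroup G Ω) {a b : Ω} (hab : a ≠ b) [IsSimpleGroup G] (hodd : Odd (Nat.card ↥(MulAction.stabilizer G a ⊓ MulAction.stabilizer G b : Subgroup G))) (hlt : Nat.card ↥(MulAction.stabilizer G a ⊓ MulAction.stabilizer G b : Subgroup G) < Fintype.card Ω - 2) (H : Subgroup G) (hHa : H ≤ MulAction.stabilizer G a) (hHcard : Nat.card H + 1 = Fintype.card Ω) (hHfix : ∀ u ∈ H, u ≠ 1 → ∀ c : Ω, u • c = c → c = a) (μ : MulAction.stabilizer G a → ℂ) (hμ : Cfsg.IsCharacter (MulAction.stabilizer G a) μ ∧ μ 1 = 1) (hμH : ∀ u : MulAction.stabilizer G a, (u : G) ∈ H → μ u = 1) (hμne : μ ≠ fun _ => 1) : Cfsg.IsIrrCharacter G (Cfsg.indFun (MulAction.stabilizer G a) μ) ∧ ∀ u ∈ H, u ≠ 1 → Cfsg.indFun (MulAction.stabilizer G a) μ u = 1 := by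
  classical
  have hZ' := hZ
  obtain ⟨hfaith, h2, h3, hne, -⟩ := hZ
  have h2' : ∀ {a b c d : Ω}, a ≠ b → c ≠ d → ∃ g : G, g • a = c ∧ g • b = d :=
    MulAction.is_two_pretransitive_iff.mp h2
  obtain ⟨hcardE, hinvE⟩ := Cfsg.Agent.helper11.ZInd.swap_inverts_of_simple hZ' hab hodd
  obtain ⟨lam, hlam⟩ := Cfsg.Agent.helper23.exists_hom_of_linear hμ.1 hμ.2
  have hμeq : μ = fun x => ((lam x : ℂˣ) : ℂ) := funext hlam
  -- representatives
  have hrex : ∀ c : Ω, ∃ g : G, g • a = c ∧ (c ≠ a → g • c = a) ∧ (c = a → g = 1) := by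
    intro c
    by_cases hc : c = a
    · exact ⟨1, by rw [one_smul, hc], fun h => absurd hc h, fun _ => rfl⟩
    · obtain ⟨g, hg1, hg2⟩ := h2' (Ne.symm hc) hc
      exact ⟨g, hg1, fun _ => hg2, fun h => absurd h hc⟩
  choose r hr using hrex
  have hra : r a = 1 := (hr a).2.2 rfl
  have hr1 : ∀ c, r c • a = c := fun c => (hr c).1
  have hinv : ∀ c, c ≠ a → ∀ g : G, g • a = a → g • c = c → (r c)⁻¹ * g * r c = g⁻¹ := by
    intro c hc g hga hgc
    have hs1 : (r c)⁻¹ • a = c := by rw [inv_smul_eq_iff]; exact ((hr c).2.1 hc).symm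
    have hs2 : (r c)⁻¹ • c = a := by rw [inv_smul_eq_iff]; exact (hr1 c).symm
    have h := hinvE a c (Ne.symm hc) (r c)⁻¹ hs1 hs2 g (Subgroup.mem_inf.mpr
      ⟨MulAction.mem_stabilizer_iff.mpr hga, MulAction.mem_stabilizer_iff.mpr hgc⟩)
    rwa [inv_inv] at h
  have hform := fun g hg => Cfsg.Agent.helper11.ZInd.indFun_formula a lam r hra hr1 hinv g hg
  -- H is transitive on the points other than a
  have hHtrans : ∀ c d : Ω, c ≠ a → d ≠ a → ∃ u ∈ H, u • c = d := by
    intro c d hc hd
    have hne' : ∀ u : ↥H, (u : G) • c ≠ a := by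
      intro u h
      have hua : (u : G) • a = a := MulAction.mem_stabilizer_iff.mp (hHa u.2)
      exact hc (smul_left_cancel (u : G) (h.trans hua.symm))
    obtain ⟨φ, hφ⟩ : ∃ φ : ↥H → {d : Ω // d ≠ a}, ∀ u, (φ u : Ω) = (u : G) • c :=
      ⟨fun u => ⟨(u : G) • c, hne' u⟩, fun _ => rfl⟩
    have hinj : Function.Injective φ := by
      intro u u' huu
      have h1 : (u : G) • c = (u' : G) • c := by rw [← hφ, ← hφ, huu]
      have h2 : ((u' : G)⁻¹ * (u : G)) • c = c := by
        rw [mul_smul, h1, inv_smul_smul]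
      by_contra hneq
      have h3 : (u' : G)⁻¹ * (u : G) ≠ 1 := by
        intro h
        apply hneq
        apply Subtype.ext
        calc (u : G) = (u' : G) * ((u' : G)⁻¹ * (u : G)) := by group
          _ = (u' : G) := by rw [h, mul_one]
      exact hc (hHfix _ (H.mul_mem (H.inv_mem u'.2) u.2) h3 c h2)
    have hcard' : Nat.card {d : Ω // d ≠ a} ≤ Nat.card ↥H := by
      have h1 : Fintype.card (Option {d : Ω // d ≠ a}) = Fintype.card Ω :=
        Fintype.card_congr (Equiv.optionSubtypeNe a)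
      rw [Fintype.card_option] at h1
      rw [Nat.card_eq_fintype_card]
      omega
    obtain ⟨u, hu⟩ := (hinj.bijective_of_nat_card_le hcard').2 ⟨d, hd⟩
    refine ⟨(u : G), u.2, ?_⟩
    rw [← hφ, hu]
  -- zero sums
  have hzero : ∀ c, c ≠ a → ∑ x : ↥(MulAction.stabilizer G a),
      (if (x : G) • c = c then ((lam x : ℂˣ) : ℂ) ^ 2 else 0) = 0 := by
    intro c hc
    obtain ⟨g, hg⟩ : ∃ g : ↥(MulAction.stabilizer G a), μ g ≠ 1 := by
      by_contra hcon
      push Not at hcon
      exact hμne (funext hcon)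
    have hgc : (g : G) • c ≠ a := by
      intro h
      have hga : (g : G) • a = a := MulAction.mem_stabilizer_iff.mp g.2
      exact hc (smul_left_cancel (g : G) (h.trans hga.symm))
    obtain ⟨u, huH, huc⟩ := hHtrans c ((g : G) • c) hc hgc
    have huX : u ∈ MulAction.stabilizer G a := hHa huH
    obtain ⟨y, hy⟩ : ∃ y : ↥(MulAction.stabilizer G a), y = ⟨u, huX⟩⁻¹ * g := ⟨_, rfl⟩
    have hycoe : (y : G) = u⁻¹ * (g : G) := by rw [hy]; rfl
    have hyc : (y : G) • c = c := by
      rw [hycoe, mul_smul, inv_smul_eq_iff, huc]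
    have hlu : ((lam ⟨u, huX⟩ : ℂˣ) : ℂ) = 1 := by
      rw [← hlam]; exact hμH ⟨u, huX⟩ huH
    have hμy : ((lam y : ℂˣ) : ℂ) ≠ 1 := by
      rw [hy, map_mul, map_inv, Units.val_mul, Units.val_inv_eq_inv_val, hlu, inv_one, one_mul,
        ← hlam]
      exact hg
    have hysq : ((lam y : ℂˣ) : ℂ) ^ 2 ≠ 1 := by
      intro hsq
      have hyE : (y : G) ∈ MulAction.stabilizer G a ⊓ MulAction.stabilizer G c :=
        Subgroup.mem_inf.mpr ⟨y.2, MulAction.mem_stabilizer_iff.mpr hyc⟩
      have hd : orderOf (⟨(y : G), hyE⟩ :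
          ↥(MulAction.stabilizer G a ⊓ MulAction.stabilizer G c : Subgroup G)) ∣
          Nat.card ↥(MulAction.stabilizer G a ⊓ MulAction.stabilizer G c : Subgroup G) :=
        orderOf_dvd_natCard _
      rw [Subgroup.orderOf_mk, hcardE a c (Ne.symm hc)] at hd
      have hoddy : Odd (orderOf (y : G)) := Odd.of_dvd_nat hodd hd
      rw [Subgroup.orderOf_coe] at hoddy
      obtain ⟨k, hk⟩ := hoddy
      have hpow : ((lam y : ℂˣ) : ℂ) ^ (2 * k + 1) = 1 := by
        rw [← hk, ← Units.val_pow_eq_pow_val, ← map_pow, pow_orderOf_eq_one, map_one,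
          Units.val_one]
      rw [pow_succ, pow_mul, hsq, one_pow, one_mul] at hpow
      exact hμy hpow
    exact Cfsg.Agent.helper11.ZInd.sum_sq_eq_zero lam c y hyc hysq
  rw [hμeq]
  refine ⟨?_, ?_⟩
  · apply Cfsg.Agent.helper12.isIrrCharacter_of_classInner_self
      (Cfsg.Agent.helper12.isCharacter_indFun _ (by rw [← hμeq]; exact hμ.1))
    exact Cfsg.Agent.helper11.ZInd.classInner_indFun_self a lam hform hzero
  · intro u hu hu1
    rw [hform u (hHa hu)]
    have hempty : ((Finset.univ.erase a).filter (fun c => u • c = c)) = ∅ := by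
      rw [Finset.filter_eq_empty_iff]
      intro c hc hcu
      exact (Finset.ne_of_mem_erase hc) (hHfix u hu hu1 c hcu)
    rw [hempty, Finset.card_empty, Nat.cast_zero, zero_mul, add_zero, ← hlam]
    exact hμH ⟨u, hHa hu⟩ hu

end Cfsg.Agent.S0881
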