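import Cfsg.Statements.S0882
import Cfsg.Agent.S0739
import Cfsg.Agent.S0740
import Cfsg.Agent.Lib_helper11_ZInvol
import Cfsg.Agent.Lib_helper11_ZCount

set_option autoImplicit false
open Cfsg

namespace Cfsg.Agent.S0882

/-- Let G be a finite simple Zassenhaus group on Ω with n = h + 1 points whose two-point stabilizer E has odd order e with 2e < h - 1. Then any two involutions of G are conjugate, and the number of involutions is e * (h + 1) if h is even and e * h if h is odd. -/
theorem result {G Ω : Type*} [Group G] [Finite G] [MulAction G Ω] [Fintype Ω] (hZ : Cfsg.IsZassenhausGroup G Ω) {a b : Ω} (hab : a ≠ b) [IsSimpleGroup G] (h e : ℕ) (hh : Fintype.card Ω = h + 1) (he : Nat.card ↥(MulAction.stabilizer G a ⊓ MulAction.stabilizer G b : Subgroup G) = e) (hodd : Odd e) (hlt : 2 * e < h - 1) : (∀ x y : G, orderOf x = 2 → orderOf y = 2 → IsConj x y) ∧ Nat.card {x : G // orderOf x = 2} = (if Even h then e * (h + 1) else e * h) := by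
  classical
  have hZ' := hZ
  obtain ⟨hfaith, h2, h3, hne, -⟩ := hZ
  have := hfaith
  have : Fintype G := Fintype.ofFinite G
  have h2' : ∀ {a b c d : Ω}, a ≠ b → c ≠ d → ∃ g : G, g • a = c ∧ g • b = d :=
    MulAction.is_two_pretransitive_iff.mp h2
  obtain ⟨n, hn⟩ : ∃ n, n = Fintype.card Ω := ⟨_, rfl⟩
  have hnh : n = h + 1 := by rw [hn, hh]
  have hh2 : 2 ≤ h := by omega
  have hnn : 0 < n * n - n := by
    have : n * n = n + (h + 1) * h := by rw [hnh]; ring
    have : 0 < (h + 1) * h := by positivity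
    omega
  -- cardinality of two point stabilizers
  have hcard : ∀ x y : Ω, x ≠ y →
      Nat.card ↥(MulAction.stabilizer G x ⊓ MulAction.stabilizer G y : Subgroup G) = e := by
    intro x y hxy
    have h1 := Cfsg.Agent.helper11.ZCount.card_eq h2 hxy
    have h0 := Cfsg.Agent.helper11.ZCount.card_eq h2 hab
    rw [he, ← hn] at h0
    rw [← hn, h0] at h1
    exact (Nat.eq_of_mul_eq_mul_right hnn h1).symm
  have hedvd : e ∣ Nat.card G := by
    have h0 := Cfsg.Agent.helper11.ZCount.card_eq h2 hab
    rw [he] at h0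
    rw [h0]; exact dvd_mul_right _ _
  -- an involution
  obtain ⟨τ₀, hτ₀, -, -⟩ := (Cfsg.Agent.S0740.result hZ' hab).1
  have h2G : 2 ∣ Nat.card G := by rw [← hτ₀]; exact orderOf_dvd_natCard τ₀
  have hnil : ∀ x y : Ω, x ≠ y → ∀ q : ℕ, q.Prime →
      q ∣ Nat.card ↥(MulAction.stabilizer G x ⊓ MulAction.stabilizer G y : Subgroup G) →
      ¬ ∃ N : Subgroup G, N.Normal ∧ N.index = q ^ (Nat.card G).factorization q := by
    intro x y hxy q hq hqd
    rw [hcard x y hxy] at hqd
    rintro ⟨N, hNn, hNi⟩
    have hq2 : q ≠ 2 := by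
      intro hq2
      rw [hq2] at hqd
      exact (Nat.not_even_iff_odd.mpr hodd) (even_iff_two_dvd.mpr hqd)
    rcases hNn.eq_bot_or_eq_top with hN | hN
    · rw [hN, Subgroup.index_bot] at hNi
      rw [hNi] at h2G
      have := (Nat.prime_dvd_prime_iff_eq Nat.prime_two hq).mp (Nat.Prime.dvd_of_dvd_pow Nat.prime_two h2G)
      exact hq2 this.symm
    · rw [hN, Subgroup.index_top] at hNi
      have hpos : 0 < (Nat.card G).factorization q :=
        Nat.Prime.factorization_pos_of_dvd hq Nat.card_pos.ne' (hqd.trans hedvd)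
      have : 1 < q ^ (Nat.card G).factorization q := Nat.one_lt_pow hpos.ne' hq.one_lt
      omega
  have hinv : ∀ x y : Ω, x ≠ y → ∀ s : G, s • x = y → s • y = x →
      ∀ u ∈ MulAction.stabilizer G x ⊓ MulAction.stabilizer G y, s * u * s⁻¹ = u⁻¹ :=
    fun x y hxy => (Cfsg.Agent.S0739.result hZ' hxy (by rw [hcard x y hxy]; exact hodd)
      (hnil x y hxy)).2.2
  -- basic facts on involutions
  have hmoves : ∀ t : G, orderOf t = 2 → ∃ x : Ω, t • x ≠ x := by
    intro t ht
    by_contra hcon
    push Not at hcon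
    have h1 : t = 1 := by
      apply FaithfulSMul.eq_of_smul_eq_smul (α := Ω)
      intro c
      rw [one_smul]; exact hcon c
    rw [h1, orderOf_one] at ht
    omega
  have hsq : ∀ t : G, orderOf t = 2 → t * t = 1 := by
    intro t ht
    rw [← pow_two, ← ht, pow_orderOf_eq_one]
  have hback : ∀ t : G, orderOf t = 2 → ∀ x : Ω, t • (t • x) = x := by
    intro t ht x
    rw [← mul_smul, hsq t ht, one_smul]
  refine ⟨?_, ?_⟩
  · -- conjugacy
    intro t₁ t₂ ht₁ ht₂
    obtain ⟨p₁, hp₁⟩ := hmoves t₁ ht₁
    obtain ⟨p₂, hp₂⟩ := hmoves t₂ ht₂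
    obtain ⟨g, hg1, hg2⟩ := h2' (Ne.symm hp₁) (Ne.symm hp₂)
    -- g p₁ = p₂, g (t₁ p₁) = t₂ p₂
    have hgi1 : g⁻¹ • p₂ = p₁ := by rw [inv_smul_eq_iff]; exact hg1.symm
    have hgi2 : g⁻¹ • (t₂ • p₂) = t₁ • p₁ := by rw [inv_smul_eq_iff]; exact hg2.symm
    have hc1 : (g * t₁ * g⁻¹) • p₂ = t₂ • p₂ := by
      rw [mul_smul, mul_smul, hgi1, hg2]
    have hc2 : (g * t₁ * g⁻¹) • (t₂ • p₂) = p₂ := by
      rw [mul_smul, mul_smul, hgi2, hback t₁ ht₁, hg1]
    have hconj := Cfsg.Agent.helper11.ZInvol.swapping_conj p₂ (t₂ • p₂)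
      (by rw [hcard _ _ (Ne.symm hp₂)]; exact hodd) (hinv _ _ (Ne.symm hp₂))
      (g * t₁ * g⁻¹) t₂ hc1 hc2 rfl (hback t₂ ht₂ p₂)
    have h1 : IsConj t₁ (g * t₁ * g⁻¹) := isConj_iff.mpr ⟨g, rfl⟩
    exact h1.trans hconj
  · -- counting
    obtain ⟨I, hI⟩ : ∃ I : Finset G, I = Finset.univ.filter (fun t : G => orderOf t = 2) :=
      ⟨_, rfl⟩
    have hIcard : Nat.card {x : G // orderOf x = 2} = I.card := by
      rw [hI, Nat.card_eq_fintype_card, Fintype.card_subtype]
    have hfiber : ∀ x y : Ω, x ≠ y →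
        (Finset.univ.filter (fun t : G => orderOf t = 2 ∧ t • x = y)).card = e := by
      intro x y hxy
      obtain ⟨τ, hτ, hτx, hτy⟩ := (Cfsg.Agent.S0740.result hZ' hxy).1
      rw [Cfsg.Agent.helper11.ZInvol.card_invol_swapping x y hxy τ hτ hτx hτy (hinv x y hxy),
        hcard x y hxy]
    have hdc := Finset.sum_card_bipartiteAbove_eq_sum_card_bipartiteBelow (s := I)
      (t := (Finset.univ : Finset Ω)) (fun (t : G) (x : Ω) => t • x ≠ x)
    have hR : ∀ x ∈ (Finset.univ : Finset Ω),
        (I.bipartiteBelow (fun (t : G) (x : Ω) => t • x ≠ x) x).card = (n - 1) * e := by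
      intro x _
      rw [Finset.bipartiteBelow]
      rw [Finset.card_eq_sum_card_fiberwise (f := fun t : G => t • x)
        (t := Finset.univ.erase x) ?_]
      · rw [Finset.sum_const_nat (m := e)]
        · rw [Finset.card_erase_of_mem (Finset.mem_univ x), Finset.card_univ, ← hn]
        · intro y hy
          have hyx : y ≠ x := Finset.ne_of_mem_erase hy
          rw [← hfiber x y (Ne.symm hyx)]
          congr 1
          ext t
          simp only [Finset.mem_filter, hI, Finset.mem_univ, true_and]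
          constructor
          · rintro ⟨⟨h1, _⟩, h3⟩; exact ⟨h1, h3⟩
          · rintro ⟨h1, h3⟩; exact ⟨⟨h1, by rw [h3]; exact hyx⟩, h3⟩
      · intro t ht
        rw [Finset.mem_coe, Finset.mem_filter] at ht
        exact Finset.mem_coe.mpr (Finset.mem_erase.mpr ⟨ht.2, Finset.mem_univ _⟩)
    obtain ⟨f₀, hf₀⟩ : ∃ f₀ : ℕ, f₀ = if Even n then 0 else 1 := ⟨_, rfl⟩
    have hfix : ∀ t ∈ I, Nat.card (MulAction.fixedBy Ω t) = f₀ := by
      intro t ht
      rw [hI, Finset.mem_filter] at ht
      have hto := ht.2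
      obtain ⟨x, hx⟩ := hmoves t hto
      obtain ⟨hoddcase, hevencase⟩ := (Cfsg.Agent.S0740.result hZ' (Ne.symm hx)).2.1 t hto rfl
        (hback t hto x)
      by_cases hev : Even n
      · rw [hf₀, if_pos hev]
        rcases hevencase (by rw [← hn]; exact hev) with h0 | h2c
        · exact h0
        · exfalso
          rw [Nat.card_coe_set_eq, Set.ncard_eq_two] at h2c
          obtain ⟨p, p', hpp', hset⟩ := h2c
          have hp : t • p = p := by
            have : p ∈ MulAction.fixedBy Ω t := by rw [hset]; exact Set.mem_insert _ _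
            exact this
          have hp' : t • p' = p' := by
            have : p' ∈ MulAction.fixedBy Ω t := by
              rw [hset]; exact Set.mem_insert_of_mem _ rfl
            exact this
          have htE : t ∈ MulAction.stabilizer G p ⊓ MulAction.stabilizer G p' :=
            Subgroup.mem_inf.mpr ⟨MulAction.mem_stabilizer_iff.mpr hp,
              MulAction.mem_stabilizer_iff.mpr hp'⟩
          have hd : orderOf (⟨t, htE⟩ :
              ↥(MulAction.stabilizer G p ⊓ MulAction.stabilizer G p' : Subgroup G)) ∣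
              Nat.card ↥(MulAction.stabilizer G p ⊓ MulAction.stabilizer G p' : Subgroup G) :=
            orderOf_dvd_natCard _
          rw [Subgroup.orderOf_mk, hto, hcard p p' hpp'] at hd
          exact (Nat.not_even_iff_odd.mpr hodd) (even_iff_two_dvd.mpr hd)
      · rw [hf₀, if_neg hev]
        exact hoddcase (by rw [← hn]; exact Nat.not_even_iff_odd.mp hev)
    have hL : ∀ t ∈ I, ((Finset.univ : Finset Ω).bipartiteAbove
        (fun (t : G) (x : Ω) => t • x ≠ x) t).card = n - f₀ := by
      intro t ht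
      rw [Finset.bipartiteAbove]
      show (Finset.univ.filter (fun x : Ω => ¬ t • x = x)).card = n - f₀
      have hsum := Finset.card_filter_add_card_filter_not (s := (Finset.univ : Finset Ω))
        (fun x : Ω => t • x = x)
      rw [Finset.card_univ, ← hn] at hsum
      have hfc : (Finset.univ.filter (fun x : Ω => t • x = x)).card = f₀ := by
        rw [← hfix t ht, Nat.card_eq_fintype_card, Fintype.card_subtype]
        congr 1
      omega
    rw [Finset.sum_congr rfl hL, Finset.sum_congr rfl hR, Finset.sum_const_nat (fun _ _ => rfl),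
      Finset.sum_const_nat (fun _ _ => rfl), Finset.card_univ, ← hn] at hdc
    rw [hIcard]
    by_cases hev : Even h
    · rw [if_pos hev]
      have hnodd : ¬ Even n := by
        rw [hnh]; intro h'
        rw [Nat.even_add_one] at h'
        exact h' hev
      rw [hf₀, if_neg hnodd, hnh] at hdc
      have e1 : h + 1 - 1 = h := by omega
      rw [e1] at hdc
      have : I.card * h = (e * (h + 1)) * h := by rw [hdc]; ring
      exact Nat.eq_of_mul_eq_mul_right (by omega) this
    · rw [if_neg hev]
      have hneven : Even n := by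
        rw [hnh, Nat.even_add_one]; exact hev
      rw [hf₀, if_pos hneven, hnh] at hdc
      have e1 : h + 1 - 1 = h := by omega
      rw [e1, Nat.sub_zero] at hdc
      have : I.card * (h + 1) = (e * h) * (h + 1) := by rw [hdc]; ring
      exact Nat.eq_of_mul_eq_mul_right (by omega) this

end Cfsg.Agent.S0882
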