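import Cfsg.Statements.S0883
import Cfsg.Agent.S0878
import Cfsg.Agent.Lib_helper6_RankOne3
import Cfsg.Agent.Lib_helper11_NilpInv
import Cfsg.Agent.Lib_helper11_FpfNilp

set_option autoImplicit false
open Cfsg

namespace Cfsg.Agent.S0883

open MulAction

/-- Let G be a finite simple Zassenhaus group on Ω with h + 1 points whose two-point stabilizer E has odd order e with 2e < h - 1, and let H be the subgroup of the stabilizer of a consisting of the identity and the elements fixing no point other than a (given here as a subgroup of the stabilizer of order one less than the number of points whose non-identity elements fix only a; it is the Frobenius kernel of the stabilizer). If a non-identity element u of H is a product of two involutions of G, then u is an involution. -/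
theorem result {G Ω : Type*} [Group G] [Finite G] [MulAction G Ω] [Fintype Ω] (hZ : Cfsg.IsZassenhausGroup G Ω) {a b : Ω} (hab : a ≠ b) [IsSimpleGroup G] (h e : ℕ) (hh : Fintype.card Ω = h + 1) (he : Nat.card ↥(MulAction.stabilizer G a ⊓ MulAction.stabilizer G b : Subgroup G) = e) (hodd : Odd e) (hlt : 2 * e < h - 1) (H : Subgroup G) (hHa : H ≤ MulAction.stabilizer G a) (hHcard : Nat.card H + 1 = Fintype.card Ω) (hHfix : ∀ u ∈ H, u ≠ 1 → ∀ c : Ω, u • c = c → c = a) (u : G) (hu : u ∈ H) (hu1 : u ≠ 1) (x y : G) (hx : orderOf x = 2) (hy : orderOf y = 2) (hxy : x * y = u) : orderOf u = 2 := by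
  classical
  have hZ' := hZ
  obtain ⟨hfaith, h2t, h3, ⟨g₀, hg₀1, c₀, d₀, hcd₀, hg₀c, hg₀d⟩, -⟩ := hZ
  haveI : IsPretransitive G Ω := isPretransitive_of_is_two_pretransitive
  haveI : Fact (Nat.Prime 2) := ⟨Nat.prime_two⟩
  have h2t' : ∀ {a b c d : Ω}, a ≠ b → c ≠ d → ∃ g : G, g • a = c ∧ g • b = d :=
    is_two_pretransitive_iff.mp h2t
  -- normality of H in G_a
  have hnorm := (Cfsg.Agent.S0878.result hZ' a H hHa hHcard hHfix).2
  have hconj : ∀ g ∈ stabilizer G a, ∀ η ∈ H, g * η * g⁻¹ ∈ H := by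
    intro g hg η hη
    rw [← hnorm] at hg
    exact (Subgroup.mem_normalizer_iff.mp hg η).mp hη
  -- x, y are involutions
  have hx2 : x * x = 1 := by
    have := pow_orderOf_eq_one x
    rwa [hx, pow_two] at this
  have hy2 : y * y = 1 := by
    have := pow_orderOf_eq_one y
    rwa [hy, pow_two] at this
  have hx1 : x ≠ 1 := by
    intro h1
    rw [h1, orderOf_one] at hx
    omega
  have hy1 : y ≠ 1 := by
    intro h1
    rw [h1, orderOf_one] at hy
    omega
  have hxi : x⁻¹ = x := inv_eq_of_mul_eq_one_right hx2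
  have hyi : y⁻¹ = y := inv_eq_of_mul_eq_one_right hy2
  have hua : u • a = a := mem_stabilizer_iff.mp (hHa hu)
  have hxa : x • a = a := by
    apply hHfix u⁻¹ (H.inv_mem hu) (inv_ne_one.mpr hu1)
    have e1 : u⁻¹ * x = x * u := by
      rw [← hxy, mul_inv_rev, hxi, hyi]
      calc y * x * x = y * (x * x) := by group
        _ = (x * x) * y := by rw [hx2, mul_one, one_mul]
        _ = x * (x * y) := by group
    rw [smul_smul, e1, mul_smul, hua]
  have hya : y • a = a := by
    have e1 : y = x * u := by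
      rw [← hxy, ← mul_assoc, hx2, one_mul]
    rw [e1, mul_smul, hua, hxa]
  -- H meets G_b trivially
  have hHb : ∀ η ∈ H, η • b = b → η = 1 := by
    intro η hη hb'
    by_contra h1
    exact hab (hHfix η hη h1 b hb').symm
  have hHa' : ∀ η ∈ H, η • a = a := fun η hη => mem_stabilizer_iff.mp (hHa hη)
  -- H is transitive on the points other than a
  have htransH : ∀ c : Ω, c ≠ a → ∃ η ∈ H, η • b = c := by
    have hfne : ∀ η : ↥H, (η : G) • b ≠ a := by
      intro η hηb
      apply hab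
      have : (η : G) • b = (η : G) • a := by rw [hηb, hHa' η η.2]
      exact (smul_left_cancel _ this).symm
    obtain ⟨f, hf⟩ : ∃ f : ↥H → {c : Ω // c ≠ a}, f = fun η => ⟨(η : G) • b, hfne η⟩ := ⟨_, rfl⟩
    have hfinj : Function.Injective f := by
      intro η η' hηη'
      rw [hf] at hηη'
      have h1 : (η : G) • b = (η' : G) • b := congrArg Subtype.val hηη'
      have h2 : ((η' : G)⁻¹ * (η : G)) • b = b := by
        rw [mul_smul, h1, inv_smul_smul]
      have h3' := hHb _ (H.mul_mem (H.inv_mem η'.2) η.2) h2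
      apply Subtype.ext
      exact (inv_mul_eq_one.mp h3').symm
    have hcards : Nat.card {c : Ω // c ≠ a} ≤ Nat.card ↥H := by
      have h1 : Nat.card Ω = Nat.card {c : Ω // c ≠ a} + 1 := by
        rw [← Nat.card_congr (Equiv.optionSubtypeNe a), Finite.card_option]
      rw [Nat.card_eq_fintype_card] at h1
      omega
    have hbij := hfinj.bijective_of_nat_card_le hcards
    intro c hc
    obtain ⟨η, hη⟩ := hbij.2 ⟨c, hc⟩
    refine ⟨η, η.2, ?_⟩
    rw [hf] at hη
    exact congrArg Subtype.val hη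
  -- decomposition of G_a
  have hdecomp : ∀ g ∈ stabilizer G a, ∃ η ∈ H,
      ∃ d ∈ (stabilizer G a ⊓ stabilizer G b : Subgroup G), g = η * d := by
    intro g hg
    have hga : g • a = a := mem_stabilizer_iff.mp hg
    have hgb : g • b ≠ a := by
      intro hgb
      apply hab
      have : g • b = g • a := by rw [hgb, hga]
      exact (smul_left_cancel _ this).symm
    obtain ⟨η, hη, hηb⟩ := htransH (g • b) hgb
    refine ⟨η, hη, η⁻¹ * g, ?_, by group⟩
    rw [Subgroup.mem_inf, mem_stabilizer_iff, mem_stabilizer_iff]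
    constructor
    · rw [mul_smul, hga, inv_smul_eq_iff, hHa' η hη]
    · rw [mul_smul, ← hηb, inv_smul_smul]
  -- elements of D squaring to one are trivial
  have hDodd : ∀ d ∈ (stabilizer G a ⊓ stabilizer G b : Subgroup G), d * d = 1 → d = 1 := by
    intro d hd hdd1
    have hdo : Odd (orderOf d) := by
      have h1 : orderOf (⟨d, hd⟩ : ↥(stabilizer G a ⊓ stabilizer G b : Subgroup G)) ∣
          Nat.card ↥(stabilizer G a ⊓ stabilizer G b : Subgroup G) := orderOf_dvd_natCard _
      rw [Subgroup.orderOf_mk, he] at h1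
      exact Odd.of_dvd_nat hodd h1
    have h2 : orderOf d ∣ 2 := orderOf_dvd_of_pow_eq_one (by rw [sq]; exact hdd1)
    have h3' : orderOf d = 1 := by
      rcases (Nat.dvd_prime Nat.prime_two).mp h2 with h | h
      · exact h
      · rw [h] at hdo; exact absurd hdo (by decide)
    exact orderOf_eq_one_iff.mp h3'
  -- involutions of G_a lie in H
  have hinvH : ∀ s : G, s • a = a → s * s = 1 → s ∈ H := by
    intro s hsa hs2
    obtain ⟨η, hη, d, hd, rfl⟩ := hdecomp s (mem_stabilizer_iff.mpr hsa)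
    have hda : d ∈ stabilizer G a := (Subgroup.mem_inf.mp hd).1
    have hdb : d • b = b := mem_stabilizer_iff.mp (Subgroup.mem_inf.mp hd).2
    have hdη : d * η * d⁻¹ ∈ H := hconj d hda η hη
    have hdd : d * d = (η * (d * η * d⁻¹))⁻¹ := by
      have : η * (d * η * d⁻¹) * (d * d) = 1 := by rw [← hs2]; group
      exact eq_inv_of_mul_eq_one_right this
    have hddH : d * d ∈ H := by rw [hdd]; exact H.inv_mem (H.mul_mem hη hdη)
    have hddb : (d * d) • b = b := by rw [mul_smul, hdb, hdb]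
    have hdd1 : d * d = 1 := hHb _ hddH hddb
    rw [hDodd d hd hdd1, mul_one]
    exact hη
  have hxH := hinvH x hxa hx2
  have hyH := hinvH y hya hy2
  -- a non-identity element of D of prime order
  have hne : (stabilizer G a ⊓ stabilizer G b : Subgroup G) ≠ ⊥ := by
    obtain ⟨g, hg1, hg2⟩ := h2t' hcd₀ hab
    intro hbot
    apply hg₀1
    have hmem : g * g₀ * g⁻¹ ∈ (stabilizer G a ⊓ stabilizer G b : Subgroup G) := by
      rw [Subgroup.mem_inf, mem_stabilizer_iff, mem_stabilizer_iff]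
      constructor
      · rw [← hg1, mul_smul, mul_smul, inv_smul_smul, hg₀c]
      · rw [← hg2, mul_smul, mul_smul, inv_smul_smul, hg₀d]
    rw [hbot, Subgroup.mem_bot] at hmem
    have e1 : g₀ = g⁻¹ * (g * g₀ * g⁻¹) * g := by group
    rw [e1, hmem]; group
  have he1 : 1 < e := by
    rw [← he]
    exact (Subgroup.one_lt_card_iff_ne_bot _).mpr hne
  obtain ⟨p, hp, hpdvd⟩ : ∃ p, p.Prime ∧ p ∣ e :=
    ⟨e.minFac, Nat.minFac_prime (by omega), Nat.minFac_dvd _⟩
  haveI : Fact p.Prime := ⟨hp⟩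
  obtain ⟨d₁', hd₁'⟩ := exists_prime_orderOf_dvd_card' (G := ↥(stabilizer G a ⊓ stabilizer G b : Subgroup G)) p
    (by rw [he]; exact hpdvd)
  obtain ⟨d₁, hd₁⟩ : ∃ d₁ : G, d₁ = (d₁' : G) := ⟨_, rfl⟩
  have hd₁D : d₁ ∈ (stabilizer G a ⊓ stabilizer G b : Subgroup G) := by rw [hd₁]; exact d₁'.2
  have hd₁o : orderOf d₁ = p := by rw [hd₁, Subgroup.orderOf_coe, hd₁']
  have hd₁1 : d₁ ≠ 1 := by
    intro h1
    rw [h1, orderOf_one] at hd₁o
    exact hp.one_lt.ne hd₁o
  have hd₁a : d₁ ∈ stabilizer G a := (Subgroup.mem_inf.mp hd₁D).1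
  have hd₁a' : d₁ • a = a := mem_stabilizer_iff.mp hd₁a
  have hd₁b : d₁ • b = b := mem_stabilizer_iff.mp (Subgroup.mem_inf.mp hd₁D).2
  have hfpf : H ⊓ Subgroup.centralizer {d₁} = ⊥ := by
    rw [Subgroup.eq_bot_iff_forall]
    intro η hη
    by_contra hη1
    obtain ⟨hηH, hηC⟩ := Subgroup.mem_inf.mp hη
    have hcomm : d₁ * η = η * d₁ := Subgroup.mem_centralizer_iff.mp hηC d₁ rfl
    apply hd₁1
    refine h3 d₁ a b (η • b) hab ?_ ?_ hd₁a' hd₁b ?_
    · intro hb'
      exact hη1 (hHb η hηH hb'.symm)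
    · intro hb'
      apply hab
      have : η • b = η • a := by rw [← hb', hHa' η hηH]
      exact (smul_left_cancel _ this).symm
    · rw [smul_smul, hcomm, mul_smul, hd₁b]
  have hn1 : ∀ q ∈ H, d₁ * q * d₁⁻¹ ∈ H := fun q hq => hconj d₁ hd₁a q hq
  have hn2 : ∀ q ∈ H, d₁⁻¹ * q * d₁ ∈ H := by
    intro q hq
    have := hconj d₁⁻¹ (Subgroup.inv_mem _ hd₁a) q hq
    rwa [inv_inv] at this
  haveI hnil : Group.IsNilpotent ↥H :=
    helper11.FpfNilp.nilpotent_of_fpf_prime H d₁ p hp hd₁o hn1 hn2 hfpf ⟨x, hxH, hx1⟩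
  -- a central involution of H
  have h2H : 2 ∣ Nat.card ↥H := by
    have h1 : orderOf (⟨x, hxH⟩ : ↥H) ∣ Nat.card ↥H := orderOf_dvd_natCard _
    rwa [Subgroup.orderOf_mk, hx] at h1
  obtain ⟨z', hz'1, hz'2, hz'c⟩ := helper11.NilpInv.exists_central_involution (H := ↥H) h2H
  obtain ⟨z, hz⟩ : ∃ z : G, z = (z' : G) := ⟨_, rfl⟩
  have hzH : z ∈ H := by rw [hz]; exact z'.2
  have hz1 : z ≠ 1 := by
    intro h1
    apply hz'1
    apply Subtype.ext
    rw [← hz, h1]; rfl
  have hz2 : z * z = 1 := by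
    have := congrArg (Subtype.val : ↥H → G) hz'2
    rw [hz]; exact this
  have hzc : ∀ q ∈ H, z * q = q * z := by
    intro q hq
    have := congrArg (Subtype.val : ↥H → G) (hz'c ⟨q, hq⟩)
    rw [hz]; exact this
  -- an involution t with t • a = b
  obtain ⟨g₁, hg₁⟩ := MulAction.exists_smul_eq G a b
  obtain ⟨t', ht'⟩ : ∃ t' : G, t' = g₁ * x * g₁⁻¹ := ⟨_, rfl⟩
  have ht'2 : t' * t' = 1 := by
    rw [ht']
    calc g₁ * x * g₁⁻¹ * (g₁ * x * g₁⁻¹) = g₁ * (x * x) * g₁⁻¹ := by group
      _ = 1 := by rw [hx2]; group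
  have ht'1 : t' ≠ 1 := by
    intro h1
    apply hx1
    have e1 : x = g₁⁻¹ * t' * g₁ := by rw [ht']; group
    rw [e1, h1]; group
  have ht'b : t' • b = b := by
    rw [ht', ← hg₁, mul_smul, mul_smul, inv_smul_smul, hxa]
  have ht'a : t' • a ≠ a := by
    intro h1
    apply ht'1
    apply hDodd t' _ ht'2
    rw [Subgroup.mem_inf, mem_stabilizer_iff, mem_stabilizer_iff]
    exact ⟨h1, ht'b⟩
  obtain ⟨g₂, hg₂a, hg₂b⟩ := h2t' (Ne.symm ht'a) hab
  obtain ⟨t, ht⟩ : ∃ t : G, t = g₂ * t' * g₂⁻¹ := ⟨_, rfl⟩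
  have ht2 : t * t = 1 := by
    rw [ht]
    calc g₂ * t' * g₂⁻¹ * (g₂ * t' * g₂⁻¹) = g₂ * (t' * t') * g₂⁻¹ := by group
      _ = 1 := by rw [ht'2]; group
  have ht1 : t ≠ 1 := by
    intro h1
    apply ht'1
    have e1 : t' = g₂⁻¹ * t * g₂ := by rw [ht]; group
    rw [e1, h1]; group
  have hta : t • a = b := by
    rw [ht, mul_smul, mul_smul, inv_smul_eq_iff.mpr hg₂a.symm, hg₂b]
  have hS : Cfsg.IsRankOneSetup G Ω a t H :=
    { two_transitive := h2t
      mul_self := ht2
      ne_one := ht1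
      not_mem := by
        rw [mem_stabilizer_iff, hta]
        exact Ne.symm hab
      le := hHa
      conj_mem := hconj
      inf_eq_bot := by
        rw [hta, Subgroup.eq_bot_iff_forall]
        intro η hη
        obtain ⟨h1, h2⟩ := Subgroup.mem_inf.mp hη
        exact hHb η h1 (mem_stabilizer_iff.mp h2)
      sup_eq := by
        rw [hta]
        apply le_antisymm
        · exact sup_le hHa inf_le_left
        · intro g hg
          obtain ⟨η, hη, d, hd, rfl⟩ := hdecomp g hg
          exact Subgroup.mul_mem_sup hη hd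
      even_card := even_iff_two_dvd.mpr h2H
      odd_card := by
        rw [hta, he]
        exact hodd }
  have hzI : z ∈ Cfsg.involutionsIn (stabilizer G a : Set G) := ⟨hHa hzH, hz1, hz2⟩
  -- every involution of G_a is central in H
  have hcent : ∀ s : G, s • a = a → s ≠ 1 → s * s = 1 → ∀ q ∈ H, s * q = q * s := by
    intro s hsa hs1 hs2 q hq
    have hsI : s ∈ Cfsg.involutionsIn (stabilizer G a : Set G) := ⟨mem_stabilizer_iff.mpr hsa, hs1, hs2⟩
    obtain ⟨k, hk, hks⟩ := helper6.RankOne.K_trans hS hzI hsI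
    have hka : k ∈ stabilizer G a := hk.1.1
    have hq' : k * q * k⁻¹ ∈ H := hconj k hka q hq
    have hc := hzc _ hq'
    rw [← hks]
    calc k⁻¹ * z * k * q = k⁻¹ * (z * (k * q * k⁻¹)) * k := by group
      _ = k⁻¹ * ((k * q * k⁻¹) * z) * k := by rw [hc]
      _ = q * (k⁻¹ * z * k) := by group
  have hxycomm : x * y = y * x := hcent x hxa hx1 hx2 y hyH
  have huu : u ^ 2 = 1 := by
    rw [pow_two, ← hxy]
    calc x * y * (x * y) = x * (y * x) * y := by group
      _ = x * (x * y) * y := by rw [hxycomm]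
      _ = (x * x) * (y * y) := by group
      _ = 1 := by rw [hx2, hy2, one_mul]
  exact orderOf_eq_prime huu hu1

end Cfsg.Agent.S0883
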