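import Mathlib
import Cfsg.Statements.S0893
import Cfsg.Agent.Lib_helper5_Extraspecial
import Cfsg.Agent.Lib_helper23_Linear
import Cfsg.Agent.Lib_helper12_CharOps
import Cfsg.Agent.Lib_helper24_Char

set_option autoImplicit false
open Cfsg

namespace Cfsg.Agent.S0893

open Cfsg.Agent.helper5
open scoped commutatorElement ComplexConjugate

theorem conj_shift {P : Type*} [Group P] (x y w c d : P) (hc : y⁻¹ * x * y = x * c)
    (hd : w⁻¹ * x * w = x * d) (hcc : ∀ g, g * c = c * g) :
    (y * w)⁻¹ * x * (y * w) = (y⁻¹ * x * y) * d := by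
  calc (y * w)⁻¹ * x * (y * w) = w⁻¹ * (y⁻¹ * x * y) * w := by group
    _ = w⁻¹ * (x * c) * w := by rw [hc]
    _ = w⁻¹ * x * (c * w) := by group
    _ = w⁻¹ * x * (w * c) := by rw [hcc w]
    _ = (w⁻¹ * x * w) * c := by group
    _ = x * d * c := by rw [hd]
    _ = x * (d * c) := by group
    _ = x * (c * d) := by rw [hcc d]
    _ = (x * c) * d := by group
    _ = (y⁻¹ * x * y) * d := by rw [hc]

/-- Let P be an extraspecial p-group of order p ^ (2 * n + 1), A an abelian subgroup of order p ^ (n + 1), and λ a character of A of degree 1 that is not identically 1 on the elements of A lying in the centre of P. Then the function induced from λ to P is an irreducible character of P and vanishes at every element outside the centre. -/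
theorem result {P : Type*} [Group P] [Fintype P] (p n : ℕ) [Fact p.Prime] (hP : Cfsg.IsExtraspecial p P) (hcard : Nat.card P = p ^ (2 * n + 1)) (A : Subgroup P) (hab : ∀ a ∈ A, ∀ b ∈ A, a * b = b * a) (hA : Nat.card A = p ^ (n + 1)) (lam : A → ℂ) (hlam : Cfsg.IsCharacter A lam ∧ lam 1 = 1) (hZ : ∃ a : A, (a : P) ∈ Subgroup.center P ∧ lam a ≠ 1) : Cfsg.IsIrrCharacter P (Cfsg.indFun A lam) ∧ ∀ x : P, x ∉ Subgroup.center P → Cfsg.indFun A lam x = 0 := by
  classical
  obtain ⟨⟨hpg, hfr, hcomm⟩, hZcard⟩ := hP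
  have hcl : ∀ x y : P, ⁅x, y⁆ ∈ Subgroup.center P := by
    intro x y
    rw [← hcomm, commutator_def]
    exact Subgroup.commutator_mem_commutator (Subgroup.mem_top x) (Subgroup.mem_top y)
  haveI : Fintype A := Fintype.ofFinite A
  have hmul := Cfsg.Agent.helper23.linear_char_mul hlam.1 hlam.2
  obtain ⟨a, haZ, hane⟩ := hZ
  have ha1 : (a : P) ≠ 1 := by
    intro h
    apply hane
    have : a = 1 := Subtype.ext h
    rw [this]; exact hlam.2
  -- Z ≤ A
  have hZA : Subgroup.center P ≤ A := by
    intro z hz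
    have := mem_zpowers_of_prime_card (G := Subgroup.center P) hZcard (g := ⟨a, haZ⟩)
      (g' := ⟨z, hz⟩) (fun h => ha1 (congrArg Subtype.val h))
    obtain ⟨j, hj⟩ := Subgroup.mem_zpowers_iff.mp this
    have hj' : (a : P) ^ j = z := by
      have := congrArg Subtype.val hj
      simpa using this
    rw [← hj']
    exact A.zpow_mem a.2 j
  have hext_mul : ∀ (g : P) (b : A),
      extendByZero A lam (g * b) = extendByZero A lam g * lam b := by
    intro g b
    by_cases hg : g ∈ A
    · rw [extendByZero_of_mem A lam g hg, extendByZero_of_mem A lam (g * b) (A.mul_mem hg b.2)]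
      exact hmul ⟨g, hg⟩ b
    · have : g * b ∉ A := fun h => hg (by
        have := A.mul_mem h (A.inv_mem b.2)
        simpa using this)
      rw [extendByZero_of_not_mem A lam g hg, extendByZero_of_not_mem A lam _ this, zero_mul]
  -- vanishing
  have hvanish : ∀ x : P, x ∉ Subgroup.center P → indFun A lam x = 0 := by
    intro x hx
    obtain ⟨w, hw⟩ := commHomC_surjective hcl hZcard x hx ⟨a, haZ⟩
    have hw' : x⁻¹ * w⁻¹ * x * w = a := congrArg Subtype.val hw
    have hwd : w⁻¹ * x * w = x * (a : P) := by rw [← hw']; group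
    have h2 : ∀ y : P, (y * w)⁻¹ * x * (y * w) = (y⁻¹ * x * y) * a := by
      intro y
      have hc := Subgroup.mem_center_iff.mp (commHomC hcl x y).2
      rw [commHomC_apply] at hc
      exact conj_shift x y w (x⁻¹ * y⁻¹ * x * y) a (by group) hwd hc
    have hS : (∑ y : P, extendByZero A lam (y⁻¹ * x * y)) =
        lam a * ∑ y : P, extendByZero A lam (y⁻¹ * x * y) := by
      calc (∑ y : P, extendByZero A lam (y⁻¹ * x * y))
          = ∑ y : P, extendByZero A lam ((y * w)⁻¹ * x * (y * w)) :=
            (Fintype.sum_equiv (Equiv.mulRight w)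
              (fun y => extendByZero A lam ((y * w)⁻¹ * x * (y * w)))
              (fun y => extendByZero A lam (y⁻¹ * x * y)) (fun y => rfl)).symm
        _ = ∑ y : P, extendByZero A lam (y⁻¹ * x * y) * lam a := by
            apply Finset.sum_congr rfl
            intro y _
            rw [h2 y, hext_mul]
        _ = lam a * ∑ y : P, extendByZero A lam (y⁻¹ * x * y) := by
            rw [← Finset.sum_mul, mul_comm]
    have hS0 : (∑ y : P, extendByZero A lam (y⁻¹ * x * y)) = 0 := by
      have h3 : (1 - lam a) * (∑ y : P, extendByZero A lam (y⁻¹ * x * y)) = 0 := by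
        rw [sub_mul, one_mul, ← hS, sub_self]
      rcases mul_eq_zero.mp h3 with h | h
      · exact absurd (sub_eq_zero.mp h).symm hane
      · exact h
    unfold indFun
    rw [hS0, mul_zero]
  -- values on the centre
  have hval : ∀ (z : P) (hz : z ∈ Subgroup.center P),
      indFun A lam z = (Nat.card A : ℂ)⁻¹ * (Nat.card P : ℂ) * lam ⟨z, hZA hz⟩ := by
    intro z hz
    unfold indFun
    have : ∀ y : P, extendByZero A lam (y⁻¹ * z * y) = lam ⟨z, hZA hz⟩ := by
      intro y
      have hzy : y⁻¹ * z * y = z := by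
        have := Subgroup.mem_center_iff.mp hz y
        calc y⁻¹ * z * y = y⁻¹ * (z * y) := by group
          _ = y⁻¹ * (y * z) := by rw [this]
          _ = z := by group
      rw [hzy, extendByZero_of_mem A lam z (hZA hz)]
    rw [Finset.sum_congr rfl (fun y _ => this y), Finset.sum_const, Finset.card_univ,
      nsmul_eq_mul, Nat.card_eq_fintype_card (α := P)]
    ring
  have hnorm1 : ∀ b : A, lam b * conj (lam b) = 1 := by
    intro b
    rw [← Cfsg.Agent.helper24.char_inv hlam.1 b, ← hmul, mul_inv_cancel, hlam.2]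
  refine ⟨Cfsg.Agent.helper12.isIrrCharacter_of_classInner_self
    (Cfsg.Agent.helper12.isCharacter_indFun A hlam.1) ?_, hvanish⟩
  unfold classInner
  have hsum : ∑ g : P, indFun A lam g * conj (indFun A lam g) =
      ∑ g ∈ Finset.univ.filter (fun g : P => g ∈ Subgroup.center P),
        ((Nat.card A : ℂ)⁻¹ * (Nat.card P : ℂ)) ^ 2 := by
    rw [← Finset.sum_subset (Finset.subset_univ
      (Finset.univ.filter (fun g : P => g ∈ Subgroup.center P)))]
    · apply Finset.sum_congr rfl
      intro g hg
      have hgZ : g ∈ Subgroup.center P := (Finset.mem_filter.mp hg).2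
      rw [hval g hgZ, map_mul, map_mul, map_inv₀, Complex.conj_natCast, Complex.conj_natCast]
      have := hnorm1 ⟨g, hZA hgZ⟩
      calc (Nat.card A : ℂ)⁻¹ * (Nat.card P : ℂ) * lam ⟨g, hZA hgZ⟩ *
            ((Nat.card A : ℂ)⁻¹ * (Nat.card P : ℂ) * conj (lam ⟨g, hZA hgZ⟩))
          = ((Nat.card A : ℂ)⁻¹ * (Nat.card P : ℂ)) ^ 2 *
              (lam ⟨g, hZA hgZ⟩ * conj (lam ⟨g, hZA hgZ⟩)) := by ring
        _ = ((Nat.card A : ℂ)⁻¹ * (Nat.card P : ℂ)) ^ 2 := by rw [this, mul_one]
    · intro g _ hg
      have hgZ : g ∉ Subgroup.center P := by simpa using hg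
      rw [hvanish g hgZ, zero_mul]
  rw [hsum, Finset.sum_const, nsmul_eq_mul]
  have hcardZ : (Finset.univ.filter (fun g : P => g ∈ Subgroup.center P)).card = p := by
    rw [← hZcard, Nat.card_eq_fintype_card, Fintype.card_subtype]
  rw [hcardZ, hcard, hA]
  have hp0 : (p : ℂ) ≠ 0 := by exact_mod_cast (Fact.out : p.Prime).ne_zero
  push_cast
  field_simp
  ring

end Cfsg.Agent.S0893
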