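import Mathlib
import Cfsg.Statements.S0894
import Cfsg.Agent.Lib_helper5_Extraspecial
import Cfsg.Agent.Lib_helper23_Schur
import Cfsg.Agent.Lib_helper23_LinChar
import Cfsg.Agent.Lib_helper24_Char

set_option autoImplicit false
open Cfsg

namespace Cfsg.Agent.S0894

open Cfsg.Agent.helper5 Cfsg.Agent.helper23 Cfsg.Agent.helper24
open scoped commutatorElement ComplexConjugate

theorem scalar_norm {c : ℂ} {k : ℕ} (hk : 0 < k) (h : c ^ k = 1) : c * conj c = 1 := by
  have h1 : ‖c‖ = 1 := Complex.norm_eq_one_of_pow_eq_one h hk.ne'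
  rw [Complex.mul_conj, Complex.normSq_eq_norm_sq, h1]
  simp

/-- degrees of irreducible representations of an extraspecial group -/
theorem degree_cases {P : Type*} [Group P] [Fintype P] (p n : ℕ) [Fact p.Prime]
    (hcl : ∀ x y : P, ⁅x, y⁆ ∈ Subgroup.center P)
    (hZcard : Nat.card (Subgroup.center P) = p) (hcard : Nat.card P = p ^ (2 * n + 1))
    {d : ℕ} (ρ : Representation ℂ P (Fin d → ℂ)) (hρ : ρ.IsIrreducible) :
    d = 1 ∨ d = p ^ n := by
  classical
  have hd : 0 < d := pos_of_irreducible ρ hρ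
  have hp := (Fact.out : p.Prime)
  have hP0 : (Nat.card P : ℂ) ≠ 0 := by exact_mod_cast (Nat.card_pos (α := P)).ne'
  have hsc : ∀ z : Subgroup.center P, ∃ c : ℂ, ρ z = c • LinearMap.id := fun z =>
    exists_scalar_of_commute ρ hρ z (fun g => Subgroup.mem_center_iff.mp z.2 g)
  choose c hc using hsc
  have hirr : IsIrrCharacter P ρ.character := ⟨d, ρ, hρ, rfl⟩
  have hnorm := irr_classInner_self hirr
  unfold classInner at hnorm
  by_cases hall : ∀ z : Subgroup.center P, c z = 1
  · left
    -- every ρ x is a scalar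
    have hsc2 : ∀ x : P, ∃ s : ℂ, ρ x = s • LinearMap.id := by
      intro x
      apply schur_scalar ρ hρ
      intro g
      have hz := hc (commHomC hcl x g)
      rw [hall, one_smul] at hz
      have e : x * g = g * x * (x⁻¹ * g⁻¹ * x * g) := by group
      rw [← Module.End.mul_eq_comp, ← Module.End.mul_eq_comp, ← map_mul, ← map_mul, e, map_mul]
      rw [commHomC_apply] at hz
      rw [hz]
      rfl
    choose s hs using hsc2
    have hterm : ∀ x : P, ρ.character x * conj (ρ.character x) = (d : ℂ) ^ 2 := by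
      intro x
      rw [char_of_scalar ρ (hs x), map_mul, Complex.conj_natCast]
      have h1 : s x ^ orderOf x = 1 :=
        scalar_pow_eq_one ρ hd (hs x) (orderOf x) (pow_orderOf_eq_one x)
      have h2 := scalar_norm (orderOf_pos x) h1
      calc s x * (d : ℂ) * (conj (s x) * (d : ℂ)) = (s x * conj (s x)) * (d : ℂ) ^ 2 := by ring
        _ = (d : ℂ) ^ 2 := by rw [h2, one_mul]
    rw [Finset.sum_congr rfl (fun x _ => hterm x), Finset.sum_const, Finset.card_univ,
      nsmul_eq_mul, ← Nat.card_eq_fintype_card, ← mul_assoc, inv_mul_cancel₀ hP0, one_mul] at hnorm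
    have : d ^ 2 = 1 := by exact_mod_cast hnorm
    exact (Nat.pow_eq_one.mp this).resolve_right (by norm_num)
  · right
    push Not at hall
    obtain ⟨z₀, hz₀⟩ := hall
    have hvanish : ∀ x : P, x ∉ Subgroup.center P → ρ.character x = 0 := by
      intro x hx
      obtain ⟨w, hw⟩ := commHomC_surjective hcl hZcard x hx z₀
      have hw' : x⁻¹ * w⁻¹ * x * w = (z₀ : P) := congrArg Subtype.val hw
      have h1 : w⁻¹ * x * (w⁻¹)⁻¹ = x * (z₀ : P) := by rw [← hw']; group
      have h2 : ρ.character (w⁻¹ * x * (w⁻¹)⁻¹) = ρ.character x := Representation.char_conj ρ x w⁻¹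
      rw [h1, char_mul_scalar ρ (hc z₀)] at h2
      have h3 : (c z₀ - 1) * ρ.character x = 0 := by rw [sub_mul, one_mul, h2, sub_self]
      rcases mul_eq_zero.mp h3 with h | h
      · exact absurd (sub_eq_zero.mp h) hz₀
      · exact h
    have hsum : ∑ g : P, ρ.character g * conj (ρ.character g) =
        ∑ g ∈ Finset.univ.filter (fun g : P => g ∈ Subgroup.center P), (d : ℂ) ^ 2 := by
      rw [← Finset.sum_subset (Finset.subset_univ
        (Finset.univ.filter (fun g : P => g ∈ Subgroup.center P)))]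
      · apply Finset.sum_congr rfl
        intro g hg
        have hgZ : g ∈ Subgroup.center P := (Finset.mem_filter.mp hg).2
        have hcg := hc ⟨g, hgZ⟩
        rw [char_of_scalar ρ hcg, map_mul, Complex.conj_natCast]
        have h1 : c ⟨g, hgZ⟩ ^ orderOf g = 1 :=
          scalar_pow_eq_one ρ hd hcg (orderOf g) (pow_orderOf_eq_one g)
        have h2 := scalar_norm (orderOf_pos g) h1
        calc c ⟨g, hgZ⟩ * (d : ℂ) * (conj (c ⟨g, hgZ⟩) * (d : ℂ))
            = (c ⟨g, hgZ⟩ * conj (c ⟨g, hgZ⟩)) * (d : ℂ) ^ 2 := by ring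
          _ = (d : ℂ) ^ 2 := by rw [h2, one_mul]
      · intro g _ hg
        have hgZ : g ∉ Subgroup.center P := by simpa using hg
        rw [hvanish g hgZ, zero_mul]
    have hcardZ : (Finset.univ.filter (fun g : P => g ∈ Subgroup.center P)).card = p := by
      rw [← hZcard, Nat.card_eq_fintype_card, Fintype.card_subtype]
    rw [hsum, Finset.sum_const, nsmul_eq_mul, hcardZ, hcard] at hnorm
    have hp0 : (p : ℂ) ≠ 0 := by exact_mod_cast hp.ne_zero
    have h4 : (p : ℂ) * (d : ℂ) ^ 2 = ((p ^ (2 * n + 1) : ℕ) : ℂ) := by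
      have h5 : ((p ^ (2 * n + 1) : ℕ) : ℂ) ≠ 0 := by
        exact_mod_cast (pow_pos hp.pos _).ne'
      field_simp at hnorm
      linear_combination hnorm
    have h5 : p * d ^ 2 = p ^ (2 * n + 1) := by exact_mod_cast h4
    have h6 : d ^ 2 = (p ^ n) ^ 2 := by
      have : p * d ^ 2 = p * (p ^ n) ^ 2 := by rw [h5]; ring
      exact Nat.eq_of_mul_eq_mul_left hp.pos this
    exact Nat.pow_left_injective (by norm_num : 2 ≠ 0) h6

/-- Let P be an extraspecial p-group of order p ^ (2 * n + 1). Then every irreducible character of P has degree 1 or p ^ n, and exactly p - 1 of them have degree p ^ n. -/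
theorem result {P : Type*} [Group P] [Finite P] (p n : ℕ) [Fact p.Prime] (hP : Cfsg.IsExtraspecial p P) (hcard : Nat.card P = p ^ (2 * n + 1)) : (∀ χ : Cfsg.IrrCharacter P, (χ : P → ℂ) 1 = 1 ∨ (χ : P → ℂ) 1 = (p : ℂ) ^ n) ∧ Nat.card {χ : Cfsg.IrrCharacter P // (χ : P → ℂ) 1 = (p : ℂ) ^ n} = p - 1 := by
  classical
  haveI := Fintype.ofFinite P
  haveI : Fintype (IrrCharacter P) := Fintype.ofFinite _
  have hp := (Fact.out : p.Prime)
  obtain ⟨⟨hpg, hfr, hcomm⟩, hZcard⟩ := hP
  have hcl : ∀ x y : P, ⁅x, y⁆ ∈ Subgroup.center P := by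
    intro x y
    rw [← hcomm, commutator_def]
    exact Subgroup.commutator_mem_commutator (Subgroup.mem_top x) (Subgroup.mem_top y)
  -- degrees
  have hdeg : ∀ χ : IrrCharacter P, charDegree (χ : P → ℂ) = 1 ∨ charDegree (χ : P → ℂ) = p ^ n := by
    intro χ
    obtain ⟨d, ρ, hρ, hχ⟩ := χ.2
    have h1 : (χ : P → ℂ) 1 = d := by
      rw [← hχ, Representation.char_one, Module.finrank_fin_fun]
    rw [charDegree_natCast _ d h1]
    exact degree_cases p n hcl hZcard hcard ρ hρ
  have hval : ∀ χ : IrrCharacter P, (χ : P → ℂ) 1 = (charDegree (χ : P → ℂ) : ℂ) :=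
    fun χ => (char_charDegree_cast (irr_isCharacter χ.2)).symm
  have hpart1 : ∀ χ : Cfsg.IrrCharacter P, (χ : P → ℂ) 1 = 1 ∨ (χ : P → ℂ) 1 = (p : ℂ) ^ n := by
    intro χ
    rcases hdeg χ with h | h
    · left; rw [hval, h]; simp
    · right; rw [hval, h]; simp
  refine ⟨hpart1, ?_⟩
  -- number of linear characters
  have hlin : Nat.card {χ : IrrCharacter P // charDegree (χ : P → ℂ) = 1} = p ^ (2 * n) := by
    have e : (P →* ℂˣ) ≃ {χ : IrrCharacter P // charDegree (χ : P → ℂ) = 1} :=
      Equiv.ofBijective (fun lam => ⟨linIrr lam, by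
        apply charDegree_natCast
        rw [linIrr_apply, map_one]; simp⟩) (by
        constructor
        · intro a b hab
          exact linIrr_injective (congrArg Subtype.val hab)
        · rintro ⟨χ, hχ⟩
          have h1 : (χ : P → ℂ) 1 = 1 := by rw [hval, hχ]; simp
          obtain ⟨lam, hlam⟩ := exists_hom_of_linear (irr_isCharacter χ.2) h1
          refine ⟨lam, ?_⟩
          apply Subtype.ext
          apply Subtype.ext
          funext g
          rw [linIrr_apply, hlam])
    rw [← Nat.card_congr e, Nat.card_congr (Abelianization.lift (G := P) (A := ℂˣ)),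
      CommGroup.card_monoidHom_of_hasEnoughRootsOfUnity (Abelianization P) ℂ]
    have h1 : Nat.card (Abelianization P) = (commutator P).index :=
      (Subgroup.index_eq_card (commutator P)).symm
    have h2 := Subgroup.card_mul_index (commutator P)
    rw [hcomm, hZcard, hcard] at h2
    rw [h1, hcomm]
    have h3 : p * p ^ (2 * n) = p ^ (2 * n + 1) := by ring
    exact Nat.eq_of_mul_eq_mul_left hp.pos (h2.trans h3.symm)
  -- sum of squares
  have hsq := sum_irr_degree_sq (G := P)
  rw [hcard] at hsq
  have hn0 : n ≠ 0 := by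
    rintro rfl
    -- all degrees are 1, so the number of irreducible characters is both 1 and p
    have hall : ∀ χ : IrrCharacter P, charDegree (χ : P → ℂ) = 1 := by
      intro χ
      rcases hdeg χ with h | h
      · exact h
      · simpa using h
    rw [Finset.sum_congr rfl (fun χ _ => by rw [hall χ])] at hsq
    simp only [one_pow, Finset.sum_const, Finset.card_univ, smul_eq_mul, mul_one, mul_zero,
      zero_add, pow_one] at hsq
    have h1 : Nat.card {χ : IrrCharacter P // charDegree (χ : P → ℂ) = 1} = Fintype.card (IrrCharacter P) := by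
      rw [Nat.card_eq_fintype_card, Fintype.card_subtype]
      congr 1
      ext χ
      simp [hall χ]
    rw [hlin, hsq] at h1
    simp only [mul_zero, pow_zero] at h1
    have := hp.one_lt
    omega
  have hpn1 : p ^ n ≠ 1 := by
    intro h
    rcases Nat.pow_eq_one.mp h with h | h
    · exact hp.one_lt.ne' h
    · exact hn0 h
  -- split the sum
  have hsplit : ∑ χ : IrrCharacter P, charDegree (χ : P → ℂ) ^ 2 =
      (Finset.univ.filter (fun χ : IrrCharacter P => charDegree (χ : P → ℂ) = 1)).card +
      (Finset.univ.filter (fun χ : IrrCharacter P => ¬ charDegree (χ : P → ℂ) = 1)).card *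
        (p ^ n) ^ 2 := by
    have : ∀ χ : IrrCharacter P, charDegree (χ : P → ℂ) ^ 2 =
        if charDegree (χ : P → ℂ) = 1 then 1 else (p ^ n) ^ 2 := by
      intro χ
      by_cases h : charDegree (χ : P → ℂ) = 1
      · rw [if_pos h, h, one_pow]
      · rw [if_neg h, (hdeg χ).resolve_left h]
    rw [Finset.sum_congr rfl (fun χ _ => this χ), Finset.sum_ite, Finset.sum_const,
      Finset.sum_const, smul_eq_mul, smul_eq_mul, mul_one]
  have hc1 : (Finset.univ.filter (fun χ : IrrCharacter P => charDegree (χ : P → ℂ) = 1)).card =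
      p ^ (2 * n) := by
    rw [← hlin, Nat.card_eq_fintype_card, Fintype.card_subtype]
  have hK : Nat.card {χ : Cfsg.IrrCharacter P // (χ : P → ℂ) 1 = (p : ℂ) ^ n} =
      (Finset.univ.filter (fun χ : IrrCharacter P => ¬ charDegree (χ : P → ℂ) = 1)).card := by
    rw [Nat.card_eq_fintype_card, Fintype.card_subtype]
    congr 1
    ext χ
    simp only [Finset.mem_filter, Finset.mem_univ, true_and]
    constructor
    · intro h h1
      rw [hval, h1] at h
      have : (1 : ℕ) = p ^ n := by exact_mod_cast h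
      exact hpn1 this.symm
    · intro h
      rw [hval, (hdeg χ).resolve_left h]
      simp
  rw [hK]
  rw [hsplit, hc1] at hsq
  set k := (Finset.univ.filter (fun χ : IrrCharacter P => ¬ charDegree (χ : P → ℂ) = 1)).card
  have h7 : p ^ (2 * n) * (1 + k) = p ^ (2 * n) * p := by
    have : (p ^ n) ^ 2 = p ^ (2 * n) := by ring
    rw [this] at hsq
    calc p ^ (2 * n) * (1 + k) = p ^ (2 * n) + k * p ^ (2 * n) := by ring
      _ = p ^ (2 * n + 1) := hsq
      _ = p ^ (2 * n) * p := by ring
  have h8 := Nat.eq_of_mul_eq_mul_left (pow_pos hp.pos _) h7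
  omega

end Cfsg.Agent.S0894
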