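import Mathlib
import Cfsg.Statements.S0895
import Cfsg.Agent.Lib_helper22_FS

set_option autoImplicit false
open Cfsg

namespace Cfsg.Agent.S0895

open Cfsg.Agent.helper22
open Matrix

/-- Let χ be a real-valued irreducible character of a finite group G whose degree is an odd natural number. Then the average over s in G of χ (s * s) equals 1. -/
theorem result {G : Type*} [Group G] [Fintype G] (χ : G → ℂ) (hχ : Cfsg.IsIrrCharacter G χ) (hreal : ∀ g : G, (χ g).im = 0) (d : ℕ) (hd : χ 1 = d) (hodd : Odd d) : (Nat.card G : ℂ)⁻¹ * ∑ s : G, χ (s * s) = 1 := by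
  obtain ⟨n, ρ, hρ, rfl⟩ := hχ
  have hn : n = d := by
    rw [Representation.char_one, Module.finrank_fin_fun] at hd
    exact_mod_cast hd
  subst hn
  change fsRep ρ = 1
  rcases fs_of_real ρ hρ hreal with h | h
  · exact h
  · exfalso
    obtain ⟨M, hM0, hM⟩ := exists_invariant_of_real ρ hρ hreal
    have hT := fs_transpose ρ hρ M hM
    rw [h] at hT
    have hU := isUnit_of_invariant ρ hρ M hM0 hM
    have hdet : IsUnit M.det := (Matrix.isUnit_iff_isUnit_det M).mp hU
    have h1 : Mᵀ.det = M.det := Matrix.det_transpose M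
    rw [hT, Matrix.det_smul, Fintype.card_fin, hodd.neg_one_pow] at h1
    have h2 : M.det = 0 := by linear_combination (-1/2 : ℂ) * h1
    exact hdet.ne_zero h2

end Cfsg.Agent.S0895
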