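import Mathlib
import Cfsg.Statements.S0900
import Cfsg.Agent.Lib_helper5_Clifford

set_option autoImplicit false
open Cfsg

namespace Cfsg.Agent.S0900

open Cfsg.Agent.helper5 Cfsg.Agent.helper8 Cfsg.Agent.helper12 Cfsg.Agent.helper24
open scoped ComplexConjugate

/-- real form of a norm computation -/
theorem sum_normSq_of_classInner {H : Type*} [Group H] [Fintype H] (f : H → ℂ) (r : ℝ)
    (h : classInner f f = (r : ℂ)) : ∑ x : H, Complex.normSq (f x) = (Nat.card H : ℝ) * r := by
  unfold classInner at h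
  have hH0 : (Nat.card H : ℂ) ≠ 0 := by exact_mod_cast (Nat.card_pos (α := H)).ne'
  have h1 : ∑ x : H, f x * conj (f x) = (Nat.card H : ℂ) * (r : ℂ) := by
    rw [← h, ← mul_assoc, mul_inv_cancel₀ hH0, one_mul]
  have h2 : ((∑ x : H, Complex.normSq (f x) : ℝ) : ℂ) = (((Nat.card H : ℝ) * r : ℝ) : ℂ) := by
    rw [Complex.ofReal_sum]
    rw [Finset.sum_congr rfl (fun x _ => (Complex.mul_conj (f x)).symm), h1]
    push_cast
    rfl
  exact_mod_cast h2

theorem sum_split {G : Type*} [Group G] [Fintype G] (N : Subgroup G) [Fintype N]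
    [DecidablePred fun g : G => g ∈ N] (F : G → ℝ) :
    ∑ g : G, F g = ∑ n : N, F n + ∑ g ∈ Finset.univ.filter (fun g : G => g ∉ N), F g := by
  rw [← Finset.sum_filter_add_sum_filter_not Finset.univ (fun g : G => g ∈ N) F]
  congr 1
  rw [Finset.sum_subtype (Finset.univ.filter (fun y : G => y ∈ N)) (p := fun y => y ∈ N)
    (by intro y; simp) F]

/-- Let N be a normal subgroup of the finite group G, χ an irreducible character of G and ϑ an irreducible character of N having nonzero inner product with the restriction of χ. Consider: (a) the restriction of χ to N is e • ϑ for a natural number e with e ^ 2 equal to the index of N; (b) χ vanishes outside N and ϑ is invariant under conjugation by G; (c) ϑ is invariant and every irreducible character of G having nonzero inner product with the function induced from ϑ equals χ. Then (a) ↔ (b) and (a) ↔ (c). -/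
theorem result {G : Type*} [Group G] [Fintype G] (N : Subgroup G) [hN : N.Normal] [Fintype N] (χ : G → ℂ) (hχ : Cfsg.IsIrrCharacter G χ) (ϑ : N → ℂ) (hϑ : Cfsg.IsIrrCharacter N ϑ) (hcon : Cfsg.classInner (fun n : N => χ n) ϑ ≠ 0) : ((∃ e : ℕ, (fun n : N => χ n) = (e : ℂ) • ϑ ∧ e ^ 2 = N.index) ↔ ((∀ g : G, g ∉ N → χ g = 0) ∧ ∀ (g : G) (n : N), ϑ ⟨g * n * g⁻¹, hN.conj_mem (n : G) n.2 g⟩ = ϑ n)) ∧ ((∃ e : ℕ, (fun n : N => χ n) = (e : ℂ) • ϑ ∧ e ^ 2 = N.index) ↔ (∀ (g : G) (n : N), ϑ ⟨g * n * g⁻¹, hN.conj_mem (n : G) n.2 g⟩ = ϑ n ∧ ∀ ψ : G → ℂ, Cfsg.IsIrrCharacter G ψ → Cfsg.classInner (Cfsg.indFun N ϑ) ψ ≠ 0 → ψ = χ)) := by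
  classical
  haveI : Fintype (IrrCharacter G) := Fintype.ofFinite _
  have hχc := irr_isCharacter hχ
  have hcon' : classInner (res N χ) ϑ ≠ 0 := hcon
  have hidx := Subgroup.card_mul_index N
  have hNpos : (0 : ℝ) < (Nat.card N : ℝ) := by exact_mod_cast (Nat.card_pos (α := N))
  -- invariance from (a)
  have hinv_of_a : ∀ e : ℕ, (fun n : N => χ n) = (e : ℂ) • ϑ → e ≠ 0 →
      ∀ (g : G) (n : N), ϑ ⟨g * n * g⁻¹, hN.conj_mem (n : G) n.2 g⟩ = ϑ n := by
    intro e he he0 g n
    have h1 := congrFun he ⟨g * n * g⁻¹, hN.conj_mem (n : G) n.2 g⟩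
    have h2 := congrFun he n
    simp only [Pi.smul_apply, smul_eq_mul] at h1 h2
    have h3 : χ (g * n * g⁻¹) = χ n := char_isClassFunction hχc n g
    have he0' : (e : ℂ) ≠ 0 := by exact_mod_cast he0
    apply mul_left_cancel₀ he0'
    rw [← h1, ← h2, h3]
  have hinv_conv : (∀ (g : G) (n : N), ϑ ⟨g * n * g⁻¹, hN.conj_mem (n : G) n.2 g⟩ = ϑ n) →
      ∀ g : G, conjFunN N g ϑ = ϑ := fun h g => funext (fun n => h g n)
  -- the norm of χ
  have hnormG : ∑ g : G, Complex.normSq (χ g) = (Nat.card G : ℝ) := by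
    have := sum_normSq_of_classInner χ 1 (by rw [irr_classInner_self hχ]; simp)
    rw [this, mul_one]
  have hnormN : ∀ e : ℕ, (fun n : N => χ n) = (e : ℂ) • ϑ →
      ∑ n : N, Complex.normSq (χ n) = (Nat.card N : ℝ) * (e : ℝ) ^ 2 := by
    intro e he
    apply sum_normSq_of_classInner (fun n : N => χ n) ((e : ℝ) ^ 2)
    rw [he, classInner_smul_left, classInner_smul_right, irr_classInner_self hϑ,
      Complex.conj_natCast]
    push_cast
    ring
  have hsplit : ∑ g : G, Complex.normSq (χ g) = ∑ n : N, Complex.normSq (χ n) +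
      ∑ g ∈ Finset.univ.filter (fun g : G => g ∉ N), Complex.normSq (χ g) :=
    sum_split N (fun g => Complex.normSq (χ g))
  have he0_of : ∀ e : ℕ, e ^ 2 = N.index → e ≠ 0 := by
    intro e he h0
    rw [h0] at he
    have : N.index ≠ 0 := Subgroup.index_ne_zero_of_finite
    exact this (by simpa using he.symm)
  -- decomposition of the induced character
  obtain ⟨a, hexp, ha, hnormInd⟩ := char_decomp (isCharacter_indFun N (irr_isCharacter hϑ))
  have haχ : ∀ e : ℕ, (fun n : N => χ n) = (e : ℂ) • ϑ → a ⟨χ, hχ⟩ = e := by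
    intro e he
    have h1 := ha ⟨χ, hχ⟩
    rw [classInner_indFun_irr N ϑ hχc] at h1
    have h2 : res N χ = (e : ℂ) • ϑ := he
    rw [h2, classInner_smul_right, irr_classInner_self hϑ, Complex.conj_natCast, mul_one] at h1
    exact_mod_cast h1.symm
  have hsumsq : (∀ g : G, conjFunN N g ϑ = ϑ) → ∑ ψ : IrrCharacter G, a ψ ^ 2 = N.index := by
    intro hinv
    rw [classInner_indFun_self_of_invariant N hϑ hinv] at hnormInd
    exact_mod_cast hnormInd.symm
  refine ⟨⟨?_, ?_⟩, ⟨?_, ?_⟩⟩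
  · -- (a) → (b)
    rintro ⟨e, he, he2⟩
    have he0 := he0_of e he2
    refine ⟨?_, hinv_of_a e he he0⟩
    have h1 := hnormN e he
    have h2 : (Nat.card N : ℝ) * (e : ℝ) ^ 2 = (Nat.card G : ℝ) := by
      have : ((Nat.card N * e ^ 2 : ℕ) : ℝ) = ((Nat.card G : ℕ) : ℝ) := by
        rw [he2, hidx]
      push_cast at this
      exact this
    have h3 : ∑ g ∈ Finset.univ.filter (fun g : G => g ∉ N), Complex.normSq (χ g) = 0 := by
      linarith
    intro g hg
    have h4 := (Finset.sum_eq_zero_iff_of_nonneg (fun g _ => Complex.normSq_nonneg (χ g))).mp h3 g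
      (by simp [hg])
    exact Complex.normSq_eq_zero.mp h4
  · -- (b) → (a)
    rintro ⟨hvan, hinv⟩
    obtain ⟨e, he, _, he0⟩ := clifford_invariant N hχ hϑ (hinv_conv hinv) hcon'
    refine ⟨e, he, ?_⟩
    have h1 := hnormN e he
    have h3 : ∑ g ∈ Finset.univ.filter (fun g : G => g ∉ N), Complex.normSq (χ g) = 0 := by
      apply Finset.sum_eq_zero
      intro g hg
      have : g ∉ N := by simpa using hg
      rw [hvan g this]; simp
    rw [h3, add_zero, hnormG, h1] at hsplit
    have h4 : ((Nat.card N * N.index : ℕ) : ℝ) = ((Nat.card N * e ^ 2 : ℕ) : ℝ) := by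
      rw [hidx]
      push_cast
      exact hsplit
    have h5 : Nat.card N * N.index = Nat.card N * e ^ 2 := by exact_mod_cast h4
    exact (Nat.eq_of_mul_eq_mul_left Nat.card_pos h5).symm
  · -- (a) → (c)
    rintro ⟨e, he, he2⟩ g n
    have he0 := he0_of e he2
    have hinv := hinv_of_a e he he0
    refine ⟨hinv g n, ?_⟩
    intro ψ hψ hne
    have hs := hsumsq (hinv_conv hinv)
    have hae := haχ e he
    rw [← Finset.add_sum_erase Finset.univ (fun ψ => a ψ ^ 2) (Finset.mem_univ ⟨χ, hχ⟩), hae,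
      ← he2] at hs
    have hzero : ∑ ψ' ∈ Finset.univ.erase (⟨χ, hχ⟩ : IrrCharacter G), a ψ' ^ 2 = 0 :=
      Nat.add_left_cancel (n := e ^ 2) (by rw [hs, add_zero])
    by_contra hψχ
    have hmem : (⟨ψ, hψ⟩ : IrrCharacter G) ∈ Finset.univ.erase (⟨χ, hχ⟩ : IrrCharacter G) := by
      rw [Finset.mem_erase]
      exact ⟨fun h => hψχ (congrArg Subtype.val h), Finset.mem_univ _⟩
    have h0 := (Finset.sum_eq_zero_iff.mp hzero) _ hmem
    have h0' : a ⟨ψ, hψ⟩ = 0 := by
      rcases Nat.pow_eq_zero.mp h0 with ⟨h, _⟩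
      exact h
    apply hne
    rw [ha ⟨ψ, hψ⟩, h0']
    simp
  · -- (c) → (a)
    intro hc
    have hinv : ∀ (g : G) (n : N), ϑ ⟨g * n * g⁻¹, hN.conj_mem (n : G) n.2 g⟩ = ϑ n :=
      fun g n => (hc g n).1
    have huniq := (hc 1 1).2
    obtain ⟨e, he, _, he0⟩ := clifford_invariant N hχ hϑ (hinv_conv hinv) hcon'
    refine ⟨e, he, ?_⟩
    have hs := hsumsq (hinv_conv hinv)
    have hae := haχ e he
    rw [Finset.sum_eq_single (⟨χ, hχ⟩ : IrrCharacter G), hae] at hs
    · exact hs
    · intro ψ _ hψ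
      have : a ψ = 0 := by
        by_contra h0
        apply hψ
        apply Subtype.ext
        apply huniq ψ.1 ψ.2
        rw [ha ψ]
        exact_mod_cast h0
      rw [this]; simp
    · intro h
      exact absurd (Finset.mem_univ _) h

end Cfsg.Agent.S0900
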