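import Cfsg.Statements.S0901
import Mathlib

set_option autoImplicit false
open Cfsg

namespace Cfsg.Agent.S0901

theorem part1 (p : ℕ) [Fact p.Prime] (M : Ideal AlgInt) (hM : IsPModular p M)
    (ε₁ ε₂ : AlgInt) (h1 : ∃ m : ℕ, ¬ p ∣ m ∧ (ε₁ : ℂ) ^ m = 1)
    (h2 : ∃ m : ℕ, ¬ p ∣ m ∧ (ε₂ : ℂ) ^ m = 1) (h : ε₁ - ε₂ ∈ M) : ε₁ = ε₂ := by
  obtain ⟨m₁, hm₁, e₁⟩ := h1
  obtain ⟨m₂, hm₂, e₂⟩ := h2
  have hp : p.Prime := Fact.out
  set m := m₁ * m₂ with hm
  have hpm : ¬ p ∣ m := fun hd => (hp.dvd_mul.mp hd).elim hm₁ hm₂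
  have hm0 : m ≠ 0 := fun h0 => hpm (h0 ▸ dvd_zero p)
  have E₁ : ε₁ ^ m = 1 := Subtype.ext (by push_cast; rw [hm, pow_mul, e₁, one_pow])
  have E₂ : ε₂ ^ m = 1 := Subtype.ext (by push_cast; rw [hm, mul_comm, pow_mul, e₂, one_pow])
  obtain ⟨n, hn⟩ : ∃ n, m = n + 1 := Nat.exists_eq_succ_of_ne_zero hm0
  set ζ := ε₁ * ε₂ ^ n with hζ
  have hinv : ε₂ ^ n * ε₂ = 1 := by rw [← pow_succ, ← hn, E₂]
  have hζm : ζ ^ m = 1 := by
    rw [hζ, mul_pow, E₁, one_mul, ← pow_mul, mul_comm n m, pow_mul, E₂, one_pow]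
  have hζ1 : ζ - 1 ∈ M := by
    have : ζ - 1 = ε₂ ^ n * (ε₁ - ε₂) := by
      rw [mul_sub, hinv, hζ, mul_comm]
    rw [this]; exact M.mul_mem_left _ h
  have hgeom : (∑ i ∈ Finset.range m, ζ ^ i) * (ζ - 1) = 0 := by rw [geom_sum_mul, hζm, sub_self]
  rcases mul_eq_zero.mp hgeom with h0 | h0
  · exfalso
    have hmM : (m : AlgInt) ∈ M := by
      have : (m : AlgInt) = (∑ i ∈ Finset.range m, (1 - ζ ^ i)) := by
        rw [Finset.sum_sub_distrib, h0, sub_zero]; simp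
      rw [this]
      refine M.sum_mem (fun i _ => ?_)
      have : 1 - ζ ^ i = -((∑ j ∈ Finset.range i, ζ ^ j) * (ζ - 1)) := by rw [geom_sum_mul]; ring
      rw [this]; exact M.neg_mem (M.mul_mem_left _ hζ1)
    have hcop : Nat.Coprime m p := ((Nat.Prime.coprime_iff_not_dvd hp).mpr hpm).symm
    obtain ⟨a, b, hab⟩ := Nat.isCoprime_iff_coprime.mpr hcop
    have h1M : (1 : AlgInt) ∈ M := by
      have h1 : (1 : AlgInt) = (a : AlgInt) * (m : AlgInt) + (b : AlgInt) * (p : AlgInt) := by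
        have := congrArg (Int.cast : ℤ → AlgInt) hab
        push_cast at this
        exact this.symm
      rw [h1]; exact M.add_mem (M.mul_mem_left _ hmM) (M.mul_mem_left _ hM.2.2)
    exact hM.2.1.ne_top ((Ideal.eq_top_iff_one M).mpr h1M)
  · have hζe : ζ = 1 := sub_eq_zero.mp h0
    calc ε₁ = ε₁ * (ε₂ ^ n * ε₂) := by rw [hinv, mul_one]
      _ = ζ * ε₂ := by rw [hζ]; ring
      _ = ε₂ := by rw [hζe, one_mul]

theorem part2 (p : ℕ) [Fact p.Prime] (M : Ideal AlgInt) (hM : IsPModular p M)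
    (a : AlgInt) (ha : a ∉ M) :
    ∃ ε : AlgInt, (∃ m : ℕ, ¬ p ∣ m ∧ (ε : ℂ) ^ m = 1) ∧ a - ε ∈ M := by
  classical
  have hp : p.Prime := Fact.out
  haveI : M.IsMaximal := hM.2.1
  letI : Field (AlgInt ⧸ M) := Ideal.Quotient.field M
  have hp0 : ((p : ℕ) : AlgInt ⧸ M) = 0 := by
    rw [← map_natCast (Ideal.Quotient.mk M), Ideal.Quotient.eq_zero_iff_mem]; exact hM.2.2
  haveI : CharP (AlgInt ⧸ M) p := (CharP.charP_iff_prime_eq_zero hp).mpr hp0
  letI : Algebra (ZMod p) (AlgInt ⧸ M) := ZMod.algebra _ p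
  have hā : Ideal.Quotient.mk M a ≠ 0 := fun h => ha (Ideal.Quotient.eq_zero_iff_mem.mp h)
  have hint : IsIntegral (ZMod p) (Ideal.Quotient.mk M a) := by
    have h1 : IsIntegral ℤ a := integralClosure.isIntegral a
    have h2 : IsIntegral ℤ (Ideal.Quotient.mkₐ ℤ M a) := h1.map (Ideal.Quotient.mkₐ ℤ M)
    rw [Ideal.Quotient.mkₐ_eq_mk] at h2
    exact h2.tower_top
  -- the finite field generated by the residue of a
  set K' := IntermediateField.adjoin (ZMod p) ({Ideal.Quotient.mk M a} : Set (AlgInt ⧸ M)) with hK'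
  haveI : FiniteDimensional (ZMod p) K' := IntermediateField.adjoin.finiteDimensional hint
  haveI : Finite K' := Module.finite_of_finite (ZMod p)
  haveI : Fintype K' := Fintype.ofFinite K'
  haveI : CharP K' p := charP_of_injective_algebraMap (algebraMap (ZMod p) K').injective p
  let x : K' := ⟨Ideal.Quotient.mk M a, IntermediateField.mem_adjoin_simple_self _ _⟩
  have hx0 : x ≠ 0 := by
    intro h
    apply hā
    have h' : ((x : K') : AlgInt ⧸ M) = ((0 : K') : AlgInt ⧸ M) := congrArg _ h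
    rw [ZeroMemClass.coe_zero] at h'
    exact h'
  have hxpow := FiniteField.pow_card_sub_one_eq_one x hx0
  obtain ⟨n, hn⟩ := FiniteField.card K' p
  set e := Fintype.card K' - 1 with he
  have hcard1 : 1 < Fintype.card K' := Fintype.one_lt_card
  have he0 : e ≠ 0 := by omega
  have hpe : ¬ p ∣ e := by
    intro hd
    have h1 : p ∣ Fintype.card K' := by
      rw [hn.2]; exact dvd_pow_self p n.ne_zero
    have h2 : p ∣ Fintype.card K' - e := Nat.dvd_sub h1 hd
    have h3 : Fintype.card K' - e = 1 := by omega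
    rw [h3] at h2
    exact hp.one_lt.ne' (Nat.dvd_one.mp h2)
  have hāpow : (Ideal.Quotient.mk M a) ^ e = 1 := by
    have h' : ((x ^ e : K') : AlgInt ⧸ M) = ((1 : K') : AlgInt ⧸ M) := congrArg _ hxpow
    rw [SubmonoidClass.coe_pow, OneMemClass.coe_one] at h'
    exact h'
  -- the complex e-th roots of unity
  have hprim := Complex.isPrimitiveRoot_exp e he0
  set ζ := Complex.exp (2 * Real.pi * Complex.I / (e : ℂ)) with hζ
  have hζint : IsIntegral ℤ ζ := hprim.isIntegral (Nat.pos_of_ne_zero he0)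
  let z : AlgInt := ⟨ζ, hζint⟩
  have hzpow : ∀ j : ℕ, (((z ^ j : AlgInt) : ℂ)) ^ e = 1 := by
    intro j
    push_cast
    show (ζ ^ j) ^ e = 1
    rw [← pow_mul, mul_comm, pow_mul, hprim.pow_eq_one, one_pow]
  set S : Finset (AlgInt ⧸ M) := (Finset.range e).image (fun j => Ideal.Quotient.mk M (z ^ j)) with hS
  have hScard : S.card = e := by
    rw [hS, Finset.card_image_of_injOn, Finset.card_range]
    intro i hi j hj hij
    simp only [Finset.coe_range, Set.mem_Iio] at hi hj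
    have hmem : z ^ i - z ^ j ∈ M := Ideal.Quotient.eq.mp hij
    have heq := part1 p M hM (z ^ i) (z ^ j) ⟨e, hpe, hzpow i⟩ ⟨e, hpe, hzpow j⟩ hmem
    have heq' : ζ ^ i = ζ ^ j := by
      have := congrArg (Subtype.val) heq
      simpa using this
    exact hprim.pow_inj hi hj heq'
  have hSsub : S ⊆ Polynomial.nthRootsFinset e (1 : AlgInt ⧸ M) := by
    intro y hy
    obtain ⟨j, -, rfl⟩ := Finset.mem_image.mp hy
    rw [Polynomial.mem_nthRootsFinset (Nat.pos_of_ne_zero he0)]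
    rw [← map_pow]
    have : (z ^ j) ^ e = 1 := Subtype.ext (by simpa using hzpow j)
    rw [this, map_one]
  have hcardle : (Polynomial.nthRootsFinset e (1 : AlgInt ⧸ M)).card ≤ S.card := by
    rw [hScard, Polynomial.nthRootsFinset_def]
    exact (Multiset.toFinset_card_le _).trans (Polynomial.card_nthRoots e 1)
  have hSeq := Finset.eq_of_subset_of_card_le hSsub hcardle
  have hamem : Ideal.Quotient.mk M a ∈ S := by
    rw [hSeq, Polynomial.mem_nthRootsFinset (Nat.pos_of_ne_zero he0)]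
    exact hāpow
  obtain ⟨j, -, hj⟩ := Finset.mem_image.mp hamem
  refine ⟨z ^ j, ⟨e, hpe, hzpow j⟩, ?_⟩
  exact Ideal.Quotient.eq.mp hj.symm

/-- Let M be a maximal ideal of the ring of algebraic integers containing the prime p, and let U be the set of complex roots of unity of order prime to p. Then reduction modulo M is injective on U, and every algebraic integer not in M is congruent modulo M to an element of U (so U maps bijectively onto the nonzero residues). -/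
theorem result (p : ℕ) [Fact p.Prime] (M : Ideal Cfsg.AlgInt) (hM : Cfsg.IsPModular p M) : (∀ ε₁ ε₂ : Cfsg.AlgInt, (∃ m : ℕ, ¬ p ∣ m ∧ (ε₁ : ℂ) ^ m = 1) → (∃ m : ℕ, ¬ p ∣ m ∧ (ε₂ : ℂ) ^ m = 1) → ε₁ - ε₂ ∈ M → ε₁ = ε₂) ∧ (∀ a : Cfsg.AlgInt, a ∉ M → ∃ ε : Cfsg.AlgInt, (∃ m : ℕ, ¬ p ∣ m ∧ (ε : ℂ) ^ m = 1) ∧ a - ε ∈ M) := by
  exact ⟨fun ε₁ ε₂ h1 h2 h => part1 p M hM ε₁ ε₂ h1 h2 h, fun a ha => part2 p M hM a ha⟩

end Cfsg.Agent.S0901
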