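import Cfsg.Statements.S0903
import Mathlib
-- import your own Cfsg.Agent.* helpers here

set_option autoImplicit false
open Cfsg

namespace Cfsg.Agent.S0903

/-- The set of pairs on which the `p`-group acts. -/
abbrev PairSet {G : Type*} [Group G] (g h c : G) : Type _ :=
  {xy : G × G // IsConj g xy.1 ∧ IsConj h xy.2 ∧ xy.1 * xy.2 = c}

theorem conj_mem {G : Type*} [Group G] (P : Subgroup G) (c : G)
    (hc : c ∈ Subgroup.centralizer (P : Set G)) (g h : G) (a : P) (xy : PairSet g h c) :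
    IsConj g ((a : G) * xy.1.1 * (a : G)⁻¹) ∧ IsConj h ((a : G) * xy.1.2 * (a : G)⁻¹) ∧
      ((a : G) * xy.1.1 * (a : G)⁻¹) * ((a : G) * xy.1.2 * (a : G)⁻¹) = c := by
  obtain ⟨h1, h2, h3⟩ := xy.2
  refine ⟨h1.trans (isConj_iff.mpr ⟨a, rfl⟩), h2.trans (isConj_iff.mpr ⟨a, rfl⟩), ?_⟩
  have hac : (a : G) * c = c * (a : G) := (Subgroup.mem_centralizer_iff.mp hc (a : G) a.2)
  calc (a : G) * xy.1.1 * (a : G)⁻¹ * ((a : G) * xy.1.2 * (a : G)⁻¹)
      = (a : G) * (xy.1.1 * xy.1.2) * (a : G)⁻¹ := by group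
    _ = (a : G) * c * (a : G)⁻¹ := by rw [h3]
    _ = c := by rw [hac]; group

/-- The conjugation action of `P` on the set of pairs. -/
@[reducible] def act {G : Type*} [Group G] (P : Subgroup G) (c : G)
    (hc : c ∈ Subgroup.centralizer (P : Set G)) (g h : G) : MulAction P (PairSet g h c) where
  smul a xy := ⟨((a : G) * xy.1.1 * (a : G)⁻¹, (a : G) * xy.1.2 * (a : G)⁻¹), conj_mem P c hc g h a xy⟩
  one_smul xy := by
    apply Subtype.ext
    apply Prod.ext <;> simp [HSMul.hSMul]
  mul_smul a b xy := by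
    apply Subtype.ext
    apply Prod.ext <;> simp [HSMul.hSMul, mul_assoc]

theorem result {G : Type*} [Group G] [Finite G] (p : ℕ) [Fact p.Prime] (P : Subgroup G) (hP : IsPGroup p P) (c : G) (hc : c ∈ Subgroup.centralizer (P : Set G)) (g h : G) : Nat.card {xy : G × G // IsConj g xy.1 ∧ IsConj h xy.2 ∧ xy.1 * xy.2 = c} ≡ Nat.card {xy : G × G // IsConj g xy.1 ∧ IsConj h xy.2 ∧ xy.1 * xy.2 = c ∧ xy.1 ∈ Subgroup.centralizer (P : Set G) ∧ xy.2 ∈ Subgroup.centralizer (P : Set G)} [MOD p] := by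
  classical
  letI : MulAction P (PairSet g h c) := act P c hc g h
  have key := hP.card_modEq_card_fixedPoints (PairSet g h c)
  have hsmul : ∀ (a : P) (xy : PairSet g h c),
      (a • xy).1 = ((a : G) * xy.1.1 * (a : G)⁻¹, (a : G) * xy.1.2 * (a : G)⁻¹) := fun _ _ => rfl
  have e : (MulAction.fixedPoints P (PairSet g h c)) ≃
      {xy : G × G // IsConj g xy.1 ∧ IsConj h xy.2 ∧ xy.1 * xy.2 = c ∧
        xy.1 ∈ Subgroup.centralizer (P : Set G) ∧ xy.2 ∈ Subgroup.centralizer (P : Set G)} :=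
    { toFun := fun z => ⟨z.1.1, z.1.2.1, z.1.2.2.1, z.1.2.2.2, by
        constructor
        · rw [Subgroup.mem_centralizer_iff]
          intro a ha
          have := z.2 ⟨a, ha⟩
          have h1 := congrArg (fun w => w.1.1) this
          simp only [hsmul] at h1
          calc a * z.1.1.1 = a * z.1.1.1 * a⁻¹ * a := by group
            _ = z.1.1.1 * a := by rw [h1]
        · rw [Subgroup.mem_centralizer_iff]
          intro a ha
          have := z.2 ⟨a, ha⟩
          have h1 := congrArg (fun w => w.1.2) this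
          simp only [hsmul] at h1
          calc a * z.1.1.2 = a * z.1.1.2 * a⁻¹ * a := by group
            _ = z.1.1.2 * a := by rw [h1]⟩
      invFun := fun w => ⟨⟨w.1, w.2.1, w.2.2.1, w.2.2.2.1⟩, by
        intro a
        apply Subtype.ext
        rw [hsmul]
        have h1 := Subgroup.mem_centralizer_iff.mp w.2.2.2.2.1 (a : G) a.2
        have h2 := Subgroup.mem_centralizer_iff.mp w.2.2.2.2.2 (a : G) a.2
        apply Prod.ext
        · show (a : G) * w.1.1 * (a : G)⁻¹ = w.1.1
          rw [h1]; group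
        · show (a : G) * w.1.2 * (a : G)⁻¹ = w.1.2
          rw [h2]; group⟩
      left_inv := fun z => by rfl
      right_inv := fun w => by rfl }
  rw [← Nat.card_congr e]
  exact key

end Cfsg.Agent.S0903
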