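import Cfsg.Statements.S0905
import Cfsg.Agent.Lib_helper25_ClassSum

set_option autoImplicit false
open Cfsg

namespace Cfsg.Agent.S0905

/-- Let F be a field of characteristic p and let g be an element of the finite group G no conjugate of which centralizes O_p(G). Then the class sum of g is a nilpotent element of the group algebra F[G]. -/
theorem result {G : Type*} [Group G] [Finite G] (p : ℕ) [Fact p.Prime] (F : Type*) [Field F] [CharP F p] (g : G) (hg : ∀ x : G, IsConj g x → x ∉ Subgroup.centralizer (Cfsg.pCore p G : Set G)) : IsNilpotent (∑ᶠ x ∈ ConjClasses.carrier (ConjClasses.mk g), MonoidAlgebra.single x (1 : F) : MonoidAlgebra F G) := by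
  classical
  have hN : (Cfsg.pCore p G).Normal := Subgroup.sSup_normal _ (fun _ h => h.1)
  have hP : IsPGroup p (Cfsg.pCore p G) :=
    Sylow.sSup_of_normal _ (fun _ h => h.2) (fun _ h => h.1)
  have hfin : (ConjClasses.carrier (ConjClasses.mk g)).Finite := Set.toFinite _
  rw [finsum_mem_eq_finite_toFinset_sum _ hfin]
  have hmem : ∀ x : G, x ∈ hfin.toFinset ↔ IsConj g x := by
    intro x
    rw [Set.Finite.mem_toFinset, ConjClasses.mem_carrier_iff_mk_eq, ConjClasses.mk_eq_mk_iff_isConj]
    exact ⟨fun h => h.symm, fun h => h.symm⟩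
  refine Cfsg.Agent.helper25.ClassSum.classSum_isNilpotent (p := p) F (Cfsg.pCore p G) hP
    hfin.toFinset ?_ ?_
  · intro h x hx
    rw [hmem] at hx ⊢
    exact hx.trans (isConj_iff.2 ⟨h, rfl⟩)
  · intro x hx
    rw [hmem] at hx
    have hnc := hg x hx
    rw [Subgroup.mem_centralizer_iff] at hnc
    push Not at hnc
    obtain ⟨u, hu, hne⟩ := hnc
    refine ⟨u, hu, fun h => hne ?_⟩
    calc u * x = (u * x * u⁻¹) * u := by group
      _ = x * u := by rw [h]

end Cfsg.Agent.S0905
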