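import Cfsg.Statements.S0910
import Cfsg.Agent.S0142
import Cfsg.Agent.Lib_helper1_Scalar
import Cfsg.Agent.Lib_helper24_CharKer
import Cfsg.Agent.Lib_helper24_LocalIdeal
import Cfsg.Agent.Lib_helper24_CharIntegral
import Cfsg.Agent.Lib_helper24_CharOrth
import Cfsg.Agent.Lib_helper24_CharValues

set_option autoImplicit false
open Cfsg

namespace Cfsg.Agent.S0910

open scoped ComplexConjugate
open Cfsg.Agent.helper24

/-- Let G be a non-abelian finite simple group and p a prime. If an irreducible character χ lies in the principal block (relative to a maximal ideal of the algebraic integers containing p) and χ 1 is a power of p, then χ is the principal character. -/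
theorem result {G : Type*} [Group G] [Finite G] (p : ℕ) [Fact p.Prime] (M : Ideal Cfsg.AlgInt) (hM : Cfsg.IsPModular p M) [IsSimpleGroup G] (hna : ∃ a b : G, a * b ≠ b * a) (χ : Cfsg.IrrCharacter G) (hχ : χ ∈ Cfsg.principalBlock M G) (k : ℕ) (hdeg : (χ : G → ℂ) 1 = (p : ℂ) ^ k) : (χ : G → ℂ) = fun _ => 1 := by
  classical
  haveI : Fintype G := Fintype.ofFinite G
  have hp : p.Prime := Fact.out
  obtain ⟨n, ρ, hirr, hρ⟩ := χ.2
  have hdeg1 : ρ.character 1 = n := by simp
  have hn : (n : ℂ) = (p : ℂ) ^ k := by rw [← hdeg1, hρ, hdeg]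
  have hnk : n = p ^ k := by exact_mod_cast hn
  have hK : (MonoidHom.ker ρ).Normal := MonoidHom.normal_ker _
  rcases hK.eq_bot_or_eq_top with hbot | htop
  · exfalso
    have hinj : Function.Injective ρ := (MonoidHom.ker_eq_bot_iff ρ).mp hbot
    have hZ : Subgroup.center G = ⊥ := by
      rcases (inferInstance : (Subgroup.center G).Normal).eq_bot_or_eq_top with h | h
      · exact h
      · exfalso
        obtain ⟨a, b, hab⟩ := hna
        have hb : b ∈ Subgroup.center G := h ▸ Subgroup.mem_top b
        exact hab (Subgroup.mem_center_iff.mp hb a)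
    have hscal : ∀ g : G, (∃ ω : ℂ, ρ g = ω • LinearMap.id) → g = 1 := by
      rintro g ⟨ω, hω⟩
      have hgZ : g ∈ Subgroup.center G := by
        rw [Subgroup.mem_center_iff]
        intro h
        apply hinj
        rw [map_mul, map_mul, hω]
        ext v i
        simp
      rw [hZ] at hgZ
      exact Subgroup.mem_bot.mp hgZ
    have hall : ∀ g : G, g ≠ 1 → ‖ρ.character g‖ ≠ n := fun g hg h =>
      hg (hscal g (Cfsg.Agent.helper1.rep_scalar_of_norm_char_eq ρ g h))
    by_cases hk0 : k = 0
    · -- degree one: all values have norm one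
      rw [hk0, pow_zero] at hnk
      obtain ⟨a, b, hab⟩ := hna
      have ha1 : a ≠ 1 := by
        intro h
        apply hab
        rw [h, one_mul, mul_one]
      apply hall a ha1
      obtain ⟨s, hcard, hs, hsum⟩ := rep_char_eq_sum_roots ρ a
      rw [hnk] at hcard
      obtain ⟨μ, rfl⟩ := Multiset.card_eq_one.mp hcard
      rw [hsum, Multiset.sum_singleton, hnk]
      have := Complex.norm_eq_one_of_pow_eq_one (hs μ (Multiset.mem_singleton_self μ))
        (orderOf_pos a).ne'
      rw [this]; simp
    · -- p divides the order; pick a central element of a Sylow subgroup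
      have hcd : charDegree (χ : G → ℂ) = n := charDegree_natCast _ n (by rw [← hρ]; exact hdeg1)
      have hpn : p ∣ n := by rw [hnk]; exact dvd_pow_self p hk0
      have hpG : p ∣ Nat.card G := hpn.trans (hcd ▸ irr_degree_dvd_card χ.2)
      obtain ⟨P⟩ : Nonempty (Sylow p G) := inferInstance
      have hPne : (P : Subgroup G) ≠ ⊥ := Sylow.ne_bot_of_dvd_card P hpG
      haveI : Nontrivial (P : Subgroup G) := (Subgroup.nontrivial_iff_ne_bot _).mpr hPne
      haveI := IsPGroup.center_nontrivial P.2
      obtain ⟨z, hz1⟩ := exists_ne (1 : Subgroup.center (P : Subgroup G))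
      set g : G := ((z : (P : Subgroup G)) : G) with hg
      have hg1 : g ≠ 1 := by
        intro h
        apply hz1
        apply Subtype.ext
        apply Subtype.ext
        exact h
      have hPle : (P : Subgroup G) ≤ Subgroup.centralizer ({g} : Set G) := by
        intro x hx
        rw [Subgroup.mem_centralizer_singleton_iff]
        have hzc := Subgroup.mem_center_iff.mp z.2 ⟨x, hx⟩
        have := congrArg (Subtype.val) hzc
        simpa [hg] using this
      have hidx : ¬ p ∣ (Subgroup.centralizer ({g} : Set G)).index := fun hd =>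
        P.not_dvd_index (hd.trans (Subgroup.index_dvd_of_le hPle))
      have hcop : Nat.Coprime (Module.finrank ℂ (Fin n → ℂ)) (Subgroup.centralizer ({g} : Set G)).index := by
        rw [Module.finrank_fin_fun, hnk]
        exact Nat.Coprime.pow_left _ ((Nat.Prime.coprime_iff_not_dvd hp).mpr hidx)
      haveI := hirr
      have hB := Cfsg.Agent.S0142.result ρ g hcop
      rw [Module.finrank_fin_fun] at hB
      have hχg : ρ.character g = 0 := hB.resolve_right (hall g hg1)
      have hsb := hχ g
      have hc1 : centralChar (fun _ : G => (1 : ℂ)) g =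
          ((Subgroup.centralizer ({g} : Set G)).index : ℂ) := by
        unfold centralChar; simp
      have hc2 : centralChar (χ : G → ℂ) g = 0 := by
        unfold centralChar
        rw [← hρ, hχg]; simp
      rw [hc1, hc2, sub_zero] at hsb
      exact natCast_not_memLocalIdeal hM hidx hsb
  · have hall : ∀ g, ρ g = 1 := fun g => MonoidHom.mem_ker.mp (htop ▸ Subgroup.mem_top g)
    have hχconst : ∀ g, (χ : G → ℂ) g = n := by
      intro g
      rw [← hρ]
      exact (rep_char_eq_degree_iff ρ g).mpr (hall g)
    have h1 := irr_classInner_self χ.2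
    unfold classInner at h1
    simp only [hχconst, map_natCast, Finset.sum_const, Finset.card_univ, nsmul_eq_mul] at h1
    have hcard0 : (Nat.card G : ℂ) ≠ 0 := by exact_mod_cast Nat.card_pos.ne'
    rw [Nat.card_eq_fintype_card] at h1 hcard0
    rw [← mul_assoc, inv_mul_cancel₀ hcard0, one_mul] at h1
    have hnn : n * n = 1 := by exact_mod_cast h1
    have hn1 : n = 1 := Nat.dvd_one.mp (Dvd.intro n hnn)
    funext g
    rw [hχconst g, hn1, Nat.cast_one]

end Cfsg.Agent.S0910
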