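import Cfsg.Statements.S0916
import Mathlib
import Cfsg.Agent.Lib_helper5_Sylow

set_option autoImplicit false
open Cfsg

namespace Cfsg.Agent.S0916

open Cfsg.Agent.helper5

theorem mem_cent_singleton {G : Type*} [Group G] (P : Subgroup G) (c : G) :
    c ∈ Subgroup.centralizer (P : Set G) ↔ P ≤ Subgroup.centralizer ({c} : Set G) := by
  constructor
  · intro hc x hx
    rw [Subgroup.mem_centralizer_iff]
    intro z hz
    rw [Set.mem_singleton_iff] at hz
    subst hz
    exact (Subgroup.mem_centralizer_iff.mp hc x hx).symm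
  · intro h
    rw [Subgroup.mem_centralizer_iff]
    intro x hx
    exact (Subgroup.mem_centralizer_iff.mp (h hx) c (Set.mem_singleton _)).symm

theorem sylow_data {G : Type*} [Group G] [Finite G] (p : ℕ) [Fact p.Prime] (P C : Subgroup G)
    (S : Sylow p C) (hS : (S : Subgroup C).map C.subtype = P) :
    P ≤ C ∧ Nat.card P = p ^ (Nat.card C).factorization p := by
  constructor
  · rw [← hS]
    intro x hx
    obtain ⟨y, _, rfl⟩ := hx
    exact y.2
  · rw [← hS, Subgroup.card_map_of_injective C.subtype_injective]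
    exact S.card_eq_multiplicity

theorem result {G : Type*} [Group G] [Finite G] (p : ℕ) [Fact p.Prime] (P : Subgroup G) (hP : IsPGroup p P) : (∀ g : G, (∃ S : Sylow p (Subgroup.centralizer ({g} : Set G)), (S : Subgroup (Subgroup.centralizer ({g} : Set G))).map (Subgroup.centralizer ({g} : Set G)).subtype = P) → (∃ c : G, IsConj g c ∧ c ∈ Subgroup.centralizer (P : Set G)) ∧ (∀ c₁ c₂ : G, IsConj g c₁ → IsConj g c₂ → c₁ ∈ Subgroup.centralizer (P : Set G) → c₂ ∈ Subgroup.centralizer (P : Set G) → ∃ n ∈ Subgroup.normalizer (P : Set G), n * c₁ * n⁻¹ = c₂)) ∧ (∀ c : G, c ∈ Subgroup.centralizer (P : Set G) → (∃ S : Sylow p (Subgroup.centralizer ({c} : Set G) ⊓ Subgroup.normalizer (P : Set G) : Subgroup G), (S : Subgroup ↥(Subgroup.centralizer ({c} : Set G) ⊓ Subgroup.normalizer (P : Set G))).map (Subgroup.centralizer ({c} : Set G) ⊓ Subgroup.normalizer (P : Set G)).subtype = P) → ∃ S : Sylow p (Subgroup.centralizer ({c} : Set G)), (S : Subgroup (Subgroup.centralizer ({c} : Set G))).map (Subgroup.centralizer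 ({c} : Set G)).subtype = P) := by
  classical
  constructor
  · rintro g ⟨S, hS⟩
    obtain ⟨hPC, hcard⟩ := sylow_data p P _ S hS
    constructor
    · exact ⟨g, IsConj.refl g, (mem_cent_singleton P g).mpr hPC⟩
    · intro c₁ c₂ h1 h2 hc1 hc2
      have hPC1 : P ≤ Subgroup.centralizer ({c₁} : Set G) := (mem_cent_singleton P c₁).mp hc1
      have hPC2 : P ≤ Subgroup.centralizer ({c₂} : Set G) := (mem_cent_singleton P c₂).mp hc2
      have hcard2 : Nat.card P = p ^ (Nat.card (Subgroup.centralizer ({c₂} : Set G))).factorization p := by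
        rw [card_centralizer_of_isConj h2]; exact hcard
      obtain ⟨y, hy⟩ := isConj_iff.mp (h1.symm.trans h2)
      -- y * c₁ * y⁻¹ = c₂
      -- the conjugate y P y⁻¹ lies in C(c₂)
      let H : Subgroup G := P.map (MulAut.conj y).toMonoidHom
      have hHmem : ∀ x, x ∈ H ↔ y⁻¹ * x * y ∈ P := by
        intro x
        constructor
        · rintro ⟨w, hw, rfl⟩
          simpa [mul_assoc] using hw
        · intro hx
          exact ⟨y⁻¹ * x * y, hx, by simp [mul_assoc]⟩
      have hHp : IsPGroup p H := hP.map _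
      have hHC : H ≤ Subgroup.centralizer ({c₂} : Set G) := by
        intro x hx
        have hx' := (hHmem x).mp hx
        have h3 := Subgroup.mem_centralizer_iff.mp (hPC1 hx') c₁ (Set.mem_singleton _)
        rw [Subgroup.mem_centralizer_iff]
        intro z hz
        rw [Set.mem_singleton_iff] at hz
        subst hz
        rw [← hy]
        calc y * c₁ * y⁻¹ * x = y * (c₁ * (y⁻¹ * x * y)) * y⁻¹ := by group
          _ = y * ((y⁻¹ * x * y) * c₁) * y⁻¹ := by rw [h3]
          _ = x * (y * c₁ * y⁻¹) := by group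
      obtain ⟨z, hzC, hz⟩ := exists_conj_le_of_card p _ P hPC2 hcard2 H hHp hHC
      refine ⟨z⁻¹ * y, ?_, ?_⟩
      · apply Subgroup.mem_normalizer_fintype
        intro x hx
        have hxH : y * x * y⁻¹ ∈ H := (hHmem _).mpr (by simpa [mul_assoc] using hx)
        have := hz _ hxH
        have e : z⁻¹ * y * x * (z⁻¹ * y)⁻¹ = z⁻¹ * (y * x * y⁻¹) * z := by group
        rw [e]; exact this
      · have hzc := Subgroup.mem_centralizer_iff.mp hzC c₂ (Set.mem_singleton _)
        calc z⁻¹ * y * c₁ * (z⁻¹ * y)⁻¹ = z⁻¹ * (y * c₁ * y⁻¹) * z := by group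
          _ = z⁻¹ * c₂ * z := by rw [hy]
          _ = z⁻¹ * (c₂ * z) := by group
          _ = z⁻¹ * (z * c₂) := by rw [hzc]
          _ = c₂ := by group
  · rintro c hc ⟨S, hS⟩
    have hPC : P ≤ Subgroup.centralizer ({c} : Set G) := (mem_cent_singleton P c).mp hc
    obtain ⟨_, hcard⟩ := sylow_data p P _ S hS
    have hcard' := card_eq_of_sylow_in_normalizer p _ P hPC hcard
    refine ⟨Sylow.ofCard (P.subgroupOf _) (by rw [card_subgroupOf_of_le hPC, hcard']), ?_⟩
    show (P.subgroupOf (Subgroup.centralizer ({c} : Set G))).map (Subgroup.centralizer ({c} : Set G)).subtype = P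
    rw [Subgroup.subgroupOf_map_subtype]
    exact inf_eq_left.mpr hPC

end Cfsg.Agent.S0916
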