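import Cfsg.Statements.S0928
import Cfsg.Agent.Lib_helper24_ExtFirstMain2
import Cfsg.Agent.Lib_helper24_DefectOrder
import Cfsg.Agent.Lib_helper24_Induced
import Cfsg.Agent.Lib_helper24_FrobCongr
import Cfsg.Agent.Lib_helper24_BrauerMap
import Cfsg.Agent.Lib_helper24_CharIntegral

set_option autoImplicit false
open Cfsg

namespace Cfsg.Agent.S0928

open Cfsg.Agent.helper24

universe u

set_option linter.style.haveILetI false
set_option linter.unusedVariables false
set_option linter.unusedSectionVars false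

open Classical in
/-- indicator function of the solutions of `x ^ p = 1` -/
noncomputable def pthInd (L : Type u) [Group L] (p : ℕ) : L → ℂ :=
  fun h => if h ^ p = 1 then (1:ℂ) else 0

theorem pthInd_of_pow {L : Type u} [Group L] (p : ℕ) {h : L} (hh : h ^ p = 1) :
    pthInd L p h = 1 := by
  unfold pthInd; rw [if_pos hh]

theorem pthInd_of_not_pow {L : Type u} [Group L] (p : ℕ) {h : L} (hh : ¬ h ^ p = 1) :
    pthInd L p h = 0 := by
  unfold pthInd; rw [if_neg hh]

open Classical in
theorem pthRoot_isClassFunction {L : Type u} [Group L] (p : ℕ) :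
    IsClassFunction L (pthInd L p) := by
  intro g k
  show (if (k * g * k⁻¹) ^ p = 1 then (1:ℂ) else 0) = if g ^ p = 1 then (1:ℂ) else 0
  have : (k * g * k⁻¹) ^ p = 1 ↔ g ^ p = 1 := by
    rw [conj_pow]
    constructor
    · intro h
      have h2 := congrArg (fun t => k⁻¹ * t * k) h
      simpa [mul_assoc] using h2
    · intro h; rw [h]; simp
  simp only [this]

open Classical in
theorem pthRoot_memLocalRing {L : Type u} [Group L] (p : ℕ) (M : Ideal AlgInt) (hMtop : M ≠ ⊤)
    (g : L) : MemLocalRing M (pthInd L p g) := by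
  unfold pthInd
  split_ifs
  · exact memLocalRing_one hMtop
  · exact memLocalRing_zero hMtop

open Classical in
theorem omega_pth_roots_mem {L : Type u} [Group L] [Fintype L] (p : ℕ) [Fact p.Prime]
    (M : Ideal AlgInt) (hM : IsPModular p M)
    (z : L) (hz : orderOf z = p) (hzc : ∀ l : L, z * l = l * z) (ξ : IrrCharacter L) :
    MemLocalIdeal M (omegaFn (ξ : L → ℂ) (pthInd L p)) := by
  classical
  have hp : p.Prime := Fact.out
  haveI hMp : M.IsPrime := hM.2.1.isPrime
  have hMtop : M ≠ ⊤ := hMp.ne_top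
  set u : L → ℂ := pthInd L p with hu
  have hucf : IsClassFunction L u := pthRoot_isClassFunction p
  have hul : ∀ g, MemLocalRing M (u g) := fun g => pthRoot_memLocalRing p M hMtop g
  have hzp : z ^ p = 1 := by rw [← hz]; exact pow_orderOf_eq_one z
  have hz1 : z ≠ 1 := by
    intro h
    rw [h, orderOf_one] at hz
    exact hp.one_lt.ne hz
  have hcount : ∀ x : L,
      p ∣ (Finset.univ.filter (fun s : L => s ^ p = 1 ∧ (s⁻¹ * x) ^ p = 1)).card := by
    intro x
    set T := Finset.univ.filter (fun s : L => s ^ p = 1 ∧ (s⁻¹ * x) ^ p = 1) with hT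
    have hmem : ∀ s ∈ T, z * s ∈ T := by
      intro s hs
      rw [hT, Finset.mem_filter] at hs ⊢
      refine ⟨Finset.mem_univ _, ?_, ?_⟩
      · have hc : Commute z s := hzc s
        rw [hc.mul_pow, hzp, hs.2.1, one_mul]
      · have e : (z * s)⁻¹ * x = z⁻¹ * (s⁻¹ * x) := by
          have hc : z * s = s * z := hzc s
          rw [hc, mul_inv_rev, mul_assoc]
        have hc2 : Commute z⁻¹ (s⁻¹ * x) := (Commute.inv_left (hzc (s⁻¹ * x)))
        rw [e, hc2.mul_pow, inv_pow, hzp, inv_one, one_mul, hs.2.2]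
    let f : Function.End {s // s ∈ T} := fun s => ⟨z * s.1, hmem s.1 s.2⟩
    have hfpow : ∀ n : ℕ, ∀ s : {s // s ∈ T}, ((f ^ n) s).1 = z ^ n * s.1 := by
      intro n
      induction n with
      | zero => intro s; rw [pow_zero, pow_zero, one_mul]; rfl
      | succ n ih =>
        intro s
        rw [pow_succ']
        show z * ((f ^ n) s).1 = _
        rw [ih, pow_succ', mul_assoc]
    have hf : f ^ p ^ 1 = 1 := by
      rw [pow_one]
      funext s
      apply Subtype.ext
      rw [hfpow, hzp, one_mul]
      rfl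
    have hmod := Equiv.Perm.card_fixedPoints_modEq (p := p) (n := 1) hf
    have hfix : IsEmpty (Function.fixedPoints f) := by
      constructor
      rintro ⟨s, hs⟩
      have h3 : z * s.1 = s.1 := congrArg Subtype.val hs
      exact hz1 (mul_right_cancel (h3.trans (one_mul _).symm))
    have h0 : Fintype.card (Function.fixedPoints f) = 0 := Fintype.card_eq_zero
    rw [h0, Fintype.card_coe] at hmod
    exact (Nat.modEq_zero_iff_dvd).mp hmod
  have hcc : ∀ x : L, cconv u u x
      = ((Finset.univ.filter (fun s : L => s ^ p = 1 ∧ (s⁻¹ * x) ^ p = 1)).card : ℂ) := by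
    intro x
    unfold cconv
    rw [Finset.card_filter]
    push_cast
    apply Finset.sum_congr rfl
    intro s _
    by_cases h1 : s ^ p = 1 <;> by_cases h2 : (s⁻¹ * x) ^ p = 1 <;>
      simp [hu, pthInd, h1, h2]
  have hp0 : (p : ℂ) ≠ 0 := by exact_mod_cast hp.ne_zero
  set w : L → ℂ := fun x => cconv u u x / p with hw
  have hwcf : IsClassFunction L w := by
    intro g k
    show cconv u u (k * g * k⁻¹) / p = cconv u u g / p
    rw [cconv_isClassFunction hucf hucf g k]
  have hwl : ∀ g, MemLocalRing M (w g) := by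
    intro g
    obtain ⟨m, hm⟩ := hcount g
    show MemLocalRing M (cconv u u g / p)
    rw [hcc g, hm]
    push_cast
    rw [mul_div_cancel_left₀ _ hp0]
    exact memLocalRing_of_integral hMtop
      (by simpa using isIntegral_algebraMap (R := ℤ) (A := ℂ) (x := (m:ℤ)))
  have hcw : cconv u u = (p : ℂ) • w := by
    funext x
    show cconv u u x = (p:ℂ) * (cconv u u x / p)
    field_simp
  have h1 : omegaFn (ξ : L → ℂ) (cconv u u)
      = omegaFn (ξ : L → ℂ) u * omegaFn (ξ : L → ℂ) u := omegaFn_cconv ξ.2 u hucf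
  rw [hcw, omegaFn_smul] at h1
  have h2 : MemLocalIdeal M (omegaFn (ξ : L → ℂ) u * omegaFn (ξ : L → ℂ) u) := by
    rw [← h1, mul_comm]
    exact memLocalIdeal_mul_left (omegaFn_memLocalRing ξ hwcf hwl) (prime_memLocalIdeal hM)
  by_contra hnot
  exact not_memLocalIdeal_mul (omegaFn_memLocalRing ξ hucf hul)
    (omegaFn_memLocalRing ξ hucf hul) hnot hnot h2

/-- Let χ be an irreducible character of the finite group G and p a prime. If χ g = 0 for every element g of order p, then the exponent of p in the degree χ(1) equals the exponent of p in the order of G (χ has p-defect zero). -/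
theorem result {G : Type*} [Group G] [Finite G] (p : ℕ) [Fact p.Prime] (χ : Cfsg.IrrCharacter G) (hvan : ∀ g : G, orderOf g = p → (χ : G → ℂ) g = 0) : (Cfsg.charDegree (χ : G → ℂ)).factorization p = (Nat.card G).factorization p := by
  classical
  have hp : p.Prime := Fact.out
  haveI := Fintype.ofFinite G
  obtain ⟨M, hM⟩ := exists_isPModular hp
  haveI hMp : M.IsPrime := hM.2.1.isPrime
  have hMtop : M ≠ ⊤ := hMp.ne_top
  set B := blockOf M (χ : G → ℂ) with hBdef
  have hB : IsPBlock M B := ⟨χ, rfl⟩
  have hχB : χ ∈ B := sameBlock_refl M hMtop _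
  have hdvd := irr_degree_dvd_card χ.2
  have hle : (charDegree (χ : G → ℂ)).factorization p ≤ (Nat.card G).factorization p :=
    (Nat.factorization_le_iff_dvd (irr_charDegree_pos χ.2).ne' Nat.card_pos.ne').mpr hdvd p
  apply le_antisymm hle
  by_contra hlt
  rw [not_le] at hlt
  have hdef : 0 < blockDefect p B := by
    unfold blockDefect
    apply Nat.sub_pos_of_lt
    exact lt_of_le_of_lt (Nat.sInf_le ⟨χ, hχB, rfl⟩) hlt
  obtain ⟨D, hD⟩ := exists_defectGroup p M hM B hB
  have hcard := card_defectGroup p M hM B hB D hD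
  have hDp := defectGroup_isPGroup p M B D hD
  haveI : Nontrivial D := by
    rw [← Finite.one_lt_card_iff_nontrivial, hcard]
    exact Nat.one_lt_pow hdef.ne' hp.one_lt
  haveI : Nontrivial (Subgroup.center D) := hDp.center_nontrivial
  have hZp : IsPGroup p (Subgroup.center D) := hDp.to_subgroup _
  obtain ⟨k, hk⟩ := hZp.exists_card_eq
  have hk0 : k ≠ 0 := by
    intro h
    rw [h, pow_zero] at hk
    have := Finite.one_lt_card (α := Subgroup.center D)
    omega
  obtain ⟨z0, hz0⟩ := exists_prime_orderOf_dvd_card' p (G := Subgroup.center D)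
    (by rw [hk]; exact dvd_pow_self p hk0)
  obtain ⟨z, hzdef⟩ : ∃ z : G, z = ((z0 : D) : G) := ⟨_, rfl⟩
  have hzD : z ∈ D := by rw [hzdef]; exact (z0 : D).2
  have hzord : orderOf z = p := by
    rw [hzdef, Subgroup.orderOf_coe, Subgroup.orderOf_coe]; exact hz0
  obtain ⟨b, hbD, hind⟩ := ext_first_main_exists p M hM B hB D hD
  haveI := Fintype.ofFinite ↥(D ⊔ Subgroup.centralizer (D : Set G))
  obtain ⟨ξ₀, hb⟩ := hind.1
  have hξ : ξ₀ ∈ b := by rw [hb]; exact sameBlock_refl M hMtop _
  have hzL : z ∈ D ⊔ Subgroup.centralizer (D : Set G) := Subgroup.mem_sup_left hzD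
  have hle' : D ⊔ Subgroup.centralizer (D : Set G) ≤ Subgroup.centralizer ({z} : Set G) := by
    apply sup_le
    · intro d hd
      rw [Subgroup.mem_centralizer_iff]
      intro h hh
      rw [Set.mem_singleton_iff] at hh
      subst hh
      have h3 := (Subgroup.mem_center_iff.mp z0.2) ⟨d, hd⟩
      have h4 := congrArg Subtype.val h3
      rw [hzdef]
      simpa using h4.symm
    · intro c hc
      rw [Subgroup.mem_centralizer_iff]
      intro h hh
      rw [Set.mem_singleton_iff] at hh
      subst hh
      exact (Subgroup.mem_centralizer_iff.mp hc) h hzD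
  have hzc : ∀ l : ↥(D ⊔ Subgroup.centralizer (D : Set G)),
      (⟨z, hzL⟩ : ↥(D ⊔ Subgroup.centralizer (D : Set G))) * l = l * ⟨z, hzL⟩ := by
    intro l
    apply Subtype.ext
    have h5 := (Subgroup.mem_centralizer_iff.mp (hle' l.2)) z (Set.mem_singleton z)
    simpa using h5
  have hzLord : orderOf (⟨z, hzL⟩ : ↥(D ⊔ Subgroup.centralizer (D : Set G))) = p := by
    rw [← hzord]; exact Subgroup.orderOf_mk z hzL
  have hloc := omega_pth_roots_mem p M hM _ hzLord hzc ξ₀
  have hacf : IsClassFunction G (pthInd G p) := pthRoot_isClassFunction p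
  have hal : ∀ g, MemLocalRing M (pthInd G p g) := fun g => pthRoot_memLocalRing p M hMtop g
  have hsub := induced_omegaFn_sub (D ⊔ Subgroup.centralizer (D : Set G)) hind hξ hχB hacf hal
  have hres : (fun h : ↥(D ⊔ Subgroup.centralizer (D : Set G)) => pthInd G p (h : G))
      = pthInd ↥(D ⊔ Subgroup.centralizer (D : Set G)) p := by
    funext h
    have h6 : (h : G) ^ p = 1 ↔ h ^ p = 1 := by
      rw [Subtype.ext_iff, Subgroup.coe_pow, Subgroup.coe_one]
    by_cases h7 : h ^ p = 1
    · rw [pthInd_of_pow p h7]; exact pthInd_of_pow p (h6.mpr h7)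
    · rw [pthInd_of_not_pow p h7]; exact pthInd_of_not_pow p (fun h8 => h7 (h6.mp h8))
  rw [hres] at hsub
  have hone : omegaFn (χ : G → ℂ) (pthInd G p) = 1 := by
    unfold omegaFn
    have hχ1 := irr_apply_one_ne_zero χ.2
    rw [div_eq_one_iff_eq hχ1, Finset.sum_eq_single (1 : G)]
    · rw [pthInd_of_pow p (one_pow p), one_mul]
    · intro g _ hg
      by_cases h : g ^ p = 1
      · rw [pthInd_of_pow p h, one_mul]; exact hvan g (orderOf_eq_prime h hg)
      · rw [pthInd_of_not_pow p h, zero_mul]
    · intro h; exact absurd (Finset.mem_univ _) h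
  rw [hone] at hsub
  have h7 : MemLocalIdeal M (1 : ℂ) := by
    have h8 := memLocalIdeal_sub hloc hsub
    rw [sub_sub_cancel] at h8
    exact h8
  exact not_memLocalIdeal_one h7

end Cfsg.Agent.S0928
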