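import Cfsg.Statements.S0934
import Mathlib
import Cfsg.Agent.S0932
import Cfsg.Agent.Lib_helper24_BlockBasic
import Cfsg.Agent.Lib_helper24_LocalIdeal
import Cfsg.Agent.Lib_helper24_LocalRing
import Cfsg.Agent.Lib_helper24_Osima
import Cfsg.Agent.Lib_helper12_CharOps
import Cfsg.Agent.Lib_helper8_Ind

set_option autoImplicit false
open Cfsg

namespace Cfsg.Agent.S0934

/-- Let H be a subgroup of the finite group G and fix a maximal ideal M of the algebraic integers containing the prime p. If the block b of H induces the block B of G and ξ ∈ b, then there is χ ∈ B whose restriction to H has nonzero inner product with ξ. -/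
theorem result {G : Type*} [Group G] [Fintype G] (p : ℕ) [Fact p.Prime] (M : Ideal Cfsg.AlgInt) (hM : Cfsg.IsPModular p M) (H : Subgroup G) [Fintype H] (b : Set (Cfsg.IrrCharacter H)) (B : Set (Cfsg.IrrCharacter G)) (hind : Cfsg.IsInducedBlock M H b B) (ξ : Cfsg.IrrCharacter H) (hξ : ξ ∈ b) : ∃ χ ∈ B, Cfsg.classInner (fun h : H => (χ : G → ℂ) h) (ξ : H → ℂ) ≠ 0 := by
  classical
  haveI : Fintype (Cfsg.IrrCharacter G) := Fintype.ofFinite _
  obtain ⟨_, hmax, _⟩ := hM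
  haveI hMp : M.IsPrime := hmax.isPrime
  obtain ⟨hb, ⟨χ₀, hB⟩, hcong⟩ := hind
  by_contra hcon
  push Not at hcon
  obtain ⟨hucl, hul, huo, -⟩ := Cfsg.Agent.helper24.blockCoeff_props (M := M) χ₀
  have hχ₀B : χ₀ ∈ B := by
    rw [hB]; exact Cfsg.Agent.helper24.sameBlock_refl M hMp.ne_top _
  have hIc : Cfsg.IsCharacter G (Cfsg.indFun H (ξ : H → ℂ)) :=
    Cfsg.Agent.helper12.isCharacter_indFun H (Cfsg.Agent.helper24.irr_isCharacter ξ.2)
  have h2 : Cfsg.MemLocalIdeal M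
      (Cfsg.Agent.helper24.omegaFn (Cfsg.indFun H (ξ : H → ℂ))
          (Cfsg.blockCoeff (Cfsg.blockOf M (χ₀ : G → ℂ)))
        - Cfsg.Agent.helper24.omegaFn (χ₀ : G → ℂ)
          (Cfsg.blockCoeff (Cfsg.blockOf M (χ₀ : G → ℂ)))) := by
    rw [Cfsg.Agent.helper24.omegaFn_eq_sum_classes hIc hucl,
      Cfsg.Agent.helper24.omegaFn_eq_sum_classes (Cfsg.Agent.helper24.irr_isCharacter χ₀.2) hucl,
      ← Finset.sum_sub_distrib]
    apply Cfsg.Agent.helper24.memLocalIdeal_sum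
    intro C _
    rw [← mul_sub]
    apply Cfsg.Agent.helper24.memLocalIdeal_mul_left (hul _)
    rw [← Cfsg.Agent.S0932.result H (ξ : H → ℂ) (Cfsg.Agent.helper24.irr_isCharacter ξ.2)]
    exact hcong ξ hξ χ₀ hχ₀B _
  have h3 : Cfsg.Agent.helper24.omegaFn (χ₀ : G → ℂ)
      (Cfsg.blockCoeff (Cfsg.blockOf M (χ₀ : G → ℂ))) = 1 := by
    rw [huo χ₀, if_pos]
    exact Cfsg.Agent.helper24.sameBlock_refl M hMp.ne_top _
  have h1 : Cfsg.Agent.helper24.omegaFn (Cfsg.indFun H (ξ : H → ℂ))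
      (Cfsg.blockCoeff (Cfsg.blockOf M (χ₀ : G → ℂ))) = 0 := by
    obtain ⟨n, hexp, hn, -⟩ := Cfsg.Agent.helper12.char_decomp hIc
    unfold Cfsg.Agent.helper24.omegaFn
    have hval : ∀ h : G, Cfsg.indFun H (ξ : H → ℂ) h
        = ∑ ψ : Cfsg.IrrCharacter G, (n ψ : ℂ) * (ψ : G → ℂ) h := by
      intro h
      conv_lhs => rw [hexp]
      simp [Finset.sum_apply]
    have hsum0 : ∑ h : G, Cfsg.blockCoeff (Cfsg.blockOf M (χ₀ : G → ℂ)) h
        * Cfsg.indFun H (ξ : H → ℂ) h = 0 := by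
      simp_rw [hval, Finset.mul_sum]
      rw [Finset.sum_comm]
      apply Finset.sum_eq_zero
      intro ψ _
      by_cases hψB : ψ ∈ B
      · have hn0 : (n ψ : ℂ) = 0 := by
          rw [← hn ψ, Cfsg.Agent.helper8.frobenius H (ξ : H → ℂ) (ψ : G → ℂ)
            (Cfsg.Agent.helper24.char_isClassFunction (Cfsg.Agent.helper24.irr_isCharacter ψ.2)),
            ← Cfsg.Agent.helper24.classInner_conj_symm, hcon ψ hψB, map_zero]
        simp [hn0]
      · have hom : Cfsg.Agent.helper24.omegaFn (ψ : G → ℂ)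
            (Cfsg.blockCoeff (Cfsg.blockOf M (χ₀ : G → ℂ))) = 0 := by
          rw [huo ψ, if_neg]
          rwa [← hB]
        unfold Cfsg.Agent.helper24.omegaFn at hom
        have hsum : ∑ h : G, Cfsg.blockCoeff (Cfsg.blockOf M (χ₀ : G → ℂ)) h * (ψ : G → ℂ) h = 0 :=
          (div_eq_zero_iff.mp hom).resolve_right (Cfsg.Agent.helper24.irr_apply_one_ne_zero ψ.2)
        calc ∑ h : G, Cfsg.blockCoeff (Cfsg.blockOf M (χ₀ : G → ℂ)) h * ((n ψ : ℂ) * (ψ : G → ℂ) h)
            = (n ψ : ℂ) * ∑ h : G, Cfsg.blockCoeff (Cfsg.blockOf M (χ₀ : G → ℂ)) h * (ψ : G → ℂ) h := by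
              rw [Finset.mul_sum]
              apply Finset.sum_congr rfl
              intro h _
              ring
          _ = 0 := by rw [hsum, mul_zero]
    rw [hsum0, zero_div]
  rw [h1, h3, zero_sub] at h2
  have h4 := Cfsg.Agent.helper24.memLocalIdeal_neg h2
  rw [neg_neg] at h4
  exact Cfsg.Agent.helper24.not_memLocalIdeal_one h4

end Cfsg.Agent.S0934
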