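import Cfsg.Statements.S0938
import Mathlib
import Cfsg.Agent.Lib_helper8_Cover

set_option autoImplicit false
open Cfsg

namespace Cfsg.Agent.S0938

/-- Let B be a block of the finite group G relative to a maximal ideal M of the algebraic integers containing the prime p, and let χ ∈ B. Then the kernel of B (the set of g with ψ g = ψ 1 for all ψ ∈ B) is a normal subgroup of order prime to p contained in the kernel of χ, and it contains every normal subgroup of order prime to p on which χ takes the value χ(1); that is, it is O_p' of the kernel of χ. -/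
theorem result {G : Type*} [Group G] [Finite G] (p : ℕ) [Fact p.Prime] (M : Ideal Cfsg.AlgInt) (hM : Cfsg.IsPModular p M) (B : Set (Cfsg.IrrCharacter G)) (hB : Cfsg.IsPBlock M B) (χ : Cfsg.IrrCharacter G) (hχ : χ ∈ B) : ∃ K : Subgroup G, K.Normal ∧ (K : Set G) = Cfsg.blockKer B ∧ ¬ p ∣ Nat.card K ∧ (∀ g ∈ K, (χ : G → ℂ) g = (χ : G → ℂ) 1) ∧ ∀ N : Subgroup G, N.Normal → ¬ p ∣ Nat.card N → (∀ g ∈ N, (χ : G → ℂ) g = (χ : G → ℂ) 1) → N ≤ K := by
  classical
  haveI : Fintype G := Fintype.ofFinite G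
  haveI : Fintype (Cfsg.IrrCharacter G) := Fintype.ofFinite _
  have hM' := hM
  obtain ⟨hp, hmax, _⟩ := hM'
  haveI hMp : M.IsPrime := hmax.isPrime
  obtain ⟨χ₀, rfl⟩ := hB
  choose Kψ hKn hKmem using (fun ψ : Cfsg.IrrCharacter G =>
    Cfsg.Agent.helper24.char_exists_ker (Cfsg.Agent.helper24.irr_isCharacter ψ.2))
  have hmem : ∀ g : G, g ∈ (⨅ ψ : Cfsg.IrrCharacter G, ⨅ (_ : ψ ∈ Cfsg.blockOf M (χ₀ : G → ℂ)), Kψ ψ)
      ↔ ∀ ψ ∈ Cfsg.blockOf M (χ₀ : G → ℂ), (ψ : G → ℂ) g = (ψ : G → ℂ) 1 := by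
    intro g
    simp only [Subgroup.mem_iInf]
    constructor
    · intro h ψ hψ
      exact (hKmem ψ g).mp (h ψ hψ)
    · intro h ψ hψ
      exact (hKmem ψ g).mpr (h ψ hψ)
  refine ⟨⨅ ψ : Cfsg.IrrCharacter G, ⨅ (_ : ψ ∈ Cfsg.blockOf M (χ₀ : G → ℂ)), Kψ ψ, ?_, ?_, ?_, ?_, ?_⟩
  · haveI : ∀ ψ : Cfsg.IrrCharacter G,
        (⨅ (_ : ψ ∈ Cfsg.blockOf M (χ₀ : G → ℂ)), Kψ ψ).Normal := by
      intro ψ
      haveI : ∀ (_ : ψ ∈ Cfsg.blockOf M (χ₀ : G → ℂ)), (Kψ ψ).Normal := fun _ => hKn ψ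
      exact Subgroup.normal_iInf_normal (fun h => hKn ψ)
    exact Subgroup.normal_iInf_normal (fun ψ => inferInstance)
  · ext g
    rw [SetLike.mem_coe, hmem g]
    rfl
  · intro hdvd
    obtain ⟨k, hk⟩ := exists_prime_orderOf_dvd_card' p hdvd
    have hkK := (hmem (k : G)).mp k.2
    have hordk : orderOf (k : G) = p := by rw [Subgroup.orderOf_coe]; exact hk
    have h0 := Cfsg.Agent.helper8.Cover.blockCoeff_eq_zero hM χ₀ (g := (k : G))
      (by rw [hordk])
    rw [Cfsg.Agent.helper24.blockCoeff_eq_sum] at h0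
    have hG0 : (Nat.card G : ℂ)⁻¹ ≠ 0 := by
      apply inv_ne_zero
      exact_mod_cast (Nat.card_pos (α := G)).ne'
    have h1 := (mul_eq_zero.mp h0).resolve_left hG0
    have hterm : ∀ ψ ∈ Finset.univ.filter
        (fun ψ : Cfsg.IrrCharacter G => ψ ∈ Cfsg.blockOf M (χ₀ : G → ℂ)),
        (ψ : G → ℂ) 1 * (starRingEnd ℂ) ((ψ : G → ℂ) (k : G))
          = ((Cfsg.charDegree (ψ : G → ℂ) ^ 2 : ℕ) : ℂ) := by
      intro ψ hψ
      rw [hkK ψ (Finset.mem_filter.mp hψ).2,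
        ← Cfsg.Agent.helper24.char_charDegree_cast (Cfsg.Agent.helper24.irr_isCharacter ψ.2),
        Complex.conj_natCast]
      push_cast
      ring
    rw [Finset.sum_congr rfl hterm, ← Nat.cast_sum] at h1
    have h2 : ∑ ψ ∈ Finset.univ.filter
        (fun ψ : Cfsg.IrrCharacter G => ψ ∈ Cfsg.blockOf M (χ₀ : G → ℂ)),
        Cfsg.charDegree (ψ : G → ℂ) ^ 2 = 0 := by exact_mod_cast h1
    have h3 := (Finset.sum_eq_zero_iff.mp h2) χ (Finset.mem_filter.mpr ⟨Finset.mem_univ _, hχ⟩)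
    have h4 : (Cfsg.charDegree (χ : G → ℂ) : ℂ) = 0 := by
      have : Cfsg.charDegree (χ : G → ℂ) = 0 := by
        rcases Nat.eq_zero_or_pos (Cfsg.charDegree (χ : G → ℂ)) with h | h
        · exact h
        · exfalso
          have : 0 < Cfsg.charDegree (χ : G → ℂ) ^ 2 := pow_pos h 2
          omega
      rw [this, Nat.cast_zero]
    rw [Cfsg.Agent.helper24.char_charDegree_cast (Cfsg.Agent.helper24.irr_isCharacter χ.2)] at h4
    exact Cfsg.Agent.helper24.irr_apply_one_ne_zero χ.2 h4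
  · intro g hg
    exact (hmem g).mp hg χ hχ
  · intro N hNn hNp hNχ g hg
    haveI := hNn
    haveI : Fintype N := Fintype.ofFinite N
    rw [hmem g]
    intro ψ hψ
    have hs : Cfsg.SameBlock M (χ : G → ℂ) (ψ : G → ℂ) :=
      Cfsg.Agent.helper24.sameBlock_trans (Cfsg.Agent.helper24.sameBlock_symm hχ) hψ
    obtain ⟨oneN, honeN⟩ : ∃ oneN : Cfsg.IrrCharacter N, (oneN : N → ℂ) = fun _ => 1 :=
      ⟨⟨fun _ => 1, Cfsg.Agent.helper24.isIrrCharacter_one⟩, rfl⟩
    have hunder : Cfsg.classInner (Cfsg.Agent.helper5.res N (χ : G → ℂ)) (oneN : N → ℂ) ≠ 0 := by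
      have h1 : Cfsg.Agent.helper5.res N (χ : G → ℂ)
          = ((χ : G → ℂ) 1) • (oneN : N → ℂ) := by
        funext n
        rw [Cfsg.Agent.helper5.res_apply, Pi.smul_apply, honeN, smul_eq_mul, mul_one]
        exact hNχ n n.2
      rw [h1, Cfsg.Agent.helper24.classInner_smul_left,
        Cfsg.Agent.helper24.irr_classInner_self oneN.2, mul_one]
      exact Cfsg.Agent.helper24.irr_apply_one_ne_zero χ.2
    have h2 := Cfsg.Agent.helper8.Cover.under_of_sameBlock_pprime N hM hNp hs hunder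
    rw [honeN] at h2
    exact Cfsg.Agent.helper8.Cover.ker_of_under_one N ψ.2 h2 g hg

end Cfsg.Agent.S0938
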