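import Cfsg.Statements.S4434
import Mathlib
import Cfsg.Agent.Lib_helper1_QuotPDefect

set_option autoImplicit false
set_option linter.style.haveILetI false
set_option linter.unusedVariables false
open Cfsg

namespace Cfsg.Agent.S4434

/-- Let N be a normal p-subgroup of the finite group G and write Ḡ = G/N; fix a maximal ideal M of the algebraic integers containing p. Then every block B of G contains a block B̄ of Ḡ (the inflation of every member of B̄ lies in B) whose defect groups are exactly the images in Ḡ of the defect groups of B. -/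
theorem result {G : Type*} [Group G] [Finite G] (p : ℕ) [Fact p.Prime] (M : Ideal Cfsg.AlgInt) (hM : Cfsg.IsPModular p M) (N : Subgroup G) [N.Normal] (hN : IsPGroup p N) (B : Set (Cfsg.IrrCharacter G)) (hB : Cfsg.IsPBlock M B) : ∃ Bbar : Set (Cfsg.IrrCharacter (G ⧸ N)), Cfsg.IsPBlock M Bbar ∧ (∀ χ ∈ Bbar, ∀ ψ : Cfsg.IrrCharacter G, (ψ : G → ℂ) = (χ : G ⧸ N → ℂ) ∘ QuotientGroup.mk → ψ ∈ B) ∧ ∀ Dbar : Subgroup (G ⧸ N), Cfsg.IsDefectGroup p M Bbar Dbar ↔ ∃ P : Subgroup G, Cfsg.IsDefectGroup p M B P ∧ Dbar = P.map (QuotientGroup.mk' N) := by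
  classical
  have := Fintype.ofFinite G
  have hpp : p.Prime := Fact.out
  haveI hMp : M.IsPrime := hM.2.1.isPrime
  have hMtop : M ≠ ⊤ := hMp.ne_top
  have hnat : ∀ n : ℕ, IsIntegral ℤ (n : ℂ) := fun n => by
    simpa using (isIntegral_algebraMap (R := ℤ) (A := ℂ) (x := (n : ℤ)))
  have := Fintype.ofFinite (G ⧸ N)
  obtain ⟨h, hh⟩ := helper24.exists_defectClass p M hM B hB
  have hreg : ¬ p ∣ orderOf h := fun hs => hh.2.1 (by
    rw [helper1.blockCoeff_eq_zero_of_singular p M hM B hB h hs]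
    exact helper24.memLocalIdeal_zero hMtop)
  have hcent : h ∈ Subgroup.centralizer (N : Set G) := by
    by_contra hc
    exact hh.2.1 (by
      rw [helper1.blockCoeff_eq_zero_of_not_mem_centralizer p M hM N hN B hB h hc]
      exact helper24.memLocalIdeal_zero hMtop)
  have hsum : ∑ k : G, (if k ∈ N then blockCoeff B (h * k) else 0) = blockCoeff B h := by
    rw [Finset.sum_eq_single 1]
    · simp [N.one_mem]
    · intro k _ hk1
      split_ifs with hkN
      · apply helper1.blockCoeff_eq_zero_of_singular p M hM B hB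
        have hcomm : Commute h k := (Subgroup.mem_centralizer_iff.1 hcent k hkN).symm
        obtain ⟨j, hj⟩ := hN ⟨k, hkN⟩
        have hko : orderOf k ∣ p ^ j := by
          apply orderOf_dvd_of_pow_eq_one
          have := congrArg Subtype.val hj
          simpa using this
        obtain ⟨i, hi, hoi⟩ := (Nat.dvd_prime_pow hpp).1 hko
        have hi0 : i ≠ 0 := by
          rintro rfl
          rw [pow_zero, orderOf_eq_one_iff] at hoi
          exact hk1 hoi
        have hcop : (orderOf h).Coprime (orderOf k) := by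
          rw [hoi]
          exact Nat.Coprime.pow_right _ ((Nat.Prime.coprime_iff_not_dvd hpp).2 hreg).symm
        rw [hcomm.orderOf_mul_eq_mul_orderOf_of_coprime hcop, hoi]
        exact Dvd.dvd.mul_left (dvd_pow_self p hi0) _
      · rfl
    · intro h1; exact absurd (Finset.mem_univ _) h1
  have hq := helper1.blockCoeff_quot N B h
  rw [hsum] at hq
  obtain ⟨S, hS⟩ : ∃ S : Set (IrrCharacter (G ⧸ N)), S = {ψ | helper1.inflIrr N ψ ∈ B} :=
    ⟨_, rfl⟩
  rw [← hS] at hq
  have hcl : ∀ χ ∈ S, ∀ ψ : IrrCharacter (G ⧸ N),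
      SameBlock M (χ : G ⧸ N → ℂ) (ψ : G ⧸ N → ℂ) → ψ ∈ S := by
    intro χ hχ ψ hs
    rw [hS] at hχ ⊢
    have h2 : SameBlock M (helper1.inflIrr N χ : G → ℂ) (helper1.inflIrr N ψ : G → ℂ) := by
      intro g
      have e1 := helper24.centralChar_inflation N (χ : G ⧸ N → ℂ) g
      have e2 := helper24.centralChar_inflation N (ψ : G ⧸ N → ℂ) g
      show MemLocalIdeal M (centralChar ((χ : G ⧸ N → ℂ) ∘ QuotientGroup.mk) g -
        centralChar ((ψ : G ⧸ N → ℂ) ∘ QuotientGroup.mk) g)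
      rw [e1, e2, ← mul_sub]
      exact helper24.memLocalIdeal_mul_left
        (helper24.memLocalRing_of_integral hMtop (hnat _)) (hs _)
    have h3 := helper1.block_eq_blockOf_of_mem hM hB hχ
    show helper1.inflIrr N ψ ∈ B
    rw [h3]; exact h2
  have hex : ∃ χ ∈ S, ¬ MemLocalIdeal M
      (blockCoeff (blockOf M (χ : G ⧸ N → ℂ)) (QuotientGroup.mk h : G ⧸ N)) := by
    by_contra hno
    push Not at hno
    have := helper1.blockCoeff_union_memLocalIdeal p M hM S hcl (QuotientGroup.mk h : G ⧸ N) hno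
    rw [hq] at this
    exact hh.2.1 this
  obtain ⟨χ0, hχ0S, hχ0⟩ := hex
  obtain ⟨Bbar, hBbarE⟩ : ∃ Bbar : Set (IrrCharacter (G ⧸ N)),
    Bbar = blockOf M (χ0 : G ⧸ N → ℂ) := ⟨_, rfl⟩
  rw [← hBbarE] at hχ0
  have hBbar : IsPBlock M Bbar := ⟨χ0, hBbarE⟩
  have hχ0B : χ0 ∈ Bbar := by rw [hBbarE]; exact helper24.sameBlock_refl M hMtop _
  have hsubS : ∀ ψ ∈ Bbar, helper1.inflIrr N ψ ∈ B := by
    intro ψ hψ
    have := hcl χ0 hχ0S ψ (by rw [hBbarE] at hψ; exact hψ)
    rw [hS] at this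
    exact this
  obtain ⟨m, hm⟩ : ∃ m : ℕ, m = (Subgroup.centralizer ({h} : Set G)).relIndex
      ((Subgroup.centralizer ({(QuotientGroup.mk h : G ⧸ N)} : Set (G ⧸ N))).comap
        (QuotientGroup.mk' N)) := ⟨_, rfl⟩
  have hrel : ∀ ψ ∈ Bbar, ¬ MemLocalIdeal M ((m : ℂ) *
      centralChar (ψ : G ⧸ N → ℂ) (QuotientGroup.mk h : G ⧸ N)) := by
    intro ψ hψ
    rw [hm, ← helper24.centralChar_inflation N (ψ : G ⧸ N → ℂ) h]
    exact hh.2.2 (helper1.inflIrr N ψ) (hsubS ψ hψ)
  have hdc : IsDefectClass M Bbar (QuotientGroup.mk h : G ⧸ N) := by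
    refine ⟨?_, hχ0, ?_⟩
    · rw [hBbarE]
      exact (helper24.blockCoeff_props (M := M) χ0).2.1 _
    · intro ψ hψ hc
      exact hrel ψ hψ (helper24.memLocalIdeal_mul_left
        (helper24.memLocalRing_of_integral hMtop (hnat _)) hc)
  have hpm : ¬ p ∣ m := by
    intro hd
    apply hrel χ0 hχ0B
    obtain ⟨k, hk⟩ := hd
    rw [hk]
    push_cast
    have hint : IsIntegral ℤ (centralChar (χ0 : G ⧸ N → ℂ) (QuotientGroup.mk h : G ⧸ N)) :=
      helper23.irr_centralChar_isIntegral χ0 _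
    have e : (p : ℂ) * (k : ℂ) * centralChar (χ0 : G ⧸ N → ℂ) (QuotientGroup.mk h : G ⧸ N) =
        ((k : ℂ) * centralChar (χ0 : G ⧸ N → ℂ) (QuotientGroup.mk h : G ⧸ N)) * (p : ℂ) := by
      ring
    rw [e]
    exact helper24.memLocalIdeal_mul_left (helper24.memLocalRing_of_integral hMtop
      ((hnat k).mul hint)) (helper24.prime_memLocalIdeal hM)
  obtain ⟨Sy⟩ : Nonempty (Sylow p (Subgroup.centralizer ({h} : Set G))) := inferInstance
  obtain ⟨Sbar, hSbar⟩ := helper1.sylow_centralizer_image N p h _ rfl (by rw [← hm]; exact hpm) Sy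
  obtain ⟨D, hDE⟩ : ∃ D : Subgroup G, D = (Sy : Subgroup (Subgroup.centralizer ({h} : Set G))).map
    (Subgroup.centralizer ({h} : Set G)).subtype := ⟨_, rfl⟩
  rw [← hDE] at hSbar
  have hD : IsDefectGroup p M B D := ⟨h, hh, Sy, hDE⟩
  have hDbar0 : IsDefectGroup p M Bbar (D.map (QuotientGroup.mk' N)) :=
    ⟨(QuotientGroup.mk h : G ⧸ N), hdc, Sbar, hSbar.symm⟩
  have hhom : ∀ x : G, (QuotientGroup.mk' N).comp (MulAut.conj x).toMonoidHom =
      (MulAut.conj ((QuotientGroup.mk' N) x)).toMonoidHom.comp (QuotientGroup.mk' N) := by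
    intro x
    ext d
    simp [MulAut.conj_apply]
  refine ⟨Bbar, hBbar, ?_, ?_⟩
  · intro χ hχ ψ hψe
    have : ψ = helper1.inflIrr N χ := Subtype.ext hψe
    rw [this]; exact hsubS χ hχ
  · intro Dbar
    constructor
    · intro hDb
      obtain ⟨xbar, hx⟩ := helper24.defectGroups_conj p hM Bbar hBbar hDbar0 hDb
      obtain ⟨x, rfl⟩ := QuotientGroup.mk'_surjective N xbar
      refine ⟨D.map (MulAut.conj x).toMonoidHom, helper24.isDefectGroup_conj p M B hD x, ?_⟩
      rw [← hx, Subgroup.map_map, Subgroup.map_map, hhom]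
    · rintro ⟨P, hP, rfl⟩
      obtain ⟨x, hx⟩ := helper24.defectGroups_conj p hM B hB hD hP
      rw [← hx]
      have := helper24.isDefectGroup_conj p M Bbar hDbar0 ((QuotientGroup.mk' N) x)
      rw [Subgroup.map_map, ← hhom, ← Subgroup.map_map] at this
      exact this

end Cfsg.Agent.S4434
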