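import Cfsg.Statements.S0956
import Mathlib
import Cfsg.Agent.Lib_helper1_GreenAsm
import Cfsg.Agent.S4434
import Cfsg.Agent.Lib_helper24_FirstMain2
import Cfsg.Agent.Lib_helper24_BPair9
import Cfsg.Agent.Lib_helper1_OneBlock
import Cfsg.Agent.Lib_helper1_PrincQuot

set_option autoImplicit false
set_option linter.style.haveILetI false
set_option linter.unusedVariables false
open Cfsg

namespace Cfsg.Agent.S0956

universe u

theorem green_core {G : Type u} [Group G] [Finite G] (p : ℕ) [Fact p.Prime] (M : Ideal Cfsg.AlgInt)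
    (hM : Cfsg.IsPModular p M) (D : Subgroup G) (hDp : IsPGroup p D) (Nn : Subgroup G)
    (hNn : Nn = Subgroup.normalizer (D : Set G)) (b : Set (Cfsg.IrrCharacter Nn))
    (hb : Cfsg.IsPBlock M b) (hbD : Cfsg.IsDefectGroup p M b (D.subgroupOf Nn))
    (P : Sylow p G) (hDP : D ≤ P) :
    ∃ x : G, ¬ p ∣ orderOf x ∧ (∃ S : Sylow p (Subgroup.centralizer ({x} : Set G)),
      (S : Subgroup (Subgroup.centralizer ({x} : Set G))).map
        (Subgroup.centralizer ({x} : Set G)).subtype = D) ∧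
      (P : Subgroup G) ⊓ (P : Subgroup G).map (MulAut.conj x).toMonoidHom = D := by
  classical
  have := Fintype.ofFinite G
  have := Fintype.ofFinite Nn
  have hpp : p.Prime := Fact.out
  haveI hMp : M.IsPrime := hM.2.1.isPrime
  have hMtop : M ≠ ⊤ := hMp.ne_top
  have hDN : D ≤ Nn := hNn ▸ Subgroup.le_normalizer
  haveI hN'n : (D.subgroupOf Nn).Normal := Subgroup.normal_subgroupOf_of_le_normalizer hNn.le
  have hN'p : IsPGroup p (D.subgroupOf Nn) := hDp.comap_subtype
  have := Fintype.ofFinite (Nn ⧸ D.subgroupOf Nn)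
  obtain ⟨Bbar, hBbar, hinfl, hdefbar⟩ :=
    Cfsg.Agent.S4434.result p M hM (D.subgroupOf Nn) hN'p b hb
  -- Bbar has trivial defect groups
  obtain ⟨Dbar, hDbar⟩ := helper24.exists_defectGroup p M hM Bbar hBbar
  obtain ⟨P', hP', hDbarP'⟩ := (hdefbar Dbar).mp hDbar
  obtain ⟨n₀, hn₀⟩ := helper24.defectGroups_conj p hM b hb hbD hP'
  have hconjN : ∀ n : Nn, (D.subgroupOf Nn).map (MulAut.conj n).toMonoidHom = D.subgroupOf Nn :=
    fun n => Subgroup.Normal.map_conj_eq (D.subgroupOf Nn) n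
  have hP'eq : P' = D.subgroupOf Nn := by rw [← hn₀]; exact hconjN n₀
  have hDbarbot : Dbar = ⊥ := by
    rw [hDbarP', hP'eq]
    exact QuotientGroup.map_mk'_self _
  have hdef0 : blockDefect p Bbar = 0 := by
    have h1 := helper24.card_defectGroup p M hM Bbar hBbar Dbar hDbar
    rw [hDbarbot, Subgroup.card_bot] at h1
    by_contra h0
    have : 1 < p ^ blockDefect p Bbar := Nat.one_lt_pow h0 hpp.one_lt
    omega
  obtain ⟨χ₀, hχ₀⟩ := hBbar
  have hχ₀mem : χ₀ ∈ Bbar := by rw [hχ₀]; exact helper24.sameBlock_refl M hMtop _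
  have hdeg : p ^ (Nat.card (Nn ⧸ D.subgroupOf Nn)).factorization p ∣
      charDegree (χ₀ : Nn ⧸ D.subgroupOf Nn → ℂ) := by
    have h1 : sInf ((fun χ : IrrCharacter (Nn ⧸ D.subgroupOf Nn) =>
        (charDegree (χ : Nn ⧸ D.subgroupOf Nn → ℂ)).factorization p) '' Bbar)
        ≤ (charDegree (χ₀ : Nn ⧸ D.subgroupOf Nn → ℂ)).factorization p :=
      Nat.sInf_le ⟨χ₀, hχ₀mem, rfl⟩
    unfold blockDefect at hdef0
    have hle : (Nat.card (Nn ⧸ D.subgroupOf Nn)).factorization p
        ≤ (charDegree (χ₀ : Nn ⧸ D.subgroupOf Nn → ℂ)).factorization p := by omega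
    exact (Nat.Prime.pow_dvd_iff_le_factorization hpp
      (helper24.irr_charDegree_pos χ₀.2).ne').mpr hle
  -- the inflated character
  set ψ : IrrCharacter Nn := helper1.inflIrr (D.subgroupOf Nn) χ₀ with hψ
  have hψb : ψ ∈ b := hinfl χ₀ hχ₀mem ψ rfl
  -- defect class of b
  obtain ⟨xN, hxN⟩ := helper24.exists_defectClass p M hM b hb
  have hxreg : ¬ p ∣ orderOf xN := by
    intro h
    apply hxN.2.1
    rw [helper1.blockCoeff_eq_zero_of_singular p M hM b hb xN h]
    exact helper24.memLocalIdeal_zero hMtop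
  have hωψ : ¬ MemLocalIdeal M (centralChar (ψ : Nn → ℂ) xN) := hxN.2.2 ψ hψb
  obtain ⟨Sx, hSx⟩ : ∃ Sx : Sylow p (Subgroup.centralizer ({xN} : Set Nn)), Sx = default :=
    ⟨_, rfl⟩
  have hDx : IsDefectGroup p M b ((Sx : Subgroup (Subgroup.centralizer ({xN} : Set Nn))).map
      (Subgroup.centralizer ({xN} : Set Nn)).subtype) := ⟨xN, hxN, Sx, rfl⟩
  obtain ⟨n₁, hn₁⟩ := helper24.defectGroups_conj p hM b hb hbD hDx
  have hDS : D.subgroupOf Nn = (Sx : Subgroup (Subgroup.centralizer ({xN} : Set Nn))).map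
      (Subgroup.centralizer ({xN} : Set Nn)).subtype := by rw [← hn₁]; exact (hconjN n₁).symm
  have hxcomm : ∀ d ∈ D.subgroupOf Nn, d * xN = xN * d := by
    intro d hd
    rw [hDS] at hd
    obtain ⟨d', -, rfl⟩ := hd
    have := Subgroup.mem_centralizer_iff.mp d'.2 xN (Set.mem_singleton _)
    exact this.symm
  have hcardN' : Nat.card (D.subgroupOf Nn)
      = p ^ (Nat.card (Subgroup.centralizer ({xN} : Set Nn))).factorization p := by
    rw [hDS, Subgroup.card_map_of_injective (Subgroup.subtype_injective _)]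
    exact Sx.card_eq_multiplicity
  -- centralizer in the quotient
  have hcomap := helper1.comap_centralizer_quot p (D.subgroupOf Nn) hN'p xN hxreg hxcomm
  have hidx : (Subgroup.centralizer
      ({(QuotientGroup.mk xN : Nn ⧸ D.subgroupOf Nn)} : Set (Nn ⧸ D.subgroupOf Nn))).index
      = (Subgroup.centralizer ({xN} : Set Nn)).index := by
    rw [← hcomap, Subgroup.index_comap_of_surjective _ (QuotientGroup.mk'_surjective _)]
  have hωbar : ¬ MemLocalIdeal M (centralChar (χ₀ : Nn ⧸ D.subgroupOf Nn → ℂ)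
      (QuotientGroup.mk xN : Nn ⧸ D.subgroupOf Nn)) := by
    have : centralChar (χ₀ : Nn ⧸ D.subgroupOf Nn → ℂ)
        (QuotientGroup.mk xN : Nn ⧸ D.subgroupOf Nn) = centralChar (ψ : Nn → ℂ) xN := by
      unfold centralChar
      rw [hidx]
      rfl
    rw [this]; exact hωψ
  have hcentbar : ¬ p ∣ Nat.card (Subgroup.centralizer
      ({(QuotientGroup.mk xN : Nn ⧸ D.subgroupOf Nn)} : Set (Nn ⧸ D.subgroupOf Nn))) := by
    intro hdvd
    have h1 := Subgroup.index_mul_card (Subgroup.centralizer ({xN} : Set Nn))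
    have h2 := Subgroup.index_mul_card (Subgroup.centralizer
      ({(QuotientGroup.mk xN : Nn ⧸ D.subgroupOf Nn)} : Set (Nn ⧸ D.subgroupOf Nn)))
    have h3 := Subgroup.card_eq_card_quotient_mul_card_subgroup (D.subgroupOf Nn)
    rw [hidx] at h2
    have hidxpos : 0 < (Subgroup.centralizer ({xN} : Set Nn)).index :=
      Nat.pos_of_ne_zero Subgroup.index_ne_zero_of_finite
    have h4 : Nat.card (Subgroup.centralizer ({xN} : Set Nn))
        = Nat.card (Subgroup.centralizer
          ({(QuotientGroup.mk xN : Nn ⧸ D.subgroupOf Nn)} : Set (Nn ⧸ D.subgroupOf Nn)))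
          * Nat.card (D.subgroupOf Nn) := by
      apply Nat.eq_of_mul_eq_mul_left hidxpos
      rw [h1, h3, ← h2]; ring
    obtain ⟨e, he⟩ := hdvd
    have h5 : p ^ ((Nat.card (Subgroup.centralizer ({xN} : Set Nn))).factorization p + 1)
        ∣ Nat.card (Subgroup.centralizer ({xN} : Set Nn)) := by
      rw [pow_succ, ← hcardN']
      refine ⟨e, ?_⟩
      rw [h4, he]; ring
    exact Nat.pow_succ_factorization_not_dvd Nat.card_pos.ne' hpp h5
  -- the Sylow subgroup of the quotient
  have hP₁p : IsPGroup p (((P : Subgroup G).subgroupOf Nn).map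
      (QuotientGroup.mk' (D.subgroupOf Nn))) := (P.isPGroup'.comap_subtype).map _
  obtain ⟨Qbar, hQbar⟩ := hP₁p.exists_le_sylow
  obtain ⟨ybar, hconj, hint⟩ := helper1.dz_sylow_inter p M hM χ₀ hdeg
    (QuotientGroup.mk xN : Nn ⧸ D.subgroupOf Nn) hcentbar hωbar Qbar
  obtain ⟨cbar, hc⟩ := isConj_iff.mp hconj
  obtain ⟨c, rfl⟩ := QuotientGroup.mk_surjective cbar
  set yN : Nn := c * xN * c⁻¹ with hyN
  have hyNbar : (QuotientGroup.mk yN : Nn ⧸ D.subgroupOf Nn) = ybar := by
    rw [hyN, QuotientGroup.mk_mul, QuotientGroup.mk_mul, QuotientGroup.mk_inv]; exact hc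
  have hyord : ¬ p ∣ orderOf (yN : G) := by
    rw [Subgroup.orderOf_coe, hyN]
    have : orderOf (c * xN * c⁻¹) = orderOf xN := by
      rw [← MulAut.conj_apply]; exact MulEquiv.orderOf_eq _ _
    rw [this]; exact hxreg
  have hycomm : ∀ d' ∈ D.subgroupOf Nn, d' * yN = yN * d' := by
    intro d' hd'
    have h1 : c⁻¹ * d' * c ∈ D.subgroupOf Nn := by
      have := hN'n.conj_mem d' hd' c⁻¹
      rwa [inv_inv] at this
    have h2 := hxcomm _ h1
    rw [hyN]
    calc d' * (c * xN * c⁻¹) = c * ((c⁻¹ * d' * c) * xN) * c⁻¹ := by group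
      _ = c * (xN * (c⁻¹ * d' * c)) * c⁻¹ := by rw [h2]
      _ = c * xN * c⁻¹ * d' := by group
  have hyD : ∀ d ∈ D, d * (yN : G) = (yN : G) * d := by
    intro d hd
    have := hycomm ⟨d, hDN hd⟩ (Subgroup.mem_subgroupOf.mpr hd)
    exact congrArg Subtype.val this
  -- key: p-elements of Nn commuting with yN lie in D
  have hkeyC : ∀ u : G, u ∈ Nn → u * (yN : G) = (yN : G) * u → (∃ k : ℕ, u ^ (p ^ k) = 1) →
      u ∈ D := by
    intro u huN hucomm ⟨k, hk⟩
    set uN : Nn := ⟨u, huN⟩ with huNdef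
    have h1 : (QuotientGroup.mk uN : Nn ⧸ D.subgroupOf Nn) * ybar
        * (QuotientGroup.mk uN : Nn ⧸ D.subgroupOf Nn)⁻¹ = ybar := by
      rw [← hyNbar, ← QuotientGroup.mk_mul, ← QuotientGroup.mk_inv, ← QuotientGroup.mk_mul]
      congr 1
      apply Subtype.ext
      show u * (yN : G) * u⁻¹ = (yN : G)
      rw [hucomm]; group
    have h2 : (QuotientGroup.mk uN : Nn ⧸ D.subgroupOf Nn) ^ (p ^ k) = 1 := by
      rw [← QuotientGroup.mk_pow]
      have : uN ^ (p ^ k) = 1 := by
        apply Subtype.ext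
        show u ^ (p ^ k) = 1
        exact hk
      rw [this]; rfl
    have h3 := helper1.p_elt_comm_conj_eq_one p
      (QuotientGroup.mk xN : Nn ⧸ D.subgroupOf Nn) ybar
      (QuotientGroup.mk uN : Nn ⧸ D.subgroupOf Nn) hcentbar hconj h1 k h2
    have h4 : uN ∈ D.subgroupOf Nn := (QuotientGroup.eq_one_iff uN).mp h3
    exact Subgroup.mem_subgroupOf.mp h4
  refine ⟨(yN : G), hyord, ?_, ?_⟩
  · -- Sylow subgroup of the centralizer
    have hDC : D ≤ Subgroup.centralizer ({(yN : G)} : Set G) := by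
      intro d hd
      rw [Subgroup.mem_centralizer_iff]
      intro h hh
      rw [Set.mem_singleton_iff] at hh
      subst hh
      exact (hyD d hd).symm
    have hDCp : IsPGroup p (D.subgroupOf (Subgroup.centralizer ({(yN : G)} : Set G))) :=
      hDp.comap_subtype
    obtain ⟨S, hS⟩ := hDCp.exists_le_sylow
    refine ⟨S, ?_⟩
    have hRp : IsPGroup p ((S : Subgroup (Subgroup.centralizer ({(yN : G)} : Set G))).map
        (Subgroup.centralizer ({(yN : G)} : Set G)).subtype) := S.isPGroup'.map _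
    have hDR : D ≤ (S : Subgroup (Subgroup.centralizer ({(yN : G)} : Set G))).map
        (Subgroup.centralizer ({(yN : G)} : Set G)).subtype := by
      intro d hd
      exact ⟨⟨d, hDC hd⟩, hS (Subgroup.mem_subgroupOf.mpr hd), rfl⟩
    apply le_antisymm _ hDR
    apply helper1.pgroup_le_of_normalizer_le p D _ hRp hDR
    intro u huR huN
    have huNn : u ∈ Nn := hNn ▸ huN
    have hucomm : u * (yN : G) = (yN : G) * u := by
      obtain ⟨u', -, rfl⟩ := huR
      have := Subgroup.mem_centralizer_iff.mp u'.2 (yN : G) (Set.mem_singleton _)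
      exact this.symm
    obtain ⟨k, hk⟩ := hRp ⟨u, huR⟩
    have hk' : u ^ (p ^ k) = 1 := by
      have := congrArg Subtype.val hk
      simpa using this
    exact hkeyC u huNn hucomm ⟨k, hk'⟩
  · -- the Sylow intersection
    have hDle : D ≤ (P : Subgroup G) ⊓ (P : Subgroup G).map (MulAut.conj (yN : G)).toMonoidHom := by
      intro d hd
      rw [Subgroup.mem_inf]
      refine ⟨hDP hd, ⟨d, hDP hd, ?_⟩⟩
      show (yN : G) * d * (yN : G)⁻¹ = d
      rw [← hyD d hd]; group
    apply le_antisymm _ hDle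
    have hR₂p : IsPGroup p ((P : Subgroup G) ⊓
        (P : Subgroup G).map (MulAut.conj (yN : G)).toMonoidHom : Subgroup G) :=
      P.isPGroup'.to_le inf_le_left
    apply helper1.pgroup_le_of_normalizer_le p D _ hR₂p hDle
    intro u huR huN
    have huNn : u ∈ Nn := hNn ▸ huN
    rw [Subgroup.mem_inf] at huR
    obtain ⟨huP, q, hqP, hqu⟩ := huR
    have hqu' : (yN : G) * q * (yN : G)⁻¹ = u := hqu
    have hq : q = (yN : G)⁻¹ * u * (yN : G) := by rw [← hqu']; group
    set uN : Nn := ⟨u, huNn⟩ with huNdef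
    have h1 : (QuotientGroup.mk uN : Nn ⧸ D.subgroupOf Nn) ∈ (Qbar : Subgroup _) := by
      apply hQbar
      exact ⟨uN, Subgroup.mem_subgroupOf.mpr huP, rfl⟩
    have h2 : ybar⁻¹ * (QuotientGroup.mk uN : Nn ⧸ D.subgroupOf Nn) * ybar
        ∈ (Qbar : Subgroup _) := by
      apply hQbar
      refine ⟨yN⁻¹ * uN * yN, ?_, ?_⟩
      · show (yN : G)⁻¹ * u * (yN : G) ∈ (P : Subgroup G)
        rw [← hq]; exact hqP
      · rw [← hyNbar]
        show (QuotientGroup.mk (yN⁻¹ * uN * yN) : Nn ⧸ D.subgroupOf Nn) = _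
        rw [QuotientGroup.mk_mul, QuotientGroup.mk_mul, QuotientGroup.mk_inv]
    have h3 := hint _ h1 h2
    have h4 : uN ∈ D.subgroupOf Nn := (QuotientGroup.eq_one_iff uN).mp h3
    exact Subgroup.mem_subgroupOf.mp h4

/-- Let D be a defect group of a block of the finite group G (relative to a maximal ideal M of the algebraic integers containing the prime p) and P a Sylow p-subgroup containing D. Then there is an element x of order prime to p such that D is a Sylow p-subgroup of the centralizer of x and D = P ∩ x P x⁻¹. -/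
theorem result {G : Type*} [Group G] [Finite G] (p : ℕ) [Fact p.Prime] (M : Ideal Cfsg.AlgInt) (hM : Cfsg.IsPModular p M) (B : Set (Cfsg.IrrCharacter G)) (hB : Cfsg.IsPBlock M B) (D : Subgroup G) (hD : Cfsg.IsDefectGroup p M B D) (P : Sylow p G) (hDP : D ≤ P) : ∃ x : G, ¬ p ∣ orderOf x ∧ (∃ S : Sylow p (Subgroup.centralizer ({x} : Set G)), (S : Subgroup (Subgroup.centralizer ({x} : Set G))).map (Subgroup.centralizer ({x} : Set G)).subtype = D) ∧ (P : Subgroup G) ⊓ (P : Subgroup G).map (MulAut.conj x).toMonoidHom = D := by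
  classical
  have := Fintype.ofFinite G
  have hDp : IsPGroup p D := helper24.defectGroup_isPGroup p M B D hD
  obtain ⟨b, ⟨hb, hbD, hbind⟩, -⟩ := (helper24.first_main p M hM D hDp).2 B hB hD
  exact green_core p M hM D hDp (Subgroup.normalizer (D : Set G)) rfl b hb hbD P hDP

end Cfsg.Agent.S0956
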