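import Cfsg.Statements.S0957
import Mathlib
import Cfsg.Agent.Lib_helper5_Orbit

set_option autoImplicit false
open Cfsg

namespace Cfsg.Agent.S0957

open Cfsg.Agent.helper5

abbrev PairSet {G : Type*} [Group G] (P : Subgroup G) (g h : G) : Type _ :=
  {yz : G × G // IsConj g yz.1 ∧ IsConj h yz.2 ∧ yz.2 * yz.1⁻¹ ∈ P}

theorem conj_mem {G : Type*} [Group G] (P : Subgroup G) (g h : G) (a : P) (yz : PairSet P g h) :
    IsConj g ((a : G) * yz.1.1 * (a : G)⁻¹) ∧ IsConj h ((a : G) * yz.1.2 * (a : G)⁻¹) ∧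
      ((a : G) * yz.1.2 * (a : G)⁻¹) * ((a : G) * yz.1.1 * (a : G)⁻¹)⁻¹ ∈ P := by
  obtain ⟨h1, h2, h3⟩ := yz.2
  refine ⟨h1.trans (isConj_iff.mpr ⟨a, rfl⟩), h2.trans (isConj_iff.mpr ⟨a, rfl⟩), ?_⟩
  have : (a : G) * yz.1.2 * (a : G)⁻¹ * ((a : G) * yz.1.1 * (a : G)⁻¹)⁻¹ =
      (a : G) * (yz.1.2 * yz.1.1⁻¹) * (a : G)⁻¹ := by group
  rw [this]
  exact P.mul_mem (P.mul_mem a.2 h3) (P.inv_mem a.2)

@[reducible] def act {G : Type*} [Group G] (P : Subgroup G) (g h : G) :
    MulAction P (PairSet P g h) where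
  smul a yz := ⟨((a : G) * yz.1.1 * (a : G)⁻¹, (a : G) * yz.1.2 * (a : G)⁻¹), conj_mem P g h a yz⟩
  one_smul yz := by
    apply Subtype.ext
    apply Prod.ext <;> simp [HSMul.hSMul]
  mul_smul a b yz := by
    apply Subtype.ext
    apply Prod.ext <;> simp [HSMul.hSMul, mul_assoc]

theorem result {G : Type*} [Group G] [Finite G] (p : ℕ) [Fact p.Prime] (P : Sylow p G) (g h : G) (S : Sylow p (Subgroup.centralizer ({g} : Set G))) : Nat.card P / Nat.card S ∣ Nat.card {yz : G × G // IsConj g yz.1 ∧ IsConj h yz.2 ∧ yz.2 * yz.1⁻¹ ∈ (P : Subgroup G)} := by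
  classical
  have hp : p.Prime := Fact.out
  letI : MulAction (P : Subgroup G) (PairSet (P : Subgroup G) g h) := act (P : Subgroup G) g h
  have hsmul : ∀ (a : (P : Subgroup G)) (yz : PairSet (P : Subgroup G) g h),
      (a • yz).1 = ((a : G) * yz.1.1 * (a : G)⁻¹, (a : G) * yz.1.2 * (a : G)⁻¹) := fun _ _ => rfl
  apply dvd_card_of_dvd_orbits (G := (P : Subgroup G)) (α := PairSet (P : Subgroup G) g h)
  intro a
  -- orbit-stabilizer
  have hos := card_orbit_mul_card_stabilizer (G := (P : Subgroup G)) a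
  -- cardinalities
  have hCpos : Nat.card (Subgroup.centralizer ({g} : Set G)) ≠ 0 := Nat.card_pos.ne'
  have hGpos : Nat.card G ≠ 0 := Nat.card_pos.ne'
  have hScard : Nat.card S = p ^ (Nat.card (Subgroup.centralizer ({g} : Set G))).factorization p :=
    S.card_eq_multiplicity
  have hn : Nat.card P = p ^ (Nat.card G).factorization p := P.card_eq_multiplicity
  have hStp : IsPGroup p (MulAction.stabilizer (P : Subgroup G) a) := P.isPGroup'.to_subgroup _
  obtain ⟨s, hs⟩ := IsPGroup.iff_card.mp hStp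
  -- the stabilizer embeds in the centralizer of g
  obtain ⟨k, hk⟩ := isConj_iff.mp a.2.1
  have hmemC : ∀ b : MulAction.stabilizer (P : Subgroup G) a,
      k⁻¹ * ((b : (P : Subgroup G)) : G) * k ∈ Subgroup.centralizer ({g} : Set G) := by
    intro b
    have hb : (b : (P : Subgroup G)) • a = a := b.2
    have h1 := congrArg (fun w => w.1.1) hb
    simp only [hsmul] at h1
    rw [Subgroup.mem_centralizer_iff]
    intro z hz
    rw [Set.mem_singleton_iff] at hz
    subst hz
    rw [← hk] at h1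
    have h2 : ((b : (P : Subgroup G)) : G) * (k * z * k⁻¹) = (k * z * k⁻¹) * ((b : (P : Subgroup G)) : G) := by
      calc ((b : (P : Subgroup G)) : G) * (k * z * k⁻¹)
          = (((b : (P : Subgroup G)) : G) * (k * z * k⁻¹) * ((b : (P : Subgroup G)) : G)⁻¹) * ((b : (P : Subgroup G)) : G) := by group
        _ = (k * z * k⁻¹) * ((b : (P : Subgroup G)) : G) := by rw [h1]
    calc z * (k⁻¹ * ((b : (P : Subgroup G)) : G) * k) = k⁻¹ * ((k * z * k⁻¹) * ((b : (P : Subgroup G)) : G)) * k := by group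
      _ = k⁻¹ * (((b : (P : Subgroup G)) : G) * (k * z * k⁻¹)) * k := by rw [h2]
      _ = k⁻¹ * ((b : (P : Subgroup G)) : G) * k * z := by group
  let φ : MulAction.stabilizer (P : Subgroup G) a →* Subgroup.centralizer ({g} : Set G) :=
    { toFun := fun b => ⟨k⁻¹ * ((b : (P : Subgroup G)) : G) * k, hmemC b⟩
      map_one' := by apply Subtype.ext; simp
      map_mul' := fun b c => by apply Subtype.ext; simp [mul_assoc] }
  have hφinj : Function.Injective φ := by
    intro b c hbc
    have h1 : k⁻¹ * ((b : (P : Subgroup G)) : G) * k = k⁻¹ * ((c : (P : Subgroup G)) : G) * k :=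
      congrArg Subtype.val hbc
    have h2 : ((b : (P : Subgroup G)) : G) = ((c : (P : Subgroup G)) : G) := by
      have := congrArg (fun w => k * w * k⁻¹) h1
      simpa [mul_assoc] using this
    exact Subtype.ext (Subtype.ext h2)
  have hdvd : Nat.card (MulAction.stabilizer (P : Subgroup G) a) ∣
      Nat.card (Subgroup.centralizer ({g} : Set G)) := Subgroup.card_dvd_of_injective φ hφinj
  rw [hs] at hdvd
  have hsle : s ≤ (Nat.card (Subgroup.centralizer ({g} : Set G))).factorization p :=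
    (hp.pow_dvd_iff_le_factorization hCpos).mp hdvd
  -- d ≤ n
  have hdn : (Nat.card (Subgroup.centralizer ({g} : Set G))).factorization p ≤
      (Nat.card G).factorization p := by
    apply (hp.pow_dvd_iff_le_factorization hGpos).mp
    have h1 : p ^ (Nat.card (Subgroup.centralizer ({g} : Set G))).factorization p ∣
        Nat.card (Subgroup.centralizer ({g} : Set G)) := Nat.ordProj_dvd _ _
    exact h1.trans (Subgroup.card_subgroup_dvd_card _)
  -- assemble
  rw [hn, hs] at hos
  rw [hn, hScard]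
  generalize (Nat.card (Subgroup.centralizer ({g} : Set G))).factorization p = d at *
  generalize (Nat.card G).factorization p = n at *
  have hsn : s ≤ n := hsle.trans hdn
  have horb : Nat.card (MulAction.orbit (P : Subgroup G) a) = p ^ (n - s) := by
    have h1 : p ^ n = p ^ (n - s) * p ^ s := by rw [← pow_add, Nat.sub_add_cancel hsn]
    rw [h1] at hos
    exact Nat.eq_of_mul_eq_mul_right (pow_pos hp.pos s) hos
  rw [horb, Nat.pow_div hdn hp.pos]
  exact pow_dvd_pow p (by omega)

end Cfsg.Agent.S0957
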