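import Cfsg.Statements.S0966
import Mathlib
import Cfsg.Agent.Lib_helper8_Cover
import Cfsg.Agent.Lib_helper1_Core
import Cfsg.Agent.Lib_helper24_CharValues

set_option autoImplicit false
open Cfsg

namespace Cfsg.Agent.S0966

/-- Let N be a normal subgroup of p-power index in the finite group G and b a block of N relative to a maximal ideal M of the algebraic integers containing p. Then there is exactly one block B of G containing a character whose restriction to N has a constituent in b. -/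
theorem result {G : Type*} [Group G] [Fintype G] (p : ℕ) [Fact p.Prime] (M : Ideal Cfsg.AlgInt) (hM : Cfsg.IsPModular p M) (N : Subgroup G) [N.Normal] [Fintype N] (hidx : ∃ k : ℕ, N.index = p ^ k) (b : Set (Cfsg.IrrCharacter N)) (hb : Cfsg.IsPBlock M b) : ∃! B : Set (Cfsg.IrrCharacter G), Cfsg.IsPBlock M B ∧ ∃ χ ∈ B, ∃ θ ∈ b, Cfsg.classInner (fun n : N => (χ : G → ℂ) n) (θ : N → ℂ) ≠ 0 := by
  classical
  have hM' := hM
  obtain ⟨hp, hmax, _⟩ := hM'
  haveI hMp : M.IsPrime := hmax.isPrime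
  obtain ⟨k, hk⟩ := hidx
  obtain ⟨θ₀, rfl⟩ := hb
  obtain ⟨X, hX, hXθ⟩ := Cfsg.Agent.helper12.exists_irr_over N θ₀.2
  have hθ₀ : θ₀ ∈ Cfsg.blockOf M (θ₀ : N → ℂ) := Cfsg.Agent.helper24.sameBlock_refl M hMp.ne_top _
  refine ⟨Cfsg.blockOf M X, ⟨⟨⟨X, hX⟩, rfl⟩, ⟨X, hX⟩,
    Cfsg.Agent.helper24.sameBlock_refl M hMp.ne_top _, θ₀, hθ₀, hXθ⟩, ?_⟩
  rintro B' ⟨⟨χ₁, rfl⟩, χ', hχ', θ', hθ', hunder⟩
  have hs : Cfsg.SameBlock M X (χ' : G → ℂ) :=
    Cfsg.Agent.helper8.Cover.sameBlock_of_under_of_index N hM hk (χ := ⟨X, hX⟩) (χ' := χ')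
      (θ := θ₀) (θ' := θ') hXθ hunder hθ'
  ext φ
  constructor
  · intro hφ
    have h1 : Cfsg.SameBlock M (χ₁ : G → ℂ) (φ : G → ℂ) := hφ
    have h2 : Cfsg.SameBlock M (χ₁ : G → ℂ) (χ' : G → ℂ) := hχ'
    exact Cfsg.Agent.helper24.sameBlock_trans hs
      (Cfsg.Agent.helper24.sameBlock_trans (Cfsg.Agent.helper24.sameBlock_symm h2) h1)
  · intro hφ
    have h1 : Cfsg.SameBlock M X (φ : G → ℂ) := hφ
    have h2 : Cfsg.SameBlock M (χ₁ : G → ℂ) (χ' : G → ℂ) := hχ'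
    exact Cfsg.Agent.helper24.sameBlock_trans h2
      (Cfsg.Agent.helper24.sameBlock_trans (Cfsg.Agent.helper24.sameBlock_symm hs) h1)

end Cfsg.Agent.S0966
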