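import Cfsg.Statements.S0967
import Mathlib
import Cfsg.Agent.Lib_helper8_Cover

set_option autoImplicit false
open Cfsg

namespace Cfsg.Agent.S0967

/-- Let N be a normal subgroup of the finite group G of order prime to p and fix a maximal ideal M of the algebraic integers containing p. If χ is an irreducible character of G ⧸ N and ψ lies in the block of its inflation χ ∘ (quotient map), then ψ is itself inflated from an irreducible character ψ' of G ⧸ N lying in the block of χ. (Over a normal p'-subgroup, blocks of the quotient are whole blocks of G.) -/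
theorem result {G : Type*} [Group G] [Finite G] (p : ℕ) [Fact p.Prime] (M : Ideal Cfsg.AlgInt) (hM : Cfsg.IsPModular p M) (N : Subgroup G) [N.Normal] (hN : ¬ p ∣ Nat.card N) (χ : Cfsg.IrrCharacter (G ⧸ N)) (ψ : Cfsg.IrrCharacter G) (hψ : ψ ∈ Cfsg.blockOf M ((χ : G ⧸ N → ℂ) ∘ QuotientGroup.mk)) : ∃ ψ' : Cfsg.IrrCharacter (G ⧸ N), (ψ : G → ℂ) = (ψ' : G ⧸ N → ℂ) ∘ QuotientGroup.mk ∧ Cfsg.SameBlock M (χ : G ⧸ N → ℂ) (ψ' : G ⧸ N → ℂ) := by
  classical
  haveI : Fintype G := Fintype.ofFinite G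
  haveI : Fintype N := Fintype.ofFinite N
  haveI : Fintype (G ⧸ N) := Fintype.ofFinite _
  have hM' := hM
  obtain ⟨hp, hmax, _⟩ := hM'
  haveI hMp : M.IsPrime := hmax.isPrime
  obtain ⟨X, hX⟩ : ∃ X : Cfsg.IrrCharacter G,
      (X : G → ℂ) = (χ : G ⧸ N → ℂ) ∘ (QuotientGroup.mk : G → G ⧸ N) :=
    ⟨⟨_, Cfsg.Agent.helper24.irr_inflation N χ.2⟩, rfl⟩
  have hs : Cfsg.SameBlock M (X : G → ℂ) (ψ : G → ℂ) := by rw [hX]; exact hψ
  obtain ⟨oneN, honeN⟩ : ∃ oneN : Cfsg.IrrCharacter N, (oneN : N → ℂ) = fun _ => 1 :=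
    ⟨⟨fun _ => 1, Cfsg.Agent.helper24.isIrrCharacter_one⟩, rfl⟩
  have hXunder : Cfsg.classInner (Cfsg.Agent.helper5.res N (X : G → ℂ)) (oneN : N → ℂ) ≠ 0 := by
    have h1 : Cfsg.Agent.helper5.res N (X : G → ℂ)
        = ((χ : G ⧸ N → ℂ) 1) • (oneN : N → ℂ) := by
      funext n
      rw [Cfsg.Agent.helper5.res_apply, hX, Pi.smul_apply, honeN, smul_eq_mul, mul_one]
      show (χ : G ⧸ N → ℂ) (QuotientGroup.mk (n : G)) = _
      rw [(QuotientGroup.eq_one_iff (n : G)).mpr n.2]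
    rw [h1, Cfsg.Agent.helper24.classInner_smul_left,
      Cfsg.Agent.helper24.irr_classInner_self oneN.2, mul_one]
    exact Cfsg.Agent.helper24.irr_apply_one_ne_zero χ.2
  have hψunder := Cfsg.Agent.helper8.Cover.under_of_sameBlock_pprime N hM hN hs hXunder
  rw [honeN] at hψunder
  have hker := Cfsg.Agent.helper8.Cover.ker_of_under_one N ψ.2 hψunder
  obtain ⟨ψ', hψ', hψeq⟩ := Cfsg.Agent.helper24.irr_deflation N ψ.2 hker
  refine ⟨⟨ψ', hψ'⟩, hψeq, ?_⟩
  intro q
  have hucl : Cfsg.IsClassFunction G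
      (Cfsg.Agent.helper24.classInd q ∘ (QuotientGroup.mk : G → G ⧸ N)) := by
    intro g k
    show Cfsg.Agent.helper24.classInd q (QuotientGroup.mk (k * g * k⁻¹))
      = Cfsg.Agent.helper24.classInd q (QuotientGroup.mk g)
    rw [QuotientGroup.mk_mul, QuotientGroup.mk_mul, QuotientGroup.mk_inv]
    exact Cfsg.Agent.helper24.classInd_isClassFunction q _ _
  have hul : ∀ g : G, Cfsg.MemLocalRing M
      ((Cfsg.Agent.helper24.classInd q ∘ (QuotientGroup.mk : G → G ⧸ N)) g) := by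
    intro g
    show Cfsg.MemLocalRing M (Cfsg.Agent.helper24.classInd q (QuotientGroup.mk g))
    unfold Cfsg.Agent.helper24.classInd
    split_ifs
    · exact Cfsg.Agent.helper24.memLocalRing_one hMp.ne_top
    · exact Cfsg.Agent.helper24.memLocalRing_zero hMp.ne_top
  have h1 := Cfsg.Agent.helper24.omegaFn_sub_memLocalIdeal hs hucl hul
  rw [hX, hψeq, Cfsg.Agent.helper8.Cover.omegaFn_infl, Cfsg.Agent.helper8.Cover.omegaFn_infl,
    Cfsg.Agent.helper24.omegaFn_classInd (Cfsg.Agent.helper24.irr_isCharacter χ.2),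
    Cfsg.Agent.helper24.omegaFn_classInd (Cfsg.Agent.helper24.irr_isCharacter hψ'),
    ← mul_sub] at h1
  have hN0 : (Nat.card N : ℂ) ≠ 0 := by exact_mod_cast (Nat.card_pos (α := N)).ne'
  have h2 := Cfsg.Agent.helper24.memLocalIdeal_mul_left (c := (Nat.card N : ℂ)⁻¹)
    (Cfsg.Agent.helper24.memLocalRing_inv
      (Cfsg.Agent.helper24.memLocalRing_of_integral hMp.ne_top (isIntegral_natCast _))
      (Cfsg.Agent.helper24.natCast_not_memLocalIdeal hM hN)) h1
  rwa [← mul_assoc, inv_mul_cancel₀ hN0, one_mul] at h2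

end Cfsg.Agent.S0967
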