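import Cfsg.Statements.S0969
import Cfsg.Agent.Lib_helper8_DefectCount
import Cfsg.Agent.Lib_helper24_DefectZero
import Cfsg.Agent.Lib_helper24_DefectTrace
import Cfsg.Agent.Lib_helper12_Sl2Gauss

set_option autoImplicit false
open Cfsg

namespace Cfsg.Agent.S0969

open Cfsg.Agent.helper24 Cfsg.Agent.helper12
open scoped ComplexConjugate

universe u

set_option linter.style.haveILetI false
set_option linter.unusedVariables false
set_option linter.unusedSectionVars false

theorem arith_core (p : ℕ) (hp : p.Prime) (a δ g' d' : ℕ) (hδ : δ ≤ a) (hg' : ¬ p ∣ g')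
    (hg'pos : 0 < g') (z t : ℤ) (hz : 0 < z)
    (h1 : (g' : ℤ) * z = (p : ℤ) ^ (a - δ) * d' * t) (h2 : (p : ℤ) ^ δ * z ≤ (p : ℤ) ^ a) :
    0 < t ∧ ¬ (p : ℤ) ∣ t := by
  have hpZ : Prime (p : ℤ) := Nat.prime_iff_prime_int.mp hp
  have hp0 : (0 : ℤ) < (p : ℤ) := by exact_mod_cast hp.pos
  have hcop : IsCoprime ((p : ℤ) ^ (a - δ)) (g' : ℤ) :=
    IsCoprime.pow_left ((hpZ.coprime_iff_not_dvd).mpr (by exact_mod_cast hg'))
  have hdvd : (p : ℤ) ^ (a - δ) ∣ z :=
    hcop.dvd_of_dvd_mul_left ⟨d' * t, by rw [h1]; ring⟩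
  obtain ⟨z', rfl⟩ := hdvd
  have hP : (0 : ℤ) < (p : ℤ) ^ (a - δ) := pow_pos hp0 _
  have hQ : (0 : ℤ) < (p : ℤ) ^ δ := pow_pos hp0 _
  have hz' : 0 < z' := by
    by_contra hcon
    push Not at hcon
    have := mul_nonpos_of_nonneg_of_nonpos hP.le hcon
    linarith
  have hz'1 : z' ≤ 1 := by
    have hsplit : (p : ℤ) ^ a = (p : ℤ) ^ δ * (p : ℤ) ^ (a - δ) := by
      rw [← pow_add]
      congr 1
      omega
    rw [hsplit, ← mul_assoc] at h2
    by_contra hcon
    push Not at hcon
    have hPQ : (0 : ℤ) < (p : ℤ) ^ δ * (p : ℤ) ^ (a - δ) := mul_pos hQ hP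
    nlinarith
  have hz'eq : z' = 1 := by omega
  subst hz'eq
  have h3 : (g' : ℤ) = d' * t := by
    apply mul_left_cancel₀ hP.ne'
    linarith
  constructor
  · by_contra hcon
    push Not at hcon
    have h4 : (d' : ℤ) * t ≤ 0 := mul_nonpos_of_nonneg_of_nonpos (by positivity) hcon
    have h5 : (0 : ℤ) < g' := by exact_mod_cast hg'pos
    linarith
  · intro hpt
    apply hg'
    have : (p : ℤ) ∣ (g' : ℤ) := by
      rw [h3]
      exact dvd_mul_of_dvd_right hpt _
    exact_mod_cast this

section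
variable {G : Type u} [Group G] [Fintype G] {M : Ideal AlgInt}

omit [Fintype G] in
theorem centralizer_inv' (x : G) :
    Subgroup.centralizer ({x⁻¹} : Set G) = Subgroup.centralizer ({x} : Set G) := by
  ext y
  simp only [Subgroup.mem_centralizer_iff, Set.mem_singleton_iff, forall_eq]
  exact (Commute.inv_left_iff (a := x) (b := y))

theorem sum_normSq (χ : IrrCharacter G) :
    ∑ g : G, Complex.normSq ((χ : G → ℂ) g) = (Nat.card G : ℝ) := by
  have hinner := irr_classInner_self χ.2
  unfold classInner at hinner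
  have hG : (Nat.card G : ℂ) ≠ 0 := by exact_mod_cast Nat.card_pos.ne'
  have h1 : ∑ g : G, (χ : G → ℂ) g * conj ((χ : G → ℂ) g) = (Nat.card G : ℂ) := by
    field_simp at hinner
    exact hinner
  have h2 : ((∑ g : G, Complex.normSq ((χ : G → ℂ) g) : ℝ) : ℂ) = ((Nat.card G : ℝ) : ℂ) := by
    push_cast
    rw [← h1]
    refine Finset.sum_congr rfl (fun g _ => ?_)
    rw [Complex.mul_conj]
  exact_mod_cast h2

/-- the bound coming from the central subgroup -/
theorem bound (p : ℕ) [Fact p.Prime] (D : Subgroup G) (hD : IsPGroup p D)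
    (hDZ : D ≤ Subgroup.center G) (χ : IrrCharacter G) :
    (Nat.card D : ℝ) * ∑ g ∈ Finset.univ.filter (fun g : G => ¬ p ∣ orderOf g),
      Complex.normSq ((χ : G → ℂ) g) ≤ (Nat.card G : ℝ) := by
  classical
  have hpp : p.Prime := Fact.out
  set Reg : Finset G := Finset.univ.filter (fun g : G => ¬ p ∣ orderOf g) with hReg
  set Df : Finset G := Finset.univ.filter (fun g : G => g ∈ D) with hDf
  have hDcard : Nat.card D = Df.card := by
    rw [Nat.card_eq_fintype_card, Fintype.card_subtype]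
  have hinj : Set.InjOn (fun zy : G × G => zy.1 * zy.2) ((Df ×ˢ Reg : Finset (G × G)) : Set (G × G)) := by
    rintro ⟨z, y⟩ h1 ⟨z', y'⟩ h2 heq
    simp only [Finset.coe_product, Set.mem_prod, Finset.mem_coe, hDf, hReg, Finset.mem_filter,
      Finset.mem_univ, true_and] at h1 h2
    simp only at heq
    set w : G := z'⁻¹ * z with hw
    have hwD : w ∈ D := D.mul_mem (D.inv_mem h2.1) h1.1
    have hy' : y' = w * y := by
      rw [hw, mul_assoc, heq, inv_mul_cancel_left]
    have hwc : Commute w y := by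
      have := Subgroup.mem_center_iff.mp (hDZ hwD) y
      exact this.symm
    obtain ⟨j, hj⟩ := (IsPGroup.iff_orderOf.mp hD) ⟨w, hwD⟩
    have hj' : orderOf w = p ^ j := by
      rw [← hj]
      exact (Subgroup.orderOf_mk w hwD).symm
    have hcop : (orderOf w).Coprime (orderOf y) := by
      rw [hj']
      exact Nat.Coprime.pow_left j ((Nat.Prime.coprime_iff_not_dvd hpp).mpr h1.2)
    have hord : orderOf y' = orderOf w * orderOf y := by
      rw [hy']
      exact hwc.orderOf_mul_eq_mul_orderOf_of_coprime hcop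
    have hj0 : j = 0 := by
      by_contra hne
      apply h2.2
      rw [hord, hj']
      exact dvd_mul_of_dvd_left (dvd_pow_self p hne) _
    have hw1 : w = 1 := by
      rw [← orderOf_eq_one_iff, hj', hj0, pow_zero]
    have hzz : z = z' := by
      have : z'⁻¹ * z = 1 := hw1
      exact (inv_mul_eq_one.mp this).symm
    have hyy : y = y' := by
      rw [hy', hw1, one_mul]
    rw [hzz, hyy]
  have hsum : ∑ g ∈ (Df ×ˢ Reg).image (fun zy : G × G => zy.1 * zy.2),
      Complex.normSq ((χ : G → ℂ) g) =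
      (Df.card : ℝ) * ∑ g ∈ Reg, Complex.normSq ((χ : G → ℂ) g) := by
    rw [Finset.sum_image hinj, Finset.sum_product]
    have : ∀ z ∈ Df, ∑ y ∈ Reg, Complex.normSq ((χ : G → ℂ) (z * y)) =
        ∑ y ∈ Reg, Complex.normSq ((χ : G → ℂ) y) := by
      intro z hz
      simp only [hDf, Finset.mem_filter, Finset.mem_univ, true_and] at hz
      have hzc : ∀ g, g * z = z * g := fun g => Subgroup.mem_center_iff.mp (hDZ hz) g
      obtain ⟨c, hc1, hc⟩ := irr_central_scalar χ.2 z hzc
      apply Finset.sum_congr rfl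
      intro y _
      rw [← hzc y, hc y, Complex.normSq_mul, Complex.normSq_eq_norm_sq, hc1]
      ring
    rw [Finset.sum_congr rfl this, Finset.sum_const, nsmul_eq_mul]
  rw [hDcard, ← hsum, ← sum_normSq χ]
  exact Finset.sum_le_sum_of_subset_of_nonneg (Finset.subset_univ _)
    (fun g _ _ => Complex.normSq_nonneg _)

/-- existence of a suitable `p`-regular class -/
theorem exists_class (p : ℕ) [Fact p.Prime] (hM : IsPModular p M) (D : Subgroup G)
    (hD : IsPGroup p D) (hDZ : D ≤ Subgroup.center G) (χ : IrrCharacter G) (δ : ℕ)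
    (hδ : Nat.card D = p ^ δ)
    (hdeg : (charDegree (χ : G → ℂ)).factorization p + δ = (Nat.card G).factorization p) :
    ∃ y : G, ¬ p ∣ orderOf y ∧ ¬ MemLocalIdeal M (centralChar (χ : G → ℂ) y) ∧
      ¬ MemLocalIdeal M ((χ : G → ℂ) y) := by
  classical
  have hpp : p.Prime := Fact.out
  haveI hMp : M.IsPrime := hM.2.1.isPrime
  have hχc : IsCharacter G (χ : G → ℂ) := irr_isCharacter χ.2
  set a : ℕ := (Nat.card G).factorization p with ha
  set d : ℕ := charDegree (χ : G → ℂ) with hd
  have hdcast : ((d : ℕ) : ℂ) = (χ : G → ℂ) 1 := char_charDegree_cast hχc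
  have hdpos : 0 < d := irr_charDegree_pos χ.2
  have hχ1 : (χ : G → ℂ) 1 ≠ 0 := by
    rw [← hdcast]
    exact_mod_cast hdpos.ne'
  set θ : G → ℂ := fun x : G => if p ∣ orderOf x then 0 else
    ((p ^ (Nat.card G).factorization p : ℕ) : ℂ) * (χ : G → ℂ) x with hθ
  obtain ⟨α, β, hα, hβ, hαβ⟩ := isGeneralizedCharacter_pregular_cut p hχc
  obtain ⟨nα, hnα⟩ := classInner_char_nat hα hχc
  obtain ⟨nβ, hnβ⟩ := classInner_char_nat hβ hχc
  set z : ℤ := (nα : ℤ) - (nβ : ℤ) with hz
  have hzθ : classInner θ (χ : G → ℂ) = (z : ℂ) := by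
    rw [hθ, hαβ, classInner_sub_left, hnα, hnβ, hz]
    push_cast
    ring
  set S₁ : Finset G := Finset.univ.filter (fun g : G => ¬ p ∣ orderOf g) with hS₁
  set r₁ : ℝ := ∑ g ∈ S₁, Complex.normSq ((χ : G → ℂ) g) with hr₁
  have hcardpos : (0 : ℝ) < (Nat.card G : ℝ) := by exact_mod_cast Nat.card_pos
  have hS₁c : ∑ g ∈ S₁, (χ : G → ℂ) g * conj ((χ : G → ℂ) g) = ((r₁ : ℝ) : ℂ) := by
    rw [hr₁]
    push_cast
    refine Finset.sum_congr rfl (fun g _ => ?_)
    rw [Complex.mul_conj]
  have hzr : (Nat.card G : ℂ) * (z : ℂ) = ((p ^ a : ℕ) : ℂ) * ((r₁ : ℝ) : ℂ) := by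
    rw [← hzθ, ← hS₁c]
    unfold classInner
    have hG : (Nat.card G : ℂ) ≠ 0 := by exact_mod_cast Nat.card_pos.ne'
    rw [← mul_assoc, mul_inv_cancel₀ hG, one_mul, hS₁, Finset.sum_filter, Finset.mul_sum]
    refine Finset.sum_congr rfl (fun g _ => ?_)
    by_cases hg : p ∣ orderOf g
    · rw [if_neg (not_not.2 hg), hθ]
      simp only [if_pos hg, zero_mul, mul_zero]
    · rw [if_pos hg, hθ]
      simp only [if_neg hg]
      ring
  have hzr' : (Nat.card G : ℝ) * (z : ℝ) = ((p ^ a : ℕ) : ℝ) * r₁ := by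
    have : (((Nat.card G : ℝ) * (z : ℝ) : ℝ) : ℂ) = ((((p ^ a : ℕ) : ℝ) * r₁ : ℝ) : ℂ) := by
      push_cast
      push_cast at hzr
      exact hzr
    exact_mod_cast this
  -- class decomposition
  set tC : ConjClasses G → ℂ := fun C => if p ∣ orderOf (Quotient.out C) then 0 else
    centralChar (χ : G → ℂ) (Quotient.out C) * conj ((χ : G → ℂ) (Quotient.out C)) with htC
  set T : ℂ := ∑ C : ConjClasses G, tC C with hT
  have hTint : IsIntegral ℤ T := by
    apply IsIntegral.sum
    intro C _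
    simp only [htC]
    split_ifs
    · exact isIntegral_zero
    · apply IsIntegral.mul (helper23.irr_centralChar_isIntegral χ _)
      rw [← char_inv hχc]
      exact helper23.irr_isIntegral χ _
  have hclass : ∑ g ∈ S₁, (χ : G → ℂ) g * conj ((χ : G → ℂ) g) = (χ : G → ℂ) 1 * T := by
    have hF : IsClassFunction G (fun g : G => if p ∣ orderOf g then (0 : ℂ) else
        (χ : G → ℂ) g * conj ((χ : G → ℂ) g)) := by
      intro g h
      have h1 : orderOf (h * g * h⁻¹) = orderOf g := by
        have := (MulAut.conj h).orderOf_eq g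
        rwa [MulAut.conj_apply] at this
      show (if p ∣ orderOf (h * g * h⁻¹) then (0 : ℂ) else _) = _
      rw [h1, char_isClassFunction hχc g h]
    have h2 := sum_classFunction_eq hF
    rw [hS₁, Finset.sum_filter]
    have h3 : ∑ g : G, (if ¬ p ∣ orderOf g then (χ : G → ℂ) g * conj ((χ : G → ℂ) g) else 0) =
        ∑ g : G, (if p ∣ orderOf g then (0 : ℂ) else (χ : G → ℂ) g * conj ((χ : G → ℂ) g)) := by
      apply Finset.sum_congr rfl
      intro g _
      by_cases hg : p ∣ orderOf g
      · rw [if_neg (not_not.2 hg), if_pos hg]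
      · rw [if_pos hg, if_neg hg]
    rw [h3, h2, hT, Finset.mul_sum]
    apply Finset.sum_congr rfl
    intro C _
    simp only [htC]
    by_cases hC : p ∣ orderOf (Quotient.out C)
    · rw [if_pos hC, if_pos hC, mul_zero, mul_zero]
    · rw [if_neg hC, if_neg hC]
      unfold centralChar
      field_simp
  -- the integer t
  have hpad : ((p ^ a * d : ℕ) : ℤ) ≠ 0 := by
    have : 0 < p ^ a * d := Nat.mul_pos (pow_pos hpp.pos a) hdpos
    exact_mod_cast this.ne'
  have hdvd1 : ((p ^ a * d : ℕ) : ℤ) ∣ (Nat.card G : ℤ) * z := by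
    apply helper23.int_dvd_of_eq_mul_isIntegral _ _ hpad T hTint
    push_cast
    rw [hzr, hS₁c.symm, hclass, ← hdcast]
    push_cast
    ring
  obtain ⟨t, ht⟩ := hdvd1
  have hTt : T = (t : ℂ) := by
    have h1 : ((p ^ a * d : ℕ) : ℂ) * T = ((p ^ a * d : ℕ) : ℂ) * (t : ℂ) := by
      have h2 : ((Nat.card G : ℤ) : ℂ) * (z : ℂ) = (((p ^ a * d : ℕ) : ℤ) : ℂ) * (t : ℂ) := by
        exact_mod_cast congrArg (fun n : ℤ => (n : ℂ)) ht
      push_cast at h2 ⊢
      rw [← h2, hzr, hS₁c.symm, hclass, ← hdcast]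
      push_cast
      ring
    have h3 : ((p ^ a * d : ℕ) : ℂ) ≠ 0 := by exact_mod_cast hpad
    exact mul_left_cancel₀ h3 h1
  -- integer relations
  set g' : ℕ := Nat.card G / p ^ a with hg'
  have hcardeq : Nat.card G = p ^ a * g' := (Nat.ordProj_mul_ordCompl_eq_self (Nat.card G) p).symm
  have hnd : ¬ p ∣ g' := Nat.not_dvd_ordCompl hpp Nat.card_pos.ne'
  have hg'pos : 0 < g' := by
    rcases Nat.eq_zero_or_pos g' with h | h
    · rw [h, mul_zero] at hcardeq
      exact absurd hcardeq Nat.card_pos.ne'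
    · exact h
  have hδa : δ ≤ a := by omega
  have hdfac : d.factorization p = a - δ := by omega
  set d' : ℕ := d / p ^ (a - δ) with hd'
  have hdeq : d = p ^ (a - δ) * d' := by
    have := (Nat.ordProj_mul_ordCompl_eq_self d p).symm
    rw [hdfac] at this
    exact this
  have hrel : (g' : ℤ) * z = (p : ℤ) ^ (a - δ) * d' * t := by
    have hpa0 : ((p : ℤ) ^ a) ≠ 0 := pow_ne_zero _ (by exact_mod_cast hpp.pos.ne')
    apply mul_left_cancel₀ hpa0
    have h1 : (Nat.card G : ℤ) = (p : ℤ) ^ a * g' := by exact_mod_cast hcardeq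
    have h2 : ((p ^ a * d : ℕ) : ℤ) = (p : ℤ) ^ a * ((p : ℤ) ^ (a - δ) * d') := by
      rw [hdeq]
      push_cast
      ring
    rw [h1, h2] at ht
    linarith
  -- positivity of z and the bound
  have hr₁pos : 0 < r₁ := by
    have h1 : (1 : G) ∈ S₁ := by
      simp only [hS₁, Finset.mem_filter, Finset.mem_univ, true_and, orderOf_one]
      exact fun h => hpp.one_lt.ne' (Nat.dvd_one.1 h)
    have h2 : 0 < Complex.normSq ((χ : G → ℂ) 1) := Complex.normSq_pos.2 hχ1
    exact lt_of_lt_of_le h2 (Finset.single_le_sum (f := fun g => Complex.normSq ((χ : G → ℂ) g))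
      (fun g _ => Complex.normSq_nonneg _) h1)
  have hpa : (0 : ℝ) < ((p ^ a : ℕ) : ℝ) := by exact_mod_cast pow_pos hpp.pos a
  have hzpos : 0 < z := by
    have h1 : (0 : ℝ) < (Nat.card G : ℝ) * (z : ℝ) := by rw [hzr']; exact mul_pos hpa hr₁pos
    have h2 : (0 : ℝ) < (z : ℝ) := by
      by_contra hneg
      push Not at hneg
      have := mul_nonpos_of_nonneg_of_nonpos hcardpos.le hneg
      linarith
    exact_mod_cast h2
  have hbound := bound p D hD hDZ χ
  rw [hδ] at hbound
  have hzle : (p : ℤ) ^ δ * z ≤ (p : ℤ) ^ a := by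
    have h1 : ((p ^ δ : ℕ) : ℝ) * r₁ ≤ (Nat.card G : ℝ) := hbound
    have h2 : (Nat.card G : ℝ) * (((p ^ δ : ℕ) : ℝ) * (z : ℝ)) ≤ (Nat.card G : ℝ) * ((p ^ a : ℕ) : ℝ) := by
      have e : (Nat.card G : ℝ) * (((p ^ δ : ℕ) : ℝ) * (z : ℝ)) =
          ((p ^ a : ℕ) : ℝ) * (((p ^ δ : ℕ) : ℝ) * r₁) := by
        rw [mul_left_comm, hzr']
        ring
      rw [e, mul_comm (Nat.card G : ℝ)]
      exact mul_le_mul_of_nonneg_left h1 hpa.le
    have h3 : ((p ^ δ : ℕ) : ℝ) * (z : ℝ) ≤ ((p ^ a : ℕ) : ℝ) := le_of_mul_le_mul_left h2 hcardpos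
    have h4 : (((p : ℤ) ^ δ * z : ℤ) : ℝ) ≤ (((p : ℤ) ^ a : ℤ) : ℝ) := by
      push_cast
      push_cast at h3
      exact h3
    exact_mod_cast h4
  obtain ⟨htpos, htp⟩ := arith_core p hpp a δ g' d' hδa hnd hg'pos z t hzpos hrel hzle
  -- T is a unit
  have hTunit : ¬ MemLocalIdeal M T := by
    rw [hTt]
    obtain ⟨n, hn⟩ := Int.eq_ofNat_of_zero_le htpos.le
    have hpn : ¬ p ∣ n := by
      intro h
      apply htp
      rw [hn]
      exact_mod_cast h
    have := natCast_not_memLocalIdeal hM hpn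
    rw [hn]
    exact_mod_cast this
  obtain ⟨C, hC⟩ : ∃ C : ConjClasses G, ¬ MemLocalIdeal M (tC C) := by
    by_contra hcon
    push Not at hcon
    exact hTunit (memLocalIdeal_sum _ _ (fun C _ => hcon C))
  refine ⟨Quotient.out C, ?_, ?_, ?_⟩
  · intro h
    apply hC
    simp only [htC]
    rw [if_pos h]
    exact memLocalIdeal_zero hMp.ne_top
  · intro h
    apply hC
    simp only [htC]
    split_ifs
    · exact memLocalIdeal_zero hMp.ne_top
    · rw [mul_comm]
      apply memLocalIdeal_mul_left _ h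
      apply memLocalRing_of_integral hMp.ne_top
      rw [← char_inv hχc]
      exact helper23.irr_isIntegral χ _
  · intro h
    apply hC
    simp only [htC]
    split_ifs
    · exact memLocalIdeal_zero hMp.ne_top
    · have e : centralChar (χ : G → ℂ) (Quotient.out C) * conj ((χ : G → ℂ) (Quotient.out C)) =
          centralChar (χ : G → ℂ) (Quotient.out C)⁻¹ * (χ : G → ℂ) (Quotient.out C) := by
        unfold centralChar
        rw [centralizer_inv', char_inv hχc]
        ring
      rw [e]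
      exact memLocalIdeal_mul_left (memLocalRing_of_integral hMp.ne_top
        (helper23.irr_centralChar_isIntegral χ _)) h

/-- a unit central character value bounds the defect -/
theorem defect_le_of_omega (p : ℕ) [Fact p.Prime] (hM : IsPModular p M)
    {B : Set (IrrCharacter G)} (hB : IsPBlock M B) {χ : IrrCharacter G} (hχ : χ ∈ B) (g : G)
    (hw : ¬ MemLocalIdeal M (centralChar (χ : G → ℂ) g)) :
    blockDefect p B ≤ (Nat.card (Subgroup.centralizer ({g} : Set G))).factorization p := by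
  classical
  have hp : p.Prime := Fact.out
  obtain ⟨g', hg'⟩ := exists_defectClass p M hM B hB
  obtain ⟨D⟩ : Nonempty (Sylow p (Subgroup.centralizer ({g'} : Set G))) := inferInstance
  obtain ⟨x, Q, hle⟩ := (Cfsg.Agent.S0911.result p M hM B hB g' hg' D g).2 ⟨χ, hχ, hw⟩
  have hDcard := Cfsg.Agent.S0908.result p M hM B hB _ ⟨g', hg', D, rfl⟩
  have h1 := Subgroup.card_le_of_le hle
  rw [Subgroup.card_map_of_injective (f := (MulAut.conj x).toMonoidHom) (MulAut.conj x).injective,
    hDcard, Subgroup.card_map_of_injective (Subgroup.subtype_injective _),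
    Q.card_eq_multiplicity] at h1
  exact (Nat.pow_le_pow_iff_right hp.one_lt).mp h1

/-- every defect group equals the central subgroup -/
theorem defect_group_eq (p : ℕ) [Fact p.Prime] (hM : IsPModular p M) (D : Subgroup G)
    (hD : IsPGroup p D) (hDZ : D ≤ Subgroup.center G) {B : Set (IrrCharacter G)}
    (hB : IsPBlock M B) (δ : ℕ) (hδ : Nat.card D = p ^ δ) (hdef : blockDefect p B ≤ δ)
    (D' : Subgroup G) (hD' : IsDefectGroup p M B D') : D' = D := by
  classical
  have hp : p.Prime := Fact.out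
  have hcard := Cfsg.Agent.S0908.result p M hM B hB D' hD'
  obtain ⟨g, hg, P, rfl⟩ := hD'
  have hDC : D ≤ Subgroup.centralizer ({g} : Set G) := by
    intro x hx
    rw [Subgroup.mem_centralizer_iff]
    intro h hh
    rw [Set.mem_singleton_iff] at hh
    subst hh
    exact (Subgroup.mem_center_iff.mp (hDZ hx) h)
  haveI hN : (D.subgroupOf (Subgroup.centralizer ({g} : Set G))).Normal := by
    constructor
    intro n hn c
    rw [Subgroup.mem_subgroupOf] at hn ⊢
    have hc : (c : G) * (n : G) * (c : G)⁻¹ = (n : G) := by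
      have := Subgroup.mem_center_iff.mp (hDZ hn) (c : G)
      rw [this, mul_inv_cancel_right]
    simpa [hc] using hn
  have hNp : IsPGroup p (D.subgroupOf (Subgroup.centralizer ({g} : Set G))) :=
    hD.comap_subtype
  have hle : D.subgroupOf (Subgroup.centralizer ({g} : Set G)) ≤ P :=
    hNp.le_sylow_of_normal P
  have hle' : D ≤ (P : Subgroup (Subgroup.centralizer ({g} : Set G))).map
      (Subgroup.centralizer ({g} : Set G)).subtype := by
    intro x hx
    refine ⟨⟨x, hDC hx⟩, hle ?_, rfl⟩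
    rw [Subgroup.mem_subgroupOf]
    exact hx
  symm
  apply Subgroup.eq_of_le_of_card_ge hle'
  rw [hcard, hδ]
  exact Nat.pow_le_pow_right hp.pos hdef

end

/-- Let D be a central p-subgroup of the finite group G and χ an irreducible character with the exponent of p in χ(1) equal to the exponent of p in the index of D; fix a maximal ideal M of the algebraic integers containing p. Then D is a defect group of the block of χ, and χ g = 0 whenever the p-part of g does not lie in D. -/
theorem result {G : Type*} [Group G] [Finite G] (p : ℕ) [Fact p.Prime] (M : Ideal Cfsg.AlgInt) (hM : Cfsg.IsPModular p M) (D : Subgroup G) (hD : IsPGroup p D) (hDZ : D ≤ Subgroup.center G) (χ : Cfsg.IrrCharacter G) (hdeg : (Cfsg.charDegree (χ : G → ℂ)).factorization p = D.index.factorization p) : Cfsg.IsDefectGroup p M (Cfsg.blockOf M (χ : G → ℂ)) D ∧ ∀ g x : G, Cfsg.IsPPart p g x → x ∉ D → (χ : G → ℂ) g = 0 := by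
  classical
  haveI := Fintype.ofFinite G
  haveI hMp : M.IsPrime := hM.2.1.isPrime
  have hp : p.Prime := Fact.out
  obtain ⟨δ, hδ⟩ := IsPGroup.exists_card_eq hD
  have hB : IsPBlock M (blockOf M (χ : G → ℂ)) := ⟨χ, rfl⟩
  have hχB : χ ∈ blockOf M (χ : G → ℂ) := sameBlock_refl M hMp.ne_top _
  have hidx : D.index.factorization p + δ = (Nat.card G).factorization p := by
    have h1 := Subgroup.card_mul_index D
    rw [hδ] at h1
    have h2 : D.index ≠ 0 := Subgroup.index_ne_zero_of_finite
    rw [← h1, Nat.factorization_mul (pow_ne_zero _ hp.pos.ne') h2, Nat.factorization_pow,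
      hp.factorization]
    simp
    ring
  have hdeg' : (charDegree (χ : G → ℂ)).factorization p + δ = (Nat.card G).factorization p := by
    rw [hdeg]
    exact hidx
  obtain ⟨y, hy, hwy, hχy⟩ := exists_class p hM D hD hDZ χ δ hδ hdeg'
  -- the centralizer of y has p-part at most p^δ
  have hCy : (Nat.card (Subgroup.centralizer ({y} : Set G))).factorization p ≤ δ := by
    by_contra hcon
    push Not at hcon
    have hχc : IsCharacter G (χ : G → ℂ) := irr_isCharacter χ.2
    set k : ℕ := (Subgroup.centralizer ({y} : Set G)).index with hk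
    set d : ℕ := charDegree (χ : G → ℂ) with hd
    have hdcast : ((d : ℕ) : ℂ) = (χ : G → ℂ) 1 := char_charDegree_cast hχc
    have hdpos : 0 < d := irr_charDegree_pos χ.2
    have hkpos : 0 < k := Nat.pos_of_ne_zero Subgroup.index_ne_zero_of_finite
    have hCk := Subgroup.card_mul_index (Subgroup.centralizer ({y} : Set G))
    have hfac : (Nat.card (Subgroup.centralizer ({y} : Set G))).factorization p + k.factorization p =
        (Nat.card G).factorization p := by
      rw [← hCk, Nat.factorization_mul Nat.card_pos.ne' hkpos.ne']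
      rfl
    set e : ℕ := k.factorization p with he
    have hed : e + 1 ≤ d.factorization p := by omega
    -- k = p^e k', d = p^(e+1) d₂
    set k' : ℕ := k / p ^ e with hk'
    have hkeq : k = p ^ e * k' := (Nat.ordProj_mul_ordCompl_eq_self k p).symm
    have hk'p : ¬ p ∣ k' := Nat.not_dvd_ordCompl hp hkpos.ne'
    obtain ⟨d₂, hd₂⟩ : p ^ (e + 1) ∣ d :=
      (Nat.Prime.pow_dvd_iff_le_factorization hp hdpos.ne').mpr hed
    -- ω d = k χ(y)
    have hω : centralChar (χ : G → ℂ) y * (d : ℂ) = (k : ℂ) * (χ : G → ℂ) y := by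
      unfold centralChar
      rw [hdcast]
      have hχ1 : (χ : G → ℂ) 1 ≠ 0 := by
        rw [← hdcast]
        exact_mod_cast hdpos.ne'
      field_simp
      rw [hk]
      ring
    have hpe : ((p ^ e : ℕ) : ℂ) ≠ 0 := by exact_mod_cast (pow_pos hp.pos e).ne'
    have h1 : (k' : ℂ) * (χ : G → ℂ) y = (p : ℂ) * ((d₂ : ℂ) * centralChar (χ : G → ℂ) y) := by
      apply mul_left_cancel₀ hpe
      have e1 : ((p ^ e : ℕ) : ℂ) * ((k' : ℂ) * (χ : G → ℂ) y) = (k : ℂ) * (χ : G → ℂ) y := by
        rw [hkeq]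
        push_cast
        ring
      rw [e1, ← hω, hd₂]
      push_cast
      ring
    have hpI : MemLocalIdeal M (p : ℂ) := by
      refine ⟨((p : ℕ) : AlgInt), 1, hM.2.2, ?_, ?_⟩
      · exact fun h => hMp.ne_top ((Ideal.eq_top_iff_one M).mpr h)
      · simp
    have h2 : MemLocalIdeal M ((k' : ℂ) * (χ : G → ℂ) y) := by
      rw [h1, mul_comm]
      apply memLocalIdeal_mul_left _ hpI
      exact memLocalRing_mul (memLocalRing_of_integral hMp.ne_top (isIntegral_natCast _))
        (memLocalRing_of_integral hMp.ne_top (helper23.irr_centralChar_isIntegral χ y))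
    have hk'u : ¬ MemLocalIdeal M (k' : ℂ) := natCast_not_memLocalIdeal hM hk'p
    have hk'l : MemLocalRing M (k' : ℂ) := memLocalRing_of_integral hMp.ne_top (isIntegral_natCast _)
    have hχl : MemLocalRing M ((χ : G → ℂ) y) :=
      memLocalRing_of_integral hMp.ne_top (helper23.irr_isIntegral χ y)
    exact not_memLocalIdeal_mul hk'l hχl hk'u hχy h2
  have hdefle : blockDefect p (blockOf M (χ : G → ℂ)) ≤ δ :=
    le_trans (defect_le_of_omega p hM hB hχB y hwy) hCy
  have hall := defect_group_eq p hM D hD hDZ hB δ hδ hdefle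
  constructor
  · obtain ⟨g', hg'⟩ := exists_defectClass p M hM _ hB
    obtain ⟨P⟩ : Nonempty (Sylow p (Subgroup.centralizer ({g'} : Set G))) := inferInstance
    have := hall _ ⟨g', hg', P, rfl⟩
    exact ⟨g', hg', P, this.symm⟩
  · intro g x hgx hxD
    apply char_vanish_of_ppart_not_in_defect p M hM χ g x hgx
    intro D' hD'
    rw [hall D' hD']
    exact hxD

end Cfsg.Agent.S0969
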