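import Cfsg.Statements.S4669
import Cfsg.Agent.S0969
import Cfsg.Agent.Lib_helper24_ItoMichler
import Cfsg.Agent.Lib_helper24_BlockOrth3

set_option autoImplicit false
open Cfsg

namespace Cfsg.Agent.S4669

open Cfsg.Agent.helper24 Cfsg.Agent.helper12
open scoped ComplexConjugate

universe u

set_option linter.style.haveILetI false
set_option linter.unusedVariables false
set_option linter.unusedSectionVars false

section
variable {G : Type u} [Group G] [Fintype G] {M : Ideal AlgInt}

theorem central_mul (χ : IrrCharacter G) (z : G) (hz : z ∈ Subgroup.center G) :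
    ((χ : G → ℂ) z / (χ : G → ℂ) 1) * conj ((χ : G → ℂ) z / (χ : G → ℂ) 1) = 1 ∧
      ∀ g, (χ : G → ℂ) (z * g) = ((χ : G → ℂ) z / (χ : G → ℂ) 1) * (χ : G → ℂ) g := by
  have hzc : ∀ g, g * z = z * g := fun g => Subgroup.mem_center_iff.mp hz g
  obtain ⟨c, hc1, hc⟩ := irr_central_scalar χ.2 z hzc
  have hχ1 : (χ : G → ℂ) 1 ≠ 0 := irr_apply_one_ne_zero χ.2
  have hcz : (χ : G → ℂ) z / (χ : G → ℂ) 1 = c := by
    have := hc 1
    rw [one_mul] at this
    rw [this]
    field_simp
  rw [hcz]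
  refine ⟨?_, fun g => by rw [← hzc g]; exact hc g⟩
  rw [Complex.mul_conj, Complex.normSq_eq_norm_sq, hc1]
  norm_num

/-- the multiplication map `P × Reg → G` is injective -/
theorem prod_injOn (p : ℕ) [Fact p.Prime] (P : Subgroup G) (hP : IsPGroup p P)
    (hPZ : P ≤ Subgroup.center G) [DecidablePred (· ∈ P)] :
    Set.InjOn (fun zy : G × G => zy.1 * zy.2)
      ((Finset.univ.filter (fun g : G => g ∈ P) ×ˢ
        Finset.univ.filter (fun g : G => ¬ p ∣ orderOf g) : Finset (G × G)) : Set (G × G)) := by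
  have hpp : p.Prime := Fact.out
  rintro ⟨z, y⟩ h1 ⟨z', y'⟩ h2 heq
  simp only [Finset.coe_product, Set.mem_prod, Finset.mem_coe, Finset.mem_filter,
    Finset.mem_univ, true_and] at h1 h2
  simp only at heq
  set w : G := z'⁻¹ * z with hw
  have hwD : w ∈ P := P.mul_mem (P.inv_mem h2.1) h1.1
  have hy' : y' = w * y := by
    rw [hw, mul_assoc, heq, inv_mul_cancel_left]
  have hwc : Commute w y := by
    have := Subgroup.mem_center_iff.mp (hPZ hwD) y
    exact this.symm
  obtain ⟨j, hj⟩ := (IsPGroup.iff_orderOf.mp hP) ⟨w, hwD⟩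
  have hj' : orderOf w = p ^ j := by
    rw [← hj]
    exact (Subgroup.orderOf_mk w hwD).symm
  have hcop : (orderOf w).Coprime (orderOf y) := by
    rw [hj']
    exact Nat.Coprime.pow_left j ((Nat.Prime.coprime_iff_not_dvd hpp).mpr h1.2)
  have hord : orderOf y' = orderOf w * orderOf y := by
    rw [hy']
    exact hwc.orderOf_mul_eq_mul_orderOf_of_coprime hcop
  have hj0 : j = 0 := by
    by_contra hne
    apply h2.2
    rw [hord, hj']
    exact dvd_mul_of_dvd_left (dvd_pow_self p hne) _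
  have hw1 : w = 1 := by
    rw [← orderOf_eq_one_iff, hj', hj0, pow_zero]
  have hzz : z = z' := by
    have : z'⁻¹ * z = 1 := hw1
    exact (inv_mul_eq_one.mp this).symm
  have hyy : y = y' := by
    rw [hy', hw1, one_mul]
  rw [hzz, hyy]

theorem sum_eq_sum_prod (p : ℕ) [Fact p.Prime] (P : Subgroup G) (hP : IsPGroup p P)
    (hPZ : P ≤ Subgroup.center G) [DecidablePred (· ∈ P)] (F : G → ℂ)
    (hF : ∀ g x : G, IsPPart p g x → x ∉ P → F g = 0) :
    ∑ g : G, F g = ∑ z ∈ Finset.univ.filter (fun g : G => g ∈ P),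
      ∑ y ∈ Finset.univ.filter (fun g : G => ¬ p ∣ orderOf g), F (z * y) := by
  classical
  rw [← Finset.sum_product', ← Finset.sum_image (f := F) (prod_injOn p P hP hPZ)]
  symm
  apply Finset.sum_subset (Finset.subset_univ _)
  intro g _ hg
  obtain ⟨x, hx⟩ := exists_isPPart p g
  by_cases hxP : x ∈ P
  · exfalso
    apply hg
    obtain ⟨y, hxy, -, -, hy⟩ := hx
    rw [Finset.mem_image]
    refine ⟨(x, y), ?_, hxy⟩
    simp only [Finset.mem_product, Finset.mem_filter, Finset.mem_univ, true_and]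
    exact ⟨hxP, hy⟩
  · exact hF g x hx hxP

/-- the `p`-regular inner product of two members with the same central character -/
theorem reg_inner (p : ℕ) [Fact p.Prime] (P : Subgroup G) (hP : IsPGroup p P)
    (hPZ : P ≤ Subgroup.center G) (χ ψ : IrrCharacter G)
    (hvχ : ∀ g x : G, IsPPart p g x → x ∉ P → (χ : G → ℂ) g = 0)
    (hsame : ∀ z ∈ P, (ψ : G → ℂ) z / (ψ : G → ℂ) 1 = (χ : G → ℂ) z / (χ : G → ℂ) 1) :
    (Nat.card P : ℂ) * ∑ y ∈ Finset.univ.filter (fun g : G => ¬ p ∣ orderOf g),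
      (ψ : G → ℂ) y * conj ((χ : G → ℂ) y) =
      (Nat.card G : ℂ) * (if (ψ : G → ℂ) = (χ : G → ℂ) then 1 else 0) := by
  classical
  have h1 := irr_classInner ψ.2 χ.2
  unfold classInner at h1
  have hG : (Nat.card G : ℂ) ≠ 0 := by exact_mod_cast Nat.card_pos.ne'
  have h2 : ∑ g : G, (ψ : G → ℂ) g * conj ((χ : G → ℂ) g) =
      (Nat.card G : ℂ) * (if (ψ : G → ℂ) = (χ : G → ℂ) then 1 else 0) := by
    rw [← h1, ← mul_assoc, mul_inv_cancel₀ hG, one_mul]
  rw [← h2, sum_eq_sum_prod p P hP hPZ (fun g => (ψ : G → ℂ) g * conj ((χ : G → ℂ) g))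
    (fun g x hgx hx => by rw [hvχ g x hgx hx, map_zero, mul_zero])]
  have hPcard : Nat.card P = (Finset.univ.filter (fun g : G => g ∈ P)).card := by
    rw [Nat.card_eq_fintype_card, Fintype.card_subtype]
  have : ∀ z ∈ Finset.univ.filter (fun g : G => g ∈ P),
      ∑ y ∈ Finset.univ.filter (fun g : G => ¬ p ∣ orderOf g),
        (ψ : G → ℂ) (z * y) * conj ((χ : G → ℂ) (z * y)) =
      ∑ y ∈ Finset.univ.filter (fun g : G => ¬ p ∣ orderOf g),
        (ψ : G → ℂ) y * conj ((χ : G → ℂ) y) := by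
    intro z hz
    simp only [Finset.mem_filter, Finset.mem_univ, true_and] at hz
    obtain ⟨hn, hmul⟩ := central_mul χ z (hPZ hz)
    obtain ⟨-, hmul'⟩ := central_mul ψ z (hPZ hz)
    apply Finset.sum_congr rfl
    intro y _
    rw [hmul y, hmul' y, hsame z hz, map_mul]
    calc (χ : G → ℂ) z / (χ : G → ℂ) 1 * (ψ : G → ℂ) y *
          (conj ((χ : G → ℂ) z / (χ : G → ℂ) 1) * conj ((χ : G → ℂ) y))
        = ((χ : G → ℂ) z / (χ : G → ℂ) 1 * conj ((χ : G → ℂ) z / (χ : G → ℂ) 1)) *
          ((ψ : G → ℂ) y * conj ((χ : G → ℂ) y)) := by ring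
      _ = (ψ : G → ℂ) y * conj ((χ : G → ℂ) y) := by rw [hn, one_mul]
  rw [Finset.sum_congr rfl this, Finset.sum_const, nsmul_eq_mul, hPcard]

theorem orth_sum (P : Subgroup G) [Fintype P] (c c' : G → ℂ)
    (hc : ∀ z ∈ P, ∀ z' ∈ P, c (z * z') = c z * c z')
    (hc' : ∀ z ∈ P, ∀ z' ∈ P, c' (z * z') = c' z * c' z')
    (hn' : ∀ z ∈ P, c' z * conj (c' z) = 1) (z₀ : G) (hz₀ : z₀ ∈ P) (hne : c z₀ ≠ c' z₀) :
    ∑ z : P, c z * conj (c' z) = 0 := by
  classical
  set S : ℂ := ∑ z : P, c z * conj (c' z) with hS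
  have h1 : S = c z₀ * conj (c' z₀) * S := by
    rw [hS, Finset.mul_sum]
    apply Fintype.sum_equiv (Equiv.mulLeft (⟨z₀, hz₀⟩ : P)⁻¹)
    intro z
    have hz : (z : G) = z₀ * ((Equiv.mulLeft (⟨z₀, hz₀⟩ : P)⁻¹) z : G) := by
      simp
    have hmem : ((Equiv.mulLeft (⟨z₀, hz₀⟩ : P)⁻¹) z : G) ∈ P := SetLike.coe_mem _
    conv_lhs => rw [hz, hc z₀ hz₀ _ hmem, hc' z₀ hz₀ _ hmem, map_mul]
    ring
  have h2 : c z₀ * conj (c' z₀) ≠ 1 := by
    intro h
    apply hne
    have := congrArg (fun t => t * c' z₀) h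
    beta_reduce at this
    rw [mul_assoc, mul_comm (conj (c' z₀)), hn' z₀ hz₀, mul_one, one_mul] at this
    exact this
  have h3 : (1 - c z₀ * conj (c' z₀)) * S = 0 := by
    rw [sub_mul, one_mul, ← h1, sub_self]
  rcases mul_eq_zero.mp h3 with h | h
  · exact absurd (sub_eq_zero.mp h).symm h2
  · exact h

/-- at most one member of the block over each central character -/
theorem unique_over (p : ℕ) [Fact p.Prime] (hM : IsPModular p M) (P : Subgroup G)
    (hP : IsPGroup p P) (hPZ : P ≤ Subgroup.center G) (χ ψ : IrrCharacter G)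
    (hsb : SameBlock M (ψ : G → ℂ) (χ : G → ℂ))
    (hvχ : ∀ g x : G, IsPPart p g x → x ∉ P → (χ : G → ℂ) g = 0)
    (q : ℕ) (hq : ¬ p ∣ q) (hGq : Nat.card G = Nat.card P * charDegree (χ : G → ℂ) * q)
    (hsame : ∀ z ∈ P, (ψ : G → ℂ) z / (ψ : G → ℂ) 1 = (χ : G → ℂ) z / (χ : G → ℂ) 1) :
    ψ = χ := by
  classical
  haveI hMp : M.IsPrime := hM.2.1.isPrime
  by_contra hne
  have hne' : (ψ : G → ℂ) ≠ (χ : G → ℂ) := fun h => hne (Subtype.ext h)
  have hχc : IsCharacter G (χ : G → ℂ) := irr_isCharacter χ.2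
  have hχ1 : (χ : G → ℂ) 1 ≠ 0 := irr_apply_one_ne_zero χ.2
  have hψ1 : (ψ : G → ℂ) 1 ≠ 0 := irr_apply_one_ne_zero ψ.2
  have hdcast : ((charDegree (χ : G → ℂ) : ℕ) : ℂ) = (χ : G → ℂ) 1 := char_charDegree_cast hχc
  have hq0 : (q : ℂ) ≠ 0 := by
    intro h
    have : q = 0 := by exact_mod_cast h
    exact hq (this ▸ dvd_zero p)
  have hPc : (Nat.card P : ℂ) ≠ 0 := by exact_mod_cast Nat.card_pos.ne'
  have hGc : (Nat.card G : ℂ) = (Nat.card P : ℂ) * (χ : G → ℂ) 1 * (q : ℂ) := by
    rw [← hdcast]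
    exact_mod_cast hGq
  set u : G → ℂ := fun g => if p ∣ orderOf g then 0 else (q : ℂ)⁻¹ * conj ((χ : G → ℂ) g) with hu
  have hucf : IsClassFunction G u := by
    intro g h
    have h1 : orderOf (h * g * h⁻¹) = orderOf g := by
      have := (MulAut.conj h).orderOf_eq g
      rwa [MulAut.conj_apply] at this
    show (if p ∣ orderOf (h * g * h⁻¹) then (0 : ℂ) else _) = _
    rw [h1, char_isClassFunction hχc g h]
  have hqinv : MemLocalRing M (q : ℂ)⁻¹ :=
    memLocalRing_inv (memLocalRing_of_integral hMp.ne_top (isIntegral_natCast _))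
      (natCast_not_memLocalIdeal hM hq)
  have hul : ∀ g, MemLocalRing M (u g) := by
    intro g
    simp only [hu]
    split_ifs
    · exact memLocalRing_zero hMp.ne_top
    · apply memLocalRing_mul hqinv
      apply memLocalRing_of_integral hMp.ne_top
      rw [← char_inv hχc]
      exact helper23.irr_isIntegral χ _
  have hsum : ∀ φ : IrrCharacter G, ∑ g : G, u g * (φ : G → ℂ) g =
      (q : ℂ)⁻¹ * ∑ y ∈ Finset.univ.filter (fun g : G => ¬ p ∣ orderOf g),
        (φ : G → ℂ) y * conj ((χ : G → ℂ) y) := by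
    intro φ
    rw [Finset.mul_sum, Finset.sum_filter]
    apply Finset.sum_congr rfl
    intro g _
    simp only [hu]
    by_cases hg : p ∣ orderOf g
    · rw [if_pos hg, if_neg (not_not.2 hg), zero_mul]
    · rw [if_neg hg, if_pos hg]
      ring
  have h1 := reg_inner p P hP hPZ χ ψ hvχ hsame
  rw [if_neg hne', mul_zero] at h1
  have h1' : ∑ y ∈ Finset.univ.filter (fun g : G => ¬ p ∣ orderOf g),
      (ψ : G → ℂ) y * conj ((χ : G → ℂ) y) = 0 := by
    rcases mul_eq_zero.mp h1 with h | h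
    · exact absurd h hPc
    · exact h
  have h2 := reg_inner p P hP hPZ χ χ hvχ (fun z _ => rfl)
  rw [if_pos rfl, mul_one] at h2
  have hω1 : omegaFn (ψ : G → ℂ) u = 0 := by
    unfold omegaFn
    rw [hsum ψ, h1', mul_zero, zero_div]
  have hω2 : omegaFn (χ : G → ℂ) u = 1 := by
    unfold omegaFn
    rw [hsum χ]
    have h3 : ∑ y ∈ Finset.univ.filter (fun g : G => ¬ p ∣ orderOf g),
        (χ : G → ℂ) y * conj ((χ : G → ℂ) y) = (χ : G → ℂ) 1 * (q : ℂ) := by
      apply mul_left_cancel₀ hPc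
      rw [h2, hGc]
      ring
    rw [h3]
    field_simp
  have h4 := omegaFn_sub_memLocalIdeal hsb hucf hul
  rw [hω1, hω2, zero_sub] at h4
  have h5 := memLocalIdeal_neg h4
  rw [neg_neg] at h5
  exact not_memLocalIdeal_one h5

end

/-- Fix a prime p and a maximal ideal M of the algebraic integers containing p. If the p-block B of the finite group G has a defect group P contained in the centre of G, then B has p-regular rank one (a single irreducible Brauer character). -/
theorem result {G : Type*} [Group G] [Fintype G] (p : ℕ) [Fact p.Prime] (M : Ideal Cfsg.AlgInt) (hM : Cfsg.IsPModular p M) (B : Set (Cfsg.IrrCharacter G)) (hB : Cfsg.IsPBlock M B) (P : Subgroup G) (hD : Cfsg.IsDefectGroup p M B P) (hPZ : P ≤ Subgroup.center G) : Cfsg.blockRank p B = 1 := by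
  classical
  haveI hMp : M.IsPrime := hM.2.1.isPrime
  have hp : p.Prime := Fact.out
  haveI : Fintype (IrrCharacter G) := Fintype.ofFinite _
  obtain ⟨χ₀, hχ₀⟩ := hB
  have hB' : IsPBlock M B := ⟨χ₀, hχ₀⟩
  have hχ₀B : χ₀ ∈ B := by
    rw [hχ₀]
    exact sameBlock_refl M hMp.ne_top _
  -- P is a normal abelian p-group
  have hPcard := Cfsg.Agent.S0908.result p M hM B hB' P hD
  have hPp : IsPGroup p P := IsPGroup.of_card hPcard
  haveI hPn : P.Normal := by
    constructor
    intro n hn g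
    have := Subgroup.mem_center_iff.mp (hPZ hn) g
    rw [this, mul_inv_cancel_right]
    exact hn
  have hPab : ∀ a ∈ P, ∀ b ∈ P, a * b = b * a := by
    intro a ha b _
    exact (Subgroup.mem_center_iff.mp (hPZ ha) b).symm
  -- degrees
  set a : ℕ := (Nat.card G).factorization p with ha
  set S : Set ℕ := (fun χ : IrrCharacter G => (charDegree (χ : G → ℂ)).factorization p) '' B with hS
  have hSne : S.Nonempty := ⟨_, χ₀, hχ₀B, rfl⟩
  have hidxpos : P.index ≠ 0 := Subgroup.index_ne_zero_of_finite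
  have hPidx := Subgroup.card_mul_index P
  have hdle : ∀ χ ∈ B, (charDegree (χ : G → ℂ)).factorization p ≤ P.index.factorization p := by
    intro χ _
    have hdvd := ito_degree_dvd_index P hPab χ
    exact (Nat.factorization_le_iff_dvd (irr_charDegree_pos χ.2).ne' hidxpos).mpr hdvd p
  have hfac : blockDefect p B + P.index.factorization p = a := by
    rw [ha, ← hPidx, hPcard, Nat.factorization_mul (pow_ne_zero _ hp.pos.ne') hidxpos,
      Nat.factorization_pow, hp.factorization]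
    simp
  have hdegs : ∀ χ ∈ B, (charDegree (χ : G → ℂ)).factorization p = P.index.factorization p := by
    intro χ hχ
    have h1 : sInf S ≤ (charDegree (χ : G → ℂ)).factorization p := Nat.sInf_le ⟨χ, hχ, rfl⟩
    have h2 := hdle χ hχ
    have h3 : blockDefect p B = a - sInf S := rfl
    have h4 : (charDegree (χ : G → ℂ)).factorization p ≤ a :=
      (Nat.factorization_le_iff_dvd (irr_charDegree_pos χ.2).ne' Nat.card_pos.ne').mpr
        (irr_degree_dvd_card χ.2) p
    omega
  have hvan : ∀ χ ∈ B, ∀ g x : G, IsPPart p g x → x ∉ P → (χ : G → ℂ) g = 0 := fun χ hχ =>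
    (Cfsg.Agent.S0969.result p M hM P hPp hPZ χ (hdegs χ hχ)).2
  -- the cofactor q
  have hq : ∀ χ ∈ B, ∃ q : ℕ, ¬ p ∣ q ∧ Nat.card G = Nat.card P * charDegree (χ : G → ℂ) * q := by
    intro χ hχ
    obtain ⟨q, hq⟩ := ito_degree_dvd_index P hPab χ
    refine ⟨q, ?_, ?_⟩
    · intro hpq
      have hq0 : q ≠ 0 := by
        rintro rfl
        rw [mul_zero] at hq
        exact hidxpos hq
      have h1 : P.index.factorization p =
          (charDegree (χ : G → ℂ)).factorization p + q.factorization p := by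
        rw [hq, Nat.factorization_mul (irr_charDegree_pos χ.2).ne' hq0]
        rfl
      have h2 : 0 < q.factorization p := Nat.Prime.factorization_pos_of_dvd hp hq0 hpq
      have h3 := hdegs χ hχ
      omega
    · rw [← hPidx, hq, mul_assoc]
  have hsb : ∀ χ ∈ B, ∀ ψ ∈ B, SameBlock M (ψ : G → ℂ) (χ : G → ℂ) := by
    intro χ hχ ψ hψ
    rw [hχ₀] at hχ hψ
    exact sameBlock_trans (sameBlock_symm hψ) hχ
  have huniq : ∀ χ ∈ B, ∀ ψ ∈ B,
      (∀ z ∈ P, (ψ : G → ℂ) z / (ψ : G → ℂ) 1 = (χ : G → ℂ) z / (χ : G → ℂ) 1) → ψ = χ := by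
    intro χ hχ ψ hψ hsame
    obtain ⟨q, hq1, hq2⟩ := hq χ hχ
    exact unique_over p hM P hPp hPZ χ ψ (hsb χ hχ ψ hψ) (hvan χ hχ) q hq1 hq2 hsame
  -- the Fourier step
  have hfour : ∀ χ ∈ B, ∀ y : G, ¬ p ∣ orderOf y →
      (Nat.card P : ℂ) * ((χ : G → ℂ) 1 * conj ((χ : G → ℂ) y)) =
        ∑ φ ∈ Finset.univ.filter (fun φ : IrrCharacter G => φ ∈ B),
          (φ : G → ℂ) 1 * conj ((φ : G → ℂ) y) := by
    intro χ hχ y hy
    set A : G → ℂ := fun g => ∑ φ ∈ Finset.univ.filter (fun φ : IrrCharacter G => φ ∈ B),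
      (φ : G → ℂ) 1 * conj ((φ : G → ℂ) g) with hA
    have hA0 : ∀ z : P, z ≠ 1 → A ((z : G) * y) = 0 := by
      intro z hz1
      have hzc : Commute (z : G) y := (Subgroup.mem_center_iff.mp (hPZ z.2) y).symm
      obtain ⟨j, hj⟩ := (IsPGroup.iff_orderOf.mp hPp) z
      have hj' : orderOf (z : G) = p ^ j := by rw [Subgroup.orderOf_coe]; exact hj
      have hj0 : j ≠ 0 := by
        rintro rfl
        apply hz1
        rw [pow_zero] at hj
        exact orderOf_eq_one_iff.mp hj
      have hcop : (orderOf (z : G)).Coprime (orderOf y) := by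
        rw [hj']
        exact Nat.Coprime.pow_left j ((Nat.Prime.coprime_iff_not_dvd hp).mpr hy)
      have hord : p ∣ orderOf ((z : G) * y) := by
        rw [hzc.orderOf_mul_eq_mul_orderOf_of_coprime hcop, hj']
        exact dvd_mul_of_dvd_left (dvd_pow_self p hj0) _
      have h1 : blockCoeff B ((z : G) * y) = 0 := by
        rw [hχ₀]
        exact Cfsg.Agent.helper8.Cover.blockCoeff_eq_zero hM χ₀ hord
      rw [blockCoeff_eq_sum] at h1
      have hG : (Nat.card G : ℂ)⁻¹ ≠ 0 := by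
        apply inv_ne_zero
        exact_mod_cast Nat.card_pos.ne'
      rcases mul_eq_zero.mp h1 with h | h
      · exact absurd h hG
      · exact h
    -- compute the twisted sum in two ways
    have hS1 : ∑ z : P, ((χ : G → ℂ) z / (χ : G → ℂ) 1) * A ((z : G) * y) = A y := by
      rw [Finset.sum_eq_single (1 : P)]
      · have hχ1 : (χ : G → ℂ) 1 ≠ 0 := irr_apply_one_ne_zero χ.2
        simp only [Subgroup.coe_one, one_mul]
        rw [div_self hχ1, one_mul]
      · intro z _ hz
        rw [hA0 z hz, mul_zero]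
      · intro h
        exact absurd (Finset.mem_univ _) h
    have hS2 : ∑ z : P, ((χ : G → ℂ) z / (χ : G → ℂ) 1) * A ((z : G) * y) =
        (Nat.card P : ℂ) * ((χ : G → ℂ) 1 * conj ((χ : G → ℂ) y)) := by
      have hexp : ∀ z : P, ((χ : G → ℂ) z / (χ : G → ℂ) 1) * A ((z : G) * y) =
          ∑ φ ∈ Finset.univ.filter (fun φ : IrrCharacter G => φ ∈ B),
            ((φ : G → ℂ) 1 * conj ((φ : G → ℂ) y)) *
              (((χ : G → ℂ) z / (χ : G → ℂ) 1) * conj ((φ : G → ℂ) z / (φ : G → ℂ) 1)) := by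
        intro z
        simp only [hA]
        rw [Finset.mul_sum]
        apply Finset.sum_congr rfl
        intro φ _
        rw [(central_mul φ z (hPZ z.2)).2 y, map_mul]
        ring
      rw [Finset.sum_congr rfl (fun z _ => hexp z), Finset.sum_comm]
      have hinner : ∀ φ ∈ Finset.univ.filter (fun φ : IrrCharacter G => φ ∈ B),
          ∑ z : P, ((φ : G → ℂ) 1 * conj ((φ : G → ℂ) y)) *
              (((χ : G → ℂ) z / (χ : G → ℂ) 1) * conj ((φ : G → ℂ) z / (φ : G → ℂ) 1)) =
            if φ = χ then (Nat.card P : ℂ) * ((χ : G → ℂ) 1 * conj ((χ : G → ℂ) y)) else 0 := by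
        intro φ hφ
        rw [Finset.mem_filter] at hφ
        rw [← Finset.mul_sum]
        by_cases hφχ : φ = χ
        · rw [if_pos hφχ, hφχ]
          have : ∀ z : P, ((χ : G → ℂ) z / (χ : G → ℂ) 1) *
              conj ((χ : G → ℂ) z / (χ : G → ℂ) 1) = 1 := fun z => (central_mul χ z (hPZ z.2)).1
          rw [Finset.sum_congr rfl (fun z _ => this z), Finset.sum_const, Finset.card_univ,
            nsmul_eq_mul, mul_one, ← Nat.card_eq_fintype_card]
          ring
        · rw [if_neg hφχ]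
          have hex : ∃ z₀ ∈ P, (χ : G → ℂ) z₀ / (χ : G → ℂ) 1 ≠ (φ : G → ℂ) z₀ / (φ : G → ℂ) 1 := by
            by_contra hcon
            push Not at hcon
            exact hφχ (huniq χ hχ φ hφ.2 (fun z hz => (hcon z hz).symm))
          obtain ⟨z₀, hz₀, hne⟩ := hex
          have hmult : ∀ ξ : IrrCharacter G, ∀ z ∈ P, ∀ z' ∈ P,
              (ξ : G → ℂ) (z * z') / (ξ : G → ℂ) 1 =
                ((ξ : G → ℂ) z / (ξ : G → ℂ) 1) * ((ξ : G → ℂ) z' / (ξ : G → ℂ) 1) := by
            intro ξ z hz z' _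
            rw [(central_mul ξ z (hPZ hz)).2 z']
            ring
          have h0 := orth_sum P (fun z => (χ : G → ℂ) z / (χ : G → ℂ) 1)
            (fun z => (φ : G → ℂ) z / (φ : G → ℂ) 1) (hmult χ) (hmult φ)
            (fun z hz => (central_mul φ z (hPZ hz)).1) z₀ hz₀ hne
          rw [h0, mul_zero]
      rw [Finset.sum_congr rfl hinner, Finset.sum_ite_eq' _ χ]
      rw [if_pos (Finset.mem_filter.mpr ⟨Finset.mem_univ _, hχ⟩)]
    rw [← hS2, hS1]
  -- all p-regular parts are proportional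
  have hprop : ∀ χ ∈ B, pRegularPart p (χ : G → ℂ) =
      ((χ₀ : G → ℂ) 1 / (χ : G → ℂ) 1) • pRegularPart p (χ₀ : G → ℂ) := by
    intro χ hχ
    funext y
    rw [Pi.smul_apply, smul_eq_mul]
    unfold pRegularPart
    by_cases hy : IsPRegular p y
    · simp only [if_pos hy]
      have h1 := hfour χ hχ y hy
      have h2 := hfour χ₀ hχ₀B y hy
      rw [← h2] at h1
      have hPc : (Nat.card P : ℂ) ≠ 0 := by exact_mod_cast Nat.card_pos.ne'
      have h3 := mul_left_cancel₀ hPc h1
      have hχ1 : (χ : G → ℂ) 1 ≠ 0 := irr_apply_one_ne_zero χ.2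
      have h4 := congrArg conj h3
      rw [map_mul, map_mul, Complex.conj_conj, Complex.conj_conj,
        ← char_charDegree_cast (irr_isCharacter χ.2), ← char_charDegree_cast (irr_isCharacter χ₀.2),
        Complex.conj_natCast, Complex.conj_natCast,
        char_charDegree_cast (irr_isCharacter χ.2), char_charDegree_cast (irr_isCharacter χ₀.2)] at h4
      field_simp
      rw [mul_comm]
      exact h4
    · simp only [if_neg hy, mul_zero]
  -- the span is a line
  unfold blockRank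
  have hspan : Submodule.span ℂ ((fun χ : IrrCharacter G => pRegularPart p (χ : G → ℂ)) '' B) =
      Submodule.span ℂ {pRegularPart p (χ₀ : G → ℂ)} := by
    apply le_antisymm
    · rw [Submodule.span_le]
      rintro _ ⟨χ, hχ, rfl⟩
      show pRegularPart p (χ : G → ℂ) ∈ Submodule.span ℂ {pRegularPart p (χ₀ : G → ℂ)}
      rw [hprop χ hχ]
      exact Submodule.smul_mem _ _ (Submodule.subset_span (Set.mem_singleton _))
    · rw [Submodule.span_le]
      intro v hv
      rw [Set.mem_singleton_iff] at hv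
      rw [hv]
      exact Submodule.subset_span ⟨χ₀, hχ₀B, rfl⟩
  rw [hspan]
  apply finrank_span_singleton
  intro h0
  have h1 := congrFun h0 1
  unfold pRegularPart at h1
  have hreg : IsPRegular p (1 : G) := by
    unfold IsPRegular
    rw [orderOf_one]
    exact fun h => hp.one_lt.ne' (Nat.dvd_one.mp h)
  simp only [if_pos hreg, Pi.zero_apply] at h1
  exact irr_apply_one_ne_zero χ₀.2 h1

end Cfsg.Agent.S4669
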