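import Cfsg.Statements.S0968
import Cfsg.Agent.S4669
import Cfsg.Agent.Lib_helper8_CentProd
import Cfsg.Agent.Lib_helper24_CharKer
import Cfsg.Agent.Lib_helper24_BlockOrth2
import Cfsg.Agent.Lib_helper24_CharCount

set_option autoImplicit false
open Cfsg

namespace Cfsg.Agent.S0968

open Cfsg.Agent.helper24 Cfsg.Agent.helper12 Cfsg.Agent.helper8 Cfsg.Agent.helper8.CentProd
  Cfsg.Agent.helper5
open scoped ComplexConjugate

universe u

set_option linter.style.haveILetI false
set_option linter.unusedVariables false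
set_option linter.unusedSectionVars false

section
variable {G : Type u} [Group G] [Fintype G] {M : Ideal AlgInt}

theorem commGen_of_sup (P : Subgroup G) (hG : P ⊔ Subgroup.centralizer (P : Set G) = ⊤) :
    CommGen P (Subgroup.centralizer (P : Set G)) := by
  have hcomm : ∀ h ∈ P, ∀ k ∈ Subgroup.centralizer (P : Set G), h * k = k * h :=
    fun h hh k hk => Subgroup.mem_centralizer_iff.mp hk h hh
  haveI hPn : P.Normal := by
    rw [← Subgroup.normalizer_eq_top_iff]
    apply top_le_iff.mp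
    rw [← hG]
    exact sup_le Subgroup.le_normalizer (Subgroup.centralizer_le_normalizer _)
  refine ⟨hcomm, fun g => ?_⟩
  have hg : g ∈ ((P ⊔ Subgroup.centralizer (P : Set G) : Subgroup G) : Set G) := by
    rw [hG]; trivial
  rw [Subgroup.normal_mul] at hg
  obtain ⟨h, hh, k, hk, rfl⟩ := Set.mem_mul.mp hg
  exact ⟨h, hh, k, hk, rfl⟩

/-- if `ω d = k a` with `ω` a local unit and `a` integral then `ν_p(k) ≤ ν_p(d)` -/
theorem fact_le_of_unit (p : ℕ) [Fact p.Prime] (hM : IsPModular p M) (k d : ℕ) (hk : 0 < k)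
    (hd : 0 < d) (a : ℂ) (ha : IsIntegral ℤ a) (ω : ℂ) (hωl : MemLocalRing M ω)
    (hω : ¬ MemLocalIdeal M ω) (heq : ω * (d : ℂ) = (k : ℂ) * a) :
    k.factorization p ≤ d.factorization p := by
  classical
  haveI hMp : M.IsPrime := hM.2.1.isPrime
  have hp : p.Prime := Fact.out
  by_contra hcon
  push Not at hcon
  set f := d.factorization p with hf
  set d' := d / p ^ f with hd'
  have hdeq : d = p ^ f * d' := (Nat.ordProj_mul_ordCompl_eq_self d p).symm
  have hd'p : ¬ p ∣ d' := Nat.not_dvd_ordCompl hp hd.ne'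
  obtain ⟨k₂, hk₂⟩ : p ^ (f + 1) ∣ k :=
    (Nat.Prime.pow_dvd_iff_le_factorization hp hk.ne').mpr hcon
  have hpf : ((p ^ f : ℕ) : ℂ) ≠ 0 := by exact_mod_cast (pow_pos hp.pos f).ne'
  have h1 : ω * (d' : ℂ) = (p : ℂ) * ((k₂ : ℂ) * a) := by
    apply mul_left_cancel₀ hpf
    have e1 : ((p ^ f : ℕ) : ℂ) * (ω * (d' : ℂ)) = ω * (d : ℂ) := by
      conv_rhs => rw [hdeq]
      push_cast
      ring
    rw [e1, heq, hk₂]
    push_cast
    ring
  have hpI : MemLocalIdeal M (p : ℂ) := by
    refine ⟨((p : ℕ) : AlgInt), 1, hM.2.2, ?_, ?_⟩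
    · exact fun h => hMp.ne_top ((Ideal.eq_top_iff_one M).mpr h)
    · simp
  have h2 : MemLocalIdeal M (ω * (d' : ℂ)) := by
    rw [h1, mul_comm]
    apply memLocalIdeal_mul_left _ hpI
    exact memLocalRing_mul (memLocalRing_of_integral hMp.ne_top (isIntegral_natCast _))
      (memLocalRing_of_integral hMp.ne_top ha)
  have hd'u : ¬ MemLocalIdeal M (d' : ℂ) := natCast_not_memLocalIdeal hM hd'p
  have hd'l : MemLocalRing M (d' : ℂ) :=
    memLocalRing_of_integral hMp.ne_top (isIntegral_natCast _)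
  exact not_memLocalIdeal_mul hωl hd'l hω hd'u h2

end

/-- Let P be a p-subgroup of the finite group G with P ⊔ C_G(P) = G, and let B be a block with defect group P relative to a maximal ideal M of the algebraic integers containing p. Then there is exactly one θ ∈ B with θ x = θ 1 for all x ∈ P; for this θ the exponent of p in θ(1) equals the exponent of p in the index of P; and the number of members of B equals the number of conjugacy classes of P. -/
theorem result {G : Type*} [Group G] [Finite G] (p : ℕ) [Fact p.Prime] (M : Ideal Cfsg.AlgInt) (hM : Cfsg.IsPModular p M) (P : Subgroup G) (hP : IsPGroup p P) (hG : P ⊔ Subgroup.centralizer (P : Set G) = ⊤) (B : Set (Cfsg.IrrCharacter G)) (hB : Cfsg.IsPBlock M B) (hD : Cfsg.IsDefectGroup p M B P) : (∃! θ : Cfsg.IrrCharacter G, θ ∈ B ∧ ∀ x ∈ P, (θ : G → ℂ) x = (θ : G → ℂ) 1) ∧ (∀ θ ∈ B, (∀ x ∈ P, (θ : G → ℂ) x = (θ : G → ℂ) 1) → (Cfsg.charDegree (θ : G → ℂ)).factorization p = P.index.factorization p) ∧ Nat.card B = Nat.card (ConjClasses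 P) := by
  classical
  haveI := Fintype.ofFinite G
  haveI hMp : M.IsPrime := hM.2.1.isPrime
  have hp : p.Prime := Fact.out
  haveI : Fintype (IrrCharacter G) := Fintype.ofFinite _
  have hD' := hD
  set C : Subgroup G := Subgroup.centralizer (P : Set G) with hC
  have hc : CommGen P C := commGen_of_sup P hG
  haveI hPn : P.Normal := hc.normal_left
  haveI hCn : C.Normal := hc.normal_right
  have hactP : InnerAct P := hc.innerAct_left
  have hactC : InnerAct C := hc.innerAct_right
  haveI instP : Fintype P := Fintype.ofFinite _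
  haveI instC : Fintype C := Fintype.ofFinite _
  haveI : Fintype (IrrCharacter P) := Fintype.ofFinite _
  choose lam hlam0 hlam using fun χ : IrrCharacter G => homog P hactP χ.2
  choose psi hpsi0 hpsi using fun χ : IrrCharacter G => homog C hactC χ.2
  obtain ⟨χ₀, hχ₀⟩ := hB
  have hBsame : ∀ χ ∈ B, ∀ χ' ∈ B, SameBlock M (χ : G → ℂ) (χ' : G → ℂ) := by
    intro χ hχ χ' hχ'
    rw [hχ₀] at hχ hχ'
    exact sameBlock_trans (sameBlock_symm hχ) hχ'
  have hχ₀B : χ₀ ∈ B := by
    rw [hχ₀]
    exact sameBlock_refl M hMp.ne_top _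
  -- values at one
  have hlam1 : ∀ χ : IrrCharacter G, (χ : G → ℂ) 1 =
      classInner (res P (χ : G → ℂ)) (lam χ : P → ℂ) * (lam χ : P → ℂ) 1 := by
    intro χ
    have := hlam χ 1
    rwa [Subgroup.coe_one] at this
  have hpsi1 : ∀ χ : IrrCharacter G, (χ : G → ℂ) 1 =
      classInner (res C (χ : G → ℂ)) (psi χ : C → ℂ) * (psi χ : C → ℂ) 1 := by
    intro χ
    have := hpsi χ 1
    rwa [Subgroup.coe_one] at this
  -- the central subgroup `Z = P ∩ C` of `C`
  have hZp : IsPGroup p (P.subgroupOf C) := hP.comap_subtype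
  have hZcent : P.subgroupOf C ≤ Subgroup.center C := by
    intro z hz
    rw [Subgroup.mem_subgroupOf] at hz
    rw [Subgroup.mem_center_iff]
    intro c
    apply Subtype.ext
    rw [Subgroup.coe_mul, Subgroup.coe_mul]
    exact (hc.comm (z : G) hz (c : G) c.2).symm
  have hZab : ∀ a ∈ P.subgroupOf C, ∀ b ∈ P.subgroupOf C, a * b = b * a := by
    intro a ha b hb
    exact (Subgroup.mem_center_iff.mp (hZcent hb) a)
  have hZidx : (P.subgroupOf C).index = P.index := by
    have h1 : P.relIndex (P ⊔ C) = P.relIndex C := Subgroup.relIndex_sup_left C P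
    rw [hG, Subgroup.relIndex_top_right] at h1
    exact h1.symm
  -- the defect class
  obtain ⟨g₀, hg₀, Q, hQ⟩ := hD
  have hg₀C : g₀ ∈ C := by
    rw [hC, Subgroup.mem_centralizer_iff]
    intro x hx
    have hx' : x ∈ Subgroup.centralizer ({g₀} : Set G) := by
      rw [hQ] at hx
      obtain ⟨y, _, rfl⟩ := hx
      exact y.2
    exact (Subgroup.mem_centralizer_iff.mp hx' g₀ (Set.mem_singleton _)).symm
  have hPcard : Nat.card P =
      p ^ (Nat.card (Subgroup.centralizer ({g₀} : Set G))).factorization p := by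
    have h1 := congrArg (fun S : Subgroup G => Nat.card S) hQ
    rw [h1, Subgroup.card_map_of_injective (Subgroup.subtype_injective _)]
    exact Q.card_eq_multiplicity
  have hνidx : (Subgroup.centralizer ({g₀} : Set G)).index.factorization p =
      P.index.factorization p := by
    have h1 := Subgroup.card_mul_index P
    have h2 := Subgroup.card_mul_index (Subgroup.centralizer ({g₀} : Set G))
    have h3 : (Nat.card P).factorization p =
        (Nat.card (Subgroup.centralizer ({g₀} : Set G))).factorization p := by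
      rw [hPcard, Nat.factorization_pow, hp.factorization]
      simp
    have h4 := congrArg (fun n : ℕ => n.factorization p) h1
    have h5 := congrArg (fun n : ℕ => n.factorization p) h2
    rw [Nat.factorization_mul Nat.card_pos.ne' Subgroup.index_ne_zero_of_finite] at h4 h5
    simp only [Finsupp.coe_add, Pi.add_apply] at h4 h5
    omega
  -- degrees of the constituents on `C`
  have hdegψ : ∀ χ ∈ B, (charDegree (psi χ : C → ℂ)).factorization p =
      P.index.factorization p := by
    intro χ hχ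
    have hψc : IsCharacter C (psi χ : C → ℂ) := irr_isCharacter (psi χ).2
    have hdpos : 0 < charDegree (psi χ : C → ℂ) := irr_charDegree_pos (psi χ).2
    have hdcast : ((charDegree (psi χ : C → ℂ) : ℕ) : ℂ) = (psi χ : C → ℂ) 1 :=
      char_charDegree_cast hψc
    apply le_antisymm
    · have hdvd := ito_degree_dvd_index (P.subgroupOf C) hZab (psi χ)
      rw [hZidx] at hdvd
      exact (Nat.factorization_le_iff_dvd hdpos.ne' Subgroup.index_ne_zero_of_finite).mpr hdvd p
    · rw [← hνidx]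
      apply fact_le_of_unit p hM _ _ (Nat.pos_of_ne_zero Subgroup.index_ne_zero_of_finite) hdpos
        ((psi χ : C → ℂ) ⟨g₀, hg₀C⟩) (helper23.irr_isIntegral (psi χ) _)
        (centralChar (χ : G → ℂ) g₀)
        (memLocalRing_of_integral hMp.ne_top (helper23.irr_centralChar_isIntegral χ g₀))
        (hg₀.2.2 χ hχ)
      rw [hdcast]
      unfold centralChar
      have h1 : (χ : G → ℂ) g₀ = _ := hpsi χ ⟨g₀, hg₀C⟩
      rw [h1, hpsi1 χ]
      have hψ1 : (psi χ : C → ℂ) 1 ≠ 0 := irr_apply_one_ne_zero (psi χ).2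
      have he := hpsi0 χ
      field_simp
  -- vanishing
  have hvan : ∀ χ ∈ B, ∀ g x : C, IsPPart p g x → x ∉ P.subgroupOf C →
      (psi χ : C → ℂ) g = 0 := by
    intro χ hχ
    exact (Cfsg.Agent.S0969.result p M hM (P.subgroupOf C) hZp hZcent (psi χ)
      (by rw [hZidx]; exact hdegψ χ hχ)).2
  -- block transfer
  have hsb : ∀ χ χ' : IrrCharacter G, SameBlock M (χ : G → ℂ) (χ' : G → ℂ) →
      SameBlock M (psi χ : C → ℂ) (psi χ' : C → ℂ) := by
    intro χ χ' h c
    rw [← centralChar_res C hactC χ (psi χ) (hpsi0 χ) c,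
      ← centralChar_res C hactC χ' (psi χ') (hpsi0 χ') c]
    exact h c
  -- values through the two factors
  have hval : ∀ (χ : IrrCharacter G) (h k : G) (hh : h ∈ P) (hk : k ∈ C),
      (χ : G → ℂ) (h * k) * (χ : G → ℂ) 1 =
        classInner (res C (χ : G → ℂ)) (psi χ : C → ℂ) * (psi χ : C → ℂ) ⟨k, hk⟩ *
          (classInner (res P (χ : G → ℂ)) (lam χ : P → ℂ) * (lam χ : P → ℂ) ⟨h, hh⟩) := by
    intro χ h k hh hk
    have h1 := hc.prod_formula χ hh hk
    rw [← hc.comm h hh k hk] at h1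
    rw [h1]
    have h2 : (χ : G → ℂ) k = _ := hpsi χ ⟨k, hk⟩
    have h3 : (χ : G → ℂ) h = _ := hlam χ ⟨h, hh⟩
    rw [h2, h3]
  -- injectivity
  have hinj : ∀ χ ∈ B, ∀ χ' ∈ B, lam χ' = lam χ → χ' = χ := by
    intro χ hχ χ' hχ' hl
    have hkey : ∀ (χ₁ : IrrCharacter G) (z : C) (hz : (z : G) ∈ P),
        (psi χ₁ : C → ℂ) z / (psi χ₁ : C → ℂ) 1 =
          (lam χ₁ : P → ℂ) ⟨z, hz⟩ / (lam χ₁ : P → ℂ) 1 := by
      intro χ₁ z hz
      have h1 : (χ₁ : G → ℂ) (z : G) = _ := hpsi χ₁ z
      have h3 : (χ₁ : G → ℂ) (z : G) = _ := hlam χ₁ ⟨z, hz⟩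
      have hψ1 : (psi χ₁ : C → ℂ) 1 ≠ 0 := irr_apply_one_ne_zero (psi χ₁).2
      have hlam1' : (lam χ₁ : P → ℂ) 1 ≠ 0 := irr_apply_one_ne_zero (lam χ₁).2
      have e1 : (psi χ₁ : C → ℂ) z / (psi χ₁ : C → ℂ) 1 =
          (χ₁ : G → ℂ) (z : G) / (χ₁ : G → ℂ) 1 := by
        rw [h1, hpsi1 χ₁]
        have := hpsi0 χ₁
        field_simp
      have e2 : (lam χ₁ : P → ℂ) ⟨z, hz⟩ / (lam χ₁ : P → ℂ) 1 =
          (χ₁ : G → ℂ) (z : G) / (χ₁ : G → ℂ) 1 := by
        rw [h3, hlam1 χ₁]
        have := hlam0 χ₁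
        field_simp
      rw [e1, e2]
    have hsame : ∀ z ∈ P.subgroupOf C, (psi χ' : C → ℂ) z / (psi χ' : C → ℂ) 1 =
        (psi χ : C → ℂ) z / (psi χ : C → ℂ) 1 := by
      intro z hz
      rw [Subgroup.mem_subgroupOf] at hz
      rw [hkey χ' z hz, hkey χ z hz, hl]
    obtain ⟨q, hq, hCq⟩ : ∃ q : ℕ, ¬ p ∣ q ∧
        Nat.card C = Nat.card (P.subgroupOf C) * charDegree (psi χ : C → ℂ) * q := by
      obtain ⟨q, hq⟩ := ito_degree_dvd_index (P.subgroupOf C) hZab (psi χ)
      refine ⟨q, ?_, ?_⟩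
      · intro hpq
        have hq0 : q ≠ 0 := by
          rintro rfl
          rw [mul_zero] at hq
          exact Subgroup.index_ne_zero_of_finite hq
        have hd0 : charDegree (psi χ : C → ℂ) ≠ 0 := (irr_charDegree_pos (psi χ).2).ne'
        have h1 := congrArg (fun n : ℕ => n.factorization p) hq
        rw [Nat.factorization_mul hd0 hq0, hZidx] at h1
        simp only [Finsupp.coe_add, Pi.add_apply] at h1
        rw [hdegψ χ hχ] at h1
        have h2 : 1 ≤ q.factorization p :=
          (Nat.Prime.dvd_iff_one_le_factorization hp hq0).mp hpq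
        omega
      · rw [← Subgroup.card_mul_index (P.subgroupOf C), hq, mul_assoc]
    have hψeq : psi χ' = psi χ :=
      Cfsg.Agent.S4669.unique_over p hM (P.subgroupOf C) hZp hZcent (psi χ) (psi χ')
        (hsb χ' χ (hBsame χ' hχ' χ hχ)) (hvan χ hχ) q hq hCq hsame
    -- now compare values
    by_contra hne
    have h0 : classInner (χ' : G → ℂ) (χ : G → ℂ) = 0 :=
      irr_classInner_ne χ'.2 χ.2 (fun h => hne (Subtype.ext h))
    have hχ1 : (χ : G → ℂ) 1 ≠ 0 := irr_apply_one_ne_zero χ.2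
    have hχ'1 : (χ' : G → ℂ) 1 ≠ 0 := irr_apply_one_ne_zero χ'.2
    set A : ℂ := classInner (res C (χ : G → ℂ)) (psi χ : C → ℂ) *
      classInner (res P (χ : G → ℂ)) (lam χ : P → ℂ) / (χ : G → ℂ) 1 with hA
    set A' : ℂ := classInner (res C (χ' : G → ℂ)) (psi χ' : C → ℂ) *
      classInner (res P (χ' : G → ℂ)) (lam χ' : P → ℂ) / (χ' : G → ℂ) 1 with hA'
    have hA0 : A ≠ 0 := div_ne_zero (mul_ne_zero (hpsi0 χ) (hlam0 χ)) hχ1
    have hA'0 : A' ≠ 0 := div_ne_zero (mul_ne_zero (hpsi0 χ') (hlam0 χ')) hχ'1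
    have hfun : (χ' : G → ℂ) = (A' / A) • (χ : G → ℂ) := by
      funext g
      obtain ⟨h, hh, k, hk, rfl⟩ := hc.gen g
      rw [Pi.smul_apply, smul_eq_mul]
      have h1 := hval χ h k hh hk
      have h2 := hval χ' h k hh hk
      rw [hψeq, hl] at h2
      have e1 : (χ : G → ℂ) (h * k) = A * ((psi χ : C → ℂ) ⟨k, hk⟩ * (lam χ : P → ℂ) ⟨h, hh⟩) := by
        rw [hA]
        field_simp
        linear_combination h1
      have e2 : (χ' : G → ℂ) (h * k) =
          A' * ((psi χ : C → ℂ) ⟨k, hk⟩ * (lam χ : P → ℂ) ⟨h, hh⟩) := by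
        rw [hA', hψeq, hl]
        field_simp
        linear_combination h2
      rw [e1, e2]
      field_simp
    rw [hfun, classInner_smul_left, irr_classInner_self χ.2, mul_one] at h0
    exact div_ne_zero hA'0 hA0 h0
  -- surjectivity
  have hsurj : ∀ l₀ : IrrCharacter P, ∃ χ ∈ B, lam χ = l₀ := by
    intro l₀
    by_contra hcon
    push Not at hcon
    have hB0 : ∀ x : P, x ≠ 1 → ∑ χ ∈ Finset.univ.filter (fun χ : IrrCharacter G => χ ∈ B),
        (χ : G → ℂ) 1 * conj ((χ : G → ℂ) x) = 0 := by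
      intro x hx
      have hxp : p ∣ orderOf (x : G) := by
        obtain ⟨k, hk⟩ := (IsPGroup.iff_orderOf.mp hP) x
        rw [Subgroup.orderOf_coe, hk]
        cases k with
        | zero =>
          exfalso
          rw [pow_zero, orderOf_eq_one_iff] at hk
          exact hx hk
        | succ k => exact dvd_pow_self p (Nat.succ_ne_zero k)
      have := weak_block_orthogonality_finset p M hM χ₀ 1 (x : G)
        (by rw [orderOf_one]; exact fun h => hp.one_lt.ne' (Nat.dvd_one.mp h)) hxp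
      rw [← hχ₀] at this
      exact this
    have hS1 : ∑ x : P, (∑ χ ∈ Finset.univ.filter (fun χ : IrrCharacter G => χ ∈ B),
        (χ : G → ℂ) 1 * conj ((χ : G → ℂ) x)) * (l₀ : P → ℂ) x =
        (∑ χ ∈ Finset.univ.filter (fun χ : IrrCharacter G => χ ∈ B),
          (χ : G → ℂ) 1 * conj ((χ : G → ℂ) 1)) * (l₀ : P → ℂ) 1 := by
      rw [Finset.sum_eq_single (1 : P)]
      · rw [Subgroup.coe_one]
      · intro x _ hx
        rw [hB0 x hx, zero_mul]
      · intro h
        exact absurd (Finset.mem_univ _) h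
    have hS2 : ∑ x : P, (∑ χ ∈ Finset.univ.filter (fun χ : IrrCharacter G => χ ∈ B),
        (χ : G → ℂ) 1 * conj ((χ : G → ℂ) x)) * (l₀ : P → ℂ) x = 0 := by
      simp_rw [Finset.sum_mul]
      rw [Finset.sum_comm]
      apply Finset.sum_eq_zero
      intro χ hχ
      rw [Finset.mem_filter] at hχ
      have h0 : classInner (l₀ : P → ℂ) (lam χ : P → ℂ) = 0 :=
        irr_classInner_ne l₀.2 (lam χ).2 (fun h => hcon χ hχ.2 (Subtype.ext h).symm)
      unfold classInner at h0
      have h1 : ∑ x : P, (l₀ : P → ℂ) x * conj ((lam χ : P → ℂ) x) = 0 := by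
        rcases mul_eq_zero.mp h0 with h | h
        · exfalso
          have : (Nat.card P : ℂ) ≠ 0 := by exact_mod_cast Nat.card_pos.ne'
          exact this (inv_eq_zero.mp h)
        · exact h
      calc ∑ x : P, (χ : G → ℂ) 1 * conj ((χ : G → ℂ) x) * (l₀ : P → ℂ) x
          = (χ : G → ℂ) 1 * conj (classInner (res P (χ : G → ℂ)) (lam χ : P → ℂ)) *
            ∑ x : P, (l₀ : P → ℂ) x * conj ((lam χ : P → ℂ) x) := by
            rw [Finset.mul_sum]
            apply Finset.sum_congr rfl
            intro x _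
            rw [hlam χ x, map_mul]
            ring
        _ = 0 := by rw [h1, mul_zero]
    rw [hS1] at hS2
    have hl1 : (l₀ : P → ℂ) 1 ≠ 0 := irr_apply_one_ne_zero l₀.2
    have hT : ∑ χ ∈ Finset.univ.filter (fun χ : IrrCharacter G => χ ∈ B),
        (χ : G → ℂ) 1 * conj ((χ : G → ℂ) 1) =
        ((∑ χ ∈ Finset.univ.filter (fun χ : IrrCharacter G => χ ∈ B),
          charDegree (χ : G → ℂ) ^ 2 : ℕ) : ℂ) := by
      push_cast
      apply Finset.sum_congr rfl
      intro χ _
      rw [char_charDegree_cast (irr_isCharacter χ.2)]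
      have : conj ((χ : G → ℂ) 1) = (χ : G → ℂ) 1 := by
        rw [← char_charDegree_cast (irr_isCharacter χ.2)]
        exact Complex.conj_natCast _
      rw [this]
      ring
    have hTpos : 0 < ∑ χ ∈ Finset.univ.filter (fun χ : IrrCharacter G => χ ∈ B),
        charDegree (χ : G → ℂ) ^ 2 := by
      apply Finset.sum_pos
      · intro χ _
        exact pow_pos (irr_charDegree_pos χ.2) 2
      · exact ⟨χ₀, by rw [Finset.mem_filter]; exact ⟨Finset.mem_univ _, hχ₀B⟩⟩
    rw [hT] at hS2
    rcases mul_eq_zero.mp hS2 with h | h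
    · have : (∑ χ ∈ Finset.univ.filter (fun χ : IrrCharacter G => χ ∈ B),
          charDegree (χ : G → ℂ) ^ 2) = 0 := by exact_mod_cast h
      omega
    · exact hl1 h
  -- the trivial character of `P`
  set one : IrrCharacter P := ⟨fun _ => 1, isIrrCharacter_one⟩ with hone
  refine ⟨?_, ?_, ?_⟩
  · obtain ⟨θ, hθB, hθ⟩ := hsurj one
    refine ⟨θ, ⟨hθB, fun x hx => ?_⟩, ?_⟩
    · have h1 : (θ : G → ℂ) x = _ := hlam θ ⟨x, hx⟩
      rw [h1, hlam1 θ, hθ]
    · rintro θ' ⟨hθ'B, hθ'⟩
      apply hinj θ hθB θ' hθ'B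
      rw [hθ]
      have hconst : ∀ x : P, (lam θ' : P → ℂ) x = (lam θ' : P → ℂ) 1 := by
        intro x
        have h1 := hlam θ' x
        rw [hθ' x x.2, hlam1 θ'] at h1
        exact (mul_left_cancel₀ (hlam0 θ') h1).symm
      by_contra hne
      have h0 : classInner (lam θ' : P → ℂ) (one : P → ℂ) = 0 :=
        irr_classInner_ne (lam θ').2 one.2 (fun h => hne (Subtype.ext h))
      unfold classInner at h0
      have h1 : ∑ x : P, (lam θ' : P → ℂ) x * conj ((one : P → ℂ) x) =
          (Nat.card P : ℂ) * (lam θ' : P → ℂ) 1 := by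
        have : ∀ x ∈ (Finset.univ : Finset P), (lam θ' : P → ℂ) x * conj ((one : P → ℂ) x) =
            (lam θ' : P → ℂ) 1 := by
          intro x _
          rw [hconst x]
          show (lam θ' : P → ℂ) 1 * conj (1 : ℂ) = _
          rw [map_one, mul_one]
        rw [Finset.sum_congr rfl this, Finset.sum_const, Finset.card_univ, nsmul_eq_mul,
          Fintype.card_eq_nat_card]
      rw [h1] at h0
      have hPc : (Nat.card P : ℂ) ≠ 0 := by exact_mod_cast Nat.card_pos.ne'
      have hl1 : (lam θ' : P → ℂ) 1 ≠ 0 := irr_apply_one_ne_zero (lam θ').2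
      exact mul_ne_zero (inv_ne_zero hPc) (mul_ne_zero hPc hl1) h0
  · intro θ hθB hθ
    apply le_antisymm
    · obtain ⟨ψ', hψ', hθψ⟩ := irr_deflation P θ.2 hθ
      have hdeg : charDegree (θ : G → ℂ) = charDegree ψ' := by
        unfold charDegree
        rw [hθψ]
        rfl
      have hdvd := irr_degree_dvd_card hψ'
      rw [← Subgroup.index_eq_card, ← hdeg] at hdvd
      exact (Nat.factorization_le_iff_dvd (irr_charDegree_pos θ.2).ne'
        Subgroup.index_ne_zero_of_finite).mpr hdvd p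
    · have hcard := Cfsg.Agent.S0908.result p M hM B ⟨χ₀, hχ₀⟩ P hD'
      have h1 := Subgroup.card_mul_index P
      have h4 := congrArg (fun n : ℕ => n.factorization p) h1
      rw [Nat.factorization_mul Nat.card_pos.ne' Subgroup.index_ne_zero_of_finite] at h4
      simp only [Finsupp.coe_add, Pi.add_apply] at h4
      have h5 : (Nat.card P).factorization p = blockDefect p B := by
        rw [hcard, Nat.factorization_pow, hp.factorization]
        simp
      have h6 : sInf ((fun χ : IrrCharacter G => (charDegree (χ : G → ℂ)).factorization p) '' B) ≤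
          (charDegree (θ : G → ℂ)).factorization p := Nat.sInf_le ⟨θ, hθB, rfl⟩
      unfold blockDefect at h5
      omega
  · have hcard : Nat.card B = Nat.card (IrrCharacter P) := by
      apply Nat.card_congr
      exact Equiv.ofBijective (fun χ : B => lam χ.1)
        ⟨fun χ χ' h => Subtype.ext (hinj χ'.1 χ'.2 χ.1 χ.2 h),
          fun l₀ => by
            obtain ⟨χ, hχ, h⟩ := hsurj l₀
            exact ⟨⟨χ, hχ⟩, h⟩⟩
    rw [hcard, card_irr_eq_card_conjClasses]

end Cfsg.Agent.S0968
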