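import Cfsg.Statements.S0972
import Cfsg.Agent.S0968
import Cfsg.Agent.S0187
import Cfsg.Agent.Lib_helper24_ItoMichler
import Cfsg.Agent.Lib_helper12_CharOps

set_option autoImplicit false
open Cfsg

namespace Cfsg.Agent.S0972

open Cfsg.Agent.helper24 Cfsg.Agent.helper12 Cfsg.Agent.helper8 Cfsg.Agent.helper5
open scoped ComplexConjugate

universe u

set_option linter.style.haveILetI false
set_option linter.unusedVariables false
set_option linter.unusedSectionVars false

section
variable {G : Type u} [Group G] [Fintype G] {M : Ideal AlgInt}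

/-- data of a defect class -/
theorem defect_data (p : ℕ) [Fact p.Prime] {B : Set (IrrCharacter G)} {P : Subgroup G}
    (hD : IsDefectGroup p M B P) :
    ∃ g₀ : G, IsDefectClass M B g₀ ∧ (∀ x ∈ P, x * g₀ = g₀ * x) ∧
      (Subgroup.centralizer ({g₀} : Set G)).index.factorization p = P.index.factorization p := by
  classical
  have hp : p.Prime := Fact.out
  obtain ⟨g₀, hg₀, Q, hQ⟩ := hD
  refine ⟨g₀, hg₀, ?_, ?_⟩
  · intro x hx
    have hx' : x ∈ Subgroup.centralizer ({g₀} : Set G) := by
      rw [hQ] at hx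
      obtain ⟨y, _, rfl⟩ := hx
      exact y.2
    exact (Subgroup.mem_centralizer_iff.mp hx' g₀ (Set.mem_singleton _)).symm
  · have hPcard : Nat.card P =
        p ^ (Nat.card (Subgroup.centralizer ({g₀} : Set G))).factorization p := by
      have h1 := congrArg (fun S : Subgroup G => Nat.card S) hQ
      rw [h1, Subgroup.card_map_of_injective (Subgroup.subtype_injective _)]
      exact Q.card_eq_multiplicity
    have h1 := Subgroup.card_mul_index P
    have h2 := Subgroup.card_mul_index (Subgroup.centralizer ({g₀} : Set G))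
    have h3 : (Nat.card P).factorization p =
        (Nat.card (Subgroup.centralizer ({g₀} : Set G))).factorization p := by
      rw [hPcard, Nat.factorization_pow, hp.factorization]
      simp
    have h4 := congrArg (fun n : ℕ => n.factorization p) h1
    have h5 := congrArg (fun n : ℕ => n.factorization p) h2
    rw [Nat.factorization_mul Nat.card_pos.ne' Subgroup.index_ne_zero_of_finite] at h4 h5
    simp only [Finsupp.coe_add, Pi.add_apply] at h4 h5
    omega

/-- every irreducible character of a `p`-subgroup lies under a member of every block -/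
theorem exists_over_of_block (p : ℕ) [Fact p.Prime] (hM : IsPModular p M) (χ₀ : IrrCharacter G)
    (P : Subgroup G) [Fintype P] (hP : IsPGroup p P) (θ : IrrCharacter P) :
    ∃ χ ∈ blockOf M (χ₀ : G → ℂ), classInner (res P (χ : G → ℂ)) (θ : P → ℂ) ≠ 0 := by
  classical
  haveI : Fintype (IrrCharacter G) := Fintype.ofFinite _
  haveI hMp : M.IsPrime := hM.2.1.isPrime
  have hp : p.Prime := Fact.out
  by_contra hcon
  push Not at hcon
  have hχ₀B : χ₀ ∈ blockOf M (χ₀ : G → ℂ) := sameBlock_refl M hMp.ne_top _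
  have hB0 : ∀ x : P, x ≠ 1 →
      ∑ χ ∈ Finset.univ.filter (fun χ : IrrCharacter G => χ ∈ blockOf M (χ₀ : G → ℂ)),
        (χ : G → ℂ) 1 * conj ((χ : G → ℂ) x) = 0 := by
    intro x hx
    have hxp : p ∣ orderOf (x : G) := by
      obtain ⟨k, hk⟩ := (IsPGroup.iff_orderOf.mp hP) x
      rw [Subgroup.orderOf_coe, hk]
      cases k with
      | zero =>
        exfalso
        rw [pow_zero, orderOf_eq_one_iff] at hk
        exact hx hk
      | succ k => exact dvd_pow_self p (Nat.succ_ne_zero k)
    exact weak_block_orthogonality_finset p M hM χ₀ 1 (x : G)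
      (by rw [orderOf_one]; exact fun h => hp.one_lt.ne' (Nat.dvd_one.mp h)) hxp
  have hS1 : ∑ x : P,
      (∑ χ ∈ Finset.univ.filter (fun χ : IrrCharacter G => χ ∈ blockOf M (χ₀ : G → ℂ)),
        (χ : G → ℂ) 1 * conj ((χ : G → ℂ) x)) * (θ : P → ℂ) x =
      (∑ χ ∈ Finset.univ.filter (fun χ : IrrCharacter G => χ ∈ blockOf M (χ₀ : G → ℂ)),
        (χ : G → ℂ) 1 * conj ((χ : G → ℂ) 1)) * (θ : P → ℂ) 1 := by
    rw [Finset.sum_eq_single (1 : P)]
    · rw [Subgroup.coe_one]
    · intro x _ hx
      rw [hB0 x hx, zero_mul]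
    · intro h
      exact absurd (Finset.mem_univ _) h
  have hS2 : ∑ x : P,
      (∑ χ ∈ Finset.univ.filter (fun χ : IrrCharacter G => χ ∈ blockOf M (χ₀ : G → ℂ)),
        (χ : G → ℂ) 1 * conj ((χ : G → ℂ) x)) * (θ : P → ℂ) x = 0 := by
    simp_rw [Finset.sum_mul]
    rw [Finset.sum_comm]
    apply Finset.sum_eq_zero
    intro χ hχ
    rw [Finset.mem_filter] at hχ
    have h0 := hcon χ hχ.2
    unfold classInner at h0
    have h1 : ∑ x : P, res P (χ : G → ℂ) x * conj ((θ : P → ℂ) x) = 0 := by
      rcases mul_eq_zero.mp h0 with h | h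
      · exfalso
        have : (Nat.card P : ℂ) ≠ 0 := by exact_mod_cast Nat.card_pos.ne'
        exact this (inv_eq_zero.mp h)
      · exact h
    calc ∑ x : P, (χ : G → ℂ) 1 * conj ((χ : G → ℂ) x) * (θ : P → ℂ) x
        = (χ : G → ℂ) 1 * conj (∑ x : P, res P (χ : G → ℂ) x * conj ((θ : P → ℂ) x)) := by
          rw [map_sum, Finset.mul_sum]
          apply Finset.sum_congr rfl
          intro x _
          rw [map_mul, Complex.conj_conj, res_apply]
          ring
      _ = 0 := by rw [h1, map_zero, mul_zero]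
  rw [hS1] at hS2
  have hl1 : (θ : P → ℂ) 1 ≠ 0 := irr_apply_one_ne_zero θ.2
  have hT : ∑ χ ∈ Finset.univ.filter (fun χ : IrrCharacter G => χ ∈ blockOf M (χ₀ : G → ℂ)),
      (χ : G → ℂ) 1 * conj ((χ : G → ℂ) 1) =
      ((∑ χ ∈ Finset.univ.filter (fun χ : IrrCharacter G => χ ∈ blockOf M (χ₀ : G → ℂ)),
        charDegree (χ : G → ℂ) ^ 2 : ℕ) : ℂ) := by
    push_cast
    apply Finset.sum_congr rfl
    intro χ _
    rw [char_charDegree_cast (irr_isCharacter χ.2)]
    have : conj ((χ : G → ℂ) 1) = (χ : G → ℂ) 1 := by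
      rw [← char_charDegree_cast (irr_isCharacter χ.2)]
      exact Complex.conj_natCast _
    rw [this]
    ring
  have hTpos : 0 < ∑ χ ∈ Finset.univ.filter
      (fun χ : IrrCharacter G => χ ∈ blockOf M (χ₀ : G → ℂ)), charDegree (χ : G → ℂ) ^ 2 := by
    apply Finset.sum_pos
    · intro χ _
      exact pow_pos (irr_charDegree_pos χ.2) 2
    · exact ⟨χ₀, by rw [Finset.mem_filter]; exact ⟨Finset.mem_univ _, hχ₀B⟩⟩
  rw [hT] at hS2
  rcases mul_eq_zero.mp hS2 with h | h
  · have : (∑ χ ∈ Finset.univ.filter (fun χ : IrrCharacter G => χ ∈ blockOf M (χ₀ : G → ℂ)),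
        charDegree (χ : G → ℂ) ^ 2) = 0 := by exact_mod_cast h
    omega
  · exact hl1 h

/-- values at central elements are divisible by the degrees of the constituents on a normal
subgroup -/
theorem div_central {H : Type u} [Group H] [Fintype H] (N : Subgroup H) [N.Normal] [Fintype N]
    (g : H) (hg : g ∈ Subgroup.center H) (ψ : IrrCharacter H) (θ : IrrCharacter N)
    (hθ : classInner (res N (ψ : H → ℂ)) (θ : N → ℂ) ≠ 0) :
    ∃ r : ℕ, charDegree (ψ : H → ℂ) = charDegree (θ : N → ℂ) * r ∧
      (ψ : H → ℂ) g = (charDegree (ψ : H → ℂ) : ℂ) * centralChar (ψ : H → ℂ) g := by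
  have hdvd := inertia_index_mul_degree_dvd N ψ.2 θ hθ
  obtain ⟨r, hr⟩ := (Dvd.intro_left _ rfl).trans hdvd
  refine ⟨r, hr, ?_⟩
  have hidx : (Subgroup.centralizer ({g} : Set H)).index = 1 := by
    have : Subgroup.centralizer ({g} : Set H) = ⊤ :=
      Subgroup.centralizer_eq_top_iff_subset.mpr (by
        intro x hx
        rw [Set.mem_singleton_iff.mp hx]
        exact hg)
    rw [this, Subgroup.index_top]
  unfold centralChar
  rw [hidx, char_charDegree_cast (irr_isCharacter ψ.2)]
  have hψ1 : (ψ : H → ℂ) 1 ≠ 0 := irr_apply_one_ne_zero ψ.2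
  field_simp
  simp

/-- the value of `χ` at an element centralizing the normal subgroup `P` is divisible by every
common divisor of the degrees of the constituents of the restriction of `χ` to `P` -/
theorem div_restrict (P : Subgroup G) [hPn : P.Normal] [Fintype P] (g₀ : G)
    (hcomm : ∀ x ∈ P, x * g₀ = g₀ * x) (χ : IrrCharacter G) (m : ℕ)
    (hm : ∀ θ : IrrCharacter P, classInner (res P (χ : G → ℂ)) (θ : P → ℂ) ≠ 0 →
      m ∣ charDegree (θ : P → ℂ)) :
    ∃ β : ℂ, IsIntegral ℤ β ∧ (χ : G → ℂ) g₀ = (m : ℂ) * β := by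
  classical
  set H : Subgroup G := Subgroup.centralizer ({g₀} : Set G) with hH
  haveI : Fintype H := Fintype.ofFinite _
  haveI : Fintype (IrrCharacter H) := Fintype.ofFinite _
  have hPH : P ≤ H := by
    intro x hx
    rw [hH, Subgroup.mem_centralizer_iff]
    intro h hh
    rw [Set.mem_singleton_iff] at hh
    subst hh
    exact (hcomm x hx).symm
  haveI : Fintype (P.subgroupOf H) := Fintype.ofFinite _
  let e : P.subgroupOf H ≃* P := Subgroup.subgroupOfEquivOfLe hPH
  have hg₀H : g₀ ∈ H := by
    rw [hH, Subgroup.mem_centralizer_iff]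
    intro h hh
    rw [Set.mem_singleton_iff.mp hh]
  have hcent : (⟨g₀, hg₀H⟩ : H) ∈ Subgroup.center H := by
    rw [Subgroup.mem_center_iff]
    intro h
    apply Subtype.ext
    rw [Subgroup.coe_mul, Subgroup.coe_mul]
    exact (Subgroup.mem_centralizer_iff.mp h.2 g₀ (Set.mem_singleton _)).symm
  have hχH : IsCharacter H (fun h : H => (χ : G → ℂ) h) :=
    isCharacter_restrict H (irr_isCharacter χ.2)
  obtain ⟨n, hexp, hn, -⟩ := char_decomp hχH
  have hnat : ∀ (ψ : IrrCharacter H) (θ' : IrrCharacter (P.subgroupOf H)), ∃ a : ℕ,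
      classInner (res (P.subgroupOf H) (ψ : H → ℂ)) (θ' : P.subgroupOf H → ℂ) = a :=
    fun ψ θ' => classInner_char_nat (isCharacter_restrict (P.subgroupOf H) (irr_isCharacter ψ.2))
      (irr_isCharacter θ'.2)
  choose a ha using hnat
  have hkey : ∀ ψ : IrrCharacter H, ∃ β : ℂ, IsIntegral ℤ β ∧
      (n ψ : ℂ) * (ψ : H → ℂ) ⟨g₀, hg₀H⟩ = (m : ℂ) * β := by
    intro ψ
    by_cases hnψ : n ψ = 0
    · exact ⟨0, isIntegral_zero, by rw [hnψ]; simp⟩
    · obtain ⟨θ', hθ'⟩ := Cover.exists_under (P.subgroupOf H) ψ.2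
      obtain ⟨r, hr, hval⟩ := div_central (P.subgroupOf H) ⟨g₀, hg₀H⟩ hcent ψ θ' hθ'
      have haψ : a ψ θ' ≠ 0 := by
        intro h0
        apply hθ'
        rw [ha ψ θ', h0, Nat.cast_zero]
      have hirr : IsIrrCharacter P (fun x : P => (θ' : P.subgroupOf H → ℂ) (e.symm x)) :=
        helper8.isIrrCharacter_comp_mulEquiv e.symm θ'.2
      have hdeg : charDegree (fun x : P => (θ' : P.subgroupOf H → ℂ) (e.symm x)) =
          charDegree (θ' : P.subgroupOf H → ℂ) := by
        unfold charDegree
        show ⌊((θ' : P.subgroupOf H → ℂ) (e.symm 1)).re⌋₊ = _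
        rw [map_one]
      have hover : classInner (res P (χ : G → ℂ))
          (fun x : P => (θ' : P.subgroupOf H → ℂ) (e.symm x)) ≠ 0 := by
        have h1 : classInner (res P (χ : G → ℂ))
            (fun x : P => (θ' : P.subgroupOf H → ℂ) (e.symm x)) =
            classInner (res (P.subgroupOf H) (fun h : H => (χ : G → ℂ) h))
              (θ' : P.subgroupOf H → ℂ) := by
          rw [← classInner_comp_mulEquiv e]
          congr 1
        rw [h1]
        have hfun : res (P.subgroupOf H) (fun h : H => (χ : G → ℂ) h) =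
            ∑ ψ' : IrrCharacter H, (n ψ' : ℂ) • res (P.subgroupOf H) (ψ' : H → ℂ) := by
          funext x
          have := congrFun hexp (x : H)
          rw [Finset.sum_apply] at this ⊢
          exact this
        rw [hfun, classInner_sum_left]
        have : ∑ ψ' : IrrCharacter H, classInner ((n ψ' : ℂ) • res (P.subgroupOf H) (ψ' : H → ℂ))
            (θ' : P.subgroupOf H → ℂ) = ((∑ ψ' : IrrCharacter H, n ψ' * a ψ' θ' : ℕ) : ℂ) := by
          rw [Nat.cast_sum]
          apply Finset.sum_congr rfl
          intro ψ' _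
          rw [classInner_smul_left, ha ψ' θ', Nat.cast_mul]
        rw [this]
        have hpos : 0 < ∑ ψ' : IrrCharacter H, n ψ' * a ψ' θ' := by
          apply Finset.sum_pos'
          · intro ψ' _
            exact Nat.zero_le _
          · exact ⟨ψ, Finset.mem_univ _,
              Nat.mul_pos (Nat.pos_of_ne_zero hnψ) (Nat.pos_of_ne_zero haψ)⟩
        exact_mod_cast hpos.ne'
      obtain ⟨q, hq⟩ := hm ⟨_, hirr⟩ hover
      rw [hdeg] at hq
      refine ⟨(n ψ : ℂ) * ((q : ℂ) * ((r : ℂ) *
        centralChar (ψ : H → ℂ) ⟨g₀, hg₀H⟩)), ?_, ?_⟩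
      · exact (isIntegral_natCast _).mul ((isIntegral_natCast _).mul ((isIntegral_natCast _).mul
          (helper23.irr_centralChar_isIntegral ψ _)))
      · rw [hval, hr, hq]
        push_cast
        ring
  choose β hβint hβ using hkey
  refine ⟨∑ ψ : IrrCharacter H, β ψ, IsIntegral.sum _ (fun ψ _ => hβint ψ), ?_⟩
  have := congrFun hexp ⟨g₀, hg₀H⟩
  rw [Finset.sum_apply] at this
  simp only [Pi.smul_apply, smul_eq_mul] at this
  rw [Finset.mul_sum]
  show (χ : G → ℂ) ((⟨g₀, hg₀H⟩ : H) : G) = _
  rw [this]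
  apply Finset.sum_congr rfl
  intro ψ _
  exact hβ ψ

end

/-- Let B be a block of the finite group G (relative to a maximal ideal M of the algebraic integers containing the prime p) with a defect group P that is normal in G. Then P is commutative if and only if every member of B has height zero. -/
theorem result {G : Type*} [Group G] [Finite G] (p : ℕ) [Fact p.Prime] (M : Ideal Cfsg.AlgInt) (hM : Cfsg.IsPModular p M) (B : Set (Cfsg.IrrCharacter G)) (hB : Cfsg.IsPBlock M B) (P : Subgroup G) [P.Normal] (hP : Cfsg.IsDefectGroup p M B P) : (∀ a ∈ P, ∀ c ∈ P, a * c = c * a) ↔ ∀ χ ∈ B, Cfsg.blockHeight p B (χ : G → ℂ) = 0 := by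
  classical
  haveI := Fintype.ofFinite G
  haveI hMp : M.IsPrime := hM.2.1.isPrime
  have hp : p.Prime := Fact.out
  haveI : Fintype (IrrCharacter G) := Fintype.ofFinite _
  haveI instP : Fintype P := Fintype.ofFinite _
  have hcard := Cfsg.Agent.S0908.result p M hM B hB P hP
  have hPg : IsPGroup p P := IsPGroup.of_card hcard
  obtain ⟨g₀, hg₀, hg₀comm, hνidx⟩ := defect_data p hP
  obtain ⟨χ₀, hχ₀⟩ := hB
  have hχ₀B : χ₀ ∈ B := by
    rw [hχ₀]
    exact sameBlock_refl M hMp.ne_top _
  have hsle : ∀ χ ∈ B,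
      sInf ((fun χ : IrrCharacter G => (charDegree (χ : G → ℂ)).factorization p) '' B) ≤
        (charDegree (χ : G → ℂ)).factorization p := fun χ hχ => Nat.sInf_le ⟨χ, hχ, rfl⟩
  have h1 := Subgroup.card_mul_index P
  have h4 := congrArg (fun n : ℕ => n.factorization p) h1
  rw [Nat.factorization_mul Nat.card_pos.ne' Subgroup.index_ne_zero_of_finite] at h4
  simp only [Finsupp.coe_add, Pi.add_apply] at h4
  have h5 : (Nat.card P).factorization p = blockDefect p B := by
    rw [hcard, Nat.factorization_pow, hp.factorization]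
    simp
  have h6 : (charDegree (χ₀ : G → ℂ)).factorization p ≤ (Nat.card G).factorization p := by
    have hdvd := irr_degree_dvd_card χ₀.2
    exact (Nat.factorization_le_iff_dvd (irr_charDegree_pos χ₀.2).ne' Nat.card_pos.ne').mpr hdvd p
  have hidx : P.index.factorization p =
      sInf ((fun χ : IrrCharacter G => (charDegree (χ : G → ℂ)).factorization p) '' B) := by
    have := hsle χ₀ hχ₀B
    unfold blockDefect at h5
    omega
  constructor
  · intro hab χ hχ
    have hdvd := ito_degree_dvd_index P hab χ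
    have h7 : (charDegree (χ : G → ℂ)).factorization p ≤ P.index.factorization p :=
      (Nat.factorization_le_iff_dvd (irr_charDegree_pos χ.2).ne'
        Subgroup.index_ne_zero_of_finite).mpr hdvd p
    unfold blockHeight
    omega
  · intro hh
    have hcomm : ∀ a b : P, a * b = b * a := by
      rw [Cfsg.Agent.S0187.result]
      intro θ
      have hdvd : charDegree (θ : P → ℂ) ∣ Nat.card P := irr_degree_dvd_card θ.2
      rw [hcard] at hdvd
      obtain ⟨j, -, hj⟩ := (Nat.dvd_prime_pow hp).1 hdvd
      rcases Nat.eq_zero_or_pos j with hj0 | hjpos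
      · rw [← char_charDegree_cast (irr_isCharacter θ.2), hj, hj0, pow_zero]
        simp
      · exfalso
        have hpθ : p ∣ charDegree (θ : P → ℂ) := by
          rw [hj]
          exact dvd_pow_self p hjpos.ne'
        obtain ⟨χ, hχB, hχθ⟩ := exists_over_of_block p hM χ₀ P hPg θ
        rw [← hχ₀] at hχB
        have hm : ∀ φ : IrrCharacter P, classInner (res P (χ : G → ℂ)) (φ : P → ℂ) ≠ 0 →
            p ∣ charDegree (φ : P → ℂ) := by
          intro φ hφ
          obtain ⟨g, hg⟩ := helper5.clifford_conj P χ.2 θ.2 φ.2 hχθ hφ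
          have : charDegree (φ : P → ℂ) = charDegree (θ : P → ℂ) := by
            unfold charDegree
            rw [hg, conjFunN_apply]
            have : (⟨g * ((1 : P) : G) * g⁻¹, Subgroup.Normal.conj_mem inferInstance 1 (1 : P).2 g⟩ : P)
                = 1 := by
              apply Subtype.ext
              simp
            rw [this]
          rw [this]
          exact hpθ
        obtain ⟨β, hβ, hχg⟩ := div_restrict P g₀ hg₀comm χ p hm
        have hdpos : 0 < charDegree (χ : G → ℂ) := irr_charDegree_pos χ.2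
        have hdcast : ((charDegree (χ : G → ℂ) : ℕ) : ℂ) = (χ : G → ℂ) 1 :=
          char_charDegree_cast (irr_isCharacter χ.2)
        have hipos : 0 < (Subgroup.centralizer ({g₀} : Set G)).index :=
          Nat.pos_of_ne_zero Subgroup.index_ne_zero_of_finite
        have hle := Cfsg.Agent.S0968.fact_le_of_unit p hM
          ((Subgroup.centralizer ({g₀} : Set G)).index * p) (charDegree (χ : G → ℂ))
          (Nat.mul_pos hipos hp.pos) hdpos β hβ (centralChar (χ : G → ℂ) g₀)
          (memLocalRing_of_integral hMp.ne_top (helper23.irr_centralChar_isIntegral χ g₀))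
          (hg₀.2.2 χ hχB) (by
            rw [hdcast]
            unfold centralChar
            rw [hχg]
            have hχ1 : (χ : G → ℂ) 1 ≠ 0 := irr_apply_one_ne_zero χ.2
            push_cast
            field_simp)
        rw [Nat.factorization_mul hipos.ne' hp.pos.ne'] at hle
        simp only [Finsupp.coe_add, Pi.add_apply, hp.factorization_self] at hle
        have h8 := hh χ hχB
        unfold blockHeight at h8
        omega
    intro a ha c hc
    exact congrArg Subtype.val (hcomm ⟨a, ha⟩ ⟨c, hc⟩)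

end Cfsg.Agent.S0972
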