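import Cfsg.Statements.S1230
-- import your own Cfsg.Agent.* helpers here
import Mathlib
import Cfsg.Agent.Lib_helper4_CitD

set_option autoImplicit false
open Cfsg

namespace Cfsg.Agent.S1230

open Cfsg.Agent.helper4.Cit Cfsg.Agent.helper4.Z3
open scoped MatrixGroups

theorem cit_of_hyp {G : Type*} [Group G]
    (hC : ∀ t : G, orderOf t = 2 → IsMulCommutative (Subgroup.centralizer ({t} : Set G)) ∧
      ∀ c ∈ Subgroup.centralizer ({t} : Set G), c ^ 2 = 1) : CIT G := by
  intro t ht
  obtain ⟨h1, h2⟩ := hC t ht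
  refine ⟨?_, h2⟩
  intro a ha b hb
  have := h1.is_comm.comm ⟨a, ha⟩ ⟨b, hb⟩
  exact congrArg Subtype.val this

theorem big_of_not_cyclic {G : Type*} [Group G] [Finite G] (T : Sylow 2 G)
    (hnc : ¬ IsCyclic (T : Subgroup G)) : Big G := by
  classical
  -- T has at least 4 elements
  obtain ⟨n, hn⟩ := IsPGroup.iff_card.mp T.2
  have hn2 : 2 ≤ n := by
    by_contra hlt
    push Not at hlt
    apply hnc
    interval_cases n
    · have : Subsingleton ↥(T : Subgroup G) := by
        rw [← Finite.card_le_one_iff_subsingleton, hn]; norm_num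
      infer_instance
    · haveI : Fact (Nat.Prime 2) := ⟨Nat.prime_two⟩
      exact isCyclic_of_prime_card (p := 2) (by rw [hn]; norm_num)
  have h4 : 2 < Nat.card ↥(T : Subgroup G) := by
    rw [hn]
    calc 2 < 2 ^ 2 := by norm_num
      _ ≤ 2 ^ n := Nat.pow_le_pow_right (by norm_num) hn2
  -- two distinct nonidentity elements of T
  have hT : ∃ a b : G, a ∈ T ∧ b ∈ T ∧ a ≠ 1 ∧ b ≠ 1 ∧ a ≠ b := by
    haveI : Fintype ↥(T : Subgroup G) := Fintype.ofFinite _
    rw [Nat.card_eq_fintype_card] at h4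
    obtain ⟨x, y, z, hxy, hxz, hyz⟩ := Fintype.two_lt_card_iff.mp h4
    by_cases hx : x = 1
    · refine ⟨y.1, z.1, y.2, z.2, ?_, ?_, ?_⟩
      · intro h; apply hxy; rw [hx]; exact (Subtype.ext h).symm
      · intro h; apply hxz; rw [hx]; exact (Subtype.ext h).symm
      · intro h; exact hyz (Subtype.ext h)
    · by_cases hy : y = 1
      · refine ⟨x.1, z.1, x.2, z.2, ?_, ?_, ?_⟩
        · intro h; exact hx (Subtype.ext h)
        · intro h; apply hyz; rw [hy]; exact (Subtype.ext h).symm
        · intro h; exact hxz (Subtype.ext h)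
      · refine ⟨x.1, y.1, x.2, y.2, ?_, ?_, ?_⟩
        · intro h; exact hx (Subtype.ext h)
        · intro h; exact hy (Subtype.ext h)
        · intro h; exact hxy (Subtype.ext h)
  intro P
  obtain ⟨g, hg⟩ := MulAction.exists_smul_eq G T P
  obtain ⟨a, b, ha, hb, ha1, hb1, hab⟩ := hT
  refine ⟨g * a * g⁻¹, g * b * g⁻¹, ?_, ?_, ?_, ?_, ?_⟩
  · rw [← hg]; exact conj_mem_smul g T ha
  · rw [← hg]; exact conj_mem_smul g T hb
  · intro h
    apply ha1
    have : a = g⁻¹ * (g * a * g⁻¹) * g := by group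
    rw [this, h]; group
  · intro h
    apply hb1
    have : b = g⁻¹ * (g * b * g⁻¹) * g := by group
    rw [this, h]; group
  · intro h
    apply hab
    have h1 : a = g⁻¹ * (g * a * g⁻¹) * g := by group
    have h2 : b = g⁻¹ * (g * b * g⁻¹) * g := by group
    rw [h1, h2, h]

theorem sq_surj (F : Type*) [Field F] [Finite F] [CharP F 2] (r : Fˣ) :
    ∃ k : Fˣ, k ^ Fintype.card (Fin 2) = r := by
  haveI : Fact (Nat.Prime 2) := ⟨Nat.prime_two⟩
  have hinj : Function.Injective (frobenius F 2) := frobenius_inj F 2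
  have hsurj : Function.Surjective (frobenius F 2) := Finite.surjective_of_injective hinj
  obtain ⟨x, hx⟩ := hsurj r.1
  have hx0 : x ≠ 0 := by
    intro h
    rw [h, map_zero] at hx
    exact r.ne_zero hx.symm
  refine ⟨Units.mk0 x hx0, ?_⟩
  apply Units.ext
  rw [Fintype.card_fin, Units.val_pow_eq_pow_val, Units.val_mk0]
  rw [frobenius_def] at hx
  exact hx


/-- Let G be a finite group with a Sylow 2-subgroup T that is neither cyclic nor normal, such that the centralizer of every involution is an elementary abelian 2-group. Then G ≅ PSL(2,F) for a finite field F with |F| = |T|. -/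
theorem result {G : Type*} [Group G] [Finite G] (T : Sylow 2 G) (hnc : ¬ IsCyclic (T : Subgroup G)) (hnn : ¬ (T : Subgroup G).Normal) (hC : ∀ t : G, orderOf t = 2 → IsMulCommutative (Subgroup.centralizer ({t} : Set G)) ∧ ∀ c ∈ Subgroup.centralizer ({t} : Set G), c ^ 2 = 1) : ∃ (F : Type) (_ : Field F) (_ : Fintype F), Fintype.card F = Nat.card T ∧ Nonempty (G ≃* Matrix.ProjectiveSpecialLinearGroup (Fin 2) F) := by
  classical
  haveI : Fact (Nat.Prime 2) := ⟨Nat.prime_two⟩
  have hcit := cit_of_hyp hC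
  have hbig := big_of_not_cyclic T hnc
  obtain ⟨K, iK, fK, hKcard, ⟨e⟩⟩ := cit_main hcit hbig T hnn
  obtain ⟨n, hn⟩ := IsPGroup.iff_card.mp T.2
  have hn0 : n ≠ 0 := by
    rintro rfl
    apply hnc
    have : Subsingleton ↥(T : Subgroup G) := by
      rw [← Finite.card_le_one_iff_subsingleton, hn]; norm_num
    infer_instance
  let F := GaloisField 2 n
  letI fF : Fintype F := Fintype.ofFinite F
  have hFcard : Fintype.card F = Nat.card T := by
    rw [← Nat.card_eq_fintype_card, GaloisField.card 2 n hn0, hn]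
  have hKF : Fintype.card K = Fintype.card F := by rw [hKcard, hFcard]
  let φ : K ≃+* F := FiniteField.ringEquivOfCardEq hKF
  let e2 : PGL(Fin 2, K) ≃* PGL(Fin 2, F) := pglCongr φ
  let e3 : Matrix.ProjectiveSpecialLinearGroup (Fin 2) F ≃* PGL(Fin 2, F) :=
    MulEquiv.ofBijective Matrix.ProjectiveSpecialLinearGroup.toPGL
      ⟨Matrix.ProjectiveSpecialLinearGroup.toPGL_injective,
        Matrix.ProjectiveSpecialLinearGroup.toPGL_surj_of_roots (sq_surj F)⟩
  exact ⟨F, inferInstance, fF, hFcard, ⟨(e.trans e2).trans e3.symm⟩⟩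

end Cfsg.Agent.S1230
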