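import Cfsg.Statements.S0981
-- import your own Cfsg.Agent.* helpers here
import Cfsg.Agent.S1230
import Cfsg.Agent.Lib_helper11_PSL2Char2
import Cfsg.Agent.Lib_helper19_O4080e

set_option autoImplicit false
open Cfsg

namespace Cfsg.Agent.S0981

/-- transport of `SL₂` along a ring isomorphism -/
noncomputable def slCongr16 {R S : Type*} [CommRing R] [CommRing S] (f : R ≃+* S) :
    Matrix.SpecialLinearGroup (Fin 2) R ≃* Matrix.SpecialLinearGroup (Fin 2) S where
  toFun := Matrix.SpecialLinearGroup.map (f : R →+* S)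
  invFun := Matrix.SpecialLinearGroup.map (f.symm : S →+* R)
  left_inv A := by
    apply Subtype.ext
    ext i j
    show f.symm (f ((A : Matrix (Fin 2) (Fin 2) R) i j)) = _
    rw [RingEquiv.symm_apply_apply]
  right_inv A := by
    apply Subtype.ext
    ext i j
    show f (f.symm ((A : Matrix (Fin 2) (Fin 2) S) i j)) = _
    rw [RingEquiv.apply_symm_apply]
  map_mul' A B := map_mul _ A B

theorem two_eq_zero_of_card16 {F : Type*} [Field F] [Fintype F] (hF : Fintype.card F = 16) :
    (2 : F) = 0 := by
  have := Nat.cast_card_eq_zero F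
  rw [hF] at this
  have h16 : (2 : F) ^ 4 = 0 := by
    have e : ((16 : ℕ) : F) = 2 ^ 4 := by norm_num
    rw [← e]; exact this
  exact pow_eq_zero_iff (by norm_num) |>.mp h16


/-- A simple group of order 4080 is isomorphic to the projective special linear group of dimension 2 over the field with 16 elements. -/
theorem result {G : Type*} [Group G] [Finite G] [IsSimpleGroup G] (h : Nat.card G = 4080) {F : Type*} [Field F] [Fintype F] (hF : Fintype.card F = 16) : Nonempty (G ≃* Matrix.ProjectiveSpecialLinearGroup (Fin 2) F) := by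
  classical
  obtain ⟨T⟩ : Nonempty (Sylow 2 G) := inferInstance
  obtain ⟨hnc, hnn, hC⟩ := Cfsg.Agent.helper19.O4080.structure_thm h T
  obtain ⟨F', iF, fF, hF'card, ⟨e⟩⟩ := Cfsg.Agent.S1230.result T hnc hnn hC
  have hT16 : Nat.card (T : Subgroup G) = 16 := by
    haveI : Fact (Nat.Prime 2) := ⟨by norm_num⟩
    have := (Cfsg.Agent.helper5.sylow_card_of_card_eq T 4 255 (by rw [h]; norm_num) (by norm_num)).1
    rw [this]
    norm_num
  have hF'16 : Fintype.card F' = 16 := by
    rw [hF'card]; exact hT16
  let φ : F' ≃+* F := FiniteField.ringEquivOfCardEq (by rw [hF'16, hF])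
  have h2F : (2 : F) = 0 := two_eq_zero_of_card16 hF
  have h2F' : (2 : F') = 0 := two_eq_zero_of_card16 hF'16
  exact ⟨e.trans ((Cfsg.Agent.helper11.PSL2Char2.slEquiv h2F').symm.trans
    ((slCongr16 φ).trans (Cfsg.Agent.helper11.PSL2Char2.slEquiv h2F)))⟩

end Cfsg.Agent.S0981
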