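import Cfsg.Statements.S0985
import Mathlib
import Cfsg.Agent.Lib_helper5_Orbit

set_option autoImplicit false
open Cfsg

namespace Cfsg.Agent.S0985

open Cfsg.Agent.helper5

theorem result {G : Type*} [Group G] [Finite G] (p k : ℕ) [Fact p.Prime] (h : ¬ Nat.card (Sylow p G) ≡ 1 [MOD p ^ k]) : ∃ P R : Sylow p G, P ≠ R ∧ ((R : Subgroup G).subgroupOf (P : Subgroup G)).index ≤ p ^ (k - 1) := by
  classical
  have hp : p.Prime := Fact.out
  obtain ⟨P⟩ : Nonempty (Sylow p G) := inferInstance
  by_contra hcon
  push Not at hcon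
  apply h
  apply card_modEq_one_of_fixed (G := (P : Subgroup G)) (α := Sylow p G) (p ^ k) P
  · intro g
    rw [Subgroup.smul_def, Sylow.smul_eq_iff_mem_normalizer]
    exact Subgroup.le_normalizer g.2
  · intro R hR
    have hidx := hcon P R (Ne.symm hR)
    -- stabilizer of R in P
    have hstab : MulAction.stabilizer (P : Subgroup G) R = (R : Subgroup G).subgroupOf (P : Subgroup G) := by
      ext g
      rw [MulAction.mem_stabilizer_iff, Subgroup.smul_def, Sylow.smul_eq_iff_mem_normalizer,
        Subgroup.mem_subgroupOf]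
      constructor
      · intro hg
        have : (g : G) ∈ (P : Subgroup G) ⊓ Subgroup.normalizer (R : Set G) := ⟨g.2, hg⟩
        rw [P.isPGroup'.inf_normalizer_sylow R] at this
        exact this.2
      · intro hg
        exact Subgroup.le_normalizer hg
    rw [Nat.card_coe_set_eq, ← MulAction.index_stabilizer, hstab]
    -- index is a power of p exceeding p^(k-1)
    set m := ((R : Subgroup G).subgroupOf (P : Subgroup G)).index with hm
    have hmdvd : m ∣ Nat.card (P : Subgroup G) := Subgroup.index_dvd_card _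
    obtain ⟨n, hn⟩ := IsPGroup.iff_card.mp P.isPGroup'
    rw [hn] at hmdvd
    obtain ⟨j, _, hj⟩ := (Nat.dvd_prime_pow hp).mp hmdvd
    rw [hj] at hidx ⊢
    have : k - 1 < j := (Nat.pow_lt_pow_iff_right hp.one_lt).mp hidx
    exact pow_dvd_pow p (by omega)

end Cfsg.Agent.S0985
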