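import Cfsg.Statements.S0986
import Mathlib
import Cfsg.Agent.Lib_helper5_Sylow

set_option autoImplicit false
open Cfsg

namespace Cfsg.Agent.S0986

open Cfsg.Agent.helper5

/-- Core of the argument, with `D` and `N` abstracted. -/
theorem core {G : Type*} [Group G] [Finite G] (p : ℕ) [Fact p.Prime] (P Q : Sylow p G) (hPQ : P ≠ Q)
    (D N : Subgroup G) (hD : D = (P : Subgroup G) ⊓ (Q : Subgroup G))
    (hN : N = Subgroup.normalizer (D : Set G))
    (hmax : ∀ P' Q' : Sylow p G, P' ≠ Q' →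
      Nat.card ↥((P' : Subgroup G) ⊓ (Q' : Subgroup G)) ≤ Nat.card D) :
    1 < Nat.card (Sylow p N) ∧
    (∀ S T : Sylow p N, S ≠ T → (S : Subgroup N) ⊓ (T : Subgroup N) = D.subgroupOf N) ∧
    ∀ S : Sylow p N, ∃! T : Sylow p G, (S : Subgroup N).map N.subtype ≤ (T : Subgroup G) := by
  classical
  have hDN : D ≤ N := by rw [hN]; exact Subgroup.le_normalizer
  have hDp : IsPGroup p D := by rw [hD]; exact P.isPGroup'.to_inf_left
  haveI hnormal : (D.subgroupOf N).Normal := by
    rw [hN]; exact Subgroup.normal_in_normalizer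
  have hDNp : IsPGroup p (D.subgroupOf N) := hDp.comap_subtype
  -- D is contained in every Sylow subgroup of N
  have c0 : ∀ S : Sylow p N, D.subgroupOf N ≤ S := fun S => normal_le_sylow p _ hDNp S
  -- D is a proper subgroup of each Sylow intersected with N
  have hlt : ∀ R : Sylow p G, D ≤ (R : Subgroup G) → D ≠ (R : Subgroup G) →
      Nat.card D < Nat.card ((R : Subgroup G) ⊓ N : Subgroup G) := by
    intro R hDR hne
    obtain ⟨x, hxR, hxD, hxN⟩ := exists_mem_normalizer_not_mem p R D R.isPGroup' (lt_of_le_of_ne hDR hne)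
    apply card_lt_of_lt
    refine lt_of_le_of_ne (le_inf hDR hDN) ?_
    intro h
    apply hxD
    rw [h]
    exact ⟨hxR, by rw [hN]; exact hxN⟩
  have sylow_eq_of_le : ∀ {P' Q' : Sylow p G}, (P' : Subgroup G) ≤ (Q' : Subgroup G) → P' = Q' :=
    fun {P' Q'} h => Sylow.ext (P'.is_maximal' Q'.isPGroup' h).symm
  have hDleP : D ≤ (P : Subgroup G) := by rw [hD]; exact inf_le_left
  have hDleQ : D ≤ (Q : Subgroup G) := by rw [hD]; exact inf_le_right
  have hDneP : D ≠ (P : Subgroup G) := by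
    intro h
    apply hPQ
    apply sylow_eq_of_le
    rw [← h]; exact hDleQ
  have hDneQ : D ≠ (Q : Subgroup G) := by
    intro h
    apply hPQ
    symm
    apply sylow_eq_of_le
    rw [← h]; exact hDleP
  have hltP := hlt P hDleP hDneP
  have hltQ := hlt Q hDleQ hDneQ
  -- Sylow subgroups of N are bigger than D
  have c1 : ∀ S : Sylow p N, Nat.card D < Nat.card S := by
    intro S
    have hK : IsPGroup p (((P : Subgroup G) ⊓ N).subgroupOf N) :=
      (P.isPGroup'.to_inf_left).comap_subtype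
    have := card_le_sylow_card p _ hK S
    rw [card_subgroupOf_of_le inf_le_right] at this
    exact lt_of_lt_of_le hltP this
  -- (c)
  have hc : ∀ S : Sylow p N, ∃! T : Sylow p G, (S : Subgroup N).map N.subtype ≤ (T : Subgroup G) := by
    intro S
    have hSp : IsPGroup p ((S : Subgroup N).map N.subtype) := S.isPGroup'.map _
    obtain ⟨T, hT⟩ := hSp.exists_le_sylow
    refine ⟨T, hT, ?_⟩
    intro T' hT'
    by_contra hne
    have h1 : (S : Subgroup N).map N.subtype ≤ (T' : Subgroup G) ⊓ (T : Subgroup G) := le_inf hT' hT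
    have h2 := Subgroup.card_le_of_le h1
    rw [Subgroup.card_map_of_injective N.subtype_injective] at h2
    have h3 := hmax T' T hne
    have h4 := c1 S
    omega
  -- S ≤ T.subgroupOf N forces equality
  have hSeq : ∀ (S : Sylow p N) (T : Sylow p G), (S : Subgroup N).map N.subtype ≤ (T : Subgroup G) →
      (S : Subgroup N) = (T : Subgroup G).subgroupOf N := by
    intro S T hST
    have hTp : IsPGroup p ((T : Subgroup G).subgroupOf N) := T.isPGroup'.comap_subtype
    have hle : (S : Subgroup N) ≤ (T : Subgroup G).subgroupOf N := by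
      intro x hx
      rw [Subgroup.mem_subgroupOf]
      exact hST ⟨x, hx, rfl⟩
    exact (S.is_maximal' hTp hle).symm
  refine ⟨?_, ?_, hc⟩
  · -- (a)
    by_contra hcon
    push Not at hcon
    obtain ⟨S₀⟩ : Nonempty (Sylow p N) := inferInstance
    have hsub : Subsingleton (Sylow p N) := by
      have := Finite.card_le_one_iff_subsingleton.mp hcon
      exact this
    obtain ⟨S₁, hS₁, _⟩ := hc S₀
    have hS₀eq := hSeq S₀ S₁ hS₁
    have key : ∀ R : Sylow p G, Nat.card D < Nat.card ((R : Subgroup G) ⊓ N : Subgroup G) → R = S₁ := by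
      intro R hR
      by_contra hne
      have hK : IsPGroup p (((R : Subgroup G) ⊓ N).subgroupOf N) :=
        (R.isPGroup'.to_inf_left).comap_subtype
      obtain ⟨S', hS'⟩ := hK.exists_le_sylow
      have hS'eq : S' = S₀ := Subsingleton.elim _ _
      rw [hS'eq] at hS'
      have h1 : (R : Subgroup G) ⊓ N ≤ (R : Subgroup G) ⊓ (S₁ : Subgroup G) := by
        intro x hx
        refine ⟨hx.1, ?_⟩
        have hxN : (⟨x, hx.2⟩ : N) ∈ ((R : Subgroup G) ⊓ N).subgroupOf N := by
          rw [Subgroup.mem_subgroupOf]; exact hx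
        have h2 := hS' hxN
        have h3 : (⟨x, hx.2⟩ : N) ∈ (S₀ : Subgroup N) := h2
        rw [hS₀eq, Subgroup.mem_subgroupOf] at h3
        exact h3
      have h2 := Subgroup.card_le_of_le h1
      have h3 := hmax R S₁ hne
      omega
    exact hPQ ((key P hltP).trans (key Q hltQ).symm)
  · -- (b)
    intro S T hST
    obtain ⟨S₁, hS₁, _⟩ := hc S
    obtain ⟨T₁, hT₁, _⟩ := hc T
    have hne : S₁ ≠ T₁ := by
      intro h
      apply hST
      apply Sylow.ext
      rw [hSeq S S₁ hS₁, hSeq T T₁ hT₁, h]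
    symm
    apply Subgroup.eq_of_le_of_card_ge (le_inf (c0 S) (c0 T))
    rw [card_subgroupOf_of_le hDN]
    have h1 : ((S : Subgroup N) ⊓ (T : Subgroup N)).map N.subtype ≤ (S₁ : Subgroup G) ⊓ (T₁ : Subgroup G) := by
      rintro x ⟨y, ⟨hyS, hyT⟩, rfl⟩
      exact ⟨hS₁ ⟨y, hyS, rfl⟩, hT₁ ⟨y, hyT, rfl⟩⟩
    have h2 := Subgroup.card_le_of_le h1
    rw [Subgroup.card_map_of_injective N.subtype_injective] at h2
    exact h2.trans (hmax S₁ T₁ hne)

theorem result {G : Type*} [Group G] [Finite G] (p : ℕ) [Fact p.Prime] (P Q : Sylow p G) (hPQ : P ≠ Q) (hmax : ∀ P' Q' : Sylow p G, P' ≠ Q' → Nat.card ↥((P' : Subgroup G) ⊓ (Q' : Subgroup G)) ≤ Nat.card ↥((P : Subgroup G) ⊓ (Q : Subgroup G))) : 1 < Nat.card (Sylow p ↥(Subgroup.normalizer (((P : Subgroup G) ⊓ (Q : Subgroup G) : Subgroup G) : Set G))) ∧ (∀ S T : Sylow p ↥(Subgroup.normalizer (((P : Subgroup G) ⊓ (Q : Subgroup G) : Subgroup G) : Set G)), S ≠ T → (S : Subgroup _) ⊓ (T : Subgroup _) = ((P : Subgroup G) ⊓ (Q : Subgroup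 G)).subgroupOf (Subgroup.normalizer (((P : Subgroup G) ⊓ (Q : Subgroup G) : Subgroup G) : Set G))) ∧ ∀ S : Sylow p ↥(Subgroup.normalizer (((P : Subgroup G) ⊓ (Q : Subgroup G) : Subgroup G) : Set G)), ∃! T : Sylow p G, (S : Subgroup _).map (Subgroup.normalizer (((P : Subgroup G) ⊓ (Q : Subgroup G) : Subgroup G) : Set G)).subtype ≤ (T : Subgroup G) :=
  core p P Q hPQ _ _ rfl rfl hmax

end Cfsg.Agent.S0986
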