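import Mathlib
import Cfsg.Statements.S0987
import Cfsg.Agent.Lib_helper5_Sylow
import Cfsg.Agent.Lib_helper5_Simple

set_option autoImplicit false
open Cfsg

namespace Cfsg.Agent.S0987

open Cfsg.Agent.helper5

theorem result {G : Type*} [Group G] [Finite G] (p q r : ℕ) (hp : p.Prime) (hq : q.Prime) [Fact r.Prime] (hpq : p < q) (hqr : q < r) (hG : Nat.card G = p * q * r) (R : Sylow r G) : (R : Subgroup G).Normal := by
  have hr : r.Prime := Fact.out
  haveI := Fact.mk hp
  have hpr' : p < r := lt_trans hpq hqr
  have hmin : (Nat.card G).minFac = p := by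
    have h1 : (Nat.card G).minFac ∣ p * q * r := hG ▸ Nat.minFac_dvd _
    have hne : Nat.card G ≠ 1 := by
      rw [hG]
      have := hp.two_le; have := hq.two_le; have := hr.two_le
      intro h
      have h3 : 2 * 2 * 2 ≤ p * q * r := Nat.mul_le_mul (Nat.mul_le_mul ‹_› ‹_›) ‹_›
      omega
    have hpr := Nat.minFac_prime hne
    have h2 : (Nat.card G).minFac ≤ p :=
      Nat.minFac_le_of_dvd hp.two_le (by rw [hG]; exact dvd_mul_of_dvd_left (dvd_mul_right p q) r)
    rcases (Nat.Prime.dvd_mul hpr).mp h1 with h3 | h3
    · rcases (Nat.Prime.dvd_mul hpr).mp h3 with h4 | h4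
      · exact (Nat.prime_dvd_prime_iff_eq hpr hp).mp h4
      · have := (Nat.prime_dvd_prime_iff_eq hpr hq).mp h4
        omega
    · have := (Nat.prime_dvd_prime_iff_eq hpr hr).mp h3
      omega
  let P : Sylow p G := default
  have hnd : ¬ p ∣ q * r := by
    intro h
    rcases (Nat.Prime.dvd_mul hp).mp h with h4 | h4
    · have := (Nat.prime_dvd_prime_iff_eq hp hq).mp h4
      omega
    · have := (Nat.prime_dvd_prime_iff_eq hp hr).mp h4
      omega
  have hPcard : Nat.card P = p := by
    have := (sylow_card_of_card_eq P 1 (q * r) (by rw [hG]; ring) hnd).1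
    simpa using this
  have hPcyc : IsCyclic P := isCyclic_of_prime_card hPcard
  have hcomp := IsCyclic.isComplement' hmin hPcyc
  set f := MonoidHom.transferSylow P (hPcyc.normalizer_le_centralizer hmin) with hf
  have hNcard : Nat.card f.ker = q * r := by
    have h1 := hcomp.card_mul
    rw [hPcard, hG] at h1
    have : Nat.card f.ker * p = q * r * p := by rw [h1]; ring
    exact Nat.eq_of_mul_eq_mul_right hp.pos this
  have hRcard : Nat.card R = r := by
    have hnd' : ¬ r ∣ p * q := by
      intro h
      rcases (Nat.Prime.dvd_mul hr).mp h with h4 | h4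
      · have := (Nat.prime_dvd_prime_iff_eq hr hp).mp h4
        omega
      · have := (Nat.prime_dvd_prime_iff_eq hr hq).mp h4
        omega
    have := (sylow_card_of_card_eq R 1 (p * q) (by rw [hG]; ring) hnd').1
    simpa using this
  -- the Sylow r-subgroup of the kernel is unique
  let S : Sylow r f.ker := default
  have hS := sylow_card_of_card_eq S 1 q (by rw [hNcard]; ring) (by
    intro h
    have := (Nat.prime_dvd_prime_iff_eq hr hq).mp h
    omega)
  have hScard : Nat.card S = r := by simpa using hS.1
  have hcount := sylow_count_facts S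
  have hone : Nat.card (Sylow r f.ker) = 1 := by
    have h1 := hcount.2.1
    rw [hS.2] at h1
    rcases (Nat.dvd_prime hq).mp h1 with h2 | h2
    · exact h2
    · have h3 := hcount.1
      rw [h2, Nat.mod_eq_of_lt hqr] at h3
      have := hq.two_le
      omega
  haveI : Subsingleton (Sylow r f.ker) := (Nat.card_eq_one_iff_unique.mp hone).1
  haveI : (S : Subgroup f.ker).Characteristic := Sylow.characteristic_of_subsingleton S
  have hnorm : ((S : Subgroup f.ker).map f.ker.subtype).Normal := inferInstance
  have hS'card : Nat.card ((S : Subgroup f.ker).map f.ker.subtype) = r := by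
    rw [Subgroup.card_map_of_injective (Subgroup.subtype_injective _)]
    exact hScard
  have hS'p : IsPGroup r ((S : Subgroup f.ker).map f.ker.subtype) :=
    IsPGroup.of_card (n := 1) (by rw [hS'card, pow_one])
  have hle : (S : Subgroup f.ker).map f.ker.subtype ≤ R := normal_le_sylow r _ hS'p R
  have heq : (S : Subgroup f.ker).map f.ker.subtype = R :=
    Subgroup.eq_of_le_of_card_ge hle (by rw [hS'card, hRcard])
  rw [← heq]
  exact hnorm

end Cfsg.Agent.S0987
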