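import Mathlib
import Cfsg.Statements.S0988
import Cfsg.Agent.Lib_helper17_P2QR

set_option autoImplicit false
open Cfsg

namespace Cfsg.Agent.S0988

open Cfsg.Agent.helper5 Cfsg.Agent.helper17.P2QR

variable {G : Type*} [Group G] [Finite G] [IsSimpleGroup G]

/-- order `p^4` -/
theorem caseA (hnab : ∃ a b : G, a * b ≠ b * a) (p : ℕ) (hp : p.Prime)
    (hG : Nat.card G = p ^ 4) : False := by
  haveI : Fact p.Prime := ⟨hp⟩
  have hpg : IsPGroup p G := IsPGroup.of_card hG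
  have hlt := hpg.bot_lt_center
  have hn : (Subgroup.center G).Normal := inferInstance
  rcases hn.eq_bot_or_eq_top with h | h
  · rw [h] at hlt; exact lt_irrefl _ hlt
  · obtain ⟨a, b, hab⟩ := hnab
    apply hab
    have ha : b ∈ Subgroup.center G := by rw [h]; exact Subgroup.mem_top _
    exact Subgroup.mem_center_iff.mp ha a

/-- order `p^3 l` -/
theorem caseB (hnab : ∃ a b : G, a * b ≠ b * a) (p l : ℕ) (hp : p.Prime) (hl : l.Prime)
    (hpl : p ≠ l) (hG : Nat.card G = p ^ 3 * l) : False := by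
  haveI : Fact p.Prime := ⟨hp⟩
  haveI : Fact l.Prime := ⟨hl⟩
  obtain ⟨P⟩ : Nonempty (Sylow l G) := inferInstance
  have hG' : Nat.card G = l ^ 1 * p ^ 3 := by rw [hG]; ring
  have hlp3 : ¬ l ∣ p ^ 3 := by
    intro h
    exact hpl ((Nat.prime_dvd_prime_iff_eq hl hp).mp (hl.dvd_of_dvd_pow h)).symm
  obtain ⟨hPc, hPi⟩ := sylow_card_of_card_eq P 1 (p ^ 3) hG' hlp3
  rw [pow_one] at hPc
  have hP1 : (P : Subgroup G) ≠ ⊥ := sylow_ne_bot P (by rw [hG]; exact Dvd.intro_left _ rfl)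
  have hP2 : (P : Subgroup G) ≠ ⊤ := by
    apply sylow_ne_top P
    rw [hPc, hG]
    intro h
    have h8 : 2 ^ 3 ≤ p ^ 3 := Nat.pow_le_pow_left hp.two_le 3
    have hlpos := hl.pos
    nlinarith
  have hcyc : IsCyclic (P : Subgroup G) := isCyclic_of_prime_card hPc
  obtain ⟨k, -, hk1, hkφ, hkn⟩ := automizer_facts hnab P hP1 hcyc
  rw [hPc, Nat.totient_prime hl] at hkφ
  rw [hPi] at hkn
  obtain ⟨hmod, -, -⟩ := sylow_count_facts P
  have hn1 := sylow_count_ne_one P hP1 hP2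
  set n := Nat.card (Sylow l G) with hn
  have hkdvd : k ∣ p ^ 3 := dvd_of_mul_right_dvd hkn
  have hndvd : n ∣ p ^ 3 := dvd_of_mul_left_dvd hkn
  obtain ⟨i, hi, rfl⟩ := (Nat.dvd_prime_pow hp).mp hkdvd
  obtain ⟨j, hj, hnj⟩ := (Nat.dvd_prime_pow hp).mp hndvd
  have hi0 : i ≠ 0 := by
    intro h; apply hk1; rw [h, pow_zero]
  have hj0 : j ≠ 0 := by
    intro h; apply hn1; rw [hnj, h, pow_zero]
  have hpk : p ∣ p ^ i := dvd_pow_self p hi0
  have hpl1 : p ∣ l - 1 := hpk.trans hkφ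
  have hplt : p < l := by
    have h2 := hl.two_le
    have := Nat.le_of_dvd (by omega) hpl1
    omega
  have hij : i + j ≤ 3 := by
    rw [hnj, ← pow_add] at hkn
    exact (Nat.pow_dvd_pow_iff_le_right hp.one_lt).mp hkn
  have hj' : j = 1 ∨ j = 2 := by omega
  rcases hj' with rfl | rfl
  · rw [hnj, pow_one, Nat.mod_eq_of_lt hplt] at hmod
    have := hp.two_le
    omega
  · rw [hnj] at hmod
    have hdvd := dvd_sub_one_of_mod hl.one_lt hmod
    obtain ⟨rfl, rfl⟩ := prime_succ p l hp hl hplt hdvd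
    have h4 : Nat.card (Sylow 3 G) = 4 := by rw [← hn, hnj]; norm_num
    have := sylow4 hnab P h4
    rw [hG] at this
    norm_num at this

/-- order `p^2 q^2` with `q < p` -/
theorem caseC (hnab : ∃ a b : G, a * b ≠ b * a) (p q : ℕ) (hp : p.Prime) (hq : q.Prime)
    (hqp : q < p) (hG : Nat.card G = p ^ 2 * q ^ 2) : False := by
  haveI : Fact p.Prime := ⟨hp⟩
  obtain ⟨P⟩ : Nonempty (Sylow p G) := inferInstance
  have hpq2 : ¬ p ∣ q ^ 2 := by
    intro h
    have := (Nat.prime_dvd_prime_iff_eq hp hq).mp (hp.dvd_of_dvd_pow h)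
    omega
  obtain ⟨hPc, hPi⟩ := sylow_card_of_card_eq P 2 (q ^ 2) hG hpq2
  have hP1 : (P : Subgroup G) ≠ ⊥ := sylow_ne_bot P (by rw [hG]; exact ⟨p * q ^ 2, by ring⟩)
  have hP2 : (P : Subgroup G) ≠ ⊤ := by
    apply sylow_ne_top P
    rw [hPc, hG]
    intro h
    have h4 : 2 ^ 2 ≤ q ^ 2 := Nat.pow_le_pow_left hq.two_le 2
    have hpos : 0 < p ^ 2 := pow_pos hp.pos 2
    have : p ^ 2 * 1 < p ^ 2 * q ^ 2 := Nat.mul_lt_mul_of_le_of_lt (le_refl _) (by omega) hpos
    omega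
  obtain ⟨hmod, hndvd, -⟩ := sylow_count_facts P
  have hn1 := sylow_count_ne_one P hP1 hP2
  rw [hPi] at hndvd
  set n := Nat.card (Sylow p G) with hn
  obtain ⟨j, hj, hnj⟩ := (Nat.dvd_prime_pow hq).mp hndvd
  have hj0 : j ≠ 0 := by
    intro h; apply hn1; rw [hnj, h, pow_zero]
  have hj' : j = 1 ∨ j = 2 := by omega
  rcases hj' with rfl | rfl
  · rw [hnj, pow_one, Nat.mod_eq_of_lt hqp] at hmod
    have := hq.two_le
    omega
  · rw [hnj] at hmod
    have hdvd := dvd_sub_one_of_mod hp.one_lt hmod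
    obtain ⟨rfl, rfl⟩ := prime_succ q p hq hp hqp hdvd
    have h4 : Nat.card (Sylow 3 G) = 4 := by rw [← hn, hnj]; norm_num
    have := sylow4 hnab P h4
    rw [hG] at this
    norm_num at this

/-- distinct primes, `q < r` -/
theorem caseD (hnab : ∃ a b : G, a * b ≠ b * a) (p q r : ℕ) (hp : p.Prime) (hq : q.Prime)
    (hr : r.Prime) (hpq : p ≠ q) (hpr : p ≠ r) (hqr : q < r)
    (hG : Nat.card G = p ^ 2 * q * r) : Nat.card G = 60 := by
  haveI : Fact p.Prime := ⟨hp⟩
  haveI : Fact q.Prime := ⟨hq⟩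
  haveI : Fact r.Prime := ⟨hr⟩
  have hqr' : q ≠ r := by omega
  -- Sylow q
  obtain ⟨Q⟩ : Nonempty (Sylow q G) := inferInstance
  have hGq : Nat.card G = q ^ 1 * (p ^ 2 * r) := by rw [hG]; ring
  have hq_ndvd : ¬ q ∣ p ^ 2 * r := by
    intro h
    rcases (Nat.Prime.dvd_mul hq).mp h with h | h
    · exact hpq ((Nat.prime_dvd_prime_iff_eq hq hp).mp (hq.dvd_of_dvd_pow h)).symm
    · exact hqr' ((Nat.prime_dvd_prime_iff_eq hq hr).mp h)
  obtain ⟨hQc, hQi⟩ := sylow_card_of_card_eq Q 1 (p ^ 2 * r) hGq hq_ndvd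
  rw [pow_one] at hQc
  have hQ1 : (Q : Subgroup G) ≠ ⊥ := sylow_ne_bot Q (by rw [hGq]; exact ⟨p ^ 2 * r, by ring⟩)
  have hQcyc : IsCyclic (Q : Subgroup G) := isCyclic_of_prime_card hQc
  obtain ⟨kq, -, hkq1, hkqφ, hkqn⟩ := automizer_facts hnab Q hQ1 hQcyc
  rw [hQc, Nat.totient_prime hq] at hkqφ
  rw [hQi] at hkqn
  obtain ⟨s, hs, hskq⟩ := Nat.exists_prime_and_dvd hkq1
  have hs1 : s ∣ q - 1 := hskq.trans hkqφ
  have hs2 : s ∣ p ^ 2 * r := hskq.trans (dvd_of_mul_right_dvd hkqn)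
  have hsq : s < q := by
    have h2 := hq.two_le
    have := Nat.le_of_dvd (by omega) hs1
    omega
  have hpltq : p < q := by
    rcases (Nat.Prime.dvd_mul hs).mp hs2 with h | h
    · have := (Nat.prime_dvd_prime_iff_eq hs hp).mp (hs.dvd_of_dvd_pow h)
      omega
    · have := (Nat.prime_dvd_prime_iff_eq hs hr).mp h
      omega
  -- Sylow p
  obtain ⟨P⟩ : Nonempty (Sylow p G) := inferInstance
  have hGp : Nat.card G = p ^ 2 * (q * r) := by rw [hG]; ring
  have hp_ndvd : ¬ p ∣ q * r := by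
    intro h
    rcases (Nat.Prime.dvd_mul hp).mp h with h | h
    · exact hpq ((Nat.prime_dvd_prime_iff_eq hp hq).mp h)
    · exact hpr ((Nat.prime_dvd_prime_iff_eq hp hr).mp h)
  obtain ⟨hPc, hPi⟩ := sylow_card_of_card_eq P 2 (q * r) hGp hp_ndvd
  have hP1 : (P : Subgroup G) ≠ ⊥ := sylow_ne_bot P (by rw [hGp]; exact ⟨p * (q * r), by ring⟩)
  have hNC := burnside_simple hnab P hP1
  obtain ⟨l, hl, hlp, hlG, hlsq⟩ := automizer_sq P hPc hNC
  have hl_cases : l = q ∨ l = r := by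
    rw [hGp] at hlG
    rcases (Nat.Prime.dvd_mul hl).mp hlG with h | h
    · exact absurd ((Nat.prime_dvd_prime_iff_eq hl hp).mp (hl.dvd_of_dvd_pow h)) hlp
    · rcases (Nat.Prime.dvd_mul hl).mp h with h | h
      · exact Or.inl ((Nat.prime_dvd_prime_iff_eq hl hq).mp h)
      · exact Or.inr ((Nat.prime_dvd_prime_iff_eq hl hr).mp h)
  have hpl : p < l := by rcases hl_cases with h | h <;> omega
  obtain ⟨hp2, hl3⟩ := prime_succ p l hp hl hpl hlsq
  have hq3 : q = 3 := by rcases hl_cases with h | h <;> omega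
  subst hp2
  subst hq3
  -- Sylow r
  obtain ⟨R⟩ : Nonempty (Sylow r G) := inferInstance
  have hGr : Nat.card G = r ^ 1 * 12 := by rw [hG]; ring
  have hr5 : 5 ≤ r := by
    by_contra h
    have : r = 4 := by omega
    rw [this] at hr
    exact absurd hr (by decide)
  have hr_ndvd : ¬ r ∣ 12 := by
    intro h
    have h12 : (12 : ℕ) = 2 ^ 2 * 3 := by norm_num
    rw [h12] at h
    rcases (Nat.Prime.dvd_mul hr).mp h with h | h
    · have := (Nat.prime_dvd_prime_iff_eq hr Nat.prime_two).mp (hr.dvd_of_dvd_pow h)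
      omega
    · have := (Nat.prime_dvd_prime_iff_eq hr Nat.prime_three).mp h
      omega
  obtain ⟨hRc, hRi⟩ := sylow_card_of_card_eq R 1 12 hGr hr_ndvd
  rw [pow_one] at hRc
  have hR1 : (R : Subgroup G) ≠ ⊥ := sylow_ne_bot R (by rw [hGr]; exact ⟨12, by ring⟩)
  have hR2 : (R : Subgroup G) ≠ ⊤ := by
    apply sylow_ne_top R
    rw [hRc, hGr]
    omega
  have hRcyc : IsCyclic (R : Subgroup G) := isCyclic_of_prime_card hRc
  obtain ⟨kr, -, hkr1, hkrφ, hkrn⟩ := automizer_facts hnab R hR1 hRcyc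
  rw [hRi] at hkrn
  obtain ⟨hmod, -, -⟩ := sylow_count_facts R
  have hn1 := sylow_count_ne_one R hR1 hR2
  set n := Nat.card (Sylow r G) with hn
  have hndvd : n ∣ 12 := dvd_of_mul_left_dvd hkrn
  have hkr0 : kr ≠ 0 := by
    intro h; rw [h, zero_mul] at hkrn; omega
  have hkr2 : 2 ≤ kr := by omega
  have hn0 : n ≠ 0 := by
    intro h; rw [h] at hndvd; omega
  have hle : kr * n ≤ 12 := Nat.le_of_dvd (by norm_num) hkrn
  have hn6 : n ≤ 6 := by nlinarith
  have key : ∀ m : ℕ, m ≤ 6 → m ∣ 12 → m ≠ 1 → m = 2 ∨ m = 3 ∨ m = 4 ∨ m = 6 := by decide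
  have hn_cases : n = 2 ∨ n = 3 ∨ n = 4 ∨ n = 6 := key n hn6 hndvd hn1
  rcases hn_cases with h | h | h | h
  · rw [h, Nat.mod_eq_of_lt (by omega)] at hmod; omega
  · rw [h, Nat.mod_eq_of_lt (by omega)] at hmod; omega
  · rw [h, Nat.mod_eq_of_lt (by omega)] at hmod; omega
  · rw [h] at hmod
    have hr6 : r ≤ 6 := by
      by_contra hgt
      rw [Nat.mod_eq_of_lt (by omega)] at hmod
      omega
    have hr' : r = 5 := by
      interval_cases r
      · rfl
      · exact absurd hr (by decide)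
    rw [hG, hr']
    norm_num

/-- If a finite simple group has order p^2 * q * r with p, q and r prime, then its order is 60. -/
theorem result {G : Type*} [Group G] [Finite G] [IsSimpleGroup G] (p q r : ℕ) (hp : p.Prime) (hq : q.Prime) (hr : r.Prime) (hG : Nat.card G = p ^ 2 * q * r) : Nat.card G = 60 := by
  have hnp : ¬ (Nat.card G).Prime := by
    rw [hG]
    have h1 : p ^ 2 * q * r = p * (p * q * r) := by ring
    rw [h1]
    apply Nat.not_prime_mul hp.one_lt.ne'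
    have h2 := hp.two_le
    have h3 := hq.two_le
    have h4 := hr.two_le
    have : 2 * 2 * 2 ≤ p * q * r := Nat.mul_le_mul (Nat.mul_le_mul h2 h3) h4
    omega
  have hnab := nonabelian_of_card_not_prime hnp
  by_cases hqp : q = p
  · by_cases hrp : r = p
    · exfalso
      rw [hqp, hrp] at hG
      exact caseA hnab p hp (by rw [hG]; ring)
    · exfalso
      rw [hqp] at hG
      exact caseB hnab p r hp hr (fun h => hrp h.symm) (by rw [hG]; ring)
  · by_cases hrp : r = p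
    · exfalso
      rw [hrp] at hG
      exact caseB hnab p q hp hq (fun h => hqp h.symm) (by rw [hG]; ring)
    · by_cases hqr : q = r
      · exfalso
        rw [← hqr] at hG
        rcases Nat.lt_or_gt_of_ne hqp with h | h
        · exact caseC hnab p q hp hq h (by rw [hG]; ring)
        · exact caseC hnab q p hq hp h (by rw [hG]; ring)
      · rcases Nat.lt_or_gt_of_ne hqr with h | h
        · exact caseD hnab p q r hp hq hr (fun h => hqp h.symm) (fun h => hrp h.symm) h hG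
        · exact caseD hnab p r q hp hr hq (fun h => hrp h.symm) (fun h => hqp h.symm) h
            (by rw [hG]; ring)

end Cfsg.Agent.S0988
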