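import Mathlib
import Cfsg.Statements.S0989
import Cfsg.Agent.Lib_helper5_Simple
import Cfsg.Agent.Lib_helper5_Ind

set_option autoImplicit false
open Cfsg

namespace Cfsg.Agent.S0989

open Cfsg.Agent.helper5

theorem card_perm_factor {α : Type*} [Fintype α] [DecidableEq α] (p : ℕ) (hp : p.Prime)
    (hα : Fintype.card α = p ∨ Fintype.card α = p + 1) :
    ∃ m, Nat.card (Equiv.Perm α) = p ^ 1 * m ∧ ¬ p ∣ m := by
  rw [Nat.card_eq_fintype_card, Fintype.card_perm]
  have h2 := hp.two_le
  rcases hα with h | h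
  · refine ⟨(p - 1).factorial, ?_, ?_⟩
    · rw [h, pow_one]
      exact (Nat.mul_factorial_pred hp.ne_zero).symm
    · rw [hp.dvd_factorial]; omega
  · refine ⟨(p + 1) * (p - 1).factorial, ?_, ?_⟩
    · rw [h, pow_one, Nat.factorial_succ, ← Nat.mul_factorial_pred hp.ne_zero]; ring
    · rw [hp.dvd_mul, hp.dvd_factorial]
      rintro (h1 | h1)
      · have := (Nat.dvd_add_right (dvd_refl p)).mp h1
        have := Nat.le_of_dvd one_pos this
        omega
      · omega

/-- In the symmetric group on p or p + 1 letters, p a prime, the normalizer of a Sylow p-subgroup has order p * (p - 1). -/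
theorem result {α : Type*} [Fintype α] [DecidableEq α] (p : ℕ) [Fact p.Prime] (hα : Fintype.card α = p ∨ Fintype.card α = p + 1) (P : Sylow p (Equiv.Perm α)) : Nat.card ↥(Subgroup.normalizer ((P : Subgroup (Equiv.Perm α)) : Set (Equiv.Perm α))) = p * (p - 1) := by
  classical
  have hp := (Fact.out : p.Prime)
  have h2 := hp.two_le
  obtain ⟨m, hm, hpm⟩ := card_perm_factor p hp hα
  have hPcard : Nat.card (P : Subgroup (Equiv.Perm α)) = p := by
    have := (sylow_card_of_card_eq P 1 m hm hpm).1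
    rwa [pow_one] at this
  -- elements of P
  have hord : ∀ x : Equiv.Perm α, x ∈ (P : Subgroup (Equiv.Perm α)) → x ≠ 1 → orderOf x = p := by
    intro x hx hx1
    apply orderOf_eq_prime
    · have h := pow_card_eq_one' (G := (P : Subgroup (Equiv.Perm α))) (x := ⟨x, hx⟩)
      rw [hPcard] at h
      have := congrArg Subtype.val h
      simpa using this
    · exact hx1
  have hcyc : ∀ x : Equiv.Perm α, x ∈ (P : Subgroup (Equiv.Perm α)) → x ≠ 1 →
      x.cycleType = {p} := by
    intro x hx hx1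
    have ho := hord x hx hx1
    have hc : x.IsCycle := by
      apply Equiv.Perm.isCycle_of_prime_order'
      · rw [ho]; exact hp
      · rw [ho]; omega
    rw [hc.cycleType, ← hc.orderOf, ho]
  -- a generator
  haveI : Nontrivial (P : Subgroup (Equiv.Perm α)) :=
    Finite.one_lt_card_iff_nontrivial.mp (by rw [hPcard]; exact hp.one_lt)
  obtain ⟨⟨σ, hσP⟩, hσ1'⟩ := exists_ne (1 : (P : Subgroup (Equiv.Perm α)))
  have hσ1 : σ ≠ 1 := fun h => hσ1' (Subtype.ext h)
  have hconj : ∀ x : Equiv.Perm α, x ∈ (P : Subgroup (Equiv.Perm α)) → x ≠ 1 → IsConj σ x := by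
    intro x hx hx1
    rw [Equiv.Perm.isConj_iff_cycleType_eq, hcyc σ hσP hσ1, hcyc x hx hx1]
  have hcent : Nat.card (Subgroup.centralizer ({σ} : Set (Equiv.Perm α))) = p := by
    rw [Equiv.Perm.nat_card_centralizer, hcyc σ hσP hσ1]
    have : (Fintype.card α - p).factorial = 1 := by
      rcases hα with h | h
      · rw [h]; simp
      · rw [h]; simp
    simp [this]
  -- the index set
  let X := {x : Equiv.Perm α // x ∈ (P : Subgroup (Equiv.Perm α)) ∧ x ≠ 1}
  have hX : Nat.card X = p - 1 := by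
    have e : X ≃ {y : (P : Subgroup (Equiv.Perm α)) // y ≠ 1} :=
      { toFun := fun x => ⟨⟨x.1, x.2.1⟩, fun h => x.2.2 (congrArg Subtype.val h)⟩
        invFun := fun y => ⟨y.1.1, y.1.2, fun h => y.2 (Subtype.ext h)⟩
        left_inv := fun x => rfl
        right_inv := fun y => rfl }
    rw [Nat.card_congr e]
    have : Nat.card {y : (P : Subgroup (Equiv.Perm α)) // y ≠ 1} =
        Nat.card (P : Subgroup (Equiv.Perm α)) - 1 := by
      haveI : Fintype (P : Subgroup (Equiv.Perm α)) := Fintype.ofFinite _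
      rw [Nat.card_eq_fintype_card, Nat.card_eq_fintype_card, Fintype.card_subtype_compl,
        Fintype.card_subtype_eq]
    rw [this, hPcard]
  -- powers
  have hpow : ∀ y : Equiv.Perm α, y ∈ (P : Subgroup (Equiv.Perm α)) → ∃ j : ℤ, σ ^ j = y := by
    intro y hy
    have := mem_zpowers_of_prime_card (G := (P : Subgroup (Equiv.Perm α))) hPcard
      (g := ⟨σ, hσP⟩) (g' := ⟨y, hy⟩) hσ1'
    obtain ⟨j, hj⟩ := Subgroup.mem_zpowers_iff.mp this
    refine ⟨j, ?_⟩
    have := congrArg Subtype.val hj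
    simpa using this
  have hmemN : ∀ τ x : Equiv.Perm α, x ∈ (P : Subgroup (Equiv.Perm α)) → τ⁻¹ * σ * τ = x →
      τ ∈ Subgroup.normalizer ((P : Subgroup (Equiv.Perm α)) : Set (Equiv.Perm α)) := by
    intro τ x hx hτ
    have hinv : τ⁻¹ ∈ Subgroup.normalizer ((P : Subgroup (Equiv.Perm α)) : Set (Equiv.Perm α)) := by
      apply Subgroup.mem_normalizer_fintype
      intro y hy
      obtain ⟨j, rfl⟩ := hpow y hy
      have h2 := conj_zpow (i := j) (a := τ⁻¹) (b := σ)
      rw [← h2, inv_inv, hτ]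
      exact Subgroup.zpow_mem _ hx j
    have := Subgroup.inv_mem _ hinv
    rwa [inv_inv] at this
  have hequiv : Nat.card ↥(Subgroup.normalizer ((P : Subgroup (Equiv.Perm α)) : Set (Equiv.Perm α)))
      = Nat.card (Σ x : X, {τ : Equiv.Perm α // τ⁻¹ * σ * τ = x.1}) := by
    refine Nat.card_congr
      { toFun := fun τ => ⟨⟨τ.1⁻¹ * σ * τ.1, (Subgroup.mem_normalizer_iff''.mp τ.2 σ).mp hσP, by
            intro h
            apply hσ1
            have : σ = τ.1 * (τ.1⁻¹ * σ * τ.1) * τ.1⁻¹ := by group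
            rw [this, h]; group⟩, ⟨τ.1, rfl⟩⟩
        invFun := fun s => ⟨s.2.1, hmemN s.2.1 s.1.1 s.1.2.1 s.2.2⟩
        left_inv := fun τ => rfl
        right_inv := fun s => Sigma.subtype_ext (Subtype.ext s.2.2) rfl }
  rw [hequiv, Nat.card_sigma]
  have : ∀ x : X, Nat.card {τ : Equiv.Perm α // τ⁻¹ * σ * τ = x.1} = p := by
    intro x
    rw [card_conj_fiber σ x.1 (hconj x.1 x.2.1 x.2.2), hcent]
  rw [Finset.sum_congr rfl (fun x _ => this x), Finset.sum_const, Finset.card_univ,
    ← Nat.card_eq_fintype_card, hX, smul_eq_mul, mul_comm]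

end Cfsg.Agent.S0989
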