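import Mathlib
import Cfsg.Statements.S0990
import Cfsg.Agent.Lib_helper5_Sylow

set_option autoImplicit false
open Cfsg

namespace Cfsg.Agent.S0990

/-- Let p be an odd prime and P a Sylow p-subgroup of the symmetric group on a finite set with at least two elements. Then P is contained in the alternating group, and twice the order of the normalizer of P inside the alternating group equals the order of the normalizer of P in the symmetric group. -/
theorem result {α : Type*} [Fintype α] [DecidableEq α] (hα : 2 ≤ Fintype.card α) (p : ℕ) [Fact p.Prime] (hp : p ≠ 2) (P : Sylow p (Equiv.Perm α)) : (P : Subgroup (Equiv.Perm α)) ≤ alternatingGroup α ∧ 2 * Nat.card ↥(Subgroup.normalizer ((((P : Subgroup (Equiv.Perm α)).subgroupOf (alternatingGroup α) : Subgroup ↥(alternatingGroup α)) : Set ↥(alternatingGroup α)))) = Nat.card ↥(Subgroup.normalizer ((P : Subgroup (Equiv.Perm α)) : Set (Equiv.Perm α))) := by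
  classical
  haveI : Nontrivial α := Fintype.one_lt_card_iff_nontrivial.mp (by omega)
  have hodd : Odd p := (Fact.out : p.Prime).odd_of_ne_two hp
  have hPA : (P : Subgroup (Equiv.Perm α)) ≤ alternatingGroup α := by
    intro σ hσ
    rw [Equiv.Perm.mem_alternatingGroup]
    obtain ⟨k, hk⟩ := P.2 ⟨σ, hσ⟩
    have hk' : σ ^ (p ^ k) = 1 := by
      have := congrArg Subtype.val hk
      simpa using this
    have hs : (Equiv.Perm.sign σ) ^ (p ^ k) = 1 := by
      rw [← map_pow, hk', map_one]
    rcases Int.units_eq_one_or (Equiv.Perm.sign σ) with h | h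
    · exact h
    · rw [h, (hodd.pow).neg_one_pow] at hs
      exact absurd hs (by decide)
  refine ⟨hPA, ?_⟩
  set A := alternatingGroup α with hA
  set N := Subgroup.normalizer ((P : Subgroup (Equiv.Perm α)) : Set (Equiv.Perm α)) with hN
  rw [← Subgroup.subgroupOf_normalizer_eq hPA]
  -- Frattini
  have hfr : N ⊔ A = ⊤ := by
    have := Sylow.normalizer_sup_eq_top (P.subtype hPA)
    rw [Sylow.coe_subtype, Subgroup.map_subgroupOf_eq_of_le hPA] at this
    exact this
  have h1 : A.relIndex N = 2 := by
    rw [← Subgroup.relIndex_sup_right, hfr, Subgroup.relIndex_top_right]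
    exact alternatingGroup.index_eq_two
  have h2 : Nat.card (A.subgroupOf N) * 2 = Nat.card N := by
    have := Subgroup.card_mul_index (A.subgroupOf N)
    rw [show (A.subgroupOf N).index = 2 from h1] at this
    exact this
  have h3 : Nat.card (N.subgroupOf A) = Nat.card (A.subgroupOf N) := by
    rw [Cfsg.Agent.helper5.card_subgroupOf_eq_card_inf, Cfsg.Agent.helper5.card_subgroupOf_eq_card_inf,
      inf_comm]
  rw [h3, ← h2, mul_comm]

end Cfsg.Agent.S0990
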