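import Cfsg.Statements.S0992
import Mathlib
import Cfsg.Agent.Lib_helper5_Simple

set_option autoImplicit false
open Cfsg

namespace Cfsg.Agent.S0992

open Cfsg.Agent.helper5

theorem result {G : Type*} [Group G] [Finite G] [IsSimpleGroup G] (hG : ¬ IsMulCommutative G) (h2 : Even (Nat.card G)) (h8 : ¬ 8 ∣ Nat.card G) (T : Sylow 2 G) : IsKleinFour ↥(T : Subgroup G) ∧ (Subgroup.centralizer ((T : Subgroup G) : Set G)).relIndex (Subgroup.normalizer ((T : Subgroup G) : Set G)) = 3 := by
  classical
  have hna := nonabelian_of_not_isMulCommutative hG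
  have h2dvd : 2 ∣ Nat.card G := even_iff_two_dvd.mp h2
  have hT1 : (T : Subgroup G) ≠ ⊥ := sylow_ne_bot T h2dvd
  have hburn := burnside_simple hna T hT1
  have hGpos : Nat.card G ≠ 0 := Nat.card_pos.ne'
  have hcard : Nat.card T = 2 ^ (Nat.card G).factorization 2 := T.card_eq_multiplicity
  -- the 2-adic valuation is 1 or 2
  have hv1 : 1 ≤ (Nat.card G).factorization 2 :=
    (Nat.prime_two.pow_dvd_iff_le_factorization hGpos).mp (by simpa using h2dvd)
  have hv2 : (Nat.card G).factorization 2 ≤ 2 := by
    by_contra hcon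
    push Not at hcon
    apply h8
    have : 2 ^ 3 ∣ Nat.card G := (Nat.prime_two.pow_dvd_iff_le_factorization hGpos).mpr hcon
    simpa using this
  -- T is not cyclic
  have hminFac : (Nat.card G).minFac = 2 := (Nat.minFac_eq_two_iff _).mpr h2dvd
  have hncyc : ¬ IsCyclic T := fun hc => hburn (hc.normalizer_le_centralizer hminFac)
  -- hence |T| = 4
  have hcard4 : Nat.card T = 4 := by
    have : (Nat.card G).factorization 2 = 1 ∨ (Nat.card G).factorization 2 = 2 := by omega
    rcases this with h | h
    · exfalso
      apply hncyc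
      rw [h, pow_one] at hcard
      haveI : Fact (Nat.Prime 2) := ⟨Nat.prime_two⟩
      exact isCyclic_of_prime_card hcard
    · rw [h] at hcard; simpa using hcard
  -- exponent two
  have hsq : ∀ x : T, x ^ 2 = 1 := by
    intro x
    have hdvd : orderOf x ∣ 4 := hcard4 ▸ orderOf_dvd_natCard x
    have hne4 : orderOf x ≠ 4 := by
      intro h
      apply hncyc
      exact isCyclic_of_orderOf_eq_card x (by rw [h, hcard4])
    have : orderOf x ∣ 2 := by
      have h4 : (4 : ℕ) = 2 ^ 2 := by norm_num
      rw [h4] at hdvd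
      obtain ⟨j, hj, hjeq⟩ := (Nat.dvd_prime_pow Nat.prime_two).mp hdvd
      interval_cases j
      · rw [hjeq]; norm_num
      · rw [hjeq]; norm_num
      · exfalso; apply hne4; rw [hjeq]; norm_num
    exact orderOf_dvd_iff_pow_eq_one.mp this
  have hklein : IsKleinFour T := by
    refine ⟨hcard4, ?_⟩
    have h1 : Monoid.exponent T ∣ 2 := Monoid.exponent_dvd_of_forall_pow_eq_one hsq
    have h2' : Monoid.exponent T ≠ 1 := by
      intro h
      have : Subsingleton T := Monoid.exp_eq_one_iff.mp h
      have : Nat.card T = 1 := Nat.card_unique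
      omega
    rcases (Nat.dvd_prime Nat.prime_two).mp h1 with h | h
    · exact absurd h h2'
    · exact h
  refine ⟨hklein, ?_⟩
  -- the index
  set r := (Subgroup.centralizer ((T : Subgroup G) : Set G)).relIndex
    (Subgroup.normalizer ((T : Subgroup G) : Set G)) with hr
  -- T ≤ C(T)
  have hTC : (T : Subgroup G) ≤ Subgroup.centralizer ((T : Subgroup G) : Set G) := by
    intro a ha
    rw [Subgroup.mem_centralizer_iff]
    intro b hb
    have hcomm := (IsKleinFour.isMulCommutative (G := T)).is_comm.comm ⟨b, hb⟩ ⟨a, ha⟩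
    exact congrArg Subtype.val hcomm
  -- r is odd
  have hrodd : ¬ 2 ∣ r := by
    intro h
    have h1 : r ∣ (T : Subgroup G).index :=
      (Subgroup.relIndex_dvd_of_le_left _ hTC).trans (Subgroup.relIndex_dvd_index_of_le Subgroup.le_normalizer)
    exact T.not_dvd_index (h.trans h1)
  -- r divides |Aut T|, which divides 24
  have hr24 : r ∣ 24 := by
    have key := Subgroup.card_dvd_of_injective _ (QuotientGroup.kerLift_injective (T : Subgroup G).normalizerMonoidHom)
    rw [Subgroup.normalizerMonoidHom_ker, ← Subgroup.index, ← Subgroup.relIndex] at key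
    have h1 : Nat.card (MulAut T) ∣ Nat.card (Equiv.Perm T) := by
      apply Subgroup.card_dvd_of_injective (MulAut.toPerm T)
      intro a b hab
      exact MulEquiv.toEquiv_injective hab
    have h2' : Nat.card (Equiv.Perm T) = 24 := by
      haveI : Fintype T := Fintype.ofFinite T
      rw [Nat.card_eq_fintype_card, Fintype.card_perm, ← Nat.card_eq_fintype_card, hcard4]
      rfl
    rw [h2'] at h1
    exact key.trans h1
  have hr3 : r ∣ 3 := by
    have hcop : Nat.Coprime r 8 := by
      have : Nat.Coprime r 2 := (Nat.coprime_comm.mp ((Nat.Prime.coprime_iff_not_dvd Nat.prime_two).mpr hrodd))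
      have h8' : (8 : ℕ) = 2 ^ 3 := by norm_num
      rw [h8']; exact this.pow_right 3
    have : r ∣ 8 * 3 := by simpa using hr24
    exact hcop.dvd_of_dvd_mul_left this
  have hr1 : r ≠ 1 := by
    intro h
    apply hburn
    exact Subgroup.relIndex_eq_one.mp h
  rcases (Nat.dvd_prime Nat.prime_three).mp hr3 with h | h
  · exact absurd h hr1
  · exact h

end Cfsg.Agent.S0992
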