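import Cfsg.Statements.S0994
import Mathlib
import Cfsg.Agent.Lib_helper5_Simple

set_option autoImplicit false
open Cfsg

namespace Cfsg.Agent.S0994

open Cfsg.Agent.helper5

theorem result {G : Type*} [Group G] [Finite G] [IsSimpleGroup G] : Nat.card G ≠ 1188 := by
  intro hcard
  have hna : ∃ a b : G, a * b ≠ b * a := nonabelian_of_card_not_prime (by rw [hcard]; norm_num)
  haveI : Fact (Nat.Prime 11) := ⟨by norm_num⟩
  obtain ⟨P⟩ : Nonempty (Sylow 11 G) := inferInstance
  obtain ⟨hPcard, hPidx⟩ := sylow_card_of_card_eq P 1 108 (by rw [hcard]; norm_num) (by norm_num)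
  have hP1 : (P : Subgroup G) ≠ ⊥ := sylow_ne_bot P (by rw [hcard]; norm_num)
  have hcyc : IsCyclic (P : Subgroup G) := isCyclic_of_prime_card (p := 11) (by simpa using hPcard)
  obtain ⟨hmod, hdvd, _⟩ := sylow_count_facts P
  obtain ⟨r, _, hr1, hrtot, hrdvd⟩ := automizer_facts hna P hP1 hcyc
  rw [hPidx] at hdvd hrdvd
  rw [hPcard] at hrtot
  have htot : Nat.totient (11 ^ 1) = 10 := by decide
  rw [htot] at hrtot
  set n := Nat.card (Sylow 11 G) with hn
  have hnle : n ≤ 108 := Nat.le_of_dvd (by norm_num) hdvd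
  have hrle : r ≤ 10 := Nat.le_of_dvd (by norm_num) hrtot
  have hP2 : (P : Subgroup G) ≠ ⊤ := by
    intro h
    have : Nat.card P = Nat.card G := by rw [h, Subgroup.card_top]
    omega
  have hn1 : n ≠ 1 := sylow_count_ne_one P hP1 hP2
  interval_cases n <;> first | omega | (interval_cases r <;> omega)

end Cfsg.Agent.S0994
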