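import Mathlib
import Cfsg.Statements.S0995
import Cfsg.Agent.Lib_helper5_Sylow
import Cfsg.Agent.Lib_helper5_Simple
import Cfsg.Agent.Lib_helper1_ClassCount

set_option autoImplicit false
open Cfsg

namespace Cfsg.Agent.S0995

open Cfsg.Agent.helper5

theorem orderOf_conj' {G : Type*} [Group G] (h g : G) : orderOf (h * g * h⁻¹) = orderOf g :=
  orderOf_injective (MulAut.conj h).toMonoidHom (MulAut.conj h).injective g

/-- In a cyclic group of prime order generated by `z`, a nontrivial element has `z` as a power. -/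
theorem mem_zpowers_of_mem_zpowers {G : Type*} [Group G] {p : ℕ} [Fact p.Prime] {z c : G}
    (hz : orderOf z = p) (hc : c ∈ Subgroup.zpowers z) (hc1 : c ≠ 1) : z ∈ Subgroup.zpowers c := by
  have hcard : Nat.card (Subgroup.zpowers z) = p := by rw [Nat.card_zpowers, hz]
  have hne : (⟨c, hc⟩ : Subgroup.zpowers z) ≠ 1 := fun h => hc1 (congrArg Subtype.val h)
  have htop := zpowers_eq_top_of_prime_card hcard hne
  have hzmem : (⟨z, Subgroup.mem_zpowers z⟩ : Subgroup.zpowers z) ∈
      Subgroup.zpowers (⟨c, hc⟩ : Subgroup.zpowers z) := by rw [htop]; trivial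
  obtain ⟨k, hk⟩ := Subgroup.mem_zpowers_iff.mp hzmem
  rw [Subgroup.mem_zpowers_iff]
  refine ⟨k, ?_⟩
  have := congrArg Subtype.val hk
  simpa using this

/-- centralizer of a nontrivial element of the self-centralizing cyclic group -/
theorem centralizer_eq {G : Type*} [Group G] {p : ℕ} [Fact p.Prime] {z w : G}
    (hz : orderOf z = p) (hC : Subgroup.centralizer ({z} : Set G) = Subgroup.zpowers z)
    (hw : w ∈ Subgroup.zpowers z) (hw1 : w ≠ 1) :
    Subgroup.centralizer ({w} : Set G) = Subgroup.zpowers z := by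
  apply le_antisymm
  · intro x hx
    rw [← hC, Subgroup.mem_centralizer_iff]
    intro y hy
    rw [Set.mem_singleton_iff] at hy
    subst hy
    have hxw : w * x = x * w := (Subgroup.mem_centralizer_iff.mp hx) w (Set.mem_singleton _)
    obtain ⟨k, hk⟩ := Subgroup.mem_zpowers_iff.mp (mem_zpowers_of_mem_zpowers hz hw hw1)
    rw [← hk]
    have hcomm : Commute w x := hxw
    exact (hcomm.zpow_left k).eq
  · intro x hx
    rw [Subgroup.mem_centralizer_iff]
    intro y hy
    rw [Set.mem_singleton_iff] at hy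
    subst hy
    obtain ⟨i, rfl⟩ := Subgroup.mem_zpowers_iff.mp hx
    obtain ⟨j, rfl⟩ := Subgroup.mem_zpowers_iff.mp hw
    rw [← zpow_add, ← zpow_add, add_comm]

theorem result {G : Type*} [Group G] [Finite G] (hperf : commutator G = ⊤) (p : ℕ) [Fact p.Prime] (z : G) (hz : orderOf z = p) (hC : Subgroup.centralizer ({z} : Set G) = Subgroup.zpowers z) : ∃ n t : ℕ, t = Nat.card {c : ConjClasses G // ∃ g : G, ConjClasses.mk g = c ∧ orderOf g = p} ∧ t ∣ p - 1 ∧ Nat.card (Sylow p G) = 1 + n * p ∧ Nat.card G * t = (p - 1) * p * (1 + n * p) := by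
  classical
  haveI : Fintype G := Fintype.ofFinite _
  have hp : p.Prime := Fact.out
  have hz1 : z ≠ 1 := by
    intro h
    rw [h, orderOf_one] at hz
    exact hp.one_lt.ne hz
  have hZp : IsPGroup p (Subgroup.zpowers z) :=
    IsPGroup.of_card (n := 1) (by rw [Nat.card_zpowers, hz, pow_one])
  obtain ⟨S, hS⟩ := hZp.exists_le_sylow
  have hzS : z ∈ (S : Subgroup G) := hS (Subgroup.mem_zpowers z)
  -- S = ⟨z⟩
  have hSle : (S : Subgroup G) ≤ Subgroup.zpowers z := by
    haveI : Nontrivial (S : Subgroup G) := ⟨⟨⟨z, hzS⟩, 1, fun h => hz1 (congrArg Subtype.val h)⟩⟩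
    haveI := S.isPGroup'.center_nontrivial
    obtain ⟨c, hc⟩ := exists_ne (1 : Subgroup.center (S : Subgroup G))
    have hc1 : ((c : (S : Subgroup G)) : G) ≠ 1 := by
      intro h
      apply hc
      apply Subtype.ext
      apply Subtype.ext
      exact h
    have hccent : ∀ s : (S : Subgroup G), s * (c : (S : Subgroup G)) = (c : (S : Subgroup G)) * s :=
      fun s => (Subgroup.mem_center_iff.mp c.2 s)
    have hcz : ((c : (S : Subgroup G)) : G) ∈ Subgroup.zpowers z := by
      rw [← hC, Subgroup.mem_centralizer_iff]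
      intro y hy
      rw [Set.mem_singleton_iff] at hy
      subst hy
      have := hccent ⟨y, hzS⟩
      exact congrArg Subtype.val this
    obtain ⟨k, hk⟩ := Subgroup.mem_zpowers_iff.mp (mem_zpowers_of_mem_zpowers hz hcz hc1)
    intro s hs
    rw [← hC, Subgroup.mem_centralizer_iff]
    intro y hy
    rw [Set.mem_singleton_iff] at hy
    subst hy
    have h1 : (⟨s, hs⟩ : (S : Subgroup G)) * (c : (S : Subgroup G)) =
        (c : (S : Subgroup G)) * ⟨s, hs⟩ := hccent ⟨s, hs⟩
    have h2 : s * ((c : (S : Subgroup G)) : G) = ((c : (S : Subgroup G)) : G) * s :=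
      congrArg Subtype.val h1
    rw [← hk]
    have hcomm : Commute ((c : (S : Subgroup G)) : G) s := h2.symm
    exact (hcomm.zpow_left k).eq
  have hSeq : (S : Subgroup G) = Subgroup.zpowers z := le_antisymm hSle hS
  have hScard : Nat.card S = p := by
    rw [hSeq, Nat.card_zpowers, hz]
  have hQcard : ∀ Q : Sylow p G, Nat.card Q = p := by
    intro Q
    rw [Q.card_eq_multiplicity, ← S.card_eq_multiplicity, hScard]
  -- elements of order p
  have hgen : ∀ g : G, orderOf g = p → ∀ Q : Sylow p G, g ∈ (Q : Subgroup G) →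
      Subgroup.zpowers g = Q := by
    intro g hg Q hgQ
    apply Subgroup.eq_of_le_of_card_ge
    · rw [Subgroup.zpowers_le]; exact hgQ
    · rw [hQcard Q, Nat.card_zpowers, hg]
  have hord : ∀ Q : Sylow p G, ∀ g ∈ (Q : Subgroup G), g ≠ 1 → orderOf g = p := by
    intro Q g hg hg1
    have h1 : orderOf (⟨g, hg⟩ : (Q : Subgroup G)) ∣ Nat.card Q := orderOf_dvd_natCard _
    rw [hQcard Q, Subgroup.orderOf_mk] at h1
    rcases (Nat.dvd_prime hp).mp h1 with h2 | h2
    · exact absurd (orderOf_eq_one_iff.mp h2) hg1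
    · exact h2
  have hcent : ∀ g : G, orderOf g = p → Nat.card (Subgroup.centralizer ({g} : Set G)) = p := by
    intro g hg
    have hgp : IsPGroup p (Subgroup.zpowers g) :=
      IsPGroup.of_card (n := 1) (by rw [Nat.card_zpowers, hg, pow_one])
    obtain ⟨Q, hQ⟩ := hgp.exists_le_sylow
    obtain ⟨h, hh⟩ := MulAction.exists_smul_eq G S Q
    have hgQ : g ∈ (Q : Subgroup G) := hQ (Subgroup.mem_zpowers g)
    rw [← hh] at hgQ
    have hw : h⁻¹ * g * h ∈ (S : Subgroup G) := (mem_smul_sylow_iff h g S).mp hgQ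
    rw [hSeq] at hw
    have hg1 : g ≠ 1 := by
      intro h1
      rw [h1, orderOf_one] at hg
      exact hp.one_lt.ne hg
    have hw1 : h⁻¹ * g * h ≠ 1 := by
      intro h1
      apply hg1
      have : g = h * (h⁻¹ * g * h) * h⁻¹ := by group
      rw [this, h1]; group
    have h3 := centralizer_eq hz hC hw hw1
    have h4 := card_centralizer_conj (h⁻¹ * g * h) h
    have h5 : h * (h⁻¹ * g * h) * h⁻¹ = g := by group
    rw [h5, h3, Nat.card_zpowers, hz] at h4
    exact h4
  -- counting the elements of order p through the Sylow subgroups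
  let X : Finset G := Finset.univ.filter (fun g => orderOf g = p)
  have hex : ∀ g : G, orderOf g = p → ∃ Q : Sylow p G, g ∈ (Q : Subgroup G) := by
    intro g hg
    have hgp : IsPGroup p (Subgroup.zpowers g) :=
      IsPGroup.of_card (n := 1) (by rw [Nat.card_zpowers, hg, pow_one])
    obtain ⟨Q, hQ⟩ := hgp.exists_le_sylow
    exact ⟨Q, hQ (Subgroup.mem_zpowers g)⟩
  let f : G → Sylow p G := fun g => if h : orderOf g = p then Classical.choose (hex g h) else S
  have hf : ∀ g : G, orderOf g = p → g ∈ (f g : Subgroup G) := by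
    intro g hg
    simp only [f, dif_pos hg]
    exact Classical.choose_spec (hex g hg)
  have hfib : ∀ Q : Sylow p G, X.filter (fun g => f g = Q) =
      (Finset.univ.filter (fun g => g ∈ (Q : Subgroup G))).erase 1 := by
    intro Q
    ext g
    simp only [X, Finset.mem_filter, Finset.mem_univ, true_and, Finset.mem_erase]
    constructor
    · rintro ⟨hg, hfg⟩
      refine ⟨?_, ?_⟩
      · intro h1
        rw [h1, orderOf_one] at hg
        exact hp.one_lt.ne hg
      · rw [← hfg]; exact hf g hg
    · rintro ⟨hg1, hgQ⟩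
      have hg := hord Q g hgQ hg1
      refine ⟨hg, ?_⟩
      apply Sylow.ext
      rw [← hgen g hg Q hgQ, ← hgen g hg (f g) (hf g hg)]
  have hfibcard : ∀ Q : Sylow p G, (X.filter (fun g => f g = Q)).card = p - 1 := by
    intro Q
    have h1 : (Finset.univ.filter (fun g => g ∈ (Q : Subgroup G))).card = p := by
      rw [← Fintype.card_subtype, ← Nat.card_eq_fintype_card]
      exact hQcard Q
    rw [hfib Q, Finset.card_erase_of_mem (by simp [(Q : Subgroup G).one_mem]), h1]
  haveI : Fintype (Sylow p G) := Fintype.ofFinite _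
  have hXcard : X.card = Nat.card (Sylow p G) * (p - 1) := by
    rw [Finset.card_eq_sum_card_fiberwise (f := f) (t := Finset.univ) (fun g _ => Finset.mem_univ _),
      Finset.sum_congr rfl (fun Q _ => hfibcard Q), Finset.sum_const, Finset.card_univ,
      Nat.card_eq_fintype_card, smul_eq_mul]
  -- counting through the classes
  have hclass := Cfsg.Agent.helper1.sum_centralizer_eq_card_mul_classes (G := G)
    (fun g => orderOf g = p) (fun g h => by rw [orderOf_conj'])
  have hsum : ∑ g : G, (if orderOf g = p then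
      (Nat.card (Subgroup.centralizer ({g} : Set G)) : ℂ) else 0) = (X.card : ℂ) * p := by
    rw [← Finset.sum_filter]
    rw [Finset.sum_congr rfl (g := fun _ => (p : ℂ))]
    · rw [Finset.sum_const, nsmul_eq_mul]
    · intro g hg
      have hg' : orderOf g = p := (Finset.mem_filter.mp hg).2
      rw [hcent g hg']
  have hteq : Nat.card {c : ConjClasses G // ∃ g : G, ConjClasses.mk g = c ∧ orderOf g = p} =
      Nat.card {C : ConjClasses G // ∀ g : G, ConjClasses.mk g = C → orderOf g = p} := by
    apply Nat.card_congr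
    apply Equiv.subtypeEquivRight
    intro c
    constructor
    · rintro ⟨g, hg, hgo⟩ g' hg'
      rw [← hg'] at hg
      obtain ⟨k, hk⟩ := isConj_iff.mp (ConjClasses.mk_eq_mk_iff_isConj.mp hg)
      rw [← hk, orderOf_conj']
      exact hgo
    · intro h
      obtain ⟨g, rfl⟩ := ConjClasses.mk_surjective c
      exact ⟨g, rfl, h g rfl⟩
  set t := Nat.card {c : ConjClasses G // ∃ g : G, ConjClasses.mk g = c ∧ orderOf g = p} with ht
  have hmainC : (X.card : ℂ) * p = (Nat.card G : ℂ) *
      (Nat.card {C : ConjClasses G // ∀ g : G, ConjClasses.mk g = C → orderOf g = p} : ℂ) := by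
    rw [← hsum]
    convert hclass
  have hmain : X.card * p = Nat.card G * t := by
    rw [← hteq] at hmainC
    exact_mod_cast hmainC
  -- the number of Sylow subgroups
  have hcount := sylow_count_facts S
  set np := Nat.card (Sylow p G) with hnp
  have hnpmod : np = 1 + (np / p) * p := by
    have := Nat.div_add_mod np p
    rw [hcount.1] at this
    rw [mul_comm] at this
    omega
  have hp1 : 1 ≤ p := hp.one_lt.le
  have hGt : Nat.card G * t = (p - 1) * p * np := by
    rw [← hmain, hXcard]; ring
  refine ⟨np / p, t, rfl, ?_, hnpmod, ?_⟩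
  · -- t ∣ p - 1
    have hN : p ∣ Nat.card (Subgroup.normalizer ((S : Subgroup G) : Set G)) := by
      have := Subgroup.card_dvd_of_le (Subgroup.le_normalizer (H := (S : Subgroup G)))
      rwa [hScard] at this
    obtain ⟨e, he⟩ := hN
    have h3 := hcount.2.2
    rw [he] at h3
    have hnp0 : 0 < np := Nat.card_pos
    have h4 : np * (p * (e * t)) = np * (p * (p - 1)) := by
      calc np * (p * (e * t)) = (np * (p * e)) * t := by ring
        _ = Nat.card G * t := by rw [h3]
        _ = (p - 1) * p * np := hGt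
        _ = np * (p * (p - 1)) := by ring
    have h5 := Nat.eq_of_mul_eq_mul_left hp.pos (Nat.eq_of_mul_eq_mul_left hnp0 h4)
    exact ⟨e, by rw [← h5]; ring⟩
  · rw [← hnpmod]; exact hGt

end Cfsg.Agent.S0995
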