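import Mathlib
import Cfsg.Statements.S1006
import Cfsg.Agent.Lib_helper5_O168b

set_option autoImplicit false
open Cfsg

namespace Cfsg.Agent.S1006

open Cfsg.Agent.helper5 Cfsg.Agent.helper5.O168

theorem result {G : Type*} [Group G] [Finite G] [IsSimpleGroup G] (h : Nat.card G = 168) : Nat.card {g : G // orderOf g = 3} = 56 ∧ (∀ s t : G, orderOf s = 3 → orderOf t = 3 → IsConj s t) ∧ Nat.card {g : G // orderOf g = 4} = 42 ∧ (∀ s t : G, orderOf s = 4 → orderOf t = 4 → IsConj s t) ∧ Nat.card {g : G // orderOf g = 7} = 48 ∧ ∀ x : G, orderOf x = 7 → Nat.card {g : G // IsConj x g} = 24 ∧ ¬ IsConj x x⁻¹ := by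
  classical
  haveI : Fintype G := Fintype.ofFinite _
  obtain ⟨z, y, hz, hy, h2, h4, h3, h7, hcz, hcy⟩ := class_facts h
  -- centralizers of elements of order 3 and 7
  have hcent : ∀ (q : ℕ) (x : G), orderOf x = q →
      (∀ y t : G, orderOf y = q → t * y = y * t → t ∈ Subgroup.zpowers y) →
      Subgroup.centralizer ({x} : Set G) = Subgroup.zpowers x := by
    intro q x hx hmem
    apply le_antisymm
    · intro t ht
      exact hmem x t hx ((Subgroup.mem_centralizer_iff.mp ht) x (Set.mem_singleton _)).symm
    · rw [Subgroup.zpowers_le, Subgroup.mem_centralizer_iff]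
      intro t ht
      rw [Set.mem_singleton_iff] at ht
      rw [ht]
  have hclass : ∀ (q : ℕ) (x : G), orderOf x = q →
      (∀ y t : G, orderOf y = q → t * y = y * t → t ∈ Subgroup.zpowers y) →
      Nat.card {g : G // IsConj g x} * q = 168 := by
    intro q x hx hmem
    have := card_conj_mul_card_centralizer x
    rwa [hcent q x hx hmem, Nat.card_zpowers, hx, h] at this
  have hsymm : ∀ x : G, Nat.card {g : G // IsConj x g} = Nat.card {g : G // IsConj g x} := by
    intro x
    apply Nat.card_congr
    exact Equiv.subtypeEquivRight (fun g => ⟨fun hg => hg.symm, fun hg => hg.symm⟩)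
  refine ⟨h3, ?_, h4, fun s t hs ht => (hcy s hs).trans (hcy t ht).symm, h7, ?_⟩
  · -- one class of elements of order 3
    intro s t hs ht
    have h56 : Nat.card {g : G // IsConj g t} = 56 := by
      have := hclass 3 t ht (fun y t hy hc => mem_zpowers_of_commute3 h y t hy hc)
      omega
    let K : Finset G := Finset.univ.filter (fun g => IsConj g t)
    let O3 : Finset G := Finset.univ.filter (fun g => orderOf g = 3)
    have hK : K.card = 56 := by
      rw [← h56, Nat.card_eq_fintype_card, Fintype.card_subtype]
    have hO3 : O3.card = 56 := by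
      rw [← h3, Nat.card_eq_fintype_card, Fintype.card_subtype]
    have hsub : K ⊆ O3 := by
      intro g hg
      simp only [K, O3, Finset.mem_filter, Finset.mem_univ, true_and] at hg ⊢
      obtain ⟨c, hc⟩ := isConj_iff.mp hg
      rw [← ht, ← hc, orderOf_conj']
    have heq : K = O3 := Finset.eq_of_subset_of_card_le hsub (by rw [hK, hO3])
    have : s ∈ O3 := by simp [O3, hs]
    rw [← heq] at this
    exact (Finset.mem_filter.mp this).2
  · intro x hx
    constructor
    · rw [hsymm]
      have := hclass 7 x hx (fun y t hy hc => mem_zpowers_of_commute7 h y t hy hc)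
      omega
    · intro hconj
      obtain ⟨g, hg⟩ := isConj_iff.mp hconj
      -- g x g⁻¹ = x⁻¹; g has odd order
      have hpow : ∀ k : ℕ, g ^ k * x * (g ^ k)⁻¹ = if Even k then x else x⁻¹ := by
        intro k
        induction k with
        | zero => simp
        | succ n ih =>
          have : g ^ (n + 1) * x * (g ^ (n + 1))⁻¹ = g * (g ^ n * x * (g ^ n)⁻¹) * g⁻¹ := by
            rw [pow_succ']; group
          rw [this, ih]
          by_cases hn : Even n
          · rw [if_pos hn, if_neg (by rw [Nat.even_add_one]; exact not_not.mpr hn), hg]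
          · rw [if_neg hn, if_pos (by rw [Nat.even_add_one]; exact hn)]
            have : g * x⁻¹ * g⁻¹ = (g * x * g⁻¹)⁻¹ := by group
            rw [this, hg, inv_inv]
      have hx1 : x ≠ x⁻¹ := by
        intro hxx
        have h2' : x ^ 2 = 1 := by
          rw [pow_two]
          nth_rewrite 2 [hxx]
          exact mul_inv_cancel x
        have := orderOf_dvd_of_pow_eq_one h2'
        rw [hx] at this
        omega
      -- g normalizes ⟨x⟩, so has odd order
      obtain ⟨P, hP⟩ := exists_sylow_eq_zpowers (fun Q => (sylow7 h Q).1) x hx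
      have hgN : g ∈ Subgroup.normalizer ((P : Subgroup G) : Set G) := by
        apply Subgroup.mem_normalizer_fintype
        intro n hn
        have hn' : n ∈ (P : Subgroup G) := hn
        rw [hP] at hn'
        obtain ⟨k, rfl⟩ := Subgroup.mem_zpowers_iff.mp hn'
        have h1 : g * x ^ k * g⁻¹ = (g * x * g⁻¹) ^ k := by
          rw [conj_zpow]
        change g * x ^ k * g⁻¹ ∈ (P : Subgroup G)
        rw [h1, hg, hP]
        exact Subgroup.zpow_mem _ (Subgroup.inv_mem _ (Subgroup.mem_zpowers x)) k
      have hord : orderOf g ∣ 21 := by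
        have := orderOf_dvd_natCard (⟨g, hgN⟩ : Subgroup.normalizer ((P : Subgroup G) : Set G))
        rwa [Subgroup.orderOf_mk, card_normalizer7 h P] at this
      have hodd : ¬ Even (orderOf g) := by
        intro he
        have h2 : 2 ∣ orderOf g := even_iff_two_dvd.mp he
        have := h2.trans hord
        omega
      have := hpow (orderOf g)
      rw [if_neg hodd, pow_orderOf_eq_one] at this
      simp at this
      exact hx1 this

end Cfsg.Agent.S1006
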