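import Cfsg.Statements.S1007
-- import your own Cfsg.Agent.* helpers here
import Mathlib
import Cfsg.Agent.Lib_helper4_O168b

set_option autoImplicit false
open Cfsg

namespace Cfsg.Agent.S1007

open Cfsg.Agent.helper4.O168


/-- Let G be a simple group of order 168 and T a Sylow 2-subgroup. Then T contains exactly two subgroups that are Klein four-groups; they are not conjugate in G; and the normalizer of every Klein four-subgroup of G is isomorphic to the symmetric group of degree 4. -/
theorem result {G : Type*} [Group G] [Finite G] [IsSimpleGroup G] (h : Nat.card G = 168) (T : Sylow 2 G) : Nat.card {U : Subgroup G // U ≤ (T : Subgroup G) ∧ IsKleinFour ↥U} = 2 ∧ (∀ U W : Subgroup G, U ≤ (T : Subgroup G) → W ≤ (T : Subgroup G) → IsKleinFour ↥U → IsKleinFour ↥W → U ≠ W → ∀ g : G, U.map (MulAut.conj g).toMonoidHom ≠ W) ∧ ∀ U : Subgroup G, IsKleinFour ↥U → Nonempty (↥(Subgroup.normalizer (U : Set G)) ≃* Equiv.Perm (Fin 4)) := by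
  classical
  haveI : Fact (Nat.Prime 2) := ⟨Nat.prime_two⟩
  obtain ⟨f, hf, hfr⟩ := exists_d4_hom h T
  refine ⟨?_, ?_, ?_⟩
  · have hset : {U : Subgroup G | U ≤ (T : Subgroup G) ∧ IsKleinFour ↥U}
        = {V1.map f, V2.map f} := by
      ext U
      simp only [Set.mem_setOf_eq, Set.mem_insert_iff, Set.mem_singleton_iff]
      constructor
      · rintro ⟨hUT, hU⟩
        exact (klein_of_d4 f hf U (hfr ▸ hUT)).mp ((isKleinFour_iff_K4 U).mp hU)
      · intro hU
        have hUT : U ≤ (T : Subgroup G) := by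
          rcases hU with rfl | rfl <;> (rw [← hfr]; exact Subgroup.map_le_range _ _)
        exact ⟨hUT, (isKleinFour_iff_K4 U).mpr ((klein_of_d4 f hf U (hfr ▸ hUT)).mpr hU)⟩
    have h1 : Nat.card {U : Subgroup G // U ≤ (T : Subgroup G) ∧ IsKleinFour ↥U}
        = Set.ncard {U : Subgroup G | U ≤ (T : Subgroup G) ∧ IsKleinFour ↥U} := rfl
    rw [h1, hset, Set.ncard_pair (map_V1_ne_map_V2 f hf)]
  · intro U W hUT hWT hU hW hne g hg
    exact hne (klein_not_conj h T ((isKleinFour_iff_K4 U).mp hU) ((isKleinFour_iff_K4 W).mp hW)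
      hUT hWT g hg)
  · intro U hU
    exact normalizer_K4_iso h ((isKleinFour_iff_K4 U).mp hU)

end Cfsg.Agent.S1007
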