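import Cfsg.Statements.S1008
-- import your own Cfsg.Agent.* helpers here
import Mathlib
import Cfsg.Agent.Lib_helper4_O168e

set_option autoImplicit false
open Cfsg

namespace Cfsg.Agent.S1008

open Cfsg.Agent.helper4.O168 Cfsg.Agent.helper5 Cfsg.Agent.helper5.O168


/-- In a simple group of order 168 every maximal subgroup is either isomorphic to the symmetric group of degree 4 or non-abelian of order 21; the maximal subgroups of order 21 form one conjugacy class and those isomorphic to the symmetric group of degree 4 form exactly two conjugacy classes. -/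
theorem result {G : Type*} [Group G] [Finite G] [IsSimpleGroup G] (h : Nat.card G = 168) : (∀ M : Subgroup G, IsCoatom M → Nonempty (↥M ≃* Equiv.Perm (Fin 4)) ∨ (Nat.card ↥M = 21 ∧ ¬ IsMulCommutative ↥M)) ∧ (∀ M M' : Subgroup G, IsCoatom M → IsCoatom M' → Nat.card ↥M = 21 → Nat.card ↥M' = 21 → ∃ g : G, M' = M.map (MulAut.conj g).toMonoidHom) ∧ ∃ M₁ M₂ : Subgroup G, IsCoatom M₁ ∧ IsCoatom M₂ ∧ Nonempty (↥M₁ ≃* Equiv.Perm (Fin 4)) ∧ Nonempty (↥M₂ ≃* Equiv.Perm (Fin 4)) ∧ (∀ g : G, M₂ ≠ M₁.map (MulAut.conj g).toMonoidHom) ∧ ∀ M : Subgroup G, IsCoatom M → Nonempty (↥M ≃* Equiv.Perm (Fin 4)) → ∃ g : G, M = M₁.map (MulAut.conj g).toMonoidHom ∨ M = M₂.map (MulAut.conj g).toMonoidHom := by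
  classical
  have : Fact (Nat.Prime 2) := ⟨Nat.prime_two⟩
  refine ⟨?_, ?_, ?_⟩
  · intro M hM
    rcases coatom_card h M hM with h24 | ⟨h21, P, hP⟩
    · left
      apply Cfsg.Agent.S1012.result h24
      intro g hg
      have := orders h (g : G)
      rw [Subgroup.orderOf_coe] at this
      omega
    · right
      refine ⟨h21, ?_⟩
      rw [hP]
      exact normalizer7_not_comm h P
  · intro M M' hM hM' h21 h21'
    rcases coatom_card h M hM with h24 | ⟨-, P, hP⟩
    · omega
    rcases coatom_card h M' hM' with h24 | ⟨-, P', hP'⟩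
    · omega
    obtain ⟨g, hg⟩ := MulAction.exists_smul_eq G P P'
    refine ⟨g, ?_⟩
    rw [hP', hP, ← hg, sylow_coe_smul_eq_map, normalizer_map_conj]
  · obtain ⟨T⟩ : Nonempty (Sylow 2 G) := inferInstance
    obtain ⟨f, hf, hfr⟩ := exists_d4_hom h T
    have hU1 : K4 (V1.map f) := (K4_map f hf V1).mpr K4_V1
    have hU2 : K4 (V2.map f) := (K4_map f hf V2).mpr K4_V2
    have hU1T : V1.map f ≤ (T : Subgroup G) := by rw [← hfr]; exact Subgroup.map_le_range _ _
    have hU2T : V2.map f ≤ (T : Subgroup G) := by rw [← hfr]; exact Subgroup.map_le_range _ _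
    refine ⟨Subgroup.normalizer ((V1.map f : Subgroup G) : Set G),
      Subgroup.normalizer ((V2.map f : Subgroup G) : Set G),
      isCoatom_of_card24 h _ (card_normalizer_K4 h hU1),
      isCoatom_of_card24 h _ (card_normalizer_K4 h hU2),
      normalizer_K4_iso h hU1, normalizer_K4_iso h hU2, ?_, ?_⟩
    · intro g hg
      rw [normalizer_map_conj] at hg
      have hK : K4 ((V1.map f).map (MulAut.conj g).toMonoidHom) :=
        (K4_map _ (MulAut.conj g).injective _).mpr hU1
      have h1 := K4_eq_of_normalizer_eq h hK hU2 hg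
      have h2 := klein_not_conj h T hU1 hU2 hU1T hU2T g h1.symm
      exact map_V1_ne_map_V2 f hf h2
    · intro M hM ⟨e⟩
      obtain ⟨U, hU, hMU⟩ := eq_normalizer_of_iso_s4 h M e
      have hUp : IsPGroup 2 U := IsPGroup.of_card (n := 2) (by rw [hU.1]; norm_num)
      obtain ⟨T', hUT'⟩ := hUp.exists_le_sylow
      obtain ⟨g, hg⟩ := MulAction.exists_smul_eq G T T'
      have hT' : (T' : Subgroup G) = (T : Subgroup G).map (MulAut.conj g).toMonoidHom := by
        rw [← hg, sylow_coe_smul_eq_map]
      -- pull back U along conj g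
      set W : Subgroup G := U.map (MulAut.conj g⁻¹).toMonoidHom with hW
      have hWK : K4 W := (K4_map _ (MulAut.conj g⁻¹).injective _).mpr hU
      have hWU : W.map (MulAut.conj g).toMonoidHom = U := by
        rw [hW, Subgroup.map_map]
        have : (MulAut.conj g).toMonoidHom.comp (MulAut.conj g⁻¹).toMonoidHom = MonoidHom.id G := by
          ext x; simp; group
        rw [this, Subgroup.map_id]
      have hWT : W ≤ (T : Subgroup G) := by
        rintro _ ⟨u, hu, rfl⟩
        have := hUT' hu
        rw [hT'] at this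
        obtain ⟨t, ht, hte⟩ := this
        have : (MulAut.conj g⁻¹).toMonoidHom u = t := by
          rw [← hte]; simp; group
        rw [this]; exact ht
      refine ⟨g, ?_⟩
      rcases (klein_of_d4 f hf W (by rw [hfr]; exact hWT)).mp hWK with h1 | h1
      · left
        rw [normalizer_map_conj, ← h1, hWU, hMU]
      · right
        rw [normalizer_map_conj, ← h1, hWU, hMU]

end Cfsg.Agent.S1008
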