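import Cfsg.Statements.S1009
import Mathlib
import Cfsg.Agent.Lib_helper5_Sylow

set_option autoImplicit false
open Cfsg

namespace Cfsg.Agent.S1009

open Cfsg.Agent.helper5

theorem result {G : Type*} [Group G] [Finite G] (p : ℕ) [Fact p.Prime] (hab : ∀ P : Sylow p G, IsMulCommutative ↥(P : Subgroup G)) : ∃ P Q : Sylow p G, (P : Subgroup G) ⊓ (Q : Subgroup G) = ⨅ R : Sylow p G, (R : Subgroup G) := by
  classical
  obtain ⟨⟨P, Q⟩, hmin⟩ := Finite.exists_min
    (fun PQ : Sylow p G × Sylow p G => Nat.card ((PQ.1 : Subgroup G) ⊓ (PQ.2 : Subgroup G) : Subgroup G))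
  simp only at hmin
  refine ⟨P, Q, ?_⟩
  apply le_antisymm
  · apply le_iInf
    intro R
    -- commutativity inside Sylow subgroups
    have hcomm : ∀ (S : Sylow p G) (a b : G), a ∈ (S : Subgroup G) → b ∈ (S : Subgroup G) → a * b = b * a := by
      intro S a b ha hb
      have := (hab S).is_comm.comm ⟨a, ha⟩ ⟨b, hb⟩
      exact congrArg Subtype.val this
    set D : Subgroup G := (P : Subgroup G) ⊓ (Q : Subgroup G) with hD
    set N : Subgroup G := Subgroup.normalizer (D : Set G) with hN
    have hle_of_comm : ∀ S : Sylow p G, D ≤ (S : Subgroup G) → (S : Subgroup G) ≤ N := by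
      intro S hDS a ha
      rw [hN, Subgroup.mem_normalizer_iff]
      intro d
      have key : ∀ d ∈ D, a * d * a⁻¹ = d := by
        intro d hd
        have := hcomm S a d ha (hDS hd)
        rw [this]; group
      constructor
      · intro hd; rw [key d hd]; exact hd
      · intro hd
        have h1 := key _ hd
        have h2 : a * d * a⁻¹ = d := by
          have h3 : a⁻¹ * (a * (a * d * a⁻¹) * a⁻¹) * a = a⁻¹ * (a * d * a⁻¹) * a := by rw [h1]
          have h4 : a⁻¹ * (a * (a * d * a⁻¹) * a⁻¹) * a = a * d * a⁻¹ := by group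
          have h5 : a⁻¹ * (a * d * a⁻¹) * a = d := by group
          rw [h4, h5] at h3
          exact h3
        rw [← h2]; exact hd
    have hPN : (P : Subgroup G) ≤ N := hle_of_comm P inf_le_left
    have hQN : (Q : Subgroup G) ≤ N := hle_of_comm Q inf_le_right
    -- the p-subgroup R ⊓ N of N
    have hRN : IsPGroup p ((R : Subgroup G) ⊓ N : Subgroup G) := R.isPGroup'.to_inf_left
    obtain ⟨n, hnN, hn⟩ := exists_conj_le_of_le p N P hPN _ hRN inf_le_right
    -- S = n⁻¹ • R
    set S : Sylow p G := n⁻¹ • R with hS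
    have hSmem : ∀ x, x ∈ (S : Subgroup G) ↔ n * x * n⁻¹ ∈ (R : Subgroup G) := by
      intro x
      rw [hS, mem_smul_sylow_iff]; simp
    have hSQ : (S : Subgroup G) ⊓ (Q : Subgroup G) ≤ D := by
      intro x ⟨hxS, hxQ⟩
      refine ⟨?_, hxQ⟩
      have hxN : x ∈ N := hQN hxQ
      have h1 : n * x * n⁻¹ ∈ (R : Subgroup G) ⊓ N :=
        ⟨(hSmem x).mp hxS, N.mul_mem (N.mul_mem hnN hxN) (N.inv_mem hnN)⟩
      have h2 := hn _ h1
      have : n⁻¹ * (n * x * n⁻¹) * n = x := by group
      rwa [this] at h2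
    have hcard : Nat.card D ≤ Nat.card ((S : Subgroup G) ⊓ (Q : Subgroup G) : Subgroup G) := hmin (S, Q)
    have heq : (S : Subgroup G) ⊓ (Q : Subgroup G) = D := by
      apply Subgroup.eq_of_le_of_card_ge hSQ hcard
    -- D ≤ S, hence D ≤ R
    intro d hd
    have hdS : n⁻¹ * d * n ∈ (S : Subgroup G) := by
      have h1 : n⁻¹ * d * n ∈ D := by
        have := (Subgroup.mem_normalizer_iff.mp (N.inv_mem hnN) d).mp hd
        simpa using this
      rw [← heq] at h1
      exact h1.1
    have := (hSmem _).mp hdS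
    have h2 : n * (n⁻¹ * d * n) * n⁻¹ = d := by group
    rwa [h2] at this
  · exact le_inf (iInf_le _ P) (iInf_le _ Q)

end Cfsg.Agent.S1009
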