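import Cfsg.Statements.S1011
import Cfsg.Agent.S1230
import Cfsg.Agent.Lib_helper11_O504e
import Cfsg.Agent.Lib_helper11_PSL2Char2

set_option autoImplicit false
open Cfsg

namespace Cfsg.Agent.S1011

/-- transport of `SL₂` along a ring isomorphism -/
noncomputable def slCongr {R S : Type*} [CommRing R] [CommRing S] (f : R ≃+* S) :
    Matrix.SpecialLinearGroup (Fin 2) R ≃* Matrix.SpecialLinearGroup (Fin 2) S where
  toFun := Matrix.SpecialLinearGroup.map (f : R →+* S)
  invFun := Matrix.SpecialLinearGroup.map (f.symm : S →+* R)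
  left_inv A := by
    apply Subtype.ext
    ext i j
    show f.symm (f ((A : Matrix (Fin 2) (Fin 2) R) i j)) = _
    rw [RingEquiv.symm_apply_apply]
  right_inv A := by
    apply Subtype.ext
    ext i j
    show f (f.symm ((A : Matrix (Fin 2) (Fin 2) S) i j)) = _
    rw [RingEquiv.apply_symm_apply]
  map_mul' A B := map_mul _ A B

theorem two_eq_zero_of_card {F : Type*} [Field F] [Fintype F] (hF : Fintype.card F = 8) :
    (2 : F) = 0 := by
  have := Nat.cast_card_eq_zero F
  rw [hF] at this
  have h8 : (2 : F) ^ 3 = 0 := by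
    have e : ((8 : ℕ) : F) = 2 ^ 3 := by norm_num
    rw [← e]; exact this
  exact pow_eq_zero_iff (by norm_num) |>.mp h8

/-- A simple group of order 504 is isomorphic to the projective special linear group of dimension 2 over the field with 8 elements. -/
theorem result {G : Type*} [Group G] [Finite G] [IsSimpleGroup G] (h : Nat.card G = 504) {F : Type*} [Field F] [Fintype F] (hF : Fintype.card F = 8) : Nonempty (G ≃* Matrix.ProjectiveSpecialLinearGroup (Fin 2) F) := by
  classical
  obtain ⟨T⟩ : Nonempty (Sylow 2 G) := inferInstance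
  obtain ⟨hnc, hnn, hC⟩ := Cfsg.Agent.helper11.O504.structure_thm h T
  obtain ⟨F', iF, fF, hF'card, ⟨e⟩⟩ := Cfsg.Agent.S1230.result T hnc hnn hC
  have hF'8 : Fintype.card F' = 8 := by
    rw [hF'card]; exact Cfsg.Agent.helper11.O504.sylow2_card h T
  let φ : F' ≃+* F := FiniteField.ringEquivOfCardEq (by rw [hF'8, hF])
  have h2F : (2 : F) = 0 := two_eq_zero_of_card hF
  have h2F' : (2 : F') = 0 := two_eq_zero_of_card hF'8
  exact ⟨e.trans ((Cfsg.Agent.helper11.PSL2Char2.slEquiv h2F').symm.trans
    ((slCongr φ).trans (Cfsg.Agent.helper11.PSL2Char2.slEquiv h2F)))⟩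

end Cfsg.Agent.S1011
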