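import Cfsg.Statements.S1013
import Mathlib

set_option autoImplicit false
open Cfsg

namespace Cfsg.Agent.S1013

open MulAction

section core

variable {H α : Type*} [Group H] [Finite H] [MulAction H α] [Fintype α]
  {p : ℕ} [hp : Fact p.Prime]

lemma card_dvd_factorial [FaithfulSMul H α] : Nat.card H ∣ (Fintype.card α).factorial := by
  classical
  have hinj : Function.Injective (MulAction.toPermHom H α) := MulAction.toPerm_injective
  have := Subgroup.card_dvd_of_injective (MulAction.toPermHom H α) hinj
  rw [Nat.card_perm] at this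
  rwa [Nat.card_eq_fintype_card (α := α)] at this

lemma p_dvd_card (hα : Fintype.card α = p) [IsPretransitive H α] : p ∣ Nat.card H := by
  have hpos : 0 < Fintype.card α := hα ▸ hp.out.pos
  obtain ⟨a⟩ : Nonempty α := Fintype.card_pos_iff.mp hpos
  have h1 := MulAction.index_stabilizer_of_transitive H a
  rw [Nat.card_eq_fintype_card, hα] at h1
  rw [← h1]
  exact Subgroup.index_dvd_card _

lemma not_sq_dvd [FaithfulSMul H α] (hα : Fintype.card α = p) : ¬ p ^ 2 ∣ Nat.card H := by
  intro h
  have h2 := h.trans (card_dvd_factorial (H := H) (α := α))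
  rw [hα] at h2
  obtain ⟨k, hk⟩ : ∃ k, p = k + 1 := ⟨p - 1, (Nat.succ_pred_eq_of_pos hp.out.pos).symm⟩
  have h3 : p * p ∣ p * k.factorial := by
    have : p.factorial = p * k.factorial := by
      rw [hk, Nat.factorial_succ]
    rw [← this, ← pow_two]
    exact h2
  have h4 := Nat.dvd_of_mul_dvd_mul_left hp.out.pos h3
  rw [hp.out.dvd_factorial] at h4
  omega

lemma trans_of_normal_ne_bot [FaithfulSMul H α] [IsPreprimitive H α] (N : Subgroup H) [N.Normal]
    (hNbot : N ≠ ⊥) : IsPretransitive N α := by
  apply IsQuasiPreprimitive.isPretransitive_of_normal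
  intro h
  apply hNbot
  rw [eq_bot_iff]
  intro m hm
  rw [Subgroup.mem_bot]
  apply FaithfulSMul.eq_of_smul_eq_smul (α := α)
  intro x
  have hx : x ∈ fixedPoints N α := h ▸ Set.mem_univ x
  rw [one_smul]
  exact hx ⟨m, hm⟩

theorem core [FaithfulSMul H α] (hα : Fintype.card α = p) [IsPretransitive H α] (P : Sylow p H)
    (hn : 1 < Nat.card (Sylow p H))
    (ht : ((P : Subgroup H).relIndex (Subgroup.normalizer ((P : Subgroup H) : Set H))).Prime) :
    IsSimpleGroup H := by
  classical
  have hprimecard : (Nat.card α).Prime := by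
    rw [Nat.card_eq_fintype_card, hα]; exact hp.out
  have hpH := p_dvd_card (H := H) hα
  have hsq := not_sq_dvd (H := H) (α := α) hα
  have hcardpos : 0 < Nat.card H := Nat.card_pos
  have hcardP : Nat.card P = p := by
    rw [P.card_eq_multiplicity]
    have hfac : (Nat.card H).factorization p = 1 := by
      apply le_antisymm
      · by_contra hlt
        push_neg at hlt
        apply hsq
        exact (Nat.Prime.pow_dvd_iff_le_factorization hp.out hcardpos.ne').mpr hlt
      · exact (Nat.Prime.dvd_iff_one_le_factorization hp.out hcardpos.ne').mp hpH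
    rw [hfac, pow_one]
  haveI : Nontrivial H := by
    by_contra h
    rw [not_nontrivial_iff_subsingleton] at h
    have : Nat.card H = 1 := Nat.card_unique
    rw [this] at hpH
    exact hp.out.one_lt.ne' (Nat.dvd_one.mp hpH)
  refine ⟨fun N hN => ?_⟩
  by_contra hcon
  push_neg at hcon
  obtain ⟨hNbot, hNtop⟩ := hcon
  haveI := hN
  haveI hprim : IsPreprimitive H α := IsPreprimitive.of_prime_card hprimecard
  haveI hNt : IsPretransitive N α := trans_of_normal_ne_bot N hNbot
  have hpN : p ∣ Nat.card N := p_dvd_card (H := N) hα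
  have hPN : (P : Subgroup H) ≤ N := by
    have hidx : ¬ p ∣ N.index := by
      intro hd
      apply hsq
      rw [← N.card_mul_index, pow_two]
      exact Nat.mul_dvd_mul hpN hd
    have h1 : Nat.card ((P : Subgroup H).map (QuotientGroup.mk' N)) = 1 := by
      have hd1 : Nat.card ((P : Subgroup H).map (QuotientGroup.mk' N)) ∣ p := by
        have := Subgroup.card_map_dvd (P : Subgroup H) (QuotientGroup.mk' N)
        rwa [hcardP] at this
      have hd2 : Nat.card ((P : Subgroup H).map (QuotientGroup.mk' N)) ∣ N.index := by
        rw [Subgroup.index_eq_card]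
        exact Subgroup.card_subgroup_dvd_card _
      rcases (Nat.dvd_prime hp.out).mp hd1 with h | h
      · exact h
      · exact absurd (h ▸ hd2) hidx
    rw [Subgroup.card_eq_one] at h1
    have := (Subgroup.map_eq_bot_iff _).mp h1
    rwa [QuotientGroup.ker_mk'] at this
  set NG := Subgroup.normalizer ((P : Subgroup H) : Set H) with hNG
  have hfr : NG ⊔ N = ⊤ := Sylow.normalizer_sup_eq_top' P hPN
  have hidx : N.index = N.relIndex NG := by
    rw [← Subgroup.relIndex_sup_right, hfr, Subgroup.relIndex_top_right]
  have hP_le : (P : Subgroup H) ≤ NG ⊓ N := le_inf Subgroup.le_normalizer hPN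
  have hmul := Subgroup.relIndex_mul_relIndex (P : Subgroup H) (NG ⊓ N) NG hP_le inf_le_left
  rcases Nat.Prime.eq_one_or_self_of_dvd ht _ (Dvd.intro _ hmul) with h1 | h1
  · -- `N_N(P) = P`: Burnside transfer
    rw [Subgroup.relIndex_eq_one] at h1
    let PN : Sylow p N := P.subtype hPN
    have hPNcoe : (PN : Subgroup N) = (P : Subgroup H).subgroupOf N := P.coe_subtype hPN
    have hPNcard : Nat.card PN = p := by
      have : Nat.card (PN : Subgroup N) = Nat.card ((P : Subgroup H).subgroupOf N) := by
        rw [hPNcoe]
      rw [this]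
      exact (Nat.card_congr (Subgroup.subgroupOfEquivOfLe hPN).toEquiv).trans hcardP
    have hnorm : Subgroup.normalizer ((PN : Subgroup N) : Set N) ≤ (PN : Subgroup N) := by
      rw [hPNcoe, ← Subgroup.subgroupOf_normalizer_eq hPN]
      intro x hx
      rw [Subgroup.mem_subgroupOf] at hx ⊢
      exact h1 ⟨hx, x.2⟩
    haveI : IsCyclic (PN : Subgroup N) := isCyclic_of_prime_card hPNcard
    have hPc : Subgroup.normalizer ((PN : Subgroup N) : Set N) ≤
        Subgroup.centralizer ((PN : Subgroup N) : Set N) := by
      intro x hx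
      have hxP := hnorm hx
      rw [Subgroup.mem_centralizer_iff]
      intro y hy
      have := IsMulCommutative.is_comm.comm (⟨y, hy⟩ : (PN : Subgroup N)) ⟨x, hxP⟩
      exact congrArg Subtype.val this
    have hcompl := MonoidHom.ker_transferSylow_isComplement' PN hPc
    have hnd := MonoidHom.not_dvd_card_ker_transferSylow PN hPc
    set K := (MonoidHom.transferSylow PN hPc).ker with hK
    haveI : K.Normal := MonoidHom.normal_ker _
    haveI : IsPreprimitive N α := IsPreprimitive.of_prime_card hprimecard
    have hKbot : K = ⊥ := by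
      by_contra hKne
      haveI : IsPretransitive K α := trans_of_normal_ne_bot K hKne
      exact hnd (p_dvd_card (H := K) hα)
    rw [hKbot, Subgroup.isComplement'_bot_left] at hcompl
    rw [hPNcoe, Subgroup.subgroupOf_eq_top] at hcompl
    have hNP : N = (P : Subgroup H) := le_antisymm hcompl hPN
    have hPnormal : (P : Subgroup H).Normal := hNP ▸ hN
    haveI := Sylow.unique_of_normal P hPnormal
    have : Nat.card (Sylow p H) = 1 := Nat.card_unique
    omega
  · rw [h1] at hmul
    have hone : (NG ⊓ N).relIndex NG = 1 := by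
      have hpos : 0 < (P : Subgroup H).relIndex NG := ht.pos
      exact Nat.eq_of_mul_eq_mul_left hpos (hmul.trans (mul_one _).symm)
    rw [Subgroup.inf_relIndex_left, ← hidx, Subgroup.index_eq_one] at hone
    exact hNtop hone

end core

/-- Let G be a transitive permutation group of prime degree p having more than one Sylow p-subgroup, and suppose a Sylow p-subgroup P has prime index in its normalizer. Then G is simple. -/
theorem result {α : Type*} [Fintype α] [DecidableEq α] {p : ℕ} [Fact p.Prime] (hα : Fintype.card α = p) (G : Subgroup (Equiv.Perm α)) [MulAction.IsPretransitive ↥G α] (P : Sylow p ↥G) (hn : 1 < Nat.card (Sylow p ↥G)) (ht : (((P : Subgroup ↥G).subgroupOf (Subgroup.normalizer ((P : Subgroup ↥G) : Set ↥G))).index).Prime) : IsSimpleGroup ↥G := by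
  exact core (H := ↥G) (α := α) hα P hn ht

end Cfsg.Agent.S1013
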