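import Mathlib
import Cfsg.Statements.S1014
import Cfsg.Agent.Lib_helper5_Simple
import Cfsg.Agent.S0989
import Cfsg.Agent.S0990
import Cfsg.Agent.S0991

set_option autoImplicit false
open Cfsg

namespace Cfsg.Agent.S1014

open Cfsg.Agent.helper5

/-- No finite simple group has order 1104 = 2^4 * 3 * 23. -/
theorem result {G : Type*} [Group G] [Finite G] [IsSimpleGroup G] : Nat.card G ≠ 1104 := by
  classical
  intro hcard
  have hna : ∃ a b : G, a * b ≠ b * a := nonabelian_of_card_not_prime (by rw [hcard]; norm_num)
  have hG : ¬ IsMulCommutative G := by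
    intro h
    obtain ⟨a, b, hab⟩ := hna
    exact hab (h.is_comm.comm a b)
  haveI : Fact (Nat.Prime 23) := ⟨by norm_num⟩
  obtain ⟨P⟩ : Nonempty (Sylow 23 G) := inferInstance
  obtain ⟨hPcard, hPidx⟩ := sylow_card_of_card_eq P 1 48 (by rw [hcard]; norm_num) (by norm_num)
  have hP1 : (P : Subgroup G) ≠ ⊥ := sylow_ne_bot P (by rw [hcard]; norm_num)
  obtain ⟨hmod, hdvd, hnN⟩ := sylow_count_facts P
  rw [hPidx] at hdvd
  have hP2 : (P : Subgroup G) ≠ ⊤ := by
    intro h
    have : Nat.card P = Nat.card G := by rw [h, Subgroup.card_top]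
    omega
  have hn1 := sylow_count_ne_one P hP1 hP2
  set n := Nat.card (Sylow 23 G) with hn
  have hnle : n ≤ 48 := Nat.le_of_dvd (by norm_num) hdvd
  have hn24 : n = 24 := by
    interval_cases n <;> omega
  set H := Subgroup.normalizer ((P : Subgroup G) : Set G) with hH
  have hHcard : Nat.card H = 46 := by
    rw [hn24, hcard] at hnN
    omega
  have hHidx : H.index = 24 := by
    have := Subgroup.card_mul_index H
    rw [hHcard, hcard] at this
    omega
  have hHtop : H ≠ ⊤ := by
    intro h
    have : Nat.card H = Nat.card G := by rw [h, Subgroup.card_top]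
    omega
  obtain ⟨f, hf⟩ := Cfsg.Agent.S0991.result hG H hHtop
  have hα : Fintype.card (Fin H.index) = 23 + 1 := by rw [Fintype.card_fin, hHidx]
  -- the image of P in the symmetric group
  let P' : Subgroup (Equiv.Perm (Fin H.index)) := ((P : Subgroup G).map f).map (alternatingGroup (Fin H.index)).subtype
  have hP'card : Nat.card P' = 23 := by
    rw [Subgroup.card_map_of_injective (Subgroup.subtype_injective _),
      Subgroup.card_map_of_injective hf]
    simpa using hPcard
  have hP'p : IsPGroup 23 P' := (P.2.map f).map (alternatingGroup (Fin H.index)).subtype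
  obtain ⟨Q, hQ⟩ := hP'p.exists_le_sylow
  obtain ⟨m, hm, hpm⟩ := Cfsg.Agent.S0989.card_perm_factor (α := Fin H.index) 23 (by norm_num)
    (Or.inr hα)
  have hQcard : Nat.card (Q : Subgroup (Equiv.Perm (Fin H.index))) = 23 := by
    have := (sylow_card_of_card_eq Q 1 m hm hpm).1
    simpa using this
  have hP'Q : P' = (Q : Subgroup (Equiv.Perm (Fin H.index))) :=
    Subgroup.eq_of_le_of_card_ge hQ (by rw [hP'card, hQcard])
  have h989 := Cfsg.Agent.S0989.result 23 (Or.inr hα) Q
  obtain ⟨hQA, h990⟩ := Cfsg.Agent.S0990.result (α := Fin H.index) (by rw [hα]; norm_num) 23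
    (by norm_num) Q
  rw [h989] at h990
  -- Q.subgroupOf (alternatingGroup (Fin H.index)) = P.map f
  have hsub : (Q : Subgroup (Equiv.Perm (Fin H.index))).subgroupOf (alternatingGroup (Fin H.index)) = (P : Subgroup G).map f := by
    rw [← hP'Q]
    change (((P : Subgroup G).map f).map (alternatingGroup (Fin H.index)).subtype).comap (alternatingGroup (Fin H.index)).subtype = _
    rw [Subgroup.comap_map_eq_self_of_injective (Subgroup.subtype_injective _)]
  rw [hsub] at h990
  have hle : H.map f ≤ Subgroup.normalizer (((P : Subgroup G).map f : Subgroup (alternatingGroup (Fin H.index))) : Set (alternatingGroup (Fin H.index))) :=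
    Subgroup.le_normalizer_map f
  have hdvd2 := Subgroup.card_dvd_of_le hle
  rw [Subgroup.card_map_of_injective hf, hHcard] at hdvd2
  have h253 : Nat.card ↥(Subgroup.normalizer (((P : Subgroup G).map f : Subgroup (alternatingGroup (Fin H.index))) : Set (alternatingGroup (Fin H.index)))) = 253 := by
    omega
  rw [h253] at hdvd2
  omega

end Cfsg.Agent.S1014
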