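import Mathlib
import Cfsg.Statements.S1015
import Cfsg.Agent.Lib_helper5_Simple
import Cfsg.Agent.S0985
import Cfsg.Agent.S0991

set_option autoImplicit false
open Cfsg

namespace Cfsg.Agent.S1015

open Cfsg.Agent.helper5

/-- Two distinct Sylow subgroups inside `L` force `|L| ≥ (p+1) |P|`. -/
theorem two_sylow_card_bound {G : Type*} [Group G] [Finite G] {p : ℕ} [Fact p.Prime]
    (P R : Sylow p G) (hPR : P ≠ R) (L : Subgroup G) (hPL : (P : Subgroup G) ≤ L)
    (hRL : (R : Subgroup G) ≤ L) : (p + 1) * Nat.card P ≤ Nat.card L := by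
  have hp : p.Prime := Fact.out
  let PL : Sylow p L := P.subtype hPL
  let RL : Sylow p L := R.subtype hRL
  have hne : PL ≠ RL := by
    intro h
    apply hPR
    apply Sylow.ext
    have h2 : (PL : Subgroup L) = (RL : Subgroup L) := congrArg _ h
    rw [Sylow.coe_subtype, Sylow.coe_subtype] at h2
    rw [← Subgroup.map_subgroupOf_eq_of_le hPL, ← Subgroup.map_subgroupOf_eq_of_le hRL, h2]
  obtain ⟨hmod, hdvd, _⟩ := sylow_count_facts PL
  have hn2 : 1 < Nat.card (Sylow p L) := by
    rw [Finite.one_lt_card_iff_nontrivial]
    exact ⟨⟨PL, RL, hne⟩⟩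
  have hnp : p + 1 ≤ Nat.card (Sylow p L) := by
    set n := Nat.card (Sylow p L) with hn
    by_contra hlt
    push Not at hlt
    have h2 := hp.two_le
    have : n % p = n ∨ n = p := by
      rcases Nat.lt_or_ge n p with h | h
      · exact Or.inl (Nat.mod_eq_of_lt h)
      · exact Or.inr (by omega)
    rcases this with h | h
    · omega
    · rw [h, Nat.mod_self] at hmod; omega
  have hcardPL : Nat.card (PL : Subgroup L) = Nat.card P := by
    rw [Sylow.coe_subtype]
    exact Nat.card_congr (Subgroup.subgroupOfEquivOfLe hPL).toEquiv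
  have hidx := Subgroup.card_mul_index (PL : Subgroup L)
  have hle : Nat.card (Sylow p L) ≤ (PL : Subgroup L).index :=
    Nat.le_of_dvd (Nat.pos_of_ne_zero Subgroup.index_ne_zero_of_finite) hdvd
  calc (p + 1) * Nat.card P ≤ (PL : Subgroup L).index * Nat.card P :=
        Nat.mul_le_mul_right _ (hnp.trans hle)
    _ = Nat.card L := by rw [← hidx, hcardPL, mul_comm]

theorem no_small_index {G : Type*} [Group G] [Finite G] [IsSimpleGroup G]
    (hcard : Nat.card G = 1200) (hG : ¬ IsMulCommutative G) (H : Subgroup G) (hH : H ≠ ⊤)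
    (hidx : H.index ≤ 8) : False := by
  classical
  obtain ⟨f, hf⟩ := Cfsg.Agent.S0991.result hG H hH
  have h1 : Nat.card G ∣ Nat.card (alternatingGroup (Fin H.index)) :=
    Subgroup.card_dvd_of_injective f hf
  have h2 : Nat.card (alternatingGroup (Fin H.index)) ∣ Nat.card (Equiv.Perm (Fin H.index)) :=
    Subgroup.card_subgroup_dvd_card _
  have h3 : Nat.card (Equiv.Perm (Fin H.index)) = (H.index).factorial := by
    rw [Nat.card_eq_fintype_card, Fintype.card_perm, Fintype.card_fin]
  have h4 : (H.index).factorial ∣ (8).factorial := Nat.factorial_dvd_factorial hidx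
  have h5 : 1200 ∣ (8).factorial := by
    rw [← hcard]
    exact h1.trans (h2.trans (h3 ▸ h4))
  have : ¬ (1200 ∣ (8).factorial) := by decide
  exact this h5

/-- No finite simple group has order 1200 = 2^4 * 3 * 5^2. -/
theorem result {G : Type*} [Group G] [Finite G] [IsSimpleGroup G] : Nat.card G ≠ 1200 := by
  classical
  intro hcard
  have hna : ∃ a b : G, a * b ≠ b * a := nonabelian_of_card_not_prime (by rw [hcard]; norm_num)
  have hG : ¬ IsMulCommutative G := by
    intro h
    obtain ⟨a, b, hab⟩ := hna
    exact hab (h.is_comm.comm a b)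
  haveI : Fact (Nat.Prime 5) := ⟨by norm_num⟩
  obtain ⟨P₀⟩ : Nonempty (Sylow 5 G) := inferInstance
  have hcardS : ∀ P : Sylow 5 G, Nat.card P = 25 ∧ (P : Subgroup G).index = 48 := by
    intro P
    have := sylow_card_of_card_eq P 2 48 (by rw [hcard]; norm_num) (by norm_num)
    simpa using this
  have hP1 : (P₀ : Subgroup G) ≠ ⊥ := sylow_ne_bot P₀ (by rw [hcard]; norm_num)
  obtain ⟨hmod, hdvd, hnN⟩ := sylow_count_facts P₀
  rw [(hcardS P₀).2] at hdvd
  have hP2 : (P₀ : Subgroup G) ≠ ⊤ := by
    intro h
    have : Nat.card P₀ = Nat.card G := by rw [h, Subgroup.card_top]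
    have := (hcardS P₀).1
    omega
  have hn1 := sylow_count_ne_one P₀ hP1 hP2
  set n := Nat.card (Sylow 5 G) with hn
  have hnle : n ≤ 48 := Nat.le_of_dvd (by norm_num) hdvd
  have hn' : n = 6 ∨ n = 16 := by
    interval_cases n <;> omega
  rcases hn' with h6 | h16
  · -- index 6
    set H := Subgroup.normalizer ((P₀ : Subgroup G) : Set G) with hH
    have hHcard : Nat.card H = 200 := by
      rw [h6, hcard] at hnN
      omega
    have hHidx : H.index = 6 := by
      have := Subgroup.card_mul_index H
      rw [hHcard, hcard] at this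
      omega
    have hHtop : H ≠ ⊤ := by
      intro h
      have : Nat.card H = Nat.card G := by rw [h, Subgroup.card_top]
      omega
    exact no_small_index hcard hG H hHtop (by omega)
  · -- n = 16 is not 1 mod 25
    have hnot : ¬ Nat.card (Sylow 5 G) ≡ 1 [MOD 5 ^ 2] := by
      rw [← hn, h16]
      decide
    obtain ⟨P, R, hPR, hidx⟩ := Cfsg.Agent.S0985.result 5 2 hnot
    set D : Subgroup G := (P : Subgroup G) ⊓ (R : Subgroup G) with hD
    set L := Subgroup.normalizer (D : Set G) with hL
    have hcommP : ∀ a b : (P : Subgroup G), a * b = b * a :=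
      IsPGroup.commutative_of_card_eq_prime_sq (p := 5) (by rw [(hcardS P).1]; norm_num)
    have hcommR : ∀ a b : (R : Subgroup G), a * b = b * a :=
      IsPGroup.commutative_of_card_eq_prime_sq (p := 5) (by rw [(hcardS R).1]; norm_num)
    have hPL : (P : Subgroup G) ≤ L := by
      intro a ha
      apply Subgroup.mem_normalizer_fintype
      intro d hd
      have hdP : d ∈ (P : Subgroup G) := hd.1
      have : a * d = d * a := congrArg Subtype.val (hcommP ⟨a, ha⟩ ⟨d, hdP⟩)
      rw [this, mul_assoc, mul_inv_cancel, mul_one]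
      exact hd
    have hRL : (R : Subgroup G) ≤ L := by
      intro a ha
      apply Subgroup.mem_normalizer_fintype
      intro d hd
      have hdR : d ∈ (R : Subgroup G) := hd.2
      have : a * d = d * a := congrArg Subtype.val (hcommR ⟨a, ha⟩ ⟨d, hdR⟩)
      rw [this, mul_assoc, mul_inv_cancel, mul_one]
      exact hd
    have hLcard := two_sylow_card_bound P R hPR L hPL hRL
    rw [(hcardS P).1] at hLcard
    have hLtop : L ≠ ⊤ := by
      intro h
      have hDn : D.Normal := Subgroup.normalizer_eq_top_iff.mp h
      rcases hDn.eq_bot_or_eq_top with h' | h'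
      · -- D = ⊥: the index is 25
        have h1 : ((R : Subgroup G).subgroupOf (P : Subgroup G)).index = 25 := by
          have h2 := Subgroup.card_mul_index ((R : Subgroup G).subgroupOf (P : Subgroup G))
          have h3 : Nat.card ((R : Subgroup G).subgroupOf (P : Subgroup G)) = 1 := by
            rw [card_subgroupOf_eq_card_inf, inf_comm, ← hD, h']
            simp
          rw [h3, (hcardS P).1] at h2
          omega
        rw [h1] at hidx
        norm_num at hidx
      · have : (P : Subgroup G) = ⊤ := by
          rw [eq_top_iff, ← h']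
          exact inf_le_left
        have h1 : Nat.card P = Nat.card G := by
          change Nat.card (P : Subgroup G) = _
          rw [this, Subgroup.card_top]
        have := (hcardS P).1
        omega
    have hLidx : L.index ≤ 8 := by
      have := Subgroup.card_mul_index L
      rw [hcard] at this
      by_contra hgt
      push Not at hgt
      have : Nat.card L * 9 ≤ Nat.card L * L.index := Nat.mul_le_mul_left _ hgt
      omega
    exact no_small_index hcard hG L hLtop hLidx

end Cfsg.Agent.S1015
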