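import Mathlib
import Cfsg.Statements.S1026
import Cfsg.Agent.Lib_helper5_ChevColl
import Cfsg.Agent.Lib_helper5_ChevCerts

set_option autoImplicit false
open Cfsg

namespace Cfsg.Agent.S1026

open Cfsg.Lie Cfsg.Agent.helper5.Chev

/-- Every element of `U` has a unique expression `∏_{r ∈ Φ⁺} x_r(t_r)`, the product over the positive roots in increasing index order (the coefficient family `t`, supported on the positive roots, exists and is unique); and conversely every such ordered product is the matrix of an element of `U`. -/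
theorem result {F : Type*} [Field F] (D : Cfsg.Lie.ChevalleyDatum) (hD : D ∈ [Cfsg.Lie.chevG2, Cfsg.Lie.chevB2, Cfsg.Lie.chevD4, Cfsg.Lie.chevF4, Cfsg.Lie.chevE6, Cfsg.Lie.chevE7, Cfsg.Lie.chevE8]) :
    (∀ g : GL D.Idx F, g ∈ D.posUnipotent F →
      ∃! t : ℕ → F, (∀ r, ¬ D.IsPosRoot r → t r = 0) ∧
        (g : Matrix D.Idx D.Idx F) = D.wordMat F (D.posRoots.map fun r => (r, t r))) ∧
    (∀ t : ℕ → F, ∃ g : GL D.Idx F, g ∈ D.posUnipotent F ∧
      (g : Matrix D.Idx D.Idx F) = D.wordMat F (D.posRoots.map fun r => (r, t r))) := by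
  have hC := commOK_of_mem D hD
  constructor
  · intro g hg
    obtain ⟨t, ht0, rfl⟩ := exists_prodL_U D hD hC g hg
    refine ⟨t, ⟨ht0, prodL_val D hD t _⟩, ?_⟩
    rintro t' ⟨ht0', he⟩
    have h1 : prodL D hD t D.posRoots = prodL D hD t' D.posRoots := by
      apply Units.ext
      rw [he, prodL_val]
    have h2 := prodL_inj D hD t t' D.posRoots (posRoots_pairwise D)
      (fun r hr => (mem_posRoots D r).mp hr) h1
    funext r
    by_cases hr : D.IsPosRoot r
    · exact (h2 r ((mem_posRoots D r).mpr hr)).symm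
    · rw [ht0 r hr, ht0' r hr]
  · intro t
    exact ⟨prodL D hD t D.posRoots,
      prodL_mem_U D hD t _ (fun r hr => (mem_posRoots D r).mp hr), prodL_val D hD t _⟩

end Cfsg.Agent.S1026
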