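import Mathlib
import Cfsg.Statements.S1039
import Cfsg.Agent.Lib_helper5_CoxN
import Cfsg.Agent.Lib_helper5_CoxDG2
import Cfsg.Agent.Lib_helper5_CoxDB2
import Cfsg.Agent.Lib_helper5_CoxDD4
import Cfsg.Agent.Lib_helper5_CoxDF4
import Cfsg.Agent.Lib_helper5_CoxDE6
import Cfsg.Agent.Lib_helper5_CoxDE7
import Cfsg.Agent.Lib_helper5_CoxDE8

set_option autoImplicit false
open Cfsg

namespace Cfsg.Agent.S1039

open Cfsg.Lie Cfsg.Agent.helper5.Chev Cfsg.Agent.helper5.TC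

theorem coxN_G2 {F : Type*} [Field F] :
    ∃ φ : ↥(chevG2.monomialSubgroup F) →* (CoxeterMatrix.G₂).Group, Function.Surjective φ ∧
      φ.ker = (chevG2.diagonalSubgroup F).subgroupOf (chevG2.monomialSubgroup F) ∧
      ∀ (i : Fin 2) (g : ↥(chevG2.monomialSubgroup F)),
        ((g : GL chevG2.Idx F) : Matrix chevG2.Idx chevG2.Idx F) = chevG2.nMat F (chevG2.simple i) 1 →
          φ g = (CoxeterMatrix.G₂).simple i := by
  haveI := coxFinite_G2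
  obtain ⟨π, hπ, hπw⟩ := cox_rep chevG2 pcMem_G2 CoxeterMatrix.G₂ tcM_G2 coxMt_G2 (by decide) pcRTOK_G2
    coxRel_G2 pcJ_G2_2 pcV_G2_2 pcFam_G2_2 (by simp only [coxCard_G2, pcCard_G2_2])
  exact N_mod_H_cox chevG2 pcMem_G2 CoxeterMatrix.G₂ (by decide) π hπ hπw

theorem coxN_B2 {F : Type*} [Field F] :
    ∃ φ : ↥(chevB2.monomialSubgroup F) →* ((CoxeterMatrix.B 2)).Group, Function.Surjective φ ∧
      φ.ker = (chevB2.diagonalSubgroup F).subgroupOf (chevB2.monomialSubgroup F) ∧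
      ∀ (i : Fin 2) (g : ↥(chevB2.monomialSubgroup F)),
        ((g : GL chevB2.Idx F) : Matrix chevB2.Idx chevB2.Idx F) = chevB2.nMat F (chevB2.simple i) 1 →
          φ g = ((CoxeterMatrix.B 2)).simple i := by
  haveI := coxFinite_B2
  obtain ⟨π, hπ, hπw⟩ := cox_rep chevB2 pcMem_B2 (CoxeterMatrix.B 2) tcM_B2 coxMt_B2 (by decide) pcRTOK_B2
    coxRel_B2 pcJ_B2_2 pcV_B2_2 pcFam_B2_2 (by simp only [coxCard_B2, pcCard_B2_2])
  exact N_mod_H_cox chevB2 pcMem_B2 (CoxeterMatrix.B 2) (by decide) π hπ hπw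

theorem coxN_D4 {F : Type*} [Field F] :
    ∃ φ : ↥(chevD4.monomialSubgroup F) →* (Cfsg.Lie.coxeterD4).Group, Function.Surjective φ ∧
      φ.ker = (chevD4.diagonalSubgroup F).subgroupOf (chevD4.monomialSubgroup F) ∧
      ∀ (i : Fin 4) (g : ↥(chevD4.monomialSubgroup F)),
        ((g : GL chevD4.Idx F) : Matrix chevD4.Idx chevD4.Idx F) = chevD4.nMat F (chevD4.simple i) 1 →
          φ g = (Cfsg.Lie.coxeterD4).simple i := by
  haveI := coxFinite_D4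
  obtain ⟨π, hπ, hπw⟩ := cox_rep chevD4 pcMem_D4 Cfsg.Lie.coxeterD4 tcM_D4 coxMt_D4 (by decide) pcRTOK_D4
    coxRel_D4 pcJ_D4_4 pcV_D4_4 pcFam_D4_4 (by simp only [coxCard_D4, pcCard_D4_4])
  exact N_mod_H_cox chevD4 pcMem_D4 Cfsg.Lie.coxeterD4 (by decide) π hπ hπw

theorem coxN_F4 {F : Type*} [Field F] :
    ∃ φ : ↥(chevF4.monomialSubgroup F) →* (CoxeterMatrix.F₄).Group, Function.Surjective φ ∧
      φ.ker = (chevF4.diagonalSubgroup F).subgroupOf (chevF4.monomialSubgroup F) ∧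
      ∀ (i : Fin 4) (g : ↥(chevF4.monomialSubgroup F)),
        ((g : GL chevF4.Idx F) : Matrix chevF4.Idx chevF4.Idx F) = chevF4.nMat F (chevF4.simple i) 1 →
          φ g = (CoxeterMatrix.F₄).simple i := by
  haveI := coxFinite_F4
  obtain ⟨π, hπ, hπw⟩ := cox_rep chevF4 pcMem_F4 CoxeterMatrix.F₄ tcM_F4 coxMt_F4 (by decide) pcRTOK_F4
    coxRel_F4 pcJ_F4_4 pcV_F4_4 pcFam_F4_4 (by simp only [coxCard_F4, pcCard_F4_4])
  exact N_mod_H_cox chevF4 pcMem_F4 CoxeterMatrix.F₄ (by decide) π hπ hπw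

theorem coxN_E6 {F : Type*} [Field F] :
    ∃ φ : ↥(chevE6.monomialSubgroup F) →* (CoxeterMatrix.E₆).Group, Function.Surjective φ ∧
      φ.ker = (chevE6.diagonalSubgroup F).subgroupOf (chevE6.monomialSubgroup F) ∧
      ∀ (i : Fin 6) (g : ↥(chevE6.monomialSubgroup F)),
        ((g : GL chevE6.Idx F) : Matrix chevE6.Idx chevE6.Idx F) = chevE6.nMat F (chevE6.simple i) 1 →
          φ g = (CoxeterMatrix.E₆).simple i := by
  haveI := coxFinite_E6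
  obtain ⟨π, hπ, hπw⟩ := cox_rep chevE6 pcMem_E6 CoxeterMatrix.E₆ tcM_E6 coxMt_E6 (by decide) pcRTOK_E6
    coxRel_E6 pcJ_E6_6 pcV_E6_6 pcFam_E6_6 (by simp only [coxCard_E6, pcCard_E6_6])
  exact N_mod_H_cox chevE6 pcMem_E6 CoxeterMatrix.E₆ (by decide) π hπ hπw

theorem coxN_E7 {F : Type*} [Field F] :
    ∃ φ : ↥(chevE7.monomialSubgroup F) →* (CoxeterMatrix.E₇).Group, Function.Surjective φ ∧
      φ.ker = (chevE7.diagonalSubgroup F).subgroupOf (chevE7.monomialSubgroup F) ∧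
      ∀ (i : Fin 7) (g : ↥(chevE7.monomialSubgroup F)),
        ((g : GL chevE7.Idx F) : Matrix chevE7.Idx chevE7.Idx F) = chevE7.nMat F (chevE7.simple i) 1 →
          φ g = (CoxeterMatrix.E₇).simple i := by
  haveI := coxFinite_E7
  obtain ⟨π, hπ, hπw⟩ := cox_rep chevE7 pcMem_E7 CoxeterMatrix.E₇ tcM_E7 coxMt_E7 (by decide) pcRTOK_E7
    coxRel_E7 pcJ_E7_7 pcV_E7_7 pcFam_E7_7 (by simp only [coxCard_E7, pcCard_E7_7])
  exact N_mod_H_cox chevE7 pcMem_E7 CoxeterMatrix.E₇ (by decide) π hπ hπw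

theorem coxN_E8 {F : Type*} [Field F] :
    ∃ φ : ↥(chevE8.monomialSubgroup F) →* (CoxeterMatrix.E₈).Group, Function.Surjective φ ∧
      φ.ker = (chevE8.diagonalSubgroup F).subgroupOf (chevE8.monomialSubgroup F) ∧
      ∀ (i : Fin 8) (g : ↥(chevE8.monomialSubgroup F)),
        ((g : GL chevE8.Idx F) : Matrix chevE8.Idx chevE8.Idx F) = chevE8.nMat F (chevE8.simple i) 1 →
          φ g = (CoxeterMatrix.E₈).simple i := by
  haveI := coxFinite_E8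
  obtain ⟨π, hπ, hπw⟩ := cox_rep chevE8 pcMem_E8 CoxeterMatrix.E₈ tcM_E8 coxMt_E8 (by decide) pcRTOK_E8
    coxRel_E8 pcJ_E8_8 pcV_E8_8 pcFam_E8_8 (by simp only [coxCard_E8, pcCard_E8_8])
  exact N_mod_H_cox chevE8 pcMem_E8 CoxeterMatrix.E₈ (by decide) π hπ hπw

/-- `N/H ≅ W`: there is a surjective homomorphism from `N` onto the Coxeter group of the type (Mathlib's Coxeter matrix G₂, B₂, F₄, E₆, E₇, E₈, nodes numbered as the fundamental roots) with kernel `H`, mapping each `n_{p_i}` to the `i`-th simple reflection. -/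
theorem result {F : Type*} [Field F]
    (p : Cfsg.Lie.ChevalleyDatum × (Σ n : ℕ, CoxeterMatrix (Fin n)))
    (hp : p ∈ [(Cfsg.Lie.chevG2, ⟨2, CoxeterMatrix.G₂⟩), (Cfsg.Lie.chevB2, ⟨2, CoxeterMatrix.B 2⟩), (Cfsg.Lie.chevD4, ⟨4, Cfsg.Lie.coxeterD4⟩), (Cfsg.Lie.chevF4, ⟨4, CoxeterMatrix.F₄⟩),
      (Cfsg.Lie.chevE6, ⟨6, CoxeterMatrix.E₆⟩), (Cfsg.Lie.chevE7, ⟨7, CoxeterMatrix.E₇⟩), (Cfsg.Lie.chevE8, ⟨8, CoxeterMatrix.E₈⟩)]) :
    ∃ φ : ↥(p.1.monomialSubgroup F) →* p.2.2.Group, Function.Surjective φ ∧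
      φ.ker = (p.1.diagonalSubgroup F).subgroupOf (p.1.monomialSubgroup F) ∧
      ∀ (i : Fin p.2.1) (g : ↥(p.1.monomialSubgroup F)),
        ((g : GL p.1.Idx F) : Matrix p.1.Idx p.1.Idx F) = p.1.nMat F (p.1.simple i) 1 → φ g = p.2.2.simple i := by
  simp only [List.mem_cons, List.not_mem_nil, or_false] at hp
  rcases hp with rfl | rfl | rfl | rfl | rfl | rfl | rfl
  · exact coxN_G2
  · exact coxN_B2
  · exact coxN_D4
  · exact coxN_F4
  · exact coxN_E6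
  · exact coxN_E7
  · exact coxN_E8

end Cfsg.Agent.S1039
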