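import Mathlib
import Cfsg.Statements.S1040
import Cfsg.Agent.Lib_helper5_ChevBN4

set_option autoImplicit false
open Cfsg

namespace Cfsg.Agent.S1040

open Cfsg.Lie Cfsg.Agent.helper5.Chev

/-- `U ∩ N = 1` and `B ∩ N = UH ∩ N = H`. -/
theorem result {F : Type*} [Field F] (D : Cfsg.Lie.ChevalleyDatum) (hD : D ∈ [Cfsg.Lie.chevG2, Cfsg.Lie.chevB2, Cfsg.Lie.chevD4, Cfsg.Lie.chevF4, Cfsg.Lie.chevE6, Cfsg.Lie.chevE7, Cfsg.Lie.chevE8]) :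
    D.posUnipotent F ⊓ D.monomialSubgroup F = ⊥ ∧ D.borelSubgroup F ⊓ D.monomialSubgroup F = D.diagonalSubgroup F := by
  have hBN := B_inf_N (F := F) D hD
  refine ⟨?_, hBN⟩
  rw [eq_bot_iff]
  intro g hg
  rw [Subgroup.mem_inf] at hg
  have h1 : g ∈ D.borelSubgroup F ⊓ D.monomialSubgroup F :=
    Subgroup.mem_inf.mpr ⟨U_le_B D hD hg.1, hg.2⟩
  rw [hBN] at h1
  have h2 : g ∈ D.posUnipotent F ⊓ D.diagonalSubgroup F := Subgroup.mem_inf.mpr ⟨hg.1, h1⟩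
  rwa [(Cfsg.Agent.S1036.result (F := F) D hD).2] at h2

end Cfsg.Agent.S1040
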