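import Mathlib
import Cfsg.Statements.S1044
import Cfsg.Agent.Lib_helper5_ChevBN5
import Cfsg.Agent.Lib_helper5_ChevCerts

set_option autoImplicit false
open Cfsg

namespace Cfsg.Agent.S1044

open Cfsg.Lie Cfsg.Agent.helper5.Chev

/-- For a fundamental root `p` the set `B ∪ B n_p B` is (the carrier of) a subgroup of the general linear group. -/
theorem result {F : Type*} [Field F] (D : Cfsg.Lie.ChevalleyDatum) (hD : D ∈ [Cfsg.Lie.chevG2, Cfsg.Lie.chevB2, Cfsg.Lie.chevD4, Cfsg.Lie.chevF4, Cfsg.Lie.chevE6, Cfsg.Lie.chevE7, Cfsg.Lie.chevE8]) (i : ℕ) (hi : i < D.rank) (n : GL D.Idx F)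
    (hn : (n : Matrix D.Idx D.Idx F) = D.nMat F (D.simple i) 1) :
    ∃ P : Subgroup (GL D.Idx F), (P : Set (GL D.Idx F)) =
      (D.borelSubgroup F : Set (GL D.Idx F)) ∪ DoubleCoset.doubleCoset n (D.borelSubgroup F : Set (GL D.Idx F)) (D.borelSubgroup F) := by
  have hR := rootsOK_of_mem D hD
  have hC := commOK_of_mem D hD
  have hP := posCommOK_of_mem D hD
  have hsl := hR.simple_lt i hi
  have hn' : n = nGt D hD (D.simple i) 1 := Units.ext (by rw [hn, nGt_val])
  have hnn : n * n ∈ D.borelSubgroup F := by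
    rw [hn']; exact H_le_B D hD (nGt_sq_mem D hD _ hsl)
  have hnN : n ∈ D.monomialSubgroup F := by
    rw [hn']; exact nGt_one_mem D hD _ hsl
  -- the key closure property
  have key : ∀ b ∈ D.borelSubgroup F, n * b * n ∈ (D.borelSubgroup F : Set (GL D.Idx F)) ∪
      DoubleCoset.doubleCoset n (D.borelSubgroup F : Set (GL D.Idx F)) (D.borelSubgroup F) := by
    intro b hb
    have h1 := bn_axiom D hD hC hP i hi n hnN b hb
    rw [← hn'] at h1
    rcases h1 with h1 | h1
    · left
      obtain ⟨x, hx, y, hy, e⟩ := DoubleCoset.mem_doubleCoset.mp h1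
      rw [e]
      exact Subgroup.mul_mem _ (Subgroup.mul_mem _ hx hnn) hy
    · right
      exact h1
  refine ⟨{ carrier := (D.borelSubgroup F : Set (GL D.Idx F)) ∪
              DoubleCoset.doubleCoset n (D.borelSubgroup F : Set (GL D.Idx F)) (D.borelSubgroup F)
            mul_mem' := ?_
            one_mem' := Or.inl (Subgroup.one_mem _)
            inv_mem' := ?_ }, rfl⟩
  · rintro a b (ha | ha) (hb | hb)
    · exact Or.inl (Subgroup.mul_mem _ ha hb)
    · right
      obtain ⟨x, hx, y, hy, rfl⟩ := DoubleCoset.mem_doubleCoset.mp hb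
      exact DoubleCoset.mem_doubleCoset.mpr ⟨a * x, Subgroup.mul_mem _ ha hx, y, hy, by group⟩
    · right
      obtain ⟨x, hx, y, hy, rfl⟩ := DoubleCoset.mem_doubleCoset.mp ha
      exact DoubleCoset.mem_doubleCoset.mpr ⟨x, hx, y * b, Subgroup.mul_mem _ hy hb, by group⟩
    · obtain ⟨x, hx, y, hy, rfl⟩ := DoubleCoset.mem_doubleCoset.mp ha
      obtain ⟨x', hx', y', hy', rfl⟩ := DoubleCoset.mem_doubleCoset.mp hb
      have e : x * n * y * (x' * n * y') = x * (n * (y * x') * n) * y' := by group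
      rw [e]
      rcases key (y * x') (Subgroup.mul_mem _ hy hx') with h1 | h1
      · left
        exact Subgroup.mul_mem _ (Subgroup.mul_mem _ hx h1) hy'
      · right
        obtain ⟨x'', hx'', y'', hy'', e2⟩ := DoubleCoset.mem_doubleCoset.mp h1
        rw [e2]
        exact DoubleCoset.mem_doubleCoset.mpr ⟨x * x'', Subgroup.mul_mem _ hx hx'', y'' * y',
          Subgroup.mul_mem _ hy'' hy', by group⟩
  · rintro a (ha | ha)
    · exact Or.inl (Subgroup.inv_mem _ ha)
    · right
      obtain ⟨x, hx, y, hy, rfl⟩ := DoubleCoset.mem_doubleCoset.mp ha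
      refine DoubleCoset.mem_doubleCoset.mpr ⟨y⁻¹, Subgroup.inv_mem _ hy, (n * n)⁻¹ * x⁻¹,
        Subgroup.mul_mem _ (Subgroup.inv_mem _ hnn) (Subgroup.inv_mem _ hx), by group⟩

end Cfsg.Agent.S1044
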