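import Mathlib
import Cfsg.Statements.S1045
import Cfsg.Agent.Lib_helper5_ChevBN5
import Cfsg.Agent.Lib_helper5_ChevCerts

set_option autoImplicit false
open Cfsg

namespace Cfsg.Agent.S1045

open Cfsg.Lie Cfsg.Agent.helper5.Chev

/-- For a fundamental root `p`, the subgroup `U_p` generated by the `X_s`, `s` positive and `s ≠ p`, is normalised by `X_p` and `X_{-p}`, and `U = U_p ⊔ X_p`. -/
theorem result {F : Type*} [Field F] (D : Cfsg.Lie.ChevalleyDatum) (hD : D ∈ [Cfsg.Lie.chevG2, Cfsg.Lie.chevB2, Cfsg.Lie.chevD4, Cfsg.Lie.chevF4, Cfsg.Lie.chevE6, Cfsg.Lie.chevE7, Cfsg.Lie.chevE8]) (i : ℕ) (hi : i < D.rank) :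
    D.rootSubgroup F (D.simple i) ⊔ D.rootSubgroup F (D.neg (D.simple i)) ≤
        Subgroup.normalizer (Subgroup.closure {g : GL D.Idx F | ∃ (s : ℕ) (t : F), D.IsPosRoot s ∧ s ≠ D.simple i ∧
          (g : Matrix D.Idx D.Idx F) = D.x F s t} : Set (GL D.Idx F)) ∧
      Subgroup.closure {g : GL D.Idx F | ∃ (s : ℕ) (t : F), D.IsPosRoot s ∧ s ≠ D.simple i ∧
          (g : Matrix D.Idx D.Idx F) = D.x F s t} ⊔ D.rootSubgroup F (D.simple i) = D.posUnipotent F := by
  have hR := rootsOK_of_mem D hD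
  have hC := commOK_of_mem D hD
  have hP := posCommOK_of_mem D hD
  constructor
  · apply sup_le
    · unfold Cfsg.Lie.ChevalleyDatum.rootSubgroup
      rw [Subgroup.closure_le]
      rintro g ⟨t, hg⟩
      rw [eq_xG D hD g _ t hg]
      exact xG_simple_mem_normalizer D hD hC hP i hi t
    · unfold Cfsg.Lie.ChevalleyDatum.rootSubgroup
      rw [Subgroup.closure_le]
      rintro g ⟨t, hg⟩
      rw [eq_xG D hD g _ t hg]
      exact xG_negsimple_mem_normalizer D hD hC hP i hi t
  · apply le_antisymm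
    · apply sup_le
      · exact Ui_le_U D i
      · unfold Cfsg.Lie.ChevalleyDatum.rootSubgroup Cfsg.Lie.ChevalleyDatum.posUnipotent
        apply Subgroup.closure_mono
        rintro g ⟨t, hg⟩
        exact ⟨D.simple i, t, hR.simple_pos i hi, hg⟩
    · unfold Cfsg.Lie.ChevalleyDatum.posUnipotent
      rw [Subgroup.closure_le]
      rintro g ⟨s, t, hs, hg⟩
      by_cases hne : s = D.simple i
      · apply Subgroup.mem_sup_right
        unfold Cfsg.Lie.ChevalleyDatum.rootSubgroup
        apply Subgroup.subset_closure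
        exact ⟨t, by rw [hg, hne]⟩
      · apply Subgroup.mem_sup_left
        apply Subgroup.subset_closure
        exact ⟨s, t, hs, hne, hg⟩

end Cfsg.Agent.S1045
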