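import Mathlib
import Cfsg.Statements.S1046
import Cfsg.Agent.Lib_helper5_ChevBruhat2
import Cfsg.Agent.Lib_helper5_ChevCerts

set_option autoImplicit false
open Cfsg

namespace Cfsg.Agent.S1046

open Cfsg.Lie Cfsg.Agent.helper5.Chev

/-- Two elements of `H` conjugate in the Chevalley group are conjugate by an element of `N`. -/
theorem result {F : Type*} [Field F] (D : Cfsg.Lie.ChevalleyDatum) (hD : D ∈ [Cfsg.Lie.chevG2, Cfsg.Lie.chevB2, Cfsg.Lie.chevD4, Cfsg.Lie.chevF4, Cfsg.Lie.chevE6, Cfsg.Lie.chevE7, Cfsg.Lie.chevE8]) (h₁ h₂ g : GL D.Idx F) (h1 : h₁ ∈ D.diagonalSubgroup F) (h2 : h₂ ∈ D.diagonalSubgroup F)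
    (hg : g ∈ D.group F) (hc : g * h₁ * g⁻¹ = h₂) :
    ∃ n ∈ D.monomialSubgroup F, n * h₁ * n⁻¹ = h₂ := by
  have hC := commOK_of_mem D hD
  have hP := posCommOK_of_mem D hD
  have hNH := N_le_normalizer_H (F := F) D hD
  obtain ⟨hnormU, hUH⟩ := Cfsg.Agent.S1036.result (F := F) D hD
  obtain ⟨b, hb, n, hn, u, hu, rfl⟩ := exists_form D hD hC hP g hg
  obtain ⟨u₀, hu₀, h₀, hh₀, rfl⟩ := mem_borel D hD b hb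
  have e1 : u₀ * h₀ * n * u * h₁ = h₂ * (u₀ * h₀ * n * u) := by
    rw [← hc]; group
  have hnh : n * h₁ * n⁻¹ ∈ D.diagonalSubgroup F :=
    (Subgroup.mem_normalizer_iff.mp (hNH hn) _).mp h1
  have hu₁ : h₁⁻¹ * u * h₁⁻¹⁻¹ ∈ UnegOf D n :=
    H_conj_UnegOf D hD n h₁⁻¹ (Subgroup.inv_mem _ h1) u hu
  have hu₂ : h₂ * u₀ * h₂⁻¹ ∈ D.posUnipotent F :=
    (Subgroup.mem_normalizer_iff.mp (hnormU h2) _).mp hu₀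
  have hb₁ : u₀ * h₀ * (n * h₁ * n⁻¹) ∈ D.borelSubgroup F :=
    Subgroup.mul_mem _ (Subgroup.mul_mem _ (U_le_B D hD hu₀) (H_le_B D hD hh₀)) (H_le_B D hD hnh)
  have hb₂ : (h₂ * u₀ * h₂⁻¹) * (h₂ * h₀) ∈ D.borelSubgroup F :=
    Subgroup.mul_mem _ (U_le_B D hD hu₂) (H_le_B D hD (Subgroup.mul_mem _ h2 hh₀))
  have e2 : u₀ * h₀ * (n * h₁ * n⁻¹) * n * (h₁⁻¹ * u * h₁⁻¹⁻¹) =
      (h₂ * u₀ * h₂⁻¹) * (h₂ * h₀) * n * u := by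
    calc u₀ * h₀ * (n * h₁ * n⁻¹) * n * (h₁⁻¹ * u * h₁⁻¹⁻¹)
        = u₀ * h₀ * n * u * h₁ := by group
      _ = h₂ * (u₀ * h₀ * n * u) := e1
      _ = (h₂ * u₀ * h₂⁻¹) * (h₂ * h₀) * n * u := by group
  have h3 := ((unique_form D hD hC hP _ _ n n _ u hb₁ hb₂ hn hn hu₁ hu e2).2 rfl).1
  -- compare the `U`- and `H`-parts
  have hz : (h₂ * u₀ * h₂⁻¹)⁻¹ * u₀ = (h₂ * h₀) * (h₀ * (n * h₁ * n⁻¹))⁻¹ := by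
    have : u₀ * (h₀ * (n * h₁ * n⁻¹)) = (h₂ * u₀ * h₂⁻¹) * (h₂ * h₀) := by
      rw [← h3]; group
    calc (h₂ * u₀ * h₂⁻¹)⁻¹ * u₀
        = (h₂ * u₀ * h₂⁻¹)⁻¹ * (u₀ * (h₀ * (n * h₁ * n⁻¹))) * (h₀ * (n * h₁ * n⁻¹))⁻¹ := by group
      _ = (h₂ * h₀) * (h₀ * (n * h₁ * n⁻¹))⁻¹ := by rw [this]; group
  have hzU : (h₂ * u₀ * h₂⁻¹)⁻¹ * u₀ ∈ D.posUnipotent F :=
    Subgroup.mul_mem _ (Subgroup.inv_mem _ hu₂) hu₀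
  have hzH : (h₂ * u₀ * h₂⁻¹)⁻¹ * u₀ ∈ D.diagonalSubgroup F := by
    rw [hz]
    exact Subgroup.mul_mem _ (Subgroup.mul_mem _ h2 hh₀)
      (Subgroup.inv_mem _ (Subgroup.mul_mem _ hh₀ hnh))
  have hz1 : (h₂ * u₀ * h₂⁻¹)⁻¹ * u₀ ∈ D.posUnipotent F ⊓ D.diagonalSubgroup F := ⟨hzU, hzH⟩
  rw [hUH, Subgroup.mem_bot, hz] at hz1
  refine ⟨h₀ * n, Subgroup.mul_mem _ (H_le_N D hh₀) hn, ?_⟩
  have h4 : h₂ * h₀ = h₀ * (n * h₁ * n⁻¹) := mul_inv_eq_one.mp hz1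
  calc h₀ * n * h₁ * (h₀ * n)⁻¹ = (h₀ * (n * h₁ * n⁻¹)) * h₀⁻¹ := by group
    _ = h₂ := by rw [← h4]; group

end Cfsg.Agent.S1046
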