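import Mathlib
import Cfsg.Statements.S1047
import Cfsg.Agent.Lib_helper5_ChevBN3

set_option autoImplicit false
open Cfsg

namespace Cfsg.Agent.S1047

open Cfsg.Lie Cfsg.Agent.helper5.Chev

/-- the coroot coefficient -/
def cor (D : ChevalleyDatum) (r i : ℕ) : ℤ := (D.coroot.getD r #[]).getD i 0

/-- table check on the coroot supports -/
def parCheck (D : ChevalleyDatum) : Bool :=
  ((List.range D.rank).all fun j =>
    decide (cor D (D.simple j) j ≠ 0) &&
    (List.range D.rank).all fun i => decide (i = j) ||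
      (decide (cor D (D.simple j) i = 0) && decide (cor D (D.neg (D.simple j)) i = 0))) &&
  ((List.range D.nroots).all fun s =>
    ((List.range D.rank).all fun i =>
      decide (cor D s i = 0) == decide (cor D (D.neg s) i = 0)) &&
    (!decide (D.IsPosRoot s) ||
      ((List.range D.rank).any fun j => decide (s = D.simple j)) ||
      ((List.range D.rank).any fun j =>
        decide (cor D s j ≠ 0) && decide (D.IsPosRoot (D.reflectRoot j s)) &&
        decide (D.reflectRoot j s < s) &&
        (List.range D.rank).all fun i =>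
          decide (cor D (D.reflectRoot j s) i = 0) || decide (cor D s i ≠ 0))))

set_option maxRecDepth 1000000 in
set_option maxHeartbeats 0 in
theorem parCheck_all (D : ChevalleyDatum)
    (hD : D ∈ [chevG2, chevB2, chevD4, chevF4, chevE6, chevE7, chevE8]) : parCheck D = true := by
  simp only [List.mem_cons, List.not_mem_nil, or_false] at hD
  rcases hD with rfl | rfl | rfl | rfl | rfl | rfl | rfl <;> decide +kernel

structure ParOK (D : ChevalleyDatum) : Prop where
  simple_ne : ∀ j < D.rank, cor D (D.simple j) j ≠ 0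
  simple_supp : ∀ j < D.rank, ∀ i < D.rank, i ≠ j →
    cor D (D.simple j) i = 0 ∧ cor D (D.neg (D.simple j)) i = 0
  neg_supp : ∀ s < D.nroots, ∀ i < D.rank, (cor D s i = 0 ↔ cor D (D.neg s) i = 0)
  step : ∀ s, D.IsPosRoot s → (∃ j < D.rank, s = D.simple j) ∨
    ∃ j < D.rank, cor D s j ≠ 0 ∧ D.IsPosRoot (D.reflectRoot j s) ∧ D.reflectRoot j s < s ∧
      ∀ i < D.rank, cor D (D.reflectRoot j s) i = 0 ∨ cor D s i ≠ 0

theorem parOK_of_mem (D : ChevalleyDatum)
    (hD : D ∈ [chevG2, chevB2, chevD4, chevF4, chevE6, chevE7, chevE8]) : ParOK D := by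
  have h := parCheck_all D hD
  unfold parCheck at h
  simp only [Bool.and_eq_true, List.all_eq_true, List.mem_range, decide_eq_true_eq,
    Bool.or_eq_true, List.any_eq_true, beq_iff_eq, Bool.not_eq_true', decide_eq_false_iff_not,
    decide_eq_decide] at h
  obtain ⟨h1, h2⟩ := h
  refine ⟨fun j hj => (h1 j hj).1, ?_, fun s hs i hi => (h2 s hs).1 i hi, ?_⟩
  · intro j hj i hi hij
    rcases (h1 j hj).2 i hi with h3 | h3
    · exact absurd h3 hij
    · exact h3
  · intro s hs
    rcases (h2 s hs.1).2 with (h3 | ⟨j, hj, h3⟩) | ⟨j, hj, ⟨⟨h3, h4⟩, h5⟩, h6⟩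
    · exact absurd hs h3
    · exact Or.inl ⟨j, hj, h3⟩
    · exact Or.inr ⟨j, hj, h3, h4, h5, h6⟩

section
variable {F : Type*} [Field F] (D : ChevalleyDatum)
  (hD : D ∈ [chevG2, chevB2, chevD4, chevF4, chevE6, chevE7, chevE8])

include hD in
theorem nG_mem_par (J : Set ℕ) (j : ℕ) (hj : j < D.rank) (hjJ : j ∈ J) :
    nGt D hD (D.simple j) (1 : F) ∈ D.parabolicSubgroup F J := by
  unfold ChevalleyDatum.parabolicSubgroup
  apply Subgroup.mem_sup_right
  apply Subgroup.subset_closure
  exact ⟨j, hjJ, hj, nGt_val D hD _ _⟩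

include hD in
/-- negative root elements of `Φ_J` lie in `P_J` -/
theorem xG_neg_mem_par (J : Set ℕ) : ∀ n : ℕ, ∀ s, s = n → D.IsPosRoot s → D.InRootSub J s →
    ∀ t : F, xG D hD (D.neg s) t ∈ D.parabolicSubgroup F J := by
  have hR := rootsOK_of_mem D hD
  have hP := parOK_of_mem D hD
  have hBle : D.borelSubgroup F ≤ D.parabolicSubgroup F J := by
    unfold ChevalleyDatum.parabolicSubgroup
    exact le_sup_left
  intro n
  induction n using Nat.strong_induction_on with
  | _ n ih =>
    intro s hsn hs hJ t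
    have conj_step : ∀ j < D.rank, j ∈ J → ∀ s' < D.nroots,
        (∀ u : F, xG D hD s' u ∈ D.parabolicSubgroup F J) →
        xG D hD (D.reflectRoot j s') t ∈ D.parabolicSubgroup F J := by
      intro j hj hjJ s' hs' hmem
      have h1 := nG_conj (F := F) D hD j hj s' hs' (((etaOf D j s' : ℤ) : F) * t)
      rw [← mul_assoc, eta_cast_sq D hD j s' hj hs', one_mul] at h1
      rw [← h1]
      have hn := nG_mem_par (F := F) D hD J j hj hjJ
      exact Subgroup.mul_mem _ (Subgroup.mul_mem _ hn (hmem _)) (Subgroup.inv_mem _ hn)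
    rcases hP.step s hs with ⟨j, hj, rfl⟩ | ⟨j, hj, hne, hpos', hlt, hsupp⟩
    · have hjJ : j ∈ J := by
        by_contra hjJ
        exact hP.simple_ne j hj (hJ.2 j hj hjJ)
      have := conj_step j hj hjJ (D.simple j) (hR.simple_lt j hj) (fun u =>
        hBle (U_le_B D hD (Subgroup.subset_closure ⟨_, u, hR.simple_pos j hj, xG_val D hD _ _⟩)))
      rwa [hR.refl_simple j hj] at this
    · have hjJ : j ∈ J := by
        by_contra hjJ
        exact hne (hJ.2 j hj hjJ)
      have hJ' : D.InRootSub J (D.reflectRoot j s) := by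
        refine ⟨hpos'.1, fun i hi hiJ => ?_⟩
        rcases hsupp i hi with h | h
        · exact h
        · exact absurd (hJ.2 i hi hiJ) h
      have ih' := ih (D.reflectRoot j s) (by omega) _ rfl hpos' hJ'
      have := conj_step j hj hjJ (D.neg (D.reflectRoot j s)) (hR.neg_lt _ hpos'.1) ih'
      rwa [hR.refl_neg j hj _ hpos'.1, hR.refl_refl j hj s hs.1] at this

end

/-- `P_J = ⟨H, X_r : r ∈ Φ⁺ ∪ Φ_J⟩`. -/
theorem result {F : Type*} [Field F] (D : Cfsg.Lie.ChevalleyDatum) (hD : D ∈ [Cfsg.Lie.chevG2, Cfsg.Lie.chevB2, Cfsg.Lie.chevD4, Cfsg.Lie.chevF4, Cfsg.Lie.chevE6, Cfsg.Lie.chevE7, Cfsg.Lie.chevE8]) (J : Set ℕ) :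
    D.parabolicSubgroup F J = D.diagonalSubgroup F ⊔
      Subgroup.closure {g : GL D.Idx F | ∃ (r : ℕ) (t : F), (D.IsPosRoot r ∨ D.InRootSub J r) ∧ (g : Matrix D.Idx D.Idx F) = D.x F r t} := by
  have hR := rootsOK_of_mem D hD
  have hP := parOK_of_mem D hD
  apply le_antisymm
  · unfold ChevalleyDatum.parabolicSubgroup ChevalleyDatum.borelSubgroup
    apply sup_le
    · apply sup_le
      · apply le_sup_of_le_right
        unfold ChevalleyDatum.posUnipotent
        apply Subgroup.closure_mono
        rintro g ⟨r, t, hr, hg⟩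
        exact ⟨r, t, Or.inl hr, hg⟩
      · exact le_sup_left
    · apply le_sup_of_le_right
      rw [Subgroup.closure_le]
      rintro g ⟨j, hjJ, hj, hg⟩
      have e : g = nGt D hD (D.simple j) 1 := Units.ext (by rw [hg, nGt_val])
      rw [e]
      have hsub1 : D.InRootSub J (D.simple j) := by
        refine ⟨hR.simple_lt j hj, fun i hi hiJ => ?_⟩
        have hij : i ≠ j := fun h => hiJ (h ▸ hjJ)
        exact (hP.simple_supp j hj i hi hij).1
      have hsub2 : D.InRootSub J (D.neg (D.simple j)) := by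
        refine ⟨hR.neg_lt _ (hR.simple_lt j hj), fun i hi hiJ => ?_⟩
        have hij : i ≠ j := fun h => hiJ (h ▸ hjJ)
        exact (hP.simple_supp j hj i hi hij).2
      unfold nGt
      exact Subgroup.mul_mem _ (Subgroup.mul_mem _
        (Subgroup.subset_closure ⟨_, _, Or.inr hsub1, xG_val D hD _ _⟩)
        (Subgroup.subset_closure ⟨_, _, Or.inr hsub2, xG_val D hD _ _⟩))
        (Subgroup.subset_closure ⟨_, _, Or.inr hsub1, xG_val D hD _ _⟩)
  · have hBle : D.borelSubgroup F ≤ D.parabolicSubgroup F J := by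
      unfold ChevalleyDatum.parabolicSubgroup
      exact le_sup_left
    apply sup_le
    · exact le_trans (H_le_B D hD) hBle
    · rw [Subgroup.closure_le]
      rintro g ⟨r, t, hr, hg⟩
      rw [eq_xG D hD g r t hg]
      have hrlt : r < D.nroots := by
        rcases hr with hr | hr
        · exact hr.1
        · exact hr.1
      by_cases hpos : D.IsPosRoot r
      · exact hBle (U_le_B D hD (Subgroup.subset_closure ⟨r, t, hpos, xG_val D hD _ _⟩))
      · have hJr : D.InRootSub J r := by
          rcases hr with hr | hr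
          · exact absurd hr hpos
          · exact hr
        have hneg := hR.neg_of_not_pos r hrlt hpos
        have hpos' := hR.neg_neg' r hneg
        have hJ' : D.InRootSub J (D.neg r) := by
          refine ⟨hpos'.1, fun i hi hiJ => ?_⟩
          exact (hP.neg_supp r hrlt i hi).mp (hJr.2 i hi hiJ)
        have := xG_neg_mem_par (F := F) D hD J _ (D.neg r) rfl hpos' hJ' t
        rwa [hR.neg_neg r hrlt] at this

end Cfsg.Agent.S1047
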