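import Cfsg.Statements.S1049
import Mathlib
import Cfsg.Agent.Lib_helper6_Levi
import Cfsg.Agent.S1042
import Cfsg.Agent.S0311
import Cfsg.Agent.S1037
import Cfsg.Agent.S1024
-- import your own Cfsg.Agent.* helpers here

set_option autoImplicit false
open Cfsg

namespace Cfsg.Agent.S1049

open Cfsg.Lie Cfsg.Agent.helper5.Chev Cfsg.Agent.helper6.Para Cfsg.Agent.helper6.Levi

section
variable {F : Type*} [Field F] (D : ChevalleyDatum)
  (hD : D ∈ [chevG2, chevB2, chevD4, chevF4, chevE6, chevE7, chevE8])

theorem radical_le_pos (J : Set ℕ) : D.unipotentRadical F J ≤ D.posUnipotent F := by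
  unfold ChevalleyDatum.unipotentRadical ChevalleyDatum.posUnipotent
  apply Subgroup.closure_mono
  rintro g ⟨r, t, hr, _, hg⟩
  exact ⟨r, t, hr, hg⟩

/-- if `n_{p_i}` normalises `U_J` then `i ∈ J` -/
theorem mem_of_nG_mem_normalizer (J : Set ℕ) (i : ℕ) (hi : i < D.rank)
    (hn : nGt D hD (D.simple i) (1 : F) ∈
      Subgroup.normalizer (D.unipotentRadical F J : Set (GL D.Idx F))) : i ∈ J := by
  by_contra hiJ
  have hR := rootsOK_of_mem D hD
  have hS := supOK_of_mem D hD
  have hnsub : ¬ D.InRootSub J (D.simple i) := by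
    intro hsub
    exact hS.simple_cor i hi (hsub.2 i hi hiJ)
  have hx : xG D hD (D.simple i) (1 : F) ∈ D.unipotentRadical F J :=
    xG_mem_UJ D hD J _ (hR.simple_pos i hi) hnsub 1
  have h1 := (Subgroup.mem_normalizer_iff.mp hn _).mp hx
  rw [nG_conj D hD i hi _ (hR.simple_lt i hi), hR.refl_simple i hi] at h1
  have h2 : xG D hD (D.neg (D.simple i)) (((etaOf D i (D.simple i) : ℤ) : F) * 1) ∈
      D.borelSubgroup F := by
    unfold ChevalleyDatum.borelSubgroup
    exact Subgroup.mem_sup_left (radical_le_pos D J h1)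
  have h3 : xG D hD (D.neg (D.simple i)) (((etaOf D i (D.simple i) : ℤ) : F) * 1) ∈
      D.negUnipotent F := by
    unfold ChevalleyDatum.negUnipotent
    apply Subgroup.subset_closure
    exact ⟨_, _, hR.neg_pos _ (hR.simple_pos i hi), rfl⟩
  have h4 : xG D hD (D.neg (D.simple i)) (((etaOf D i (D.simple i) : ℤ) : F) * 1) ∈
      D.borelSubgroup F ⊓ D.negUnipotent F := Subgroup.mem_inf.mpr ⟨h2, h3⟩
  rw [(Cfsg.Agent.S1037.result (F := F) D hD).1, Subgroup.mem_bot] at h4
  have h5 : D.x F (D.neg (D.simple i)) (((etaOf D i (D.simple i) : ℤ) : F) * 1) = 1 := by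
    have := congrArg (fun g : GL D.Idx F => (g : Matrix D.Idx D.Idx F)) h4
    simpa using this
  have h6 := (Cfsg.Agent.S1024.result D hD _ (hR.neg_lt _ (hR.simple_lt i hi)) _).mp h5
  have h7 := eta_cast_sq (F := F) D hD i (D.simple i) hi (hR.simple_lt i hi)
  rw [mul_one] at h6
  rw [h6, mul_zero] at h7
  exact zero_ne_one h7

include hD in
theorem normalizer_inf_group_eq (J : Set ℕ) :
    Subgroup.normalizer (D.unipotentRadical F J : Set (GL D.Idx F)) ⊓ D.group F =
      D.parabolicSubgroup F J := by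
  obtain ⟨hBG, hNG, _⟩ := Cfsg.Agent.S1043.result (F := F) D hD
  have hPN := parabolic_le_normalizer (F := F) D hD J
  have hBP : D.borelSubgroup F ≤ D.parabolicSubgroup F J := by
    unfold ChevalleyDatum.parabolicSubgroup
    exact le_sup_left
  have hPG : D.parabolicSubgroup F J ≤ D.group F := by
    unfold ChevalleyDatum.parabolicSubgroup
    apply sup_le hBG
    rw [Subgroup.closure_le]
    rintro g ⟨j, _, hj, hg⟩
    have hR := rootsOK_of_mem D hD
    have hg' : g = nGt D hD (D.simple j) 1 := Units.ext (by rw [hg, nGt_val])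
    rw [hg']
    exact hNG (nGt_one_mem D hD _ (hR.simple_lt j hj))
  apply le_antisymm
  · obtain ⟨P, hPB, _, hPS⟩ := Cfsg.Agent.S1042.result (F := F) D hD
    have hle : P.B ≤ (Subgroup.normalizer (D.unipotentRadical F J : Set (GL D.Idx F)) ⊓
        D.group F).subgroupOf (D.group F) := by
      rw [hPB]
      intro x hx
      rw [Subgroup.mem_subgroupOf] at hx ⊢
      exact Subgroup.mem_inf.mpr ⟨hPN (hBP hx), x.2⟩
    obtain ⟨K, hKS, hM⟩ := Cfsg.Agent.S0311.result P _ hle
    have hK : ∀ n ∈ K, (n : GL D.Idx F) ∈ D.parabolicSubgroup F J := by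
      intro n hnK
      have hnS := hKS hnK
      rw [hPS] at hnS
      obtain ⟨i, hi, hni⟩ := hnS
      have hn' : (n : GL D.Idx F) = nGt D hD (D.simple i) 1 := Units.ext (by rw [hni, nGt_val])
      have hnM : n ∈ (Subgroup.normalizer (D.unipotentRadical F J : Set (GL D.Idx F)) ⊓
          D.group F).subgroupOf (D.group F) := by
        rw [hM]
        unfold Cfsg.BNPair.parabolic
        exact Subgroup.mem_sup_right (Subgroup.subset_closure hnK)
      rw [Subgroup.mem_subgroupOf, Subgroup.mem_inf] at hnM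
      have hiJ : i ∈ J := by
        apply mem_of_nG_mem_normalizer (F := F) D hD J i hi
        rw [← hn']
        exact hnM.1
      unfold ChevalleyDatum.parabolicSubgroup
      apply Subgroup.mem_sup_right
      apply Subgroup.subset_closure
      exact ⟨i, hiJ, hi, hni⟩
    have hMle : (Subgroup.normalizer (D.unipotentRadical F J : Set (GL D.Idx F)) ⊓
        D.group F).subgroupOf (D.group F) ≤ (D.parabolicSubgroup F J).subgroupOf (D.group F) := by
      rw [hM]
      unfold Cfsg.BNPair.parabolic
      apply sup_le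
      · rw [hPB]
        intro x hx
        rw [Subgroup.mem_subgroupOf] at hx ⊢
        exact hBP hx
      · rw [Subgroup.closure_le]
        intro n hnK
        show n ∈ (D.parabolicSubgroup F J).subgroupOf (D.group F)
        rw [Subgroup.mem_subgroupOf]
        exact hK n hnK
    intro g hg
    have hgG : g ∈ D.group F := (Subgroup.mem_inf.mp hg).2
    have h1 : (⟨g, hgG⟩ : ↥(D.group F)) ∈
        (Subgroup.normalizer (D.unipotentRadical F J : Set (GL D.Idx F)) ⊓
          D.group F).subgroupOf (D.group F) := by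
      rw [Subgroup.mem_subgroupOf]
      exact hg
    have h2 := hMle h1
    rw [Subgroup.mem_subgroupOf] at h2
    exact h2
  · exact le_inf hPN hPG

end


/-- `N_G(U_J) = P_J`: the normaliser of `U_J` inside the Chevalley group is the standard parabolic subgroup. -/
theorem result {F : Type*} [Field F] (D : Cfsg.Lie.ChevalleyDatum) (hD : D ∈ [Cfsg.Lie.chevG2, Cfsg.Lie.chevB2, Cfsg.Lie.chevD4, Cfsg.Lie.chevF4, Cfsg.Lie.chevE6, Cfsg.Lie.chevE7, Cfsg.Lie.chevE8]) (J : Set ℕ) (hJ : ∀ j ∈ J, j < D.rank) :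
    Subgroup.normalizer (D.unipotentRadical F J : Set (GL D.Idx F)) ⊓ D.group F = D.parabolicSubgroup F J := by
  exact normalizer_inf_group_eq D hD J

end Cfsg.Agent.S1049
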