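import Mathlib
import Cfsg.Statements.S1061
import Cfsg.Agent.Lib_helper5_ChevOrd2
import Cfsg.Agent.Lib_helper5_ChevWEnumD4
import Cfsg.Agent.Lib_helper5_ChevCerts
import Cfsg.Agent.S1027
import Cfsg.Agent.S1035

set_option autoImplicit false
open Cfsg

namespace Cfsg.Agent.S1061

open Cfsg.Lie Cfsg.Agent.helper5.Chev

/-- `gcd(2, q-1)² · |D₄(q)| = q¹² (q² - 1)(q⁴ - 1)(q⁴ - 1)(q⁶ - 1)`. -/
theorem result {F : Type*} [Field F] [Fintype F] {q : ℕ} (hq : Fintype.card F = q) : Nat.gcd 2 (q - 1) ^ 2 * Nat.card ↥(Cfsg.Lie.chevD4.group F) = q ^ 12 * (q ^ 2 - 1) * (q ^ 4 - 1) * (q ^ 4 - 1) * (q ^ 6 - 1) := by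
  have hD : chevD4 ∈ [chevG2, chevB2, chevD4, chevF4, chevE6, chevE7, chevE8] := by simp
  have h1 := chev_card_of_enum (F := F) chevD4 hD (commOK_of_mem _ hD) (posCommOK_of_mem _ hD)
    _ _ _ wenumD4
  have hU := Cfsg.Agent.S1027.result (F := F) chevD4 hD
  have hH := Cfsg.Agent.S1035.result (F := F) hq (chevD4, Nat.gcd 2 (q - 1) ^ 2) (by simp)
  have hqF : Nat.card F = q := by rw [Nat.card_eq_fintype_card, hq]
  rw [hq] at hU
  rw [card_borel chevD4 hD, hU, hqF, sum_fin_getD wvsD4 (fun v => q ^ v.length)] at h1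
  have e1 : (wvsD4.map fun v => q ^ v.length) = (wvsD4.map List.length).map fun x => q ^ x := by
    rw [List.map_map]; rfl
  rw [e1, sum_pow_eq_count q _ 13 wboundD4, wcountsD4] at h1
  have hn : chevD4.nroots / 2 = 12 := by decide
  rw [hn] at h1
  have hH' : Nat.gcd 2 (q - 1) ^ 2 * Nat.card ↥(chevD4.diagonalSubgroup F) = (q - 1) ^ 4 := hH
  rw [h1]
  have e0 : ∀ a b c d : ℕ, a * (b * c * d) = b * (a * c) * d := by intros; ring
  rw [e0, hH']
  have hq1 : 1 ≤ q := by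
    rw [← hq]
    exact Fintype.card_pos
  obtain ⟨p, rfl⟩ : ∃ p, q = p + 1 := ⟨q - 1, by omega⟩
  have e2 : (p + 1) ^ 2 - 1 = p ^ 2 + 2 * p := by
    apply Nat.sub_eq_of_eq_add; ring
  have e4 : (p + 1) ^ 4 - 1 = p ^ 4 + 4 * p ^ 3 + 6 * p ^ 2 + 4 * p := by
    apply Nat.sub_eq_of_eq_add; ring
  have e6 : (p + 1) ^ 6 - 1 = p ^ 6 + 6 * p ^ 5 + 15 * p ^ 4 + 20 * p ^ 3 + 15 * p ^ 2 + 6 * p := by
    apply Nat.sub_eq_of_eq_add; ring
  rw [e2, e4, e6, Nat.add_sub_cancel]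
  simp only [List.range_succ, List.range_zero, List.nil_append, List.cons_append, List.zipWith,
    List.sum_cons, List.sum_nil]
  ring

end Cfsg.Agent.S1061
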