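import Mathlib
import Cfsg.Statements.S1062
import Cfsg.Agent.Lib_helper5_ChevOrd2
import Cfsg.Agent.Lib_helper5_ChevOrd3
import Cfsg.Agent.Lib_helper5_ChevPCDF4
import Cfsg.Agent.Lib_helper5_ChevCerts
import Cfsg.Agent.S1027
import Cfsg.Agent.S1035

set_option autoImplicit false
open Cfsg

namespace Cfsg.Agent.S1062

open Cfsg.Lie Cfsg.Agent.helper5.Chev

/-- `|F₄(q)| = q²⁴ (q² - 1)(q⁶ - 1)(q⁸ - 1)(q¹² - 1)`. -/
theorem result {F : Type*} [Field F] [Fintype F] {q : ℕ} (hq : Fintype.card F = q) : Nat.card ↥(Cfsg.Lie.chevF4.group F) = q ^ 24 * (q ^ 2 - 1) * (q ^ 6 - 1) * (q ^ 8 - 1) * (q ^ 12 - 1) := by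
  have hD := pcMem_F4
  have hfam := pcFam_F4_4
  have h1 := chev_card_of_family (F := F) chevF4 hD (commOK_of_mem _ hD) (posCommOK_of_mem _ hD)
    pcV_F4_4 hfam.red (fun w hw => hfam.complete w (fun i hi => pcTop_F4 i (hw i hi)))
    hfam.distinct
  have hU := Cfsg.Agent.S1027.result (F := F) chevF4 hD
  have hH := Cfsg.Agent.S1035.result (F := F) hq (chevF4, 1) (by simp)
  have hqF : Nat.card F = q := by rw [Nat.card_eq_fintype_card, hq]
  rw [hq] at hU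
  rw [card_borel chevF4 hD, hU, hqF, pcSumL_F4_4] at h1
  have hn : chevF4.nroots / 2 = 24 := by decide
  have hr : chevF4.rank = 4 := by decide
  rw [hn] at h1
  have hH' : 1 * Nat.card ↥(chevF4.diagonalSubgroup F) = (q - 1) ^ 4 := by
    rw [← hr]; exact hH
  have h2 : Nat.card ↥(chevF4.group F) =
      q ^ 24 * (q - 1) ^ 4 * pcPoly_F4_4 q := by
    rw [h1, ← hH']
    ring
  rw [h2]
  have hq1 : 1 ≤ q := by
    rw [← hq]
    exact Fintype.card_pos
  have h2 : 1 ≤ q ^ 2 := Nat.one_le_pow _ _ hq1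
  have h6 : 1 ≤ q ^ 6 := Nat.one_le_pow _ _ hq1
  have h8 : 1 ≤ q ^ 8 := Nat.one_le_pow _ _ hq1
  have h12 : 1 ≤ q ^ 12 := Nat.one_le_pow _ _ hq1
  simp only [pcPoly_F4_4, pcPoly_F4_3, pcPoly_F4_2, pcPoly_F4_1,
    List.range_succ, List.range_zero, List.nil_append, List.cons_append, List.zipWith,
    List.sum_cons, List.sum_nil]
  zify [hq1, h2, h6, h8, h12]
  ring

end Cfsg.Agent.S1062
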