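import Mathlib
import Cfsg.Statements.S1064
import Cfsg.Agent.Lib_helper5_ChevOrd2
import Cfsg.Agent.Lib_helper5_ChevOrd3
import Cfsg.Agent.Lib_helper5_ChevPCDE7
import Cfsg.Agent.Lib_helper5_ChevCerts
import Cfsg.Agent.S1027
import Cfsg.Agent.S1035

set_option autoImplicit false
open Cfsg

namespace Cfsg.Agent.S1064

open Cfsg.Lie Cfsg.Agent.helper5.Chev

/-- `gcd(2, q-1) · |E₇(q)| = q⁶³ ∏_{d ∈ {2,6,8,10,12,14,18}} (q^d - 1)`. -/
theorem result {F : Type*} [Field F] [Fintype F] {q : ℕ} (hq : Fintype.card F = q) : Nat.gcd 2 (q - 1) * Nat.card ↥(Cfsg.Lie.chevE7.group F) = q ^ 63 * (q ^ 2 - 1) * (q ^ 6 - 1) * (q ^ 8 - 1) * (q ^ 10 - 1) * (q ^ 12 - 1) * (q ^ 14 - 1) * (q ^ 18 - 1) := by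
  have hD := pcMem_E7
  have hfam := pcFam_E7_7
  have h1 := chev_card_of_family (F := F) chevE7 hD (commOK_of_mem _ hD) (posCommOK_of_mem _ hD)
    pcV_E7_7 hfam.red (fun w hw => hfam.complete w (fun i hi => pcTop_E7 i (hw i hi)))
    hfam.distinct
  have hU := Cfsg.Agent.S1027.result (F := F) chevE7 hD
  have hH := Cfsg.Agent.S1035.result (F := F) hq (chevE7, Nat.gcd 2 (q - 1)) (by simp)
  have hqF : Nat.card F = q := by rw [Nat.card_eq_fintype_card, hq]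
  rw [hq] at hU
  rw [card_borel chevE7 hD, hU, hqF, pcSumL_E7_7] at h1
  have hn : chevE7.nroots / 2 = 63 := by decide
  have hr : chevE7.rank = 7 := by decide
  rw [hn] at h1
  have hH' : Nat.gcd 2 (q - 1) * Nat.card ↥(chevE7.diagonalSubgroup F) = (q - 1) ^ 7 := by
    rw [← hr]; exact hH
  have h2 : Nat.gcd 2 (q - 1) * Nat.card ↥(chevE7.group F) =
      q ^ 63 * (q - 1) ^ 7 * pcPoly_E7_7 q := by
    rw [h1, ← hH']
    ring
  rw [h2]
  have hq1 : 1 ≤ q := by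
    rw [← hq]
    exact Fintype.card_pos
  have h2 : 1 ≤ q ^ 2 := Nat.one_le_pow _ _ hq1
  have h6 : 1 ≤ q ^ 6 := Nat.one_le_pow _ _ hq1
  have h8 : 1 ≤ q ^ 8 := Nat.one_le_pow _ _ hq1
  have h10 : 1 ≤ q ^ 10 := Nat.one_le_pow _ _ hq1
  have h12 : 1 ≤ q ^ 12 := Nat.one_le_pow _ _ hq1
  have h14 : 1 ≤ q ^ 14 := Nat.one_le_pow _ _ hq1
  have h18 : 1 ≤ q ^ 18 := Nat.one_le_pow _ _ hq1
  simp only [pcPoly_E7_7, pcPoly_E7_6, pcPoly_E7_5, pcPoly_E7_4, pcPoly_E7_3, pcPoly_E7_2, pcPoly_E7_1,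
    List.range_succ, List.range_zero, List.nil_append, List.cons_append, List.zipWith,
    List.sum_cons, List.sum_nil]
  zify [hq1, h2, h6, h8, h10, h12, h14, h18]
  ring

end Cfsg.Agent.S1064
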