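import Mathlib
import Cfsg.Statements.S1065
import Cfsg.Agent.Lib_helper5_ChevOrd2
import Cfsg.Agent.Lib_helper5_ChevOrd3
import Cfsg.Agent.Lib_helper5_ChevPCDE8
import Cfsg.Agent.Lib_helper5_ChevCerts
import Cfsg.Agent.S1027
import Cfsg.Agent.S1035

set_option autoImplicit false
open Cfsg

namespace Cfsg.Agent.S1065

open Cfsg.Lie Cfsg.Agent.helper5.Chev

/-- `|E₈(q)| = q¹²⁰ ∏_{d ∈ {2,8,12,14,18,20,24,30}} (q^d - 1)`. -/
theorem result {F : Type*} [Field F] [Fintype F] {q : ℕ} (hq : Fintype.card F = q) : Nat.card ↥(Cfsg.Lie.chevE8.group F) = q ^ 120 * (q ^ 2 - 1) * (q ^ 8 - 1) * (q ^ 12 - 1) * (q ^ 14 - 1) * (q ^ 18 - 1) * (q ^ 20 - 1) * (q ^ 24 - 1) * (q ^ 30 - 1) := by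
  have hD := pcMem_E8
  have hfam := pcFam_E8_8
  have h1 := chev_card_of_family (F := F) chevE8 hD (commOK_of_mem _ hD) (posCommOK_of_mem _ hD)
    pcV_E8_8 hfam.red (fun w hw => hfam.complete w (fun i hi => pcTop_E8 i (hw i hi)))
    hfam.distinct
  have hU := Cfsg.Agent.S1027.result (F := F) chevE8 hD
  have hH := Cfsg.Agent.S1035.result (F := F) hq (chevE8, 1) (by simp)
  have hqF : Nat.card F = q := by rw [Nat.card_eq_fintype_card, hq]
  rw [hq] at hU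
  rw [card_borel chevE8 hD, hU, hqF, pcSumL_E8_8] at h1
  have hn : chevE8.nroots / 2 = 120 := by decide
  have hr : chevE8.rank = 8 := by decide
  rw [hn] at h1
  have hH' : 1 * Nat.card ↥(chevE8.diagonalSubgroup F) = (q - 1) ^ 8 := by
    rw [← hr]; exact hH
  have h2 : Nat.card ↥(chevE8.group F) =
      q ^ 120 * (q - 1) ^ 8 * pcPoly_E8_8 q := by
    rw [h1, ← hH']
    ring
  rw [h2]
  have hq1 : 1 ≤ q := by
    rw [← hq]
    exact Fintype.card_pos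
  have h2 : 1 ≤ q ^ 2 := Nat.one_le_pow _ _ hq1
  have h8 : 1 ≤ q ^ 8 := Nat.one_le_pow _ _ hq1
  have h12 : 1 ≤ q ^ 12 := Nat.one_le_pow _ _ hq1
  have h14 : 1 ≤ q ^ 14 := Nat.one_le_pow _ _ hq1
  have h18 : 1 ≤ q ^ 18 := Nat.one_le_pow _ _ hq1
  have h20 : 1 ≤ q ^ 20 := Nat.one_le_pow _ _ hq1
  have h24 : 1 ≤ q ^ 24 := Nat.one_le_pow _ _ hq1
  have h30 : 1 ≤ q ^ 30 := Nat.one_le_pow _ _ hq1
  simp only [pcPoly_E8_8, pcPoly_E8_7, pcPoly_E8_6, pcPoly_E8_5, pcPoly_E8_4, pcPoly_E8_3, pcPoly_E8_2, pcPoly_E8_1,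
    List.range_succ, List.range_zero, List.nil_append, List.cons_append, List.zipWith,
    List.sum_cons, List.sum_nil]
  zify [hq1, h2, h8, h12, h14, h18, h20, h24, h30]
  ring

end Cfsg.Agent.S1065
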