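import Cfsg.Statements.S1072
import Mathlib
import Cfsg.Agent.Lib_helper5_F4T

set_option autoImplicit false
open Cfsg

namespace Cfsg.Agent.S1072

/-- ²F₄(2^(2m+1)) is simple for `m ≥ 1`. -/
theorem result {K : Type*} [Field K] [Fintype K] {m : ℕ} (hm : 1 ≤ m) (hK : Fintype.card K = 2 ^ (2 * m + 1)) :
    IsSimpleGroup ↥(Cfsg.Lie.twistedF4 K (2 ^ m)) ∧ ¬ IsMulCommutative ↥(Cfsg.Lie.twistedF4 K (2 ^ m)) := by
  haveI : CharP K 2 := Cfsg.Agent.helper5.Chev.f4_charP hK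
  obtain ⟨f, hff, hfe, hcard, he⟩ := Cfsg.Agent.helper5.Chev.f4_setup hK
  refine Cfsg.Agent.helper5.Chev.f4_simple f hff (2 ^ m) hfe he
    (fun a b => add_pow_char_pow a b 2 m) ?_
  rw [hK]
  calc 4 < 2 ^ 3 := by norm_num
    _ ≤ 2 ^ (2 * m + 1) := Nat.pow_le_pow_right (by norm_num) (by omega)

end Cfsg.Agent.S1072
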