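import Mathlib
import Cfsg.Statements.S1075
import Cfsg.Agent.Lib_helper2_Ree7
import Cfsg.Agent.S1011

set_option autoImplicit false
open Cfsg

namespace Cfsg.Agent.S1075

open Cfsg.Agent.helper2



theorem result {L : Type*} [Field L] [Fintype L] (hL : Fintype.card L = 8) :
    Nat.card ↥(commutator ↥(Cfsg.Lie.twistedG2 (ZMod 3) 1)) = 504 ∧
      Nonempty (↥(commutator ↥(Cfsg.Lie.twistedG2 (ZMod 3) 1)) ≃* Matrix.ProjectiveSpecialLinearGroup (Fin 2) L) := by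
  obtain ⟨e⟩ := Cfsg.Agent.helper2.Ree.ree_comm_equiv
  have hc : Nat.card ↥(commutator ↥(Cfsg.Lie.twistedG2 (ZMod 3) 1)) = 504 := by
    rw [Nat.card_congr e.toEquiv]
    exact Cfsg.Agent.helper2.Ree.card_N504
  refine ⟨hc, ?_⟩
  haveI := Cfsg.Agent.helper2.Ree.simple_N504
  obtain ⟨f⟩ := Cfsg.Agent.S1011.result
    (G := Cfsg.Agent.helper2.Tab.MG Cfsg.Agent.helper2.Ree.D504)
    Cfsg.Agent.helper2.Ree.card_N504 hL
  exact ⟨e.trans f⟩

end Cfsg.Agent.S1075
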