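import Cfsg.Statements.S1080
-- import your own Cfsg.Agent.* helpers here

set_option autoImplicit false
open Cfsg

namespace Cfsg.Agent.S1080

open Cfsg.Lie

theorem xMat_map {F : Type*} [Field F] (D : ChevalleyDatum) (f : F →+* F) (r : Fin D.nroots) (t : F) :
    (D.xMat F r t).map f = D.xMat F r (f t) := by
  ext row col
  rcases col with i | s <;> rcases row with i' | u
  · simp only [ChevalleyDatum.xMat, Matrix.map_apply, Matrix.of_apply]
    split_ifs <;> simp
  · simp only [ChevalleyDatum.xMat, Matrix.map_apply, Matrix.of_apply]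
    split_ifs <;> simp
  · simp only [ChevalleyDatum.xMat, Matrix.map_apply, Matrix.of_apply]
    split_ifs <;> simp
  · simp only [ChevalleyDatum.xMat, Matrix.map_apply, Matrix.of_apply]
    split_ifs <;> simp [map_list_sum, List.map_map, Function.comp_def]

theorem x_map {F : Type*} [Field F] (D : ChevalleyDatum) (f : F →+* F) (r : ℕ) (t : F) :
    (D.x F r t).map f = D.x F r (f t) := by
  unfold ChevalleyDatum.x
  split_ifs with h
  · exact xMat_map D f ⟨r, h⟩ t
  · simp

theorem map_mem {F : Type*} [Field F] (D : ChevalleyDatum) (f : F →+* F) (g : GL D.Idx F) (hg : g ∈ D.group F) :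
    Matrix.GeneralLinearGroup.map f g ∈ D.group F := by
  have : D.group F ≤ (D.group F).comap (Matrix.GeneralLinearGroup.map (n := D.Idx) f) := by
    unfold ChevalleyDatum.group
    rw [Subgroup.closure_le]
    rintro g ⟨r, t, hg⟩
    simp only [Subgroup.coe_comap, Set.mem_preimage, SetLike.mem_coe]
    apply Subgroup.subset_closure
    refine ⟨r, f t, ?_⟩
    rw [← xMat_map, ← hg]
    ext i j
    simp [Matrix.GeneralLinearGroup.map_apply]
  exact this hg

/-- Field automorphisms: for every field automorphism `f` there is a group automorphism sending each `x_r(t)` to `x_r(f t)`. -/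
theorem result {F : Type*} [Field F] (D : Cfsg.Lie.ChevalleyDatum) (hD : D ∈ [Cfsg.Lie.chevG2, Cfsg.Lie.chevB2, Cfsg.Lie.chevD4, Cfsg.Lie.chevF4, Cfsg.Lie.chevE6, Cfsg.Lie.chevE7, Cfsg.Lie.chevE8]) (f : F ≃+* F) :
    ∃ α : ↥(D.group F) ≃* ↥(D.group F), ∀ (g : ↥(D.group F)) (r : ℕ) (t : F), r < D.nroots →
      ((g : GL D.Idx F) : Matrix D.Idx D.Idx F) = D.x F r t → ((α g : GL D.Idx F) : Matrix D.Idx D.Idx F) = D.x F r (f t) := by
  have h1 : ∀ g : GL D.Idx F, Matrix.GeneralLinearGroup.map (f.symm : F →+* F) (Matrix.GeneralLinearGroup.map (f : F →+* F) g) = g := by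
    intro g
    ext i j
    simp [Matrix.GeneralLinearGroup.map_apply]
  have h2 : ∀ g : GL D.Idx F, Matrix.GeneralLinearGroup.map (f : F →+* F) (Matrix.GeneralLinearGroup.map (f.symm : F →+* F) g) = g := by
    intro g
    ext i j
    simp [Matrix.GeneralLinearGroup.map_apply]
  refine ⟨{ toFun := fun g => ⟨Matrix.GeneralLinearGroup.map (f : F →+* F) g.1, map_mem D _ g.1 g.2⟩
            invFun := fun g => ⟨Matrix.GeneralLinearGroup.map (f.symm : F →+* F) g.1, map_mem D _ g.1 g.2⟩
            left_inv := fun g => Subtype.ext (h1 g.1)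
            right_inv := fun g => Subtype.ext (h2 g.1)
            map_mul' := fun a b => Subtype.ext (by simp) }, ?_⟩
  intro g r t hr hg
  simp only [MulEquiv.coe_mk, Equiv.coe_fn_mk]
  have : ((Matrix.GeneralLinearGroup.map (f : F →+* F) g.1 : GL D.Idx F) : Matrix D.Idx D.Idx F) = ((g.1 : GL D.Idx F) : Matrix D.Idx D.Idx F).map f := by
    ext i j
    simp [Matrix.GeneralLinearGroup.map_apply]
  rw [this, hg]
  exact x_map D (f : F →+* F) r t

end Cfsg.Agent.S1080
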