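import Cfsg.Statements.S1091
import Mathlib
import Cfsg.Agent.Lib_helper5_ReeO

set_option autoImplicit false
open Cfsg

namespace Cfsg.Agent.S1091

/-- ²G₂(3^(2m+1)) has a (B,N)-pair: B¹ = G¹ ∩ B and N¹ = G¹ ∩ N, intersections with the ambient Chevalley group's B = UH and N. -/
theorem result {K : Type*} [Field K] [Fintype K] {m : ℕ} (hK : Fintype.card K = 3 ^ (2 * m + 1)) :
    ∃ P : Cfsg.BNPair ↥(Cfsg.Lie.twistedG2 K (3 ^ m)),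
      P.B = (Cfsg.Lie.chevG2.borelSubgroup K ⊓ Cfsg.Lie.twistedG2 K (3 ^ m)).subgroupOf (Cfsg.Lie.twistedG2 K (3 ^ m)) ∧
      P.N = (Cfsg.Lie.chevG2.monomialSubgroup K ⊓ Cfsg.Lie.twistedG2 K (3 ^ m)).subgroupOf (Cfsg.Lie.twistedG2 K (3 ^ m)) := by
  haveI : CharP K 3 := Cfsg.Agent.helper5.Chev.ree_charP hK
  have hff := Cfsg.Agent.helper5.Chev.reeF_ff (K := K) hK
  have hfe : ∀ t : K, Cfsg.Agent.helper5.Chev.reeF m t = t ^ 3 ^ m :=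
    Cfsg.Agent.helper5.Chev.reeF_apply
  obtain ⟨j, N, h1, h2, h3, h4⟩ := Cfsg.Agent.helper5.Chev.ree_arith m
  obtain ⟨Q, hB, hN, -⟩ := Cfsg.Agent.helper5.Chev.ree_bnpair _ hff (3 ^ m) hfe h4 j N
    (hK.trans h1) h2 h3
  exact ⟨Q, hB, hN⟩

end Cfsg.Agent.S1091
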