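import Mathlib
import Cfsg.Statements.S1094
import Cfsg.Agent.Lib_helper5_CoxRep
import Cfsg.Agent.Lib_helper5_CoxDB2
import Cfsg.Agent.Lib_helper5_CoxDG2
import Cfsg.Agent.Lib_helper5_CoxDD4
import Cfsg.Agent.Lib_helper5_CoxDF4
import Cfsg.Agent.Lib_helper5_CoxDE6
import Cfsg.Agent.Lib_helper5_CoxDE7
import Cfsg.Agent.Lib_helper5_CoxDE8

set_option autoImplicit false
open Cfsg

namespace Cfsg.Agent.S1094

open Cfsg.Lie Cfsg.Agent.helper5.Chev Cfsg.Agent.helper5.TC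

set_option maxRecDepth 1000000 in
set_option maxHeartbeats 0 in
theorem coxOrd_B2 : orderOf ((List.finRange 2).map ((CoxeterMatrix.B 2)).simple).prod = 4 := by
  haveI := coxFinite_B2
  obtain ⟨π, hπ, hπw⟩ := cox_rep chevB2 pcMem_B2 (CoxeterMatrix.B 2) tcM_B2 coxMt_B2 (by decide) pcRTOK_B2
    coxRel_B2 pcJ_B2_2 pcV_B2_2 pcFam_B2_2 (by simp only [coxCard_B2, pcCard_B2_2])
  rw [finRange_map_simple]
  exact cox_order chevB2 pcMem_B2 (CoxeterMatrix.B 2) pcRTOK_B2 π hπ hπw (List.range 2) (by decide) 4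
    (by norm_num) (by decide +kernel)

set_option maxRecDepth 1000000 in
set_option maxHeartbeats 0 in
theorem coxOrd_G2 : orderOf ((List.finRange 2).map (CoxeterMatrix.G₂).simple).prod = 6 := by
  haveI := coxFinite_G2
  obtain ⟨π, hπ, hπw⟩ := cox_rep chevG2 pcMem_G2 CoxeterMatrix.G₂ tcM_G2 coxMt_G2 (by decide) pcRTOK_G2
    coxRel_G2 pcJ_G2_2 pcV_G2_2 pcFam_G2_2 (by simp only [coxCard_G2, pcCard_G2_2])
  rw [finRange_map_simple]
  exact cox_order chevG2 pcMem_G2 CoxeterMatrix.G₂ pcRTOK_G2 π hπ hπw (List.range 2) (by decide) 6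
    (by norm_num) (by decide +kernel)

set_option maxRecDepth 1000000 in
set_option maxHeartbeats 0 in
theorem coxOrd_D4 : orderOf ((List.finRange 4).map (Cfsg.Lie.coxeterD4).simple).prod = 6 := by
  haveI := coxFinite_D4
  obtain ⟨π, hπ, hπw⟩ := cox_rep chevD4 pcMem_D4 Cfsg.Lie.coxeterD4 tcM_D4 coxMt_D4 (by decide) pcRTOK_D4
    coxRel_D4 pcJ_D4_4 pcV_D4_4 pcFam_D4_4 (by simp only [coxCard_D4, pcCard_D4_4])
  rw [finRange_map_simple]
  exact cox_order chevD4 pcMem_D4 Cfsg.Lie.coxeterD4 pcRTOK_D4 π hπ hπw (List.range 4) (by decide) 6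
    (by norm_num) (by decide +kernel)

set_option maxRecDepth 1000000 in
set_option maxHeartbeats 0 in
theorem coxOrd_F4 : orderOf ((List.finRange 4).map (CoxeterMatrix.F₄).simple).prod = 12 := by
  haveI := coxFinite_F4
  obtain ⟨π, hπ, hπw⟩ := cox_rep chevF4 pcMem_F4 CoxeterMatrix.F₄ tcM_F4 coxMt_F4 (by decide) pcRTOK_F4
    coxRel_F4 pcJ_F4_4 pcV_F4_4 pcFam_F4_4 (by simp only [coxCard_F4, pcCard_F4_4])
  rw [finRange_map_simple]
  exact cox_order chevF4 pcMem_F4 CoxeterMatrix.F₄ pcRTOK_F4 π hπ hπw (List.range 4) (by decide) 12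
    (by norm_num) (by decide +kernel)

set_option maxRecDepth 1000000 in
set_option maxHeartbeats 0 in
theorem coxOrd_E6 : orderOf ((List.finRange 6).map (CoxeterMatrix.E₆).simple).prod = 12 := by
  haveI := coxFinite_E6
  obtain ⟨π, hπ, hπw⟩ := cox_rep chevE6 pcMem_E6 CoxeterMatrix.E₆ tcM_E6 coxMt_E6 (by decide) pcRTOK_E6
    coxRel_E6 pcJ_E6_6 pcV_E6_6 pcFam_E6_6 (by simp only [coxCard_E6, pcCard_E6_6])
  rw [finRange_map_simple]
  exact cox_order chevE6 pcMem_E6 CoxeterMatrix.E₆ pcRTOK_E6 π hπ hπw (List.range 6) (by decide) 12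
    (by norm_num) (by decide +kernel)

set_option maxRecDepth 1000000 in
set_option maxHeartbeats 0 in
theorem coxOrd_E7 : orderOf ((List.finRange 7).map (CoxeterMatrix.E₇).simple).prod = 18 := by
  haveI := coxFinite_E7
  obtain ⟨π, hπ, hπw⟩ := cox_rep chevE7 pcMem_E7 CoxeterMatrix.E₇ tcM_E7 coxMt_E7 (by decide) pcRTOK_E7
    coxRel_E7 pcJ_E7_7 pcV_E7_7 pcFam_E7_7 (by simp only [coxCard_E7, pcCard_E7_7])
  rw [finRange_map_simple]
  exact cox_order chevE7 pcMem_E7 CoxeterMatrix.E₇ pcRTOK_E7 π hπ hπw (List.range 7) (by decide) 18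
    (by norm_num) (by decide +kernel)

set_option maxRecDepth 1000000 in
set_option maxHeartbeats 0 in
theorem coxOrd_E8 : orderOf ((List.finRange 8).map (CoxeterMatrix.E₈).simple).prod = 30 := by
  haveI := coxFinite_E8
  obtain ⟨π, hπ, hπw⟩ := cox_rep chevE8 pcMem_E8 CoxeterMatrix.E₈ tcM_E8 coxMt_E8 (by decide) pcRTOK_E8
    coxRel_E8 pcJ_E8_8 pcV_E8_8 pcFam_E8_8 (by simp only [coxCard_E8, pcCard_E8_8])
  rw [finRange_map_simple]
  exact cox_order chevE8 pcMem_E8 CoxeterMatrix.E₈ pcRTOK_E8 π hπ hπw (List.range 8) (by decide) 30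
    (by norm_num) (by decide +kernel)

/-- The Coxeter element `s₁ s₂ ⋯ s_l` of the Coxeter group of type B₂, G₂, D₄, F₄, E₆, E₇, E₈ has order `h = 2N/l` = 4, 6, 6, 12, 12, 18, 30. -/
theorem result (p : (Σ n : ℕ, CoxeterMatrix (Fin n)) × ℕ)
    (hp : p ∈ [(⟨2, CoxeterMatrix.B 2⟩, 4), (⟨2, CoxeterMatrix.G₂⟩, 6), (⟨4, Cfsg.Lie.coxeterD4⟩, 6), (⟨4, CoxeterMatrix.F₄⟩, 12),
      (⟨6, CoxeterMatrix.E₆⟩, 12), (⟨7, CoxeterMatrix.E₇⟩, 18), (⟨8, CoxeterMatrix.E₈⟩, 30)]) :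
    orderOf ((List.finRange p.1.1).map p.1.2.simple).prod = p.2 := by
  simp only [List.mem_cons, List.not_mem_nil, or_false] at hp
  rcases hp with rfl | rfl | rfl | rfl | rfl | rfl | rfl
  · exact coxOrd_B2
  · exact coxOrd_G2
  · exact coxOrd_D4
  · exact coxOrd_F4
  · exact coxOrd_E6
  · exact coxOrd_E7
  · exact coxOrd_E8

end Cfsg.Agent.S1094
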