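import Mathlib
import Cfsg.Statements.S1096
import Cfsg.Agent.S1033
import Cfsg.Agent.S1034
import Cfsg.Agent.S1095
import Cfsg.Agent.Lib_helper5_ChevNH
import Cfsg.Agent.Lib_helper5_ChevReflSmall
import Cfsg.Agent.Lib_helper5_ChevReflE7
import Cfsg.Agent.Lib_helper5_ChevReflE8

set_option autoImplicit false
open Cfsg

namespace Cfsg.Agent.S1096

open Cfsg.Lie Cfsg.Agent.helper5.Chev

theorem refl_of_mem (D : ChevalleyDatum)
    (hD : D ∈ [chevG2, chevB2, chevD4, chevF4, chevE6, chevE7, chevE8]) :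
    ∀ i < D.rank, reflCheckI D i = true := by
  simp only [List.mem_cons, List.not_mem_nil, or_false] at hD
  rcases hD with rfl | rfl | rfl | rfl | rfl | rfl | rfl
  · exact refl_G2
  · exact refl_B2
  · exact refl_D4
  · exact refl_F4
  · exact refl_E6
  · exact refl_E7
  · exact refl_E8

/-- `n_p h_{p_j}(t) n_p⁻¹ = h_{w_p(p_j)}(t)` for fundamental `p`, `p_j` and `t ≠ 0`, stated as `n_p h_{p_j}(t) = h_{w_p(p_j)}(t) n_p`. -/
theorem result {F : Type*} [Field F] (D : Cfsg.Lie.ChevalleyDatum) (hD : D ∈ [Cfsg.Lie.chevG2, Cfsg.Lie.chevB2, Cfsg.Lie.chevD4, Cfsg.Lie.chevF4, Cfsg.Lie.chevE6, Cfsg.Lie.chevE7, Cfsg.Lie.chevE8]) (i j : ℕ) (hi : i < D.rank) (hj : j < D.rank) (t : F) (ht : t ≠ 0) :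
    D.nMat F (D.simple i) 1 * D.hMat F (D.simple j) t = D.hMat F (D.reflectRoot i (D.simple j)) t * D.nMat F (D.simple i) 1 := by
  exact nMat_mul_hMat D i j hj (etaOf D i) (Cfsg.Agent.S1095.nMat_eq D hD i hi)
    (fun c hc => Cfsg.Agent.S1033.result D hD j hj c hc)
    (Cfsg.Agent.S1034.hCheckAll_of_mem D hD) (refl_of_mem D hD i hi) t ht

end Cfsg.Agent.S1096
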