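import Cfsg.Statements.S1112
import Mathlib
import Cfsg.Agent.Lib_helper5_F4F

set_option autoImplicit false
open Cfsg

namespace Cfsg.Agent.S1112

/-- ²F₄(2^(2m+1)) (m ≥ 1) equals its derived subgroup. -/
theorem result {K : Type*} [Field K] [Fintype K] {m : ℕ} (hK : Fintype.card K = 2 ^ (2 * m + 1)) (hm : 1 ≤ m) : commutator ↥(Cfsg.Lie.twistedF4 K (2 ^ m)) = ⊤ := by
  haveI : CharP K 2 := Cfsg.Agent.helper5.Chev.f4_charP hK
  refine Cfsg.Agent.helper5.Chev.f4_perfect (K := K) (2 ^ m) (pow_ne_zero _ (by norm_num))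
    (fun a b => add_pow_char_pow a b 2 m) ?_ ?_
  · intro t
    rw [← pow_mul]
    have : 2 ^ m * (2 * 2 ^ m) = Fintype.card K := by
      rw [hK]; ring
    rw [this, FiniteField.pow_card]
  · rw [hK]
    calc 4 < 2 ^ 3 := by norm_num
      _ ≤ 2 ^ (2 * m + 1) := Nat.pow_le_pow_right (by norm_num) (by omega)

end Cfsg.Agent.S1112
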