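import Mathlib
import Cfsg.Statements.S1118
import Cfsg.Agent.Lib_helper6_RankOne
-- import your own Cfsg.Agent.* helpers here

set_option autoImplicit false
open Cfsg

namespace Cfsg.Agent.S1118

/-- In the rank-one set-up (`G` finite and doubly transitive on `Ω`, `t` an involution moving `a`, `Q` normal in `G_a` with `G_a = Q D`, `Q ⊓ D = 1` for the two-point stabiliser `D = G_a ⊓ G_{t • a}`, `|Q|` even, `|D|` odd), the normaliser of a subset of `Q` containing a non-identity element lies in `G_a`; consequently `N_G(Q) = N_G(G_a) = G_a`. -/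
theorem result {G Ω : Type*} [Group G] [Finite G] [MulAction G Ω] {a : Ω} {t : G} {Q : Subgroup G}
    (hS : Cfsg.IsRankOneSetup G Ω a t Q) :
    (∀ X : Set G, X ⊆ (Q : Set G) → (∃ x ∈ X, x ≠ 1) → Subgroup.normalizer X ≤ MulAction.stabilizer G a) ∧
      Subgroup.normalizer (Q : Set G) = MulAction.stabilizer G a ∧
      Subgroup.normalizer (MulAction.stabilizer G a : Set G) = MulAction.stabilizer G a := by
  have h1 : ∀ X : Set G, X ⊆ (Q : Set G) → (∃ x ∈ X, x ≠ 1) →
      Subgroup.normalizer X ≤ MulAction.stabilizer G a := by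
    intro X hXQ ⟨x, hxX, hx1⟩ g hg
    rw [Subgroup.mem_set_normalizer_iff] at hg
    have hgx : g * x * g⁻¹ ∈ X := (hg x).mp hxX
    have hgxQ : g * x * g⁻¹ ∈ Q := hXQ hgx
    have hne : g * x * g⁻¹ ≠ 1 := by
      intro h
      apply hx1
      have e : x = g⁻¹ * (g * x * g⁻¹) * g := by group
      rw [e, h]; group
    have hfix : (g * x * g⁻¹) • (g • a) = g • a := by
      rw [mul_smul, mul_smul, inv_smul_smul, helper6.RankOne.Q_fix_a hS (hXQ hxX)]
    exact MulAction.mem_stabilizer_iff.mpr (helper6.RankOne.Q_fix_only hS hgxQ hne hfix)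
  obtain ⟨x, hxQ, hx1⟩ := helper6.RankOne.Q_ne_bot hS
  refine ⟨h1, ?_, ?_⟩
  · apply le_antisymm
    · exact h1 Q (le_refl _) ⟨x, hxQ, hx1⟩
    · exact helper6.RankOne.Ga_le_normalizer hS
  · apply le_antisymm
    · intro g hg
      rw [Subgroup.mem_normalizer_iff] at hg
      have hgx : g⁻¹ * x * g⁻¹⁻¹ ∈ MulAction.stabilizer G a := by
        have hg' : ∀ h, h ∈ MulAction.stabilizer G a → g⁻¹ * h * g⁻¹⁻¹ ∈ MulAction.stabilizer G a := by
          intro h hh
          rw [hg (g⁻¹ * h * g⁻¹⁻¹)]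
          have e : g * (g⁻¹ * h * g⁻¹⁻¹) * g⁻¹ = h := by group
          rw [e]; exact hh
        exact hg' x (hS.le hxQ)
      rw [MulAction.mem_stabilizer_iff, mul_smul, mul_smul, inv_inv] at hgx
      have h2 : x • (g • a) = g • a := by
        have : g • (g⁻¹ • x • g • a) = g • a := by rw [hgx]
        rwa [smul_inv_smul] at this
      exact MulAction.mem_stabilizer_iff.mpr (helper6.RankOne.Q_fix_only hS hxQ hx1 h2)
    · exact Subgroup.le_normalizer

end Cfsg.Agent.S1118
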