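import Cfsg.Statements.S1120
import Mathlib
import Cfsg.Agent.Lib_helper6_RankOne2
import Cfsg.Agent.Lib_helper15_Gen4
import Cfsg.Agent.Lib_helper1_Core
-- import your own Cfsg.Agent.* helpers here

set_option autoImplicit false
open Cfsg

namespace Cfsg.Agent.S1120

/-- In the rank-one set-up (`G` finite and doubly transitive on `Ω`, `t` an involution moving `a`, `Q` normal in `G_a` with `G_a = Q D`, `Q ⊓ D = 1` for the two-point stabiliser `D = G_a ⊓ G_{t • a}`, `|Q|` even, `|D|` odd), if `G` has 2-rank at least 2 then `O_{2'}(G)` equals the normal core of `G_a`. -/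
theorem result {G Ω : Type*} [Group G] [Finite G] [MulAction G Ω] {a : Ω} {t : G} {Q : Subgroup G}
    (hS : Cfsg.IsRankOneSetup G Ω a t Q)
    (h2 : ∃ x y : G, x ≠ 1 ∧ y ≠ 1 ∧ x ≠ y ∧ x * x = 1 ∧ y * y = 1 ∧ x * y = y * x) :
    Cfsg.pPrimeCore 2 G = (MulAction.stabilizer G a).normalCore := by
  classical
  open Cfsg.Agent.helper6.RankOne in
  obtain ⟨x, y, hx1, hy1, hxy, hx2, hy2, hcomm⟩ := h2
  have htr := isPretransitive hS
  haveI : Fact (Nat.Prime 2) := ⟨Nat.prime_two⟩
  -- the kernel
  set N := (MulAction.stabilizer G a).normalCore with hN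
  have hNle : N ≤ MulAction.stabilizer G a := Subgroup.normalCore_le _
  have hNnorm : N.Normal := Subgroup.normalCore_normal _
  apply le_antisymm
  · -- O ≤ N
    have hOn : (Cfsg.pPrimeCore 2 G).Normal := Cfsg.Agent.helper1.pPrimeCore_normal 2
    have hOc : (Nat.card (Cfsg.pPrimeCore 2 G)).Coprime 2 := Cfsg.Agent.helper1.pPrimeCore_coprime 2
    apply Subgroup.normal_le_normalCore.mpr
    -- move the fixed point to a
    obtain ⟨c, hc⟩ := invol_exists_fix hS hx2
    have hyc : y • c = c := by
      apply invol_fix_eq hS hx1 hx2 _ hc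
      rw [← mul_smul, hcomm, mul_smul, hc]
    obtain ⟨g, hg⟩ := MulAction.exists_smul_eq G c a
    -- conjugated involutions
    set x' := g * x * g⁻¹ with hx'
    set y' := g * y * g⁻¹ with hy'
    have hx'a : x' • a = a := by
      rw [hx', mul_smul, mul_smul, ← hg, inv_smul_smul, hc]
    have hy'a : y' • a = a := by
      rw [hy', mul_smul, mul_smul, ← hg, inv_smul_smul, hyc]
    have hx'2 : x' * x' = 1 := by
      calc x' * x' = g * (x * x) * g⁻¹ := by rw [hx']; group
        _ = 1 := by rw [hx2]; group
    have hy'2 : y' * y' = 1 := by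
      calc y' * y' = g * (y * y) * g⁻¹ := by rw [hy']; group
        _ = 1 := by rw [hy2]; group
    have hx'1 : x' ≠ 1 := by
      intro h
      apply hx1
      have : x = g⁻¹ * x' * g := by rw [hx']; group
      rw [this, h]; group
    have hy'1 : y' ≠ 1 := by
      intro h
      apply hy1
      have : y = g⁻¹ * y' * g := by rw [hy']; group
      rw [this, h]; group
    have hne' : x' ≠ y' := by
      intro h
      apply hxy
      have h1 : x = g⁻¹ * x' * g := by rw [hx']; group
      have h2 : y = g⁻¹ * y' * g := by rw [hy']; group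
      rw [h1, h2, h]
    have hcomm' : Commute x' y' := by
      change x' * y' = y' * x'
      calc x' * y' = g * (x * y) * g⁻¹ := by rw [hx', hy']; group
        _ = g * (y * x) * g⁻¹ := by rw [hcomm]
        _ = y' * x' := by rw [hx', hy']; group
    -- centralizers of involutions fixing a lie in the stabilizer
    have hcent : ∀ v : G, v ≠ 1 → v * v = 1 → v • a = a →
        Cfsg.pPrimeCore 2 G ⊓ Subgroup.centralizer {v} ≤ MulAction.stabilizer G a := by
      intro v hv1 hv2 hva k hk
      have hk2 : k ∈ Subgroup.centralizer {v} := (Subgroup.mem_inf.mp hk).2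
      rw [Subgroup.mem_centralizer_singleton_iff] at hk2
      rw [MulAction.mem_stabilizer_iff]
      apply invol_fix_eq hS hv1 hv2 _ hva
      rw [← mul_smul, ← hk2, mul_smul, hva]
    have hgen := Cfsg.Agent.helper15.le_iSup_centralizer_of_pair (p := 2) hcomm'
      (by rw [pow_two]; exact hx'2) (by rw [pow_two]; exact hy'2) (Cfsg.pPrimeCore 2 G)
      (by rw [Subgroup.normalizer_eq_top]; exact Subgroup.mem_top _)
      (by rw [Subgroup.normalizer_eq_top]; exact Subgroup.mem_top _)
      (by
        intro h
        have := Nat.Coprime.eq_one_of_dvd hOc.symm h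
        omega)
    refine le_trans hgen (sup_le (hcent y' hy'1 hy'2 hy'a) (iSup_le fun k => ?_))
    have hyk : y' ^ k = 1 ∨ y' ^ k = y' := by
      rcases Nat.even_or_odd' k with ⟨m, rfl | rfl⟩
      · left; rw [pow_mul, pow_two, hy'2, one_pow]
      · right; rw [pow_succ, pow_mul, pow_two, hy'2, one_pow, one_mul]
    rcases hyk with h | h
    · rw [h, mul_one]; exact hcent x' hx'1 hx'2 hx'a
    · rw [h]
      apply hcent (x' * y')
      · intro h1
        apply hne'
        have : x' = y'⁻¹ := eq_inv_of_mul_eq_one_left h1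
        rw [this]; exact inv_eq_of_mul_eq_one_right hy'2
      · calc x' * y' * (x' * y') = x' * (y' * x') * y' := by group
          _ = x' * (x' * y') * y' := by rw [hcomm'.eq]
          _ = (x' * x') * (y' * y') := by group
          _ = 1 := by rw [hx'2, hy'2, one_mul]
      · rw [mul_smul, hy'a, hx'a]
  · -- N ≤ O
    apply Cfsg.Agent.helper1.le_pPrimeCore hNnorm
    -- N lies in the two point stabilizer
    have hND : N ≤ MulAction.stabilizer G a ⊓ MulAction.stabilizer G (t • a) := by
      intro k hk
      refine Subgroup.mem_inf.mpr ⟨hNle hk, ?_⟩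
      rw [MulAction.mem_stabilizer_iff]
      have h1 : t⁻¹ * k * t⁻¹⁻¹ ∈ N := hNnorm.conj_mem k hk t⁻¹
      have h2 := hNle h1
      rw [MulAction.mem_stabilizer_iff, inv_inv, mul_smul, mul_smul] at h2
      have := congrArg (fun w => t • w) h2
      simpa using this
    have hdvd := Subgroup.card_dvd_of_le hND
    have hodd := hS.odd_card
    rw [Nat.coprime_two_right]
    exact Odd.of_dvd_nat hodd hdvd

end Cfsg.Agent.S1120
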