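import Mathlib
import Cfsg.Statements.S1122
import Cfsg.Agent.Lib_helper6_RankOne3
-- import your own Cfsg.Agent.* helpers here

set_option autoImplicit false
open Cfsg

namespace Cfsg.Agent.S1122


theorem conj_invol_mem {G Ω : Type*} [Group G] [MulAction G Ω] {a : Ω} {s k : G}
    (hs : s ∈ Cfsg.involutionsIn (MulAction.stabilizer G a : Set G))
    (hk : k ∈ MulAction.stabilizer G a) :
    k⁻¹ * s * k ∈ Cfsg.involutionsIn (MulAction.stabilizer G a : Set G) := by
  obtain ⟨hsa, hs1, hs2⟩ := hs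
  refine ⟨?_, ?_, ?_⟩
  · exact Subgroup.mul_mem _ (Subgroup.mul_mem _ (Subgroup.inv_mem _ hk) hsa) hk
  · intro h
    apply hs1
    have e : s = k * (k⁻¹ * s * k) * k⁻¹ := by group
    rw [e, h]; group
  · calc k⁻¹ * s * k * (k⁻¹ * s * k) = k⁻¹ * (s * s) * k := by group
      _ = 1 := by rw [hs2]; group

/-- In the rank-one set-up (`G` finite and doubly transitive on `Ω`, `t` an involution moving `a`, `Q` normal in `G_a` with `G_a = Q D`, `Q ⊓ D = 1` for the two-point stabiliser `D = G_a ⊓ G_{t • a}`, `|Q|` even, `|D|` odd), with `K` the set of elements of `D` inverted by `t`: `|K|` is the number of involutions of `G_a`, and for each involution `s` of `G_a` the `K`-conjugates of `s` are all the involutions of `G_a`. -/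
theorem result {G Ω : Type*} [Group G] [Finite G] [MulAction G Ω] {a : Ω} {t : G} {Q : Subgroup G}
    (hS : Cfsg.IsRankOneSetup G Ω a t Q) :
    Nat.card (Cfsg.invertedBy (MulAction.stabilizer G a ⊓ MulAction.stabilizer G (t • a)) t) = Nat.card (Cfsg.involutionsIn (MulAction.stabilizer G a : Set G)) ∧
      ∀ s ∈ Cfsg.involutionsIn (MulAction.stabilizer G a : Set G), ∀ s' ∈ Cfsg.involutionsIn (MulAction.stabilizer G a : Set G),
        ∃ k ∈ Cfsg.invertedBy (MulAction.stabilizer G a ⊓ MulAction.stabilizer G (t • a)) t, k⁻¹ * s * k = s' := by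
  have : Fact (Nat.Prime 2) := ⟨Nat.prime_two⟩
  have h2 : 2 ∣ Nat.card Q := hS.even_card.two_dvd
  obtain ⟨x, hx⟩ := exists_prime_orderOf_dvd_card' 2 h2
  have hx' : orderOf (x : G) = 2 := by rw [Subgroup.orderOf_coe]; exact hx
  have hs₀ : (x : G) ∈ Cfsg.involutionsIn (MulAction.stabilizer G a : Set G) := by
    refine ⟨hS.le x.2, ?_, ?_⟩
    · intro h
      rw [h, orderOf_one] at hx'
      exact absurd hx' (by decide)
    · have := pow_orderOf_eq_one (x : G)
      rwa [hx', sq] at this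
  refine ⟨?_, fun s hs s' hs' => helper6.RankOne.K_trans hS hs hs'⟩
  let φ : ↥(Cfsg.invertedBy (MulAction.stabilizer G a ⊓ MulAction.stabilizer G (t • a)) t) →
      ↥(Cfsg.involutionsIn (MulAction.stabilizer G a : Set G)) := fun k =>
    ⟨(k : G)⁻¹ * (x : G) * (k : G), conj_invol_mem hs₀ (helper6.RankOne.D_le_Ga k.2.1)⟩
  have hφ : Function.Bijective φ := by
    constructor
    · intro k₁ k₂ h
      have h' : (k₁ : G)⁻¹ * (x : G) * (k₁ : G) = (k₂ : G)⁻¹ * (x : G) * (k₂ : G) :=
        congrArg Subtype.val h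
      exact Subtype.ext (helper6.RankOne.K_unique hS hs₀ k₁.2 k₂.2 h')
    · rintro ⟨s', hs'⟩
      obtain ⟨k, hk, hks⟩ := helper6.RankOne.K_trans hS hs₀ hs'
      exact ⟨⟨k, hk⟩, Subtype.ext hks⟩
  exact Nat.card_congr (Equiv.ofBijective φ hφ)

end Cfsg.Agent.S1122
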