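import Mathlib
import Cfsg.Statements.S1123
import Cfsg.Agent.Lib_helper6_RankOne2
-- import your own Cfsg.Agent.* helpers here

set_option autoImplicit false
open Cfsg

namespace Cfsg.Agent.S1123

/-- In the rank-one set-up (`G` finite and doubly transitive on `Ω`, `t` an involution moving `a`, `Q` normal in `G_a` with `G_a = Q D`, `Q ⊓ D = 1` for the two-point stabiliser `D = G_a ⊓ G_{t • a}`, `|Q|` even, `|D|` odd), there is a unique pair `(s, r)` with `s` an involution of `G_a`, `r ∈ Q` and `t s t = r⁻¹ t r`. -/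
theorem result {G Ω : Type*} [Group G] [Finite G] [MulAction G Ω] {a : Ω} {t : G} {Q : Subgroup G}
    (hS : Cfsg.IsRankOneSetup G Ω a t Q) :
    ∃! p : G × G, p.1 ∈ Cfsg.involutionsIn (MulAction.stabilizer G a : Set G) ∧ p.2 ∈ Q ∧
      t * p.1 * t = p.2⁻¹ * t * p.2 := by
  have hti := helper6.RankOne.t_inv hS
  have htt := helper6.RankOne.tt_cancel hS
  obtain ⟨c₀, hc₀⟩ := helper6.RankOne.invol_exists_fix hS hS.mul_self
  have hc₀a : c₀ ≠ a := by
    rintro rfl
    exact helper6.RankOne.ta_ne hS hc₀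
  obtain ⟨r, hr, hrc⟩ := helper6.RankOne.Q_trans hS hc₀a
  have hfix : (r⁻¹ * t * r) • (t • a) = t • a := by
    rw [mul_smul, mul_smul, hrc, hc₀, ← hrc, inv_smul_smul]
  refine ⟨(t * (r⁻¹ * t * r) * t, r), ⟨⟨?_, ?_, ?_⟩, hr, ?_⟩, ?_⟩
  · show t * (r⁻¹ * t * r) * t ∈ MulAction.stabilizer G a
    rw [MulAction.mem_stabilizer_iff, mul_smul, mul_smul, hfix, helper6.RankOne.tta hS]
  · intro h
    change t * (r⁻¹ * t * r) * t = 1 at h
    have e : r⁻¹ * t * r = t * (t * (r⁻¹ * t * r) * t) * t := by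
      simp only [mul_assoc, htt, hS.mul_self, mul_one]
    rw [h, mul_one, hS.mul_self] at e
    apply hS.ne_one
    have e2 : t = r * (r⁻¹ * t * r) * r⁻¹ := by group
    rw [e2, e]; group
  · show t * (r⁻¹ * t * r) * t * (t * (r⁻¹ * t * r) * t) = 1
    simp only [mul_assoc, htt, mul_inv_cancel_left, inv_mul_cancel_left, hS.mul_self]
  · show t * (t * (r⁻¹ * t * r) * t) * t = r⁻¹ * t * r
    simp only [mul_assoc, htt, hS.mul_self, mul_one]
  · rintro ⟨s', r'⟩ ⟨⟨hs'a, hs'1, hs'2⟩, hr', he⟩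
    have hs'a' : s' • a = a := MulAction.mem_stabilizer_iff.mp hs'a
    have hfix' : (r'⁻¹ * t * r') • (t • a) = t • a := by
      change t * s' * t = r'⁻¹ * t * r' at he
      rw [← he, mul_smul, mul_smul, helper6.RankOne.tta hS, hs'a']
    have htfix : t • (r' • (t • a)) = r' • (t • a) := by
      have h1 : r' • ((r'⁻¹ * t * r') • (t • a)) = r' • (t • a) := by rw [hfix']
      rw [mul_smul, mul_smul, smul_inv_smul] at h1
      exact h1
    have h2 : r' • (t • a) = c₀ :=
      helper6.RankOne.invol_fix_eq hS hS.ne_one hS.mul_self htfix hc₀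
    have hrr : r' = r := helper6.RankOne.Q_unique hS (helper6.RankOne.ta_ne hS) hr' hr
      (by rw [h2, hrc])
    rw [Prod.mk.injEq]
    refine ⟨?_, hrr⟩
    change t * s' * t = r'⁻¹ * t * r' at he
    rw [← hrr, ← he]
    simp only [mul_assoc, htt, hS.mul_self, mul_one]

end Cfsg.Agent.S1123
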