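import Mathlib
import Cfsg.Statements.S1124
import Cfsg.Agent.Lib_helper6_Isolated
-- import your own Cfsg.Agent.* helpers here

set_option autoImplicit false
open scoped Pointwise
open Cfsg

namespace Cfsg.Agent.S1124


theorem sq_inj_of_odd {M : Type*} [Group M] {a b : M} (ha : Odd (orderOf a)) (hb : Odd (orderOf b))
    (h : a * a = b * b) : a = b := by
  obtain ⟨c, hc⟩ : ∃ c, c = a * a := ⟨_, rfl⟩
  have hac : a = c ^ ((orderOf a + 1) / 2) := by
    rw [hc]; exact Cfsg.Agent.helper6.eq_sq_pow_of_odd ha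
  have hbc : b = c ^ ((orderOf b + 1) / 2) := by
    rw [hc, h]; exact Cfsg.Agent.helper6.eq_sq_pow_of_odd hb
  have hco : Odd (orderOf c) := by
    have : orderOf c ∣ orderOf a := by
      rw [hc, ← pow_two]; exact orderOf_pow_dvd 2
    exact Odd.of_dvd_nat ha this
  have h1 : c ^ (2 * ((orderOf a + 1) / 2)) = c ^ 1 := by
    rw [pow_one, mul_comm 2, pow_mul, ← hac, pow_two, hc]
  have h2 : c ^ (2 * ((orderOf b + 1) / 2)) = c ^ 1 := by
    rw [pow_one, mul_comm 2, pow_mul, ← hbc, pow_two, hc, h]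
  rw [pow_eq_pow_iff_modEq] at h1 h2
  have h3 : 2 * ((orderOf a + 1) / 2) ≡ 2 * ((orderOf b + 1) / 2) [MOD orderOf c] := h1.trans h2.symm
  have h4 : (orderOf a + 1) / 2 ≡ (orderOf b + 1) / 2 [MOD orderOf c] :=
    Nat.ModEq.cancel_left_of_coprime (Nat.coprime_two_right.mpr hco) h3
  rw [hac, hbc]
  exact pow_eq_pow_iff_modEq.mpr h4

theorem key {M : Type*} [Group M] [Finite M]
    (t : M) (ht2 : t * t = 1) (X : Subgroup M) (hodd : Odd (Nat.card X))
    (hnorm : ∀ x ∈ X, t * x * t⁻¹ ∈ X) :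
    ∀ x ∈ X, ∃ y z, y ∈ X ⊓ Subgroup.centralizer {t} ∧ z ∈ Cfsg.invertedBy X t ∧ x = y * z ∧
      ∀ y₁ z₁, y₁ ∈ X ⊓ Subgroup.centralizer {t} → z₁ ∈ Cfsg.invertedBy X t → x = y₁ * z₁ →
        y₁ = y ∧ z₁ = z := by
  have hti : t⁻¹ = t := inv_eq_of_mul_eq_one_right ht2
  have hoddX : ∀ x ∈ X, Odd (orderOf x) := by
    intro x hx
    have h1 : orderOf (⟨x, hx⟩ : X) ∣ Nat.card X := orderOf_dvd_natCard _
    rw [Subgroup.orderOf_mk] at h1
    exact Odd.of_dvd_nat hodd h1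
  intro x hx
  obtain ⟨v, hv⟩ : ∃ v, v = (t * x * t⁻¹)⁻¹ * x := ⟨_, rfl⟩
  have hvX : v ∈ X := by rw [hv]; exact X.mul_mem (X.inv_mem (hnorm x hx)) hx
  have hvinv : t * v * t⁻¹ = v⁻¹ := by
    rw [hv]
    simp only [mul_inv_rev, inv_inv, hti, mul_assoc]
    rw [← mul_assoc t t, ht2, one_mul]
  obtain ⟨z, hz⟩ : ∃ z, z = v ^ ((orderOf v + 1) / 2) := ⟨_, rfl⟩
  have hvz : v = z * z := by
    have h := Cfsg.Agent.helper6.eq_sq_pow_of_odd (hoddX v hvX)
    rw [(Commute.refl v).mul_pow, ← hz] at h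
    exact h
  have hzX : z ∈ X := by rw [hz]; exact X.pow_mem hvX _
  have hzinv : t * z * t⁻¹ = z⁻¹ := by
    rw [hz, ← conj_pow, hvinv, inv_pow]
  have hconjx : t * x * t⁻¹ = x * v⁻¹ := by rw [hv]; group
  have hconjzi : t * z⁻¹ * t⁻¹ = z := by
    have : t * z⁻¹ * t⁻¹ = (t * z * t⁻¹)⁻¹ := by group
    rw [this, hzinv, inv_inv]
  have hy : t * (x * z⁻¹) * t⁻¹ = x * z⁻¹ := by
    have : t * (x * z⁻¹) * t⁻¹ = (t * x * t⁻¹) * (t * z⁻¹ * t⁻¹) := by group
    rw [this, hconjx, hconjzi, hvz]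
    group
  refine ⟨x * z⁻¹, z, ?_, ⟨hzX, hzinv⟩, by group, ?_⟩
  · refine Subgroup.mem_inf.mpr ⟨X.mul_mem hx (X.inv_mem hzX), ?_⟩
    rw [Subgroup.mem_centralizer_iff]
    intro h hh
    rw [Set.mem_singleton_iff] at hh
    rw [hh]
    have := hy
    rw [mul_inv_eq_iff_eq_mul] at this
    exact this
  · intro y₁ z₁ hy₁ hz₁ hxe
    obtain ⟨hy₁X, hy₁C⟩ := Subgroup.mem_inf.mp hy₁
    obtain ⟨hz₁X, hz₁inv⟩ := hz₁
    have hy₁t : t * y₁ * t⁻¹ = y₁ := by
      rw [Subgroup.mem_centralizer_iff] at hy₁C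
      have := hy₁C t (Set.mem_singleton t)
      rw [mul_inv_eq_iff_eq_mul]
      exact this
    have hv2 : v = z₁ * z₁ := by
      have e : t * x * t⁻¹ = (t * y₁ * t⁻¹) * (t * z₁ * t⁻¹) := by rw [hxe]; group
      rw [hv, e, hy₁t, hz₁inv, hxe]
      group
    have hzz : z₁ = z := by
      apply sq_inj_of_odd (hoddX z₁ hz₁X) (hoddX z hzX)
      rw [← hv2, ← hvz]
    refine ⟨?_, hzz⟩
    rw [hxe, hzz]; group

/-- Let `t` be an element of order 2 of a finite group normalising a subgroup `X` of odd order, `Y = C_X(t)` and `Z` the set of elements of `X` inverted by `t`. Then `(y, z) ↦ y z` is a bijection `Y × Z → X`, so `|X| = |Y| |Z|`, and the subgroup generated by `Z` is normal in `X`. -/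
theorem result {M : Type*} [Group M] [Finite M]
    (t : M) (ht : orderOf t = 2) (X : Subgroup M) (hodd : Odd (Nat.card X))
    (hnorm : ∀ x ∈ X, t * x * t⁻¹ ∈ X) :
    (∀ x ∈ X, ∃! p : M × M, p.1 ∈ X ⊓ Subgroup.centralizer {t} ∧ p.2 ∈ Cfsg.invertedBy X t ∧ x = p.1 * p.2) ∧
      Nat.card X = Nat.card ↥(X ⊓ Subgroup.centralizer {t}) * Nat.card (Cfsg.invertedBy X t) ∧
      ∀ x ∈ X, MulAut.conj x • Subgroup.closure (Cfsg.invertedBy X t) = Subgroup.closure (Cfsg.invertedBy X t) := by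
  have ht2 : t * t = 1 := by
    have := pow_orderOf_eq_one t
    rwa [ht, sq] at this
  have hti : t⁻¹ = t := inv_eq_of_mul_eq_one_right ht2
  have hkey := key t ht2 X hodd hnorm
  refine ⟨?_, ?_, ?_⟩
  · intro x hx
    obtain ⟨y, z, hy, hz, hxyz, huniq⟩ := hkey x hx
    refine ⟨(y, z), ⟨hy, hz, hxyz⟩, ?_⟩
    rintro ⟨y₁, z₁⟩ ⟨h1, h2, h3⟩
    obtain ⟨e1, e2⟩ := huniq y₁ z₁ h1 h2 h3
    simp only [Prod.mk.injEq]
    exact ⟨e1, e2⟩
  · let f : ↥(X ⊓ Subgroup.centralizer {t}) × ↥(Cfsg.invertedBy X t) → ↥X := fun p =>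
      ⟨p.1.1 * p.2.1, X.mul_mem (Subgroup.mem_inf.mp p.1.2).1 p.2.2.1⟩
    have hf : Function.Bijective f := by
      constructor
      · rintro ⟨⟨y₁, hy₁⟩, ⟨z₁, hz₁⟩⟩ ⟨⟨y₂, hy₂⟩, ⟨z₂, hz₂⟩⟩ hpq
        have hpq' : y₁ * z₁ = y₂ * z₂ := congrArg Subtype.val hpq
        have hxX : y₁ * z₁ ∈ X := X.mul_mem (Subgroup.mem_inf.mp hy₁).1 hz₁.1
        obtain ⟨y, z, -, -, -, huniq⟩ := hkey _ hxX
        obtain ⟨e1, e2⟩ := huniq y₁ z₁ hy₁ hz₁ rfl
        obtain ⟨e3, e4⟩ := huniq y₂ z₂ hy₂ hz₂ hpq'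
        subst e1 e2
        subst e3 e4
        rfl
      · rintro ⟨x, hx⟩
        obtain ⟨y, z, hy, hz, hxyz, -⟩ := hkey x hx
        exact ⟨(⟨y, hy⟩, ⟨z, hz⟩), Subtype.ext hxyz.symm⟩
    have := Nat.card_congr (Equiv.ofBijective f hf)
    rw [Nat.card_prod] at this
    exact this.symm
  · have hZsub : ∀ z ∈ Cfsg.invertedBy X t, z ∈ Subgroup.closure (Cfsg.invertedBy X t) :=
      fun z hz => Subgroup.subset_closure hz
    have hYconj : ∀ y ∈ X ⊓ Subgroup.centralizer {t}, ∀ g ∈ Subgroup.closure (Cfsg.invertedBy X t),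
        y * g * y⁻¹ ∈ Subgroup.closure (Cfsg.invertedBy X t) := by
      intro y hy g hg
      obtain ⟨hyX, hyC⟩ := Subgroup.mem_inf.mp hy
      have hyt : t * y = y * t := by
        rw [Subgroup.mem_centralizer_iff] at hyC
        exact hyC t (Set.mem_singleton t)
      have hle : Subgroup.closure (Cfsg.invertedBy X t) ≤
          (Subgroup.closure (Cfsg.invertedBy X t)).comap (MulAut.conj y).toMonoidHom := by
        rw [Subgroup.closure_le]
        intro z hz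
        rw [SetLike.mem_coe, Subgroup.mem_comap]
        apply Subgroup.subset_closure
        refine ⟨?_, ?_⟩
        · simp only [MulEquiv.coe_toMonoidHom, MulAut.conj_apply]
          exact X.mul_mem (X.mul_mem hyX hz.1) (X.inv_mem hyX)
        · simp only [MulEquiv.coe_toMonoidHom, MulAut.conj_apply]
          have hyt' : t * y⁻¹ = y⁻¹ * t := by
            calc t * y⁻¹ = y⁻¹ * (y * t) * y⁻¹ := by group
              _ = y⁻¹ * (t * y) * y⁻¹ := by rw [hyt]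
              _ = y⁻¹ * t := by group
          calc t * (y * z * y⁻¹) * t⁻¹ = (t * y) * z * (y⁻¹ * t⁻¹) := by group
            _ = (y * t) * z * (y⁻¹ * t⁻¹) := by rw [hyt]
            _ = y * (t * z * t⁻¹) * (t * y⁻¹) * t⁻¹ := by group
            _ = y * z⁻¹ * (y⁻¹ * t) * t⁻¹ := by rw [hz.2, hyt']
            _ = (y * z * y⁻¹)⁻¹ := by group
      have := hle hg
      rw [Subgroup.mem_comap] at this
      simpa [MulAut.conj_apply] using this
    have hXconj : ∀ x ∈ X, ∀ g ∈ Subgroup.closure (Cfsg.invertedBy X t),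
        x * g * x⁻¹ ∈ Subgroup.closure (Cfsg.invertedBy X t) := by
      intro x hx g hg
      obtain ⟨y, z, hy, hz, hxyz, -⟩ := hkey x hx
      have e : x * g * x⁻¹ = y * (z * g * z⁻¹) * y⁻¹ := by rw [hxyz]; group
      rw [e]
      apply hYconj y hy
      exact Subgroup.mul_mem _ (Subgroup.mul_mem _ (hZsub z hz) hg) (Subgroup.inv_mem _ (hZsub z hz))
    intro x hx
    ext g
    rw [Subgroup.mem_pointwise_smul_iff_inv_smul_mem]
    have e : (MulAut.conj x)⁻¹ • g = x⁻¹ * g * x := by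
      simp [MulAut.smul_def]
    rw [e]
    constructor
    · intro h
      have := hXconj x hx _ h
      have e2 : x * (x⁻¹ * g * x) * x⁻¹ = g := by group
      rwa [e2] at this
    · intro h
      have := hXconj x⁻¹ (X.inv_mem hx) g h
      rwa [inv_inv] at this

end Cfsg.Agent.S1124
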