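import Mathlib
import Cfsg.Statements.S1126
import Cfsg.Agent.Lib_helper6_RankOne3
import Cfsg.Agent.Lib_helper6_Isolated
import Cfsg.Agent.S1125
-- import your own Cfsg.Agent.* helpers here

set_option autoImplicit false
open Cfsg

namespace Cfsg.Agent.S1126

/-- In the rank-one set-up (`G` finite and doubly transitive on `Ω`, `t` an involution moving `a`, `Q` normal in `G_a` with `G_a = Q D`, `Q ⊓ D = 1` for the two-point stabiliser `D = G_a ⊓ G_{t • a}`, `|Q|` even, `|D|` odd), a subset `X ⊆ D` fixing at least three points of `Ω` is conjugate by an element of `D` into `V = C_D(t)`. -/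
theorem result {G Ω : Type*} [Group G] [Finite G] [MulAction G Ω] {a : Ω} {t : G} {Q : Subgroup G}
    (hS : Cfsg.IsRankOneSetup G Ω a t Q)
    (X : Set G) (hX : X ⊆ ((MulAction.stabilizer G a ⊓ MulAction.stabilizer G (t • a)) : Set G))
    (h3 : ∃ b c d : Ω, b ≠ c ∧ b ≠ d ∧ c ≠ d ∧ ∀ x ∈ X, x • b = b ∧ x • c = c ∧ x • d = d) :
    ∃ k ∈ (MulAction.stabilizer G a ⊓ MulAction.stabilizer G (t • a)), ∀ x ∈ X, (k * x * k⁻¹) * t = t * (k * x * k⁻¹) := by
  have hXa : ∀ x ∈ X, x • a = a := fun x hx => helper6.RankOne.D_fix_a (hX hx)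
  have hXb : ∀ x ∈ X, x • (t • a) = t • a := fun x hx => helper6.RankOne.D_fix_ta (hX hx)
  have hti := helper6.RankOne.t_inv hS
  obtain ⟨u', hu', hu'1, hu'2⟩ := Cfsg.Agent.S1125.exists_invol_cent_Q hS X hX h3
  obtain ⟨hu'C, hu'Q⟩ := Subgroup.mem_inf.mp hu'
  have hu'a : u' • a = a := helper6.RankOne.Q_fix_a hS hu'Q
  obtain ⟨h, hh, hha⟩ := Cfsg.Agent.S1125.cent_trans hS X h3 hXa hXb
  obtain ⟨u'', hu''⟩ : ∃ u'', u'' = h * u' * h⁻¹ := ⟨_, rfl⟩
  have hu''1 : u'' ≠ 1 := by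
    intro h1
    apply hu'1
    have e' : u' = h⁻¹ * (h * u' * h⁻¹) * h := by group
    rw [e', ← hu'', h1]; group
  have hu''2 : u'' * u'' = 1 := by
    rw [hu'']
    calc h * u' * h⁻¹ * (h * u' * h⁻¹) = h * (u' * u') * h⁻¹ := by group
      _ = 1 := by rw [hu'2]; group
  have hu''b : u'' • (t • a) = t • a := by
    rw [hu'', mul_smul, mul_smul, ← hha, inv_smul_smul, hu'a]
  have hu''C : u'' ∈ Subgroup.centralizer X := by
    rw [hu'']
    exact Subgroup.mul_mem _ (Subgroup.mul_mem _ hh hu'C) (Subgroup.inv_mem _ hh)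
  have hu''a : u'' • a ≠ a := fun h1 =>
    helper6.RankOne.ta_ne hS (helper6.RankOne.invol_fix_eq hS hu''1 hu''2 hu''b h1)
  have hodd := helper6.RankOne.odd_orderOf_mul hS hu'1 hu'2 hu''1 hu''2 hu'a hu''a
  obtain ⟨u₀, hu₀2, hu₀1, -, hu₀c⟩ := helper6.RankOne.dihedral_swap hu'2 hu''2 hodd
  obtain ⟨hu₀a, -⟩ := helper6.RankOne.swap_of_conj hS hu'a hu''1 hu''2 hu''b hu₀2 hu₀1
  obtain ⟨hkD, hkinv⟩ := helper6.RankOne.mem_K_of_swap hS hu₀2 hu₀a
  have hu₀X : ∀ x ∈ X, x * u₀ = u₀ * x := by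
    intro x hx
    rw [Subgroup.mem_centralizer_iff] at hu'C hu''C
    exact hu₀c x (hu'C x hx) (hu''C x hx)
  obtain ⟨k, hk⟩ : ∃ k, k = t * u₀ := ⟨_, rfl⟩
  rw [← hk] at hkD hkinv
  have hkodd : Odd (orderOf k) := helper6.RankOne.odd_orderOf_D hS hkD
  obtain ⟨l, hl⟩ : ∃ l, l = k ^ ((orderOf k + 1) / 2) := ⟨_, rfl⟩
  have hll : k = l * l := by
    have h1 := helper6.eq_sq_pow_of_odd hkodd
    rw [(Commute.refl k).mul_pow, ← hl] at h1
    exact h1
  have hlD : l ∈ MulAction.stabilizer G a ⊓ MulAction.stabilizer G (t • a) := by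
    rw [hl]; exact Subgroup.pow_mem _ hkD _
  have hlinv : t * l * t⁻¹ = l⁻¹ := by
    rw [hl, ← conj_pow, hkinv, inv_pow]
  have htl : t * l = l⁻¹ * t := by
    rw [mul_inv_eq_iff_eq_mul] at hlinv
    exact hlinv
  have hu₀ : u₀ = l⁻¹ * t * l := by
    have e1 : u₀ = t * k := by
      rw [hk, helper6.RankOne.tt_cancel hS]
    rw [e1, hll, ← mul_assoc, htl]
  refine ⟨l, hlD, ?_⟩
  intro x hx
  have hx' := hu₀X x hx
  rw [hu₀] at hx'
  calc l * x * l⁻¹ * t = l * (x * (l⁻¹ * t * l)) * l⁻¹ := by group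
    _ = l * ((l⁻¹ * t * l) * x) * l⁻¹ := by rw [hx']
    _ = t * (l * x * l⁻¹) := by group

end Cfsg.Agent.S1126
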