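import Mathlib
import Cfsg.Statements.S1127
import Cfsg.Agent.Lib_helper6_RankOne3
import Cfsg.Agent.S1123
import Cfsg.Agent.S1124
-- import your own Cfsg.Agent.* helpers here

set_option autoImplicit false
open Cfsg

namespace Cfsg.Agent.S1127


theorem mem_inf_cent_singleton {G : Type*} [Group G] {H : Subgroup G} {d x : G} :
    d ∈ H ⊓ Subgroup.centralizer {x} ↔ d ∈ H ∧ x * d = d * x := by
  rw [Subgroup.mem_inf, Subgroup.mem_centralizer_iff]
  constructor
  · rintro ⟨h1, h2⟩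
    exact ⟨h1, h2 x rfl⟩
  · rintro ⟨h1, h2⟩
    refine ⟨h1, fun h hh => ?_⟩
    rw [Set.mem_singleton_iff.mp hh]
    exact h2

theorem conj_invol_mem {G Ω : Type*} [Group G] [MulAction G Ω] {a : Ω} {s k : G}
    (hs : s ∈ Cfsg.involutionsIn (MulAction.stabilizer G a : Set G))
    (hk : k ∈ MulAction.stabilizer G a) :
    k * s * k⁻¹ ∈ Cfsg.involutionsIn (MulAction.stabilizer G a : Set G) := by
  obtain ⟨hsa, hs1, hs2⟩ := hs
  refine ⟨?_, ?_, ?_⟩
  · exact Subgroup.mul_mem _ (Subgroup.mul_mem _ hk hsa) (Subgroup.inv_mem _ hk)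
  · intro h
    apply hs1
    have e : s = k⁻¹ * (k * s * k⁻¹) * k := by group
    rw [e, h]; group
  · calc k * s * k⁻¹ * (k * s * k⁻¹) = k * (s * s) * k⁻¹ := by group
      _ = 1 := by rw [hs2]; group

section
variable {G Ω : Type*} [Group G] [Finite G] [MulAction G Ω] {a : Ω} {t : G} {Q : Subgroup G}

theorem cent_t_imp_cent_s (hS : Cfsg.IsRankOneSetup G Ω a t Q) {s r : G}
    (hs : s ∈ Cfsg.involutionsIn (MulAction.stabilizer G a : Set G)) (hr : r ∈ Q)
    (he : t * s * t = r⁻¹ * t * r) {d : G}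
    (hd : d ∈ MulAction.stabilizer G a ⊓ MulAction.stabilizer G (t • a)) (hdt : t * d = d * t) :
    s * d = d * s := by
  have hdt' : d⁻¹ * t = t * d⁻¹ := by
    calc d⁻¹ * t = d⁻¹ * (t * d) * d⁻¹ := by group
      _ = d⁻¹ * (d * t) * d⁻¹ := by rw [hdt]
      _ = t * d⁻¹ := by group
  have hdtd : d * t * d⁻¹ = t := by rw [← hdt]; group
  have e1 : t * (d * s * d⁻¹) * t = (d * r * d⁻¹)⁻¹ * t * (d * r * d⁻¹) := by
    calc t * (d * s * d⁻¹) * t = (t * d) * s * (d⁻¹ * t) := by group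
      _ = (d * t) * s * (t * d⁻¹) := by rw [hdt, hdt']
      _ = d * (t * s * t) * d⁻¹ := by group
      _ = d * (r⁻¹ * t * r) * d⁻¹ := by rw [he]
      _ = (d * r * d⁻¹)⁻¹ * (d * t * d⁻¹) * (d * r * d⁻¹) := by group
      _ = (d * r * d⁻¹)⁻¹ * t * (d * r * d⁻¹) := by rw [hdtd]
  have huniq := (Cfsg.Agent.S1123.result hS).unique (y₁ := (d * s * d⁻¹, d * r * d⁻¹))
    (y₂ := (s, r)) ⟨conj_invol_mem hs (helper6.RankOne.D_le_Ga hd),
      helper6.RankOne.D_conj_Q hS hd hr, e1⟩ ⟨hs, hr, he⟩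
  have h1 : d * s * d⁻¹ = s := (Prod.mk.injEq _ _ _ _ ▸ huniq).1
  calc s * d = (d * s * d⁻¹) * d := by rw [h1]
    _ = d * s := by group

theorem one_mem_K :
    (1 : G) ∈ Cfsg.invertedBy (MulAction.stabilizer G a ⊓ MulAction.stabilizer G (t • a)) t := by
  refine ⟨Subgroup.one_mem _, ?_⟩
  simp

theorem order_t (hS : Cfsg.IsRankOneSetup G Ω a t Q) : orderOf t = 2 := by
  have : Fact (Nat.Prime 2) := ⟨Nat.prime_two⟩
  exact orderOf_eq_prime (by rw [sq]; exact hS.mul_self) hS.ne_one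

theorem D_decomp (hS : Cfsg.IsRankOneSetup G Ω a t Q) {d : G}
    (hd : d ∈ MulAction.stabilizer G a ⊓ MulAction.stabilizer G (t • a)) :
    ∃ y z : G, y ∈ (MulAction.stabilizer G a ⊓ MulAction.stabilizer G (t • a)) ⊓
        Subgroup.centralizer {t} ∧
      z ∈ Cfsg.invertedBy (MulAction.stabilizer G a ⊓ MulAction.stabilizer G (t • a)) t ∧
      d = y * z := by
  have hnorm : ∀ x ∈ MulAction.stabilizer G a ⊓ MulAction.stabilizer G (t • a),
      t * x * t⁻¹ ∈ MulAction.stabilizer G a ⊓ MulAction.stabilizer G (t • a) := by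
    intro x hx
    rw [helper6.RankOne.t_inv hS]
    exact helper6.RankOne.t_conj_D hS hx
  obtain ⟨⟨y, z⟩, ⟨hy, hz, hdyz⟩, -⟩ :=
    (Cfsg.Agent.S1124.result t (order_t hS) _ hS.odd_card hnorm).1 d hd
  exact ⟨y, z, hy, hz, hdyz⟩

theorem cent_s_imp_cent_t (hS : Cfsg.IsRankOneSetup G Ω a t Q) {s r : G}
    (hs : s ∈ Cfsg.involutionsIn (MulAction.stabilizer G a : Set G)) (hr : r ∈ Q)
    (he : t * s * t = r⁻¹ * t * r) {d : G}
    (hd : d ∈ MulAction.stabilizer G a ⊓ MulAction.stabilizer G (t • a)) (hds : s * d = d * s) :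
    t * d = d * t := by
  obtain ⟨y, z, hy, hz, hdyz⟩ := D_decomp hS hd
  obtain ⟨hyD, hyt⟩ := mem_inf_cent_singleton.mp hy
  have hys : s * y = y * s := cent_t_imp_cent_s hS hs hr he hyD hyt
  have hzs : z⁻¹ * s * z = 1⁻¹ * s * 1 := by
    have hz' : z = y⁻¹ * d := by rw [hdyz]; group
    have hys' : y⁻¹ * s = s * y⁻¹ := by
      calc y⁻¹ * s = y⁻¹ * (s * y) * y⁻¹ := by group
        _ = y⁻¹ * (y * s) * y⁻¹ := by rw [hys]
        _ = s * y⁻¹ := by group
    calc z⁻¹ * s * z = z⁻¹ * s * (y⁻¹ * d) := by rw [← hz']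
      _ = z⁻¹ * (s * y⁻¹) * d := by group
      _ = z⁻¹ * (y⁻¹ * s) * d := by rw [hys']
      _ = z⁻¹ * y⁻¹ * (s * d) := by group
      _ = z⁻¹ * y⁻¹ * (d * s) := by rw [hds]
      _ = z⁻¹ * (y⁻¹ * d) * s := by group
      _ = z⁻¹ * z * s := by rw [← hz']
      _ = 1⁻¹ * s * 1 := by group
  have hz1 : z = 1 := helper6.RankOne.K_unique hS hs hz one_mem_K hzs
  rw [hdyz, hz1, mul_one]
  exact hyt

end

/-- In the rank-one set-up (`G` finite and doubly transitive on `Ω`, `t` an involution moving `a`, `Q` normal in `G_a` with `G_a = Q D`, `Q ⊓ D = 1` for the two-point stabiliser `D = G_a ⊓ G_{t • a}`, `|Q|` even, `|D|` odd): if `s` is an involution of `G_a` and `r ∈ Q` satisfy `t s t = r⁻¹ t r`, then `C_D(t) = C_D(s)`; moreover `C_D(t) ⊓ C_D(K) = C_D(I ∩ G_a)`, where `K` is the set of elements of `D` inverted by `t` and `I ∩ G_a` the set of involutions of `G_a`. -/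
theorem result {G Ω : Type*} [Group G] [Finite G] [MulAction G Ω] {a : Ω} {t : G} {Q : Subgroup G}
    (hS : Cfsg.IsRankOneSetup G Ω a t Q) :
    (∀ s r : G, s ∈ Cfsg.involutionsIn (MulAction.stabilizer G a : Set G) → r ∈ Q → t * s * t = r⁻¹ * t * r →
        (MulAction.stabilizer G a ⊓ MulAction.stabilizer G (t • a)) ⊓ Subgroup.centralizer {t} = (MulAction.stabilizer G a ⊓ MulAction.stabilizer G (t • a)) ⊓ Subgroup.centralizer {s}) ∧
      (MulAction.stabilizer G a ⊓ MulAction.stabilizer G (t • a)) ⊓ Subgroup.centralizer {t} ⊓ Subgroup.centralizer (Cfsg.invertedBy (MulAction.stabilizer G a ⊓ MulAction.stabilizer G (t • a)) t) =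
        (MulAction.stabilizer G a ⊓ MulAction.stabilizer G (t • a)) ⊓ Subgroup.centralizer (Cfsg.involutionsIn (MulAction.stabilizer G a : Set G)) := by
  have part1 : ∀ s r : G, s ∈ Cfsg.involutionsIn (MulAction.stabilizer G a : Set G) → r ∈ Q →
      t * s * t = r⁻¹ * t * r →
      (MulAction.stabilizer G a ⊓ MulAction.stabilizer G (t • a)) ⊓ Subgroup.centralizer {t} =
        (MulAction.stabilizer G a ⊓ MulAction.stabilizer G (t • a)) ⊓ Subgroup.centralizer {s} := by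
    intro s r hs hr he
    ext d
    rw [mem_inf_cent_singleton, mem_inf_cent_singleton]
    constructor
    · rintro ⟨hd, hdt⟩
      exact ⟨hd, cent_t_imp_cent_s hS hs hr he hd hdt⟩
    · rintro ⟨hd, hds⟩
      exact ⟨hd, cent_s_imp_cent_t hS hs hr he hd hds⟩
  refine ⟨part1, ?_⟩
  obtain ⟨⟨s, r⟩, ⟨hs, hr, he⟩, -⟩ := Cfsg.Agent.S1123.result hS
  change t * s * t = r⁻¹ * t * r at he
  ext d
  constructor
  · intro hd
    obtain ⟨hd1, hdK⟩ := Subgroup.mem_inf.mp hd
    obtain ⟨hdD, hdt⟩ := mem_inf_cent_singleton.mp hd1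
    refine Subgroup.mem_inf.mpr ⟨hdD, ?_⟩
    rw [Subgroup.mem_centralizer_iff]
    intro s' hs'
    obtain ⟨k, hk, hks⟩ := helper6.RankOne.K_trans hS hs hs'
    have hds : s * d = d * s := cent_t_imp_cent_s hS hs hr he hdD hdt
    have hdk : k * d = d * k := by
      rw [Subgroup.mem_centralizer_iff] at hdK
      exact hdK k hk
    have hdk' : k⁻¹ * d = d * k⁻¹ := by
      calc k⁻¹ * d = k⁻¹ * (d * k) * k⁻¹ := by group
        _ = k⁻¹ * (k * d) * k⁻¹ := by rw [hdk]
        _ = d * k⁻¹ := by group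
    rw [← hks]
    calc k⁻¹ * s * k * d = k⁻¹ * s * (k * d) := by group
      _ = k⁻¹ * s * (d * k) := by rw [hdk]
      _ = k⁻¹ * (s * d) * k := by group
      _ = k⁻¹ * (d * s) * k := by rw [hds]
      _ = (k⁻¹ * d) * s * k := by group
      _ = (d * k⁻¹) * s * k := by rw [hdk']
      _ = d * (k⁻¹ * s * k) := by group
  · intro hd
    obtain ⟨hdD, hdI⟩ := Subgroup.mem_inf.mp hd
    rw [Subgroup.mem_centralizer_iff] at hdI
    have hds : s * d = d * s := hdI s hs
    have hdt : t * d = d * t := cent_s_imp_cent_t hS hs hr he hdD hds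
    refine Subgroup.mem_inf.mpr ⟨mem_inf_cent_singleton.mpr ⟨hdD, hdt⟩, ?_⟩
    rw [Subgroup.mem_centralizer_iff]
    intro k hk
    obtain ⟨h₁1, h₁2, h₁b⟩ := helper6.RankOne.tst_props hS hs
    obtain ⟨hkD, hkinv⟩ := hk
    rw [helper6.RankOne.t_inv hS] at hkinv
    have hs'mem : k⁻¹ * s * k ∈ Cfsg.involutionsIn (MulAction.stabilizer G a : Set G) := by
      have := conj_invol_mem hs (Subgroup.inv_mem _ (helper6.RankOne.D_le_Ga hkD))
      rwa [inv_inv] at this
    have hds' : (k⁻¹ * s * k) * d = d * (k⁻¹ * s * k) := hdI _ hs'mem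
    have hu2 : (t * k) * (t * k) = 1 := (helper6.RankOne.K_invol hS ⟨hkD, by rw [helper6.RankOne.t_inv hS]; exact hkinv⟩).1
    have hu : (t * k) * (t * s * t) * (t * k) = k⁻¹ * s * k := by
      calc (t * k) * (t * s * t) * (t * k) = (t * k * t) * s * (t * t) * k := by group
        _ = k⁻¹ * s * k := by rw [hkinv, hS.mul_self, mul_one]
    have hdi : d⁻¹ * (t * s * t) * d = t * s * t := by
      have hdt' : d⁻¹ * t = t * d⁻¹ := by
        calc d⁻¹ * t = d⁻¹ * (t * d) * d⁻¹ := by group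
          _ = d⁻¹ * (d * t) * d⁻¹ := by rw [hdt]
          _ = t * d⁻¹ := by group
      calc d⁻¹ * (t * s * t) * d = (d⁻¹ * t) * s * (t * d) := by group
        _ = (t * d⁻¹) * s * (d * t) := by rw [hdt', hdt]
        _ = t * d⁻¹ * (s * d) * t := by group
        _ = t * d⁻¹ * (d * s) * t := by rw [hds]
        _ = t * s * t := by group
    have hv2 : (d * (t * k) * d⁻¹) * (d * (t * k) * d⁻¹) = 1 := by
      calc (d * (t * k) * d⁻¹) * (d * (t * k) * d⁻¹) = d * ((t * k) * (t * k)) * d⁻¹ := by group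
        _ = 1 := by rw [hu2]; group
    have hv : (d * (t * k) * d⁻¹) * (t * s * t) * (d * (t * k) * d⁻¹) = k⁻¹ * s * k := by
      calc (d * (t * k) * d⁻¹) * (t * s * t) * (d * (t * k) * d⁻¹)
          = d * ((t * k) * (d⁻¹ * (t * s * t) * d) * (t * k)) * d⁻¹ := by group
        _ = d * (k⁻¹ * s * k) * d⁻¹ := by rw [hdi, hu]
        _ = ((k⁻¹ * s * k) * d) * d⁻¹ := by rw [hds']
        _ = k⁻¹ * s * k := by group
    have huniq := helper6.RankOne.swap_invol_unique hS hs'mem h₁1 h₁2 h₁b hv2 hv hu2 hu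
    have e1 : d * t * k * d⁻¹ = t * k := by
      rw [← huniq]; group
    rw [← hdt] at e1
    have e2 : t * (d * k * d⁻¹) = t * k := by rw [← e1]; group
    have e3 : d * k * d⁻¹ = k := mul_left_cancel e2
    calc k * d = (d * k * d⁻¹) * d := by rw [e3]
      _ = d * k := by group

end Cfsg.Agent.S1127
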