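import Mathlib
import Cfsg.Statements.S1128
import Cfsg.Agent.Lib_helper6_RankOne4
-- import your own Cfsg.Agent.* helpers here

set_option autoImplicit false
open Cfsg

namespace Cfsg.Agent.S1128

/-- In the rank-one set-up (`G` finite and doubly transitive on `Ω`, `t` an involution moving `a`, `Q` normal in `G_a` with `G_a = Q D`, `Q ⊓ D = 1` for the two-point stabiliser `D = G_a ⊓ G_{t • a}`, `|Q|` even, `|D|` odd), with the action faithful and `G` containing two distinct commuting involutions: every non-identity element of `D` inverted by `t` acts fixed-point-freely on `Q`. -/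
theorem result {G Ω : Type*} [Group G] [Finite G] [MulAction G Ω] [FaithfulSMul G Ω] {a : Ω} {t : G} {Q : Subgroup G}
    (hS : Cfsg.IsRankOneSetup G Ω a t Q)
    (h2 : ∃ x y : G, x ≠ 1 ∧ y ≠ 1 ∧ x ≠ y ∧ x * x = 1 ∧ y * y = 1 ∧ x * y = y * x)
    (x : G) (hx : x ∈ Cfsg.invertedBy (MulAction.stabilizer G a ⊓ MulAction.stabilizer G (t • a)) t) (hx1 : x ≠ 1) :
    Q ⊓ Subgroup.centralizer {x} = ⊥ := by
  rw [Subgroup.eq_bot_iff_forall]
  intro y hy
  by_contra hy1
  obtain ⟨hyQ, hyC⟩ := Subgroup.mem_inf.mp hy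
  have hxy : x * y = y * x := by
    rw [Subgroup.mem_centralizer_iff] at hyC
    exact hyC x rfl
  obtain ⟨hxD, hxinv⟩ := hx
  have hXD : ({x} : Set G) ⊆ ((MulAction.stabilizer G a ⊓ MulAction.stabilizer G (t • a) :
      Subgroup G) : Set G) := by
    intro z hz
    rw [Set.mem_singleton_iff.mp hz]
    exact hxD
  have h3 : ∃ b c d : Ω, b ≠ c ∧ b ≠ d ∧ c ≠ d ∧
      ∀ z ∈ ({x} : Set G), z • b = b ∧ z • c = c ∧ z • d = d := by
    refine ⟨a, t • a, y • (t • a), (helper6.RankOne.ta_ne hS).symm,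
      (helper6.RankOne.smul_ta_ne hS hyQ).symm, ?_, ?_⟩
    · intro h
      exact hy1 (helper6.RankOne.Q_free hS hyQ (helper6.RankOne.ta_ne hS) h.symm)
    · intro z hz
      rw [Set.mem_singleton_iff.mp hz]
      refine ⟨helper6.RankOne.D_fix_a hxD, helper6.RankOne.D_fix_ta hxD, ?_⟩
      rw [smul_smul, hxy, mul_smul, helper6.RankOne.D_fix_ta hxD]
  obtain ⟨u₀, hu₀2, hu₀a, hu₀c⟩ := helper6.RankOne.exists_swap_invol_cent hS _ hXD h3
  have hxu : x * u₀ = u₀ * x := hu₀c x rfl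
  have hu₀i : u₀⁻¹ = u₀ := inv_eq_of_mul_eq_one_right hu₀2
  obtain ⟨hkD, -⟩ := helper6.RankOne.mem_K_of_swap hS hu₀2 hu₀a
  have hkx : (t * u₀) * x * (t * u₀)⁻¹ = x⁻¹ := by
    rw [← hxinv]
    calc (t * u₀) * x * (t * u₀)⁻¹ = t * (u₀ * x) * u₀⁻¹ * t⁻¹ := by group
      _ = t * (x * u₀) * u₀⁻¹ * t⁻¹ := by rw [hxu]
      _ = t * x * t⁻¹ := by group
  obtain ⟨k, hk⟩ : ∃ k, k = t * u₀ := ⟨_, rfl⟩
  rw [← hk] at hkD hkx
  have hkk : (k * k) * x = x * (k * k) := by
    have h1 : k * x = x⁻¹ * k := by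
      rw [← hkx]; group
    have h2 : k * x⁻¹ = x * k := by
      have : k * x⁻¹ * k⁻¹ = x := by
        have : k * x⁻¹ * k⁻¹ = (k * x * k⁻¹)⁻¹ := by group
        rw [this, hkx, inv_inv]
      calc k * x⁻¹ = (k * x⁻¹ * k⁻¹) * k := by group
        _ = x * k := by rw [this]
    calc (k * k) * x = k * (k * x) := by group
      _ = k * (x⁻¹ * k) := by rw [h1]
      _ = (k * x⁻¹) * k := by group
      _ = (x * k) * k := by rw [h2]
      _ = x * (k * k) := by group
  have hkodd := helper6.RankOne.odd_orderOf_D hS hkD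
  have hkx' : k * x = x * k := by
    have c1 : Commute (k * k) x := hkk
    have c2 : Commute ((k * k) ^ ((orderOf k + 1) / 2)) x := c1.pow_left _
    rw [← helper6.eq_sq_pow_of_odd hkodd] at c2
    exact c2
  have hxx : x * x = 1 := by
    have h1 : x = x⁻¹ := by
      rw [← hkx, hkx']; group
    calc x * x = x * x⁻¹ := by rw [← h1]
      _ = 1 := mul_inv_cancel x
  exact hx1 (helper6.RankOne.D_sq_eq_one hS hxD hxx)

end Cfsg.Agent.S1128
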