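import Cfsg.Statements.S1129
import Cfsg.Agent.S1119
import Cfsg.Agent.S1121
import Cfsg.Agent.S1122
import Cfsg.Agent.S1128
import Cfsg.Agent.S0033

set_option autoImplicit false
open Cfsg

namespace Cfsg.Agent.S1129

/-- conjugation by an element normalizing `Q` (with its inverse) as an automorphism of `Q` -/
def cj {G : Type*} [Group G] (Q : Subgroup G) (h : G)
    (h1 : ∀ x ∈ Q, h * x * h⁻¹ ∈ Q) (h2 : ∀ x ∈ Q, h⁻¹ * x * h ∈ Q) : ↥Q ≃* ↥Q where
  toFun q := ⟨h * q * h⁻¹, h1 q q.2⟩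
  invFun q := ⟨h⁻¹ * q * h, h2 q q.2⟩
  left_inv q := by
    apply Subtype.ext
    show h⁻¹ * (h * q * h⁻¹) * h = q
    group
  right_inv q := by
    apply Subtype.ext
    show h * (h⁻¹ * q * h) * h⁻¹ = q
    group
  map_mul' q r := by
    apply Subtype.ext
    show h * (q * r) * h⁻¹ = (h * q * h⁻¹) * (h * r * h⁻¹)
    group

/-- In the rank-one set-up (`G` finite and doubly transitive on `Ω`, `t` an involution moving `a`, `Q` normal in `G_a` with `G_a = Q D`, `Q ⊓ D = 1` for the two-point stabiliser `D = G_a ⊓ G_{t • a}`, `|Q|` even, `|D|` odd), with the action faithful and `G` containing two distinct commuting involutions: `Q` is nilpotent. -/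
theorem result {G Ω : Type*} [Group G] [Finite G] [MulAction G Ω] [FaithfulSMul G Ω] {a : Ω} {t : G} {Q : Subgroup G}
    (hS : Cfsg.IsRankOneSetup G Ω a t Q)
    (h2 : ∃ x y : G, x ≠ 1 ∧ y ≠ 1 ∧ x ≠ y ∧ x * x = 1 ∧ y * y = 1 ∧ x * y = y * x) :
    Group.IsNilpotent Q := by
  classical
  haveI : Fact (Nat.Prime 2) := ⟨Nat.prime_two⟩
  obtain ⟨x₀, y₀, hx1, hy1, hxy, hx2, hy2, hcomm⟩ := h2
  -- an involution of Q
  have h2Q : 2 ∣ Nat.card Q := even_iff_two_dvd.mp hS.even_card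
  obtain ⟨s', hs'⟩ := exists_prime_orderOf_dvd_card' (G := ↥Q) 2 h2Q
  obtain ⟨s, hss⟩ : ∃ s : G, s = (s' : G) := ⟨_, rfl⟩
  have hsQ : s ∈ Q := by rw [hss]; exact s'.2
  have hso : orderOf s = 2 := by rw [hss, Subgroup.orderOf_coe, hs']
  have hs2 : s * s = 1 := by
    have := pow_orderOf_eq_one s
    rwa [hso, pow_two] at this
  have hs1 : s ≠ 1 := by
    intro h
    rw [h, orderOf_one] at hso
    omega
  have hsa : s • a = a := MulAction.mem_stabilizer_iff.mp (hS.le hsQ)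
  -- s fixes only a
  have hfix : ∀ b : Ω, s • b = b → b = a := by
    intro b hb
    by_contra hne
    obtain ⟨x, -, huniq⟩ := (Cfsg.Agent.S1119.result hS).1 b b hne hne
    have e1 := huniq 1 (by simp)
    have e2 := huniq ⟨s, hsQ⟩ hb
    apply hs1
    have : (⟨s, hsQ⟩ : ↥Q) = 1 := e2.trans e1.symm
    exact congrArg Subtype.val this
  -- a second involution of G_a
  obtain ⟨g, hg⟩ := (Cfsg.Agent.S1121.result hS).2 x₀ s hx1 hx2 hs1 hs2
  obtain ⟨y, hy⟩ : ∃ y : G, y = g * y₀ * g⁻¹ := ⟨_, rfl⟩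
  have hyy : y * y = 1 := by
    rw [hy]
    have : g * y₀ * g⁻¹ * (g * y₀ * g⁻¹) = g * (y₀ * y₀) * g⁻¹ := by group
    rw [this, hy2]; group
  have hy1' : y ≠ 1 := by
    intro h
    apply hy1
    rw [hy] at h
    have : y₀ = g⁻¹ * (g * y₀ * g⁻¹) * g := by group
    rw [this, h]; group
  have hys : y ≠ s := by
    intro h
    apply hxy
    rw [hy, ← hg] at h
    have e1 : y₀ = g⁻¹ * (g * y₀ * g⁻¹) * g := by group
    have e2 : x₀ = g⁻¹ * (g * x₀ * g⁻¹) * g := by group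
    rw [e1, e2, h]
  have hcs : s * y = y * s := by
    rw [hy, ← hg]
    have e1 : g * x₀ * g⁻¹ * (g * y₀ * g⁻¹) = g * (x₀ * y₀) * g⁻¹ := by group
    have e2 : g * y₀ * g⁻¹ * (g * x₀ * g⁻¹) = g * (y₀ * x₀) * g⁻¹ := by group
    rw [e1, e2, hcomm]
  have hya : y • a = a := by
    apply hfix
    rw [← mul_smul, hcs, mul_smul, hsa]
  -- at least two involutions in G_a, hence a non-identity element inverted by t in D
  have hsI : s ∈ Cfsg.involutionsIn (MulAction.stabilizer G a : Set G) :=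
    ⟨MulAction.mem_stabilizer_iff.mpr hsa, hs1, hs2⟩
  have hyI : y ∈ Cfsg.involutionsIn (MulAction.stabilizer G a : Set G) :=
    ⟨MulAction.mem_stabilizer_iff.mpr hya, hy1', hyy⟩
  have hcardK := (Cfsg.Agent.S1122.result hS).1
  obtain ⟨x, hxK, hx1'⟩ : ∃ x ∈ Cfsg.invertedBy
      (MulAction.stabilizer G a ⊓ MulAction.stabilizer G (t • a)) t, x ≠ 1 := by
    by_contra hcon
    push Not at hcon
    have hsub : Subsingleton ↥(Cfsg.invertedBy
        (MulAction.stabilizer G a ⊓ MulAction.stabilizer G (t • a)) t) := by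
      constructor
      intro u v
      apply Subtype.ext
      rw [hcon u u.2, hcon v v.2]
    have hle : Nat.card ↥(Cfsg.invertedBy
        (MulAction.stabilizer G a ⊓ MulAction.stabilizer G (t • a)) t) ≤ 1 :=
      Finite.card_le_one_iff_subsingleton.mpr hsub
    rw [hcardK] at hle
    have hsub2 := Finite.card_le_one_iff_subsingleton.mp hle
    have := @Subsingleton.elim _ hsub2 (⟨s, hsI⟩ : ↥(Cfsg.involutionsIn (MulAction.stabilizer G a : Set G)))
      ⟨y, hyI⟩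
    exact hys (congrArg Subtype.val this).symm
  -- pass to an element of prime order
  have hord1 : orderOf x ≠ 1 := fun h => hx1' (orderOf_eq_one_iff.mp h)
  have hord0 : orderOf x ≠ 0 := (orderOf_pos x).ne'
  obtain ⟨p, hp, hpdvd⟩ : ∃ p, p.Prime ∧ p ∣ orderOf x :=
    ⟨(orderOf x).minFac, Nat.minFac_prime hord1, Nat.minFac_dvd _⟩
  obtain ⟨x', hx'⟩ : ∃ x' : G, x' = x ^ (orderOf x / p) := ⟨_, rfl⟩
  have hx'o : orderOf x' = p := by rw [hx']; exact orderOf_pow_orderOf_div hord0 hpdvd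
  have hx'1 : x' ≠ 1 := by
    intro h
    rw [h, orderOf_one] at hx'o
    exact hp.one_lt.ne hx'o
  have hx'K : x' ∈ Cfsg.invertedBy
      (MulAction.stabilizer G a ⊓ MulAction.stabilizer G (t • a)) t := by
    obtain ⟨hxD, hxinv⟩ := hxK
    refine ⟨?_, ?_⟩
    · rw [hx']; exact Subgroup.pow_mem _ hxD _
    · rw [hx', ← conj_pow, hxinv, inv_pow]
  have hfpf := Cfsg.Agent.S1128.result hS ⟨x₀, y₀, hx1, hy1, hxy, hx2, hy2, hcomm⟩ x' hx'K hx'1
  have hx'a : x' ∈ MulAction.stabilizer G a := hx'K.1.1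
  have hn1 : ∀ q ∈ Q, x' * q * x'⁻¹ ∈ Q := fun q hq => hS.conj_mem x' hx'a q hq
  have hn2 : ∀ q ∈ Q, x'⁻¹ * q * x' ∈ Q := by
    intro q hq
    have := hS.conj_mem x'⁻¹ (Subgroup.inv_mem _ hx'a) q hq
    rwa [inv_inv] at this
  obtain ⟨φ, hφ⟩ : ∃ φ : ↥Q ≃* ↥Q, φ = cj Q x' hn1 hn2 := ⟨_, rfl⟩
  have hφapp : ∀ q : ↥Q, ((φ q : ↥Q) : G) = x' * q * x'⁻¹ := by
    intro q; rw [hφ]; rfl
  have hφpow : ∀ k : ℕ, ∀ q : ↥Q, (((φ ^ k) q : ↥Q) : G) = x' ^ k * q * (x' ^ k)⁻¹ := by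
    intro k
    induction k with
    | zero => intro q; simp
    | succ k ih =>
      intro q
      rw [pow_succ', MulAut.mul_apply, hφapp, ih, pow_succ']
      group
  have hFPF : MonoidHom.FixedPointFree ((φ : ↥Q →* ↥Q) : ↥Q → ↥Q) := by
    intro q hq
    have h1 : x' * (q : G) * x'⁻¹ = q := by
      rw [← hφapp]; exact congrArg Subtype.val hq
    have hmem : (q : G) ∈ Q ⊓ Subgroup.centralizer {x'} := by
      refine Subgroup.mem_inf.mpr ⟨q.2, Subgroup.mem_centralizer_iff.mpr ?_⟩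
      intro h hh
      rw [Set.mem_singleton_iff.mp hh]
      calc x' * (q : G) = (x' * q * x'⁻¹) * x' := by group
        _ = q * x' := by rw [h1]
    rw [hfpf, Subgroup.mem_bot] at hmem
    exact Subtype.ext hmem
  have hφord : orderOf φ = p := by
    have hdvd : orderOf φ ∣ p := by
      apply orderOf_dvd_of_pow_eq_one
      ext q
      rw [hφpow, ← hx'o, pow_orderOf_eq_one]
      simp
    rcases (Nat.dvd_prime hp).mp hdvd with h1 | hp'
    · exfalso
      have hφ1 : φ = 1 := orderOf_eq_one_iff.mp h1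
      apply hs1
      have := hFPF ⟨s, hsQ⟩ (by rw [hφ1]; rfl)
      exact congrArg Subtype.val this
    · exact hp'
  exact Cfsg.Agent.S0033.result φ hFPF p hp hφord

end Cfsg.Agent.S1129
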