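import Mathlib
import Cfsg.Statements.S1134
import Cfsg.Agent.Lib_helper6_RankOne4
-- import your own Cfsg.Agent.* helpers here

set_option autoImplicit false
open Cfsg

namespace Cfsg.Agent.S1134

/-- In the rank-one set-up (`G` finite and doubly transitive on `Ω`, `t` an involution moving `a`, `Q` normal in `G_a` with `G_a = Q D`, `Q ⊓ D = 1` for the two-point stabiliser `D = G_a ⊓ G_{t • a}`, `|Q|` even, `|D|` odd), with the action faithful and `G` containing two distinct commuting involutions, with `V = C_D(t)`: subsets of `V` conjugate in `G` are conjugate in `V`. -/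
theorem result {G Ω : Type*} [Group G] [Finite G] [MulAction G Ω] [FaithfulSMul G Ω] {a : Ω} {t : G} {Q : Subgroup G}
    (hS : Cfsg.IsRankOneSetup G Ω a t Q)
    (h2 : ∃ x y : G, x ≠ 1 ∧ y ≠ 1 ∧ x ≠ y ∧ x * x = 1 ∧ y * y = 1 ∧ x * y = y * x)
    (X : Set G) (hX : X ⊆ (((MulAction.stabilizer G a ⊓ MulAction.stabilizer G (t • a)) ⊓ Subgroup.centralizer {t} : Subgroup G) : Set G)) (g : G)
    (hY : (fun x => g * x * g⁻¹) '' X ⊆ (((MulAction.stabilizer G a ⊓ MulAction.stabilizer G (t • a)) ⊓ Subgroup.centralizer {t} : Subgroup G) : Set G)) :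
    ∃ v ∈ (MulAction.stabilizer G a ⊓ MulAction.stabilizer G (t • a)) ⊓ Subgroup.centralizer {t}, (fun x => v * x * v⁻¹) '' X = (fun x => g * x * g⁻¹) '' X := by
  have hXD : X ⊆ ((MulAction.stabilizer G a ⊓ MulAction.stabilizer G (t • a) :
      Subgroup G) : Set G) := fun x hx => (Subgroup.mem_inf.mp (hX hx)).1
  have hXt : ∀ x ∈ X, t * x = x * t := by
    intro x hx
    have := (Subgroup.mem_inf.mp (hX hx)).2
    rw [Subgroup.mem_centralizer_iff] at this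
    exact this t rfl
  have hXa : ∀ x ∈ X, x • a = a := fun x hx => helper6.RankOne.D_fix_a (hXD hx)
  have hXb : ∀ x ∈ X, x • (t • a) = t • a := fun x hx => helper6.RankOne.D_fix_ta (hXD hx)
  obtain ⟨c₀, hc₀⟩ := helper6.RankOne.invol_exists_fix hS hS.mul_self
  have hc₀a : c₀ ≠ a := by
    rintro rfl
    exact helper6.RankOne.ta_ne hS hc₀
  have hc₀b : c₀ ≠ t • a := by
    intro h
    rw [h, helper6.RankOne.tta hS] at hc₀
    exact helper6.RankOne.ta_ne hS hc₀.symm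
  have hXc : ∀ x ∈ X, x • c₀ = c₀ := by
    intro x hx
    apply helper6.RankOne.invol_fix_eq hS hS.ne_one hS.mul_self _ hc₀
    rw [smul_smul, hXt x hx, mul_smul, hc₀]
  have h3 : ∃ b c d : Ω, b ≠ c ∧ b ≠ d ∧ c ≠ d ∧ ∀ x ∈ X, x • b = b ∧ x • c = c ∧ x • d = d :=
    ⟨a, t • a, c₀, (helper6.RankOne.ta_ne hS).symm, hc₀a.symm, hc₀b.symm,
      fun x hx => ⟨hXa x hx, hXb x hx, hXc x hx⟩⟩
  have hYD : ∀ x ∈ X, g * x * g⁻¹ ∈ MulAction.stabilizer G a ⊓ MulAction.stabilizer G (t • a) :=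
    fun x hx => (Subgroup.mem_inf.mp (hY ⟨x, hx, rfl⟩)).1
  have hYt : ∀ x ∈ X, t * (g * x * g⁻¹) = (g * x * g⁻¹) * t := by
    intro x hx
    have := (Subgroup.mem_inf.mp (hY ⟨x, hx, rfl⟩)).2
    rw [Subgroup.mem_centralizer_iff] at this
    exact this t rfl
  have hga : ∀ x ∈ X, x • (g⁻¹ • a) = g⁻¹ • a := by
    intro x hx
    have h1 := helper6.RankOne.D_fix_a (hYD x hx)
    rw [mul_smul, mul_smul] at h1
    have h2 : g⁻¹ • (g • x • g⁻¹ • a) = g⁻¹ • a := by rw [h1]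
    rwa [inv_smul_smul] at h2
  have hgb : ∀ x ∈ X, x • (g⁻¹ • (t • a)) = g⁻¹ • (t • a) := by
    intro x hx
    have h1 := helper6.RankOne.D_fix_ta (hYD x hx)
    rw [mul_smul, mul_smul] at h1
    have h2 : g⁻¹ • (g • x • g⁻¹ • (t • a)) = g⁻¹ • (t • a) := by rw [h1]
    rwa [inv_smul_smul] at h2
  have hne : g⁻¹ • a ≠ g⁻¹ • (t • a) := by
    intro h
    exact helper6.RankOne.ta_ne hS (smul_left_cancel g⁻¹ h).symm
  obtain ⟨h, hh, hha, hhb⟩ := Cfsg.Agent.S1125.two_trans_cent hS X h3 hXa hXb hga hgb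
    (helper6.RankOne.ta_ne hS).symm hne
  have hdD : g * h ∈ MulAction.stabilizer G a ⊓ MulAction.stabilizer G (t • a) := by
    rw [helper6.RankOne.mem_D_iff]
    constructor
    · rw [mul_smul, hha, smul_inv_smul]
    · rw [mul_smul, hhb, smul_inv_smul]
  have hdx : ∀ x ∈ X, (g * h) * x * (g * h)⁻¹ = g * x * g⁻¹ := by
    intro x hx
    rw [Subgroup.mem_centralizer_iff] at hh
    calc (g * h) * x * (g * h)⁻¹ = g * (h * x) * h⁻¹ * g⁻¹ := by group
      _ = g * (x * h) * h⁻¹ * g⁻¹ := by rw [hh x hx]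
      _ = g * x * g⁻¹ := by group
  obtain ⟨d, hd⟩ : ∃ d, d = g * h := ⟨_, rfl⟩
  rw [← hd] at hdD hdx
  have ht'2 : (d⁻¹ * t * d) * (d⁻¹ * t * d) = 1 := by
    calc (d⁻¹ * t * d) * (d⁻¹ * t * d) = d⁻¹ * (t * t) * d := by group
      _ = 1 := by rw [hS.mul_self]; group
  have ht'a : (d⁻¹ * t * d) • a = t • a := by
    rw [mul_smul, mul_smul, helper6.RankOne.D_fix_a hdD, inv_smul_eq_iff,
      helper6.RankOne.D_fix_ta hdD]
  have ht'X : ∀ x ∈ X, x * (d⁻¹ * t * d) = (d⁻¹ * t * d) * x := by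
    intro x hx
    have h1 := hYt x hx
    rw [← hdx x hx] at h1
    calc x * (d⁻¹ * t * d) = d⁻¹ * ((d * x * d⁻¹) * t) * d := by group
      _ = d⁻¹ * (t * (d * x * d⁻¹)) * d := by rw [h1]
      _ = (d⁻¹ * t * d) * x := by group
  have hk' := helper6.RankOne.mem_K_of_swap hS ht'2 ht'a
  obtain ⟨l, hlD, ⟨n, hln⟩, hl⟩ := helper6.RankOne.K_sqrt hS hk'
  rw [helper6.RankOne.tt_cancel hS] at hl
  have hkX : ∀ x ∈ X, x * (t * (d⁻¹ * t * d)) = (t * (d⁻¹ * t * d)) * x := by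
    intro x hx
    calc x * (t * (d⁻¹ * t * d)) = (x * t) * (d⁻¹ * t * d) := by group
      _ = (t * x) * (d⁻¹ * t * d) := by rw [hXt x hx]
      _ = t * (x * (d⁻¹ * t * d)) := by group
      _ = t * ((d⁻¹ * t * d) * x) := by rw [ht'X x hx]
      _ = (t * (d⁻¹ * t * d)) * x := by group
  have hlX : ∀ x ∈ X, x * l = l * x := by
    intro x hx
    have c1 : Commute x (t * (d⁻¹ * t * d)) := hkX x hx
    rw [hln]
    exact c1.pow_right n
  refine ⟨d * l⁻¹, Subgroup.mem_inf.mpr ⟨Subgroup.mul_mem _ hdD (Subgroup.inv_mem _ hlD), ?_⟩, ?_⟩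
  · rw [Subgroup.mem_centralizer_iff]
    intro z hz
    rw [Set.mem_singleton_iff.mp hz]
    have e1 : (d * l⁻¹) * t * (d * l⁻¹)⁻¹ = t := by
      calc (d * l⁻¹) * t * (d * l⁻¹)⁻¹ = d * (l⁻¹ * t * l) * d⁻¹ := by group
        _ = d * (d⁻¹ * t * d) * d⁻¹ := by rw [← hl]
        _ = t := by group
    calc t * (d * l⁻¹) = ((d * l⁻¹) * t * (d * l⁻¹)⁻¹) * (d * l⁻¹) := by rw [e1]
      _ = (d * l⁻¹) * t := by group
  · apply Set.image_congr
    intro x hx
    rw [← hdx x hx]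
    have hlx' : l⁻¹ * x = x * l⁻¹ := by
      calc l⁻¹ * x = l⁻¹ * (x * l) * l⁻¹ := by group
        _ = l⁻¹ * (l * x) * l⁻¹ := by rw [hlX x hx]
        _ = x * l⁻¹ := by group
    calc (d * l⁻¹) * x * (d * l⁻¹)⁻¹ = d * (l⁻¹ * x) * l * d⁻¹ := by group
      _ = d * (x * l⁻¹) * l * d⁻¹ := by rw [hlx']
      _ = d * x * d⁻¹ := by group

end Cfsg.Agent.S1134
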