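import Cfsg.Statements.S1135
import Cfsg.Agent.S1130
import Cfsg.Agent.S1128
import Cfsg.Agent.S1122
import Cfsg.Agent.Lib_helper6_RankOne3

set_option autoImplicit false
open Cfsg

namespace Cfsg.Agent.S1135

open MulAction

theorem conj_invol {G : Type*} [Group G] {g u : G} (hu1 : u ≠ 1) (hu2 : u * u = 1) :
    g * u * g⁻¹ ≠ 1 ∧ (g * u * g⁻¹) * (g * u * g⁻¹) = 1 := by
  refine ⟨?_, ?_⟩
  · intro h
    apply hu1
    have e : u = g⁻¹ * (g * u * g⁻¹) * g := by group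
    rw [e, h]; group
  · calc (g * u * g⁻¹) * (g * u * g⁻¹) = g * (u * u) * g⁻¹ := by group
      _ = 1 := by rw [hu2]; group

theorem conj_fix {G Ω : Type*} [Group G] [MulAction G Ω] {g u : G} {p : Ω} (h : u • p = p) :
    (g * u * g⁻¹) • (g • p) = g • p := by
  rw [mul_smul, mul_smul, inv_smul_smul, h]

theorem setup_of_swap {G Ω : Type*} [Group G] [MulAction G Ω] {a : Ω} {t : G} {Q : Subgroup G}
    (hS : Cfsg.IsRankOneSetup G Ω a t Q) {u : G} (hu1 : u ≠ 1) (hu2 : u * u = 1)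
    (hua : u • a = t • a) : Cfsg.IsRankOneSetup G Ω a u Q where
  two_transitive := hS.two_transitive
  mul_self := hu2
  ne_one := hu1
  not_mem := by rw [mem_stabilizer_iff, hua]; exact helper6.RankOne.ta_ne hS
  le := hS.le
  conj_mem := hS.conj_mem
  inf_eq_bot := by rw [hua]; exact hS.inf_eq_bot
  sup_eq := by rw [hua]; exact hS.sup_eq
  even_card := hS.even_card
  odd_card := by rw [hua]; exact hS.odd_card

/-- In the rank-one set-up (`G` finite and doubly transitive on `Ω`, `t` an involution moving `a`, `Q` normal in `G_a` with `G_a = Q D`, `Q ⊓ D = 1` for the two-point stabiliser `D = G_a ⊓ G_{t • a}`, `|Q|` even, `|D|` odd), with the action faithful and `G` containing two distinct commuting involutions: if `x = u v` with `u, v` involutions and `x² ≠ 1`, then `x` is conjugate to `u' t` for some involution `u'` of `G_a`, and `|C_G(x)|` is odd. -/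
theorem result {G Ω : Type*} [Group G] [Finite G] [MulAction G Ω] [FaithfulSMul G Ω] {a : Ω} {t : G} {Q : Subgroup G}
    (hS : Cfsg.IsRankOneSetup G Ω a t Q)
    (h2 : ∃ x y : G, x ≠ 1 ∧ y ≠ 1 ∧ x ≠ y ∧ x * x = 1 ∧ y * y = 1 ∧ x * y = y * x)
    (u v : G) (hu1 : u ≠ 1) (hu2 : u * u = 1) (hv1 : v ≠ 1) (hv2 : v * v = 1) (hx : (u * v) * (u * v) ≠ 1) :
    (∃ g : G, ∃ u' ∈ Cfsg.involutionsIn (MulAction.stabilizer G a : Set G), g * (u * v) * g⁻¹ = u' * t) ∧
      Odd (Nat.card ↥(Subgroup.centralizer {u * v})) := by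
  classical
  have hI := Cfsg.Agent.S1130.result hS h2
  haveI htrans := helper6.RankOne.isPretransitive hS
  obtain ⟨p₁, hp₁⟩ := helper6.RankOne.invol_exists_fix hS hu2
  obtain ⟨p₂, hp₂⟩ := helper6.RankOne.invol_exists_fix hS hv2
  obtain ⟨c, hc⟩ := helper6.RankOne.invol_exists_fix hS hS.mul_self
  have hca : c ≠ a := by
    rintro rfl
    exact helper6.RankOne.ta_ne hS hc
  have hui : u⁻¹ = u := inv_eq_of_mul_eq_one_right hu2
  have hvi : v⁻¹ = v := inv_eq_of_mul_eq_one_right hv2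
  have hp12 : p₁ ≠ p₂ := by
    intro h
    obtain ⟨g, hg⟩ := MulAction.exists_smul_eq G p₁ a
    obtain ⟨hu'1, hu'2⟩ := conj_invol (g := g) hu1 hu2
    obtain ⟨hv'1, hv'2⟩ := conj_invol (g := g) hv1 hv2
    have hu'a : (g * u * g⁻¹) • a = a := by rw [← hg]; exact conj_fix hp₁
    have hv'a : (g * v * g⁻¹) • a = a := by rw [← hg, h]; exact conj_fix hp₂
    have hUI : g * u * g⁻¹ ∈ Cfsg.involutionsIn (MulAction.stabilizer G a : Set G) :=
      ⟨mem_stabilizer_iff.mpr hu'a, hu'1, hu'2⟩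
    have hVI : g * v * g⁻¹ ∈ Cfsg.involutionsIn (MulAction.stabilizer G a : Set G) :=
      ⟨mem_stabilizer_iff.mpr hv'a, hv'1, hv'2⟩
    have hcomm := (hI.1 _ hUI).2 _ ((hI.1 _ hVI).1)
    have huv : u * v = v * u := by
      have e1 : u * v = g⁻¹ * ((g * u * g⁻¹) * (g * v * g⁻¹)) * g := by group
      have e2 : v * u = g⁻¹ * ((g * v * g⁻¹) * (g * u * g⁻¹)) * g := by group
      rw [e1, e2, hcomm]
    apply hx
    calc (u * v) * (u * v) = u * (v * u) * v := by group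
      _ = u * (u * v) * v := by rw [huv]
      _ = (u * u) * (v * v) := by group
      _ = 1 := by rw [hu2, hv2, one_mul]
  constructor
  · obtain ⟨g, hg1, hg2⟩ := helper6.RankOne.two_trans hS hp12 hca.symm
    obtain ⟨hu₁1, hu₁2⟩ := conj_invol (g := g) hu1 hu2
    obtain ⟨hv₁1, hv₁2⟩ := conj_invol (g := g) hv1 hv2
    have hu₁a : (g * u * g⁻¹) • a = a := by rw [← hg1]; exact conj_fix hp₁
    have hv₁c : (g * v * g⁻¹) • c = c := by rw [← hg2]; exact conj_fix hp₂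
    obtain ⟨g₀, hg₀1, hg₀2⟩ := helper6.RankOne.two_trans hS hca (helper6.RankOne.ta_ne hS).symm
    obtain ⟨hA1, hA2⟩ := conj_invol (g := g₀) hv₁1 hv₁2
    obtain ⟨hB1, hB2⟩ := conj_invol (g := g₀) hS.ne_one hS.mul_self
    have hAa : (g₀ * (g * v * g⁻¹) * g₀⁻¹) • a = a := by rw [← hg₀1]; exact conj_fix hv₁c
    have hBa : (g₀ * t * g₀⁻¹) • a = a := by rw [← hg₀1]; exact conj_fix hc
    have hA : g₀ * (g * v * g⁻¹) * g₀⁻¹ ∈ Cfsg.involutionsIn (MulAction.stabilizer G a : Set G) :=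
      ⟨mem_stabilizer_iff.mpr hAa, hA1, hA2⟩
    have hB : g₀ * t * g₀⁻¹ ∈ Cfsg.involutionsIn (MulAction.stabilizer G a : Set G) :=
      ⟨mem_stabilizer_iff.mpr hBa, hB1, hB2⟩
    obtain ⟨k, hk, hkc⟩ := (Cfsg.Agent.S1122.result hS).2 _ hA _ hB
    obtain ⟨h, hh⟩ : ∃ h, h = g₀⁻¹ * k⁻¹ * g₀ := ⟨_, rfl⟩
    have hkb : k⁻¹ • (t • a) = t • a := by
      rw [inv_smul_eq_iff]; exact (helper6.RankOne.D_fix_ta hk.1).symm
    have hha : h • a = a := by
      rw [hh, mul_smul, mul_smul, hg₀2, hkb, inv_smul_eq_iff, hg₀2]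
    have hhv : h * (g * v * g⁻¹) * h⁻¹ = t := by
      have e : h * (g * v * g⁻¹) * h⁻¹ = g₀⁻¹ * (k⁻¹ * (g₀ * (g * v * g⁻¹) * g₀⁻¹) * k) * g₀ := by
        rw [hh]; group
      rw [e, hkc]; group
    obtain ⟨hu'1, hu'2⟩ := conj_invol (g := h) hu₁1 hu₁2
    have hu'a : (h * (g * u * g⁻¹) * h⁻¹) • a = a := by
      have := conj_fix (g := h) hu₁a
      rwa [hha] at this
    refine ⟨h * g, h * (g * u * g⁻¹) * h⁻¹, ⟨mem_stabilizer_iff.mpr hu'a, hu'1, hu'2⟩, ?_⟩
    rw [← hhv]; group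
  · rw [← Nat.not_even_iff_odd]
    intro heven
    haveI : Fact (Nat.Prime 2) := ⟨Nat.prime_two⟩
    obtain ⟨w', hw'⟩ := exists_prime_orderOf_dvd_card' (G := ↥(Subgroup.centralizer {u * v})) 2
      (even_iff_two_dvd.mp heven)
    obtain ⟨w, hw⟩ : ∃ w : G, w = (w' : G) := ⟨_, rfl⟩
    have hwo : orderOf w = 2 := by rw [hw, Subgroup.orderOf_coe, hw']
    have hw1 : w ≠ 1 := by
      intro h
      rw [h, orderOf_one] at hwo
      omega
    have hw2 : w * w = 1 := by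
      have := pow_orderOf_eq_one w
      rwa [hwo, pow_two] at this
    have hwx : (u * v) * w = w * (u * v) := by
      have := Subgroup.mem_centralizer_iff.mp w'.2 (u * v) rfl
      rw [hw]; exact this
    obtain ⟨p, hp⟩ := helper6.RankOne.invol_exists_fix hS hw2
    have hxp : (u * v) • p = p := by
      apply helper6.RankOne.invol_fix_eq hS hw1 hw2 _ hp
      rw [smul_smul, ← hwx, mul_smul, hp]
    have hxup : (u * v) • (u • p) = u • p := by
      have e : (u * v) * u = u * (u * v)⁻¹ := by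
        rw [mul_inv_rev, hui, hvi, mul_assoc]
      rw [smul_smul, e, mul_smul]
      congr 1
      rw [inv_smul_eq_iff, hxp]
    have hpup : p ≠ u • p := by
      intro h
      have h1 : p = p₁ := helper6.RankOne.invol_fix_eq hS hu1 hu2 h.symm hp₁
      rw [h1] at hxp
      have h3 : v • p₁ = p₁ := by
        have : u • (v • p₁) = p₁ := by rw [smul_smul]; exact hxp
        calc v • p₁ = u • (u • (v • p₁)) := by rw [smul_smul u u, hu2, one_smul]
          _ = u • p₁ := by rw [this]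
          _ = p₁ := hp₁
      exact hp12 (helper6.RankOne.invol_fix_eq hS hv1 hv2 h3 hp₂)
    obtain ⟨g₁, hg₁1, hg₁2⟩ := helper6.RankOne.two_trans hS hpup (helper6.RankOne.ta_ne hS).symm
    obtain ⟨hu₁1, hu₁2⟩ := conj_invol (g := g₁) hu1 hu2
    obtain ⟨hw₁1, hw₁2⟩ := conj_invol (g := g₁) hw1 hw2
    have hu₁a : (g₁ * u * g₁⁻¹) • a = t • a := by
      have : (g₁ * u * g₁⁻¹) • (g₁ • p) = t • a := by
        rw [mul_smul, mul_smul, inv_smul_smul, hg₁2]
      rwa [hg₁1] at this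
    have hS' := setup_of_swap hS hu₁1 hu₁2 hu₁a
    have hx₁a : (g₁ * (u * v) * g₁⁻¹) • a = a := by rw [← hg₁1]; exact conj_fix hxp
    have hx₁b : (g₁ * (u * v) * g₁⁻¹) • (t • a) = t • a := by rw [← hg₁2]; exact conj_fix hxup
    have hx₁1 : g₁ * (u * v) * g₁⁻¹ ≠ 1 := by
      intro h
      apply hx
      have e : u * v = g₁⁻¹ * (g₁ * (u * v) * g₁⁻¹) * g₁ := by group
      rw [e, h]; group
    have hx₁K : g₁ * (u * v) * g₁⁻¹ ∈ Cfsg.invertedBy
        (MulAction.stabilizer G a ⊓ MulAction.stabilizer G ((g₁ * u * g₁⁻¹) • a)) (g₁ * u * g₁⁻¹) := by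
      refine ⟨?_, ?_⟩
      · rw [hu₁a]
        exact Subgroup.mem_inf.mpr ⟨mem_stabilizer_iff.mpr hx₁a, mem_stabilizer_iff.mpr hx₁b⟩
      · have e : u * (u * v) * u⁻¹ = (u * v)⁻¹ := by
          rw [mul_inv_rev, hui, hvi]
          calc u * (u * v) * u = (u * u) * v * u := by group
            _ = v * u := by rw [hu2, one_mul]
        calc g₁ * u * g₁⁻¹ * (g₁ * (u * v) * g₁⁻¹) * (g₁ * u * g₁⁻¹)⁻¹
            = g₁ * (u * (u * v) * u⁻¹) * g₁⁻¹ := by group
          _ = (g₁ * (u * v) * g₁⁻¹)⁻¹ := by rw [e]; group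
    have hfpf := Cfsg.Agent.S1128.result hS' h2 _ hx₁K hx₁1
    have hw₁a : (g₁ * w * g₁⁻¹) • a = a := by rw [← hg₁1]; exact conj_fix hp
    have hw₁Q : g₁ * w * g₁⁻¹ ∈ Q :=
      helper6.RankOne.invol_mem_Q hS (mem_stabilizer_iff.mpr hw₁a) hw₁2
    have hw₁C : g₁ * w * g₁⁻¹ ∈ Subgroup.centralizer {g₁ * (u * v) * g₁⁻¹} := by
      rw [Subgroup.mem_centralizer_iff]
      intro y hy
      rw [Set.mem_singleton_iff.mp hy]
      calc g₁ * (u * v) * g₁⁻¹ * (g₁ * w * g₁⁻¹) = g₁ * ((u * v) * w) * g₁⁻¹ := by group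
        _ = g₁ * (w * (u * v)) * g₁⁻¹ := by rw [hwx]
        _ = g₁ * w * g₁⁻¹ * (g₁ * (u * v) * g₁⁻¹) := by group
    have hmem : g₁ * w * g₁⁻¹ ∈ Q ⊓ Subgroup.centralizer {g₁ * (u * v) * g₁⁻¹} :=
      Subgroup.mem_inf.mpr ⟨hw₁Q, hw₁C⟩
    rw [hfpf, Subgroup.mem_bot] at hmem
    exact hw₁1 hmem

end Cfsg.Agent.S1135
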