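import Cfsg.Statements.S1137

set_option autoImplicit false
open Cfsg

namespace Cfsg.Agent.S1137

universe u v

/-- commutator `a b a⁻¹ b⁻¹` -/
def cm {P : Type u} [Group P] (a b : P) : P := a * b * a⁻¹ * b⁻¹

/-- the working hypotheses: a commuting family of injective endomorphisms, transitive on involutions,
every member a square of a member, and all elements of order dividing 4 central -/
structure Hyp {P : Type u} [Group P] {ι : Type v} (k : ι → P →* P) : Prop where
  cent : ∀ x : P, x ^ 4 = 1 → ∀ g : P, g * x = x * g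
  comm : ∀ i j x, k i (k j x) = k j (k i x)
  inj : ∀ i x, k i x = 1 → x = 1
  trans : ∀ x y : P, x ≠ 1 → x * x = 1 → y ≠ 1 → y * y = 1 → ∃ i, k i x = y
  sq : ∀ i, ∃ m, ∀ x, k m (k m x) = k i x

theorem pow_eq_one_of_dvd' {P : Type u} [Group P] {x : P} {m n : ℕ} (h : x ^ m = 1) (hd : m ∣ n) :
    x ^ n = 1 := by
  obtain ⟨c, rfl⟩ := hd
  rw [pow_mul, h, one_pow]

theorem pow_four_eq {P : Type u} [Group P] (x : P) : x ^ 4 = (x * x) * (x * x) := by
  rw [show (4 : ℕ) = 2 * 2 from rfl, pow_mul, pow_two, pow_two]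

theorem pow4_of_sq {P : Type u} [Group P] {x : P} (h : x * x = 1) : x ^ 4 = 1 := by
  rw [pow_four_eq, h, one_mul]

theorem cm_eq_one_iff {P : Type u} [Group P] (a b : P) : cm a b = 1 ↔ a * b = b * a := by
  unfold cm
  rw [mul_inv_eq_one, mul_inv_eq_iff_eq_mul]

theorem cm_self {P : Type u} [Group P] (a : P) : cm a a = 1 := by unfold cm; group

theorem cm_one_right {P : Type u} [Group P] (g : P) : cm g 1 = 1 := by unfold cm; group

theorem map_cm {P : Type u} [Group P] {ι : Type v} (k : ι → P →* P) (i : ι) (a b : P) :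
    k i (cm a b) = cm (k i a) (k i b) := by
  unfold cm; simp [map_mul, map_inv]

theorem exists_invol_pow {P : Type u} [Group P] (hP : IsPGroup 2 P) {x : P} (hx : x ≠ 1) :
    ∃ n : ℕ, x ^ n ≠ 1 ∧ x ^ n * x ^ n = 1 := by
  have hex : ∃ j, x ^ (2 ^ j) = 1 := hP x
  classical
  have hj1 : x ^ (2 ^ (Nat.find hex)) = 1 := Nat.find_spec hex
  have hj0 : Nat.find hex ≠ 0 := by
    intro h0
    rw [h0] at hj1
    exact hx (by simpa using hj1)
  obtain ⟨j', hj'⟩ : ∃ j', Nat.find hex = j' + 1 := ⟨Nat.find hex - 1, by omega⟩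
  refine ⟨2 ^ j', ?_, ?_⟩
  · intro h
    have := Nat.find_min' hex h
    omega
  · rw [← pow_add, ← two_mul, ← pow_succ', ← hj']
    exact hj1

section basic
variable {P : Type u} [Group P] {ι : Type v} {k : ι → P →* P}

theorem Hyp.inv_central (H : Hyp k) {v : P} (hv : v * v = 1) (g : P) : g * v = v * g :=
  H.cent v (pow4_of_sq hv) g

theorem claimA (H : Hyp k) (hP : IsPGroup 2 P) (x g : P)
    (hx2 : ∀ h : P, h * (x * x) = (x * x) * h) : cm x g * cm x g = 1 := by
  have h1 : x * cm x g * x⁻¹ = (cm x g)⁻¹ := by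
    have h := hx2 g
    calc x * cm x g * x⁻¹ = ((x * x) * g) * (x⁻¹ * g⁻¹ * x⁻¹) := by unfold cm; group
      _ = (g * (x * x)) * (x⁻¹ * g⁻¹ * x⁻¹) := by rw [h]
      _ = (cm x g)⁻¹ := by unfold cm; group
  have h2 : ∀ n : ℕ, x * (cm x g) ^ n * x⁻¹ = ((cm x g) ^ n)⁻¹ := by
    intro n
    rw [← conj_pow, h1, inv_pow]
  have key : ∀ j : ℕ, (cm x g) ^ (2 ^ (j + 1)) = 1 → cm x g * cm x g = 1 := by
    intro j
    induction j with
    | zero =>
      intro h
      have h' : (cm x g) ^ 2 = 1 := by simpa using h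
      rwa [pow_two] at h'
    | succ j ih =>
      intro h
      apply ih
      have hd4 : ((cm x g) ^ (2 ^ j)) ^ 4 = 1 := by
        rw [← pow_mul]
        have : 2 ^ j * 4 = 2 ^ (j + 1 + 1) := by ring
        rw [this]; exact h
      have hdc := H.cent _ hd4 x
      have hdd : (cm x g) ^ (2 ^ j) = ((cm x g) ^ (2 ^ j))⁻¹ := by
        have h3 := h2 (2 ^ j)
        rw [hdc, mul_inv_cancel_right] at h3
        exact h3
      have hdsq : (cm x g) ^ (2 ^ j) * (cm x g) ^ (2 ^ j) = 1 := by
        calc (cm x g) ^ (2 ^ j) * (cm x g) ^ (2 ^ j)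
            = (cm x g) ^ (2 ^ j) * ((cm x g) ^ (2 ^ j))⁻¹ := by rw [← hdd]
          _ = 1 := mul_inv_cancel _
      have e : (cm x g) ^ (2 ^ (j + 1)) = (cm x g) ^ (2 ^ j) * (cm x g) ^ (2 ^ j) := by
        rw [← pow_add]; congr 1; ring
      rw [e]; exact hdsq
  obtain ⟨j, hj⟩ := hP (cm x g)
  cases j with
  | zero =>
    have : cm x g = 1 := by simpa using hj
    rw [this, one_mul]
  | succ j => exact key j hj

/-- the central subgroup of elements of order at most 2 -/
def Vsub (H : Hyp k) : Subgroup P where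
  carrier := {x | x * x = 1}
  mul_mem' := by
    intro a b ha hb
    simp only [Set.mem_ofPred_eq] at *
    have hc := H.inv_central hb a
    calc a * b * (a * b) = a * (b * a) * b := by group
      _ = a * (a * b) * b := by rw [← hc]
      _ = (a * a) * (b * b) := by group
      _ = 1 := by rw [ha, hb, one_mul]
  one_mem' := by simp
  inv_mem' := by
    intro a ha
    simp only [Set.mem_ofPred_eq] at *
    calc a⁻¹ * a⁻¹ = (a * a)⁻¹ := by group
      _ = 1 := by rw [ha, inv_one]

theorem mem_Vsub (H : Hyp k) {x : P} : x ∈ Vsub H ↔ x * x = 1 := Iff.rfl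

instance Vsub_normal (H : Hyp k) : (Vsub H).Normal := ⟨by
  intro n hn g
  have h : n * n = 1 := hn
  show g * n * g⁻¹ * (g * n * g⁻¹) = 1
  calc g * n * g⁻¹ * (g * n * g⁻¹) = g * (n * n) * g⁻¹ := by group
    _ = 1 := by rw [h, mul_one, mul_inv_cancel]⟩

/-- the induced family on the quotient -/
def kq (H : Hyp k) (i : ι) : P ⧸ Vsub H →* P ⧸ Vsub H :=
  QuotientGroup.map (Vsub H) (Vsub H) (k i) (by
    intro x hx
    rw [Subgroup.mem_comap]
    show k i x * k i x = 1
    rw [← map_mul, (hx : x * x = 1), map_one])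

theorem kq_mk (H : Hyp k) (i : ι) (x : P) :
    kq H i (x : P ⧸ Vsub H) = ((k i x : P) : P ⧸ Vsub H) := rfl

theorem hyp_quot (H : Hyp k) (hP : IsPGroup 2 P) : Hyp (kq H) where
  cent := by
    intro q hq r
    obtain ⟨x, rfl⟩ := QuotientGroup.mk_surjective q
    obtain ⟨g, rfl⟩ := QuotientGroup.mk_surjective r
    have hx4 : x ^ 4 ∈ Vsub H := by
      rw [← QuotientGroup.eq_one_iff, QuotientGroup.mk_pow]; exact hq
    have hx8 : (x ^ 4) * (x ^ 4) = 1 := hx4
    have hxx : (x * x) ^ 4 = 1 := by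
      have : (x * x) ^ 4 = x ^ 4 * x ^ 4 := (Commute.refl x).mul_pow 4
      rw [this, hx8]
    have hc := claimA H hP x g (fun h => H.cent (x * x) hxx h)
    have h1 : ((cm x g : P) : P ⧸ Vsub H) = 1 := (QuotientGroup.eq_one_iff _).2 ((mem_Vsub H).2 hc)
    have h2 : ((x : P ⧸ Vsub H) * (g : P ⧸ Vsub H) * (x : P ⧸ Vsub H)⁻¹ * (g : P ⧸ Vsub H)⁻¹) = 1 := by
      rw [← h1]; unfold cm; simp
    have h3 := mul_inv_eq_one.1 h2
    have h4 := mul_inv_eq_iff_eq_mul.1 h3
    exact h4.symm
  comm := by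
    intro i j q
    obtain ⟨x, rfl⟩ := QuotientGroup.mk_surjective q
    rw [kq_mk, kq_mk, kq_mk, kq_mk, H.comm]
  inj := by
    intro i q hq
    obtain ⟨x, rfl⟩ := QuotientGroup.mk_surjective q
    rw [kq_mk] at hq
    have h1 : k i x ∈ Vsub H := (QuotientGroup.eq_one_iff _).1 hq
    have h2 : k i x * k i x = 1 := h1
    rw [← map_mul] at h2
    have h3 := H.inj i _ h2
    exact (QuotientGroup.eq_one_iff _).2 ((mem_Vsub H).2 h3)
  trans := by
    intro q r hq1 hq2 hr1 hr2
    obtain ⟨x, rfl⟩ := QuotientGroup.mk_surjective q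
    obtain ⟨y, rfl⟩ := QuotientGroup.mk_surjective r
    have hx1 : x * x ≠ 1 := fun h => hq1 ((QuotientGroup.eq_one_iff _).2 ((mem_Vsub H).2 h))
    have hx2 : (x * x) * (x * x) = 1 := by
      have : ((x * x : P) : P ⧸ Vsub H) = 1 := by rw [QuotientGroup.mk_mul]; exact hq2
      exact (mem_Vsub H).1 ((QuotientGroup.eq_one_iff _).1 this)
    have hy1 : y * y ≠ 1 := fun h => hr1 ((QuotientGroup.eq_one_iff _).2 ((mem_Vsub H).2 h))
    have hy2 : (y * y) * (y * y) = 1 := by
      have : ((y * y : P) : P ⧸ Vsub H) = 1 := by rw [QuotientGroup.mk_mul]; exact hr2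
      exact (mem_Vsub H).1 ((QuotientGroup.eq_one_iff _).1 this)
    obtain ⟨i, hi⟩ := H.trans (x * x) (y * y) hx1 hx2 hy1 hy2
    refine ⟨i, ?_⟩
    rw [kq_mk, QuotientGroup.eq]
    have huu : k i x * k i x = y * y := by rw [← map_mul, hi]
    have hu4 : (k i x) ^ 4 = 1 := by
      rw [pow_four_eq, huu, hy2]
    have hcu : Commute y (k i x)⁻¹ := (show Commute y (k i x) from H.cent _ hu4 y).inv_right
    show (k i x)⁻¹ * y * ((k i x)⁻¹ * y) = 1
    rw [hcu.mul_mul_mul_comm, ← huu]
    group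
  sq := by
    intro i
    obtain ⟨m, hm⟩ := H.sq i
    refine ⟨m, fun q => ?_⟩
    obtain ⟨x, rfl⟩ := QuotientGroup.mk_surjective q
    rw [kq_mk, kq_mk, kq_mk, hm]

theorem card_quot_lt (H : Hyp k) [Finite P] {y : P} (hy1 : y ≠ 1) (hy2 : y * y = 1) :
    Nat.card (P ⧸ Vsub H) < Nat.card P := by
  have h := Subgroup.card_eq_card_quotient_mul_card_subgroup (Vsub H)
  have h2 : 2 ≤ Nat.card (Vsub H) := by
    haveI : Nontrivial (Vsub H) :=
      ⟨⟨⟨y, (mem_Vsub H).2 hy2⟩, 1, fun h => hy1 (by simpa using congrArg Subtype.val h)⟩⟩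
    exact Finite.one_lt_card
  have hpos : 0 < Nat.card (P ⧸ Vsub H) := Nat.card_pos
  calc Nat.card (P ⧸ Vsub H) < Nat.card (P ⧸ Vsub H) * 2 := by omega
    _ ≤ Nat.card (P ⧸ Vsub H) * Nat.card (Vsub H) := Nat.mul_le_mul_left _ h2
    _ = Nat.card P := h.symm

theorem V3 (H : Hyp k) (v : P) (hv1 : v ≠ 1) (hv : v * v = 1) (i : ι) (hkv : k i v ≠ v) :
    ∃ i', ∀ u : P, u * u = 1 → k i' u = u * k i u := by
  have hkvv : k i v * k i v = 1 := by rw [← map_mul, hv, map_one]
  have hw2 : (v * k i v) * (v * k i v) = 1 := by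
    rw [(show Commute (k i v) v from (H.inv_central hv (k i v))).mul_mul_mul_comm, hv, hkvv, one_mul]
  have hw1 : v * k i v ≠ 1 := by
    intro h
    have h5 : k i v = v⁻¹ := eq_inv_of_mul_eq_one_right h
    have hvi : v⁻¹ = v := (eq_inv_of_mul_eq_one_left hv).symm
    exact hkv (h5.trans hvi)
  obtain ⟨i', hi'⟩ := H.trans v (v * k i v) hv1 hv hw1 hw2
  refine ⟨i', fun u hu => ?_⟩
  by_cases hu1 : u = 1
  · rw [hu1, map_one, map_one, one_mul]
  · obtain ⟨m, hm⟩ := H.trans v u hv1 hv hu1 hu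
    rw [← hm, H.comm i' m v, hi', map_mul, H.comm m i v]

end basic

section FSsec
variable {P : Type u} [Group P] {ι : Type v} {k : ι → P →* P}
variable (H : Hyp k) (hV : ∀ a b : P, cm a b * cm a b = 1)
include H hV

theorem cm_central (a b g : P) : g * cm a b = cm a b * g :=
  H.inv_central (hV a b) g

theorem cm_inv_eq (a b : P) : (cm a b)⁻¹ = cm a b :=
  (eq_inv_of_mul_eq_one_left (hV a b)).symm

theorem cm_symm (a b : P) : cm a b = cm b a := by
  have h : cm b a = (cm a b)⁻¹ := by unfold cm; group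
  rw [h, cm_inv_eq H hV]

theorem cm_mul_left (a b g : P) : cm (a * b) g = cm a g * cm b g := by
  have e : cm (a * b) g = a * cm b g * a⁻¹ * cm a g := by unfold cm; group
  rw [e, cm_central H hV b g a, mul_inv_cancel_right, cm_central H hV a g (cm b g)]

theorem cm_mul_right (g a b : P) : cm g (a * b) = cm g a * cm g b := by
  rw [cm_symm H hV g (a * b), cm_mul_left H hV, cm_symm H hV a g, cm_symm H hV b g]

theorem cm_pow_right (g a : P) (n : ℕ) : cm g (a ^ n) = (cm g a) ^ n := by
  induction n with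
  | zero => simp [cm]
  | succ n ih => rw [pow_succ, cm_mul_right H hV, ih, pow_succ]

theorem sq_central (a g : P) : g * (a * a) = (a * a) * g := by
  have h : cm (a * a) g = 1 := by rw [cm_mul_left H hV, hV]
  exact ((cm_eq_one_iff _ _).1 h).symm

theorem pow4_mul (a b : P) : (a * b) ^ 4 = a ^ 4 * b ^ 4 := by
  have e2 : (a * b) * (a * b) = (a * a) * cm a⁻¹ b * (b * b) := by unfold cm; group
  have hA : ∀ g, Commute (a * a) g := fun g => (sq_central H hV a g).symm
  have hz' : ∀ g, Commute (cm a⁻¹ b) g := fun g => (cm_central H hV a⁻¹ b g).symm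
  have hzz : cm a⁻¹ b * cm a⁻¹ b = 1 := hV a⁻¹ b
  have e4 : (a * b) ^ 4 = ((a * b) * (a * b)) * ((a * b) * (a * b)) := pow_four_eq (a * b)
  have hAz : ∀ g, Commute ((a * a) * cm a⁻¹ b) g := fun g => (hA g).mul_left (hz' g)
  rw [e4, e2]
  calc (a * a) * cm a⁻¹ b * (b * b) * ((a * a) * cm a⁻¹ b * (b * b))
      = ((a * a) * cm a⁻¹ b) * ((a * a) * cm a⁻¹ b) * ((b * b) * (b * b)) := by
        rw [(hAz (b * b)).symm.mul_mul_mul_comm]
    _ = (a * a) * (a * a) * (cm a⁻¹ b * cm a⁻¹ b) * ((b * b) * (b * b)) := by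
        rw [(hz' (a * a)).mul_mul_mul_comm]
    _ = a ^ 4 * b ^ 4 := by rw [hzz, mul_one, pow_four_eq a, pow_four_eq b]

theorem pow4m_mul (a b : P) (m : ℕ) : (a * b) ^ (4 * m) = a ^ (4 * m) * b ^ (4 * m) := by
  rw [pow_mul, pow4_mul H hV, pow_mul, pow_mul]
  have hc : Commute (a ^ 4) (b ^ 4) := by
    rw [pow_four_eq a]
    have h1 : Commute (a * a) (b ^ 4) := (sq_central H hV a (b ^ 4)).symm
    exact h1.mul_left h1
  exact hc.mul_pow m

theorem pow2_mul (a b : P) {j : ℕ} (hj : 2 ≤ j) :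
    (a * b) ^ (2 ^ j) = a ^ (2 ^ j) * b ^ (2 ^ j) := by
  obtain ⟨j', rfl⟩ : ∃ j', j = j' + 2 := ⟨j - 2, by omega⟩
  have h : 2 ^ (j' + 2) = 4 * 2 ^ j' := by ring
  rw [h]; exact pow4m_mul H hV a b _

theorem level (hP : IsPGroup 2 P) :
    ∀ a : ℕ, ∀ x y : P, x ^ (2 ^ a) = 1 → y ^ (2 ^ a) = 1 → cm x y = 1 := by
  intro a
  induction a with
  | zero =>
    intro x y _ hy
    have h : y = 1 := by simpa using hy
    rw [h]; exact cm_one_right x
  | succ a IH =>
    intro x y hx hy
    by_cases ha : a < 2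
    · have hd : (2 : ℕ) ^ (a + 1) ∣ 4 := by
        have h := pow_dvd_pow 2 (show a + 1 ≤ 2 by omega)
        simpa using h
      have hy4 : y ^ 4 = 1 := pow_eq_one_of_dvd' hy hd
      exact (cm_eq_one_iff _ _).2 (H.cent y hy4 x)
    · have ha2 : 2 ≤ a := by omega
      have hπmul : ∀ z1 z2 : P, (z1 * z2) ^ (2 ^ a) = z1 ^ (2 ^ a) * z2 ^ (2 ^ a) :=
        fun z1 z2 => pow2_mul H hV z1 z2 ha2
      have hπsq : ∀ z : P, z ^ (2 ^ (a + 1)) = 1 → z ^ (2 ^ a) * z ^ (2 ^ a) = 1 := by
        intro z hz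
        rw [← pow_add, ← two_mul, ← pow_succ']; exact hz
      have hΩk : ∀ (i : ι) (z : P), z ^ (2 ^ (a + 1)) = 1 → (k i z) ^ (2 ^ (a + 1)) = 1 := by
        intro i z h; rw [← map_pow, h, map_one]
      -- M : elements killed by 2^(a+1) commute with elements killed by 2^b, b ≤ a
      have M : ∀ b : ℕ, b ≤ a → ∀ x w : P, x ^ (2 ^ (a + 1)) = 1 → w ^ (2 ^ b) = 1 →
          cm x w = 1 := by
        intro b
        induction b with
        | zero =>
          intro _ x w _ hw
          have h : w = 1 := by simpa using hw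
          rw [h]; exact cm_one_right x
        | succ b ihb =>
          intro hb x w hx hw
          by_cases hb2 : b < 2
          · have hd : (2 : ℕ) ^ (b + 1) ∣ 4 := by
              have h := pow_dvd_pow 2 (show b + 1 ≤ 2 by omega)
              simpa using h
            have hw4 : w ^ 4 = 1 := pow_eq_one_of_dvd' hw hd
            exact (cm_eq_one_iff _ _).2 (H.cent w hw4 x)
          · have hb2' : 2 ≤ b := by omega
            by_cases hxa : x ^ (2 ^ a) = 1
            · exact IH x w hxa (pow_eq_one_of_dvd' hw (pow_dvd_pow 2 hb))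
            · by_cases hwb : w ^ (2 ^ b) = 1
              · exact ihb (by omega) x w hx hwb
              · have hvv : x ^ (2 ^ a) * x ^ (2 ^ a) = 1 := hπsq x hx
                have huu : w ^ (2 ^ b) * w ^ (2 ^ b) = 1 := by
                  rw [← pow_add, ← two_mul, ← pow_succ']; exact hw
                obtain ⟨i, hi⟩ := H.trans _ _ hxa hvv hwb huu
                obtain ⟨e, he⟩ : ∃ e, a = e + 1 + b := ⟨a - b - 1, by omega⟩
                have htb : ((k i x) ^ (2 ^ (e + 1))) ^ (2 ^ b) = w ^ (2 ^ b) := by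
                  rw [← pow_mul, ← pow_add, ← map_pow, ← he, hi]
                have hw' : (((k i x) ^ (2 ^ (e + 1)))⁻¹ * w) ^ (2 ^ b) = 1 := by
                  rw [pow2_mul H hV _ _ hb2', inv_pow, htb, inv_mul_cancel]
                have h1 : cm x (((k i x) ^ (2 ^ (e + 1)))⁻¹ * w) = 1 :=
                  ihb (by omega) x _ hx hw'
                have hwt : cm x w = cm x ((k i x) ^ (2 ^ (e + 1)) *
                    (((k i x) ^ (2 ^ (e + 1)))⁻¹ * w)) := by
                  congr 1; group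
                rw [hwt, cm_mul_right H hV, h1, mul_one, cm_pow_right H hV, pow_succ', pow_mul,
                  pow_two, hV, one_pow]
      -- E1
      have E1 : ∀ x y : P, x ^ (2 ^ (a + 1)) = 1 → y ^ (2 ^ (a + 1)) = 1 →
          ∀ i, cm (k i x) y = cm x (k i y) := by
        intro x y hx hy i
        by_cases htriv : ∀ u : P, u * u = 1 → k i u = u
        · have hw : ∀ z : P, z ^ (2 ^ (a + 1)) = 1 → (z⁻¹ * k i z) ^ (2 ^ a) = 1 := by
            intro z hz
            rw [hπmul, inv_pow, ← map_pow, htriv _ (hπsq z hz), inv_mul_cancel]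
          have m1 : cm y (x⁻¹ * k i x) = 1 := M a le_rfl y _ hy (hw x hx)
          have m2 : cm x (y⁻¹ * k i y) = 1 := M a le_rfl x _ hx (hw y hy)
          have e1 : cm (k i x) y = cm (x * (x⁻¹ * k i x)) y := by congr 1; group
          have e2 : cm x (k i y) = cm x (y * (y⁻¹ * k i y)) := by congr 1; group
          rw [e1, e2, cm_mul_left H hV, cm_symm H hV (x⁻¹ * k i x) y, m1, mul_one,
            cm_mul_right H hV, m2, mul_one]
        · simp only [not_forall] at htriv
          obtain ⟨u0, hu0, hku0⟩ := htriv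
          have hu01 : u0 ≠ 1 := by
            rintro rfl; exact hku0 (map_one _)
          obtain ⟨i', hi'⟩ := V3 H u0 hu01 hu0 i hku0
          have hw : ∀ z : P, z ^ (2 ^ (a + 1)) = 1 →
              ((k i' z)⁻¹ * (z * k i z)) ^ (2 ^ a) = 1 := by
            intro z hz
            rw [hπmul, hπmul, inv_pow, ← map_pow, ← map_pow, hi' _ (hπsq z hz), inv_mul_cancel]
          obtain ⟨wx, hwxdef⟩ : ∃ wx, wx = (k i' x)⁻¹ * (x * k i x) := ⟨_, rfl⟩
          obtain ⟨wy, hwydef⟩ : ∃ wy, wy = (k i' y)⁻¹ * (y * k i y) := ⟨_, rfl⟩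
          have ex : x * k i x = k i' x * wx := by rw [hwxdef]; group
          have ey : y * k i y = k i' y * wy := by rw [hwydef]; group
          have hΩx : (k i' x) ^ (2 ^ (a + 1)) = 1 := hΩk i' x hx
          have hΩy : (k i' y) ^ (2 ^ (a + 1)) = 1 := hΩk i' y hy
          have hwxN : wx ^ (2 ^ a) = 1 := by rw [hwxdef]; exact hw x hx
          have hwyN : wy ^ (2 ^ a) = 1 := by rw [hwydef]; exact hw y hy
          have c1 : cm (x * k i x) (y * k i y) = cm (k i' x) (k i' y) := by
            rw [ex, ey, cm_mul_left H hV, cm_mul_right H hV (k i' x) (k i' y) wy,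
              cm_mul_right H hV wx (k i' y) wy,
              M a le_rfl (k i' x) wy hΩx hwyN, cm_symm H hV wx (k i' y),
              M a le_rfl (k i' y) wx hΩy hwxN, IH wx wy hwxN hwyN]
            simp
          have c2 : cm (x * k i x) (y * k i y)
              = cm x y * cm x (k i y) * (cm (k i x) y * cm (k i x) (k i y)) := by
            rw [cm_mul_left H hV, cm_mul_right H hV, cm_mul_right H hV]
          have c3 : cm (k i' x) (k i' y) = cm x y * cm (k i x) (k i y) := by
            rw [← map_cm k i' x y, hi' _ (hV x y), map_cm k i x y]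
          have c4 : cm x y * cm x (k i y) * (cm (k i x) y * cm (k i x) (k i y))
              = cm x y * cm (k i x) (k i y) := by
            rw [← c2, c1, c3]
          have h1 : cm x (k i y) * (cm (k i x) y * cm (k i x) (k i y)) = cm (k i x) (k i y) :=
            mul_left_cancel ((mul_assoc _ _ _).symm.trans c4)
          have h2 : (cm x (k i y) * cm (k i x) y) * cm (k i x) (k i y)
              = 1 * cm (k i x) (k i y) := by rw [mul_assoc, h1, one_mul]
          have c5 : cm x (k i y) * cm (k i x) y = 1 := mul_right_cancel h2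
          have h6 := eq_inv_of_mul_eq_one_right c5
          rw [h6, cm_inv_eq H hV]
      -- T
      have T : ∀ x : P, x ^ (2 ^ (a + 1)) = 1 → ∀ i, cm x (k i x) = 1 := by
        intro x hx i
        obtain ⟨m, hm⟩ := H.sq i
        rw [← hm x, ← E1 x (k m x) hx (hΩk m x hx) m]
        exact cm_self _
      by_cases hya : y ^ (2 ^ a) = 1
      · exact M a le_rfl x y hx hya
      · by_cases hxa : x ^ (2 ^ a) = 1
        · rw [cm_symm H hV]; exact M a le_rfl y x hy hxa
        · obtain ⟨i, hi⟩ := H.trans _ _ hxa (hπsq x hx) hya (hπsq y hy)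
          have hw : ((k i x)⁻¹ * y) ^ (2 ^ a) = 1 := by
            rw [hπmul, inv_pow, ← map_pow, hi, inv_mul_cancel]
          have hy' : cm x y = cm x (k i x * ((k i x)⁻¹ * y)) := by congr 1; group
          rw [hy', cm_mul_right H hV, T x hx i, one_mul]
          exact M a le_rfl x _ hx hw

theorem FS (hP : IsPGroup 2 P) (a b : P) : a * b = b * a := by
  obtain ⟨m, hm⟩ := hP a
  obtain ⟨n, hn⟩ := hP b
  have ha : a ^ (2 ^ (m + n)) = 1 :=
    pow_eq_one_of_dvd' hm (pow_dvd_pow 2 (Nat.le_add_right m n))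
  have hb : b ^ (2 ^ (m + n)) = 1 :=
    pow_eq_one_of_dvd' hn (pow_dvd_pow 2 (Nat.le_add_left n m))
  exact (cm_eq_one_iff a b).1 (level H hV hP (m + n) a b ha hb)

end FSsec

theorem SS {ι : Type v} : ∀ n : ℕ, ∀ (P : Type u) [Group P] [Finite P] (k : ι → P →* P),
    Nat.card P ≤ n → IsPGroup 2 P → Hyp k → ∀ a b : P, a * b = b * a := by
  intro n
  induction n with
  | zero =>
    intro P _ _ k hn
    have := Nat.card_pos (α := P)
    omega
  | succ n ih =>
    intro P _ _ k hn hP H a b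
    by_cases hab : a * b = b * a
    · exact hab
    · exfalso
      have ha1 : a ≠ 1 := by
        rintro rfl; exact hab (by simp)
      obtain ⟨m, hm1, hm2⟩ := exists_invol_pow hP ha1
      have hlt := card_quot_lt H hm1 hm2
      have hq := ih (P ⧸ Vsub H) (kq H) (by omega) (hP.to_quotient (Vsub H)) (hyp_quot H hP)
      have hV : ∀ a b : P, cm a b * cm a b = 1 := by
        intro a b
        have h0 := hq (a : P ⧸ Vsub H) (b : P ⧸ Vsub H)
        have h1 : ((cm a b : P) : P ⧸ Vsub H) = 1 := by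
          unfold cm
          simp only [QuotientGroup.mk_mul, QuotientGroup.mk_inv]
          rw [h0]; group
        exact (mem_Vsub H).1 ((QuotientGroup.eq_one_iff _).1 h1)
      exact hab (FS H hV hP a b)

/-- In a Suzuki 2-group `P` (a finite non-abelian 2-group with more than one involution admitting a cyclic group of automorphisms regular on its involutions) the involutions are exactly the non-identity central elements, and `Z(P)` is elementary abelian. -/
theorem result {P : Type*} [Group P] (hP : Cfsg.IsSuzukiTwoGroup P) :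
    (∀ x : P, (x ≠ 1 ∧ x * x = 1) ↔ (x ∈ Subgroup.center P ∧ x ≠ 1)) ∧
      ∀ z ∈ Subgroup.center P, z * z = 1 := by
  obtain ⟨hfin, h2, ⟨x0, y0, hxy⟩, ⟨s, t, _, hs1, hs2, _, _⟩, K, hKc, hreg⟩ := hP
  haveI := hfin
  haveI : Nontrivial P := ⟨⟨s, 1, hs1⟩⟩
  haveI : Fact (Nat.Prime 2) := ⟨Nat.prime_two⟩
  haveI hcn : Nontrivial (Subgroup.center P) := h2.center_nontrivial
  obtain ⟨⟨z0, hz0⟩, hz01⟩ := exists_ne (1 : Subgroup.center P)
  have hz01' : z0 ≠ 1 := fun h => hz01 (Subtype.ext h)
  obtain ⟨n0, hn1, hn2⟩ := exists_invol_pow h2 hz01'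
  have hz0c : z0 ^ n0 ∈ Subgroup.center P := Subgroup.pow_mem _ hz0 n0
  -- automorphisms preserve the centre
  have haut : ∀ (κ : K) (c : P), c ∈ Subgroup.center P →
      (κ : MulAut P) c ∈ Subgroup.center P := by
    intro κ c hc
    rw [Subgroup.mem_center_iff] at hc ⊢
    intro g
    obtain ⟨g', rfl⟩ : ∃ g', (κ : MulAut P) g' = g := ⟨(κ : MulAut P)⁻¹ g, by simp⟩
    rw [← map_mul, ← map_mul, hc]
  -- Step 1: involutions are central
  have step1 : ∀ y : P, y ≠ 1 → y * y = 1 → y ∈ Subgroup.center P := by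
    intro y hy1 hy2
    obtain ⟨κ, hκ, _⟩ := hreg (z0 ^ n0) y hn1 hn2 hy1 hy2
    rw [← hκ]; exact haut κ _ hz0c
  -- K is commutative
  have hKcomm : ∀ a b : K, a * b = b * a := by
    intro a b
    haveI := hKc
    obtain ⟨g, hg⟩ := IsCyclic.exists_generator (α := K)
    obtain ⟨m, rfl⟩ := Subgroup.mem_zpowers_iff.1 (hg a)
    obtain ⟨n, rfl⟩ := Subgroup.mem_zpowers_iff.1 (hg b)
    exact zpow_mul_comm g m n
  -- K is finite
  haveI hKfin : Finite K := by
    refine Finite.of_injective (fun κ : K => (κ : MulAut P) s) ?_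
    intro κ κ' h
    have h' : (κ : MulAut P) s = (κ' : MulAut P) s := h
    have hs' : (κ' : MulAut P) s ≠ 1 := fun h0 => hs1 ((MulEquiv.map_eq_one_iff (κ' : MulAut P)).1 h0)
    have hs'' : (κ' : MulAut P) s * (κ' : MulAut P) s = 1 := by rw [← map_mul, hs2, map_one]
    exact (hreg s ((κ' : MulAut P) s) hs1 hs2 hs' hs'').unique h' rfl
  -- K has odd order
  have hKodd : Odd (Nat.card K) := by
    by_contra hodd
    rw [Nat.not_odd_iff_even] at hodd
    obtain ⟨κ, hκ⟩ := exists_prime_orderOf_dvd_card' 2 hodd.two_dvd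
    have hκ2 : κ * κ = 1 := by rw [← pow_two, ← hκ, pow_orderOf_eq_one]
    have hκ1 : κ ≠ 1 := by
      intro h; rw [h, orderOf_one] at hκ; omega
    have hks1 : (κ : MulAut P) s ≠ 1 := fun h0 => hs1 ((MulEquiv.map_eq_one_iff (κ : MulAut P)).1 h0)
    have hks2 : (κ : MulAut P) s * (κ : MulAut P) s = 1 := by rw [← map_mul, hs2, map_one]
    have hkks : (κ : MulAut P) ((κ : MulAut P) s) = s := by
      have : ((κ * κ : K) : MulAut P) s = s := by rw [hκ2]; rfl
      rwa [Subgroup.coe_mul, MulAut.mul_apply] at this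
    have hne : (κ : MulAut P) s ≠ s := by
      intro h
      have h1 : ((1 : K) : MulAut P) s = s := rfl
      exact hκ1 ((hreg s s hs1 hs2 hs1 hs2).unique h h1)
    have hsc := step1 s hs1 hs2
    have hcomm : Commute ((κ : MulAut P) s) s := (Subgroup.mem_center_iff.1 hsc) _
    have hw2 : (s * (κ : MulAut P) s) * (s * (κ : MulAut P) s) = 1 := by
      rw [hcomm.mul_mul_mul_comm, hs2, hks2, one_mul]
    have hw1 : s * (κ : MulAut P) s ≠ 1 := by
      intro h
      have h5 : (κ : MulAut P) s = s⁻¹ := eq_inv_of_mul_eq_one_right h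
      have hsi : s⁻¹ = s := (eq_inv_of_mul_eq_one_left hs2).symm
      exact hne (h5.trans hsi)
    have hfix : (κ : MulAut P) (s * (κ : MulAut P) s) = s * (κ : MulAut P) s := by
      rw [map_mul, hkks]; exact hcomm.eq
    have h1 : ((1 : K) : MulAut P) (s * (κ : MulAut P) s) = s * (κ : MulAut P) s := rfl
    exact hκ1 ((hreg _ _ hw1 hw2 hw1 hw2).unique hfix h1)
  have hsq : ∀ i : K, ∃ m : K, ∀ x : P,
      (m : MulAut P) ((m : MulAut P) x) = (i : MulAut P) x := by
    intro i
    obtain ⟨r, hr⟩ := hKodd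
    refine ⟨i ^ (r + 1), fun x => ?_⟩
    have h : (i ^ (r + 1)) * (i ^ (r + 1)) = i := by
      rw [← pow_add]
      have h' : r + 1 + (r + 1) = Nat.card K + 1 := by omega
      rw [h', pow_succ, pow_card_eq_one', one_mul]
    rw [← MulAut.mul_apply, ← Subgroup.coe_mul, h]
  -- the key contradiction
  have key : ∀ w : P, w ∈ Subgroup.center P → w * w ≠ 1 → (w * w) * (w * w) = 1 → False := by
    intro w hwc hw1 hw2
    have hcent : ∀ x : P, x ^ 4 = 1 → ∀ g : P, g * x = x * g := by
      intro x hx4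
      have hx22 : (x * x) * (x * x) = 1 := by rw [← pow_four_eq, hx4]
      have hxc : x ∈ Subgroup.center P := by
        by_cases hx2 : x * x = 1
        · by_cases hx1 : x = 1
          · rw [hx1]; exact Subgroup.one_mem _
          · exact step1 x hx1 hx2
        · obtain ⟨κ, hκ, _⟩ := hreg (w * w) (x * x) hw1 hw2 hx2 hx22
          have hcc : (κ : MulAut P) w ∈ Subgroup.center P := haut κ w hwc
          have hc2 : (κ : MulAut P) w * (κ : MulAut P) w = x * x := by rw [← map_mul, hκ]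
          have hcomm : Commute ((κ : MulAut P) w)⁻¹ x :=
            (show Commute ((κ : MulAut P) w) x from
              ((Subgroup.mem_center_iff.1 hcc) x).symm).inv_left
          have hd2 : (x * ((κ : MulAut P) w)⁻¹) * (x * ((κ : MulAut P) w)⁻¹) = 1 := by
            rw [hcomm.mul_mul_mul_comm, ← hc2]
            group
          have hdc : x * ((κ : MulAut P) w)⁻¹ ∈ Subgroup.center P := by
            by_cases hd1 : x * ((κ : MulAut P) w)⁻¹ = 1
            · rw [hd1]; exact Subgroup.one_mem _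
            · exact step1 _ hd1 hd2
          have hx : x = (x * ((κ : MulAut P) w)⁻¹) * (κ : MulAut P) w := by group
          rw [hx]; exact Subgroup.mul_mem _ hdc hcc
      exact fun g => (Subgroup.mem_center_iff.1 hxc) g
    have H : Hyp (fun κ : K => ((κ : MulAut P) : P ≃* P).toMonoidHom) :=
      { cent := hcent
        comm := by
          intro i j x
          show (i : MulAut P) ((j : MulAut P) x) = (j : MulAut P) ((i : MulAut P) x)
          rw [← MulAut.mul_apply, ← MulAut.mul_apply, ← Subgroup.coe_mul, ← Subgroup.coe_mul,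
            hKcomm i j]
        inj := by
          intro i x hx
          exact (MulEquiv.map_eq_one_iff (i : MulAut P)).1 hx
        trans := by
          intro x y hx1 hx2 hy1 hy2
          obtain ⟨κ, hκ, _⟩ := hreg x y hx1 hx2 hy1 hy2
          exact ⟨κ, hκ⟩
        sq := by
          intro i
          obtain ⟨m, hm⟩ := hsq i
          exact ⟨m, fun x => hm x⟩ }
    exact hxy (SS (Nat.card P) P _ le_rfl h2 H x0 y0)
  have part2 : ∀ z ∈ Subgroup.center P, z * z = 1 := by
    intro z hz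
    by_contra hzz
    obtain ⟨n, hn1', hn2'⟩ := exists_invol_pow h2 hzz
    have e : (z * z) ^ n = z ^ n * z ^ n := (Commute.refl z).mul_pow n
    rw [e] at hn1' hn2'
    exact key (z ^ n) (Subgroup.pow_mem _ hz n) hn1' hn2'
  exact ⟨fun x => ⟨fun h => ⟨step1 x h.1 h.2, h.1⟩, fun h => ⟨h.2, part2 x h.1⟩⟩, part2⟩

end Cfsg.Agent.S1137
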