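import Mathlib
import Cfsg.Statements.S1141
import Cfsg.Agent.Lib_helper17_U3c
import Cfsg.Agent.Lib_helper17_U3s

set_option autoImplicit false
open Cfsg

namespace Cfsg.Agent.S1141

open Cfsg.Agent.helper17

theorem result {F : Type*} [Field F] [Fintype F] {n : ℕ} (hn : 2 ≤ n)
    (hF : Fintype.card F = (2 ^ n) ^ 2) (S : Sylow 2 (Cfsg.PSU 3 F (2 ^ n))) :
    Nat.card S = (2 ^ n) ^ 3 ∧ Nat.card (Subgroup.center ↥(S : Subgroup (Cfsg.PSU 3 F (2 ^ n)))) = 2 ^ n ∧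
      Cfsg.IsSuzukiTwoGroup ↥(S : Subgroup (Cfsg.PSU 3 F (2 ^ n))) := by
  have h : U3.Hyp F (2 ^ n) := U3.Hyp.of_pow hF
  obtain ⟨c⟩ := U3.exists_coord h rfl S
  have h4 : 4 ≤ 2 ^ n := by
    calc 4 = 2 ^ 2 := by norm_num
      _ ≤ 2 ^ n := Nat.pow_le_pow_right (by norm_num) hn
  exact ⟨c.card_eq h, c.card_center h, c.isSuzuki h rfl h4⟩

end Cfsg.Agent.S1141
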