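import Cfsg.Statements.S1160
import Mathlib
import Cfsg.Agent.Lib_helper6_ConstStab
import Cfsg.Agent.S0126
-- import your own Cfsg.Agent.* helpers here

set_option autoImplicit false
open Cfsg

namespace Cfsg.Agent.S1160

/-- Let `p ≠ 2` be prime and `P` a finite `p`-group acting faithfully by additive automorphisms on a finite elementary abelian `q`-group `E` (`q` prime), such that `|P_a|` is the same for all `a ≠ 0`. Then `P` is cyclic and every non-identity element of `P` fixes only `0`. -/
theorem result {P E : Type*} [Group P] [Finite P]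
    [AddCommGroup E] [Finite E] [DistribMulAction P E] [FaithfulSMul P E]
    {p q : ℕ} [Fact p.Prime] (hp2 : p ≠ 2) (hP : IsPGroup p P) (hq : q.Prime) (hE : ∀ e : E, q • e = 0)
    (hconst : ∀ a b : E, a ≠ 0 → b ≠ 0 →
      Nat.card (MulAction.stabilizer P a) = Nat.card (MulAction.stabilizer P b)) :
    IsCyclic P ∧ ∀ g : P, g ≠ 1 → ∀ a : E, g • a = a → a = 0 := by
  have hp : p.Prime := Fact.out
  have htriv : (∀ g : P, g = 1) →
      IsCyclic P ∧ ∀ g : P, g ≠ 1 → ∀ a : E, g • a = a → a = 0 := by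
    intro h
    haveI : Subsingleton P := ⟨fun a b => by rw [h a, h b]⟩
    exact ⟨isCyclic_of_subsingleton, fun g hg => absurd (h g) hg⟩
  by_cases hE0 : ∀ e : E, e = 0
  · apply htriv
    intro g
    exact eq_of_smul_eq_smul (α := E) (fun e => by rw [hE0 e, smul_zero, smul_zero])
  push Not at hE0
  obtain ⟨e₀, he₀⟩ := hE0
  by_cases hqp : q = p
  · apply htriv
    subst hqp
    have h1 := hP.card_modEq_card_fixedPoints E
    have h2 : q ∣ Nat.card E := by
      have h := addOrderOf_dvd_natCard e₀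
      rwa [addOrderOf_eq_prime (hE e₀) he₀] at h
    have h3 : q ∣ Nat.card (MulAction.fixedPoints P E) :=
      (Nat.modEq_zero_iff_dvd.mp (h1.symm.trans (Nat.modEq_zero_iff_dvd.mpr h2)))
    have h0f : (0 : E) ∈ MulAction.fixedPoints P E := fun g => smul_zero g
    have h4 : 1 < Nat.card (MulAction.fixedPoints P E) := by
      have hpos : 0 < Nat.card (MulAction.fixedPoints P E) := by
        haveI : Nonempty (MulAction.fixedPoints P E) := ⟨⟨0, h0f⟩⟩
        exact Nat.card_pos
      exact lt_of_lt_of_le hp.one_lt (Nat.le_of_dvd hpos h3)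
    obtain ⟨⟨a₀, ha₀f⟩, ha₀⟩ : ∃ a : MulAction.fixedPoints P E, a ≠ ⟨0, h0f⟩ := by
      haveI : Nontrivial (MulAction.fixedPoints P E) :=
        (Finite.one_lt_card_iff_nontrivial).mp h4
      exact exists_ne _
    have ha₀0 : a₀ ≠ 0 := fun h => ha₀ (Subtype.ext h)
    have htop : MulAction.stabilizer P a₀ = ⊤ := by
      ext g
      simp only [MulAction.mem_stabilizer_iff, Subgroup.mem_top, iff_true]
      exact ha₀f g
    intro g
    apply eq_of_smul_eq_smul (α := E)
    intro b
    rw [one_smul]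
    by_cases hb : b = 0
    · rw [hb, smul_zero]
    · have h5 := hconst b a₀ hb ha₀0
      rw [htop, Subgroup.card_top] at h5
      have h6 := (Subgroup.card_eq_iff_eq_top _).mp h5
      have h7 : g ∈ MulAction.stabilizer P b := by rw [h6]; trivial
      exact h7
  · have hcop : ∀ v : E, p • v = 0 → v = 0 := by
      intro v hv
      have h1 : addOrderOf v ∣ p := addOrderOf_dvd_of_nsmul_eq_zero hv
      have h2 : addOrderOf v ∣ q := addOrderOf_dvd_of_nsmul_eq_zero (hE v)
      have h3 : addOrderOf v ∣ Nat.gcd p q := Nat.dvd_gcd h1 h2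
      have h4 : Nat.gcd p q = 1 := (Nat.coprime_primes hp hq).mpr (Ne.symm hqp)
      rw [h4] at h3
      exact AddMonoid.addOrderOf_eq_one_iff.mp (Nat.dvd_one.mp h3)
    have hcyc : IsCyclic P := by
      by_contra hnc
      obtain ⟨A, hAn, hAe, hAc⟩ := Cfsg.Agent.S0126.result hp2 hP hnc
      haveI := hAn
      exact Cfsg.Agent.helper6.ConstStab.no_normal_rank_two p hp2 hP hconst hcop e₀ he₀ A
        (fun a ha b hb => congrArg Subtype.val (hAe.1.is_comm.comm ⟨a, ha⟩ ⟨b, hb⟩)) hAe.2 hAc
    refine ⟨hcyc, ?_⟩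
    intro g hg1 a hga
    obtain ⟨k, hk⟩ := (IsPGroup.iff_orderOf.mp hP) g
    have hk0 : k ≠ 0 := by
      rintro rfl
      rw [pow_zero, orderOf_eq_one_iff] at hk
      exact hg1 hk
    obtain ⟨k', rfl⟩ := Nat.exists_eq_succ_of_ne_zero hk0
    obtain ⟨z, hz⟩ : ∃ z : P, z = g ^ p ^ k' := ⟨_, rfl⟩
    have hzp : z ^ p = 1 := by
      rw [hz, ← pow_mul, ← pow_succ, ← hk]
      exact pow_orderOf_eq_one g
    have hz1 : z ≠ 1 := by
      rw [hz]
      apply pow_ne_one_of_lt_orderOf (pow_ne_zero _ hp.ne_zero)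
      rw [hk]
      exact Nat.pow_lt_pow_right hp.one_lt (Nat.lt_succ_self k')
    haveI := hcyc
    have hcomm : ∀ x y : P, x * y = y * x := fun x y =>
      (IsCyclic.isMulCommutative (α := P)).is_comm.comm x y
    have hza : z • a = a := by
      rw [hz]
      exact Cfsg.Agent.helper6.ConstStab.pow_smul_of_fixed g a hga _
    exact Cfsg.Agent.helper6.ConstStab.central_fpf p hconst hcop z (fun g' => hcomm g' z)
      hz1 hzp a hza

end Cfsg.Agent.S1160
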