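import Cfsg.Statements.S1163
import Cfsg.Agent.Lib_helper11_Sz14

set_option autoImplicit false
open Cfsg

namespace Cfsg.Agent.S1163

open Cfsg.Agent.helper11.Sz Cfsg.Agent.S0326 Cfsg.Agent.S0327 Matrix

/-- For the Suzuki group Sz(q), q = 2^(2m+1) ≥ 8, realised as the elements g of Sp₄(F) with g* = g^θ (θ the 2^(m+1)-th power map, so that θ² is squaring): `|Sz(q)| = q² (q - 1) (q² + 1)`, and there is a Sylow 2-subgroup `S` whose normaliser `H` has order `q²(q-1)` and index `q² + 1`, the action of `Sz(q)` on the cosets of `H` is doubly transitive, and `S` acts regularly on the cosets other than `H` itself. -/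
theorem result {F : Type*} [Field F] [Fintype F] {m : ℕ} (hm : 1 ≤ m) (hF : Fintype.card F = 2 ^ (2 * m + 1)) :
    Nat.card ↥(Cfsg.Lie.Sz F (2 ^ (m + 1))) = (2 ^ (2 * m + 1)) ^ 2 * (2 ^ (2 * m + 1) - 1) * ((2 ^ (2 * m + 1)) ^ 2 + 1) ∧
    ∃ S : Sylow 2 ↥(Cfsg.Lie.Sz F (2 ^ (m + 1))),
      Nat.card (Subgroup.normalizer ((S : Subgroup ↥(Cfsg.Lie.Sz F (2 ^ (m + 1)))) : Set ↥(Cfsg.Lie.Sz F (2 ^ (m + 1))))) = (2 ^ (2 * m + 1)) ^ 2 * (2 ^ (2 * m + 1) - 1) ∧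
      (Subgroup.normalizer ((S : Subgroup ↥(Cfsg.Lie.Sz F (2 ^ (m + 1)))) : Set ↥(Cfsg.Lie.Sz F (2 ^ (m + 1))))).index = (2 ^ (2 * m + 1)) ^ 2 + 1 ∧
      MulAction.IsMultiplyPretransitive ↥(Cfsg.Lie.Sz F (2 ^ (m + 1))) (↥(Cfsg.Lie.Sz F (2 ^ (m + 1))) ⧸ Subgroup.normalizer ((S : Subgroup ↥(Cfsg.Lie.Sz F (2 ^ (m + 1)))) : Set ↥(Cfsg.Lie.Sz F (2 ^ (m + 1))))) 2 ∧
      ∀ x y : ↥(Cfsg.Lie.Sz F (2 ^ (m + 1))) ⧸ Subgroup.normalizer ((S : Subgroup ↥(Cfsg.Lie.Sz F (2 ^ (m + 1)))) : Set ↥(Cfsg.Lie.Sz F (2 ^ (m + 1)))),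
        x ≠ (QuotientGroup.mk 1) → y ≠ (QuotientGroup.mk 1) → ∃! s : ↥(S : Subgroup ↥(Cfsg.Lie.Sz F (2 ^ (m + 1)))), (s : ↥(Cfsg.Lie.Sz F (2 ^ (m + 1)))) • x = y := by
  haveI := Cfsg.Agent.helper11.Sz.charP_two hF
  haveI : Fact (Nat.Prime 2) := ⟨Nat.prime_two⟩
  set e := lieSzEquiv hm hF with he
  have hcardG : Nat.card ↥(Cfsg.Lie.Sz F (2 ^ (m + 1))) =
      (2 ^ (2 * m + 1)) ^ 2 * ((2 ^ (2 * m + 1)) ^ 2 + 1) * (2 ^ (2 * m + 1) - 1) := by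
    rw [← Nat.card_congr e.toEquiv, card_Sz hm hF, hF]
  refine ⟨by rw [hcardG]; ring, ?_⟩
  letI act : MulAction ↥(Cfsg.Lie.Sz F (2 ^ (m + 1))) (Cfsg.suzukiOvoid F m) :=
    MulAction.compHom (Cfsg.suzukiOvoid F m) e.symm.toMonoidHom
  have hact : ∀ (g : ↥(Cfsg.Lie.Sz F (2 ^ (m + 1)))) (x : Cfsg.suzukiOvoid F m),
      g • x = e.symm g • x := fun g x => rfl
  -- the Sylow subgroup
  have hcardS : Nat.card ((Qs hm hF).map e.toMonoidHom) =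
      2 ^ (Nat.card ↥(Cfsg.Lie.Sz F (2 ^ (m + 1)))).factorization 2 := by
    rw [← Nat.card_congr ((Qs hm hF).equivMapOfInjective e.toMonoidHom e.injective).toEquiv,
      card_Qs hm hF, hcardG, hF, factorization_two', ← pow_mul, mul_comm]
  refine ⟨Sylow.ofCard ((Qs hm hF).map e.toMonoidHom) hcardS, ?_⟩
  rw [Sylow.coe_ofCard]
  have hN : Subgroup.normalizer (((Qs hm hF).map e.toMonoidHom :
      Subgroup ↥(Cfsg.Lie.Sz F (2 ^ (m + 1)))) : Set ↥(Cfsg.Lie.Sz F (2 ^ (m + 1)))) =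
      MulAction.stabilizer ↥(Cfsg.Lie.Sz F (2 ^ (m + 1))) (pt (F := F) m none) := by
    ext g
    rw [← Subgroup.map_equiv_normalizer_eq, Subgroup.mem_map_equiv, normalizer_Qs hm hF,
      MulAction.mem_stabilizer_iff, MulAction.mem_stabilizer_iff, hact]
  obtain ⟨hfaith, h2tr, -, -, -⟩ := Cfsg.Agent.S0327.result hm hF
  rw [MulAction.is_two_pretransitive_iff] at h2tr
  have h2 : ∀ x y z w : Cfsg.suzukiOvoid F m, x ≠ y → z ≠ w →
      ∃ g : ↥(Cfsg.Lie.Sz F (2 ^ (m + 1))), g • x = z ∧ g • y = w := by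
    intro x y z w hxy hzw
    obtain ⟨g, hg1, hg2⟩ := h2tr hxy hzw
    refine ⟨e g, ?_, ?_⟩
    · rw [hact, e.symm_apply_apply, hg1]
    · rw [hact, e.symm_apply_apply, hg2]
  have hreg : ∀ x y : Cfsg.suzukiOvoid F m, x ≠ pt m none → y ≠ pt m none →
      ∃! s : ((Qs hm hF).map e.toMonoidHom : Subgroup ↥(Cfsg.Lie.Sz F (2 ^ (m + 1)))),
        (s : ↥(Cfsg.Lie.Sz F (2 ^ (m + 1)))) • x = y := by
    intro x y hx hy
    obtain ⟨t, ht, htu⟩ := Qs_regular hm hF x y hx hy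
    refine ⟨⟨e t.1, Subgroup.mem_map_of_mem _ t.2⟩, ?_, ?_⟩
    · show e (t : Cfsg.Sz F m) • x = y
      rw [hact, e.symm_apply_apply]
      exact ht
    · rintro ⟨s, hs⟩ hsy
      obtain ⟨t', ht', rfl⟩ := hs
      have hsy' : e t' • x = y := hsy
      rw [hact] at hsy'
      have h3 : e.symm (e t') = t' := e.symm_apply_apply t'
      have h4 : (e.toMonoidHom t') = e t' := rfl
      have := htu ⟨t', ht'⟩ (by
        show t' • x = y
        rw [← h3]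
        exact hsy')
      apply Subtype.ext
      show e.toMonoidHom t' = e t.1
      rw [h4, ← this]
  obtain ⟨hq2, hqreg⟩ := quotient_props (pt (F := F) m none) ((Qs hm hF).map e.toMonoidHom) _ hN h2 hreg
  -- the index and the order
  haveI : MulAction.IsPretransitive ↥(Cfsg.Lie.Sz F (2 ^ (m + 1))) (Cfsg.suzukiOvoid F m) := by
    refine ⟨fun x y => ?_⟩
    by_cases hxy : x = y
    · exact ⟨1, by rw [one_smul, hxy]⟩
    · obtain ⟨g, hg, -⟩ := h2 x y y x hxy (Ne.symm hxy)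
      exact ⟨g, hg⟩
  have hidx : (Subgroup.normalizer (((Qs hm hF).map e.toMonoidHom :
      Subgroup ↥(Cfsg.Lie.Sz F (2 ^ (m + 1)))) : Set ↥(Cfsg.Lie.Sz F (2 ^ (m + 1))))).index =
      (2 ^ (2 * m + 1)) ^ 2 + 1 := by
    rw [hN, MulAction.index_stabilizer_of_transitive, Cfsg.Agent.S0326.result, hF]
  refine ⟨?_, hidx, hq2, hqreg⟩
  have h5 := Subgroup.card_mul_index (Subgroup.normalizer (((Qs hm hF).map e.toMonoidHom :
      Subgroup ↥(Cfsg.Lie.Sz F (2 ^ (m + 1)))) : Set ↥(Cfsg.Lie.Sz F (2 ^ (m + 1)))))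
  rw [hidx, hcardG] at h5
  have hpos : 0 < (2 ^ (2 * m + 1)) ^ 2 + 1 := by positivity
  apply Nat.eq_of_mul_eq_mul_right hpos
  rw [h5]
  ring

end Cfsg.Agent.S1163
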