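import Mathlib
import Cfsg.Statements.S1166
import Cfsg.Agent.Lib_helper6_RankOne2
-- import your own Cfsg.Agent.* helpers here

set_option autoImplicit false
open Cfsg

namespace Cfsg.Agent.S1166

/-- In the rank-one set-up (`G` finite and doubly transitive on `Ω`, `t` an involution moving `a`, `Q` normal in `G_a` with `G_a = Q D`, `Q ⊓ D = 1` for the two-point stabiliser `D = G_a ⊓ G_{t • a}`, `|Q|` even, `|D|` odd), with `t x t = g_x h_x t f_x` and `t y t = g_y h_y t f_y` (`g, f ∈ Q`, `h ∈ D`) for `x, y ∈ Q ∖ 1` with `x y ≠ 1`: then `z = f_x g_y ≠ 1`, and if `t z t = g_z h_z t f_z` and `t (x y) t = g' h' t f'` then `f' = (t h_y t)⁻¹ f_z (t h_y t) f_y` and `h' = h_x h_z h_y` (H6). -/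
theorem result {G Ω : Type*} [Group G] [Finite G] [MulAction G Ω] {a : Ω} {t : G} {Q : Subgroup G}
    (hS : Cfsg.IsRankOneSetup G Ω a t Q)
    (x y gx hx fx gy hy fy : G) (hxQ : x ∈ Q) (hx1 : x ≠ 1) (hyQ : y ∈ Q) (hy1 : y ≠ 1) (hxy : x * y ≠ 1)
    (hgx : gx ∈ Q) (hhx : hx ∈ (MulAction.stabilizer G a ⊓ MulAction.stabilizer G (t • a))) (hfx : fx ∈ Q) (ex : t * x * t = gx * hx * t * fx)
    (hgy : gy ∈ Q) (hhy : hy ∈ (MulAction.stabilizer G a ⊓ MulAction.stabilizer G (t • a))) (hfy : fy ∈ Q) (ey : t * y * t = gy * hy * t * fy) :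
    fx * gy ≠ 1 ∧
      ∀ gz hz fz g' h' f' : G, gz ∈ Q → hz ∈ (MulAction.stabilizer G a ⊓ MulAction.stabilizer G (t • a)) → fz ∈ Q → t * (fx * gy) * t = gz * hz * t * fz →
        g' ∈ Q → h' ∈ (MulAction.stabilizer G a ⊓ MulAction.stabilizer G (t • a)) → f' ∈ Q → t * (x * y) * t = g' * h' * t * f' →
          f' = (t * hy * t)⁻¹ * fz * (t * hy * t) * fy ∧ h' = hx * hz * hy := by
  have hti := helper6.RankOne.t_inv hS
  have htt := helper6.RankOne.tt_cancel hS
  have hD : ∀ {c : G}, c ∈ MulAction.stabilizer G a ⊓ MulAction.stabilizer G (t • a) →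
      t * c * t ∈ MulAction.stabilizer G a ⊓ MulAction.stabilizer G (t • a) :=
    fun hc => helper6.RankOne.t_conj_D hS hc
  have e0 : t * (x * y) * t = (t * x * t) * (t * y * t) := by
    simp only [mul_assoc, htt]
  refine ⟨?_, ?_⟩
  · intro hz
    have hz' : ∀ g : G, fx * (gy * g) = g := by
      intro g
      rw [← mul_assoc, hz, one_mul]
    have e1 : t * (x * y) * t = gx * hx * (t * hy * t) * fy := by
      rw [e0, ex, ey]
      simp only [mul_assoc, hz']
    have hmem : t * (x * y) * t ∈ MulAction.stabilizer G a := by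
      rw [e1]
      exact Subgroup.mul_mem _ (Subgroup.mul_mem _ (Subgroup.mul_mem _ (hS.le hgx)
        (helper6.RankOne.D_le_Ga hhx)) (helper6.RankOne.D_le_Ga (hD hhy))) (hS.le hfy)
    have hfix : (x * y) • (t • a) = t • a := by
      have h1 := MulAction.mem_stabilizer_iff.mp hmem
      rw [mul_smul, mul_smul] at h1
      have h2 : t • (t • ((x * y) • (t • a))) = t • a := by rw [h1]
      rwa [smul_smul, hS.mul_self, one_smul] at h2
    exact hxy (helper6.RankOne.Q_free hS (Q.mul_mem hxQ hyQ) (helper6.RankOne.ta_ne hS) hfix)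
  · intro gz hz fz g' h' f' hgz hhz hfz e1 hg' hh' hf' e2
    have e3 : t * (fx * gy) = gz * hz * t * fz * t := by
      calc t * (fx * gy) = (t * (fx * gy) * t) * t := by
            simp only [mul_assoc, hS.mul_self, mul_one]
        _ = gz * hz * t * fz * t := by rw [e1]
    have e4 : g' * h' * t * f' = (gx * (hx * gz * hx⁻¹)) * (hx * hz * hy) * t *
        ((t * hy * t)⁻¹ * fz * (t * hy * t) * fy) := by
      rw [← e2, e0, ex, ey]
      have e5 : gx * hx * t * fx * (gy * hy * t * fy) =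
          gx * hx * (t * (fx * gy)) * hy * t * fy := by group
      rw [e5, e3]
      simp only [mul_inv_rev, hti, mul_assoc, htt, mul_inv_cancel_left, inv_mul_cancel_left]
    have hy' := hD hhy
    obtain ⟨-, e6, e7⟩ := helper6.RankOne.canonical_unique3 hS hg'
      (Q.mul_mem hgx (helper6.RankOne.D_conj_Q hS hhx hgz)) hh'
      (Subgroup.mul_mem _ (Subgroup.mul_mem _ hhx hhz) hhy) hf'
      (Q.mul_mem (helper6.RankOne.D_conj_Q' hS hy' hfz) hfy) e4
    exact ⟨e7, e6⟩

end Cfsg.Agent.S1166
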