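import Cfsg.Statements.S1168
import Mathlib
import Cfsg.Agent.Lib_helper6_FieldAut
-- import your own Cfsg.Agent.* helpers here

set_option autoImplicit false
open Cfsg

namespace Cfsg.Agent.S1168

/-- For a finite field `F` of characteristic 2: if `q : F → F` is quadratic over the prime field, i.e. `(x, y) ↦ q (x + y) + q x + q y` is additive in each variable, then `q x = Σ c_{σ,τ} σ(x) τ(x)` for some coefficients indexed by pairs of field automorphisms. -/
theorem result {F : Type*} [Field F] [Fintype F] [CharP F 2]
    (q : F → F)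
    (hq : ∀ x y z : F, q (x + y + z) + q (x + y) + q (x + z) + q (y + z) + q x + q y + q z = 0) :
    ∃ (s : Finset ((F ≃+* F) × (F ≃+* F))) (c : (F ≃+* F) × (F ≃+* F) → F),
      ∀ x : F, q x = ∑ p ∈ s, c p * (p.1 x * p.2 x) := by
  let : Algebra (ZMod 2) F := ZMod.algebra F 2
  have h2 : ∀ a : F, a + a = 0 := fun a => CharTwo.add_self_eq_zero a
  have hq0 : q 0 = 0 := by
    have h := hq 0 0 0
    simp only [add_zero] at h
    have e : q 0 + q 0 + q 0 + q 0 + q 0 + q 0 + q 0 = q 0 := by
      linear_combination 3 * h2 (q 0)
    rw [e] at h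
    exact h
  -- the polar form
  have hP : ∀ x x' y : F, q (x + x' + y) + q (x + x') + q y
      = (q (x + y) + q x + q y) + (q (x' + y) + q x' + q y) := by
    intro x x' y
    have h := hq x x' y
    have e : q (x + x' + y) + q (x + x') + q y
      = (q (x + y) + q x + q y) + (q (x' + y) + q x' + q y)
        + (q (x + x' + y) + q (x + x') + q (x + y) + q (x' + y) + q x + q x' + q y)
        - (q (x + y) + q (x + y)) - (q (x' + y) + q (x' + y)) - (q x + q x) - (q x' + q x')
        - (q y + q y) := by ring
    rw [e, h, h2, h2, h2, h2, h2]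
    ring
  have hsymm : ∀ x y : F, q (x + y) + q x + q y = q (y + x) + q y + q x := by
    intro x y
    rw [add_comm x y]
    ring
  let Pl : F → (F →+ F) := fun y => AddMonoidHom.mk' (fun x => q (x + y) + q x + q y)
    (fun x x' => hP x x' y)
  let Pr : F → (F →+ F) := fun x => AddMonoidHom.mk' (fun y => q (x + y) + q x + q y)
    (fun y y' => by
      have := hP y y' x
      rw [hsymm x (y + y'), hsymm x y, hsymm x y']
      exact this)
  let B : LinearMap.BilinMap (ZMod 2) F F :=
    LinearMap.mk₂ (ZMod 2) (fun x y => q (x + y) + q x + q y)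
      (fun x x' y => hP x x' y)
      (fun c x y => ZMod.map_smul (Pl y) c x)
      (fun x y y' => map_add (Pr x) y y')
      (fun c x y => ZMod.map_smul (Pr x) c y)
  let Q : QuadraticMap (ZMod 2) F F :=
    { toFun := q
      toFun_smul := fun a x => by
        fin_cases a
        · show q ((0 : ZMod 2) • x) = ((0 : ZMod 2) * 0) • q x
          rw [zero_smul, mul_zero, zero_smul, hq0]
        · show q ((1 : ZMod 2) • x) = ((1 : ZMod 2) * 1) • q x
          rw [one_smul, mul_one, one_smul]
      exists_companion' := ⟨B, fun x y => by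
        show q (x + y) = q x + q y + (q (x + y) + q x + q y)
        linear_combination (-1 : F) * h2 (q x) - h2 (q y)⟩ }
  obtain ⟨A, hA⟩ := LinearMap.BilinMap.toQuadraticMap_surjective Q
  obtain ⟨s, c, hsc⟩ := helper6.FieldAut.exists_repr_biadditive_fun (fun x y => A x y)
    (fun x x' y => by simp) (fun x y y' => by simp)
  refine ⟨s, c, fun x => ?_⟩
  rw [← hsc x x]
  have := congrArg (fun R : QuadraticMap (ZMod 2) F F => R x) hA
  simp only [LinearMap.BilinMap.toQuadraticMap_apply] at this
  exact this.symm

end Cfsg.Agent.S1168
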