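import Mathlib
import Cfsg.Statements.S1176
-- import your own Cfsg.Agent.* helpers here

set_option autoImplicit false
open Cfsg
open scoped commutatorElement

namespace Cfsg.Agent.S1176


theorem orderOf_of_isConj {G : Type*} [Group G] {a b : G} (h : IsConj a b) : orderOf b = orderOf a := by
  obtain ⟨c, rfl⟩ := isConj_iff.mp h
  exact orderOf_injective (MulAut.conj c).toMonoidHom (MulAut.conj c).injective a

theorem conj_pow_mul {G : Type*} [Group G] (x₀ x y : G) (hxi : x⁻¹ = x) (hyi : y⁻¹ = y)
    (hx : IsConj x₀ x) (hy : IsConj x₀ y) :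
    ∀ j : ℕ, IsConj x₀ ((x * y) ^ j * x) ∧ IsConj x₀ ((x * y) ^ (j + 1) * x) := by
  intro j
  induction j with
  | zero =>
    refine ⟨by simpa using hx, ?_⟩
    have e : (x * y) ^ (0 + 1) * x = x * y * x⁻¹ := by
      rw [hxi]; simp
    rw [e]
    exact hy.trans (isConj_iff.mpr ⟨x, rfl⟩)
  | succ j ih =>
    refine ⟨ih.2, ?_⟩
    have e : (x * y) ^ (j + 1 + 1) * x = (x * y) * ((x * y) ^ j * x) * (x * y)⁻¹ := by
      rw [pow_succ, pow_succ', mul_inv_rev, hxi, hyi]
      simp only [mul_assoc]
    rw [e]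
    exact ih.1.trans (isConj_iff.mpr ⟨x * y, rfl⟩)

/-- Let x₀ be an involution of the finite group G and D its conjugacy class. Assume (a) for each x ∈ D the subgroup W(x) generated by the members of D commuting with x is a 2-group of nilpotency class at most 2, and (b) the product of two distinct commuting members of D again lies in D. Then for all x, y ∈ D, if xy has even order greater than 2, its order is 4. -/
theorem result {G : Type*} [Group G] [Finite G] (x₀ : G) (hx₀ : orderOf x₀ = 2) (ha : ∀ x : G, IsConj x₀ x → IsPGroup 2 ↥(Subgroup.closure {y : G | IsConj x₀ y ∧ Commute y x}) ∧ ⁅⁅Subgroup.closure {y : G | IsConj x₀ y ∧ Commute y x}, Subgroup.closure {y : G | IsConj x₀ y ∧ Commute y x}⁆, Subgroup.closure {y : G | IsConj x₀ y ∧ Commute y x}⁆ = ⊥) (hb : ∀ x y : G, IsConj x₀ x → IsConj x₀ y → x ≠ y → Commute x y → IsConj x₀ (x * y)) (x y : G) (hx : IsConj x₀ x) (hy : IsConj x₀ y) (heven : Even (orderOf (x * y))) (hgt : 2 < orderOf (x * y)) : orderOf (x * y) = 4 := by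
  have hox : orderOf x = 2 := by rw [orderOf_of_isConj hx, hx₀]
  have hoy : orderOf y = 2 := by rw [orderOf_of_isConj hy, hx₀]
  have hx2 : x * x = 1 := by
    have := pow_orderOf_eq_one x
    rwa [hox, sq] at this
  have hy2 : y * y = 1 := by
    have := pow_orderOf_eq_one y
    rwa [hoy, sq] at this
  have hxi : x⁻¹ = x := inv_eq_of_mul_eq_one_right hx2
  have hyi : y⁻¹ = y := inv_eq_of_mul_eq_one_right hy2
  obtain ⟨m, hm⟩ := heven
  set w := x * y with hw
  have hwi : w⁻¹ = y * x := by rw [hw, mul_inv_rev, hxi, hyi]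
  have hm0 : 0 < m := by omega
  have hmlt : m < orderOf w := by omega
  set u := w ^ m with hu
  have hu1 : u ≠ 1 := pow_ne_one_of_lt_orderOf hm0.ne' hmlt
  have huu : u * u = 1 := by
    rw [hu, ← pow_add, ← hm, pow_orderOf_eq_one]
  have hui : u⁻¹ = u := inv_eq_of_mul_eq_one_right huu
  have hxw : SemiconjBy x w w⁻¹ := by
    change x * w = w⁻¹ * x
    rw [hwi, hw, ← mul_assoc, hx2, one_mul, mul_assoc, hx2, mul_one]
  have hyw : SemiconjBy y w w⁻¹ := by
    change y * w = w⁻¹ * y
    rw [hwi, hw, mul_assoc]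
  have hxu : x * u = u * x := by
    have := hxw.pow_right m
    change x * w ^ m = (w⁻¹) ^ m * x at this
    rw [inv_pow, ← hu, hui] at this
    exact this
  have hyu : y * u = u * y := by
    have := hyw.pow_right m
    change y * w ^ m = (w⁻¹) ^ m * y at this
    rw [inv_pow, ← hu, hui] at this
    exact this
  have hux : IsConj x₀ (u * x) := (conj_pow_mul x₀ x y hxi hyi hx hy m).1
  have hne : x ≠ u * x := by
    intro h
    apply hu1
    have : u * x = 1 * x := by rw [one_mul]; exact h.symm
    exact mul_right_cancel this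
  have hcomm : Commute x (u * x) := by
    change x * (u * x) = u * x * x
    rw [← mul_assoc, hxu]
  have huD : IsConj x₀ u := by
    have := hb x (u * x) hx hux hne hcomm
    rwa [← mul_assoc, hxu, mul_assoc, hx2, mul_one] at this
  obtain ⟨-, hcl⟩ := ha u huD
  set W := Subgroup.closure {y : G | IsConj x₀ y ∧ Commute y u} with hW
  have hxW : x ∈ W := Subgroup.subset_closure ⟨hx, hxu⟩
  have hyW : y ∈ W := Subgroup.subset_closure ⟨hy, hyu⟩
  have hmem : ⁅⁅x, y⁆, x⁆ ∈ ⁅⁅W, W⁆, W⁆ :=
    Subgroup.commutator_mem_commutator (Subgroup.commutator_mem_commutator hxW hyW) hxW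
  rw [hcl, Subgroup.mem_bot] at hmem
  have hw4 : w ^ 4 = 1 := by
    rw [← hmem, commutatorElement_def, commutatorElement_def]
    simp only [mul_inv_rev, inv_inv, hxi, hyi]
    rw [hw]
    simp only [pow_succ, pow_zero, one_mul, mul_assoc]
    rw [hx2, mul_one]
  have hdvd : orderOf w ∣ 4 := orderOf_dvd_of_pow_eq_one hw4
  have hle : orderOf w ≤ 4 := Nat.le_of_dvd (by norm_num) hdvd
  have h3 : orderOf w ≠ 3 := by
    intro h
    rw [h] at hdvd
    omega
  omega

end Cfsg.Agent.S1176
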