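import Cfsg.Statements.S1757
import Mathlib

set_option autoImplicit false
open Cfsg
open scoped commutatorElement

namespace Cfsg.Agent.S1757

/-- Core lemma: only the TI-property of `B` is needed. -/
theorem conj_fix {G : Type*} [Group G] [Finite G] (A B : Subgroup G)
    (hBti : ∀ g : G, B.map (MulAut.conj g).toMonoidHom = B ∨ B.map (MulAut.conj g).toMonoidHom ⊓ B = ⊥)
    (hle : Nat.card ↥A ≤ Nat.card ↥B) (hAB : A ⊓ B = ⊥) (hN : B ≤ Subgroup.normalizer (A : Set G))
    (a : G) (ha : a ∈ A) : ∀ b ∈ B, a * b * a⁻¹ ∈ B := by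
  -- first show `a⁻¹ B a = B`
  have key : B.map (MulAut.conj a⁻¹).toMonoidHom = B := by
    rcases hBti a⁻¹ with h | h
    · exact h
    · -- the counting argument
      let f : B × B → G := fun x => (x.1 : G) * a⁻¹ * (x.2 : G) * a
      let g : A × B → G := fun x => (x.1 : G) * (x.2 : G)
      have hf : Function.Injective f := by
        rintro ⟨⟨b1, hb1⟩, ⟨b2, hb2⟩⟩ ⟨⟨c1, hc1⟩, ⟨c2, hc2⟩⟩ hfe
        simp only [f] at hfe
        have e1 : c1⁻¹ * b1 = a⁻¹ * (c2 * b2⁻¹) * a⁻¹⁻¹ := by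
          have : b1 * a⁻¹ * b2 = c1 * a⁻¹ * c2 := mul_right_cancel hfe
          have h2 : c1⁻¹ * b1 = a⁻¹ * c2 * b2⁻¹ * a := by
            calc c1⁻¹ * b1 = c1⁻¹ * (b1 * a⁻¹ * b2) * b2⁻¹ * a := by group
              _ = c1⁻¹ * (c1 * a⁻¹ * c2) * b2⁻¹ * a := by rw [this]
              _ = a⁻¹ * c2 * b2⁻¹ * a := by group
          rw [h2]; group
        have hmem : c1⁻¹ * b1 ∈ B.map (MulAut.conj a⁻¹).toMonoidHom ⊓ B := by
          refine ⟨?_, B.mul_mem (B.inv_mem hc1) hb1⟩
          rw [e1]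
          exact ⟨c2 * b2⁻¹, B.mul_mem hc2 (B.inv_mem hb2), by simp [MulAut.conj_apply]⟩
        rw [h, Subgroup.mem_bot] at hmem
        have hb : b1 = c1 := by
          have := inv_mul_eq_one.mp hmem
          exact this.symm
        subst hb
        have : c2 = b2 := by
          have h3 : b1 * a⁻¹ * b2 = b1 * a⁻¹ * c2 := mul_right_cancel hfe
          exact (mul_left_cancel h3).symm
        subst this
        rfl
      have hsub : Set.range f ⊆ Set.range g := by
        rintro _ ⟨⟨⟨b1, hb1⟩, ⟨b2, hb2⟩⟩, rfl⟩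
        simp only [f]
        have n1 : b1 * a⁻¹ * b1⁻¹ ∈ A := by
          have := hN hb1
          rw [Subgroup.mem_normalizer_iff] at this
          exact (this a⁻¹).mp (A.inv_mem ha)
        have n2 : (b1 * b2) * a * (b1 * b2)⁻¹ ∈ A := by
          have := hN (B.mul_mem hb1 hb2)
          rw [Subgroup.mem_normalizer_iff] at this
          exact (this a).mp ha
        refine ⟨⟨⟨(b1 * a⁻¹ * b1⁻¹) * ((b1 * b2) * a * (b1 * b2)⁻¹), A.mul_mem n1 n2⟩,
          ⟨b1 * b2, B.mul_mem hb1 hb2⟩⟩, ?_⟩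
        simp only [g]
        group
      have hcardf : Nat.card (Set.range f) = Nat.card B * Nat.card B := by
        rw [Nat.card_range_of_injective hf, Nat.card_prod]
      have hcardg : Nat.card (Set.range g) ≤ Nat.card A * Nat.card B := by
        have := Finite.card_range_le g
        rwa [Nat.card_prod] at this
      have heq : Set.range f = Set.range g := by
        apply Set.eq_of_subset_of_ncard_le hsub _ (Set.toFinite _)
        rw [← Nat.card_coe_set_eq, ← Nat.card_coe_set_eq, hcardf]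
        calc Nat.card (Set.range g) ≤ Nat.card A * Nat.card B := hcardg
          _ ≤ Nat.card B * Nat.card B := Nat.mul_le_mul_right _ hle
      have hag : a ∈ Set.range g := ⟨⟨⟨a, ha⟩, ⟨1, B.one_mem⟩⟩, by simp [g]⟩
      rw [← heq] at hag
      obtain ⟨⟨⟨b1, hb1⟩, ⟨b2, hb2⟩⟩, hfa⟩ := hag
      simp only [f] at hfa
      have h1 : b1 * a⁻¹ * b2 = 1 := by
        have : b1 * a⁻¹ * b2 * a = 1 * a := by rw [hfa, one_mul]
        exact mul_right_cancel this
      have h2 : a = b2 * b1 := by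
        have : a⁻¹ = b1⁻¹ * b2⁻¹ := by
          calc a⁻¹ = b1⁻¹ * (b1 * a⁻¹ * b2) * b2⁻¹ := by group
            _ = b1⁻¹ * b2⁻¹ := by rw [h1]; group
        calc a = (a⁻¹)⁻¹ := by group
          _ = (b1⁻¹ * b2⁻¹)⁻¹ := by rw [this]
          _ = b2 * b1 := by group
      have haB : a ∈ B := h2 ▸ B.mul_mem hb2 hb1
      have : a ∈ A ⊓ B := ⟨ha, haB⟩
      rw [hAB, Subgroup.mem_bot] at this
      subst this
      ext x
      simp [MulAut.conj_apply]
  intro b hb
  have : b ∈ B.map (MulAut.conj a⁻¹).toMonoidHom := by rw [key]; exact hb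
  obtain ⟨c, hc, hcb⟩ := this
  simp only [MulEquiv.coe_toMonoidHom, MulAut.conj_apply, inv_inv] at hcb
  rw [← hcb]
  have : a * (a⁻¹ * c * a) * a⁻¹ = c := by group
  rw [this]
  exact hc

theorem result {G : Type*} [Group G] [Finite G] (p : ℕ) [Fact p.Prime] (A B : Subgroup G)
    (hA : IsPGroup p ↥A) (hB : IsPGroup p ↥B)
    (hAti : ∀ g : G, A.map (MulAut.conj g).toMonoidHom = A ∨ A.map (MulAut.conj g).toMonoidHom ⊓ A = ⊥)
    (hBti : ∀ g : G, B.map (MulAut.conj g).toMonoidHom = B ∨ B.map (MulAut.conj g).toMonoidHom ⊓ B = ⊥)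
    (hle : Nat.card ↥A ≤ Nat.card ↥B) (hAB : A ⊓ B = ⊥) (hN : B ≤ Subgroup.normalizer (A : Set G)) : ⁅A, B⁆ = ⊥ := by
  rw [eq_bot_iff, Subgroup.commutator_le]
  intro a ha b hb
  rw [Subgroup.mem_bot, ← Subgroup.mem_bot (G := G), ← hAB]
  refine ⟨?_, ?_⟩
  · have n1 : b * a⁻¹ * b⁻¹ ∈ A := by
      have := hN hb
      rw [Subgroup.mem_normalizer_iff] at this
      exact (this a⁻¹).mp (A.inv_mem ha)
    have : ⁅a, b⁆ = a * (b * a⁻¹ * b⁻¹) := by rw [commutatorElement_def]; group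
    rw [this]
    exact A.mul_mem ha n1
  · have := conj_fix A B hBti hle hAB hN a ha b hb
    rw [commutatorElement_def]
    exact B.mul_mem this (B.inv_mem hb)

end Cfsg.Agent.S1757
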