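import Mathlib
import Cfsg.Statements.S1177
import Cfsg.Agent.S1757
-- import your own Cfsg.Agent.* helpers here

set_option autoImplicit false
open Cfsg

namespace Cfsg.Agent.S1177


theorem mem_map_conj' {G : Type*} [Group G] (A : Subgroup G) (g x : G) :
    x ∈ A.map (MulAut.conj g).toMonoidHom ↔ g⁻¹ * x * g ∈ A := by
  constructor
  · rintro ⟨y, hy, rfl⟩
    simpa [MulAut.conj_apply, mul_assoc] using hy
  · intro h
    exact ⟨g⁻¹ * x * g, h, by simp [MulAut.conj_apply, mul_assoc]⟩

/-- Let A be a nontrivial elementary abelian 2-subgroup of a finite group G which is a T.I. set (each conjugate of A meets A trivially or equals A) and which does not commute elementwise with any conjugate of A other than A itself. Then for every a ∈ A, a ≠ 1, every conjugate of A contained in C_G(a) is equal to A (A is weakly closed in C_G(a)). -/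
theorem result {G : Type*} [Group G] [Finite G] (A : Subgroup G) (hA : Cfsg.IsElementaryAbelian 2 A) (hA1 : A ≠ ⊥) (hTI : ∀ g : G, A.map (MulAut.conj g).toMonoidHom ⊓ A = ⊥ ∨ A.map (MulAut.conj g).toMonoidHom = A) (hb : ∀ g : G, (∀ a ∈ A, ∀ b ∈ A.map (MulAut.conj g).toMonoidHom, a * b = b * a) → A.map (MulAut.conj g).toMonoidHom = A) (a : G) (ha : a ∈ A) (ha1 : a ≠ 1) (g : G) (hg : A.map (MulAut.conj g).toMonoidHom ≤ Subgroup.centralizer ({a} : Set G)) : A.map (MulAut.conj g).toMonoidHom = A := by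
  rcases hTI g with h | h
  swap
  · exact h
  set B := A.map (MulAut.conj g).toMonoidHom with hB
  have hAB : A ⊓ B = ⊥ := by rw [inf_comm]; exact h
  have hN : B ≤ Subgroup.normalizer (A : Set G) := by
    intro b hb'
    have hba : a * b = b * a := by
      have := hg hb'
      rw [Subgroup.mem_centralizer_iff] at this
      exact this a (Set.mem_singleton a)
    have hAb : A.map (MulAut.conj b).toMonoidHom = A := by
      rcases hTI b with h' | h'
      · exfalso
        have hmem : a ∈ A.map (MulAut.conj b).toMonoidHom ⊓ A := by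
          refine Subgroup.mem_inf.mpr ⟨?_, ha⟩
          rw [mem_map_conj']
          have e : b⁻¹ * a * b = a := by
            rw [mul_assoc, hba, ← mul_assoc, inv_mul_cancel, one_mul]
          rw [e]; exact ha
        rw [h', Subgroup.mem_bot] at hmem
        exact ha1 hmem
      · exact h'
    rw [Subgroup.mem_normalizer_iff]
    intro x
    constructor
    · intro hx
      have : b * x * b⁻¹ ∈ A.map (MulAut.conj b).toMonoidHom :=
        ⟨x, hx, by simp [MulAut.conj_apply]⟩
      rw [hAb] at this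
      exact this
    · intro hx
      have hx' : b * x * b⁻¹ ∈ A.map (MulAut.conj b).toMonoidHom := by
        rw [hAb]; exact hx
      rw [mem_map_conj'] at hx'
      have e : b⁻¹ * (b * x * b⁻¹) * b = x := by group
      rw [e] at hx'
      exact hx'
  have hBti : ∀ k : G, B.map (MulAut.conj k).toMonoidHom = B ∨
      B.map (MulAut.conj k).toMonoidHom ⊓ B = ⊥ := by
    intro k
    rcases hTI (g⁻¹ * k * g) with h1 | h1
    · right
      rw [eq_bot_iff]
      intro x hx
      obtain ⟨hx1, hx2⟩ := Subgroup.mem_inf.mp hx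
      rw [mem_map_conj', hB, mem_map_conj'] at hx1
      rw [hB, mem_map_conj'] at hx2
      have hmem : g⁻¹ * x * g ∈ A.map (MulAut.conj (g⁻¹ * k * g)).toMonoidHom ⊓ A := by
        refine Subgroup.mem_inf.mpr ⟨?_, hx2⟩
        rw [mem_map_conj']
        have e : (g⁻¹ * k * g)⁻¹ * (g⁻¹ * x * g) * (g⁻¹ * k * g) = g⁻¹ * (k⁻¹ * x * k) * g := by
          group
        rw [e]; exact hx1
      rw [h1, Subgroup.mem_bot] at hmem
      rw [Subgroup.mem_bot]
      have e : x = g * (g⁻¹ * x * g) * g⁻¹ := by group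
      rw [e, hmem]; group
    · left
      ext x
      rw [mem_map_conj', hB, mem_map_conj', mem_map_conj']
      have key : ∀ y : G, (g⁻¹ * k * g)⁻¹ * y * (g⁻¹ * k * g) ∈ A ↔ y ∈ A := by
        intro y
        rw [← mem_map_conj', h1]
      have e : g⁻¹ * (k⁻¹ * x * k) * g = (g⁻¹ * k * g)⁻¹ * (g⁻¹ * x * g) * (g⁻¹ * k * g) := by
        group
      rw [e, key]
  have hle : Nat.card ↥A ≤ Nat.card ↥B := by
    rw [hB, Subgroup.card_map_of_injective (MulAut.conj g).injective]
  have hfix : ∀ a' ∈ A, ∀ b ∈ B, a' * b * a'⁻¹ ∈ B := fun a' ha' =>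
    Cfsg.Agent.S1757.conj_fix A B hBti hle hAB hN a' ha'
  have hcomm : ∀ a' ∈ A, ∀ b ∈ B, a' * b = b * a' := by
    intro a' ha' b hb'
    have h1 : a' * b * a'⁻¹ * b⁻¹ ∈ B := B.mul_mem (hfix a' ha' b hb') (B.inv_mem hb')
    have h2 : a' * b * a'⁻¹ * b⁻¹ ∈ A := by
      have hn := hN hb'
      rw [Subgroup.mem_normalizer_iff] at hn
      have := (hn a'⁻¹).mp (A.inv_mem ha')
      have e : a' * b * a'⁻¹ * b⁻¹ = a' * (b * a'⁻¹ * b⁻¹) := by group
      rw [e]
      exact A.mul_mem ha' this
    have h3 : a' * b * a'⁻¹ * b⁻¹ ∈ A ⊓ B := Subgroup.mem_inf.mpr ⟨h2, h1⟩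
    rw [hAB, Subgroup.mem_bot] at h3
    have e : a' * b = (a' * b * a'⁻¹ * b⁻¹) * (b * a') := by group
    rw [e, h3, one_mul]
  exact hb g hcomm

end Cfsg.Agent.S1177
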