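import Cfsg.Statements.S1178
import Mathlib

set_option autoImplicit false
open Cfsg

namespace Cfsg.Agent.S1178

/-- Let A be a subgroup of a Sylow 2-subgroup S of the finite group G which is weakly closed in S. If a conjugate g A g⁻¹ commutes elementwise with A, then g A g⁻¹ = A. -/
theorem result {G : Type*} [Group G] [Finite G] (S : Sylow 2 G) (A : Subgroup G) (hW : Cfsg.IsWeaklyClosed A (S : Subgroup G)) (g : G) (hc : ∀ a ∈ A, ∀ b ∈ A.map (MulAut.conj g).toMonoidHom, a * b = b * a) : A.map (MulAut.conj g).toMonoidHom = A := by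
  have : Fact (Nat.Prime 2) := ⟨Nat.prime_two⟩
  obtain ⟨B, hB⟩ : ∃ B, B = A.map (MulAut.conj g).toMonoidHom := ⟨_, rfl⟩
  rw [← hB] at hc ⊢
  have hA2 : IsPGroup 2 A := S.isPGroup'.to_le hW.1
  have hB2 : IsPGroup 2 B := hB ▸ hA2.map _
  have hAB : A ≤ Subgroup.normalizer (B : Set G) := by
    intro a ha
    rw [Subgroup.mem_normalizer_iff]
    intro b
    constructor
    · intro hb
      have : a * b * a⁻¹ = b := by rw [hc a ha b hb]; group
      rw [this]; exact hb
    · intro hb
      have h1 := hc a ha _ hb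
      have : b = a * b * a⁻¹ := by
        calc b = a⁻¹ * ((a * b * a⁻¹) * a) := by group
          _ = a⁻¹ * (a * (a * b * a⁻¹)) := by rw [h1]
          _ = a * b * a⁻¹ := by group
      rw [this]; exact hb
  have hsup : IsPGroup 2 (A ⊔ B : Subgroup G) := hA2.to_sup_of_normal_right' hB2 hAB
  obtain ⟨P, hP⟩ := hsup.exists_le_sylow
  obtain ⟨h, hh⟩ := MulAction.exists_smul_eq G P S
  have hPS : ∀ x, x ∈ (P : Subgroup G) → h * x * h⁻¹ ∈ (S : Subgroup G) := by
    intro x hx
    rw [← hh, Sylow.coe_subgroup_smul, Subgroup.mem_pointwise_smul_iff_inv_smul_mem]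
    have : (MulAut.conj h)⁻¹ • (h * x * h⁻¹) = x := by
      rw [MulAut.smul_def, MulAut.conj_inv_apply]; group
    rw [this]; exact hx
  have h1 : A.map (MulAut.conj h).toMonoidHom ≤ S := by
    rintro x ⟨a, ha, rfl⟩
    exact hPS a (hP (Subgroup.mem_sup_left ha))
  have h1' := hW.2 h h1
  have hcomp : (B.map (MulAut.conj h).toMonoidHom) = A.map (MulAut.conj (h * g)).toMonoidHom := by
    rw [hB, Subgroup.map_map]
    congr 1
    ext x
    simp [mul_assoc]
  have h2 : A.map (MulAut.conj (h * g)).toMonoidHom ≤ S := by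
    rw [← hcomp]
    rintro x ⟨b, hb, rfl⟩
    exact hPS b (hP (Subgroup.mem_sup_right hb))
  have h2' := hW.2 (h * g) h2
  have : B.map (MulAut.conj h).toMonoidHom = A.map (MulAut.conj h).toMonoidHom := by
    rw [hcomp, h2', h1']
  exact Subgroup.map_injective (MulAut.conj h).injective this

end Cfsg.Agent.S1178
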