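import Cfsg.Statements.S1242
import Cfsg.Agent.Lib_helper6_Transfer

set_option autoImplicit false
open Cfsg

namespace Cfsg.Agent.S1242

open scoped IsMulCommutative in
/-- Let G be a finite group, p a prime and H a subgroup of index prime to p such that any two elements of H of p-power order that are conjugate in G are conjugate in H. Then (O^p(G)·G') ∩ H = O^p(H)·H', where O^p denotes the subgroup generated by the elements of order prime to p. -/
theorem result {G : Type*} [Group G] [Finite G] {p : ℕ} [Fact p.Prime] (H : Subgroup G) (hidx : Nat.Coprime p H.index) (hfus : ∀ g ∈ H, (∃ k : ℕ, orderOf g = p ^ k) → ∀ a : G, a * g * a⁻¹ ∈ H → ∃ h ∈ H, h * g * h⁻¹ = a * g * a⁻¹) : (Cfsg.pResidual p G ⊔ commutator G) ⊓ H = (Cfsg.pResidual p ↥H ⊔ commutator ↥H).map H.subtype := by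
  have hnr : (Cfsg.pResidual p ↥H).Normal := Cfsg.Agent.helper6.pResidual_normal p ↥H
  obtain ⟨H₀, hH₀⟩ : ∃ H₀ : Subgroup ↥H, H₀ = Cfsg.pResidual p ↥H ⊔ commutator ↥H := ⟨_, rfl⟩
  rw [← hH₀]
  have hn0 : H₀.Normal := by rw [hH₀]; infer_instance
  have hcomm : IsMulCommutative (↥H ⧸ H₀) :=
    Subgroup.Normal.quotient_commutative_iff_commutator_le.mpr (by rw [hH₀]; exact le_sup_right)
  have hQp : IsPGroup p (↥H ⧸ H₀) :=
    Cfsg.Agent.helper6.isPGroup_quotient_of_pResidual_le H₀ (by rw [hH₀]; exact le_sup_left)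
  obtain ⟨ϕ, hϕ⟩ : ∃ ϕ : ↥H →* ↥H ⧸ H₀, ϕ = QuotientGroup.mk' H₀ := ⟨_, rfl⟩
  obtain ⟨V, hV⟩ : ∃ V : G →* ↥H ⧸ H₀, V = MonoidHom.transfer ϕ := ⟨_, rfl⟩
  -- Claim 1
  have hker : Cfsg.pResidual p G ⊔ commutator G ≤ V.ker :=
    sup_le (Cfsg.Agent.helper6.pResidual_le_ker hQp V) (Abelianization.commutator_subset_ker V)
  -- Claim 2
  have hpel : ∀ (h : G) (hh : h ∈ H), (∃ k : ℕ, orderOf h = p ^ k) → V h = ϕ ⟨h, hh⟩ ^ H.index := by
    intro h hh hp
    rw [hV]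
    apply Cfsg.Agent.helper6.transfer_eq_pow_of_control
    intro n a hm
    have hpn : ∃ k : ℕ, orderOf (h ^ n) = p ^ k := by
      obtain ⟨k, hk⟩ := hp
      have : orderOf (h ^ n) ∣ p ^ k := hk ▸ orderOf_pow_dvd n
      obtain ⟨j, -, hj⟩ := (Nat.dvd_prime_pow (Fact.out : p.Prime)).1 this
      exact ⟨j, hj⟩
    have hm' : a⁻¹ * h ^ n * a⁻¹⁻¹ ∈ H := by rw [inv_inv]; exact hm
    obtain ⟨h', hh', e⟩ := hfus (h ^ n) (H.pow_mem hh n) hpn a⁻¹ hm'
    rw [inv_inv] at e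
    have : (⟨a⁻¹ * h ^ n * a, hm⟩ : ↥H) = ⟨h', hh'⟩ * (⟨h, hh⟩ : ↥H) ^ n * (⟨h', hh'⟩ : ↥H)⁻¹ := by
      apply Subtype.ext
      simp only [Subgroup.coe_mul, Subgroup.coe_pow, Subgroup.coe_inv]
      exact e.symm
    rw [this, map_mul, map_mul, map_inv, map_pow]
    rw [mul_comm, ← mul_assoc, inv_mul_cancel, one_mul]
  -- Claim 3
  have hmain : ∀ (x : G) (hx : x ∈ H), V x = 1 → (⟨x, hx⟩ : ↥H) ∈ H₀ := by
    intro x hx hVx
    have hpos : orderOf x ≠ 0 := (orderOf_pos x).ne'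
    obtain ⟨k, m, hm, hkm⟩ := Nat.exists_eq_pow_mul_and_not_dvd hpos p (Fact.out : p.Prime).ne_one
    have hcop : Nat.Coprime m p := ((Fact.out : p.Prime).coprime_iff_not_dvd.2 hm).symm
    have hyp : ∃ j : ℕ, orderOf (x ^ m) = p ^ j := by
      have : orderOf (x ^ m) ∣ p ^ k := by
        apply orderOf_dvd_of_pow_eq_one
        rw [← pow_mul, mul_comm, ← hkm, pow_orderOf_eq_one]
      obtain ⟨j, -, hj⟩ := (Nat.dvd_prime_pow (Fact.out : p.Prime)).1 this
      exact ⟨j, hj⟩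
    have h1 := hpel (x ^ m) (H.pow_mem hx m) hyp
    rw [map_pow, hVx, one_pow] at h1
    obtain ⟨y, hy⟩ : ∃ y, y = ϕ ⟨x, hx⟩ := ⟨_, rfl⟩
    have hy1 : (y ^ m) ^ H.index = 1 := by
      rw [hy, ← map_pow]
      exact h1.symm
    obtain ⟨j, hj⟩ := hQp y
    have hd1 : orderOf y ∣ m * H.index := orderOf_dvd_of_pow_eq_one (by rw [pow_mul]; exact hy1)
    have hd2 : orderOf y ∣ p ^ j := orderOf_dvd_of_pow_eq_one hj
    have hc : Nat.Coprime (m * H.index) (p ^ j) :=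
      Nat.Coprime.pow_right j (Nat.Coprime.mul_left hcop hidx.symm)
    have := Nat.dvd_gcd hd1 hd2
    rw [hc.gcd_eq_one, Nat.dvd_one, orderOf_eq_one_iff] at this
    rw [hy, hϕ] at this
    exact (QuotientGroup.eq_one_iff _).1 this
  apply le_antisymm
  · rintro x ⟨hx1, hx2⟩
    have hVx : V x = 1 := hker hx1
    exact ⟨⟨x, hx2⟩, hmain x hx2 hVx, rfl⟩
  · rw [hH₀, Subgroup.map_sup]
    apply le_inf
    · apply sup_le_sup
      · unfold Cfsg.pResidual
        rw [MonoidHom.map_closure]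
        apply Subgroup.closure_mono
        rintro _ ⟨h, hh, rfl⟩
        simp only [Set.mem_ofPred_eq] at hh ⊢
        rw [Subgroup.coe_subtype, Subgroup.orderOf_coe]
        exact hh
      · rw [commutator_def, commutator_def, Subgroup.map_commutator]
        exact Subgroup.commutator_mono le_top le_top
    · rw [← Subgroup.map_sup]
      exact Subgroup.map_subtype_le _

end Cfsg.Agent.S1242
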