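import Cfsg.Statements.S1183
import Cfsg.Agent.Lib_helper6_Isolated
import Cfsg.Agent.Lib_helper6_Transfer
import Cfsg.Agent.S1182
import Cfsg.Agent.S1242

set_option autoImplicit false
open Cfsg

namespace Cfsg.Agent.S1183

/-- Let z be an isolated involution of the finite group G and C = C_G(z). Then the subgroup of G generated by its elements of odd order is all of G if and only if the subgroup of C generated by its elements of odd order is all of C. -/
theorem result {G : Type*} [Group G] [Finite G] (z : G) (hz : Cfsg.IsIsolatedInvolution z) : Cfsg.pResidual 2 G = ⊤ ↔ Cfsg.pResidual 2 ↥(Subgroup.centralizer ({z} : Set G)) = ⊤ := by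
  have : Fact (Nat.Prime 2) := ⟨Nat.prime_two⟩
  have hzinv := Cfsg.Agent.helper6.isolated_inv hz
  obtain ⟨C, hC⟩ : ∃ C, C = Subgroup.centralizer ({z} : Set G) := ⟨_, rfl⟩
  rw [← hC]
  -- the index of C is odd
  have hidx : Nat.Coprime 2 C.index := by
    have hz2 : IsPGroup 2 (Subgroup.zpowers z) := by
      apply IsPGroup.of_card (n := 1)
      rw [Nat.card_zpowers, hz.1, pow_one]
    obtain ⟨S, hS⟩ := hz2.exists_le_sylow
    have hzS : z ∈ (S : Subgroup G) := hS (Subgroup.mem_zpowers z)
    have hSC : (S : Subgroup G) ≤ C := by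
      intro s hs
      rw [hC, Subgroup.mem_centralizer_singleton_iff]
      have hodd := Cfsg.Agent.helper6.odd_orderOf_mul_conj hz s
      have hmem : z * (s * z * s⁻¹) ∈ (S : Subgroup G) :=
        Subgroup.mul_mem _ hzS (Subgroup.mul_mem _ (Subgroup.mul_mem _ hs hzS) (Subgroup.inv_mem _ hs))
      obtain ⟨k, hk⟩ := (IsPGroup.iff_orderOf.1 S.isPGroup') ⟨_, hmem⟩
      rw [Subgroup.orderOf_mk] at hk
      have hk0 : k = 0 := by
        by_contra hk0
        rw [hk] at hodd
        exact (Nat.not_even_iff_odd.2 hodd) (Nat.even_pow.2 ⟨even_two, hk0⟩)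
      rw [hk0, pow_zero, orderOf_eq_one_iff] at hk
      have h1 : s * z * s⁻¹ = z := by
        have := eq_inv_of_mul_eq_one_right hk
        rw [hzinv] at this
        exact this
      calc s * z = (s * z * s⁻¹) * s := by group
        _ = z * s := by rw [h1]
    have hdvd : C.index ∣ (S : Subgroup G).index := Subgroup.index_dvd_of_le hSC
    have hS2 : ¬ 2 ∣ (S : Subgroup G).index := S.not_dvd_index
    exact (Nat.Prime.coprime_iff_not_dvd Nat.prime_two).2 (fun h => hS2 (dvd_trans h hdvd))
  -- C controls fusion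
  have hfus : ∀ g ∈ C, (∃ k : ℕ, orderOf g = 2 ^ k) → ∀ a : G, a * g * a⁻¹ ∈ C →
      ∃ h ∈ C, h * g * h⁻¹ = a * g * a⁻¹ := by
    intro g hg _ a ha
    rw [hC, Subgroup.mem_centralizer_singleton_iff] at hg ha
    have hzn : z ∈ Subgroup.normalizer (((⊤ : Subgroup G) : Subgroup G) : Set G) := by
      rw [Subgroup.mem_normalizer_iff]; intro h; simp
    obtain ⟨c, -, hc1, hc2⟩ := Cfsg.Agent.S1182.result z hz ⊤ hzn g (a * g * a⁻¹)
      (Subgroup.mem_top _) (Subgroup.mem_top _) hg ha a (Subgroup.mem_top _) rfl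
    refine ⟨c, ?_, hc2⟩
    rw [hC, Subgroup.mem_centralizer_singleton_iff]
    exact hc1.eq
  have key := Cfsg.Agent.S1242.result (p := 2) C hidx hfus
  constructor
  · intro hG
    apply Cfsg.Agent.helper6.pResidual_eq_top_of_sup_commutator
    rw [hG, top_sup_eq, top_inf_eq] at key
    apply Subgroup.map_injective C.subtype_injective
    rw [← key, ← MonoidHom.range_eq_map, Subgroup.range_subtype]
  · intro hCC
    apply Cfsg.Agent.helper6.pResidual_eq_top_of_sup_commutator
    rw [hCC, top_sup_eq, ← MonoidHom.range_eq_map, Subgroup.range_subtype] at key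
    have hle : C ≤ Cfsg.pResidual 2 G ⊔ commutator G := by
      have := key.ge
      exact le_trans this inf_le_left
    have hn : (Cfsg.pResidual 2 G).Normal := Cfsg.Agent.helper6.pResidual_normal 2 G
    have hn' : (Cfsg.pResidual 2 G ⊔ commutator G).Normal := inferInstance
    have hQ : IsPGroup 2 (G ⧸ (Cfsg.pResidual 2 G ⊔ commutator G)) :=
      Cfsg.Agent.helper6.isPGroup_quotient_of_pResidual_le _ le_sup_left
    obtain ⟨n, hn2⟩ := hQ.exists_card_eq
    have hi : (Cfsg.pResidual 2 G ⊔ commutator G).index = 2 ^ n := by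
      rw [Subgroup.index_eq_card]; exact hn2
    have hdvd : (Cfsg.pResidual 2 G ⊔ commutator G).index ∣ C.index := Subgroup.index_dvd_of_le hle
    rw [hi] at hdvd
    have hn0 : n = 0 := by
      by_contra hn0
      have h2 : 2 ∣ C.index := dvd_trans (dvd_pow_self 2 hn0) hdvd
      exact (Nat.Prime.coprime_iff_not_dvd Nat.prime_two).1 hidx h2
    rw [hn0, pow_zero] at hi
    exact Subgroup.index_eq_one.1 hi

end Cfsg.Agent.S1183
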