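import Cfsg.Statements.S1184
import Cfsg.Agent.Lib_helper6_Isolated

set_option autoImplicit false
open Cfsg

namespace Cfsg.Agent.S1184

/-- Let z be an isolated involution of the finite group G. If s and t are distinct conjugates of z, then st does not commute with z. -/
theorem result {G : Type*} [Group G] [Finite G] (z : G) (hz : Cfsg.IsIsolatedInvolution z) (g h : G) (hne : g * z * g⁻¹ ≠ h * z * h⁻¹) : ¬ Commute (g * z * g⁻¹ * (h * z * h⁻¹)) z := by
  intro hcomm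
  have hzinv := Cfsg.Agent.helper6.isolated_inv hz
  obtain ⟨s, hs⟩ : ∃ s, s = g * z * g⁻¹ := ⟨_, rfl⟩
  obtain ⟨t, ht⟩ : ∃ t, t = h * z * h⁻¹ := ⟨_, rfl⟩
  rw [← hs, ← ht] at hne hcomm
  have hsI : Cfsg.IsIsolatedInvolution s := hs ▸ Cfsg.Agent.helper6.isolated_conj hz g
  have htI : Cfsg.IsIsolatedInvolution t := ht ▸ Cfsg.Agent.helper6.isolated_conj hz h
  have hs2 := Cfsg.Agent.helper6.isolated_sq hsI
  have hsinv := Cfsg.Agent.helper6.isolated_inv hsI
  have htinv := Cfsg.Agent.helper6.isolated_inv htI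
  have htconj : t = (h * g⁻¹) * s * (h * g⁻¹)⁻¹ := by rw [hs, ht]; group
  have hodd : Odd (orderOf (s * t)) := by
    rw [htconj]; exact Cfsg.Agent.helper6.odd_orderOf_mul_conj hsI _
  obtain ⟨u, hu⟩ : ∃ u, u = s * t := ⟨_, rfl⟩
  rw [← hu] at hodd hcomm
  have hsu : s * u * s⁻¹ = u⁻¹ := by
    rw [hu, mul_inv_rev, hsinv, htinv, ← mul_assoc, hs2, one_mul]
  have hzu : z * u * z⁻¹ = u := by
    rw [← hcomm.eq, mul_assoc, mul_inv_cancel, mul_one]
  obtain ⟨k, hk, -, -, hk2⟩ := Cfsg.Agent.helper6.exists_odd_conjugator hz g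
  rw [← hs] at hk hk2
  have hv : (s * z) * u * (s * z)⁻¹ = u⁻¹ := by
    have : (s * z) * u * (s * z)⁻¹ = s * (z * u * z⁻¹) * s⁻¹ := by group
    rw [this, hzu, hsu]
  have hpow : ∀ n : ℕ, (s * z) ^ n * u * ((s * z) ^ n)⁻¹ = u ∨ (s * z) ^ n * u * ((s * z) ^ n)⁻¹ = u⁻¹ := by
    intro n
    induction n with
    | zero => left; simp
    | succ n ih =>
      have e : (s * z) ^ (n + 1) * u * ((s * z) ^ (n + 1))⁻¹ =
          (s * z) ^ n * ((s * z) * u * (s * z)⁻¹) * ((s * z) ^ n)⁻¹ := by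
        rw [pow_succ]; group
      rw [e, hv]
      have e2 : (s * z) ^ n * u⁻¹ * ((s * z) ^ n)⁻¹ = ((s * z) ^ n * u * ((s * z) ^ n)⁻¹)⁻¹ := by group
      rw [e2]
      rcases ih with ih | ih
      · right; rw [ih]
      · left; rw [ih, inv_inv]
  have hkk : k * u * k⁻¹ = u ∨ k * u * k⁻¹ = u⁻¹ := by
    rw [← mem_powers_iff_mem_zpowers] at hk
    obtain ⟨n, rfl⟩ := hk
    exact hpow n
  have hsu' : s * u * s⁻¹ = u := by
    rw [← hk2]
    have e0 : k * z * k⁻¹ * u * (k * z * k⁻¹)⁻¹ = k * (z * (k⁻¹ * u * k) * z⁻¹) * k⁻¹ := by group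
    rcases hkk with hkk | hkk
    · have e : k⁻¹ * u * k = u := by
        calc k⁻¹ * u * k = k⁻¹ * (k * u * k⁻¹) * k := by rw [hkk]
          _ = u := by group
      rw [e0, e, hzu, hkk]
    · have h1 : k * u⁻¹ * k⁻¹ = u := by
        calc k * u⁻¹ * k⁻¹ = (k * u * k⁻¹)⁻¹ := by group
          _ = u := by rw [hkk, inv_inv]
      have e : k⁻¹ * u * k = u⁻¹ := by
        calc k⁻¹ * u * k = k⁻¹ * (k * u⁻¹ * k⁻¹) * k := by rw [h1]
          _ = u⁻¹ := by group
      have hzu' : z * u⁻¹ * z⁻¹ = u⁻¹ := by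
        calc z * u⁻¹ * z⁻¹ = (z * u * z⁻¹)⁻¹ := by group
          _ = u⁻¹ := by rw [hzu]
      rw [e0, e, hzu', h1]
  have huu : u * u = 1 := by
    have : u = u⁻¹ := hsu'.symm.trans hsu
    calc u * u = u * u⁻¹ := by rw [← this]
      _ = 1 := mul_inv_cancel u
  have hd : orderOf u ∣ 2 := orderOf_dvd_of_pow_eq_one (by rw [pow_two]; exact huu)
  have h1 : orderOf u = 1 := by
    have := (Nat.dvd_prime Nat.prime_two).1 hd
    rcases this with h | h
    · exact h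
    · rw [h] at hodd; exact absurd hodd (by decide)
  rw [orderOf_eq_one_iff] at h1
  apply hne
  rw [hu] at h1
  calc s = (s * t) * t⁻¹ := by group
    _ = t := by rw [h1, one_mul, htinv]

end Cfsg.Agent.S1184
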