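import Cfsg.Statements.S1185
import Cfsg.Agent.Lib_helper6_Isolated

set_option autoImplicit false
open Cfsg

namespace Cfsg.Agent.S1185

/-- Let z be an isolated involution of the finite group G with centralizer C. Then for every g ∈ G there is exactly one element k in the coset gC that has odd order and is inverted by z. -/
theorem result {G : Type*} [Group G] [Finite G] (z : G) (hz : Cfsg.IsIsolatedInvolution z) (g : G) : ∃! k : G, (Odd (orderOf k) ∧ z * k * z⁻¹ = k⁻¹) ∧ g⁻¹ * k ∈ Subgroup.centralizer ({z} : Set G) := by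
  have ha2 := Cfsg.Agent.helper6.isolated_sq hz
  have hainv := Cfsg.Agent.helper6.isolated_inv hz
  obtain ⟨k, -, hkodd, hkinv, hk2⟩ := Cfsg.Agent.helper6.exists_odd_conjugator hz g
  have key : ∀ k : G, g⁻¹ * k ∈ Subgroup.centralizer ({z} : Set G) ↔ k * z * k⁻¹ = g * z * g⁻¹ := by
    intro k
    rw [Subgroup.mem_centralizer_singleton_iff]
    constructor
    · intro h
      have : k * z * k⁻¹ = g * (g⁻¹ * k * z) * k⁻¹ := by group
      rw [this, h]; group
    · intro h
      have : g⁻¹ * k * z = g⁻¹ * (k * z * k⁻¹) * k := by group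
      rw [this, h]; group
  have sq : ∀ k : G, z * k * z⁻¹ = k⁻¹ → k * z * k⁻¹ = k * k * z := by
    intro k hk
    have h1 := Cfsg.Agent.helper6.conj_inv_pow' hk 1
    simp only [pow_one] at h1
    rw [mul_assoc, h1, mul_assoc]
  refine ⟨k, ⟨⟨hkodd, hkinv⟩, (key k).2 hk2⟩, ?_⟩
  rintro k' ⟨⟨hodd', hinv'⟩, hmem'⟩
  have e1 : k' * k' * z = k * k * z := by
    rw [← sq k' hinv', ← sq k hkinv, (key k').1 hmem', hk2]
  have e2 : k' * k' = k * k := mul_right_cancel e1
  -- both are powers of the common square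
  have hpow : ∀ x : G, Odd (orderOf x) → x = (x * x) ^ ((orderOf x + 1) / 2) := by
    intro x hx
    obtain ⟨m, hm⟩ := hx
    rw [← pow_two, ← pow_mul, hm, show 2 * ((2 * m + 1 + 1) / 2) = (2 * m + 1) + 1 by omega, ← hm, pow_succ,
      pow_orderOf_eq_one, one_mul]
  have hord : ∀ x : G, Odd (orderOf x) → orderOf (x * x) = orderOf x := by
    intro x hx
    rw [← pow_two]
    exact Nat.Coprime.orderOf_pow hx.coprime_two_right
  rw [hpow k' hodd', hpow k hkodd, ← hord k' hodd', ← hord k hkodd, e2]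

end Cfsg.Agent.S1185
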