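import Cfsg.Statements.S1186
import Cfsg.Agent.Lib_helper6_Isolated
import Cfsg.Agent.S1184

set_option autoImplicit false
open Cfsg

namespace Cfsg.Agent.S1186


open Cfsg.Agent.helper6

variable {G : Type*} [Group G]

/-- membership in `K`: odd order and inverted by `z` -/
def InK (z k : G) : Prop := Odd (orderOf k) ∧ z * k * z⁻¹ = k⁻¹

theorem conj_eq_sq_mul {z k : G} (hk : z * k * z⁻¹ = k⁻¹) : k * z * k⁻¹ = k * k * z := by
  have h1 := conj_inv_pow' hk 1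
  simp only [pow_one] at h1
  rw [mul_assoc, h1, mul_assoc]

theorem K_unique {z k₁ k₂ : G} (h₁ : InK z k₁) (h₂ : InK z k₂)
    (h : k₁ * z * k₁⁻¹ = k₂ * z * k₂⁻¹) : k₁ = k₂ := by
  rw [conj_eq_sq_mul h₁.2, conj_eq_sq_mul h₂.2] at h
  have e2 : k₁ * k₁ = k₂ * k₂ := mul_right_cancel h
  have hord : ∀ x : G, Odd (orderOf x) → orderOf (x * x) = orderOf x := by
    intro x hx
    rw [← pow_two]
    exact Nat.Coprime.orderOf_pow hx.coprime_two_right
  rw [eq_sq_pow_of_odd h₁.1, eq_sq_pow_of_odd h₂.1, ← hord k₁ h₁.1, ← hord k₂ h₂.1, e2]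

theorem K_exists [Finite G] {z : G} (hz : Cfsg.IsIsolatedInvolution z) (g : G) :
    ∃ k, InK z k ∧ k * z * k⁻¹ = g * z * g⁻¹ := by
  obtain ⟨k, -, h1, h2, h3⟩ := exists_odd_conjugator hz g
  exact ⟨k, ⟨h1, h2⟩, h3⟩

theorem K_conj {z k c : G} (hc : Commute c z) (hk : InK z k) : InK z (c * k * c⁻¹) := by
  refine ⟨?_, ?_⟩
  · have := orderOf_injective (MulAut.conj c).toMonoidHom (MulAut.conj c).injective k
    simp only [MulEquiv.toMonoidHom_eq_coe, MonoidHom.coe_coe, MulAut.conj_apply] at this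
    rw [this]; exact hk.1
  · have hc' : z * c = c * z := hc.eq.symm
    have hc'' : c⁻¹ * z⁻¹ = z⁻¹ * c⁻¹ := by
      rw [← mul_inv_rev, ← mul_inv_rev, hc']
    calc z * (c * k * c⁻¹) * z⁻¹ = (z * c) * k * (c⁻¹ * z⁻¹) := by group
      _ = (c * z) * k * (z⁻¹ * c⁻¹) := by rw [hc', hc'']
      _ = c * (z * k * z⁻¹) * c⁻¹ := by group
      _ = (c * k * c⁻¹)⁻¹ := by rw [hk.2]; group

theorem K_commute {z k c : G} (hc : Commute c z) (hk : InK z k)
    (h : c * (k * z * k⁻¹) * c⁻¹ = k * z * k⁻¹) : c * k * c⁻¹ = k := by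
  apply K_unique (K_conj hc hk) hk
  have : (c * k * c⁻¹) * z * (c * k * c⁻¹)⁻¹ = c * (k * (c⁻¹ * z * c) * k⁻¹) * c⁻¹ := by group
  rw [this]
  have : c⁻¹ * z * c = z := by rw [mul_assoc, ← hc.eq, ← mul_assoc, inv_mul_cancel, one_mul]
  rw [this, h]

theorem midpoint_unique [Finite G] {t : G} (ht : Cfsg.IsIsolatedInvolution t) (m₁ m₂ g₁ g₂ : G)
    (e₁ : m₁ = g₁ * t * g₁⁻¹) (e₂ : m₂ = g₂ * t * g₂⁻¹)
    (h : m₁ * t * m₁⁻¹ = m₂ * t * m₂⁻¹) : m₁ = m₂ := by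
  by_contra hne
  have hm1 : Cfsg.IsIsolatedInvolution m₁ := e₁ ▸ isolated_conj ht g₁
  have hm1inv := isolated_inv hm1
  have hm1sq := isolated_sq hm1
  have hne' : g₁ * t * g₁⁻¹ ≠ g₂ * t * g₂⁻¹ := by rw [← e₁, ← e₂]; exact hne
  apply Cfsg.Agent.S1184.result t ht g₁ g₂ hne'
  rw [← e₁, ← e₂]
  unfold Commute SemiconjBy
  calc m₁ * m₂ * t = m₁ * (m₂ * t * m₂⁻¹) * m₂ := by group
    _ = m₁ * (m₁ * t * m₁⁻¹) * m₂ := by rw [h]
    _ = (m₁ * m₁) * t * (m₁⁻¹ * m₂) := by group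
    _ = t * (m₁ * m₂) := by rw [hm1sq, hm1inv, one_mul]

theorem coset_eq_iff (z x y : G) :
    (QuotientGroup.mk x : G ⧸ Subgroup.centralizer ({z} : Set G)) = QuotientGroup.mk y ↔
      x * z * x⁻¹ = y * z * y⁻¹ := by
  rw [QuotientGroup.eq, Subgroup.mem_centralizer_singleton_iff]
  constructor
  · intro h
    calc x * z * x⁻¹ = x * (z * (x⁻¹ * y)) * y⁻¹ := by group
      _ = x * ((x⁻¹ * y) * z) * y⁻¹ := by rw [h]
      _ = y * z * y⁻¹ := by group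
  · intro h
    calc x⁻¹ * y * z = x⁻¹ * (y * z * y⁻¹) * y := by group
      _ = x⁻¹ * (x * z * x⁻¹) * y := by rw [h]
      _ = z * (x⁻¹ * y) := by group

theorem conj_s_a {z s a : G} (hsinv : s⁻¹ = s) (ha : InK z a) (hc : Commute a (s * z)) :
    s * a * s⁻¹ = a⁻¹ := by
  have h1 : (s * z)⁻¹ * a * (s * z) = a := by
    rw [mul_assoc, hc.eq, ← mul_assoc, inv_mul_cancel, one_mul]
  have h2 : s⁻¹ * a * s = z * a * z⁻¹ := by
    calc s⁻¹ * a * s = z * ((s * z)⁻¹ * a * (s * z)) * z⁻¹ := by group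
      _ = z * a * z⁻¹ := by rw [h1]
  rw [ha.2] at h2
  rw [← h2]
  conv_lhs => rw [← hsinv]
  rw [inv_inv]

theorem pair_midpoint {z s a b : G} (hsinv : s⁻¹ = s) (hsz : Commute s z)
    (ha : InK z a) (hac : Commute a (s * z)) (hbc : Commute b s) :
    (b * z * b⁻¹) * ((b * a) * z * (b * a)⁻¹) * (b * z * b⁻¹)⁻¹ =
      s * ((b * a) * z * (b * a)⁻¹) * s⁻¹ := by
  have hsa := conj_s_a hsinv ha hac
  have hsb : s * b * s⁻¹ = b := by rw [← hbc.eq, mul_assoc, mul_inv_cancel, mul_one]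
  have hsz' : s * z * s⁻¹ = z := by rw [hsz.eq, mul_assoc, mul_inv_cancel, mul_one]
  have e1 : s * ((b * a) * z * (b * a)⁻¹) * s⁻¹ =
      (s * b * s⁻¹) * (s * a * s⁻¹) * (s * z * s⁻¹) * ((s * b * s⁻¹) * (s * a * s⁻¹))⁻¹ := by group
  have e2 : (b * z * b⁻¹) * ((b * a) * z * (b * a)⁻¹) * (b * z * b⁻¹)⁻¹ =
      b * (z * a * z⁻¹) * z * (z * a * z⁻¹)⁻¹ * b⁻¹ := by group
  rw [e1, e2, hsa, hsb, hsz', ha.2]
  group

theorem surj_aux [Finite G] {z s : G} (hz : Cfsg.IsIsolatedInvolution z) (hsinv : s⁻¹ = s)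
    (hsz : Commute s z) (g : G) :
    ∃ a b : G, InK z a ∧ Commute a (s * z) ∧ InK z b ∧ Commute b s ∧
      (b * a) * z * (b * a)⁻¹ = g * z * g⁻¹ := by
  have hs2 : s * s = 1 := by
    calc s * s = s * s⁻¹ := by rw [hsinv]
      _ = 1 := mul_inv_cancel s
  obtain ⟨t, ht⟩ : ∃ t, t = g * z * g⁻¹ := ⟨_, rfl⟩
  have htI : Cfsg.IsIsolatedInvolution t := ht ▸ isolated_conj hz g
  have htinv := isolated_inv htI
  have ht2 := isolated_sq htI
  obtain ⟨j, hj, hjodd, hjinv, hjt⟩ := exists_odd_conjugator htI s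
  have hsv : s * ((s * t * s⁻¹) * t) * s⁻¹ = ((s * t * s⁻¹) * t)⁻¹ := by
    rw [hsinv]
    have e1 : s * (s * t * s * t) * s = (s * s) * (t * s * t * s) := by group
    have e2 : (s * t * s * t)⁻¹ = t⁻¹ * s⁻¹ * t⁻¹ * s⁻¹ := by group
    rw [e1, e2, hs2, one_mul, hsinv, htinv]
  have hsj : s * j * s⁻¹ = j⁻¹ := by
    rw [← mem_powers_iff_mem_zpowers] at hj
    obtain ⟨n, rfl⟩ := hj
    exact conj_pow_inv hsv n
  obtain ⟨i, hi⟩ : ∃ i, i = j ^ ((orderOf j + 1) / 2) := ⟨_, rfl⟩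
  have hii : i * i = j := by
    obtain ⟨m, hm⟩ := hjodd
    rw [hi, ← pow_add, hm, show (2 * m + 1 + 1) / 2 + (2 * m + 1 + 1) / 2 = (2 * m + 1) + 1 by omega, ← hm,
      pow_succ, pow_orderOf_eq_one, one_mul]
  have hti : t * i * t⁻¹ = i⁻¹ := by rw [hi]; exact conj_pow_inv hjinv _
  have hm0 : i * t * i⁻¹ = j * t := by rw [conj_eq_sq_mul hti, hii]
  obtain ⟨m₀, hm₀⟩ : ∃ m₀, m₀ = j * t := ⟨_, rfl⟩
  have hsm : s * m₀ * s⁻¹ = m₀ := by
    rw [hm₀]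
    calc s * (j * t) * s⁻¹ = (s * j * s⁻¹) * (s * t * s⁻¹) := by group
      _ = j⁻¹ * (j * t * j⁻¹) := by rw [hsj, hjt]
      _ = t * j⁻¹ := by group
      _ = j * t := by
        have := conj_inv_pow' hjinv 1
        simpa using this
  have hmt : m₀ * t * m₀⁻¹ = s * t * s⁻¹ := by
    rw [hm₀, ← hjt]
    group
  have hm₀z : m₀ = (i * g) * z * (i * g)⁻¹ := by
    rw [hm₀, ← hm0, ht]; group
  obtain ⟨b, hbK, hb⟩ := K_exists hz (i * g)
  rw [← hm₀z] at hb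
  have hbs : s * b * s⁻¹ = b := K_commute hsz hbK (by rw [hb]; exact hsm)
  have hbs' : b * s * b⁻¹ = s := by
    calc b * s * b⁻¹ = (s * b * s⁻¹) * s * b⁻¹ := by rw [hbs]
      _ = s := by group
  have hbc : Commute b s := by
    unfold Commute SemiconjBy
    calc b * s = (b * s * b⁻¹) * b := by group
      _ = s * b := by rw [hbs']
  obtain ⟨a, haK, ha⟩ := K_exists hz (b⁻¹ * g)
  have ht1 : a * z * a⁻¹ = b⁻¹ * t * b := by rw [ha, ht]; group
  have hszz : Commute (s * z) z := by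
    unfold Commute SemiconjBy
    rw [← mul_assoc z, ← hsz.eq]
  have hfix : (s * z) * (a * z * a⁻¹) * (s * z)⁻¹ = a * z * a⁻¹ := by
    rw [ht1]
    have e1 : b * (s * z) * b⁻¹ = s * m₀ := by
      rw [← hb]
      calc b * (s * z) * b⁻¹ = (b * s * b⁻¹) * (b * z * b⁻¹) := by group
        _ = s * (b * z * b⁻¹) := by rw [hbs']
    calc (s * z) * (b⁻¹ * t * b) * (s * z)⁻¹
        = b⁻¹ * ((b * (s * z) * b⁻¹) * t * (b * (s * z) * b⁻¹)⁻¹) * b := by group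
      _ = b⁻¹ * ((s * m₀) * t * (s * m₀)⁻¹) * b := by rw [e1]
      _ = b⁻¹ * (s * (m₀ * t * m₀⁻¹) * s⁻¹) * b := by group
      _ = b⁻¹ * (s * (s * t * s⁻¹) * s⁻¹) * b := by rw [hmt]
      _ = b⁻¹ * ((s * s) * t * (s⁻¹ * s⁻¹)) * b := by group
      _ = b⁻¹ * t * b := by rw [hsinv, hs2, one_mul, mul_one]
  have hac' : (s * z) * a * (s * z)⁻¹ = a := K_commute hszz haK hfix
  have hac : Commute a (s * z) := by
    unfold Commute SemiconjBy
    calc a * (s * z) = ((s * z) * a * (s * z)⁻¹) * (s * z) := by rw [hac']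
      _ = s * z * a := by group
  refine ⟨a, b, haK, hac, hbK, hbc, ?_⟩
  calc (b * a) * z * (b * a)⁻¹ = b * (a * z * a⁻¹) * b⁻¹ := by group
    _ = b * (b⁻¹ * t * b) * b⁻¹ := by rw [ht1]
    _ = g * z * g⁻¹ := by rw [ht]; group

/-- Let z be an isolated involution of the finite group G, C = C_G(z), K the set of elements of odd order inverted by z, and s an involution of C. Then |G| = |C| · |C_K(sz)| · |C_K(s)|. -/
theorem result {G : Type*} [Group G] [Finite G] (z : G) (hz : Cfsg.IsIsolatedInvolution z) (s : G) (hs : orderOf s = 2) (hsz : Commute s z) : Nat.card G = Nat.card (Subgroup.centralizer ({z} : Set G)) * Nat.card {k : G // Odd (orderOf k) ∧ z * k * z⁻¹ = k⁻¹ ∧ Commute k (s * z)} * Nat.card {k : G // Odd (orderOf k) ∧ z * k * z⁻¹ = k⁻¹ ∧ Commute k s} := by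
  have hs2 : s * s = 1 := by
    have := pow_orderOf_eq_one s
    rw [hs, pow_two] at this
    exact this
  have hsinv : s⁻¹ = s := inv_eq_of_mul_eq_one_left hs2
  obtain ⟨Ψ, hΨdef⟩ : ∃ Ψ : {k : G // Odd (orderOf k) ∧ z * k * z⁻¹ = k⁻¹ ∧ Commute k (s * z)} ×
      {k : G // Odd (orderOf k) ∧ z * k * z⁻¹ = k⁻¹ ∧ Commute k s} →
      G ⧸ Subgroup.centralizer ({z} : Set G), ∀ p, Ψ p = QuotientGroup.mk (p.2.1 * p.1.1) :=
    ⟨fun p => QuotientGroup.mk (p.2.1 * p.1.1), fun _ => rfl⟩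
  have hΨ : Function.Bijective Ψ := by
    constructor
    · rintro ⟨⟨a, ha1, ha2, ha3⟩, ⟨b, hb1, hb2, hb3⟩⟩ ⟨⟨a', ha1', ha2', ha3'⟩, ⟨b', hb1', hb2', hb3'⟩⟩ h
      rw [hΨdef, hΨdef] at h
      simp only at h
      rw [coset_eq_iff] at h
      have hmid := pair_midpoint hsinv hsz ⟨ha1, ha2⟩ ha3 hb3
      have hmid' := pair_midpoint hsinv hsz ⟨ha1', ha2'⟩ ha3' hb3'
      rw [← h] at hmid'
      have htI := isolated_conj hz (b * a)
      have hbb : b * z * b⁻¹ = b' * z * b'⁻¹ := by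
        apply midpoint_unique htI _ _ (b * (b * a)⁻¹) (b' * (b * a)⁻¹) ?_ ?_ (hmid.trans hmid'.symm)
        · group
        · group
      have hb_eq : b = b' := K_unique ⟨hb1, hb2⟩ ⟨hb1', hb2'⟩ hbb
      subst hb_eq
      have haa : a * z * a⁻¹ = a' * z * a'⁻¹ := by
        calc a * z * a⁻¹ = b⁻¹ * ((b * a) * z * (b * a)⁻¹) * b := by group
          _ = b⁻¹ * ((b * a') * z * (b * a')⁻¹) * b := by rw [h]
          _ = a' * z * a'⁻¹ := by group
      have ha_eq : a = a' := K_unique ⟨ha1, ha2⟩ ⟨ha1', ha2'⟩ haa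
      subst ha_eq
      rfl
    · intro x
      obtain ⟨g, rfl⟩ := QuotientGroup.mk_surjective x
      obtain ⟨a, b, haK, hac, hbK, hbc, hab⟩ := surj_aux hz hsinv hsz g
      refine ⟨(⟨a, haK.1, haK.2, hac⟩, ⟨b, hbK.1, hbK.2, hbc⟩), ?_⟩
      rw [hΨdef]
      simp only
      rw [coset_eq_iff]; exact hab
  have hcard := Nat.card_congr (Equiv.ofBijective Ψ hΨ)
  rw [Nat.card_prod] at hcard
  rw [← Subgroup.card_mul_index (Subgroup.centralizer ({z} : Set G)), Subgroup.index, ← hcard]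
  ring

end Cfsg.Agent.S1186
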