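import Cfsg.Statements.S1187
import Cfsg.Agent.Lib_helper18_Isolated

set_option autoImplicit false
open Cfsg

namespace Cfsg.Agent.S1187

/-- Let z be an isolated involution of the finite group G and p a prime. If Q is a p-subgroup normalized by z that is maximal among p-subgroups normalized by z, then Q is a Sylow p-subgroup of G. -/
theorem result {G : Type*} [Group G] [Finite G] (z : G) (hz : Cfsg.IsIsolatedInvolution z) {p : ℕ} [Fact p.Prime] (Q : Subgroup G) (hQ : IsPGroup p Q) (hzQ : z ∈ Subgroup.normalizer (Q : Set G)) (hmax : ∀ R : Subgroup G, IsPGroup p R → z ∈ Subgroup.normalizer (R : Set G) → Q ≤ R → R = Q) : ∃ P : Sylow p G, (P : Subgroup G) = Q := by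
  classical
  obtain ⟨N, hNn, hNodd, hN⟩ := Cfsg.Agent.helper12.zs_main _ G rfl z hz
  have hz2 : z * z = 1 := by
    have := pow_orderOf_eq_one z
    rw [hz.1, pow_two] at this
    exact this
  by_cases hp : p = 2
  · subst hp
    have hzp : IsPGroup 2 (Subgroup.zpowers z) := by
      apply IsPGroup.of_card (n := 1)
      rw [Nat.card_zpowers, hz.1, pow_one]
    have hzn : Subgroup.zpowers z ≤ Subgroup.normalizer (Q : Set G) :=
      Subgroup.zpowers_le.mpr hzQ
    have hR : IsPGroup 2 (Q ⊔ Subgroup.zpowers z : Subgroup G) :=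
      IsPGroup.to_sup_of_normal_left' hQ hzp hzn
    obtain ⟨P, hP⟩ := hR.exists_le_sylow
    have hzP : z ∈ (P : Subgroup G) :=
      hP ((le_sup_right : Subgroup.zpowers z ≤ Q ⊔ Subgroup.zpowers z) (Subgroup.mem_zpowers z))
    have hQP : Q ≤ P := le_sup_left.trans hP
    have := hmax P P.2 (Subgroup.le_normalizer hzP) hQP
    exact ⟨P, this⟩
  · haveI := hNn
    exact Cfsg.Agent.helper18.Isolated.sylow_of_max_invariant_odd z hz2 N hNodd hN hp Q hQ hzQ hmax

end Cfsg.Agent.S1187
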