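import Cfsg.Statements.S1189
import Mathlib
import Cfsg.Agent.Lib_helper6_QD2
-- import your own Cfsg.Agent.* helpers here

set_option autoImplicit false
open Cfsg

namespace Cfsg.Agent.S1189

/-- A quasi-dihedral 2-group has exactly two conjugacy classes of elements of order 2 and exactly two conjugacy classes of elements of order 4. -/
theorem result {S : Type*} [Group S] [Finite S] (hS : Cfsg.IsQuasiDihedral S) : Nat.card {C : ConjClasses S // ∃ t : S, orderOf t = 2 ∧ ConjClasses.mk t = C} = 2 ∧ Nat.card {C : ConjClasses S // ∃ t : S, orderOf t = 4 ∧ ConjClasses.mk t = C} = 2 := by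
  obtain ⟨D⟩ := Cfsg.Agent.helper6.QD.nonempty_data hS
  constructor
  · rw [Nat.card_eq_two_iff]
    refine ⟨⟨ConjClasses.mk (D.e D.h), D.e D.h, (D.orderOf_e_eq_two_iff _).mpr rfl, rfl⟩,
      ⟨ConjClasses.mk D.y, D.y, D.hy, rfl⟩, ?_, ?_⟩
    · intro h
      rw [Subtype.mk.injEq, ConjClasses.mk_eq_mk_iff_isConj, ← D.b_zero] at h
      exact D.not_isConj_e_b _ _ h
    · ext ⟨C, t, ht, hC⟩
      subst hC
      simp only [Set.mem_insert_iff, Set.mem_singleton_iff, Set.mem_univ, iff_true,
        Subtype.mk.injEq]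
      rcases D.cases t with ⟨i, rfl⟩ | ⟨i, rfl⟩
      · left; rw [(D.orderOf_e_eq_two_iff i).mp ht]
      · right
        rw [ConjClasses.mk_eq_mk_iff_isConj, ← D.b_zero]
        apply D.isConj_b_of_par_eq
        rw [(D.orderOf_b_eq_two_iff i).mp ht, map_zero]
  · rw [Nat.card_eq_two_iff]
    refine ⟨⟨ConjClasses.mk (D.e D.q), D.e D.q, (D.orderOf_e_eq_four_iff _).mpr (Or.inl rfl), rfl⟩,
      ⟨ConjClasses.mk (D.b 1), D.b 1, (D.orderOf_b_eq_four_iff _).mpr (map_one _), rfl⟩, ?_, ?_⟩
    · intro h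
      rw [Subtype.mk.injEq, ConjClasses.mk_eq_mk_iff_isConj] at h
      exact D.not_isConj_e_b _ _ h
    · ext ⟨C, t, ht, hC⟩
      subst hC
      simp only [Set.mem_insert_iff, Set.mem_singleton_iff, Set.mem_univ, iff_true,
        Subtype.mk.injEq]
      rcases D.cases t with ⟨i, rfl⟩ | ⟨i, rfl⟩
      · left
        rcases (D.orderOf_e_eq_four_iff i).mp ht with h1 | h1
        · rw [h1]
        · rw [h1, ConjClasses.mk_eq_mk_iff_isConj]; exact D.isConj_e_q.symm
      · right
        rw [ConjClasses.mk_eq_mk_iff_isConj]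
        apply D.isConj_b_of_par_eq
        rw [(D.orderOf_b_eq_four_iff i).mp ht, map_one]

end Cfsg.Agent.S1189
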