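import Cfsg.Statements.S1192
import Mathlib
import Cfsg.Agent.Lib_helper6_QD5
-- import your own Cfsg.Agent.* helpers here

set_option autoImplicit false
open Cfsg

namespace Cfsg.Agent.S1192

/-- A quasi-dihedral group S of order 2^(n+1) has exactly three maximal subgroups; one is cyclic, one is isomorphic to the generalized quaternion group of order 2^n and one to the dihedral group of order 2^n. -/
theorem result {S : Type*} [Group S] [Finite S] (hS : Cfsg.IsQuasiDihedral S) (n : ℕ) (hn : Nat.card S = 2 ^ (n + 1)) : ∃ M₁ M₂ M₃ : Subgroup S, IsCoatom M₁ ∧ IsCoatom M₂ ∧ IsCoatom M₃ ∧ M₁ ≠ M₂ ∧ M₁ ≠ M₃ ∧ M₂ ≠ M₃ ∧ (∀ M : Subgroup S, IsCoatom M → M = M₁ ∨ M = M₂ ∨ M = M₃) ∧ IsCyclic M₁ ∧ Nonempty (M₂ ≃* QuaternionGroup (2 ^ (n - 2))) ∧ Nonempty (M₃ ≃* DihedralGroup (2 ^ (n - 1))) := by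
  obtain ⟨D⟩ := Cfsg.Agent.helper6.QD.nonempty_data hS
  have hnn : n = D.n := by
    have h1 := D.card
    rw [hn] at h1
    have := Nat.pow_right_injective (le_refl 2) h1
    omega
  subst hnn
  exact ⟨Subgroup.zpowers D.x, D.M 1, D.M 0, D.isCoatom_M1, D.isCoatom_M 1, D.isCoatom_M 0,
    D.M1_ne_M 1, D.M1_ne_M 0, D.M_ne, D.coatom_cases, inferInstance, D.M1_equiv, D.M0_equiv⟩

end Cfsg.Agent.S1192
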