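import Cfsg.Statements.S1195
import Mathlib
import Cfsg.Agent.Lib_helper6_Wr2
-- import your own Cfsg.Agent.* helpers here

set_option autoImplicit false
open Cfsg

namespace Cfsg.Agent.S1195

/-- A wreathed 2-group has exactly three conjugacy classes of elements of order 2. -/
theorem result {S : Type*} [Group S] [Finite S] (hS : Cfsg.IsWreathed S) : Nat.card {C : ConjClasses S // ∃ t : S, orderOf t = 2 ∧ ConjClasses.mk t = C} = 3 := by
  obtain ⟨D⟩ := Cfsg.Agent.helper6.Wr.nonempty_data hS
  exact D.card_invol_classes

end Cfsg.Agent.S1195
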