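import Cfsg.Statements.S1196
import Mathlib
import Cfsg.Agent.Lib_helper6_Wr3
-- import your own Cfsg.Agent.* helpers here

set_option autoImplicit false
open Cfsg

namespace Cfsg.Agent.S1196

/-- A wreathed 2-group S of order 2^(2n+1) has a unique commutative subgroup of order 2^(2n), and this subgroup is isomorphic to the direct product of two cyclic groups of order 2^n. -/
theorem result {S : Type*} [Group S] [Finite S] (hS : Cfsg.IsWreathed S) (n : ℕ) (hn : Nat.card S = 2 ^ (2 * n + 1)) : (∃! U : Subgroup S, IsMulCommutative U ∧ Nat.card U = 2 ^ (2 * n)) ∧ ∀ U : Subgroup S, IsMulCommutative U → Nat.card U = 2 ^ (2 * n) → Nonempty (U ≃* Multiplicative (ZMod (2 ^ n) × ZMod (2 ^ n))) := by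
  obtain ⟨D⟩ := Cfsg.Agent.helper6.Wr.nonempty_data hS
  have hnn : n = D.n := by
    have h1 := D.card
    rw [hn] at h1
    have := Nat.pow_right_injective (le_refl 2) h1
    omega
  subst hnn
  have key : ∀ W : Subgroup S, IsMulCommutative W → Nat.card W = 2 ^ (2 * D.n) → W = D.U := by
    intro W hW hcard
    apply D.comm_eq_U W _ hcard
    intro a ha c hc
    exact congrArg Subtype.val (mul_comm' (⟨a, ha⟩ : W) ⟨c, hc⟩)
  have hU : IsMulCommutative D.U :=
    ⟨⟨fun a c => Subtype.ext (D.U_comm a.1 a.2 c.1 c.2)⟩⟩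
  refine ⟨⟨D.U, ⟨hU, D.card_U⟩, fun W hW => key W hW.1 hW.2⟩, ?_⟩
  intro W hW hcard
  rw [key W hW hcard]
  exact D.U_equiv

end Cfsg.Agent.S1196
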