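import Cfsg.Statements.S1199
import Mathlib
import Cfsg.Agent.Lib_helper6_Wr9
-- import your own Cfsg.Agent.* helpers here

set_option autoImplicit false
open Cfsg

namespace Cfsg.Agent.S1199

/-- A wreathed 2-group S of order 2^(2n+1) has exactly one subgroup of order 2^(n+1) isomorphic to a generalized quaternion group, and that subgroup is normal in S. -/
theorem result {S : Type*} [Group S] [Finite S] (hS : Cfsg.IsWreathed S) (n : ℕ) (hn : Nat.card S = 2 ^ (2 * n + 1)) : (∃! Y : Subgroup S, Nat.card Y = 2 ^ (n + 1) ∧ Nonempty (Y ≃* QuaternionGroup (2 ^ (n - 1)))) ∧ ∀ Y : Subgroup S, Nat.card Y = 2 ^ (n + 1) → Nonempty (Y ≃* QuaternionGroup (2 ^ (n - 1))) → Y.Normal := by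
  obtain ⟨D⟩ := Cfsg.Agent.helper6.Wr.nonempty_data hS
  have hnn : n = D.n := by
    have h1 := D.card
    rw [hn] at h1
    have := Nat.pow_right_injective (le_refl 2) h1
    omega
  subst hnn
  refine ⟨⟨D.Y, ⟨D.card_Y, D.Y_equiv⟩, ?_⟩, ?_⟩
  · rintro Y' ⟨hcard, ⟨e⟩⟩
    exact D.quat_unique Y' hcard e
  · rintro Y' hcard ⟨e⟩
    rw [D.quat_unique Y' hcard e]
    exact D.Y_normal

end Cfsg.Agent.S1199
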