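import Cfsg.Statements.S1201
import Mathlib
import Cfsg.Agent.Lib_helper6_Wr4
-- import your own Cfsg.Agent.* helpers here

set_option autoImplicit false
open Cfsg

namespace Cfsg.Agent.S1201

/-- If X is a non-commutative subgroup of a wreathed 2-group S, then Z(X) ≤ Z(S). -/
theorem result {S : Type*} [Group S] [Finite S] (hS : Cfsg.IsWreathed S) (X : Subgroup S) (hX : ¬ IsMulCommutative X) : (Subgroup.center X).map X.subtype ≤ Subgroup.center S := by
  obtain ⟨D⟩ := Cfsg.Agent.helper6.Wr.nonempty_data hS
  exact D.center_le_of_noncomm X hX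

end Cfsg.Agent.S1201
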