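import Cfsg.Statements.S1202
import Mathlib
import Cfsg.Agent.Lib_helper6_WrQ
-- import your own Cfsg.Agent.* helpers here

set_option autoImplicit false
open Cfsg

namespace Cfsg.Agent.S1202

/-- Let S be a wreathed 2-group of order 2^(2n+1) and X a subgroup with C_S(X) ≤ X such that Aut(X) is not a 2-group. Then |N_S(X) : X| = 2, and either X is the commutative subgroup of order 2^(2n), or X = Q·Z(S) for some subgroup Q ≅ Q₈; in the latter case any two such subgroups are conjugate in S. -/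
theorem result {S : Type*} [Group S] [Finite S] (hS : Cfsg.IsWreathed S) (n : ℕ) (hn : Nat.card S = 2 ^ (2 * n + 1)) (X : Subgroup S) (hC : Subgroup.centralizer (X : Set S) ≤ X) (hA : ¬ IsPGroup 2 (MulAut X)) : X.relIndex (Subgroup.normalizer (X : Set S)) = 2 ∧ ((IsMulCommutative X ∧ Nat.card X = 2 ^ (2 * n)) ∨ ∃ Q : Subgroup S, Nonempty (Q ≃* QuaternionGroup 2) ∧ X = Q ⊔ Subgroup.center S) ∧ ∀ X' : Subgroup S, Subgroup.centralizer (X' : Set S) ≤ X' → ¬ IsPGroup 2 (MulAut X') → ¬ IsMulCommutative X → ¬ IsMulCommutative X' → ∃ s : S, X.map (MulAut.conj s).toMonoidHom = X' := by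
  obtain ⟨D⟩ := Cfsg.Agent.helper6.Wr.nonempty_data hS
  have hn' : D.n = n := by
    have h1 := D.card
    rw [hn] at h1
    have h2 := Nat.pow_right_injective (le_refl 2) h1
    omega
  have hUc : IsMulCommutative D.U := ⟨⟨fun a b => Subtype.ext (D.U_comm a a.2 b b.2)⟩⟩
  rcases D.centric_nontwo_cases X hC hA with hX | ⟨c, hc, hX⟩
  · refine ⟨?_, Or.inl ⟨by rw [hX]; exact hUc, by rw [hX, D.card_U, hn']⟩, ?_⟩
    · rw [hX, Subgroup.normalizer_eq_top, Subgroup.relIndex_top_right, D.index_U]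
    · intro X' _ _ hXnc _
      exact absurd (by rw [hX]; exact hUc) hXnc
  · refine ⟨by rw [hX]; exact D.relIndex_normalizer_Vd c, Or.inr ?_, ?_⟩
    · obtain ⟨Q, hQ, hV⟩ := D.exists_quat_Vd c hc
      exact ⟨Q, hQ, by rw [hX, hV]⟩
    · intro X' hC' hA' _ hXnc'
      rcases D.centric_nontwo_cases X' hC' hA' with hX' | ⟨c', hc', hX'⟩
      · exact absurd (by rw [hX']; exact hUc) hXnc'
      · have hpar : D.par (c' - c) = 0 := by rw [map_sub, hc, hc', sub_zero]
        obtain ⟨m, hm⟩ := (D.par_eq_zero_iff _).mp hpar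
        refine ⟨D.e m 0, ?_⟩
        rw [hX, hX', D.Vd_conj' c m]
        congr 1
        linear_combination -hm

end Cfsg.Agent.S1202
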