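import Cfsg.Statements.S1217
import Mathlib
import Cfsg.Agent.Lib_helper6_SylElems
import Cfsg.Agent.Lib_helper6_GL2QD
-- import your own Cfsg.Agent.* helpers here

set_option autoImplicit false
open scoped MatrixGroups
open Cfsg

namespace Cfsg.Agent.S1217

/-- Let F be a finite field with q elements, q odd, and P a Sylow 2-subgroup of GL(2,F). If q ≡ 3 (mod 4) then P is quasi-dihedral; if q ≡ 1 (mod 4) then P is wreathed. -/
theorem result {F : Type*} [Field F] [Fintype F] (P : Sylow 2 (GL (Fin 2) F)) : (Fintype.card F % 4 = 3 → Cfsg.IsQuasiDihedral (P : Subgroup (GL (Fin 2) F))) ∧ (Fintype.card F % 4 = 1 → Cfsg.IsWreathed (P : Subgroup (GL (Fin 2) F))) := by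
  obtain ⟨q, hqdef⟩ : ∃ q, q = Fintype.card F := ⟨_, rfl⟩
  rw [← hqdef]
  have hcardG : Nat.card (GL (Fin 2) F) = (q ^ 2 - 1) * (q ^ 2 - q) := by
    rw [Matrix.card_GL_field, Fin.prod_univ_two, hqdef]
    simp
  have hq1 : 1 < q := by rw [hqdef]; exact Fintype.one_lt_card
  constructor
  · intro hq
    obtain ⟨x, y, hx, hy, hxy⟩ := helper6.GL2QD.qd_elements (F := F) (by rw [← hqdef]; exact hq)
    rw [← hqdef] at hx hxy
    obtain ⟨m, hmdef⟩ : ∃ m, m = (q + 1).factorization 2 := ⟨_, rfl⟩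
    rw [← hmdef] at hx
    have hm : 2 ≤ m := by
      rw [hmdef]; exact helper6.GL2Arith.two_le_fact (by omega) (by omega)
    have h1 : (q - 1).factorization 2 = 1 := helper6.GL2Arith.fact_two_mul_odd (by omega)
    apply helper6.SylElems.isQuasiDihedral_sylow_of_elements P (m + 1) (by omega) ?_ x y hx hy ?_
    · rw [hcardG, helper6.GL2Arith.fact_card (by omega) hq1, h1, ← hmdef]; ring
    · rw [hxy, Nat.add_sub_cancel, pow_eq_pow_iff_modEq, hx, hmdef]
      exact helper6.GL2Arith.modEq_of_fact q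
  · intro hq
    obtain ⟨n, hndef⟩ : ∃ n, n = (q - 1).factorization 2 := ⟨_, rfl⟩
    have hn : 2 ≤ n := by
      rw [hndef]; exact helper6.GL2Arith.two_le_fact (by omega) (by omega)
    have h1 : (q + 1).factorization 2 = 1 := helper6.GL2Arith.fact_two_mul_odd (by omega)
    obtain ⟨ζ, hζ⟩ := helper6.GL2Wr.exists_orderOf_eq_of_dvd (α := Fˣ) (d := 2 ^ n) (by
      rw [Nat.card_units, Nat.card_eq_fintype_card, ← hqdef, hndef]
      exact Nat.ordProj_dvd _ _)
    obtain ⟨h1', h2, h3, h4⟩ := helper6.GL2Wr.wreath_elements ζ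
    exact helper6.SylElems.isWreathed_sylow_of_elements P n hn
      (by rw [hcardG, helper6.GL2Arith.fact_card (by omega) hq1, h1, ← hndef])
      _ _ _ (h1'.trans hζ) h2 h3 helper6.GL2Wr.orderOf_sw h4

end Cfsg.Agent.S1217
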