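import Cfsg.Statements.S1218
import Mathlib
import Cfsg.Agent.Lib_helper6_GU2b
-- import your own Cfsg.Agent.* helpers here

set_option autoImplicit false
open scoped MatrixGroups
open Cfsg

namespace Cfsg.Agent.S1218

/-- Let F be a finite field with q² elements, q odd, let GU be the subgroup of GL(2,F) preserving the Hermitian form u₁v₁^q + u₂v₂^q, and P a Sylow 2-subgroup of GU. If q ≡ 1 (mod 4) then P is quasi-dihedral; if q ≡ 3 (mod 4) then P is wreathed. -/
theorem result {F : Type*} [Field F] [Fintype F] (q : ℕ) (hF : Fintype.card F = q ^ 2) (hq : Odd q) (P : Sylow 2 ↥(Cfsg.preserving (Units.coeHom (Matrix (Fin 2) (Fin 2) F)) (Cfsg.hermForm 2 F q))) : (q % 4 = 1 → Cfsg.IsQuasiDihedral (P : Subgroup ↥(Cfsg.preserving (Units.coeHom (Matrix (Fin 2) (Fin 2) F)) (Cfsg.hermForm 2 F q)))) ∧ (q % 4 = 3 → Cfsg.IsWreathed (P : Subgroup ↥(Cfsg.preserving (Units.coeHom (Matrix (Fin 2) (Fin 2) F)) (Cfsg.hermForm 2 F q)))) := by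
  have h2q := helper11.HermCount.two_le_q hF
  have hqodd : q % 2 = 1 := Nat.odd_iff.mp hq
  have hcard : Nat.card (GU 2 F q) = q * ((q + 1) * (q ^ 2 - 1)) := helper6.GU2.card_GU2 hF
  constructor
  · intro hq4
    obtain ⟨x, y, hxG, hyG, hx, hy, hxy⟩ := helper6.GU2.qd_elements_GU hF hq4
    obtain ⟨m, hm⟩ : ∃ m, m = (q - 1).factorization 2 := ⟨_, rfl⟩
    rw [← hm] at hx hxy
    have hm2 : 2 ≤ m := by
      rw [hm]; exact helper6.GL2Arith.two_le_fact (by omega) (by omega)
    have h1 : (q + 1).factorization 2 = 1 := helper6.GL2Arith.fact_two_mul_odd (by omega)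
    exact helper6.GU2.isQuasiDihedral_sylow_sub (GU 2 F q) P (m + 1) (by omega)
      (by rw [hcard, helper6.GU2.fact_cardGU hqodd (by omega), h1, ← hm]; ring)
      x y hxG hyG hx hy (by rw [Nat.add_sub_cancel]; exact hxy)
  · intro hq4
    obtain ⟨x, y, z, hxG, hyG, hzG, hx, hxy, hinf, hz, hzx⟩ := helper6.GU2.wr_elements_GU (q := q) hF
    obtain ⟨n, hn⟩ : ∃ n, n = (q + 1).factorization 2 := ⟨_, rfl⟩
    rw [← hn] at hx
    have hn2 : 2 ≤ n := by
      rw [hn]; exact helper6.GL2Arith.two_le_fact (by omega) (by omega)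
    have h1 : (q - 1).factorization 2 = 1 := helper6.GL2Arith.fact_two_mul_odd (by omega)
    exact helper6.GU2.isWreathed_sylow_sub (GU 2 F q) P n hn2
      (by rw [hcard, helper6.GU2.fact_cardGU hqodd (by omega), h1, ← hn])
      x y z hxG hyG hzG hx hxy hinf hz hzx

end Cfsg.Agent.S1218
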