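import Cfsg.Statements.S1340
import Cfsg.Agent.Lib_helper25_BlkDiag
import Cfsg.Agent.Lib_helper7_Diag2
import Cfsg.Agent.S0249
import Cfsg.Agent.Lib_helper1_Core

set_option autoImplicit false
open Cfsg

namespace Cfsg.Agent.S1340

open Matrix Cfsg.Agent.helper25.BlkDiag

section
variable {F : Type*} [Field F] [Fintype F] [DecidableEq F] {m : ℕ}

local notation "GLn" => Matrix.GeneralLinearGroup (Fin (m + 1)) F
local notation "SLm" => Matrix.SpecialLinearGroup (Fin m) F

/-- the involution `diag(-1, 1, …, 1)`. -/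
def tInv : GLn :=
  ⟨bd 1 (-1), bd 1 (-1), by rw [bd_mul]; simp [bd_one], by rw [bd_mul]; simp [bd_one]⟩

theorem tInv_coe : ((tInv : GLn) : Matrix (Fin (m + 1)) (Fin (m + 1)) F) = bd 1 (-1) := rfl

theorem two_ne_zero_of_odd (hF : Odd (Fintype.card F)) : (2 : F) ≠ 0 := by
  intro h
  have h2 : ringChar F ∣ 2 := by
    have := (ringChar.spec F 2).mp (by exact_mod_cast h)
    exact_mod_cast this
  have hp : (ringChar F).Prime := CharP.char_is_prime F (ringChar F)
  have h3 : ringChar F = 2 := (Nat.prime_dvd_prime_iff_eq hp Nat.prime_two).mp h2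
  have h4 : ringChar F ∣ Fintype.card F := by
    obtain ⟨n, hn⟩ := FiniteField.card F (ringChar F)
    rw [hn.2]
    exact dvd_pow_self _ n.ne_zero
  rw [h3] at h4
  exact (Nat.not_even_iff_odd.mpr hF) (even_iff_two_dvd.mpr h4)

/-- matrices commuting with `t` are block diagonal. -/
theorem block_of_comm (hF : Odd (Fintype.card F)) (g : Matrix (Fin (m + 1)) (Fin (m + 1)) F)
    (h : g * bd 1 (-1) = bd 1 (-1) * g) :
    g = bd (Matrix.of fun i j => g (Fin.succ i) (Fin.succ j)) (g 0 0) := by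
  have h2 := two_ne_zero_of_odd hF
  apply eq_bd_of
  · intro j
    have := congrFun (congrFun h 0) j.succ
    rw [Matrix.mul_apply, Matrix.mul_apply, Fin.sum_univ_succ, Fin.sum_univ_succ] at this
    simp only [bd_zero_zero, bd_succ_zero, bd_zero_succ, bd_succ_succ, Matrix.one_apply,
      mul_zero, zero_add, zero_mul, add_zero] at this
    rw [Finset.sum_eq_single j (by intro b _ hb; simp [hb]) (by simp)] at this
    simp only [if_true, mul_one] at this
    rw [Finset.sum_eq_zero (by intro b _; simp)] at this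
    have h3 : (2 : F) * g 0 j.succ = 0 := by linear_combination this
    rcases mul_eq_zero.mp h3 with h4 | h4
    · exact absurd h4 h2
    · exact h4
  · intro i
    have := congrFun (congrFun h i.succ) 0
    rw [Matrix.mul_apply, Matrix.mul_apply, Fin.sum_univ_succ, Fin.sum_univ_succ] at this
    simp only [bd_zero_zero, bd_succ_zero, bd_zero_succ, bd_succ_succ, Matrix.one_apply,
      mul_zero, zero_add, zero_mul, add_zero] at this
    rw [Finset.sum_eq_zero (by intro b _; simp)] at this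
    rw [Finset.sum_eq_single i (by intro b _ hb; simp [Ne.symm hb]) (by simp)] at this
    simp only [if_true, one_mul] at this
    have h3 : (2 : F) * g i.succ 0 = 0 := by linear_combination -this
    rcases mul_eq_zero.mp h3 with h4 | h4
    · exact absurd h4 h2
    · exact h4

/-- the block embedding `SL_m → GL_{m+1}`. -/
def iotaGL : SLm →* GLn where
  toFun A := ⟨bd (A : Matrix (Fin m) (Fin m) F) 1, bd ((A⁻¹ : SLm) : Matrix (Fin m) (Fin m) F) 1,
    by rw [bd_mul, ← Matrix.SpecialLinearGroup.coe_mul, mul_inv_cancel,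
        Matrix.SpecialLinearGroup.coe_one, mul_one, bd_one],
    by rw [bd_mul, ← Matrix.SpecialLinearGroup.coe_mul, inv_mul_cancel,
        Matrix.SpecialLinearGroup.coe_one, mul_one, bd_one]⟩
  map_one' := by
    apply Units.ext
    show bd ((1 : SLm) : Matrix (Fin m) (Fin m) F) 1 = 1
    rw [Matrix.SpecialLinearGroup.coe_one, bd_one]
  map_mul' A B := by
    apply Units.ext
    show bd ((A * B : SLm) : Matrix (Fin m) (Fin m) F) 1
      = bd (A : Matrix (Fin m) (Fin m) F) 1 * bd (B : Matrix (Fin m) (Fin m) F) 1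
    rw [bd_mul, Matrix.SpecialLinearGroup.coe_mul, mul_one]

theorem iotaGL_coe (A : SLm) :
    ((iotaGL A : GLn) : Matrix (Fin (m + 1)) (Fin (m + 1)) F)
      = bd (A : Matrix (Fin m) (Fin m) F) 1 := rfl

theorem mem_Ct_iff (g : GLn) :
    g ∈ Subgroup.centralizer ({(tInv : GLn)} : Set GLn) ↔
      (g : Matrix (Fin (m + 1)) (Fin (m + 1)) F) * bd 1 (-1)
        = bd 1 (-1) * (g : Matrix (Fin (m + 1)) (Fin (m + 1)) F) := by
  rw [Subgroup.mem_centralizer_singleton_iff]
  constructor
  · intro h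
    have := congrArg (fun x : GLn => (x : Matrix (Fin (m + 1)) (Fin (m + 1)) F)) h
    simp only [Units.val_mul, tInv_coe] at this
    first | exact this | exact this.symm
  · intro h
    apply Units.ext
    simp only [Units.val_mul, tInv_coe]
    first | exact h | exact h.symm

theorem iotaGL_mem (A : SLm) :
    iotaGL A ∈ Subgroup.centralizer ({(tInv : GLn)} : Set GLn) := by
  rw [mem_Ct_iff, iotaGL_coe, bd_mul, bd_mul, mul_one, one_mul, mul_one, one_mul]

/-- the block embedding into the centralizer. -/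
def iotaC : SLm →* ↥(Subgroup.centralizer ({(tInv : GLn)} : Set GLn)) :=
  iotaGL.codRestrict _ iotaGL_mem

theorem iotaC_injective : Function.Injective (iotaC (F := F) (m := m)) := by
  intro A B h
  have h1 := congrArg (fun x : ↥(Subgroup.centralizer ({(tInv : GLn)} : Set GLn)) =>
    ((x : GLn) : Matrix (Fin (m + 1)) (Fin (m + 1)) F)) h
  have h2 : bd (A : Matrix (Fin m) (Fin m) F) 1 = bd (B : Matrix (Fin m) (Fin m) F) 1 := h1
  exact Subtype.ext (bd_inj h2).1

theorem range_iotaC_normal (hF : Odd (Fintype.card F)) :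
    (iotaC (F := F) (m := m)).range.Normal := by
  constructor
  rintro _ ⟨A, rfl⟩ c
  -- block forms
  have hc := block_of_comm hF _ ((mem_Ct_iff (c : GLn)).mp c.2)
  have hc' := block_of_comm hF _ ((mem_Ct_iff ((c⁻¹ : ↥(Subgroup.centralizer
    ({(tInv : GLn)} : Set GLn))) : GLn)).mp (c⁻¹).2)
  set B := (Matrix.of fun i j => ((c : GLn) : Matrix (Fin (m + 1)) (Fin (m + 1)) F)
    (Fin.succ i) (Fin.succ j)) with hB
  set b := ((c : GLn) : Matrix (Fin (m + 1)) (Fin (m + 1)) F) 0 0 with hb
  set B' := (Matrix.of fun i j => (((c⁻¹ : ↥(Subgroup.centralizer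
    ({(tInv : GLn)} : Set GLn))) : GLn) : Matrix (Fin (m + 1)) (Fin (m + 1)) F)
    (Fin.succ i) (Fin.succ j)) with hB'
  set b' := (((c⁻¹ : ↥(Subgroup.centralizer
    ({(tInv : GLn)} : Set GLn))) : GLn) : Matrix (Fin (m + 1)) (Fin (m + 1)) F) 0 0 with hb'
  have hmul : ((c : GLn) : Matrix (Fin (m + 1)) (Fin (m + 1)) F)
      * (((c⁻¹ : ↥(Subgroup.centralizer ({(tInv : GLn)} : Set GLn))) : GLn) :
        Matrix (Fin (m + 1)) (Fin (m + 1)) F) = 1 := by
    rw [← Units.val_mul, ← Subgroup.coe_mul, mul_inv_cancel]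
    rfl
  rw [hc, hc', bd_mul, ← bd_one] at hmul
  obtain ⟨hBB, hbb⟩ := bd_inj hmul
  have hdet : (B * (A : Matrix (Fin m) (Fin m) F) * B').det = 1 := by
    rw [Matrix.det_mul, Matrix.det_mul, mul_right_comm, ← Matrix.det_mul, hBB, Matrix.det_one,
      one_mul, A.2]
  refine ⟨⟨B * (A : Matrix (Fin m) (Fin m) F) * B', hdet⟩, ?_⟩
  apply Subtype.ext
  apply Units.ext
  show bd (B * (A : Matrix (Fin m) (Fin m) F) * B') 1
    = ((c : GLn) : Matrix (Fin (m + 1)) (Fin (m + 1)) F) * bd (A : Matrix (Fin m) (Fin m) F) 1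
      * (((c⁻¹ : ↥(Subgroup.centralizer ({(tInv : GLn)} : Set GLn))) : GLn) :
        Matrix (Fin (m + 1)) (Fin (m + 1)) F)
  rw [hc, hc', bd_mul, bd_mul, mul_one, hbb]

theorem exists_sq_ne_one (hcard : 4 ≤ Fintype.card F) : ∃ a : F, a ≠ 0 ∧ a ^ 2 ≠ 1 := by
  classical
  have h1 : ({0, 1, -1} : Finset F).card < (Finset.univ : Finset F).card := by
    rw [Finset.card_univ]
    calc ({0, 1, -1} : Finset F).card ≤ 3 := Finset.card_le_three
      _ < Fintype.card F := by omega
  obtain ⟨a, -, ha⟩ := Finset.exists_mem_notMem_of_card_lt_card h1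
  simp only [Finset.mem_insert, Finset.mem_singleton, not_or] at ha
  refine ⟨a, ha.1, fun h => ?_⟩
  have h2 : (a - 1) * (a + 1) = 0 := by linear_combination h
  rcases mul_eq_zero.mp h2 with h3 | h3
  · exact ha.2.1 (sub_eq_zero.mp h3)
  · exact ha.2.2 (eq_neg_of_add_eq_zero_left h3)

theorem sl_quasisimple (hF : Odd (Fintype.card F)) (hm : 2 ≤ m)
    (h : ¬ (m = 2 ∧ Fintype.card F = 3)) : Cfsg.IsQuasisimple SLm := by
  by_cases h3 : 3 ≤ m
  · refine ⟨⟨Cfsg.Agent.helper2.SL_commutator_eq_top (by simpa using h3)⟩, ?_⟩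
    exact Cfsg.Agent.S0249.result m h3
  · have hm2 : m = 2 := by omega
    subst hm2
    have h1 : 1 < Fintype.card F := Fintype.one_lt_card
    have hcard : 4 ≤ Fintype.card F := by
      rcases hF with ⟨k, hk⟩
      have : Fintype.card F ≠ 3 := fun h' => h ⟨rfl, h'⟩
      omega
    obtain ⟨a, ha, hasq⟩ := exists_sq_ne_one hcard
    exact ⟨⟨Matrix.SL2.commutator_eq_top ha hasq⟩,
      Matrix.ProjectiveSpecialLinearGroup.rank_two_simple' ⟨a, ha, hasq⟩⟩

/-- an involution of `SL_m`, `m ≥ 2`. -/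
theorem exists_involution_sl (hF : Odd (Fintype.card F)) (hm : 2 ≤ m) :
    ∃ J : SLm, J ^ 2 = 1 ∧ J ≠ 1 := by
  classical
  have h2 := two_ne_zero_of_odd hF
  set i0 : Fin m := ⟨0, by omega⟩ with hi0
  set i1 : Fin m := ⟨1, by omega⟩ with hi1
  have h01 : i0 ≠ i1 := by
    intro h; have := congrArg Fin.val h; simp [hi0, hi1] at this
  set d : Fin m → F := fun i => if i = i0 ∨ i = i1 then -1 else 1 with hd
  have hdet : (Matrix.diagonal d).det = 1 := by
    rw [Matrix.det_diagonal, Finset.prod_ite, Finset.prod_const_one, mul_one, Finset.prod_const]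
    have : (Finset.univ.filter fun i : Fin m => i = i0 ∨ i = i1) = {i0, i1} := by
      ext i; simp
    rw [this, Finset.card_pair h01]
    ring
  obtain ⟨J, hJ⟩ : ∃ J : SLm, (J : Matrix (Fin m) (Fin m) F) = Matrix.diagonal d :=
    ⟨⟨_, hdet⟩, rfl⟩
  refine ⟨J, ?_, ?_⟩
  · apply Subtype.ext
    rw [pow_two, Matrix.SpecialLinearGroup.coe_mul, Matrix.SpecialLinearGroup.coe_one, hJ,
      Matrix.diagonal_mul_diagonal, ← Matrix.diagonal_one]
    congr 1
    funext i
    simp only [hd]
    split_ifs <;> simp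
  · intro h
    have h3 := congrArg (fun x : SLm => (x : Matrix (Fin m) (Fin m) F) i0 i0) h
    simp only [Matrix.SpecialLinearGroup.coe_one, Matrix.one_apply_eq, hJ] at h3
    rw [Matrix.diagonal_apply_eq] at h3
    simp only [hd, true_or, if_true] at h3
    apply h2
    linear_combination -h3

end

/-- Let F be a finite field of odd order and n ≥ 3 with (n, |F|) ≠ (3, 3). Then GL(n, F) has a non-central involution t such that C(t) / O(C(t)) has a component. -/
theorem result {F : Type*} [Field F] [Fintype F] [DecidableEq F] (hF : Odd (Fintype.card F)) (n : ℕ) (hn : 3 ≤ n) (h33 : ¬ (n = 3 ∧ Fintype.card F = 3)) : ∃ t : Matrix.GeneralLinearGroup (Fin n) F, orderOf t = 2 ∧ t ∉ Subgroup.center (Matrix.GeneralLinearGroup (Fin n) F) ∧ Cfsg.HasComponent (↥(Subgroup.centralizer ({t} : Set (Matrix.GeneralLinearGroup (Fin n) F))) ⧸ Cfsg.oddCore ↥(Subgroup.centralizer ({t} : Set (Matrix.GeneralLinearGroup (Fin n) F)))) := by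
  classical
  obtain ⟨m, rfl⟩ : ∃ m, n = m + 1 := ⟨n - 1, by omega⟩
  have hm : 2 ≤ m := by omega
  have hq : ¬ (m = 2 ∧ Fintype.card F = 3) := fun h => h33 ⟨by omega, h.2⟩
  have h2 := two_ne_zero_of_odd hF
  refine ⟨tInv, ?_, ?_, ?_⟩
  · -- order two
    apply orderOf_eq_prime
    · apply Units.ext
      rw [Units.val_pow_eq_pow_val, tInv_coe, pow_two, bd_mul]
      simp [bd_one]
    · intro h
      have h3 := congrArg (fun x : Matrix.GeneralLinearGroup (Fin (m + 1)) F =>
        (x : Matrix (Fin (m + 1)) (Fin (m + 1)) F) 0 0) h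
      simp only [tInv_coe, bd_zero_zero, Units.val_one, Matrix.one_apply_eq] at h3
      apply h2
      linear_combination -h3
  · -- non-central
    intro hcen
    set j0 : Fin (m + 1) := Fin.succ (⟨0, by omega⟩ : Fin m) with hj0
    have hj : (0 : Fin (m + 1)) ≠ j0 := (Fin.succ_ne_zero _).symm
    set N : Matrix.GeneralLinearGroup (Fin (m + 1)) F :=
      Matrix.GeneralLinearGroup.mkOfDetNeZero (Matrix.transvection 0 j0 (1 : F))
        (by rw [Matrix.det_transvection_of_ne _ _ hj]; exact one_ne_zero) with hN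
    have hNC : N ∈ Subgroup.centralizer ({(tInv : Matrix.GeneralLinearGroup (Fin (m + 1)) F)} :
        Set (Matrix.GeneralLinearGroup (Fin (m + 1)) F)) := by
      rw [Subgroup.mem_centralizer_singleton_iff]
      rw [Subgroup.mem_center_iff] at hcen
      first | exact hcen N | exact (hcen N).symm
    have hblk := block_of_comm hF _ ((mem_Ct_iff N).mp hNC)
    have h3 := congrFun (congrFun hblk 0) j0
    rw [hj0, bd_zero_succ] at h3
    have h4 : (N : Matrix (Fin (m + 1)) (Fin (m + 1)) F) 0 j0 = 1 := by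
      show Matrix.transvection 0 j0 (1 : F) 0 j0 = 1
      rw [Matrix.transvection, Matrix.add_apply, Matrix.one_apply_ne hj, Matrix.single_apply_same,
        zero_add]
    rw [← hj0, h4] at h3
    exact one_ne_zero h3
  · -- component
    set C := Subgroup.centralizer ({(tInv : Matrix.GeneralLinearGroup (Fin (m + 1)) F)} :
        Set (Matrix.GeneralLinearGroup (Fin (m + 1)) F)) with hC
    haveI hOn : (Cfsg.oddCore ↥C).Normal := Cfsg.Agent.helper1.pPrimeCore_normal 2
    set f : Matrix.SpecialLinearGroup (Fin m) F →* ↥C ⧸ Cfsg.oddCore ↥C :=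
      (QuotientGroup.mk' (Cfsg.oddCore ↥C)).comp iotaC with hf
    have hrange : f.range = (iotaC (F := F) (m := m)).range.map (QuotientGroup.mk' (Cfsg.oddCore ↥C)) := by
      rw [hf, MonoidHom.map_range]
    have hnorm : f.range.Normal := by
      rw [hrange]
      exact (range_iotaC_normal hF).map _ (QuotientGroup.mk'_surjective _)
    refine ⟨f.range, hnorm.isSubnormal, ?_⟩
    apply Cfsg.Agent.helper7.qs_of_surjective f.rangeRestrict f.rangeRestrict_surjective
      (sl_quasisimple hF hm hq)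
    -- nontrivial
    obtain ⟨J, hJ2, hJ1⟩ := exists_involution_sl (F := F) hF hm
    refine ⟨⟨f.rangeRestrict J, 1, ?_⟩⟩
    intro h
    have h3 : f J = 1 := by
      have := congrArg Subtype.val h
      simpa using this
    have h4 : iotaC J ∈ Cfsg.oddCore ↥C := by
      rw [hf, MonoidHom.comp_apply, QuotientGroup.mk'_apply, QuotientGroup.eq_one_iff] at h3
      exact h3
    have hcop : (Nat.card ↥(Cfsg.oddCore ↥C)).Coprime 2 := Cfsg.Agent.helper1.pPrimeCore_coprime 2
    have hx2 : (⟨iotaC J, h4⟩ : ↥(Cfsg.oddCore ↥C)) ^ 2 = 1 := by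
      apply Subtype.ext
      show (iotaC J) ^ 2 = 1
      rw [← map_pow, hJ2, map_one]
    have hx1 : (⟨iotaC J, h4⟩ : ↥(Cfsg.oddCore ↥C)) ≠ 1 := by
      intro h5
      have h6 : iotaC J = 1 := congrArg Subtype.val h5
      rw [← map_one (iotaC (F := F) (m := m))] at h6
      exact hJ1 (iotaC_injective h6)
    have hord := orderOf_eq_prime hx2 hx1
    have hdvd : 2 ∣ Nat.card ↥(Cfsg.oddCore ↥C) := by
      rw [← hord]
      exact orderOf_dvd_natCard _
    have := Nat.Coprime.eq_one_of_dvd hcop.symm hdvd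
    omega

end Cfsg.Agent.S1340

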