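import Cfsg.Statements.S1219
import Cfsg.Agent.S1340

set_option autoImplicit false
open scoped MatrixGroups
open Cfsg

namespace Cfsg.Agent.S1219

open Matrix Cfsg.Agent.helper25.BlkDiag

section
variable {F : Type*} [Field F]

theorem bd_neg {m : ℕ} (A : Matrix (Fin m) (Fin m) F) (a : F) : -(bd A a) = bd (-A) (-a) := by
  refine (eq_bd_of (-(bd A a)) (by intro j; simp [bd_zero_succ])
    (by intro i; simp [bd_succ_zero])).trans ?_
  congr 1 <;> first | (ext i j; simp [bd_succ_succ]) | simp [bd_zero_zero]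

theorem scalar_eq_bd {m : ℕ} (r : F) :
    (Matrix.scalar (Fin (m + 1)) r : Matrix (Fin (m + 1)) (Fin (m + 1)) F)
      = bd (Matrix.scalar (Fin m) r) r := by
  refine (eq_bd_of (Matrix.scalar (Fin (m + 1)) r)
    (by intro j; simp [Matrix.scalar_apply, Matrix.diagonal_apply, (Fin.succ_ne_zero j).symm])
    (by intro i; simp [Matrix.scalar_apply, Matrix.diagonal_apply, Fin.succ_ne_zero i])).trans ?_
  congr 1 <;> first | (ext i j; simp [Matrix.scalar_apply, Matrix.diagonal_apply]) | simp [Matrix.scalar_apply]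

/-- the diagonal form of `bd (-1) 1`. -/
theorem bd_neg_one_apply (i j : Fin 3) :
    bd (-1 : Matrix (Fin 2) (Fin 2) F) 1 i j
      = if i = j then (if j = 0 then (1 : F) else -1) else 0 := by
  refine Fin.cases ?_ (fun i' => ?_) i <;> refine Fin.cases ?_ (fun j' => ?_) j
  · rw [bd_zero_zero]; simp
  · rw [bd_zero_succ]; simp [(Fin.succ_ne_zero j').symm]
  · rw [bd_succ_zero]; simp [Fin.succ_ne_zero i']
  · rw [bd_succ_succ]; simp [Matrix.one_apply, Fin.succ_ne_zero j']; split_ifs <;> simp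

/-- normal form of a non-trivial involution of determinant one in dimension three. -/
theorem involution_normal_form (h2 : (2 : F) ≠ 0) (s : Matrix (Fin 3) (Fin 3) F)
    (hs : s * s = 1) (hdet : s.det = 1) (hne : s ≠ 1) :
    ∃ P Q : Matrix (Fin 3) (Fin 3) F, P * Q = 1 ∧
      s * P = P * bd (-1 : Matrix (Fin 2) (Fin 2) F) 1 := by
  classical
  set f : (Fin 3 → F) →ₗ[F] (Fin 3 → F) := Matrix.toLin' s with hf
  have hff : ∀ v, f (f v) = v := by
    intro v
    rw [hf, ← LinearMap.comp_apply, ← Matrix.toLin'_mul, hs, Matrix.toLin'_one]; rfl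
  set Vp : Submodule F (Fin 3 → F) := LinearMap.ker (f - LinearMap.id) with hVp
  set Vm : Submodule F (Fin 3 → F) := LinearMap.ker (f + LinearMap.id) with hVm
  have memp : ∀ v, v ∈ Vp ↔ f v = v := by
    intro v
    rw [hVp, LinearMap.mem_ker, LinearMap.sub_apply, LinearMap.id_apply, sub_eq_zero]
  have memm : ∀ v, v ∈ Vm ↔ f v = -v := by
    intro v
    rw [hVm, LinearMap.mem_ker, LinearMap.add_apply, LinearMap.id_apply,
      add_eq_zero_iff_eq_neg]
  have hcompl : IsCompl Vm Vp := by
    constructor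
    · rw [Submodule.disjoint_def]
      intro v hm hp
      rw [memm] at hm; rw [memp] at hp
      have h3 : (2 : F) • v = 0 := by
        rw [two_smul]
        have : v = -v := by rw [← hm]; exact hp.symm
        nth_rewrite 1 [this]
        simp
      exact (smul_eq_zero.mp h3).resolve_left h2
    · rw [codisjoint_iff, eq_top_iff]
      intro v _
      rw [Submodule.mem_sup]
      refine ⟨(2 : F)⁻¹ • (v - f v), ?_, (2 : F)⁻¹ • (v + f v), ?_, ?_⟩
      · rw [memm, map_smul, map_sub, hff, ← smul_neg]; congr 1; abel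
      · rw [memp, map_smul, map_add, hff]; congr 1; abel
      · rw [← smul_add]
        have : v - f v + (v + f v) = (2 : F) • v := by rw [two_smul]; abel
        rw [this, smul_smul, inv_mul_cancel₀ h2, one_smul]
  have hsum : Module.finrank F Vm + Module.finrank F Vp = 3 := by
    have := Submodule.finrank_add_eq_of_isCompl hcompl
    simpa using this
  have hdetf : (-1 : F) ^ (Module.finrank F Vm) = 1 := by
    let bm := Module.finBasis F Vm
    let bp := Module.finBasis F Vp
    let b : Module.Basis (Fin (Module.finrank F Vm) ⊕ Fin (Module.finrank F Vp)) F (Fin 3 → F) :=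
      (bm.prod bp).map (Submodule.prodEquivOfIsCompl Vm Vp hcompl)
    have hbl : ∀ i, b (Sum.inl i) = (bm i : Fin 3 → F) := by
      intro i; simp [b]
    have hbr : ∀ j, b (Sum.inr j) = (bp j : Fin 3 → F) := by
      intro j; simp [b]
    have hmat : LinearMap.toMatrix b b f
        = Matrix.diagonal (Sum.elim (fun _ => (-1 : F)) (fun _ => 1)) := by
      ext x y
      rw [LinearMap.toMatrix_apply, Matrix.diagonal_apply]
      rcases y with j | j
      · have : f (b (Sum.inl j)) = -(b (Sum.inl j)) := by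
          rw [hbl]; exact (memm _).mp (bm j).2
        rw [this, map_neg, Module.Basis.repr_self, Finsupp.neg_apply, Finsupp.single_apply]
        by_cases hxy : x = Sum.inl j
        · subst hxy; simp
        · rw [if_neg hxy, if_neg (Ne.symm hxy)]; simp
      · have : f (b (Sum.inr j)) = b (Sum.inr j) := by
          rw [hbr]; exact (memp _).mp (bp j).2
        rw [this, Module.Basis.repr_self, Finsupp.single_apply]
        by_cases hxy : x = Sum.inr j
        · subst hxy; simp
        · rw [if_neg hxy, if_neg (Ne.symm hxy)]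
    have h1 : LinearMap.det f = 1 := by rw [hf, LinearMap.det_toLin']; exact hdet
    have h3 := LinearMap.det_toMatrix b f
    rw [hmat, Matrix.det_diagonal, Fintype.prod_sum_type, h1] at h3
    simpa using h3
  have hdm : Module.finrank F Vm = 2 := by
    have hle : Module.finrank F Vm ≤ 3 := by omega
    have hodd : ¬ Odd (Module.finrank F Vm) := by
      intro ho
      rw [ho.neg_one_pow] at hdetf
      apply h2
      have : (2 : F) = 1 - (-1) := by ring
      rw [this, hdetf]; ring
    have h0 : Module.finrank F Vm ≠ 0 := by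
      intro h0
      have hbot : Vm = ⊥ := Submodule.finrank_eq_zero.mp h0
      have htop : Vp = ⊤ := by
        have := hcompl.sup_eq_top
        rwa [hbot, bot_sup_eq] at this
      apply hne
      apply Matrix.toLin'.injective
      rw [Matrix.toLin'_one]
      apply LinearMap.ext
      intro v
      have : v ∈ Vp := by rw [htop]; trivial
      exact (memp v).mp this
    interval_cases h : Module.finrank F Vm
    · exact absurd rfl h0
    · exact absurd (by decide) hodd
    · rfl
    · exact absurd (by decide) hodd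
  have hdp : Module.finrank F Vp = 1 := by omega
  let bm : Module.Basis (Fin 2) F Vm := Module.finBasisOfFinrankEq F Vm hdm
  let bp : Module.Basis Unit F Vp := (Module.finBasisOfFinrankEq F Vp hdp).reindex finOneEquiv
  let b : Module.Basis (Fin 3) F (Fin 3 → F) :=
    ((bm.prod bp).map (Submodule.prodEquivOfIsCompl Vm Vp hcompl)).reindex (eB 2)
  have hb0 : b 0 = (bp () : Fin 3 → F) := by
    rw [← eB_inr 2 ()]; simp [b]
  have hbs : ∀ j : Fin 2, b j.succ = (bm j : Fin 3 → F) := by
    intro j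
    rw [← eB_inl 2 j]; simp [b]
  have hfb : ∀ j : Fin 3, f (b j) = (if j = 0 then (1 : F) else -1) • b j := by
    intro j
    refine Fin.cases ?_ (fun j' => ?_) j
    · rw [if_pos rfl, one_smul, hb0]; exact (memp _).mp (bp ()).2
    · rw [if_neg (Fin.succ_ne_zero j'), neg_one_smul, hbs]; exact (memm _).mp (bm j').2
  have hM : LinearMap.toMatrix b b f = bd (-1 : Matrix (Fin 2) (Fin 2) F) 1 := by
    ext i j
    rw [LinearMap.toMatrix_apply, hfb, map_smul, Module.Basis.repr_self, Finsupp.smul_apply,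
      Finsupp.single_apply, bd_neg_one_apply]
    by_cases hij : i = j
    · subst hij; simp
    · rw [if_neg hij, if_neg (Ne.symm hij)]; simp
  refine ⟨(Pi.basisFun F (Fin 3)).toMatrix b, b.toMatrix (Pi.basisFun F (Fin 3)),
    Module.Basis.toMatrix_mul_toMatrix_flip _ _, ?_⟩
  have hconj := basis_toMatrix_mul_linearMap_toMatrix_mul_basis_toMatrix
    (Pi.basisFun F (Fin 3)) b (Pi.basisFun F (Fin 3)) b f
  rw [hM, LinearMap.toMatrix_eq_toMatrix', hf, LinearMap.toMatrix'_toLin'] at hconj
  rw [← hconj, Matrix.mul_assoc, Module.Basis.toMatrix_mul_toMatrix_flip, Matrix.mul_one]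

end

section
variable {F : Type*} [Field F]

local notation "SL3" => Matrix.SpecialLinearGroup (Fin 3) F
local notation "PSL3" => Matrix.ProjectiveSpecialLinearGroup (Fin 3) F
local notation "GL2" => Matrix.GeneralLinearGroup (Fin 2) F

/-- the standard involution `diag(1,-1,-1)`. -/
def D3 : SL3 := ⟨bd (-1 : Matrix (Fin 2) (Fin 2) F) 1, by
  rw [det_bd, Matrix.det_neg]; simp⟩

theorem D3_coe :
    ((D3 : SL3) : Matrix (Fin 3) (Fin 3) F) = bd (-1 : Matrix (Fin 2) (Fin 2) F) 1 := rfl

theorem D3_mul_self : (D3 : SL3) * D3 = 1 := by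
  apply Subtype.ext
  rw [Matrix.SpecialLinearGroup.coe_mul, D3_coe, bd_mul]
  simp [bd_one]

theorem sl3_involution_conj (h2 : (2 : F) ≠ 0) (s : SL3) (hs : s * s = 1) (hne : s ≠ 1) :
    ∃ P : SL3, s = P * D3 * P⁻¹ := by
  obtain ⟨P, Q, hPQ, hsP⟩ := involution_normal_form h2 (s : Matrix (Fin 3) (Fin 3) F)
    (by rw [← Matrix.SpecialLinearGroup.coe_mul, hs, Matrix.SpecialLinearGroup.coe_one]) s.2
    (by intro h; exact hne (Subtype.ext (by rw [h, Matrix.SpecialLinearGroup.coe_one])))
  have hdetP : P.det ≠ 0 := by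
    intro h0
    have := congrArg Matrix.det hPQ
    rw [Matrix.det_mul, h0, zero_mul, Matrix.det_one] at this
    exact zero_ne_one this
  have hdetP' : (P * bd (1 : Matrix (Fin 2) (Fin 2) F) (P.det)⁻¹).det = 1 := by
    rw [Matrix.det_mul, det_bd, Matrix.det_one, one_mul, mul_inv_cancel₀ hdetP]
  have hsP' : (s : Matrix (Fin 3) (Fin 3) F) * (P * bd (1 : Matrix (Fin 2) (Fin 2) F) (P.det)⁻¹)
      = (P * bd (1 : Matrix (Fin 2) (Fin 2) F) (P.det)⁻¹)
        * bd (-1 : Matrix (Fin 2) (Fin 2) F) 1 := by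
    rw [← Matrix.mul_assoc, hsP, Matrix.mul_assoc, Matrix.mul_assoc, bd_mul, bd_mul]
    simp
  obtain ⟨J, hJ⟩ : ∃ J : SL3, (J : Matrix (Fin 3) (Fin 3) F)
      = P * bd (1 : Matrix (Fin 2) (Fin 2) F) (P.det)⁻¹ := ⟨⟨_, hdetP'⟩, rfl⟩
  refine ⟨J, ?_⟩
  rw [eq_mul_inv_iff_mul_eq]
  apply Subtype.ext
  rw [Matrix.SpecialLinearGroup.coe_mul, Matrix.SpecialLinearGroup.coe_mul, hJ]
  exact hsP'

theorem exists_lift_involution (t : PSL3) (ht : orderOf t = 2) :
    ∃ s : SL3, s * s = 1 ∧ s ≠ 1 ∧ (QuotientGroup.mk s : PSL3) = t := by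
  obtain ⟨s₀, rfl⟩ := QuotientGroup.mk_surjective t
  have ht2 : (QuotientGroup.mk s₀ : PSL3) ^ 2 = 1 := by rw [← ht]; exact pow_orderOf_eq_one _
  have hne : (QuotientGroup.mk s₀ : PSL3) ≠ 1 := by
    intro h; rw [h, orderOf_one] at ht; omega
  have hc : s₀ ^ 2 ∈ Subgroup.center SL3 := by
    rw [← QuotientGroup.eq_one_iff, QuotientGroup.mk_pow]; exact ht2
  obtain ⟨r, hr, hrs⟩ := Matrix.SpecialLinearGroup.mem_center_iff.mp hc
  have h6 : (s₀ ^ 2) ^ 3 = 1 := by
    apply Subtype.ext
    rw [Matrix.SpecialLinearGroup.coe_pow, ← hrs, ← map_pow]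
    rw [Fintype.card_fin] at hr
    rw [hr, map_one, Matrix.SpecialLinearGroup.coe_one]
  refine ⟨s₀ ^ 3, ?_, ?_, ?_⟩
  · rw [← pow_two, ← pow_mul, mul_comm, pow_mul]; exact h6
  · intro h
    apply hne
    have h3 : (QuotientGroup.mk s₀ : PSL3) ^ 3 = 1 := by
      rw [← QuotientGroup.mk_pow, h]; rfl
    calc (QuotientGroup.mk s₀ : PSL3)
        = (QuotientGroup.mk s₀ : PSL3) ^ 3 * ((QuotientGroup.mk s₀ : PSL3) ^ 2)⁻¹ := by group
      _ = 1 := by rw [h3, ht2]; simp
  · rw [QuotientGroup.mk_pow]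
    calc (QuotientGroup.mk s₀ : PSL3) ^ 3
        = (QuotientGroup.mk s₀ : PSL3) ^ 2 * (QuotientGroup.mk s₀ : PSL3) := pow_succ _ 2
      _ = _ := by rw [ht2, one_mul]

theorem gl_det_ne_zero (B : GL2) : (B : Matrix (Fin 2) (Fin 2) F).det ≠ 0 :=
  ((Matrix.isUnit_iff_isUnit_det _).mp B.isUnit).ne_zero

/-- the block embedding `B ↦ diag(det B⁻¹, B)`. -/
def psi0 : GL2 →* SL3 where
  toFun B := ⟨bd (B : Matrix (Fin 2) (Fin 2) F) ((B : Matrix (Fin 2) (Fin 2) F).det)⁻¹, by
    rw [det_bd]; exact mul_inv_cancel₀ (gl_det_ne_zero B)⟩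
  map_one' := by
    apply Subtype.ext
    show bd ((1 : GL2) : Matrix (Fin 2) (Fin 2) F)
      (((1 : GL2) : Matrix (Fin 2) (Fin 2) F).det)⁻¹ = 1
    rw [Units.val_one, Matrix.det_one, inv_one, bd_one]
  map_mul' A B := by
    apply Subtype.ext
    show bd ((A * B : GL2) : Matrix (Fin 2) (Fin 2) F)
        (((A * B : GL2) : Matrix (Fin 2) (Fin 2) F).det)⁻¹
      = bd (A : Matrix (Fin 2) (Fin 2) F) ((A : Matrix (Fin 2) (Fin 2) F).det)⁻¹
        * bd (B : Matrix (Fin 2) (Fin 2) F) ((B : Matrix (Fin 2) (Fin 2) F).det)⁻¹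
    rw [bd_mul, Units.val_mul, Matrix.det_mul, mul_inv]

theorem psi0_coe (B : GL2) : ((psi0 B : SL3) : Matrix (Fin 3) (Fin 3) F)
    = bd (B : Matrix (Fin 2) (Fin 2) F) ((B : Matrix (Fin 2) (Fin 2) F).det)⁻¹ := rfl

/-- the induced map to `PSL₃`. -/
def psi : GL2 →* PSL3 := (QuotientGroup.mk' (Subgroup.center SL3)).comp psi0

theorem psi_apply (B : GL2) : psi B = (QuotientGroup.mk (psi0 B) : PSL3) := rfl

theorem psi_range [Fintype F] (hF : Odd (Fintype.card F)) :
    (psi (F := F)).range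
      = Subgroup.centralizer ({(QuotientGroup.mk D3 : PSL3)} : Set PSL3) := by
  classical
  ext x
  constructor
  · rintro ⟨B, rfl⟩
    rw [Subgroup.mem_centralizer_singleton_iff, psi_apply, ← QuotientGroup.mk_mul,
      ← QuotientGroup.mk_mul]
    congr 1
    apply Subtype.ext
    rw [Matrix.SpecialLinearGroup.coe_mul, Matrix.SpecialLinearGroup.coe_mul, D3_coe, psi0_coe,
      bd_mul, bd_mul]
    simp
  · intro hx
    obtain ⟨g, rfl⟩ := QuotientGroup.mk_surjective x
    rw [Subgroup.mem_centralizer_singleton_iff, ← QuotientGroup.mk_mul, ← QuotientGroup.mk_mul,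
      QuotientGroup.eq] at hx
    set z : SL3 := (g * D3)⁻¹ * (D3 * g) with hz
    have hzc : ∀ h : SL3, h * z = z * h := fun h => Subgroup.mem_center_iff.mp hx h
    have e1 : D3 * g = g * D3 * z := by rw [hz]; group
    have e2 : g⁻¹ * D3 * g = D3 * z := by
      calc g⁻¹ * D3 * g = g⁻¹ * (D3 * g) := by group
        _ = g⁻¹ * (g * D3 * z) := by rw [e1]
        _ = D3 * z := by group
    have hzz : z * z = 1 := by
      calc z * z = (D3 * D3) * (z * z) := by rw [D3_mul_self, one_mul]
        _ = D3 * (D3 * z) * z := by group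
        _ = D3 * (z * D3) * z := by rw [hzc D3]
        _ = (D3 * z) * (D3 * z) := by group
        _ = (g⁻¹ * D3 * g) * (g⁻¹ * D3 * g) := by rw [e2]
        _ = g⁻¹ * (D3 * D3) * g := by group
        _ = 1 := by rw [D3_mul_self]; group
    obtain ⟨r, hr, hrs⟩ := Matrix.SpecialLinearGroup.mem_center_iff.mp hx
    have hz3 : z ^ 3 = 1 := by
      apply Subtype.ext
      rw [Matrix.SpecialLinearGroup.coe_pow, ← hrs, ← map_pow]
      rw [Fintype.card_fin] at hr
      rw [hr, map_one, Matrix.SpecialLinearGroup.coe_one]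
    have hz1 : z = 1 := by
      have h3 : z ^ 3 = z * z * z := by rw [pow_succ, pow_two]
      rw [h3, hzz, one_mul] at hz3
      exact hz3
    have hcomm : D3 * g = g * D3 := by rw [e1, hz1, mul_one]
    have hm : (g : Matrix (Fin 3) (Fin 3) F) * bd (1 : Matrix (Fin 2) (Fin 2) F) (-1)
        = bd (1 : Matrix (Fin 2) (Fin 2) F) (-1) * (g : Matrix (Fin 3) (Fin 3) F) := by
      have h3 := congrArg (fun y : SL3 => (y : Matrix (Fin 3) (Fin 3) F)) hcomm
      simp only [Matrix.SpecialLinearGroup.coe_mul, D3_coe] at h3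
      have hneg : bd (-1 : Matrix (Fin 2) (Fin 2) F) 1
          = -(bd (1 : Matrix (Fin 2) (Fin 2) F) (-1)) := by
        rw [bd_neg, neg_neg]
      rw [hneg, Matrix.neg_mul, Matrix.mul_neg, neg_inj] at h3
      exact h3.symm
    have hblock := S1340.block_of_comm hF _ hm
    have hdet : (Matrix.of fun i j : Fin 2 =>
        (g : Matrix (Fin 3) (Fin 3) F) (Fin.succ i) (Fin.succ j)).det
          * (g : Matrix (Fin 3) (Fin 3) F) 0 0 = 1 := by
      rw [← det_bd, ← hblock]; exact g.2
    refine ⟨Matrix.GeneralLinearGroup.mkOfDetNeZero _ (left_ne_zero_of_mul_eq_one hdet), ?_⟩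
    rw [psi_apply]
    congr 1
    apply Subtype.ext
    rw [psi0_coe]
    refine Eq.trans ?_ hblock.symm
    congr 1
    exact (eq_inv_of_mul_eq_one_right hdet).symm

/-- scalar matrices. -/
def scalarHom : Fˣ →* GL2 := Units.map (Matrix.scalar (Fin 2)).toMonoidHom

theorem scalarHom_coe (u : Fˣ) :
    ((scalarHom u : GL2) : Matrix (Fin 2) (Fin 2) F) = Matrix.scalar (Fin 2) (u : F) := rfl

theorem scalarHom_injective : Function.Injective (scalarHom (F := F)) := by
  intro u v h
  have := congrArg (fun x : GL2 => (x : Matrix (Fin 2) (Fin 2) F)) h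
  simp only [scalarHom_coe] at this
  exact Units.ext (Matrix.scalar_inj.mp this)

theorem psi_ker :
    (psi (F := F)).ker = (powMonoidHom 3 : Fˣ →* Fˣ).ker.map scalarHom := by
  ext B
  rw [MonoidHom.mem_ker, Subgroup.mem_map, psi_apply, QuotientGroup.eq_one_iff,
    Matrix.SpecialLinearGroup.mem_center_iff]
  constructor
  · rintro ⟨r, hr, hrs⟩
    rw [Fintype.card_fin] at hr
    rw [psi0_coe, scalar_eq_bd] at hrs
    obtain ⟨h1, -⟩ := bd_inj hrs
    have hr0 : r ≠ 0 := by rintro rfl; simp at hr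
    refine ⟨Units.mk0 r hr0, ?_, ?_⟩
    · rw [MonoidHom.mem_ker, powMonoidHom_apply]; apply Units.ext; simpa using hr
    · apply Units.ext; rw [scalarHom_coe]; exact h1
  · rintro ⟨u, hu, rfl⟩
    rw [MonoidHom.mem_ker, powMonoidHom_apply] at hu
    have hu' : (u : F) ^ 3 = 1 := by
      have := congrArg Units.val hu
      simpa using this
    refine ⟨(u : F), by rw [Fintype.card_fin]; exact hu', ?_⟩
    rw [psi0_coe, scalar_eq_bd, scalarHom_coe]
    congr 1
    have hd : (Matrix.scalar (Fin 2) (u : F) : Matrix (Fin 2) (Fin 2) F).det = (u : F) ^ 2 := by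
      simp [Matrix.scalar_apply]
    rw [hd]
    apply eq_inv_of_mul_eq_one_left
    rw [← hu']; ring

theorem ker_le_center : (psi (F := F)).ker ≤ Subgroup.center GL2 := by
  rw [psi_ker]
  rintro _ ⟨u, -, rfl⟩
  rw [Subgroup.mem_center_iff]
  intro B
  apply Units.ext
  rw [Units.val_mul, Units.val_mul, scalarHom_coe]
  exact ((Matrix.scalar_commute (u : F) (Commute.all _) (B : Matrix (Fin 2) (Fin 2) F)).eq).symm

theorem card_ker [Fintype F] :
    Nat.card (psi (F := F)).ker = Nat.gcd (Fintype.card F - 1) 3 := by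
  rw [psi_ker, Subgroup.card_map_of_injective scalarHom_injective,
    IsCyclic.card_powMonoidHom_ker, Nat.card_units, Nat.card_eq_fintype_card]

end

/-- centralizers of conjugate elements are isomorphic. -/
def centralizerConjEquiv {G : Type*} [Group G] (p d : G) :
    ↥(Subgroup.centralizer ({p * d * p⁻¹} : Set G)) ≃* ↥(Subgroup.centralizer ({d} : Set G)) where
  toFun x := ⟨p⁻¹ * x * p, by
    have h := Subgroup.mem_centralizer_singleton_iff.mp x.2
    rw [Subgroup.mem_centralizer_singleton_iff]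
    calc p⁻¹ * (x : G) * p * d = p⁻¹ * ((x : G) * (p * d * p⁻¹)) * p := by group
      _ = p⁻¹ * ((p * d * p⁻¹) * (x : G)) * p := by rw [h]
      _ = d * (p⁻¹ * (x : G) * p) := by group⟩
  invFun y := ⟨p * y * p⁻¹, by
    have h := Subgroup.mem_centralizer_singleton_iff.mp y.2
    rw [Subgroup.mem_centralizer_singleton_iff]
    calc p * (y : G) * p⁻¹ * (p * d * p⁻¹) = p * ((y : G) * d) * p⁻¹ := by group
      _ = p * (d * (y : G)) * p⁻¹ := by rw [h]
      _ = p * d * p⁻¹ * (p * (y : G) * p⁻¹) := by group⟩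
  left_inv x := Subtype.ext (by show p * (p⁻¹ * (x : G) * p) * p⁻¹ = x; group)
  right_inv y := Subtype.ext (by show p⁻¹ * (p * (y : G) * p⁻¹) * p = y; group)
  map_mul' x y := Subtype.ext (by
    show p⁻¹ * ((x : G) * (y : G)) * p = (p⁻¹ * (x : G) * p) * (p⁻¹ * (y : G) * p); group)

/-- Let F be a finite field of odd order q and t an involution of PSL(3,F). Then C(t) is isomorphic to the quotient of GL(2,F) by a central subgroup of order gcd(q−1, 3). -/
theorem result {F : Type*} [Field F] [Fintype F] (hF : Odd (Fintype.card F)) (t : Matrix.ProjectiveSpecialLinearGroup (Fin 3) F) (ht : orderOf t = 2) : ∃ (Z : Subgroup (GL (Fin 2) F)) (_ : Z.Normal), Z ≤ Subgroup.center (GL (Fin 2) F) ∧ Nat.card Z = Nat.gcd (Fintype.card F - 1) 3 ∧ Nonempty (↥(Subgroup.centralizer ({t} : Set (Matrix.ProjectiveSpecialLinearGroup (Fin 3) F))) ≃* GL (Fin 2) F ⧸ Z) := by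
  classical
  have h2 := S1340.two_ne_zero_of_odd hF
  obtain ⟨s, hs, hsne, rfl⟩ := exists_lift_involution t ht
  obtain ⟨P, hP⟩ := sl3_involution_conj h2 s hs hsne
  refine ⟨psi.ker, inferInstance, ker_le_center, card_ker, ?_⟩
  have ht' : (QuotientGroup.mk s : Matrix.ProjectiveSpecialLinearGroup (Fin 3) F)
      = (QuotientGroup.mk P) * (QuotientGroup.mk D3) * (QuotientGroup.mk P)⁻¹ := by
    rw [hP]; rfl
  rw [ht']
  exact ⟨(centralizerConjEquiv _ _).trans ((MulEquiv.subgroupCongr (psi_range hF).symm).trans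
    (QuotientGroup.quotientKerEquivRange psi).symm)⟩

end Cfsg.Agent.S1219
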