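import Mathlib
import Cfsg.Statements.S1224
import Cfsg.Agent.Lib_helper6_SE
-- import your own Cfsg.Agent.* helpers here

set_option autoImplicit false
open Cfsg

namespace Cfsg.Agent.S1224

/-- Let H be a strongly embedded subgroup of the finite group G and x ≠ y two cosets in G/H. Then the number of involutions i of G with i • x = y equals the number of involutions lying in H. -/
theorem result {G : Type*} [Group G] [Finite G] (H : Subgroup G) (hH : Cfsg.IsStronglyEmbedded H) (x y : G ⧸ H) (hxy : x ≠ y) : Nat.card {i : G // orderOf i = 2 ∧ i • x = y} = Nat.card {t : G // orderOf t = 2 ∧ t ∈ H} := by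
  have hyp := helper6.SE.hyp_of_SE H hH
  obtain ⟨s₁, hs₁, hs₁y⟩ := helper6.SE.exists_invol_fix H hH y
  rw [helper6.UFP.card_swap hyp hxy hs₁ hs₁y]
  obtain ⟨g₀, rfl⟩ := QuotientGroup.mk_surjective x
  refine Nat.card_congr ⟨fun s => ⟨g₀⁻¹ * (s : G) * g₀, ?_, ?_⟩, fun t => ⟨g₀ * (t : G) * g₀⁻¹, ?_, ?_⟩,
    ?_, ?_⟩
  · rw [helper6.SE.orderOf_conj']; exact s.2.1
  · exact (helper6.SE.smul_mk_eq_iff H _ g₀).mp s.2.2
  · rw [helper6.SE.orderOf_conj]; exact t.2.1
  · rw [helper6.SE.smul_mk_eq_iff]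
    have e : g₀⁻¹ * (g₀ * (t : G) * g₀⁻¹) * g₀ = (t : G) := by group
    rw [e]; exact t.2.2
  · intro s
    apply Subtype.ext
    show g₀ * (g₀⁻¹ * (s : G) * g₀) * g₀⁻¹ = (s : G)
    group
  · intro t
    apply Subtype.ext
    show g₀⁻¹ * (g₀ * (t : G) * g₀⁻¹) * g₀ = (t : G)
    group

end Cfsg.Agent.S1224
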