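import Mathlib
import Cfsg.Statements.S1225
import Cfsg.Agent.Lib_helper6_SE
-- import your own Cfsg.Agent.* helpers here

set_option autoImplicit false
open Cfsg

namespace Cfsg.Agent.S1225

/-- Let H be a strongly embedded subgroup of the finite group G, u an involution outside H and D = H ∩ uHu⁻¹. Then any two involutions of H are conjugate by an element of D, and any two involutions of G are conjugate in G. -/
theorem result {G : Type*} [Group G] [Finite G] (H : Subgroup G) (hH : Cfsg.IsStronglyEmbedded H) (u : G) (hu : orderOf u = 2) (huH : u ∉ H) (s t : G) (hs : orderOf s = 2) (hsH : s ∈ H) (ht : orderOf t = 2) (htH : t ∈ H) : (∃ d ∈ (H ⊓ H.map (MulAut.conj u).toMonoidHom), d * s * d⁻¹ = t) ∧ ∀ a b : G, orderOf a = 2 → orderOf b = 2 → IsConj a b := by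
  have hyp := helper6.SE.hyp_of_SE H hH
  obtain ⟨hu1, hu2⟩ := helper6.UFP.orderOf_eq_two_iff.mp hu
  obtain ⟨hs1, hs2⟩ := helper6.UFP.orderOf_eq_two_iff.mp hs
  obtain ⟨ht1, ht2⟩ := helper6.UFP.orderOf_eq_two_iff.mp ht
  have hui : u⁻¹ = u := inv_eq_of_mul_eq_one_right hu2
  have hxy : (QuotientGroup.mk 1 : G ⧸ H) ≠ QuotientGroup.mk u := by
    intro h
    rw [QuotientGroup.eq] at h
    apply huH
    simpa using h
  have hux : u • (QuotientGroup.mk 1 : G ⧸ H) = QuotientGroup.mk u := by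
    rw [MulAction.Quotient.smul_mk, smul_eq_mul, mul_one]
  have huy : u • (QuotientGroup.mk u : G ⧸ H) = QuotientGroup.mk 1 := by
    rw [MulAction.Quotient.smul_mk, smul_eq_mul, hu2]
  refine ⟨?_, ?_⟩
  · have hs₁ := helper6.UFP.conj_invol (g := u) hs1 hs2
    rw [hui] at hs₁
    have hs₁y : (u * s * u) • (QuotientGroup.mk u : G ⧸ H) = QuotientGroup.mk u := by
      rw [mul_smul, mul_smul, huy, (helper6.SE.smul_mk_one_eq_iff H s).mpr hsH, hux]
    obtain ⟨u₀, hu₀2, -, hu₀s, hu₀x, hu₀y, -⟩ := helper6.UFP.exists_swap hyp hxy ht1 ht2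
      ((helper6.SE.smul_mk_one_eq_iff H t).mpr htH) hs₁.1 hs₁.2 hs₁y
    have hu₀i : u₀⁻¹ = u₀ := inv_eq_of_mul_eq_one_right hu₀2
    refine ⟨u₀ * u, Subgroup.mem_inf.mpr ⟨?_, ?_⟩, ?_⟩
    · rw [← helper6.SE.smul_mk_one_eq_iff H, mul_smul, hux, hu₀y]
    · rw [helper2.mem_conj_map, ← helper6.SE.smul_mk_eq_iff H, mul_smul, huy, hu₀x]
    · rw [← hu₀s, mul_inv_rev, hui, hu₀i]
      group
  · intro a b ha hb
    obtain ⟨ha1, ha2⟩ := helper6.UFP.orderOf_eq_two_iff.mp ha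
    obtain ⟨hb1, hb2⟩ := helper6.UFP.orderOf_eq_two_iff.mp hb
    have hX : ∀ c : G ⧸ H, ∃ e : G ⧸ H, e ≠ c := by
      intro c
      by_cases hc : c = QuotientGroup.mk 1
      · exact ⟨QuotientGroup.mk u, by rw [hc]; exact hxy.symm⟩
      · exact ⟨QuotientGroup.mk 1, fun h => hc h.symm⟩
    obtain ⟨g, hg⟩ := helper6.UFP.invol_conj hyp hX ha1 ha2 hb1 hb2
    exact isConj_iff.mpr ⟨g, hg⟩

end Cfsg.Agent.S1225
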