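import Mathlib
import Cfsg.Statements.S1228
import Cfsg.Agent.Lib_helper6_CIT3
-- import your own Cfsg.Agent.* helpers here

set_option autoImplicit false
open Cfsg

namespace Cfsg.Agent.S1228

/-- Let G be a finite group with a Sylow 2-subgroup T that is neither cyclic nor normal, such that the centralizer of every involution is an elementary abelian 2-group; put H = N_G(T), let u be an involution outside H and D = H ∩ uHu⁻¹. Then N_G(D) = D ⊔ ⟨u⟩, and a coset gH is fixed by every element of D exactly when gH = H or gH = uH. -/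
theorem result {G : Type*} [Group G] [Finite G] (T : Sylow 2 G) (hnc : ¬ IsCyclic (T : Subgroup G)) (hnn : ¬ (T : Subgroup G).Normal) (hC : ∀ t : G, orderOf t = 2 → IsMulCommutative (Subgroup.centralizer ({t} : Set G)) ∧ ∀ c ∈ Subgroup.centralizer ({t} : Set G), c ^ 2 = 1) (u : G) (hu : orderOf u = 2) (huH : u ∉ Subgroup.normalizer ((T : Subgroup G) : Set G)) : Subgroup.normalizer ((Subgroup.normalizer ((T : Subgroup G) : Set G) ⊓ (Subgroup.normalizer ((T : Subgroup G) : Set G)).map (MulAut.conj u).toMonoidHom : Subgroup G) : Set G) = (Subgroup.normalizer ((T : Subgroup G) : Set G) ⊓ (Subgroup.normalizer ((T : Subgroup G) : Set G)).map (MulAut.conj u).toMonoidHom) ⊔ Subgroup.zpowers u ∧ ∀ g : G, ((∀ d ∈ Subgroup.normalizer ((T : Subgroup G) : Set G) ⊓ (Subgroup.normalizer ((T : Subgroup G) : Set G)).map (MulAut.conj u).toMonoidHom, d • (QuotientGroup.mk g : G ⧸ Subgroup.normalizer ((T : Subgroup G) : Set G)) = QuotientGroup.mk g) ↔ (QuotientGroup.mk g : G ⧸ Subgroup.normalizer ((T : Subgroup G) : Set G)) = QuotientGroup.mk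 1 ∨ (QuotientGroup.mk g : G ⧸ Subgroup.normalizer ((T : Subgroup G) : Set G)) = QuotientGroup.mk u) := by
  have h : helper6.CIT.Setup T := ⟨hnc, hC⟩
  obtain ⟨hu1, hu2⟩ := helper6.UFP.orderOf_eq_two_iff.mp hu
  have hui : u⁻¹ = u := inv_eq_of_mul_eq_one_right hu2
  have huinv : ∀ d ∈ Subgroup.normalizer ((T : Subgroup G) : Set G) ⊓
      (Subgroup.normalizer ((T : Subgroup G) : Set G)).map (MulAut.conj u).toMonoidHom,
      u * d * u⁻¹ = d⁻¹ := fun d hd => helper6.CIT.D_inverted h hnn hu huH hd
  have huN := helper6.CIT.inverts_mem_normalizer hu2 huinv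
  have partb : ∀ g : G, ((∀ d ∈ Subgroup.normalizer ((T : Subgroup G) : Set G) ⊓
      (Subgroup.normalizer ((T : Subgroup G) : Set G)).map (MulAut.conj u).toMonoidHom,
      d • (QuotientGroup.mk g : G ⧸ Subgroup.normalizer ((T : Subgroup G) : Set G)) =
        QuotientGroup.mk g) ↔
      (QuotientGroup.mk g : G ⧸ Subgroup.normalizer ((T : Subgroup G) : Set G)) =
        QuotientGroup.mk 1 ∨
      (QuotientGroup.mk g : G ⧸ Subgroup.normalizer ((T : Subgroup G) : Set G)) =
        QuotientGroup.mk u) := by
    intro g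
    constructor
    · exact fun hfix => helper6.CIT.fix_D h hnn hu huH hfix
    · rintro (hg | hg) d hd
      · rw [hg]; exact ((helper6.CIT.mem_D_iff _ u d).mp hd).1
      · rw [hg]; exact ((helper6.CIT.mem_D_iff _ u d).mp hd).2
  refine ⟨?_, partb⟩
  apply le_antisymm
  · intro g hgN
    by_cases hgH : g ∈ Subgroup.normalizer ((T : Subgroup G) : Set G)
    · exact Subgroup.mem_sup_left (helper6.CIT.N_H_D h hnn hu huH hgH hgN)
    · have hfix : ∀ d ∈ Subgroup.normalizer ((T : Subgroup G) : Set G) ⊓
          (Subgroup.normalizer ((T : Subgroup G) : Set G)).map (MulAut.conj u).toMonoidHom,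
          d • (QuotientGroup.mk g : G ⧸ Subgroup.normalizer ((T : Subgroup G) : Set G)) =
            QuotientGroup.mk g := by
        intro d hd
        rw [helper6.SE.smul_mk_eq_iff]
        exact (Subgroup.mem_inf.mp ((Subgroup.mem_normalizer_iff''.mp hgN d).mp hd)).1
      rcases helper6.CIT.fix_D h hnn hu huH hfix with hg1 | hg2
      · exfalso
        exact (helper6.CIT.mk_one_ne_mk _ hgH) hg1.symm
      · have hugH : u * g ∈ Subgroup.normalizer ((T : Subgroup G) : Set G) := by
          rw [QuotientGroup.eq] at hg2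
          have e : u * g = (g⁻¹ * u)⁻¹ := by rw [mul_inv_rev, hui, inv_inv]
          rw [e]
          exact Subgroup.inv_mem _ hg2
        have hugN := Subgroup.mul_mem _ huN hgN
        have hugD := helper6.CIT.N_H_D h hnn hu huH hugH hugN
        have e : g = u * (u * g) := by rw [← mul_assoc, hu2, one_mul]
        rw [e]
        exact Subgroup.mul_mem _ (Subgroup.mem_sup_right (Subgroup.mem_zpowers u))
          (Subgroup.mem_sup_left hugD)
  · apply sup_le
    · exact Subgroup.le_normalizer
    · rw [Subgroup.zpowers_le]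
      exact huN

end Cfsg.Agent.S1228
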