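import Mathlib
import Cfsg.Statements.S1229
import Cfsg.Agent.Lib_helper6_CIT4
-- import your own Cfsg.Agent.* helpers here

set_option autoImplicit false
open Cfsg

namespace Cfsg.Agent.S1229

/-- Let G be a finite group with a Sylow 2-subgroup T that is neither cyclic nor normal, such that the centralizer of every involution is an elementary abelian 2-group; put H = N_G(T) and X = G/H. Then G is triply transitive on X, an element fixing three distinct points of X is the identity, and T acts regularly on X minus the point H. -/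
theorem result {G : Type*} [Group G] [Finite G] (T : Sylow 2 G) (hnc : ¬ IsCyclic (T : Subgroup G)) (hnn : ¬ (T : Subgroup G).Normal) (hC : ∀ t : G, orderOf t = 2 → IsMulCommutative (Subgroup.centralizer ({t} : Set G)) ∧ ∀ c ∈ Subgroup.centralizer ({t} : Set G), c ^ 2 = 1) : (∀ x₁ x₂ x₃ y₁ y₂ y₃ : G ⧸ Subgroup.normalizer ((T : Subgroup G) : Set G), x₁ ≠ x₂ → x₁ ≠ x₃ → x₂ ≠ x₃ → y₁ ≠ y₂ → y₁ ≠ y₃ → y₂ ≠ y₃ → ∃ g : G, g • x₁ = y₁ ∧ g • x₂ = y₂ ∧ g • x₃ = y₃) ∧ (∀ g : G, ∀ x₁ x₂ x₃ : G ⧸ Subgroup.normalizer ((T : Subgroup G) : Set G), x₁ ≠ x₂ → x₁ ≠ x₃ → x₂ ≠ x₃ → g • x₁ = x₁ → g • x₂ = x₂ → g • x₃ = x₃ → g = 1) ∧ (∀ x y : G ⧸ Subgroup.normalizer ((T : Subgroup G) : Set G), x ≠ QuotientGroup.mk 1 → y ≠ QuotientGroup.mk 1 → ∃! t : G, t ∈ T ∧ t • x = y) := by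
  have h : helper6.CIT.Setup T := ⟨hnc, hC⟩
  have hNtop : Subgroup.normalizer ((T : Subgroup G) : Set G) ≠ ⊤ :=
    fun htop => hnn (Subgroup.normalizer_eq_top_iff.mp htop)
  obtain ⟨g₀, hg₀⟩ : ∃ g₀ : G, g₀ ∉ Subgroup.normalizer ((T : Subgroup G) : Set G) := by
    by_contra hall
    push Not at hall
    exact hNtop ((Subgroup.eq_top_iff' _).mpr hall)
  obtain ⟨u, hu, huH, -⟩ := helper6.CIT.exists_invol_move h hnn
    (helper6.CIT.mk_one_ne_mk _ hg₀).symm
  have hxy := helper6.CIT.mk_one_ne_mk _ huH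
  have hTtrans : ∀ w : G ⧸ Subgroup.normalizer ((T : Subgroup G) : Set G),
      w ≠ QuotientGroup.mk 1 → ∃ t ∈ (T : Subgroup G), t • (QuotientGroup.mk u :
        G ⧸ Subgroup.normalizer ((T : Subgroup G) : Set G)) = w :=
    fun w hw => helper6.CIT.T_trans h hnn hu huH hw
  have hTfree : ∀ t ∈ (T : Subgroup G), ∀ w : G ⧸ Subgroup.normalizer ((T : Subgroup G) : Set G),
      w ≠ QuotientGroup.mk 1 → t • w = w → t = 1 := by
    intro t ht w hw htw
    by_contra ht1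
    exact hw (helper6.CIT.T_fix_only h hnn ht ht1 htw)
  have part3 : ∀ x y : G ⧸ Subgroup.normalizer ((T : Subgroup G) : Set G),
      x ≠ QuotientGroup.mk 1 → y ≠ QuotientGroup.mk 1 → ∃! t : G, t ∈ T ∧ t • x = y := by
    intro x y hx hy
    obtain ⟨t₁, ht₁, rfl⟩ := hTtrans x hx
    obtain ⟨t₂, ht₂, rfl⟩ := hTtrans y hy
    refine ⟨t₂ * t₁⁻¹, ⟨Subgroup.mul_mem _ ht₂ (Subgroup.inv_mem _ ht₁), ?_⟩, ?_⟩
    · rw [smul_smul, inv_mul_cancel_right]
    · rintro t ⟨ht, htx⟩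
      have hfix : (t₂⁻¹ * t * t₁) • (QuotientGroup.mk u :
          G ⧸ Subgroup.normalizer ((T : Subgroup G) : Set G)) = QuotientGroup.mk u := by
        rw [mul_smul, mul_smul, htx, inv_smul_smul]
      have h1 := hTfree _ (Subgroup.mul_mem _ (Subgroup.mul_mem _ (Subgroup.inv_mem _ ht₂) ht) ht₁)
        _ hxy.symm hfix
      calc t = t₂ * (t₂⁻¹ * t * t₁) * t₁⁻¹ := by group
        _ = t₂ * t₁⁻¹ := by rw [h1, mul_one]
  have hDtrans : ∀ w w' : G ⧸ Subgroup.normalizer ((T : Subgroup G) : Set G),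
      w ≠ QuotientGroup.mk 1 → w ≠ QuotientGroup.mk u → w' ≠ QuotientGroup.mk 1 →
      w' ≠ QuotientGroup.mk u →
      ∃ d ∈ Subgroup.normalizer ((T : Subgroup G) : Set G) ⊓
        (Subgroup.normalizer ((T : Subgroup G) : Set G)).map (MulAut.conj u).toMonoidHom,
        d • w = w' := by
    intro w w' hw hwy hw' hw'y
    obtain ⟨t, ht, rfl⟩ := hTtrans w hw
    obtain ⟨t', ht', rfl⟩ := hTtrans w' hw'
    have ht1 : t ≠ 1 := by
      rintro rfl
      exact hwy (one_smul _ _)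
    have ht'1 : t' ≠ 1 := by
      rintro rfl
      exact hw'y (one_smul _ _)
    obtain ⟨d, hd, hdt, -⟩ := helper6.CIT.D_trans h hnn hu huH ht ht1 ht' ht'1
    refine ⟨d, hd, ?_⟩
    have e1 : d • (t • (QuotientGroup.mk u :
        G ⧸ Subgroup.normalizer ((T : Subgroup G) : Set G))) =
        (d * t * d⁻¹) • (d • (QuotientGroup.mk u :
          G ⧸ Subgroup.normalizer ((T : Subgroup G) : Set G))) := by
      rw [smul_smul, smul_smul]
      congr 1
      group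
    rw [e1, hdt, ((helper6.CIT.mem_D_iff _ u d).mp hd).2]
  have hpair : ∀ x₁ x₂ : G ⧸ Subgroup.normalizer ((T : Subgroup G) : Set G), x₁ ≠ x₂ →
      ∃ g : G, g • x₁ = QuotientGroup.mk 1 ∧ g • x₂ = QuotientGroup.mk u := by
    intro x₁ x₂ h12
    obtain ⟨g₁, hg₁⟩ := MulAction.exists_smul_eq G x₁
      (QuotientGroup.mk 1 : G ⧸ Subgroup.normalizer ((T : Subgroup G) : Set G))
    have hne : g₁ • x₂ ≠ QuotientGroup.mk 1 := by
      rw [← hg₁]
      intro h'
      exact h12 (smul_left_cancel g₁ h').symm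
    obtain ⟨t, ht, htw⟩ := hTtrans _ hne
    refine ⟨t⁻¹ * g₁, ?_, ?_⟩
    · rw [mul_smul, hg₁, helper6.SE.smul_mk_one_eq_iff]
      exact Subgroup.le_normalizer (Subgroup.inv_mem _ ht)
    · rw [mul_smul, ← htw, inv_smul_smul]
  refine ⟨?_, ?_, part3⟩
  · intro x₁ x₂ x₃ y₁ y₂ y₃ hx12 hx13 hx23 hy12 hy13 hy23
    obtain ⟨gx, hgx1, hgx2⟩ := hpair x₁ x₂ hx12
    obtain ⟨gy, hgy1, hgy2⟩ := hpair y₁ y₂ hy12
    have hwx : gx • x₃ ≠ QuotientGroup.mk 1 := by
      rw [← hgx1]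
      intro h'
      exact hx13 (smul_left_cancel gx h').symm
    have hwx' : gx • x₃ ≠ QuotientGroup.mk u := by
      rw [← hgx2]
      intro h'
      exact hx23 (smul_left_cancel gx h').symm
    have hwy : gy • y₃ ≠ QuotientGroup.mk 1 := by
      rw [← hgy1]
      intro h'
      exact hy13 (smul_left_cancel gy h').symm
    have hwy' : gy • y₃ ≠ QuotientGroup.mk u := by
      rw [← hgy2]
      intro h'
      exact hy23 (smul_left_cancel gy h').symm
    obtain ⟨d, hd, hdw⟩ := hDtrans _ _ hwx hwx' hwy hwy'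
    refine ⟨gy⁻¹ * d * gx, ?_, ?_, ?_⟩
    · rw [mul_smul, mul_smul, hgx1, ((helper6.CIT.mem_D_iff _ u d).mp hd).1, ← hgy1, inv_smul_smul]
    · rw [mul_smul, mul_smul, hgx2, ((helper6.CIT.mem_D_iff _ u d).mp hd).2, ← hgy2, inv_smul_smul]
    · rw [mul_smul, mul_smul, hdw, inv_smul_smul]
  · intro g x₁ x₂ x₃ h12 h13 h23 hg1 hg2 hg3
    obtain ⟨gx, hgx1, hgx2⟩ := hpair x₁ x₂ h12
    have hwx : gx • x₃ ≠ QuotientGroup.mk 1 := by
      rw [← hgx1]
      intro h'
      exact h13 (smul_left_cancel gx h').symm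
    have hwx' : gx • x₃ ≠ QuotientGroup.mk u := by
      rw [← hgx2]
      intro h'
      exact h23 (smul_left_cancel gx h').symm
    have hk1 : (gx * g * gx⁻¹) • (QuotientGroup.mk 1 :
        G ⧸ Subgroup.normalizer ((T : Subgroup G) : Set G)) = QuotientGroup.mk 1 := by
      rw [← hgx1, mul_smul, mul_smul, inv_smul_smul, hg1]
    have hk2 : (gx * g * gx⁻¹) • (QuotientGroup.mk u :
        G ⧸ Subgroup.normalizer ((T : Subgroup G) : Set G)) = QuotientGroup.mk u := by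
      rw [← hgx2, mul_smul, mul_smul, inv_smul_smul, hg2]
    have hk3 : (gx * g * gx⁻¹) • (gx • x₃) = gx • x₃ := by
      rw [mul_smul, mul_smul, inv_smul_smul, hg3]
    have hkD := (helper6.CIT.mem_D_iff _ u (gx * g * gx⁻¹)).mpr ⟨hk1, hk2⟩
    by_contra hg_ne
    have hk_ne : gx * g * gx⁻¹ ≠ 1 := by
      intro h'
      apply hg_ne
      have e : g = gx⁻¹ * (gx * g * gx⁻¹) * gx := by group
      rw [e, h']; group
    rcases helper6.CIT.D_semireg_points h hnn hu huH hkD hk_ne hk3 with h' | h'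
    · exact hwx h'
    · exact hwx' h'

end Cfsg.Agent.S1229
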