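import Cfsg.Statements.S1231
import Mathlib

set_option autoImplicit false
open Cfsg

namespace Cfsg.Agent.S1231


/-- rank witness formulation -/
def Rk {G : Type*} [Group G] (p n : ℕ) (X : Subgroup G) : Prop :=
  ∃ A : Subgroup G, A ≤ X ∧ IsMulCommutative A ∧ (∀ a ∈ A, a ^ p = 1) ∧ p ^ n < Nat.card A

theorem not_prankle_iff {G : Type*} [Group G] (p n : ℕ) (X : Subgroup G) :
    ¬ Cfsg.PRankLE p n ↥X ↔ Rk p n X := by
  unfold Cfsg.PRankLE Rk
  push Not
  constructor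
  · rintro ⟨A, hc, he, hcard⟩
    refine ⟨A.map X.subtype, Subgroup.map_subtype_le A, inferInstance, ?_, ?_⟩
    · rintro _ ⟨a, ha, rfl⟩
      have := he a ha
      rw [← map_pow, this, map_one]
    · rw [Subgroup.card_map_of_injective X.subtype_injective]
      exact hcard
  · rintro ⟨A, hle, hc, he, hcard⟩
    refine ⟨A.subgroupOf X, inferInstance, ?_, ?_⟩
    · intro a ha
      rw [Subgroup.mem_subgroupOf] at ha
      apply Subtype.ext
      simp only [Subgroup.coe_pow, Subgroup.coe_one]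
      exact he _ ha
    · rw [Nat.card_congr (Subgroup.subgroupOfEquivOfLe hle).toEquiv]
      exact hcard

theorem Rk.mono {G : Type*} [Group G] {p n : ℕ} {X Y : Subgroup G} (h : X ≤ Y) (hX : Rk p n X) : Rk p n Y := by
  obtain ⟨A, hA, h1, h2, h3⟩ := hX
  exact ⟨A, hA.trans h, h1, h2, h3⟩

theorem Rk.conj {G : Type*} [Group G] {p n : ℕ} {X : Subgroup G} (g : G) (hX : Rk p n X) :
    Rk p n (X.map (MulAut.conj g).toMonoidHom) := by
  obtain ⟨A, hA, h1, h2, h3⟩ := hX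
  refine ⟨A.map (MulAut.conj g).toMonoidHom, Subgroup.map_mono hA, inferInstance, ?_, ?_⟩
  · rintro _ ⟨a, ha, rfl⟩
    rw [← map_pow, h2 a ha, map_one]
  · rw [Subgroup.card_map_of_injective (MulAut.conj g).injective]
    exact h3

theorem mem_map_conj {G : Type*} [Group G] {X : Subgroup G} {g x : G} :
    x ∈ X.map (MulAut.conj g).toMonoidHom ↔ g⁻¹ * x * g ∈ X := by
  constructor
  · rintro ⟨y, hy, rfl⟩
    have : g⁻¹ * ((MulAut.conj g).toMonoidHom y) * g = y := by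
      show g⁻¹ * (g * y * g⁻¹) * g = y
      group
    rw [this]; exact hy
  · intro h
    refine ⟨g⁻¹ * x * g, h, ?_⟩
    show g * (g⁻¹ * x * g) * g⁻¹ = x
    group

theorem exists_conj_le {G : Type*} [Group G] [Finite G] {p : ℕ} [Fact p.Prime] (H : Subgroup G) (P : Sylow p ↥H)
    (R : Subgroup G) (hR : IsPGroup p R) (hRH : R ≤ H) :
    ∃ h ∈ H, R ≤ ((P : Subgroup ↥H).map H.subtype).map (MulAut.conj h).toMonoidHom := by
  have hR' : IsPGroup p (R.subgroupOf H) := hR.of_equiv (Subgroup.subgroupOfEquivOfLe hRH).symm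
  obtain ⟨P', hP'⟩ := hR'.exists_le_sylow
  obtain ⟨h, hh⟩ := MulAction.exists_smul_eq ↥H P P'
  refine ⟨h.1, h.2, ?_⟩
  intro r hr
  have h1 : (⟨r, hRH hr⟩ : ↥H) ∈ (P' : Subgroup ↥H) := hP' (by rw [Subgroup.mem_subgroupOf]; exact hr)
  rw [← hh, Sylow.coe_subgroup_smul, Subgroup.mem_pointwise_smul_iff_inv_smul_mem] at h1
  rw [MulAut.smul_def, MulAut.conj_inv_apply] at h1
  rw [mem_map_conj]
  exact ⟨_, h1, rfl⟩

theorem exists_normalizer_of_ne {G : Type*} [Group G] [Finite G] {p : ℕ} [Fact p.Prime] {Q P₂ : Subgroup G}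
    (hP₂ : IsPGroup p P₂) (hle : Q ≤ P₂) (hne : Q ≠ P₂) :
    ∃ x ∈ P₂, x ∉ Q ∧ x ∈ Subgroup.normalizer (Q : Set G) := by
  have hnil : Group.IsNilpotent ↥P₂ := hP₂.isNilpotent
  have hnc : NormalizerCondition ↥P₂ := Group.normalizerCondition_of_isNilpotent
  have hlt : Q.subgroupOf P₂ < ⊤ := by
    rw [lt_top_iff_ne_top, Ne, Subgroup.subgroupOf_eq_top]
    intro h
    exact hne (le_antisymm hle h)
  have h2 := hnc _ hlt
  obtain ⟨x, hx1, hx2⟩ := SetLike.exists_of_lt h2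
  rw [← Subgroup.subgroupOf_normalizer_eq hle, Subgroup.mem_subgroupOf] at hx1
  rw [Subgroup.mem_subgroupOf] at hx2
  exact ⟨x.1, x.2, hx2, hx1⟩

/-- Let H be a subgroup of the finite group G, p a prime, k ≥ 1, and P a Sylow p-subgroup of H whose p-rank is at least k. Then N_G(X) ≤ H for every subgroup X of P of p-rank at least k if and only if H ∩ gHg⁻¹ has p-rank less than k for every g ∉ H. -/
theorem result {G : Type*} [Group G] [Finite G] {p : ℕ} [Fact p.Prime] (k : ℕ) (hk : 1 ≤ k) (H : Subgroup G) (P : Sylow p ↥H) (hP : ¬ Cfsg.PRankLE p (k - 1) ↥(P : Subgroup ↥H)) : (∀ X : Subgroup G, X ≤ (P : Subgroup ↥H).map H.subtype → ¬ Cfsg.PRankLE p (k - 1) ↥X → Subgroup.normalizer (X : Set G) ≤ H) ↔ (∀ g : G, g ∉ H → Cfsg.PRankLE p (k - 1) ↥(H ⊓ H.map (MulAut.conj g).toMonoidHom)) := by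
  have hrk : ∀ X : Subgroup G, ¬ Cfsg.PRankLE p (k - 1) ↥X ↔ Rk p (k - 1) X := fun X => not_prankle_iff p (k - 1) X
  obtain ⟨PG, hPG⟩ : ∃ PG : Subgroup G, PG = (P : Subgroup ↥H).map H.subtype := ⟨_, rfl⟩
  have hPGH : PG ≤ H := by rw [hPG]; exact Subgroup.map_subtype_le _
  have hPGp : IsPGroup p PG := by rw [hPG]; exact P.isPGroup'.map _
  have hPGrk : Rk p (k - 1) PG := by
    have := (not_prankle_iff p (k - 1) (P : Subgroup ↥H)).1 hP
    obtain ⟨A, hA, h1, h2, h3⟩ := this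
    refine ⟨A.map H.subtype, by rw [hPG]; exact Subgroup.map_mono hA, inferInstance, ?_, ?_⟩
    · rintro _ ⟨a, ha, rfl⟩
      rw [← map_pow, h2 a ha, map_one]
    · rw [Subgroup.card_map_of_injective H.subtype_injective]; exact h3
  simp only [hrk]
  rw [← hPG]
  constructor
  · intro hL g hg
    by_contra hD
    rw [not_prankle_iff] at hD
    obtain ⟨A, hAD, hAc, hAe, hAcard⟩ := hD
    obtain ⟨D, hDdef⟩ : ∃ D, D = H ⊓ H.map (MulAut.conj g).toMonoidHom := ⟨_, rfl⟩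
    rw [← hDdef] at hAD
    have hAp : IsPGroup p A := by
      intro a
      refine ⟨1, ?_⟩
      apply Subtype.ext
      simp only [pow_one, Subgroup.coe_pow, Subgroup.coe_one]
      exact hAe a.1 a.2
    have hA' : IsPGroup p (A.subgroupOf D) := hAp.of_equiv (Subgroup.subgroupOfEquivOfLe hAD).symm
    obtain ⟨Q', hQ'⟩ := hA'.exists_le_sylow
    obtain ⟨Q, hQ⟩ : ∃ Q : Subgroup G, Q = (Q' : Subgroup ↥D).map D.subtype := ⟨_, rfl⟩
    have hQD : Q ≤ D := by rw [hQ]; exact Subgroup.map_subtype_le _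
    have hQp : IsPGroup p Q := by rw [hQ]; exact Q'.isPGroup'.map _
    have hAQ : A ≤ Q := by
      intro a ha
      rw [hQ]
      exact ⟨⟨a, hAD ha⟩, hQ' (by rw [Subgroup.mem_subgroupOf]; exact ha), rfl⟩
    have hQrk : Rk p (k - 1) Q := ⟨A, hAQ, hAc, hAe, hAcard⟩
    have hQmax : ∀ R : Subgroup G, IsPGroup p R → Q ≤ R → R ≤ D → R ≤ Q := by
      intro R hRp hQR hRD
      have hR' : IsPGroup p (R.subgroupOf D) := hRp.of_equiv (Subgroup.subgroupOfEquivOfLe hRD).symm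
      have hle : (Q' : Subgroup ↥D) ≤ R.subgroupOf D := by
        intro x hx
        rw [Subgroup.mem_subgroupOf]
        apply hQR; rw [hQ]; exact ⟨x, hx, rfl⟩
      have hmax := Q'.is_maximal' hR' hle
      intro r hr
      rw [hQ]
      have hrm : (⟨r, hRD hr⟩ : ↥D) ∈ R.subgroupOf D := by rw [Subgroup.mem_subgroupOf]; exact hr
      rw [hmax] at hrm
      exact ⟨⟨r, hRD hr⟩, hrm, rfl⟩
    have hL' : ∀ h ∈ H, ∀ X : Subgroup G, X ≤ PG.map (MulAut.conj h).toMonoidHom → Rk p (k - 1) X →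
        Subgroup.normalizer (X : Set G) ≤ H := by
      intro h hh X hX hXrk n hn
      have h1 : X.map (MulAut.conj h⁻¹).toMonoidHom ≤ PG := by
        rintro _ ⟨x, hx, rfl⟩
        have := hX hx
        rw [mem_map_conj] at this
        show h⁻¹ * x * h⁻¹⁻¹ ∈ PG
        rw [inv_inv]; exact this
      have h2 := hL _ h1 (hXrk.conj h⁻¹)
      have h3 : h⁻¹ * n * h ∈ Subgroup.normalizer ((X.map (MulAut.conj h⁻¹).toMonoidHom : Subgroup G) : Set G) := by
        rw [← Subgroup.map_equiv_normalizer_eq X (MulAut.conj h⁻¹)]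
        refine ⟨n, hn, ?_⟩
        show h⁻¹ * n * h⁻¹⁻¹ = _
        rw [inv_inv]
      have h4 := h2 h3
      have : n = h * (h⁻¹ * n * h) * h⁻¹ := by group
      rw [this]
      exact H.mul_mem (H.mul_mem hh h4) (H.inv_mem hh)
    obtain ⟨h₁, hh₁, hQ1⟩ := exists_conj_le H P Q hQp (hQD.trans (by rw [hDdef]; exact inf_le_left))
    rw [← hPG] at hQ1
    have hNQ : Subgroup.normalizer (Q : Set G) ≤ H := hL' h₁ hh₁ Q hQ1 hQrk
    have hQg : Q.map (MulAut.conj g⁻¹).toMonoidHom ≤ H := by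
      rintro _ ⟨x, hx, rfl⟩
      have := hQD hx
      rw [hDdef] at this
      have := (Subgroup.mem_inf.1 this).2
      rw [mem_map_conj] at this
      show g⁻¹ * x * g⁻¹⁻¹ ∈ H
      rw [inv_inv]; exact this
    obtain ⟨h₂, hh₂, hQ2⟩ := exists_conj_le H P _ (hQp.map _) hQg
    rw [← hPG] at hQ2
    obtain ⟨P₂, hP₂⟩ : ∃ P₂, P₂ = PG.map (MulAut.conj (g * h₂)).toMonoidHom := ⟨_, rfl⟩
    have hQP₂ : Q ≤ P₂ := by
      intro x hx
      rw [hP₂, mem_map_conj]
      have : g⁻¹ * x * g ∈ PG.map (MulAut.conj h₂).toMonoidHom := by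
        apply hQ2
        refine ⟨x, hx, ?_⟩
        show g⁻¹ * x * g⁻¹⁻¹ = _
        rw [inv_inv]
      rw [mem_map_conj] at this
      have e : (g * h₂)⁻¹ * x * (g * h₂) = h₂⁻¹ * (g⁻¹ * x * g) * h₂ := by group
      rw [e]; exact this
    have hP₂p : IsPGroup p P₂ := by rw [hP₂]; exact hPGp.map _
    have hP₂Hg : P₂ ≤ H.map (MulAut.conj g).toMonoidHom := by
      intro x hx
      rw [hP₂, mem_map_conj] at hx
      rw [mem_map_conj]
      have : g⁻¹ * x * g = h₂ * ((g * h₂)⁻¹ * x * (g * h₂)) * h₂⁻¹ := by group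
      rw [this]
      exact H.mul_mem (H.mul_mem hh₂ (hPGH hx)) (H.inv_mem hh₂)
    by_cases hcase : Q = P₂
    · have hsub : PG.map (MulAut.conj (g * h₂)).toMonoidHom ≤ PG.map (MulAut.conj h₁).toMonoidHom := by
        rw [← hP₂, ← hcase]; exact hQ1
      have hn : h₁⁻¹ * (g * h₂) ∈ Subgroup.normalizer (PG : Set G) := by
        apply Subgroup.mem_normalizer_fintype
        intro y hy
        have h1 : (g * h₂) * y * (g * h₂)⁻¹ ∈ PG.map (MulAut.conj (g * h₂)).toMonoidHom := ⟨y, hy, rfl⟩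
        have h2 := hsub h1
        rw [mem_map_conj] at h2
        have e : h₁⁻¹ * (g * h₂) * y * (h₁⁻¹ * (g * h₂))⁻¹ = h₁⁻¹ * ((g * h₂) * y * (g * h₂)⁻¹) * h₁ := by group
        rw [e]; exact h2
      have hmem := hL PG le_rfl hPGrk hn
      apply hg
      have e : g = h₁ * (h₁⁻¹ * (g * h₂)) * h₂⁻¹ := by group
      rw [e]; exact H.mul_mem (H.mul_mem hh₁ hmem) (H.inv_mem hh₂)
    · obtain ⟨x, hx1, hx2, hx3⟩ := exists_normalizer_of_ne hP₂p hQP₂ hcase
      have hR : Q ⊔ Subgroup.zpowers x ≤ D := by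
        apply sup_le hQD
        rw [Subgroup.zpowers_le, hDdef]
        exact ⟨hNQ hx3, hP₂Hg hx1⟩
      have hRp : IsPGroup p (Q ⊔ Subgroup.zpowers x : Subgroup G) :=
        hP₂p.to_le (sup_le hQP₂ (by rw [Subgroup.zpowers_le]; exact hx1))
      have := hQmax _ hRp le_sup_left hR
      exact hx2 (this (Subgroup.mem_sup_right (Subgroup.mem_zpowers x)))
  · intro hR X hX hXrk n hn
    by_contra hnH
    apply (not_prankle_iff p (k - 1) _).2 _ (hR n hnH)
    apply hXrk.mono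
    apply le_inf (hX.trans hPGH)
    intro x hx
    rw [mem_map_conj]
    have : n⁻¹ * x * n ∈ X := by
      have hn' := Subgroup.inv_mem _ hn
      rw [Subgroup.mem_normalizer_iff] at hn'
      have := (hn' x).1 hx
      simpa using this
    exact hPGH (hX this)

end Cfsg.Agent.S1231
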