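import Cfsg.Statements.S1236
import Mathlib
import Cfsg.Agent.Lib_helper6_QD3
import Cfsg.Agent.Lib_helper6_Klein2
-- import your own Cfsg.Agent.* helpers here

set_option autoImplicit false
open Cfsg

namespace Cfsg.Agent.S1236

open Cfsg.Agent.helper6.Klein in
theorem selfCent_qd {S : Type*} [Group S] [Finite S] (hS : Cfsg.IsQuasiDihedral S) : SelfCent S := by
  obtain ⟨D⟩ := Cfsg.Agent.helper6.QD.nonempty_data hS
  intro T hT g hg
  have := D.klein_centralizer T hT
  rw [← this, Subgroup.mem_centralizer_iff]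
  exact hg

/-- Let R be a finite group, t a central involution of R such that R ⧸ ⟨t⟩ is dihedral (of order ≥ 4) or quasi-dihedral, and A ≤ R an elementary abelian subgroup of order 8 containing t. Then C_R(A) = A. -/
theorem result {R : Type*} [Group R] [Finite R] (t : R) (ht : orderOf t = 2) (htz : t ∈ Subgroup.center R) [(Subgroup.zpowers t).Normal] (hq : (∃ m : ℕ, 2 ≤ m ∧ Nonempty (R ⧸ Subgroup.zpowers t ≃* DihedralGroup m)) ∨ Cfsg.IsQuasiDihedral (R ⧸ Subgroup.zpowers t)) (A : Subgroup R) (hA : Cfsg.IsElementaryAbelian 2 A) (hA8 : Nat.card A = 8) (htA : t ∈ A) : Subgroup.centralizer (A : Set R) = A := by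
  classical
  have hZle : Subgroup.zpowers t ≤ A := by
    rw [Subgroup.zpowers_le]; exact htA
  have hcomm : ∀ a ∈ A, ∀ c ∈ A, a * c = c * a := by
    intro a ha c hc
    have := hA.1
    exact congrArg Subtype.val (mul_comm' (⟨a, ha⟩ : A) ⟨c, hc⟩)
  -- the quotient is self-centralizing on four-groups
  have hSC : Cfsg.Agent.helper6.Klein.SelfCent (R ⧸ Subgroup.zpowers t) := by
    rcases hq with ⟨m, hm, ⟨e⟩⟩ | hq
    · haveI : NeZero m := ⟨by omega⟩
      exact Cfsg.Agent.helper6.Klein.selfCent_of_equiv e
        (Cfsg.Agent.helper6.Klein.selfCent_dihedral m)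
    · exact selfCent_qd hq
  set π := QuotientGroup.mk' (Subgroup.zpowers t) with hπ
  have hker : π.ker = Subgroup.zpowers t := QuotientGroup.ker_mk' _
  have hsurj : Function.Surjective π := QuotientGroup.mk'_surjective _
  -- the image of A is a four-group
  have hidx : (A.map π).index = A.index :=
    Subgroup.index_map_eq A hsurj (by rw [hker]; exact hZle)
  have hcardZ : Nat.card (Subgroup.zpowers t) = 2 := by rw [Nat.card_zpowers, ht]
  have h1 := Subgroup.card_eq_card_quotient_mul_card_subgroup (Subgroup.zpowers t)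
  have h2 := A.card_mul_index
  have h3 := (A.map π).card_mul_index
  rw [hidx] at h3
  rw [hcardZ] at h1
  rw [hA8] at h2
  have hidxpos : 0 < A.index := by
    rcases Nat.eq_zero_or_pos A.index with h | h
    · rw [h, mul_zero] at h2
      have : 0 < Nat.card R := Nat.card_pos
      omega
    · exact h
  have hcard4 : Nat.card (A.map π) = 4 := by
    have h4 : Nat.card (A.map π) * A.index * 2 = 4 * A.index * 2 := by
      rw [h3, ← h1, ← h2]; ring
    have h5 : Nat.card (A.map π) * A.index = 4 * A.index :=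
      Nat.eq_of_mul_eq_mul_right (by norm_num) h4
    exact Nat.eq_of_mul_eq_mul_right hidxpos h5
  have hK : IsKleinFour (A.map π) := by
    apply Cfsg.Agent.helper6.Klein.isKleinFour_of_card_sq _ hcard4
    rintro _ ⟨a, ha, rfl⟩
    rw [← map_mul, ← pow_two, hA.2 a ha, map_one]
  apply le_antisymm
  · intro g hg
    rw [Subgroup.mem_centralizer_iff] at hg
    have hmem := hSC _ hK (π g) (by
      rintro _ ⟨a, ha, rfl⟩
      rw [← map_mul, ← map_mul, hg a ha])
    obtain ⟨a, ha, hag⟩ := hmem
    have h6 : a⁻¹ * g ∈ Subgroup.zpowers t := by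
      rw [← hker, MonoidHom.mem_ker, map_mul, map_inv, hag, inv_mul_cancel]
    have h7 := A.mul_mem ha (hZle h6)
    rwa [mul_inv_cancel_left] at h7
  · intro g hg
    rw [Subgroup.mem_centralizer_iff]
    intro a ha
    exact hcomm a ha g hg

end Cfsg.Agent.S1236
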