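import Cfsg.Statements.S1241
import Mathlib

set_option autoImplicit false
open Cfsg

namespace Cfsg.Agent.S1241

open scoped IsMulCommutative in
/-- Let G be a finite group, p a prime, H a subgroup of index prime to p, K a subgroup of H normal in H with H/K commutative, and g ∈ H ∖ K an element of p-power order such that for all integers m and all a ∈ G with a g^m a⁻¹ ∈ H one has a g^m a⁻¹ ∈ g^m K. Then g ∉ G'. -/
theorem result {G : Type*} [Group G] [Finite G] {p : ℕ} [Fact p.Prime] (H K : Subgroup G) (hHK : K ≤ H) (hKn : (K.subgroupOf H).Normal) (hab : ∀ x ∈ H, ∀ y ∈ H, x * y * x⁻¹ * y⁻¹ ∈ K) (hidx : Nat.Coprime p H.index) (g : G) (hgH : g ∈ H) (hgK : g ∉ K) (hgp : ∃ k : ℕ, orderOf g = p ^ k) (hctrl : ∀ (m : ℤ) (a : G), a * g ^ m * a⁻¹ ∈ H → (a * g ^ m * a⁻¹) * (g ^ m)⁻¹ ∈ K) : g ∉ commutator G := by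
  intro hgc
  have hcomm : IsMulCommutative (H ⧸ K.subgroupOf H) := by
    rw [isMulCommutative_iff]
    intro a b
    obtain ⟨x, rfl⟩ := QuotientGroup.mk_surjective a
    obtain ⟨y, rfl⟩ := QuotientGroup.mk_surjective b
    rw [← QuotientGroup.mk_mul, ← QuotientGroup.mk_mul, QuotientGroup.eq, Subgroup.mem_subgroupOf]
    have := hab (y⁻¹ : H) (H.inv_mem y.2) (x⁻¹ : H) (H.inv_mem x.2)
    simpa [mul_assoc] using this
  obtain ⟨V, hV⟩ : ∃ V : G →* H ⧸ K.subgroupOf H, V = MonoidHom.transfer (QuotientGroup.mk' (K.subgroupOf H)) := ⟨_, rfl⟩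
  have hVg : V g = (QuotientGroup.mk' (K.subgroupOf H) ⟨g, hgH⟩) ^ H.index := by
    have : Fintype (Quotient (MulAction.orbitRel (Subgroup.zpowers (g : G)) (G ⧸ H))) := Fintype.ofFinite _
    rw [hV, Subgroup.index_eq_sum_minimalPeriod H g, ← Finset.prod_pow_eq_pow_sum,
      MonoidHom.transfer_eq_prod_quotient_orbitRel_zpowers_quot]
    apply Finset.prod_congr rfl
    intro q _
    rw [← map_pow]
    apply QuotientGroup.eq.mpr
    rw [Subgroup.mem_subgroupOf]
    have hmem := QuotientGroup.out_conj_pow_minimalPeriod_mem H g q.out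
    have h1 := hctrl (Function.minimalPeriod (g • ·) q.out : ℕ) (q.out.out⁻¹) (by
      rw [zpow_natCast, inv_inv]; exact hmem)
    rw [zpow_natCast, inv_inv] at h1
    -- h1 : (c) * (g^n)⁻¹ ∈ K; want c⁻¹ * g^n ∈ K
    have h2 := K.inv_mem h1
    have hc : (q.out.out⁻¹ * g ^ Function.minimalPeriod (g • ·) q.out * q.out.out) ∈ H := hmem
    have hgn : g ^ Function.minimalPeriod (g • ·) q.out ∈ H := H.pow_mem hgH _
    -- use commutativity mod K: c⁻¹ g^n ≡ g^n c⁻¹
    have h3 := hab _ (H.inv_mem hc) _ hgn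
    -- h3 : c⁻¹ * g^n * c⁻¹⁻¹ * (g^n)⁻¹ ∈ K
    have h4 := K.mul_mem h3 h2
    simp only [Subgroup.coe_mul, Subgroup.coe_inv, Subgroup.coe_pow]
    convert h4 using 1
    group
  have hker : V g = 1 := by
    have := Abelianization.commutator_subset_ker V hgc
    exact this
  obtain ⟨k, hk⟩ := hgp
  obtain ⟨y, hy⟩ : ∃ y, y = (QuotientGroup.mk' (K.subgroupOf H) ⟨g, hgH⟩) := ⟨_, rfl⟩
  rw [← hy] at hVg
  have hy1 : y ^ H.index = 1 := by rw [← hVg, hker]
  have hy2 : y ^ (p ^ k) = 1 := by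
    rw [hy, ← map_pow]
    have : (⟨g, hgH⟩ : H) ^ (p ^ k) = 1 := by
      apply Subtype.ext
      simp only [Subgroup.coe_pow, Subgroup.coe_one]
      rw [← hk, pow_orderOf_eq_one]
    rw [this, map_one]
  have hcop : Nat.Coprime H.index (p ^ k) := (Nat.Coprime.pow_left k hidx).symm
  have hyone : y = 1 := by
    have h1 := orderOf_dvd_of_pow_eq_one hy1
    have h2 := orderOf_dvd_of_pow_eq_one hy2
    have := Nat.dvd_gcd h1 h2
    rw [hcop.gcd_eq_one, Nat.dvd_one, orderOf_eq_one_iff] at this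
    exact this
  apply hgK
  rw [hy] at hyone
  have := (QuotientGroup.eq_one_iff _).1 hyone
  rw [Subgroup.mem_subgroupOf] at this
  exact this

end Cfsg.Agent.S1241
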