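import Mathlib
import Cfsg.Statements.S1243

set_option autoImplicit false
open Cfsg
open scoped Pointwise

namespace Cfsg.Agent.S1243

/-- Two `p`-subgroups `X, Y` of a subgroup `C` can be brought into one Sylow `p`-subgroup of `G`
after conjugating `Y` by an element of `C`. -/
theorem sylow_conj_in_subgroup {G : Type*} [Group G] [Finite G] {p : ℕ} [Fact p.Prime]
    (C X Y : Subgroup G) (hX : X ≤ C) (hY : Y ≤ C) (hXp : IsPGroup p X) (hYp : IsPGroup p Y) :
    ∃ c ∈ C, ∃ T : Sylow p G, X ≤ T ∧ ∀ y ∈ Y, c * y * c⁻¹ ∈ (T : Subgroup G) := by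
  have hX' : IsPGroup p (X.subgroupOf C) := hXp.comap_subtype
  have hY' : IsPGroup p (Y.subgroupOf C) := hYp.comap_subtype
  obtain ⟨R, hR⟩ := hX'.exists_le_sylow
  obtain ⟨R', hR'⟩ := hY'.exists_le_sylow
  obtain ⟨c, hc⟩ := MulAction.exists_smul_eq C R' R
  have hRp : IsPGroup p ((R : Subgroup C).map C.subtype) := R.2.map _
  obtain ⟨T, hT⟩ := hRp.exists_le_sylow
  refine ⟨c, c.2, T, ?_, ?_⟩
  · intro x hx
    apply hT
    refine ⟨⟨x, hX hx⟩, hR ?_, rfl⟩
    rw [Subgroup.mem_subgroupOf]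
    exact hx
  · intro y hy
    apply hT
    have h1 : (⟨y, hY hy⟩ : C) ∈ (R' : Subgroup C) := hR' (by rw [Subgroup.mem_subgroupOf]; exact hy)
    have h2 : MulAut.conj c • (⟨y, hY hy⟩ : C) ∈ MulAut.conj c • (R' : Subgroup C) :=
      Subgroup.smul_mem_pointwise_smul _ _ _ h1
    rw [← Sylow.coe_subgroup_smul, hc] at h2
    refine ⟨_, h2, ?_⟩
    simp [MulAut.smul_def]

/-- Let T be a Sylow p-subgroup of the finite group G and W ≤ T a subgroup weakly closed in T. If d and g d g⁻¹ both centralize W, then g d g⁻¹ = h d h⁻¹ for some h ∈ N_G(W). -/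
theorem result {G : Type*} [Group G] [Finite G] {p : ℕ} [Fact p.Prime] (T : Sylow p G) (W : Subgroup G) (hW : Cfsg.IsWeaklyClosed W (T : Subgroup G)) (d g : G) (hd : d ∈ Subgroup.centralizer (W : Set G)) (hgd : g * d * g⁻¹ ∈ Subgroup.centralizer (W : Set G)) : ∃ h ∈ Subgroup.normalizer (W : Set G), h * d * h⁻¹ = g * d * g⁻¹ := by
  obtain ⟨hWT, hcl⟩ := hW
  set e := g * d * g⁻¹ with he
  have hWp : IsPGroup p W := T.2.to_le hWT
  let C := Subgroup.centralizer ({e} : Set G)
  have hWC : W ≤ C := by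
    intro w hw
    rw [Subgroup.mem_centralizer_iff]
    intro x hx
    rw [Set.mem_singleton_iff] at hx
    subst hx
    rw [Subgroup.mem_centralizer_iff] at hgd
    exact (hgd w hw).symm
  set Wg := W.map (MulAut.conj g).toMonoidHom with hWg
  have hWgC : Wg ≤ C := by
    rintro _ ⟨w, hw, rfl⟩
    rw [Subgroup.mem_centralizer_iff]
    intro x hx
    rw [Set.mem_singleton_iff] at hx
    subst hx
    rw [Subgroup.mem_centralizer_iff] at hd
    have := hd w hw
    simp only [MulEquiv.coe_toMonoidHom, MulAut.conj_apply, he]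
    calc g * d * g⁻¹ * (g * w * g⁻¹) = g * (d * w) * g⁻¹ := by group
      _ = g * (w * d) * g⁻¹ := by rw [← this]
      _ = g * w * g⁻¹ * (g * d * g⁻¹) := by group
  have hWgp : IsPGroup p Wg := hWp.map _
  obtain ⟨c, hcC, T', hWT', hWgT'⟩ := sylow_conj_in_subgroup C W Wg hWC hWgC hWp hWgp
  obtain ⟨x, hx⟩ := MulAction.exists_smul_eq G T T'
  have hT' : ∀ y : G, y ∈ (T' : Subgroup G) ↔ x⁻¹ * y * x ∈ (T : Subgroup G) := by
    intro y
    rw [← hx, Sylow.coe_subgroup_smul, Subgroup.mem_pointwise_smul_iff_inv_smul_mem]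
    simp [MulAut.smul_def]
  -- x⁻¹ W x = W
  have h1 : W.map (MulAut.conj x⁻¹).toMonoidHom = W := by
    apply hcl
    rintro _ ⟨w, hw, rfl⟩
    have := (hT' w).1 (hWT' hw)
    simpa using this
  -- x⁻¹ c g W g⁻¹ c⁻¹ x = W
  have h2 : W.map (MulAut.conj (x⁻¹ * c * g)).toMonoidHom = W := by
    apply hcl
    rintro _ ⟨w, hw, rfl⟩
    have hm : g * w * g⁻¹ ∈ Wg := ⟨w, hw, by simp [MulAut.conj_apply]⟩
    have := (hT' _).1 (hWgT' _ hm)
    simp only [MulEquiv.coe_toMonoidHom, MulAut.conj_apply]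
    have e2 : x⁻¹ * c * g * w * (x⁻¹ * c * g)⁻¹ = x⁻¹ * (c * (g * w * g⁻¹) * c⁻¹) * x := by group
    rw [e2]; exact this
  -- hence c g normalizes W
  have h3 : W.map (MulAut.conj (c * g)).toMonoidHom = W := by
    have e3 : (MulAut.conj (c * g)) = (MulAut.conj x) * (MulAut.conj (x⁻¹ * c * g)) := by
      rw [← map_mul]; congr 1; group
    have : W.map (MulAut.conj (c * g)).toMonoidHom
        = (W.map (MulAut.conj (x⁻¹ * c * g)).toMonoidHom).map (MulAut.conj x).toMonoidHom := by
      rw [Subgroup.map_map, e3]; rfl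
    rw [this, h2]
    have h1' : (W.map (MulAut.conj x⁻¹).toMonoidHom).map (MulAut.conj x).toMonoidHom = W := by
      rw [Subgroup.map_map]
      have : (MulAut.conj x).toMonoidHom.comp (MulAut.conj x⁻¹).toMonoidHom = MonoidHom.id G := by
        ext y; simp [MulAut.conj_apply]; group
      rw [this, Subgroup.map_id]
    rw [h1] at h1'
    exact h1'
  refine ⟨c * g, ?_, ?_⟩
  · rw [Subgroup.mem_normalizer_iff]
    intro w
    constructor
    · intro hw
      rw [← h3]
      exact ⟨w, hw, by simp only [MulEquiv.coe_toMonoidHom, MulAut.conj_apply]⟩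
    · intro hw
      rw [← h3] at hw
      obtain ⟨w', hw', hww'⟩ := hw
      simp only [MulEquiv.coe_toMonoidHom, MulAut.conj_apply] at hww'
      have : w = w' := by
        have := congrArg (fun z => (c * g)⁻¹ * z * (c * g)) hww'
        beta_reduce at this
        have e4 : (c * g)⁻¹ * (c * g * w' * (c * g)⁻¹) * (c * g) = w' := by group
        have e5 : (c * g)⁻¹ * (c * g * w * (c * g)⁻¹) * (c * g) = w := by group
        rw [e4, e5] at this
        exact this.symm
      rw [this]; exact hw'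
  · have hc : c * e = e * c := by
      have := (Subgroup.mem_centralizer_iff.1 hcC) e (Set.mem_singleton e)
      exact this.symm
    calc c * g * d * (c * g)⁻¹ = c * (g * d * g⁻¹) * c⁻¹ := by group
      _ = c * e * c⁻¹ := by rw [he]
      _ = e * c * c⁻¹ := by rw [hc]
      _ = e := by group

end Cfsg.Agent.S1243
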