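import Mathlib
import Cfsg.Statements.S1244
import Cfsg.Agent.Lib_helper9_PRank

set_option autoImplicit false
open Cfsg

namespace Cfsg.Agent.S1244

open scoped IsMulCommutative
open Cfsg.Agent.helper9

/-- parity of a product of elements outside a subgroup of index two -/
theorem prod_mem_iff_even {A : Type*} [CommGroup A] (E E0 : Subgroup A)
    (hidx : E0.relIndex E = 2)
    {ι : Type*} (s : Finset ι) (f : ι → A) (hf : ∀ i ∈ s, f i ∈ E ∧ f i ∉ E0) :
    (∏ i ∈ s, f i) ∈ E ∧ ((∏ i ∈ s, f i) ∈ E0 ↔ Even s.card) := by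
  classical
  induction s using Finset.induction_on with
  | empty => simp [E.one_mem, E0.one_mem]
  | insert a s ha ih =>
    have hs := ih (fun i hi => hf i (Finset.mem_insert_of_mem hi))
    have hfa := hf a (Finset.mem_insert_self a s)
    rw [Finset.prod_insert ha, Finset.card_insert_of_notMem ha]
    refine ⟨E.mul_mem hfa.1 hs.1, ?_⟩
    have key : (⟨f a, hfa.1⟩ : E) * ⟨∏ i ∈ s, f i, hs.1⟩ ∈ E0.subgroupOf E ↔
       ((⟨f a, hfa.1⟩ : E) ∈ E0.subgroupOf E ↔ (⟨∏ i ∈ s, f i, hs.1⟩ : E) ∈ E0.subgroupOf E) :=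
      Subgroup.mul_mem_iff_of_index_two hidx
    simp only [Subgroup.mem_subgroupOf, Subgroup.coe_mul] at key
    rw [key, hs.2, Nat.even_add_one]
    constructor
    · intro h hev; exact hfa.2 (h.mpr hev)
    · intro h; exact ⟨fun h1 => absurd h1 hfa.2, fun h1 => absurd h1 h⟩

/-- Let G be a finite group with no subgroup of index 2 whose Sylow 2-subgroup S is commutative, and let R ≤ S be a subgroup whose 2-rank is exactly one less than the 2-rank r of S. Then every involution of S is conjugate, by an element of N_G(S), to an element of R. -/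
theorem result {G : Type*} [Group G] [Finite G] (hG : ∀ H : Subgroup G, H.index ≠ 2) (S : Sylow 2 G) (hS : IsMulCommutative (S : Subgroup G)) (r : ℕ) (hr1 : 1 ≤ r) (hSr : Cfsg.PRankLE 2 r (S : Subgroup G) ∧ ¬ Cfsg.PRankLE 2 (r - 1) (S : Subgroup G)) (R : Subgroup G) (hRS : R ≤ S) (hRr : Cfsg.PRankLE 2 (r - 1) R ∧ (r = 1 ∨ ¬ Cfsg.PRankLE 2 (r - 2) R)) (t : G) (ht : orderOf t = 2) (htS : t ∈ S) : ∃ n ∈ Subgroup.normalizer ((S : Subgroup G) : Set G), n * t * n⁻¹ ∈ R := by
  haveI : Fact (Nat.Prime 2) := ⟨Nat.prime_two⟩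
  haveI := hS
  by_contra hcon
  push Not at hcon
  have ht2 : t ^ 2 = 1 := ht ▸ pow_orderOf_eq_one t
  obtain ⟨E, hE⟩ : ∃ E : Subgroup ↥(S : Subgroup G), ∀ x, x ∈ E ↔ x ^ 2 = 1 :=
    ⟨(powMonoidHom 2 : ↥(S : Subgroup G) →* ↥(S : Subgroup G)).ker, fun x => by
      rw [MonoidHom.mem_ker]; rfl⟩
  obtain ⟨E0, hE0⟩ : ∃ E0 : Subgroup ↥(S : Subgroup G), E0 = E ⊓ R.subgroupOf S := ⟨_, rfl⟩
  have hS1 := (prankLE_subgroup_iff 2 r (S : Subgroup G)).mp hSr.1
  have hS2 := hSr.2
  rw [prankLE_subgroup_iff] at hS2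
  push Not at hS2
  obtain ⟨A1, hA1S, hA1c, hA1e, hA1card⟩ := hS2
  have hR1 := (prankLE_subgroup_iff 2 (r - 1) R).mp hRr.1
  have hcommS : ∀ x y : ↥(S : Subgroup G), (x : G) * (y : G) = (y : G) * (x : G) := fun x y =>
    congrArg Subtype.val (mul_comm x y)
  have hexpE : ∀ x ∈ E, (x : G) ^ 2 = 1 := by
    intro x hx
    have h1 := (hE x).mp hx
    have h2 := congrArg (fun z : ↥(S : Subgroup G) => (z : G)) h1
    simpa using h2
  have hEcard_le : Nat.card E ≤ 2 ^ r := by
    rw [← Subgroup.card_map_of_injective (S : Subgroup G).subtype_injective]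
    apply hS1
    · rintro _ ⟨x, _, rfl⟩; exact x.2
    · rintro _ ⟨x, _, rfl⟩ _ ⟨y, _, rfl⟩
      exact hcommS x y
    · rintro _ ⟨x, hx, rfl⟩
      exact hexpE x hx
  have hEcard_gt : 2 ^ (r - 1) < Nat.card E := by
    have h1 : A1.subgroupOf S ≤ E := by
      intro x hx
      rw [hE]
      apply Subtype.ext
      have := hA1e (x : G) (Subgroup.mem_subgroupOf.mp hx)
      simpa using this
    calc 2 ^ (r - 1) < Nat.card A1 := hA1card
      _ = Nat.card (A1.subgroupOf S) :=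
          (Nat.card_congr (Subgroup.subgroupOfEquivOfLe hA1S).toEquiv).symm
      _ ≤ Nat.card E := Subgroup.card_le_of_le h1
  obtain ⟨k, hk⟩ := (S.2.to_subgroup E).exists_card_eq
  have hkr : k = r := by
    rw [hk] at hEcard_le hEcard_gt
    have h1 : k ≤ r := (Nat.pow_le_pow_iff_right (by norm_num)).mp hEcard_le
    have h2 : r - 1 < k := (Nat.pow_lt_pow_iff_right (by norm_num)).mp hEcard_gt
    omega
  have hE0le : E0 ≤ E := hE0 ▸ inf_le_left
  have hE0card_le : Nat.card E0 ≤ 2 ^ (r - 1) := by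
    rw [← Subgroup.card_map_of_injective (S : Subgroup G).subtype_injective]
    apply hR1
    · rintro _ ⟨x, hx, rfl⟩
      rw [hE0] at hx
      exact Subgroup.mem_subgroupOf.mp (Subgroup.mem_inf.mp hx).2
    · rintro _ ⟨x, _, rfl⟩ _ ⟨y, _, rfl⟩
      exact hcommS x y
    · rintro _ ⟨x, hx, rfl⟩
      exact hexpE x (hE0le hx)
  have hE0card : Nat.card E0 = 2 ^ (r - 1) := by
    obtain ⟨j, hj⟩ := (S.2.to_subgroup E0).exists_card_eq
    by_cases hr : r = 1
    · subst hr
      simp only [Nat.sub_self, pow_zero] at hE0card_le ⊢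
      have : 0 < Nat.card E0 := Nat.card_pos
      omega
    · rcases hRr.2 with h | h
      · exact absurd h hr
      · rw [prankLE_subgroup_iff] at h
        push Not at h
        obtain ⟨A2, hA2R, hA2c, hA2e, hA2card⟩ := h
        have h1 : A2.subgroupOf S ≤ E0 := by
          intro x hx
          have hx' : (x : G) ∈ A2 := Subgroup.mem_subgroupOf.mp hx
          rw [hE0]
          refine Subgroup.mem_inf.mpr ⟨?_, Subgroup.mem_subgroupOf.mpr (hA2R hx')⟩
          rw [hE]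
          apply Subtype.ext
          simpa using hA2e _ hx'
        have h2 : 2 ^ (r - 2) < Nat.card E0 :=
          calc 2 ^ (r - 2) < Nat.card A2 := hA2card
            _ = Nat.card (A2.subgroupOf S) :=
              (Nat.card_congr (Subgroup.subgroupOfEquivOfLe (hA2R.trans hRS)).toEquiv).symm
            _ ≤ Nat.card E0 := Subgroup.card_le_of_le h1
        rw [hj] at h2 hE0card_le ⊢
        have h3 : j ≤ r - 1 := (Nat.pow_le_pow_iff_right (by norm_num)).mp hE0card_le
        have h4 : r - 2 < j := (Nat.pow_lt_pow_iff_right (by norm_num)).mp h2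
        have h5 : j = r - 1 := by omega
        rw [h5]
  have hidx : E0.relIndex E = 2 := by
    have h1 := Subgroup.relIndex_mul_relIndex (⊥ : Subgroup ↥(S : Subgroup G)) E0 E bot_le hE0le
    rw [Subgroup.relIndex_bot_left, Subgroup.relIndex_bot_left, hE0card, hk, hkr] at h1
    obtain ⟨m, rfl⟩ : ∃ m, r = m + 1 := ⟨r - 1, by omega⟩
    simp only [Nat.add_sub_cancel] at h1
    rw [pow_succ] at h1
    exact Nat.eq_of_mul_eq_mul_left (by positivity) h1
  -- the normalizer and the orbit product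
  obtain ⟨N, hN⟩ : ∃ N : Subgroup G, N = Subgroup.normalizer ((S : Subgroup G) : Set G) :=
    ⟨_, rfl⟩
  have hconjS : ∀ n ∈ N, ∀ x ∈ (S : Subgroup G), n * x * n⁻¹ ∈ (S : Subgroup G) := by
    intro n hn x hx
    rw [hN] at hn
    exact (Subgroup.mem_normalizer_iff.mp hn x).mp hx
  obtain ⟨K, hK⟩ : ∃ K : Subgroup ↥N, K = (S : Subgroup G).subgroupOf N := ⟨_, rfl⟩
  have hKmem : ∀ x : ↥N, x ∈ K ↔ (x : G) ∈ (S : Subgroup G) := fun x => by
    rw [hK]; exact Subgroup.mem_subgroupOf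
  letI : Fintype (↥N ⧸ K) := Fintype.ofFinite _
  obtain ⟨f, hf⟩ : ∃ f : ↥N ⧸ K → ↥(S : Subgroup G),
      ∀ q, (f q : G) = (q.out : G) * t * (q.out : G)⁻¹ :=
    ⟨fun q => ⟨_, hconjS _ q.out.2 t htS⟩, fun q => rfl⟩
  obtain ⟨u, hu⟩ : ∃ u : ↥(S : Subgroup G), u = ∏ q, f q := ⟨_, rfl⟩
  have hfE : ∀ q ∈ (Finset.univ : Finset (↥N ⧸ K)), f q ∈ E ∧ f q ∉ E0 := by
    intro q _
    constructor
    · rw [hE]
      apply Subtype.ext
      rw [Subgroup.coe_pow, hf, conj_pow, ht2]
      simp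
    · intro hq
      rw [hE0] at hq
      have h1 : (f q : G) ∈ R := Subgroup.mem_subgroupOf.mp (Subgroup.mem_inf.mp hq).2
      rw [hf] at h1
      exact hcon _ (hN ▸ q.out.2) h1
  have hpar := prod_mem_iff_even E E0 hidx Finset.univ f hfE
  rw [← hu] at hpar
  have hodd : ¬ Even (Finset.univ : Finset (↥N ⧸ K)).card := by
    rw [Finset.card_univ, ← Nat.card_eq_fintype_card, ← Subgroup.index_eq_card, hK]
    intro hev
    have h1 : ((S : Subgroup G).subgroupOf N).index ∣ (S : Subgroup G).index := by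
      have h2 := Subgroup.relIndex_mul_index (H := (S : Subgroup G)) (K := N)
        (hN ▸ Subgroup.le_normalizer)
      exact Dvd.intro _ h2
    exact S.not_dvd_index ((even_iff_two_dvd.mp hev).trans h1)
  have hstep : ∀ (n : ↥N) (q : ↥N ⧸ K), (f (n • q) : G) = (n : G) * (f q : G) * (n : G)⁻¹ := by
    intro n q
    rw [hf, hf]
    have h1 : n • q = QuotientGroup.mk (n * q.out) := by
      conv_lhs => rw [← QuotientGroup.out_eq' q]
      rfl
    obtain ⟨k, hk⟩ := QuotientGroup.mk_out_eq_mul K (n * q.out)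
    rw [h1, hk]
    have hkS : ((k : ↥N) : G) ∈ (S : Subgroup G) := (hKmem k).mp k.2
    have hcomm : ((k : ↥N) : G) * t = t * ((k : ↥N) : G) :=
      hcommS ⟨_, hkS⟩ ⟨t, htS⟩
    simp only [Subgroup.coe_mul, mul_inv_rev, mul_assoc]
    rw [← mul_assoc ((k : ↥N) : G) t, hcomm, mul_assoc, mul_inv_cancel_left]
  have hinv : ∀ n ∈ N, n * (u : G) * n⁻¹ = (u : G) := by
    intro n hn
    obtain ⟨c, hc⟩ : ∃ c : ↥(S : Subgroup G) →* ↥(S : Subgroup G),
        ∀ x, (c x : G) = n * (x : G) * n⁻¹ :=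
      ⟨{ toFun := fun x => ⟨n * x * n⁻¹, hconjS n hn x x.2⟩
         map_one' := by apply Subtype.ext; simp
         map_mul' := fun x y => by apply Subtype.ext; simp [mul_assoc] }, fun x => rfl⟩
    have h1 : c u = ∏ q, c (f q) := by rw [hu]; exact map_prod c f Finset.univ
    have h2 : ∏ q, c (f q) = ∏ q, f ((⟨n, hn⟩ : ↥N) • q) :=
      Finset.prod_congr rfl (fun q _ => Subtype.ext (by rw [hc, hstep ⟨n, hn⟩ q]))
    have h3 : ∏ q, f ((⟨n, hn⟩ : ↥N) • q) = ∏ q, f q :=
      Fintype.prod_equiv (MulAction.toPerm (⟨n, hn⟩ : ↥N)) _ _ (fun q => rfl)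
    have h4 : c u = u := by rw [h1, h2, h3, hu]
    rw [← hc u, h4]
  have hu1 : (u : G) = 1 :=
    eq_one_of_central_normalizer hG S (u : G) u.2 (by rw [← hN]; exact hinv)
  have hu1' : u = 1 := Subtype.ext hu1
  exact hodd (hpar.2.mp (hu1' ▸ E0.one_mem))

end Cfsg.Agent.S1244
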