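import Mathlib
import Cfsg.Statements.S1246
import Cfsg.Agent.Lib_helper7_Local

set_option autoImplicit false
open Cfsg
open Cfsg.Agent.helper7

namespace Cfsg.Agent.S1246

theorem fstarOf_pGroup_iff {G : Type*} [Group G] [Finite G] {p : ℕ} (hp : p.Prime)
    (K : Subgroup G) : IsPGroup p ↥(fstarOf K) ↔ fstarOf K = piCoreIn {p} K := by
  constructor
  · intro h
    apply le_antisymm
    · exact le_radOf (fstarOf_le K) (fstarOf_normal K) ((isPGroup_iff_piGrp hp).1 h)
    · exact (piCoreIn_le_fitOf hp K).trans le_sup_right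
  · intro h
    rw [h]
    exact piCoreIn_isPGroup hp K

theorem aux {G : Type*} [Group G] [Finite G] {p : ℕ} (hp : p.Prime) (U : Subgroup G)
    (hU : IsPGroup p ↥U) :
    ∀ (n : ℕ) (V : Subgroup G), V ≤ U → Nat.card ↥U - Nat.card ↥V = n →
      fstarOf (Subgroup.centralizer (V : Set G)) = piCoreIn {p} (Subgroup.centralizer (V : Set G)) →
      fstarOf (Subgroup.centralizer (U : Set G)) = piCoreIn {p} (Subgroup.centralizer (U : Set G)) := by
  haveI : Fact p.Prime := ⟨hp⟩
  intro n
  induction n using Nat.strong_induction_on with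
  | _ n ih =>
  intro V hVU hn hV
  by_cases hVeq : V = U
  · rw [← hVeq]; exact hV
  have hlt : V < U := lt_of_le_of_ne hVU hVeq
  -- normalizers grow
  haveI : Group.IsNilpotent ↥U := hU.isNilpotent
  have nc := Group.normalizerCondition_of_isNilpotent (G := ↥U)
  have hlt' : V.subgroupOf U < ⊤ := by
    rw [lt_top_iff_ne_top]
    intro h
    rw [Subgroup.subgroupOf_eq_top] at h
    exact (not_le_of_gt hlt) h
  have h1 := nc _ hlt'
  rw [← Subgroup.subgroupOf_normalizer_eq hVU] at h1
  obtain ⟨x, hx, hx'⟩ := SetLike.exists_of_lt h1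
  have hxN : (x : G) ∈ Subgroup.normalizer (V : Set G) := hx
  have hxV : (x : G) ∉ V := hx'
  set V₁ : Subgroup G := U ⊓ Subgroup.normalizer (V : Set G) with hV₁
  have hVV₁ : V ≤ V₁ := le_inf hVU Subgroup.le_normalizer
  have hV₁U : V₁ ≤ U := inf_le_left
  have hxV₁ : (x : G) ∈ V₁ := Subgroup.mem_inf.2 ⟨x.2, hxN⟩
  have hcardlt : Nat.card ↥V < Nat.card ↥V₁ := by
    apply card_lt_of_lt hVV₁
    intro h
    rw [← h] at hxV₁
    exact hxV hxV₁
  have hcardle : Nat.card ↥V₁ ≤ Nat.card ↥U := Subgroup.card_le_of_le hV₁U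
  have hstep : fstarOf (Subgroup.centralizer (V₁ : Set G)) =
      piCoreIn {p} (Subgroup.centralizer (V₁ : Set G)) := by
    apply fstarOf_local hp hV (hU.to_le hV₁U)
    · exact inf_le_right.trans (normalizer_le_normalizer_centralizer V)
    · exact Subgroup.centralizer_le hVV₁
    · exact inf_le_right
    · exact Subgroup.centralizer_le_normalizer _
    · exact inf_le_left
  exact ih (Nat.card ↥U - Nat.card ↥V₁) (by omega) V₁ hV₁U rfl hstep

/-- Let V ≤ U be p-subgroups of the finite group G. If the generalized Fitting subgroup of C_G(V) is a p-group, then so is that of C_G(U). -/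
theorem result {G : Type*} [Group G] [Finite G] {p : ℕ} [Fact p.Prime] (U V : Subgroup G) (hVU : V ≤ U) (hU : IsPGroup p U) (hV : IsPGroup p ↥(Cfsg.generalizedFittingSubgroup ↥(Subgroup.centralizer (V : Set G)))) : IsPGroup p ↥(Cfsg.generalizedFittingSubgroup ↥(Subgroup.centralizer (U : Set G))) := by
  have hp : p.Prime := Fact.out
  rw [← isPGroup_map_subtype_iff, map_generalizedFittingSubgroup_eq, fstarOf_pGroup_iff hp] at hV ⊢
  exact aux hp U hU _ V hVU rfl hV

end Cfsg.Agent.S1246
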