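import Mathlib
import Cfsg.Statements.S1248
import Cfsg.Agent.Lib_helper17_U3c

set_option autoImplicit false
open Cfsg

namespace Cfsg.Agent.S1248

open Cfsg.Agent.helper17

theorem result {F : Type*} [Field F] [Fintype F] (hF : Fintype.card F = 16) (S : Sylow 2 (Cfsg.PSU 3 F 4)) : Nat.card S = 64 ∧ IsKleinFour (Subgroup.center (S : Subgroup (Cfsg.PSU 3 F 4))) ∧ Subgroup.center (S : Subgroup (Cfsg.PSU 3 F 4)) = Subgroup.closure {x : (S : Subgroup (Cfsg.PSU 3 F 4)) | orderOf x = 2} ∧ Subgroup.center (S : Subgroup (Cfsg.PSU 3 F 4)) = commutator (S : Subgroup (Cfsg.PSU 3 F 4)) ∧ Nat.card ((S : Subgroup (Cfsg.PSU 3 F 4)) ⧸ Subgroup.center (S : Subgroup (Cfsg.PSU 3 F 4))) = 16 ∧ ∀ x : (S : Subgroup (Cfsg.PSU 3 F 4)) ⧸ Subgroup.center (S : Subgroup (Cfsg.PSU 3 F 4)), x ^ 2 = 1 := by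
  have hF' : Fintype.card F = (2 ^ 2) ^ 2 := by rw [hF]; norm_num
  have h0 : U3.Hyp F (2 ^ 2) := U3.Hyp.of_pow hF'
  have h : U3.Hyp F 4 := by
    have : (2 : ℕ) ^ 2 = 4 := by norm_num
    rwa [this] at h0
  obtain ⟨c⟩ := U3.exists_coord h (n := 2) (by norm_num) S
  haveI := c.finite h
  have hcard := c.card_eq h
  have hcen := c.card_center h
  have hsq : ∀ x : ↥(S : Subgroup (Cfsg.PSU 3 F 4)), x ^ 2 = 1 ↔ x ∈ Subgroup.center ↥(S : Subgroup (Cfsg.PSU 3 F 4)) := by
    intro x
    rw [pow_two]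
    exact c.mul_self_eq_one_iff_mem_center h x
  refine ⟨by rw [hcard]; norm_num, ⟨hcen, ?_⟩, ?_, ?_, by rw [c.card_quot_center h]; norm_num,
    c.quot_sq h⟩
  · -- exponent two
    have hdvd : Monoid.exponent (Subgroup.center ↥(S : Subgroup (Cfsg.PSU 3 F 4))) ∣ 2 := by
      apply Monoid.exponent_dvd_of_forall_pow_eq_one
      intro z
      apply Subtype.ext
      rw [Subgroup.coe_pow, Subgroup.coe_one]
      exact (hsq z.1).mpr z.2
    rcases (Nat.dvd_prime Nat.prime_two).mp hdvd with h1 | h2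
    · exfalso
      rw [Monoid.exp_eq_one_iff] at h1
      have : Nat.card (Subgroup.center ↥(S : Subgroup (Cfsg.PSU 3 F 4))) ≤ 1 :=
        Finite.card_le_one_iff_subsingleton.mpr h1
      omega
    · exact h2
  · apply le_antisymm
    · intro z hz
      by_cases hz1 : z = 1
      · rw [hz1]; exact Subgroup.one_mem _
      · apply Subgroup.subset_closure
        exact orderOf_eq_prime ((hsq z).mpr hz) hz1
    · rw [Subgroup.closure_le]
      intro x hx
      have hx2 : orderOf x = 2 := hx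
      apply (hsq x).mp
      have := pow_orderOf_eq_one x
      rwa [hx2] at this
  · apply le_antisymm
    · intro z hz
      obtain ⟨x, y, hxy⟩ := c.exists_comm_eq h z hz
      rw [commutator_def, ← hxy]
      exact Subgroup.commutator_mem_commutator (Subgroup.mem_top x) (Subgroup.mem_top y)
    · rw [commutator_def, Subgroup.commutator_le]
      intro x _ y _
      rw [commutatorElement_def, c.mem_center_iff h]
      exact c.α_comm h x y

end Cfsg.Agent.S1248
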