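import Mathlib
import Cfsg.Statements.S1249

set_option autoImplicit false
open Cfsg
open scoped Pointwise

namespace Cfsg.Agent.S1249

/-- Let P and Q be Sylow p-subgroups of the finite group G both containing the subgroup A. If A is strongly closed in P, then A is strongly closed in Q. -/
theorem result {G : Type*} [Group G] [Finite G] {p : ℕ} [Fact p.Prime] (P Q : Sylow p G) (A : Subgroup G) (hAQ : A ≤ Q) (hA : Cfsg.IsStronglyClosed A (P : Subgroup G)) : Cfsg.IsStronglyClosed A (Q : Subgroup G) := by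
  obtain ⟨c, hc⟩ := MulAction.exists_smul_eq G P Q
  have hQ : ∀ x : G, x ∈ (Q : Subgroup G) ↔ c⁻¹ * x * c ∈ (P : Subgroup G) := by
    intro x
    rw [← hc, Sylow.coe_subgroup_smul, Subgroup.mem_pointwise_smul_iff_inv_smul_mem]
    simp [MulAut.smul_def, MulAut.conj_apply]
  obtain ⟨hAP, hcl⟩ := hA
  -- step 1: conjugation by c⁻¹ maps A into A
  have h1 : ∀ a ∈ A, c⁻¹ * a * c ∈ A := by
    intro a ha
    have := hcl a ha c⁻¹
    simp only [inv_inv] at this
    exact this ((hQ a).1 (hAQ ha))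
  -- by finiteness it is onto
  have h2 : ∀ y ∈ A, c * y * c⁻¹ ∈ A := by
    let f : A → A := fun a => ⟨c⁻¹ * a * c, h1 a a.2⟩
    have hinj : Function.Injective f := by
      intro a b hab
      have : c⁻¹ * (a : G) * c = c⁻¹ * (b : G) * c := congrArg Subtype.val hab
      apply Subtype.ext
      simpa using this
    have hsurj : Function.Surjective f := Finite.injective_iff_surjective.1 hinj
    intro y hy
    obtain ⟨a, ha⟩ := hsurj ⟨y, hy⟩
    have : c⁻¹ * (a : G) * c = y := congrArg Subtype.val ha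
    have : c * y * c⁻¹ = a := by rw [← this]; group
    rw [this]; exact a.2
  refine ⟨hAQ, ?_⟩
  intro x hx g hg
  have h3 : c⁻¹ * (g * x * g⁻¹) * c ∈ (P : Subgroup G) := (hQ _).1 hg
  have h4 : (c⁻¹ * g) * x * (c⁻¹ * g)⁻¹ ∈ A := by
    apply hcl x hx
    have : (c⁻¹ * g) * x * (c⁻¹ * g)⁻¹ = c⁻¹ * (g * x * g⁻¹) * c := by group
    rw [this]; exact h3
  have := h2 _ h4
  have e : c * ((c⁻¹ * g) * x * (c⁻¹ * g)⁻¹) * c⁻¹ = g * x * g⁻¹ := by group
  rwa [e] at this

end Cfsg.Agent.S1249
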