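import Mathlib
import Cfsg.Statements.S1250

set_option autoImplicit false
open Cfsg
open scoped Pointwise

namespace Cfsg.Agent.S1250

/-- A `p`-element of a subgroup `H` containing the Sylow subgroup `S` is `H`-conjugate into `S`. -/
theorem conj_into_sylow {G : Type*} [Group G] [Finite G] {p : ℕ} [Fact p.Prime]
    (S : Sylow p G) (H : Subgroup G) (hSH : (S : Subgroup G) ≤ H) (X : Subgroup G) (hXH : X ≤ H)
    (hXp : IsPGroup p X) :
    ∃ c ∈ H, ∀ y ∈ X, c * y * c⁻¹ ∈ (S : Subgroup G) := by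
  have hX' : IsPGroup p (X.subgroupOf H) := hXp.comap_subtype
  obtain ⟨R, hR⟩ := hX'.exists_le_sylow
  obtain ⟨c, hc⟩ := MulAction.exists_smul_eq H R (S.subtype hSH)
  refine ⟨c, c.2, ?_⟩
  intro y hy
  have h1 : (⟨y, hXH hy⟩ : H) ∈ (R : Subgroup H) := hR (by rw [Subgroup.mem_subgroupOf]; exact hy)
  have h2 : MulAut.conj c • (⟨y, hXH hy⟩ : H) ∈ MulAut.conj c • (R : Subgroup H) :=
    Subgroup.smul_mem_pointwise_smul _ _ _ h1
  rw [← Sylow.coe_subgroup_smul, hc] at h2
  rw [Sylow.coe_subtype, Subgroup.mem_subgroupOf] at h2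
  simpa [MulAut.smul_def] using h2

/-- Let S be a Sylow p-subgroup of the finite group G, A ≤ S strongly closed in S, and N a normal subgroup. Then the image of A in G ⧸ N is strongly closed in the image of S (which is a Sylow p-subgroup of G ⧸ N). -/
theorem result {G : Type*} [Group G] [Finite G] {p : ℕ} [Fact p.Prime] (S : Sylow p G) (A : Subgroup G) (hA : Cfsg.IsStronglyClosed A (S : Subgroup G)) (N : Subgroup G) [N.Normal] : Cfsg.IsStronglyClosed (A.map (QuotientGroup.mk' N)) ((S : Subgroup G).map (QuotientGroup.mk' N)) := by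
  obtain ⟨hAS, hcl⟩ := hA
  refine ⟨Subgroup.map_mono hAS, ?_⟩
  rintro _ ⟨a, ha, rfl⟩ gbar hg
  obtain ⟨g, rfl⟩ := QuotientGroup.mk'_surjective N gbar
  obtain ⟨s, hs, hsy⟩ := hg
  set y := g * a * g⁻¹ with hy
  have hsy' : QuotientGroup.mk' N s = QuotientGroup.mk' N y := by
    rw [hsy, hy]; simp
  -- y ∈ S ⊔ N
  have hyH : y ∈ (S : Subgroup G) ⊔ N := by
    have h1 : s⁻¹ * y ∈ N := by
      have := QuotientGroup.eq.1 hsy'
      exact this
    have : y = s * (s⁻¹ * y) := by group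
    rw [this]
    exact Subgroup.mul_mem_sup hs h1
  -- zpowers y is a p-group
  have hyp : IsPGroup p (Subgroup.zpowers y) := by
    have hap : IsPGroup p (Subgroup.zpowers a) := (S.2.to_le hAS).to_le (by
      rw [Subgroup.zpowers_le]; exact ha)
    have : Subgroup.zpowers y = (Subgroup.zpowers a).map (MulAut.conj g).toMonoidHom := by
      rw [MonoidHom.map_zpowers]; simp [hy, MulAut.conj_apply]
    rw [this]
    exact hap.map _
  obtain ⟨c, hcH, hc⟩ := conj_into_sylow S ((S : Subgroup G) ⊔ N) le_sup_left (Subgroup.zpowers y)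
    (by rw [Subgroup.zpowers_le]; exact hyH) hyp
  have hcy := hc y (Subgroup.mem_zpowers y)
  -- c = s' * n'
  have hcSN : c ∈ ((S : Subgroup G) : Set G) * (N : Set G) := by
    rw [← Subgroup.mul_normal]; exact hcH
  obtain ⟨s', hs', n', hn', rfl⟩ := Set.mem_mul.1 hcSN
  have h4 : n' * y * n'⁻¹ ∈ (S : Subgroup G) := by
    have : n' * y * n'⁻¹ = s'⁻¹ * (s' * n' * y * (s' * n')⁻¹) * s' := by group
    rw [this]
    exact Subgroup.mul_mem _ (Subgroup.mul_mem _ (Subgroup.inv_mem _ hs') hcy) hs'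
  have h5 : (n' * g) * a * (n' * g)⁻¹ ∈ A := by
    apply hcl a ha
    have : (n' * g) * a * (n' * g)⁻¹ = n' * y * n'⁻¹ := by rw [hy]; group
    rw [this]; exact h4
  refine ⟨(n' * g) * a * (n' * g)⁻¹, h5, ?_⟩
  have hn1 : (QuotientGroup.mk' N) n' = 1 := by
    rw [QuotientGroup.mk'_apply, QuotientGroup.eq_one_iff]; exact hn'
  simp only [map_mul, map_inv, hn1, one_mul]

end Cfsg.Agent.S1250
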