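import Cfsg.Statements.S1251
import Mathlib
import Cfsg.Agent.Lib_helper9_StrCl2

set_option autoImplicit false
open Cfsg

namespace Cfsg.Agent.S1251

/-- Let S be a Sylow 2-subgroup of the finite group G and A ≤ S strongly closed in S. If H is a subgroup normalized by A with no nontrivial normal subgroup of odd order and A ∩ H = 1, then A ≤ C_G(H). -/
theorem result {G : Type*} [Group G] [Finite G] (S : Sylow 2 G) (A : Subgroup G) (hA : Cfsg.IsStronglyClosed A (S : Subgroup G)) (H : Subgroup G) (hAH : A ≤ Subgroup.normalizer (H : Set G)) (hO : Cfsg.oddCore ↥H = ⊥) (hdisj : A ⊓ H = ⊥) : A ≤ Subgroup.centralizer (H : Set G) := by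
  classical
  haveI : Fact (Nat.Prime 2) := ⟨Nat.prime_two⟩
  set K : Subgroup G := H ⊔ A with hK
  have hHK : H ≤ K := le_sup_left
  have hAK : A ≤ K := le_sup_right
  have hKN : K ≤ Subgroup.normalizer (H : Set G) := sup_le Subgroup.le_normalizer hAH
  haveI hHn : (H.subgroupOf K).Normal := (Subgroup.normal_subgroupOf_iff_le_normalizer hHK).mpr hKN
  have hA2 : IsPGroup 2 A := S.2.to_le hA.1
  have hA'2 : IsPGroup 2 (A.subgroupOf K) := hA2.comap_subtype
  obtain ⟨T, hT⟩ := hA'2.exists_le_sylow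
  obtain ⟨g, hg⟩ := Cfsg.Agent.helper12.bs_pgroup_conj_into_sylow S ((T : Subgroup K).map K.subtype)
    (T.2.map _)
  have hAT'' : ∀ x ∈ A, x ∈ (T : Subgroup K).map K.subtype := by
    intro x hx
    exact ⟨⟨x, hAK hx⟩, hT (by rw [Subgroup.mem_subgroupOf]; exact hx), rfl⟩
  have hgA : ∀ x ∈ A, g * x * g⁻¹ ∈ A := fun x hx => hA.2 x hx g (hg x (hAT'' x hx))
  have hgA' : ∀ y ∈ A, g⁻¹ * y * g ∈ A := by
    let φ : A → A := fun x => ⟨g * x * g⁻¹, hgA x x.2⟩
    have hφ : Function.Injective φ := by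
      intro x y hxy
      have := congrArg Subtype.val hxy
      simp only [φ] at this
      exact Subtype.ext (mul_left_cancel (mul_right_cancel this))
    have hφs := Finite.surjective_of_injective hφ
    intro y hy
    obtain ⟨x, hx⟩ := hφs ⟨y, hy⟩
    have := congrArg Subtype.val hx
    simp only [φ] at this
    rw [← this]
    have e : g⁻¹ * (g * (x : G) * g⁻¹) * g = x := by group
    rw [e]; exact x.2
  have hsc : ∀ x ∈ A.subgroupOf K, ∀ k : K, k * x * k⁻¹ ∈ T → k * x * k⁻¹ ∈ A.subgroupOf K := by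
    intro x hx k hk
    rw [Subgroup.mem_subgroupOf] at hx ⊢
    have h1 : ((k * x * k⁻¹ : K) : G) ∈ (T : Subgroup K).map K.subtype := ⟨_, hk, rfl⟩
    have h2 := hg _ h1
    have e : g * ((k * x * k⁻¹ : K) : G) * g⁻¹ = (g * k) * (x : G) * (g * k)⁻¹ := by
      push_cast; group
    rw [e] at h2
    have h3 := hA.2 (x : G) hx (g * k) h2
    have h4 := hgA' _ h3
    have e2 : g⁻¹ * ((g * k) * (x : G) * (g * k)⁻¹) * g = ((k * x * k⁻¹ : K) : G) := by
      push_cast; group
    rw [e2] at h4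
    exact h4
  have htop : H.subgroupOf K ⊔ A.subgroupOf K = ⊤ := by
    rw [← Subgroup.subgroupOf_sup hHK hAK, Subgroup.subgroupOf_self]
  have hgen : ∀ k : K, ∃ h ∈ H.subgroupOf K, ∃ a ∈ A.subgroupOf K, k = h * a := by
    intro k
    have h1 : k ∈ ((H.subgroupOf K ⊔ A.subgroupOf K : Subgroup K) : Set K) := by
      rw [htop]; exact Subgroup.mem_top k
    rw [Subgroup.normal_mul] at h1
    obtain ⟨h, hh, a, ha, rfl⟩ := Set.mem_mul.mp h1
    exact ⟨h, hh, a, ha, rfl⟩
  have hdisj' : A.subgroupOf K ⊓ H.subgroupOf K = ⊥ := by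
    rw [eq_bot_iff]
    intro x hx
    have h1 : (x : G) ∈ A ⊓ H := ⟨Subgroup.mem_subgroupOf.mp hx.1, Subgroup.mem_subgroupOf.mp hx.2⟩
    rw [hdisj, Subgroup.mem_bot] at h1
    rw [Subgroup.mem_bot]
    exact Subtype.ext h1
  have hno : Cfsg.Agent.helper9.StrCl.NoOddNormal (H.subgroupOf K) :=
    Cfsg.Agent.helper9.StrCl.noOddNormal_subgroupOf H K hHK
      (Cfsg.Agent.helper9.StrCl.noOddNormal_of_oddCore H hO)
  have hmain := Cfsg.Agent.helper9.StrCl.commute_of_top T (A.subgroupOf K) (H.subgroupOf K) hT hsc hHn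
    hgen hdisj' hno
  intro a ha
  rw [Subgroup.mem_centralizer_iff]
  intro y hy
  have := hmain ⟨a, hAK ha⟩ (by rw [Subgroup.mem_subgroupOf]; exact ha) ⟨y, hHK hy⟩
    (by rw [Subgroup.mem_subgroupOf]; exact hy)
  exact (congrArg Subtype.val this).symm

end Cfsg.Agent.S1251
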