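import Cfsg.Statements.S1253
import Cfsg.Agent.Lib_helper18_Isolated

set_option autoImplicit false
open Cfsg

namespace Cfsg.Agent.S1253

/-- Let z be an isolated involution of the finite group G with centralizer C, p an odd prime and P a Sylow p-subgroup of G normalized by z. Then P ∩ C has p-power-free index in C (it is a Sylow p-subgroup of C), and |P : C_P(z)| equals the number of elements x ∈ P with z x z⁻¹ = x⁻¹. -/
theorem result {G : Type*} [Group G] [Finite G] (z : G) (hz : Cfsg.IsIsolatedInvolution z) {p : ℕ} [Fact p.Prime] (hp : p ≠ 2) (P : Sylow p G) (hzP : z ∈ Subgroup.normalizer ((P : Subgroup G) : Set G)) : ¬ p ∣ ((P : Subgroup G) ⊓ Subgroup.centralizer ({z} : Set G)).relIndex (Subgroup.centralizer ({z} : Set G)) ∧ ((P : Subgroup G) ⊓ Subgroup.centralizer ({z} : Set G)).relIndex (P : Subgroup G) = Nat.card {x : G // x ∈ P ∧ z * x * z⁻¹ = x⁻¹} := by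
  classical
  obtain ⟨N, hNn, hNodd, hN⟩ := Cfsg.Agent.helper12.zs_main _ G rfl z hz
  haveI := hNn
  have hpp : p.Prime := Fact.out
  have hz2 : z * z = 1 := by
    have := pow_orderOf_eq_one z
    rw [hz.1, pow_two] at this
    exact this
  have hPodd : Odd (Nat.card (P : Subgroup G)) := by
    obtain ⟨k, hk⟩ := P.2.exists_card_eq
    rw [hk]
    exact (hpp.odd_of_ne_two hp).pow
  refine ⟨?_, ?_⟩
  · intro hdiv
    set C : Subgroup G := Subgroup.centralizer ({z} : Set G) with hC
    have hCmem : ∀ x : G, x ∈ C ↔ z * x = x * z := by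
      intro x
      rw [hC, Subgroup.mem_centralizer_iff]
      simp
    set P₀ : Subgroup G := (P : Subgroup G) ⊓ C with hP₀
    have hP₀p : IsPGroup p P₀ := P.2.to_le inf_le_left
    obtain ⟨T, hP₀T, hTC, hTp, hTidx⟩ :=
      Cfsg.Agent.helper18.Isolated.exists_sylow_sub_ge C P₀ inf_le_right hP₀p
    have hTne : T ≠ P₀ := fun e => hTidx (e ▸ hdiv)
    have hzT : z ∈ Subgroup.normalizer (T : Set G) := by
      rw [Subgroup.mem_normalizer_iff]
      intro x
      constructor
      · intro hx
        have h1 := (hCmem x).mp (hTC hx)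
        have : z * x * z⁻¹ = x := by rw [h1]; group
        rw [this]; exact hx
      · intro hx
        have h1 := (hCmem _).mp (hTC hx)
        have : x = z * x * z⁻¹ := by
          calc x = z⁻¹ * (z * x * z⁻¹ * z) := by group
            _ = z⁻¹ * (z * (z * x * z⁻¹)) := by rw [h1]
            _ = z * x * z⁻¹ := by group
        rw [this]; exact hx
    obtain ⟨P₂, hTP₂, hP₂p, hzP₂, hmax⟩ :=
      Cfsg.Agent.helper18.Isolated.exists_max_invariant z T hTp hzT
    obtain ⟨P₂', hP₂'⟩ :=
      Cfsg.Agent.helper18.Isolated.sylow_of_max_invariant_odd z hz2 N hNodd hN hp P₂ hP₂p hzP₂ hmax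
    have hcard : Nat.card (P : Subgroup G) = Nat.card P₂ := by
      rw [← hP₂', Sylow.card_eq_multiplicity, Sylow.card_eq_multiplicity]
    have hidx : ¬ p ∣ P₂.relIndex ⊤ := by
      rw [Subgroup.relIndex_top_right, ← hP₂']
      exact P₂'.not_dvd_index
    obtain ⟨g, -, hg⟩ := Cfsg.Agent.helper18.Wagner.conj_of_sylow (R := ⊤) (Q := P₂)
      (Q' := (P : Subgroup G)) le_top le_top hP₂p hcard hidx
    have hzP₂g : z ∈ Subgroup.normalizer
        (((P : Subgroup G).map (MulAut.conj g).toMonoidHom : Subgroup G) : Set G) := by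
      rw [hg]; exact hzP₂
    obtain ⟨d, hdz, hd⟩ := Cfsg.Agent.helper18.Isolated.exists_centralizer_conj z hz2 N hNodd hN
      (P : Subgroup G) hzP g hzP₂g
    rw [hg] at hd
    have hle : T.map (MulAut.conj d⁻¹).toMonoidHom ≤ P₀ := by
      intro x hx
      rw [Cfsg.Agent.helper18.Wagner.mem_map_conj, inv_inv] at hx
      have hxP₂ : d * x * d⁻¹ ∈ P₂ := hTP₂ hx
      rw [← hd, Cfsg.Agent.helper18.Wagner.mem_map_conj] at hxP₂
      have e : d⁻¹ * (d * x * d⁻¹) * d = x := by group
      rw [e] at hxP₂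
      refine Subgroup.mem_inf.mpr ⟨hxP₂, ?_⟩
      rw [hCmem]
      have h1 := (hCmem _).mp (hTC hx)
      -- z commutes with d x d⁻¹ and with d
      calc z * x = d⁻¹ * (z * (d * x * d⁻¹)) * d := by
            have : z * d⁻¹ = d⁻¹ * z := by
              calc z * d⁻¹ = d⁻¹ * (d * z) * d⁻¹ := by group
                _ = d⁻¹ * (z * d) * d⁻¹ := by rw [hdz]
                _ = d⁻¹ * z := by group
            calc z * x = (z * d⁻¹) * (d * x) := by group
              _ = (d⁻¹ * z) * (d * x) := by rw [this]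
              _ = d⁻¹ * (z * (d * x * d⁻¹)) * d := by group
        _ = d⁻¹ * (d * x * d⁻¹ * z) * d := by rw [h1]
        _ = x * (d⁻¹ * (z * d)) := by group
        _ = x * (d⁻¹ * (d * z)) := by rw [hdz]
        _ = x * z := by group
    have hc : Nat.card T ≤ Nat.card P₀ := by
      rw [← Cfsg.Agent.helper18.Wagner.card_map_conj T d⁻¹]
      exact Nat.le_of_dvd Nat.card_pos (Subgroup.card_dvd_of_le hle)
    exact hTne (Subgroup.eq_of_le_of_card_ge hP₀T hc).symm
  · have h := Cfsg.Agent.helper18.Isolated.card_inverted z hz2 (P : Subgroup G) hzP hPodd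
    rw [h]
    rfl

end Cfsg.Agent.S1253
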