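import Cfsg.Statements.S1255
import Mathlib
import Cfsg.Agent.Lib_helper6_DihSyl4
-- import your own Cfsg.Agent.* helpers here

set_option autoImplicit false
open Cfsg

namespace Cfsg.Agent.S1255

open DihedralGroup Cfsg.Agent.helper6.DihSyl

/-- Let X be a finite group whose Sylow 2-subgroup S is dihedral of order 2m ≥ 4. Then X has no subgroup of index 2 and no isolated involution if and only if either all involutions of X are conjugate, or for every Klein four-subgroup U ≤ S the index |N_X(U) : C_X(U)| equals 3 when |S| = 4 and equals 6 when |S| > 4. -/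
theorem result {X : Type*} [Group X] [Finite X] (S : Sylow 2 X) (m : ℕ) (hm : 2 ≤ m) (eS : (S : Subgroup X) ≃* DihedralGroup m) : ((∀ H : Subgroup X, H.index ≠ 2) ∧ (∀ z : X, ¬ Cfsg.IsIsolatedInvolution z)) ↔ ((∀ a b : X, orderOf a = 2 → orderOf b = 2 → IsConj a b) ∨ (∀ U : Subgroup X, U ≤ S → IsKleinFour U → (Subgroup.centralizer (U : Set X)).relIndex (Subgroup.normalizer (U : Set X)) = (if Nat.card S = 4 then 3 else 6))) := by
  have hcard : Nat.card (S : Subgroup X) = 2 * m := by
    rw [Nat.card_congr eS.toEquiv, DihedralGroup.nat_card]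
  obtain ⟨n, hn⟩ := IsPGroup.iff_card.mp S.isPGroup'
  obtain ⟨k, hk1, rfl⟩ : ∃ k, 1 ≤ k ∧ m = 2 ^ k := by
    rw [hcard] at hn
    rcases n with _ | n
    · rw [pow_zero] at hn; omega
    · rw [pow_succ'] at hn
      have hm2 : m = 2 ^ n := by omega
      refine ⟨n, ?_, hm2⟩
      rcases n with _ | n
      · rw [pow_zero] at hm2; omega
      · omega
  constructor
  · rintro ⟨h2, hiso⟩
    left
    obtain ⟨hA, hB⟩ := fusion_of_simple eS hk1 h2 hiso
    intro a b ha hb
    exact (all_conj_of_fusion eS hk1 hA hB a ha).trans (all_conj_of_fusion eS hk1 hA hB b hb).symm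
  · intro h
    have hAB : IsConj (toG eS (sr 0)) (zG eS) ∧ IsConj (toG eS (sr 1)) (zG eS) := by
      rcases h with h | h
      · exact ⟨h _ _ (orderOf_sr' eS 0) (orderOf_zG eS hk1), h _ _ (orderOf_sr' eS 1) (orderOf_zG eS hk1)⟩
      · apply fusion_of_relIndex eS hk1
        intro U hU hK
        have := h U hU hK
        split_ifs at this
        · exact Or.inl this
        · exact Or.inr this
    exact ⟨no_index_two_of_fusion eS hAB.1 hAB.2, no_isolated_of_fusion eS hk1 hAB.1 hAB.2⟩

end Cfsg.Agent.S1255
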