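import Cfsg.Statements.S1256
import Mathlib
import Cfsg.Agent.Lib_helper6_DihSyl5
-- import your own Cfsg.Agent.* helpers here

set_option autoImplicit false
open Cfsg

namespace Cfsg.Agent.S1256

open DihedralGroup Cfsg.Agent.helper6.DihSyl Cfsg.Agent.helper10

/-- Let X be a finite group whose Sylow 2-subgroup S is dihedral of order 2m ≥ 4. If |S| = 4, any two Klein four-subgroups of X are conjugate; if |S| > 4, there are Klein four-subgroups U₁, U₂ of X that are not conjugate, and every Klein four-subgroup of X is conjugate to U₁ or to U₂. -/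
theorem result {X : Type*} [Group X] [Finite X] (S : Sylow 2 X) (m : ℕ) (hm : 2 ≤ m) (eS : (S : Subgroup X) ≃* DihedralGroup m) : (Nat.card S = 4 → ∀ U V : Subgroup X, IsKleinFour U → IsKleinFour V → (∃ x : X, U.map (MulAut.conj x).toMonoidHom = V)) ∧ (4 < Nat.card S → ∃ U₁ U₂ : Subgroup X, IsKleinFour U₁ ∧ IsKleinFour U₂ ∧ ¬ (∃ x : X, U₁.map (MulAut.conj x).toMonoidHom = U₂) ∧ ∀ V : Subgroup X, IsKleinFour V → (∃ x : X, V.map (MulAut.conj x).toMonoidHom = U₁) ∨ (∃ x : X, V.map (MulAut.conj x).toMonoidHom = U₂)) := by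
  have : Fact (Nat.Prime 2) := ⟨Nat.prime_two⟩
  have hcard : Nat.card (S : Subgroup X) = 2 * m := by
    rw [Nat.card_congr eS.toEquiv, DihedralGroup.nat_card]
  constructor
  · intro h4 U V hU hV
    have key : ∀ W : Subgroup X, IsKleinFour W →
        ∃ g : X, W.map (MulAut.conj g).toMonoidHom = (S : Subgroup X) := by
      intro W hW
      obtain ⟨g, hg⟩ := pgroup_conj_into_sylow S W (isPGroup_of_klein W hW)
      refine ⟨g, Subgroup.eq_of_le_of_card_ge hg ?_⟩
      rw [Subgroup.card_map_of_injective (MulAut.conj g).injective, hW.card_four, h4]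
    obtain ⟨g, hg⟩ := key U hU
    obtain ⟨h, hh⟩ := key V hV
    refine ⟨h⁻¹ * g, ?_⟩
    rw [map_conj_mul, hg, ← hh, map_conj_inv_map_conj]
  · intro h4
    obtain ⟨n, hn⟩ := IsPGroup.iff_card.mp S.isPGroup'
    obtain ⟨k, hk, rfl⟩ : ∃ k, 2 ≤ k ∧ m = 2 ^ k := by
      rw [hcard] at hn h4
      rcases n with _ | n
      · rw [pow_zero] at hn; omega
      · rw [pow_succ'] at hn
        have hm2 : m = 2 ^ n := by omega
        refine ⟨n, ?_, hm2⟩
        rcases n with _ | n
        · rw [pow_zero] at hm2; omega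
        · rcases n with _ | n
          · norm_num at hm2; omega
          · omega
    have hk1 : 1 ≤ k := by omega
    refine ⟨Ustd eS hk1 0, Ustd eS hk1 1, isKleinFour_Ustd eS hk1 0, isKleinFour_Ustd eS hk1 1, ?_, ?_⟩
    · rintro ⟨x, hx⟩
      exact Ustd_not_conj eS hk x hx
    · intro V hV
      exact klein_conj_std eS hk V hV

end Cfsg.Agent.S1256
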