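import Mathlib
import Cfsg.Statements.S1258
import Cfsg.Agent.Lib_helper7_QS

set_option autoImplicit false
open Cfsg
open scoped commutatorElement

namespace Cfsg.Agent.S1258

open Cfsg.Agent.helper7

/-- A normal subgroup maps to `⊥` or `⊤` in a simple central quotient. -/
theorem normal_cases {X : Type*} [Group X] (hs : IsSimpleGroup (X ⧸ Subgroup.center X))
    (N : Subgroup X) (hN : N.Normal) : N ≤ Subgroup.center X ∨ N ⊔ Subgroup.center X = ⊤ := by
  have hNn : (N.map (QuotientGroup.mk' (Subgroup.center X))).Normal :=
    hN.map _ (QuotientGroup.mk'_surjective _)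
  rcases hNn.eq_bot_or_eq_top with h | h
  · left
    rw [Subgroup.map_eq_bot_iff, QuotientGroup.ker_mk'] at h
    exact h
  · right
    have := Subgroup.comap_map_eq (QuotientGroup.mk' (Subgroup.center X)) N
    rw [h, Subgroup.comap_top, QuotientGroup.ker_mk'] at this
    exact this.symm

/-- If the central quotient of a finite group X is non-abelian simple, then X = X' Z(X) and the commutator subgroup X' is quasisimple. -/
theorem result {X : Type*} [Group X] [Finite X] (hs : IsSimpleGroup (X ⧸ Subgroup.center X)) (hna : ¬ IsMulCommutative (X ⧸ Subgroup.center X)) : commutator X ⊔ Subgroup.center X = ⊤ ∧ Cfsg.IsQuasisimple ↥(commutator X) := by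
  have hDn : (commutator X).Normal := inferInstance
  -- D is not central
  have hDZ : ¬ commutator X ≤ Subgroup.center X := by
    intro h
    apply hna
    refine ⟨⟨fun a b => ?_⟩⟩
    obtain ⟨a, rfl⟩ := QuotientGroup.mk'_surjective _ a
    obtain ⟨b, rfl⟩ := QuotientGroup.mk'_surjective _ b
    have hab : ⁅a, b⁆ ∈ Subgroup.center X :=
      h (by rw [commutator_def]; exact Subgroup.commutator_mem_commutator trivial trivial)
    have h1 : (QuotientGroup.mk' (Subgroup.center X)) ⁅a, b⁆ = 1 := by
      rw [QuotientGroup.mk'_apply, QuotientGroup.eq_one_iff]; exact hab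
    rw [commutatorElement_def] at h1
    simp only [map_mul, map_inv] at h1
    have : ∀ (u v : X ⧸ Subgroup.center X), u * v * u⁻¹ * v⁻¹ = 1 → u * v = v * u := by
      intro u v huv
      calc u * v = (u * v * u⁻¹ * v⁻¹) * v * u := by group
        _ = v * u := by rw [huv]; group
    exact this _ _ h1
  have h1 : commutator X ⊔ Subgroup.center X = ⊤ := by
    rcases normal_cases hs _ hDn with h | h
    · exact absurd h hDZ
    · exact h
  refine ⟨h1, ?_⟩
  rw [qs_sub_iff]
  have hperf : ⁅commutator X, commutator X⁆ = commutator X := by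
    apply le_antisymm (Subgroup.commutator_le_left _ _)
    calc commutator X = ⁅(⊤ : Subgroup X), ⊤⁆ := commutator_def X
      _ = ⁅commutator X ⊔ Subgroup.center X, commutator X ⊔ Subgroup.center X⁆ := by rw [h1]
      _ ≤ ⁅commutator X, commutator X⁆ := commutator_sup_center_le _
  refine ⟨hperf, ?_, ?_⟩
  · intro h
    apply hDZ
    rw [h]; exact bot_le
  · intro N hND hnorm
    -- N is normal in X
    have hNn : N.Normal := by
      rw [← Subgroup.normalizer_eq_top_iff, eq_top_iff, ← h1]
      apply sup_le hnorm
      intro z hz
      rw [Subgroup.mem_normalizer_iff]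
      intro n
      have : z * n * z⁻¹ = n := by
        have := (Subgroup.mem_center_iff.1 hz) n
        calc z * n * z⁻¹ = n * z * z⁻¹ := by rw [this]
          _ = n := by group
      rw [this]
    rcases normal_cases hs N hNn with h | h
    · right
      intro n hn
      have := h hn
      rw [Subgroup.mem_centralizer_iff]
      intro d _
      exact (Subgroup.mem_center_iff.1 this) d
    · left
      apply le_antisymm hND
      haveI := hNn
      calc commutator X = ⁅(⊤ : Subgroup X), ⊤⁆ := commutator_def X
        _ = ⁅N ⊔ Subgroup.center X, N ⊔ Subgroup.center X⁆ := by rw [h]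
        _ ≤ ⁅N, N⁆ := commutator_sup_center_le _
        _ ≤ N := Subgroup.commutator_le_left _ _

end Cfsg.Agent.S1258
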