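import Mathlib
import Cfsg.Statements.S1259
import Cfsg.Agent.Lib_helper7_QS

set_option autoImplicit false
open Cfsg

namespace Cfsg.Agent.S1259

/-- In a quasisimple group, every subnormal subgroup is either the whole group or central. -/
theorem result {X : Type*} [Group X] [Finite X] (hX : Cfsg.IsQuasisimple X) (H : Subgroup X) (hH : H.IsSubnormal) : H = ⊤ ∨ H ≤ Subgroup.center X := by
  have h := (Cfsg.Agent.helper7.qs_iff X).1 hX
  obtain ⟨_, _, hN⟩ := h
  induction hH with
  | top => left; rfl
  | step H K hle hK hn ih =>
    rcases ih with rfl | hK'
    · have : H.Normal := by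
        have := hn
        rw [Subgroup.normal_subgroupOf_iff_le_normalizer hle, top_le_iff,
          Subgroup.normalizer_eq_top_iff] at this
        exact this
      exact hN H this
    · right; exact hle.trans hK'

end Cfsg.Agent.S1259
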