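import Mathlib
import Cfsg.Statements.S1262
import Cfsg.Agent.Lib_helper7_Comp

set_option autoImplicit false
open Cfsg

namespace Cfsg.Agent.S1262

open Cfsg.Agent.helper7

/-- Let L be a component of the finite group G and H a solvable subgroup normalized by L. Then ⁅L, H⁆ = 1. -/
theorem result {G : Type*} [Group G] [Finite G] (L H : Subgroup G) (hL : Cfsg.IsComponent L) (hsolv : Group.IsSolvable ↥H) (hinv : L ≤ Subgroup.normalizer (H : Set G)) : ⁅L, H⁆ = ⊥ := by
  rw [isComponent_iff] at hL
  have hLM : Comp L (L ⊔ H) := hL.of_le le_sup_left le_top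
  have hHM : SN H (L ⊔ H) := SN.of_normal le_sup_right (sup_le hinv Subgroup.le_normalizer)
  exact hLM.comm_solvable hHM hsolv

end Cfsg.Agent.S1262
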