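import Mathlib
import Cfsg.Statements.S1263
import Cfsg.Agent.Lib_helper7_Prod

set_option autoImplicit false
open Cfsg

namespace Cfsg.Agent.S1263

open Cfsg.Agent.helper7

/-- For a finite group G, Z(E(G)) is the subgroup generated by the centres Z(L) of the components L of G (all viewed as subgroups of G). -/
theorem result {G : Type*} [Group G] [Finite G] : (Subgroup.center ↥(Cfsg.layer G)).map (Cfsg.layer G).subtype = ⨆ L : {K : Subgroup G // Cfsg.IsComponent K}, (Subgroup.center ↥(L : Subgroup G)).map (L : Subgroup G).subtype := by
  classical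
  rw [map_center_eq, layer_eq_layerOf]
  have hR : (⨆ L : {K : Subgroup G // Cfsg.IsComponent K},
      (Subgroup.center ↥(L : Subgroup G)).map (L : Subgroup G).subtype)
      = ⨆ i : {L : Subgroup G // Comp L ⊤}, (i.1 ⊓ Subgroup.centralizer (i.1 : Set G)) := by
    apply le_antisymm
    · apply iSup_le
      rintro ⟨L, hL⟩
      rw [map_center_eq]
      exact le_iSup (fun i : {L : Subgroup G // Comp L ⊤} =>
        (i.1 ⊓ Subgroup.centralizer (i.1 : Set G))) ⟨L, isComponent_iff.1 hL⟩
    · apply iSup_le
      rintro ⟨L, hL⟩
      have := le_iSup (fun L : {K : Subgroup G // Cfsg.IsComponent K} =>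
        (Subgroup.center ↥(L : Subgroup G)).map (L : Subgroup G).subtype) ⟨L, isComponent_iff.2 hL⟩
      rw [map_center_eq] at this
      exact this
  rw [hR]
  haveI : Fintype {L : Subgroup G // Comp L ⊤} := Fintype.ofFinite _
  apply le_antisymm
  · rw [layerOf_eq_iSup]
    exact center_iSup_le _ (comp_pairwise_commute ⊤)
  · apply iSup_le
    rintro ⟨L, hL⟩
    apply le_inf (inf_le_left.trans (comp_le_layerOf hL))
    intro x hx
    obtain ⟨hx1, hx2⟩ := Subgroup.mem_inf.1 hx
    -- the layer is contained in the centralizer of x
    have hle : layerOf (⊤ : Subgroup G) ≤ Subgroup.centralizer ({x} : Set G) := by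
      apply sSup_le
      intro L' hL'
      by_cases hne : L' = L
      · subst hne
        intro y hy
        rw [Subgroup.mem_centralizer_iff]
        intro z hz
        rw [Set.mem_singleton_iff] at hz
        subst hz
        rw [Subgroup.mem_centralizer_iff] at hx2
        exact (hx2 y hy).symm
      · have h1 : ⁅L', L⁆ = ⊥ := hL'.comm_of_ne hL hne
        have h2 : L' ≤ Subgroup.centralizer (L : Set G) :=
          Subgroup.commutator_eq_bot_iff_le_centralizer.1 h1
        intro y hy
        have := h2 hy
        rw [Subgroup.mem_centralizer_iff] at this ⊢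
        intro z hz
        rw [Set.mem_singleton_iff] at hz
        subst hz
        exact this z hx1
    rw [Subgroup.mem_centralizer_iff]
    intro y hy
    have := hle hy
    rw [Subgroup.mem_centralizer_iff] at this
    exact (this x (Set.mem_singleton x)).symm

end Cfsg.Agent.S1263
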