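import Mathlib
import Cfsg.Statements.S1266
import Cfsg.Agent.Lib_helper7_PQ2
import Cfsg.Agent.Lib_helper7_Quot
import Cfsg.Agent.Lib_helper7_Local
import Cfsg.Agent.Lib_helper7_Derived

set_option autoImplicit false
open Cfsg
open Cfsg.Agent.helper7

namespace Cfsg.Agent.S1266

/-- Let P be a p-subgroup of the finite group G and N = N_G(P). Then the preimage in N of E(N / O_{p'}(N)) centralizes O_p(G). -/
theorem result {G : Type*} [Group G] [Finite G] (p : ℕ) [Fact p.Prime] (P : Subgroup G) (hP : IsPGroup p ↥P) : (((Cfsg.layer (↥(Subgroup.normalizer ((P : Subgroup G) : Set G)) ⧸ Cfsg.pPrimeCore p ↥(Subgroup.normalizer ((P : Subgroup G) : Set G)))).comap (QuotientGroup.mk' (Cfsg.pPrimeCore p ↥(Subgroup.normalizer ((P : Subgroup G) : Set G))))).map (Subgroup.normalizer ((P : Subgroup G) : Set G)).subtype) ≤ Subgroup.centralizer (Cfsg.pCore p G : Set G) := by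
  have hp : p.Prime := Fact.out
  set N : Subgroup G := Subgroup.normalizer ((P : Subgroup G) : Set G) with hN
  set O' : Subgroup ↥N := Cfsg.pPrimeCore p ↥N with hO'
  set π := QuotientGroup.mk' O' with hπ
  have hsurj : Function.Surjective π := QuotientGroup.mk'_surjective _
  set M' : Subgroup ↥N := (Cfsg.layer (↥N ⧸ O')).comap π with hM'
  set M : Subgroup G := M'.map N.subtype with hM
  set Q : Subgroup G := Cfsg.pCore p G with hQ
  have hQeq : Q = piCoreIn {p} ⊤ := pCore_eq hp
  have hQp : IsPGroup p ↥Q := by rw [hQeq]; exact piCoreIn_isPGroup hp ⊤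
  have hQn : ∀ g : G, g ∈ Subgroup.normalizer (Q : Set G) := by
    intro g
    rw [Subgroup.normalizer_eq_top]
    exact Subgroup.mem_top g
  have hMN : M ≤ N := by
    rintro _ ⟨x, _, rfl⟩; exact x.2
  -- Step 1
  have step1 : ∀ R : Subgroup G, R ≤ N → N ≤ Subgroup.normalizer (R : Set G) → IsPGroup p ↥R →
      M ≤ Subgroup.centralizer (R : Set G) := by
    intro R hRN hRn hRp
    set R' : Subgroup ↥N := R.subgroupOf N with hR'
    haveI hR'n : R'.Normal := Subgroup.normal_subgroupOf_of_le_normalizer hRn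
    have hR'p : IsPGroup p ↥R' := hRp.comap_subtype
    have h1 : R'.map π ≤ Cfsg.pCore p (↥N ⧸ O') :=
      le_sSup ⟨Subgroup.Normal.map hR'n π hsurj, hR'p.map π⟩
    have h2 : Cfsg.layer (↥N ⧸ O') ≤
        Subgroup.centralizer ((Cfsg.pCore p (↥N ⧸ O') : Subgroup _) : Set _) := by
      rw [layer_eq_layerOf, pCore_eq hp]
      have := layerOf_comm_fitOf (⊤ : Subgroup (↥N ⧸ O'))
      exact (Subgroup.commutator_eq_bot_iff_le_centralizer.1 this).trans
        (Subgroup.centralizer_le (piCoreIn_le_fitOf hp ⊤))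
    have h3 : M'.map π ≤ Cfsg.layer (↥N ⧸ O') := Subgroup.map_comap_le _ _
    have h4 : (⁅M', R'⁆).map π = ⊥ := by
      rw [Subgroup.map_commutator, Subgroup.commutator_eq_bot_iff_le_centralizer]
      exact h3.trans (h2.trans (Subgroup.centralizer_le h1))
    have h5 : ⁅M', R'⁆ ≤ O' := by
      rw [Subgroup.map_eq_bot_iff, hπ, QuotientGroup.ker_mk'] at h4
      exact h4
    have h6 : ⁅M', R'⁆ ≤ R' := Subgroup.commutator_le_right M' R'
    have h7 : O' ⊓ R' = ⊥ := by
      apply Subgroup.inf_eq_bot_of_coprime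
      obtain ⟨k, hk⟩ := IsPGroup.iff_card.1 hR'p
      rw [hk]
      exact Nat.Coprime.pow_right k (pPrimeCore_coprime hp)
    have h8 : ⁅M', R'⁆ = ⊥ := by
      rw [eq_bot_iff, ← h7]; exact le_inf h5 h6
    have h9 : ⁅M, R⁆ = ⊥ := by
      have : ⁅M, R⁆ = (⁅M', R'⁆).map N.subtype := by
        rw [Subgroup.map_commutator, Subgroup.map_subgroupOf_eq_of_le hRN]
      rw [this, h8, Subgroup.map_bot]
    exact Subgroup.commutator_eq_bot_iff_le_centralizer.1 h9
  -- Step 2
  have hMP : M ≤ Subgroup.centralizer (P : Set G) := step1 P Subgroup.le_normalizer le_rfl hP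
  have hMQN : M ≤ Subgroup.centralizer ((Q ⊓ N : Subgroup G) : Set G) := by
    apply step1 (Q ⊓ N) inf_le_right _ (hQp.to_le inf_le_left)
    intro g hg
    apply Subgroup.inf_normalizer_le_normalizer_inf
    exact Subgroup.mem_inf.2 ⟨hQn g, Subgroup.le_normalizer hg⟩
  -- Step 3 : Thompson
  have hPM : P ≤ Subgroup.centralizer (M : Set G) := Subgroup.le_centralizer_iff.1 hMP
  have hC : Q ⊓ Subgroup.centralizer (P : Set G) ≤ Subgroup.centralizer (M : Set G) :=
    (inf_le_inf_left Q (Subgroup.centralizer_le_normalizer _)).trans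
      (Subgroup.le_centralizer_iff.1 hMQN)
  have hth : ∀ q : ℕ, q.Prime → q ≠ p → ∀ x ∈ M, ∀ k : ℕ, x ^ q ^ k = 1 →
      x ∈ Subgroup.centralizer (Q : Set G) := by
    intro q hq hqp x hx k hk
    exact thompson_PxQ_elt hP hQp hPM (fun g _ => hQn g) (fun g _ => hQn g) hC hq hqp hx hk
  -- the `p'`-core part
  set O : Subgroup G := O'.map N.subtype with hO
  have hO'M' : O' ≤ M' := by
    intro x hx
    rw [hM', Subgroup.mem_comap]
    have : π x = 1 := by
      rw [hπ, QuotientGroup.mk'_apply, QuotientGroup.eq_one_iff]; exact hx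
    rw [this]; exact Subgroup.one_mem _
  have hOM : O ≤ M := Subgroup.map_mono hO'M'
  have hOcop : (Nat.card ↥O).Coprime p := by
    rw [hO, card_map_subtype]
    exact pPrimeCore_coprime hp
  have hOQ : O ≤ Subgroup.centralizer (Q : Set G) := by
    apply le_of_prime_power_elts
    intro q hq x hx k hk
    by_cases hqp : q = p
    · subst hqp
      have h1 : orderOf x ∣ q ^ k := orderOf_dvd_of_pow_eq_one hk
      have h2 : orderOf x ∣ Nat.card ↥O := by
        have h2 : orderOf (⟨x, hx⟩ : ↥O) ∣ Nat.card ↥O := orderOf_dvd_natCard _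
        rwa [Subgroup.orderOf_mk] at h2
      have h3 : (orderOf x).Coprime (orderOf x) :=
        Nat.Coprime.coprime_dvd_left h2
          (Nat.Coprime.coprime_dvd_right h1 (Nat.Coprime.pow_right k hOcop))
      rw [Nat.coprime_self, orderOf_eq_one_iff] at h3
      rw [h3]
      exact Subgroup.one_mem _
    · exact hth q hq hqp x (hOM hx) k hk
  -- perfectness modulo the core
  have hperf' : M' ≤ ⁅M', M'⁆ ⊔ O' := by
    have h1 : M'.map π = Cfsg.layer (↥N ⧸ O') := Subgroup.map_comap_eq_self_of_surjective hsurj _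
    have h2 : (⁅M', M'⁆).map π = M'.map π := by
      rw [Subgroup.map_commutator, h1, layer_eq_layerOf, layerOf_perfect]
    have h3 : M' ≤ ((⁅M', M'⁆).map π).comap π := by
      rw [h2]; exact Subgroup.le_comap_map _ _
    rwa [Subgroup.comap_map_eq, hπ, QuotientGroup.ker_mk'] at h3
  have hperf : M ≤ ⁅M, M⁆ ⊔ Subgroup.centralizer (Q : Set G) := by
    have h1 : M ≤ (⁅M', M'⁆ ⊔ O').map N.subtype := Subgroup.map_mono hperf'
    rw [Subgroup.map_sup, Subgroup.map_commutator] at h1
    exact h1.trans (sup_le_sup_left hOQ _)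
  apply le_of_pprime_elts_of_perfect_mod (p := p) hperf _ hth
  intro g _
  exact normalizer_le_normalizer_centralizer Q (hQn g)

end Cfsg.Agent.S1266
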