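import Mathlib
import Cfsg.Statements.S1268
import Cfsg.Agent.Lib_helper7_Local

set_option autoImplicit false
open Cfsg
open Cfsg.Agent.helper7

namespace Cfsg.Agent.S1268

/-- Let G be finite with F*(G) = O_p(G). Then F*(N) = O_p(N) for N the normalizer of any p-subgroup P of G. -/
theorem result {G : Type*} [Group G] [Finite G] (p : ℕ) [Fact p.Prime] (h : Cfsg.generalizedFittingSubgroup G = Cfsg.pCore p G) (P : Subgroup G) (hP : IsPGroup p ↥P) : Cfsg.generalizedFittingSubgroup ↥(Subgroup.normalizer ((P : Subgroup G) : Set G)) = Cfsg.pCore p ↥(Subgroup.normalizer ((P : Subgroup G) : Set G)) := by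
  have hp : p.Prime := Fact.out
  apply Subgroup.map_injective (Subgroup.normalizer ((P : Subgroup G) : Set G)).subtype_injective
  rw [map_generalizedFittingSubgroup_eq, map_pCore_eq hp]
  rw [generalizedFittingSubgroup_eq, pCore_eq hp] at h
  apply fstarOf_local hp h hP
  · intro g _
    rw [Subgroup.normalizer_eq_top]
    exact Subgroup.mem_top g
  · exact le_top
  · exact inf_le_right.trans (Subgroup.centralizer_le_normalizer _)
  · exact le_rfl
  · have hPO : P ≤ piCoreIn {p} (Subgroup.normalizer ((P : Subgroup G) : Set G)) :=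
      le_radOf Subgroup.le_normalizer le_rfl ((isPGroup_iff_piGrp hp).1 hP)
    exact inf_le_right.trans (Subgroup.centralizer_le hPO)

end Cfsg.Agent.S1268
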