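import Mathlib
import Cfsg.Statements.S1273
import Cfsg.Agent.Lib_helper7_PComp

set_option autoImplicit false
open Cfsg
open Cfsg.Agent.helper7

namespace Cfsg.Agent.S1273

/-- Let K be a p-component of the finite group X and N a normal subgroup of K whose index in K is prime to p. Then N = K. -/
theorem result {X : Type*} [Group X] [Finite X] (p : ℕ) [Fact p.Prime] (K : Subgroup X) (hK : Cfsg.IsPComponent p K) (N : Subgroup ↥K) [N.Normal] (hidx : (N.index).Coprime p) : N = ⊤ := by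
  have hp : p.Prime := Fact.out
  have hMK : N.map K.subtype ≤ K := by
    rintro _ ⟨x, _, rfl⟩
    exact x.2
  have hn : K ≤ Subgroup.normalizer ((N.map K.subtype : Subgroup X) : Set X) := by
    intro k hk
    rw [Subgroup.mem_normalizer_iff]
    intro z
    constructor
    · rintro ⟨x, hx, rfl⟩
      refine ⟨⟨k, hk⟩ * x * ⟨k, hk⟩⁻¹, ?_, rfl⟩
      exact (inferInstance : N.Normal).conj_mem x hx ⟨k, hk⟩
    · rintro ⟨x, hx, hxz⟩
      refine ⟨⟨k, hk⟩⁻¹ * x * ⟨k, hk⟩, ?_, ?_⟩
      · have := (inferInstance : N.Normal).conj_mem x hx ⟨k, hk⟩⁻¹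
        simpa using this
      · have h1 : ((⟨k, hk⟩⁻¹ * x * ⟨k, hk⟩ : ↥K) : X) = k⁻¹ * (x : X) * k := rfl
        rw [Subgroup.subtype_apply, h1]
        have h2 : (x : X) = k * z * k⁻¹ := hxz
        rw [h2]; group
  have hpow : ∀ k ∈ K, k ^ N.index ∈ N.map K.subtype := by
    intro k hk
    exact ⟨⟨k, hk⟩ ^ N.index, N.pow_index_mem _, rfl⟩
  have := pcomp_eq_of_pprime_quotient hp hK hMK hn hidx hpow
  rw [eq_top_iff]
  intro x _
  have hx : (x : X) ∈ N.map K.subtype := by rw [this]; exact x.2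
  obtain ⟨y, hy, hyx⟩ := hx
  have : y = x := Subtype.ext hyx
  rw [← this]; exact hy

end Cfsg.Agent.S1273
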