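import Mathlib
import Cfsg.Statements.S1275
import Cfsg.Agent.Lib_helper7_PComp

set_option autoImplicit false
open Cfsg
open Cfsg.Agent.helper7

namespace Cfsg.Agent.S1275

theorem pPrimeCore_sub_eq {X : Type*} [Group X] [Finite X] {p : ℕ} (hp : p.Prime) {K : Subgroup X}
    (hsn : SN K ⊤) :
    Cfsg.pPrimeCore p ↥K = (QuotientGroup.mk' (Cfsg.pPrimeCore p X)).ker.subgroupOf K := by
  apply Subgroup.map_injective K.subtype_injective
  rw [map_pPrimeCore_of_sn hp hsn, ker_mk_pPrimeCore, ← Subgroup.inf_subgroupOf_right,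
    Subgroup.map_subgroupOf_eq_of_le inf_le_right]

/-- For a 2-component K of a finite group X, the quotient of K by its core O(K) is quasisimple. -/
theorem result {X : Type*} [Group X] [Finite X] (K : Subgroup X) (hK : Cfsg.IsPComponent 2 K) : Cfsg.IsQuasisimple (↥K ⧸ Cfsg.oddCore ↥K) := by
  have hp : Nat.Prime 2 := Nat.prime_two
  have hsn : SN K ⊤ := sn_top_iff.2 hK.1
  have hq : Cfsg.IsQuasisimple ↥(K.map (QuotientGroup.mk' (Cfsg.pPrimeCore 2 X))) := hK.2.1.2
  have e1 : ↥K ⧸ Cfsg.oddCore ↥K ≃*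
      ↥K ⧸ ((QuotientGroup.mk' (Cfsg.pPrimeCore 2 X)).ker.subgroupOf K) :=
    QuotientGroup.quotientMulEquivOfEq (pPrimeCore_sub_eq hp hsn)
  have e2 := quotientSubgroupOfKerEquivMap (QuotientGroup.mk' (Cfsg.pPrimeCore 2 X)) K
  exact qs_of_equiv (e1.trans e2).symm hq

end Cfsg.Agent.S1275
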