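import Mathlib
import Cfsg.Statements.S1276
import Cfsg.Agent.Lib_helper7_PComp

set_option autoImplicit false
open Cfsg
open Cfsg.Agent.helper7

namespace Cfsg.Agent.S1276

/-- Let K be a 2-component of the finite group X. Then K is quasisimple if and only if ⁅K, O(K)⁆ = 1. -/
theorem result {X : Type*} [Group X] [Finite X] (K : Subgroup X) (hK : Cfsg.IsPComponent 2 K) : Cfsg.IsQuasisimple ↥K ↔ ⁅K, ((Cfsg.oddCore ↥K).map K.subtype)⁆ = ⊥ := by
  have hp : Nat.Prime 2 := Nat.prime_two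
  have hsn : SN K ⊤ := sn_top_iff.2 hK.1
  rw [qs_iff_QS, pcomp_QS_iff hp hK]
  have : (Cfsg.oddCore ↥K).map K.subtype = Cfsg.pPrimeCore 2 X ⊓ K := map_pPrimeCore_of_sn hp hsn
  rw [this]

end Cfsg.Agent.S1276
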