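import Mathlib
import Cfsg.Statements.S1278
import Cfsg.Agent.Lib_helper7_PComp3

set_option autoImplicit false
open Cfsg
open Cfsg.Agent.helper7

namespace Cfsg.Agent.S1278

/-- Let K ≠ L be 2-components of the finite group X. Then ⁅K, L⁆ ≤ O(K) ⊓ O(L), and if K is quasisimple then ⁅K, L⁆ = 1. -/
theorem result {X : Type*} [Group X] [Finite X] (K L : Subgroup X) (hK : Cfsg.IsPComponent 2 K) (hL : Cfsg.IsPComponent 2 L) (hne : K ≠ L) : ⁅K, L⁆ ≤ ((Cfsg.oddCore ↥K).map K.subtype) ⊓ ((Cfsg.oddCore ↥L).map L.subtype) ∧ (Cfsg.IsQuasisimple ↥K → ⁅K, L⁆ = ⊥) := by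
  have hp : Nat.Prime 2 := Nat.prime_two
  obtain ⟨h1, h2, h3⟩ := isPComponent_iff.1 hK
  obtain ⟨h1', h2', h3'⟩ := isPComponent_iff.1 hL
  have e1 : (Cfsg.oddCore ↥K).map K.subtype = Cfsg.pPrimeCore 2 X ⊓ K := map_pPrimeCore_of_sn hp h1
  have e2 : (Cfsg.oddCore ↥L).map L.subtype = Cfsg.pPrimeCore 2 X ⊓ L := map_pPrimeCore_of_sn hp h1'
  have hmapne : K.map (QuotientGroup.mk' (Cfsg.pPrimeCore 2 X)) ≠
      L.map (QuotientGroup.mk' (Cfsg.pPrimeCore 2 X)) :=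
    fun h => hne (pcomp_eq_of_map_eq hp hK hL h)
  have hO : ⁅K, L⁆ ≤ Cfsg.pPrimeCore 2 X := by
    apply le_pPrimeCore_of_map_eq_bot
    rw [Subgroup.map_commutator]
    exact h2.comm_of_ne h2' hmapne
  have hKn : ⁅K, L⁆ ≤ K := comm_le_of_normal le_rfl (pcomp_le_normalizer hp hK hL)
  have hLn : ⁅K, L⁆ ≤ L := by
    rw [Subgroup.commutator_comm]
    exact comm_le_of_normal le_rfl (pcomp_le_normalizer hp hL hK)
  have hle : ⁅K, L⁆ ≤ Cfsg.pPrimeCore 2 X ⊓ K := le_inf hO hKn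
  refine ⟨?_, ?_⟩
  · rw [e1, e2]
    exact le_inf hle (le_inf hO hLn)
  · intro hqs
    have h4 : ⁅K, Cfsg.pPrimeCore 2 X ⊓ K⁆ = ⊥ := (pcomp_QS_iff hp hK).1 ((qs_iff_QS K).1 hqs)
    have hc : Cfsg.pPrimeCore 2 X ⊓ K ≤ Subgroup.centralizer (K : Set X) := by
      rw [Subgroup.commutator_comm] at h4
      exact Subgroup.commutator_eq_bot_iff_le_centralizer.1 h4
    have a1 : ⁅⁅K, L⁆, K⁆ = ⊥ := Subgroup.commutator_eq_bot_iff_le_centralizer.2 (hle.trans hc)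
    have a2 : ⁅⁅L, K⁆, K⁆ = ⊥ := by rw [Subgroup.commutator_comm L K]; exact a1
    have a3 : ⁅⁅K, K⁆, L⁆ = ⊥ := Subgroup.commutator_commutator_eq_bot_of_rotate a1 a2
    rwa [pcomp_perfect hK] at a3

end Cfsg.Agent.S1278
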