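import Mathlib
import Cfsg.Statements.S1279
import Cfsg.Agent.Lib_helper7_Balance2

set_option autoImplicit false
open Cfsg

namespace Cfsg.Agent.S1279

open Cfsg.Agent.helper7

/-- Let A be a noncyclic elementary abelian p-subgroup of the finite group G such that C_G(a) is solvable for every non-identity a ∈ A. Then a ↦ O_{p'}(C_G(a)) is a solvable A-signalizer functor on G. -/
theorem result {G : Type*} [Group G] [Finite G] (p : ℕ) [Fact p.Prime] (A : Subgroup G) (hA : Cfsg.IsElementaryAbelian p A) (hA2 : p ^ 2 ≤ Nat.card ↥A) (hsolv : ∀ a ∈ A, a ≠ 1 → Group.IsSolvable ↥(Subgroup.centralizer ({a} : Set G))) : Cfsg.IsSolvableSignalizerFunctor p A (fun a => Cfsg.centralizerPPrimeCore p a) := by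
  have hp : p.Prime := Fact.out
  have hcomm : ∀ a ∈ A, ∀ b ∈ A, a * b = b * a := by
    intro a ha b hb
    have := hA.1.is_comm.comm (⟨a, ha⟩ : ↥A) ⟨b, hb⟩
    exact congrArg Subtype.val this
  have hcop : ∀ a : G, (Nat.card ↥(Cfsg.centralizerPPrimeCore p a)).Coprime p := by
    intro a
    unfold Cfsg.centralizerPPrimeCore
    rw [card_map_subtype]
    exact pPrimeCore_coprime hp
  -- conjugation by elements of `C(a)` preserves `θ a`
  have hnorm : ∀ a : G, ∀ c ∈ Subgroup.centralizer ({a} : Set G),
      ∀ x ∈ Cfsg.centralizerPPrimeCore p a, c * x * c⁻¹ ∈ Cfsg.centralizerPPrimeCore p a := by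
    rintro a c hc _ ⟨x, hx, rfl⟩
    refine ⟨⟨c, hc⟩ * x * ⟨c, hc⟩⁻¹, ?_, rfl⟩
    exact (Cfsg.pPrimeCore_normal p _).conj_mem x hx ⟨c, hc⟩
  refine ⟨⟨?_, ?_, ?_, ?_⟩, ?_⟩
  · intro a _ _
    exact Subgroup.map_subtype_le _
  · intro a _ _
    have := hcop a
    rwa [Nat.coprime_comm, Nat.Prime.coprime_iff_not_dvd hp] at this
  · intro a ha _ b hb x hx
    apply hnorm a b _ x hx
    rw [Subgroup.mem_centralizer_iff]
    intro c hc
    rw [Set.mem_singleton_iff] at hc; subst hc
    exact hcomm c ha b hb
  · intro a ha ha1 b hb hb1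
    have hL : Cfsg.pLayer p ↥(Subgroup.centralizer ({b} : Set G)) = ⊥ :=
      pLayer_eq_bot_of_solvable p (hsolv b hb hb1)
    show _ ≤ (Cfsg.pPrimeCore p ↥(Subgroup.centralizer ({b} : Set G))).map
      (Subgroup.centralizer ({b} : Set G)).subtype
    apply balance_pprime_sub hp hL (P₁ := Subgroup.zpowers a)
    · rw [Subgroup.zpowers_le, Subgroup.mem_centralizer_iff]
      intro c hc
      rw [Set.mem_singleton_iff] at hc; subst hc
      exact hcomm c hb a ha
    · exact inf_le_right
    · exact isPGroup_zpowers_of_pow_eq_one hp (hA.2 a ha)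
    · exact Nat.Coprime.coprime_dvd_left (Subgroup.card_dvd_of_le inf_le_left) (hcop a)
    · intro x hx
      have h1 : x ∈ Subgroup.centralizer ({a} : Set G) := by
        have : Cfsg.centralizerPPrimeCore p a ≤ Subgroup.centralizer ({a} : Set G) :=
          Subgroup.map_subtype_le _
        exact this hx.1
      rw [Subgroup.mem_centralizer_iff]
      intro c hc
      obtain ⟨k, rfl⟩ := Subgroup.mem_zpowers_iff.1 hc
      have hcm : Commute a x := Subgroup.mem_centralizer_iff.1 h1 a (Set.mem_singleton a)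
      exact (hcm.zpow_left k).eq
    · rintro c ⟨hcb, hca⟩
      have hca' : c ∈ Subgroup.centralizer ({a} : Set G) := by
        rw [Subgroup.mem_centralizer_iff]
        intro d hd
        rw [Set.mem_singleton_iff] at hd; subst hd
        exact Subgroup.mem_centralizer_iff.1 hca d (Subgroup.mem_zpowers d)
      have hcinv : c⁻¹ ∈ Subgroup.centralizer ({a} : Set G) := Subgroup.inv_mem _ hca'
      have hcbinv : c⁻¹ ∈ Subgroup.centralizer ({b} : Set G) := Subgroup.inv_mem _ hcb
      have key : ∀ d ∈ Subgroup.centralizer ({a} : Set G), d ∈ Subgroup.centralizer ({b} : Set G) →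
          ∀ x ∈ Cfsg.centralizerPPrimeCore p a ⊓ Subgroup.centralizer ({b} : Set G),
          d * x * d⁻¹ ∈ Cfsg.centralizerPPrimeCore p a ⊓ Subgroup.centralizer ({b} : Set G) := by
        rintro d hda hdb x ⟨hx1, hx2⟩
        exact ⟨hnorm a d hda x hx1,
          Subgroup.mul_mem _ (Subgroup.mul_mem _ hdb hx2) (Subgroup.inv_mem _ hdb)⟩
      rw [Subgroup.mem_normalizer_iff]
      intro x
      constructor
      · exact key c hca' hcb x
      · intro h
        have := key c⁻¹ hcinv hcbinv _ h
        simpa [mul_assoc] using this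
  · intro a ha ha1
    haveI := hsolv a ha ha1
    have h1 : Group.IsSolvable ↥(Cfsg.pPrimeCore p ↥(Subgroup.centralizer ({a} : Set G))) :=
      inferInstance
    unfold Cfsg.centralizerPPrimeCore
    haveI := h1
    exact Group.isSolvable_of_surjective (f := ((Subgroup.centralizer ({a} : Set G)).subtype.subgroupMap
      (Cfsg.pPrimeCore p ↥(Subgroup.centralizer ({a} : Set G)))))
      (MonoidHom.subgroupMap_surjective _ _)

end Cfsg.Agent.S1279
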