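import Mathlib
import Cfsg.Statements.S1281
import Cfsg.Agent.Lib_helper7_Signalizer

set_option autoImplicit false
open Cfsg

namespace Cfsg.Agent.S1281

open Cfsg.Agent.helper7

/-- Let θ be a solvable A-signalizer functor on the finite group G (A a noncyclic elementary abelian p-subgroup) and N a normal subgroup of order prime to p. Then for all non-identity a, b ∈ A, the image of θ a in G / N meets the centralizer of the image of b inside the image of θ b. -/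
theorem result {G : Type*} [Group G] [Finite G] (p : ℕ) [Fact p.Prime] (A : Subgroup G) (hA : Cfsg.IsElementaryAbelian p A) (hA2 : p ^ 2 ≤ Nat.card ↥A) (θ : G → Subgroup G) (hθ : Cfsg.IsSolvableSignalizerFunctor p A θ) (N : Subgroup G) [N.Normal] (hN : ¬ p ∣ Nat.card ↥N) (a b : G) (ha : a ∈ A) (ha1 : a ≠ 1) (hb : b ∈ A) (hb1 : b ≠ 1) : (θ a).map (QuotientGroup.mk' N) ⊓ Subgroup.centralizer {QuotientGroup.mk' N b} ≤ (θ b).map (QuotientGroup.mk' N) := by
  have hp : p.Prime := Fact.out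
  obtain ⟨⟨hθc, hθp, hθA, hθb⟩, -⟩ := hθ
  rintro z ⟨⟨x, hx, rfl⟩, hz⟩
  have hQ : IsPGroup p ↥(Subgroup.zpowers b) := isPGroup_zpowers_of_pow_eq_one hp (hA.2 b hb)
  have hQA : Subgroup.zpowers b ≤ A := by
    rw [Subgroup.zpowers_le]; exact hb
  -- `x⁻¹ * (c x c⁻¹) ∈ N` for `c ∈ ⟨b⟩`
  have hxc : ∀ c ∈ Subgroup.zpowers b, x⁻¹ * (c * x * c⁻¹) ∈ N := by
    intro c hc
    obtain ⟨k, rfl⟩ := Subgroup.mem_zpowers_iff.1 hc
    have hcomm : Commute (QuotientGroup.mk' N b) (QuotientGroup.mk' N x) :=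
      Subgroup.mem_centralizer_iff.1 hz _ (Set.mem_singleton _)
    have h2 : Commute (QuotientGroup.mk' N (b ^ k)) (QuotientGroup.mk' N x) := by
      rw [map_zpow]; exact hcomm.zpow_left k
    rw [← QuotientGroup.eq_one_iff, ← QuotientGroup.mk'_apply]
    rw [map_mul, map_mul, map_mul, h2.eq, map_inv, map_inv]
    group
  let S : Set G := {x' : G | x' ∈ θ a ∧ x⁻¹ * x' ∈ N}
  have hS : S = {x' : G | ∃ r ∈ θ a ⊓ N, x' = x * r} := by
    ext x'
    constructor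
    · rintro ⟨h1, h2⟩
      exact ⟨x⁻¹ * x', ⟨(θ a).mul_mem ((θ a).inv_mem hx) h1, h2⟩, by group⟩
    · rintro ⟨r, ⟨hr1, hr2⟩, rfl⟩
      refine ⟨(θ a).mul_mem hx hr1, ?_⟩
      have : x⁻¹ * (x * r) = r := by group
      rw [this]; exact hr2
  have hcard : ¬ p ∣ Nat.card ↥S := by
    rw [hS, card_leftCoset]
    intro h
    exact hN (h.trans (Subgroup.card_dvd_of_le inf_le_right))
  have hinv : ∀ c ∈ Subgroup.zpowers b, ∀ x' ∈ S, c * x' * c⁻¹ ∈ S := by
    rintro c hc x' ⟨h1, h2⟩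
    refine ⟨hθA a ha ha1 c (hQA hc) x' h1, ?_⟩
    have h3 : x⁻¹ * (c * x' * c⁻¹) = (x⁻¹ * (c * x * c⁻¹)) * (c * (x⁻¹ * x') * c⁻¹) := by group
    rw [h3]
    exact N.mul_mem (hxc c hc) (Subgroup.Normal.conj_mem inferInstance _ h2 c)
  obtain ⟨x', ⟨hx'1, hx'2⟩, hfix⟩ := exists_fixed_of_invariant hQ S hinv hcard
  have hx'b : x' ∈ Subgroup.centralizer ({b} : Set G) :=
    mem_centralizer_singleton_of_conj_fixed hfix
  refine ⟨x', hθb a ha ha1 b hb hb1 ⟨hx'1, hx'b⟩, ?_⟩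
  rw [QuotientGroup.mk'_eq_mk']
  exact ⟨x'⁻¹ * x, by
    have : x'⁻¹ * x = (x⁻¹ * x')⁻¹ := by group
    rw [this]; exact N.inv_mem hx'2, by group⟩

end Cfsg.Agent.S1281
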