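import Mathlib
import Cfsg.Statements.S1284
import Cfsg.Agent.Lib_helper7_Transitivity2

set_option autoImplicit false
open Cfsg

namespace Cfsg.Agent.S1284

open Cfsg.Agent.helper7

/-- Let θ be a solvable A-signalizer functor on the finite group G, A elementary abelian of rank at least 3, q a prime dividing some |θ a|, and Q maximal among the q-subgroups in the family of θ. Then (a) for every member H of the family, some c in the intersection of the θ a (a ∈ A non-identity) makes c Q c⁻¹ ∩ H a Sylow q-subgroup of H; and (b) for every nontrivial subgroup B ≤ A, C_Q(B) is a Sylow q-subgroup of the intersection of the θ b, b ∈ B non-identity. -/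
theorem result {G : Type*} [Group G] [Finite G] (p : ℕ) [Fact p.Prime] (A : Subgroup G) (hA : Cfsg.IsElementaryAbelian p A) (hA3 : p ^ 3 ≤ Nat.card ↥A) (θ : G → Subgroup G) (hθ : Cfsg.IsSolvableSignalizerFunctor p A θ) (q : ℕ) [Fact q.Prime] (hq : ∃ a ∈ A, a ≠ 1 ∧ q ∣ Nat.card ↥(θ a)) (Q : Subgroup G) (hQW : Q ∈ Cfsg.signalizerFamily p A θ) (hQq : IsPGroup q ↥Q) (hQmax : ∀ R ∈ Cfsg.signalizerFamily p A θ, IsPGroup q ↥R → Q ≤ R → R = Q) : (∀ H : Subgroup G, H ∈ Cfsg.signalizerFamily p A θ → ∃ c ∈ Cfsg.signalizerInf A θ, ∃ S : Sylow q ↥H, (S : Subgroup ↥H).map H.subtype = Q.map (MulAut.conj c).toMonoidHom ⊓ H) ∧ (∀ B : Subgroup G, B ≤ A → B ≠ ⊥ → ∃ S : Sylow q ↥(Cfsg.signalizerInf B θ), (S : Subgroup ↥(Cfsg.signalizerInf B θ)).map (Cfsg.signalizerInf B θ).subtype = Q ⊓ Subgroup.centralizer (B : Set G)) := by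
  have hQ : IsMaxQ p A θ q Q := ⟨hQW, hQq, hQmax⟩
  constructor
  · intro H hH
    obtain ⟨c, hcC, hcard⟩ := exists_conj_inf_sylow hA hA3 hθ hQ hH
    obtain ⟨S, hS⟩ := exists_sylow_map_eq (inf_le_right : cj c Q ⊓ H ≤ H) hcard
    exact ⟨c, hcC, S, hS⟩
  · intro B hBA hB
    obtain ⟨⟨b₀, hb₀B⟩, hb₀1⟩ := (Subgroup.ne_bot_iff_exists_ne_one).1 hB
    have hb₀1' : b₀ ≠ 1 := fun h => hb₀1 (Subtype.ext h)
    -- `θ(B)` is in the family
    have hle : Cfsg.signalizerInf B θ ≤ θ b₀ := by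
      intro x hx
      exact (mem_signalizerInf.1 hx) b₀ hb₀B hb₀1'
    have hAinv : ∀ a ∈ A, ∀ x ∈ Cfsg.signalizerInf B θ, a * x * a⁻¹ ∈ Cfsg.signalizerInf B θ := by
      intro a ha x hx
      rw [mem_signalizerInf] at hx ⊢
      intro b hb hb1
      exact hθ.1.2.2.1 b (hBA hb) hb1 a ha x (hx b hb hb1)
    have hfam : Cfsg.signalizerInf B θ ∈ Cfsg.signalizerFamily p A θ :=
      family_of_le (theta_mem_family hθ (hBA hb₀B) hb₀1') hle hAinv
    obtain ⟨c, hcC, hcard⟩ := exists_conj_inf_sylow hA hA3 hθ hQ hfam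
    -- `c ∈ θ(B)`
    have hcB : c ∈ Cfsg.signalizerInf B θ := by
      rw [mem_signalizerInf]
      intro b hb hb1
      exact (mem_signalizerInf.1 hcC) b (hBA hb) hb1
    -- `θ(B) ≤ C(B)`
    have hcent : Cfsg.signalizerInf B θ ≤ Subgroup.centralizer (B : Set G) := by
      intro x hx
      rw [Subgroup.mem_centralizer_iff]
      intro b hb
      by_cases hb1 : b = 1
      · subst hb1; simp
      · have h1 := hθ.1.1 b (hBA hb) hb1 ((mem_signalizerInf.1 hx) b hb hb1)
        exact Subgroup.mem_centralizer_iff.1 h1 b (Set.mem_singleton b)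
    have heq : Q ⊓ Subgroup.centralizer (B : Set G) = Q ⊓ Cfsg.signalizerInf B θ := by
      apply le_antisymm
      · apply le_inf inf_le_left
        intro x hx
        rw [mem_signalizerInf]
        intro b hb hb1
        apply hQW.2.2.2 b (hBA hb) hb1
        refine ⟨hx.1, Subgroup.centralizer_le ?_ hx.2⟩
        intro y hy
        rw [Set.mem_singleton_iff] at hy
        rw [hy]; exact hb
      · exact inf_le_inf_left Q hcent
    -- conjugate back by `c⁻¹`
    have hconj : cj c⁻¹ (cj c Q ⊓ Cfsg.signalizerInf B θ) = Q ⊓ Cfsg.signalizerInf B θ := by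
      rw [cj_inf, cj_inv_cj]
      congr 1
      apply cj_eq_of_mem_normalizer
      exact Subgroup.le_normalizer (Subgroup.inv_mem _ hcB)
    have hcard' : Nat.card ↥(Q ⊓ Cfsg.signalizerInf B θ : Subgroup G) =
        q ^ (Nat.card ↥(Cfsg.signalizerInf B θ)).factorization q := by
      rw [← hconj, Subgroup.card_map_of_injective (MulAut.conj c⁻¹).injective]
      exact hcard
    obtain ⟨S, hS⟩ := exists_sylow_map_eq (inf_le_right : Q ⊓ Cfsg.signalizerInf B θ ≤ _) hcard'
    exact ⟨S, by rw [hS, heq]⟩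

end Cfsg.Agent.S1284
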