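import Mathlib
import Cfsg.Statements.S1285
import Cfsg.Agent.Lib_helper7_Transitivity2

set_option autoImplicit false
open Cfsg

namespace Cfsg.Agent.S1285

open Cfsg.Agent.helper7

/-- Let θ be a solvable A-signalizer functor on the finite group G with A elementary abelian of rank at least 3, and suppose that for some prime q every θ a (a ∈ A non-identity) is a q-group. Then θ is complete. -/
theorem result {G : Type*} [Group G] [Finite G] (p : ℕ) [Fact p.Prime] (A : Subgroup G) (hA : Cfsg.IsElementaryAbelian p A) (hA3 : p ^ 3 ≤ Nat.card ↥A) (θ : G → Subgroup G) (hθ : Cfsg.IsSolvableSignalizerFunctor p A θ) (q : ℕ) [Fact q.Prime] (hq : ∀ a ∈ A, a ≠ 1 → IsPGroup q ↥(θ a)) : Cfsg.IsCompleteSignalizerFunctor p A θ := by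
  refine ⟨hθ.1, ?_⟩
  -- the trivial group is in the family
  have hbot : (⊥ : Subgroup G) ∈ Cfsg.signalizerFamily p A θ := by
    refine ⟨inferInstance, ?_, ?_, ?_⟩
    · rw [Subgroup.card_bot]
      exact (Fact.out : p.Prime).one_lt.ne' ∘ Nat.dvd_one.1
    · intro b _ u hu
      rw [Subgroup.mem_bot] at hu ⊢
      rw [hu]; simp
    · intro a _ _
      exact inf_le_left.trans bot_le
  obtain ⟨Q, hQ, -⟩ := exists_isMaxQ_ge (q := q) hbot IsPGroup.of_bot
  refine ⟨Q, hQ.1.2.2.1, hQ.1.2.1, ?_⟩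
  intro a ha ha1
  apply le_antisymm (hQ.1.2.2.2 a ha ha1)
  apply le_inf _ (hθ.1.1 a ha ha1)
  obtain ⟨Q', hQ', hθQ'⟩ := exists_isMaxQ_ge (theta_mem_family hθ ha ha1) (hq a ha ha1)
  obtain ⟨c, hcC, hc⟩ := transitivity hA hA3 hθ _ Q' Q hQ' hQ rfl
  have hca : c ∈ θ a := (mem_signalizerInf.1 hcC) a ha ha1
  have h1 : cj c (θ a) = θ a := cj_eq_of_mem_normalizer (Subgroup.le_normalizer hca)
  rw [← h1, ← hc]
  exact cj_mono hθQ'

end Cfsg.Agent.S1285
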