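import Mathlib
import Cfsg.Statements.S1286

set_option autoImplicit false
open Cfsg

namespace Cfsg.Agent.S1286

open Equiv

/-- the involution `(0 1)` -/
def pa : Perm (Fin 5) := swap 0 1
/-- the involution `(3 4)` -/
def pb : Perm (Fin 5) := swap 3 4
/-- a `3`-cycle on `{2,3,4}` -/
def c1 : Perm (Fin 5) := swap 2 3 * swap 3 4
/-- a `3`-cycle on `{0,1,2}` -/
def c2 : Perm (Fin 5) := swap 0 1 * swap 1 2

/-- the four-group -/
def A4 : Subgroup (Perm (Fin 5)) where
  carrier := {g | g = 1 ∨ g = pa ∨ g = pb ∨ g = pa * pb}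
  one_mem' := Or.inl rfl
  mul_mem' := by
    rintro g h (rfl | rfl | rfl | rfl) (rfl | rfl | rfl | rfl) <;>
      simp only [Set.mem_setOf_eq] <;> decide
  inv_mem' := by
    rintro g (rfl | rfl | rfl | rfl) <;> simp only [Set.mem_setOf_eq] <;> decide

theorem mem_A4 {g : Perm (Fin 5)} : g ∈ A4 ↔ g = 1 ∨ g = pa ∨ g = pb ∨ g = pa * pb := Iff.rfl

/-- the functor -/
def θ (g : Perm (Fin 5)) : Subgroup (Perm (Fin 5)) :=
  if g = pa then Subgroup.zpowers c1 else if g = pb then Subgroup.zpowers c2 else ⊥

theorem θ_pa : θ pa = Subgroup.zpowers c1 := by unfold θ; rw [if_pos rfl]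
theorem θ_pb : θ pb = Subgroup.zpowers c2 := by
  unfold θ; rw [if_neg (by decide), if_pos rfl]
theorem θ_pab : θ (pa * pb) = ⊥ := by
  unfold θ; rw [if_neg (by decide), if_neg (by decide)]

theorem mem_zpowers_c1 {x : Perm (Fin 5)} (hx : x ∈ Subgroup.zpowers c1) :
    x = 1 ∨ x = c1 ∨ x = c1⁻¹ := by
  obtain ⟨k, rfl⟩ := Subgroup.mem_zpowers_iff.1 hx
  have h3 : c1 ^ (3 : ℤ) = 1 := by
    have : c1 ^ 3 = 1 := by decide
    rw [← this]; norm_cast
  have hk : c1 ^ k = c1 ^ (k % 3) := by
    conv_lhs => rw [← Int.emod_add_mul_ediv k 3]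
    rw [zpow_add, zpow_mul, h3, one_zpow, mul_one]
  rw [hk]
  have h1 : 0 ≤ k % 3 := Int.emod_nonneg k (by norm_num)
  have h2 : k % 3 < 3 := Int.emod_lt_of_pos k (by norm_num)
  have : k % 3 = 0 ∨ k % 3 = 1 ∨ k % 3 = 2 := by omega
  rcases this with h | h | h
  · left; rw [h, zpow_zero]
  · right; left; rw [h, zpow_one]
  · right; right; rw [h]
    have : c1 ^ (2 : ℤ) = c1 ^ 2 := by norm_cast
    rw [this]; decide

theorem mem_zpowers_c2 {x : Perm (Fin 5)} (hx : x ∈ Subgroup.zpowers c2) :
    x = 1 ∨ x = c2 ∨ x = c2⁻¹ := by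
  obtain ⟨k, rfl⟩ := Subgroup.mem_zpowers_iff.1 hx
  have h3 : c2 ^ (3 : ℤ) = 1 := by
    have : c2 ^ 3 = 1 := by decide
    rw [← this]; norm_cast
  have hk : c2 ^ k = c2 ^ (k % 3) := by
    conv_lhs => rw [← Int.emod_add_mul_ediv k 3]
    rw [zpow_add, zpow_mul, h3, one_zpow, mul_one]
  rw [hk]
  have h1 : 0 ≤ k % 3 := Int.emod_nonneg k (by norm_num)
  have h2 : k % 3 < 3 := Int.emod_lt_of_pos k (by norm_num)
  have : k % 3 = 0 ∨ k % 3 = 1 ∨ k % 3 = 2 := by omega
  rcases this with h | h | h
  · left; rw [h, zpow_zero]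
  · right; left; rw [h, zpow_one]
  · right; right; rw [h]
    have : c2 ^ (2 : ℤ) = c2 ^ 2 := by norm_cast
    rw [this]; decide

theorem card_zpowers_c1 : Nat.card ↥(Subgroup.zpowers c1) = 3 := by
  rw [Nat.card_zpowers]
  exact orderOf_eq_prime (by decide) (by decide)

theorem card_zpowers_c2 : Nat.card ↥(Subgroup.zpowers c2) = 3 := by
  rw [Nat.card_zpowers]
  exact orderOf_eq_prime (by decide) (by decide)

theorem solvable_zpowers (c : Perm (Fin 5)) : Group.IsSolvable ↥(Subgroup.zpowers c) := by
  haveI : IsMulCommutative ↥(Subgroup.zpowers c) := inferInstance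
  exact inferInstance

/-- There exist a finite group X, an elementary abelian subgroup A of order 4 and a solvable A-signalizer functor θ on X for the prime 2 which is not complete. -/
theorem result : ∃ (X : Type) (_ : Group X) (_ : Finite X) (A : Subgroup X) (θ : X → Subgroup X), Cfsg.IsElementaryAbelian 2 A ∧ Nat.card ↥A = 4 ∧ Cfsg.IsSolvableSignalizerFunctor 2 A θ ∧ ¬ Cfsg.IsCompleteSignalizerFunctor 2 A θ := by
  refine ⟨Perm (Fin 5), inferInstance, inferInstance, A4, θ, ?_, ?_, ?_, ?_⟩
  · refine ⟨⟨⟨?_⟩⟩, ?_⟩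
    · rintro ⟨g, (rfl | rfl | rfl | rfl)⟩ ⟨h, (rfl | rfl | rfl | rfl)⟩ <;>
        apply Subtype.ext <;> show _ * _ = _ * _ <;> decide
    · rintro g (rfl | rfl | rfl | rfl) <;> decide
  · have : (A4 : Set (Perm (Fin 5))) = ({1, pa, pb, pa * pb} : Finset (Perm (Fin 5))) := by
      ext g
      simp only [Finset.coe_insert, Finset.coe_singleton, Set.mem_insert_iff,
        Set.mem_singleton_iff]
      exact mem_A4
    rw [← SetLike.coe_sort_coe, this, Nat.card_eq_fintype_card]
    simp only [Finset.coe_sort_coe, Fintype.card_coe]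
    decide
  · refine ⟨⟨?_, ?_, ?_, ?_⟩, ?_⟩
    · rintro a (rfl | rfl | rfl | rfl) ha1
      · exact absurd rfl ha1
      · rw [θ_pa, Subgroup.zpowers_le, Subgroup.mem_centralizer_iff]
        intro y hy
        rw [Set.mem_singleton_iff] at hy; subst hy
        decide
      · rw [θ_pb, Subgroup.zpowers_le, Subgroup.mem_centralizer_iff]
        intro y hy
        rw [Set.mem_singleton_iff] at hy; subst hy
        decide
      · rw [θ_pab]; exact bot_le
    · rintro a (rfl | rfl | rfl | rfl) ha1
      · exact absurd rfl ha1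
      · rw [θ_pa, card_zpowers_c1]; decide
      · rw [θ_pb, card_zpowers_c2]; decide
      · rw [θ_pab, Subgroup.card_bot]; decide
    · rintro a (rfl | rfl | rfl | rfl) ha1 b hb x hx
      · exact absurd rfl ha1
      · rw [θ_pa] at hx ⊢
        have hc : ∀ y : Perm (Fin 5), y = c1 ∨ y = c1⁻¹ → y ∈ Subgroup.zpowers c1 := by
          rintro y (rfl | rfl)
          · exact Subgroup.mem_zpowers _
          · exact Subgroup.inv_mem _ (Subgroup.mem_zpowers _)
        rcases mem_zpowers_c1 hx with rfl | rfl | rfl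
        · simp
        · apply hc
          rcases hb with rfl | rfl | rfl | rfl <;> decide
        · apply hc
          rcases hb with rfl | rfl | rfl | rfl <;> decide
      · rw [θ_pb] at hx ⊢
        have hc : ∀ y : Perm (Fin 5), y = c2 ∨ y = c2⁻¹ → y ∈ Subgroup.zpowers c2 := by
          rintro y (rfl | rfl)
          · exact Subgroup.mem_zpowers _
          · exact Subgroup.inv_mem _ (Subgroup.mem_zpowers _)
        rcases mem_zpowers_c2 hx with rfl | rfl | rfl
        · simp
        · apply hc
          rcases hb with rfl | rfl | rfl | rfl <;> decide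
        · apply hc
          rcases hb with rfl | rfl | rfl | rfl <;> decide
      · rw [θ_pab] at hx ⊢
        rw [Subgroup.mem_bot] at hx ⊢
        rw [hx]; simp
    · rintro a (rfl | rfl | rfl | rfl) ha1 b hb hb1 x ⟨hx, hxb⟩
      · exact absurd rfl ha1
      · rw [θ_pa] at hx
        have hxb' : b * x = x * b :=
          Subgroup.mem_centralizer_iff.1 hxb b (Set.mem_singleton b)
        rcases mem_zpowers_c1 hx with rfl | rfl | rfl
        · exact Subgroup.one_mem _
        · rcases hb with rfl | rfl | rfl | rfl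
          · exact absurd rfl hb1
          · rw [θ_pa]; exact Subgroup.mem_zpowers _
          · exact absurd hxb' (by decide)
          · exact absurd hxb' (by decide)
        · rcases hb with rfl | rfl | rfl | rfl
          · exact absurd rfl hb1
          · rw [θ_pa]; exact Subgroup.inv_mem _ (Subgroup.mem_zpowers _)
          · exact absurd hxb' (by decide)
          · exact absurd hxb' (by decide)
      · rw [θ_pb] at hx
        have hxb' : b * x = x * b :=
          Subgroup.mem_centralizer_iff.1 hxb b (Set.mem_singleton b)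
        rcases mem_zpowers_c2 hx with rfl | rfl | rfl
        · exact Subgroup.one_mem _
        · rcases hb with rfl | rfl | rfl | rfl
          · exact absurd rfl hb1
          · exact absurd hxb' (by decide)
          · rw [θ_pb]; exact Subgroup.mem_zpowers _
          · exact absurd hxb' (by decide)
        · rcases hb with rfl | rfl | rfl | rfl
          · exact absurd rfl hb1
          · exact absurd hxb' (by decide)
          · rw [θ_pb]; exact Subgroup.inv_mem _ (Subgroup.mem_zpowers _)
          · exact absurd hxb' (by decide)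
      · have hx' : x ∈ θ (pa * pb) := hx
        rw [θ_pab, Subgroup.mem_bot] at hx'
        rw [hx']; exact Subgroup.one_mem _
    · rintro a (rfl | rfl | rfl | rfl) ha1
      · exact absurd rfl ha1
      · rw [θ_pa]; exact solvable_zpowers _
      · rw [θ_pb]; exact solvable_zpowers _
      · rw [θ_pab]; exact inferInstance
  · rintro ⟨-, Y, -, hY2, hY⟩
    have h1 : c1 ∈ Y := by
      have := hY pa (Or.inr (Or.inl rfl)) (by decide)
      rw [θ_pa] at this
      have h : c1 ∈ Y ⊓ Subgroup.centralizer {pa} := by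
        rw [this]; exact Subgroup.mem_zpowers _
      exact h.1
    have h2 : c2 ∈ Y := by
      have := hY pb (Or.inr (Or.inr (Or.inl rfl))) (by decide)
      rw [θ_pb] at this
      have h : c2 ∈ Y ⊓ Subgroup.centralizer {pb} := by
        rw [this]; exact Subgroup.mem_zpowers _
      exact h.1
    have h3 : c1 * c2 * c1⁻¹ * c2 ∈ Y :=
      Y.mul_mem (Y.mul_mem (Y.mul_mem h1 h2) (Y.inv_mem h1)) h2
    have h4 : orderOf (c1 * c2 * c1⁻¹ * c2) = 2 := orderOf_eq_prime (by decide) (by decide)
    apply hY2
    rw [← h4]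
    exact Y.orderOf_dvd_natCard h3

end Cfsg.Agent.S1286
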