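import Mathlib
import Cfsg.Statements.S1288
import Cfsg.Agent.Lib_helper7_RelCore
import Cfsg.Agent.Lib_helper7_Gen4

set_option autoImplicit false
open Cfsg
open scoped commutatorElement

namespace Cfsg.Agent.S1288

open Cfsg.Agent.helper7

/-- Let A be a noncyclic elementary abelian p-subgroup of a finite group H normalizing a solvable subgroup K of order prime to p, q a prime dividing |K|, and U ≤ K a subgroup of order prime to q such that ⁅U, C_K(B)⁆ has order prime to q for every subgroup B of index p in A. Then U ≤ O_{q'}(K). -/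
theorem result {H : Type*} [Group H] [Finite H] (p : ℕ) [Fact p.Prime] (A K : Subgroup H) (hA : Cfsg.IsElementaryAbelian p A) (hA2 : p ^ 2 ≤ Nat.card ↥A) (hK : ¬ p ∣ Nat.card ↥K) (hKs : Group.IsSolvable ↥K) (hAK : A ≤ Subgroup.normalizer (K : Set H)) (q : ℕ) [Fact q.Prime] (hqK : q ∣ Nat.card ↥K) (U : Subgroup H) (hU : U ≤ K) (hUq : ¬ q ∣ Nat.card ↥U) (hcomm : ∀ B : Subgroup H, B ≤ A → B.relIndex A = p → ¬ q ∣ Nat.card ↥⁅U, K ⊓ Subgroup.centralizer (B : Set H)⁆) : U ≤ (Cfsg.pPrimeCore q ↥K).map K.subtype := by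
  have hp : p.Prime := Fact.out
  have hq : q.Prime := Fact.out
  have hL : Cfsg.pLayer q ↥K = ⊥ := pLayer_eq_bot_of_solvable q hKs
  have hAp := isPGroup_of_elemAb hA
  show U ≤ relO q K
  -- an `A`-invariant Sylow `q`-subgroup of `O_{q',q}(K)`
  have hDp : ¬ p ∣ Nat.card ↥(relD q K) := fun h => hK (h.trans (Subgroup.card_dvd_of_le (relD_le q K)))
  have hAD : A ≤ Subgroup.normalizer ((relD q K : Subgroup H) : Set H) :=
    hAK.trans (normalizer_le_normalizer_relD hq K)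
  obtain ⟨R, hRD, hRq, hRcard, hAR⟩ := exists_invariant_sylow q hAp hDp hAD
  have hRp : ¬ p ∣ Nat.card ↥R := fun h => hDp (h.trans (Subgroup.card_dvd_of_le hRD))
  have hRgen := gen_coprime_hyperplanes hA hA2 hRp hAR
  have hKO := relO_normal q K
  intro u hu
  -- the subgroup of elements commuting with `u` modulo `O_{q'}(K)`
  let M : Subgroup H :=
    { carrier := {d | d ∈ K ∧ u * d * u⁻¹ * d⁻¹ ∈ relO q K}
      one_mem' := ⟨K.one_mem, by simp⟩
      mul_mem' := by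
        rintro a b ⟨haK, ha⟩ ⟨hbK, hb⟩
        refine ⟨K.mul_mem haK hbK, ?_⟩
        have h1 : u * (a * b) * u⁻¹ * (a * b)⁻¹ = (u * a * u⁻¹ * a⁻¹) * (a * (u * b * u⁻¹ * b⁻¹) * a⁻¹) := by
          group
        rw [h1]
        exact Subgroup.mul_mem _ ha ((Subgroup.mem_normalizer_iff.1 (hKO haK) _).1 hb)
      inv_mem' := by
        rintro a ⟨haK, ha⟩
        refine ⟨K.inv_mem haK, ?_⟩
        have h1 : u * a⁻¹ * u⁻¹ * a⁻¹⁻¹ = a⁻¹ * (u * a * u⁻¹ * a⁻¹)⁻¹ * a⁻¹⁻¹ := by group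
        rw [h1]
        exact (Subgroup.mem_normalizer_iff.1 (hKO (K.inv_mem haK)) _).1 (Subgroup.inv_mem _ ha) }
  have hM : ∀ d, d ∈ M ↔ d ∈ K ∧ u * d * u⁻¹ * d⁻¹ ∈ relO q K := fun d => Iff.rfl
  have huK : u ∈ K := hU hu
  -- `O ≤ M`
  have hOM : relO q K ≤ M := by
    intro o ho
    rw [hM]
    refine ⟨relO_le q K ho, ?_⟩
    exact Subgroup.mul_mem _ ((Subgroup.mem_normalizer_iff.1 (hKO huK) o).1 ho) (Subgroup.inv_mem _ ho)
  -- `R ≤ M`
  have hRM : R ≤ M := by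
    rw [hRgen]
    apply iSup_le
    rintro ⟨B, hBA, hB⟩
    rintro r ⟨hrR, hrB⟩
    have hrD : r ∈ relD q K := hRD hrR
    have hrK : r ∈ K := relD_le q K hrD
    rw [hM]
    refine ⟨hrK, ?_⟩
    apply mem_relO_of_coprime hq K
    · exact Subgroup.mul_mem _ ((Subgroup.mem_normalizer_iff.1 (relD_normal q K huK) r).1 hrD)
        (Subgroup.inv_mem _ hrD)
    · have h1 : u * r * u⁻¹ * r⁻¹ ∈ ⁅U, K ⊓ Subgroup.centralizer (B : Set H)⁆ :=
        Subgroup.commutator_mem_commutator hu ⟨hrK, hrB⟩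
      have h2 : orderOf (u * r * u⁻¹ * r⁻¹) ∣ Nat.card ↥⁅U, K ⊓ Subgroup.centralizer (B : Set H)⁆ :=
        Subgroup.orderOf_dvd_natCard _ h1
      have h3 : (Nat.card ↥⁅U, K ⊓ Subgroup.centralizer (B : Set H)⁆).Coprime q := by
        rw [Nat.coprime_comm, Nat.Prime.coprime_iff_not_dvd hq]
        exact hcomm B hBA hB
      exact Nat.Coprime.coprime_dvd_left h2 h3
  have hDM : relD q K ≤ M := by
    rw [← relO_sup_sylow hq K hRD hRcard]
    exact sup_le hOM hRM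
  have huD : u ∈ relD q K := mem_relD_of_comm hq hL huK (fun d hd => ((hM d).1 (hDM hd)).2)
  apply mem_relO_of_coprime hq K huD
  have h2 : orderOf u ∣ Nat.card ↥U := Subgroup.orderOf_dvd_natCard _ hu
  have h3 : (Nat.card ↥U).Coprime q := by
    rw [Nat.coprime_comm, Nat.Prime.coprime_iff_not_dvd hq]
    exact hUq
  exact Nat.Coprime.coprime_dvd_left h2 h3

end Cfsg.Agent.S1288
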