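import Mathlib
import Cfsg.Statements.S1289
import Cfsg.Agent.Lib_helper7_PComp

set_option autoImplicit false
open Cfsg
open Cfsg.Agent.helper7

namespace Cfsg.Agent.S1289

/-- A p-component K of the finite group X is subnormal, perfect, of order divisible by p, and minimal among the subnormal perfect subgroups of X of order divisible by p. -/
theorem result {X : Type*} [Group X] [Finite X] (p : ℕ) [Fact p.Prime] (K : Subgroup X) (hK : Cfsg.IsPComponent p K) : K.IsSubnormal ∧ ⁅K, K⁆ = K ∧ p ∣ Nat.card ↥K ∧ ∀ H : Subgroup X, H ≤ K → H.IsSubnormal → ⁅H, H⁆ = H → p ∣ Nat.card ↥H → H = K := by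
  have hp : p.Prime := Fact.out
  refine ⟨hK.1, pcomp_perfect hK, pcomp_dvd_card hp hK, ?_⟩
  intro H hHK hsn hperf hdvd
  apply pcomp_eq_of_perfect hK (sn_top_iff.2 hsn) hHK hperf
  intro hle
  have h1 : Nat.card ↥H ∣ Nat.card ↥(Cfsg.pPrimeCore p X) := Subgroup.card_dvd_of_le hle
  have h2 : (Nat.card ↥(Cfsg.pPrimeCore p X)).Coprime p := pPrimeCore_coprime hp
  have h3 : p ∣ 1 := by
    have := Nat.dvd_gcd (dvd_trans hdvd h1) (dvd_refl p)
    rwa [h2.gcd_eq_one] at this
  exact hp.one_lt.ne' (Nat.dvd_one.1 h3)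

end Cfsg.Agent.S1289
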