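import Mathlib
import Cfsg.Statements.S1292
import Cfsg.Agent.Lib_helper7_Local

set_option autoImplicit false
open Cfsg
open Cfsg.Agent.helper7

namespace Cfsg.Agent.S1292

/-- A nontrivial finite `2`-subgroup has a central involution. -/
theorem exists_central_involution {G : Type*} [Group G] [Finite G] (T : Subgroup G)
    (hT : IsPGroup 2 ↥T) (hT1 : T ≠ ⊥) :
    ∃ t ∈ T, orderOf t = 2 ∧ T ≤ Subgroup.centralizer ({t} : Set G) := by
  haveI : Fact (Nat.Prime 2) := ⟨Nat.prime_two⟩
  haveI : Nontrivial ↥T := (Subgroup.nontrivial_iff_ne_bot T).2 hT1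
  haveI := hT.center_nontrivial
  have hZ : IsPGroup 2 ↥(Subgroup.center ↥T) := hT.to_subgroup _
  obtain ⟨k, hk⟩ := IsPGroup.iff_card.1 hZ
  have hk0 : k ≠ 0 := by
    intro h0
    rw [h0, pow_zero] at hk
    have : Subsingleton ↥(Subgroup.center ↥T) := (Nat.card_eq_one_iff_unique.1 hk).1
    exact not_subsingleton _ this
  have hdvd : 2 ∣ Nat.card ↥(Subgroup.center ↥T) := by
    rw [hk]; exact dvd_pow_self 2 hk0
  obtain ⟨z, hz⟩ := exists_prime_orderOf_dvd_card' 2 hdvd
  refine ⟨((z : ↥T) : G), (z : ↥T).2, ?_, ?_⟩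
  · rw [Subgroup.orderOf_coe, Subgroup.orderOf_coe]; exact hz
  · intro x hx
    rw [Subgroup.mem_centralizer_iff]
    intro y hy
    rw [Set.mem_singleton_iff] at hy
    subst hy
    have := Subgroup.mem_center_iff.1 z.2 ⟨x, hx⟩
    have h2 : x * ((z : ↥T) : G) = ((z : ↥T) : G) * x := congrArg Subtype.val this
    exact h2.symm

/-- Let G be a finite group such that F*(C_G(t)) = O_2(C_G(t)) for every involution t. Then F*(N_G(T)) = O_2(N_G(T)) for every nontrivial 2-subgroup T of G. -/
theorem result {G : Type*} [Group G] [Finite G] (h : ∀ t : G, orderOf t = 2 → Cfsg.generalizedFittingSubgroup ↥(Subgroup.centralizer ({t} : Set G)) = Cfsg.pCore 2 ↥(Subgroup.centralizer ({t} : Set G))) (T : Subgroup G) (hT : IsPGroup 2 ↥T) (hT1 : T ≠ ⊥) : Cfsg.generalizedFittingSubgroup ↥(Subgroup.normalizer (T : Set G)) = Cfsg.pCore 2 ↥(Subgroup.normalizer (T : Set G)) := by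
  have hp : Nat.Prime 2 := Nat.prime_two
  haveI : Fact (Nat.Prime 2) := ⟨hp⟩
  obtain ⟨t, htT, ht2, hTt⟩ := exists_central_involution T hT hT1
  set K : Subgroup G := Subgroup.centralizer ({t} : Set G) with hK
  set N : Subgroup G := Subgroup.normalizer (T : Set G) with hN
  have hKF : fstarOf K = piCoreIn {2} K := by
    have := congrArg (Subgroup.map K.subtype) (h t ht2)
    rwa [map_generalizedFittingSubgroup_eq, map_pCore_eq hp] at this
  have hTN : T ≤ N := Subgroup.le_normalizer
  have hCT : Subgroup.centralizer (T : Set G) ≤ K := by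
    apply Subgroup.centralizer_le
    intro x hx
    rw [Set.mem_singleton_iff] at hx
    subst hx
    exact htT
  have hloc : fstarOf (K ⊓ N) = piCoreIn {2} (K ⊓ N) := by
    apply fstarOf_local hp hKF hT
    · exact hTt.trans Subgroup.le_normalizer
    · exact inf_le_left
    · exact inf_le_inf_left _ (Subgroup.centralizer_le_normalizer _)
    · exact inf_le_right
    · have hTO : T ≤ piCoreIn {2} (K ⊓ N) :=
        le_radOf (le_inf hTt hTN) inf_le_right ((isPGroup_iff_piGrp hp).1 hT)
      exact inf_le_right.trans (Subgroup.centralizer_le hTO)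
  obtain ⟨hc, hr⟩ := (fstarOf_eq_piCoreIn_iff hp (K ⊓ N)).1 hloc
  apply Subgroup.map_injective N.subtype_injective
  rw [map_generalizedFittingSubgroup_eq, map_pCore_eq hp]
  have hTO : T ≤ piCoreIn {2} N := le_radOf hTN le_rfl ((isPGroup_iff_piGrp hp).1 hT)
  rw [fstarOf_eq_piCoreIn_iff hp]
  constructor
  · intro L hL
    have h2 : L ≤ Subgroup.centralizer ((fitOf N : Subgroup G) : Set G) :=
      Subgroup.commutator_eq_bot_iff_le_centralizer.1 hL.comm_fitOf
    have h3 : L ≤ K :=
      (h2.trans (Subgroup.centralizer_le (hTO.trans (piCoreIn_le_fitOf hp N)))).trans hCT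
    exact hc L (hL.of_le (le_inf h3 hL.1.le) inf_le_right)
  · intro r hr' hr2
    have h3 : piCoreIn {r} N ≤ K :=
      ((piCoreIn_le_centralizer_piCoreIn hr2 N).trans (Subgroup.centralizer_le hTO)).trans hCT
    have h4 : piCoreIn {r} N ≤ piCoreIn {r} (K ⊓ N) := by
      apply le_radOf (le_inf h3 (piCoreIn_le _ N))
      · exact inf_le_right.trans (piCoreIn_normal {r} N)
      · exact piCoreIn_piGrp {r} N
    rw [hr r hr' hr2] at h4
    exact le_bot_iff.1 h4

end Cfsg.Agent.S1292
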