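import Mathlib
import Cfsg.Statements.S1297
import Cfsg.Agent.Lib_helper7_LKB4

set_option autoImplicit false
open Cfsg

namespace Cfsg.Agent.helper7

theorem isLocallyKBalanced_of_isLocallyBalanced {K : Type*} [Group K]
    (h : Cfsg.IsLocallyBalanced K) : Cfsg.IsLocallyKBalanced 2 1 K := by
  intro H hH A' hA' hcard
  obtain ⟨_, hA'p⟩ := isElementaryAbelian_iff'.1 hA'
  obtain ⟨x, hx, hne⟩ : ∃ x ∈ A', x ≠ 1 := by
    by_contra hcon
    push Not at hcon
    have hbot : A' = ⊥ := by
      rw [eq_bot_iff]; intro a ha; rw [Subgroup.mem_bot]; exact hcon a ha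
    rw [hbot, Subgroup.card_bot] at hcard
    norm_num at hcard
  haveI : Fact (Nat.Prime 2) := ⟨Nat.prime_two⟩
  have hord : orderOf x = 2 := orderOf_eq_prime (hA'p x hx) hne
  rw [eq_bot_iff, ← h H hH x hord]
  exact iInf_le (fun a : {a : ↥H // a ∈ A' ∧ a ≠ 1} => Cfsg.centralizerPPrimeCore 2 (a : ↥H))
    ⟨x, hx, hne⟩

theorem balance_le_of_locallyBalanced {G : Type*} [Group G] [Finite G]
    (h : ∀ x : G, orderOf x = 2 → ∀ K : Subgroup (↥(Subgroup.centralizer ({x} : Set G)) ⧸
      Cfsg.oddCore ↥(Subgroup.centralizer ({x} : Set G))), Cfsg.IsComponent K →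
      Cfsg.IsLocallyBalanced (↥K ⧸ Subgroup.center ↥K))
    (x y : G) (hx : orderOf x = 2) (hy : orderOf y = 2) (hxy : x * y = y * x) :
    Cfsg.centralizerPPrimeCore 2 x ⊓ Subgroup.centralizer {y} ≤
      Cfsg.centralizerPPrimeCore 2 y ⊓ Subgroup.centralizer {x} := by
  haveI : Fact (Nat.Prime 2) := ⟨Nat.prime_two⟩
  have hx2 : x ^ 2 = 1 := by rw [← hx]; exact pow_orderOf_eq_one x
  have hmem : ∀ a ∈ Subgroup.zpowers x, a = 1 ∨ a = x := by
    rintro _ ⟨n, rfl⟩
    have h1 : x ^ n = x ^ (n % (orderOf x : ℤ)) := (zpow_mod_orderOf x n).symm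
    rw [hx] at h1
    rcases Int.emod_two_eq_zero_or_one n with h2 | h2
    · left
      have : ((2 : ℕ) : ℤ) = 2 := rfl
      show x ^ n = 1
      rw [h1, this, h2, zpow_zero]
    · right
      have : ((2 : ℕ) : ℤ) = 2 := rfl
      show x ^ n = x
      rw [h1, this, h2, zpow_one]
  have hA : Cfsg.IsElementaryAbelian 2 (Subgroup.zpowers x) := by
    rw [isElementaryAbelian_iff']
    constructor
    · rintro _ ⟨n, rfl⟩ _ ⟨m, rfl⟩
      exact (Commute.zpow_zpow_self x n m).eq
    · intro a ha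
      rcases hmem a ha with rfl | rfl
      · exact one_pow 2
      · exact hx2
  have hAk : Nat.card ↥(Subgroup.zpowers x) = 2 ^ 1 := by
    rw [Nat.card_zpowers, hx, pow_one]
  have hAy : ∀ a ∈ Subgroup.zpowers x, a * y = y * a := by
    intro a ha
    rcases hmem a ha with rfl | rfl
    · simp
    · exact hxy
  have hle : Cfsg.centralizerPPrimeCore 2 x ≤ Cfsg.signalizerDelta 2 (Subgroup.zpowers x) := by
    apply le_iInf
    rintro ⟨a, ha, hne⟩
    rcases hmem a ha with rfl | rfl
    · exact absurd rfl hne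
    · exact le_rfl
  have hmain := kbalance_main (p := 2) (k := 1) le_rfl y (Subgroup.zpowers x) hA hAk hAy
    (fun K hK => locKBal_of_bar (isComponent_iff.1 hK).2
      (isLocallyKBalanced_of_isLocallyBalanced (h y hy K hK)))
  apply le_inf
  · exact (inf_le_inf_right _ hle).trans hmain
  · refine inf_le_left.trans ?_
    exact Subgroup.map_subtype_le _

end Cfsg.Agent.helper7

namespace Cfsg.Agent.S1297

open Cfsg.Agent.helper7 in
/-- Let G be finite. Suppose that for every involution x, writing C = C_G(x), every component K of C / O(C) has K / Z(K) locally balanced. Then G is balanced. -/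
theorem result {G : Type*} [Group G] [Finite G] (h : ∀ x : G, orderOf x = 2 → ∀ K : Subgroup (↥(Subgroup.centralizer ({x} : Set G)) ⧸ Cfsg.oddCore ↥(Subgroup.centralizer ({x} : Set G))), Cfsg.IsComponent K → Cfsg.IsLocallyBalanced (↥K ⧸ Subgroup.center ↥K)) : Cfsg.IsBalanced G := by
  intro x y hx hy hxy
  exact le_antisymm (balance_le_of_locallyBalanced h x y hx hy hxy)
    (balance_le_of_locallyBalanced h y x hy hx hxy.symm)

end Cfsg.Agent.S1297
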