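import Mathlib
import Cfsg.Statements.S1300

set_option autoImplicit false
open Cfsg

namespace Cfsg.Agent.S1300

theorem cpc_le_centralizer {G : Type*} [Group G] (p : ℕ) (x : G) :
    Cfsg.centralizerPPrimeCore p x ≤ Subgroup.centralizer ({x} : Set G) := by
  unfold Cfsg.centralizerPPrimeCore
  exact Subgroup.map_subtype_le _

theorem mem_zpowers_of_order_two {G : Type*} [Group G] (x a : G) (hx : orderOf x = 2)
    (ha : a ∈ Subgroup.zpowers x) : a = 1 ∨ a = x := by
  obtain ⟨k, rfl⟩ := Subgroup.mem_zpowers_iff.1 ha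
  have hx2 : x ^ (2 : ℤ) = 1 := by
    have := pow_orderOf_eq_one x
    rw [hx] at this
    exact_mod_cast this
  rcases Int.even_or_odd' k with ⟨m, hm | hm⟩
  · left
    rw [hm, zpow_mul, hx2, one_zpow]
  · right
    rw [hm, zpow_add, zpow_mul, hx2, one_zpow, one_mul, zpow_one]

/-- For a finite group G, balance in the sense of commuting involutions is the same as 1-balance for the prime 2. -/
theorem result {G : Type*} [Group G] [Finite G] : Cfsg.IsBalanced G ↔ Cfsg.IsKBalanced 2 1 G := by
  constructor
  · intro hbal A hA hcard b hb hcomm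
    -- A has a nonidentity element
    have hnt : Nontrivial A := by
      rw [← Finite.one_lt_card_iff_nontrivial, hcard]; norm_num
    obtain ⟨⟨a₀, ha₀A⟩, ha₀⟩ := exists_ne (1 : A)
    have ha₀1 : a₀ ≠ 1 := fun h => ha₀ (Subtype.ext h)
    have ha₀2 : orderOf a₀ = 2 := by
      have h2 : a₀ ^ 2 = 1 := hA.2 a₀ ha₀A
      exact orderOf_eq_prime h2 ha₀1
    have h1 : Cfsg.signalizerDelta 2 A ≤ Cfsg.centralizerPPrimeCore 2 a₀ := by
      unfold Cfsg.signalizerDelta
      exact iInf_le (fun a : {a : G // a ∈ A ∧ a ≠ 1} => Cfsg.centralizerPPrimeCore 2 (a : G))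
        ⟨a₀, ha₀A, ha₀1⟩
    calc Cfsg.signalizerDelta 2 A ⊓ Subgroup.centralizer {b}
        ≤ Cfsg.centralizerPPrimeCore 2 a₀ ⊓ Subgroup.centralizer {b} := inf_le_inf_right _ h1
      _ = Cfsg.centralizerPPrimeCore 2 b ⊓ Subgroup.centralizer {a₀} :=
          hbal a₀ b ha₀2 hb (hcomm a₀ ha₀A)
      _ ≤ Cfsg.centralizerPPrimeCore 2 b := inf_le_left
  · intro hk
    have key : ∀ x y : G, orderOf x = 2 → orderOf y = 2 → x * y = y * x →
        Cfsg.centralizerPPrimeCore 2 x ⊓ Subgroup.centralizer {y} ≤
          Cfsg.centralizerPPrimeCore 2 y ⊓ Subgroup.centralizer {x} := by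
      intro x y hx hy hxy
      have hx2 : x ^ 2 = 1 := by rw [← hx]; exact pow_orderOf_eq_one x
      have hA : Cfsg.IsElementaryAbelian 2 (Subgroup.zpowers x) := by
        refine ⟨?_, ?_⟩
        · exact ⟨⟨fun a b => by
            obtain ⟨a, ha⟩ := a
            obtain ⟨b, hb⟩ := b
            apply Subtype.ext
            obtain ⟨k, rfl⟩ := Subgroup.mem_zpowers_iff.1 ha
            obtain ⟨l, rfl⟩ := Subgroup.mem_zpowers_iff.1 hb
            simp only [Subgroup.coe_mul]
            rw [← zpow_add, ← zpow_add, add_comm]⟩⟩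
        · intro a ha
          rcases mem_zpowers_of_order_two x a hx ha with rfl | rfl
          · simp
          · exact hx2
      have hcard : Nat.card (Subgroup.zpowers x) = 2 ^ 1 := by
        rw [Nat.card_zpowers, hx]; norm_num
      have hcomm : ∀ a ∈ Subgroup.zpowers x, a * y = y * a := by
        intro a ha
        rcases mem_zpowers_of_order_two x a hx ha with rfl | rfl
        · simp
        · exact hxy
      have h1 := hk (Subgroup.zpowers x) hA hcard y hy hcomm
      have h2 : Cfsg.centralizerPPrimeCore 2 x ≤ Cfsg.signalizerDelta 2 (Subgroup.zpowers x) := by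
        unfold Cfsg.signalizerDelta
        apply le_iInf
        rintro ⟨a, ha, ha1⟩
        rcases mem_zpowers_of_order_two x a hx ha with rfl | rfl
        · exact absurd rfl ha1
        · exact le_rfl
      apply le_inf
      · exact (inf_le_inf_right _ h2).trans h1
      · exact inf_le_left.trans (cpc_le_centralizer 2 x)
    intro x y hx hy hxy
    exact le_antisymm (key x y hx hy hxy) (key y x hy hx hxy.symm)

end Cfsg.Agent.S1300
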