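import Mathlib
import Cfsg.Statements.S1303
import Cfsg.Agent.Lib_helper7_PConstr
import Cfsg.Agent.Lib_helper7_Balance2

set_option autoImplicit false
open Cfsg

namespace Cfsg.Agent.S1303

set_option maxRecDepth 100000 in
theorem fact_comm4 : ∀ x g : Matrix.SpecialLinearGroup (Fin 2) (ZMod 3),
    (x * g * x⁻¹ * g⁻¹) ^ 4 = 1 := by decide +kernel

set_option maxRecDepth 100000 in
theorem fact_closed4 : ∀ g h : Matrix.SpecialLinearGroup (Fin 2) (ZMod 3),
    g ^ 4 = 1 → h ^ 4 = 1 → (g * h) ^ 4 = 1 := by decide +kernel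

set_option maxRecDepth 100000 in
theorem fact_comm2 : ∀ x y : Matrix.SpecialLinearGroup (Fin 2) (ZMod 3),
    x ^ 4 = 1 → y ^ 4 = 1 → (x * y * x⁻¹ * y⁻¹) ^ 2 = 1 := by decide +kernel

set_option maxRecDepth 100000 in
theorem fact_central : ∀ x : Matrix.SpecialLinearGroup (Fin 2) (ZMod 3),
    x ^ 2 = 1 → ∀ g, g * x = x * g := by decide +kernel

set_option maxRecDepth 100000 in
theorem fact_center_sq : ∀ x : Matrix.SpecialLinearGroup (Fin 2) (ZMod 3),
    (∀ g, x * g = g * x) → x ^ 2 = 1 := by decide +kernel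

set_option maxRecDepth 100000 in
theorem fact_order3 : ∃ x : Matrix.SpecialLinearGroup (Fin 2) (ZMod 3),
    x ^ 3 = 1 ∧ x ≠ 1 := by decide +kernel

/-- `SL(2,3)` is solvable. -/
theorem solvable : Group.IsSolvable (Matrix.SpecialLinearGroup (Fin 2) (ZMod 3)) := by
  let T4 : Subgroup (Matrix.SpecialLinearGroup (Fin 2) (ZMod 3)) :=
    { carrier := {g | g ^ 4 = 1}
      mul_mem' := fun {g h} hg hh => fact_closed4 g h hg hh
      one_mem' := one_pow 4
      inv_mem' := fun {g} hg => by
        change g⁻¹ ^ 4 = 1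
        rw [inv_pow, hg, inv_one] }
  let T2 : Subgroup (Matrix.SpecialLinearGroup (Fin 2) (ZMod 3)) :=
    { carrier := {g | g ^ 2 = 1}
      mul_mem' := fun {g h} hg hh => by
        change (g * h) ^ 2 = 1
        have hc : Commute g h := (fact_central h hh g)
        rw [hc.mul_pow, hg, hh, one_mul]
      one_mem' := one_pow 2
      inv_mem' := fun {g} hg => by
        change g⁻¹ ^ 2 = 1
        rw [inv_pow, hg, inv_one] }
  have h1 : derivedSeries (Matrix.SpecialLinearGroup (Fin 2) (ZMod 3)) 1 ≤ T4 := by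
    rw [derivedSeries_succ, derivedSeries_zero]
    rw [Subgroup.commutator_le]
    intro x _ g _
    exact fact_comm4 x g
  have h2 : derivedSeries (Matrix.SpecialLinearGroup (Fin 2) (ZMod 3)) 2 ≤ T2 := by
    rw [derivedSeries_succ]
    refine le_trans (Subgroup.commutator_mono h1 h1) ?_
    rw [Subgroup.commutator_le]
    intro x hx y hy
    exact fact_comm2 x y hx hy
  have h3 : derivedSeries (Matrix.SpecialLinearGroup (Fin 2) (ZMod 3)) 3 = ⊥ := by
    rw [eq_bot_iff, derivedSeries_succ]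
    refine le_trans (Subgroup.commutator_mono h2 h2) ?_
    rw [Subgroup.commutator_le]
    intro x hx y hy
    rw [Subgroup.mem_bot, commutatorElement_def]
    have hc : y * x = x * y := fact_central x hx y
    calc x * y * x⁻¹ * y⁻¹ = (y * x) * x⁻¹ * y⁻¹ := by rw [hc]
      _ = 1 := by group
  exact (isSolvable_def _).mpr ⟨3, h3⟩

open Cfsg.Agent.helper7 in
/-- The group X = SL(2, 3): it is 2-constrained, O_{2'}(X) = 1, its centre A = Z(X) contains every involution of X = C_X(A), and X has a subgroup of order 3 (normalized by A) not contained in O_{2'}(X). -/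
theorem result : Cfsg.IsPConstrained 2 (Matrix.SpecialLinearGroup (Fin 2) (ZMod 3)) ∧ Cfsg.pPrimeCore 2 (Matrix.SpecialLinearGroup (Fin 2) (ZMod 3)) = ⊥ ∧ (∀ t : Matrix.SpecialLinearGroup (Fin 2) (ZMod 3), orderOf t = 2 → t ∈ Subgroup.center (Matrix.SpecialLinearGroup (Fin 2) (ZMod 3))) ∧ ∃ Q : Subgroup (Matrix.SpecialLinearGroup (Fin 2) (ZMod 3)), Nat.card ↥Q = 3 ∧ ¬ (Q ≤ Cfsg.pPrimeCore 2 (Matrix.SpecialLinearGroup (Fin 2) (ZMod 3))) := by
  have hcore : Cfsg.pPrimeCore 2 (Matrix.SpecialLinearGroup (Fin 2) (ZMod 3)) = ⊥ := by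
    rw [eq_bot_iff]
    unfold Cfsg.pPrimeCore
    apply sSup_le
    rintro N ⟨hN, hcop⟩ x hx
    rw [Subgroup.mem_bot]
    have hord : ∀ c ∈ N, ∀ k : ℕ, c ^ (2 ^ k) = 1 → c = 1 := by
      intro c hc k hk
      have h1 : orderOf c ∣ 2 ^ k := orderOf_dvd_of_pow_eq_one hk
      have h2 : orderOf c ∣ Nat.card N := by
        have := orderOf_dvd_natCard (⟨c, hc⟩ : N)
        rwa [Subgroup.orderOf_mk] at this
      have h3 : orderOf c = 1 :=
        Nat.eq_one_of_dvd_coprimes (Nat.Coprime.pow_right k hcop) h2 h1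
      exact orderOf_eq_one_iff.mp h3
    have hcentral : ∀ g, x * g = g * x := by
      intro g
      have hc : x * g * x⁻¹ * g⁻¹ ∈ N := by
        have h1 : g * x⁻¹ * g⁻¹ ∈ N := hN.conj_mem _ (N.inv_mem hx) g
        have := N.mul_mem hx h1
        simpa [mul_assoc] using this
      have h1 := hord _ hc 2 (fact_comm4 x g)
      calc x * g = (x * g * x⁻¹ * g⁻¹) * (g * x) := by group
        _ = g * x := by rw [h1, one_mul]
    exact hord x hx 1 (by simpa using fact_center_sq x hcentral)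
  refine ⟨?_, hcore, ?_, ?_⟩
  · exact (isPConstrained_iff Nat.prime_two).2 (pLayer_eq_bot_of_solvable 2 solvable)
  · intro t ht
    rw [Subgroup.mem_center_iff]
    intro g
    apply fact_central
    have := pow_orderOf_eq_one t
    rwa [ht] at this
  · obtain ⟨x, hx3, hx1⟩ := fact_order3
    refine ⟨Subgroup.zpowers x, ?_, ?_⟩
    · rw [Nat.card_zpowers]
      have : Fact (Nat.Prime 3) := ⟨Nat.prime_three⟩
      exact orderOf_eq_prime hx3 hx1
    · rw [hcore]
      intro h
      have := h (Subgroup.mem_zpowers x)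
      rw [Subgroup.mem_bot] at this
      exact hx1 this

end Cfsg.Agent.S1303
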