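import Mathlib
import Cfsg.Statements.S1304

set_option autoImplicit false
open Cfsg
open scoped commutatorElement

namespace Cfsg.Agent.S1304

/-- Let X be a perfect group and α an automorphism of X with α(x) x⁻¹ central for every x. Then α is the identity. -/
theorem result {X : Type*} [Group X] (hperf : commutator X = ⊤) (α : X ≃* X) (h : ∀ x : X, α x * x⁻¹ ∈ Subgroup.center X) : ∀ x : X, α x = x := by
  -- the set of fixed points of α is a subgroup containing all commutators
  let F : Subgroup X :=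
    { carrier := {x | α x = x}
      mul_mem' := by
        intro a b ha hb
        simp only [Set.mem_setOf_eq] at *
        rw [map_mul, ha, hb]
      one_mem' := by simp
      inv_mem' := by
        intro a ha
        simp only [Set.mem_setOf_eq] at *
        rw [map_inv, ha] }
  have hF : commutator X ≤ F := by
    rw [commutator_def, Subgroup.commutator_le]
    intro a _ b _
    show α ⁅a, b⁆ = ⁅a, b⁆
    have ha := h a
    have hb := h b
    rw [Subgroup.mem_center_iff] at ha hb
    -- α a = za * a, α b = zb * b with za, zb central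
    set za := α a * a⁻¹ with hza
    set zb := α b * b⁻¹ with hzb
    have e1 : α a = za * a := by simp [hza]
    have e2 : α b = zb * b := by simp [hzb]
    rw [commutatorElement_def, map_mul, map_mul, map_mul, map_inv, map_inv, e1, e2]
    have c1 : ∀ g, g * za = za * g := ha
    have c2 : ∀ g, g * zb = zb * g := hb
    have c1' : ∀ g, g * za⁻¹ = za⁻¹ * g := by
      intro g
      have := c1 g⁻¹
      calc g * za⁻¹ = (za * g⁻¹)⁻¹ := by group
        _ = (g⁻¹ * za)⁻¹ := by rw [this]
        _ = za⁻¹ * g := by group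
    have c2' : ∀ g, g * zb⁻¹ = zb⁻¹ * g := by
      intro g
      have := c2 g⁻¹
      calc g * zb⁻¹ = (zb * g⁻¹)⁻¹ := by group
        _ = (g⁻¹ * zb)⁻¹ := by rw [this]
        _ = zb⁻¹ * g := by group
    calc za * a * (zb * b) * (za * a)⁻¹ * (zb * b)⁻¹
        = za * a * (zb * b) * (a⁻¹ * za⁻¹) * (b⁻¹ * zb⁻¹) := by simp [mul_inv_rev]
      _ = za * (a * zb) * b * a⁻¹ * za⁻¹ * b⁻¹ * zb⁻¹ := by group
      _ = za * (zb * a) * b * a⁻¹ * za⁻¹ * b⁻¹ * zb⁻¹ := by rw [c2 a]
      _ = za * zb * (a * b * a⁻¹ * za⁻¹) * b⁻¹ * zb⁻¹ := by group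
      _ = za * zb * (za⁻¹ * (a * b * a⁻¹)) * b⁻¹ * zb⁻¹ := by rw [c1' (a * b * a⁻¹)]
      _ = za * (zb * za⁻¹) * (a * b * a⁻¹ * b⁻¹ * zb⁻¹) := by group
      _ = za * (za⁻¹ * zb) * (zb⁻¹ * (a * b * a⁻¹ * b⁻¹)) := by rw [c1' zb, c2' (a * b * a⁻¹ * b⁻¹)]
      _ = a * b * a⁻¹ * b⁻¹ := by group
  intro x
  have : x ∈ F := hF (by rw [hperf]; trivial)
  exact this

end Cfsg.Agent.S1304
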