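import Mathlib
import Cfsg.Statements.S1306
import Cfsg.Agent.Lib_helper7_Comp

set_option autoImplicit false
open Cfsg

namespace Cfsg.Agent.S1306

open Cfsg.Agent.helper7

/-- Let G be finite, x an involution and L ≤ C_G(x) a component of C_G(x). Suppose L is a component of C_G(y) for every involution y ∈ C_G(L), and ⁅L, g L g⁻¹⁆ ≠ 1 whenever g L g⁻¹ ≠ L. Then L is a standard subgroup of G. -/
theorem result {G : Type*} [Group G] [Finite G] (x : G) (hx : orderOf x = 2) (L : Subgroup G) (hLx : L ≤ Subgroup.centralizer ({x} : Set G)) (hL : Cfsg.IsComponent (L.subgroupOf (Subgroup.centralizer ({x} : Set G)))) (hne : ∀ y : G, orderOf y = 2 → y ∈ Subgroup.centralizer (L : Set G) → L ≤ Subgroup.centralizer ({y} : Set G) ∧ Cfsg.IsComponent (L.subgroupOf (Subgroup.centralizer ({y} : Set G)))) (hnc : ∀ g : G, L.map (MulAut.conj g).toMonoidHom ≠ L → ⁅L, L.map (MulAut.conj g).toMonoidHom⁆ ≠ ⊥) : Cfsg.IsStandardSubgroup L := by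
  -- components as `Comp`
  have hcomp : ∀ y : G, orderOf y = 2 → y ∈ Subgroup.centralizer (L : Set G) →
      Comp L (Subgroup.centralizer ({y} : Set G)) := by
    intro y hy hyL
    obtain ⟨h1, h2⟩ := hne y hy hyL
    have := isComponent_sub_iff.1 h2
    rwa [Subgroup.subgroupOf_map_subtype, inf_of_le_left h1] at this
  have hxL : x ∈ Subgroup.centralizer (L : Set G) := by
    rw [Subgroup.mem_centralizer_iff]
    intro l hl
    have := hLx hl
    rw [Subgroup.mem_centralizer_iff] at this
    exact (this x rfl).symm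
  have hLcomp : Comp L (Subgroup.centralizer ({x} : Set G)) := hcomp x hx hxL
  -- key: an involution in C(L) ∩ C(L^g) forces L^g = L
  have key : ∀ (g y : G), orderOf y = 2 → y ∈ Subgroup.centralizer (L : Set G) →
      y ∈ cj g (Subgroup.centralizer (L : Set G)) → cj g L = L := by
    intro g y hy hyL hyLg
    by_contra hneq
    have hy' : g⁻¹ * y * g ∈ Subgroup.centralizer (L : Set G) := mem_cj.1 hyLg
    have hord : orderOf (g⁻¹ * y * g) = 2 := by
      have hsc : SemiconjBy g⁻¹ y (g⁻¹ * y * g) := by
        unfold SemiconjBy; group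
      rw [← SemiconjBy.orderOf_eq g⁻¹ hsc]
      exact hy
    have h1 : Comp L (Subgroup.centralizer ({g⁻¹ * y * g} : Set G)) := hcomp _ hord hy'
    have h2 : Comp (cj g L) (cj g (Subgroup.centralizer ({g⁻¹ * y * g} : Set G))) := h1.conj g
    have h3 : cj g (Subgroup.centralizer ({g⁻¹ * y * g} : Set G)) =
        Subgroup.centralizer ({y} : Set G) := by
      ext z
      rw [mem_cj, Subgroup.mem_centralizer_iff, Subgroup.mem_centralizer_iff]
      constructor
      · intro h w hw
        rw [Set.mem_singleton_iff] at hw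
        subst hw
        have := h _ rfl
        calc w * z = g * ((g⁻¹ * w * g) * (g⁻¹ * z * g)) * g⁻¹ := by group
          _ = g * ((g⁻¹ * z * g) * (g⁻¹ * w * g)) * g⁻¹ := by rw [this]
          _ = z * w := by group
      · intro h w hw
        rw [Set.mem_singleton_iff] at hw
        subst hw
        have := h y rfl
        calc g⁻¹ * y * g * (g⁻¹ * z * g) = g⁻¹ * (y * z) * g := by group
          _ = g⁻¹ * (z * y) * g := by rw [this]
          _ = g⁻¹ * z * g * (g⁻¹ * y * g) := by group
    rw [h3] at h2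
    have h4 : Comp L (Subgroup.centralizer ({y} : Set G)) := hcomp y hy hyL
    have h5 : ⁅L, cj g L⁆ = ⊥ := h4.comm_of_ne h2 (fun h => hneq h.symm)
    exact hnc g hneq h5
  -- existence of involution in even order subgroup
  have hinv : ∀ K : Subgroup G, Even (Nat.card ↥K) → ∃ y ∈ K, orderOf y = 2 := by
    intro K hK
    have : Fact (Nat.Prime 2) := ⟨Nat.prime_two⟩
    obtain ⟨y, hy⟩ := exists_prime_orderOf_dvd_card' (G := ↥K) 2 (even_iff_two_dvd.mp hK)
    exact ⟨y.1, y.2, by rw [Subgroup.orderOf_coe]; exact hy⟩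
  refine ⟨?_, ⟨?_, ?_⟩, hnc, ?_⟩
  · exact (qs_iff_QS L).2 hLcomp.2
  · -- even order
    have h2 : orderOf (⟨x, hxL⟩ : ↥(Subgroup.centralizer (L : Set G))) = 2 := by
      rw [← Subgroup.orderOf_coe]; exact hx
    rw [even_iff_two_dvd, ← h2]
    exact orderOf_dvd_natCard _
  · intro g hg
    by_contra hodd
    rw [Nat.not_odd_iff_even] at hodd
    obtain ⟨y, hyK, hy2⟩ := hinv _ hodd
    have h1 := key g y hy2 hyK.1 hyK.2
    apply hg
    have h2 : cj g (Subgroup.centralizer (L : Set G)) = Subgroup.centralizer (L : Set G) := by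
      rw [cj_centralizer, h1]
    exact mem_normalizer_of_cj_eq h2
  · apply le_antisymm
    · intro g hg
      have h1 : cj g L = L := cj_eq_of_mem_normalizer hg
      have h2 : cj g (Subgroup.centralizer (L : Set G)) = Subgroup.centralizer (L : Set G) := by
        rw [cj_centralizer, h1]
      exact mem_normalizer_of_cj_eq h2
    · intro g hg
      have h1 : cj g (Subgroup.centralizer (L : Set G)) = Subgroup.centralizer (L : Set G) :=
        cj_eq_of_mem_normalizer hg
      have h2 := key g x hx hxL (by rw [h1]; exact hxL)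
      exact mem_normalizer_of_cj_eq h2

end Cfsg.Agent.S1306
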