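import Mathlib
import Cfsg.Statements.S1313
import Cfsg.Agent.Lib_helper7_Extra

set_option autoImplicit false
open Cfsg

namespace Cfsg.Agent.S1313

open Cfsg.Agent.helper7

/-- `|N| * |Aut N| ≤ |N|!`. -/
theorem card_mul_card_aut_le (N : Type*) [Group N] [Finite N] :
    Nat.card N * Nat.card (MulAut N) ≤ (Nat.card N).factorial := by
  rw [← Nat.card_perm, ← Nat.card_prod]
  let f : N × MulAut N → Equiv.Perm N := fun p =>
    (p.2.toEquiv).trans (Equiv.mulLeft p.1)
  apply Nat.card_le_card_of_injective f
  rintro ⟨z, α⟩ ⟨z', α'⟩ h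
  have h1 : ∀ x : N, z * α x = z' * α' x := fun x => by
    have := congrArg (fun σ : Equiv.Perm N => σ x) h
    simpa [f] using this
  have hz : z = z' := by simpa using h1 1
  subst hz
  have hα : α = α' := by
    ext x
    exact mul_left_cancel (h1 x)
  rw [hα]

/-- For a finite group H, |H| ≤ |F*(H)|!. -/
theorem result {H : Type*} [Group H] [Finite H] : Nat.card H ≤ Nat.factorial (Nat.card ↥(Cfsg.generalizedFittingSubgroup H)) := by
  set N := Cfsg.generalizedFittingSubgroup H with hN
  have hNn : N.Normal := by
    rw [hN, generalizedFittingSubgroup_eq, ← Subgroup.normalizer_eq_top_iff, eq_top_iff]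
    exact fstarOf_normal ⊤
  let φ : H →* MulAut ↥N := MulAut.conjNormal
  have hker : φ.ker ≤ N := by
    intro x hx
    rw [MonoidHom.mem_ker] at hx
    have hc : x ∈ Subgroup.centralizer (N : Set H) := by
      rw [Subgroup.mem_centralizer_iff]
      intro n hn
      have := congrArg (fun α : MulAut ↥N => ((α ⟨n, hn⟩ : ↥N) : H)) hx
      simp only [φ, MulAut.conjNormal_apply, MulAut.one_apply] at this
      calc n * x = (x * n * x⁻¹) * x := by rw [this]
        _ = x * n := by group
    have h2 : Subgroup.centralizer (N : Set H) ≤ N := by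
      have := centralizer_fstarOf_le (⊤ : Subgroup H)
      rw [top_inf_eq, ← generalizedFittingSubgroup_eq] at this
      exact this
    exact h2 hc
  have h1 : Nat.card H = Nat.card φ.ker * Nat.card φ.range := by
    rw [← Subgroup.index_ker, Subgroup.card_mul_index]
  have h2 : Nat.card φ.ker ≤ Nat.card N := Subgroup.card_le_of_le hker
  have h3 : Nat.card φ.range ≤ Nat.card (MulAut ↥N) := Subgroup.card_le_card_group _
  calc Nat.card H = Nat.card φ.ker * Nat.card φ.range := h1
    _ ≤ Nat.card N * Nat.card (MulAut ↥N) := Nat.mul_le_mul h2 h3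
    _ ≤ (Nat.card N).factorial := card_mul_card_aut_le ↥N

end Cfsg.Agent.S1313
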