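import Mathlib
import Cfsg.Statements.S1314
import Cfsg.Agent.Lib_helper7_Cores
import Cfsg.Agent.Lib_helper7_SN

set_option autoImplicit false
open Cfsg
open scoped commutatorElement

namespace Cfsg.Agent.S1314

open Cfsg.Agent.helper7

/-- Let x be an involution of a group G and L a perfect subgroup with ⁅L, x L x⁻¹⁆ = 1. Then l ↦ l (x l x⁻¹) is a group homomorphism π from L to G whose kernel is central in L and whose image lies in C_G(x); and the commutator subgroup of C_{L ⊔ xLx⁻¹}(x) equals the image of π. -/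
theorem result {G : Type*} [Group G] [Finite G] (x : G) (hx : orderOf x = 2) (L : Subgroup G) (hperf : ⁅L, L⁆ = L) (hcomm : ⁅L, L.map (MulAut.conj x).toMonoidHom⁆ = ⊥) : ∃ π : ↥L →* G, (∀ l : ↥L, π l = (l : G) * (x * (l : G) * x⁻¹)) ∧ π.ker ≤ Subgroup.center ↥L ∧ π.range ≤ Subgroup.centralizer ({x} : Set G) ∧ ⁅(L ⊔ L.map (MulAut.conj x).toMonoidHom) ⊓ Subgroup.centralizer ({x} : Set G), (L ⊔ L.map (MulAut.conj x).toMonoidHom) ⊓ Subgroup.centralizer ({x} : Set G)⁆ = π.range := by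
  have hxx : x * x = 1 := by
    have := pow_orderOf_eq_one x
    rw [hx, pow_two] at this
    exact this
  have hxinv : x⁻¹ = x := inv_eq_of_mul_eq_one_right hxx
  -- commutation of `L` and `L^x`
  have hc : ∀ a ∈ L, ∀ b ∈ L, a * (x * b * x⁻¹) = (x * b * x⁻¹) * a := by
    intro a ha b hb
    have h1 := Subgroup.commutator_eq_bot_iff_le_centralizer.1 hcomm
    have h2 := Subgroup.mem_centralizer_iff.1 (h1 ha) (x * b * x⁻¹) (cj_mem_cj hb)
    exact h2.symm
  -- the homomorphism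
  let π : ↥L →* G :=
    { toFun := fun l => (l : G) * (x * (l : G) * x⁻¹)
      map_one' := by simp
      map_mul' := by
        intro a b
        show ((a * b : ↥L) : G) * (x * ((a * b : ↥L) : G) * x⁻¹) =
          (a : G) * (x * (a : G) * x⁻¹) * ((b : G) * (x * (b : G) * x⁻¹))
        rw [Subgroup.coe_mul]
        have h := hc b b.2 a a.2
        calc (a : G) * b * (x * ((a : G) * b) * x⁻¹)
            = (a : G) * ((b : G) * (x * a * x⁻¹)) * (x * b * x⁻¹) := by group
          _ = (a : G) * ((x * a * x⁻¹) * (b : G)) * (x * b * x⁻¹) := by rw [h]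
          _ = _ := by group }
  have hπ : ∀ l : ↥L, π l = (l : G) * (x * (l : G) * x⁻¹) := fun l => rfl
  -- elements of `L ∩ L^x` commute with `L` and `L^x`
  have hz1 : ∀ z ∈ L, z ∈ cj x L → ∀ a ∈ L, z * a = a * z := by
    intro z _ hz2 a ha
    obtain ⟨b, hb, rfl⟩ := hz2
    exact (hc a ha b hb).symm
  have hz2 : ∀ z ∈ L, z ∈ cj x L → ∀ a ∈ L, z * (x * a * x⁻¹) = (x * a * x⁻¹) * z := by
    intro z hz _ a ha
    exact hc z hz a ha
  have hrange : π.range ≤ (L ⊔ cj x L) ⊓ Subgroup.centralizer ({x} : Set G) := by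
    rintro _ ⟨l, rfl⟩
    refine ⟨?_, ?_⟩
    · rw [hπ]
      exact Subgroup.mul_mem _ (le_sup_left (b := cj x L) l.2) (le_sup_right (a := L) (cj_mem_cj l.2))
    · show π l ∈ Subgroup.centralizer ({x} : Set G)
      rw [Subgroup.mem_centralizer_iff]
      intro y hy
      rw [Set.mem_singleton_iff] at hy; subst hy
      rw [hπ]
      have h := hc l l.2 l l.2
      calc y * ((l : G) * (y * l * y⁻¹)) = (y * l * y⁻¹) * (y * y * l * y⁻¹) := by group
        _ = (y * l * y⁻¹) * (l : G) * y := by rw [hxx, hxinv]; group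
        _ = (l : G) * (y * l * y⁻¹) * y := by rw [h]
  refine ⟨π, hπ, ?_, hrange.trans inf_le_right, ?_⟩
  · intro l hl
    rw [MonoidHom.mem_ker, hπ] at hl
    rw [Subgroup.mem_center_iff]
    intro a
    have h1 : (l : G) = (x * (l : G) * x⁻¹)⁻¹ := eq_inv_of_mul_eq_one_left hl
    have h2 : (l : G) ∈ cj x L := by
      rw [h1]
      exact Subgroup.inv_mem _ (cj_mem_cj l.2)
    apply Subtype.ext
    exact (hz1 l l.2 h2 a a.2).symm
  · apply le_antisymm
    · rw [Subgroup.commutator_le]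
      -- decomposition of elements of the centralizer
      have hdec : ∀ c ∈ (L ⊔ cj x L) ⊓ Subgroup.centralizer ({x} : Set G),
          ∃ b : ↥L, ∃ z ∈ L, z ∈ cj x L ∧ c = π b * z := by
        rintro c ⟨hc1, hc2⟩
        have hn : cj x L ≤ Subgroup.normalizer (L : Set G) := by
          refine le_trans ?_ (Subgroup.centralizer_le_normalizer _)
          rintro _ ⟨b, hb, rfl⟩
          rw [Subgroup.mem_centralizer_iff]
          intro a ha
          exact hc a ha b hb
        obtain ⟨a, ha, b', ⟨b, hb, rfl⟩, rfl⟩ := mem_sup_of_normalizer hn hc1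
        have hcx : x * (a * (x * b * x⁻¹)) = (a * (x * b * x⁻¹)) * x :=
          Subgroup.mem_centralizer_iff.1 hc2 x (Set.mem_singleton x)
        simp only [MulEquiv.coe_toMonoidHom, MulAut.conj_apply] at hcx ⊢
        -- `z = b⁻¹ a`
        have h3 : b⁻¹ * a = x * (a * b⁻¹) * x⁻¹ := by
          have h4 : x * a * x⁻¹ * b = a * (x * b * x⁻¹) := by
            calc x * a * x⁻¹ * b = x * (a * (x * b * x⁻¹)) * x := by
                  rw [hxinv]
                  calc x * a * x * b = x * a * x * (1 * b) := by rw [one_mul]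
                    _ = x * a * x * (x * x * b) := by rw [hxx]
                    _ = x * (a * (x * b * x)) * x := by
                        have : x * a * x * (x * x * b) = x * a * (x * x) * x * b := by group
                        rw [this, hxx]
                        have : x * (a * (x * b * x)) * x = x * a * x * b * (x * x) := by group
                        rw [this, hxx]; group
              _ = (a * (x * b * x⁻¹)) * x * x := by rw [hcx]
              _ = a * (x * b * x⁻¹) := by rw [mul_assoc, hxx, mul_one]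
          have h5 := hc a ha b hb
          calc b⁻¹ * a = b⁻¹ * (a * (x * b * x⁻¹)) * (x * b⁻¹ * x⁻¹) := by group
            _ = b⁻¹ * (x * a * x⁻¹ * b) * (x * b⁻¹ * x⁻¹) := by rw [h4]
            _ = b⁻¹ * ((x * a * x⁻¹) * b) * (x * b⁻¹ * x⁻¹) := by group
            _ = b⁻¹ * (b * (x * a * x⁻¹)) * (x * b⁻¹ * x⁻¹) := by rw [hc b hb a ha]
            _ = x * (a * b⁻¹) * x⁻¹ := by group
        refine ⟨⟨b, hb⟩, b⁻¹ * a, L.mul_mem (L.inv_mem hb) ha, ?_, ?_⟩
        · rw [h3]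
          exact cj_mem_cj (L.mul_mem ha (L.inv_mem hb))
        · rw [hπ]
          show a * (x * b * x⁻¹) = b * (x * b * x⁻¹) * (b⁻¹ * a)
          have h6 := hc (b⁻¹ * a) (L.mul_mem (L.inv_mem hb) ha) b hb
          calc a * (x * b * x⁻¹) = b * ((b⁻¹ * a) * (x * b * x⁻¹)) := by group
            _ = b * ((x * b * x⁻¹) * (b⁻¹ * a)) := by rw [h6]
            _ = _ := by group
      intro c₁ hc₁ c₂ hc₂
      obtain ⟨b₁, z₁, hz₁L, hz₁x, rfl⟩ := hdec c₁ hc₁
      obtain ⟨b₂, z₂, hz₂L, hz₂x, rfl⟩ := hdec c₂ hc₂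
      -- central elements
      have hcen : ∀ z ∈ L, z ∈ cj x L → ∀ b : ↥L, z * π b = π b * z := by
        intro z hzL hzx b
        rw [hπ]
        have e1 := hz1 z hzL hzx b b.2
        have e2 := hz2 z hzL hzx b b.2
        calc z * ((b : G) * (x * b * x⁻¹)) = (z * b) * (x * b * x⁻¹) := by group
          _ = (b * z) * (x * b * x⁻¹) := by rw [e1]
          _ = b * (z * (x * b * x⁻¹)) := by group
          _ = b * ((x * b * x⁻¹) * z) := by rw [e2]
          _ = _ := by group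
      have hzz : z₁ * z₂ = z₂ * z₁ := hz1 z₁ hz₁L hz₁x z₂ hz₂L
      have hcomm_eq : ⁅π b₁ * z₁, π b₂ * z₂⁆ = π ⁅b₁, b₂⁆ := by
        rw [map_commutatorElement, commutatorElement_def, commutatorElement_def]
        have e1 := hcen z₁ hz₁L hz₁x b₂
        have e2 := hcen z₂ hz₂L hz₂x b₁
        have e3 := hcen z₁ hz₁L hz₁x b₁
        have e4 := hcen z₂ hz₂L hz₂x b₂
        have e1' : z₁ * (π b₂)⁻¹ = (π b₂)⁻¹ * z₁ := by
          calc z₁ * (π b₂)⁻¹ = (π b₂)⁻¹ * (π b₂ * z₁) * (π b₂)⁻¹ := by group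
            _ = (π b₂)⁻¹ * (z₁ * π b₂) * (π b₂)⁻¹ := by rw [e1]
            _ = _ := by group
        have e2' : z₂ * (π b₁)⁻¹ = (π b₁)⁻¹ * z₂ := by
          calc z₂ * (π b₁)⁻¹ = (π b₁)⁻¹ * (π b₁ * z₂) * (π b₁)⁻¹ := by group
            _ = (π b₁)⁻¹ * (z₂ * π b₁) * (π b₁)⁻¹ := by rw [e2]
            _ = _ := by group
        calc π b₁ * z₁ * (π b₂ * z₂) * (π b₁ * z₁)⁻¹ * (π b₂ * z₂)⁻¹
            = π b₁ * (z₁ * π b₂) * (z₂ * z₁⁻¹) * (π b₁)⁻¹ * z₂⁻¹ * (π b₂)⁻¹ := by group
          _ = π b₁ * (π b₂ * z₁) * (z₂ * z₁⁻¹) * (π b₁)⁻¹ * z₂⁻¹ * (π b₂)⁻¹ := by rw [e1]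
          _ = π b₁ * π b₂ * (z₁ * z₂) * z₁⁻¹ * (π b₁)⁻¹ * z₂⁻¹ * (π b₂)⁻¹ := by group
          _ = π b₁ * π b₂ * (z₂ * z₁) * z₁⁻¹ * (π b₁)⁻¹ * z₂⁻¹ * (π b₂)⁻¹ := by rw [hzz]
          _ = π b₁ * π b₂ * (z₂ * (π b₁)⁻¹) * z₂⁻¹ * (π b₂)⁻¹ := by group
          _ = π b₁ * π b₂ * ((π b₁)⁻¹ * z₂) * z₂⁻¹ * (π b₂)⁻¹ := by rw [e2']
          _ = π b₁ * π b₂ * (π b₁)⁻¹ * (π b₂)⁻¹ := by group
      rw [hcomm_eq]
      exact ⟨_, rfl⟩
    · -- `π(L) = π([L,L]) = [π L, π L]`
      have h1 : π.range = Subgroup.map π ⁅(⊤ : Subgroup ↥L), (⊤ : Subgroup ↥L)⁆ := by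
        have : ⁅(⊤ : Subgroup ↥L), (⊤ : Subgroup ↥L)⁆ = ⊤ := by
          apply Subgroup.map_injective L.subtype_injective
          rw [Subgroup.map_commutator, ← MonoidHom.range_eq_map, Subgroup.range_subtype, hperf]
        rw [this, MonoidHom.range_eq_map]
      rw [h1, Subgroup.map_commutator, ← MonoidHom.range_eq_map]
      exact Subgroup.commutator_mono hrange hrange

end Cfsg.Agent.S1314
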