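import Mathlib
import Cfsg.Statements.S1318
import Cfsg.Agent.Lib_helper7_FStar2

set_option autoImplicit false
open Cfsg
open Cfsg.Agent.helper7

namespace Cfsg.Agent.S1318

/-- Let X be finite and S ≤ F*(X) a subgroup subnormal in F*(X). Then F(S) = F(X) ∩ S (inside X) and S = F(S)E(S). -/
theorem result {X : Type*} [Group X] [Finite X] (S : Subgroup X) (hS : S ≤ Cfsg.generalizedFittingSubgroup X) (hsn : (S.subgroupOf (Cfsg.generalizedFittingSubgroup X)).IsSubnormal) : (Cfsg.fittingSubgroup ↥S).map S.subtype = Cfsg.fittingSubgroup X ⊓ S ∧ Cfsg.fittingSubgroup ↥S ⊔ Cfsg.layer ↥S = ⊤ := by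
  rw [generalizedFittingSubgroup_eq] at hS hsn
  have h1 : SN S (fstarOf ⊤) := sn_iff.2 ⟨hS, hsn⟩
  have h2 : SN S ⊤ := h1.trans (fstarOf_sn ⊤)
  constructor
  · rw [map_fittingSubgroup_eq, fittingSubgroup_eq, fitOf_of_sn h2]
  · apply Subgroup.map_injective S.subtype_injective
    rw [Subgroup.map_sup, map_fittingSubgroup_eq, map_layer_eq_layerOf, ← MonoidHom.range_eq_map,
      Subgroup.range_subtype, sup_comm]
    exact (sn_fstarOf_eq h1).symm

end Cfsg.Agent.S1318
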