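import Mathlib
import Cfsg.Statements.S1319
import Cfsg.Agent.Lib_helper7_Extra

set_option autoImplicit false
open Cfsg

namespace Cfsg.Agent.S1319

open Cfsg.Agent.helper7

/-- Let A be a subnormal subgroup of the finite group X with E(A) = A. Then A ≤ E(X) and A is normal in E(X). -/
theorem result {X : Type*} [Group X] [Finite X] (A : Subgroup X) (hsn : A.IsSubnormal) (hA : Cfsg.layer ↥A = ⊤) : A ≤ Cfsg.layer X ∧ (A.subgroupOf (Cfsg.layer X)).Normal := by
  have hSN : SN A ⊤ := sn_top_iff.2 hsn
  have h1 : layerOf A = A := by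
    rw [← map_layer_eq_layerOf, hA, ← MonoidHom.range_eq_map, Subgroup.range_subtype]
  have h2 : A ≤ layerOf (⊤ : Subgroup X) := by
    rw [← h1]
    apply sSup_le
    intro L hL
    exact comp_le_layerOf (hL.trans hSN)
  rw [layer_eq_layerOf]
  refine ⟨h2, ?_⟩
  rw [Subgroup.normal_subgroupOf_iff_le_normalizer h2]
  apply sSup_le
  intro L hL
  rcases comp_le_or_comm hL.1 hL.2 hSN with h | h
  · exact h.trans Subgroup.le_normalizer
  · exact (Subgroup.commutator_eq_bot_iff_le_centralizer.1 h).trans
      (Subgroup.centralizer_le_normalizer _)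

end Cfsg.Agent.S1319
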