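import Mathlib
import Cfsg.Statements.S1320
import Cfsg.Agent.Lib_helper7_FStar2

set_option autoImplicit false
open Cfsg
open Cfsg.Agent.helper7

namespace Cfsg.Agent.S1320

/-- Let B be a normal subgroup of the finite group A. Then F*(A) ∩ B = F*(B). -/
theorem result {A : Type*} [Group A] [Finite A] (B : Subgroup A) [B.Normal] : Cfsg.generalizedFittingSubgroup A ⊓ B = (Cfsg.generalizedFittingSubgroup ↥B).map B.subtype := by
  rw [generalizedFittingSubgroup_eq, map_generalizedFittingSubgroup_eq]
  have hB : SN B ⊤ := SN.of_normal le_top (by rw [Subgroup.normalizer_eq_top]; )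
  apply le_antisymm
  · have hT1 : SN (fstarOf ⊤ ⊓ B) (fstarOf (⊤ : Subgroup A)) := by
      apply SN.of_normal inf_le_left
      intro g hg
      apply mem_normalizer_of_cj_eq
      rw [cj_inf, cj_eq_of_mem_normalizer (Subgroup.le_normalizer hg),
        cj_eq_of_mem_normalizer (show g ∈ Subgroup.normalizer (B : Set A) by
          rw [Subgroup.normalizer_eq_top]; trivial)]
    have hT2 : SN (fstarOf ⊤ ⊓ B) B := by
      apply SN.of_normal inf_le_right
      intro g hg
      apply mem_normalizer_of_cj_eq
      rw [cj_inf, cj_eq_of_mem_normalizer (Subgroup.le_normalizer hg),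
        cj_eq_of_mem_normalizer (fstarOf_normal ⊤ (Subgroup.mem_top g))]
    rw [sn_fstarOf_eq hT1]
    exact fstarOf_le_of_sn hT2
  · exact le_inf (fstarOf_le_of_sn hB) (fstarOf_le B)

end Cfsg.Agent.S1320
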