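import Mathlib
import Cfsg.Statements.S1321
import Cfsg.Agent.Lib_helper7_Derived
import Cfsg.Agent.S1304

set_option autoImplicit false
open Cfsg
open scoped commutatorElement

namespace Cfsg.Agent.S1321

open Cfsg.Agent.helper7

/-- `[E, U]` is normalized by `E`. -/
theorem comm_normalized_left {G : Type*} [Group G] (E U : Subgroup G) :
    E ≤ Subgroup.normalizer ((⁅E, U⁆ : Subgroup G) : Set G) := by
  rw [Subgroup.commutator_def, Subgroup.le_normalizer_closure_iff]
  rintro e' he' _ ⟨e, he, u, hu, rfl⟩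
  have : e' * ⁅e, u⁆ * e'⁻¹ = ⁅e' * e, u⁆ * ⁅e', u⁆⁻¹ := by
    simp only [commutatorElement_def]; group
  rw [this, ← Subgroup.commutator_def]
  exact Subgroup.mul_mem _ (Subgroup.commutator_mem_commutator (E.mul_mem he' he) hu)
    (Subgroup.inv_mem _ (Subgroup.commutator_mem_commutator he' hu))

/-- An element normalizing a perfect subgroup `L` and acting trivially modulo `Z(L)` centralizes `L`. -/
theorem centralizes_of_perfect {G : Type*} [Group G] (L : Subgroup G) (hperf : ⁅L, L⁆ = L) (g : G)
    (hg : g ∈ Subgroup.normalizer (L : Set G))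
    (h : ∀ l ∈ L, g * l * g⁻¹ * l⁻¹ ∈ Subgroup.centralizer (L : Set G)) :
    g ∈ Subgroup.centralizer (L : Set G) := by
  have hg' : g⁻¹ ∈ Subgroup.normalizer (L : Set G) := Subgroup.inv_mem _ hg
  rw [Subgroup.mem_normalizer_iff] at hg hg'
  let α : ↥L ≃* ↥L :=
    { toFun := fun l => ⟨g * l * g⁻¹, (hg l).1 l.2⟩
      invFun := fun l => ⟨g⁻¹ * l * g, by have := (hg' l).1 l.2; simpa using this⟩
      left_inv := fun l => by apply Subtype.ext; simp only []; group
      right_inv := fun l => by apply Subtype.ext; simp only []; group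
      map_mul' := fun a b => by apply Subtype.ext; simp only [Subgroup.coe_mul]; group }
  have hperf' : commutator ↥L = ⊤ := (Subgroup.isPerfect_iff.2 hperf).commutator_eq_top
  have hα : ∀ x : ↥L, α x * x⁻¹ ∈ Subgroup.center ↥L := by
    intro x
    rw [Subgroup.mem_center_iff]
    intro y
    apply Subtype.ext
    have := h x x.2
    rw [Subgroup.mem_centralizer_iff] at this
    exact this y y.2
  have hfix := Cfsg.Agent.S1304.result hperf' α hα
  rw [Subgroup.mem_centralizer_iff]
  intro l hl
  have := congrArg Subtype.val (hfix ⟨l, hl⟩)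
  simp only [α, MulEquiv.coe_mk, Equiv.coe_fn_mk] at this
  calc l * g = (g * l * g⁻¹) * g := by rw [this]
    _ = g * l := by group

/-- Let X be finite and U ≤ X. Then E(X) is generated by C_{E(X)}(U) together with ⁅E(X), U⁆ (indeed it is their product, ⁅E(X), U⁆ being normal in E(X)). -/
theorem result {X : Type*} [Group X] [Finite X] (U : Subgroup X) : Cfsg.layer X = (Cfsg.layer X ⊓ Subgroup.centralizer (U : Set X)) ⊔ ⁅Cfsg.layer X, U⁆ ∧ ⁅Cfsg.layer X, U⁆ ≤ Cfsg.layer X := by
  rw [layer_eq_layerOf]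
  set E := layerOf (⊤ : Subgroup X) with hE
  have hEn : (⊤ : Subgroup X) ≤ Subgroup.normalizer (E : Set X) := layerOf_normal ⊤
  have h1 : ⁅E, U⁆ ≤ E := comm_le_of_normal le_rfl (le_top.trans hEn)
  refine ⟨?_, h1⟩
  apply le_antisymm _ (sup_le inf_le_left h1)
  set M := ⁅E, U⁆ with hM
  have hMsn : SN M ⊤ := (SN.of_normal h1 (comm_normalized_left E U)).trans (layerOf_sn ⊤)
  rw [hE]
  apply sSup_le
  intro L hL
  have hLE : L ≤ E := comp_le_layerOf hL
  rcases comp_le_or_comm hL.1 hL.2 hMsn with h | h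
  · exact h.trans le_sup_right
  · refine le_trans (le_inf hLE ?_) le_sup_left
    have hML : M ≤ Subgroup.centralizer (L : Set X) := le_centralizer_of_comm_eq_bot h
    -- every element of U centralizes L
    have hU : U ≤ Subgroup.centralizer (L : Set X) := by
      intro u hu
      have hcomm_mem : ∀ l ∈ L, l * u * l⁻¹ * u⁻¹ ∈ M := fun l hl =>
        Subgroup.commutator_mem_commutator (hLE hl) hu
      -- u normalizes L
      have hnorm : cj u L = L := by
        by_contra hne
        have hc : ⁅L, cj u L⁆ = ⊥ := hL.comm_of_ne (by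
          have := hL.conj u
          rwa [show cj u (⊤ : Subgroup X) = ⊤ from
            Subgroup.map_top_of_surjective _ (MulAut.conj u).surjective] at this) (Ne.symm hne)
        have hcl : cj u L ≤ Subgroup.centralizer (L : Set X) := le_centralizer_of_comm_eq_bot hc
        apply hL.2.not_abelian
        intro l hl
        have e1 : l * u * l⁻¹ * u⁻¹ ∈ Subgroup.centralizer (L : Set X) := hML (hcomm_mem l hl)
        have e2 : u * l⁻¹ * u⁻¹ ∈ Subgroup.centralizer (L : Set X) :=
          hcl (cj_mem_cj (L.inv_mem hl))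
        have e3 : l = (l * u * l⁻¹ * u⁻¹) * (u * l⁻¹ * u⁻¹)⁻¹ := by group
        rw [e3]
        exact Subgroup.mul_mem _ e1 (Subgroup.inv_mem _ e2)
      apply centralizes_of_perfect L hL.2.1 u (mem_normalizer_of_cj_eq hnorm)
      intro l hl
      have e1 : l * u * l⁻¹ * u⁻¹ ∈ Subgroup.centralizer (L : Set X) := hML (hcomm_mem l hl)
      have e2 : u * l * u⁻¹ * l⁻¹ = (l * u * l⁻¹ * u⁻¹)⁻¹ := by group
      rw [e2]
      exact Subgroup.inv_mem _ e1
    exact Subgroup.le_centralizer_iff.1 hU

end Cfsg.Agent.S1321
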