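import Cfsg.Statements.S1323
import Cfsg.Agent.Lib_helper25_AltStd
import Cfsg.Agent.Lib_helper7_QS

set_option autoImplicit false
open Cfsg

namespace Cfsg.Agent.S1323

open Equiv Equiv.Perm Cfsg.Agent.helper25.AltStd

section gen
variable {G : Type*} [Group G]

theorem mem_normalizer_iff_map_eq (H : Subgroup G) (g : G) :
    g ∈ Subgroup.normalizer (H : Set G) ↔ H.map (MulAut.conj g).toMonoidHom = H := by
  rw [Subgroup.mem_normalizer_iff]
  constructor
  · intro h
    ext x
    constructor
    · rintro ⟨y, hy, rfl⟩
      exact (h y).mp hy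
    · intro hx
      refine ⟨g⁻¹ * x * g, ?_, ?_⟩
      · apply (h (g⁻¹ * x * g)).mpr
        have : g * (g⁻¹ * x * g) * g⁻¹ = x := by group
        rw [this]; exact hx
      · show g * (g⁻¹ * x * g) * g⁻¹ = x
        group
  · intro h y
    constructor
    · intro hy
      rw [← h]
      exact ⟨y, hy, rfl⟩
    · intro hy
      rw [← h] at hy
      obtain ⟨z, hz, hzy⟩ := hy
      have hzy' : g * z * g⁻¹ = g * y * g⁻¹ := hzy
      have : z = y := by
        have := congrArg (fun t => g⁻¹ * t * g) hzy'
        simpa [mul_assoc] using this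
      rw [← this]; exact hz

/-- a simple non-abelian group is quasisimple. -/
theorem qs_of_simple (H : Type*) [Group H] [IsSimpleGroup H] (hc : Subgroup.center H = ⊥) :
    Cfsg.IsQuasisimple H := by
  rw [Cfsg.Agent.helper7.qs_iff]
  refine ⟨?_, inferInstance, ?_⟩
  · have hn : (commutator H).Normal := by
      rw [commutator_def]; infer_instance
    rcases hn.eq_bot_or_eq_top with h | h
    · exfalso
      rw [commutator_def, Subgroup.commutator_top_right_eq_bot_iff_le_center, hc] at h
      exact bot_ne_top (le_bot_iff.mp h).symm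
    · exact h
  · intro N hN
    rcases hN.eq_bot_or_eq_top with h | h
    · right; rw [h]; exact bot_le
    · left; exact h

end gen

theorem image_compl_eq {α : Type*} [Fintype α] [DecidableEq α] (g : Perm α) (T : Finset α)
    (h : T.image g = T) : Tᶜ.image g = Tᶜ := by
  apply Finset.eq_of_subset_of_card_le
  · intro y hy
    rw [Finset.mem_image] at hy
    obtain ⟨x, hx, rfl⟩ := hy
    rw [Finset.mem_compl] at hx ⊢
    intro hgx
    rw [← h, Finset.mem_image] at hgx
    obtain ⟨z, hz, hzx⟩ := hgx
    rw [g.injective hzx] at hz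
    exact hx hz
  · rw [Finset.card_image_of_injective _ g.injective]

section main
variable {n : ℕ}

/-- the first four points. -/
def X4 (n : ℕ) : Finset (Fin n) := Finset.univ.filter fun x => x.val < 4

theorem mem_X4 (x : Fin n) : x ∈ X4 n ↔ x.val < 4 := by simp [X4]

theorem card_X4 (h4 : 4 ≤ n) : (X4 n).card = 4 := by
  have h1 : X4 n = (Finset.univ : Finset (Fin 4)).map (Fin.castLEEmb h4) := by
    ext x
    rw [mem_X4, Finset.mem_map]
    constructor
    · intro hx
      exact ⟨⟨x.val, hx⟩, Finset.mem_univ _, Fin.ext rfl⟩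
    · rintro ⟨i, -, rfl⟩
      exact i.2
  rw [h1, Finset.card_map, Finset.card_univ, Fintype.card_fin]

theorem card_X4_compl (h4 : 4 ≤ n) : (X4 n)ᶜ.card = n - 4 := by
  rw [Finset.card_compl, card_X4 h4, Fintype.card_fin]

theorem stab_eq_AT (h4 : 4 ≤ n) :
    (⨅ i : Fin 4, MulAction.stabilizer ↥(alternatingGroup (Fin n)) (Fin.castLE h4 i : Fin n))
      = AT (X4 n)ᶜ := by
  ext k
  rw [Subgroup.mem_iInf, mem_AT]
  constructor
  · intro h x hx
    rw [Finset.mem_compl, not_not, mem_X4] at hx
    have := h ⟨x.val, hx⟩
    rw [MulAction.mem_stabilizer_iff] at this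
    have hx' : (Fin.castLE h4 ⟨x.val, hx⟩ : Fin n) = x := Fin.ext rfl
    rw [hx'] at this
    exact this
  · intro h i
    rw [MulAction.mem_stabilizer_iff]
    apply h
    rw [Finset.mem_compl, not_not, mem_X4]
    exact i.2

/-- For n ≥ 9, the subgroup of the alternating group on Fin n fixing each of the points 0, 1, 2, 3 is a standard subgroup. -/
theorem result (n : ℕ) (h4 : 4 ≤ n) (hn : 9 ≤ n) : Cfsg.IsStandardSubgroup (⨅ i : Fin 4, MulAction.stabilizer ↥(alternatingGroup (Fin n)) (Fin.castLE h4 i : Fin n)) := by
  rw [stab_eq_AT h4]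
  have hs5 : 5 ≤ (X4 n)ᶜ.card := by rw [card_X4_compl h4]; omega
  have hX4 : (X4 n).card = 4 := card_X4 h4
  have hcent : Subgroup.centralizer ((AT (X4 n)ᶜ : Subgroup ↥(alternatingGroup (Fin n))) :
      Set ↥(alternatingGroup (Fin n))) = AT (X4 n) := by
    rw [centralizer_AT (by omega), compl_compl]
  refine ⟨?_, ?_, ?_, ?_⟩
  · -- quasisimple
    obtain ⟨e⟩ := AT_equiv (α := Fin n) (X4 n)ᶜ
    apply Cfsg.Agent.helper7.qs_of_equiv e
    have hc5 : 5 ≤ Nat.card ↥(X4 n)ᶜ := by
      rw [Nat.card_eq_fintype_card, Fintype.card_coe]; exact hs5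
    haveI := alternatingGroup.isSimpleGroup hc5
    exact qs_of_simple _ (alternatingGroup.center_eq_bot (by omega))
  · -- tightly embedded
    rw [hcent]
    constructor
    · obtain ⟨e⟩ := AT_equiv (α := Fin n) (X4 n)
      rw [← Nat.card_congr e.toEquiv]
      haveI : Nontrivial ↥(X4 n) := by
        rw [← Fintype.one_lt_card_iff_nontrivial, Fintype.card_coe]; omega
      rw [nat_card_alternatingGroup]
      have : Nat.card ↥(X4 n) = 4 := by
        rw [Nat.card_eq_fintype_card, Fintype.card_coe]; exact hX4
      rw [this]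
      decide
    · intro g hg
      rw [AT_map_conj, AT_inf]
      apply odd_card_AT
      by_contra hcon
      push Not at hcon
      apply hg
      rw [mem_normalizer_iff_map_eq, AT_map_conj]
      congr 1
      have hsub : X4 n ∩ (X4 n).image (g : Perm (Fin n)) ⊆ X4 n := Finset.inter_subset_left
      have hle : (X4 n ∩ (X4 n).image (g : Perm (Fin n))).card ≤ 4 := by
        rw [← hX4]; exact Finset.card_le_card hsub
      have heq : X4 n ∩ (X4 n).image (g : Perm (Fin n)) = X4 n :=
        Finset.eq_of_subset_of_card_le hsub (by omega)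
      have hsub2 : X4 n ⊆ (X4 n).image (g : Perm (Fin n)) := by
        intro x hx
        rw [← heq] at hx
        exact (Finset.mem_inter.mp hx).2
      exact (Finset.eq_of_subset_of_card_le hsub2 (by
        rw [Finset.card_image_of_injective _ (g : Perm (Fin n)).injective])).symm
  · -- no commuting conjugate
    intro g _ hbot
    rw [Subgroup.commutator_comm, Subgroup.commutator_eq_bot_iff_le_centralizer, hcent,
      AT_map_conj] at hbot
    have h3 : 3 ≤ ((X4 n)ᶜ.image (g : Perm (Fin n))).card := by
      rw [Finset.card_image_of_injective _ (g : Perm (Fin n)).injective]; omega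
    have hsub := subset_of_AT_le h3 hbot
    have := Finset.card_le_card hsub
    rw [Finset.card_image_of_injective _ (g : Perm (Fin n)).injective, hX4] at this
    omega
  · -- normalizers
    rw [hcent]
    ext g
    rw [mem_normalizer_iff_map_eq, mem_normalizer_iff_map_eq, AT_map_conj, AT_map_conj]
    constructor
    · intro h
      have h1 := AT_injective (by
        rw [Finset.card_image_of_injective _ (g : Perm (Fin n)).injective]; omega) (by omega) h
      have h2 := image_compl_eq (g : Perm (Fin n)) _ h1
      rw [compl_compl] at h2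
      rw [h2]
    · intro h
      have h1 := AT_injective (by
        rw [Finset.card_image_of_injective _ (g : Perm (Fin n)).injective]; omega) (by omega) h
      rw [image_compl_eq (g : Perm (Fin n)) _ h1]

end main

end Cfsg.Agent.S1323
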