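import Mathlib
import Cfsg.Statements.S1326
import Cfsg.Agent.Lib_helper7_FStar

set_option autoImplicit false
open Cfsg

namespace Cfsg.Agent.S1326

open Cfsg.Agent.helper7

/-- For a finite group X: the Fitting subgroup contains its centralizer if and only if the layer of X is trivial. -/
theorem result {X : Type*} [Group X] [Finite X] : Subgroup.centralizer (Cfsg.fittingSubgroup X : Set X) ≤ Cfsg.fittingSubgroup X ↔ Cfsg.layer X = ⊥ := by
  rw [layer_eq_layerOf, fittingSubgroup_eq]
  constructor
  · intro h
    rw [eq_bot_iff]
    apply sSup_le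
    intro L hL
    exfalso
    have h1 : L ≤ Subgroup.centralizer (fitOf (⊤ : Subgroup X) : Set X) :=
      Subgroup.commutator_eq_bot_iff_le_centralizer.1 hL.comm_fitOf
    have h2 : L ≤ fitOf (⊤ : Subgroup X) := h1.trans h
    apply hL.2.not_abelian
    intro x hx
    have := h1 hx
    rw [Subgroup.mem_centralizer_iff] at this ⊢
    intro y hy
    exact this y (h2 hy)
  · intro h
    have := centralizer_fstarOf_le (⊤ : Subgroup X)
    unfold fstarOf at this
    rw [h, bot_sup_eq, top_inf_eq] at this
    exact this

end Cfsg.Agent.S1326
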