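import Mathlib
import Cfsg.Statements.S1328
import Cfsg.Agent.Lib_helper7_LB6

set_option autoImplicit false
open Cfsg

namespace Cfsg.Agent.S1328

open Cfsg.Agent.helper7 in
/-- Let G be finite, H ≤ G with O(H) = 1, t an involution of G normalizing H, and Y a nontrivial subgroup of O(C_H(t)). Then some component E of H is normalized by t and by Y and centralized by neither t nor Y. -/
theorem result {G : Type*} [Group G] [Finite G] (H : Subgroup G) (hO : Cfsg.oddCore ↥H = ⊥) (t : G) (ht : orderOf t = 2) (htH : t ∈ Subgroup.normalizer (H : Set G)) (Y : Subgroup G) (hY1 : Y ≠ ⊥) (hY : Y ≤ (Cfsg.oddCore ↥(H ⊓ Subgroup.centralizer ({t} : Set G))).map (H ⊓ Subgroup.centralizer ({t} : Set G)).subtype) : ∃ E : Subgroup ↥H, Cfsg.IsComponent E ∧ (E.map H.subtype).map (MulAut.conj t).toMonoidHom = E.map H.subtype ∧ Y ≤ Subgroup.normalizer ((E.map H.subtype : Subgroup G) : Set G) ∧ ¬ (t ∈ Subgroup.centralizer ((E.map H.subtype : Subgroup G) : Set G)) ∧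 ¬ (Y ≤ Subgroup.centralizer ((E.map H.subtype : Subgroup G) : Set G)) := by
  classical
  haveI : Fact (Nat.Prime 2) := ⟨Nat.prime_two⟩
  have ht2 : t ^ 2 = 1 := by rw [← ht]; exact pow_orderOf_eq_one t
  have hOH : piCoreIn {q | q ≠ 2} H = ⊥ := by
    rw [← map_pPrimeCore_eq Nat.prime_two H]
    show (Cfsg.oddCore ↥H).map H.subtype = ⊥
    rw [hO, Subgroup.map_bot]
  have hAH : Subgroup.zpowers t ≤ Subgroup.normalizer (H : Set G) := by
    rw [Subgroup.zpowers_le]; exact htH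
  have hn : H ⊔ Subgroup.zpowers t ≤ Subgroup.normalizer (H : Set G) :=
    sup_le Subgroup.le_normalizer hAH
  have hOK := oddCore_sup_zpowers_eq_bot ht2 htH hOH
  have htK : t ∈ H ⊔ Subgroup.zpowers t := le_sup_right (a := H) (Subgroup.mem_zpowers t)
  have hY' : Y ≤ piCoreIn {q | q ≠ 2} (H ⊓ Subgroup.centralizer ({t} : Set G)) := by
    rw [← map_pPrimeCore_eq Nat.prime_two]
    exact hY
  have hsn : SN (H ⊓ Subgroup.centralizer ({t} : Set G))
      ((H ⊔ Subgroup.zpowers t) ⊓ Subgroup.centralizer ({t} : Set G)) := by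
    refine SN.of_normal (inf_le_inf_right _ le_sup_left) ?_
    intro g hg
    exact Subgroup.inf_normalizer_le_normalizer_inf
      (Subgroup.mem_inf.2 ⟨hn (Subgroup.mem_inf.1 hg).1, Subgroup.le_normalizer (Subgroup.mem_inf.1 hg).2⟩)
  have hY'' : Y ≤ piCoreIn {q | q ≠ 2}
      ((H ⊔ Subgroup.zpowers t) ⊓ Subgroup.centralizer ({t} : Set G)) :=
    hY'.trans (piCoreIn_le_of_sn hsn)
  obtain ⟨L, hL, htN, hYN, htC, hYC⟩ :=
    exists_comp_of_pprimeCore_centralizer_rel (p := 2) hOK htK ht hY1 hY''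
  have hLH : L ≤ H := by
    have h1 : ⁅L, L⁆ ≤ ⁅H ⊔ Subgroup.zpowers t, H ⊔ Subgroup.zpowers t⁆ :=
      Subgroup.commutator_mono hL.1.le hL.1.le
    rw [hL.2.1] at h1
    refine h1.trans (commutator_sup_le_of_abelian hAH ?_)
    intro a ha b hb
    obtain ⟨k, rfl⟩ := ha
    obtain ⟨m, rfl⟩ := hb
    exact (Commute.zpow_zpow_self t k m).eq
  have hLc : Comp L H := hL.of_le hLH le_sup_left
  have hmap : (L.subgroupOf H).map H.subtype = L := Subgroup.map_subgroupOf_eq_of_le hLH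
  refine ⟨L.subgroupOf H, ?_, ?_, ?_, ?_, ?_⟩
  · rw [isComponent_sub_iff, hmap]; exact hLc
  · rw [hmap]; exact cj_eq_of_mem_normalizer htN
  · rw [hmap]; exact hYN
  · rw [hmap]; exact htC
  · rw [hmap]; exact hYC

end Cfsg.Agent.S1328
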