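import Mathlib
import Cfsg.Statements.S1335

set_option autoImplicit false
open Cfsg

namespace Cfsg.Agent.S1335

theorem pRankLE_of_equiv {A B : Type*} [Group A] [Group B] (e : A ≃* B) (p k : ℕ)
    (h : Cfsg.PRankLE p k B) : Cfsg.PRankLE p k A := by
  intro S hS hexp
  have h1 := h (S.map e.toMonoidHom) ?_ ?_
  · have hc : Nat.card (S.map e.toMonoidHom) = Nat.card S :=
      Nat.card_congr (S.equivMapOfInjective e.toMonoidHom e.injective).symm.toEquiv
    rwa [hc] at h1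
  · constructor
    constructor
    rintro ⟨a, ha⟩ ⟨b, hb⟩
    obtain ⟨a', ha', rfl⟩ := ha
    obtain ⟨b', hb', rfl⟩ := hb
    apply Subtype.ext
    have := hS.is_comm.comm ⟨a', ha'⟩ ⟨b', hb'⟩
    have h2 : a' * b' = b' * a' := congrArg Subtype.val this
    show e.toMonoidHom a' * e.toMonoidHom b' = e.toMonoidHom b' * e.toMonoidHom a'
    rw [← map_mul, ← map_mul, h2]
  · rintro _ ⟨a, ha, rfl⟩
    rw [← map_pow, hexp a ha, map_one]

/-- Let H be a subgroup of the finite group G, p a prime, k ≥ 1, P a Sylow p-subgroup of H of p-rank at least k, and suppose N_G(X) ≤ H for every subgroup X ≤ P of p-rank at least k. Then P is a Sylow p-subgroup of G. -/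
theorem result {G : Type*} [Group G] [Finite G] {p : ℕ} [Fact p.Prime] (k : ℕ) (hk : 1 ≤ k) (H : Subgroup G) (P : Sylow p ↥H) (hP : ¬ Cfsg.PRankLE p (k - 1) ↥(P : Subgroup ↥H)) (hΓ : (∀ X : Subgroup G, X ≤ (P : Subgroup ↥H).map H.subtype → ¬ Cfsg.PRankLE p (k - 1) ↥X → Subgroup.normalizer (X : Set G) ≤ H)) : ∃ Q : Sylow p G, (Q : Subgroup G) = (P : Subgroup ↥H).map H.subtype := by
  set P₀ : Subgroup G := (P : Subgroup ↥H).map H.subtype with hP₀
  have e : ↥(P : Subgroup ↥H) ≃* ↥P₀ :=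
    (P : Subgroup ↥H).equivMapOfInjective H.subtype H.subtype_injective
  have hP₀p : IsPGroup p ↥P₀ := P.isPGroup'.map H.subtype
  have hrk : ¬ Cfsg.PRankLE p (k - 1) ↥P₀ := fun h => hP (pRankLE_of_equiv e p (k - 1) h)
  have hN : Subgroup.normalizer (P₀ : Set G) ≤ H := hΓ P₀ le_rfl hrk
  obtain ⟨Q, hQ⟩ := hP₀p.exists_le_sylow
  refine ⟨Q, ?_⟩
  by_contra hne
  have hlt : P₀ < (Q : Subgroup G) := lt_of_le_of_ne hQ (Ne.symm hne)
  -- normalizers grow
  haveI : Group.IsNilpotent ↥(Q : Subgroup G) := Q.isPGroup'.isNilpotent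
  have nc := Group.normalizerCondition_of_isNilpotent (G := ↥(Q : Subgroup G))
  have hlt' : P₀.subgroupOf (Q : Subgroup G) < ⊤ := by
    rw [lt_top_iff_ne_top]
    intro h
    rw [Subgroup.subgroupOf_eq_top] at h
    exact (not_le_of_gt hlt) h
  have h1 := nc _ hlt'
  rw [← Subgroup.subgroupOf_normalizer_eq hlt.le] at h1
  obtain ⟨x, hx, hx'⟩ := SetLike.exists_of_lt h1
  -- x ∈ Q, x ∈ N(P₀), x ∉ P₀
  have hxN : (x : G) ∈ Subgroup.normalizer (P₀ : Set G) := hx
  have hxP : (x : G) ∉ P₀ := hx'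
  have hxH : (x : G) ∈ H := hN hxN
  -- the p-subgroup (Q ⊓ N(P₀)) of H
  set R : Subgroup ↥H := ((Q : Subgroup G) ⊓ Subgroup.normalizer (P₀ : Set G)).subgroupOf H with hR
  have hRp : IsPGroup p ↥R := by
    apply IsPGroup.comap_of_injective _ H.subtype H.subtype_injective
    exact Q.isPGroup'.to_le inf_le_left
  have hPR : (P : Subgroup ↥H) ≤ R := by
    intro y hy
    rw [hR, Subgroup.mem_subgroupOf]
    have hy0 : (y : G) ∈ P₀ := ⟨y, hy, rfl⟩
    exact Subgroup.mem_inf.2 ⟨hQ hy0, Subgroup.le_normalizer hy0⟩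
  have hmax := P.is_maximal' hRp hPR
  have hxR : (⟨(x : G), hxH⟩ : ↥H) ∈ R := by
    rw [hR, Subgroup.mem_subgroupOf]
    exact Subgroup.mem_inf.2 ⟨x.2, hxN⟩
  rw [hmax] at hxR
  exact hxP ⟨_, hxR, rfl⟩

end Cfsg.Agent.S1335
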