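import Mathlib
import Cfsg.Statements.S1336
import Cfsg.Agent.Lib_helper7_Conn
import Cfsg.Agent.Lib_helper7_SN

set_option autoImplicit false
open Cfsg

namespace Cfsg.Agent.S1336

open Cfsg.Agent.helper7

variable {G : Type*} [Group G]

/-- vertex predicate -/
def Vtx (p : ℕ) (A : Subgroup G) : Prop := Cfsg.IsElementaryAbelian p A ∧ p ^ 1 ≤ Nat.card ↥A

/-- edge relation -/
def Edge (p : ℕ) (A B : Subgroup G) : Prop :=
  Cfsg.IsElementaryAbelian p A ∧ p ^ 1 ≤ Nat.card ↥A ∧ Cfsg.IsElementaryAbelian p B ∧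
    p ^ 1 ≤ Nat.card ↥B ∧ ∀ a ∈ A, ∀ b ∈ B, a * b = b * a

theorem isKConnected_one_iff (p : ℕ) : Cfsg.IsKConnected p 1 G ↔
    ∀ E E' : Subgroup G, Vtx p E → Vtx p E' → Relation.ReflTransGen (Edge p) E E' := by
  unfold Cfsg.IsKConnected Vtx Edge
  constructor
  · intro h E E' hE hE'
    exact h E E' hE.1 hE.2 hE'.1 hE'.2
  · intro h E E' h1 h2 h3 h4
    exact h E E' ⟨h1, h2⟩ ⟨h3, h4⟩

theorem Vtx.conj {p : ℕ} {A : Subgroup G} (h : Vtx p A) (g : G) : Vtx p (cj g A) := by
  obtain ⟨⟨h1, h2⟩, h3⟩ := h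
  refine ⟨⟨?_, ?_⟩, ?_⟩
  · constructor
    constructor
    rintro ⟨_, ⟨a, ha, rfl⟩⟩ ⟨_, ⟨b, hb, rfl⟩⟩
    apply Subtype.ext
    have := congrArg Subtype.val (h1.is_comm.comm ⟨a, ha⟩ ⟨b, hb⟩)
    show (MulAut.conj g).toMonoidHom a * (MulAut.conj g).toMonoidHom b =
      (MulAut.conj g).toMonoidHom b * (MulAut.conj g).toMonoidHom a
    rw [← map_mul, ← map_mul]
    exact congrArg _ this
  · rintro _ ⟨a, ha, rfl⟩
    rw [← map_pow, h2 a ha, map_one]
  · have : Nat.card ↥(cj g A) = Nat.card ↥A :=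
      Subgroup.card_map_of_injective (MulAut.conj g).injective
    rw [this]; exact h3

theorem Edge.conj {p : ℕ} {A B : Subgroup G} (h : Edge p A B) (g : G) :
    Edge p (cj g A) (cj g B) := by
  obtain ⟨h1, h2, h3, h4, h5⟩ := h
  have hA := Vtx.conj (p := p) ⟨h1, h2⟩ g
  have hB := Vtx.conj (p := p) ⟨h3, h4⟩ g
  refine ⟨hA.1, hA.2, hB.1, hB.2, ?_⟩
  rintro _ ⟨a, ha, rfl⟩ _ ⟨b, hb, rfl⟩
  rw [← map_mul, ← map_mul, h5 a ha b hb]

theorem Edge.symm {p : ℕ} {A B : Subgroup G} (h : Edge p A B) : Edge p B A := by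
  obtain ⟨h1, h2, h3, h4, h5⟩ := h
  exact ⟨h3, h4, h1, h2, fun b hb a ha => (h5 a ha b hb).symm⟩

theorem conn_conj {p : ℕ} {A B : Subgroup G} (h : Relation.ReflTransGen (Edge p) A B) (g : G) :
    Relation.ReflTransGen (Edge p) (cj g A) (cj g B) := by
  induction h with
  | refl => exact Relation.ReflTransGen.refl
  | tail _ hbc ih => exact Relation.ReflTransGen.tail ih (hbc.conj g)

theorem conn_symm {p : ℕ} {A B : Subgroup G} (h : Relation.ReflTransGen (Edge p) A B) :
    Relation.ReflTransGen (Edge p) B A := by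
  induction h with
  | refl => exact Relation.ReflTransGen.refl
  | tail _ hbc ih => exact Relation.ReflTransGen.head hbc.symm ih

theorem Vtx.exists_order {p : ℕ} (hp : p.Prime) {A : Subgroup G} (h : Vtx p A) :
    ∃ a ∈ A, orderOf a = p := by
  obtain ⟨⟨h1, h2⟩, h3⟩ := h
  have hcard : 1 < Nat.card ↥A := lt_of_lt_of_le hp.one_lt (by simpa using h3)
  haveI : Finite ↥A := Nat.finite_of_card_ne_zero (by omega)
  haveI : Nontrivial ↥A := Finite.one_lt_card_iff_nontrivial.1 hcard
  obtain ⟨a, ha⟩ := exists_ne (1 : ↥A)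
  refine ⟨a, a.2, ?_⟩
  have hdvd : orderOf (a : G) ∣ p := orderOf_dvd_of_pow_eq_one (h2 a a.2)
  rcases (Nat.dvd_prime hp).1 hdvd with h | h
  · exfalso
    apply ha
    apply Subtype.ext
    exact orderOf_eq_one_iff.1 h
  · exact h

theorem vtx_zpowers {p : ℕ} (hp : p.Prime) {z : G} (hz : orderOf z = p) :
    Vtx p (Subgroup.zpowers z) := by
  refine ⟨⟨?_, ?_⟩, ?_⟩
  · constructor
    constructor
    rintro ⟨a, ha⟩ ⟨b, hb⟩
    obtain ⟨k, rfl⟩ := Subgroup.mem_zpowers_iff.1 ha
    obtain ⟨l, rfl⟩ := Subgroup.mem_zpowers_iff.1 hb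
    apply Subtype.ext
    show z ^ k * z ^ l = z ^ l * z ^ k
    rw [← zpow_add, ← zpow_add, add_comm]
  · intro a ha
    obtain ⟨k, rfl⟩ := Subgroup.mem_zpowers_iff.1 ha
    rw [← zpow_natCast, ← zpow_mul, mul_comm, zpow_mul, zpow_natCast, ← hz, pow_orderOf_eq_one,
      one_zpow]
  · rw [Nat.card_zpowers, hz, pow_one]

theorem edge_zpowers {p : ℕ} (hp : p.Prime) {z : G} (hz : orderOf z = p) {E : Subgroup G}
    (hE : Vtx p E) (hc : ∀ e ∈ E, z * e = e * z) : Edge p (Subgroup.zpowers z) E := by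
  have hV := vtx_zpowers hp hz
  refine ⟨hV.1, hV.2, hE.1, hE.2, ?_⟩
  intro a ha e he
  obtain ⟨k, rfl⟩ := Subgroup.mem_zpowers_iff.1 ha
  have : Commute z e := hc e he
  exact (this.zpow_left k).eq

theorem Vtx.isPGroup {p : ℕ} (hp : p.Prime) {A : Subgroup G} (h : Vtx p A) : IsPGroup p ↥A := by
  intro a
  refine ⟨1, ?_⟩
  apply Subtype.ext
  rw [pow_one]
  exact h.1.2 a a.2

theorem cj_zpowers (g z : G) : cj g (Subgroup.zpowers z) = Subgroup.zpowers (g * z * g⁻¹) := by
  unfold cj
  rw [MonoidHom.map_zpowers]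
  rfl

/-- any two vertices inside a subgroup `K` are connected up to conjugation by an element of `K` -/
theorem conn_in_subgroup [Finite G] {p : ℕ} [Fact p.Prime] (K : Subgroup G) {E D : Subgroup G}
    (hE : Vtx p E) (hD : Vtx p D) (hEK : E ≤ K) (hDK : D ≤ K) :
    ∃ h ∈ K, Relation.ReflTransGen (Edge p) (cj h E) D := by
  have hp : p.Prime := Fact.out
  have hEp : IsPGroup p ↥(E.subgroupOf K) := (hE.isPGroup hp).comap_subtype
  have hDp : IsPGroup p ↥(D.subgroupOf K) := (hD.isPGroup hp).comap_subtype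
  have hKp : p ∣ Nat.card ↥K := by
    obtain ⟨a, ha, hao⟩ := hE.exists_order hp
    rw [← hao]
    exact K.orderOf_dvd_natCard (hEK ha)
  obtain ⟨h, z, hz, hzE, hzD⟩ := exists_central_link hKp hEp hDp
  refine ⟨h, h.2, ?_⟩
  have hz' : orderOf (z : G) = p := by rw [Subgroup.orderOf_coe]; exact hz
  have e1 : Edge p (Subgroup.zpowers (z : G)) E := by
    apply edge_zpowers hp hz' hE
    intro e he
    have := hzE ⟨e, hEK he⟩ (by rw [Subgroup.mem_subgroupOf]; exact he)
    exact congrArg Subtype.val this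
  have hz'' : orderOf ((h : G) * z * (h : G)⁻¹) = p := by
    rw [← hz']
    exact orderOf_injective (MulAut.conj (h : G)).toMonoidHom (MulAut.conj (h : G)).injective (z : G)
  have e2 : Edge p (Subgroup.zpowers ((h : G) * z * (h : G)⁻¹)) D := by
    apply edge_zpowers hp hz'' hD
    intro d hd
    have := hzD ⟨d, hDK hd⟩ (by rw [Subgroup.mem_subgroupOf]; exact hd)
    exact congrArg Subtype.val this
  have e3 : Edge p (cj (h : G) E) (cj (h : G) (Subgroup.zpowers (z : G))) := (e1.conj h).symm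
  rw [cj_zpowers] at e3
  exact Relation.ReflTransGen.head e3 (Relation.ReflTransGen.single e2)

/-- Let G be finite and p prime. Then G has a proper subgroup H with p ∣ |H| and p ∤ |H ∩ gHg⁻¹| for every g ∉ H (a strongly p-embedded subgroup) if and only if G is not 1-connected for p. -/
theorem result {G : Type*} [Group G] [Finite G] (p : ℕ) [Fact p.Prime] : (∃ H : Subgroup G, H ≠ ⊤ ∧ p ∣ Nat.card ↥H ∧ ∀ g : G, g ∉ H → ¬ p ∣ Nat.card ↥(H ⊓ H.map (MulAut.conj g).toMonoidHom)) ↔ ¬ Cfsg.IsKConnected p 1 G := by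
  have hp : p.Prime := Fact.out
  rw [isKConnected_one_iff]
  constructor
  · rintro ⟨H, hHtop, hpH, hH⟩ hconn
    obtain ⟨x, hx⟩ := exists_prime_orderOf_dvd_card' (G := ↥H) p hpH
    have hx' : orderOf (x : G) = p := by rw [Subgroup.orderOf_coe]; exact hx
    obtain ⟨g, hg⟩ : ∃ g : G, g ∉ H := by
      by_contra hcon
      push_neg at hcon
      exact hHtop (eq_top_iff.2 fun g _ => hcon g)
    have hV := vtx_zpowers hp hx'
    have hc := hconn (Subgroup.zpowers (x : G)) (cj g (Subgroup.zpowers (x : G))) hV (hV.conj g)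
    have key : ∀ B : Subgroup G, Relation.ReflTransGen (Edge p) (Subgroup.zpowers (x : G)) B →
        B ≤ H := by
      intro B hB
      induction hB with
      | refl => rw [Subgroup.zpowers_le]; exact x.2
      | @tail A B _ hbc ih =>
        obtain ⟨h1, h2, h3, h4, h5⟩ := hbc
        obtain ⟨a, ha, hao⟩ := Vtx.exists_order hp (A := A) ⟨h1, h2⟩
        intro b hb
        by_contra hbH
        apply hH b hbH
        rw [← hao]
        apply Subgroup.orderOf_dvd_natCard
        refine ⟨ih ha, ?_⟩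
        show a ∈ cj b H
        rw [mem_cj]
        have : b⁻¹ * a * b = a := by
          have := h5 a ha b hb
          calc b⁻¹ * a * b = b⁻¹ * (a * b) := by group
            _ = a := by rw [this]; group
        rw [this]
        exact ih ha
    have h1 := key _ hc
    apply hH g hg
    have h2 : g * (x : G) * g⁻¹ ∈ H ⊓ cj g H := by
      refine ⟨h1 ?_, cj_mem_cj x.2⟩
      rw [cj_zpowers]
      exact Subgroup.mem_zpowers _
    have h3 : orderOf (g * (x : G) * g⁻¹) = p := by
      rw [← hx']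
      exact orderOf_injective (MulAut.conj g).toMonoidHom (MulAut.conj g).injective (x : G)
    rw [← h3]
    exact Subgroup.orderOf_dvd_natCard _ h2
  · intro hnc
    push_neg at hnc
    obtain ⟨E, E', hE, hE', hnot⟩ := hnc
    -- the stabilizer of the component of `E`
    let H : Subgroup G :=
      { carrier := {g | Relation.ReflTransGen (Edge p) E (cj g E)}
        one_mem' := by
          show Relation.ReflTransGen (Edge p) E (cj 1 E)
          rw [cj_one]
        mul_mem' := by
          intro g h hg hh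
          show Relation.ReflTransGen (Edge p) E (cj (g * h) E)
          have := conn_conj hh g
          rw [cj_cj] at this
          exact hg.trans this
        inv_mem' := by
          intro g hg
          show Relation.ReflTransGen (Edge p) E (cj g⁻¹ E)
          have := conn_conj hg g⁻¹
          rw [cj_inv_cj] at this
          exact conn_symm this }
    have hmemH : ∀ g : G, g ∈ H ↔ Relation.ReflTransGen (Edge p) E (cj g E) := fun g => Iff.rfl
    have hEH : E ≤ H := by
      intro e he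
      rw [hmemH]
      have : cj e E = E := by
        apply le_antisymm
        · rintro _ ⟨a, ha, rfl⟩
          exact E.mul_mem (E.mul_mem he ha) (E.inv_mem he)
        · intro a ha
          rw [mem_cj]
          exact E.mul_mem (E.mul_mem (E.inv_mem he) ha) he
      rw [this]
    -- every vertex inside `H` is connected to `E`
    have hall : ∀ D : Subgroup G, Vtx p D → D ≤ H → Relation.ReflTransGen (Edge p) E D := by
      intro D hD hDH
      obtain ⟨h, hh, hc⟩ := conn_in_subgroup H hE hD hEH hDH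
      exact ((hmemH h).1 hh).trans hc
    refine ⟨H, ?_, ?_, ?_⟩
    · intro htop
      apply hnot
      have := hall E' hE' (by rw [htop]; exact le_top)
      exact this
    · obtain ⟨a, ha, hao⟩ := hE.exists_order hp
      rw [← hao]
      exact H.orderOf_dvd_natCard (hEH ha)
    · intro g hg hdvd
      apply hg
      obtain ⟨a, hao⟩ := exists_prime_orderOf_dvd_card' (G := ↥(H ⊓ cj g H)) p hdvd
      have hao' : orderOf (a : G) = p := by rw [Subgroup.orderOf_coe]; exact hao
      have haH : (a : G) ∈ H := a.2.1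
      have hagH : g⁻¹ * (a : G) * g ∈ H := mem_cj.1 a.2.2
      have hV := vtx_zpowers hp hao'
      have h1 : Relation.ReflTransGen (Edge p) E (Subgroup.zpowers (a : G)) :=
        hall _ hV (by rw [Subgroup.zpowers_le]; exact haH)
      have h2 : Relation.ReflTransGen (Edge p) E (cj g⁻¹ (Subgroup.zpowers (a : G))) := by
        apply hall _ (hV.conj g⁻¹)
        rw [cj_zpowers, Subgroup.zpowers_le]
        simpa using hagH
      have h3 := conn_conj h2 g
      rw [cj_cj_inv] at h3
      rw [hmemH]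
      exact h1.trans (conn_symm h3)

end Cfsg.Agent.S1336
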