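import Mathlib
import Cfsg.Statements.S1343
import Cfsg.Agent.Lib_helper7_ExtLayer3

set_option autoImplicit false
open Cfsg
open Cfsg.Agent.helper7

namespace Cfsg.Agent.S1343

/-- Let X be finite. Then L*_{2'}(X) = L_{2'}(X) ⊔ F for some subgroup F of odd order normalized by a Sylow 2-subgroup of X. -/
theorem result {X : Type*} [Group X] [Finite X] : ∃ F : Subgroup X, Odd (Nat.card ↥F) ∧ (∃ S : Sylow 2 X, (S : Subgroup X) ≤ Subgroup.normalizer (F : Set X)) ∧ Cfsg.extendedTwoLayer X = Cfsg.pLayer 2 X ⊔ F := by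
  have hp : Nat.Prime 2 := Nat.prime_two
  haveI : Fact (Nat.Prime 2) := ⟨hp⟩
  haveI hW := extBase_normal (G := X) 2
  obtain ⟨T⟩ : Nonempty (Sylow 2 ↥(Cfsg.pLayer 2 X ⊔ Cfsg.pPrimePCore 2 X)) := inferInstance
  set W : Subgroup X := Cfsg.pLayer 2 X ⊔ Cfsg.pPrimePCore 2 X with hWdef
  set T₀ : Subgroup X := (T : Subgroup ↥W).map W.subtype with hT₀
  have hOn : ∀ g : X, g ∈ Subgroup.normalizer ((Cfsg.oddCore X : Subgroup X) : Set X) := by
    intro g
    rw [Subgroup.normalizer_eq_top]; exact Subgroup.mem_top g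
  refine ⟨Cfsg.oddCore X ⊔ oddCoreCent T₀, ?_, ?_, ?_⟩
  · -- odd order
    have h1 : PiGrp {q | q ≠ 2} (Cfsg.oddCore X ⊔ oddCoreCent T₀) := by
      apply PiGrp.sup (pPrimeCore_piGrp hp) (piCoreIn_piGrp _ _)
      exact fun g _ => hOn g
    have h2 : (Nat.card ↥(Cfsg.oddCore X ⊔ oddCoreCent T₀)).Coprime 2 :=
      (coprime_card_iff_piGrp hp).2 h1
    exact Nat.coprime_two_right.1 h2
  · -- normalized by a Sylow 2-subgroup
    have hT₀p : IsPGroup 2 ↥T₀ := T.isPGroup'.map W.subtype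
    obtain ⟨S, hS⟩ := hT₀p.exists_le_sylow
    refine ⟨S, ?_⟩
    have hT₀W : T₀ ≤ W := by
      rintro _ ⟨a, _, rfl⟩; exact a.2
    -- `S ∩ W = T₀`
    have hSW : (S : Subgroup X) ⊓ W = T₀ := by
      have hle : (T : Subgroup ↥W) ≤ ((S : Subgroup X) ⊓ W).subgroupOf W := by
        intro a ha
        rw [Subgroup.mem_subgroupOf]
        exact Subgroup.mem_inf.2 ⟨hS ⟨a, ha, rfl⟩, a.2⟩
      have hpg : IsPGroup 2 ↥(((S : Subgroup X) ⊓ W).subgroupOf W) :=
        (S.isPGroup'.to_le inf_le_left).comap_subtype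
      have := T.is_maximal' hpg hle
      rw [hT₀, ← this, Subgroup.map_subgroupOf_eq_of_le inf_le_right]
    have hST : (S : Subgroup X) ≤ Subgroup.normalizer (T₀ : Set X) := by
      intro s hs
      apply mem_normalizer_of_cj_eq
      rw [← hSW, cj_inf, cj_eq_of_mem_normalizer (Subgroup.le_normalizer hs),
        cj_eq_of_normal (H := W) s]
    intro s hs
    apply normalizer_le_normalizer_sup
    exact Subgroup.mem_inf.2 ⟨hOn s, normalizer_le_normalizer_oddCoreCent T₀ (hST hs)⟩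
  · rw [extendedTwoLayer_eq_of_sylow T, sup_assoc]

end Cfsg.Agent.S1343
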