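import Cfsg.Statements.S1348
import Cfsg.Agent.Lib_helper25_BlkDiagL
import Cfsg.Agent.Lib_helper7_Comp
import Cfsg.Agent.S1340

set_option autoImplicit false
open Cfsg

namespace Cfsg.Agent.S1348

open Matrix Cfsg.Agent.helper25.BlkDiag Cfsg.Agent.helper25.BlkDiagL Cfsg.Agent.helper7

section
variable {F : Type*} [Field F] {m : ℕ}

local notation "SLn" => Matrix.SpecialLinearGroup (Fin (m + 1)) F
local notation "SLm" => Matrix.SpecialLinearGroup (Fin m) F
local notation "Mn" => Matrix (Fin (m + 1)) (Fin (m + 1)) F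
local notation "Mm" => Matrix (Fin m) (Fin m) F

/-- the block embedding. -/
def iota : SLm →* SLn where
  toFun A := ⟨bl (A : Mm) 1, by rw [det_bl, mul_one]; exact A.2⟩
  map_one' := Subtype.ext (by
    show bl ((1 : SLm) : Mm) 1 = (1 : Mn)
    rw [Matrix.SpecialLinearGroup.coe_one, bl_one])
  map_mul' A B := Subtype.ext (by
    show bl ((A * B : SLm) : Mm) 1 = bl (A : Mm) 1 * bl (B : Mm) 1
    rw [bl_mul, Matrix.SpecialLinearGroup.coe_mul, mul_one])

theorem iota_coe (A : SLm) : ((iota A : SLn) : Mn) = bl (A : Mm) 1 := rfl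

theorem iota_injective : Function.Injective (iota (F := F) (m := m)) := by
  intro A B h
  have h1 : bl (A : Mm) 1 = bl (B : Mm) 1 := congrArg (fun x : SLn => (x : Mn)) h
  exact Subtype.ext (bl_inj h1).1

theorem bl_neg_one_eq_diag :
    bl (-1 : Mm) (1 : F)
      = Matrix.diagonal (fun i : Fin (m + 1) => if (i : ℕ) + 1 = m + 1 then (1 : F) else -1) := by
  have := bl_scalar (m := m) (-1 : F) (1 : F)
  rw [← this]
  congr 1
  rw [map_neg, map_one]

theorem mem_C_of_block {t : SLn} (ht : (t : Mn) = bl (-1 : Mm) 1) {g : SLn} {A : Mm} {a : F}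
    (hg : (g : Mn) = bl A a) : g ∈ Subgroup.centralizer ({t} : Set SLn) := by
  rw [Subgroup.mem_centralizer_singleton_iff]
  apply Subtype.ext
  rw [Matrix.SpecialLinearGroup.coe_mul, Matrix.SpecialLinearGroup.coe_mul, hg, ht, bl_mul, bl_mul]
  simp

theorem block_of_mem_C (h2 : (2 : F) ≠ 0) {t : SLn} (ht : (t : Mn) = bl (-1 : Mm) 1) {g : SLn}
    (hg : g ∈ Subgroup.centralizer ({t} : Set SLn)) :
    ∃ (B : Mm) (b : F), (g : Mn) = bl B b := by
  rw [Subgroup.mem_centralizer_singleton_iff] at hg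
  have h := congrArg (fun x : SLn => (x : Mn)) hg
  simp only [Matrix.SpecialLinearGroup.coe_mul, ht] at h
  rw [bl_neg_one_eq_diag] at h
  refine ⟨_, _, block_of_comm_diag h2 _ (by simp) ?_ _ h⟩
  intro i
  rw [if_neg]
  have := i.isLt
  simp only [Fin.val_castSucc]
  omega

theorem block_inv {g h : SLn} {A B : Mm} {a b : F} (hg : (g : Mn) = bl A a)
    (hh : (h : Mn) = bl B b) (hgh : g * h = 1) : A * B = 1 ∧ a * b = 1 := by
  have := congrArg (fun x : SLn => (x : Mn)) hgh
  simp only [Matrix.SpecialLinearGroup.coe_mul, Matrix.SpecialLinearGroup.coe_one, hg, hh,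
    bl_mul] at this
  rw [← bl_one] at this
  exact bl_inj this

theorem mem_L_of_block {g : SLn} {A : Mm} (hg : (g : Mn) = bl A 1) :
    g ∈ (iota (F := F) (m := m)).range := by
  have hdet : A.det = 1 := by
    have := g.2
    rw [hg, det_bl, mul_one] at this
    exact this
  obtain ⟨J, hJ⟩ : ∃ J : SLm, (J : Mm) = A := ⟨⟨A, hdet⟩, rfl⟩
  exact ⟨J, Subtype.ext (by rw [iota_coe, hJ]; exact hg.symm)⟩

theorem L_le_C {t : SLn} (ht : (t : Mn) = bl (-1 : Mm) 1) :
    (iota (F := F) (m := m)).range ≤ Subgroup.centralizer ({t} : Set SLn) := by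
  rintro _ ⟨A, rfl⟩
  exact mem_C_of_block ht (iota_coe A)

theorem C_le_normalizer_L (h2 : (2 : F) ≠ 0) {t : SLn} (ht : (t : Mn) = bl (-1 : Mm) 1) :
    Subgroup.centralizer ({t} : Set SLn)
      ≤ Subgroup.normalizer ((iota (F := F) (m := m)).range : Set SLn) := by
  rw [Subgroup.le_normalizer_iff]
  rintro c hc _ ⟨A, rfl⟩
  obtain ⟨B, b, hB⟩ := block_of_mem_C h2 ht hc
  obtain ⟨B', b', hB'⟩ := block_of_mem_C h2 ht (Subgroup.inv_mem _ hc)
  obtain ⟨-, h3⟩ := block_inv hB hB' (mul_inv_cancel c)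
  apply mem_L_of_block (A := B * (A : Mm) * B')
  rw [Matrix.SpecialLinearGroup.coe_mul, Matrix.SpecialLinearGroup.coe_mul, hB, hB', iota_coe,
    bl_mul, bl_mul, mul_one, h3]

theorem comm_C_le_L (h2 : (2 : F) ≠ 0) {t : SLn} (ht : (t : Mn) = bl (-1 : Mm) 1) :
    ⁅Subgroup.centralizer ({t} : Set SLn), Subgroup.centralizer ({t} : Set SLn)⁆
      ≤ (iota (F := F) (m := m)).range := by
  rw [Subgroup.commutator_le]
  intro c hc d hd
  obtain ⟨B, b, hB⟩ := block_of_mem_C h2 ht hc
  obtain ⟨B', b', hB'⟩ := block_of_mem_C h2 ht (Subgroup.inv_mem _ hc)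
  obtain ⟨D, e, hD⟩ := block_of_mem_C h2 ht hd
  obtain ⟨D', e', hD'⟩ := block_of_mem_C h2 ht (Subgroup.inv_mem _ hd)
  obtain ⟨-, hb⟩ := block_inv hB hB' (mul_inv_cancel c)
  obtain ⟨-, he⟩ := block_inv hD hD' (mul_inv_cancel d)
  apply mem_L_of_block (A := B * D * B' * D')
  rw [commutatorElement_def, Matrix.SpecialLinearGroup.coe_mul, Matrix.SpecialLinearGroup.coe_mul,
    Matrix.SpecialLinearGroup.coe_mul, hB, hB', hD, hD', bl_mul, bl_mul, bl_mul]
  congr 1
  calc b * e * b' * e' = (b * b') * (e * e') := by ring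
    _ = 1 := by rw [hb, he, one_mul]

theorem t_mem_L {t : SLn} (ht : (t : Mn) = bl (-1 : Mm) 1) :
    t ∈ (iota (F := F) (m := m)).range := mem_L_of_block ht

theorem Z_le_C {t : SLn} (ht : (t : Mn) = bl (-1 : Mm) 1) :
    Subgroup.centralizer ((iota (F := F) (m := m)).range : Set SLn)
      ≤ Subgroup.centralizer ({t} : Set SLn) :=
  Subgroup.centralizer_le (Set.singleton_subset_iff.mpr (t_mem_L ht))

theorem t_mem_Z {t : SLn} (ht : (t : Mn) = bl (-1 : Mm) 1) :
    t ∈ Subgroup.centralizer ((iota (F := F) (m := m)).range : Set SLn) := by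
  rw [Subgroup.mem_centralizer_iff]
  intro h hh
  exact Subgroup.mem_centralizer_singleton_iff.mp (L_le_C ht hh)

theorem block_of_mem_Z (h2 : (2 : F) ≠ 0) {t : SLn} (ht : (t : Mn) = bl (-1 : Mm) 1) {z : SLn}
    (hz : z ∈ Subgroup.centralizer ((iota (F := F) (m := m)).range : Set SLn)) :
    ∃ r a : F, (z : Mn) = bl (Matrix.scalar (Fin m) r) a := by
  classical
  obtain ⟨B, b, hB⟩ := block_of_mem_C h2 ht (Z_le_C ht hz)
  have hcomm : ∀ A : SLm, (A : Mm) * B = B * (A : Mm) := by
    intro A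
    have h := (Subgroup.mem_centralizer_iff.mp hz) (iota A) (MonoidHom.mem_range.mpr ⟨A, rfl⟩)
    have h' := congrArg (fun x : SLn => (x : Mn)) h
    simp only [Matrix.SpecialLinearGroup.coe_mul, iota_coe, hB, bl_mul] at h'
    exact (bl_inj h').1
  obtain ⟨r, hr⟩ := Matrix.mem_range_scalar_of_commute_transvectionStruct (M := B)
    (fun ts => hcomm ⟨ts.toMatrix, ts.det⟩)
  exact ⟨r, b, by rw [hB, hr]⟩

theorem involution_Z (h2 : (2 : F) ≠ 0) (hm : 1 ≤ m) {t : SLn} (ht : (t : Mn) = bl (-1 : Mm) 1)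
    {z : SLn} (hz : z ∈ Subgroup.centralizer ((iota (F := F) (m := m)).range : Set SLn))
    (hz2 : z * z = 1) (hz1 : z ≠ 1) : z = t := by
  classical
  have : Nonempty (Fin m) := ⟨⟨0, by omega⟩⟩
  obtain ⟨r, a, hra⟩ := block_of_mem_Z h2 ht hz
  have h := congrArg (fun x : SLn => (x : Mn)) hz2
  simp only [Matrix.SpecialLinearGroup.coe_mul, Matrix.SpecialLinearGroup.coe_one, hra,
    bl_mul] at h
  rw [← bl_one] at h
  obtain ⟨h3, -⟩ := bl_inj h
  have hr2 : r * r = 1 := by
    rw [← map_mul, ← map_one (Matrix.scalar (Fin m))] at h3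
    exact Matrix.scalar_inj.mp h3
  have hdet : r ^ m * a = 1 := by
    have := z.2
    rw [hra, det_bl] at this
    simpa [Matrix.scalar_apply] using this
  have htdet : (-1 : F) ^ m = 1 := by
    have := t.2
    rw [ht, det_bl, mul_one, Matrix.det_neg, Matrix.det_one, mul_one, Fintype.card_fin] at this
    exact this
  have h5 : (r - 1) * (r + 1) = 0 := by linear_combination hr2
  rcases mul_eq_zero.mp h5 with h6 | h6
  · have hr : r = 1 := by linear_combination h6
    subst hr
    rw [one_pow, one_mul] at hdet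
    exfalso
    apply hz1
    apply Subtype.ext
    rw [hra, hdet, map_one, bl_one, Matrix.SpecialLinearGroup.coe_one]
  · have hr : r = -1 := by linear_combination h6
    subst hr
    rw [htdet, one_mul] at hdet
    apply Subtype.ext
    rw [hra, ht, hdet, map_neg, map_one]

theorem t_mul_self {t : SLn} (ht : (t : Mn) = bl (-1 : Mm) 1) : t * t = 1 := by
  apply Subtype.ext
  rw [Matrix.SpecialLinearGroup.coe_mul, ht, bl_mul, Matrix.SpecialLinearGroup.coe_one]
  simp [bl_one]

theorem t_ne_one (h2 : (2 : F) ≠ 0) (hm : 1 ≤ m) {t : SLn} (ht : (t : Mn) = bl (-1 : Mm) 1) :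
    t ≠ 1 := by
  intro h
  have h1 := congrArg (fun x : SLn => (x : Mn)) h
  simp only [Matrix.SpecialLinearGroup.coe_one, ht] at h1
  rw [← bl_one] at h1
  have h3 := (bl_inj h1).1
  have h4 := congrFun (congrFun h3 ⟨0, by omega⟩) ⟨0, by omega⟩
  simp only [Matrix.neg_apply, Matrix.one_apply_eq] at h4
  apply h2
  linear_combination -h4

end

section
variable {F : Type*} [Field F] [Fintype F] [DecidableEq F] {m : ℕ}

local notation "SLn" => Matrix.SpecialLinearGroup (Fin (m + 1)) F
local notation "SLm" => Matrix.SpecialLinearGroup (Fin m) F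
local notation "Mn" => Matrix (Fin (m + 1)) (Fin (m + 1)) F
local notation "Mm" => Matrix (Fin m) (Fin m) F

theorem qs_L (hF : Odd (Fintype.card F)) (hm : 3 ≤ m) :
    QS (iota (F := F) (m := m)).range := by
  rw [← qs_iff_QS]
  have e : SLm ≃* ↥(iota (F := F) (m := m)).range := MonoidHom.ofInjective iota_injective
  exact qs_of_equiv e (S1340.sl_quasisimple hF (by omega) (by omega))

theorem layerOf_C (hF : Odd (Fintype.card F)) (hm : 3 ≤ m) {t : SLn}
    (ht : (t : Mn) = bl (-1 : Mm) 1) :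
    layerOf (Subgroup.centralizer ({t} : Set SLn)) = (iota (F := F) (m := m)).range := by
  have h2 := S1340.two_ne_zero_of_odd hF
  have hqs := qs_L (m := m) hF hm
  have hcomp : Comp (iota (F := F) (m := m)).range (Subgroup.centralizer ({t} : Set SLn)) :=
    ⟨SN.of_normal (L_le_C ht) (C_le_normalizer_L h2 ht), hqs⟩
  apply le_antisymm
  · apply sSup_le
    rintro K ⟨hsn, hKqs⟩
    have hKle : K ≤ (iota (F := F) (m := m)).range := by
      calc K = ⁅K, K⁆ := hKqs.1.symm
        _ ≤ ⁅Subgroup.centralizer ({t} : Set SLn), Subgroup.centralizer ({t} : Set SLn)⁆ :=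
          Subgroup.commutator_mono hsn.le hsn.le
        _ ≤ _ := comm_C_le_L h2 ht
    have hsn' : SN K (iota (F := F) (m := m)).range := hsn.of_le hKle (L_le_C ht)
    rcases hqs.sn_cases hsn' with h | h
    · exact h.le
    · exfalso
      apply hKqs.not_abelian
      exact h.trans (Subgroup.centralizer_le (SetLike.coe_subset_coe.mpr hKle))
  · exact comp_le_layerOf hcomp

end

/-- Let F be a finite field of odd order, n ≥ 7 odd, and t ∈ SL(n, F) the diagonal matrix with entries −1, …, −1, 1. Then E(C(t)) is a standard subgroup of SL(n, F). -/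
theorem result {F : Type*} [Field F] [Fintype F] [DecidableEq F] (hF : Odd (Fintype.card F)) (n : ℕ) (hn : 7 ≤ n) (hodd : Odd n) (t : Matrix.SpecialLinearGroup (Fin n) F) (ht : (t : Matrix (Fin n) (Fin n) F) = Matrix.diagonal (fun i : Fin n => if (i : ℕ) + 1 = n then (1 : F) else -1)) : Cfsg.IsStandardSubgroup ((Cfsg.layer ↥(Subgroup.centralizer ({t} : Set (Matrix.SpecialLinearGroup (Fin n) F)))).map (Subgroup.centralizer ({t} : Set (Matrix.SpecialLinearGroup (Fin n) F))).subtype) := by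
  classical
  obtain ⟨m, rfl⟩ : ∃ m, n = m + 1 := ⟨n - 1, by omega⟩
  have hm : 6 ≤ m := by omega
  have h2 := S1340.two_ne_zero_of_odd hF
  have ht' : (t : Matrix (Fin (m + 1)) (Fin (m + 1)) F) = bl (-1 : Matrix (Fin m) (Fin m) F) 1 := by
    rw [ht, bl_neg_one_eq_diag]
  rw [map_layer_eq_layerOf, layerOf_C hF (by omega) ht']
  have hqs := qs_L (F := F) (m := m) hF (by omega)
  set L := (iota (F := F) (m := m)).range with hL
  set Z := Subgroup.centralizer (L : Set (Matrix.SpecialLinearGroup (Fin (m + 1)) F)) with hZ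
  set C := Subgroup.centralizer ({t} : Set (Matrix.SpecialLinearGroup (Fin (m + 1)) F)) with hC
  have hCNL : C ≤ Subgroup.normalizer (L : Set (Matrix.SpecialLinearGroup (Fin (m + 1)) F)) :=
    C_le_normalizer_L h2 ht'
  have hNLNZ : Subgroup.normalizer (L : Set (Matrix.SpecialLinearGroup (Fin (m + 1)) F))
      ≤ Subgroup.normalizer (Z : Set (Matrix.SpecialLinearGroup (Fin (m + 1)) F)) := by
    intro g hg
    apply mem_normalizer_of_cj_eq
    rw [hZ, cj_centralizer, cj_eq_of_mem_normalizer hg]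
  have htZ : t ∈ Z := t_mem_Z ht'
  have ht1 : t ≠ 1 := t_ne_one h2 (by omega) ht'
  have htt : t * t = 1 := t_mul_self ht'
  -- conjugates of `t` inside `Z`
  have hconj : ∀ g : Matrix.SpecialLinearGroup (Fin (m + 1)) F, g * t * g⁻¹ ∈ Z → g ∈ C := by
    intro g hg
    have h1 : g * t * g⁻¹ = t := by
      apply involution_Z h2 (by omega) ht' hg
      · calc g * t * g⁻¹ * (g * t * g⁻¹) = g * (t * t) * g⁻¹ := by group
          _ = 1 := by rw [htt]; group
      · intro h
        apply ht1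
        calc t = g⁻¹ * (g * t * g⁻¹) * g := by group
          _ = 1 := by rw [h]; group
    rw [hC, Subgroup.mem_centralizer_singleton_iff]
    calc g * t = (g * t * g⁻¹) * g := by group
      _ = t * g := by rw [h1]
  refine ⟨(qs_iff_QS _).mpr hqs, ⟨?_, ?_⟩, ?_, ?_⟩
  · -- even order
    have hord : orderOf t = 2 := orderOf_eq_prime (by rw [pow_two]; exact htt) ht1
    have h3 : Nat.card (Subgroup.zpowers t) ∣ Nat.card Z :=
      Subgroup.card_dvd_of_le (Subgroup.zpowers_le.mpr htZ)
    rw [Nat.card_zpowers, hord] at h3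
    exact even_iff_two_dvd.mpr h3
  · -- tightly embedded
    intro g hg
    by_contra hno
    rw [Nat.not_odd_iff_even] at hno
    have : Fact (Nat.Prime 2) := ⟨Nat.prime_two⟩
    obtain ⟨x, hx⟩ := exists_prime_orderOf_dvd_card' (G := ↥(Z ⊓ Z.map (MulAut.conj g).toMonoidHom)) 2
      (even_iff_two_dvd.mp hno)
    have hx2 : (x : Matrix.SpecialLinearGroup (Fin (m + 1)) F) * x = 1 := by
      have := pow_orderOf_eq_one x
      rw [hx, pow_two] at this
      exact_mod_cast congrArg Subtype.val this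
    have hx1 : (x : Matrix.SpecialLinearGroup (Fin (m + 1)) F) ≠ 1 := by
      intro h
      have : x = 1 := Subtype.ext h
      rw [this, orderOf_one] at hx
      omega
    have hxt : (x : Matrix.SpecialLinearGroup (Fin (m + 1)) F) = t :=
      involution_Z h2 (by omega) ht' x.2.1 hx2 hx1
    have hxg : g⁻¹ * t * g ∈ Z := by
      have := x.2.2
      rw [hxt] at this
      exact mem_cj.mp this
    have : g⁻¹ ∈ C := hconj g⁻¹ (by rwa [inv_inv])
    exact hg (hNLNZ (hCNL (by simpa using Subgroup.inv_mem _ this)))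
  · intro g _ hcomm
    have h1 : cj g L ≤ Z := le_centralizer_of_comm_eq_bot hcomm
    have hq : QS (cj g L) := hqs.conj g
    have h3 : cj g L ≤ L := by
      calc cj g L = ⁅cj g L, cj g L⁆ := hq.1.symm
        _ ≤ ⁅C, C⁆ := Subgroup.commutator_mono (h1.trans (Z_le_C ht')) (h1.trans (Z_le_C ht'))
        _ ≤ L := comm_C_le_L h2 ht'
    apply hq.not_abelian
    exact h1.trans (Subgroup.centralizer_le (SetLike.coe_subset_coe.mpr h3))
  · apply le_antisymm hNLNZ
    intro g hg
    apply hCNL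
    apply hconj
    exact (Subgroup.mem_normalizer_iff.mp hg t).mp htZ

end Cfsg.Agent.S1348
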