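import Mathlib
import Cfsg.Statements.S1349
import Cfsg.Agent.Lib_helper7_Eigen3
import Cfsg.Agent.Lib_helper7_Fitting
import Cfsg.Agent.S0044
import Cfsg.Agent.S0206

set_option autoImplicit false
open Cfsg

namespace Cfsg.Agent.S1349

open Cfsg.Agent.helper7 in
/-- Let G be finite, L ≤ G solvable of odd order, and A an elementary abelian 2-subgroup of order 2^d (d ≥ 1) normalizing L with C_A(L) = 1. Then there are subgroups A_1, …, A_d of A of order 2 generating A and subgroups L_1, …, L_d of L such that each A_i ⊔ L_i is dihedral of order 2 n_i with n_i odd and at least 3, and A_i ⊔ L_i commutes elementwise with A_j ⊔ L_j for i ≠ j. -/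
theorem result {G : Type*} [Group G] [Finite G] (L A : Subgroup G) (hLs : Group.IsSolvable ↥L) (hLodd : Odd (Nat.card ↥L)) (hA : Cfsg.IsElementaryAbelian 2 A) (d : ℕ) (hd : 1 ≤ d) (hAd : Nat.card ↥A = 2 ^ d) (hAL : A ≤ Subgroup.normalizer (L : Set G)) (hfaith : A ⊓ Subgroup.centralizer (L : Set G) = ⊥) : ∃ (Ai : Fin d → Subgroup G) (Li : Fin d → Subgroup G) (n : Fin d → ℕ), (∀ i, Ai i ≤ A ∧ Nat.card ↥(Ai i) = 2 ∧ Li i ≤ L ∧ Odd (n i) ∧ 3 ≤ n i ∧ Nonempty (↥(Ai i ⊔ Li i) ≃* DihedralGroup (n i))) ∧ (⨆ i, Ai i) = A ∧ ∀ i j, i ≠ j → ∀ x ∈ Ai i ⊔ Li i, ∀ y ∈ Ai j ⊔ Li j, x * y = y * x := by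
  classical
  have hFL : fitOf L ≤ L := fitOf_le L
  have hFnil : Group.IsNilpotent ↥(fitOf L) := fitOf_nilpotent L
  have hFodd : Odd (Nat.card ↥(fitOf L)) := Odd.of_dvd_nat hLodd (Subgroup.card_dvd_of_le hFL)
  have hAF : A ≤ Subgroup.normalizer ((fitOf L : Subgroup G) : Set G) :=
    hAL.trans (normalizer_le_normalizer_fitOf L)
  have hA2 : ∀ a ∈ A, a * a = 1 := by
    intro a ha
    have := helper3.ea_pow hA ha
    rwa [pow_two] at this
  -- C_L(F) ≤ F
  have hCF : ∀ w ∈ L, (∀ e ∈ fitOf L, w * e = e * w) → w ∈ fitOf L := by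
    intro w hw hwF
    have h1 : (⟨w, hw⟩ : ↥L) ∈ Subgroup.centralizer ((Cfsg.fittingSubgroup ↥L : Subgroup ↥L) : Set ↥L) := by
      rw [Subgroup.mem_centralizer_iff]
      intro e he
      have heF : (e : G) ∈ fitOf L := by
        rw [← map_fittingSubgroup_eq]
        exact ⟨e, he, rfl⟩
      apply Subtype.ext
      exact (hwF _ heF).symm
    have h2 := Cfsg.Agent.S0044.result h1
    have h3 : w ∈ (Cfsg.fittingSubgroup ↥L).map L.subtype := ⟨⟨w, hw⟩, h2, rfl⟩
    rwa [map_fittingSubgroup_eq] at h3
  have hfaithF : ∀ t ∈ A, (∀ g ∈ fitOf L, t * g * t⁻¹ = g) → t = 1 := by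
    intro t htA htF
    have hcen := centralizes_of_centralizes_selfcent (hA2 t htA) hLodd
      (fun g hg => conj_mem_of_le_nmz hAL htA hg)
      (fun g hg e he => conj_mem_of_le_nmz (fitOf_normal L) hg he) hCF htF
    have : t ∈ A ⊓ Subgroup.centralizer (L : Set G) := by
      refine ⟨htA, ?_⟩
      show t ∈ Subgroup.centralizer (L : Set G)
      rw [Subgroup.mem_centralizer_iff]
      intro g hg
      have := hcen g hg
      calc g * t = (t * g * t⁻¹) * t := by rw [this]
        _ = t * g := by group
    rw [hfaith, Subgroup.mem_bot] at this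
    exact this
  obtain ⟨b, x, hb, hx, hxp, hxE, hinv, hcen, hxx, hclo, hfa⟩ :=
    eigen_decomp_nilpotent hA hFnil hFodd hAF hfaithF d hAd
  have hodd : ∀ i, Odd (orderOf (x i)) := fun i => orderOf_odd_of_mem hFodd (hx i)
  have hb2 : ∀ i, b i * b i = 1 := fun i => hA2 _ (hb i)
  have hbi : ∀ i, (b i)⁻¹ = b i := fun i => inv_eq_of_mul_eq_one_left (hb2 i)
  have hx1 : ∀ i, x i ≠ 1 := by
    intro i h
    have := hxp i
    rw [h, orderOf_one] at this
    exact Nat.not_prime_one this
  have hb1 : ∀ i, b i ≠ 1 := by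
    intro i h
    have h1 := hinv i
    rw [h] at h1
    have h2 : x i = (x i)⁻¹ := by
      calc x i = 1 * x i * 1⁻¹ := by group
        _ = (x i)⁻¹ := h1
    exact hx1 i (eq_one_of_inv_eq_self_of_odd (hodd i) h2)
  have hob : ∀ i, orderOf (b i) = 2 := by
    intro i
    apply orderOf_eq_prime
    · rw [pow_two]; exact hb2 i
    · exact hb1 i
  have hbx2 : ∀ i, (b i * x i) * (b i * x i) = 1 := by
    intro i
    calc (b i * x i) * (b i * x i) = (b i * x i * (b i)⁻¹) * (b i * b i) * x i := by group
      _ = 1 := by rw [hinv i, hb2 i]; group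
  have hbx1 : ∀ i, b i * x i ≠ 1 := by
    intro i h
    have h1 : x i = (b i)⁻¹ := by
      calc x i = (b i)⁻¹ * (b i * x i) := by group
        _ = (b i)⁻¹ := by rw [h, mul_one]
    have h2 : orderOf (x i) = 2 := by rw [h1, orderOf_inv]; exact hob i
    have := hodd i
    rw [h2] at this
    exact absurd this (by decide)
  have hobx : ∀ i, orderOf (b i * x i) = 2 := by
    intro i
    apply orderOf_eq_prime
    · rw [pow_two]; exact hbx2 i
    · exact hbx1 i
  have hclosure : ∀ i, Subgroup.closure ({b i, b i * x i} : Set G) =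
      Subgroup.zpowers (b i) ⊔ Subgroup.zpowers (x i) := by
    intro i
    apply le_antisymm
    · rw [Subgroup.closure_le]
      intro g hg
      rcases hg with rfl | rfl
      · exact (le_sup_left : Subgroup.zpowers (b i) ≤ _) (Subgroup.mem_zpowers _)
      · exact Subgroup.mul_mem _
          ((le_sup_left : Subgroup.zpowers (b i) ≤ _) (Subgroup.mem_zpowers _))
          ((le_sup_right : Subgroup.zpowers (x i) ≤ _) (Subgroup.mem_zpowers _))
    · have h1 : b i ∈ Subgroup.closure ({b i, b i * x i} : Set G) :=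
        Subgroup.subset_closure (Set.mem_insert _ _)
      have h2 : b i * x i ∈ Subgroup.closure ({b i, b i * x i} : Set G) :=
        Subgroup.subset_closure (Set.mem_insert_of_mem _ rfl)
      apply sup_le
      · rw [Subgroup.zpowers_le]; exact h1
      · rw [Subgroup.zpowers_le]
        have h3 : x i = (b i)⁻¹ * (b i * x i) := by group
        have h4 : (b i)⁻¹ * (b i * x i) ∈ Subgroup.closure ({b i, b i * x i} : Set G) :=
          Subgroup.mul_mem _ (Subgroup.inv_mem _ h1) h2
        rw [← h3] at h4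
        exact h4
  have hdih : ∀ i, Nonempty (↥(Subgroup.zpowers (b i) ⊔ Subgroup.zpowers (x i)) ≃*
      DihedralGroup (orderOf (x i))) := by
    intro i
    have hne : b i ≠ b i * x i := by
      intro h
      apply hx1 i
      calc x i = (b i)⁻¹ * (b i * x i) := by group
        _ = (b i)⁻¹ * b i := by rw [← h]
        _ = 1 := by group
    obtain ⟨e⟩ := Cfsg.Agent.S0206.result (b i) (b i * x i) (hob i) (hobx i) hne
    have hmul : b i * (b i * x i) = x i := by
      calc b i * (b i * x i) = (b i * b i) * x i := by group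
        _ = x i := by rw [hb2 i, one_mul]
    rw [hmul] at e
    exact ⟨(MulEquiv.subgroupCongr (hclosure i)).symm.trans e⟩
  -- commuting of the generators
  have hcommgen : ∀ i j, i ≠ j → Subgroup.zpowers (b i) ⊔ Subgroup.zpowers (x i) ≤
      Subgroup.centralizer ((Subgroup.zpowers (b j) ⊔ Subgroup.zpowers (x j) : Subgroup G) : Set G) := by
    intro i j hij
    have hbb : b i * b j = b j * b i := helper3.ea_comm hA (hb i) (hb j)
    have hbx : b i * x j = x j * b i := by
      have := hcen i j hij
      calc b i * x j = (b i * x j * (b i)⁻¹) * b i := by group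
        _ = x j * b i := by rw [this]
    have hxb : x i * b j = b j * x i := by
      have := hcen j i (Ne.symm hij)
      calc x i * b j = (b j * x i * (b j)⁻¹) * b j := by rw [this]
        _ = b j * x i := by group
    have hxx' : x i * x j = x j * x i := hxx i j
    have key : ∀ g : G, g * b j = b j * g → g * x j = x j * g →
        g ∈ Subgroup.centralizer ((Subgroup.zpowers (b j) ⊔ Subgroup.zpowers (x j) : Subgroup G) : Set G) := by
      intro g h1 h2
      have : Subgroup.zpowers (b j) ⊔ Subgroup.zpowers (x j) ≤ Subgroup.centralizer ({g} : Set G) := by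
        apply sup_le
        · rw [Subgroup.zpowers_le, Subgroup.mem_centralizer_singleton_iff]; exact h1.symm
        · rw [Subgroup.zpowers_le, Subgroup.mem_centralizer_singleton_iff]; exact h2.symm
      rw [Subgroup.mem_centralizer_iff]
      intro h hh
      exact Subgroup.mem_centralizer_singleton_iff.mp (this hh)
    apply sup_le
    · rw [Subgroup.zpowers_le]; exact key _ hbb hbx
    · rw [Subgroup.zpowers_le]; exact key _ hxb hxx'
  refine ⟨fun i => Subgroup.zpowers (b i), fun i => Subgroup.zpowers (x i), fun i => orderOf (x i),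
    ?_, ?_, ?_⟩
  · intro i
    refine ⟨?_, ?_, ?_, hodd i, ?_, hdih i⟩
    · rw [Subgroup.zpowers_le]; exact hb i
    · rw [Nat.card_zpowers]; exact hob i
    · rw [Subgroup.zpowers_le]; exact hFL (hx i)
    · show 3 ≤ orderOf (x i)
      have h2 := (hxp i).two_le
      have h3 := hodd i
      by_contra hlt
      have : orderOf (x i) = 2 := by omega
      rw [this] at h3
      exact absurd h3 (by decide)
  · apply le_antisymm
    · apply iSup_le
      intro i
      rw [Subgroup.zpowers_le]; exact hb i
    · rw [← hclo, Subgroup.closure_le]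
      rintro g ⟨i, rfl⟩
      exact (le_iSup (fun i => Subgroup.zpowers (b i)) i) (Subgroup.mem_zpowers _)
  · intro i j hij g hg h hh
    exact Subgroup.mem_centralizer_iff.mp (hcommgen j i (Ne.symm hij) hh) g hg

end Cfsg.Agent.S1349
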