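import Mathlib
import Cfsg.Statements.S1386
import Cfsg.Agent.Lib_helper7_Cores
import Cfsg.Agent.Lib_helper15_Replace

set_option autoImplicit false
open Cfsg

namespace Cfsg.Agent.S1386

/-- Let G be a finite group, W₁, W₂ subgroups forming a self-normalizing cyclic pair, S a subgroup with W₂ ≤ S and W₁ a complement to S' in S, and (W₁, U, W₂') type-P data for S. Then W₂' = W₂ (that is, C_{S'}(W₁) = W₂). -/
theorem result {G : Type*} [Group G] [Finite G] (W₁ W₂ S U W₂' : Subgroup G) (hW : Cfsg.IsSelfNormalizingCyclic W₁ W₂)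
    (hSW : Cfsg.IsComplIn ⁅S, S⁆ W₁ S) (hW₂S : W₂ ≤ S) (hP : Cfsg.IsTypePWith S W₁ U W₂') :
    W₂' = W₂ := by
  obtain ⟨hW1ne, hW2ne, hdisj, hcomm, hcyc, hnorm⟩ := hW
  obtain ⟨-, hW2'ne, hdisj', hcomm', hcyc', hnorm'⟩ := hP.selfNormalizing
  obtain ⟨hS'S, hW1S, hS'W1, hprod⟩ := hSW
  obtain ⟨⟨x, hx⟩, hx1⟩ := (Subgroup.ne_bot_iff_exists_ne_one).mp hW1ne
  obtain ⟨⟨b, hb⟩, hb1⟩ := (Subgroup.ne_bot_iff_exists_ne_one).mp hW2ne
  have hx1' : (x : G) ≠ 1 := fun h => hx1 (Subtype.ext h)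
  have hb1' : (b : G) ≠ 1 := fun h => hb1 (Subtype.ext h)
  -- normalizing
  have hW2N : W₂ ≤ Subgroup.normalizer (W₁ : Set G) := by
    intro c hc
    rw [Subgroup.mem_normalizer_iff]
    intro a
    constructor
    · intro ha
      have : c * a * c⁻¹ = a := by rw [← hcomm a ha c hc]; group
      rw [this]; exact ha
    · intro ha
      have h2 := hcomm _ ha c hc
      have : c * a * c⁻¹ * c = c * (c * a * c⁻¹) := h2
      have h3 : a = c * a * c⁻¹ := by
        have : c * a = c * (c * a * c⁻¹) := by rw [← this]; group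
        exact mul_left_cancel this
      rw [h3]; exact ha
  -- coprimality
  have hcard : Nat.card ↥(W₂ ⊔ W₁) = Nat.card W₂ * Nat.card W₁ := by
    have := Cfsg.Agent.helper15.card_sup_mul_card_inf_of_le_normalizer W₂ W₁ hW2N
    rw [inf_comm, hdisj] at this
    simpa using this
  have hcop : (Nat.card W₁).Coprime (Nat.card W₂) := by
    have h1 := hP.W₁_hall
    have h2 : Nat.card ↥(W₂ ⊔ W₁) ∣ Nat.card S := Subgroup.card_dvd_of_le (sup_le hW₂S hW1S)
    have h3 : Nat.card W₁ * W₁.relIndex S = Nat.card S := by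
      have := Subgroup.relIndex_mul_relIndex ⊥ W₁ S bot_le hW1S
      rwa [Subgroup.relIndex_bot_left, Subgroup.relIndex_bot_left] at this
    rw [hcard, ← h3, mul_comm] at h2
    have h4 : Nat.card W₂ ∣ W₁.relIndex S :=
      Nat.dvd_of_mul_dvd_mul_left Nat.card_pos h2
    exact Nat.Coprime.coprime_dvd_right h4 h1
  -- W₂ ≤ S'
  have hW2S' : W₂ ≤ ⁅S, S⁆ := by
    intro c hc
    obtain ⟨a, ha, w, hw, hcw⟩ := hprod c (hW₂S hc)
    have hcm0 : Commute c w := (hcomm w hw c hc).symm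
    have hcm : Commute c w⁻¹ := hcm0.inv_right
    have ha' : a = c * w⁻¹ := by rw [hcw]; group
    have hn : a ^ (Nat.card W₂) = (w ^ (Nat.card W₂))⁻¹ := by
      rw [ha', hcm.mul_pow]
      have : c ^ Nat.card W₂ = 1 := by
        have := pow_card_eq_one' (G := W₂) (x := ⟨c, hc⟩)
        exact congrArg Subtype.val this
      rw [this, one_mul, inv_pow]
    have hmem : w ^ (Nat.card W₂) ∈ ⁅S, S⁆ ⊓ W₁ := by
      refine ⟨?_, W₁.pow_mem hw _⟩
      have : (w ^ (Nat.card W₂))⁻¹ ∈ ⁅S, S⁆ := hn ▸ Subgroup.pow_mem _ ha _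
      simpa using Subgroup.inv_mem _ this
    rw [hS'W1, Subgroup.mem_bot] at hmem
    have ho1 : orderOf w ∣ Nat.card W₂ := orderOf_dvd_of_pow_eq_one hmem
    have ho2 : orderOf w ∣ Nat.card W₁ := by
      have := orderOf_dvd_natCard (⟨w, hw⟩ : W₁)
      rwa [← Subgroup.orderOf_coe] at this
    have ho : orderOf w = 1 := Nat.eq_one_of_dvd_coprimes hcop ho2 ho1
    rw [orderOf_eq_one_iff] at ho
    rw [hcw, ho, mul_one]; exact ha
  have hle : W₂ ≤ W₂' := by
    rw [← hP.W₂_centralizer x hx hx1']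
    refine le_inf hW2S' ?_
    intro c hc
    rw [Subgroup.mem_centralizer_iff]
    intro y hy
    rw [Set.mem_singleton_iff] at hy
    subst hy
    exact hcomm y hx c hc
  have hxb1 : x * b ∈ W₁ ⊔ W₂ :=
    Subgroup.mul_mem _ (Subgroup.mem_sup_left hx) (Subgroup.mem_sup_right hb)
  have hxb2 : x * b ∈ W₁ ⊔ W₂' :=
    Subgroup.mul_mem _ (Subgroup.mem_sup_left hx) (Subgroup.mem_sup_right (hle hb))
  have hxbW1 : x * b ∉ W₁ := by
    intro h
    have : b ∈ W₁ := by
      have := W₁.mul_mem (W₁.inv_mem hx) h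
      simpa using this
    have : b ∈ W₁ ⊓ W₂ := ⟨this, hb⟩
    rw [hdisj, Subgroup.mem_bot] at this
    exact hb1' this
  have hxbW2' : x * b ∉ W₂' := by
    intro h
    have : x ∈ W₂' := by
      have := W₂'.mul_mem h (W₂'.inv_mem (hle hb))
      simpa using this
    have : x ∈ W₁ ⊓ W₂' := ⟨hx, this⟩
    rw [hdisj', Subgroup.mem_bot] at this
    exact hx1' this
  have hxbW2 : x * b ∉ W₂ := fun h => hxbW2' (hle h)
  have h1 := hnorm {x * b} (by
    intro y hy
    rw [Set.mem_singleton_iff] at hy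
    subst hy
    exact ⟨hxb1, fun h => h.elim hxbW1 hxbW2⟩) (Set.singleton_nonempty _)
  have h2 := hnorm' {x * b} (by
    intro y hy
    rw [Set.mem_singleton_iff] at hy
    subst hy
    exact ⟨hxb2, fun h => h.elim hxbW1 hxbW2'⟩) (Set.singleton_nonempty _)
  have hsup : W₁ ⊔ W₂' = W₁ ⊔ W₂ := h2.symm.trans h1
  apply le_antisymm _ hle
  intro c hc
  have hc' : c ∈ W₁ ⊔ W₂ := hsup ▸ Subgroup.mem_sup_right hc
  obtain ⟨a, ha, b', hb', hab⟩ := Cfsg.Agent.helper7.mem_sup_of_normalizer hW2N hc'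
  have : a ∈ W₁ ⊓ W₂' := by
    refine ⟨ha, ?_⟩
    have h3 : a = c * b'⁻¹ := by rw [hab]; group
    rw [h3]
    exact W₂'.mul_mem hc (W₂'.inv_mem (hle hb'))
  rw [hdisj', Subgroup.mem_bot] at this
  rw [hab, this, one_mul]
  exact hb'

end Cfsg.Agent.S1386
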