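import Mathlib
import Cfsg.Statements.S1387
import Cfsg.Agent.Lib_helper7_TypeP

set_option autoImplicit false
open Cfsg

namespace Cfsg.Agent.S1387

open Cfsg.Agent.helper7 in
/-- Let M be a subgroup of a finite group G with type-P data (W₁, U, W₂) and H = M_F. Then the Fitting subgroup F(M) is generated by H and the centralizer of H in U. -/
theorem result {G : Type*} [Group G] [Finite G] (M W₁ U W₂ : Subgroup G) (hP : Cfsg.IsTypePWith M W₁ U W₂) :
    Cfsg.fittingOf M = Cfsg.fittingHallOf M ⊔ (U ⊓ Subgroup.centralizer (Cfsg.fittingHallOf M : Set G)) := by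
  have hD : ⁅M, M⁆ ≤ M := commutator_self_le M
  have hc := hP.U_compl
  obtain ⟨hHD, hUD, hHU, hprod⟩ := hc
  rw [← hP.fitting_eq]
  apply le_antisymm
  · apply sup_le le_sup_left
    intro c hcm
    have hcF : c ∈ ⁅M, M⁆ := hP.fitting_le (hP.fitting_eq ▸ Subgroup.mem_sup_right hcm)
    obtain ⟨h, hh, u, hu, hcu⟩ := hprod c hcF
    have hu' : u = h⁻¹ * c := by rw [hcu]; group
    have hucent : u ∈ Subgroup.centralizer (Cfsg.fittingHallOf M : Set G) :=
      mem_centralizer_of_coprime_mul (Subgroup.inv_mem _ hh) hcm.2 hu'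
        (orderOf_coprime_of_compl hD hP.U_compl hu)
    rw [hcu]
    exact Subgroup.mul_mem _ (Subgroup.mem_sup_left hh) (Subgroup.mem_sup_right ⟨hu, hucent⟩)
  · apply sup_le le_sup_left
    exact le_trans (inf_le_inf_right _ (hUD.trans hD)) le_sup_right

end Cfsg.Agent.S1387
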