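import Mathlib
import Cfsg.Statements.S1388
import Cfsg.Agent.Lib_helper7_TypeP

set_option autoImplicit false
open Cfsg
open scoped commutatorElement

namespace Cfsg.Agent.S1388

open Cfsg.Agent.helper7 in
/-- Let M be a subgroup of a finite group G with type-P data (W₁, U, W₂) and H = M_F. Then the derived subgroup of U centralizes H, and if U ≠ 1 then U does not centralize H. -/
theorem result {G : Type*} [Group G] [Finite G] (M W₁ U W₂ : Subgroup G) (hP : Cfsg.IsTypePWith M W₁ U W₂) :
    ⁅U, U⁆ ≤ Subgroup.centralizer (Cfsg.fittingHallOf M : Set G) ∧ (U ≠ ⊥ → ¬ U ≤ Subgroup.centralizer (Cfsg.fittingHallOf M : Set G)) := by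
  have hD : ⁅M, M⁆ ≤ M := commutator_self_le M
  have hc := hP.U_compl
  obtain ⟨hHD, hUD, hHU, hprod⟩ := hc
  have hUM : U ≤ M := hUD.trans hD
  constructor
  · refine le_trans ?_ (compl_inf_sup_le_centralizer hD hP.U_compl)
    apply le_inf (commutator_self_le U)
    exact le_trans (Subgroup.commutator_mono hUD hUD) hP.derived_two_le
  · intro hUne hUC
    apply hUne
    -- coprimality facts
    have hcardD := card_of_isComplIn hP.U_compl
    have hcardM := card_of_isComplIn hP.W₁_compl
    obtain ⟨-, hW1M, -, -⟩ := hP.W₁_compl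
    have hordU : ∀ u ∈ U, (orderOf u).Coprime (Nat.card (Cfsg.fittingHallOf M)) :=
      fun u hu => orderOf_coprime_of_compl hD hP.U_compl hu
    -- U is normal in M
    have hnorm : ∀ m ∈ M, ∀ u ∈ U, m * u * m⁻¹ ∈ U := by
      intro m hm u hu
      have hmem : m * u * m⁻¹ ∈ ⁅M, M⁆ := by
        have h1 : ⁅m, u⁆ ∈ ⁅M, M⁆ := Subgroup.commutator_mem_commutator hm (hUM hu)
        have h2 : m * u * m⁻¹ = ⁅m, u⁆ * u := by rw [commutatorElement_def]; group
        rw [h2]; exact Subgroup.mul_mem _ h1 (hUD hu)
      obtain ⟨h, hh, u', hu', he⟩ := hprod _ hmem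
      have hcm : Commute h u' := by
        have := hUC hu'
        rw [Subgroup.mem_centralizer_iff] at this
        exact this h hh
      have hpow : (m * u * m⁻¹) ^ (orderOf u) = 1 := by
        rw [conj_pow, pow_orderOf_eq_one]; group
      rw [he, hcm.mul_pow] at hpow
      have hhk : h ^ (orderOf u) ∈ Cfsg.fittingHallOf M ⊓ U := ⟨Subgroup.pow_mem _ hh _, by
        have : h ^ (orderOf u) = (u' ^ (orderOf u))⁻¹ := eq_inv_of_mul_eq_one_left hpow
        rw [this]; exact U.inv_mem (U.pow_mem hu' _)⟩
      rw [hHU, Subgroup.mem_bot] at hhk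
      have ho1 : orderOf h ∣ orderOf u := orderOf_dvd_of_pow_eq_one hhk
      have ho2 : orderOf h ∣ Nat.card (Cfsg.fittingHallOf M) := by
        have := orderOf_dvd_natCard (⟨h, hh⟩ : Cfsg.fittingHallOf M)
        rwa [← Subgroup.orderOf_coe] at this
      have ho : orderOf h = 1 := Nat.eq_one_of_dvd_coprimes (hordU u hu) ho1 ho2
      rw [orderOf_eq_one_iff] at ho
      rw [he, ho, one_mul]; exact hu'
    have hNormal : (U.subgroupOf M).Normal := by
      constructor
      intro x hx g
      rw [Subgroup.mem_subgroupOf] at hx ⊢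
      exact hnorm g g.2 x hx
    have hNil : Group.IsNilpotent (U.subgroupOf M) :=
      haveI := hP.U_nilpotent
      Group.nilpotent_of_mulEquiv (Subgroup.subgroupOfEquivOfLe hUM).symm
    have hCop : (Nat.card (U.subgroupOf M)).Coprime (U.subgroupOf M).index := by
      have e1 : Nat.card (U.subgroupOf M) = Nat.card U :=
        Nat.card_congr (Subgroup.subgroupOfEquivOfLe hUM).toEquiv
      have e2 : (U.subgroupOf M).index = U.relIndex M := rfl
      rw [e1, e2]
      have h3 : Nat.card U * U.relIndex M = Nat.card M := by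
        have := Subgroup.relIndex_mul_relIndex ⊥ U M bot_le hUM
        rwa [Subgroup.relIndex_bot_left, Subgroup.relIndex_bot_left] at this
      have h4 : U.relIndex M = Nat.card (Cfsg.fittingHallOf M) * Nat.card W₁ := by
        rw [hcardM, hcardD] at h3
        apply Nat.eq_of_mul_eq_mul_left (Nat.card_pos (α := U))
        rw [h3]; ring
      rw [h4]
      apply Nat.Coprime.mul_right
      · exact card_coprime_of_compl hD hP.U_compl
      · have h5 := hP.W₁_hall
        have h6 : Nat.card W₁ * W₁.relIndex M = Nat.card M := by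
          have := Subgroup.relIndex_mul_relIndex ⊥ W₁ M bot_le hW1M
          rwa [Subgroup.relIndex_bot_left, Subgroup.relIndex_bot_left] at this
        have h7 : W₁.relIndex M = Nat.card (Cfsg.fittingHallOf M) * Nat.card U := by
          rw [hcardM, hcardD] at h6
          apply Nat.eq_of_mul_eq_mul_left (Nat.card_pos (α := W₁))
          rw [h6]; ring
        rw [h7] at h5
        exact (Nat.Coprime.coprime_dvd_right (Dvd.intro_left _ rfl) h5).symm
    have hle : U.subgroupOf M ≤ Cfsg.fittingHall M := le_fittingHall hNormal hNil hCop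
    have hUH : U ≤ Cfsg.fittingHallOf M := by
      intro u hu
      exact ⟨⟨u, hUM hu⟩, hle (Subgroup.mem_subgroupOf.mpr hu), rfl⟩
    rw [eq_bot_iff, ← hHU]
    exact le_inf hUH le_rfl

end Cfsg.Agent.S1388
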