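import Cfsg.Statements.S1398
import Cfsg.Agent.Lib_helper15_BL16
import Cfsg.Agent.Lib_helper15_Gen5
-- import your own Cfsg.Agent.* helpers here

set_option autoImplicit false
open Cfsg

namespace Cfsg.Agent.S1398

/-- Let G be a minimal simple group of odd order, M a maximal subgroup, p a prime, and B a noncyclic elementary abelian p-subgroup of M. If C_G(b) ≤ M for every non-identity b ∈ B, or if every subgroup of G of order coprime to p normalized by B is contained in M, then M is the only maximal subgroup of G containing B. -/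
theorem result {G : Type*} [Group G] [Finite G] (hG : Cfsg.IsMinSimpleOddOrder G)
    (M : Subgroup G) (hM : IsCoatom M) (p : ℕ) [Fact p.Prime] (B : Subgroup G) (hBM : B ≤ M)
    (hBe : Cfsg.IsElementaryAbelian p B) (hBnc : ¬ IsCyclic B)
    (h : (∀ b ∈ B, b ≠ 1 → Subgroup.centralizer ({b} : Set G) ≤ M) ∨
      ∀ Y ∈ Cfsg.invSubgroups ⊤ B (Cfsg.primesNotDvd p), Y ≤ M) :
    Cfsg.InUniqueMaximal B := by
  have hBp : IsPGroup p B := Cfsg.Agent.helper15.BL.isPGroup_of_exponent B hBe.2
  have hBne : B ≠ ⊥ := by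
    intro h0
    apply hBnc
    rw [h0]
    exact isCyclic_of_subsingleton
  have hb : ∀ Y : Subgroup G, (Nat.card Y).Coprime p →
      B ≤ Subgroup.normalizer (Y : Set G) → Y ≤ M := by
    rcases h with ha | hb'
    · intro Y hY hBY
      haveI := hBe.1
      have hcop : (Nat.card B).Coprime (Nat.card Y) := by
        obtain ⟨k, hk⟩ := hBp.exists_card_eq
        rw [hk]
        exact Nat.Coprime.pow_left k hY.symm
      have h1 := Cfsg.Agent.helper15.iSup_centralizer_eq_of_not_isCyclic B Y hBnc hBY hcop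
      rw [← h1]
      apply iSup₂_le
      intro a ha'
      exact inf_le_right.trans (ha a ha'.1 ha'.2)
    · intro Y hY hBY
      apply hb' Y
      refine ⟨le_top, ?_, hBY⟩
      intro t ht htd
      refine ⟨ht, fun htp => ?_⟩
      have h1 : t = p := (Nat.prime_dvd_prime_iff_eq ht (Fact.out : p.Prime)).1 htp
      rw [h1] at htd
      have h2 : p ∣ Nat.gcd (Nat.card Y) p := Nat.dvd_gcd htd dvd_rfl
      rw [hY] at h2
      exact (Fact.out : p.Prime).one_lt.ne' (Nat.dvd_one.1 h2)
  exact ⟨M, ⟨hM, hBM⟩, fun L hL =>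
    Cfsg.Agent.helper15.BL.thm91b hG M hM B hBM hBp hBne hb L hL.1 hL.2⟩

end Cfsg.Agent.S1398
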