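import Mathlib
import Cfsg.Statements.S1441
import Cfsg.Agent.Lib_helper7_Stab

set_option autoImplicit false
open Cfsg
open Cfsg.Agent.helper7
open scoped commutatorElement

namespace Cfsg.Agent.S1441

theorem key {G : Type*} [Group G] [Finite G] (H A : Subgroup G)
    (n : ℕ) (c : Fin (n + 1) → Subgroup G) (hc0 : c 0 = H) (hcn : c (Fin.last n) = ⊥) (hanti : Antitone c)
    (htriv : ∀ i : Fin n, ⁅c i.castSucc, A⁆ ≤ c i.succ) (a : G) (ha : a ∈ A)
    (hcop : (orderOf a).Coprime (Nat.card H)) :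
    ∀ i : Fin (n + 1), ∀ h ∈ c i, a * h * a⁻¹ = h := by
  intro i
  induction i using Fin.reverseInduction with
  | last =>
    intro h hh
    rw [hcn, Subgroup.mem_bot] at hh
    subst hh
    group
  | cast i ih =>
    intro h hh
    have hw : a * h * a⁻¹ * h⁻¹ ∈ c i.succ := by
      apply htriv i
      rw [Subgroup.commutator_comm]
      exact Subgroup.commutator_mem_commutator ha hh
    have hwH : a * h * a⁻¹ * h⁻¹ ∈ H := by
      rw [← hc0]
      exact hanti (Fin.zero_le _) hw
    have hc : Commute a (a * h * a⁻¹ * h⁻¹) := by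
      have := ih _ hw
      show a * (a * h * a⁻¹ * h⁻¹) = (a * h * a⁻¹ * h⁻¹) * a
      calc a * (a * h * a⁻¹ * h⁻¹) = (a * (a * h * a⁻¹ * h⁻¹) * a⁻¹) * a := by group
        _ = (a * h * a⁻¹ * h⁻¹) * a := by rw [this]
    exact conj_eq_of_commute_of_coprime hc (pow_card_subgroup_eq_one hwH) hcop

/-- Let G be a finite group, H a solvable subgroup and A a subgroup normalizing H. Suppose there is a chain H = H₀ ≥ H₁ ≥ ⋯ ≥ H_n = 1 of subgroups normal in H and normalized by A such that A acts trivially on each factor H_{i-1}/H_i (that is, [H_{i-1}, A] ≤ H_i). Then every prime dividing the index of C_A(H) in A divides the order of H. -/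
theorem result {G : Type*} [Group G] [Finite G] (H A : Subgroup G) (hH : Group.IsSolvable H) (hA : (A ≤ Subgroup.normalizer (H : Set G)))
    (n : ℕ) (c : Fin (n + 1) → Subgroup G) (hc0 : c 0 = H) (hcn : c (Fin.last n) = ⊥) (hanti : Antitone c)
    (hcN : ∀ i, H ≤ Subgroup.normalizer ((c i : Subgroup G) : Set G)) (hcA : ∀ i, A ≤ Subgroup.normalizer ((c i : Subgroup G) : Set G))
    (htriv : ∀ i : Fin n, ⁅c i.castSucc, A⁆ ≤ c i.succ) :
    ∀ p : ℕ, p.Prime → p ∣ (A ⊓ Subgroup.centralizer (H : Set G)).relIndex A → p ∣ Nat.card H := by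
  intro p hp hdvd
  by_contra hnd
  haveI : Fact p.Prime := ⟨hp⟩
  obtain ⟨P⟩ : Nonempty (Sylow p ↥A) := inferInstance
  have hle : (P : Subgroup ↥A) ≤ (A ⊓ Subgroup.centralizer (H : Set G)).subgroupOf A := by
    intro x hx
    rw [Subgroup.mem_subgroupOf]
    refine Subgroup.mem_inf.2 ⟨x.2, ?_⟩
    obtain ⟨k, hk⟩ := (IsPGroup.iff_orderOf.1 P.isPGroup') ⟨x, hx⟩
    have hk' : orderOf (x : G) = p ^ k := by
      have h1 : orderOf (⟨x, hx⟩ : ↥(P : Subgroup ↥A)) = orderOf x := Subgroup.orderOf_mk x hx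
      have h2 : orderOf (x : G) = orderOf x := Subgroup.orderOf_coe x
      rw [h2, ← h1, hk]
    have hcop : (orderOf (x : G)).Coprime (Nat.card H) := by
      rw [hk']
      exact Nat.Coprime.pow_left k ((Nat.Prime.coprime_iff_not_dvd hp).2 hnd)
    have := key H A n c hc0 hcn hanti htriv (x : G) x.2 hcop 0
    rw [hc0] at this
    rw [Subgroup.mem_centralizer_iff]
    intro h hh
    have h3 := this h hh
    calc h * (x : G) = ((x : G) * h * (x : G)⁻¹) * (x : G) := by rw [h3]
      _ = (x : G) * h := by group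
  have h1 : ((A ⊓ Subgroup.centralizer (H : Set G)).subgroupOf A).index ∣ (P : Subgroup ↥A).index :=
    Subgroup.index_dvd_of_le hle
  have h2 : ¬ p ∣ (P : Subgroup ↥A).index := P.not_dvd_index
  exact h2 (dvd_trans hdvd h1)

end Cfsg.Agent.S1441
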