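import Mathlib
import Cfsg.Statements.S1442
import Cfsg.Agent.Lib_helper7_Stab

set_option autoImplicit false
open Cfsg
open Cfsg.Agent.helper7

namespace Cfsg.Agent.S1442

/-- Let G be a finite group, H a nilpotent subgroup and A a subgroup normalizing H with the orders of A and H coprime. Put C = H ∩ C_G(A). If H ∩ C_G(C) ≤ C then A centralizes H. -/
theorem result {G : Type*} [Group G] [Finite G] (H A : Subgroup G) (hH : Group.IsNilpotent H) (hA : (A ≤ Subgroup.normalizer (H : Set G))) (hcop : (Nat.card A).Coprime (Nat.card H))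
    (hC : H ⊓ Subgroup.centralizer (((H ⊓ Subgroup.centralizer (A : Set G)) : Subgroup G) : Set G) ≤ (H ⊓ Subgroup.centralizer (A : Set G))) :
    A ≤ Subgroup.centralizer (H : Set G) := by
  set C : Subgroup G := H ⊓ Subgroup.centralizer (A : Set G) with hCdef
  have hCH : C ≤ H := inf_le_left
  by_cases hCeq : C = H
  · -- then H ≤ C(A)
    have : H ≤ Subgroup.centralizer (A : Set G) := by
      rw [← hCeq]; exact inf_le_right
    exact Subgroup.le_centralizer_iff.1 this
  exfalso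
  have hlt : C < H := lt_of_le_of_ne hCH hCeq
  have nc := Group.normalizerCondition_of_isNilpotent (G := ↥H)
  have hlt' : C.subgroupOf H < ⊤ := by
    rw [lt_top_iff_ne_top]
    intro h
    rw [Subgroup.subgroupOf_eq_top] at h
    exact (not_le_of_gt hlt) h
  have h1 := nc _ hlt'
  rw [← Subgroup.subgroupOf_normalizer_eq hCH] at h1
  obtain ⟨x, hx, hx'⟩ := SetLike.exists_of_lt h1
  have hxN : (x : G) ∈ Subgroup.normalizer (C : Set G) := hx
  have hxC : (x : G) ∉ C := hx'
  have hxH : (x : G) ∈ H := x.2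
  apply hxC
  refine Subgroup.mem_inf.2 ⟨hxH, ?_⟩
  rw [Subgroup.mem_centralizer_iff]
  intro a ha
  set n : G := (x : G) with hn
  -- w = a n a⁻¹ n⁻¹
  have hanH : a * n * a⁻¹ ∈ H := by
    have := hA ha
    rw [Subgroup.mem_normalizer_iff] at this
    exact (this n).1 hxH
  have hwH : a * n * a⁻¹ * n⁻¹ ∈ H := H.mul_mem hanH (H.inv_mem hxH)
  have hwcent : a * n * a⁻¹ * n⁻¹ ∈ Subgroup.centralizer (C : Set G) := by
    rw [Subgroup.mem_centralizer_iff]
    intro c hc
    -- c' = n⁻¹ c n ∈ C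
    have hc' : n⁻¹ * c * n ∈ C := by
      have := Subgroup.inv_mem _ hxN
      rw [Subgroup.mem_normalizer_iff] at this
      have h2 := (this c).1 hc
      simpa using h2
    have hca : ∀ d ∈ C, a * d = d * a := by
      intro d hd
      have := (Subgroup.mem_inf.1 hd).2
      rw [Subgroup.mem_centralizer_iff] at this
      exact this a ha
    have e1 := hca c hc
    have e2 := hca _ hc'
    -- w c w⁻¹ = c
    have : (a * n * a⁻¹ * n⁻¹) * c * (a * n * a⁻¹ * n⁻¹)⁻¹ = c := by
      have s1 : (a * n * a⁻¹ * n⁻¹) * c * (a * n * a⁻¹ * n⁻¹)⁻¹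
          = a * n * (a⁻¹ * (n⁻¹ * c * n) * a) * n⁻¹ * a⁻¹ := by group
      have s2 : a⁻¹ * (n⁻¹ * c * n) * a = n⁻¹ * c * n := by
        calc a⁻¹ * (n⁻¹ * c * n) * a = a⁻¹ * ((n⁻¹ * c * n) * a) := by group
          _ = a⁻¹ * (a * (n⁻¹ * c * n)) := by rw [e2]
          _ = n⁻¹ * c * n := by group
      rw [s1, s2]
      calc a * n * (n⁻¹ * c * n) * n⁻¹ * a⁻¹ = (a * c) * a⁻¹ := by group
        _ = c * a * a⁻¹ := by rw [e1]
        _ = c := by group
    calc c * (a * n * a⁻¹ * n⁻¹) = ((a * n * a⁻¹ * n⁻¹) * c * (a * n * a⁻¹ * n⁻¹)⁻¹) * (a * n * a⁻¹ * n⁻¹) := by rw [this]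
      _ = (a * n * a⁻¹ * n⁻¹) * c := by group
  have hwC : a * n * a⁻¹ * n⁻¹ ∈ C := hC (Subgroup.mem_inf.2 ⟨hwH, hwcent⟩)
  have hcomm : Commute a (a * n * a⁻¹ * n⁻¹) := by
    have := (Subgroup.mem_inf.1 hwC).2
    rw [Subgroup.mem_centralizer_iff] at this
    exact this a ha
  have hcop' : (orderOf a).Coprime (Nat.card H) := by
    have : orderOf a ∣ Nat.card A := by
      have h2 : orderOf (⟨a, ha⟩ : ↥A) ∣ Nat.card A := orderOf_dvd_natCard _
      rwa [Subgroup.orderOf_mk] at h2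
    exact Nat.Coprime.coprime_dvd_left this hcop
  have := conj_eq_of_commute_of_coprime hcomm (pow_card_subgroup_eq_one hwH) hcop'
  calc a * n = (a * n * a⁻¹) * a := by group
    _ = n * a := by rw [this]

end Cfsg.Agent.S1442
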