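import Mathlib
import Cfsg.Statements.S1443
import Cfsg.Agent.Lib_helper7_Omega
import Cfsg.Agent.Lib_helper7_Gen

set_option autoImplicit false
open Cfsg

namespace Cfsg.Agent.S1443

/-- Let G be a finite group, p an odd prime, H a p-subgroup, E an elementary abelian subgroup of H, and A a subgroup of order coprime to p normalizing H. If A centralizes every element of order p in H ∩ C_G(E), then A centralizes H. -/
theorem result {G : Type*} [Group G] [Finite G] (p : ℕ) [Fact p.Prime] (hp : p ≠ 2) (H E A : Subgroup G) (hH : IsPGroup p H) (hE : E ≤ H) (hEe : Cfsg.IsElementaryAbelian p E)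
    (hA : (A ≤ Subgroup.normalizer (H : Set G))) (hcop : (Nat.card A).Coprime p)
    (hfix : ∀ x ∈ (H ⊓ Subgroup.centralizer (E : Set G)), orderOf x = p → A ≤ Subgroup.centralizer ({x} : Set G)) :
    A ≤ Subgroup.centralizer (H : Set G) := by
  have hpp : p.Prime := Fact.out
  obtain ⟨hEc, hEp⟩ := hEe
  -- A centralizes E
  have hAE : A ≤ Subgroup.centralizer (E : Set G) := by
    intro a ha
    rw [Subgroup.mem_centralizer_iff]
    intro e he
    by_cases he1 : e = 1
    · subst he1; simp
    · have hmem : e ∈ H ⊓ Subgroup.centralizer (E : Set G) := by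
        refine ⟨hE he, ?_⟩
        show e ∈ Subgroup.centralizer (E : Set G)
        rw [Subgroup.mem_centralizer_iff]
        intro y hy
        exact Cfsg.Agent.helper7.comm_of_isMulCommutative hEc hy he
      have := hfix e hmem (orderOf_eq_prime (hEp e he) he1) ha
      rw [Subgroup.mem_centralizer_iff] at this
      exact this e rfl
  have hEA : E ≤ Subgroup.centralizer (A : Set G) := Subgroup.le_centralizer_iff.mp hAE
  have hAK : A ≤ Subgroup.normalizer ((H ⊓ Subgroup.centralizer (E : Set G) : Subgroup G) : Set G) :=
    Cfsg.Agent.helper7.le_normalizer_inf hA (hAE.trans Subgroup.le_normalizer)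
  have hKc : A ≤ Subgroup.centralizer ((H ⊓ Subgroup.centralizer (E : Set G) : Subgroup G) : Set G) :=
    Cfsg.Agent.helper7.omega_one_lemma hp _ A (hH.to_le inf_le_left) hAK hcop
      (fun x hx ho => hfix x hx ho)
  have hEN : E ≤ Subgroup.normalizer (A : Set G) := by
    intro e he
    have hc := hEA he
    rw [Subgroup.mem_centralizer_iff] at hc
    rw [Subgroup.mem_normalizer_iff]
    intro a
    constructor
    · intro ha
      have : e * a * e⁻¹ = a := by rw [← hc a ha]; group
      rw [this]; exact ha
    · intro ha
      have h2 := hc _ ha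
      have h3 : a = e * a * e⁻¹ := by
        have : e * a = e * (e * a * e⁻¹) := by
          have h4 : e * a * e⁻¹ * e = e * (e * a * e⁻¹) := h2
          rw [← h4]; group
        exact mul_left_cancel this
      rw [h3]; exact ha
  exact Cfsg.Agent.S3737.result hp E A H (hH.to_le hE) hcop hEN hH
    (hE.trans Subgroup.le_normalizer) hA (Subgroup.le_centralizer_iff.mp hKc)

end Cfsg.Agent.S1443
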