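import Cfsg.Statements.S1446
import Cfsg.Agent.Lib_helper23_Frob8

set_option autoImplicit false
open Cfsg

namespace Cfsg.Agent.S1446

/-- Let X be a finite group with subgroups K, R, M such that: K and R are nontrivial, K ∩ R = 1, R normalizes K, no non-identity element of R centralizes a non-identity element of K, K ⊔ R is solvable of odd order; M is nilpotent and nontrivial, normalized by K and by R, with order coprime to that of K ⊔ R, M ∩ C(K) = 1, and M ∩ C(x) = M ∩ C(R) for all non-identity x ∈ R. Then R has prime order p, #M = #(M ∩ C(R)) ^ p, and if M ∩ C(R) is cyclic then [K, K] centralizes M. -/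
theorem result {X : Type*} [Group X] [Finite X] (K R M : Subgroup X) (hK1 : K ≠ ⊥) (hR1 : R ≠ ⊥) (hKR : K ⊓ R = ⊥)
    (hRK : R ≤ Subgroup.normalizer (K : Set X)) (hfrob : ∀ r ∈ R, r ≠ 1 → K ⊓ Subgroup.centralizer ({r} : Set X) = ⊥)
    (hsolv : Group.IsSolvable ↥(K ⊔ R)) (hodd : Odd (Nat.card ↥(K ⊔ R)))
    (hM1 : M ≠ ⊥) (hMn : Group.IsNilpotent M) (hKM : K ≤ Subgroup.normalizer (M : Set X)) (hRM : R ≤ Subgroup.normalizer (M : Set X))
    (hcop : (Nat.card ↥(K ⊔ R)).Coprime (Nat.card M)) (hCK : M ⊓ Subgroup.centralizer (K : Set X) = ⊥)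
    (hpr : ∀ x ∈ R, x ≠ 1 → M ⊓ Subgroup.centralizer ({x} : Set X) = M ⊓ Subgroup.centralizer (R : Set X)) :
    (Nat.card R).Prime ∧ Nat.card M = Nat.card ↥(M ⊓ Subgroup.centralizer (R : Set X)) ^ Nat.card R ∧
      (IsCyclic ↥(M ⊓ Subgroup.centralizer (R : Set X)) → ⁅K, K⁆ ≤ Subgroup.centralizer (M : Set X)) := by
  have hRK' : ∀ r ∈ R, ∀ k ∈ K, r * k * r⁻¹ ∈ K := by
    intro r hr k hk
    exact (Subgroup.mem_normalizer_iff.1 (hRK hr) k).1 hk
  have hfpf : ∀ r ∈ R, r ≠ 1 → ∀ k ∈ K, r * k = k * r → k = 1 := by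
    intro r hr hr1 k hk hc
    have : k ∈ K ⊓ Subgroup.centralizer ({r} : Set X) := by
      rw [Subgroup.mem_inf]
      refine ⟨hk, ?_⟩
      rw [Subgroup.mem_centralizer_iff]
      intro y hy
      rw [Set.mem_singleton_iff] at hy
      rw [hy]
      exact hc
    rw [hfrob r hr hr1, Subgroup.mem_bot] at this
    exact this
  have hAM : ∀ x ∈ K ⊔ R, ∀ m ∈ M, x * m * x⁻¹ ∈ M := by
    intro x hx m hm
    have : K ⊔ R ≤ Subgroup.normalizer (M : Set X) := sup_le hKM hRM
    exact (Subgroup.mem_normalizer_iff.1 (this hx) m).1 hm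
  haveI := hMn
  have hsolv' : Group.IsSolvable ↥M := inferInstance
  obtain ⟨h1, h2⟩ := Cfsg.Agent.helper23.Frob.frob_prime_card K R M hRK' hfpf hR1 hM1 hAM hsolv'
    hcop.symm hCK hpr
  refine ⟨h1, h2, ?_⟩
  intro hcyc
  rw [Subgroup.commutator_le]
  intro a ha b hb
  rw [Subgroup.mem_centralizer_iff]
  intro m hm
  rw [commutatorElement_def]
  exact (Cfsg.Agent.helper23.Frob.frob_comm_centralizes K R hRK' hfpf h1 _ M rfl hAM hsolv'
    hcop.symm hcyc a ha b hb m hm).symm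

end Cfsg.Agent.S1446
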