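import Cfsg.Statements.S1454
import Cfsg.Agent.Lib_helper23_Bk3
import Cfsg.Agent.S0640

set_option autoImplicit false
open Cfsg

namespace Cfsg.Agent.S1454

/-- Let G be a finite group, p an odd prime, R a narrow p-subgroup and A a solvable subgroup of odd order normalizing R with A ∩ C_G(R) = 1. Then [A, A] ≤ O_p(A) and the index of O_p(A) in A is coprime to p; if R has an elementary abelian subgroup of order p ^ 3 then the order of every element of A of order coprime to p divides p − 1; and if the order of A is a prime not dividing p(p − 1), then 2·#A divides p + 1, and if in addition [R, A] = R and R is non-abelian then #R = p ^ 3. -/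
theorem result {G : Type*} [Group G] [Finite G] (p : ℕ) [Fact p.Prime] (hp : p ≠ 2) (R A : Subgroup G) (hR : IsPGroup p R) (hRn : Cfsg.IsNarrow p R)
    (hA : (A ≤ Subgroup.normalizer (R : Set G))) (hAs : Group.IsSolvable A) (hAodd : Odd (Nat.card A)) (hfaith : A ⊓ Subgroup.centralizer (R : Set G) = ⊥) :
    (commutator ↥A ≤ Cfsg.pCore p ↥A ∧ ((Cfsg.pCore p ↥A).index).Coprime p) ∧
      (¬ Cfsg.PRankLE p 2 R → ∀ a ∈ A, (orderOf a).Coprime p → orderOf a ∣ p - 1) ∧
      ((Nat.card A).Prime → ¬ Nat.card A ∣ p * (p - 1) →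
        2 * Nat.card A ∣ p + 1 ∧ (⁅R, A⁆ = R → ¬ IsMulCommutative R → Nat.card R = p ^ 3)) := by
  have hpp : p.Prime := Fact.out
  have hcomm : IsPGroup p ↥⁅A, A⁆ := by
    by_cases hr : Cfsg.PRankLE p 2 R
    · exact Cfsg.Agent.helper23.bg_odd_rank2 hp R A hR hr hA hAs hAodd hfaith
    · exact Cfsg.Agent.helper23.narrow_comm_pgroup hp R A hR hRn hr hA hfaith
  have hcommA : IsPGroup p ↥(commutator ↥A) := by
    intro y
    have hx : ((y : ↥A) : G) ∈ ⁅A, A⁆ := by
      have h1 : (commutator ↥A).map A.subtype = ⁅A, A⁆ := by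
        rw [commutator_def, Subgroup.map_commutator, ← MonoidHom.range_eq_map,
          Subgroup.range_subtype]
      rw [← h1]; exact ⟨y.1, y.2, rfl⟩
    obtain ⟨k, hk⟩ := hcomm ⟨_, hx⟩
    refine ⟨k, ?_⟩
    apply Subtype.ext; apply Subtype.ext
    have := congrArg Subtype.val hk
    simpa using this
  have h2 : ¬ Cfsg.PRankLE p 2 R → ∀ a ∈ A, (orderOf a).Coprime p → orderOf a ∣ p - 1 := by
    intro hr a ha hcop
    have hc := Cfsg.Agent.helper23.narrow_pow_centralizes hp R hR hRn hr a (hA ha) hcop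
    have hmem : a ^ (p - 1) ∈ A ⊓ Subgroup.centralizer (R : Set G) := ⟨A.pow_mem ha _, hc⟩
    rw [hfaith, Subgroup.mem_bot] at hmem
    exact orderOf_dvd_of_pow_eq_one hmem
  refine ⟨Cfsg.Agent.helper23.pcore_of_comm_pgroup p hcommA, h2, ?_⟩
  intro hq hnd
  haveI : Fact (Nat.card A).Prime := ⟨hq⟩
  have hqnep : Nat.card A ≠ p := by
    intro h; apply hnd; rw [h]; exact Dvd.intro _ rfl
  by_cases hr : Cfsg.PRankLE p 2 R
  swap
  · exfalso
    obtain ⟨y, hy⟩ := exists_prime_orderOf_dvd_card' (G := ↥A) (Nat.card A) (dvd_refl _)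
    have hyo : orderOf (y : G) = Nat.card A := by rw [Subgroup.orderOf_coe]; exact hy
    have hcop : (orderOf (y : G)).Coprime p := by
      rw [hyo]; exact (Nat.coprime_primes hq hpp).2 hqnep
    have := h2 hr y y.2 hcop
    rw [hyo] at this
    exact hnd (Dvd.dvd.mul_left this p)
  have hdvd : Nat.card A ∣ Nat.card (MulAut ↥R) := by
    set ρ : ↥A →* MulAut ↥R := R.normalizerMonoidHom.comp (Subgroup.inclusion hA) with hρ
    have hinj : Function.Injective ρ := by
      rw [injective_iff_map_eq_one]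
      intro x hx
      have h1 : Subgroup.inclusion hA x ∈ R.normalizerMonoidHom.ker := hx
      rw [Subgroup.normalizerMonoidHom_ker, Subgroup.mem_subgroupOf] at h1
      have hmem : (x : G) ∈ A ⊓ Subgroup.centralizer (R : Set G) := ⟨x.2, h1⟩
      rw [hfaith, Subgroup.mem_bot] at hmem
      exact Subtype.ext hmem
    exact Subgroup.card_dvd_of_injective ρ hinj
  obtain ⟨hq1, hq2⟩ := Cfsg.Agent.S0640.result hp hR hr (Nat.card A) hq hqnep hdvd
  have hp1 : 1 < p := hpp.one_lt
  have hfac : p ^ 2 - 1 = (p - 1) * (p + 1) := by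
    obtain ⟨k, rfl⟩ : ∃ k, p = k + 1 := ⟨p - 1, by omega⟩
    have : (k + 1) ^ 2 = k * (k + 2) + 1 := by ring
    rw [this]; simp
  rw [hfac] at hq1
  have hqp1 : Nat.card A ∣ p + 1 := by
    rcases (Nat.Prime.dvd_mul hq).1 hq1 with h | h
    · exact absurd (Dvd.dvd.mul_left h p) hnd
    · exact h
  have hpodd : Odd p := hpp.odd_of_ne_two hp
  have h2p : 2 ∣ p + 1 := by
    obtain ⟨k, hk⟩ := hpodd
    exact ⟨k + 1, by omega⟩
  have hcop2 : Nat.Coprime 2 (Nat.card A) := Nat.coprime_two_left.2 hAodd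
  have h2q : 2 * Nat.card A ∣ p + 1 := Nat.Coprime.mul_dvd_of_dvd_of_dvd hcop2 h2p hqp1
  refine ⟨h2q, ?_⟩
  intro hRA hnc
  have hq3 : 3 ≤ Nat.card A := by
    have h2le := hq.two_le
    rcases Nat.lt_or_ge 2 (Nat.card A) with h | h
    · exact h
    · exfalso
      have h2eq : Nat.card A = 2 := by omega
      rw [h2eq] at hAodd
      exact absurd hAodd (by decide)
  have hp5 : 5 ≤ p := by
    have := Nat.le_of_dvd (by omega) h2q
    omega
  exact Cfsg.Agent.helper23.narrow3_general hp5 R A hR hr hA (Nat.card A) rfl hnd hRA hnc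

end Cfsg.Agent.S1454
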