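import Cfsg.Statements.S1459
import Mathlib
import Cfsg.Agent.Lib_helper14_PIrr
import Cfsg.Agent.Lib_helper7_Quot
import Cfsg.Agent.Lib_helper1_Core
-- import your own Cfsg.Agent.* helpers here

set_option autoImplicit false
open Cfsg

namespace Cfsg.Agent.S1459


open scoped commutatorElement

theorem comm_central_left {Q : Type*} [Group Q] (z a b : Q) (hz : ∀ x, z * x = x * z) :
    ⁅z * a, b⁆ = ⁅a, b⁆ := by
  have h1 : z⁻¹ * b⁻¹ = b⁻¹ * z⁻¹ := by
    have := hz b⁻¹
    calc z⁻¹ * b⁻¹ = z⁻¹ * (b⁻¹ * z) * z⁻¹ := by group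
      _ = z⁻¹ * (z * b⁻¹) * z⁻¹ := by rw [this]
      _ = b⁻¹ * z⁻¹ := by group
  calc ⁅z * a, b⁆ = z * a * b * a⁻¹ * (z⁻¹ * b⁻¹) := by rw [commutatorElement_def]; group
    _ = z * a * b * a⁻¹ * (b⁻¹ * z⁻¹) := by rw [h1]
    _ = z * (a * b * a⁻¹ * b⁻¹) * z⁻¹ := by group
    _ = (a * b * a⁻¹ * b⁻¹) * z * z⁻¹ := by rw [hz]
    _ = ⁅a, b⁆ := by rw [commutatorElement_def]; group

theorem comm_central {Q : Type*} [Group Q] (z₁ z₂ a b : Q) (h1 : ∀ x, z₁ * x = x * z₁)
    (h2 : ∀ x, z₂ * x = x * z₂) : ⁅z₁ * a, z₂ * b⁆ = ⁅a, b⁆ := by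
  rw [comm_central_left z₁ a _ h1, ← commutatorElement_inv, comm_central_left z₂ b a h2,
    commutatorElement_inv]

theorem mk_comm_of_comm_mem {G : Type*} [Group G] (D : Subgroup G) [D.Normal] (a b : G)
    (h : ⁅a⁻¹, b⁻¹⁆ ∈ D) :
    (QuotientGroup.mk' D a) * QuotientGroup.mk' D b
      = QuotientGroup.mk' D b * QuotientGroup.mk' D a := by
  rw [← map_mul, ← map_mul]
  show ((a * b : G) : G ⧸ D) = ((b * a : G) : G ⧸ D)
  apply (QuotientGroup.eq).mpr
  have : (a * b)⁻¹ * (b * a) = (⁅a⁻¹, b⁻¹⁆)⁻¹ := by rw [commutatorElement_def]; group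
  rw [this]; exact D.inv_mem h

theorem hall_le_D {G : Type*} [Group G] (H K : Subgroup G) [hH : H.Normal]
    (hc : Subgroup.IsComplement' H K) (hle : H ≤ commutator G) (D : Subgroup G) [hD : D.Normal]
    (hDH : D ≤ H) (h1 : ⁅H, H⁆ ≤ D) (h2 : ⁅H, K⁆ ≤ D) : H ≤ D := by
  have hcen : ∀ h ∈ H, ∀ x : G ⧸ D, QuotientGroup.mk' D h * x = x * QuotientGroup.mk' D h := by
    intro h hh x
    obtain ⟨g, rfl⟩ := QuotientGroup.mk'_surjective D x
    obtain ⟨⟨⟨h', hh'⟩, ⟨k, hk⟩⟩, hx, -⟩ := (Subgroup.isComplement_iff_existsUnique.mp hc) g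
    simp only at hx
    subst hx
    have e1 := mk_comm_of_comm_mem D h h' (h1 (Subgroup.commutator_mem_commutator
      (H.inv_mem hh) (H.inv_mem hh')))
    have e2 := mk_comm_of_comm_mem D h k (h2 (Subgroup.commutator_mem_commutator
      (H.inv_mem hh) (K.inv_mem hk)))
    rw [map_mul, ← mul_assoc, e1, mul_assoc, e2, mul_assoc]
  have hcomm : commutator G ≤ K ⊔ D := by
    rw [commutator_def, Subgroup.commutator_le]
    intro g₁ _ g₂ _
    obtain ⟨⟨⟨h₁, hh₁⟩, ⟨k₁, hk₁⟩⟩, hx₁, -⟩ := (Subgroup.isComplement_iff_existsUnique.mp hc) g₁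
    obtain ⟨⟨⟨h₂, hh₂⟩, ⟨k₂, hk₂⟩⟩, hx₂, -⟩ := (Subgroup.isComplement_iff_existsUnique.mp hc) g₂
    simp only at hx₁ hx₂
    subst hx₁; subst hx₂
    have e : QuotientGroup.mk' D ⁅h₁ * k₁, h₂ * k₂⁆ = QuotientGroup.mk' D ⁅k₁, k₂⁆ := by
      rw [map_commutatorElement, map_commutatorElement, map_mul, map_mul,
        comm_central _ _ _ _ (hcen h₁ hh₁) (hcen h₂ hh₂)]
    have e' : ((⁅k₁, k₂⁆ : G) : G ⧸ D) = ((⁅h₁ * k₁, h₂ * k₂⁆ : G) : G ⧸ D) := e.symm
    have hmem : (⁅k₁, k₂⁆)⁻¹ * ⁅h₁ * k₁, h₂ * k₂⁆ ∈ D := (QuotientGroup.eq).mp e'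
    have : ⁅h₁ * k₁, h₂ * k₂⁆ = ⁅k₁, k₂⁆ * ((⁅k₁, k₂⁆)⁻¹ * ⁅h₁ * k₁, h₂ * k₂⁆) := by group
    rw [this]
    have hkk : ⁅k₁, k₂⁆ ∈ K := by
      rw [commutatorElement_def]
      exact K.mul_mem (K.mul_mem (K.mul_mem hk₁ hk₂) (K.inv_mem hk₁)) (K.inv_mem hk₂)
    exact Subgroup.mul_mem _ (Subgroup.mem_sup_left hkk) (Subgroup.mem_sup_right hmem)
  intro h hh
  have hmem : h ∈ (↑(K ⊔ D) : Set G) := hcomm (hle hh)
  rw [Subgroup.mul_normal K D] at hmem
  obtain ⟨k, hk, d, hd, hkd⟩ := Set.mem_mul.mp hmem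
  have hkH : k ∈ H := by
    have : k = h * d⁻¹ := by rw [← hkd]; group
    rw [this]; exact H.mul_mem hh (H.inv_mem (hDH hd))
  have hk1 : k = 1 := Subgroup.disjoint_def.mp hc.disjoint hkH hk
  rw [← hkd, hk1, one_mul]; exact hd

theorem part_a1 {G : Type*} [Group G] [Group.IsSolvable G] (H K : Subgroup G) [hH : H.Normal]
    (hc : Subgroup.IsComplement' H K) (hle : H ≤ commutator G) : H = ⁅H, K⁆ := by
  have hNH : ⁅H, K⁆ ≤ H := Subgroup.commutator_le_left H K
  haveI hNn : (⁅H, K⁆ : Subgroup G).Normal := by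
    rw [← Subgroup.normalizer_eq_top_iff, eq_top_iff, ← hc.sup_eq_top]
    apply sup_le
    · exact Cfsg.Agent.helper14.left_le_normalizer_commutator H K
    · have := Cfsg.Agent.helper14.left_le_normalizer_commutator K H
      rwa [Subgroup.commutator_comm K H] at this
  have hD : H ≤ ⁅H, H⁆ ⊔ ⁅H, K⁆ :=
    hall_le_D H K hc hle _ (sup_le (Subgroup.commutator_le_left H H) hNH) le_sup_left le_sup_right
  have hperf : H.map (QuotientGroup.mk' ⁅H, K⁆)
      = ⁅H.map (QuotientGroup.mk' ⁅H, K⁆), H.map (QuotientGroup.mk' ⁅H, K⁆)⁆ := by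
    rw [← Subgroup.map_commutator]
    apply le_antisymm
    · calc H.map (QuotientGroup.mk' ⁅H, K⁆)
          ≤ (⁅H, H⁆ ⊔ ⁅H, K⁆).map (QuotientGroup.mk' ⁅H, K⁆) := Subgroup.map_mono hD
        _ = (⁅H, H⁆).map (QuotientGroup.mk' ⁅H, K⁆) ⊔ (⁅H, K⁆).map (QuotientGroup.mk' ⁅H, K⁆) :=
            Subgroup.map_sup _ _ _
        _ = (⁅H, H⁆).map (QuotientGroup.mk' ⁅H, K⁆) := by
            rw [QuotientGroup.map_mk'_self, sup_bot_eq]
    · exact Subgroup.map_mono (Subgroup.commutator_le_left H H)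
  have hall : ∀ n, H.map (QuotientGroup.mk' ⁅H, K⁆) ≤ derivedSeries (G ⧸ ⁅H, K⁆) n := by
    intro n
    induction n with
    | zero => exact le_top
    | succ n ih => rw [derivedSeries_succ, hperf]; exact Subgroup.commutator_mono ih ih
  obtain ⟨n, hn⟩ := (Group.isSolvable_def (G ⧸ ⁅H, K⁆)).mp inferInstance
  have hbot : H.map (QuotientGroup.mk' ⁅H, K⁆) = ⊥ := le_bot_iff.mp (hn ▸ hall n)
  apply le_antisymm _ hNH
  intro h hh
  have : QuotientGroup.mk' ⁅H, K⁆ h ∈ H.map (QuotientGroup.mk' ⁅H, K⁆) :=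
    Subgroup.mem_map_of_mem _ hh
  rw [hbot, Subgroup.mem_bot] at this
  exact (QuotientGroup.eq_one_iff h).mp this

theorem part_a2 {G : Type*} [Group G] [Finite G] (H K : Subgroup G) [hH : H.Normal]
    (hcop : (Nat.card H).Coprime H.index) (hc : Subgroup.IsComplement' H K) (hHK : H = ⁅H, K⁆) :
    H ⊓ Subgroup.centralizer (K : Set G) ≤ ⁅H, H⁆ := by
  classical
  haveI : Fintype ↥K := Fintype.ofFinite _
  let cj : ↥K → (↥H →* ↥H) := fun k => (MulAut.conjNormal (k : G) : MulAut ↥H).toMonoidHom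
  have cj_coe : ∀ (k : ↥K) (x : ↥H), ((cj k x : ↥H) : G) = (k : G) * x * (k : G)⁻¹ :=
    fun k x => MulAut.conjNormal_apply _ _
  let φ : ↥H →* Abelianization ↥H :=
    { toFun := fun x => ∏ k : ↥K, Abelianization.of (cj k x)
      map_one' := by simp
      map_mul' := fun x y => by simp [Finset.prod_mul_distrib] }
  have φ_apply : ∀ x, φ x = ∏ k : ↥K, Abelianization.of (cj k x) := fun x => rfl
  have φ_cj : ∀ (k₀ : ↥K) (x : ↥H), φ (cj k₀ x) = φ x := by
    intro k₀ x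
    rw [φ_apply, φ_apply]
    apply Fintype.prod_equiv (Equiv.mulRight k₀)
    intro k
    congr 1
    apply Subtype.ext
    rw [cj_coe, cj_coe, cj_coe, Equiv.coe_mulRight, Subgroup.coe_mul]
    group
  have hker : ⁅H, K⁆ ≤ (φ.ker).map H.subtype := by
    rw [Subgroup.commutator_le]
    intro h hh k hk
    refine ⟨⟨h, hh⟩ * cj ⟨k, hk⟩ (⟨h, hh⟩⁻¹), ?_, ?_⟩
    · rw [SetLike.mem_coe, MonoidHom.mem_ker, map_mul, φ_cj, ← map_mul, mul_inv_cancel, map_one]
    · rw [Subgroup.subtype_apply, Subgroup.coe_mul, cj_coe]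
      simp [commutatorElement_def, mul_assoc]
  intro c hcm
  obtain ⟨hcH, hcC⟩ := Subgroup.mem_inf.mp hcm
  obtain ⟨x, hx, hxc⟩ := hker (hHK.le hcH)
  have hx1 : φ x = 1 := hx
  have hxc' : (x : G) = c := hxc
  have hfix : ∀ k : ↥K, cj k x = x := by
    intro k
    apply Subtype.ext
    rw [cj_coe, hxc']
    have := (Subgroup.mem_centralizer_iff.mp hcC) k k.2
    rw [this, mul_inv_cancel_right]
  have hpow : (Abelianization.of x) ^ Nat.card ↥K = 1 := by
    rw [← hx1, φ_apply]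
    simp only [hfix]
    rw [Finset.prod_const, Finset.card_univ, Nat.card_eq_fintype_card]
  have hpow2 : (Abelianization.of x) ^ Nat.card ↥H = 1 := by
    have hd : Nat.card (Abelianization ↥H) ∣ Nat.card ↥H :=
      Subgroup.card_quotient_dvd_card (commutator ↥H)
    obtain ⟨m, hm⟩ := hd
    rw [hm, pow_mul, pow_card_eq_one', one_pow]
  have hKc : Nat.card ↥K = H.index := (hc.symm.index_eq_card).symm
  have hone : Abelianization.of x = 1 := by
    have h1 : orderOf (Abelianization.of x) ∣ Nat.card ↥K := orderOf_dvd_of_pow_eq_one hpow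
    have h2 : orderOf (Abelianization.of x) ∣ Nat.card ↥H := orderOf_dvd_of_pow_eq_one hpow2
    rw [hKc] at h1
    have h3 : orderOf (Abelianization.of x) ∣ Nat.gcd (Nat.card ↥H) H.index := Nat.dvd_gcd h2 h1
    rw [hcop.gcd_eq_one] at h3
    exact orderOf_eq_one_iff.mp (Nat.dvd_one.mp h3)
  have hxcomm : x ∈ commutator ↥H := by
    rw [← Abelianization.ker_of]; exact hone
  rw [← Subgroup.map_subtype_commutator]
  exact ⟨x, hxcomm, hxc⟩

theorem comm_eq_bot_of_nilpotent_cyclic {Q : Type*} [Group Q] [hn : Group.IsNilpotent Q]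
    [hcy : IsCyclic (Q ⧸ commutator Q)] : commutator Q = ⊥ := by
  have hL1 : (⊤ : Subgroup Q).lowerCentralSeries 1 = commutator Q := rfl
  have h12 : commutator Q ≤ (⊤ : Subgroup Q).lowerCentralSeries 2 := by
    haveI : ((⊤ : Subgroup Q).lowerCentralSeries 2).Normal := inferInstance
    apply (Subgroup.Normal.quotient_commutative_iff_commutator_le
      (N := (⊤ : Subgroup Q).lowerCentralSeries 2)).mp
    have hle : (⊤ : Subgroup Q).lowerCentralSeries 2 ≤ (commutator Q).comap (MonoidHom.id Q) := by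
      rw [Subgroup.comap_id, ← hL1]
      exact Subgroup.lowerCentralSeries_antitone _ (by norm_num)
    refine ⟨⟨fun a b => commutative_of_cyclic_center_quotient
      (QuotientGroup.map ((⊤ : Subgroup Q).lowerCentralSeries 2) (commutator Q) (MonoidHom.id Q) hle)
      ?_ a b⟩⟩
    intro x hx
    obtain ⟨a, rfl⟩ := QuotientGroup.mk'_surjective _ x
    rw [MonoidHom.mem_ker] at hx
    have ha : a ∈ commutator Q := by
      have : ((a : Q) : Q ⧸ commutator Q) = 1 := hx
      exact (QuotientGroup.eq_one_iff a).mp this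
    rw [Subgroup.mem_center_iff]
    intro y
    obtain ⟨b, rfl⟩ := QuotientGroup.mk'_surjective _ y
    apply mk_comm_of_comm_mem
    rw [← commutatorElement_inv, inv_mem_iff]
    show ⁅a⁻¹, b⁻¹⁆ ∈ ⁅(⊤ : Subgroup Q).lowerCentralSeries 1, (⊤ : Subgroup Q)⁆
    rw [hL1]
    exact Subgroup.commutator_mem_commutator (Subgroup.inv_mem _ ha) (Subgroup.mem_top _)
  have hall : ∀ n, commutator Q ≤ (⊤ : Subgroup Q).lowerCentralSeries n := by
    intro n
    induction n with
    | zero => exact le_top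
    | succ n ih =>
      calc commutator Q ≤ (⊤ : Subgroup Q).lowerCentralSeries 2 := h12
        _ = ⁅commutator Q, ⊤⁆ := rfl
        _ ≤ ⁅(⊤ : Subgroup Q).lowerCentralSeries n, ⊤⁆ := Subgroup.commutator_mono ih le_rfl
        _ = (⊤ : Subgroup Q).lowerCentralSeries (n + 1) := rfl
  obtain ⟨n, hn'⟩ := Subgroup.nilpotent_iff_lowerCentralSeries.mp hn
  exact le_bot_iff.mp (hn' ▸ hall n)

theorem part_b_coprime {G : Type*} [Group G] [Finite G]
    (hnil : Group.IsNilpotent ↥(commutator G)) (hidx : (commutator G).index.Prime) :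
    (Nat.card ↥(commutator G)).Coprime (commutator G).index := by
  obtain ⟨r, hr⟩ : ∃ r, r = (commutator G).index := ⟨_, rfl⟩
  rw [← hr] at hidx ⊢
  haveI : Fact r.Prime := ⟨hidx⟩
  haveI hDn : (Cfsg.pPrimeCore r G).Normal := Cfsg.Agent.helper1.pPrimeCore_normal r
  have hsurj : Function.Surjective (QuotientGroup.mk' (Cfsg.pPrimeCore r G)) :=
    QuotientGroup.mk'_surjective _
  have hCbar : commutator (G ⧸ Cfsg.pPrimeCore r G)
      = (commutator G).map (QuotientGroup.mk' (Cfsg.pPrimeCore r G)) := by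
    rw [commutator_def, commutator_def, Subgroup.map_commutator, ← MonoidHom.range_eq_map,
      MonoidHom.range_eq_top.2 hsurj]
  haveI hnilbar : Group.IsNilpotent ↥(commutator (G ⧸ Cfsg.pPrimeCore r G)) := by
    rw [hCbar]
    haveI := hnil
    exact Group.nilpotent_of_surjective ((QuotientGroup.mk' (Cfsg.pPrimeCore r G)).subgroupMap
      (commutator G)) (MonoidHom.subgroupMap_surjective _ _)
  have hcore : Cfsg.pPrimeCore r (G ⧸ Cfsg.pPrimeCore r G) = ⊥ :=
    Cfsg.Agent.helper7.pPrimeCore_quotient_eq_bot hidx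
  -- the order of the derived subgroup of the quotient is a power of r
  have hprime : ∀ {q : ℕ}, q.Prime → q ∣ Nat.card ↥(commutator (G ⧸ Cfsg.pPrimeCore r G)) → q = r := by
    intro q hq hdvd
    by_contra hne
    haveI : Fact q.Prime := ⟨hq⟩
    obtain ⟨Q⟩ : Nonempty (Sylow q ↥(commutator (G ⧸ Cfsg.pPrimeCore r G))) := inferInstance
    have h03 : Group.IsNilpotent ↥(commutator (G ⧸ Cfsg.pPrimeCore r G)) ↔
        ∀ (p : ℕ) (_hp : Fact p.Prime) (P : Sylow p ↥(commutator (G ⧸ Cfsg.pPrimeCore r G))),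
          (↑P : Subgroup ↥(commutator (G ⧸ Cfsg.pPrimeCore r G))).Normal :=
      (isNilpotent_of_finite_tfae (G := ↥(commutator (G ⧸ Cfsg.pPrimeCore r G)))).out 0 3
    have hQn : (Q : Subgroup ↥(commutator (G ⧸ Cfsg.pPrimeCore r G))).Normal :=
      h03.mp hnilbar q ⟨hq⟩ Q
    have hsn1 : Cfsg.Agent.helper7.SN
        ((Q : Subgroup ↥(commutator (G ⧸ Cfsg.pPrimeCore r G))).map
          (commutator (G ⧸ Cfsg.pPrimeCore r G)).subtype) (commutator (G ⧸ Cfsg.pPrimeCore r G)) :=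
      Cfsg.Agent.helper7.sn_map_subtype hQn.isSubnormal
    have hsn2 : Cfsg.Agent.helper7.SN (commutator (G ⧸ Cfsg.pPrimeCore r G)) ⊤ :=
      Cfsg.Agent.helper7.SN.of_normal le_top (by
        rw [Subgroup.normalizer_eq_top]; )
    have hpi : Cfsg.Agent.helper7.PiGrp {q' | q' ≠ r}
        ((Q : Subgroup ↥(commutator (G ⧸ Cfsg.pPrimeCore r G))).map
          (commutator (G ⧸ Cfsg.pPrimeCore r G)).subtype) := by
      rintro _ ⟨x, hx, rfl⟩ q' hq' hdvd'
      have hxo : orderOf ((commutator (G ⧸ Cfsg.pPrimeCore r G)).subtype x) = orderOf x :=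
        orderOf_injective _ (Subgroup.subtype_injective _) x
      rw [hxo] at hdvd'
      obtain ⟨k, hk⟩ := (IsPGroup.iff_orderOf.mp Q.isPGroup') ⟨x, hx⟩
      have hxo' : orderOf (⟨x, hx⟩ : ↥(Q : Subgroup ↥(commutator (G ⧸ Cfsg.pPrimeCore r G)))) = orderOf x :=
        Subgroup.orderOf_mk x hx
      rw [hxo'] at hk
      rw [hk] at hdvd'
      have : q' = q := (Nat.prime_dvd_prime_iff_eq hq' hq).mp (hq'.dvd_of_dvd_pow hdvd')
      rw [this]; exact hne
    have hle := Cfsg.Agent.helper7.le_pPrimeCore_of_sn hidx (hsn1.trans hsn2) hpi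
    rw [hcore, le_bot_iff, Subgroup.map_eq_bot_iff_of_injective _ (Subgroup.subtype_injective _)] at hle
    exact Q.ne_bot_of_dvd_card hdvd hle
  obtain ⟨a, hcardC⟩ : ∃ a, Nat.card ↥(commutator (G ⧸ Cfsg.pPrimeCore r G)) = r ^ a :=
    ⟨_, Nat.eq_prime_pow_of_unique_prime_dvd Nat.card_pos.ne' hprime⟩
  have hidxbar : (commutator (G ⧸ Cfsg.pPrimeCore r G)).index ∣ r := by
    have := Subgroup.index_map_dvd (commutator G) hsurj
    rw [← hr, ← hCbar] at this
    exact this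
  have hpg : IsPGroup r (G ⧸ Cfsg.pPrimeCore r G) := by
    rcases (Nat.dvd_prime hidx).mp hidxbar with h1 | h1
    · apply IsPGroup.of_card (n := a)
      rw [← Subgroup.card_mul_index (commutator (G ⧸ Cfsg.pPrimeCore r G)), h1, mul_one, ← hcardC]
    · apply IsPGroup.of_card (n := a + 1)
      rw [← Subgroup.card_mul_index (commutator (G ⧸ Cfsg.pPrimeCore r G)), h1, pow_succ, ← hcardC]
  haveI : Group.IsNilpotent (G ⧸ Cfsg.pPrimeCore r G) := hpg.isNilpotent
  haveI : IsCyclic ((G ⧸ Cfsg.pPrimeCore r G) ⧸ commutator (G ⧸ Cfsg.pPrimeCore r G)) := by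
    rcases (Nat.dvd_prime hidx).mp hidxbar with h1 | h1
    · rw [Subgroup.index_eq_card] at h1
      haveI : Subsingleton ((G ⧸ Cfsg.pPrimeCore r G) ⧸ commutator (G ⧸ Cfsg.pPrimeCore r G)) :=
        (Nat.card_eq_one_iff_unique.mp h1).1
      exact isCyclic_of_subsingleton
    · rw [Subgroup.index_eq_card] at h1
      exact isCyclic_of_prime_card h1
  have hbot := comm_eq_bot_of_nilpotent_cyclic (Q := G ⧸ Cfsg.pPrimeCore r G)
  rw [hCbar, Subgroup.map_eq_bot_iff, QuotientGroup.ker_mk'] at hbot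
  exact Nat.Coprime.coprime_dvd_left (Subgroup.card_dvd_of_le hbot)
    (Cfsg.Agent.helper7.pPrimeCore_coprime hidx)

/-- Let G be a finite solvable group. (a) If H is a normal subgroup of order coprime to its index, K is a complement to H, and H ≤ G', then H = [H, K] and H ∩ C_G(K) ≤ [H, H]. (b) If G' is nilpotent and has prime index in G, then the order of G' is coprime to its index and G' = [G, K] (the subgroup generated by commutators of elements of G with elements of K) for every complement K of G'. -/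
theorem result {G : Type*} [Group G] [Finite G] [Group.IsSolvable G] :
    (∀ (H K : Subgroup G), H.Normal → (Nat.card H).Coprime H.index → Subgroup.IsComplement' H K → H ≤ commutator G →
        H = ⁅H, K⁆ ∧ H ⊓ Subgroup.centralizer (K : Set G) ≤ ⁅H, H⁆) ∧
      (Group.IsNilpotent ↥(commutator G) → (commutator G).index.Prime →
        (Nat.card ↥(commutator G)).Coprime (commutator G).index ∧
        ∀ K : Subgroup G, Subgroup.IsComplement' (commutator G) K → commutator G = ⁅(⊤ : Subgroup G), K⁆) := by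
  refine ⟨?_, ?_⟩
  · intro H K hH hcop hc hle
    haveI := hH
    have h1 := part_a1 H K hc hle
    exact ⟨h1, part_a2 H K hcop hc h1⟩
  · intro hnil hidx
    have hcop := part_b_coprime hnil hidx
    refine ⟨hcop, ?_⟩
    intro K hc
    have h1 := part_a1 (commutator G) K hc le_rfl
    apply le_antisymm
    · calc commutator G = ⁅commutator G, K⁆ := h1
        _ ≤ ⁅(⊤ : Subgroup G), K⁆ := Subgroup.commutator_mono le_top le_rfl
    · calc ⁅(⊤ : Subgroup G), K⁆ ≤ ⁅(⊤ : Subgroup G), ⊤⁆ := Subgroup.commutator_mono le_rfl le_top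
        _ = commutator G := (commutator_def G).symm

end Cfsg.Agent.S1459
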