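import Cfsg.Statements.S1460
import Cfsg.Agent.Lib_lead_Coprime

set_option autoImplicit false
set_option linter.style.haveILetI false
set_option linter.deprecated false
open Cfsg

namespace Cfsg.Agent.S1460

open Cfsg.Agent.lead Cfsg.Agent.helper7
open scoped commutatorElement

universe u

theorem part_c {G : Type u} [Group G] [Finite G] [Group.IsSolvable G] (K U H : Subgroup G)
    [hKn : K.Normal] (hKU : K ⊔ U = ⊤) (hH : H ≤ U) (hcop : (Nat.card H).Coprime (Nat.card K))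
    (g : G) (hg : cj g H ≤ U) :
    ∃ u ∈ U, ∃ c ∈ K ⊓ Subgroup.centralizer (H : Set G), g = u * c := by
  have hgtop : g ∈ U ⊔ K := by rw [sup_comm, hKU]; exact Subgroup.mem_top g
  obtain ⟨u, hu, k, hk, huk⟩ := Subgroup.mem_sup_of_normal_right.mp hgtop
  -- H₁ = cj k H ≤ U
  have hH₁U : cj k H ≤ U := by
    intro x hx
    rw [mem_cj] at hx
    have h1 : g * (k⁻¹ * x * k) * g⁻¹ ∈ cj g H := cj_mem_cj hx
    have h2 := hg h1
    have h3 : u⁻¹ * (g * (k⁻¹ * x * k) * g⁻¹) * u ∈ U := U.mul_mem (U.mul_mem (U.inv_mem hu) h2) hu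
    have h4 : u⁻¹ * (g * (k⁻¹ * x * k) * g⁻¹) * u = x := by rw [← huk]; group
    rwa [h4] at h3
  set D : Subgroup G := K ⊓ U with hD
  have hHD : H ≤ Subgroup.normalizer (D : Set G) := by
    intro h hh
    have h1 : h ∈ Subgroup.normalizer (K : Set G) := by
      rw [Subgroup.normalizer_eq_top]; exact Subgroup.mem_top h
    have h2 : h ∈ Subgroup.normalizer (U : Set G) := Subgroup.le_normalizer (hH hh)
    exact Subgroup.inf_normalizer_le_normalizer_inf ⟨h1, h2⟩
  have hH₁ : cj k H ≤ D ⊔ H := by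
    intro x hx
    have hxU := hH₁U hx
    rw [mem_cj] at hx
    have hhU := hH hx
    have hc : x * (k⁻¹ * x * k)⁻¹ ∈ D := by
      refine ⟨?_, U.mul_mem hxU (U.inv_mem hhU)⟩
      have e : x * (k⁻¹ * x * k)⁻¹ = (x * k⁻¹ * x⁻¹) * k := by group
      rw [e]
      exact K.mul_mem (hKn.conj_mem _ (K.inv_mem hk) x) hk
    have e : x = (x * (k⁻¹ * x * k)⁻¹) * (k⁻¹ * x * k) := by group
    rw [e]
    exact (D ⊔ H).mul_mem (le_sup_left (a := D) hc) (le_sup_right (b := H) hx)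
  have hcopD : (Nat.card H).Coprime (Nat.card D) :=
    hcop.coprime_dvd_right (Subgroup.card_dvd_of_le inf_le_left)
  obtain ⟨d, hd, hdH⟩ := sz_conj_semidirect H D hHD hcopD (Or.inl inferInstance) (cj k H) hH₁
    (card_cj k H)
  rw [cj_cj] at hdH
  have hcN : d * k ∈ Subgroup.normalizer (H : Set G) := mem_normalizer_of_cj_eq hdH
  have hcK : d * k ∈ K := K.mul_mem hd.1 hk
  have hHK : H ≤ Subgroup.normalizer (K : Set G) := by
    rw [Subgroup.normalizer_eq_top]; exact le_top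
  have hKH : K ⊓ H = ⊥ := by
    apply Subgroup.inf_eq_bot_of_coprime
    exact hcop.symm
  have hcC := mem_centralizer_of_normalizes H K hHK hKH (d * k) hcK hcN
  refine ⟨u * d⁻¹, U.mul_mem hu (U.inv_mem hd.2), d * k, ⟨hcK, hcC⟩, ?_⟩
  rw [← huk]; group

theorem commutator_le_sup {G : Type*} [Group G] (K U : Subgroup G) [hKn : K.Normal]
    (hKU : K ⊔ U = ⊤) : commutator G ≤ K ⊔ ⁅U, U⁆ := by
  rw [commutator_def, Subgroup.commutator_le]
  intro g₁ _ g₂ _
  have h1 : g₁ ∈ U ⊔ K := by rw [sup_comm, hKU]; exact Subgroup.mem_top _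
  have h2 : g₂ ∈ U ⊔ K := by rw [sup_comm, hKU]; exact Subgroup.mem_top _
  obtain ⟨u₁, hu₁, k₁, hk₁, e₁⟩ := Subgroup.mem_sup_of_normal_right.mp h1
  obtain ⟨u₂, hu₂, k₂, hk₂, e₂⟩ := Subgroup.mem_sup_of_normal_right.mp h2
  have m1 : (QuotientGroup.mk' K) g₁ = (QuotientGroup.mk' K) u₁ := by
    have hk : (QuotientGroup.mk' K) k₁ = 1 := (QuotientGroup.eq_one_iff k₁).mpr hk₁
    rw [← e₁, map_mul, hk, mul_one]
  have m2 : (QuotientGroup.mk' K) g₂ = (QuotientGroup.mk' K) u₂ := by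
    have hk : (QuotientGroup.mk' K) k₂ = 1 := (QuotientGroup.eq_one_iff k₂).mpr hk₂
    rw [← e₂, map_mul, hk, mul_one]
  have m3 : (QuotientGroup.mk' K) ⁅u₁, u₂⁆ = (QuotientGroup.mk' K) ⁅g₁, g₂⁆ := by
    rw [map_commutatorElement, map_commutatorElement, m1, m2]
  have m4 : ⁅u₁, u₂⁆⁻¹ * ⁅g₁, g₂⁆ ∈ K := QuotientGroup.eq.mp m3
  have e : ⁅g₁, g₂⁆ = ⁅u₁, u₂⁆ * (⁅u₁, u₂⁆⁻¹ * ⁅g₁, g₂⁆) := by group
  rw [e]
  exact (K ⊔ ⁅U, U⁆).mul_mem
    (le_sup_right (b := ⁅U, U⁆) (Subgroup.commutator_mem_commutator hu₁ hu₂))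
    (le_sup_left (a := K) m4)

theorem part_a {G : Type*} [Group G] [Finite G] (K U H : Subgroup G)
    [hKn : K.Normal] (hKU : K ⊔ U = ⊤) (hH : H ≤ U) (hcop : (Nat.card H).Coprime (Nat.card K)) :
    H ⊓ commutator G = H ⊓ ⁅U, U⁆ := by
  apply le_antisymm
  · rintro x ⟨hxH, hxG⟩
    refine ⟨hxH, ?_⟩
    have hxW := commutator_le_sup K U hKU hxG
    obtain ⟨k, hk, w, hw, ekw⟩ := Subgroup.mem_sup_of_normal_left.mp hxW
    have hwU : w ∈ U := Subgroup.commutator_le_self U hw |> fun h => h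
    have hxU : x ∈ U := hH hxH
    have hkU : k ∈ U := by
      have : k = x * w⁻¹ := by rw [← ekw]; group
      rw [this]; exact U.mul_mem hxU (U.inv_mem hwU)
    -- work in Abelianization U
    have hw' : (⟨w, hwU⟩ : U) ∈ commutator U := by
      rw [← Subgroup.map_subtype_commutator] at hw
      obtain ⟨w', hw', hww'⟩ := hw
      have : w' = ⟨w, hwU⟩ := Subtype.ext hww'
      rw [← this]; exact hw'
    have hofw : Abelianization.of (⟨w, hwU⟩ : U) = 1 := by
      rw [← MonoidHom.mem_ker, Abelianization.ker_of]; exact hw'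
    have hofx : Abelianization.of (⟨x, hxU⟩ : U) = Abelianization.of (⟨k, hkU⟩ : U) := by
      have : (⟨x, hxU⟩ : U) = ⟨k, hkU⟩ * ⟨w, hwU⟩ := Subtype.ext ekw.symm
      rw [this, map_mul, hofw, mul_one]
    have ho1 : orderOf (Abelianization.of (⟨x, hxU⟩ : U)) ∣ Nat.card H := by
      refine (orderOf_map_dvd _ _).trans ?_
      rw [Subgroup.orderOf_mk]
      have := orderOf_dvd_natCard (⟨x, hxH⟩ : H)
      rwa [Subgroup.orderOf_mk] at this
    have ho2 : orderOf (Abelianization.of (⟨x, hxU⟩ : U)) ∣ Nat.card K := by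
      rw [hofx]
      refine (orderOf_map_dvd _ _).trans ?_
      rw [Subgroup.orderOf_mk]
      have := orderOf_dvd_natCard (⟨k, hk⟩ : K)
      rwa [Subgroup.orderOf_mk] at this
    have ho : orderOf (Abelianization.of (⟨x, hxU⟩ : U)) = 1 :=
      Nat.eq_one_of_dvd_coprimes hcop ho1 ho2
    rw [orderOf_eq_one_iff, ← MonoidHom.mem_ker, Abelianization.ker_of] at ho
    rw [← Subgroup.map_subtype_commutator]
    exact ⟨⟨x, hxU⟩, ho, rfl⟩
  · apply inf_le_inf_left
    rw [commutator_def]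
    exact Subgroup.commutator_mono le_top le_top

/-- Let G be a finite solvable group, K a normal subgroup and U a subgroup with G = KU, and H ≤ U a subgroup whose order is coprime to that of K. Then H ∩ G' = H ∩ U'; N_G(H) is generated by K ∩ C_G(H) and U ∩ N_G(H); and if gHg⁻¹ ≤ U for some g ∈ G then g = u c with u ∈ U and c ∈ K ∩ C_G(H). -/
theorem result {G : Type*} [Group G] [Finite G] [Group.IsSolvable G] (K U H : Subgroup G) [K.Normal] (hKU : K ⊔ U = ⊤) (hH : H ≤ U) (hcop : (Nat.card H).Coprime (Nat.card K)) :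
    H ⊓ commutator G = H ⊓ ⁅U, U⁆ ∧
      Subgroup.normalizer (H : Set G) = (K ⊓ Subgroup.centralizer (H : Set G)) ⊔ (U ⊓ Subgroup.normalizer (H : Set G)) ∧
      ∀ g : G, H.map (MulAut.conj g).toMonoidHom ≤ U → ∃ u ∈ U, ∃ c ∈ K ⊓ Subgroup.centralizer (H : Set G), g = u * c := by
  refine ⟨part_a K U H hKU hH hcop, ?_, fun g hg => part_c K U H hKU hH hcop g hg⟩
  apply le_antisymm
  · intro g hg
    have h1 : cj g H ≤ U := by rw [cj_eq_of_mem_normalizer hg]; exact hH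
    obtain ⟨u, hu, c, hc, e⟩ := part_c K U H hKU hH hcop g h1
    have hcN : c ∈ Subgroup.normalizer (H : Set G) := Subgroup.centralizer_le_normalizer _ hc.2
    have huN : u ∈ Subgroup.normalizer (H : Set G) := by
      have : u = g * c⁻¹ := by rw [e]; group
      rw [this]
      exact Subgroup.mul_mem _ hg (Subgroup.inv_mem _ hcN)
    rw [e]
    exact Subgroup.mul_mem _ (le_sup_right (b := U ⊓ Subgroup.normalizer (H : Set G)) ⟨hu, huN⟩)
      (le_sup_left (a := K ⊓ Subgroup.centralizer (H : Set G)) hc)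
  · exact sup_le (inf_le_right.trans (Subgroup.centralizer_le_normalizer _)) inf_le_right

end Cfsg.Agent.S1460
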