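import Cfsg.Statements.S1461
import Cfsg.Agent.S1460
import Cfsg.Agent.Lib_helper1_Core
import Cfsg.Agent.Lib_helper23_PSolv2
import Cfsg.Agent.Lib_helper23_Hall

set_option autoImplicit false
set_option linter.style.haveILetI false
set_option linter.deprecated false
open Cfsg

namespace Cfsg.Agent.S1461

open Cfsg.Agent.helper7 Cfsg.Agent.lead
open scoped Pointwise

universe u

theorem plength_one_data {G : Type*} [Group G] [Finite G] (p : ℕ) [hp : Fact p.Prime]
    (hpl : Cfsg.PLengthLE p 1 G) :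
    ∃ K L : Subgroup G, K.Normal ∧ L.Normal ∧ K ≤ L ∧ (Nat.card K).Coprime p ∧
      (∃ m, K.relIndex L = p ^ m) ∧ ¬ p ∣ L.index := by
  have h3 : (upperPSeries p G 3).1 = ⊤ := hpl
  have e1 := Cfsg.Agent.helper23.upperPSeries_succ_of_even (G := G) p 0 (by decide)
  have e2 := Cfsg.Agent.helper23.upperPSeries_succ_of_not_even (G := G) p 1 (by decide)
  have e3 := Cfsg.Agent.helper23.upperPSeries_succ_of_even (G := G) p 2 (by decide)
  have hle : (upperPSeries p G 1).1 ≤ (upperPSeries p G 2).1 := by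
    rw [e2]; exact Cfsg.Agent.helper23.le_comap_mk' _ _
  refine ⟨(upperPSeries p G 1).1, (upperPSeries p G 2).1, inferInstance, inferInstance, hle,
    ?_, ?_, ?_⟩
  · rw [e1, Cfsg.Agent.helper23.card_comap_mk']
    have h0 : Nat.card (upperPSeries p G 0).1 = 1 := by
      show Nat.card (⊥ : Subgroup G) = 1
      exact Subgroup.card_bot
    rw [h0, one_mul]
    exact Cfsg.Agent.helper1.pPrimeCore_coprime p
  · have hc : Nat.card (upperPSeries p G 2).1 =
        Nat.card (upperPSeries p G 1).1 * Nat.card (pCore p (G ⧸ (upperPSeries p G 1).1)) := by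
      conv_lhs => rw [e2]
      exact Cfsg.Agent.helper23.card_comap_mk' _ _
    have hr := Subgroup.relIndex_mul_relIndex ⊥ (upperPSeries p G 1).1 (upperPSeries p G 2).1
      bot_le hle
    rw [Subgroup.relIndex_bot_left, Subgroup.relIndex_bot_left, hc] at hr
    have hpos : 0 < Nat.card (upperPSeries p G 1).1 := Nat.card_pos
    have hr' := Nat.eq_of_mul_eq_mul_left hpos hr
    rw [hr']
    obtain ⟨m, hm⟩ := (Cfsg.Agent.helper1.pCore_isPGroup (G := G ⧸ (upperPSeries p G 1).1) p).exists_card_eq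
    exact ⟨m, hm⟩
  · have htop : pPrimeCore p (G ⧸ (upperPSeries p G 2).1) = ⊤ := by
      rw [eq_top_iff]
      intro y _
      obtain ⟨x, rfl⟩ := QuotientGroup.mk'_surjective _ y
      have hx : x ∈ (upperPSeries p G 3).1 := by rw [h3]; exact Subgroup.mem_top x
      rw [e3] at hx
      exact hx
    have hcop := Cfsg.Agent.helper1.pPrimeCore_coprime (G := G ⧸ (upperPSeries p G 2).1) p
    rw [htop, Subgroup.card_top, ← Subgroup.index_eq_card] at hcop
    exact (Nat.Prime.coprime_iff_not_dvd hp.out).mp hcop.symm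

theorem frattini_data {G : Type*} [Group G] [Finite G] (p : ℕ) [hp : Fact p.Prime]
    (hpl : Cfsg.PLengthLE p 1 G) (S : Sylow p G) :
    ∃ K : Subgroup G, K.Normal ∧ (Nat.card K).Coprime p ∧
      K ⊔ Subgroup.normalizer ((S : Subgroup G) : Set G) = ⊤ := by
  obtain ⟨K, L, hKn, hLn, hKL, hKcop, ⟨m, hm⟩, hLidx⟩ := plength_one_data p hpl
  haveI := hKn
  haveI := hLn
  refine ⟨K, hKn, hKcop, ?_⟩
  have hSL : (S : Subgroup G) ≤ L := Cfsg.Agent.helper23.sylow_le_of_not_dvd_index hLidx S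
  -- L ≤ S ⊔ K
  have hLSK : L ≤ (S : Subgroup G) ⊔ K := by
    have h1 : ((S : Subgroup G) ⊔ K).relIndex L ∣ K.relIndex L :=
      Subgroup.relIndex_dvd_of_le_left L le_sup_right
    have h2 : ((S : Subgroup G) ⊔ K).relIndex L ∣ (S : Subgroup G).relIndex L :=
      Subgroup.relIndex_dvd_of_le_left L le_sup_left
    have h3 : (S : Subgroup G).relIndex L ∣ (S : Subgroup G).index :=
      Subgroup.relIndex_dvd_index_of_le hSL
    have h4 : ¬ p ∣ (S : Subgroup G).index := S.not_dvd_index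
    have h5 : (((S : Subgroup G) ⊔ K).relIndex L).Coprime (p ^ m) := by
      apply Nat.Coprime.pow_right
      rw [Nat.coprime_comm, Nat.Prime.coprime_iff_not_dvd hp.out]
      intro h
      exact h4 (h.trans (h2.trans h3))
    rw [hm] at h1
    have h6 : ((S : Subgroup G) ⊔ K).relIndex L = 1 := Nat.eq_one_of_dvd_coprimes h5 dvd_rfl h1
    exact Subgroup.relIndex_eq_one.mp h6
  -- Frattini
  have hfr := Sylow.normalizer_sup_eq_top (S.subtype hSL)
  have hmap : ((S.subtype hSL : Sylow p L) : Subgroup L).map L.subtype = (S : Subgroup G) := by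
    rw [Sylow.coe_subtype]
    exact Subgroup.map_subgroupOf_eq_of_le hSL
  rw [hmap] at hfr
  rw [eq_top_iff, ← hfr]
  apply sup_le le_sup_right
  refine hLSK.trans (sup_le ?_ le_sup_left)
  exact Subgroup.le_normalizer.trans le_sup_right

/-- Let G be a finite solvable group, p a prime with G = O_{p',p,p'}(G), and S a Sylow p-subgroup. Then: if S ≤ G' then S ≤ [N_G(S), N_G(S)]; if Y ⊆ S and xYx⁻¹ ⊆ S then x = g c for some g ∈ N_G(S) and c centralizing Y; and for every p-subgroup Q there is x ∈ C_G(Q ∩ S) with xQx⁻¹ ≤ S. -/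
theorem result {G : Type*} [Group G] [Finite G] [Group.IsSolvable G] (p : ℕ) [Fact p.Prime] (hpl : Cfsg.PLengthLE p 1 G) (S : Sylow p G) :
    ((S : Subgroup G) ≤ commutator G → (S : Subgroup G) ≤ ⁅Subgroup.normalizer ((S : Subgroup G) : Set G), Subgroup.normalizer ((S : Subgroup G) : Set G)⁆) ∧
      (∀ (Y : Set G) (x : G), Y ⊆ (S : Subgroup G) → (fun y => x * y * x⁻¹) '' Y ⊆ (S : Subgroup G) →
        ∃ g ∈ Subgroup.normalizer ((S : Subgroup G) : Set G), ∃ c ∈ Subgroup.centralizer Y, g * c = x) ∧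
      ∀ Q : Subgroup G, IsPGroup p Q → ∃ x ∈ Subgroup.centralizer ((Q ⊓ (S : Subgroup G) : Subgroup G) : Set G), Q.map (MulAut.conj x).toMonoidHom ≤ (S : Subgroup G) := by
  obtain ⟨K, hKn, hKcop, hKU⟩ := frattini_data p hpl S
  haveI := hKn
  obtain ⟨n, hn⟩ := IsPGroup.exists_card_eq S.2
  have hcopS : ∀ H : Subgroup G, H ≤ (S : Subgroup G) → (Nat.card H).Coprime (Nat.card K) := by
    intro H hH
    have h1 : Nat.card H ∣ p ^ n := by rw [← hn]; exact Subgroup.card_dvd_of_le hH
    exact (Nat.Coprime.pow_left n hKcop.symm).coprime_dvd_left h1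
  have hSU : (S : Subgroup G) ≤ Subgroup.normalizer ((S : Subgroup G) : Set G) :=
    Subgroup.le_normalizer
  have part2 : ∀ (Y : Set G) (x : G), Y ⊆ (S : Subgroup G) →
      (fun y => x * y * x⁻¹) '' Y ⊆ (S : Subgroup G) →
      ∃ g ∈ Subgroup.normalizer ((S : Subgroup G) : Set G), ∃ c ∈ Subgroup.centralizer Y,
        g * c = x := by
    intro Y x hY hxY
    have hH : Subgroup.closure Y ≤ (S : Subgroup G) := (Subgroup.closure_le _).mpr hY
    have hcj : cj x (Subgroup.closure Y) ≤ Subgroup.normalizer ((S : Subgroup G) : Set G) := by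
      refine le_trans ?_ hSU
      show (Subgroup.closure Y).map (MulAut.conj x).toMonoidHom ≤ _
      rw [MonoidHom.map_closure, Subgroup.closure_le]
      rintro _ ⟨y, hy, rfl⟩
      exact hxY ⟨y, hy, rfl⟩
    obtain ⟨u, hu, c, hc, e⟩ := Cfsg.Agent.S1460.part_c K _ (Subgroup.closure Y) hKU
      (hH.trans hSU) (hcopS _ hH) x hcj
    refine ⟨u, hu, c, ?_, e.symm⟩
    exact Subgroup.centralizer_le Subgroup.subset_closure hc.2
  refine ⟨?_, part2, ?_⟩
  · intro hSG
    have := Cfsg.Agent.S1460.part_a K (Subgroup.normalizer ((S : Subgroup G) : Set G))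
      (S : Subgroup G) hKU hSU (hcopS _ le_rfl)
    have h1 : (S : Subgroup G) ⊓ commutator G = (S : Subgroup G) := inf_eq_left.mpr hSG
    rw [h1] at this
    exact this.le.trans inf_le_right
  · intro Q hQ
    obtain ⟨P, hQP⟩ := hQ.exists_le_sylow
    obtain ⟨g, hg⟩ := MulAction.exists_smul_eq G P S
    -- g • P = S, so g Q g⁻¹ ≤ S
    have hgQ : ∀ q ∈ Q, g * q * g⁻¹ ∈ (S : Subgroup G) := by
      intro q hq
      have hS : (S : Subgroup G) = MulAut.conj g • (P : Subgroup G) := by rw [← hg]; rfl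
      rw [hS, Subgroup.mem_pointwise_smul_iff_inv_smul_mem]
      have : (MulAut.conj g)⁻¹ • (g * q * g⁻¹) = q := by
        simp [MulAut.smul_def, mul_assoc]
      rw [this]; exact hQP hq
    obtain ⟨u, hu, c, hc, e⟩ := part2 ((Q ⊓ (S : Subgroup G) : Subgroup G) : Set G) g
      (fun y hy => hy.2) (by
        rintro _ ⟨y, hy, rfl⟩
        exact hgQ y hy.1)
    refine ⟨c, hc, ?_⟩
    rintro _ ⟨q, hq, rfl⟩
    have h1 := hgQ q hq
    have h2 : c * q * c⁻¹ = u⁻¹ * (g * q * g⁻¹) * u := by rw [← e]; group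
    simp only [MulEquiv.coe_toMonoidHom, MulAut.conj_apply]
    rw [h2]
    have hu' := Subgroup.inv_mem _ hu
    have := (Subgroup.mem_normalizer_iff.mp hu' (g * q * g⁻¹)).mp h1
    simpa using this

end Cfsg.Agent.S1461
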