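import Cfsg.Statements.S1466
import Cfsg.Agent.S1467

set_option autoImplicit false
open Cfsg

namespace Cfsg.Agent.S1466

variable {R : Type*} [Group R]

theorem le_puigStep_of_normal_comm (X A : Subgroup R) (hA : IsMulCommutative A) (hn : A.Normal) :
    A ≤ Cfsg.puigStep X := by
  unfold Cfsg.puigStep
  apply le_sSup
  refine ⟨hA, ?_⟩
  rw [Subgroup.normalizer_eq_top]
  exact le_top

theorem puigStep_normal (X : Subgroup R) (hX : X.Normal) : (Cfsg.puigStep X).Normal := by
  constructor
  intro n hn g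
  have key : Cfsg.puigStep X ≤ (Cfsg.puigStep X).comap (MulAut.conj g).toMonoidHom := by
    unfold Cfsg.puigStep
    apply sSup_le
    rintro A ⟨hA, hXA⟩ a ha
    rw [Subgroup.mem_comap]
    have hmem : A.map (MulAut.conj g).toMonoidHom ∈
        {A : Subgroup R | IsMulCommutative A ∧ X ≤ Subgroup.normalizer (A : Set R)} := by
      refine ⟨inferInstance, ?_⟩
      rw [Subgroup.le_normalizer_iff]
      intro h hh k hk
      rw [Subgroup.mem_map] at hk ⊢
      obtain ⟨a', ha', rfl⟩ := hk
      have h1 : g⁻¹ * h * g ∈ X := by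
        have := hX.conj_mem h hh g⁻¹
        simpa using this
      have h2 := (Subgroup.le_normalizer_iff.mp hXA) _ h1 a' ha'
      refine ⟨_, h2, ?_⟩
      simp [MulAut.conj_apply, mul_assoc]
    exact (le_sSup hmem) (Subgroup.mem_map_of_mem _ ha)
  have := key hn
  rw [Subgroup.mem_comap] at this
  simpa [MulAut.conj_apply] using this

theorem centralizer_puigStep_le [Group.IsNilpotent R] (X : Subgroup R) (hX : X.Normal) :
    Subgroup.centralizer ((Cfsg.puigStep X : Subgroup R) : Set R) ≤ Cfsg.puigStep X := by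
  set L := Cfsg.puigStep X with hL
  have hLn : L.Normal := puigStep_normal X hX
  set C := Subgroup.centralizer (L : Set R) with hC
  have hCn : C.Normal := inferInstance
  have main : ∀ n : ℕ, C ⊓ Subgroup.upperCentralSeries R n ≤ L := by
    intro n
    induction n with
    | zero => simp
    | succ n ih =>
      intro x hx
      obtain ⟨hxC, hxZ0⟩ := Subgroup.mem_inf.mp hx
      have hxZ : ∀ y : R, x * y * x⁻¹ * y⁻¹ ∈ Subgroup.upperCentralSeries R n := by
        intro y
        have := (Subgroup.mem_upperCentralSeries_succ_iff.mp hxZ0) y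
        rwa [commutatorElement_def] at this
      let S : Set R := {x} ∪ ((C ⊓ L : Subgroup R) : Set R)
      have hcomm : ∀ a ∈ S, ∀ b ∈ S, a * b = b * a := by
        have hxl : ∀ l ∈ L, l * x = x * l := fun l hl => (Subgroup.mem_centralizer_iff.mp hxC) l hl
        rintro a (rfl | ⟨haC, haL⟩) b (rfl | ⟨hbC, hbL⟩)
        · rfl
        · exact (hxl b hbL).symm
        · exact hxl a haL
        · exact ((Subgroup.mem_centralizer_iff.mp haC) b hbL).symm
      have hAc : IsMulCommutative (Subgroup.closure S) := Subgroup.isMulCommutative_closure hcomm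
      have hAn : (Subgroup.closure S).Normal := by
        rw [← Subgroup.normalizer_eq_top_iff, eq_top_iff, Subgroup.le_normalizer_closure_iff]
        rintro h - g (rfl | ⟨hgC, hgL⟩)
        · have h1 : h * g * h⁻¹ * g⁻¹ ∈ C ⊓ L := by
            have hc : h * g * h⁻¹ * g⁻¹ ∈ C := C.mul_mem (hCn.conj_mem g hxC h) (C.inv_mem hxC)
            refine ⟨hc, ih ⟨hc, ?_⟩⟩
            have := (Subgroup.upperCentralSeries R n).inv_mem (hxZ h)
            simpa [mul_assoc] using this
          have h2 : h * g * h⁻¹ = (h * g * h⁻¹ * g⁻¹) * g := by group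
          rw [h2]
          exact (Subgroup.closure S).mul_mem (Subgroup.subset_closure (Or.inr h1))
            (Subgroup.subset_closure (Or.inl rfl))
        · exact Subgroup.subset_closure (Or.inr ⟨hCn.conj_mem g hgC h, hLn.conj_mem g hgL h⟩)
      exact (le_puigStep_of_normal_comm X _ hAc hAn) (Subgroup.subset_closure (Or.inl rfl))
  obtain ⟨n, hn⟩ := (Group.IsNilpotent.nilpotent (G := R))
  have := main n
  rw [hn] at this
  simpa using this

theorem puigSeq_normal (i : ℕ) : (Cfsg.puigSeq R i).Normal := by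
  induction i with
  | zero => show (⊥ : Subgroup R).Normal; infer_instance
  | succ i ih => exact puigStep_normal _ ih

theorem centralizer_puigSeq_le [Group.IsNilpotent R] (i : ℕ) (hi : 0 < i) :
    Subgroup.centralizer ((Cfsg.puigSeq R i : Subgroup R) : Set R) ≤ Cfsg.puigSeq R i := by
  obtain ⟨j, rfl⟩ := Nat.exists_eq_succ_of_ne_zero hi.ne'
  exact centralizer_puigStep_le _ (puigSeq_normal j)

/-- Let p be a prime and R a nontrivial finite p-group. Then for every i > 0, Z(R) ≤ C_R(L_i(R)) ≤ L_i(R); likewise Z(R) ≤ C_R(L_*(R)) ≤ L_*(R) and Z(R) ≤ C_R(L(R)) ≤ L(R); and L(R) ≠ 1, L_*(R) ≠ 1. -/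
theorem result {R : Type*} [Group R] [Finite R] (p : ℕ) [Fact p.Prime] (hR : IsPGroup p R) [Nontrivial R] :
    (∀ i : ℕ, 0 < i → Subgroup.center R ≤ Subgroup.centralizer ((Cfsg.puigSeq R i : Subgroup R) : Set R) ∧
        Subgroup.centralizer ((Cfsg.puigSeq R i : Subgroup R) : Set R) ≤ Cfsg.puigSeq R i) ∧
      (Subgroup.center R ≤ Subgroup.centralizer ((Cfsg.puigLower R : Subgroup R) : Set R) ∧ Subgroup.centralizer ((Cfsg.puigLower R : Subgroup R) : Set R) ≤ Cfsg.puigLower R) ∧
      (Subgroup.center R ≤ Subgroup.centralizer ((Cfsg.puigSubgroup R : Subgroup R) : Set R) ∧ Subgroup.centralizer ((Cfsg.puigSubgroup R : Subgroup R) : Set R) ≤ Cfsg.puigSubgroup R) ∧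
      Cfsg.puigSubgroup R ≠ ⊥ ∧ Cfsg.puigLower R ≠ ⊥ := by
  have : Group.IsNilpotent R := hR.isNilpotent
  obtain ⟨k, hk⟩ := (Cfsg.Agent.S1467.result (G := R)).2.2.2.1
  have hlow : Cfsg.puigSeq R (2 * (k + 1)) = Cfsg.puigLower R := (hk (k + 1) (Nat.le_succ k)).1
  have hup : Cfsg.puigSeq R (2 * (k + 1) + 1) = Cfsg.puigSubgroup R := (hk (k + 1) (Nat.le_succ k)).2
  have hZ : (Subgroup.center R) ≠ ⊥ := (hR.bot_lt_center).ne'
  have h1 : Subgroup.centralizer ((Cfsg.puigLower R : Subgroup R) : Set R) ≤ Cfsg.puigLower R := by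
    rw [← hlow]; exact centralizer_puigSeq_le _ (by omega)
  have h2 : Subgroup.centralizer ((Cfsg.puigSubgroup R : Subgroup R) : Set R) ≤ Cfsg.puigSubgroup R := by
    rw [← hup]; exact centralizer_puigSeq_le _ (by omega)
  refine ⟨fun i hi => ⟨Subgroup.center_le_centralizer _, centralizer_puigSeq_le i hi⟩,
    ⟨Subgroup.center_le_centralizer _, h1⟩, ⟨Subgroup.center_le_centralizer _, h2⟩, ?_, ?_⟩
  · intro h
    apply hZ
    rw [eq_bot_iff, ← h]
    exact (Subgroup.center_le_centralizer _).trans h2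
  · intro h
    apply hZ
    rw [eq_bot_iff, ← h]
    exact (Subgroup.center_le_centralizer _).trans h1

end Cfsg.Agent.S1466
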