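import Cfsg.Statements.S1469
import Mathlib
import Mathlib
import Cfsg.Agent.Lib_helper14_Puig4
import Cfsg.Agent.Lib_helper10_Sec3
-- import your own Cfsg.Agent.* helpers here

set_option autoImplicit false
open Cfsg

namespace Cfsg.Agent.S1469


open Cfsg.Agent.helper14.Puig

/-- Let p be an odd prime, G a solvable group of odd order and S a Sylow p-subgroup, and let Z be the centre of the Puig subgroup L(S), viewed inside G. Then G is generated by O_{p'}(G) and N_G(Z); and if O_{p'}(G) = 1 then Z is normal in G. -/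
theorem result {G : Type*} [Group G] [Finite G] [Group.IsSolvable G] (hodd : Odd (Nat.card G)) (p : ℕ) [Fact p.Prime] (hp : p ≠ 2) (S : Sylow p G) :
    Cfsg.pPrimeCore p G ⊔ Subgroup.normalizer ((((Subgroup.center ↥(Cfsg.puigSubgroup ↥(S : Subgroup G))).map (Cfsg.puigSubgroup ↥(S : Subgroup G)).subtype).map (S : Subgroup G).subtype : Subgroup G) : Set G) = ⊤ ∧
      (Cfsg.pPrimeCore p G = ⊥ → (((Subgroup.center ↥(Cfsg.puigSubgroup ↥(S : Subgroup G))).map (Cfsg.puigSubgroup ↥(S : Subgroup G)).subtype).map (S : Subgroup G).subtype).Normal) := by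
  have hpp : p.Prime := Fact.out
  have hZ : (((Subgroup.center ↥(Cfsg.puigSubgroup ↥(S : Subgroup G))).map
      (Cfsg.puigSubgroup ↥(S : Subgroup G)).subtype).map (S : Subgroup G).subtype : Subgroup G)
      = Zc (UpperR (S : Subgroup G)) := center_bridge _ _
  rw [hZ]
  have main : Cfsg.pPrimeCore p G ⊔
      Subgroup.normalizer ((Zc (UpperR (S : Subgroup G)) : Subgroup G) : Set G) = ⊤ := by
    haveI hKn : (Cfsg.pPrimeCore p G).Normal := Cfsg.Agent.helper1.pPrimeCore_normal p
    have hKcop : (Nat.card (Cfsg.pPrimeCore p G)).Coprime p :=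
      Cfsg.Agent.helper7.pPrimeCore_coprime hpp
    have hsurj : Function.Surjective (QuotientGroup.mk' (Cfsg.pPrimeCore p G)) :=
      QuotientGroup.mk'_surjective _
    have hodd' : Odd (Nat.card (G ⧸ Cfsg.pPrimeCore p G)) :=
      Odd.of_dvd_nat hodd (Subgroup.card_quotient_dvd_card _)
    have hO : Cfsg.pPrimeCore p (G ⧸ Cfsg.pPrimeCore p G) = ⊥ :=
      Cfsg.Agent.helper7.pPrimeCore_quotient_eq_bot hpp
    have hinj : ∀ x ∈ (S : Subgroup G), QuotientGroup.mk' (Cfsg.pPrimeCore p G) x = 1 → x = 1 := by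
      intro x hx h1
      have h1' : x ∈ Cfsg.pPrimeCore p G := by
        rw [← QuotientGroup.ker_mk' (Cfsg.pPrimeCore p G), MonoidHom.mem_ker]
        exact h1
      exact Cfsg.Agent.helper10.eq_one_of_mem_of_coprime (S : Subgroup G) (Cfsg.pPrimeCore p G)
        S.isPGroup' hKcop x hx h1'
    have hnorm := Zc_upper_normal_of_core_bot hodd' p hp hO (S.mapSurjective hsurj)
    rw [Sylow.coe_mapSurjective, upper_map_of_injOn _ (S : Subgroup G) hinj,
      Zc_map_of_injOn _ (S : Subgroup G) _ (upper_le _) hinj] at hnorm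
    have hN : (Cfsg.pPrimeCore p G ⊔ Zc (UpperR (S : Subgroup G))).Normal := by
      have : Cfsg.pPrimeCore p G ⊔ Zc (UpperR (S : Subgroup G)) =
          ((Zc (UpperR (S : Subgroup G))).map (QuotientGroup.mk' (Cfsg.pPrimeCore p G))).comap
            (QuotientGroup.mk' (Cfsg.pPrimeCore p G)) := by
        rw [Subgroup.comap_map_eq, QuotientGroup.ker_mk', sup_comm]
      rw [this]
      exact hnorm.comap _
    have hZp : IsPGroup p ↥(Zc (UpperR (S : Subgroup G))) :=
      S.isPGroup'.to_le ((Zc_le _).trans (upper_le _))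
    have := Cfsg.Agent.helper3.normalizer_sup_eq_top_of_normal_sup (Cfsg.pPrimeCore p G) hKcop _
      hZp hN
    rw [sup_comm]
    exact this
  refine ⟨main, fun hO => ?_⟩
  rw [hO, bot_sup_eq] at main
  exact Subgroup.normalizer_eq_top_iff.mp main

end Cfsg.Agent.S1469
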