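import Cfsg.Statements.S1470


set_option autoImplicit false
open Cfsg

namespace Cfsg.Agent.S1470

open Polynomial in
theorem root_count {F : Type*} [Field F] (p q : ℕ) [Fact p.Prime] [CharP F p] (hq : 0 < q) (s : F)
    (h : ∀ k : ℕ, ∏ i ∈ Finset.range q, (s + (k : F)) ^ (p ^ i) = ∏ i ∈ Finset.range q, s ^ (p ^ i)) :
    p ≤ q := by
  classical
  have hcast : ∀ (k : ℕ) (i : ℕ), ((k : F)) ^ (p ^ i) = (k : F) := by
    intro k i
    induction i with
    | zero => simp
    | succ i ih =>
      rw [pow_succ, pow_mul, ih]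
      have := map_natCast (frobenius F p) k
      rwa [frobenius_def] at this
  set A : F[X] := ∏ i ∈ Finset.range q, (X + C (s ^ (p ^ i))) with hAdef
  set c : F := ∏ i ∈ Finset.range q, s ^ (p ^ i) with hc
  have hdegA : A.natDegree = q := by
    rw [hAdef, Polynomial.natDegree_prod_of_monic _ _ (fun i _ => Polynomial.monic_X_add_C _),
      Finset.sum_congr rfl (fun i _ => Polynomial.natDegree_X_add_C _)]
    simp
  have hdeg : (A - C c).natDegree = q := by
    rw [Polynomial.natDegree_sub_C, hdegA]
  have hne : A - C c ≠ 0 := by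
    intro h0
    rw [h0, Polynomial.natDegree_zero] at hdeg
    omega
  let Z : Finset F := (Finset.range p).image (fun k : ℕ => (k : F))
  have hZcard : Z.card = p := by
    rw [Finset.card_image_of_injOn, Finset.card_range]
    intro a ha b hb hab
    simp only [Finset.coe_range, Set.mem_Iio] at ha hb
    have := (CharP.natCast_eq_natCast F p).mp hab
    unfold Nat.ModEq at this
    rwa [Nat.mod_eq_of_lt ha, Nat.mod_eq_of_lt hb] at this
  have hsub : Z.val ⊆ (A - C c).roots := by
    intro x hx
    rw [Finset.mem_val] at hx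
    obtain ⟨k, -, rfl⟩ := Finset.mem_image.mp hx
    rw [Polynomial.mem_roots hne, Polynomial.IsRoot.def, Polynomial.eval_sub, Polynomial.eval_C,
      hAdef, Polynomial.eval_prod, sub_eq_zero, ← h k]
    refine Finset.prod_congr rfl (fun i _ => ?_)
    rw [Polynomial.eval_add, Polynomial.eval_X, Polynomial.eval_C, add_pow_char_pow, hcast, add_comm]
  have := Polynomial.card_le_degree_of_subset_roots hsub
  rw [hZcard, hdeg] at this
  exact this

theorem norm_formula (p q : ℕ) [Fact p.Prime] (hq : q ≠ 0) (x : GaloisField p q) :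
    algebraMap (ZMod p) (GaloisField p q) (Algebra.norm (ZMod p) x) =
      ∏ i ∈ Finset.range q, x ^ (p ^ i) := by
  have := FiniteField.algebraMap_norm_eq_prod_pow (ZMod p) (GaloisField p q) x
  rw [GaloisField.finrank p hq, Nat.card_zmod] at this
  exact this

/-- Let p and q be odd primes with (p^q − 1)/(p − 1) coprime to p − 1, and let E be the set of elements a of the field with p ^ q elements whose norm to the prime field is 1 and for which 2 − a also has norm 1. If a⁻¹ ∈ E for every a ∈ E and E has at least two elements, then p ≤ q. -/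
theorem result (p q : ℕ) [Fact p.Prime] [Fact q.Prime] (hp : p ≠ 2) (hq : q ≠ 2) (hA : Nat.Coprime ((p ^ q - 1) / (p - 1)) (p - 1))
    (hinv : ∀ a ∈ {a : GaloisField p q | Algebra.norm (ZMod p) a = 1 ∧ Algebra.norm (ZMod p) (2 - a) = 1}, a⁻¹ ∈ {a : GaloisField p q | Algebra.norm (ZMod p) a = 1 ∧ Algebra.norm (ZMod p) (2 - a) = 1})
    (h2 : 2 ≤ Set.ncard {a : GaloisField p q | Algebra.norm (ZMod p) a = 1 ∧ Algebra.norm (ZMod p) (2 - a) = 1}) :
    p ≤ q := by
  classical
  have hq0 : q ≠ 0 := (Fact.out : q.Prime).ne_zero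
  set E : Set (GaloisField p q) := {a : GaloisField p q | Algebra.norm (ZMod p) a = 1 ∧ Algebra.norm (ZMod p) (2 - a) = 1} with hE
  obtain ⟨a, haE, ha1⟩ := Set.exists_ne_of_one_lt_ncard (show 1 < E.ncard from h2) (1 : GaloisField p q)
  have hne0 : ∀ b ∈ E, b ≠ 0 := by
    intro b hb h0
    have h1 := hb.1
    rw [h0, Algebra.norm_zero] at h1
    exact zero_ne_one h1
  have hsymm : ∀ b ∈ E, 2 - b ∈ E := by
    intro b hb
    refine ⟨hb.2, ?_⟩
    rw [sub_sub_cancel]
    exact hb.1
  set s : GaloisField p q := (a - 1)⁻¹ with hs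
  -- the sequence
  let seq : ℕ → GaloisField p q := fun k => Nat.rec a (fun _ b => 2 - b⁻¹) k
  have hseq0 : seq 0 = a := rfl
  have hseqS : ∀ k, seq (k + 1) = 2 - (seq k)⁻¹ := fun k => rfl
  have hP : ∀ k : ℕ, seq k ∈ E ∧ seq k ≠ 1 ∧ (seq k - 1)⁻¹ = s + (k : GaloisField p q) := by
    intro k
    induction k with
    | zero => exact ⟨haE, ha1, by simp [hseq0, hs]⟩
    | succ k ih =>
      obtain ⟨h1, h2', h3⟩ := ih
      have hb0 := hne0 _ h1
      have hb1 : seq k - 1 ≠ 0 := sub_ne_zero.mpr h2'
      have hmem : seq (k + 1) ∈ E := by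
        rw [hseqS]
        exact hsymm _ (hinv _ h1)
      have heq : seq (k + 1) - 1 = (seq k - 1) / seq k := by
        rw [hseqS]
        field_simp
        ring
      refine ⟨hmem, ?_, ?_⟩
      · intro h
        rw [h, sub_self] at heq
        exact (div_ne_zero hb1 hb0) heq.symm
      · rw [heq, inv_div, Nat.cast_succ, ← add_assoc, ← h3]
        field_simp
        ring
  have hstep : ∀ k : ℕ, Algebra.norm (ZMod p) (s + (k : GaloisField p q) + 1) =
      Algebra.norm (ZMod p) (s + (k : GaloisField p q)) := by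
    intro k
    obtain ⟨h1, h2', h3⟩ := hP k
    have hb1 : seq k - 1 ≠ 0 := sub_ne_zero.mpr h2'
    have ht : (s + (k : GaloisField p q)) ≠ 0 := by
      rw [← h3]
      exact inv_ne_zero hb1
    have hmul : seq k * (s + (k : GaloisField p q)) = s + (k : GaloisField p q) + 1 := by
      rw [← h3]
      field_simp
      ring
    rw [← hmul, map_mul, h1.1, one_mul]
  have hall : ∀ k : ℕ, Algebra.norm (ZMod p) (s + (k : GaloisField p q)) = Algebra.norm (ZMod p) s := by
    intro k
    induction k with
    | zero => simp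
    | succ k ih =>
      rw [Nat.cast_succ, ← add_assoc, hstep k, ih]
  refine root_count (F := GaloisField p q) p q (Nat.pos_of_ne_zero hq0) s (fun k => ?_)
  rw [← norm_formula p q hq0, ← norm_formula p q hq0, hall k]

end Cfsg.Agent.S1470
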