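import Cfsg.Statements.S1471
import Mathlib

set_option autoImplicit false
set_option linter.style.haveILetI false
set_option linter.unusedSectionVars false
open Cfsg

namespace Cfsg.Agent.S1471

open Finset

section general

variable {p : ℕ} [Fact p.Prime] {F : Type*} [Field F] [Fintype F] [Algebra (ZMod p) F]

/-- lift of a multiplicative character through the norm -/
noncomputable def liftChar (χ : MulChar (ZMod p) ℂ) : MulChar F ℂ where
  toFun x := χ (Algebra.norm (ZMod p) x)
  map_one' := by simp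
  map_mul' a b := by simp [map_mul]
  map_nonunit' a ha := by
    have h0 : a = 0 := by
      by_contra h
      exact ha (isUnit_iff_ne_zero.mpr h)
    subst h0
    simp only [Algebra.norm_zero]
    exact MulChar.map_zero χ

theorem liftChar_apply (χ : MulChar (ZMod p) ℂ) (x : F) :
    liftChar (F := F) χ x = χ (Algebra.norm (ZMod p) x) := rfl

theorem liftChar_mul (χ₁ χ₂ : MulChar (ZMod p) ℂ) :
    liftChar (F := F) (χ₁ * χ₂) = liftChar χ₁ * liftChar χ₂ := by
  apply MulChar.ext'
  intro a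
  simp [liftChar_apply, MulChar.mul_apply]

theorem norm_ne_zero_of_ne_zero {x : F} (hx : x ≠ 0) : Algebra.norm (ZMod p) x ≠ 0 := by
  intro h
  exact hx (Algebra.norm_eq_zero_iff.mp h)

theorem liftChar_one : liftChar (F := F) (1 : MulChar (ZMod p) ℂ) = 1 := by
  apply MulChar.ext
  intro a
  have ha : (a : F) ≠ 0 := a.ne_zero
  rw [liftChar_apply, MulChar.one_apply (isUnit_iff_ne_zero.mpr (norm_ne_zero_of_ne_zero ha)),
    MulChar.one_apply a.isUnit]

theorem liftChar_eq_one_iff (χ : MulChar (ZMod p) ℂ) :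
    liftChar (F := F) χ = 1 ↔ χ = 1 := by
  constructor
  · intro h
    apply MulChar.ext
    intro y
    obtain ⟨x, hx⟩ := FiniteField.norm_surjective (ZMod p) F (y : ZMod p)
    have hx0 : x ≠ 0 := by
      rintro rfl
      rw [Algebra.norm_zero] at hx
      exact y.ne_zero hx.symm
    have h1 : liftChar (F := F) χ x = (1 : MulChar F ℂ) x := by rw [h]
    rw [liftChar_apply, hx, MulChar.one_apply (isUnit_iff_ne_zero.mpr hx0)] at h1
    rw [h1, MulChar.one_apply y.isUnit]
  · rintro rfl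
    exact liftChar_one

theorem norm_mulChar_le_one (ψ : MulChar F ℂ) (x : F) : ‖ψ x‖ ≤ 1 := by
  by_cases hx : x = 0
  · subst hx
    rw [MulChar.map_zero]; simp
  · have h1 : (ψ x) ^ (Fintype.card F - 1) = 1 := by
      rw [← map_pow, FiniteField.pow_card_sub_one_eq_one x hx, map_one]
    have hn : Fintype.card F - 1 ≠ 0 := by
      have := Fintype.one_lt_card (α := F)
      omega
    exact (Complex.norm_eq_one_of_pow_eq_one h1 hn).le

/-- the twisted sum -/
noncomputable def twSum (ψ₁ ψ₂ : MulChar F ℂ) : ℂ := ∑ a : F, ψ₁ a * ψ₂ (2 - a)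

theorem twSum_eq (h2 : (2 : F) ≠ 0) (ψ₁ ψ₂ : MulChar F ℂ) :
    twSum ψ₁ ψ₂ = ψ₁ 2 * ψ₂ 2 * jacobiSum ψ₁ ψ₂ := by
  unfold twSum jacobiSum
  have key : ∑ a : F, ψ₁ a * ψ₂ (2 - a) = ∑ b : F, ψ₁ (2 * b) * ψ₂ (2 - 2 * b) :=
    (Fintype.sum_equiv (Equiv.mulLeft₀ (2 : F) h2) (fun b => ψ₁ (2 * b) * ψ₂ (2 - 2 * b))
      (fun a => ψ₁ a * ψ₂ (2 - a)) (fun b => rfl)).symm
  rw [key, Finset.mul_sum]
  refine Finset.sum_congr rfl fun b _ => ?_
  have : (2 : F) - 2 * b = 2 * (1 - b) := by ring
  rw [this, map_mul, map_mul]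
  ring

theorem jacobiSum_conj (ψ₁ ψ₂ : MulChar F ℂ) :
    jacobiSum ψ₁⁻¹ ψ₂⁻¹ = (starRingEnd ℂ) (jacobiSum ψ₁ ψ₂) := by
  rw [← jacobiSum_ringHomComp]
  have h : ∀ ψ : MulChar F ℂ, ψ.ringHomComp (starRingEnd ℂ) = ψ⁻¹ := by
    intro ψ
    rw [← MulChar.star_eq_inv]
    rfl
  rw [h, h]

theorem norm_twSum_le (h2 : (2 : F) ≠ 0) (ψ₁ ψ₂ : MulChar F ℂ) (h : ¬ (ψ₁ = 1 ∧ ψ₂ = 1)) :
    ‖twSum ψ₁ ψ₂‖ ≤ Real.sqrt (Fintype.card F) := by
  classical
  have hcard1 : (1 : ℝ) ≤ Real.sqrt (Fintype.card F) := by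
    rw [Real.one_le_sqrt]
    exact_mod_cast Fintype.card_pos (α := F)
  rw [twSum_eq h2, norm_mul, norm_mul]
  have hA : ‖ψ₁ 2‖ * ‖ψ₂ 2‖ ≤ 1 := by
    have := norm_mulChar_le_one ψ₁ 2
    have := norm_mulChar_le_one ψ₂ 2
    nlinarith [norm_nonneg (ψ₁ 2), norm_nonneg (ψ₂ 2)]
  have hA0 : 0 ≤ ‖ψ₁ 2‖ * ‖ψ₂ 2‖ := by positivity
  suffices hJ : ‖jacobiSum ψ₁ ψ₂‖ ≤ Real.sqrt (Fintype.card F) by
    calc ‖ψ₁ 2‖ * ‖ψ₂ 2‖ * ‖jacobiSum ψ₁ ψ₂‖ ≤ 1 * ‖jacobiSum ψ₁ ψ₂‖ := by
          exact mul_le_mul_of_nonneg_right hA (norm_nonneg _)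
      _ = ‖jacobiSum ψ₁ ψ₂‖ := one_mul _
      _ ≤ _ := hJ
  by_cases h1 : ψ₁ = 1
  · have h2' : ψ₂ ≠ 1 := fun h' => h ⟨h1, h'⟩
    rw [h1, jacobiSum_one_nontrivial h2']
    simpa using hcard1
  · by_cases h2' : ψ₂ = 1
    · rw [h2', jacobiSum_comm, jacobiSum_one_nontrivial h1]
      simpa using hcard1
    · by_cases h12 : ψ₁ * ψ₂ = 1
      · have : ψ₂ = ψ₁⁻¹ := eq_inv_of_mul_eq_one_right h12
        rw [this, jacobiSum_nontrivial_inv h1, norm_neg]
        exact (norm_mulChar_le_one ψ₁ (-1)).trans hcard1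
      · have hchar : ringChar ℂ ≠ ringChar F := by
          rw [ringChar.eq_zero]
          intro h0
          obtain ⟨n, hn, hc⟩ := FiniteField.card F (ringChar F)
          rw [← h0] at hn
          exact Nat.not_prime_zero hn
        have hmul := jacobiSum_mul_jacobiSum_inv hchar h1 h2' h12
        rw [jacobiSum_conj, Complex.mul_conj] at hmul
        have hsq : ‖jacobiSum ψ₁ ψ₂‖ ^ 2 = (Fintype.card F : ℝ) := by
          rw [← Complex.normSq_eq_norm_sq]
          exact_mod_cast hmul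
        have : ‖jacobiSum ψ₁ ψ₂‖ = Real.sqrt (Fintype.card F) := by
          rw [← hsq, Real.sqrt_sq (norm_nonneg _)]
        exact this.le

/-- the solution set as a finset -/
noncomputable def solSet (p : ℕ) [Fact p.Prime] (F : Type*) [Field F] [Fintype F]
    [Algebra (ZMod p) F] : Finset F := by
  classical
  exact Finset.univ.filter (fun a : F =>
    Algebra.norm (ZMod p) a = 1 ∧ Algebra.norm (ZMod p) (2 - a) = 1)

theorem count_identity :
    (((p - 1 : ℕ) : ℂ) ^ 2 * ((solSet p F).card : ℂ)) =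
      ∑ χ₁ : DirichletCharacter ℂ p, ∑ χ₂ : DirichletCharacter ℂ p,
        twSum (liftChar (F := F) χ₁) (liftChar χ₂) := by
  classical
  have hind : ∀ y : ZMod p, ∑ χ : DirichletCharacter ℂ p, χ y =
      if y = 1 then ((p - 1 : ℕ) : ℂ) else 0 := by
    intro y
    rw [DirichletCharacter.sum_characters_eq ℂ y, Nat.totient_prime (Fact.out)]
  have h1 : ∀ a : F,
      (if (Algebra.norm (ZMod p) a = 1 ∧ Algebra.norm (ZMod p) (2 - a) = 1)
        then (((p - 1 : ℕ) : ℂ) ^ 2) else 0)
      = ∑ χ₁ : DirichletCharacter ℂ p, ∑ χ₂ : DirichletCharacter ℂ p,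
          χ₁ (Algebra.norm (ZMod p) a) * χ₂ (Algebra.norm (ZMod p) (2 - a)) := by
    intro a
    rw [← Finset.sum_mul_sum, hind, hind]
    by_cases ha : Algebra.norm (ZMod p) a = 1 <;>
      by_cases hb : Algebra.norm (ZMod p) (2 - a) = 1 <;> simp [ha, hb, sq]
  have h2 : (((p - 1 : ℕ) : ℂ) ^ 2 * ((solSet p F).card : ℂ)) =
      ∑ a : F, (if (Algebra.norm (ZMod p) a = 1 ∧ Algebra.norm (ZMod p) (2 - a) = 1)
        then (((p - 1 : ℕ) : ℂ) ^ 2) else 0) := by
    unfold solSet
    rw [Finset.sum_ite, Finset.sum_const, Finset.sum_const_zero, add_zero, nsmul_eq_mul, mul_comm]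
  rw [h2]
  simp_rw [h1]
  rw [Finset.sum_comm]
  refine Finset.sum_congr rfl fun χ₁ _ => ?_
  rw [Finset.sum_comm]
  rfl

theorem card_chars : Fintype.card (DirichletCharacter ℂ p) = p - 1 := by
  rw [← Nat.card_eq_fintype_card, DirichletCharacter.card_eq_totient_of_hasEnoughRootsOfUnity ℂ p,
    Nat.totient_prime (Fact.out)]

theorem card_bound (h2 : (2 : F) ≠ 0) :
    |((p - 1 : ℕ) : ℝ) ^ 2 * ((solSet p F).card : ℝ) - ((Fintype.card F : ℝ) - 2)| ≤
      ((((p - 1 : ℕ) : ℝ)) ^ 2 - 1) * Real.sqrt (Fintype.card F) := by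
  classical
  set X := DirichletCharacter ℂ p with hX
  set T : X × X → ℂ := fun x => twSum (liftChar (F := F) x.1) (liftChar x.2) with hT
  have hsum : (((p - 1 : ℕ) : ℂ) ^ 2 * ((solSet p F).card : ℂ)) = ∑ x : X × X, T x := by
    rw [count_identity, Fintype.sum_prod_type]
  have hT11 : T (1, 1) = (Fintype.card F : ℂ) - 2 := by
    simp only [hT]
    rw [liftChar_one, twSum_eq h2, jacobiSum_one_one,
      MulChar.one_apply (isUnit_iff_ne_zero.mpr h2)]
    ring
  have hsplit : ∑ x : X × X, T x = T (1, 1) + ∑ x ∈ (Finset.univ : Finset (X × X)).erase (1, 1), T x :=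
    (Finset.add_sum_erase _ _ (Finset.mem_univ _)).symm
  have hrest : ‖∑ x ∈ (Finset.univ : Finset (X × X)).erase (1, 1), T x‖ ≤
      ((((p - 1 : ℕ) : ℝ)) ^ 2 - 1) * Real.sqrt (Fintype.card F) := by
    calc ‖∑ x ∈ (Finset.univ : Finset (X × X)).erase (1, 1), T x‖
        ≤ ∑ x ∈ (Finset.univ : Finset (X × X)).erase (1, 1), ‖T x‖ := norm_sum_le _ _
      _ ≤ ∑ _x ∈ (Finset.univ : Finset (X × X)).erase (1, 1), Real.sqrt (Fintype.card F) := by
          refine Finset.sum_le_sum fun x hx => ?_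
          have hx1 : x ≠ (1, 1) := Finset.ne_of_mem_erase hx
          apply norm_twSum_le h2
          rintro ⟨ha, hb⟩
          apply hx1
          rw [liftChar_eq_one_iff] at ha hb
          exact Prod.ext ha hb
      _ = ((((p - 1 : ℕ) : ℝ)) ^ 2 - 1) * Real.sqrt (Fintype.card F) := by
          rw [Finset.sum_const, Finset.card_erase_of_mem (Finset.mem_univ _), Finset.card_univ,
            Fintype.card_prod, card_chars, nsmul_eq_mul]
          congr 1
          have hp1 : 1 ≤ (p - 1) * (p - 1) := by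
            have : 2 ≤ p := (Fact.out : p.Prime).two_le
            have : 1 ≤ p - 1 := by omega
            nlinarith
          rw [Nat.cast_sub hp1]
          push_cast
          ring
  have hdiff : (((p - 1 : ℕ) : ℂ) ^ 2 * ((solSet p F).card : ℂ)) - ((Fintype.card F : ℂ) - 2) =
      ∑ x ∈ (Finset.univ : Finset (X × X)).erase (1, 1), T x := by
    rw [hsum, hsplit, hT11]; ring
  have hcast : (((p - 1 : ℕ) : ℂ) ^ 2 * ((solSet p F).card : ℂ)) - ((Fintype.card F : ℂ) - 2) =
      ((((p - 1 : ℕ) : ℝ) ^ 2 * ((solSet p F).card : ℝ) - ((Fintype.card F : ℝ) - 2) : ℝ) : ℂ) := by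
    push_cast; ring
  rw [hcast] at hdiff
  rw [← hdiff, Complex.norm_real, Real.norm_eq_abs] at hrest
  exact hrest

theorem two_le_card_of_five_le {q : ℕ} (hq : 5 ≤ q) (hcard : Fintype.card F = p ^ q)
    (hp : p ≠ 2) : 2 ≤ (solSet p F).card := by
  classical
  have hpp : p.Prime := Fact.out
  have hp3 : 3 ≤ p := by
    have := hpp.two_le
    omega
  have h2 : (2 : F) ≠ 0 := by
    haveI : CharP F p := by
      have := Algebra.charP_iff (ZMod p) F p
      exact this.mp inferInstance
    intro h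
    have h' : ((2 : ℕ) : F) = 0 := by exact_mod_cast h
    rw [CharP.cast_eq_zero_iff F p] at h'
    have := (Nat.prime_dvd_prime_iff_eq hpp Nat.prime_two).mp h'
    exact hp this
  have hb := card_bound (p := p) (F := F) h2
  by_contra hlt
  have hE : ((solSet p F).card : ℝ) ≤ 1 := by
    have : (solSet p F).card ≤ 1 := by omega
    exact_mod_cast this
  set P : ℝ := ((p - 1 : ℕ) : ℝ) with hP
  have hP2 : 2 ≤ P := by
    rw [hP]
    have : 2 ≤ p - 1 := by omega
    exact_mod_cast this
  set s : ℝ := Real.sqrt (Fintype.card F) with hs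
  have hs0 : 0 ≤ s := Real.sqrt_nonneg _
  have hss : s * s = (Fintype.card F : ℝ) := Real.mul_self_sqrt (Nat.cast_nonneg _)
  have hcardR : (Fintype.card F : ℝ) = (P + 1) ^ q := by
    rw [hcard, hP]
    push_cast
    rw [Nat.cast_sub (by omega : 1 ≤ p)]
    push_cast
    ring
  have hpow : (P + 1) ^ 5 ≤ (P + 1) ^ q := pow_le_pow_right₀ (by linarith) hq
  have hsgt : (P + 1) ^ 2 < s := by
    by_contra hle
    push Not at hle
    have h1 : s * s ≤ (P + 1) ^ 2 * (P + 1) ^ 2 := mul_le_mul hle hle hs0 (by positivity)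
    have h2' : (P + 1) ^ 2 * (P + 1) ^ 2 < (P + 1) ^ 5 := by
      have : (0 : ℝ) < (P + 1) ^ 4 := by positivity
      nlinarith
    rw [hss, hcardR] at h1
    linarith
  have habs := (abs_le.mp hb).1
  have key : s * (s - P ^ 2 + 1) > (P + 1) ^ 2 * (2 * P + 2) := by
    have h3 : s - P ^ 2 + 1 > 2 * P + 2 := by nlinarith
    have h4 : (0 : ℝ) < 2 * P + 2 := by linarith
    have h5 : (0 : ℝ) < (P + 1) ^ 2 := by positivity
    nlinarith
  have hPE : P ^ 2 * ((solSet p F).card : ℝ) ≤ P ^ 2 := by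
    have : (0 : ℝ) ≤ P ^ 2 := by positivity
    nlinarith
  nlinarith

end general

section cubic

variable {p : ℕ} [Fact p.Prime] {F : Type*} [Field F] [Fintype F] [Algebra (ZMod p) F]

open Polynomial

theorem exists_c : ∃ c : ZMod p, ∀ x : ZMod p, x ^ 3 - x + c ≠ 0 := by
  by_contra h
  push Not at h
  have hsurj : Function.Surjective (fun x : ZMod p => x - x ^ 3) := by
    intro c
    obtain ⟨x, hx⟩ := h c
    exact ⟨x, by simp only; linear_combination -hx⟩
  have hinj := Finite.injective_iff_surjective.mpr hsurj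
  have : (0 : ZMod p) = 1 := hinj (by simp)
  exact zero_ne_one this

theorem charP_F : CharP F p := by
  have := Algebra.charP_iff (ZMod p) F p
  exact this.mp inferInstance

theorem algebraMap_pow_p (x : ZMod p) :
    (algebraMap (ZMod p) F x) ^ p = algebraMap (ZMod p) F x := by
  rw [← map_pow, ZMod.pow_card]

theorem mem_range_of_pow_eq {y : F} (hy : y ^ p = y) :
    ∃ x : ZMod p, algebraMap (ZMod p) F x = y := by
  classical
  by_contra hne
  push Not at hne
  have hpp : p.Prime := Fact.out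
  set g : F[X] := X ^ p - X with hg
  have hg0 : g ≠ 0 := FiniteField.X_pow_card_sub_X_ne_zero F hpp.one_lt
  have hdeg : g.natDegree = p := FiniteField.X_pow_card_sub_X_natDegree_eq F hpp.one_lt
  let S : Finset F := insert y (Finset.univ.image (algebraMap (ZMod p) F))
  have hS : S ⊆ g.roots.toFinset := by
    intro w hw
    rw [Multiset.mem_toFinset, mem_roots hg0]
    rcases Finset.mem_insert.mp hw with rfl | hw
    · simp [hg, IsRoot, hy]
    · obtain ⟨x, _, rfl⟩ := Finset.mem_image.mp hw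
      simp [hg, IsRoot, algebraMap_pow_p]
  have hcardS : S.card = p + 1 := by
    rw [Finset.card_insert_of_notMem, Finset.card_image_of_injective _
      (algebraMap (ZMod p) F).injective, Finset.card_univ, ZMod.card]
    intro hmem
    obtain ⟨x, _, hx⟩ := Finset.mem_image.mp hmem
    exact hne x hx
  have h1 := Finset.card_le_card hS
  have h2 : g.roots.toFinset.card ≤ p := by
    calc g.roots.toFinset.card ≤ Multiset.card g.roots := Multiset.toFinset_card_le _
      _ ≤ g.natDegree := card_roots' g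
      _ = p := hdeg
  omega

theorem cubic_factor {z z1 z2 C : F} (h0 : z ^ 3 - z + C = 0) (h1 : z1 ^ 3 - z1 + C = 0)
    (h2 : z2 ^ 3 - z2 + C = 0) (h01 : z ≠ z1) (h02 : z ≠ z2) (h12 : z1 ≠ z2) (x : F) :
    x ^ 3 - x + C = (x - z) * (x - z1) * (x - z2) := by
  have hA : z ^ 2 + z * z1 + z1 ^ 2 - 1 = 0 := by
    have : (z - z1) * (z ^ 2 + z * z1 + z1 ^ 2 - 1) = 0 := by linear_combination h0 - h1
    exact (mul_eq_zero.mp this).resolve_left (sub_ne_zero.mpr h01)
  have hB : z ^ 2 + z * z2 + z2 ^ 2 - 1 = 0 := by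
    have : (z - z2) * (z ^ 2 + z * z2 + z2 ^ 2 - 1) = 0 := by linear_combination h0 - h2
    exact (mul_eq_zero.mp this).resolve_left (sub_ne_zero.mpr h02)
  have he1 : z + z1 + z2 = 0 := by
    have : (z1 - z2) * (z + z1 + z2) = 0 := by linear_combination hA - hB
    exact (mul_eq_zero.mp this).resolve_left (sub_ne_zero.mpr h12)
  linear_combination (x - z) * hA + h0 + (x - z) * (x - z1) * he1

theorem two_le_card_of_three (hcard : Fintype.card F = p ^ 3) (hp : p ≠ 2) :
    2 ≤ (solSet p F).card := by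
  classical
  have hpp : p.Prime := Fact.out
  haveI : CharP F p := charP_F
  obtain ⟨c, hc⟩ := exists_c (p := p)
  have hc0 : c ≠ 0 := by
    have := hc 0
    simpa using this
  -- the cubic
  set f : (ZMod p)[X] := X ^ 3 - X + C c with hf
  have hdeg : f.natDegree = 3 := by
    rw [hf]; compute_degree!
  have hirr : Irreducible f := by
    apply irreducible_of_degree_le_three_of_not_isRoot
    · rw [hdeg]; simp
    · intro x hx
      apply hc x
      simpa [hf, IsRoot] using hx
  have hdvd : f ∣ X ^ (Nat.card (ZMod p)) ^ 3 - X :=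
    hirr.natDegree_dvd_iff_dvd_X_pow_card_pow_sub_X.mp (by rw [hdeg])
  rw [Nat.card_zmod] at hdvd
  have hsplit := FiniteField.splits_X_pow_card_sub_X (p := p) (K := F)
  rw [hcard] at hsplit
  have hne : map (algebraMap (ZMod p) F) (X ^ p ^ 3 - X) ≠ 0 := by
    have h1 : (1 : ℕ) < p ^ 3 := Nat.one_lt_pow (by norm_num) hpp.one_lt
    have := FiniteField.X_pow_card_sub_X_ne_zero F h1
    simpa using this
  have hfs : Splits (map (algebraMap (ZMod p) F) f) :=
    hsplit.of_dvd hne (Polynomial.map_dvd _ hdvd)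
  have hdegm : degree (map (algebraMap (ZMod p) F) f) ≠ 0 := by
    rw [degree_map, degree_eq_natDegree hirr.ne_zero, hdeg]
    norm_num
  obtain ⟨z, hz⟩ := hfs.exists_eval_eq_zero hdegm
  set Cc : F := algebraMap (ZMod p) F c with hCc
  have hz0 : z ^ 3 - z + Cc = 0 := by
    simpa [hf, eval_map] using hz
  -- z is not in the prime field
  have hzK : ∀ x : ZMod p, algebraMap (ZMod p) F x ≠ z := by
    rintro x rfl
    apply hc x
    apply (algebraMap (ZMod p) F).injective
    rw [map_zero, map_add, map_sub, map_pow]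
    exact hz0
  have hCp : Cc ^ p = Cc := algebraMap_pow_p c
  have frob_root : ∀ w : F, w ^ 3 - w + Cc = 0 → (w ^ p) ^ 3 - w ^ p + Cc = 0 := by
    intro w hw
    have : (w ^ 3 - w + Cc) ^ p = (0 : F) ^ p := by rw [hw]
    rw [add_pow_char, sub_pow_char, hCp, zero_pow hpp.ne_zero, ← pow_mul, mul_comm, pow_mul] at this
    exact this
  set z1 : F := z ^ p with hz1
  set z2 : F := z1 ^ p with hz2
  have hz1r : z1 ^ 3 - z1 + Cc = 0 := frob_root z hz0
  have hz2r : z2 ^ 3 - z2 + Cc = 0 := frob_root z1 hz1r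
  have hz3 : z2 ^ p = z := by
    rw [hz2, hz1, ← pow_mul, ← pow_mul]
    have : p * (p * p) = Fintype.card F := by rw [hcard]; ring
    rw [this, FiniteField.pow_card]
  have h01 : z ≠ z1 := by
    intro h
    obtain ⟨x, hx⟩ := mem_range_of_pow_eq (p := p) (y := z) (by rw [← hz1]; exact h.symm)
    exact hzK x hx
  have h12 : z1 ≠ z2 := by
    intro h
    obtain ⟨x, hx⟩ := mem_range_of_pow_eq (p := p) (y := z1) (by rw [← hz2]; exact h.symm)
    apply hzK x
    rw [← hz3, ← h, ← hx, algebraMap_pow_p]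
  have h02 : z ≠ z2 := by
    intro h
    apply h01
    rw [← hz3, ← h]
  -- the norm of z - x
  have hexp : (Nat.card F - 1) / (Nat.card (ZMod p) - 1) = p * p + p + 1 := by
    rw [Nat.card_eq_fintype_card, hcard, Nat.card_zmod]
    have h1 : 1 ≤ p := hpp.one_lt.le
    obtain ⟨k, rfl⟩ : ∃ k, p = k + 1 := ⟨p - 1, by omega⟩
    have : (k + 1) ^ 3 - 1 = ((k + 1) * (k + 1) + (k + 1) + 1) * (k + 1 - 1) := by
      simp only [Nat.add_sub_cancel]
      have : (k + 1) ^ 3 = ((k + 1) * (k + 1) + (k + 1) + 1) * k + 1 := by ring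
      omega
    rw [this]
    have hk : 0 < k + 1 - 1 := by
      simp only [Nat.add_sub_cancel]
      have := hpp.one_lt
      omega
    exact Nat.mul_div_cancel _ hk
  have hnorm : ∀ x : ZMod p, Algebra.norm (ZMod p) (z - algebraMap (ZMod p) F x) =
      -(x ^ 3 - x + c) := by
    intro x
    apply (algebraMap (ZMod p) F).injective
    rw [FiniteField.algebraMap_norm_eq_pow, hexp]
    set ax : F := algebraMap (ZMod p) F x with hax
    have e1 : (z - ax) ^ p = z1 - ax := by
      rw [sub_pow_char, algebraMap_pow_p]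
    have e2 : (z1 - ax) ^ p = z2 - ax := by
      rw [sub_pow_char, algebraMap_pow_p]
    have : (z - ax) ^ (p * p + p + 1) = (z2 - ax) * (z1 - ax) * (z - ax) := by
      rw [pow_succ, pow_add, pow_mul, e1, e2]
    rw [this]
    have hfac := cubic_factor hz0 hz1r hz2r h01 h02 h12 ax
    have hmap : algebraMap (ZMod p) F (-(x ^ 3 - x + c)) = -(ax ^ 3 - ax + Cc) := by
      simp [hax, hCc]
    rw [hmap]
    linear_combination hfac
  have hN0 : Algebra.norm (ZMod p) z = -c := by
    have := hnorm 0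
    simpa using this
  have hN1 : Algebra.norm (ZMod p) (z - 1) = -c := by
    have := hnorm 1
    simpa using this
  have hNm1 : Algebra.norm (ZMod p) (z + 1) = -c := by
    have := hnorm (-1)
    have h3 : Odd 3 := by decide
    simpa [h3.neg_pow] using this
  have hzne : z ≠ 0 := by
    intro h
    rw [h, Algebra.norm_zero] at hN0
    exact hc0 (neg_eq_zero.mp hN0.symm)
  have hnc : (-c : ZMod p) ≠ 0 := neg_ne_zero.mpr hc0
  set a : F := 1 + z⁻¹ with ha
  have ha1 : a ≠ 1 := by
    rw [ha]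
    intro h
    have : z⁻¹ = 0 := by linear_combination h
    exact inv_ne_zero hzne this
  have haS : a ∈ solSet p F := by
    unfold solSet
    rw [Finset.mem_filter]
    refine ⟨Finset.mem_univ _, ?_, ?_⟩
    · have : a = (z + 1) * z⁻¹ := by
        rw [ha]; field_simp
      rw [this, map_mul, Algebra.norm_inv, hNm1, hN0, mul_inv_cancel₀ hnc]
    · have : 2 - a = (z - 1) * z⁻¹ := by
        rw [ha]; field_simp; ring
      rw [this, map_mul, Algebra.norm_inv, hN1, hN0, mul_inv_cancel₀ hnc]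
  have h1S : (1 : F) ∈ solSet p F := by
    unfold solSet
    rw [Finset.mem_filter]
    refine ⟨Finset.mem_univ _, map_one _, ?_⟩
    have : (2 : F) - 1 = 1 := by norm_num
    rw [this, map_one]
  have hsub : ({1, a} : Finset F) ⊆ solSet p F := by
    intro w hw
    rcases Finset.mem_insert.mp hw with rfl | hw
    · exact h1S
    · rw [Finset.mem_singleton] at hw
      rw [hw]; exact haS
  calc 2 = ({1, a} : Finset F).card := (Finset.card_pair (Ne.symm ha1)).symm
    _ ≤ _ := Finset.card_le_card hsub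

end cubic

/-- Let p and q be odd primes with (p^q − 1)/(p − 1) coprime to p − 1. Then there are at least two elements a of the field with p ^ q elements such that both a and 2 − a have norm 1 to the prime field. -/
theorem result (p q : ℕ) [Fact p.Prime] [Fact q.Prime] (hp : p ≠ 2) (hq : q ≠ 2) (hA : Nat.Coprime ((p ^ q - 1) / (p - 1)) (p - 1)) :
    2 ≤ Set.ncard {a : GaloisField p q | Algebra.norm (ZMod p) a = 1 ∧ Algebra.norm (ZMod p) (2 - a) = 1} := by
  classical
  letI : Fintype (GaloisField p q) := Fintype.ofFinite _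
  have hqp : q.Prime := Fact.out
  have hcard : Fintype.card (GaloisField p q) = p ^ q := by
    rw [← Nat.card_eq_fintype_card, GaloisField.card p q hqp.ne_zero]
  have hset : {a : GaloisField p q | Algebra.norm (ZMod p) a = 1 ∧
      Algebra.norm (ZMod p) (2 - a) = 1} = ↑(solSet p (GaloisField p q)) := by
    ext a
    simp [solSet]
  rw [hset, Set.ncard_coe_finset]
  by_cases h3 : q = 3
  · subst h3
    exact two_le_card_of_three hcard hp
  · have h5 : 5 ≤ q := by
      have h2 := hqp.two_le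
      by_contra hlt
      push Not at hlt
      have h4 : q = 4 := by omega
      rw [h4] at hqp
      exact absurd hqp (by norm_num)
    exact two_le_card_of_five_le h5 hcard hp

end Cfsg.Agent.S1471
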