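import Cfsg.Statements.S1473
import Mathlib
import Cfsg.Agent.Lib_helper8_CN3

set_option autoImplicit false
open Cfsg

namespace Cfsg.Agent.S1473

open Cfsg.Agent.helper8.CN

universe u

theorem main : ∀ n : ℕ, ∀ {G : Type u} [Group G] [Finite G], Cfsg.IsCNGroup G →
    ∀ (H : Subgroup G) [H.Normal], Group.IsSolvable H → Nat.card H = n →
    Cfsg.IsCNGroup (G ⧸ H) := by
  intro n
  induction n using Nat.strong_induction_on with
  | _ n ih =>
    intro G _ _ hCN H _ hsolv hn
    by_cases hH1 : H = ⊥
    · subst hH1
      exact cn_of_equiv (QuotientGroup.quotientBot (G := G)).symm hCN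
    · obtain ⟨p, hp, D, hDn, hDH, hD1, hDab, hDp⟩ := exists_normal_abelian_pgroup H hsolv hH1
      have : Fact p.Prime := ⟨hp⟩
      have hCN' := cn_quotient_pgroup hCN D p hDp hDab hD1
      have hH'n : (H.map (QuotientGroup.mk' D)).Normal :=
        Subgroup.Normal.map inferInstance _ (QuotientGroup.mk'_surjective D)
      have hsolv' : Group.IsSolvable (H.map (QuotientGroup.mk' D)) :=
        solvable_of_surjective (f := (QuotientGroup.mk' D).subgroupMap H)
          ((QuotientGroup.mk' D).subgroupMap_surjective H)
      have hlt : Nat.card (H.map (QuotientGroup.mk' D)) < n := by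
        rw [← hn]
        have : Fintype ↥H := Fintype.ofFinite _
        have : Fintype ↥(H.map (QuotientGroup.mk' D)) := Fintype.ofFinite _
        rw [Nat.card_eq_fintype_card, Nat.card_eq_fintype_card]
        apply Fintype.card_lt_of_surjective_not_injective _
          ((QuotientGroup.mk' D).subgroupMap_surjective H)
        intro hinj
        obtain ⟨⟨d, hd⟩, hd1⟩ := (Subgroup.ne_bot_iff_exists_ne_one).mp hD1
        have h1 : (QuotientGroup.mk' D).subgroupMap H ⟨d, hDH hd⟩ =
            (QuotientGroup.mk' D).subgroupMap H 1 := by
          apply Subtype.ext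
          rw [map_one]
          exact (QuotientGroup.eq_one_iff d).mpr hd
        have h2 := hinj h1
        apply hd1
        apply Subtype.ext
        have h4 : d = 1 := congrArg Subtype.val h2
        exact h4
      have h3 := ih _ hlt hCN' (H.map (QuotientGroup.mk' D)) hsolv' rfl
      exact cn_of_equiv (QuotientGroup.quotientQuotientEquivQuotient D H hDH) h3


/-- Let G be a finite group in which the centralizer of every non-identity element is nilpotent, and H a solvable normal subgroup of G. Then in G/H the centralizer of every non-identity element is nilpotent. -/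
theorem result {G : Type*} [Group G] [Finite G] (hCN : Cfsg.IsCNGroup G) (H : Subgroup G) [H.Normal] (hH : Group.IsSolvable H) :
    Cfsg.IsCNGroup (G ⧸ H) := by
  exact main _ hCN H hH rfl

end Cfsg.Agent.S1473
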