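import Cfsg.Statements.S1475
import Mathlib
import Cfsg.Agent.Lib_helper8_EPPO

set_option autoImplicit false
open Cfsg

namespace Cfsg.Agent.S1475

open Cfsg.Agent.helper8.CN

universe u

theorem not_isPrimePow_of_two_primes {n p q : ℕ} (hp : p.Prime) (hq : q.Prime) (hpq : p ≠ q)
    (hpn : p ∣ n) (hqn : q ∣ n) : ¬ IsPrimePow n := by
  intro h
  obtain ⟨t, k, ht, _, rfl⟩ := (isPrimePow_nat_iff _).mp h
  have h1 := (Nat.prime_dvd_prime_iff_eq hp ht).mp (hp.dvd_of_dvd_pow hpn)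
  have h2 := (Nat.prime_dvd_prime_iff_eq hq ht).mp (hq.dvd_of_dvd_pow hqn)
  exact hpq (h1.trans h2.symm)

theorem fpf {G : Type u} [Group G] [Finite G]
    (h : ∀ g : G, IsPrimePow (orderOf g) ∨ g = 1) (p : ℕ) (hp : p.Prime)
    (V : Subgroup G) (hVexp : ∀ g ∈ V, g ^ p = 1) (K : Subgroup G) (hK : ¬ p ∣ Nat.card K) :
    ∀ a ∈ K, a ≠ 1 → V ⊓ Subgroup.centralizer {a} = ⊥ := by
  intro a haK ha1
  have : Fact p.Prime := ⟨hp⟩
  rw [eq_bot_iff]
  intro v hv
  rw [Subgroup.mem_bot]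
  by_contra hv1
  have hvV := (Subgroup.mem_inf.mp hv).1
  have hvc : a * v = v * a := by
    have := (Subgroup.mem_inf.mp hv).2
    rw [Subgroup.mem_centralizer_iff] at this
    exact this a rfl
  have hov : orderOf v = p := orderOf_eq_prime (hVexp v hvV) hv1
  have hoa : ¬ p ∣ orderOf a := fun hd => hK (dvd_trans hd (Subgroup.orderOf_dvd_natCard K haK))
  have hcop : (orderOf a).Coprime (orderOf v) := by
    rw [hov]
    exact ((Nat.Prime.coprime_iff_not_dvd hp).mpr hoa).symm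
  have hmul := Commute.orderOf_mul_eq_mul_orderOf_of_coprime hvc hcop
  have hoa1 : orderOf a ≠ 1 := fun h => ha1 (orderOf_eq_one_iff.mp h)
  rcases h (a * v) with hpp | h1
  · obtain ⟨q, hq, hqa⟩ := Nat.exists_prime_and_dvd hoa1
    have hqp : q ≠ p := fun h => hoa (h ▸ hqa)
    rw [hmul, hov] at hpp
    exact not_isPrimePow_of_two_primes hq hp hqp (dvd_mul_of_dvd_left hqa _) (dvd_mul_left _ _) hpp
  · rw [h1, orderOf_one, hov] at hmul
    have := Nat.eq_one_of_mul_eq_one_left hmul.symm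
    exact hp.one_lt.ne' this


/-- Let G be a finite solvable group such that the order of every element is a prime power (1 included). Then at most two distinct primes divide the order of G. -/
theorem result {G : Type*} [Group G] [Finite G] [Group.IsSolvable G] (h : ∀ g : G, IsPrimePow (orderOf g) ∨ g = 1) :
    (Nat.card G).primeFactors.card ≤ 2 := by
  by_contra hcon
  push Not at hcon
  have hGnt : Nontrivial G := by
    by_contra hn
    rw [not_nontrivial_iff_subsingleton] at hn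
    have : Nat.card G = 1 := Nat.card_unique
    rw [this] at hcon
    simp at hcon
  have htopne : (⊤ : Subgroup G) ≠ ⊥ := top_ne_bot
  obtain ⟨p, hp, V, hVn, -, hV1, hVab, hVexp⟩ :=
    exists_normal_abelian_exp (⊤ : Subgroup G) inferInstance htopne
  have : Fact p.Prime := ⟨hp⟩
  have hpG : p ∣ Nat.card G := by
    obtain ⟨⟨v, hv⟩, hv1⟩ := (Subgroup.ne_bot_iff_exists_ne_one).mp hV1
    have hv1' : v ≠ 1 := fun h => hv1 (Subtype.ext h)
    have := orderOf_eq_prime (hVexp v hv) hv1'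
    rw [← this]
    exact orderOf_dvd_natCard v
  have hmem : p ∈ (Nat.card G).primeFactors :=
    Nat.mem_primeFactors.mpr ⟨hp, hpG, Nat.card_pos.ne'⟩
  have h1lt : 1 < ((Nat.card G).primeFactors.erase p).card := by
    rw [Finset.card_erase_of_mem hmem]
    omega
  obtain ⟨r, hr, s, hs, hrs⟩ := Finset.one_lt_card.mp h1lt
  rw [Finset.mem_erase, Nat.mem_primeFactors] at hr hs
  obtain ⟨a, m, hpm, hGm⟩ := Nat.exists_eq_pow_mul_and_not_dvd (Nat.card_pos (α := G)).ne' p
    hp.ne_one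
  have hcopm : m.Coprime (p ^ a) :=
    Nat.Coprime.pow_right a ((Nat.Prime.coprime_iff_not_dvd hp).mpr hpm).symm
  obtain ⟨K, hK⟩ := Cfsg.Agent.helper23.hall_exists m (p ^ a) (by rw [hGm, mul_comm]) hcopm
  have hdvdK : ∀ q : ℕ, q.Prime → q ≠ p → q ∣ Nat.card G → q ∣ Nat.card K := by
    intro q hq hqp hqG
    rw [hK]
    rw [hGm] at hqG
    have hc : q.Coprime (p ^ a) := Nat.Coprime.pow_right a ((Nat.coprime_primes hq hp).mpr hqp)
    exact hc.dvd_of_dvd_mul_left hqG
  have hrK := hdvdK r hr.2.1 hr.1 hr.2.2.1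
  have hsK := hdvdK s hs.2.1 hs.1 hs.2.2.1
  have hfpf := fpf h p hp V hVexp K (hK ▸ hpm)
  have hKne : (⊤ : Subgroup ↥K) ≠ ⊥ := by
    intro h0
    have h2 : Nat.card ↥K = 1 := by
      rw [← Subgroup.card_top (G := ↥K), h0, Subgroup.card_bot]
    rw [h2] at hrK
    exact hr.2.1.one_lt.ne' (Nat.dvd_one.mp hrK)
  obtain ⟨t, ht, W, hWn, -, hW1, hWab, hWexp⟩ :=
    exists_normal_abelian_exp (G := ↥K) (⊤ : Subgroup ↥K) inferInstance hKne
  have : Fact t.Prime := ⟨ht⟩
  obtain ⟨W', hW'⟩ : ∃ W' : Subgroup G, W' = W.map K.subtype := ⟨_, rfl⟩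
  have hW'K : W' ≤ K := by
    rw [hW']
    exact Subgroup.map_subtype_le W
  have hW'1 : W' ≠ ⊥ := by
    rw [hW']
    intro h0
    apply hW1
    rw [Subgroup.map_eq_bot_iff_of_injective _ K.subtype_injective] at h0
    exact h0
  have hW'ab : ∀ a ∈ W', ∀ b ∈ W', a * b = b * a := by
    intro a ha b hb
    rw [hW'] at ha hb
    obtain ⟨a', ha', rfl⟩ := ha
    obtain ⟨b', hb', rfl⟩ := hb
    have := hWab a' ha' b' hb'
    have h2 := congrArg K.subtype this
    simpa using h2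
  have hW'exp : ∀ g ∈ W', g ^ t = 1 := by
    intro g hg
    rw [hW'] at hg
    obtain ⟨g', hg', rfl⟩ := hg
    have := hWexp g' hg'
    have h2 := congrArg K.subtype this
    simpa using h2
  haveI : IsMulCommutative ↥V := ⟨⟨fun a b => Subtype.ext (hVab a.1 a.2 b.1 b.2)⟩⟩
  haveI : IsMulCommutative ↥W' := ⟨⟨fun a b => Subtype.ext (hW'ab a.1 a.2 b.1 b.2)⟩⟩
  have hVnorm : ∀ A : Subgroup G, A ≤ Subgroup.normalizer (V : Set G) := by
    intro A
    rw [Subgroup.normalizer_eq_top]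
    exact le_top
  have hcycW := Cfsg.Agent.S0041.result W' V hV1 (hVnorm W')
    (fun a ha => hfpf a (hW'K ha)) (Or.inl inferInstance)
  obtain ⟨g, hg⟩ := hcycW.exists_generator
  have hcardW : Nat.card W' = t := by
    rw [← orderOf_eq_card_of_forall_mem_zpowers hg]
    apply orderOf_eq_prime
    · apply Subtype.ext
      have := hW'exp g.1 g.2
      simpa using this
    · intro h0
      apply hW'1
      rw [eq_bot_iff]
      intro x hx
      have := hg ⟨x, hx⟩
      rw [h0, Subgroup.zpowers_one_eq_bot, Subgroup.mem_bot] at this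
      rw [Subgroup.mem_bot]
      exact congrArg Subtype.val this
  obtain ⟨u, hu, huK, hut⟩ : ∃ u : ℕ, u.Prime ∧ u ∣ Nat.card K ∧ u ≠ t := by
    by_cases hrt : r = t
    · exact ⟨s, hs.2.1, hsK, fun h0 => hrs (hrt.trans h0.symm)⟩
    · exact ⟨r, hr.2.1, hrK, hrt⟩
  have : Fact u.Prime := ⟨hu⟩
  obtain ⟨y, hy⟩ := exists_prime_orderOf_dvd_card' (G := ↥K) u huK
  obtain ⟨Y, hY⟩ : ∃ Y : Subgroup G, Y = Subgroup.zpowers (y : G) := ⟨_, rfl⟩
  have hYcard : Nat.card Y = u := by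
    rw [hY, Nat.card_zpowers, Subgroup.orderOf_coe, hy]
  have hYK : Y ≤ K := by
    rw [hY, Subgroup.zpowers_le]
    exact y.2
  have hYN : Y ≤ Subgroup.normalizer (W' : Set G) := by
    rw [Subgroup.le_normalizer_iff]
    intro x hx k hk
    rw [hW'] at hk ⊢
    obtain ⟨k', hk', rfl⟩ := hk
    have := hWn.conj_mem k' hk' ⟨x, hYK hx⟩
    exact ⟨_, this, rfl⟩
  have hinf : Y ⊓ W' = ⊥ := Subgroup.inf_eq_bot_of_coprime (by
    rw [hYcard, hcardW]
    exact (Nat.coprime_primes hu ht).mpr hut)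
  have hcardA : Nat.card ↥(Y ⊔ W') = u * t := by
    have := Cfsg.Agent.helper15.card_sup_mul_card_inf_of_le_normalizer Y W' hYN
    rw [hinf, Subgroup.card_bot, mul_one, hYcard, hcardW] at this
    exact this
  have hAK : Y ⊔ W' ≤ K := sup_le hYK hW'K
  have hcycA := Cfsg.Agent.S0041.result (Y ⊔ W') V hV1 (hVnorm _)
    (fun a ha => hfpf a (hAK ha)) (Or.inr ⟨u, t, hu, ht, hcardA⟩)
  obtain ⟨g2, hg2⟩ := hcycA.exists_generator
  have hog2 : orderOf g2 = u * t := (orderOf_eq_card_of_forall_mem_zpowers hg2).trans hcardA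
  rcases h (g2 : G) with hpp | h1
  · rw [Subgroup.orderOf_coe, hog2] at hpp
    exact not_isPrimePow_of_two_primes hu ht hut (dvd_mul_right _ _) (dvd_mul_left _ _) hpp
  · have h2 : g2 = 1 := Subtype.ext h1
    rw [h2, orderOf_one] at hog2
    have := Nat.eq_one_of_mul_eq_one_left hog2.symm
    exact ht.one_lt.ne' this

end Cfsg.Agent.S1475
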