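import Cfsg.Statements.S1480
import Cfsg.Agent.Lib_helper15_TT2
import Cfsg.Agent.Lib_helper15_TT3
import Cfsg.Agent.Lib_helper15_TT4
import Cfsg.Agent.Lib_helper15_KL
import Cfsg.Agent.Lib_helper15_KL2

set_option autoImplicit false
open Cfsg

namespace Cfsg.Agent.S1480

/-- Let G be a finite group and p a prime such that the normalizer of every nontrivial p-subgroup of G is p-constrained; if p = 2 assume also that the Sylow 2-subgroups of G have nilpotency class at most 2. Let E be an abelian p-subgroup containing an elementary abelian subgroup of order p ^ 3 and containing every element of p-power order of C_G(E). Then for every prime q ≠ p, any two maximal E-invariant q-subgroups of G are conjugate by an element of O_{p'}(C_G(E)). -/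
theorem result {G : Type*} [Group G] [Finite G] (p : ℕ) [Fact p.Prime]
    (hloc : ∀ T : Subgroup G, IsPGroup p T → T ≠ ⊥ → Cfsg.IsPConstrained p ↥(Subgroup.normalizer (T : Set G)))
    (h2 : p = 2 → ∀ S : Sylow p G, Group.IsNilpotent (S : Subgroup G) ∧ Group.nilpotencyClass (S : Subgroup G) ≤ 2)
    (E : Subgroup G) (hEp : IsPGroup p E) (hEc : IsMulCommutative E) (hE3 : ¬ Cfsg.PRankLE p 2 E)
    (hEfull : ∀ x ∈ Subgroup.centralizer (E : Set G), IsPGroup p (Subgroup.zpowers x) → x ∈ E)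
    (q : ℕ) [Fact q.Prime] (hqp : q ≠ p) :
    ∀ Q₁ ∈ Cfsg.maxInvSubgroups ⊤ E {q}, ∀ Q₂ ∈ Cfsg.maxInvSubgroups ⊤ E {q},
        ∃ k ∈ Cfsg.piCoreOf (Cfsg.primesNotDvd p) (Subgroup.centralizer (E : Set G)), Q₂ = Q₁.map (MulAut.conj k).toMonoidHom := by
  classical
  have hpp : p.Prime := Fact.out
  -- an elementary abelian subgroup of order `> p ^ 2`
  obtain ⟨E₁, hE₁E, hE₁ea, hE₁c⟩ : ∃ E₁ : Subgroup G, E₁ ≤ E ∧ Cfsg.IsElementaryAbelian p E₁ ∧
      p ^ 2 < Nat.card E₁ := by
    unfold Cfsg.PRankLE at hE3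
    push Not at hE3
    obtain ⟨A, hAc, hAe, hlt⟩ := hE3
    refine ⟨A.map E.subtype, Subgroup.map_subtype_le _, ?_, ?_⟩
    · exact Cfsg.Agent.helper3.ea_map (p := p) ⟨hAc, hAe⟩ E.subtype
    · rw [Subgroup.card_map_of_injective E.subtype_injective]; exact hlt
  have hEcomm : ∀ x ∈ E, ∀ y ∈ E, x * y = y * x := by
    intro x hx y hy
    have h0 := hEc.is_comm.comm ⟨x, hx⟩ ⟨y, hy⟩
    exact congrArg Subtype.val h0
  have hKL : ∀ a ∈ E, a ≠ 1 → ∃ L : Subgroup G, (Nat.card L).Coprime p ∧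
      E ≤ Subgroup.normalizer (L : Set G) ∧
      ∀ T : Subgroup G, IsPGroup q T → E ≤ Subgroup.normalizer (T : Set G) →
        T ≤ Subgroup.centralizer ({a} : Set G) → T ≤ L := by
    intro a haE ha1
    apply Cfsg.Agent.helper15.TT.hKL_of_local hqp E hEc a haE
    have hZle : Subgroup.zpowers a ≤ E := by rw [Subgroup.zpowers_le]; exact haE
    have hZp : IsPGroup p (Subgroup.zpowers a) := hEp.to_le hZle
    have hZ1 : Subgroup.zpowers a ≠ ⊥ := by
      intro h
      exact ha1 (Subgroup.zpowers_eq_bot.1 h)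
    have hcon := hloc (Subgroup.zpowers a) hZp hZ1
    have hEN : E ≤ Subgroup.normalizer ((Subgroup.zpowers a : Subgroup G) : Set G) := by
      intro x hx
      have hxc : x ∈ Subgroup.centralizer ((Subgroup.zpowers a : Subgroup G) : Set G) := by
        rw [Subgroup.mem_centralizer_iff]
        intro y hy
        exact hEcomm y (hZle hy) x hx
      exact Subgroup.centralizer_le_normalizer _ hxc
    intro R hR hER
    by_cases hp2 : p = 2
    · apply Cfsg.Agent.helper15.Baer.kl_quad hcon _ R hEp.comap_subtype ?_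
        (Cfsg.Agent.helper15.TT.full_subgroupOf E _ hEN hEfull)
        (Cfsg.Agent.helper15.TT.class_two_elts_sub (h2 hp2) _) hR hER
      intro x hx y hy
      have hx' : (x : G) ∈ E := hx
      have hy' : (y : G) ∈ E := hy
      apply Subtype.ext
      simpa using hEcomm _ hx' _ hy'
    · exact Cfsg.Agent.helper15.Baer.kl_odd hp2 hcon _ R hEp.comap_subtype
        (Cfsg.Agent.helper15.TT.full_subgroupOf E _ hEN hEfull) hR hER
  intro Q₁ hQ₁ Q₂ hQ₂
  obtain ⟨k, hk, hkQ⟩ := Cfsg.Agent.helper15.TT.tt_main hqp E E₁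
    (Cfsg.piCoreOf (Cfsg.primesNotDvd p) (Subgroup.centralizer (E : Set G)))
    hEp hEc hE₁E hE₁ea hE₁c (Cfsg.Agent.helper23.piCoreOf_le _ _)
    (fun c hc hco => Cfsg.Agent.helper15.TT.pprime_mem_core E hEp hEc hEfull c hc hco)
    hKL _ Q₁ Q₂ hQ₁ hQ₂ rfl
  exact ⟨k, hk, hkQ⟩

end Cfsg.Agent.S1480
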