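import Cfsg.Statements.S1482
import Cfsg.Agent.Lib_helper15_BL6
import Cfsg.Agent.S1312
-- import your own Cfsg.Agent.* helpers here

set_option autoImplicit false
open Cfsg

namespace Cfsg.Agent.S1482

/-- Let G be a minimal simple group of odd order, H a maximal subgroup whose Fitting subgroup F has at least two prime divisors, and M a subgroup of F containing the centre of F such that the only M-invariant subgroup of G of order coprime to #F is the trivial one. Then H is the only maximal subgroup of G containing M. -/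
theorem result {G : Type*} [Group G] [Finite G] (hG : Cfsg.IsMinSimpleOddOrder G) (H : Subgroup G) (hH : IsCoatom H) (hF2 : 2 ≤ (Nat.card (Cfsg.fittingOf H)).primeFactors.card)
    (M : Subgroup G) (hM : M ≤ Cfsg.fittingOf H) (hZM : Cfsg.fittingOf H ⊓ Subgroup.centralizer (Cfsg.fittingOf H : Set G) ≤ M)
    (hinv : ∀ Y ∈ Cfsg.invSubgroups ⊤ M (Cfsg.primesNotDvd (Nat.card (Cfsg.fittingOf H))), Y = ⊥) :
    ∀ L : Subgroup G, IsCoatom L → M ≤ L → L = H := by
  intro L hL hML
  by_contra hne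
  have hfit : Cfsg.fittingOf H = Cfsg.Agent.helper7.fitOf H :=
    Cfsg.Agent.helper7.map_fittingSubgroup_eq H
  rw [hfit] at hF2 hM hZM hinv
  haveI : IsSimpleGroup G := hG.2.1
  have hna : ¬ IsMulCommutative G := hG.2.2.1
  have hHs : Group.IsSolvable ↥H := hG.2.2.2 H hH.1
  have hLs : Group.IsSolvable ↥L := hG.2.2.2 L hL.1
  have hq : ∀ q : ℕ, q.Prime → ¬ q ∣ Nat.card (Cfsg.Agent.helper7.fitOf H) →
      Cfsg.Agent.helper7.piCoreIn {q} L = ⊥ := by
    intro q hq0 hqF
    apply hinv
    refine ⟨le_top, ?_, hML.trans (Cfsg.Agent.helper7.piCoreIn_normal _ L)⟩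
    intro t ht htd
    have := Cfsg.Agent.helper7.piGrp_iff_card.1 (Cfsg.Agent.helper7.piCoreIn_piGrp {q} L) t ht htd
    rw [Set.mem_singleton_iff] at this
    rw [this]; exact ⟨hq0, hqF⟩
  obtain ⟨h1, h2⟩ := Cfsg.Agent.helper15.BL.fitting_mutual H L hH hL hHs hLs hF2
    (hZM.trans hML) hq
  have hb := Cfsg.Agent.S1312.result hna H L hH hL (Ne.symm hne) (by
      rw [Cfsg.Agent.helper7.map_generalizedFittingSubgroup_eq]
      unfold Cfsg.Agent.helper7.fstarOf
      rw [Cfsg.Agent.helper15.BL.layerOf_eq_bot_of_solvable H hHs, bot_sup_eq]; exact h2) (by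
      rw [Cfsg.Agent.helper7.map_generalizedFittingSubgroup_eq]
      unfold Cfsg.Agent.helper7.fstarOf
      rw [Cfsg.Agent.helper15.BL.layerOf_eq_bot_of_solvable L hLs, bot_sup_eq]; exact h1)
  obtain ⟨p, hp, hpH, -⟩ := hb
  haveI : Fact p.Prime := ⟨hp⟩
  rw [← Cfsg.Agent.helper7.isPGroup_map_subtype_iff,
    Cfsg.Agent.helper7.map_generalizedFittingSubgroup_eq] at hpH
  have hpF : IsPGroup p (Cfsg.Agent.helper7.fitOf H) := hpH.to_le le_sup_right
  obtain ⟨k, hk⟩ := hpF.exists_card_eq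
  rw [hk] at hF2
  have h3 : (p ^ k).primeFactors.card ≤ 1 := by
    rcases Nat.eq_zero_or_pos k with hk0 | hk0
    · rw [hk0, pow_zero]; simp
    · rw [Nat.primeFactors_prime_pow hk0.ne' hp]; simp
  omega

end Cfsg.Agent.S1482
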