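import Cfsg.Statements.S1485
import Mathlib
import Cfsg.Agent.Lib_helper8_Ind
-- import your own Cfsg.Agent.* helpers here

set_option autoImplicit false
open Cfsg

namespace Cfsg.Agent.S1485


open scoped ComplexConjugate
open Cfsg.Agent.helper24 Cfsg.Agent.helper5 Cfsg.Agent.helper8

theorem conjFunN_mul {G : Type*} [Group G] (H : Subgroup G) [hN : H.Normal] (x y : G)
    (θ : H → ℂ) : conjFunN H (x * y) θ = conjFunN H y (conjFunN H x θ) := by
  funext h
  simp only [conjFunN_apply]
  congr 1
  apply Subtype.ext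
  show x * y * (h : G) * (x * y)⁻¹ = x * (y * (h : G) * y⁻¹) * x⁻¹
  group

theorem conjFunN_one {G : Type*} [Group G] (H : Subgroup G) [hN : H.Normal]
    (θ : H → ℂ) : conjFunN H 1 θ = θ := by
  funext h
  simp only [conjFunN_apply]
  congr 1
  apply Subtype.ext
  show (1 : G) * (h : G) * (1 : G)⁻¹ = h
  group

/-- Let H be a normal subgroup of the finite group G and θ an irreducible character of H. On H, the function induced from θ equals r times the sum of the distinct G-conjugates of θ, where r is the number of elements of G fixing θ under conjugation divided by the order of H (the index of H in the inertia group). -/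
theorem result {G : Type*} [Group G] [Fintype G] (H : Subgroup G) [hN : H.Normal] (θ : H → ℂ) (hθ : Cfsg.IsIrrCharacter H θ) : (fun h : H => Cfsg.indFun H θ h) = ((Nat.card {g : G // ∀ h : H, θ ⟨g * h * g⁻¹, hN.conj_mem h h.2 g⟩ = θ h} : ℂ) / (Nat.card H : ℂ)) • ∑ᶠ ψ ∈ {ψ : H → ℂ | ∃ g : G, ψ = fun h : H => θ ⟨g * h * g⁻¹, hN.conj_mem h h.2 g⟩}, ψ := by
  classical
  have hS : {ψ : H → ℂ | ∃ g : G, ψ = fun h : H => θ ⟨g * h * g⁻¹, hN.conj_mem h h.2 g⟩}
      = ↑(Finset.univ.image (fun g : G => conjFunN H g θ)) := by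
    ext ψ
    rw [Set.mem_setOf_eq, Finset.mem_coe, Finset.mem_image]
    constructor
    · rintro ⟨g, rfl⟩; exact ⟨g, Finset.mem_univ _, rfl⟩
    · rintro ⟨g, -, rfl⟩; exact ⟨g, rfl⟩
  rw [hS, finsum_mem_coe_finset]
  have hT : Nat.card {g : G // ∀ h : H, θ ⟨g * h * g⁻¹, hN.conj_mem h h.2 g⟩ = θ h}
      = Nat.card {g : G // conjFunN H g θ = θ} := by
    apply Nat.card_congr
    apply Equiv.subtypeEquivRight
    intro g
    constructor
    · intro h; funext k; exact h k
    · intro h k; exact congrFun h k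
  rw [hT, indFun_restrict_normal]
  have hreindex : ∑ x : G, conjFunN H x⁻¹ θ = ∑ x : G, conjFunN H x θ :=
    Fintype.sum_equiv (Equiv.inv G) _ _ (fun x => rfl)
  rw [hreindex]
  have hcomp := Finset.sum_comp (s := (Finset.univ : Finset G)) (fun ψ : H → ℂ => ψ)
    (fun g : G => conjFunN H g θ)
  rw [hcomp]
  have hfib : ∀ ψ ∈ Finset.univ.image (fun g : G => conjFunN H g θ),
      (Finset.univ.filter (fun a : G => conjFunN H a θ = ψ)).card • ψ
        = (Nat.card {g : G // conjFunN H g θ = θ} : ℂ) • ψ := by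
    intro ψ hψ
    obtain ⟨x₀, -, rfl⟩ := Finset.mem_image.mp hψ
    have hc : (Finset.univ.filter (fun a : G => conjFunN H a θ = conjFunN H x₀ θ)).card
        = Nat.card {g : G // conjFunN H g θ = θ} := by
      rw [← Fintype.card_subtype, ← Nat.card_eq_fintype_card]
      apply Nat.card_congr
      exact
        { toFun := fun x => ⟨x.1 * x₀⁻¹, by
            rw [conjFunN_mul, x.2, ← conjFunN_mul, mul_inv_cancel, conjFunN_one]⟩
          invFun := fun t => ⟨t.1 * x₀, by rw [conjFunN_mul, t.2]⟩
          left_inv := fun x => Subtype.ext (by simp)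
          right_inv := fun t => Subtype.ext (by simp) }
    rw [hc, Nat.cast_smul_eq_nsmul ℂ]
  rw [Finset.sum_congr rfl hfib, ← Finset.smul_sum, smul_smul]
  congr 1
  rw [div_eq_mul_inv, mul_comm]

end Cfsg.Agent.S1485
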