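import Cfsg.Statements.S1486
import Mathlib
import Cfsg.Agent.Lib_helper8_Ind
-- import your own Cfsg.Agent.* helpers here

set_option autoImplicit false
open Cfsg

namespace Cfsg.Agent.S1486


open scoped ComplexConjugate
open Cfsg.Agent.helper24 Cfsg.Agent.helper5 Cfsg.Agent.helper8

/-- Let H be a normal subgroup of the finite group G and θ, φ irreducible characters of H. If φ is a G-conjugate of θ then the functions induced from θ and φ coincide; if φ is not a G-conjugate of θ then the induced functions are orthogonal. -/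
theorem result {G : Type*} [Group G] [Fintype G] (H : Subgroup G) [hN : H.Normal] (θ φ : H → ℂ) (hθ : Cfsg.IsIrrCharacter H θ) (hφ : Cfsg.IsIrrCharacter H φ) : ((∃ g : G, φ = fun h : H => θ ⟨g * h * g⁻¹, hN.conj_mem h h.2 g⟩) → Cfsg.indFun H φ = Cfsg.indFun H θ) ∧ ((¬ ∃ g : G, φ = fun h : H => θ ⟨g * h * g⁻¹, hN.conj_mem h h.2 g⟩) → Cfsg.classInner (Cfsg.indFun H φ) (Cfsg.indFun H θ) = 0) := by
  classical
  haveI : Fintype H := Fintype.ofFinite H
  refine ⟨?_, ?_⟩
  · rintro ⟨g, rfl⟩
    funext y
    show (Nat.card H : ℂ)⁻¹ * ∑ x : G, extendByZero H (conjFunN H g θ) (x⁻¹ * y * x)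
      = (Nat.card H : ℂ)⁻¹ * ∑ x : G, extendByZero H θ (x⁻¹ * y * x)
    congr 1
    apply Fintype.sum_equiv (Equiv.mulRight g⁻¹)
    intro x
    rw [← extendByZero_conj]
    congr 1
    simp only [Equiv.coe_mulRight]
    group
  · intro hne
    rw [frobenius H φ (indFun H θ) (indFun_isClassFunction H θ), indFun_restrict_normal,
      classInner_smul_right, classInner_sum_right, Finset.sum_eq_zero, mul_zero]
    intro x _
    apply irr_classInner_ne hφ (isIrrCharacter_conjFunN H x⁻¹ hθ)
    intro h
    exact hne ⟨x⁻¹, h⟩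

end Cfsg.Agent.S1486
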