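import Cfsg.Statements.S1487
import Mathlib
import Cfsg.Agent.Lib_helper8_Ind
import Cfsg.Agent.Lib_helper24_CharValues
-- import your own Cfsg.Agent.* helpers here

set_option autoImplicit false
open Cfsg

namespace Cfsg.Agent.S1487


open scoped ComplexConjugate
open Cfsg.Agent.helper24 Cfsg.Agent.helper5 Cfsg.Agent.helper8

theorem eq_of_sum_eq_of_norm_le {ι : Type*} [Fintype ι] (z : ι → ℂ) (c : ℝ)
    (hle : ∀ i, ‖z i‖ ≤ c) (hsum : ∑ i, z i = (Fintype.card ι : ℂ) * (c : ℂ)) :
    ∀ i, z i = (c : ℂ) := by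
  have hre : ∀ i, (z i).re ≤ c := fun i => (Complex.re_le_norm (z i)).trans (hle i)
  have hsumre : ∑ i, (c - (z i).re) = 0 := by
    rw [Finset.sum_sub_distrib, Finset.sum_const, Finset.card_univ, nsmul_eq_mul]
    have h := congrArg Complex.re hsum
    rw [Complex.re_sum] at h
    rw [h]
    simp
  have hzero : ∀ i, c - (z i).re = 0 := by
    intro i
    exact (Finset.sum_eq_zero_iff_of_nonneg (fun i _ => sub_nonneg.mpr (hre i))).mp hsumre i
      (Finset.mem_univ i)
  intro i
  have hr : (z i).re = c := by linarith [hzero i]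
  have him : (z i).im = 0 := by
    have h1 := hle i
    have h2 : ‖z i‖ ^ 2 ≤ c ^ 2 := pow_le_pow_left₀ (norm_nonneg _) h1 2
    rw [Complex.sq_norm, Complex.normSq_apply, hr] at h2
    have h3 : (z i).im * (z i).im = 0 := by nlinarith [mul_self_nonneg (z i).im]
    exact mul_self_eq_zero.mp h3
  apply Complex.ext
  · simp [hr]
  · simp [him]

/-- Let A ≤ H be normal subgroups of the finite group G and θ an irreducible character of H. Then θ takes the value θ 1 on all of A if and only if the function induced from θ to G takes its value at 1 on all of A. -/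
theorem result {G : Type*} [Group G] [Fintype G] (A H : Subgroup G) [A.Normal] [H.Normal] (hAH : A ≤ H) (θ : H → ℂ) (hθ : Cfsg.IsIrrCharacter H θ) : (∀ a : H, (a : G) ∈ A → θ a = θ 1) ↔ (∀ a : G, a ∈ A → Cfsg.indFun H θ a = Cfsg.indFun H θ 1) := by
  classical
  have h1val : ∀ x : G, conjFunN H x⁻¹ θ 1 = θ 1 := by
    intro x
    rw [conjFunN_apply]
    congr 1
    apply Subtype.ext
    simp
  have hind1 : indFun H θ 1 = (Nat.card H : ℂ)⁻¹ * ∑ _x : G, θ 1 := by
    have h := indFun_coe_normal H θ (1 : H)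
    rw [OneMemClass.coe_one] at h
    rw [h]
    congr 1
    exact Finset.sum_congr rfl (fun x _ => h1val x)
  constructor
  · intro hA a ha
    rw [hind1]
    have e : indFun H θ a = (Nat.card H : ℂ)⁻¹ * ∑ x : G, conjFunN H x⁻¹ θ ⟨a, hAH ha⟩ :=
      indFun_coe_normal H θ ⟨a, hAH ha⟩
    rw [e]
    congr 1
    apply Finset.sum_congr rfl
    intro x _
    rw [conjFunN_apply]
    apply hA
    exact (inferInstance : A.Normal).conj_mem a ha x⁻¹
  · intro hI a ha
    have e := indFun_coe_normal H θ a
    have e2 := hI (a : G) ha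
    rw [e, hind1] at e2
    have hH : (Nat.card H : ℂ)⁻¹ ≠ 0 := by
      apply inv_ne_zero
      exact_mod_cast (Nat.card_pos (α := H)).ne'
    have e3 := mul_left_cancel₀ hH e2
    obtain ⟨n, hn⟩ := char_apply_one (irr_isCharacter hθ)
    have hb : ∀ h : H, ‖θ h‖ ≤ (n : ℝ) := by
      intro h
      have h' := char_norm_le (irr_isCharacter hθ) h
      rw [hn] at h'
      simpa using h'
    have hle : ∀ x : G, ‖conjFunN H x⁻¹ θ a‖ ≤ (n : ℝ) := by
      intro x
      rw [conjFunN_apply]
      exact hb _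
    have hsum : ∑ x : G, conjFunN H x⁻¹ θ a = (Fintype.card G : ℂ) * ((n : ℝ) : ℂ) := by
      rw [e3, Finset.sum_const, Finset.card_univ, nsmul_eq_mul, hn]
      simp
    have hfin := eq_of_sum_eq_of_norm_le _ _ hle hsum 1
    have e4 : conjFunN H (1 : G)⁻¹ θ a = θ a := by
      rw [conjFunN_apply]
      congr 1
      apply Subtype.ext
      simp
    rw [hn, ← e4, hfin]
    simp

end Cfsg.Agent.S1487
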