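import Cfsg.Statements.S1488
import Mathlib
import Cfsg.Agent.Lib_helper5_Ind
-- import your own Cfsg.Agent.* helpers here

set_option autoImplicit false
open Cfsg

namespace Cfsg.Agent.S1488


open Cfsg.Agent.helper5

noncomputable def prodEquiv {G : Type*} [Group G] (A : Subgroup G) : (G ⧸ A) × A ≃ G where
  toFun p := p.1.out * p.2
  invFun x := (QuotientGroup.mk x, ⟨(QuotientGroup.mk x : G ⧸ A).out⁻¹ * x,
      QuotientGroup.eq.mp (QuotientGroup.out_eq' _)⟩)
  left_inv p := by
    have h : (QuotientGroup.mk (p.1.out * (p.2 : G)) : G ⧸ A) = p.1 := by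
      rw [QuotientGroup.mk_mul_of_mem _ p.2.2, QuotientGroup.out_eq']
    apply Prod.ext
    · exact h
    · apply Subtype.ext
      show (QuotientGroup.mk (p.1.out * (p.2 : G)) : G ⧸ A).out⁻¹ * (p.1.out * (p.2 : G)) = (p.2 : G)
      rw [h, inv_mul_cancel_left]
  right_inv x := by
    show (QuotientGroup.mk x : G ⧸ A).out * ((QuotientGroup.mk x : G ⧸ A).out⁻¹ * x) = x
    rw [mul_inv_cancel_left]

theorem sum_comp_mk {G : Type*} [Group G] (A : Subgroup G) [Fintype G] [Fintype (G ⧸ A)]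
    (F : G ⧸ A → ℂ) :
    ∑ x : G, F (QuotientGroup.mk x) = (Nat.card A : ℂ) * ∑ q : G ⧸ A, F q := by
  classical
  letI : Fintype A := Fintype.ofFinite A
  rw [← Fintype.sum_equiv (prodEquiv A) (fun p => F p.1) (fun x => F (QuotientGroup.mk x))]
  · rw [Fintype.sum_prod_type]
    simp only [Finset.sum_const, Finset.card_univ, nsmul_eq_mul]
    rw [← Finset.mul_sum, Nat.card_eq_fintype_card]
  · intro p
    congr 1
    show p.1 = QuotientGroup.mk (p.1.out * (p.2 : G))
    rw [QuotientGroup.mk_mul_of_mem _ p.2.2, QuotientGroup.out_eq']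

theorem ext_quot {G : Type*} [Group G] (A H : Subgroup G) [A.Normal] (hAH : A ≤ H) (θ : H → ℂ)
    (θ₁ : ↥(H.map (QuotientGroup.mk' A)) → ℂ)
    (hθ : ∀ x : H, θ₁ ⟨QuotientGroup.mk' A x, Subgroup.mem_map_of_mem _ x.2⟩ = θ x) (y : G) :
    extendByZero H θ y
      = extendByZero (H.map (QuotientGroup.mk' A)) θ₁ (QuotientGroup.mk' A y) := by
  by_cases hy : y ∈ H
  · rw [extendByZero_of_mem H θ y hy,
      extendByZero_of_mem _ θ₁ _ (Subgroup.mem_map_of_mem _ hy)]
    exact (hθ ⟨y, hy⟩).symm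
  · rw [extendByZero_of_not_mem H θ y hy, extendByZero_of_not_mem]
    intro hmem
    apply hy
    obtain ⟨h, hh, heq⟩ := Subgroup.mem_map.mp hmem
    have heq' : (QuotientGroup.mk h : G ⧸ A) = QuotientGroup.mk y := heq
    have h1 : h⁻¹ * y ∈ A := QuotientGroup.eq.mp heq'
    have h2 := H.mul_mem hh (hAH h1)
    rwa [mul_inv_cancel_left] at h2

theorem card_eq {G : Type*} [Group G] [Finite G] (A H : Subgroup G) [A.Normal] (hAH : A ≤ H) :
    Nat.card H = Nat.card A * Nat.card ↥(H.map (QuotientGroup.mk' A)) := by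
  have h1 := Subgroup.card_mul_index H
  have h2 := Subgroup.card_mul_index (H.map (QuotientGroup.mk' A))
  have h3 : (H.map (QuotientGroup.mk' A)).index = H.index :=
    Subgroup.index_map_eq _ (QuotientGroup.mk'_surjective A) (by rw [QuotientGroup.ker_mk']; exact hAH)
  have h4 := Subgroup.card_eq_card_quotient_mul_card_subgroup A
  have hpos : 0 < H.index := Nat.pos_of_ne_zero Subgroup.index_ne_zero_of_finite
  rw [h3] at h2
  have h5 : Nat.card H * H.index
      = (Nat.card A * Nat.card ↥(H.map (QuotientGroup.mk' A))) * H.index := by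
    rw [h1, h4, ← h2]; ring
  exact Nat.eq_of_mul_eq_mul_right hpos h5

/-- Let A be a normal subgroup of the finite group G contained in the subgroup H, let θ be a function on H and θ₁ a function on the image of H in G ⧸ A whose composite with the projection is θ. Then the function induced from θ₁ to G ⧸ A, composed with the projection G → G ⧸ A, equals the function induced from θ to G. -/
theorem result {G : Type*} [Group G] [Fintype G] (A H : Subgroup G) [A.Normal] (hAH : A ≤ H) [Fintype (G ⧸ A)] [Fintype ↥(H.map (QuotientGroup.mk' A))] (θ : H → ℂ) (θ₁ : ↥(H.map (QuotientGroup.mk' A)) → ℂ) (hθ : ∀ x : H, θ₁ ⟨QuotientGroup.mk' A x, Subgroup.mem_map_of_mem _ x.2⟩ = θ x) (g : G) : Cfsg.indFun (H.map (QuotientGroup.mk' A)) θ₁ (QuotientGroup.mk' A g) = Cfsg.indFun H θ g := by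
  classical
  have hF : ∀ x : G, extendByZero H θ (x⁻¹ * g * x)
      = extendByZero (H.map (QuotientGroup.mk' A)) θ₁
        ((QuotientGroup.mk x : G ⧸ A)⁻¹ * QuotientGroup.mk' A g * (QuotientGroup.mk x : G ⧸ A)) := by
    intro x
    rw [ext_quot A H hAH θ θ₁ hθ]
    rfl
  show (Nat.card ↥(H.map (QuotientGroup.mk' A)) : ℂ)⁻¹ * ∑ q : G ⧸ A,
      extendByZero (H.map (QuotientGroup.mk' A)) θ₁ (q⁻¹ * QuotientGroup.mk' A g * q)
    = (Nat.card H : ℂ)⁻¹ * ∑ x : G, extendByZero H θ (x⁻¹ * g * x)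
  simp_rw [hF]
  have hs := sum_comp_mk A (fun q : G ⧸ A =>
    extendByZero (H.map (QuotientGroup.mk' A)) θ₁ (q⁻¹ * QuotientGroup.mk' A g * q))

  rw [hs, card_eq A H hAH]
  have hA : (Nat.card A : ℂ) ≠ 0 := by exact_mod_cast (Nat.card_pos (α := A)).ne'
  have hH : (Nat.card ↥(H.map (QuotientGroup.mk' A)) : ℂ) ≠ 0 := by
    exact_mod_cast (Nat.card_pos (α := ↥(H.map (QuotientGroup.mk' A)))).ne'
  push_cast
  field_simp

end Cfsg.Agent.S1488
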