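import Cfsg.Statements.S1490
import Mathlib
import Cfsg.Agent.Lib_helper8_AbQuot

set_option autoImplicit false
open Cfsg

namespace Cfsg.Agent.S1490

open Cfsg.Agent.helper8 Cfsg.Agent.helper24

/-- Let H be a normal subgroup of the finite group G, θ an irreducible character of H with inertia group T, and suppose the commutator of any two elements of T lies in H (T/H abelian). Then there are a positive integer e and a finite set C of irreducible characters of G with e ^ 2 * |C| * |H| = |T|, such that the function induced from θ is e times the sum of the members of C and every member of C has degree [G:T] * e * θ(1). -/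
theorem result {G : Type*} [Group G] [Fintype G] (H T : Subgroup G) [hN : H.Normal] (θ : H → ℂ) (hθ : Cfsg.IsIrrCharacter H θ) (hT : ∀ g : G, g ∈ T ↔ ∀ h : H, θ ⟨g * h * g⁻¹, hN.conj_mem h h.2 g⟩ = θ h) (hab : ∀ x ∈ T, ∀ y ∈ T, x * y * x⁻¹ * y⁻¹ ∈ H) : ∃ (e : ℕ) (C : Finset (G → ℂ)), 0 < e ∧ (∀ χ ∈ C, Cfsg.IsIrrCharacter G χ) ∧ e ^ 2 * C.card * Nat.card H = Nat.card T ∧ Cfsg.indFun H θ = (e : ℂ) • ∑ χ ∈ C, χ ∧ ∀ χ ∈ C, χ 1 = (T.index : ℂ) * e * θ 1 := by
  classical
  haveI : Fintype T := Fintype.ofFinite T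
  haveI : Fintype H := Fintype.ofFinite H
  haveI : Fintype (H.subgroupOf T) := Fintype.ofFinite _
  haveI : Fintype (IrrCharacter T) := Fintype.ofFinite _
  have hT' : ∀ g : G, g ∈ T ↔ conjFunN H g θ = θ := by
    intro g
    rw [hT g]
    constructor
    · intro h; funext x; exact h x
    · intro h x; exact congr_fun h x
  have hHT : H ≤ T := by
    intro g hg
    rw [hT g]
    intro h
    exact char_isClassFunction (irr_isCharacter hθ) h ⟨g, hg⟩
  have hcardH : Nat.card (H.subgroupOf T) = Nat.card H :=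
    Nat.card_congr (Subgroup.subgroupOfEquivOfLe hHT).toEquiv
  have hθ' : IsIrrCharacter (H.subgroupOf T)
      (fun x : H.subgroupOf T => θ ⟨((x : T) : G), Subgroup.mem_subgroupOf.mp x.2⟩) :=
    Cfsg.Agent.helper8.isIrrCharacter_comp_mulEquiv (Subgroup.subgroupOfEquivOfLe hHT) hθ
  have hab' : ∀ x y : T, x * y * x⁻¹ * y⁻¹ ∈ H.subgroupOf T :=
    fun x y => Subgroup.mem_subgroupOf.mpr (hab x x.2 y y.2)
  have hinv : ∀ t : T, conjFunN (H.subgroupOf T) t
      (fun x : H.subgroupOf T => θ ⟨((x : T) : G), Subgroup.mem_subgroupOf.mp x.2⟩)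
      = (fun x : H.subgroupOf T => θ ⟨((x : T) : G), Subgroup.mem_subgroupOf.mp x.2⟩) := by
    intro t
    funext x
    have := congr_fun ((hT' t).mp t.2) ⟨((x : T) : G), Subgroup.mem_subgroupOf.mp x.2⟩
    exact this
  obtain ⟨e, S, he, hexp, hcard, hdeg, hne⟩ :=
    abelian_quot_invariant (H.subgroupOf T) hab' hθ' hinv
  have hcorr := clifford_corr H T θ hθ hT' hHT
  have hinj : Set.InjOn (fun Ψ : IrrCharacter T => indFun T (Ψ : T → ℂ)) (S : Set (IrrCharacter T)) := by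
    intro Ψ hΨ Ψ' hΨ' heq
    by_contra hne'
    have h1 := hcorr Ψ Ψ Ψ.2 Ψ.2 (hne Ψ hΨ) (hne Ψ hΨ)
    have h2 := hcorr Ψ Ψ' Ψ.2 Ψ'.2 (hne Ψ hΨ) (hne Ψ' hΨ')
    rw [if_pos rfl] at h1
    rw [if_neg (fun h => hne' (Subtype.ext h))] at h2
    simp only at heq
    rw [← heq, h1] at h2
    exact one_ne_zero h2
  refine ⟨e, S.image (fun Ψ : IrrCharacter T => indFun T (Ψ : T → ℂ)), he, ?_, ?_, ?_, ?_⟩
  · intro χ hχ
    obtain ⟨Ψ, hΨ, rfl⟩ := Finset.mem_image.mp hχ
    have h1 := hcorr Ψ Ψ Ψ.2 Ψ.2 (hne Ψ hΨ) (hne Ψ hΨ)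
    rw [if_pos rfl] at h1
    exact Cfsg.Agent.helper12.isIrrCharacter_of_classInner_self
      (Cfsg.Agent.helper12.isCharacter_indFun T (irr_isCharacter Ψ.2)) h1
  · rw [Finset.card_image_of_injOn hinj, ← hcardH]
    exact hcard
  · rw [Finset.sum_image (fun a ha b hb h => hinj (Finset.mem_coe.mpr ha) (Finset.mem_coe.mpr hb) h),
      ← indFun_trans H T hHT θ, hexp, indFun_smul, indFun_sum]
  · intro χ hχ
    obtain ⟨Ψ, hΨ, rfl⟩ := Finset.mem_image.mp hχ
    rw [indFun_one_eq, hdeg Ψ hΨ]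
    have hidx : (Nat.card T : ℂ) * (T.index : ℂ) = (Nat.card G : ℂ) := by
      exact_mod_cast T.card_mul_index
    have hT0 : (Nat.card T : ℂ) ≠ 0 := by exact_mod_cast (Nat.card_pos (α := T)).ne'
    have h1 : θ ⟨(((1 : H.subgroupOf T) : T) : G),
        Subgroup.mem_subgroupOf.mp (1 : H.subgroupOf T).2⟩ = θ 1 := rfl
    rw [h1, ← hidx]
    field_simp

end Cfsg.Agent.S1490
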