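import Mathlib
import Cfsg.Agent.Lib_helper22_CoprimeExt
import Cfsg.Agent.Lib_helper22_Gallagher
import Cfsg.Agent.Lib_helper8_Clifford
import Cfsg.Agent.S1489
import Cfsg.Agent.S0187
import Cfsg.Statements.S1491
-- import your own Cfsg.Agent.* helpers here

set_option autoImplicit false
open Cfsg

namespace Cfsg.Agent.S1491

open Cfsg.Agent

/-- Let H be a normal subgroup of the finite group G and θ an irreducible character of H with inertia group T, where T/H is abelian (commutators of T lie in H) and the index of H in T is coprime to the order of H. Then the function induced from θ is the sum of a set of exactly [T:H] irreducible characters of G, each of degree [G:T] * θ(1). -/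
theorem result {G : Type*} [Group G] [Fintype G] (H T : Subgroup G) [hN : H.Normal] (θ : H → ℂ) (hθ : Cfsg.IsIrrCharacter H θ) (hT : ∀ g : G, g ∈ T ↔ ∀ h : H, θ ⟨g * h * g⁻¹, hN.conj_mem h h.2 g⟩ = θ h) (hab : ∀ x ∈ T, ∀ y ∈ T, x * y * x⁻¹ * y⁻¹ ∈ H) (hcop : Nat.Coprime (Nat.card H) (H.relIndex T)) : ∃ C : Finset (G → ℂ), (∀ χ ∈ C, Cfsg.IsIrrCharacter G χ) ∧ C.card = H.relIndex T ∧ Cfsg.indFun H θ = ∑ χ ∈ C, χ ∧ ∀ χ ∈ C, χ 1 = (T.index : ℂ) * θ 1 := by
  classical
  haveI : Fintype T := Fintype.ofFinite T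
  haveI : Fintype H := Fintype.ofFinite H
  have hHT : H ≤ T := by
    intro x hx
    rw [hT]
    intro h
    exact helper24.char_isClassFunction (helper24.irr_isCharacter hθ) h ⟨x, hx⟩
  obtain ⟨θ', hθ'⟩ : ∃ θ' : H.subgroupOf T → ℂ,
      θ' = fun x : H.subgroupOf T => θ ⟨((x : T) : G), Subgroup.mem_subgroupOf.mp x.2⟩ :=
    ⟨_, rfl⟩
  have hθ'irr : IsIrrCharacter (H.subgroupOf T) θ' := by
    rw [hθ']
    exact helper8.isIrrCharacter_comp_mulEquiv (Subgroup.subgroupOfEquivOfLe hHT) hθ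
  have hθ'inv : ∀ (t : T) (x : H.subgroupOf T),
      θ' ⟨t * x * t⁻¹, (inferInstance : (H.subgroupOf T).Normal).conj_mem (x : T) x.2 t⟩ =
        θ' x := by
    intro t x
    rw [hθ']
    exact (hT t).mp t.2 ⟨((x : T) : G), Subgroup.mem_subgroupOf.mp x.2⟩
  have hcomm : ∀ a b : T ⧸ H.subgroupOf T, a * b = b * a := by
    intro a b
    obtain ⟨t, rfl⟩ := QuotientGroup.mk_surjective a
    obtain ⟨s, rfl⟩ := QuotientGroup.mk_surjective b
    rw [← QuotientGroup.mk_mul, ← QuotientGroup.mk_mul, QuotientGroup.eq,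
      Subgroup.mem_subgroupOf]
    have h1 := hab (s : G)⁻¹ (T.inv_mem s.2) (t : G)⁻¹ (T.inv_mem t.2)
    have h2 : (((t * s)⁻¹ * (s * t) : T) : G) = (s : G)⁻¹ * (t : G)⁻¹ * (s : G)⁻¹⁻¹ * (t : G)⁻¹⁻¹ := by
      push_cast
      group
    rw [h2]
    exact h1
  have hsolv : Group.IsSolvable (T ⧸ H.subgroupOf T) := Group.isSolvable_of_comm hcomm
  have hcardH' : Nat.card (H.subgroupOf T) = Nat.card H :=
    Nat.card_congr (Subgroup.subgroupOfEquivOfLe hHT).toEquiv
  have hcop' : Nat.Coprime (H.subgroupOf T).index (Nat.card (H.subgroupOf T)) := by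
    rw [hcardH']
    exact hcop.symm
  obtain ⟨χh, hχh, hχhN⟩ :=
    helper22.extends_of_coprime_solvable (H.subgroupOf T) hsolv θ' hθ'irr hθ'inv hcop'
  haveI : Fintype (IrrCharacter (T ⧸ H.subgroupOf T)) := Fintype.ofFinite _
  have hres : helper5.res (H.subgroupOf T) χh = θ' := funext hχhN
  obtain ⟨hG1, hG2, hG3⟩ := helper22.gallagher (H.subgroupOf T) hχh (hres ▸ hθ'irr)
  have hexp := helper22.indFun_res_eq_sum (H.subgroupOf T)
    (helper24.char_isClassFunction (helper24.irr_isCharacter hχh))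
  rw [hres] at hexp
  have hβ1 : ∀ β : IrrCharacter (T ⧸ H.subgroupOf T), (β : T ⧸ H.subgroupOf T → ℂ) 1 = 1 :=
    S0187.result.mp hcomm
  obtain ⟨ψ, hψ⟩ : ∃ ψ : IrrCharacter (T ⧸ H.subgroupOf T) → (T → ℂ),
      ∀ β, ψ β = helper22.infl (H.subgroupOf T) (β : T ⧸ H.subgroupOf T → ℂ) * χh :=
    ⟨_, fun β => rfl⟩
  have hexp' : indFun (H.subgroupOf T) θ' = ∑ β : IrrCharacter (T ⧸ H.subgroupOf T), ψ β := by
    rw [hexp]
    apply Finset.sum_congr rfl
    intro β _
    rw [hβ1, one_smul, hψ]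
  have hcard : Fintype.card (IrrCharacter (T ⧸ H.subgroupOf T)) = H.relIndex T := by
    have h1 := helper24.sum_irr_degree_sq (G := T ⧸ H.subgroupOf T)
    have h2 : ∀ β : IrrCharacter (T ⧸ H.subgroupOf T),
        charDegree (β : T ⧸ H.subgroupOf T → ℂ) ^ 2 = 1 := by
      intro β
      rw [helper24.charDegree_natCast _ 1 (by rw [hβ1, Nat.cast_one]), one_pow]
    rw [Finset.sum_congr rfl (fun β _ => h2 β), Finset.sum_const, Finset.card_univ, smul_eq_mul,
      mul_one] at h1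
    rw [h1, ← Subgroup.index_eq_card]
    rfl
  have hψirr : ∀ β, IsIrrCharacter T (ψ β) := fun β => by
    rw [hψ]
    exact hG1 β
  have hψinj : ∀ β β', ψ β = ψ β' → β = β' := fun β β' h => by
    rw [hψ, hψ] at h
    exact hG2 β β' h
  have hc : ∀ β, classInner (indFun (H.subgroupOf T)
      (fun x : H.subgroupOf T => θ ⟨((x : T) : G), Subgroup.mem_subgroupOf.mp x.2⟩)) (ψ β) ≠ 0 := by
    intro β
    rw [← hθ', hexp', helper24.classInner_sum_left, Finset.sum_eq_single β,
      helper24.irr_classInner_self (hψirr β)]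
    · exact one_ne_zero
    · intro β' _ hne
      exact helper24.irr_classInner_ne (hψirr β') (hψirr β) (fun h => hne (hψinj _ _ h))
    · intro h
      exact absurd (Finset.mem_univ β) h
  have hS := fun β β' => S1489.result H T θ hθ hT hHT (ψ β) (ψ β') (hψirr β) (hψirr β')
    (hc β) (hc β')
  obtain ⟨Φ, hΦ⟩ : ∃ Φ : IrrCharacter (T ⧸ H.subgroupOf T) → (G → ℂ),
      ∀ β, Φ β = indFun T (ψ β) := ⟨_, fun β => rfl⟩
  have hinj : Function.Injective Φ := by
    intro β β' h
    rw [hΦ, hΦ] at h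
    exact hψinj β β' ((hS β β').2 h)
  refine ⟨Finset.univ.image Φ, ?_, ?_, ?_, ?_⟩
  · intro χ hχ
    obtain ⟨β, -, rfl⟩ := Finset.mem_image.mp hχ
    rw [hΦ]
    exact (hS β β).1
  · rw [Finset.card_image_of_injective _ hinj, Finset.card_univ, hcard]
  · rw [Finset.sum_image (fun a _ b _ h => hinj h)]
    have h1 : ∑ β : IrrCharacter (T ⧸ H.subgroupOf T), Φ β =
        indFun T (∑ β : IrrCharacter (T ⧸ H.subgroupOf T), ψ β) := by
      rw [helper8.indFun_sum]
      apply Finset.sum_congr rfl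
      intro β _
      rw [hΦ]
    rw [h1, ← hexp', hθ']
    exact (helper8.indFun_trans H T hHT θ).symm
  · intro χ hχ
    obtain ⟨β, -, rfl⟩ := Finset.mem_image.mp hχ
    rw [hΦ, helper8.indFun_one_eq, hψ, Pi.mul_apply, helper22.infl_apply]
    have h1 : ((1 : T) : T ⧸ H.subgroupOf T) = 1 := rfl
    rw [h1, hβ1, one_mul]
    have h2 : χh 1 = θ 1 := by
      have := hχhN 1
      rw [hθ'] at this
      exact this
    rw [h2]
    have h3 : (T.index : ℂ) * (Nat.card T : ℂ) = (Nat.card G : ℂ) := by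
      exact_mod_cast T.index_mul_card
    have hT0 : (Nat.card T : ℂ) ≠ 0 := by exact_mod_cast (Nat.card_pos (α := T)).ne'
    rw [← h3]
    field_simp

end Cfsg.Agent.S1491
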