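import Cfsg.Statements.S1492
import Mathlib
import Cfsg.Agent.Lib_helper8_Clifford
import Cfsg.Agent.Lib_helper23_Schur
import Cfsg.Agent.Lib_helper24_Char

set_option autoImplicit false
open Cfsg

namespace Cfsg.Agent.S1492

open Cfsg.Agent.helper8 Cfsg.Agent.helper24
open scoped ComplexConjugate

theorem char_one_nat {K : Type*} [Group K] {χ : K → ℂ} (h : IsCharacter K χ) :
    ∃ n : ℕ, χ 1 = n := by
  obtain ⟨n, ρ, rfl⟩ := h
  exact ⟨n, by rw [Representation.char_one, Module.finrank_fin_fun]⟩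

/-- A complex number whose real part is a bound for its norm equals that bound. -/
theorem eq_of_re_eq_of_norm_le (z : ℂ) (r : ℝ) (h1 : z.re = r) (h2 : ‖z‖ ≤ r) : z = (r : ℂ) := by
  have hr : 0 ≤ r := le_trans (norm_nonneg z) h2
  have h3 : ‖z‖ ^ 2 ≤ r ^ 2 := pow_le_pow_left₀ (norm_nonneg z) h2 2
  rw [Complex.sq_norm, Complex.normSq_apply, h1] at h3
  have him : z.im = 0 := by
    have : z.im * z.im ≤ 0 := by nlinarith
    have h4 : 0 ≤ z.im * z.im := mul_self_nonneg _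
    have h5 : z.im * z.im = 0 := le_antisymm this h4
    exact mul_self_eq_zero.mp h5
  apply Complex.ext
  · rw [h1, Complex.ofReal_re]
  · rw [him, Complex.ofReal_im]

/-- If an element acts as a scalar in an irreducible representation, its character value has
norm equal to the degree. -/
theorem norm_char_of_comm {K : Type*} [Group K] [Finite K] {k : ℕ}
    (σ : Representation ℂ K (Fin k → ℂ)) (hσ : σ.IsIrreducible) (d : K)
    (hcomm : ∀ c : K, σ d ∘ₗ σ c = σ c ∘ₗ σ d) : ‖σ.character d‖ = (k : ℝ) := by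
  obtain ⟨lam, hlam⟩ := Cfsg.Agent.helper23.schur_scalar σ hσ (σ d) hcomm
  have hchar : σ.character d = lam * k := by
    unfold Representation.character
    rw [hlam, map_smul, LinearMap.trace_id, Module.finrank_fin_fun, smul_eq_mul]
  rw [hchar]
  by_cases hk : k = 0
  · rw [hk]; simp
  · have hpow : lam ^ orderOf d = 1 := by
      have h1 : σ (d ^ orderOf d) = 1 := by rw [pow_orderOf_eq_one, map_one]
      rw [map_pow, hlam] at h1
      have h2 : (lam • (LinearMap.id : (Fin k → ℂ) →ₗ[ℂ] (Fin k → ℂ))) ^ orderOf d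
          = (lam ^ orderOf d) • LinearMap.id := by
        rw [smul_pow]
        congr 1
        exact one_pow _
      rw [h2] at h1
      have hk' : 0 < k := Nat.pos_of_ne_zero hk
      have h3 := congrArg (fun T : (Fin k → ℂ) →ₗ[ℂ] (Fin k → ℂ) =>
        T (fun _ => (1 : ℂ)) ⟨0, hk'⟩) h1
      simpa using h3
    have hnorm : ‖lam‖ = 1 :=
      Complex.norm_eq_one_of_pow_eq_one hpow (orderOf_pos d).ne'
    rw [norm_mul, hnorm, one_mul, Complex.norm_natCast]

/-- Let ψ be an irreducible character of the finite group G and B ≤ D ≤ C subgroups with B normal in C, every commutator of an element of D with an element of C lying in B (so D/B is central in C/B), and ψ constant equal to ψ 1 on B. Then ψ(1) ^ 2 * |C| * |D| ≤ |G| ^ 2. -/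
theorem result {G : Type*} [Group G] [Finite G] (ψ : G → ℂ) (hψ : Cfsg.IsIrrCharacter G ψ) (B C D : Subgroup G) (hBD : B ≤ D) (hDC : D ≤ C) (hBn : ∀ c ∈ C, ∀ b ∈ B, c * b * c⁻¹ ∈ B) (hcent : ∀ d ∈ D, ∀ c ∈ C, d * c * d⁻¹ * c⁻¹ ∈ B) (hker : ∀ b ∈ B, ψ b = ψ 1) : ‖ψ 1‖ ^ 2 * (Nat.card C : ℝ) * (Nat.card D : ℝ) ≤ (Nat.card G : ℝ) ^ 2 := by
  classical
  haveI : Fintype G := Fintype.ofFinite G
  haveI : Fintype C := Fintype.ofFinite C
  haveI : Fintype (IrrCharacter C) := Fintype.ofFinite _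
  haveI : Fintype (IrrCharacter G) := Fintype.ofFinite _
  have hψc := irr_isCharacter hψ
  have hR := Cfsg.Agent.helper12.isCharacter_restrict C hψc
  obtain ⟨m, hexp, hm, -⟩ := Cfsg.Agent.helper12.char_decomp hR
  choose deg hdeg using fun θ' : IrrCharacter C => char_one_nat (irr_isCharacter θ'.2)
  obtain ⟨degψ, hdegψ⟩ := char_one_nat hψc
  -- (1) a constituent
  have hex : ∃ θ : IrrCharacter C, m θ ≠ 0 := by
    by_contra hcon
    push Not at hcon
    apply irr_apply_one_ne_zero hψ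
    have h0 : ψ ((1 : C) : G) = (∑ ψ' : IrrCharacter C, (m ψ' : ℂ) • (ψ' : C → ℂ)) 1 :=
      congr_fun hexp 1
    rw [show ψ 1 = ψ ((1 : C) : G) from rfl, h0, Finset.sum_apply]
    apply Finset.sum_eq_zero
    intro θ' _
    rw [hcon θ']
    simp
  obtain ⟨θ, hmθ⟩ := hex
  -- (2) B lies in the kernel of θ
  have hkerθ : ∀ b : C, (b : G) ∈ B → (θ : C → ℂ) b = (deg θ : ℂ) := by
    intro b hb
    have h1 : ∑ θ' : IrrCharacter C, (m θ' : ℂ) * (θ' : C → ℂ) b
        = ∑ θ' : IrrCharacter C, (m θ' : ℂ) * (θ' : C → ℂ) 1 := by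
      have e1 := congr_fun hexp b
      have e2 := congr_fun hexp 1
      simp only [Finset.sum_apply, Pi.smul_apply, smul_eq_mul] at e1 e2
      rw [← e1, ← e2]
      exact hker b hb
    have h2 : ∑ θ' : IrrCharacter C, (m θ' : ℝ) * ((deg θ' : ℝ) - ((θ' : C → ℂ) b).re) = 0 := by
      have h3 := congrArg Complex.re h1
      rw [Complex.re_sum, Complex.re_sum] at h3
      have h4 : ∀ θ' : IrrCharacter C, ((m θ' : ℂ) * (θ' : C → ℂ) 1).re = (m θ' : ℝ) * (deg θ' : ℝ) := by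
        intro θ'
        rw [hdeg θ']
        simp
      have h5 : ∀ θ' : IrrCharacter C, ((m θ' : ℂ) * (θ' : C → ℂ) b).re
          = (m θ' : ℝ) * ((θ' : C → ℂ) b).re := by
        intro θ'
        simp
      rw [Finset.sum_congr rfl (fun θ' _ => h4 θ'), Finset.sum_congr rfl (fun θ' _ => h5 θ')] at h3
      simp only [mul_sub, Finset.sum_sub_distrib]
      rw [h3, sub_self]
    have hle : ∀ θ' : IrrCharacter C, ‖(θ' : C → ℂ) b‖ ≤ (deg θ' : ℝ) := by
      intro θ'
      have := char_norm_le (irr_isCharacter θ'.2) b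
      rw [hdeg θ', Complex.norm_natCast] at this
      exact this
    have hnn : ∀ θ' ∈ (Finset.univ : Finset (IrrCharacter C)),
        0 ≤ (m θ' : ℝ) * ((deg θ' : ℝ) - ((θ' : C → ℂ) b).re) := by
      intro θ' _
      apply mul_nonneg (Nat.cast_nonneg _)
      have := Complex.re_le_norm ((θ' : C → ℂ) b)
      linarith [hle θ']
    have h6 := (Finset.sum_eq_zero_iff_of_nonneg hnn).mp h2 θ (Finset.mem_univ _)
    have hmpos : (0 : ℝ) < (m θ : ℝ) := by exact_mod_cast Nat.pos_of_ne_zero hmθ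
    have h7 : ((θ : C → ℂ) b).re = (deg θ : ℝ) := by
      rcases mul_eq_zero.mp h6 with h | h
      · linarith
      · linarith
    have := eq_of_re_eq_of_norm_le _ _ h7 (hle θ)
    rw [this]
    simp
  -- (3) elements of D act as scalars
  obtain ⟨k, σ, hσ, hσθ⟩ := θ.2
  have hk : (deg θ : ℂ) = k := by
    rw [← hdeg θ, ← hσθ, Representation.char_one, Module.finrank_fin_fun]
  have hkn : deg θ = k := by exact_mod_cast hk
  have hσB : ∀ b : C, (b : G) ∈ B → σ b = 1 := by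
    intro b hb
    rw [← rep_char_eq_degree_iff, hσθ, hkerθ b hb, hk]
  have hnormD : ∀ d : C, (d : G) ∈ D → ‖(θ : C → ℂ) d‖ = (k : ℝ) := by
    intro d hd
    rw [← hσθ]
    apply norm_char_of_comm σ hσ d
    intro c
    have hb : ((d * c * d⁻¹ * c⁻¹ : C) : G) ∈ B := by
      have := hcent d hd c c.2
      simpa using this
    have e : d * c = (d * c * d⁻¹ * c⁻¹) * (c * d) := by group
    have h2 : σ d * σ c = σ c * σ d := by
      rw [← map_mul, ← map_mul, e, map_mul, hσB _ hb, one_mul]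
    exact h2
  -- (3') counting on C
  have hsumC : ∑ c : C, ‖(θ : C → ℂ) c‖ ^ 2 = (Nat.card C : ℝ) := by
    have h1 := irr_classInner_self θ.2
    unfold classInner at h1
    have hC0 : (Nat.card C : ℂ) ≠ 0 := by exact_mod_cast (Nat.card_pos (α := C)).ne'
    have h2 : ∑ c : C, (θ : C → ℂ) c * conj ((θ : C → ℂ) c) = (Nat.card C : ℂ) := by
      field_simp at h1
      exact h1
    have h3 : ∀ c : C, (θ : C → ℂ) c * conj ((θ : C → ℂ) c) = ((‖(θ : C → ℂ) c‖ ^ 2 : ℝ) : ℂ) := by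
      intro c
      rw [Complex.mul_conj, Complex.sq_norm]
    rw [Finset.sum_congr rfl (fun c _ => h3 c), ← Complex.ofReal_sum] at h2
    exact_mod_cast h2
  have hDk : (Nat.card D : ℝ) * (k : ℝ) ^ 2 ≤ (Nat.card C : ℝ) := by
    rw [← hsumC]
    have hsub : ∑ c ∈ Finset.univ.filter (fun c : C => c ∈ D.subgroupOf C), ‖(θ : C → ℂ) c‖ ^ 2
        ≤ ∑ c : C, ‖(θ : C → ℂ) c‖ ^ 2 :=
      Finset.sum_le_sum_of_subset_of_nonneg (Finset.subset_univ _) (fun _ _ _ => sq_nonneg _)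
    have heq : ∑ c ∈ Finset.univ.filter (fun c : C => c ∈ D.subgroupOf C), ‖(θ : C → ℂ) c‖ ^ 2
        = (Nat.card D : ℝ) * (k : ℝ) ^ 2 := by
      have h1 : ∀ c ∈ Finset.univ.filter (fun c : C => c ∈ D.subgroupOf C),
          ‖(θ : C → ℂ) c‖ ^ 2 = (k : ℝ) ^ 2 := by
        intro c hc
        rw [Finset.mem_filter] at hc
        rw [hnormD c (Subgroup.mem_subgroupOf.mp hc.2)]
      rw [Finset.sum_congr rfl h1, Finset.sum_const, card_filter_mem_subgroup, nsmul_eq_mul,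
        Nat.card_congr (Subgroup.subgroupOfEquivOfLe hDC).toEquiv]
    rw [← heq]
    exact hsub
  -- (4) ψ is a constituent of the induced character
  have hI := Cfsg.Agent.helper12.isCharacter_indFun C (irr_isCharacter θ.2)
  obtain ⟨n, hexpG, hnG, -⟩ := Cfsg.Agent.helper12.char_decomp hI
  choose degG hdegG using fun χ : IrrCharacter G => char_one_nat (irr_isCharacter χ.2)
  have hnψ : n ⟨ψ, hψ⟩ = m θ := by
    have h1 := hnG ⟨ψ, hψ⟩
    rw [frobenius C _ _ (char_isClassFunction hψc), ← classInner_conj_symm, hm θ, map_natCast] at h1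
    exact_mod_cast h1.symm
  have hdegψ' : degG ⟨ψ, hψ⟩ = degψ := by
    have h9 : ψ 1 = (degG ⟨ψ, hψ⟩ : ℂ) := hdegG ⟨ψ, hψ⟩
    rw [hdegψ] at h9
    exact_mod_cast h9.symm
  have hind1 : (Nat.card G : ℂ) * (k : ℂ)
      = (Nat.card C : ℂ) * ((∑ χ : IrrCharacter G, n χ * degG χ : ℕ) : ℂ) := by
    have h1 := indFun_one_eq C (θ : C → ℂ)
    rw [hdeg θ, hk] at h1
    have h2 := congr_fun hexpG 1
    rw [Finset.sum_apply] at h2
    have h3 : ∑ χ : IrrCharacter G, ((n χ : ℂ) • (χ : G → ℂ)) 1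
        = ((∑ χ : IrrCharacter G, n χ * degG χ : ℕ) : ℂ) := by
      push_cast
      apply Finset.sum_congr rfl
      intro χ _
      rw [Pi.smul_apply, smul_eq_mul, hdegG χ]
    rw [h3] at h2
    rw [h2] at h1
    have hC0 : (Nat.card C : ℂ) ≠ 0 := by exact_mod_cast (Nat.card_pos (α := C)).ne'
    rw [h1]
    field_simp
  have hind2 : Nat.card G * k = Nat.card C * ∑ χ : IrrCharacter G, n χ * degG χ := by
    exact_mod_cast hind1
  have hge : degψ ≤ ∑ χ : IrrCharacter G, n χ * degG χ := by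
    have h1 : n ⟨ψ, hψ⟩ * degG ⟨ψ, hψ⟩ ≤ ∑ χ : IrrCharacter G, n χ * degG χ :=
      Finset.single_le_sum (f := fun χ : IrrCharacter G => n χ * degG χ)
        (fun _ _ => Nat.zero_le _) (Finset.mem_univ _)
    rw [hnψ, hdegψ'] at h1
    have h2 : 1 ≤ m θ := Nat.pos_of_ne_zero hmθ
    calc degψ = 1 * degψ := (one_mul _).symm
      _ ≤ m θ * degψ := Nat.mul_le_mul_right _ h2
      _ ≤ _ := h1
  have hCψ : Nat.card C * degψ ≤ Nat.card G * k := by
    rw [hind2]
    exact Nat.mul_le_mul_left _ hge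
  -- (5) conclusion
  rw [hdegψ, Complex.norm_natCast]
  have hCpos : (0 : ℝ) < (Nat.card C : ℝ) := by exact_mod_cast (Nat.card_pos (α := C))
  have hCψ' : (Nat.card C : ℝ) * (degψ : ℝ) ≤ (Nat.card G : ℝ) * (k : ℝ) := by exact_mod_cast hCψ
  have hD0 : (0 : ℝ) ≤ (Nat.card D : ℝ) := Nat.cast_nonneg _
  have hG0 : (0 : ℝ) ≤ (Nat.card G : ℝ) := Nat.cast_nonneg _
  have h1 : ((Nat.card C : ℝ) * (degψ : ℝ)) ^ 2 ≤ ((Nat.card G : ℝ) * (k : ℝ)) ^ 2 :=
    pow_le_pow_left₀ (mul_nonneg hCpos.le (Nat.cast_nonneg _)) hCψ' 2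
  have h2 : (Nat.card C : ℝ) * ((degψ : ℝ) ^ 2 * (Nat.card C : ℝ) * (Nat.card D : ℝ))
      ≤ (Nat.card C : ℝ) * (Nat.card G : ℝ) ^ 2 := by
    calc (Nat.card C : ℝ) * ((degψ : ℝ) ^ 2 * (Nat.card C : ℝ) * (Nat.card D : ℝ))
        = ((Nat.card C : ℝ) * (degψ : ℝ)) ^ 2 * (Nat.card D : ℝ) := by ring
      _ ≤ ((Nat.card G : ℝ) * (k : ℝ)) ^ 2 * (Nat.card D : ℝ) :=
          mul_le_mul_of_nonneg_right h1 hD0
      _ = (Nat.card G : ℝ) ^ 2 * ((Nat.card D : ℝ) * (k : ℝ) ^ 2) := by ring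
      _ ≤ (Nat.card G : ℝ) ^ 2 * (Nat.card C : ℝ) :=
          mul_le_mul_of_nonneg_left hDk (sq_nonneg _)
      _ = (Nat.card C : ℝ) * (Nat.card G : ℝ) ^ 2 := by ring
  exact le_of_mul_le_mul_left h2 hCpos

end Cfsg.Agent.S1492
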