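import Cfsg.Statements.S1493
import Mathlib
import Cfsg.Agent.Lib_helper1_GalChar

set_option autoImplicit false
set_option linter.style.haveILetI false
set_option linter.unusedVariables false
open Cfsg

namespace Cfsg.Agent.S1493

/-- Let G be a finite group of order a * b with a and b coprime, let k be coprime to a, and let χ be a character of G. Then there is a character χ' of G such that χ'(g) = χ(g ^ k) whenever the order of g divides a and χ'(g) = χ(g) whenever the order of g is coprime to a; moreover χ' is irreducible if χ is. -/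
theorem result {G : Type*} [Group G] [Finite G] (a b k : ℕ) (hab : Nat.card G = a * b) (hcop : Nat.Coprime a b) (hk : Nat.Coprime k a) (χ : G → ℂ) (hχ : Cfsg.IsCharacter G χ) : ∃ χ' : G → ℂ, Cfsg.IsCharacter G χ' ∧ (Cfsg.IsIrrCharacter G χ → Cfsg.IsIrrCharacter G χ') ∧ (∀ g : G, orderOf g ∣ a → χ' g = χ (g ^ k)) ∧ (∀ g : G, Nat.Coprime (orderOf g) a → χ' g = χ g) := by
  obtain ⟨t, ht1, ht2⟩ := Nat.chineseRemainder hcop k 1
  have htc : t.Coprime (Nat.card G) := by
    rw [hab]
    apply Nat.Coprime.mul_right
    · have := ht1.gcd_eq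
      unfold Nat.Coprime
      rw [this]; exact hk
    · have := ht2.gcd_eq
      unfold Nat.Coprime
      rw [this]; simp
  refine ⟨fun g => χ (g ^ t), helper1.isCharacter_powMap t htc hχ,
    fun h => helper1.isIrrCharacter_powMap t htc h, ?_, ?_⟩
  · intro g hg
    show χ (g ^ t) = χ (g ^ k)
    have : g ^ t = g ^ k := pow_eq_pow_iff_modEq.mpr (ht1.of_dvd hg)
    rw [this]
  · intro g hg
    show χ (g ^ t) = χ g
    have hdvd : orderOf g ∣ b := by
      have h1 : orderOf g ∣ a * b := hab ▸ orderOf_dvd_natCard g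
      exact hg.dvd_of_dvd_mul_left h1
    have : g ^ t = g ^ 1 := pow_eq_pow_iff_modEq.mpr (ht2.of_dvd hdvd)
    rw [this, pow_one]

end Cfsg.Agent.S1493
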