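import Cfsg.Statements.S1494
import Mathlib
import Cfsg.Agent.Lib_helper12_CharOps
import Cfsg.Agent.Lib_helper24_CharValues
import Cfsg.Agent.Lib_helper23_Linear
-- import your own Cfsg.Agent.* helpers here

set_option autoImplicit false
open Cfsg

namespace Cfsg.Agent.S1494


open scoped ComplexConjugate
open Cfsg.Agent.helper24 Cfsg.Agent.helper12 Cfsg.Agent.helper23

theorem root_sub_one (p : ℕ) (hp : p.Prime) (ζ : ℂ) (hζ : ζ ^ p = 1) :
    ∃ w : ℂ, IsIntegral ℤ w ∧ ζ - 1 = (1 - Complex.exp (2 * Real.pi * Complex.I / p)) * w := by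
  have hprim := Complex.isPrimitiveRoot_exp p hp.ne_zero
  haveI : NeZero p := ⟨hp.ne_zero⟩
  obtain ⟨j, -, hj⟩ := hprim.eq_pow_of_pow_eq_one hζ
  refine ⟨-(∑ i ∈ Finset.range j, Complex.exp (2 * Real.pi * Complex.I / p) ^ i), ?_, ?_⟩
  · apply IsIntegral.neg
    apply IsIntegral.sum
    intro i _
    exact (hprim.isIntegral hp.pos).pow i
  · rw [← hj, ← geom_sum_mul]
    ring

theorem char_case {G : Type*} [Group G] [Finite G] (χ : G → ℂ) (hχ : IsCharacter G χ) (p : ℕ)
    (hp : p.Prime) (x y : G) (hx : orderOf x = p) (hxy : x * y = y * x) :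
    ∃ ω : ℂ, IsIntegral ℤ ω ∧
      χ (x * y) - χ y = (1 - Complex.exp (2 * Real.pi * Complex.I / p)) * ω := by
  classical
  have hcomm : ∀ a ∈ ({x, y} : Set G), ∀ b ∈ ({x, y} : Set G), a * b = b * a := by
    intro a ha b hb
    simp only [Set.mem_insert_iff, Set.mem_singleton_iff] at ha hb
    rcases ha with rfl | rfl <;> rcases hb with rfl | rfl
    · rfl
    · exact hxy
    · exact hxy.symm
    · rfl
  haveI : IsMulCommutative (Subgroup.closure ({x, y} : Set G)) :=
    Subgroup.isMulCommutative_closure hcomm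
  letI : Fintype (Subgroup.closure ({x, y} : Set G)) := Fintype.ofFinite _
  letI : Fintype (IrrCharacter (Subgroup.closure ({x, y} : Set G))) := Fintype.ofFinite _
  have hxA : x ∈ Subgroup.closure ({x, y} : Set G) := Subgroup.subset_closure (by simp)
  have hyA : y ∈ Subgroup.closure ({x, y} : Set G) := Subgroup.subset_closure (by simp)
  obtain ⟨n, hexp, -, -⟩ := char_decomp (isCharacter_restrict (Subgroup.closure ({x, y} : Set G)) hχ)
  have hlin : ∀ ψ : IrrCharacter (Subgroup.closure ({x, y} : Set G)),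
      (ψ : Subgroup.closure ({x, y} : Set G) → ℂ) 1 = 1 := by
    intro ψ
    obtain ⟨k, ρ, hirr, hψ⟩ := ψ.2
    haveI := hirr
    have hk : Module.finrank ℂ (Fin k → ℂ) = 1 :=
      Representation.IsIrreducible.finrank_eq_one_of_isMulCommutative ρ
    rw [← hψ, Representation.char_one, hk]
    simp
  have hmul : ∀ ψ : IrrCharacter (Subgroup.closure ({x, y} : Set G)),
      ∀ a b : Subgroup.closure ({x, y} : Set G), ψ.1 (a * b) = ψ.1 a * ψ.1 b :=
    fun ψ => linear_char_mul (irr_isCharacter ψ.2) (hlin ψ)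
  have hpow : ∀ ψ : IrrCharacter (Subgroup.closure ({x, y} : Set G)),
      (ψ.1 ⟨x, hxA⟩) ^ p = 1 := by
    intro ψ
    let f : Subgroup.closure ({x, y} : Set G) →* ℂ :=
      { toFun := ψ.1, map_one' := hlin ψ, map_mul' := hmul ψ }
    have h1 : f (⟨x, hxA⟩ ^ p) = f ⟨x, hxA⟩ ^ p := map_pow f _ p
    have hxp : (⟨x, hxA⟩ : Subgroup.closure ({x, y} : Set G)) ^ p = 1 := by
      apply Subtype.ext
      simp [← hx, pow_orderOf_eq_one]
    rw [hxp, map_one] at h1
    exact h1.symm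
  choose w hwint hweq using
    fun ψ : IrrCharacter (Subgroup.closure ({x, y} : Set G)) => root_sub_one p hp _ (hpow ψ)
  refine ⟨∑ ψ : IrrCharacter (Subgroup.closure ({x, y} : Set G)),
    (n ψ : ℂ) * (ψ.1 ⟨y, hyA⟩ * w ψ), ?_, ?_⟩
  · apply IsIntegral.sum
    intro ψ _
    exact IsIntegral.mul (isIntegral_natCast _)
      (IsIntegral.mul (char_isIntegral (irr_isCharacter ψ.2) _) (hwint ψ))
  · have h1 : χ (x * y) = ∑ ψ : IrrCharacter (Subgroup.closure ({x, y} : Set G)),
        (n ψ : ℂ) * (ψ.1 ⟨x, hxA⟩ * ψ.1 ⟨y, hyA⟩) := by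
      have h := congrFun hexp (⟨x, hxA⟩ * ⟨y, hyA⟩)
      simp only [Finset.sum_apply, Pi.smul_apply, smul_eq_mul, hmul] at h
      exact h
    have h2 : χ y = ∑ ψ : IrrCharacter (Subgroup.closure ({x, y} : Set G)),
        (n ψ : ℂ) * ψ.1 ⟨y, hyA⟩ := by
      have h := congrFun hexp ⟨y, hyA⟩
      simp only [Finset.sum_apply, Pi.smul_apply, smul_eq_mul] at h
      exact h
    rw [h1, h2, ← Finset.sum_sub_distrib, Finset.mul_sum]
    apply Finset.sum_congr rfl
    intro ψ _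
    have h3 := hweq ψ
    linear_combination (n ψ : ℂ) * ψ.1 ⟨y, hyA⟩ * h3

/-- Let χ be a generalized character of the finite group G, p a prime, x an element of order p and y an element commuting with x. Then χ(x * y) − χ(y) = (1 − ε) * ω for some algebraic integer ω, where ε = exp(2πi/p). -/
theorem result {G : Type*} [Group G] [Finite G] (χ : G → ℂ) (hχ : Cfsg.IsGeneralizedCharacter G χ) (p : ℕ) (hp : p.Prime) (x y : G) (hx : orderOf x = p) (hxy : x * y = y * x) : ∃ ω : ℂ, IsIntegral ℤ ω ∧ χ (x * y) - χ y = (1 - Complex.exp (2 * Real.pi * Complex.I / p)) * ω := by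
  obtain ⟨χ₁, χ₂, h₁, h₂, rfl⟩ := hχ
  obtain ⟨ω₁, hi₁, he₁⟩ := char_case χ₁ h₁ p hp x y hx hxy
  obtain ⟨ω₂, hi₂, he₂⟩ := char_case χ₂ h₂ p hp x y hx hxy
  refine ⟨ω₁ - ω₂, hi₁.sub hi₂, ?_⟩
  simp only [Pi.sub_apply]
  linear_combination he₁ - he₂

end Cfsg.Agent.S1494
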