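import Cfsg.Statements.S1495
import Mathlib

set_option autoImplicit false
open Cfsg

namespace Cfsg.Agent.S1495

open Polynomial in
theorem prod_one_sub_primitiveRoots (p : ℕ) (hp : p.Prime) :
    ∏ μ ∈ primitiveRoots p ℂ, (1 - μ) = (p : ℂ) := by
  haveI : Fact p.Prime := ⟨hp⟩
  have hε := Complex.isPrimitiveRoot_exp p hp.ne_zero
  have h1 := Polynomial.cyclotomic_eq_prod_X_sub_primitiveRoots hε
  have h2 : eval 1 (cyclotomic p ℂ) = (p : ℂ) := eval_one_cyclotomic_prime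
  rw [h1, eval_prod] at h2
  simpa using h2

theorem exists_quot (p : ℕ) (hp : p.Prime) (ε μ : ℂ) (hε : IsPrimitiveRoot ε p)
    (hμ : IsPrimitiveRoot μ p) : ∃ β : ℂ, IsIntegral ℤ β ∧ (1 - ε) = (1 - μ) * β := by
  haveI : NeZero p := ⟨hp.ne_zero⟩
  obtain ⟨j, -, hj⟩ := hμ.eq_pow_of_pow_eq_one hε.pow_eq_one
  refine ⟨∑ i ∈ Finset.range j, μ ^ i, ?_, ?_⟩
  · apply IsIntegral.sum
    intro i _
    exact (hμ.isIntegral hp.pos).pow i
  · rw [mul_neg_geom_sum, hj]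

/-- Let p be a prime, ε = exp(2πi/p), and n an integer such that n = (1 − ε) * ω for some algebraic integer ω. Then p divides n. -/
theorem result (p : ℕ) (hp : p.Prime) (n : ℤ) (ω : ℂ) (hω : IsIntegral ℤ ω) (h : (n : ℂ) = (1 - Complex.exp (2 * Real.pi * Complex.I / p)) * ω) : (p : ℤ) ∣ n := by
  classical
  set ε := Complex.exp (2 * Real.pi * Complex.I / p) with hεdef
  have hε : IsPrimitiveRoot ε p := Complex.isPrimitiveRoot_exp p hp.ne_zero
  have hq : ∀ μ ∈ primitiveRoots p ℂ, ∃ β : ℂ, IsIntegral ℤ β ∧ (1 - ε) = (1 - μ) * β := by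
    intro μ hμ
    exact exists_quot p hp ε μ hε ((mem_primitiveRoots hp.pos).mp hμ)
  choose! β hβ1 hβ2 using hq
  have hcard : (primitiveRoots p ℂ).card = p - 1 := by
    rw [Complex.card_primitiveRoots, Nat.totient_prime hp]
  have hpow : (1 - ε) ^ (p - 1) = (p : ℂ) * ∏ μ ∈ primitiveRoots p ℂ, β μ := by
    rw [← prod_one_sub_primitiveRoots p hp, ← Finset.prod_mul_distrib, ← hcard,
      ← Finset.prod_const]
    exact Finset.prod_congr rfl (fun μ hμ => hβ2 μ hμ)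
  set B := ∏ μ ∈ primitiveRoots p ℂ, β μ with hB
  have hBint : IsIntegral ℤ B := IsIntegral.prod _ (fun μ hμ => hβ1 μ hμ)
  set γ := B * ω ^ (p - 1) with hγ
  have hγint : IsIntegral ℤ γ := hBint.mul (hω.pow _)
  have hn : ((n ^ (p - 1) : ℤ) : ℂ) = (p : ℂ) * γ := by
    push_cast
    rw [h, mul_pow, hpow, hγ]; ring
  have hp0 : (p : ℂ) ≠ 0 := Nat.cast_ne_zero.mpr hp.ne_zero
  -- γ is rational
  have hγq : γ = (((n ^ (p - 1) : ℤ) : ℚ) / (p : ℚ) : ℚ) := by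
    push_cast
    rw [eq_div_iff hp0, mul_comm]
    have := hn
    push_cast at this
    exact this.symm
  have hqint : IsIntegral ℤ (((n ^ (p - 1) : ℤ) : ℚ) / (p : ℚ) : ℚ) := by
    have h1 : IsIntegral ℤ (algebraMap ℚ ℂ (((n ^ (p - 1) : ℤ) : ℚ) / (p : ℚ) : ℚ)) := by
      have : algebraMap ℚ ℂ (((n ^ (p - 1) : ℤ) : ℚ) / (p : ℚ) : ℚ) = γ := by
        rw [hγq]; rfl
      rw [this]; exact hγint
    exact (isIntegral_algebraMap_iff (algebraMap ℚ ℂ).injective).mp h1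
  obtain ⟨m, hm⟩ := IsIntegrallyClosed.isIntegral_iff.mp hqint
  have hm' : (m : ℚ) * p = ((n ^ (p - 1) : ℤ) : ℚ) := by
    have hpq : (p : ℚ) ≠ 0 := Nat.cast_ne_zero.mpr hp.ne_zero
    have : (m : ℚ) = ((n ^ (p - 1) : ℤ) : ℚ) / (p : ℚ) := by simpa using hm
    rw [this, div_mul_cancel₀ _ hpq]
  have hdvd : (p : ℤ) ∣ n ^ (p - 1) := by
    refine ⟨m, ?_⟩
    have : ((n ^ (p - 1) : ℤ) : ℚ) = (((p : ℤ) * m : ℤ) : ℚ) := by
      rw [← hm']; push_cast; ring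
    exact_mod_cast this
  exact Int.Prime.dvd_pow' hp hdvd

end Cfsg.Agent.S1495
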