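import Cfsg.Statements.S1496
import Mathlib
import Cfsg.Agent.S0001

set_option autoImplicit false
open Cfsg

namespace Cfsg.Agent.S1496

/-- Let H be a subgroup of the finite group G and g an element normalising H whose order is coprime to the order of H. Then for every h ∈ H there are x ∈ H and c ∈ H commuting with g such that x * (h * g) * x⁻¹ = c * g. -/
theorem result {G : Type*} [Group G] [Finite G] (H : Subgroup G) (g : G) (hg : g ∈ Subgroup.normalizer (H : Set G)) (hcop : Nat.Coprime (orderOf g) (Nat.card H)) (h : G) (hh : h ∈ H) : ∃ x ∈ H, ∃ c ∈ H, c * g = g * c ∧ x * (h * g) * x⁻¹ = c * g := by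
  classical
  obtain ⟨J, hJdef⟩ : ∃ J : Subgroup G, J = H ⊔ Subgroup.zpowers g := ⟨_, rfl⟩
  have hHJ : H ≤ J := hJdef ▸ le_sup_left
  have hgJ : g ∈ J :=
    hJdef ▸ (le_sup_right : Subgroup.zpowers g ≤ H ⊔ Subgroup.zpowers g) (Subgroup.mem_zpowers g)
  have hJN : J ≤ Subgroup.normalizer (H : Set G) := by
    rw [hJdef]
    exact sup_le Subgroup.le_normalizer ((Subgroup.zpowers_le).mpr hg)
  haveI hNn : (H.subgroupOf J).Normal := (Subgroup.normal_subgroupOf_iff_le_normalizer hHJ).mpr hJN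
  obtain ⟨N, hNdef⟩ : ∃ N : Subgroup J, N = H.subgroupOf J := ⟨_, rfl⟩
  haveI : N.Normal := hNdef ▸ hNn
  have hmemN : ∀ u : J, u ∈ N ↔ (u : G) ∈ H := by
    intro u; rw [hNdef]; exact Subgroup.mem_subgroupOf
  obtain ⟨gJ, hgJdef⟩ : ∃ gJ : J, gJ = ⟨g, hgJ⟩ := ⟨_, rfl⟩
  obtain ⟨hJ, hhJdef⟩ : ∃ hJ : J, hJ = ⟨h, hHJ hh⟩ := ⟨_, rfl⟩
  have hgJv : (gJ : G) = g := by rw [hgJdef]
  have hhJv : (hJ : G) = h := by rw [hhJdef]
  have hord : orderOf gJ = orderOf g := by rw [← hgJv, Subgroup.orderOf_coe]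
  have hcardN : Nat.card N = Nat.card H := by
    rw [hNdef]; exact Nat.card_congr (Subgroup.subgroupOfEquivOfLe hHJ).toEquiv
  have hcardK₁ : Nat.card (Subgroup.zpowers gJ) = orderOf g := by rw [Nat.card_zpowers, hord]
  have hcopNK : Nat.Coprime (Nat.card N) (Nat.card (Subgroup.zpowers gJ)) := by
    rw [hcardN, hcardK₁]; exact hcop.symm
  have hinf : N ⊓ Subgroup.zpowers gJ = ⊥ := Subgroup.inf_eq_bot_of_coprime hcopNK
  -- first complement
  have hsup : N ⊔ Subgroup.zpowers gJ = ⊤ := by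
    apply Subgroup.map_injective J.subtype_injective
    rw [Subgroup.map_sup, hNdef, Subgroup.subgroupOf_map_subtype, inf_of_le_left hHJ,
      MonoidHom.map_zpowers, Subgroup.coe_subtype, hgJv, ← hJdef, ← MonoidHom.range_eq_map,
      Subgroup.range_subtype]
  have hc1 : Subgroup.IsComplement' N (Subgroup.zpowers gJ) := by
    apply Subgroup.isComplement'_of_disjoint_and_mul_eq_univ (disjoint_iff.mpr hinf)
    rw [← Subgroup.normal_mul, hsup, Subgroup.coe_top]
  have hcardJ : Nat.card N * Nat.card (Subgroup.zpowers gJ) = Nat.card J := hc1.card_mul_card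
  -- quotient map
  have hπN : ∀ u : J, (QuotientGroup.mk' N u = 1) ↔ u ∈ N := fun u => QuotientGroup.eq_one_iff u
  have hπh : QuotientGroup.mk' N hJ = 1 := (hπN hJ).mpr ((hmemN hJ).mpr (hhJv ▸ hh))
  have hpow_mem : ∀ t : ℤ, gJ ^ t ∈ N → gJ ^ t = 1 := by
    intro t ht
    have : gJ ^ t ∈ N ⊓ Subgroup.zpowers gJ := ⟨ht, Subgroup.zpow_mem_zpowers gJ t⟩
    rw [hinf, Subgroup.mem_bot] at this
    exact this
  -- second complement
  obtain ⟨y, hydef⟩ : ∃ y : J, y = hJ * gJ := ⟨_, rfl⟩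
  have hπy : QuotientGroup.mk' N y = QuotientGroup.mk' N gJ := by
    rw [hydef, map_mul, hπh, one_mul]
  obtain ⟨z, hzdef⟩ : ∃ z : J, z = y ^ Nat.card H := ⟨_, rfl⟩
  have hπz : QuotientGroup.mk' N z = QuotientGroup.mk' N (gJ ^ Nat.card H) := by
    rw [hzdef, map_pow, hπy, map_pow]
  have hzn : z ^ orderOf g = 1 := by
    rw [hzdef, ← pow_mul, ← hcardN, ← hcardK₁, hcardJ]
    exact pow_card_eq_one'
  have hordz : orderOf z = orderOf g := by
    apply Nat.dvd_antisymm (orderOf_dvd_of_pow_eq_one hzn)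
    have h1 : z ^ orderOf z = 1 := pow_orderOf_eq_one z
    have h2 : QuotientGroup.mk' N (gJ ^ (Nat.card H * orderOf z)) = 1 := by
      rw [pow_mul, map_pow, ← hπz, ← map_pow, h1, map_one]
    have h3 : gJ ^ (Nat.card H * orderOf z) = 1 := by
      have := hpow_mem ((Nat.card H * orderOf z : ℕ) : ℤ) (by
        rw [zpow_natCast]; exact (hπN _).mp h2)
      rwa [zpow_natCast] at this
    have h4 : orderOf g ∣ Nat.card H * orderOf z := by
      rw [← hord]; exact orderOf_dvd_of_pow_eq_one h3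
    exact hcop.dvd_of_dvd_mul_left h4
  have hcardK₂ : Nat.card (Subgroup.zpowers z) = orderOf g := by rw [Nat.card_zpowers, hordz]
  have hc2 : Subgroup.IsComplement' N (Subgroup.zpowers z) := by
    apply Subgroup.isComplement'_of_coprime
    · rw [hcardK₂, ← hcardK₁]; exact hcardJ
    · rw [hcardN, hcardK₂]; exact hcop.symm
  -- Schur-Zassenhaus
  have hidx : N.index = orderOf g := by
    rw [hc1.symm.index_eq_card, hcardK₁]
  have hNcop : (Nat.card N).Coprime N.index := by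
    rw [hidx, hcardN]; exact hcop.symm
  haveI hsolK : IsSolvable (Subgroup.zpowers gJ) := by
    apply isSolvable_of_comm
    intro a b
    obtain ⟨i, hi⟩ := Subgroup.mem_zpowers_iff.mp a.2
    obtain ⟨k, hk⟩ := Subgroup.mem_zpowers_iff.mp b.2
    apply Subtype.ext
    show (a : J) * (b : J) = (b : J) * (a : J)
    rw [← hi, ← hk]
    exact zpow_mul_comm gJ i k
  have hsolv : IsSolvable (J ⧸ N) :=
    solvable_of_solvable_injective (f := (hc1.symm.QuotientMulEquiv).toMonoidHom)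
      (hc1.symm.QuotientMulEquiv).injective
  obtain ⟨x, hx⟩ := Cfsg.Agent.S0001.result N hNcop (Or.inr hsolv) (Subgroup.zpowers z)
    (Subgroup.zpowers gJ) hc2 hc1
  -- decompose x = b * a
  obtain ⟨⟨b, a⟩, hba⟩ := hc1.symm.2 x
  simp only at hba
  have hxz : x * z * x⁻¹ ∈ Subgroup.zpowers gJ := by
    rw [← hx]
    have := Subgroup.smul_mem_pointwise_smul z (MulAut.conj x) (Subgroup.zpowers z)
      (Subgroup.mem_zpowers z)
    rwa [MulAut.smul_def, MulAut.conj_apply] at this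
  have hw : (a : J) * z * (a : J)⁻¹ ∈ Subgroup.zpowers gJ := by
    have e : (a : J) * z * (a : J)⁻¹ = (b : J)⁻¹ * (x * z * x⁻¹) * (b : J) := by
      rw [← hba]; group
    rw [e]
    exact Subgroup.mul_mem _ (Subgroup.mul_mem _ (Subgroup.inv_mem _ b.2) hxz) b.2
  obtain ⟨j, hj⟩ := Subgroup.mem_zpowers_iff.mp hw
  have hπa : QuotientGroup.mk' N (a : J) = 1 := (hπN _).mpr a.2
  have hwm : (a : J) * z * (a : J)⁻¹ = gJ ^ Nat.card H := by
    rw [← hj]
    have h1 : QuotientGroup.mk' N (gJ ^ j) = QuotientGroup.mk' N (gJ ^ Nat.card H) := by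
      rw [hj, map_mul, map_mul, map_inv, hπa, one_mul, inv_one, mul_one, hπz]
    have h2 : gJ ^ (j - (Nat.card H : ℤ)) ∈ N := by
      rw [← hπN, zpow_sub, map_mul, map_inv, zpow_natCast, h1, mul_inv_cancel]
    have h3 := hpow_mem _ h2
    rw [zpow_sub, zpow_natCast, mul_inv_eq_one] at h3
    exact h3
  -- the conjugate y'
  obtain ⟨y', hy'def⟩ : ∃ y' : J, y' = (a : J) * y * (a : J)⁻¹ := ⟨_, rfl⟩
  have hy'm : y' ^ Nat.card H = gJ ^ Nat.card H := by
    rw [hy'def, conj_pow, ← hzdef, hwm]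
  -- gJ is a power of y'
  have hcomm : gJ * y' = y' * gJ := by
    have hcop' : Nat.Coprime (Nat.card H) (orderOf gJ) := by rw [hord]; exact hcop.symm
    have hb := Nat.gcd_eq_gcd_ab (Nat.card H) (orderOf gJ)
    rw [Nat.Coprime.gcd_eq_one hcop', Nat.cast_one] at hb
    have hgs : gJ = (gJ ^ Nat.card H) ^ (Nat.gcdA (Nat.card H) (orderOf gJ)) := by
      have h1 : gJ ^ (1 : ℤ) = gJ ^ ((Nat.card H : ℤ) * Nat.gcdA (Nat.card H) (orderOf gJ)
          + (orderOf gJ : ℤ) * Nat.gcdB (Nat.card H) (orderOf gJ)) := by rw [← hb]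
      rw [zpow_one, zpow_add, zpow_mul, zpow_mul, zpow_natCast, zpow_natCast, pow_orderOf_eq_one,
        one_zpow, mul_one] at h1
      exact h1
    rw [← hy'm] at hgs
    rw [hgs]
    exact (((Commute.refl y').pow_left _).zpow_left _).eq
  -- conclusion
  have hy'v : (y' : G) = ((a : J) : G) * (h * g) * ((a : J) : G)⁻¹ := by
    rw [hy'def, hydef]
    simp [hhJv, hgJv]
  have hcN : y' * gJ⁻¹ ∈ N := by
    rw [← hπN, map_mul, map_inv, hy'def, map_mul, map_mul, map_inv, hπa, one_mul, inv_one,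
      mul_one, hπy, mul_inv_cancel]
  refine ⟨((a : J) : G), (hmemN _).mp a.2, ((y' * gJ⁻¹ : J) : G), (hmemN _).mp hcN, ?_, ?_⟩
  · have h1 : (y' * gJ⁻¹) * gJ = gJ * (y' * gJ⁻¹) := by
      rw [inv_mul_cancel_right, ← mul_assoc, hcomm, mul_inv_cancel_right]
    have h2 := congrArg (Subtype.val : J → G) h1
    simpa [hgJv] using h2
  · rw [← hy'v]
    have h1 : y' = (y' * gJ⁻¹) * gJ := by rw [inv_mul_cancel_right]
    have h2 := congrArg (Subtype.val : J → G) h1
    simpa [hgJv] using h2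

end Cfsg.Agent.S1496
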