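import Cfsg.Statements.S1500
import Mathlib
import Cfsg.Agent.Lib_helper8_Dade
-- import your own Cfsg.Agent.* helpers here

set_option autoImplicit false
open Cfsg

namespace Cfsg.Agent.S1500


open scoped ComplexConjugate
open Classical
open Cfsg.Agent.helper8

theorem sum_ite_const {G : Type*} [Group G] [Fintype G] (K : Subgroup G) (c : ℂ) :
    ∑ u : G, (if u ∈ K then c else 0) = (Nat.card K : ℂ) * c := by
  rw [Finset.sum_ite, Finset.sum_const, Finset.sum_const_zero, add_zero, nsmul_eq_mul]
  letI : Fintype K := Fintype.ofFinite K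
  rw [Nat.card_eq_fintype_card, Fintype.card_of_subtype (Finset.univ.filter (· ∈ K)) (by simp)]

theorem finsum_mem_eq_sum_ite {G : Type*} [Fintype G] (S : Set G) (f : G → ℂ) :
    ∑ᶠ u ∈ S, f u = ∑ u : G, if u ∈ S then f u else 0 := by
  rw [finsum_eq_sum_of_fintype]
  apply Finset.sum_congr rfl
  intro u _
  exact finsum_eq_if

/-- Under the Dade hypothesis for (A, L, H), let α be a class function of L vanishing outside A. Then (i) for every class function β of L vanishing outside A, the inner product over G of the Dade images of α and β equals the inner product of α and β over L; and (ii) for every class function χ of G and every function ψ on L whose value at each a ∈ A is the average of χ over the coset a·H(a), the inner product over G of the Dade image of α with χ equals the inner product over L of α with ψ. -/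
theorem result {G : Type*} [Group G] [Fintype G] (A : Set G) (L : Subgroup G) [Fintype L] (H : G → Subgroup G) (hD : Cfsg.DadeHypothesis A L H) (α : L → ℂ) (hα : Cfsg.IsClassFunction L α) (hαA : ∀ x : L, (x : G) ∉ A → α x = 0) : (∀ β : L → ℂ, Cfsg.IsClassFunction L β → (∀ x : L, (x : G) ∉ A → β x = 0) → Cfsg.classInner (Cfsg.dadeIsometry A L H α) (Cfsg.dadeIsometry A L H β) = Cfsg.classInner α β) ∧ (∀ (χ : G → ℂ) (ψ : L → ℂ), Cfsg.IsClassFunction G χ → (∀ a : L, (a : G) ∈ A → ψ a = (Nat.card (H a) : ℂ)⁻¹ * ∑ᶠ u ∈ (H a : Set G), χ (a * u)) → Cfsg.classInner (Cfsg.dadeIsometry A L H α) χ = Cfsg.classInner α ψ) := by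
  have hG : (Nat.card G : ℂ) ≠ 0 := by exact_mod_cast (Nat.card_pos (α := G)).ne'
  have hL : (Nat.card L : ℂ) ≠ 0 := by exact_mod_cast (Nat.card_pos (α := L)).ne'
  have key : ∀ (F : G → ℂ), IsClassFunction G F →
      (Nat.card G : ℂ)⁻¹ * ∑ g, dadeIsometry A L H α g * F g
        = (Nat.card L : ℂ)⁻¹ * ∑ a : L, (if (a : G) ∈ A then
          α a * ((Nat.card (H (a : G)) : ℂ)⁻¹ *
            ∑ u : G, (if u ∈ H (a : G) then F ((a : G) * u) else 0)) else 0) := by
    intro F hF
    rw [dade_master A L H hD α hα F hF]
    field_simp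
  constructor
  · intro β hβ hβA
    have hFβ : IsClassFunction G (fun g => conj (dadeIsometry A L H β g)) := by
      intro g k
      simp only
      rw [dade_isClassFunction A L H hD β hβ g k]
    show (Nat.card G : ℂ)⁻¹ * ∑ g, dadeIsometry A L H α g * conj (dadeIsometry A L H β g)
      = (Nat.card L : ℂ)⁻¹ * ∑ a : L, α a * conj (β a)
    rw [key _ hFβ]
    congr 1
    apply Finset.sum_congr rfl
    intro a _
    by_cases haA : (a : G) ∈ A
    · rw [if_pos haA]
      have h1 : ∑ u : G, (if u ∈ H (a : G) then
          conj (dadeIsometry A L H β ((a : G) * u)) else 0)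
          = ∑ u : G, (if u ∈ H (a : G) then conj (β a) else 0) := by
        apply Finset.sum_congr rfl
        intro u _
        by_cases hu : u ∈ H (a : G)
        · rw [if_pos hu, if_pos hu, dade_apply A L H hD β hβ _ a haA 1 u hu (by group)]
        · rw [if_neg hu, if_neg hu]
      rw [h1, sum_ite_const]
      have hne : (Nat.card (H (a : G)) : ℂ) ≠ 0 := by
        exact_mod_cast (Nat.card_pos (α := H (a : G))).ne'
      field_simp
    · rw [if_neg haA, hαA a haA, zero_mul]
  · intro χ ψ hχ hψ
    have hFχ : IsClassFunction G (fun g => conj (χ g)) := by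
      intro g k
      simp only
      rw [hχ g k]
    show (Nat.card G : ℂ)⁻¹ * ∑ g, dadeIsometry A L H α g * conj (χ g)
      = (Nat.card L : ℂ)⁻¹ * ∑ a : L, α a * conj (ψ a)
    rw [key _ hFχ]
    congr 1
    apply Finset.sum_congr rfl
    intro a _
    by_cases haA : (a : G) ∈ A
    · rw [if_pos haA]
      have e : conj (ψ a) = (Nat.card (H (a : G)) : ℂ)⁻¹ *
          ∑ u : G, (if u ∈ H (a : G) then conj (χ ((a : G) * u)) else 0) := by
        rw [hψ a haA, finsum_mem_eq_sum_ite, map_mul, map_inv₀, map_natCast, map_sum]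
        congr 1
        apply Finset.sum_congr rfl
        intro u _
        by_cases hu : u ∈ H (a : G)
        · rw [if_pos hu, if_pos (show u ∈ ((H (a : G) : Subgroup G) : Set G) from hu)]
        · rw [if_neg hu, if_neg (show ¬ u ∈ ((H (a : G) : Subgroup G) : Set G) from hu), map_zero]
      rw [e]
    · rw [if_neg haA, hαA a haA, zero_mul]

end Cfsg.Agent.S1500
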