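import Cfsg.Statements.S1503
import Mathlib
import Cfsg.Agent.Lib_helper8_AbQuot

set_option autoImplicit false
open Cfsg

namespace Cfsg.Agent.S1503

open Cfsg.Agent.helper8 Cfsg.Agent.helper24
open scoped ComplexConjugate

/-- Let W₁, W₂ ≤ G with W = W₁ ⊔ W₂ and let χ an orthonormal family of irreducible characters of G up to sign, indexed by the linear characters ω of W, with χ_1 = 1, χ_ω = ω on W outside W₁ ∪ W₂, and the induction identity for (1 − φ)(1 − ψ). If θ is an irreducible character of G orthogonal to χ ω for every linear character ω of W, then θ vanishes at every element of W lying outside W₁ ∪ W₂. -/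
theorem result {G : Type*} [Group G] [Fintype G] (W₁ W₂ : Subgroup G) (hW : Cfsg.IsSelfNormalizingCyclic W₁ W₂) (χ : (↥(W₁ ⊔ W₂) →* ℂˣ) → (G → ℂ)) (hχ : Cfsg.IsCyclicTIFamily W₁ W₂ χ) (θ : G → ℂ) (hθ : Cfsg.IsIrrCharacter G θ) (horth : ∀ ω, Cfsg.classInner θ (χ ω) = 0) (w : ↥(W₁ ⊔ W₂)) (hw₁ : (w : G) ∉ W₁) (hw₂ : (w : G) ∉ W₂) : θ w = 0 := by
  classical
  obtain ⟨-, -, hinf, -, hcyc, -⟩ := hW
  haveI : Fintype ↥(W₁ ⊔ W₂) := Fintype.ofFinite _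
  have hcomm : ∀ x y : ↥(W₁ ⊔ W₂), x * y = y * x := by
    obtain ⟨g, hg⟩ := IsCyclic.exists_generator (α := ↥(W₁ ⊔ W₂))
    intro x y
    obtain ⟨i, rfl⟩ := Subgroup.mem_zpowers_iff.mp (hg x)
    obtain ⟨j, rfl⟩ := Subgroup.mem_zpowers_iff.mp (hg y)
    exact zpow_mul_comm g i j
  have hnormal : ∀ N : Subgroup ↥(W₁ ⊔ W₂), N.Normal := by
    intro N
    refine ⟨fun n hn g => ?_⟩
    rw [hcomm g n, mul_inv_cancel_right]
    exact hn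
  have hab : ∀ N : Subgroup ↥(W₁ ⊔ W₂), ∀ x y : ↥(W₁ ⊔ W₂), x * y * x⁻¹ * y⁻¹ ∈ N := by
    intro N x y
    have : x * y * x⁻¹ * y⁻¹ = 1 := by rw [hcomm x y]; group
    rw [this]
    exact N.one_mem
  haveI := hnormal (W₁.subgroupOf (W₁ ⊔ W₂))
  haveI := hnormal (W₂.subgroupOf (W₁ ⊔ W₂))
  obtain ⟨L₂, hL₂a, hL₂b⟩ := exists_linear_family (W₂.subgroupOf (W₁ ⊔ W₂)) (hab _)
  obtain ⟨L₁, hL₁a, hL₁b⟩ := exists_linear_family (W₁.subgroupOf (W₁ ⊔ W₂)) (hab _)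
  -- the functions alpha
  obtain ⟨α, hα⟩ : ∃ α : (↥(W₁ ⊔ W₂) →* ℂˣ) → (↥(W₁ ⊔ W₂) →* ℂˣ) → (↥(W₁ ⊔ W₂) → ℂ),
      α = fun φ ψ => fun x => 1 - (φ x : ℂ) - (ψ x : ℂ) + (φ x : ℂ) * (ψ x : ℂ) := ⟨_, rfl⟩
  have hαapp : ∀ φ ψ x, α φ ψ x = (1 - (φ x : ℂ)) * (1 - (ψ x : ℂ)) := by
    intro φ ψ x
    rw [hα]
    ring
  have hθc : IsClassFunction G θ := char_isClassFunction (irr_isCharacter hθ)
  have horth' : ∀ ω, classInner (χ ω) θ = 0 := by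
    intro ω
    rw [← classInner_conj_symm, horth ω, map_zero]
  -- each induced alpha is orthogonal to theta
  have hzero : ∀ φ ∈ L₂, ∀ ψ ∈ L₁, classInner (indFun (W₁ ⊔ W₂) (α φ ψ)) θ = 0 := by
    intro φ hφ ψ hψ
    by_cases h1 : φ = 1
    · have : α φ ψ = 0 := by
        funext x
        rw [hαapp, h1]
        simp
      rw [this, frobenius _ _ _ hθc, classInner_zero_left]
    by_cases h2 : ψ = 1
    · have : α φ ψ = 0 := by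
        funext x
        rw [hαapp, h2]
        simp
      rw [this, frobenius _ _ _ hθc, classInner_zero_left]
    have hφ₂ : ∀ x : ↥(W₁ ⊔ W₂), (x : G) ∈ W₂ → φ x = 1 :=
      fun x hx => hL₂a φ hφ x (Subgroup.mem_subgroupOf.mpr hx)
    have hψ₁ : ∀ x : ↥(W₁ ⊔ W₂), (x : G) ∈ W₁ → ψ x = 1 :=
      fun x hx => hL₁a ψ hψ x (Subgroup.mem_subgroupOf.mpr hx)
    have hind := hχ.induced_eq φ ψ h1 h2 hφ₂ hψ₁
    have e : indFun (W₁ ⊔ W₂) (α φ ψ) = χ 1 - χ φ - χ ψ + χ (φ * ψ) := by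
      rw [hα]
      simp only
      rw [hind, hχ.map_one]
      funext g
      simp
    rw [e, classInner_add_left, classInner_sub_left, classInner_sub_left, horth', horth', horth',
      horth']
    ring
  -- the combination F
  obtain ⟨F, hF⟩ : ∃ F : ↥(W₁ ⊔ W₂) → ℂ, F = ∑ φ ∈ L₂, ∑ ψ ∈ L₁,
      (((φ w⁻¹ : ℂˣ) : ℂ) * ((ψ w⁻¹ : ℂˣ) : ℂ)) • α φ ψ := ⟨_, rfl⟩
  have hFzero : classInner (indFun (W₁ ⊔ W₂) F) θ = 0 := by
    rw [hF, indFun_sum, classInner_sum_left]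
    apply Finset.sum_eq_zero
    intro φ hφ
    rw [indFun_sum, classInner_sum_left]
    apply Finset.sum_eq_zero
    intro ψ hψ
    rw [indFun_smul, classInner_smul_left, hzero φ hφ ψ hψ, mul_zero]
  -- evaluate F
  have hw2 : w ∉ W₂.subgroupOf (W₁ ⊔ W₂) := fun h => hw₂ (Subgroup.mem_subgroupOf.mp h)
  have hw1 : w ∉ W₁.subgroupOf (W₁ ⊔ W₂) := fun h => hw₁ (Subgroup.mem_subgroupOf.mp h)
  have hw2' : w⁻¹ ∉ W₂.subgroupOf (W₁ ⊔ W₂) := fun h => hw2 (by simpa using Subgroup.inv_mem _ h)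
  have hw1' : w⁻¹ ∉ W₁.subgroupOf (W₁ ⊔ W₂) := fun h => hw1 (by simpa using Subgroup.inv_mem _ h)
  have hFval : ∀ x : ↥(W₁ ⊔ W₂), F x
      = (if w⁻¹ * x ∈ W₂.subgroupOf (W₁ ⊔ W₂) then ((W₂.subgroupOf (W₁ ⊔ W₂)).index : ℂ) else 0)
        * (if w⁻¹ * x ∈ W₁.subgroupOf (W₁ ⊔ W₂) then ((W₁.subgroupOf (W₁ ⊔ W₂)).index : ℂ)
          else 0) := by
    intro x
    have h1 : F x = (∑ φ ∈ L₂, ((φ w⁻¹ : ℂˣ) : ℂ) * (1 - (φ x : ℂ)))
        * (∑ ψ ∈ L₁, ((ψ w⁻¹ : ℂˣ) : ℂ) * (1 - (ψ x : ℂ))) := by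
      rw [hF, Finset.sum_mul_sum, Finset.sum_apply]
      apply Finset.sum_congr rfl
      intro φ _
      rw [Finset.sum_apply]
      apply Finset.sum_congr rfl
      intro ψ _
      rw [Pi.smul_apply, smul_eq_mul, hαapp]
      ring
    have h2 : ∑ φ ∈ L₂, ((φ w⁻¹ : ℂˣ) : ℂ) * (1 - (φ x : ℂ))
        = - (if w⁻¹ * x ∈ W₂.subgroupOf (W₁ ⊔ W₂) then
          ((W₂.subgroupOf (W₁ ⊔ W₂)).index : ℂ) else 0) := by
      have : ∀ φ ∈ L₂, ((φ w⁻¹ : ℂˣ) : ℂ) * (1 - (φ x : ℂ))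
          = ((φ w⁻¹ : ℂˣ) : ℂ) - ((φ (w⁻¹ * x) : ℂˣ) : ℂ) := by
        intro φ _
        rw [map_mul, Units.val_mul]
        ring
      rw [Finset.sum_congr rfl this, Finset.sum_sub_distrib, hL₂b, hL₂b, if_neg hw2', zero_sub]
    have h3 : ∑ ψ ∈ L₁, ((ψ w⁻¹ : ℂˣ) : ℂ) * (1 - (ψ x : ℂ))
        = - (if w⁻¹ * x ∈ W₁.subgroupOf (W₁ ⊔ W₂) then
          ((W₁.subgroupOf (W₁ ⊔ W₂)).index : ℂ) else 0) := by
      have : ∀ ψ ∈ L₁, ((ψ w⁻¹ : ℂˣ) : ℂ) * (1 - (ψ x : ℂ))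
          = ((ψ w⁻¹ : ℂˣ) : ℂ) - ((ψ (w⁻¹ * x) : ℂˣ) : ℂ) := by
        intro ψ _
        rw [map_mul, Units.val_mul]
        ring
      rw [Finset.sum_congr rfl this, Finset.sum_sub_distrib, hL₁b, hL₁b, if_neg hw1', zero_sub]
    rw [h1, h2, h3, neg_mul_neg]
  have hFw : ∀ x : ↥(W₁ ⊔ W₂), x ≠ w → F x = 0 := by
    intro x hx
    rw [hFval x]
    by_cases h2 : w⁻¹ * x ∈ W₂.subgroupOf (W₁ ⊔ W₂)
    · by_cases h1 : w⁻¹ * x ∈ W₁.subgroupOf (W₁ ⊔ W₂)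
      · exfalso
        apply hx
        have hmem : ((w⁻¹ * x : ↥(W₁ ⊔ W₂)) : G) ∈ W₁ ⊓ W₂ :=
          ⟨Subgroup.mem_subgroupOf.mp h1, Subgroup.mem_subgroupOf.mp h2⟩
        rw [hinf, Subgroup.mem_bot] at hmem
        have h3 : w⁻¹ * x = 1 := Subtype.ext hmem
        exact (inv_mul_eq_one.mp h3).symm
      · rw [if_neg h1, mul_zero]
    · rw [if_neg h2, zero_mul]
  have hFww : F w ≠ 0 := by
    rw [hFval w, inv_mul_cancel, if_pos (Subgroup.one_mem _), if_pos (Subgroup.one_mem _)]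
    apply mul_ne_zero
    · exact_mod_cast (Subgroup.index_ne_zero_of_finite (H := W₂.subgroupOf (W₁ ⊔ W₂)))
    · exact_mod_cast (Subgroup.index_ne_zero_of_finite (H := W₁.subgroupOf (W₁ ⊔ W₂)))
  rw [frobenius _ _ _ hθc] at hFzero
  unfold classInner at hFzero
  rw [Finset.sum_eq_single w (fun x _ hx => by rw [hFw x hx, zero_mul])
    (fun h => absurd (Finset.mem_univ w) h)] at hFzero
  have hW0 : (Nat.card ↥(W₁ ⊔ W₂) : ℂ) ≠ 0 := by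
    exact_mod_cast (Nat.card_pos (α := ↥(W₁ ⊔ W₂))).ne'
  rcases mul_eq_zero.mp hFzero with h | h
  · exact absurd h (inv_ne_zero hW0)
  · rcases mul_eq_zero.mp h with h | h
    · exact absurd h hFww
    · exact (map_eq_zero _).mp h

end Cfsg.Agent.S1503
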