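import Cfsg.Statements.S1504
import Mathlib
-- import your own Cfsg.Agent.* helpers here

set_option autoImplicit false
open Cfsg

namespace Cfsg.Agent.S1504


noncomputable def homC {W : Type*} [Group W] (φ : W →* ℂˣ) : W →* ℂ := (Units.coeHom ℂ).comp φ

theorem homC_apply {W : Type*} [Group W] (φ : W →* ℂˣ) (w : W) : homC φ w = (φ w : ℂ) := rfl

theorem homC_inj {W : Type*} [Group W] (φ φ' : W →* ℂˣ) (h : homC φ = homC φ') : φ = φ' := by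
  apply MonoidHom.ext; intro w
  apply Units.ext
  have := DFunLike.congr_fun h w
  simpa [homC_apply] using this

theorem hom_ext_sup {G : Type*} [Group G] (W₁ W₂ : Subgroup G) (χ χ' : ↥(W₁ ⊔ W₂) →* ℂˣ)
    (h1 : ∀ w : ↥(W₁ ⊔ W₂), (w : G) ∈ W₁ → χ w = χ' w)
    (h2 : ∀ w : ↥(W₁ ⊔ W₂), (w : G) ∈ W₂ → χ w = χ' w) : χ = χ' := by
  have hle : W₁ ⊔ W₂ ≤ (MonoidHom.eqLocus χ χ').map (W₁ ⊔ W₂).subtype := by
    apply sup_le
    · intro a ha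
      exact ⟨⟨a, Subgroup.mem_sup_left ha⟩, h1 _ ha, rfl⟩
    · intro a ha
      exact ⟨⟨a, Subgroup.mem_sup_right ha⟩, h2 _ ha, rfl⟩
  apply MonoidHom.ext; intro w
  obtain ⟨w', hw', hww⟩ := hle w.2
  have hw'' : w' = w := Subtype.ext hww
  subst hw''
  exact hw'

/-- Let W₁, W₂ be subgroups of a finite group with W₁ ⊓ W₂ = ⊥ whose elements commute, and W = W₁ ⊔ W₂. For linear characters φ, ψ of W with φ trivial on W₂ and ψ trivial on W₁, the function (1 − φ)(1 − ψ) vanishes on W₁ ∪ W₂; and the family of these functions, indexed by pairs (φ, ψ) with φ ≠ 1 ≠ ψ, is linearly independent over ℂ. -/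
theorem result {G : Type*} [Group G] [Finite G] (W₁ W₂ : Subgroup G) (hdisj : W₁ ⊓ W₂ = ⊥) (hcomm : ∀ a ∈ W₁, ∀ b ∈ W₂, a * b = b * a) : (∀ φ ψ : ↥(W₁ ⊔ W₂) →* ℂˣ, (∀ w : ↥(W₁ ⊔ W₂), (w : G) ∈ W₂ → φ w = 1) → (∀ w : ↥(W₁ ⊔ W₂), (w : G) ∈ W₁ → ψ w = 1) → ∀ w : ↥(W₁ ⊔ W₂), ((w : G) ∈ W₁ ∨ (w : G) ∈ W₂) → (1 - (φ w : ℂ) - (ψ w : ℂ) + (φ w : ℂ) * (ψ w : ℂ)) = 0) ∧ LinearIndependent ℂ (fun p : {p : (↥(W₁ ⊔ W₂) →* ℂˣ) × (↥(W₁ ⊔ W₂) →* ℂˣ) // p.1 ≠ 1 ∧ p.2 ≠ 1 ∧ (∀ w : ↥(W₁ ⊔ W₂), (w : G) ∈ W₂ → p.1 w = 1) ∧ (∀ w : ↥(W₁ ⊔ W₂), (w : G) ∈ W₁ → p.2 w = 1)} => fun w : ↥(W₁ ⊔ W₂) => 1 - (p.1.1 w : ℂ) - (p.1.2 w : ℂ) + (p.1.1 w : ℂ) * (p.1.2 w : ℂ)) := by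
  classical
  refine ⟨?_, ?_⟩
  · intro φ ψ hφ hψ w hw
    rcases hw with hw | hw
    · rw [hψ w hw, Units.val_one]; ring
    · rw [hφ w hw, Units.val_one]; ring
  · rw [linearIndependent_iff']
    intro s c hsum p₀ hp₀
    obtain ⟨⟨φ₀, ψ₀⟩, hφ₀, hψ₀, hφ₀t, hψ₀t⟩ := p₀
    simp only at hφ₀ hψ₀ hφ₀t hψ₀t
    have hded := linearIndependent_monoidHom (↥(W₁ ⊔ W₂)) ℂ
    -- the four non-coincidences
    have h_e : homC (1 : ↥(W₁ ⊔ W₂) →* ℂˣ) ≠ homC (φ₀ * ψ₀) := by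
      intro h
      have h' := homC_inj _ _ h
      apply hφ₀
      apply hom_ext_sup
      · intro w hw
        have := DFunLike.congr_fun h' w
        rw [MonoidHom.mul_apply, hψ₀t w hw, mul_one] at this
        exact this.symm
      · intro w hw
        rw [hφ₀t w hw]; rfl
    have h_c : ∀ p : {p : (↥(W₁ ⊔ W₂) →* ℂˣ) × (↥(W₁ ⊔ W₂) →* ℂˣ) // p.1 ≠ 1 ∧ p.2 ≠ 1 ∧ (∀ w : ↥(W₁ ⊔ W₂), (w : G) ∈ W₂ → p.1 w = 1) ∧ (∀ w : ↥(W₁ ⊔ W₂), (w : G) ∈ W₁ → p.2 w = 1)}, homC p.1.1 ≠ homC (φ₀ * ψ₀) := by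
      intro p h
      have h' := homC_inj _ _ h
      apply hψ₀
      apply hom_ext_sup
      · intro w hw
        rw [hψ₀t w hw]; rfl
      · intro w hw
        have := DFunLike.congr_fun h' w
        rw [MonoidHom.mul_apply, hφ₀t w hw, one_mul, p.2.2.2.1 w hw] at this
        rw [← this]; rfl
    have h_d : ∀ p : {p : (↥(W₁ ⊔ W₂) →* ℂˣ) × (↥(W₁ ⊔ W₂) →* ℂˣ) // p.1 ≠ 1 ∧ p.2 ≠ 1 ∧ (∀ w : ↥(W₁ ⊔ W₂), (w : G) ∈ W₂ → p.1 w = 1) ∧ (∀ w : ↥(W₁ ⊔ W₂), (w : G) ∈ W₁ → p.2 w = 1)}, homC p.1.2 ≠ homC (φ₀ * ψ₀) := by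
      intro p h
      have h' := homC_inj _ _ h
      apply hφ₀
      apply hom_ext_sup
      · intro w hw
        have := DFunLike.congr_fun h' w
        rw [MonoidHom.mul_apply, hψ₀t w hw, mul_one, p.2.2.2.2 w hw] at this
        rw [← this]; rfl
      · intro w hw
        rw [hφ₀t w hw]; rfl
    have h_f : ∀ p : {p : (↥(W₁ ⊔ W₂) →* ℂˣ) × (↥(W₁ ⊔ W₂) →* ℂˣ) // p.1 ≠ 1 ∧ p.2 ≠ 1 ∧ (∀ w : ↥(W₁ ⊔ W₂), (w : G) ∈ W₂ → p.1 w = 1) ∧ (∀ w : ↥(W₁ ⊔ W₂), (w : G) ∈ W₁ → p.2 w = 1)}, homC (p.1.1 * p.1.2) = homC (φ₀ * ψ₀) ↔ p = ⟨⟨φ₀, ψ₀⟩, hφ₀, hψ₀, hφ₀t, hψ₀t⟩ := by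
      intro p
      constructor
      · intro h
        have h' := homC_inj _ _ h
        have e1 : p.1.1 = φ₀ := by
          apply hom_ext_sup
          · intro w hw
            have := DFunLike.congr_fun h' w
            rw [MonoidHom.mul_apply, MonoidHom.mul_apply, hψ₀t w hw, mul_one, p.2.2.2.2 w hw, mul_one] at this
            exact this
          · intro w hw
            rw [hφ₀t w hw, p.2.2.2.1 w hw]
        have e2 : p.1.2 = ψ₀ := by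
          apply hom_ext_sup
          · intro w hw
            rw [hψ₀t w hw, p.2.2.2.2 w hw]
          · intro w hw
            have := DFunLike.congr_fun h' w
            rw [MonoidHom.mul_apply, MonoidHom.mul_apply, hφ₀t w hw, one_mul, p.2.2.2.1 w hw, one_mul] at this
            exact this
        exact Subtype.ext (Prod.ext e1 e2)
      · intro h
        rw [h]
    -- the Finsupp combination
    have hF : Finsupp.linearCombination ℂ (fun f : ↥(W₁ ⊔ W₂) →* ℂ => (f : ↥(W₁ ⊔ W₂) → ℂ))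
        (∑ p ∈ s, c p • (Finsupp.single (homC (1 : ↥(W₁ ⊔ W₂) →* ℂˣ)) (1:ℂ) - Finsupp.single (homC p.1.1) (1:ℂ)
          - Finsupp.single (homC p.1.2) (1:ℂ) + Finsupp.single (homC (p.1.1 * p.1.2)) (1:ℂ))) = 0 := by
      rw [map_sum, ← hsum]
      apply Finset.sum_congr rfl
      intro p _
      rw [map_smul]
      congr 1
      simp only [map_add, map_sub, Finsupp.linearCombination_single, one_smul]
      funext w
      simp only [Pi.add_apply, Pi.sub_apply, homC_apply, MonoidHom.mul_apply, MonoidHom.one_apply, Units.val_one, Units.val_mul]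
    have hF0 := (linearIndependent_iff.mp hded) _ hF
    have hval := DFunLike.congr_fun hF0 (homC (φ₀ * ψ₀))
    rw [Finsupp.finset_sum_apply] at hval
    simp only [Finsupp.smul_apply, Finsupp.add_apply, Finsupp.sub_apply, Finsupp.single_apply,
      if_neg h_e, h_c, h_d, h_f, if_false, Finsupp.zero_apply, smul_eq_mul] at hval
    simp only [sub_zero, zero_add, mul_ite, mul_one, mul_zero] at hval
    rw [Finset.sum_ite_eq' s, if_pos hp₀] at hval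
    exact hval

end Cfsg.Agent.S1504
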