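import Cfsg.Statements.S1505
import Mathlib
import Cfsg.Agent.Lib_helper8_CyclicTI

set_option autoImplicit false
open Cfsg

namespace Cfsg.Agent.S1505

open Cfsg.Agent.helper8 Cfsg.Agent.helper24
open scoped ComplexConjugate

open Classical in
/-- Let W₁, W₂ ≤ G form a self-normalising cyclic subgroup W = W₁ ⊔ W₂. For nontrivial linear characters φ, φ' of W trivial on W₂ and ψ, ψ' trivial on W₁, put α = (1 − φ)(1 − ψ) and α' = (1 − φ')(1 − ψ'). Then the function induced from α to G has inner product 1 with the principal character, and the inner product of the functions induced from α and α' is 1 + a + b + ab where a = 1 if φ = φ' (else 0) and b = 1 if ψ = ψ' (else 0). -/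
theorem result {G : Type*} [Group G] [Fintype G] (W₁ W₂ : Subgroup G) (hW : Cfsg.IsSelfNormalizingCyclic W₁ W₂) (φ φ' ψ ψ' : ↥(W₁ ⊔ W₂) →* ℂˣ) (hφ : φ ≠ 1) (hφ' : φ' ≠ 1) (hψ : ψ ≠ 1) (hψ' : ψ' ≠ 1) (hφ₂ : ∀ w : ↥(W₁ ⊔ W₂), (w : G) ∈ W₂ → φ w = 1 ∧ φ' w = 1) (hψ₁ : ∀ w : ↥(W₁ ⊔ W₂), (w : G) ∈ W₁ → ψ w = 1 ∧ ψ' w = 1) : Cfsg.classInner (Cfsg.indFun (W₁ ⊔ W₂) (fun w => 1 - (φ w : ℂ) - (ψ w : ℂ) + (φ w : ℂ) * (ψ w : ℂ))) (fun _ => 1) = 1 ∧ Cfsg.classInner (Cfsg.indFun (W₁ ⊔ W₂) (fun w => 1 - (φ w : ℂ) - (ψ w : ℂ) + (φ w : ℂ) * (ψ w : ℂ))) (Cfsg.indFun (W₁ ⊔ W₂) (fun w => 1 - (φ' w : ℂ) - (ψ' w : ℂ) + (φ' w : ℂ) * (ψ' w : ℂ))) = 1 + (if φ = φ' then 1 else 0) + (if ψ = ψ' then 1 else 0) + (if φ = φ' then 1 else 0) * (if ψ = ψ' then 1 else 0) := by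
  classical
  haveI : Fintype ↥(W₁ ⊔ W₂) := Fintype.ofFinite _
  have t2 : ∀ v : ↥(W₁ ⊔ W₂), (v : G) ∈ W₂ → (1 : ↥(W₁ ⊔ W₂) →* ℂˣ) v = 1 := fun _ _ => rfl
  have t1 : ∀ v : ↥(W₁ ⊔ W₂), (v : G) ∈ W₁ → (1 : ↥(W₁ ⊔ W₂) →* ℂˣ) v = 1 := fun _ _ => rfl
  have hG : ∀ a a' b b' : ↥(W₁ ⊔ W₂) →* ℂˣ, (∀ v : ↥(W₁ ⊔ W₂), (v : G) ∈ W₂ → a v = 1) →
      (∀ v : ↥(W₁ ⊔ W₂), (v : G) ∈ W₂ → a' v = 1) → (∀ v : ↥(W₁ ⊔ W₂), (v : G) ∈ W₁ → b v = 1) →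
      (∀ v : ↥(W₁ ⊔ W₂), (v : G) ∈ W₁ → b' v = 1) →
      classInner (fun v => (((a * b) v : ℂˣ) : ℂ)) (fun v => (((a' * b') v : ℂˣ) : ℂ))
        = (if a = a' then (1 : ℂ) else 0) * (if b = b' then 1 else 0) := by
    intro a a' b b' ha ha' hb hb'
    rw [classInner_hom]
    have hiff := hom_mul_eq_iff a a' b b' ha ha' hb hb'
    by_cases h1 : a = a'
    · by_cases h2 : b = b'
      · rw [if_pos (hiff.mpr ⟨h1, h2⟩), if_pos h1, if_pos h2, one_mul]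
      · rw [if_neg (fun h => h2 (hiff.mp h).2), if_pos h1, if_neg h2, mul_zero]
    · rw [if_neg (fun h => h1 (hiff.mp h).1), if_neg h1, zero_mul]
  -- the functions alpha
  have hAeq : ∀ a b : ↥(W₁ ⊔ W₂) →* ℂˣ,
      (fun w : ↥(W₁ ⊔ W₂) => 1 - (a w : ℂ) - (b w : ℂ) + (a w : ℂ) * (b w : ℂ))
      = (fun v => ((((1 : ↥(W₁ ⊔ W₂) →* ℂˣ) * 1) v : ℂˣ) : ℂ))
        - (fun v => (((a * 1) v : ℂˣ) : ℂ)) - (fun v => (((1 * b) v : ℂˣ) : ℂ))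
        + (fun v => (((a * b) v : ℂˣ) : ℂ)) := by
    intro a b
    funext w
    simp
  have hAvan : ∀ a b : ↥(W₁ ⊔ W₂) →* ℂˣ, (∀ v : ↥(W₁ ⊔ W₂), (v : G) ∈ W₂ → a v = 1) →
      (∀ v : ↥(W₁ ⊔ W₂), (v : G) ∈ W₁ → b v = 1) →
      ∀ v : ↥(W₁ ⊔ W₂), ((v : G) ∈ W₁ ∨ (v : G) ∈ W₂) →
        (fun w : ↥(W₁ ⊔ W₂) => 1 - (a w : ℂ) - (b w : ℂ) + (a w : ℂ) * (b w : ℂ)) v = 0 := by
    intro a b ha hb v hv
    simp only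
    rcases hv with hv | hv
    · rw [hb v hv, Units.val_one]; ring
    · rw [ha v hv, Units.val_one]; ring
  have key : ∀ a a' b b' : ↥(W₁ ⊔ W₂) →* ℂˣ, (∀ v : ↥(W₁ ⊔ W₂), (v : G) ∈ W₂ → a v = 1) →
      (∀ v : ↥(W₁ ⊔ W₂), (v : G) ∈ W₂ → a' v = 1) → (∀ v : ↥(W₁ ⊔ W₂), (v : G) ∈ W₁ → b v = 1) →
      (∀ v : ↥(W₁ ⊔ W₂), (v : G) ∈ W₁ → b' v = 1) →
      classInner (fun w : ↥(W₁ ⊔ W₂) => 1 - (a w : ℂ) - (b w : ℂ) + (a w : ℂ) * (b w : ℂ))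
        (fun w : ↥(W₁ ⊔ W₂) => 1 - (a' w : ℂ) - (b' w : ℂ) + (a' w : ℂ) * (b' w : ℂ))
      = (1 - (if (1 : ↥(W₁ ⊔ W₂) →* ℂˣ) = a' then (1 : ℂ) else 0) - (if a = 1 then 1 else 0)
          + (if a = a' then 1 else 0))
        * (1 - (if (1 : ↥(W₁ ⊔ W₂) →* ℂˣ) = b' then (1 : ℂ) else 0) - (if b = 1 then 1 else 0)
          + (if b = b' then 1 else 0)) := by
    intro a a' b b' ha ha' hb hb'
    rw [hAeq a b, hAeq a' b']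
    simp only [classInner_add_left, classInner_sub_left, classInner_add_right,
      classInner_sub_right]
    rw [hG 1 1 1 1 t2 t2 t1 t1, hG 1 a' 1 1 t2 ha' t1 t1, hG 1 1 1 b' t2 t2 t1 hb',
      hG 1 a' 1 b' t2 ha' t1 hb',
      hG a 1 1 1 ha t2 t1 t1, hG a a' 1 1 ha ha' t1 t1, hG a 1 1 b' ha t2 t1 hb',
      hG a a' 1 b' ha ha' t1 hb',
      hG 1 1 b 1 t2 t2 hb t1, hG 1 a' b 1 t2 ha' hb t1, hG 1 1 b b' t2 t2 hb hb',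
      hG 1 a' b b' t2 ha' hb hb',
      hG a 1 b 1 ha t2 hb t1, hG a a' b 1 ha ha' hb t1, hG a 1 b b' ha t2 hb hb',
      hG a a' b b' ha ha' hb hb']
    simp only [if_true]
    ring
  have hφa : ∀ v : ↥(W₁ ⊔ W₂), (v : G) ∈ W₂ → φ v = 1 := fun v hv => (hφ₂ v hv).1
  have hφa' : ∀ v : ↥(W₁ ⊔ W₂), (v : G) ∈ W₂ → φ' v = 1 := fun v hv => (hφ₂ v hv).2
  have hψb : ∀ v : ↥(W₁ ⊔ W₂), (v : G) ∈ W₁ → ψ v = 1 := fun v hv => (hψ₁ v hv).1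
  have hψb' : ∀ v : ↥(W₁ ⊔ W₂), (v : G) ∈ W₁ → ψ' v = 1 := fun v hv => (hψ₁ v hv).2
  constructor
  · have hcl : IsClassFunction G (fun _ : G => (1 : ℂ)) := fun _ _ => rfl
    rw [frobenius _ _ _ hcl, hAeq φ ψ]
    have h1 : (fun _ : ↥(W₁ ⊔ W₂) => (1 : ℂ))
        = (fun v => ((((1 : ↥(W₁ ⊔ W₂) →* ℂˣ) * 1) v : ℂˣ) : ℂ)) := by
      funext v
      simp
    rw [h1]
    simp only [classInner_add_left, classInner_sub_left]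
    rw [hG 1 1 1 1 t2 t2 t1 t1, hG φ 1 1 1 hφa t2 t1 t1, hG 1 1 ψ 1 t2 t2 hψb t1,
      hG φ 1 ψ 1 hφa t2 hψb t1, if_neg hφ, if_neg hψ]
    simp
  · rw [snc_classInner_indFun hW _ _ (hAvan φ ψ hφa hψb) (hAvan φ' ψ' hφa' hψb'),
      key φ φ' ψ ψ' hφa hφa' hψb hψb', if_neg (Ne.symm hφ'), if_neg hφ, if_neg (Ne.symm hψ'),
      if_neg hψ]
    ring

end Cfsg.Agent.S1505
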