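import Cfsg.Statements.S1508
import Mathlib
import Cfsg.Agent.Lib_helper8_CycGal3

set_option autoImplicit false
open Cfsg

namespace Cfsg.Agent.S1508

/-- Let W₁, W₂ ≤ G form a self-normalising cyclic subgroup W = W₁ ⊔ W₂ of odd order and χ an orthonormal family of irreducible characters of G up to sign, indexed by the linear characters ω of W, with χ_1 = 1, χ_ω = ω on W outside W₁ ∪ W₂, and the induction identity for (1 − φ)(1 − ψ). Let ω be a linear character of W and g an element of G whose order is coprime to the order of ω. Then χ ω g is an integer. -/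
theorem result {G : Type*} [Group G] [Fintype G] (W₁ W₂ : Subgroup G) (hW : Cfsg.IsSelfNormalizingCyclic W₁ W₂) (hodd : Odd (Nat.card ↥(W₁ ⊔ W₂))) (χ : (↥(W₁ ⊔ W₂) →* ℂˣ) → (G → ℂ)) (hχ : Cfsg.IsCyclicTIFamily W₁ W₂ χ) (ω : ↥(W₁ ⊔ W₂) →* ℂˣ) (g : G) (hg : Nat.Coprime (orderOf g) (orderOf ω)) : ∃ n : ℤ, χ ω g = n := by
  classical
  have hN : Nat.card G ≠ 0 := Nat.card_pos.ne'
  have hWcard : Nat.card ↥(W₁ ⊔ W₂) ∣ Nat.card G := Subgroup.card_subgroup_dvd_card _
  have hωord : orderOf ω ∣ Nat.card G := by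
    refine dvd_trans (orderOf_dvd_of_pow_eq_one ?_) hWcard
    apply MonoidHom.ext
    intro w
    rw [MonoidHom.pow_apply, ← map_pow, pow_card_eq_one', map_one]
    rfl
  have key : ∀ s : ℕ, s.Coprime (Nat.card G) → χ ω (g ^ s) = χ ω g := by
    intro s hs
    obtain ⟨u, u', huu', hus, hu1⟩ := Cfsg.Agent.helper8.CycGal.exists_exponents hN
      (orderOf_dvd_natCard g) hωord hg s hs
    have h1 := Cfsg.Agent.helper8.CycGal.galois_eq W₁ W₂ hW hodd χ hχ u' u huu' ω g
    have h2 : ω ^ u' = ω := by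
      have := (pow_eq_pow_iff_modEq (x := ω)).mpr hu1
      rw [this, pow_one]
    have h3 : g ^ u = g ^ s := pow_eq_pow_iff_modEq.mpr hus
    rw [h2, h3] at h1
    exact h1
  rcases hχ.irr_or_neg ω with hirr | hirr
  · obtain ⟨n, ρ, hρ, hρχ⟩ := hirr
    obtain ⟨m, hm⟩ := Cfsg.Agent.helper8.CycGal.int_of_fixed ρ g (fun s hs => by
      rw [hρχ]
      exact key s hs)
    exact ⟨m, by rw [← hm, hρχ]⟩
  · obtain ⟨n, ρ, hρ, hρχ⟩ := hirr
    obtain ⟨m, hm⟩ := Cfsg.Agent.helper8.CycGal.int_of_fixed ρ g (fun s hs => by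
      rw [hρχ]
      show -(χ ω (g ^ s)) = -(χ ω g)
      rw [key s hs])
    refine ⟨-m, ?_⟩
    rw [hρχ] at hm
    have h4 : -(χ ω g) = (m : ℂ) := hm
    push_cast
    rw [← h4, neg_neg]

end Cfsg.Agent.S1508
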