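import Cfsg.Statements.S1510
import Cfsg.Agent.S1499

set_option autoImplicit false
open Cfsg

namespace Cfsg.Agent.S1510

/-- Let L be a finite group with a normal subgroup K and a nontrivial cyclic subgroup W₁ of order coprime to its index, K ⊓ W₁ = ⊥ and K ⊔ W₁ = ⊤; let W₂ ≠ ⊥ be a cyclic subgroup of K with K ⊓ C_L(x) = W₂ for every non-identity x ∈ W₁, and suppose W₁ ⊔ W₂ has odd order. Then (W₁, W₂) is a self-normalising cyclic pair in L. -/
theorem result {L : Type*} [Group L] [Fintype L] (K W₁ W₂ : Subgroup L) [hK : K.Normal] (hKW₁ : K ⊓ W₁ = ⊥) (hKW₁' : K ⊔ W₁ = ⊤) (hW₁ : W₁ ≠ ⊥) (hW₁c : IsCyclic W₁) (hHall : Nat.Coprime (Nat.card W₁) W₁.index) (hW₂ : W₂ ≠ ⊥) (hW₂c : IsCyclic W₂) (hW₂K : W₂ ≤ K) (hC : ∀ x ∈ W₁, x ≠ 1 → K ⊓ Subgroup.centralizer ({x} : Set L) = W₂) (hodd : Odd (Nat.card ↥(W₁ ⊔ W₂))) : Cfsg.IsSelfNormalizingCyclic W₁ W₂ := by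
  classical
  have hdisj : W₁ ⊓ W₂ = ⊥ := by
    apply le_antisymm _ bot_le
    calc W₁ ⊓ W₂ ≤ W₁ ⊓ K := inf_le_inf_left _ hW₂K
      _ = K ⊓ W₁ := inf_comm _ _
      _ = ⊥ := hKW₁
  have hcomm : ∀ a ∈ W₁, ∀ b ∈ W₂, a * b = b * a := by
    intro a ha b hb
    by_cases h1 : a = 1
    · subst h1; simp
    · have : b ∈ K ⊓ Subgroup.centralizer ({a} : Set L) := by rw [hC a ha h1]; exact hb
      exact (Subgroup.mem_centralizer_singleton_iff.mp this.2).symm
  have hcompl : Subgroup.IsComplement' K W₁ := by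
    apply Subgroup.isComplement'_of_disjoint_and_mul_eq_univ (disjoint_iff.mpr hKW₁)
    rw [← Subgroup.normal_mul, hKW₁']; rfl
  have hidx : W₁.index = Nat.card K := hcompl.index_eq_card
  set n := Nat.card W₁ with hn
  set m := Nat.card W₂ with hm
  have hnm : n.Coprime m := by
    apply Nat.Coprime.coprime_dvd_right (Subgroup.card_dvd_of_le hW₂K)
    rw [← hidx]; exact hHall
  have hpowa : ∀ a ∈ W₁, a ^ n = 1 := fun a ha => Cfsg.Agent.S1499.pow_card_sub W₁ ha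
  have hpowb : ∀ b ∈ W₂, b ^ m = 1 := fun b hb => Cfsg.Agent.S1499.pow_card_sub W₂ hb
  have hproj : ∀ a ∈ W₁, ∀ b ∈ W₂, (a * b) ^ ((m : ℤ) * Nat.gcdB n m) = a := fun a ha b hb =>
    Cfsg.Agent.S1499.part_eq a b n m hnm (hcomm a ha b hb) (hpowa a ha) (hpowb b hb)
  have hproj2 : ∀ a ∈ W₁, ∀ b ∈ W₂, (a * b) ^ ((n : ℤ) * Nat.gcdB m n) = b := fun a ha b hb => by
    rw [hcomm a ha b hb]
    exact Cfsg.Agent.S1499.part_eq b a m n hnm.symm (hcomm a ha b hb).symm (hpowb b hb) (hpowa a ha)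
  have hdecomp : ∀ x ∈ W₁ ⊔ W₂, ∃ a ∈ W₁, ∃ b ∈ W₂, x = a * b := by
    intro x hx
    have hle : W₁ ≤ Subgroup.normalizer (W₂ : Set L) := by
      intro a ha
      apply Subgroup.centralizer_le_normalizer
      rw [Subgroup.mem_centralizer_iff]
      intro b hb
      exact (hcomm a ha b hb).symm
    have h := Subgroup.coe_mul_of_left_le_normalizer_right W₁ W₂ hle
    have hx' : x ∈ (↑(W₁ ⊔ W₂) : Set L) := hx
    rw [h, Set.mem_mul] at hx'
    obtain ⟨a, ha, b, hb, rfl⟩ := hx'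
    exact ⟨a, ha, b, hb, rfl⟩
  have hW₁comm : ∀ a ∈ W₁, ∀ a' ∈ W₁, a * a' = a' * a := fun a ha a' ha' =>
    setLike_mul_comm (s := W₁) ha ha'
  have hW₂comm : ∀ b ∈ W₂, ∀ b' ∈ W₂, b * b' = b' * b := fun b hb b' hb' =>
    setLike_mul_comm (s := W₂) hb hb'
  have hWcomm : ∀ x ∈ W₁ ⊔ W₂, ∀ y ∈ W₁ ⊔ W₂, x * y = y * x := by
    intro x hx y hy
    obtain ⟨a, ha, b, hb, rfl⟩ := hdecomp x hx
    obtain ⟨a', ha', b', hb', rfl⟩ := hdecomp y hy
    have h1 := hW₁comm a ha a' ha'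
    have h2 := hW₂comm b hb b' hb'
    calc a * b * (a' * b') = a * (b * a') * b' := by group
      _ = a * (a' * b) * b' := by rw [← hcomm a' ha' b hb]
      _ = (a * a') * (b * b') := by group
      _ = (a' * a) * (b' * b) := by rw [h1, h2]
      _ = a' * (a * b') * b := by group
      _ = a' * (b' * a) * b := by rw [hcomm a ha b' hb']
      _ = a' * b' * (a * b) := by group
  obtain ⟨g1, hg1⟩ := (Subgroup.isCyclic_iff_exists_zpowers_eq_top W₁).mp hW₁c
  obtain ⟨g2, hg2⟩ := (Subgroup.isCyclic_iff_exists_zpowers_eq_top W₂).mp hW₂c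
  have hg1m : g1 ∈ W₁ := hg1 ▸ Subgroup.mem_zpowers g1
  have hg2m : g2 ∈ W₂ := hg2 ▸ Subgroup.mem_zpowers g2
  have hWz : W₁ ⊔ W₂ = Subgroup.zpowers (g1 * g2) := by
    apply le_antisymm
    · apply sup_le
      · rw [← hg1, Subgroup.zpowers_le]
        have h : (g1 * g2) ^ ((m : ℤ) * Nat.gcdB n m) ∈ Subgroup.zpowers (g1 * g2) :=
          Subgroup.zpow_mem _ (Subgroup.mem_zpowers _) _
        rwa [hproj g1 hg1m g2 hg2m] at h
      · rw [← hg2, Subgroup.zpowers_le]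
        have h : (g1 * g2) ^ ((n : ℤ) * Nat.gcdB m n) ∈ Subgroup.zpowers (g1 * g2) :=
          Subgroup.zpow_mem _ (Subgroup.mem_zpowers _) _
        rwa [hproj2 g1 hg1m g2 hg2m] at h
    · rw [Subgroup.zpowers_le]
      exact (W₁ ⊔ W₂).mul_mem (le_sup_left (b := W₂) hg1m) (le_sup_right (a := W₁) hg2m)
  refine ⟨hW₁, hW₂, hdisj, hcomm, ?_, ?_⟩
  · rw [hWz]; infer_instance
  · intro X hX hXne
    apply le_antisymm
    · intro g hg
      obtain ⟨x, hxX⟩ := hXne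
      obtain ⟨hxW, hxn⟩ := hX hxX
      have hx' : g * x * g⁻¹ ∈ X := (Subgroup.mem_set_normalizer_iff.mp hg x).mp hxX
      have hx'W : g * x * g⁻¹ ∈ W₁ ⊔ W₂ := (hX hx').1
      obtain ⟨a, ha, b, hb, rfl⟩ := hdecomp x hxW
      obtain ⟨a', ha', b', hb', hab'⟩ := hdecomp _ hx'W
      have ha1 : a ≠ 1 := by
        rintro rfl
        apply hxn; right; simpa using hb
      have hconj : g * a * g⁻¹ = a' := by
        have h1 : (g * (a * b) * g⁻¹) ^ ((m : ℤ) * Nat.gcdB n m) =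
            g * (a * b) ^ ((m : ℤ) * Nat.gcdB n m) * g⁻¹ := conj_zpow
        rw [hproj a ha b hb] at h1
        rw [← h1, hab', hproj a' ha' b' hb']
      have hg' : g ∈ (↑(K ⊔ W₁) : Set L) := by rw [hKW₁']; trivial
      rw [Subgroup.normal_mul, Set.mem_mul] at hg'
      obtain ⟨k, hk, w, hw, rfl⟩ := hg'
      have hwa : w * a * w⁻¹ = a := by rw [hW₁comm w hw a ha]; group
      have hka : k * a * k⁻¹ = a' := by
        rw [← hconj]
        calc k * a * k⁻¹ = k * (w * a * w⁻¹) * k⁻¹ := by rw [hwa]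
          _ = k * w * a * (k * w)⁻¹ := by group
      have haa' : a' = a := by
        have h1 : a' * a⁻¹ ∈ K := by
          rw [← hka]
          have : k * a * k⁻¹ * a⁻¹ = k * (a * k⁻¹ * a⁻¹) := by group
          rw [this]; exact K.mul_mem hk (hK.conj_mem _ (K.inv_mem hk) a)
        have h2 : a' * a⁻¹ ∈ W₁ := W₁.mul_mem ha' (W₁.inv_mem ha)
        have h3 : a' * a⁻¹ ∈ K ⊓ W₁ := ⟨h1, h2⟩
        rw [hKW₁, Subgroup.mem_bot] at h3
        exact mul_inv_eq_one.mp h3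
      have hkW₂ : k ∈ W₂ := by
        rw [← hC a ha ha1]
        rw [haa'] at hka
        refine ⟨hk, Subgroup.mem_centralizer_singleton_iff.mpr ?_⟩
        calc k * a = k * a * k⁻¹ * k := by group
          _ = a * k := by rw [hka]
      exact (W₁ ⊔ W₂).mul_mem (le_sup_right (a := W₁) hkW₂) (le_sup_left (b := W₂) hw)
    · intro w hw
      rw [Subgroup.mem_set_normalizer_iff]
      intro h
      constructor
      · intro hh
        have : w * h * w⁻¹ = h := by rw [hWcomm w hw h (hX hh).1]; group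
        rw [this]; exact hh
      · intro hh
        have hW' : w * h * w⁻¹ ∈ W₁ ⊔ W₂ := (hX hh).1
        have hhW : h ∈ W₁ ⊔ W₂ := by
          have := (W₁ ⊔ W₂).mul_mem ((W₁ ⊔ W₂).mul_mem ((W₁ ⊔ W₂).inv_mem hw) hW') hw
          simpa [mul_assoc] using this
        have : w * h * w⁻¹ = h := by rw [hWcomm w hw h hhW]; group
        rw [this] at hh; exact hh

end Cfsg.Agent.S1510
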