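import Cfsg.Statements.S1512
import Mathlib

set_option autoImplicit false
open Cfsg

namespace Cfsg.Agent.S1512

theorem card_carrier_dvd {K : Type*} [Group K] [Finite K] (C : ConjClasses K) :
    Nat.card C.carrier ∣ Nat.card K := by
  obtain ⟨g, rfl⟩ := ConjClasses.mk_surjective C
  rw [← ConjAct.orbit_eq_carrier_conjClasses, Nat.card_coe_set_eq, ← MulAction.index_stabilizer]
  exact Subgroup.index_dvd_card (G := ConjAct K) _

/-- Let K be a normal subgroup of the finite group L and x a non-identity element whose order is coprime to the order of K, such that K ⊓ C_L(y) = W₂ for every non-identity element y of the cyclic group generated by x. Then the number of conjugacy classes of K mapped to themselves by conjugation by x is at most Nat.card W₂. -/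
theorem result {L : Type*} [Group L] [Finite L] (K W₂ : Subgroup L) [hK : K.Normal] (x : L) (hx1 : x ≠ 1) (hx : Nat.Coprime (orderOf x) (Nat.card K)) (hC : ∀ y ∈ Subgroup.zpowers x, y ≠ 1 → K ⊓ Subgroup.centralizer ({y} : Set L) = W₂) : Nat.card {C : ConjClasses K // ConjClasses.map (MulEquiv.toMonoidHom ((MulAut.conjNormal x : MulAut K))) C = C} ≤ Nat.card W₂ := by
  classical
  have hox : orderOf x ≠ 1 := by rwa [Ne, orderOf_eq_one_iff]
  have hox0 : orderOf x ≠ 0 := (orderOf_pos x).ne'
  obtain ⟨p, hp, hpd⟩ := Nat.exists_prime_and_dvd hox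
  have : Fact p.Prime := ⟨hp⟩
  set y := x ^ (orderOf x / p) with hy
  have hyo : orderOf y = p := orderOf_pow_orderOf_div hox0 hpd
  have hy1 : y ≠ 1 := by
    intro h
    rw [h, orderOf_one] at hyo
    exact hp.one_lt.ne hyo
  have hyz : y ∈ Subgroup.zpowers x := Subgroup.pow_mem _ (Subgroup.mem_zpowers x) _
  have hW : K ⊓ Subgroup.centralizer ({y} : Set L) = W₂ := hC y hyz hy1
  have hpK : ¬ p ∣ Nat.card K := by
    intro h
    have := Nat.dvd_gcd hpd h
    rw [Nat.Coprime.gcd_eq_one hx] at this
    exact hp.one_lt.ne' (Nat.dvd_one.mp this)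
  -- invariance under natural powers of x
  have hinv : ∀ (C : ConjClasses K),
      ConjClasses.map (MulEquiv.toMonoidHom ((MulAut.conjNormal x : MulAut K))) C = C →
      ∀ j : ℕ, ∀ k : K, ConjClasses.mk k = C →
        ConjClasses.mk ((MulAut.conjNormal (x ^ j) : MulAut K) k) = C := by
    intro C hCi j
    induction j with
    | zero => intro k hk; simpa using hk
    | succ j ih =>
      intro k hk
      have h1 : ConjClasses.mk ((MulAut.conjNormal x : MulAut K) k) = C := by
        rw [← hCi, ← hk]; rfl
      have := ih _ h1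
      rwa [pow_succ, map_mul, MulAut.mul_apply]
  -- invariance under the subgroup generated by y
  have hinvP : ∀ (C : ConjClasses K),
      ConjClasses.map (MulEquiv.toMonoidHom ((MulAut.conjNormal x : MulAut K))) C = C →
      ∀ g ∈ Subgroup.zpowers y, ∀ k : K, ConjClasses.mk k = C →
        ConjClasses.mk ((MulAut.conjNormal g : MulAut K) k) = C := by
    intro C hCi g hg k hk
    have hgx : g ∈ Subgroup.zpowers x := (Subgroup.zpowers_le.mpr hyz) hg
    rw [← mem_powers_iff_mem_zpowers, Submonoid.mem_powers_iff] at hgx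
    obtain ⟨n, rfl⟩ := hgx
    exact hinv C hCi n k hk
  -- fixed points
  have hfix : ∀ (C : ConjClasses K),
      ConjClasses.map (MulEquiv.toMonoidHom ((MulAut.conjNormal x : MulAut K))) C = C →
      ∃ k : K, ConjClasses.mk k = C ∧ (k : L) ∈ W₂ := by
    intro C hCi
    let α := {k : K // ConjClasses.mk k = C}
    let act : MulAction (Subgroup.zpowers y) α :=
      { smul := fun g k => ⟨(MulAut.conjNormal (g : L) : MulAut K) k.1, hinvP C hCi g g.2 k.1 k.2⟩
        one_smul := fun k => by
          apply Subtype.ext
          show (MulAut.conjNormal ((1 : Subgroup.zpowers y) : L) : MulAut K) k.1 = k.1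
          simp
        mul_smul := fun g h k => by
          apply Subtype.ext
          show (MulAut.conjNormal ((g * h : Subgroup.zpowers y) : L) : MulAut K) k.1 =
            (MulAut.conjNormal (g : L) : MulAut K) ((MulAut.conjNormal (h : L) : MulAut K) k.1)
          rw [Subgroup.coe_mul, map_mul, MulAut.mul_apply] }
    have hP : IsPGroup p (Subgroup.zpowers y) := by
      apply IsPGroup.of_card (n := 1)
      rw [Nat.card_zpowers, hyo, pow_one]
    have hcard : ¬ p ∣ Nat.card α := by
      intro h
      apply hpK
      have h2 : Nat.card α = Nat.card C.carrier := by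
        apply Nat.card_congr
        exact Equiv.subtypeEquivRight (fun k => ConjClasses.mem_carrier_iff_mk_eq.symm)
      rw [h2] at h
      exact h.trans (card_carrier_dvd C)
    obtain ⟨k, hk⟩ := hP.nonempty_fixed_point_of_prime_not_dvd_card α hcard
    refine ⟨k.1, k.2, ?_⟩
    rw [← hW]
    refine ⟨k.1.2, Subgroup.mem_centralizer_singleton_iff.mpr ?_⟩
    have h1 := hk ⟨y, Subgroup.mem_zpowers y⟩
    have h2 : ((MulAut.conjNormal y : MulAut K) k.1 : L) = (k.1 : L) := by
      have := congrArg (fun t : α => ((t.1 : K) : L)) h1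
      exact this
    rw [MulAut.conjNormal_apply] at h2
    calc (k.1 : L) * y = (y * k.1 * y⁻¹) * y := by rw [h2]
      _ = y * k.1 := by group
  choose! f hf1 hf2 using hfix
  let F : {C : ConjClasses K // ConjClasses.map (MulEquiv.toMonoidHom ((MulAut.conjNormal x : MulAut K))) C = C} → W₂ :=
    fun C => ⟨(f C.1 : L), hf2 C.1 C.2⟩
  apply Nat.card_le_card_of_injective F
  intro C C' h
  apply Subtype.ext
  have h1 : (f C.1 : L) = (f C'.1 : L) := congrArg (fun t : W₂ => (t : L)) h
  have h2 : f C.1 = f C'.1 := Subtype.ext h1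
  rw [← hf1 C.1 C.2, ← hf1 C'.1 C'.2, h2]

end Cfsg.Agent.S1512
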