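import Cfsg.Statements.S1513
import Mathlib
import Cfsg.Agent.S1491
import Cfsg.Agent.S0173
import Cfsg.Agent.S1496
import Cfsg.Agent.Lib_helper24_CharBasic
import Cfsg.Agent.Lib_helper24_CharOrth

set_option autoImplicit false
open Cfsg

namespace Cfsg.Agent.S1513
open Cfsg Cfsg.Agent.helper24

/-- inertia subgroup of a function on a normal subgroup -/
def inertia {L : Type*} [Group L] (K : Subgroup L) [hK : K.Normal] (θ : K → ℂ) : Subgroup L where
  carrier := {g | ∀ h : K, θ ⟨g * h * g⁻¹, hK.conj_mem h h.2 g⟩ = θ h}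
  one_mem' := by
    intro h
    exact congrArg θ (Subtype.ext (by simp))
  mul_mem' := by
    intro a b ha hb h
    have h1 := ha ⟨b * h * b⁻¹, hK.conj_mem h h.2 b⟩
    have h2 := hb h
    rw [← h2, ← h1]
    exact congrArg θ (Subtype.ext (by simp only []; group))
  inv_mem' := by
    intro a ha h
    have h1 := ha ⟨a⁻¹ * h * a⁻¹⁻¹, hK.conj_mem h h.2 a⁻¹⟩
    rw [← h1]
    exact congrArg θ (Subtype.ext (by simp only []; group))

theorem mem_inertia {L : Type*} [Group L] (K : Subgroup L) [hK : K.Normal] (θ : K → ℂ) (g : L) :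
    g ∈ inertia K θ ↔ ∀ h : K, θ ⟨g * h * g⁻¹, hK.conj_mem h h.2 g⟩ = θ h := Iff.rfl

theorem exists_fixed {L : Type*} [Group L] [Finite L] (K W₁ W₂ : Subgroup L) [hK : K.Normal]
    (hcop : (Nat.card W₁).Coprime (Nat.card K))
    (x : L) (hx : x ∈ W₁) (hCx : K ⊓ Subgroup.centralizer ({x} : Set L) = W₂)
    (k u : L) (hk : k ∈ K) (hu : u ∈ K) (huk : u * k * u⁻¹ = x * k * x⁻¹) :
    ∃ v ∈ K, v * k * v⁻¹ ∈ W₂ := by
  have hxN : x ∈ Subgroup.normalizer (K : Set L) := by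
    rw [Subgroup.normalizer_eq_top K]; exact Subgroup.mem_top x
  have hox : orderOf x ∣ Nat.card W₁ := Subgroup.orderOf_dvd_natCard W₁ hx
  have hco : (orderOf x).Coprime (Nat.card K) := Nat.Coprime.coprime_dvd_left hox hcop
  obtain ⟨v, hv, c, hc, hcx, hconj⟩ := Cfsg.Agent.S1496.result K x hxN hco u⁻¹ (K.inv_mem hu)
  refine ⟨v, hv, ?_⟩
  have hk'K : v * k * v⁻¹ ∈ K := hK.conj_mem k hk v
  have hy' : (u⁻¹ * x) * k = k * (u⁻¹ * x) := by
    calc (u⁻¹ * x) * k = u⁻¹ * (x * k * x⁻¹) * x := by group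
      _ = u⁻¹ * (u * k * u⁻¹) * x := by rw [huk]
      _ = k * (u⁻¹ * x) := by group
  have hcomm1 : (c * x) * (v * k * v⁻¹) = (v * k * v⁻¹) * (c * x) := by
    rw [← hconj]
    calc v * (u⁻¹ * x) * v⁻¹ * (v * k * v⁻¹) = v * ((u⁻¹ * x) * k) * v⁻¹ := by group
      _ = v * (k * (u⁻¹ * x)) * v⁻¹ := by rw [hy']
      _ = v * k * v⁻¹ * (v * (u⁻¹ * x) * v⁻¹) := by group
  obtain ⟨m, hm⟩ : ∃ m : ℕ, (c * x) ^ m = x := by
    have hoc : orderOf c ∣ Nat.card K := Subgroup.orderOf_dvd_natCard K hc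
    have hcc : (orderOf c).Coprime (orderOf x) :=
      (Nat.Coprime.coprime_dvd_left hox (Nat.Coprime.coprime_dvd_right hoc hcop)).symm
    obtain ⟨m, hm1, hm2⟩ := Nat.chineseRemainder hcc 0 1
    refine ⟨m, ?_⟩
    rw [(show Commute c x from hcx).mul_pow]
    have h1 : c ^ m = 1 := by
      rw [← pow_zero c]
      exact pow_eq_pow_iff_modEq.mpr hm1
    have h2 : x ^ m = x := by
      have := pow_eq_pow_iff_modEq.mpr hm2
      rw [this, pow_one]
    rw [h1, h2, one_mul]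
  have hcomm2 : x * (v * k * v⁻¹) = (v * k * v⁻¹) * x := by
    rw [← hm]
    exact ((show Commute (c * x) (v * k * v⁻¹) from hcomm1).pow_left m).eq
  rw [← hCx]
  exact Subgroup.mem_inf.mpr ⟨hk'K, Subgroup.mem_centralizer_singleton_iff.mpr hcomm2.symm⟩

theorem conj_mem_inf_centralizer {L : Type*} [Group L] (K : Subgroup L) [hK : K.Normal] (w y h : L)
    (hyw : y * w = w * y) (hh : h ∈ K ⊓ Subgroup.centralizer ({w} : Set L)) :
    y * h * y⁻¹ ∈ K ⊓ Subgroup.centralizer ({w} : Set L) := by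
  obtain ⟨h1, h2⟩ := Subgroup.mem_inf.mp hh
  refine Subgroup.mem_inf.mpr ⟨hK.conj_mem h h1 y, ?_⟩
  rw [Subgroup.mem_centralizer_singleton_iff] at h2 ⊢
  have hyinv : y⁻¹ * w = w * y⁻¹ := by
    calc y⁻¹ * w = y⁻¹ * (w * y) * y⁻¹ := by group
      _ = y⁻¹ * (y * w) * y⁻¹ := by rw [hyw]
      _ = w * y⁻¹ := by group
  calc y * h * y⁻¹ * w = y * h * (y⁻¹ * w) := by group
    _ = y * h * (w * y⁻¹) := by rw [hyinv]
    _ = y * (h * w) * y⁻¹ := by group
    _ = y * (w * h) * y⁻¹ := by rw [h2]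
    _ = (y * w) * h * y⁻¹ := by group
    _ = (w * y) * h * y⁻¹ := by rw [hyw]
    _ = w * (y * h * y⁻¹) := by group

theorem fixed_unique {L : Type*} [Group L] [Finite L] (K W₁ W₂ : Subgroup L) [hK : K.Normal]
    (hcop : (Nat.card W₁).Coprime (Nat.card K))
    (hW₂comm : ∀ a ∈ W₂, ∀ b ∈ W₂, a * b = b * a)
    (x : L) (hx : x ∈ W₁) (hCx : K ⊓ Subgroup.centralizer ({x} : Set L) = W₂)
    (w w' u : L) (hw : w ∈ W₂) (hw' : w' ∈ W₂) (hu : u ∈ K) (huw : u * w * u⁻¹ = w') :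
    w = w' := by
  have hwx : w * x = x * w := by
    rw [← hCx] at hw
    exact Subgroup.mem_centralizer_singleton_iff.mp (Subgroup.mem_inf.mp hw).2
  have hw'x : w' * x = x * w' := by
    rw [← hCx] at hw'
    exact Subgroup.mem_centralizer_singleton_iff.mp (Subgroup.mem_inf.mp hw').2
  have hxinvw : x⁻¹ * w = w * x⁻¹ := by
    calc x⁻¹ * w = x⁻¹ * (w * x) * x⁻¹ := by group
      _ = x⁻¹ * (x * w) * x⁻¹ := by rw [hwx]
      _ = w * x⁻¹ := by group
  have hxN : x ∈ Subgroup.normalizer ((K ⊓ Subgroup.centralizer ({w} : Set L) : Subgroup L) : Set L) := by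
    rw [Subgroup.mem_normalizer_iff]
    intro h
    constructor
    · intro hh
      exact conj_mem_inf_centralizer K w x h hwx.symm hh
    · intro hh
      have := conj_mem_inf_centralizer K w x⁻¹ (x * h * x⁻¹) hxinvw hh
      have e : x⁻¹ * (x * h * x⁻¹) * x⁻¹⁻¹ = h := by group
      rwa [e] at this
  have hox : orderOf x ∣ Nat.card W₁ := Subgroup.orderOf_dvd_natCard W₁ hx
  have hcoH : (orderOf x).Coprime (Nat.card ↥(K ⊓ Subgroup.centralizer ({w} : Set L))) :=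
    Nat.Coprime.coprime_dvd_left hox
      (Nat.Coprime.coprime_dvd_right (Subgroup.card_dvd_of_le inf_le_left) hcop)
  have hconjw : (u⁻¹ * x * u) * w = w * (u⁻¹ * x * u) := by
    have e1 : u * w = w' * u := by rw [← huw]; group
    have e2 : w * u⁻¹ = u⁻¹ * w' := by rw [← huw]; group
    calc (u⁻¹ * x * u) * w = u⁻¹ * x * (u * w) := by group
      _ = u⁻¹ * x * (w' * u) := by rw [e1]
      _ = u⁻¹ * (x * w') * u := by group
      _ = u⁻¹ * (w' * x) * u := by rw [hw'x]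
      _ = (u⁻¹ * w') * x * u := by group
      _ = (w * u⁻¹) * x * u := by rw [e2]
      _ = w * (u⁻¹ * x * u) := by group
  have hhH : u⁻¹ * x * u * x⁻¹ ∈ K ⊓ Subgroup.centralizer ({w} : Set L) := by
    refine Subgroup.mem_inf.mpr ⟨?_, ?_⟩
    · have h1 : x * u * x⁻¹ ∈ K := hK.conj_mem u hu x
      have : u⁻¹ * x * u * x⁻¹ = u⁻¹ * (x * u * x⁻¹) := by group
      rw [this]
      exact K.mul_mem (K.inv_mem hu) h1
    · rw [Subgroup.mem_centralizer_singleton_iff]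
      calc u⁻¹ * x * u * x⁻¹ * w = (u⁻¹ * x * u) * (x⁻¹ * w) := by group
        _ = (u⁻¹ * x * u) * (w * x⁻¹) := by rw [hxinvw]
        _ = ((u⁻¹ * x * u) * w) * x⁻¹ := by group
        _ = (w * (u⁻¹ * x * u)) * x⁻¹ := by rw [hconjw]
        _ = w * (u⁻¹ * x * u * x⁻¹) := by group
  obtain ⟨v, hv, c, hc, hcx, hconj⟩ :=
    Cfsg.Agent.S1496.result (K ⊓ Subgroup.centralizer ({w} : Set L)) x hxN hcoH _ hhH
  have hhx : u⁻¹ * x * u * x⁻¹ * x = u⁻¹ * x * u := by group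
  rw [hhx] at hconj
  have hcK : c ∈ K := (Subgroup.mem_inf.mp hc).1
  have ho : orderOf (c * x) = orderOf x := by
    rw [← hconj]
    have e : v * (u⁻¹ * x * u) * v⁻¹ = (MulAut.conj (v * u⁻¹)) x := by
      rw [MulAut.conj_apply]; group
    rw [e, MulEquiv.orderOf_eq]
  have hc1 : c = 1 := by
    have hoc : orderOf c ∣ Nat.card K := Subgroup.orderOf_dvd_natCard K hcK
    have hcc : (orderOf c).Coprime (orderOf x) :=
      (Nat.Coprime.coprime_dvd_left hox (Nat.Coprime.coprime_dvd_right hoc hcop)).symm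
    have h3 := (show Commute c x from hcx).orderOf_mul_eq_mul_orderOf_of_coprime hcc
    rw [ho] at h3
    have hxpos : 0 < orderOf x := orderOf_pos x
    have h4 : orderOf c = 1 := by
      have : 1 * orderOf x = orderOf c * orderOf x := by rw [one_mul]; exact h3
      exact (Nat.eq_of_mul_eq_mul_right hxpos this).symm
    exact orderOf_eq_one_iff.mp h4
  rw [hc1, one_mul] at hconj
  have hvK : v ∈ K := (Subgroup.mem_inf.mp hv).1
  have hvw : v * w = w * v :=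
    Subgroup.mem_centralizer_singleton_iff.mp (Subgroup.mem_inf.mp hv).2
  have hzK : v * u⁻¹ ∈ K := K.mul_mem hvK (K.inv_mem hu)
  have hzx : (v * u⁻¹) * x = x * (v * u⁻¹) := by
    calc (v * u⁻¹) * x = (v * (u⁻¹ * x * u) * v⁻¹) * (v * u⁻¹) := by group
      _ = x * (v * u⁻¹) := by rw [hconj]
  have hzW : v * u⁻¹ ∈ W₂ := by
    rw [← hCx]
    exact Subgroup.mem_inf.mpr ⟨hzK, Subgroup.mem_centralizer_singleton_iff.mpr hzx⟩
  have hzw := hW₂comm (v * u⁻¹) hzW w hw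
  symm
  calc w' = u * w * u⁻¹ := huw.symm
    _ = (v * u⁻¹)⁻¹ * (v * w) * v⁻¹ * (v * u⁻¹) := by group
    _ = (v * u⁻¹)⁻¹ * (w * v) * v⁻¹ * (v * u⁻¹) := by rw [hvw]
    _ = (v * u⁻¹)⁻¹ * (w * (v * u⁻¹)) := by group
    _ = (v * u⁻¹)⁻¹ * ((v * u⁻¹) * w) := by rw [hzw]
    _ = w := by group

theorem card_fixed {L : Type*} [Group L] [Finite L] (K W₁ W₂ : Subgroup L) [hK : K.Normal]
    (hcop : (Nat.card W₁).Coprime (Nat.card K)) (hW₂K : W₂ ≤ K)
    (hW₂comm : ∀ a ∈ W₂, ∀ b ∈ W₂, a * b = b * a)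
    (x : L) (hx : x ∈ W₁) (hCx : K ⊓ Subgroup.centralizer ({x} : Set L) = W₂) :
    Nat.card {θ : IrrCharacter K // x ∈ inertia K (θ : K → ℂ)} = Nat.card W₂ := by
  have h173 := Cfsg.Agent.S0173.result (G := K) (MulAut.conjNormal x : K ≃* K)
  have e1 : Nat.card {χ : IrrCharacter K //
      (χ : K → ℂ) ∘ (MulAut.conjNormal x : K ≃* K) = (χ : K → ℂ)}
      = Nat.card {θ : IrrCharacter K // x ∈ inertia K (θ : K → ℂ)} := by
    apply Nat.card_congr
    apply Equiv.subtypeEquivRight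
    intro χ
    constructor
    · intro h k
      have := congrFun h k
      simp only [Function.comp] at this
      rw [← this]
      exact congrArg _ (Subtype.ext rfl)
    · intro h
      funext k
      simp only [Function.comp]
      rw [← h k]
      exact congrArg _ (Subtype.ext rfl)
  rw [← e1, ← h173]
  have hwx : ∀ w ∈ W₂, x * w * x⁻¹ = w := by
    intro w hw
    rw [← hCx] at hw
    have := Subgroup.mem_centralizer_singleton_iff.mp (Subgroup.mem_inf.mp hw).2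
    calc x * w * x⁻¹ = (w * x) * x⁻¹ := by rw [this]
      _ = w := by group
  let f : W₂ → {C : ConjClasses K //
      ConjClasses.map (MulAut.conjNormal x : K ≃* K).toMonoidHom C = C} := fun w =>
    ⟨ConjClasses.mk ⟨w, hW₂K w.2⟩, by
      show ConjClasses.mk ((MulAut.conjNormal x : K ≃* K) ⟨w, hW₂K w.2⟩) = _
      exact congrArg ConjClasses.mk (Subtype.ext (hwx w w.2))⟩
  have hinj : Function.Injective f := by
    intro w w' h
    have h1 : ConjClasses.mk (⟨w, hW₂K w.2⟩ : K) = ConjClasses.mk ⟨w', hW₂K w'.2⟩ :=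
      congrArg Subtype.val h
    rw [ConjClasses.mk_eq_mk_iff_isConj, isConj_iff] at h1
    obtain ⟨c, hc⟩ := h1
    have hc' : (c : L) * w * (c : L)⁻¹ = w' := congrArg Subtype.val hc
    exact Subtype.ext (fixed_unique K W₁ W₂ hcop hW₂comm x hx hCx w w' c w.2 w'.2 c.2 hc')
  have hsurj : Function.Surjective f := by
    rintro ⟨C, hC⟩
    obtain ⟨k, rfl⟩ := ConjClasses.exists_rep C
    have h1 : ConjClasses.mk ((MulAut.conjNormal x : K ≃* K) k) = ConjClasses.mk k := hC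
    rw [ConjClasses.mk_eq_mk_iff_isConj, isConj_iff] at h1
    obtain ⟨c, hc⟩ := h1
    have hc' : (c : L) * (x * k * x⁻¹) * (c : L)⁻¹ = k := congrArg Subtype.val hc
    have huk : (c : L)⁻¹ * k * (c : L)⁻¹⁻¹ = x * k * x⁻¹ := by
      calc (c : L)⁻¹ * k * (c : L)⁻¹⁻¹
          = (c : L)⁻¹ * ((c : L) * (x * k * x⁻¹) * (c : L)⁻¹) * (c : L)⁻¹⁻¹ := by rw [hc']
        _ = x * k * x⁻¹ := by group
    obtain ⟨v, hv, hvk⟩ := exists_fixed K W₁ W₂ hcop x hx hCx k (c : L)⁻¹ k.2 (K.inv_mem c.2) huk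
    refine ⟨⟨v * k * v⁻¹, hvk⟩, ?_⟩
    apply Subtype.ext
    show ConjClasses.mk (⟨v * k * v⁻¹, _⟩ : K) = ConjClasses.mk k
    rw [ConjClasses.mk_eq_mk_iff_isConj, isConj_iff]
    refine ⟨⟨v, hv⟩⁻¹, ?_⟩
    apply Subtype.ext
    show (v⁻¹ : L) * (v * k * v⁻¹) * (v⁻¹ : L)⁻¹ = k
    group
  exact (Nat.card_congr (Equiv.ofBijective f ⟨hinj, hsurj⟩)).symm


/-- Let L be a finite group with K normal with complement W₁ ≠ 1 a cyclic Hall subgroup, and W₂ ≠ 1 a cyclic subgroup of K equal to C_K(x) for every non-identity x ∈ W₁, with W₁W₂ of odd order. For an irreducible character θ of K: if θ is not fixed under conjugation by some element of W₁, then the function induced from θ to L is an irreducible character of L; and the irreducible characters of K fixed by all of W₁ are exactly Nat.card W₂ in number, each inducing to the sum of Nat.card W₁ pairwise distinct irreducible characters of L. -/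
theorem result {L : Type*} [Group L] [Fintype L] (K W₁ W₂ : Subgroup L) [hK : K.Normal] (hKW₁ : K ⊓ W₁ = ⊥) (hKW₁' : K ⊔ W₁ = ⊤) (hW₁ : W₁ ≠ ⊥) (hW₁c : IsCyclic W₁) (hHall : Nat.Coprime (Nat.card W₁) W₁.index) (hW₂ : W₂ ≠ ⊥) (hW₂c : IsCyclic W₂) (hW₂K : W₂ ≤ K) (hC : ∀ x ∈ W₁, x ≠ 1 → K ⊓ Subgroup.centralizer ({x} : Set L) = W₂) (hodd : Odd (Nat.card ↥(W₁ ⊔ W₂))) : (∀ θ : K → ℂ, Cfsg.IsIrrCharacter K θ → (∃ x ∈ W₁, (fun k : K => θ ⟨x * k * x⁻¹, hK.conj_mem (k : L) k.2 x⟩) ≠ θ) → Cfsg.IsIrrCharacter L (Cfsg.indFun K θ)) ∧ Nat.card {θ : Cfsg.IrrCharacter K // ∀ x ∈ W₁, (fun k : K => (θ : K → ℂ) ⟨x * k * x⁻¹, hK.conj_mem (k : L) k.2 x⟩) = θ} = Nat.card W₂ ∧ (∀ θ : K → ℂ, Cfsg.IsIrrCharacter K θ → (∀ x ∈ W₁, (fun k : K => θ ⟨x * k * x⁻¹, hK.conj_mem (k : L) k.2 x⟩) = θ) → ∃ C : Finset (L → ℂ), C.card = Nat.card W₁ ∧ (∀ μ ∈ C, Cfsg.IsIrrCharacter L μ) ∧ Cfsg.indFun K θ = ∑ μ ∈ C, μ) := by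
  classical
  have hcomp : Subgroup.IsComplement' K W₁ := by
    apply Subgroup.isComplement'_of_disjoint_and_mul_eq_univ (disjoint_iff.mpr hKW₁)
    rw [← Subgroup.normal_mul, hKW₁']
    rfl
  have hcard : Nat.card K * Nat.card W₁ = Nat.card L := hcomp.card_mul_card
  have hW₁pos : 0 < Nat.card W₁ := Nat.card_pos
  have hKpos : 0 < Nat.card K := Nat.card_pos
  have hidxW : W₁.index = Nat.card K := by
    have h1 := W₁.card_mul_index
    have h2 : Nat.card W₁ * W₁.index = Nat.card W₁ * Nat.card K := by rw [h1, ← hcard, mul_comm]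
    exact Nat.eq_of_mul_eq_mul_left hW₁pos h2
  have hidxK : K.index = Nat.card W₁ := by
    have h1 := K.card_mul_index
    have h2 : Nat.card K * K.index = Nat.card K * Nat.card W₁ := by rw [h1, ← hcard]
    exact Nat.eq_of_mul_eq_mul_left hKpos h2
  have hcop : (Nat.card W₁).Coprime (Nat.card K) := by rw [← hidxW]; exact hHall
  have hW₂comm : ∀ a ∈ W₂, ∀ b ∈ W₂, a * b = b * a := by
    haveI := hW₂c
    letI := IsCyclic.commGroup (α := W₂)
    intro a ha b hb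
    have := mul_comm (⟨a, ha⟩ : W₂) ⟨b, hb⟩
    exact congrArg Subtype.val this
  have hW₁comm : ∀ a ∈ W₁, ∀ b ∈ W₁, a * b = b * a := by
    haveI := hW₁c
    letI := IsCyclic.commGroup (α := W₁)
    intro a ha b hb
    have := mul_comm (⟨a, ha⟩ : W₁) ⟨b, hb⟩
    exact congrArg Subtype.val this
  haveI := hW₁c
  obtain ⟨g₀, hg₀⟩ := IsCyclic.exists_generator (α := W₁)
  have hg₀1 : (g₀ : L) ≠ 1 := by
    intro h
    apply hW₁
    rw [Subgroup.eq_bot_iff_forall]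
    intro y hy
    obtain ⟨n, hn⟩ := Subgroup.mem_zpowers_iff.mp (hg₀ ⟨y, hy⟩)
    have h1 : g₀ = 1 := Subtype.ext h
    rw [h1, one_zpow] at hn
    exact (congrArg Subtype.val hn).symm
  have hKle : ∀ θ : K → ℂ, IsIrrCharacter K θ → K ≤ inertia K θ := by
    intro θ hθ g hg h
    have hcf := Cfsg.Agent.helper24.char_isClassFunction (Cfsg.Agent.helper24.irr_isCharacter hθ)
    have := hcf h ⟨g, hg⟩
    rw [← this]
    exact congrArg θ (Subtype.ext rfl)
  have hgen : ∀ θ : K → ℂ, (g₀ : L) ∈ inertia K θ → W₁ ≤ inertia K θ := by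
    intro θ h y hy
    obtain ⟨n, hn⟩ := Subgroup.mem_zpowers_iff.mp (hg₀ ⟨y, hy⟩)
    have h1 : (g₀ : L) ^ n = y := by
      have := congrArg Subtype.val hn
      rw [Subgroup.coe_zpow] at this
      exact this
    rw [← h1]
    exact (inertia K θ).zpow_mem h n
  have hB : ∀ (θ : IrrCharacter K) (x : L), x ∈ W₁ → x ≠ 1 → x ∈ inertia K (θ : K → ℂ) →
      W₁ ≤ inertia K (θ : K → ℂ) := by
    intro θ x hx hx1 hxI
    have hAB : {θ : IrrCharacter K | (g₀ : L) ∈ inertia K (θ : K → ℂ)} ⊆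
        {θ : IrrCharacter K | x ∈ inertia K (θ : K → ℂ)} := fun θ h => hgen θ h hx
    have hcA : {θ : IrrCharacter K | (g₀ : L) ∈ inertia K (θ : K → ℂ)}.ncard = Nat.card W₂ := by
      rw [← Nat.card_coe_set_eq]
      exact card_fixed K W₁ W₂ hcop hW₂K hW₂comm g₀ g₀.2 (hC g₀ g₀.2 hg₀1)
    have hcB : {θ : IrrCharacter K | x ∈ inertia K (θ : K → ℂ)}.ncard = Nat.card W₂ := by
      rw [← Nat.card_coe_set_eq]
      exact card_fixed K W₁ W₂ hcop hW₂K hW₂comm x hx (hC x hx hx1)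
    have hEq := Set.eq_of_subset_of_ncard_le hAB (by rw [hcA, hcB]) (Set.toFinite _)
    have : θ ∈ {θ : IrrCharacter K | (g₀ : L) ∈ inertia K (θ : K → ℂ)} := by
      rw [hEq]; exact hxI
    exact hgen θ this
  have hL : ∀ g : L, ∃ k ∈ K, ∃ w ∈ W₁, k * w = g := by
    intro g
    have : g ∈ K ⊔ W₁ := hKW₁' ▸ Subgroup.mem_top g
    exact Subgroup.mem_sup_of_normal_left.mp this
  refine ⟨?_, ?_, ?_⟩
  · rintro θ hθ ⟨x, hxW, hne⟩
    have hT : ∀ g : L, g ∈ K ↔ ∀ h : K, θ ⟨g * h * g⁻¹, hK.conj_mem h h.2 g⟩ = θ h := by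
      intro g
      constructor
      · intro hg
        exact hKle θ hθ hg
      · intro hg
        obtain ⟨k, hk, w, hw, rfl⟩ := hL g
        have hwI : w ∈ inertia K θ := by
          have e : w = k⁻¹ * (k * w) := by group
          rw [e]
          exact (inertia K θ).mul_mem ((inertia K θ).inv_mem (hKle θ hθ hk)) hg
        by_cases hw1 : w = 1
        · rw [hw1, mul_one]; exact hk
        · exfalso
          have := hB ⟨θ, hθ⟩ w hw hw1 hwI
          apply hne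
          funext k'
          exact this hxW k'
    obtain ⟨C, hCirr, hCcard, hCsum, -⟩ := Cfsg.Agent.S1491.result K K θ hθ hT
      (fun a ha b hb => K.mul_mem (K.mul_mem (K.mul_mem ha hb) (K.inv_mem ha)) (K.inv_mem hb))
      (by rw [Subgroup.relIndex_self]; exact Nat.coprime_one_right _)
    rw [Subgroup.relIndex_self, Finset.card_eq_one] at hCcard
    obtain ⟨χ, rfl⟩ := hCcard
    rw [Finset.sum_singleton] at hCsum
    rw [hCsum]
    exact hCirr χ (Finset.mem_singleton_self χ)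
  · have e : Nat.card {θ : Cfsg.IrrCharacter K // ∀ x ∈ W₁, (fun k : K => (θ : K → ℂ) ⟨x * k * x⁻¹, hK.conj_mem (k : L) k.2 x⟩) = θ}
        = Nat.card {θ : IrrCharacter K // (g₀ : L) ∈ inertia K (θ : K → ℂ)} :=
      Nat.card_congr (Equiv.subtypeEquivRight (fun θ =>
        ⟨fun h k => congrFun (h g₀ g₀.2) k, fun h x hx => funext (fun k => hgen θ h hx k)⟩))
    rw [e]
    exact card_fixed K W₁ W₂ hcop hW₂K hW₂comm g₀ g₀.2 (hC g₀ g₀.2 hg₀1)
  · intro θ hθ hall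
    have hT : ∀ g : L, g ∈ (⊤ : Subgroup L) ↔
        ∀ h : K, θ ⟨g * h * g⁻¹, hK.conj_mem h h.2 g⟩ = θ h := by
      intro g
      constructor
      · intro _
        obtain ⟨k, hk, w, hw, rfl⟩ := hL g
        have h1 : k ∈ inertia K θ := hKle θ hθ hk
        have h2 : w ∈ inertia K θ := fun h => congrFun (hall w hw) h
        exact (inertia K θ).mul_mem h1 h2
      · intro _
        exact Subgroup.mem_top g
    have hab : ∀ x ∈ (⊤ : Subgroup L), ∀ y ∈ (⊤ : Subgroup L), x * y * x⁻¹ * y⁻¹ ∈ K := by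
      intro a _ b _
      obtain ⟨k₁, hk₁, w₁, hw₁, rfl⟩ := hL a
      obtain ⟨k₂, hk₂, w₂, hw₂, rfl⟩ := hL b
      have h1 : w₁ * w₂ = w₂ * w₁ := hW₁comm w₁ hw₁ w₂ hw₂
      have hw21 : w₂ * w₁⁻¹ = w₁⁻¹ * w₂ := by
        calc w₂ * w₁⁻¹ = w₁⁻¹ * (w₁ * w₂) * w₁⁻¹ := by group
          _ = w₁⁻¹ * (w₂ * w₁) * w₁⁻¹ := by rw [h1]
          _ = w₁⁻¹ * w₂ := by group
      have e : k₁ * w₁ * (k₂ * w₂) * (k₁ * w₁)⁻¹ * (k₂ * w₂)⁻¹
          = k₁ * (w₁ * k₂ * w₁⁻¹) * (w₂ * k₁⁻¹ * w₂⁻¹) * k₂⁻¹ := by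
        calc k₁ * w₁ * (k₂ * w₂) * (k₁ * w₁)⁻¹ * (k₂ * w₂)⁻¹
            = k₁ * w₁ * k₂ * (w₂ * w₁⁻¹) * k₁⁻¹ * w₂⁻¹ * k₂⁻¹ := by group
          _ = k₁ * w₁ * k₂ * (w₁⁻¹ * w₂) * k₁⁻¹ * w₂⁻¹ * k₂⁻¹ := by rw [hw21]
          _ = k₁ * (w₁ * k₂ * w₁⁻¹) * (w₂ * k₁⁻¹ * w₂⁻¹) * k₂⁻¹ := by group
      rw [e]
      exact K.mul_mem (K.mul_mem (K.mul_mem hk₁ (hK.conj_mem k₂ hk₂ w₁))
        (hK.conj_mem k₁⁻¹ (K.inv_mem hk₁) w₂)) (K.inv_mem hk₂)
    obtain ⟨C, hCirr, hCcard, hCsum, -⟩ := Cfsg.Agent.S1491.result K ⊤ θ hθ hT hab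
      (by rw [Subgroup.relIndex_top_right, hidxK]; exact hcop.symm)
    exact ⟨C, by rw [hCcard, Subgroup.relIndex_top_right, hidxK], hCirr, hCsum⟩

end Cfsg.Agent.S1513
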