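import Cfsg.Statements.S1514
import Mathlib
import Cfsg.Agent.Lib_helper8_Virtual
import Cfsg.Agent.S1509
-- import your own Cfsg.Agent.* helpers here

set_option autoImplicit false
open Cfsg

namespace Cfsg.Agent.S1514


open scoped ComplexConjugate
open Cfsg.Agent.helper24 Cfsg.Agent.helper12 Cfsg.Agent.helper8

theorem conjFun_conjFun {X : Type*} (f : X → ℂ) : conjFun (conjFun f) = f := by
  funext x
  simp [conjFun]

theorem classInner_conjFun {X : Type*} [Group X] [Fintype X] (f g : X → ℂ) :
    classInner (conjFun f) (conjFun g) = conj (classInner f g) := by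
  simp only [classInner, conjFun, map_mul, map_inv₀, map_natCast, map_sum, Complex.conj_conj]

theorem classInner_neg_right {X : Type*} [Group X] [Fintype X] (f g : X → ℂ) :
    classInner f (-g) = -classInner f g := by
  have e : -g = (-1 : ℂ) • g := by simp
  rw [e, classInner_smul_right]
  simp

theorem classInner_neg_left {X : Type*} [Group X] [Fintype X] (f g : X → ℂ) :
    classInner (-f) g = -classInner f g := by
  have e : -f = (-1 : ℂ) • f := by simp
  rw [e, classInner_smul_left]
  simp

theorem signed_norm {X : Type*} [Group X] [Fintype X] {a : X → ℂ}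
    (ha : IsIrrCharacter X a ∨ IsIrrCharacter X (-a)) : classInner a a = 1 := by
  rcases ha with h | h
  · exact irr_classInner_self h
  · have := irr_classInner_self h
    rwa [classInner_neg_left, classInner_neg_right, neg_neg] at this

theorem signed_virtual {X : Type*} [Group X] {a : X → ℂ}
    (ha : IsIrrCharacter X a ∨ IsIrrCharacter X (-a)) : IsGeneralizedCharacter X a := by
  rcases ha with h | h
  · exact ⟨a, 0, irr_isCharacter h, isCharacter_zero, by simp⟩
  · exact ⟨0, -a, isCharacter_zero, irr_isCharacter h, by simp⟩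

/-- Let S be a nonempty set of irreducible characters of the finite group L, closed under complex conjugation and containing no real-valued member, and τ a linear isometry on the integer combinations of S vanishing at 1, with values virtual characters of G vanishing at 1. Then there is a choice R making (S, τ, R) a coherence system. -/
theorem result {L : Type*} [Group L] [Fintype L] {G : Type*} [Group G] [Fintype G] (S : Set (L → ℂ)) (hS : S.Nonempty) (hirr : ∀ χ ∈ S, Cfsg.IsIrrCharacter L χ) (hconj : ∀ χ ∈ S, Cfsg.conjFun χ ∈ S ∧ Cfsg.conjFun χ ≠ χ) (τ : (L → ℂ) → (G → ℂ)) (hτ : Cfsg.IsLinearIsometryOn (Cfsg.zspanOn S {1}ᶜ) τ) (hτ1 : ∀ α ∈ Cfsg.zspanOn S {1}ᶜ, τ α 1 = 0) : ∃ R : (L → ℂ) → Finset (G → ℂ), Cfsg.IsCoherenceSystem S τ R := by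
  classical
  obtain ⟨hadd, hsmul, hiso, hvirt⟩ := hτ
  have hmemS : ∀ χ ∈ S, χ ∈ Cfsg.zspan S := fun χ h => Submodule.subset_span h
  have hδ : ∀ χ ∈ S, (χ - conjFun χ) ∈ Cfsg.zspanOn S {1}ᶜ := by
    intro χ hχ
    refine ⟨Submodule.sub_mem (Submodule.span ℤ S) (hmemS χ hχ) (hmemS _ (hconj χ hχ).1), ?_⟩
    intro x hx
    have hx1 : x = 1 := by simpa using hx
    subst hx1
    obtain ⟨n, -, hn⟩ := irr_apply_one (hirr χ hχ)
    simp [conjFun, hn]
  have hnorm2 : ∀ χ ∈ S, classInner (χ - conjFun χ) (χ - conjFun χ) = 2 := by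
    intro χ hχ
    have hc := (hconj χ hχ)
    rw [classInner_sub_left, classInner_sub_right, classInner_sub_right,
      irr_classInner_self (hirr χ hχ), irr_classInner_self (hirr _ hc.1),
      irr_classInner_ne (hirr χ hχ) (hirr _ hc.1) hc.2.symm,
      irr_classInner_ne (hirr _ hc.1) (hirr χ hχ) hc.2]
    norm_num
  have hex : ∀ χ ∈ S, ∃ p : (G → ℂ) × (G → ℂ),
      (IsIrrCharacter G p.1 ∨ IsIrrCharacter G (-p.1)) ∧
      (IsIrrCharacter G p.2 ∨ IsIrrCharacter G (-p.2)) ∧ classInner p.1 p.2 = 0 ∧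
      τ (χ - conjFun χ) = p.1 + p.2 := by
    intro χ hχ
    have h2 : classInner (τ (χ - conjFun χ)) (τ (χ - conjFun χ)) = 2 := by
      rw [hiso _ (hδ χ hχ) _ (hδ χ hχ), hnorm2 χ hχ]
    obtain ⟨e₀, e₁, ψ₀, ψ₁, he₀, he₁, hψ₀, hψ₁, hne, heq⟩ :=
      virt_norm_two (hvirt _ (hδ χ hχ)) h2
    refine ⟨(e₀ • ψ₀, e₁ • ψ₁), ?_, ?_, ?_, heq⟩
    · show IsIrrCharacter G (e₀ • ψ₀) ∨ IsIrrCharacter G (-(e₀ • ψ₀))
      rcases he₀ with h | h
      · left; rw [h, one_smul]; exact hψ₀
      · right; rw [h]; simpa using hψ₀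
    · show IsIrrCharacter G (e₁ • ψ₁) ∨ IsIrrCharacter G (-(e₁ • ψ₁))
      rcases he₁ with h | h
      · left; rw [h, one_smul]; exact hψ₁
      · right; rw [h]; simpa using hψ₁
    · show classInner (e₀ • ψ₀) (e₁ • ψ₁) = 0
      rw [Cfsg.Agent.S1509.inner_smul_smul, irr_classInner_ne hψ₀ hψ₁ hne, mul_zero]
  let R : (L → ℂ) → Finset (G → ℂ) := fun χ =>
    if h : χ ∈ S then {(Classical.choose (hex χ h)).1, (Classical.choose (hex χ h)).2} else ∅
  have hR : ∀ χ (_ : χ ∈ S), ∃ a b : G → ℂ, R χ = {a, b} ∧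
      (IsIrrCharacter G a ∨ IsIrrCharacter G (-a)) ∧
      (IsIrrCharacter G b ∨ IsIrrCharacter G (-b)) ∧ classInner a b = 0 ∧
      τ (χ - conjFun χ) = a + b := by
    intro χ h
    refine ⟨(Classical.choose (hex χ h)).1, (Classical.choose (hex χ h)).2, ?_,
      Classical.choose_spec (hex χ h)⟩
    simp only [R, dif_pos h]
  refine ⟨R, ?_⟩
  refine
    { nonempty := hS
      isCharacter := fun χ hχ => irr_isCharacter (hirr χ hχ)
      conj_mem := fun χ hχ => (hconj χ hχ).1
      conj_ne := fun χ hχ => (hconj χ hχ).2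
      isometry := ⟨hadd, hsmul, hiso, hvirt⟩
      map_one := hτ1
      orthogonal := fun χ hχ φ hφ hne => irr_classInner_ne (hirr χ hχ) (hirr φ hφ) hne
      orthonormal := ?_
      virtual := ?_
      sum_eq := ?_
      disjoint := ?_ }
  · intro χ hχ α hα β hβ
    obtain ⟨a, b, hRab, ha, hb, hab, hsum⟩ := hR χ hχ
    have haa := signed_norm ha
    have hbb := signed_norm hb
    have hba : classInner b a = 0 := by rw [← classInner_conj_symm, hab, map_zero]
    have hne : a ≠ b := by
      intro h
      subst h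
      rw [haa] at hab
      exact one_ne_zero hab
    rw [hRab] at hα hβ
    simp only [Finset.mem_insert, Finset.mem_singleton] at hα hβ
    rcases hα with hα | hα <;> rcases hβ with hβ | hβ <;> rw [hα, hβ]
    · rw [haa, if_pos rfl]
    · rw [hab, if_neg hne]
    · rw [hba, if_neg hne.symm]
    · rw [hbb, if_pos rfl]
  · intro χ hχ α hα
    obtain ⟨a, b, hRab, ha, hb, hab, hsum⟩ := hR χ hχ
    rw [hRab] at hα
    simp only [Finset.mem_insert, Finset.mem_singleton] at hα
    rcases hα with hα | hα <;> rw [hα]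
    · exact signed_virtual ha
    · exact signed_virtual hb
  · intro χ hχ
    obtain ⟨a, b, hRab, ha, hb, hab, hsum⟩ := hR χ hχ
    have haa := signed_norm ha
    have hne : a ≠ b := by
      intro h
      subst h
      rw [haa] at hab
      exact one_ne_zero hab
    rw [hRab, Finset.sum_pair hne, hsum]
  · intro χ hχ φ hφ h1 h2 α hα β hβ
    obtain ⟨a, b, hRab, ha, hb, hab, hsum⟩ := hR χ hχ
    obtain ⟨a', b', hRab', ha', hb', hab', hsum'⟩ := hR φ hφ
    have hmix0 : classInner (a' + b') (a + b) = 0 := by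
      rw [← hsum', ← hsum, hiso _ (hδ φ hφ) _ (hδ χ hχ)]
      have e3 : classInner (conjFun φ) χ = conj (classInner φ (conjFun χ)) := by
        rw [← classInner_conjFun, conjFun_conjFun]
      rw [classInner_sub_left, classInner_sub_right, classInner_sub_right, h1, h2, e3,
        classInner_conjFun, h1, h2]
      simp
    have hval : ∀ ψ ∈ S, τ (ψ - conjFun ψ) 1 = 0 := fun ψ hψ => hτ1 _ (hδ ψ hψ)
    have hv : a 1 = (-b) 1 := by
      have := hval χ hχ
      rw [hsum, Pi.add_apply] at this
      rw [Pi.neg_apply]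
      linear_combination this
    have hv' : a' 1 = (-b') 1 := by
      have := hval φ hφ
      rw [hsum', Pi.add_apply] at this
      rw [Pi.neg_apply]
      linear_combination this
    have hnb : IsIrrCharacter G (-b) ∨ IsIrrCharacter G (-(-b)) :=
      hb.elim (fun h => Or.inr (by rwa [neg_neg])) (fun h => Or.inl h)
    have hnb' : IsIrrCharacter G (-b') ∨ IsIrrCharacter G (-(-b')) :=
      hb'.elim (fun h => Or.inr (by rwa [neg_neg])) (fun h => Or.inl h)
    have hmix : classInner (a' - -b') (((1 : ℝ) : ℂ) • a - ((1 : ℝ) : ℂ) • (-b)) = 0 := by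
      have e1 : a' - -b' = a' + b' := sub_neg_eq_add _ _
      have e2 : ((1 : ℝ) : ℂ) • a - ((1 : ℝ) : ℂ) • (-b) = a + b := by simp
      rw [e1, e2, hmix0]
    have hres := Cfsg.Agent.S1509.result a' (-b') a (-b) ha' hnb' ha hnb 1 1 one_ne_zero
      one_ne_zero (by rw [classInner_neg_right, hab', neg_zero])
      (by rw [classInner_neg_right, hab, neg_zero]) hmix hv' (by rw [hv])
    obtain ⟨r1, r2, r3, r4⟩ := hres
    rw [classInner_neg_right] at r2
    rw [classInner_neg_left] at r3
    rw [classInner_neg_left, classInner_neg_right, neg_neg] at r4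
    have r2' : classInner a' b = 0 := by linear_combination -r2
    have r3' : classInner b' a = 0 := by linear_combination -r3
    rw [hRab'] at hα
    rw [hRab] at hβ
    simp only [Finset.mem_insert, Finset.mem_singleton] at hα hβ
    rcases hα with hα | hα <;> rcases hβ with hβ | hβ <;> rw [hα, hβ]
    · exact r1
    · exact r2'
    · exact r3'
    · exact r4

end Cfsg.Agent.S1514
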