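import Cfsg.Statements.S1515
import Mathlib
import Cfsg.Agent.Lib_helper8_Virtual
-- import your own Cfsg.Agent.* helpers here

set_option autoImplicit false
open Cfsg

namespace Cfsg.Agent.S1515


open scoped ComplexConjugate
open Cfsg.Agent.helper24 Cfsg.Agent.helper12 Cfsg.Agent.helper8

theorem int_fact (z : ℂ) (k : ℤ) (hz : z = k) :
    z.re ≤ ‖z‖ ^ 2 ∧ (‖z‖ ^ 2 = z.re → z = 0 ∨ z = 1) := by
  subst hz
  have hnorm : ‖(k : ℂ)‖ ^ 2 = ((k ^ 2 : ℤ) : ℝ) := by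
    rw [Complex.norm_intCast, sq_abs]
    push_cast
    ring
  have hre : ((k : ℂ)).re = (k : ℝ) := Complex.intCast_re k
  rw [hnorm, hre]
  constructor
  · have : k ≤ k ^ 2 := by
      rcases le_or_gt k 0 with h | h
      · nlinarith [sq_nonneg k]
      · nlinarith
    exact_mod_cast this
  · intro h
    have h' : k ^ 2 = k := by exact_mod_cast h
    have h2 : k * (k - 1) = 0 := by linear_combination h'
    rcases mul_eq_zero.mp h2 with h0 | h1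
    · left; rw [h0]; simp
    · right
      have h3 : k = 1 := by linarith
      rw [h3]; simp

/-- Let (S, τ, R) be a coherence system from L to G, χ ∈ S, and ψ an integer combination of S with ⟨χ, ψ⟩ = ⟨conj χ, ψ⟩ = 0. Let τ₁ be a linear isometry on the integer combinations of χ − ψ and χ − conj χ, with virtual-character values, agreeing with τ on integer multiples of χ − conj χ. Then the sum over α ∈ R χ of the squared absolute values of ⟨τ₁(χ − ψ), α⟩ is at least ⟨χ, χ⟩; and if ⟨τ₁(χ − ψ), τ₁(χ − ψ)⟩ minus that sum is at least ⟨ψ, ψ⟩, then the sum equals ⟨χ, χ⟩ and every ⟨τ₁(χ − ψ), α⟩ with α ∈ R χ is 0 or 1. -/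
theorem result {L : Type*} [Group L] [Fintype L] {G : Type*} [Group G] [Fintype G] (S : Set (L → ℂ)) (τ : (L → ℂ) → (G → ℂ)) (R : (L → ℂ) → Finset (G → ℂ)) (hS : Cfsg.IsCoherenceSystem S τ R) (χ : L → ℂ) (hχ : χ ∈ S) (ψ : L → ℂ) (hψ : ψ ∈ Cfsg.zspan S) (h1 : Cfsg.classInner χ ψ = 0) (h2 : Cfsg.classInner (Cfsg.conjFun χ) ψ = 0) (τ₁ : (L → ℂ) → (G → ℂ)) (hτ₁ : Cfsg.IsLinearIsometryOn (Cfsg.zspan {χ - ψ, χ - Cfsg.conjFun χ}) τ₁) (hagree : ∀ n : ℤ, τ₁ (n • (χ - Cfsg.conjFun χ)) = τ (n • (χ - Cfsg.conjFun χ))) : (Cfsg.classInner χ χ).re ≤ ∑ α ∈ R χ, ‖Cfsg.classInner (τ₁ (χ - ψ)) α‖ ^ 2 ∧ ((Cfsg.classInner ψ ψ).re ≤ (Cfsg.classInner (τ₁ (χ - ψ)) (τ₁ (χ - ψ))).re - ∑ α ∈ R χ, ‖Cfsg.classInner (τ₁ (χ - ψ)) α‖ ^ 2 → (∑ α ∈ R χ, ‖Cfsg.classInner (τ₁ (χ - ψ)) α‖ ^ 2 = (Cfsg.classInner χ χ).re ∧ ∀ α ∈ R χ, Cfsg.classInner (τ₁ (χ - ψ)) α = 0 ∨ Cfsg.classInner (τ₁ (χ - ψ)) α = 1)) := by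
  classical
  obtain ⟨hadd, hsmul, hiso, hvirt⟩ := hτ₁
  have hm1 : (χ - ψ) ∈ Cfsg.zspan {χ - ψ, χ - Cfsg.conjFun χ} :=
    Submodule.subset_span (by simp)
  have hm2 : (χ - Cfsg.conjFun χ) ∈ Cfsg.zspan {χ - ψ, χ - Cfsg.conjFun χ} :=
    Submodule.subset_span (by simp)
  have hXv : IsGeneralizedCharacter G (τ₁ (χ - ψ)) := hvirt _ hm1
  have hY : τ₁ (χ - conjFun χ) = ∑ α ∈ R χ, α := by
    have h := hagree 1
    rw [one_smul] at h
    rw [h, hS.sum_eq χ hχ]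
  have hcc : classInner χ (conjFun χ) = 0 :=
    hS.orthogonal χ hχ _ (hS.conj_mem χ hχ) (hS.conj_ne χ hχ).symm
  have hψχ : classInner ψ χ = 0 := by rw [← classInner_conj_symm, h1, map_zero]
  have hψc : classInner ψ (conjFun χ) = 0 := by rw [← classInner_conj_symm, h2, map_zero]
  have hsr : classInner (τ₁ (χ - ψ)) (∑ α ∈ R χ, α) = ∑ α ∈ R χ, classInner (τ₁ (χ - ψ)) α :=
    classInner_sum_right (R χ) (τ₁ (χ - ψ)) (fun α => α)
  have hsumx : ∑ α ∈ R χ, classInner (τ₁ (χ - ψ)) α = classInner χ χ := by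
    rw [← hsr, ← hY, hiso _ hm1 _ hm2, classInner_sub_left, classInner_sub_right,
      classInner_sub_right, hcc, hψχ, hψc]
    ring
  have hint : ∀ α ∈ R χ, ∃ k : ℤ, classInner (τ₁ (χ - ψ)) α = k :=
    fun α hα => virt_inner_int hXv (hS.virtual χ hχ α hα)
  have hXX : classInner (τ₁ (χ - ψ)) (τ₁ (χ - ψ)) = classInner χ χ + classInner ψ ψ := by
    rw [hiso _ hm1 _ hm1, classInner_sub_left, classInner_sub_right, classInner_sub_right, h1,
      hψχ]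
    ring
  have hge : ∀ α ∈ R χ, (classInner (τ₁ (χ - ψ)) α).re ≤ ‖classInner (τ₁ (χ - ψ)) α‖ ^ 2 := by
    intro α hα
    obtain ⟨k, hk⟩ := hint α hα
    exact (int_fact _ k hk).1
  have hre : (classInner χ χ).re = ∑ α ∈ R χ, (classInner (τ₁ (χ - ψ)) α).re := by
    rw [← hsumx, Complex.re_sum]
  constructor
  · rw [hre]
    exact Finset.sum_le_sum hge
  · intro hyp
    have hle : ∑ α ∈ R χ, ‖classInner (τ₁ (χ - ψ)) α‖ ^ 2 ≤ (classInner χ χ).re := by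
      rw [hXX, Complex.add_re] at hyp
      linarith
    have heq : ∑ α ∈ R χ, ‖classInner (τ₁ (χ - ψ)) α‖ ^ 2 = (classInner χ χ).re :=
      le_antisymm hle (by rw [hre]; exact Finset.sum_le_sum hge)
    refine ⟨heq, ?_⟩
    intro α hα
    obtain ⟨k, hk⟩ := hint α hα
    apply (int_fact _ k hk).2
    have hzero : ∑ α ∈ R χ, (‖classInner (τ₁ (χ - ψ)) α‖ ^ 2
        - (classInner (τ₁ (χ - ψ)) α).re) = 0 := by
      rw [Finset.sum_sub_distrib, heq, hre]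
      ring
    have := (Finset.sum_eq_zero_iff_of_nonneg
      (fun α hα => sub_nonneg.mpr (hge α hα))).mp hzero α hα
    linarith

end Cfsg.Agent.S1515
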