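import Cfsg.Statements.S1516
import Cfsg.Agent.Lib_helper8_Coh
import Cfsg.Agent.Lib_helper24_CharValues

set_option autoImplicit false
open Cfsg

namespace Cfsg.Agent.S1516

open Cfsg.Agent.helper24 Cfsg.Agent.helper12 Cfsg.Agent.helper8 Cfsg.Agent.helper8.Coh
open scoped ComplexConjugate

universe u v
variable {L : Type u} [Group L] [Fintype L] {G : Type v} [Group G] [Fintype G]

theorem perp_comb (R' : Finset (G → ℂ)) (c : (G → ℂ) → ℂ) (α : G → ℂ)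
    (h : ∀ β ∈ R', classInner β α = 0) : classInner (∑ β ∈ R', c β • β) α = 0 := by
  rw [classInner_comb_left]
  apply Finset.sum_eq_zero
  intro β hβ
  rw [h β hβ, mul_zero]

theorem orthonormal_facts {S : Set (L → ℂ)} {τ : (L → ℂ) → (G → ℂ)}
    {R : (L → ℂ) → Finset (G → ℂ)} (hS : IsCoherenceSystem S τ R) {χ : L → ℂ} (hχ : χ ∈ S) :
    (∀ α ∈ R χ, classInner α α = 1) ∧
      (∀ α ∈ R χ, ∀ β ∈ R χ, α ≠ β → classInner α β = 0) := by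
  constructor
  · intro α hα
    have := hS.orthonormal χ hχ α hα α hα
    rw [if_pos rfl] at this
    exact this
  · intro α hα β hβ hne
    have := hS.orthonormal χ hχ α hα β hβ
    rw [if_neg hne] at this
    exact this

theorem iso_zero {T : Set (L → ℂ)} {τ₁ : (L → ℂ) → (G → ℂ)}
    (h : IsLinearIsometryOn (zspan T) τ₁) : τ₁ 0 = 0 := by
  obtain ⟨-, hsmul, -, -⟩ := h
  have := hsmul 0 (Submodule.zero_mem (Submodule.span ℤ T)) 0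
  simpa using this

theorem iso_sub {T : Set (L → ℂ)} {τ₁ : (L → ℂ) → (G → ℂ)}
    (h : IsLinearIsometryOn (zspan T) τ₁) {a b : L → ℂ} (ha : a ∈ Submodule.span ℤ T)
    (hb : b ∈ Submodule.span ℤ T) : τ₁ (a - b) = τ₁ a - τ₁ b := by
  obtain ⟨hadd, hsmul, -, -⟩ := h
  have e : a - b = a + (-1 : ℤ) • b := by rw [neg_smul, one_smul, sub_eq_add_neg]
  rw [e, hadd a ha _ (Submodule.smul_mem _ _ hb), hsmul b hb, neg_smul, one_smul, sub_eq_add_neg]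

theorem bessel_orth {ι : Type*} (s : Finset ι) (v : ι → G → ℂ) (N : ι → ℝ)
    (hN : ∀ i ∈ s, N i ≠ 0) (hvv : ∀ i ∈ s, classInner (v i) (v i) = (N i : ℂ))
    (hv0 : ∀ i ∈ s, ∀ j ∈ s, i ≠ j → classInner (v i) (v j) = 0)
    (γ : G → ℂ) (w : ι → ℝ) (hw : ∀ i ∈ s, classInner γ (v i) = (w i : ℂ)) :
    classInner (γ - ∑ i ∈ s, ((w i / N i : ℝ) : ℂ) • v i)
        (γ - ∑ i ∈ s, ((w i / N i : ℝ) : ℂ) • v i)
      = classInner γ γ - ((∑ i ∈ s, w i ^ 2 / N i : ℝ) : ℂ) := by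
  have e1 : classInner γ (∑ i ∈ s, ((w i / N i : ℝ) : ℂ) • v i)
      = ((∑ i ∈ s, w i ^ 2 / N i : ℝ) : ℂ) := by
    rw [classInner_sum_right, Complex.ofReal_sum]
    apply Finset.sum_congr rfl
    intro i hi
    rw [classInner_smul_right, hw i hi, Complex.conj_ofReal]
    push_cast
    ring
  have e2 : classInner (∑ i ∈ s, ((w i / N i : ℝ) : ℂ) • v i) γ
      = ((∑ i ∈ s, w i ^ 2 / N i : ℝ) : ℂ) := by
    rw [← classInner_conj_symm, e1, Complex.conj_ofReal]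
  have e3 : classInner (∑ i ∈ s, ((w i / N i : ℝ) : ℂ) • v i)
      (∑ i ∈ s, ((w i / N i : ℝ) : ℂ) • v i) = ((∑ i ∈ s, w i ^ 2 / N i : ℝ) : ℂ) := by
    rw [classInner_sum_left, Complex.ofReal_sum]
    apply Finset.sum_congr rfl
    intro i hi
    rw [classInner_smul_left, classInner_sum_right, Finset.sum_eq_single i]
    · rw [classInner_smul_right, hvv i hi, Complex.conj_ofReal]
      have hNi : (N i : ℂ) ≠ 0 := by exact_mod_cast hN i hi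
      push_cast
      field_simp
    · intro j hj hne
      rw [classInner_smul_right, hv0 i hi j hj (Ne.symm hne), mul_zero]
    · intro h
      exact absurd hi h
  rw [classInner_sub_left, classInner_sub_right, classInner_sub_right, e1, e2, e3]
  ring

theorem gram3 {H : Type*} [Group H] [Fintype H] (N : ℂ) (u₁ u₂ f g : H → ℂ) (a b a' b' : ℤ)
    (h11 : classInner u₁ u₁ = N) (h22 : classInner u₂ u₂ = N) (h12 : classInner u₁ u₂ = 0)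
    (h21 : classInner u₂ u₁ = 0) (h1g : classInner u₁ g = 0) (h2g : classInner u₂ g = 0)
    (hf1 : classInner f u₁ = 0) (hf2 : classInner f u₂ = 0) :
    classInner (a • u₁ + b • u₂ + f) (a' • u₁ + b' • u₂ + g)
      = (a : ℂ) * a' * N + (b : ℂ) * b' * N + classInner f g := by
  simp only [classInner_add_left, classInner_add_right, classInner_zsmul_left,
    classInner_zsmul_right, h11, h22, h12, h21, h1g, h2g, hf1, hf2]
  ring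

theorem lemmaT {S : Set (L → ℂ)} {τ : (L → ℂ) → (G → ℂ)} {R : (L → ℂ) → Finset (G → ℂ)}
    (hS : IsCoherenceSystem S τ R) (S₁ : Finset (L → ℂ)) (hS₁ : ↑S₁ ⊆ S)
    (hS₁c : ∀ φ ∈ S₁, conjFun φ ∈ S₁) (τ₁ : (L → ℂ) → (G → ℂ))
    (hτ₁ : IsLinearIsometryOn (zspan (↑S₁ : Set (L → ℂ))) τ₁)
    (hag : ∀ α ∈ zspanOn (↑S₁ : Set (L → ℂ)) {1}ᶜ, τ₁ α = τ α) {ψ : L → ℂ} (hψ : ψ ∈ S₁) :
    ∃ p : (G → ℂ) → ℤ, τ₁ ψ = ∑ α ∈ R ψ, (p α : ℂ) • α := by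
  classical
  have hψS : ψ ∈ S := hS₁ hψ
  have hcψ : conjFun ψ ∈ S₁ := hS₁c ψ hψ
  have hsp : ψ ∈ Submodule.span ℤ (↑S₁ : Set (L → ℂ)) := Submodule.subset_span hψ
  have hspc : conjFun ψ ∈ Submodule.span ℤ (↑S₁ : Set (L → ℂ)) := Submodule.subset_span hcψ
  have hτ₁' := hτ₁
  obtain ⟨hadd, hsmul, hiso, hgc⟩ := hτ₁
  have hE : ψ - conjFun ψ ∈ zspanOn (↑S₁ : Set (L → ℂ)) {1}ᶜ := by
    refine ⟨(Submodule.sub_mem _ hsp hspc : ψ - conjFun ψ ∈ Submodule.span ℤ _), ?_⟩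
    intro x hx
    have hx1 : x = 1 := by
      by_contra h
      exact hx (Set.mem_compl_singleton_iff.mpr h)
    obtain ⟨k, hk⟩ := char_apply_one (hS.isCharacter ψ hψS)
    rw [hx1, Pi.sub_apply]
    show ψ 1 - conj (ψ 1) = 0
    rw [hk, map_natCast, sub_self]
  have e1 : τ₁ (ψ - conjFun ψ) = τ₁ ψ - τ₁ (conjFun ψ) := iso_sub hτ₁' hsp hspc
  have e2 : τ₁ ψ - τ₁ (conjFun ψ) = ∑ α ∈ R ψ, α := by
    rw [← e1, hag _ hE, hS.sum_eq ψ hψS]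
  obtain ⟨k, hk⟩ := classInner_char_nat (hS.isCharacter ψ hψS) (hS.isCharacter ψ hψS)
  have hμμ : classInner (τ₁ ψ) (τ₁ ψ) = k := by rw [hiso ψ hsp ψ hsp, hk]
  have hμμ' : classInner (τ₁ ψ) (τ₁ (conjFun ψ)) = 0 := by
    rw [hiso ψ hsp _ hspc]
    exact hS.orthogonal ψ hψS _ (hS.conj_mem ψ hψS) (hS.conj_ne ψ hψS).symm
  have hex : ∀ α : G → ℂ, ∃ m : ℤ, α ∈ R ψ → classInner (τ₁ ψ) α = m := by
    intro α
    by_cases hα : α ∈ R ψ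
    · obtain ⟨m, hm⟩ := virt_inner_int (hgc ψ hsp) (hS.virtual ψ hψS α hα)
      exact ⟨m, fun _ => hm⟩
    · exact ⟨0, fun h => absurd h hα⟩
  choose p hp using hex
  have hsum : ((∑ α ∈ R ψ, p α : ℤ) : ℂ) = k := by
    have : classInner (τ₁ ψ) (∑ α ∈ R ψ, α) = k := by
      rw [← e2, classInner_sub_right, hμμ, hμμ', sub_zero]
    rw [classInner_sum_right] at this
    push_cast
    rw [← this]
    exact Finset.sum_congr rfl (fun α hα => (hp α hα).symm)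
  obtain ⟨h1, h0⟩ := orthonormal_facts hS hψS
  have b := bessel (R ψ) h1 h0 (τ₁ ψ) p (fun α hα => hp α hα)
  obtain ⟨ρ, hρ0, hρ, hρz⟩ := classInner_self_real (τ₁ ψ - ∑ α ∈ R ψ, (p α : ℂ) • α)
  have hcast : (ρ : ℂ) = (((∑ α ∈ R ψ, p α) - (∑ α ∈ R ψ, p α ^ 2) : ℤ) : ℂ) := by
    rw [← hρ, b, hμμ, ← hsum]
    push_cast
    ring
  have hreal : ρ = (((∑ α ∈ R ψ, p α) - (∑ α ∈ R ψ, p α ^ 2) : ℤ) : ℝ) := by
    exact_mod_cast hcast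
  have hle : ∑ α ∈ R ψ, p α ≤ ∑ α ∈ R ψ, p α ^ 2 :=
    Finset.sum_le_sum (fun α _ => Int.le_self_sq (p α))
  have hρ00 : ρ = 0 := by
    have : (((∑ α ∈ R ψ, p α) - (∑ α ∈ R ψ, p α ^ 2) : ℤ) : ℝ) ≤ 0 := by
      exact_mod_cast (sub_nonpos.mpr hle)
    linarith
  exact ⟨p, sub_eq_zero.mp (hρz hρ00)⟩

theorem lemmaX {S : Set (L → ℂ)} {τ : (L → ℂ) → (G → ℂ)} {R : (L → ℂ) → Finset (G → ℂ)}
    (hS : IsCoherenceSystem S τ R) (d n : (L → ℂ) → ℕ) (hd : ∀ φ ∈ S, φ 1 = (d φ : ℂ))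
    (hn : ∀ φ ∈ S, classInner φ φ = (n φ : ℂ))
    (S₁ : Finset (L → ℂ)) (hS₁ : ↑S₁ ⊆ S)
    (hS₁c : ∀ φ ∈ S₁, conjFun φ ∈ S₁) (τ₁ : (L → ℂ) → (G → ℂ))
    (hτ₁ : IsLinearIsometryOn (zspan (↑S₁ : Set (L → ℂ))) τ₁)
    (hag : ∀ α ∈ zspanOn (↑S₁ : Set (L → ℂ)) {1}ᶜ, τ₁ α = τ α)
    (χ : L → ℂ) (hχ : χ ∈ S) (hχ₁ : χ ∉ S₁) (hχ₂ : conjFun χ ∉ S₁) (χ₁ : L → ℂ)
    (hχ₁S : χ₁ ∈ S₁) (a : ℕ) (ha : d χ = d χ₁ * a)
    (hineq : (2 * d χ * d χ₁ : ℝ) < ∑ φ ∈ S₁, ((d φ : ℝ) ^ 2 / (n φ : ℝ))) :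
    ∃ X : G → ℂ, X = τ (χ - (a : ℤ) • χ₁) + (a : ℤ) • τ₁ χ₁ ∧ IsGeneralizedCharacter G X ∧
      (∀ ψ ∈ S₁, classInner X (τ₁ ψ) = 0) ∧ classInner X X = (n χ : ℂ) ∧
      classInner X (∑ α ∈ R χ, α) = (n χ : ℂ) ∧
      (∀ ψ ∈ S₁, classInner (∑ α ∈ R χ, α) (τ₁ ψ) = 0) := by
  classical
  obtain ⟨hadd, hsmul, hiso, hgc⟩ := hS.isometry
  have hτ₁' := hτ₁
  obtain ⟨hadd₁, hsmul₁, hiso₁, hgc₁⟩ := hτ₁
  have hχ₁' : χ₁ ∈ S := hS₁ hχ₁S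
  have hχne : ∀ ψ ∈ S₁, χ ≠ ψ := fun ψ hψ h => hχ₁ (h ▸ hψ)
  have hcχne : ∀ ψ ∈ S₁, conjFun χ ≠ ψ := fun ψ hψ h => hχ₂ (h ▸ hψ)
  have hcχ : conjFun χ ∈ S := hS.conj_mem χ hχ
  have oχ : ∀ ψ ∈ S₁, classInner χ ψ = 0 :=
    fun ψ hψ => hS.orthogonal χ hχ ψ (hS₁ hψ) (hχne ψ hψ)
  have oχ' : ∀ ψ ∈ S₁, classInner ψ χ = 0 :=
    fun ψ hψ => hS.orthogonal ψ (hS₁ hψ) χ hχ (hχne ψ hψ).symm
  have ocχ' : ∀ ψ ∈ S₁, classInner ψ (conjFun χ) = 0 :=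
    fun ψ hψ => hS.orthogonal ψ (hS₁ hψ) _ hcχ (hcχne ψ hψ).symm
  have oχχ : classInner χ (conjFun χ) = 0 :=
    hS.orthogonal χ hχ _ hcχ (hS.conj_ne χ hχ).symm
  have hRperp : ∀ ψ ∈ S₁, ∀ β ∈ R ψ, ∀ α ∈ R χ, classInner β α = 0 :=
    fun ψ hψ => hS.disjoint χ hχ ψ (hS₁ hψ) (oχ' ψ hψ) (ocχ' ψ hψ)
  have hτ₁perp : ∀ ψ ∈ S₁, ∀ α ∈ R χ, classInner (τ₁ ψ) α = 0 := by
    intro ψ hψ α hα
    obtain ⟨p, hp⟩ := lemmaT hS S₁ hS₁ hS₁c τ₁ hτ₁' hag hψ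
    rw [hp]
    exact perp_comb _ _ α (fun β hβ => hRperp ψ hψ β hβ α hα)
  have hτ₁perp' : ∀ ψ ∈ S₁, ∀ α ∈ R χ, classInner α (τ₁ ψ) = 0 := by
    intro ψ hψ α hα
    rw [← classInner_conj_symm, hτ₁perp ψ hψ α hα, map_zero]
  have hSumperp : ∀ ψ ∈ S₁, classInner (∑ α ∈ R χ, α) (τ₁ ψ) = 0 := by
    intro ψ hψ
    rw [classInner_sum_left]
    exact Finset.sum_eq_zero (fun α hα => hτ₁perp' ψ hψ α hα)
  have hV : ∀ ψ ∈ S₁, ψ ∈ Submodule.span ℤ (↑S₁ : Set (L → ℂ)) :=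
    fun ψ hψ => Submodule.subset_span (Finset.mem_coe.mpr hψ)
  have hVS : Submodule.span ℤ (↑S₁ : Set (L → ℂ)) ≤ Submodule.span ℤ S :=
    Submodule.span_mono hS₁
  have hone : ∀ x : L, x ∉ ({1}ᶜ : Set L) → x = 1 := by
    intro x hx
    by_contra h
    exact hx (Set.mem_compl_singleton_iff.mpr h)
  have hEmono : ∀ σ ∈ zspanOn (↑S₁ : Set (L → ℂ)) {1}ᶜ, σ ∈ zspanOn S {1}ᶜ :=
    fun σ hσ => ⟨hVS hσ.1, hσ.2⟩
  have hβE : χ - (a : ℤ) • χ₁ ∈ zspanOn S {1}ᶜ := by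
    refine ⟨(Submodule.sub_mem _ (Submodule.subset_span hχ)
      (Submodule.smul_mem _ _ (Submodule.subset_span hχ₁')) : _ ∈ Submodule.span ℤ S), ?_⟩
    intro x hx
    rw [hone x hx, Pi.sub_apply, Pi.smul_apply, hd χ hχ, hd χ₁ hχ₁', ha, zsmul_eq_mul]
    push_cast
    ring
  have hχχE : χ - conjFun χ ∈ zspanOn S {1}ᶜ := by
    refine ⟨(Submodule.sub_mem _ (Submodule.subset_span hχ) (Submodule.subset_span hcχ) :
      _ ∈ Submodule.span ℤ S), ?_⟩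
    intro x hx
    rw [hone x hx, Pi.sub_apply]
    show χ 1 - conj (χ 1) = 0
    rw [hd χ hχ, map_natCast, sub_self]
  refine ⟨τ (χ - (a : ℤ) • χ₁) + (a : ℤ) • τ₁ χ₁, rfl, ?_⟩
  obtain ⟨X, hX⟩ : ∃ X, X = τ (χ - (a : ℤ) • χ₁) + (a : ℤ) • τ₁ χ₁ := ⟨_, rfl⟩
  rw [← hX]
  have Xgc : IsGeneralizedCharacter G X := by
    rw [hX]
    exact gc_add (hgc _ hβE) (gc_zsmul _ (hgc₁ _ (hV χ₁ hχ₁S)))
  have hχV : ∀ σ ∈ Submodule.span ℤ (↑S₁ : Set (L → ℂ)), classInner χ σ = 0 := by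
    intro σ hσ
    induction hσ using Submodule.span_induction with
    | mem ψ hψ => exact oχ ψ (Finset.mem_coe.mp hψ)
    | zero => exact classInner_zero_right _
    | add a b _ _ iha ihb => rw [classInner_add_right, iha, ihb, add_zero]
    | smul m a _ iha => rw [classInner_zsmul_right, iha, mul_zero]
  have hXσ : ∀ σ ∈ zspanOn (↑S₁ : Set (L → ℂ)) {1}ᶜ, classInner X (τ₁ σ) = 0 := by
    intro σ hσ
    rw [hX, classInner_add_left, classInner_zsmul_left, hiso₁ χ₁ (hV χ₁ hχ₁S) σ hσ.1,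
      hag σ hσ, hiso _ hβE σ (hEmono σ hσ), classInner_sub_left, classInner_zsmul_left,
      hχV σ hσ.1]
    ring
  obtain ⟨e, he⟩ := virt_inner_int Xgc (hgc₁ _ (hV χ₁ hχ₁S))
  have hu : ∀ ψ ∈ S₁, (d χ₁ : ℂ) * classInner X (τ₁ ψ) = (d ψ : ℂ) * e := by
    intro ψ hψ
    have hδ : (d ψ : ℤ) • χ₁ - (d χ₁ : ℤ) • ψ ∈ zspanOn (↑S₁ : Set (L → ℂ)) {1}ᶜ := by
      refine ⟨(Submodule.sub_mem _ (Submodule.smul_mem _ _ (hV χ₁ hχ₁S))
        (Submodule.smul_mem _ _ (hV ψ hψ)) : _ ∈ Submodule.span ℤ _), ?_⟩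
      intro x hx
      rw [hone x hx, Pi.sub_apply, Pi.smul_apply, Pi.smul_apply, hd χ₁ hχ₁', hd ψ (hS₁ hψ),
        zsmul_eq_mul, zsmul_eq_mul]
      push_cast
      ring
    have h0 := hXσ _ hδ
    rw [iso_sub hτ₁' (Submodule.smul_mem _ _ (hV χ₁ hχ₁S)) (Submodule.smul_mem _ _ (hV ψ hψ)),
      hsmul₁ _ (hV χ₁ hχ₁S), hsmul₁ _ (hV ψ hψ), classInner_sub_right, classInner_zsmul_right,
      classInner_zsmul_right, he] at h0
    push_cast at h0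
    linear_combination -h0
  -- the inner product of τβ with τ₁ χ₁
  have hn₁ : classInner (τ₁ χ₁) (τ₁ χ₁) = (n χ₁ : ℂ) := by
    rw [hiso₁ χ₁ (hV χ₁ hχ₁S) χ₁ (hV χ₁ hχ₁S), hn χ₁ hχ₁']
  have ht : classInner (τ (χ - (a : ℤ) • χ₁)) (τ₁ χ₁) = (e : ℂ) - (a : ℂ) * (n χ₁ : ℂ) := by
    have := he
    rw [hX, classInner_add_left, classInner_zsmul_left, hn₁] at this
    push_cast at this
    linear_combination this
  have ht' : classInner (τ₁ χ₁) (τ (χ - (a : ℤ) • χ₁)) = (e : ℂ) - (a : ℂ) * (n χ₁ : ℂ) := by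
    rw [← classInner_conj_symm, ht, map_sub, map_mul, map_intCast, map_natCast, map_natCast]
  have hββ : classInner (τ (χ - (a : ℤ) • χ₁)) (τ (χ - (a : ℤ) • χ₁))
      = (n χ : ℂ) + (a : ℂ) ^ 2 * (n χ₁ : ℂ) := by
    rw [hiso _ hβE _ hβE]
    have eβ : χ - (a : ℤ) • χ₁ = (-(a : ℤ)) • χ₁ + χ := by rw [neg_smul]; abel
    rw [eβ, inner_expand, hn χ₁ hχ₁', hn χ hχ, oχ χ₁ hχ₁S, oχ' χ₁ hχ₁S]
    push_cast
    ring
  have hXX : classInner X X = (n χ : ℂ) + 2 * (a : ℂ) * (e : ℂ) := by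
    have eX : X = (a : ℤ) • τ₁ χ₁ + τ (χ - (a : ℤ) • χ₁) := by rw [hX, add_comm]
    rw [eX, inner_expand, hn₁, ht, ht', hββ]
    push_cast
    ring
  have hX4 : classInner X (∑ α ∈ R χ, α) = (n χ : ℂ) := by
    have h1 : classInner (τ₁ χ₁) (∑ α ∈ R χ, α) = 0 := by
      rw [← classInner_conj_symm, hSumperp χ₁ hχ₁S, map_zero]
    rw [hX, classInner_add_left, classInner_zsmul_left, h1, ← hS.sum_eq χ hχ,
      hiso _ hβE _ hχχE, classInner_sub_left, classInner_sub_right, classInner_sub_right,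
      classInner_zsmul_left, classInner_zsmul_left, hn χ hχ, oχχ, oχ' χ₁ hχ₁S, ocχ' χ₁ hχ₁S]
    ring
  -- coefficients along R χ
  have hexx : ∀ α : G → ℂ, ∃ k : ℤ, α ∈ R χ → classInner X α = k := by
    intro α
    by_cases hα : α ∈ R χ
    · obtain ⟨k, hk⟩ := virt_inner_int Xgc (hS.virtual χ hχ α hα)
      exact ⟨k, fun _ => hk⟩
    · exact ⟨0, fun h => absurd h hα⟩
  choose x hx using hexx
  have hsx : ((∑ α ∈ R χ, x α : ℤ) : ℂ) = (n χ : ℂ) := by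
    rw [← hX4, classInner_sum_right]
    push_cast
    exact Finset.sum_congr rfl (fun α hα => (hx α hα).symm)
  have hsx' : ∑ α ∈ R χ, x α = (n χ : ℤ) := by exact_mod_cast hsx
  obtain ⟨hχ1, hχ0⟩ := orthonormal_facts hS hχ
  have b1 := bessel (R χ) hχ1 hχ0 X x (fun α hα => hx α hα)
  -- nonvanishing of degrees and norms
  have hne0 : ∀ φ ∈ S, φ ≠ 0 := by
    intro φ hφ h0
    apply hS.conj_ne φ hφ
    rw [h0]
    funext g
    simp [conjFun]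
  have hnpos : ∀ φ ∈ S, (n φ : ℝ) ≠ 0 := by
    intro φ hφ h0
    apply hne0 φ hφ
    apply classInner_self_eq_zero
    rw [hn φ hφ]
    have : n φ = 0 := by exact_mod_cast h0
    rw [this]
    simp
  have hdpos : ∀ φ ∈ S, d φ ≠ 0 := by
    intro φ hφ h0
    apply hne0 φ hφ
    funext g
    have := Cfsg.Agent.helper24.char_norm_le (hS.isCharacter φ hφ) g
    rw [hd φ hφ, h0] at this
    simp only [Nat.cast_zero, norm_zero] at this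
    exact norm_le_zero_iff.mp this
  have hd₁ : (d χ₁ : ℝ) ≠ 0 := by exact_mod_cast hdpos χ₁ hχ₁'
  have hd₁c : (d χ₁ : ℂ) ≠ 0 := by exact_mod_cast hdpos χ₁ hχ₁'
  -- second stage
  have hr1 : ∀ ψ ∈ S₁, classInner (X - ∑ α ∈ R χ, (x α : ℂ) • α) (τ₁ ψ)
      = (((d ψ : ℝ) * (e : ℝ) / (d χ₁ : ℝ) : ℝ) : ℂ) := by
    intro ψ hψ
    rw [classInner_sub_left, perp_comb (R χ) _ (τ₁ ψ) (fun α hα => hτ₁perp' ψ hψ α hα),
      sub_zero]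
    have := hu ψ hψ
    push_cast
    field_simp
    linear_combination this
  have b2 := bessel_orth S₁ (fun ψ => τ₁ ψ) (fun ψ => (n ψ : ℝ))
    (fun ψ hψ => hnpos ψ (hS₁ hψ))
    (fun ψ hψ => by
      show classInner (τ₁ ψ) (τ₁ ψ) = ((n ψ : ℝ) : ℂ)
      rw [hiso₁ ψ (hV ψ hψ) ψ (hV ψ hψ), hn ψ (hS₁ hψ)]
      simp)
    (fun ψ hψ φ hφ hne => by
      show classInner (τ₁ ψ) (τ₁ φ) = 0
      rw [hiso₁ ψ (hV ψ hψ) φ (hV φ hφ)]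
      exact hS.orthogonal ψ (hS₁ hψ) φ (hS₁ hφ) hne)
    (X - ∑ α ∈ R χ, (x α : ℂ) • α) (fun ψ => (d ψ : ℝ) * (e : ℝ) / (d χ₁ : ℝ)) hr1
  obtain ⟨ρ, hρ0, hρ, -⟩ := classInner_self_real
    (X - ∑ α ∈ R χ, (x α : ℂ) • α - ∑ ψ ∈ S₁,
      ((((d ψ : ℝ) * (e : ℝ) / (d χ₁ : ℝ)) / (n ψ : ℝ) : ℝ) : ℂ) • τ₁ ψ)
  have hcast : (ρ : ℂ) = (((n χ : ℝ) + 2 * (a : ℝ) * (e : ℝ)
      - ((∑ α ∈ R χ, x α ^ 2 : ℤ) : ℝ)
      - ∑ ψ ∈ S₁, ((d ψ : ℝ) * (e : ℝ) / (d χ₁ : ℝ)) ^ 2 / (n ψ : ℝ) : ℝ) : ℂ) := by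
    rw [← hρ, b2, b1, hXX]
    push_cast
    ring
  have hreal : ρ = (n χ : ℝ) + 2 * (a : ℝ) * (e : ℝ) - ((∑ α ∈ R χ, x α ^ 2 : ℤ) : ℝ)
      - ∑ ψ ∈ S₁, ((d ψ : ℝ) * (e : ℝ) / (d χ₁ : ℝ)) ^ 2 / (n ψ : ℝ) := by
    exact_mod_cast hcast
  have hle : ∑ α ∈ R χ, x α ≤ ∑ α ∈ R χ, x α ^ 2 :=
    Finset.sum_le_sum (fun α _ => Int.le_self_sq (x α))
  have hQ : (n χ : ℝ) ≤ ((∑ α ∈ R χ, x α ^ 2 : ℤ) : ℝ) := by
    rw [hsx'] at hle
    exact_mod_cast hle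
  have hsumform : ∑ ψ ∈ S₁, ((d ψ : ℝ) * (e : ℝ) / (d χ₁ : ℝ)) ^ 2 / (n ψ : ℝ)
      = ((e : ℝ) ^ 2 / (d χ₁ : ℝ) ^ 2) * ∑ φ ∈ S₁, ((d φ : ℝ) ^ 2 / (n φ : ℝ)) := by
    rw [Finset.mul_sum]
    apply Finset.sum_congr rfl
    intro ψ hψ
    have := hnpos ψ (hS₁ hψ)
    field_simp
  have he0 : e = 0 := by
    by_contra hne
    have hE2 : (0 : ℝ) < (e : ℝ) ^ 2 := by
      have : (e : ℝ) ≠ 0 := by exact_mod_cast hne
      positivity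
    have hd₁pos : (0 : ℝ) < (d χ₁ : ℝ) := by
      have : 0 < d χ₁ := Nat.pos_of_ne_zero (hdpos χ₁ hχ₁')
      exact_mod_cast this
    have h1 : 2 * (a : ℝ) * (d χ₁ : ℝ) ^ 2 < ∑ φ ∈ S₁, ((d φ : ℝ) ^ 2 / (n φ : ℝ)) := by
      have : (2 * d χ * d χ₁ : ℝ) = 2 * (a : ℝ) * (d χ₁ : ℝ) ^ 2 := by
        rw [ha]
        push_cast
        ring
      rw [← this]
      exact hineq
    have h2 := mul_lt_mul_of_pos_left h1 (div_pos hE2 (pow_pos hd₁pos 2))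
    have h3 : (e : ℝ) ^ 2 / (d χ₁ : ℝ) ^ 2 * (2 * (a : ℝ) * (d χ₁ : ℝ) ^ 2)
        = 2 * (a : ℝ) * (e : ℝ) ^ 2 := by
      field_simp
    have h4 : (e : ℝ) ≤ (e : ℝ) ^ 2 := by exact_mod_cast Int.le_self_sq e
    have h5 : 2 * (a : ℝ) * (e : ℝ) ≤ 2 * (a : ℝ) * (e : ℝ) ^ 2 :=
      mul_le_mul_of_nonneg_left h4 (by positivity)
    rw [hsumform] at hreal
    linarith
  refine ⟨Xgc, ?_, ?_, hX4, hSumperp⟩
  · intro ψ hψ
    have := hu ψ hψ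
    rw [he0] at this
    simp only [Int.cast_zero, mul_zero] at this
    rcases mul_eq_zero.mp this with h | h
    · exact absurd h hd₁c
    · exact h
  · rw [hXX, he0]
    simp


/-- Let (S, τ, R) be a coherence system from L to G with degrees φ 1 = d φ and squared norms ⟨φ, φ⟩ = n φ for φ ∈ S. Let S₁ ⊆ S be a finite subset closed under complex conjugation such that (S₁, L minus 1, τ) is coherent, let χ ∈ S with χ ∉ S₁ and conj χ ∉ S₁, and let χ₁ ∈ S₁ with d χ₁ dividing d χ and 2 d χ d χ₁ < Σ_{φ ∈ S₁} (d φ)² / n φ. Then S₁ together with χ and conj χ is coherent. -/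
theorem result {L : Type*} [Group L] [Fintype L] {G : Type*} [Group G] [Fintype G] (S : Set (L → ℂ)) (τ : (L → ℂ) → (G → ℂ)) (R : (L → ℂ) → Finset (G → ℂ)) (hS : Cfsg.IsCoherenceSystem S τ R) (d n : (L → ℂ) → ℕ) (hd : ∀ φ ∈ S, φ 1 = (d φ : ℂ)) (hn : ∀ φ ∈ S, Cfsg.classInner φ φ = (n φ : ℂ)) (S₁ : Finset (L → ℂ)) (hS₁ : ↑S₁ ⊆ S) (hS₁c : ∀ φ ∈ S₁, Cfsg.conjFun φ ∈ S₁) (hcoh : Cfsg.IsCoherent (↑S₁ : Set (L → ℂ)) {1}ᶜ τ) (χ : L → ℂ) (hχ : χ ∈ S) (hχ₁ : χ ∉ S₁) (hχ₂ : Cfsg.conjFun χ ∉ S₁) (χ₁ : L → ℂ) (hχ₁S : χ₁ ∈ S₁) (hdvd : d χ₁ ∣ d χ) (hineq : (2 * d χ * d χ₁ : ℝ) < ∑ φ ∈ S₁, ((d φ : ℝ) ^ 2 / (n φ : ℝ))) : Cfsg.IsCoherent (↑S₁ ∪ {χ, Cfsg.conjFun χ} : Set (L → ℂ)) {1}ᶜ τ := by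
  classical
  obtain ⟨⟨α₀, hα₀, hα₀ne⟩, τ₁, hτ₁, hag⟩ := hcoh
  obtain ⟨a, ha⟩ := hdvd
  obtain ⟨X, hXdef, Xgc, X2, X3, X4, XS⟩ :=
    lemmaX hS d n hd hn S₁ hS₁ hS₁c τ₁ hτ₁ hag χ hχ hχ₁ hχ₂ χ₁ hχ₁S a ha hineq
  obtain ⟨hadd, hsmul, hiso, hgc⟩ := hS.isometry
  have hτ₁' := hτ₁
  obtain ⟨hadd₁, hsmul₁, hiso₁, hgc₁⟩ := hτ₁
  have hχ₁' : χ₁ ∈ S := hS₁ hχ₁S
  have hcχ : Cfsg.conjFun χ ∈ S := hS.conj_mem χ hχ
  have hV₁V' : Submodule.span ℤ (↑S₁ : Set (L → ℂ))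
      ≤ Submodule.span ℤ (↑S₁ ∪ {χ, Cfsg.conjFun χ} : Set (L → ℂ)) :=
    Submodule.span_mono Set.subset_union_left
  have hV'V : Submodule.span ℤ (↑S₁ ∪ {χ, Cfsg.conjFun χ} : Set (L → ℂ))
      ≤ Submodule.span ℤ S := by
    apply Submodule.span_mono
    intro φ hφ
    rcases hφ with hφ | hφ | hφ
    · exact hS₁ hφ
    · rw [hφ]; exact hχ
    · rw [Set.mem_singleton_iff.mp hφ]; exact hcχ
  have hVS : Submodule.span ℤ (↑S₁ : Set (L → ℂ)) ≤ Submodule.span ℤ S :=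
    Submodule.span_mono hS₁
  have hV : ∀ ψ ∈ S₁, ψ ∈ Submodule.span ℤ (↑S₁ : Set (L → ℂ)) :=
    fun ψ hψ => Submodule.subset_span (Finset.mem_coe.mpr hψ)
  refine ⟨⟨α₀, ⟨hV₁V' hα₀.1, hα₀.2⟩, hα₀ne⟩, ?_⟩
  have hone : ∀ x : L, x ∉ ({1}ᶜ : Set L) → x = 1 := by
    intro x hx
    by_contra h
    exact hx (Set.mem_compl_singleton_iff.mpr h)
  have hnχ : (n χ : ℂ) ≠ 0 := by
    intro h0
    have hz : χ = 0 := classInner_self_eq_zero (by rw [hn χ hχ, h0])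
    apply hS.conj_ne χ hχ
    rw [hz]
    funext g
    simp [Cfsg.conjFun]
  have hχne : ∀ ψ ∈ S₁, χ ≠ ψ := fun ψ hψ h => hχ₁ (h ▸ hψ)
  have hcχne : ∀ ψ ∈ S₁, Cfsg.conjFun χ ≠ ψ := fun ψ hψ h => hχ₂ (h ▸ hψ)
  have oχ' : ∀ ψ ∈ S₁, Cfsg.classInner ψ χ = 0 :=
    fun ψ hψ => hS.orthogonal ψ (hS₁ hψ) χ hχ (hχne ψ hψ).symm
  have ocχ' : ∀ ψ ∈ S₁, Cfsg.classInner ψ (Cfsg.conjFun χ) = 0 :=
    fun ψ hψ => hS.orthogonal ψ (hS₁ hψ) _ hcχ (hcχne ψ hψ).symm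
  have oχχ : Cfsg.classInner χ (Cfsg.conjFun χ) = 0 :=
    hS.orthogonal χ hχ _ hcχ (hS.conj_ne χ hχ).symm
  have oχχ' : Cfsg.classInner (Cfsg.conjFun χ) χ = 0 :=
    hS.orthogonal _ hcχ χ hχ (hS.conj_ne χ hχ)
  have hcc : Cfsg.classInner (Cfsg.conjFun χ) (Cfsg.conjFun χ) = (n χ : ℂ) := by
    rw [classInner_conjFun, hn χ hχ, map_natCast]
  have hχχE : χ - Cfsg.conjFun χ ∈ Cfsg.zspanOn S {1}ᶜ := by
    refine ⟨(Submodule.sub_mem _ (Submodule.subset_span hχ) (Submodule.subset_span hcχ) :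
      _ ∈ Submodule.span ℤ S), ?_⟩
    intro x hx
    rw [hone x hx, Pi.sub_apply]
    show χ 1 - (starRingEnd ℂ) (χ 1) = 0
    rw [hd χ hχ, map_natCast, sub_self]
  have hβE : χ - (a : ℤ) • χ₁ ∈ Cfsg.zspanOn S {1}ᶜ := by
    refine ⟨(Submodule.sub_mem _ (Submodule.subset_span hχ)
      (Submodule.smul_mem _ _ (Submodule.subset_span hχ₁')) : _ ∈ Submodule.span ℤ S), ?_⟩
    intro x hx
    rw [hone x hx, Pi.sub_apply, Pi.smul_apply, hd χ hχ, hd χ₁ hχ₁', ha, zsmul_eq_mul]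
    push_cast
    ring
  -- the second new vector
  obtain ⟨Xb, hXb⟩ : ∃ Xb, Xb = X - ∑ α ∈ R χ, α := ⟨_, rfl⟩
  have hSS : Cfsg.classInner (∑ α ∈ R χ, α) (∑ α ∈ R χ, α) = 2 * (n χ : ℂ) := by
    rw [← hS.sum_eq χ hχ, hiso _ hχχE _ hχχE, classInner_sub_left, classInner_sub_right,
      classInner_sub_right, hn χ hχ, oχχ, oχχ', hcc]
    ring
  have hSX : Cfsg.classInner (∑ α ∈ R χ, α) X = (n χ : ℂ) := by
    rw [← classInner_conj_symm, X4, map_natCast]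
  have g12 : Cfsg.classInner X Xb = 0 := by
    rw [hXb, classInner_sub_right, X3, X4, sub_self]
  have g21 : Cfsg.classInner Xb X = 0 := by
    rw [hXb, classInner_sub_left, X3, hSX, sub_self]
  have g22 : Cfsg.classInner Xb Xb = (n χ : ℂ) := by
    rw [hXb, classInner_sub_left, classInner_sub_right, classInner_sub_right, X3, X4, hSX, hSS]
    ring
  have Xbgc : Cfsg.IsGeneralizedCharacter G Xb := by
    rw [hXb]
    exact gc_sub Xgc (gc_sum _ _ (fun α hα => hS.virtual χ hχ α hα))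
  have perp_span : ∀ v : G → ℂ, (∀ ψ ∈ S₁, Cfsg.classInner v (τ₁ ψ) = 0) →
      ∀ σ ∈ Submodule.span ℤ (↑S₁ : Set (L → ℂ)), Cfsg.classInner v (τ₁ σ) = 0 := by
    intro v hv σ hσ
    induction hσ using Submodule.span_induction with
    | mem ψ hψ => exact hv ψ (Finset.mem_coe.mp hψ)
    | zero => rw [iso_zero hτ₁', classInner_zero_right]
    | add a b ha hb iha ihb => rw [hadd₁ a ha b hb, classInner_add_right, iha, ihb, add_zero]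
    | smul m a ha iha => rw [hsmul₁ a ha, classInner_zsmul_right, iha, mul_zero]
  have hXσ := perp_span X X2
  have hXbσ := perp_span Xb (fun ψ hψ => by
    rw [hXb, classInner_sub_left, X2 ψ hψ, XS ψ hψ, sub_zero])
  have hXσ' : ∀ σ ∈ Submodule.span ℤ (↑S₁ : Set (L → ℂ)), Cfsg.classInner (τ₁ σ) X = 0 := by
    intro σ hσ
    rw [← classInner_conj_symm, hXσ σ hσ, map_zero]
  have hXbσ' : ∀ σ ∈ Submodule.span ℤ (↑S₁ : Set (L → ℂ)), Cfsg.classInner (τ₁ σ) Xb = 0 := by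
    intro σ hσ
    rw [← classInner_conj_symm, hXbσ σ hσ, map_zero]
  -- orthogonality on the L side
  have hLσ : ∀ σ ∈ Submodule.span ℤ (↑S₁ : Set (L → ℂ)),
      Cfsg.classInner σ χ = 0 ∧ Cfsg.classInner σ (Cfsg.conjFun χ) = 0 := by
    intro σ hσ
    induction hσ using Submodule.span_induction with
    | mem ψ hψ => exact ⟨oχ' ψ (Finset.mem_coe.mp hψ), ocχ' ψ (Finset.mem_coe.mp hψ)⟩
    | zero => exact ⟨classInner_zero_left _, classInner_zero_left _⟩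
    | add a b _ _ iha ihb =>
      exact ⟨by rw [classInner_add_left, iha.1, ihb.1, add_zero],
        by rw [classInner_add_left, iha.2, ihb.2, add_zero]⟩
    | smul m a _ iha =>
      exact ⟨by rw [classInner_zsmul_left, iha.1, mul_zero],
        by rw [classInner_zsmul_left, iha.2, mul_zero]⟩
  have hLσ1 : ∀ σ ∈ Submodule.span ℤ (↑S₁ : Set (L → ℂ)), Cfsg.classInner χ σ = 0 := by
    intro σ hσ
    rw [← classInner_conj_symm, (hLσ σ hσ).1, map_zero]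
  have hLσ2 : ∀ σ ∈ Submodule.span ℤ (↑S₁ : Set (L → ℂ)),
      Cfsg.classInner (Cfsg.conjFun χ) σ = 0 := by
    intro σ hσ
    rw [← classInner_conj_symm, (hLσ σ hσ).2, map_zero]
  -- coefficient functions
  have hpq : ∀ α ∈ Submodule.span ℤ (↑S₁ ∪ {χ, Cfsg.conjFun χ} : Set (L → ℂ)), ∃ p q : ℤ,
      Cfsg.classInner α χ = (p : ℂ) * (n χ : ℂ) ∧
      Cfsg.classInner α (Cfsg.conjFun χ) = (q : ℂ) * (n χ : ℂ) ∧
      α - p • χ - q • Cfsg.conjFun χ ∈ Submodule.span ℤ (↑S₁ : Set (L → ℂ)) := by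
    intro α hα
    induction hα using Submodule.span_induction with
    | mem φ hφ =>
      rcases hφ with hφ | hφ | hφ
      · refine ⟨0, 0, ?_, ?_, ?_⟩
        · rw [oχ' φ (Finset.mem_coe.mp hφ)]; simp
        · rw [ocχ' φ (Finset.mem_coe.mp hφ)]; simp
        · simpa using Submodule.subset_span hφ
      · refine ⟨1, 0, ?_, ?_, ?_⟩
        · rw [hφ, hn χ hχ]; simp
        · rw [hφ, oχχ]; simp
        · rw [hφ]; simp
      · rw [Set.mem_singleton_iff.mp hφ]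
        refine ⟨0, 1, ?_, ?_, ?_⟩
        · rw [oχχ']; simp
        · rw [hcc]; simp
        · simp
    | zero => exact ⟨0, 0, by simp [classInner_zero_left], by simp [classInner_zero_left],
        by simp⟩
    | add a b _ _ iha ihb =>
      obtain ⟨p₁, q₁, h1, h2, h3⟩ := iha
      obtain ⟨p₂, q₂, h4, h5, h6⟩ := ihb
      refine ⟨p₁ + p₂, q₁ + q₂, by rw [classInner_add_left, h1, h4]; push_cast; ring,
        by rw [classInner_add_left, h2, h5]; push_cast; ring, ?_⟩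
      have : a + b - (p₁ + p₂) • χ - (q₁ + q₂) • Cfsg.conjFun χ
          = (a - p₁ • χ - q₁ • Cfsg.conjFun χ) + (b - p₂ • χ - q₂ • Cfsg.conjFun χ) := by
        rw [add_smul, add_smul]; abel
      rw [this]
      exact Submodule.add_mem _ h3 h6
    | smul m a _ iha =>
      obtain ⟨p₁, q₁, h1, h2, h3⟩ := iha
      refine ⟨m * p₁, m * q₁, by rw [classInner_zsmul_left, h1]; push_cast; ring,
        by rw [classInner_zsmul_left, h2]; push_cast; ring, ?_⟩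
      have : m • a - (m * p₁) • χ - (m * q₁) • Cfsg.conjFun χ
          = m • (a - p₁ • χ - q₁ • Cfsg.conjFun χ) := by
        rw [smul_sub, smul_sub, mul_smul, mul_smul]
      rw [this]
      exact Submodule.smul_mem _ _ h3
  choose! p q hp hq hσ using hpq
  have cancel : ∀ x y : ℤ, (x : ℂ) * (n χ : ℂ) = (y : ℂ) * (n χ : ℂ) → x = y := by
    intro x y hxy
    have := mul_right_cancel₀ hnχ hxy
    exact_mod_cast this
  have p_add : ∀ α ∈ Submodule.span ℤ (↑S₁ ∪ {χ, Cfsg.conjFun χ} : Set (L → ℂ)),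
      ∀ β ∈ Submodule.span ℤ (↑S₁ ∪ {χ, Cfsg.conjFun χ} : Set (L → ℂ)),
      p (α + β) = p α + p β := by
    intro α hα β hβ
    apply cancel
    rw [← hp _ (Submodule.add_mem _ hα hβ), classInner_add_left, hp α hα, hp β hβ]
    push_cast
    ring
  have q_add : ∀ α ∈ Submodule.span ℤ (↑S₁ ∪ {χ, Cfsg.conjFun χ} : Set (L → ℂ)),
      ∀ β ∈ Submodule.span ℤ (↑S₁ ∪ {χ, Cfsg.conjFun χ} : Set (L → ℂ)),
      q (α + β) = q α + q β := by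
    intro α hα β hβ
    apply cancel
    rw [← hq _ (Submodule.add_mem _ hα hβ), classInner_add_left, hq α hα, hq β hβ]
    push_cast
    ring
  have p_smul : ∀ α ∈ Submodule.span ℤ (↑S₁ ∪ {χ, Cfsg.conjFun χ} : Set (L → ℂ)),
      ∀ m : ℤ, p (m • α) = m * p α := by
    intro α hα m
    apply cancel
    rw [← hp _ (Submodule.smul_mem _ m hα), classInner_zsmul_left, hp α hα]
    push_cast
    ring
  have q_smul : ∀ α ∈ Submodule.span ℤ (↑S₁ ∪ {χ, Cfsg.conjFun χ} : Set (L → ℂ)),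
      ∀ m : ℤ, q (m • α) = m * q α := by
    intro α hα m
    apply cancel
    rw [← hq _ (Submodule.smul_mem _ m hα), classInner_zsmul_left, hq α hα]
    push_cast
    ring
  obtain ⟨sg, hsg⟩ : ∃ sg : (L → ℂ) → (L → ℂ),
      ∀ α, sg α = α - p α • χ - q α • Cfsg.conjFun χ := ⟨_, fun _ => rfl⟩
  have sg_mem : ∀ α ∈ Submodule.span ℤ (↑S₁ ∪ {χ, Cfsg.conjFun χ} : Set (L → ℂ)),
      sg α ∈ Submodule.span ℤ (↑S₁ : Set (L → ℂ)) := by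
    intro α hα
    rw [hsg]
    exact hσ α hα
  have sg_add : ∀ α ∈ Submodule.span ℤ (↑S₁ ∪ {χ, Cfsg.conjFun χ} : Set (L → ℂ)),
      ∀ β ∈ Submodule.span ℤ (↑S₁ ∪ {χ, Cfsg.conjFun χ} : Set (L → ℂ)),
      sg (α + β) = sg α + sg β := by
    intro α hα β hβ
    rw [hsg, hsg, hsg, p_add α hα β hβ, q_add α hα β hβ, add_smul, add_smul]
    abel
  have sg_smul : ∀ α ∈ Submodule.span ℤ (↑S₁ ∪ {χ, Cfsg.conjFun χ} : Set (L → ℂ)),
      ∀ m : ℤ, sg (m • α) = m • sg α := by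
    intro α hα m
    rw [hsg, hsg, p_smul α hα m, q_smul α hα m, smul_sub, smul_sub, mul_smul, mul_smul]
  have sg_eq : ∀ α, p α • χ + q α • Cfsg.conjFun χ + sg α = α := by
    intro α
    rw [hsg]
    abel
  refine ⟨fun α => p α • X + q α • Xb + τ₁ (sg α), ⟨?_, ?_, ?_, ?_⟩, ?_⟩
  · intro α hα β hβ
    show p (α + β) • X + q (α + β) • Xb + τ₁ (sg (α + β))
      = (p α • X + q α • Xb + τ₁ (sg α)) + (p β • X + q β • Xb + τ₁ (sg β))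
    rw [p_add α hα β hβ, q_add α hα β hβ, sg_add α hα β hβ,
      hadd₁ _ (sg_mem α hα) _ (sg_mem β hβ), add_smul, add_smul]
    abel
  · intro α hα m
    show p (m • α) • X + q (m • α) • Xb + τ₁ (sg (m • α))
      = m • (p α • X + q α • Xb + τ₁ (sg α))
    rw [p_smul α hα m, q_smul α hα m, sg_smul α hα m, hsmul₁ _ (sg_mem α hα), mul_smul,
      mul_smul, smul_add, smul_add]
  · intro α hα β hβ
    show Cfsg.classInner (p α • X + q α • Xb + τ₁ (sg α)) (p β • X + q β • Xb + τ₁ (sg β))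
      = Cfsg.classInner α β
    have hsa := sg_mem α hα
    have hsb := sg_mem β hβ
    rw [gram3 (n χ : ℂ) X Xb (τ₁ (sg α)) (τ₁ (sg β)) (p α) (q α) (p β) (q β) X3 g22 g12 g21
      (hXσ _ hsb) (hXbσ _ hsb) (hXσ' _ hsa) (hXbσ' _ hsa), hiso₁ _ hsa _ hsb]
    conv_rhs => rw [← sg_eq α, ← sg_eq β]
    rw [gram3 (n χ : ℂ) χ (Cfsg.conjFun χ) (sg α) (sg β) (p α) (q α) (p β) (q β) (hn χ hχ) hcc
      oχχ oχχ' (hLσ1 _ hsb) (hLσ2 _ hsb) (hLσ _ hsa).1 (hLσ _ hsa).2]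
  · intro α hα
    exact gc_add (gc_add (gc_zsmul _ Xgc) (gc_zsmul _ Xbgc)) (hgc₁ _ (sg_mem α hα))
  · intro δ hδ
    show p δ • X + q δ • Xb + τ₁ (sg δ) = τ δ
    have hδV' := hδ.1
    have hs := sg_mem δ hδV'
    have hχ₁V := hV χ₁ hχ₁S
    -- the part in the span of S₁ of degree zero
    have hs' : sg δ + ((p δ + q δ) * (a : ℤ)) • χ₁ ∈ Cfsg.zspanOn (↑S₁ : Set (L → ℂ)) {1}ᶜ := by
      refine ⟨(Submodule.add_mem _ hs (Submodule.smul_mem _ _ hχ₁V) :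
        _ ∈ Submodule.span ℤ _), ?_⟩
      intro x hx
      have h1 := hδ.2 x hx
      rw [hone x hx] at h1 ⊢
      have h2 : δ 1 = (p δ : ℂ) * (d χ : ℂ) + (q δ : ℂ) * (d χ : ℂ) + sg δ 1 := by
        conv_lhs => rw [← sg_eq δ]
        rw [Pi.add_apply, Pi.add_apply, Pi.smul_apply, Pi.smul_apply, zsmul_eq_mul, zsmul_eq_mul,
          hd χ hχ]
        congr 2
        show (q δ : ℂ) * (starRingEnd ℂ) (χ 1) = _
        rw [hd χ hχ, map_natCast]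
      rw [Pi.add_apply, Pi.smul_apply, zsmul_eq_mul, hd χ₁ hχ₁']
      rw [h1, ha] at h2
      push_cast at h2 ⊢
      linear_combination -h2
    have hs'S : sg δ + ((p δ + q δ) * (a : ℤ)) • χ₁ ∈ Cfsg.zspanOn S {1}ᶜ :=
      ⟨hVS hs'.1, hs'.2⟩
    have hdecomp : δ = (p δ + q δ) • (χ - (a : ℤ) • χ₁) + ((-(q δ)) • (χ - Cfsg.conjFun χ)
        + (sg δ + ((p δ + q δ) * (a : ℤ)) • χ₁)) := by
      conv_lhs => rw [← sg_eq δ]
      module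
    have hE2 : (-(q δ)) • (χ - Cfsg.conjFun χ) + (sg δ + ((p δ + q δ) * (a : ℤ)) • χ₁)
        ∈ Cfsg.zspanOn S {1}ᶜ := by
      refine ⟨(Submodule.add_mem _ (Submodule.smul_mem _ _ hχχE.1) hs'S.1 :
        _ ∈ Submodule.span ℤ S), ?_⟩
      intro x hx
      rw [Pi.add_apply, Pi.smul_apply, hχχE.2 x hx, hs'S.2 x hx]
      simp
    have hE1 : (p δ + q δ) • (χ - (a : ℤ) • χ₁) ∈ Cfsg.zspanOn S {1}ᶜ := by
      refine ⟨(Submodule.smul_mem _ _ hβE.1 : _ ∈ Submodule.span ℤ S), ?_⟩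
      intro x hx
      rw [Pi.smul_apply, hβE.2 x hx]
      simp
    have hE3 : (-(q δ)) • (χ - Cfsg.conjFun χ) ∈ Cfsg.zspanOn S {1}ᶜ := by
      refine ⟨(Submodule.smul_mem _ _ hχχE.1 : _ ∈ Submodule.span ℤ S), ?_⟩
      intro x hx
      rw [Pi.smul_apply, hχχE.2 x hx]
      simp
    have hτβ : τ (χ - (a : ℤ) • χ₁) = X - (a : ℤ) • τ₁ χ₁ := by
      rw [hXdef]
      abel
    have hτχ : τ (χ - Cfsg.conjFun χ) = X - Xb := by
      rw [hS.sum_eq χ hχ, hXb]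
      abel
    conv_rhs => rw [hdecomp]
    rw [hadd _ hE1 _ hE2, hadd _ hE3 _ hs'S, hsmul _ hβE, hsmul _ hχχE, ← hag _ hs',
      hadd₁ _ hs _ (Submodule.smul_mem _ _ hχ₁V), hsmul₁ _ hχ₁V, hτβ, hτχ]
    module

end Cfsg.Agent.S1516
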