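import Cfsg.Statements.S1517
import Cfsg.Agent.Lib_helper8_Coh
import Cfsg.Agent.Lib_helper24_CharValues

set_option autoImplicit false
open Cfsg

namespace Cfsg.Agent.S1517

open Cfsg.Agent.helper24 Cfsg.Agent.helper12 Cfsg.Agent.helper8 Cfsg.Agent.helper8.Coh
open scoped ComplexConjugate

universe u v
variable {L : Type u} [Group L] [Fintype L] {G : Type v} [Group G] [Fintype G]

theorem sub_mem_E {S : Set (L → ℂ)} (hdeg : ∀ φ ∈ S, ∀ ψ ∈ S, φ 1 = ψ 1) {φ ψ : L → ℂ}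
    (hφ : φ ∈ S) (hψ : ψ ∈ S) : φ - ψ ∈ zspanOn S {1}ᶜ := by
  refine ⟨(Submodule.sub_mem _ (Submodule.subset_span hφ) (Submodule.subset_span hψ) :
    φ - ψ ∈ Submodule.span ℤ S), ?_⟩
  intro x hx
  have hx1 : x = 1 := by
    by_contra h
    exact hx (Set.mem_compl_singleton_iff.mpr h)
  rw [hx1, Pi.sub_apply, hdeg φ hφ ψ hψ, sub_self]

theorem ortho_facts {S : Set (L → ℂ)} {τ : (L → ℂ) → (G → ℂ)} {R : (L → ℂ) → Finset (G → ℂ)}
    (hS : IsCoherenceSystem S τ R) {φ ψ : L → ℂ} (hφ : φ ∈ S) (hψ : ψ ∈ S) (h1 : ψ ≠ φ)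
    (h2 : ψ ≠ conjFun φ) :
    classInner φ (conjFun φ) = 0 ∧ classInner ψ φ = 0 ∧ classInner φ ψ = 0 ∧
      classInner ψ (conjFun φ) = 0 ∧ classInner φ (conjFun ψ) = 0 ∧
      classInner ψ (conjFun ψ) = 0 := by
  refine ⟨hS.orthogonal φ hφ _ (hS.conj_mem φ hφ) (hS.conj_ne φ hφ).symm,
    hS.orthogonal ψ hψ φ hφ h1, hS.orthogonal φ hφ ψ hψ h1.symm,
    hS.orthogonal ψ hψ _ (hS.conj_mem φ hφ) h2,
    hS.orthogonal φ hφ _ (hS.conj_mem ψ hψ) ?_,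
    hS.orthogonal ψ hψ _ (hS.conj_mem ψ hψ) (hS.conj_ne ψ hψ).symm⟩
  intro h
  apply h2
  rw [h, conjFun_conjFun]

theorem perp_comb (R' : Finset (G → ℂ)) (c : (G → ℂ) → ℂ) (α : G → ℂ)
    (h : ∀ β ∈ R', classInner β α = 0) : classInner (∑ β ∈ R', c β • β) α = 0 := by
  rw [classInner_comb_left]
  apply Finset.sum_eq_zero
  intro β hβ
  rw [h β hβ, mul_zero]

theorem tau_zero {S : Set (L → ℂ)} {τ : (L → ℂ) → (G → ℂ)} {R : (L → ℂ) → Finset (G → ℂ)}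
    (hS : IsCoherenceSystem S τ R) : τ 0 = 0 := by
  obtain ⟨-, hsmul, -, -⟩ := hS.isometry
  have h0 : (0 : L → ℂ) ∈ zspanOn S {1}ᶜ :=
    ⟨(Submodule.zero_mem _ : (0 : L → ℂ) ∈ Submodule.span ℤ S), fun _ _ => rfl⟩
  have := hsmul 0 h0 0
  simpa using this

theorem orthonormal_facts {S : Set (L → ℂ)} {τ : (L → ℂ) → (G → ℂ)}
    {R : (L → ℂ) → Finset (G → ℂ)} (hS : IsCoherenceSystem S τ R) {χ : L → ℂ} (hχ : χ ∈ S) :
    (∀ α ∈ R χ, classInner α α = 1) ∧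
      (∀ α ∈ R χ, ∀ β ∈ R χ, α ≠ β → classInner α β = 0) := by
  constructor
  · intro α hα
    have := hS.orthonormal χ hχ α hα α hα
    rw [if_pos rfl] at this
    exact this
  · intro α hα β hβ hne
    have := hS.orthonormal χ hχ α hα β hβ
    rw [if_neg hne] at this
    exact this

theorem lemmaA {S : Set (L → ℂ)} {τ : (L → ℂ) → (G → ℂ)} {R : (L → ℂ) → Finset (G → ℂ)}
    (hS : IsCoherenceSystem S τ R) (hdeg : ∀ φ ∈ S, ∀ ψ ∈ S, φ 1 = ψ 1)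
    {φ ψ : L → ℂ} (hφ : φ ∈ S) (hψ : ψ ∈ S) (h1 : ψ ≠ φ) (h2 : ψ ≠ conjFun φ) :
    ∃ x y : (G → ℂ) → ℤ, (∀ α ∈ R φ, x α = 0 ∨ x α = 1) ∧
      ((∑ α ∈ R φ, x α : ℤ) : ℂ) = classInner φ φ ∧
      τ (φ - ψ) = ∑ α ∈ R φ, (x α : ℂ) • α + ∑ β ∈ R ψ, (y β : ℂ) • β := by
  classical
  obtain ⟨hadd, hsmul, hiso, hgc⟩ := hS.isometry
  obtain ⟨o1, o2, o3, o4, o5, o6⟩ := ortho_facts hS hφ hψ h1 h2
  have hE : φ - ψ ∈ zspanOn S {1}ᶜ := sub_mem_E hdeg hφ hψ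
  have hEφ : φ - conjFun φ ∈ zspanOn S {1}ᶜ := sub_mem_E hdeg hφ (hS.conj_mem φ hφ)
  have hEψ : ψ - conjFun ψ ∈ zspanOn S {1}ᶜ := sub_mem_E hdeg hψ (hS.conj_mem ψ hψ)
  obtain ⟨γ, hγ⟩ : ∃ γ, γ = τ (φ - ψ) := ⟨_, rfl⟩
  rw [← hγ]
  have hγgc : IsGeneralizedCharacter G γ := hγ ▸ hgc _ hE
  have hexx : ∀ α : G → ℂ, ∃ k : ℤ, α ∈ R φ → classInner γ α = k := by
    intro α
    by_cases hα : α ∈ R φ
    · obtain ⟨k, hk⟩ := virt_inner_int hγgc (hS.virtual φ hφ α hα)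
      exact ⟨k, fun _ => hk⟩
    · exact ⟨0, fun h => absurd h hα⟩
  choose x hx using hexx
  have hexy : ∀ β : G → ℂ, ∃ k : ℤ, β ∈ R ψ → classInner γ β = k := by
    intro β
    by_cases hβ : β ∈ R ψ
    · obtain ⟨k, hk⟩ := virt_inner_int hγgc (hS.virtual ψ hψ β hβ)
      exact ⟨k, fun _ => hk⟩
    · exact ⟨0, fun h => absurd h hβ⟩
  choose y hy using hexy
  obtain ⟨hφ1, hφ0⟩ := orthonormal_facts hS hφ
  obtain ⟨hψ1, hψ0⟩ := orthonormal_facts hS hψ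
  have hperp : ∀ β ∈ R ψ, ∀ α ∈ R φ, classInner β α = 0 := hS.disjoint φ hφ ψ hψ o2 o4
  have hperp' : ∀ α ∈ R φ, ∀ β ∈ R ψ, classInner α β = 0 := by
    intro α hα β hβ
    rw [← classInner_conj_symm, hperp β hβ α hα, map_zero]
  have hsx : ((∑ α ∈ R φ, x α : ℤ) : ℂ) = classInner φ φ := by
    have e : classInner γ (τ (φ - conjFun φ)) = classInner (φ - ψ) (φ - conjFun φ) := by
      rw [hγ]
      exact hiso _ hE _ hEφ
    rw [hS.sum_eq φ hφ, classInner_sum_right, classInner_sub_left, classInner_sub_right,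
      classInner_sub_right, o1, o2, o4] at e
    push_cast
    have e2 : ∑ α ∈ R φ, (x α : ℂ) = ∑ α ∈ R φ, classInner γ α :=
      Finset.sum_congr rfl (fun α hα => (hx α hα).symm)
    rw [e2, e]
    ring
  have hsy : ((∑ β ∈ R ψ, y β : ℤ) : ℂ) = - classInner ψ ψ := by
    have e : classInner γ (τ (ψ - conjFun ψ)) = classInner (φ - ψ) (ψ - conjFun ψ) := by
      rw [hγ]
      exact hiso _ hE _ hEψ
    rw [hS.sum_eq ψ hψ, classInner_sum_right, classInner_sub_left, classInner_sub_right,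
      classInner_sub_right, o3, o5, o6] at e
    push_cast
    have e2 : ∑ β ∈ R ψ, (y β : ℂ) = ∑ β ∈ R ψ, classInner γ β :=
      Finset.sum_congr rfl (fun β hβ => (hy β hβ).symm)
    rw [e2, e]
    ring
  have hnorm : classInner γ γ = classInner φ φ + classInner ψ ψ := by
    have e : classInner γ γ = classInner (φ - ψ) (φ - ψ) := by
      rw [hγ]
      exact hiso _ hE _ hE
    rw [e, classInner_sub_left, classInner_sub_right, classInner_sub_right, o2, o3]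
    ring
  have b1 := bessel (R φ) hφ1 hφ0 γ x (fun α hα => hx α hα)
  have hr1 : ∀ β ∈ R ψ, classInner (γ - ∑ α ∈ R φ, (x α : ℂ) • α) β = y β := by
    intro β hβ
    rw [classInner_sub_left, hy β hβ, perp_comb (R φ) _ β (fun α hα => hperp' α hα β hβ),
      sub_zero]
  have b2 := bessel (R ψ) hψ1 hψ0 (γ - ∑ α ∈ R φ, (x α : ℂ) • α) y hr1
  obtain ⟨ρ, hρ0, hρ, hρz⟩ := classInner_self_real
    (γ - ∑ α ∈ R φ, (x α : ℂ) • α - ∑ β ∈ R ψ, (y β : ℂ) • β)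
  have hcast : (ρ : ℂ) = (((∑ α ∈ R φ, x α) - (∑ β ∈ R ψ, y β) - (∑ α ∈ R φ, x α ^ 2)
      - (∑ β ∈ R ψ, y β ^ 2) : ℤ) : ℂ) := by
    rw [← hρ, b2, b1, hnorm, ← hsx]
    have : classInner ψ ψ = - ((∑ β ∈ R ψ, y β : ℤ) : ℂ) := by rw [hsy]; ring
    rw [this]
    push_cast
    ring
  have hreal : ρ = (((∑ α ∈ R φ, x α) - (∑ β ∈ R ψ, y β) - (∑ α ∈ R φ, x α ^ 2)
      - (∑ β ∈ R ψ, y β ^ 2) : ℤ) : ℝ) := by exact_mod_cast hcast
  have hK : 0 ≤ (∑ α ∈ R φ, x α) - (∑ β ∈ R ψ, y β) - (∑ α ∈ R φ, x α ^ 2)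
      - (∑ β ∈ R ψ, y β ^ 2) := by
    have : (0 : ℝ) ≤ (((∑ α ∈ R φ, x α) - (∑ β ∈ R ψ, y β) - (∑ α ∈ R φ, x α ^ 2)
      - (∑ β ∈ R ψ, y β ^ 2) : ℤ) : ℝ) := by rw [← hreal]; exact hρ0
    exact_mod_cast this
  obtain ⟨hx01, -, hK0⟩ := int_key (R φ) (R ψ) x y hK
  have hρ00 : ρ = 0 := by rw [hreal, hK0]; simp
  have hres := hρz hρ00
  refine ⟨x, y, hx01, hsx, ?_⟩
  rw [sub_sub] at hres
  exact sub_eq_zero.mp hres

theorem X_props {S : Set (L → ℂ)} {τ : (L → ℂ) → (G → ℂ)} {R : (L → ℂ) → Finset (G → ℂ)}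
    (hS : IsCoherenceSystem S τ R) {φ : L → ℂ} (hφ : φ ∈ S) (x : (G → ℂ) → ℤ)
    (hx01 : ∀ α ∈ R φ, x α = 0 ∨ x α = 1)
    (hsx : ((∑ α ∈ R φ, x α : ℤ) : ℂ) = classInner φ φ) :
    IsGeneralizedCharacter G (∑ α ∈ R φ, (x α : ℂ) • α) ∧
      classInner (∑ α ∈ R φ, (x α : ℂ) • α) (∑ α ∈ R φ, (x α : ℂ) • α) = classInner φ φ ∧
      classInner (∑ α ∈ R φ, (x α : ℂ) • α) (∑ α ∈ R φ, α) = classInner φ φ := by
  obtain ⟨hφ1, hφ0⟩ := orthonormal_facts hS hφ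
  refine ⟨gc_sum _ _ (fun α hα => gc_intCast_smul _ (hS.virtual φ hφ α hα)), ?_, ?_⟩
  · rw [classInner_comb_comb (R φ) hφ1 hφ0, ← hsx]
    push_cast
    apply Finset.sum_congr rfl
    intro α hα
    rw [map_intCast]
    rcases hx01 α hα with h | h <;> rw [h] <;> simp
  · have e : ∑ α ∈ R φ, α = ∑ α ∈ R φ, ((fun _ => (1 : ℂ)) α) • α := by
      apply Finset.sum_congr rfl
      intro α _
      rw [one_smul]
    rw [e, classInner_comb_comb (R φ) hφ1 hφ0, ← hsx]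
    push_cast
    apply Finset.sum_congr rfl
    intro α _
    rw [map_one, mul_one]

theorem perp_tau {S : Set (L → ℂ)} {τ : (L → ℂ) → (G → ℂ)} {R : (L → ℂ) → Finset (G → ℂ)}
    (hS : IsCoherenceSystem S τ R) (hdeg : ∀ φ ∈ S, ∀ ψ ∈ S, φ 1 = ψ 1)
    {χ₀ ψ₁ ψ : L → ℂ} (h0 : χ₀ ∈ S) (hψ₁ : ψ₁ ∈ S) (hψ : ψ ∈ S)
    (h1 : ψ₁ ≠ χ₀) (h2 : ψ₁ ≠ conjFun χ₀) (h3 : ψ ≠ χ₀) (h4 : ψ ≠ conjFun χ₀) :
    ∀ α ∈ R χ₀, classInner (τ (ψ₁ - ψ)) α = 0 := by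
  intro α hα
  obtain ⟨-, a2, -, a4, -, -⟩ := ortho_facts hS h0 hψ₁ h1 h2
  obtain ⟨-, b2, -, b4, -, -⟩ := ortho_facts hS h0 hψ h3 h4
  have p1 : ∀ β ∈ R ψ₁, classInner β α = 0 :=
    fun β hβ => hS.disjoint χ₀ h0 ψ₁ hψ₁ a2 a4 β hβ α hα
  have p2 : ∀ β ∈ R ψ, classInner β α = 0 :=
    fun β hβ => hS.disjoint χ₀ h0 ψ hψ b2 b4 β hβ α hα
  by_cases c1 : ψ = ψ₁
  · rw [c1, sub_self, tau_zero hS, classInner_zero_left]
  by_cases c2 : ψ = conjFun ψ₁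
  · rw [c2, hS.sum_eq ψ₁ hψ₁, classInner_sum_left]
    exact Finset.sum_eq_zero (fun β hβ => p1 β hβ)
  obtain ⟨x, y, -, -, hdec⟩ := lemmaA hS hdeg hψ₁ hψ c1 c2
  rw [hdec, classInner_add_left, perp_comb _ _ α p1, perp_comb _ _ α p2, add_zero]

theorem exists_mu {S : Set (L → ℂ)} {τ : (L → ℂ) → (G → ℂ)} {R : (L → ℂ) → Finset (G → ℂ)}
    (hS : IsCoherenceSystem S τ R) (hdeg : ∀ φ ∈ S, ∀ ψ ∈ S, φ 1 = ψ 1)
    {χ₀ : L → ℂ} (h0 : χ₀ ∈ S) :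
    ∃ μ : G → ℂ, IsGeneralizedCharacter G μ ∧ classInner μ μ = classInner χ₀ χ₀ ∧
      ∀ ψ ∈ S, ψ ≠ χ₀ → classInner μ (τ (χ₀ - ψ)) = classInner χ₀ χ₀ := by
  classical
  obtain ⟨hadd, hsmul, hiso, hgc⟩ := hS.isometry
  obtain ⟨hR1, hR0⟩ := orthonormal_facts hS h0
  by_cases hex : ∃ ψ₁ ∈ S, ψ₁ ≠ χ₀ ∧ ψ₁ ≠ conjFun χ₀
  · obtain ⟨ψ₁, hψ₁, h1, h2⟩ := hex
    obtain ⟨x, y, hx01, hsx, hdec⟩ := lemmaA hS hdeg h0 hψ₁ h1 h2
    obtain ⟨Xgc, Xnorm, Xsum⟩ := X_props hS h0 x hx01 hsx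
    refine ⟨_, Xgc, Xnorm, ?_⟩
    intro ψ hψ hne
    by_cases hc : ψ = conjFun χ₀
    · rw [hc, hS.sum_eq χ₀ h0]
      exact Xsum
    · obtain ⟨x', y', hx01', hsx', hdec'⟩ := lemmaA hS hdeg h0 hψ hne hc
      obtain ⟨-, a2, -, a4, -, -⟩ := ortho_facts hS h0 hψ₁ h1 h2
      obtain ⟨-, b2, -, b4, -, -⟩ := ortho_facts hS h0 hψ hne hc
      have q1 : ∀ β ∈ R ψ₁, ∀ α ∈ R χ₀, classInner β α = 0 := hS.disjoint χ₀ h0 ψ₁ hψ₁ a2 a4
      have q2 : ∀ β ∈ R ψ, ∀ α ∈ R χ₀, classInner β α = 0 := hS.disjoint χ₀ h0 ψ hψ b2 b4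
      have hτ : τ (χ₀ - ψ) = τ (χ₀ - ψ₁) + τ (ψ₁ - ψ) := by
        rw [← hadd _ (sub_mem_E hdeg h0 hψ₁) _ (sub_mem_E hdeg hψ₁ hψ)]
        congr 1
        abel
      have hpt := perp_tau hS hdeg h0 hψ₁ hψ h1 h2 hne hc
      -- the difference of the two projections
      have hD : ∑ α ∈ R χ₀, (x' α : ℂ) • α - ∑ α ∈ R χ₀, (x α : ℂ) • α
          = τ (ψ₁ - ψ) - ∑ β ∈ R ψ, (y' β : ℂ) • β + ∑ β ∈ R ψ₁, (y β : ℂ) • β := by
        have e1 : ∑ α ∈ R χ₀, (x' α : ℂ) • α = τ (χ₀ - ψ) - ∑ β ∈ R ψ, (y' β : ℂ) • β := by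
          rw [hdec']; abel
        have e2 : ∑ α ∈ R χ₀, (x α : ℂ) • α = τ (χ₀ - ψ₁) - ∑ β ∈ R ψ₁, (y β : ℂ) • β := by
          rw [hdec]; abel
        rw [e1, e2, hτ]
        abel
      have hDperp : ∀ α ∈ R χ₀, classInner (∑ α ∈ R χ₀, (x' α : ℂ) • α
          - ∑ α ∈ R χ₀, (x α : ℂ) • α) α = 0 := by
        intro α hα
        rw [hD, classInner_add_left, classInner_sub_left, hpt α hα,
          perp_comb _ _ α (fun β hβ => q2 β hβ α hα),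
          perp_comb _ _ α (fun β hβ => q1 β hβ α hα)]
        ring
      have hDform : ∑ α ∈ R χ₀, (x' α : ℂ) • α - ∑ α ∈ R χ₀, (x α : ℂ) • α
          = ∑ α ∈ R χ₀, ((x' α : ℂ) - (x α : ℂ)) • α := by
        rw [← Finset.sum_sub_distrib]
        apply Finset.sum_congr rfl
        intro α _
        rw [sub_smul]
      have hD0 : ∑ α ∈ R χ₀, (x' α : ℂ) • α - ∑ α ∈ R χ₀, (x α : ℂ) • α = 0 := by
        apply classInner_self_eq_zero
        conv_lhs => rw [hDform]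
        rw [classInner_comb_right]
        apply Finset.sum_eq_zero
        intro α hα
        rw [← hDform, hDperp α hα, mul_zero]
      have hXX : ∑ α ∈ R χ₀, (x' α : ℂ) • α = ∑ α ∈ R χ₀, (x α : ℂ) • α := sub_eq_zero.mp hD0
      rw [hdec', hXX, classInner_add_right, Xnorm]
      have : classInner (∑ α ∈ R χ₀, (x α : ℂ) • α) (∑ β ∈ R ψ, (y' β : ℂ) • β) = 0 := by
        rw [← classInner_conj_symm]
        have : classInner (∑ β ∈ R ψ, (y' β : ℂ) • β) (∑ α ∈ R χ₀, (x α : ℂ) • α) = 0 := by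
          rw [classInner_comb_right]
          apply Finset.sum_eq_zero
          intro α hα
          rw [perp_comb _ _ α (fun β hβ => q2 β hβ α hα), mul_zero]
        rw [this, map_zero]
      rw [this, add_zero]
  · push Not at hex
    obtain ⟨k, hk⟩ := classInner_char_nat (hS.isCharacter χ₀ h0) (hS.isCharacter χ₀ h0)
    have hc0 : conjFun χ₀ ∈ S := hS.conj_mem χ₀ h0
    have hEφ : χ₀ - conjFun χ₀ ∈ zspanOn S {1}ᶜ := sub_mem_E hdeg h0 hc0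
    have o1 : classInner χ₀ (conjFun χ₀) = 0 :=
      hS.orthogonal χ₀ h0 _ hc0 (hS.conj_ne χ₀ h0).symm
    have o2 : classInner (conjFun χ₀) χ₀ = 0 := hS.orthogonal _ hc0 χ₀ h0 (hS.conj_ne χ₀ h0)
    have hcard : (R χ₀).card = 2 * k := by
      have e := hiso _ hEφ _ hEφ
      rw [hS.sum_eq χ₀ h0, classInner_sub_left, classInner_sub_right, classInner_sub_right,
        classInner_conjFun, o1, o2, hk, map_natCast] at e
      have e2 : classInner (∑ α ∈ R χ₀, α) (∑ α ∈ R χ₀, α) = ((R χ₀).card : ℂ) := by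
        have e3 : ∑ α ∈ R χ₀, α = ∑ α ∈ R χ₀, ((fun _ => (1 : ℂ)) α) • α := by
          apply Finset.sum_congr rfl
          intro α _
          rw [one_smul]
        rw [e3, classInner_comb_comb (R χ₀) hR1 hR0]
        simp
      rw [e2] at e
      have e4 : ((R χ₀).card : ℂ) = ((2 * k : ℕ) : ℂ) := by rw [e]; push_cast; ring
      exact_mod_cast e4
    obtain ⟨A, hAR, hAcard⟩ := Finset.exists_subset_card_eq (show k ≤ (R χ₀).card by omega)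
    have hx01 : ∀ α ∈ R χ₀, (fun α => if α ∈ A then (1 : ℤ) else 0) α = 0 ∨
        (fun α => if α ∈ A then (1 : ℤ) else 0) α = 1 := by
      intro α _
      by_cases h : α ∈ A
      · right; simp [h]
      · left; simp [h]
    have hsx : ((∑ α ∈ R χ₀, (fun α => if α ∈ A then (1 : ℤ) else 0) α : ℤ) : ℂ)
        = classInner χ₀ χ₀ := by
      rw [hk]
      have : ∑ α ∈ R χ₀, (fun α => if α ∈ A then (1 : ℤ) else 0) α = (k : ℤ) := by
        simp only [Finset.sum_ite_mem, Finset.sum_const, nsmul_eq_mul, mul_one]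
        rw [Finset.inter_eq_right.mpr hAR, hAcard]
      rw [this]
      simp
    obtain ⟨Xgc, Xnorm, Xsum⟩ := X_props hS h0 _ hx01 hsx
    refine ⟨_, Xgc, Xnorm, ?_⟩
    intro ψ hψ hne
    have hc : ψ = conjFun χ₀ := by
      by_contra hc
      exact hc (hex ψ hψ hne)
    rw [hc, hS.sum_eq χ₀ h0]
    exact Xsum


/-- Let (S, τ, R) be a coherence system from L to G such that φ 1 = ψ 1 for all φ, ψ ∈ S. Then (S, L minus 1, τ) is coherent. -/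
theorem result {L : Type*} [Group L] [Fintype L] {G : Type*} [Group G] [Fintype G] (S : Set (L → ℂ)) (τ : (L → ℂ) → (G → ℂ)) (R : (L → ℂ) → Finset (G → ℂ)) (hS : Cfsg.IsCoherenceSystem S τ R) (hdeg : ∀ φ ∈ S, ∀ ψ ∈ S, φ 1 = ψ 1) : Cfsg.IsCoherent S {1}ᶜ τ := by
  classical
  obtain ⟨χ₀, h0⟩ := hS.nonempty
  obtain ⟨hadd, hsmul, hiso, hgc⟩ := hS.isometry
  have hc0 : Cfsg.conjFun χ₀ ∈ S := hS.conj_mem χ₀ h0
  refine ⟨⟨χ₀ - Cfsg.conjFun χ₀, sub_mem_E hdeg h0 hc0,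
    sub_ne_zero.mpr (hS.conj_ne χ₀ h0).symm⟩, ?_⟩
  obtain ⟨μ, μgc, μnorm, μin⟩ := exists_mu hS hdeg h0
  have hτ0 := tau_zero hS
  obtain ⟨d, hd⟩ : ∃ d : ℂ, d = χ₀ 1 := ⟨_, rfl⟩
  have hd0 : d ≠ 0 := by
    intro hd0
    rw [hd] at hd0
    apply hS.conj_ne χ₀ h0
    have hz : χ₀ = 0 := by
      funext g
      have := Cfsg.Agent.helper24.char_norm_le (hS.isCharacter χ₀ h0) g
      rw [hd0, norm_zero] at this
      exact norm_le_zero_iff.mp this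
    rw [hz]
    funext g
    simp [Cfsg.conjFun]
  have hdS : ∀ φ ∈ S, φ 1 = d := fun φ hφ => by rw [hd]; exact hdeg φ hφ χ₀ h0
  have hm : ∀ α ∈ Submodule.span ℤ S, ∃ k : ℤ, α 1 = (k : ℂ) * d := by
    intro α hα
    induction hα using Submodule.span_induction with
    | mem φ hφ => exact ⟨1, by rw [hdS φ hφ]; simp⟩
    | zero => exact ⟨0, by simp⟩
    | add a b _ _ iha ihb =>
      obtain ⟨k₁, h₁⟩ := iha
      obtain ⟨k₂, h₂⟩ := ihb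
      exact ⟨k₁ + k₂, by rw [Pi.add_apply, h₁, h₂]; push_cast; ring⟩
    | smul n a _ iha =>
      obtain ⟨k₁, h₁⟩ := iha
      exact ⟨n * k₁, by rw [Pi.smul_apply, h₁, zsmul_eq_mul]; push_cast; ring⟩
  choose! m hm' using hm
  have hspan0 : χ₀ ∈ Submodule.span ℤ S := Submodule.subset_span h0
  have m_inj : ∀ a b : ℤ, (a : ℂ) * d = (b : ℂ) * d → a = b := by
    intro a b hab
    have := mul_right_cancel₀ hd0 hab
    exact_mod_cast this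
  have m_add : ∀ α ∈ Submodule.span ℤ S, ∀ β ∈ Submodule.span ℤ S, m (α + β) = m α + m β := by
    intro α hα β hβ
    apply m_inj
    rw [← hm' _ (Submodule.add_mem _ hα hβ), Pi.add_apply, hm' α hα, hm' β hβ]
    push_cast
    ring
  have m_smul : ∀ α ∈ Submodule.span ℤ S, ∀ n : ℤ, m (n • α) = n * m α := by
    intro α hα n
    apply m_inj
    rw [← hm' _ (Submodule.smul_mem _ n hα), Pi.smul_apply, hm' α hα, zsmul_eq_mul]
    push_cast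
    ring
  have m_S : ∀ φ ∈ S, m φ = 1 := by
    intro φ hφ
    apply m_inj
    rw [← hm' φ (Submodule.subset_span hφ), hdS φ hφ]
    simp
  have m_E : ∀ α ∈ Cfsg.zspanOn S {1}ᶜ, m α = 0 := by
    intro α hα
    apply m_inj
    rw [← hm' α hα.1, hα.2 1 (by simp)]
    simp
  obtain ⟨ρ, hρ⟩ : ∃ ρ : (L → ℂ) → (L → ℂ), ∀ α, ρ α = α - m α • χ₀ := ⟨_, fun _ => rfl⟩
  have ρ_E : ∀ α ∈ Submodule.span ℤ S, ρ α ∈ Cfsg.zspanOn S {1}ᶜ := by
    intro α hα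
    rw [hρ]
    refine ⟨(Submodule.sub_mem _ hα (Submodule.smul_mem _ _ hspan0) :
      α - m α • χ₀ ∈ Submodule.span ℤ S), ?_⟩
    intro x hx
    have hx1 : x = 1 := by
      by_contra h
      exact hx (Set.mem_compl_singleton_iff.mpr h)
    rw [hx1, Pi.sub_apply, Pi.smul_apply, hm' α hα, zsmul_eq_mul, ← hd, sub_self]
  have ρ_add : ∀ α ∈ Submodule.span ℤ S, ∀ β ∈ Submodule.span ℤ S, ρ (α + β) = ρ α + ρ β := by
    intro α hα β hβ
    rw [hρ, hρ, hρ, m_add α hα β hβ, add_smul]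
    abel
  have ρ_smul : ∀ α ∈ Submodule.span ℤ S, ∀ n : ℤ, ρ (n • α) = n • ρ α := by
    intro α hα n
    rw [hρ, hρ, m_smul α hα n, mul_smul, smul_sub]
  have hQ : ∀ α ∈ Submodule.span ℤ S,
      Cfsg.classInner μ (τ (ρ α)) = Cfsg.classInner χ₀ (ρ α) := by
    intro α hα
    induction hα using Submodule.span_induction with
    | mem φ hφ =>
      rw [hρ, m_S φ hφ, one_smul]
      by_cases hφ0 : φ = χ₀
      · rw [hφ0, sub_self, hτ0, classInner_zero_right, classInner_zero_right]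
      · have e : φ - χ₀ = (-1 : ℤ) • (χ₀ - φ) := by rw [neg_smul, one_smul]; abel
        rw [e, hsmul _ (sub_mem_E hdeg h0 hφ), classInner_zsmul_right, classInner_zsmul_right,
          μin φ hφ hφ0, classInner_sub_right, hS.orthogonal χ₀ h0 φ hφ (Ne.symm hφ0)]
        ring
    | zero =>
      have : ρ 0 = 0 := by
        rw [hρ, m_E 0 ⟨(Submodule.zero_mem _ : (0 : L → ℂ) ∈ Submodule.span ℤ S),
          fun _ _ => rfl⟩]
        simp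
      rw [this, hτ0, classInner_zero_right, classInner_zero_right]
    | add a b ha hb iha ihb =>
      rw [ρ_add a ha b hb, hadd _ (ρ_E a ha) _ (ρ_E b hb), classInner_add_right,
        classInner_add_right, iha, ihb]
    | smul n a ha iha =>
      rw [ρ_smul a ha n, hsmul _ (ρ_E a ha), classInner_zsmul_right, classInner_zsmul_right, iha]
  have hQ' : ∀ α ∈ Submodule.span ℤ S,
      Cfsg.classInner (τ (ρ α)) μ = Cfsg.classInner (ρ α) χ₀ := by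
    intro α hα
    rw [← classInner_conj_symm, hQ α hα, classInner_conj_symm]
  have eρ : ∀ α, m α • χ₀ + ρ α = α := by
    intro α
    rw [hρ]
    abel
  refine ⟨fun α => m α • μ + τ (ρ α), ⟨?_, ?_, ?_, ?_⟩, ?_⟩
  · intro α hα β hβ
    show m (α + β) • μ + τ (ρ (α + β)) = (m α • μ + τ (ρ α)) + (m β • μ + τ (ρ β))
    rw [m_add α hα β hβ, ρ_add α hα β hβ, hadd _ (ρ_E α hα) _ (ρ_E β hβ), add_smul]
    abel
  · intro α hα n
    show m (n • α) • μ + τ (ρ (n • α)) = n • (m α • μ + τ (ρ α))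
    rw [m_smul α hα n, ρ_smul α hα n, hsmul _ (ρ_E α hα), mul_smul, smul_add]
  · intro α hα β hβ
    show Cfsg.classInner (m α • μ + τ (ρ α)) (m β • μ + τ (ρ β)) = Cfsg.classInner α β
    calc Cfsg.classInner (m α • μ + τ (ρ α)) (m β • μ + τ (ρ β))
        = Cfsg.classInner (m α • χ₀ + ρ α) (m β • χ₀ + ρ β) := by
          rw [inner_expand, inner_expand, μnorm, hQ β hβ, hQ' α hα,
            hiso _ (ρ_E α hα) _ (ρ_E β hβ)]
      _ = Cfsg.classInner α β := by rw [eρ, eρ]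
  · intro α hα
    exact gc_add (gc_zsmul _ μgc) (hgc _ (ρ_E α hα))
  · intro α hα
    show m α • μ + τ (ρ α) = τ α
    rw [hρ, m_E α hα]
    simp

end Cfsg.Agent.S1517
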