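import Cfsg.Statements.S1525
import Mathlib
import Cfsg.Agent.Lib_helper8_Dade
-- import your own Cfsg.Agent.* helpers here

set_option autoImplicit false
open Cfsg

namespace Cfsg.Agent.S1525


open scoped ComplexConjugate
open Classical
open Cfsg.Agent.helper8

theorem finsum_mem_eq_sum_ite {X : Type*} [Fintype X] {M : Type*} [AddCommMonoid M] (S : Set X)
    (f : X → M) : ∑ᶠ u ∈ S, f u = ∑ u : X, if u ∈ S then f u else 0 := by
  rw [finsum_eq_sum_of_fintype]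
  apply Finset.sum_congr rfl
  intro u _
  exact finsum_eq_if

theorem norm_avg_sq_le {ι : Type*} (S : Finset ι) (z : ι → ℂ) (hS : 0 < S.card) :
    ‖((S.card : ℂ))⁻¹ * ∑ i ∈ S, z i‖ ^ 2 ≤ ((S.card : ℝ))⁻¹ * ∑ i ∈ S, ‖z i‖ ^ 2 := by
  have hn : (0 : ℝ) < S.card := by exact_mod_cast hS
  rw [norm_mul, norm_inv, Complex.norm_natCast, mul_pow]
  have h1 : ‖∑ i ∈ S, z i‖ ≤ ∑ i ∈ S, ‖z i‖ := norm_sum_le _ _
  have h2 : (∑ i ∈ S, ‖z i‖) ^ 2 ≤ S.card * ∑ i ∈ S, ‖z i‖ ^ 2 := sq_sum_le_card_mul_sum_sq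
  have h3 : ‖∑ i ∈ S, z i‖ ^ 2 ≤ S.card * ∑ i ∈ S, ‖z i‖ ^ 2 :=
    le_trans (pow_le_pow_left₀ (norm_nonneg _) h1 2) h2
  calc ((S.card : ℝ))⁻¹ ^ 2 * ‖∑ i ∈ S, z i‖ ^ 2
      ≤ ((S.card : ℝ))⁻¹ ^ 2 * (S.card * ∑ i ∈ S, ‖z i‖ ^ 2) := by gcongr
    _ = ((S.card : ℝ))⁻¹ * ∑ i ∈ S, ‖z i‖ ^ 2 := by field_simp

theorem card_filter_mem {G : Type*} [Group G] [Fintype G] (K : Subgroup G) :
    (Finset.univ.filter (· ∈ K)).card = Nat.card K := by
  letI : Fintype K := Fintype.ofFinite K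
  rw [Nat.card_eq_fintype_card, Fintype.card_of_subtype (Finset.univ.filter (· ∈ K)) (by simp)]

/-- Under the Dade hypothesis for (A, L, H), let χ be a class function of G and let ψ be a function on L whose value at each a ∈ A is the average of χ over the coset a·H(a). Then (1/|G|) Σ |χ g|² over the elements g of G conjugate into some coset a·H(a) with a ∈ A is at least (1/|L|) Σ_{a ∈ A ∩ L} |ψ a|². -/
theorem result {G : Type*} [Group G] [Fintype G] (A : Set G) (L : Subgroup G) [Fintype L] (H : G → Subgroup G) (hD : Cfsg.DadeHypothesis A L H) (χ : G → ℂ) (hχ : Cfsg.IsClassFunction G χ) (ψ : L → ℂ) (hψ : ∀ a : L, (a : G) ∈ A → ψ a = (Nat.card (H a) : ℂ)⁻¹ * ∑ᶠ u ∈ (H a : Set G), χ (a * u)) : (Nat.card L : ℝ)⁻¹ * ∑ᶠ a ∈ {a : L | (a : G) ∈ A}, ‖ψ a‖ ^ 2 ≤ (Nat.card G : ℝ)⁻¹ * ∑ᶠ g ∈ {g : G | ∃ a ∈ A, ∃ u ∈ H a, ∃ x : G, x * g * x⁻¹ = a * u}, ‖χ g‖ ^ 2 := by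
  have hG : (0 : ℝ) < (Nat.card G : ℝ) := by exact_mod_cast (Nat.card_pos (α := G))
  have hL : (0 : ℝ) < (Nat.card L : ℝ) := by exact_mod_cast (Nat.card_pos (α := L))
  have hα₁c : IsClassFunction L (fun a : L => if (a : G) ∈ A then (1 : ℂ) else 0) := by
    intro g h
    have hiff : ((h * g * h⁻¹ : L) : G) ∈ A ↔ (g : G) ∈ A := by
      have e : ((h * g * h⁻¹ : L) : G) = (h : G) * g * (h : G)⁻¹ := by simp
      rw [e]
      constructor
      · intro hm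
        have h1 := hD.conj_mem (h : G)⁻¹ (L.inv_mem h.2) _ hm
        have e2 : (h : G)⁻¹ * ((h : G) * g * (h : G)⁻¹) * (h : G)⁻¹⁻¹ = g := by group
        rwa [e2] at h1
      · intro hm
        exact hD.conj_mem h h.2 g hm
    simp only
    by_cases hg : (g : G) ∈ A
    · rw [if_pos hg, if_pos (hiff.mpr hg)]
    · rw [if_neg hg, if_neg (fun h' => hg (hiff.mp h'))]
  have hFc : IsClassFunction G (fun g : G => ((‖χ g‖ ^ 2 : ℝ) : ℂ)) := by
    intro g k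
    simp only
    rw [hχ g k]
  have hM := dade_master A L H hD _ hα₁c _ hFc
  have hdade : ∀ g, dadeIsometry A L H (fun a : L => if (a : G) ∈ A then (1 : ℂ) else 0) g
      = if (∃ a ∈ A, ∃ u ∈ H a, ∃ x : G, x * g * x⁻¹ = a * u) then 1 else 0 := by
    intro g
    by_cases h : ∃ a ∈ A, ∃ u ∈ H a, ∃ x : G, x * g * x⁻¹ = a * u
    · rw [if_pos h]
      obtain ⟨a, ha, u, hu, x, hx⟩ := h
      rw [dade_apply A L H hD _ hα₁c g ⟨a, hD.subset ha⟩ ha x u hu hx]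
      simp only
      rw [if_pos ha]
    · rw [if_neg h]
      apply dade_not
      rintro ⟨a, ha, x, u, hu, hx⟩
      exact h ⟨a, ha, u, hu, x, hx⟩
  have hX : ∑ g : G, dadeIsometry A L H (fun a : L => if (a : G) ∈ A then (1 : ℂ) else 0) g *
      ((‖χ g‖ ^ 2 : ℝ) : ℂ)
      = ((∑ g : G, if (∃ a ∈ A, ∃ u ∈ H a, ∃ x : G, x * g * x⁻¹ = a * u) then ‖χ g‖ ^ 2 else 0 : ℝ)
        : ℂ) := by
    rw [Complex.ofReal_sum]
    apply Finset.sum_congr rfl
    intro g _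
    rw [hdade g]
    by_cases h : ∃ a ∈ A, ∃ u ∈ H a, ∃ x : G, x * g * x⁻¹ = a * u
    · rw [if_pos h, if_pos h, one_mul]
    · rw [if_neg h, if_neg h, zero_mul, Complex.ofReal_zero]
  have hY : ∑ a : L, (if (a : G) ∈ A then
        (fun a : L => if (a : G) ∈ A then (1 : ℂ) else 0) a * ((Nat.card (H (a : G)) : ℂ)⁻¹ *
          ∑ u : G, (if u ∈ H (a : G) then
            (fun g : G => ((‖χ g‖ ^ 2 : ℝ) : ℂ)) ((a : G) * u) else 0)) else 0)
      = ((∑ a : L, if (a : G) ∈ A then ((Nat.card (H (a : G)) : ℝ)⁻¹ *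
          ∑ u : G, (if u ∈ H (a : G) then ‖χ ((a : G) * u)‖ ^ 2 else 0)) else 0 : ℝ) : ℂ) := by
    rw [Complex.ofReal_sum]
    apply Finset.sum_congr rfl
    intro a _
    by_cases haA : (a : G) ∈ A
    · rw [if_pos haA, if_pos haA]
      simp only
      rw [if_pos haA, one_mul]
      rw [Complex.ofReal_mul, Complex.ofReal_inv, Complex.ofReal_natCast, Complex.ofReal_sum]
      congr 1
      apply Finset.sum_congr rfl
      intro u _
      by_cases hu : u ∈ H (a : G)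
      · rw [if_pos hu, if_pos hu]
      · rw [if_neg hu, if_neg hu, Complex.ofReal_zero]
    · rw [if_neg haA, if_neg haA, Complex.ofReal_zero]
  rw [hX, hY] at hM
  have hXY : (∑ g : G, if (∃ a ∈ A, ∃ u ∈ H a, ∃ x : G, x * g * x⁻¹ = a * u)
        then ‖χ g‖ ^ 2 else 0 : ℝ)
      = (Nat.card G : ℝ) / (Nat.card L : ℝ) * ∑ a : L, if (a : G) ∈ A then
        ((Nat.card (H (a : G)) : ℝ)⁻¹ *
          ∑ u : G, (if u ∈ H (a : G) then ‖χ ((a : G) * u)‖ ^ 2 else 0)) else 0 := by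
    apply Complex.ofReal_injective
    rw [Complex.ofReal_mul, Complex.ofReal_div, Complex.ofReal_natCast, Complex.ofReal_natCast]
    exact hM
  rw [finsum_mem_eq_sum_ite, finsum_mem_eq_sum_ite]
  have hterm : ∀ a : L, (if a ∈ {a : L | (a : G) ∈ A} then ‖ψ a‖ ^ 2 else 0)
      ≤ if (a : G) ∈ A then ((Nat.card (H (a : G)) : ℝ)⁻¹ *
          ∑ u : G, (if u ∈ H (a : G) then ‖χ ((a : G) * u)‖ ^ 2 else 0)) else 0 := by
    intro a
    by_cases haA : (a : G) ∈ A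
    · rw [if_pos (show a ∈ {a : L | (a : G) ∈ A} from haA), if_pos haA, hψ a haA,
        finsum_mem_eq_sum_ite]
      have hcard := card_filter_mem (H (a : G))
      have hpos : 0 < (Finset.univ.filter (· ∈ H (a : G))).card := by
        rw [hcard]; exact Nat.card_pos
      have h1 := norm_avg_sq_le (Finset.univ.filter (· ∈ H (a : G)))
        (fun u => χ ((a : G) * u)) hpos
      rw [hcard, Finset.sum_filter, Finset.sum_filter] at h1
      exact h1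
    · rw [if_neg (show ¬ a ∈ {a : L | (a : G) ∈ A} from haA), if_neg haA]
  have hZY := Finset.sum_le_sum (fun a (_ : a ∈ (Finset.univ : Finset L)) => hterm a)
  have hset : ∀ g : G, (g ∈ {g : G | ∃ a ∈ A, ∃ u ∈ H a, ∃ x : G, x * g * x⁻¹ = a * u})
      = (∃ a ∈ A, ∃ u ∈ H a, ∃ x : G, x * g * x⁻¹ = a * u) := fun g => rfl
  simp only [hset]
  rw [hXY]
  calc (Nat.card L : ℝ)⁻¹ * ∑ a : L, (if a ∈ {a : L | (a : G) ∈ A} then ‖ψ a‖ ^ 2 else 0)
      ≤ (Nat.card L : ℝ)⁻¹ * ∑ a : L, (if (a : G) ∈ A then ((Nat.card (H (a : G)) : ℝ)⁻¹ *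
          ∑ u : G, (if u ∈ H (a : G) then ‖χ ((a : G) * u)‖ ^ 2 else 0)) else 0) := by
        apply mul_le_mul_of_nonneg_left hZY
        exact inv_nonneg.mpr hL.le
    _ = (Nat.card G : ℝ)⁻¹ * ((Nat.card G : ℝ) / (Nat.card L : ℝ) * ∑ a : L,
          (if (a : G) ∈ A then ((Nat.card (H (a : G)) : ℝ)⁻¹ *
          ∑ u : G, (if u ∈ H (a : G) then ‖χ ((a : G) * u)‖ ^ 2 else 0)) else 0)) := by
        field_simp

end Cfsg.Agent.S1525
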