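import Cfsg.Statements.S1527
import Mathlib
-- import your own Cfsg.Agent.* helpers here

set_option autoImplicit false
open Cfsg

namespace Cfsg.Agent.S1527


/-- nonidentity elements conjugate into K -/
def conjSet {G : Type*} [Group G] (K : Subgroup G) : Set G := {g | g ≠ 1 ∧ ∃ x : G, x * g * x⁻¹ ∈ K}

theorem card_conjSet {G : Type*} [Group G] [Finite G] (K : Subgroup G)
    (hTI : Cfsg.IsTISubset (K : Set G)) :
    Nat.card ↥(conjSet K) = (Subgroup.normalizer (K : Set G)).index * (Nat.card K - 1) := by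
  classical
  have hcardK : Nat.card ↥((K : Set G) \ {1}) = Nat.card K - 1 := by
    rw [Nat.card_coe_set_eq, Set.ncard_sdiff_singleton_of_mem K.one_mem]
    rfl
  rw [← hcardK, Subgroup.index, ← Nat.card_prod]
  symm
  let f : (G ⧸ Subgroup.normalizer (K : Set G)) × ↥((K : Set G) \ {1}) → ↥(conjSet K) := fun p =>
    ⟨p.1.out * p.2.1 * p.1.out⁻¹, by
      refine ⟨?_, p.1.out⁻¹, ?_⟩
      · intro h
        apply p.2.2.2
        have e : (p.2.1 : G) = p.1.out⁻¹ * (p.1.out * p.2.1 * p.1.out⁻¹) * p.1.out := by group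
        rw [Set.mem_singleton_iff, e, h]; group
      · have e : p.1.out⁻¹ * (p.1.out * p.2.1 * p.1.out⁻¹) * p.1.out⁻¹⁻¹ = p.2.1 := by group
        rw [e]; exact p.2.2.1⟩
  apply Nat.card_congr
  apply Equiv.ofBijective f
  constructor
  · rintro ⟨q, h, hhK, hh1⟩ ⟨q', h', hhK', hh1'⟩ heq
    have heq' : q.out * h * q.out⁻¹ = q'.out * h' * q'.out⁻¹ := congrArg Subtype.val heq
    have hy : (q'.out⁻¹ * q.out) * h * (q'.out⁻¹ * q.out)⁻¹ = h' := by
      have e : (q'.out⁻¹ * q.out) * h * (q'.out⁻¹ * q.out)⁻¹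
          = q'.out⁻¹ * (q.out * h * q.out⁻¹) * q'.out := by group
      rw [e, heq']; group
    have hyN : q'.out⁻¹ * q.out ∈ Subgroup.normalizer (K : Set G) := by
      by_contra hn
      apply hh1
      rw [Set.mem_singleton_iff]
      exact hTI _ hn h hhK (by rw [hy]; exact hhK')
    have hq : q' = q := by
      rw [← QuotientGroup.out_eq' q', ← QuotientGroup.out_eq' q]
      exact QuotientGroup.eq.mpr hyN
    subst hq
    have hh : h = h' := by
      have := hy; simpa using this
    subst hh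
    rfl
  · rintro ⟨g, hg1, x, hx⟩
    obtain ⟨n, hn⟩ := QuotientGroup.mk_out_eq_mul (Subgroup.normalizer (K : Set G)) x⁻¹
    have hnN : (n : G)⁻¹ ∈ Subgroup.normalizer (K : Set G) := Subgroup.inv_mem _ n.2
    have hmem : (n:G)⁻¹ * (x * g * x⁻¹) * (n:G) ∈ (K : Set G) := by
      have := (Subgroup.mem_set_normalizer_iff.mp hnN (x * g * x⁻¹)).mp hx
      simpa using this
    have hne : (n:G)⁻¹ * (x * g * x⁻¹) * (n:G) ∉ ({1} : Set G) := by
      intro h
      rw [Set.mem_singleton_iff] at h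
      apply hg1
      have e : g = x⁻¹ * (n:G) * ((n:G)⁻¹ * (x * g * x⁻¹) * (n:G)) * (n:G)⁻¹ * x := by group
      rw [e, h]; group
    refine ⟨⟨((x⁻¹ : G) : G ⧸ Subgroup.normalizer (K : Set G)),
      ⟨(n:G)⁻¹ * (x * g * x⁻¹) * (n:G), hmem, hne⟩⟩, ?_⟩
    apply Subtype.ext
    show (((x⁻¹ : G) : G ⧸ Subgroup.normalizer (K : Set G))).out
      * ((n:G)⁻¹ * (x * g * x⁻¹) * (n:G))
      * (((x⁻¹ : G) : G ⧸ Subgroup.normalizer (K : Set G))).out⁻¹ = g
    rw [hn]; group

/-- Let G be a finite group and H i (i in a finite index type) subgroups of pairwise coprime orders, each of whose underlying sets is a TI-subset of G, such that every non-identity element of G is conjugate to an element of some H i. Then Nat.card G − 1 = Σ_i [G : N_G(H i)] · (Nat.card (H i) − 1). -/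
theorem result {G : Type*} [Group G] [Finite G] {ι : Type*} [Fintype ι] (H : ι → Subgroup G) (hcop : ∀ i j, i ≠ j → Nat.Coprime (Nat.card (H i)) (Nat.card (H j))) (hTI : ∀ i, Cfsg.IsTISubset (H i : Set G)) (hcover : ∀ g : G, g ≠ 1 → ∃ i, ∃ x : G, x * g * x⁻¹ ∈ H i) : Nat.card G - 1 = ∑ i, (Subgroup.normalizer (H i : Set G)).index * (Nat.card (H i) - 1) := by
  classical
  have hpart : Nat.card {g : G // g ≠ 1} = ∑ i, Nat.card ↥(conjSet (H i)) := by
    rw [← Nat.card_sigma]
    symm
    apply Nat.card_congr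
    refine Equiv.ofBijective
      (fun p : (Σ i, ↥(conjSet (H i))) => (⟨p.2.1, p.2.2.1⟩ : {g : G // g ≠ 1})) ⟨?_, ?_⟩
    · rintro ⟨i, g, hg1, x, hx⟩ ⟨j, g', hg1', x', hx'⟩ heq
      have hgg : g = g' := congrArg Subtype.val heq
      subst hgg
      have hij : i = j := by
        by_contra hne
        apply hg1
        have h1 : orderOf g ∣ Nat.card (H i) := by
          have e : orderOf (x * g * x⁻¹) = orderOf g := (MulAut.conj x).orderOf_eq g
          rw [← e]
          exact Subgroup.orderOf_dvd_natCard _ hx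
        have h2 : orderOf g ∣ Nat.card (H j) := by
          have e : orderOf (x' * g * x'⁻¹) = orderOf g := (MulAut.conj x').orderOf_eq g
          rw [← e]
          exact Subgroup.orderOf_dvd_natCard _ hx'
        have h3 := Nat.dvd_gcd h1 h2
        rw [(hcop i j hne).gcd_eq_one] at h3
        exact orderOf_eq_one_iff.mp (Nat.dvd_one.mp h3)
      subst hij
      rfl
    · rintro ⟨g, hg⟩
      obtain ⟨i, x, hx⟩ := hcover g hg
      exact ⟨⟨i, g, hg, x, hx⟩, rfl⟩
  have hcompl : Nat.card {g : G // g ≠ 1} = Nat.card G - 1 := by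
    have h : Nat.card ↥(({1} : Set G)ᶜ) = Nat.card G - 1 := by
      rw [Nat.card_coe_set_eq, Set.ncard_compl, Set.ncard_singleton]
    exact h
  rw [← hcompl, hpart]
  apply Finset.sum_congr rfl
  intro i _
  exact card_conjSet (H i) (hTI i)

end Cfsg.Agent.S1527
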