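import Cfsg.Statements.S1530
import Cfsg.Agent.Lib_helper8_Coh2
import Cfsg.Agent.Lib_helper24_CharValues

set_option autoImplicit false
open Cfsg

namespace Cfsg.Agent.S1530

open Cfsg.Agent.helper24 Cfsg.Agent.helper12 Cfsg.Agent.helper8 Cfsg.Agent.helper8.Coh
open scoped ComplexConjugate


/-- Let N be a subgroup of the finite group G and S₀ a finite set of irreducible characters of N, χ an irreducible character of N not in S₀, with degrees ξ 1 = d ξ. Let τ be a linear isometry on the integer combinations of S₀ ∪ {χ} vanishing at 1, with values virtual characters of G vanishing at 1, such that (S₀, N minus 1, τ) is coherent. If some ψ ∈ S₀ has d ψ dividing d χ and 2 · d ψ · d χ < Σ_{ξ ∈ S₀} (d ξ)², then (S₀ ∪ {χ}, N minus 1, τ) is coherent. -/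
theorem result {G : Type*} [Group G] [Fintype G] (N : Subgroup G) [Fintype N] (S₀ : Finset (N → ℂ)) (χ : N → ℂ) (hirr : ∀ ξ ∈ S₀, Cfsg.IsIrrCharacter N ξ) (hχ : Cfsg.IsIrrCharacter N χ) (hχS : χ ∉ S₀) (d : (N → ℂ) → ℕ) (hd : ∀ ξ ∈ insert χ S₀, ξ 1 = (d ξ : ℂ)) (τ : (N → ℂ) → (G → ℂ)) (hτ : Cfsg.IsLinearIsometryOn (Cfsg.zspanOn (↑(insert χ S₀) : Set (N → ℂ)) {1}ᶜ) τ) (hτ1 : ∀ α ∈ Cfsg.zspanOn (↑(insert χ S₀) : Set (N → ℂ)) {1}ᶜ, τ α 1 = 0) (hcoh : Cfsg.IsCoherent (↑S₀ : Set (N → ℂ)) {1}ᶜ τ) (ψ : N → ℂ) (hψ : ψ ∈ S₀) (hdvd : d ψ ∣ d χ) (hlt : 2 * d ψ * d χ < ∑ ξ ∈ S₀, d ξ ^ 2) : Cfsg.IsCoherent (↑(insert χ S₀) : Set (N → ℂ)) {1}ᶜ τ := by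
  classical
  obtain ⟨⟨α₀, hα₀, hα₀ne⟩, τ₁, hτ₁, hag⟩ := hcoh
  obtain ⟨a, ha⟩ := hdvd
  obtain ⟨hadd, hsmul, hiso, hgc⟩ := hτ
  have hτ₁' := hτ₁
  obtain ⟨hadd₁, hsmul₁, hiso₁, hgc₁⟩ := hτ₁
  have hS₀S' : (↑S₀ : Set (N → ℂ)) ⊆ ↑(insert χ S₀) := by
    intro x hx
    rw [Finset.coe_insert]
    exact Set.mem_insert_of_mem _ hx
  have hχS' : χ ∈ (↑(insert χ S₀) : Set (N → ℂ)) := by
    rw [Finset.coe_insert]
    exact Set.mem_insert _ _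
  have hV₀V' : Submodule.span ℤ (↑S₀ : Set (N → ℂ))
      ≤ Submodule.span ℤ (↑(insert χ S₀) : Set (N → ℂ)) := Submodule.span_mono hS₀S'
  have hV : ∀ ξ ∈ S₀, ξ ∈ Submodule.span ℤ (↑S₀ : Set (N → ℂ)) :=
    fun ξ hξ => Submodule.subset_span (Finset.mem_coe.mpr hξ)
  have hχV' : χ ∈ Submodule.span ℤ (↑(insert χ S₀) : Set (N → ℂ)) := Submodule.subset_span hχS'
  refine ⟨⟨α₀, ⟨hV₀V' hα₀.1, hα₀.2⟩, hα₀ne⟩, ?_⟩
  have hone : ∀ x : N, x ∉ ({1}ᶜ : Set N) → x = 1 := by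
    intro x hx
    by_contra h
    exact hx (Set.mem_compl_singleton_iff.mpr h)
  have hEmono : ∀ σ ∈ Cfsg.zspanOn (↑S₀ : Set (N → ℂ)) {1}ᶜ,
      σ ∈ Cfsg.zspanOn (↑(insert χ S₀) : Set (N → ℂ)) {1}ᶜ :=
    fun σ hσ => ⟨hV₀V' hσ.1, hσ.2⟩
  have hdχ : χ 1 = (d χ : ℂ) := hd χ (Finset.mem_insert_self _ _)
  have hdS : ∀ ξ ∈ S₀, ξ 1 = (d ξ : ℂ) := fun ξ hξ => hd ξ (Finset.mem_insert_of_mem hξ)
  have hχne : ∀ ξ ∈ S₀, χ ≠ ξ := fun ξ hξ h => hχS (h ▸ hξ)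
  have oχ : ∀ ξ ∈ S₀, Cfsg.classInner χ ξ = 0 :=
    fun ξ hξ => irr_classInner_ne hχ (hirr ξ hξ) (hχne ξ hξ)
  have oχ' : ∀ ξ ∈ S₀, Cfsg.classInner ξ χ = 0 :=
    fun ξ hξ => irr_classInner_ne (hirr ξ hξ) hχ (hχne ξ hξ).symm
  have hψV := hV ψ hψ
  have hdψ0 : d ψ ≠ 0 := by
    intro h0
    apply irr_apply_one_ne_zero (hirr ψ hψ)
    rw [hdS ψ hψ, h0]
    simp
  have hdχ0 : d χ ≠ 0 := by
    intro h0
    apply irr_apply_one_ne_zero hχ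
    rw [hdχ, h0]
    simp
  have ha0 : a ≠ 0 := by
    intro h0
    rw [h0, mul_zero] at ha
    exact hdχ0 ha
  have hβE : χ - (a : ℤ) • ψ ∈ Cfsg.zspanOn (↑(insert χ S₀) : Set (N → ℂ)) {1}ᶜ := by
    refine ⟨(Submodule.sub_mem _ hχV' (Submodule.smul_mem _ _ (hV₀V' hψV)) :
      _ ∈ Submodule.span ℤ _), ?_⟩
    intro x hx
    rw [hone x hx, Pi.sub_apply, Pi.smul_apply, hdχ, hdS ψ hψ, ha, zsmul_eq_mul]
    push_cast
    ring
  obtain ⟨X, hX⟩ : ∃ X, X = τ (χ - (a : ℤ) • ψ) + (a : ℤ) • τ₁ ψ := ⟨_, rfl⟩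
  have Xgc : Cfsg.IsGeneralizedCharacter G X := by
    rw [hX]
    exact gc_add (hgc _ hβE) (gc_zsmul _ (hgc₁ _ hψV))
  have hχV : ∀ σ ∈ Submodule.span ℤ (↑S₀ : Set (N → ℂ)), Cfsg.classInner χ σ = 0 := by
    intro σ hσ
    induction hσ using Submodule.span_induction with
    | mem ξ hξ => exact oχ ξ (Finset.mem_coe.mp hξ)
    | zero => exact classInner_zero_right _
    | add a b _ _ iha ihb => rw [classInner_add_right, iha, ihb, add_zero]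
    | smul m a _ iha => rw [classInner_zsmul_right, iha, mul_zero]
  have hVχ : ∀ σ ∈ Submodule.span ℤ (↑S₀ : Set (N → ℂ)), Cfsg.classInner σ χ = 0 := by
    intro σ hσ
    rw [← classInner_conj_symm, hχV σ hσ, map_zero]
  have hXσ : ∀ σ ∈ Cfsg.zspanOn (↑S₀ : Set (N → ℂ)) {1}ᶜ, Cfsg.classInner X (τ₁ σ) = 0 := by
    intro σ hσ
    rw [hX, classInner_add_left, classInner_zsmul_left, hiso₁ ψ hψV σ hσ.1,
      hag σ hσ, hiso _ hβE σ (hEmono σ hσ), classInner_sub_left, classInner_zsmul_left,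
      hχV σ hσ.1]
    ring
  obtain ⟨e, he⟩ := virt_inner_int Xgc (hgc₁ _ hψV)
  have hδ : ∀ ξ ∈ S₀, (d ξ : ℤ) • ψ - (d ψ : ℤ) • ξ ∈ Cfsg.zspanOn (↑S₀ : Set (N → ℂ)) {1}ᶜ := by
    intro ξ hξ
    refine ⟨(Submodule.sub_mem _ (Submodule.smul_mem _ _ hψV)
      (Submodule.smul_mem _ _ (hV ξ hξ)) : _ ∈ Submodule.span ℤ _), ?_⟩
    intro x hx
    rw [hone x hx, Pi.sub_apply, Pi.smul_apply, Pi.smul_apply, hdS ψ hψ, hdS ξ hξ,
      zsmul_eq_mul, zsmul_eq_mul]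
    push_cast
    ring
  have hτ₁δ : ∀ ξ ∈ S₀, τ₁ ((d ξ : ℤ) • ψ - (d ψ : ℤ) • ξ)
      = (d ξ : ℤ) • τ₁ ψ - (d ψ : ℤ) • τ₁ ξ := by
    intro ξ hξ
    rw [iso_sub hτ₁' (Submodule.smul_mem _ _ hψV) (Submodule.smul_mem _ _ (hV ξ hξ)),
      hsmul₁ _ hψV, hsmul₁ _ (hV ξ hξ)]
  have hexu : ∀ ξ : N → ℂ, ∃ k : ℤ, ξ ∈ S₀ → Cfsg.classInner X (τ₁ ξ) = k := by
    intro ξ
    by_cases hξ : ξ ∈ S₀
    · obtain ⟨k, hk⟩ := virt_inner_int Xgc (hgc₁ _ (hV ξ hξ))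
      exact ⟨k, fun _ => hk⟩
    · exact ⟨0, fun h => absurd h hξ⟩
  choose u hu using hexu
  have hue : ∀ ξ ∈ S₀, (d ψ : ℤ) * u ξ = (d ξ : ℤ) * e := by
    intro ξ hξ
    have h0 := hXσ _ (hδ ξ hξ)
    rw [hτ₁δ ξ hξ, classInner_sub_right, classInner_zsmul_right, classInner_zsmul_right, he,
      hu ξ hξ] at h0
    have h1 : ((d ψ : ℤ) : ℂ) * (u ξ : ℂ) = ((d ξ : ℤ) : ℂ) * (e : ℂ) := by
      linear_combination -h0
    exact_mod_cast h1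
  have hn₁ : Cfsg.classInner (τ₁ ψ) (τ₁ ψ) = 1 := by
    rw [hiso₁ ψ hψV ψ hψV, irr_classInner_self (hirr ψ hψ)]
  have ht : Cfsg.classInner (τ (χ - (a : ℤ) • ψ)) (τ₁ ψ) = (e : ℂ) - (a : ℂ) := by
    have := he
    rw [hX, classInner_add_left, classInner_zsmul_left, hn₁] at this
    push_cast at this
    linear_combination this
  have ht' : Cfsg.classInner (τ₁ ψ) (τ (χ - (a : ℤ) • ψ)) = (e : ℂ) - (a : ℂ) := by
    rw [← classInner_conj_symm, ht, map_sub, map_intCast, map_natCast]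
  have hββ : Cfsg.classInner (τ (χ - (a : ℤ) • ψ)) (τ (χ - (a : ℤ) • ψ))
      = 1 + (a : ℂ) ^ 2 := by
    rw [hiso _ hβE _ hβE]
    have eβ : χ - (a : ℤ) • ψ = (-(a : ℤ)) • ψ + χ := by rw [neg_smul]; abel
    rw [eβ, inner_expand, irr_classInner_self (hirr ψ hψ), irr_classInner_self hχ, oχ ψ hψ,
      oχ' ψ hψ]
    push_cast
    ring
  have hXX : Cfsg.classInner X X = 1 + 2 * (a : ℂ) * (e : ℂ) := by
    have eX : X = (a : ℤ) • τ₁ ψ + τ (χ - (a : ℤ) • ψ) := by rw [hX, add_comm]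
    rw [eX, inner_expand, hn₁, ht, ht', hββ]
    push_cast
    ring
  -- Bessel
  have b2 := bessel_orth S₀ (fun ξ => τ₁ ξ) (fun _ => (1 : ℝ))
    (fun ξ _ => one_ne_zero)
    (fun ξ hξ => by
      show Cfsg.classInner (τ₁ ξ) (τ₁ ξ) = ((1 : ℝ) : ℂ)
      rw [hiso₁ ξ (hV ξ hξ) ξ (hV ξ hξ), irr_classInner_self (hirr ξ hξ)]
      simp)
    (fun ξ hξ φ hφ hne => by
      show Cfsg.classInner (τ₁ ξ) (τ₁ φ) = 0
      rw [hiso₁ ξ (hV ξ hξ) φ (hV φ hφ)]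
      exact irr_classInner_ne (hirr ξ hξ) (hirr φ hφ) hne)
    X (fun ξ => (u ξ : ℝ)) (fun ξ hξ => by rw [hu ξ hξ]; simp)
  obtain ⟨ρ, hρ0, hρ, hρz⟩ := classInner_self_real
    (X - ∑ ξ ∈ S₀, ((((u ξ : ℝ)) / (1 : ℝ) : ℝ) : ℂ) • τ₁ ξ)
  have hcast : (ρ : ℂ) = ((1 + 2 * (a : ℤ) * e - ∑ ξ ∈ S₀, u ξ ^ 2 : ℤ) : ℂ) := by
    rw [← hρ, b2, hXX]
    push_cast
    simp
  have hreal : ρ = ((1 + 2 * (a : ℤ) * e - ∑ ξ ∈ S₀, u ξ ^ 2 : ℤ) : ℝ) := by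
    exact_mod_cast hcast
  have hB : ∑ ξ ∈ S₀, u ξ ^ 2 ≤ 1 + 2 * (a : ℤ) * e := by
    have : (0 : ℝ) ≤ ((1 + 2 * (a : ℤ) * e - ∑ ξ ∈ S₀, u ξ ^ 2 : ℤ) : ℝ) := by
      rw [← hreal]; exact hρ0
    have h2 : (0 : ℤ) ≤ 1 + 2 * (a : ℤ) * e - ∑ ξ ∈ S₀, u ξ ^ 2 := by exact_mod_cast this
    linarith
  -- the sum of squares relation
  have hsq : ((d ψ : ℤ)) ^ 2 * ∑ ξ ∈ S₀, u ξ ^ 2 = e ^ 2 * ∑ ξ ∈ S₀, (d ξ : ℤ) ^ 2 := by
    rw [Finset.mul_sum, Finset.mul_sum]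
    apply Finset.sum_congr rfl
    intro ξ hξ
    have := hue ξ hξ
    calc ((d ψ : ℤ)) ^ 2 * u ξ ^ 2 = ((d ψ : ℤ) * u ξ) ^ 2 := by ring
      _ = ((d ξ : ℤ) * e) ^ 2 := by rw [this]
      _ = e ^ 2 * (d ξ : ℤ) ^ 2 := by ring
  have hlt' : 2 * (a : ℤ) * (d ψ : ℤ) ^ 2 < ∑ ξ ∈ S₀, (d ξ : ℤ) ^ 2 := by
    have : ((2 * d ψ * d χ : ℕ) : ℤ) < ((∑ ξ ∈ S₀, d ξ ^ 2 : ℕ) : ℤ) := by exact_mod_cast hlt
    rw [ha] at this
    push_cast at this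
    linarith
  have hdψpos : (0 : ℤ) < (d ψ : ℤ) ^ 2 := by
    have : (d ψ : ℤ) ≠ 0 := by exact_mod_cast hdψ0
    positivity
  have hapos : (1 : ℤ) ≤ (a : ℤ) := by
    have : 0 < a := Nat.pos_of_ne_zero ha0
    exact_mod_cast this
  have he0 : e = 0 := by
    by_contra hne
    have hE2 : (0 : ℤ) < e ^ 2 := by positivity
    -- 2 a e^2 < Σ u²
    have h1 : e ^ 2 * (2 * (a : ℤ) * (d ψ : ℤ) ^ 2) < e ^ 2 * ∑ ξ ∈ S₀, (d ξ : ℤ) ^ 2 :=
      mul_lt_mul_of_pos_left hlt' hE2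
    rw [← hsq] at h1
    have h2 : 2 * (a : ℤ) * e ^ 2 < ∑ ξ ∈ S₀, u ξ ^ 2 := by
      by_contra hcon
      push Not at hcon
      have := mul_le_mul_of_nonneg_left hcon hdψpos.le
      nlinarith
    have h3 : e ≤ e ^ 2 := Int.le_self_sq e
    have h4 : e ^ 2 = e := by nlinarith
    have he1 : e = 1 := by
      have : e * (e - 1) = 0 := by ring_nf; ring_nf at h4; linarith
      rcases mul_eq_zero.mp this with h | h
      · exact absurd h hne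
      · linarith
    rw [he1] at hB h2 hue hsq
    have hsum : ∑ ξ ∈ S₀, u ξ ^ 2 = 1 + 2 * (a : ℤ) := by linarith
    have hρ00 : ρ = 0 := by
      rw [hreal, hsum, he1]
      simp
    have hXeq : X = ∑ ξ ∈ S₀, ((((u ξ : ℝ)) / (1 : ℝ) : ℝ) : ℂ) • τ₁ ξ :=
      sub_eq_zero.mp (hρz hρ00)
    -- values at 1
    have hτ₁1 : ∀ ξ ∈ S₀, τ₁ ξ 1 = (u ξ : ℂ) * τ₁ ψ 1 := by
      intro ξ hξ
      have h5 := hτ1 _ (hEmono _ (hδ ξ hξ))
      rw [← hag _ (hδ ξ hξ), hτ₁δ ξ hξ, Pi.sub_apply, Pi.smul_apply, Pi.smul_apply,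
        zsmul_eq_mul, zsmul_eq_mul] at h5
      have h6 := hue ξ hξ
      have h7 : ((d ξ : ℤ) : ℂ) = ((d ψ : ℤ) : ℂ) * (u ξ : ℂ) := by
        have : (d ξ : ℤ) = (d ψ : ℤ) * u ξ := by linarith
        exact_mod_cast this
      rw [h7] at h5
      have hdψc : ((d ψ : ℤ) : ℂ) ≠ 0 := by exact_mod_cast hdψ0
      have h8 : ((d ψ : ℤ) : ℂ) * ((u ξ : ℂ) * τ₁ ψ 1 - τ₁ ξ 1) = 0 := by
        linear_combination h5
      rcases mul_eq_zero.mp h8 with h | h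
      · exact absurd h hdψc
      · linear_combination -h
    have hX1 : X 1 = (a : ℂ) * τ₁ ψ 1 := by
      rw [hX, Pi.add_apply, hτ1 _ hβE, Pi.smul_apply, zsmul_eq_mul]
      push_cast
      ring
    have hX1' : X 1 = (1 + 2 * (a : ℂ)) * τ₁ ψ 1 := by
      rw [hXeq, Finset.sum_apply]
      have : ∀ ξ ∈ S₀, ((((((u ξ : ℝ)) / (1 : ℝ) : ℝ) : ℂ) • τ₁ ξ) 1)
          = ((u ξ ^ 2 : ℤ) : ℂ) * τ₁ ψ 1 := by
        intro ξ hξ
        rw [Pi.smul_apply, hτ₁1 ξ hξ, smul_eq_mul]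
        push_cast
        ring
      rw [Finset.sum_congr rfl this, ← Finset.sum_mul, ← Int.cast_sum, hsum]
      push_cast
      ring
    have h9 : (1 + (a : ℂ)) * τ₁ ψ 1 = 0 := by linear_combination hX1 - hX1'
    have h10 : (1 + (a : ℂ)) ≠ 0 := by
      have : (1 + a : ℕ) ≠ 0 := by omega
      exact_mod_cast this
    have h11 : τ₁ ψ 1 = 0 := by
      rcases mul_eq_zero.mp h9 with h | h
      · exact absurd h h10
      · exact h
    rcases virt_norm_one (hgc₁ _ hψV) hn₁ with h | h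
    · exact irr_apply_one_ne_zero h h11
    · apply irr_apply_one_ne_zero h
      rw [Pi.neg_apply, h11, neg_zero]
  -- consequences of e = 0
  have X2 : ∀ ξ ∈ S₀, Cfsg.classInner X (τ₁ ξ) = 0 := by
    intro ξ hξ
    have := hue ξ hξ
    rw [he0, mul_zero] at this
    have hdψz : (d ψ : ℤ) ≠ 0 := by exact_mod_cast hdψ0
    rcases mul_eq_zero.mp this with h | h
    · exact absurd h hdψz
    · rw [hu ξ hξ, h]
      simp
  have X3 : Cfsg.classInner X X = 1 := by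
    rw [hXX, he0]
    simp
  have hXσ2 : ∀ σ ∈ Submodule.span ℤ (↑S₀ : Set (N → ℂ)), Cfsg.classInner X (τ₁ σ) = 0 := by
    intro σ hσ
    induction hσ using Submodule.span_induction with
    | mem ξ hξ => exact X2 ξ (Finset.mem_coe.mp hξ)
    | zero => rw [iso_zero hτ₁', classInner_zero_right]
    | add a b ha hb iha ihb => rw [hadd₁ a ha b hb, classInner_add_right, iha, ihb, add_zero]
    | smul m a ha iha => rw [hsmul₁ a ha, classInner_zsmul_right, iha, mul_zero]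
  have hXσ2' : ∀ σ ∈ Submodule.span ℤ (↑S₀ : Set (N → ℂ)), Cfsg.classInner (τ₁ σ) X = 0 := by
    intro σ hσ
    rw [← classInner_conj_symm, hXσ2 σ hσ, map_zero]
  -- coefficient function
  have hpq : ∀ α ∈ Submodule.span ℤ (↑(insert χ S₀) : Set (N → ℂ)), ∃ p : ℤ,
      Cfsg.classInner α χ = (p : ℂ) ∧
      α - p • χ ∈ Submodule.span ℤ (↑S₀ : Set (N → ℂ)) := by
    intro α hα
    induction hα using Submodule.span_induction with
    | mem φ hφ =>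
      rw [Finset.coe_insert] at hφ
      rcases hφ with hφ | hφ
      · refine ⟨1, ?_, ?_⟩
        · rw [hφ, irr_classInner_self hχ]; simp
        · rw [hφ]; simp
      · refine ⟨0, ?_, ?_⟩
        · rw [oχ' φ (Finset.mem_coe.mp hφ)]; simp
        · simpa using Submodule.subset_span hφ
    | zero => exact ⟨0, by simp [classInner_zero_left], by simp⟩
    | add a b _ _ iha ihb =>
      obtain ⟨p₁, h1, h3⟩ := iha
      obtain ⟨p₂, h4, h6⟩ := ihb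
      refine ⟨p₁ + p₂, by rw [classInner_add_left, h1, h4]; push_cast; ring, ?_⟩
      have : a + b - (p₁ + p₂) • χ = (a - p₁ • χ) + (b - p₂ • χ) := by
        rw [add_smul]; abel
      rw [this]
      exact Submodule.add_mem _ h3 h6
    | smul m a _ iha =>
      obtain ⟨p₁, h1, h3⟩ := iha
      refine ⟨m * p₁, by rw [classInner_zsmul_left, h1]; push_cast; ring, ?_⟩
      have : m • a - (m * p₁) • χ = m • (a - p₁ • χ) := by
        rw [smul_sub, mul_smul]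
      rw [this]
      exact Submodule.smul_mem _ _ h3
  choose! p hp hσ using hpq
  have p_add : ∀ α ∈ Submodule.span ℤ (↑(insert χ S₀) : Set (N → ℂ)),
      ∀ β ∈ Submodule.span ℤ (↑(insert χ S₀) : Set (N → ℂ)),
      p (α + β) = p α + p β := by
    intro α hα β hβ
    have : (p (α + β) : ℂ) = ((p α + p β : ℤ) : ℂ) := by
      rw [← hp _ (Submodule.add_mem _ hα hβ), classInner_add_left, hp α hα, hp β hβ]
      push_cast
      ring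
    exact_mod_cast this
  have p_smul : ∀ α ∈ Submodule.span ℤ (↑(insert χ S₀) : Set (N → ℂ)),
      ∀ m : ℤ, p (m • α) = m * p α := by
    intro α hα m
    have : (p (m • α) : ℂ) = ((m * p α : ℤ) : ℂ) := by
      rw [← hp _ (Submodule.smul_mem _ m hα), classInner_zsmul_left, hp α hα]
      push_cast
      ring
    exact_mod_cast this
  obtain ⟨sg, hsg⟩ : ∃ sg : (N → ℂ) → (N → ℂ), ∀ α, sg α = α - p α • χ := ⟨_, fun _ => rfl⟩
  have sg_mem : ∀ α ∈ Submodule.span ℤ (↑(insert χ S₀) : Set (N → ℂ)),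
      sg α ∈ Submodule.span ℤ (↑S₀ : Set (N → ℂ)) := by
    intro α hα
    rw [hsg]
    exact hσ α hα
  have sg_add : ∀ α ∈ Submodule.span ℤ (↑(insert χ S₀) : Set (N → ℂ)),
      ∀ β ∈ Submodule.span ℤ (↑(insert χ S₀) : Set (N → ℂ)),
      sg (α + β) = sg α + sg β := by
    intro α hα β hβ
    rw [hsg, hsg, hsg, p_add α hα β hβ, add_smul]
    abel
  have sg_smul : ∀ α ∈ Submodule.span ℤ (↑(insert χ S₀) : Set (N → ℂ)),
      ∀ m : ℤ, sg (m • α) = m • sg α := by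
    intro α hα m
    rw [hsg, hsg, p_smul α hα m, smul_sub, mul_smul]
  have sg_eq : ∀ α, p α • χ + sg α = α := by
    intro α
    rw [hsg]
    abel
  refine ⟨fun α => p α • X + τ₁ (sg α), ⟨?_, ?_, ?_, ?_⟩, ?_⟩
  · intro α hα β hβ
    show p (α + β) • X + τ₁ (sg (α + β)) = (p α • X + τ₁ (sg α)) + (p β • X + τ₁ (sg β))
    rw [p_add α hα β hβ, sg_add α hα β hβ, hadd₁ _ (sg_mem α hα) _ (sg_mem β hβ), add_smul]
    abel
  · intro α hα m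
    show p (m • α) • X + τ₁ (sg (m • α)) = m • (p α • X + τ₁ (sg α))
    rw [p_smul α hα m, sg_smul α hα m, hsmul₁ _ (sg_mem α hα), mul_smul, smul_add]
  · intro α hα β hβ
    show Cfsg.classInner (p α • X + τ₁ (sg α)) (p β • X + τ₁ (sg β)) = Cfsg.classInner α β
    have hsa := sg_mem α hα
    have hsb := sg_mem β hβ
    rw [inner_expand, X3, hXσ2 _ hsb, hXσ2' _ hsa, hiso₁ _ hsa _ hsb]
    conv_rhs => rw [← sg_eq α, ← sg_eq β]
    rw [inner_expand, irr_classInner_self hχ, hχV _ hsb, hVχ _ hsa]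
  · intro α hα
    exact gc_add (gc_zsmul _ Xgc) (hgc₁ _ (sg_mem α hα))
  · intro δ hδ'
    show p δ • X + τ₁ (sg δ) = τ δ
    have hs := sg_mem δ hδ'.1
    have hs' : sg δ + (p δ * (a : ℤ)) • ψ ∈ Cfsg.zspanOn (↑S₀ : Set (N → ℂ)) {1}ᶜ := by
      refine ⟨(Submodule.add_mem _ hs (Submodule.smul_mem _ _ hψV) : _ ∈ Submodule.span ℤ _), ?_⟩
      intro x hx
      have h1 := hδ'.2 x hx
      rw [hone x hx] at h1 ⊢
      have h2 : δ 1 = (p δ : ℂ) * (d χ : ℂ) + sg δ 1 := by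
        conv_lhs => rw [← sg_eq δ]
        rw [Pi.add_apply, Pi.smul_apply, zsmul_eq_mul, hdχ]
      rw [Pi.add_apply, Pi.smul_apply, zsmul_eq_mul, hdS ψ hψ]
      rw [h1, ha] at h2
      push_cast at h2 ⊢
      linear_combination -h2
    have hs'S := hEmono _ hs'
    have hdecomp : δ = (p δ) • (χ - (a : ℤ) • ψ) + (sg δ + (p δ * (a : ℤ)) • ψ) := by
      conv_lhs => rw [← sg_eq δ]
      module
    have hE1 : (p δ) • (χ - (a : ℤ) • ψ)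
        ∈ Cfsg.zspanOn (↑(insert χ S₀) : Set (N → ℂ)) {1}ᶜ := by
      refine ⟨(Submodule.smul_mem _ _ hβE.1 : _ ∈ Submodule.span ℤ _), ?_⟩
      intro x hx
      rw [Pi.smul_apply, hβE.2 x hx]
      simp
    have hτβ : τ (χ - (a : ℤ) • ψ) = X - (a : ℤ) • τ₁ ψ := by
      rw [hX]
      abel
    conv_rhs => rw [hdecomp]
    rw [hadd _ hE1 _ hs'S, hsmul _ hβE, ← hag _ hs', hadd₁ _ hs _ (Submodule.smul_mem _ _ hψV),
      hsmul₁ _ hψV, hτβ]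
    module

end Cfsg.Agent.S1530
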