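import Cfsg.Statements.S1531
import Cfsg.Agent.Lib_helper8_Coh2
import Cfsg.Agent.Lib_helper24_CharValues

set_option autoImplicit false
open Cfsg

namespace Cfsg.Agent.S1531

open Cfsg.Agent.helper24 Cfsg.Agent.helper12 Cfsg.Agent.helper8 Cfsg.Agent.helper8.Coh
open scoped ComplexConjugate

universe u v

theorem nf {G : Type u} [Group G] [Fintype G] {v : G → ℂ} (hv : IsGeneralizedCharacter G v)
    (h1 : classInner v v = 1) :
    ∃ ε : ℤ, (ε = 1 ∨ ε = -1) ∧ ∃ μ : G → ℂ, IsIrrCharacter G μ ∧ v = ε • μ := by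
  rcases virt_norm_one hv h1 with h | h
  · exact ⟨1, Or.inl rfl, v, h, by simp⟩
  · exact ⟨-1, Or.inr rfl, -v, h, by simp⟩

/-- sign consistency: two signed irreducibles with proportional positive-multiple degrees -/
theorem sign_eq {ε ε' : ℤ} (hε : ε = 1 ∨ ε = -1) (hε' : ε' = 1 ∨ ε' = -1) {a b : ℕ}
    (ha : 0 < a) (hb : 0 < b) (h : (a : ℤ) * ε = (b : ℤ) * ε') : ε = ε' := by
  have ha' : (0 : ℤ) < a := by exact_mod_cast ha
  have hb' : (0 : ℤ) < b := by exact_mod_cast hb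
  rcases hε with rfl | rfl <;> rcases hε' with rfl | rfl
  · rfl
  · exfalso; linarith
  · exfalso; linarith
  · rfl

section
variable {L : Type u} [Group L] [Fintype L] {G : Type v} [Group G] [Fintype G]

theorem part1 (S X Y : Set (L → ℂ)) (hirr : ∀ ξ ∈ S, IsIrrCharacter L ξ) (hXS : X ⊆ S)
    (hYS : Y ⊆ S) (hXY : Disjoint X Y) (α : (L → ℂ) → (G → ℂ))
    (hα : IsLinearIsometryOn (zspanOn S {1}ᶜ) α) (hα1 : ∀ θ ∈ zspanOn S {1}ᶜ, α θ 1 = 0)
    (σ τ : (L → ℂ) → (G → ℂ)) (hσ : IsLinearIsometryOn (zspan X) σ)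
    (hσα : ∀ θ ∈ zspanOn X {1}ᶜ, σ θ = α θ) (hτ : IsLinearIsometryOn (zspan Y) τ)
    (hτα : ∀ θ ∈ zspanOn Y {1}ᶜ, τ θ = α θ)
    {χ χ' η η' : L → ℂ} (hχ : χ ∈ X) (hχ' : χ' ∈ X) (hne : χ' ≠ χ) (hη : η ∈ Y) (hη' : η' ∈ Y)
    (hne' : η' ≠ η) : classInner (σ χ) (τ η) = 0 := by
  classical
  have hσ' := hσ
  have hτ' := hτ
  obtain ⟨haddα, hsmulα, hisoα, hgcα⟩ := hα
  obtain ⟨haddσ, hsmulσ, hisoσ, hgcσ⟩ := hσ
  obtain ⟨haddτ, hsmulτ, hisoτ, hgcτ⟩ := hτ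
  have hone : ∀ x : L, x ∉ ({1}ᶜ : Set L) → x = 1 := by
    intro x hx
    by_contra h
    exact hx (Set.mem_compl_singleton_iff.mpr h)
  have hVX : ∀ ξ ∈ X, ξ ∈ Submodule.span ℤ X := fun ξ hξ => Submodule.subset_span hξ
  have hVY : ∀ ξ ∈ Y, ξ ∈ Submodule.span ℤ Y := fun ξ hξ => Submodule.subset_span hξ
  have hXS' : Submodule.span ℤ X ≤ Submodule.span ℤ S := Submodule.span_mono hXS
  have hYS' : Submodule.span ℤ Y ≤ Submodule.span ℤ S := Submodule.span_mono hYS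
  obtain ⟨c, hc0, hc⟩ := irr_apply_one (hirr χ (hXS hχ))
  obtain ⟨c', hc0', hc'⟩ := irr_apply_one (hirr χ' (hXS hχ'))
  obtain ⟨f, hf0, hf⟩ := irr_apply_one (hirr η (hYS hη))
  obtain ⟨f', hf0', hf'⟩ := irr_apply_one (hirr η' (hYS hη'))
  -- the two degree-zero elements
  have hθX : (c' : ℤ) • χ - (c : ℤ) • χ' ∈ zspanOn X {1}ᶜ := by
    refine ⟨(Submodule.sub_mem _ (Submodule.smul_mem _ _ (hVX χ hχ))
      (Submodule.smul_mem _ _ (hVX χ' hχ')) : _ ∈ Submodule.span ℤ X), ?_⟩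
    intro x hx
    rw [hone x hx, Pi.sub_apply, Pi.smul_apply, Pi.smul_apply, hc, hc', zsmul_eq_mul,
      zsmul_eq_mul]
    push_cast
    ring
  have hθY : (f' : ℤ) • η - (f : ℤ) • η' ∈ zspanOn Y {1}ᶜ := by
    refine ⟨(Submodule.sub_mem _ (Submodule.smul_mem _ _ (hVY η hη))
      (Submodule.smul_mem _ _ (hVY η' hη')) : _ ∈ Submodule.span ℤ Y), ?_⟩
    intro x hx
    rw [hone x hx, Pi.sub_apply, Pi.smul_apply, Pi.smul_apply, hf, hf', zsmul_eq_mul,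
      zsmul_eq_mul]
    push_cast
    ring
  have hθXS : (c' : ℤ) • χ - (c : ℤ) • χ' ∈ zspanOn S {1}ᶜ := ⟨hXS' hθX.1, hθX.2⟩
  have hθYS : (f' : ℤ) • η - (f : ℤ) • η' ∈ zspanOn S {1}ᶜ := ⟨hYS' hθY.1, hθY.2⟩
  have eσ : σ ((c' : ℤ) • χ - (c : ℤ) • χ') = (c' : ℤ) • σ χ - (c : ℤ) • σ χ' := by
    rw [iso_sub hσ' (Submodule.smul_mem _ _ (hVX χ hχ)) (Submodule.smul_mem _ _ (hVX χ' hχ')),
      hsmulσ _ (hVX χ hχ), hsmulσ _ (hVX χ' hχ')]
  have eτ : τ ((f' : ℤ) • η - (f : ℤ) • η') = (f' : ℤ) • τ η - (f : ℤ) • τ η' := by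
    rw [iso_sub hτ' (Submodule.smul_mem _ _ (hVY η hη)) (Submodule.smul_mem _ _ (hVY η' hη')),
      hsmulτ _ (hVY η hη), hsmulτ _ (hVY η' hη')]
  -- normal forms
  have n1 : classInner (σ χ) (σ χ) = 1 := by
    rw [hisoσ χ (hVX χ hχ) χ (hVX χ hχ), irr_classInner_self (hirr χ (hXS hχ))]
  have n2 : classInner (σ χ') (σ χ') = 1 := by
    rw [hisoσ χ' (hVX χ' hχ') χ' (hVX χ' hχ'), irr_classInner_self (hirr χ' (hXS hχ'))]
  have n3 : classInner (τ η) (τ η) = 1 := by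
    rw [hisoτ η (hVY η hη) η (hVY η hη), irr_classInner_self (hirr η (hYS hη))]
  have n4 : classInner (τ η') (τ η') = 1 := by
    rw [hisoτ η' (hVY η' hη') η' (hVY η' hη'), irr_classInner_self (hirr η' (hYS hη'))]
  obtain ⟨ε₁, hε₁, μ₁, hμ₁, e1⟩ := nf (hgcσ χ (hVX χ hχ)) n1
  obtain ⟨ε₁', hε₁', μ₁', hμ₁', e1'⟩ := nf (hgcσ χ' (hVX χ' hχ')) n2
  obtain ⟨ε₂, hε₂, μ₂, hμ₂, e2⟩ := nf (hgcτ η (hVY η hη)) n3
  obtain ⟨ε₂', hε₂', μ₂', hμ₂', e2'⟩ := nf (hgcτ η' (hVY η' hη')) n4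
  obtain ⟨m₁, hm₁0, hm₁⟩ := irr_apply_one hμ₁
  obtain ⟨m₁', hm₁0', hm₁'⟩ := irr_apply_one hμ₁'
  obtain ⟨m₂, hm₂0, hm₂⟩ := irr_apply_one hμ₂
  obtain ⟨m₂', hm₂0', hm₂'⟩ := irr_apply_one hμ₂'
  -- sign consistency
  have s1 : ε₁ = ε₁' := by
    have h := hα1 _ hθXS
    rw [← hσα _ hθX, eσ, e1, e1', Pi.sub_apply, Pi.smul_apply, Pi.smul_apply, Pi.smul_apply,
      Pi.smul_apply, hm₁, hm₁', zsmul_eq_mul, zsmul_eq_mul, zsmul_eq_mul, zsmul_eq_mul] at h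
    have h2 : ((c' * m₁ : ℕ) : ℤ) * ε₁ = ((c * m₁' : ℕ) : ℤ) * ε₁' := by
      have : (((c' * m₁ : ℕ) : ℤ) * ε₁ : ℂ) = ((((c * m₁' : ℕ) : ℤ) * ε₁' : ℤ) : ℂ) := by
        push_cast
        linear_combination h
      exact_mod_cast this
    exact sign_eq hε₁ hε₁' (Nat.mul_pos hc0' hm₁0) (Nat.mul_pos hc0 hm₁0') h2
  have s2 : ε₂ = ε₂' := by
    have h := hα1 _ hθYS
    rw [← hτα _ hθY, eτ, e2, e2', Pi.sub_apply, Pi.smul_apply, Pi.smul_apply, Pi.smul_apply,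
      Pi.smul_apply, hm₂, hm₂', zsmul_eq_mul, zsmul_eq_mul, zsmul_eq_mul, zsmul_eq_mul] at h
    have h2 : ((f' * m₂ : ℕ) : ℤ) * ε₂ = ((f * m₂' : ℕ) : ℤ) * ε₂' := by
      have : (((f' * m₂ : ℕ) : ℤ) * ε₂ : ℂ) = ((((f * m₂' : ℕ) : ℤ) * ε₂' : ℤ) : ℂ) := by
        push_cast
        linear_combination h
      exact_mod_cast this
    exact sign_eq hε₂ hε₂' (Nat.mul_pos hf0' hm₂0) (Nat.mul_pos hf0 hm₂0') h2
  have hεc : ∀ ε : ℤ, (ε = 1 ∨ ε = -1) → (ε : ℂ) ≠ 0 := by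
    intro ε hε
    rcases hε with rfl | rfl <;> simp
  -- distinctness of the irreducibles
  have d1 : μ₁ ≠ μ₁' := by
    intro h
    have h0 : classInner (σ χ) (σ χ') = 0 := by
      rw [hisoσ χ (hVX χ hχ) χ' (hVX χ' hχ')]
      exact irr_classInner_ne (hirr χ (hXS hχ)) (hirr χ' (hXS hχ')) hne.symm
    rw [e1, e1', ← h, classInner_zsmul_left, classInner_zsmul_right, irr_classInner_self hμ₁,
      mul_one] at h0
    rcases mul_eq_zero.mp h0 with h1 | h1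
    · exact hεc ε₁ hε₁ h1
    · exact hεc ε₁' hε₁' h1
  have d2 : μ₂ ≠ μ₂' := by
    intro h
    have h0 : classInner (τ η) (τ η') = 0 := by
      rw [hisoτ η (hVY η hη) η' (hVY η' hη')]
      exact irr_classInner_ne (hirr η (hYS hη)) (hirr η' (hYS hη')) hne'.symm
    rw [e2, e2', ← h, classInner_zsmul_left, classInner_zsmul_right, irr_classInner_self hμ₂,
      mul_one] at h0
    rcases mul_eq_zero.mp h0 with h1 | h1
    · exact hεc ε₂ hε₂ h1
    · exact hεc ε₂' hε₂' h1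
  -- the main relation
  have hXYne : ∀ ξ ∈ X, ∀ ζ ∈ Y, classInner ξ ζ = 0 := by
    intro ξ hξ ζ hζ
    apply irr_classInner_ne (hirr ξ (hXS hξ)) (hirr ζ (hYS hζ))
    intro h
    exact (Set.disjoint_left.mp hXY hξ) (h ▸ hζ)
  have hmain : classInner (σ ((c' : ℤ) • χ - (c : ℤ) • χ')) (τ ((f' : ℤ) • η - (f : ℤ) • η'))
      = 0 := by
    rw [hσα _ hθX, hτα _ hθY, hisoα _ hθXS _ hθYS]
    simp only [classInner_sub_left, classInner_sub_right, classInner_zsmul_left,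
      classInner_zsmul_right, hXYne χ hχ η hη,
      hXYne χ hχ η' hη', hXYne χ' hχ' η hη, hXYne χ' hχ' η' hη']
    ring
  rw [e1, e2, classInner_zsmul_left, classInner_zsmul_right]
  by_contra hA
  have hμ12 : μ₁ = μ₂ := by
    by_contra hne12
    apply hA
    rw [irr_classInner_ne hμ₁ hμ₂ hne12]
    ring
  rw [eσ, eτ, e1, e1', e2, e2', ← s1, ← s2, classInner_sub_left, classInner_sub_right,
    classInner_sub_right] at hmain
  simp only [classInner_zsmul_left, classInner_zsmul_right] at hmain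
  have z1 : classInner μ₁ μ₂' = 0 := irr_classInner_ne hμ₁ hμ₂' (by rw [hμ12]; exact d2)
  have z2 : classInner μ₁' μ₂ = 0 := irr_classInner_ne hμ₁' hμ₂ (by rw [← hμ12]; exact d1.symm)
  have z0 : classInner μ₁ μ₂ = 1 := by rw [hμ12]; exact irr_classInner_self hμ₂
  rw [z0, z1, z2] at hmain
  have hε1sq : (ε₁ : ℂ) * ε₁ = 1 := by
    rcases hε₁ with rfl | rfl <;> simp
  have hε2sq : (ε₂ : ℂ) * ε₂ = 1 := by
    rcases hε₂ with rfl | rfl <;> simp
  have hsq : (ε₁ : ℂ) * ε₂ * ((ε₁ : ℂ) * ε₂) = 1 := by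
    calc (ε₁ : ℂ) * ε₂ * ((ε₁ : ℂ) * ε₂) = ((ε₁ : ℂ) * ε₁) * ((ε₂ : ℂ) * ε₂) := by ring
      _ = 1 := by rw [hε1sq, hε2sq, mul_one]
  have hfin : ((c' : ℤ) : ℂ) * ((f' : ℤ) : ℂ) + ((c : ℤ) : ℂ) * ((f : ℤ) : ℂ) * classInner μ₁' μ₂'
      = 0 := by
    linear_combination (ε₁ : ℂ) * ε₂ * hmain - (((c' : ℤ) : ℂ) * ((f' : ℤ) : ℂ)
      + ((c : ℤ) : ℂ) * ((f : ℤ) : ℂ) * classInner μ₁' μ₂') * hsq
  rw [irr_classInner hμ₁' hμ₂'] at hfin
  split_ifs at hfin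
  · have : ((c' * f' + c * f : ℕ) : ℂ) = 0 := by
      push_cast
      push_cast at hfin
      linear_combination hfin
    have h2 : c' * f' + c * f = 0 := by exact_mod_cast this
    have := Nat.mul_pos hc0' hf0'
    omega
  · have : ((c' * f' : ℕ) : ℂ) = 0 := by
      push_cast
      push_cast at hfin
      linear_combination hfin
    have h2 : c' * f' = 0 := by exact_mod_cast this
    have := Nat.mul_pos hc0' hf0'
    omega

end

/-- Let N be a subgroup of the finite group G, S a set of irreducible characters of N, and α a linear isometry on the integer combinations of S vanishing at 1 with values virtual characters of G vanishing at 1. Let X, Y ⊆ S be disjoint, each with at least two members, and σ, τ linear isometries on ℤ[X], ℤ[Y] into virtual characters agreeing with α on the members vanishing at 1. Then ⟨σ χ, τ η⟩ = 0 for χ ∈ X, η ∈ Y; and if for some χ₀ ∈ X, η₀ ∈ Y with degrees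 c = χ₀ 1, e = η₀ 1 one has α (c • η₀ − e • χ₀) = c • τ η₀ − e • σ χ₀, then (X ∪ Y, N minus 1, α) is coherent. -/
theorem result {G : Type*} [Group G] [Fintype G] (N : Subgroup G) [Fintype N] (S X Y : Set (N → ℂ)) (hirr : ∀ ξ ∈ S, Cfsg.IsIrrCharacter N ξ) (hXS : X ⊆ S) (hYS : Y ⊆ S) (hXY : Disjoint X Y) (hX2 : ∃ a ∈ X, ∃ b ∈ X, a ≠ b) (hY2 : ∃ a ∈ Y, ∃ b ∈ Y, a ≠ b) (α : (N → ℂ) → (G → ℂ)) (hα : Cfsg.IsLinearIsometryOn (Cfsg.zspanOn S {1}ᶜ) α) (hα1 : ∀ θ ∈ Cfsg.zspanOn S {1}ᶜ, α θ 1 = 0) (σ τ : (N → ℂ) → (G → ℂ)) (hσ : Cfsg.IsLinearIsometryOn (Cfsg.zspan X) σ) (hσα : ∀ θ ∈ Cfsg.zspanOn X {1}ᶜ, σ θ = α θ) (hτ : Cfsg.IsLinearIsometryOn (Cfsg.zspan Y) τ) (hτα : ∀ θ ∈ Cfsg.zspanOn Y {1}ᶜ, τ θ = α θ) : (∀ χ ∈ X, ∀ η ∈ Y, Cfsg.classInner (σ χ) (τ η) = 0) ∧ ((∃ χ₀ ∈ X, ∃ η₀ ∈ Y, α (χ₀ 1 • η₀ - η₀ 1 • χ₀) = χ₀ 1 • τ η₀ - η₀ 1 • σ χ₀) → Cfsg.IsCoherent (X ∪ Y) {1}ᶜ α) := by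
  classical
  have hα' := hα
  have hσ' := hσ
  have hτ' := hτ
  have h1 : ∀ χ ∈ X, ∀ η ∈ Y, Cfsg.classInner (σ χ) (τ η) = 0 := by
    intro χ hχ η hη
    obtain ⟨a, ha, b, hb, hab⟩ := hX2
    obtain ⟨χ', hχ', hne⟩ : ∃ χ' ∈ X, χ' ≠ χ := by
      by_cases h : a = χ
      · exact ⟨b, hb, fun h2 => hab (h.trans h2.symm)⟩
      · exact ⟨a, ha, h⟩
    obtain ⟨a', ha', b', hb', hab'⟩ := hY2
    obtain ⟨η', hη', hne'⟩ : ∃ η' ∈ Y, η' ≠ η := by
      by_cases h : a' = η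
      · exact ⟨b', hb', fun h2 => hab' (h.trans h2.symm)⟩
      · exact ⟨a', ha', h⟩
    exact part1 S X Y hirr hXS hYS hXY α hα hα1 σ τ hσ hσα hτ hτα hχ hχ' hne hη hη' hne'
  refine ⟨h1, ?_⟩
  rintro ⟨χ₀, hχ₀, η₀, hη₀, hθ₀⟩
  obtain ⟨haddα, hsmulα, hisoα, hgcα⟩ := hα
  obtain ⟨haddσ, hsmulσ, hisoσ, hgcσ⟩ := hσ
  obtain ⟨haddτ, hsmulτ, hisoτ, hgcτ⟩ := hτ
  have hone : ∀ x : N, x ∉ ({1}ᶜ : Set N) → x = 1 := by
    intro x hx
    by_contra h
    exact hx (Set.mem_compl_singleton_iff.mpr h)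
  have hVX : ∀ ξ ∈ X, ξ ∈ Submodule.span ℤ X := fun ξ hξ => Submodule.subset_span hξ
  have hVY : ∀ ξ ∈ Y, ξ ∈ Submodule.span ℤ Y := fun ξ hξ => Submodule.subset_span hξ
  have hXS' : Submodule.span ℤ X ≤ Submodule.span ℤ S := Submodule.span_mono hXS
  have hYS' : Submodule.span ℤ Y ≤ Submodule.span ℤ S := Submodule.span_mono hYS
  have hXYS' : Submodule.span ℤ (X ∪ Y) ≤ Submodule.span ℤ S :=
    Submodule.span_mono (Set.union_subset hXS hYS)
  have hXXY : Submodule.span ℤ X ≤ Submodule.span ℤ (X ∪ Y) :=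
    Submodule.span_mono Set.subset_union_left
  have hXYne : ∀ ξ ∈ X, ∀ ζ ∈ Y, Cfsg.classInner ξ ζ = 0 := by
    intro ξ hξ ζ hζ
    apply irr_classInner_ne (hirr ξ (hXS hξ)) (hirr ζ (hYS hζ))
    intro h
    exact (Set.disjoint_left.mp hXY hξ) (h ▸ hζ)
  -- orthogonality of the spans
  have perpXY : ∀ x ∈ Submodule.span ℤ X, ∀ y ∈ Submodule.span ℤ Y,
      Cfsg.classInner x y = 0 := by
    intro x hx y hy
    induction hx using Submodule.span_induction with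
    | mem ξ hξ =>
      induction hy using Submodule.span_induction with
      | mem ζ hζ => exact hXYne ξ hξ ζ hζ
      | zero => exact classInner_zero_right _
      | add a b _ _ iha ihb => rw [classInner_add_right, iha, ihb, add_zero]
      | smul m a _ iha => rw [classInner_zsmul_right, iha, mul_zero]
    | zero => exact classInner_zero_left _
    | add a b _ _ iha ihb => rw [classInner_add_left, iha, ihb, add_zero]
    | smul m a _ iha => rw [classInner_zsmul_left, iha, mul_zero]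
  have perpYX : ∀ x ∈ Submodule.span ℤ X, ∀ y ∈ Submodule.span ℤ Y,
      Cfsg.classInner y x = 0 := by
    intro x hx y hy
    rw [← classInner_conj_symm, perpXY x hx y hy, map_zero]
  have perpστ : ∀ x ∈ Submodule.span ℤ X, ∀ y ∈ Submodule.span ℤ Y,
      Cfsg.classInner (σ x) (τ y) = 0 := by
    intro x hx y hy
    induction hx using Submodule.span_induction with
    | mem ξ hξ =>
      induction hy using Submodule.span_induction with
      | mem ζ hζ => exact h1 ξ hξ ζ hζ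
      | zero => rw [iso_zero hτ', classInner_zero_right]
      | add a b ha hb iha ihb => rw [haddτ a ha b hb, classInner_add_right, iha, ihb, add_zero]
      | smul m a ha iha => rw [hsmulτ a ha, classInner_zsmul_right, iha, mul_zero]
    | zero => rw [iso_zero hσ', classInner_zero_left]
    | add a b ha hb iha ihb => rw [haddσ a ha b hb, classInner_add_left, iha, ihb, add_zero]
    | smul m a ha iha => rw [hsmulσ a ha, classInner_zsmul_left, iha, mul_zero]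
  have perpτσ : ∀ x ∈ Submodule.span ℤ X, ∀ y ∈ Submodule.span ℤ Y,
      Cfsg.classInner (τ y) (σ x) = 0 := by
    intro x hx y hy
    rw [← classInner_conj_symm, perpστ x hx y hy, map_zero]
  -- decomposition
  have hdec : ∀ z ∈ Submodule.span ℤ (X ∪ Y), ∃ x y : N → ℂ, x ∈ Submodule.span ℤ X ∧
      y ∈ Submodule.span ℤ Y ∧ x + y = z := by
    intro z hz
    rw [Submodule.span_union] at hz
    obtain ⟨x, hx, y, hy, hxy⟩ := Submodule.mem_sup.mp hz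
    exact ⟨x, y, hx, hy, hxy⟩
  choose! πX πY hπX hπY hπ using hdec
  have huniq : ∀ x ∈ Submodule.span ℤ X, ∀ x' ∈ Submodule.span ℤ X,
      ∀ y ∈ Submodule.span ℤ Y, ∀ y' ∈ Submodule.span ℤ Y, x + y = x' + y' → x = x' ∧ y = y' := by
    intro x hx x' hx' y hy y' hy' h
    have hw : x - x' = y' - y := by
      rw [sub_eq_sub_iff_add_eq_add, h, add_comm]
    have h0 : Cfsg.classInner (x - x') (x - x') = 0 := by
      have := perpXY _ (Submodule.sub_mem _ hx hx') _ (Submodule.sub_mem _ hy' hy)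
      rw [← hw] at this
      exact this
    have hz := classInner_self_eq_zero h0
    constructor
    · exact sub_eq_zero.mp hz
    · have : y' - y = 0 := by rw [← hw]; exact hz
      exact (sub_eq_zero.mp this).symm
  have πX_add : ∀ z ∈ Submodule.span ℤ (X ∪ Y), ∀ z' ∈ Submodule.span ℤ (X ∪ Y),
      πX (z + z') = πX z + πX z' ∧ πY (z + z') = πY z + πY z' := by
    intro z hz z' hz'
    apply huniq _ (hπX _ (Submodule.add_mem _ hz hz')) _ (Submodule.add_mem _ (hπX z hz)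
      (hπX z' hz')) _ (hπY _ (Submodule.add_mem _ hz hz')) _ (Submodule.add_mem _ (hπY z hz)
      (hπY z' hz'))
    rw [hπ _ (Submodule.add_mem _ hz hz')]
    conv_lhs => rw [← hπ z hz, ← hπ z' hz']
    abel
  have πX_smul : ∀ z ∈ Submodule.span ℤ (X ∪ Y), ∀ m : ℤ,
      πX (m • z) = m • πX z ∧ πY (m • z) = m • πY z := by
    intro z hz m
    apply huniq _ (hπX _ (Submodule.smul_mem _ m hz)) _ (Submodule.smul_mem _ m (hπX z hz))
      _ (hπY _ (Submodule.smul_mem _ m hz)) _ (Submodule.smul_mem _ m (hπY z hz))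
    rw [hπ _ (Submodule.smul_mem _ m hz)]
    conv_lhs => rw [← hπ z hz]
    rw [smul_add]
  -- degrees
  obtain ⟨c₀, hc₀0, hc₀⟩ := irr_apply_one (hirr χ₀ (hXS hχ₀))
  obtain ⟨e₀, he₀0, he₀⟩ := irr_apply_one (hirr η₀ (hYS hη₀))
  have hθ₀' : α ((c₀ : ℤ) • η₀ - (e₀ : ℤ) • χ₀) = (c₀ : ℤ) • τ η₀ - (e₀ : ℤ) • σ χ₀ := by
    have e1 : ∀ (k : ℕ) (f : N → ℂ), (k : ℂ) • f = (k : ℤ) • f := by
      intro k f
      rw [← Int.cast_smul_eq_zsmul ℂ]
      simp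
    have e2 : ∀ (k : ℕ) (f : G → ℂ), (k : ℂ) • f = (k : ℤ) • f := by
      intro k f
      rw [← Int.cast_smul_eq_zsmul ℂ]
      simp
    rw [hc₀, he₀, e1, e1, e2, e2] at hθ₀
    exact hθ₀
  have hint : ∀ x ∈ Submodule.span ℤ X, ∃ m : ℤ, x 1 = (m : ℂ) := by
    intro x hx
    induction hx using Submodule.span_induction with
    | mem ξ hξ =>
      obtain ⟨k, -, hk⟩ := irr_apply_one (hirr ξ (hXS hξ))
      exact ⟨k, by rw [hk]; simp⟩
    | zero => exact ⟨0, by simp⟩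
    | add a b _ _ iha ihb =>
      obtain ⟨k₁, h₁⟩ := iha
      obtain ⟨k₂, h₂⟩ := ihb
      exact ⟨k₁ + k₂, by rw [Pi.add_apply, h₁, h₂]; push_cast; ring⟩
    | smul n a _ iha =>
      obtain ⟨k₁, h₁⟩ := iha
      exact ⟨n * k₁, by rw [Pi.smul_apply, h₁, zsmul_eq_mul]; push_cast; ring⟩
  constructor
  · -- a nonzero member
    obtain ⟨a, ha, b, hb, hab⟩ := hX2
    obtain ⟨ka, hka0, hka⟩ := irr_apply_one (hirr a (hXS ha))
    obtain ⟨kb, hkb0, hkb⟩ := irr_apply_one (hirr b (hXS hb))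
    refine ⟨(kb : ℤ) • a - (ka : ℤ) • b, ⟨(Submodule.sub_mem _
      (Submodule.smul_mem _ _ (hXXY (hVX a ha))) (Submodule.smul_mem _ _ (hXXY (hVX b hb))) :
      _ ∈ Submodule.span ℤ (X ∪ Y)), ?_⟩, ?_⟩
    · intro x hx
      rw [hone x hx, Pi.sub_apply, Pi.smul_apply, Pi.smul_apply, hka, hkb, zsmul_eq_mul,
        zsmul_eq_mul]
      push_cast
      ring
    · intro h0
      have h2 : Cfsg.classInner ((kb : ℤ) • a - (ka : ℤ) • b) a = 0 := by
        rw [h0, classInner_zero_left]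
      rw [classInner_sub_left, classInner_zsmul_left, classInner_zsmul_left,
        irr_classInner_self (hirr a (hXS ha)),
        irr_classInner_ne (hirr b (hXS hb)) (hirr a (hXS ha)) (Ne.symm hab)] at h2
      have h3 : ((kb : ℤ) : ℂ) = 0 := by linear_combination h2
      have h4 : kb = 0 := by exact_mod_cast h3
      omega
  · refine ⟨fun z => σ (πX z) + τ (πY z), ⟨?_, ?_, ?_, ?_⟩, ?_⟩
    · intro z hz z' hz'
      show σ (πX (z + z')) + τ (πY (z + z')) = (σ (πX z) + τ (πY z)) + (σ (πX z') + τ (πY z'))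
      rw [(πX_add z hz z' hz').1, (πX_add z hz z' hz').2, haddσ _ (hπX z hz) _ (hπX z' hz'),
        haddτ _ (hπY z hz) _ (hπY z' hz')]
      abel
    · intro z hz m
      show σ (πX (m • z)) + τ (πY (m • z)) = m • (σ (πX z) + τ (πY z))
      rw [(πX_smul z hz m).1, (πX_smul z hz m).2, hsmulσ _ (hπX z hz), hsmulτ _ (hπY z hz),
        smul_add]
    · intro z hz z' hz'
      show Cfsg.classInner (σ (πX z) + τ (πY z)) (σ (πX z') + τ (πY z')) = Cfsg.classInner z z'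
      rw [classInner_add_left, classInner_add_right, classInner_add_right,
        hisoσ _ (hπX z hz) _ (hπX z' hz'), hisoτ _ (hπY z hz) _ (hπY z' hz'),
        perpστ _ (hπX z hz) _ (hπY z' hz'), perpτσ _ (hπX z' hz') _ (hπY z hz)]
      conv_rhs => rw [← hπ z hz, ← hπ z' hz']
      rw [classInner_add_left, classInner_add_right, classInner_add_right,
        perpXY _ (hπX z hz) _ (hπY z' hz'), perpYX _ (hπX z' hz') _ (hπY z hz)]
    · intro z hz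
      exact gc_add (hgcσ _ (hπX z hz)) (hgcτ _ (hπY z hz))
    · intro z hz
      show σ (πX z) + τ (πY z) = α z
      have hzV := hz.1
      have hzS : z ∈ Cfsg.zspanOn S {1}ᶜ := ⟨hXYS' hz.1, hz.2⟩
      have hx := hπX z hzV
      have hy := hπY z hzV
      obtain ⟨m, hm⟩ := hint _ hx
      have hy1 : πY z 1 = -(m : ℂ) := by
        have h2 := hz.2 1 (by simp)
        rw [← hπ z hzV, Pi.add_apply, hm] at h2
        linear_combination h2
      have hx' : (c₀ : ℤ) • πX z - m • χ₀ ∈ Cfsg.zspanOn X {1}ᶜ := by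
        refine ⟨(Submodule.sub_mem _ (Submodule.smul_mem _ _ hx)
          (Submodule.smul_mem _ _ (hVX χ₀ hχ₀)) : _ ∈ Submodule.span ℤ X), ?_⟩
        intro x hx1
        rw [hone x hx1, Pi.sub_apply, Pi.smul_apply, Pi.smul_apply, hm, hc₀, zsmul_eq_mul,
          zsmul_eq_mul]
        push_cast
        ring
      have hy' : (e₀ : ℤ) • πY z + m • η₀ ∈ Cfsg.zspanOn Y {1}ᶜ := by
        refine ⟨(Submodule.add_mem _ (Submodule.smul_mem _ _ hy)
          (Submodule.smul_mem _ _ (hVY η₀ hη₀)) : _ ∈ Submodule.span ℤ Y), ?_⟩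
        intro x hx1
        rw [hone x hx1, Pi.add_apply, Pi.smul_apply, Pi.smul_apply, hy1, he₀, zsmul_eq_mul,
          zsmul_eq_mul]
        push_cast
        ring
      have hθE : (c₀ : ℤ) • η₀ - (e₀ : ℤ) • χ₀ ∈ Cfsg.zspanOn S {1}ᶜ := by
        refine ⟨(Submodule.sub_mem _ (Submodule.smul_mem _ _ (hYS' (hVY η₀ hη₀)))
          (Submodule.smul_mem _ _ (hXS' (hVX χ₀ hχ₀))) : _ ∈ Submodule.span ℤ S), ?_⟩
        intro x hx1
        rw [hone x hx1, Pi.sub_apply, Pi.smul_apply, Pi.smul_apply, hc₀, he₀, zsmul_eq_mul,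
          zsmul_eq_mul]
        push_cast
        ring
      have hx'S : (c₀ : ℤ) • πX z - m • χ₀ ∈ Cfsg.zspanOn S {1}ᶜ := ⟨hXS' hx'.1, hx'.2⟩
      have hy'S : (e₀ : ℤ) • πY z + m • η₀ ∈ Cfsg.zspanOn S {1}ᶜ := ⟨hYS' hy'.1, hy'.2⟩
      have smulE : ∀ (k : ℤ) (w : N → ℂ), w ∈ Cfsg.zspanOn S {1}ᶜ →
          k • w ∈ Cfsg.zspanOn S {1}ᶜ := by
        intro k w hw
        refine ⟨(Submodule.smul_mem _ _ hw.1 : _ ∈ Submodule.span ℤ S), ?_⟩
        intro x hx1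
        rw [Pi.smul_apply, hw.2 x hx1]
        simp
      have addE : ∀ (w w' : N → ℂ), w ∈ Cfsg.zspanOn S {1}ᶜ → w' ∈ Cfsg.zspanOn S {1}ᶜ →
          w + w' ∈ Cfsg.zspanOn S {1}ᶜ := by
        intro w w' hw hw'
        refine ⟨(Submodule.add_mem _ hw.1 hw'.1 : _ ∈ Submodule.span ℤ S), ?_⟩
        intro x hx1
        rw [Pi.add_apply, hw.2 x hx1, hw'.2 x hx1]
        simp
      have hident : ((c₀ : ℤ) * (e₀ : ℤ)) • z = (e₀ : ℤ) • ((c₀ : ℤ) • πX z - m • χ₀)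
          + ((c₀ : ℤ) • ((e₀ : ℤ) • πY z + m • η₀)
            + (-m) • ((c₀ : ℤ) • η₀ - (e₀ : ℤ) • χ₀)) := by
        conv_lhs => rw [← hπ z hzV]
        module
      have hαx' : α ((c₀ : ℤ) • πX z - m • χ₀) = (c₀ : ℤ) • σ (πX z) - m • σ χ₀ := by
        rw [← hσα _ hx', iso_sub hσ' (Submodule.smul_mem _ _ hx)
          (Submodule.smul_mem _ _ (hVX χ₀ hχ₀)), hsmulσ _ hx, hsmulσ _ (hVX χ₀ hχ₀)]
      have hαy' : α ((e₀ : ℤ) • πY z + m • η₀) = (e₀ : ℤ) • τ (πY z) + m • τ η₀ := by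
        rw [← hτα _ hy', haddτ _ (Submodule.smul_mem _ _ hy)
          _ (Submodule.smul_mem _ _ (hVY η₀ hη₀)), hsmulτ _ hy, hsmulτ _ (hVY η₀ hη₀)]
      have hkey : ((c₀ : ℤ) * (e₀ : ℤ)) • α z
          = ((c₀ : ℤ) * (e₀ : ℤ)) • (σ (πX z) + τ (πY z)) := by
        rw [← hsmulα z hzS, hident,
          haddα _ (smulE _ _ hx'S) _ (addE _ _ (smulE _ _ hy'S) (smulE _ _ hθE)),
          haddα _ (smulE _ _ hy'S) _ (smulE _ _ hθE),
          hsmulα _ hx'S, hsmulα _ hy'S, hsmulα _ hθE, hαx', hαy', hθ₀']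
        module
      have hne0 : ((c₀ : ℤ) * (e₀ : ℤ)) ≠ 0 := by
        have : 0 < c₀ * e₀ := Nat.mul_pos hc₀0 he₀0
        have h2 : (0 : ℤ) < (c₀ : ℤ) * (e₀ : ℤ) := by exact_mod_cast this
        exact h2.ne'
      exact (smul_right_injective (G → ℂ) hne0 hkey).symm

end Cfsg.Agent.S1531
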