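import Cfsg.Statements.S1536
import Mathlib
import Cfsg.Agent.Lib_helper24_Char
import Cfsg.Agent.S0173

set_option autoImplicit false
open Cfsg

namespace Cfsg.Agent.S1536

/-- Let H be a normal subgroup of the finite group M whose order is coprime to its index. For x ∈ M: some non-principal irreducible character of H is unchanged under h ↦ θ(x h x⁻¹) if and only if some non-identity element of H commutes with x. -/
theorem result {M : Type*} [Group M] [Finite M] (H : Subgroup M) [hN : H.Normal] (hHall : Nat.Coprime (Nat.card H) H.index) (x : M) : (∃ θ : H → ℂ, Cfsg.IsIrrCharacter H θ ∧ θ ≠ (fun _ => 1) ∧ (fun h : H => θ ⟨x * h * x⁻¹, hN.conj_mem h h.2 x⟩) = θ) ↔ ∃ h ∈ H, h ≠ 1 ∧ x * h = h * x := by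
  classical
  haveI : Fintype H := Fintype.ofFinite H
  -- notation
  obtain ⟨α, hα⟩ : ∃ α : H ≃* H, α = (MulAut.conjNormal x : H ≃* H) := ⟨_, rfl⟩
  have hαv : ∀ h : H, ((α h : H) : M) = x * (h : M) * x⁻¹ := by
    intro h
    rw [hα, MulAut.conjNormal_apply]
  have hfixiff : ∀ θ : H → ℂ, (fun h : H => θ ⟨x * h * x⁻¹, hN.conj_mem h h.2 x⟩) = θ ↔ θ ∘ α = θ := by
    intro θ
    have e : (fun h : H => θ ⟨x * h * x⁻¹, hN.conj_mem h h.2 x⟩) = θ ∘ α := by
      funext h
      rw [Function.comp_apply]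
      congr 1
      exact Subtype.ext (hαv h).symm
    rw [e]
  have hbrauer := Cfsg.Agent.S0173.result α
  haveI : Finite {C : ConjClasses H // ConjClasses.map α.toMonoidHom C = C} := Subtype.finite
  haveI : Finite {χ : IrrCharacter H // (χ : H → ℂ) ∘ α = (χ : H → ℂ)} := Subtype.finite
  have h1C : ConjClasses.map α.toMonoidHom (ConjClasses.mk (1 : H)) = ConjClasses.mk 1 := by
    change ConjClasses.mk (α 1) = ConjClasses.mk 1
    rw [map_one]
  have h1χ : (fun _ : H => (1 : ℂ)) ∘ α = fun _ => 1 := rfl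
  -- equivalence between nontrivial fixed classes and nonprincipal fixed characters
  have hequiv : (∃ C : ConjClasses H, ConjClasses.map α.toMonoidHom C = C ∧ C ≠ ConjClasses.mk 1) ↔
      (∃ χ : IrrCharacter H, (χ : H → ℂ) ∘ α = (χ : H → ℂ) ∧ (χ : H → ℂ) ≠ fun _ => 1) := by
    have e1 : (∃ C : ConjClasses H, ConjClasses.map α.toMonoidHom C = C ∧ C ≠ ConjClasses.mk 1) ↔
        Nontrivial {C : ConjClasses H // ConjClasses.map α.toMonoidHom C = C} := by
      rw [nontrivial_iff_exists_ne (⟨ConjClasses.mk 1, h1C⟩ :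
        {C : ConjClasses H // ConjClasses.map α.toMonoidHom C = C})]
      constructor
      · rintro ⟨C, hC, hne⟩
        exact ⟨⟨C, hC⟩, fun h => hne (congrArg Subtype.val h)⟩
      · rintro ⟨⟨C, hC⟩, hne⟩
        exact ⟨C, hC, fun h => hne (Subtype.ext h)⟩
    have e2 : (∃ χ : IrrCharacter H, (χ : H → ℂ) ∘ α = (χ : H → ℂ) ∧ (χ : H → ℂ) ≠ fun _ => 1) ↔
        Nontrivial {χ : IrrCharacter H // (χ : H → ℂ) ∘ α = (χ : H → ℂ)} := by
      rw [nontrivial_iff_exists_ne (⟨⟨fun _ => 1, Cfsg.Agent.helper24.isIrrCharacter_one⟩, h1χ⟩ :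
        {χ : IrrCharacter H // (χ : H → ℂ) ∘ α = (χ : H → ℂ)})]
      constructor
      · rintro ⟨χ, hχ, hne⟩
        exact ⟨⟨χ, hχ⟩, fun h => hne (congrArg (fun z => (z.1 : H → ℂ)) h)⟩
      · rintro ⟨⟨χ, hχ⟩, hne⟩
        exact ⟨χ, hχ, fun h => hne (Subtype.ext (Subtype.ext h))⟩
    rw [e1, e2, ← Finite.one_lt_card_iff_nontrivial, ← Finite.one_lt_card_iff_nontrivial, hbrauer]
  constructor
  · rintro ⟨θ, hθ, hθ1, hfix⟩
    obtain ⟨C, hC, hCne⟩ := hequiv.mpr ⟨⟨θ, hθ⟩, (hfixiff θ).mp hfix, hθ1⟩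
    obtain ⟨k, rfl⟩ := ConjClasses.mk_surjective C
    have hk1 : k ≠ 1 := fun h => hCne (by rw [h])
    change ConjClasses.mk (α k) = ConjClasses.mk k at hC
    rw [ConjClasses.mk_eq_mk_iff_isConj, isConj_iff] at hC
    obtain ⟨m, hm⟩ := hC
    by_contra hcon
    push Not at hcon
    -- the map z ↦ z⁻¹ α z is injective, hence surjective
    have hinj : Function.Injective (fun z : H => z⁻¹ * α z) := by
      intro a b hab
      simp only at hab
      have h1 : α (b * a⁻¹) = b * a⁻¹ := by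
        rw [map_mul, map_inv]
        have : α a = a * (b⁻¹ * α b) := by rw [← hab]; group
        rw [this]
        group
      by_contra hne
      have hne' : ((b * a⁻¹ : H) : M) ≠ 1 := by
        intro h
        apply hne
        have : b * a⁻¹ = 1 := Subtype.ext h
        exact (mul_inv_eq_one.mp this).symm
      apply hcon _ (b * a⁻¹ : H).2 hne'
      have h2 := congrArg Subtype.val h1
      rw [hαv] at h2
      calc x * ((b * a⁻¹ : H) : M) = (x * ((b * a⁻¹ : H) : M) * x⁻¹) * x := by group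
        _ = ((b * a⁻¹ : H) : M) * x := by rw [h2]
    have hsurj := Finite.surjective_of_injective hinj
    obtain ⟨z, hz⟩ := hsurj m
    simp only at hz
    have hαz : α z = z * m := by rw [← hz]; group
    have hαk : α k = m⁻¹ * k * m := by
      have h5 : α k = m⁻¹ * (m * α k * m⁻¹) * m := by group
      rw [hm] at h5
      exact h5
    have hfixk : α (z * k * z⁻¹) = z * k * z⁻¹ := by
      rw [map_mul, map_mul, map_inv, hαz, hαk]
      group
    have hk' : ((z * k * z⁻¹ : H) : M) ≠ 1 := by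
      intro h
      apply hk1
      have : z * k * z⁻¹ = 1 := Subtype.ext h
      have h3 : k = z⁻¹ * (z * k * z⁻¹) * z := by group
      rw [h3, this]
      group
    apply hcon _ (z * k * z⁻¹ : H).2 hk'
    have h2 := congrArg Subtype.val hfixk
    rw [hαv] at h2
    calc x * ((z * k * z⁻¹ : H) : M) = (x * ((z * k * z⁻¹ : H) : M) * x⁻¹) * x := by group
      _ = ((z * k * z⁻¹ : H) : M) * x := by rw [h2]
  · rintro ⟨h, hh, hh1, hcomm⟩
    have hfixC : ConjClasses.map α.toMonoidHom (ConjClasses.mk (⟨h, hh⟩ : H)) = ConjClasses.mk ⟨h, hh⟩ := by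
      change ConjClasses.mk (α ⟨h, hh⟩) = ConjClasses.mk ⟨h, hh⟩
      congr 1
      apply Subtype.ext
      rw [hαv]
      show x * h * x⁻¹ = h
      rw [hcomm]
      group
    have hneC : ConjClasses.mk (⟨h, hh⟩ : H) ≠ ConjClasses.mk 1 := by
      intro hc
      rw [ConjClasses.mk_eq_mk_iff_isConj, isConj_one_left] at hc
      exact hh1 (congrArg Subtype.val hc)
    obtain ⟨χ, hχfix, hχ1⟩ := hequiv.mp ⟨_, hfixC, hneC⟩
    exact ⟨χ, χ.2, hχ1, (hfixiff χ).mpr hχfix⟩

end Cfsg.Agent.S1536
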