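import Cfsg.Statements.S1546
import Mathlib

set_option autoImplicit false
open Cfsg

namespace Cfsg.Agent.S1546

open Finset in
theorem geom_mod (p q d : ℕ) (hp : 2 ≤ p) (h : p ≡ 1 [MOD d]) :
    (p ^ q - 1) / (p - 1) ≡ q [MOD d] := by
  rw [← Nat.geomSum_eq hp q]
  rw [← ZMod.natCast_eq_natCast_iff] at h ⊢
  push_cast
  rw [h]
  simp

/-- Let p and q be odd primes and N = (p ^ q − 1) / (p − 1) = 1 + p + ⋯ + p^(q−1). Then N is odd; if p ≡ 1 (mod q) then q ∣ N; and if p is not ≡ 1 (mod q) then N is coprime to p − 1 and every divisor of N is ≡ 1 (mod q). -/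
theorem result (p q : ℕ) (hp : p.Prime) (hq : q.Prime) (hp2 : p ≠ 2) (hq2 : q ≠ 2) : Odd ((p ^ q - 1) / (p - 1)) ∧ (p % q = 1 → q ∣ (p ^ q - 1) / (p - 1)) ∧ (p % q ≠ 1 → Nat.Coprime ((p ^ q - 1) / (p - 1)) (p - 1) ∧ ∀ x : ℕ, x ∣ (p ^ q - 1) / (p - 1) → x % q = 1) := by
  have hp2' : 2 ≤ p := hp.two_le
  have hq2' : 2 ≤ q := hq.two_le
  have hpodd : p % 2 = 1 := (hp.eq_two_or_odd).resolve_left hp2
  have hqodd : q % 2 = 1 := (hq.eq_two_or_odd).resolve_left hq2
  set N := (p ^ q - 1) / (p - 1) with hN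
  have hmul : N * (p - 1) = p ^ q - 1 := Nat.div_mul_cancel (Nat.sub_one_dvd_pow_sub_one p q)
  have hpq1 : 1 ≤ p ^ q := Nat.one_le_pow _ _ (by omega)
  have hodd : Odd N := by
    rw [Nat.odd_iff]
    have h1 : p ≡ 1 [MOD 2] := hpodd
    have h2 := geom_mod p q 2 hp2' h1
    rw [Nat.ModEq] at h2
    rw [h2, hqodd]
  have hNpos : 0 < N := hodd.pos
  refine ⟨hodd, ?_, ?_⟩
  · intro h
    have h1 : p ≡ 1 [MOD q] := by
      rw [Nat.ModEq, h, Nat.mod_eq_of_lt (by omega)]
    have h2 := geom_mod p q q hp2' h1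
    rw [Nat.ModEq, Nat.mod_self] at h2
    exact Nat.dvd_of_mod_eq_zero h2
  · intro hne
    have hcop : Nat.Coprime N (p - 1) := by
      apply Nat.coprime_of_dvd
      intro r hr hrN hrp
      have h1 : p ≡ 1 [MOD r] := by
        have := (Nat.modEq_iff_dvd' (by omega : 1 ≤ p)).mpr hrp
        exact this.symm
      have h2 := geom_mod p q r hp2' h1
      have h3 : r ∣ q := by
        have h4 : N % r = 0 := Nat.mod_eq_zero_of_dvd hrN
        rw [Nat.ModEq, h4] at h2
        exact Nat.dvd_of_mod_eq_zero h2.symm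
      have h5 : r = q := (Nat.prime_dvd_prime_iff_eq hr hq).mp h3
      subst h5
      apply hne
      have := h1
      rw [Nat.ModEq, Nat.mod_eq_of_lt (by omega : 1 < r)] at this
      exact this
    refine ⟨hcop, ?_⟩
    -- prime divisors
    have hprime : ∀ r : ℕ, r.Prime → r ∣ N → r % q = 1 := by
      intro r hr hrN
      haveI : Fact r.Prime := ⟨hr⟩
      have hrpow : r ∣ p ^ q - 1 := by rw [← hmul]; exact Dvd.dvd.mul_right hrN _
      have ha : ((p : ZMod r)) ^ q = 1 := by
        have h1 : ((p ^ q - 1 : ℕ) : ZMod r) = 0 := (ZMod.natCast_eq_zero_iff _ _).mpr hrpow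
        rw [Nat.cast_sub hpq1] at h1
        push_cast at h1
        exact sub_eq_zero.mp h1
      have ha0 : (p : ZMod r) ≠ 0 := by
        intro h0
        rw [h0, zero_pow (by omega)] at ha
        exact zero_ne_one ha
      have hord : orderOf (p : ZMod r) ∣ q := orderOf_dvd_of_pow_eq_one ha
      rcases (Nat.dvd_prime hq).mp hord with h1 | h1
      · exfalso
        rw [orderOf_eq_one_iff] at h1
        have h2 : r ∣ p - 1 := by
          have h3 : ((p - 1 : ℕ) : ZMod r) = 0 := by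
            rw [Nat.cast_sub (by omega : 1 ≤ p), h1]; simp
          exact (ZMod.natCast_eq_zero_iff _ _).mp h3
        have h4 : r ∣ Nat.gcd N (p - 1) := Nat.dvd_gcd hrN h2
        rw [hcop.gcd_eq_one] at h4
        exact hr.one_lt.ne' (Nat.dvd_one.mp h4)
      · have h2 : orderOf (p : ZMod r) ∣ r - 1 := ZMod.orderOf_dvd_card_sub_one ha0
        rw [h1] at h2
        obtain ⟨t, ht⟩ := h2
        have h3 : r = q * t + 1 := by have := hr.one_lt; omega
        rw [h3, Nat.add_mod, Nat.mul_mod_right, Nat.zero_add, Nat.mod_mod,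
          Nat.mod_eq_of_lt (by omega : 1 < q)]
    intro x
    induction x using induction_on_primes with
    | zero =>
      intro h
      exfalso
      rw [zero_dvd_iff] at h
      omega
    | one => intro _; exact Nat.mod_eq_of_lt (by omega)
    | prime_mul r a hr ih =>
      intro h
      have h1 : r % q = 1 := hprime r hr (Dvd.dvd.trans (Dvd.intro _ rfl) h)
      have h2 : a % q = 1 := ih (Dvd.dvd.trans (Dvd.intro_left _ rfl) h)
      rw [Nat.mul_mod, h1, h2]
      exact Nat.mod_eq_of_lt (by omega)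

end Cfsg.Agent.S1546
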