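import Mathlib
import Cfsg.Statements.S1551
import Cfsg.Agent.Lib_helper2_K6c

set_option autoImplicit false
open scoped Pointwise
open Cfsg

namespace Cfsg.Agent.S1551

open Cfsg.Agent.helper2

open Cfsg.Agent.helper2.Golay Cfsg.Agent.helper27
open scoped Pointwise
open MulAction

/-- An element fixing every member of a family fixes the family. -/
theorem smul_eq_of_famKer {S : Finset (Finset GolayPt)} {g : Equiv.Perm GolayPt}
    (h : ∀ t ∈ S, g • t = t) : g • S = S := by
  ext v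
  rw [Finset.mem_smul_finset]
  constructor
  · rintro ⟨t, ht, rfl⟩
    rw [h t ht]
    exact ht
  · intro hv
    exact ⟨v, hv, h v hv⟩

/-- An element permuting the members of a family fixes the family. -/
theorem smul_eq_of_maps {S : Finset (Finset GolayPt)} {g : Equiv.Perm GolayPt}
    (h : ∀ t ∈ S, g • t ∈ S) : g • S = S := by
  apply Finset.eq_of_subset_of_card_le
  · intro v hv
    obtain ⟨t, ht, rfl⟩ := Finset.mem_smul_finset.mp hv
    exact h t ht
  · rw [Finset.card_smul_finset]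

/-- The permutations of the members of `S` induced by its stabiliser. -/
def indSub (S : Finset (Finset GolayPt)) : Subgroup (Equiv.Perm ↥S) where
  carrier := {e | ∃ g ∈ stabilizer M24 S, ∀ t : ↥S,
    ((g : M24) : Equiv.Perm GolayPt) • (t : Finset GolayPt) = ((e t : ↥S) : Finset GolayPt)}
  mul_mem' := by
    rintro e1 e2 ⟨g1, hg1, h1⟩ ⟨g2, hg2, h2⟩
    refine ⟨g1 * g2, Subgroup.mul_mem _ hg1 hg2, fun t => ?_⟩
    rw [Subgroup.coe_mul, mul_smul, h2 t, h1 (e2 t)]
    rfl
  one_mem' := ⟨1, Subgroup.one_mem _, fun t => by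
    rw [Subgroup.coe_one, one_smul]
    rfl⟩
  inv_mem' := by
    rintro e ⟨g, hg, h⟩
    refine ⟨g⁻¹, Subgroup.inv_mem _ hg, fun t => ?_⟩
    rw [Subgroup.coe_inv, inv_smul_eq_iff, h (e⁻¹ t)]
    simp

theorem indSub_eq_top {S : Finset (Finset GolayPt)} (hS : S ∈ sextets) : indSub S = ⊤ := by
  rw [eq_top_iff, ← Equiv.Perm.closure_isSwap, Subgroup.closure_le]
  rintro σ ⟨t, u, htu, rfl⟩
  have htu' : (t : Finset GolayPt) ≠ u := fun h => htu (Subtype.ext h)
  obtain ⟨g, hg, hgt, hgu, hgv⟩ := sextet_swap hS t.2 u.2 htu'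
  have hmaps : ∀ v ∈ S, g • v ∈ S := by
    intro v hv
    by_cases h1 : v = t
    · rw [h1, hgt]
      exact u.2
    · by_cases h2 : v = u
      · rw [h2, hgu]
        exact t.2
      · rw [hgv v hv h1 h2]
        exact hv
  refine ⟨⟨g, hg⟩, mem_stabilizer_iff.mpr (smul_eq_of_maps hmaps), fun w => ?_⟩
  show g • (w : Finset GolayPt) = ((Equiv.swap t u w : ↥S) : Finset GolayPt)
  by_cases h1 : w = t
  · rw [h1, Equiv.swap_apply_left, hgt]
  · by_cases h2 : w = u
    · rw [h2, Equiv.swap_apply_right, hgu]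
    · rw [Equiv.swap_apply_of_ne_of_ne h1 h2]
      exact hgv w w.2 (fun h => h1 (Subtype.ext h)) (fun h => h2 (Subtype.ext h))

/-- The kernel as a subtype of the stabiliser is the subgroup `famKer`. -/
def kerEquiv (S : Finset (Finset GolayPt)) :
    {g : ↥(stabilizer M24 S) // ∀ t ∈ S, ((g : M24) : Equiv.Perm GolayPt) • t = t} ≃ famKer S where
  toFun x := ⟨((x.1 : M24) : Equiv.Perm GolayPt), ⟨(x.1 : M24).2, x.2⟩⟩
  invFun y := ⟨⟨⟨y.1, y.2.1⟩, mem_stabilizer_iff.mpr (smul_eq_of_famKer y.2.2)⟩, y.2.2⟩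
  left_inv x := rfl
  right_inv y := rfl

/-- The involutions of the kernel, as a subgroup of the stabiliser. -/
def invSub {S : Finset (Finset GolayPt)} {h : Equiv.Perm GolayPt} (hh : h ∈ M24)
    (hS : h • S = famFin sxBase) : Subgroup ↥(stabilizer M24 S) where
  carrier := {x | (∀ t ∈ S, ((x : M24) : Equiv.Perm GolayPt) • t = t) ∧ x * x = 1}
  mul_mem' := by
    rintro a b ⟨ha, ha2⟩ ⟨hb, hb2⟩
    have hfix : ∀ t ∈ S, (((a * b : ↥(stabilizer M24 S)) : M24) : Equiv.Perm GolayPt) • t = t := by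
      intro t ht
      show (((a : M24) : Equiv.Perm GolayPt) * ((b : M24) : Equiv.Perm GolayPt)) • t = t
      rw [mul_smul, hb t ht, ha t ht]
    refine ⟨hfix, ?_⟩
    set A : Equiv.Perm GolayPt := ((a : M24) : Equiv.Perm GolayPt) with hA
    set B : Equiv.Perm GolayPt := ((b : M24) : Equiv.Perm GolayPt) with hB
    have hA2 : A * A = 1 := by
      have := congrArg (fun x : ↥(stabilizer M24 S) => ((x : M24) : Equiv.Perm GolayPt)) ha2
      exact this
    have hB2 : B * B = 1 := by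
      have := congrArg (fun x : ↥(stabilizer M24 S) => ((x : M24) : Equiv.Perm GolayPt)) hb2
      exact this
    have hAK : h * A * h⁻¹ ∈ N6set := by
      refine ⟨?_, ?_⟩
      · rw [← famKer_base, ← hS]
        exact (famKer_conj hh A).mp ⟨(a : M24).2, ha⟩
      · have : h * A * h⁻¹ * (h * A * h⁻¹) = h * (A * A) * h⁻¹ := by group
        rw [this, hA2]
        group
    have hBK : h * B * h⁻¹ ∈ N6set := by
      refine ⟨?_, ?_⟩
      · rw [← famKer_base, ← hS]
        exact (famKer_conj hh B).mp ⟨(b : M24).2, hb⟩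
      · have : h * B * h⁻¹ * (h * B * h⁻¹) = h * (B * B) * h⁻¹ := by group
        rw [this, hB2]
        group
    have hAB := (N6set_mul hAK hBK).2
    have hAB' : A * B * (A * B) = 1 := by
      have e : A * B * (A * B) = h⁻¹ * (h * A * h⁻¹ * (h * B * h⁻¹) * (h * A * h⁻¹ * (h * B * h⁻¹))) * h := by
        group
      rw [e, hAB]
      group
    apply Subtype.ext
    apply Subtype.ext
    exact hAB'
  one_mem' := ⟨fun t _ => one_smul _ t, one_mul 1⟩
  inv_mem' := by
    rintro a ⟨ha, ha2⟩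
    refine ⟨fun t ht => ?_, ?_⟩
    · show (((a : M24) : Equiv.Perm GolayPt))⁻¹ • t = t
      rw [inv_smul_eq_iff, ha t ht]
    · rw [← mul_inv_rev, ha2, inv_one]

theorem mem_invSub {S : Finset (Finset GolayPt)} {h : Equiv.Perm GolayPt} (hh : h ∈ M24)
    (hS : h • S = famFin sxBase) (x : ↥(stabilizer M24 S)) :
    x ∈ invSub hh hS ↔ (∀ t ∈ S, ((x : M24) : Equiv.Perm GolayPt) • t = t) ∧ x * x = 1 := Iff.rfl

/-- The involution subgroup corresponds to the involutions of the base kernel. -/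
def invEquiv {S : Finset (Finset GolayPt)} {h : Equiv.Perm GolayPt} (hh : h ∈ M24)
    (hS : h • S = famFin sxBase) : invSub hh hS ≃ N6set where
  toFun x := ⟨h * (((x : ↥(stabilizer M24 S)) : M24) : Equiv.Perm GolayPt) * h⁻¹, by
    obtain ⟨hx, hx2⟩ := x.2
    have hX2 : (((x : ↥(stabilizer M24 S)) : M24) : Equiv.Perm GolayPt) *
        (((x : ↥(stabilizer M24 S)) : M24) : Equiv.Perm GolayPt) = 1 :=
      congrArg (fun y : ↥(stabilizer M24 S) => ((y : M24) : Equiv.Perm GolayPt)) hx2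
    refine ⟨?_, ?_⟩
    · rw [← famKer_base, ← hS]
      exact (famKer_conj hh _).mp ⟨((x : ↥(stabilizer M24 S)) : M24).2, hx⟩
    · have : ∀ X : Equiv.Perm GolayPt, h * X * h⁻¹ * (h * X * h⁻¹) = h * (X * X) * h⁻¹ := by
        intro X
        group
      rw [this, hX2]
      group⟩
  invFun y := ⟨⟨⟨h⁻¹ * y.1 * h, by
      have : y.1 ∈ M24 := y.2.1.1
      exact Subgroup.mul_mem _ (Subgroup.mul_mem _ (Subgroup.inv_mem _ hh) this) hh⟩, by
      rw [mem_stabilizer_iff]
      apply smul_eq_of_famKer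
      have hk : h⁻¹ * y.1 * h ∈ famKer S := by
        rw [famKer_conj hh, hS, famKer_base]
        have e : h * (h⁻¹ * y.1 * h) * h⁻¹ = y.1 := by group
        rw [e]
        exact y.2.1
      exact hk.2⟩, by
    constructor
    · have hk : h⁻¹ * y.1 * h ∈ famKer S := by
        rw [famKer_conj hh, hS, famKer_base]
        have e : h * (h⁻¹ * y.1 * h) * h⁻¹ = y.1 := by group
        rw [e]
        exact y.2.1
      exact hk.2
    · apply Subtype.ext
      apply Subtype.ext
      show h⁻¹ * y.1 * h * (h⁻¹ * y.1 * h) = 1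
      have e : h⁻¹ * y.1 * h * (h⁻¹ * y.1 * h) = h⁻¹ * (y.1 * y.1) * h := by group
      rw [e, y.2.2]
      group⟩
  left_inv x := by
    apply Subtype.ext
    apply Subtype.ext
    apply Subtype.ext
    show h⁻¹ * (h * _ * h⁻¹) * h = _
    group
  right_inv y := by
    apply Subtype.ext
    show h * (h⁻¹ * y.1 * h) * h⁻¹ = y.1
    group


theorem result (S : Finset (Finset Cfsg.GolayPt)) (hS : S ∈ Cfsg.sextets) : (∀ e : Equiv.Perm ↥S, ∃ g ∈ MulAction.stabilizer Cfsg.M24 S, ∀ t : ↥S, (g : Equiv.Perm Cfsg.GolayPt) • (t : Finset Cfsg.GolayPt) = ((e t : ↥S) : Finset Cfsg.GolayPt)) ∧ Nat.card {g : ↥(MulAction.stabilizer Cfsg.M24 S) // ∀ t ∈ S, ((g : Cfsg.M24) : Equiv.Perm Cfsg.GolayPt) • t = t} = 192 ∧ ∃ N : Subgroup ↥(MulAction.stabilizer Cfsg.M24 S), N.Normal ∧ Nat.card N = 64 ∧ ∀ x ∈ N, x * x = 1 := by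
  obtain ⟨h, hh, hhS⟩ := sextet_to_sxBase hS
  refine ⟨?_, ?_, ?_⟩
  · intro e
    have : e ∈ indSub S := by
      rw [indSub_eq_top hS]
      exact Subgroup.mem_top e
    exact this
  · rw [Nat.card_congr (kerEquiv S), card_famKer hS]
  · refine ⟨invSub hh hhS, ?_, ?_, ?_⟩
    · constructor
      intro x hx n
      rw [mem_invSub] at hx ⊢
      obtain ⟨hx1, hx2⟩ := hx
      constructor
      · intro t ht
        have hn : ((n : M24) : Equiv.Perm GolayPt) • S = S := mem_stabilizer_iff.mp n.2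
        have hnt : (((n : M24) : Equiv.Perm GolayPt))⁻¹ • t ∈ S := by
          rw [Finset.inv_smul_mem_iff, hn]
          exact ht
        show (((n : M24) : Equiv.Perm GolayPt) * ((x : M24) : Equiv.Perm GolayPt) *
          (((n : M24) : Equiv.Perm GolayPt))⁻¹) • t = t
        rw [mul_smul, mul_smul, hx1 _ hnt, smul_inv_smul]
      · have : n * x * n⁻¹ * (n * x * n⁻¹) = n * (x * x) * n⁻¹ := by group
        rw [this, hx2]
        group
    · rw [Nat.card_congr (invEquiv hh hhS), Nat.card_coe_set_eq, ncard_N6set]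
    · intro x hx
      exact ((mem_invSub hh hhS x).mp hx).2

end Cfsg.Agent.S1551
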