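import Cfsg.Statements.S1555
import Cfsg.Agent.Lib_helper28_Design24
import Cfsg.Agent.Lib_helper28_GolayInst

set_option autoImplicit false
open Cfsg

namespace Cfsg.Agent.S1555

/-- Bottom row of the Leech triangle: an octad is met in a prescribed pair of its points by exactly 16 octads and in a prescribed 4-subset by exactly 4 octads. -/
theorem result (o : Finset Cfsg.GolayPt) (ho : o ∈ Cfsg.octads) (s : Finset Cfsg.GolayPt) (hs : s ⊆ o) : (s.card = 2 → {o' : Finset Cfsg.GolayPt | o' ∈ Cfsg.octads ∧ o ∩ o' = s}.ncard = 16) ∧ (s.card = 4 → {o' : Finset Cfsg.GolayPt | o' ∈ Cfsg.octads ∧ o ∩ o' = s}.ncard = 4) := by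
  have hG := Cfsg.Agent.helper28.Octad.isGolay_golayCode
  have hS : Cfsg.IsSteinerSystem 5 8 Cfsg.octads :=
    Cfsg.Agent.helper28.GolayGen.steiner hG.card Cfsg.golayCode hG.dim hG.orth hG.min
  obtain ⟨-, -, k2, -, k4, -⟩ := Cfsg.Agent.helper28.Design.s5824_set hG.card hS o ho s hs
  exact ⟨k2, k4⟩

end Cfsg.Agent.S1555
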