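import Mathlib
import Cfsg.Statements.S1560
import Cfsg.Agent.Lib_helper2_M24e

set_option autoImplicit false
open scoped Pointwise
open Cfsg

namespace Cfsg.Agent.S1560

open Cfsg.Agent.helper2

theorem result (d : Finset Cfsg.GolayPt) (hd : d ∈ Cfsg.dodecads) : (∀ d' ∈ Cfsg.dodecads, d' ≠ d → (d ∩ d').card = 0 ∨ (d ∩ d').card = 4 ∨ (d ∩ d').card = 6 ∨ (d ∩ d').card = 8) ∧ {d' : Finset Cfsg.GolayPt | d' ∈ Cfsg.dodecads ∧ (d ∩ d').card = 4}.ncard = 495 ∧ {d' : Finset Cfsg.GolayPt | d' ∈ Cfsg.dodecads ∧ (d ∩ d').card = 6}.ncard = 1584 ∧ {d' : Finset Cfsg.GolayPt | d' ∈ Cfsg.dodecads ∧ (d ∩ d').card = 8}.ncard = 495 := by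
  refine ⟨fun d' hd' hne => Golay.dodecad_inter_cases hd hd' hne, ?_, ?_, ?_⟩
  · rw [Golay.inter_count hd, Golay.inter_count_d0 4 (by norm_num), Golay.ixd_count4]
  · rw [Golay.inter_count hd, Golay.inter_count_d0 6 (by norm_num), Golay.ixd_count6]
  · rw [Golay.inter_count hd, Golay.inter_count_d0 8 (by norm_num), Golay.ixd_count8]

end Cfsg.Agent.S1560
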