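import Mathlib
import Cfsg.Statements.S1562
import Cfsg.Agent.Lib_helper2_M24r

set_option autoImplicit false
open scoped Pointwise
open Cfsg

namespace Cfsg.Agent.S1562

open Cfsg.Agent.helper2

open Cfsg.Agent.helper2.Golay Cfsg.Agent.helper27


theorem result (T : Finset Cfsg.GolayPt) (hT : T.card = 3) : {U : Finset Cfsg.GolayPt | U.card = 3 ∧ Disjoint T U ∧ (∃ o ∈ Cfsg.octads, T ∪ U ⊆ o)}.ncard = 210 ∧ {U : Finset Cfsg.GolayPt | U.card = 3 ∧ Disjoint T U ∧ ¬ (∃ o ∈ Cfsg.octads, T ∪ U ⊆ o)}.ncard = 1120 ∧ ∀ U U' : Finset Cfsg.GolayPt, U.card = 3 → U'.card = 3 → Disjoint T U → Disjoint T U' → ((∃ o ∈ Cfsg.octads, T ∪ U ⊆ o) ↔ (∃ o ∈ Cfsg.octads, T ∪ U' ⊆ o)) → ∃ g : Equiv.Perm Cfsg.GolayPt, g ∈ Cfsg.M24 ∧ g • T = T ∧ g • U = U' := by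
  refine ⟨?_, ?_, ?_⟩
  · rw [← count3_4, ← count3 hT 4]
    congr 1
    ext U
    rw [Set.mem_ofPred_eq, Set.mem_ofPred_eq, cl3_eq_four hT]
  · rw [← count3_5, ← count3 hT 5]
    congr 1
    ext U
    rw [Set.mem_ofPred_eq, Set.mem_ofPred_eq, cl3_eq_five hT]
  · intro U U' hU hU' hd hd' hiff
    have hcl : cl3 T U = cl3 T U' := by
      by_cases h1 : ∃ o ∈ octads, T ∪ U ⊆ o
      · rw [(cl3_eq_four hT).mpr ⟨hd, h1⟩, (cl3_eq_four hT).mpr ⟨hd', hiff.mp h1⟩]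
      · rw [(cl3_eq_five hT).mpr ⟨hd, h1⟩,
          (cl3_eq_five hT).mpr ⟨hd', fun hc => h1 (hiff.mpr hc)⟩]
    exact trans3 hT hU hU' hcl

end Cfsg.Agent.S1562
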