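import Mathlib
import Cfsg.Statements.S1563
import Cfsg.Agent.Lib_helper2_M24p
import Cfsg.Agent.Lib_helper2_Coatom

set_option autoImplicit false
open scoped Pointwise
open Cfsg

namespace Cfsg.Agent.S1563

open Cfsg.Agent.helper2

open Cfsg.Agent.helper2.Golay Cfsg.Agent.helper27

def g2s : List (List ℕ × List ℕ) := [
  ([23, 12, 18, 9, 2, 20, 17, 16, 6, 13, 4, 7, 10, 1, 19, 3, 8, 21, 15, 22, 5, 14, 11, 0], [23, 13, 4, 15, 10, 20, 8, 11, 16, 3, 12, 22, 1, 9, 21, 18, 7, 6, 2, 14, 5, 17, 19, 0]),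
  ([0, 6, 18, 8, 9, 19, 12, 15, 5, 17, 21, 20, 1, 14, 16, 3, 2, 4, 22, 7, 11, 10, 13, 23], [0, 12, 16, 15, 17, 8, 1, 19, 3, 4, 21, 20, 6, 22, 13, 7, 14, 9, 2, 5, 11, 10, 18, 23])]

set_option maxRecDepth 1000000 in
def t2s : List (List (ℕ × ℕ × ℕ)) := [
  [
    (6, 0, 0), (266240, 0, 0), (262208, 0, 1), (33792, 1, 0), (4194306, 1, 1), (163840, 2, 0), (4198400, 2, 1), (24, 3, 0),
    (2097160, 3, 1), (6144, 4, 0), (8256, 4, 1), (3072, 6, 0), (8194, 6, 1), (516, 7, 0), (768, 7, 1), (16896, 8, 0),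
    (1280, 8, 1), (1152, 9, 0), (1048578, 9, 1), (131074, 10, 0), (20480, 10, 1), (144, 11, 0), (3145728, 11, 1), (4098, 12, 0),
    (16448, 12, 1), (270336, 13, 0), (393216, 13, 1), (131104, 14, 1), (532480, 15, 0), (196608, 15, 1), (80, 16, 0), (2097184, 16, 1),
    (65552, 17, 0), (2129920, 17, 1), (4128, 18, 0), (2112, 18, 1), (2101248, 19, 0), (525312, 20, 0), (65538, 20, 1), (65540, 21, 0),
    (33280, 21, 1), (16416, 22, 0), (5120, 23, 0), (66, 23, 1), (655360, 24, 0), (69632, 24, 1), (32770, 25, 0), (4210688, 25, 1),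
    (4194320, 26, 1), (524304, 27, 1), (16512, 28, 1), (2097408, 29, 0), (20, 29, 1), (131076, 30, 0), (4608, 30, 1), (1064960, 31, 0),
    (260, 32, 0), (16392, 33, 0), (1032, 33, 1), (1049600, 34, 0), (524290, 34, 1), (131200, 35, 0), (1052672, 35, 1), (17408, 36, 0),
    (1026, 36, 1), (2097280, 37, 1), (4352, 38, 0), (68, 38, 1), (262400, 39, 0), (262148, 39, 1), (8200, 40, 0), (131080, 40, 1),
    (1572864, 41, 0), (589824, 41, 1), (1040, 42, 0), (2097154, 42, 1), (135168, 43, 0), (4160, 43, 1), (6291456, 44, 0), (4104, 46, 0),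
    (72, 46, 1), (526336, 47, 0), (73728, 47, 1), (2052, 48, 0), (8704, 48, 1), (4194308, 49, 0), (640, 49, 1), (98304, 50, 1),
    (1056, 51, 1), (262656, 52, 1), (2359296, 53, 0), (262160, 53, 1), (9216, 54, 0), (524320, 55, 0), (67584, 55, 1), (262176, 56, 1),
    (524800, 57, 0), (65792, 57, 1), (528, 58, 0), (48, 59, 0), (2099200, 59, 1), (192, 60, 1), (2162688, 61, 0), (32784, 61, 1),
    (2050, 62, 1), (4112, 64, 0), (2097216, 64, 1), (81920, 65, 0), (1088, 66, 0), (34, 66, 1), (32832, 68, 0), (4194336, 68, 1),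
    (294912, 69, 0), (4456448, 69, 1), (514, 70, 0), (16640, 70, 1), (2097664, 71, 0), (272, 71, 1), (2176, 72, 1), (4194560, 73, 0),
    (132, 73, 1), (2098176, 76, 0), (18, 76, 1), (132096, 77, 0), (18432, 78, 0), (1536, 79, 0), (258, 79, 1), (131584, 80, 0),
    (4194432, 81, 0), (1048704, 81, 1), (16388, 82, 1), (262272, 83, 0), (1310720, 83, 1), (147456, 84, 1), (264192, 85, 0), (264, 87, 0),
    (12, 87, 1), (1048592, 88, 0), (2621440, 88, 1), (40960, 89, 0), (4325376, 89, 1), (49152, 90, 0), (4195328, 90, 1), (32772, 91, 0),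
    (4194816, 91, 1), (2113536, 92, 1), (5242880, 93, 0), (524416, 93, 1), (384, 94, 0), (1048580, 94, 1), (1081344, 95, 0), (4718592, 95, 1),
    (4202496, 96, 0), (320, 97, 0), (36, 97, 1), (8196, 98, 0), (36864, 101, 1), (1028, 102, 1), (520, 103, 1), (4224, 104, 0),
    (1048640, 104, 1), (524544, 107, 0), (131088, 108, 0), (524352, 109, 1), (1050624, 111, 0), (32776, 112, 0), (4194312, 112, 1), (34816, 113, 0),
    (12288, 114, 0), (131136, 114, 1), (65568, 115, 1), (24576, 116, 0), (544, 117, 1), (65664, 118, 0), (8224, 119, 1), (327680, 120, 0),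
    (16400, 121, 0), (4100, 122, 0), (576, 122, 1), (2097168, 123, 0), (1114112, 124, 1), (8208, 125, 0), (2228224, 125, 1), (96, 126, 1),
    (2105344, 127, 0), (786432, 130, 0), (4227072, 131, 1), (32800, 132, 0), (4196352, 132, 1), (32896, 134, 0), (288, 135, 1), (2560, 137, 1),
    (10, 139, 0), (524296, 141, 0), (65544, 141, 1), (2064, 142, 0), (262152, 143, 0), (10240, 144, 0), (139264, 144, 1), (540672, 145, 0),
    (66560, 145, 1), (2080, 146, 0), (4259840, 147, 0), (65600, 148, 0), (40, 150, 0), (2056, 150, 1), (8320, 151, 1), (262146, 155, 0),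
    (278528, 155, 1), (131328, 158, 1), (4194368, 161, 0), (160, 161, 1), (2097156, 162, 0), (8448, 166, 1), (136, 167, 0), (1048584, 167, 1),
    (16386, 168, 1), (1048832, 170, 0), (524292, 170, 1), (1056768, 172, 0), (33024, 175, 0), (66048, 176, 1), (263168, 177, 0), (1179648, 183, 0),
    (528384, 183, 1), (1049088, 195, 1), (130, 197, 0), (2304, 202, 0), (557056, 208, 0), (133120, 210, 0), (1048608, 227, 1)],
  [
    (3, 0, 0), (8392704, 0, 0), (65, 0, 1), (1025, 1, 0), (8388610, 1, 1), (8519680, 2, 0), (4097, 2, 1), (8388624, 3, 0),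
    (2097153, 3, 1), (8388672, 4, 1), (8389632, 6, 0), (5, 7, 0), (8389120, 7, 1), (8404992, 8, 0), (131073, 9, 0), (17, 10, 0),
    (10485760, 10, 1), (8650752, 11, 0), (262145, 11, 1), (8193, 12, 0), (524289, 13, 0), (8454144, 13, 1), (8388612, 15, 0), (513, 15, 1),
    (16385, 16, 0), (32769, 17, 0), (12582912, 17, 1), (8421376, 18, 0), (4194305, 18, 1), (129, 20, 1), (257, 21, 0), (8396800, 23, 0),
    (8912896, 24, 0), (65537, 24, 1), (8388616, 25, 0), (9, 25, 1), (2049, 26, 0), (8390656, 28, 0), (33, 30, 1), (8388736, 32, 1),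
    (8388864, 33, 0), (1048577, 36, 1), (9437184, 37, 1), (8388640, 40, 1)],
  [
    (8388609, 0, 0)]]

/-- The base 2-set `{pt 23, pt 0}` as a mask. -/
def s0m : ℕ := 2 ^ 23 + 2 ^ 0

def cls2 (a : ℕ) : ℕ := wt (s0m &&& a)

theorem g2s_ok : cfgGensOK [] [s0m] g2s = true := by decide +kernel

theorem t2s_ok : t2s.all (treeOK g2s) = true := by decide +kernel

theorem t2s_all : ∀ a ∈ twoSets, cls2 a < t2s.length →
    (t2s.getD (cls2 a) []).any (fun e => e.1 == a) = true := by decide +kernel

theorem count1 : (twoSets.filter (fun a => cls2 a = 1)).toFinset.card = 44 := by decide +kernel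

theorem count0 : (twoSets.filter (fun a => cls2 a = 0)).toFinset.card = 231 := by decide +kernel

theorem count2 : (twoSets.filter (fun a => cls2 a = 2)).toFinset.card = 1 := by decide +kernel

theorem base_mem (i : ℕ) (t : Finset GolayPt) :
    (t.card = 2 ∧ (pts s0m ∩ t).card = i) ↔
      ∃ a ∈ twoSets.filter (fun a => cls2 a = i), t = pts a := by
  constructor
  · rintro ⟨ht, hc⟩
    obtain ⟨a, ha, rfl⟩ := exists_twoSet ht
    refine ⟨a, List.mem_filter.mpr ⟨ha, ?_⟩, rfl⟩
    rw [decide_eq_true_eq]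
    unfold cls2
    rw [← card_pts, pts_and]
    exact hc
  · rintro ⟨a, ha, rfl⟩
    rw [List.mem_filter, decide_eq_true_eq] at ha
    refine ⟨by rw [card_pts, twoSets_wt a ha.1], ?_⟩
    rw [← pts_and, card_pts]
    exact ha.2

theorem base_count (i : ℕ) :
    {t : Finset GolayPt | t.card = 2 ∧ (pts s0m ∩ t).card = i}.ncard
      = (twoSets.filter (fun a => cls2 a = i)).toFinset.card :=
  ncard_maskList _ (fun a ha => twoSets_lt a (List.mem_filter.mp ha).1) _ (base_mem i)

theorem base_trans {t t' : Finset GolayPt} (ht : t.card = 2) (ht' : t'.card = 2)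
    (h : (pts s0m ∩ t).card = (pts s0m ∩ t').card) :
    ∃ g ∈ cfgStab [] [s0m], g • t = t' := by
  obtain ⟨a, ha, rfl⟩ := exists_twoSet ht
  obtain ⟨a', ha', rfl⟩ := exists_twoSet ht'
  rw [← pts_and, ← pts_and, card_pts, card_pts] at h
  have hlt : cls2 a < t2s.length := by
    have h1 : wt (s0m &&& a) ≤ 2 := by
      have := Finset.card_le_card (Finset.inter_subset_right (s₁ := pts s0m) (s₂ := pts a))
      rw [← pts_and, card_pts, card_pts, twoSets_wt a ha] at this
      exact this
    have h2 : t2s.length = 3 := by decide +kernel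
    unfold cls2
    omega
  exact rank_reach_list _ g2s (cfgGens_mem g2s_ok) t2s t2s_ok cls2 twoSets t2s_all ha ha' hlt h

/-- The orbit of a 2-set under `M24` consists of all 2-sets. -/
theorem orbit_two {s : Finset GolayPt} (hs : s.card = 2) (t : Finset GolayPt) :
    t ∈ MulAction.orbit M24 s ↔ t.card = 2 := by
  constructor
  · rintro ⟨g, rfl⟩
    show ((g : Equiv.Perm GolayPt) • s).card = 2
    rw [Finset.card_smul_finset, hs]
  · intro ht
    obtain ⟨h1, hh1, h1s⟩ := kset_to_base (by norm_num) hs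
    obtain ⟨h2, hh2, h2t⟩ := kset_to_base (by norm_num) ht
    refine ⟨⟨h2⁻¹ * h1, Subgroup.mul_mem _ (Subgroup.inv_mem _ hh2) hh1⟩, ?_⟩
    show (h2⁻¹ * h1) • s = t
    rw [mul_smul, h1s, ← h2t, inv_smul_smul]


theorem result (s : Finset Cfsg.GolayPt) (hs : s.card = 2) : IsCoatom (MulAction.stabilizer Cfsg.M24 s) := by
  obtain ⟨h, hh, hhs⟩ := kset_to_base (by norm_num) hs
  rw [baseSet_two] at hhs
  have hhs' : h • s = pts s0m := hhs
  have key : ∀ i : ℕ, ∀ t : Finset GolayPt,
      (t ∈ {t : Finset GolayPt | t ∈ MulAction.orbit M24 s ∧ (s ∩ t).card = i}) ↔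
      h • t ∈ {t : Finset GolayPt | t.card = 2 ∧ (pts s0m ∩ t).card = i} := by
    intro i t
    rw [Set.mem_ofPred_eq, Set.mem_ofPred_eq, orbit_two hs, ← hhs', card_smul_inter,
      Finset.card_smul_finset]
  have hss : (s ∩ s).card = 2 := by rw [Finset.inter_self, hs]
  apply isCoatom_stabilizer_of_suborbits s (fun t => (s ∩ t).card) {2, 1, 0}
    (fun i => if i = 2 then 1 else if i = 1 then 44 else 231)
  · intro t ht
    rw [orbit_two hs] at ht
    have h1 : (s ∩ t).card ≤ 2 := by
      have := Finset.card_le_card (Finset.inter_subset_left (s₁ := s) (s₂ := t))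
      omega
    simp only [Finset.mem_insert, Finset.mem_singleton]
    omega
  · intro i hi
    rw [ncard_smul_eq h _ _ (key i), base_count]
    simp only [Finset.mem_insert, Finset.mem_singleton] at hi
    rcases hi with rfl | rfl | rfl
    · exact count2
    · exact count1
    · exact count0
  · intro t ht t' ht' hc
    rw [orbit_two hs] at ht ht'
    have h1 : (pts s0m ∩ h • t).card = (pts s0m ∩ h • t').card := by
      rw [← hhs', card_smul_inter, card_smul_inter]
      exact hc
    obtain ⟨g0, hg0, hg0t⟩ := base_trans (by rw [Finset.card_smul_finset]; exact ht)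
      (by rw [Finset.card_smul_finset]; exact ht') h1
    obtain ⟨c1, -, c3, c4⟩ := conj_cfg hh hg0
    refine ⟨⟨h⁻¹ * g0 * h, c1⟩, ?_, c4 t t' hg0t⟩
    rw [MulAction.mem_stabilizer_iff]
    exact c3 s0m (List.mem_singleton.mpr rfl) s hhs'
  · rw [hss]
    decide
  · obtain ⟨x, y, hxy, rfl⟩ := Finset.card_eq_two.mp hs
    obtain ⟨z, hz⟩ : ∃ z : GolayPt, z ≠ x ∧ z ≠ y := by
      by_contra hcon
      push Not at hcon
      have : (Finset.univ : Finset GolayPt) ⊆ {x, y} := by
        intro z _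
        rw [Finset.mem_insert, Finset.mem_singleton]
        by_cases hzx : z = x
        · exact Or.inl hzx
        · exact Or.inr (hcon z hzx)
      have := Finset.card_le_card this
      rw [Finset.card_univ, Finset.card_pair hxy] at this
      revert this
      decide
    refine ⟨{x, z}, (orbit_two hs _).mpr (Finset.card_pair hz.1.symm), ?_⟩
    intro heq
    have : z ∈ ({x, y} : Finset GolayPt) := by
      rw [← heq]
      exact Finset.mem_insert_of_mem (Finset.mem_singleton_self z)
    rw [Finset.mem_insert, Finset.mem_singleton] at this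
    rcases this with h1 | h1
    · exact hz.1 h1
    · exact hz.2 h1

end Cfsg.Agent.S1563
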