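import Mathlib
import Cfsg.Statements.S1564
import Cfsg.Agent.Lib_helper2_M24r
import Cfsg.Agent.Lib_helper2_Coatom

set_option autoImplicit false
open scoped Pointwise
open Cfsg

namespace Cfsg.Agent.S1564

open Cfsg.Agent.helper2

open Cfsg.Agent.helper2.Golay Cfsg.Agent.helper27

theorem orbit_three {s : Finset GolayPt} (hs : s.card = 3) (t : Finset GolayPt) :
    t ∈ MulAction.orbit M24 s ↔ t.card = 3 := by
  constructor
  · rintro ⟨g, rfl⟩
    show ((g : Equiv.Perm GolayPt) • s).card = 3
    rw [Finset.card_smul_finset, hs]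
  · intro ht
    obtain ⟨h1, hh1, h1s⟩ := kset_to_base (by norm_num) hs
    obtain ⟨h2, hh2, h2t⟩ := kset_to_base (by norm_num) ht
    refine ⟨⟨h2⁻¹ * h1, Subgroup.mul_mem _ (Subgroup.inv_mem _ hh2) hh1⟩, ?_⟩
    show (h2⁻¹ * h1) • s = t
    rw [mul_smul, h1s, ← h2t, inv_smul_smul]

theorem cl3_mem {s t : Finset GolayPt} (hs : s.card = 3) :
    cl3 s t ∈ ({3, 2, 1, 4, 5} : Finset ℕ) := by
  unfold cl3
  have hle : (s ∩ t).card ≤ 3 := by
    have := Finset.card_le_card (Finset.inter_subset_left (s₁ := s) (s₂ := t))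
    omega
  simp only [Finset.mem_insert, Finset.mem_singleton]
  split_ifs <;> omega

theorem cl3_self {s : Finset GolayPt} (hs : s.card = 3) : cl3 s s = 3 := by
  unfold cl3
  rw [Finset.inter_self, hs, if_pos (by norm_num)]

theorem exists_other {s : Finset GolayPt} (hs : s.card = 3) :
    ∃ t : Finset GolayPt, t.card = 3 ∧ t ≠ s := by
  obtain ⟨x, y, z, hxy, hxz, hyz, rfl⟩ := Finset.card_eq_three.mp hs
  obtain ⟨w, hw⟩ : ∃ w : GolayPt, w ∉ ({x, y, z} : Finset GolayPt) := by
    by_contra hcon
    push Not at hcon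
    have : (Finset.univ : Finset GolayPt) ⊆ {x, y, z} := fun w _ => hcon w
    have := Finset.card_le_card this
    rw [Finset.card_univ, hs] at this
    revert this
    decide
  refine ⟨{x, y, w}, ?_, ?_⟩
  · rw [Finset.mem_insert, Finset.mem_insert, Finset.mem_singleton] at hw
    push Not at hw
    rw [Finset.card_eq_three]
    exact ⟨x, y, w, hxy, hw.1.symm, hw.2.1.symm, rfl⟩
  · intro heq
    apply hw
    rw [← heq]
    simp


theorem result (s : Finset Cfsg.GolayPt) (hs : s.card = 3) : IsCoatom (MulAction.stabilizer Cfsg.M24 s) := by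
  apply isCoatom_stabilizer_of_suborbits s (fun t => cl3 s t) {3, 2, 1, 4, 5}
    (fun i => if i = 3 then 1 else if i = 2 then 63 else if i = 1 then 630
      else if i = 4 then 210 else 1120)
  · intro t _
    exact cl3_mem hs
  · intro i hi
    have : {x : Finset GolayPt | x ∈ MulAction.orbit M24 s ∧ cl3 s x = i}
        = {U : Finset GolayPt | U.card = 3 ∧ cl3 s U = i} := by
      ext U
      rw [Set.mem_ofPred_eq, Set.mem_ofPred_eq, orbit_three hs]
    rw [this, count3 hs i]
    simp only [Finset.mem_insert, Finset.mem_singleton] at hi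
    rcases hi with rfl | rfl | rfl | rfl | rfl
    · exact count3_3
    · exact count3_2
    · exact count3_1
    · exact count3_4
    · exact count3_5
  · intro t ht t' ht' hc
    rw [orbit_three hs] at ht ht'
    obtain ⟨g, hg, hgs, hgt⟩ := trans3 hs ht ht' hc
    exact ⟨⟨g, hg⟩, MulAction.mem_stabilizer_iff.mpr hgs, hgt⟩
  · rw [cl3_self hs]
    decide
  · obtain ⟨t, ht, hne⟩ := exists_other hs
    exact ⟨t, (orbit_three hs t).mpr ht, hne⟩

end Cfsg.Agent.S1564
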