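import Mathlib
import Cfsg.Statements.S1565
import Cfsg.Agent.Lib_helper2_M24i

set_option autoImplicit false
open Cfsg

namespace Cfsg.Agent.S1565

open Cfsg.Agent.helper2 Cfsg.Agent.helper2.Golay
open scoped Pointwise

/-- The part of the `L`-orbit of `o` meeting `o` in `j` points is empty or the whole class. -/
theorem dichotomy {o : Finset GolayPt} (ho : o ∈ octads) (L : Subgroup M24)
    (hKL : MulAction.stabilizer M24 o ≤ L) (j : ℕ) :
    (∀ o' ∈ octClass o j, o' ∉ MulAction.orbit L o) ∨
      (∀ o' ∈ octClass o j, o' ∈ MulAction.orbit L o) := by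
  by_cases h : ∃ o1 ∈ octClass o j, o1 ∈ MulAction.orbit L o
  · right
    obtain ⟨o1, ho1, ⟨l, hl⟩⟩ := h
    intro o2 ho2
    rw [mem_octClass] at ho1 ho2
    obtain ⟨s, hs, hso, hs12⟩ := octad_stab_transitive ho ho1.1 ho2.1 (ho1.2.trans ho2.2.symm)
    have hsK : (⟨s, hs⟩ : M24) ∈ MulAction.stabilizer M24 o := MulAction.mem_stabilizer_iff.mpr hso
    refine ⟨⟨⟨s, hs⟩, hKL hsK⟩ * l, ?_⟩
    show (⟨⟨s, hs⟩, hKL hsK⟩ * l : L) • o = o2
    rw [mul_smul]
    have hl' : l • o = o1 := hl
    rw [hl']
    exact hs12
  · left
    intro o' ho' hcon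
    exact h ⟨o', ho', hcon⟩

theorem arith (N c0 c2 c4 k q : ℕ) (hfib : N = c0 + (c2 + (c4 + 1)))
    (hq : 244823040 = N * 322560 * q) (h0 : c0 = 0 ∨ c0 = 30) (h2 : c2 = 0 ∨ c2 = 448)
    (h4 : c4 = 0 ∨ c4 = 280) (hk : k = 0 ∨ k = 2 ∨ k = 4) (hn0 : k = 0 → c0 = 30)
    (hn2 : k = 2 → c2 = 448) (hn4 : k = 4 → c4 = 280) : N = 759 := by
  rcases h0 with rfl | rfl <;> rcases h2 with rfl | rfl <;> rcases h4 with rfl | rfl <;>
    subst hfib <;> norm_num at hq ⊢ <;> omega

/-- The orbit as a finset. -/
noncomputable def orbF (L : Subgroup M24) (o : Finset GolayPt) : Finset (Finset GolayPt) :=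
  @Finset.filter _ (fun o' => o' ∈ MulAction.orbit L o) (Classical.decPred _) (weightFinset 8)

theorem mem_orbF {L : Subgroup M24} {o o' : Finset GolayPt} :
    o' ∈ orbF L o ↔ o' ∈ weightFinset 8 ∧ o' ∈ MulAction.orbit L o := by
  unfold orbF
  exact @Finset.mem_filter _ (fun o' => o' ∈ MulAction.orbit L o) (Classical.decPred _)
    (weightFinset 8) o'

theorem result (o : Finset Cfsg.GolayPt) (ho : o ∈ Cfsg.octads) : IsCoatom (MulAction.stabilizer Cfsg.M24 o) := by
  classical
  have hcardK := card_stab_octad ho
  constructor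
  · intro htop
    rw [htop, Subgroup.card_top, card_M24] at hcardK
    norm_num at hcardK
  · intro L hKL
    have hle : MulAction.stabilizer M24 o ≤ L := le_of_lt hKL
    obtain ⟨g, hgL, hgK⟩ := SetLike.exists_of_lt hKL
    -- the orbit as a finset
    set Orb : Finset (Finset GolayPt) := orbF L o with hOrb
    have horb : MulAction.orbit L o = ↑Orb := by
      ext o'
      rw [Finset.mem_coe, mem_orbF]
      constructor
      · intro h
        refine ⟨?_, h⟩
        obtain ⟨l, rfl⟩ := h
        have : ((l : M24) : Equiv.Perm GolayPt) • o ∈ octads := smul_mem_octads' (l : M24).2 ho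
        rw [octads_eq] at this
        exact this
      · exact fun h => h.2
    -- stabiliser in L
    have hstab : Nat.card (MulAction.stabilizer L o) = 322560 := by
      rw [← hcardK]
      apply Nat.card_congr
      refine Equiv.ofBijective (fun x => ⟨x.1.1, ?_⟩) ⟨?_, ?_⟩
      · have := x.2
        rw [MulAction.mem_stabilizer_iff] at this ⊢
        exact this
      · intro x y hxy
        have h' : (x.1 : M24) = y.1 := by simpa using congrArg Subtype.val hxy
        exact Subtype.ext (Subtype.ext h')
      · rintro ⟨k, hk⟩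
        refine ⟨⟨⟨k, hle hk⟩, ?_⟩, rfl⟩
        rw [MulAction.mem_stabilizer_iff] at hk ⊢
        exact hk
    have hL : Orb.card * 322560 = Nat.card L := by
      have h1 := MulAction.index_stabilizer L o
      rw [horb, Set.ncard_coe_finset] at h1
      have h2 := Subgroup.index_mul_card (MulAction.stabilizer L o)
      rw [h1, hstab] at h2
      exact h2
    obtain ⟨q, hq⟩ : Nat.card L ∣ Nat.card M24 := Subgroup.card_subgroup_dvd_card L
    rw [card_M24, ← hL] at hq
    -- fiberwise decomposition
    have hfib : Orb.card = ∑ j ∈ ({0, 2, 4, 8} : Finset ℕ),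
        (Orb.filter (fun o' => (o ∩ o').card = j)).card := by
      apply Finset.card_eq_sum_card_fiberwise
      intro o' ho'
      have ho'8 : o' ∈ octads := by
        rw [octads_eq]
        exact (mem_orbF.mp ho').1
      have := octads_inter_cases ho ho'8
      simp only [Finset.coe_insert, Finset.coe_singleton, Set.mem_insert_iff,
        Set.mem_singleton_iff]
      exact this
    have hpart : ∀ j, (Orb.filter (fun o' => (o ∩ o').card = j)).card = 0 ∨
        ((Orb.filter (fun o' => (o ∩ o').card = j)).card = (octClass o j).card ∧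
          ∀ o' ∈ octClass o j, o' ∈ MulAction.orbit L o) := by
      intro j
      rcases dichotomy ho L hle j with h | h
      · left
        rw [Finset.card_eq_zero, Finset.filter_eq_empty_iff]
        intro o' ho' hj
        have h1 := mem_orbF.mp ho'
        have h1' : o' ∈ octads := by rw [octads_eq]; exact h1.1
        exact h o' (mem_octClass.mpr ⟨h1', hj⟩) h1.2
      · right
        refine ⟨?_, h⟩
        have hEq : Orb.filter (fun o' => (o ∩ o').card = j) = octClass o j := by
          ext o'
          rw [Finset.mem_filter, mem_orbF, mem_octClass, octads_eq, Finset.mem_coe]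
          constructor
          · rintro ⟨⟨h1, _⟩, h3⟩
            exact ⟨h1, h3⟩
          · rintro ⟨h1, h3⟩
            have h1' : o' ∈ octads := by rw [octads_eq]; exact h1
            exact ⟨⟨h1, h o' (mem_octClass.mpr ⟨h1', h3⟩)⟩, h3⟩
        rw [hEq]
    -- o itself lies in the orbit, in class 8
    have ho_orb : o ∈ MulAction.orbit L o := MulAction.mem_orbit_self o
    have ho8 : o ∈ octClass o 8 := by
      rw [mem_octClass, Finset.inter_self]
      exact ⟨ho, octads_steiner.1 o ho⟩
    have h8 : (Orb.filter (fun o' => (o ∩ o').card = 8)).card = 1 := by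
      rcases hpart 8 with h | h
      · exfalso
        rw [Finset.card_eq_zero, Finset.filter_eq_empty_iff] at h
        apply h (x := o)
        · rw [← Finset.mem_coe, ← horb]
          exact ho_orb
        · exact (mem_octClass.mp ho8).2
      · rw [h.1, card_octClass8 ho]
    -- the image of o under g lies in another class
    have hg1 : ((g : Equiv.Perm GolayPt) • o) ∈ MulAction.orbit L o := ⟨⟨g, hgL⟩, rfl⟩
    have hg2 : (g : Equiv.Perm GolayPt) • o ≠ o := fun h => hgK (MulAction.mem_stabilizer_iff.mpr h)
    have hg3 : (g : Equiv.Perm GolayPt) • o ∈ octads := smul_mem_octads' g.2 ho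
    have hnot8 : (o ∩ (g : Equiv.Perm GolayPt) • o).card ≠ 8 := by
      intro h8'
      have hmem : (g : Equiv.Perm GolayPt) • o ∈ octClass o 8 := mem_octClass.mpr ⟨hg3, h8'⟩
      have hc := card_octClass8 ho
      rw [Finset.card_eq_one] at hc
      obtain ⟨a, ha⟩ := hc
      rw [ha, Finset.mem_singleton] at hmem ho8
      exact hg2 (hmem.trans ho8.symm)
    have hnonzero : ∀ j, (o ∩ (g : Equiv.Perm GolayPt) • o).card = j →
        (Orb.filter (fun o' => (o ∩ o').card = j)).card = (octClass o j).card := by
      intro j hj
      rcases hpart j with h | h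
      · exfalso
        rw [Finset.card_eq_zero, Finset.filter_eq_empty_iff] at h
        apply h (x := (g : Equiv.Perm GolayPt) • o)
        · rw [← Finset.mem_coe, ← horb]
          exact hg1
        · exact hj
      · exact h.1
    have hcases := octads_inter_cases ho hg3
    rw [Finset.sum_insert (by decide), Finset.sum_insert (by decide), Finset.sum_insert (by decide),
      Finset.sum_singleton, h8] at hfib
    have h759 : Orb.card = 759 := by
      apply arith _ _ _ _ (o ∩ (g : Equiv.Perm GolayPt) • o).card q hfib hq
      · rcases hpart 0 with h | h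
        · exact Or.inl h
        · exact Or.inr (h.1.trans (card_octClass0 ho))
      · rcases hpart 2 with h | h
        · exact Or.inl h
        · exact Or.inr (h.1.trans (card_octClass2 ho))
      · rcases hpart 4 with h | h
        · exact Or.inl h
        · exact Or.inr (h.1.trans (card_octClass4 ho))
      · rcases hcases with h | h | h | h
        · exact Or.inl h
        · exact Or.inr (Or.inl h)
        · exact Or.inr (Or.inr h)
        · exact absurd h hnot8
      · exact fun h => (hnonzero 0 h).trans (card_octClass0 ho)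
      · exact fun h => (hnonzero 2 h).trans (card_octClass2 ho)
      · exact fun h => (hnonzero 4 h).trans (card_octClass4 ho)
    apply Subgroup.eq_top_of_card_eq
    rw [← hL, h759, card_M24]

end Cfsg.Agent.S1565
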