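import Mathlib
import Cfsg.Statements.S1566
import Cfsg.Agent.Lib_helper2_M24j

set_option autoImplicit false
open Cfsg

namespace Cfsg.Agent.S1566

open Cfsg.Agent.helper2 Cfsg.Agent.helper2.Golay
open scoped Pointwise

theorem dodecads_eq : dodecads = ↑(weightFinset 12) := wordsOfWeight_eq 12

/-- The dodecads meeting `d` in `k` points. -/
noncomputable def dodClass (d : Finset GolayPt) (k : ℕ) : Finset (Finset GolayPt) :=
  (weightFinset 12).filter (fun d' => (d ∩ d').card = k)

theorem mem_dodClass {d d' : Finset GolayPt} {k : ℕ} :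
    d' ∈ dodClass d k ↔ d' ∈ dodecads ∧ (d ∩ d').card = k := by
  unfold dodClass
  rw [Finset.mem_filter, dodecads_eq, Finset.mem_coe]

theorem card_dodClass {d : Finset GolayPt} (hd : d ∈ dodecads) (k : ℕ) (hk : k ≠ 99) :
    (dodClass d k).card = ((Finset.range 4096).filter (fun m => ixd m = k)).card := by
  rw [← inter_count_d0 k hk, ← inter_count hd k, ← Set.ncard_coe_finset]
  congr 1
  ext d'
  rw [Finset.mem_coe, mem_dodClass]
  rfl

theorem class12 {d d' : Finset GolayPt} (hd : d ∈ dodecads) (hd' : d' ∈ dodecads)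
    (h : (d ∩ d').card = 12) : d' = d := by
  have h1 : d ∩ d' = d := Finset.eq_of_subset_of_card_le Finset.inter_subset_left
    (by rw [h, card_of_mem_dodecads hd])
  have h2 : d ∩ d' = d' := Finset.eq_of_subset_of_card_le Finset.inter_subset_right
    (by rw [h, card_of_mem_dodecads hd'])
  rw [← h2, h1]

theorem class0 {d d' : Finset GolayPt} (hd : d ∈ dodecads) (hd' : d' ∈ dodecads)
    (h : (d ∩ d').card = 0) : d' = dᶜ := by
  have h1 : d' ⊆ dᶜ := by
    intro p hp
    rw [Finset.mem_compl]
    intro hpd
    have : p ∈ d ∩ d' := Finset.mem_inter.mpr ⟨hpd, hp⟩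
    rw [Finset.card_eq_zero] at h
    rw [h] at this
    exact absurd this (Finset.notMem_empty p)
  apply Finset.eq_of_subset_of_card_le h1
  rw [card_of_mem_dodecads hd', card_of_mem_dodecads (compl_mem_dodecads hd)]

theorem smul_pair (g : Equiv.Perm GolayPt) (d : Finset GolayPt) :
    g • ({d, dᶜ} : Finset (Finset GolayPt)) = {g • d, (g • d)ᶜ} := by
  rw [Finset.smul_finset_insert, Finset.smul_finset_singleton, smul_compl]

theorem pair_eq_iff {a b : Finset GolayPt} : ({a, aᶜ} : Finset (Finset GolayPt)) = {b, bᶜ} ↔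
    a = b ∨ a = bᶜ := by
  constructor
  · intro h
    have : a ∈ ({b, bᶜ} : Finset (Finset GolayPt)) := by
      rw [← h]
      exact Finset.mem_insert_self _ _
    rw [Finset.mem_insert, Finset.mem_singleton] at this
    exact this
  · rintro (rfl | rfl)
    · rfl
    · rw [compl_compl, Finset.pair_comm]

theorem mem_stab_pair {d : Finset GolayPt} {g : M24} :
    g ∈ MulAction.stabilizer M24 ({d, dᶜ} : Finset (Finset GolayPt)) ↔
      (g : Equiv.Perm GolayPt) • d = d ∨ (g : Equiv.Perm GolayPt) • d = dᶜ := by
  rw [MulAction.mem_stabilizer_iff]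
  show (g : Equiv.Perm GolayPt) • ({d, dᶜ} : Finset (Finset GolayPt)) = {d, dᶜ} ↔ _
  rw [smul_pair, pair_eq_iff]

/-- The part of the `L`-orbit of `d` meeting `d` in `j` points is empty or the whole class. -/
theorem dichotomy {d : Finset GolayPt} (hd : d ∈ dodecads) (L : Subgroup M24)
    (hKL : MulAction.stabilizer M24 d ≤ L) (j : ℕ) :
    (∀ d' ∈ dodClass d j, d' ∉ MulAction.orbit L d) ∨
      (∀ d' ∈ dodClass d j, d' ∈ MulAction.orbit L d) := by
  by_cases h : ∃ o1 ∈ dodClass d j, o1 ∈ MulAction.orbit L d
  · right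
    obtain ⟨o1, ho1, ⟨l, hl⟩⟩ := h
    intro o2 ho2
    rw [mem_dodClass] at ho1 ho2
    obtain ⟨s, hs, hso, hs12⟩ := dodecad_stab_transitive hd ho1.1 ho2.1 (ho1.2.trans ho2.2.symm)
    have hsK : (⟨s, hs⟩ : M24) ∈ MulAction.stabilizer M24 d := MulAction.mem_stabilizer_iff.mpr hso
    refine ⟨⟨⟨s, hs⟩, hKL hsK⟩ * l, ?_⟩
    show (⟨⟨s, hs⟩, hKL hsK⟩ * l : L) • d = o2
    rw [mul_smul]
    have hl' : l • d = o1 := hl
    rw [hl']
    exact hs12
  · left
    intro o' ho' hcon
    exact h ⟨o', ho', hcon⟩

theorem arith (N c4 c6 c8 k q : ℕ) (hfib : N = 1 + (c4 + (c6 + (c8 + 1))))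
    (hq : 244823040 = N * 95040 * q) (h4 : c4 = 0 ∨ c4 = 495) (h6 : c6 = 0 ∨ c6 = 1584)
    (h8 : c8 = 0 ∨ c8 = 495) (hk : k = 4 ∨ k = 6 ∨ k = 8) (hn4 : k = 4 → c4 = 495)
    (hn6 : k = 6 → c6 = 1584) (hn8 : k = 8 → c8 = 495) : N = 2576 := by
  rcases h4 with rfl | rfl <;> rcases h6 with rfl | rfl <;> rcases h8 with rfl | rfl <;>
    subst hfib <;> norm_num at hq ⊢ <;> omega

/-- The orbit as a finset. -/
noncomputable def orbF (L : Subgroup M24) (d : Finset GolayPt) : Finset (Finset GolayPt) :=
  @Finset.filter _ (fun o' => o' ∈ MulAction.orbit L d) (Classical.decPred _) (weightFinset 12)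

theorem mem_orbF {L : Subgroup M24} {d o' : Finset GolayPt} :
    o' ∈ orbF L d ↔ o' ∈ weightFinset 12 ∧ o' ∈ MulAction.orbit L d := by
  unfold orbF
  exact @Finset.mem_filter _ (fun o' => o' ∈ MulAction.orbit L d) (Classical.decPred _)
    (weightFinset 12) o'

theorem result (d : Finset Cfsg.GolayPt) (hd : d ∈ Cfsg.dodecads) : IsCoatom (MulAction.stabilizer Cfsg.M24 ({d, dᶜ} : Finset (Finset Cfsg.GolayPt))) := by
  classical
  have hcardD := card_stab_dodecad hd
  have hdc : dᶜ ∈ dodecads := compl_mem_dodecads hd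
  have hne_dc : dᶜ ≠ d := by
    intro h
    obtain ⟨p, hp⟩ : d.Nonempty := by
      rw [← Finset.card_pos, card_of_mem_dodecads hd]
      norm_num
    have : p ∈ dᶜ := by rw [h]; exact hp
    exact (Finset.mem_compl.mp this) hp
  -- the swap
  obtain ⟨s, hs, hsd⟩ := dodecads_transitive hd hdc
  have hDK : MulAction.stabilizer M24 d ≤
      MulAction.stabilizer M24 ({d, dᶜ} : Finset (Finset GolayPt)) := by
    intro g hg
    rw [mem_stab_pair]
    exact Or.inl (MulAction.mem_stabilizer_iff.mp hg)
  constructor
  · -- proper: an element moving d to a third dodecad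
    intro htop
    have hne6 : (dodClass d 6).Nonempty := Finset.card_pos.mp (by
      rw [card_dodClass hd 6 (by norm_num), ixd_count6]
      norm_num)
    obtain ⟨m, hm⟩ := hne6
    rw [mem_dodClass] at hm
    obtain ⟨g, hg, hgd⟩ := dodecads_transitive hd hm.1
    have hmem : (⟨g, hg⟩ : M24) ∈ MulAction.stabilizer M24 ({d, dᶜ} : Finset (Finset GolayPt)) := by
      rw [htop]
      exact Subgroup.mem_top _
    rw [mem_stab_pair] at hmem
    have h6 := hm.2
    rcases hmem with h | h
    · have : g • d = d := h
      rw [← hgd, this, Finset.inter_self, card_of_mem_dodecads hd] at h6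
      norm_num at h6
    · have : g • d = dᶜ := h
      rw [← hgd, this, Finset.inter_compl, Finset.card_empty] at h6
      norm_num at h6
  · intro L hKL
    have hle : MulAction.stabilizer M24 ({d, dᶜ} : Finset (Finset GolayPt)) ≤ L := le_of_lt hKL
    have hleD : MulAction.stabilizer M24 d ≤ L := hDK.trans hle
    obtain ⟨g, hgL, hgK⟩ := SetLike.exists_of_lt hKL
    set Orb : Finset (Finset GolayPt) := orbF L d with hOrb
    have horb : MulAction.orbit L d = ↑Orb := by
      ext o'
      rw [Finset.mem_coe, mem_orbF]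
      constructor
      · intro h
        refine ⟨?_, h⟩
        obtain ⟨l, rfl⟩ := h
        have : ((l : M24) : Equiv.Perm GolayPt) • d ∈ dodecads :=
          smul_mem_dodecads' (l : M24).2 hd
        rw [dodecads_eq] at this
        exact this
      · exact fun h => h.2
    have hstab : Nat.card (MulAction.stabilizer L d) = 95040 := by
      rw [← hcardD]
      apply Nat.card_congr
      refine Equiv.ofBijective (fun x => ⟨x.1.1, ?_⟩) ⟨?_, ?_⟩
      · have := x.2
        rw [MulAction.mem_stabilizer_iff] at this ⊢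
        exact this
      · intro x y hxy
        have h' : (x.1 : M24) = y.1 := by simpa using congrArg Subtype.val hxy
        exact Subtype.ext (Subtype.ext h')
      · rintro ⟨k, hk⟩
        refine ⟨⟨⟨k, hleD hk⟩, ?_⟩, rfl⟩
        rw [MulAction.mem_stabilizer_iff] at hk ⊢
        exact hk
    have hL : Orb.card * 95040 = Nat.card L := by
      have h1 := MulAction.index_stabilizer L d
      rw [horb, Set.ncard_coe_finset] at h1
      have h2 := Subgroup.index_mul_card (MulAction.stabilizer L d)
      rw [h1, hstab] at h2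
      exact h2
    obtain ⟨q, hq⟩ : Nat.card L ∣ Nat.card M24 := Subgroup.card_subgroup_dvd_card L
    rw [card_M24, ← hL] at hq
    have hcases5 : ∀ d' ∈ dodecads, (d ∩ d').card = 0 ∨ (d ∩ d').card = 4 ∨ (d ∩ d').card = 6 ∨
        (d ∩ d').card = 8 ∨ (d ∩ d').card = 12 := by
      intro d' hd'
      by_cases hdd : d' = d
      · right; right; right; right
        rw [hdd, Finset.inter_self, card_of_mem_dodecads hd]
      · rcases dodecad_inter_cases hd hd' hdd with h | h | h | h
        · exact Or.inl h
        · exact Or.inr (Or.inl h)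
        · exact Or.inr (Or.inr (Or.inl h))
        · exact Or.inr (Or.inr (Or.inr (Or.inl h)))
    have hfib : Orb.card = ∑ j ∈ ({0, 4, 6, 8, 12} : Finset ℕ),
        (Orb.filter (fun o' => (d ∩ o').card = j)).card := by
      apply Finset.card_eq_sum_card_fiberwise
      intro o' ho'
      have ho'8 : o' ∈ dodecads := by
        rw [dodecads_eq]
        exact (mem_orbF.mp ho').1
      have := hcases5 o' ho'8
      simp only [Finset.coe_insert, Finset.coe_singleton, Set.mem_insert_iff,
        Set.mem_singleton_iff]
      exact this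
    have hpart : ∀ j, (Orb.filter (fun o' => (d ∩ o').card = j)).card = 0 ∨
        ((Orb.filter (fun o' => (d ∩ o').card = j)).card = (dodClass d j).card ∧
          ∀ o' ∈ dodClass d j, o' ∈ MulAction.orbit L d) := by
      intro j
      rcases dichotomy hd L hleD j with h | h
      · left
        rw [Finset.card_eq_zero, Finset.filter_eq_empty_iff]
        intro o' ho' hj
        have h1 := mem_orbF.mp ho'
        have h1' : o' ∈ dodecads := by rw [dodecads_eq]; exact h1.1
        exact h o' (mem_dodClass.mpr ⟨h1', hj⟩) h1.2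
      · right
        refine ⟨?_, h⟩
        have hEq : Orb.filter (fun o' => (d ∩ o').card = j) = dodClass d j := by
          ext o'
          rw [Finset.mem_filter, mem_orbF, mem_dodClass, dodecads_eq, Finset.mem_coe]
          constructor
          · rintro ⟨⟨h1, _⟩, h3⟩
            exact ⟨h1, h3⟩
          · rintro ⟨h1, h3⟩
            have h1' : o' ∈ dodecads := by rw [dodecads_eq]; exact h1
            exact ⟨⟨h1, h o' (mem_dodClass.mpr ⟨h1', h3⟩)⟩, h3⟩
        rw [hEq]
    -- classes 12 and 0 are singletons inside the orbit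
    have hself : d ∈ Orb := by
      rw [← Finset.mem_coe, ← horb]
      exact MulAction.mem_orbit_self d
    have hcompl : dᶜ ∈ Orb := by
      rw [← Finset.mem_coe, ← horb]
      have hsK : (⟨s, hs⟩ : M24) ∈ MulAction.stabilizer M24 ({d, dᶜ} : Finset (Finset GolayPt)) := by
        rw [mem_stab_pair]
        exact Or.inr hsd
      exact ⟨⟨⟨s, hs⟩, hle hsK⟩, hsd⟩
    have h12 : (Orb.filter (fun o' => (d ∩ o').card = 12)).card = 1 := by
      rw [Finset.card_eq_one]
      refine ⟨d, ?_⟩
      ext o'
      rw [Finset.mem_filter, Finset.mem_singleton]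
      constructor
      · rintro ⟨h1, h2⟩
        have h1' : o' ∈ dodecads := by rw [dodecads_eq]; exact (mem_orbF.mp h1).1
        exact class12 hd h1' h2
      · rintro rfl
        exact ⟨hself, by rw [Finset.inter_self, card_of_mem_dodecads hd]⟩
    have h0 : (Orb.filter (fun o' => (d ∩ o').card = 0)).card = 1 := by
      rw [Finset.card_eq_one]
      refine ⟨dᶜ, ?_⟩
      ext o'
      rw [Finset.mem_filter, Finset.mem_singleton]
      constructor
      · rintro ⟨h1, h2⟩
        have h1' : o' ∈ dodecads := by rw [dodecads_eq]; exact (mem_orbF.mp h1).1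
        exact class0 hd h1' h2
      · rintro rfl
        exact ⟨hcompl, by rw [Finset.inter_compl, Finset.card_empty]⟩
    -- the image of d under g lies in another class
    have hg1 : ((g : Equiv.Perm GolayPt) • d) ∈ MulAction.orbit L d := ⟨⟨g, hgL⟩, rfl⟩
    have hg3 : (g : Equiv.Perm GolayPt) • d ∈ dodecads := smul_mem_dodecads' g.2 hd
    have hgK' : ¬ ((g : Equiv.Perm GolayPt) • d = d ∨ (g : Equiv.Perm GolayPt) • d = dᶜ) :=
      fun h => hgK (mem_stab_pair.mpr h)
    have hnonzero : ∀ j, (d ∩ (g : Equiv.Perm GolayPt) • d).card = j →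
        (Orb.filter (fun o' => (d ∩ o').card = j)).card = (dodClass d j).card := by
      intro j hj
      rcases hpart j with h | h
      · exfalso
        rw [Finset.card_eq_zero, Finset.filter_eq_empty_iff] at h
        apply h (x := (g : Equiv.Perm GolayPt) • d)
        · rw [← Finset.mem_coe, ← horb]
          exact hg1
        · exact hj
      · exact h.1
    have hcases := hcases5 _ hg3
    have c4 := card_dodClass hd 4 (by norm_num)
    have c6 := card_dodClass hd 6 (by norm_num)
    have c8 := card_dodClass hd 8 (by norm_num)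
    rw [ixd_count4] at c4
    rw [ixd_count6] at c6
    rw [ixd_count8] at c8
    rw [Finset.sum_insert (by decide), Finset.sum_insert (by decide), Finset.sum_insert (by decide),
      Finset.sum_insert (by decide), Finset.sum_singleton, h0, h12] at hfib
    have h2576 : Orb.card = 2576 := by
      apply arith _ _ _ _ (d ∩ (g : Equiv.Perm GolayPt) • d).card q hfib hq
      · rcases hpart 4 with h | h
        · exact Or.inl h
        · exact Or.inr (h.1.trans c4)
      · rcases hpart 6 with h | h
        · exact Or.inl h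
        · exact Or.inr (h.1.trans c6)
      · rcases hpart 8 with h | h
        · exact Or.inl h
        · exact Or.inr (h.1.trans c8)
      · rcases hcases with h | h | h | h | h
        · exact absurd (Or.inr (class0 hd hg3 h)) hgK'
        · exact Or.inl h
        · exact Or.inr (Or.inl h)
        · exact Or.inr (Or.inr h)
        · exact absurd (Or.inl (class12 hd hg3 h)) hgK'
      · exact fun h => (hnonzero 4 h).trans c4
      · exact fun h => (hnonzero 6 h).trans c6
      · exact fun h => (hnonzero 8 h).trans c8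
    apply Subgroup.eq_top_of_card_eq
    rw [← hL, h2576, card_M24]

end Cfsg.Agent.S1566
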