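import Cfsg.Statements.S1587

set_option autoImplicit false
open Matrix
open Cfsg

namespace Cfsg.Agent.S1587

/-- First step of the characterisation of the rank-24 lattice: in an even lattice without roots, norm-8 vectors congruent modulo 2 are equal, opposite or orthogonal. -/
theorem result (B : Matrix (Fin 24) (Fin 24) ℤ) (hsymm : B.IsSymm) (hpos : ∀ x : Fin 24 → ℤ, x ≠ 0 → 0 < x ⬝ᵥ (B *ᵥ x)) (heven : ∀ x : Fin 24 → ℤ, (2 : ℤ) ∣ x ⬝ᵥ (B *ᵥ x)) (h2 : ∀ x : Fin 24 → ℤ, x ⬝ᵥ (B *ᵥ x) ≠ 2) (x y : Fin 24 → ℤ) (hx : x ⬝ᵥ (B *ᵥ x) = 8) (hy : y ⬝ᵥ (B *ᵥ y) = 8) (hc : ∀ i, (2 : ℤ) ∣ (x - y) i) : y = x ∨ y = -x ∨ x ⬝ᵥ (B *ᵥ y) = 0 := by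
  classical
  choose z hz using hc
  have hsym : ∀ a b : Fin 24 → ℤ, a ⬝ᵥ (B *ᵥ b) = b ⬝ᵥ (B *ᵥ a) := by
    intro a b
    rw [dotProduct_mulVec, ← mulVec_transpose, hsymm.eq, dotProduct_comm]
  have hxx : x = z + (z + y) := by
    funext i
    have := hz i
    simp only [Pi.sub_apply, Pi.add_apply] at this ⊢
    omega
  have hyy : y = (z + y) - z := by abel
  generalize z + y = z' at hxx hyy
  subst hxx
  have ex : (z + z') ⬝ᵥ (B *ᵥ (z + z')) = z ⬝ᵥ (B *ᵥ z) + 2 * (z ⬝ᵥ (B *ᵥ z')) + z' ⬝ᵥ (B *ᵥ z') := by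
    simp only [mulVec_add, add_dotProduct, dotProduct_add]
    rw [hsym z' z]; ring
  have ey : (z' - z) ⬝ᵥ (B *ᵥ (z' - z)) = z ⬝ᵥ (B *ᵥ z) - 2 * (z ⬝ᵥ (B *ᵥ z')) + z' ⬝ᵥ (B *ᵥ z') := by
    simp only [mulVec_sub, sub_dotProduct, dotProduct_sub]
    rw [hsym z' z]; ring
  have exy : (z + z') ⬝ᵥ (B *ᵥ (z' - z)) = z' ⬝ᵥ (B *ᵥ z') - z ⬝ᵥ (B *ᵥ z) := by
    simp only [mulVec_sub, add_dotProduct, dotProduct_sub]
    rw [hsym z' z]; ring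
  rw [hyy] at hy ⊢
  rw [ex] at hx
  rw [ey] at hy
  by_cases hz0 : z = 0
  · left
    subst hz0; simp
  by_cases hz0' : z' = 0
  · right; left
    subst hz0'; simp
  right; right
  have p1 := hpos z hz0
  have p2 := hpos z' hz0'
  have e1 := heven z
  have e2 := heven z'
  have n1 := h2 z
  have n2 := h2 z'
  rw [exy]
  obtain ⟨a, ha⟩ := e1
  obtain ⟨b, hb⟩ := e2
  omega

end Cfsg.Agent.S1587
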