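import Cfsg.Statements.S1595
import Cfsg.Agent.Lib_helper28_Design

set_option autoImplicit false
open Cfsg

namespace Cfsg.Agent.S1595

open Cfsg.Agent.helper28.Design Cfsg.Agent.S5625

/-- Leech triangle of S(5, 6, 12): blocks meet in 0, 2, 3 or 4 points, and a block is met exactly in a given 2-, 3- or 4-subset by 3, 2, 3 blocks respectively. -/
theorem result {α : Type*} [Fintype α] [DecidableEq α] (hα : Fintype.card α = 12) {B : Set (Finset α)} (hB : Cfsg.IsSteinerSystem 5 6 B) (b : Finset α) (hb : b ∈ B) : (∀ c ∈ B, c ≠ b → (b ∩ c).card = 0 ∨ (b ∩ c).card = 2 ∨ (b ∩ c).card = 3 ∨ (b ∩ c).card = 4) ∧ ∀ s ⊆ b, (s.card = 2 → {c : Finset α | c ∈ B ∧ b ∩ c = s}.ncard = 3) ∧ (s.card = 3 → {c : Finset α | c ∈ B ∧ b ∩ c = s}.ncard = 2) ∧ (s.card = 4 → {c : Finset α | c ∈ B ∧ b ∩ c = s}.ncard = 3) := by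
  classical
  obtain ⟨hcard, huniq⟩ := hB
  set Bf : Finset (Finset α) := Finset.univ.filter (fun b => b ∈ B) with hBf
  have hBfmem : ∀ b, b ∈ Bf ↔ b ∈ B := by simp [hBf]
  have hk : ∀ b ∈ Bf, b.card = 6 := fun b hb => hcard b ((hBfmem b).1 hb)
  have h5 : ∀ S : Finset α, S.card = 5 → cnt Bf S = 1 := by
    intro S hS
    obtain ⟨b, ⟨hbB, hSb⟩, hu⟩ := huniq S hS
    unfold cnt
    rw [Finset.card_eq_one]
    refine ⟨b, ?_⟩
    ext c
    simp only [Finset.mem_filter, Finset.mem_singleton, hBfmem]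
    constructor
    · rintro ⟨h1, h2⟩; exact hu c ⟨h1, h2⟩
    · rintro rfl; exact ⟨hbB, hSb⟩
  have hbf : b ∈ Bf := (hBfmem b).2 hb
  have conv : ∀ s : Finset α, {c : Finset α | c ∈ B ∧ b ∩ c = s}.ncard
      = (Bf.filter (fun c => b ∩ c = s)).card := by
    intro s
    rw [← Set.ncard_coe_finset]
    congr 1
    ext c
    simp [hBfmem]
  constructor
  · intro c hc hne
    have hsub : b ∩ c ⊆ b := Finset.inter_subset_left
    obtain ⟨k1, -, -, -, k5⟩ := s5612 hα Bf hk h5 b hbf (b ∩ c) hsub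
    have hmem : c ∈ Bf.filter (fun c' => b ∩ c' = b ∩ c) := by
      rw [Finset.mem_filter]; exact ⟨(hBfmem c).2 hc, rfl⟩
    have hpos : 0 < (Bf.filter (fun c' => b ∩ c' = b ∩ c)).card := Finset.card_pos.2 ⟨c, hmem⟩
    have hle : (b ∩ c).card ≤ 6 := by
      rw [← hk b hbf]; exact Finset.card_le_card hsub
    have h6 : (b ∩ c).card ≠ 6 := by
      intro h
      have : b ∩ c = b := Finset.eq_of_subset_of_card_le hsub (by rw [h, hk b hbf])
      have hbc : b ⊆ c := by rw [← this]; exact Finset.inter_subset_right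
      have : b = c := Finset.eq_of_subset_of_card_le hbc (by rw [hk b hbf, hcard c hc])
      exact hne this.symm
    have h1 : (b ∩ c).card ≠ 1 := fun h => by have := k1 h; omega
    have h5' : (b ∩ c).card ≠ 5 := fun h => by have := k5 h; omega
    omega
  · intro s hs
    obtain ⟨-, k2, k3, k4, -⟩ := s5612 hα Bf hk h5 b hbf s hs
    rw [conv]
    exact ⟨k2, k3, k4⟩

end Cfsg.Agent.S1595
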