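import Mathlib
import Cfsg.Statements.S1596
import Cfsg.Agent.Lib_helper2_Quart2

set_option autoImplicit false
open scoped Pointwise
open Cfsg

namespace Cfsg.Agent.S1596

open Cfsg.Agent.helper2

open Cfsg.Agent.helper2.Golay Cfsg.Agent.helper27

theorem result (d : Finset Cfsg.GolayPt) (hd : d ∈ Cfsg.dodecads) (t u : Finset Cfsg.GolayPt) (ht : t.card = 3) (hu : u.card = 3) (htu : Disjoint t u) (hh : t ∪ u ∈ Cfsg.hexadsOn d) : ∃! Q : Finset (Finset Cfsg.GolayPt), Q ∈ Cfsg.quartets d ∧ t ∈ Q ∧ u ∈ Q := by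
  have hgp : GoodPair d t u := ⟨ht, hu, htu, hh⟩
  obtain ⟨Q, hQ, htQ, huQ⟩ := exists_quartet hd hgp
  refine ⟨Q, ⟨hQ, htQ, huQ⟩, ?_⟩
  rintro Q' ⟨hQ', htQ', huQ'⟩
  exact quartet_unique hd hQ' hQ hgp.ne htQ' huQ' htQ huQ

end Cfsg.Agent.S1596
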