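import Mathlib
import Cfsg.Statements.S1599
import Cfsg.Agent.Lib_helper2_Quart2
import Cfsg.Agent.Lib_helper2_Sext3
import Cfsg.Agent.Lib_helper2_OrbForm

set_option autoImplicit false
open scoped Pointwise
open Cfsg

namespace Cfsg.Agent.S1599

open Cfsg.Agent.helper2

open Cfsg.Agent.helper2.Golay Cfsg.Agent.helper27
open MulAction

def gQ : List (List ℕ × List ℕ) := [
  ([17, 2, 1, 0, 16, 5, 8, 6, 11, 13, 10, 7, 18, 20, 14, 15, 4, 23, 19, 21, 22, 12, 9, 3], [3, 2, 1, 23, 16, 5, 7, 11, 6, 22, 10, 8, 21, 9, 14, 15, 4, 0, 12, 18, 13, 19, 20, 17]),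
  ([23, 0, 19, 16, 3, 10, 15, 13, 6, 22, 14, 7, 21, 11, 5, 8, 4, 12, 2, 18, 9, 17, 20, 1], [1, 23, 18, 4, 16, 14, 8, 11, 15, 20, 5, 13, 17, 7, 10, 6, 3, 21, 19, 2, 22, 12, 9, 0])]

set_option maxRecDepth 1000000 in
noncomputable def cQ : List (ℕ × List ℕ × List (ℕ × ℕ × List ℕ)) := [
  (26, [8523776, 2097157, 589840, 262154], [
    (0, 0, [8650760, 2162704, 524293, 135170]),
    (0, 0, [8650756, 2228226, 524297, 69648]),
    (0, 0, [8392708, 2228225, 524298, 327696]),
    (0, 1, [8523776, 2621442, 327681, 28]),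
    (0, 0, [8650760, 2101252, 655376, 65539]),
    (0, 0, [10551296, 524297, 266242, 131092]),
    (0, 1, [8716288, 2097157, 528392, 131090]),
    (0, 0, [8454148, 2359297, 524312, 135170]),
    (0, 0, [8650756, 2162689, 659456, 26]),
    (0, 1, [8519696, 2363392, 524294, 65545]),
    (2, 1, [8519684, 2101249, 524306, 327688]),
    (0, 1, [10616832, 528386, 262153, 65556]),
    (8, 1, [8716288, 2097176, 524294, 135169]),
    (0, 0, [8781824, 2097158, 524312, 69633]),
    (0, 0, [8912904, 2162689, 393232, 4102]),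
    (0, 0, [8978432, 2097161, 262150, 135184]),
    (0, 1, [8585216, 2101256, 524293, 262162]),
    (0, 0, [8388632, 2228226, 589828, 266241]),
    (3, 1, [8519696, 2621441, 327682, 4108]),
    (0, 0, [8454152, 2232320, 524308, 262147]),
    (0, 0, [8654848, 2162690, 655364, 25]),
    (0, 0, [10485762, 786440, 196609, 4116]),
    (1, 1, [8454152, 2097158, 790528, 131089]),
    (0, 0, [8585216, 2883584, 4102, 25]),
    (1, 1, [8392712, 2359300, 655361, 65554]),
    (4, 1, [8781824, 2686976, 4106, 21]),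
    (3, 1, [10485776, 655361, 327688, 4102]),
    (0, 1, [8654848, 2621441, 131082, 65556]),
    (0, 0, [8388613, 2232320, 786440, 65554]),
    (0, 1, [8912898, 2232320, 327684, 25]),
    (5, 1, [10489856, 786433, 196616, 22]),
    (0, 0, [8388625, 2752512, 266248, 65542]),
    (0, 1, [8388618, 2162692, 524305, 397312]),
    (0, 0, [9175040, 2293760, 4114, 13]),
    (0, 0, [8392720, 2621448, 327684, 131075]),
    (7, 1, [9175040, 2101249, 131096, 65542]),
    (0, 0, [8454145, 2621448, 397312, 22]),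
    (0, 1, [8388626, 2101252, 524297, 458752]),
    (0, 1, [8716288, 2752512, 4116, 11]),
    (0, 0, [10489856, 524312, 327682, 131077]),
    (0, 0, [8519682, 2162689, 524308, 266248]),
    (0, 1, [8519696, 2162692, 786440, 4099]),
    (0, 0, [8454152, 2621441, 393220, 4114]),
    (3, 1, [8916992, 2228226, 327688, 21]),
    (0, 1, [8912904, 2359298, 135169, 65556]),
    (0, 0, [8781824, 2097161, 528388, 65554]),
    (7, 1, [10616832, 524305, 262150, 69640]),
    (0, 0, [8392712, 2293760, 524294, 262161]),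
    (0, 0, [8392720, 2097158, 720896, 262153]),
    (0, 1, [8454148, 2097162, 655361, 266256]),
    (0, 0, [10616832, 851968, 4101, 26]),
    (0, 1, [11010048, 262164, 135170, 65545]),
    (2, 1, [8654848, 2097164, 524306, 196609]),
    (3, 1, [8388620, 2162690, 786433, 135184]),
    (0, 1, [8650756, 2101256, 589826, 131089]),
    (0, 0, [8585216, 2097172, 524298, 266241]),
    (7, 1, [9043968, 2101250, 262168, 65541]),
    (0, 0, [10485768, 589825, 266244, 131090]),
    (0, 0, [8454148, 2228240, 786434, 4105]),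
    (0, 0, [8458240, 2621444, 393217, 26]),
    (0, 1, [8392708, 2097170, 917504, 65545]),
    (0, 0, [11010048, 262154, 131089, 69636]),
    (0, 1, [8392712, 2621456, 393218, 65541]),
    (0, 1, [8912912, 2162690, 393224, 4101]),
    (5, 1, [10551296, 524306, 262149, 135176]),
    (0, 0, [8650753, 2162692, 655362, 4120]),
    (0, 0, [10485764, 655368, 327681, 4114]),
    (0, 0, [10485761, 655376, 327684, 4106]),
    (1, 1, [8388628, 2097161, 655362, 331776]),
    (0, 0, [10485764, 786448, 135169, 65546]),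
    (3, 1, [8388614, 2162696, 655376, 266241]),
    (0, 1, [10485764, 524291, 266248, 196624]),
    (0, 0, [8454160, 2228228, 786433, 4106]),
    (4, 1, [8912900, 2166784, 262153, 131090]),
    (3, 1, [8650768, 2621444, 196610, 4105]),
    (0, 0, [8388628, 2101250, 589832, 393217]),
    (0, 0, [9043968, 2097169, 266244, 65546]),
    (0, 0, [10485768, 786434, 200704, 21]),
    (0, 1, [8912904, 2101264, 262149, 196610]),
    (2, 1, [8519688, 2621444, 266242, 65553]),
    (0, 1, [8388632, 2097157, 917504, 69634]),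
    (4, 1, [10551296, 917504, 4113, 14]),
    (0, 0, [11010048, 458752, 4120, 7]),
    (0, 0, [8912912, 2101256, 327681, 131078]),
    (0, 1, [8388628, 2293760, 528385, 262154]),
    (0, 0, [8392720, 2490368, 524293, 65546]),
    (0, 1, [9175040, 2097162, 135172, 65553]),
    (0, 1, [8388632, 2625536, 262150, 196609]),
    (3, 1, [10747904, 524298, 135184, 65541]),
    (3, 1, [8912897, 2162696, 393218, 4116]),
    (0, 0, [8912900, 2228232, 327682, 4113]),
    (0, 0, [8392705, 2097162, 524308, 458752]),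
    (2, 1, [8650754, 2621448, 196624, 4101]),
    (0, 0, [8454160, 2101249, 524300, 393218]),
    (7, 1, [8912912, 2228225, 266242, 65548]),
    (0, 0, [8523776, 2162696, 786436, 19]),
    (0, 0, [8650760, 2621442, 196612, 4113]),
    (0, 1, [10485768, 528400, 393217, 65542]),
    (0, 0, [9043968, 2424832, 4105, 22]),
    (1, 1, [8392708, 2359304, 524305, 196610]),
    (3, 1, [8388617, 2101250, 786436, 196624]),
    (0, 0, [8454160, 2621442, 266244, 131081]),
    (0, 0, [8519681, 2101252, 786434, 65560]),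
    (0, 1, [8392706, 2752512, 262149, 65560]),
    (0, 0, [10489856, 655362, 262156, 65553]),
    (1, 1, [8912900, 2097155, 397312, 65560]),
    (4, 1, [8454146, 2228225, 786436, 4120])]),
  (54, [8454145, 2228226, 786448, 4108], [
    (0, 0, [8392708, 2686976, 262147, 131096]),
    (0, 0, [8454145, 2101264, 655364, 262154]),
    (0, 0, [10485762, 524293, 331776, 131096]),
    (0, 1, [9175040, 2097172, 131075, 69640]),
    (0, 0, [8519684, 2621448, 262161, 69634]),
    (0, 0, [8388618, 2101249, 720896, 262164]),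
    (0, 1, [10616832, 524300, 266256, 65539]),
    (0, 0, [8392712, 2097155, 851968, 131092]),
    (3, 1, [8388620, 2097169, 528386, 458752]),
    (0, 1, [8519688, 2359297, 589826, 4116]),
    (5, 1, [8388626, 2228232, 790528, 65541]),
    (0, 0, [8392705, 2883584, 131090, 65548]),
    (0, 0, [8454148, 2625536, 393224, 19]),
    (0, 0, [8912897, 2363392, 196612, 26]),
    (0, 1, [8650754, 2228228, 528400, 65545]),
    (2, 1, [8388617, 2490368, 524306, 69636]),
    (0, 1, [8454146, 2621456, 262153, 135172]),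
    (3, 1, [10485762, 589840, 393220, 4105]),
    (0, 1, [10551296, 528388, 262168, 131075]),
    (0, 0, [8519684, 2359298, 589825, 4120]),
    (4, 1, [8912912, 2359300, 200704, 11]),
    (0, 0, [8650768, 2162696, 528386, 131077]),
    (0, 0, [8519682, 2359300, 589832, 4113]),
    (1, 1, [8916992, 2359297, 196624, 14]),
    (0, 0, [8454160, 2359304, 659456, 7]),
    (0, 0, [10747904, 528385, 131078, 65560]),
    (7, 1, [8388613, 2621442, 393232, 69640]),
    (0, 0, [8978432, 2101252, 262161, 131082]),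
    (0, 0, [8388613, 2097176, 720896, 266242]),
    (0, 0, [10485776, 786436, 131082, 69633]),
    (1, 1, [8912898, 2097157, 266256, 196616]),
    (0, 0, [8388625, 2097164, 851968, 135170]),
    (3, 1, [8388620, 2752512, 262162, 69633]),
    (0, 1, [10485776, 589826, 397312, 13]),
    (3, 1, [8912898, 2162704, 393217, 4108]),
    (0, 0, [9043968, 2097164, 262147, 69648]),
    (0, 0, [10485768, 655364, 327696, 4099]),
    (0, 1, [10485761, 790528, 196610, 28]),
    (0, 0, [8388628, 2883584, 135176, 65539]),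
    (7, 1, [8388626, 2686976, 262156, 135169]),
    (0, 0, [8781824, 2101264, 524291, 65548]),
    (0, 0, [8912904, 2228228, 331776, 19]),
    (0, 0, [8392706, 2097161, 786448, 196612]),
    (0, 1, [8585216, 2097155, 528400, 262156]),
    (0, 0, [8388632, 2424832, 524291, 135172]),
    (0, 1, [8650753, 2625536, 131092, 65546]),
    (0, 1, [8388614, 2490368, 528392, 65553]),
    (5, 1, [8388617, 2097172, 659456, 327682]),
    (0, 0, [10747904, 524308, 131081, 69634]),
    (0, 0, [8519681, 2162690, 528392, 262164]),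
    (0, 1, [8392706, 2424832, 524300, 131089]),
    (2, 1, [8458240, 2097169, 786440, 131078]),
    (2, 1, [8454146, 2363392, 655368, 21]),
    (3, 1, [8650753, 2228232, 589840, 4102]),
    (0, 0, [8392705, 2162704, 655368, 262150]),
    (0, 0, [10485761, 524294, 393224, 69648]),
    (0, 0, [8912897, 2097158, 327696, 135176]),
    (0, 1, [8650754, 2166784, 655361, 28]),
    (4, 1, [8388614, 2621441, 262168, 200704]),
    (0, 0, [8650768, 2232320, 589825, 14]),
    (0, 0, [8654848, 2228240, 589832, 7]),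
    (5, 1, [10489856, 589828, 393232, 11]),
    (0, 0, [8978432, 2097170, 266248, 131077]),
    (0, 0, [8519682, 2097176, 786433, 69636]),
    (0, 1, [8650756, 2621456, 196616, 4099]),
    (0, 0, [8388625, 2166784, 524298, 393220]),
    (0, 1, [8388618, 2228240, 528388, 327681]),
    (4, 1, [8916992, 2162692, 262162, 131081]),
    (0, 0, [8519681, 2359304, 589828, 4114]),
    (0, 0, [8519688, 2097170, 528385, 327684]),
    (2, 1, [8458240, 2359298, 655376, 13])]),
  (90, [10485764, 593920, 393218, 25], [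
    (0, 0, [8912900, 2359312, 196609, 4106]),
    (0, 0, [8519696, 2097162, 593920, 262149]),
    (1, 1, [8392720, 2162689, 786434, 131084]),
    (0, 0, [8388611, 2621444, 327688, 135184]),
    (0, 0, [8716288, 2101250, 524305, 131084]),
    (0, 1, [8650760, 2228225, 593920, 22]),
    (0, 0, [8523776, 2359312, 524297, 65542]),
    (6, 1, [8454152, 2359312, 655362, 4101]),
    (0, 1, [11010048, 266241, 131084, 65554]),
    (0, 0, [8388611, 2101256, 917504, 65556]),
    (0, 1, [8388611, 2293760, 524312, 266244])]),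
  (68, [8458240, 2228232, 524291, 262164], [
    (0, 0, [8392705, 2228228, 589826, 262168]),
    (0, 0, [8392706, 2097172, 589825, 393224]),
    (0, 0, [8912897, 2228240, 262156, 69634]),
    (0, 1, [8650754, 2097169, 589828, 135176]),
    (3, 1, [10485762, 659456, 262161, 65548]),
    (0, 0, [10747904, 720896, 4108, 19]),
    (0, 0, [10485776, 528392, 262147, 196612]),
    (0, 0, [8388626, 2359297, 655364, 69640]),
    (1, 1, [8388613, 2424832, 528400, 131082]),
    (0, 1, [8912898, 2359304, 131092, 69633]),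
    (3, 1, [8388617, 2686976, 266256, 131078]),
    (0, 1, [8454146, 2097164, 528385, 393232]),
    (3, 1, [8388620, 2363392, 589840, 131075]),
    (0, 0, [8519684, 2162704, 790528, 11]),
    (0, 0, [8388618, 2883584, 131077, 69648]),
    (0, 1, [8916992, 2097176, 393220, 65539]),
    (0, 1, [8388625, 2359298, 528388, 196616]),
    (3, 1, [8454145, 2359300, 528386, 131096]),
    (5, 1, [8650753, 2097170, 524300, 200704]),
    (0, 0, [8650768, 2097155, 655368, 69636]),
    (0, 0, [10485761, 589832, 262162, 135172]),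
    (0, 1, [8519682, 2625536, 327696, 13]),
    (0, 1, [8978432, 2490368, 4099, 28]),
    (3, 1, [8519681, 2621456, 331776, 14]),
    (0, 0, [8519688, 2166784, 786448, 7]),
    (3, 1, [8388614, 2101264, 851968, 131081])]),
  (324, [8388611, 2359312, 593920, 131084], [])]


/-- Sum of a function of the intersection sizes of the members of two families. -/
def famInvF (f : ℕ → ℕ) (S S' : Finset (Finset GolayPt)) : ℕ :=
  ∑ t ∈ S, ∑ t' ∈ S', f (t ∩ t').card

theorem famInvF_smul (f : ℕ → ℕ) (g : Equiv.Perm GolayPt) (S S' : Finset (Finset GolayPt)) :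
    famInvF f (g • S) (g • S') = famInvF f S S' := by
  unfold famInvF
  have hinj : Function.Injective (fun t : Finset GolayPt => g • t) := MulAction.injective g
  have e1 : g • S = S.image (fun t => g • t) := rfl
  have e2 : g • S' = S'.image (fun t => g • t) := rfl
  rw [e1, Finset.sum_image (fun a _ b _ h => hinj h)]
  apply Finset.sum_congr rfl
  intro t _
  rw [e2, Finset.sum_image (fun a _ b _ h => hinj h)]
  apply Finset.sum_congr rfl
  intro t' _
  rw [card_smul_inter]

/-- List version of `famInvF`. -/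
def famInvFL (f : ℕ → ℕ) (L L' : List ℕ) : ℕ :=
  (L.map fun a => (L'.map fun b => f (wt (a &&& b))).sum).sum

theorem famInvF_famFin (f : ℕ → ℕ) {L L' : List ℕ} (hnd : (L.map pts).Nodup)
    (hnd' : (L'.map pts).Nodup) : famInvF f (famFin L) (famFin L') = famInvFL f L L' := by
  unfold famInvF famInvFL
  rw [sum_famFin hnd]
  refine congrArg List.sum (List.map_congr_left ?_)
  intro a _
  rw [sum_famFin hnd']
  refine congrArg List.sum (List.map_congr_left ?_)
  intro b _
  rw [← pts_and, card_pts]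

/-- Fourth power. -/
def f4 (n : ℕ) : ℕ := n ^ 4

theorem qTab_nodup_pts {L : List ℕ} (hL : L ∈ qTab) : (L.map pts).Nodup := by
  have h := List.all_eq_true.mp qTab_ok L hL
  unfold qtOK at h
  rw [Bool.and_eq_true] at h
  obtain ⟨h1, h2⟩ := descAux_spec L _ h.1
  apply List.Nodup.map_on
  · intro a ha b hb hab
    exact pts_inj_lt (h1 a ha) (h1 b hb) hab
  · exact h2.imp (fun h => Nat.ne_of_gt h)

/-- The key of a quartet given by a decreasing list: its first two masks. -/
def qKey (L : List ℕ) : ℕ := L.headD 0 * 2 ^ 24 + L.getD 1 0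

theorem gQ_ok : famGensOK [] [d0m] [Q0L] gQ = true := by decide +kernel

set_option maxRecDepth 100000 in
theorem cQ_ok : certOK gQ qKey cQ 220 = true := by decide +kernel

set_option maxRecDepth 100000 in
theorem cQ_roots :
    cQ.all (fun ct => qTab.contains ct.2.1 && (famInvFL f4 Q0L ct.2.1 == ct.1)) = true := by
  decide +kernel

theorem cQ_sizes : certSizes cQ = [(26, 108), (54, 72), (90, 12), (68, 27), (324, 1)] := by
  decide +kernel

theorem Q0_self : famInvFL f4 Q0L Q0L = 324 := by decide +kernel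

theorem roots_spec : ∀ ct ∈ cQ, famFin ct.2.1 ∈ quartets (pts d0m) ∧
    famInvF f4 (famFin Q0L) (famFin ct.2.1) = ct.1 := by
  intro ct hct
  have h1 := List.all_eq_true.mp cQ_roots ct hct
  rw [Bool.and_eq_true, List.contains_iff_mem, beq_iff_eq] at h1
  refine ⟨(mem_quartets_iff _).mpr ⟨_, h1.1, rfl⟩, ?_⟩
  rw [famInvF_famFin f4 (qTab_nodup_pts Q0L_mem) (qTab_nodup_pts h1.1)]
  exact h1.2

theorem base : (∀ X ∈ quartets (pts d0m), famInvF f4 (famFin Q0L) X ∈
      [(26, 108), (54, 72), (90, 12), (68, 27), (324, 1)].map (fun p : ℕ × ℕ => p.1)) ∧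
    (∀ p ∈ [(26, 108), (54, 72), (90, 12), (68, 27), (324, 1)],
      {X | X ∈ quartets (pts d0m) ∧ famInvF f4 (famFin Q0L) X = p.1}.ncard = p.2) ∧
    (∀ X ∈ quartets (pts d0m), ∀ Y ∈ quartets (pts d0m),
      famInvF f4 (famFin Q0L) X = famInvF f4 (famFin Q0L) Y →
      ∃ k ∈ famStab [] [d0m] [Q0L], k • X = Y) :=
  dfs_classes' (famStab [] [d0m] [Q0L]) (quartets (pts d0m)) 220 ncard_quartets_d0 (by norm_num)
    (fun k hk X hX => by
      have hk' := mem_cfgStab.mp (mem_famStab.mp hk).1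
      have := smul_mem_quartets hk'.1 hX
      rwa [hk'.2.2 d0m (List.mem_singleton.mpr rfl)] at this)
    (famInvF f4 (famFin Q0L))
    (fun k hk X => by
      have := famInvF_smul f4 k (famFin Q0L) X
      rwa [(mem_famStab.mp hk).2 Q0L (List.mem_singleton.mpr rfl)] at this)
    gQ (famGens_mem gQ_ok) qKey cQ cQ_ok roots_spec
    _ cQ_sizes (by decide)

/-- Transfer of class data from a base object to a conjugate, the set depending on the
object. -/
theorem transfer_classes_dep {G X Y : Type*} [Group G] [MulAction G X] [MulAction G Y]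
    (Ω : Y → Set X) (hΩ : ∀ (g : G) (s : Y), ∀ x ∈ Ω s, g • x ∈ Ω (g • s))
    (C : Y → X → ℕ) (hC : ∀ (g : G) (s : Y) (x : X), C (g • s) (g • x) = C s x)
    (S0 : Y) (labels : List ℕ) (hlab : ∀ x ∈ Ω S0, C S0 x ∈ labels)
    (n : ℕ → ℕ) (hn : ∀ v ∈ labels, {x | x ∈ Ω S0 ∧ C S0 x = v}.ncard = n v)
    (htr : ∀ x ∈ Ω S0, ∀ y ∈ Ω S0, C S0 x = C S0 y → ∃ k ∈ stabilizer G S0, k • x = y)
    (S : Y) (h : G) (hS : h • S = S0) :
    (∀ x ∈ Ω S, C S x ∈ labels) ∧ (∀ v ∈ labels, {x | x ∈ Ω S ∧ C S x = v}.ncard = n v) ∧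
      (∀ x ∈ Ω S, ∀ y ∈ Ω S, C S x = C S y → ∃ k ∈ stabilizer G S, k • x = y) := by
  have hcS : ∀ x, C S x = C S0 (h • x) := by
    intro x
    rw [← hS, hC]
  have hS' : h⁻¹ • S0 = S := by rw [← hS, inv_smul_smul]
  have hΩiff : ∀ x, x ∈ Ω S ↔ h • x ∈ Ω S0 := by
    intro x
    constructor
    · intro hx
      have := hΩ h S x hx
      rwa [hS] at this
    · intro hx
      have := hΩ h⁻¹ S0 _ hx
      rwa [inv_smul_smul, hS'] at this
  refine ⟨?_, ?_, ?_⟩
  · intro x hx
    rw [hcS]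
    exact hlab _ ((hΩiff x).mp hx)
  · intro v hv
    rw [← hn v hv]
    apply ncard_smul_eq_gen h
    intro x
    rw [Set.mem_ofPred_eq, Set.mem_ofPred_eq, hcS, ← hΩiff]
  · intro x hx y hy hxy
    rw [hcS, hcS] at hxy
    obtain ⟨k, hk, hky⟩ := htr _ ((hΩiff x).mp hx) _ ((hΩiff y).mp hy) hxy
    refine ⟨h⁻¹ * k * h, ?_, ?_⟩
    · rw [mem_stabilizer_iff] at hk ⊢
      rw [mul_smul, mul_smul, hS, hk, ← hS, inv_smul_smul]
    · rw [mul_smul, mul_smul, hky, inv_smul_smul]

/-- Sizes of the classes. -/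
def nQ (v : ℕ) : ℕ :=
  if v = 324 then 1 else if v = 90 then 12 else if v = 68 then 27 else if v = 54 then 72
  else 108

/-- The set of quartets attached to a pair (dodecad, quartet). -/
def ΩQ (s : Finset GolayPt × Finset (Finset GolayPt)) : Set (Finset (Finset GolayPt)) :=
  quartets s.1

/-- The labelling attached to a pair (dodecad, quartet). -/
def CQ (s : Finset GolayPt × Finset (Finset GolayPt)) (x : Finset (Finset GolayPt)) : ℕ :=
  famInvF f4 s.2 x

theorem hΩQ (g : M24) (s : Finset GolayPt × Finset (Finset GolayPt)) :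
    ∀ x ∈ ΩQ s, g • x ∈ ΩQ (g • s) := fun _ hx => smul_mem_quartets g.2 hx

theorem hCQ (g : M24) (s : Finset GolayPt × Finset (Finset GolayPt))
    (x : Finset (Finset GolayPt)) : CQ (g • s) (g • x) = CQ s x :=
  famInvF_smul f4 g.1 s.2 x

theorem base_lab : ∀ x ∈ ΩQ (pts d0m, famFin Q0L), CQ (pts d0m, famFin Q0L) x ∈
    [26, 54, 90, 68, 324] := base.1

theorem base_n : ∀ v ∈ [26, 54, 90, 68, 324],
    {x | x ∈ ΩQ (pts d0m, famFin Q0L) ∧ CQ (pts d0m, famFin Q0L) x = v}.ncard = nQ v := by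
  intro v hv
  simp only [List.mem_cons, List.not_mem_nil, or_false] at hv
  rcases hv with rfl | rfl | rfl | rfl | rfl
  · exact base.2.1 (26, 108) (by simp)
  · exact base.2.1 (54, 72) (by simp)
  · exact base.2.1 (90, 12) (by simp)
  · exact base.2.1 (68, 27) (by simp)
  · exact base.2.1 (324, 1) (by simp)

theorem base_tr : ∀ x ∈ ΩQ (pts d0m, famFin Q0L), ∀ y ∈ ΩQ (pts d0m, famFin Q0L),
    CQ (pts d0m, famFin Q0L) x = CQ (pts d0m, famFin Q0L) y →
      ∃ k ∈ stabilizer M24 ((pts d0m, famFin Q0L) :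
        Finset GolayPt × Finset (Finset GolayPt)), k • x = y := by
  intro x hx y hy hxy
  obtain ⟨k, hk, hky⟩ := base.2.2 x hx y hy hxy
  have hk' := mem_cfgStab.mp (mem_famStab.mp hk).1
  refine ⟨⟨k, hk'.1⟩, ?_, hky⟩
  rw [mem_stabilizer_iff]
  exact Prod.ext (hk'.2.2 d0m (List.mem_singleton.mpr rfl))
    ((mem_famStab.mp hk).2 Q0L (List.mem_singleton.mpr rfl))

theorem stabilizer_pair (d : Finset GolayPt) (Q : Finset (Finset GolayPt)) :
    stabilizer M24 d ⊓ stabilizer M24 Q
      = stabilizer M24 ((d, Q) : Finset GolayPt × Finset (Finset GolayPt)) := by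
  ext g
  rw [Subgroup.mem_inf, mem_stabilizer_iff, mem_stabilizer_iff, mem_stabilizer_iff]
  constructor
  · rintro ⟨h1, h2⟩
    exact Prod.ext h1 h2
  · intro h
    exact ⟨congrArg Prod.fst h, congrArg Prod.snd h⟩

theorem result (d : Finset Cfsg.GolayPt) (hd : d ∈ Cfsg.dodecads) (Q : Finset (Finset Cfsg.GolayPt)) (hQ : Q ∈ Cfsg.quartets d) : ∃ X₁ ∈ Cfsg.quartets d, ∃ X₂ ∈ Cfsg.quartets d, ∃ X₃ ∈ Cfsg.quartets d, ∃ X₄ ∈ Cfsg.quartets d, (MulAction.orbit ↥(MulAction.stabilizer Cfsg.M24 d ⊓ MulAction.stabilizer Cfsg.M24 Q) X₁).ncard = 12 ∧ (MulAction.orbit ↥(MulAction.stabilizer Cfsg.M24 d ⊓ MulAction.stabilizer Cfsg.M24 Q) X₂).ncard = 27 ∧ (MulAction.orbit ↥(MulAction.stabilizer Cfsg.M24 d ⊓ MulAction.stabilizer Cfsg.M24 Q) X₃).ncard = 72 ∧ (MulAction.orbit ↥(MulAction.stabilizer Cfsg.M24 d ⊓ MulAction.stabilizer Cfsg.M24 Q) X₄).ncard = 108 ∧ Cfsg.quartets d = {Q} ∪ MulAction.orbit ↥(MulAction.stabilizer Cfsg.M24 d ⊓ MulAction.stabilizer Cfsg.M24 Q) X₁ ∪ MulAction.orbit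 ↥(MulAction.stabilizer Cfsg.M24 d ⊓ MulAction.stabilizer Cfsg.M24 Q) X₂ ∪ MulAction.orbit ↥(MulAction.stabilizer Cfsg.M24 d ⊓ MulAction.stabilizer Cfsg.M24 Q) X₃ ∪ MulAction.orbit ↥(MulAction.stabilizer Cfsg.M24 d ⊓ MulAction.stabilizer Cfsg.M24 Q) X₄ := by
  rw [stabilizer_pair]
  obtain ⟨h, hh, hhd, hhQ⟩ := quartet_trans hd d0_mem hQ Q0_mem
  have hS : (⟨h, hh⟩ : M24) • ((d, Q) : Finset GolayPt × Finset (Finset GolayPt))
      = (pts d0m, famFin Q0L) := Prod.ext hhd hhQ
  obtain ⟨hlab, hn, htr⟩ := transfer_classes_dep (G := M24) ΩQ hΩQ CQ hCQ (pts d0m, famFin Q0L)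
    [26, 54, 90, 68, 324] base_lab nQ base_n base_tr (d, Q) ⟨h, hh⟩ hS
  have hΩs : ∀ g ∈ stabilizer M24 ((d, Q) : Finset GolayPt × Finset (Finset GolayPt)),
      ∀ x ∈ quartets d, g • x ∈ quartets d := by
    intro g hg x hx
    have := hΩQ g (d, Q) x hx
    rwa [mem_stabilizer_iff.mp hg] at this
  have hcs : ∀ g ∈ stabilizer M24 ((d, Q) : Finset GolayPt × Finset (Finset GolayPt)),
      ∀ x ∈ quartets d, CQ (d, Q) (g • x) = CQ (d, Q) x :=
    fun g hg x _ => label_stab_inv CQ hCQ (d, Q) g hg x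
  have hQQ : CQ (d, Q) Q = 324 := by
    have := hCQ ⟨h, hh⟩ (d, Q) Q
    rw [hS] at this
    rw [← this]
    show famInvF f4 (famFin Q0L) (h • Q) = 324
    rw [hhQ, famInvF_famFin f4 (qTab_nodup_pts Q0L_mem) (qTab_nodup_pts Q0L_mem), Q0_self]
  obtain ⟨X₁, hX₁, hc₁, ho₁, hn₁⟩ := exists_orbit_class
    ((d, Q) : Finset GolayPt × Finset (Finset GolayPt)) (quartets d) (CQ (d, Q)) hΩs hcs htr 90 12
    (hn 90 (by simp)) (by norm_num)
  obtain ⟨X₂, hX₂, hc₂, ho₂, hn₂⟩ := exists_orbit_class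
    ((d, Q) : Finset GolayPt × Finset (Finset GolayPt)) (quartets d) (CQ (d, Q)) hΩs hcs htr 68 27
    (hn 68 (by simp)) (by norm_num)
  obtain ⟨X₃, hX₃, hc₃, ho₃, hn₃⟩ := exists_orbit_class
    ((d, Q) : Finset GolayPt × Finset (Finset GolayPt)) (quartets d) (CQ (d, Q)) hΩs hcs htr 54 72
    (hn 54 (by simp)) (by norm_num)
  obtain ⟨X₄, hX₄, hc₄, ho₄, hn₄⟩ := exists_orbit_class
    ((d, Q) : Finset GolayPt × Finset (Finset GolayPt)) (quartets d) (CQ (d, Q)) hΩs hcs htr 26 108
    (hn 26 (by simp)) (by norm_num)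
  have hself : {x | x ∈ quartets d ∧ CQ (d, Q) x = 324} = {Q} :=
    class_eq_singleton _ (hn 324 (by simp)) ⟨hQ, hQQ⟩
  refine ⟨X₁, hX₁, X₂, hX₂, X₃, hX₃, X₄, hX₄, hn₁, hn₂, hn₃, hn₄, ?_⟩
  rw [ho₁, ho₂, ho₃, ho₄, ← hself]
  ext x
  simp only [Set.mem_union, Set.mem_ofPred_eq]
  constructor
  · intro hx
    have := hlab x hx
    simp only [List.mem_cons, List.not_mem_nil, or_false] at this
    rcases this with h1 | h1 | h1 | h1 | h1
    · exact Or.inr ⟨hx, h1⟩
    · exact Or.inl (Or.inr ⟨hx, h1⟩)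
    · exact Or.inl (Or.inl (Or.inl (Or.inr ⟨hx, h1⟩)))
    · exact Or.inl (Or.inl (Or.inr ⟨hx, h1⟩))
    · exact Or.inl (Or.inl (Or.inl (Or.inl ⟨hx, h1⟩)))
  · rintro ((((h1 | h1) | h1) | h1) | h1) <;> exact h1.1

end Cfsg.Agent.S1599
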