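import Mathlib
import Cfsg.Statements.S1602
import Cfsg.Agent.Lib_helper2_Quart
import Cfsg.Agent.Lib_helper2_M24n

set_option autoImplicit false
open scoped Pointwise
open Cfsg

namespace Cfsg.Agent.S1602

open Cfsg.Agent.helper2

open Cfsg.Agent.helper2.Golay Cfsg.Agent.helper27
open MulAction

/-- An octad through `p`, `q`, `q'` meeting the dodecad in six points. -/
def OctProp (d : Finset GolayPt) (p q q' : GolayPt) (o : Finset GolayPt) : Prop :=
  o ∈ octads ∧ p ∈ o ∧ q ∈ o ∧ q' ∈ o ∧ (o ∩ d).card = 6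

theorem base_unique_aux : ∀ m < 4096, (decide (wt (cw m) = 8) && ((cw m).testBit 23 &&
    ((cw m).testBit 5 && ((cw m).testBit 6 && decide (wt (cw m &&& d0m) = 6))))) = true →
      cw m = cw 100 :=
  forall_lt_4096 (by decide +kernel)

theorem base_oct : ∃ o, OctProp (pts d0m) (pt 23) (pt 5) (pt 6) o ∧
    ∀ o', OctProp (pts d0m) (pt 23) (pt 5) (pt 6) o' → o' = o := by
  refine ⟨pts (cw 100), ⟨pts_mem_octads (by norm_num) (by decide +kernel), ?_, ?_, ?_, ?_⟩, ?_⟩
  · rw [mem_pts_pt (by norm_num)]; decide +kernel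
  · rw [mem_pts_pt (by norm_num)]; decide +kernel
  · rw [mem_pts_pt (by norm_num)]; decide +kernel
  · rw [← pts_and, card_pts]; decide +kernel
  · rintro o ⟨ho, h1, h2, h3, h4⟩
    obtain ⟨m, hm, hw, rfl⟩ := exists_of_mem_octads ho
    have h5 : wt (cw m &&& d0m) = 6 := by rw [← card_pts, pts_and]; exact h4
    rw [base_unique_aux m hm (by
      rw [Bool.and_eq_true, Bool.and_eq_true, Bool.and_eq_true, Bool.and_eq_true,
        decide_eq_true_eq, decide_eq_true_eq]
      exact ⟨hw, (mem_pts_pt (by norm_num)).mp h1, (mem_pts_pt (by norm_num)).mp h2,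
        (mem_pts_pt (by norm_num)).mp h3, h5⟩)]

theorem octProp_smul {g : Equiv.Perm GolayPt} (hg : g ∈ M24) {d : Finset GolayPt}
    {p q q' : GolayPt} {o : Finset GolayPt} (h : OctProp d p q q' o) :
    OctProp (g • d) (g p) (g q) (g q') (g • o) := by
  obtain ⟨ho, h1, h2, h3, h4⟩ := h
  refine ⟨smul_mem_octads' hg ho, Finset.smul_mem_smul_finset h1, Finset.smul_mem_smul_finset h2,
    Finset.smul_mem_smul_finset h3, ?_⟩
  rw [card_smul_inter, h4]

/-- Two distinct points as an embedding. -/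
def emb2 {a b : GolayPt} (hab : a ≠ b) : Fin 2 ↪ GolayPt :=
  ⟨![a, b], by
    intro i j h
    fin_cases i <;> fin_cases j <;> simp_all⟩

theorem exists_emb3 {s : Finset GolayPt} (hs : 5 ≤ s.card) {a b : GolayPt} (hab : a ≠ b)
    (ha : a ∈ s) (hb : b ∈ s) : ∃ x : Fin 3 ↪ GolayPt, (∀ i, x i ∈ s) ∧ x 0 = a ∧ x 1 = b := by
  obtain ⟨x5, hx5, hx5x⟩ := extend_emb' (by norm_num : 2 ≤ 5) hs (emb2 hab) (by
    intro i
    fin_cases i
    · exact ha
    · exact hb)
  refine ⟨(Fin.castLEEmb (by norm_num : 3 ≤ 5)).trans x5, fun i => hx5 _, ?_, ?_⟩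
  · exact hx5x 0
  · exact hx5x 1

theorem to_base {d : Finset GolayPt} (hd : d ∈ dodecads) {p q q' : GolayPt} (hp : p ∈ d)
    (hq : q ∉ d) (hq' : q' ∉ d) (hqq' : q ≠ q') :
    ∃ g ∈ M24, g • d = pts d0m ∧ g p = pt 23 ∧ g q = pt 5 ∧ g q' = pt 6 := by
  obtain ⟨h1, hh1, hx, hd1⟩ := dodecad_pt_to_base hd hp
  have hc := compl_mem_dodecads d0_mem
  have h5 : 5 ≤ ((pts d0m)ᶜ).card := by rw [card_of_mem_dodecads hc]; norm_num
  have hmem : ∀ z, z ∉ d → h1 z ∈ (pts d0m)ᶜ := by
    intro z hz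
    rw [Finset.mem_compl, ← hd1]
    intro hcon
    exact hz ((Finset.smul_mem_smul_finset_iff h1).mp hcon)
  have hne : h1 q ≠ h1 q' := fun h => hqq' (h1.injective h)
  obtain ⟨x, hxs, hx0, hx1⟩ := exists_emb3 h5 hne (hmem q hq) (hmem q' hq')
  have h56 : pt 5 ≠ pt 6 := by decide
  obtain ⟨y, hys, hy0, hy1⟩ := exists_emb3 h5 h56
    (by rw [Finset.mem_compl, mem_pts_pt (by norm_num)]; decide)
    (by rw [Finset.mem_compl, mem_pts_pt (by norm_num)]; decide)
  have hp0 : pt 23 ∈ pts d0m := by rw [mem_pts_pt (by norm_num)]; decide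
  obtain ⟨g2, hg2, hg2d, hg2p, hg2x⟩ := flag_three_transitive d0_mem hp0 x y
    (fun i => Finset.mem_compl.mp (hxs i)) (fun i => Finset.mem_compl.mp (hys i))
  refine ⟨g2 * h1, Subgroup.mul_mem _ hg2 hh1, ?_, ?_, ?_, ?_⟩
  · rw [mul_smul, hd1, hg2d]
  · rw [Equiv.Perm.mul_apply, hx, hg2p]
  · rw [Equiv.Perm.mul_apply, ← hx0, hg2x, hy0]
  · rw [Equiv.Perm.mul_apply, ← hx1, hg2x, hy1]

theorem exists_unique_oct {d : Finset GolayPt} (hd : d ∈ dodecads) {p q q' : GolayPt} (hp : p ∈ d)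
    (hq : q ∉ d) (hq' : q' ∉ d) (hqq' : q ≠ q') :
    ∃ o, OctProp d p q q' o ∧ ∀ o', OctProp d p q q' o' → o' = o := by
  obtain ⟨g, hg, hgd, hgp, hgq, hgq'⟩ := to_base hd hp hq hq' hqq'
  obtain ⟨o0, ho0, huniq⟩ := base_oct
  have hback : ∀ o, OctProp (pts d0m) (pt 23) (pt 5) (pt 6) o → OctProp d p q q' (g⁻¹ • o) := by
    intro o ho
    have := octProp_smul (Subgroup.inv_mem _ hg) ho
    have e1 : g⁻¹ • pts d0m = d := by rw [inv_smul_eq_iff, hgd]
    have e2 : g⁻¹ (pt 23) = p := by rw [Equiv.Perm.inv_eq_iff_eq, hgp]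
    have e3 : g⁻¹ (pt 5) = q := by rw [Equiv.Perm.inv_eq_iff_eq, hgq]
    have e4 : g⁻¹ (pt 6) = q' := by rw [Equiv.Perm.inv_eq_iff_eq, hgq']
    rwa [e1, e2, e3, e4] at this
  refine ⟨g⁻¹ • o0, hback o0 ho0, ?_⟩
  intro o' ho'
  have := octProp_smul hg ho'
  rw [hgd, hgp, hgq, hgq'] at this
  rw [← huniq _ this, inv_smul_smul]

theorem result (d : Finset Cfsg.GolayPt) (hd : d ∈ Cfsg.dodecads) (p q q' : Cfsg.GolayPt) (hp : p ∈ d) (hq : q ∉ d) (hq' : q' ∉ d) (hqq' : q ≠ q') : Nonempty (↥(MulAction.stabilizer Cfsg.M24 d ⊓ MulAction.stabilizer Cfsg.M24 p ⊓ MulAction.stabilizer Cfsg.M24 ({q, q'} : Finset Cfsg.GolayPt)) ≃* Equiv.Perm (Fin 5)) := by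
  classical
  obtain ⟨o, ⟨hoct, hpo, hqo, hq'o, h6⟩, huniq⟩ := exists_unique_oct hd hp hq hq' hqq'
  have hhex : o ∩ d ∈ hexadsOn d := ⟨h6, o, hoct, rfl⟩
  have hph : p ∈ o ∩ d := Finset.mem_inter.mpr ⟨hpo, hp⟩
  obtain ⟨F, hFdef⟩ : ∃ F, F = (o ∩ d) \ {p} := ⟨_, rfl⟩
  have hF5 : F.card = 5 := by
    rw [hFdef, Finset.card_sdiff_of_subset (Finset.singleton_subset_iff.mpr hph), h6,
      Finset.card_singleton]
  have hFh : F ⊆ o ∩ d := by rw [hFdef]; exact Finset.sdiff_subset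
  have hFd : F ⊆ d := hFh.trans Finset.inter_subset_right
  have hFo : F ⊆ o := hFh.trans Finset.inter_subset_left
  have hpF : p ∉ F := by rw [hFdef]; simp
  have hins : o ∩ d = insert p F := by
    rw [hFdef]
    ext z
    simp only [Finset.mem_insert, Finset.mem_sdiff, Finset.mem_singleton]
    constructor
    · intro hz
      by_cases hzp : z = p
      · exact Or.inl hzp
      · exact Or.inr ⟨hz, hzp⟩
    · rintro (rfl | hz)
      · exact hph
      · exact hz.1
  have ho8 : o.card = 8 := hoct.2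
  have hod : o \ d = {q, q'} := by
    symm
    apply Finset.eq_of_subset_of_card_le
    · intro z hz
      rw [Finset.mem_insert, Finset.mem_singleton] at hz
      rcases hz with rfl | rfl
      · exact Finset.mem_sdiff.mpr ⟨hqo, hq⟩
      · exact Finset.mem_sdiff.mpr ⟨hq'o, hq'⟩
    · have h1 : (o \ d).card + (o ∩ d).card = o.card := Finset.card_sdiff_add_card_inter o d
      rw [Finset.card_pair hqq']
      omega
  -- invariance in both directions
  have key : ∀ g : Equiv.Perm GolayPt, g ∈ M24 → g • d = d → g • F = F →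
      g p = p ∧ g • ({q, q'} : Finset GolayPt) = {q, q'} := by
    intro g hg hgd hgF
    have h1 : g • (o ∩ d) ∈ hexadsOn d := by
      have := smul_mem_hexadsOn hg hhex
      rwa [hgd] at this
    have h2 : F ⊆ g • (o ∩ d) := by
      rw [← hgF]
      exact Finset.smul_finset_subset_smul_finset hFh
    have h3 : g • (o ∩ d) = o ∩ d := hexad_unique h1 hhex hF5 h2 hFh
    have h4 : g p ∈ o ∩ d := by
      rw [← h3]
      exact Finset.smul_mem_smul_finset hph
    have h5 : g p ∉ F := by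
      intro hcon
      rw [← hgF] at hcon
      exact hpF ((Finset.smul_mem_smul_finset_iff g).mp hcon)
    have hgp : g p = p := by
      rw [hins, Finset.mem_insert] at h4
      rcases h4 with h4 | h4
      · exact h4
      · exact absurd h4 h5
    refine ⟨hgp, ?_⟩
    have h6' : g • o = o := by
      obtain ⟨b, _, hb⟩ := octads_steiner.2 F hF5
      have e1 : g • o = b := hb _ ⟨smul_mem_octads' hg hoct, by
        rw [← hgF]
        exact Finset.smul_finset_subset_smul_finset hFo⟩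
      have e2 : o = b := hb _ ⟨hoct, hFo⟩
      rw [e1, ← e2]
    rw [← hod, Finset.smul_finset_sdiff, h6', hgd]
  have key2 : ∀ g : Equiv.Perm GolayPt, g ∈ M24 → g • d = d → g p = p →
      g • ({q, q'} : Finset GolayPt) = {q, q'} → g • F = F := by
    intro g hg hgd hgp hgq
    have hsub : ({q, q'} : Finset GolayPt) ⊆ g • o := by
      rw [← hgq]
      apply Finset.smul_finset_subset_smul_finset
      intro z hz
      rw [Finset.mem_insert, Finset.mem_singleton] at hz
      rcases hz with rfl | rfl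
      · exact hqo
      · exact hq'o
    have h1 : OctProp d p q q' (g • o) := by
      refine ⟨smul_mem_octads' hg hoct, ?_, hsub (by simp), hsub (by simp), ?_⟩
      · rw [← hgp]
        exact Finset.smul_mem_smul_finset hpo
      · have := card_smul_inter g o d
        rw [hgd] at this
        rw [this, h6]
    have h2 : g • o = o := huniq _ h1
    rw [hFdef, Finset.smul_finset_sdiff, Finset.smul_finset_inter, h2, hgd,
      Finset.smul_finset_singleton]
    show (o ∩ d) \ {g p} = _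
    rw [hgp]
  -- the group
  set H := stabilizer M24 d ⊓ stabilizer M24 p ⊓ stabilizer M24 ({q, q'} : Finset GolayPt)
    with hH
  have hmemH : ∀ g : M24, g ∈ H ↔ (g.1 • d = d ∧ g.1 p = p ∧
      g.1 • ({q, q'} : Finset GolayPt) = {q, q'}) := by
    intro g
    rw [hH, Subgroup.mem_inf, Subgroup.mem_inf, mem_stabilizer_iff, mem_stabilizer_iff,
      mem_stabilizer_iff]
    exact ⟨fun h => ⟨h.1.1, h.1.2, h.2⟩, fun h => ⟨⟨h.1, h.2.1⟩, h.2.2⟩⟩
  have hinvF : ∀ g : H, g.1.1 • F = F := fun g =>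
    key2 g.1.1 g.1.2 ((hmemH g.1).mp g.2).1 ((hmemH g.1).mp g.2).2.1 ((hmemH g.1).mp g.2).2.2
  have hinv : ∀ g : H, ∀ x, g.1.1 x ∈ F ↔ x ∈ F := by
    intro g x
    have := Finset.smul_mem_smul_finset_iff (s := F) (b := x) g.1.1
    rw [hinvF g] at this
    exact this
  let φ : H →* Equiv.Perm {x // x ∈ F} :=
    { toFun := fun g => Equiv.Perm.subtypePerm g.1.1 (hinv g)
      map_one' := by
        apply Equiv.ext
        intro x
        rfl
      map_mul' := by
        intro a b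
        apply Equiv.ext
        intro x
        rfl }
  obtain ⟨x5, hx5⟩ := exists_emb_of_le_card (s := F) (k := 5) (by rw [hF5])
  have hx5surj : ∀ z ∈ F, ∃ i, x5 i = z := by
    intro z hz
    have himg : Finset.univ.map x5 = F := by
      apply Finset.eq_of_subset_of_card_le
      · intro y hy
        obtain ⟨i, _, rfl⟩ := Finset.mem_map.mp hy
        exact hx5 i
      · rw [Finset.card_map, Finset.card_univ, Fintype.card_fin, hF5]
    rw [← himg] at hz
    obtain ⟨i, _, hi⟩ := Finset.mem_map.mp hz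
    exact ⟨i, hi⟩
  have hinj : Function.Injective φ := by
    rw [injective_iff_map_eq_one]
    intro g hg1
    have hfix : ∀ i, g.1.1 (x5 i) = x5 i := by
      intro i
      have := congrArg (fun σ : Equiv.Perm {x // x ∈ F} => (σ ⟨x5 i, hx5 i⟩ : GolayPt)) hg1
      exact this
    have := dodecad_sharp hd x5 (fun i => hFd (hx5 i)) g.1.2 ((hmemH g.1).mp g.2).1 hfix
    apply Subtype.ext
    apply Subtype.ext
    exact this
  have hsurj : Function.Surjective φ := by
    intro σ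
    let y5 : Fin 5 ↪ GolayPt := ⟨fun i => (σ ⟨x5 i, hx5 i⟩ : GolayPt), by
      intro i j hij
      have h1 : σ ⟨x5 i, hx5 i⟩ = σ ⟨x5 j, hx5 j⟩ := Subtype.ext hij
      have h2 := σ.injective h1
      exact x5.injective (Subtype.ext_iff.mp h2)⟩
    have hy5 : ∀ i, y5 i ∈ F := fun i => (σ ⟨x5 i, hx5 i⟩).2
    obtain ⟨g, hg, hgd, hgx⟩ := dodecad_five_transitive hd hd x5 y5 (fun i => hFd (hx5 i))
      (fun i => hFd (hy5 i))
    have hgF : g • F = F := by
      apply Finset.eq_of_subset_of_card_le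
      · intro z hz
        obtain ⟨w, hw, rfl⟩ := Finset.mem_smul_finset.mp hz
        obtain ⟨i, rfl⟩ := hx5surj w hw
        show g (x5 i) ∈ F
        rw [hgx]
        exact hy5 i
      · rw [Finset.card_smul_finset]
    obtain ⟨hgp, hgq⟩ := key g hg hgd hgF
    refine ⟨⟨⟨g, hg⟩, (hmemH _).mpr ⟨hgd, hgp, hgq⟩⟩, ?_⟩
    apply Equiv.ext
    rintro ⟨z, hz⟩
    apply Subtype.ext
    obtain ⟨i, rfl⟩ := hx5surj z hz
    show g (x5 i) = _
    rw [hgx]
    rfl
  have e1 : H ≃* Equiv.Perm {x // x ∈ F} := MulEquiv.ofBijective φ ⟨hinj, hsurj⟩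
  have e2 : {x // x ∈ F} ≃ Fin 5 := Fintype.equivFinOfCardEq (by rw [Fintype.card_coe, hF5])
  exact ⟨e1.trans e2.permCongrHom⟩

end Cfsg.Agent.S1602
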