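import Mathlib
import Cfsg.Statements.S1605
import Cfsg.Agent.Lib_helper2_M24m

set_option autoImplicit false
open scoped Pointwise
open Cfsg

namespace Cfsg.Agent.S1605

open Cfsg.Agent.helper2

open Cfsg.Agent.helper2.Golay Cfsg.Agent.helper27

set_option maxRecDepth 1000000 in
def g1605 : List (List ℕ × List ℕ) := [
  ([5, 14, 0, 1, 4, 2, 10, 22, 8, 7, 11, 6, 12, 20, 3, 18, 16, 17, 21, 13, 19, 15, 9, 23], [2, 3, 5, 14, 4, 0, 11, 9, 8, 22, 6, 10, 12, 19, 1, 21, 16, 17, 15, 20, 13, 18, 7, 23]),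
  ([14, 3, 5, 17, 4, 1, 6, 16, 12, 7, 13, 19, 22, 15, 2, 8, 11, 0, 20, 18, 9, 10, 21, 23], [17, 5, 14, 1, 4, 2, 6, 9, 15, 20, 21, 16, 8, 10, 0, 13, 7, 3, 19, 11, 18, 22, 12, 23])]

set_option maxRecDepth 1000000 in
def t1605 : List (List (ℕ × ℕ × ℕ)) := [
  [],
  [],
  [
    (13938692, 0, 0), (12325377, 0, 0), (15762208, 0, 1), (11055264, 1, 0), (13911680, 1, 1), (9208708, 2, 0), (10491778, 2, 1), (12944642, 3, 1),
    (15207048, 4, 0), (11608708, 4, 1), (14950785, 5, 0), (9769376, 5, 1), (12638592, 6, 0), (12661896, 6, 1), (10832640, 7, 0), (11548936, 7, 1),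
    (12624578, 8, 0), (11469952, 8, 1), (14254209, 9, 0), (8490656, 9, 1), (11654144, 10, 1), (15274244, 11, 0), (13703682, 11, 1), (12849992, 12, 0),
    (14919680, 13, 1), (10584520, 14, 0), (9968772, 14, 1), (9998658, 15, 0), (13276672, 15, 1), (9776129, 17, 1), (13443616, 18, 0), (12912836, 19, 0),
    (8989058, 19, 1), (9279496, 20, 0), (12594948, 20, 1), (8499969, 21, 0), (14949408, 21, 1), (8999616, 22, 0), (15864000, 23, 1), (9929280, 24, 0),
    (11046145, 24, 1), (8592704, 25, 1), (13121601, 26, 0), (9204992, 27, 0), (8796800, 28, 0), (12126304, 29, 0), (10021376, 29, 1), (11831426, 30, 1),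
    (14747201, 31, 0), (13721920, 32, 0), (10825794, 33, 0), (14551296, 33, 1), (9440193, 34, 0), (10525252, 36, 0), (16262146, 36, 1), (8694112, 40, 0),
    (9451104, 42, 0), (15515712, 42, 1), (9020484, 45, 0), (9178690, 45, 1), (10232008, 46, 0), (10028808, 47, 1), (10513600, 48, 1), (13667400, 50, 1),
    (11150144, 51, 0), (13108704, 52, 0), (8688833, 53, 0), (10790408, 54, 1), (11797828, 55, 0), (9610624, 64, 0)],
  [],
  [
    (13062145, 0, 0), (10687016, 0, 0), (15747077, 0, 1), (8622214, 1, 0), (12717187, 1, 1), (8946281, 2, 0), (11028004, 2, 1), (12650793, 3, 1),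
    (12733024, 4, 0), (11100169, 4, 1), (8660134, 5, 0), (8798658, 5, 1), (8431757, 6, 0), (8455014, 7, 0), (11163650, 7, 1), (8521420, 8, 0),
    (11010247, 8, 1), (9543722, 9, 0), (8834052, 9, 1), (14828808, 11, 0), (9506893, 11, 1), (13893731, 12, 0), (9158944, 12, 1), (8471941, 13, 0),
    (8394986, 13, 1), (8581192, 14, 0), (13370381, 14, 1), (8593633, 15, 1), (12641313, 16, 0), (8733800, 16, 1), (10305542, 17, 0), (8555274, 17, 1),
    (10881097, 18, 0), (9969957, 18, 1), (10630149, 19, 1), (8983587, 20, 0), (11551306, 21, 1), (8855820, 22, 0), (8657159, 22, 1), (8484900, 23, 1),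
    (12604486, 24, 0), (13303882, 24, 1), (9835530, 25, 0), (12747077, 25, 1), (10496547, 26, 0), (11952160, 26, 1), (13829156, 27, 0), (8505411, 27, 1),
    (9701932, 28, 0), (10543366, 28, 1), (10554382, 29, 0), (9578566, 29, 1), (9048457, 31, 1), (10650722, 32, 0), (10110017, 32, 1), (8704546, 33, 1),
    (9607201, 34, 0), (12871690, 35, 1), (8963210, 36, 0), (11731203, 37, 0), (10506593, 38, 0), (14176296, 38, 1), (13142054, 39, 1), (8412681, 40, 0),
    (14688364, 40, 1), (8611330, 41, 0), (13771273, 42, 1), (8783649, 43, 0), (9486564, 44, 0), (12222476, 45, 0), (9471495, 45, 1), (9112069, 46, 0),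
    (8931660, 47, 1), (10093218, 48, 1), (9748745, 49, 0), (8426796, 49, 1), (9055272, 50, 1), (12726562, 52, 0), (8398155, 53, 1), (8675909, 54, 1),
    (10768524, 55, 0), (13631886, 55, 1), (9310308, 56, 0), (13124355, 56, 1), (8925710, 61, 0), (15073798, 61, 1), (11272490, 62, 1), (13262980, 63, 1),
    (9652360, 65, 0), (10666625, 66, 1), (10619300, 67, 0), (9465987, 67, 1), (9347075, 69, 0), (9193633, 70, 0), (8414120, 70, 1), (8716939, 73, 1),
    (9589508, 74, 1), (14716939, 77, 1), (9456930, 78, 0), (11535529, 79, 0), (13009064, 84, 1), (10846245, 87, 1), (12698124, 91, 1), (14762146, 95, 0),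
    (12587685, 96, 1)],
  [],
  [],
  [],
  [
    (8536111, 0, 0)]]

theorem g1605_ok : cfgGensOK [23, 4] [cw 47] g1605 = true := by decide +kernel

theorem t1605_ok : t1605.all (treeOK g1605) = true := by decide +kernel

theorem t1605_all : ∀ m < 4096, octCls [23] [4] m < t1605.length →
    (t1605.getD (octCls [23] [4] m) []).any (fun e => e.1 == cw m) = true :=
  forall_lt_4096 (by decide +kernel)

theorem countAll : ((Finset.range 4096).filter (fun m => octAll [23] [4] m = 1)).card = 176 := by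
  rw [count_rows]
  decide +kernel

theorem count2 : ((Finset.range 4096).filter (fun m => octCls [23] [4] m = 2)).card = 70 := by
  rw [count_rows]
  decide +kernel

theorem count4 : ((Finset.range 4096).filter (fun m => octCls [23] [4] m = 4)).card = 105 := by
  rw [count_rows]
  decide +kernel

theorem hin : ∀ i ∈ [23], i < 24 := by decide
theorem hout : ∀ i ∈ [4], i < 24 := by decide

theorem memin {h : Equiv.Perm GolayPt} {p : GolayPt} (hp23 : h p = pt 23) (s : Finset GolayPt) :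
    p ∈ s ↔ ∀ i ∈ [23], pt i ∈ h • s := by
  constructor
  · intro h2 i hi
    rw [List.mem_singleton] at hi
    subst hi
    rw [← hp23, perm_mem_smul_iff]
    exact h2
  · intro h2
    have := h2 23 (by simp)
    rwa [← hp23, perm_mem_smul_iff] at this

theorem memout {h : Equiv.Perm GolayPt} {q : GolayPt} (hq4 : h q = pt 4) (s : Finset GolayPt) :
    q ∉ s ↔ ∀ i ∈ [4], pt i ∉ h • s := by
  constructor
  · intro h2 i hi
    rw [List.mem_singleton] at hi
    subst hi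
    rw [← hq4, perm_mem_smul_iff]
    exact h2
  · intro h2
    have := h2 4 (by simp)
    rwa [← hq4, perm_mem_smul_iff] at this

theorem to_base {p q : GolayPt} {o : Finset GolayPt} (ho : o ∈ octads ∧ p ∈ o ∧ q ∉ o) :
    ∃ h ∈ M24, h p = pt 23 ∧ h q = pt 4 ∧ h • o = pts (cw 47) := by
  obtain ⟨h, hh, hhx, hho, hq4⟩ := octad_out_to_base ho.1 (k := 1) (by norm_num) (emb1 p)
    (fun _ => ho.2.1) ho.2.2
  exact ⟨h, hh, hhx 0, hq4, hho⟩


theorem result (p q : Cfsg.GolayPt) (hpq : p ≠ q) : {x : Finset Cfsg.GolayPt | (x ∈ Cfsg.octads ∧ p ∈ x ∧ q ∉ x)}.ncard = 176 ∧ (∀ o o' : Finset Cfsg.GolayPt, (o ∈ Cfsg.octads ∧ p ∈ o ∧ q ∉ o) → (o' ∈ Cfsg.octads ∧ p ∈ o' ∧ q ∉ o') → ∃ g : Equiv.Perm Cfsg.GolayPt, g ∈ Cfsg.M24 ∧ g p = p ∧ g q = q ∧ g • o = o') ∧ ∀ o : Finset Cfsg.GolayPt, (o ∈ Cfsg.octads ∧ p ∈ o ∧ q ∉ o) → {x : Finset Cfsg.GolayPt | (x ∈ Cfsg.octads ∧ p ∈ x ∧ q ∉ x) ∧ (o ∩ x).card = 2}.ncard = 70 ∧ {x : Finset Cfsg.GolayPt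 | (x ∈ Cfsg.octads ∧ p ∈ x ∧ q ∉ x) ∧ (o ∩ x).card = 4}.ncard = 105 ∧ ∀ o' o'' : Finset Cfsg.GolayPt, (o' ∈ Cfsg.octads ∧ p ∈ o' ∧ q ∉ o') → (o'' ∈ Cfsg.octads ∧ p ∈ o'' ∧ q ∉ o'') → (o ∩ o').card = (o ∩ o'').card → ∃ g : Equiv.Perm Cfsg.GolayPt, g ∈ Cfsg.M24 ∧ g p = p ∧ g q = q ∧ g • o = o ∧ g • o' = o'' := by
  refine ⟨?_, ?_, ?_⟩
  · obtain ⟨h, hh, hp23, hq4⟩ := exists_map_two hpq (show pt 23 ≠ pt 4 by decide)
    have key : ∀ s : Finset GolayPt,
        (s ∈ {x : Finset GolayPt | (x ∈ octads ∧ p ∈ x ∧ q ∉ x)}) ↔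
        h • s ∈ {s : Finset GolayPt | s ∈ octads ∧ (∀ i ∈ [23], pt i ∈ s) ∧
          (∀ i ∈ [4], pt i ∉ s)} := by
      intro s
      rw [Set.mem_ofPred_eq, Set.mem_ofPred_eq, smul_mem_octads_iff hh, ← memin hp23, ← memout hq4]
    rw [ncard_smul_eq h _ _ key, octAll_count _ _ hin hout, countAll]
  · intro o o' ho ho'
    obtain ⟨h1, hh1, h1p, h1q, h1o⟩ := to_base ho
    obtain ⟨h2, hh2, h2p, h2q, h2o⟩ := to_base ho'
    refine ⟨h2⁻¹ * h1, Subgroup.mul_mem _ (Subgroup.inv_mem _ hh2) hh1, ?_, ?_, ?_⟩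
    · rw [Equiv.Perm.mul_apply, h1p, ← h2p, perm_inv_apply]
    · rw [Equiv.Perm.mul_apply, h1q, ← h2q, perm_inv_apply]
    · rw [mul_smul, h1o, ← h2o, inv_smul_smul]
  · intro o ho
    obtain ⟨h, hh, hp23, hq4, hho⟩ := to_base ho
    have key : ∀ k : ℕ, ∀ s : Finset GolayPt,
        (s ∈ {x : Finset GolayPt | (x ∈ octads ∧ p ∈ x ∧ q ∉ x) ∧ (o ∩ x).card = k}) ↔
        h • s ∈ {s : Finset GolayPt | s ∈ octads ∧ (∀ i ∈ [23], pt i ∈ s) ∧
          (∀ i ∈ [4], pt i ∉ s) ∧ (pts (cw 47) ∩ s).card = k} := by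
      intro k s
      rw [Set.mem_ofPred_eq, Set.mem_ofPred_eq, smul_mem_octads_iff hh, ← hho, card_smul_inter,
        ← memin hp23, ← memout hq4]
      constructor
      · rintro ⟨⟨h1, h2, h3⟩, h4⟩
        exact ⟨h1, h2, h3, h4⟩
      · rintro ⟨h1, h2, h3, h4⟩
        exact ⟨⟨h1, h2, h3⟩, h4⟩
    refine ⟨?_, ?_, ?_⟩
    · rw [ncard_smul_eq h _ _ (key 2), octCls_count _ _ hin hout 2 (by norm_num), count2]
    · rw [ncard_smul_eq h _ _ (key 4), octCls_count _ _ hin hout 4 (by norm_num), count4]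
    · intro o' o'' ho' ho'' hc
      have h1 : (pts (cw 47) ∩ h • o').card = (pts (cw 47) ∩ h • o'').card := by
        rw [← hho, card_smul_inter, card_smul_inter]
        exact hc
      obtain ⟨g0, hg0, hg0s⟩ := octCls_trans [23] [4] hin hout _ g1605 (cfgGens_mem g1605_ok)
        t1605 t1605_ok (by decide +kernel) t1605_all
        ((smul_mem_octads_iff hh).mpr ho'.1) ((smul_mem_octads_iff hh).mpr ho''.1)
        ((memin hp23 o').mp ho'.2.1) ((memin hp23 o'').mp ho''.2.1)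
        ((memout hq4 o').mp ho'.2.2) ((memout hq4 o'').mp ho''.2.2) h1
      obtain ⟨c1, c2, c3, c4⟩ := conj_cfg hh hg0
      exact ⟨h⁻¹ * g0 * h, c1, c2 23 (by simp) p hp23, c2 4 (by simp) q hq4,
        c3 (cw 47) (List.mem_singleton.mpr rfl) o hho, c4 o' o'' hg0s⟩

end Cfsg.Agent.S1605
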