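import Mathlib
import Cfsg.Statements.S1608
import Cfsg.Agent.Lib_helper2_M24m

set_option autoImplicit false
open scoped Pointwise
open Cfsg

namespace Cfsg.Agent.S1608

open Cfsg.Agent.helper2

open Cfsg.Agent.helper2.Golay Cfsg.Agent.helper27

set_option maxRecDepth 1000000 in
def g1608 : List (List ℕ × List ℕ) := [
  ([23, 2, 17, 0, 4, 1, 16, 20, 21, 19, 18, 11, 7, 15, 14, 12, 13, 3, 8, 10, 6, 22, 9, 5], [3, 5, 1, 17, 4, 23, 20, 12, 18, 22, 19, 11, 15, 16, 14, 13, 6, 2, 10, 9, 7, 8, 21, 0]),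
  ([2, 17, 5, 3, 4, 23, 22, 21, 6, 9, 18, 8, 10, 20, 1, 16, 11, 0, 13, 15, 7, 12, 19, 14], [17, 14, 0, 3, 4, 2, 8, 20, 11, 9, 12, 16, 21, 18, 23, 19, 15, 1, 10, 22, 13, 7, 6, 5])]

set_option maxRecDepth 1000000 in
def t1608 : List (List (ℕ × ℕ × ℕ)) := [
  [
    (4038912, 0, 0), (6337856, 0, 0), (1161408, 0, 1), (6656640, 1, 0), (6100032, 1, 1), (7409024, 2, 1), (5780352, 3, 0), (2702848, 3, 1),
    (337856, 4, 0), (5024896, 4, 1), (7612992, 5, 0), (2890176, 5, 1), (3704512, 6, 0), (1351424, 7, 1), (4819776, 10, 0)],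
  [],
  [
    (4845570, 0, 0), (63108, 0, 0), (1805314, 0, 1), (2019456, 1, 0), (3474978, 1, 1), (277580, 2, 0), (493953, 2, 1), (1070536, 3, 0),
    (2204803, 3, 1), (4989254, 4, 0), (8796800, 4, 1), (5514536, 5, 1), (11548936, 6, 0), (2173253, 6, 1), (3489985, 7, 0), (6554826, 7, 1),
    (13938692, 8, 0), (3610628, 8, 1), (2328324, 9, 0), (5939296, 9, 1), (1608104, 10, 0), (3172097, 10, 1), (2392899, 11, 0), (10232008, 11, 1),
    (6326497, 12, 0), (14919680, 13, 0), (5249380, 13, 1), (13721920, 14, 0), (6305926, 14, 1), (5571333, 15, 0), (7221256, 15, 1), (168928, 16, 0),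
    (1664160, 16, 1), (4336072, 17, 0), (15777, 17, 1), (334433, 18, 1), (104010, 19, 0), (14254209, 19, 1), (3152963, 20, 0), (10584520, 20, 1),
    (15515712, 21, 0), (1315526, 21, 1), (15274244, 22, 0), (4403780, 22, 1), (1148257, 23, 0), (7397512, 23, 1), (13703682, 24, 0), (4241960, 25, 0),
    (1661185, 25, 1), (2296514, 26, 0), (13108704, 26, 1), (2220640, 27, 0), (5785794, 27, 1), (5409412, 28, 0), (3806496, 28, 1), (11150144, 29, 0),
    (535268, 29, 1), (4229001, 30, 0), (1618953, 30, 1), (3739786, 31, 0), (14747201, 31, 1), (1369154, 32, 0), (11831426, 32, 1), (3246601, 33, 0),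
    (7864649, 33, 1), (11797828, 34, 1), (8989058, 35, 0), (12594948, 35, 1), (864389, 36, 0), (4656648, 36, 1), (9451104, 37, 0), (2738308, 37, 1),
    (12912836, 38, 0), (4593028, 38, 1), (7417889, 39, 0), (6379592, 39, 1), (4282144, 40, 0), (1769924, 41, 0), (6432416, 41, 1), (580704, 42, 1),
    (762504, 43, 0), (5770785, 43, 1), (10825794, 44, 0), (5296705, 45, 0), (675712, 46, 1), (563843, 47, 0), (10028808, 47, 1), (10513600, 48, 0),
    (36294, 48, 1), (5842956, 49, 0), (6429441, 49, 1), (1134148, 52, 0), (6979970, 52, 1), (1710664, 53, 0), (2687905, 53, 1), (8688833, 54, 1),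
    (6915112, 55, 0), (15762208, 56, 1), (12325377, 57, 0), (2949708, 57, 1), (1410188, 58, 1), (5252293, 59, 0), (2268296, 59, 1), (13443616, 60, 0),
    (5003780, 60, 1), (381252, 61, 0), (5709954, 61, 1), (2322816, 62, 1), (13121601, 63, 0), (72588, 63, 1), (4755660, 64, 1), (6750560, 65, 0),
    (4485344, 65, 1), (3189796, 66, 0), (3328320, 66, 1), (3050016, 67, 0), (1852256, 67, 1), (9610624, 68, 0), (797449, 69, 0), (884962, 70, 0),
    (13911680, 70, 1), (5405696, 71, 0), (2201890, 71, 1), (1256224, 72, 0), (6842656, 72, 1), (3539848, 73, 0), (2892897, 73, 1), (12624578, 74, 0),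
    (9968772, 74, 1), (4287105, 75, 0), (4726026, 75, 1), (2908802, 76, 0), (9178690, 76, 1), (3351624, 77, 0), (6062602, 78, 0), (351362, 79, 0),
    (12944642, 79, 1), (9208708, 81, 1), (4301220, 82, 0), (8999616, 83, 0), (4785798, 83, 1), (3951624, 84, 0), (314056, 86, 1), (5621792, 87, 0),
    (7622914, 87, 1), (175681, 89, 0), (15207048, 90, 0), (530245, 90, 1), (1009728, 91, 0), (4459426, 91, 1), (7345676, 92, 0), (2854977, 92, 1),
    (593097, 93, 0), (16262146, 94, 0), (10525252, 94, 1), (9769376, 95, 0), (6644740, 95, 1), (4470275, 96, 0), (9279496, 96, 1), (6820450, 97, 0),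
    (4924673, 99, 0), (1454401, 100, 0), (2435240, 100, 1), (9929280, 101, 0), (8126628, 101, 1), (5511305, 102, 0), (2430217, 102, 1), (567074, 103, 0),
    (10021376, 103, 1), (4271202, 105, 1), (1090380, 106, 0), (3811457, 106, 1), (8490656, 108, 0), (5817604, 108, 1), (2101096, 109, 1), (1250945, 110, 0),
    (6365962, 111, 0), (1164162, 112, 0), (4626498, 113, 0), (4264387, 114, 1), (8499969, 115, 1), (2704706, 116, 0), (3444840, 117, 0), (11046145, 118, 0),
    (1127686, 119, 0), (1836419, 121, 1), (8592704, 122, 1), (2664522, 123, 0), (9440193, 123, 1), (6344194, 124, 0), (9998658, 124, 1), (2110153, 125, 1),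
    (1675812, 127, 0), (8077824, 127, 1), (1445088, 128, 0), (2409888, 128, 1), (3672838, 129, 1), (2363013, 130, 0), (951624, 130, 1), (3322370, 131, 1),
    (855332, 132, 0), (4645632, 132, 1), (4563017, 133, 0), (1337732, 135, 0), (2501890, 135, 1), (2372388, 136, 0), (12126304, 138, 1), (1975812, 140, 0),
    (4476225, 141, 0), (307594, 141, 1), (31554, 143, 0), (6308804, 144, 0), (668866, 144, 1), (2675464, 146, 1), (11469952, 147, 0), (4490852, 147, 1),
    (126216, 148, 0), (5286147, 148, 1), (5112513, 150, 0), (792232, 150, 1), (12661896, 151, 0), (4299781, 151, 1), (9776129, 152, 0), (6588684, 152, 1),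
    (4921504, 154, 0), (3154402, 155, 0), (1849378, 156, 1), (13276672, 159, 1), (10790408, 160, 0), (1869893, 160, 1), (602472, 163, 0), (5375810, 164, 0),
    (11055264, 164, 1), (2631052, 165, 1), (14950785, 166, 0), (2921478, 167, 0), (371206, 169, 0), (14551296, 169, 1), (5309160, 170, 1), (13667400, 171, 0),
    (3182981, 171, 1), (10832640, 172, 1), (2512448, 173, 0), (7145475, 174, 0), (12849992, 174, 1), (6857221, 176, 0), (3698756, 177, 0), (11608708, 179, 0),
    (6949956, 179, 1), (14949408, 183, 0), (2531524, 184, 0), (5476616, 187, 1), (987906, 189, 1), (2168036, 190, 0), (4441280, 190, 1), (4744776, 193, 0),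
    (1378634, 194, 0), (8694112, 200, 1), (1647171, 201, 1), (12638592, 206, 1), (1352353, 207, 1), (7767041, 212, 1), (6837377, 213, 0), (2422785, 214, 1),
    (1060490, 224, 0), (7438406, 225, 0), (15864000, 225, 1), (902657, 227, 1), (5017889, 228, 0), (1405448, 228, 1), (5280930, 232, 0), (11654144, 232, 1),
    (504864, 235, 1), (702724, 236, 0), (582081, 237, 1), (5063048, 239, 1), (3168928, 247, 1), (9204992, 249, 1), (9020484, 258, 0), (10491778, 268, 0)],
  [],
  [
    (13062145, 0, 0), (8414120, 0, 0), (551943, 0, 1), (3719203, 1, 0), (11551306, 1, 1), (8834052, 2, 0), (1474854, 2, 1), (12604486, 3, 0),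
    (8622214, 3, 1), (4800613, 4, 0), (4346506, 4, 1), (416040, 5, 0), (352547, 5, 1), (2232654, 6, 0), (8593633, 6, 1), (475812, 7, 0),
    (5129250, 7, 1), (1192108, 8, 0), (2313249, 8, 1), (8611330, 9, 0), (13142054, 9, 1), (1589901, 10, 0), (2754059, 10, 1), (2115979, 11, 0),
    (8398155, 11, 1), (10543366, 12, 0), (9578566, 12, 1), (6488205, 13, 0), (4330601, 13, 1), (9543722, 14, 0), (15747077, 14, 1), (1728778, 15, 0),
    (10496547, 15, 1), (280334, 16, 0), (9347075, 16, 1), (1212619, 17, 0), (11535529, 17, 1), (12871690, 18, 0), (8657159, 18, 1), (843820, 19, 0),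
    (1460739, 19, 1), (138790, 20, 0), (9158944, 20, 1), (10110017, 21, 0), (2130606, 21, 1), (13370381, 22, 0), (430605, 22, 1), (10846245, 24, 0),
    (5652556, 24, 1), (6475812, 25, 0), (1265762, 25, 1), (231532, 26, 0), (5390753, 26, 1), (13771273, 27, 0), (2627629, 27, 1), (8716939, 28, 0),
    (45159, 29, 0), (9652360, 29, 1), (12733024, 30, 0), (545190, 30, 1), (2147405, 31, 0), (9589508, 32, 1), (3031301, 33, 0), (402026, 33, 1),
    (8426796, 34, 0), (1302533, 34, 1), (9506893, 35, 0), (13893731, 36, 0), (10768524, 36, 1), (52005, 37, 0), (10619300, 38, 0), (157028, 38, 1),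
    (185603, 39, 0), (8931660, 40, 0), (140167, 40, 1), (919694, 41, 0), (8783649, 41, 1), (2126890, 42, 0), (8505411, 42, 1), (8733800, 43, 0),
    (4505735, 43, 1), (5902343, 44, 0), (10687016, 44, 1), (9048457, 46, 0), (75309, 46, 1), (12726562, 47, 0), (8484900, 47, 1), (213833, 48, 0),
    (4726955, 48, 1), (8983587, 49, 1), (90318, 50, 0), (12717187, 50, 1), (210955, 51, 0), (12650793, 51, 1), (11010247, 52, 1), (8946281, 53, 0),
    (9969957, 55, 0), (2255372, 55, 1), (13829156, 56, 1), (1075305, 57, 0), (608810, 58, 0), (13124355, 58, 1), (3294342, 59, 0), (10650722, 59, 1),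
    (4526126, 60, 1), (2769128, 61, 0), (18147, 61, 1), (14828808, 62, 0), (622863, 63, 0), (2494627, 64, 0), (8581192, 65, 0), (1116327, 65, 1),
    (4213932, 66, 1), (8455014, 67, 0), (13262980, 67, 1), (11163650, 69, 0), (7473194, 70, 0), (10506593, 70, 1), (2605066, 71, 0), (459847, 72, 1),
    (4243818, 73, 1), (12222476, 74, 0), (3277413, 74, 1), (1182989, 75, 0), (2269481, 75, 1), (11272490, 76, 0), (8675909, 76, 1), (9835530, 77, 1),
    (4409606, 78, 1), (2826278, 80, 1), (8521420, 81, 0), (689317, 81, 1), (8412681, 82, 1), (9701932, 84, 1), (190626, 86, 0), (9456930, 86, 1),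
    (11100169, 87, 0), (4196943, 87, 1), (9471495, 88, 0), (8660134, 89, 0), (8431757, 92, 0), (12698124, 95, 1), (9486564, 96, 1), (4900873, 97, 0),
    (1053483, 97, 1), (9193633, 98, 1), (13631886, 99, 1), (8555274, 100, 1), (11028004, 101, 0), (705094, 101, 1), (9055272, 104, 1), (5325835, 105, 0),
    (14716939, 105, 1), (10305542, 106, 0), (15073798, 106, 1), (6570537, 107, 0), (806987, 107, 1), (10630149, 108, 0), (118953, 110, 0), (1230376, 114, 0),
    (14762146, 117, 0), (4223245, 118, 0), (8855820, 119, 0), (4597797, 119, 1), (2183687, 120, 0), (13303882, 120, 1), (12587685, 122, 1), (10881097, 123, 0),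
    (262637, 123, 1), (6292775, 125, 0), (5268006, 126, 1), (418953, 127, 1), (657763, 128, 1), (4367374, 129, 0), (9607201, 129, 1), (2031657, 130, 0),
    (1103886, 134, 0), (11731203, 134, 1), (2377830, 135, 0), (8798658, 135, 1), (12641313, 136, 0), (9112069, 137, 0), (4850476, 137, 1), (9310308, 138, 0),
    (11952160, 139, 1), (3227948, 140, 1), (684577, 141, 0), (8704546, 148, 1), (742412, 149, 0), (4424227, 149, 1), (298027, 150, 0), (9748745, 150, 1),
    (8925710, 155, 1), (8471941, 156, 0), (13009064, 157, 0), (1332261, 157, 1), (9465987, 158, 0), (10554382, 158, 1), (10666625, 161, 0), (1573998, 161, 1),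
    (10093218, 166, 0), (14688364, 168, 1), (3416079, 171, 1), (12747077, 172, 1), (8394986, 174, 0), (153797, 176, 0), (198058, 176, 1), (6447171, 179, 1),
    (8963210, 186, 0), (14176296, 198, 0)],
  [],
  [],
  [],
  [
    (8536111, 0, 0)]]

theorem g1608_ok : cfgGensOK [4] [cw 47] g1608 = true := by decide +kernel

theorem t1608_ok : t1608.all (treeOK g1608) = true := by decide +kernel

theorem t1608_all : ∀ m < 4096, octCls [] [4] m < t1608.length →
    (t1608.getD (octCls [] [4] m) []).any (fun e => e.1 == cw m) = true :=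
  forall_lt_4096 (by decide +kernel)

theorem count0 : ((Finset.range 4096).filter (fun m => octCls [] [4] m = 0)).card = 15 := by
  rw [count_rows]
  decide +kernel

theorem count2 : ((Finset.range 4096).filter (fun m => octCls [] [4] m = 2)).card = 280 := by
  rw [count_rows]
  decide +kernel

theorem count4 : ((Finset.range 4096).filter (fun m => octCls [] [4] m = 4)).card = 210 := by
  rw [count_rows]
  decide +kernel

theorem hin : ∀ i ∈ ([] : List ℕ), i < 24 := by decide
theorem hout : ∀ i ∈ [4], i < 24 := by decide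


theorem result (x : Cfsg.GolayPt) (o : Finset Cfsg.GolayPt) (ho : o ∈ Cfsg.octads) (hx : x ∉ o) : {o' : Finset Cfsg.GolayPt | o' ∈ Cfsg.octads ∧ x ∉ o' ∧ (o ∩ o').card = 0}.ncard = 15 ∧ {o' : Finset Cfsg.GolayPt | o' ∈ Cfsg.octads ∧ x ∉ o' ∧ (o ∩ o').card = 4}.ncard = 210 ∧ {o' : Finset Cfsg.GolayPt | o' ∈ Cfsg.octads ∧ x ∉ o' ∧ (o ∩ o').card = 2}.ncard = 280 ∧ ∀ o' o'' : Finset Cfsg.GolayPt, o' ∈ Cfsg.octads → o'' ∈ Cfsg.octads → x ∉ o' → x ∉ o'' → (o ∩ o').card = (o ∩ o'').card → ∃ g : Equiv.Perm Cfsg.GolayPt, g ∈ Cfsg.M24 ∧ g x = x ∧ g • o = o ∧ g • o' = o'' := by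
  obtain ⟨h, hh, -, hho, hx4⟩ := octad_out_to_base ho (k := 0) (by norm_num)
    (Function.Embedding.ofIsEmpty) (fun i => i.elim0) hx
  have memout : ∀ s : Finset GolayPt, x ∉ s ↔ ∀ i ∈ [4], pt i ∉ h • s := by
    intro s
    constructor
    · intro h2 i hi
      rw [List.mem_singleton] at hi
      subst hi
      rw [← hx4, perm_mem_smul_iff]
      exact h2
    · intro h2
      have := h2 4 (by simp)
      rwa [← hx4, perm_mem_smul_iff] at this
  have key : ∀ k : ℕ, ∀ s : Finset GolayPt,
      (s ∈ {o' : Finset GolayPt | o' ∈ octads ∧ x ∉ o' ∧ (o ∩ o').card = k}) ↔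
      h • s ∈ {s : Finset GolayPt | s ∈ octads ∧ (∀ i ∈ ([] : List ℕ), pt i ∈ s) ∧
        (∀ i ∈ [4], pt i ∉ s) ∧ (pts (cw 47) ∩ s).card = k} := by
    intro k s
    rw [Set.mem_ofPred_eq, Set.mem_ofPred_eq, smul_mem_octads_iff hh, ← hho, card_smul_inter, ← memout]
    constructor
    · rintro ⟨h1, h2, h4⟩
      exact ⟨h1, fun i hi => absurd hi List.not_mem_nil, h2, h4⟩
    · rintro ⟨h1, _, h2, h4⟩
      exact ⟨h1, h2, h4⟩
  refine ⟨?_, ?_, ?_, ?_⟩
  · rw [ncard_smul_eq h _ _ (key 0), octCls_count _ _ hin hout 0 (by norm_num), count0]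
  · rw [ncard_smul_eq h _ _ (key 4), octCls_count _ _ hin hout 4 (by norm_num), count4]
  · rw [ncard_smul_eq h _ _ (key 2), octCls_count _ _ hin hout 2 (by norm_num), count2]
  · intro o' o'' ho' ho'' hxo' hxo'' hc
    have h1 : (pts (cw 47) ∩ h • o').card = (pts (cw 47) ∩ h • o'').card := by
      rw [← hho, card_smul_inter, card_smul_inter]
      exact hc
    obtain ⟨g0, hg0, hg0s⟩ := octCls_trans [] [4] hin hout _ g1608 (cfgGens_mem g1608_ok)
      t1608 t1608_ok (by decide +kernel) t1608_all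
      ((smul_mem_octads_iff hh).mpr ho') ((smul_mem_octads_iff hh).mpr ho'')
      (fun i hi => absurd hi List.not_mem_nil) (fun i hi => absurd hi List.not_mem_nil)
      ((memout o').mp hxo') ((memout o'').mp hxo'') h1
    obtain ⟨c1, c2, c3, c4⟩ := conj_cfg hh hg0
    exact ⟨h⁻¹ * g0 * h, c1, c2 4 (by simp) x hx4,
      c3 (cw 47) (List.mem_singleton.mpr rfl) o hho, c4 o' o'' hg0s⟩

end Cfsg.Agent.S1608
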