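import Cfsg.Statements.S1610
import Mathlib
import Cfsg.Agent.Lib_helper8_Hexa

set_option autoImplicit false
open Cfsg

namespace Cfsg.Agent.S1610

open Cfsg.Agent.helper8.Hexa

/-- The hexacode has 64 words, minimum weight 4, and weight distribution 0^1 4^45 6^18. -/
theorem result (F : Type*) [Field F] [Fintype F] [DecidableEq F] (hF : Fintype.card F = 4) (ω : F) (hω : ω ^ 2 + ω + 1 = 0) : Nat.card ↥(Cfsg.hexacode F ω) = 64 ∧ (∀ x ∈ Cfsg.hexacode F ω, x ≠ 0 → (Finset.univ.filter fun i => x i ≠ 0).card = 4 ∨ (Finset.univ.filter fun i => x i ≠ 0).card = 6) ∧ {x : Fin 6 → F | x ∈ Cfsg.hexacode F ω ∧ (Finset.univ.filter fun i => x i ≠ 0).card = 4}.ncard = 45 ∧ {x : Fin 6 → F | x ∈ Cfsg.hexacode F ω ∧ (Finset.univ.filter fun i => x i ≠ 0).card = 6}.ncard = 18 := by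
  have h2 := two_eq_zero hF
  refine ⟨card_hexacode ω hF hω, ?_, ?_, ?_⟩
  · intro x hx hne
    obtain ⟨a, b, c, rfl⟩ := (mem_hexacode_iff ω hF hω x).mp hx
    have hw := wt_phiV ω h2 hω (encK a b c)
    rw [hw]
    rcases wtK_enc a b c with h | h | h
    · exfalso
      apply hne
      rw [wtK, Finset.card_eq_zero, Finset.filter_eq_empty_iff] at h
      funext i
      have := h (Finset.mem_univ i)
      push Not at this
      simp only [phiV, this, Pi.zero_apply]
      exact phi_zero ω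
    · exact Or.inl h
    · exact Or.inr h
  · rw [ncard_wt ω hF hω, cntK4]
  · rw [ncard_wt ω hF hω, cntK6]

end Cfsg.Agent.S1610
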