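import Mathlib
import Cfsg.Statements.S1618
import Cfsg.Agent.Lib_helper12_ZP1

set_option autoImplicit false
open Cfsg

namespace Cfsg.Agent.S1618


theorem s1618_pcore_mem {G : Type*} [Group G] [Finite G] (p : ℕ) [Fact p.Prime] :
    (Cfsg.pCore p G).Normal ∧ IsPGroup p (Cfsg.pCore p G) := by
  classical
  set S : Set (Subgroup G) := {N : Subgroup G | N.Normal ∧ IsPGroup p N} with hS
  have hfin : S.Finite := Set.toFinite S
  have hne : S.Nonempty := ⟨⊥, by
    refine ⟨inferInstance, ?_⟩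
    exact IsPGroup.of_bot⟩
  obtain ⟨M, hM⟩ := hfin.exists_maximal hne
  have hMS : M ∈ S := hM.prop
  have hle : ∀ N ∈ S, N ≤ M := by
    intro N hN
    have hsup : N ⊔ M ∈ S := by
      obtain ⟨hNn, hNp⟩ := hN
      obtain ⟨hMn, hMp⟩ := hMS
      refine ⟨?_, ?_⟩
      · exact Subgroup.sup_normal N M
      · exact IsPGroup.to_sup_of_normal_right hNp hMp
    have : N ⊔ M ≤ M := hM.le_of_ge hsup le_sup_right
    exact le_trans le_sup_left this
  have heq : Cfsg.pCore p G = M := by
    apply le_antisymm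
    · exact sSup_le hle
    · exact le_sSup hMS
  rw [heq]
  exact hMS

theorem result {G : Type*} [Group G] [Finite G] (p : ℕ) (hp : p.Prime) (hodd : p ≠ 2) {D : Set G} (hinv : ∀ d ∈ D, orderOf d = 2) (hconj : ∃ d ∈ D, D = conjugatesOf d) (hgen : Subgroup.closure D = ⊤) (hprod : ∀ x ∈ D, ∀ y ∈ D, x ≠ y → ∃ k : ℕ, orderOf (x * y) = p ^ k) : Group.IsNilpotent ↥(commutator G) := by
  classical
  have : Fact p.Prime := ⟨hp⟩
  obtain ⟨d0, hd0, hD⟩ := hconj
  have hd0' : orderOf d0 = 2 := hinv d0 hd0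
  have hprod' : ∀ a ∈ conjugatesOf d0, ∀ b ∈ conjugatesOf d0,
      ∃ k : ℕ, orderOf (a * b) = p ^ k := by
    intro a ha b hb
    by_cases hab : a = b
    · refine ⟨0, ?_⟩
      have ha2 : orderOf a = 2 := hinv a (hD ▸ ha)
      have : a * a = 1 := by
        rw [← pow_two, ← ha2]; exact pow_orderOf_eq_one a
      rw [← hab, this, orderOf_one, pow_zero]
    · exact hprod a (hD ▸ ha) b (hD ▸ hb) hab
  have hmain := Cfsg.Agent.helper12.zp_main hp hodd d0 hd0' hprod'
  obtain ⟨hNn, hNp⟩ := s1618_pcore_mem (G := G) p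
  set N := Cfsg.pCore p G with hN
  have := hNn
  -- the quotient is generated by the image of d0
  have hd0sq : d0 * d0 = 1 := by
    rw [← pow_two, ← hd0']; exact pow_orderOf_eq_one d0
  have hcyc : ∀ x : G ⧸ N, x ∈ Subgroup.zpowers ((d0 : G) : G ⧸ N) := by
    have hmap : Subgroup.map (QuotientGroup.mk' N) (Subgroup.closure D) = ⊤ := by
      rw [hgen]
      exact Subgroup.map_top_of_surjective _ (QuotientGroup.mk'_surjective N)
    rw [MonoidHom.map_closure] at hmap
    have hsub : Subgroup.closure ((QuotientGroup.mk' N) '' D) ≤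
        Subgroup.zpowers ((d0 : G) : G ⧸ N) := by
      rw [Subgroup.closure_le]
      rintro _ ⟨a, ha, rfl⟩
      have h1 : a * d0 ∈ N := hmain a (hD ▸ ha) d0 (hD ▸ hd0)
      have h2 : ((a : G) : G ⧸ N) = ((d0 : G) : G ⧸ N) := by
        rw [QuotientGroup.eq]
        have ha2 : orderOf a = 2 := hinv a ha
        have haa : a * a = 1 := by
          rw [← pow_two, ← ha2]; exact pow_orderOf_eq_one a
        have hainv : a⁻¹ = a := (eq_inv_of_mul_eq_one_left haa).symm
        rw [hainv]
        exact h1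
      show ((a : G) : G ⧸ N) ∈ _
      rw [h2]
      exact Subgroup.mem_zpowers _
    intro x
    apply hsub
    rw [hmap]
    exact Subgroup.mem_top x
  have hcomm : ∀ x y : G ⧸ N, x * y = y * x := by
    intro x y
    obtain ⟨i, rfl⟩ := Subgroup.mem_zpowers_iff.mp (hcyc x)
    obtain ⟨j, rfl⟩ := Subgroup.mem_zpowers_iff.mp (hcyc y)
    rw [← zpow_add, ← zpow_add, add_comm]
  have hle : commutator G ≤ N := by
    rw [commutator_def, Subgroup.commutator_le]
    intro g _ h _
    rw [← QuotientGroup.eq_one_iff]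
    rw [commutatorElement_def]
    simp only [QuotientGroup.mk_mul, QuotientGroup.mk_inv]
    rw [hcomm (g : G ⧸ N) (h : G ⧸ N)]
    group
  have hP : IsPGroup p (commutator G) := hNp.to_le hle
  exact hP.isNilpotent

end Cfsg.Agent.S1618
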