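import Mathlib
import Cfsg.Statements.S1628
import Cfsg.Agent.Lib_helper2_Ru1
import Cfsg.Agent.Lib_helper2_Ru2
import Cfsg.Agent.Lib_helper2_Ru3
import Cfsg.Agent.Lib_helper2_Ru4
import Cfsg.Agent.Lib_helper2_Ru5
import Cfsg.Agent.Lib_helper2_Ru6

set_option autoImplicit false
open Cfsg

namespace Cfsg.Agent.S1628

open Cfsg.Agent.helper2

open Cfsg.Agent.helper2.Ru Cfsg.Spor in
theorem aux_nonneg (x : RuVec) : 0 ≤ ruNorm x := by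
  rw [ruNorm_eq_sum]; exact Finset.sum_nonneg (fun p _ => nrm_nonneg _)


theorem result : (∀ x ∈ Cfsg.Spor.ruLattice, (8 : ℤ) ∣ Cfsg.Spor.ruNorm x) ∧ (∀ x ∈ Cfsg.Spor.ruLattice, Cfsg.Spor.ruNorm x ≠ 8) ∧ (∀ x ∈ Cfsg.Spor.ruLattice, x ≠ 0 → 16 ≤ Cfsg.Spor.ruNorm x) ∧ ∃ x ∈ Cfsg.Spor.ruLattice, Cfsg.Spor.ruNorm x = 16 := by
  have p1 : ∀ x ∈ Cfsg.Spor.ruLattice, (8 : ℤ) ∣ Cfsg.Spor.ruNorm x :=
    fun x hx => Cfsg.Agent.helper2.Ru.norm_dvd (Cfsg.Agent.helper2.Ru.ruLattice_le hx)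
  have p2 : ∀ x ∈ Cfsg.Spor.ruLattice, Cfsg.Spor.ruNorm x ≠ 8 :=
    fun x hx h8 => Cfsg.Agent.helper2.Ru.no_norm8 (Cfsg.Agent.helper2.Ru.ruLattice_le hx) h8
  refine ⟨p1, p2, ?_, Cfsg.Agent.helper2.Ru.ru_main.2.2.2⟩
  intro x hx hx0
  have h1 := p1 x hx
  have h2 := p2 x hx
  have h3 : 0 ≤ Cfsg.Spor.ruNorm x := aux_nonneg x
  have h4 : Cfsg.Spor.ruNorm x ≠ 0 := by
    intro h0
    apply hx0
    rw [Cfsg.Agent.helper2.Ru.ruNorm_eq_sum] at h0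
    have := (Finset.sum_eq_zero_iff_of_nonneg
      (fun p _ => Cfsg.Agent.helper2.Ru.nrm_nonneg (x p))).mp h0
    funext p
    exact Cfsg.Agent.helper2.Ru.eq_zero_of_nrm _ (this p (Finset.mem_univ p))
  omega

end Cfsg.Agent.S1628
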