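import Cfsg.Statements.S1635
import Cfsg.Agent.Lib_helper28_GolayInst

set_option autoImplicit false
open Cfsg

namespace Cfsg.Agent.S1635

/-- Coset leaders of the length-24 code: a coset contains a unique word of weight ≤ 3, or else exactly six words of weight 4 and none lighter. -/
theorem result (w : Cfsg.GolayPt → ZMod 2) : ({v : Cfsg.GolayPt → ZMod 2 | hammingNorm v ≤ 4 ∧ w - v ∈ Cfsg.golayCode}.ncard = 1 ∧ ∃ v : Cfsg.GolayPt → ZMod 2, hammingNorm v ≤ 3 ∧ w - v ∈ Cfsg.golayCode) ∨ ({v : Cfsg.GolayPt → ZMod 2 | hammingNorm v ≤ 4 ∧ w - v ∈ Cfsg.golayCode}.ncard = 6 ∧ ∀ v : Cfsg.GolayPt → ZMod 2, w - v ∈ Cfsg.golayCode → hammingNorm v ≤ 4 → hammingNorm v = 4) := by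
  classical
  have hG := Cfsg.Agent.helper28.Octad.isGolay_golayCode
  have hswap : ∀ v : Cfsg.GolayPt → ZMod 2, w - v ∈ Cfsg.golayCode ↔ v - w ∈ Cfsg.golayCode := by
    intro v
    rw [← neg_sub w v, Submodule.neg_mem_iff]
  rcases Cfsg.Agent.helper28.GolayGen.covering hG.card Cfsg.golayCode hG.dim hG.min w with
    ⟨u, hu, hu3, huniq⟩ | ⟨h6, h4⟩
  · left
    refine ⟨?_, u, hu3, (hswap u).2 hu⟩
    have : {v : Cfsg.GolayPt → ZMod 2 | hammingNorm v ≤ 4 ∧ w - v ∈ Cfsg.golayCode} = {u} := by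
      ext v
      simp only [Set.mem_ofPred_eq, Set.mem_singleton_iff]
      constructor
      · rintro ⟨h1, h2⟩
        exact huniq v ((hswap v).1 h2) h1
      · rintro rfl
        exact ⟨by omega, (hswap v).2 hu⟩
    rw [this, Set.ncard_singleton]
  · right
    refine ⟨?_, fun v hv hv4 => h4 v ((hswap v).1 hv) hv4⟩
    have : {v : Cfsg.GolayPt → ZMod 2 | hammingNorm v ≤ 4 ∧ w - v ∈ Cfsg.golayCode} =
        ↑(Finset.univ.filter (fun u : Cfsg.GolayPt → ZMod 2 => u - w ∈ Cfsg.golayCode ∧ hammingNorm u ≤ 4)) := by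
      ext v
      simp only [Set.mem_ofPred_eq, Finset.coe_filter, Finset.mem_univ, true_and]
      rw [hswap v, and_comm]
    rw [this, Set.ncard_coe_finset, h6]

end Cfsg.Agent.S1635
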