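import Mathlib
import Cfsg.Statements.S1638
import Cfsg.Agent.Lib_helper2_M24t

set_option autoImplicit false
open scoped Pointwise
open Cfsg

namespace Cfsg.Agent.S1638

open Cfsg.Agent.helper2

open Cfsg.Agent.helper2.Golay Cfsg.Agent.helper27

theorem not_disjoint_self {s : Finset GolayPt} (hs : s.card = 2) : ¬ Disjoint s s := by
  rw [Finset.disjoint_self_iff_empty]
  intro h
  rw [h] at hs
  exact absurd hs (by norm_num)

theorem cl22_eq_two {p q : GolayPt} {s t : Finset GolayPt} (hs : s.card = 2) :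
    cl22 p q s t = 2 ↔ Disjoint s t ∧ ∃ o ∈ octads, p ∈ o ∧ q ∈ o ∧ s ∪ t ⊆ o := by
  unfold cl22
  rw [Finset.disjoint_iff_inter_eq_empty, ← Finset.card_eq_zero]
  by_cases h00 : t = s
  · rw [if_pos h00]
    constructor
    · intro h
      omega
    · rintro ⟨h, _⟩
      rw [h00, Finset.inter_self, hs] at h
      omega
  · rw [if_neg h00]
    by_cases h0 : (s ∩ t).card ≠ 0
    · rw [if_pos h0]
      constructor
      · intro h
        omega
      · intro h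
        exact absurd h.1 h0
    · rw [if_neg h0]
      push Not at h0
      by_cases h1 : ∃ o ∈ octads, p ∈ o ∧ q ∈ o ∧ s ∪ t ⊆ o
      · rw [if_pos h1]
        exact ⟨fun _ => ⟨h0, h1⟩, fun _ => rfl⟩
      · rw [if_neg h1]
        constructor
        · intro h
          omega
        · intro h
          exact absurd h.2 h1

theorem cl22_eq_three {p q : GolayPt} {s t : Finset GolayPt} (hs : s.card = 2) :
    cl22 p q s t = 3 ↔ Disjoint s t ∧ ¬ ∃ o ∈ octads, p ∈ o ∧ q ∈ o ∧ s ∪ t ⊆ o := by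
  unfold cl22
  rw [Finset.disjoint_iff_inter_eq_empty, ← Finset.card_eq_zero]
  by_cases h00 : t = s
  · rw [if_pos h00]
    constructor
    · intro h
      omega
    · rintro ⟨h, _⟩
      rw [h00, Finset.inter_self, hs] at h
      omega
  · rw [if_neg h00]
    by_cases h0 : (s ∩ t).card ≠ 0
    · rw [if_pos h0]
      constructor
      · intro h
        omega
      · intro h
        exact absurd h.1 h0
    · rw [if_neg h0]
      push Not at h0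
      by_cases h1 : ∃ o ∈ octads, p ∈ o ∧ q ∈ o ∧ s ∪ t ⊆ o
      · rw [if_pos h1]
        constructor
        · intro h
          omega
        · intro h
          exact absurd h1 h.2
      · rw [if_neg h1]
        exact ⟨fun _ => ⟨h0, h1⟩, fun _ => rfl⟩


theorem result (p q : Cfsg.GolayPt) (hpq : p ≠ q) (s : Finset Cfsg.GolayPt) (hs : (s.card = 2 ∧ p ∉ s ∧ q ∉ s)) : {t : Finset Cfsg.GolayPt | (t.card = 2 ∧ p ∉ t ∧ q ∉ t) ∧ Disjoint s t ∧ (∃ o ∈ Cfsg.octads, p ∈ o ∧ q ∈ o ∧ s ∪ t ⊆ o)}.ncard = 30 ∧ {t : Finset Cfsg.GolayPt | (t.card = 2 ∧ p ∉ t ∧ q ∉ t) ∧ Disjoint s t ∧ ¬ (∃ o ∈ Cfsg.octads, p ∈ o ∧ q ∈ o ∧ s ∪ t ⊆ o)}.ncard = 160 ∧ ∀ t t' : Finset Cfsg.GolayPt, (t.card = 2 ∧ p ∉ t ∧ q ∉ t) → (t'.card = 2 ∧ p ∉ t' ∧ q ∉ t') → t ≠ s → t' ≠ s → (s ∩ t).card = (s ∩ t').card → ((∃ o ∈ Cfsg.octads, p ∈ o ∧ q ∈ o ∧ s ∪ t ⊆ o) ↔ (∃ o ∈ Cfsg.octads, p ∈ o ∧ q ∈ o ∧ s ∪ t' ⊆ o)) → ∃ g : Equiv.Perm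 Cfsg.GolayPt, g ∈ Cfsg.M24 ∧ g p = p ∧ g q = q ∧ g • s = s ∧ g • t = t' := by
  obtain ⟨h, hh, h0, h1, hs6⟩ := cfg22_to_base hpq hs
  have hpair : ∀ t : Finset GolayPt, (t.card = 2 ∧ p ∉ t ∧ q ∉ t) ↔
      ((h • t).card = 2 ∧ pt 23 ∉ h • t ∧ pt 0 ∉ h • t) := by
    intro t
    rw [Finset.card_smul_finset, ← h0, ← h1, perm_mem_smul_iff, perm_mem_smul_iff]
  have hcl : ∀ t : Finset GolayPt,
      cl22 (pt 23) (pt 0) (pts 6) (h • t) = cl22 p q s t := by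
    intro t
    rw [← h0, ← h1, ← hs6, cl22_smul hh]
  have key : ∀ i : ℕ, ∀ t : Finset GolayPt,
      (t ∈ {t : Finset GolayPt | (t.card = 2 ∧ p ∉ t ∧ q ∉ t) ∧ cl22 p q s t = i}) ↔
      h • t ∈ {t : Finset GolayPt | (t.card = 2 ∧ pt 23 ∉ t ∧ pt 0 ∉ t) ∧
        cl22 (pt 23) (pt 0) (pts 6) t = i} := by
    intro i t
    rw [Set.mem_ofPred_eq, Set.mem_ofPred_eq, hcl, ← hpair]
  refine ⟨?_, ?_, ?_⟩
  · rw [← count22_2, ← base_count22 2, ← ncard_smul_eq h _ _ (key 2)]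
    congr 1
    ext t
    rw [Set.mem_ofPred_eq, Set.mem_ofPred_eq, cl22_eq_two hs.1]
  · rw [← count22_3, ← base_count22 3, ← ncard_smul_eq h _ _ (key 3)]
    congr 1
    ext t
    rw [Set.mem_ofPred_eq, Set.mem_ofPred_eq, cl22_eq_three hs.1]
  · intro t t' ht ht' hts hts' hc hiff
    have hcl2 : cl22 p q s t = cl22 p q s t' := by
      unfold cl22
      rw [if_neg hts, if_neg hts']
      have e1 : ((s ∩ t').card ≠ 0) ↔ ((s ∩ t).card ≠ 0) := by rw [hc]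
      by_cases hz : (s ∩ t).card ≠ 0
      · rw [if_pos hz, if_pos (e1.mpr hz)]
      · rw [if_neg hz, if_neg (fun hy => hz (e1.mp hy))]
        by_cases hx : ∃ o ∈ octads, p ∈ o ∧ q ∈ o ∧ s ∪ t ⊆ o
        · rw [if_pos hx, if_pos (hiff.mp hx)]
        · rw [if_neg hx, if_neg (fun hy => hx (hiff.mpr hy))]
    obtain ⟨g0, hg0, hg0t⟩ := base_trans22 ((hpair t).mp ht) ((hpair t').mp ht')
      (by rw [hcl, hcl]; exact hcl2)
    obtain ⟨c1, c2, c3, c4⟩ := conj_cfg hh hg0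
    exact ⟨h⁻¹ * g0 * h, c1, c2 23 (by simp) p h0, c2 0 (by simp) q h1,
      c3 6 (List.mem_singleton.mpr rfl) s hs6, c4 t t' hg0t⟩

end Cfsg.Agent.S1638
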