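import Cfsg.Statements.S1691
import Mathlib

set_option autoImplicit false
open Cfsg

namespace Cfsg.Agent.S1691

open Cfsg.Spor

/-- Coxeter relators hold in a Coxeter-presented group. -/
theorem cox_rel {α : Type*} [DecidableEq α] (edges : List (α × ℕ × α)) (extra : List (FreeGroup α))
    (x y : α) (hx : x ∈ coxNodes edges) (hy : y ∈ coxNodes edges) :
    ((PresentedGroup.of x : CoxPresented α edges extra) * PresentedGroup.of y) ^ coxLabel edges x y = 1 := by
  have h : (FreeGroup.of x * FreeGroup.of y) ^ coxLabel edges x y ∈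
      coxRelators edges ∪ {r | r ∈ extra} := Or.inl ⟨x, hx, y, hy, rfl⟩
  have := PresentedGroup.one_of_mem h
  simpa [PresentedGroup.of] using this

/-- in a commutative quotient, generators joined by an edge labelled 3 have the same image -/
theorem ab_eq_of_edge {α : Type*} [DecidableEq α] (edges : List (α × ℕ × α)) (extra : List (FreeGroup α))
    {A : Type*} [CommGroup A] (ψ : CoxPresented α edges extra →* A)
    (x y : α) (hx : x ∈ coxNodes edges) (hy : y ∈ coxNodes edges) (hxy : coxLabel edges x y = 3) :
    ψ (PresentedGroup.of x) = ψ (PresentedGroup.of y) := by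
  have hxx : ψ (PresentedGroup.of x) ^ 2 = 1 := by
    have := cox_rel edges extra x x hx hx
    have hl : coxLabel edges x x = 1 := by simp [coxLabel]
    rw [hl, pow_one] at this
    rw [pow_two, ← map_mul, this, map_one]
  have hyy : ψ (PresentedGroup.of y) ^ 2 = 1 := by
    have := cox_rel edges extra y y hy hy
    have hl : coxLabel edges y y = 1 := by simp [coxLabel]
    rw [hl, pow_one] at this
    rw [pow_two, ← map_mul, this, map_one]
  have h3 := cox_rel edges extra x y hx hy
  rw [hxy] at h3
  have h3' : (ψ (PresentedGroup.of x) * ψ (PresentedGroup.of y)) ^ 3 = 1 := by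
    rw [← map_mul, ← map_pow, h3, map_one]
  rw [mul_pow] at h3'
  have e1 : ψ (PresentedGroup.of x) ^ 3 = ψ (PresentedGroup.of x) := by
    rw [pow_succ, hxx, one_mul]
  have e2 : ψ (PresentedGroup.of y) ^ 3 = ψ (PresentedGroup.of y) := by
    rw [pow_succ, hyy, one_mul]
  rw [e1, e2] at h3'
  -- x̄ ȳ = 1 and ȳ² = 1
  calc ψ (PresentedGroup.of x) = ψ (PresentedGroup.of x) * ψ (PresentedGroup.of y) ^ 2 := by
        rw [hyy, mul_one]
    _ = (ψ (PresentedGroup.of x) * ψ (PresentedGroup.of y)) * ψ (PresentedGroup.of y) := by
        rw [pow_two, mul_assoc]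
    _ = ψ (PresentedGroup.of y) := by rw [h3', one_mul]

theorem sq_gen {α : Type*} [DecidableEq α] (edges : List (α × ℕ × α)) (extra : List (FreeGroup α))
    (x : α) (hx : x ∈ coxNodes edges) :
    (PresentedGroup.of x : CoxPresented α edges extra) ^ 2 = 1 := by
  have := cox_rel edges extra x x hx hx
  have hl : coxLabel edges x x = 1 := by simp [coxLabel]
  rw [hl, pow_one] at this
  rw [pow_two, this]

/-- the sign homomorphism -/
noncomputable def sgn : Fi24 →* Multiplicative (ZMod 2) :=
  PresentedGroup.toGroup (f := fun _ => Multiplicative.ofAdd (1 : ZMod 2)) (by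
    intro r hr
    rcases hr with ⟨x, _, y, _, rfl⟩ | hr
    · simp only [map_pow, map_mul, FreeGroup.lift_apply_of]
      have : Multiplicative.ofAdd (1 : ZMod 2) * Multiplicative.ofAdd (1 : ZMod 2) = 1 := by decide
      rw [this, one_pow]
    · have hr' : r ∈ Fi24.extra := hr
      simp only [Fi24.extra, List.mem_cons, List.not_mem_nil, or_false] at hr'
      rcases hr' with rfl | rfl
      · simp only [map_pow, map_mul, map_inv, FreeGroup.lift_apply_of]
        decide
      · simp only [map_pow, map_mul, map_inv, FreeGroup.lift_apply_of]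
        decide)

theorem sgn_of (x : Fi24.Gen) : sgn (PresentedGroup.of x) = Multiplicative.ofAdd (1 : ZMod 2) := by
  unfold sgn
  rw [PresentedGroup.toGroup.of]

theorem result : (commutator Cfsg.Spor.Fi24).index = 2 := by
  -- lower bound
  have hsurj : Function.Surjective sgn := by
    intro y
    by_cases hy : y = 1
    · exact ⟨1, by rw [map_one, hy]⟩
    · refine ⟨PresentedGroup.of Fi24.Gen.l, ?_⟩
      rw [sgn_of]
      revert hy; revert y; decide
  have hker : sgn.ker.index = 2 := by
    rw [Subgroup.index_ker, MonoidHom.range_eq_top_of_surjective sgn hsurj, Subgroup.card_top]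
    simp [Nat.card_eq_fintype_card]
  have hle : commutator Fi24 ≤ sgn.ker := Abelianization.commutator_subset_ker sgn
  have hdvd : 2 ∣ (commutator Fi24).index := by
    rw [← hker]; exact Subgroup.index_dvd_of_le hle
  -- upper bound
  let ψ : Fi24 →* Abelianization Fi24 := Abelianization.of
  let s : Abelianization Fi24 := ψ (PresentedGroup.of Fi24.Gen.l)
  have hs2 : s ^ 2 = 1 := by
    show ψ _ ^ 2 = 1
    rw [← map_pow, sq_gen Fi24.edges Fi24.extra Fi24.Gen.l (by decide), map_one]
  have hedge : ∀ x y : Fi24.Gen, x ∈ coxNodes Fi24.edges → y ∈ coxNodes Fi24.edges →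
      coxLabel Fi24.edges x y = 3 → ψ (PresentedGroup.of x) = ψ (PresentedGroup.of y) :=
    fun x y hx hy hxy => ab_eq_of_edge Fi24.edges Fi24.extra ψ x y hx hy hxy
  have hk : ψ (PresentedGroup.of Fi24.Gen.k) = s := (hedge .l .k (by decide) (by decide) (by decide)).symm
  have ha : ψ (PresentedGroup.of Fi24.Gen.a) = s := by
    rw [← hk]; exact (hedge .k .a (by decide) (by decide) (by decide)).symm
  have hb : ψ (PresentedGroup.of Fi24.Gen.b) = s := by
    rw [← ha]; exact (hedge .a .b (by decide) (by decide) (by decide)).symm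
  have hc : ψ (PresentedGroup.of Fi24.Gen.c) = s := by
    rw [← hb]; exact (hedge .b .c (by decide) (by decide) (by decide)).symm
  have hd : ψ (PresentedGroup.of Fi24.Gen.d) = s := by
    rw [← hc]; exact (hedge .c .d (by decide) (by decide) (by decide)).symm
  have he : ψ (PresentedGroup.of Fi24.Gen.e) = s := by
    rw [← hd]; exact (hedge .d .e (by decide) (by decide) (by decide)).symm
  have hf : ψ (PresentedGroup.of Fi24.Gen.f) = s := by
    rw [← he]; exact (hedge .e .f (by decide) (by decide) (by decide)).symm
  have hg : ψ (PresentedGroup.of Fi24.Gen.g) = s := by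
    rw [← hf]; exact (hedge .f .g (by decide) (by decide) (by decide)).symm
  have hj : ψ (PresentedGroup.of Fi24.Gen.j) = s := by
    rw [← hg]; exact (hedge .g .j (by decide) (by decide) (by decide)).symm
  have hh : ψ (PresentedGroup.of Fi24.Gen.h) = s := by
    rw [← hd]; exact (hedge .d .h (by decide) (by decide) (by decide)).symm
  have hi : ψ (PresentedGroup.of Fi24.Gen.i) = s := by
    rw [← hh]; exact (hedge .h .i (by decide) (by decide) (by decide)).symm
  have hall : ∀ x : Fi24.Gen, ψ (PresentedGroup.of x) = s := by
    intro x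
    cases x
    · rfl
    · exact hk
    · exact ha
    · exact hb
    · exact hc
    · exact hd
    · exact he
    · exact hf
    · exact hg
    · exact hj
    · exact hh
    · exact hi
  have hgen : ∀ w : Fi24, ψ w ∈ Subgroup.zpowers s := by
    intro w
    have := PresentedGroup.generated_by _ ((Subgroup.zpowers s).comap ψ) (fun x => by
      rw [Subgroup.mem_comap, hall x]; exact Subgroup.mem_zpowers s) w
    exact this
  have htwo : ∀ y : Abelianization Fi24, y = 1 ∨ y = s := by
    intro y
    obtain ⟨w, rfl⟩ := QuotientGroup.mk_surjective y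
    obtain ⟨k, hk⟩ := hgen w
    have hk' : ψ w = s ^ k := hk.symm
    change ψ w = 1 ∨ ψ w = s
    rw [hk']
    have hmod : s ^ k = s ^ (k % 2) := by
      conv_lhs => rw [← Int.emod_add_mul_ediv k 2]
      rw [zpow_add, zpow_mul]
      have : s ^ (2 : ℤ) = 1 := by
        have : s ^ ((2 : ℕ) : ℤ) = 1 := by rw [zpow_natCast]; exact hs2
        simpa using this
      rw [this, one_zpow, mul_one]
    rw [hmod]
    rcases Int.emod_two_eq_zero_or_one k with h | h
    · left; rw [h, zpow_zero]
    · right; rw [h, zpow_one]
  have hfun : Function.Surjective (fun b : Bool => if b then s else (1 : Abelianization Fi24)) := by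
    intro y
    rcases htwo y with h | h
    · exact ⟨false, by simp [h]⟩
    · exact ⟨true, by simp [h]⟩
  have hfin : Finite (Abelianization Fi24) := Finite.of_surjective _ hfun
  have hcard : Nat.card (Abelianization Fi24) ≤ 2 := by
    have := Nat.card_le_card_of_surjective _ hfun
    simpa using this
  have hidx : (commutator Fi24).index = Nat.card (Abelianization Fi24) := Subgroup.index_eq_card _
  have hpos : 0 < Nat.card (Abelianization Fi24) := Nat.card_pos
  rw [hidx] at hdvd ⊢
  obtain ⟨m, hm⟩ := hdvd
  omega

end Cfsg.Agent.S1691
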