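import Cfsg.Statements.S1717
import Mathlib
import Cfsg.Agent.Lib_helper6_SL52
import Cfsg.Agent.Lib_helper5_Sylow
import Cfsg.Agent.Lib_helper10_Sylow
-- import your own Cfsg.Agent.* helpers here

set_option autoImplicit false
open Cfsg

namespace Cfsg.Agent.S1717

open Cfsg.Agent.helper6.SL52

/-- a central element of a Sylow 2-subgroup of `C(s)` is `1` or `s` -/
theorem center_sylow (s : SL)
    (hs : (s : Matrix (Fin 5) (Fin 5) (ZMod 2)) = Matrix.transvection 0 1 1)
    (Q : Sylow 2 ↥(Subgroup.centralizer ({s} : Set SL)))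
    (y : ↥(Subgroup.centralizer ({s} : Set SL)))
    (hy : ∀ q ∈ Q, y * q = q * y) : (y : SL) = 1 ∨ (y : SL) = s := by
  have hle : U5 ≤ Subgroup.centralizer ({s} : Set SL) := by
    intro u hu
    rw [Subgroup.mem_centralizer_iff]
    intro h hh
    rw [Set.mem_singleton_iff] at hh
    rw [hh]
    exact (U5_commute s hs u hu).symm
  have hP : IsPGroup 2 (U5.subgroupOf (Subgroup.centralizer ({s} : Set SL))) :=
    isPGroup_U5.comap_subtype
  obtain ⟨g, hg⟩ := Cfsg.Agent.helper10.pgroup_conj_into_sylow Q _ hP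
  have hgs : (g : SL) * s = s * (g : SL) := by
    have := g.2
    rw [Subgroup.mem_centralizer_iff] at this
    exact (this s rfl).symm
  have hc := centralizer_U5 s hs ((g : SL)⁻¹ * (y : SL) * (g : SL)) (by
    intro u hu
    have hu' : (⟨u, hle hu⟩ : ↥(Subgroup.centralizer ({s} : Set SL))) ∈
        U5.subgroupOf (Subgroup.centralizer ({s} : Set SL)) := by
      rw [Subgroup.mem_subgroupOf]
      exact hu
    have h1 : g * ⟨u, hle hu⟩ * g⁻¹ ∈ Q := by
      apply hg
      exact ⟨_, hu', rfl⟩
    have h2 := hy _ h1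
    have h3 := congrArg (fun x : ↥(Subgroup.centralizer ({s} : Set SL)) => (x : SL)) h2
    simp only [Subgroup.coe_mul, Subgroup.coe_inv] at h3
    calc (g : SL)⁻¹ * (y : SL) * (g : SL) * u
        = (g : SL)⁻¹ * ((y : SL) * ((g : SL) * u * (g : SL)⁻¹)) * (g : SL) := by group
      _ = (g : SL)⁻¹ * (((g : SL) * u * (g : SL)⁻¹) * (y : SL)) * (g : SL) := by rw [h3]
      _ = u * ((g : SL)⁻¹ * (y : SL) * (g : SL)) := by group)
  rcases hc with h | h
  · left
    have : (y : SL) = (g : SL) * ((g : SL)⁻¹ * (y : SL) * (g : SL)) * (g : SL)⁻¹ := by group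
    rw [this, h]
    group
  · right
    have : (y : SL) = (g : SL) * ((g : SL)⁻¹ * (y : SL) * (g : SL)) * (g : SL)⁻¹ := by group
    rw [this, h, hgs]
    group

theorem core {G : Type*} [Group G] [Finite G] (s : Matrix.SpecialLinearGroup (Fin 5) (ZMod 2))
    (hs : (s : Matrix (Fin 5) (Fin 5) (ZMod 2)) = Matrix.transvection 0 1 1) (z : G)
    (hz : orderOf z = 2) (C : Subgroup G) (hC : C = Subgroup.centralizer ({z} : Set G))
    (e : C ≃* Subgroup.centralizer ({s} : Set (Matrix.SpecialLinearGroup (Fin 5) (ZMod 2))))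
    (T : Sylow 2 C) : ¬ 2 ∣ ((T : Subgroup C).map C.subtype).index := by
  have hfact : Fact (Nat.Prime 2) := ⟨Nat.prime_two⟩
  intro hdvd
  -- z as an element of C
  have hzC : z ∈ C := by
    rw [hC, Subgroup.mem_centralizer_iff]
    intro h hh
    rw [Set.mem_singleton_iff] at hh
    rw [hh]
  have hcomm : ∀ c ∈ C, z * c = c * z := by
    intro c hc
    rw [hC, Subgroup.mem_centralizer_iff] at hc
    exact hc z rfl
  let zC : C := ⟨z, hzC⟩
  have hzC1 : zC ≠ 1 := by
    intro h
    have : z = 1 := congrArg Subtype.val h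
    rw [this, orderOf_one] at hz
    omega
  -- zC lies in T
  have hzT : zC ∈ T := by
    have hn : (Subgroup.zpowers zC).Normal := by
      constructor
      intro n hn g
      obtain ⟨k, rfl⟩ := Subgroup.mem_zpowers_iff.mp hn
      have h1 : g * zC ^ k * g⁻¹ = zC ^ k := by
        have h2 : g * zC = zC * g := by
          apply Subtype.ext
          rw [Subgroup.coe_mul, Subgroup.coe_mul]
          exact (hcomm g g.2).symm
        have h3 : Commute g (zC ^ k) := (Commute.zpow_right h2 k)
        rw [h3.eq, mul_assoc, mul_inv_cancel, mul_one]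
      rw [h1]
      exact Subgroup.zpow_mem_zpowers zC k
    have hp : IsPGroup 2 (Subgroup.zpowers zC) := by
      apply IsPGroup.of_card (n := 1)
      rw [Nat.card_zpowers, pow_one]
      have : orderOf zC = orderOf z := by
        rw [← Subgroup.orderOf_coe]
      rw [this, hz]
    exact Cfsg.Agent.helper5.normal_le_sylow 2 (Subgroup.zpowers zC) hp T
      (Subgroup.mem_zpowers zC)
  -- the image of T in G
  set T' : Subgroup G := (T : Subgroup C).map C.subtype with hT'
  have hT'p : IsPGroup 2 T' := T.isPGroup'.map _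
  have hT'C : T' ≤ C := by
    rintro _ ⟨t, _, rfl⟩
    exact t.2
  have hmemT' : ∀ c : C, (c : G) ∈ T' ↔ c ∈ T := by
    intro c
    constructor
    · rintro ⟨t, ht, htc⟩
      have : t = c := Subtype.ext htc
      rw [← this]
      exact ht
    · intro hc
      exact ⟨c, hc, rfl⟩
  obtain ⟨S, hS⟩ := hT'p.exists_le_sylow
  have hlt : T' < S := by
    apply lt_of_le_of_ne hS
    intro h
    rw [h] at hdvd
    exact S.not_dvd_index hdvd
  obtain ⟨x, hxS, hxT, hxN⟩ := Cfsg.Agent.helper5.exists_mem_normalizer_not_mem 2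
    (S : Subgroup G) T' S.isPGroup' hlt
  -- the conjugate w = x z x⁻¹
  have hzT' : z ∈ T' := (hmemT' zC).mpr hzT
  have hwT' : x * z * x⁻¹ ∈ T' := (Subgroup.mem_normalizer_iff.mp hxN z).mp hzT'
  let wC : C := ⟨x * z * x⁻¹, hT'C hwT'⟩
  have hwT : wC ∈ T := (hmemT' wC).mp hwT'
  have hwC1 : wC ≠ 1 := by
    intro h
    have h1 : x * z * x⁻¹ = 1 := congrArg Subtype.val h
    have h2 : z = 1 := by
      have : z = x⁻¹ * (x * z * x⁻¹) * x := by group
      rw [this, h1]; group
    rw [h2, orderOf_one] at hz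
    omega
  -- centrality in T
  have hzcent : ∀ q ∈ T, zC * q = q * zC := by
    intro q _
    apply Subtype.ext
    rw [Subgroup.coe_mul, Subgroup.coe_mul]
    exact hcomm q q.2
  have hwcent : ∀ q ∈ T, wC * q = q * wC := by
    intro q hq
    apply Subtype.ext
    rw [Subgroup.coe_mul, Subgroup.coe_mul]
    have hq' : (q : G) ∈ T' := (hmemT' q).mpr hq
    have h1 : x⁻¹ * (q : G) * x ∈ T' := by
      have := (Subgroup.mem_normalizer_iff.mp hxN (x⁻¹ * (q : G) * x)).mpr (by
        have : x * (x⁻¹ * (q : G) * x) * x⁻¹ = (q : G) := by group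
        rw [this]; exact hq')
      exact this
    have h2 := hcomm _ (hT'C h1)
    show x * z * x⁻¹ * (q : G) = (q : G) * (x * z * x⁻¹)
    calc x * z * x⁻¹ * (q : G) = x * (z * (x⁻¹ * (q : G) * x)) * x⁻¹ := by group
      _ = x * ((x⁻¹ * (q : G) * x) * z) * x⁻¹ := by rw [h2]
      _ = (q : G) * (x * z * x⁻¹) := by group
  -- transport to SL(5,2)
  have hsurj : Function.Surjective e.toMonoidHom := e.surjective
  let Q : Sylow 2 ↥(Subgroup.centralizer ({s} : Set (Matrix.SpecialLinearGroup (Fin 5) (ZMod 2)))) :=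
    T.mapSurjective hsurj
  have hQ : ∀ t ∈ T, e t ∈ Q := by
    intro t ht
    have : (Q : Subgroup _) = (T : Subgroup C).map e.toMonoidHom := Sylow.coe_mapSurjective hsurj T
    show e t ∈ (Q : Subgroup _)
    rw [this]
    exact ⟨t, ht, rfl⟩
  have hQ' : ∀ q ∈ Q, ∃ t ∈ T, e t = q := by
    intro q hq
    have : (Q : Subgroup _) = (T : Subgroup C).map e.toMonoidHom := Sylow.coe_mapSurjective hsurj T
    have hq' : q ∈ (Q : Subgroup _) := hq
    rw [this] at hq'
    obtain ⟨t, ht, rfl⟩ := hq'
    exact ⟨t, ht, rfl⟩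
  have hez : ((e zC : ↥(Subgroup.centralizer ({s} : Set _))) : Matrix.SpecialLinearGroup (Fin 5) (ZMod 2)) = s := by
    have h1 := center_sylow s hs Q (e zC) (by
      intro q hq
      obtain ⟨t, ht, rfl⟩ := hQ' q hq
      rw [← map_mul, ← map_mul, hzcent t ht])
    rcases h1 with h | h
    · exfalso
      apply hzC1
      apply e.injective
      rw [map_one]
      exact Subtype.ext h
    · exact h
  have hew : ((e wC : ↥(Subgroup.centralizer ({s} : Set _))) : Matrix.SpecialLinearGroup (Fin 5) (ZMod 2)) = s := by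
    have h1 := center_sylow s hs Q (e wC) (by
      intro q hq
      obtain ⟨t, ht, rfl⟩ := hQ' q hq
      rw [← map_mul, ← map_mul, hwcent t ht])
    rcases h1 with h | h
    · exfalso
      apply hwC1
      apply e.injective
      rw [map_one]
      exact Subtype.ext h
    · exact h
  have hwz : wC = zC := by
    apply e.injective
    apply Subtype.ext
    rw [hez, hew]
  have hxz : x * z * x⁻¹ = z := congrArg Subtype.val hwz
  have hxC : x ∈ C := by
    rw [hC, Subgroup.mem_centralizer_iff]
    intro h hh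
    rw [Set.mem_singleton_iff] at hh
    rw [hh]
    have : x * z = (x * z * x⁻¹) * x := by group
    rw [this, hxz]
  -- contradiction with maximality of T
  have hP' : IsPGroup 2 ((S : Subgroup G).subgroupOf C) := S.isPGroup'.comap_subtype
  have hTle : (T : Subgroup C) ≤ (S : Subgroup G).subgroupOf C := by
    intro t ht
    rw [Subgroup.mem_subgroupOf]
    exact hS ((hmemT' t).mpr ht)
  have hmax := T.is_maximal' hP' hTle
  have hxT2 : (⟨x, hxC⟩ : C) ∈ (T : Subgroup C) := by
    rw [← hmax, Subgroup.mem_subgroupOf]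
    exact hxS
  exact hxT ((hmemT' ⟨x, hxC⟩).mpr hxT2)


/-- Let G be a finite group with an involution z whose centraliser C is isomorphic to the centraliser of a transvection of SL(5, 2). Then a Sylow 2-subgroup of C, viewed in G, is a Sylow 2-subgroup of G (its index in G is odd). -/
theorem result {G : Type*} [Group G] [Finite G] (s : Matrix.SpecialLinearGroup (Fin 5) (ZMod 2)) (hs : (s : Matrix (Fin 5) (Fin 5) (ZMod 2)) = Matrix.transvection 0 1 1) (z : G) (hz : orderOf z = 2) (e : (Subgroup.centralizer ({z} : Set G)) ≃* Subgroup.centralizer ({s} : Set (Matrix.SpecialLinearGroup (Fin 5) (ZMod 2)))) (T : Sylow 2 (Subgroup.centralizer ({z} : Set G))) : ¬ 2 ∣ ((T : Subgroup (Subgroup.centralizer ({z} : Set G))).map (Subgroup.subtype (Subgroup.centralizer ({z} : Set G)))).index := by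
  exact core s hs z hz _ rfl e T

end Cfsg.Agent.S1717
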