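import Cfsg.Statements.S1755
import Cfsg.Agent.Lib_helper9_Basic
import Mathlib

set_option autoImplicit false
open Cfsg

namespace Cfsg.Agent.S1755

open Cfsg.Agent.helper9

theorem mem_map_conj {G : Type*} [Group G] (H : Subgroup G) (g x : G) :
    x ∈ H.map (MulAut.conj g).toMonoidHom ↔ g⁻¹ * x * g ∈ H := by
  constructor
  · rintro ⟨y, hy, rfl⟩
    simp only [MulEquiv.coe_toMonoidHom, MulAut.conj_apply]
    have : g⁻¹ * (g * y * g⁻¹) * g = y := by group
    rw [this]; exact hy
  · intro h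
    exact ⟨g⁻¹ * x * g, h, by simp only [MulEquiv.coe_toMonoidHom, MulAut.conj_apply]; group⟩

theorem main {G : Type*} [Group G] [Finite G] (z : G) (hz : orderOf z = 2)
    (C : Subgroup G) (hCdef : C = Subgroup.centralizer ({z} : Set G))
    (Q : Subgroup ↥C) (hQdef : Q = Cfsg.generalizedFittingSubgroup ↥C)
    (hQ : Cfsg.IsOfSymplecticType ↥Q)
    (B : Subgroup ↥Q) (hBc : B.Characteristic) (hBa : IsMulCommutative ↥B) (g : G) :
    ((B.map Q.subtype).map C.subtype).map (MulAut.conj g).toMonoidHom =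
        (B.map Q.subtype).map C.subtype ∨
      ((B.map Q.subtype).map C.subtype).map (MulAut.conj g).toMonoidHom ⊓
        (B.map Q.subtype).map C.subtype = ⊥ := by
  -- the image of B in G
  obtain ⟨Bg, hBg⟩ : ∃ Bg : Subgroup G, Bg = (B.map Q.subtype).map C.subtype := ⟨_, rfl⟩
  rw [← hBg]
  have hmemBg : ∀ x : G, x ∈ Bg ↔ ∃ (hx : x ∈ C) (hxQ : (⟨x, hx⟩ : C) ∈ Q), (⟨⟨x, hx⟩, hxQ⟩ : Q) ∈ B := by
    intro x
    rw [hBg]
    constructor
    · rintro ⟨c, ⟨q, hq, rfl⟩, rfl⟩
      exact ⟨q.1.2, q.2, hq⟩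
    · rintro ⟨hx, hxQ, hb⟩
      exact ⟨⟨x, hx⟩, ⟨⟨⟨x, hx⟩, hxQ⟩, hb, rfl⟩, rfl⟩
  by_cases hB : B = ⊥
  · left
    have : Bg = ⊥ := by rw [hBg, hB, Subgroup.map_bot, Subgroup.map_bot]
    rw [this, Subgroup.map_bot]
  -- z as an element of C and of Q
  have hzC : z ∈ C := by rw [hCdef]; exact Subgroup.mem_centralizer_singleton_iff.mpr rfl
  let zC : C := ⟨z, hzC⟩
  have hzCcenter : zC ∈ Subgroup.center C := by
    rw [Subgroup.mem_center_iff]
    intro c
    apply Subtype.ext
    have hc : (c : G) ∈ Subgroup.centralizer ({z} : Set G) := hCdef ▸ c.2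
    exact Subgroup.mem_centralizer_singleton_iff.mp hc
  have hzQ : zC ∈ Q := by
    have hn : (Subgroup.zpowers zC).Normal := by
      have : Subgroup.zpowers zC ≤ Subgroup.center C := by
        rw [Subgroup.zpowers_le]; exact hzCcenter
      refine ⟨fun n hn c => ?_⟩
      have h2 := Subgroup.mem_center_iff.mp (this hn) c
      have : c * n * c⁻¹ = n := by rw [h2]; group
      rw [this]; exact hn
    rw [hQdef]
    have h1 : Subgroup.zpowers zC ≤ Cfsg.fittingSubgroup C := by
      apply le_fittingSubgroup_of_normal_comm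
      intro x hx y hy
      obtain ⟨i, rfl⟩ := hx
      obtain ⟨j, rfl⟩ := hy
      exact (Commute.zpow_zpow_self zC i j).eq
    exact fittingSubgroup_le_generalizedFittingSubgroup C (h1 (Subgroup.mem_zpowers zC))
  let zQ : Q := ⟨zC, hzQ⟩
  have hozQ : orderOf zQ = 2 := by
    rw [← hz]
    have h1 : orderOf zQ = orderOf zC := Subgroup.orderOf_mk zC hzQ
    have h2 : orderOf zC = orderOf z := Subgroup.orderOf_mk z hzC
    rw [h1, h2]
  have hzQcenter : zQ ∈ Subgroup.center Q := by
    rw [Subgroup.mem_center_iff]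
    intro q
    apply Subtype.ext
    rw [Subgroup.mem_center_iff] at hzCcenter
    exact hzCcenter q.1
  obtain ⟨hQ2, hQcyc⟩ := hQ
  -- the centre of Q is cyclic
  have hZcyc : IsCyclic (Subgroup.center Q) := hQcyc _ inferInstance inferInstance
  have hBcyc : IsCyclic B := hQcyc B hBc hBa
  -- every involution of B equals zQ
  have hBinv : ∀ y : Q, y ∈ B → orderOf y = 2 → y = zQ := by
    intro y hyB hy2
    -- y is central in Q
    have hyc : y ∈ Subgroup.center Q := by
      rw [Subgroup.mem_center_iff]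
      intro q
      have hn : B.Normal := inferInstance
      have hconj : q * y * q⁻¹ ∈ B := hn.conj_mem y hyB q
      have ho : orderOf (q * y * q⁻¹) = 2 := by
        rw [← hy2]; exact MulEquiv.orderOf_eq (MulAut.conj q) y
      have := eq_of_orderOf_two_of_isCyclic (H := B) (x := ⟨q * y * q⁻¹, hconj⟩) (y := ⟨y, hyB⟩)
        (by rw [Subgroup.orderOf_mk]; exact ho) (by rw [Subgroup.orderOf_mk]; exact hy2)
      have h3 : q * y * q⁻¹ = y := congrArg Subtype.val this
      calc q * y = (q * y * q⁻¹) * q := by group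
        _ = y * q := by rw [h3]
    have := eq_of_orderOf_two_of_isCyclic (H := Subgroup.center Q) (x := ⟨y, hyc⟩) (y := ⟨zQ, hzQcenter⟩)
      (by rw [Subgroup.orderOf_mk]; exact hy2) (by rw [Subgroup.orderOf_mk]; exact hozQ)
    exact congrArg Subtype.val this
  -- every nonidentity element of Bg has z among its powers
  have hpow : ∀ x : G, x ∈ Bg → x ≠ 1 → ∃ m : ℕ, x ^ m = z := by
    intro x hx hx1
    obtain ⟨hxC, hxQ, hxB⟩ := (hmemBg x).mp hx
    have hb1 : (⟨⟨x, hxC⟩, hxQ⟩ : Q) ≠ 1 := by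
      intro h
      apply hx1
      have := congrArg (fun q : Q => ((q : C) : G)) h
      simpa using this
    obtain ⟨m, hm⟩ := exists_pow_orderOf_two hQ2 _ hb1
    refine ⟨m, ?_⟩
    have := hBinv _ (B.pow_mem hxB m) hm
    have := congrArg (fun q : Q => ((q : C) : G)) this
    simpa using this
  have hz1 : z ≠ 1 := by
    intro h; rw [h, orderOf_one] at hz; omega
  -- z lies in Bg and is its only involution
  have hBgne : ∃ x ∈ Bg, x ≠ 1 := by
    by_contra hcon
    push Not at hcon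
    apply hB
    rw [eq_bot_iff]
    intro b hb
    rw [Subgroup.mem_bot]
    have : ((b : C) : G) ∈ Bg := (hmemBg _).mpr ⟨b.1.2, b.2, hb⟩
    have := hcon _ this
    apply Subtype.ext; apply Subtype.ext
    simpa using this
  have hzBg : z ∈ Bg := by
    obtain ⟨x, hx, hx1⟩ := hBgne
    obtain ⟨m, hm⟩ := hpow x hx hx1
    rw [← hm]; exact Bg.pow_mem hx m
  have hinvBg : ∀ w ∈ Bg, orderOf w = 2 → w = z := by
    intro w hw hw2
    have hw1 : w ≠ 1 := by intro h; rw [h, orderOf_one] at hw2; omega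
    obtain ⟨m, hm⟩ := hpow w hw hw1
    have hwsq : w ^ 2 = 1 := by rw [← hw2]; exact pow_orderOf_eq_one w
    rcases Nat.even_or_odd' m with ⟨k, rfl | rfl⟩
    · exfalso; apply hz1; rw [← hm, pow_mul, hwsq, one_pow]
    · rw [← hm, pow_succ, pow_mul, hwsq, one_pow, one_mul]
  by_cases hint : Bg.map (MulAut.conj g).toMonoidHom ⊓ Bg = ⊥
  · right; exact hint
  left
  -- there is a nonidentity x in the intersection
  have : ∃ x ∈ Bg.map (MulAut.conj g).toMonoidHom ⊓ Bg, x ≠ 1 := by
    by_contra hcon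
    push Not at hcon
    apply hint
    rw [eq_bot_iff]
    intro x hx
    rw [Subgroup.mem_bot]; exact hcon x hx
  obtain ⟨x, hx, hx1⟩ := this
  obtain ⟨hxg, hxB⟩ := Subgroup.mem_inf.mp hx
  rw [mem_map_conj] at hxg
  have hx1' : g⁻¹ * x * g ≠ 1 := by
    intro h
    apply hx1
    have : x = g * (g⁻¹ * x * g) * g⁻¹ := by group
    rw [this, h]; group
  obtain ⟨m, hm⟩ := hpow _ hxg hx1'
  -- g z g⁻¹ is an involution of Bg
  have hgz : g * z * g⁻¹ = x ^ m := by
    rw [← hm]
    have : (g⁻¹ * x * g) ^ m = g⁻¹ * x ^ m * g := by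
      have := map_pow (MulAut.conj g⁻¹) x m
      simpa [MulAut.conj_apply] using this.symm
    rw [this]; group
  have hgzB : g * z * g⁻¹ ∈ Bg := by rw [hgz]; exact Bg.pow_mem hxB m
  have hgzo : orderOf (g * z * g⁻¹) = 2 := by
    rw [← hz]; exact MulEquiv.orderOf_eq (MulAut.conj g) z
  have hgzz : g * z * g⁻¹ = z := hinvBg _ hgzB hgzo
  -- so g centralizes z
  have hgC : g ∈ C := by
    rw [hCdef, Subgroup.mem_centralizer_singleton_iff]
    calc g * z = (g * z * g⁻¹) * g := by group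
      _ = z * g := by rw [hgzz]
  -- conjugation by g stabilizes Bg
  have hstab : ∀ (h : G) (hh : h ∈ C), ∀ x ∈ Bg, h * x * h⁻¹ ∈ Bg := by
    intro h hh x hx
    obtain ⟨hxC, hxQ, hxB⟩ := (hmemBg x).mp hx
    let hC' : C := ⟨h, hh⟩
    have hQn : Q.Normal := by rw [hQdef]; infer_instance
    let ϕ : Q ≃* Q := MulAut.conjNormal hC'
    have hfix := (Subgroup.characteristic_iff_map_eq.mp hBc) ϕ
    have hmem : ϕ ⟨⟨x, hxC⟩, hxQ⟩ ∈ B := by
      rw [← hfix]
      exact ⟨_, hxB, rfl⟩
    rw [hmemBg]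
    refine ⟨C.mul_mem (C.mul_mem hh hxC) (C.inv_mem hh), ?_, ?_⟩
    · exact hQn.conj_mem ⟨x, hxC⟩ hxQ hC'
    · exact hmem
  ext y
  rw [mem_map_conj]
  constructor
  · intro hy
    have := hstab g hgC _ hy
    have e : g * (g⁻¹ * y * g) * g⁻¹ = y := by group
    rwa [e] at this
  · intro hy
    have := hstab g⁻¹ (C.inv_mem hgC) _ hy
    simpa using this

theorem result {G : Type*} [Group G] [Finite G] (z : G) (hz : orderOf z = 2) (hQ : Cfsg.IsOfSymplecticType ↥(Cfsg.generalizedFittingSubgroup ↥(Subgroup.centralizer ({z} : Set G))))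
    (B : Subgroup ↥(Cfsg.generalizedFittingSubgroup ↥(Subgroup.centralizer ({z} : Set G)))) (hBc : B.Characteristic) (hBa : IsMulCommutative ↥B) (g : G) :
    ((B.map (Cfsg.generalizedFittingSubgroup ↥(Subgroup.centralizer ({z} : Set G))).subtype).map (Subgroup.centralizer ({z} : Set G)).subtype).map (MulAut.conj g).toMonoidHom =
        (B.map (Cfsg.generalizedFittingSubgroup ↥(Subgroup.centralizer ({z} : Set G))).subtype).map (Subgroup.centralizer ({z} : Set G)).subtype ∨
      ((B.map (Cfsg.generalizedFittingSubgroup ↥(Subgroup.centralizer ({z} : Set G))).subtype).map (Subgroup.centralizer ({z} : Set G)).subtype).map (MulAut.conj g).toMonoidHom ⊓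
        (B.map (Cfsg.generalizedFittingSubgroup ↥(Subgroup.centralizer ({z} : Set G))).subtype).map (Subgroup.centralizer ({z} : Set G)).subtype = ⊥ :=
  main z hz _ rfl _ rfl hQ B hBc hBa g

end Cfsg.Agent.S1755
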