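import Mathlib
import Cfsg.Statements.S1756
import Cfsg.Agent.Lib_helper9_Extraspecial

set_option autoImplicit false
open Cfsg
open scoped commutatorElement

namespace Cfsg.Agent.S1756

theorem result {G : Type*} [Group G] [Finite G] (Q : Subgroup G)
    (hQ : Cfsg.IsExtraspecial 2 ↥Q) (t : G) (ht : orderOf t = 2) (htN : t ∈ Subgroup.normalizer (Q : Set G))
    (hi : (Subgroup.centralizer ({t} : Set G) ⊓ Q).relIndex Q ≤ 2) :
    t ∈ Q ⊔ Subgroup.centralizer (Q : Set G) := by
  obtain ⟨⟨hp, hfr, hcomm⟩, hZ⟩ := hQ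
  have hcl : ∀ x y : ↥Q, ⁅x, y⁆ ∈ Subgroup.center ↥Q := by
    intro x y
    rw [← hcomm, commutator_def]
    exact Subgroup.commutator_mem_commutator (Subgroup.mem_top x) (Subgroup.mem_top y)
  -- the automorphism induced by `t`
  obtain ⟨τ, hτapp⟩ : ∃ τ : ↥Q ≃* ↥Q, ∀ q : ↥Q, ((τ q : ↥Q) : G) = t * q * t⁻¹ :=
    ⟨Subgroup.normalizerMonoidHom Q ⟨t, htN⟩, fun q => rfl⟩
  have ht2 : t * t = 1 := by rw [← pow_two, ← ht, pow_orderOf_eq_one]
  have htinv : t⁻¹ = t := inv_eq_of_mul_eq_one_right ht2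
  have hτ2 : ∀ q, τ (τ q) = q := by
    intro q
    apply Subtype.ext
    rw [hτapp, hτapp, htinv]
    calc t * (t * (q : G) * t) * t = (t * t) * q * (t * t) := by group
      _ = q := by rw [ht2]; group
  obtain ⟨F, hFdef⟩ : ∃ F : Subgroup ↥Q, F = (Subgroup.centralizer ({t} : Set G)).subgroupOf Q :=
    ⟨_, rfl⟩
  have hF : ∀ q, q ∈ F ↔ τ q = q := by
    intro q
    rw [hFdef, Subgroup.mem_subgroupOf, Subgroup.mem_centralizer_iff]
    constructor
    · intro h
      apply Subtype.ext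
      rw [hτapp, h t rfl]
      group
    · intro h g hg
      rw [Set.mem_singleton_iff] at hg
      subst hg
      have h1 := congrArg Subtype.val h
      rw [hτapp] at h1
      calc g * (q : G) = g * q * g⁻¹ * g := by group
        _ = q * g := by rw [h1]
  have hidx : F.index ≤ 2 := by
    have h1 : (Subgroup.centralizer ({t} : Set G) ⊓ Q).relIndex Q = F.index := by
      rw [hFdef, Subgroup.relIndex, Subgroup.inf_subgroupOf_right]
    rw [← h1]; exact hi
  have hidx0 : F.index ≠ 0 := Subgroup.index_ne_zero_of_finite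
  rcases (by omega : F.index = 1 ∨ F.index = 2) with h1 | h2
  · apply Subgroup.mem_sup_right
    rw [Subgroup.index_eq_one] at h1
    rw [Subgroup.mem_centralizer_iff]
    intro q hq
    have h3 : (⟨q, hq⟩ : ↥Q) ∈ F := by rw [h1]; trivial
    rw [hFdef, Subgroup.mem_subgroupOf, Subgroup.mem_centralizer_iff] at h3
    exact (h3 t rfl).symm
  · obtain ⟨c, hc⟩ := helper9.inner_of_index_two hcl hZ hp τ hτ2 F hF h2
    have hcent : (c : G)⁻¹ * t ∈ Subgroup.centralizer (Q : Set G) := by
      rw [Subgroup.mem_centralizer_iff]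
      intro q hq
      have h3 := congrArg Subtype.val (hc ⟨q, hq⟩)
      rw [hτapp] at h3
      simp only [Subgroup.coe_mul, Subgroup.coe_inv] at h3
      calc q * ((c : G)⁻¹ * t) = (c : G)⁻¹ * ((c : G) * q * (c : G)⁻¹) * t := by group
        _ = (c : G)⁻¹ * (t * q * t⁻¹) * t := by rw [← h3]
        _ = (c : G)⁻¹ * t * q := by group
    have h4 : t = (c : G) * ((c : G)⁻¹ * t) := by group
    rw [h4]
    exact Subgroup.mul_mem_sup c.2 hcent

end Cfsg.Agent.S1756
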