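import Cfsg.Statements.S1780
import Mathlib

set_option autoImplicit false
open Cfsg

namespace Cfsg.Agent.S1780

section core
variable {A : Type*} [CommGroup A] (u : A ≃* A)

theorem inv_eq_self_of_sq {x : A} (h : x ^ 2 = 1) : x⁻¹ = x :=
  inv_eq_of_mul_eq_one_left (by rw [← pow_two]; exact h)

/-- if `v = u²` inverts `x` and `x` has 2-power order then `x² = 1` -/
theorem sq_eq_one_of_inverted (H : ∀ x : A, u (u x) = x → u x = x) :
    ∀ n : ℕ, ∀ x : A, x ^ (2 ^ n) = 1 → u (u x) = x⁻¹ → x ^ 2 = 1 := by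
  intro n
  induction n with
  | zero => intro x hx _; simp only [pow_zero, pow_one] at hx; rw [hx]; simp
  | succ n ih =>
    intro x hx hv
    obtain ⟨y, hy⟩ : ∃ y, y = x ^ 2 := ⟨_, rfl⟩
    have h4 : y ^ 2 = 1 := by
      rw [hy]
      apply ih (x ^ 2)
      · rw [← pow_mul, ← pow_succ']; exact hx
      · rw [map_pow, map_pow, hv, inv_pow]
    have hvy : u (u y) = y := by
      rw [hy, map_pow, map_pow, hv, inv_pow, ← hy]
      exact inv_eq_self_of_sq h4
    have huy : u y = y := H y hvy
    obtain ⟨w, hw⟩ : ∃ w, w = u x * x⁻¹ := ⟨_, rfl⟩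
    have hw2 : w ^ 2 = 1 := by
      rw [hw, mul_pow, ← map_pow, inv_pow, ← hy, huy, mul_inv_cancel]
    have hvw : u (u w) = w := by
      have : u (u w) = w⁻¹ := by
        rw [hw, map_mul, map_mul, map_inv, map_inv, hv, inv_inv, mul_inv, inv_inv, ← map_inv, ← hv]
      rw [this]
      exact inv_eq_self_of_sq hw2
    have huw : u w = w := H w hvw
    have hux : u x = w * x := by rw [hw]; simp
    have hvx : u (u x) = x := by
      rw [hux, map_mul, huw, hux, ← mul_assoc, ← pow_two, hw2, one_mul]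
    rw [hvx] at hv
    calc x ^ 2 = x * x := pow_two x
      _ = x * x⁻¹ := by rw [← hv]
      _ = 1 := mul_inv_cancel x

theorem core_lemma (hA : IsPGroup 2 A) (H : ∀ x : A, u (u x) = x → u x = x)
    (b : A) (hb : u (u (u (u b))) = b) : u (u b) = b := by
  obtain ⟨vb, hvb⟩ : ∃ vb, vb = u (u b) := ⟨_, rfl⟩
  have hvvb : u (u vb) = b := by rw [hvb]; exact hb
  obtain ⟨c, hc⟩ : ∃ c, c = b * vb := ⟨_, rfl⟩
  obtain ⟨d, hd⟩ : ∃ d, d = vb * b⁻¹ := ⟨_, rfl⟩
  have hvc : u (u c) = c := by rw [hc, map_mul, map_mul, hvvb, ← hvb, mul_comm]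
  have huc : u c = c := H c hvc
  have hvd : u (u d) = d⁻¹ := by
    rw [hd, map_mul, map_mul, hvvb, map_inv, map_inv, ← hvb, mul_inv, inv_inv, mul_comm]
  obtain ⟨n, hn⟩ := hA d
  have hd2 : d ^ 2 = 1 := sq_eq_one_of_inverted u H n d hn hvd
  have hdinv : d⁻¹ = d := inv_eq_self_of_sq hd2
  have hud : u d = d := H d (by rw [hvd, hdinv])
  have hb2 : b ^ 2 = c * d⁻¹ := by
    rw [hc, hd, mul_inv, inv_inv, pow_two]
    calc b * b = b * (vb * vb⁻¹) * b := by simp
      _ = b * vb * (vb⁻¹ * b) := by simp only [mul_assoc]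
  have hub2 : u (b ^ 2) = b ^ 2 := by rw [hb2, map_mul, map_inv, huc, hud]
  obtain ⟨e, he⟩ : ∃ e, e = u b * b⁻¹ := ⟨_, rfl⟩
  have he2 : e ^ 2 = 1 := by
    rw [he, mul_pow, ← map_pow, hub2, inv_pow, mul_inv_cancel]
  have hub : u b = e * b := by rw [he]; simp
  have hvb' : vb = u e * e * b := by
    calc vb = u (u b) := hvb
      _ = u (e * b) := by rw [← hub]
      _ = u e * u b := map_mul u e b
      _ = u e * (e * b) := by rw [hub]
      _ = u e * e * b := (mul_assoc _ _ _).symm
  have hde : d = u e * e := by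
    rw [hd, hvb']; simp
  have hve : u (u e) = e := by
    have h1 : u d = d := hud
    rw [hde, map_mul] at h1
    have h2 : u (u e) * u e = e * u e := by rw [h1, mul_comm]
    exact mul_right_cancel h2
  have hue : u e = e := H e hve
  have hd1 : d = 1 := by rw [hde, hue, ← pow_two, he2]
  have : vb * b⁻¹ = 1 := by rw [← hd]; exact hd1
  rw [← hvb]
  exact mul_inv_eq_one.mp this

end core

theorem pow_fix {A : Type*} [CommGroup A] (t : MulAut A) (x : A) (hx : t x = x) (m : ℕ) :
    (t ^ m) x = x := by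
  induction m with
  | zero => simp
  | succ m ih => rw [pow_succ, MulAut.mul_apply, hx, ih]

theorem result {A : Type*} [CommGroup A] [Finite A]
    (hA : IsPGroup 2 A) (t : MulAut A) (ht : ∃ k : ℕ, orderOf t = 2 ^ k) (hC : ∀ a : A, t (t a) = a → t a = a) :
    ∀ a : A, t a = a := by
  have P : ∀ j : ℕ, ∀ a : A, (t ^ (2 ^ j)) a = a → t a = a := by
    intro j
    induction j with
    | zero => intro a ha; simpa using ha
    | succ j ih =>
      cases j with
      | zero =>
        intro a ha
        apply hC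
        simpa [pow_two, MulAut.mul_apply] using ha
      | succ j =>
        intro b hb
        set u : MulAut A := t ^ (2 ^ j) with hu
        have huu : ∀ x : A, u (u x) = (t ^ (2 ^ (j + 1))) x := by
          intro x
          rw [← MulAut.mul_apply, hu, ← pow_add, ← two_mul, ← pow_succ']
        have H : ∀ x : A, u (u x) = x → u x = x := by
          intro x hx
          rw [huu] at hx
          exact pow_fix t x (ih x hx) _
        have hb4 : u (u (u (u b))) = b := by
          rw [huu, huu, ← MulAut.mul_apply, ← pow_add, ← two_mul, ← pow_succ']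
          exact hb
        have := core_lemma u hA H b hb4
        rw [huu] at this
        exact ih b this
  obtain ⟨k, hk⟩ := ht
  intro a
  apply P k
  rw [← hk, pow_orderOf_eq_one]
  rfl

end Cfsg.Agent.S1780
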