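import Cfsg.Statements.S1781
import Cfsg.Agent.S1757
import Cfsg.Agent.S1780
import Mathlib

set_option autoImplicit false
open Cfsg
open scoped commutatorElement

namespace Cfsg.Agent.S1781

/-- S1780 for a group with commutativity as a hypothesis -/
theorem fix_of_comm {A : Type*} [Group A] [Finite A] (hcomm : ∀ x y : A, x * y = y * x)
    (hA : IsPGroup 2 A) (t : MulAut A) (ht : ∃ k : ℕ, orderOf t = 2 ^ k)
    (hC : ∀ a : A, t (t a) = a → t a = a) : ∀ a : A, t a = a := by
  letI : CommGroup A := { ‹Group A› with mul_comm := hcomm }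
  exact Cfsg.Agent.S1780.result hA t ht hC

theorem map_conj_eq_iff {G : Type*} [Group G] (H : Subgroup G) (g : G) :
    H.map (MulAut.conj g).toMonoidHom = H ↔ g ∈ Subgroup.normalizer (H : Set G) := by
  rw [Subgroup.mem_normalizer_iff_map_conj_eq]
  rfl

theorem mem_map_conj {G : Type*} [Group G] (H : Subgroup G) (g x : G) :
    x ∈ H.map (MulAut.conj g).toMonoidHom ↔ g⁻¹ * x * g ∈ H := by
  constructor
  · rintro ⟨y, hy, rfl⟩
    simp only [MulEquiv.coe_toMonoidHom, MulAut.conj_apply]
    have : g⁻¹ * (g * y * g⁻¹) * g = y := by group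
    rw [this]; exact hy
  · intro h
    exact ⟨g⁻¹ * x * g, h, by simp only [MulEquiv.coe_toMonoidHom, MulAut.conj_apply]; group⟩

theorem result {G : Type*} [Group G] [Finite G] (A : Subgroup G)
    (hA2 : IsPGroup 2 ↥A) (hAa : IsMulCommutative ↥A)
    (hti : ∀ h : G, A.map (MulAut.conj h).toMonoidHom = A ∨ A.map (MulAut.conj h).toMonoidHom ⊓ A = ⊥)
    (g : G) (hg : A.map (MulAut.conj g).toMonoidHom ≠ A) :
    Cfsg.IsElementaryAbelian 2 (A ⊓ Subgroup.normalizer ((A.map (MulAut.conj g).toMonoidHom : Subgroup G) : Set G)) ∨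
      ⁅A, A.map (MulAut.conj g).toMonoidHom⁆ = ⊥ := by
  obtain ⟨D, hD⟩ : ∃ D : Subgroup G, D = A.map (MulAut.conj g).toMonoidHom := ⟨_, rfl⟩
  rw [← hD]
  have hDA : D ⊓ A = ⊥ := by
    rcases hti g with h | h
    · exact absurd h hg
    · rw [hD]; exact h
  have hcommA : ∀ x ∈ A, ∀ y ∈ A, x * y = y * x := by
    intro x hx y hy
    have := hAa.is_comm.comm ⟨x, hx⟩ ⟨y, hy⟩
    exact congrArg Subtype.val this
  by_cases hsq : ∀ n ∈ A ⊓ Subgroup.normalizer (D : Set G), n ^ 2 = 1
  · left
    refine ⟨⟨⟨?_⟩⟩, hsq⟩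
    rintro ⟨x, hx⟩ ⟨y, hy⟩
    apply Subtype.ext
    exact hcommA x hx.1 y hy.1
  · right
    push_neg at hsq
    obtain ⟨n, hnAD, hn2⟩ := hsq
    obtain ⟨hnA, hnD⟩ := Subgroup.mem_inf.mp hnAD
    -- D is commutative
    have hmemD : ∀ x, x ∈ D ↔ g⁻¹ * x * g ∈ A := by
      intro x; rw [hD]; exact mem_map_conj A g x
    have hcommD : ∀ x y : D, x * y = y * x := by
      rintro ⟨x, hx⟩ ⟨y, hy⟩
      apply Subtype.ext
      have := hcommA _ ((hmemD x).mp hx) _ ((hmemD y).mp hy)
      have h2 : g * ((g⁻¹ * x * g) * (g⁻¹ * y * g)) * g⁻¹ = g * ((g⁻¹ * y * g) * (g⁻¹ * x * g)) * g⁻¹ := by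
        rw [this]
      have e1 : g * ((g⁻¹ * x * g) * (g⁻¹ * y * g)) * g⁻¹ = x * y := by group
      have e2 : g * ((g⁻¹ * y * g) * (g⁻¹ * x * g)) * g⁻¹ = y * x := by group
      rw [e1, e2] at h2
      exact h2
    -- D is a 2-group
    have hD2 : IsPGroup 2 D := by
      rw [hD]
      exact hA2.map (MulAut.conj g).toMonoidHom
    -- TI for D
    have hDti : ∀ h : G, D.map (MulAut.conj h).toMonoidHom = D ∨
        D.map (MulAut.conj h).toMonoidHom ⊓ D = ⊥ := by
      intro h
      have hmm : ∀ x, x ∈ D.map (MulAut.conj h).toMonoidHom ↔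
          g⁻¹ * x * g ∈ A.map (MulAut.conj (g⁻¹ * h * g)).toMonoidHom := by
        intro x
        rw [mem_map_conj, hmemD, mem_map_conj]
        have : g⁻¹ * (h⁻¹ * x * h) * g = (g⁻¹ * h * g)⁻¹ * (g⁻¹ * x * g) * (g⁻¹ * h * g) := by group
        rw [this]
      rcases hti (g⁻¹ * h * g) with h1 | h1
      · left
        ext x
        rw [hmm, h1, hmemD]
      · right
        rw [eq_bot_iff]
        intro x hx
        obtain ⟨hx1, hx2⟩ := Subgroup.mem_inf.mp hx
        rw [hmm] at hx1
        rw [hmemD] at hx2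
        have : g⁻¹ * x * g ∈ A.map (MulAut.conj (g⁻¹ * h * g)).toMonoidHom ⊓ A :=
          Subgroup.mem_inf.mpr ⟨hx1, hx2⟩
        rw [h1, Subgroup.mem_bot] at this
        rw [Subgroup.mem_bot]
        have e : x = g * (g⁻¹ * x * g) * g⁻¹ := by group
        rw [e, this]; group
    -- the automorphism of D induced by n
    let nN : Subgroup.normalizer (D : Set G) := ⟨n, hnD⟩
    let t : MulAut D := D.normalizerMonoidHom nN
    have ht_apply : ∀ d : D, ((t d : D) : G) = n * d * n⁻¹ := fun d => rfl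
    have ht : ∃ k : ℕ, orderOf t = 2 ^ k := by
      obtain ⟨k, hk⟩ := hA2 ⟨n, hnA⟩
      have hnk : n ^ (2 ^ k) = 1 := by
        have := congrArg Subtype.val hk
        simpa using this
      have : t ^ (2 ^ k) = 1 := by
        rw [← map_pow]
        have : nN ^ (2 ^ k) = 1 := by
          apply Subtype.ext
          simp only [nN, Subgroup.coe_pow, Subgroup.coe_one]
          exact hnk
        rw [this, map_one]
      have hdvd := orderOf_dvd_of_pow_eq_one this
      obtain ⟨j, _, hj⟩ := (Nat.dvd_prime_pow Nat.prime_two).mp hdvd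
      exact ⟨j, hj⟩
    -- if d commutes with a nontrivial element m of A then d normalizes A
    have hnorm : ∀ d m : G, m ∈ A → m ≠ 1 → d * m * d⁻¹ = m → A.map (MulAut.conj d).toMonoidHom = A := by
      intro d m hm hm1 hdm
      rcases hti d with h | h
      · exact h
      · exfalso
        have : m ∈ A.map (MulAut.conj d).toMonoidHom ⊓ A := by
          refine Subgroup.mem_inf.mpr ⟨?_, hm⟩
          rw [mem_map_conj]
          have : d⁻¹ * m * d = d⁻¹ * (d * m * d⁻¹) * d := by rw [hdm]
          rw [this]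
          have : d⁻¹ * (d * m * d⁻¹) * d = m := by group
          rw [this]; exact hm
        rw [h, Subgroup.mem_bot] at this
        exact hm1 this
    have hC : ∀ d : D, t (t d) = d → t d = d := by
      intro d hd
      have h1 : n * (n * d * n⁻¹) * n⁻¹ = (d : G) := by
        have := congrArg Subtype.val hd
        rw [ht_apply, ht_apply] at this
        exact this
      have h2 : (d : G) * (n * n) * (d : G)⁻¹ = n * n := by
        have : n * n * (d : G) = d * (n * n) := by
          calc n * n * (d : G) = (n * (n * d * n⁻¹) * n⁻¹) * (n * n) := by group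
            _ = d * (n * n) := by rw [h1]
        rw [← this]; group
      have hn2' : n * n ≠ 1 := by rw [← pow_two]; exact hn2
      have hdA := hnorm d (n * n) (A.mul_mem hnA hnA) hn2' h2
      rw [map_conj_eq_iff, Subgroup.mem_normalizer_iff] at hdA
      -- commutator n d n⁻¹ d⁻¹ lies in D ⊓ A
      have hc : n * d * n⁻¹ * (d : G)⁻¹ ∈ D ⊓ A := by
        refine Subgroup.mem_inf.mpr ⟨?_, ?_⟩
        · have : n * d * n⁻¹ ∈ D := by rw [← ht_apply]; exact (t d).2
          exact D.mul_mem this (D.inv_mem d.2)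
        · have : (d : G) * n⁻¹ * (d : G)⁻¹ ∈ A := (hdA n⁻¹).mp (A.inv_mem hnA)
          have e : n * d * n⁻¹ * (d : G)⁻¹ = n * ((d : G) * n⁻¹ * (d : G)⁻¹) := by group
          rw [e]
          exact A.mul_mem hnA this
      rw [hDA, Subgroup.mem_bot] at hc
      apply Subtype.ext
      rw [ht_apply]
      exact mul_inv_eq_one.mp hc
    have hfix := fix_of_comm hcommD hD2 t ht hC
    have hn1 : n ≠ 1 := by
      intro h; apply hn2; rw [h]; simp
    -- D normalizes A
    have hDN : D ≤ Subgroup.normalizer (A : Set G) := by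
      intro d hd
      have h1 : n * d * n⁻¹ = d := by
        have := congrArg Subtype.val (hfix ⟨d, hd⟩)
        rw [ht_apply] at this
        exact this
      have h2 : d * n * d⁻¹ = n := by
        have : n * d = d * n := by
          calc n * d = (n * d * n⁻¹) * n := by group
            _ = d * n := by rw [h1]
        rw [← this]; group
      rw [← map_conj_eq_iff]
      exact hnorm d n hnA hn1 h2
    have hcard : Nat.card A ≤ Nat.card D := by
      rw [hD, Subgroup.card_map_of_injective (MulAut.conj g).injective]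
    have hAD : A ⊓ D = ⊥ := by rw [inf_comm]; exact hDA
    exact Cfsg.Agent.S1757.result 2 A D hA2 hD2 hti hDti hcard hAD hDN

end Cfsg.Agent.S1781
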