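import Mathlib
import Cfsg.Statements.S1782
import Cfsg.Agent.Lib_helper9_TI

set_option autoImplicit false
open Cfsg

namespace Cfsg.Agent.S1782

/-- Let S be a finite 2-group and Δ a set of subgroups of S closed under conjugation by S, all of the same order, each with nontrivial Frattini subgroup, and such that two distinct members of Δ meet trivially. Then any two distinct members of Δ commute elementwise. -/
theorem result {S : Type*} [Group S] [Finite S] (hS : IsPGroup 2 S)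
    (Δ : Set (Subgroup S)) (hinv : ∀ s : S, ∀ R ∈ Δ, R.map (MulAut.conj s).toMonoidHom ∈ Δ)
    (hΦ : ∀ R ∈ Δ, frattini ↥R ≠ ⊥) (hord : ∀ R ∈ Δ, ∀ T ∈ Δ, Nat.card ↥R = Nat.card ↥T)
    (hti : ∀ R ∈ Δ, ∀ T ∈ Δ, R = T ∨ R ⊓ T = ⊥) :
    ∀ R ∈ Δ, ∀ T ∈ Δ, R ≠ T → ⁅R, T⁆ = ⊥ := by
  intro R hR T hT hne
  rw [Subgroup.commutator_eq_bot_iff_le_centralizer]
  intro r hr
  rw [Subgroup.mem_centralizer_iff]
  intro t ht
  have h4 : ∀ D ∈ Δ, ∃ x ∈ D, x ^ 4 = 1 ∧ x ^ 2 ≠ 1 := by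
    intro D hD
    obtain ⟨x, hx4, hx2⟩ := Cfsg.Agent.helper9.exists_pow_four_of_frattini_ne_bot
      (hS.to_subgroup D) (hΦ D hD)
    refine ⟨(x : S), x.2, ?_, ?_⟩
    · have := congrArg (fun z : ↥D => (z : S)) hx4
      simpa using this
    · intro h
      apply hx2
      apply Subtype.ext
      simpa using h
  exact (Cfsg.Agent.helper9.ti_commute_aux (Nat.card (⊤ : Subgroup S)) ⊤ Δ rfl
    (hS.to_subgroup ⊤) (fun D _ => le_top) (fun m _ D hD => hinv m D hD) h4 hord hti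
    R hR T hT hne r hr t ht).symm

end Cfsg.Agent.S1782
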