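import Mathlib
import Cfsg.Statements.S1783
import Cfsg.Agent.Lib_helper9_TI2

set_option autoImplicit false
open Cfsg

namespace Cfsg.Agent.S1783

open Cfsg.Agent.helper9 Cfsg.Agent.helper10

/-- Let X be a finite group whose generalized Fitting subgroup equals its largest normal 2-subgroup Q, and let A be an abelian 2-subgroup of X such that every conjugate of A equals A or meets A trivially. Let B be the subgroup generated by the squares of the elements of A. Then B lies in Q, and if B is not an elementary abelian 2-group then the normal closure of B in X is commutative. -/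
theorem result {X : Type*} [Group X] [Finite X]
    (hX : Cfsg.generalizedFittingSubgroup X = Cfsg.pCore 2 X) (A : Subgroup X) (hA2 : IsPGroup 2 ↥A) (hAa : IsMulCommutative ↥A)
    (hti : ∀ h : X, A.map (MulAut.conj h).toMonoidHom = A ∨ A.map (MulAut.conj h).toMonoidHom ⊓ A = ⊥) :
    Subgroup.closure ((fun a : X => a ^ 2) '' (A : Set X)) ≤ Cfsg.pCore 2 X ∧
      (¬ Cfsg.IsElementaryAbelian 2 (Subgroup.closure ((fun a : X => a ^ 2) '' (A : Set X))) →
        IsMulCommutative ↥(Subgroup.normalClosure ((fun a : X => a ^ 2) '' (A : Set X)))) := by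
  haveI : Fact (Nat.Prime 2) := ⟨Nat.prime_two⟩
  haveI hQn : (pCore 2 X).Normal := Cfsg.Agent.helper1.pCore_normal 2
  have hQ2 : IsPGroup 2 ↥(pCore 2 X) := Cfsg.Agent.helper1.pCore_isPGroup 2
  have hCQ : Subgroup.centralizer ((pCore 2 X : Subgroup X) : Set X) ≤ pCore 2 X := by
    have h := Cfsg.Agent.helper7.centralizer_fstarOf_le (⊤ : Subgroup X)
    rw [← Cfsg.Agent.helper7.generalizedFittingSubgroup_eq, hX, top_inf_eq] at h
    exact h
  have hAcomm : ∀ a ∈ A, ∀ b ∈ A, a * b = b * a := by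
    intro a ha b hb
    have h := hAa.is_comm.comm (⟨a, ha⟩ : ↥A) ⟨b, hb⟩
    exact congrArg (fun z : ↥A => (z : X)) h
  have hconjQ : ∀ g : X, ∀ q ∈ pCore 2 X, g * q * g⁻¹ ∈ pCore 2 X :=
    fun g q hq => hQn.conj_mem q hq g
  -- squares lie in `Q`
  have hsqQ : ∀ a ∈ A, a ^ 2 ∈ pCore 2 X := by
    by_cases h4 : ∃ x ∈ A, x ^ 4 = 1 ∧ x ^ 2 ≠ 1
    · have hM : IsPGroup 2 ↥(A ⊔ pCore 2 X) := hA2.to_sup_of_normal_right hQ2
      have hconj := ti_conj_commute (A ⊔ pCore 2 X) (A ⊔ pCore 2 X) A hM le_rfl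
        (fun g hg => by
          rintro _ ⟨a, ha, rfl⟩
          exact Subgroup.mul_mem _ (Subgroup.mul_mem _ hg (Subgroup.mem_sup_left ha))
            (Subgroup.inv_mem _ hg)) h4 (fun h _ => hti h)
      intro a ha
      apply mem_pCore_of_trivial_on_frattini_quotient hCQ
      intro q hq
      have hdA : q * a⁻¹ * q⁻¹ ∈ A.map (MulAut.conj q).toMonoidHom :=
        conj_mem_map_conj A q _ (A.inv_mem ha)
      have hcd : Commute a (q * a⁻¹ * q⁻¹) := by
        rcases hconj q (Subgroup.mem_sup_right hq) with h | h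
        · rw [h] at hdA
          exact hAcomm a ha _ hdA
        · exact h a ha _ hdA
      have e1 : a ^ 2 * q * (a ^ 2)⁻¹ * q⁻¹ = (a * (q * a⁻¹ * q⁻¹)) ^ 2 := by
        rw [hcd.mul_pow, conj_pow]
        group
      have hadQ : a * (q * a⁻¹ * q⁻¹) ∈ pCore 2 X := by
        have h1 : a * (q * a⁻¹ * q⁻¹) = (a * q * a⁻¹) * q⁻¹ := by group
        rw [h1]
        exact Subgroup.mul_mem _ (hconjQ a q hq) (Subgroup.inv_mem _ hq)
      rw [e1]
      have h2 := Cfsg.Agent.helper1.pow_mem_frattini_of_isPGroup hQ2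
        (⟨a * (q * a⁻¹ * q⁻¹), hadQ⟩ : ↥(pCore 2 X))
      exact ⟨_, h2, rfl⟩
    · push Not at h4
      intro a ha
      have h1 := sq_eq_one_of_forall_pow_four hA2 (fun x hx4 => by
        have h2 : (x : X) ^ 4 = 1 := by
          have := congrArg (fun z : ↥A => (z : X)) hx4
          simpa using this
        have h3 := h4 (x : X) x.2 h2
        apply Subtype.ext
        simpa using h3) ⟨a, ha⟩
      have h2 : a ^ 2 = 1 := by
        have := congrArg (fun z : ↥A => (z : X)) h1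
        simpa using this
      rw [h2]; exact Subgroup.one_mem _
  have hBA : Subgroup.closure ((fun a : X => a ^ 2) '' (A : Set X)) ≤ A := by
    rw [Subgroup.closure_le]
    rintro _ ⟨a, ha, rfl⟩
    exact A.pow_mem ha 2
  refine ⟨?_, ?_⟩
  · rw [Subgroup.closure_le]
    rintro _ ⟨a, ha, rfl⟩
    exact hsqQ a ha
  · intro hnea
    -- an element with `a ^ 4 ≠ 1`
    have hex : ∃ a ∈ A, (a ^ 2) ^ 2 ≠ 1 := by
      by_contra hall
      push Not at hall
      apply hnea
      refine ⟨⟨⟨fun x y => Subtype.ext (hAcomm x (hBA x.2) y (hBA y.2))⟩⟩, ?_⟩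
      intro b hb
      have key : b ∈ A ∧ b ^ 2 = 1 := by
        induction hb using Subgroup.closure_induction with
        | mem x hx =>
          obtain ⟨a, ha, rfl⟩ := hx
          exact ⟨A.pow_mem ha 2, hall a ha⟩
        | one => exact ⟨A.one_mem, one_pow 2⟩
        | mul x y _ _ hx hy =>
          refine ⟨A.mul_mem hx.1 hy.1, ?_⟩
          have hc : Commute x y := hAcomm x hx.1 y hy.1
          rw [hc.mul_pow, hx.2, hy.2, one_mul]
        | inv x _ hx =>
          refine ⟨A.inv_mem hx.1, ?_⟩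
          rw [inv_pow, hx.2, inv_one]
      exact key.2
    obtain ⟨a₀, ha₀, ha₀4⟩ := hex
    have ha₀mem : a₀ ^ 2 ∈ A ⊓ pCore 2 X :=
      Subgroup.mem_inf.mpr ⟨A.pow_mem ha₀ 2, hsqQ a₀ ha₀⟩
    have hA₀2 : IsPGroup 2 ↥(A ⊓ pCore 2 X) := hA2.to_le inf_le_left
    have h4' : ∃ x ∈ A ⊓ pCore 2 X, x ^ 4 = 1 ∧ x ^ 2 ≠ 1 := by
      by_contra hno
      push Not at hno
      have h1 := sq_eq_one_of_forall_pow_four hA₀2 (fun x hx4 => by
        have h2 : (x : X) ^ 4 = 1 := by
          have := congrArg (fun z : ↥(A ⊓ pCore 2 X) => (z : X)) hx4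
          simpa using this
        have h3 := hno (x : X) x.2 h2
        apply Subtype.ext
        simpa using h3) ⟨a₀ ^ 2, ha₀mem⟩
      apply ha₀4
      have := congrArg (fun z : ↥(A ⊓ pCore 2 X) => (z : X)) h1
      simpa using this
    have hQconj : ∀ h : X, (pCore 2 X).map (MulAut.conj h).toMonoidHom = pCore 2 X := by
      intro h
      apply (mem_normalizer_iff_map_conj (pCore 2 X) h).mp
      rw [Subgroup.normalizer_eq_top]
      exact Subgroup.mem_top h
    have hconj₀ := ti_conj_commute (pCore 2 X) ⊤ (A ⊓ pCore 2 X) hQ2 le_top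
      (fun g _ => by
        rintro _ ⟨x, hx, rfl⟩
        exact hconjQ g x (Subgroup.mem_inf.mp hx).2) h4'
      (fun h _ => by
        rcases hti h with h1 | h1
        · left
          rw [Subgroup.map_inf _ _ _ (MulAut.conj h).injective, h1, hQconj h]
        · right
          rw [eq_bot_iff, ← h1]
          exact inf_le_inf (Subgroup.map_mono inf_le_left) inf_le_left)
    have hcc : ∀ g g' : X, ∀ u ∈ A ⊓ pCore 2 X, ∀ v ∈ A ⊓ pCore 2 X,
        (g * u * g⁻¹) * (g' * v * g'⁻¹) = (g' * v * g'⁻¹) * (g * u * g⁻¹) := by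
      intro g g' u hu v hv
      have hw : (g⁻¹ * g') * v * (g⁻¹ * g')⁻¹ ∈
          (A ⊓ pCore 2 X).map (MulAut.conj (g⁻¹ * g')).toMonoidHom :=
        conj_mem_map_conj _ _ v hv
      have hc : u * ((g⁻¹ * g') * v * (g⁻¹ * g')⁻¹) = ((g⁻¹ * g') * v * (g⁻¹ * g')⁻¹) * u := by
        rcases hconj₀ (g⁻¹ * g') (Subgroup.mem_top _) with h | h
        · rw [h] at hw
          exact hAcomm u (Subgroup.mem_inf.mp hu).1 _ (Subgroup.mem_inf.mp hw).1
        · exact h u hu _ hw
      calc (g * u * g⁻¹) * (g' * v * g'⁻¹)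
          = g * (u * ((g⁻¹ * g') * v * (g⁻¹ * g')⁻¹)) * g⁻¹ := by group
        _ = g * (((g⁻¹ * g') * v * (g⁻¹ * g')⁻¹) * u) * g⁻¹ := by rw [hc]
        _ = (g' * v * g'⁻¹) * (g * u * g⁻¹) := by group
    unfold Subgroup.normalClosure
    apply Subgroup.isMulCommutative_closure
    intro x hx y hy
    rw [Group.mem_conjugatesOfSet_iff] at hx hy
    obtain ⟨_, ⟨a₁, ha₁, rfl⟩, hc₁⟩ := hx
    obtain ⟨_, ⟨a₂, ha₂, rfl⟩, hc₂⟩ := hy
    rw [isConj_iff] at hc₁ hc₂
    obtain ⟨g₁, rfl⟩ := hc₁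
    obtain ⟨g₂, rfl⟩ := hc₂
    exact hcc g₁ g₂ (a₁ ^ 2) (Subgroup.mem_inf.mpr ⟨A.pow_mem ha₁ 2, hsqQ a₁ ha₁⟩)
      (a₂ ^ 2) (Subgroup.mem_inf.mpr ⟨A.pow_mem ha₂ 2, hsqQ a₂ ha₂⟩)

end Cfsg.Agent.S1783
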