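import Mathlib
import Cfsg.Statements.S1784
import Cfsg.Agent.Lib_helper9_Basic
import Cfsg.Agent.Lib_helper9_Extraspecial
import Cfsg.Agent.Lib_helper1_PGroup
import Cfsg.Agent.Lib_helper7_FStar
import Cfsg.Agent.Lib_helper7_Extra

set_option autoImplicit false
open Cfsg
open scoped commutatorElement

namespace Cfsg.Agent.S1784

theorem mem_zpowers_of_order_two {G : Type*} [Group G] {z : G} (hz : orderOf z = 2) (x : G) :
    x ∈ Subgroup.zpowers z ↔ x = 1 ∨ x = z := by
  constructor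
  · intro h
    obtain ⟨k, rfl⟩ := Subgroup.mem_zpowers_iff.mp h
    rw [← zpow_mod_orderOf, hz]
    have h2 : ((2 : ℕ) : ℤ) = 2 := by norm_num
    rw [h2]
    rcases Int.emod_two_eq_zero_or_one k with h0 | h1
    · left; rw [h0, zpow_zero]
    · right; rw [h1, zpow_one]
  · rintro (rfl | rfl)
    · exact Subgroup.one_mem _
    · exact Subgroup.mem_zpowers _

/-- The group-theoretic core, for an extraspecial subgroup `Qg` of `G` normalized by the
involution `α`. -/
theorem core {G : Type*} [Group G] [Finite G] (Qg : Subgroup G)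
    (hcl : ∀ x y : ↥Qg, ⁅x, y⁆ ∈ Subgroup.center ↥Qg)
    (hZ : Nat.card (Subgroup.center ↥Qg) = 2)
    (hsq : ∀ x : ↥Qg, x * x ∈ Subgroup.center ↥Qg)
    (z : G) (hz : orderOf z = 2) (hzQ : z ∈ Qg) (hzc : ∀ q ∈ Qg, q * z = z * q)
    (α : G) (hα : orderOf α = 2) (hαz : α * z = z * α)
    (hαN : ∀ q ∈ Qg, α * q * α⁻¹ ∈ Qg) (hαne : ∃ q ∈ Qg, α * q * α⁻¹ ≠ q)
    (Q₀ : Subgroup G)
    (hQ₀ : ∀ q : G, q ∈ Q₀ ↔ (q ∈ Qg ∧ α * q * α⁻¹ * q⁻¹ ∈ Subgroup.zpowers z)) :
    Subgroup.closure ((fun q : G => α * q * α⁻¹ * q⁻¹) '' (Qg : Set G)) =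
        (Subgroup.center ↥Q₀).map Q₀.subtype ∧
      (¬ Q₀ ≤ (Qg ⊓ Subgroup.centralizer ({α} : Set G)) ⊔ Subgroup.zpowers z →
        ∃ q ∈ Qg, q * α * q⁻¹ = α * z) := by
  have hα2 : α * α = 1 := by rw [← pow_two, ← hα, pow_orderOf_eq_one]
  have hαinv : α⁻¹ = α := inv_eq_of_mul_eq_one_right hα2
  have hz1 : z ≠ 1 := by
    rintro rfl
    rw [orderOf_one] at hz
    norm_num at hz
  constructor
  · -- the automorphism
    have hαnorm : α ∈ Subgroup.normalizer (Qg : Set G) :=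
      Subgroup.mem_normalizer_fintype (fun q hq => hαN q hq)
    obtain ⟨τ, hτapp⟩ : ∃ τ : ↥Qg ≃* ↥Qg, ∀ q : ↥Qg, ((τ q : ↥Qg) : G) = α * q * α⁻¹ :=
      ⟨Subgroup.normalizerMonoidHom Qg ⟨α, hαnorm⟩, fun q => rfl⟩
    have hτ2 : ∀ q, τ (τ q) = q := by
      intro q
      apply Subtype.ext
      rw [hτapp, hτapp, hαinv]
      calc α * (α * (q : G) * α) * α = (α * α) * q * (α * α) := by group
        _ = q := by rw [hα2]; group
    have hτne : ∃ q, τ q ≠ q := by
      obtain ⟨q, hq, hne⟩ := hαne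
      refine ⟨⟨q, hq⟩, fun h => hne ?_⟩
      have := congrArg Subtype.val h
      rwa [hτapp] at this
    -- the centre of Qg is {1, z}
    have hzcen : (⟨z, hzQ⟩ : ↥Qg) ∈ Subgroup.center ↥Qg := by
      rw [Subgroup.mem_center_iff]
      intro g
      apply Subtype.ext
      exact hzc g g.2
    have hzne : (⟨z, hzQ⟩ : ↥Qg) ≠ 1 := fun h => hz1 (congrArg Subtype.val h)
    have hcen : ∀ x : ↥Qg, x ∈ Subgroup.center ↥Qg ↔ (x : G) ∈ Subgroup.zpowers z := by
      intro x
      rw [mem_zpowers_of_order_two hz]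
      constructor
      · intro hx
        by_cases hx1 : x = 1
        · left; rw [hx1]; rfl
        · right
          have := helper9.eq_of_mem_center_of_card_two hZ hx hzcen hx1 hzne
          rw [this]
      · rintro (h | h)
        · have : x = 1 := Subtype.ext h
          rw [this]; exact Subgroup.one_mem _
        · have : x = ⟨z, hzQ⟩ := Subtype.ext h
          rw [this]; exact hzcen
    have hQ₀le : Q₀ ≤ Qg := fun q hq => ((hQ₀ q).mp hq).1
    have hQ₀' : ∀ q : ↥Qg, q ∈ Q₀.subgroupOf Qg ↔ τ q * q⁻¹ ∈ Subgroup.center ↥Qg := by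
      intro q
      rw [Subgroup.mem_subgroupOf, hQ₀, hcen]
      simp only [Subgroup.coe_mul, Subgroup.coe_inv, hτapp]
      exact ⟨fun h => h.2, fun h => ⟨q.2, h⟩⟩
    have key := helper9.comm_closure_eq hcl hZ hsq τ hτ2 hτne (Q₀.subgroupOf Qg) hQ₀'
    -- transport to G
    have h1 : Subgroup.closure ((fun q : G => α * q * α⁻¹ * q⁻¹) '' (Qg : Set G)) =
        (Subgroup.closure (Set.range (fun q : ↥Qg => τ q * q⁻¹))).map Qg.subtype := by
      rw [MonoidHom.map_closure]
      congr 1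
      ext x
      constructor
      · rintro ⟨q, hq, rfl⟩
        refine ⟨τ ⟨q, hq⟩ * (⟨q, hq⟩ : ↥Qg)⁻¹, ⟨⟨q, hq⟩, rfl⟩, ?_⟩
        simp only [Subgroup.coe_subtype, Subgroup.coe_mul, Subgroup.coe_inv, hτapp]
      · rintro ⟨_, ⟨q, rfl⟩, rfl⟩
        refine ⟨(q : G), q.2, ?_⟩
        simp only [Subgroup.coe_subtype, Subgroup.coe_mul, Subgroup.coe_inv, hτapp]
    rw [h1, key]
    ext x
    rw [Subgroup.mem_map, Subgroup.mem_map]
    constructor
    · rintro ⟨x', hx', rfl⟩
      obtain ⟨hx1, hx2⟩ := Subgroup.mem_inf.mp hx'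
      rw [Subgroup.mem_subgroupOf] at hx1
      refine ⟨⟨(x' : G), hx1⟩, ?_, rfl⟩
      rw [Subgroup.mem_center_iff]
      intro y
      apply Subtype.ext
      have h3 := (Subgroup.mem_centralizer_iff.mp hx2) ⟨(y : G), hQ₀le y.2⟩
        (by rw [SetLike.mem_coe, Subgroup.mem_subgroupOf]; exact y.2)
      have h4 := congrArg Subtype.val h3
      simp only [Subgroup.coe_mul] at h4 ⊢
      exact h4
    · rintro ⟨x', hx', rfl⟩
      rw [Subgroup.mem_center_iff] at hx'
      refine ⟨⟨(x' : G), hQ₀le x'.2⟩, Subgroup.mem_inf.mpr ⟨?_, ?_⟩, rfl⟩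
      · rw [Subgroup.mem_subgroupOf]; exact x'.2
      · rw [Subgroup.mem_centralizer_iff]
        intro y hy
        rw [SetLike.mem_coe, Subgroup.mem_subgroupOf] at hy
        apply Subtype.ext
        have h3 := hx' ⟨(y : G), hy⟩
        have h4 := congrArg Subtype.val h3
        simp only [Subgroup.coe_mul] at h4 ⊢
        exact h4
  · intro hnot
    rw [SetLike.not_le_iff_exists] at hnot
    obtain ⟨q, hq, hqn⟩ := hnot
    obtain ⟨hqQ, hqz⟩ := (hQ₀ q).mp hq
    rw [mem_zpowers_of_order_two hz] at hqz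
    rcases hqz with h | h
    · exfalso
      apply hqn
      apply Subgroup.mem_sup_left
      refine Subgroup.mem_inf.mpr ⟨hqQ, ?_⟩
      rw [Subgroup.mem_centralizer_iff]
      intro g hg
      rw [Set.mem_singleton_iff] at hg
      subst hg
      calc g * q = g * q * g⁻¹ * q⁻¹ * q * g := by group
        _ = q * g := by rw [h, one_mul]
    · refine ⟨q, hqQ, ?_⟩
      rw [hαinv] at h
      -- α q α q⁻¹ = z
      calc q * α * q⁻¹ = α * (α * q * α * q⁻¹) := by
            rw [← mul_assoc, ← mul_assoc, ← mul_assoc, hα2, one_mul]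
        _ = α * z := by rw [h]

/-- the statement with the centralizer abstracted as `C` -/
theorem core2 {G : Type*} [Group G] [Finite G] (z : G) (hz : orderOf z = 2) (C : Subgroup G)
    (hCdef : C = Subgroup.centralizer ({z} : Set G))
    (hE : Cfsg.IsExtraspecial 2 ↥(Cfsg.generalizedFittingSubgroup ↥C))
    (α : G) (hα : orderOf α = 2) (hαC : α ∈ C)
    (hαQ : α ∉ (Cfsg.generalizedFittingSubgroup ↥C).map C.subtype)
    (Q₀ : Subgroup G)
    (hQ₀ : ∀ q : G, q ∈ Q₀ ↔ (q ∈ (Cfsg.generalizedFittingSubgroup ↥C).map C.subtype ∧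
      α * q * α⁻¹ * q⁻¹ ∈ Subgroup.zpowers z)) :
    Subgroup.closure ((fun q : G => α * q * α⁻¹ * q⁻¹) ''
        ((Cfsg.generalizedFittingSubgroup ↥C).map C.subtype : Set G)) =
        (Subgroup.center ↥Q₀).map Q₀.subtype ∧
      (¬ Q₀ ≤ ((Cfsg.generalizedFittingSubgroup ↥C).map C.subtype ⊓
          Subgroup.centralizer ({α} : Set G)) ⊔ Subgroup.zpowers z →
        ∃ q ∈ (Cfsg.generalizedFittingSubgroup ↥C).map C.subtype, q * α * q⁻¹ = α * z) := by
  haveI : Fact (Nat.Prime 2) := ⟨Nat.prime_two⟩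
  obtain ⟨⟨hp, hfr, hcomm⟩, hZc⟩ := hE
  have hcl' : ∀ x y : ↥(Cfsg.generalizedFittingSubgroup ↥C),
      ⁅x, y⁆ ∈ Subgroup.center ↥(Cfsg.generalizedFittingSubgroup ↥C) := by
    intro x y
    rw [← hcomm, commutator_def]
    exact Subgroup.commutator_mem_commutator (Subgroup.mem_top x) (Subgroup.mem_top y)
  have hsq' : ∀ x : ↥(Cfsg.generalizedFittingSubgroup ↥C),
      x * x ∈ Subgroup.center ↥(Cfsg.generalizedFittingSubgroup ↥C) := by
    intro x
    rw [← hfr, ← pow_two]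
    exact helper1.pow_mem_frattini_of_isPGroup hp x
  -- the isomorphism onto the image in G
  obtain ⟨e⟩ : Nonempty (↥(Cfsg.generalizedFittingSubgroup ↥C) ≃*
      ↥((Cfsg.generalizedFittingSubgroup ↥C).map C.subtype)) :=
    ⟨(Cfsg.generalizedFittingSubgroup ↥C).equivMapOfInjective C.subtype C.subtype_injective⟩
  have hQgeq : (Cfsg.generalizedFittingSubgroup ↥C).map C.subtype = helper7.fstarOf C :=
    helper7.map_generalizedFittingSubgroup_eq C
  obtain ⟨Qg, hQg⟩ : ∃ Qg : Subgroup G, Qg = (Cfsg.generalizedFittingSubgroup ↥C).map C.subtype :=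
    ⟨_, rfl⟩
  rw [← hQg] at e hαQ hQ₀ hQgeq ⊢
  have hcenmap : ∀ a : ↥(Cfsg.generalizedFittingSubgroup ↥C),
      a ∈ Subgroup.center ↥(Cfsg.generalizedFittingSubgroup ↥C) → e a ∈ Subgroup.center ↥Qg := by
    intro a ha
    rw [← helper9.map_center_mulEquiv e]
    exact Subgroup.mem_map_of_mem _ ha
  have hcl : ∀ x y : ↥Qg, ⁅x, y⁆ ∈ Subgroup.center ↥Qg := by
    intro x y
    have h1 : ⁅x, y⁆ = e ⁅e.symm x, e.symm y⁆ := by
      rw [map_commutatorElement, e.apply_symm_apply, e.apply_symm_apply]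
    rw [h1]
    exact hcenmap _ (hcl' _ _)
  have hZ : Nat.card (Subgroup.center ↥Qg) = 2 := by
    rw [← hZc]
    exact (Nat.card_congr (Subgroup.centerCongr e).toEquiv).symm
  have hsq : ∀ x : ↥Qg, x * x ∈ Subgroup.center ↥Qg := by
    intro x
    have h1 : x * x = e (e.symm x * e.symm x) := by
      rw [map_mul, e.apply_symm_apply]
    rw [h1]
    exact hcenmap _ (hsq' _)
  -- z ∈ Qg
  have hzC : z ∈ C := by
    rw [hCdef, Subgroup.mem_centralizer_iff]
    intro h hh
    rw [Set.mem_singleton_iff] at hh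
    rw [hh]
  have hCz : ∀ c ∈ C, z * c = c * z := by
    intro c hc
    rw [hCdef, Subgroup.mem_centralizer_iff] at hc
    exact hc z rfl
  have hQgC : Qg ≤ C := by rw [hQgeq]; exact helper7.fstarOf_le C
  have hzQ : z ∈ Qg := by
    have h1 : Subgroup.zpowers z ≤ helper7.fitOf C := by
      apply helper7.nilpotent_sn_le_fitOf
      · apply helper7.SN.of_normal
        · rw [Subgroup.zpowers_le]; exact hzC
        · intro c hc
          apply Subgroup.centralizer_le_normalizer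
          rw [Subgroup.mem_centralizer_iff]
          intro h hh
          obtain ⟨k, rfl⟩ := Subgroup.mem_zpowers_iff.mp hh
          exact ((Commute.zpow_left (show Commute z c from hCz c hc)) k).eq
      · apply helper7.abelian_nilpotent
        rw [Subgroup.zpowers_le, Subgroup.mem_centralizer_iff]
        intro h hh
        obtain ⟨k, rfl⟩ := Subgroup.mem_zpowers_iff.mp hh
        exact ((Commute.zpow_left (Commute.refl z)) k).eq
    rw [hQgeq]
    exact le_sup_right (α := Subgroup G) (h1 (Subgroup.mem_zpowers z))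
  have hzc : ∀ q ∈ Qg, q * z = z * q := fun q hq => (hCz q (hQgC hq)).symm
  have hαz : α * z = z * α := (hCz α hαC).symm
  have hαN : ∀ q ∈ Qg, α * q * α⁻¹ ∈ Qg := by
    intro q hq
    have h1 : α ∈ Subgroup.normalizer (Qg : Set G) := by
      rw [hQgeq]; exact helper7.fstarOf_normal C hαC
    exact ((Subgroup.mem_normalizer_iff.mp h1) q).mp hq
  have hαne : ∃ q ∈ Qg, α * q * α⁻¹ ≠ q := by
    by_contra hcon
    push Not at hcon
    apply hαQ
    rw [hQgeq]
    apply helper7.centralizer_fstarOf_le C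
    refine Subgroup.mem_inf.mpr ⟨hαC, ?_⟩
    rw [Subgroup.mem_centralizer_iff]
    intro q hq
    rw [← hQgeq] at hq
    have h1 := hcon q hq
    calc q * α = α * q * α⁻¹ * α := by rw [h1]
      _ = α * q := by group
  exact core Qg hcl hZ hsq z hz hzQ hzc α hα hαz hαN hαne Q₀ hQ₀

theorem result {G : Type*} [Group G] [Finite G] (z : G) (hz : orderOf z = 2) (hQ : Cfsg.IsOfSymplecticType ↥(Cfsg.generalizedFittingSubgroup ↥(Subgroup.centralizer ({z} : Set G)))) (hE : Cfsg.IsExtraspecial 2 ↥(Cfsg.generalizedFittingSubgroup ↥(Subgroup.centralizer ({z} : Set G))))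
    (α : G) (hα : orderOf α = 2) (hαC : α ∈ Subgroup.centralizer ({z} : Set G)) (hαQ : α ∉ (Cfsg.generalizedFittingSubgroup ↥(Subgroup.centralizer ({z} : Set G))).map (Subgroup.centralizer ({z} : Set G)).subtype)
    (Q₀ : Subgroup G) (hQ₀ : ∀ q : G, q ∈ Q₀ ↔ (q ∈ (Cfsg.generalizedFittingSubgroup ↥(Subgroup.centralizer ({z} : Set G))).map (Subgroup.centralizer ({z} : Set G)).subtype ∧ α * q * α⁻¹ * q⁻¹ ∈ Subgroup.zpowers z)) :
    Subgroup.closure ((fun q : G => α * q * α⁻¹ * q⁻¹) '' ((Cfsg.generalizedFittingSubgroup ↥(Subgroup.centralizer ({z} : Set G))).map (Subgroup.centralizer ({z} : Set G)).subtype : Set G)) = (Subgroup.center ↥Q₀).map Q₀.subtype ∧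
      (¬ Q₀ ≤ ((Cfsg.generalizedFittingSubgroup ↥(Subgroup.centralizer ({z} : Set G))).map (Subgroup.centralizer ({z} : Set G)).subtype ⊓ Subgroup.centralizer ({α} : Set G)) ⊔ Subgroup.zpowers z →
        ∃ q ∈ (Cfsg.generalizedFittingSubgroup ↥(Subgroup.centralizer ({z} : Set G))).map (Subgroup.centralizer ({z} : Set G)).subtype, q * α * q⁻¹ = α * z) := by
  exact core2 z hz _ rfl hE α hα hαC hαQ Q₀ hQ₀

end Cfsg.Agent.S1784
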