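import Mathlib
import Cfsg.Statements.S1785

set_option autoImplicit false
open Cfsg

namespace Cfsg.Agent.S1785

variable {X : Type*} [Group X]

/-- elementwise description of an elementary abelian 2-subgroup -/
def EA (A : Subgroup X) : Prop :=
  (∀ a ∈ A, ∀ b ∈ A, a * b = b * a) ∧ ∀ a ∈ A, a * a = 1

theorem ea_iff (A : Subgroup X) : Cfsg.IsElementaryAbelian 2 A ↔ EA A := by
  unfold Cfsg.IsElementaryAbelian EA
  constructor
  · rintro ⟨h1, h2⟩
    refine ⟨fun a ha b hb => ?_, fun a ha => ?_⟩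
    · have := h1.is_comm.comm (⟨a, ha⟩ : A) ⟨b, hb⟩
      exact congrArg Subtype.val this
    · rw [← pow_two]; exact h2 a ha
  · rintro ⟨h1, h2⟩
    refine ⟨⟨⟨fun a b => Subtype.ext (h1 a a.2 b b.2)⟩⟩, fun a ha => ?_⟩
    rw [pow_two]; exact h2 a ha

theorem EA.mono {A B : Subgroup X} (hB : EA B) (h : A ≤ B) : EA A :=
  ⟨fun a ha b hb => hB.1 a (h ha) b (h hb), fun a ha => hB.2 a (h ha)⟩

theorem EA.bot : EA (⊥ : Subgroup X) := by
  refine ⟨fun a ha b hb => ?_, fun a ha => ?_⟩
  · rw [Subgroup.mem_bot] at ha hb; rw [ha, hb]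
  · rw [Subgroup.mem_bot] at ha; rw [ha, one_mul]

/-- adjoining a commuting involution to an elementary abelian subgroup -/
theorem exists_adjoin [Finite X] (V : Subgroup X) (hV : EA V) (e : X) (he2 : e * e = 1)
    (hc : ∀ v ∈ V, e * v = v * e) (heV : e ∉ V) :
    ∃ W : Subgroup X, EA W ∧ V ≤ W ∧ e ∈ W ∧ Nat.card W = 2 * Nat.card V ∧
      (∀ x, x ∈ W ↔ (x ∈ V ∨ e * x ∈ V)) := by
  have heinv : e⁻¹ = e := inv_eq_of_mul_eq_one_right he2
  -- e commutes with x whenever e * x ∈ V
  have hc' : ∀ x, e * x ∈ V → e * x = x * e := by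
    intro x hx
    have h1 := hc _ hx
    -- e * (e * x) = (e * x) * e
    calc e * x = e * (e * (e * x)) := by rw [← mul_assoc e e, he2, one_mul]
      _ = e * ((e * x) * e) := by rw [h1]
      _ = (e * e) * x * e := by group
      _ = x * e := by rw [he2, one_mul]
  let W : Subgroup X :=
    { carrier := {x | x ∈ V ∨ e * x ∈ V}
      one_mem' := Or.inl V.one_mem
      mul_mem' := by
        rintro x y (hx | hx) (hy | hy)
        · exact Or.inl (V.mul_mem hx hy)
        · right
          have : e * (x * y) = x * (e * y) := by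
            rw [← mul_assoc, hc x hx, mul_assoc]
          rw [this]; exact V.mul_mem hx hy
        · right
          rw [← mul_assoc]; exact V.mul_mem hx hy
        · left
          have : x * y = (e * x) * (e * y) := by
            rw [hc' x hx]
            calc x * y = x * (e * e) * y := by rw [he2, mul_one]
              _ = x * e * (e * y) := by group
          rw [this]; exact V.mul_mem hx hy
      inv_mem' := by
        rintro x (hx | hx)
        · exact Or.inl (V.inv_mem hx)
        · right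
          have : e * x⁻¹ = (e * x)⁻¹ := by
            rw [hc' x hx, mul_inv_rev, heinv]
          rw [this]; exact V.inv_mem hx }
  have hmem : ∀ x, x ∈ W ↔ (x ∈ V ∨ e * x ∈ V) := fun x => Iff.rfl
  refine ⟨W, ⟨?_, ?_⟩, fun x hx => Or.inl hx, Or.inr (by rw [he2]; exact V.one_mem), ?_, hmem⟩
  · -- commutative
    have key : ∀ a ∈ W, e * a = a * e := by
      rintro a (ha | ha)
      · exact hc a ha
      · exact hc' a ha
    rintro a (ha | ha) b (hb | hb)
    · exact hV.1 a ha b hb
    · have h1 := hV.1 a ha _ hb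
      -- a * (e * b) = (e * b) * a
      calc a * b = e * (a * (e * b)) := by rw [← mul_assoc a e b, ← hc a ha]; group; rw [he2]; group
        _ = e * ((e * b) * a) := by rw [h1]
        _ = b * a := by rw [← mul_assoc, ← mul_assoc, he2, one_mul]
    · have h1 := hV.1 _ ha b hb
      calc a * b = e * ((e * a) * b) := by rw [← mul_assoc, ← mul_assoc, he2, one_mul]
        _ = e * (b * (e * a)) := by rw [h1]
        _ = b * a := by rw [← mul_assoc b e a, ← hc b hb]; group; rw [he2]; group
    · have h1 := hV.1 _ ha _ hb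
      have ea := hc' a ha
      have eb := hc' b hb
      calc a * b = (e * a) * (e * b) := by
            rw [ea]
            calc a * b = a * (e * e) * b := by rw [he2, mul_one]
              _ = a * e * (e * b) := by group
        _ = (e * b) * (e * a) := h1
        _ = b * a := by
            rw [eb]
            calc b * e * (e * a) = b * (e * e) * a := by group
              _ = b * a := by rw [he2, mul_one]
  · -- squares
    rintro a (ha | ha)
    · exact hV.2 a ha
    · have h1 := hV.2 _ ha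
      have ea := hc' a ha
      calc a * a = a * (e * e) * a := by rw [he2, mul_one]
        _ = (a * e) * (e * a) := by group
        _ = (e * a) * (e * a) := by rw [ea]
        _ = 1 := h1
  · -- cardinality
    have hf : ∀ v : ↥V ⊕ ↥V, Sum.elim (fun v : ↥V => (v : X)) (fun v : ↥V => e * (v : X)) v ∈ W := by
      rintro (v | v)
      · exact Or.inl v.2
      · right
        show e * (e * (v : X)) ∈ V
        rw [← mul_assoc, he2, one_mul]; exact v.2
    let f : ↥V ⊕ ↥V → ↥W := fun v => ⟨_, hf v⟩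
    have hbij : Function.Bijective f := by
      constructor
      · rintro (a | a) (b | b) h
        · have h0 : ((f (Sum.inl a) : ↥W) : X) = ((f (Sum.inl b) : ↥W) : X) := by rw [h]
          have : (a : X) = b := h0
          rw [Subtype.ext this]
        · exfalso
          have h0 : ((f (Sum.inl a) : ↥W) : X) = ((f (Sum.inr b) : ↥W) : X) := by rw [h]
          have h1 : (a : X) = e * b := h0
          apply heV
          have : e = a * (b : X)⁻¹ := by rw [h1]; group
          rw [this]; exact V.mul_mem a.2 (V.inv_mem b.2)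
        · exfalso
          have h0 : ((f (Sum.inr a) : ↥W) : X) = ((f (Sum.inl b) : ↥W) : X) := by rw [h]
          have h1 : e * (a : X) = b := h0
          apply heV
          have : e = b * (a : X)⁻¹ := by rw [← h1]; group
          rw [this]; exact V.mul_mem b.2 (V.inv_mem a.2)
        · have h0 : ((f (Sum.inr a) : ↥W) : X) = ((f (Sum.inr b) : ↥W) : X) := by rw [h]
          have h1 : e * (a : X) = e * b := h0
          have : (a : X) = b := mul_left_cancel h1
          rw [Subtype.ext this]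
      · rintro ⟨x, (hx | hx)⟩
        · exact ⟨Sum.inl ⟨x, hx⟩, rfl⟩
        · refine ⟨Sum.inr ⟨e * x, hx⟩, ?_⟩
          apply Subtype.ext
          show e * (e * x) = x
          rw [← mul_assoc, he2, one_mul]
    rw [← Nat.card_congr (Equiv.ofBijective f hbij), Nat.card_sum]
    ring

/-- fixed points of an involution on an invariant elementary abelian 2-subgroup -/
theorem card_le_sq_card_fix [Finite X] (F : Subgroup X) (hF : EA F) (t : X) (ht2 : t * t = 1)
    (hinv : ∀ f ∈ F, t * f * t⁻¹ ∈ F) :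
    Nat.card F ≤ Nat.card ↥(F ⊓ Subgroup.centralizer ({t} : Set X)) ^ 2 := by
  have htinv : t⁻¹ = t := inv_eq_of_mul_eq_one_right ht2
  let φ : ↥F →* ↥F := MonoidHom.mk'
    (fun f => ⟨(f : X) * (t * f * t⁻¹), F.mul_mem f.2 (hinv f f.2)⟩) (by
    intro a b
    apply Subtype.ext
    simp only [Subgroup.coe_mul]
    have h1 : t * ((a : X) * b) * t⁻¹ = (t * a * t⁻¹) * (t * b * t⁻¹) := by group
    rw [h1]
    have h2 := hF.1 (b : X) b.2 (t * a * t⁻¹) (hinv a a.2)
    calc (a : X) * b * ((t * a * t⁻¹) * (t * b * t⁻¹))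
        = a * (b * (t * a * t⁻¹)) * (t * b * t⁻¹) := by group
      _ = a * ((t * a * t⁻¹) * b) * (t * b * t⁻¹) := by rw [h2]
      _ = a * (t * a * t⁻¹) * (b * (t * b * t⁻¹)) := by group)
  have hφ : ∀ f : ↥F, ((φ f : ↥F) : X) = (f : X) * (t * f * t⁻¹) := fun f => rfl
  have hker : φ.ker ≤ (Subgroup.centralizer ({t} : Set X)).subgroupOf F := by
    intro f hf
    rw [MonoidHom.mem_ker] at hf
    have h1 : (f : X) * (t * f * t⁻¹) = 1 := by rw [← hφ, hf]; rfl
    have h2 : (f : X) * f = 1 := hF.2 f f.2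
    have h3 : t * f * t⁻¹ = f := by
      have : (f : X) * (t * f * t⁻¹) = f * f := by rw [h1, h2]
      exact mul_left_cancel this
    rw [Subgroup.mem_subgroupOf, Subgroup.mem_centralizer_iff]
    intro g hg
    rw [Set.mem_singleton_iff] at hg
    subst hg
    calc g * (f : X) = g * f * g⁻¹ * g := by group
      _ = f * g := by rw [h3]
  have hrange : φ.range ≤ (Subgroup.centralizer ({t} : Set X)).subgroupOf F := by
    rintro _ ⟨f, rfl⟩
    rw [Subgroup.mem_subgroupOf, Subgroup.mem_centralizer_iff]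
    intro g hg
    rw [Set.mem_singleton_iff] at hg
    subst hg
    rw [hφ]
    have h2 := hF.1 (f : X) f.2 (g * f * g⁻¹) (hinv f f.2)
    rw [htinv] at h2 ⊢
    calc g * ((f : X) * (g * f * g)) = (g * f * g) * f * g := by group
      _ = f * (g * f * g) * g := by rw [← h2]
  have h1 : Nat.card φ.ker * Nat.card φ.range = Nat.card F := by
    rw [← Subgroup.index_ker]; exact Subgroup.card_mul_index _
  have hk := Subgroup.card_le_of_le hker
  have hr := Subgroup.card_le_of_le hrange
  have hCF : Nat.card ((Subgroup.centralizer ({t} : Set X)).subgroupOf F) =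
      Nat.card ↥(F ⊓ Subgroup.centralizer ({t} : Set X)) := by
    have h5 : (Subgroup.centralizer ({t} : Set X)).subgroupOf F =
        (F ⊓ Subgroup.centralizer ({t} : Set X)).subgroupOf F := by
      rw [Subgroup.inf_subgroupOf_left]
    rw [h5]
    exact Nat.card_congr (Subgroup.subgroupOfEquivOfLe inf_le_left).toEquiv
  calc Nat.card F = Nat.card φ.ker * Nat.card φ.range := h1.symm
    _ ≤ Nat.card ((Subgroup.centralizer ({t} : Set X)).subgroupOf F) *
        Nat.card ((Subgroup.centralizer ({t} : Set X)).subgroupOf F) := Nat.mul_le_mul hk hr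
    _ = _ := by rw [hCF, pow_two]

theorem num_aux (r cI cF : ℕ) (h1 : r * cI ≤ 8) (h2 : cF ≤ cI) (h3 : 32 ≤ cF ^ r) : False := by
  have h4 : cF ^ r ≤ cI ^ r := Nat.pow_le_pow_left h2 r
  have h5 : 32 ≤ cI ^ r := le_trans h3 h4
  rcases Nat.eq_zero_or_pos cI with h0 | h0
  · subst h0
    rcases Nat.eq_zero_or_pos r with hr | hr
    · subst hr; norm_num at h5
    · rw [Nat.zero_pow hr] at h5; omega
  · have hr : r ≤ 8 := by nlinarith
    rcases Nat.eq_zero_or_pos r with hr0 | hr0
    · subst hr0; norm_num at h5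
    · have hI : cI ≤ 8 := by nlinarith
      interval_cases r <;> interval_cases cI <;> omega

/-- the chain from `A ⊓ E` up to `A`, keeping track of common fixed points on `E` -/
theorem exists_fix_aux [Finite X] (E : Subgroup X) (hE : EA E) (A : Subgroup X) (hA : EA A) :
    ∀ (n : ℕ) (W F : Subgroup X) (r : ℕ), Nat.card A - Nat.card W = n → W ≤ A → F ≤ E →
      F ≤ Subgroup.centralizer (W : Set X) → (∀ a ∈ A, ∀ f ∈ F, a * f * a⁻¹ ∈ F) →
      Nat.card W = r * Nat.card ↥(A ⊓ E) → Nat.card E ≤ Nat.card F ^ r →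
      ∃ (F' : Subgroup X) (r' : ℕ), F' ≤ E ∧ F' ≤ Subgroup.centralizer (A : Set X) ∧
        Nat.card A = r' * Nat.card ↥(A ⊓ E) ∧ Nat.card E ≤ Nat.card F' ^ r' := by
  intro n
  induction n using Nat.strong_induction_on with
  | _ n ih =>
    intro W F r hn hWA hFE hFW hinv hcard hpow
    by_cases hWeq : W = A
    · subst hWeq
      exact ⟨F, r, hFE, hFW, hcard, hpow⟩
    · -- pick c ∈ A \ W
      obtain ⟨c, hcA, hcW⟩ : ∃ c ∈ A, c ∉ W := by
        by_contra hcon
        push Not at hcon
        exact hWeq (le_antisymm hWA hcon)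
      obtain ⟨W', hW'EA, hWW', hcW', hW'card, hW'mem⟩ :=
        exists_adjoin W (hA.mono hWA) c (hA.2 c hcA) (fun v hv => hA.1 c hcA v (hWA hv)) hcW
      have hW'A : W' ≤ A := by
        intro x hx
        rcases (hW'mem x).mp hx with h | h
        · exact hWA h
        · have : x = c⁻¹ * (c * x) := by group
          rw [this]; exact A.mul_mem (A.inv_mem hcA) (hWA h)
      have hF'W' : F ⊓ Subgroup.centralizer ({c} : Set X) ≤ Subgroup.centralizer (W' : Set X) := by
        intro f hf
        obtain ⟨hfF, hfc⟩ := Subgroup.mem_inf.mp hf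
        have hcf : c * f = f * c := (Subgroup.mem_centralizer_iff.mp hfc) c rfl
        rw [Subgroup.mem_centralizer_iff]
        intro x hx
        rcases (hW'mem x).mp hx with h | h
        · exact (Subgroup.mem_centralizer_iff.mp (hFW hfF)) x h
        · have h1 := (Subgroup.mem_centralizer_iff.mp (hFW hfF)) _ h
          -- (c x) f = f (c x)
          calc x * f = c⁻¹ * ((c * x) * f) := by group
            _ = c⁻¹ * (f * (c * x)) := by rw [h1]
            _ = c⁻¹ * (f * c) * x := by group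
            _ = c⁻¹ * (c * f) * x := by rw [hcf]
            _ = f * x := by group
      have hinv' : ∀ a ∈ A, ∀ f ∈ F ⊓ Subgroup.centralizer ({c} : Set X),
          a * f * a⁻¹ ∈ F ⊓ Subgroup.centralizer ({c} : Set X) := by
        intro a ha f hf
        obtain ⟨hfF, hfc⟩ := Subgroup.mem_inf.mp hf
        have hcf : c * f = f * c := (Subgroup.mem_centralizer_iff.mp hfc) c rfl
        refine Subgroup.mem_inf.mpr ⟨hinv a ha f hfF, ?_⟩
        rw [Subgroup.mem_centralizer_iff]
        intro g hg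
        rw [Set.mem_singleton_iff] at hg
        subst hg
        have hga : g * a = a * g := hA.1 g hcA a ha
        have hga' : g * a⁻¹ = a⁻¹ * g := by
          calc g * a⁻¹ = a⁻¹ * (a * g) * a⁻¹ := by group
            _ = a⁻¹ * (g * a) * a⁻¹ := by rw [hga]
            _ = a⁻¹ * g := by group
        calc g * (a * f * a⁻¹) = (g * a) * f * a⁻¹ := by group
          _ = (a * g) * f * a⁻¹ := by rw [hga]
          _ = a * (g * f) * a⁻¹ := by group
          _ = a * (f * g) * a⁻¹ := by rw [hcf]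
          _ = a * f * (g * a⁻¹) := by group
          _ = a * f * (a⁻¹ * g) := by rw [hga']
          _ = a * f * a⁻¹ * g := by group
      have hsq := card_le_sq_card_fix F (hE.mono hFE) c (hA.2 c hcA) (fun f hf => hinv c hcA f hf)
      have hcard' : Nat.card W' = (2 * r) * Nat.card ↥(A ⊓ E) := by
        rw [hW'card, hcard]; ring
      have hpow' : Nat.card E ≤ Nat.card ↥(F ⊓ Subgroup.centralizer ({c} : Set X)) ^ (2 * r) := by
        calc Nat.card E ≤ Nat.card F ^ r := hpow
          _ ≤ (Nat.card ↥(F ⊓ Subgroup.centralizer ({c} : Set X)) ^ 2) ^ r :=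
              Nat.pow_le_pow_left hsq r
          _ = _ := by rw [← pow_mul]
      have hW'le : Nat.card W' ≤ Nat.card A := Subgroup.card_le_of_le hW'A
      have hWpos : 0 < Nat.card W := Nat.card_pos
      have hlt : Nat.card A - Nat.card W' < n := by omega
      exact ih _ hlt W' (F ⊓ Subgroup.centralizer ({c} : Set X)) (2 * r) rfl hW'A
        (le_trans inf_le_left hFE) hF'W' hinv' hcard' hpow'

theorem exists_fix [Finite X] (E : Subgroup X) [E.Normal] (hE : EA E) (A : Subgroup X)
    (hA : EA A) :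
    ∃ (F : Subgroup X) (r : ℕ), F ≤ E ∧ F ≤ Subgroup.centralizer (A : Set X) ∧
      Nat.card A = r * Nat.card ↥(A ⊓ E) ∧ Nat.card E ≤ Nat.card F ^ r := by
  refine exists_fix_aux E hE A hA _ (A ⊓ E) E 1 rfl inf_le_left le_rfl ?_ ?_ (by ring) (by simp)
  · intro f hf
    rw [Subgroup.mem_centralizer_iff]
    intro x hx
    exact hE.1 x (Subgroup.mem_inf.mp hx).2 f hf
  · intro a _ f hf
    exact (inferInstance : E.Normal).conj_mem f hf a

/-- an element of `E` centralizing `A` and outside `A` -/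
theorem exists_central_outside [Finite X] (E : Subgroup X) [E.Normal] (hE : EA E)
    (hE32 : 32 ≤ Nat.card E) (A : Subgroup X) (hA : EA A) (hA8 : Nat.card A ≤ 8) :
    ∃ e ∈ E, e ∈ Subgroup.centralizer (A : Set X) ∧ e ∉ A := by
  obtain ⟨F, r, hFE, hFA, hcard, hpow⟩ := exists_fix E hE A hA
  by_contra hcon
  push Not at hcon
  have hle : F ≤ A ⊓ E := fun f hf => Subgroup.mem_inf.mpr ⟨hcon f (hFE hf) (hFA hf), hFE hf⟩
  have h2 := Subgroup.card_le_of_le hle
  exact num_aux r _ _ (by rw [← hcard]; exact hA8) h2 (le_trans hE32 hpow)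

/-- growing a proper subgroup of an elementary abelian group by one step -/
theorem grow [Finite X] (A : Subgroup X) (hA : EA A) (W : Subgroup X) (hWA : W ≤ A) (hne : W ≠ A) :
    ∃ W' : Subgroup X, W ≤ W' ∧ W' ≤ A ∧ Nat.card W' = 2 * Nat.card W := by
  obtain ⟨c, hcA, hcW⟩ : ∃ c ∈ A, c ∉ W := by
    by_contra hcon
    push Not at hcon
    exact hne (le_antisymm hWA hcon)
  obtain ⟨W', _, hWW', _, hW'card, hW'mem⟩ :=
    exists_adjoin W (hA.mono hWA) c (hA.2 c hcA) (fun v hv => hA.1 c hcA v (hWA hv)) hcW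
  refine ⟨W', hWW', ?_, hW'card⟩
  intro x hx
  rcases (hW'mem x).mp hx with h | h
  · exact hWA h
  · have : x = c⁻¹ * (c * x) := by group
    rw [this]; exact A.mul_mem (A.inv_mem hcA) (hWA h)

/-- a subgroup of order four between a proper subgroup `I` and `A` (of order eight) -/
theorem exists_between [Finite X] (A : Subgroup X) (hA : EA A) (hA8 : Nat.card A = 8)
    (I : Subgroup X) (hIA : I ≤ A) (hne : I ≠ A) :
    ∃ V : Subgroup X, I ≤ V ∧ V ≤ A ∧ Nat.card V = 4 := by
  have hdvd : Nat.card I ∣ 8 := by rw [← hA8]; exact Subgroup.card_dvd_of_le hIA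
  have hle : Nat.card I ≤ 8 := Nat.le_of_dvd (by norm_num) hdvd
  have hpos : 0 < Nat.card I := Nat.card_pos
  have h8 : Nat.card I ≠ 8 := by
    intro h
    apply hne
    exact Subgroup.eq_of_le_of_card_ge hIA (by rw [h, hA8])
  have hcases : Nat.card I = 1 ∨ Nat.card I = 2 ∨ Nat.card I = 4 := by
    interval_cases h : Nat.card I <;> simp_all <;> omega
  rcases hcases with h | h | h
  · obtain ⟨W₁, h1, h2, h3⟩ := grow A hA I hIA hne
    have hne1 : W₁ ≠ A := by
      intro heq; rw [heq, hA8, h] at h3; omega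
    obtain ⟨W₂, h4, h5, h6⟩ := grow A hA W₁ h2 hne1
    exact ⟨W₂, le_trans h1 h4, h5, by rw [h6, h3, h]⟩
  · obtain ⟨W₁, h1, h2, h3⟩ := grow A hA I hIA hne
    exact ⟨W₁, h1, h2, by rw [h3, h]⟩
  · exact ⟨I, le_rfl, hIA, h⟩

section Main

variable [Finite X] (E : Subgroup X) [E.Normal] (hE : EA E) (hE32 : 32 ≤ Nat.card E)

include hE hE32

/-- part (b) -/
theorem partB (V : Subgroup X) (hV : EA V) (hV4 : Nat.card V = 4) :
    ∃ A : Subgroup X, V ≤ A ∧ EA A ∧ Nat.card A = 8 := by
  obtain ⟨e, heE, heC, heV⟩ := exists_central_outside E hE hE32 V hV (by omega)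
  obtain ⟨W, hWEA, hVW, _, hWcard, _⟩ := exists_adjoin V hV e (hE.2 e heE)
    (fun v hv => ((Subgroup.mem_centralizer_iff.mp heC) v hv).symm) heV
  exact ⟨W, hVW, hWEA, by rw [hWcard, hV4]⟩

/-- the progress step for part (a) -/
theorem progress (A : Subgroup X) (hA : EA A) (hA8 : Nat.card A = 8) (hAE : ¬ A ≤ E) :
    ∃ A₂ : Subgroup X, EA A₂ ∧ Nat.card A₂ = 8 ∧ ⁅A, A₂⁆ = ⊥ ∧
      Nat.card ↥(A ⊓ E) < Nat.card ↥(A₂ ⊓ E) := by
  obtain ⟨e, heE, heC, heA⟩ := exists_central_outside E hE hE32 A hA (by omega)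
  have hIne : A ⊓ E ≠ A := by
    intro h
    apply hAE
    rw [← h]; exact inf_le_right
  obtain ⟨V, hIV, hVA, hV4⟩ := exists_between A hA hA8 (A ⊓ E) inf_le_left hIne
  have heV : e ∉ V := fun h => heA (hVA h)
  have hec : ∀ a ∈ A, e * a = a * e :=
    fun a ha => ((Subgroup.mem_centralizer_iff.mp heC) a ha).symm
  obtain ⟨A₂, hA₂EA, hVA₂, heA₂, hA₂card, hA₂mem⟩ := exists_adjoin V (hA.mono hVA) e (hE.2 e heE)
    (fun v hv => hec v (hVA hv)) heV
  refine ⟨A₂, hA₂EA, by rw [hA₂card, hV4], ?_, ?_⟩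
  · rw [Subgroup.commutator_eq_bot_iff_le_centralizer]
    intro a ha
    rw [Subgroup.mem_centralizer_iff]
    intro x hx
    rcases (hA₂mem x).mp hx with h | h
    · exact hA.1 x (hVA h) a ha
    · have h1 := hA.1 _ (hVA h) a ha
      have h2 := hec a ha
      calc x * a = e⁻¹ * ((e * x) * a) := by group
        _ = e⁻¹ * (a * (e * x)) := by rw [h1]
        _ = e⁻¹ * (a * e) * x := by group
        _ = e⁻¹ * (e * a) * x := by rw [h2]
        _ = a * x := by group
  · have hle : A ⊓ E ≤ A₂ ⊓ E := le_inf (le_trans hIV hVA₂) inf_le_right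
    by_contra hnot
    push Not at hnot
    have heq : A ⊓ E = A₂ ⊓ E := Subgroup.eq_of_le_of_card_ge hle hnot
    have h1 : e ∈ A₂ ⊓ E := Subgroup.mem_inf.mpr ⟨heA₂, heE⟩
    rw [← heq] at h1
    exact heA (Subgroup.mem_inf.mp h1).1

/-- the relation of the statement -/
def rel (C D : Subgroup X) : Prop :=
  Cfsg.IsElementaryAbelian 2 C ∧ Nat.card ↥C = 8 ∧ Cfsg.IsElementaryAbelian 2 D ∧
    Nat.card ↥D = 8 ∧ ⁅C, D⁆ = ⊥

theorem connect : ∀ (n : ℕ) (A : Subgroup X), EA A → Nat.card A = 8 →
    8 - Nat.card ↥(A ⊓ E) = n →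
    ∃ A' : Subgroup X, EA A' ∧ Nat.card A' = 8 ∧ A' ≤ E ∧ Relation.ReflTransGen rel A A' := by
  intro n
  induction n using Nat.strong_induction_on with
  | _ n ih =>
    intro A hA hA8 hn
    by_cases hAE : A ≤ E
    · exact ⟨A, hA, hA8, hAE, Relation.ReflTransGen.refl⟩
    · obtain ⟨A₂, hA₂, hA₂8, hcomm, hlt⟩ := progress E hE hE32 A hA hA8 hAE
      have hle : Nat.card ↥(A₂ ⊓ E) ≤ 8 := by
        rw [← hA₂8]; exact Subgroup.card_le_of_le inf_le_left
      obtain ⟨A', hA', hA'8, hA'E, hchain⟩ := ih (8 - Nat.card ↥(A₂ ⊓ E)) (by omega) A₂ hA₂ hA₂8 rfl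
      refine ⟨A', hA', hA'8, hA'E, Relation.ReflTransGen.head ?_ hchain⟩
      exact ⟨(ea_iff A).mpr hA, hA8, (ea_iff A₂).mpr hA₂, hA₂8, hcomm⟩

end Main

theorem result {X : Type*} [Group X] [Finite X]
    (hX : IsPGroup 2 X) (E : Subgroup X) [E.Normal] (hE : Cfsg.IsElementaryAbelian 2 E) (hE32 : 32 ≤ Nat.card ↥E) :
    (∀ A B : Subgroup X, Cfsg.IsElementaryAbelian 2 A → Nat.card ↥A = 8 → Cfsg.IsElementaryAbelian 2 B → Nat.card ↥B = 8 →
        Relation.ReflTransGen
          (fun C D : Subgroup X => Cfsg.IsElementaryAbelian 2 C ∧ Nat.card ↥C = 8 ∧ Cfsg.IsElementaryAbelian 2 D ∧ Nat.card ↥D = 8 ∧ ⁅C, D⁆ = ⊥)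
          A B) ∧
      (∀ V : Subgroup X, Cfsg.IsElementaryAbelian 2 V → Nat.card ↥V = 4 →
        ∃ A : Subgroup X, V ≤ A ∧ Cfsg.IsElementaryAbelian 2 A ∧ Nat.card ↥A = 8) := by
  have hE' : EA E := (ea_iff E).mp hE
  constructor
  · intro A B hA hA8 hB hB8
    obtain ⟨A', hA', hA'8, hA'E, hchainA⟩ :=
      connect E hE' hE32 _ A ((ea_iff A).mp hA) hA8 rfl
    obtain ⟨B', hB', hB'8, hB'E, hchainB⟩ :=
      connect E hE' hE32 _ B ((ea_iff B).mp hB) hB8 rfl
    have hsymm : Symmetric (rel (X := X)) := by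
      rintro C D ⟨h1, h2, h3, h4, h5⟩
      exact ⟨h3, h4, h1, h2, by rw [Subgroup.commutator_comm]; exact h5⟩
    have hAB : rel A' B' := by
      refine ⟨(ea_iff A').mpr hA', hA'8, (ea_iff B').mpr hB', hB'8, ?_⟩
      rw [Subgroup.commutator_eq_bot_iff_le_centralizer]
      intro a ha
      rw [Subgroup.mem_centralizer_iff]
      intro b hb
      exact hE'.1 b (hB'E hb) a (hA'E ha)
    have hBsymm : Relation.ReflTransGen rel B' B := by
      clear hB'8 hB'E hAB hB'
      induction hchainB with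
      | refl => exact Relation.ReflTransGen.refl
      | tail _ hbc ih => exact Relation.ReflTransGen.head (hsymm hbc) ih
    exact hchainA.trans (Relation.ReflTransGen.head hAB hBsymm)
  · intro V hV hV4
    obtain ⟨A, hVA, hA, hA8⟩ := partB E hE' hE32 V ((ea_iff V).mp hV) hV4
    exact ⟨A, hVA, (ea_iff A).mpr hA, hA8⟩

end Cfsg.Agent.S1785
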