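import Cfsg.Statements.S1850
-- import your own Cfsg.Agent.* helpers here
import Mathlib
import Cfsg.Agent.Lib_helper19_HeLocal

set_option autoImplicit false
open Cfsg

namespace Cfsg.Agent.S1850

/-- Let G be a non-abelian finite simple QTKE-group and T a Sylow 2-subgroup of G. If U is a nontrivial 2-subgroup of G with U ∩ Z(T) ≠ 1, then F*(N_G(U)) = O₂(N_G(U)). -/
theorem result {G : Type*} [Group G] [Finite G] [IsSimpleGroup G]
    (hG : ¬ IsMulCommutative G) (hQ : Cfsg.IsQTKE G) (T : Sylow 2 G) (U : Subgroup G)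
    (hU : IsPGroup 2 ↥U) (hZ : U ⊓ ((T : Subgroup G) ⊓ Subgroup.centralizer ((T : Subgroup G) : Set G)) ≠ ⊥) :
    Subgroup.normalizer (U : Set G) ∈ Cfsg.calHe G := by
  haveI : Fact (Nat.Prime 2) := ⟨Nat.prime_two⟩
  show Cfsg.generalizedFittingSubgroup ↥(Subgroup.normalizer (U : Set G)) =
    Cfsg.pCore 2 ↥(Subgroup.normalizer (U : Set G))
  rw [Cfsg.Agent.helper14.fstar_type_iff]
  -- a nontrivial element of `U ∩ Z(T)`
  obtain ⟨z, hz1⟩ := (Subgroup.ne_bot_iff_exists_ne_one).mp hZ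
  obtain ⟨z, hzI⟩ := z
  have hz1' : z ≠ 1 := fun h => hz1 (Subtype.ext h)
  obtain ⟨hzU, hzT, hzC⟩ := hzI
  -- `T ≤ C(⟨z⟩) ≤ N(⟨z⟩)`
  have hTC : (T : Subgroup G) ≤ Subgroup.centralizer ((Subgroup.zpowers z : Subgroup G) : Set G) := by
    rw [Cfsg.Agent.helper14.centralizer_zpowers_eq]
    intro x hx
    rw [Subgroup.mem_centralizer_iff]
    intro y hy
    rw [Set.mem_singleton_iff] at hy
    subst hy
    exact (Subgroup.mem_centralizer_iff.mp hzC x hx).symm
  have hCN : Subgroup.centralizer ((Subgroup.zpowers z : Subgroup G) : Set G) ≤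
      Subgroup.normalizer ((Subgroup.zpowers z : Subgroup G) : Set G) :=
    Subgroup.centralizer_le_normalizer _
  have hZp : IsPGroup 2 (Subgroup.zpowers z) :=
    T.isPGroup'.to_le (Subgroup.zpowers_le.mpr hzT)
  have hZ1 : Subgroup.zpowers z ≠ ⊥ := fun h => hz1' (Subgroup.zpowers_eq_bot.mp h)
  have hE : Cfsg.IsOfCharacteristicTwo
      ↥(Subgroup.normalizer ((Subgroup.zpowers z : Subgroup G) : Set G)) :=
    hQ.2.2 _ ⟨Subgroup.zpowers z, hZp, hZ1, rfl⟩ ⟨T, hTC.trans hCN⟩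
  have h2 : Cfsg.Agent.helper14.AC 2
      (Subgroup.normalizer ((Subgroup.zpowers z : Subgroup G) : Set G)) :=
    Cfsg.Agent.helper14.ac_of_isCharP _ hE
  have h3 : Cfsg.Agent.helper14.AC 2
      (Subgroup.centralizer ((Subgroup.zpowers z : Subgroup G) : Set G)) :=
    Cfsg.Agent.helper14.ac_of_sn h2
      (Cfsg.Agent.helper7.SN.of_normal hCN
        (Cfsg.Agent.helper14.normalizer_le_normalizer_centralizer _))
  exact Cfsg.Agent.helper19.HeLocal.ac_normalizer_of_le hU (Subgroup.zpowers_le.mpr hzU) h3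

end Cfsg.Agent.S1850
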