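import Cfsg.Statements.S3743
-- import your own Cfsg.Agent.* helpers here
import Mathlib
import Cfsg.Agent.Lib_helper7_Fitting

set_option autoImplicit false
open Cfsg

namespace Cfsg.Agent.S3743

/-- In a finite group G, every subnormal nilpotent subgroup lies in the Fitting subgroup F(G), and, for a set of primes π, every subnormal subgroup all of whose prime divisors lie in π lies in O_π(G). -/
theorem result {G : Type*} [Group G] [Finite G] (A : Subgroup G) (hA : A.IsSubnormal) : (Group.IsNilpotent A → A ≤ Cfsg.fittingSubgroup G) ∧ ∀ π : Set ℕ, (∀ p : ℕ, p.Prime → p ∣ Nat.card A → p ∈ π) → A ≤ Cfsg.piCore π G := by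
  open Cfsg.Agent.helper7 in
  refine ⟨fun hnil => ?_, fun π hπ => ?_⟩
  · rw [fittingSubgroup_eq]
    exact nilpotent_sn_le_fitOf (sn_top_iff.2 hA) hnil
  · have h1 : Cfsg.piCore π G = piCoreIn π (⊤ : Subgroup G) := by
      unfold Cfsg.piCore piCoreIn
      rw [sSup_normal_eq_radOf]
      congr 1
      funext N
      exact propext piGrp_iff_card.symm
    rw [h1]
    exact le_piCoreIn_of_sn (sn_top_iff.2 hA) (piGrp_iff_card.2 hπ)

end Cfsg.Agent.S3743
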