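import Cfsg.Statements.S1892
-- import your own Cfsg.Agent.* helpers here
import Mathlib
import Cfsg.Agent.Lib_helper23_PSolv
import Cfsg.Agent.Lib_helper10_Sylow

set_option autoImplicit false
open Cfsg
open scoped commutatorElement

namespace Cfsg.Agent.S1892

open Cfsg.Agent.helper10

variable {S : Type*} [Group S]

/-- The elements normalizing `N` and acting trivially on `P` modulo `N`. -/
def kerAct (P N : Subgroup S) : Subgroup S where
  carrier := {g | g ∈ Subgroup.normalizer (N : Set S) ∧ ∀ x ∈ P, ⁅x, g⁆ ∈ N}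
  one_mem' := ⟨Subgroup.one_mem _, fun x _ => by
    rw [commutatorElement_one_right]; exact N.one_mem⟩
  mul_mem' := by
    rintro g h ⟨hg1, hg2⟩ ⟨hh1, hh2⟩
    refine ⟨Subgroup.mul_mem _ hg1 hh1, fun x hx => ?_⟩
    have e : ⁅x, g * h⁆ = ⁅x, g⁆ * (g * ⁅x, h⁆ * g⁻¹) := by
      simp only [commutatorElement_def]; group
    rw [e]
    exact N.mul_mem (hg2 x hx) ((Subgroup.mem_normalizer_iff.1 hg1 _).1 (hh2 x hx))
  inv_mem' := by
    rintro g ⟨hg1, hg2⟩
    refine ⟨Subgroup.inv_mem _ hg1, fun x hx => ?_⟩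
    have e : ⁅x, g⁻¹⁆ = g⁻¹ * (⁅x, g⁆)⁻¹ * g⁻¹⁻¹ := by
      simp only [commutatorElement_def]; group
    rw [e]
    exact (Subgroup.mem_normalizer_iff.1 (Subgroup.inv_mem _ hg1) _).1 (N.inv_mem (hg2 x hx))

theorem mem_kerAct {P N : Subgroup S} {g : S} :
    g ∈ kerAct P N ↔ g ∈ Subgroup.normalizer (N : Set S) ∧ ∀ x ∈ P, ⁅x, g⁆ ∈ N := Iff.rfl

theorem conj_mem_kerAct {P N : Subgroup S} (hP : P.Normal) {g n : S} (hg : g ∈ kerAct P N)
    (hn : n ∈ Subgroup.normalizer (N : Set S)) : n * g * n⁻¹ ∈ kerAct P N := by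
  obtain ⟨hg1, hg2⟩ := hg
  refine ⟨Subgroup.mul_mem _ (Subgroup.mul_mem _ hn hg1) (Subgroup.inv_mem _ hn), fun x hx => ?_⟩
  have e : ⁅x, n * g * n⁻¹⁆ = n * ⁅n⁻¹ * x * n⁻¹⁻¹, g⁆ * n⁻¹ := by
    simp only [commutatorElement_def]; group
  rw [e]
  exact (Subgroup.mem_normalizer_iff.1 hn _).1 (hg2 _ (hP.conj_mem x hx n⁻¹))

theorem le_normalizer_of_conj {H K : Subgroup S} (h : ∀ g ∈ H, ∀ x ∈ K, g * x * g⁻¹ ∈ K) :
    H ≤ Subgroup.normalizer (K : Set S) := by
  intro g hg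
  rw [Subgroup.mem_normalizer_iff]
  intro x
  constructor
  · exact h g hg x
  · intro hx
    have := h g⁻¹ (H.inv_mem hg) _ hx
    have e : g⁻¹ * (g * x * g⁻¹) * g⁻¹⁻¹ = x := by group
    rwa [e] at this

/-- Let S be a finite p-solvable group with no nontrivial normal subgroup of order prime to p, A a p-subgroup of S, and Q a nontrivial A-invariant subgroup of order prime to p with [A, Q] = Q. Then the commutator [O_p(S), A, Q] is nontrivial. -/
theorem result {S : Type*} [Group S] [Finite S] {p : ℕ} [Fact p.Prime]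
    (hS : Cfsg.IsPSolvable p S) (hred : Cfsg.pPrimeCore p S = ⊥)
    (A Q : Subgroup S) (hA : IsPGroup p A) (hQ : ¬ p ∣ Nat.card Q) (hQ1 : Q ≠ ⊥)
    (hinv : ∀ a ∈ A, ∀ x ∈ Q, a * x * a⁻¹ ∈ Q) (hAQ : ⁅A, Q⁆ = Q) :
    ⁅⁅Cfsg.pCore p S, A⁆, Q⁆ ≠ ⊥ := by
  intro hcon
  have hPn : (Cfsg.pCore p S).Normal := helper1.pCore_normal p
  have hPp : IsPGroup p (Cfsg.pCore p S) := helper1.pCore_isPGroup p
  have hHH : Subgroup.centralizer ((Cfsg.pCore p S : Subgroup S) : Set S) ≤ Cfsg.pCore p S :=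
    helper23.hall_higman_123 (helper23.psreach_of_isPSolvable hS) hred
  -- elements of N = [P, A] commute with elements of Q
  have hNQ : ∀ n ∈ ⁅Cfsg.pCore p S, A⁆, ∀ q ∈ Q, q * n = n * q := by
    intro n hn q hq
    have h1 := (Subgroup.commutator_eq_bot_iff_le_centralizer.1 hcon) hn
    exact Subgroup.mem_centralizer_iff.1 h1 q hq
  have hQnorm : Q ≤ Subgroup.normalizer ((⁅Cfsg.pCore p S, A⁆ : Subgroup S) : Set S) := by
    apply le_normalizer_of_conj
    intro q hq n hn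
    have e : q * n * q⁻¹ = n := by rw [hNQ n hn q hq]; group
    rw [e]; exact hn
  have hAnorm : A ≤ Subgroup.normalizer ((⁅Cfsg.pCore p S, A⁆ : Subgroup S) : Set S) := by
    intro a ha
    rw [mem_normalizer_iff_map_conj, Subgroup.map_commutator]
    have h1 : (Cfsg.pCore p S).map (MulAut.conj a).toMonoidHom = Cfsg.pCore p S := by
      rw [← mem_normalizer_iff_map_conj, Subgroup.normalizer_eq_top_iff.2 hPn]
      exact Subgroup.mem_top a
    have h2 : A.map (MulAut.conj a).toMonoidHom = A := by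
      rw [← mem_normalizer_iff_map_conj]
      exact Subgroup.le_normalizer ha
    rw [h1, h2]
  -- A ≤ kerAct
  have hAker : A ≤ kerAct (Cfsg.pCore p S) ⁅Cfsg.pCore p S, A⁆ := by
    intro a ha
    exact ⟨hAnorm ha, fun x hx => Subgroup.commutator_mem_commutator hx ha⟩
  -- Q = [A, Q] ≤ kerAct
  have hQker : Q ≤ kerAct (Cfsg.pCore p S) ⁅Cfsg.pCore p S, A⁆ := by
    rw [← hAQ]
    rw [Subgroup.commutator_le]
    intro a ha q hq
    have e : ⁅a, q⁆ = a * (q * a⁻¹ * q⁻¹) := by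
      simp only [commutatorElement_def]; group
    rw [e]
    refine Subgroup.mul_mem _ (hAker ha) ?_
    exact conj_mem_kerAct hPn (Subgroup.inv_mem _ (hAker ha)) (hQnorm hq)
  -- Q centralizes P
  have hQcent : Q ≤ Subgroup.centralizer ((Cfsg.pCore p S : Subgroup S) : Set S) := by
    intro q hq
    rw [Subgroup.mem_centralizer_iff]
    intro x hx
    -- c = [x, q] ∈ N, commutes with q, lies in P
    have hcN : ⁅x, q⁆ ∈ ⁅Cfsg.pCore p S, A⁆ := (hQker hq).2 x hx
    have hcP : ⁅x, q⁆ ∈ Cfsg.pCore p S := by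
      have e : ⁅x, q⁆ = x * (q * x⁻¹ * q⁻¹) := by
        simp only [commutatorElement_def]; group
      rw [e]
      exact Subgroup.mul_mem _ hx (hPn.conj_mem _ (Subgroup.inv_mem _ hx) q)
    have hcomm : Commute ⁅x, q⁆ q := (hNQ _ hcN q hq).symm
    have hpow : (⁅x, q⁆) ^ (orderOf q) = 1 := by
      have h1 : (⁅x, q⁆ * q) ^ (orderOf q) = (⁅x, q⁆) ^ (orderOf q) * q ^ (orderOf q) :=
        hcomm.mul_pow _
      have h2 : ⁅x, q⁆ * q = x * q * x⁻¹ := by
        simp only [commutatorElement_def]; group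
      rw [h2, conj_pow, pow_orderOf_eq_one, mul_one, mul_one, mul_inv_cancel] at h1
      exact h1.symm
    have hdvd : orderOf ⁅x, q⁆ ∣ Nat.card Q :=
      (orderOf_dvd_of_pow_eq_one hpow).trans (Q.orderOf_dvd_natCard hq)
    obtain ⟨k, hk⟩ := (IsPGroup.iff_orderOf.1 hPp) ⟨⁅x, q⁆, hcP⟩
    rw [Subgroup.orderOf_mk] at hk
    have hk0 : k = 0 := by
      by_contra hk0
      apply hQ
      refine dvd_trans ?_ hdvd
      rw [hk]
      exact dvd_pow_self p hk0
    rw [hk0, pow_zero, orderOf_eq_one_iff] at hk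
    -- [x, q] = 1
    have : x * q * x⁻¹ * q⁻¹ = 1 := by rw [← commutatorElement_def]; exact hk
    calc x * q = x * q * x⁻¹ * q⁻¹ * (q * x) := by group
      _ = q * x := by rw [this, one_mul]
  have hQP : Q ≤ Cfsg.pCore p S := hQcent.trans hHH
  have hQp : IsPGroup p Q := hPp.to_le hQP
  rcases hQp.card_eq_or_dvd with h | h
  · exact hQ1 (Subgroup.card_eq_one.1 h)
  · exact hQ h

end Cfsg.Agent.S1892
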