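import Mathlib
import Cfsg.Statements.S1894
import Cfsg.Agent.Lib_helper10_PGroup

set_option autoImplicit false
open Cfsg
open scoped commutatorElement

namespace Cfsg.Agent.S1894

open Cfsg.Agent.helper10

theorem result {P : Type*} [Group P] [Finite P] {p : ℕ} [Fact p.Prime] (hP : IsPGroup p P)
    (A : Subgroup P) [A.Normal] (B : Subgroup P) [B.Normal] (hBA : B ≤ A) (hB : IsMulCommutative B) :
    ∃ C : Subgroup P, C.Normal ∧ B ≤ C ∧ Cfsg.IsSCN A C := by
  haveI : Group.IsNilpotent P := hP.isNilpotent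
  let pr : Subgroup P → Prop :=
    fun C => C.Normal ∧ B ≤ C ∧ C ≤ A ∧ ∀ x ∈ C, ∀ y ∈ C, x * y = y * x
  have hBpr : pr B := ⟨inferInstance, le_rfl, hBA, fun x hx y hy => by
    have := hB.is_comm.comm (⟨x, hx⟩ : B) ⟨y, hy⟩
    exact congrArg Subtype.val this⟩
  obtain ⟨C, hBC, hCmax⟩ := Finite.exists_le_maximal hBpr
  obtain ⟨⟨hCn, hBC', hCA, hCcomm⟩, hmax⟩ := hCmax
  haveI := hCn
  refine ⟨C, hCn, hBC, hCA, ?_, ?_⟩
  · rw [Subgroup.normalizer_eq_top]; exact le_top
  · apply le_antisymm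
    · by_contra hne
      obtain ⟨x, hxD, hxC, hcomm⟩ :=
        exists_mem_not_mem_comm_mem (A ⊓ Subgroup.centralizer (C : Set P)) ⊤ C
          (by rw [Subgroup.normalizer_eq_top]) hne
      have hxA : x ∈ A := hxD.1
      have hxcent : x ∈ Subgroup.centralizer (C : Set P) := hxD.2
      have hnorm : (C ⊔ Subgroup.zpowers x).Normal :=
        normal_sup_zpowers C x (fun g => hcomm g (Subgroup.mem_top g))
      have hpr : pr (C ⊔ Subgroup.zpowers x) :=
        ⟨hnorm, le_trans hBC le_sup_left,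
          sup_le hCA (by rw [Subgroup.zpowers_le]; exact hxA),
          comm_sup_zpowers C x hCcomm hxcent⟩
      have hle : C ⊔ Subgroup.zpowers x ≤ C := hmax hpr le_sup_left
      exact hxC (hle (Subgroup.mem_sup_right (Subgroup.mem_zpowers x)))
    · exact le_inf hCA (fun c hc => Subgroup.mem_centralizer_iff.mpr
        (fun y hy => hCcomm y hy c hc))
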