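import Mathlib
import Cfsg.Statements.S4419
import Cfsg.Agent.S0071
import Cfsg.Agent.S0946
import Cfsg.Agent.S0120
import Cfsg.Agent.Lib_helper10_PPrimeP

set_option autoImplicit false
open Cfsg

namespace Cfsg.Agent.S4419

set_option backward.isDefEq.respectTransparency false in
/-- A `q`-automorphism of a `p`-group fixes pointwise an invariant subgroup of order at most `p²`,
if `q ∤ p (p² - 1)`. -/
theorem fix_omega {U : Type*} [Group U] [Finite U] {p q : ℕ} [hp : Fact p.Prime] [hq : Fact q.Prime]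
    (hU : IsPGroup p U) (hqp : q ≠ p) (hq2 : ¬ q ∣ p ^ 2 - 1) (α : MulAut U) (k : ℕ)
    (hα : α ^ q ^ k = 1) (T : Subgroup U) (hT : ∀ x ∈ T, α x ∈ T) (hcard : Nat.card T ≤ p ^ 2) :
    ∀ x ∈ T, α x = x := by
  obtain ⟨F, hF⟩ : ∃ F : Subgroup U, F = T ⊓ MonoidHom.eqLocus α.toMonoidHom (MonoidHom.id U) :=
    ⟨_, rfl⟩
  have hFmem : ∀ x, x ∈ F ↔ x ∈ T ∧ α x = x := by
    intro x
    rw [hF, Subgroup.mem_inf]
    rfl
  have hFT : F ≤ T := fun x hx => ((hFmem x).mp hx).1
  letI : Fintype ↥T := Fintype.ofFinite _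
  letI : DecidableEq ↥T := Classical.decEq _
  obtain ⟨f, hf⟩ : ∃ f : Function.End ↥T, ∀ x : ↥T, ((f x : ↥T) : U) = α x :=
    ⟨fun x => ⟨α x, hT x x.2⟩, fun x => rfl⟩
  have hfpow : ∀ (j : ℕ) (x : ↥T), (((f ^ j) x : ↥T) : U) = (α ^ j) x := by
    intro j
    induction j with
    | zero => intro x; rfl
    | succ j ih =>
      intro x
      rw [pow_succ', pow_succ']
      show ((f ((f ^ j) x) : ↥T) : U) = α ((α ^ j) x)
      rw [hf, ih]
  have hfq : f ^ q ^ k = 1 := by
    funext x
    apply Subtype.ext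
    rw [hfpow, hα]
    rfl
  have hmod := Equiv.Perm.card_fixedPoints_modEq (p := q) (n := k) hfq
  rw [← Nat.card_eq_fintype_card, ← Nat.card_eq_fintype_card] at hmod
  have hfixcard : Nat.card (Function.fixedPoints f) = Nat.card F := by
    apply Nat.card_congr
    refine ⟨fun x => ⟨x.1.1, (hFmem _).mpr ⟨x.1.2, ?_⟩⟩, fun y => ⟨⟨y.1, hFT y.2⟩, ?_⟩, ?_, ?_⟩
    · have h1 : f x.1 = x.1 := x.2
      rw [← hf, h1]
    · show f ⟨y.1, hFT y.2⟩ = ⟨y.1, hFT y.2⟩
      apply Subtype.ext
      rw [hf]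
      exact ((hFmem _).mp y.2).2
    · intro x; rfl
    · intro y; rfl
  rw [hfixcard] at hmod
  obtain ⟨d, hd⟩ := (hU.to_subgroup T).exists_card_eq
  obtain ⟨e, he⟩ := (hU.to_subgroup F).exists_card_eq
  have hle : Nat.card F ≤ Nat.card T := Subgroup.card_le_of_le hFT
  by_cases hFTeq : Nat.card T ≤ Nat.card F
  · have h1 : F = T := Subgroup.eq_of_le_of_card_ge hFT hFTeq
    intro x hx
    exact ((hFmem x).mp (h1 ▸ hx)).2
  · exfalso
    have hlt : Nat.card F < Nat.card T := by omega
    have hdvd : q ∣ Nat.card T - Nat.card F := (Nat.modEq_iff_dvd' hle).mp hmod.symm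
    rw [hd, he] at hdvd hlt
    rw [hd] at hcard
    have hp1 : 1 < p := hp.out.one_lt
    have hed : e < d := (Nat.pow_lt_pow_iff_right hp1).mp hlt
    have hd2 : d ≤ 2 := (Nat.pow_le_pow_iff_right hp1).mp hcard
    have hq1 : ¬ q ∣ p := fun h1 => hqp ((Nat.prime_dvd_prime_iff_eq hq.out hp.out).mp h1)
    have hpm1 : p - 1 ∣ p ^ 2 - 1 := by
      have : p ^ 2 - 1 = (p - 1) * (p + 1) := by
        obtain ⟨c, rfl⟩ : ∃ c, p = c + 1 := ⟨p - 1, by omega⟩
        simp only [Nat.add_sub_cancel]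
        ring_nf
        omega
      rw [this]
      exact dvd_mul_right _ _
    have hq3 : ¬ q ∣ p - 1 := fun h1 => hq2 (h1.trans hpm1)
    interval_cases d
    · omega
    · have he0 : e = 0 := by omega
      subst he0
      rw [pow_one, pow_zero] at hdvd
      exact hq3 hdvd
    · interval_cases e
      · rw [pow_zero] at hdvd
        exact hq2 hdvd
      · have h2 : p ^ 2 - p ^ 1 = p * (p - 1) := by
          obtain ⟨c, rfl⟩ : ∃ c, p = c + 1 := ⟨p - 1, by omega⟩
          simp only [Nat.add_sub_cancel, pow_one]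
          have : (c + 1) ^ 2 = (c + 1) * c + (c + 1) := by ring
          rw [this, Nat.add_sub_cancel]
        rw [h2] at hdvd
        rcases (Nat.Prime.dvd_mul hq.out).mp hdvd with h3 | h3
        · exact hq1 h3
        · exact hq3 h3

/-- A `q`-automorphism of a `p`-group fixes pointwise an invariant abelian subgroup with at most
`p²` elements of order dividing `p`. -/
theorem fix_abelian {U : Type*} [Group U] [Finite U] {p q : ℕ} [hp : Fact p.Prime]
    [hq : Fact q.Prime] (hU : IsPGroup p U) (hqp : q ≠ p) (hq2 : ¬ q ∣ p ^ 2 - 1) (α : MulAut U)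
    (k : ℕ) (hα : α ^ q ^ k = 1) (W : Subgroup U) (hW : ∀ x ∈ W, α x ∈ W)
    (hab : ∀ x ∈ W, ∀ y ∈ W, x * y = y * x)
    (hcard : ∀ T : Subgroup U, T ≤ W → (∀ x ∈ T, x ^ p = 1) → Nat.card T ≤ p ^ 2) :
    ∀ x ∈ W, α x = x := by
  obtain ⟨T, hT⟩ : ∃ T : Subgroup U, ∀ x, x ∈ T ↔ x ∈ W ∧ x ^ p = 1 := by
    refine ⟨{ carrier := {x | x ∈ W ∧ x ^ p = 1}
              mul_mem' := ?_
              one_mem' := ⟨W.one_mem, one_pow _⟩
              inv_mem' := ?_ }, fun x => Iff.rfl⟩
    · rintro a b ⟨ha, ha'⟩ ⟨hb, hb'⟩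
      refine ⟨W.mul_mem ha hb, ?_⟩
      have hc : Commute a b := hab a ha b hb
      rw [hc.mul_pow, ha', hb', one_mul]
    · rintro a ⟨ha, ha'⟩
      exact ⟨W.inv_mem ha, by rw [inv_pow, ha', inv_one]⟩
  have hTW : T ≤ W := fun x hx => ((hT x).mp hx).1
  have hTinv : ∀ x ∈ T, α x ∈ T := by
    intro x hx
    obtain ⟨h1, h2⟩ := (hT x).mp hx
    exact (hT _).mpr ⟨hW x h1, by rw [← map_pow, h2, map_one]⟩
  have hTfix := fix_omega hU hqp hq2 α k hα T hTinv
    (hcard T hTW (fun x hx => ((hT x).mp hx).2))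
  have hcop : Nat.Coprime (q ^ k) p :=
    Nat.Coprime.pow_left k ((Nat.coprime_primes hq.out hp.out).mpr hqp)
  have hind : ∀ j : ℕ, ∀ x ∈ W, x ^ p ^ j = 1 → α x = x := by
    intro j
    induction j with
    | zero =>
      intro x _ hx
      rw [pow_zero, pow_one] at hx
      rw [hx, map_one]
    | succ j ih =>
      intro x hxW hx
      have h1 : α (x ^ p) = x ^ p := by
        apply ih _ (W.pow_mem hxW p)
        rw [← pow_mul, ← pow_succ']
        exact hx
      have hyW : x⁻¹ * α x ∈ W := W.mul_mem (W.inv_mem hxW) (hW x hxW)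
      have hyT : x⁻¹ * α x ∈ T := by
        rw [hT]
        refine ⟨hyW, ?_⟩
        have hc : Commute x⁻¹ (α x) := hab _ (W.inv_mem hxW) _ (hW x hxW)
        rw [hc.mul_pow, ← map_pow, h1, inv_pow, inv_mul_cancel]
      have h2 := hTfix _ hyT
      exact Cfsg.Agent.S0120.fixed_of_comm_fixed hU α (q ^ k) hcop hα x h2
  intro x hxW
  obtain ⟨j, hj⟩ := hU x
  exact hind j x hxW hj

/-- A finite cyclic group of exponent dividing `p` has at most `p` elements. -/
theorem cyclic_card_le {R : Type*} [Group R] [Finite R] [IsCyclic R] {p : ℕ} (hp : 0 < p)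
    (h : ∀ y : R, y ^ p = 1) : Nat.card R ≤ p := by
  obtain ⟨g, hg⟩ := IsCyclic.exists_generator (α := R)
  rw [← orderOf_eq_card_of_forall_mem_zpowers hg]
  exact orderOf_le_of_pow_eq_one hp (h g)

/-- In a metacyclic group a subgroup of exponent `p` has order at most `p²`. -/
theorem meta_card_le {X : Type*} [Group X] [Finite X] (N : Subgroup X) [N.Normal]
    (hN : IsCyclic N) (hXN : IsCyclic (X ⧸ N)) {p : ℕ} (hp : 0 < p) (T : Subgroup X)
    (hT : ∀ x ∈ T, x ^ p = 1) : Nat.card T ≤ p ^ 2 := by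
  obtain ⟨φ, hφ⟩ : ∃ φ : T →* X ⧸ N, φ = (QuotientGroup.mk' N).comp T.subtype := ⟨_, rfl⟩
  have hφapp : ∀ t : T, φ t = QuotientGroup.mk' N (t : X) := by
    intro t
    rw [hφ]
    rfl
  have h1 : Nat.card φ.ker * Nat.card φ.range = Nat.card T := by
    rw [← Subgroup.index_ker, Subgroup.card_mul_index]
  have h2 : Nat.card φ.range ≤ p := by
    apply cyclic_card_le hp
    rintro ⟨y, ⟨x, rfl⟩⟩
    apply Subtype.ext
    rw [Subgroup.coe_pow, Subgroup.coe_one, ← map_pow]
    have : x ^ p = 1 := Subtype.ext (by rw [Subgroup.coe_pow]; exact hT x x.2)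
    rw [this, map_one]
  have h3 : Nat.card φ.ker ≤ p := by
    obtain ⟨ι, hι⟩ : ∃ ι : φ.ker →* N, ∀ x : φ.ker, ((ι x : N) : X) = ((x : T) : X) := by
      refine ⟨⟨⟨fun x => ⟨((x : T) : X), ?_⟩, rfl⟩, fun a b => rfl⟩, fun x => rfl⟩
      have hx : φ (x : T) = 1 := x.2
      rw [hφapp] at hx
      exact (QuotientGroup.eq_one_iff _).mp hx
    have hιinj : Function.Injective ι := by
      intro a b hab
      apply Subtype.ext
      apply Subtype.ext
      rw [← hι, ← hι, hab]
    haveI : IsCyclic φ.ker := isCyclic_of_injective ι hιinj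
    apply cyclic_card_le hp
    intro y
    apply Subtype.ext
    apply Subtype.ext
    rw [Subgroup.coe_pow, Subgroup.coe_pow]
    exact hT _ (y : T).2
  rw [← h1, pow_two]
  exact Nat.mul_le_mul h3 h2

/-- Metacyclic groups are closed under taking subgroups (injective images). -/
theorem metacyclic_of_injective {V R : Type*} [Group V] [Group R] (f : V →* R)
    (hf : Function.Injective f) (hR : Cfsg.IsMetacyclic R) : Cfsg.IsMetacyclic V := by
  obtain ⟨N, hNn, hNc, hQc⟩ := hR
  haveI := hNn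
  refine ⟨N.comap f, inferInstance, ?_, ?_⟩
  · obtain ⟨ι, hι⟩ : ∃ ι : N.comap f →* N, ∀ x : N.comap f, ((ι x : N) : R) = f x :=
      ⟨⟨⟨fun x => ⟨f (x : V), x.2⟩, Subtype.ext (map_one f)⟩,
        fun a b => Subtype.ext (map_mul f (a : V) (b : V))⟩, fun x => rfl⟩
    have hιinj : Function.Injective ι := by
      intro a b hab
      apply Subtype.ext
      apply hf
      rw [← hι, ← hι, hab]
    exact isCyclic_of_injective ι hιinj
  · obtain ⟨ψ, hψ⟩ : ∃ ψ : V ⧸ N.comap f →* R ⧸ N, ∀ x : V, ψ (QuotientGroup.mk x) =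
        QuotientGroup.mk (f x) := ⟨QuotientGroup.map (N.comap f) N f le_rfl, fun x => rfl⟩
    have hψinj : Function.Injective ψ := by
      rw [injective_iff_map_eq_one]
      intro y hy
      induction y using QuotientGroup.induction_on with
      | H x =>
        rw [hψ, QuotientGroup.eq_one_iff] at hy
        exact (QuotientGroup.eq_one_iff _).mpr hy
    exact isCyclic_of_injective ψ hψinj

/-- A `q`-automorphism of a metacyclic `p`-group is trivial if `q ∤ p (p² - 1)`. -/
theorem aut_trivial {U : Type*} [Group U] [Finite U] {p q : ℕ} [hp : Fact p.Prime]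
    [hq : Fact q.Prime] (hU : IsPGroup p U) (hm : Cfsg.IsMetacyclic U) (hqp : q ≠ p)
    (hq2 : ¬ q ∣ p ^ 2 - 1) (α : MulAut U) (k : ℕ) (hα : α ^ q ^ k = 1) : ∀ x : U, α x = x := by
  obtain ⟨N, hNn, hNc, hQc⟩ := hm
  haveI := hNn
  have hcop : Nat.Coprime (q ^ k) p :=
    Nat.Coprime.pow_left k ((Nat.coprime_primes hq.out hp.out).mpr hqp)
  -- the derived subgroup lies in `N`
  have hcommN : commutator U ≤ N := by
    letI : CommGroup (U ⧸ N) := IsCyclic.commGroup
    have h1 := Abelianization.commutator_subset_ker (QuotientGroup.mk' N)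
    rwa [QuotientGroup.ker_mk'] at h1
  -- `α` fixes the derived subgroup pointwise
  have hcomm_inv : ∀ x ∈ commutator U, α x ∈ commutator U := by
    intro x hx
    have h1 : (commutator U).map α.toMonoidHom = commutator U := by
      rw [commutator_def, Subgroup.map_commutator]
      have h2 : (⊤ : Subgroup U).map α.toMonoidHom = ⊤ := by
        rw [← MonoidHom.range_eq_map, MonoidHom.range_eq_top]
        exact α.surjective
      rw [h2]
    rw [← h1]
    exact ⟨x, hx, rfl⟩
  have hfix1 : ∀ x ∈ commutator U, α x = x := by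
    apply fix_abelian hU hqp hq2 α k hα (commutator U) hcomm_inv
    · intro x hx y hy
      letI : CommGroup N := IsCyclic.commGroup
      have h1 : (⟨x, hcommN hx⟩ : N) * ⟨y, hcommN hy⟩ = ⟨y, hcommN hy⟩ * ⟨x, hcommN hx⟩ :=
        mul_comm _ _
      exact congrArg Subtype.val h1
    · intro T _ hT
      exact meta_card_le N hNc hQc hp.out.pos T hT
  -- `α` acts trivially on the abelianization
  obtain ⟨β, hβ⟩ : ∃ β : MulAut (Abelianization U), ∀ x : U,
      β (Abelianization.of x) = Abelianization.of (α x) :=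
    ⟨MulEquiv.abelianizationCongr α, fun x => abelianizationCongr_of α x⟩
  have hof : Function.Surjective (Abelianization.of : U → Abelianization U) :=
    QuotientGroup.mk_surjective
  have hβpow : ∀ (j : ℕ) (x : U), (β ^ j) (Abelianization.of x) = Abelianization.of ((α ^ j) x) := by
    intro j
    induction j with
    | zero => intro x; rfl
    | succ j ih =>
      intro x
      rw [pow_succ', pow_succ', MulAut.mul_apply, MulAut.mul_apply, ih, hβ]
  have hβq : β ^ q ^ k = 1 := by
    apply MulEquiv.ext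
    intro y
    obtain ⟨x, rfl⟩ := hof y
    rw [hβpow, hα]
    rfl
  have hAbp : IsPGroup p (Abelianization U) := by
    intro y
    obtain ⟨x, rfl⟩ := hof y
    obtain ⟨j, hj⟩ := hU x
    exact ⟨j, by rw [← map_pow, hj, map_one]⟩
  have hfix2 : ∀ y : Abelianization U, β y = y := by
    intro y
    obtain ⟨NB, hNB⟩ : ∃ NB : Subgroup (Abelianization U), NB = N.map Abelianization.of := ⟨_, rfl⟩
    haveI : NB.Normal := inferInstance
    have hNBc : IsCyclic NB := by
      obtain ⟨ι, hι⟩ : ∃ ι : N →* NB, ∀ x : N, ((ι x : NB) : Abelianization U) =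
          Abelianization.of (x : U) := by
        refine ⟨⟨⟨fun x => ⟨Abelianization.of (x : U), ?_⟩, ?_⟩, ?_⟩, fun x => rfl⟩
        · rw [hNB]; exact ⟨x, x.2, rfl⟩
        · apply Subtype.ext; exact map_one _
        · intro a b; apply Subtype.ext; exact map_mul _ _ _
      have hιsurj : Function.Surjective ι := by
        rintro ⟨z, hz⟩
        rw [hNB] at hz
        obtain ⟨x, hx, rfl⟩ := hz
        exact ⟨⟨x, hx⟩, Subtype.ext (hι _)⟩
      exact isCyclic_of_surjective ι hιsurj
    have hQBc : IsCyclic (Abelianization U ⧸ NB) := by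
      have hle : N ≤ NB.comap Abelianization.of := by
        intro x hx
        rw [Subgroup.mem_comap, hNB]
        exact ⟨x, hx, rfl⟩
      obtain ⟨ψ, hψ⟩ : ∃ ψ : U ⧸ N →* Abelianization U ⧸ NB, ∀ x : U, ψ (QuotientGroup.mk x) =
          QuotientGroup.mk (Abelianization.of x) :=
        ⟨QuotientGroup.map N NB Abelianization.of hle, fun x => rfl⟩
      have hψsurj : Function.Surjective ψ := by
        intro z
        induction z using QuotientGroup.induction_on with
        | H y =>
          obtain ⟨x, rfl⟩ := hof y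
          exact ⟨QuotientGroup.mk x, hψ x⟩
      exact isCyclic_of_surjective ψ hψsurj
    exact fix_abelian hAbp hqp hq2 β k hβq ⊤ (fun _ _ => Subgroup.mem_top _)
      (fun a _ b _ => mul_comm a b)
      (fun T _ hT => meta_card_le NB hNBc hQBc hp.out.pos T hT) y (Subgroup.mem_top y)
  intro x
  have h1 : Abelianization.of (x⁻¹ * α x) = 1 := by
    rw [map_mul, map_inv, ← hβ, hfix2, inv_mul_cancel]
  have h2 : x⁻¹ * α x ∈ commutator U := by
    rw [← Abelianization.ker_of]
    exact h1
  exact Cfsg.Agent.S0120.fixed_of_comm_fixed hU α (q ^ k) hcop hα x (hfix1 _ h2)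

/-- Reduction of Frobenius' condition to elements of prime power order. -/
theorem centralizes_of_primary {G : Type*} [Group G] [Finite G] {p : ℕ} (Q : Subgroup G)
    (hprim : ∀ (q : ℕ) [Fact q.Prime], q ≠ p → ∀ (k : ℕ) (g : G),
      g ∈ Subgroup.normalizer (Q : Set G) → orderOf g = q ^ k →
        g ∈ Subgroup.centralizer (Q : Set G)) :
    ∀ (r : ℕ) (g : G), orderOf g = r → g ∈ Subgroup.normalizer (Q : Set G) → Nat.Coprime r p →
      g ∈ Subgroup.centralizer (Q : Set G) := by
  intro r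
  induction r using Nat.strong_induction_on with
  | _ r ih =>
    intro g hgr hgN hcop
    have hr0 : r ≠ 0 := by rw [← hgr]; exact (orderOf_pos g).ne'
    by_cases hr1 : r = 1
    · rw [hr1, orderOf_eq_one_iff] at hgr
      rw [hgr]
      exact Subgroup.one_mem _
    obtain ⟨q, hq, hqr⟩ : ∃ q : ℕ, q.Prime ∧ q ∣ r :=
      ⟨r.minFac, Nat.minFac_prime hr1, Nat.minFac_dvd r⟩
    haveI : Fact q.Prime := ⟨hq⟩
    have hqp : q ≠ p := by
      intro h
      have h1 : p ∣ Nat.gcd r p := Nat.dvd_gcd (h ▸ hqr) dvd_rfl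
      rw [hcop] at h1
      exact hq.one_lt.ne' (h ▸ Nat.dvd_one.mp h1)
    obtain ⟨e, m, hm, hrm⟩ := Nat.exists_eq_pow_mul_and_not_dvd hr0 q hq.ne_one
    by_cases hm1 : m = 1
    · rw [hm1, mul_one] at hrm
      exact hprim q hqp e g hgN (hgr.trans hrm)
    have hm0 : m ≠ 0 := by
      intro h
      rw [h, mul_zero] at hrm
      exact hr0 hrm
    have he0 : e ≠ 0 := by
      intro h
      rw [h, pow_zero, one_mul] at hrm
      exact hm (hrm ▸ hqr)
    have hqe : 2 ≤ q ^ e := by
      calc 2 ≤ q := hq.two_le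
        _ = q ^ 1 := (pow_one _).symm
        _ ≤ q ^ e := Nat.pow_le_pow_right hq.pos (Nat.one_le_iff_ne_zero.mpr he0)
    have hmr : m < r := by
      rw [hrm]
      nlinarith [Nat.pos_of_ne_zero hm0]
    -- the two parts
    have h1 : orderOf (g ^ m) = q ^ e := by
      rw [orderOf_pow_of_dvd hm0 (by rw [hgr, hrm]; exact dvd_mul_left _ _), hgr, hrm,
        Nat.mul_div_cancel _ (Nat.pos_of_ne_zero hm0)]
    have h2 : orderOf (g ^ q ^ e) = m := by
      rw [orderOf_pow_of_dvd (pow_ne_zero _ hq.ne_zero) (by rw [hgr, hrm]; exact dvd_mul_right _ _),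
        hgr, hrm, Nat.mul_div_cancel_left _ (pow_pos hq.pos e)]
    have hc1 : g ^ m ∈ Subgroup.centralizer (Q : Set G) :=
      hprim q hqp e _ (Subgroup.pow_mem _ hgN m) h1
    have hc2 : g ^ q ^ e ∈ Subgroup.centralizer (Q : Set G) := by
      apply ih m hmr _ h2 (Subgroup.pow_mem _ hgN _)
      exact Nat.Coprime.coprime_dvd_left (by rw [hrm]; exact dvd_mul_left _ _) hcop
    have hgcd : Nat.gcd m (q ^ e) = 1 := by
      apply Nat.Coprime.pow_right
      exact (Nat.Coprime.symm ((Nat.Prime.coprime_iff_not_dvd hq).mpr hm))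
    have hbez := Int.gcd_eq_gcd_ab (m : ℤ) ((q ^ e : ℕ) : ℤ)
    rw [Int.gcd_natCast_natCast, hgcd] at hbez
    have hg : g = (g ^ m) ^ (Int.gcdA (m : ℤ) ((q ^ e : ℕ) : ℤ)) *
        (g ^ q ^ e) ^ (Int.gcdB (m : ℤ) ((q ^ e : ℕ) : ℤ)) := by
      rw [← zpow_natCast, ← zpow_natCast, ← zpow_mul, ← zpow_mul, ← zpow_add, ← hbez]
      simp
    rw [hg]
    exact Subgroup.mul_mem _ (Subgroup.zpow_mem _ hc1 _) (Subgroup.zpow_mem _ hc2 _)

/-- Let a Sylow p-subgroup of the finite group G be metacyclic. Then G has a normal p-complement if and only if the order of G/O_{p',p}(G) is coprime to p^2 - 1. -/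
theorem result {G : Type*} [Group G] [Finite G] (p : ℕ) [Fact p.Prime] (S : Sylow p G) (hS : Cfsg.IsMetacyclic ↥(S : Subgroup G)) : Cfsg.HasNormalPComplement p G ↔ Nat.Coprime (Nat.card (G ⧸ Cfsg.pPrimePCore p G)) (p ^ 2 - 1) := by
  have hpp : (Fact.out : p.Prime) = Fact.out := rfl
  constructor
  · rintro ⟨P, N, hN, hc⟩
    -- `N ≤ O_{p'}(G)`
    have hNcop : (Nat.card N).Coprime p := by
      have h1 := hc.card_mul_card
      have h2 : Nat.card N = (P : Subgroup G).index := by
        have h3 := (P : Subgroup G).card_mul_index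
        rw [← h1, mul_comm] at h3
        exact (Nat.eq_of_mul_eq_mul_right Nat.card_pos h3).symm
      rw [h2]
      exact ((Nat.Prime.coprime_iff_not_dvd Fact.out).mpr P.not_dvd_index).symm
    have hNle : N ≤ Cfsg.pPrimeCore p G := Cfsg.Agent.helper1.le_pPrimeCore hN hNcop
    have hQp : IsPGroup p (G ⧸ Cfsg.pPrimeCore p G) := by
      intro y
      induction y using QuotientGroup.induction_on with
      | H g =>
        obtain ⟨⟨n, x⟩, hnx⟩ := hc.existsUnique g
        have hg : g = n * x := hnx.1.symm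
        obtain ⟨j, hj⟩ := P.isPGroup' x
        refine ⟨j, ?_⟩
        have h1 : (QuotientGroup.mk g : G ⧸ Cfsg.pPrimeCore p G) = QuotientGroup.mk (x : G) := by
          rw [hg, QuotientGroup.mk_mul]
          have : (QuotientGroup.mk (n : G) : G ⧸ Cfsg.pPrimeCore p G) = 1 :=
            (QuotientGroup.eq_one_iff _).mpr (hNle n.2)
          rw [this, one_mul]
        rw [h1, ← QuotientGroup.mk_pow]
        have h2 : (x : G) ^ p ^ j = 1 := by
          have := congrArg Subtype.val hj
          simpa using this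
        rw [h2]
        rfl
    have htop : Cfsg.pPrimePCore p G = ⊤ := by
      unfold Cfsg.pPrimePCore
      have h1 : Cfsg.pCore p (G ⧸ Cfsg.pPrimeCore p G) = ⊤ := by
        rw [eq_top_iff]
        exact Cfsg.Agent.helper1.le_pCore inferInstance (hQp.to_subgroup ⊤)
      rw [h1]
      exact Subgroup.comap_top _
    show Nat.Coprime (Cfsg.pPrimePCore p G).index _
    rw [htop, Subgroup.index_top]
    exact Nat.coprime_one_left _
  · intro hcop
    have h := (Cfsg.Agent.S0071.result S).mpr ?_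
    · obtain ⟨N, hN, hc⟩ := h
      exact ⟨S, N, hN, hc⟩
    intro Q hQ g hg hgp
    apply centralizes_of_primary Q ?_ (orderOf g) g rfl hg hgp
    intro q hqF hqp k g hg hgo
    have hQp : IsPGroup p Q := S.isPGroup'.to_le hQ
    by_cases hq2 : q ∣ p ^ 2 - 1
    · haveI hKn : (Cfsg.pPrimePCore p G).Normal := Cfsg.Agent.helper7.pPrimePCore_normal p
      -- `g ∈ O_{p',p}(G)`
      have hgK : g ∈ Cfsg.pPrimePCore p G := by
        have h1 : orderOf (QuotientGroup.mk g : G ⧸ Cfsg.pPrimePCore p G) ∣ q ^ k := by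
          rw [← hgo]
          exact orderOf_dvd_of_pow_eq_one (by rw [← QuotientGroup.mk_pow, pow_orderOf_eq_one]; rfl)
        have h2 : orderOf (QuotientGroup.mk g : G ⧸ Cfsg.pPrimePCore p G) ∣
            Nat.card (G ⧸ Cfsg.pPrimePCore p G) := orderOf_dvd_natCard _
        have h3 : Nat.Coprime (Nat.card (G ⧸ Cfsg.pPrimePCore p G)) (q ^ k) :=
          Nat.Coprime.pow_right k (Nat.Coprime.coprime_dvd_right hq2 hcop)
        have h4 := Nat.dvd_gcd h2 h1
        rw [h3] at h4
        have h5 := orderOf_eq_one_iff.mp (Nat.dvd_one.mp h4)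
        exact (QuotientGroup.eq_one_iff _).mp h5
      -- `g ∈ O_{p'}(G)`
      have hgD : g ∈ Cfsg.pPrimeCore p G := by
        have hv : QuotientGroup.mk' (Cfsg.pPrimeCore p G) g ∈
            Cfsg.pCore p (G ⧸ Cfsg.pPrimeCore p G) := hgK
        obtain ⟨j, hj⟩ := (Cfsg.Agent.helper1.pCore_isPGroup (G := G ⧸ Cfsg.pPrimeCore p G) p) ⟨_, hv⟩
        have hj' : (QuotientGroup.mk' (Cfsg.pPrimeCore p G) g) ^ p ^ j = 1 := by
          have := congrArg Subtype.val hj
          simpa using this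
        have h1 : orderOf (QuotientGroup.mk' (Cfsg.pPrimeCore p G) g) ∣ p ^ j :=
          orderOf_dvd_of_pow_eq_one hj'
        have h2 : orderOf (QuotientGroup.mk' (Cfsg.pPrimeCore p G) g) ∣ q ^ k := by
          rw [← hgo]
          exact orderOf_dvd_of_pow_eq_one (by rw [← map_pow, pow_orderOf_eq_one, map_one])
        have h3 : Nat.Coprime (p ^ j) (q ^ k) :=
          Nat.Coprime.pow j k ((Nat.coprime_primes Fact.out hqF.out).mpr (Ne.symm hqp))
        have h4 := Nat.dvd_gcd h1 h2
        rw [h3] at h4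
        have h5 := orderOf_eq_one_iff.mp (Nat.dvd_one.mp h4)
        exact (QuotientGroup.eq_one_iff _).mp h5
      rw [Subgroup.mem_centralizer_iff]
      intro x hx
      have hx' : x ∈ Q := hx
      have hc1 : g * x * g⁻¹ * x⁻¹ ∈ Q :=
        Q.mul_mem ((Subgroup.mem_normalizer_iff.mp hg x).mp hx') (Q.inv_mem hx')
      have hc2 : g * x * g⁻¹ * x⁻¹ ∈ Cfsg.pPrimeCore p G := by
        have h1 : g * x * g⁻¹ * x⁻¹ = g * (x * g⁻¹ * x⁻¹) := by group
        rw [h1]
        exact Subgroup.mul_mem _ hgD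
          ((Cfsg.pPrimeCore_normal p G).conj_mem _ (Subgroup.inv_mem _ hgD) x)
      have hc3 := Cfsg.Agent.helper10.eq_one_of_mem_pgroup_of_mem_coprime hQp
        (Cfsg.Agent.helper1.pPrimeCore_coprime p) hc1 hc2
      have hc4 : g * x * g⁻¹ = x := by
        have := mul_inv_eq_one.mp hc3
        exact this
      calc x * g = (g * x * g⁻¹) * g := by rw [hc4]
        _ = g * x := by group
    · have hQm : Cfsg.IsMetacyclic Q :=
        metacyclic_of_injective (Subgroup.inclusion hQ) (Subgroup.inclusion_injective hQ) hS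
      have hαk : (Cfsg.Agent.S0946.conjAut Q g hg) ^ q ^ k = 1 := by
        apply MulEquiv.ext
        intro x
        apply Subtype.ext
        rw [Cfsg.Agent.S0946.conjAut_pow, ← hgo, pow_orderOf_eq_one]
        simp
      have hfix := aut_trivial hQp hQm hqp hq2 (Cfsg.Agent.S0946.conjAut Q g hg) k hαk
      rw [Subgroup.mem_centralizer_iff]
      intro x hx
      have h1 := congrArg Subtype.val (hfix ⟨x, hx⟩)
      rw [Cfsg.Agent.S0946.conjAut_apply] at h1
      have h2 : g * x * g⁻¹ = x := h1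
      calc x * g = (g * x * g⁻¹) * g := by rw [h2]
        _ = g * x := by group

end Cfsg.Agent.S4419
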