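import Mathlib
import Cfsg.Statements.S1896
import Cfsg.Agent.S4419
import Cfsg.Agent.Lib_helper11_QuatPres
import Cfsg.Agent.Lib_helper19_Meta1

set_option autoImplicit false
set_option linter.style.haveILetI false
open Cfsg
open scoped commutatorElement

namespace Cfsg.Agent.S1896

/-- A coprime automorphism of a `p`-group fixing the elements of order dividing `p` of an invariant
abelian subgroup fixes that subgroup pointwise. -/
theorem fix_of_omega {U : Type*} [Group U] [Finite U] {p : ℕ} [hp : Fact p.Prime]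
    (hU : IsPGroup p U) (α : MulAut U) (m : ℕ) (hm : Nat.Coprime m p) (hα : α ^ m = 1)
    (W : Subgroup U) (hW : ∀ x ∈ W, α x ∈ W) (hab : ∀ x ∈ W, ∀ y ∈ W, x * y = y * x)
    (hfix : ∀ x ∈ W, x ^ p = 1 → α x = x) : ∀ x ∈ W, α x = x := by
  have hind : ∀ j : ℕ, ∀ x ∈ W, x ^ p ^ j = 1 → α x = x := by
    intro j
    induction j with
    | zero =>
      intro x _ hx
      rw [pow_zero, pow_one] at hx
      rw [hx, map_one]
    | succ j ih =>
      intro x hxW hx
      have h1 : α (x ^ p) = x ^ p := by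
        apply ih _ (W.pow_mem hxW p)
        rw [← pow_mul, ← pow_succ']
        exact hx
      have hyW : x⁻¹ * α x ∈ W := W.mul_mem (W.inv_mem hxW) (hW x hxW)
      have hc : Commute x⁻¹ (α x) := hab _ (W.inv_mem hxW) _ (hW x hxW)
      have h2 : α (x⁻¹ * α x) = x⁻¹ * α x := by
        apply hfix _ hyW
        rw [hc.mul_pow, ← map_pow, h1, inv_pow, inv_mul_cancel]
      exact Cfsg.Agent.S0120.fixed_of_comm_fixed hU α m hm hα x h2
  intro x hxW
  obtain ⟨j, hj⟩ := hU x
  exact hind j x hxW hj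

set_option backward.isDefEq.respectTransparency false in
/-- Fixed point congruence for an automorphism of prime power order acting on an invariant
subgroup. -/
theorem card_fix_modEq {U : Type*} [Group U] [Finite U] {q : ℕ} [hq : Fact q.Prime]
    (α : MulAut U) (k : ℕ) (hα : α ^ q ^ k = 1) (T : Subgroup U) (hT : ∀ x ∈ T, α x ∈ T) :
    Nat.card T ≡ Nat.card ↥(T ⊓ MonoidHom.eqLocus α.toMonoidHom (MonoidHom.id U)) [MOD q] := by
  obtain ⟨F, hF⟩ : ∃ F : Subgroup U, F = T ⊓ MonoidHom.eqLocus α.toMonoidHom (MonoidHom.id U) :=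
    ⟨_, rfl⟩
  have hFmem : ∀ x, x ∈ F ↔ x ∈ T ∧ α x = x := by
    intro x
    rw [hF, Subgroup.mem_inf]
    rfl
  have hFT : F ≤ T := fun x hx => ((hFmem x).mp hx).1
  letI : Fintype ↥T := Fintype.ofFinite _
  letI : DecidableEq ↥T := Classical.decEq _
  obtain ⟨f, hf⟩ : ∃ f : Function.End ↥T, ∀ x : ↥T, ((f x : ↥T) : U) = α x :=
    ⟨fun x => ⟨α x, hT x x.2⟩, fun x => rfl⟩
  have hfpow : ∀ (j : ℕ) (x : ↥T), (((f ^ j) x : ↥T) : U) = (α ^ j) x := by
    intro j
    induction j with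
    | zero => intro x; rfl
    | succ j ih =>
      intro x
      rw [pow_succ', pow_succ']
      show ((f ((f ^ j) x) : ↥T) : U) = α ((α ^ j) x)
      rw [hf, ih]
  have hfq : f ^ q ^ k = 1 := by
    funext x
    apply Subtype.ext
    rw [hfpow, hα]
    rfl
  have hmod := Equiv.Perm.card_fixedPoints_modEq (p := q) (n := k) hfq
  rw [← Nat.card_eq_fintype_card, ← Nat.card_eq_fintype_card] at hmod
  have hfixcard : Nat.card (Function.fixedPoints f) = Nat.card F := by
    apply Nat.card_congr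
    refine ⟨fun x => ⟨x.1.1, (hFmem _).mpr ⟨x.1.2, ?_⟩⟩, fun y => ⟨⟨y.1, hFT y.2⟩, ?_⟩, ?_, ?_⟩
    · have h1 : f x.1 = x.1 := x.2
      rw [← hf, h1]
    · show f ⟨y.1, hFT y.2⟩ = ⟨y.1, hFT y.2⟩
      apply Subtype.ext
      rw [hf]
      exact ((hFmem _).mp y.2).2
    · intro x; rfl
    · intro y; rfl
  rw [hfixcard] at hmod
  rw [← hF]
  exact hmod

/-- The unique involution of a cyclic `2`-group. -/
theorem unique_invol {U : Type*} [Group U] [Finite U] (a : U) (n : ℕ) (hn : 1 ≤ n)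
    (ha : orderOf a = 2 ^ n) (w : U) (hw : w ∈ Subgroup.zpowers a) (hw2 : w ^ 2 = 1)
    (hw1 : w ≠ 1) : w = a ^ 2 ^ (n - 1) := by
  obtain ⟨i, rfl⟩ := (Submonoid.mem_powers_iff _ _).mp (mem_powers_iff_mem_zpowers.mpr hw)
  rw [← pow_mul] at hw2
  have h1 : 2 ^ n ∣ i * 2 := by rw [← ha]; exact orderOf_dvd_of_pow_eq_one hw2
  obtain ⟨n', rfl⟩ : ∃ n', n = n' + 1 := ⟨n - 1, by omega⟩
  rw [pow_succ] at h1
  have h2 : 2 ^ n' ∣ i := (Nat.mul_dvd_mul_iff_right (by norm_num : 0 < 2)).mp h1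
  obtain ⟨j, rfl⟩ := h2
  simp only [Nat.add_sub_cancel]
  rw [pow_mul]
  have hz2 : (a ^ 2 ^ n') ^ 2 = 1 := by
    rw [← pow_mul, ← pow_succ, ← ha]; exact pow_orderOf_eq_one a
  rcases Nat.even_or_odd' j with ⟨t, rfl | rfl⟩
  · exfalso; apply hw1; rw [pow_mul, pow_mul, hz2, one_pow]
  · rw [pow_succ, pow_mul, hz2, one_pow, one_mul]

/-- Square roots in a cyclic `2`-group. -/
theorem sqrt_cyclic {U : Type*} [Group U] [Finite U] (a : U) (n : ℕ) (hn : 1 ≤ n)
    (ha : orderOf a = 2 ^ n) (u : U) (hu : u ∈ Subgroup.zpowers a) (hu2 : u ^ 2 ^ (n - 1) = 1) :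
    ∃ u₀ ∈ Subgroup.zpowers a, u₀ ^ 2 = u := by
  obtain ⟨i, rfl⟩ := (Submonoid.mem_powers_iff _ _).mp (mem_powers_iff_mem_zpowers.mpr hu)
  obtain ⟨n', rfl⟩ : ∃ n', n = n' + 1 := ⟨n - 1, by omega⟩
  simp only [Nat.add_sub_cancel] at hu2
  rw [← pow_mul] at hu2
  have h1 : 2 ^ (n' + 1) ∣ i * 2 ^ n' := by rw [← ha]; exact orderOf_dvd_of_pow_eq_one hu2
  rw [pow_succ, mul_comm i] at h1
  have h2 : 2 ∣ i := (Nat.mul_dvd_mul_iff_left (by positivity : 0 < 2 ^ n')).mp h1
  obtain ⟨j, rfl⟩ := h2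
  refine ⟨a ^ j, Subgroup.pow_mem _ (Subgroup.mem_zpowers a) j, ?_⟩
  rw [← pow_mul, mul_comm]

/-- The elements of order at most two of an abelian group form a subgroup. -/
theorem exists_omega {X : Type*} [Group X] (hab : ∀ x y : X, x * y = y * x) :
    ∃ T : Subgroup X, ∀ y, y ∈ T ↔ y ^ 2 = 1 := by
  refine ⟨{ carrier := {y | y ^ 2 = 1}
            mul_mem' := ?_
            one_mem' := one_pow _
            inv_mem' := ?_ }, fun y => Iff.rfl⟩
  · intro a b ha hb
    have ha' : a ^ 2 = 1 := ha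
    have hb' : b ^ 2 = 1 := hb
    show (a * b) ^ 2 = 1
    rw [(show Commute a b from hab a b).mul_pow, ha', hb', one_mul]
  · intro a ha
    have ha' : a ^ 2 = 1 := ha
    show a⁻¹ ^ 2 = 1
    rw [inv_pow, ha', inv_one]

/-- In a metacyclic group, subgroups of exponent two have order at most four. -/
theorem meta_T4 {Y : Type*} [Group Y] [Finite Y] (h : Cfsg.IsMetacyclic Y) :
    ∀ T : Subgroup Y, (∀ x ∈ T, x ^ 2 = 1) → Nat.card T ≤ 4 := by
  obtain ⟨N, hNn, hNc, hQc⟩ := h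
  haveI := hNn
  intro T hT
  have := Cfsg.Agent.S4419.meta_card_le N hNc hQc (p := 2) (by norm_num) T hT
  norm_num at this
  exact this

/-- An automorphism of order three of an abelian `2`-group of rank at most two is
fixed-point-free. -/
theorem fpf_abelian {X : Type*} [Group X] [Finite X] (hX : IsPGroup 2 X)
    (hab : ∀ x y : X, x * y = y * x)
    (hT : ∀ T : Subgroup X, (∀ x ∈ T, x ^ 2 = 1) → Nat.card T ≤ 4)
    (α : MulAut X) (hα : α ^ 3 = 1) (hα1 : α ≠ 1) : ∀ x : X, α x = x → x = 1 := by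
  by_contra hcon
  push Not at hcon
  obtain ⟨x, hx, hx1⟩ := hcon
  haveI : Fact (Nat.Prime 2) := ⟨Nat.prime_two⟩
  haveI : Fact (Nat.Prime 3) := ⟨Nat.prime_three⟩
  obtain ⟨Fx, hFx⟩ : ∃ Fx : Subgroup X, Fx = MonoidHom.eqLocus α.toMonoidHom (MonoidHom.id X) :=
    ⟨_, rfl⟩
  have hFxmem : ∀ y, y ∈ Fx ↔ α y = y := by
    intro y
    rw [hFx]
    rfl
  have hFxne : Fx ≠ ⊥ := by
    intro h
    apply hx1
    have h1 : x ∈ Fx := (hFxmem x).mpr hx
    rw [h] at h1
    exact Subgroup.mem_bot.mp h1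
  obtain ⟨z, hzF, hz2⟩ : ∃ z ∈ Fx, orderOf z = 2 := by
    have h1 : 2 ∣ Nat.card Fx := by
      obtain ⟨k, hk⟩ := (hX.to_subgroup Fx).exists_card_eq
      have hk0 : k ≠ 0 := by
        rintro rfl
        rw [pow_zero] at hk
        exact hFxne (Subgroup.card_eq_one.mp hk)
      rw [hk]
      exact dvd_pow_self 2 hk0
    obtain ⟨z, hz⟩ := exists_prime_orderOf_dvd_card' (G := Fx) 2 h1
    exact ⟨z.1, z.2, by rw [Subgroup.orderOf_coe]; exact hz⟩
  obtain ⟨T, hTmem⟩ := exists_omega hab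
  have hTinv : ∀ y ∈ T, α y ∈ T := by
    intro y hy
    rw [hTmem] at hy ⊢
    rw [← map_pow, hy, map_one]
  have hT4 : Nat.card T ≤ 4 := hT T (fun y hy => (hTmem y).mp hy)
  have hmod := card_fix_modEq (q := 3) α 1 (by rw [pow_one]; exact hα) T hTinv
  obtain ⟨F, hF⟩ : ∃ F : Subgroup X, F = T ⊓ MonoidHom.eqLocus α.toMonoidHom (MonoidHom.id X) :=
    ⟨_, rfl⟩
  rw [← hF] at hmod
  have hFmem : ∀ y, y ∈ F ↔ y ∈ T ∧ α y = y := by
    intro y
    rw [hF, Subgroup.mem_inf]
    rfl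
  have hFT : F ≤ T := fun y hy => ((hFmem y).mp hy).1
  have hzF' : z ∈ F := by
    rw [hFmem]
    refine ⟨(hTmem z).mpr ?_, (hFxmem z).mp hzF⟩
    rw [← hz2]
    exact pow_orderOf_eq_one z
  have hF2 : 2 ≤ Nat.card F := by
    have h1 : Subgroup.zpowers z ≤ F := by
      rw [Subgroup.zpowers_le]
      exact hzF'
    have h2 := Subgroup.card_le_of_le h1
    rw [Nat.card_zpowers, hz2] at h2
    exact h2
  have hle : Nat.card F ≤ Nat.card T := Subgroup.card_le_of_le hFT
  have hdvd : 3 ∣ Nat.card T - Nat.card F := (Nat.modEq_iff_dvd' hle).mp hmod.symm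
  have hFTeq : F = T := by
    apply Subgroup.eq_of_le_of_card_ge hFT
    obtain ⟨e, he⟩ := hdvd
    omega
  have hfixT : ∀ y ∈ T, α y = y := by
    intro y hy
    rw [← hFTeq] at hy
    exact ((hFmem y).mp hy).2
  have hall := fix_of_omega hX α 3 (by norm_num) hα ⊤ (fun _ _ => Subgroup.mem_top _)
    (fun a _ b _ => hab a b) (fun y _ hy => hfixT y ((hTmem y).mpr hy))
  apply hα1
  apply MulEquiv.ext
  intro y
  exact hall y (Subgroup.mem_top y)

/-- The abelian case. -/
theorem abelian_case {X : Type*} [Group X] [Finite X] (hX : IsPGroup 2 X)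
    (hab : ∀ x y : X, x * y = y * x)
    (hT : ∀ T : Subgroup X, (∀ x ∈ T, x ^ 2 = 1) → Nat.card T ≤ 4)
    (α : MulAut X) (hα : α ^ 3 = 1) (hα1 : α ≠ 1) :
    ∃ n : ℕ, 1 ≤ n ∧ (∀ x : X, x ^ 2 ^ n = 1) ∧
      Nonempty (X ≃* Multiplicative (ZMod (2 ^ n)) × Multiplicative (ZMod (2 ^ n))) := by
  haveI : Fact (Nat.Prime 2) := ⟨Nat.prime_two⟩
  have hfpf := fpf_abelian hX hab hT α hα hα1
  obtain ⟨a, hamax⟩ := Finite.exists_max (fun x : X => orderOf x)
  obtain ⟨n, hn⟩ := (IsPGroup.iff_orderOf.mp hX) a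
  have hexp : ∀ x : X, x ^ 2 ^ n = 1 := by
    intro x
    obtain ⟨k, hk⟩ := (IsPGroup.iff_orderOf.mp hX) x
    have h1 : 2 ^ k ≤ 2 ^ n := by
      rw [← hk, ← hn]
      exact hamax x
    have h2 : k ≤ n := (Nat.pow_le_pow_iff_right (by norm_num)).mp h1
    rw [← orderOf_dvd_iff_pow_eq_one, hk]
    exact pow_dvd_pow 2 h2
  have hn1 : 1 ≤ n := by
    by_contra h
    have h0 : n = 0 := by omega
    apply hα1
    apply MulEquiv.ext
    intro x
    have h1 : ∀ y : X, y = 1 := by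
      intro y
      have h2 := hexp y
      rw [h0, pow_zero, pow_one] at h2
      exact h2
    rw [h1 x, map_one]
    rfl
  refine ⟨n, hn1, hexp, ?_⟩
  obtain ⟨b, hb⟩ : ∃ b, b = α a := ⟨_, rfl⟩
  have hbord : orderOf b = 2 ^ n := by rw [hb, MulEquiv.orderOf_eq, hn]
  obtain ⟨z, hz⟩ : ∃ z, z = a ^ 2 ^ (n - 1) := ⟨_, rfl⟩
  have hz2 : z ^ 2 = 1 := by
    rw [hz, ← pow_mul, ← pow_succ, Nat.sub_add_cancel hn1, ← hn]
    exact pow_orderOf_eq_one a
  have hz1 : z ≠ 1 := by
    intro h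
    rw [hz] at h
    have h1 := orderOf_dvd_of_pow_eq_one h
    rw [hn] at h1
    have h2 := Nat.le_of_dvd (by positivity) h1
    have h3 : n ≤ n - 1 := (Nat.pow_le_pow_iff_right (by norm_num)).mp h2
    omega
  have hαz : α z = b ^ 2 ^ (n - 1) := by rw [hz, hb, map_pow]
  have hαz_ne : α z ≠ z := fun h => hz1 (hfpf z h)
  have hinter : ∀ g, g ∈ Subgroup.zpowers a → g ∈ Subgroup.zpowers b → g = 1 := by
    intro g hga hgb
    by_contra hg1
    obtain ⟨k, hk⟩ := (IsPGroup.iff_orderOf.mp hX) g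
    have hk0 : k ≠ 0 := by
      rintro rfl
      rw [pow_zero, orderOf_eq_one_iff] at hk
      exact hg1 hk
    obtain ⟨w, hw⟩ : ∃ w, w = g ^ 2 ^ (k - 1) := ⟨_, rfl⟩
    have hw2 : w ^ 2 = 1 := by
      rw [hw, ← pow_mul, ← pow_succ, Nat.sub_add_cancel (Nat.one_le_iff_ne_zero.mpr hk0), ← hk]
      exact pow_orderOf_eq_one g
    have hw1 : w ≠ 1 := by
      intro h
      rw [hw] at h
      have h1 := orderOf_dvd_of_pow_eq_one h
      rw [hk] at h1
      have h2 := Nat.le_of_dvd (by positivity) h1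
      have h3 : k ≤ k - 1 := (Nat.pow_le_pow_iff_right (by norm_num)).mp h2
      omega
    have hwa : w ∈ Subgroup.zpowers a := by rw [hw]; exact Subgroup.pow_mem _ hga _
    have hwb : w ∈ Subgroup.zpowers b := by rw [hw]; exact Subgroup.pow_mem _ hgb _
    have e1 := unique_invol a n hn1 hn w hwa hw2 hw1
    have e2 := unique_invol b n hn1 hbord w hwb hw2 hw1
    apply hαz_ne
    rw [hαz, ← e2, e1]
    exact hz.symm
  obtain ⟨f, hf⟩ : ∃ f : ↥(Subgroup.zpowers a) × ↥(Subgroup.zpowers b) →* X,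
      ∀ u v, f (u, v) = (u : X) * (v : X) := by
    refine ⟨MonoidHom.noncommCoprod (Subgroup.zpowers a).subtype (Subgroup.zpowers b).subtype
      (fun u v => hab _ _), fun u v => ?_⟩
    rfl
  have hfinj : Function.Injective f := by
    rw [injective_iff_map_eq_one]
    rintro ⟨u, v⟩ huv
    rw [hf] at huv
    have h1 : (u : X) = (v : X)⁻¹ := eq_inv_of_mul_eq_one_left huv
    have h2 : (u : X) = 1 := hinter _ u.2 (by rw [h1]; exact Subgroup.inv_mem _ v.2)
    have h3 : (v : X) = 1 := by rw [h2, one_mul] at huv; exact huv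
    exact Prod.ext (Subtype.ext h2) (Subtype.ext h3)
  obtain ⟨H, hH⟩ : ∃ H : Subgroup X, H = f.range := ⟨_, rfl⟩
  have hHmem : ∀ x, x ∈ H ↔ ∃ u ∈ Subgroup.zpowers a, ∃ v ∈ Subgroup.zpowers b, x = u * v := by
    intro x
    rw [hH, MonoidHom.mem_range]
    constructor
    · rintro ⟨⟨u, v⟩, rfl⟩
      exact ⟨u, u.2, v, v.2, hf u v⟩
    · rintro ⟨u, hu, v, hv, rfl⟩
      exact ⟨(⟨u, hu⟩, ⟨v, hv⟩), hf _ _⟩
  obtain ⟨T, hTmem⟩ := exists_omega hab
  have hTH : T ≤ H := by
    have hzTH : z ∈ T ⊓ H := ⟨(hTmem z).mpr hz2, (hHmem z).mpr ⟨z, by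
      rw [hz]; exact Subgroup.pow_mem _ (Subgroup.mem_zpowers a) _, 1, Subgroup.one_mem _,
      (mul_one z).symm⟩⟩
    have hz'TH : α z ∈ T ⊓ H := ⟨(hTmem _).mpr (by rw [← map_pow, hz2, map_one]),
      (hHmem _).mpr ⟨1, Subgroup.one_mem _, α z, by
        rw [hαz]; exact Subgroup.pow_mem _ (Subgroup.mem_zpowers b) _, (one_mul _).symm⟩⟩
    have hle1 : Subgroup.zpowers z ≤ T ⊓ H := by
      rw [Subgroup.zpowers_le]
      exact hzTH
    have hcz : Nat.card (Subgroup.zpowers z) = 2 := by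
      rw [Nat.card_zpowers]
      exact orderOf_eq_prime hz2 hz1
    have hdvd : 2 ∣ Nat.card ↥(T ⊓ H) := by
      rw [← hcz]
      exact Subgroup.card_dvd_of_le hle1
    have hle2 : Nat.card ↥(T ⊓ H) ≤ Nat.card T := Subgroup.card_le_of_le inf_le_left
    have hT4 : Nat.card T ≤ 4 := hT T (fun y hy => (hTmem y).mp hy)
    have hne2 : Nat.card ↥(T ⊓ H) ≠ 2 := by
      intro h2
      have heq : Subgroup.zpowers z = T ⊓ H :=
        Subgroup.eq_of_le_of_card_ge hle1 (by rw [hcz, h2])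
      have h3 : α z ∈ Subgroup.zpowers z := by rw [heq]; exact hz'TH
      have h4 : α z ∈ Subgroup.zpowers a := by
        have h5 : Subgroup.zpowers z ≤ Subgroup.zpowers a := by
          rw [Subgroup.zpowers_le, hz]
          exact Subgroup.pow_mem _ (Subgroup.mem_zpowers a) _
        exact h5 h3
      have h5 : α z ∈ Subgroup.zpowers b := by
        rw [hαz]
        exact Subgroup.pow_mem _ (Subgroup.mem_zpowers b) _
      have h6 := hinter _ h4 h5
      apply hz1
      have h7 : α z = α 1 := by rw [h6, map_one]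
      exact α.injective h7
    have hpos : 0 < Nat.card ↥(T ⊓ H) := Nat.card_pos
    have h4 : Nat.card ↥(T ⊓ H) = 4 := by
      obtain ⟨e, he⟩ := hdvd
      omega
    have heq : T ⊓ H = T := Subgroup.eq_of_le_of_card_ge inf_le_left (by rw [h4]; exact hT4)
    rw [← heq]
    exact inf_le_right
  have hall : ∀ k : ℕ, ∀ x : X, x ^ 2 ^ k = 1 → x ∈ H := by
    intro k
    induction k with
    | zero =>
      intro x hx
      rw [pow_zero, pow_one] at hx
      rw [hx]
      exact H.one_mem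
    | succ k ih =>
      intro x hx
      have hy : (x ^ 2) ^ 2 ^ k = 1 := by
        rw [← pow_mul, ← pow_succ']
        exact hx
      obtain ⟨u, hu, v, hv, huv⟩ := (hHmem _).mp (ih _ hy)
      have hy2 : (x ^ 2) ^ 2 ^ (n - 1) = 1 := by
        rw [← pow_mul, ← pow_succ', Nat.sub_add_cancel hn1]
        exact hexp x
      rw [huv, (show Commute u v from hab u v).mul_pow] at hy2
      have hu1 : u ^ 2 ^ (n - 1) = 1 := by
        apply hinter _ (Subgroup.pow_mem _ hu _)
        rw [eq_inv_of_mul_eq_one_left hy2]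
        exact Subgroup.inv_mem _ (Subgroup.pow_mem _ hv _)
      have hv1 : v ^ 2 ^ (n - 1) = 1 := by
        rw [hu1, one_mul] at hy2
        exact hy2
      obtain ⟨u₀, hu₀, hu₀2⟩ := sqrt_cyclic a n hn1 hn u hu hu1
      obtain ⟨v₀, hv₀, hv₀2⟩ := sqrt_cyclic b n hn1 hbord v hv hv1
      have hh : u₀ * v₀ ∈ H := (hHmem _).mpr ⟨u₀, hu₀, v₀, hv₀, rfl⟩
      have ht : x * (u₀ * v₀)⁻¹ ∈ T := by
        rw [hTmem, (show Commute x (u₀ * v₀)⁻¹ from hab x _).mul_pow, inv_pow,
          (show Commute u₀ v₀ from hab u₀ v₀).mul_pow, hu₀2, hv₀2, ← huv, mul_inv_cancel]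
      have h1 := H.mul_mem (hTH ht) hh
      rwa [inv_mul_cancel_right] at h1
  have hfsurj : Function.Surjective f := by
    intro x
    obtain ⟨k, hk⟩ := hX x
    have h1 := hall k x hk
    rw [hH] at h1
    exact h1
  have e0 : ↥(Subgroup.zpowers a) × ↥(Subgroup.zpowers b) ≃* X :=
    MulEquiv.ofBijective f ⟨hfinj, hfsurj⟩
  have ea : Multiplicative (ZMod (2 ^ n)) ≃* ↥(Subgroup.zpowers a) := by
    have hc : Nat.card ↥(Subgroup.zpowers a) = 2 ^ n := by rw [Nat.card_zpowers, hn]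
    have e := zmodCyclicMulEquiv (G := ↥(Subgroup.zpowers a)) inferInstance
    rw [hc] at e
    exact e
  have eb : Multiplicative (ZMod (2 ^ n)) ≃* ↥(Subgroup.zpowers b) := by
    have hc : Nat.card ↥(Subgroup.zpowers b) = 2 ^ n := by rw [Nat.card_zpowers, hbord]
    have e := zmodCyclicMulEquiv (G := ↥(Subgroup.zpowers b)) inferInstance
    rw [hc] at e
    exact e
  exact ⟨e0.symm.trans (MulEquiv.prodCongr ea.symm eb.symm)⟩

/-- Power map in a group whose commutators are central of order at most two. -/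
theorem pow_mul_of_class2 {Q : Type*} [Group Q]
    (hcz : ∀ g h k : Q, ⁅g, h⁆ * k = k * ⁅g, h⁆)
    (hc2 : ∀ g h : Q, ⁅g, h⁆ ^ 2 = 1) (n : ℕ) (hn : 2 ≤ n) (g h : Q) :
    (g * h) ^ 2 ^ n = g ^ 2 ^ n * h ^ 2 ^ n := by
  have hsqc : ∀ g h : Q, g ^ 2 * h = h * g ^ 2 := by
    intro g h
    have e1 : g * h * g⁻¹ = ⁅g, h⁆ * h := by rw [commutatorElement_def]; group
    have hgc : g * ⁅g, h⁆ = ⁅g, h⁆ * g := (hcz g h g).symm
    have e2 : g ^ 2 * h * (g ^ 2)⁻¹ = h := by
      calc g ^ 2 * h * (g ^ 2)⁻¹ = g * (g * h * g⁻¹) * g⁻¹ := by rw [pow_two]; group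
        _ = g * ⁅g, h⁆ * h * g⁻¹ := by rw [e1]; group
        _ = ⁅g, h⁆ * (g * h * g⁻¹) := by rw [hgc]; group
        _ = ⁅g, h⁆ * (⁅g, h⁆ * h) := by rw [e1]
        _ = ⁅g, h⁆ ^ 2 * h := by rw [pow_two, mul_assoc]
        _ = h := by rw [hc2, one_mul]
    exact mul_inv_eq_iff_eq_mul.mp e2
  obtain ⟨z, hz⟩ : ∃ z : Q, z = ⁅g, h⁆⁻¹ := ⟨_, rfl⟩
  have hzc : ∀ k : Q, z * k = k * z := by
    intro k
    have h1 := hcz g h k
    rw [hz]
    have h2 : Commute ⁅g, h⁆ k := h1
    exact h2.inv_left.eq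
  have hz2 : z ^ 2 = 1 := by rw [hz, inv_pow, hc2, inv_one]
  have hhg : h * g = z * (g * h) := by rw [hz, commutatorElement_def]; group
  have h2 : (g * h) ^ 2 = z * (g ^ 2 * h ^ 2) := by
    calc (g * h) ^ 2 = g * (h * g) * h := by rw [pow_two]; group
      _ = g * (z * (g * h)) * h := by rw [hhg]
      _ = (g * z) * (g * h * h) := by group
      _ = (z * g) * (g * h * h) := by rw [(hzc g).symm]
      _ = z * (g ^ 2 * h ^ 2) := by rw [pow_two, pow_two]; group
  have h4 : (g * h) ^ 4 = g ^ 4 * h ^ 4 := by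
    have e : (g * h) ^ 4 = ((g * h) ^ 2) ^ 2 := by rw [← pow_mul]
    have hc1 : Commute z (g ^ 2 * h ^ 2) := hzc _
    have hc3 : Commute (g ^ 2) (h ^ 2) := hsqc g (h ^ 2)
    rw [e, h2, hc1.mul_pow, hz2, one_mul, hc3.mul_pow, ← pow_mul, ← pow_mul]
  have hc44 : Commute (g ^ 4) (h ^ 4) := by
    have h5 : Commute (g ^ 2) (h ^ 4) := hsqc g (h ^ 4)
    have h6 := h5.pow_left 2
    rwa [← pow_mul] at h6
  obtain ⟨j, rfl⟩ : ∃ j, n = j + 2 := ⟨n - 2, by omega⟩
  have e : 2 ^ (j + 2) = 4 * 2 ^ j := by ring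
  rw [e, pow_mul, pow_mul, pow_mul, h4, hc44.mul_pow]

/-- A finite metacyclic 2-group whose automorphism group is not a 2-group is isomorphic to the quaternion group of order 8 or to a homocyclic abelian group Z_{2^n} × Z_{2^n}. -/
theorem result {X : Type*} [Group X] [Finite X] (hX : IsPGroup 2 X)
    (hm : Cfsg.IsMetacyclic X) (hA : ¬ IsPGroup 2 (MulAut X)) :
    Nonempty (X ≃* QuaternionGroup 2) ∨
      ∃ n : ℕ, Nonempty (X ≃* Multiplicative (ZMod (2 ^ n)) × Multiplicative (ZMod (2 ^ n))) := by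
  haveI : Fact (Nat.Prime 2) := ⟨Nat.prime_two⟩
  haveI : Fact (Nat.Prime 3) := ⟨Nat.prime_three⟩
  have hmeta := hm
  -- an automorphism of order three
  obtain ⟨α, hα3, hα1⟩ : ∃ α : MulAut X, α ^ 3 = 1 ∧ α ≠ 1 := by
    by_contra hcon
    push Not at hcon
    apply hA
    have hcard : Nat.card (MulAut X) = 2 ^ (Nat.card (MulAut X)).primeFactorsList.length := by
      apply Nat.eq_prime_pow_of_unique_prime_dvd Nat.card_pos.ne'
      intro q hq hdvd
      haveI : Fact q.Prime := ⟨hq⟩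
      obtain ⟨γ, hγ⟩ := exists_prime_orderOf_dvd_card' (G := MulAut X) q hdvd
      by_contra hq2
      have hγ1 : γ = 1 := by
        by_cases hq3 : q = 3
        · apply hcon
          rw [← hq3, ← hγ]
          exact pow_orderOf_eq_one γ
        · have h1 : ¬ q ∣ 2 ^ 2 - 1 := by
            intro h
            have h2 : q ∣ 3 := by norm_num at h; exact h
            exact hq3 ((Nat.prime_dvd_prime_iff_eq hq Nat.prime_three).mp h2)
          have h3 := Cfsg.Agent.S4419.aut_trivial hX hmeta hq2 h1 γ 1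
            (by rw [pow_one, ← hγ]; exact pow_orderOf_eq_one γ)
          apply MulEquiv.ext
          intro x
          exact h3 x
      rw [hγ1, orderOf_one] at hγ
      exact hq.one_lt.ne hγ
    exact IsPGroup.of_card hcard
  obtain ⟨N, hNn, hNc, hQc⟩ := hm
  haveI := hNn
  by_cases hab : ∀ x y : X, x * y = y * x
  · obtain ⟨n, -, -, hn⟩ := abelian_case hX hab (meta_T4 hmeta) α hα3 hα1
    exact Or.inr ⟨n, hn⟩
  left
  push Not at hab
  -- generator of N
  obtain ⟨g, hg⟩ := hNc.exists_generator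
  obtain ⟨a, ha⟩ : ∃ a : X, a = (g : X) := ⟨_, rfl⟩
  have haN : a ∈ N := by rw [ha]; exact g.2
  have hNa : ∀ x, x ∈ N ↔ x ∈ Subgroup.zpowers a := by
    intro x
    constructor
    · intro hx
      obtain ⟨k, hk⟩ := Subgroup.mem_zpowers_iff.mp (hg ⟨x, hx⟩)
      rw [Subgroup.mem_zpowers_iff]
      refine ⟨k, ?_⟩
      rw [ha]
      have h1 := congrArg Subtype.val hk
      simpa using h1
    · intro hx
      obtain ⟨k, hk⟩ := Subgroup.mem_zpowers_iff.mp hx
      rw [← hk]
      exact N.zpow_mem haN k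
  have hNeq : N = Subgroup.zpowers a := Subgroup.ext hNa
  have hNcomm : ∀ x ∈ N, ∀ y ∈ N, x * y = y * x := by
    intro x hx y hy
    obtain ⟨k, rfl⟩ := Subgroup.mem_zpowers_iff.mp ((hNa x).mp hx)
    obtain ⟨l, rfl⟩ := Subgroup.mem_zpowers_iff.mp ((hNa y).mp hy)
    exact (Commute.zpow_zpow_self a k l).eq
  obtain ⟨m, hm_ord⟩ := (IsPGroup.iff_orderOf.mp hX) a
  -- the derived subgroup
  obtain ⟨D, hD⟩ : ∃ D : Subgroup X, D = commutator X := ⟨_, rfl⟩
  haveI hDn : D.Normal := by rw [hD]; infer_instance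
  have hDN : D ≤ N := by
    rw [hD]
    letI : CommGroup (X ⧸ N) := IsCyclic.commGroup
    have h1 := Abelianization.commutator_subset_ker (QuotientGroup.mk' N)
    rwa [QuotientGroup.ker_mk'] at h1
  have hcommD : ∀ x y : X, ⁅x, y⁆ ∈ D := by
    intro x y
    rw [hD, commutator_def]
    exact Subgroup.commutator_mem_commutator (Subgroup.mem_top x) (Subgroup.mem_top y)
  have hDne : D ≠ ⊥ := by
    intro h
    obtain ⟨x, y, hxy⟩ := hab
    apply hxy
    have h1 := hcommD x y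
    rw [h, Subgroup.mem_bot, commutatorElement_eq_one_iff_mul_comm] at h1
    exact h1
  have hDinv : ∀ x ∈ D, α x ∈ D := by
    intro x hx
    have h1 : (commutator X).map α.toMonoidHom = commutator X := by
      rw [commutator_def, Subgroup.map_commutator]
      have h2 : (⊤ : Subgroup X).map α.toMonoidHom = ⊤ := by
        rw [← MonoidHom.range_eq_map, MonoidHom.range_eq_top]
        exact α.surjective
      rw [h2]
    rw [hD, ← h1]
    rw [hD] at hx
    exact ⟨x, hx, rfl⟩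
  have hDcomm : ∀ x ∈ D, ∀ y ∈ D, x * y = y * x :=
    fun x hx y hy => hNcomm x (hDN hx) y (hDN hy)
  have hm1 : 1 ≤ m := by
    by_contra h
    have h0 : m = 0 := by omega
    rw [h0, pow_zero, orderOf_eq_one_iff] at hm_ord
    apply hDne
    rw [eq_bot_iff]
    intro x hx
    have h1 := (hNa x).mp (hDN hx)
    rw [hm_ord, Subgroup.zpowers_one_eq_bot] at h1
    exact h1
  have hfixN : ∀ x ∈ N, x ^ 2 = 1 → α x ∈ N → α x = x := by
    intro x hx hx2 hαx
    by_cases hx1 : x = 1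
    · rw [hx1, map_one]
    · have e1 := unique_invol a m hm1 hm_ord x ((hNa x).mp hx) hx2 hx1
      have hαx1 : α x ≠ 1 := fun h => hx1 (α.injective (by rw [h, map_one]))
      have e2 := unique_invol a m hm1 hm_ord (α x) ((hNa _).mp hαx)
        (by rw [← map_pow, hx2, map_one]) hαx1
      rw [e2, ← e1]
  have hfixD : ∀ x ∈ D, α x = x := by
    apply fix_of_omega hX α 3 (by norm_num) hα3 D hDinv hDcomm
    intro x hx hx2
    exact hfixN x (hDN hx) hx2 (hDN (hDinv x hx))
  -- the abelianization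
  obtain ⟨β, hβ⟩ : ∃ β : MulAut (Abelianization X), ∀ x : X,
      β (Abelianization.of x) = Abelianization.of (α x) :=
    ⟨MulEquiv.abelianizationCongr α, fun x => abelianizationCongr_of α x⟩
  have hof : Function.Surjective (Abelianization.of : X → Abelianization X) :=
    QuotientGroup.mk_surjective
  have hβpow : ∀ (j : ℕ) (x : X),
      (β ^ j) (Abelianization.of x) = Abelianization.of ((α ^ j) x) := by
    intro j
    induction j with
    | zero => intro x; rfl
    | succ j ih =>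
      intro x
      rw [pow_succ', pow_succ', MulAut.mul_apply, MulAut.mul_apply, ih, hβ]
  have hβ3 : β ^ 3 = 1 := by
    apply MulEquiv.ext
    intro y
    obtain ⟨x, rfl⟩ := hof y
    rw [hβpow, hα3]
    rfl
  have hkerof : ∀ x : X, Abelianization.of x = 1 ↔ x ∈ D := by
    intro x
    rw [hD, ← Abelianization.ker_of, MonoidHom.mem_ker]
  have hβ1 : β ≠ 1 := by
    intro h
    apply hα1
    apply MulEquiv.ext
    intro x
    have h1 : Abelianization.of (x⁻¹ * α x) = 1 := by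
      rw [map_mul, map_inv, ← hβ, h, MulAut.one_apply, inv_mul_cancel]
    have h2 : x⁻¹ * α x ∈ D := (hkerof _).mp h1
    exact Cfsg.Agent.S0120.fixed_of_comm_fixed hX α 3 (by norm_num) hα3 x (hfixD _ h2)
  have hAb2 : IsPGroup 2 (Abelianization X) := by
    intro y
    obtain ⟨x, rfl⟩ := hof y
    obtain ⟨j, hj⟩ := hX x
    exact ⟨j, by rw [← map_pow, hj, map_one]⟩
  have hAbm : Cfsg.IsMetacyclic (Abelianization X) :=
    Cfsg.Agent.helper19.isMetacyclic_of_surjective hmeta Abelianization.of hof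
  have hβfpf := fpf_abelian hAb2 (fun x y => mul_comm x y) (meta_T4 hAbm) β hβ3 hβ1
  obtain ⟨n, hn1, hexpAb, ⟨eAb⟩⟩ :=
    abelian_case hAb2 (fun x y => mul_comm x y) (meta_T4 hAbm) β hβ3 hβ1
  have hcardAb : Nat.card (Abelianization X) = 2 ^ n * 2 ^ n := by
    have h1 : Nat.card (Multiplicative (ZMod (2 ^ n))) = 2 ^ n := Nat.card_zmod (2 ^ n)
    rw [Nat.card_congr eAb.toEquiv, Nat.card_prod, h1]
  have hcardX : Nat.card X = 2 ^ n * 2 ^ n * Nat.card D := by
    rw [Subgroup.card_eq_card_quotient_mul_card_subgroup (commutator X), ← hcardAb, hD]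
    rfl
  have hpowD : ∀ x : X, x ^ 2 ^ n ∈ D := by
    intro x
    rw [← hkerof, map_pow]
    exact hexpAb _
  have hQle : Nat.card (X ⧸ N) ≤ 2 ^ n := by
    haveI := hQc
    apply Cfsg.Agent.S4419.cyclic_card_le (by positivity)
    intro y
    induction y using QuotientGroup.induction_on with
    | H x =>
      rw [← QuotientGroup.mk_pow, QuotientGroup.eq_one_iff]
      exact hDN (hpowD x)
  have hcardN : Nat.card N = 2 ^ m := by rw [hNeq, Nat.card_zpowers, hm_ord]
  have hcardXN : Nat.card X = Nat.card (X ⧸ N) * Nat.card N :=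
    Subgroup.card_eq_card_quotient_mul_card_subgroup N
  have hdecomp : ∀ x : X, ∃ y : X, ∃ d ∈ D, x = y⁻¹ * α y * d := by
    have hinj : Function.Injective (fun u : Abelianization X => u⁻¹ * β u) := by
      intro u v huv
      have huv' : u⁻¹ * β u = v⁻¹ * β v := huv
      have h1 : β (u * v⁻¹) = u * v⁻¹ := by
        rw [map_mul, map_inv]
        have h2 : β u = u * (v⁻¹ * β v) := by rw [← huv', mul_inv_cancel_left]
        rw [h2]
        group
      have h2 := hβfpf _ h1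
      exact mul_inv_eq_one.mp h2
    have hsurj := Finite.surjective_of_injective hinj
    intro x
    obtain ⟨u, hu⟩ := hsurj (Abelianization.of x)
    obtain ⟨y, rfl⟩ := hof u
    have hu' : (Abelianization.of y)⁻¹ * β (Abelianization.of y) = Abelianization.of x := hu
    refine ⟨y, (y⁻¹ * α y)⁻¹ * x, ?_, by group⟩
    rw [← hkerof, map_mul, map_inv, map_mul, map_inv, ← hβ, hu', inv_mul_cancel]
  -- n = 1
  have hn_lt : n < 2 := by
    by_contra hn2
    have hn2' : 2 ≤ n := by omega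
    obtain ⟨M, hMmem⟩ : ∃ M : Subgroup X, ∀ x, x ∈ M ↔ ∃ d ∈ D, x = d ^ 2 := by
      refine ⟨{ carrier := {x | ∃ d ∈ D, x = d ^ 2}
                mul_mem' := ?_
                one_mem' := ⟨1, D.one_mem, (one_pow 2).symm⟩
                inv_mem' := ?_ }, fun x => Iff.rfl⟩
      · rintro _ _ ⟨d, hd, rfl⟩ ⟨e, he, rfl⟩
        exact ⟨d * e, D.mul_mem hd he, ((show Commute d e from hDcomm d hd e he).mul_pow 2).symm⟩
      · rintro _ ⟨d, hd, rfl⟩
        exact ⟨d⁻¹, D.inv_mem hd, (inv_pow d 2).symm⟩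
    have hMD : M ≤ D := by
      intro x hx
      obtain ⟨d, hd, rfl⟩ := (hMmem x).mp hx
      exact D.pow_mem hd 2
    haveI hMn : M.Normal := by
      constructor
      intro x hx g
      obtain ⟨d, hd, rfl⟩ := (hMmem x).mp hx
      rw [hMmem]
      refine ⟨g * d * g⁻¹, hDn.conj_mem d hd g, ?_⟩
      rw [conj_pow]
    have hMneD : M ≠ D := by
      intro hMD'
      obtain ⟨w, hw⟩ := exists_prime_orderOf_dvd_card' (G := D) 2 (by
          obtain ⟨k, hk⟩ := (hX.to_subgroup D).exists_card_eq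
          have hk0 : k ≠ 0 := by
            rintro rfl
            rw [pow_zero] at hk
            exact hDne (Subgroup.card_eq_one.mp hk)
          rw [hk]
          exact dvd_pow_self 2 hk0)
      have hsurj : Function.Surjective (fun d : D => (⟨(d : X) ^ 2, D.pow_mem d.2 2⟩ : D)) := by
        rintro ⟨y, hy⟩
        have hy' : y ∈ M := by rw [hMD']; exact hy
        obtain ⟨d, hd, rfl⟩ := (hMmem y).mp hy'
        exact ⟨⟨d, hd⟩, rfl⟩
      have hinj := Finite.injective_iff_surjective.mpr hsurj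
      have h1 : w = 1 := by
        apply hinj
        apply Subtype.ext
        show (w : X) ^ 2 = ((1 : D) : X) ^ 2
        rw [Subgroup.coe_one, one_pow, ← Subgroup.coe_pow, ← hw, pow_orderOf_eq_one,
          Subgroup.coe_one]
      rw [h1, orderOf_one] at hw
      norm_num at hw
    have hDXM : ∀ d ∈ D, ∀ x : X, ⁅d, x⁆ ∈ M := by
      intro d hd x
      have h1 : x * a * x⁻¹ ∈ Subgroup.zpowers a := (hNa _).mp (hNn.conj_mem a haN x)
      obtain ⟨r, hr⟩ := (Submonoid.mem_powers_iff _ _).mp (mem_powers_iff_mem_zpowers.mpr h1)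
      have hrodd : Odd r := by
        by_contra hev
        rw [Nat.not_odd_iff_even] at hev
        obtain ⟨t, rfl⟩ := hev
        have h2 : (x * a * x⁻¹) ^ 2 ^ (m - 1) = 1 := by
          rw [← hr, ← pow_mul]
          have h3 : (t + t) * 2 ^ (m - 1) = 2 ^ m * t := by
            obtain ⟨m', rfl⟩ : ∃ m', m = m' + 1 := ⟨m - 1, by omega⟩
            simp only [Nat.add_sub_cancel]
            ring
          rw [h3, pow_mul, ← hm_ord, pow_orderOf_eq_one, one_pow]
        rw [conj_pow] at h2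
        have h3 : a ^ 2 ^ (m - 1) = 1 := conj_eq_one_iff.mp h2
        have h4 := orderOf_dvd_of_pow_eq_one h3
        rw [hm_ord] at h4
        have h5 := Nat.le_of_dvd (by positivity) h4
        have h6 : m ≤ m - 1 := (Nat.pow_le_pow_iff_right (by norm_num)).mp h5
        omega
      obtain ⟨t, ht⟩ := hrodd
      obtain ⟨i, hi⟩ := (Submonoid.mem_powers_iff _ _).mp
        (mem_powers_iff_mem_zpowers.mpr ((hNa d).mp (hDN hd)))
      have h2 : x * d * x⁻¹ = d ^ r := by
        rw [← hi, ← conj_pow, ← hr, ← pow_mul, ← pow_mul, mul_comm]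
      rw [hMmem]
      refine ⟨(d ^ t)⁻¹, D.inv_mem (D.pow_mem hd t), ?_⟩
      rw [commutatorElement_def]
      have h3 : d * x * d⁻¹ * x⁻¹ = d * (x * d * x⁻¹)⁻¹ := by group
      rw [h3, h2, ht, pow_succ, mul_inv_rev, mul_inv_cancel_left, inv_pow, ← pow_mul,
        mul_comm t 2]
    obtain ⟨π, hπ⟩ : ∃ π : X →* X ⧸ M, π = QuotientGroup.mk' M := ⟨_, rfl⟩
    have hπsurj : Function.Surjective π := by
      rw [hπ]
      exact QuotientGroup.mk'_surjective M
    have hπker : ∀ x, π x = 1 ↔ x ∈ M := by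
      intro x
      rw [hπ]
      exact QuotientGroup.eq_one_iff x
    have hDcent : ∀ d ∈ D, ∀ k : X ⧸ M, π d * k = k * π d := by
      intro d hd k
      obtain ⟨x, rfl⟩ := hπsurj k
      have h1 := (hπker _).mpr (hDXM d hd x)
      rw [map_commutatorElement, commutatorElement_eq_one_iff_mul_comm] at h1
      exact h1
    have hDsq : ∀ d ∈ D, π d ^ 2 = 1 := by
      intro d hd
      rw [← map_pow, hπker, hMmem]
      exact ⟨d, hd, rfl⟩
    have hcomm_cent : ∀ g h k : X ⧸ M, ⁅g, h⁆ * k = k * ⁅g, h⁆ := by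
      intro g h k
      obtain ⟨x, rfl⟩ := hπsurj g
      obtain ⟨y, rfl⟩ := hπsurj h
      rw [← map_commutatorElement]
      exact hDcent _ (hcommD x y) k
    have hcomm_sq : ∀ g h : X ⧸ M, ⁅g, h⁆ ^ 2 = 1 := by
      intro g h
      obtain ⟨x, rfl⟩ := hπsurj g
      obtain ⟨y, rfl⟩ := hπsurj h
      rw [← map_commutatorElement]
      exact hDsq _ (hcommD x y)
    obtain ⟨ψ, hψ⟩ : ∃ ψ : X →* X ⧸ M, ∀ x, ψ x = π x ^ 2 ^ n := by
      refine ⟨MonoidHom.mk' (fun x => π x ^ 2 ^ n) ?_, fun x => rfl⟩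
      intro x y
      show π (x * y) ^ 2 ^ n = π x ^ 2 ^ n * π y ^ 2 ^ n
      rw [map_mul]
      exact pow_mul_of_class2 hcomm_cent hcomm_sq n hn2' _ _
    have hψα : ∀ y, ψ (α y) = ψ y := by
      intro y
      have e : (α y) ^ 2 ^ n = y ^ 2 ^ n := by
        rw [← map_pow]
        exact hfixD _ (hpowD y)
      rw [hψ, hψ, ← map_pow, e, map_pow]
    have hψD : ∀ d ∈ D, ψ d = 1 := by
      intro d hd
      rw [hψ]
      obtain ⟨n', rfl⟩ : ∃ n', n = n' + 1 := ⟨n - 1, by omega⟩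
      rw [pow_succ', pow_mul, hDsq d hd, one_pow]
    have hψ1 : ∀ x, ψ x = 1 := by
      intro x
      obtain ⟨y, d, hd, rfl⟩ := hdecomp x
      rw [map_mul, map_mul, map_inv, hψα, inv_mul_cancel, one_mul, hψD d hd]
    have hpowM : ∀ x : X, x ^ 2 ^ n ∈ M := by
      intro x
      rw [← hπker, map_pow, ← hψ]
      exact hψ1 x
    have h1 : 2 ^ m ∣ 2 ^ n * Nat.card M := by
      rw [← hm_ord]
      apply orderOf_dvd_of_pow_eq_one
      rw [pow_mul]
      have h2 := pow_card_eq_one' (G := M) (x := ⟨a ^ 2 ^ n, hpowM a⟩)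
      have h3 : ((⟨a ^ 2 ^ n, hpowM a⟩ : M) : X) ^ Nat.card M = 1 := by
        rw [← Subgroup.coe_pow, h2]
        rfl
      exact h3
    have h2 : 2 ^ m ≤ 2 ^ n * Nat.card M :=
      Nat.le_of_dvd (Nat.mul_pos (by positivity) Nat.card_pos) h1
    have h5 : 2 ^ n * 2 ^ n * Nat.card D ≤ 2 ^ n * (2 ^ n * Nat.card M) := by
      rw [← hcardX, hcardXN, hcardN]
      exact Nat.mul_le_mul hQle h2
    have h6 : Nat.card D ≤ Nat.card M := by
      have hpos : 0 < 2 ^ n * 2 ^ n := by positivity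
      rw [← mul_assoc] at h5
      exact Nat.le_of_mul_le_mul_left h5 hpos
    exact hMneD (Subgroup.eq_of_le_of_card_ge hMD h6)
  have hn_eq : n = 1 := by omega
  subst hn_eq
  -- the case n = 1
  have hNtop : N ≠ ⊤ := by
    intro h
    obtain ⟨x, y, hxy⟩ := hab
    exact hxy (hNcomm x (h ▸ Subgroup.mem_top x) y (h ▸ Subgroup.mem_top y))
  have hcardD_pos : 0 < Nat.card D := Nat.card_pos
  have hindex : N.index = 2 := by
    have h1 : N.index = Nat.card (X ⧸ N) := Subgroup.index_eq_card N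
    have h2 : N.index ≠ 1 := fun h => hNtop (Subgroup.index_eq_one.mp h)
    have h3 : N.index ≠ 0 := Subgroup.index_ne_zero_of_finite
    rw [← h1] at hQle
    norm_num at hQle
    omega
  have hQ2 : Nat.card (X ⧸ N) = 2 := by rw [← Subgroup.index_eq_card N]; exact hindex
  obtain ⟨b, hb⟩ : ∃ b, b = α a := ⟨_, rfl⟩
  have hbN : b ∉ N := by
    intro hbN
    have hNinv : ∀ x ∈ N, α x ∈ N := by
      intro x hx
      obtain ⟨k, rfl⟩ := Subgroup.mem_zpowers_iff.mp ((hNa x).mp hx)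
      rw [map_zpow, ← hb]
      exact N.zpow_mem hbN k
    have hfixN' : ∀ x ∈ N, α x = x := by
      apply fix_of_omega hX α 3 (by norm_num) hα3 N hNinv hNcomm
      intro x hx hx2
      exact hfixN x hx hx2 (hNinv x hx)
    have h1 : β (Abelianization.of a) = Abelianization.of a := by rw [hβ, hfixN' a haN]
    have h2 : a ∈ D := (hkerof a).mp (hβfpf _ h1)
    have h3 : N ≤ D := by
      intro x hx
      exact (Subgroup.zpowers_le.mpr h2) ((hNa x).mp hx)
    have h4 : Nat.card N ≤ Nat.card D := Subgroup.card_le_of_le h3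
    rw [hcardXN, hQ2] at hcardX
    norm_num at hcardX
    omega
  obtain ⟨c, hc⟩ : ∃ c, c = ⁅b, a⁆ := ⟨_, rfl⟩
  have hcN : c ∈ N := by
    rw [hc, commutatorElement_def]
    exact N.mul_mem (hNn.conj_mem a haN b) (N.inv_mem haN)
  have hcD : c ∈ D := by rw [hc]; exact hcommD _ _
  have hαc : α c = c := hfixD c hcD
  have hca : c * a = a * c := hNcomm c hcN a haN
  have hcb : c * b = b * c := by
    calc c * b = α c * α a := by rw [hαc, hb]
      _ = α (c * a) := by rw [map_mul]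
      _ = α (a * c) := by rw [hca]
      _ = b * c := by rw [map_mul, hαc, hb]
  have hbinvN : b⁻¹ ∉ N := fun h => hbN (by simpa using N.inv_mem h)
  have hdec2 : ∀ x : X, x ∈ N ∨ ∃ u ∈ N, x = u * b := by
    intro x
    by_cases hx : x ∈ N
    · exact Or.inl hx
    · right
      refine ⟨x * b⁻¹, ?_, by group⟩
      rw [Subgroup.mul_mem_iff_of_index_two hindex]
      exact ⟨fun h => absurd h hx, fun h => absurd h hbinvN⟩
  have hccent : ∀ x : X, c * x = x * c := by
    intro x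
    rcases hdec2 x with hx | ⟨u, hu, rfl⟩
    · exact hNcomm c hcN x hx
    · rw [← mul_assoc, hNcomm c hcN u hu, mul_assoc, hcb, mul_assoc]
  have hb2N : b ^ 2 ∈ N := by
    rw [pow_two, Subgroup.mul_mem_iff_of_index_two hindex]
  have hc2 : c ^ 2 = 1 := by
    have e1 : b * a * b⁻¹ = c * a := by rw [hc, commutatorElement_def]; group
    have hbc : b * c = c * b := hcb.symm
    have e2 : b ^ 2 * a * (b ^ 2)⁻¹ = c * (c * a) := by
      calc b ^ 2 * a * (b ^ 2)⁻¹ = b * (b * a * b⁻¹) * b⁻¹ := by rw [pow_two]; group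
        _ = b * (c * a) * b⁻¹ := by rw [e1]
        _ = (b * c) * a * b⁻¹ := by group
        _ = (c * b) * a * b⁻¹ := by rw [hbc]
        _ = c * (b * a * b⁻¹) := by group
        _ = c * (c * a) := by rw [e1]
    have e3 : b ^ 2 * a * (b ^ 2)⁻¹ = a := by
      rw [hNcomm _ hb2N a haN, mul_inv_cancel_right]
    rw [e3] at e2
    have e4 : c ^ 2 * a = 1 * a := by rw [pow_two, mul_assoc, ← e2, one_mul]
    exact mul_right_cancel e4
  have hDK : D ≤ Subgroup.zpowers c := by
    haveI hKn : (Subgroup.zpowers c).Normal := by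
      constructor
      intro x hx k
      obtain ⟨j, rfl⟩ := Subgroup.mem_zpowers_iff.mp hx
      have h1 : Commute k (c ^ j) := (show Commute c k from hccent k).symm.zpow_right j
      rw [h1.eq, mul_inv_cancel_right]
      exact Subgroup.zpow_mem_zpowers c j
    obtain ⟨π₂, hπ₂⟩ : ∃ π₂ : X →* X ⧸ Subgroup.zpowers c,
        π₂ = QuotientGroup.mk' (Subgroup.zpowers c) := ⟨_, rfl⟩
    have hπ₂ker : ∀ x, π₂ x = 1 ↔ x ∈ Subgroup.zpowers c := by
      intro x
      rw [hπ₂]
      exact QuotientGroup.eq_one_iff x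
    have hAB : Commute (π₂ a) (π₂ b) := by
      have h1 : π₂ ⁅b, a⁆ = 1 := by
        rw [hπ₂ker, ← hc]
        exact Subgroup.mem_zpowers c
      rw [map_commutatorElement, commutatorElement_eq_one_iff_mul_comm] at h1
      exact h1.symm
    have hform : ∀ x : X, ∃ (k : ℤ) (e : ℕ), x = a ^ k * b ^ e := by
      intro x
      rcases hdec2 x with hx | ⟨u, hu, rfl⟩
      · obtain ⟨k, rfl⟩ := Subgroup.mem_zpowers_iff.mp ((hNa x).mp hx)
        exact ⟨k, 0, by rw [pow_zero, mul_one]⟩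
      · obtain ⟨k, rfl⟩ := Subgroup.mem_zpowers_iff.mp ((hNa u).mp hu)
        exact ⟨k, 1, by rw [pow_one]⟩
    have key : ∀ (k l : ℤ) (e f : ℕ),
        Commute (π₂ a ^ k * π₂ b ^ e) (π₂ a ^ l * π₂ b ^ f) := fun k l e f =>
      Commute.mul_left
        (Commute.mul_right (Commute.zpow_zpow_self (π₂ a) k l) ((hAB.zpow_left k).pow_right f))
        (Commute.mul_right ((hAB.symm.pow_left e).zpow_right l) (Commute.pow_pow_self (π₂ b) e f))
    rw [hD, commutator_def, Subgroup.commutator_le]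
    intro x _ y _
    rw [← hπ₂ker, map_commutatorElement, commutatorElement_eq_one_iff_mul_comm]
    obtain ⟨k, e, rfl⟩ := hform x
    obtain ⟨l, f, rfl⟩ := hform y
    rw [map_mul, map_mul, map_zpow, map_zpow, map_pow, map_pow]
    exact (key k l e f).eq
  have hc1 : c ≠ 1 := by
    intro h
    apply hDne
    rw [eq_bot_iff]
    intro x hx
    have h1 := hDK hx
    rw [h, Subgroup.zpowers_one_eq_bot] at h1
    exact h1
  have hcardD : Nat.card D = 2 := by
    have h1 : Nat.card D ≤ Nat.card (Subgroup.zpowers c) := Subgroup.card_le_of_le hDK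
    rw [Nat.card_zpowers, orderOf_eq_prime hc2 hc1] at h1
    have h2 : Nat.card D ≠ 1 := fun h => hDne (Subgroup.card_eq_one.mp h)
    omega
  have hcardX8 : Nat.card X = 8 := by rw [hcardX, hcardD]; norm_num
  have hm2 : m = 2 := by
    have h1 : 2 ^ m = 2 ^ 2 := by
      rw [hcardXN, hQ2, hcardN] at hcardX8
      omega
    exact Nat.pow_right_injective (le_refl 2) h1
  subst hm2
  have hca2 : c = a ^ 2 := by
    have h1 := unique_invol a 2 (by norm_num) hm_ord c ((hNa c).mp hcN) hc2 hc1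
    norm_num at h1
    exact h1
  have hcb2 : b ^ 2 = a ^ 2 := by
    rw [← hca2, ← hαc, hca2, map_pow, ← hb]
  have ha4 : a ^ 4 = 1 := by
    have h1 : orderOf a = 4 := by rw [hm_ord]; norm_num
    rw [← h1]
    exact pow_orderOf_eq_one a
  have hrel : b * a * b⁻¹ = a⁻¹ := by
    have e1 : b * a * b⁻¹ = c * a := by rw [hc, commutatorElement_def]; group
    rw [e1, hca2]
    apply eq_inv_of_mul_eq_one_left
    rw [← pow_succ, ← pow_succ]
    exact ha4
  have hord4 : orderOf a = 2 * 2 := by rw [hm_ord]; norm_num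
  obtain ⟨H, hHcard, ⟨e⟩⟩ := Cfsg.Agent.helper11.QuatPres.exists_subgroup_mulEquiv (n := 2)
    (le_refl 2) hord4 hcb2 hrel
  have hHtop : H = ⊤ := by
    rw [← Subgroup.card_eq_iff_eq_top, hHcard, hcardX8]
  subst hHtop
  exact ⟨Subgroup.topEquiv.symm.trans e⟩

end Cfsg.Agent.S1896
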