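import Mathlib
import Cfsg.Statements.S1897
import Cfsg.Agent.Lib_helper2_Tab4

set_option autoImplicit false
open Cfsg

namespace Cfsg.Agent.S1897

open Cfsg.Agent.helper2

open Cfsg.Agent.helper2.Spec

theorem result {F : Type*} [Field F] [Fintype F] (hF : Fintype.card F = 9)
    {K : Type*} [Field K] [Fintype K] (hK : Fintype.card K = 7) :
    ∃ H : Subgroup (Cfsg.PSU 3 F 3), Nonempty (H ≃* Matrix.ProjectiveSpecialLinearGroup (Fin 2) K) := by
  exact exists_L27 hF hK

end Cfsg.Agent.S1897
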