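import Mathlib
import Cfsg.Statements.S1898

set_option autoImplicit false
open Cfsg
open scoped commutatorElement

namespace Cfsg.Agent.S1898

variable {X : Type*} [Group X]

theorem sq_mul' (c x y : X) (hc : ∀ g, g * c = c * g) (h1 : y * x = c * x * y) :
    (x * y) ^ 2 = c * x ^ 2 * y ^ 2 := by
  simp only [pow_two]
  calc x * y * (x * y) = x * (y * x) * y := by simp only [mul_assoc]
    _ = x * (c * x * y) * y := by rw [h1]
    _ = (x * c) * x * y * y := by simp only [mul_assoc]
    _ = (c * x) * x * y * y := by rw [hc x]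
    _ = c * (x * x) * (y * y) := by simp only [mul_assoc]

theorem sq_comm' (c x y : X) (hc : ∀ g, g * c = c * g) (h1 : y * x = c * x * y)
    (h2 : c * c = 1) : y ^ 2 * x = x * y ^ 2 := by
  simp only [pow_two]
  calc y * y * x = y * (y * x) := by simp only [mul_assoc]
    _ = y * (c * x * y) := by rw [h1]
    _ = (y * c) * x * y := by simp only [mul_assoc]
    _ = (c * y) * x * y := by rw [hc y]
    _ = c * (y * x) * y := by simp only [mul_assoc]
    _ = c * (c * x * y) * y := by rw [h1]
    _ = (c * c) * x * (y * y) := by simp only [mul_assoc]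
    _ = x * (y * y) := by rw [h2, one_mul]

theorem comm_rel (x y : X) : y * x = ⁅y, x⁆ * x * y := by
  rw [commutatorElement_def]; group

theorem sq_mul {x y : X} (hc : ∀ g, g * ⁅y, x⁆ = ⁅y, x⁆ * g) :
    (x * y) ^ 2 = ⁅y, x⁆ * x ^ 2 * y ^ 2 :=
  sq_mul' _ x y hc (comm_rel x y)

theorem sq_comm {x y : X} (hc : ∀ g, g * ⁅y, x⁆ = ⁅y, x⁆ * g) (h2 : ⁅y, x⁆ ^ 2 = 1) :
    y ^ 2 * x = x * y ^ 2 :=
  sq_comm' _ x y hc (comm_rel x y) (by rw [← pow_two]; exact h2)

theorem pow4_aux (c A B : X) (hc : ∀ g, g * c = c * g) (hB : ∀ g, B * g = g * B)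
    (h2 : c * c = 1) : (c * A * B) * (c * A * B) = (A * A) * (B * B) := by
  calc (c * A * B) * (c * A * B) = c * A * (B * (c * A)) * B := by simp only [mul_assoc]
    _ = c * A * ((c * A) * B) * B := by rw [hB]
    _ = c * (A * c) * A * B * B := by simp only [mul_assoc]
    _ = c * (c * A) * A * B * B := by rw [hc A]
    _ = (c * c) * (A * A) * (B * B) := by simp only [mul_assoc]
    _ = (A * A) * (B * B) := by rw [h2, one_mul]

theorem pow4_mul (central : ∀ a b g : X, g * ⁅a, b⁆ = ⁅a, b⁆ * g)
    (sqone : ∀ a b : X, ⁅a, b⁆ ^ 2 = 1) (x y : X) : (x * y) ^ 4 = x ^ 4 * y ^ 4 := by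
  have hs := sq_mul (x := x) (y := y) (central y x)
  have hy : ∀ g, y ^ 2 * g = g * y ^ 2 := fun g => sq_comm (central y g) (sqone y g)
  have h4 : ∀ a : X, a ^ 4 = a ^ 2 * a ^ 2 := fun a => by rw [← pow_add]
  have h22 : (x * y) ^ 4 = ((x * y) ^ 2) ^ 2 := by rw [← pow_mul]
  rw [h22, hs, pow_two (⁅y, x⁆ * x ^ 2 * y ^ 2), h4 x, h4 y]
  exact pow4_aux _ _ _ (central y x) hy (by rw [← pow_two]; exact sqone y x)

theorem result {X : Type*} [Group X] [Finite X] (hX : IsPGroup 2 X)
    (hel : Cfsg.IsElementaryAbelian 2 (commutator X)) (hcen : commutator X ≤ Subgroup.center X) :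
    (∀ x ∈ Subgroup.closure {g : X | g ^ 4 = 1}, x ^ 4 = 1) ∧
      ∀ φ : MulAut X, (∀ g : X, g ^ 4 = 1 → φ g = g) → ∃ k : ℕ, φ ^ (2 ^ k) = 1 := by
  have hmemc : ∀ a b : X, ⁅a, b⁆ ∈ commutator X := fun a b => by
    rw [commutator_def]
    exact Subgroup.commutator_mem_commutator (Subgroup.mem_top a) (Subgroup.mem_top b)
  have central : ∀ a b g : X, g * ⁅a, b⁆ = ⁅a, b⁆ * g := fun a b g =>
    Subgroup.mem_center_iff.mp (hcen (hmemc a b)) g
  have sqone : ∀ a b : X, ⁅a, b⁆ ^ 2 = 1 := fun a b => hel.2 _ (hmemc a b)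
  have pow4 : ∀ x y : X, (x * y) ^ 4 = x ^ 4 * y ^ 4 := pow4_mul central sqone
  constructor
  · intro x hx
    induction hx using Subgroup.closure_induction with
    | mem g hg => exact hg
    | one => exact one_pow 4
    | mul a b _ _ ha hb => rw [pow4, ha, hb, one_mul]
    | inv a _ ha => rw [inv_pow, ha, inv_one]
  · intro φ hφ
    have hord : orderOf φ ≠ 0 := (orderOf_pos φ).ne'
    obtain ⟨k, m, hm, hkm⟩ := Nat.exists_eq_two_pow_mul_odd hord
    refine ⟨k, ?_⟩
    set ψ := φ ^ (2 ^ k) with hψ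
    have hψm : ψ ^ m = 1 := by rw [hψ, ← pow_mul, ← hkm, pow_orderOf_eq_one]
    have hψfix : ∀ g : X, g ^ 4 = 1 → ψ g = g := by
      intro g hg
      have : ∀ j : ℕ, (φ ^ j) g = g := by
        intro j
        induction j with
        | zero => simp
        | succ j ih => rw [pow_succ' φ j, MulAut.mul_apply, ih, hφ g hg]
      exact this _
    have key : ∀ n : ℕ, ∀ x : X, orderOf x = n → ψ x = x := by
      intro n
      induction n using Nat.strong_induction_on with
      | _ n ih =>
        intro x hxn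
        by_cases h4 : x ^ 4 = 1
        · exact hψfix x h4
        · obtain ⟨j, hj⟩ := (IsPGroup.iff_orderOf.mp hX) x
          have hj0 : j ≠ 0 := by
            rintro rfl
            rw [pow_zero, orderOf_eq_one_iff] at hj
            exact h4 (by rw [hj, one_pow])
          have h2dvd : 2 ∣ orderOf x := by rw [hj]; exact dvd_pow_self 2 hj0
          have hlt : orderOf (x ^ 2) < n := by
            rw [orderOf_pow_of_dvd two_ne_zero h2dvd, ← hxn]
            exact Nat.div_lt_self (orderOf_pos x) one_lt_two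
          have hsq : ψ (x ^ 2) = x ^ 2 := ih _ hlt (x ^ 2) rfl
          obtain ⟨c, hc⟩ : ∃ c : X, c = x⁻¹ * ψ x := ⟨_, rfl⟩
          have hy : ψ x = x * c := by rw [hc]; group
          have hsq' : (x * c) ^ 2 = x ^ 2 := by rw [← hy, ← map_pow ψ x 2, hsq]
          have hform := sq_mul (x := x) (y := c) (central c x)
          rw [hform] at hsq'
          have hc2 : c ^ 2 = (⁅c, x⁆)⁻¹ := by
            have h1 : x ^ 2 * (⁅c, x⁆ * c ^ 2) = x ^ 2 := by
              calc x ^ 2 * (⁅c, x⁆ * c ^ 2) = (x ^ 2 * ⁅c, x⁆) * c ^ 2 := by group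
                _ = (⁅c, x⁆ * x ^ 2) * c ^ 2 := by rw [central c x (x ^ 2)]
                _ = x ^ 2 := hsq'
            have h3 : ⁅c, x⁆ * c ^ 2 = 1 :=
              mul_left_cancel (a := x ^ 2) (by rw [h1, mul_one])
            exact eq_inv_of_mul_eq_one_right h3
          have hc4 : c ^ 4 = 1 := by
            calc c ^ 4 = (c ^ 2) ^ 2 := by rw [← pow_mul]
              _ = ((⁅c, x⁆)⁻¹) ^ 2 := by rw [hc2]
              _ = ((⁅c, x⁆) ^ 2)⁻¹ := by rw [inv_pow]
              _ = 1 := by rw [sqone, inv_one]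
          have hψc : ψ c = c := hψfix c hc4
          have hiter : ∀ j : ℕ, (ψ ^ j) x = x * c ^ j := by
            intro j
            induction j with
            | zero => simp
            | succ j ihj =>
              rw [pow_succ' ψ j, MulAut.mul_apply, ihj, map_mul, map_pow, hy, hψc, pow_succ' c j]
              group
          have hcm : c ^ m = 1 := by
            have h := hiter m
            rw [hψm, MulAut.one_apply] at h
            exact mul_left_cancel (a := x) (by rw [mul_one]; exact h.symm)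
          have hc1 : c = 1 := by
            have hd1 : orderOf c ∣ 4 := orderOf_dvd_of_pow_eq_one hc4
            have hd2 : orderOf c ∣ m := orderOf_dvd_of_pow_eq_one hcm
            have hcop : Nat.Coprime 4 m := by
              have h2 : Nat.Coprime 2 m := Nat.coprime_two_left.mpr hm
              have h3 := Nat.Coprime.pow_left 2 h2
              simpa using h3
            have h5 : orderOf c ∣ Nat.gcd 4 m := Nat.dvd_gcd hd1 hd2
            rw [Nat.Coprime.gcd_eq_one hcop] at h5
            exact orderOf_eq_one_iff.mp (Nat.dvd_one.mp h5)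
          rw [hy, hc1, mul_one]
    ext x
    exact key _ x rfl

end Cfsg.Agent.S1898
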