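import Mathlib
import Cfsg.Statements.S1899

set_option autoImplicit false
open Cfsg

namespace Cfsg.Agent.S1899

theorem card_mul_le_card_sup {A : Type*} [Group A] [Finite A] (H₁ H₂ : Subgroup A)
    (h : H₁ ⊓ H₂ = ⊥) : Nat.card H₁ * Nat.card H₂ ≤ Nat.card (H₁ ⊔ H₂ : Subgroup A) := by
  rw [← Nat.card_prod]
  have hdisj : Disjoint H₁ H₂ := disjoint_iff.mpr h
  have hi := Subgroup.mul_injective_of_disjoint hdisj
  let g : H₁ × H₂ → (H₁ ⊔ H₂ : Subgroup A) := fun x =>
    ⟨(x.1 : A) * x.2, Subgroup.mul_mem _ (Subgroup.mem_sup_left x.1.2) (Subgroup.mem_sup_right x.2.2)⟩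
  have hg : Function.Injective g := by
    intro x y hxy
    apply hi
    exact congrArg Subtype.val hxy
  exact Nat.card_le_card_of_injective g hg

theorem result {A : Type*} [CommGroup A] [Finite A] (hA : IsPGroup 2 A)
    {n : ℕ} (hn : Odd n) (hn1 : 1 < n) (d t : MulAut A) (hd : d ^ n = 1) (ht : t ^ 2 = 1) (hdt : t * d * t⁻¹ = d⁻¹)
    (hfix : ∀ a : A, d a = a → a = 1) :
    (MulEquiv.toMonoidHom t).eqLocus (MonoidHom.id A) ⊓ ((MulEquiv.toMonoidHom t).eqLocus (MonoidHom.id A)).map d.toMonoidHom = ⊥ ∧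
      (MulEquiv.toMonoidHom t).eqLocus (MonoidHom.id A) ⊔ ((MulEquiv.toMonoidHom t).eqLocus (MonoidHom.id A)).map d.toMonoidHom = ⊤ := by
  have tt : ∀ a, t (t a) = a := fun a => by
    have h : (t ^ 2) a = a := by rw [ht]; rfl
    rwa [pow_two, MulAut.mul_apply] at h
  have tinv : t⁻¹ = t := inv_eq_of_mul_eq_one_right (by rw [← pow_two]; exact ht)
  have key : ∀ a, t (d (t a)) = d⁻¹ a := fun a => by
    have hdt' := hdt
    rw [tinv] at hdt'
    have h := DFunLike.congr_fun hdt' a
    simpa only [MulAut.mul_apply] using h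
  have d2fix : ∀ a, d (d a) = a → a = 1 := fun a ha => by
    obtain ⟨k, hk⟩ := hn
    have h1 : ∀ j : ℕ, ((d ^ 2) ^ j) a = a := by
      intro j
      induction j with
      | zero => simp
      | succ j ih =>
        rw [pow_succ' (d ^ 2) j, MulAut.mul_apply, ih, pow_two, MulAut.mul_apply, ha]
    have h2 : d ^ n = d * (d ^ 2) ^ k := by rw [hk, pow_succ', pow_mul]
    have h3 : (d ^ n) a = d a := by rw [h2, MulAut.mul_apply, h1 k]
    rw [hd, MulAut.one_apply] at h3
    exact hfix a h3.symm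
  set C := (MulEquiv.toMonoidHom t).eqLocus (MonoidHom.id A) with hCdef
  have hC : ∀ a, a ∈ C ↔ t a = a := fun a => Iff.rfl
  have part1 : C ⊓ C.map d.toMonoidHom = ⊥ := by
    rw [eq_bot_iff]
    intro a ha
    obtain ⟨ha1, ha2⟩ := Subgroup.mem_inf.mp ha
    rw [hC] at ha1
    obtain ⟨c, hc, hca⟩ := Subgroup.mem_map.mp ha2
    rw [hC] at hc
    have hca' : d c = a := hca
    subst hca'
    have h1 := key (d c)
    rw [ha1, MulAut.inv_apply_self] at h1
    have h2 : d (d c) = c := t.injective (by rw [h1, hc])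
    have h3 := d2fix c h2
    rw [Subgroup.mem_bot, h3, map_one]
  refine ⟨part1, ?_⟩
  let f : A →* A := MonoidHom.id A * t.toMonoidHom
  have hf : ∀ a, f a = a * t a := fun a => rfl
  have hrange : f.range ≤ C := by
    rintro _ ⟨a, rfl⟩
    rw [hC, hf, map_mul, tt, mul_comm]
  have hK : ∀ a, a ∈ f.ker ↔ t a = a⁻¹ := by
    intro a
    rw [MonoidHom.mem_ker, hf]
    constructor
    · intro h; exact eq_inv_of_mul_eq_one_right h
    · intro h; rw [h, mul_inv_cancel]
  have hKD : f.ker ⊓ f.ker.map d.toMonoidHom = ⊥ := by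
    rw [eq_bot_iff]
    intro a ha
    obtain ⟨ha1, ha2⟩ := Subgroup.mem_inf.mp ha
    rw [hK] at ha1
    obtain ⟨c, hc, hca⟩ := Subgroup.mem_map.mp ha2
    rw [hK] at hc
    have hca' : d c = a := hca
    subst hca'
    have h1 := key (d c)
    rw [ha1, MulAut.inv_apply_self, map_inv, map_inv] at h1
    have h3 : t (d (d c)) = c⁻¹ := inv_eq_iff_eq_inv.mp h1
    have h2 : d (d c) = c := t.injective (by rw [h3, hc])
    have h4 := d2fix c h2
    rw [Subgroup.mem_bot, h4, map_one]
  have hcardA : Nat.card A = Nat.card f.ker * Nat.card f.range := by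
    rw [← Subgroup.index_ker, Subgroup.card_mul_index]
  have hrc : Nat.card f.range ≤ Nat.card C := Subgroup.card_le_of_le hrange
  have h1 : Nat.card A ≤ Nat.card f.ker * Nat.card C := by
    rw [hcardA]; exact Nat.mul_le_mul_left _ hrc
  have hcardmap : ∀ H : Subgroup A, Nat.card (H.map d.toMonoidHom) = Nat.card H := fun H =>
    Subgroup.card_map_of_injective d.injective
  have h2 : Nat.card f.ker * Nat.card f.ker ≤ Nat.card A := by
    have h := card_mul_le_card_sup _ _ hKD
    rw [hcardmap] at h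
    exact le_trans h (Subgroup.card_le_card_group _)
  have h3 : Nat.card C * Nat.card C ≤ Nat.card (C ⊔ C.map d.toMonoidHom : Subgroup A) := by
    have h := card_mul_le_card_sup _ _ part1
    rwa [hcardmap] at h
  apply Subgroup.eq_top_of_le_card
  have hpos : 0 < Nat.card A := Nat.card_pos
  have h4 : Nat.card A * Nat.card A ≤ Nat.card A * (Nat.card C * Nat.card C) := by
    calc Nat.card A * Nat.card A
        ≤ (Nat.card f.ker * Nat.card C) * (Nat.card f.ker * Nat.card C) := Nat.mul_le_mul h1 h1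
      _ = (Nat.card f.ker * Nat.card f.ker) * (Nat.card C * Nat.card C) := by ring
      _ ≤ Nat.card A * (Nat.card C * Nat.card C) := Nat.mul_le_mul_right _ h2
  exact le_trans (Nat.le_of_mul_le_mul_left h4 hpos) h3

end Cfsg.Agent.S1899
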