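import Cfsg.Statements.S1900
import Mathlib
import Cfsg.Agent.S3203
import Cfsg.Agent.Lib_lead_Coprime3
import Cfsg.Agent.Lib_helper15_Gen5
import Cfsg.Agent.Lib_helper19_CP

set_option autoImplicit false
set_option linter.style.haveILetI false
open Cfsg
open scoped commutatorElement

universe u

namespace Cfsg.Agent.S1900

open Subgroup

section basic
variable {S : Type*} [Group S]

theorem centralizer_zpowers (x : S) :
    centralizer ((zpowers x : Subgroup S) : Set S) = centralizer {x} := by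
  apply le_antisymm
  · apply centralizer_le
    intro y hy
    rw [Set.mem_singleton_iff] at hy
    rw [hy]
    exact mem_zpowers x
  · intro g hg
    rw [mem_centralizer_singleton_iff] at hg
    rw [mem_centralizer_iff]
    rintro h ⟨k, rfl⟩
    have hc : Commute x g := hg.symm
    exact (hc.zpow_left k).eq

theorem zpowers_eq_of_prime [Finite S] {q : ℕ} (hq : q.Prime) {x a : S} (hx : x ^ q = 1)
    (ha : a ∈ zpowers x) (ha1 : a ≠ 1) : zpowers a = zpowers x := by
  haveI : Fact q.Prime := ⟨hq⟩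
  have hx1 : x ≠ 1 := by
    rintro rfl
    rw [zpowers_one_eq_bot, mem_bot] at ha
    exact ha1 ha
  have hox : orderOf x = q := orderOf_eq_prime hx hx1
  have haq : a ^ q = 1 := by
    obtain ⟨k, rfl⟩ := ha
    rw [← zpow_natCast, ← zpow_mul, mul_comm, zpow_mul, zpow_natCast, hx, one_zpow]
  have hoa : orderOf a = q := orderOf_eq_prime haq ha1
  apply Subgroup.eq_of_le_of_card_ge (zpowers_le.mpr ha)
  rw [Nat.card_zpowers, Nat.card_zpowers, hox, hoa]

end basic

/-- The inductive claim. -/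
def KeyProp (p q n : ℕ) : Prop :=
  ∀ (S : Type u) [Group S] [Finite S] (R Q : Subgroup S) [R.Normal] (x₁ x₂ : S),
    Nat.card R = n → IsPGroup p R → IsPGroup q Q → IsMulCommutative Q → ¬ IsCyclic Q →
    R ⊔ Q = ⊤ → x₁ ∈ Q → x₂ ∈ Q → x₁ ^ q = 1 → x₂ ^ q = 1 →
    x₁ ∉ zpowers x₂ → x₂ ∉ zpowers x₁ →
    (∀ y ∈ Q, y ∉ zpowers x₁ → y ∉ zpowers x₂ → R ⊓ centralizer {y} = ⊥) →
    ⁅R ⊓ centralizer {x₁}, R ⊓ centralizer {x₂}⁆ = ⊥

theorem step {p q : ℕ} [Fact p.Prime] [Fact q.Prime] (hpq : p ≠ q) (n : ℕ)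
    (ih : ∀ m < n, KeyProp.{u} p q m)
    (S : Type u) [Group S] [Finite S] (R Q : Subgroup S) [hRn : R.Normal] (x₁ x₂ : S)
    (hn : Nat.card R = n) (hR : IsPGroup p R) (hQ : IsPGroup q Q) (hQc : IsMulCommutative Q)
    (hQnc : ¬ IsCyclic Q)
    (hRQ : R ⊔ Q = ⊤) (hx₁ : x₁ ∈ Q) (hx₂ : x₂ ∈ Q) (hx₁q : x₁ ^ q = 1) (hx₂q : x₂ ^ q = 1)
    (h12 : x₁ ∉ zpowers x₂) (h21 : x₂ ∉ zpowers x₁)
    (hfpf : ∀ y ∈ Q, y ∉ zpowers x₁ → y ∉ zpowers x₂ → R ⊓ centralizer {y} = ⊥)
    (hZ₁ : R ⊓ centralizer (R : Set S) ⊓ centralizer {x₁} ≠ ⊥) :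
    ⁅R ⊓ centralizer {x₁}, R ⊓ centralizer {x₂}⁆ = ⊥ := by
  have hQcomm : ∀ u ∈ Q, ∀ v ∈ Q, u * v = v * u := by
    intro u hu v hv
    exact congrArg Subtype.val (hQc.is_comm.comm ⟨u, hu⟩ ⟨v, hv⟩)
  set Z₁ : Subgroup S := R ⊓ centralizer (R : Set S) ⊓ centralizer {x₁} with hZ₁def
  have hZ₁R : Z₁ ≤ R := inf_le_left.trans inf_le_left
  haveI hZn : Z₁.Normal := by
    have h1 : normalizer (Z₁ : Set S) = ⊤ := by
      rw [eq_top_iff, ← hRQ, sup_le_iff]
      constructor
      · intro r hr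
        apply Cfsg.Agent.S3203.mem_normalizer_of_forall
        intro z hz
        have hzc : z ∈ centralizer (R : Set S) := hz.1.2
        have := (mem_centralizer_iff.mp hzc) r hr
        have e : r * z * r⁻¹ = z := by rw [this]; group
        rw [e]; exact hz
      · intro y hy
        apply Cfsg.Agent.S3203.mem_normalizer_of_forall
        intro z hz
        have hzR : z ∈ R := hz.1.1
        have hzc : z ∈ centralizer (R : Set S) := hz.1.2
        have hzx : z * x₁ = x₁ * z := mem_centralizer_singleton_iff.mp hz.2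
        refine Subgroup.mem_inf.mpr ⟨Subgroup.mem_inf.mpr ⟨hRn.conj_mem z hzR y, ?_⟩, ?_⟩
        · rw [mem_centralizer_iff]
          intro h hh
          have hh' : y⁻¹ * h * y ∈ R := by
            have := hRn.conj_mem h hh y⁻¹
            simpa using this
          have := (mem_centralizer_iff.mp hzc) _ hh'
          calc h * (y * z * y⁻¹) = y * ((y⁻¹ * h * y) * z) * y⁻¹ := by group
            _ = y * (z * (y⁻¹ * h * y)) * y⁻¹ := by rw [this]
            _ = y * z * y⁻¹ * h := by group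
        · rw [mem_centralizer_singleton_iff]
          have hyx := hQcomm y hy x₁ hx₁
          calc y * z * y⁻¹ * x₁ = y * z * (y⁻¹ * x₁ * y) * y⁻¹ := by group
            _ = y * z * (y⁻¹ * (y * x₁)) * y⁻¹ := by rw [hyx, mul_assoc y⁻¹]
            _ = y * (z * x₁) * y⁻¹ := by group
            _ = y * (x₁ * z) * y⁻¹ := by rw [hzx]
            _ = (y * x₁) * z * y⁻¹ := by group
            _ = x₁ * (y * z * y⁻¹) := by rw [hyx]; group
    exact normalizer_eq_top_iff.mp h1
  have hcopQZ : Q ⊓ Z₁ = ⊥ :=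
    (IsPGroup.disjoint_of_ne q p hpq.symm Q Z₁ hQ (hR.to_le hZ₁R)).eq_bot
  let π := QuotientGroup.mk' Z₁
  have hπs : Function.Surjective π := QuotientGroup.mk'_surjective Z₁
  have hker : π.ker = Z₁ := QuotientGroup.ker_mk' Z₁
  have hinj : ∀ u ∈ Q, ∀ v ∈ Q, π u = π v → u = v := by
    intro u hu v hv h
    have h1 : u⁻¹ * v ∈ Z₁ := QuotientGroup.eq.mp h
    have h2 : u⁻¹ * v ∈ Q ⊓ Z₁ := ⟨Q.mul_mem (Q.inv_mem hu) hv, h1⟩
    rw [hcopQZ, mem_bot] at h2
    exact inv_mul_eq_one.mp h2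
  have hcard : Nat.card (R.map π) * Nat.card Z₁ = Nat.card R := by
    have := Cfsg.Agent.helper19.card_comap_of_surjective π hπs (R.map π)
    rw [Subgroup.comap_map_eq_self (by rw [hker]; exact hZ₁R), hker] at this
    exact this.symm
  have hlt : Nat.card (R.map π) < n := by
    have h1 : 1 < Nat.card Z₁ := (Subgroup.one_lt_card_iff_ne_bot _).mpr hZ₁
    have hpos : 0 < Nat.card (R.map π) := Nat.card_pos
    rw [← hn, ← hcard]
    nlinarith
  haveI : (R.map π).Normal := hRn.map π hπs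
  haveI := hQc
  have hquot : ⁅R.map π ⊓ centralizer {π x₁}, R.map π ⊓ centralizer {π x₂}⁆ = ⊥ := by
    apply ih _ hlt (S ⧸ Z₁) (R.map π) (Q.map π) (π x₁) (π x₂) rfl (hR.map π) (hQ.map π)
      inferInstance
    · -- not cyclic
      intro hc
      apply hQnc
      haveI := hc
      apply isCyclic_of_injective (π.subgroupMap Q)
      intro u v huv
      apply Subtype.ext
      apply hinj u.1 u.2 v.1 v.2
      exact congrArg Subtype.val huv
    · rw [← Subgroup.map_sup, hRQ, Subgroup.map_top_of_surjective π hπs]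
    · exact Subgroup.mem_map_of_mem π hx₁
    · exact Subgroup.mem_map_of_mem π hx₂
    · rw [← map_pow, hx₁q, map_one]
    · rw [← map_pow, hx₂q, map_one]
    · intro h
      obtain ⟨k, hk⟩ := mem_zpowers_iff.mp h
      rw [← map_zpow] at hk
      have := hinj _ (Q.zpow_mem hx₂ k) _ hx₁ hk
      exact h12 ⟨k, this⟩
    · intro h
      obtain ⟨k, hk⟩ := mem_zpowers_iff.mp h
      rw [← map_zpow] at hk
      have := hinj _ (Q.zpow_mem hx₁ k) _ hx₂ hk
      exact h21 ⟨k, this⟩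
    · rintro _ ⟨y, hy, rfl⟩ h1 h2
      have hy1 : y ∉ zpowers x₁ := by
        rintro ⟨k, rfl⟩
        apply h1
        exact ⟨k, by simp [map_zpow]⟩
      have hy2 : y ∉ zpowers x₂ := by
        rintro ⟨k, rfl⟩
        apply h2
        exact ⟨k, by simp [map_zpow]⟩
      have hbot := hfpf y hy hy1 hy2
      rw [eq_bot_iff]
      rintro _ ⟨⟨r, hr, rfl⟩, hc0⟩
      have hc : π r ∈ centralizer {π y} := hc0
      rw [mem_centralizer_singleton_iff] at hc
      rw [mem_bot]
      have hcomm : Commute (π y) (π r) := hc.symm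
      have hfix : ∀ a ∈ zpowers y, a * r * a⁻¹ * r⁻¹ ∈ Z₁ := by
        rintro _ ⟨k, rfl⟩
        apply (QuotientGroup.eq_one_iff _).mp
        have hk : Commute ((π y) ^ k) (π r) := hcomm.zpow_left k
        show π ((fun x => y ^ x) k * r * ((fun x => y ^ x) k)⁻¹ * r⁻¹) = 1
        simp only [map_mul, map_inv, map_zpow]
        rw [hk.eq]
        group
      have hcop : (Nat.card (zpowers y)).Coprime (Nat.card R) :=
        IsPGroup.coprime_card_of_ne q p hpq.symm (zpowers y) R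
          (hQ.to_le (zpowers_le.mpr hy)) hR
      haveI := hR.isNilpotent
      obtain ⟨c, hc, hcN⟩ := Cfsg.Agent.lead.coprime_fixed_coset (zpowers y) R
        (by rw [normalizer_eq_top]; exact le_top) hcop (Or.inr inferInstance) Z₁ hZ₁R
        (by rw [normalizer_eq_top]; exact le_top) (by rw [normalizer_eq_top]; exact le_top)
        r hr hfix
      have hc1 : c ∈ R ⊓ centralizer {y} := by
        refine ⟨hc.1, ?_⟩
        have := hc.2
        rw [centralizer_zpowers] at this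
        exact this
      rw [hbot, mem_bot] at hc1
      rw [hc1, mul_one] at hcN
      have : r ∈ Z₁ := by
        have := Z₁.inv_mem hcN
        simpa using this
      exact (QuotientGroup.eq_one_iff _).mpr this
  -- the commutator lies in Z₁
  have hcomm12 : ⁅R ⊓ centralizer {x₁}, R ⊓ centralizer {x₂}⁆ ≤ Z₁ := by
    rw [Subgroup.commutator_le]
    intro a ha b hb
    have hπa : π a ∈ R.map π ⊓ centralizer {π x₁} := by
      refine Subgroup.mem_inf.mpr ⟨Subgroup.mem_map_of_mem π ha.1, ?_⟩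
      rw [mem_centralizer_singleton_iff, ← map_mul, ← map_mul,
        mem_centralizer_singleton_iff.mp (show a ∈ centralizer {x₁} from ha.2)]
    have hπb : π b ∈ R.map π ⊓ centralizer {π x₂} := by
      refine Subgroup.mem_inf.mpr ⟨Subgroup.mem_map_of_mem π hb.1, ?_⟩
      rw [mem_centralizer_singleton_iff, ← map_mul, ← map_mul,
        mem_centralizer_singleton_iff.mp (show b ∈ centralizer {x₂} from hb.2)]
    have := Subgroup.commutator_mem_commutator hπa hπb
    rw [hquot, mem_bot, ← map_commutatorElement] at this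
    exact (QuotientGroup.eq_one_iff _).mp this
  -- three subgroups
  set R₁ : Subgroup S := R ⊓ centralizer {x₁} with hR₁
  set R₂ : Subgroup S := R ⊓ centralizer {x₂} with hR₂
  have h1 : ⁅⁅zpowers x₁, R₁⁆, R₂⁆ = ⊥ := by
    have : ⁅zpowers x₁, R₁⁆ = ⊥ := by
      rw [Subgroup.commutator_eq_bot_iff_le_centralizer, zpowers_le, mem_centralizer_iff]
      intro h hh
      exact mem_centralizer_singleton_iff.mp hh.2
    rw [this, Subgroup.commutator_bot_left]
  have h2 : ⁅⁅R₁, R₂⁆, zpowers x₁⁆ = ⊥ := by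
    rw [Subgroup.commutator_eq_bot_iff_le_centralizer, centralizer_zpowers]
    exact hcomm12.trans inf_le_right
  have h3 := Subgroup.commutator_commutator_eq_bot_of_rotate h1 h2
  have hR₂fix : R₂ ⊓ centralizer ((zpowers x₁ : Subgroup S) : Set S) = ⊥ := by
    rw [centralizer_zpowers, eq_bot_iff]
    have hy : x₁ * x₂ ∈ Q := Q.mul_mem hx₁ hx₂
    have hy1 : x₁ * x₂ ∉ zpowers x₁ := by
      intro h
      apply h21
      have := (zpowers x₁).mul_mem ((zpowers x₁).inv_mem (mem_zpowers x₁)) h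
      simpa using this
    have hy2 : x₁ * x₂ ∉ zpowers x₂ := by
      intro h
      apply h12
      have := (zpowers x₂).mul_mem h ((zpowers x₂).inv_mem (mem_zpowers x₂))
      simpa using this
    rw [← hfpf _ hy hy1 hy2]
    intro g hg
    have hg1 : g ∈ centralizer {x₁} := hg.2
    have hg2 : g ∈ centralizer {x₂} := hg.1.2
    have hgR : g ∈ R := hg.1.1
    refine Subgroup.mem_inf.mpr ⟨hgR, ?_⟩
    rw [mem_centralizer_singleton_iff] at hg1 hg2 ⊢
    rw [← mul_assoc, hg1, mul_assoc, hg2, mul_assoc]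
  have hx₁norm : zpowers x₁ ≤ normalizer (R₂ : Set S) := by
    rw [zpowers_le]
    apply Cfsg.Agent.S3203.mem_normalizer_of_forall
    intro g hg
    refine Subgroup.mem_inf.mpr ⟨hRn.conj_mem g hg.1 x₁, ?_⟩
    rw [mem_centralizer_singleton_iff]
    have hgx : g * x₂ = x₂ * g :=
      mem_centralizer_singleton_iff.mp (show g ∈ centralizer {x₂} from hg.2)
    have hxx := hQcomm x₁ hx₁ x₂ hx₂
    calc x₁ * g * x₁⁻¹ * x₂ = x₁ * g * (x₁⁻¹ * x₂ * x₁) * x₁⁻¹ := by group
      _ = x₁ * g * (x₁⁻¹ * (x₁ * x₂)) * x₁⁻¹ := by rw [hxx, mul_assoc x₁⁻¹]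
      _ = x₁ * (g * x₂) * x₁⁻¹ := by group
      _ = x₁ * (x₂ * g) * x₁⁻¹ := by rw [hgx]
      _ = (x₁ * x₂) * g * x₁⁻¹ := by group
      _ = x₂ * (x₁ * g * x₁⁻¹) := by rw [hxx]; group
  have hR₂p : IsPGroup p R₂ := hR.to_le inf_le_left
  have hcop2 : (Nat.card (zpowers x₁)).Coprime (Nat.card R₂) :=
    IsPGroup.coprime_card_of_ne q p hpq.symm (zpowers x₁) R₂
      (hQ.to_le (zpowers_le.mpr hx₁)) hR₂p
  haveI := hR₂p.isNilpotent
  have h4 := Cfsg.Agent.lead.coprime_commutator_sup_fixed (zpowers x₁) R₂ hx₁norm hcop2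
    (Or.inr inferInstance)
  rw [hR₂fix, sup_bot_eq] at h4
  rw [h4] at h3
  rw [Subgroup.commutator_comm]
  exact h3

theorem key {p q : ℕ} [Fact p.Prime] [Fact q.Prime] (hpq : p ≠ q) :
    ∀ n : ℕ, KeyProp.{u} p q n := by
  intro n
  induction n using Nat.strong_induction_on with
  | _ n ih =>
    intro S _ _ R Q hRn x₁ x₂ hn hR hQ hQc hQnc hRQ hx₁ hx₂ hx₁q hx₂q h12 h21 hfpf
    have hq : q.Prime := Fact.out
    by_cases hRbot : R = ⊥
    · rw [hRbot, bot_inf_eq, Subgroup.commutator_bot_left]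
    set Z : Subgroup S := R ⊓ centralizer (R : Set S) with hZdef
    have hZ : Z ≠ ⊥ := by
      haveI : Nontrivial ↥R := (Subgroup.nontrivial_iff_ne_bot R).mpr hRbot
      haveI := hR.center_nontrivial
      obtain ⟨z, hz⟩ := exists_ne (1 : ↥(center ↥R))
      intro hbot
      apply hz
      have hmem : ((z : ↥R) : S) ∈ Z := by
        refine Subgroup.mem_inf.mpr ⟨(z : ↥R).2, ?_⟩
        rw [mem_centralizer_iff]
        intro h hh
        have := (mem_center_iff.mp z.2) ⟨h, hh⟩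
        exact congrArg Subtype.val this
      rw [hbot, mem_bot] at hmem
      apply Subtype.ext
      apply Subtype.ext
      exact hmem
    haveI := hQc
    have hcop : (Nat.card Q).Coprime (Nat.card Z) :=
      IsPGroup.coprime_card_of_ne q p hpq.symm Q Z hQ (hR.to_le inf_le_left)
    have hgen := Cfsg.Agent.helper15.iSup_centralizer_eq_of_not_isCyclic Q Z hQnc
      (by rw [normalizer_eq_top]; exact le_top) hcop
    obtain ⟨a, haQ, ha1, haZ⟩ : ∃ a ∈ Q, a ≠ 1 ∧ Z ⊓ centralizer {a} ≠ ⊥ := by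
      by_contra hcon
      push Not at hcon
      apply hZ
      rw [← hgen, eq_bot_iff]
      apply iSup₂_le
      intro a ha
      rw [hcon a ha.1 ha.2]
    by_cases ha₁ : a ∈ zpowers x₁
    · have h1 : Z ⊓ centralizer {x₁} ≠ ⊥ := by
        rw [← centralizer_zpowers x₁, ← zpowers_eq_of_prime hq hx₁q ha₁ ha1, centralizer_zpowers a]
        exact haZ
      exact step hpq n ih S R Q x₁ x₂ hn hR hQ hQc hQnc hRQ hx₁ hx₂ hx₁q hx₂q h12 h21 hfpf h1
    · by_cases ha₂ : a ∈ zpowers x₂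
      · have h1 : Z ⊓ centralizer {x₂} ≠ ⊥ := by
          rw [← centralizer_zpowers x₂, ← zpowers_eq_of_prime hq hx₂q ha₂ ha1,
            centralizer_zpowers a]
          exact haZ
        have := step hpq n ih S R Q x₂ x₁ hn hR hQ hQc hQnc hRQ hx₂ hx₁ hx₂q hx₁q h21 h12
          (fun y hy h2 h1 => hfpf y hy h1 h2) h1
        rw [Subgroup.commutator_comm]
        exact this
      · exfalso
        apply haZ
        rw [eq_bot_iff, ← hfpf a haQ ha₁ ha₂]
        exact inf_le_inf_right _ inf_le_left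

/-- Let S = PQ be a finite group with P a normal Sylow p-subgroup and Q elementary abelian of order q², q a prime different from p. If exactly two subgroups X₁, X₂ of order q in Q have a nontrivial centralizer in P, then P is the internal direct product of C_P(X₁) and C_P(X₂): they commute elementwise, meet trivially and generate P. -/
theorem result {S : Type*} [Group S] [Finite S] {p q : ℕ} [Fact p.Prime] [Fact q.Prime] (hpq : p ≠ q)
    (P : Sylow p S) [(P : Subgroup S).Normal] (Q : Subgroup S) (hQ : Cfsg.IsElementaryAbelian q Q) (hQc : Nat.card Q = q ^ 2)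
    (hS : (P : Subgroup S) ⊔ Q = ⊤)
    (X₁ X₂ : Subgroup S) (h₁ : X₁ ≤ Q) (h₂ : X₂ ≤ Q) (h₁₂ : X₁ ≠ X₂) (hc₁ : Nat.card X₁ = q) (hc₂ : Nat.card X₂ = q)
    (hf₁ : (P : Subgroup S) ⊓ Subgroup.centralizer (X₁ : Set S) ≠ ⊥)
    (hf₂ : (P : Subgroup S) ⊓ Subgroup.centralizer (X₂ : Set S) ≠ ⊥)
    (honly : ∀ X : Subgroup S, X ≤ Q → Nat.card X = q →
      (P : Subgroup S) ⊓ Subgroup.centralizer (X : Set S) ≠ ⊥ → X = X₁ ∨ X = X₂) :
    ⁅(P : Subgroup S) ⊓ Subgroup.centralizer (X₁ : Set S), (P : Subgroup S) ⊓ Subgroup.centralizer (X₂ : Set S)⁆ = ⊥ ∧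
      ((P : Subgroup S) ⊓ Subgroup.centralizer (X₁ : Set S)) ⊓ ((P : Subgroup S) ⊓ Subgroup.centralizer (X₂ : Set S)) = ⊥ ∧
      ((P : Subgroup S) ⊓ Subgroup.centralizer (X₁ : Set S)) ⊔ ((P : Subgroup S) ⊓ Subgroup.centralizer (X₂ : Set S)) = P := by
  have hq : q.Prime := Fact.out
  -- generators
  haveI : IsCyclic ↥X₁ := isCyclic_of_prime_card hc₁
  haveI : IsCyclic ↥X₂ := isCyclic_of_prime_card hc₂
  obtain ⟨⟨x₁, hx₁X⟩, hgen₁⟩ := IsCyclic.exists_generator (α := ↥X₁)
  obtain ⟨⟨x₂, hx₂X⟩, hgen₂⟩ := IsCyclic.exists_generator (α := ↥X₂)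
  have hX₁ : X₁ = zpowers x₁ := by
    apply le_antisymm
    · intro y hy
      obtain ⟨k, hk⟩ := mem_zpowers_iff.mp (hgen₁ ⟨y, hy⟩)
      exact ⟨k, by simpa using congrArg Subtype.val hk⟩
    · exact zpowers_le.mpr hx₁X
  have hX₂ : X₂ = zpowers x₂ := by
    apply le_antisymm
    · intro y hy
      obtain ⟨k, hk⟩ := mem_zpowers_iff.mp (hgen₂ ⟨y, hy⟩)
      exact ⟨k, by simpa using congrArg Subtype.val hk⟩
    · exact zpowers_le.mpr hx₂X
  have hx₁Q : x₁ ∈ Q := h₁ hx₁X
  have hx₂Q : x₂ ∈ Q := h₂ hx₂X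
  have hx₁q : x₁ ^ q = 1 := hQ.2 x₁ hx₁Q
  have hx₂q : x₂ ^ q = 1 := hQ.2 x₂ hx₂Q
  have hx₁1 : x₁ ≠ 1 := by
    rintro rfl
    rw [hX₁, zpowers_one_eq_bot, Subgroup.card_bot] at hc₁
    exact hq.one_lt.ne hc₁
  have hx₂1 : x₂ ≠ 1 := by
    rintro rfl
    rw [hX₂, zpowers_one_eq_bot, Subgroup.card_bot] at hc₂
    exact hq.one_lt.ne hc₂
  have h12 : x₁ ∉ zpowers x₂ := by
    intro h
    apply h₁₂
    rw [hX₁, hX₂]
    exact zpowers_eq_of_prime hq hx₂q h hx₁1
  have h21 : x₂ ∉ zpowers x₁ := by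
    intro h
    apply h₁₂
    rw [hX₁, hX₂]
    exact (zpowers_eq_of_prime hq hx₁q h hx₂1).symm
  have hQp : IsPGroup q Q := IsPGroup.of_card hQc
  have hQnc : ¬ IsCyclic Q := by
    intro hc
    haveI := hc
    obtain ⟨g, hg⟩ := IsCyclic.exists_generator (α := ↥Q)
    have h1 : orderOf g = Nat.card Q := orderOf_eq_card_of_forall_mem_zpowers hg
    have h2 : g ^ q = 1 := Subtype.ext (by simpa using hQ.2 g.1 g.2)
    have h3 : orderOf g ∣ q := orderOf_dvd_of_pow_eq_one h2
    rw [h1, hQc] at h3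
    have := Nat.le_of_dvd hq.pos h3
    have h4 : q < q ^ 2 := by
      rw [sq]; exact lt_mul_of_one_lt_left hq.pos hq.one_lt
    omega
  have hfpf : ∀ y ∈ Q, y ∉ zpowers x₁ → y ∉ zpowers x₂ →
      (P : Subgroup S) ⊓ centralizer {y} = ⊥ := by
    intro y hy hy1 hy2
    by_contra hne
    have hy0 : y ≠ 1 := by
      rintro rfl
      exact hy1 (one_mem _)
    have hyq : y ^ q = 1 := hQ.2 y hy
    have hcard : Nat.card (zpowers y) = q := by
      rw [Nat.card_zpowers]; exact orderOf_eq_prime hyq hy0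
    rw [← centralizer_zpowers] at hne
    rcases honly (zpowers y) (zpowers_le.mpr hy) hcard hne with h | h
    · apply hy1; rw [← hX₁, ← h]; exact mem_zpowers y
    · apply hy2; rw [← hX₂, ← h]; exact mem_zpowers y
  have hkey := key.{_} hpq (Nat.card (P : Subgroup S)) S (P : Subgroup S) Q x₁ x₂ rfl P.isPGroup'
    hQp hQ.1 hQnc hS hx₁Q hx₂Q hx₁q hx₂q h12 h21 hfpf
  rw [hX₁, hX₂, centralizer_zpowers, centralizer_zpowers]
  refine ⟨hkey, ?_, ?_⟩
  · -- trivial intersection via x₁ * x₂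
    rw [eq_bot_iff]
    have hy : x₁ * x₂ ∈ Q := Q.mul_mem hx₁Q hx₂Q
    have hy1 : x₁ * x₂ ∉ zpowers x₁ := by
      intro h
      apply h21
      have := (zpowers x₁).mul_mem ((zpowers x₁).inv_mem (mem_zpowers x₁)) h
      simpa using this
    have hy2 : x₁ * x₂ ∉ zpowers x₂ := by
      intro h
      apply h12
      have := (zpowers x₂).mul_mem h ((zpowers x₂).inv_mem (mem_zpowers x₂))
      simpa using this
    rw [← hfpf _ hy hy1 hy2]
    intro g hg
    have hg1 : g ∈ centralizer {x₁} := hg.1.2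
    have hg2 : g ∈ centralizer {x₂} := hg.2.2
    have hgR : g ∈ (P : Subgroup S) := hg.1.1
    refine Subgroup.mem_inf.mpr ⟨hgR, ?_⟩
    rw [mem_centralizer_singleton_iff] at hg1 hg2 ⊢
    rw [← mul_assoc, hg1, mul_assoc, hg2, mul_assoc]
  · apply le_antisymm
    · exact sup_le inf_le_left inf_le_left
    · haveI := hQ.1
      have hcop : (Nat.card Q).Coprime (Nat.card (P : Subgroup S)) :=
        IsPGroup.coprime_card_of_ne q p hpq.symm Q (P : Subgroup S) hQp P.isPGroup'
      have hgen := Cfsg.Agent.helper15.iSup_centralizer_eq_of_not_isCyclic Q (P : Subgroup S) hQnc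
        (by rw [normalizer_eq_top]; exact le_top) hcop
      conv_lhs => rw [← hgen]
      apply iSup₂_le
      intro a ha
      by_cases ha₁ : a ∈ zpowers x₁
      · apply le_trans _ le_sup_left
        rw [← centralizer_zpowers x₁, ← zpowers_eq_of_prime hq hx₁q ha₁ ha.2, centralizer_zpowers a]
      · by_cases ha₂ : a ∈ zpowers x₂
        · apply le_trans _ le_sup_right
          rw [← centralizer_zpowers x₂, ← zpowers_eq_of_prime hq hx₂q ha₂ ha.2,
            centralizer_zpowers a]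
        · rw [hfpf a ha.1 ha₁ ha₂]
          exact bot_le

end Cfsg.Agent.S1900
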