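import Cfsg.Statements.S1901
import Mathlib
import Cfsg.Agent.Lib_helper23_PSolv
import Cfsg.Agent.Lib_helper7_Coprime

set_option autoImplicit false
set_option linter.style.haveILetI false
open Cfsg
open scoped commutatorElement

universe u

namespace Cfsg.Agent.S1901

open Subgroup

theorem exists_normal_of_psreach {G : Type*} [Group G] {p : ℕ} {L : Subgroup G}
    (h : Cfsg.Agent.helper23.PSReach p L) (hL : L ≠ ⊥) :
    ∃ N : Subgroup G, N.Normal ∧ N ≠ ⊥ ∧
      ((∃ m : ℕ, Nat.card N = p ^ m) ∨ (Nat.card N).Coprime p) := by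
  induction h with
  | bot => exact absurd rfl hL
  | step K L hK hKL hn hfac ih =>
    by_cases hKb : K = ⊥
    · refine ⟨L, hn, hL, ?_⟩
      rw [hKb, relIndex_bot_left] at hfac
      exact hfac
    · exact ih hKb

/-- A `p`-subgroup of `M` lies in a normal subgroup `C` of `M` whose index in `M` is prime to `p`. -/
theorem le_of_pgroup_of_relIndex {G : Type*} [Group G] {p : ℕ} [hp : Fact p.Prime]
    {C M T : Subgroup G} [hCn : (C.subgroupOf M).Normal] (hTM : T ≤ M) (hT : IsPGroup p T)
    (hidx : ¬ p ∣ C.relIndex M) : T ≤ C := by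
  intro t ht
  obtain ⟨k, hk⟩ := hT ⟨t, ht⟩
  have hk' : t ^ (p ^ k) = 1 := by simpa using congrArg Subtype.val hk
  have h1 : (⟨t, hTM ht⟩ : ↥M) ^ (p ^ k) = 1 := Subtype.ext (by simpa using hk')
  have hcop : (p ^ k).Coprime (C.subgroupOf M).index := by
    apply Nat.Coprime.pow_left
    exact (Nat.Prime.coprime_iff_not_dvd hp.out).mpr hidx
  have := Cfsg.Agent.helper23.mem_of_pow_eq_one_of_coprime_index h1 hcop
  exact mem_subgroupOf.mp this

def Claim (p n : ℕ) : Prop :=
  ∀ (G : Type u) [Group G] [Finite G], Nat.card G = n → Cfsg.IsPSolvable p G →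
    ∀ (P : Sylow p G) (Q T : Subgroup G), ¬ p ∣ Nat.card Q →
      Q ≤ normalizer ((P : Subgroup G) : Set G) → IsPGroup p T → T ≤ normalizer (Q : Set G) →
      T ≤ centralizer (Q : Set G)

theorem claim {p : ℕ} [hp : Fact p.Prime] : ∀ n : ℕ, Claim.{u} p n := by
  intro n
  induction n using Nat.strong_induction_on with
  | _ n ih =>
    intro G _ _ hn hG P Q T hQ hQP hT hTQ
    by_contra hnot
    set Q₀ : Subgroup G := ⁅Q, T⁆ with hQ₀
    have hQ₀Q : Q₀ ≤ Q := Cfsg.Agent.helper7.commutator_le_of_normalizer hTQ
    have hQ₀ne : Q₀ ≠ ⊥ := by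
      intro h
      apply hnot
      rw [hQ₀, commutator_eq_bot_iff_le_centralizer] at h
      exact le_centralizer_iff.mp h
    have hQ₀card : ¬ p ∣ Nat.card Q₀ := fun h => hQ (h.trans (card_dvd_of_le hQ₀Q))
    have hGne : (⊤ : Subgroup G) ≠ ⊥ := by
      intro h
      apply hQ₀ne
      rw [eq_bot_iff, ← h]
      exact le_top
    obtain ⟨N, hNn, hNne, hNtype⟩ :=
      exists_normal_of_psreach (Cfsg.Agent.helper23.psreach_of_isPSolvable hG) hGne
    haveI := hNn
    by_cases hle : Q₀ ≤ N
    · have hNcop : (Nat.card N).Coprime p := by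
        rcases hNtype with ⟨m, hm⟩ | h
        · exfalso
          have h1 : Nat.card Q₀ ∣ p ^ m := hm ▸ card_dvd_of_le hle
          obtain ⟨i, -, hi⟩ := (Nat.dvd_prime_pow hp.out).mp h1
          cases i with
          | zero =>
            rw [pow_zero] at hi
            exact hQ₀ne (card_eq_one.mp hi)
          | succ i =>
            apply hQ₀card
            rw [hi, pow_succ]
            exact dvd_mul_left _ _
        · exact h
      have hdisj : (P : Subgroup G) ⊓ N = ⊥ := by
        apply inf_eq_bot_of_coprime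
        obtain ⟨k, hk⟩ := IsPGroup.iff_card.mp P.isPGroup'
        rw [hk]
        exact Nat.Coprime.pow_left k hNcop.symm
      have hPC : (P : Subgroup G) ≤ centralizer (Q₀ : Set G) := by
        intro b hb
        rw [mem_centralizer_iff]
        intro a ha
        have haQ : a ∈ normalizer ((P : Subgroup G) : Set G) := hQP (hQ₀Q ha)
        have h1 : a * b⁻¹ * a⁻¹ ∈ (P : Subgroup G) :=
          (mem_normalizer_iff.mp haQ b⁻¹).mp (inv_mem hb)
        have h2 : b * a * b⁻¹ * a⁻¹ ∈ (P : Subgroup G) := by
          have : b * a * b⁻¹ * a⁻¹ = b * (a * b⁻¹ * a⁻¹) := by group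
          rw [this]; exact mul_mem hb h1
        have h3 : b * a * b⁻¹ * a⁻¹ ∈ N := by
          have := hNn.conj_mem a (hle ha) b
          exact N.mul_mem this (N.inv_mem (hle ha))
        have h4 : b * a * b⁻¹ * a⁻¹ ∈ (P : Subgroup G) ⊓ N := ⟨h2, h3⟩
        rw [hdisj, mem_bot] at h4
        have h5 : b * a = a * b := by
          have : b * a = (b * a * b⁻¹ * a⁻¹) * (a * b) := by group
          rw [this, h4, one_mul]
        exact h5.symm
      have hTQ₀ : T ≤ normalizer (Q₀ : Set G) := by
        intro t ht
        exact Cfsg.Agent.helper7.mem_normalizer_commutator (hTQ ht) (le_normalizer ht)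
      have hidx : ¬ p ∣ (centralizer (Q₀ : Set G)).relIndex (normalizer (Q₀ : Set G)) := by
        intro h
        have hPM : (P : Subgroup G) ≤ normalizer (Q₀ : Set G) :=
          hPC.trans (centralizer_le_normalizer _)
        have h1 : (centralizer (Q₀ : Set G)).relIndex (normalizer (Q₀ : Set G)) ∣
            (P : Subgroup G).relIndex (normalizer (Q₀ : Set G)) :=
          relIndex_dvd_of_le_left _ hPC
        have h2 : (P : Subgroup G).relIndex (normalizer (Q₀ : Set G)) ∣ (P : Subgroup G).index :=
          Dvd.intro _ (relIndex_mul_index hPM)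
        exact P.not_dvd_index (h.trans (h1.trans h2))
      have hTC : T ≤ centralizer (Q₀ : Set G) := le_of_pgroup_of_relIndex hTQ₀ hT hidx
      have h6 : ⁅Q₀, T⁆ = ⊥ := by
        rw [commutator_comm, commutator_eq_bot_iff_le_centralizer]
        exact hTC
      have h7 := Cfsg.Agent.helper7.commutator_commutator_eq hT hTQ hQ
      rw [← hQ₀, h6] at h7
      exact hQ₀ne h7.symm
    · let π := QuotientGroup.mk' N
      have hπs : Function.Surjective π := QuotientGroup.mk'_surjective N
      have hlt : Nat.card (G ⧸ N) < n := by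
        rw [← hn, Subgroup.card_eq_card_quotient_mul_card_subgroup N]
        have h1 : 1 < Nat.card N := (one_lt_card_iff_ne_bot N).mpr hNne
        have h2 : 0 < Nat.card (G ⧸ N) := Nat.card_pos
        nlinarith
      have hquot : T.map π ≤ centralizer ((Q.map π : Subgroup (G ⧸ N)) : Set (G ⧸ N)) := by
        apply ih _ hlt (G ⧸ N) rfl
          (Cfsg.Agent.helper23.isPSolvable_of_surjective hp.out π hπs hG)
          (Sylow.mapSurjective hπs P) (Q.map π) (T.map π)
        · exact fun h => hQ (h.trans (card_map_dvd Q π))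
        · rw [Sylow.coe_mapSurjective]
          exact (map_mono hQP).trans (le_normalizer_map π)
        · exact hT.map π
        · exact (map_mono hTQ).trans (le_normalizer_map π)
      apply hle
      have h1 : ⁅Q.map π, T.map π⁆ = ⊥ := by
        rw [commutator_comm, commutator_eq_bot_iff_le_centralizer]
        exact hquot
      rw [← map_commutator] at h1
      intro x hx
      have : π x ∈ (⁅Q, T⁆).map π := mem_map_of_mem π hx
      rw [h1, mem_bot] at this
      exact (QuotientGroup.eq_one_iff x).mp this

/-- Let G be a finite p-solvable group and Q a subgroup of order prime to p such that p divides the index of C_G(Q) in N_G(Q). Then Q normalizes no Sylow p-subgroup of G. -/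
theorem result {G : Type*} [Group G] [Finite G] {p : ℕ} [Fact p.Prime]
    (hG : Cfsg.IsPSolvable p G) (Q : Subgroup G) (hQ : ¬ p ∣ Nat.card Q)
    (hA : p ∣ (Subgroup.centralizer (Q : Set G)).relIndex (Subgroup.normalizer (Q : Set G)))
    (P : Sylow p G) : ¬ Q ≤ Subgroup.normalizer ((P : Subgroup G) : Set G) := by
  intro hQP
  obtain ⟨T'⟩ : Nonempty (Sylow p ↥(normalizer (Q : Set G))) := inferInstance
  have hT : IsPGroup p ((T' : Subgroup ↥(normalizer (Q : Set G))).map (normalizer (Q : Set G)).subtype) :=
    T'.isPGroup'.map _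
  have hTM : (T' : Subgroup ↥(normalizer (Q : Set G))).map (normalizer (Q : Set G)).subtype ≤
      normalizer (Q : Set G) := map_subtype_le _
  have hTC := claim (Nat.card G) G rfl hG P Q _ hQ hQP hT hTM
  have h1 : (T' : Subgroup ↥(normalizer (Q : Set G))) ≤
      (centralizer (Q : Set G)).subgroupOf (normalizer (Q : Set G)) := by
    intro x hx
    rw [mem_subgroupOf]
    exact hTC (mem_map_of_mem _ hx)
  have h2 := index_dvd_of_le h1
  exact T'.not_dvd_index (hA.trans h2)

end Cfsg.Agent.S1901
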