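import Mathlib
import Cfsg.Statements.S1902
import Cfsg.Agent.Lib_helper7_PSolv
import Cfsg.Agent.Lib_helper7_Signalizer
import Cfsg.Agent.Lib_helper7_Gen
import Cfsg.Agent.S1302

set_option autoImplicit false
open Cfsg

namespace Cfsg.Agent.S1902

open Cfsg.Agent.helper7 in
/-- Let p be an odd prime, G a finite p-solvable group, and B an elementary abelian subgroup of order p² such that B is the subgroup generated by the elements of order p of some Sylow p-subgroup of C_G(b₀), for some nontrivial b₀ ∈ B. Then every B-invariant subgroup of G of order prime to p lies in O_{p'}(G). -/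
theorem result {G : Type*} [Group G] [Finite G] {p : ℕ} [Fact p.Prime] (hp : p ≠ 2)
    (hG : Cfsg.IsPSolvable p G) (B : Subgroup G) (hB : Cfsg.IsElementaryAbelian p B) (hBc : Nat.card B = p ^ 2)
    (b₀ : G) (hb₀ : b₀ ∈ B) (hb₁ : b₀ ≠ 1) (P : Sylow p ↥(Subgroup.centralizer ({b₀} : Set G)))
    (hBP : B = Subgroup.closure {x : G | x ∈ ((P : Subgroup ↥(Subgroup.centralizer ({b₀} : Set G))).map
      (Subgroup.centralizer ({b₀} : Set G)).subtype : Subgroup G) ∧ orderOf x = p})
    (Q : Subgroup G) (hQ : ¬ p ∣ Nat.card Q) (hinv : ∀ b ∈ B, ∀ x ∈ Q, b * x * b⁻¹ ∈ Q) :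
    Q ≤ Cfsg.pPrimeCore p G := by
  have hpp : p.Prime := Fact.out
  obtain ⟨hBcomm, hBexp⟩ := hB
  have hBp : IsPGroup p ↥B := by
    intro b
    exact ⟨1, by rw [pow_one]; exact Subtype.ext (hBexp b.1 b.2)⟩
  have hX : Cfsg.IsPConstrained p G := isPConstrained_of_isPSolvable hpp hG
  -- B ≤ C_G(b₀)
  have hBC : B ≤ Subgroup.centralizer ({b₀} : Set G) := by
    intro b hb
    rw [Subgroup.mem_centralizer_iff]
    intro y hy
    rw [Set.mem_singleton_iff] at hy
    subst hy
    exact comm_of_isMulCommutative hBcomm hb₀ hb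
  -- order p elements of P lie in B
  have hPB : ∀ x : G, x ∈ ((P : Subgroup ↥(Subgroup.centralizer ({b₀} : Set G))).map
      (Subgroup.centralizer ({b₀} : Set G)).subtype : Subgroup G) → orderOf x = p → x ∈ B := by
    intro x hx ho
    rw [hBP]
    exact Subgroup.subset_closure ⟨hx, ho⟩
  apply Cfsg.Agent.S1302.result p hp hX B hBcomm hBp ?_ Q hQ (le_normalizer_of_conj_mem hinv)
  intro x hxC hxo
  -- the p-group T = B ⊔ ⟨x⟩ inside C_G(b₀)
  have hxcomm : ∀ b ∈ B, b * x = x * b := by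
    intro b hb
    rw [Subgroup.mem_centralizer_iff] at hxC
    exact hxC b hb
  have hxp : IsPGroup p ↥(Subgroup.zpowers x) := by
    apply IsPGroup.of_card (n := 1)
    rw [Nat.card_zpowers, hxo, pow_one]
  have hBx : B ≤ Subgroup.normalizer ((Subgroup.zpowers x : Subgroup G) : Set G) := by
    intro b hb
    have hbc : b ∈ Subgroup.centralizer ((Subgroup.zpowers x : Subgroup G) : Set G) := by
      rw [Subgroup.mem_centralizer_iff]
      intro y hy
      obtain ⟨k, rfl⟩ := Subgroup.mem_zpowers_iff.mp hy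
      exact ((Commute.zpow_left (hxcomm b hb).symm k) : Commute (x ^ k) b).eq
    exact Subgroup.centralizer_le_normalizer _ hbc
  have hTp : IsPGroup p ↥(B ⊔ Subgroup.zpowers x) := hBp.to_sup_of_normal_right' hxp hBx
  have hxC0 : x ∈ Subgroup.centralizer ({b₀} : Set G) := by
    rw [Subgroup.mem_centralizer_iff]
    intro y hy
    rw [Set.mem_singleton_iff] at hy
    subst hy
    exact hxcomm y hb₀
  have hTC : B ⊔ Subgroup.zpowers x ≤ Subgroup.centralizer ({b₀} : Set G) :=
    sup_le hBC ((Subgroup.zpowers_le).2 hxC0)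
  have hT'p : IsPGroup p ↥((B ⊔ Subgroup.zpowers x).subgroupOf (Subgroup.centralizer ({b₀} : Set G))) :=
    hTp.comap_subtype
  obtain ⟨P', hP'⟩ := hT'p.exists_le_sylow
  obtain ⟨c, hc⟩ := MulAction.exists_smul_eq ↥(Subgroup.centralizer ({b₀} : Set G)) P' P
  -- conjugation by c sends T into P
  have hconj : ∀ t ∈ B ⊔ Subgroup.zpowers x, (c : G) * t * (c : G)⁻¹ ∈
      ((P : Subgroup ↥(Subgroup.centralizer ({b₀} : Set G))).map
        (Subgroup.centralizer ({b₀} : Set G)).subtype : Subgroup G) := by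
    intro t ht
    have htC : t ∈ Subgroup.centralizer ({b₀} : Set G) := hTC ht
    have h1 : (⟨t, htC⟩ : ↥(Subgroup.centralizer ({b₀} : Set G))) ∈ (P' : Subgroup _) :=
      hP' (Subgroup.mem_subgroupOf.mpr ht)
    have h2 : c * ⟨t, htC⟩ * c⁻¹ ∈ (P : Subgroup ↥(Subgroup.centralizer ({b₀} : Set G))) := by
      rw [← hc, Sylow.coe_subgroup_smul]
      have := Subgroup.smul_mem_pointwise_smul _ (MulAut.conj c) _ h1
      simpa [MulAut.smul_def] using this
    exact ⟨_, h2, rfl⟩
  have hord : ∀ t : G, orderOf ((c : G) * t * (c : G)⁻¹) = orderOf t := by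
    intro t
    have hsc : SemiconjBy (c : G) t ((c : G) * t * (c : G)⁻¹) := by
      unfold SemiconjBy; group
    exact (SemiconjBy.orderOf_eq _ hsc).symm
  have hcB : cj (c : G) B ≤ B := by
    rintro _ ⟨b, hb, rfl⟩
    show (c : G) * b * (c : G)⁻¹ ∈ B
    by_cases hb1 : b = 1
    · subst hb1; simp
    · have hbo : orderOf b = p := orderOf_eq_prime (hBexp b hb) hb1
      exact hPB _ (hconj b (Subgroup.mem_sup_left hb)) (by rw [hord, hbo])
  have hcB' : cj (c : G) B = B := by
    apply Subgroup.eq_of_le_of_card_ge hcB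
    rw [card_cj]
  have hxB : (c : G) * x * (c : G)⁻¹ ∈ B :=
    hPB _ (hconj x (Subgroup.mem_sup_right (Subgroup.mem_zpowers x))) (by rw [hord, hxo])
  rw [← hcB', mem_cj] at hxB
  have e : (c : G)⁻¹ * ((c : G) * x * (c : G)⁻¹) * (c : G) = x := by group
  rwa [e] at hxB

end Cfsg.Agent.S1902
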