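import Cfsg.Statements.S1905
import Mathlib

set_option autoImplicit false
set_option linter.unusedVariables false
open Cfsg

namespace Cfsg.Agent.S1905

open scoped Pointwise

section aux
variable {S : Type*} [Group S]

theorem inv_conj_pow {x r : S} (hx : x * x = 1) (h : x * r * x = r⁻¹) (k : ℕ) :
    x * r ^ k * x = (r ^ k)⁻¹ := by
  have hx' : x⁻¹ = x := inv_eq_of_mul_eq_one_right hx
  have h2 : x * r ^ k * x⁻¹ = (x * r * x⁻¹) ^ k := conj_pow.symm
  rw [hx'] at h2
  rw [h2, h, inv_pow]

theorem orderOf_conj' (a x : S) : orderOf (a * x * a⁻¹) = orderOf x := by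
  have := orderOf_injective (MulAut.conj a).toMonoidHom (MulAut.conj a).injective x
  simpa [MulAut.conj_apply] using this

theorem sq_of_orderOf_two {x : S} (hx : orderOf x = 2) : x * x = 1 := by
  have := pow_orderOf_eq_one x
  rw [hx, pow_two] at this
  exact this

/-- Two involutions whose product has odd order are conjugate by an involution. -/
theorem exists_conj_of_odd {i u : S} (hi : i * i = 1) (hu : u * u = 1) (hodd : Odd (orderOf (i * u))) :
    ∃ w : S, w * w = 1 ∧ w * i * w⁻¹ = u := by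
  obtain ⟨k, hk⟩ := hodd
  have hi' : i⁻¹ = i := inv_eq_of_mul_eq_one_right hi
  have hu' : u⁻¹ = u := inv_eq_of_mul_eq_one_right hu
  have hir : i * (i * u) * i = (i * u)⁻¹ := by
    rw [mul_inv_rev, hi', hu']
    calc i * (i * u) * i = (i * i) * u * i := by group
      _ = u * i := by rw [hi, one_mul]
  have hconj := inv_conj_pow hi hir k
  refine ⟨(i * u) ^ k * i, ?_, ?_⟩
  · calc (i * u) ^ k * i * ((i * u) ^ k * i) = (i * u) ^ k * (i * (i * u) ^ k * i) := by group
      _ = 1 := by rw [hconj, mul_inv_cancel]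
  · have hw : ((i * u) ^ k * i)⁻¹ = i * ((i * u) ^ k)⁻¹ := by rw [mul_inv_rev, hi']
    have hpow : (i * u) ^ (2 * k + 1) = 1 := by rw [← hk]; exact pow_orderOf_eq_one _
    have h2 : (i * u) ^ k * (i * u) ^ k = (i * u)⁻¹ := by
      rw [eq_inv_iff_mul_eq_one, ← pow_add, ← pow_succ]
      rw [show k + k + 1 = 2 * k + 1 by ring]; exact hpow
    rw [hw]
    have h3 : i * ((i * u) ^ k)⁻¹ = (i * u) ^ k * i := by
      rw [← hconj]
      calc i * (i * (i * u) ^ k * i) = (i * i) * (i * u) ^ k * i := by group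
        _ = (i * u) ^ k * i := by rw [hi, one_mul]
    calc (i * u) ^ k * i * i * (i * ((i * u) ^ k)⁻¹)
        = (i * u) ^ k * (i * i) * (i * ((i * u) ^ k)⁻¹) := by group
      _ = (i * u) ^ k * ((i * u) ^ k * i) := by rw [hi, mul_one, h3]
      _ = ((i * u) ^ k * (i * u) ^ k) * i := by group
      _ = u := by rw [h2, mul_inv_rev, hi', hu', mul_assoc, hi, mul_one]

theorem mem_normalizer_of_conj_mem [Finite S] (H : Subgroup S) (n : S)
    (h : ∀ x ∈ H, n * x * n⁻¹ ∈ H) : n ∈ Subgroup.normalizer (H : Set S) := by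
  rw [Subgroup.mem_normalizer_iff]
  intro x
  refine ⟨h x, fun hx => ?_⟩
  let φ : H → H := fun y => ⟨n * y * n⁻¹, h y y.2⟩
  have hinj : Function.Injective φ := by
    intro a b hab
    have := congrArg Subtype.val hab
    simp only [φ] at this
    apply Subtype.ext
    exact mul_left_cancel (mul_right_cancel this)
  obtain ⟨y, hy⟩ := (Finite.injective_iff_surjective.mp hinj) ⟨n * x * n⁻¹, hx⟩
  have := congrArg Subtype.val hy
  simp only [φ] at this
  have hyx : (y : S) = x := mul_left_cancel (mul_right_cancel this)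
  rw [← hyx]; exact y.2

end aux

/-- Let M be a subgroup of even order of a finite group S such that M contains the centralizer in S of each of its involutions and the normal core of M in S has odd order. Then all involutions of S are conjugate. If moreover N_S(X) ≤ M for a Sylow 2-subgroup X of M and I is an involution in the centre of X, then all involutions of M are conjugate in M and M = M₀ C_M(I) for some subgroup M₀ of M of odd order. -/
theorem result {S : Type*} [Group S] [Finite S] (M : Subgroup S) (hM : Even (Nat.card M))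
    (hC : ∀ i ∈ M, orderOf i = 2 → Subgroup.centralizer ({i} : Set S) ≤ M) (hcore : Odd (Nat.card M.normalCore)) :
    (∀ x y : S, orderOf x = 2 → orderOf y = 2 → IsConj x y) ∧
      ∀ (X : Sylow 2 M) (I : M), I ∈ (Subgroup.center ↥(X : Subgroup ↥M)).map (X : Subgroup ↥M).subtype → orderOf I = 2 →
        Subgroup.normalizer (((X : Subgroup M).map M.subtype : Subgroup S) : Set S) ≤ M →
        (∀ x y : M, orderOf x = 2 → orderOf y = 2 → IsConj x y) ∧
          ∃ M₀ : Subgroup M, Odd (Nat.card M₀) ∧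
            ∀ m : M, ∃ a ∈ M₀, ∃ c ∈ Subgroup.centralizer ({I} : Set M), m = a * c := by
  classical
  -- Lemma A
  have hA : ∀ i u : S, i ∈ M → orderOf i = 2 → u ∉ M → orderOf u = 2 → Odd (orderOf (i * u)) := by
    intro i u hiM hi huM hu
    by_contra hodd
    rw [Nat.not_odd_iff_even] at hodd
    obtain ⟨k, hk⟩ := hodd
    have hi2 := sq_of_orderOf_two hi
    have hu2 := sq_of_orderOf_two hu
    have hi' : i⁻¹ = i := inv_eq_of_mul_eq_one_right hi2
    have hu' : u⁻¹ = u := inv_eq_of_mul_eq_one_right hu2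
    have hkpos : k ≠ 0 := by
      intro h0
      have : orderOf (i * u) = 0 := by rw [hk, h0]
      exact (orderOf_pos (i * u)).ne' this
    have hz : orderOf ((i * u) ^ k) = 2 := by
      rw [orderOf_pow_of_dvd hkpos ⟨2, by rw [hk]; ring⟩, hk, ← two_mul, Nat.mul_div_cancel _ (Nat.pos_of_ne_zero hkpos)]
    have hz2 := sq_of_orderOf_two hz
    have hz' : ((i * u) ^ k)⁻¹ = (i * u) ^ k := inv_eq_of_mul_eq_one_right hz2
    have hir : i * (i * u) * i = (i * u)⁻¹ := by
      rw [mul_inv_rev, hi', hu']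
      calc i * (i * u) * i = (i * i) * u * i := by group
        _ = u * i := by rw [hi2, one_mul]
    have hur : u * (i * u) * u = (i * u)⁻¹ := by
      rw [mul_inv_rev, hi', hu']
      calc u * (i * u) * u = u * i * (u * u) := by group
        _ = u * i := by rw [hu2, mul_one]
    have hci := inv_conj_pow hi2 hir k
    have hcu := inv_conj_pow hu2 hur k
    rw [hz'] at hci hcu
    -- z commutes with i
    have hzi : (i * u) ^ k ∈ Subgroup.centralizer ({i} : Set S) := by
      rw [Subgroup.mem_centralizer_singleton_iff]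
      calc (i * u) ^ k * i = (i * i) * (i * u) ^ k * i := by rw [hi2, one_mul]
        _ = i * (i * (i * u) ^ k * i) := by group
        _ = i * (i * u) ^ k := by rw [hci]
    have hzM : (i * u) ^ k ∈ M := hC i hiM hi hzi
    have huz : u ∈ Subgroup.centralizer ({(i * u) ^ k} : Set S) := by
      rw [Subgroup.mem_centralizer_singleton_iff]
      calc u * (i * u) ^ k = u * (i * u) ^ k * (u * u) := by rw [hu2, mul_one]
        _ = (u * (i * u) ^ k * u) * u := by group
        _ = (i * u) ^ k * u := by rw [hcu]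
    exact huM (hC _ hzM hz huz)
  have hconjIU : ∀ i u : S, i ∈ M → orderOf i = 2 → u ∉ M → orderOf u = 2 → IsConj i u := by
    intro i u hiM hi huM hu
    obtain ⟨w, _, hw⟩ := exists_conj_of_odd (sq_of_orderOf_two hi) (sq_of_orderOf_two hu)
      (hA i u hiM hi huM hu)
    exact isConj_iff.mpr ⟨w, hw⟩
  -- an involution in M
  obtain ⟨i₀, hi₀M, hi₀⟩ : ∃ i ∈ M, orderOf i = 2 := by
    obtain ⟨x, hx⟩ := exists_prime_orderOf_dvd_card' 2 (even_iff_two_dvd.mp hM)
    exact ⟨x, x.2, by rw [Subgroup.orderOf_coe]; exact hx⟩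
  -- an involution outside M
  obtain ⟨t, htM, ht⟩ : ∃ t, t ∉ M ∧ orderOf t = 2 := by
    by_contra hcon
    have hall : ∀ t : S, orderOf t = 2 → t ∈ M := by
      intro t ht
      by_contra htM
      exact hcon ⟨t, htM, ht⟩
    have hle : Subgroup.normalClosure {x : S | orderOf x = 2} ≤ M := by
      rw [Subgroup.normalClosure, Subgroup.closure_le]
      intro a ha
      rw [Group.mem_conjugatesOfSet_iff] at ha
      obtain ⟨x, hx, hxa⟩ := ha
      obtain ⟨g, hg⟩ := isConj_iff.mp hxa
      apply hall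
      rw [← hg, orderOf_conj']
      exact hx
    have hle' : Subgroup.normalClosure {x : S | orderOf x = 2} ≤ M.normalCore :=
      Subgroup.normal_le_normalCore.mpr hle
    have hi₀c : i₀ ∈ M.normalCore :=
      hle' (Subgroup.subset_normalClosure (show i₀ ∈ {x : S | orderOf x = 2} from hi₀))
    have hdvd := Subgroup.orderOf_dvd_natCard _ hi₀c
    rw [hi₀] at hdvd
    exact (Nat.not_even_iff_odd.mpr hcore) (even_iff_two_dvd.mpr hdvd)
  -- part 1
  have hpart1 : ∀ x y : S, orderOf x = 2 → orderOf y = 2 → IsConj x y := by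
    intro x y hx hy
    by_cases hxM : x ∈ M
    · by_cases hyM : y ∈ M
      · exact (hconjIU x t hxM hx htM ht).trans (hconjIU y t hyM hy htM ht).symm
      · exact hconjIU x y hxM hx hyM hy
    · by_cases hyM : y ∈ M
      · exact (hconjIU y x hyM hy hxM hx).symm
      · exact (hconjIU i₀ x hi₀M hi₀ hxM hx).symm.trans (hconjIU i₀ y hi₀M hi₀ hyM hy)
  refine ⟨hpart1, ?_⟩
  intro X I hI hI2 hN
  obtain ⟨XS, hXS⟩ : ∃ XS : Subgroup S, XS = (X : Subgroup M).map M.subtype := ⟨_, rfl⟩
  rw [← hXS] at hN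
  have hXSmem : ∀ x : S, x ∈ XS ↔ ∃ h : x ∈ M, (⟨x, h⟩ : M) ∈ (X : Subgroup M) := by
    intro x
    rw [hXS, Subgroup.mem_map]
    constructor
    · rintro ⟨y, hy, rfl⟩
      exact ⟨y.2, hy⟩
    · rintro ⟨h, hx⟩
      exact ⟨⟨x, h⟩, hx, rfl⟩
  have hXSM : XS ≤ M := fun x hx => ((hXSmem x).mp hx).1
  -- the central involution
  obtain ⟨c, hc⟩ : ∃ c : S, c = (I : S) := ⟨_, rfl⟩
  have hcM : c ∈ M := by rw [hc]; exact I.2
  have hc2 : orderOf c = 2 := by rw [hc, Subgroup.orderOf_coe]; exact hI2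
  have hccent : ∀ x ∈ XS, x * c = c * x := by
    intro x hx
    obtain ⟨hxM, hxX⟩ := (hXSmem x).mp hx
    obtain ⟨z, hz, hzI⟩ := Subgroup.mem_map.mp hI
    have h1 := Subgroup.mem_center_iff.mp hz ⟨⟨x, hxM⟩, hxX⟩
    have h2 := congrArg (fun w : (X : Subgroup M) => ((w : M) : S)) h1
    simp only [Subgroup.coe_mul] at h2
    have hzc : (((z : (X : Subgroup M)) : M) : S) = c := by
      rw [hc, ← hzI]; rfl
    rw [hzc] at h2
    exact h2
  -- strongly embedded property
  have hSE : ∀ g z : S, z ∈ M → orderOf z = 2 → g⁻¹ * z * g ∈ M → g ∈ M := by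
    intro g z hzM hz hgz
    -- y in M
    obtain ⟨y, hy⟩ : ∃ y : M, (y : S) = g⁻¹ * z * g := ⟨⟨_, hgz⟩, rfl⟩
    have hyo : orderOf y = 2 := by
      rw [← Subgroup.orderOf_coe, hy]
      have := orderOf_conj' g⁻¹ z
      rw [inv_inv] at this
      rw [this]; exact hz
    have hypg : IsPGroup 2 (Subgroup.zpowers y) := by
      apply IsPGroup.of_card (n := 1)
      rw [Nat.card_zpowers, hyo, pow_one]
    obtain ⟨Q, hQ⟩ := hypg.exists_le_sylow
    obtain ⟨m, hm⟩ := MulAction.exists_smul_eq M X Q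
    have hyQ : y ∈ (Q : Subgroup M) := hQ (Subgroup.mem_zpowers y)
    rw [← hm, Sylow.coe_subgroup_smul, Subgroup.mem_pointwise_smul_iff_inv_smul_mem] at hyQ
    have hyX : m⁻¹ * y * m ∈ (X : Subgroup M) := by
      simpa [MulAut.smul_def, MulAut.conj_apply] using hyQ
    -- a = g * m
    obtain ⟨a, ha⟩ : ∃ a : S, a = g * (m : S) := ⟨_, rfl⟩
    have hazX : a⁻¹ * z * a ∈ XS := by
      rw [hXSmem]
      have heq : a⁻¹ * z * a = ((m⁻¹ * y * m : M) : S) := by
        rw [ha]
        simp only [Subgroup.coe_mul, Subgroup.coe_inv, hy]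
        group
      refine ⟨by rw [heq]; exact (m⁻¹ * y * m).2, ?_⟩
      have : (⟨a⁻¹ * z * a, by rw [heq]; exact (m⁻¹ * y * m).2⟩ : M) = m⁻¹ * y * m :=
        Subtype.ext heq
      rw [this]; exact hyX
    -- z₂
    have hz₂o : orderOf (a * c * a⁻¹) = 2 := by rw [orderOf_conj']; exact hc2
    have hz₂z : a * c * a⁻¹ ∈ Subgroup.centralizer ({z} : Set S) := by
      rw [Subgroup.mem_centralizer_singleton_iff]
      have h1 := hccent _ hazX
      -- (a⁻¹ z a) c = c (a⁻¹ z a)
      calc a * c * a⁻¹ * z = a * (c * (a⁻¹ * z * a)) * a⁻¹ := by group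
        _ = a * ((a⁻¹ * z * a) * c) * a⁻¹ := by rw [h1]
        _ = z * (a * c * a⁻¹) := by group
    have hz₂M : a * c * a⁻¹ ∈ M := hC z hzM hz hz₂z
    have hX₂M : ∀ x ∈ XS, a * x * a⁻¹ ∈ M := by
      intro x hx
      apply hC _ hz₂M hz₂o
      rw [Subgroup.mem_centralizer_singleton_iff]
      have h1 := hccent x hx
      calc a * x * a⁻¹ * (a * c * a⁻¹) = a * (x * c) * a⁻¹ := by group
        _ = a * (c * x) * a⁻¹ := by rw [h1]
        _ = a * c * a⁻¹ * (a * x * a⁻¹) := by group
    -- X₂' as a subgroup of M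
    obtain ⟨X₂, hX₂⟩ : ∃ X₂ : Subgroup M, X₂ = (XS.map (MulAut.conj a).toMonoidHom).subgroupOf M :=
      ⟨_, rfl⟩
    have hX₂mem : ∀ w : M, w ∈ X₂ ↔ ∃ x ∈ XS, a * x * a⁻¹ = (w : S) := by
      intro w
      rw [hX₂, Subgroup.mem_subgroupOf, Subgroup.mem_map]
      simp only [MulEquiv.coe_toMonoidHom, MulAut.conj_apply]
    have hX₂pg : IsPGroup 2 X₂ := by
      have h1 : IsPGroup 2 (XS.map (MulAut.conj a).toMonoidHom) := by
        have : IsPGroup 2 XS := by rw [hXS]; exact X.isPGroup'.map _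
        exact this.map _
      rw [hX₂]
      exact h1.comap_of_injective _ (Subgroup.subtype_injective M)
    obtain ⟨Q', hQ'⟩ := hX₂pg.exists_le_sylow
    obtain ⟨m', hm'⟩ := MulAction.exists_smul_eq M X Q'
    -- n = m'⁻¹ a normalizes XS
    have hn : (m' : S)⁻¹ * a ∈ Subgroup.normalizer (XS : Set S) := by
      apply mem_normalizer_of_conj_mem
      intro x hx
      have hw : (⟨a * x * a⁻¹, hX₂M x hx⟩ : M) ∈ X₂ := by
        rw [hX₂mem]; exact ⟨x, hx, rfl⟩
      have hwQ := hQ' hw
      rw [← hm', Sylow.coe_subgroup_smul, Subgroup.mem_pointwise_smul_iff_inv_smul_mem] at hwQ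
      have hwX : m'⁻¹ * (⟨a * x * a⁻¹, hX₂M x hx⟩ : M) * m' ∈ (X : Subgroup M) := by
        simpa [MulAut.smul_def, MulAut.conj_apply] using hwQ
      rw [hXSmem]
      have heq : (m' : S)⁻¹ * a * x * ((m' : S)⁻¹ * a)⁻¹
          = ((m'⁻¹ * (⟨a * x * a⁻¹, hX₂M x hx⟩ : M) * m' : M) : S) := by
        simp only [Subgroup.coe_mul, Subgroup.coe_inv]
        group
      refine ⟨by rw [heq]; exact (m'⁻¹ * (⟨a * x * a⁻¹, hX₂M x hx⟩ : M) * m').2, ?_⟩
      have : (⟨(m' : S)⁻¹ * a * x * ((m' : S)⁻¹ * a)⁻¹, by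
          rw [heq]; exact (m'⁻¹ * (⟨a * x * a⁻¹, hX₂M x hx⟩ : M) * m').2⟩ : M)
          = m'⁻¹ * (⟨a * x * a⁻¹, hX₂M x hx⟩ : M) * m' := Subtype.ext heq
      rw [this]; exact hwX
    have hnM := hN hn
    have haM : a ∈ M := by
      have := M.mul_mem m'.2 hnM
      rwa [← mul_assoc, mul_inv_cancel, one_mul] at this
    have : g = a * (m : S)⁻¹ := by rw [ha]; group
    rw [this]
    exact M.mul_mem haM (M.inv_mem m.2)
  constructor
  · -- involutions of M conjugate in M
    intro x y hx hy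
    have hx' : orderOf (x : S) = 2 := by rw [Subgroup.orderOf_coe]; exact hx
    have hy' : orderOf (y : S) = 2 := by rw [Subgroup.orderOf_coe]; exact hy
    obtain ⟨g, hg⟩ := isConj_iff.mp (hpart1 x y hx' hy')
    have hgM : g ∈ M := by
      apply hSE g y y.2 hy'
      rw [← hg]
      have : g⁻¹ * (g * (x : S) * g⁻¹) * g = x := by group
      rw [this]; exact x.2
    exact isConj_iff.mpr ⟨⟨g, hgM⟩, Subtype.ext hg⟩
  · -- M₀
    have ht2 := sq_of_orderOf_two ht
    have ht' : t⁻¹ = t := inv_eq_of_mul_eq_one_right ht2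
    refine ⟨(M ⊓ M.map (MulAut.conj t).toMonoidHom).subgroupOf M, ?_, ?_⟩
    · rw [← Nat.not_even_iff_odd]
      intro heven
      obtain ⟨d, hd⟩ := exists_prime_orderOf_dvd_card' 2 (even_iff_two_dvd.mp heven)
      have hd' : orderOf ((d : M) : S) = 2 := by
        rw [Subgroup.orderOf_coe, Subgroup.orderOf_coe]; exact hd
      have hdmem := d.2
      rw [Subgroup.mem_subgroupOf] at hdmem
      obtain ⟨hd1, hd2⟩ := hdmem
      obtain ⟨e, he, hed⟩ := Subgroup.mem_map.mp hd2
      simp only [MulEquiv.coe_toMonoidHom, MulAut.conj_apply] at hed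
      apply htM
      apply hSE t _ hd1 hd'
      rw [← hed]
      have : t⁻¹ * (t * e * t⁻¹) * t = e := by group
      rw [this]; exact he
    · intro m
      -- i = m c m⁻¹
      obtain ⟨i, hi⟩ : ∃ i : S, i = (m : S) * c * (m : S)⁻¹ := ⟨_, rfl⟩
      have hiM : i ∈ M := by rw [hi]; exact M.mul_mem (M.mul_mem m.2 hcM) (M.inv_mem m.2)
      have hio : orderOf i = 2 := by rw [hi, orderOf_conj']; exact hc2
      obtain ⟨u, hu⟩ : ∃ u : S, u = t * c * t⁻¹ := ⟨_, rfl⟩
      have huo : orderOf u = 2 := by rw [hu, orderOf_conj']; exact hc2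
      have huM : u ∉ M := by
        intro huM
        apply htM
        apply hSE t u huM huo
        rw [hu]
        have : t⁻¹ * (t * c * t⁻¹) * t = c := by group
        rw [this]; exact hcM
      obtain ⟨w, hw2, hw⟩ := exists_conj_of_odd (sq_of_orderOf_two hio) (sq_of_orderOf_two huo)
        (hA i u hiM hio huM huo)
      have hw' : w⁻¹ = w := inv_eq_of_mul_eq_one_right hw2
      -- g = t⁻¹ w ∈ M
      have hgM : t * w ∈ M := by
        apply hSE (t * w) c hcM hc2
        have : (t * w)⁻¹ * c * (t * w) = i := by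
          have h1 : c = t⁻¹ * u * t := by rw [hu]; group
          rw [h1, ← hw, mul_inv_rev, hw', ht']
          calc w * t * (t * (w * i * w) * t) * (t * w)
              = w * (t * t) * w * i * w * (t * t) * w := by group
            _ = (w * w) * i * (w * w) := by rw [ht2]; group
            _ = i := by rw [hw2, one_mul, mul_one]
        rw [this]; exact hiM
      have hdM : w * t ∈ M := by
        have := M.inv_mem hgM
        rwa [mul_inv_rev, hw', ht'] at this
      have hdD : w * t ∈ M.map (MulAut.conj t).toMonoidHom := by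
        refine Subgroup.mem_map.mpr ⟨t * w, hgM, ?_⟩
        simp only [MulEquiv.coe_toMonoidHom, MulAut.conj_apply]
        rw [ht']
        calc t * (t * w) * t = (t * t) * w * t := by group
          _ = w * t := by rw [ht2, one_mul]
      have hid : i = (w * t) * c * (w * t)⁻¹ := by
        rw [mul_inv_rev, ht', hw']
        have h1 : t * c * t = u := by rw [hu, ht']
        calc i = (w * w) * i * (w * w) := by rw [hw2, one_mul, mul_one]
          _ = w * (w * i * w⁻¹) * w := by rw [hw']; group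
          _ = w * u * w := by rw [hw]
          _ = w * (t * c * t) * w := by rw [h1]
          _ = w * t * c * (t * w) := by group
      refine ⟨⟨w * t, hdM⟩, ?_, (⟨w * t, hdM⟩ : M)⁻¹ * m, ?_, by group⟩
      · rw [Subgroup.mem_subgroupOf]
        exact ⟨hdM, hdD⟩
      · rw [Subgroup.mem_centralizer_singleton_iff]
        apply Subtype.ext
        simp only [Subgroup.coe_mul, Subgroup.coe_inv]
        rw [← hc]
        -- (wt)⁻¹ m c = c (wt)⁻¹ m
        have h1 : (m : S) * c * (m : S)⁻¹ = (w * t) * c * (w * t)⁻¹ := by rw [← hi, hid]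
        calc (w * t)⁻¹ * (m : S) * c = (w * t)⁻¹ * ((m : S) * c * (m : S)⁻¹) * (m : S) := by group
          _ = (w * t)⁻¹ * ((w * t) * c * (w * t)⁻¹) * (m : S) := by rw [h1]
          _ = c * ((w * t)⁻¹ * (m : S)) := by group

end Cfsg.Agent.S1905
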