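import Cfsg.Statements.S1907
import Mathlib
import Cfsg.Agent.Lib_helper10_PPrimeP

set_option autoImplicit false
open Cfsg

namespace Cfsg.Agent.S1907

open Cfsg.Agent.helper10 Cfsg.Agent.helper7

/-- Let P be a Sylow p-subgroup of a finite group G, H = P ∩ O_{p',p}(G), N = N_G(H) and D = O_{p'}(G). (a) If y is an element of p-power order of N and d ∈ D with d⁻¹ y d ∈ N, then d = d₁ d₂ with d₁ ∈ C_D(y) and d₂ ∈ C_D(H). (b) Two elements of P that are conjugate in G are conjugate in N. -/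
theorem result {G : Type*} [Group G] [Finite G] {p : ℕ} [Fact p.Prime] (P : Sylow p G) :
    (∀ y ∈ Subgroup.normalizer (((P : Subgroup G) ⊓ Cfsg.pPrimePCore p G : Subgroup G) : Set G), (∃ k : ℕ, orderOf y = p ^ k) →
      ∀ d ∈ Cfsg.pPrimeCore p G, d⁻¹ * y * d ∈ Subgroup.normalizer (((P : Subgroup G) ⊓ Cfsg.pPrimePCore p G : Subgroup G) : Set G) →
        ∃ d₁ ∈ Cfsg.pPrimeCore p G ⊓ Subgroup.centralizer ({y} : Set G),
          ∃ d₂ ∈ Cfsg.pPrimeCore p G ⊓ Subgroup.centralizer (((P : Subgroup G) ⊓ Cfsg.pPrimePCore p G : Subgroup G) : Set G), d = d₁ * d₂) ∧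
    ∀ x y : G, x ∈ (P : Subgroup G) → y ∈ (P : Subgroup G) → IsConj x y →
      ∃ n ∈ Subgroup.normalizer (((P : Subgroup G) ⊓ Cfsg.pPrimePCore p G : Subgroup G) : Set G), n * x * n⁻¹ = y := by
  have hp : p.Prime := Fact.out
  have hHp : IsPGroup p ↥((P : Subgroup G) ⊓ Cfsg.pPrimePCore p G : Subgroup G) :=
    P.isPGroup'.to_inf_left
  have hDc : (Nat.card ↥(Cfsg.pPrimeCore p G)).Coprime p := pPrimeCore_coprime hp
  have hA : ∀ y ∈ Subgroup.normalizer (((P : Subgroup G) ⊓ Cfsg.pPrimePCore p G : Subgroup G) : Set G), (∃ k : ℕ, orderOf y = p ^ k) →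
      ∀ d ∈ Cfsg.pPrimeCore p G, d⁻¹ * y * d ∈ Subgroup.normalizer (((P : Subgroup G) ⊓ Cfsg.pPrimePCore p G : Subgroup G) : Set G) →
        ∃ d₁ ∈ Cfsg.pPrimeCore p G ⊓ Subgroup.centralizer ({y} : Set G),
          ∃ d₂ ∈ Cfsg.pPrimeCore p G ⊓ Subgroup.centralizer (((P : Subgroup G) ⊓ Cfsg.pPrimePCore p G : Subgroup G) : Set G), d = d₁ * d₂ := by
    intro y hy hyo d hd hdy
    exact factor_of_conj_mem_normalizer _ hHp _ hDc y hy hyo d hd hdy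
  refine ⟨hA, ?_⟩
  intro x y hx hy hxy
  have hV : (Cfsg.pPrimePCore p G).Normal := pPrimePCore_normal p
  obtain ⟨g, hg⟩ := isConj_iff.1 hxy
  obtain ⟨n, hn, d, hd, rfl⟩ := frattini_pPrimePCore P g
  have hPN := sylow_le_normalizer_inf_normal P (Cfsg.pPrimePCore p G)
  have hxo : ∃ k : ℕ, orderOf x = p ^ k := by
    obtain ⟨k, hk⟩ := IsPGroup.iff_orderOf.1 P.isPGroup' ⟨x, hx⟩
    exact ⟨k, by rw [← hk, Subgroup.orderOf_mk]⟩
  have h1 : (d⁻¹)⁻¹ * x * d⁻¹ ∈ Subgroup.normalizer (((P : Subgroup G) ⊓ Cfsg.pPrimePCore p G : Subgroup G) : Set G) := by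
    have e : (d⁻¹)⁻¹ * x * d⁻¹ = n⁻¹ * y * n := by
      rw [← hg]; group
    rw [e]
    exact Subgroup.mul_mem _ (Subgroup.mul_mem _ (Subgroup.inv_mem _ hn) (hPN hy)) hn
  obtain ⟨d₁, hd₁, d₂, hd₂, hdd⟩ := hA x (hPN hx) hxo d⁻¹ (Subgroup.inv_mem _ hd) h1
  have hd₁' := Subgroup.mem_inf.1 hd₁
  have hd₂' := Subgroup.mem_inf.1 hd₂
  have hc : x * d₁ = d₁ * x := by
    have := Subgroup.mem_centralizer_iff.1 hd₁'.2 x (Set.mem_singleton x)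
    exact this
  refine ⟨n * d₂⁻¹, Subgroup.mul_mem _ hn (Subgroup.inv_mem _ ?_), ?_⟩
  · exact Subgroup.centralizer_le_normalizer _ hd₂'.2
  · rw [← hg]
    have hd' : d = d₂⁻¹ * d₁⁻¹ := by
      have : d = (d⁻¹)⁻¹ := by group
      rw [this, hdd]; group
    rw [hd']
    have e2 : d₁⁻¹ * x * d₁ = x := by
      calc d₁⁻¹ * x * d₁ = d₁⁻¹ * (x * d₁) := by group
        _ = d₁⁻¹ * (d₁ * x) := by rw [hc]
        _ = x := by group
    calc n * d₂⁻¹ * x * (n * d₂⁻¹)⁻¹ = n * d₂⁻¹ * (d₁⁻¹ * x * d₁) * (n * d₂⁻¹)⁻¹ := by rw [e2]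
      _ = n * (d₂⁻¹ * d₁⁻¹) * x * (n * (d₂⁻¹ * d₁⁻¹))⁻¹ := by group

end Cfsg.Agent.S1907
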