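import Cfsg.Statements.S1910
import Mathlib
import Cfsg.Agent.S0214

set_option autoImplicit false
open Cfsg
open Pointwise

namespace Cfsg.Agent.S1910

open Cfsg.Agent.S3203 Cfsg.Agent.S0214

variable {G : Type*} [Group G]

theorem eq_one_of_odd [Finite G] (K : Subgroup G) (hK : Odd (Nat.card K)) (y : G) (hy : y ∈ K)
    (h2 : ∃ k : ℕ, y ^ 2 ^ k = 1) : y = 1 := by
  obtain ⟨k, hk⟩ := h2
  have h1 : orderOf y ∣ 2 ^ k := orderOf_dvd_of_pow_eq_one hk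
  have h3 : orderOf y ∣ Nat.card K := Subgroup.orderOf_dvd_natCard K hy
  have hnd : ¬ 2 ∣ Nat.card K := by
    intro h
    exact (Nat.not_even_iff_odd.mpr hK) (even_iff_two_dvd.mpr h)
  have hcop : Nat.Coprime (2 ^ k) (Nat.card K) :=
    Nat.Coprime.pow_left k ((Nat.Prime.coprime_iff_not_dvd Nat.prime_two).mpr hnd)
  have hd : orderOf y ∣ Nat.gcd (2 ^ k) (Nat.card K) := Nat.dvd_gcd h1 h3
  rw [hcop.gcd_eq_one] at hd
  exact orderOf_eq_one_iff.mp (Nat.dvd_one.mp hd)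

theorem two_elt_of_mem {S : Subgroup G} (hS : IsPGroup 2 S) {s : G} (hs : s ∈ S) :
    ∃ k : ℕ, s ^ 2 ^ k = 1 := by
  obtain ⟨k, hk⟩ := hS ⟨s, hs⟩
  refine ⟨k, ?_⟩
  have := congrArg Subtype.val hk
  simpa using this

theorem tight_base [Finite G] {Q : Subgroup G} (hQ : Cfsg.IsTightlyEmbedded Q) (x y : G)
    (hy : y ∈ Q) (hxy : x * y * x⁻¹ ∈ Q) (hy1 : y ≠ 1) (h2 : ∃ k : ℕ, y ^ 2 ^ k = 1) :
    x ∈ Subgroup.normalizer (Q : Set G) := by
  by_contra hx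
  have hx' : x⁻¹ ∉ Subgroup.normalizer (Q : Set G) := fun h => hx (by simpa using inv_mem h)
  have hodd := hQ.2 x⁻¹ hx'
  apply hy1
  apply eq_one_of_odd _ hodd y _ h2
  refine Subgroup.mem_inf.mpr ⟨hy, ?_⟩
  rw [mem_cj]
  simpa using hxy

theorem tight_conj [Finite G] {Q : Subgroup G} (hQ : Cfsg.IsTightlyEmbedded Q) (g x y : G)
    (hy : y ∈ Q.map (MulAut.conj g).toMonoidHom)
    (hxy : x * y * x⁻¹ ∈ Q.map (MulAut.conj g).toMonoidHom) (hy1 : y ≠ 1)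
    (h2 : ∃ k : ℕ, y ^ 2 ^ k = 1) :
    x ∈ Subgroup.normalizer ((Q.map (MulAut.conj g).toMonoidHom : Subgroup G) : Set G) := by
  rw [mem_cj] at hy hxy
  obtain ⟨k, hk⟩ := h2
  have h1 : g⁻¹ * x * g ∈ Subgroup.normalizer (Q : Set G) := by
    apply tight_base hQ (g⁻¹ * x * g) (g⁻¹ * y * g) hy
    · have e : g⁻¹ * x * g * (g⁻¹ * y * g) * (g⁻¹ * x * g)⁻¹ = g⁻¹ * (x * y * x⁻¹) * g := by group
      rw [e]; exact hxy
    · intro h
      apply hy1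
      calc y = g * (g⁻¹ * y * g) * g⁻¹ := by group
        _ = 1 := by rw [h]; group
    · refine ⟨k, ?_⟩
      have e : g⁻¹ * y * g = g⁻¹ * y * g⁻¹⁻¹ := by rw [inv_inv]
      rw [e, conj_pow, hk]; group
  apply mem_normalizer_of_forall
  intro z hz
  rw [mem_cj] at hz ⊢
  have h3 := conj_mem_of_mem_normalizer Q _ h1 _ hz
  have e : g⁻¹ * (x * z * x⁻¹) * g = g⁻¹ * x * g * (g⁻¹ * z * g) * (g⁻¹ * x * g)⁻¹ := by group
  rw [e]; exact h3

theorem exists_proj_hom (T R : Subgroup G) (hTR : ∀ y, y ∈ T → y ∈ R → y = 1)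
    (hcomm : ∀ t ∈ T, ∀ r ∈ R, t * r = r * t) (x : G)
    (hx : ∀ t ∈ T, ∃ t' ∈ T, ∃ r ∈ R, x * t * x⁻¹ = t' * r) :
    ∃ f : T →* G, (∀ t : T, f t ∈ R) ∧ (∀ t : T, ∃ t' ∈ T, x * (t : G) * x⁻¹ = t' * f t) := by
  have huniq : ∀ t₁ ∈ T, ∀ t₂ ∈ T, ∀ r₁ ∈ R, ∀ r₂ ∈ R, t₁ * r₁ = t₂ * r₂ → r₁ = r₂ := by
    intro t₁ ht₁ t₂ ht₂ r₁ hr₁ r₂ hr₂ h
    have e : t₂⁻¹ * t₁ = r₂ * r₁⁻¹ := by
      calc t₂⁻¹ * t₁ = t₂⁻¹ * (t₁ * r₁) * r₁⁻¹ := by group
        _ = t₂⁻¹ * (t₂ * r₂) * r₁⁻¹ := by rw [h]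
        _ = r₂ * r₁⁻¹ := by group
    have h1 : r₂ * r₁⁻¹ = 1 := by
      apply hTR
      · rw [← e]; exact T.mul_mem (T.inv_mem ht₂) ht₁
      · exact R.mul_mem hr₂ (R.inv_mem hr₁)
    have h2 : r₂ = r₁ := by
      calc r₂ = r₂ * r₁⁻¹ * r₁ := by group
        _ = r₁ := by rw [h1, one_mul]
    exact h2.symm
  choose t' ht' r hr heq using hx
  refine ⟨MonoidHom.mk' (fun t : T => r t.1 t.2) ?_, ?_, ?_⟩
  · intro a b
    have hab := heq (a.1 * b.1) (T.mul_mem a.2 b.2)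
    have ha := heq a.1 a.2
    have hb := heq b.1 b.2
    have e : t' (a.1 * b.1) (T.mul_mem a.2 b.2) * r (a.1 * b.1) (T.mul_mem a.2 b.2)
        = (t' a.1 a.2 * t' b.1 b.2) * (r a.1 a.2 * r b.1 b.2) := by
      rw [← hab]
      calc x * (a.1 * b.1) * x⁻¹ = (x * a.1 * x⁻¹) * (x * b.1 * x⁻¹) := by group
        _ = (t' a.1 a.2 * r a.1 a.2) * (t' b.1 b.2 * r b.1 b.2) := by rw [ha, hb]
        _ = t' a.1 a.2 * (r a.1 a.2 * t' b.1 b.2) * r b.1 b.2 := by group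
        _ = t' a.1 a.2 * (t' b.1 b.2 * r a.1 a.2) * r b.1 b.2 := by
            rw [← hcomm _ (ht' b.1 b.2) _ (hr a.1 a.2)]
        _ = (t' a.1 a.2 * t' b.1 b.2) * (r a.1 a.2 * r b.1 b.2) := by group
    exact huniq _ (ht' _ _) _ (T.mul_mem (ht' _ _) (ht' _ _)) _ (hr _ _) _
      (R.mul_mem (hr _ _) (hr _ _)) e
  · intro t; exact hr t.1 t.2
  · intro t; exact ⟨t' t.1 t.2, ht' t.1 t.2, heq t.1 t.2⟩

theorem comm_lemma (Q Q' T S : Subgroup G)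
    (hint : ∀ y : G, y ∈ Q → y ∈ Q' → (∃ k : ℕ, y ^ 2 ^ k = 1) → y = 1)
    (hTQ' : T ≤ Q') (hTN : T ≤ Subgroup.normalizer (Q : Set G))
    (hS : IsPGroup 2 S) (hTS : T ≤ S) :
    ∀ t ∈ T, ∀ r ∈ S ⊓ Subgroup.normalizer (T : Set G) ⊓ Q, t * r = r * t := by
  intro t ht r hr
  have hrW := (Subgroup.mem_inf.mp hr).1
  have hrQ := (Subgroup.mem_inf.mp hr).2
  have hrS : r ∈ S := (Subgroup.mem_inf.mp hrW).1
  have hrN : r ∈ Subgroup.normalizer (T : Set G) := (Subgroup.mem_inf.mp hrW).2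
  have hc : t * r * t⁻¹ * r⁻¹ = 1 := by
    apply hint
    · exact Q.mul_mem (conj_mem_of_mem_normalizer Q t (hTN ht) r hrQ) (Q.inv_mem hrQ)
    · apply hTQ'
      have e : t * r * t⁻¹ * r⁻¹ = t * (r * t⁻¹ * r⁻¹) := by group
      rw [e]
      exact T.mul_mem ht (conj_mem_of_mem_normalizer T r hrN _ (T.inv_mem ht))
    · exact two_elt_of_mem hS
        (S.mul_mem (S.mul_mem (S.mul_mem (hTS ht) hrS) (S.inv_mem (hTS ht))) (S.inv_mem hrS))
  calc t * r = (t * r * t⁻¹ * r⁻¹) * (r * t) := by group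
    _ = r * t := by rw [hc, one_mul]

theorem dec_S (Q T S : Subgroup G) (hTN : T ≤ Subgroup.normalizer (Q : Set G))
    (hSQT : S ≤ Q ⊔ T) :
    ∀ s ∈ S, ∃ q ∈ Q, ∃ t ∈ T, s = q * t := by
  intro s hs
  have h1 : s ∈ ((Q ⊔ T : Subgroup G) : Set G) := hSQT hs
  rw [Subgroup.coe_mul_of_right_le_normalizer_left Q T hTN] at h1
  obtain ⟨q, hq, t, ht, h⟩ := Set.mem_mul.mp h1
  exact ⟨q, hq, t, ht, h.symm⟩

theorem dec_lemma (Q T S : Subgroup G) (hTN : T ≤ Subgroup.normalizer (Q : Set G))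
    (hTS : T ≤ S) (hSQT : S ≤ Q ⊔ T) :
    ∀ w ∈ S ⊓ Subgroup.normalizer (T : Set G),
      ∃ r ∈ S ⊓ Subgroup.normalizer (T : Set G) ⊓ Q, ∃ t ∈ T, w = r * t := by
  intro w hw
  obtain ⟨q, hq, t, ht, h⟩ := dec_S Q T S hTN hSQT w (Subgroup.mem_inf.mp hw).1
  have hTW : T ≤ S ⊓ Subgroup.normalizer (T : Set G) := le_inf hTS Subgroup.le_normalizer
  have hqW : q ∈ S ⊓ Subgroup.normalizer (T : Set G) := by
    have e : q = w * t⁻¹ := by rw [h]; group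
    rw [e]
    exact Subgroup.mul_mem _ hw (Subgroup.inv_mem _ (hTW ht))
  exact ⟨q, Subgroup.mem_inf.mpr ⟨hqW, hq⟩, t, ht, h⟩

theorem key_inj [Finite G] (Q Q' T S : Subgroup G)
    (htight : ∀ x y : G, y ∈ Q' → x * y * x⁻¹ ∈ Q' → y ≠ 1 → (∃ k : ℕ, y ^ 2 ^ k = 1) →
      x ∈ Subgroup.normalizer (Q' : Set G))
    (hint : ∀ y : G, y ∈ Q → y ∈ Q' → (∃ k : ℕ, y ^ 2 ^ k = 1) → y = 1)
    (hTQ' : T ≤ Q') (hTN : T ≤ Subgroup.normalizer (Q : Set G))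
    (hS : IsPGroup 2 S) (hTS : T ≤ S) (hSQT : S ≤ Q ⊔ T)
    (hsyl : ∃ f : T →* G, Function.Injective f ∧ ∀ t, f t ∈ S ⊓ Q) :
    ∃ f : T →* G, Function.Injective f ∧
      ∀ t, f t ∈ S ⊓ Subgroup.normalizer (T : Set G) ⊓ Q := by
  haveI : Fact (Nat.Prime 2) := ⟨Nat.prime_two⟩
  by_cases hN : S ≤ Subgroup.normalizer (T : Set G)
  · obtain ⟨f, hf, hfm⟩ := hsyl
    refine ⟨f, hf, fun t => ?_⟩
    have h := hfm t
    rw [Subgroup.mem_inf] at h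
    exact Subgroup.mem_inf.mpr ⟨Subgroup.mem_inf.mpr ⟨h.1, hN h.1⟩, h.2⟩
  · have hcomm := comm_lemma Q Q' T S hint hTQ' hTN hS hTS
    have hWdec0 := dec_lemma Q T S hTN hTS hSQT
    have hWS : S ⊓ Subgroup.normalizer (T : Set G) < S := by
      refine lt_of_le_of_ne inf_le_left ?_
      intro h
      apply hN
      rw [← h]
      exact inf_le_right
    obtain ⟨x₀, hx₀S, hx₀W, hx₀N⟩ := exists_normalizing S _ hS hWS
    have hTW : T ≤ S ⊓ Subgroup.normalizer (T : Set G) := le_inf hTS Subgroup.le_normalizer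
    obtain ⟨x, hxQ, t₀, ht₀, hx₀eq⟩ := dec_S Q T S hTN hSQT x₀ hx₀S
    have hxeq : x = x₀ * t₀⁻¹ := by rw [hx₀eq]; group
    have hxS : x ∈ S := by rw [hxeq]; exact S.mul_mem hx₀S (S.inv_mem (hTS ht₀))
    have hxW : x ∉ S ⊓ Subgroup.normalizer (T : Set G) := by
      intro h
      apply hx₀W
      rw [hx₀eq]
      exact Subgroup.mul_mem _ h (hTW ht₀)
    have hxN : x ∈ Subgroup.normalizer ((S ⊓ Subgroup.normalizer (T : Set G) : Subgroup G) : Set G) := by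
      rw [hxeq]
      exact Subgroup.mul_mem _ hx₀N (Subgroup.inv_mem _ (Subgroup.le_normalizer (hTW ht₀)))
    have hTR : ∀ y, y ∈ T → y ∈ S ⊓ Subgroup.normalizer (T : Set G) ⊓ Q → y = 1 := by
      intro y hyT hyR
      exact hint y (Subgroup.mem_inf.mp hyR).2 (hTQ' hyT) (two_elt_of_mem hS (hTS hyT))
    have hxconj : ∀ t ∈ T, ∃ t' ∈ T, ∃ r ∈ S ⊓ Subgroup.normalizer (T : Set G) ⊓ Q,
        x * t * x⁻¹ = t' * r := by
      intro t ht
      obtain ⟨r, hr, t', ht', h⟩ := hWdec0 _ (conj_mem_of_mem_normalizer _ x hxN t (hTW ht))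
      exact ⟨t', ht', r, hr, by rw [h, hcomm t' ht' r hr]⟩
    obtain ⟨f, hfR, hfx⟩ := exists_proj_hom T _ hTR hcomm x hxconj
    refine ⟨f, ?_, fun t => hfR t⟩
    rw [injective_iff_map_eq_one]
    intro t hft
    obtain ⟨t', ht', he⟩ := hfx t
    rw [hft, mul_one] at he
    by_contra ht1
    have ht1' : (t : G) ≠ 1 := fun h => ht1 (Subtype.ext h)
    have hxNQ' : x ∈ Subgroup.normalizer (Q' : Set G) := by
      refine htight x (t : G) (hTQ' t.2) ?_ ht1' (two_elt_of_mem hS (hTS t.2))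
      rw [he]; exact hTQ' ht'
    apply hxW
    refine Subgroup.mem_inf.mpr ⟨hxS, ?_⟩
    apply mem_normalizer_of_forall
    intro t₁ ht₁
    have hc : x * t₁ * x⁻¹ * t₁⁻¹ = 1 := by
      apply hint
      · have e : x * t₁ * x⁻¹ * t₁⁻¹ = x * (t₁ * x⁻¹ * t₁⁻¹) := by group
        rw [e]
        exact Q.mul_mem hxQ (conj_mem_of_mem_normalizer Q t₁ (hTN ht₁) _ (Q.inv_mem hxQ))
      · exact Q'.mul_mem (conj_mem_of_mem_normalizer Q' x hxNQ' t₁ (hTQ' ht₁))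
          (Q'.inv_mem (hTQ' ht₁))
      · exact two_elt_of_mem hS
          (S.mul_mem (S.mul_mem (S.mul_mem hxS (hTS ht₁)) (S.inv_mem hxS)) (S.inv_mem (hTS ht₁)))
    have h5 : x * t₁ * x⁻¹ = t₁ := by
      calc x * t₁ * x⁻¹ = (x * t₁ * x⁻¹ * t₁⁻¹) * t₁ := by group
        _ = t₁ := by rw [hc, one_mul]
    rw [h5]; exact ht₁

theorem conj_into [Finite G] (Q P U : Subgroup G) (hPQ : P ≤ Q) (hP : IsPGroup 2 P)
    (hidx : ¬ 2 ∣ P.relIndex Q) (hUQ : U ≤ Q) (hU : IsPGroup 2 U) :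
    ∃ q ∈ Q, ∀ u ∈ U, q * u * q⁻¹ ∈ P := by
  haveI : Fact (Nat.Prime 2) := ⟨Nat.prime_two⟩
  have hP' : IsPGroup 2 (P.subgroupOf Q) := hP.comap_subtype
  have hU' : IsPGroup 2 (U.subgroupOf Q) := hU.comap_subtype
  let P₀ : Sylow 2 ↥Q := hP'.toSylow hidx
  obtain ⟨U₀, hU₀⟩ := hU'.exists_le_sylow
  obtain ⟨n, hn⟩ := MulAction.exists_smul_eq ↥Q U₀ P₀
  refine ⟨n.1, n.2, fun u hu => ?_⟩
  have huQ : u ∈ Q := hUQ hu
  have h1 : (⟨u, huQ⟩ : ↥Q) ∈ (U₀ : Subgroup ↥Q) := hU₀ (Subgroup.mem_subgroupOf.mpr hu)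
  have h2 : MulAut.conj n • (⟨u, huQ⟩ : ↥Q) ∈ MulAut.conj n • (U₀ : Subgroup ↥Q) :=
    Subgroup.smul_mem_pointwise_smul _ _ _ h1
  rw [← Sylow.coe_subgroup_smul, hn] at h2
  have h3 : (MulAut.conj n • (⟨u, huQ⟩ : ↥Q)) ∈ P.subgroupOf Q := h2
  rw [Subgroup.mem_subgroupOf] at h3
  simpa [MulAut.smul_def, MulAut.conj_apply] using h3

theorem card_mul_relIndex' {A B : Subgroup G} (h : A ≤ B) :
    Nat.card A * A.relIndex B = Nat.card B := by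
  have := Subgroup.relIndex_mul_relIndex (⊥ : Subgroup G) A B bot_le h
  rwa [Subgroup.relIndex_bot_left, Subgroup.relIndex_bot_left] at this

theorem relIndex_sup_normalizer (H N : Subgroup G)
    (hLE : H ≤ Subgroup.normalizer (N : Set G)) : N.relIndex (H ⊔ N) = N.relIndex H := by
  have := Subgroup.normal_subgroupOf_of_le_normalizer hLE
  have := Subgroup.normal_subgroupOf_sup_of_le_normalizer hLE
  exact Nat.card_congr (QuotientGroup.quotientInfEquivProdNormalizerQuotient H N hLE).toEquiv.symm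

theorem not_dvd_inf_relIndex [Finite G] (Q S M : Subgroup G)
    (hSN : S ≤ Subgroup.normalizer (Q : Set G))
    (hM : M = S ⊔ Q) (h : ¬ 2 ∣ S.relIndex M) : ¬ 2 ∣ (S ⊓ Q).relIndex Q := by
  subst hM
  have h0 := relIndex_sup_normalizer S Q hSN
  have c1 := card_mul_relIndex' (le_sup_right : Q ≤ S ⊔ Q)
  have c2 := card_mul_relIndex' (le_sup_left : S ≤ S ⊔ Q)
  have c3 := card_mul_relIndex' (inf_le_left : S ⊓ Q ≤ S)
  have c4 := card_mul_relIndex' (inf_le_right : S ⊓ Q ≤ Q)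
  rw [Subgroup.inf_relIndex_left] at c3
  have key : (S ⊓ Q).relIndex Q = S.relIndex (S ⊔ Q) := by
    have hpos : 0 < Nat.card ↥(S ⊓ Q) * Q.relIndex S := by
      rw [c3]; exact Nat.card_pos
    apply Nat.eq_of_mul_eq_mul_left hpos
    calc Nat.card ↥(S ⊓ Q) * Q.relIndex S * (S ⊓ Q).relIndex Q
        = (Nat.card ↥(S ⊓ Q) * (S ⊓ Q).relIndex Q) * Q.relIndex S := by ring
      _ = Nat.card Q * Q.relIndex (S ⊔ Q) := by rw [c4, h0]
      _ = Nat.card S * S.relIndex (S ⊔ Q) := by rw [c1, c2]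
      _ = Nat.card ↥(S ⊓ Q) * Q.relIndex S * S.relIndex (S ⊔ Q) := by rw [c3]
  rw [key]; exact h

theorem embed_of_conj [Finite G] (Q₁ S T : Subgroup G) (c : G)
    (hS : IsPGroup 2 S) (hT : IsPGroup 2 T)
    (hidx : ¬ 2 ∣ (S ⊓ Q₁).relIndex Q₁)
    (hc : ∀ t ∈ T, c * t * c⁻¹ ∈ Q₁) :
    ∃ f : T →* G, Function.Injective f ∧ ∀ t, f t ∈ S ⊓ Q₁ := by
  have hU' : IsPGroup 2 (T.map (MulAut.conj c).toMonoidHom) := hT.map _
  have hU'Q : T.map (MulAut.conj c).toMonoidHom ≤ Q₁ := by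
    rintro _ ⟨t, ht, rfl⟩
    simpa [MulAut.conj_apply] using hc t ht
  obtain ⟨q, hq, hqU⟩ := conj_into Q₁ (S ⊓ Q₁) _ inf_le_right (hS.to_le inf_le_left) hidx hU'Q hU'
  refine ⟨(MulAut.conj (q * c)).toMonoidHom.comp T.subtype, ?_, ?_⟩
  · intro a b hab
    simpa [MulAut.conj_apply] using hab
  · intro t
    have h1 := hqU (c * t.1 * c⁻¹) ⟨t.1, t.2, by simp [MulAut.conj_apply]⟩
    have e : (MulAut.conj (q * c)).toMonoidHom.comp T.subtype t = q * (c * t.1 * c⁻¹) * q⁻¹ := by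
      simp [MulAut.conj_apply, mul_assoc]
    rw [e]; exact h1

theorem exists_sylow_ge [Finite G] (M R : Subgroup G) (hRM : R ≤ M) (hR : IsPGroup 2 R) :
    ∃ S : Subgroup G, R ≤ S ∧ S ≤ M ∧ IsPGroup 2 S ∧ ¬ 2 ∣ S.relIndex M := by
  haveI : Fact (Nat.Prime 2) := ⟨Nat.prime_two⟩
  have hR' : IsPGroup 2 (R.subgroupOf M) := hR.comap_subtype
  obtain ⟨P, hP⟩ := hR'.exists_le_sylow
  refine ⟨(P : Subgroup ↥M).map M.subtype, ?_, ?_, ?_, ?_⟩
  · intro r hr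
    exact ⟨⟨r, hRM hr⟩, hP (Subgroup.mem_subgroupOf.mpr hr), rfl⟩
  · exact Subgroup.map_subtype_le _
  · exact P.isPGroup'.map _
  · show ¬ 2 ∣ (((P : Subgroup ↥M).map M.subtype).subgroupOf M).index
    have e : ((P : Subgroup ↥M).map M.subtype).subgroupOf M = (P : Subgroup ↥M) := by
      ext z
      rw [Subgroup.mem_subgroupOf]
      constructor
      · rintro ⟨w, hw, hwz⟩
        have hwz' : w = z := Subtype.ext (by simpa using hwz)
        rwa [← hwz']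
      · intro hz
        exact ⟨z, hz, rfl⟩
    rw [e]
    exact P.not_dvd_index

theorem card_le_of_sylow_like [Finite G] (A T U : Subgroup G) (hTA : T ≤ A) (hUA : U ≤ A)
    (hU : IsPGroup 2 U) (hT : ¬ 2 ∣ T.relIndex A) : Nat.card U ≤ Nat.card T := by
  haveI : Fact (Nat.Prime 2) := ⟨Nat.prime_two⟩
  obtain ⟨k, hk⟩ := (IsPGroup.iff_card).mp hU
  have h1 : Nat.card U ∣ Nat.card A := Subgroup.card_dvd_of_le hUA
  have h2 := card_mul_relIndex' hTA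
  rw [← h2, hk] at h1
  have hcop : Nat.Coprime (2 ^ k) (T.relIndex A) :=
    Nat.Coprime.pow_left k ((Nat.Prime.coprime_iff_not_dvd Nat.prime_two).mpr hT)
  have h3 : 2 ^ k ∣ Nat.card T := hcop.dvd_of_dvd_mul_right h1
  rw [hk]
  exact Nat.le_of_dvd Nat.card_pos h3

theorem card_le_of_inj [Finite G] (A B : Subgroup G) (f : A →* G) (hf : Function.Injective f)
    (hm : ∀ a, f a ∈ B) : Nat.card A ≤ Nat.card B := by
  apply Nat.card_le_card_of_injective (fun a => (⟨f a, hm a⟩ : ↥B))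
  intro a b hab
  apply hf
  exact congrArg Subtype.val hab

theorem equiv_of_inj [Finite G] (A B : Subgroup G) (f : A →* G) (hf : Function.Injective f)
    (hm : ∀ a, f a ∈ B) (hc : Nat.card B ≤ Nat.card A) : Nonempty (B ≃* A) := by
  let f' : A →* B := f.codRestrict B hm
  have hinj : Function.Injective f' := by
    intro a b hab
    apply hf
    exact congrArg Subtype.val hab
  have hbij : Function.Bijective f' := hinj.bijective_of_nat_card_le hc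
  exact ⟨(MulEquiv.ofBijective f' hbij).symm⟩

/-- Let Q be a tightly embedded subgroup of a finite group G, g an element outside N_G(Q), T a nontrivial Sylow 2-subgroup of Q^g ∩ N_G(Q), and S a Sylow 2-subgroup of QT containing T. Then T ∩ Q = 1, and N_S(T) is the direct product of T and N_S(T) ∩ Q, with N_S(T) ∩ Q isomorphic to T. -/
theorem result {G : Type*} [Group G] [Finite G] (Q : Subgroup G) (hQ : Cfsg.IsTightlyEmbedded Q)
    (g : G) (hg : g ∉ Subgroup.normalizer (Q : Set G))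
    (T : Subgroup G) (hT1 : T ≠ ⊥) (hT : T ≤ Q.map (MulAut.conj g).toMonoidHom ⊓ Subgroup.normalizer (Q : Set G))
    (hTsyl : IsPGroup 2 T ∧ ¬ 2 ∣ T.relIndex (Q.map (MulAut.conj g).toMonoidHom ⊓ Subgroup.normalizer (Q : Set G)))
    (S : Subgroup G) (hTS : T ≤ S) (hS : S ≤ Q ⊔ T) (hSsyl : IsPGroup 2 S ∧ ¬ 2 ∣ S.relIndex (Q ⊔ T)) :
    T ⊓ Q = ⊥ ∧
      T ⊓ (S ⊓ Subgroup.normalizer (T : Set G) ⊓ Q) = ⊥ ∧
      ⁅T, S ⊓ Subgroup.normalizer (T : Set G) ⊓ Q⁆ = ⊥ ∧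
      T ⊔ (S ⊓ Subgroup.normalizer (T : Set G) ⊓ Q) = S ⊓ Subgroup.normalizer (T : Set G) ∧
      Nonempty (↥(S ⊓ Subgroup.normalizer (T : Set G) ⊓ Q) ≃* T) := by
  haveI : Fact (Nat.Prime 2) := ⟨Nat.prime_two⟩
  have hTQg : T ≤ Q.map (MulAut.conj g).toMonoidHom := hT.trans inf_le_left
  have hTN : T ≤ Subgroup.normalizer (Q : Set G) := hT.trans inf_le_right
  have hint : ∀ y : G, y ∈ Q → y ∈ Q.map (MulAut.conj g).toMonoidHom →
      (∃ k : ℕ, y ^ 2 ^ k = 1) → y = 1 := by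
    intro y hy hy' h2
    exact eq_one_of_odd _ (hQ.2 g hg) y (Subgroup.mem_inf.mpr ⟨hy, hy'⟩) h2
  have hint' : ∀ y : G, y ∈ Q.map (MulAut.conj g).toMonoidHom → y ∈ Q →
      (∃ k : ℕ, y ^ 2 ^ k = 1) → y = 1 := fun y h1 h2 h3 => hint y h2 h1 h3
  have hSN : S ≤ Subgroup.normalizer (Q : Set G) := hS.trans (sup_le Subgroup.le_normalizer hTN)
  have hM : Q ⊔ T = S ⊔ Q :=
    le_antisymm (sup_le le_sup_right (hTS.trans le_sup_left)) (sup_le hS le_sup_left)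
  have hidx : ¬ 2 ∣ (S ⊓ Q).relIndex Q := not_dvd_inf_relIndex Q S (Q ⊔ T) hSN hM hSsyl.2
  have hsyl : ∃ f : T →* G, Function.Injective f ∧ ∀ t, f t ∈ S ⊓ Q := by
    apply embed_of_conj Q S T g⁻¹ hSsyl.1 hTsyl.1 hidx
    intro t ht
    have h := hTQg ht
    rw [mem_cj] at h
    simpa using h
  obtain ⟨f, hf, hfm⟩ := key_inj Q (Q.map (MulAut.conj g).toMonoidHom) T S (tight_conj hQ g) hint
    hTQg hTN hSsyl.1 hTS hS hsyl
  have hcomm := comm_lemma Q (Q.map (MulAut.conj g).toMonoidHom) T S hint hTQg hTN hSsyl.1 hTS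
  obtain ⟨t₀, ht₀, ht₀1⟩ : ∃ t₀ ∈ T, t₀ ≠ 1 := by
    by_contra hcon
    push Not at hcon
    exact hT1 ((Subgroup.eq_bot_iff_forall T).mpr hcon)
  have hRQ : S ⊓ Subgroup.normalizer (T : Set G) ⊓ Q ≤ Q := inf_le_right
  have hRS : S ⊓ Subgroup.normalizer (T : Set G) ⊓ Q ≤ S := inf_le_left.trans inf_le_left
  have hRpg : IsPGroup 2 ↥(S ⊓ Subgroup.normalizer (T : Set G) ⊓ Q) := hSsyl.1.to_le hRS
  have hRNg : S ⊓ Subgroup.normalizer (T : Set G) ⊓ Q ≤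
      Subgroup.normalizer ((Q.map (MulAut.conj g).toMonoidHom : Subgroup G) : Set G) := by
    intro r hr
    refine tight_conj hQ g r t₀ (hTQg ht₀) ?_ ht₀1 (two_elt_of_mem hTsyl.1 ht₀)
    have e : r * t₀ * r⁻¹ = t₀ := by
      rw [← hcomm t₀ ht₀ r hr]; group
    rw [e]; exact hTQg ht₀
  obtain ⟨S', hRS', hS'M, hS'pg, hS'idx⟩ := exists_sylow_ge
    (Q.map (MulAut.conj g).toMonoidHom ⊔ (S ⊓ Subgroup.normalizer (T : Set G) ⊓ Q))
    (S ⊓ Subgroup.normalizer (T : Set G) ⊓ Q) le_sup_right hRpg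
  have hS'N : S' ≤ Subgroup.normalizer ((Q.map (MulAut.conj g).toMonoidHom : Subgroup G) : Set G) :=
    hS'M.trans (sup_le Subgroup.le_normalizer hRNg)
  have hM' : Q.map (MulAut.conj g).toMonoidHom ⊔ (S ⊓ Subgroup.normalizer (T : Set G) ⊓ Q)
      = S' ⊔ Q.map (MulAut.conj g).toMonoidHom :=
    le_antisymm (sup_le le_sup_right (hRS'.trans le_sup_left)) (sup_le hS'M le_sup_left)
  have hidx' : ¬ 2 ∣ (S' ⊓ Q.map (MulAut.conj g).toMonoidHom).relIndex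
      (Q.map (MulAut.conj g).toMonoidHom) :=
    not_dvd_inf_relIndex _ S' _ hS'N hM' hS'idx
  have hsyl' : ∃ f' : ↥(S ⊓ Subgroup.normalizer (T : Set G) ⊓ Q) →* G, Function.Injective f' ∧
      ∀ r, f' r ∈ S' ⊓ Q.map (MulAut.conj g).toMonoidHom := by
    apply embed_of_conj (Q.map (MulAut.conj g).toMonoidHom) S' _ g hS'pg hRpg hidx'
    intro r hr
    rw [mem_cj]
    have e : g⁻¹ * (g * r * g⁻¹) * g = r := by group
    rw [e]; exact hRQ hr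
  obtain ⟨f', hf', hfm'⟩ := key_inj (Q.map (MulAut.conj g).toMonoidHom) Q
    (S ⊓ Subgroup.normalizer (T : Set G) ⊓ Q) S' (tight_base hQ) hint' hRQ hRNg hS'pg hRS' hS'M hsyl'
  have hcomm' := comm_lemma (Q.map (MulAut.conj g).toMonoidHom) Q
    (S ⊓ Subgroup.normalizer (T : Set G) ⊓ Q) S' hint' hRQ hRNg hS'pg hRS'
  have hr₀ : f ⟨t₀, ht₀⟩ ≠ 1 := by
    intro h
    have h' := (injective_iff_map_eq_one f).mp hf _ h
    exact ht₀1 (congrArg Subtype.val h')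
  have hR'A : S' ⊓ Subgroup.normalizer ((S ⊓ Subgroup.normalizer (T : Set G) ⊓ Q : Subgroup G) : Set G)
      ⊓ Q.map (MulAut.conj g).toMonoidHom ≤
      Q.map (MulAut.conj g).toMonoidHom ⊓ Subgroup.normalizer (Q : Set G) := by
    intro u hu
    refine Subgroup.mem_inf.mpr ⟨(Subgroup.mem_inf.mp hu).2, ?_⟩
    have hr₀R := hfm ⟨t₀, ht₀⟩
    refine tight_base hQ u (f ⟨t₀, ht₀⟩) (hRQ hr₀R) ?_ hr₀ (two_elt_of_mem hRpg hr₀R)
    have e : u * f ⟨t₀, ht₀⟩ * u⁻¹ = f ⟨t₀, ht₀⟩ := by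
      rw [← hcomm' _ hr₀R u hu]; group
    rw [e]; exact hRQ hr₀R
  have c1 := card_le_of_inj _ _ f' hf' hfm'
  have c2 := card_le_of_sylow_like _ T _ hT hR'A
    (hS'pg.to_le (inf_le_left.trans inf_le_left)) hTsyl.2
  have hiso := equiv_of_inj T _ f hf hfm (c1.trans c2)
  refine ⟨?_, ?_, ?_, ?_, hiso⟩
  · rw [Subgroup.eq_bot_iff_forall]
    intro y hy
    obtain ⟨h1, h2⟩ := Subgroup.mem_inf.mp hy
    exact hint y h2 (hTQg h1) (two_elt_of_mem hTsyl.1 h1)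
  · rw [Subgroup.eq_bot_iff_forall]
    intro y hy
    obtain ⟨h1, h2⟩ := Subgroup.mem_inf.mp hy
    exact hint y (hRQ h2) (hTQg h1) (two_elt_of_mem hTsyl.1 h1)
  · rw [Subgroup.commutator_eq_bot_iff_le_centralizer]
    intro t ht
    rw [Subgroup.mem_centralizer_iff]
    intro r hr
    exact (hcomm t ht r hr).symm
  · apply le_antisymm
    · exact sup_le (le_inf hTS Subgroup.le_normalizer) inf_le_left
    · intro w hw
      obtain ⟨r, hr, t, ht, rfl⟩ := dec_lemma Q T S hTN hTS hS w hw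
      rw [sup_comm]
      exact Subgroup.mul_mem_sup hr ht

end Cfsg.Agent.S1910
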