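import Mathlib
import Cfsg.Statements.S1921
import Cfsg.Agent.Lib_helper7_Comp

set_option autoImplicit false
open Cfsg
open scoped commutatorElement

namespace Cfsg.Agent.S1921

open Cfsg.Agent.helper7

theorem le_normalizer_of_conj_mem' {P : Type*} [Group P] {Q H : Subgroup P}
    (h : ∀ q ∈ Q, ∀ a ∈ H, q * a * q⁻¹ ∈ H) :
    Q ≤ Subgroup.normalizer (H : Set P) := by
  intro q hq
  rw [Subgroup.mem_normalizer_iff]
  intro a
  constructor
  · exact h q hq a
  · intro ha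
    have := h q⁻¹ (Q.inv_mem hq) _ ha
    have h2 : q⁻¹ * (q * a * q⁻¹) * q⁻¹⁻¹ = a := by group
    rwa [h2] at this

theorem result {H : Type*} [Group H] [Finite H] (a : H) (ha : orderOf a = 2) (L : Subgroup H) (hL : Cfsg.IsComponent L)
    (hLa : L.map (MulAut.conj a).toMonoidHom ≠ L) (x : H) (hxM : x ∈ L ⊔ L.map (MulAut.conj a).toMonoidHom)
    (hxJ : x ∉ Subgroup.closure {y : H | ∃ l ∈ L, y = l * (a * l * a⁻¹)} ⊔
      ((L ⊔ L.map (MulAut.conj a).toMonoidHom) ⊓ Subgroup.centralizer ((L ⊔ L.map (MulAut.conj a).toMonoidHom : Subgroup H) : Set H))) :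
    Subgroup.closure {y : H | ∃ l ∈ L, y = l * (a * l * a⁻¹)} ⊔ Subgroup.zpowers x = L ⊔ L.map (MulAut.conj a).toMonoidHom := by
  set L' := L.map (MulAut.conj a).toMonoidHom with hL'
  set J := Subgroup.closure {y : H | ∃ l ∈ L, y = l * (a * l * a⁻¹)} with hJ
  have hcomp : Comp L ⊤ := isComponent_iff.mp hL
  have hcomp' : Comp L' ⊤ := by
    have h := hcomp.conj a
    have htop : cj a (⊤ : Subgroup H) = ⊤ := by
      rw [eq_top_iff]; intro g _; exact mem_cj.mpr (Subgroup.mem_top _)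
    rwa [htop] at h
  have hcomm : ⁅L, L'⁆ = ⊥ := hcomp.comm_of_ne hcomp' (Ne.symm hLa)
  have hL'cent : L' ≤ Subgroup.centralizer (L : Set H) := le_centralizer_of_comm_eq_bot hcomm
  have hcommel : ∀ l ∈ L, ∀ l' ∈ L', l * l' = l' * l := fun l hl l' hl' =>
    Subgroup.mem_centralizer_iff.mp (hL'cent hl') l hl
  have hLE : L' ≤ Subgroup.normalizer (L : Set H) :=
    le_trans hL'cent (Subgroup.centralizer_le_normalizer _)
  have hx' : x ∈ ((L ⊔ L' : Subgroup H) : Set H) := hxM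
  rw [Subgroup.coe_mul_of_right_le_normalizer_left L L' hLE] at hx'
  obtain ⟨l1, hl1, l2', hl2', hx_eq⟩ := Set.mem_mul.mp hx'
  obtain ⟨l2, hl2, hl2eq⟩ := Subgroup.mem_map.mp hl2'
  have hl2eq' : a * l2 * a⁻¹ = l2' := hl2eq
  have hgen : ∀ l ∈ L, l * (a * l * a⁻¹) ∈ J := fun l hl => Subgroup.subset_closure ⟨l, hl, rfl⟩
  have hL'mem : ∀ l ∈ L, a * l * a⁻¹ ∈ L' := fun l hl => Subgroup.mem_map.mpr ⟨l, hl, rfl⟩
  set K := J ⊔ Subgroup.zpowers x with hK
  have hJK : J ≤ K := le_sup_left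
  have hxK : x ∈ K := Subgroup.mem_sup_right (Subgroup.mem_zpowers x)
  obtain ⟨y, hy⟩ : ∃ y, y = l1 * l2⁻¹ := ⟨_, rfl⟩
  have hyL : y ∈ L := by rw [hy]; exact L.mul_mem hl1 (L.inv_mem hl2)
  have hxy : x = y * (l2 * (a * l2 * a⁻¹)) := by
    rw [hy, ← hx_eq, ← hl2eq']; group
  have hyK : y ∈ K := by
    have h : y = x * (l2 * (a * l2 * a⁻¹))⁻¹ := by rw [hxy]; group
    rw [h]
    exact K.mul_mem hxK (K.inv_mem (hJK (hgen l2 hl2)))
  have hyncent : y ∉ Subgroup.centralizer (L : Set H) := by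
    intro hyc
    apply hxJ
    rw [hxy]
    have hyZ : y ∈ (L ⊔ L') ⊓ Subgroup.centralizer ((L ⊔ L' : Subgroup H) : Set H) := by
      refine Subgroup.mem_inf.mpr ⟨Subgroup.mem_sup_left hyL, ?_⟩
      have h1 : L ⊔ L' ≤ Subgroup.centralizer ({y} : Set H) := by
        apply sup_le
        · intro l hl
          rw [Subgroup.mem_centralizer_iff]
          intro z hz
          rw [Set.mem_singleton_iff.mp hz]
          exact (Subgroup.mem_centralizer_iff.mp hyc l hl).symm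
        · intro l' hl'
          rw [Subgroup.mem_centralizer_iff]
          intro z hz
          rw [Set.mem_singleton_iff.mp hz]
          exact hcommel y hyL l' hl'
      rw [Subgroup.mem_centralizer_iff]
      intro m hm
      have h2 := h1 hm
      rw [Subgroup.mem_centralizer_iff] at h2
      exact (h2 y rfl).symm
    exact Subgroup.mul_mem _ (Subgroup.mem_sup_right hyZ) (Subgroup.mem_sup_left (hgen l2 hl2))
  obtain ⟨N, hN⟩ : ∃ N : Subgroup H, N = Subgroup.closure {z : H | ∃ l ∈ L, z = l * y * l⁻¹} :=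
    ⟨_, rfl⟩
  have hNL : N ≤ L := by
    rw [hN, Subgroup.closure_le]
    rintro _ ⟨l, hl, rfl⟩
    exact L.mul_mem (L.mul_mem hl hyL) (L.inv_mem hl)
  have hmap : ∀ q ∈ L, N.map (MulAut.conj q).toMonoidHom ≤ N := by
    intro q hq
    rw [hN, MonoidHom.map_closure, Subgroup.closure_le]
    rintro _ ⟨_, ⟨l, hl, rfl⟩, rfl⟩
    apply Subgroup.subset_closure
    refine ⟨q * l, L.mul_mem hq hl, ?_⟩
    simp only [MulEquiv.coe_toMonoidHom, MulAut.conj_apply]; group
  have hLN : L ≤ Subgroup.normalizer (N : Set H) := by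
    apply le_normalizer_of_conj_mem'
    intro q hq n hn
    have h := hmap q hq (Subgroup.mem_map_of_mem _ hn)
    simpa using h
  have hyN : y ∈ N := by
    rw [hN]
    apply Subgroup.subset_closure
    exact ⟨1, L.one_mem, by group⟩
  have hNeq : N = L := by
    rcases hcomp.2.2.2 N hNL hLN with h | h
    · exact h
    · exact absurd (h hyN) hyncent
  have hNK : N ≤ K := by
    rw [hN, Subgroup.closure_le]
    rintro _ ⟨l, hl, rfl⟩
    have hc := hcommel y hyL (a * l * a⁻¹) (hL'mem l hl)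
    have e : l * y * l⁻¹ = (l * (a * l * a⁻¹)) * y * (l * (a * l * a⁻¹))⁻¹ := by
      have h : (a * l * a⁻¹) * y * (a * l * a⁻¹)⁻¹ = y := by rw [← hc]; group
      calc l * y * l⁻¹ = l * ((a * l * a⁻¹) * y * (a * l * a⁻¹)⁻¹) * l⁻¹ := by rw [h]
        _ = (l * (a * l * a⁻¹)) * y * (l * (a * l * a⁻¹))⁻¹ := by group
    show l * y * l⁻¹ ∈ K
    rw [e]
    exact K.mul_mem (K.mul_mem (hJK (hgen l hl)) hyK) (K.inv_mem (hJK (hgen l hl)))
  have hLK : L ≤ K := hNeq ▸ hNK
  have hL'K : L' ≤ K := by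
    rintro _ ⟨l, hl, rfl⟩
    have e : (MulAut.conj a).toMonoidHom l = l⁻¹ * (l * (a * l * a⁻¹)) := by
      simp only [MulEquiv.coe_toMonoidHom, MulAut.conj_apply]; group
    rw [e]
    exact K.mul_mem (K.inv_mem (hLK hl)) (hJK (hgen l hl))
  apply le_antisymm
  · apply sup_le
    · rw [hJ, Subgroup.closure_le]
      rintro _ ⟨l, hl, rfl⟩
      exact Subgroup.mul_mem _ (Subgroup.mem_sup_left hl) (Subgroup.mem_sup_right (hL'mem l hl))
    · rw [Subgroup.zpowers_le]; exact hxM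
  · exact sup_le hLK hL'K

end Cfsg.Agent.S1921
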