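import Cfsg.Statements.S1922
import Mathlib
import Cfsg.Agent.S0443
import Cfsg.Agent.Lib_helper6_Isolated
import Cfsg.Agent.Lib_helper10_Sylow

set_option autoImplicit false
open Cfsg
open Pointwise

namespace Cfsg.Agent.S1922

open Cfsg.Agent.helper6 (conj_pow_inv conj_pow_inv' conj_inv_pow' eq_sq_pow_of_odd)
open Cfsg.Agent.helper10 (mem_map_conj_iff pelement_conj_into_sylow_in_subgroup sylow_smul_eq_map_conj)

variable {G : Type*} [Group G]

theorem conj_sq {z : G} (hz2 : z * z = 1) (x : G) : (x * z * x⁻¹) * (x * z * x⁻¹) = 1 := by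
  have e : (x * z * x⁻¹) * (x * z * x⁻¹) = x * (z * z) * x⁻¹ := by group
  rw [e, hz2]; group

theorem dih_even_aux {a b : G} (ha : a * a = 1) (hb : b * b = 1) {m : ℕ}
    (hm : orderOf (a * b) = m + m) (hm0 : 0 < m) :
    (a * b) ^ m ≠ 1 ∧ (a * b) ^ m * (a * b) ^ m = 1 ∧ a * (a * b) ^ m = (a * b) ^ m * a ∧
      ∃ c, a * (a * b) ^ m = c * a * c⁻¹ ∨ a * (a * b) ^ m = c * b * c⁻¹ := by
  have hainv : a⁻¹ = a := inv_eq_of_mul_eq_one_left ha
  have hbinv : b⁻¹ = b := inv_eq_of_mul_eq_one_left hb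
  obtain ⟨u, hu⟩ : ∃ u, u = a * b := ⟨_, rfl⟩
  rw [← hu] at hm ⊢
  have hau : a * u * a⁻¹ = u⁻¹ := by
    rw [hu, mul_inv_rev, hbinv, hainv, ← mul_assoc, ha, one_mul]
  have hbu : b * u * b⁻¹ = u⁻¹ := by
    rw [hu, mul_inv_rev, hbinv, hainv, mul_assoc, mul_assoc, hb, mul_one]
  have hw1 : u ^ m ≠ 1 := by
    intro h
    have := Nat.le_of_dvd hm0 (orderOf_dvd_of_pow_eq_one h)
    omega
  have hw2 : u ^ m * u ^ m = 1 := by
    rw [← pow_add, ← hm, pow_orderOf_eq_one]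
  have hwinv : (u ^ m)⁻¹ = u ^ m := inv_eq_of_mul_eq_one_left hw2
  have haw : a * u ^ m = u ^ m * a := by
    have := conj_pow_inv' hau m
    rw [hwinv] at this
    exact this
  refine ⟨hw1, hw2, haw, ?_⟩
  rcases Nat.even_or_odd' m with ⟨k, hk | hk⟩
  · refine ⟨u ^ k, Or.inl ?_⟩
    have h1 := conj_inv_pow' hau k
    have e : u ^ k * a * (u ^ k)⁻¹ = u ^ k * (a * (u ^ k)⁻¹) := by group
    rw [e, h1, ← mul_assoc, ← pow_add, haw, hk, two_mul]
  · refine ⟨(u ^ k)⁻¹, Or.inr ?_⟩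
    have h1 := conj_pow_inv' hbu k
    have h2 := conj_pow_inv' hbu (k + k)
    have h3 : a * u ^ m = b * u ^ (k + k) := by
      rw [hk, show 2 * k + 1 = 1 + (k + k) by ring, pow_add, pow_one, hu, ← mul_assoc,
        ← mul_assoc, ha, one_mul]
    rw [h3, h2, inv_inv, mul_assoc, h1, ← mul_assoc, pow_add, mul_inv_rev]

theorem dih_even [Finite G] {a b : G} (ha : a * a = 1) (hb : b * b = 1)
    (heven : ¬ Odd (orderOf (a * b))) :
    ∃ w, w ≠ 1 ∧ w * w = 1 ∧ a * w = w * a ∧ b * w = w * b ∧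
      (∃ c, a * w = c * a * c⁻¹ ∨ a * w = c * b * c⁻¹) ∧
      (∃ c, b * w = c * a * c⁻¹ ∨ b * w = c * b * c⁻¹) := by
  have hainv : a⁻¹ = a := inv_eq_of_mul_eq_one_left ha
  have hbinv : b⁻¹ = b := inv_eq_of_mul_eq_one_left hb
  rw [Nat.not_odd_iff_even] at heven
  obtain ⟨m, hm⟩ := heven
  have hpos : 0 < orderOf (a * b) := orderOf_pos (a * b)
  have hm0 : 0 < m := by omega
  have hba : b * a = (a * b)⁻¹ := by rw [mul_inv_rev, hbinv, hainv]
  have hm' : orderOf (b * a) = m + m := by rw [hba, orderOf_inv]; exact hm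
  obtain ⟨h1, h2, h3, h4⟩ := dih_even_aux ha hb hm hm0
  obtain ⟨-, -, h3', h4'⟩ := dih_even_aux hb ha hm' hm0
  have hw : (b * a) ^ m = (a * b) ^ m := by
    rw [hba, inv_pow]; exact inv_eq_of_mul_eq_one_left h2
  rw [hw] at h3' h4'
  obtain ⟨c, hc⟩ := h4'
  exact ⟨(a * b) ^ m, h1, h2, h3, h3', h4, c, hc.symm⟩

theorem conj_of_inverts {a x : G} (h : a * x * a⁻¹ = x⁻¹) : x * a * x⁻¹ = x * x * a := by
  have h' : a * x⁻¹ = x * a := by
    calc a * x⁻¹ = (a * x * a⁻¹)⁻¹ * a := by group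
      _ = x * a := by rw [h, inv_inv]
  calc x * a * x⁻¹ = x * (a * x⁻¹) := by group
    _ = x * (x * a) := by rw [h']
    _ = x * x * a := by group

theorem dih_odd {a b : G} (ha : a * a = 1) (hb : b * b = 1) (hodd : Odd (orderOf (b * a))) :
    ∃ c : G, (c * a * c⁻¹) * a * (c * a * c⁻¹)⁻¹ = b := by
  have hainv : a⁻¹ = a := inv_eq_of_mul_eq_one_left ha
  have hbinv : b⁻¹ = b := inv_eq_of_mul_eq_one_left hb
  obtain ⟨v, hv⟩ : ∃ v, v = b * a := ⟨_, rfl⟩
  rw [← hv] at hodd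
  obtain ⟨m, hm⟩ := hodd
  have hav : a * v * a⁻¹ = v⁻¹ := by
    rw [hv, mul_inv_rev, hbinv, hainv, mul_assoc, mul_assoc, ha, mul_one]
  have hv1 : v ^ (2 * m + 1) = 1 := by rw [← hm]; exact pow_orderOf_eq_one v
  obtain ⟨k, hk⟩ : ∃ k, k = v ^ (m + 1) := ⟨_, rfl⟩
  have hkk : k * k = v := by
    rw [hk, ← pow_add, show m + 1 + (m + 1) = (2 * m + 1) + 1 by ring, pow_succ, hv1, one_mul]
  have hk1 : k ^ (2 * m + 1) = 1 := by
    rw [hk, ← pow_mul, mul_comm (m + 1) (2 * m + 1), pow_mul, hv1, one_pow]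
  obtain ⟨j, hj⟩ : ∃ j, j = k ^ (m + 1) := ⟨_, rfl⟩
  have hjj : j * j = k := by
    rw [hj, ← pow_add, show m + 1 + (m + 1) = (2 * m + 1) + 1 by ring, pow_succ, hk1, one_mul]
  have hak : a * k * a⁻¹ = k⁻¹ := by rw [hk]; exact conj_pow_inv hav (m + 1)
  have haj : a * j * a⁻¹ = j⁻¹ := by rw [hj]; exact conj_pow_inv hak (m + 1)
  refine ⟨j, ?_⟩
  have e1 : j * a * j⁻¹ = k * a := by rw [conj_of_inverts haj, hjj]
  have e2 : k * a * k⁻¹ = v * a := by rw [conj_of_inverts hak, hkk]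
  rw [e1]
  calc k * a * a * (k * a)⁻¹ = k * a * k⁻¹ := by group
    _ = v * a := e2
    _ = b := by rw [hv, mul_assoc, ha, mul_one]

theorem eq_one_of_sq_odd {t : G} (h2 : t * t = 1) {n : ℕ} (hn : Odd n) (h : t ^ n = 1) : t = 1 := by
  obtain ⟨k, rfl⟩ := hn
  rw [pow_succ, pow_mul, pow_two, h2, one_pow, one_mul] at h
  exact h

theorem eq_of_sq_eq_of_odd {x y : G} (hx : Odd (orderOf x)) (hy : Odd (orderOf y))
    (h : x * x = y * y) : x = y := by
  have e2 := eq_sq_pow_of_odd hy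
  rw [← h] at e2
  have hcomm : Commute x y := by
    rw [e2]
    exact ((Commute.refl x).mul_right (Commute.refl x)).pow_right _
  have hc' : y * x⁻¹ = x⁻¹ * y := (hcomm.inv_left.eq).symm
  have ht2 : (x⁻¹ * y) * (x⁻¹ * y) = 1 := by
    have e : (x⁻¹ * y) * (x⁻¹ * y) = (x * x)⁻¹ * (y * y) := by
      calc (x⁻¹ * y) * (x⁻¹ * y) = x⁻¹ * (y * x⁻¹) * y := by group
        _ = x⁻¹ * (x⁻¹ * y) * y := by rw [hc']
        _ = (x * x)⁻¹ * (y * y) := by group
    rw [e, h]; group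
  have h1 : (x⁻¹) ^ (orderOf x * orderOf y) = 1 := by
    rw [inv_pow, pow_mul, pow_orderOf_eq_one, one_pow, inv_one]
  have h2 : y ^ (orderOf x * orderOf y) = 1 := by
    rw [mul_comm, pow_mul, pow_orderOf_eq_one, one_pow]
  have htn : (x⁻¹ * y) ^ (orderOf x * orderOf y) = 1 := by
    rw [(hcomm.inv_left).mul_pow, h1, h2, one_mul]
  have ht1 : x⁻¹ * y = 1 := eq_one_of_sq_odd ht2 (hx.mul hy) htn
  calc x = x * (x⁻¹ * y) := by rw [ht1, mul_one]
    _ = y := by group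

theorem odd_card_of_involution {α : Type*} [Finite α] (f : α → α) (hf : ∀ x, f (f x) = x)
    (x₀ : α) (hfix : ∀ x, f x = x ↔ x = x₀) : Odd (Nat.card α) := by
  classical
  haveI : Fintype α := Fintype.ofFinite α
  haveI : Fact (Nat.Prime 2) := ⟨Nat.prime_two⟩
  let F : Function.End α := f
  have h1 : F ^ 2 ^ 1 = 1 := by
    rw [pow_one, pow_two]
    funext x
    exact hf x
  have h2 := Equiv.Perm.card_fixedPoints_modEq (f := F) (p := 2) (n := 1) h1
  have h3 : ∀ (inst : Fintype (Function.fixedPoints F)),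
      @Fintype.card _ inst = 1 := by
    intro inst
    rw [Fintype.card_eq_one_iff]
    refine ⟨⟨x₀, (hfix x₀).mpr rfl⟩, fun y => ?_⟩
    apply Subtype.ext
    exact (hfix y.1).mp y.2
  rw [h3] at h2
  rw [Nat.card_eq_fintype_card, Nat.odd_iff]
  exact h2

/-- conjugation action of a subgroup on a conjugation-invariant family of elements -/
def conjSubAct (K : Subgroup G) (p : G → Prop)
    (hp : ∀ k ∈ K, ∀ x, p x → p (k * x * k⁻¹)) : MulAction ↥K {x : G // p x} where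
  smul k x := ⟨k.1 * x.1 * k.1⁻¹, hp k.1 k.2 x.1 x.2⟩
  one_smul x := by
    apply Subtype.ext
    show (1 : G) * x.1 * (1 : G)⁻¹ = x.1
    group
  mul_smul k k' x := by
    apply Subtype.ext
    show (k.1 * k'.1) * x.1 * (k.1 * k'.1)⁻¹ = k.1 * (k'.1 * x.1 * k'.1⁻¹) * k.1⁻¹
    group

theorem isPGroup_zpowers_of_sq (w : G) (h : w * w = 1) : IsPGroup 2 (Subgroup.zpowers w) := by
  haveI : Fact (Nat.Prime 2) := ⟨Nat.prime_two⟩
  rw [IsPGroup.iff_orderOf]
  intro x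
  obtain ⟨x, hx⟩ := x
  have hdvd : orderOf x ∣ 2 :=
    (orderOf_dvd_of_mem_zpowers hx).trans (orderOf_dvd_of_pow_eq_one (by rw [pow_two]; exact h))
  rcases (Nat.dvd_prime Nat.prime_two).1 hdvd with h1 | h2
  · refine ⟨0, ?_⟩
    rw [Subgroup.orderOf_mk, h1, pow_zero]
  · refine ⟨1, ?_⟩
    rw [Subgroup.orderOf_mk, h2, pow_one]

theorem two_central [Finite G] (z : G) (hz : orderOf z = 2) (H : Subgroup G) (hH : H ≠ ⊤)
    (h0 : ∀ g : G, g⁻¹ * z * g ∈ H ↔ g ∈ H)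
    (h1 : ∀ t : G, IsConj z t → t ≠ z → t * z = z * t →
      ∀ g : G, g⁻¹ * (z * t) * g ∈ H ↔ g ∈ H) :
    ∃ P : Sylow 2 G, z ∈ (Subgroup.center ↥(P : Subgroup G)).map (P : Subgroup G).subtype := by
  haveI : Fact (Nat.Prime 2) := ⟨Nat.prime_two⟩
  have hz2 : z * z = 1 := by rw [← pow_two, ← hz]; exact pow_orderOf_eq_one z
  have hzH : z ∈ H := by
    have := (h0 1).mpr H.one_mem
    simpa using this
  have hCz : ∀ x : G, x * z = z * x → x ∈ H := by
    intro x hx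
    rw [← h0 x]
    have e : x⁻¹ * z * x = z := by rw [mul_assoc, ← hx]; group
    rw [e]; exact hzH
  have hconj : ∀ x g : G, g⁻¹ * (x * z * x⁻¹) * g ∈ H ↔ x⁻¹ * g ∈ H := by
    intro x g
    rw [← h0 (x⁻¹ * g)]
    have e : (x⁻¹ * g)⁻¹ * z * (x⁻¹ * g) = g⁻¹ * (x * z * x⁻¹) * g := by group
    rw [e]
  have hconjH : ∀ x : G, x * z * x⁻¹ ∈ H ↔ x ∈ H := by
    intro x
    have := hconj x 1
    simp only [inv_one, one_mul, mul_one] at this
    rw [this]
    exact inv_mem_iff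
  have hinvol : ∀ u : G, IsConj z u → u * u = 1 := by
    intro u hu
    obtain ⟨y, rfl⟩ := isConj_iff.mp hu
    exact conj_sq hz2 y
  have hgen : ∀ x t : G, IsConj z t → t ≠ x * z * x⁻¹ →
      t * (x * z * x⁻¹) = (x * z * x⁻¹) * t →
      ∀ g : G, g⁻¹ * ((x * z * x⁻¹) * t) * g ∈ H ↔ x⁻¹ * g ∈ H := by
    intro x t ht hne hc g
    have ht0 : IsConj z (x⁻¹ * t * x) := by
      obtain ⟨y, hy⟩ := isConj_iff.mp ht
      exact isConj_iff.mpr ⟨x⁻¹ * y, by rw [← hy]; group⟩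
    have hne0 : x⁻¹ * t * x ≠ z := by
      intro h
      apply hne
      rw [← h]; group
    have hc0 : (x⁻¹ * t * x) * z = z * (x⁻¹ * t * x) := by
      have e1 : (x⁻¹ * t * x) * z = x⁻¹ * (t * (x * z * x⁻¹)) * x := by group
      have e2 : z * (x⁻¹ * t * x) = x⁻¹ * ((x * z * x⁻¹) * t) * x := by group
      rw [e1, e2, hc]
    have h3 := h1 _ ht0 hne0 hc0 (x⁻¹ * g)
    rw [← h3]
    have e : (x⁻¹ * g)⁻¹ * (z * (x⁻¹ * t * x)) * (x⁻¹ * g) = g⁻¹ * ((x * z * x⁻¹) * t) * g := by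
      group
    rw [e]
  have hstar : ∀ x y : G, x⁻¹ * y ∉ H → Odd (orderOf ((x * z * x⁻¹) * (y * z * y⁻¹))) := by
    intro x y hxy
    by_contra heven
    obtain ⟨w, hw1, hw2, haw, hbw, ⟨c₁, hc₁⟩, ⟨c₂, hc₂⟩⟩ :=
      dih_even (conj_sq hz2 x) (conj_sq hz2 y) heven
    have hta : IsConj z ((x * z * x⁻¹) * w) := by
      rcases hc₁ with h | h
      · rw [h]; exact isConj_iff.mpr ⟨c₁ * x, by group⟩
      · rw [h]; exact isConj_iff.mpr ⟨c₁ * y, by group⟩
    have htb : IsConj z ((y * z * y⁻¹) * w) := by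
      rcases hc₂ with h | h
      · rw [h]; exact isConj_iff.mpr ⟨c₂ * x, by group⟩
      · rw [h]; exact isConj_iff.mpr ⟨c₂ * y, by group⟩
    have hnea : (x * z * x⁻¹) * w ≠ x * z * x⁻¹ := by
      intro h
      apply hw1
      exact mul_left_cancel (a := x * z * x⁻¹) (by rw [h, mul_one])
    have hneb : (y * z * y⁻¹) * w ≠ y * z * y⁻¹ := by
      intro h
      apply hw1
      exact mul_left_cancel (a := y * z * y⁻¹) (by rw [h, mul_one])
    have hca : (x * z * x⁻¹) * w * (x * z * x⁻¹) = (x * z * x⁻¹) * ((x * z * x⁻¹) * w) := by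
      rw [mul_assoc, ← haw]
    have hcb : (y * z * y⁻¹) * w * (y * z * y⁻¹) = (y * z * y⁻¹) * ((y * z * y⁻¹) * w) := by
      rw [mul_assoc, ← hbw]
    have h3 := hgen x _ hta hnea hca x
    have h4 := hgen y _ htb hneb hcb x
    have ea : (x * z * x⁻¹) * ((x * z * x⁻¹) * w) = w := by
      rw [← mul_assoc, conj_sq hz2 x, one_mul]
    have eb : (y * z * y⁻¹) * ((y * z * y⁻¹) * w) = w := by
      rw [← mul_assoc, conj_sq hz2 y, one_mul]
    rw [ea] at h3
    rw [eb] at h4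
    have h5 : x⁻¹ * w * x ∈ H := h3.mpr (by rw [inv_mul_cancel]; exact H.one_mem)
    have h6 : y⁻¹ * x ∈ H := h4.mp h5
    apply hxy
    have e : x⁻¹ * y = (y⁻¹ * x)⁻¹ := by group
    rw [e]; exact H.inv_mem h6
  -- a conjugate of z outside H
  obtain ⟨x₀, hx₀⟩ : ∃ x₀ : G, x₀ ∉ H := by
    by_contra hcon
    push Not at hcon
    exact hH ((Subgroup.eq_top_iff' H).mpr hcon)
  obtain ⟨c, hc⟩ : ∃ c, c = x₀ * z * x₀⁻¹ := ⟨_, rfl⟩
  have hc2 : c * c = 1 := by rw [hc]; exact conj_sq hz2 x₀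
  have hcinv : c⁻¹ = c := inv_eq_of_mul_eq_one_left hc2
  have hcH : c ∉ H := by rw [hc, hconjH]; exact hx₀
  have hcconj : IsConj z c := by rw [hc]; exact isConj_iff.mpr ⟨x₀, rfl⟩
  obtain ⟨b, hb⟩ : ∃ b, b = c * z * c⁻¹ := ⟨_, rfl⟩
  have hb2 : b * b = 1 := by rw [hb]; exact conj_sq hz2 c
  -- E is odd
  have hoddE : Odd (Nat.card {u : G // IsConj z u ∧ c⁻¹ * u ∈ H}) := by
    have hmem : ∀ u : {u : G // IsConj z u ∧ c⁻¹ * u ∈ H},
        IsConj z (c * u.1 * c⁻¹) ∧ c⁻¹ * (c * u.1 * c⁻¹) ∈ H := by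
      intro u
      refine ⟨?_, ?_⟩
      · obtain ⟨y, hy⟩ := isConj_iff.mp u.2.1
        exact isConj_iff.mpr ⟨c * y, by rw [← hy]; group⟩
      · have hu2 : u.1 * u.1 = 1 := hinvol u.1 u.2.1
        have huinv : u.1⁻¹ = u.1 := inv_eq_of_mul_eq_one_left hu2
        have e : c⁻¹ * (c * u.1 * c⁻¹) = (c⁻¹ * u.1)⁻¹ := by
          have e1 : c⁻¹ * (c * u.1 * c⁻¹) = u.1 * c⁻¹ := by group
          have e2 : (c⁻¹ * u.1)⁻¹ = u.1⁻¹ * c := by group
          rw [e1, e2, huinv]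
          exact congrArg (fun t => u.1 * t) hcinv
        rw [e]; exact H.inv_mem u.2.2
    refine odd_card_of_involution (fun u => ⟨c * u.1 * c⁻¹, hmem u⟩) ?_
      ⟨c, hcconj, by rw [inv_mul_cancel]; exact H.one_mem⟩ ?_
    · intro u
      apply Subtype.ext
      show c * (c * u.1 * c⁻¹) * c⁻¹ = u.1
      calc c * (c * u.1 * c⁻¹) * c⁻¹ = (c * c) * u.1 * (c * c)⁻¹ := by group
        _ = u.1 := by rw [hc2]; group
    · intro u
      constructor
      · intro hfix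
        have hfix' : c * u.1 * c⁻¹ = u.1 := congrArg Subtype.val hfix
        by_contra hne
        have hne' : u.1 ≠ c := fun h => hne (Subtype.ext h)
        have hcomm : u.1 * c = c * u.1 := by
          calc u.1 * c = (c * u.1 * c⁻¹) * c := by rw [hfix']
            _ = c * u.1 := by group
        have h3 := hgen x₀ u.1 u.2.1 (by rw [← hc]; exact hne') (by rw [← hc]; exact hcomm) 1
        rw [← hc] at h3
        have h4 : x₀⁻¹ * 1 ∈ H := h3.mp (by
          have e : (1 : G)⁻¹ * (c * u.1) * 1 = c * u.1 := by group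
          have e' : c * u.1 = c⁻¹ * u.1 := congrArg (fun t => t * u.1) hcinv.symm
          rw [e, e']; exact u.2.2)
        rw [mul_one] at h4
        exact hx₀ (inv_mem_iff.mp h4)
      · intro h
        subst h
        apply Subtype.ext
        show c * c * c⁻¹ = c
        group
  -- the two injections
  have hPhi : ∀ a : {a : G // IsConj z a ∧ a ∈ H},
      ∃ u : {u : G // IsConj z u ∧ c⁻¹ * u ∈ H}, u.1 * a.1 * u.1⁻¹ = b := by
    intro a
    obtain ⟨y, hy⟩ := isConj_iff.mp a.2.1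
    have hyH : y ∈ H := by rw [← hconjH y, hy]; exact a.2.2
    have ha2 : a.1 * a.1 = 1 := hinvol a.1 a.2.1
    have hcy : c⁻¹ * y ∉ H := by
      intro h
      apply hcH
      have e : c = y * (c⁻¹ * y)⁻¹ := by group
      rw [e]; exact H.mul_mem hyH (H.inv_mem h)
    have hodd : Odd (orderOf (b * a.1)) := by
      have h3 := hstar c y hcy
      rw [← hb, hy] at h3
      exact h3
    obtain ⟨c', hc'⟩ := dih_odd ha2 hb2 hodd
    refine ⟨⟨c' * a.1 * c'⁻¹, ?_, ?_⟩, hc'⟩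
    · exact isConj_iff.mpr ⟨c' * y, by rw [← hy]; group⟩
    · have hg : (c⁻¹ * (c' * a.1 * c'⁻¹) * y) * z = z * (c⁻¹ * (c' * a.1 * c'⁻¹) * y) := by
        have e1 : (c⁻¹ * (c' * a.1 * c'⁻¹) * y) * z
            = c⁻¹ * ((c' * a.1 * c'⁻¹) * (y * z * y⁻¹) * (c' * a.1 * c'⁻¹)⁻¹)
              * (c' * a.1 * c'⁻¹) * y := by group
        rw [e1, hy, hc', hb]; group
      have hgH := hCz _ hg
      have e : c⁻¹ * (c' * a.1 * c'⁻¹) = (c⁻¹ * (c' * a.1 * c'⁻¹) * y) * y⁻¹ := by group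
      rw [e]; exact H.mul_mem hgH (H.inv_mem hyH)
  have hPsi : ∀ u : {u : G // IsConj z u ∧ c⁻¹ * u ∈ H},
      ∃ a : {a : G // IsConj z a ∧ a ∈ H}, a.1 = u.1 * b * u.1⁻¹ := by
    intro u
    have hu2 : u.1 * u.1 = 1 := hinvol u.1 u.2.1
    have huinv : u.1⁻¹ = u.1 := inv_eq_of_mul_eq_one_left hu2
    refine ⟨⟨u.1 * b * u.1⁻¹, ?_, ?_⟩, rfl⟩
    · exact isConj_iff.mpr ⟨u.1 * c, by rw [hb]; group⟩
    · have e : u.1 * b * u.1⁻¹ = (u.1 * c) * z * (u.1 * c)⁻¹ := by rw [hb]; group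
      rw [e, hconjH]
      have e2 : u.1 * c = (c⁻¹ * u.1)⁻¹ := by
        rw [mul_inv_rev, inv_inv, huinv]
      rw [e2]; exact H.inv_mem u.2.2
  choose Φ hΦ using hPhi
  choose Ψ hΨ using hPsi
  have hΦinj : Function.Injective Φ := by
    intro a a' h
    apply Subtype.ext
    have h3 := hΦ a
    have h4 := hΦ a'
    rw [h] at h3
    have h5 : (Φ a').1 * a.1 * (Φ a').1⁻¹ = (Φ a').1 * a'.1 * (Φ a').1⁻¹ := by rw [h3, h4]
    exact mul_left_cancel (mul_right_cancel h5)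
  have hΨinj : Function.Injective Ψ := by
    intro u u' h
    apply Subtype.ext
    have h3 := hΨ u
    have h4 := hΨ u'
    rw [h] at h3
    have h5 : u.1 * b * u.1⁻¹ = u'.1 * b * u'.1⁻¹ := by rw [← h3, ← h4]
    have hoddu : ∀ v : {u : G // IsConj z u ∧ c⁻¹ * u ∈ H}, Odd (orderOf (v.1 * b)) := by
      intro v
      obtain ⟨y, hy⟩ := isConj_iff.mp v.2.1
      have hyc : y⁻¹ * c ∉ H := by
        intro hh
        apply hcH
        have h6 : (y⁻¹ * c)⁻¹ * z * (y⁻¹ * c) ∈ H := (h0 _).mpr hh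
        have e5 : (y⁻¹ * c)⁻¹ * z * (y⁻¹ * c) = c⁻¹ * v.1 * c := by rw [← hy]; group
        rw [e5] at h6
        have e6 : c = (c⁻¹ * v.1)⁻¹ * (c⁻¹ * v.1 * c) := by group
        rw [e6]; exact H.mul_mem (H.inv_mem v.2.2) h6
      have h7 := hstar y c hyc
      rw [hy, ← hb] at h7
      exact h7
    have hsq : (u.1 * b) * (u.1 * b) = (u'.1 * b) * (u'.1 * b) := by
      have hu2 : u.1 * u.1 = 1 := hinvol u.1 u.2.1
      have huinv : u.1⁻¹ = u.1 := inv_eq_of_mul_eq_one_left hu2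
      have hu2' : u'.1 * u'.1 = 1 := hinvol u'.1 u'.2.1
      have huinv' : u'.1⁻¹ = u'.1 := inv_eq_of_mul_eq_one_left hu2'
      rw [huinv, huinv'] at h5
      calc (u.1 * b) * (u.1 * b) = (u.1 * b * u.1) * b := by group
        _ = (u'.1 * b * u'.1) * b := by rw [h5]
        _ = (u'.1 * b) * (u'.1 * b) := by group
    have h8 := eq_of_sq_eq_of_odd (hoddu u) (hoddu u') hsq
    exact mul_right_cancel h8
  have hcard : Nat.card {a : G // IsConj z a ∧ a ∈ H}
      = Nat.card {u : G // IsConj z u ∧ c⁻¹ * u ∈ H} :=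
    le_antisymm (Nat.card_le_card_of_injective Φ hΦinj) (Nat.card_le_card_of_injective Ψ hΨinj)
  have hoddD : Odd (Nat.card {a : G // IsConj z a ∧ a ∈ H}) := by rw [hcard]; exact hoddE
  -- index of H is odd
  have hoddI : Odd (Nat.card (G ⧸ H)) := by
    refine odd_card_of_involution (fun q => z • q) ?_ ((1 : G) : G ⧸ H) ?_
    · intro q
      show z • z • q = q
      rw [smul_smul, hz2, one_smul]
    · intro q
      refine QuotientGroup.induction_on q ?_
      intro g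
      show ((z * g : G) : G ⧸ H) = (g : G ⧸ H) ↔ (g : G ⧸ H) = ((1 : G) : G ⧸ H)
      rw [QuotientGroup.eq, QuotientGroup.eq]
      have e : (z * g)⁻¹ * g = (g⁻¹ * z * g)⁻¹ := by group
      rw [e, inv_mem_iff, h0, mul_one, inv_mem_iff]
  have hnd : ¬ 2 ∣ Nat.card (G ⧸ H) := by
    intro h; exact (Nat.not_even_iff_odd.mpr hoddI) (even_iff_two_dvd.mpr h)
  obtain ⟨P₀⟩ : Nonempty (Sylow 2 G) := inferInstance
  obtain ⟨q, hq⟩ := P₀.isPGroup'.nonempty_fixed_point_of_prime_not_dvd_card (G ⧸ H) hnd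
  rw [MulAction.mem_fixedPoints] at hq
  revert hq
  refine QuotientGroup.induction_on q ?_
  intro g hq
  have hP₀H : ∀ k ∈ (P₀ : Subgroup G), g⁻¹ * k * g ∈ H := by
    intro k hk
    have h3 := hq ⟨k⁻¹, inv_mem hk⟩
    have h4 : ((k⁻¹ * g : G) : G ⧸ H) = (g : G ⧸ H) := h3
    rw [QuotientGroup.eq] at h4
    have e : (k⁻¹ * g)⁻¹ * g = g⁻¹ * k * g := by group
    rw [e] at h4; exact h4
  have hPH : ((g⁻¹ • P₀ : Sylow 2 G) : Subgroup G) ≤ H := by
    intro p hp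
    rw [sylow_smul_eq_map_conj, mem_map_conj_iff, inv_inv] at hp
    have h3 := hP₀H _ hp
    have e : g⁻¹ * (g * p * g⁻¹) * g = p := by group
    rw [e] at h3; exact h3
  obtain ⟨P, hP⟩ : ∃ P : Sylow 2 G, (P : Subgroup G) ≤ H := ⟨_, hPH⟩
  letI act : MulAction ↥(P : Subgroup G) {a : G // IsConj z a ∧ a ∈ H} :=
    conjSubAct (P : Subgroup G) (fun a => IsConj z a ∧ a ∈ H) (by
      intro k hk a ha
      refine ⟨?_, H.mul_mem (H.mul_mem (hP hk) ha.2) (H.inv_mem (hP hk))⟩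
      obtain ⟨y, hy⟩ := isConj_iff.mp ha.1
      exact isConj_iff.mpr ⟨k * y, by rw [← hy]; group⟩)
  have hndD : ¬ 2 ∣ Nat.card {a : G // IsConj z a ∧ a ∈ H} := by
    intro h; exact (Nat.not_even_iff_odd.mpr hoddD) (even_iff_two_dvd.mpr h)
  obtain ⟨a, ha⟩ := P.isPGroup'.nonempty_fixed_point_of_prime_not_dvd_card
    {a : G // IsConj z a ∧ a ∈ H} hndD
  rw [MulAction.mem_fixedPoints] at ha
  obtain ⟨y, hy⟩ := isConj_iff.mp a.2.1
  have hcent : ∀ p ∈ ((y⁻¹ • P : Sylow 2 G) : Subgroup G), p * z = z * p := by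
    intro p hp
    rw [sylow_smul_eq_map_conj, mem_map_conj_iff, inv_inv] at hp
    have h3 := ha ⟨y * p * y⁻¹, hp⟩
    have h4 : (y * p * y⁻¹) * a.1 * (y * p * y⁻¹)⁻¹ = a.1 := congrArg Subtype.val h3
    rw [← hy] at h4
    have h5 : y * (p * z * p⁻¹) * y⁻¹ = y * z * y⁻¹ := by
      rw [← h4]; group
    have h6 : p * z * p⁻¹ = z := mul_left_cancel (mul_right_cancel h5)
    calc p * z = (p * z * p⁻¹) * p := by group
      _ = z * p := by rw [h6]
  have hle : ((y⁻¹ • P : Sylow 2 G) : Subgroup G) ≤ Subgroup.centralizer ({z} : Set G) := by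
    intro p hp
    rw [Subgroup.mem_centralizer_iff]
    intro h hh
    rw [Set.mem_singleton_iff] at hh
    rw [hh]
    exact (hcent p hp).symm
  have hzP := Cfsg.Agent.S0443.mem_sylow_of_centralizes z hz (y⁻¹ • P) hle
  refine ⟨y⁻¹ • P, ⟨⟨z, hzP⟩, Subgroup.mem_center_iff.mpr ?_, rfl⟩⟩
  intro p
  apply Subtype.ext
  exact hcent p.1 p.2

/-- Let z be an involution of a finite group G and H a proper subgroup such that z lies in gHg⁻¹ exactly when g ∈ H. Then the following are equivalent: (1) for every conjugate t ≠ z of z commuting with z, the product zt lies in gHg⁻¹ exactly when g ∈ H; (2) z lies in the centre of some Sylow 2-subgroup of G, and for every conjugate t ≠ z of z commuting with z, the centralizer of zt is contained in H. -/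
theorem result {G : Type*} [Group G] [Finite G] (z : G) (hz : orderOf z = 2) (H : Subgroup G) (hH : H ≠ ⊤)
    (h0 : ∀ g : G, z ∈ H.map (MulAut.conj g).toMonoidHom ↔ g ∈ H) :
    (∀ t : G, IsConj z t → t ≠ z → t * z = z * t → ∀ g : G, z * t ∈ H.map (MulAut.conj g).toMonoidHom ↔ g ∈ H) ↔
      ((∃ P : Sylow 2 G, z ∈ (Subgroup.center ↥(P : Subgroup G)).map (P : Subgroup G).subtype) ∧
        ∀ t : G, IsConj z t → t ≠ z → t * z = z * t → Subgroup.centralizer ({z * t} : Set G) ≤ H) := by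
  haveI : Fact (Nat.Prime 2) := ⟨Nat.prime_two⟩
  have hz2 : z * z = 1 := by rw [← pow_two, ← hz]; exact pow_orderOf_eq_one z
  have h0' : ∀ g : G, g⁻¹ * z * g ∈ H ↔ g ∈ H := by
    intro g; rw [← mem_map_conj_iff]; exact h0 g
  have hzH : z ∈ H := by
    have := (h0' 1).mpr H.one_mem
    simpa using this
  have hCz : ∀ x : G, x * z = z * x → x ∈ H := by
    intro x hx
    rw [← h0' x]
    have e : x⁻¹ * z * x = z := by rw [mul_assoc, ← hx]; group
    rw [e]; exact hzH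
  constructor
  · intro h1
    have h1' : ∀ t : G, IsConj z t → t ≠ z → t * z = z * t →
        ∀ g : G, g⁻¹ * (z * t) * g ∈ H ↔ g ∈ H := by
      intro t ht htz hc g
      rw [← mem_map_conj_iff]; exact h1 t ht htz hc g
    refine ⟨two_central z hz H hH h0' h1', ?_⟩
    intro t ht htz hc x hx
    rw [Subgroup.mem_centralizer_iff] at hx
    have hx' := hx (z * t) rfl
    rw [← h1' t ht htz hc x]
    have e : x⁻¹ * (z * t) * x = z * t := by rw [mul_assoc, hx']; group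
    rw [e]
    have h3 := (h1' t ht htz hc 1).mpr H.one_mem
    simpa using h3
  · rintro ⟨⟨P, hP⟩, h2⟩
    obtain ⟨w, hw, hwz⟩ := hP
    have hPc : ∀ p ∈ (P : Subgroup G), p * z = z * p := by
      intro p hp
      have h3 := Subgroup.mem_center_iff.mp hw ⟨p, hp⟩
      have h4 : p * w.1 = w.1 * p := congrArg Subtype.val h3
      have hwz' : w.1 = z := hwz
      rw [hwz'] at h4; exact h4
    have hPH : (P : Subgroup G) ≤ H := fun p hp => hCz p (hPc p hp)
    intro t ht htz hc g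
    rw [mem_map_conj_iff]
    have ht2 : t * t = 1 := by
      obtain ⟨y, rfl⟩ := isConj_iff.mp ht
      exact conj_sq hz2 y
    have htH : t ∈ H := hCz t hc
    constructor
    · intro hw'
      have hw2 : (g⁻¹ * (z * t) * g) * (g⁻¹ * (z * t) * g) = 1 := by
        have e : (g⁻¹ * (z * t) * g) * (g⁻¹ * (z * t) * g) = g⁻¹ * (z * (t * z) * t) * g := by
          group
        rw [e, hc]
        have e2 : g⁻¹ * (z * (z * t) * t) * g = g⁻¹ * ((z * z) * (t * t)) * g := by group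
        rw [e2, hz2, ht2]; group
      obtain ⟨h, hhH, hk⟩ := pelement_conj_into_sylow_in_subgroup P H hPH
        (Subgroup.zpowers (g⁻¹ * (z * t) * g)) (isPGroup_zpowers_of_sq _ hw2)
        (g⁻¹ * (z * t) * g) (Subgroup.mem_zpowers _) hw'
      have h3 := hPc _ hk
      have h4 : (h * g⁻¹)⁻¹ * z * (h * g⁻¹) ∈ Subgroup.centralizer ({z * t} : Set G) := by
        rw [Subgroup.mem_centralizer_iff]
        intro x hx
        rw [Set.mem_singleton_iff] at hx
        rw [hx]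
        have e1 : z * t * ((h * g⁻¹)⁻¹ * z * (h * g⁻¹))
            = (h * g⁻¹)⁻¹ * ((h * (g⁻¹ * (z * t) * g) * h⁻¹) * z) * (h * g⁻¹) := by group
        have e2 : (h * g⁻¹)⁻¹ * z * (h * g⁻¹) * (z * t)
            = (h * g⁻¹)⁻¹ * (z * (h * (g⁻¹ * (z * t) * g) * h⁻¹)) * (h * g⁻¹) := by group
        rw [e1, e2, h3]
      have h5 := h2 t ht htz hc h4
      rw [h0' (h * g⁻¹)] at h5
      have e : g = (h * g⁻¹)⁻¹ * h := by group
      rw [e]; exact H.mul_mem (H.inv_mem h5) hhH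
    · intro hg
      exact H.mul_mem (H.mul_mem (H.inv_mem hg) (H.mul_mem hzH htH)) hg

end Cfsg.Agent.S1922
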