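import Mathlib
import Cfsg.Statements.S1924
import Cfsg.Agent.Lib_helper21_Parity
import Cfsg.Agent.Lib_helper21_SylowNum
import Cfsg.Agent.Lib_helper6_Transfer
import Cfsg.Agent.Lib_helper10_PResidual
import Cfsg.Agent.Lib_helper10_Hyperfocal
import Cfsg.Agent.Lib_helper25_Hyperfocal

set_option autoImplicit false
set_option linter.style.haveILetI false
set_option maxHeartbeats 800000
open Cfsg

namespace Cfsg.Agent.S1924

open Cfsg.Agent.helper21.Parity

theorem two_pow_eq_aux {i i' r r' : ℕ} (h : 2 ^ i * r = 2 ^ i' * r') (hr : ¬ 2 ∣ r) (hlt : i < i') :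
    False := by
  apply hr
  obtain ⟨k, rfl⟩ := Nat.exists_eq_add_of_lt hlt
  have h' : 2 ^ i * r = 2 ^ i * (2 ^ (k + 1) * r') := by rw [h]; ring
  have h2 : r = 2 ^ (k + 1) * r' := Nat.eq_of_mul_eq_mul_left (by positivity) h'
  rw [h2]
  exact Dvd.dvd.mul_right (dvd_pow_self 2 (by omega)) _

theorem two_pow_eq {i i' r r' : ℕ} (h : 2 ^ i * r = 2 ^ i' * r') (hr : ¬ 2 ∣ r) (hr' : ¬ 2 ∣ r') :
    i = i' := by
  rcases Nat.lt_trichotomy i i' with hlt | heq | hgt
  · exact (two_pow_eq_aux h hr hlt).elim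
  · exact heq
  · exact (two_pow_eq_aux h.symm hr' hgt).elim

/-- A consequence of Thompson's transfer lemma. Let G be a finite group, L a subgroup with O²(L) = L, T a Sylow 2-subgroup of L and S a Sylow 2-subgroup of G containing T. Suppose D ≤ S is a dihedral subgroup of order at least 4 (the four-group counts) with D ∩ T = 1 and S = TD as a set of products (so |S| = |T|·|D|), and C ≤ D is cyclic of index 2 in D. If no involution of D outside C is G-conjugate to an involution of the subgroup generated by T and C, and the involution of C is not G-conjugate to any involution of T, then G has a normal subgroup K, containing every Sylow 2-subgroup of L as a Sylow 2-subgroup, with G = KD. -/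
theorem result {G : Type*} [Group G] [Finite G] (L T S D C : Subgroup G) (hL : Cfsg.pResidual 2 ↥L = ⊤)
    (hTL : T ≤ L) (hT2 : IsPGroup 2 T) (hTsyl : ¬ 2 ∣ T.relIndex L)
    (hS2 : IsPGroup 2 S) (hSsyl : ¬ 2 ∣ S.index) (hTS : T ≤ S)
    (hDS : D ≤ S) (hDih : ∃ n : ℕ, 2 ≤ n ∧ Nonempty (↥D ≃* DihedralGroup n)) (hDT : D ⊓ T = ⊥) (hTD : T ⊔ D = S) (hTDc : Nat.card T * Nat.card D = Nat.card S)
    (hCD : C ≤ D) (hC : IsCyclic ↥C) (hCi : C.relIndex D = 2)
    (h1 : ∀ x ∈ D, x ∉ C → orderOf x = 2 → ∀ g : G, g * x * g⁻¹ ∈ T ⊔ C → False)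
    (h2 : ∀ c ∈ C, orderOf c = 2 → ∀ g : G, g * c * g⁻¹ ∈ T → False) :
    ∃ K : Subgroup G, K.Normal ∧ K ⊔ D = ⊤ ∧
      ∀ T' : Subgroup G, T' ≤ L → IsPGroup 2 T' → ¬ 2 ∣ T'.relIndex L → T' ≤ K ∧ ¬ 2 ∣ T'.relIndex K := by
  classical
  haveI : Fact (Nat.Prime 2) := ⟨Nat.prime_two⟩
  obtain ⟨n, hn2, ⟨eD⟩⟩ := hDih
  haveI : NeZero n := ⟨by omega⟩
  obtain ⟨R, hR⟩ : ∃ R : Subgroup G, R = Cfsg.pResidual 2 G := ⟨_, rfl⟩
  have htop : Cfsg.pResidual 2 ↥R = ⊤ := by
    subst hR
    exact Cfsg.Agent.helper10.pResidual_pResidual_eq_top 2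
  haveI hRn : R.Normal := by rw [hR]; exact Cfsg.Agent.helper10.pResidual_normal 2 G
  have hD1 := dih_outside D C n eD hCD hC hCi
  have hTC : T ⊓ C = ⊥ := by
    apply le_antisymm _ bot_le
    rw [← hDT]
    exact le_inf (inf_le_right.trans hCD) inf_le_left
  have hTD' : T ⊓ D = ⊥ := by rw [inf_comm]; exact hDT
  have hLR : L ≤ R := by
    have h3 := Cfsg.Agent.helper25.pResidual_map_le 2 L.subtype
    rw [hL, ← MonoidHom.range_eq_map, Subgroup.range_subtype] at h3
    rw [hR]; exact h3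
  have hTR : T ≤ R := hTL.trans hLR
  have hSodd : Odd S.index := by
    rw [← Nat.not_even_iff_odd, even_iff_two_dvd]; exact hSsyl
  have hRS : R ⊔ S = ⊤ := by
    have := Cfsg.Agent.helper10.pResidual_sup_sylow_eq_top 2 (hS2.toSylow hSsyl)
    rw [IsPGroup.toSylow_coe] at this
    rw [hR]; exact this
  have hSR : S.relIndex R = S.index := by
    rw [← Cfsg.Agent.helper21.relIndex_sup_normal R S, hRS, Subgroup.relIndex_top_right]
  have hSdecomp : ∀ s ∈ S, ∃ t ∈ T, ∃ δ ∈ D, s = t * δ := by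
    intro s hs
    exact exists_mul_of_card_eq T D hTD' (by rw [hTD]; exact hTDc) s (by rw [hTD]; exact hs)
  -- (a) elements of D outside C are not in R
  have hMain : ∀ y ∈ D, y ∉ C → y ∉ R := by
    intro y hyD hyC hyR
    have hy2 := hD1 y hyD hyC
    obtain ⟨M, hMdef⟩ : ∃ M : Subgroup G, M = T ⊔ C := ⟨_, rfl⟩
    have hyM : y ∉ M := by
      intro h
      apply h1 y hyD hyC hy2 1
      rw [one_mul, inv_one, mul_one, ← hMdef]; exact h
    have hMS : M ≤ S := by rw [hMdef]; exact sup_le hTS (hCD.trans hDS)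
    have hyS : y ∈ S := hDS hyD
    have hMrel : M.relIndex S = 2 := by
      have c1 : Nat.card T * Nat.card C ≤ Nat.card M := by
        rw [hMdef]; exact card_mul_le_card_sup T C hTC
      have c2 : Nat.card C * 2 = Nat.card D := by
        have := card_mul_relIndex C D hCD; rwa [hCi] at this
      have c3 := card_mul_relIndex M S hMS
      have c4 : M.relIndex S ≠ 1 := by
        rw [Ne, Subgroup.relIndex_eq_one]; exact fun h => hyM (h hyS)
      have c5 : M.relIndex S ≠ 0 := by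
        intro h; rw [h, mul_zero] at c3
        exact absurd c3.symm (Nat.card_pos.ne')
      have c6 : 0 < Nat.card M := Nat.card_pos
      have c7 : Nat.card M * M.relIndex S ≤ Nat.card M * 2 := by
        calc Nat.card M * M.relIndex S = Nat.card S := c3
          _ = Nat.card T * Nat.card D := hTDc.symm
          _ = Nat.card T * Nat.card C * 2 := by rw [← c2]; ring
          _ ≤ Nat.card M * 2 := Nat.mul_le_mul_right 2 c1
      have c8 : M.relIndex S ≤ 2 := Nat.le_of_mul_le_mul_left c7 c6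
      omega
    have hMidx : M.index = 2 * S.index := by
      rw [← Subgroup.relIndex_mul_index hMS, hMrel]
    have hfree : ∀ (g : G) (j : ℕ), g⁻¹ * y ^ j * g ∈ M → y ^ j = 1 := by
      intro g j hj
      by_contra hne
      have hyj : y ^ j = y := by
        rcases Nat.mod_two_eq_zero_or_one j with h | h
        · exfalso; apply hne; rw [← pow_mod_orderOf, hy2, h, pow_zero]
        · rw [← pow_mod_orderOf, hy2, h, pow_one]
      rw [hyj] at hj
      apply h1 y hyD hyC hy2 g⁻¹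
      rw [inv_inv, ← hMdef]; exact hj
    obtain ⟨φ, hφ⟩ := exists_hom_neg_one M y 2 even_two hy2 hfree
      (by rw [hMidx]; exact dvd_mul_right _ _)
      (by rw [hMidx, Nat.mul_div_cancel_left _ (by norm_num)]; exact hSodd)
    have hk := Cfsg.Agent.helper6.pResidual_le_ker (p := 2) isPGroup_units_int φ
    rw [← hR] at hk
    have := hk hyR
    rw [MonoidHom.mem_ker, hφ] at this
    exact absurd this (by decide)
  -- (b) D ∩ R = 1
  have hDR : D ⊓ R = ⊥ := by
    by_contra hne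
    obtain ⟨D₀, hD₀⟩ : ∃ D₀ : Subgroup G, D₀ = D ⊓ R := ⟨_, rfl⟩
    rw [← hD₀] at hne
    have hD₀D : D₀ ≤ D := by rw [hD₀]; exact inf_le_left
    have hD₀R : D₀ ≤ R := by rw [hD₀]; exact inf_le_right
    have hD₀C : D₀ ≤ C := by
      intro z hz
      by_contra hzC
      exact hMain z (hD₀D hz) hzC (hD₀R hz)
    haveI : IsCyclic ↥C := hC
    obtain ⟨g₀, hg₀⟩ := (inferInstance : IsCyclic ↥(D₀.subgroupOf C)).exists_generator
    obtain ⟨d, hd⟩ : ∃ d : G, d = ((g₀ : ↥C) : G) := ⟨_, rfl⟩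
    have hdD₀ : d ∈ D₀ := by rw [hd]; exact g₀.2
    have hgen : ∀ z ∈ D₀, z ∈ Subgroup.zpowers d := by
      intro z hz
      have hzC : z ∈ C := hD₀C hz
      have hz' : (⟨z, hzC⟩ : ↥C) ∈ D₀.subgroupOf C := by rw [Subgroup.mem_subgroupOf]; exact hz
      obtain ⟨k, hk⟩ := Subgroup.mem_zpowers_iff.1 (hg₀ ⟨⟨z, hzC⟩, hz'⟩)
      refine Subgroup.mem_zpowers_iff.2 ⟨k, ?_⟩
      have := congrArg (fun w : ↥(D₀.subgroupOf C) => ((w : ↥C) : G)) hk
      simpa [hd] using this
    have hD₀eq : D₀ = Subgroup.zpowers d :=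
      le_antisymm hgen (by rw [Subgroup.zpowers_le]; exact hdD₀)
    have hd1 : d ≠ 1 := by
      intro h; apply hne; rw [hD₀eq, h, Subgroup.zpowers_one_eq_bot]
    obtain ⟨e, he⟩ : ∃ e, e = orderOf d := ⟨_, rfl⟩
    have hcardD₀ : Nat.card D₀ = e := by rw [hD₀eq, Nat.card_zpowers, he]
    have hdS : d ∈ S := hDS (hD₀D hdD₀)
    obtain ⟨k, hk⟩ : ∃ k, orderOf d = 2 ^ k := by
      obtain ⟨k, hk⟩ := (IsPGroup.iff_orderOf.1 hS2) ⟨d, hdS⟩
      exact ⟨k, by rw [← hk, Subgroup.orderOf_mk]⟩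
    have hk0 : k ≠ 0 := by
      intro h; rw [h, pow_zero, orderOf_eq_one_iff] at hk; exact hd1 hk
    have heven : Even e := by
      rw [he, hk]; exact (Nat.even_pow.2 ⟨even_two, hk0⟩)
    obtain ⟨S₀, hS₀⟩ : ∃ S₀ : Subgroup G, S₀ = S ⊓ R := ⟨_, rfl⟩
    have hTS₀ : T ≤ S₀ := by rw [hS₀]; exact le_inf hTS hTR
    have hS₀R : S₀ ≤ R := by rw [hS₀]; exact inf_le_right
    have hTD₀ : T ⊓ D₀ = ⊥ := by
      apply le_antisymm _ bot_le
      rw [← hTD']; exact le_inf inf_le_left (inf_le_right.trans hD₀D)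
    have hdecomp : ∀ s ∈ S₀, ∃ t ∈ T, ∃ δ ∈ D₀, s = t * δ := by
      intro s hs
      rw [hS₀] at hs
      obtain ⟨t, ht, δ, hδ, hst⟩ := hSdecomp s hs.1
      refine ⟨t, ht, δ, ?_, hst⟩
      rw [hD₀]
      refine ⟨hδ, ?_⟩
      have : δ = t⁻¹ * s := by rw [hst]; group
      rw [this]; exact R.mul_mem (R.inv_mem (hTR ht)) hs.2
    have hcardS₀ : Nat.card S₀ = Nat.card T * Nat.card D₀ := by
      apply le_antisymm
      · choose! ft hft fδ hfδ hfs using hdecomp
        rw [← Nat.card_prod]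
        refine Nat.card_le_card_of_injective
          (fun s : ↥S₀ => ((⟨ft s, hft s s.2⟩ : ↥T), (⟨fδ s, hfδ s s.2⟩ : ↥D₀))) ?_
        intro s s' hss
        have e1 : ft s = ft s' := congrArg (fun p : ↥T × ↥D₀ => (p.1 : G)) hss
        have e2 : fδ s = fδ s' := congrArg (fun p : ↥T × ↥D₀ => (p.2 : G)) hss
        apply Subtype.ext
        rw [hfs s s.2, hfs s' s'.2, e1, e2]
      · calc Nat.card T * Nat.card D₀ ≤ Nat.card ↥(T ⊔ D₀) := card_mul_le_card_sup T D₀ hTD₀
          _ ≤ Nat.card S₀ := Subgroup.card_le_of_le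
              (sup_le hTS₀ (by rw [hS₀]; exact le_inf (hD₀D.trans hDS) hD₀R))
    have hTrel : T.relIndex R = e * S.index := by
      have r1 := Subgroup.relIndex_mul_relIndex T S₀ R hTS₀ hS₀R
      have r2 : S₀.relIndex R = S.index := by rw [hS₀, Subgroup.inf_relIndex_right, hSR]
      have r3 : T.relIndex S₀ = e := by
        have := card_mul_relIndex T S₀ hTS₀
        rw [hcardS₀, hcardD₀] at this
        exact Nat.eq_of_mul_eq_mul_left Nat.card_pos this
      rw [← r1, r2, r3]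
    have hdR : d ∈ R := hD₀R hdD₀
    have hepos : 0 < e := by rw [he]; exact orderOf_pos d
    have hfree : ∀ (g : ↥R) (j : ℕ), g⁻¹ * (⟨d, hdR⟩ : ↥R) ^ j * g ∈ T.subgroupOf R →
        (⟨d, hdR⟩ : ↥R) ^ j = 1 := by
      intro g j hj
      by_contra hne'
      have hw : d ^ j ≠ 1 := by
        intro h; apply hne'; apply Subtype.ext; simpa using h
      have hwT : (g : G)⁻¹ * d ^ j * g ∈ T := by
        have := (Subgroup.mem_subgroupOf).1 hj
        simpa using this
      have hwS : d ^ j ∈ S := S.pow_mem hdS j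
      obtain ⟨l, hl⟩ : ∃ l, orderOf (d ^ j) = 2 ^ l := by
        obtain ⟨l, hl⟩ := (IsPGroup.iff_orderOf.1 hS2) ⟨d ^ j, hwS⟩
        exact ⟨l, by rw [← hl, Subgroup.orderOf_mk]⟩
      have hl0 : l ≠ 0 := by
        intro h; rw [h, pow_zero, orderOf_eq_one_iff] at hl; exact hw hl
      obtain ⟨z, hz⟩ : ∃ z : G, z = (d ^ j) ^ (2 ^ (l - 1)) := ⟨_, rfl⟩
      have hz2 : orderOf z = 2 := by
        rw [hz, orderOf_pow_of_dvd (by positivity) (by rw [hl]; exact pow_dvd_pow 2 (by omega)), hl,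
          Nat.pow_div (by omega) (by norm_num)]
        have : l - (l - 1) = 1 := by omega
        rw [this, pow_one]
      have hzC : z ∈ C := by rw [hz]; exact hD₀C (D₀.pow_mem (D₀.pow_mem hdD₀ j) _)
      have hzT : (g : G)⁻¹ * z * g ∈ T := by
        rw [hz, ← inv_conj_pow]; exact T.pow_mem hwT _
      apply h2 z hzC hz2 (g : G)⁻¹
      rw [inv_inv]; exact hzT
    obtain ⟨φ, hφ⟩ := exists_hom_neg_one (G := ↥R) (T.subgroupOf R) ⟨d, hdR⟩ e heven
      (by rw [Subgroup.orderOf_mk, he]) hfree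
      (by show e ∣ T.relIndex R; rw [hTrel]; exact dvd_mul_right _ _)
      (by show Odd (T.relIndex R / e); rw [hTrel, Nat.mul_div_cancel_left _ hepos]; exact hSodd)
    have hk' := Cfsg.Agent.helper6.pResidual_le_ker (p := 2) isPGroup_units_int φ
    rw [htop] at hk'
    have := hk' (Subgroup.mem_top (⟨d, hdR⟩ : ↥R))
    rw [MonoidHom.mem_ker, hφ] at this
    exact absurd this (by decide)
  -- (c) conclusion
  refine ⟨R, hRn, ?_, ?_⟩
  · rw [eq_top_iff, ← hRS]
    apply sup_le le_sup_left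
    rw [← hTD]
    exact sup_le (hTR.trans le_sup_left) le_sup_right
  · intro T' hT'L hT'2 hT'syl
    have hT'R : T' ≤ R := hT'L.trans hLR
    refine ⟨hT'R, ?_⟩
    have hSRT : S ⊓ R = T := by
      apply le_antisymm
      · intro s hs
        obtain ⟨t, ht, δ, hδ, hst⟩ := hSdecomp s hs.1
        have hδR : δ ∈ R := by
          have : δ = t⁻¹ * s := by rw [hst]; group
          rw [this]; exact R.mul_mem (R.inv_mem (hTR ht)) hs.2
        have hδ1 : δ ∈ D ⊓ R := ⟨hδ, hδR⟩
        rw [hDR, Subgroup.mem_bot] at hδ1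
        rw [hst, hδ1, mul_one]; exact ht
      · exact le_inf hTS hTR
    have hTrelR : T.relIndex R = S.index := by
      rw [← hSRT, Subgroup.inf_relIndex_right, hSR]
    have hcard : Nat.card T' = Nat.card T := by
      have a1 := card_mul_relIndex T L hTL
      have a2 := card_mul_relIndex T' L hT'L
      obtain ⟨i, hi⟩ := IsPGroup.iff_card.1 hT2
      obtain ⟨i', hi'⟩ := IsPGroup.iff_card.1 hT'2
      rw [hi] at a1
      rw [hi'] at a2
      have := two_pow_eq (a1.trans a2.symm) hTsyl hT'syl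
      rw [hi, hi', this]
    have b1 := card_mul_relIndex T R hTR
    have b2 := card_mul_relIndex T' R hT'R
    rw [hcard] at b2
    have hrel : T'.relIndex R = T.relIndex R :=
      Nat.eq_of_mul_eq_mul_left Nat.card_pos (b2.trans b1.symm)
    rw [hrel, hTrelR]; exact hSsyl

end Cfsg.Agent.S1924
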