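import Cfsg.Statements.S1932
import Cfsg.Agent.Lib_helper15_ConJ6
import Cfsg.Agent.Lib_helper15_S4a
import Cfsg.Agent.Lib_helper3_PStab2
import Cfsg.Agent.Lib_helper23_PSolv3
import Cfsg.Agent.Lib_helper7_Quot
import Cfsg.Agent.Lib_helper10_Sec1
import Cfsg.Agent.Lib_helper10_Sec3
import Cfsg.Agent.Lib_helper19_Sylow

set_option autoImplicit false
open Cfsg

namespace Cfsg.Agent.S1932
open scoped commutatorElement in
theorem class_two_elementwise' {G : Type*} [Group G] {S : Subgroup G}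
    (hcl : S.lowerCentralSeries 2 = ⊥) :
    ∀ a ∈ S, ∀ b ∈ S, ∀ c ∈ S, (a * b * a⁻¹ * b⁻¹) * c = c * (a * b * a⁻¹ * b⁻¹) := by
  intro a ha b hb c hc
  have h1 : ⁅a, b⁆ ∈ S.lowerCentralSeries 1 := by
    rw [Subgroup.lowerCentralSeries_succ, Subgroup.lowerCentralSeries_zero]
    exact Subgroup.commutator_mem_commutator ha hb
  have h2 : ⁅⁅a, b⁆, c⁆ ∈ S.lowerCentralSeries 2 := by
    rw [Subgroup.lowerCentralSeries_succ]
    exact Subgroup.commutator_mem_commutator h1 hc
  rw [hcl, Subgroup.mem_bot, commutatorElement_def, commutatorElement_def] at h2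
  calc (a * b * a⁻¹ * b⁻¹) * c
      = ((a * b * a⁻¹ * b⁻¹) * c * (a * b * a⁻¹ * b⁻¹)⁻¹ * c⁻¹) * c * (a * b * a⁻¹ * b⁻¹) := by
        group
    _ = c * (a * b * a⁻¹ * b⁻¹) := by rw [h2, one_mul]


/-- Let G be a finite group that is 2-constrained and has no section isomorphic to the symmetric group of degree 4, and let S be a Sylow 2-subgroup of G of nilpotency class at most 2. Then G = N_G(J(S))·O_{2'}(G), where J(S) is the Thompson subgroup generated by the elementary abelian subgroups of S of largest order. -/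
theorem result {G : Type*} [Group G] [Finite G] (hcon : Cfsg.IsPConstrained 2 G) (hS4 : ¬ Cfsg.Involves (Equiv.Perm (Fin 4)) G) (S : Sylow 2 G) (hcl : Subgroup.lowerCentralSeries (S : Subgroup G) 2 = ⊥) : Subgroup.normalizer ((Cfsg.thompsonSubgroupOf 2 (S : Subgroup G)) : Set G) ⊔ Cfsg.pPrimeCore 2 G = ⊤ := by
  haveI : Fact (Nat.Prime 2) := ⟨Nat.prime_two⟩
  have hconQ := Cfsg.Agent.helper3.centralizer_pCore_quotient_le hcon
  obtain ⟨D, hD⟩ : ∃ D : Subgroup G, D = Cfsg.pPrimeCore 2 G := ⟨_, rfl⟩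
  rw [← hD]
  haveI hDn : D.Normal := by rw [hD]; exact Cfsg.Agent.helper1.pPrimeCore_normal 2
  have hDcop : (Nat.card D).Coprime 2 := by rw [hD]; exact Cfsg.Agent.helper1.pPrimeCore_coprime 2
  have hconQ' : Subgroup.centralizer (Cfsg.pCore 2 (G ⧸ D) : Set (G ⧸ D)) ≤ Cfsg.pCore 2 (G ⧸ D) := by
    subst hD
    exact hconQ
  obtain ⟨mk, hmk⟩ : ∃ mk : G →* G ⧸ D, mk = QuotientGroup.mk' D := ⟨_, rfl⟩
  have hsurj : Function.Surjective mk := by rw [hmk]; exact QuotientGroup.mk'_surjective _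
  have hker : mk.ker = D := by rw [hmk]; exact QuotientGroup.ker_mk' D
  have hfree : ¬ Cfsg.Involves (Equiv.Perm (Fin 4)) (G ⧸ D) :=
    fun h => hS4 (Cfsg.Agent.helper15.S4F.involves_of_quotient D h)
  obtain ⟨S', hS'⟩ : ∃ S' : Sylow 2 (G ⧸ D),
      (S' : Subgroup (G ⧸ D)) = (S : Subgroup G).map mk := ⟨S.mapSurjective hsurj, rfl⟩
  have hcl' : (S' : Subgroup (G ⧸ D)).lowerCentralSeries 2 = ⊥ := by
    rw [hS', ← Subgroup.map_lowerCentralSeries, hcl, Subgroup.map_bot]
  have hJle := Cfsg.Agent.helper15.ConJ.thompson_le_pCore_of_constrained hconQ' hfree S'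
    (class_two_elementwise' hcl')
  have hJn : (Cfsg.thompsonSubgroupOf 2 (S' : Subgroup (G ⧸ D))).Normal := by
    have h1 := Cfsg.Agent.helper3.thompsonSubgroupOf_eq_of_le
      (Cfsg.Agent.helper1.pCore_le_sylow S') hJle
    have h2 := Cfsg.Agent.helper3.normalizer_le_normalizer_thompsonSubgroupOf 2
      (Cfsg.pCore 2 (G ⧸ D))
    haveI := Cfsg.Agent.helper1.pCore_normal (G := G ⧸ D) 2
    rw [h1, Subgroup.normalizer_eq_top] at h2
    exact Subgroup.normalizer_eq_top_iff.mp (top_le_iff.mp h2)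
  have hinj : ∀ x ∈ (S : Subgroup G), mk x = 1 → x = 1 := by
    intro x hxS hx
    have hxD : x ∈ D := by
      have : x ∈ mk.ker := hx
      rwa [hker] at this
    exact Cfsg.Agent.helper10.eq_one_of_mem_of_coprime (S : Subgroup G) D S.isPGroup' hDcop x
      hxS hxD
  obtain ⟨J, hJ⟩ : ∃ J : Subgroup G, J = Cfsg.thompsonSubgroupOf 2 (S : Subgroup G) := ⟨_, rfl⟩
  rw [← hJ]
  have hJmap : Cfsg.thompsonSubgroupOf 2 (S' : Subgroup (G ⧸ D)) = J.map mk := by
    rw [hS', hJ]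
    exact Cfsg.Agent.helper10.induced_map_of_injOn (fun Q _ => Cfsg.thompsonSubgroup 2 Q)
      (Cfsg.Agent.helper23.isCharPFunctor_thompson 2) mk (S : Subgroup G) S.isPGroup' hinj
  have hJS : J ≤ (S : Subgroup G) := by
    rw [hJ]; exact Cfsg.Agent.helper3.thompsonSubgroupOf_le_self 2 _
  haveI hMn : (J ⊔ D).Normal := by
    have h1 : J ⊔ D = (J.map mk).comap mk := by rw [Subgroup.comap_map_eq, hker]
    rw [h1, ← hJmap]
    exact Subgroup.Normal.comap hJn mk
  have hSM : (S : Subgroup G) ⊓ (J ⊔ D) = J := by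
    apply le_antisymm
    · rintro x ⟨hxS, hxM⟩
      have h1 : x ∈ ((J ⊔ D : Subgroup G) : Set G) := hxM
      rw [Subgroup.mul_normal, Set.mem_mul] at h1
      obtain ⟨j, hj, d, hd, rfl⟩ := h1
      have hdS : d ∈ (S : Subgroup G) := by
        have e : d = j⁻¹ * (j * d) := by group
        rw [e]
        exact (S : Subgroup G).mul_mem ((S : Subgroup G).inv_mem (hJS hj)) hxS
      have hd1 := Cfsg.Agent.helper10.eq_one_of_mem_of_coprime (S : Subgroup G) D S.isPGroup'
        hDcop d hdS hd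
      rw [hd1, mul_one]
      exact hj
    · exact le_inf hJS le_sup_left
  have hfr := Cfsg.Agent.helper19.frattini_inf S (J ⊔ D)
  rw [hSM] at hfr
  have hJN : J ≤ Subgroup.normalizer (J : Set G) := Subgroup.le_normalizer
  rw [← sup_assoc, sup_eq_left.2 hJN] at hfr
  exact hfr

end Cfsg.Agent.S1932
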