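import Cfsg.Statements.S1939
import Cfsg.Agent.Lib_helper10_Sylow

set_option autoImplicit false
open Cfsg

namespace Cfsg.Agent.S1939

open Cfsg.Agent.helper10

/-- Let S be a Sylow p-subgroup of the finite group G and a an element of S that is the only G-conjugate of a lying in S. Then every power of a has the same property: for every n, the only G-conjugate of a^n lying in S is a^n. -/
theorem result {G : Type*} [Group G] [Finite G] {p : ℕ} [Fact p.Prime] (S : Sylow p G) (a : G)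
    (haS : a ∈ (S : Subgroup G)) (hwc : ∀ g : G, g * a * g⁻¹ ∈ (S : Subgroup G) → g * a * g⁻¹ = a) (n : ℕ) :
    ∀ g : G, g * a ^ n * g⁻¹ ∈ (S : Subgroup G) → g * a ^ n * g⁻¹ = a ^ n := by
  intro g hg
  set c := g * a ^ n * g⁻¹ with hc
  -- a is central in S
  have hcen : ∀ s ∈ (S : Subgroup G), s * a = a * s := by
    intro s hs
    have h1 := hwc s ((S : Subgroup G).mul_mem ((S : Subgroup G).mul_mem hs haS) ((S : Subgroup G).inv_mem hs))
    calc s * a = s * a * s⁻¹ * s := by group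
      _ = a * s := by rw [h1]
  have hcen_pow : ∀ s ∈ (S : Subgroup G), s * a ^ n = a ^ n * s := by
    intro s hs
    exact ((Commute.pow_right (hcen s hs) n : Commute s (a ^ n))).eq
  -- the conjugate Sylow subgroup
  let Q : Sylow p G := g • S
  let H : Subgroup G := Subgroup.centralizer ({c} : Set G)
  have hQ_mem : ∀ s ∈ (S : Subgroup G), g * s * g⁻¹ ∈ (Q : Subgroup G) := by
    intro s hs
    show g * s * g⁻¹ ∈ ((g • S : Sylow p G) : Subgroup G)
    rw [Sylow.coe_subgroup_smul, Subgroup.mem_pointwise_smul_iff_inv_smul_mem]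
    simpa [MulAut.smul_def, MulAut.conj_apply, mul_assoc] using hs
  have hQ_mem' : ∀ x ∈ (Q : Subgroup G), g⁻¹ * x * g ∈ (S : Subgroup G) := by
    intro x hx
    have hx' : x ∈ ((g • S : Sylow p G) : Subgroup G) := hx
    rw [Sylow.coe_subgroup_smul, Subgroup.mem_pointwise_smul_iff_inv_smul_mem] at hx'
    simpa [MulAut.smul_def, MulAut.conj_apply, mul_assoc] using hx'
  have hQH : (Q : Subgroup G) ≤ H := by
    intro x hx
    have hs := hQ_mem' x hx
    rw [Subgroup.mem_centralizer_iff]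
    intro y hy
    rw [Set.mem_singleton_iff] at hy
    subst hy
    have h2 := hcen_pow _ hs
    -- (g⁻¹ x g) a^n = a^n (g⁻¹ x g)
    calc c * x = g * (a ^ n * (g⁻¹ * x * g)) * g⁻¹ := by rw [hc]; group
      _ = g * ((g⁻¹ * x * g) * a ^ n) * g⁻¹ := by rw [h2]
      _ = x * c := by rw [hc]; group
  have haH : a ∈ H := by
    rw [Subgroup.mem_centralizer_iff]
    intro y hy
    rw [Set.mem_singleton_iff] at hy
    subst hy
    exact hcen c hg
  obtain ⟨h, hhH, hh⟩ := pelement_conj_into_sylow_in_subgroup Q H hQH (S : Subgroup G) S.isPGroup' a haS haH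
  have h3 := hQ_mem' _ hh
  have h4 : (g⁻¹ * h) * a * (g⁻¹ * h)⁻¹ = a := by
    apply hwc
    have : g⁻¹ * h * a * (g⁻¹ * h)⁻¹ = g⁻¹ * (h * a * h⁻¹) * g := by group
    rw [this]; exact h3
  have h5 : (g⁻¹ * h) * a ^ n * (g⁻¹ * h)⁻¹ = a ^ n := by
    have : (g⁻¹ * h) * a ^ n * (g⁻¹ * h)⁻¹ = ((g⁻¹ * h) * a * (g⁻¹ * h)⁻¹) ^ n := by
      rw [conj_pow]
    rw [this, h4]
  have h6 : h * a ^ n * h⁻¹ = c := by
    calc h * a ^ n * h⁻¹ = g * ((g⁻¹ * h) * a ^ n * (g⁻¹ * h)⁻¹) * g⁻¹ := by group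
      _ = c := by rw [h5]
  have h7 : h * c = c * h := by
    rw [Subgroup.mem_centralizer_iff] at hhH
    exact (hhH c (Set.mem_singleton c)).symm
  calc c = h⁻¹ * (h * c) := by group
    _ = h⁻¹ * (c * h) := by rw [h7]
    _ = h⁻¹ * (h * a ^ n * h⁻¹ * h) := by rw [h6]
    _ = a ^ n := by group

end Cfsg.Agent.S1939
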