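import Cfsg.Statements.S1940
import Mathlib.GroupTheory.GroupAction.Quotient
import Mathlib.Algebra.BigOperators.GroupWithZero.Action

set_option autoImplicit false
open Cfsg

namespace Cfsg.Agent.S1940

/-- Let the finite group L act by automorphisms on the finite abelian group M, and let N be an L-invariant subgroup of M such that M/N is a p-group on which L acts trivially (every l • m lies in the coset mN). If every element of M is a product of an element of N and an element fixed by a Sylow p-subgroup T of L, then every element of M is a product of an element of N and an element fixed by all of L. -/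
theorem result {L : Type*} [Group L] [Finite L] {M : Type*} [CommGroup M] [Finite M] [MulDistribMulAction L M]
    {p : ℕ} [Fact p.Prime] (N : Subgroup M) (hN : ∀ (l : L) (m : M), m ∈ N → l • m ∈ N)
    (hquot : IsPGroup p (M ⧸ N)) (htriv : ∀ (l : L) (m : M), (l • m) * m⁻¹ ∈ N) (T : Sylow p L)
    (hT : ∀ m : M, ∃ n ∈ N, ∃ c : M, (∀ t ∈ (T : Subgroup L), t • c = c) ∧ m = n * c) :
    ∀ m : M, ∃ n ∈ N, ∃ c : M, (∀ l : L, l • c = c) ∧ m = n * c := by
  classical
  intro m
  obtain ⟨n₀, hn₀, c, hc, rfl⟩ := hT m
  haveI : Fintype (L ⧸ (T : Subgroup L)) := Fintype.ofFinite _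
  -- the function on cosets
  let f : L ⧸ (T : Subgroup L) → M := fun q => Quotient.liftOn' q (fun l => l • c) (by
    intro a b hab
    rw [QuotientGroup.leftRel_apply] at hab
    have := hc _ hab
    show a • c = b • c
    calc a • c = a • ((a⁻¹ * b) • c) := by rw [this]
      _ = b • c := by rw [smul_smul]; simp)
  have hf : ∀ l : L, f (QuotientGroup.mk l) = l • c := fun l => rfl
  set c' := ∏ q : L ⧸ (T : Subgroup L), f q with hc'
  have hfix : ∀ g : L, g • c' = c' := by
    intro g
    rw [hc', Finset.smul_prod']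
    apply Fintype.prod_equiv (MulAction.toPerm g)
    intro q
    induction q using QuotientGroup.induction_on with
    | H l =>
      rw [hf, MulAction.toPerm_apply, MulAction.Quotient.smul_mk, hf, smul_smul]
      rfl
  set r := (T : Subgroup L).index with hr
  have hrp : ¬ p ∣ r := T.not_dvd_index
  have hcard : Fintype.card (L ⧸ (T : Subgroup L)) = r := by
    rw [hr, Subgroup.index_eq_card, Nat.card_eq_fintype_card]
  have hmod : c' * (c ^ r)⁻¹ ∈ N := by
    have h1 : c' * (c ^ r)⁻¹ = ∏ q : L ⧸ (T : Subgroup L), (f q * c⁻¹) := by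
      rw [Finset.prod_mul_distrib, Finset.prod_const, Finset.card_univ, hcard, inv_pow]
    rw [h1]
    apply Subgroup.prod_mem
    intro q _
    induction q using QuotientGroup.induction_on with
    | H l => rw [hf]; exact htriv l c
  -- invert r modulo the order of the quotient
  obtain ⟨k, hk⟩ := IsPGroup.iff_card.mp hquot
  have hpow : ∀ x : M ⧸ N, x ^ (p ^ k) = 1 := by
    intro x; rw [← hk]; exact pow_card_eq_one'
  rcases Nat.eq_zero_or_pos k with hk0 | hkpos
  · -- quotient trivial
    subst hk0
    have hcN : c ∈ N := by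
      have := hpow (QuotientGroup.mk c)
      simpa [QuotientGroup.eq_one_iff] using this
    exact ⟨n₀ * c, N.mul_mem hn₀ hcN, 1, fun l => smul_one l, by simp⟩
  · have hcop : Nat.Coprime r (p ^ k) :=
      Nat.Coprime.pow_right k ((Nat.Prime.coprime_iff_not_dvd (Fact.out : p.Prime)).mpr hrp).symm
    have hlt : 1 < p ^ k := Nat.one_lt_pow hkpos.ne' (Fact.out : p.Prime).one_lt
    obtain ⟨s, -, hs⟩ := Nat.exists_mul_mod_eq_one_of_coprime hcop hlt
    have hrs : r * s = p ^ k * (r * s / p ^ k) + 1 := by
      have := Nat.div_add_mod (r * s) (p ^ k)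
      omega
    -- c'^s ≡ c mod N
    have h2 : (QuotientGroup.mk (c' ^ s) : M ⧸ N) = QuotientGroup.mk c := by
      have h3 : (QuotientGroup.mk c' : M ⧸ N) = (QuotientGroup.mk c) ^ r := by
        rw [← QuotientGroup.mk_pow]
        rw [QuotientGroup.eq]
        have : (c')⁻¹ * c ^ r = (c' * (c ^ r)⁻¹)⁻¹ := by
          rw [mul_inv_rev, inv_inv, mul_comm]
        rw [this]; exact N.inv_mem hmod
      rw [QuotientGroup.mk_pow, h3, ← pow_mul, hrs, pow_succ, pow_mul, hpow, one_pow, one_mul]
    have h4 : c * (c' ^ s)⁻¹ ∈ N := by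
      have := QuotientGroup.eq.mp h2
      have e : c * (c' ^ s)⁻¹ = (c' ^ s)⁻¹ * c := mul_comm _ _
      rw [e]; exact this
    refine ⟨n₀ * (c * (c' ^ s)⁻¹), N.mul_mem hn₀ h4, c' ^ s, ?_, ?_⟩
    · intro l
      rw [smul_pow', hfix]
    · rw [mul_assoc, mul_assoc, inv_mul_cancel, mul_one]

end Cfsg.Agent.S1940
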