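import Cfsg.Statements.S1941
-- import your own Cfsg.Agent.* helpers here
import Mathlib
import Cfsg.Agent.Lib_helper7_Extra
import Cfsg.Agent.Lib_helper7_Quot
import Cfsg.Agent.Lib_helper1_Core
import Cfsg.Agent.Lib_helper10_Cocycle

set_option autoImplicit false
open Cfsg

namespace Cfsg.Agent.S1941

open Cfsg.Agent.helper7

/-- Let G be a finite group with no nontrivial normal subgroup of order prime to p, T a Sylow p-subgroup of G and E(G) the layer of G (the subgroup generated by its components). An automorphism of G of p-power order that fixes T and E(G) elementwise is inner. -/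
theorem result {G : Type*} [Group G] [Finite G] {p : ℕ} [Fact p.Prime] (hcore : Cfsg.pPrimeCore p G = ⊥)
    (T : Sylow p G) (α : MulAut G) (hα : ∃ j : ℕ, orderOf α = p ^ j) (hfixT : ∀ x ∈ (T : Subgroup G), α x = x)
    (hfixE : ∀ x ∈ Cfsg.layer G, α x = x) : ∃ g : G, ∀ x : G, α x = g * x * g⁻¹ := by
  have hp : p.Prime := Fact.out
  -- the fixed-point subgroup of α
  have hFixmem : ∀ x : G, x ∈ (α.toMonoidHom).eqLocus (MonoidHom.id G) ↔ α x = x :=
    fun x => Iff.rfl
  have hT_le : (T : Subgroup G) ≤ (α.toMonoidHom).eqLocus (MonoidHom.id G) :=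
    fun x hx => hfixT x hx
  have hE_le : layerOf (⊤ : Subgroup G) ≤ (α.toMonoidHom).eqLocus (MonoidHom.id G) := by
    rw [← layer_eq_layerOf]; exact fun x hx => hfixE x hx
  have hfit_le : fitOf (⊤ : Subgroup G) ≤ T := by
    rw [fitOf_eq_iSup]
    apply iSup_le
    rintro ⟨q, hq⟩
    by_cases hqp : q = p
    · subst hqp
      show piCoreIn {q} ⊤ ≤ (T : Subgroup G)
      rw [← pCore_eq hq]
      exact helper1.pCore_le_sylow T
    · have h1 : piCoreIn {q} (⊤ : Subgroup G) ≤ Cfsg.pPrimeCore p G := by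
        apply le_pPrimeCore_of_sn hp
        · exact SN.of_normal (piCoreIn_le _ _) (piCoreIn_normal _ _)
        · intro x hx r hr hd
          have h2 := piCoreIn_piGrp {q} (⊤ : Subgroup G) x hx r hr hd
          rw [Set.mem_singleton_iff] at h2
          show r ≠ p
          rw [h2]; exact hqp
      rw [hcore] at h1
      exact h1.trans bot_le
  have hFs_le : fstarOf (⊤ : Subgroup G) ≤ (α.toMonoidHom).eqLocus (MonoidHom.id G) :=
    sup_le hE_le (hfit_le.trans hT_le)
  have hFsn : (fstarOf (⊤ : Subgroup G)).Normal :=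
    Subgroup.normalizer_eq_top_iff.1 (top_le_iff.1 (fstarOf_normal ⊤))
  have hZle : Subgroup.centralizer (fstarOf (⊤ : Subgroup G) : Set G) ≤ fstarOf (⊤ : Subgroup G) := by
    have := centralizer_fstarOf_le (⊤ : Subgroup G)
    rwa [top_inf_eq] at this
  have hZn : ∀ g : G, ∀ z ∈ Subgroup.centralizer (fstarOf (⊤ : Subgroup G) : Set G),
      g * z * g⁻¹ ∈ Subgroup.centralizer (fstarOf (⊤ : Subgroup G) : Set G) := by
    intro g z hz
    rw [Subgroup.mem_centralizer_iff] at hz ⊢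
    intro x hx
    have hx' : g⁻¹ * x * g⁻¹⁻¹ ∈ fstarOf (⊤ : Subgroup G) := hFsn.conj_mem x hx g⁻¹
    have e := hz _ hx'
    calc x * (g * z * g⁻¹) = g * ((g⁻¹ * x * g⁻¹⁻¹) * z) * g⁻¹ := by group
      _ = g * (z * (g⁻¹ * x * g⁻¹⁻¹)) * g⁻¹ := by rw [e]
      _ = g * z * g⁻¹ * x := by group
  have hZc : ∀ a ∈ Subgroup.centralizer (fstarOf (⊤ : Subgroup G) : Set G),
      ∀ b ∈ Subgroup.centralizer (fstarOf (⊤ : Subgroup G) : Set G), a * b = b * a := by
    intro a ha b hb
    exact (Subgroup.mem_centralizer_iff.1 hb) a (hZle ha)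
  have hα' : ∀ g : G, α.toMonoidHom g * g⁻¹ ∈
      Subgroup.centralizer (fstarOf (⊤ : Subgroup G) : Set G) := by
    intro g
    show α g * g⁻¹ ∈ Subgroup.centralizer (fstarOf (⊤ : Subgroup G) : Set G)
    rw [Subgroup.mem_centralizer_iff]
    intro x hx
    have hx' : g⁻¹ * x * g⁻¹⁻¹ ∈ fstarOf (⊤ : Subgroup G) := hFsn.conj_mem x hx g⁻¹
    have e1 : α (g⁻¹ * x * g⁻¹⁻¹) = g⁻¹ * x * g⁻¹⁻¹ := hFs_le hx'
    have e2 : α x = x := hFs_le hx
    simp only [map_mul, map_inv, e2] at e1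
    calc x * (α g * g⁻¹) = α g * ((α g)⁻¹ * x * ((α g)⁻¹)⁻¹) * g⁻¹ := by group
      _ = α g * (g⁻¹ * x * g⁻¹⁻¹) * g⁻¹ := by rw [e1]
      _ = α g * g⁻¹ * x := by group
  have hZT : Subgroup.centralizer (fstarOf (⊤ : Subgroup G) : Set G) ≤ T := by
    refine le_trans ?_ hfit_le
    apply le_radOf le_top
    · rw [Subgroup.normalizer_eq_top_iff.2
        (⟨fun z hz g => hZn g z hz⟩ :
          (Subgroup.centralizer (fstarOf (⊤ : Subgroup G) : Set G)).Normal)]
    · apply abelian_nilpotent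
      exact Subgroup.centralizer_le hZle
  have hcop : (Nat.card ↥(Subgroup.centralizer (fstarOf (⊤ : Subgroup G) : Set G))).Coprime
      (T : Subgroup G).index := by
    have hpg : IsPGroup p ↥(Subgroup.centralizer (fstarOf (⊤ : Subgroup G) : Set G)) :=
      T.isPGroup'.to_le hZT
    obtain ⟨k, hk⟩ := IsPGroup.iff_card.1 hpg
    rw [hk]
    apply Nat.Coprime.pow_left
    rw [Nat.Prime.coprime_iff_not_dvd hp]
    exact T.not_dvd_index
  obtain ⟨z, -, hz⟩ := helper10.cocycle_trivial (T : Subgroup G)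
    (Subgroup.centralizer (fstarOf (⊤ : Subgroup G) : Set G)) hZn hZc hcop α.toMonoidHom hα'
    (fun t ht => hfixT t ht)
  exact ⟨z, fun x => hz x⟩

end Cfsg.Agent.S1941
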