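import Mathlib
import Cfsg.Statements.S1944
import Cfsg.Agent.Lib_helper10_PPrimeP

set_option autoImplicit false
open Cfsg

namespace Cfsg.Agent.S1944

section trace

variable {G : Type*} [Group G]

theorem le_normalizer_of_conj_mem (A H : Subgroup G)
    (h : ∀ g ∈ H, ∀ x ∈ A, g * x * g⁻¹ ∈ A) : H ≤ Subgroup.normalizer (A : Set G) := by
  intro g hg
  rw [Subgroup.mem_normalizer_iff]
  intro x
  constructor
  · exact h g hg x
  · intro hx
    have h1 := h g⁻¹ (H.inv_mem hg) _ hx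
    have e : g⁻¹ * (g * x * g⁻¹) * g⁻¹⁻¹ = x := by group
    rwa [e] at h1

/-- conjugation by an element normalizing `A`, as an endomorphism of `A` -/
def conjHom (A : Subgroup G) (h : G) (hh : h ∈ Subgroup.normalizer (A : Set G)) : ↥A →* ↥A where
  toFun a := ⟨h * a * h⁻¹, (Subgroup.mem_normalizer_iff.mp hh a).mp a.2⟩
  map_one' := by apply Subtype.ext; simp
  map_mul' := by
    intro a b
    apply Subtype.ext
    show h * ((a : G) * (b : G)) * h⁻¹ = (h * (a : G) * h⁻¹) * (h * (b : G) * h⁻¹)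
    group

theorem conjHom_coe (A : Subgroup G) (h : G) (hh : h ∈ Subgroup.normalizer (A : Set G)) (a : ↥A) :
    ((conjHom A h hh a : ↥A) : G) = h * a * h⁻¹ := rfl

/-- The trace argument: for a commutative `p`-subgroup `A` normalized by `H`, and `S ≤ H` of index
prime to `p`, `C_A(H)` is a direct factor of `C_A(S)`. -/
theorem trace_split [Finite G] {p : ℕ} [Fact p.Prime] (H S A : Subgroup G) (hSH : S ≤ H)
    (hAc : ∀ a ∈ A, ∀ b ∈ A, a * b = b * a) (hHA : H ≤ Subgroup.normalizer (A : Set G))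
    (hAp : IsPGroup p ↥A) (hm : ¬ p ∣ S.relIndex H) :
    ∃ K : Subgroup G, K ≤ A ⊓ Subgroup.centralizer (S : Set G) ∧
      (A ⊓ Subgroup.centralizer (H : Set G)) ⊓ K = ⊥ ∧
      (A ⊓ Subgroup.centralizer (H : Set G)) ⊔ K = A ⊓ Subgroup.centralizer (S : Set G) := by
  classical
  have hpp : p.Prime := Fact.out
  letI : CommGroup ↥A := { (inferInstance : Group ↥A) with
    mul_comm := fun a b => Subtype.ext (hAc a.1 a.2 b.1 b.2) }
  letI : Fintype (↥H ⧸ S.subgroupOf H) := Fintype.ofFinite _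
  obtain ⟨τ, hτdef⟩ : ∃ τ : ↥A →* ↥A,
      τ = ∏ q : ↥H ⧸ S.subgroupOf H, conjHom A ((q.out : ↥H) : G) (hHA q.out.2) := ⟨_, rfl⟩
  have hτ : ∀ a : ↥A, τ a
      = ∏ q : ↥H ⧸ S.subgroupOf H, conjHom A ((q.out : ↥H) : G) (hHA q.out.2) a := by
    intro a; rw [hτdef]; exact MonoidHom.finset_prod_apply _ _ a
  have hcardq : Fintype.card (↥H ⧸ S.subgroupOf H) = S.relIndex H := by
    rw [← Nat.card_eq_fintype_card]; rfl
  -- (i) on C_A(H) the trace is the m-th power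
  have hτH : ∀ a : ↥A, (a : G) ∈ Subgroup.centralizer (H : Set G) → τ a = a ^ S.relIndex H := by
    intro a ha
    rw [hτ a]
    have h1 : ∀ q : ↥H ⧸ S.subgroupOf H,
        conjHom A ((q.out : ↥H) : G) (hHA q.out.2) a = a := by
      intro q
      apply Subtype.ext
      rw [conjHom_coe]
      rw [Subgroup.mem_centralizer_iff] at ha
      have := ha _ q.out.2
      rw [this]; group
    rw [Finset.prod_congr rfl (fun q _ => h1 q), Finset.prod_const, Finset.card_univ, hcardq]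
  -- (ii) independence of representative
  have hrep : ∀ a : ↥A, (a : G) ∈ Subgroup.centralizer (S : Set G) → ∀ h₁ h₂ : ↥H,
      h₁⁻¹ * h₂ ∈ S.subgroupOf H →
      (h₁ : G) * a * (h₁ : G)⁻¹ = (h₂ : G) * a * (h₂ : G)⁻¹ := by
    intro a ha h₁ h₂ h12
    rw [Subgroup.mem_subgroupOf] at h12
    rw [Subgroup.mem_centralizer_iff] at ha
    have h1 := ha _ h12
    have h2 : ((h₁⁻¹ * h₂ : ↥H) : G) = (h₁ : G)⁻¹ * (h₂ : G) := by simp
    rw [h2] at h1
    calc (h₁ : G) * a * (h₁ : G)⁻¹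
        = (h₁ : G) * ((a : G) * ((h₁ : G)⁻¹ * (h₂ : G))) * (h₂ : G)⁻¹ := by group
      _ = (h₁ : G) * (((h₁ : G)⁻¹ * (h₂ : G)) * (a : G)) * (h₂ : G)⁻¹ := by rw [h1]
      _ = (h₂ : G) * a * (h₂ : G)⁻¹ := by group
  -- (iii) invariance
  have hinv : ∀ a : ↥A, (a : G) ∈ Subgroup.centralizer (S : Set G) → ∀ n : ↥H,
      conjHom A (n : G) (hHA n.2) (τ a) = τ a := by
    intro a ha n
    rw [hτ a, map_prod]
    have h1 : ∀ q : ↥H ⧸ S.subgroupOf H,
        conjHom A (n : G) (hHA n.2) (conjHom A ((q.out : ↥H) : G) (hHA q.out.2) a)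
        = conjHom A (((n • q).out : ↥H) : G) (hHA (n • q).out.2) a := by
      intro q
      apply Subtype.ext
      rw [conjHom_coe, conjHom_coe, conjHom_coe]
      have h2 : (n : G) * ((q.out : ↥H) : G) * (a : G) * ((q.out : ↥H) : G)⁻¹ * (n : G)⁻¹
          = (((n * q.out : ↥H)) : G) * a * (((n * q.out : ↥H)) : G)⁻¹ := by
        simp only [Subgroup.coe_mul]; group
      have h3 : (n : G) * (((q.out : ↥H) : G) * (a : G) * ((q.out : ↥H) : G)⁻¹) * (n : G)⁻¹
          = (n : G) * ((q.out : ↥H) : G) * (a : G) * ((q.out : ↥H) : G)⁻¹ * (n : G)⁻¹ := by group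
      rw [h3, h2]
      apply hrep a ha
      rw [← QuotientGroup.eq]
      rw [QuotientGroup.out_eq']
      have h4 : ((n * q.out : ↥H) : ↥H ⧸ S.subgroupOf H) = n • ((q.out : ↥H) : ↥H ⧸ S.subgroupOf H) := rfl
      rw [h4, QuotientGroup.out_eq']
    rw [Finset.prod_congr rfl (fun q _ => h1 q)]
    exact Equiv.prod_comp (MulAction.toPerm n)
      (fun q : ↥H ⧸ S.subgroupOf H => conjHom A ((q.out : ↥H) : G) (hHA q.out.2) a)
  have hτcent : ∀ a : ↥A, (a : G) ∈ Subgroup.centralizer (S : Set G) →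
      ((τ a : ↥A) : G) ∈ Subgroup.centralizer (H : Set G) := by
    intro a ha
    rw [Subgroup.mem_centralizer_iff]
    intro n hn
    have h1 := congrArg (fun z : ↥A => (z : G)) (hinv a ha ⟨n, hn⟩)
    simp only [conjHom_coe] at h1
    calc n * ((τ a : ↥A) : G) = (n * ((τ a : ↥A) : G) * n⁻¹) * n := by group
      _ = ((τ a : ↥A) : G) * n := by rw [h1]
  have hCHS : Subgroup.centralizer (H : Set G) ≤ Subgroup.centralizer (S : Set G) :=
    Subgroup.centralizer_le hSH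
  -- the complement
  refine ⟨(τ.ker.map A.subtype) ⊓ Subgroup.centralizer (S : Set G), ?_, ?_, ?_⟩
  · intro x hx
    obtain ⟨hx1, hx2⟩ := Subgroup.mem_inf.mp hx
    obtain ⟨a, -, rfl⟩ := Subgroup.mem_map.mp hx1
    exact Subgroup.mem_inf.mpr ⟨a.2, hx2⟩
  · rw [eq_bot_iff]
    intro x hx
    obtain ⟨hx1, hx2⟩ := Subgroup.mem_inf.mp hx
    obtain ⟨-, hxH⟩ := Subgroup.mem_inf.mp hx1
    obtain ⟨hx3, -⟩ := Subgroup.mem_inf.mp hx2
    obtain ⟨a, hak, rfl⟩ := Subgroup.mem_map.mp hx3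
    rw [MonoidHom.mem_ker, hτH a hxH] at hak
    obtain ⟨j, hj⟩ := (IsPGroup.iff_orderOf.mp hAp) a
    have h1 : orderOf a ∣ S.relIndex H := orderOf_dvd_of_pow_eq_one hak
    have h2 : (p ^ j).Coprime (S.relIndex H) :=
      Nat.Coprime.pow_left j ((Nat.Prime.coprime_iff_not_dvd hpp).mpr hm)
    rw [hj] at h1
    have h3 : p ^ j = 1 := Nat.Coprime.eq_one_of_dvd h2 h1
    rw [h3] at hj
    have h4 : a = 1 := orderOf_eq_one_iff.mp hj
    rw [h4]
    exact Subgroup.mem_bot.mpr rfl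
  · apply le_antisymm
    · apply sup_le
      · exact inf_le_inf_left A hCHS
      · intro x hx
        obtain ⟨hx1, hx2⟩ := Subgroup.mem_inf.mp hx
        obtain ⟨a, -, rfl⟩ := Subgroup.mem_map.mp hx1
        exact Subgroup.mem_inf.mpr ⟨a.2, hx2⟩
    · intro x hx
      obtain ⟨hxA, hxS⟩ := Subgroup.mem_inf.mp hx
      obtain ⟨a, ha⟩ : ∃ a : ↥A, a = ⟨x, hxA⟩ := ⟨_, rfl⟩
      have haS : (a : G) ∈ Subgroup.centralizer (S : Set G) := by rw [ha]; exact hxS
      obtain ⟨w, hw⟩ : ∃ w : ↥A, w = τ a := ⟨_, rfl⟩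
      have hwH : (w : G) ∈ Subgroup.centralizer (H : Set G) := by rw [hw]; exact hτcent a haS
      obtain ⟨j, hj⟩ := (IsPGroup.iff_orderOf.mp hAp) w
      have hcop : (S.relIndex H).Coprime (orderOf w) := by
        rw [hj]
        exact (Nat.Coprime.pow_left j ((Nat.Prime.coprime_iff_not_dvd hpp).mpr hm)).symm
      obtain ⟨u, hu⟩ := exists_pow_eq_self_of_coprime hcop
      obtain ⟨w', hw'⟩ : ∃ w' : ↥A, w' = w ^ u := ⟨_, rfl⟩
      have hw'H : (w' : G) ∈ Subgroup.centralizer (H : Set G) := by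
        rw [hw', Subgroup.coe_pow]
        exact Subgroup.pow_mem _ hwH u
      have hτw' : τ w' = w := by
        rw [hτH w' hw'H, hw', ← pow_mul, mul_comm, pow_mul]
        exact hu
      have hxe : x = (w' : G) * ((w'⁻¹ * a : ↥A) : G) := by
        rw [ha]; simp
      rw [hxe]
      refine Subgroup.mul_mem _ (Subgroup.mem_sup_left (Subgroup.mem_inf.mpr ⟨w'.2, hw'H⟩))
        (Subgroup.mem_sup_right (Subgroup.mem_inf.mpr ⟨?_, ?_⟩))
      · refine Subgroup.mem_map.mpr ⟨w'⁻¹ * a, ?_, rfl⟩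
        rw [MonoidHom.mem_ker, map_mul, map_inv, hτw', hw]
        exact inv_mul_cancel _
      · rw [Subgroup.coe_mul, Subgroup.coe_inv]
        exact Subgroup.mul_mem _ (Subgroup.inv_mem _ (hCHS hw'H)) haS

end trace

/-- Let S be a Sylow p-subgroup of the finite group G and suppose that the centre Z(S) lies in O_{p',p}(G). The elements of S each of which is its only G-conjugate in S form a subgroup W of Z(S); W is then a direct factor of Z(S): there is a subgroup K of Z(S) with W ∩ K = 1 and WK = Z(S). -/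
theorem result {G : Type*} [Group G] [Finite G] {p : ℕ} [Fact p.Prime] (S : Sylow p G)
    (hZ : ((S : Subgroup G) ⊓ Subgroup.centralizer ((S : Subgroup G) : Set G)) ≤ Cfsg.pPrimePCore p G) :
    ∃ W K : Subgroup G, (∀ x : G, x ∈ W ↔ (x ∈ (S : Subgroup G) ∧ ∀ g : G, g * x * g⁻¹ ∈ (S : Subgroup G) → g * x * g⁻¹ = x)) ∧
      K ≤ ((S : Subgroup G) ⊓ Subgroup.centralizer ((S : Subgroup G) : Set G)) ∧ W ⊓ K = ⊥ ∧ W ⊔ K = ((S : Subgroup G) ⊓ Subgroup.centralizer ((S : Subgroup G) : Set G)) := by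
  classical
  have hpp : p.Prime := Fact.out
  haveI hLn : (Cfsg.pPrimePCore p G).Normal := Cfsg.Agent.helper7.pPrimePCore_normal p
  haveI hMn : (Cfsg.pPrimeCore p G).Normal := Cfsg.Agent.helper1.pPrimeCore_normal p
  have hMcop : (Nat.card ↥(Cfsg.pPrimeCore p G)).Coprime p := Cfsg.Agent.helper1.pPrimeCore_coprime p
  obtain ⟨Q, hQ⟩ : ∃ Q : Subgroup G, Q = (S : Subgroup G) ⊓ Cfsg.pPrimePCore p G := ⟨_, rfl⟩
  obtain ⟨N₁, hN₁⟩ : ∃ N₁ : Subgroup G, N₁ = Subgroup.normalizer (Q : Set G) := ⟨_, rfl⟩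
  obtain ⟨A, hA⟩ : ∃ A : Subgroup G, A = Q ⊓ Subgroup.centralizer (Q : Set G) := ⟨_, rfl⟩
  have hQS : Q ≤ (S : Subgroup G) := by rw [hQ]; exact inf_le_left
  have hSN₁ : (S : Subgroup G) ≤ N₁ := by
    rw [hN₁, hQ]
    exact Cfsg.Agent.helper10.sylow_le_normalizer_inf_normal S (Cfsg.pPrimePCore p G)
  have hAS : A ≤ (S : Subgroup G) := by rw [hA]; exact inf_le_left.trans hQS
  have hAc : ∀ a ∈ A, ∀ b ∈ A, a * b = b * a := by
    intro a ha b hb
    rw [hA] at ha hb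
    have h1 := (Subgroup.mem_inf.mp hb).2
    rw [Subgroup.mem_centralizer_iff] at h1
    exact h1 a (Subgroup.mem_inf.mp ha).1
  have hN₁A : N₁ ≤ Subgroup.normalizer (A : Set G) := by
    apply le_normalizer_of_conj_mem
    intro g hg x hx
    rw [hN₁] at hg
    rw [hA] at hx ⊢
    obtain ⟨hx1, hx2⟩ := Subgroup.mem_inf.mp hx
    have hgn := Subgroup.mem_normalizer_iff.mp hg
    refine Subgroup.mem_inf.mpr ⟨(hgn x).mp hx1, ?_⟩
    rw [Subgroup.mem_centralizer_iff] at hx2 ⊢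
    intro y hy
    have hy' : g⁻¹ * y * g ∈ Q := by
      have h1 := (Subgroup.mem_normalizer_iff.mp (Subgroup.inv_mem _ hg) y).mp hy
      simpa using h1
    have h2 := hx2 _ hy'
    calc y * (g * x * g⁻¹) = g * ((g⁻¹ * y * g) * x) * g⁻¹ := by group
      _ = g * (x * (g⁻¹ * y * g)) * g⁻¹ := by rw [h2]
      _ = g * x * g⁻¹ * y := by group
  have hAp : IsPGroup p ↥A := S.isPGroup'.to_le hAS
  have hm : ¬ p ∣ (S : Subgroup G).relIndex N₁ := by
    intro h
    exact S.not_dvd_index (h.trans (Subgroup.relIndex_dvd_index_of_le hSN₁))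
  obtain ⟨K, hK1, hK2, hK3⟩ := trace_split N₁ (S : Subgroup G) A hSN₁ hAc hN₁A hAp hm
  -- Z(S) = C_A(S)
  have hZA : (S : Subgroup G) ⊓ Subgroup.centralizer ((S : Subgroup G) : Set G) ≤ A := by
    intro x hx
    obtain ⟨hx1, hx2⟩ := Subgroup.mem_inf.mp hx
    rw [hA]
    refine Subgroup.mem_inf.mpr ⟨?_, Subgroup.centralizer_le hQS hx2⟩
    rw [hQ]
    exact Subgroup.mem_inf.mpr ⟨hx1, hZ hx⟩
  have hZeq : A ⊓ Subgroup.centralizer ((S : Subgroup G) : Set G)
      = (S : Subgroup G) ⊓ Subgroup.centralizer ((S : Subgroup G) : Set G) := by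
    apply le_antisymm
    · exact inf_le_inf_right _ hAS
    · exact le_inf hZA inf_le_right
  rw [hZeq] at hK1 hK3
  refine ⟨A ⊓ Subgroup.centralizer (N₁ : Set G), K, ?_, hK1, hK2, hK3⟩
  intro x
  constructor
  · intro hx
    obtain ⟨hxA, hxN⟩ := Subgroup.mem_inf.mp hx
    refine ⟨hAS hxA, ?_⟩
    intro g hg
    obtain ⟨n, hn, d, hd, hgnd⟩ := Cfsg.Agent.helper10.frattini_pPrimePCore S g⁻¹
    have hn' : n ∈ N₁ := by rw [hN₁, hQ]; exact hn
    rw [Subgroup.mem_centralizer_iff] at hxN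
    have hnx : n * x = x * n := hxN n hn'
    have hg' : g = d⁻¹ * n⁻¹ := by
      have : g = (g⁻¹)⁻¹ := by group
      rw [this, hgnd]; group
    have hy : g * x * g⁻¹ = d⁻¹ * x * d := by
      rw [hg']
      calc d⁻¹ * n⁻¹ * x * (d⁻¹ * n⁻¹)⁻¹ = d⁻¹ * (n⁻¹ * (x * n)) * d := by group
        _ = d⁻¹ * (n⁻¹ * (n * x)) * d := by rw [hnx]
        _ = d⁻¹ * x * d := by group
    rw [hy] at hg ⊢
    have h1 : d⁻¹ * x * d * x⁻¹ ∈ Cfsg.pPrimeCore p G := by
      have h2 : d⁻¹ * x * d * x⁻¹ = d⁻¹ * (x * d * x⁻¹) := by group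
      rw [h2]
      exact Subgroup.mul_mem _ (Subgroup.inv_mem _ hd) (hMn.conj_mem d hd x)
    have h3 : d⁻¹ * x * d * x⁻¹ ∈ (S : Subgroup G) :=
      Subgroup.mul_mem _ hg (Subgroup.inv_mem _ (hAS hxA))
    have h4 := Cfsg.Agent.helper10.eq_one_of_mem_pgroup_of_mem_coprime S.isPGroup' hMcop h3 h1
    calc d⁻¹ * x * d = (d⁻¹ * x * d * x⁻¹) * x := by group
      _ = x := by rw [h4, one_mul]
  · rintro ⟨hxS, hwc⟩
    have hxC : x ∈ Subgroup.centralizer ((S : Subgroup G) : Set G) := by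
      rw [Subgroup.mem_centralizer_iff]
      intro s hs
      have h1 := hwc s (Subgroup.mul_mem _ (Subgroup.mul_mem _ hs hxS) (Subgroup.inv_mem _ hs))
      calc s * x = (s * x * s⁻¹) * s := by group
        _ = x * s := by rw [h1]
    have hxA : x ∈ A := hZA (Subgroup.mem_inf.mpr ⟨hxS, hxC⟩)
    refine Subgroup.mem_inf.mpr ⟨hxA, ?_⟩
    rw [Subgroup.mem_centralizer_iff]
    intro n hn
    have h1 : n * x * n⁻¹ ∈ A := (Subgroup.mem_normalizer_iff.mp (hN₁A hn) x).mp hxA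
    have h2 := hwc n (hAS h1)
    calc n * x = (n * x * n⁻¹) * n := by group
      _ = x * n := by rw [h2]

end Cfsg.Agent.S1944
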