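import Cfsg.Statements.S1972
import Mathlib
import Cfsg.Agent.Lib_helper10_Tr12
import Cfsg.Agent.Lib_helper10_Tr6

set_option autoImplicit false
universe u
open Cfsg

namespace Cfsg.Agent.S1972

/-- The hypothesis on chief factors. -/
def PropD (p : ℕ) (W : ∀ (Q : Type u) [Group Q], Subgroup Q) (Y : Type u) [Group Y] : Prop :=
  ∀ T : Sylow p Y, ¬ (Cfsg.inducedFunctor (G := Y) W (T : Subgroup Y)).Normal →
    ∃ g : Y, g ∈ (T : Subgroup Y) ∧ g ∉ Cfsg.pCore p Y ∧
      ∀ U V : Subgroup Y, Cfsg.IsChiefFactor U V → U ≤ Cfsg.pCore p Y →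
        Cfsg.iterCommutator U (Subgroup.zpowers g) (p - 1) ≤ V

theorem iterCommutator_map {A B : Type*} [Group A] [Group B] (f : A →* B) (U H : Subgroup A) (i : ℕ) :
    (Cfsg.iterCommutator U H i).map f = Cfsg.iterCommutator (U.map f) (H.map f) i := by
  induction i with
  | zero => rfl
  | succ i ih =>
    show (⁅Cfsg.iterCommutator U H i, H⁆).map f = ⁅Cfsg.iterCommutator (U.map f) (H.map f) i, H.map f⁆
    rw [Subgroup.map_commutator, ih]

theorem isChiefFactor_comap {A B : Type*} [Group A] [Group B] (e : A ≃* B) (U V : Subgroup B)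
    (h : Cfsg.IsChiefFactor U V) :
    Cfsg.IsChiefFactor (U.comap e.toMonoidHom) (V.comap e.toMonoidHom) := by
  obtain ⟨hlt, hUn, hVn, hmin⟩ := h
  refine ⟨?_, hUn.comap _, hVn.comap _, ?_⟩
  · refine lt_of_le_of_ne (Subgroup.comap_mono hlt.le) ?_
    intro heq
    apply hlt.ne
    have h1 := congrArg (Subgroup.map e.toMonoidHom) heq
    rwa [Subgroup.map_comap_eq_self_of_surjective e.surjective,
      Subgroup.map_comap_eq_self_of_surjective e.surjective] at h1
  · intro N hNn hVN hNU
    have hNn' : (N.map e.toMonoidHom).Normal := hNn.map _ e.surjective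
    have h1 : V ≤ N.map e.toMonoidHom := by
      have := Subgroup.map_mono (f := e.toMonoidHom) hVN
      rwa [Subgroup.map_comap_eq_self_of_surjective e.surjective] at this
    have h2 : N.map e.toMonoidHom ≤ U := by
      have := Subgroup.map_mono (f := e.toMonoidHom) hNU
      rwa [Subgroup.map_comap_eq_self_of_surjective e.surjective] at this
    have h3 : (N.map e.toMonoidHom).comap e.toMonoidHom = N :=
      Subgroup.comap_map_eq_self_of_injective e.injective N
    rcases hmin _ hNn' h1 h2 with h | h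
    · left; rw [← h3, h]
    · right; rw [← h3, h]

open Cfsg.Agent.helper10 in
theorem propD_iso {p : ℕ} [Fact p.Prime] (W : ∀ (Q : Type u) [Group Q], Subgroup Q)
    (hW : Cfsg.IsCharPFunctor.{u} p W) (A B : Type u) [Group A] [Group B] [Finite A] (e : A ≃* B)
    (h : PropD p W A) : PropD p W B := by
  intro T hTn
  haveI : Finite B := Finite.of_equiv A e.toEquiv
  have hTp : IsPGroup p ((T : Subgroup B).map e.symm.toMonoidHom) := T.isPGroup'.map _
  haveI : Finite ((T : Subgroup B).map e.symm.toMonoidHom) := inferInstance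
  have h5 := induced_map_of_injOn W hW e.toMonoidHom ((T : Subgroup B).map e.symm.toMonoidHom) hTp
    (fun x _ hx => e.injective (by rw [map_one]; exact hx))
  have h6 : ((T : Subgroup B).map e.symm.toMonoidHom).map e.toMonoidHom = (T : Subgroup B) := by
    rw [Subgroup.map_map]
    have : e.toMonoidHom.comp e.symm.toMonoidHom = MonoidHom.id B := by
      ext x; simp
    rw [this, Subgroup.map_id]
  rw [h6] at h5
  have h1' : ((T.mapSurjective (f := e.symm.toMonoidHom) e.symm.surjective : Sylow p A) : Subgroup A) =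
      (T : Subgroup B).map e.symm.toMonoidHom := rfl
  obtain ⟨g', hg'T, hg'P, hg'N⟩ := h (T.mapSurjective (f := e.symm.toMonoidHom) e.symm.surjective) (by
    rw [h1']
    intro hn
    apply hTn
    rw [h5]
    exact hn.map _ e.surjective)
  rw [h1'] at hg'T
  refine ⟨e g', ?_, ?_, ?_⟩
  · obtain ⟨t, ht, rfl⟩ := hg'T
    have : e (e.symm.toMonoidHom t) = t := by simp
    rw [this]; exact ht
  · rw [← pCore_map_equiv p e]
    rintro ⟨x, hx, hxe⟩
    have : x = g' := e.injective hxe
    rw [this] at hx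
    exact hg'P hx
  · intro U V hUV hUP
    have hUP' : U.comap e.toMonoidHom ≤ Cfsg.pCore p A := by
      rw [← pCore_map_equiv p e] at hUP
      have := Subgroup.comap_mono (f := e.toMonoidHom) hUP
      rwa [Subgroup.comap_map_eq_self_of_injective e.injective] at this
    have h2 := hg'N _ _ (isChiefFactor_comap e U V hUV) hUP'
    have h3 := Subgroup.map_mono (f := e.toMonoidHom) h2
    rw [iterCommutator_map, Subgroup.map_comap_eq_self_of_surjective e.surjective,
      Subgroup.map_comap_eq_self_of_surjective e.surjective, MonoidHom.map_zpowers] at h3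
    exact h3

open Cfsg.Agent.helper10 in
theorem ctlT_of_constrained {p : ℕ} [Fact p.Prime] (W : ∀ (Q : Type u) [Group Q], Subgroup Q)
    (hW : Cfsg.IsCharPFunctor.{u} p W) (Y : Type u) [Group Y] [Finite Y]
    (hY : SecHyp (fun Y _ => Constrained p Y) (fun Y _ => PropD p W Y) Y)
    (hc : Constrained p Y)
    (hsub : ∀ H : Subgroup Y, H ≠ ⊤ → CtlT p {W} H)
    (hquot : ∀ (N : Subgroup Y) [N.Normal], N ≠ ⊥ → CtlT p {W} (Y ⧸ N)) : CtlT p {W} Y := by
  have h𝓦 := singleton_char W hW
  by_contra hnot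
  have hmc : MinCtr p {W} Y := ⟨hsub, fun N _ hN => hquot N hN, hnot⟩
  obtain ⟨S⟩ : Nonempty (Sylow p Y) := inferInstance
  by_cases hn : (Cfsg.inducedFunctor (G := Y) W (S : Subgroup Y)).Normal
  · apply mc_not_le S hmc
    have h1 : Subgroup.normalizer ((Cfsg.inducedFunctor (G := Y) W (S : Subgroup Y) : Subgroup Y) : Set Y) = ⊤ :=
      Subgroup.normalizer_eq_top_iff.mpr hn
    have h2 := le_RT (𝓦 := fam {W} Y) ⊤ (S : Subgroup Y) (Cfsg.inducedFunctor (G := Y) W) ⟨W, rfl, rfl⟩
    rw [h1, top_inf_eq] at h2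
    exact h2
  · obtain ⟨g, hgS, hgP, hgN⟩ := secHyp_top hY hc S hn
    obtain ⟨U, V, hUV, hUP, hnot'⟩ := mc_chief h𝓦 ⟨W, rfl⟩ S hmc g hgS hgP
    exact hnot' (hgN U V hUV hUP)

open Cfsg.Agent.helper10 in
/-- Let p be a prime, G a finite group and W an isomorphism-invariant p-group functor (W assigns to every group Q a subgroup W(Q), nontrivial whenever Q is a nontrivial finite p-group, and every isomorphism from a finite p-group Q onto a group R carries W(Q) onto W(R)). Suppose that whenever G* = K/R is a section of G with C_{G*}(O_p(G*)) ≤ O_p(G*) and S* is a Sylow p-subgroup of G* with W(S*) not normal in G*, there is an element g of S* outside O_p(G*) such that [X, g, …, g] ≤ Y with p − 1 entries g, for every chief factor X/Y of G* with X ≤ O_p(G*). Then W controls transfer in every section of G. -/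
theorem result {G : Type u} [Group G] [Finite G] {p : ℕ} [Fact p.Prime] (W : ∀ (Q : Type u) [Group Q], Subgroup Q) (hW : Cfsg.IsCharPFunctor.{u} p W) (hloc : ∀ (K R : Subgroup G) [hR : (R.subgroupOf K).Normal], Subgroup.centralizer ((Cfsg.pCore p (↥K ⧸ R.subgroupOf K) : Subgroup (↥K ⧸ R.subgroupOf K)) : Set (↥K ⧸ R.subgroupOf K)) ≤ Cfsg.pCore p (↥K ⧸ R.subgroupOf K) → ∀ T : Sylow p (↥K ⧸ R.subgroupOf K), ¬ (Cfsg.inducedFunctor (G := (↥K ⧸ R.subgroupOf K)) W ((T : Subgroup (↥K ⧸ R.subgroupOf K)))).Normal → ∃ g : (↥K ⧸ R.subgroupOf K), g ∈ (T : Subgroup (↥K ⧸ R.subgroupOf K)) ∧ g ∉ Cfsg.pCore p (↥K ⧸ R.subgroupOf K) ∧ ∀ U V : Subgroup (↥K ⧸ R.subgroupOf K), Cfsg.IsChiefFactor U V → U ≤ Cfsg.pCore p (↥K ⧸ R.subgroupOf K) → Cfsg.iterCommutator U (Subgroup.zpowers g) (p - 1) ≤ V) : ∀ (K R : Subgroup G) [hR : (R.subgroupOf K).Normal], Cfsg.ControlsTransferIn p (Cfsg.inducedFunctor (G := (↥K ⧸ R.subgroupOf K)) W) ⊤ := by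
  have h𝓦 := singleton_char W hW
  have hsec : SecHyp (fun Y _ => Constrained p Y) (fun Y _ => PropD p W Y) G := by
    apply secHyp_of_sections
    · intro A B _ _ _ e h
      exact constrained_iso e.symm h
    · intro A B _ _ _ e h
      exact propD_iso W hW A B e h
    · intro K R _ hc
      exact hloc K R hc
  intro K R _
  have h1 := ctlT_section_induction h𝓦 (fun Y _ => Constrained p Y) (fun Y _ => PropD p W Y)
    (fun Y _ _ hY hc hsub hquot => ctlT_of_constrained W hW Y hY hc hsub hquot) _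
    (↥K ⧸ R.subgroupOf K) rfl (secHyp_section hsec K R)
  exact (ctlT_singleton_iff W _).1 h1

end Cfsg.Agent.S1972
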