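import Cfsg.Statements.S1985
import Mathlib
import Cfsg.Agent.S1973
import Cfsg.Agent.Lib_helper10_KInf4
import Cfsg.Agent.Lib_helper10_Sec1

set_option autoImplicit false
universe u
open Cfsg

namespace Cfsg.Agent.S1985

open Cfsg.Agent.helper10 in
/-- Let p be an odd prime and G a finite group. Then the lower K-infinity subgroup controls weak closure of elements in G: the lower K-infinity subgroup of every p-subgroup P of G contains Z(P), and for some (equivalently, every) Sylow p-subgroup S of G, with K the lower K-infinity subgroup of S, every element of S commuting with all of N_G(K) is weakly closed in S with respect to G (every G-conjugate of it lying in S equals it). -/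
theorem result {G : Type u} [Group G] [Finite G] {p : ℕ} [Fact p.Prime] (hp : p ≠ 2) : Cfsg.ControlsWeakClosureOfElementsIn p (Cfsg.inducedFunctor (G := G) Cfsg.kInfLower) ⊤ := by
  have hWc : Cfsg.IsCharPFunctor.{u} p Cfsg.kInfLower := isCharPFunctor_kInfLower p
  have hW : Cfsg.IsConjugacyFunctor p (Cfsg.inducedFunctor (G := G) Cfsg.kInfLower) :=
    induced_isConjugacyFunctor _ hWc
  have hp3 : 3 ≤ p := by
    have := (Fact.out : p.Prime).two_le
    omega
  have hWZ : ∀ P : Subgroup G, IsPGroup p ↥P →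
      P ⊓ Subgroup.centralizer ((P : Subgroup G) : Set G) ≤ Cfsg.inducedFunctor Cfsg.kInfLower P := by
    intro P hP y hy
    have hyP := (Subgroup.mem_inf.mp hy).1
    have hyC := (Subgroup.mem_inf.mp hy).2
    have h1 : (⟨y, hyP⟩ : ↥P) ∈ Subgroup.center ↥P := by
      rw [Subgroup.mem_center_iff]
      intro q
      exact Subtype.ext ((Subgroup.mem_centralizer_iff.mp hyC) (q : G) q.2)
    exact ⟨⟨y, hyP⟩, center_le_kInfLower hP h1, rfl⟩
  refine Cfsg.Agent.S1973.result _ hW hWZ ?_ ⊤
  intro H T hTH hTp hidx hnn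
  have hinj : Function.Injective H.subtype := Subgroup.subtype_injective H
  have hSp : IsPGroup p ↥(T.subgroupOf H) := hTp.comap_subtype
  obtain ⟨S, hS⟩ : ∃ S : Sylow p ↥H, (S : Subgroup ↥H) = T.subgroupOf H :=
    ⟨hSp.toSylow hidx, IsPGroup.toSylow_coe hSp hidx⟩
  have hSmap : (S : Subgroup ↥H).map H.subtype = T := by
    rw [hS]; exact Subgroup.map_subgroupOf_eq_of_le hTH
  have hKmap : (Cfsg.inducedFunctor (G := ↥H) Cfsg.kInfLower (S : Subgroup ↥H)).map H.subtype =
      Cfsg.inducedFunctor (G := G) Cfsg.kInfLower T := by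
    rw [← hSmap]
    exact (induced_map_of_injOn Cfsg.kInfLower hWc H.subtype (S : Subgroup ↥H) S.isPGroup'
      (fun x _ hx => by
        apply hinj
        rw [hx]; rfl)).symm
  have hnotn : ¬ (Cfsg.inducedFunctor (G := ↥H) Cfsg.kInfLower (S : Subgroup ↥H)).Normal := by
    intro hn
    apply hnn
    have h1 := Subgroup.le_normalizer_map (H := Cfsg.inducedFunctor (G := ↥H) Cfsg.kInfLower (S : Subgroup ↥H))
      H.subtype
    rw [Subgroup.normalizer_eq_top_iff.mpr hn, hKmap, ← MonoidHom.range_eq_map,
      Subgroup.range_subtype] at h1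
    exact h1
  obtain ⟨g, hgS, hgQ, -, hg2⟩ := kinf_quartic S (Or.inl hnotn)
  refine ⟨(g : G), ?_, ?_, ?_⟩
  · rw [← hSmap]; exact ⟨g, hgS, rfl⟩
  · rintro ⟨q, hq, hqe⟩
    apply hgQ
    have : q = g := Subtype.ext hqe
    rw [← this]; exact hq
  · intro U V hUV hUle
    haveI hUn : U.Normal := hUV.2.1
    have hUZ : U ≤ Cfsg.pCore p ↥H ⊓ Subgroup.centralizer ((Cfsg.pCore p ↥H : Subgroup ↥H) : Set ↥H) := by
      have h1 : U.map H.subtype ≤ (Cfsg.pCore p ↥H).map H.subtype := hUle.trans inf_le_left
      have h2 : U.map H.subtype ≤ Subgroup.centralizer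
          ((((Cfsg.pCore p ↥H).map H.subtype : Subgroup G)) : Set G) := hUle.trans inf_le_right
      refine le_inf ((Subgroup.map_le_map_iff_of_injective hinj).mp h1) ?_
      exact (kmap_le_centralizer_map_iff hinj _ _).mp h2
    have h3 : Cfsg.iterCommutator U (Subgroup.zpowers g) (p - 1) ≤ ⊥ := by
      refine le_trans (iter_antitone U g (by omega : 2 ≤ p - 1)) ?_
      refine le_trans (iter_mono_left hUZ _ 2) ?_
      exact le_of_eq hg2
    have h4 := Subgroup.map_mono (f := H.subtype) (h3.trans bot_le : _ ≤ V)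
    rw [Cfsg.Agent.S1972.iterCommutator_map] at h4
    have hz : (Subgroup.zpowers g).map H.subtype = Subgroup.zpowers (g : G) := by
      rw [MonoidHom.map_zpowers]; rfl
    rw [hz] at h4
    exact h4

end Cfsg.Agent.S1985
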