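import Cfsg.Statements.S1945
import Mathlib
import Cfsg.Agent.S1944
import Cfsg.Agent.S1985
import Cfsg.Agent.Lib_helper23_PSolv3
import Cfsg.Agent.Lib_helper3_PStab2
import Cfsg.Agent.Lib_helper10_PPrimeP
import Cfsg.Agent.Lib_helper10_Sylow

set_option autoImplicit false
universe u
open Cfsg

namespace Cfsg.Agent.S1945

/-- In a solvable group the centre of a Sylow `p`-subgroup lies in `O_{p',p}(G)` (Hall–Higman 1.2.3). -/
theorem center_sylow_le_pPrimePCore {G : Type u} [Group G] [Finite G] {p : ℕ} [Fact p.Prime]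
    [Group.IsSolvable G] (S : Sylow p G) :
    (S : Subgroup G) ⊓ Subgroup.centralizer ((S : Subgroup G) : Set G) ≤ Cfsg.pPrimePCore p G := by
  haveI hNn : (Cfsg.pPrimeCore p G).Normal := Cfsg.Agent.helper1.pPrimeCore_normal p
  intro z hz
  obtain ⟨hzS, hzC⟩ := Subgroup.mem_inf.mp hz
  show QuotientGroup.mk' (Cfsg.pPrimeCore p G) z ∈ Cfsg.pCore p (G ⧸ Cfsg.pPrimeCore p G)
  have hps : Cfsg.Agent.helper23.PSReach p (⊤ : Subgroup (G ⧸ Cfsg.pPrimeCore p G)) :=
    Cfsg.Agent.helper23.psreach_of_isPSolvable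
      (Cfsg.Agent.helper23.isPSolvable_of_solvable p (G ⧸ Cfsg.pPrimeCore p G))
  have hO : Cfsg.pPrimeCore p (G ⧸ Cfsg.pPrimeCore p G) = ⊥ :=
    Cfsg.Agent.helper9.pPrimeCore_quotient_eq_bot p
  apply Cfsg.Agent.helper23.hall_higman_123 hps hO
  rw [Subgroup.mem_centralizer_iff]
  intro y hy
  obtain ⟨v, rfl⟩ := QuotientGroup.mk'_surjective (Cfsg.pPrimeCore p G) y
  have hv : v ∈ Cfsg.pPrimePCore p G := hy
  obtain ⟨s, hs, d, hd, rfl⟩ := Cfsg.Agent.helper10.pPrimePCore_eq_mul S hv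
  have hsS : s ∈ (S : Subgroup G) := (Subgroup.mem_inf.mp hs).1
  have hd1 : QuotientGroup.mk' (Cfsg.pPrimeCore p G) d = 1 := (QuotientGroup.eq_one_iff d).mpr hd
  rw [map_mul, hd1, mul_one, ← map_mul, ← map_mul]
  congr 1
  exact (Subgroup.mem_centralizer_iff.mp hzC) s hsS

theorem normal_pgroup_le_pPrimePCore {H : Type*} [Group H] {p : ℕ} (V : Subgroup H)
    (hV : V.Normal) (hp : IsPGroup p V) : V ≤ Cfsg.pPrimePCore p H :=
  (Cfsg.Agent.helper1.le_pCore hV hp).trans (Cfsg.Agent.helper3.pCore_le_pPrimePCore p)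

/-- Descent to the normalizer of a normal-in-`S` subgroup `V` containing `Z(S)` whose normalizer
controls weak closure of central elements. -/
theorem descent {G : Type u} [Group G] [Finite G] {p : ℕ} [Fact p.Prime] (S : Sylow p G)
    (V : Subgroup G) (hVS : V ≤ (S : Subgroup G))
    (hZV : (S : Subgroup G) ⊓ Subgroup.centralizer ((S : Subgroup G) : Set G) ≤ V)
    (hSN : (S : Subgroup G) ≤ Subgroup.normalizer (V : Set G))
    (hwc : ∀ x ∈ (S : Subgroup G) ⊓
        Subgroup.centralizer ((Subgroup.normalizer (V : Set G) : Subgroup G) : Set G),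
        ∀ h : G, h * x * h⁻¹ ∈ (S : Subgroup G) → h * x * h⁻¹ = x) :
    ∃ W K : Subgroup G, (∀ x : G, x ∈ W ↔ (x ∈ (S : Subgroup G) ∧ ∀ g : G, g * x * g⁻¹ ∈ (S : Subgroup G) → g * x * g⁻¹ = x)) ∧
      K ≤ ((S : Subgroup G) ⊓ Subgroup.centralizer ((S : Subgroup G) : Set G)) ∧ W ⊓ K = ⊥ ∧ W ⊔ K = ((S : Subgroup G) ⊓ Subgroup.centralizer ((S : Subgroup G) : Set G)) := by
  obtain ⟨N, hN⟩ : ∃ N : Subgroup G, N = Subgroup.normalizer (V : Set G) := ⟨_, rfl⟩
  rw [← hN] at hSN hwc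
  have hSp : IsPGroup p ↥((S : Subgroup G).subgroupOf N) := S.isPGroup'.comap_subtype
  have hidx : ¬ p ∣ ((S : Subgroup G).subgroupOf N).index := by
    intro hdvd
    apply S.not_dvd_index
    have h1 := Subgroup.relIndex_mul_index hSN
    exact dvd_trans hdvd (Dvd.intro _ h1)
  obtain ⟨SN, hSNc⟩ : ∃ SN : Sylow p ↥N, (SN : Subgroup ↥N) = (S : Subgroup G).subgroupOf N :=
    ⟨hSp.toSylow hidx, IsPGroup.toSylow_coe hSp hidx⟩
  have hdown : ∀ y : ↥N, y ∈ ((S : Subgroup G).subgroupOf N) ⊓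
      Subgroup.centralizer ((((S : Subgroup G).subgroupOf N : Subgroup ↥N)) : Set ↥N) →
      (y : G) ∈ (S : Subgroup G) ⊓ Subgroup.centralizer ((S : Subgroup G) : Set G) := by
    intro y hy
    obtain ⟨hy1, hy2⟩ := Subgroup.mem_inf.mp hy
    refine Subgroup.mem_inf.mpr ⟨Subgroup.mem_subgroupOf.mp hy1, ?_⟩
    rw [Subgroup.mem_centralizer_iff]
    intro s hs
    have h1 := (Subgroup.mem_centralizer_iff.mp hy2) ⟨s, hSN hs⟩ (Subgroup.mem_subgroupOf.mpr hs)
    exact congrArg Subtype.val h1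
  have hup : ∀ (x : G) (hx : x ∈ (S : Subgroup G) ⊓ Subgroup.centralizer ((S : Subgroup G) : Set G)),
      (⟨x, hSN (Subgroup.mem_inf.mp hx).1⟩ : ↥N) ∈ ((S : Subgroup G).subgroupOf N) ⊓
      Subgroup.centralizer ((((S : Subgroup G).subgroupOf N : Subgroup ↥N)) : Set ↥N) := by
    intro x hx
    obtain ⟨hx1, hx2⟩ := Subgroup.mem_inf.mp hx
    refine Subgroup.mem_inf.mpr ⟨Subgroup.mem_subgroupOf.mpr hx1, ?_⟩
    rw [Subgroup.mem_centralizer_iff]
    intro s hs
    apply Subtype.ext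
    exact (Subgroup.mem_centralizer_iff.mp hx2) (s : G) (Subgroup.mem_subgroupOf.mp hs)
  have hVn : (V.subgroupOf N).Normal := by rw [hN]; exact Subgroup.normal_in_normalizer
  have hVp : IsPGroup p ↥(V.subgroupOf N) := (S.isPGroup'.to_le hVS).comap_subtype
  have hZ' : ((SN : Subgroup ↥N) ⊓ Subgroup.centralizer ((SN : Subgroup ↥N) : Set ↥N)) ≤
      Cfsg.pPrimePCore p ↥N := by
    rw [hSNc]
    intro y hy
    apply normal_pgroup_le_pPrimePCore _ hVn hVp
    rw [Subgroup.mem_subgroupOf]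
    exact hZV (hdown y hy)
  obtain ⟨WN, KN, hW, hK, hWK, hsup⟩ := Cfsg.Agent.S1944.result SN hZ'
  rw [hSNc] at hW hK hsup
  refine ⟨WN.map N.subtype, KN.map N.subtype, ?_, ?_, ?_, ?_⟩
  · intro x
    constructor
    · rintro ⟨y, hy, rfl⟩
      obtain ⟨hy1, hy2⟩ := (hW y).mp hy
      have hyS : (y : G) ∈ (S : Subgroup G) := Subgroup.mem_subgroupOf.mp hy1
      have hNwc : ∀ n ∈ N, n * (y : G) * n⁻¹ ∈ (S : Subgroup G) → n * (y : G) * n⁻¹ = (y : G) := by
        intro n hn h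
        have h1 := hy2 ⟨n, hn⟩ (Subgroup.mem_subgroupOf.mpr h)
        exact congrArg Subtype.val h1
      have hyZ : (y : G) ∈ (S : Subgroup G) ⊓ Subgroup.centralizer ((S : Subgroup G) : Set G) := by
        refine Subgroup.mem_inf.mpr ⟨hyS, ?_⟩
        rw [Subgroup.mem_centralizer_iff]
        intro s hs
        have h1 := hNwc s (hSN hs)
          (Subgroup.mul_mem _ (Subgroup.mul_mem _ hs hyS) (Subgroup.inv_mem _ hs))
        exact mul_inv_eq_iff_eq_mul.mp h1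
      have hyV : (y : G) ∈ V := hZV hyZ
      have hyC : (y : G) ∈ Subgroup.centralizer ((N : Subgroup G) : Set G) := by
        rw [Subgroup.mem_centralizer_iff]
        intro n hn
        have hn' : n ∈ Subgroup.normalizer (V : Set G) := by rw [← hN]; exact hn
        have hnV : n * (y : G) * n⁻¹ ∈ V := (Subgroup.mem_normalizer_iff.mp hn' (y : G)).mp hyV
        exact mul_inv_eq_iff_eq_mul.mp (hNwc n hn (hVS hnV))
      exact ⟨hyS, hwc (y : G) (Subgroup.mem_inf.mpr ⟨hyS, hyC⟩)⟩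
    · rintro ⟨hxS, hx⟩
      refine ⟨⟨x, hSN hxS⟩, ?_, rfl⟩
      apply (hW _).mpr
      refine ⟨Subgroup.mem_subgroupOf.mpr hxS, ?_⟩
      intro g hg
      apply Subtype.ext
      exact hx (g : G) (Subgroup.mem_subgroupOf.mp hg)
  · rintro _ ⟨k, hk, rfl⟩
    exact hdown k (hK hk)
  · rw [← Subgroup.map_inf _ _ _ (Subgroup.subtype_injective N), hWK, Subgroup.map_bot]
  · rw [← Subgroup.map_sup, hsup]
    ext x
    constructor
    · rintro ⟨y, hy, rfl⟩
      exact hdown y hy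
    · intro hx
      exact ⟨⟨x, hSN (Subgroup.mem_inf.mp hx).1⟩, hup x hx, rfl⟩

theorem odd_case {G : Type u} [Group G] [Finite G] {p : ℕ} [Fact p.Prime] (S : Sylow p G)
    (hp : p ≠ 2) :
    ∃ W K : Subgroup G, (∀ x : G, x ∈ W ↔ (x ∈ (S : Subgroup G) ∧ ∀ g : G, g * x * g⁻¹ ∈ (S : Subgroup G) → g * x * g⁻¹ = x)) ∧
      K ≤ ((S : Subgroup G) ⊓ Subgroup.centralizer ((S : Subgroup G) : Set G)) ∧ W ⊓ K = ⊥ ∧ W ⊔ K = ((S : Subgroup G) ⊓ Subgroup.centralizer ((S : Subgroup G) : Set G)) := by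
  have hWc : Cfsg.IsCharPFunctor.{u} p Cfsg.kInfLower :=
    Cfsg.Agent.helper10.isCharPFunctor_kInfLower p
  have hW : Cfsg.IsConjugacyFunctor p (Cfsg.inducedFunctor (G := G) Cfsg.kInfLower) :=
    Cfsg.Agent.helper10.induced_isConjugacyFunctor _ hWc
  obtain ⟨hZ, T, -, hTp, hTidx, hTwc⟩ := Cfsg.Agent.S1985.result (G := G) hp
  rw [Subgroup.relIndex_top_right] at hTidx
  obtain ⟨g, hg⟩ := MulAction.exists_smul_eq G S (hTp.toSylow hTidx)
  have hTS : T = (S : Subgroup G).map (MulAut.conj g).toMonoidHom := by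
    rw [← Cfsg.Agent.helper10.sylow_smul_eq_map_conj, hg, IsPGroup.toSylow_coe]
  obtain ⟨hVS, -, hconj⟩ := hW (S : Subgroup G) S.isPGroup'
  have hZS := hZ (S : Subgroup G) S.isPGroup'
  obtain ⟨V, hV⟩ : ∃ V : Subgroup G,
      V = Cfsg.inducedFunctor (G := G) Cfsg.kInfLower (S : Subgroup G) := ⟨_, rfl⟩
  rw [← hV] at hVS hconj hZS
  have hSN : (S : Subgroup G) ≤ Subgroup.normalizer (V : Set G) := by
    intro s hs
    rw [Cfsg.Agent.helper10.mem_normalizer_iff_map_conj, ← hconj s]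
    have hSs : (S : Subgroup G).map (MulAut.conj s).toMonoidHom = (S : Subgroup G) :=
      (Cfsg.Agent.helper10.mem_normalizer_iff_map_conj _ s).mp (Subgroup.le_normalizer hs)
    rw [hSs, hV]
  apply descent S V hVS hZS hSN
  intro x hx h hxh
  obtain ⟨hxS, hxC⟩ := Subgroup.mem_inf.mp hx
  have hWT : Cfsg.inducedFunctor (G := G) Cfsg.kInfLower T =
      V.map (MulAut.conj g).toMonoidHom := by
    rw [hTS, hconj g]
  have hx'T : g * x * g⁻¹ ∈ T := by
    rw [hTS]; exact Cfsg.Agent.helper10.conj_mem_map_conj _ g x hxS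
  have hx'C : g * x * g⁻¹ ∈ Subgroup.centralizer ((((⊤ : Subgroup G) ⊓ Subgroup.normalizer
      ((Cfsg.inducedFunctor (G := G) Cfsg.kInfLower T : Subgroup G) : Set G) : Subgroup G)) : Set G) := by
    rw [Subgroup.mem_centralizer_iff]
    intro m hm
    have hm' : m ∈ (⊤ : Subgroup G) ⊓ Subgroup.normalizer
      ((Cfsg.inducedFunctor (G := G) Cfsg.kInfLower T : Subgroup G) : Set G) := hm
    have hm2 := (Subgroup.mem_inf.mp hm').2
    rw [hWT, Cfsg.Agent.helper10.normalizer_map_conj, Cfsg.Agent.helper10.mem_map_conj_iff] at hm2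
    have h1 := (Subgroup.mem_centralizer_iff.mp hxC) _ hm2
    calc m * (g * x * g⁻¹) = g * ((g⁻¹ * m * g) * x) * g⁻¹ := by group
      _ = g * (x * (g⁻¹ * m * g)) * g⁻¹ := by rw [h1]
      _ = g * x * g⁻¹ * m := by group
  have e : (g * h * g⁻¹) * (g * x * g⁻¹) * (g * h * g⁻¹)⁻¹ = g * (h * x * h⁻¹) * g⁻¹ := by group
  have hh : (g * h * g⁻¹) * (g * x * g⁻¹) * (g * h * g⁻¹)⁻¹ ∈ T := by
    rw [e, hTS]
    exact Cfsg.Agent.helper10.conj_mem_map_conj _ g _ hxh
  have h2 := hTwc (g * x * g⁻¹) (Subgroup.mem_inf.mpr ⟨hx'T, hx'C⟩) (g * h * g⁻¹)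
    (Subgroup.mem_top _) hh
  rw [e] at h2
  exact mul_left_cancel (mul_right_cancel h2)

/-- Let S be a Sylow p-subgroup of the finite group G, and assume that p is odd or that G is solvable. The elements of S each of which is its only G-conjugate in S form a subgroup W of Z(S); W is then a direct factor of Z(S): there is a subgroup K of Z(S) with W ∩ K = 1 and WK = Z(S). (For p = 2 and G not solvable this can fail.) -/
theorem result {G : Type*} [Group G] [Finite G] {p : ℕ} [Fact p.Prime] (S : Sylow p G) (h : p ≠ 2 ∨ Group.IsSolvable G) :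
    ∃ W K : Subgroup G, (∀ x : G, x ∈ W ↔ (x ∈ (S : Subgroup G) ∧ ∀ g : G, g * x * g⁻¹ ∈ (S : Subgroup G) → g * x * g⁻¹ = x)) ∧
      K ≤ ((S : Subgroup G) ⊓ Subgroup.centralizer ((S : Subgroup G) : Set G)) ∧ W ⊓ K = ⊥ ∧ W ⊔ K = ((S : Subgroup G) ⊓ Subgroup.centralizer ((S : Subgroup G) : Set G)) := by
  rcases h with hp | hsol
  · exact odd_case S hp
  · haveI := hsol
    exact Cfsg.Agent.S1944.result S (center_sylow_le_pPrimePCore S)

end Cfsg.Agent.S1945
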