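import Mathlib
import Cfsg.Statements.S1946
import Cfsg.Agent.Lib_helper9_AutOmega
import Cfsg.Agent.S0071
import Cfsg.Agent.Lib_lead_Coprime3

set_option autoImplicit false
open Cfsg

namespace Cfsg.Agent.S1946

open Cfsg.Agent.helper7 Cfsg.Agent.lead Cfsg.Agent.helper9
open scoped commutatorElement

/-- Let P be a Sylow p-subgroup of the finite group G. Then G has a normal p-complement if and only if P controls the fusion of its elements of order dividing p (dividing 4 when p = 2): whenever such an element a of P has a G-conjugate g a g⁻¹ in P, that conjugate is already x a x⁻¹ for some x in P. -/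
theorem result {G : Type*} [Group G] [Finite G] {p : ℕ} [Fact p.Prime] (P : Sylow p G) :
    Cfsg.HasNormalPComplement p G ↔
      ∀ a ∈ (P : Subgroup G), (a ^ p = 1 ∨ (p = 2 ∧ a ^ 4 = 1)) → ∀ g : G, g * a * g⁻¹ ∈ (P : Subgroup G) →
        ∃ x ∈ (P : Subgroup G), g * a * g⁻¹ = x * a * x⁻¹ := by
  have hp : p.Prime := Fact.out
  constructor
  · rintro ⟨P₀, N, hNn, hNP₀⟩ a ha _ g hga
    -- `N` is also a complement of `P`
    have hNP : N.IsComplement' (P : Subgroup G) := by
      have hcard : Nat.card (P : Subgroup G) = Nat.card (P₀ : Subgroup G) := by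
        rw [Sylow.card_eq_multiplicity, Sylow.card_eq_multiplicity]
      apply Subgroup.isComplement'_of_coprime
      · rw [hcard]; exact hNP₀.card_mul_card
      · have h1 : Nat.card N = (P₀ : Subgroup G).index := (hNP₀.index_eq_card).symm
        obtain ⟨k, hk⟩ := P.2.exists_card_eq
        rw [h1, hk]
        apply Nat.Coprime.pow_right
        exact ((Nat.Prime.coprime_iff_not_dvd hp).mpr P₀.not_dvd_index).symm
    obtain ⟨⟨n, x⟩, hnx⟩ := hNP.2 g
    have hnx' : (n : G) * (x : G) = g := hnx
    have hnN : (n : G) ∈ N := n.2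
    have hxP : (x : G) ∈ (P : Subgroup G) := x.2
    refine ⟨(x : G), hxP, ?_⟩
    obtain ⟨a', ha'⟩ : ∃ a' : G, a' = (x : G) * a * (x : G)⁻¹ := ⟨_, rfl⟩
    have ha'P : a' ∈ (P : Subgroup G) :=
      ha' ▸ Subgroup.mul_mem _ (Subgroup.mul_mem _ hxP ha) (Subgroup.inv_mem _ hxP)
    have hy' : g * a * g⁻¹ = (n : G) * a' * (n : G)⁻¹ := by
      rw [← hnx', ha']; group
    have h1 : g * a * g⁻¹ * a'⁻¹ ∈ N := by
      have h2 : a' * (n : G)⁻¹ * a'⁻¹ ∈ N := hNn.conj_mem _ (N.inv_mem hnN) a'
      have h3 := N.mul_mem hnN h2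
      have h4 : g * a * g⁻¹ * a'⁻¹ = (n : G) * (a' * (n : G)⁻¹ * a'⁻¹) := by rw [hy']; group
      rw [h4]; exact h3
    have h5 : g * a * g⁻¹ * a'⁻¹ ∈ N ⊓ (P : Subgroup G) :=
      Subgroup.mem_inf.mpr ⟨h1, Subgroup.mul_mem _ hga (Subgroup.inv_mem _ ha'P)⟩
    rw [disjoint_iff.mp hNP.disjoint, Subgroup.mem_bot] at h5
    rw [← ha']
    exact mul_inv_eq_one.mp h5
  · intro hctl
    have hF : FrobCond p G := by
      intro Q hQ g hg hcop
      obtain ⟨y, hy⟩ := Cfsg.Agent.helper10.pgroup_conj_into_sylow P Q hQ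
      -- conjugate the pair into `P`
      obtain ⟨Q', hQ'⟩ : ∃ Q' : Subgroup G, Q' = Q.map (MulAut.conj y).toMonoidHom := ⟨_, rfl⟩
      have hQ'P : Q' ≤ (P : Subgroup G) := hQ' ▸ hy
      have hmemQ' : ∀ z, z ∈ Q' ↔ y⁻¹ * z * y ∈ Q := by
        intro z
        rw [hQ']
        exact mem_cj
      have hg' : y * g * y⁻¹ ∈ Subgroup.normalizer (Q' : Set G) := by
        rw [Subgroup.mem_normalizer_iff]
        intro z
        rw [hmemQ', hmemQ', (Subgroup.mem_normalizer_iff.mp hg) (y⁻¹ * z * y)]
        have : g * (y⁻¹ * z * y) * g⁻¹ = y⁻¹ * (y * g * y⁻¹ * z * (y * g * y⁻¹)⁻¹) * y := by group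
        rw [this]
      have hcop' : Nat.Coprime (orderOf (y * g * y⁻¹)) p := by
        have : orderOf (y * g * y⁻¹) = orderOf g := by
          have := orderOf_injective (MulAut.conj y).toMonoidHom (MulAut.conj y).injective g
          simpa using this
        rwa [this]
      have key := centralizes_of_minimal (G := G) (p := p) (fun R => R ≤ (P : Subgroup G))
        (fun _ _ hRQ hQP => hRQ.trans hQP)
        (by
          intro R hRP hRp hexp g₁ hg₁ hcop₁
          obtain ⟨A, hA⟩ : ∃ A : Subgroup G, A = Subgroup.zpowers g₁ := ⟨_, rfl⟩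
          have hAK : A ≤ Subgroup.normalizer (R : Set G) := by
            rw [hA, Subgroup.zpowers_le]; exact hg₁
          have hcopc : (Nat.card A).Coprime (Nat.card R) := by
            obtain ⟨k, hk⟩ := hRp.exists_card_eq
            rw [hk, hA, Nat.card_zpowers]
            exact Nat.Coprime.pow_right k hcop₁
          have hsolv : Group.IsSolvable A ∨ Group.IsSolvable R := by
            left
            rw [hA]
            apply isSolvable_of_comm
            intro a b
            exact mul_comm' a b
          have h1 : ⁅⁅R, A⁆, A⁆ = ⁅R, A⁆ := coprime_commutator_commutator A R hAK hcopc hsolv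
          have hR1R : ⁅R, A⁆ ≤ R := commutator_le_of_normalizer hAK
          have hser : ∀ i : ℕ, ⁅R, A⁆ ≤ (P : Subgroup G).lowerCentralSeries i := by
            intro i
            induction i with
            | zero => exact hR1R.trans hRP
            | succ i ih =>
              rw [← h1, Subgroup.commutator_le]
              intro x hx a ha
              have hxR : x ∈ R := hR1R hx
              have haN := hAK ha
              have haxR : a * x * a⁻¹ ∈ R := (Subgroup.mem_normalizer_iff.mp haN x).mp hxR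
              obtain ⟨u, hu, hux⟩ := hctl x (hRP hxR) (hexp x hxR) a (hRP haxR)
              have h2 : ⁅x, a⁆ = ⁅x, u⁆ := by
                rw [commutatorElement_def, commutatorElement_def]
                have e1 : x * a * x⁻¹ * a⁻¹ = x * (a * x * a⁻¹)⁻¹ := by group
                have e2 : x * u * x⁻¹ * u⁻¹ = x * (u * x * u⁻¹)⁻¹ := by group
                rw [e1, e2, hux]
              rw [h2, Subgroup.lowerCentralSeries_succ]
              exact Subgroup.commutator_mem_commutator (ih hx) hu
          haveI : Group.IsNilpotent ↥(P : Subgroup G) := P.2.isNilpotent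
          obtain ⟨n, hn⟩ := (Subgroup.isNilpotent_iff_lowerCentralSeries (P : Subgroup G)).mp
            inferInstance
          have hbot : ⁅R, A⁆ = ⊥ := by
            rw [eq_bot_iff, ← hn]
            exact hser n
          rw [Subgroup.commutator_eq_bot_iff_le_centralizer] at hbot
          rw [Subgroup.mem_centralizer_iff]
          intro x hx
          have h3 := hbot hx
          rw [Subgroup.mem_centralizer_iff] at h3
          exact (h3 g₁ (hA ▸ Subgroup.mem_zpowers g₁)).symm)
        _ Q' rfl hQ'P (P.2.to_le hQ'P) (y * g * y⁻¹) hg' hcop'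
      rw [Subgroup.mem_centralizer_iff] at key ⊢
      intro x hx
      have hx' : y * x * y⁻¹ ∈ Q' := by
        rw [hmemQ']
        have : y⁻¹ * (y * x * y⁻¹) * y = x := by group
        rw [this]; exact hx
      have h1 := key _ hx'
      have h2 : y⁻¹ * (y * x * y⁻¹ * (y * g * y⁻¹)) * y = y⁻¹ * (y * g * y⁻¹ * (y * x * y⁻¹)) * y := by
        rw [h1]
      have e1 : y⁻¹ * (y * x * y⁻¹ * (y * g * y⁻¹)) * y = x * g := by group
      have e2 : y⁻¹ * (y * g * y⁻¹ * (y * x * y⁻¹)) * y = g * x := by group
      rw [e1, e2] at h2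
      exact h2
    obtain ⟨hLn, hLc⟩ := Cfsg.Agent.S0071.complement_of_frobCond hF P
    exact ⟨P, Cfsg.pResidual p G, hLn, hLc⟩

end Cfsg.Agent.S1946
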