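import Mathlib
import Cfsg.Statements.S1947
import Cfsg.Agent.Lib_helper9_AutOmega
import Cfsg.Agent.S0071
import Cfsg.Agent.Lib_lead_Coprime3

set_option autoImplicit false
open Cfsg

namespace Cfsg.Agent.S1947

open Cfsg.Agent.helper7 Cfsg.Agent.lead Cfsg.Agent.helper9
open scoped commutatorElement

/-- Let G be a finite group and p a prime. If every element of G of order dividing p (dividing 4 when p = 2) lies in some fixed term Z_n(G) of the upper central series, then G has a normal p-complement. -/
theorem result {G : Type*} [Group G] [Finite G] {p : ℕ} [Fact p.Prime] (n : ℕ)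
    (h : ∀ a : G, (a ^ p = 1 ∨ (p = 2 ∧ a ^ 4 = 1)) → a ∈ Subgroup.upperCentralSeries G n) : Cfsg.HasNormalPComplement p G := by
  have hF : FrobCond p G := by
    intro Q hQ g hg hcop
    refine centralizes_of_minimal (G := G) (p := p) (fun _ => True) (fun _ _ _ _ => trivial) ?_
      _ Q rfl trivial hQ g hg hcop
    intro R _ hRp hexp g₁ hg₁ hcop₁
    obtain ⟨A, hA⟩ : ∃ A : Subgroup G, A = Subgroup.zpowers g₁ := ⟨_, rfl⟩
    have hAK : A ≤ Subgroup.normalizer (R : Set G) := by
      rw [hA, Subgroup.zpowers_le]; exact hg₁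
    have hcopc : (Nat.card A).Coprime (Nat.card R) := by
      obtain ⟨k, hk⟩ := hRp.exists_card_eq
      rw [hk, hA, Nat.card_zpowers]
      exact Nat.Coprime.pow_right k hcop₁
    have hsolv : Group.IsSolvable A ∨ Group.IsSolvable R := by
      left
      rw [hA]
      apply isSolvable_of_comm
      intro a b
      exact mul_comm' a b
    have h1 : ⁅⁅R, A⁆, A⁆ = ⁅R, A⁆ := coprime_commutator_commutator A R hAK hcopc hsolv
    have hR1R : ⁅R, A⁆ ≤ R := commutator_le_of_normalizer hAK
    have hser : ∀ i : ℕ, i ≤ n → ⁅R, A⁆ ≤ Subgroup.upperCentralSeries G (n - i) := by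
      intro i
      induction i with
      | zero =>
        intro _ x hx
        exact h x (hexp x (hR1R hx))
      | succ i ih =>
        intro hi
        have ih' := ih (by omega)
        rw [← h1, Subgroup.commutator_le]
        intro x hx a _
        have hx' := ih' hx
        have e : n - i = (n - (i + 1)) + 1 := by omega
        rw [e, Subgroup.mem_upperCentralSeries_succ_iff] at hx'
        exact hx' a
    have hbot : ⁅R, A⁆ = ⊥ := by
      rw [eq_bot_iff]
      have := hser n le_rfl
      rwa [Nat.sub_self, Subgroup.upperCentralSeries_zero] at this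
    rw [Subgroup.commutator_eq_bot_iff_le_centralizer] at hbot
    rw [Subgroup.mem_centralizer_iff]
    intro x hx
    have h3 := hbot hx
    rw [Subgroup.mem_centralizer_iff] at h3
    exact (h3 g₁ (hA ▸ Subgroup.mem_zpowers g₁)).symm
  obtain ⟨P⟩ : Nonempty (Sylow p G) := inferInstance
  obtain ⟨hLn, hLc⟩ := Cfsg.Agent.S0071.complement_of_frobCond hF P
  exact ⟨P, Cfsg.pResidual p G, hLn, hLc⟩

end Cfsg.Agent.S1947
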