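import Cfsg.Statements.S1948
import Mathlib
import Cfsg.Agent.Lib_helper10_PPrimeP
import Cfsg.Agent.Lib_helper10_Sylow
import Cfsg.Agent.Lib_helper9_Gold

set_option autoImplicit false
open Cfsg

namespace Cfsg.Agent.S1948

open Cfsg.Agent.helper10 Cfsg.Agent.helper7

/-- In a finite group with `O_{p'} = 1` and a normal Sylow `p`-subgroup `T`, `C(T) ≤ T`. -/
theorem centralizer_normal_sylow_le {X : Type*} [Group X] [Finite X] {p : ℕ} [Fact p.Prime]
    (T : Sylow p X) (hT : (T : Subgroup X).Normal) (hO : Cfsg.pPrimeCore p X = ⊥) :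
    Subgroup.centralizer ((T : Subgroup X) : Set X) ≤ (T : Subgroup X) := by
  haveI := hT
  haveI hCn : (Subgroup.centralizer ((T : Subgroup X) : Set X)).Normal := inferInstance
  have h := Cfsg.Agent.helper9.le_sup_pPrimeCore_of_central_sylow (p := p)
    (Subgroup.centralizer ((T : Subgroup X) : Set X))
    ((T : Subgroup X) ⊓ Subgroup.centralizer ((T : Subgroup X) : Set X))
    (T.isPGroup'.to_inf_left)
    (Cfsg.Agent.helper19.sylow_inf_normal_not_dvd T _)
    (by
      intro z hz c hc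
      exact Subgroup.mem_centralizer_iff.1 hc z (Subgroup.mem_inf.1 hz).1)
  rw [hO, sup_bot_eq] at h
  exact h.trans inf_le_left

/-- Let S be a Sylow p-subgroup of the finite group G. Then G = N_G(S)·O_{p'}(G) if and only if G is p-constrained and N_G(S) controls fusion in S, in the sense that whenever a subgroup Q of S has a conjugate g Q g⁻¹ inside S, the element g is a product n c with n normalizing S and c centralizing Q. -/
theorem result {G : Type*} [Group G] [Finite G] {p : ℕ} [Fact p.Prime] (S : Sylow p G) :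
    Subgroup.normalizer ((S : Subgroup G) : Set G) ⊔ Cfsg.pPrimeCore p G = ⊤ ↔
      (Cfsg.IsPConstrained p G ∧
        ∀ Q : Subgroup G, Q ≤ (S : Subgroup G) → ∀ g : G, Q.map (MulAut.conj g).toMonoidHom ≤ (S : Subgroup G) →
          ∃ n ∈ Subgroup.normalizer ((S : Subgroup G) : Set G), ∃ c ∈ Subgroup.centralizer (Q : Set G), g = n * c) := by
  have hp : p.Prime := Fact.out
  have hDc : (Nat.card ↥(Cfsg.pPrimeCore p G)).Coprime p := pPrimeCore_coprime hp
  have hDn : (Cfsg.pPrimeCore p G).Normal := inferInstance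
  have hsurj : Function.Surjective (QuotientGroup.mk' (Cfsg.pPrimeCore p G)) :=
    QuotientGroup.mk'_surjective _
  have hV : (Cfsg.pPrimePCore p G).Normal := pPrimePCore_normal p
  constructor
  · intro htop
    have hdecomp : ∀ g : G, ∃ n ∈ Subgroup.normalizer ((S : Subgroup G) : Set G),
        ∃ d ∈ Cfsg.pPrimeCore p G, g = n * d := by
      intro g
      have hg : g ∈ Subgroup.normalizer ((S : Subgroup G) : Set G) ⊔ Cfsg.pPrimeCore p G := by
        rw [htop]; exact Subgroup.mem_top g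
      rw [Subgroup.mem_sup_of_normal_right] at hg
      obtain ⟨n, hn, d, hd, rfl⟩ := hg
      exact ⟨n, hn, d, hd, rfl⟩
    constructor
    · -- p-constraint
      have hSbar : ((S.mapSurjective hsurj : Sylow p (G ⧸ Cfsg.pPrimeCore p G)) :
          Subgroup (G ⧸ Cfsg.pPrimeCore p G)).Normal := by
        constructor
        intro x hx gbar
        obtain ⟨g, rfl⟩ := hsurj gbar
        rw [Sylow.coe_mapSurjective] at hx ⊢
        obtain ⟨s, hs, rfl⟩ := hx
        obtain ⟨n, hn, d, hd, rfl⟩ := hdecomp g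
        have hd1 : QuotientGroup.mk' (Cfsg.pPrimeCore p G) d = 1 := by
          rw [← MonoidHom.mem_ker, ker_mk_pPrimeCore]; exact hd
        refine ⟨n * s * n⁻¹, (Subgroup.mem_normalizer_iff.1 hn s).1 hs, ?_⟩
        rw [map_mul, map_mul, map_mul, map_inv, hd1, mul_one]
      have hCle := centralizer_normal_sylow_le (S.mapSurjective hsurj) hSbar
        (pPrimeCore_quotient_eq_bot hp)
      have hcore : Cfsg.pCore p (G ⧸ Cfsg.pPrimeCore p G) =
          ((S.mapSurjective hsurj : Sylow p (G ⧸ Cfsg.pPrimeCore p G)) :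
            Subgroup (G ⧸ Cfsg.pPrimeCore p G)) :=
        le_antisymm (Cfsg.Agent.helper1.pCore_le_sylow _)
          (Cfsg.Agent.helper1.le_pCore hSbar (S.mapSurjective hsurj).isPGroup')
      intro P₀ c hc
      show c ∈ Cfsg.pPrimePCore p G
      unfold Cfsg.pPrimePCore
      rw [Subgroup.mem_comap, hcore]
      apply hCle
      rw [Subgroup.mem_centralizer_iff]
      intro t ht
      have ht' : t ∈ Cfsg.pCore p (G ⧸ Cfsg.pPrimeCore p G) := by rw [hcore]; exact ht
      rw [← map_sylow_pPrimePCore hp P₀] at ht'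
      obtain ⟨a, ha, rfl⟩ := ht'
      have := Subgroup.mem_centralizer_iff.1 hc a ha
      rw [← map_mul, ← map_mul, this]
    · -- control of fusion
      intro Q hQS g hg
      obtain ⟨n, hn, d, hd, rfl⟩ := hdecomp g
      refine ⟨n, hn, d, ?_, rfl⟩
      rw [Subgroup.mem_centralizer_iff]
      intro q hq
      have h1 : d * q * d⁻¹ ∈ (S : Subgroup G) := by
        have h2 : (n * d) * q * (n * d)⁻¹ ∈ (S : Subgroup G) := hg (conj_mem_map_conj Q (n * d) q hq)
        have h3 := (Subgroup.mem_normalizer_iff.1 (Subgroup.inv_mem _ hn) _).1 h2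
        have e : n⁻¹ * (n * d * q * (n * d)⁻¹) * n⁻¹⁻¹ = d * q * d⁻¹ := by group
        rw [e] at h3
        exact h3
      have h4 : d * q * d⁻¹ * q⁻¹ ∈ (S : Subgroup G) :=
        Subgroup.mul_mem _ h1 (Subgroup.inv_mem _ (hQS hq))
      have h5 : d * q * d⁻¹ * q⁻¹ ∈ Cfsg.pPrimeCore p G := by
        have e : d * q * d⁻¹ * q⁻¹ = d * (q * d⁻¹ * q⁻¹) := by group
        rw [e]
        exact Subgroup.mul_mem _ hd (hDn.conj_mem _ (Subgroup.inv_mem _ hd) q)
      have h6 := eq_one_of_mem_pgroup_of_mem_coprime S.isPGroup' hDc h4 h5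
      calc q * d = (d * q * d⁻¹ * q⁻¹)⁻¹ * (d * q) := by group
        _ = d * q := by rw [h6]; group
  · rintro ⟨hcon, hctrl⟩
    rw [eq_top_iff]
    intro g _
    obtain ⟨m, hm, d, hd, rfl⟩ := frattini_pPrimePCore S g
    apply Subgroup.mul_mem _ _ (Subgroup.mem_sup_right hd)
    -- `m ∈ N(S ⊓ V)`
    have hRS : ((S : Subgroup G) ⊓ Cfsg.pPrimePCore p G).map (MulAut.conj m).toMonoidHom ≤
        (S : Subgroup G) := by
      rw [(mem_normalizer_iff_map_conj _ m).1 hm]
      exact inf_le_left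
    obtain ⟨n, hn, c, hc, rfl⟩ := hctrl _ inf_le_left m hRS
    apply Subgroup.mul_mem _ (Subgroup.mem_sup_left hn)
    -- `c ∈ C(S ⊓ V) ≤ V`
    have hRp' : IsPGroup p ↥(((S : Subgroup G) ⊓ Cfsg.pPrimePCore p G).subgroupOf
        (Cfsg.pPrimePCore p G)) := IsPGroup.comap_subtype (S.isPGroup'.to_inf_left)
    have hidx : ¬ p ∣ (((S : Subgroup G) ⊓ Cfsg.pPrimePCore p G).subgroupOf
        (Cfsg.pPrimePCore p G)).index :=
      Cfsg.Agent.helper19.sylow_inf_normal_not_dvd S (Cfsg.pPrimePCore p G)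
    have h1 := hcon (hRp'.toSylow hidx)
    rw [IsPGroup.toSylow_coe, Subgroup.map_subgroupOf_eq_of_le inf_le_right] at h1
    have hcV := h1 hc
    obtain ⟨s, hs, d', hd', rfl⟩ := pPrimePCore_eq_mul S hcV
    apply Subgroup.mul_mem _ _ (Subgroup.mem_sup_right hd')
    exact Subgroup.mem_sup_left (Subgroup.le_normalizer (Subgroup.mem_inf.1 hs).1)

end Cfsg.Agent.S1948
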