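import Cfsg.Statements.S1953
import Mathlib
import Cfsg.Agent.Lib_helper3_FN4

set_option autoImplicit false
open Cfsg

namespace Cfsg.Agent.S1953

open Cfsg.Agent.helper3 Cfsg.Agent.helper10 Cfsg.Agent.helper4.Red

theorem freeAut_of_hfree {G : Type*} [Group G] [Finite G] {p : ℕ} [Fact p.Prime]
    (hfree : ∀ Q : Subgroup G, IsPGroup p ↥Q → ¬ ∃ (H K : Subgroup G) (_ : (K.subgroupOf H).Normal),
      Subgroup.centralizer (Q : Set G) ≤ K ∧ K ≤ H ∧ H ≤ Subgroup.normalizer (Q : Set G) ∧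
      Nonempty ((↥H ⧸ K.subgroupOf H) ≃* Matrix.SpecialLinearGroup (Fin 2) (ZMod p))) :
    FreeAut p G := by
  intro Q hQ hsec
  apply hfree Q hQ
  obtain ⟨Kb, ψ, hψ⟩ := hsec
  obtain ⟨N, hN⟩ : ∃ N : Subgroup G, N = Subgroup.normalizer (Q : Set G) := ⟨_, rfl⟩
  subst hN
  obtain ⟨K₁, hK₁⟩ : ∃ K₁ : Subgroup ↥(Subgroup.normalizer (Q : Set G)),
      K₁ = Kb.comap (QuotientGroup.mk' ((Subgroup.centralizer (Q : Set G)).subgroupOf
        (Subgroup.normalizer (Q : Set G)))) := ⟨_, rfl⟩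
  subst hK₁
  obtain ⟨ψ₁, hψ₁def⟩ : ∃ ψ₁ : ↥(Kb.comap (QuotientGroup.mk' ((Subgroup.centralizer (Q : Set G)).subgroupOf
        (Subgroup.normalizer (Q : Set G))))) →* Matrix.SpecialLinearGroup (Fin 2) (ZMod p),
      ψ₁ = ψ.comp ((QuotientGroup.mk' ((Subgroup.centralizer (Q : Set G)).subgroupOf
        (Subgroup.normalizer (Q : Set G)))).subgroupComap Kb) := ⟨_, rfl⟩
  have hψ₁ : Function.Surjective ψ₁ := by
    rw [hψ₁def]
    exact hψ.comp ((QuotientGroup.mk' _).subgroupComap_surjective_of_surjective Kb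
      (QuotientGroup.mk'_surjective _))
  have hψ₁C : ∀ x : ↥(Kb.comap (QuotientGroup.mk' ((Subgroup.centralizer (Q : Set G)).subgroupOf
        (Subgroup.normalizer (Q : Set G))))), ((x : ↥(Subgroup.normalizer (Q : Set G))) : G) ∈
          Subgroup.centralizer (Q : Set G) → ψ₁ x = 1 := by
    intro x hx
    rw [hψ₁def, MonoidHom.comp_apply]
    have h1 : (QuotientGroup.mk' ((Subgroup.centralizer (Q : Set G)).subgroupOf
        (Subgroup.normalizer (Q : Set G)))).subgroupComap Kb x = 1 := by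
      apply Subtype.ext
      exact (QuotientGroup.eq_one_iff _).mpr (Subgroup.mem_subgroupOf.mpr hx)
    rw [h1, map_one]
  obtain ⟨e, he⟩ : ∃ e : ↥(Kb.comap (QuotientGroup.mk' ((Subgroup.centralizer (Q : Set G)).subgroupOf
        (Subgroup.normalizer (Q : Set G))))) ≃*
      ↥((Kb.comap (QuotientGroup.mk' ((Subgroup.centralizer (Q : Set G)).subgroupOf
        (Subgroup.normalizer (Q : Set G))))).map (Subgroup.normalizer (Q : Set G)).subtype),
      ∀ x, ((e x : ↥((Kb.comap (QuotientGroup.mk' ((Subgroup.centralizer (Q : Set G)).subgroupOf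
        (Subgroup.normalizer (Q : Set G))))).map (Subgroup.normalizer (Q : Set G)).subtype)) : G) =
          ((x : ↥(Subgroup.normalizer (Q : Set G))) : G) :=
    ⟨Subgroup.equivMapOfInjective _ _ (Subgroup.subtype_injective _), fun x => rfl⟩
  obtain ⟨H, hH⟩ : ∃ H : Subgroup G, H = (Kb.comap (QuotientGroup.mk'
      ((Subgroup.centralizer (Q : Set G)).subgroupOf (Subgroup.normalizer (Q : Set G))))).map
        (Subgroup.normalizer (Q : Set G)).subtype := ⟨_, rfl⟩
  subst hH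
  obtain ⟨ψ', hψ'def⟩ : ∃ ψ' : ↥((Kb.comap (QuotientGroup.mk'
      ((Subgroup.centralizer (Q : Set G)).subgroupOf (Subgroup.normalizer (Q : Set G))))).map
        (Subgroup.normalizer (Q : Set G)).subtype) →* Matrix.SpecialLinearGroup (Fin 2) (ZMod p),
      ψ' = ψ₁.comp e.symm.toMonoidHom := ⟨_, rfl⟩
  have hψ' : Function.Surjective ψ' := by
    rw [hψ'def]; exact hψ₁.comp e.symm.surjective
  have hRk : (ψ'.ker.map (Subgroup.subtype _)).subgroupOf _ = ψ'.ker :=
    Subgroup.comap_map_eq_self_of_injective (Subgroup.subtype_injective _) _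
  haveI hRn : ((ψ'.ker.map (Subgroup.subtype _)).subgroupOf
      ((Kb.comap (QuotientGroup.mk'
      ((Subgroup.centralizer (Q : Set G)).subgroupOf (Subgroup.normalizer (Q : Set G))))).map
        (Subgroup.normalizer (Q : Set G)).subtype)).Normal := by rw [hRk]; infer_instance
  refine ⟨_, ψ'.ker.map (Subgroup.subtype _), hRn, ?_, Subgroup.map_subtype_le _,
    Subgroup.map_subtype_le _,
    ⟨(QuotientGroup.quotientMulEquivOfEq hRk).trans
      (QuotientGroup.quotientKerEquivOfSurjective ψ' hψ')⟩⟩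
  intro c hc
  have hcN : c ∈ Subgroup.normalizer (Q : Set G) := Subgroup.centralizer_le_normalizer _ hc
  have hcK₁ : (⟨c, hcN⟩ : ↥(Subgroup.normalizer (Q : Set G))) ∈ Kb.comap (QuotientGroup.mk'
      ((Subgroup.centralizer (Q : Set G)).subgroupOf (Subgroup.normalizer (Q : Set G)))) := by
    rw [Subgroup.mem_comap]
    have : QuotientGroup.mk' ((Subgroup.centralizer (Q : Set G)).subgroupOf
        (Subgroup.normalizer (Q : Set G))) ⟨c, hcN⟩ = 1 :=
      (QuotientGroup.eq_one_iff _).mpr (Subgroup.mem_subgroupOf.mpr hc)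
    rw [this]; exact Kb.one_mem
  refine ⟨e ⟨⟨c, hcN⟩, hcK₁⟩, ?_, he _⟩
  rw [SetLike.mem_coe, MonoidHom.mem_ker, hψ'def, MonoidHom.comp_apply]
  show ψ₁ (e.symm (e ⟨⟨c, hcN⟩, hcK₁⟩)) = 1
  rw [MulEquiv.symm_apply_apply]
  exact hψ₁C _ hc

theorem not_dvd_relIndex_inf_of_le_normalizer {G : Type*} [Group G] [Finite G] {p : ℕ}
    [Fact p.Prime] (P : Sylow p G) (N L : Subgroup G) (hPN : (P : Subgroup G) ≤ N) (hLN : L ≤ N)
    (hNL : N ≤ Subgroup.normalizer (L : Set G)) : ¬ p ∣ ((P : Subgroup G) ⊓ L).relIndex L := by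
  obtain ⟨P', hP'⟩ : ∃ P' : Sylow p ↥N, (P' : Subgroup ↥N) = (P : Subgroup G).subgroupOf N :=
    ⟨P.subtype hPN, Sylow.coe_subtype P hPN⟩
  haveI : (L.subgroupOf N).Normal := (Subgroup.normal_subgroupOf_iff_le_normalizer hLN).mpr hNL
  have h1 := Cfsg.Agent.helper19.sylow_inf_normal_not_dvd P' (L.subgroupOf N)
  have h2 : (P' : Subgroup ↥N) ⊓ L.subgroupOf N = ((P : Subgroup G) ⊓ L).subgroupOf N := by
    rw [hP']; ext x; simp [Subgroup.mem_subgroupOf]
  rwa [h2, Subgroup.relIndex_subgroupOf hLN] at h1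


/-- Let p be an odd prime and P a Sylow p-subgroup of the finite group G, and suppose that for no p-subgroup Q of G does N_G(Q)/C_G(Q) have a section isomorphic to SL₂(p). Call a subgroup Q of P centric-radical when Z(Q) is a Sylow p-subgroup of C_G(Q) and the only normal subgroup X of N_G(Q) containing Q·C_G(Q) such that the index of Q·C_G(Q) in X is a power of p is Q·C_G(Q) itself (that is, N_G(Q)/Q·C_G(Q) has no nontrivial normal p-subgroup). Then there is a centric-radical subgroup Q of P contained in every centric-radical subgroup of P; it is normal in P, and N_G(Q) controls strong fusion in P: whenever a subgroup A of P has g A g⁻¹ ≤ P, the element g is a product h c with h in N_G(Q) and c centralizing A. -/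
theorem result {G : Type*} [Group G] [Finite G] {p : ℕ} [Fact p.Prime] (hp : p ≠ 2) (P : Sylow p G)
    (hfree : ∀ Q : Subgroup G, IsPGroup p ↥Q → ¬ ∃ (H K : Subgroup G) (_ : (K.subgroupOf H).Normal),
      Subgroup.centralizer (Q : Set G) ≤ K ∧ K ≤ H ∧ H ≤ Subgroup.normalizer (Q : Set G) ∧
      Nonempty ((↥H ⧸ K.subgroupOf H) ≃* Matrix.SpecialLinearGroup (Fin 2) (ZMod p)))
    (cr : Subgroup G → Prop)
    (hcr : ∀ Q : Subgroup G, cr Q ↔ (Q ≤ (P : Subgroup G) ∧
      (∃ R : Sylow p ↥(Subgroup.centralizer (Q : Set G)),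
        (R : Subgroup ↥(Subgroup.centralizer (Q : Set G))).map (Subgroup.centralizer (Q : Set G)).subtype = Q ⊓ Subgroup.centralizer (Q : Set G)) ∧
      ∀ X : Subgroup G, X ≤ Subgroup.normalizer (Q : Set G) →
        (∀ n ∈ Subgroup.normalizer (Q : Set G), X.map (MulAut.conj n).toMonoidHom = X) →
        Q ⊔ Subgroup.centralizer (Q : Set G) ≤ X → (∃ k : ℕ, (Q ⊔ Subgroup.centralizer (Q : Set G)).relIndex X = p ^ k) →
        X = Q ⊔ Subgroup.centralizer (Q : Set G))) :
    ∃ Q : Subgroup G, cr Q ∧ (∀ R : Subgroup G, cr R → Q ≤ R) ∧ (∀ x ∈ (P : Subgroup G), Q.map (MulAut.conj x).toMonoidHom = Q) ∧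
      ∀ A : Subgroup G, A ≤ (P : Subgroup G) → ∀ g : G, A.map (MulAut.conj g).toMonoidHom ≤ (P : Subgroup G) →
        ∃ h ∈ Subgroup.normalizer (Q : Set G), ∃ c ∈ Subgroup.centralizer (A : Set G), g = h * c := by
  classical
  have hG : FreeAut p G := freeAut_of_hfree hfree
  obtain ⟨Q₀, hQ₀, hmax⟩ := exists_largest_FN (P : Subgroup G)
  obtain ⟨hE1, hrad⟩ := centric_radical_of_largest_FN hp hG P Q₀ hQ₀ hmax
  refine ⟨Q₀, ?_, ?_, ?_, ?_⟩
  · -- `Q₀` is centric radical
    rw [hcr]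
    refine ⟨hQ₀.1, ?_, hrad⟩
    have hZeq : Q₀ ⊓ Subgroup.centralizer (Q₀ : Set G) =
        (P : Subgroup G) ⊓ Subgroup.centralizer (Q₀ : Set G) :=
      le_antisymm (inf_le_inf_right _ hQ₀.1) (le_inf hE1 inf_le_right)
    have hidx : ¬ p ∣ (Q₀ ⊓ Subgroup.centralizer (Q₀ : Set G)).relIndex
        (Subgroup.centralizer (Q₀ : Set G)) := by
      rw [hZeq]
      exact not_dvd_relIndex_inf_of_le_normalizer P (Subgroup.normalizer (Q₀ : Set G)) _ hQ₀.2.1
        (Subgroup.centralizer_le_normalizer _) (normalizer_le_normalizer_centralizer Q₀)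
    have hZp : IsPGroup p ↥((Q₀ ⊓ Subgroup.centralizer (Q₀ : Set G)).subgroupOf
        (Subgroup.centralizer (Q₀ : Set G))) :=
      (P.isPGroup'.to_le (inf_le_left.trans hQ₀.1)).comap_subtype
    refine ⟨hZp.toSylow hidx, ?_⟩
    rw [IsPGroup.toSylow_coe hZp hidx, Subgroup.map_subgroupOf_eq_of_le inf_le_right]
  · -- it is the least one
    intro R hR
    rw [hcr] at hR
    obtain ⟨hRP, ⟨S, hS⟩, hradR⟩ := hR
    refine FN.le_of_centric_radical P.isPGroup' hQ₀ hRP ?_ hradR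
    have hp1 : IsPGroup p ↥(((P : Subgroup G) ⊓ Subgroup.centralizer (R : Set G)).subgroupOf
        (Subgroup.centralizer (R : Set G))) :=
      (P.isPGroup'.to_le inf_le_left).comap_subtype
    have hle : (S : Subgroup ↥(Subgroup.centralizer (R : Set G))) ≤
        ((P : Subgroup G) ⊓ Subgroup.centralizer (R : Set G)).subgroupOf
          (Subgroup.centralizer (R : Set G)) := by
      intro x hx
      rw [Subgroup.mem_subgroupOf]
      have h1 : (x : G) ∈ R ⊓ Subgroup.centralizer (R : Set G) := by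
        rw [← hS]; exact ⟨x, hx, rfl⟩
      exact ⟨hRP h1.1, h1.2⟩
    have heq := S.is_maximal' hp1 hle
    intro x hx
    have h2 : (⟨x, hx.2⟩ : ↥(Subgroup.centralizer (R : Set G))) ∈
        (S : Subgroup ↥(Subgroup.centralizer (R : Set G))) := by
      rw [← heq, Subgroup.mem_subgroupOf]; exact hx
    have h3 : x ∈ R ⊓ Subgroup.centralizer (R : Set G) := by
      rw [← hS]; exact ⟨⟨x, hx.2⟩, h2, rfl⟩
    exact h3.1
  · intro x hx
    exact (mem_normalizer_iff_map_conj Q₀ x).1 (hQ₀.2.1 hx)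
  · intro A hA g hg
    obtain ⟨x, -, hxN, hxA⟩ := hQ₀.2.2 (A : Set G) g (by exact_mod_cast hA)
      (by rw [lconj_coe]; exact_mod_cast hg)
    refine ⟨x, hxN, x⁻¹ * g, ?_, by group⟩
    rw [Subgroup.mem_centralizer_iff]
    intro a ha
    have h1 := hxA a ha
    calc a * (x⁻¹ * g) = x⁻¹ * (x * a * x⁻¹) * g := by group
      _ = x⁻¹ * (g * a * g⁻¹) * g := by rw [h1]
      _ = x⁻¹ * g * a := by group

end Cfsg.Agent.S1953
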