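import Cfsg.Statements.S1954
import Mathlib
import Cfsg.Agent.Lib_helper10_NormalFusion2
import Cfsg.Agent.Lib_helper10_PPrimeP

set_option autoImplicit false
open Cfsg

namespace Cfsg.Agent.S1954

open Cfsg.Agent.helper10

/-- Let N be a normal subgroup of the finite group G, P a Sylow p-subgroup of G, and V a subgroup of P ∩ N normal in P ∩ N such that N_N(V) controls strong fusion in P ∩ N with respect to N (whenever a subgroup A of P ∩ N has n A n⁻¹ ≤ P ∩ N for some n in N, then n = h c with h in N_N(V) and c in C_N(A)). Let W be the subgroup generated by the conjugates of V under N_G(P ∩ N). Then N_G(W) controls strong fusion in P with respect to G. -/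
theorem result {G : Type*} [Group G] [Finite G] {p : ℕ} [Fact p.Prime] (N : Subgroup G) [N.Normal] (P : Sylow p G) (V : Subgroup G)
    (hV : V ≤ (P : Subgroup G) ⊓ N) (hVn : ∀ x ∈ (P : Subgroup G) ⊓ N, V.map (MulAut.conj x).toMonoidHom = V)
    (hctrl : ∀ A : Subgroup G, A ≤ (P : Subgroup G) ⊓ N → ∀ n ∈ N, A.map (MulAut.conj n).toMonoidHom ≤ (P : Subgroup G) ⊓ N →
      ∃ h ∈ N ⊓ Subgroup.normalizer (V : Set G), ∃ c ∈ N ⊓ Subgroup.centralizer (A : Set G), n = h * c)
    (W : Subgroup G) (hW : W = Subgroup.closure (⋃ x ∈ Subgroup.normalizer (((P : Subgroup G) ⊓ N : Subgroup G) : Set G),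
      ((V.map (MulAut.conj x).toMonoidHom : Subgroup G) : Set G))) :
    ∀ A : Subgroup G, A ≤ (P : Subgroup G) → ∀ g : G, A.map (MulAut.conj g).toMonoidHom ≤ (P : Subgroup G) →
        ∃ h ∈ Subgroup.normalizer (W : Set G), ∃ c ∈ Subgroup.centralizer (A : Set G), g = h * c := by
  have hc0 : NCtrl N ((P : Subgroup G) ⊓ N) V := hctrl
  obtain ⟨hWP₀, hWctrl, hNW⟩ := NCtrl.closure_conj hV hc0 W hW
  have hWP : W ≤ (P : Subgroup G) := hWP₀.trans inf_le_left
  have hPW : (P : Subgroup G) ≤ Subgroup.normalizer (W : Set G) :=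
    (sylow_le_normalizer_inf_normal P N).trans hNW
  have hsc : ∀ i : ℕ, ∀ u ∈ W.lowerCentralSeries i, ∀ g : G, g * u * g⁻¹ ∈ (P : Subgroup G) →
      g * u * g⁻¹ ∈ W.lowerCentralSeries i := by
    intro i
    apply stronglyClosed_of_NCtrl N P (W.lowerCentralSeries i)
    · exact (W.lowerCentralSeries_antitone (Nat.zero_le i)).trans hWP₀
    · exact hNW.trans (normalizer_le_normalizer_lowerCentralSeries W i)
    · exact hWctrl.mono_normalizer (normalizer_le_normalizer_lowerCentralSeries W i)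
  intro A hA g hg
  obtain ⟨h, hh, hht⟩ := control_of_stronglyClosed_lcs P W hWP hPW hsc _ A hA rfl g hg
  refine ⟨h, hh, h⁻¹ * g, ?_, by group⟩
  rw [Subgroup.mem_centralizer_iff]
  intro a ha
  have := hht a ha
  calc a * (h⁻¹ * g) = h⁻¹ * (h * a * h⁻¹) * g := by group
    _ = h⁻¹ * (g * a * g⁻¹) * g := by rw [this]
    _ = h⁻¹ * g * a := by group

end Cfsg.Agent.S1954
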