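import Cfsg.Statements.S1956
import Cfsg.Agent.Lib_helper10_Sylow

set_option autoImplicit false
open Cfsg

namespace Cfsg.Agent.S1956

open Cfsg.Agent.helper10

/-- Let P be a Sylow p-subgroup of the finite group G such that every element of P of order dividing p (dividing 4 when p = 2) is central in P. Then the fusion of these elements is controlled by N_G(P): if such an element a of P has g a g⁻¹ in P, then g = n c with n normalizing P and c commuting with a. -/
theorem result {G : Type*} [Group G] [Finite G] {p : ℕ} [Fact p.Prime] (P : Sylow p G)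
    (hcen : ∀ a ∈ (P : Subgroup G), (a ^ p = 1 ∨ (p = 2 ∧ a ^ 4 = 1)) → ∀ y ∈ (P : Subgroup G), a * y = y * a) :
    ∀ a ∈ (P : Subgroup G), (a ^ p = 1 ∨ (p = 2 ∧ a ^ 4 = 1)) → ∀ g : G, g * a * g⁻¹ ∈ (P : Subgroup G) →
      ∃ n ∈ Subgroup.normalizer ((P : Subgroup G) : Set G), ∃ c : G, c * a = a * c ∧ g = n * c := by
  intro a haP hexp g hb
  set b := g * a * g⁻¹ with hbdef
  have hbexp : b ^ p = 1 ∨ (p = 2 ∧ b ^ 4 = 1) := by
    rcases hexp with h | ⟨h2, h4⟩
    · left; rw [hbdef, conj_pow, h]; group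
    · right; refine ⟨h2, ?_⟩; rw [hbdef, conj_pow, h4]; group
  let H : Subgroup G := Subgroup.centralizer ({b} : Set G)
  have hPH : (P : Subgroup G) ≤ H := by
    intro y hy
    rw [Subgroup.mem_centralizer_iff]
    intro z hz
    rw [Set.mem_singleton_iff] at hz
    subst hz
    exact hcen b hb hbexp y hy
  let Q : Sylow p G := g • P
  have hQeq : (Q : Subgroup G) = (P : Subgroup G).map (MulAut.conj g).toMonoidHom :=
    sylow_smul_eq_map_conj P g
  have hQH : (Q : Subgroup G) ≤ H := by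
    intro x hx
    rw [hQeq, mem_map_conj_iff] at hx
    rw [Subgroup.mem_centralizer_iff]
    intro z hz
    rw [Set.mem_singleton_iff] at hz
    subst hz
    have h2 := hcen a haP hexp _ hx
    calc b * x = g * (a * (g⁻¹ * x * g)) * g⁻¹ := by rw [hbdef]; group
      _ = g * ((g⁻¹ * x * g) * a) * g⁻¹ := by rw [h2]
      _ = x * b := by rw [hbdef]; group
  obtain ⟨h, hhH, hh⟩ := sylow_conj_in_subgroup P Q H hPH hQH
  refine ⟨h * g, ?_, g⁻¹ * h⁻¹ * g, ?_, by group⟩
  · rw [mem_normalizer_iff_map_conj, map_conj_mul, ← hQeq, hh]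
  · rw [Subgroup.mem_centralizer_iff] at hhH
    have h3 : b * h = h * b := hhH b (Set.mem_singleton b)
    have h4 : h⁻¹ * b = b * h⁻¹ := by
      calc h⁻¹ * b = h⁻¹ * (b * h) * h⁻¹ := by group
        _ = h⁻¹ * (h * b) * h⁻¹ := by rw [h3]
        _ = b * h⁻¹ := by group
    calc g⁻¹ * h⁻¹ * g * a = g⁻¹ * (h⁻¹ * b) * g := by rw [hbdef]; group
      _ = g⁻¹ * (b * h⁻¹) * g := by rw [h4]
      _ = a * (g⁻¹ * h⁻¹ * g) := by rw [hbdef]; group

end Cfsg.Agent.S1956
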