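import Mathlib
import Cfsg.Statements.S1958
import Cfsg.Agent.Lib_helper7_Balance2
import Cfsg.Agent.Lib_helper7_Gen

set_option autoImplicit false
open Cfsg

namespace Cfsg.Agent.S1958

open Cfsg.Agent.helper7

/-- one inclusion -/
theorem half {G : Type*} [Group G] [Finite G]
    (p : ℕ) [Fact p.Prime] (x y : G) (hy : orderOf y = p) (hxy : x * y = y * x)
    (hCx : Group.IsSolvable ↥(Subgroup.centralizer ({x} : Set G))) :
    Cfsg.centralizerPPrimeCore p y ⊓ Subgroup.centralizer {x} ≤
      Cfsg.centralizerPPrimeCore p x ⊓ Subgroup.centralizer {y} := by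
  have hp : p.Prime := Fact.out
  have hcy : Cfsg.centralizerPPrimeCore p y ≤ Subgroup.centralizer ({y} : Set G) := by
    unfold Cfsg.centralizerPPrimeCore
    exact Subgroup.map_subtype_le _
  refine le_inf ?_ (inf_le_left.trans hcy)
  have hL : Cfsg.pLayer p ↥(Subgroup.centralizer ({x} : Set G)) = ⊥ :=
    pLayer_eq_bot_of_solvable p hCx
  have hyK : Subgroup.zpowers y ≤ Subgroup.centralizer ({x} : Set G) := by
    rw [Subgroup.zpowers_le, Subgroup.mem_centralizer_iff]
    intro z hz
    rw [Set.mem_singleton_iff] at hz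
    subst hz
    exact hxy
  have hPy : IsPGroup p ↥(Subgroup.zpowers y) := by
    apply IsPGroup.of_card (n := 1)
    rw [Nat.card_zpowers, hy, pow_one]
  have hcz : Subgroup.centralizer ((Subgroup.zpowers y : Subgroup G) : Set G) =
      Subgroup.centralizer ({y} : Set G) := by
    rw [Subgroup.zpowers_eq_closure, Subgroup.centralizer_closure]
  have hcop : (Nat.card ↥(Cfsg.centralizerPPrimeCore p y ⊓ Subgroup.centralizer {x})).Coprime p := by
    have h1 : (Nat.card ↥(Cfsg.centralizerPPrimeCore p y)).Coprime p := by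
      unfold Cfsg.centralizerPPrimeCore
      rw [Nat.card_congr (Subgroup.equivMapOfInjective _ _
        (Subgroup.subtype_injective _)).symm.toEquiv]
      exact pPrimeCore_coprime hp
    exact Nat.Coprime.coprime_dvd_left (Subgroup.card_dvd_of_le inf_le_left) h1
  have hnorm : Subgroup.centralizer ({y} : Set G) ≤
      Subgroup.normalizer ((Cfsg.centralizerPPrimeCore p y : Subgroup G) : Set G) := by
    intro c hc
    rw [Subgroup.mem_normalizer_iff]
    intro z
    unfold Cfsg.centralizerPPrimeCore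
    constructor
    · rintro ⟨w, hw, rfl⟩
      refine ⟨⟨c, hc⟩ * w * ⟨c, hc⟩⁻¹, ?_, rfl⟩
      exact (Cfsg.pPrimeCore_normal p _).conj_mem w hw _
    · rintro ⟨w, hw, hwz⟩
      have hz : z ∈ Subgroup.centralizer ({y} : Set G) := by
        have h1 : c * z * c⁻¹ ∈ Subgroup.centralizer ({y} : Set G) := hwz ▸ w.2
        have := Subgroup.mul_mem _ (Subgroup.mul_mem _ (Subgroup.inv_mem _ hc) h1) hc
        simpa [mul_assoc] using this
      refine ⟨⟨z, hz⟩, ?_, rfl⟩
      have h2 : (⟨z, hz⟩ : ↥(Subgroup.centralizer ({y} : Set G))) =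
          ⟨c, hc⟩⁻¹ * w * ⟨c, hc⟩⁻¹⁻¹ := by
        apply Subtype.ext
        simp [show (w : G) = c * z * c⁻¹ from hwz, mul_assoc]
      rw [h2]
      exact (Cfsg.pPrimeCore_normal p _).conj_mem w hw _
  have := balance_pprime_sub hp hL (P₁ := Subgroup.zpowers y)
    (X := Cfsg.centralizerPPrimeCore p y ⊓ Subgroup.centralizer {x}) hyK inf_le_right hPy hcop
    (by rw [hcz]; exact inf_le_left.trans hcy)
    (by
      rw [hcz]
      apply le_normalizer_inf
      · exact inf_le_right.trans hnorm
      · exact inf_le_left.trans Subgroup.le_normalizer)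
  exact this

/-- Let `G` be a finite group, `p` a prime, and `x, y` commuting elements of order `p` whose centralizers `C_G(x)` and `C_G(y)` are both solvable. Then `O_{p'}(C_G(x)) ∩ C_G(y) = O_{p'}(C_G(y)) ∩ C_G(x)` (balance). -/
theorem result {G : Type*} [Group G] [Finite G]
    (p : ℕ) [Fact p.Prime] (x y : G) (hx : orderOf x = p) (hy : orderOf y = p) (hxy : x * y = y * x)
    (hCx : Group.IsSolvable ↥(Subgroup.centralizer ({x} : Set G))) (hCy : Group.IsSolvable ↥(Subgroup.centralizer ({y} : Set G))) :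
    Cfsg.centralizerPPrimeCore p x ⊓ Subgroup.centralizer {y} = Cfsg.centralizerPPrimeCore p y ⊓ Subgroup.centralizer {x} :=
  le_antisymm (half p y x hx hxy.symm hCy) (half p x y hy hxy hCx)

end Cfsg.Agent.S1958
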