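import Cfsg.Statements.S1962
import Mathlib
import Cfsg.Agent.Lib_helper10_Tr2

set_option autoImplicit false
open Cfsg

namespace Cfsg.Agent.S1962

open Cfsg.Agent.helper10 in
theorem claim_wp {G : Type*} [Group G] [Finite G] {p : ℕ} [Fact p.Prime] (S : Sylow p G)
    (W : Subgroup G → Subgroup G) (hW : Cfsg.IsConjugacyFunctor p W)
    (hloc : ∀ T : Subgroup G, T ≠ ⊥ → Cfsg.IsWellPlaced p W (S : Subgroup G) T →
      Cfsg.ControlsTransferIn p W (Subgroup.normalizer ((T : Subgroup G) : Set G)))
    (R : Subgroup G)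
    (hR : (S : Subgroup G) ⊓ ⁅Subgroup.normalizer ((W (S : Subgroup G) : Subgroup G) : Set G),
      Subgroup.normalizer ((W (S : Subgroup G) : Subgroup G) : Set G)⁆ ≤ R) :
    ∀ (n : ℕ) (T : Subgroup G), T ≠ ⊥ → Cfsg.IsWellPlaced p W (S : Subgroup G) T →
      Nat.card (S : Subgroup G) -
        Nat.card ((S : Subgroup G) ⊓ Subgroup.normalizer ((T : Subgroup G) : Set G) : Subgroup G) = n →
      ((S : Subgroup G) ⊓ Subgroup.normalizer ((T : Subgroup G) : Set G)) ⊓
        ⁅Subgroup.normalizer ((T : Subgroup G) : Set G),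
          Subgroup.normalizer ((T : Subgroup G) : Set G)⁆ ≤ R := by
  intro n
  induction n using Nat.strong_induction_on with
  | _ n IH =>
    intro T hT1 hwp hn
    set N := Subgroup.normalizer ((T : Subgroup G) : Set G) with hN
    set S₁ := (S : Subgroup G) ⊓ N with hS₁
    have hS₁p : IsPGroup p S₁ := S.isPGroup'.to_le inf_le_left
    have hFN : ¬ p ∣ S₁.relIndex N := hwp.2 0
    have hfc : Cfsg.FamilyControlsTransferIn p {W} N :=
      (fct_singleton_iff W N).2 (hloc T hT1 hwp)
    have h1 := fct_sylow (𝓦 := {W}) (fun W' hW' => by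
      rw [Set.mem_singleton_iff] at hW'; rw [hW']; exact hW) hfc S₁ inf_le_right hS₁p hFN
    rw [RT_singleton] at h1
    refine h1.trans ?_
    by_cases hS₁S : S₁ = (S : Subgroup G)
    · refine le_trans ?_ hR
      rw [hS₁S]
      exact inf_le_inf_left _ (Subgroup.commutator_mono inf_le_right inf_le_right)
    · have hlt : S₁ < (S : Subgroup G) := lt_of_le_of_ne inf_le_left hS₁S
      have hlt' := lt_inf_normalizer_of_lt S.isPGroup' hlt
      set T₁ := Cfsg.functorTower W (S : Subgroup G) T 1 with hT₁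
      have hT₁eq : T₁ = W S₁ := rfl
      have hwp₁ : Cfsg.IsWellPlaced p W (S : Subgroup G) T₁ := wellPlaced_shift hW S.isPGroup' hwp 1
      have hT₁ne : T₁ ≠ ⊥ := functorTower_ne_bot hW S.isPGroup' hwp.1 hT1 1
      have hle : (S : Subgroup G) ⊓ Subgroup.normalizer ((S₁ : Subgroup G) : Set G) ≤
          (S : Subgroup G) ⊓ Subgroup.normalizer ((T₁ : Subgroup G) : Set G) := by
        rw [hT₁eq]
        exact inf_le_inf_left _ (le_normalizer_functor hW S₁ hS₁p)
      have hlt'' : S₁ < (S : Subgroup G) ⊓ Subgroup.normalizer ((T₁ : Subgroup G) : Set G) :=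
        lt_of_lt_of_le hlt' hle
      have hcard := card_lt_card_of_lt' hlt''
      have hcard2 : Nat.card ((S : Subgroup G) ⊓ Subgroup.normalizer ((T₁ : Subgroup G) : Set G) :
          Subgroup G) ≤ Nat.card (S : Subgroup G) := Subgroup.card_le_of_le inf_le_left
      have hIH := IH _ (by omega) T₁ hT₁ne hwp₁ rfl
      refine le_trans ?_ hIH
      refine inf_le_inf hlt''.le (Subgroup.commutator_mono ?_ ?_)
      · rw [← hT₁eq]; exact inf_le_right
      · rw [← hT₁eq]; exact inf_le_right

open Cfsg.Agent.helper10 in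
/-- Local-to-global control of transfer through well-placed subgroups. Let p be a prime, G a finite group with Sylow p-subgroup S, and W a conjugacy functor for p on G. If W controls transfer in N_G(T) for every nonidentity subgroup T of S that is well placed in S with respect to W, then W controls transfer in G: S ∩ G' = S ∩ (N_G(W(S)))'. -/
theorem result {G : Type*} [Group G] [Finite G] {p : ℕ} [Fact p.Prime] (S : Sylow p G) (W : Subgroup G → Subgroup G) (hW : Cfsg.IsConjugacyFunctor p W) (hloc : ∀ T : Subgroup G, T ≠ ⊥ → Cfsg.IsWellPlaced p W (S : Subgroup G) T → Cfsg.ControlsTransferIn p W (Subgroup.normalizer ((T : Subgroup G) : Set G))) : Cfsg.ControlsTransferIn p W ⊤ := by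
  rw [← fct_singleton_iff]
  refine fct_of_le ⊤ (S : Subgroup G) le_top S.isPGroup' ?_ ?_
  · rw [Subgroup.relIndex_top_right]; exact S.not_dvd_index
  · rw [RT_singleton, top_inf_eq]
    set R := (S : Subgroup G) ⊓ ⁅Subgroup.normalizer ((W (S : Subgroup G) : Subgroup G) : Set G),
      Subgroup.normalizer ((W (S : Subgroup G) : Subgroup G) : Set G)⁆ with hR
    have hclaim := claim_wp S W hW hloc R le_rfl
    refine inf_commutator_top_le S R fun A hAS g hg => ?_
    refine key_gen S {U | Cfsg.IsWellPlaced p W (S : Subgroup G) U} (fun U hU => hU.1) ?_ R 0 ?_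
      A hAS (Nat.zero_le _) g hg
    · intro T hT
      obtain ⟨g', hg'⟩ := exists_isWellPlaced_conj S hW T hT
      exact ⟨_, hg', ⟨g', rfl⟩, hg'.2 0⟩
    · intro U hU hne _
      have h1 : U ≤ (S : Subgroup G) ⊓ Subgroup.normalizer ((U : Subgroup G) : Set G) :=
        le_inf hU.1 Subgroup.le_normalizer
      exact le_trans (inf_le_inf_right _ h1) (hclaim _ U hne hU rfl)

end Cfsg.Agent.S1962
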