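import Cfsg.Statements.S1966

set_option autoImplicit false
open Cfsg

namespace Cfsg.Agent.S1966

theorem pCore_le_sylow {G : Type*} [Group G] {p : ℕ} (S : Sylow p G) :
    Cfsg.pCore p G ≤ (S : Subgroup G) := by
  apply sSup_le
  rintro N ⟨hN, hNp⟩
  have := hN
  exact hNp.le_sylow_of_normal S

/-- Let p be a prime, G a finite group with Sylow p-subgroup S and 𝓕 a conjugation family for S in G. Then the members of 𝓕 containing O_p(G) still form a conjugation family for S in G. -/
theorem result {G : Type*} [Group G] [Finite G] {p : ℕ} [Fact p.Prime] (S : Sylow p G) (𝓕 : Set (Subgroup G)) (h : Cfsg.IsConjugationFamily 𝓕 (S : Subgroup G)) : Cfsg.IsConjugationFamily {T : Subgroup G | T ∈ 𝓕 ∧ Cfsg.pCore p G ≤ T} (S : Subgroup G) := by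
  obtain ⟨h1, h2⟩ := h
  refine ⟨fun T hT => h1 T hT.1, ?_⟩
  intro A g hAne hAS hAg
  have hO : Cfsg.pCore p G ≤ (S : Subgroup G) := pCore_le_sylow S
  have hOn : (Cfsg.pCore p G).Normal := Subgroup.sSup_normal _ (fun _ h => h.1)
  obtain ⟨n, T, x, hprod, hT𝓕, hnorm, h0, hstep⟩ := h2 (A ∪ (Cfsg.pCore p G : Set G)) g
    (hAne.mono Set.subset_union_left)
    (Set.union_subset hAS (fun a ha => hO ha))
    (by
      rintro _ ⟨a, ha | ha, rfl⟩
      · exact hAg ⟨a, ha, rfl⟩
      · apply hO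
        have := hOn.conj_mem a ha g⁻¹
        simpa using this)
  refine ⟨n, T, x, hprod, ?_, hnorm, ?_, ?_⟩
  · intro i
    refine ⟨hT𝓕 i, ?_⟩
    obtain ⟨iv, hi⟩ := i
    cases iv with
    | zero =>
      intro z hz
      exact h0 (by omega) (Or.inr hz)
    | succ j =>
      intro z hz
      have := hstep ⟨j, by omega⟩ hi
      apply this
      set w := ((List.ofFn x).take (j + 1)).prod with hw
      refine ⟨w * z * w⁻¹, Or.inr (hOn.conj_mem z hz w), ?_⟩
      show w⁻¹ * (w * z * w⁻¹) * w = z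
      group
  · intro hn
    exact fun a ha => h0 hn (Or.inl ha)
  · intro i hi
    rintro _ ⟨a, ha, rfl⟩
    exact hstep i hi ⟨a, Or.inl ha, rfl⟩

end Cfsg.Agent.S1966
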