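import Cfsg.Statements.S1967
import Cfsg.Agent.Lib_helper10_Sylow

set_option autoImplicit false
open Cfsg

namespace Cfsg.Agent.S1967

open Cfsg.Agent.helper10

/-- Let p be a prime, G a finite group with Sylow p-subgroup S and W a conjugacy functor for p on G. Then W controls strong fusion in G if and only if, whenever T ≤ S and g ∈ G satisfy gTg⁻¹ ≤ S, one can write g = n c with n ∈ N_G(W(S)) and c ∈ C_G(T). -/
theorem result {G : Type*} [Group G] [Finite G] {p : ℕ} [Fact p.Prime] (S : Sylow p G) (W : Subgroup G → Subgroup G) (hW : Cfsg.IsConjugacyFunctor p W) : Cfsg.ControlsStrongFusionIn p W ⊤ ↔ ∀ (T : Subgroup G) (g : G), T ≤ (S : Subgroup G) → T.map (MulAut.conj g).toMonoidHom ≤ (S : Subgroup G) → ∃ n ∈ Subgroup.normalizer ((W (S : Subgroup G) : Subgroup G) : Set G), ∃ c ∈ Subgroup.centralizer (T : Set G), g = n * c := by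
  constructor
  · rintro ⟨T₀, -, hT₀p, hT₀i, hctl⟩ T g hTS hTg
    rw [Subgroup.relIndex_top_right] at hT₀i
    let T₀' : Sylow p G := hT₀p.toSylow hT₀i
    obtain ⟨k, hk⟩ := MulAction.exists_smul_eq G T₀' S
    have hS : (S : Subgroup G) = T₀.map (MulAut.conj k).toMonoidHom := by
      rw [← hk, sylow_smul_eq_map_conj]; rfl
    have hWS : W (S : Subgroup G) = (W T₀).map (MulAut.conj k).toMonoidHom := by
      rw [hS]; exact (hW T₀ hT₀p).2.2 k
    obtain ⟨x, hx, hxa⟩ := hctl ((fun t => k⁻¹ * t * k) '' (T : Set G)) (k⁻¹ * g * k) (Subgroup.mem_top _)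
      (by
        rintro _ ⟨t, ht, rfl⟩
        have : t ∈ T₀.map (MulAut.conj k).toMonoidHom := hS ▸ hTS ht
        rw [mem_map_conj_iff] at this
        exact this)
      (by
        rintro _ ⟨_, ⟨t, ht, rfl⟩, rfl⟩
        have h1 : g * t * g⁻¹ ∈ (S : Subgroup G) := hTg (conj_mem_map_conj T g t ht)
        rw [hS, mem_map_conj_iff] at h1
        show k⁻¹ * g * k * (k⁻¹ * t * k) * (k⁻¹ * g * k)⁻¹ ∈ (T₀ : Set G)
        have : k⁻¹ * g * k * (k⁻¹ * t * k) * (k⁻¹ * g * k)⁻¹ = k⁻¹ * (g * t * g⁻¹) * k := by group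
        rw [this]; exact h1)
    have hxN : x ∈ Subgroup.normalizer ((W T₀ : Subgroup G) : Set G) := hx.2
    rw [mem_normalizer_iff_map_conj] at hxN
    refine ⟨k * x * k⁻¹, ?_, (k * x * k⁻¹)⁻¹ * g, ?_, by group⟩
    · rw [mem_normalizer_iff_map_conj, hWS, ← map_conj_mul]
      have : k * x * k⁻¹ * k = k * x := by group
      rw [this, map_conj_mul, hxN]
    · rw [Subgroup.mem_centralizer_iff]
      intro t ht
      have h2 := hxa (k⁻¹ * t * k) ⟨t, ht, rfl⟩
      have h3 : (k * x * k⁻¹) * t * (k * x * k⁻¹)⁻¹ = g * t * g⁻¹ := by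
        calc (k * x * k⁻¹) * t * (k * x * k⁻¹)⁻¹ = k * (x * (k⁻¹ * t * k) * x⁻¹) * k⁻¹ := by group
          _ = k * (k⁻¹ * g * k * (k⁻¹ * t * k) * (k⁻¹ * g * k)⁻¹) * k⁻¹ := by rw [h2]
          _ = g * t * g⁻¹ := by group
      calc t * ((k * x * k⁻¹)⁻¹ * g) = (k * x * k⁻¹)⁻¹ * ((k * x * k⁻¹) * t * (k * x * k⁻¹)⁻¹) * g := by group
        _ = (k * x * k⁻¹)⁻¹ * (g * t * g⁻¹) * g := by rw [h3]
        _ = (k * x * k⁻¹)⁻¹ * g * t := by group
  · intro h
    refine ⟨(S : Subgroup G), le_top, S.isPGroup', ?_, ?_⟩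
    · rw [Subgroup.relIndex_top_right]; exact S.not_dvd_index
    · intro A g _ hAS hAg
      have h1 : Subgroup.closure A ≤ (S : Subgroup G) := (Subgroup.closure_le _).mpr hAS
      have h2 : (Subgroup.closure A).map (MulAut.conj g).toMonoidHom ≤ (S : Subgroup G) := by
        rw [MonoidHom.map_closure, Subgroup.closure_le]
        rintro _ ⟨a, ha, rfl⟩
        exact hAg ⟨a, ha, by simp [MulAut.conj_apply]⟩
      obtain ⟨n, hn, c, hc, rfl⟩ := h (Subgroup.closure A) g h1 h2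
      refine ⟨n, ⟨Subgroup.mem_top _, hn⟩, ?_⟩
      intro a ha
      rw [Subgroup.mem_centralizer_iff] at hc
      have h3 : a * c = c * a := hc a (Subgroup.subset_closure ha)
      symm
      calc n * c * a * (n * c)⁻¹ = n * (c * a) * c⁻¹ * n⁻¹ := by group
        _ = n * (a * c) * c⁻¹ * n⁻¹ := by rw [h3]
        _ = n * a * n⁻¹ := by group

end Cfsg.Agent.S1967
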