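import Cfsg.Statements.S1970
import Mathlib
import Cfsg.Agent.Lib_helper10_Tr5

set_option autoImplicit false
universe u
open Cfsg

namespace Cfsg.Agent.S1970

/-- The focal condition on `O_p`. -/
def PropC (p : ℕ) (W : ∀ (Q : Type u) [Group Q], Subgroup Q) (Y : Type u) [Group Y] : Prop :=
  ∀ T : Sylow p Y, Cfsg.pCore p Y ⊓ commutator Y = Cfsg.pCore p Y ⊓
    ⁅Subgroup.normalizer ((Cfsg.inducedFunctor (G := Y) W (T : Subgroup Y) : Subgroup Y) : Set Y),
      Subgroup.normalizer ((Cfsg.inducedFunctor (G := Y) W (T : Subgroup Y) : Subgroup Y) : Set Y)⁆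

open Cfsg.Agent.helper10 in
theorem propC_iso {p : ℕ} [Fact p.Prime] (W : ∀ (Q : Type u) [Group Q], Subgroup Q)
    (hW : Cfsg.IsCharPFunctor.{u} p W) (A B : Type u) [Group A] [Group B] [Finite A] (e : A ≃* B)
    (h : PropC p W A) : PropC p W B := by
  intro T
  haveI : Finite B := Finite.of_equiv A e.toEquiv
  have h1 := h (T.mapSurjective (f := e.symm.toMonoidHom) e.symm.surjective)
  have h1' : ((T.mapSurjective (f := e.symm.toMonoidHom) e.symm.surjective : Sylow p A) : Subgroup A) =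
      (T : Subgroup B).map e.symm.toMonoidHom := rfl
  rw [h1'] at h1
  have h2 := congrArg (Subgroup.map e.toMonoidHom) h1
  rw [Subgroup.map_inf _ _ _ e.injective, Subgroup.map_inf _ _ _ e.injective,
    pCore_map_equiv p e] at h2
  have h3 : (commutator A).map e.toMonoidHom = commutator B := by
    rw [commutator_def, commutator_def, Subgroup.map_commutator,
      Subgroup.map_top_of_surjective _ e.surjective]
  rw [h3, Subgroup.map_commutator] at h2
  have h4 : ∀ V : Subgroup A, (Subgroup.normalizer (V : Set A)).map e.toMonoidHom =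
      Subgroup.normalizer ((V.map e.toMonoidHom : Subgroup B) : Set B) := by
    intro V
    have := map_inf_normalizer_of_injective e.toMonoidHom e.injective ⊤ V
    rwa [top_inf_eq, Subgroup.map_top_of_surjective _ e.surjective, top_inf_eq] at this
  rw [h4] at h2
  have hTp : IsPGroup p ((T : Subgroup B).map e.symm.toMonoidHom) := T.isPGroup'.map _
  haveI : Finite ((T : Subgroup B).map e.symm.toMonoidHom) := inferInstance
  have h5 := induced_map_of_injOn W hW e.toMonoidHom ((T : Subgroup B).map e.symm.toMonoidHom) hTp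
    (fun x _ hx => e.injective (by rw [map_one]; exact hx))
  have h6 : ((T : Subgroup B).map e.symm.toMonoidHom).map e.toMonoidHom = (T : Subgroup B) := by
    rw [Subgroup.map_map]
    have : e.toMonoidHom.comp e.symm.toMonoidHom = MonoidHom.id B := by
      ext x; simp
    rw [this, Subgroup.map_id]
  rw [h6] at h5
  rw [← h5] at h2
  exact h2

open Cfsg.Agent.helper10 in
theorem ctlT_of_constrained {p : ℕ} [Fact p.Prime] (W : ∀ (Q : Type u) [Group Q], Subgroup Q)
    (hW : Cfsg.IsCharPFunctor.{u} p W) (Y : Type u) [Group Y] [Finite Y]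
    (hY : SecHyp (fun Y _ => Constrained p Y) (fun Y _ => PropC p W Y) Y)
    (hc : Constrained p Y)
    (hsub : ∀ H : Subgroup Y, H ≠ ⊤ → CtlT p {W} H)
    (hquot : ∀ (N : Subgroup Y) [N.Normal], N ≠ ⊥ → CtlT p {W} (Y ⧸ N)) : CtlT p {W} Y := by
  have h𝓦 : ∀ W' ∈ ({W} : Set (∀ (Q : Type u) [Group Q], Subgroup Q)), Cfsg.IsCharPFunctor.{u} p W' := by
    intro W' hW'
    rw [Set.mem_singleton_iff] at hW'
    rw [hW']; exact hW
  obtain ⟨S⟩ : Nonempty (Sylow p Y) := inferInstance
  apply ctlT_of_at S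
  by_cases hP : Cfsg.pCore p Y = ⊥
  · -- then `Y` is trivial
    have h1 : (⊤ : Subgroup Y) ≤ ⊥ := by
      have h2 := hc
      unfold Constrained at h2
      rw [hP] at h2
      refine le_trans ?_ h2
      intro x _
      rw [Subgroup.mem_centralizer_iff]
      intro y hy
      have : y = 1 := Subgroup.mem_bot.1 hy
      rw [this]; simp
    intro x _
    have hx1 : x = 1 := Subgroup.mem_bot.1 (h1 (Subgroup.mem_top x))
    rw [hx1]; exact Subgroup.one_mem _
  · haveI hPn : (Cfsg.pCore p Y).Normal := Cfsg.Agent.helper1.pCore_normal p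
    have hPS : Cfsg.pCore p Y ≤ (S : Subgroup Y) := Cfsg.Agent.helper1.pCore_le_sylow S
    have hb := inf_commutator_le_sup_pCore h𝓦 S (Cfsg.pCore p Y) rfl hsub (hquot _ hP)
    refine hb.trans (sup_le le_rfl ?_)
    have h1 := secHyp_top hY hc S
    rw [commutator_def] at h1
    rw [h1]
    have h2 := le_RT (𝓦 := fam {W} Y) ⊤ (S : Subgroup Y) (Cfsg.inducedFunctor (G := Y) W)
      ⟨W, rfl, rfl⟩
    rw [top_inf_eq] at h2
    exact le_trans (inf_le_inf_right _ hPS) h2

open Cfsg.Agent.helper10 in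
/-- Let p be a prime, G a finite group and W an isomorphism-invariant p-group functor (W assigns to every group Q a subgroup W(Q), nontrivial whenever Q is a nontrivial finite p-group, and every isomorphism from a finite p-group Q onto a group R carries W(Q) onto W(R)). Suppose that for every section G* = K/R of G with C_{G*}(O_p(G*)) ≤ O_p(G*) and every Sylow p-subgroup S* of G*, one has O_p(G*) ∩ (G*)' = O_p(G*) ∩ (N_{G*}(W(S*)))'. Then W controls transfer in every section G* of G: S* ∩ (G*)' = S* ∩ (N_{G*}(W(S*)))' for a Sylow p-subgroup S* of G*. -/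
theorem result {G : Type u} [Group G] [Finite G] {p : ℕ} [Fact p.Prime] (W : ∀ (Q : Type u) [Group Q], Subgroup Q) (hW : Cfsg.IsCharPFunctor.{u} p W) (hloc : ∀ (K R : Subgroup G) [hR : (R.subgroupOf K).Normal], Subgroup.centralizer ((Cfsg.pCore p (↥K ⧸ R.subgroupOf K) : Subgroup (↥K ⧸ R.subgroupOf K)) : Set (↥K ⧸ R.subgroupOf K)) ≤ Cfsg.pCore p (↥K ⧸ R.subgroupOf K) → ∀ T : Sylow p (↥K ⧸ R.subgroupOf K), Cfsg.pCore p (↥K ⧸ R.subgroupOf K) ⊓ commutator (↥K ⧸ R.subgroupOf K) = Cfsg.pCore p (↥K ⧸ R.subgroupOf K) ⊓ ⁅Subgroup.normalizer ((Cfsg.inducedFunctor (G := (↥K ⧸ R.subgroupOf K)) W ((T : Subgroup (↥K ⧸ R.subgroupOf K))) : Subgroup (↥K ⧸ R.subgroupOf K)) : Set (↥K ⧸ R.subgroupOf K)), Subgroup.normalizer ((Cfsg.inducedFunctor (G := (↥K ⧸ R.subgroupOf K)) W ((T : Subgroup (↥K ⧸ R.subgroupOf K))) : Subgroup (↥K ⧸ R.subgroupOf K)) : Set (↥K ⧸ R.subgroupOf K))⁆) : ∀ (K R : Subgroup G) [hR : (R.subgroupOf K).Normal], Cfsg.ControlsTransferIn p (Cfsg.inducedFunctor (G := (↥K ⧸ R.subgroupOf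 K)) W) ⊤ := by
  have h𝓦 : ∀ W' ∈ ({W} : Set (∀ (Q : Type u) [Group Q], Subgroup Q)), Cfsg.IsCharPFunctor.{u} p W' := by
    intro W' hW'
    rw [Set.mem_singleton_iff] at hW'
    rw [hW']; exact hW
  have hsec : SecHyp (fun Y _ => Constrained p Y) (fun Y _ => PropC p W Y) G := by
    apply secHyp_of_sections
    · intro A B _ _ _ e h
      exact constrained_iso e.symm h
    · intro A B _ _ _ e h
      exact propC_iso W hW A B e h
    · intro K R _ hc
      exact hloc K R hc
  intro K R _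
  have h1 := ctlT_section_induction h𝓦 (fun Y _ => Constrained p Y) (fun Y _ => PropC p W Y)
    (fun Y _ _ hY hc hsub hquot => ctlT_of_constrained W hW Y hY hc hsub hquot) _
    (↥K ⧸ R.subgroupOf K) rfl (secHyp_section hsec K R)
  unfold CtlT fam at h1
  rw [Set.image_singleton] at h1
  exact (fct_singleton_iff _ _).1 h1

end Cfsg.Agent.S1970
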