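import Cfsg.Statements.S1976
import Cfsg.Agent.S1975
import Mathlib.Order.OrderIsoNat

set_option autoImplicit false
open Cfsg

namespace Cfsg.Agent.S1976

theorem odd_antitone' (P : Type*) [Group P] : Antitone (Cfsg.kSeqOdd P) :=
  antitone_nat_of_succ_le (Cfsg.Agent.S1975.odd_antitone P)

theorem even_monotone' (P : Type*) [Group P] : Monotone (Cfsg.kSeqEven P) :=
  monotone_nat_of_le_succ (Cfsg.Agent.S1975.even_monotone P)

/-- Let P be a finite p-group. The K-sequence of P is eventually constant on each parity: from some index on, every even-indexed term equals the lower K-infinity subgroup and every odd-indexed term equals the upper K-infinity subgroup. -/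
theorem result {P : Type*} [Group P] [Finite P] {p : ℕ} [Fact p.Prime] (hP : IsPGroup p P) : ∃ n : ℕ, ∀ m : ℕ, n ≤ m → Cfsg.kSeqEven P m = Cfsg.kInfLower P ∧ Cfsg.kSeqOdd P m = Cfsg.kInfUpper P := by
  have hfin : Finite (Subgroup P) := inferInstance
  obtain ⟨n₁, h₁⟩ := WellFoundedGT.monotone_chain_condition (α := Subgroup P)
    ⟨Cfsg.kSeqEven P, even_monotone' P⟩
  obtain ⟨n₂, h₂⟩ := WellFoundedLT.antitone_chain_condition (α := Subgroup P)
    (odd_antitone' P)
  have hL : Cfsg.kInfLower P = Cfsg.kSeqEven P n₁ := by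
    apply le_antisymm
    · apply iSup_le
      intro m
      rcases le_total m n₁ with h | h
      · exact even_monotone' P h
      · exact le_of_eq (h₁ m h).symm
    · exact le_iSup (fun n => Cfsg.kSeqEven P n) n₁
  have hU : Cfsg.kInfUpper P = Cfsg.kSeqOdd P n₂ := by
    apply le_antisymm
    · exact iInf_le (fun n => Cfsg.kSeqOdd P n) n₂
    · apply le_iInf
      intro m
      rcases le_total m n₂ with h | h
      · exact odd_antitone' P h
      · exact le_of_eq (h₂ m h)
  refine ⟨max n₁ n₂, fun m hm => ⟨?_, ?_⟩⟩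
  · rw [hL]; exact (h₁ m (le_trans (le_max_left _ _) hm)).symm
  · rw [hU]
    exact (h₂ m (le_trans (le_max_right _ _) hm)).symm

end Cfsg.Agent.S1976
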