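import Cfsg.Statements.S1982
import Mathlib
import Cfsg.Agent.Lib_helper10_KInf7
import Cfsg.Agent.Lib_helper10_PS2

set_option autoImplicit false
universe u
open Cfsg

namespace Cfsg.Agent.S1982

open Cfsg.Agent.helper10 in
/-- Let p be a prime, G a finite group with Sylow p-subgroup S, T = O_p(G), and A a characteristic subgroup of T with A/Z(A) elementary abelian, [T, A] ≤ Z(A), C_T(A) = Z(A), and such that every automorphism of T of order prime to p fixing A elementwise is trivial (a critical subgroup of T). Suppose that the lower or the upper K-infinity subgroup of S is not normal in G. Then there is an element g of S outside T with [A, g, g, g] ≤ Z(A) and [Z(A), g, g] = 1, and such that if moreover C_G(T) ≤ T then some chief factor X/Y of G with X ≤ A satisfies [X, g, g] ≤ Y but [X, g] ≰ Y. -/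
theorem result {G : Type u} [Group G] [Finite G] {p : ℕ} [Fact p.Prime] (S : Sylow p G) (A : Subgroup G) (hAT : A ≤ (Cfsg.pCore p G)) (hAchar : (A.subgroupOf (Cfsg.pCore p G)).Characteristic) (hA1 : ∀ a ∈ A, a ^ p ∈ A ⊓ Subgroup.centralizer ((A : Subgroup G) : Set G)) (hA2 : ⁅A, A⁆ ≤ Subgroup.centralizer ((A : Subgroup G) : Set G)) (hA3 : ⁅(Cfsg.pCore p G), A⁆ ≤ A ⊓ Subgroup.centralizer ((A : Subgroup G) : Set G)) (hA4 : (Cfsg.pCore p G) ⊓ Subgroup.centralizer ((A : Subgroup G) : Set G) = A ⊓ Subgroup.centralizer ((A : Subgroup G) : Set G)) (hA5 : ∀ φ : MulAut ↥(Cfsg.pCore p G), (orderOf φ).Coprime p → (∀ a : ↥(Cfsg.pCore p G), (a : G) ∈ A → φ a = a) → φ = 1) (hK : ¬ (Cfsg.inducedFunctor Cfsg.kInfLower (S : Subgroup G)).Normal ∨ ¬ (Cfsg.inducedFunctor Cfsg.kInfUpper (S : Subgroup G)).Normal) : ∃ g : G, g ∈ (S : Subgroup G) ∧ g ∉ (Cfsg.pCore p G) ∧ Cfsg.iterCommutator A (Subgroup.zpowers g) 3 ≤ A ⊓ Subgroup.centralizer ((A : Subgroup G) : Set G) ∧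 ⁅⁅A ⊓ Subgroup.centralizer ((A : Subgroup G) : Set G), (Subgroup.zpowers g)⁆, (Subgroup.zpowers g)⁆ = ⊥ ∧ (Subgroup.centralizer (((Cfsg.pCore p G) : Subgroup G) : Set G) ≤ (Cfsg.pCore p G) → ∃ U V : Subgroup G, Cfsg.IsChiefFactor U V ∧ U ≤ A ∧ ⁅⁅U, (Subgroup.zpowers g)⁆, (Subgroup.zpowers g)⁆ ≤ V ∧ ¬ ⁅U, (Subgroup.zpowers g)⁆ ≤ V) := by
  haveI hTn := Cfsg.Agent.helper1.pCore_normal (G := G) p
  have hTp : IsPGroup p ↥(Cfsg.pCore p G) := Cfsg.Agent.helper1.pCore_isPGroup p
  haveI := hAchar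
  have hAn : ((A.subgroupOf (Cfsg.pCore p G)).map (Cfsg.pCore p G).subtype).Normal :=
    ConjAct.normal_of_characteristic_of_normal
  rw [Subgroup.map_subgroupOf_eq_of_le hAT] at hAn
  haveI := hAn
  have hAp : IsPGroup p ↥A := hTp.to_le hAT
  haveI hZn : (A ⊓ Subgroup.centralizer ((A : Subgroup G) : Set G)).Normal :=
    inf_centralizer_normal A
  obtain ⟨g, hgS, hgT, hZ, hcase⟩ := kinf_element S A hAT hA2 hA3 hK
  rcases hcase with h | ⟨h3, n, B, hBS, hB, hAO, hgB⟩
  · -- case 1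
    refine ⟨g, hgS, hgT, ?_, hZ, ?_⟩
    · show ⁅⁅⁅A, Subgroup.zpowers g⁆, Subgroup.zpowers g⁆, Subgroup.zpowers g⁆ ≤ _
      exact le_trans (Subgroup.commutator_mono h le_rfl) (Subgroup.commutator_le_left _ _)
    · intro hcon
      have hCA := centralizer_isPGroup_of_critical hcon A hAT hA4
      obtain ⟨U, V, hUV, hUA, hnt⟩ := exists_chief_nontrivial A hAp hCA hgT
      exact ⟨U, V, hUV, hUA, chief_quadratic_case1 A g hZ h U V hUV hUA, hnt⟩
  · -- case 2 (even case)
    by_cases hZB : B ⊓ Subgroup.centralizer (B : Set G) ≤ Cfsg.pCore p G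
    · obtain ⟨ha, hb⟩ := kcase_even_all hAO hB hgB
      refine ⟨g, hgS, hgT, by rw [ha]; exact bot_le, hb, ?_⟩
      intro hcon
      have hCA := centralizer_isPGroup_of_critical hcon A hAT hA4
      rcases even_chief_quadratic A hAT hA2 hA3 _ B hAO hB hZB hgB with hex | hall
      · exact hex
      · obtain ⟨U, V, hUV, hUA, hnt⟩ := exists_chief_nontrivial A hAp hCA hgT
        exact ⟨U, V, hUV, hUA, hall U V hUV hUA, hnt⟩
    · obtain ⟨z, hzZ, hzT⟩ := SetLike.not_le_iff_exists.mp hZB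
      obtain ⟨ha, hb⟩ := kcase_even_all hAO hB hzZ.1
      refine ⟨z, hBS hzZ.1, hzT, by rw [ha]; exact bot_le, hb, ?_⟩
      intro hcon
      have hCA := centralizer_isPGroup_of_critical hcon A hAT hA4
      have hAB : A ≤ Subgroup.normalizer (B : Set G) := le_trans hAO hB.2.1
      have hq : ⁅⁅A, Subgroup.zpowers z⁆, Subgroup.zpowers z⁆ = ⊥ := by
        rw [eq_bot_iff]
        have h1 : ⁅A, Subgroup.zpowers z⁆ ≤ B :=
          le_trans (Subgroup.commutator_mono le_rfl
            (by rw [Subgroup.zpowers_le]; exact hzZ.1)) (commutator_le_of_le_normalizer hAB)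
        have h2 : Subgroup.zpowers z ≤ Subgroup.centralizer (B : Set G) := by
          rw [Subgroup.zpowers_le]; exact hzZ.2
        refine le_trans (Subgroup.commutator_mono h1 h2) ?_
        rw [Subgroup.commutator_eq_bot_iff_le_centralizer.mpr]
        exact Subgroup.le_centralizer_iff.mp le_rfl
      obtain ⟨U, V, hUV, hUA, hnt⟩ := exists_chief_nontrivial A hAp hCA hzT
      refine ⟨U, V, hUV, hUA, ?_, hnt⟩
      refine le_trans (Subgroup.commutator_mono (Subgroup.commutator_mono hUA le_rfl) le_rfl) ?_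
      rw [hq]; exact bot_le

end Cfsg.Agent.S1982
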