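import Cfsg.Statements.S1984
import Mathlib
import Cfsg.Agent.S1972
import Cfsg.Agent.Lib_helper10_Tr6
import Cfsg.Agent.Lib_helper10_KInf4

set_option autoImplicit false
universe u
open Cfsg

namespace Cfsg.Agent.S1984

open Cfsg.Agent.helper10 in
/-- Control of transfer in all sections by a characteristic functor satisfying the quartic-element
property, for `p ≥ 5`. -/
theorem sections_of_quartic {G : Type u} [Group G] [Finite G] {p : ℕ} [Fact p.Prime] (hp : 5 ≤ p)
    (W : ∀ (Q : Type u) [Group Q], Subgroup Q) (hW : Cfsg.IsCharPFunctor.{u} p W)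
    (hq : ∀ (X : Type u) [Group X] [Finite X] (T : Sylow p X),
      ¬ (Cfsg.inducedFunctor (G := X) W (T : Subgroup X)).Normal →
      ∃ g : X, g ∈ (T : Subgroup X) ∧ g ∉ Cfsg.pCore p X ∧
        ∀ U V : Subgroup X, Cfsg.IsChiefFactor U V → U ≤ Cfsg.pCore p X →
          Cfsg.iterCommutator U (Subgroup.zpowers g) 4 ≤ V) :
    ∀ (K R : Subgroup G) [hR : (R.subgroupOf K).Normal],
      Cfsg.ControlsTransferIn p (Cfsg.inducedFunctor (G := (↥K ⧸ R.subgroupOf K)) W) ⊤ := by
  apply Cfsg.Agent.S1972.result W hW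
  intro K R hR _ T hT
  obtain ⟨g, hg1, hg2, hg3⟩ := hq (↥K ⧸ R.subgroupOf K) T hT
  refine ⟨g, hg1, hg2, fun U V hUV hU => ?_⟩
  haveI : V.Normal := hUV.2.2.1
  exact iter_le_of_normal (hg3 U V hUV hU) (by omega)

open Cfsg.Agent.helper10 in
theorem ctl_of_sections {G : Type u} [Group G] [Finite G] {p : ℕ} [Fact p.Prime]
    (W : ∀ (Q : Type u) [Group Q], Subgroup Q) (hW : Cfsg.IsCharPFunctor.{u} p W)
    (h : ∀ (K R : Subgroup G) [hR : (R.subgroupOf K).Normal],
      Cfsg.ControlsTransferIn p (Cfsg.inducedFunctor (G := (↥K ⧸ R.subgroupOf K)) W) ⊤) :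
    Cfsg.ControlsTransferIn p (Cfsg.inducedFunctor (G := G) W) ⊤ := by
  have hsec : SecHyp (fun _ _ => True) (fun Y _ => CtlT p {W} Y) G := by
    apply secHyp_of_sections
    · intro A B _ _ _ _ _
      trivial
    · intro A B _ _ _ e h
      exact ctlT_iso (singleton_char W hW) e h
    · intro K R _ _
      exact (ctlT_singleton_iff W _).2 (h K R)
  exact (ctlT_singleton_iff W G).1 (secHyp_top hsec trivial)

open Cfsg.Agent.helper10 in
/-- Let p ≥ 5 be a prime and G a finite group. Then the lower K-infinity subgroup controls transfer in G: for some (equivalently, every) Sylow p-subgroup S of G, S ∩ G' = S ∩ (N_G(K))', where K is the lower K-infinity subgroup of S. -/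
theorem result {G : Type u} [Group G] [Finite G] {p : ℕ} [Fact p.Prime] (hp : 5 ≤ p) : Cfsg.ControlsTransferIn p (Cfsg.inducedFunctor (G := G) Cfsg.kInfLower) ⊤ := by
  have hW : Cfsg.IsCharPFunctor.{u} p Cfsg.kInfLower := isCharPFunctor_kInfLower p
  apply ctl_of_sections Cfsg.kInfLower hW
  apply sections_of_quartic hp Cfsg.kInfLower hW
  intro X _ _ T hT
  obtain ⟨g, h1, h2, h3, -⟩ := kinf_quartic T (Or.inl hT)
  exact ⟨g, h1, h2, h3⟩

end Cfsg.Agent.S1984
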