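import Cfsg.Statements.S1986
import Mathlib
import Cfsg.Agent.S1974
import Cfsg.Agent.Lib_helper10_KInf4
import Cfsg.Agent.Lib_helper10_Sec1

set_option autoImplicit false
universe u
open Cfsg

namespace Cfsg.Agent.S1986

open Cfsg.Agent.helper10 in
/-- Let p be a prime, G a finite group with Sylow p-subgroup S, K the lower K-infinity subgroup of S, and Z the subgroup of p-th powers of elements of Z(S). Then every element of Z commuting with all of N_G(K) is weakly closed in S with respect to G, and every subgroup of Z that is normal in N_G(K) is weakly closed in S with respect to G. -/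
theorem result {G : Type u} [Group G] [Finite G] {p : ℕ} [Fact p.Prime] (S : Sylow p G) (Z : Subgroup G) (hZ : Z = Subgroup.closure ((fun z : G => z ^ p) '' (((S : Subgroup G) ⊓ Subgroup.centralizer (((S : Subgroup G) : Subgroup G) : Set G) : Subgroup G) : Set G))) : (∀ x ∈ Z ⊓ Subgroup.centralizer ((Subgroup.normalizer ((Cfsg.inducedFunctor Cfsg.kInfLower (S : Subgroup G) : Subgroup G) : Set G) : Subgroup G) : Set G), ∀ g : G, g * x * g⁻¹ ∈ (S : Subgroup G) → g * x * g⁻¹ = x) ∧ ∀ A : Subgroup G, A ≤ Z → Subgroup.normalizer ((Cfsg.inducedFunctor Cfsg.kInfLower (S : Subgroup G) : Subgroup G) : Set G) ≤ Subgroup.normalizer ((A : Subgroup G) : Set G) → Cfsg.IsWeaklyClosed A (S : Subgroup G) := by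
  have hWc : Cfsg.IsCharPFunctor.{u} p Cfsg.kInfLower := isCharPFunctor_kInfLower p
  have hW : Cfsg.IsConjugacyFunctor p (Cfsg.inducedFunctor (G := G) Cfsg.kInfLower) :=
    induced_isConjugacyFunctor _ hWc
  have hWZ : ∀ P : Subgroup G, IsPGroup p ↥P →
      P ⊓ Subgroup.centralizer ((P : Subgroup G) : Set G) ≤ Cfsg.inducedFunctor Cfsg.kInfLower P := by
    intro P hP y hy
    have hyP := (Subgroup.mem_inf.mp hy).1
    have hyC := (Subgroup.mem_inf.mp hy).2
    have h1 : (⟨y, hyP⟩ : ↥P) ∈ Subgroup.center ↥P := by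
      rw [Subgroup.mem_center_iff]
      intro q
      exact Subtype.ext ((Subgroup.mem_centralizer_iff.mp hyC) (q : G) q.2)
    exact ⟨⟨y, hyP⟩, center_le_kInfLower hP h1, rfl⟩
  refine Cfsg.Agent.S1974.result S _ hW hWZ ?_ Z hZ
  intro H T hTH hTp hidx hnn
  have hinj : Function.Injective H.subtype := Subgroup.subtype_injective H
  have hSp : IsPGroup p ↥(T.subgroupOf H) := hTp.comap_subtype
  obtain ⟨S', hS⟩ : ∃ S' : Sylow p ↥H, (S' : Subgroup ↥H) = T.subgroupOf H :=
    ⟨hSp.toSylow hidx, IsPGroup.toSylow_coe hSp hidx⟩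
  have hSmap : (S' : Subgroup ↥H).map H.subtype = T := by
    rw [hS]; exact Subgroup.map_subgroupOf_eq_of_le hTH
  have hKmap : (Cfsg.inducedFunctor (G := ↥H) Cfsg.kInfLower (S' : Subgroup ↥H)).map H.subtype =
      Cfsg.inducedFunctor (G := G) Cfsg.kInfLower T := by
    rw [← hSmap]
    exact (induced_map_of_injOn Cfsg.kInfLower hWc H.subtype (S' : Subgroup ↥H) S'.isPGroup'
      (fun x _ hx => by
        apply hinj
        rw [hx]; rfl)).symm
  have hnotn : ¬ (Cfsg.inducedFunctor (G := ↥H) Cfsg.kInfLower (S' : Subgroup ↥H)).Normal := by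
    intro hn
    apply hnn
    have h1 := Subgroup.le_normalizer_map (H := Cfsg.inducedFunctor (G := ↥H) Cfsg.kInfLower (S' : Subgroup ↥H))
      H.subtype
    rw [Subgroup.normalizer_eq_top_iff.mpr hn, hKmap, ← MonoidHom.range_eq_map,
      Subgroup.range_subtype] at h1
    exact h1
  obtain ⟨g, hgS, hgQ, -, hg2⟩ := kinf_quartic S' (Or.inl hnotn)
  refine ⟨(g : G), ?_, ?_, ?_⟩
  · rw [← hSmap]; exact ⟨g, hgS, rfl⟩
  · rintro ⟨q, hq, hqe⟩
    apply hgQ
    have : q = g := Subtype.ext hqe
    rw [← this]; exact hq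
  · have h1 := congrArg (Subgroup.map H.subtype) hg2
    rw [Subgroup.map_bot, Subgroup.map_commutator, Subgroup.map_commutator] at h1
    have hz : (Subgroup.zpowers g).map H.subtype = Subgroup.zpowers (g : G) := by
      rw [MonoidHom.map_zpowers]; rfl
    rw [hz] at h1
    rw [eq_bot_iff, ← h1]
    refine Subgroup.commutator_mono (Subgroup.commutator_mono ?_ le_rfl) le_rfl
    intro x hx
    have hxQ := (Subgroup.mem_inf.mp hx).1
    have hxC := (Subgroup.mem_inf.mp hx).2
    obtain ⟨q, hq, rfl⟩ := hxQ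
    refine ⟨q, Subgroup.mem_inf.mpr ⟨hq, ?_⟩, rfl⟩
    rw [Subgroup.mem_centralizer_iff]
    intro q' hq'
    exact Subtype.ext ((Subgroup.mem_centralizer_iff.mp hxC) (q' : G) ⟨q', hq', rfl⟩)

end Cfsg.Agent.S1986
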