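import Cfsg.Statements.S2007
import Mathlib.GroupTheory.Transfer
import Cfsg.Agent.Lib_helper10_Sylow
import Cfsg.Agent.Lib_helper10_PResidual

set_option autoImplicit false
open Cfsg

namespace Cfsg.Agent.S2007

open Cfsg.Agent.helper10

/-- Let p be a prime, G a finite group with Sylow p-subgroup S, and T a normal subgroup of S containing C_S(T). If N_G(T)/C_G(T) is a p-group (every element of N_G(T) of order prime to p centralizes T), then N_G(T) has a normal p-complement. -/
theorem result {G : Type*} [Group G] [Finite G] {p : ℕ} [Fact p.Prime] (S : Sylow p G) (T : Subgroup G) (hTS : T ≤ (S : Subgroup G)) (hTn : (S : Subgroup G) ≤ Subgroup.normalizer ((T : Subgroup G) : Set G)) (hC : (S : Subgroup G) ⊓ Subgroup.centralizer ((T : Subgroup G) : Set G) ≤ T) (hN : ∀ g ∈ Subgroup.normalizer ((T : Subgroup G) : Set G), (orderOf g).Coprime p → g ∈ Subgroup.centralizer ((T : Subgroup G) : Set G)) : Cfsg.HasNormalPComplement p ↥(Subgroup.normalizer ((T : Subgroup G) : Set G)) := by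
  set N := Subgroup.normalizer (T : Set G) with hNdef
  set C := Subgroup.centralizer (T : Set G) with hCdef
  have hCN : C ≤ N := Subgroup.centralizer_le_normalizer _
  obtain ⟨Q₀⟩ : Nonempty (Sylow p C) := inferInstance
  -- every element of Q₀ lies in T
  have hQT : ∀ q ∈ (Q₀ : Subgroup C), (q : G) ∈ T := by
    intro q hq
    set R := (Q₀ : Subgroup C).map C.subtype with hR
    have hRp : IsPGroup p R := Q₀.isPGroup'.map _
    have hRC : R ≤ C := by
      rintro _ ⟨y, -, rfl⟩; exact y.2
    obtain ⟨n, hnN, hn⟩ := pgroup_conj_into_sylow_in_subgroup S N hTn R hRp (hRC.trans hCN)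
    have hqR : (q : G) ∈ R := ⟨q, hq, rfl⟩
    have h1 : n * q * n⁻¹ ∈ (S : Subgroup G) := hn (conj_mem_map_conj R n q hqR)
    have hnT : ∀ t, t ∈ T ↔ n * t * n⁻¹ ∈ T := fun t => (Subgroup.mem_normalizer_iff.mp hnN) t
    have h2 : n * q * n⁻¹ ∈ C := by
      show n * q * n⁻¹ ∈ Subgroup.centralizer (T : Set G)
      rw [Subgroup.mem_centralizer_iff]
      intro t ht
      have ht' : t ∈ T := ht
      have h3 : n⁻¹ * t * n ∈ T := by
        rw [hnT]
        have e : n * (n⁻¹ * t * n) * n⁻¹ = t := by group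
        rw [e]; exact ht'
      have h4 : (n⁻¹ * t * n) * q = q * (n⁻¹ * t * n) :=
        (Subgroup.mem_centralizer_iff.mp q.2) _ h3
      calc t * (n * q * n⁻¹) = n * ((n⁻¹ * t * n) * q) * n⁻¹ := by group
        _ = n * (q * (n⁻¹ * t * n)) * n⁻¹ := by rw [h4]
        _ = n * q * n⁻¹ * t := by group
    have h5 : n * q * n⁻¹ ∈ T := hC ⟨h1, h2⟩
    exact (hnT q).mpr h5
  have hP : Subgroup.normalizer ((Q₀ : Subgroup C) : Set C) ≤ Subgroup.centralizer ((Q₀ : Subgroup C) : Set C) := by
    intro c _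
    rw [Subgroup.mem_centralizer_iff]
    intro q hq
    have := (Subgroup.mem_centralizer_iff.mp c.2) q (hQT q hq)
    exact Subtype.ext this
  have hker : ¬ p ∣ Nat.card (MonoidHom.transferSylow Q₀ hP).ker :=
    MonoidHom.not_dvd_card_ker_transferSylow Q₀ hP
  set K := ((MonoidHom.transferSylow Q₀ hP).ker).map C.subtype with hKdef
  have hKcard : Nat.card K = Nat.card (MonoidHom.transferSylow Q₀ hP).ker :=
    Subgroup.card_map_of_injective (Subgroup.subtype_injective C)
  -- p'-elements of N lie in K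
  have hgen : ∀ x : N, (orderOf x).Coprime p → (x : G) ∈ K := by
    intro x hx
    have hxo : (orderOf (x : G)).Coprime p := by
      rw [Subgroup.orderOf_coe]; exact hx
    have hxC : (x : G) ∈ C := hN x x.2 hxo
    refine ⟨⟨x, hxC⟩, ?_, rfl⟩
    rw [SetLike.mem_coe, MonoidHom.mem_ker]
    set y := MonoidHom.transferSylow Q₀ hP ⟨x, hxC⟩ with hy
    have h1 : orderOf y ∣ orderOf (⟨x, hxC⟩ : C) :=
      orderOf_map_dvd (MonoidHom.transferSylow Q₀ hP) (⟨x, hxC⟩ : C)
    have h2 : orderOf (⟨x, hxC⟩ : C) = orderOf (x : G) := Subgroup.orderOf_mk (x : G) hxC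
    obtain ⟨k, hk⟩ := (IsPGroup.iff_orderOf.mp Q₀.isPGroup') y
    rw [h2, hk] at h1
    have h3 : (p ^ k).Coprime p := Nat.Coprime.coprime_dvd_left h1 hxo
    cases k with
    | zero => simpa using hk
    | succ k =>
      exfalso
      have : p ∣ Nat.gcd (p ^ (k + 1)) p := Nat.dvd_gcd (dvd_pow_self p (Nat.succ_ne_zero k)) dvd_rfl
      rw [h3] at this
      exact (Fact.out : p.Prime).one_lt.ne' (Nat.dvd_one.mp this)
  have hle : (Cfsg.pResidual p N).map N.subtype ≤ K := by
    unfold Cfsg.pResidual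
    rw [MonoidHom.map_closure, Subgroup.closure_le]
    rintro _ ⟨x, hx, rfl⟩
    exact hgen x hx
  have hcop : (Nat.card (Cfsg.pResidual p N)).Coprime p := by
    have h1 : Nat.card ((Cfsg.pResidual p N).map N.subtype) = Nat.card (Cfsg.pResidual p N) :=
      Subgroup.card_map_of_injective (Subgroup.subtype_injective N)
    have h2 : Nat.card ((Cfsg.pResidual p N).map N.subtype) ∣ Nat.card K := Subgroup.card_dvd_of_le hle
    rw [h1, hKcard] at h2
    have h3 : (Nat.card (MonoidHom.transferSylow Q₀ hP).ker).Coprime p :=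
      ((Nat.Prime.coprime_iff_not_dvd (Fact.out : p.Prime)).mpr hker).symm
    exact Nat.Coprime.coprime_dvd_left h2 h3
  exact hasNormalPComplement_of_pResidual_coprime p hcop

end Cfsg.Agent.S2007
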