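import Cfsg.Statements.S1988
import Mathlib
import Cfsg.Agent.S1987
import Cfsg.Agent.S1990
import Cfsg.Agent.S2007
import Cfsg.Agent.S1978
import Cfsg.Agent.Lib_helper10_KInf2
import Cfsg.Agent.Lib_helper10_PS1

set_option autoImplicit false
universe u
open Cfsg

namespace Cfsg.Agent.S1988

open Cfsg.Agent.helper10 in
/-- If `N_G(K)/C_G(K)` is a `p`-group for `K` the lower K-infinity subgroup of the Sylow
`p`-subgroup `S`, then `N_G(K)` has a normal `p`-complement. -/
theorem npc_normalizer_of_automizer {G : Type u} [Group G] [Finite G] {p : ℕ} [Fact p.Prime]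
    (S : Sylow p G)
    (h : ∀ g ∈ Subgroup.normalizer ((Cfsg.inducedFunctor Cfsg.kInfLower (S : Subgroup G) :
        Subgroup G) : Set G), (orderOf g).Coprime p →
      g ∈ Subgroup.centralizer ((Cfsg.inducedFunctor Cfsg.kInfLower (S : Subgroup G) :
        Subgroup G) : Set G)) :
    Cfsg.HasNormalPComplement p ↥(Subgroup.normalizer
      ((Cfsg.inducedFunctor Cfsg.kInfLower (S : Subgroup G) : Subgroup G) : Set G)) := by
  apply Cfsg.Agent.S2007.result S _ _ _ _ h
  · rintro _ ⟨x, -, rfl⟩
    exact x.2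
  · apply le_normalizer_of_conj_mem
    rintro s hs _ ⟨x, hx, rfl⟩
    have h1 := kInfLower_map_equiv (MulAut.conj (⟨s, hs⟩ : ↥(S : Subgroup G)))
    have h2 : (MulAut.conj (⟨s, hs⟩ : ↥(S : Subgroup G))) x ∈ Cfsg.kInfLower ↥(S : Subgroup G) := by
      rw [← h1]; exact ⟨x, hx, rfl⟩
    exact ⟨_, h2, by simp [MulAut.conj_apply]⟩
  · intro x hx
    obtain ⟨hxS, hxC⟩ := Subgroup.mem_inf.mp hx
    have h1 : (⟨x, hxS⟩ : ↥(S : Subgroup G)) ∈
        Subgroup.centralizer (Cfsg.kInfLower ↥(S : Subgroup G) : Set ↥(S : Subgroup G)) := by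
      rw [Subgroup.mem_centralizer_iff]
      intro k hk
      apply Subtype.ext
      exact Subgroup.mem_centralizer_iff.mp hxC (k : G) ⟨k, hk, rfl⟩
    exact ⟨⟨x, hxS⟩, (Cfsg.Agent.S1978.result S.isPGroup').1 h1, rfl⟩

/-- Let p be an odd prime, G a finite group with Sylow p-subgroup S and K the lower K-infinity subgroup of S. If N_G(K) has a normal p-complement, or if N_G(K)/C_G(K) is a p-group (every element of N_G(K) of order prime to p centralizes K), then G has a normal p-complement. -/
theorem result {G : Type u} [Group G] [Finite G] {p : ℕ} [Fact p.Prime] (hp : p ≠ 2) (S : Sylow p G) (h : Cfsg.HasNormalPComplement p ↥(Subgroup.normalizer ((Cfsg.inducedFunctor Cfsg.kInfLower (S : Subgroup G) : Subgroup G) : Set G)) ∨ ∀ g ∈ Subgroup.normalizer ((Cfsg.inducedFunctor Cfsg.kInfLower (S : Subgroup G) : Subgroup G) : Set G), (orderOf g).Coprime p → g ∈ Subgroup.centralizer ((Cfsg.inducedFunctor Cfsg.kInfLower (S : Subgroup G) : Subgroup G) : Set G)) : Cfsg.HasNormalPComplement p G :=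 by
  have hN : Cfsg.HasNormalPComplement p ↥(Subgroup.normalizer
      ((Cfsg.inducedFunctor Cfsg.kInfLower (S : Subgroup G) : Subgroup G) : Set G)) := by
    rcases h with h | h
    · exact h
    · exact npc_normalizer_of_automizer S h
  exact Cfsg.Agent.S1990.result hp (fun Q _ => Cfsg.kInfLower Q)
    (Cfsg.Agent.helper10.isCharPFunctor_kInfLower p) S hN
    (fun K R _ hps T => Cfsg.Agent.S1987.result hp hps T)

end Cfsg.Agent.S1988
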