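import Cfsg.Statements.S1989
import Mathlib
import Cfsg.Agent.Lib_helper3_QdE
import Cfsg.Agent.S1987
import Cfsg.Agent.Lib_helper10_QdNC

set_option autoImplicit false
universe u
open Cfsg

namespace Cfsg.Agent.S1989

open Cfsg.Agent.helper10 Cfsg.Agent.helper3 in
/-- Let p be an odd prime and G a finite group. Then Qd(p) (the natural semidirect product of an elementary abelian group of order p² by SL₂(p)) is not involved in G if and only if, in every section K/R of G and for every Sylow p-subgroup T of K/R, the lower K-infinity subgroup of T controls strong fusion in K/R. -/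
theorem result {G : Type u} [Group G] [Finite G] {p : ℕ} [Fact p.Prime] (hp : p ≠ 2) : ¬ Cfsg.Involves ↥(Cfsg.qd p) G ↔ ∀ (K R : Subgroup G) [hR : (R.subgroupOf K).Normal], ∀ T : Sylow p (↥K ⧸ R.subgroupOf K), Cfsg.ControlsStrongFusion p (Cfsg.inducedFunctor (G := (↥K ⧸ R.subgroupOf K)) Cfsg.kInfLower (T : Subgroup (↥K ⧸ R.subgroupOf K))) := by
  constructor
  · intro hqd K R hR T
    have hno : ∀ (K' R' : Subgroup G) [hR' : (R'.subgroupOf K').Normal],
        ¬ Inv ↥(Cfsg.qdOver (ZMod p)) (↥K' ⧸ R'.subgroupOf K') := by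
      intro K' R' hR' hinv
      exact hqd (Inv.of_section K' R' hinv).involves
    have hst : ∀ (K' R' : Subgroup G) [hR' : (R'.subgroupOf K').Normal],
        Cfsg.IsNormalizerPStable p (↥K' ⧸ R'.subgroupOf K') :=
      fun K' R' hR' => isNormalizerPStable_of_not_inv_qd hp (hno K' R')
    have hps : PSt p G := pst_of_sections hst
    have hpsY : PSt p (↥K ⧸ R.subgroupOf K) :=
      pst_image K (QuotientGroup.mk' (R.subgroupOf K)) (QuotientGroup.mk'_surjective _) hps
    exact Cfsg.Agent.S1987.ctl_of_normal_pst (fun Q _ => Cfsg.kInfLower Q)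
      (isCharPFunctor_kInfLower p)
      (fun Y _ _ hY hcon T' => (kinf_normal_of_pst hY hcon T').1) hpsY T
  · rintro h ⟨K, R, hR, ⟨e⟩⟩
    obtain ⟨T⟩ : Nonempty (Sylow p (↥K ⧸ R.subgroupOf K)) := inferInstance
    exact not_control_of_equiv_qd hp e T (@h K R hR T)

end Cfsg.Agent.S1989
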