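import Cfsg.Statements.S1992
import Mathlib
import Cfsg.Agent.S1991
import Cfsg.Agent.S0144
import Cfsg.Agent.Lib_helper17_MinNonNil
import Cfsg.Agent.Lib_helper19_Sylow

set_option autoImplicit false
open Cfsg

namespace Cfsg.Agent.S1992

theorem pgroup_of_normal_prime_index {G : Type*} [Group G] [Finite G]
    (h : ∀ q : ℕ, q.Prime → q ∣ Nat.card G → ∀ Q : Sylow q G,
      Subgroup.normalizer ((Q : Subgroup G) : Set G) = Q)
    (N : Subgroup G) [hN : N.Normal] (p : ℕ) (hp : p.Prime) (hidx : N.index = p) :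
    IsPGroup p G := by
  have hcard : Nat.card G ≠ 0 := Nat.card_pos.ne'
  have hall : ∀ {r : ℕ}, r.Prime → r ∣ Nat.card G → r = p := by
    intro r hr hrd
    by_contra hne
    haveI : Fact r.Prime := ⟨hr⟩
    obtain ⟨R⟩ : Nonempty (Sylow r G) := inferInstance
    have hRN : (R : Subgroup G) ≤ N := by
      rw [← Subgroup.relIndex_eq_one]
      have h1 : N.relIndex (R : Subgroup G) ∣ p := by
        rw [← hidx]; exact Subgroup.relIndex_dvd_index_of_normal N _
      have h2 : N.relIndex (R : Subgroup G) ∣ Nat.card (R : Subgroup G) := Subgroup.relIndex_dvd_card _ _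
      obtain ⟨k, hk⟩ := (IsPGroup.iff_card.mp R.isPGroup')
      rw [hk] at h2
      have h3 : Nat.Coprime p (r ^ k) :=
        Nat.Coprime.pow_right k ((Nat.coprime_primes hp hr).mpr (fun e => hne e.symm))
      exact Nat.eq_one_of_dvd_coprimes h3 h1 h2
    have hfr := Cfsg.Agent.helper19.frattini_inf R N
    rw [inf_eq_left.mpr hRN, h r hr hrd R, sup_eq_right.mpr hRN] at hfr
    rw [hfr, Subgroup.index_top] at hidx
    exact hp.one_lt.ne hidx
  have h1 := Nat.eq_prime_pow_of_unique_prime_dvd hcard hall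
  exact IsPGroup.of_card h1

/-- Let G be a finite group in which, for every prime q dividing the order of G, every Sylow q-subgroup is its own normalizer. Then the order of G is a power of a single prime (G is a q-group for some prime q; for G trivial any prime works). -/
theorem result {G : Type*} [Group G] [Finite G] (h : ∀ q : ℕ, q.Prime → q ∣ Nat.card G → ∀ Q : Sylow q G, Subgroup.normalizer ((Q : Subgroup G) : Set G) = Q) : ∃ q : ℕ, q.Prime ∧ IsPGroup q G := by
  by_cases hcard1 : Nat.card G = 1
  · refine ⟨2, Nat.prime_two, ?_⟩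
    exact IsPGroup.of_card (n := 0) (by rw [hcard1, pow_zero])
  have hcard : Nat.card G ≠ 0 := Nat.card_pos.ne'
  by_cases h5 : ∃ p : ℕ, 5 ≤ p ∧ p.Prime ∧ p ∣ Nat.card G
  · obtain ⟨p, hp5, hp, hpd⟩ := h5
    haveI : Fact p.Prime := ⟨hp⟩
    obtain ⟨S⟩ : Nonempty (Sylow p G) := inferInstance
    have hS : (S : Subgroup G) ≠ ⊥ := Sylow.ne_bot_of_dvd_card S hpd
    have hN : ∀ g ∈ Subgroup.normalizer (((S : Subgroup G) : Subgroup G) : Set G),
        (orderOf g).Coprime p → g ∈ Subgroup.centralizer (((S : Subgroup G) : Subgroup G) : Set G) := by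
      intro g hg hco
      rw [h p hp hpd S] at hg
      obtain ⟨k, hk⟩ := S.isPGroup' ⟨g, hg⟩
      have hk' : g ^ (p ^ k) = 1 := by
        have := congrArg Subtype.val hk
        simpa using this
      have h1 : orderOf g ∣ p ^ k := orderOf_dvd_of_pow_eq_one hk'
      have h2 : orderOf g = 1 := Nat.Coprime.eq_one_of_dvd (hco.pow_right k) h1
      rw [orderOf_eq_one_iff.mp h2]
      exact Subgroup.one_mem _
    obtain ⟨N, hNn, hNidx⟩ := Cfsg.Agent.S1991.result hp5 S hS hN
    haveI := hNn
    exact ⟨p, hp, pgroup_of_normal_prime_index h N p hp hNidx⟩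
  · push Not at h5
    have h23 : ∀ d : ℕ, d.Prime → d ∣ Nat.card G → d = 2 ∨ d = 3 := by
      intro d hd hdd
      have h1 : d < 5 := by
        by_contra hge
        exact h5 d (by omega) hd hdd
      have h2 := hd.two_le
      interval_cases d
      · left; rfl
      · right; rfl
      · exfalso; exact (by decide : ¬ Nat.Prime 4) hd
    obtain ⟨a, m, hmodd, hnm⟩ := Nat.exists_eq_two_pow_mul_odd hcard
    have hm0 : m ≠ 0 := by
      rintro rfl
      exact (Nat.not_odd_iff_even.mpr (by decide : Even 0)) hmodd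
    have hm3 : ∀ {d : ℕ}, d.Prime → d ∣ m → d = 3 := by
      intro d hd hdm
      rcases h23 d hd (hnm ▸ Dvd.dvd.mul_left hdm _) with h2 | h3
      · exfalso
        rw [h2] at hdm
        exact (Nat.not_even_iff_odd.mpr hmodd) (even_iff_two_dvd.mpr hdm)
      · exact h3
    have hm := Nat.eq_prime_pow_of_unique_prime_dvd hm0 hm3
    have hsolv : Group.IsSolvable G :=
      Cfsg.Agent.S0144.result 2 3 a _ Nat.prime_two Nat.prime_three (by rw [hnm]; rw [← hm])
    haveI := hsolv
    haveI hnt : Nontrivial G := by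
      rw [← Finite.one_lt_card_iff_nontrivial]
      omega
    have hcomm : commutator G ≠ ⊤ := (Group.IsSolvable.commutator_lt_top_of_nontrivial G).ne
    obtain ⟨N, hNn, hNp⟩ := Cfsg.Agent.helper17.MNN.exists_normal_prime_index hcomm
    haveI := hNn
    exact ⟨N.index, hNp, pgroup_of_normal_prime_index h N N.index hNp rfl⟩

end Cfsg.Agent.S1992
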