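import Cfsg.Statements.S1993
import Mathlib
import Cfsg.Agent.S1984
import Cfsg.Agent.S1987
import Cfsg.Agent.Lib_helper10_Tr6
import Cfsg.Agent.Lib_helper10_KInf4
import Cfsg.Agent.Lib_helper10_PS2

set_option autoImplicit false
universe u
open Cfsg

namespace Cfsg.Agent.S1993

open Cfsg.Agent.helper10 in
/-- Let p be a prime, G a finite group with Sylow p-subgroup S, and K the upper K-infinity subgroup of S. If p ≥ 5 then S ∩ G' = S ∩ (N_G(K))'; and if p is odd and every section of G is p-stable in the normalizer form, then K controls strong fusion in G. -/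
theorem result {G : Type u} [Group G] [Finite G] {p : ℕ} [Fact p.Prime] (S : Sylow p G) : (5 ≤ p → (S : Subgroup G) ⊓ commutator G = (S : Subgroup G) ⊓ ⁅Subgroup.normalizer ((Cfsg.inducedFunctor Cfsg.kInfUpper (S : Subgroup G) : Subgroup G) : Set G), Subgroup.normalizer ((Cfsg.inducedFunctor Cfsg.kInfUpper (S : Subgroup G) : Subgroup G) : Set G)⁆) ∧ (p ≠ 2 → (∀ (K R : Subgroup G) [hR : (R.subgroupOf K).Normal], Cfsg.IsNormalizerPStable p (↥K ⧸ R.subgroupOf K)) → Cfsg.ControlsStrongFusion p (Cfsg.inducedFunctor Cfsg.kInfUpper (S : Subgroup G))) := by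
  have hW : Cfsg.IsCharPFunctor.{u} p Cfsg.kInfUpper := isCharPFunctor_kInfUpper p
  constructor
  · intro hp
    have hres : Cfsg.ControlsTransferIn p (Cfsg.inducedFunctor (G := G) Cfsg.kInfUpper) ⊤ := by
      apply Cfsg.Agent.S1984.ctl_of_sections Cfsg.kInfUpper hW
      apply Cfsg.Agent.S1984.sections_of_quartic hp Cfsg.kInfUpper hW
      intro X _ _ T hT
      obtain ⟨g, h1, h2, h3, -⟩ := kinf_quartic T (Or.inr hT)
      exact ⟨g, h1, h2, h3⟩
    have hctl : CtlT p {Cfsg.kInfUpper} G := (ctlT_singleton_iff Cfsg.kInfUpper G).2 hres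
    have h1 := ctlT_at (singleton_char Cfsg.kInfUpper hW) S hctl
    rw [RT_fam_singleton, top_inf_eq] at h1
    rw [commutator_def]
    apply le_antisymm
    · exact h1
    · exact inf_le_inf_left _ (Subgroup.commutator_mono le_top le_top)
  · intro _ hst
    have hps : PSt p G := pst_of_sections hst
    exact Cfsg.Agent.S1987.ctl_of_normal_pst (fun Q _ => Cfsg.kInfUpper Q) hW
      (fun Y _ _ hY hcon T => (kinf_normal_of_pst hY hcon T).2) hps S

end Cfsg.Agent.S1993
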