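import Cfsg.Statements.S1996
import Mathlib
import Cfsg.Agent.Lib_helper10_Sec6

set_option autoImplicit false
open Cfsg

namespace Cfsg.Agent.S1996

open Cfsg.Agent.helper10

universe u

/-- Let p be a prime, G a finite group and W₁, W₂ two isomorphism-invariant p-group functors (W assigns to every group Q a subgroup W(Q), nontrivial whenever Q is a nontrivial finite p-group, and every isomorphism from a finite p-group Q onto a group R carries W(Q) onto W(R)). Suppose that G* = N_{G*}(W₁(S*)) N_{G*}(W₂(S*)) whenever G* = K/R is a section of G with C_{G*}(O_p(G*)) ≤ O_p(G*) and S* is a Sylow p-subgroup of G*. Then the pair {W₁, W₂} controls strong fusion in G. -/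
theorem result {G : Type u} [Group G] [Finite G] {p : ℕ} [Fact p.Prime] (W₁ W₂ : ∀ (Q : Type u) [Group Q], Subgroup Q) (hW₁ : Cfsg.IsCharPFunctor.{u} p W₁) (hW₂ : Cfsg.IsCharPFunctor.{u} p W₂) (hfac : ∀ (K R : Subgroup G) [hR : (R.subgroupOf K).Normal], Subgroup.centralizer ((Cfsg.pCore p (↥K ⧸ R.subgroupOf K) : Subgroup (↥K ⧸ R.subgroupOf K)) : Set (↥K ⧸ R.subgroupOf K)) ≤ Cfsg.pCore p (↥K ⧸ R.subgroupOf K) → ∀ T : Sylow p (↥K ⧸ R.subgroupOf K), ∀ x : (↥K ⧸ R.subgroupOf K), ∃ a ∈ Subgroup.normalizer ((Cfsg.inducedFunctor (G := (↥K ⧸ R.subgroupOf K)) W₁ (T : Subgroup (↥K ⧸ R.subgroupOf K)) : Subgroup (↥K ⧸ R.subgroupOf K)) : Set (↥K ⧸ R.subgroupOf K)), ∃ b ∈ Subgroup.normalizer ((Cfsg.inducedFunctor (G := (↥K ⧸ R.subgroupOf K)) W₂ (T : Subgroup (↥K ⧸ R.subgroupOf K)) : Subgroup (↥K ⧸ R.subgroupOf K)) : Set (↥K ⧸ R.subgroupOf K)), x = a * b) : Cfsg.FamilyControlsStrongFusionIn p {Cfsg.inducedFunctor (G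 := G) W₁, Cfsg.inducedFunctor (G := G) W₂} ⊤ := by
  have h𝓦 : ∀ W ∈ ({W₁, W₂} : Set (∀ (Q : Type u) [Group Q], Subgroup Q)),
      Cfsg.IsCharPFunctor.{u} p W := by
    intro W hW
    rcases hW with rfl | rfl
    · exact hW₁
    · exact hW₂
  have hmain : Ctl p ({W₁, W₂} : Set (∀ (Q : Type u) [Group Q], Subgroup Q)) G := by
    apply section_theorem h𝓦
    intro K R _ hcon
    obtain ⟨T⟩ : Nonempty (Sylow p (↥K ⧸ R.subgroupOf K)) := inferInstance
    apply ctl_of_ctlAt T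
    intro A h hA hAh
    obtain ⟨a, ha, b, hb, hab⟩ := hfac K R hcon T h
    have hc₁ := induced_isConjugacyFunctor (X := ↥K ⧸ R.subgroupOf K) W₁ hW₁
    have hc₂ := induced_isConjugacyFunctor (X := ↥K ⧸ R.subgroupOf K) W₂ hW₂
    have hT₁ := sylow_le_normalizer_functor _ hc₁ (T : Subgroup (↥K ⧸ R.subgroupOf K)) T.isPGroup'
    have hT₂ := sylow_le_normalizer_functor _ hc₂ (T : Subgroup (↥K ⧸ R.subgroupOf K)) T.isPGroup'
    rw [hab] at hAh
    obtain ⟨m', hm', c', hc', hmc', hc'A⟩ := exists_factor_sylow T _ _ hT₂ hT₁ a b ha hb A hA hAh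
    have hR1 : Rel (Nglob (fam {W₁, W₂} (↥K ⧸ R.subgroupOf K)) ⊤ (T : Subgroup (↥K ⧸ R.subgroupOf K)))
        ((T : Subgroup (↥K ⧸ R.subgroupOf K)) : Set (↥K ⧸ R.subgroupOf K)) A c' := by
      apply Rel.of_reach
      apply Reach.single hA _ hc'A
      exact ⟨_, ⟨W₂, by simp, rfl⟩, Subgroup.mem_inf.2 ⟨Subgroup.mem_top _, hc'⟩⟩
    have hR2 : Rel (Nglob (fam {W₁, W₂} (↥K ⧸ R.subgroupOf K)) ⊤ (T : Subgroup (↥K ⧸ R.subgroupOf K)))
        ((T : Subgroup (↥K ⧸ R.subgroupOf K)) : Set (↥K ⧸ R.subgroupOf K)) (lconj c' A) m' := by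
      apply Rel.of_reach
      apply Reach.single hc'A _ (by rw [lconj_lconj, ← hmc']; exact hAh)
      exact ⟨_, ⟨W₁, by simp, rfl⟩, Subgroup.mem_inf.2 ⟨Subgroup.mem_top _, hm'⟩⟩
    have := hR1.trans hR2
    rw [← hmc', ← hab] at this
    exact this
  unfold Ctl fam at hmain
  rw [Set.image_pair] at hmain
  exact hmain

end Cfsg.Agent.S1996
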