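import Cfsg.Statements.S1997
import Mathlib
import Cfsg.Agent.Lib_helper10_Tri3
import Cfsg.Agent.S1996

set_option autoImplicit false
universe u
open Cfsg

namespace Cfsg.Agent.S1997

open Cfsg.Agent.helper10 in
/-- Let p be a prime, G a finite group with Sylow p-subgroup S, and W₁, W₂ two isomorphism-invariant p-group functors (W assigns to every group Q a subgroup W(Q), nontrivial whenever Q is a nontrivial finite p-group, and every isomorphism from a finite p-group Q onto a group R carries W(Q) onto W(R)). Suppose that G* = C_{G*}(Ω₁Z(S*)) N_{G*}(W₁(S*)) = C_{G*}(Ω₁Z(S*)) N_{G*}(W₂(S*)) = N_{G*}(W₁(S*)) N_{G*}(W₂(S*)) whenever G* = K/R is a section of G with C_{G*}(O_p(G*)) ≤ O_p(G*) and S* is a Sylow p-subgroup of G*, where Ω₁Z denotes the subgroup generated by the elements of order dividing p in the centre. Suppose also Ω₁Z(S) ≤ W₁(S) ∩ W₂(S), and let A be the normal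 closure of Ω₁Z(S) in N_G(W₁(S)). Then A is an elementary abelian subgroup of S, strongly closed in S with respect to G, and A controls strong fusion in G. -/
theorem result {G : Type u} [Group G] [Finite G] {p : ℕ} [Fact p.Prime] (S : Sylow p G) (W₁ W₂ : ∀ (Q : Type u) [Group Q], Subgroup Q) (hW₁ : Cfsg.IsCharPFunctor.{u} p W₁) (hW₂ : Cfsg.IsCharPFunctor.{u} p W₂) (hfac : ∀ (K R : Subgroup G) [hR : (R.subgroupOf K).Normal], Subgroup.centralizer ((Cfsg.pCore p (↥K ⧸ R.subgroupOf K) : Subgroup (↥K ⧸ R.subgroupOf K)) : Set (↥K ⧸ R.subgroupOf K)) ≤ Cfsg.pCore p (↥K ⧸ R.subgroupOf K) → ∀ T : Sylow p (↥K ⧸ R.subgroupOf K), (∀ x : (↥K ⧸ R.subgroupOf K), ∃ a ∈ Subgroup.centralizer ((Cfsg.omegaOne p ((T : Subgroup (↥K ⧸ R.subgroupOf K)) ⊓ Subgroup.centralizer (((T : Subgroup (↥K ⧸ R.subgroupOf K)) : Subgroup (↥K ⧸ R.subgroupOf K)) : Set (↥K ⧸ R.subgroupOf K))) : Subgroup (↥K ⧸ R.subgroupOf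 K)) : Set (↥K ⧸ R.subgroupOf K)), ∃ b ∈ Subgroup.normalizer ((Cfsg.inducedFunctor (G := (↥K ⧸ R.subgroupOf K)) W₁ (T : Subgroup (↥K ⧸ R.subgroupOf K)) : Subgroup (↥K ⧸ R.subgroupOf K)) : Set (↥K ⧸ R.subgroupOf K)), x = a * b) ∧ (∀ x : (↥K ⧸ R.subgroupOf K), ∃ a ∈ Subgroup.centralizer ((Cfsg.omegaOne p ((T : Subgroup (↥K ⧸ R.subgroupOf K)) ⊓ Subgroup.centralizer (((T : Subgroup (↥K ⧸ R.subgroupOf K)) : Subgroup (↥K ⧸ R.subgroupOf K)) : Set (↥K ⧸ R.subgroupOf K))) : Subgroup (↥K ⧸ R.subgroupOf K)) : Set (↥K ⧸ R.subgroupOf K)), ∃ b ∈ Subgroup.normalizer ((Cfsg.inducedFunctor (G := (↥K ⧸ R.subgroupOf K)) W₂ (T : Subgroup (↥K ⧸ R.subgroupOf K)) : Subgroup (↥K ⧸ R.subgroupOf K)) : Set (↥K ⧸ R.subgroupOf K)), x = a * b) ∧ (∀ x : (↥K ⧸ R.subgroupOf K), ∃ a ∈ Subgroup.normalizer ((Cfsg.inducedFunctor (G := (↥K ⧸ R.subgroupOf K)) W₁ (T : Subgroup (↥K ⧸ R.subgroupOf K)) : Subgroup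 (↥K ⧸ R.subgroupOf K)) : Set (↥K ⧸ R.subgroupOf K)), ∃ b ∈ Subgroup.normalizer ((Cfsg.inducedFunctor (G := (↥K ⧸ R.subgroupOf K)) W₂ (T : Subgroup (↥K ⧸ R.subgroupOf K)) : Subgroup (↥K ⧸ R.subgroupOf K)) : Set (↥K ⧸ R.subgroupOf K)), x = a * b)) (hZ : Cfsg.omegaOne p ((S : Subgroup G) ⊓ Subgroup.centralizer (((S : Subgroup G) : Subgroup G) : Set G)) ≤ Cfsg.inducedFunctor (G := G) W₁ (S : Subgroup G) ⊓ Cfsg.inducedFunctor (G := G) W₂ (S : Subgroup G)) (N₁ : Subgroup G) (hN₁ : N₁ = Subgroup.normalizer ((Cfsg.inducedFunctor (G := G) W₁ (S : Subgroup G) : Subgroup G) : Set G)) (A : Subgroup G) (hA : A = (Subgroup.normalClosure (((Cfsg.omegaOne p ((S : Subgroup G) ⊓ Subgroup.centralizer (((S : Subgroup G) : Subgroup G) : Set G))).subgroupOf N₁ : Subgroup ↥N₁) : Set ↥N₁)).map N₁.subtype) : A ≤ (S : Subgroup G) ∧ Cfsg.IsElementaryAbelian p A ∧ Cfsg.IsStronglyClosed A (S : Subgroup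 G) ∧ Cfsg.ControlsStrongFusion p A := by
  classical
  have h𝓦 : ∀ W ∈ ({W₁, W₂} : Set (∀ (Q : Type u) [Group Q], Subgroup Q)),
      Cfsg.IsCharPFunctor.{u} p W := by
    intro W hW
    rcases hW with rfl | rfl
    · exact hW₁
    · exact hW₂
  have hctl : Ctl p ({W₁, W₂} : Set (∀ (Q : Type u) [Group Q], Subgroup Q)) G := by
    have h1 := Cfsg.Agent.S1996.result W₁ W₂ hW₁ hW₂
      (fun K R _ hcon T => (hfac K R hcon T).2.2)
    unfold Ctl fam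
    rw [Set.image_pair]
    exact h1
  have hat := ctlAt_of_ctl h𝓦 S hctl
  have hfacW₁ : ∀ (K R : Subgroup G) [hR : (R.subgroupOf K).Normal],
      Constrained p (↥K ⧸ R.subgroupOf K) → FacZ p W₁ (↥K ⧸ R.subgroupOf K) :=
    fun K R _ hcon T => (hfac K R hcon T).1
  have hfacW₂ : ∀ (K R : Subgroup G) [hR : (R.subgroupOf K).Normal],
      Constrained p (↥K ⧸ R.subgroupOf K) → FacZ p W₂ (↥K ⧸ R.subgroupOf K) :=
    fun K R _ hcon T => (hfac K R hcon T).2.1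
  obtain ⟨V₁, hV₁⟩ : ∃ V₁ : Subgroup G, V₁ = Cfsg.inducedFunctor (G := G) W₁ (S : Subgroup G) :=
    ⟨_, rfl⟩
  obtain ⟨V₂, hV₂⟩ : ∃ V₂ : Subgroup G, V₂ = Cfsg.inducedFunctor (G := G) W₂ (S : Subgroup G) :=
    ⟨_, rfl⟩
  obtain ⟨Z₀, hZ₀⟩ : ∃ Z₀ : Set G, Z₀ = {z : G | z ∈ (S : Subgroup G) ⊓
      Subgroup.centralizer ((S : Subgroup G) : Set G) ∧ z ^ p = 1} := ⟨_, rfl⟩
  have hZeq : Cfsg.omegaOne p ((S : Subgroup G) ⊓
      Subgroup.centralizer (((S : Subgroup G) : Subgroup G) : Set G)) = Subgroup.closure Z₀ := by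
    rw [hZ₀]; rfl
  rw [hZeq] at hZ hA
  rw [← hV₁, ← hV₂] at hZ
  rw [← hV₁] at hN₁
  have hc₁ := induced_isConjugacyFunctor (X := G) W₁ hW₁
  have hc₂ := induced_isConjugacyFunctor (X := G) W₂ hW₂
  have hV₁S : V₁ ≤ (S : Subgroup G) := by rw [hV₁]; exact (hc₁ (S : Subgroup G) S.isPGroup').1
  have hV₂S : V₂ ≤ (S : Subgroup G) := by rw [hV₂]; exact (hc₂ (S : Subgroup G) S.isPGroup').1
  have hSV₁ : (S : Subgroup G) ≤ Subgroup.normalizer (V₁ : Set G) := by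
    rw [hV₁]; exact sylow_le_normalizer_functor _ hc₁ (S : Subgroup G) S.isPGroup'
  have hSV₂ : (S : Subgroup G) ≤ Subgroup.normalizer (V₂ : Set G) := by
    rw [hV₂]; exact sylow_le_normalizer_functor _ hc₂ (S : Subgroup G) S.isPGroup'
  have hZ₁ : Z₀ ⊆ (V₁ : Set G) := fun z hz => (hZ (Subgroup.subset_closure hz)).1
  have hZ₂ : Z₀ ⊆ (V₂ : Set G) := fun z hz => (hZ (Subgroup.subset_closure hz)).2
  have hZC : ∀ z ∈ Z₀, ∀ s ∈ (S : Subgroup G), s * z = z * s := by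
    intro z hz s hs
    rw [hZ₀] at hz
    exact Subgroup.mem_centralizer_iff.mp (Subgroup.mem_inf.1 hz.1).2 s hs
  have hZp : ∀ z ∈ Z₀, z ^ p = 1 := by
    intro z hz
    rw [hZ₀] at hz
    exact hz.2
  have HF₁ : ∀ X : Subgroup G, (S : Subgroup G) ≤ X → ∀ P₀ : Subgroup G, P₀ ≤ (S : Subgroup G) →
      X ≤ Subgroup.normalizer (P₀ : Set G) →
      (S : Subgroup G) ⊓ Subgroup.centralizer (P₀ : Set G) ≤ P₀ →
      ∀ x ∈ X, ∃ n ∈ X ⊓ Subgroup.normalizer (V₁ : Set G), ∀ z ∈ Z₀,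
        x * z * x⁻¹ = n * z * n⁻¹ := by
    intro X hSX P₀ hP₀S hXP₀ hC x hx
    rw [hV₁, hZ₀]
    exact hf_in_G S W₁ hW₁ hfacW₁ X hSX P₀ hP₀S hXP₀ hC x hx
  have HF₂ : ∀ X : Subgroup G, (S : Subgroup G) ≤ X → ∀ P₀ : Subgroup G, P₀ ≤ (S : Subgroup G) →
      X ≤ Subgroup.normalizer (P₀ : Set G) →
      (S : Subgroup G) ⊓ Subgroup.centralizer (P₀ : Set G) ≤ P₀ →
      ∀ x ∈ X, ∃ n ∈ X ⊓ Subgroup.normalizer (V₂ : Set G), ∀ z ∈ Z₀,
        x * z * x⁻¹ = n * z * n⁻¹ := by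
    intro X hSX P₀ hP₀S hXP₀ hC x hx
    rw [hV₂, hZ₀]
    exact hf_in_G S W₂ hW₂ hfacW₂ X hSX P₀ hP₀S hXP₀ hC x hx
  have htri := tri_main S V₁ V₂ Z₀ hZ₁ hZ₂ hV₁S hV₂S hSV₁ hSV₂ hZC HF₁ HF₂ _ ⊤ rfl le_top
  rw [top_inf_eq, top_inf_eq, ← hN₁] at htri
  have hZN₁ : Z₀ ⊆ (N₁ : Set G) := by
    intro z hz
    rw [hN₁]
    exact Subgroup.le_normalizer (hZ₁ hz)
  have hAeq : A = ncl N₁ Z₀ := by
    rw [hA]; exact normalClosure_map_eq_ncl N₁ Z₀ hZN₁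
  have hAV₁ : A ≤ V₁ := by
    rw [hAeq]; exact ncl_le hZ₁ (by rw [hN₁])
  have hAS : A ≤ (S : Subgroup G) := hAV₁.trans hV₁S
  have hAC : A ≤ Subgroup.centralizer (V₁ : Set G) := by
    rw [hAeq]
    apply ncl_le _ (by rw [hN₁]; exact normalizer_le_normalizer_centralizer_tri V₁)
    intro z hz
    show z ∈ Subgroup.centralizer (V₁ : Set G)
    rw [Subgroup.mem_centralizer_iff]
    intro v hv
    exact hZC z hz v (hV₁S hv)
  have hcomm : ∀ a ∈ A, ∀ b ∈ A, a * b = b * a := by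
    intro a ha b hb
    exact Subgroup.mem_centralizer_iff.mp (hAC hb) a (hAV₁ ha)
  -- the generating normalizers normalize `A`
  have hN₁A : N₁ ≤ Subgroup.normalizer (A : Set G) := by
    rw [hAeq]; exact le_normalizer_ncl N₁ Z₀
  have hN₂A : Subgroup.normalizer (V₂ : Set G) ≤ Subgroup.normalizer (A : Set G) := by
    rw [hAeq, htri]; exact le_normalizer_ncl _ Z₀
  have hNg : Subgroup.closure (Nglob (fam ({W₁, W₂} : Set (∀ (Q : Type u) [Group Q], Subgroup Q)) G)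
      ⊤ (S : Subgroup G)) ≤ Subgroup.normalizer (A : Set G) := by
    rw [Subgroup.closure_le]
    rintro d ⟨W', ⟨W, hW, rfl⟩, hd⟩
    have hd' := (Subgroup.mem_inf.1 hd).2
    rcases hW with rfl | rfl
    · apply hN₁A
      rw [hN₁, hV₁]
      exact hd'
    · apply hN₂A
      rw [hV₂]
      exact hd'
  refine ⟨hAS, ⟨⟨⟨fun a b => Subtype.ext (hcomm a a.2 b b.2)⟩⟩, ?_⟩, ⟨hAS, ?_⟩, ?_⟩
  · rw [hAeq] at hcomm ⊢
    exact pow_eq_one_of_mem_ncl hcomm hZp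
  · intro x hx g hgx
    have h1 : ({x} : Set G) ⊆ ((S : Subgroup G) : Set G) := by
      intro y hy
      rw [Set.mem_singleton_iff] at hy
      rw [hy]; exact hAS hx
    have h2 : lconj g ({x} : Set G) ⊆ ((S : Subgroup G) : Set G) := by
      rintro _ ⟨y, hy, rfl⟩
      rw [Set.mem_singleton_iff] at hy
      rw [hy]; exact hgx
    obtain ⟨c, hc, hcx⟩ := hat {x} g h1 h2
    have hcN := hNg (reach_mem_closure hc)
    rw [← hcx x rfl]
    exact (Subgroup.mem_normalizer_iff.mp hcN x).mp hx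
  · refine ⟨S, hAS, ?_⟩
    intro A' hA'
    refine ⟨hA', ?_⟩
    intro g hg
    obtain ⟨c, hc, hcx⟩ := hat A' g hA' hg
    exact ⟨c, hNg (reach_mem_closure hc), fun a ha => (hcx a ha).symm⟩

end Cfsg.Agent.S1997
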