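import Cfsg.Statements.S2001
import Mathlib
import Cfsg.Agent.Lib_helper10_Pair2

set_option autoImplicit false
open Cfsg

namespace Cfsg.Agent.S2001

open Cfsg.Agent.helper10 in
open scoped Pointwise in
open scoped commutatorElement in
/-- Let p be a prime dividing the order of the finite group G, P a Sylow p-subgroup, W a conjugacy functor for p on G with Z(H) ≤ W(H) for every nontrivial p-subgroup H, and V a central functor: a conjugacy functor with V(H) ≤ Z(H), and V(H) ≤ V(K) whenever Z(H) ≤ Z(K), for nontrivial p-subgroups H, K. Say that W with V controls transfer in a subgroup L when some Sylow p-subgroup Q of L satisfies Q ∩ L' = (Q ∩ (N_L(W(Q)))')·(Q ∩ (C_L(V(Q)))') as a product of two subgroups. If W with V controls transfer in N_G(H) for every subgroup H with Z(P) ≤ H ≤ P, then W with V controls transfer in G. -/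
theorem result {G : Type*} [Group G] [Finite G] {p : ℕ} [Fact p.Prime] (hdiv : p ∣ Nat.card G) (P : Sylow p G) (W V : Subgroup G → Subgroup G) (hW : Cfsg.IsConjugacyFunctor p W) (hV : Cfsg.IsConjugacyFunctor p V) (hWZ : ∀ H : Subgroup G, IsPGroup p ↥H → H ⊓ Subgroup.centralizer ((H : Subgroup G) : Set G) ≤ W H) (hVZ : ∀ H : Subgroup G, IsPGroup p ↥H → V H ≤ H ⊓ Subgroup.centralizer ((H : Subgroup G) : Set G)) (hVmono : ∀ H K : Subgroup G, IsPGroup p ↥H → IsPGroup p ↥K → H ≠ ⊥ → K ≠ ⊥ → H ⊓ Subgroup.centralizer ((H : Subgroup G) : Set G) ≤ K ⊓ Subgroup.centralizer ((K : Subgroup G) : Set G) → V H ≤ V K) (hloc : ∀ H : Subgroup G, (P : Subgroup G) ⊓ Subgroup.centralizer (((P : Subgroup G) : Subgroup G) : Set G) ≤ H → H ≤ (P : Subgroup G) → ∃ Q : Subgroup G, Q ≤ Subgroup.normalizer ((H : Subgroup G) : Set G) ∧ IsPGroup p ↥Q ∧ ¬ p ∣ (Q).relIndex (Subgroup.normalizer ((H : Subgroup G) : Set G)) ∧ ∀ x : G, x ∈ Q ⊓ ⁅Subgroup.normalizer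 ((H : Subgroup G) : Set G), Subgroup.normalizer ((H : Subgroup G) : Set G)⁆ ↔ ∃ a ∈ Q ⊓ ⁅Subgroup.normalizer ((H : Subgroup G) : Set G) ⊓ Subgroup.normalizer ((W Q : Subgroup G) : Set G), Subgroup.normalizer ((H : Subgroup G) : Set G) ⊓ Subgroup.normalizer ((W Q : Subgroup G) : Set G)⁆, ∃ b ∈ Q ⊓ ⁅Subgroup.normalizer ((H : Subgroup G) : Set G) ⊓ Subgroup.centralizer ((V Q : Subgroup G) : Set G), Subgroup.normalizer ((H : Subgroup G) : Set G) ⊓ Subgroup.centralizer ((V Q : Subgroup G) : Set G)⁆, x = a * b) : ∃ Q : Subgroup G, IsPGroup p ↥Q ∧ ¬ p ∣ Q.index ∧ ∀ x : G, x ∈ Q ⊓ commutator G ↔ ∃ a ∈ Q ⊓ ⁅Subgroup.normalizer ((W Q : Subgroup G) : Set G), Subgroup.normalizer ((W Q : Subgroup G) : Set G)⁆, ∃ b ∈ Q ⊓ ⁅Subgroup.centralizer ((V Q : Subgroup G) : Set G), Subgroup.centralizer ((V Q : Subgroup G) : Set G)⁆, x = a * b := by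
  classical
  have hPp : IsPGroup p (P : Subgroup G) := P.isPGroup'
  have hP1 : (P : Subgroup G) ≠ ⊥ := P.ne_bot_of_dvd_card hdiv
  obtain ⟨M, hM⟩ : ∃ M : Subgroup G,
      M = Subgroup.normalizer ((W (P : Subgroup G) : Subgroup G) : Set G) := ⟨_, rfl⟩
  obtain ⟨C, hC⟩ : ∃ C : Subgroup G,
      C = Subgroup.centralizer ((V (P : Subgroup G) : Subgroup G) : Set G) := ⟨_, rfl⟩
  obtain ⟨A, hA⟩ : ∃ A : Subgroup G, A = (P : Subgroup G) ⊓ ⁅M, M⁆ := ⟨_, rfl⟩
  obtain ⟨B, hB⟩ : ∃ B : Subgroup G, B = (P : Subgroup G) ⊓ ⁅C, C⁆ := ⟨_, rfl⟩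
  refine ⟨(P : Subgroup G), hPp, P.not_dvd_index, ?_⟩
  rw [← hM, ← hC, ← hA, ← hB]
  -- `P` normalizes `W P`, hence `A`
  have hPM : (P : Subgroup G) ≤ M := by
    intro g hg
    rw [hM, mem_normalizer_iff_map_conj, ← (hW _ hPp).2.2 g, map_conj_eq_self_of_mem _ g hg]
  have hPA : (P : Subgroup G) ≤ Subgroup.normalizer (A : Set G) := by
    intro g hg
    rw [mem_normalizer_iff_map_conj, hA, map_conj_inf, map_conj_commutator,
      map_conj_eq_self_of_mem _ g hg, map_conj_eq_self_of_mem _ g (hPM hg)]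
  have hBP : B ≤ (P : Subgroup G) := by rw [hB]; exact inf_le_left
  have hAP : A ≤ (P : Subgroup G) := by rw [hA]; exact inf_le_left
  -- the key inclusion
  have hloc' : ∀ H : Subgroup G, (P : Subgroup G) ⊓ Subgroup.centralizer ((P : Subgroup G) : Set G) ≤ H →
      H ≤ (P : Subgroup G) → ∃ Q : Subgroup G, Q ≤ Subgroup.normalizer ((H : Subgroup G) : Set G) ∧
      IsPGroup p ↥Q ∧ ¬ p ∣ (Q).relIndex (Subgroup.normalizer ((H : Subgroup G) : Set G)) ∧
      ∀ x : G, x ∈ Q ⊓ ⁅Subgroup.normalizer ((H : Subgroup G) : Set G),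
          Subgroup.normalizer ((H : Subgroup G) : Set G)⁆ →
        ∃ a ∈ Q ⊓ ⁅Subgroup.normalizer ((H : Subgroup G) : Set G) ⊓
            Subgroup.normalizer ((W Q : Subgroup G) : Set G),
            Subgroup.normalizer ((H : Subgroup G) : Set G) ⊓
            Subgroup.normalizer ((W Q : Subgroup G) : Set G)⁆,
          ∃ b ∈ Q ⊓ ⁅Subgroup.normalizer ((H : Subgroup G) : Set G) ⊓
              Subgroup.centralizer ((V Q : Subgroup G) : Set G),
              Subgroup.normalizer ((H : Subgroup G) : Set G) ⊓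
              Subgroup.centralizer ((V Q : Subgroup G) : Set G)⁆, x = a * b := by
    intro H h1 h2
    obtain ⟨Q, hQ1, hQ2, hQ3, hQ4⟩ := hloc H h1 h2
    exact ⟨Q, hQ1, hQ2, hQ3, fun x hx => (hQ4 x).mp hx⟩
  have hAR : (P : Subgroup G) ⊓ ⁅Subgroup.normalizer ((W (P : Subgroup G) : Subgroup G) : Set G),
      Subgroup.normalizer ((W (P : Subgroup G) : Subgroup G) : Set G)⁆ ≤ A ⊔ B := by
    rw [← hM, ← hA]; exact le_sup_left
  have hBR : (P : Subgroup G) ⊓ ⁅Subgroup.centralizer ((V (P : Subgroup G) : Subgroup G) : Set G),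
      Subgroup.centralizer ((V (P : Subgroup G) : Subgroup G) : Set G)⁆ ≤ A ⊔ B := by
    rw [← hC, ← hB]; exact le_sup_right
  have key : (P : Subgroup G) ⊓ ⁅(⊤ : Subgroup G), (⊤ : Subgroup G)⁆ ≤ A ⊔ B := by
    apply inf_commutator_le_of_focal ⊤ (P : Subgroup G) le_top hPp
    · rw [Subgroup.relIndex_top_right]; exact P.not_dvd_index
    intro a ha h _ hah
    -- the family
    obtain ⟨𝓕, h𝓕⟩ : ∃ 𝓕 : Set (Subgroup G), 𝓕 = {H | (P : Subgroup G) ⊓
        Subgroup.centralizer ((P : Subgroup G) : Set G) ≤ H ∧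
        Cfsg.IsWellPlaced p W (P : Subgroup G) H} := ⟨_, rfl⟩
    have hfam : ∀ T : Subgroup G, T ≤ (P : Subgroup G) → ∃ U : Subgroup G, U ≤ (P : Subgroup G) ∧
        (∃ g : G, T.map (MulAut.conj g).toMonoidHom = U) ∧
        ¬ p ∣ ((P : Subgroup G) ⊓ Subgroup.normalizer ((U : Subgroup G) : Set G)).relIndex
          (Subgroup.normalizer ((U : Subgroup G) : Set G)) ∧
        ((P : Subgroup G) ⊓ Subgroup.centralizer (U : Set G) ≤ U → U ∈ 𝓕) := by
      intro T hT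
      obtain ⟨g, hg⟩ := exists_isWellPlaced_conj P hW T hT
      refine ⟨_, hg.1, ⟨g, rfl⟩, hg.2 0, ?_⟩
      intro hcen
      rw [h𝓕]
      refine ⟨?_, hg⟩
      exact (inf_le_inf_left _ (Subgroup.centralizer_le (SetLike.coe_subset_coe.mpr hg.1))).trans hcen
    obtain ⟨T, hT⟩ : ∃ T : Subgroup G, T = Subgroup.zpowers a := ⟨_, rfl⟩
    have hTP : T ≤ (P : Subgroup G) := by
      rw [hT, Subgroup.zpowers_le]; exact ha
    have haT : a ∈ T := by rw [hT]; exact Subgroup.mem_zpowers a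
    have hTh : rconj (T : Set G) h ⊆ (P : Subgroup G) := by
      rw [rconj_coe, SetLike.coe_subset_coe, hT, MonoidHom.map_zpowers, Subgroup.zpowers_le]
      show h⁻¹ * a * h⁻¹⁻¹ ∈ (P : Subgroup G)
      rw [inv_inv]; exact hah
    obtain ⟨k, ⟨l, hl1, hl2, hl3⟩, hka⟩ := alperin_chainC P 𝓕 hfam _ T h rfl hTP hTh
    have h3 := chain_focal (A ⊔ B) l (T : Set G) (by
      intro q hq t ht
      obtain ⟨hq1, hq2⟩ := hl2 q hq
      rw [h𝓕] at hq1
      have h4 := pair_wellPlaced_transfer P hP1 hW hV hWZ hVmono hloc' (A ⊔ B) hAR hBR q.1 hq1.1 hq1.2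
      apply h4
      have htP : t ∈ (P : Subgroup G) := hq1.2.1 ht
      have ht' : q.2⁻¹ * t * q.2 ∈ q.1 := by
        have := (Subgroup.mem_normalizer_iff.mp (Subgroup.inv_mem _ hq2) t).mp ht
        simpa using this
      refine Subgroup.mem_inf.mpr ⟨(P : Subgroup G).mul_mem htP ((P : Subgroup G).inv_mem (hq1.2.1 ht')), ?_⟩
      have h5 : t * (q.2⁻¹ * t * q.2)⁻¹ = ⁅t, q.2⁻¹⁆ := by
        rw [commutatorElement_def]; group
      rw [h5]
      exact Subgroup.commutator_mem_commutator (Subgroup.le_normalizer ht) (Subgroup.inv_mem _ hq2)) hl3 a haT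
    rw [hl1, hka a haT] at h3
    exact h3
  have hAB : ((A ⊔ B : Subgroup G) : Set G) = (A : Set G) * (B : Set G) :=
    Subgroup.coe_mul_of_right_le_normalizer_left A B (hBP.trans hPA)
  intro x
  constructor
  · intro hx
    rw [commutator_def] at hx
    have h1 : x ∈ ((A ⊔ B : Subgroup G) : Set G) := key hx
    rw [hAB] at h1
    obtain ⟨a, ha, b, hb, hab⟩ := Set.mem_mul.mp h1
    exact ⟨a, ha, b, hb, hab.symm⟩
  · rintro ⟨a, ha, b, hb, rfl⟩
    rw [commutator_def]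
    rw [hA] at ha
    rw [hB] at hb
    obtain ⟨ha1, ha2⟩ := Subgroup.mem_inf.mp ha
    obtain ⟨hb1, hb2⟩ := Subgroup.mem_inf.mp hb
    refine Subgroup.mem_inf.mpr ⟨(P : Subgroup G).mul_mem ha1 hb1, Subgroup.mul_mem _ ?_ ?_⟩
    · exact Subgroup.commutator_mono le_top le_top ha2
    · exact Subgroup.commutator_mono le_top le_top hb2

end Cfsg.Agent.S2001
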