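import Cfsg.Statements.S2002
import Mathlib
import Cfsg.Agent.Lib_helper10_Pair3

set_option autoImplicit false
open Cfsg

namespace Cfsg.Agent.S2002

open Cfsg.Agent.helper10 in
/-- Let p be a prime dividing the order of the finite group G, P a Sylow p-subgroup, W a conjugacy functor for p on G with Z(H) ≤ W(H) for every nontrivial p-subgroup H, and V a central functor (a conjugacy functor with V(H) ≤ Z(H), and V(H) ≤ V(K) whenever Z(H) ≤ Z(K)). Say that W with V controls strong fusion in a subgroup L when some Sylow p-subgroup Q of L has the property: whenever X ⊆ Q and a ∈ L with a⁻¹Xa ⊆ Q, then a = c b with c ∈ C_L(X) and b = b₁ ⋯ bₙ a product of elements each in N_L(W(Q)) or in C_L(V(Q)) such that every partial conjugate (b₁ ⋯ bₖ)⁻¹ X (b₁ ⋯ bₖ) lies in Q. If W with V controls strong fusion in N_G(H) for every subgroup H with Z(P) ≤ H ≤ P, then W with V controls strong fusion in G. -/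
theorem result {G : Type*} [Group G] [Finite G] {p : ℕ} [Fact p.Prime] (hdiv : p ∣ Nat.card G) (P : Sylow p G) (W V : Subgroup G → Subgroup G) (hW : Cfsg.IsConjugacyFunctor p W) (hV : Cfsg.IsConjugacyFunctor p V) (hWZ : ∀ H : Subgroup G, IsPGroup p ↥H → H ⊓ Subgroup.centralizer ((H : Subgroup G) : Set G) ≤ W H) (hVZ : ∀ H : Subgroup G, IsPGroup p ↥H → V H ≤ H ⊓ Subgroup.centralizer ((H : Subgroup G) : Set G)) (hVmono : ∀ H K : Subgroup G, IsPGroup p ↥H → IsPGroup p ↥K → H ≠ ⊥ → K ≠ ⊥ → H ⊓ Subgroup.centralizer ((H : Subgroup G) : Set G) ≤ K ⊓ Subgroup.centralizer ((K : Subgroup G) : Set G) → V H ≤ V K) (hloc : ∀ H : Subgroup G, (P : Subgroup G) ⊓ Subgroup.centralizer (((P : Subgroup G) : Subgroup G) : Set G) ≤ H → H ≤ (P : Subgroup G) → ∃ Q : Subgroup G, Q ≤ Subgroup.normalizer ((H : Subgroup G) : Set G) ∧ IsPGroup p ↥Q ∧ ¬ p ∣ (Q).relIndex (Subgroup.normalizer ((H : Subgroup G) : Set G)) ∧ ∀ (X : Set G)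 (a : G), X ⊆ Q → a ∈ Subgroup.normalizer ((H : Subgroup G) : Set G) → (fun x => a⁻¹ * x * a) '' X ⊆ Q → ∃ c ∈ Subgroup.normalizer ((H : Subgroup G) : Set G) ⊓ Subgroup.centralizer X, ∃ (n : ℕ) (b : Fin n → G), (∀ i, b i ∈ Subgroup.normalizer ((H : Subgroup G) : Set G) ⊓ Subgroup.normalizer ((W Q : Subgroup G) : Set G) ∨ b i ∈ Subgroup.normalizer ((H : Subgroup G) : Set G) ⊓ Subgroup.centralizer ((V Q : Subgroup G) : Set G)) ∧ a = c * (List.ofFn b).prod ∧ ∀ k : ℕ, k ≤ n → (fun x => (((List.ofFn b).take k).prod)⁻¹ * x * ((List.ofFn b).take k).prod) '' ((fun x => c⁻¹ * x * c) '' X) ⊆ Q) : ∃ Q : Subgroup G, IsPGroup p ↥Q ∧ ¬ p ∣ Q.index ∧ ∀ (X : Set G) (a : G), X ⊆ Q → (fun x => a⁻¹ * x * a) '' X ⊆ Q → ∃ c ∈ Subgroup.centralizer X, ∃ (n : ℕ) (b : Fin n → G), (∀ i, b i ∈ ⊤ ⊓ Subgroup.normalizer ((W Q : Subgroup G) : Set G) ∨ b i ∈ ⊤ ⊓ Subgroup.centralizer ((V Q : Subgroup G) : Set G)) ∧ a = c * (List.ofFn b).prod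 ∧ ∀ k : ℕ, k ≤ n → (fun x => (((List.ofFn b).take k).prod)⁻¹ * x * ((List.ofFn b).take k).prod) '' ((fun x => c⁻¹ * x * c) '' X) ⊆ Q := by
  classical
  have hPp : IsPGroup p (P : Subgroup G) := P.isPGroup'
  have hP1 : (P : Subgroup G) ≠ ⊥ := P.ne_bot_of_dvd_card hdiv
  refine ⟨(P : Subgroup G), hPp, P.not_dvd_index, ?_⟩
  intro X a hX haX
  -- the local hypothesis in relational form
  have hloc' : ∀ H : Subgroup G, (P : Subgroup G) ⊓ Subgroup.centralizer ((P : Subgroup G) : Set G) ≤ H →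
      H ≤ (P : Subgroup G) → ∃ Q : Subgroup G, Q ≤ Subgroup.normalizer ((H : Subgroup G) : Set G) ∧
      IsPGroup p ↥Q ∧ ¬ p ∣ (Q).relIndex (Subgroup.normalizer ((H : Subgroup G) : Set G)) ∧
      ∀ (X : Set G) (a : G), X ⊆ Q → a ∈ Subgroup.normalizer ((H : Subgroup G) : Set G) →
        lconj a X ⊆ Q → Rel (Npair W V (Subgroup.normalizer ((H : Subgroup G) : Set G)) Q) Q X a := by
    intro H h1 h2
    obtain ⟨Q, hQ1, hQ2, hQ3, hQ4⟩ := hloc H h1 h2
    refine ⟨Q, hQ1, hQ2, hQ3, ?_⟩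
    intro X a hX ha haX
    obtain ⟨c, hc, n, b, hb, hab, hin⟩ := hQ4 X a⁻¹ hX (Subgroup.inv_mem _ ha) (by
      rintro _ ⟨x, hx, rfl⟩
      apply haX
      exact ⟨x, hx, by simp⟩)
    have h3 := rel_of_listChain (N := Npair W V (Subgroup.normalizer ((H : Subgroup G) : Set G)) Q)
      (S := (Q : Set G)) (Npair_inv W V _ Q) a⁻¹ c (Subgroup.mem_inf.mp hc).2 n b hb hab hin
    rwa [inv_inv] at h3
  -- the family
  obtain ⟨𝓕, h𝓕⟩ : ∃ 𝓕 : Set (Subgroup G), 𝓕 = {H | (P : Subgroup G) ⊓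
      Subgroup.centralizer ((P : Subgroup G) : Set G) ≤ H ∧
      Cfsg.IsWellPlaced p W (P : Subgroup G) H} := ⟨_, rfl⟩
  have hfam : ∀ T : Subgroup G, T ≤ (P : Subgroup G) → ∃ U : Subgroup G, U ≤ (P : Subgroup G) ∧
      (∃ g : G, T.map (MulAut.conj g).toMonoidHom = U) ∧
      ¬ p ∣ ((P : Subgroup G) ⊓ Subgroup.normalizer ((U : Subgroup G) : Set G)).relIndex
        (Subgroup.normalizer ((U : Subgroup G) : Set G)) ∧
      ((P : Subgroup G) ⊓ Subgroup.centralizer (U : Set G) ≤ U → U ∈ 𝓕) := by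
    intro T hT
    obtain ⟨g, hg⟩ := exists_isWellPlaced_conj P hW T hT
    refine ⟨_, hg.1, ⟨g, rfl⟩, hg.2 0, ?_⟩
    intro hcen
    rw [h𝓕]
    refine ⟨?_, hg⟩
    exact (inf_le_inf_left _ (Subgroup.centralizer_le (SetLike.coe_subset_coe.mpr hg.1))).trans hcen
  obtain ⟨T, hT⟩ : ∃ T : Subgroup G, T = Subgroup.closure X := ⟨_, rfl⟩
  have hXT : X ⊆ T := by rw [hT]; exact Subgroup.subset_closure
  have hTP : T ≤ (P : Subgroup G) := by rw [hT]; exact (Subgroup.closure_le _).mpr hX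
  have hTa : rconj (T : Set G) a ⊆ (P : Subgroup G) := by
    rw [rconj_coe, SetLike.coe_subset_coe, hT, MonoidHom.map_closure, Subgroup.closure_le]
    rintro _ ⟨x, hx, rfl⟩
    apply haX
    exact ⟨x, hx, by simp [MulAut.conj_apply]⟩
  obtain ⟨k, ⟨l, hl1, hl2, hl3⟩, hka⟩ := alperin_chainC P 𝓕 hfam _ T a rfl hTP hTa
  have hrel := chain_rel (N := Npair W V ⊤ (P : Subgroup G)) (S₀ := ((P : Subgroup G) : Set G)) (𝓕' := 𝓕)
    (by
      intro U hU
      rw [h𝓕] at hU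
      exact SetLike.coe_subset_coe.mpr hU.2.1)
    (by
      intro U hU x hx
      rw [h𝓕] at hU
      exact pair_wellPlaced_fusion P hP1 hW hV hWZ hVmono hloc' U hU.1 hU.2 (U : Set G) x
        (subset_refl _) hx)
    l (T : Set G) (SetLike.coe_subset_coe.mpr hTP) hl2 hl3
  rw [hl1] at hrel
  have hrel2 : Rel (Npair W V ⊤ (P : Subgroup G)) ((P : Subgroup G) : Set G) X a⁻¹ := by
    apply (hrel.mono hXT).congr
    intro x hx
    rw [inv_inv, inv_inv]
    exact hka x (hXT hx)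
  exact listChain_of_rel (Npair_inv W V ⊤ (P : Subgroup G)) a hrel2

end Cfsg.Agent.S2002
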