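import Cfsg.Statements.S2004
import Mathlib
import Cfsg.Agent.Lib_helper3_QdB

set_option autoImplicit false
open Cfsg

open Cfsg.Agent.helper3 Cfsg.Agent.helper4.Red
namespace Cfsg.Agent.S2004


/-- Let p be an odd prime and G a finite group such that SL₂(p) is not involved in N_G(P) for any nonidentity p-subgroup P of G. Then every section of G is p-stable in the normalizer form: in each section, whenever an element of the normalizer of a p-subgroup Q acts quadratically on Q, its image in N(Q)/C(Q) lies in O_p(N(Q)/C(Q)). -/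
theorem result {G : Type*} [Group G] [Finite G] {p : ℕ} [Fact p.Prime] (hp : p ≠ 2) (h : ∀ P : Subgroup G, IsPGroup p ↥P → P ≠ ⊥ → ¬ Cfsg.Involves (Matrix.SpecialLinearGroup (Fin 2) (ZMod p)) ↥(Subgroup.normalizer ((P : Subgroup G) : Set G))) : ∀ (K R : Subgroup G) [hR : (R.subgroupOf K).Normal], Cfsg.IsNormalizerPStable p (↥K ⧸ R.subgroupOf K) := by
  intro K R hR Q hQ g hg hq
  haveI : Finite ↥K := inferInstance
  set f : ↥K →* ↥K ⧸ R.subgroupOf K := QuotientGroup.mk' (R.subgroupOf K) with hf
  have hfs : Function.Surjective f := QuotientGroup.mk'_surjective _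
  apply mk_mem_pCore_normalizer_of_mem_chiefStab Q hQ g hg
  haveI hQ'n : (Q.subgroupOf (Subgroup.normalizer (Q : Set (↥K ⧸ R.subgroupOf K)))).Normal :=
    Subgroup.normal_in_normalizer
  have hQ' : IsPGroup p ↥(Q.subgroupOf (Subgroup.normalizer (Q : Set (↥K ⧸ R.subgroupOf K)))) := by
    exact hQ.comap_subtype
  by_cases hQ1 : Q = ⊥
  · intro U W hUW hUV u hu
    have h1 := hUV hu
    rw [Subgroup.mem_subgroupOf] at h1
    have h1' : (u : ↥K ⧸ R.subgroupOf K) ∈ (⊥ : Subgroup (↥K ⧸ R.subgroupOf K)) := hQ1 ▸ h1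
    rw [Subgroup.mem_bot] at h1'
    have h2 : u = 1 := Subtype.ext h1'
    rw [h2]
    simp only [mul_one, inv_one, mul_inv_cancel]
    exact W.one_mem
  have hno : ¬ HasSec p ↥(Subgroup.normalizer (Q : Set (↥K ⧸ R.subgroupOf K))) := by
    intro hsec
    obtain ⟨P, hPp, hPQ, hPN⟩ := exists_lift_pSubgroup f hfs Q hQ
    set P₀ : Subgroup G := P.map K.subtype with hP₀
    have hP₀p : IsPGroup p ↥P₀ := hPp.map _
    have hP₀ne : P₀ ≠ ⊥ := by
      intro hbot
      have h1 : P = ⊥ := (Subgroup.map_eq_bot_iff_of_injective _ K.subtype_injective).mp hbot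
      apply hQ1
      rw [← hPQ, h1, Subgroup.map_bot]
    apply h P₀ hP₀p hP₀ne
    -- the surjection
    have hsec1 : HasSec p ↥((Subgroup.normalizer (P : Set ↥K)).map f) := by
      rw [hPN]; exact hsec
    have hsec2 : HasSec p ↥(Subgroup.normalizer (P : Set ↥K)) :=
      hsec1.of_surjective (f.subgroupMap _) (f.subgroupMap_surjective _)
    -- the injection
    have hle : ∀ x : ↥(Subgroup.normalizer (P : Set ↥K)),
        K.subtype (x : ↥K) ∈ Subgroup.normalizer (P₀ : Set G) := by
      intro x
      exact Subgroup.le_normalizer_map K.subtype ⟨x, x.2, rfl⟩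
    set ι : ↥(Subgroup.normalizer (P : Set ↥K)) →* ↥(Subgroup.normalizer (P₀ : Set G)) :=
      (K.subtype.comp (Subgroup.normalizer (P : Set ↥K)).subtype).codRestrict _ hle with hι
    have hιi : Function.Injective ι := by
      intro x y hxy
      have h1 : K.subtype (x : ↥K) = K.subtype (y : ↥K) :=
        congrArg (fun z : ↥(Subgroup.normalizer (P₀ : Set G)) => (z : G)) hxy
      exact Subtype.ext (K.subtype_injective h1)
    have hsec3 := hsec2.of_injective ι hιi
    exact hsec3.exists_section
  exact mem_chiefStab_of_quadratic_of_not_hasSec hp hno _ hQ' ⟨g, hg⟩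
    (quadratic_subgroupOf_normalizer Q g hg hq)

end Cfsg.Agent.S2004
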