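import Cfsg.Statements.S2008

set_option autoImplicit false
open Cfsg

namespace Cfsg.Agent.S2008

/-- An element `e` with `e * e = 1` normalizing a finite subgroup `N` and having no nontrivial fixed point on
`N` inverts `N`. -/
theorem inverts_of_fixed_point_free {H : Type*} [Group H] (N : Subgroup H) [Finite N] (e : H)
    (he : e * e = 1) (hnorm : ∀ n ∈ N, e * n * e⁻¹ ∈ N)
    (hfix : ∀ n ∈ N, e * n = n * e → n = 1) : ∀ n ∈ N, e * n * e⁻¹ = n⁻¹ := by
  have hinv : e⁻¹ = e := inv_eq_of_mul_eq_one_right he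
  let φ : N → N := fun n => ⟨(n : H)⁻¹ * (e * n * e⁻¹), N.mul_mem (N.inv_mem n.2) (hnorm n n.2)⟩
  have hinj : Function.Injective φ := by
    intro n m hnm
    have h1 : (n : H)⁻¹ * (e * n * e⁻¹) = (m : H)⁻¹ * (e * m * e⁻¹) := congrArg Subtype.val hnm
    have h2 : e * ((m : H) * (n : H)⁻¹) = ((m : H) * (n : H)⁻¹) * e := by
      have : (m : H) * (n : H)⁻¹ = e * m * e⁻¹ * (e * n * e⁻¹)⁻¹ := by
        calc (m : H) * (n : H)⁻¹ = m * ((n : H)⁻¹ * (e * n * e⁻¹)) * (e * n * e⁻¹)⁻¹ := by group
          _ = m * ((m : H)⁻¹ * (e * m * e⁻¹)) * (e * n * e⁻¹)⁻¹ := by rw [h1]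
          _ = e * m * e⁻¹ * (e * n * e⁻¹)⁻¹ := by group
      calc e * ((m : H) * (n : H)⁻¹) = e * m * e⁻¹ * (e * n * e⁻¹)⁻¹ * e := by group
        _ = ((m : H) * (n : H)⁻¹) * e := by rw [← this]
    have h3 := hfix _ (N.mul_mem m.2 (N.inv_mem n.2)) h2
    have h4 : (m : H) = n := by
      calc (m : H) = (m : H) * (n : H)⁻¹ * n := by group
        _ = n := by rw [h3]; group
    exact Subtype.ext h4.symm
  have hsurj : Function.Surjective φ := Finite.surjective_of_injective hinj
  intro y hy
  obtain ⟨n, hn⟩ := hsurj ⟨y, hy⟩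
  have hy' : y = (n : H)⁻¹ * (e * n * e⁻¹) := (congrArg Subtype.val hn).symm
  rw [hy', hinv]
  calc e * ((n : H)⁻¹ * (e * n * e)) * e = e * (n : H)⁻¹ * e * n * (e * e) := by group
    _ = e * (n : H)⁻¹ * e * n := by rw [he, mul_one]
    _ = e⁻¹ * (n : H)⁻¹ * e⁻¹ * n := by rw [hinv]
    _ = ((n : H)⁻¹ * (e * n * e))⁻¹ := by group

/-- The common core of the two statements: under the hypotheses, a proper normal subgroup is trivial. -/
theorem core {H : Type*} [Group H] [Finite H] (z : H) (hN : ∀ N : Subgroup H, N.Normal → N ≠ ⊤ → N ⊓ Subgroup.centralizer ({z} : Set H) = ⊥) (E : Subgroup H) (hE : IsKleinFour ↥E) (hzE : z ∈ E) (hz1 : z ≠ 1) (hc : ∀ e ∈ E, e ≠ 1 → IsConj z e) (N : Subgroup H) [hNn : N.Normal] (hNtop : N ≠ ⊤) : N = ⊥ := by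
  have hNz := hN N hNn hNtop
  -- every nonidentity element of E acts fixed-point-freely on N
  have hfix : ∀ e ∈ E, e ≠ 1 → ∀ n ∈ N, e * n = n * e → n = 1 := by
    intro e heE he1 n hn hcomm
    obtain ⟨c, hc'⟩ := isConj_iff.mp (hc e heE he1)
    -- c * z * c⁻¹ = e
    have h1 : c⁻¹ * n * c ∈ N ⊓ Subgroup.centralizer ({z} : Set H) := by
      refine Subgroup.mem_inf.mpr ⟨?_, ?_⟩
      · have := hNn.conj_mem n hn c⁻¹
        simpa using this
      · rw [Subgroup.mem_centralizer_iff]
        intro y hy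
        rw [Set.mem_singleton_iff] at hy
        subst hy
        have hz : y = c⁻¹ * e * c := by rw [← hc']; group
        rw [hz]
        calc c⁻¹ * e * c * (c⁻¹ * n * c) = c⁻¹ * (e * n) * c := by group
          _ = c⁻¹ * (n * e) * c := by rw [hcomm]
          _ = c⁻¹ * n * c * (c⁻¹ * e * c) := by group
    rw [hNz, Subgroup.mem_bot] at h1
    calc n = c * (c⁻¹ * n * c) * c⁻¹ := by group
      _ = 1 := by rw [h1]; group
  have hsq : ∀ e ∈ E, e * e = 1 := by
    intro e he
    have := IsKleinFour.mul_self (⟨e, he⟩ : E)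
    exact congrArg Subtype.val this
  have hinvt : ∀ e ∈ E, e ≠ 1 → ∀ n ∈ N, e * n * e⁻¹ = n⁻¹ := by
    intro e heE he1
    exact inverts_of_fixed_point_free N e (hsq e heE) (fun n hn => hNn.conj_mem n hn e) (hfix e heE he1)
  -- a second involution of E
  have hex : ∃ e ∈ E, e ≠ 1 ∧ e ≠ z := by
    by_contra hcon
    push Not at hcon
    have hsub : (E : Set H) ⊆ {1, z} := by
      intro e he
      by_cases h1 : e = 1
      · left; exact h1
      · right; exact hcon e he h1
    have h4 : Nat.card E = 4 := hE.card_four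
    have h5 : (E : Set H).ncard ≤ ({1, z} : Set H).ncard := Set.ncard_le_ncard hsub (Set.toFinite _)
    have h6 : ({1, z} : Set H).ncard ≤ 2 := by
      calc ({1, z} : Set H).ncard ≤ ({z} : Set H).ncard + 1 := Set.ncard_insert_le _ _
        _ = 2 := by rw [Set.ncard_singleton]
    have h7 : Nat.card E = (E : Set H).ncard := Nat.card_coe_set_eq _
    omega
  obtain ⟨e, heE, he1, hez⟩ := hex
  have hze : z * e ∈ E := E.mul_mem hzE heE
  have hze1 : z * e ≠ 1 := by
    intro h
    have : z = e⁻¹ := eq_inv_of_mul_eq_one_left h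
    have h2 : e⁻¹ = e := inv_eq_of_mul_eq_one_right (hsq e heE)
    exact hez (by rw [this, h2])
  -- z * e centralizes N
  rw [eq_bot_iff]
  intro n hn
  rw [Subgroup.mem_bot]
  apply hfix (z * e) hze hze1 n hn
  have h1 := hinvt e heE he1 n hn
  have h2 := hinvt z hzE hz1 n⁻¹ (N.inv_mem hn)
  rw [inv_inv] at h2
  calc z * e * n = z * (e * n * e⁻¹) * z⁻¹ * (z * e) := by group
    _ = z * n⁻¹ * z⁻¹ * (z * e) := by rw [h1]
    _ = n * (z * e) := by rw [h2]

/-- Let H be a finite group and z an involution such that every proper normal subgroup of H meets the centralizer of z trivially, and suppose z lies in a Klein four-subgroup E of H all three of whose involutions are conjugate to z in H. Then H has no non-trivial abelian normal subgroup. -/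
theorem result {H : Type*} [Group H] [Finite H] (z : H) (hz : orderOf z = 2) (hN : ∀ N : Subgroup H, N.Normal → N ≠ ⊤ → N ⊓ Subgroup.centralizer ({z} : Set H) = ⊥) (E : Subgroup H) (hE : IsKleinFour ↥E) (hzE : z ∈ E) (hc : ∀ e ∈ E, e ≠ 1 → IsConj z e) (N : Subgroup H) [N.Normal] (hab : IsMulCommutative ↥N) : N = ⊥ := by
  have hz1 : z ≠ 1 := by
    intro h; rw [h, orderOf_one] at hz; omega
  by_cases hNtop : N = ⊤
  · exfalso
    -- H is commutative, so all conjugates of z equal z
    have hcomm : ∀ a b : H, a * b = b * a := by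
      intro a b
      have ha : a ∈ N := by rw [hNtop]; trivial
      have hb : b ∈ N := by rw [hNtop]; trivial
      have := hab.is_comm.comm (⟨a, ha⟩ : N) ⟨b, hb⟩
      exact congrArg Subtype.val this
    have hall : ∀ e ∈ E, e ≠ 1 → e = z := by
      intro e he he1
      obtain ⟨c, hc'⟩ := isConj_iff.mp (hc e he he1)
      rw [← hc', hcomm c z]; group
    have hsub : (E : Set H) ⊆ {1, z} := by
      intro e he
      by_cases h1 : e = 1
      · left; exact h1
      · right; exact hall e he h1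
    have h4 : Nat.card E = 4 := hE.card_four
    have h5 : (E : Set H).ncard ≤ ({1, z} : Set H).ncard := Set.ncard_le_ncard hsub (Set.toFinite _)
    have h6 : ({1, z} : Set H).ncard ≤ 2 := by
      calc ({1, z} : Set H).ncard ≤ ({z} : Set H).ncard + 1 := Set.ncard_insert_le _ _
        _ = 2 := by rw [Set.ncard_singleton]
    have h7 : Nat.card E = (E : Set H).ncard := Nat.card_coe_set_eq _
    omega
  · exact core z hN E hE hzE hz1 hc N hNtop

end Cfsg.Agent.S2008
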