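import Cfsg.Statements.S2011
-- import your own Cfsg.Agent.* helpers here
import Mathlib
import Cfsg.Agent.Lib_helper10_Sylow
import Cfsg.Agent.Lib_helper7_Quot

set_option autoImplicit false
open Cfsg

namespace Cfsg.Agent.S2011

open Cfsg.Agent.helper10 Cfsg.Agent.helper7

variable {G : Type*} [Group G] [Finite G]

/-- Under centricity, every `p`-subgroup of `C_G(Q)` lies in `Z(Q)`. -/
theorem pgroup_le_center (p : ℕ) [Fact p.Prime] (P : Sylow p G) (Q : Subgroup G)
    (hcen : (Cfsg.groupFusionSystem (P : Subgroup G)).IsCentric Q)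
    (T : Subgroup G) (hT : IsPGroup p ↥T) (hTC : T ≤ Subgroup.centralizer (Q : Set G)) :
    T ≤ Q ⊓ Subgroup.centralizer (Q : Set G) := by
  obtain ⟨hQP, hcentric⟩ := hcen
  have hQp : IsPGroup p ↥Q := P.isPGroup'.to_le hQP
  have hTQ : IsPGroup p ↥(T ⊔ Q : Subgroup G) :=
    hT.to_sup_of_normal_right' hQp (hTC.trans (Subgroup.centralizer_le_normalizer _))
  obtain ⟨g, hg⟩ := pgroup_conj_into_sylow P (T ⊔ Q) hTQ
  have hR : Q.map (MulAut.conj g).toMonoidHom ≤ (P : Subgroup G) :=
    (Subgroup.map_mono le_sup_right).trans hg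
  have hconj : (Cfsg.groupFusionSystem (P : Subgroup G)).IsConj Q
      (Q.map (MulAut.conj g).toMonoidHom) := by
    refine ⟨(MulAut.conj g).toMonoidHom.comp Q.subtype, ⟨hQP, fun x => ?_, g, fun x => rfl⟩, ?_⟩
    · exact hR ⟨x, x.2, rfl⟩
    · rw [← MonoidHom.map_range, Subgroup.range_subtype]
  have h1 := hcentric _ hconj
  intro t ht
  refine Subgroup.mem_inf.2 ⟨?_, hTC ht⟩
  have h2 : g * t * g⁻¹ ∈ Cfsg.FusionSystem.centralizerIn (P : Subgroup G)
      (Q.map (MulAut.conj g).toMonoidHom) := by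
    refine Subgroup.mem_inf.2 ⟨hg ⟨t, Subgroup.mem_sup_left ht, rfl⟩, ?_⟩
    rw [Subgroup.mem_centralizer_iff]
    rintro _ ⟨q, hq, rfl⟩
    have hqt : q * t = t * q := (Subgroup.mem_centralizer_iff.1 (hTC ht)) q hq
    show g * q * g⁻¹ * (g * t * g⁻¹) = g * t * g⁻¹ * (g * q * g⁻¹)
    calc g * q * g⁻¹ * (g * t * g⁻¹) = g * (q * t) * g⁻¹ := by group
      _ = g * (t * q) * g⁻¹ := by rw [hqt]
      _ = g * t * g⁻¹ * (g * q * g⁻¹) := by group
  obtain ⟨q, hq, hqe⟩ := h1 h2
  have hqe' : g * q * g⁻¹ = g * t * g⁻¹ := hqe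
  have : q = t := mul_left_cancel (mul_right_cancel hqe')
  rw [← this]; exact hq

theorem forward (p : ℕ) [Fact p.Prime] (P : Sylow p G) (Q : Subgroup G)
    (hcen : (Cfsg.groupFusionSystem (P : Subgroup G)).IsCentric Q) :
    Cfsg.IsInternalDirectProduct (Q ⊓ Subgroup.centralizer (Q : Set G))
      ((Cfsg.pPrimeCore p ↥(Subgroup.centralizer (Q : Set G))).map
        (Subgroup.centralizer (Q : Set G)).subtype) (Subgroup.centralizer (Q : Set G)) := by
  have hp : p.Prime := Fact.out
  have hQp : IsPGroup p ↥Q := P.isPGroup'.to_le hcen.1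
  have hZp : IsPGroup p ↥(Q ⊓ Subgroup.centralizer (Q : Set G) : Subgroup G) :=
    hQp.to_le inf_le_left
  have hZ'p : IsPGroup p ↥((Q ⊓ Subgroup.centralizer (Q : Set G)).subgroupOf
      (Subgroup.centralizer (Q : Set G))) := hZp.comap_subtype
  obtain ⟨T', hT'⟩ := hZ'p.exists_le_sylow
  have hT'le : (T' : Subgroup ↥(Subgroup.centralizer (Q : Set G))) ≤
      (Q ⊓ Subgroup.centralizer (Q : Set G)).subgroupOf (Subgroup.centralizer (Q : Set G)) := by
    intro t' ht'
    rw [Subgroup.mem_subgroupOf]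
    have hTp : IsPGroup p ↥((T' : Subgroup ↥(Subgroup.centralizer (Q : Set G))).map
        (Subgroup.centralizer (Q : Set G)).subtype) := T'.isPGroup'.map _
    exact pgroup_le_center p P Q hcen _ hTp (Subgroup.map_subtype_le _)
      (Subgroup.mem_map_of_mem _ ht')
  have hT'eq : (T' : Subgroup ↥(Subgroup.centralizer (Q : Set G))) =
      (Q ⊓ Subgroup.centralizer (Q : Set G)).subgroupOf (Subgroup.centralizer (Q : Set G)) :=
    le_antisymm hT'le hT'
  -- Burnside
  have hcentral : ∀ t' ∈ (T' : Subgroup ↥(Subgroup.centralizer (Q : Set G))),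
      ∀ c : ↥(Subgroup.centralizer (Q : Set G)), t' * c = c * t' := by
    intro t' ht' c
    have h1 := (Subgroup.mem_inf.1 (Subgroup.mem_subgroupOf.1 (hT'le ht'))).1
    apply Subtype.ext
    exact (Subgroup.mem_centralizer_iff.1 c.2) _ h1
  have hP : Subgroup.normalizer ((T' : Subgroup ↥(Subgroup.centralizer (Q : Set G))) :
        Set ↥(Subgroup.centralizer (Q : Set G))) ≤
      Subgroup.centralizer ((T' : Subgroup ↥(Subgroup.centralizer (Q : Set G))) :
        Set ↥(Subgroup.centralizer (Q : Set G))) := by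
    intro c _
    rw [Subgroup.mem_centralizer_iff]
    intro t' ht'
    exact hcentral t' ht' c
  have hcompl := MonoidHom.ker_transferSylow_isComplement' T' hP
  -- N' := ker
  have hNn : ((MonoidHom.transferSylow T' hP).ker).Normal := MonoidHom.normal_ker _
  have hidx : ((MonoidHom.transferSylow T' hP).ker).index =
      Nat.card ↥(T' : Subgroup ↥(Subgroup.centralizer (Q : Set G))) :=
    hcompl.symm.index_eq_card
  have hNcard : Nat.card ↥((MonoidHom.transferSylow T' hP).ker) =
      (T' : Subgroup ↥(Subgroup.centralizer (Q : Set G))).index := hcompl.index_eq_card.symm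
  have hNcop : (Nat.card ↥((MonoidHom.transferSylow T' hP).ker)).Coprime p := by
    rw [hNcard, Nat.coprime_comm, Nat.Prime.coprime_iff_not_dvd hp]
    exact T'.not_dvd_index
  have hcore : Cfsg.pPrimeCore p ↥(Subgroup.centralizer (Q : Set G)) =
      (MonoidHom.transferSylow T' hP).ker := by
    apply le_antisymm
    · intro o ho
      -- image of o in the quotient by the kernel has order dividing a power of p and prime to p
      have h1 : (Nat.card ↥(Cfsg.pPrimeCore p ↥(Subgroup.centralizer (Q : Set G)))).Coprime p :=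
        pPrimeCore_coprime hp
      have h2 : orderOf o ∣ Nat.card ↥(Cfsg.pPrimeCore p ↥(Subgroup.centralizer (Q : Set G))) :=
        Subgroup.orderOf_dvd_natCard _ ho
      have h3 : orderOf (QuotientGroup.mk' ((MonoidHom.transferSylow T' hP).ker) o) ∣ orderOf o :=
        orderOf_map_dvd _ o
      have h4 : orderOf (QuotientGroup.mk' ((MonoidHom.transferSylow T' hP).ker) o) ∣
          Nat.card (↥(Subgroup.centralizer (Q : Set G)) ⧸ (MonoidHom.transferSylow T' hP).ker) :=
        orderOf_dvd_natCard _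
      rw [← Subgroup.index_eq_card, hidx] at h4
      obtain ⟨k, hk⟩ := IsPGroup.iff_card.1 T'.isPGroup'
      rw [hk] at h4
      have h5 : (orderOf (QuotientGroup.mk' ((MonoidHom.transferSylow T' hP).ker) o)).Coprime
          (p ^ k) :=
        Nat.Coprime.pow_right k (Nat.Coprime.coprime_dvd_left (h3.trans h2) h1)
      have h6 : orderOf (QuotientGroup.mk' ((MonoidHom.transferSylow T' hP).ker) o) = 1 :=
        Nat.Coprime.eq_one_of_dvd h5 h4
      rw [orderOf_eq_one_iff, QuotientGroup.mk'_apply, QuotientGroup.eq_one_iff] at h6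
      exact h6
    · apply le_sSup
      exact ⟨hNn, hNcop⟩
  refine ⟨inf_le_right, Subgroup.map_subtype_le _, ?_, ?_, ?_⟩
  · -- commute
    intro a ha b hb
    have hbC : b ∈ Subgroup.centralizer (Q : Set G) := Subgroup.map_subtype_le _ hb
    exact (Subgroup.mem_centralizer_iff.1 hbC) a (Subgroup.mem_inf.1 ha).1
  · -- trivial intersection
    rw [eq_bot_iff]
    intro z hz
    obtain ⟨hz1, hz2⟩ := Subgroup.mem_inf.1 hz
    obtain ⟨o, ho, rfl⟩ := Subgroup.mem_map.1 hz2
    rw [Subgroup.mem_bot]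
    have h1 : orderOf o ∣ Nat.card ↥(Cfsg.pPrimeCore p ↥(Subgroup.centralizer (Q : Set G))) :=
      Subgroup.orderOf_dvd_natCard _ ho
    have h2 : (orderOf o).Coprime p :=
      Nat.Coprime.coprime_dvd_left h1 (pPrimeCore_coprime hp)
    obtain ⟨k, hk⟩ := (IsPGroup.iff_orderOf.1 hZp) ⟨_, hz1⟩
    rw [Subgroup.orderOf_mk] at hk
    have h3 : orderOf ((Subgroup.centralizer (Q : Set G)).subtype o) = orderOf o :=
      orderOf_injective _ (Subgroup.subtype_injective _) o
    rw [h3] at hk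
    have h4 : orderOf o = 1 := by
      rcases Nat.eq_zero_or_pos k with hk0 | hk0
      · rw [hk, hk0, pow_zero]
      · exfalso
        have : p ∣ orderOf o := by rw [hk]; exact dvd_pow_self p hk0.ne'
        have h5 := Nat.dvd_gcd this (dvd_refl p)
        rw [h2.gcd_eq_one] at h5
        exact hp.one_lt.ne' (Nat.dvd_one.1 h5)
    rw [orderOf_eq_one_iff] at h4
    rw [h4, map_one]
  · -- join
    apply le_antisymm (sup_le inf_le_right (Subgroup.map_subtype_le _))
    have h1 := hcompl.sup_eq_top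
    have h2 : ((MonoidHom.transferSylow T' hP).ker ⊔
        (T' : Subgroup ↥(Subgroup.centralizer (Q : Set G)))).map
        (Subgroup.centralizer (Q : Set G)).subtype = Subgroup.centralizer (Q : Set G) := by
      rw [h1, ← MonoidHom.range_eq_map, Subgroup.range_subtype]
    rw [Subgroup.map_sup, ← hcore, hT'eq,
      Subgroup.map_subgroupOf_eq_of_le inf_le_right] at h2
    rw [sup_comm, h2]

theorem backward (p : ℕ) [Fact p.Prime] (P : Sylow p G) (Q : Subgroup G) (hQ : Q ≤ P)
    (h : Cfsg.IsInternalDirectProduct (Q ⊓ Subgroup.centralizer (Q : Set G))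
      ((Cfsg.pPrimeCore p ↥(Subgroup.centralizer (Q : Set G))).map
        (Subgroup.centralizer (Q : Set G)).subtype) (Subgroup.centralizer (Q : Set G))) :
    (Cfsg.groupFusionSystem (P : Subgroup G)).IsCentric Q := by
  have hp : p.Prime := Fact.out
  obtain ⟨h1, h2, hcomm, hdisj, hsup⟩ := h
  refine ⟨hQ, ?_⟩
  rintro R ⟨φ, ⟨-, hφP, g, hg⟩, rfl⟩
  intro x hx
  obtain ⟨hxP, hxC⟩ := Subgroup.mem_inf.1 hx
  -- x' := g⁻¹ x g centralizes Q
  have hx' : g⁻¹ * x * g ∈ Subgroup.centralizer (Q : Set G) := by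
    rw [Subgroup.mem_centralizer_iff]
    intro q hq
    have hφq : φ ⟨q, hq⟩ ∈ φ.range := ⟨⟨q, hq⟩, rfl⟩
    have h3 := (Subgroup.mem_centralizer_iff.1 hxC) _ hφq
    rw [hg] at h3
    -- h3 : g q g⁻¹ * x = x * (g q g⁻¹)
    have h3' : g * q * g⁻¹ * x = x * (g * q * g⁻¹) := h3
    calc q * (g⁻¹ * x * g) = g⁻¹ * (g * q * g⁻¹ * x) * g := by group
      _ = g⁻¹ * (x * (g * q * g⁻¹)) * g := by rw [h3']
      _ = g⁻¹ * x * g * q := by group
  -- decompose
  rw [← hsup] at hx'
  have hnorm : (Cfsg.pPrimeCore p ↥(Subgroup.centralizer (Q : Set G))).map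
      (Subgroup.centralizer (Q : Set G)).subtype ≤
      Subgroup.normalizer ((Q ⊓ Subgroup.centralizer (Q : Set G) : Subgroup G) : Set G) := by
    intro b hb
    rw [Subgroup.mem_normalizer_iff]
    intro a
    constructor
    · intro ha
      have := hcomm a ha b hb
      have e : b * a * b⁻¹ = a := by rw [← this]; group
      rw [e]; exact ha
    · intro ha
      have := hcomm _ ha b hb
      -- (b a b⁻¹) * b = b * (b a b⁻¹) → b a = b b a b⁻¹ → a = b a b⁻¹
      have e : b * a * b⁻¹ = a := by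
        have h5 : b * a * b⁻¹ * b = b * (b * a * b⁻¹) := this
        have h6 : b * a = b * (b * a * b⁻¹) := by rw [← h5]; group
        exact (mul_left_cancel h6).symm
      rw [e] at ha; exact ha
  obtain ⟨z, hz, o, ho, hzo⟩ := mem_sup_of_normalizer hnorm hx'
  -- x' is a p-element, so o = 1
  have hxp : IsPGroup p ↥(P : Subgroup G) := P.isPGroup'
  obtain ⟨k, hk⟩ := hxp ⟨x, hxP⟩
  have hxk : x ^ p ^ k = 1 := by
    have := congrArg Subtype.val hk
    simpa using this
  have hx'k : (g⁻¹ * x * g) ^ p ^ k = 1 := by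
    have e : g⁻¹ * x * g = g⁻¹ * x * g⁻¹⁻¹ := by group
    rw [e, conj_pow, hxk]; group
  have hzo_comm : Commute z o := hcomm z hz o ho
  rw [hzo, hzo_comm.mul_pow] at hx'k
  -- o ^ p^k ∈ Z ∩ O
  have ho_pow : o ^ p ^ k ∈ (Q ⊓ Subgroup.centralizer (Q : Set G)) ⊓
      (Cfsg.pPrimeCore p ↥(Subgroup.centralizer (Q : Set G))).map
        (Subgroup.centralizer (Q : Set G)).subtype := by
    refine Subgroup.mem_inf.2 ⟨?_, Subgroup.pow_mem _ ho _⟩
    have e : o ^ p ^ k = (z ^ p ^ k)⁻¹ := eq_inv_of_mul_eq_one_right hx'k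
    rw [e]
    exact Subgroup.inv_mem _ (Subgroup.pow_mem _ hz _)
  rw [hdisj, Subgroup.mem_bot] at ho_pow
  -- o has order prime to p
  obtain ⟨o', ho', rfl⟩ := Subgroup.mem_map.1 ho
  have h4 : orderOf o' ∣ Nat.card ↥(Cfsg.pPrimeCore p ↥(Subgroup.centralizer (Q : Set G))) :=
    Subgroup.orderOf_dvd_natCard _ ho'
  have h5 : (orderOf o').Coprime p :=
    Nat.Coprime.coprime_dvd_left h4 (pPrimeCore_coprime hp)
  have h6 : orderOf ((Subgroup.centralizer (Q : Set G)).subtype o') = orderOf o' :=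
    orderOf_injective _ (Subgroup.subtype_injective _) o'
  have h7 : orderOf ((Subgroup.centralizer (Q : Set G)).subtype o') ∣ p ^ k :=
    orderOf_dvd_of_pow_eq_one ho_pow
  have h8 : orderOf ((Subgroup.centralizer (Q : Set G)).subtype o') = 1 := by
    rw [h6] at h7 ⊢
    exact Nat.Coprime.eq_one_of_dvd (Nat.Coprime.pow_right k h5) h7
  rw [orderOf_eq_one_iff] at h8
  rw [h8, mul_one] at hzo
  -- x = g z g⁻¹ ∈ range φ
  have hzQ : z ∈ Q := (Subgroup.mem_inf.1 hz).1
  refine ⟨⟨z, hzQ⟩, ?_⟩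
  rw [hg]
  show g * z * g⁻¹ = x
  rw [← hzo]; group

/-- Let G be a finite group with Sylow p-subgroup P and Q ≤ P. Then Q is centric in the fusion system of G on P (C_P(R) ≤ R for every G-conjugate R of Q lying in P) if and only if C_G(Q) is the internal direct product of Z(Q) = Q ∩ C_G(Q) and the largest normal subgroup of C_G(Q) of order prime to p. -/
theorem result {G : Type*} [Group G] [Finite G] (p : ℕ) [Fact p.Prime] (P : Sylow p G) (Q : Subgroup G) (hQ : Q ≤ P) : (Cfsg.groupFusionSystem (P : Subgroup G)).IsCentric Q ↔ Cfsg.IsInternalDirectProduct (Q ⊓ Subgroup.centralizer (Q : Set G)) ((Cfsg.pPrimeCore p ↥(Subgroup.centralizer (Q : Set G))).map (Subgroup.centralizer (Q : Set G)).subtype) (Subgroup.centralizer (Q : Set G)) :=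
  ⟨forward p P Q, backward p P Q hQ⟩

end Cfsg.Agent.S2011
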