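import Cfsg.Statements.S2012
import Mathlib
import Cfsg.Agent.Lib_helper10_AlperinP

set_option autoImplicit false
open Cfsg

namespace Cfsg.Agent.S2012

open Cfsg.Agent.helper10

local notation:max K "^[" g "]" => Subgroup.map (MulEquiv.toMonoidHom (MulAut.conj g)) K

theorem result {G : Type*} [Group G] [Finite G] {p : ℕ} [Fact p.Prime] (P : Sylow p G) (A : Set G) (g : G) (hA : A ⊆ (P : Set G)) (hAg : (fun a => g⁻¹ * a * g) '' A ⊆ (P : Set G)) : ∃ (n : ℕ) (Q : Fin n → Sylow p G) (x : Fin n → G), (List.ofFn x).prod = g ∧ (∀ i : Fin n, x i ∈ Subgroup.normalizer ((((P : Subgroup G) ⊓ (Q i : Subgroup G)) : Subgroup G) : Set G) ∧ ¬ p ∣ ((P : Subgroup G) ⊓ Subgroup.normalizer ((((P : Subgroup G) ⊓ (Q i : Subgroup G)) : Subgroup G) : Set G)).relIndex (Subgroup.normalizer ((((P : Subgroup G) ⊓ (Q i : Subgroup G)) : Subgroup G) : Set G)) ∧ ¬ p ∣ ((Q i : Subgroup G) ⊓ Subgroup.normalizer ((((P : Subgroup G) ⊓ (Q i : Subgroup G)) : Subgroup G) : Set G)).relIndex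 (Subgroup.normalizer ((((P : Subgroup G) ⊓ (Q i : Subgroup G)) : Subgroup G) : Set G)) ∧ ((Q i : Subgroup G) = (P : Subgroup G) ∨ ∃ k : ℕ, orderOf (x i) = p ^ k)) ∧ (∀ h : 0 < n, A ⊆ (((P : Subgroup G) ⊓ (Q ⟨0, h⟩ : Subgroup G) : Subgroup G) : Set G)) ∧ ∀ i : Fin n, ∀ h : i.val + 1 < n, (fun a => (((List.ofFn x).take (i.val + 1)).prod)⁻¹ * a * ((List.ofFn x).take (i.val + 1)).prod) '' A ⊆ (((P : Subgroup G) ⊓ (Q ⟨i.val + 1, h⟩ : Subgroup G) : Subgroup G) : Set G) := by
  -- the Sylow subgroup `Q = g P g⁻¹`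
  have hQcoe : ((g • P : Sylow p G) : Subgroup G) = (P : Subgroup G)^[g] := sylow_smul_eq_map_conj P g
  have hAQ : A ⊆ ((((P : Subgroup G) ⊓ ((g • P : Sylow p G) : Subgroup G)) : Subgroup G) : Set G) := by
    intro a ha
    refine Subgroup.mem_inf.2 ⟨hA ha, ?_⟩
    rw [hQcoe, mem_map_conj_iff]
    exact hAg ⟨a, ha, rfl⟩
  obtain ⟨x, l, h1, h2, h3, h4⟩ := exists_related P _ (g • P) rfl
  -- `n = x⁻¹ g` normalizes `P`
  have hn : x⁻¹ * g ∈ Subgroup.normalizer ((P : Subgroup G) : Set G) := by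
    rw [mem_normalizer_iff_map_conj, map_conj_mul, ← hQcoe, h4]
  have hPP : (P : Subgroup G) ⊓ (P : Subgroup G) = (P : Subgroup G) := inf_idem _
  have hPi : ¬ p ∣ ((P : Subgroup G) ⊓ Subgroup.normalizer ((P : Subgroup G) : Set G)).relIndex
      (Subgroup.normalizer ((P : Subgroup G) : Set G)) := by
    rw [inf_eq_left.2 Subgroup.le_normalizer]
    intro hdvd
    apply P.not_dvd_index
    rw [← Subgroup.relIndex_mul_index (Subgroup.le_normalizer (H := (P : Subgroup G)))]
    exact dvd_mul_of_dvd_left hdvd _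
  have hstepP : StepOK p P (P, x⁻¹ * g) := by
    refine ⟨?_, ⟨?_, ?_⟩, Or.inl rfl⟩
    · show x⁻¹ * g ∈ Subgroup.normalizer ((((P : Subgroup G) ⊓ (P : Subgroup G)) : Subgroup G) : Set G)
      rw [hPP]; exact hn
    · show ¬ p ∣ ((P : Subgroup G) ⊓ Subgroup.normalizer ((((P : Subgroup G) ⊓ (P : Subgroup G)) : Subgroup G) : Set G)).relIndex
        (Subgroup.normalizer ((((P : Subgroup G) ⊓ (P : Subgroup G)) : Subgroup G) : Set G))
      rw [hPP]; exact hPi
    · show ¬ p ∣ ((P : Subgroup G) ⊓ Subgroup.normalizer ((((P : Subgroup G) ⊓ (P : Subgroup G)) : Subgroup G) : Set G)).relIndex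
        (Subgroup.normalizer ((((P : Subgroup G) ⊓ (P : Subgroup G)) : Subgroup G) : Set G))
      rw [hPP]; exact hPi
  obtain ⟨L, hLdef⟩ : ∃ L : List (Sylow p G × G), L = l ++ [(P, x⁻¹ * g)] := ⟨_, rfl⟩
  have hLprod : (L.map Prod.snd).prod = g := by
    rw [hLdef, List.map_append, List.prod_append, h1]
    simp
  have hLstep : ∀ q ∈ L, StepOK p P q := by
    intro q hq
    rw [hLdef] at hq
    rcases List.mem_append.mp hq with hq | hq
    · exact h2 q hq
    · rw [List.mem_singleton] at hq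
      rw [hq]; exact hstepP
  have hLchain : ChainCond A (toPairs P L) := by
    apply chainCond_mono hAQ
    rw [hLdef, toPairs_append, chainCond_append, toPairs_snd, h1]
    refine ⟨h3, ?_, trivial⟩
    show rconj _ x ⊆ (((P : Subgroup G) ⊓ (P : Subgroup G) : Subgroup G) : Set G)
    rw [rconj_coe, SetLike.coe_subset_coe, hPP, ← h4]
    exact Subgroup.map_mono inf_le_right
  -- conversion to the indexed form
  have hlen : (toPairs P L).length = L.length := by unfold toPairs; rw [List.length_map]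
  have hofFn : List.ofFn (fun i : Fin L.length => (L[(i : ℕ)]).2) = L.map Prod.snd :=
    List.ofFn_getElem_eq_map L Prod.snd
  obtain ⟨c0, cs⟩ := chainCond_fin A (toPairs P L) hLchain
  refine ⟨L.length, fun i => (L[(i : ℕ)]).1, fun i => (L[(i : ℕ)]).2, ?_, ?_, ?_, ?_⟩
  · rw [hofFn, hLprod]
  · intro i
    obtain ⟨s1, ⟨s2, s3⟩, s4⟩ := hLstep _ (List.getElem_mem i.2)
    exact ⟨s1, s2, s3, s4⟩
  · intro h
    have := c0 (by rw [hlen]; exact h)
    have e : ((toPairs P L)[0]'(by rw [hlen]; exact h)).1 =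
        (P : Subgroup G) ⊓ ((L[0]'h).1 : Subgroup G) := by
      unfold toPairs
      rw [List.getElem_map]
    rw [e] at this
    exact this
  · intro i h
    have := cs i.val (by rw [hlen]; exact h)
    have e : ((toPairs P L)[i.val + 1]'(by rw [hlen]; exact h)).1 =
        (P : Subgroup G) ⊓ ((L[i.val + 1]'h).1 : Subgroup G) := by
      unfold toPairs
      rw [List.getElem_map]
    rw [e, toPairs_snd] at this
    rw [hofFn]
    exact this

end Cfsg.Agent.S2012
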