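import Cfsg.Statements.S2015
import Mathlib
import Cfsg.Agent.S1984

set_option autoImplicit false
universe u
open Cfsg

namespace Cfsg.Agent.S2015

open Cfsg.Agent.helper10 in
/-- The image of the lower K-infinity subgroup under an embedding onto a subgroup. -/
theorem map_kInfLower_eq {P G : Type u} [Group P] [Group G] (ι : P →* G)
    (hι : Function.Injective ι) (T : Subgroup G) (hT : T = ι.range) :
    (Cfsg.kInfLower P).map ι = Cfsg.inducedFunctor Cfsg.kInfLower T := by
  subst hT
  let e : P ≃* ι.range := MonoidHom.ofInjective hι
  have h1 := kInfLower_map_equiv e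
  show _ = (Cfsg.kInfLower ↥ι.range).map ι.range.subtype
  rw [← h1, Subgroup.map_map]
  rfl

open Cfsg.Agent.helper10 in
/-- For p ≥ 5, every finite p-group P has a characteristic subgroup K containing Z(P), depending only on P, whose normalizer controls transfer wherever P is a Sylow subgroup: for every finite group G and every embedding ι of P onto a Sylow p-subgroup of G, the intersection of ι(P) with the derived subgroup of G equals its intersection with the derived subgroup of N_G(ι(K)). -/
theorem result (p : ℕ) [Fact p.Prime] (hp : 5 ≤ p) (P : Type u) [Group P] [Finite P] (hP : IsPGroup p P) : ∃ K : Subgroup P, K.Characteristic ∧ Subgroup.center P ≤ K ∧ ∀ (G : Type u) [Group G] [Finite G] (ι : P →* G), Function.Injective ι → (∃ T : Sylow p G, (T : Subgroup G) = ι.range) → ι.range ⊓ commutator G = ι.range ⊓ (commutator ↥(Subgroup.normalizer ((K.map ι : Subgroup G) : Set G))).map (Subgroup.normalizer ((K.map ι : Subgroup G) : Set G)).subtype := by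
  have hW : Cfsg.IsCharPFunctor.{u} p Cfsg.kInfLower := isCharPFunctor_kInfLower p
  refine ⟨Cfsg.kInfLower P, ?_, center_le_kInfLower hP, ?_⟩
  · rw [Subgroup.characteristic_iff_map_eq]
    intro φ
    exact kInfLower_map_equiv φ
  · intro G _ _ ι hι hT
    obtain ⟨T, hT⟩ := hT
    have hK := map_kInfLower_eq ι hι (T : Subgroup G) hT
    rw [hK, ← hT, Subgroup.map_subtype_commutator, commutator_def]
    have hctl : CtlT p {Cfsg.kInfLower} G :=
      (ctlT_singleton_iff Cfsg.kInfLower G).2 (Cfsg.Agent.S1984.result hp)
    have h1 := ctlT_at (singleton_char Cfsg.kInfLower hW) T hctl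
    rw [RT_fam_singleton, top_inf_eq] at h1
    apply le_antisymm
    · exact h1
    · exact inf_le_inf_left _ (Subgroup.commutator_mono le_top le_top)

end Cfsg.Agent.S2015
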