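import Mathlib
import Cfsg.Statements.S2060
import Cfsg.Agent.Lib_helper2_Out21

set_option autoImplicit false
open Cfsg

namespace Cfsg.Agent.S2060

open Cfsg.Agent.helper2

theorem s2060_aux : (Cfsg.Inn ↥Cfsg.Spor.M11).index = 1 := by
  rw [Subgroup.index_eq_one, eq_top_iff]
  intro φ _
  have h : ∃ h : ↥Cfsg.Spor.M11, MulAut.conj h = φ :=
    Cfsg.Agent.helper2.Golay.aut_inner_M11 φ
  exact h

theorem result : Nat.card (Cfsg.Out ↥Cfsg.Spor.M11) = 1 := by
  exact s2060_aux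

end Cfsg.Agent.S2060
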