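import Mathlib
import Cfsg.Statements.S2061
import Cfsg.Agent.Lib_helper2_Out18

set_option autoImplicit false
open Cfsg

namespace Cfsg.Agent.S2061

open Cfsg.Agent.helper2

open Cfsg.Agent.helper2.Golay Cfsg.Agent.helper27
open scoped Pointwise

/-- Conjugation by a permutation normalising `M12`, as an automorphism of `M12`. -/
def s2061_conjAut (g0 : Equiv.Perm Cfsg.GolayPt)
    (h1 : ∀ x ∈ Cfsg.Spor.M12, g0 * x * g0⁻¹ ∈ Cfsg.Spor.M12)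
    (h2 : ∀ x ∈ Cfsg.Spor.M12, g0⁻¹ * x * g0⁻¹⁻¹ ∈ Cfsg.Spor.M12) : MulAut ↥Cfsg.Spor.M12 where
  toFun x := ⟨g0 * x.1 * g0⁻¹, h1 x.1 x.2⟩
  invFun x := ⟨g0⁻¹ * x.1 * g0⁻¹⁻¹, h2 x.1 x.2⟩
  left_inv x := Subtype.ext (by
    show g0⁻¹ * (g0 * x.1 * g0⁻¹) * g0⁻¹⁻¹ = x.1
    group)
  right_inv x := Subtype.ext (by
    show g0 * (g0⁻¹ * x.1 * g0⁻¹⁻¹) * g0⁻¹ = x.1
    group)
  map_mul' x y := Subtype.ext (by
    show g0 * (x.1 * y.1) * g0⁻¹ = (g0 * x.1 * g0⁻¹) * (g0 * y.1 * g0⁻¹)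
    group)

theorem s2061_aux : (Cfsg.Inn ↥Cfsg.Spor.M12).index = 2 := by
  have hd := squareDodecad_mem
  obtain ⟨g0, hg0, hg0d⟩ := dodecads_transitive hd (compl_mem_dodecads hd)
  have hg0c : g0 • Cfsg.Spor.squareDodecadᶜ = Cfsg.Spor.squareDodecad := by
    rw [smul_compl', hg0d, compl_compl]
  have hg0i : g0⁻¹ • Cfsg.Spor.squareDodecad = Cfsg.Spor.squareDodecadᶜ := by
    have h := congrArg (fun s => g0⁻¹ • s) hg0c
    simp only [inv_smul_smul] at h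
    exact h.symm
  have hg0ic : g0⁻¹ • Cfsg.Spor.squareDodecadᶜ = Cfsg.Spor.squareDodecad := by
    have h := congrArg (fun s => g0⁻¹ • s) hg0d
    simp only [inv_smul_smul] at h
    exact h.symm
  have hM : ∀ x : Equiv.Perm Cfsg.GolayPt, x ∈ Cfsg.Spor.M12 ↔
      x ∈ Cfsg.M24 ∧ x • Cfsg.Spor.squareDodecad = Cfsg.Spor.squareDodecad :=
    fun x => mem_stabD (d := Cfsg.Spor.squareDodecad)
  have hnorm : ∀ x ∈ Cfsg.Spor.M12, g0 * x * g0⁻¹ ∈ Cfsg.Spor.M12 := by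
    intro x hx
    obtain ⟨hx1, hx2⟩ := (hM x).mp hx
    rw [hM]
    refine ⟨Subgroup.mul_mem _ (Subgroup.mul_mem _ hg0 hx1) (Subgroup.inv_mem _ hg0), ?_⟩
    rw [mul_smul, mul_smul, hg0i, smul_compl', hx2, hg0c]
  have hnorm' : ∀ x ∈ Cfsg.Spor.M12, g0⁻¹ * x * g0⁻¹⁻¹ ∈ Cfsg.Spor.M12 := by
    intro x hx
    obtain ⟨hx1, hx2⟩ := (hM x).mp hx
    rw [hM, inv_inv]
    refine ⟨Subgroup.mul_mem _ (Subgroup.mul_mem _ (Subgroup.inv_mem _ hg0) hx1) hg0, ?_⟩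
    rw [mul_smul, mul_smul, hg0d, smul_compl', hx2, hg0ic]
  set c := s2061_conjAut g0 hnorm hnorm' with hc
  have hcapp : ∀ x : ↥Cfsg.Spor.M12, ((c x : ↥Cfsg.Spor.M12) : Equiv.Perm Cfsg.GolayPt)
      = g0 * x.1 * g0⁻¹ := fun x => rfl
  have hnormal : (Cfsg.Inn ↥Cfsg.Spor.M12).Normal := Cfsg.innNormal _
  have hcnot : c ∉ Cfsg.Inn ↥Cfsg.Spor.M12 := by
    rintro ⟨h, hh⟩
    obtain ⟨a, ha⟩ := exists_mem_dodecad hd
    have hcomm : ∀ x ∈ Cfsg.Spor.M12, (h.1⁻¹ * g0) * x = x * (h.1⁻¹ * g0) := by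
      intro x hx
      have := congrArg (fun ψ : MulAut ↥Cfsg.Spor.M12 =>
        ((ψ ⟨x, hx⟩ : ↥Cfsg.Spor.M12) : Equiv.Perm Cfsg.GolayPt)) hh
      simp only [MulAut.conj_apply] at this
      rw [hcapp] at this
      have h2 : h.1 * x * h.1⁻¹ = g0 * x * g0⁻¹ := this
      calc (h.1⁻¹ * g0) * x = h.1⁻¹ * (g0 * x * g0⁻¹) * g0 := by group
        _ = h.1⁻¹ * (h.1 * x * h.1⁻¹) * g0 := by rw [h2]
        _ = x * (h.1⁻¹ * g0) := by group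
    have hua : (h.1⁻¹ * g0) a ∉ Cfsg.Spor.squareDodecad := by
      rw [Equiv.Perm.mul_apply]
      have h1 : g0 a ∈ Cfsg.Spor.squareDodecadᶜ := by
        rw [← hg0d]
        exact Finset.smul_mem_smul_finset ha
      have h2 := compl_invariant (d := Cfsg.Spor.squareDodecad)
        (Subgroup.inv_mem _ h.2) h1
      exact Finset.mem_compl.mp h2
    apply stabD_stab_ne hd ha hua
    ext x
    rw [MulAction.mem_stabilizer_iff, MulAction.mem_stabilizer_iff]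
    have hx := hcomm x.1 x.2
    have key : x.1 ((h.1⁻¹ * g0) a) = (h.1⁻¹ * g0) (x.1 a) := by
      rw [← Equiv.Perm.mul_apply, ← Equiv.Perm.mul_apply, hx]
    constructor
    · intro h1
      have h1' : x.1 a = a := h1
      show x.1 ((h.1⁻¹ * g0) a) = (h.1⁻¹ * g0) a
      rw [key, h1']
    · intro h1
      have h1' : x.1 ((h.1⁻¹ * g0) a) = (h.1⁻¹ * g0) a := h1
      rw [key] at h1'
      exact (h.1⁻¹ * g0).injective h1'
  rw [Subgroup.index_eq_two_iff]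
  refine ⟨c⁻¹, fun b => ?_⟩
  have hdich : (∃ h ∈ Cfsg.Spor.M12, ∀ g : ↥Cfsg.Spor.M12,
      ((b g : ↥Cfsg.Spor.M12) : Equiv.Perm Cfsg.GolayPt) = h * g.1 * h⁻¹) ∨
      (∃ k ∈ Cfsg.M24, k • Cfsg.Spor.squareDodecad = Cfsg.Spor.squareDodecadᶜ ∧
        ∀ g : ↥Cfsg.Spor.M12,
          ((b g : ↥Cfsg.Spor.M12) : Equiv.Perm Cfsg.GolayPt) = k * g.1 * k⁻¹) :=
    aut_M12_dichotomy b
  rcases hdich with ⟨h, hh, hb⟩ | ⟨k, hk, hkd, hb⟩
  · have hbmem : b ∈ Cfsg.Inn ↥Cfsg.Spor.M12 := by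
      refine ⟨⟨h, hh⟩, ?_⟩
      apply MulEquiv.ext
      intro g
      apply Subtype.ext
      rw [MulAut.conj_apply, hb g]
      rfl
    right
    refine ⟨hbmem, fun hbc => hcnot ?_⟩
    have h3 := Subgroup.mul_mem _ (Subgroup.inv_mem _ hbc) hbmem
    rw [mul_inv_rev, inv_inv, mul_assoc, inv_mul_cancel, mul_one] at h3
    exact h3
  · have hkg : k * g0⁻¹ ∈ Cfsg.Spor.M12 := by
      rw [hM]
      refine ⟨Subgroup.mul_mem _ hk (Subgroup.inv_mem _ hg0), ?_⟩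
      rw [mul_smul, hg0i, smul_compl', hkd, compl_compl]
    have hbc : b * c⁻¹ ∈ Cfsg.Inn ↥Cfsg.Spor.M12 := by
      refine ⟨⟨k * g0⁻¹, hkg⟩, ?_⟩
      rw [eq_mul_inv_iff_mul_eq]
      apply MulEquiv.ext
      intro g
      apply Subtype.ext
      rw [MulAut.mul_apply, MulAut.conj_apply, hb g]
      show (k * g0⁻¹) * (g0 * g.1 * g0⁻¹) * (k * g0⁻¹)⁻¹ = _
      group
    left
    refine ⟨hbc, fun hbmem => hcnot ?_⟩
    have h3 := Subgroup.mul_mem _ (Subgroup.inv_mem _ hbc) hbmem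
    rw [mul_inv_rev, inv_inv, mul_assoc, inv_mul_cancel, mul_one] at h3
    exact h3

theorem result : Nat.card (Cfsg.Out ↥Cfsg.Spor.M12) = 2 := by
  exact s2061_aux

end Cfsg.Agent.S2061
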