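import Mathlib
import Cfsg.Statements.S2062
import Cfsg.Agent.Lib_helper2_Out12
import Cfsg.Agent.S5599

set_option autoImplicit false
open Cfsg

namespace Cfsg.Agent.S2062

open Cfsg.Agent.helper2

open Cfsg.Agent.helper2.Golay Cfsg.Agent.helper27

/-- Conjugation by a permutation normalising `M22`, as an automorphism of `M22`. -/
def s2062_conjAut (g0 : Equiv.Perm Cfsg.GolayPt)
    (h1 : ∀ x ∈ Cfsg.Spor.M22, g0 * x * g0⁻¹ ∈ Cfsg.Spor.M22)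
    (h2 : ∀ x ∈ Cfsg.Spor.M22, g0⁻¹ * x * g0⁻¹⁻¹ ∈ Cfsg.Spor.M22) : MulAut ↥Cfsg.Spor.M22 where
  toFun x := ⟨g0 * x.1 * g0⁻¹, h1 x.1 x.2⟩
  invFun x := ⟨g0⁻¹ * x.1 * g0⁻¹⁻¹, h2 x.1 x.2⟩
  left_inv x := Subtype.ext (by
    show g0⁻¹ * (g0 * x.1 * g0⁻¹) * g0⁻¹⁻¹ = x.1
    group)
  right_inv x := Subtype.ext (by
    show g0 * (g0⁻¹ * x.1 * g0⁻¹⁻¹) * g0⁻¹ = x.1
    group)
  map_mul' x y := Subtype.ext (by
    show g0 * (x.1 * y.1) * g0⁻¹ = (g0 * x.1 * g0⁻¹) * (g0 * y.1 * g0⁻¹)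
    group)

theorem s2062_aux : (Cfsg.Inn ↥Cfsg.Spor.M22).index = 2 := by
  obtain ⟨g0, hg0, h1, h2⟩ := exists_map_two (p := none) (q := some 0) (p' := some 0) (q' := none)
    (Ne.symm some0_ne_none) some0_ne_none
  obtain ⟨-, hnorm, hnot⟩ := Cfsg.Agent.S5599.result g0 hg0 h1 h2
  have h1' : g0⁻¹ none = some 0 := by
    rw [Equiv.Perm.inv_eq_iff_eq, h2]
  have h2' : g0⁻¹ (some 0) = none := by
    rw [Equiv.Perm.inv_eq_iff_eq, h1]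
  obtain ⟨-, hnorm', -⟩ := Cfsg.Agent.S5599.result g0⁻¹ (Subgroup.inv_mem _ hg0) h1' h2'
  set c := s2062_conjAut g0 hnorm hnorm' with hc
  have hcapp : ∀ x : ↥Cfsg.Spor.M22, ((c x : ↥Cfsg.Spor.M22) : Equiv.Perm Cfsg.GolayPt)
      = g0 * x.1 * g0⁻¹ := fun x => rfl
  have hnormal : (Cfsg.Inn ↥Cfsg.Spor.M22).Normal := Cfsg.innNormal _
  have hcnot : c ∉ Cfsg.Inn ↥Cfsg.Spor.M22 := by
    rintro ⟨h, hh⟩
    apply hnot
    refine ⟨h.1, h.2, fun x hx => ?_⟩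
    have := congrArg (fun ψ : MulAut ↥Cfsg.Spor.M22 =>
      ((ψ ⟨x, hx⟩ : ↥Cfsg.Spor.M22) : Equiv.Perm Cfsg.GolayPt)) hh
    simp only [MulAut.conj_apply] at this
    rw [hcapp] at this
    exact this.symm
  rw [Subgroup.index_eq_two_iff]
  refine ⟨c⁻¹, fun b => ?_⟩
  rcases aut_M22_dichotomy b with ⟨h, hh, hb⟩ | ⟨k, hk, hk1, hk2, hb⟩
  · have hbmem : b ∈ Cfsg.Inn ↥Cfsg.Spor.M22 := by
      refine ⟨⟨h, hh⟩, ?_⟩
      apply MulEquiv.ext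
      intro g
      apply Subtype.ext
      rw [MulAut.conj_apply, hb g]
      rfl
    right
    refine ⟨hbmem, fun hbc => hcnot ?_⟩
    have h3 := Subgroup.mul_mem _ (Subgroup.inv_mem _ hbc) hbmem
    rw [mul_inv_rev, inv_inv, mul_assoc, inv_mul_cancel, mul_one] at h3
    exact h3
  · have hkg : k * g0⁻¹ ∈ Cfsg.Spor.M22 := by
      rw [mem_M22]
      refine ⟨Subgroup.mul_mem _ hk (Subgroup.inv_mem _ hg0), ?_, ?_⟩
      · rw [Equiv.Perm.mul_apply, h1', hk2]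
      · rw [Equiv.Perm.mul_apply, h2', hk1]
    have hbc : b * c⁻¹ ∈ Cfsg.Inn ↥Cfsg.Spor.M22 := by
      refine ⟨⟨k * g0⁻¹, hkg⟩, ?_⟩
      rw [eq_mul_inv_iff_mul_eq]
      apply MulEquiv.ext
      intro g
      apply Subtype.ext
      rw [MulAut.mul_apply, MulAut.conj_apply, hb g]
      show (k * g0⁻¹) * (g0 * g.1 * g0⁻¹) * (k * g0⁻¹)⁻¹ = _
      group
    left
    refine ⟨hbc, fun hbmem => hcnot ?_⟩
    have h3 := Subgroup.mul_mem _ (Subgroup.inv_mem _ hbc) hbmem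
    rw [mul_inv_rev, inv_inv, mul_assoc, inv_mul_cancel, mul_one] at h3
    exact h3

theorem result : Nat.card (Cfsg.Out ↥Cfsg.Spor.M22) = 2 := by
  exact s2062_aux

end Cfsg.Agent.S2062
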