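import Mathlib
import Cfsg.Statements.S2064
import Cfsg.Agent.Lib_helper2_Out5

set_option autoImplicit false
open Cfsg

namespace Cfsg.Agent.S2064

open Cfsg.Agent.helper2

theorem s2064_aux : (Cfsg.Inn ↥Cfsg.M24).index = 1 := by
  rw [Subgroup.index_eq_one, eq_top_iff]
  intro φ _
  exact Cfsg.Agent.helper2.Golay.aut_inner φ

theorem result : Nat.card (Cfsg.Out ↥Cfsg.M24) = 1 := by
  exact s2064_aux

end Cfsg.Agent.S2064
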