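import Mathlib
import Cfsg.Statements.S2133
import Cfsg.Agent.Lib_helper2_Tv3
import Cfsg.Agent.Lib_helper2_Tv4

set_option autoImplicit false
open Cfsg

namespace Cfsg.Agent.S2133

open Cfsg.Agent.helper2

open Cfsg.Agent.helper2.Golay

theorem result (s : Matrix.SpecialLinearGroup (Fin 5) (ZMod 2)) (hs : (s : Matrix (Fin 5) (Fin 5) (ZMod 2)) = Matrix.transvection 0 1 1) : ∃ z : ↥Cfsg.M24, orderOf z = 2 ∧ Nonempty (↥(Subgroup.centralizer ({z} : Set ↥Cfsg.M24)) ≃* ↥(Subgroup.centralizer ({s} : Set (Matrix.SpecialLinearGroup (Fin 5) (ZMod 2))))) := by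
  classical
  have hzs : (tvPhi ⟨tvZ, tvZ_mem_centralizer⟩ : Matrix.SpecialLinearGroup (Fin 5) (ZMod 2)) = s := by
    apply Subtype.ext
    exact tvPhi_tvZ.trans hs.symm
  have hmem : ∀ g : ↥(Subgroup.centralizer ({tvZ} : Set ↥Cfsg.M24)),
      tvPhi g ∈ Subgroup.centralizer ({s} : Set (Matrix.SpecialLinearGroup (Fin 5) (ZMod 2))) := by
    intro g
    rw [Subgroup.mem_centralizer_iff]
    intro h hh
    rw [Set.mem_singleton_iff] at hh
    rw [hh, ← hzs, ← map_mul, ← map_mul]
    congr 1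
    apply Subtype.ext
    have hg := g.2
    rw [Subgroup.mem_centralizer_iff] at hg
    exact hg tvZ (Set.mem_singleton _)
  let f := tvPhi.codRestrict
    (Subgroup.centralizer ({s} : Set (Matrix.SpecialLinearGroup (Fin 5) (ZMod 2)))) hmem
  have hinj : Function.Injective f := by
    intro a b hab
    apply tvPhi_injective
    exact congrArg Subtype.val hab
  have hle : Nat.card ↥(Subgroup.centralizer
      ({s} : Set (Matrix.SpecialLinearGroup (Fin 5) (ZMod 2))))
      ≤ Nat.card ↥(Subgroup.centralizer ({tvZ} : Set ↥Cfsg.M24)) :=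
    le_trans (Cfsg.Agent.helper2.Tvc.card_centralizer_le hs) card_centralizer_ge
  have hbij : Function.Bijective f := hinj.bijective_of_nat_card_le hle
  exact ⟨tvZ, tvZ_order, ⟨MulEquiv.ofBijective f hbij⟩⟩

end Cfsg.Agent.S2133
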