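import Cfsg.Statements.S2157
import Cfsg.Agent.Lib_helper11_ChevChain

set_option autoImplicit false
open Cfsg

namespace Cfsg.Agent.S2157

open Cfsg.Lie Cfsg.Lie.ChevalleyDatum Cfsg.Agent.helper11

theorem main (D : ChevalleyDatum) (hok : chainOK D = true) {F : Type*} [Field F] (χ : ℕ → Fˣ)
    (hχ : D.IsRootCharacter χ) (r : ℕ) (hr : r < D.nroots) (t : F) :
    D.charDiag F χ * D.x F r t * D.charDiag F (fun s => (χ s)⁻¹) = D.x F r ((χ r : F) * t) := by
  unfold ChevalleyDatum.x ChevalleyDatum.charDiag
  rw [dif_pos hr, dif_pos hr]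
  ext row col
  rw [Matrix.mul_diagonal, Matrix.diagonal_mul]
  rcases col with i | s
  · rcases row with i' | u
    · simp [ChevalleyDatum.xMat]
    · simp only [ChevalleyDatum.xMat, Matrix.of_apply, Sum.elim_inl, Sum.elim_inr, mul_one]
      split_ifs with h
      · subst h; ring
      · simp
  · simp only [Sum.elim_inr]
    by_cases hsr : s = ⟨r, hr⟩
    · subst hsr
      rcases row with i | u
      · simp [ChevalleyDatum.xMat]
      · simp only [ChevalleyDatum.xMat, Matrix.of_apply, Sum.elim_inr, if_true]
        split_ifs with h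
        · subst h
          simp
        · simp
    · by_cases hneg : s.val = D.negIdx.getD r 0
      · have hχs : χ s.val = (χ r)⁻¹ := by
          rw [hneg]; exact hχ.1 r hr
        have hinv : (((χ s.val)⁻¹ : Fˣ) : F) = (χ r : F) := by
          rw [hχs, inv_inv]
        rcases row with i | u
        · simp only [ChevalleyDatum.xMat, Matrix.of_apply, Sum.elim_inl, if_neg hsr, if_pos hneg,
            one_mul, hinv]
          ring
        · simp only [ChevalleyDatum.xMat, Matrix.of_apply, Sum.elim_inr, if_neg hsr, if_pos hneg,
            hinv]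
          by_cases hus : u = s
          · subst hus
            rw [if_pos rfl, if_pos rfl, mul_one, ← hinv, ← Units.val_mul, mul_inv_cancel,
              Units.val_one]
          · rw [if_neg hus, if_neg hus]
            by_cases hur : u = ⟨r, hr⟩
            · subst hur
              rw [if_pos rfl, if_pos rfl]
              ring
            · rw [if_neg hur, if_neg hur]
              ring
      · rcases row with i | u
        · simp only [ChevalleyDatum.xMat, Matrix.of_apply, Sum.elim_inl, if_neg hsr, if_neg hneg]
          simp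
        · simp only [ChevalleyDatum.xMat, Matrix.of_apply, Sum.elim_inr, if_neg hsr, if_neg hneg]
          have hterm : ∀ km ∈ D.chainCoeff r s.val u.val,
              (χ u.val : F) * (((km.2 : ℤ) : F) * t ^ km.1) * (((χ s.val)⁻¹ : Fˣ) : F) =
                ((km.2 : ℤ) : F) * ((χ r : F) * t) ^ km.1 := by
            intro km hkm
            have h1 := reach_char D χ hχ r hr s.val km.1 u.val
              (chainOK_spec D hok r s.val u.val hr km hkm)
            have h2 : (χ u.val : F) * (((χ s.val)⁻¹ : Fˣ) : F) = (χ r : F) ^ km.1 := by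
              rw [h1, ← Units.val_mul, mul_assoc, mul_inv_cancel, mul_one, Units.val_pow_eq_pow_val]
            rw [mul_pow]
            calc (χ u.val : F) * (((km.2 : ℤ) : F) * t ^ km.1) * (((χ s.val)⁻¹ : Fˣ) : F)
                = ((χ u.val : F) * (((χ s.val)⁻¹ : Fˣ) : F)) * (((km.2 : ℤ) : F) * t ^ km.1) := by ring
              _ = ((km.2 : ℤ) : F) * ((χ r : F) ^ km.1 * t ^ km.1) := by rw [h2]; ring
          have hsum : (χ u.val : F) *
              ((D.chainCoeff r s.val u.val).map fun km => ((km.2 : ℤ) : F) * t ^ km.1).sum *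
                (((χ s.val)⁻¹ : Fˣ) : F) =
              ((D.chainCoeff r s.val u.val).map fun km => ((km.2 : ℤ) : F) * ((χ r : F) * t) ^ km.1).sum := by
            rw [← List.sum_map_mul_left, ← List.sum_map_mul_right]
            congr 1
            apply List.map_congr_left
            intro km hkm
            exact hterm km hkm
          rw [mul_add, add_mul, hsum]
          congr 1
          by_cases hus : u = s
          · subst hus
            rw [if_pos rfl, mul_one, ← Units.val_mul, mul_inv_cancel, Units.val_one]
          · rw [if_neg hus, mul_zero, zero_mul]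

theorem result {F : Type*} [Field F] (D : Cfsg.Lie.ChevalleyDatum) (hD : D ∈ [Cfsg.Lie.chevG2, Cfsg.Lie.chevB2, Cfsg.Lie.chevD4, Cfsg.Lie.chevF4, Cfsg.Lie.chevE6, Cfsg.Lie.chevE7, Cfsg.Lie.chevE8]) (χ : ℕ → Fˣ) (hχ : D.IsRootCharacter χ) (r : ℕ) (hr : r < D.nroots) (t : F) :
    D.charDiag F χ * D.x F r t * D.charDiag F (fun s => (χ s)⁻¹) = D.x F r ((χ r : F) * t) :=
  main D (chainOK_of_mem D hD) χ hχ r hr t

end Cfsg.Agent.S2157
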