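import Mathlib
import Cfsg.Statements.S2158
import Cfsg.Agent.S1049
import Cfsg.Agent.Lib_helper6_CharDiag2
import Cfsg.Agent.Lib_helper6_CorNZ
-- import your own Cfsg.Agent.* helpers here

set_option autoImplicit false
open Cfsg

namespace Cfsg.Agent.S2158

/-- In a Chevalley group of type G₂, B₂, D₄, F₄, E₆, E₇ or E₈ over any field, an element of the group whose matrix is the diagonal matrix `ĥ(χ)` of a character `χ` of the root lattice already lies in the diagonal subgroup H (the non-trivial inclusion of the statement that the group meets the group of all such diagonal matrices in H). -/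
theorem result {F : Type*} [Field F] (D : Cfsg.Lie.ChevalleyDatum) (hD : D ∈ [Cfsg.Lie.chevG2, Cfsg.Lie.chevB2, Cfsg.Lie.chevD4, Cfsg.Lie.chevF4, Cfsg.Lie.chevE6, Cfsg.Lie.chevE7, Cfsg.Lie.chevE8]) (χ : ℕ → Fˣ) (hχ : D.IsRootCharacter χ) (g : GL D.Idx F) (hg : g ∈ D.group F)
    (hgχ : (g : Matrix D.Idx D.Idx F) = D.charDiag F χ) : g ∈ D.diagonalSubgroup F := by
  classical
  have hC := Cfsg.Agent.helper6.CharDiag.chainStepOK_of_mem D hD
  have hN := Cfsg.Agent.helper6.CorNZ.not_inRootSub_empty D hD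
  have hconj : ∀ s < D.nroots, ∀ t : F,
      g * Cfsg.Agent.helper5.Chev.xG D hD s t * g⁻¹ =
        Cfsg.Agent.helper5.Chev.xG D hD s (((χ s : Fˣ) : F) * t) := by
    intro s hs t
    rw [mul_inv_eq_iff_eq_mul]
    apply Units.ext
    rw [Units.val_mul, Units.val_mul, Cfsg.Agent.helper5.Chev.xG_val,
      Cfsg.Agent.helper5.Chev.xG_val, hgχ, Cfsg.Agent.helper5.Chev.x_eq_xMat D s hs,
      Cfsg.Agent.helper5.Chev.x_eq_xMat D s hs]
    exact Cfsg.Agent.helper6.CharDiag.charDiag_mul_xMat D χ hχ ⟨s, hs⟩ (hC s hs) t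
  have hconj' : ∀ s < D.nroots, ∀ t : F,
      g⁻¹ * Cfsg.Agent.helper5.Chev.xG D hD s t * g =
        Cfsg.Agent.helper5.Chev.xG D hD s ((((χ s)⁻¹ : Fˣ) : F) * t) := by
    intro s hs t
    have h1 := hconj s hs ((((χ s)⁻¹ : Fˣ) : F) * t)
    rw [← mul_assoc, ← Units.val_mul, mul_inv_cancel, Units.val_one, one_mul] at h1
    rw [← h1]
    group
  have hnorm : g ∈ Subgroup.normalizer (D.unipotentRadical F ∅ : Set (GL D.Idx F)) := by
    rw [Cfsg.Agent.helper6.Levi.unipotentRadical_eq]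
    apply Cfsg.Agent.helper5.Chev.mem_normalizer_closure
    · rintro x ⟨s, u, hs, hn, hx⟩
      rw [Cfsg.Agent.helper5.Chev.eq_xG D hD x s u hx, hconj s hs.1 u]
      exact Cfsg.Agent.helper6.Levi.xG_mem_UJ D hD ∅ s hs hn _
    · rintro x ⟨s, u, hs, hn, hx⟩
      rw [Cfsg.Agent.helper5.Chev.eq_xG D hD x s u hx, hconj' s hs.1 u]
      exact Cfsg.Agent.helper6.Levi.xG_mem_UJ D hD ∅ s hs hn _
  have hP : g ∈ D.parabolicSubgroup F ∅ := by
    rw [← Cfsg.Agent.S1049.result D hD ∅ (fun j hj => absurd hj (Set.notMem_empty j))]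
    exact ⟨hnorm, hg⟩
  have hB : g ∈ D.borelSubgroup F := by
    unfold Cfsg.Lie.ChevalleyDatum.parabolicSubgroup at hP
    have he : {g : GL D.Idx F | ∃ j ∈ (∅ : Set ℕ), j < D.rank ∧
        (g : Matrix D.Idx D.Idx F) = D.nMat F (D.simple j) 1} = ∅ := by
      ext x
      simp
    rw [he, Subgroup.closure_empty, sup_bot_eq] at hP
    exact hP
  obtain ⟨u, hu, h, hh, hguh⟩ := Cfsg.Agent.helper5.Chev.mem_borel D hD g hB
  have hle : D.posUnipotent F ≤ D.unipotentRadical F ∅ := by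
    unfold Cfsg.Lie.ChevalleyDatum.posUnipotent Cfsg.Lie.ChevalleyDatum.unipotentRadical
    apply Subgroup.closure_mono
    rintro x ⟨r, t, hr, hx⟩
    exact ⟨r, t, hr, hN r, hx⟩
  obtain ⟨tab, hL⟩ := Cfsg.Agent.helper6.Level.lvlOK_of_mem D hD
  have hGU := Cfsg.Agent.helper6.Levi.GU_of_mem_radical D hL ∅ u (hle hu)
  have hu_eq : u = g * h⁻¹ := by
    rw [hguh]
    group
  have hG0 : Cfsg.Agent.helper6.Level.G0 D tab ∅ (u : Matrix D.Idx D.Idx F) := by
    obtain ⟨c, _, hc⟩ := Cfsg.Agent.S1034.mem_torus D hD h⁻¹ (Subgroup.inv_mem _ hh)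
    rw [hu_eq, Units.val_mul, hgχ, hc]
    apply Cfsg.Agent.helper6.Level.G0_mul
    · unfold Cfsg.Lie.ChevalleyDatum.charDiag
      exact Cfsg.Agent.helper6.Level.G0_diagonal D tab ∅ _
    · unfold Cfsg.Agent.helper5.Chev.torusMat
      exact Cfsg.Agent.helper6.Level.G0_diagonal D tab ∅ _
  have hu1 : u = 1 := by
    apply Units.ext
    rw [Units.val_one]
    exact Cfsg.Agent.helper6.Level.eq_one_of_G0_GU D tab ∅ _ hG0 hGU
  rw [hguh, hu1, one_mul]
  exact hh

end Cfsg.Agent.S2158
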