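import Mathlib
import Cfsg.Statements.S2160
import Cfsg.Agent.Lib_helper6_Graph
-- import your own Cfsg.Agent.* helpers here

set_option autoImplicit false
open Cfsg

namespace Cfsg.Agent.S2160

/-- In a Chevalley group of type G₂, B₂, D₄, F₄, E₆, E₇ or E₈ over a finite field, every field automorphism commutes with every graph automorphism. -/
theorem result {F : Type*} [Field F] [Finite F] (D : Cfsg.Lie.ChevalleyDatum) (hD : D ∈ [Cfsg.Lie.chevG2, Cfsg.Lie.chevB2, Cfsg.Lie.chevD4, Cfsg.Lie.chevF4, Cfsg.Lie.chevE6, Cfsg.Lie.chevE7, Cfsg.Lie.chevE8]) (f g : ↥(D.group F) ≃* ↥(D.group F))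
    (hf : D.IsFieldAut f) (hg : D.IsGraphAut g) (y : ↥(D.group F)) : f (g y) = g (f y) := by
  classical
  obtain ⟨σ, hσ⟩ := hf
  obtain ⟨π, _, hg⟩ := hg
  have hR := Cfsg.Agent.helper5.Chev.rootsOK_of_mem D hD
  -- the two composites agree on the fundamental root elements
  have key : ∀ (x : GL D.Idx F) (hx : x ∈ D.group F),
      x ∈ Cfsg.Agent.helper6.Graph.fundSet (F := F) D hD → f (g ⟨x, hx⟩) = g (f ⟨x, hx⟩) := by
    rintro x hx ⟨i, hi, t, rfl | rfl⟩
    · have h1 := (hg ⟨_, hx⟩ ⟨i, hi⟩ t).1 (Cfsg.Agent.helper5.Chev.xG_val D hD _ t)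
      have h2 := hσ ⟨_, hx⟩ (D.simple i) t (hR.simple_lt i hi)
        (Cfsg.Agent.helper5.Chev.xG_val D hD _ t)
      have h3 := hσ (g ⟨_, hx⟩) (D.simple (π ⟨i, hi⟩)) _ (hR.simple_lt _ (π ⟨i, hi⟩).2) h1
      have h4 := (hg (f ⟨_, hx⟩) ⟨i, hi⟩ (σ t)).1 h2
      apply Subtype.ext
      apply Units.ext
      rw [h3, h4, map_pow]
    · have h1 := (hg ⟨_, hx⟩ ⟨i, hi⟩ t).2 (Cfsg.Agent.helper5.Chev.xG_val D hD _ t)
      have h2 := hσ ⟨_, hx⟩ (D.neg (D.simple i)) t (hR.neg_lt _ (hR.simple_lt i hi))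
        (Cfsg.Agent.helper5.Chev.xG_val D hD _ t)
      have h3 := hσ (g ⟨_, hx⟩) (D.neg (D.simple (π ⟨i, hi⟩))) _
        (hR.neg_lt _ (hR.simple_lt _ (π ⟨i, hi⟩).2)) h1
      have h4 := (hg (f ⟨_, hx⟩) ⟨i, hi⟩ (σ t)).2 h2
      apply Subtype.ext
      apply Units.ext
      rw [h3, h4, map_pow]
  have hle : ∀ x : GL D.Idx F,
      x ∈ Subgroup.closure (Cfsg.Agent.helper6.Graph.fundSet (F := F) D hD) → x ∈ D.group F := by
    intro x hx
    rw [Cfsg.Agent.helper6.Graph.group_eq_fund D hD]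
    exact hx
  have main : ∀ (x : GL D.Idx F)
      (_ : x ∈ Subgroup.closure (Cfsg.Agent.helper6.Graph.fundSet (F := F) D hD))
      (hx' : x ∈ D.group F), f (g ⟨x, hx'⟩) = g (f ⟨x, hx'⟩) := by
    intro x hx
    induction hx using Subgroup.closure_induction with
    | mem x h =>
      intro hx'
      exact key x hx' h
    | one =>
      intro hx'
      have e : (⟨1, hx'⟩ : ↥(D.group F)) = 1 := rfl
      rw [e, map_one, map_one, map_one]
    | mul a b ha hb iha ihb =>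
      intro hx'
      have e : (⟨a * b, hx'⟩ : ↥(D.group F)) = ⟨a, hle a ha⟩ * ⟨b, hle b hb⟩ := rfl
      rw [e, map_mul, map_mul, map_mul, map_mul, iha (hle a ha), ihb (hle b hb)]
    | inv a ha iha =>
      intro hx'
      have e : (⟨a⁻¹, hx'⟩ : ↥(D.group F)) = (⟨a, hle a ha⟩ : ↥(D.group F))⁻¹ := rfl
      rw [e, map_inv, map_inv, map_inv, map_inv, iha (hle a ha)]
  have hy : (y : GL D.Idx F) ∈
      Subgroup.closure (Cfsg.Agent.helper6.Graph.fundSet (F := F) D hD) := by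
    rw [← Cfsg.Agent.helper6.Graph.group_eq_fund D hD]
    exact y.2
  exact main y.1 hy y.2

end Cfsg.Agent.S2160
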