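import Mathlib
import Cfsg.Statements.S2161
import Cfsg.Agent.Lib_helper5_ChevBN1
import Cfsg.Agent.Lib_helper6_PermRootChk
-- import your own Cfsg.Agent.* helpers here

set_option autoImplicit false
open Cfsg

namespace Cfsg.Agent.S2161

/-- For the Chevalley groups of types D₄ and E₆ (one root length) over any field: if `π` is a symmetry of the Dynkin diagram and `φ` is an automorphism sending `x_{p_i}(t)` to `x_{p_{π i}}(t)` and `x_{-p_i}(t)` to `x_{-p_{π i}}(t)` for every fundamental root `p_i`, then for every root `r` there is a sign `ε = ±1` with `φ(x_r(t)) = x_{π·r}(ε t)` for all `t`, where `π·r` is the root whose coefficients are those of `r` permuted by `π`. -/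
theorem result {F : Type*} [Field F] (D : Cfsg.Lie.ChevalleyDatum) (hD : D ∈ [Cfsg.Lie.chevD4, Cfsg.Lie.chevE6])
    (π : Equiv.Perm (Fin D.rank)) (hπ : D.IsDiagramSymmetry π) (φ : ↥(D.group F) ≃* ↥(D.group F))
    (hφ : ∀ (g : ↥(D.group F)) (i : Fin D.rank) (t : F),
      (((g : GL D.Idx F) : Matrix D.Idx D.Idx F) = D.x F (D.simple i) t →
        ((φ g : GL D.Idx F) : Matrix D.Idx D.Idx F) = D.x F (D.simple (π i)) t) ∧
      (((g : GL D.Idx F) : Matrix D.Idx D.Idx F) = D.x F (D.neg (D.simple i)) t →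
        ((φ g : GL D.Idx F) : Matrix D.Idx D.Idx F) = D.x F (D.neg (D.simple (π i))) t))
    (r : ℕ) (hr : r < D.nroots) :
    ∃ ε : F, (ε = 1 ∨ ε = -1) ∧ ∀ (g : ↥(D.group F)) (t : F),
      ((g : GL D.Idx F) : Matrix D.Idx D.Idx F) = D.x F r t →
        ((φ g : GL D.Idx F) : Matrix D.Idx D.Idx F) = D.x F (D.permRoot π r) (ε * t) := by
  classical
  have hD' : D ∈ [Cfsg.Lie.chevG2, Cfsg.Lie.chevB2, Cfsg.Lie.chevD4, Cfsg.Lie.chevF4,
      Cfsg.Lie.chevE6, Cfsg.Lie.chevE7, Cfsg.Lie.chevE8] := by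
    simp only [List.mem_cons, List.not_mem_nil, or_false] at hD ⊢
    rcases hD with rfl | rfl
    · exact Or.inr (Or.inr (Or.inl rfl))
    · exact Or.inr (Or.inr (Or.inr (Or.inr (Or.inl rfl))))
  have hR := Cfsg.Agent.helper5.Chev.rootsOK_of_mem D hD'
  have hT := Cfsg.Agent.helper6.PermRoot.tabOK_of_sym D hD π hπ
  have hmem : ∀ r < D.nroots, ∀ t : F, Cfsg.Agent.helper5.Chev.xG D hD' r t ∈ D.group F := by
    intro r hr t
    unfold Cfsg.Lie.ChevalleyDatum.group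
    apply Subgroup.subset_closure
    exact ⟨⟨r, hr⟩, t, by
      rw [Cfsg.Agent.helper5.Chev.xG_val, Cfsg.Agent.helper5.Chev.x_eq_xMat D r hr]⟩
  have main : ∀ r < D.nroots, ∃ ε : F, (ε = 1 ∨ ε = -1) ∧ ∀ (g : ↥(D.group F)) (t : F),
      (g : GL D.Idx F) = Cfsg.Agent.helper5.Chev.xG D hD' r t →
        (φ g : GL D.Idx F) = Cfsg.Agent.helper5.Chev.xG D hD' (D.permRoot π r) (ε * t) := by
    refine hR.induction (fun r => ∃ ε : F, (ε = 1 ∨ ε = -1) ∧ ∀ (g : ↥(D.group F)) (t : F),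
      (g : GL D.Idx F) = Cfsg.Agent.helper5.Chev.xG D hD' r t →
        (φ g : GL D.Idx F) = Cfsg.Agent.helper5.Chev.xG D hD' (D.permRoot π r) (ε * t)) ?_ ?_
    · intro i hi
      refine ⟨1, Or.inl rfl, ?_⟩
      intro g t hg
      have h1 := (hφ g ⟨i, hi⟩ t).1 (by rw [hg]; rfl)
      apply Units.ext
      rw [h1, one_mul, hT.simple ⟨i, hi⟩]
      rfl
    · rintro i hi s hs ⟨ε, hε, hP⟩
      have hsl := hR.simple_lt i hi
      have hsl' := hR.simple_lt _ (π ⟨i, hi⟩).2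
      obtain ⟨a, ha0⟩ : ∃ a : ↥(D.group F),
          (a : GL D.Idx F) = Cfsg.Agent.helper5.Chev.xG D hD' (D.simple i) 1 :=
        ⟨⟨_, hmem _ hsl 1⟩, rfl⟩
      obtain ⟨b, hb0⟩ : ∃ b : ↥(D.group F),
          (b : GL D.Idx F) = Cfsg.Agent.helper5.Chev.xG D hD' (D.neg (D.simple i)) (-(1 : F)⁻¹) :=
        ⟨⟨_, hmem _ (hR.neg_lt _ hsl) _⟩, rfl⟩
      have ha : (φ a : GL D.Idx F) =
          Cfsg.Agent.helper5.Chev.xG D hD' (D.simple (π ⟨i, hi⟩)) 1 :=
        Units.ext ((hφ a ⟨i, hi⟩ 1).1 (by rw [ha0]; rfl))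
      have hb : (φ b : GL D.Idx F) =
          Cfsg.Agent.helper5.Chev.xG D hD' (D.neg (D.simple (π ⟨i, hi⟩))) (-(1 : F)⁻¹) :=
        Units.ext ((hφ b ⟨i, hi⟩ _).2 (by rw [hb0]; rfl))
      have hn : ((a * b * a : ↥(D.group F)) : GL D.Idx F) =
          Cfsg.Agent.helper5.Chev.nGt D hD' (D.simple i) 1 := by
        rw [Subgroup.coe_mul, Subgroup.coe_mul, ha0, hb0]
        rfl
      have hn' : ((φ (a * b * a) : ↥(D.group F)) : GL D.Idx F) =
          Cfsg.Agent.helper5.Chev.nGt D hD' (D.simple (π ⟨i, hi⟩)) 1 := by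
        rw [map_mul, map_mul, Subgroup.coe_mul, Subgroup.coe_mul, ha, hb]
        rfl
      have hη := Cfsg.Agent.helper5.Chev.eta_cast_sq (F := F) D hD' i s hi hs
      have hη' := Cfsg.Agent.helper5.Chev.eta_cast_sq (F := F) D hD' (π ⟨i, hi⟩)
        (D.permRoot π s) (π ⟨i, hi⟩).2 (hT.lt s hs)
      refine ⟨((Cfsg.Agent.helper5.Chev.etaOf D (π ⟨i, hi⟩) (D.permRoot π s) : ℤ) : F) * ε *
        ((Cfsg.Agent.helper5.Chev.etaOf D i s : ℤ) : F), ?_, ?_⟩
      · rcases mul_self_eq_one_iff.mp hη with h1 | h1 <;>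
          rcases mul_self_eq_one_iff.mp hη' with h2 | h2 <;>
          rcases hε with h3 | h3 <;> rw [h1, h2, h3] <;> norm_num
      · intro g t hg
        obtain ⟨gs, hgs⟩ : ∃ gs : ↥(D.group F), (gs : GL D.Idx F) =
            Cfsg.Agent.helper5.Chev.xG D hD' s
              (((Cfsg.Agent.helper5.Chev.etaOf D i s : ℤ) : F) * t) :=
          ⟨⟨_, hmem s hs _⟩, rfl⟩
        have hgeq : g = (a * b * a) * gs * (a * b * a)⁻¹ := by
          apply Subtype.ext
          rw [hg, Subgroup.coe_mul, Subgroup.coe_mul, Subgroup.coe_inv, hn, hgs,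
            Cfsg.Agent.helper5.Chev.nG_conj D hD' i hi s hs, ← mul_assoc, hη, one_mul]
        rw [hgeq, map_mul, map_mul, map_inv, Subgroup.coe_mul, Subgroup.coe_mul,
          Subgroup.coe_inv, hn', hP gs _ hgs,
          Cfsg.Agent.helper5.Chev.nG_conj D hD' (π ⟨i, hi⟩) (π ⟨i, hi⟩).2 _ (hT.lt s hs),
          hT.refl ⟨i, hi⟩ s hs]
        congr 1
        ring
  obtain ⟨ε, hε, h⟩ := main r hr
  refine ⟨ε, hε, ?_⟩
  intro g t hg
  have h1 := h g t (Units.ext hg)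
  rw [h1]
  rfl

end Cfsg.Agent.S2161
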