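import Cfsg.Statements.S2163

set_option autoImplicit false
open Cfsg

namespace Cfsg.Agent.S2163

open Matrix

/-- the nilpotent block -/
def blk (F : Type*) [Field F] (n ℓ : ℕ) : Matrix (Fin n) (Fin n) F :=
  Matrix.of (fun i j : Fin n => if j.val < ℓ ∧ i.val = j.val + (n - ℓ) then (1 : F) else 0)

theorem blk_apply (F : Type*) [Field F] (n ℓ : ℕ) (i j : Fin n) :
    blk F n ℓ i j = if j.val < ℓ ∧ i.val = j.val + (n - ℓ) then (1 : F) else 0 := rfl

theorem blk_mul_blk (F : Type*) [Field F] (n ℓ : ℕ) (h2 : 2 * ℓ ≤ n) : blk F n ℓ * blk F n ℓ = 0 := by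
  ext i k
  rw [Matrix.mul_apply, Matrix.zero_apply]
  apply Finset.sum_eq_zero
  intro j _
  rw [blk_apply, blk_apply]
  by_cases h1 : j.val < ℓ ∧ i.val = j.val + (n - ℓ)
  · have h3 : ¬ (k.val < ℓ ∧ j.val = k.val + (n - ℓ)) := by omega
    rw [if_neg h3, mul_zero]
  · rw [if_neg h1, zero_mul]

theorem det_one_add_blk (F : Type*) [Field F] (n ℓ : ℕ) (h1 : 1 ≤ ℓ) (h2 : 2 * ℓ ≤ n) :
    (1 + blk F n ℓ).det = 1 := by
  have htri : (1 + blk F n ℓ).BlockTriangular OrderDual.toDual := by
    intro i j hij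
    have hij' : i < j := hij
    have hne : i ≠ j := ne_of_lt hij'
    rw [Matrix.add_apply, Matrix.one_apply_ne hne, zero_add, blk_apply, if_neg]
    rintro ⟨ha, hb⟩
    have : i.val < j.val := hij'
    omega
  rw [det_of_lowerTriangular _ htri]
  apply Finset.prod_eq_one
  intro i _
  rw [Matrix.add_apply, Matrix.one_apply_eq, blk_apply, if_neg (by omega), add_zero]

theorem rank_blk (F : Type*) [Field F] (n ℓ : ℕ) (h1 : 1 ≤ ℓ) (h2 : 2 * ℓ ≤ n) :
    (blk F n ℓ).rank = ℓ := by
  apply le_antisymm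
  · have := rank_le_card_of_support_subset (blk F n ℓ)
      (Finset.univ.filter (fun i : Fin n => n - ℓ ≤ i.val)) (by
        intro i hi
        rw [Function.mem_support] at hi
        simp only [Finset.coe_filter, Finset.mem_univ, true_and]
        by_contra hlt
        apply hi
        ext j
        rw [Matrix.row_apply, blk_apply, if_neg]
        · rfl
        · intro h
          apply hlt
          show n - ℓ ≤ i.val
          omega)
    refine this.trans ?_
    have hinj : Function.Injective (fun k : Fin ℓ => (⟨k.val + (n - ℓ), by omega⟩ : Fin n)) := by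
      intro a b hab
      have := congrArg Fin.val hab
      simp only at this
      exact Fin.ext (by omega)
    have hcard : (Finset.univ.filter (fun i : Fin n => n - ℓ ≤ i.val)).card = ℓ := by
      have : (Finset.univ.filter (fun i : Fin n => n - ℓ ≤ i.val)) =
          (Finset.univ : Finset (Fin ℓ)).map ⟨_, hinj⟩ := by
        ext i
        simp only [Finset.mem_filter, Finset.mem_univ, true_and, Finset.mem_map,
          Function.Embedding.coeFn_mk]
        constructor
        · intro hi
          exact ⟨⟨i.val - (n - ℓ), by omega⟩, Fin.ext (by simp only; omega)⟩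
        · rintro ⟨k, rfl⟩
          show n - ℓ ≤ k.val + (n - ℓ)
          omega
      rw [this, Finset.card_map, Finset.card_univ, Fintype.card_fin]
    exact hcard.le
  · have hsub : (blk F n ℓ).submatrix (fun k : Fin ℓ => (⟨k.val + (n - ℓ), by omega⟩ : Fin n))
        (fun k : Fin ℓ => (⟨k.val, by omega⟩ : Fin n)) = (1 : Matrix (Fin ℓ) (Fin ℓ) F) := by
      ext a b
      rw [Matrix.submatrix_apply, blk_apply, Matrix.one_apply]
      by_cases hab : a = b
      · subst hab
        rw [if_pos rfl, if_pos ⟨a.2, rfl⟩]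
      · rw [if_neg hab, if_neg]
        rintro ⟨_, h⟩
        exact hab (Fin.ext (by simp only at h; omega))
    have := rank_submatrix_le (blk F n ℓ) (fun k : Fin ℓ => (⟨k.val + (n - ℓ), by omega⟩ : Fin n))
        (fun k : Fin ℓ => (⟨k.val, by omega⟩ : Fin n))
    rw [hsub, rank_one, Fintype.card_fin] at this
    exact this

theorem result {F : Type*} [Field F] [Fintype F] [CharP F 2] {n : ℕ} (hn : 3 ≤ n) (ℓ : ℕ) (h1 : 1 ≤ ℓ) (h2 : 2 * ℓ ≤ n) :
    ∃ a : Matrix.SpecialLinearGroup (Fin n) F, (a : Matrix (Fin n) (Fin n) F) = 1 + Matrix.of (fun i j : Fin n => if j.val < ℓ ∧ i.val = j.val + (n - ℓ) then (1 : F) else 0) ∧ orderOf a = 2 ∧ ((a : Matrix (Fin n) (Fin n) F) - 1).rank = ℓ := by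
  set a : Matrix.SpecialLinearGroup (Fin n) F := ⟨1 + blk F n ℓ, det_one_add_blk F n ℓ h1 h2⟩ with ha
  have hcoe : (a : Matrix (Fin n) (Fin n) F) = 1 + blk F n ℓ := rfl
  refine ⟨a, rfl, ?_, ?_⟩
  · have : Fact (Nat.Prime 2) := ⟨Nat.prime_two⟩
    apply orderOf_eq_prime
    · have h2F : (2 : Matrix (Fin n) (Fin n) F) = 0 := by
        have : Nonempty (Fin n) := ⟨⟨0, by omega⟩⟩
        have : CharP (Matrix (Fin n) (Fin n) F) 2 := inferInstance
        exact CharTwo.two_eq_zero
      have hm : ((a ^ 2 : Matrix.SpecialLinearGroup (Fin n) F) : Matrix (Fin n) (Fin n) F) = 1 := by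
        rw [Matrix.SpecialLinearGroup.coe_pow, hcoe]
        calc (1 + blk F n ℓ) ^ 2 = 1 + 2 * blk F n ℓ + blk F n ℓ * blk F n ℓ := by
              rw [pow_two]; noncomm_ring
          _ = 1 := by rw [blk_mul_blk F n ℓ h2, h2F]; simp
      exact Subtype.ext (hm.trans Matrix.SpecialLinearGroup.coe_one.symm)
    · intro h
      have h'' : (a : Matrix (Fin n) (Fin n) F) = 1 := (congrArg (fun b : Matrix.SpecialLinearGroup (Fin n) F => (b : Matrix (Fin n) (Fin n) F)) h).trans Matrix.SpecialLinearGroup.coe_one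
      rw [hcoe] at h''
      have h' := congrFun (congrFun h'' ⟨n - ℓ, by omega⟩) ⟨0, by omega⟩
      have hne : (⟨n - ℓ, by omega⟩ : Fin n) ≠ ⟨0, by omega⟩ := by
        intro h; have := congrArg Fin.val h; simp only at this; omega
      rw [Matrix.add_apply, Matrix.one_apply_ne hne, blk_apply, if_pos ⟨by show 0 < ℓ; omega, by simp⟩] at h'
      simp at h'
  · rw [hcoe, add_sub_cancel_left]
    exact rank_blk F n ℓ h1 h2

end Cfsg.Agent.S2163
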