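import Cfsg.Statements.S2164
import Mathlib
import Cfsg.Agent.Lib_helper29_UInv2
-- import your own Cfsg.Agent.* helpers here

set_option autoImplicit false
open Cfsg

namespace Cfsg.Agent.S2164

/-- Conjugacy of involutions in the special unitary group SU_n(q), q even, n ≥ 3, realised over the field F with q² elements as the matrices of determinant 1 preserving the form Σ u_i v_i^q: for two elements of order 2 of SU_n(q) the following are equivalent — they are conjugate in SU_n(q); they are conjugate in SL_n(F); the matrices a − 1 and b − 1 have the same rank. -/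
theorem result {F : Type*} [Field F] [Fintype F] [CharP F 2] {n q : ℕ} (hF : Fintype.card F = q ^ 2) (hn : 3 ≤ n) (a b : ↥(Cfsg.SU n F q)) (ha : orderOf a = 2) (hb : orderOf b = 2) :
    (IsConj a b ↔ IsConj (a : Matrix.SpecialLinearGroup (Fin n) F) (b : Matrix.SpecialLinearGroup (Fin n) F)) ∧
    (IsConj a b ↔ (((a : Matrix.SpecialLinearGroup (Fin n) F) : Matrix (Fin n) (Fin n) F) - 1).rank = (((b : Matrix.SpecialLinearGroup (Fin n) F) : Matrix (Fin n) (Fin n) F) - 1).rank) := by
  have hchar2 : CharP F 2 := inferInstance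
  classical
  have h2q := Cfsg.Agent.helper11.HermCount.two_le_q hF
  have h1 : IsConj a b → IsConj (a : Matrix.SpecialLinearGroup (Fin n) F)
      (b : Matrix.SpecialLinearGroup (Fin n) F) := fun h => (Cfsg.SU n F q).subtype.map_isConj h
  have h2 : IsConj (a : Matrix.SpecialLinearGroup (Fin n) F)
      (b : Matrix.SpecialLinearGroup (Fin n) F) →
      (((a : Matrix.SpecialLinearGroup (Fin n) F) : Matrix (Fin n) (Fin n) F) - 1).rank =
      (((b : Matrix.SpecialLinearGroup (Fin n) F) : Matrix (Fin n) (Fin n) F) - 1).rank := by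
    intro h
    obtain ⟨c, hc⟩ := isConj_iff.mp h
    have hcc : (c : Matrix (Fin n) (Fin n) F) * ((c⁻¹ : Matrix.SpecialLinearGroup (Fin n) F) :
        Matrix (Fin n) (Fin n) F) = 1 := by
      rw [← Matrix.SpecialLinearGroup.coe_mul, mul_inv_cancel, Matrix.SpecialLinearGroup.coe_one]
    have hb' : ((b : Matrix.SpecialLinearGroup (Fin n) F) : Matrix (Fin n) (Fin n) F) - 1 =
        (c : Matrix (Fin n) (Fin n) F) *
          (((a : Matrix.SpecialLinearGroup (Fin n) F) : Matrix (Fin n) (Fin n) F) - 1) *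
          ((c⁻¹ : Matrix.SpecialLinearGroup (Fin n) F) : Matrix (Fin n) (Fin n) F) := by
      rw [← hc, Matrix.SpecialLinearGroup.coe_mul, Matrix.SpecialLinearGroup.coe_mul,
        Matrix.mul_sub, Matrix.sub_mul, Matrix.mul_one, hcc]
    rw [hb', Matrix.rank_mul_eq_left_of_isUnit_det _ _ (by
        rw [(c⁻¹ : Matrix.SpecialLinearGroup (Fin n) F).2]; exact isUnit_one),
      Matrix.rank_mul_eq_right_of_isUnit_det _ _ (by rw [c.2]; exact isUnit_one)]
  have key : (((a : Matrix.SpecialLinearGroup (Fin n) F) : Matrix (Fin n) (Fin n) F) - 1).rank =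
      (((b : Matrix.SpecialLinearGroup (Fin n) F) : Matrix (Fin n) (Fin n) F) - 1).rank →
      IsConj a b := by
    intro hrank
    have ha2 : a * a = 1 := by
      have := pow_orderOf_eq_one a
      rwa [ha, pow_two] at this
    have hb2 : b * b = 1 := by
      have := pow_orderOf_eq_one b
      rwa [hb, pow_two] at this
    have hb1 : b ≠ 1 := by
      intro h
      rw [h, orderOf_one] at hb
      omega
    obtain ⟨A, hAdef⟩ : ∃ A, A = Cfsg.Agent.helper29.suToGL n F q a := ⟨_, rfl⟩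
    obtain ⟨B, hBdef⟩ : ∃ B, B = Cfsg.Agent.helper29.suToGL n F q b := ⟨_, rfl⟩
    have hA : A ∈ Cfsg.GU n F q := by rw [hAdef]; exact (Cfsg.Agent.helper29.suToGL_mem a).1
    have hB : B ∈ Cfsg.GU n F q := by rw [hBdef]; exact (Cfsg.Agent.helper29.suToGL_mem b).1
    have hA2 : A * A = 1 := by rw [hAdef, ← map_mul, ha2, map_one]
    have hB2 : B * B = 1 := by rw [hBdef, ← map_mul, hb2, map_one]
    have hB1 : B ≠ 1 := by
      intro h
      apply hb1
      apply Cfsg.Agent.helper29.suToGL_inj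
      rw [← hBdef, h, map_one]
    have hrank' : (Cfsg.Agent.helper29.UInv.NN A).rank = (Cfsg.Agent.helper29.UInv.NN B).rank := by
      unfold Cfsg.Agent.helper29.UInv.NN
      rw [hAdef, hBdef, Cfsg.Agent.helper29.suToGL_val, Cfsg.Agent.helper29.suToGL_val]
      exact hrank
    obtain ⟨g, hg, hgAB⟩ := Cfsg.Agent.helper29.UInv.conj_GU hF A B hA hB hA2 hB2 hrank'
    obtain ⟨δ, hδdef⟩ : ∃ δ : F, δ = (g : Matrix (Fin n) (Fin n) F).det := ⟨_, rfl⟩
    have hδ : δ * δ ^ q = 1 := by
      rw [hδdef]; exact Cfsg.Agent.helper11.Unitary.det_mul_det_pow hF g hg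
    have hδ0 : δ ≠ 0 := by
      rintro h
      rw [h, zero_mul] at hδ
      exact zero_ne_one hδ
    obtain ⟨m, hm⟩ : ∃ m, q = 2 * m := by
      obtain ⟨p, j, hp, hchar, hq⟩ := Cfsg.Agent.helper11.HermCount.exists_char_pow hF
      have hp2 : p = 2 := CharP.eq F hchar hchar2
      subst hp2
      have hj : j ≠ 0 := by
        rintro rfl
        rw [pow_zero] at hq
        omega
      obtain ⟨j', rfl⟩ : ∃ j', j = j' + 1 := ⟨j - 1, by omega⟩
      exact ⟨2 ^ j', by rw [hq, pow_succ]; ring⟩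
    obtain ⟨l, hldef⟩ : ∃ l : F, l = (δ⁻¹) ^ (m + 1) := ⟨_, rfl⟩
    have hδ1 : (δ⁻¹) ^ (q + 1) = 1 := by
      rw [inv_pow, pow_succ', hδ, inv_one]
    have hl : l * l ^ q = 1 := by
      rw [hldef, ← pow_succ', ← pow_mul, mul_comm, pow_mul, hδ1, one_pow]
    have hll : l * l = δ⁻¹ := by
      rw [hldef, ← pow_add]
      have : m + 1 + (m + 1) = (q + 1) + 1 := by omega
      rw [this, pow_succ, hδ1, one_mul]
    obtain ⟨c, hc, hcB, hcdet⟩ :=
      Cfsg.Agent.helper29.UInv.exists_centralizing hF B hB hB2 hB1 l hl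
    have hg' : c * g ∈ Cfsg.Agent.helper29.SUG n F q := by
      refine Subgroup.mem_inf.mpr ⟨mul_mem hc hg, ?_⟩
      rw [Cfsg.Agent.helper29.mem_SL]
      have : ((c * g : GL (Fin n) F) : Matrix (Fin n) (Fin n) F) =
          (c : Matrix (Fin n) (Fin n) F) * (g : Matrix (Fin n) (Fin n) F) := rfl
      rw [this, Matrix.det_mul, hcdet, ← hδdef, hll, inv_mul_cancel₀ hδ0]
    obtain ⟨s, hs⟩ := Cfsg.Agent.helper29.suToGL_surj (c * g) hg'
    rw [isConj_iff]
    refine ⟨s, ?_⟩
    apply Cfsg.Agent.helper29.suToGL_inj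
    rw [map_mul, map_mul, map_inv, hs, ← hAdef, ← hBdef]
    calc c * g * A * (c * g)⁻¹ = c * (g * A * g⁻¹) * c⁻¹ := by group
      _ = B := by rw [hgAB, hcB]
  exact ⟨⟨h1, fun h => key (h2 h)⟩, ⟨fun h => h2 (h1 h), key⟩⟩

end Cfsg.Agent.S2164
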