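import Cfsg.Statements.S2165

set_option autoImplicit false
open Cfsg

namespace Cfsg.Agent.S2165

open Matrix

/-- the involution of the indices -/
def sw (n ℓ : ℕ) (h2 : 2 * ℓ ≤ n) (i : Fin n) : Fin n :=
  if h : i.val < ℓ then ⟨i.val + (n - ℓ), by omega⟩
  else if h' : n - ℓ ≤ i.val then ⟨i.val - (n - ℓ), by omega⟩
  else i

theorem sw_val (n ℓ : ℕ) (h2 : 2 * ℓ ≤ n) (i : Fin n) :
    (sw n ℓ h2 i).val = if i.val < ℓ then i.val + (n - ℓ)
      else if n - ℓ ≤ i.val then i.val - (n - ℓ) else i.val := by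
  unfold sw
  split_ifs <;> rfl

theorem sw_sw (n ℓ : ℕ) (h2 : 2 * ℓ ≤ n) (i : Fin n) : sw n ℓ h2 (sw n ℓ h2 i) = i := by
  apply Fin.ext
  rw [sw_val, sw_val]
  have := i.2
  split_ifs <;> omega

/-- the matrix of the statement -/
def gm (F : Type*) [Field F] (n ℓ : ℕ) : Matrix (Fin n) (Fin n) F :=
  Matrix.of (fun i j : Fin n => if (j.val < ℓ ∧ i.val = j.val + (n - ℓ)) ∨ (i.val < ℓ ∧ j.val = i.val + (n - ℓ)) ∨ (i = j ∧ ℓ ≤ i.val ∧ i.val < n - ℓ) then (1 : F) else 0)

theorem gm_apply (F : Type*) [Field F] (n ℓ : ℕ) (h2 : 2 * ℓ ≤ n) (i j : Fin n) :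
    gm F n ℓ i j = if sw n ℓ h2 i = j then 1 else 0 := by
  show (if (j.val < ℓ ∧ i.val = j.val + (n - ℓ)) ∨ (i.val < ℓ ∧ j.val = i.val + (n - ℓ)) ∨ (i = j ∧ ℓ ≤ i.val ∧ i.val < n - ℓ) then (1 : F) else 0) = _
  have hiff : ((j.val < ℓ ∧ i.val = j.val + (n - ℓ)) ∨ (i.val < ℓ ∧ j.val = i.val + (n - ℓ)) ∨ (i = j ∧ ℓ ≤ i.val ∧ i.val < n - ℓ)) ↔ sw n ℓ h2 i = j := by
    rw [Fin.ext_iff, Fin.ext_iff, sw_val]
    have := i.2
    have := j.2
    split_ifs <;> omega
  by_cases h : sw n ℓ h2 i = j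
  · rw [if_pos h, if_pos (hiff.mpr h)]
  · rw [if_neg h, if_neg (fun h' => h (hiff.mp h'))]

theorem gm_apply' (F : Type*) [Field F] (n ℓ : ℕ) (h2 : 2 * ℓ ≤ n) (i j : Fin n) :
    gm F n ℓ i j = if i = sw n ℓ h2 j then 1 else 0 := by
  rw [gm_apply F n ℓ h2]
  by_cases h : sw n ℓ h2 i = j
  · rw [if_pos h, if_pos]
    rw [← h, sw_sw]
  · rw [if_neg h, if_neg]
    intro h'
    apply h
    rw [h', sw_sw]

theorem gm_mulVec (F : Type*) [Field F] (n ℓ : ℕ) (h2 : 2 * ℓ ≤ n) (u : Fin n → F) (i : Fin n) :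
    (gm F n ℓ *ᵥ u) i = u (sw n ℓ h2 i) := by
  rw [Matrix.mulVec, dotProduct]
  simp_rw [gm_apply F n ℓ h2]
  simp

theorem gm_mul_gm (F : Type*) [Field F] (n ℓ : ℕ) (h2 : 2 * ℓ ≤ n) : gm F n ℓ * gm F n ℓ = 1 := by
  ext i k
  rw [Matrix.mul_apply]
  simp_rw [gm_apply F n ℓ h2]
  simp only [ite_mul, one_mul, zero_mul, Finset.sum_ite_eq, Finset.mem_univ, if_true]
  rw [Matrix.one_apply]
  by_cases h : i = k
  · subst h
    rw [if_pos rfl, if_pos (sw_sw n ℓ h2 i)]
  · rw [if_neg h, if_neg]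
    intro h'
    apply h
    rw [← h', sw_sw] 

theorem det_gm (F : Type*) [Field F] [CharP F 2] (n ℓ : ℕ) (h2 : 2 * ℓ ≤ n) : (gm F n ℓ).det = 1 := by
  let σ : Equiv.Perm (Fin n) := ⟨sw n ℓ h2, sw n ℓ h2, sw_sw n ℓ h2, sw_sw n ℓ h2⟩
  have hg : gm F n ℓ = σ.permMatrix F := by
    ext i j
    rw [gm_apply F n ℓ h2, Equiv.Perm.permMatrix, PEquiv.toMatrix_apply, Equiv.toPEquiv_apply]
    simp only [Option.mem_def, Option.some.injEq]
    rfl
  rw [hg, Matrix.det_permutation]
  rcases Int.units_eq_one_or (Equiv.Perm.sign σ) with h | h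
  · rw [h]; simp
  · rw [h]; simp [CharTwo.neg_eq]

theorem rank_gm_sub_one (F : Type*) [Field F] (n ℓ : ℕ) (h2 : 2 * ℓ ≤ n) :
    (gm F n ℓ - 1).rank = ℓ := by
  apply le_antisymm
  · -- factor through the first ℓ rows
    let X : Matrix (Fin n) (Fin ℓ) F := Matrix.of (fun i k =>
      (if i.val = k.val then (1 : F) else 0) - (if (sw n ℓ h2 i).val = k.val ∧ n - ℓ ≤ i.val then (1 : F) else 0))
    let Y : Matrix (Fin ℓ) (Fin n) F := Matrix.of (fun k j =>
      (gm F n ℓ - 1) ⟨k.val, by omega⟩ j)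
    have hXY : gm F n ℓ - 1 = X * Y := by
      ext i j
      rw [Matrix.mul_apply]
      simp only [X, Y, Matrix.of_apply, sub_mul, Finset.sum_sub_distrib, ite_mul, one_mul, zero_mul]
      by_cases hi1 : i.val < ℓ
      · -- first block
        rw [Finset.sum_eq_single (⟨i.val, hi1⟩ : Fin ℓ)]
        · rw [if_pos rfl]
          rw [Finset.sum_eq_zero]
          · simp
          · intro k _
            rw [if_neg]
            rintro ⟨_, h⟩
            omega
        · intro k _ hk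
          rw [if_neg]
          intro h
          exact hk (Fin.ext h.symm)
        · intro h
          exact absurd (Finset.mem_univ _) h
      · by_cases hi2 : n - ℓ ≤ i.val
        · -- last block
          have hsw : (sw n ℓ h2 i).val = i.val - (n - ℓ) := by
            rw [sw_val, if_neg hi1, if_pos hi2]
          rw [Finset.sum_eq_zero (fun k _ => by
            rw [if_neg]; intro h; have := k.2; omega)]
          rw [Finset.sum_eq_single (⟨i.val - (n - ℓ), by omega⟩ : Fin ℓ)]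
          · rw [if_pos ⟨hsw, hi2⟩, zero_sub]
            have hfin : (⟨i.val - (n - ℓ), by omega⟩ : Fin n) = sw n ℓ h2 i := Fin.ext hsw.symm
            simp only [hfin]
            rw [Matrix.sub_apply, Matrix.sub_apply, gm_apply F n ℓ h2, gm_apply F n ℓ h2, sw_sw,
              Matrix.one_apply, Matrix.one_apply]
            ring
          · intro k _ hk
            rw [if_neg]
            rintro ⟨h, _⟩
            exact hk (Fin.ext (by rw [← h, hsw]))
          · intro h
            exact absurd (Finset.mem_univ _) h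
        · -- middle
          have hsw : sw n ℓ h2 i = i := by
            apply Fin.ext
            rw [sw_val, if_neg hi1, if_neg hi2]
          rw [Finset.sum_eq_zero (fun k _ => by
            rw [if_neg]; intro h; have := k.2; omega)]
          rw [Finset.sum_eq_zero (fun k _ => by
            rw [if_neg]; rintro ⟨_, h⟩; exact hi2 h)]
          rw [Matrix.sub_apply, gm_apply F n ℓ h2, hsw, Matrix.one_apply]
          simp
    rw [hXY]
    exact (rank_mul_le_left X Y).trans (rank_le_width X)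
  · rcases Nat.eq_zero_or_pos ℓ with h0 | hpos
    · omega
    have hsub : (gm F n ℓ - 1).submatrix (fun k : Fin ℓ => (⟨k.val, by omega⟩ : Fin n))
        (fun k : Fin ℓ => (⟨k.val + (n - ℓ), by omega⟩ : Fin n)) = (1 : Matrix (Fin ℓ) (Fin ℓ) F) := by
      ext a b
      rw [Matrix.submatrix_apply, Matrix.sub_apply, gm_apply F n ℓ h2, Matrix.one_apply, Matrix.one_apply]
      have ha := a.2
      have hb := b.2
      have hne : ¬ ((⟨a.val, by omega⟩ : Fin n) = ⟨b.val + (n - ℓ), by omega⟩) := by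
        intro h
        have := congrArg Fin.val h
        simp only at this
        omega
      rw [if_neg hne, sub_zero]
      by_cases hab : a = b
      · subst hab
        rw [if_pos rfl, if_pos]
        apply Fin.ext
        rw [sw_val]
        simp only
        rw [if_pos ha]
      · rw [if_neg hab, if_neg]
        intro h
        apply hab
        have := congrArg Fin.val h
        rw [sw_val] at this
        simp only at this
        rw [if_pos ha] at this
        exact Fin.ext (by omega)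
    have := rank_submatrix_le (gm F n ℓ - 1) (fun k : Fin ℓ => (⟨k.val, by omega⟩ : Fin n))
        (fun k : Fin ℓ => (⟨k.val + (n - ℓ), by omega⟩ : Fin n))
    rw [hsub, rank_one, Fintype.card_fin] at this
    exact this

theorem result {F : Type*} [Field F] [Fintype F] [CharP F 2] {n q : ℕ} (hF : Fintype.card F = q ^ 2) (hn : 3 ≤ n) (ℓ : ℕ) (h1 : 1 ≤ ℓ) (h2 : 2 * ℓ ≤ n) :
    ∃ a : ↥(Cfsg.SU n F q), (((a : Matrix.SpecialLinearGroup (Fin n) F) : Matrix (Fin n) (Fin n) F) = Matrix.of (fun i j : Fin n => if (j.val < ℓ ∧ i.val = j.val + (n - ℓ)) ∨ (i.val < ℓ ∧ j.val = i.val + (n - ℓ)) ∨ (i = j ∧ ℓ ≤ i.val ∧ i.val < n - ℓ) then (1 : F) else 0)) ∧ orderOf a = 2 ∧ ((((a : Matrix.SpecialLinearGroup (Fin n) F) : Matrix (Fin n) (Fin n) F)) - 1).rank = ℓ := by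
  let a0 : Matrix.SpecialLinearGroup (Fin n) F := ⟨gm F n ℓ, det_gm F n ℓ h2⟩
  have hcoe : (a0 : Matrix (Fin n) (Fin n) F) = gm F n ℓ := rfl
  have hmem : a0 ∈ Cfsg.SU n F q := by
    intro u v
    have hmat : (slToMat n F) a0 = gm F n ℓ := rfl
    rw [hmat]
    unfold hermForm
    simp_rw [gm_mulVec F n ℓ h2]
    let σ : Equiv.Perm (Fin n) := ⟨sw n ℓ h2, sw n ℓ h2, sw_sw n ℓ h2, sw_sw n ℓ h2⟩
    exact Equiv.sum_comp σ (fun i => u i * v i ^ q)
  refine ⟨⟨a0, hmem⟩, rfl, ?_, ?_⟩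
  · have : Fact (Nat.Prime 2) := ⟨Nat.prime_two⟩
    apply orderOf_eq_prime
    · apply Subtype.ext
      apply Subtype.ext
      show ((a0 ^ 2 : Matrix.SpecialLinearGroup (Fin n) F) : Matrix (Fin n) (Fin n) F) = ((1 : Matrix.SpecialLinearGroup (Fin n) F) : Matrix (Fin n) (Fin n) F)
      rw [Matrix.SpecialLinearGroup.coe_pow, Matrix.SpecialLinearGroup.coe_one, hcoe, pow_two,
        gm_mul_gm F n ℓ h2]
    · intro h
      have h3 : a0 = 1 := congrArg Subtype.val h
      have h'' : (a0 : Matrix (Fin n) (Fin n) F) = 1 :=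
        (congrArg (fun b : Matrix.SpecialLinearGroup (Fin n) F => (b : Matrix (Fin n) (Fin n) F)) h3).trans Matrix.SpecialLinearGroup.coe_one
      rw [hcoe] at h''
      have h' := congrFun (congrFun h'' ⟨0, by omega⟩) ⟨0, by omega⟩
      rw [gm_apply F n ℓ h2, Matrix.one_apply_eq, if_neg] at h'
      · exact zero_ne_one h'
      · intro h
        have := congrArg Fin.val h
        rw [sw_val] at this
        simp only at this
        rw [if_pos (by omega)] at this
        omega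
  · show (gm F n ℓ - 1).rank = ℓ
    exact rank_gm_sub_one F n ℓ h2

end Cfsg.Agent.S2165
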