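import Cfsg.Statements.S2167

set_option autoImplicit false
open Cfsg

namespace Cfsg.Agent.S2167

open Matrix

universe u

/-- A nondegenerate alternating form lives on an even dimensional space. -/
theorem even_of_alt_nondeg {K : Type*} [Field K] (n : ℕ) :
    ∀ (V : Type u) [AddCommGroup V] [Module K V] [FiniteDimensional K V]
      (B : V →ₗ[K] V →ₗ[K] K), (∀ v, B v v = 0) → (∀ u, (∀ v, B u v = 0) → u = 0) →
      Module.finrank K V = n → Even n := by
  induction n using Nat.strong_induction_on with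
  | _ n ih =>
    intro V _ _ _ B halt hnd hn
    rcases Nat.eq_zero_or_pos n with h0 | hpos
    · rw [h0]; exact Even.zero
    have hskew : ∀ x y, B x y = - B y x := by
      intro x y
      have h := halt (x + y)
      simp only [map_add, LinearMap.add_apply, halt, zero_add, add_zero] at h
      have h' : B x y + B y x = 0 := by linear_combination h
      exact eq_neg_of_add_eq_zero_left h'
    obtain ⟨u, hu⟩ : ∃ u : V, u ≠ 0 := by
      have : 0 < Module.finrank K V := by omega
      exact Module.finrank_pos_iff_exists_ne_zero.mp this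
    obtain ⟨v, hv⟩ : ∃ v, B u v ≠ 0 := by
      by_contra hcon
      push Not at hcon
      exact hu (hnd u hcon)
    have hvu : B v u = - B u v := hskew v u
    let π : V →ₗ[K] K × K := (B u).prod (B v)
    have hπ : ∀ x, π x = (B u x, B v x) := fun x => rfl
    have hπsurj : Function.Surjective π := by
      rintro ⟨a, b⟩
      refine ⟨(B u v)⁻¹ • (a • v - b • u), ?_⟩
      rw [hπ, Prod.mk.injEq]
      constructor
      · simp only [map_smul, map_sub, halt, smul_eq_mul, mul_zero, sub_zero]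
        field_simp
      · simp only [map_smul, map_sub, halt, smul_eq_mul, mul_zero, zero_sub, hvu]
        field_simp
    let P := LinearMap.ker π
    have hfin2 : 2 + Module.finrank K P = n := by
      have h1 := LinearMap.finrank_range_add_finrank_ker π
      rw [LinearMap.range_eq_top.mpr hπsurj, finrank_top, Module.finrank_prod,
        Module.finrank_self, hn] at h1
      exact h1
    have hfin : Module.finrank K P = n - 2 := by omega
    let B' : P →ₗ[K] P →ₗ[K] K := B.domRestrict₁₂ P P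
    have halt' : ∀ x : P, B' x x = 0 := fun x => halt _
    have hnd' : ∀ x : P, (∀ y : P, B' x y = 0) → x = 0 := by
      intro x hx
      have hx0 : π (x : V) = 0 := LinearMap.mem_ker.mp x.2
      rw [hπ, Prod.mk_eq_zero] at hx0
      have hxu : B u x = 0 := hx0.1
      have hxv : B v x = 0 := hx0.2
      have hxu' : B x u = 0 := by rw [hskew, hxu, neg_zero]
      have hxv' : B x v = 0 := by rw [hskew, hxv, neg_zero]
      apply Subtype.ext
      apply hnd
      intro z
      have hy : (B u v) • z + (B v z) • u - (B u z) • v ∈ P := by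
        rw [LinearMap.mem_ker, hπ, Prod.mk_eq_zero]
        constructor
        · simp only [map_add, map_sub, map_smul, halt, smul_eq_mul, mul_zero, add_zero]
          ring
        · simp only [map_add, map_sub, map_smul, halt, smul_eq_mul, mul_zero, sub_zero, hvu]
          ring
      have h1 := hx ⟨_, hy⟩
      change B x ((B u v) • z + (B v z) • u - (B u z) • v) = 0 at h1
      simp only [map_add, map_sub, map_smul, smul_eq_mul, hxu', hxv', mul_zero, add_zero,
        sub_zero] at h1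
      rcases mul_eq_zero.mp h1 with h | h
      · exact absurd h hv
      · exact h
    have hev : Even (n - 2) := ih (n - 2) (by omega) P B' halt' hnd' hfin
    obtain ⟨k, hk⟩ := hev
    exact ⟨k + 1, by omega⟩

/-- A matrix with `v ⬝ M v = 0` for all `v` has even rank. -/
theorem even_rank_of_alt {K : Type*} [Field K] {ι : Type} [Fintype ι] [DecidableEq ι]
    (M : Matrix ι ι K) (halt : ∀ v : ι → K, v ⬝ᵥ (M *ᵥ v) = 0) : Even M.rank := by
  have hskew : ∀ x y : ι → K, x ⬝ᵥ (M *ᵥ y) = -(y ⬝ᵥ (M *ᵥ x)) := by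
    intro x y
    have h := halt (x + y)
    rw [Matrix.mulVec_add, add_dotProduct, dotProduct_add, dotProduct_add, halt, halt] at h
    linear_combination h
  let R := LinearMap.ker M.mulVecLin
  obtain ⟨W, hW⟩ := Submodule.exists_isCompl R
  let B : (ι → K) →ₗ[K] (ι → K) →ₗ[K] K := Matrix.toLinearMap₂' K M
  have hB : ∀ x y, B x y = x ⬝ᵥ (M *ᵥ y) := fun x y => Matrix.toLinearMap₂'_apply' M x y
  let B' : W →ₗ[K] W →ₗ[K] K := B.domRestrict₁₂ W W
  have hB' : ∀ x y : W, B' x y = (x : ι → K) ⬝ᵥ (M *ᵥ (y : ι → K)) := fun x y => hB _ _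
  have hfin : Module.finrank K W = M.rank := by
    have h1 := LinearMap.finrank_range_add_finrank_ker M.mulVecLin
    have h2 : Module.finrank K (LinearMap.ker M.mulVecLin) + Module.finrank K W =
        Module.finrank K (ι → K) := Submodule.finrank_add_eq_of_isCompl hW
    rw [Matrix.rank]
    omega
  refine even_of_alt_nondeg M.rank W B' ?_ ?_ hfin
  · intro x; rw [hB']; exact halt _
  · intro x hx
    have hMx : M *ᵥ (x : ι → K) = 0 := by
      apply dotProduct_eq_zero
      intro z
      rw [dotProduct_comm, hskew, neg_eq_zero]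
      have hz : z ∈ R ⊔ W := by rw [hW.sup_eq_top]; exact Submodule.mem_top
      obtain ⟨r, hr, w, hw, rfl⟩ := Submodule.mem_sup.mp hz
      have hr0 : M *ᵥ r = 0 := LinearMap.mem_ker.mp hr
      rw [Matrix.mulVec_add, dotProduct_add, hr0, dotProduct_zero, zero_add]
      have := hx ⟨w, hw⟩
      rwa [hB'] at this
    have hxR : (x : ι → K) ∈ R := LinearMap.mem_ker.mpr hMx
    have hmem : (x : ι → K) ∈ R ⊓ W := ⟨hxR, x.2⟩
    rw [hW.inf_eq_bot] at hmem
    exact Subtype.ext ((Submodule.mem_bot K).mp hmem)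

/-- the form -/
theorem symp_self (m : ℕ) (F : Type*) [CommRing F] (v : Fin m ⊕ Fin m → F) :
    Cfsg.sympForm m F v v = 0 := by
  unfold Cfsg.sympForm
  simp only [Matrix.J, Matrix.fromBlocks_mulVec, dotProduct, Fintype.sum_sum_type]
  simp only [Matrix.zero_mulVec, Matrix.neg_mulVec, Matrix.one_mulVec, zero_add, add_zero,
    Sum.elim_inl, Sum.elim_inr, Pi.neg_apply, Function.comp_apply, mul_neg, Finset.sum_neg_distrib]
  rw [neg_add_eq_zero]
  exact Finset.sum_congr rfl fun i _ => mul_comm _ _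

theorem result {F : Type*} [Field F] [Fintype F] [CharP F 2] {m : ℕ} (hm : 2 ≤ m) (a : ↥(Matrix.symplecticGroup (Fin m) F)) (ha : orderOf a = 2) :
    (Nat.card {v : Fin m ⊕ Fin m → F // Cfsg.sympForm m F v (Matrix.mulVec ((a : ↥(Matrix.symplecticGroup (Fin m) F)) : Matrix (Fin m ⊕ Fin m) (Fin m ⊕ Fin m) F) v) = 0} = Fintype.card F ^ (2 * m) ∨ Nat.card {v : Fin m ⊕ Fin m → F // Cfsg.sympForm m F v (Matrix.mulVec ((a : ↥(Matrix.symplecticGroup (Fin m) F)) : Matrix (Fin m ⊕ Fin m) (Fin m ⊕ Fin m) F) v) = 0} * Fintype.card F = Fintype.card F ^ (2 * m)) ∧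
    ((∀ v : Fin m ⊕ Fin m → F, Cfsg.sympForm m F v (Matrix.mulVec ((a : ↥(Matrix.symplecticGroup (Fin m) F)) : Matrix (Fin m ⊕ Fin m) (Fin m ⊕ Fin m) F) v) = 0) → Even (((a : ↥(Matrix.symplecticGroup (Fin m) F)) : Matrix (Fin m ⊕ Fin m) (Fin m ⊕ Fin m) F) - 1).rank) := by
  set A : Matrix (Fin m ⊕ Fin m) (Fin m ⊕ Fin m) F := (a : Matrix (Fin m ⊕ Fin m) (Fin m ⊕ Fin m) F) with hA
  set J : Matrix (Fin m ⊕ Fin m) (Fin m ⊕ Fin m) F := Matrix.J (Fin m) F with hJ
  have hf : ∀ u v : Fin m ⊕ Fin m → F, Cfsg.sympForm m F u v = u ⬝ᵥ (J *ᵥ v) := fun u v => rfl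
  -- A preserves the form
  have hAJ : Aᵀ * J * A = J := SymplecticGroup.mem_iff'.mp a.2
  have hAA : A * A = 1 := by
    have h1 : a ^ 2 = 1 := by rw [← ha]; exact pow_orderOf_eq_one a
    have h2 := congrArg (fun b : ↥(Matrix.symplecticGroup (Fin m) F) => (b : Matrix (Fin m ⊕ Fin m) (Fin m ⊕ Fin m) F)) h1
    simp only [SubmonoidClass.coe_pow, OneMemClass.coe_one] at h2
    rw [← pow_two]; exact h2
  have hAAv : ∀ v, A *ᵥ (A *ᵥ v) = v := by
    intro v; rw [Matrix.mulVec_mulVec, hAA, Matrix.one_mulVec]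
  have hpres : ∀ u v, Cfsg.sympForm m F (A *ᵥ u) (A *ᵥ v) = Cfsg.sympForm m F u v := by
    intro u v
    rw [hf, hf]
    have h1 : (A *ᵥ u) ⬝ᵥ (J *ᵥ (A *ᵥ v)) = u ⬝ᵥ (Aᵀ *ᵥ (J *ᵥ (A *ᵥ v))) := by
      rw [dotProduct_comm, Matrix.dotProduct_mulVec, ← Matrix.mulVec_transpose, dotProduct_comm]
    rw [h1, Matrix.mulVec_mulVec, Matrix.mulVec_mulVec, hAJ]
  have hsym : ∀ u v, Cfsg.sympForm m F u v = Cfsg.sympForm m F v u := by
    intro u v
    rw [hf, hf]
    have h1 : u ⬝ᵥ (J *ᵥ v) = v ⬝ᵥ (Jᵀ *ᵥ u) := by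
      rw [Matrix.mulVec_transpose, Matrix.dotProduct_mulVec, dotProduct_comm]
    rw [h1, hJ, Matrix.J_transpose, Matrix.neg_mulVec, dotProduct_neg, CharTwo.neg_eq]
  have hadd_left : ∀ u u' v, Cfsg.sympForm m F (u + u') v = Cfsg.sympForm m F u v + Cfsg.sympForm m F u' v := by
    intro u u' v; rw [hf, hf, hf, add_dotProduct]
  have hadd_right : ∀ u v v', Cfsg.sympForm m F u (v + v') = Cfsg.sympForm m F u v + Cfsg.sympForm m F u v' := by
    intro u v v'; rw [hf, hf, hf, Matrix.mulVec_add, dotProduct_add]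
  set φ : (Fin m ⊕ Fin m → F) → F := fun v => Cfsg.sympForm m F v (A *ᵥ v) with hφ
  have hφadd : ∀ u v, φ (u + v) = φ u + φ v := by
    intro u v
    simp only [hφ]
    rw [Matrix.mulVec_add, hadd_left, hadd_right, hadd_right]
    have h1 : Cfsg.sympForm m F v (A *ᵥ u) = Cfsg.sympForm m F u (A *ᵥ v) := by
      rw [← hpres v (A *ᵥ u), hAAv, hsym]
    rw [h1]
    have h2 : Cfsg.sympForm m F u (A *ᵥ v) + Cfsg.sympForm m F u (A *ᵥ v) = 0 :=
      CharTwo.add_self_eq_zero _
    linear_combination h2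
  have hφsmul : ∀ (c : F) v, φ (c • v) = c ^ 2 * φ v := by
    intro c v
    simp only [hφ]
    rw [hf, hf, Matrix.mulVec_smul, Matrix.mulVec_smul, smul_dotProduct, dotProduct_smul,
      smul_eq_mul, smul_eq_mul]
    ring
  constructor
  · -- the counting statement
    have : ExpChar F 2 := ExpChar.prime Nat.prime_two
    let ψ : (Fin m ⊕ Fin m → F) →ₗ[F] F :=
      { toFun := fun v => (frobeniusEquiv F 2).symm (φ v)
        map_add' := fun u v => by rw [hφadd, map_add]
        map_smul' := fun c v => by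
          rw [hφsmul, map_mul, frobeniusEquiv_symm_pow, RingHom.id_apply, smul_eq_mul] }
    have hψ : ∀ v, ψ v = 0 ↔ φ v = 0 := by
      intro v
      show (frobeniusEquiv F 2).symm (φ v) = 0 ↔ φ v = 0
      exact (frobeniusEquiv F 2).symm.map_eq_zero_iff
    have hcardV : Nat.card (Fin m ⊕ Fin m → F) = Fintype.card F ^ (2 * m) := by
      rw [Nat.card_fun, Nat.card_sum, Nat.card_eq_fintype_card, Nat.card_eq_fintype_card,
        Fintype.card_fin, two_mul]
    by_cases hall : ∀ v, φ v = 0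
    · left
      rw [← hcardV]
      exact Nat.card_congr (Equiv.subtypeUnivEquiv hall)
    · right
      push Not at hall
      obtain ⟨v₀, hv₀⟩ := hall
      have hψv₀ : ψ v₀ ≠ 0 := fun h => hv₀ ((hψ v₀).mp h)
      have hsurj : Function.Surjective ψ := by
        intro c
        refine ⟨(c / ψ v₀) • v₀, ?_⟩
        rw [map_smul, smul_eq_mul, div_mul_cancel₀ _ hψv₀]
      have e1 : {v : Fin m ⊕ Fin m → F // Cfsg.sympForm m F v (A *ᵥ v) = 0} ≃ LinearMap.ker ψ :=
        Equiv.subtypeEquivRight (fun v => by rw [LinearMap.mem_ker]; exact (hψ v).symm)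
      have h1 := Submodule.card_eq_card_quotient_mul_card (LinearMap.ker ψ)
      rw [Nat.card_congr (ψ.quotKerEquivOfSurjective hsurj).toEquiv, hcardV,
        Nat.card_eq_fintype_card (α := F)] at h1
      rw [Nat.card_congr e1]
      exact h1.symm
  · intro hall
    have hrank : (A - 1).rank = (J * (A - 1)).rank := by
      rw [Matrix.rank_mul_eq_right_of_isUnit_det J (A - 1) (Matrix.isUnit_det_J (Fin m) F)]
    rw [hrank]
    apply even_rank_of_alt
    intro v
    rw [← Matrix.mulVec_mulVec, Matrix.sub_mulVec, Matrix.one_mulVec, Matrix.mulVec_sub,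
      dotProduct_sub]
    have h1 : v ⬝ᵥ (J *ᵥ (A *ᵥ v)) = 0 := hall v
    have h2 : v ⬝ᵥ (J *ᵥ v) = 0 := symp_self m F v
    rw [h1, h2, sub_zero]

end Cfsg.Agent.S2167
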