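import Cfsg.Statements.S2168
import Mathlib
import Cfsg.Agent.Lib_helper29_OConj
import Cfsg.Agent.Lib_helper13_QStd
-- import your own Cfsg.Agent.* helpers here

set_option autoImplicit false
open Cfsg

namespace Cfsg.Agent.S2168

/-- Involutions in the full isometry group O of the hyperbolic quadratic form Σ x_i y_i in dimension 2m over a finite field F of characteristic two, m ≥ 4 (plus type): two elements of order 2 of O are conjugate in O exactly when they are conjugate under the group of all invertible matrices preserving the polar bilinear form (u, v) ↦ Q(u + v) − Q(u) − Q(v) (the symplectic group of that form). -/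
theorem result {F : Type*} [Field F] [Fintype F] [CharP F 2] {m : ℕ} (hm : 4 ≤ m) (t s : ↥(Cfsg.isometryGroup F (Cfsg.quadFormPlus m F))) (ht : orderOf t = 2) (hs : orderOf s = 2) :
    IsConj t s ↔ ∃ g ∈ Cfsg.preserving (Units.coeHom (Matrix (Fin m ⊕ Fin m) (Fin m ⊕ Fin m) F)) (fun u v => Cfsg.quadFormPlus m F (u + v) - Cfsg.quadFormPlus m F u - Cfsg.quadFormPlus m F v), g * ((t : ↥(Cfsg.isometryGroup F (Cfsg.quadFormPlus m F))) : GL (Fin m ⊕ Fin m) F) * g⁻¹ = ((s : ↥(Cfsg.isometryGroup F (Cfsg.quadFormPlus m F))) : GL (Fin m ⊕ Fin m) F) := by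
  have ht2 : t * t = 1 := by
    have := pow_orderOf_eq_one t
    rw [ht, pow_two] at this
    exact this
  constructor
  · intro h
    rw [isConj_iff] at h
    obtain ⟨c, hc⟩ := h
    refine ⟨(c : GL (Fin m ⊕ Fin m) F), ?_, ?_⟩
    · intro u v
      show Cfsg.quadFormPlus m F (_ + _) - Cfsg.quadFormPlus m F _ - Cfsg.quadFormPlus m F _ = _
      rw [← Matrix.mulVec_add]
      have h1 := c.2 (u + v) (u + v)
      have h2 := c.2 u u
      have h3 := c.2 v v
      simp only at h1 h2 h3
      rw [h1, h2, h3]
    · have := congrArg Subtype.val hc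
      exact this
  · rintro ⟨g, hg, hconj⟩
    exact Cfsg.Agent.helper29.OConj.conj_of_polar_conj (Cfsg.quadFormPlus m F)
      (Cfsg.Agent.helper13.QPlus F m) (Cfsg.Agent.helper13.QPlus_apply F m)
      (Cfsg.Agent.helper13.QPlus_nondeg (F := F) m) t s ht2 g hg hconj

end Cfsg.Agent.S2168
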