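import Cfsg.Statements.S2170
import Mathlib
import Cfsg.Agent.Lib_helper29_OConj
import Cfsg.Agent.Lib_helper13_QStd
-- import your own Cfsg.Agent.* helpers here

set_option autoImplicit false
open Cfsg

namespace Cfsg.Agent.S2170

/-- Involutions in the full isometry group O of the quadratic form Σ x_i y_i + (z₁² + c z₁ z₂ + d z₂²) in dimension 2m with anisotropic binary part over a finite field F of characteristic two, m ≥ 4 (minus type): two elements of order 2 of O are conjugate in O exactly when they are conjugate under the group of all invertible matrices preserving the polar bilinear form (u, v) ↦ Q(u + v) − Q(u) − Q(v) (the symplectic group of that form). -/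
theorem result {F : Type*} [Field F] [Fintype F] [CharP F 2] {m : ℕ} (hm : 4 ≤ m) (c d : F) (hcd : ∀ z₁ z₂ : F, z₁ ^ 2 + c * z₁ * z₂ + d * z₂ ^ 2 = 0 → z₁ = 0 ∧ z₂ = 0) (t s : ↥(Cfsg.isometryGroup F (Cfsg.quadFormMinus (m - 1) F c d))) (ht : orderOf t = 2) (hs : orderOf s = 2) :
    IsConj t s ↔ ∃ g ∈ Cfsg.preserving (Units.coeHom (Matrix ((Fin (m - 1) ⊕ Fin (m - 1)) ⊕ Fin 2) ((Fin (m - 1) ⊕ Fin (m - 1)) ⊕ Fin 2) F)) (fun u v => Cfsg.quadFormMinus (m - 1) F c d (u + v) - Cfsg.quadFormMinus (m - 1) F c d u - Cfsg.quadFormMinus (m - 1) F c d v), g * ((t : ↥(Cfsg.isometryGroup F (Cfsg.quadFormMinus (m - 1) F c d))) : GL ((Fin (m - 1) ⊕ Fin (m - 1)) ⊕ Fin 2) F) * g⁻¹ = ((s : ↥(Cfsg.isometryGroup F (Cfsg.quadFormMinus (m - 1) F c d))) : GL ((Fin (m - 1) ⊕ Fin (m - 1)) ⊕ Fin 2) F) := by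
  have ht2 : t * t = 1 := by
    have := pow_orderOf_eq_one t
    rw [ht, pow_two] at this
    exact this
  have h2 : (2 : F) = 0 := CharTwo.two_eq_zero
  have hc0 : c ≠ 0 := by
    rintro rfl
    obtain ⟨e, he⟩ := surjective_frobenius F 2 d
    rw [frobenius_def] at he
    have := hcd e 1 (by rw [he]; linear_combination d * h2)
    exact one_ne_zero this.2
  have hD : 4 * d - c ^ 2 ≠ 0 := by
    intro h
    apply hc0
    have : c ^ 2 = 0 := by linear_combination (2 * d) * h2 - h
    exact pow_eq_zero_iff (two_ne_zero) |>.mp this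
  constructor
  · intro h
    rw [isConj_iff] at h
    obtain ⟨x, hx⟩ := h
    refine ⟨(x : GL ((Fin (m - 1) ⊕ Fin (m - 1)) ⊕ Fin 2) F), ?_, ?_⟩
    · intro u v
      show Cfsg.quadFormMinus (m - 1) F c d (_ + _) - Cfsg.quadFormMinus (m - 1) F c d _ -
        Cfsg.quadFormMinus (m - 1) F c d _ = _
      rw [← Matrix.mulVec_add]
      have h1 := x.2 (u + v) (u + v)
      have h2 := x.2 u u
      have h3 := x.2 v v
      simp only at h1 h2 h3
      rw [h1, h2, h3]
    · have := congrArg Subtype.val hx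
      exact this
  · rintro ⟨g, hg, hconj⟩
    exact Cfsg.Agent.helper29.OConj.conj_of_polar_conj (Cfsg.quadFormMinus (m - 1) F c d)
      (Cfsg.Agent.helper13.QMinus F (m - 1) c d) (Cfsg.Agent.helper13.QMinus_apply F (m - 1) c d)
      (Cfsg.Agent.helper13.QMinus_nondeg (F := F) (m - 1) c d hD) t s ht2 g hg hconj

end Cfsg.Agent.S2170
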