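import Cfsg.Statements.S2172
import Cfsg.Agent.Lib_helper13_InvCls

set_option autoImplicit false
open Cfsg

namespace Cfsg.Agent.S2172

open Matrix QuadraticMap Module Cfsg.Agent.helper13

theorem movS_conj {F : Type*} [Field F] {ι : Type} [Fintype ι] [DecidableEq ι]
    (Q : QuadraticForm F (ι → F)) (g t s : ↥(Cfsg.isometryGroup F ⇑Q)) (h : g * t * g⁻¹ = s) :
    movS Q s = gmap g (movS Q t) := by
  ext x
  rw [mem_movS, mem_gmap]
  constructor
  · rintro ⟨v, rfl⟩
    refine ⟨iact t (iact g⁻¹ v) - iact g⁻¹ v, (mem_movS Q t _).mpr ⟨_, rfl⟩, ?_⟩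
    rw [iact_sub, iact_iact_inv, ← h, iact_mul, iact_mul]
  · rintro ⟨u, hu, rfl⟩
    obtain ⟨w, rfl⟩ := (mem_movS Q t u).mp hu
    refine ⟨iact g w, ?_⟩
    rw [← h, iact_mul, iact_mul, iact_inv_iact, iact_sub]

theorem toLin'_range_eq {F : Type*} [Field F] {ι : Type} [Fintype ι] [DecidableEq ι]
    (Q : QuadraticForm F (ι → F)) (t : ↥(Cfsg.isometryGroup F ⇑Q)) :
    LinearMap.range (Matrix.toLin' (((t : Matrix.GeneralLinearGroup ι F) : Matrix ι ι F) - 1)) =
      movS Q t := rfl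


/-- Splitting of involution classes from O to Ω for the hyperbolic quadratic form Q = Σ x_i y_i in dimension 2m over a finite field F of characteristic two, m ≥ 4. Let t, s be involutions of the commutator subgroup Ω that are conjugate in the full isometry group O. If it is not the case that t − 1 has rank m and Q(v + t v) = 0 for every vector v, then t and s are conjugate by an element of Ω. If t − 1 has rank m and Q(v + t v) = 0 for all v, then t and s are conjugate by an element of Ω exactly when the intersection of the images of t − 1 and s − 1 has even dimension (so the class of t in O meets at most two classes of Ω). -/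
theorem result {F : Type*} [Field F] [Fintype F] [CharP F 2] {m : ℕ} (hm : 4 ≤ m) (t s : ↥(Cfsg.isometryGroup F (Cfsg.quadFormPlus m F))) (ht : orderOf t = 2) (hs : orderOf s = 2) (htO : t ∈ Cfsg.Omega F (Cfsg.quadFormPlus m F)) (hsO : s ∈ Cfsg.Omega F (Cfsg.quadFormPlus m F)) (hconj : IsConj t s) :
    (¬ (((((t : ↥(Cfsg.isometryGroup F (Cfsg.quadFormPlus m F))) : GL (Fin m ⊕ Fin m) F) : Matrix (Fin m ⊕ Fin m) (Fin m ⊕ Fin m) F) - 1).rank = m ∧ ∀ v : Fin m ⊕ Fin m → F, Cfsg.quadFormPlus m F (v + Matrix.mulVec (((t : ↥(Cfsg.isometryGroup F (Cfsg.quadFormPlus m F))) : GL (Fin m ⊕ Fin m) F) : Matrix (Fin m ⊕ Fin m) (Fin m ⊕ Fin m) F) v) = 0) →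
      ∃ g ∈ Cfsg.Omega F (Cfsg.quadFormPlus m F), g * t * g⁻¹ = s) ∧
    ((((((t : ↥(Cfsg.isometryGroup F (Cfsg.quadFormPlus m F))) : GL (Fin m ⊕ Fin m) F) : Matrix (Fin m ⊕ Fin m) (Fin m ⊕ Fin m) F) - 1).rank = m ∧ ∀ v : Fin m ⊕ Fin m → F, Cfsg.quadFormPlus m F (v + Matrix.mulVec (((t : ↥(Cfsg.isometryGroup F (Cfsg.quadFormPlus m F))) : GL (Fin m ⊕ Fin m) F) : Matrix (Fin m ⊕ Fin m) (Fin m ⊕ Fin m) F) v) = 0) →
      ((∃ g ∈ Cfsg.Omega F (Cfsg.quadFormPlus m F), g * t * g⁻¹ = s) ↔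
        Even (Module.finrank F ↥(LinearMap.range (Matrix.toLin' ((((t : ↥(Cfsg.isometryGroup F (Cfsg.quadFormPlus m F))) : GL (Fin m ⊕ Fin m) F) : Matrix (Fin m ⊕ Fin m) (Fin m ⊕ Fin m) F) - 1)) ⊓ LinearMap.range (Matrix.toLin' ((((s : ↥(Cfsg.isometryGroup F (Cfsg.quadFormPlus m F))) : GL (Fin m ⊕ Fin m) F) : Matrix (Fin m ⊕ Fin m) (Fin m ⊕ Fin m) F) - 1)))))) := by
  classical
  have h2 : (2 : F) = 0 := by
    have := CharP.cast_eq_zero F 2
    exact_mod_cast this
  revert t s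
  rw [← QPlus_coe F m]
  intro t s ht hs htO hsO hconj
  have hnd := QPlus_nondeg (F := F) m
  have hV := finrank_plus_space F m
  have hcard : Fintype.card (Fin m ⊕ Fin m) = 2 * m := by
    rw [Fintype.card_sum, Fintype.card_fin]; ring
  have hne : Fintype.card F ≠ 2 ∨ Fintype.card (Fin m ⊕ Fin m) ≠ 4 := by
    right; omega
  have hn' : 1 ≤ Fintype.card (Fin m ⊕ Fin m) := by omega
  have htt : t * t = 1 := by
    have := pow_orderOf_eq_one t
    rw [ht, pow_two] at this
    exact this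
  have hrank : ∀ r : ↥(Cfsg.isometryGroup F ⇑(QPlus F m)),
      (((r : Matrix.GeneralLinearGroup (Fin m ⊕ Fin m) F) : Matrix (Fin m ⊕ Fin m) (Fin m ⊕ Fin m) F) - 1).rank =
        finrank F (movS (QPlus F m) r) := fun r => rfl
  have hplus : ∀ v : Fin m ⊕ Fin m → F, v + Matrix.mulVec (((t : ↥(Cfsg.isometryGroup F ⇑(QPlus F m))) : GL (Fin m ⊕ Fin m) F) : Matrix (Fin m ⊕ Fin m) (Fin m ⊕ Fin m) F) v = iact t v - v := by
    intro v
    rw [sub_eq_add_of_two h2, add_comm]
    rfl
  simp only [hplus, toLin'_range_eq, hrank]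
  constructor
  · intro hnot
    rcases fix_nonsing_or_mts (QPlus F m) h2 hnd hcard t htt with ⟨a, hta, ha⟩ | ⟨hmts, hmov⟩
    · exact conj_in_omega_of_fix _ h2 hnd hne hn' t s a ha hta hconj
    · exfalso
      apply hnot
      refine ⟨?_, ?_⟩
      · rw [hmov, hmts.rk]
      · intro v
        apply hmts.ts
        rw [← hmov]
        exact (mem_movS _ t _).mpr ⟨v, rfl⟩
  · rintro ⟨hrk, hQ0⟩
    have hU : MTS (QPlus F m) m (movS (QPlus F m) t) := by
      refine ⟨?_, hrk⟩
      intro x hx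
      obtain ⟨v, rfl⟩ := (mem_movS _ t x).mp hx
      exact hQ0 v
    have hmeven : Even m := by
      have := (mem_commutator_iff_even_rank (QPlus F m) h2 hnd hne hn' t).mp htO
      rw [hrank, hrk] at this
      exact this
    have key : ∀ g : ↥(Cfsg.isometryGroup F ⇑(QPlus F m)), g * t * g⁻¹ = s →
        (g ∈ commutator ↥(Cfsg.isometryGroup F ⇑(QPlus F m)) ↔
          Even (finrank F ↥(movS (QPlus F m) t ⊓ movS (QPlus F m) s))) := by
      intro g hg
      rw [movS_conj (QPlus F m) g t s hg]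
      have k1 := mem_commutator_iff_two (QPlus F m) h2 hnd hne hn'
        (clsChar (QPlus F m) hnd hV _ hU)
        (fun w hw => clsChar_reflG (QPlus F m) hnd hV _ hU w hw) g
      rw [clsChar_apply, neg_one_pow_eq_one_iff_even int_units_neg_one_ne_one] at k1
      rw [k1, Nat.even_sub (mts_inf_le hU)]
      constructor
      · intro h; exact h.mp hmeven
      · intro h; exact ⟨fun _ => h, fun _ => hmeven⟩
    constructor
    · rintro ⟨g, hgO, hg⟩
      exact (key g hg).mp hgO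
    · intro hev
      obtain ⟨c, hc⟩ := isConj_iff.mp hconj
      exact ⟨c, (key c hc).mpr hev, hc⟩

end Cfsg.Agent.S2172
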