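import Cfsg.Statements.S2173
import Cfsg.Agent.Lib_helper13_InvCls

set_option autoImplicit false
open Cfsg

namespace Cfsg.Agent.S2173

open Matrix QuadraticMap Module Cfsg.Agent.helper13


/-- For the quadratic form Σ x_i y_i + (z₁² + c z₁ z₂ + d z₂²) in dimension 2m with anisotropic binary part over a finite field F of characteristic two, m ≥ 4 (minus type): two involutions of the commutator subgroup Ω that are conjugate in the full isometry group O are conjugate by an element of Ω (no class of involutions of O inside Ω splits). -/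
theorem result {F : Type*} [Field F] [Fintype F] [CharP F 2] {m : ℕ} (hm : 4 ≤ m) (c d : F) (hcd : ∀ z₁ z₂ : F, z₁ ^ 2 + c * z₁ * z₂ + d * z₂ ^ 2 = 0 → z₁ = 0 ∧ z₂ = 0) (t s : ↥(Cfsg.isometryGroup F (Cfsg.quadFormMinus (m - 1) F c d))) (ht : orderOf t = 2) (hs : orderOf s = 2) (htO : t ∈ Cfsg.Omega F (Cfsg.quadFormMinus (m - 1) F c d)) (hsO : s ∈ Cfsg.Omega F (Cfsg.quadFormMinus (m - 1) F c d)) (hconj : IsConj t s) :
    ∃ g ∈ Cfsg.Omega F (Cfsg.quadFormMinus (m - 1) F c d), g * t * g⁻¹ = s := by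
  classical
  have h2 : (2 : F) = 0 := by
    have := CharP.cast_eq_zero F 2
    exact_mod_cast this
  revert t s
  rw [← QMinus_coe F (m - 1) c d]
  intro t s ht hs htO hsO hconj
  have hnd := QMinus_nondeg (F := F) (m - 1) c d (disc_ne_zero_of_aniso' c d hcd)
  have hcard : Fintype.card ((Fin (m - 1) ⊕ Fin (m - 1)) ⊕ Fin 2) = 2 * m := by
    rw [Fintype.card_sum, Fintype.card_sum, Fintype.card_fin, Fintype.card_fin]
    omega
  have hne : Fintype.card F ≠ 2 ∨ Fintype.card ((Fin (m - 1) ⊕ Fin (m - 1)) ⊕ Fin 2) ≠ 4 := by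
    right
    omega
  have hn' : 1 ≤ Fintype.card ((Fin (m - 1) ⊕ Fin (m - 1)) ⊕ Fin 2) := by
    omega
  have htt : t * t = 1 := by
    have := pow_orderOf_eq_one t
    rw [ht, pow_two] at this
    exact this
  rcases fix_nonsing_or_mts (QMinus F (m - 1) c d) h2 hnd hcard t htt with ⟨a, hta, ha⟩ | ⟨hmts, -⟩
  · exact conj_in_omega_of_fix _ h2 hnd hne hn' t s a ha hta hconj
  · exfalso
    have hmts' : MTS (QMinus F (m - 1) c d) ((m - 1) + 1) (fixS (QMinus F (m - 1) c d) t) := by
      have : (m - 1) + 1 = m := by omega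
      rw [this]
      exact hmts
    exact not_mts_minus (m - 1) c d hcd hnd _ hmts'

end Cfsg.Agent.S2173
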