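import Cfsg.Statements.S2177
import Mathlib
import Cfsg.Agent.Lib_helper6_G2InvD
-- import your own Cfsg.Agent.* helpers here

set_option autoImplicit false
open Cfsg

namespace Cfsg.Agent.S2177

/-- Conjugacy classes of involutions in the Chevalley group of type G₂ over a finite field F of characteristic two with at least four elements (the matrix group generated by the root elements x_r(t)). In this problem's root numbering for type G₂ (the Chevalley data module; p₁ = a short, p₂ = b long; roots indexed by coefficient vectors in increasing order) let 11 be the highest root 3a + 2b (long) and 9 the short root 2a + b; consider x_{3a+2b}(1) and x_{2a+b}(1). Then: each invertible matrix equal to one of these two products lies in the group and has order 2; every element of order 2 of the group is conjugate in the group to one of them; and no two of them are conjugate in the group (so, the two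 matrices being distinct, the group has exactly two conjugacy classes of involutions). -/
theorem result {F : Type*} [Field F] [Fintype F] [CharP F 2] (hF : 4 ≤ Fintype.card F) :
    (∀ y : GL Cfsg.Lie.chevG2.Idx F, ((y : GL Cfsg.Lie.chevG2.Idx F) : Matrix Cfsg.Lie.chevG2.Idx Cfsg.Lie.chevG2.Idx F) ∈ [Cfsg.Lie.chevG2.x F 11 1, Cfsg.Lie.chevG2.x F 9 1] → y ∈ Cfsg.Lie.chevG2.group F ∧ orderOf y = 2) ∧
    (∀ g ∈ Cfsg.Lie.chevG2.group F, orderOf g = 2 → ∃ y ∈ Cfsg.Lie.chevG2.group F, ((y : GL Cfsg.Lie.chevG2.Idx F) : Matrix Cfsg.Lie.chevG2.Idx Cfsg.Lie.chevG2.Idx F) ∈ [Cfsg.Lie.chevG2.x F 11 1, Cfsg.Lie.chevG2.x F 9 1] ∧ ∃ h ∈ Cfsg.Lie.chevG2.group F, h * g * h⁻¹ = y) ∧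
    (∀ y₁ ∈ Cfsg.Lie.chevG2.group F, ∀ y₂ ∈ Cfsg.Lie.chevG2.group F, ((y₁ : GL Cfsg.Lie.chevG2.Idx F) : Matrix Cfsg.Lie.chevG2.Idx Cfsg.Lie.chevG2.Idx F) ∈ [Cfsg.Lie.chevG2.x F 11 1, Cfsg.Lie.chevG2.x F 9 1] → ((y₂ : GL Cfsg.Lie.chevG2.Idx F) : Matrix Cfsg.Lie.chevG2.Idx Cfsg.Lie.chevG2.Idx F) ∈ [Cfsg.Lie.chevG2.x F 11 1, Cfsg.Lie.chevG2.x F 9 1] →
      (∃ h ∈ Cfsg.Lie.chevG2.group F, h * y₁ * h⁻¹ = y₂) → ((y₁ : GL Cfsg.Lie.chevG2.Idx F) : Matrix Cfsg.Lie.chevG2.Idx Cfsg.Lie.chevG2.Idx F) = ((y₂ : GL Cfsg.Lie.chevG2.Idx F) : Matrix Cfsg.Lie.chevG2.Idx Cfsg.Lie.chevG2.Idx F)) := by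
  have hmem11 : ((Cfsg.Agent.helper5.Chev.xG Cfsg.Lie.chevG2 Cfsg.Agent.helper6.G2Cen.hG2 11 (1 : F) :
      GL Cfsg.Lie.chevG2.Idx F) : Matrix Cfsg.Lie.chevG2.Idx Cfsg.Lie.chevG2.Idx F) ∈
      [Cfsg.Lie.chevG2.x F 11 1, Cfsg.Lie.chevG2.x F 9 1] := by
    rw [Cfsg.Agent.helper5.Chev.xG_val]
    simp
  have hmem9 : ((Cfsg.Agent.helper5.Chev.xG Cfsg.Lie.chevG2 Cfsg.Agent.helper6.G2Cen.hG2 9 (1 : F) :
      GL Cfsg.Lie.chevG2.Idx F) : Matrix Cfsg.Lie.chevG2.Idx Cfsg.Lie.chevG2.Idx F) ∈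
      [Cfsg.Lie.chevG2.x F 11 1, Cfsg.Lie.chevG2.x F 9 1] := by
    rw [Cfsg.Agent.helper5.Chev.xG_val]
    simp
  refine ⟨?_, ?_, ?_⟩
  · intro y hy
    simp only [List.mem_cons, List.not_mem_nil, or_false] at hy
    rcases hy with h | h
    · have e := Cfsg.Agent.helper5.Chev.eq_xG Cfsg.Lie.chevG2 Cfsg.Agent.helper6.G2Cen.hG2 y 11 1 h
      subst e
      exact ⟨Cfsg.Agent.helper5.Chev.xG_mem_grp _ _ 11 (by decide) 1,
        Cfsg.Agent.helper6.G2Inv.X_order 11 (by decide +kernel)⟩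
    · have e := Cfsg.Agent.helper5.Chev.eq_xG Cfsg.Lie.chevG2 Cfsg.Agent.helper6.G2Cen.hG2 y 9 1 h
      subst e
      exact ⟨Cfsg.Agent.helper5.Chev.xG_mem_grp _ _ 9 (by decide) 1,
        Cfsg.Agent.helper6.G2Inv.X_order 9 (by decide +kernel)⟩
  · intro g hg h2
    obtain ⟨h₁, hh₁, hU⟩ := Cfsg.Agent.helper6.G2Inv.exists_conj_mem_U g hg h2
    have hgg : g * g = 1 := by
      have := pow_orderOf_eq_one g
      rwa [h2, pow_two] at this
    have hsq : (h₁ * g * h₁⁻¹) * (h₁ * g * h₁⁻¹) = 1 :=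
      Cfsg.Agent.helper6.G2Inv.Cj_sq ⟨h₁, hh₁, rfl⟩ hgg
    have hne : h₁ * g * h₁⁻¹ ≠ 1 := by
      intro h1
      have hg1 : g = 1 := by
        have : g = h₁⁻¹ * (h₁ * g * h₁⁻¹) * h₁ := by group
        rw [this, h1]
        group
      rw [hg1, orderOf_one] at h2
      exact absurd h2 (by norm_num)
    rcases Cfsg.Agent.helper6.G2Inv.classify _ hU hsq hne with ⟨k, hk, e⟩ | ⟨k, hk, e⟩
    · refine ⟨_, Cfsg.Agent.helper5.Chev.xG_mem_grp _ Cfsg.Agent.helper6.G2Cen.hG2 11 (by decide) 1,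
        hmem11, k * h₁, Subgroup.mul_mem _ hk hh₁, ?_⟩
      rw [← e]
      group
    · refine ⟨_, Cfsg.Agent.helper5.Chev.xG_mem_grp _ Cfsg.Agent.helper6.G2Cen.hG2 9 (by decide) 1,
        hmem9, k * h₁, Subgroup.mul_mem _ hk hh₁, ?_⟩
      rw [← e]
      group
  · intro y₁ _ y₂ _ hm₁ hm₂ hconj
    obtain ⟨h, hh, e⟩ := hconj
    simp only [List.mem_cons, List.not_mem_nil, or_false] at hm₁ hm₂
    rcases hm₁ with h1 | h1 <;> rcases hm₂ with h2 | h2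
    · rw [h1, h2]
    · exfalso
      have e1 := Cfsg.Agent.helper5.Chev.eq_xG Cfsg.Lie.chevG2 Cfsg.Agent.helper6.G2Cen.hG2 y₁ 11 1 h1
      have e2 := Cfsg.Agent.helper5.Chev.eq_xG Cfsg.Lie.chevG2 Cfsg.Agent.helper6.G2Cen.hG2 y₂ 9 1 h2
      subst e1 e2
      exact Cfsg.Agent.helper6.G2Inv.nonconj h hh e
    · exfalso
      have e1 := Cfsg.Agent.helper5.Chev.eq_xG Cfsg.Lie.chevG2 Cfsg.Agent.helper6.G2Cen.hG2 y₁ 9 1 h1
      have e2 := Cfsg.Agent.helper5.Chev.eq_xG Cfsg.Lie.chevG2 Cfsg.Agent.helper6.G2Cen.hG2 y₂ 11 1 h2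
      subst e1 e2
      refine Cfsg.Agent.helper6.G2Inv.nonconj h⁻¹ (Subgroup.inv_mem _ hh) ?_
      rw [← e]
      group
    · rw [h1, h2]

end Cfsg.Agent.S2177
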