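import Cfsg.Statements.S2232
import Mathlib
import Cfsg.Agent.H16QD6
import Cfsg.Agent.H16QD7
-- import your own Cfsg.Agent.* helpers here

set_option autoImplicit false
open Cfsg

namespace Cfsg.Agent.S2232

/-- Let p be an odd prime, q a power of p and K a finite field with q² elements. Then Qd(p) (the natural semidirect product of an elementary abelian group of order p² by SL₂(p)) is not involved in the projective special unitary group PSU₃(q) realised over K. -/
theorem result {p : ℕ} [Fact p.Prime] (hp : p ≠ 2) {K : Type*} [Field K] [Fintype K] [CharP K p] (n : ℕ) (hn : 1 ≤ n) (hK : Fintype.card K = (p ^ n) ^ 2) : ¬ Cfsg.Involves ↥(Cfsg.qd p) (Cfsg.PSU 3 K (p ^ n)) := by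
  classical
  rintro ⟨K₀, R₀, hR, ⟨e⟩⟩
  let φ : ↥K₀ →* ↥(Cfsg.qdOver (ZMod p)) :=
    (e.toMonoidHom : _ →* ↥(Cfsg.qdOver (ZMod p))).comp (QuotientGroup.mk' (R₀.subgroupOf K₀))
  have hφ : Function.Surjective φ :=
    e.surjective.comp (QuotientGroup.mk'_surjective (R₀.subgroupOf K₀))
  have hV1 := Cfsg.Agent.H16QD.qd_pcore_ne_bot (p := p)
  haveI : (Cfsg.pCore p ↥(Cfsg.qdOver (ZMod p))).Normal := Cfsg.Agent.helper1.pCore_normal p
  have hpq : p ∣ p ^ n := dvd_pow_self p (by omega)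
  obtain ⟨P, hP⟩ := Cfsg.Agent.H16QD.normal_sylow_of_involved p
    (fun P₁ P₂ h => Cfsg.Agent.H16QD.psu_TI hp hK hpq P₁ P₂ h) K₀ φ hφ
    (Cfsg.pCore p ↥(Cfsg.qdOver (ZMod p))) hV1 (Cfsg.Agent.helper1.pCore_isPGroup p)
  exact Cfsg.Agent.H16QD.qd_no_normal_sylow P hP

end Cfsg.Agent.S2232
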