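import Cfsg.Statements.S2241
import Cfsg.Agent.Lib_helper11_Sz10

set_option autoImplicit false
open Cfsg

namespace Cfsg.Agent.S2241

open Cfsg.Agent.helper11.Sz Cfsg.Agent.S0326 Matrix

/-- Real 2-elements of the Suzuki group: with q = 2^(2m+1), m ≥ 1, and the group realised as the stabiliser in SL₄ of the Suzuki–Tits ovoid, a non-identity element of a Sylow 2-subgroup is conjugate to its inverse if and only if it is an involution; in particular no element of order 4 is conjugate to its inverse. -/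
theorem result {F : Type*} [Field F] [Fintype F] {m : ℕ} (hm : 1 ≤ m) (hF : Fintype.card F = 2 ^ (2 * m + 1)) (P : Sylow 2 ↥(Cfsg.Sz F m)) (g : ↥(Cfsg.Sz F m)) (hg : g ∈ (P : Subgroup ↥(Cfsg.Sz F m))) (h1 : g ≠ 1) :
    IsConj g g⁻¹ ↔ orderOf g = 2 := by
  haveI := Cfsg.Agent.helper11.Sz.charP_two hF
  haveI : Fact (Nat.Prime 2) := ⟨Nat.prime_two⟩
  constructor
  · intro hconj
    obtain ⟨x, hx⟩ := exists_conj_tq hm hF P
    obtain ⟨a, b, rfl⟩ := (hx g).mp hg
    rw [isConj_iff] at hconj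
    obtain ⟨c, hc⟩ := hconj
    have hab : ¬ (a = 0 ∧ b = 0) := by
      rintro ⟨rfl, rfl⟩
      apply h1
      rw [tq_zero hm hF]
      group
    have hc' : (x⁻¹ * c * x) * tq hF a b * (x⁻¹ * c * x)⁻¹ = (tq hF a b)⁻¹ := by
      have e1 : (x⁻¹ * c * x) * tq hF a b * (x⁻¹ * c * x)⁻¹ =
          x⁻¹ * (c * (x * tq hF a b * x⁻¹) * c⁻¹) * x := by group
      rw [e1, hc]
      group
    have ha := conj_inv_imp hm hF a b hab _ hc'
    subst ha
    apply orderOf_eq_prime
    · have e2 : (x * tq hF 0 b * x⁻¹) ^ 2 = x * (tq hF 0 b * tq hF 0 b) * x⁻¹ := by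
        rw [pow_two]; group
      rw [e2, tq_zero_sq hm hF]
      group
    · exact h1
  · intro h
    have h2 : g ^ 2 = 1 := by rw [← h]; exact pow_orderOf_eq_one g
    have h3 : g⁻¹ = g := by
      rw [inv_eq_iff_mul_eq_one, ← pow_two, h2]
    rw [h3]

end Cfsg.Agent.S2241
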