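import Cfsg.Statements.S2247
import Cfsg.Agent.S0327
import Cfsg.Agent.S0325

set_option autoImplicit false
open Cfsg

namespace Cfsg.Agent.S2247

open Cfsg.Agent.helper11.Sz Cfsg.Agent.S0326 Cfsg.Agent.S0327 Matrix

/-- In the Suzuki group with q = 2^(2m+1), m ≥ 1 (realised as the stabiliser in SL₄ of the Suzuki–Tits ovoid), the normalizer of a Sylow 2-subgroup P is a maximal subgroup and is the only maximal subgroup containing P. -/
theorem result {F : Type*} [Field F] [Fintype F] {m : ℕ} (hm : 1 ≤ m) (hF : Fintype.card F = 2 ^ (2 * m + 1)) (P : Sylow 2 ↥(Cfsg.Sz F m)) :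
    IsCoatom (Subgroup.normalizer ((P : Subgroup ↥(Cfsg.Sz F m)) : Set ↥(Cfsg.Sz F m))) ∧
    ∀ M : Subgroup ↥(Cfsg.Sz F m), IsCoatom M → (P : Subgroup ↥(Cfsg.Sz F m)) ≤ M → M = Subgroup.normalizer ((P : Subgroup ↥(Cfsg.Sz F m)) : Set ↥(Cfsg.Sz F m)) := by
  haveI := Cfsg.Agent.helper11.Sz.charP_two hF
  haveI : Fact (Nat.Prime 2) := ⟨Nat.prime_two⟩
  obtain ⟨x, hx⟩ := exists_conj_tq hm hF P
  have hZ := Cfsg.Agent.S0327.result hm hF
  obtain ⟨hfaith, h2tr, -, -, -⟩ := hZ
  haveI : MulAction.IsPretransitive (Cfsg.Sz F m) (Cfsg.suzukiOvoid F m) :=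
    MulAction.isPretransitive_of_is_two_pretransitive
  haveI : Nontrivial (Cfsg.suzukiOvoid F m) :=
    ⟨⟨pt m none, pt m (some (0, 0)), fun h => by simpa using pt_injective h⟩⟩
  have hprim : MulAction.IsPreprimitive (Cfsg.Sz F m) (Cfsg.suzukiOvoid F m) :=
    MulAction.isPreprimitive_of_is_two_pretransitive h2tr
  set y : Cfsg.suzukiOvoid F m := x • pt m none with hy
  -- elements of `P` other than `1` fix only `y`
  have hfixP : ∀ a b : F, ¬ (a = 0 ∧ b = 0) → ∀ z : Cfsg.suzukiOvoid F m,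
      (x * tq hF a b * x⁻¹) • z = z ↔ z = y := by
    intro a b hab z
    obtain ⟨o, ho⟩ := exists_pt (x⁻¹ • z)
    have hz : z = x • pt m o := by rw [← ho, smul_inv_smul]
    rw [hz, mul_smul, mul_smul, inv_smul_smul, hy]
    constructor
    · intro h
      have h1 := MulAction.injective x h
      rw [smul_pt_eq_iff] at h1
      have h2 : Ts m a b • param m o = param m o := h1
      rw [Ts_fix_iff hF a b hab] at h2
      rw [h2]
    · intro h
      have h1 := MulAction.injective x h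
      have h2 := pt_injective h1
      rw [h2]
      congr 1
      rw [smul_pt_eq_iff]
      exact Ts_smul_inf a b
  -- the normaliser is the stabiliser of `y`
  have hconj : ∀ g : Cfsg.Sz F m, g • y = y → ∀ p ∈ (P : Subgroup (Cfsg.Sz F m)),
      g * p * g⁻¹ ∈ (P : Subgroup (Cfsg.Sz F m)) := by
    intro g hg p hp
    obtain ⟨a, b, rfl⟩ := (hx p).mp hp
    have hfix : (x⁻¹ * g * x) • pt (F := F) m none = pt m none := by
      rw [mul_smul, mul_smul, ← hy, hg, hy, inv_smul_smul]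
    rw [smul_pt_eq_iff] at hfix
    obtain ⟨a', b', k, hk⟩ := stab_inf' hm hF _ hfix
    have e1 : g * (x * tq hF a b * x⁻¹) * g⁻¹ =
        x * ((x⁻¹ * g * x) * tq hF a b * (x⁻¹ * g * x)⁻¹) * x⁻¹ := by group
    have e2 : tq hF a' b' * hq hF k * tq hF a b * (tq hF a' b' * hq hF k)⁻¹ =
        tq hF a' b' * (hq hF k * tq hF a b * (hq hF k)⁻¹) * (tq hF a' b')⁻¹ := by group
    rw [e1, hk, e2, hq_tq_conj hm hF, tq_tq_conj hm hF]
    exact (hx _).mpr ⟨_, _, rfl⟩
  have hnorm : Subgroup.normalizer ((P : Subgroup ↥(Cfsg.Sz F m)) : Set ↥(Cfsg.Sz F m)) =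
      MulAction.stabilizer (Cfsg.Sz F m) y := by
    ext g
    rw [Subgroup.mem_normalizer_iff, MulAction.mem_stabilizer_iff]
    constructor
    · intro h
      have hp : x * tq hF 1 0 * x⁻¹ ∈ (P : Subgroup (Cfsg.Sz F m)) := (hx _).mpr ⟨1, 0, rfl⟩
      obtain ⟨a, b, hab⟩ := (hx _).mp ((h _).mp hp)
      have hne : ¬ (a = 0 ∧ b = 0) := by
        rintro ⟨rfl, rfl⟩
        rw [tq_zero hm hF] at hab
        have h1 : g * (x * tq hF 1 0 * x⁻¹) * g⁻¹ = 1 := by rw [hab]; group
        have h2 : tq hF (1 : F) 0 = 1 := by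
          have := congrArg (fun z => x⁻¹ * (g⁻¹ * z * g) * x) h1
          simp only [mul_one, inv_mul_cancel] at this
          rw [← this]
          group
        have := (tq_eq_one_iff hm hF).mp h2
        exact one_ne_zero this.1
      have h3 : (g * (x * tq hF 1 0 * x⁻¹) * g⁻¹) • (g • y) = g • y := by
        rw [mul_smul, inv_smul_smul, mul_smul]
        congr 1
        exact (hfixP 1 0 (fun h => one_ne_zero h.1) y).mpr rfl
      rw [hab] at h3
      exact (hfixP a b hne _).mp h3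
    · intro hg p
      constructor
      · exact hconj g hg p
      · intro hp
        have hg' : g⁻¹ • y = y := by rw [inv_smul_eq_iff, hg]
        have := hconj g⁻¹ hg' _ hp
        have e : g⁻¹ * (g * p * g⁻¹) * g⁻¹⁻¹ = p := by group
        rw [e] at this
        exact this
  have hcoatom : IsCoatom (MulAction.stabilizer (Cfsg.Sz F m) y) :=
    (MulAction.isCoatom_stabilizer_iff_preprimitive _ y).mpr hprim
  refine ⟨hnorm ▸ hcoatom, ?_⟩
  intro M hM hPM
  rw [hnorm]
  by_contra hne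
  -- `M` moves `y`
  have hmove : ∃ g ∈ M, g • y ≠ y := by
    by_contra hcon
    push Not at hcon
    have hle : M ≤ MulAction.stabilizer (Cfsg.Sz F m) y := fun g hg => hcon g hg
    rcases eq_or_lt_of_le hle with h | h
    · exact hne h
    · exact hcoatom.1 (hM.2 _ h ▸ rfl)
  obtain ⟨g₀, hg₀M, hg₀⟩ := hmove
  -- `M` is transitive
  have htrans : ∀ z : Cfsg.suzukiOvoid F m, ∃ h ∈ M, h • y = z := by
    have haff : ∀ a b : F, ∃ h ∈ M, h • y = x • pt m (some (a, b)) := by
      intro a b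
      obtain ⟨o, ho⟩ := exists_pt (x⁻¹ • (g₀ • y))
      rcases o with _ | ⟨a₀, b₀⟩
      · exfalso
        apply hg₀
        calc g₀ • y = x • (x⁻¹ • (g₀ • y)) := (smul_inv_smul x _).symm
          _ = x • pt m none := by rw [ho]
      · have hmem : x * (tq hF a b * (tq hF a₀ b₀)⁻¹) * x⁻¹ ∈ M := by
          apply hPM
          rw [tq_inv hm hF, tq_mul hm hF]
          exact (hx _).mpr ⟨_, _, rfl⟩
        refine ⟨x * (tq hF a b * (tq hF a₀ b₀)⁻¹) * x⁻¹ * g₀, M.mul_mem hmem hg₀M, ?_⟩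
        rw [mul_smul, mul_smul, mul_smul, ho, mul_smul]
        congr 1
        have e1 : (tq hF a₀ b₀)⁻¹ • pt (F := F) m (some (a₀, b₀)) = pt m (some (0, 0)) := by
          rw [inv_smul_eq_iff, eq_comm, smul_pt_eq_iff]
          exact Ts_smul_zero hF a₀ b₀
        rw [e1, smul_pt_eq_iff]
        exact Ts_smul_zero hF a b
    intro z
    obtain ⟨o, ho⟩ := exists_pt (x⁻¹ • z)
    have hz : z = x • pt m o := by rw [← ho, smul_inv_smul]
    rcases o with _ | ⟨a, b⟩
    · exact ⟨1, M.one_mem, by rw [one_smul, hz]⟩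
    · rw [hz]
      exact haff a b
  -- `M` contains all conjugates of `P`
  have hall : ∀ k : Cfsg.Sz F m, ∀ p ∈ (P : Subgroup (Cfsg.Sz F m)), k * p * k⁻¹ ∈ M := by
    intro k p hp
    obtain ⟨h, hhM, hh⟩ := htrans (k • y)
    have hfix : (h⁻¹ * k) • y = y := by rw [mul_smul, ← hh, inv_smul_smul]
    have h1 := hconj _ hfix p hp
    have h2 : k * p * k⁻¹ = h * ((h⁻¹ * k) * p * (h⁻¹ * k)⁻¹) * h⁻¹ := by group
    rw [h2]
    exact M.mul_mem (M.mul_mem hhM (hPM h1)) (M.inv_mem hhM)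
  -- the normal closure of `P` is everything
  haveI := Cfsg.Agent.S0325.result hm hF
  have hncl : Subgroup.normalClosure ((P : Subgroup (Cfsg.Sz F m)) : Set (Cfsg.Sz F m)) ≤ M := by
    rw [Subgroup.normalClosure, Subgroup.closure_le]
    intro z hz
    rw [Group.mem_conjugatesOfSet_iff] at hz
    obtain ⟨p, hp, hc⟩ := hz
    rw [isConj_iff] at hc
    obtain ⟨k, rfl⟩ := hc
    exact hall k p hp
  have hnn : Subgroup.normalClosure ((P : Subgroup (Cfsg.Sz F m)) : Set (Cfsg.Sz F m)) ≠ ⊥ := by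
    intro h
    have hp : x * tq hF 1 0 * x⁻¹ ∈ (P : Subgroup (Cfsg.Sz F m)) := (hx _).mpr ⟨1, 0, rfl⟩
    have h1 : x * tq hF 1 0 * x⁻¹ ∈
        Subgroup.normalClosure ((P : Subgroup (Cfsg.Sz F m)) : Set (Cfsg.Sz F m)) :=
      Subgroup.subset_normalClosure hp
    rw [h, Subgroup.mem_bot] at h1
    have h2 : tq hF (1 : F) 0 = 1 := by
      have := congrArg (fun z => x⁻¹ * z * x) h1
      simp only [mul_one, inv_mul_cancel] at this
      rw [← this]
      group
    have := (tq_eq_one_iff hm hF).mp h2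
    exact one_ne_zero this.1
  have htop := (Subgroup.Normal.eq_bot_or_eq_top
    (Subgroup.normalClosure_normal (s := ((P : Subgroup (Cfsg.Sz F m)) : Set (Cfsg.Sz F m))))).resolve_left hnn
  rw [htop, top_le_iff] at hncl
  exact hM.1 hncl

end Cfsg.Agent.S2247
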