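import Mathlib
import Cfsg.Statements.S2249
import Cfsg.Agent.Lib_helper17_GLR9

set_option autoImplicit false
open Cfsg

namespace Cfsg.Agent.S2249

open Cfsg.Agent.helper17.GLR in
/-- The normal 2-rank of the general linear group over a finite field of odd order q: for n ≥ 1 and S a Sylow 2-subgroup of GL_n(F), the largest rank of an elementary abelian subgroup of S that is normal in S equals n when q ≡ 1 (mod 4) and ⌊(n + 1)/2⌋ when q ≡ 3 (mod 4). -/
theorem result {F : Type*} [Field F] [Fintype F] {q : ℕ} (hF : Fintype.card F = q) (hodd : Odd q) (n : ℕ) (hn : 1 ≤ n) (S : Sylow 2 (Matrix.GeneralLinearGroup (Fin n) F)) :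
    (q % 4 = 1 → ((∃ E : Subgroup ↥(S : Subgroup (Matrix.GeneralLinearGroup (Fin n) F)), E.Normal ∧ Cfsg.IsElementaryAbelian 2 E ∧ 2 ^ (n) ≤ Nat.card ↥E) ∧
      ∀ E : Subgroup ↥(S : Subgroup (Matrix.GeneralLinearGroup (Fin n) F)), E.Normal → Cfsg.IsElementaryAbelian 2 E → Nat.card ↥E ≤ 2 ^ (n))) ∧
    (q % 4 = 3 → ((∃ E : Subgroup ↥(S : Subgroup (Matrix.GeneralLinearGroup (Fin n) F)), E.Normal ∧ Cfsg.IsElementaryAbelian 2 E ∧ 2 ^ ((n + 1) / 2) ≤ Nat.card ↥E) ∧
      ∀ E : Subgroup ↥(S : Subgroup (Matrix.GeneralLinearGroup (Fin n) F)), E.Normal → Cfsg.IsElementaryAbelian 2 E → Nat.card ↥E ≤ 2 ^ ((n + 1) / 2))) := by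
  subst hF
  have hq1 : 1 < Fintype.card F := Fintype.one_lt_card
  have hchar : ringChar F ≠ 2 := by
    intro h
    have := FiniteField.even_card_iff_char_two.mp h
    obtain ⟨k, hk⟩ := hodd
    omega
  have h2 : (2 : F) ≠ 0 := Ring.two_ne_zero hchar
  constructor
  · intro hq
    constructor
    · have h3 := lower hodd h2 n 1 n 0 (by norm_num) (by ring) (by
        rw [ff_one_eq, ff_one hq hq1]
        ring) S
      simpa using h3
    · intro E _ hE
      exact upperA h2 n S E hE
  · intro hq
    constructor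
    · have hff2 : ff (Fintype.card F) 2 = 1 + Cfsg.Agent.helper17.SpR.cc (Fintype.card F) := by
        have := ff_three hq 1 0 (by norm_num)
        simpa using this
      have h3 := lower hodd h2 n 2 (n / 2) (n % 2) (by norm_num) (Nat.div_add_mod n 2) (by
        have h4 := ff_three hq (n / 2) (n % 2) (by omega)
        rw [Nat.div_add_mod] at h4
        rw [h4, hff2, val_two_mul_odd (x := Fintype.card F - 1) (by omega)]
        ring) S
      have h5 : (n + 1) / 2 = n / 2 + n % 2 := by omega
      rw [h5]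
      exact h3
    · intro E hEn hE
      exact upperB hq n S E hEn hE

end Cfsg.Agent.S2249
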