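import Cfsg.Statements.S2251
import Cfsg.Agent.Lib_helper11_Sz34

set_option autoImplicit false
open Cfsg

namespace Cfsg.Agent.S2251

open Cfsg.Agent.helper11.Sz Cfsg.Agent.S0326 Cfsg.Agent.S0327 Cfsg.Agent.S3893 Matrix

section
variable {F : Type*} [Field F] [CharP F 2] [Fintype F] {m : ℕ}

theorem concl_a (hm : 1 ≤ m) (hF : Fintype.card F = 2 ^ (2 * m + 1))
    (M : Subgroup (Cfsg.Sz F m)) (y : Cfsg.suzukiOvoid F m) (hy : ∀ x ∈ M, x • y = y) :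
    ∃ P : Sylow 2 (Cfsg.Sz F m),
      M ≤ Subgroup.normalizer ((P : Subgroup (Cfsg.Sz F m)) : Set (Cfsg.Sz F m)) := by
  haveI : Fact (Nat.Prime 2) := ⟨Nat.prime_two⟩
  obtain ⟨o, rfl⟩ := exists_pt y
  obtain ⟨z₀, hz₀, hz₀o⟩ := exists_smul_inf_eq hF o
  have hz : (⟨z₀, hz₀⟩ : Cfsg.Sz F m) • pt (F := F) m none = pt m o :=
    (smul_pt_eq_iff _ _ _).mpr hz₀o
  refine ⟨(⟨z₀, hz₀⟩ : Cfsg.Sz F m) • Qsyl hm hF, ?_⟩
  intro x hx
  have hx' : (⟨z₀, hz₀⟩ : Cfsg.Sz F m)⁻¹ * x * ⟨z₀, hz₀⟩ ∈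
      Subgroup.normalizer ((Qs hm hF : Subgroup (Cfsg.Sz F m)) : Set (Cfsg.Sz F m)) := by
    rw [normalizer_Qs hm hF, MulAction.mem_stabilizer_iff, mul_smul, mul_smul, hz, hy x hx, ← hz,
      inv_smul_smul]
  have key : ∀ h : Cfsg.Sz F m,
      h ∈ (((⟨z₀, hz₀⟩ : Cfsg.Sz F m) • Qsyl hm hF : Sylow 2 (Cfsg.Sz F m)) :
        Subgroup (Cfsg.Sz F m)) ↔
      (⟨z₀, hz₀⟩ : Cfsg.Sz F m)⁻¹ * h * ⟨z₀, hz₀⟩ ∈ Qs hm hF := by
    intro h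
    rw [Sylow.coe_subgroup_smul, Subgroup.mem_pointwise_smul_iff_inv_smul_mem, MulAut.smul_def,
      ← map_inv, MulAut.conj_apply, inv_inv, coe_Qsyl]
  rw [Subgroup.mem_normalizer_iff] at hx' ⊢
  intro h
  rw [key, key, hx' _]
  have e : (⟨z₀, hz₀⟩ : Cfsg.Sz F m)⁻¹ * x * ⟨z₀, hz₀⟩ *
      ((⟨z₀, hz₀⟩ : Cfsg.Sz F m)⁻¹ * h * ⟨z₀, hz₀⟩) *
      ((⟨z₀, hz₀⟩ : Cfsg.Sz F m)⁻¹ * x * ⟨z₀, hz₀⟩)⁻¹ =
      (⟨z₀, hz₀⟩ : Cfsg.Sz F m)⁻¹ * (x * h * x⁻¹) * ⟨z₀, hz₀⟩ := by group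
  rw [e]

theorem concl_b (hm : 1 ≤ m) (hF : Fintype.card F = 2 ^ (2 * m + 1))
    (M : Subgroup (Cfsg.Sz F m)) (x : Cfsg.Sz F m) (hx1 : x ≠ 1) (j : ℕ)
    (hj : x ^ (2 * j + 1) = 1) (hn : ∀ n ∈ M, Commute (n * x * n⁻¹) x) :
    ∃ U : Subgroup (Cfsg.Sz F m), IsCyclic U ∧
      Nat.card U ∈ ({2 ^ (2 * m + 1) - 1, 2 ^ (2 * m + 1) + 2 ^ (m + 1) + 1,
        2 ^ (2 * m + 1) - 2 ^ (m + 1) + 1} : Set ℕ) ∧
      M ≤ Subgroup.normalizer (U : Set (Cfsg.Sz F m)) := by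
  obtain ⟨hcyc, hcard⟩ := tor_cyc hm hF x hx1 j hj
  refine ⟨Subgroup.centralizer {x}, hcyc, ?_, fun n hnM => tor_norm hm hF x hx1 j hj n (hn n hnM)⟩
  simp only [Set.mem_insert_iff, Set.mem_singleton_iff]
  exact hcard

set_option maxHeartbeats 1000000 in
theorem concl_c (hm : 1 ≤ m) (hF : Fintype.card F = 2 ^ (2 * m + 1))
    (M : Subgroup (Cfsg.Sz F m)) (K' : Subfield F) (z : Cfsg.Sz F m) (hK' : K' ≠ ⊤) (κ : Fˣ)
    (hκ : κ ≠ 1) (hκK : (κ : F) ∈ K') (hsub : ∀ g ∈ M, InSub hF K' (z * g * z⁻¹)) :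
    ∃ (K : Type) (_ : Field K) (_ : Fintype K) (k : ℕ), 1 ≤ k ∧ k < m ∧
      Fintype.card K = 2 ^ (2 * k + 1) ∧ 2 * k + 1 ∣ 2 * m + 1 ∧
      ∃ S : Subgroup (Cfsg.Sz F m), Nonempty (S ≃* Cfsg.Sz K k) ∧ M ≤ S := by
  classical
  haveI : Fintype K' := Fintype.ofFinite K'
  have h1 := Module.card_eq_pow_finrank (K := K') (V := F)
  have hr : Module.finrank K' F ≠ 0 := by
    intro h0
    rw [h0, pow_zero, hF] at h1
    have : 2 ^ 1 ≤ 2 ^ (2 * m + 1) := Nat.pow_le_pow_right (by norm_num) (by omega)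
    omega
  have h1' : Fintype.card K' ∣ 2 ^ (2 * m + 1) := by
    rw [← hF, h1]
    exact dvd_pow_self _ hr
  obtain ⟨d, -, hd⟩ := (Nat.dvd_prime_pow Nat.prime_two).mp h1'
  have hdN : Nat.card K' = 2 ^ d := by rw [Nat.card_eq_fintype_card]; exact hd
  have hdvd : d ∣ 2 * m + 1 := subfield_card_dvd hF K' hdN
  have hdle : d ≤ 2 * m + 1 := Nat.le_of_dvd (by omega) hdvd
  have hdne : d ≠ 2 * m + 1 := by
    intro hdeq
    apply hK'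
    rw [eq_top_iff]
    intro x _
    have hbij : Function.Bijective (Subtype.val : K' → F) :=
      (Fintype.bijective_iff_injective_and_card _).mpr
        ⟨Subtype.val_injective, by rw [hd, hdeq, hF]⟩
    obtain ⟨y, rfl⟩ := hbij.2 x
    exact y.2
  have h3lt : 2 < Fintype.card K' := by
    rw [Fintype.two_lt_card_iff]
    refine ⟨⟨0, K'.zero_mem⟩, ⟨1, K'.one_mem⟩, ⟨κ, hκK⟩, ?_, ?_, ?_⟩
    · intro h
      exact zero_ne_one (congrArg Subtype.val h)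
    · intro h
      exact κ.ne_zero (congrArg Subtype.val h).symm
    · intro h
      exact hκ (Units.ext (congrArg Subtype.val h).symm)
  obtain ⟨k, rfl | rfl⟩ := Nat.even_or_odd' d
  · exfalso
    have : 2 ∣ 2 * m + 1 := dvd_trans ⟨k, rfl⟩ hdvd
    omega
  have hk1 : 1 ≤ k := by
    by_contra hk0
    have : k = 0 := by omega
    subst this
    rw [hd] at h3lt
    norm_num at h3lt
  have hkm : k < m := by omega
  have hd0 : 2 * k + 1 ≠ 0 := by omega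
  letI : Fintype (GaloisField 2 (2 * k + 1)) := Fintype.ofFinite _
  have hK : Fintype.card (GaloisField 2 (2 * k + 1)) = 2 ^ (2 * k + 1) := by
    rw [← Nat.card_eq_fintype_card]
    exact GaloisField.card 2 _ hd0
  have hcardeq : Fintype.card (GaloisField 2 (2 * k + 1)) = Fintype.card K' := by rw [hK, hd]
  let e : GaloisField 2 (2 * k + 1) ≃+* K' := FiniteField.ringEquivOfCardEq hcardeq
  let ι : GaloisField 2 (2 * k + 1) →+* F := K'.subtype.comp e.toRingHom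
  have hι : ∀ a ∈ K', ∃ a₀, ι a₀ = a := by
    intro a ha
    refine ⟨e.symm ⟨a, ha⟩, ?_⟩
    show ((e (e.symm ⟨a, ha⟩) : K') : F) = a
    rw [e.apply_symm_apply]
  have hιu : ∀ l : Fˣ, (l : F) ∈ K' →
      ∃ l₀ : (GaloisField 2 (2 * k + 1))ˣ, Units.map (ι : GaloisField 2 (2 * k + 1) →* F) l₀ = l := by
    intro l hl
    obtain ⟨a₀, ha₀⟩ := hι l hl
    have ha₀0 : a₀ ≠ 0 := by
      rintro rfl
      rw [map_zero] at ha₀
      exact l.ne_zero ha₀.symm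
    exact ⟨Units.mk0 a₀ ha₀0, Units.ext ha₀⟩
  have hc : Compat k m ι := compat_of_pow ι (fun x => Cfsg.Agent.S2239.hcomp_of_dvd hK hdvd x)
  have hmemR : ∀ g' : Cfsg.Sz F m, InSub hF K' g' → g' ∈ (szMap hk1 hK hF ι hc).range := by
    rintro g' (⟨a, b, l, ha, hb, hl, rfl⟩ | ⟨a, b, a', b', l, ha, hb, ha', hb', hl, rfl⟩)
    · obtain ⟨a₀, rfl⟩ := hι a ha
      obtain ⟨b₀, rfl⟩ := hι b hb
      obtain ⟨l₀, rfl⟩ := hιu l hl
      exact ⟨tq hK a₀ b₀ * hq hK l₀, by rw [map_mul, szMap_tq, szMap_hq]⟩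
    · obtain ⟨a₀, rfl⟩ := hι a ha
      obtain ⟨b₀, rfl⟩ := hι b hb
      obtain ⟨a₀', rfl⟩ := hι a' ha'
      obtain ⟨b₀', rfl⟩ := hι b' hb'
      obtain ⟨l₀, rfl⟩ := hιu l hl
      exact ⟨tq hK a₀ b₀ * wq hK * tq hK a₀' b₀' * hq hK l₀, by
        rw [map_mul, map_mul, map_mul, szMap_tq, szMap_wq, szMap_tq, szMap_hq]⟩
  refine ⟨GaloisField 2 (2 * k + 1), inferInstance, inferInstance, k, hk1, hkm, hK, hdvd,
    (szMap hk1 hK hF ι hc).range.map ((MulAut.conj z⁻¹ : Cfsg.Sz F m ≃* Cfsg.Sz F m) :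
      Cfsg.Sz F m →* Cfsg.Sz F m), ⟨?_⟩, ?_⟩
  · exact ((MulAut.conj z⁻¹ : Cfsg.Sz F m ≃* Cfsg.Sz F m).subgroupMap
      (szMap hk1 hK hF ι hc).range).symm.trans
      (MonoidHom.ofInjective (szMap_injective hk1 hK hF ι hc)).symm
  · intro g hg
    rw [Subgroup.mem_map]
    refine ⟨z * g * z⁻¹, hmemR _ (hsub g hg), ?_⟩
    show MulAut.conj z⁻¹ (z * g * z⁻¹) = g
    rw [MulAut.conj_apply]
    group

end

/-- The subgroups of the Suzuki group: with q = 2^(2m+1), m ≥ 1, r = 2^m and the group realised as the stabiliser in SL₄ of the Suzuki–Tits ovoid, every proper subgroup is contained in the normalizer of a Sylow 2-subgroup, or in the normalizer of a cyclic subgroup of order q − 1, q + 2r + 1 or q − 2r + 1, or in a subgroup isomorphic to a smaller Suzuki group Sz(s) with s = 2^(2k+1) ≥ 8 and 2k+1 a proper divisor of 2m+1. -/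
theorem result {F : Type*} [Field F] [Fintype F] {m : ℕ} (hm : 1 ≤ m) (hF : Fintype.card F = 2 ^ (2 * m + 1)) (M : Subgroup ↥(Cfsg.Sz F m)) (hM : M ≠ ⊤) :
    (∃ P : Sylow 2 ↥(Cfsg.Sz F m), M ≤ Subgroup.normalizer ((P : Subgroup ↥(Cfsg.Sz F m)) : Set ↥(Cfsg.Sz F m))) ∨
    (∃ U : Subgroup ↥(Cfsg.Sz F m), IsCyclic ↥U ∧ Nat.card ↥U ∈ ({2 ^ (2 * m + 1) - 1, 2 ^ (2 * m + 1) + 2 ^ (m + 1) + 1, 2 ^ (2 * m + 1) - 2 ^ (m + 1) + 1} : Set ℕ) ∧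
      M ≤ Subgroup.normalizer (U : Set ↥(Cfsg.Sz F m))) ∨
    (∃ (K : Type) (_ : Field K) (_ : Fintype K) (k : ℕ), 1 ≤ k ∧ k < m ∧ Fintype.card K = 2 ^ (2 * k + 1) ∧ 2 * k + 1 ∣ 2 * m + 1 ∧
      ∃ S : Subgroup ↥(Cfsg.Sz F m), Nonempty (↥S ≃* ↥(Cfsg.Sz K k)) ∧ M ≤ S) := by
  haveI := Cfsg.Agent.helper11.Sz.charP_two hF
  rcases main_sub hm hF M hM with ⟨y, hy⟩ | ⟨x, hx1, ⟨j, hj⟩, hn⟩ | ⟨K', z, hK', ⟨κ, hκ, hκK⟩, hsub⟩
  · left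
    exact concl_a hm hF M y hy
  · right; left
    exact concl_b hm hF M x hx1 j hj hn
  · right; right
    exact concl_c hm hF M K' z hK' κ hκ hκK hsub

end Cfsg.Agent.S2251
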