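import Mathlib
import Cfsg.Statements.S2253
import Cfsg.Agent.Lib_helper9_NilC
import Cfsg.Agent.Lib_helper9_NilD

set_option autoImplicit false
open Cfsg

namespace Cfsg.Agent.S2253

/-- Let n be a natural number not congruent to 3 modulo 4. Then every nilpotent subgroup of the symmetric group on n letters has order at most the order of a Sylow 2-subgroup (so the nilpotent subgroups of largest order are exactly the Sylow 2-subgroups). -/
theorem result  (n : ℕ) (hn : n % 4 ≠ 3)
    (N : Subgroup (Equiv.Perm (Fin n))) (hN : Group.IsNilpotent N)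
    (P : Sylow 2 (Equiv.Perm (Fin n))) :
    Nat.card N ≤ Nat.card P := by
  have h1 : Nat.card N ≤ Cfsg.Agent.helper9.Nil.F n :=
    Cfsg.Agent.helper9.Nil.nil_bound Cfsg.Agent.helper9.Nil.F_mul_le
      Cfsg.Agent.helper9.Nil.prime_pow_le_F n (Fin n) N (by simp) hN
  rw [Cfsg.Agent.helper9.Nil.F_of_not_mod n hn] at h1
  have h2 : Nat.card P = 2 ^ Cfsg.Agent.helper21.SylPerm.v n := by
    rw [P.card_eq_multiplicity, Nat.card_eq_fintype_card, Fintype.card_perm,
      Nat.factorization_def _ Nat.prime_two]
    simp [Cfsg.Agent.helper21.SylPerm.v]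
  rw [h2]
  exact h1

end Cfsg.Agent.S2253
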