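import Mathlib
import Cfsg.Statements.S2254
import Cfsg.Agent.Lib_helper9_NilC
import Cfsg.Agent.Lib_helper9_NilD
import Cfsg.Agent.Lib_helper9_NilE
import Cfsg.Agent.Lib_helper9_NilG

set_option autoImplicit false
open Cfsg

namespace Cfsg.Agent.S2254

/-- Let n ≡ 3 (mod 4). Then every nilpotent subgroup of the symmetric group on n letters has order at most 3 times the order of a Sylow 2-subgroup of the symmetric group on n − 3 letters; the bound is attained by a nilpotent subgroup isomorphic to the direct product of such a Sylow 2-subgroup with a cyclic group of order 3; and any two nilpotent subgroups attaining the bound are conjugate. -/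
theorem result  (n : ℕ) (hn : n % 4 = 3)
    (P : Sylow 2 (Equiv.Perm (Fin (n - 3)))) :
    (∀ N : Subgroup (Equiv.Perm (Fin n)), Group.IsNilpotent N → Nat.card N ≤ 3 * Nat.card P) ∧
    (∃ M : Subgroup (Equiv.Perm (Fin n)), Group.IsNilpotent M ∧ Nat.card M = 3 * Nat.card P ∧
      Nonempty (M ≃* (↥(P : Subgroup (Equiv.Perm (Fin (n - 3)))) × Multiplicative (ZMod 3)))) ∧
    (∀ N₁ N₂ : Subgroup (Equiv.Perm (Fin n)), Group.IsNilpotent N₁ → Group.IsNilpotent N₂ →
      Nat.card N₁ = 3 * Nat.card P → Nat.card N₂ = 3 * Nat.card P →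
      ∃ g : Equiv.Perm (Fin n), N₂ = N₁.map (MulAut.conj g).toMonoidHom) := by
  haveI : Fact (Nat.Prime 2) := ⟨Nat.prime_two⟩
  have hP : Nat.card P = 2 ^ Cfsg.Agent.helper21.SylPerm.v (n - 3) := by
    rw [P.card_eq_multiplicity, Nat.card_eq_fintype_card, Fintype.card_perm,
      Nat.factorization_def _ Nat.prime_two]
    simp [Cfsg.Agent.helper21.SylPerm.v]
  have hF : Cfsg.Agent.helper9.Nil.F n = 3 * Nat.card P := by
    rw [Cfsg.Agent.helper9.Nil.F_of_mod n hn, hP]
  refine ⟨?_, ?_, ?_⟩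
  · intro N hN
    rw [← hF]
    exact Cfsg.Agent.helper9.Nil.nil_bound Cfsg.Agent.helper9.Nil.F_mul_le
      Cfsg.Agent.helper9.Nil.prime_pow_le_F n (Fin n) N (by simp) hN
  · exact Cfsg.Agent.helper9.Nil.exists_max (by omega) P
  · intro N₁ N₂ h1 h2 hc1 hc2
    rw [hP] at hc1 hc2
    exact Cfsg.Agent.helper9.Nil.max_conj hn N₁ N₂ h1 h2 hc1 hc2

end Cfsg.Agent.S2254
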