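import Mathlib
import Cfsg.Statements.S2255
import Cfsg.Agent.Lib_helper21_AltNil

set_option autoImplicit false
set_option linter.style.haveILetI false
open Cfsg

namespace Cfsg.Agent.S2255

/-- Let n be a natural number not congruent to 3 modulo 4, with n ∉ {5, 6, 9}. Then every nilpotent subgroup of the alternating group on n letters has order at most the order of a Sylow 2-subgroup of the alternating group (so the nilpotent subgroups of largest order are exactly the Sylow 2-subgroups). -/
theorem result  (n : ℕ) (hn : n % 4 ≠ 3)
    (h5 : n ≠ 5) (h6 : n ≠ 6) (h9 : n ≠ 9)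
    (N : Subgroup (alternatingGroup (Fin n))) (hN : Group.IsNilpotent N)
    (P : Sylow 2 (alternatingGroup (Fin n))) :
    Nat.card N ≤ Nat.card P := by
  have key := Cfsg.Agent.helper21.AltNil.alt_bound_fin n N hN
  by_cases h1 : n ≤ 1
  · rw [Cfsg.Agent.helper21.AltNil.B_of_le_one h1] at key
    have hP : 0 < Nat.card P := Nat.card_pos
    omega
  · rw [Cfsg.Agent.helper21.AltNil.B_eq_F (by omega) (by omega) h5 h6 h9,
      Cfsg.Agent.helper9.Nil.F_of_not_mod n hn] at key
    haveI : Nontrivial (Fin n) := Fin.nontrivial_iff_two_le.mpr (by omega)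
    have hA : 2 * Nat.card (alternatingGroup (Fin n)) = n.factorial := by
      rw [two_mul_nat_card_alternatingGroup, Nat.card_perm, Nat.card_eq_fintype_card,
        Fintype.card_fin]
    have hc : Nat.card (alternatingGroup (Fin n)) ≠ 0 := Nat.card_pos.ne'
    have hv : Cfsg.Agent.helper21.SylPerm.v n
        = (Nat.card (alternatingGroup (Fin n))).factorization 2 + 1 := by
      unfold Cfsg.Agent.helper21.SylPerm.v
      rw [← Nat.factorization_def _ Nat.prime_two, ← hA,
        Nat.factorization_mul (by norm_num) hc, Finsupp.add_apply,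
        Nat.Prime.factorization_self Nat.prime_two, add_comm]
    have hP : 2 * Nat.card P = 2 ^ Cfsg.Agent.helper21.SylPerm.v n := by
      rw [P.card_eq_multiplicity, hv, pow_succ']
    omega

end Cfsg.Agent.S2255
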