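import Cfsg.Statements.S2257
import Cfsg.Agent.Lib_helper11_CA19

set_option autoImplicit false
open Cfsg

namespace Cfsg.Agent.S2257

/-- Let G = PSL_2(F) with F a field of order q = 2^p, p prime, and for x ∈ G call the solubilizer of x the set of y ∈ G such that x and y generate a solvable subgroup. Then the solubilizer of an involution has 3q(q − 1) elements; that of a non-identity element of order dividing q − 1 has 2q(q − 1) elements; and that of a non-identity element of order dividing q + 1 has 2(q + 1) elements. -/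
theorem result (p : ℕ) (hp : p.Prime) {F : Type*} [Field F] [Fintype F]
    (hF : Fintype.card F = 2 ^ p) (x : Matrix.ProjectiveSpecialLinearGroup (Fin 2) F) :
    (orderOf x = 2 → Nat.card {y : Matrix.ProjectiveSpecialLinearGroup (Fin 2) F // Group.IsSolvable ↥(Subgroup.closure ({x, y} : Set (Matrix.ProjectiveSpecialLinearGroup (Fin 2) F)))} = 3 * 2 ^ p * (2 ^ p - 1)) ∧
    (x ≠ 1 → orderOf x ∣ 2 ^ p - 1 → Nat.card {y : Matrix.ProjectiveSpecialLinearGroup (Fin 2) F // Group.IsSolvable ↥(Subgroup.closure ({x, y} : Set (Matrix.ProjectiveSpecialLinearGroup (Fin 2) F)))} = 2 * 2 ^ p * (2 ^ p - 1)) ∧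
    (x ≠ 1 → orderOf x ∣ 2 ^ p + 1 → Nat.card {y : Matrix.ProjectiveSpecialLinearGroup (Fin 2) F // Group.IsSolvable ↥(Subgroup.closure ({x, y} : Set (Matrix.ProjectiveSpecialLinearGroup (Fin 2) F)))} = 2 * (2 ^ p + 1)) := by
  classical
  have hFeven : Fintype.card F % 2 = 0 := by
    rw [hF]; exact Nat.even_iff.mp (Nat.even_pow.mpr ⟨even_two, hp.ne_zero⟩)
  haveI : CharP F 2 := ringChar.of_eq ((FiniteField.even_card_iff_char_two (F := F)).mpr hFeven)
  have h2F : (2 : F) = 0 := CharTwo.two_eq_zero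
  obtain ⟨e, he⟩ : ∃ e : Matrix.SpecialLinearGroup (Fin 2) F ≃*
      Matrix.ProjectiveSpecialLinearGroup (Fin 2) F,
      e = Cfsg.Agent.helper11.PSL2Char2.slEquiv h2F := ⟨_, rfl⟩
  obtain ⟨x₀, hx₀⟩ : ∃ x₀, x₀ = e.symm x := ⟨_, rfl⟩
  have hxe : x = e x₀ := by rw [hx₀, MulEquiv.apply_symm_apply]
  have key : Nat.card {y : Matrix.ProjectiveSpecialLinearGroup (Fin 2) F //
      Group.IsSolvable ↥(Subgroup.closure
        ({x, y} : Set (Matrix.ProjectiveSpecialLinearGroup (Fin 2) F)))}
      = Nat.card {y₀ : Matrix.SpecialLinearGroup (Fin 2) F //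
        Subgroup.closure ({x₀, y₀} : Set (Matrix.SpecialLinearGroup (Fin 2) F)) ≠ ⊤} := by
    apply Nat.card_congr
    refine (Equiv.subtypeEquiv e.toEquiv (fun y₀ => ?_)).symm
    show _ ↔ Group.IsSolvable ↥(Subgroup.closure
      ({x, e y₀} : Set (Matrix.ProjectiveSpecialLinearGroup (Fin 2) F)))
    rw [← Cfsg.Agent.helper11.CA.solvable_closure_iff p hp hF x₀ y₀]
    have h1 : Subgroup.closure ({x, e y₀} : Set (Matrix.ProjectiveSpecialLinearGroup (Fin 2) F))
        = (Subgroup.closure ({x₀, y₀} : Set (Matrix.SpecialLinearGroup (Fin 2) F))).map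
          e.toMonoidHom := by
      rw [MonoidHom.map_closure, Set.image_pair, hxe]; rfl
    rw [h1]
    have e1 : (Subgroup.closure ({x₀, y₀} : Set (Matrix.SpecialLinearGroup (Fin 2) F))) ≃*
        (Subgroup.closure ({x₀, y₀} : Set (Matrix.SpecialLinearGroup (Fin 2) F))).map
          e.toMonoidHom := Subgroup.equivMapOfInjective _ _ e.injective
    constructor
    · intro h
      haveI := h
      exact Group.isSolvable_of_surjective (f := e1.toMonoidHom) e1.surjective
    · intro h
      haveI := h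
      exact Group.isSolvable_of_surjective (f := e1.symm.toMonoidHom) e1.symm.surjective
  have hord : orderOf x = orderOf x₀ := by rw [hxe]; exact MulEquiv.orderOf_eq e x₀
  have hx1 : x ≠ 1 → x₀ ≠ 1 := by
    intro h h'
    apply h
    rw [hxe, h', map_one]
  rw [key]
  refine ⟨?_, ?_, ?_⟩
  · intro h2
    rw [hord] at h2
    have hx₀1 : x₀ ≠ 1 := by
      intro h
      rw [h, orderOf_one] at h2
      omega
    have hx₀2 : x₀ ^ 2 = 1 := by
      have h5 := pow_orderOf_eq_one x₀
      rw [h2] at h5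
      exact h5
    exact Cfsg.Agent.helper11.CA.sol_card_invol p hp hF x₀ hx₀1 hx₀2
  · intro h1 hd
    rw [hord] at hd
    exact Cfsg.Agent.helper11.CA.sol_card_split p hp hF x₀ (hx1 h1) hd
  · intro h1 hd
    rw [hord] at hd
    exact Cfsg.Agent.helper11.CA.sol_card_nonsplit p hp hF x₀ (hx1 h1) hd

end Cfsg.Agent.S2257
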