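import Cfsg.Statements.S2259
import Cfsg.Agent.Lib_helper11_Sz40

set_option autoImplicit false
open Cfsg

namespace Cfsg.Agent.S2259

open Cfsg.Agent.helper11.Sz Cfsg.Agent.S0326 Cfsg.Agent.S0327 Cfsg.Agent.S3893 Matrix

section
variable {F : Type*} [Field F] [CharP F 2] [Fintype F] {m : ℕ}

theorem sol_two (hm : 1 ≤ m) (hF : Fintype.card F = 2 ^ (2 * m + 1)) (hp : (2 * m + 1).Prime)
    (x : Cfsg.Sz F m) (hx : orderOf x = 2) :
    Nat.card {y : Cfsg.Sz F m //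
        Group.IsSolvable (Subgroup.closure ({x, y} : Set (Cfsg.Sz F m)))} =
      (2 ^ (2 * m + 1)) ^ 2 * (4 * 2 ^ (2 * m + 1) - 3) := by
  obtain ⟨g, b, rfl⟩ := involution_conj hm hF x hx
  have hb : b ≠ 0 := by
    rintro rfl
    rw [tq_zero hm hF] at hx
    have e : g * 1 * g⁻¹ = 1 := by group
    rw [e, orderOf_one] at hx
    omega
  rw [card_sol_conj, card_sol_eq_NT hm hF hp, card_NT_invol hm hF b hb, hF]

theorem sol_four (hm : 1 ≤ m) (hF : Fintype.card F = 2 ^ (2 * m + 1)) (hp : (2 * m + 1).Prime)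
    (x : Cfsg.Sz F m) (hx : orderOf x = 4) :
    Nat.card {y : Cfsg.Sz F m //
        Group.IsSolvable (Subgroup.closure ({x, y} : Set (Cfsg.Sz F m)))} =
      (2 ^ (2 * m + 1)) ^ 2 * (2 ^ (2 * m + 1) + 3) := by
  haveI : Fact (Nat.Prime 2) := ⟨Nat.prime_two⟩
  have h4 : x ^ 4 = 1 := by
    have h := pow_orderOf_eq_one x
    rwa [hx] at h
  have h22 : (x ^ 2) ^ 2 = 1 := by
    rw [← pow_mul]
    exact h4
  have h2ne : x ^ 2 ≠ 1 := pow_ne_one_of_lt_orderOf (by norm_num) (by rw [hx]; norm_num)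
  have ho : orderOf (x ^ 2) = 2 := orderOf_eq_prime h22 h2ne
  obtain ⟨g, b, hgb⟩ := involution_conj hm hF _ ho
  have hb : b ≠ 0 := by
    rintro rfl
    apply h2ne
    rw [hgb, tq_zero hm hF]
    group
  have hcomm : (g⁻¹ * x * g) * tq hF 0 b = tq hF 0 b * (g⁻¹ * x * g) := by
    have e : tq hF 0 b = g⁻¹ * x ^ 2 * g := by
      rw [hgb]
      group
    rw [e]
    group
  obtain ⟨a', b', hab⟩ := centralizer_tq hm hF 0 b (fun h => hb h.2) _ hcomm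
  have hxg : x = g * tq hF a' b' * g⁻¹ := by
    rw [← hab]
    group
  have ha' : a' ≠ 0 := by
    rintro rfl
    apply h2ne
    rw [hxg, pow_two]
    have e : g * tq hF 0 b' * g⁻¹ * (g * tq hF 0 b' * g⁻¹) =
        g * (tq hF 0 b' * tq hF 0 b') * g⁻¹ := by group
    rw [e, tq_zero_sq hm hF]
    group
  rw [hxg, card_sol_conj, card_sol_eq_NT hm hF hp, card_NT_four hm hF a' b' ha', hF]

theorem sol_split (hm : 1 ≤ m) (hF : Fintype.card F = 2 ^ (2 * m + 1)) (hp : (2 * m + 1).Prime)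
    (x : Cfsg.Sz F m) (hx1 : x ≠ 1) (hd : orderOf x ∣ 2 ^ (2 * m + 1) - 1) :
    Nat.card {y : Cfsg.Sz F m //
        Group.IsSolvable (Subgroup.closure ({x, y} : Set (Cfsg.Sz F m)))} =
      2 * (2 ^ (2 * m + 1)) ^ 2 * (2 ^ (2 * m + 1) - 1) := by
  have ho1 : orderOf x ≠ 1 := fun h => hx1 (orderOf_eq_one_iff.mp h)
  have hl := Nat.minFac_prime ho1
  have hlx := Nat.minFac_dvd (orderOf x)
  rw [← hF] at hd
  have hnf : ¬ IsFpf x := by
    intro hf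
    apply not_dvd_both hF hl
    · exact (hlx.trans (Subgroup.orderOf_dvd_natCard _
        (Subgroup.mem_centralizer_singleton_iff.mpr rfl))).trans (card_cent_dvd hm hF hf)
    · exact (hlx.trans hd).trans (dvd_mul_left _ _)
  obtain ⟨j, hj⟩ := card_sub_one_odd hF (m := m)
  have hxj : x ^ (2 * j + 1) = 1 := by
    rw [← hj]
    exact orderOf_dvd_iff_pow_eq_one.mp hd
  obtain ⟨g, k, hk, hxg⟩ := conj_hq_of_fix hm hF x hnf j hxj hx1
  rw [hxg, card_sol_conj, card_sol_eq_NT hm hF hp, card_NT_hq hm hF k hk, hF]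

theorem sol_plus (hm : 1 ≤ m) (hF : Fintype.card F = 2 ^ (2 * m + 1)) (hp : (2 * m + 1).Prime)
    (x : Cfsg.Sz F m) (hx1 : x ≠ 1) (hd : orderOf x ∣ 2 ^ (2 * m + 1) + 2 ^ (m + 1) + 1) :
    Nat.card {y : Cfsg.Sz F m //
        Group.IsSolvable (Subgroup.closure ({x, y} : Set (Cfsg.Sz F m)))} =
      4 * (2 ^ (2 * m + 1) + 2 ^ (m + 1) + 1) := by
  rw [card_sol_eq_NT hm hF hp]
  exact card_NT_of_dvd hm hF x hx1 _ (2 ^ (2 * m + 1) - 2 ^ (m + 1) + 1) (Np_mul_Nm m) (Np_odd m)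
    (fun l hl h1 h2 => Np_Nm_coprime m l hl h1 h2) (Cfsg.Agent.helper11.Sz.main hm hF).1 hd

theorem sol_minus (hm : 1 ≤ m) (hF : Fintype.card F = 2 ^ (2 * m + 1)) (hp : (2 * m + 1).Prime)
    (x : Cfsg.Sz F m) (hx1 : x ≠ 1) (hd : orderOf x ∣ 2 ^ (2 * m + 1) - 2 ^ (m + 1) + 1) :
    Nat.card {y : Cfsg.Sz F m //
        Group.IsSolvable (Subgroup.closure ({x, y} : Set (Cfsg.Sz F m)))} =
      4 * (2 ^ (2 * m + 1) - 2 ^ (m + 1) + 1) := by
  rw [card_sol_eq_NT hm hF hp]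
  exact card_NT_of_dvd hm hF x hx1 _ (2 ^ (2 * m + 1) + 2 ^ (m + 1) + 1)
    (by rw [mul_comm]; exact Np_mul_Nm m) (Nm_odd m)
    (fun l hl h1 h2 => Np_Nm_coprime m l hl h2 h1)
    (fun g hg => ((Cfsg.Agent.helper11.Sz.main hm hF).1 g hg).symm) hd

end

/-- Let G be the Suzuki group Sz(q), q = 2^(2m+1) with 2m + 1 prime and m ≥ 1, realised inside Sp_4(F) for F the field of order q, write r = 2^(m+1) (so r² = 2q), and for x ∈ G call the solubilizer of x the set of y ∈ G such that x and y generate a solvable subgroup. Then the solubilizer of an involution has q²(4q − 3) elements; that of an element of order 4 has q²(q + 3) elements; that of a non-identity element of order dividing q − 1 has 2q²(q − 1) elements; that of a non-identity element of order dividing q + r + 1 has 4(q + r + 1) elements; and that of a non-identity element of order dividing q − r + 1 has 4(q − r + 1) elements. -/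
theorem result {F : Type*} [Field F] [Fintype F] {m : ℕ} (hm : 1 ≤ m)
    (hp : (2 * m + 1).Prime) (hF : Fintype.card F = 2 ^ (2 * m + 1)) (x : ↥(Cfsg.Lie.Sz F (2 ^ (m + 1)))) :
    (orderOf x = 2 → Nat.card {y : ↥(Cfsg.Lie.Sz F (2 ^ (m + 1))) // Group.IsSolvable ↥(Subgroup.closure ({x, y} : Set (↥(Cfsg.Lie.Sz F (2 ^ (m + 1))))))} = (2 ^ (2 * m + 1)) ^ 2 * (4 * 2 ^ (2 * m + 1) - 3)) ∧
    (orderOf x = 4 → Nat.card {y : ↥(Cfsg.Lie.Sz F (2 ^ (m + 1))) // Group.IsSolvable ↥(Subgroup.closure ({x, y} : Set (↥(Cfsg.Lie.Sz F (2 ^ (m + 1))))))} = (2 ^ (2 * m + 1)) ^ 2 * (2 ^ (2 * m + 1) + 3)) ∧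
    (x ≠ 1 → orderOf x ∣ 2 ^ (2 * m + 1) - 1 →
      Nat.card {y : ↥(Cfsg.Lie.Sz F (2 ^ (m + 1))) // Group.IsSolvable ↥(Subgroup.closure ({x, y} : Set (↥(Cfsg.Lie.Sz F (2 ^ (m + 1))))))} = 2 * (2 ^ (2 * m + 1)) ^ 2 * (2 ^ (2 * m + 1) - 1)) ∧
    (x ≠ 1 → orderOf x ∣ 2 ^ (2 * m + 1) + 2 ^ (m + 1) + 1 → Nat.card {y : ↥(Cfsg.Lie.Sz F (2 ^ (m + 1))) // Group.IsSolvable ↥(Subgroup.closure ({x, y} : Set (↥(Cfsg.Lie.Sz F (2 ^ (m + 1))))))} = 4 * (2 ^ (2 * m + 1) + 2 ^ (m + 1) + 1)) ∧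
    (x ≠ 1 → orderOf x ∣ 2 ^ (2 * m + 1) - 2 ^ (m + 1) + 1 → Nat.card {y : ↥(Cfsg.Lie.Sz F (2 ^ (m + 1))) // Group.IsSolvable ↥(Subgroup.closure ({x, y} : Set (↥(Cfsg.Lie.Sz F (2 ^ (m + 1))))))} = 4 * (2 ^ (2 * m + 1) - 2 ^ (m + 1) + 1)) := by
  haveI := Cfsg.Agent.helper11.Sz.charP_two hF
  have he := card_sol_equiv (lieSzEquiv hm hF) ((lieSzEquiv hm hF).symm x)
  rw [MulEquiv.apply_symm_apply] at he
  have ho : orderOf ((lieSzEquiv hm hF).symm x) = orderOf x := MulEquiv.orderOf_eq _ x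
  have h1 : x ≠ 1 → (lieSzEquiv hm hF).symm x ≠ 1 := by
    intro h h'
    apply h
    have h2 := congrArg (lieSzEquiv hm hF) h'
    rwa [MulEquiv.apply_symm_apply, map_one] at h2
  rw [he]
  refine ⟨fun h => sol_two hm hF hp _ (ho.trans h), fun h => sol_four hm hF hp _ (ho.trans h),
    fun h hd => sol_split hm hF hp _ (h1 h) (by rw [ho]; exact hd),
    fun h hd => sol_plus hm hF hp _ (h1 h) (by rw [ho]; exact hd),
    fun h hd => sol_minus hm hF hp _ (h1 h) (by rw [ho]; exact hd)⟩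

end Cfsg.Agent.S2259
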