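import Cfsg.Statements.S2260

set_option autoImplicit false
open Cfsg

namespace Cfsg.Agent.S2260

theorem nilp_pow_card {F : Type*} [Field F] {d : ℕ} (N : Matrix (Fin d) (Fin d) F)
    (hN : IsNilpotent N) : N ^ d = 0 := by
  have h1 := Matrix.isNilpotent_charpoly_sub_pow_of_isNilpotent hN
  have h2 : N.charpoly - Polynomial.X ^ (Fintype.card (Fin d)) = 0 := h1.eq_zero
  have h3 : N.charpoly = Polynomial.X ^ d := by
    have := sub_eq_zero.mp h2
    simpa using this
  have h4 := Matrix.aeval_self_charpoly N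
  rw [h3] at h4
  simpa using h4

theorem result {F : Type*} [Field F] [Finite F] (p : ℕ) [Fact p.Prime] [CharP F p] (d : ℕ)
    (u : GL (Fin d) F) (hu : IsNilpotent ((u : Matrix (Fin d) (Fin d) F) - 1)) :
    orderOf u ≤ p ^ Nat.clog p d ∧
    (((u : Matrix (Fin d) (Fin d) F) - 1) ^ (d - 1) ≠ 0 → orderOf u = p ^ Nat.clog p d) := by
  have hp : p.Prime := Fact.out
  rcases Nat.eq_zero_or_pos d with hd | hd
  · subst hd
    have : u = 1 := Subsingleton.elim _ _
    subst this
    refine ⟨by simp, fun h => ?_⟩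
    exact absurd (Subsingleton.elim _ _) h
  have : Nonempty (Fin d) := ⟨⟨0, hd⟩⟩
  have : CharP (Matrix (Fin d) (Fin d) F) p := inferInstance
  set N : Matrix (Fin d) (Fin d) F := (u : Matrix (Fin d) (Fin d) F) - 1 with hNdef
  have hNd : N ^ d = 0 := nilp_pow_card N hu
  have key : ∀ j : ℕ, N ^ (p ^ j) = ((u ^ (p ^ j) : GL (Fin d) F) : Matrix (Fin d) (Fin d) F) - 1 := by
    intro j
    rw [hNdef, sub_pow_char_pow_of_commute p j (Commute.one_right _)]
    simp
  have hle : d ≤ p ^ Nat.clog p d := Nat.le_pow_clog hp.one_lt d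
  have hpow : u ^ (p ^ Nat.clog p d) = 1 := by
    have h0 : N ^ (p ^ Nat.clog p d) = 0 := by
      obtain ⟨c, hc⟩ := Nat.exists_eq_add_of_le hle
      rw [hc, pow_add, hNd, zero_mul]
    rw [key] at h0
    apply Units.ext
    simpa [sub_eq_zero] using h0
  have hdvd : orderOf u ∣ p ^ Nat.clog p d := orderOf_dvd_of_pow_eq_one hpow
  refine ⟨Nat.le_of_dvd (pow_pos hp.pos _) hdvd, fun hne => ?_⟩
  obtain ⟨j, hj, hju⟩ := (Nat.dvd_prime_pow hp).mp hdvd
  rcases Nat.lt_or_ge j (Nat.clog p d) with hlt | hge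
  · exfalso
    apply hne
    have h1 : p ^ j < d := (Nat.lt_clog_iff_pow_lt hp.one_lt).mp hlt
    have h2 : p ^ j ≤ d - 1 := by omega
    have h3 : N ^ (p ^ j) = 0 := by
      rw [key, ← hju, pow_orderOf_eq_one]
      simp
    obtain ⟨c, hc⟩ := Nat.exists_eq_add_of_le h2
    rw [hc, pow_add, h3, zero_mul]
  · have : j = Nat.clog p d := le_antisymm hj hge
    rw [hju, this]

end Cfsg.Agent.S2260
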