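import Cfsg.Statements.S2261

set_option autoImplicit false
open Cfsg

namespace Cfsg.Agent.S2261

open Matrix Polynomial

variable {F : Type*} [Field F] [Fintype F]

/-- every polynomial in M lies in the image of the "low degree" map -/
lemma aeval_mem_image {d : ℕ} (hd : 1 ≤ d) (M : Matrix (Fin d) (Fin d) F) (p : F[X]) :
    ∃ c : Fin d → F, aeval M p = ∑ i : Fin d, c i • M ^ (i : ℕ) := by
  have hχ : aeval M M.charpoly = 0 := Matrix.aeval_self_charpoly M
  have hmonic : M.charpoly.Monic := Matrix.charpoly_monic M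
  have hdeg : M.charpoly.natDegree = d := by simpa using Matrix.charpoly_natDegree_eq_dim M
  have h1 : aeval M (p %ₘ M.charpoly) = aeval M p := Polynomial.aeval_modByMonic_eq_self_of_root hχ
  have hne1 : M.charpoly ≠ 1 := by
    intro h
    rw [h] at hdeg
    simp at hdeg
    omega
  have h2 : (p %ₘ M.charpoly).natDegree < d := by
    have := Polynomial.natDegree_modByMonic_lt p hmonic hne1
    omega
  refine ⟨fun i => (p %ₘ M.charpoly).coeff i, ?_⟩
  rw [← h1, Polynomial.aeval_eq_sum_range' h2 M]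
  exact (Fin.sum_univ_eq_sum_range (fun i => (p %ₘ M.charpoly).coeff i • M ^ i) d).symm

theorem part_a {d : ℕ} (hd : 1 ≤ d) (g : GL (Fin d) F) :
    (Fintype.card F - 1) * orderOf (g : GL (Fin d) F ⧸ Subgroup.center (GL (Fin d) F))
      ≤ Fintype.card F ^ d - 1 := by
  classical
  haveI : NeZero d := ⟨by omega⟩
  set n := orderOf (g : GL (Fin d) F ⧸ Subgroup.center (GL (Fin d) F)) with hn
  set M : Matrix (Fin d) (Fin d) F := g.val with hM
  let W : Finset (Matrix (Fin d) (Fin d) F) :=
    Finset.univ.image (fun c : Fin d → F => ∑ i, c i • M^(i:ℕ))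
  have hW : W.card ≤ Fintype.card F ^ d := by
    calc W.card ≤ (Finset.univ : Finset (Fin d → F)).card := Finset.card_image_le
      _ = Fintype.card F ^ d := by simp
  have h0 : (0 : Matrix (Fin d) (Fin d) F) ∈ W := by
    refine Finset.mem_image.mpr ⟨0, Finset.mem_univ _, by simp⟩
  have hval : ∀ (c : Fˣ) (i : ℕ),
      ((Matrix.GeneralLinearGroup.scalar (Fin d) c * g ^ i : GL (Fin d) F) :
        Matrix (Fin d) (Fin d) F) = (c : F) • M ^ i := by
    intro c i
    rw [Units.val_mul, Units.val_pow_eq_pow_val, Matrix.GeneralLinearGroup.coe_scalar,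
      Matrix.scalar_apply, ← Matrix.smul_eq_diagonal_mul]
  let φ : Fˣ × Fin n → Matrix (Fin d) (Fin d) F := fun x => (x.1 : F) • M ^ (x.2 : ℕ)
  have hφW : ∀ x ∈ (Finset.univ : Finset (Fˣ × Fin n)), φ x ∈ W.erase 0 := by
    intro x _
    rw [Finset.mem_erase]
    constructor
    · show (x.1 : F) • M ^ (x.2 : ℕ) ≠ 0
      rw [← hval]
      exact Units.ne_zero _
    · obtain ⟨c, hc⟩ := aeval_mem_image hd M (C (x.1 : F) * X ^ (x.2 : ℕ))
      refine Finset.mem_image.mpr ⟨c, Finset.mem_univ _, ?_⟩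
      rw [← hc]
      simp [φ, Algebra.smul_def]
  have hinj : Set.InjOn φ (Finset.univ : Finset (Fˣ × Fin n)) := by
    rintro ⟨c, i⟩ _ ⟨c', j⟩ _ h
    have h' : (Matrix.GeneralLinearGroup.scalar (Fin d) c * g ^ (i:ℕ) : GL (Fin d) F)
        = Matrix.GeneralLinearGroup.scalar (Fin d) c' * g ^ (j:ℕ) := by
      apply Units.ext
      rw [hval, hval]
      exact h
    have hcen : ∀ c : Fˣ, Matrix.GeneralLinearGroup.scalar (Fin d) c
        ∈ Subgroup.center (GL (Fin d) F) := by
      intro c
      rw [Matrix.GeneralLinearGroup.center_eq_range_scalar]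
      exact ⟨c, rfl⟩
    have hq : (g : GL (Fin d) F ⧸ Subgroup.center (GL (Fin d) F)) ^ (i:ℕ)
        = (g : GL (Fin d) F ⧸ Subgroup.center (GL (Fin d) F)) ^ (j:ℕ) := by
      have := congrArg (QuotientGroup.mk (s := Subgroup.center (GL (Fin d) F))) h'
      rw [QuotientGroup.mk_mul, QuotientGroup.mk_mul,
        (QuotientGroup.eq_one_iff _).mpr (hcen c), (QuotientGroup.eq_one_iff _).mpr (hcen c'),
        one_mul, one_mul, QuotientGroup.mk_pow, QuotientGroup.mk_pow] at this
      exact this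
    have hij : (i : ℕ) = j := pow_injOn_Iio_orderOf (Set.mem_Iio.mpr i.2) (Set.mem_Iio.mpr j.2) hq
    have hij' : i = j := Fin.ext hij
    subst hij'
    have hcc : Matrix.GeneralLinearGroup.scalar (Fin d) c
        = Matrix.GeneralLinearGroup.scalar (Fin d) c' := mul_right_cancel h'
    have : (c : F) = c' := by
      have := congrArg (fun u : GL (Fin d) F => (u : Matrix (Fin d) (Fin d) F) 0 0) hcc
      simpa using this
    rw [Units.ext this]
  have hcard := Finset.card_le_card_of_injOn φ hφW hinj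
  rw [Finset.card_univ, Fintype.card_prod, Fintype.card_units, Fintype.card_fin,
    Finset.card_erase_of_mem h0] at hcard
  omega

theorem part_b {d : ℕ} (hd : 1 ≤ d) :
    ∃ g : GL (Fin d) F, Fintype.card F ^ d - 1 ≤
      (Fintype.card F - 1) * orderOf (g : GL (Fin d) F ⧸ Subgroup.center (GL (Fin d) F)) := by
  classical
  haveI : NeZero d := ⟨by omega⟩
  obtain ⟨p, hp⟩ := CharP.exists F
  haveI : Fact p.Prime := ⟨CharP.char_is_prime F p⟩
  let K := FiniteField.Extension F p d
  haveI : Fintype K := Fintype.ofFinite K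
  have hfr : Module.finrank F K = d := FiniteField.finrank_extension F p d
  have hcardK : Fintype.card K = Fintype.card F ^ d := by
    rw [Fintype.card_eq_nat_card, FiniteField.natCard_extension, Nat.card_eq_fintype_card]
  let b : Module.Basis (Fin d) F K := Module.finBasisOfFinrankEq F K hfr
  obtain ⟨ζ, hζ⟩ := IsCyclic.exists_generator (α := Kˣ)
  have hζord : orderOf ζ = Fintype.card F ^ d - 1 := by
    rw [orderOf_eq_card_of_forall_mem_zpowers hζ, Nat.card_eq_fintype_card, Fintype.card_units,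
      hcardK]
  let ψ : K →ₐ[F] Matrix (Fin d) (Fin d) F := Algebra.leftMulMatrix b
  have hψinj : Function.Injective ψ := Algebra.leftMulMatrix_injective b
  let Ψ : Kˣ →* GL (Fin d) F := Units.map (ψ : K →* Matrix (Fin d) (Fin d) F)
  have hΨinj : Function.Injective Ψ := Units.map_injective hψinj
  refine ⟨Ψ ζ, ?_⟩
  set n := orderOf (Ψ ζ : GL (Fin d) F ⧸ Subgroup.center (GL (Fin d) F)) with hn
  have hnpos : 0 < n := orderOf_pos _
  have h1 : (Ψ ζ) ^ n ∈ Subgroup.center (GL (Fin d) F) := by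
    rw [← QuotientGroup.eq_one_iff, QuotientGroup.mk_pow]
    exact pow_orderOf_eq_one _
  rw [Matrix.GeneralLinearGroup.center_eq_range_scalar] at h1
  obtain ⟨c, hc⟩ := h1
  have h2 : (Ψ ζ) ^ (n * (Fintype.card F - 1)) = 1 := by
    rw [pow_mul, ← hc, ← map_pow, ← Fintype.card_units, pow_card_eq_one, map_one]
  have h3 : ζ ^ (n * (Fintype.card F - 1)) = 1 := by
    apply hΨinj
    rw [map_pow, map_one]
    exact h2
  have h4 := orderOf_dvd_of_pow_eq_one h3
  rw [hζord] at h4
  have hq : 1 < Fintype.card F := Fintype.one_lt_card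
  have h5 : 0 < n * (Fintype.card F - 1) := Nat.mul_pos hnpos (by omega)
  have := Nat.le_of_dvd h5 h4
  rw [mul_comm] at this
  exact this

theorem result {F : Type*} [Field F] [Fintype F] (d : ℕ) (hd : 1 ≤ d) :
    (∀ g : (GL (Fin d) F ⧸ Subgroup.center (GL (Fin d) F)), (Fintype.card F - 1) * orderOf g ≤ Fintype.card F ^ d - 1) ∧
    (∃ g : (GL (Fin d) F ⧸ Subgroup.center (GL (Fin d) F)), (Fintype.card F - 1) * orderOf g = Fintype.card F ^ d - 1) := by
  refine ⟨fun g => ?_, ?_⟩
  · obtain ⟨g, rfl⟩ := QuotientGroup.mk_surjective g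
    exact part_a hd g
  · obtain ⟨g, hg⟩ := part_b (F := F) hd
    exact ⟨g, le_antisymm (part_a hd g) hg⟩

end Cfsg.Agent.S2261
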