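import Cfsg.Statements.S2268

set_option autoImplicit false
open Cfsg

namespace Cfsg.Agent.S2268

open Subgroup MulAction

theorem relIndex_sup_of_le_normalizer {G : Type*} [Group G] (H N : Subgroup G)
    (hLE : H ≤ normalizer (N : Set G)) : N.relIndex (H ⊔ N) = N.relIndex H := by
  have := Subgroup.normal_subgroupOf_of_le_normalizer hLE
  have := Subgroup.normal_subgroupOf_sup_of_le_normalizer hLE
  exact Nat.card_congr (QuotientGroup.quotientInfEquivProdNormalizerQuotient H N hLE).toEquiv.symm

theorem relIndex_dvd_of_le_of_le_normalizer {G : Type*} [Group G] (H K L : Subgroup G)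
    (hKL : K ≤ L) (hL : L ≤ normalizer (H : Set G)) : H.relIndex K ∣ H.relIndex L := by
  rw [← relIndex_sup_of_le_normalizer K H (hKL.trans hL), ← relIndex_sup_of_le_normalizer L H hL]
  rw [← relIndex_mul_relIndex H (K ⊔ H) (L ⊔ H) le_sup_right (sup_le_sup_right hKL H)]
  exact dvd_mul_right _ _

theorem normalizer_le_normalizer_centralizer {G : Type*} [Group G] (Q : Subgroup G) :
    normalizer (Q : Set G) ≤ normalizer ((centralizer (Q : Set G) : Subgroup G) : Set G) := by
  intro n hn
  rw [mem_normalizer_iff]
  have key : ∀ m : G, m ∈ normalizer (Q : Set G) → ∀ c ∈ centralizer (Q : Set G),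
      m * c * m⁻¹ ∈ centralizer (Q : Set G) := by
    intro m hm c hc
    rw [mem_centralizer_iff] at hc ⊢
    intro y hy
    have hy' : m⁻¹ * y * m ∈ Q := by
      have h2 : m * (m⁻¹ * y) ∈ Q := by simpa using hy
      simpa [mul_assoc] using (mem_normalizer_iff'.mp hm (m⁻¹ * y)).mpr h2
    have h := hc _ hy'
    calc y * (m * c * m⁻¹) = m * ((m⁻¹ * y * m) * c) * m⁻¹ := by group
      _ = m * (c * (m⁻¹ * y * m)) * m⁻¹ := by rw [h]
      _ = m * c * m⁻¹ * y := by group
  intro c
  constructor
  · exact key n hn c
  · intro h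
    have := key n⁻¹ (inv_mem hn) _ h
    simpa [mul_assoc] using this

theorem result {G : Type*} [Group G] [Finite G] {p : ℕ} [Fact p.Prime]
    (P : Sylow p G) (hP : IsMulCommutative (P : Subgroup G)) (Q : Subgroup G) (hQ : Q ≤ (P : Subgroup G)) :
    Subgroup.normalizer (Q : Set G) =
      (Subgroup.normalizer (Q : Set G) ⊓ Subgroup.normalizer ((P : Subgroup G) : Set G)) ⊔ Subgroup.centralizer (Q : Set G) ∧
    ((Subgroup.centralizer (Q : Set G)).subgroupOf (Subgroup.normalizer (Q : Set G))).index ∣ ((Subgroup.centralizer ((P : Subgroup G) : Set G)).subgroupOf (Subgroup.normalizer ((P : Subgroup G) : Set G))).index := by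
  have hPC : (P : Subgroup G) ≤ centralizer (Q : Set G) := by
    intro y hy
    rw [mem_centralizer_iff]
    intro q hq
    have := hP.is_comm.comm (⟨q, hQ hq⟩ : (P : Subgroup G)) ⟨y, hy⟩
    exact congrArg Subtype.val this
  have part1 : normalizer (Q : Set G) =
      (normalizer (Q : Set G) ⊓ normalizer ((P : Subgroup G) : Set G)) ⊔ centralizer (Q : Set G) := by
    apply le_antisymm
    · intro g hg
      have h2 : ↑(g • P) ≤ centralizer (Q : Set G) := by
        rintro - ⟨z, hz, rfl⟩
        rw [mem_centralizer_iff]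
        intro q hq
        have hq' : g⁻¹ * q * g ∈ Q := by
          have h2 : g * (g⁻¹ * q) ∈ Q := by simpa using hq
          simpa [mul_assoc] using (mem_normalizer_iff'.mp hg (g⁻¹ * q)).mpr h2
        have hc := (mem_centralizer_iff.mp (hPC hz)) _ hq'
        simp only [MulDistribMulAction.toMonoidEnd_apply, MulDistribMulAction.toMonoidHom_apply,
          MulAut.smul_def, MulAut.conj_apply]
        calc q * (g * z * g⁻¹) = g * ((g⁻¹ * q * g) * z) * g⁻¹ := by group
          _ = g * (z * (g⁻¹ * q * g)) * g⁻¹ := by rw [hc]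
          _ = g * z * g⁻¹ * q := by group
      obtain ⟨h, hh⟩ :=
        exists_smul_eq (centralizer (Q : Set G)) ((g • P).subtype h2) (P.subtype hPC)
      simp_rw [Sylow.smul_subtype, Subgroup.smul_def, smul_smul] at hh
      have hn : (h : G) * g ∈ normalizer ((P : Subgroup G) : Set G) :=
        Sylow.smul_eq_iff_mem_normalizer.mp (Sylow.subtype_injective hh)
      have hhN : (h : G) ∈ normalizer (Q : Set G) := centralizer_le_normalizer _ h.2
      have : g = (h : G)⁻¹ * ((h : G) * g) := by group
      rw [this]
      rw [sup_comm]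
      exact mul_mem_sup (inv_mem h.2) ⟨mul_mem hhN hg, hn⟩
    · exact sup_le inf_le_left (centralizer_le_normalizer _)
  refine ⟨part1, ?_⟩
  change (centralizer (Q : Set G)).relIndex (normalizer (Q : Set G)) ∣
    (centralizer ((P : Subgroup G) : Set G)).relIndex (normalizer ((P : Subgroup G) : Set G))
  set A := normalizer (Q : Set G) ⊓ normalizer ((P : Subgroup G) : Set G) with hA
  have e1 : (centralizer (Q : Set G)).relIndex (normalizer (Q : Set G)) =
      (centralizer (Q : Set G)).relIndex A := by
    conv_lhs => rw [part1]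
    exact relIndex_sup_of_le_normalizer A _
      (inf_le_left.trans (normalizer_le_normalizer_centralizer Q))
  have e2 : (centralizer (Q : Set G)).relIndex A ∣ (centralizer ((P : Subgroup G) : Set G)).relIndex A :=
    relIndex_dvd_of_le_left A (centralizer_le hQ)
  have e3 : (centralizer ((P : Subgroup G) : Set G)).relIndex A ∣
      (centralizer ((P : Subgroup G) : Set G)).relIndex (normalizer ((P : Subgroup G) : Set G)) :=
    relIndex_dvd_of_le_of_le_normalizer _ A _ inf_le_right
      (normalizer_le_normalizer_centralizer (P : Subgroup G))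
  rw [e1]
  exact e2.trans e3

end Cfsg.Agent.S2268
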