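import Cfsg.Statements.S2269
import Cfsg.Agent.Lib_helper11_Automizer

set_option autoImplicit false
open Cfsg

namespace Cfsg.Agent.S2269

open Equiv Subgroup

/-! ### conjugating to the inverse inside the alternating group -/

theorem conj_inv_in_alt {α : Type*} [Fintype α] [DecidableEq α] (x : alternatingGroup α)
    (h : ¬ Subgroup.centralizer {(x : Equiv.Perm α)} ≤ alternatingGroup α) :
    ∃ g : alternatingGroup α, g⁻¹ * x * g = x⁻¹ := by
  obtain ⟨k, hk, hkA⟩ := SetLike.not_le_iff_exists.mp h
  have hkx : k * (x : Equiv.Perm α) = x * k := Subgroup.mem_centralizer_singleton_iff.mp hk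
  have hconj : IsConj (x : Equiv.Perm α) (x : Equiv.Perm α)⁻¹ := by
    rw [Equiv.Perm.isConj_iff_cycleType_eq, Equiv.Perm.cycleType_inv]
  obtain ⟨c, hc⟩ := isConj_iff.mp hconj
  have hsk : Equiv.Perm.sign k = -1 := by
    rcases Int.units_eq_one_or (Equiv.Perm.sign k) with h1 | h1
    · exact absurd (Equiv.Perm.mem_alternatingGroup.mpr h1) hkA
    · exact h1
  by_cases hcA : c ∈ alternatingGroup α
  · refine ⟨(⟨c, hcA⟩ : alternatingGroup α)⁻¹, ?_⟩
    apply Subtype.ext
    rw [inv_inv]
    exact hc
  · have hsc : Equiv.Perm.sign c = -1 := by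
      rcases Int.units_eq_one_or (Equiv.Perm.sign c) with h1 | h1
      · exact absurd (Equiv.Perm.mem_alternatingGroup.mpr h1) hcA
      · exact h1
    have hckA : c * k ∈ alternatingGroup α := by
      rw [Equiv.Perm.mem_alternatingGroup, map_mul, hsc, hsk]
      simp
    refine ⟨(⟨c * k, hckA⟩ : alternatingGroup α)⁻¹, ?_⟩
    apply Subtype.ext
    rw [inv_inv]
    show c * k * (x : Equiv.Perm α) * (c * k)⁻¹ = (x : Equiv.Perm α)⁻¹
    rw [← hc, mul_inv_rev]
    calc c * k * (x : Equiv.Perm α) * (k⁻¹ * c⁻¹)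
        = c * (k * (x : Equiv.Perm α) * k⁻¹) * c⁻¹ := by group
      _ = c * (x : Equiv.Perm α) * c⁻¹ := by rw [hkx, mul_inv_cancel_right]

/-! ### the odd case -/

theorem odd_case (n : ℕ) {p : ℕ} [Fact p.Prime] (hp2 : p ≠ 2)
    (P : Sylow p (alternatingGroup (Fin n)))
    (hP : IsMulCommutative (P : Subgroup (alternatingGroup (Fin n)))) :
    2 ∣ ((Subgroup.centralizer ((P : Subgroup (alternatingGroup (Fin n))) : Set (alternatingGroup (Fin n)))).subgroupOf (Subgroup.normalizer ((P : Subgroup (alternatingGroup (Fin n))) : Set (alternatingGroup (Fin n))))).index ∨ IsCyclic (P : Subgroup (alternatingGroup (Fin n))) := by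
  have hpp : p.Prime := Fact.out
  by_cases hbot : (P : Subgroup (alternatingGroup (Fin n))) = ⊥
  · right
    have hss : Subsingleton (P : Subgroup (alternatingGroup (Fin n))) := by
      rw [hbot]; infer_instance
    exact isCyclic_of_subsingleton
  obtain ⟨k, hk⟩ := IsPGroup.exists_card_eq (P.isPGroup')
  have hk0 : k ≠ 0 := by
    rintro rfl
    rw [pow_zero] at hk
    exact hbot (Subgroup.card_eq_one.mp hk)
  have hdvd : p ∣ Nat.card (P : Subgroup (alternatingGroup (Fin n))) := by
    rw [hk]; exact dvd_pow_self p hk0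
  obtain ⟨x, hx⟩ := exists_prime_orderOf_dvd_card' p hdvd
  set y : Equiv.Perm (Fin n) := ((x : alternatingGroup (Fin n)) : Equiv.Perm (Fin n)) with hy
  have hyo : orderOf y = p := by
    rw [hy, Subgroup.orderOf_coe, Subgroup.orderOf_coe, hx]
  by_cases hc : Subgroup.centralizer {y} ≤ alternatingGroup (Fin n)
  · right
    obtain ⟨_, hcard, hcount⟩ := Equiv.Perm.centralizer_le_alternating_iff.mp hc
    obtain ⟨j, hj⟩ := Equiv.Perm.cycleType_prime_order (σ := y) (by rw [hyo]; exact hpp)
    rw [hyo] at hj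
    have hj0 : j = 0 := by
      have := hcount p
      rw [hj, Multiset.count_replicate_self] at this
      omega
    subst hj0
    have hsum : y.cycleType.sum = p := by rw [hj]; simp
    rw [hsum, Fintype.card_fin] at hcard
    have hcardc : Nat.card (Subgroup.centralizer {y}) = p := by
      rw [Equiv.Perm.nat_card_centralizer, hj]
      have h1 : n - p ≤ 1 := by omega
      have h2 : (n - p).factorial = 1 := Nat.factorial_eq_one.mpr h1
      simp [h2]
    have hle : Nat.card (P : Subgroup (alternatingGroup (Fin n))) ≤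
        Nat.card (Subgroup.centralizer {y}) := by
      apply Nat.card_le_card_of_injective
        (fun z : (P : Subgroup (alternatingGroup (Fin n))) =>
          (⟨((z : alternatingGroup (Fin n)) : Equiv.Perm (Fin n)), by
            rw [Subgroup.mem_centralizer_singleton_iff]
            have := hP.is_comm.comm z x
            have h2 := congrArg (fun w : (P : Subgroup (alternatingGroup (Fin n))) =>
              ((w : alternatingGroup (Fin n)) : Equiv.Perm (Fin n))) this
            exact h2⟩ : Subgroup.centralizer {y}))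
      intro z1 z2 h
      have := congrArg Subtype.val h
      exact Subtype.ext (Subtype.ext this)
    rw [hcardc, hk] at hle
    have hk1 : k = 1 := by
      have : k ≤ 1 := by
        by_contra hlt
        push Not at hlt
        have h2 : p ^ 2 ≤ p ^ k := Nat.pow_le_pow_right hpp.pos hlt
        have h3 : p < p ^ 2 := by
          have := hpp.two_le
          nlinarith
        omega
      omega
    rw [hk1, pow_one] at hk
    exact isCyclic_of_prime_card hk
  · left
    obtain ⟨g, hg⟩ := conj_inv_in_alt (x : alternatingGroup (Fin n)) hc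
    have hne : (x : alternatingGroup (Fin n))⁻¹ ≠ (x : alternatingGroup (Fin n)) := by
      intro h
      have h2 : (x : alternatingGroup (Fin n)) ^ 2 = 1 := by
        rw [pow_two]
        nth_rewrite 1 [← h]
        exact inv_mul_cancel _
      have h3 : orderOf (x : alternatingGroup (Fin n)) ∣ 2 := orderOf_dvd_of_pow_eq_one h2
      rw [Subgroup.orderOf_coe, hx] at h3
      exact hp2 ((Nat.prime_dvd_prime_iff_eq hpp Nat.prime_two).mp h3)
    exact Cfsg.Agent.helper11.even_automizer_of_conj_inv P hP _ g x.2 hne hg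

/-! ### Sylow 2-subgroups of `A_n`, `n ≥ 6`, are not abelian -/

def a6 : Equiv.Perm (Fin 6) := Equiv.swap 0 1 * Equiv.swap 1 2 * Equiv.swap 2 3 * Equiv.swap 4 5
def b6 : Equiv.Perm (Fin 6) := Equiv.swap 0 2 * Equiv.swap 4 5

theorem a6_sign : Equiv.Perm.sign a6 = 1 := by decide
theorem b6_sign : Equiv.Perm.sign b6 = 1 := by decide
theorem a6_pow : a6 ^ 4 = 1 := by decide
theorem b6_pow : b6 ^ 2 = 1 := by decide
theorem b6_conj : b6 * a6 * b6⁻¹ = a6⁻¹ := by decide
theorem b6_conj' : b6⁻¹ * a6 * b6 = a6⁻¹ := by decide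
theorem ab_ne : a6 * b6 ≠ b6 * a6 := by decide

theorem sylow2_not_comm (n : ℕ) (hn : 6 ≤ n) (P : Sylow 2 (alternatingGroup (Fin n)))
    (hP : IsMulCommutative (P : Subgroup (alternatingGroup (Fin n)))) : False := by
  classical
  let f : Fin 6 ≃ Subtype (fun i : Fin n => i ∈ Set.range (Fin.castLEEmb hn)) :=
    (Fin.castLEEmb hn).toEquivRange
  let ψ : Equiv.Perm (Fin 6) →* Equiv.Perm (Fin n) := Equiv.Perm.extendDomainHom f
  have hψinj : Function.Injective ψ := Equiv.Perm.extendDomainHom_injective f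
  have hsign : ∀ σ, Equiv.Perm.sign (ψ σ) = Equiv.Perm.sign σ :=
    fun σ => Equiv.Perm.sign_extendDomain σ f
  let a : alternatingGroup (Fin n) :=
    ⟨ψ a6, by rw [Equiv.Perm.mem_alternatingGroup, hsign, a6_sign]⟩
  let b : alternatingGroup (Fin n) :=
    ⟨ψ b6, by rw [Equiv.Perm.mem_alternatingGroup, hsign, b6_sign]⟩
  have ha4 : a ^ 4 = 1 := by
    apply Subtype.ext
    show (ψ a6) ^ 4 = 1
    rw [← map_pow, a6_pow, map_one]
  have hb2 : b ^ 2 = 1 := by
    apply Subtype.ext
    show (ψ b6) ^ 2 = 1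
    rw [← map_pow, b6_pow, map_one]
  have hconj : b * a * b⁻¹ = a⁻¹ := by
    apply Subtype.ext
    show ψ b6 * ψ a6 * (ψ b6)⁻¹ = (ψ a6)⁻¹
    rw [← map_inv, ← map_mul, ← map_mul, b6_conj, map_inv]
  have hconj' : b⁻¹ * a * b = a⁻¹ := by
    apply Subtype.ext
    show (ψ b6)⁻¹ * ψ a6 * ψ b6 = (ψ a6)⁻¹
    rw [← map_inv, ← map_mul, ← map_mul, b6_conj', map_inv]
  have hne : a * b ≠ b * a := by
    intro h
    have h' : ψ a6 * ψ b6 = ψ b6 * ψ a6 := congrArg Subtype.val h
    rw [← map_mul, ← map_mul] at h'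
    exact ab_ne (hψinj h')
  have hpa : IsPGroup 2 (Subgroup.zpowers a) := by
    have h1 : orderOf a ∣ 2 ^ 2 := orderOf_dvd_of_pow_eq_one ha4
    obtain ⟨j, _, hj⟩ := (Nat.dvd_prime_pow Nat.prime_two).mp h1
    exact IsPGroup.of_card (by rw [Nat.card_zpowers, hj])
  have hpb : IsPGroup 2 (Subgroup.zpowers b) := by
    have h1 : orderOf b ∣ 2 ^ 1 := orderOf_dvd_of_pow_eq_one hb2
    obtain ⟨j, _, hj⟩ := (Nat.dvd_prime_pow Nat.prime_two).mp h1
    exact IsPGroup.of_card (by rw [Nat.card_zpowers, hj])
  have hnorm : Subgroup.zpowers b ≤ Subgroup.normalizer ((Subgroup.zpowers a : Subgroup (alternatingGroup (Fin n))) : Set (alternatingGroup (Fin n))) := by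
    rw [Subgroup.zpowers_le, Subgroup.mem_normalizer_iff]
    intro h
    constructor
    · intro hh
      obtain ⟨k, rfl⟩ := Subgroup.mem_zpowers_iff.mp hh
      rw [← conj_zpow, hconj]
      exact zpow_mem (inv_mem (Subgroup.mem_zpowers a)) k
    · intro hh
      obtain ⟨k, hk⟩ := Subgroup.mem_zpowers_iff.mp hh
      have h1 : h = b⁻¹ * a ^ k * b⁻¹⁻¹ := by rw [hk]; group
      rw [h1, ← conj_zpow, inv_inv, hconj']
      exact zpow_mem (inv_mem (Subgroup.mem_zpowers a)) k
  have hH : IsPGroup 2 (Subgroup.zpowers b ⊔ Subgroup.zpowers a : Subgroup (alternatingGroup (Fin n))) :=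
    IsPGroup.to_sup_of_normal_right' hpb hpa hnorm
  obtain ⟨Q, hQ⟩ := hH.exists_le_sylow
  obtain ⟨g, hg⟩ := MulAction.exists_smul_eq (alternatingGroup (Fin n)) P Q
  have haQ : a ∈ (Q : Subgroup (alternatingGroup (Fin n))) :=
    hQ (Subgroup.mem_sup_right (Subgroup.mem_zpowers a))
  have hbQ : b ∈ (Q : Subgroup (alternatingGroup (Fin n))) :=
    hQ (Subgroup.mem_sup_left (Subgroup.mem_zpowers b))
  rw [← hg, Sylow.coe_subgroup_smul, Subgroup.mem_smul_pointwise_iff_exists] at haQ hbQ
  obtain ⟨s1, hs1, hs1a⟩ := haQ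
  obtain ⟨s2, hs2, hs2b⟩ := hbQ
  rw [MulAut.smul_def, MulAut.conj_apply] at hs1a hs2b
  have hcomm : s1 * s2 = s2 * s1 := by
    have := hP.is_comm.comm (⟨s1, hs1⟩ : (P : Subgroup (alternatingGroup (Fin n)))) ⟨s2, hs2⟩
    exact congrArg Subtype.val this
  apply hne
  rw [← hs1a, ← hs2b]
  calc g * s1 * g⁻¹ * (g * s2 * g⁻¹) = g * (s1 * s2) * g⁻¹ := by group
    _ = g * (s2 * s1) * g⁻¹ := by rw [hcomm]
    _ = g * s2 * g⁻¹ * (g * s1 * g⁻¹) := by group

/-! ### the case `n = 5`, `p = 2` -/

set_option maxRecDepth 100000 in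
theorem D1 : ∀ g : alternatingGroup (Fin 5), g ^ 4 = 1 → g ^ 2 = 1 := by decide +kernel

set_option maxRecDepth 100000 in
theorem D2 : ∀ s : alternatingGroup (Fin 5), s ≠ 1 → s ^ 2 = 1 →
    Fintype.card {g : alternatingGroup (Fin 5) // g * s = s * g} = 4 := by decide +kernel

set_option maxRecDepth 100000 in
theorem D3 : ∀ g s : alternatingGroup (Fin 5), g ^ 5 = 1 → g ≠ 1 → s ^ 2 = 1 → s ≠ 1 →
    (g * s * g⁻¹) * s ≠ s * (g * s * g⁻¹) := by decide +kernel

theorem case_five (P : Sylow 2 (alternatingGroup (Fin 5)))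
    (hP : IsMulCommutative (P : Subgroup (alternatingGroup (Fin 5)))) :
    ((Subgroup.centralizer ((P : Subgroup (alternatingGroup (Fin 5))) : Set (alternatingGroup (Fin 5)))).subgroupOf (Subgroup.normalizer ((P : Subgroup (alternatingGroup (Fin 5))) : Set (alternatingGroup (Fin 5))))).index = 3 ∧ IsKleinFour (P : Subgroup (alternatingGroup (Fin 5))) := by
  have hcardG : Nat.card (alternatingGroup (Fin 5)) = 60 := by
    rw [Nat.card_eq_fintype_card]
    have h := two_mul_card_alternatingGroup (α := Fin 5)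
    rw [Fintype.card_perm, Fintype.card_fin] at h
    have h5 : Nat.factorial 5 = 120 := by decide
    omega
  have hfact : (60 : ℕ).factorization 2 = 2 := by
    have h60 : (60 : ℕ) = 2 ^ 2 * 15 := by norm_num
    rw [h60, Nat.factorization_mul (by norm_num) (by norm_num), Finsupp.add_apply,
      Nat.Prime.factorization_pow Nat.prime_two, Finsupp.single_eq_same,
      Nat.factorization_eq_zero_of_not_dvd (by norm_num)]
  have hcardP : Nat.card (P : Subgroup (alternatingGroup (Fin 5))) = 4 := by
    rw [Sylow.card_eq_multiplicity, hcardG, hfact]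
    norm_num
  have hsq : ∀ g : alternatingGroup (Fin 5), g ∈ (P : Subgroup (alternatingGroup (Fin 5))) →
      g ^ 2 = 1 := by
    intro g hg
    apply D1
    have h := pow_card_eq_one' (G := (P : Subgroup (alternatingGroup (Fin 5)))) (x := ⟨g, hg⟩)
    rw [hcardP] at h
    exact congrArg Subtype.val h
  have hklein : IsKleinFour (P : Subgroup (alternatingGroup (Fin 5))) := by
    refine ⟨hcardP, ?_⟩
    have hdvd : Monoid.exponent (P : Subgroup (alternatingGroup (Fin 5))) ∣ 2 :=
      Monoid.exponent_dvd_of_forall_pow_eq_one (fun g => Subtype.ext (hsq g.1 g.2))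
    rcases (Nat.dvd_prime Nat.prime_two).mp hdvd with h1 | h2
    · exfalso
      rw [Monoid.exp_eq_one_iff] at h1
      have := Finite.card_le_one_iff_subsingleton.mpr h1
      omega
    · exact h2
  refine ⟨?_, hklein⟩
  obtain ⟨s, hsP, hs1⟩ : ∃ s ∈ (P : Subgroup (alternatingGroup (Fin 5))), s ≠ 1 := by
    by_contra hcon
    push Not at hcon
    have hb : (P : Subgroup (alternatingGroup (Fin 5))) = ⊥ := (Subgroup.eq_bot_iff_forall _).mpr hcon
    rw [hb, Subgroup.card_bot] at hcardP
    omega
  have hs2 : s ^ 2 = 1 := hsq s hsP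
  have hcs : Nat.card (Subgroup.centralizer ({s} : Set (alternatingGroup (Fin 5)))) = 4 := by
    rw [← D2 s hs1 hs2, ← Nat.card_eq_fintype_card]
    exact Nat.card_congr (Equiv.subtypeEquivRight (fun g => Subgroup.mem_centralizer_singleton_iff))
  have hPle : (P : Subgroup (alternatingGroup (Fin 5))) ≤ Subgroup.centralizer {s} := by
    intro z hz
    rw [Subgroup.mem_centralizer_singleton_iff]
    have := hP.is_comm.comm (⟨z, hz⟩ : (P : Subgroup (alternatingGroup (Fin 5)))) ⟨s, hsP⟩
    exact congrArg Subtype.val this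
  have hPeq : (P : Subgroup (alternatingGroup (Fin 5))) = Subgroup.centralizer {s} :=
    Subgroup.eq_of_le_of_card_ge hPle (by rw [hcs, hcardP])
  have hCP : Subgroup.centralizer ((P : Subgroup (alternatingGroup (Fin 5))) : Set (alternatingGroup (Fin 5))) = (P : Subgroup (alternatingGroup (Fin 5))) := by
    apply le_antisymm
    · calc Subgroup.centralizer ((P : Subgroup (alternatingGroup (Fin 5))) : Set (alternatingGroup (Fin 5)))
          ≤ Subgroup.centralizer {s} :=
            Subgroup.centralizer_le (Set.singleton_subset_iff.mpr hsP)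
        _ = (P : Subgroup (alternatingGroup (Fin 5))) := hPeq.symm
    · intro z hz
      rw [Subgroup.mem_centralizer_iff]
      intro y hy
      have := hP.is_comm.comm (⟨y, hy⟩ : (P : Subgroup (alternatingGroup (Fin 5)))) ⟨z, hz⟩
      exact congrArg Subtype.val this
  show (Subgroup.centralizer ((P : Subgroup (alternatingGroup (Fin 5))) : Set (alternatingGroup (Fin 5)))).relIndex
    (Subgroup.normalizer ((P : Subgroup (alternatingGroup (Fin 5))) : Set (alternatingGroup (Fin 5)))) = 3
  rw [hCP]
  have hPN : (P : Subgroup (alternatingGroup (Fin 5))) ≤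
      Subgroup.normalizer ((P : Subgroup (alternatingGroup (Fin 5))) : Set (alternatingGroup (Fin 5))) :=
    Subgroup.le_normalizer
  have hidx : (P : Subgroup (alternatingGroup (Fin 5))).index = 15 := by
    have := Subgroup.card_mul_index (P : Subgroup (alternatingGroup (Fin 5)))
    rw [hcardP, hcardG] at this
    omega
  have hmul := Subgroup.relIndex_mul_index hPN
  rw [hidx] at hmul
  have hdvd15 : (P : Subgroup (alternatingGroup (Fin 5))).relIndex
      (Subgroup.normalizer ((P : Subgroup (alternatingGroup (Fin 5))) : Set (alternatingGroup (Fin 5)))) ∣ 15 :=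
    Dvd.intro _ hmul
  have hne1 : (P : Subgroup (alternatingGroup (Fin 5))).relIndex
      (Subgroup.normalizer ((P : Subgroup (alternatingGroup (Fin 5))) : Set (alternatingGroup (Fin 5)))) ≠ 1 := by
    intro h1
    have hNP := Subgroup.relIndex_eq_one.mp h1
    have hNC : Subgroup.normalizer ((P : Subgroup (alternatingGroup (Fin 5))) : Set (alternatingGroup (Fin 5))) ≤
        Subgroup.centralizer ((P : Subgroup (alternatingGroup (Fin 5))) : Set (alternatingGroup (Fin 5))) := by
      rw [hCP]; exact hNP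
    have hcomp := MonoidHom.ker_transferSylow_isComplement' P hNC
    have : IsSimpleGroup (alternatingGroup (Fin 5)) :=
      alternatingGroup.isSimpleGroup (by rw [Nat.card_eq_fintype_card, Fintype.card_fin])
    have hker := (MonoidHom.normal_ker (MonoidHom.transferSylow P hNC)).eq_bot_or_eq_top
    have hcm := hcomp.card_mul_card
    rcases hker with h | h
    · rw [h, Subgroup.card_bot, hcardP, hcardG] at hcm; omega
    · rw [h, Subgroup.card_top, hcardP, hcardG] at hcm; omega
  have h5 : ¬ 5 ∣ (P : Subgroup (alternatingGroup (Fin 5))).relIndex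
      (Subgroup.normalizer ((P : Subgroup (alternatingGroup (Fin 5))) : Set (alternatingGroup (Fin 5)))) := by
    intro h5
    have h5N := h5.trans (Subgroup.relIndex_dvd_card _ _)
    have : Fact (Nat.Prime 5) := ⟨by norm_num⟩
    obtain ⟨g, hg⟩ := exists_prime_orderOf_dvd_card' 5 h5N
    have hgN : (g : alternatingGroup (Fin 5)) ∈
      Subgroup.normalizer ((P : Subgroup (alternatingGroup (Fin 5))) : Set (alternatingGroup (Fin 5))) := g.2
    have hg5 : (g : alternatingGroup (Fin 5)) ^ 5 = 1 := by
      have h := pow_orderOf_eq_one g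
      rw [hg] at h
      exact congrArg Subtype.val h
    have hg1 : (g : alternatingGroup (Fin 5)) ≠ 1 := by
      intro h
      have h' : g = 1 := Subtype.ext h
      rw [h', orderOf_one] at hg
      omega
    have hconjP : (g : alternatingGroup (Fin 5)) * s * (g : alternatingGroup (Fin 5))⁻¹ ∈
        (P : Subgroup (alternatingGroup (Fin 5))) :=
      (Subgroup.mem_normalizer_iff.mp hgN s).mp hsP
    have hcomm := hP.is_comm.comm (⟨_, hconjP⟩ : (P : Subgroup (alternatingGroup (Fin 5)))) ⟨s, hsP⟩
    exact D3 g s hg5 hg1 hs2 hs1 (congrArg Subtype.val hcomm)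
  have hmem : (P : Subgroup (alternatingGroup (Fin 5))).relIndex
      (Subgroup.normalizer ((P : Subgroup (alternatingGroup (Fin 5))) : Set (alternatingGroup (Fin 5)))) ∈ Nat.divisors 15 :=
    Nat.mem_divisors.mpr ⟨hdvd15, by norm_num⟩
  have h15 : Nat.divisors 15 = {1, 3, 5, 15} := by decide
  rw [h15] at hmem
  simp only [Finset.mem_insert, Finset.mem_singleton] at hmem
  rcases hmem with h | h | h | h
  · exact absurd h hne1
  · exact h
  · exact absurd (by rw [h]) h5
  · exact absurd (by rw [h]; norm_num) h5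

theorem result (n : ℕ) (hn : 5 ≤ n) {p : ℕ} [Fact p.Prime]
    (P : Sylow p (alternatingGroup (Fin n))) (hP : IsMulCommutative (P : Subgroup (alternatingGroup (Fin n)))) :
    (¬ (n = 5 ∧ p = 2) → 2 ∣ ((Subgroup.centralizer ((P : Subgroup (alternatingGroup (Fin n))) : Set (alternatingGroup (Fin n)))).subgroupOf (Subgroup.normalizer ((P : Subgroup (alternatingGroup (Fin n))) : Set (alternatingGroup (Fin n))))).index ∨ IsCyclic (P : Subgroup (alternatingGroup (Fin n)))) ∧
    ((n = 5 ∧ p = 2) → ((Subgroup.centralizer ((P : Subgroup (alternatingGroup (Fin n))) : Set (alternatingGroup (Fin n)))).subgroupOf (Subgroup.normalizer ((P : Subgroup (alternatingGroup (Fin n))) : Set (alternatingGroup (Fin n))))).index = 3 ∧ IsKleinFour (P : Subgroup (alternatingGroup (Fin n)))) := by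
  constructor
  · intro hnot
    by_cases hp2 : p = 2
    · subst hp2
      exfalso
      have hn6 : 6 ≤ n := by
        rcases Nat.lt_or_ge n 6 with h | h
        · exact absurd ⟨by omega, rfl⟩ hnot
        · exact h
      exact sylow2_not_comm n hn6 P hP
    · exact odd_case n hp2 P hP
  · rintro ⟨rfl, rfl⟩
    exact case_five P hP

end Cfsg.Agent.S2269
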