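import Mathlib
import Cfsg.Statements.S2277
import Cfsg.Agent.Lib_helper7_TwoSet2

set_option autoImplicit false
open Cfsg

namespace Cfsg.Agent.helper7

open scoped commutatorElement Pointwise

universe u

theorem twoSet_main {p : ℕ} [Fact p.Prime] (hp3 : 3 ≤ p) :
    ∀ n : ℕ, ∀ (G : Type u) [Group G] [Finite G], Nat.card G = n →
      ∀ (P : Sylow p G) (N : Subgroup G) (_ : N.Normal) (C D : Set G),
        TwoSet p (P : Subgroup G) N C D → ⁅(P : Subgroup G), N⁆ = ⊥ := by
  intro n
  induction n using Nat.strong_induction_on with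
  | _ n ih =>
  intro G _ _ hcard P N hNn C D h
  have hdisj := twoSet_disj P h.1
  apply twoSet_core hp3 P h
  · -- quotients
    intro K hK hKne
    have hlt : Nat.card (G ⧸ K) < n := by
      rw [← hcard, Subgroup.card_eq_card_quotient_mul_card_subgroup K]
      have h1 := (Subgroup.one_lt_card_iff_ne_bot K).2 hKne
      have h2 : 0 < Nat.card (G ⧸ K) := Nat.card_pos
      nlinarith
    have h3 := ih _ hlt (G ⧸ K) rfl (P.mapSurjective (QuotientGroup.mk'_surjective K))
      (N.map (QuotientGroup.mk' K)) (hNn.map _ (QuotientGroup.mk'_surjective K))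
      (QuotientGroup.mk' K '' C) (QuotientGroup.mk' K '' D)
      (by rw [Sylow.coe_mapSurjective]; exact twoSet_quot h K)
    rw [Sylow.coe_mapSurjective, ← Subgroup.map_commutator, Subgroup.map_eq_bot_iff,
      QuotientGroup.ker_mk'] at h3
    exact h3
  · -- subgroups
    intro N₀ h₀ hPn hne
    have hHne : N₀ ⊔ (P : Subgroup G) ≠ ⊤ := by
      intro htop
      apply hne
      apply le_antisymm h₀
      intro x hx
      have hx' : x ∈ ((N₀ ⊔ (P : Subgroup G) : Subgroup G) : Set G) := by rw [htop]; trivial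
      rw [Subgroup.coe_mul_of_right_le_normalizer_left N₀ _ hPn] at hx'
      obtain ⟨m, hm, y, hy, rfl⟩ := Set.mem_mul.1 hx'
      have hy1 : y = 1 := by
        apply hdisj y hy
        have : y = m⁻¹ * (m * y) := by group
        rw [this]
        exact N.mul_mem (N.inv_mem (h₀ hm)) hx
      rw [hy1, mul_one]
      exact hm
    have hlt : Nat.card ↥(N₀ ⊔ (P : Subgroup G)) < n := by
      rw [← hcard, ← Subgroup.card_top (G := G)]
      exact card_lt_of_lt le_top hHne
    have hnorm : (N₀.subgroupOf (N₀ ⊔ (P : Subgroup G))).Normal :=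
      (Subgroup.normal_subgroupOf_iff_le_normalizer le_sup_left).2
        (sup_le Subgroup.le_normalizer hPn)
    have h3 := ih _ hlt ↥(N₀ ⊔ (P : Subgroup G)) rfl (P.subtype le_sup_right)
      (N₀.subgroupOf (N₀ ⊔ (P : Subgroup G))) hnorm
      ((N₀ ⊔ (P : Subgroup G)).subtype ⁻¹' C) ((N₀ ⊔ (P : Subgroup G)).subtype ⁻¹' D)
      (by rw [Sylow.coe_subtype]; exact twoSet_sub h h₀)
    rw [Sylow.coe_subtype] at h3
    have h4 := congrArg (Subgroup.map (N₀ ⊔ (P : Subgroup G)).subtype) h3
    rw [Subgroup.map_commutator, Subgroup.map_subgroupOf_eq_of_le le_sup_right,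
      Subgroup.map_subgroupOf_eq_of_le le_sup_left, Subgroup.map_bot] at h4
    exact h4

end Cfsg.Agent.helper7

namespace Cfsg.Agent.S2277

open Cfsg.Agent.helper7 in
/-- Let p ≥ 3 be prime and G a finite group with a Sylow p-subgroup P and a normal p-complement N (N normal, of order prime to p, with NP = G). Suppose P is generated by a subset C and also by a subset D, and that ⟨x c x⁻¹, d⟩ is a p-group for all x ∈ N, c ∈ C, d ∈ D. Then P centralizes N, so that G = N × P. -/
theorem result {G : Type*} [Group G] [Finite G] (p : ℕ) [Fact p.Prime] (hp3 : 3 ≤ p) (P : Sylow p G)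
    (N : Subgroup G) [N.Normal] (hN : (Nat.card N).Coprime p) (hNP : N ⊔ (P : Subgroup G) = ⊤)
    (C D : Set G) (hC : Subgroup.closure C = (P : Subgroup G)) (hD : Subgroup.closure D = (P : Subgroup G))
    (h : ∀ x ∈ N, ∀ c ∈ C, ∀ d ∈ D, IsPGroup p ↥(Subgroup.closure ({x * c * x⁻¹, d} : Set G))) :
    ⁅(P : Subgroup G), N⁆ = ⊥ := by
  exact twoSet_main hp3 _ G rfl P N inferInstance C D ⟨hN, hNP, hC, hD, h⟩

end Cfsg.Agent.S2277
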