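import Mathlib
import Cfsg.Statements.S2315
import Cfsg.Agent.Lib_helper17_Unip4

set_option autoImplicit false

open Cfsg

namespace Cfsg.Agent.S2315

open Cfsg.Agent.helper17.Unip Matrix

theorem result {F : Type*} [Field F] [Fintype F] (p : ℕ) [Fact p.Prime] [CharP F p] (n : ℕ) :
    Nat.card {g : Matrix.GeneralLinearGroup (Fin n) F // ∃ k : ℕ, orderOf g = p ^ k} = Fintype.card F ^ (n * (n - 1)) := by
  classical
  rw [← card_nilMat F n]
  unfold cN
  rcases Nat.eq_zero_or_pos n with hn | hn
  · subst hn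
    have h1 : Subsingleton (Matrix (Fin 0) (Fin 0) F) := inferInstance
    have h2 : Subsingleton (GL (Fin 0) F) := inferInstance
    have e1 : Nat.card {g : Matrix.GeneralLinearGroup (Fin 0) F // ∃ k : ℕ, orderOf g = p ^ k} = 1 := by
      haveI : Subsingleton {g : Matrix.GeneralLinearGroup (Fin 0) F // ∃ k : ℕ, orderOf g = p ^ k} := inferInstance
      haveI : Nonempty {g : Matrix.GeneralLinearGroup (Fin 0) F // ∃ k : ℕ, orderOf g = p ^ k} :=
        ⟨⟨1, 0, by simp⟩⟩
      exact Nat.card_unique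
    have e2 : Nat.card (NilMat F 0) = 1 := by
      haveI : Subsingleton (NilMat F 0) := inferInstance
      haveI : Nonempty (NilMat F 0) := ⟨⟨0, IsNilpotent.zero⟩⟩
      exact Nat.card_unique
    rw [e1, e2]
  · haveI : Nonempty (Fin n) := ⟨⟨0, hn⟩⟩
    have hp : p.Prime := Fact.out
    have hfwd : ∀ g : Matrix.GeneralLinearGroup (Fin n) F, (∃ k : ℕ, orderOf g = p ^ k) →
        IsNilpotent ((g : Matrix (Fin n) (Fin n) F) - 1) := by
      rintro g ⟨k, hk⟩
      refine ⟨p ^ k, ?_⟩
      rw [sub_pow_char_pow_of_commute p k (Commute.one_right _), one_pow, sub_eq_zero]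
      have : g ^ (p ^ k) = 1 := by rw [← hk]; exact pow_orderOf_eq_one g
      have h2 := congrArg (fun u : Matrix.GeneralLinearGroup (Fin n) F => (u : Matrix (Fin n) (Fin n) F)) this
      simpa using h2
    have hbwd : ∀ N : Matrix (Fin n) (Fin n) F, IsNilpotent N → ∀ u : Matrix.GeneralLinearGroup (Fin n) F,
        (u : Matrix (Fin n) (Fin n) F) = 1 + N → ∃ k : ℕ, orderOf u = p ^ k := by
      intro N hN u hu
      obtain ⟨e, he⟩ := hN
      have hle : e ≤ p ^ e := (Nat.lt_pow_self hp.one_lt).le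
      have h1 : u ^ (p ^ e) = 1 := by
        apply Units.ext
        rw [Units.val_pow_eq_pow_val, hu, add_pow_char_pow_of_commute p e (Commute.one_left _), one_pow,
          pow_eq_zero_of_le hle he, add_zero]
        rfl
      have h2 := orderOf_dvd_of_pow_eq_one h1
      obtain ⟨j, -, hj⟩ := (Nat.dvd_prime_pow hp).mp h2
      exact ⟨j, hj⟩
    refine Nat.card_congr ?_
    refine
      { toFun := fun g => ⟨(g.1 : Matrix (Fin n) (Fin n) F) - 1, hfwd g.1 g.2⟩
        invFun := fun N => ⟨(IsNilpotent.isUnit_one_add N.2).unit, hbwd N.1 N.2 _ (IsUnit.unit_spec _)⟩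
        left_inv := ?_
        right_inv := ?_ }
    · rintro ⟨g, hg⟩
      apply Subtype.ext
      apply Units.ext
      simp
    · rintro ⟨N, hN⟩
      apply Subtype.ext
      simp

end Cfsg.Agent.S2315
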