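import Cfsg.Statements.S2326
import Mathlib
import Cfsg.Agent.S1049
import Cfsg.Agent.S1027
import Cfsg.Agent.S1034
import Cfsg.Agent.Lib_helper5_ChevOrd2
import Cfsg.Agent.Lib_helper6_CorNZ
-- import your own Cfsg.Agent.* helpers here

set_option autoImplicit false
open Cfsg

namespace Cfsg.Agent.S2326


theorem diag_pow_card {F : Type*} [Field F] [Fintype F] {n : Type*} [Fintype n] [DecidableEq n]
    (h : GL n F) (d : n → F) (hd : (h : Matrix n n F) = Matrix.diagonal d) :
    h ^ (Fintype.card F - 1) = 1 := by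
  apply Units.ext
  rw [Units.val_pow_eq_pow_val, Units.val_one, hd, Matrix.diagonal_pow]
  have hne : ∀ i, d i ≠ 0 := by
    intro i hi
    have h1 : (h : Matrix n n F) * ((h⁻¹ : GL n F) : Matrix n n F) = 1 := by
      rw [← Units.val_mul, mul_inv_cancel, Units.val_one]
    have h2 := congrFun (congrFun h1 i) i
    rw [hd, Matrix.diagonal_mul, hi, zero_mul, Matrix.one_apply_eq] at h2
    exact zero_ne_one h2
  rw [← Matrix.diagonal_one]
  congr 1
  funext i
  simp only [Pi.pow_apply, Pi.one_apply]
  exact FiniteField.pow_card_sub_one_eq_one _ (hne i)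

/-- In a Chevalley group of type G₂, B₂, D₄, F₄, E₆, E₇ or E₈ over a finite field of characteristic p, the subgroup U generated by the positive root elements is a Sylow p-subgroup. -/
theorem result {F : Type*} [Field F] [Fintype F] (p : ℕ) [Fact p.Prime] [CharP F p] (D : Cfsg.Lie.ChevalleyDatum) (hD : D ∈ [Cfsg.Lie.chevG2, Cfsg.Lie.chevB2, Cfsg.Lie.chevD4, Cfsg.Lie.chevF4, Cfsg.Lie.chevE6, Cfsg.Lie.chevE7, Cfsg.Lie.chevE8]) :
    ∃ P : Sylow p ↥(D.group F), (P : Subgroup ↥(D.group F)) = (D.posUnipotent F).subgroupOf (D.group F) := by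
  classical
  have hN := Cfsg.Agent.helper6.CorNZ.not_inRootSub_empty D hD
  have hUB : D.posUnipotent F ≤ D.borelSubgroup F := Cfsg.Agent.helper5.Chev.U_le_B D hD
  obtain ⟨hBG, _, _⟩ := Cfsg.Agent.S1043.result (F := F) D hD
  have hUG : D.posUnipotent F ≤ D.group F := hUB.trans hBG
  obtain ⟨e, hp, hq⟩ := FiniteField.card F p
  have hcardU : Nat.card (D.posUnipotent F) = p ^ ((e : ℕ) * (D.nroots / 2)) := by
    rw [Cfsg.Agent.S1027.result D hD, hq, pow_mul]
  have hcardUs : Nat.card ((D.posUnipotent F).subgroupOf (D.group F)) =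
      p ^ ((e : ℕ) * (D.nroots / 2)) := by
    rw [Nat.card_congr (Subgroup.subgroupOfEquivOfLe hUG).toEquiv, hcardU]
  have hP : IsPGroup p ((D.posUnipotent F).subgroupOf (D.group F)) := IsPGroup.of_card hcardUs
  have hUrad : D.unipotentRadical F ∅ = D.posUnipotent F := by
    unfold Cfsg.Lie.ChevalleyDatum.unipotentRadical Cfsg.Lie.ChevalleyDatum.posUnipotent
    congr 1
    ext g
    constructor
    · rintro ⟨r, t, hr, _, hg⟩
      exact ⟨r, t, hr, hg⟩
    · rintro ⟨r, t, hr, hg⟩
      exact ⟨r, t, hr, hN r, hg⟩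
  have hPar : D.parabolicSubgroup F ∅ = D.borelSubgroup F := by
    unfold Cfsg.Lie.ChevalleyDatum.parabolicSubgroup
    have he : {g : GL D.Idx F | ∃ j ∈ (∅ : Set ℕ), j < D.rank ∧
        (g : Matrix D.Idx D.Idx F) = D.nMat F (D.simple j) 1} = ∅ := by
      ext x
      simp
    rw [he, Subgroup.closure_empty, sup_bot_eq]
  have h49 := Cfsg.Agent.S1049.result (F := F) D hD ∅ (fun j hj => absurd hj (Set.notMem_empty j))
  rw [hUrad, hPar] at h49
  have hnorm : Subgroup.normalizer
      (((D.posUnipotent F).subgroupOf (D.group F) : Subgroup ↥(D.group F)) : Set ↥(D.group F)) =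
      (D.borelSubgroup F).subgroupOf (D.group F) := by
    rw [← Subgroup.subgroupOf_normalizer_eq hUG]
    ext x
    rw [Subgroup.mem_subgroupOf, Subgroup.mem_subgroupOf, ← h49, Subgroup.mem_inf]
    exact ⟨fun h => ⟨h, x.2⟩, fun h => h.1⟩
  -- the order of `H` is prime to `p`
  have hH : ¬ p ∣ Nat.card (D.diagonalSubgroup F) := by
    intro hdvd
    obtain ⟨x, hx⟩ := exists_prime_orderOf_dvd_card' p hdvd
    obtain ⟨c, _, hc⟩ := Cfsg.Agent.S1034.mem_torus D hD x.1 x.2
    have h1 : (x.1) ^ (Fintype.card F - 1) = 1 := diag_pow_card x.1 _ hc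
    have h2 : x ^ (Fintype.card F - 1) = 1 := Subtype.ext (by simpa using h1)
    have h3 : p ∣ Fintype.card F - 1 := hx ▸ orderOf_dvd_of_pow_eq_one h2
    have h4 : p ∣ Fintype.card F := by
      rw [hq]
      exact dvd_pow_self p e.ne_zero
    have h5 : p ∣ 1 := by
      have h6 : Fintype.card F = (Fintype.card F - 1) + 1 :=
        (Nat.sub_add_cancel Fintype.card_pos).symm
      rw [h6] at h4
      exact (Nat.dvd_add_right h3).mp h4
    exact hp.one_lt.ne' (Nat.dvd_one.mp h5)
  -- the index of `U` in its normaliser is `|H|`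
  have hcong := Sylow.card_quotient_normalizer_modEq_card_quotient hcardUs
  have hcardN : Nat.card (Subgroup.normalizer
      (((D.posUnipotent F).subgroupOf (D.group F) : Subgroup ↥(D.group F)) : Set ↥(D.group F))) =
      Nat.card (D.posUnipotent F) * Nat.card (D.diagonalSubgroup F) := by
    rw [hnorm, Nat.card_congr (Subgroup.subgroupOfEquivOfLe hBG).toEquiv]
    exact Cfsg.Agent.helper5.Chev.card_borel D hD
  have hlag := Subgroup.card_eq_card_quotient_mul_card_subgroup
    (((D.posUnipotent F).subgroupOf (D.group F)).comap (Subgroup.normalizer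
      (((D.posUnipotent F).subgroupOf (D.group F) : Subgroup ↥(D.group F)) :
        Set ↥(D.group F))).subtype)
  have hcardK : Nat.card (((D.posUnipotent F).subgroupOf (D.group F)).comap (Subgroup.normalizer
      (((D.posUnipotent F).subgroupOf (D.group F) : Subgroup ↥(D.group F)) :
        Set ↥(D.group F))).subtype) = Nat.card (D.posUnipotent F) := by
    have hle : (D.posUnipotent F).subgroupOf (D.group F) ≤ Subgroup.normalizer
      (((D.posUnipotent F).subgroupOf (D.group F) : Subgroup ↥(D.group F)) :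
        Set ↥(D.group F)) := Subgroup.le_normalizer
    rw [hcardU, ← hcardUs]
    exact Nat.card_congr (Subgroup.subgroupOfEquivOfLe hle).toEquiv
  rw [hcardN, hcardK] at hlag
  have hUpos : 0 < Nat.card (D.posUnipotent F) := Nat.card_pos
  have hquot : Nat.card (D.diagonalSubgroup F) = Nat.card (↥(Subgroup.normalizer
      (((D.posUnipotent F).subgroupOf (D.group F) : Subgroup ↥(D.group F)) :
        Set ↥(D.group F))) ⧸ ((D.posUnipotent F).subgroupOf (D.group F)).comap (Subgroup.normalizer
      (((D.posUnipotent F).subgroupOf (D.group F) : Subgroup ↥(D.group F)) :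
        Set ↥(D.group F))).subtype) := by
    apply Nat.eq_of_mul_eq_mul_right hUpos
    rw [← hlag, mul_comm]
  have hidx : ¬ p ∣ ((D.posUnipotent F).subgroupOf (D.group F)).index := by
    rw [Subgroup.index_eq_card]
    intro hdvd
    apply hH
    rw [hquot]
    exact (hcong.dvd_iff (dvd_refl p)).mpr hdvd
  exact ⟨hP.toSylow hidx, rfl⟩

end Cfsg.Agent.S2326
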