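import Cfsg.Statements.S2336
import Mathlib
import Cfsg.Agent.Lib_helper1_SLVec
import Cfsg.Agent.Lib_helper1_Commutant
import Cfsg.Agent.Lib_helper1_PermRank
import Cfsg.Agent.Lib_helper1_PermRank2
import Cfsg.Agent.Lib_helper12_CharOps
import Cfsg.Agent.Lib_helper24_Char
import Cfsg.Agent.S0718

set_option autoImplicit false
set_option linter.style.haveILetI false
set_option linter.unusedVariables false
open Cfsg

namespace Cfsg.Agent.S2336

/-- Let F be a finite field with q elements and n ≥ 3. The permutation character of SL_n(F) on the non-zero vectors of F^n (the function sending a matrix to the number of non-zero vectors it fixes) is the sum of the principal character and q − 1 pairwise distinct irreducible complex characters. -/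
theorem result {F : Type*} [Field F] [Fintype F] [DecidableEq F] (n : ℕ) (hn : 3 ≤ n) :
    ∃ χ : Fin (Fintype.card F - 1) → (Matrix.SpecialLinearGroup (Fin n) F → ℂ),
      (∀ i, Cfsg.IsIrrCharacter (Matrix.SpecialLinearGroup (Fin n) F) (χ i)) ∧ Function.Injective χ ∧
      ∀ g : Matrix.SpecialLinearGroup (Fin n) F,
        (Nat.card {v : Fin n → F // v ≠ 0 ∧ (g : Matrix (Fin n) (Fin n) F).mulVec v = v} : ℂ) = 1 + ∑ i, χ i g := by
  classical
  let G := Matrix.SpecialLinearGroup (Fin n) F
  let Ω := Cfsg.Agent.helper1.NZVec F n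
  haveI : Finite G := by
    show Finite {A : Matrix (Fin n) (Fin n) F // A.det = 1}
    infer_instance
  haveI : Fintype G := Fintype.ofFinite G
  haveI : Fintype (Cfsg.IrrCharacter G) := Fintype.ofFinite _
  have hn0 : 0 < n := by omega
  let ω₀ : Ω := ⟨Pi.single ⟨0, hn0⟩ 1, by
    intro h
    have := congrFun h ⟨0, hn0⟩
    simp at this⟩
  haveI : Nonempty Ω := ⟨ω₀⟩
  haveI : MulAction.IsPretransitive G Ω :=
    ⟨fun v w => Cfsg.Agent.helper1.nzVec_exists_smul_eq (by omega) v w⟩
  set π : G → ℂ := fun g => (Nat.card (MulAction.fixedBy Ω g) : ℂ) with hπ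
  -- fixed point count
  have hfix : ∀ g : G, (Nat.card {v : Fin n → F // v ≠ 0 ∧ (g : Matrix (Fin n) (Fin n) F).mulVec v = v} : ℂ)
      = π g := by
    intro g
    rw [hπ]
    congr 1
    apply Nat.card_congr
    exact
      { toFun := fun v => ⟨⟨v.1, v.2.1⟩, Cfsg.Agent.helper1.NZVec.ext v.2.2⟩
        invFun := fun w => ⟨w.1.val, w.1.ne, congrArg Cfsg.Agent.helper1.NZVec.val w.2⟩
        left_inv := fun v => rfl
        right_inv := fun w => rfl }
  -- multiplicity-free
  have hmf : ∀ χ : G → ℂ, Cfsg.IsIrrCharacter G χ →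
      Cfsg.classInner π χ = 0 ∨ Cfsg.classInner π χ = 1 := by
    apply (Cfsg.Agent.S0718.result (G := G) (Ω := Ω)).mpr
    intro S T hS hT
    exact Cfsg.Agent.helper1.nz_commutant_comm hn S T
      ((Cfsg.Agent.helper1.mem_linHom_invariants_iff_comm _ S).mp hS)
      ((Cfsg.Agent.helper1.mem_linHom_invariants_iff_comm _ T).mp hT)
  have hππ : Cfsg.classInner π π = (Fintype.card F : ℂ) := by
    rw [hπ, Cfsg.Agent.helper1.classInner_perm_self ω₀, Cfsg.Agent.helper1.nzVec_rank hn ω₀,
      Nat.card_eq_fintype_card]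
  have hπ1 : Cfsg.classInner π (fun _ => (1 : ℂ)) = 1 := by
    rw [hπ]
    exact Cfsg.Agent.helper1.classInner_perm_one
  have hπchar : Cfsg.IsCharacter G π := Cfsg.Agent.helper1.isCharacter_perm
  obtain ⟨m, hdec, hm, hsq⟩ := Cfsg.Agent.helper12.char_decomp hπchar
  have hm01 : ∀ ψ : Cfsg.IrrCharacter G, m ψ = 0 ∨ m ψ = 1 := by
    intro ψ
    rcases hmf ψ.1 ψ.2 with h | h
    · left
      rw [hm ψ] at h
      exact_mod_cast h
    · right
      rw [hm ψ] at h
      exact_mod_cast h
  let ψ₁ : Cfsg.IrrCharacter G := ⟨fun _ => 1, Cfsg.Agent.helper24.isIrrCharacter_one⟩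
  have hψ₁ : m ψ₁ = 1 := by
    have := hm ψ₁
    rw [hπ1] at this
    exact_mod_cast this.symm
  let I : Finset (Cfsg.IrrCharacter G) := Finset.univ.filter (fun ψ => m ψ = 1)
  have hIcard : I.card = Fintype.card F := by
    have h1 : (∑ ψ : Cfsg.IrrCharacter G, m ψ ^ 2) = I.card := by
      rw [Finset.card_filter]
      apply Finset.sum_congr rfl
      intro ψ _
      rcases hm01 ψ with h | h <;> simp [h]
    rw [hππ] at hsq
    have h2 : (Fintype.card F : ℂ) = ((I.card : ℕ) : ℂ) := by rw [hsq, h1]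
    exact_mod_cast h2.symm
  have hψ₁I : ψ₁ ∈ I := by simp [I, hψ₁]
  have hI'card : (I.erase ψ₁).card = Fintype.card F - 1 := by
    rw [Finset.card_erase_of_mem hψ₁I, hIcard]
  let e := Finset.equivFinOfCardEq hI'card
  refine ⟨fun i => ((e.symm i : {x // x ∈ I.erase ψ₁}) : Cfsg.IrrCharacter G).1,
    fun i => ((e.symm i : {x // x ∈ I.erase ψ₁}) : Cfsg.IrrCharacter G).2, ?_, ?_⟩
  · intro i j hij
    have h1 : ((e.symm i : {x // x ∈ I.erase ψ₁}) : Cfsg.IrrCharacter G) = (e.symm j : {x // x ∈ I.erase ψ₁}) :=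
      Subtype.ext hij
    exact e.symm.injective (Subtype.ext h1)
  · intro g
    rw [hfix g]
    have h1 : π g = ∑ ψ ∈ I, (ψ : G → ℂ) g := by
      conv_lhs => rw [hdec]
      simp only [Finset.sum_apply, Pi.smul_apply, smul_eq_mul]
      rw [Finset.sum_filter]
      apply Finset.sum_congr rfl
      intro ψ _
      rcases hm01 ψ with h | h <;> simp [h]
    rw [h1, ← Finset.add_sum_erase I _ hψ₁I]
    congr 1
    rw [← Finset.sum_coe_sort (I.erase ψ₁)]
    exact (Equiv.sum_comp e.symm (fun x : {x // x ∈ I.erase ψ₁} => ((x : Cfsg.IrrCharacter G) : G → ℂ) g)).symm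

end Cfsg.Agent.S2336
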