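import Cfsg.Statements.S2337
import Cfsg.Agent.Lib_helper11_Sz43

set_option autoImplicit false
open Cfsg

namespace Cfsg.Agent.S2337

open Cfsg.Agent.helper11.Sz Module

theorem exists_ne_one_gen {K G V : Type*} [Field K] [Group G] [AddCommGroup V] [Module K V]
    (ρ : Representation K G V) (hirr : ρ.IsIrreducible) (h2 : 2 ≤ finrank K V) :
    ∃ g, ρ g ≠ 1 := by
  by_contra hcon
  push Not at hcon
  obtain ⟨v, hv⟩ : ∃ v : V, v ≠ 0 := by
    by_contra hall
    push Not at hall
    haveI : Subsingleton V := ⟨fun a b => by rw [hall a, hall b]⟩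
    have := Module.finrank_zero_of_subsingleton (R := K) (M := V)
    omega
  have hmem : ∀ (g : G) ⦃w : V⦄, w ∈ Submodule.span K {v} → ρ g w ∈ Submodule.span K {v} := by
    intro g w hw
    rw [hcon g, Module.End.one_apply]
    exact hw
  have hS : (Subrepresentation.mk (Submodule.span K {v}) hmem : Subrepresentation ρ).toSubmodule =
    Submodule.span K {v} := rfl
  rcases hirr.eq_bot_or_eq_top (Subrepresentation.mk (Submodule.span K {v}) hmem) with h | h
  · rw [h] at hS
    have h4 : Submodule.span K {v} = ⊥ := hS.symm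
    rw [Submodule.span_singleton_eq_bot] at h4
    exact hv h4
  · rw [h] at hS
    have h4 : Submodule.span K {v} = ⊤ := hS.symm
    have h5 := finrank_span_singleton (K := K) hv
    rw [h4, finrank_top] at h5
    omega

/-- For the Suzuki group Sz(q), q = 2^(2m+1) with m ≥ 1 (realised inside Sp₄ over the field with q elements), every irreducible complex representation of degree at least 2 has degree at least 2^m·(q − 1). -/
theorem result {F : Type*} [Field F] [Fintype F] (m : ℕ) (hm : 1 ≤ m) (hF : Fintype.card F = 2 ^ (2 * m + 1)) :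
    (∀ (k : ℕ) (ρ : Representation ℂ (Cfsg.Lie.Sz F (2 ^ (m + 1))) (Fin k → ℂ)), ρ.IsIrreducible → 2 ≤ k → 2 ^ m * (2 ^ (2 * m + 1) - 1) ≤ k) := by
  have := charP_two hF
  intro k ρ hirr hk
  have hρ' : (ρ.comp (lieSzEquiv hm hF).toMonoidHom) (tq hF 0 1) ≠ 1 := by
    intro h1
    have hker : (ρ.comp (lieSzEquiv hm hF).toMonoidHom).ker = ⊤ := by
      apply normal_eq_top hm hF _ inferInstance
      intro hbot
      have hmem : tq hF 0 1 ∈ (ρ.comp (lieSzEquiv hm hF).toMonoidHom).ker := h1
      rw [hbot, Subgroup.mem_bot] at hmem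
      exact tq0_ne_one hm hF 1 one_ne_zero hmem
    obtain ⟨g, hg⟩ := exists_ne_one_gen ρ hirr (by rw [Module.finrank_fin_fun]; exact hk)
    apply hg
    have h2 : (lieSzEquiv hm hF).symm g ∈ (ρ.comp (lieSzEquiv hm hF).toMonoidHom).ker := by
      rw [hker]; trivial
    have h3 : ρ ((lieSzEquiv hm hF) ((lieSzEquiv hm hF).symm g)) = 1 := h2
    rwa [MulEquiv.apply_symm_apply] at h3
  have := rep_bound hm hF (ρ.comp (lieSzEquiv hm hF).toMonoidHom) hρ'
  rwa [Module.finrank_fin_fun] at this

end Cfsg.Agent.S2337
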