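import Mathlib
import Cfsg.Statements.S2356
import Cfsg.Agent.Lib_helper17_SU3f

set_option autoImplicit false
open Cfsg

namespace Cfsg.Agent.S2356

open Cfsg.Agent.helper17.SU3
open Cfsg.Agent.helper11.HermCount Cfsg.Agent.helper11.Unitary

theorem card_K {F : Type*} [Field F] [Fintype F] {q : ℕ} (hF : Fintype.card F = q ^ 2) :
    Nat.card {c : F // c ≠ 0 ∧ c * c ^ q ≠ 1} + (q + 2) = q ^ 2 := by
  classical
  have h1 : Nat.card {c : F // c ≠ 0 ∧ c * c ^ q ≠ 1} +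
      Nat.card {c : F // ¬ (c ≠ 0 ∧ c * c ^ q ≠ 1)} = q ^ 2 := by
    rw [← Nat.card_sum, Nat.card_congr (Equiv.sumCompl _), Nat.card_eq_fintype_card, hF]
  have h2 : Nat.card {c : F // ¬ (c ≠ 0 ∧ c * c ^ q ≠ 1)} = 1 + (q + 1) := by
    have e1 : {c : F // ¬ (c ≠ 0 ∧ c * c ^ q ≠ 1)} ≃ {c : F // c * c ^ q = 0 ∨ c * c ^ q = 1} :=
      Equiv.subtypeEquivRight (fun c => by
        rw [norm_eq_zero_iff hF]
        tauto)
    have hdis : Disjoint (fun c : F => c * c ^ q = 0) (fun c : F => c * c ^ q = 1) := by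
      intro r h1 h2 c hc
      have a := h1 c hc
      have b := h2 c hc
      simp only at a b
      rw [a] at b
      exact zero_ne_one b
    rw [Nat.card_congr e1, Nat.card_congr (subtypeOrEquiv _ _ hdis), Nat.card_sum, card_U1 hF,
      card_norm_fiber hF 0 (zero_pow (q_ne_zero hF)), if_pos rfl]
  omega

theorem key {F : Type*} [Field F] [Fintype F] {q : ℕ} (hq : Odd q)
    (hF : Fintype.card F = q ^ 2) :
    Stmt ↥(Cfsg.SU 3 F q) (rho hF (eN hF 0)) (q * (q - 1)) (q * (q - 2) * (q ^ 2 - 1))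
      ((q + 1) * (q ^ 2 - 1)) := by
  classical
  have hq2 := two_le_q hF
  have hA := card_A hq hF
  obtain ⟨m, hm, hB⟩ := card_B hq hF
  have hC := card_C hq hF
  have hK := card_K hF
  obtain ⟨k, rfl⟩ : ∃ k, q = k + 3 := by
    obtain ⟨j, hj⟩ := hq
    exact ⟨q - 3, by omega⟩
  have e1 : k + 3 - 1 = k + 2 := by omega
  have e2 : k + 3 - 2 = k + 1 := by omega
  have e3 : (k + 3) ^ 2 - 1 = (k + 2) * (k + 4) := by
    have : (k + 3) ^ 2 = (k + 2) * (k + 4) + 1 := by ring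
    omega
  rw [e1, e2, e3]
  have e4 : k + 3 + 1 = k + 4 := by omega
  have e5 : k + 3 + 2 = k + 5 := by omega
  rw [e4] at hA hm hB hC ⊢
  rw [e5] at hK
  refine ⟨?_, ?_, ?_, ?_⟩
  · have : Nat.card {x : ↥(Cfsg.SU 3 F (k + 3)) // x ≠ 1 ∧ x * x = 1 ∧
        x ≠ rho hF (eN hF 0) ∧ Commute (rho hF (eN hF 0)) x} * (k + 4) =
        ((k + 3) * (k + 2)) * (k + 4) := by
      linarith [hA]
    exact Nat.eq_of_mul_eq_mul_right (by omega) this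
  · have hm' : m = (k + 4) * (k + 3) * (k + 2) := by linarith [hm]
    have hK' : Nat.card {c : F // c ≠ 0 ∧ c * c ^ (k + 3) ≠ 1} = (k + 1) * (k + 4) := by
      linarith [hK]
    rw [hm', hK'] at hB
    have : Nat.card {x : ↥(Cfsg.SU 3 F (k + 3)) // x ≠ 1 ∧ x * x = 1 ∧
        ¬ Commute (rho hF (eN hF 0)) x ∧ ∃ y : ↥(Cfsg.SU 3 F (k + 3)), y ≠ 1 ∧ y * y = 1 ∧
        Commute (rho hF (eN hF 0)) y ∧ Commute y x} * (k + 4) =
        ((k + 3) * (k + 1) * ((k + 2) * (k + 4))) * (k + 4) := by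
      rw [hB]; ring
    exact Nat.eq_of_mul_eq_mul_right (by omega) this
  · linarith [hC]
  · intro x hx hx2
    obtain ⟨w, rfl⟩ := exists_rho hq hF x hx hx2
    exact exists_path hq hF w

theorem result {F : Type*} [Field F] [Fintype F] {q : ℕ} (hq : Odd q)
    (hF : Fintype.card F = q ^ 2) (t : ↥(Cfsg.SU 3 F q)) (ht : t ≠ 1) (ht2 : t * t = 1) :
    Nat.card {x : ↥(Cfsg.SU 3 F q) // x ≠ 1 ∧ x * x = 1 ∧ x ≠ t ∧ Commute t x} = q * (q - 1) ∧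
    Nat.card {x : ↥(Cfsg.SU 3 F q) // x ≠ 1 ∧ x * x = 1 ∧ ¬ Commute t x ∧
        ∃ y : ↥(Cfsg.SU 3 F q), y ≠ 1 ∧ y * y = 1 ∧ Commute t y ∧ Commute y x} = q * (q - 2) * (q ^ 2 - 1) ∧
    Nat.card {x : ↥(Cfsg.SU 3 F q) // x ≠ 1 ∧ x * x = 1 ∧ ¬ Commute t x ∧
        ∀ y : ↥(Cfsg.SU 3 F q), y ≠ 1 → y * y = 1 → ¬ (Commute t y ∧ Commute y x)} = (q + 1) * (q ^ 2 - 1) ∧
    ∀ x : ↥(Cfsg.SU 3 F q), x ≠ 1 → x * x = 1 →
      ∃ y z : ↥(Cfsg.SU 3 F q), y ≠ 1 ∧ y * y = 1 ∧ z ≠ 1 ∧ z * z = 1 ∧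
        Commute t y ∧ Commute y z ∧ Commute z x := by
  obtain ⟨v, rfl⟩ := exists_rho hq hF t ht ht2
  obtain ⟨g, hg⟩ := exists_conj hF (eN hF 0) v
  have h := Stmt_map (MulAut.conj g) _ _ _ _ (key hq hF)
  rw [MulAut.conj_apply, hg] at h
  exact h

end Cfsg.Agent.S2356
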