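import Mathlib
import Cfsg.Statements.S2360
import Cfsg.Agent.Lib_helper17_SU3c

set_option autoImplicit false
open Cfsg

namespace Cfsg.Agent.S2360

open Cfsg.Agent.helper17.SU3
open Cfsg.Agent.helper11.HermCount Cfsg.Agent.helper11.Unitary

theorem arith1 (q : ℕ) (hq : 1 ≤ q) : (q ^ 2 - q + 1) * (q + 1) = q ^ 3 + 1 := by
  obtain ⟨k, rfl⟩ : ∃ k, q = k + 1 := ⟨q - 1, by omega⟩
  have : (k + 1) ^ 2 - (k + 1) + 1 = k ^ 2 + k + 1 := by
    have : (k + 1) ^ 2 = k ^ 2 + k + (k + 1) := by ring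
    omega
  rw [this]
  ring

theorem card_invol {F : Type*} [Field F] [Fintype F] {q : ℕ} (hq : Odd q)
    (hF : Fintype.card F = q ^ 2) :
    Nat.card {x : ↥(Cfsg.SU 3 F q) // x ≠ 1 ∧ x * x = 1} = q ^ 2 * (q ^ 2 - q + 1) := by
  have h2 := two_le_q hF
  have h1 := card_vec_eq hq hF (fun x => x ≠ 1 ∧ x * x = 1) (fun x hx => hx)
  have h3 : Nat.card {v : N1 F q // (fun x => x ≠ 1 ∧ x * x = 1) (rho hF v)} =
      Nat.card (N1 F q) :=
    Nat.card_congr (Equiv.subtypeUnivEquiv (fun v => ⟨rho_ne_one hq hF v, rho_mul_self hF v⟩))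
  rw [h3] at h1
  have h4 : Nat.card (N1 F q) = q ^ 2 * (q ^ 3 + 1) := by
    have := card_norm_one hF 2
    rw [if_pos (by decide)] at this
    exact this
  rw [h4, ← arith1 q (by omega), ← mul_assoc] at h1
  exact (Nat.eq_of_mul_eq_mul_right (by omega) h1).symm

theorem card_SU3 {F : Type*} [Field F] [Fintype F] {q : ℕ}
    (hF : Fintype.card F = q ^ 2) :
    Nat.card ↥(Cfsg.SU 3 F q) = q ^ 3 * (q ^ 2 - 1) * (q ^ 3 + 1) := by
  have h1 := card_GU_eq hF 2
  have h2 := card_GU hF 3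
  rw [h1] at h2
  simp [Finset.prod_range_succ] at h2
  have h3 : (q + 1) * Nat.card ↥(Cfsg.SU 3 F q) = (q + 1) * (q ^ 3 * (q ^ 2 - 1) * (q ^ 3 + 1)) := by
    rw [h2]; ring
  exact Nat.eq_of_mul_eq_mul_left (by omega) h3

theorem result {F : Type*} [Field F] [Fintype F] {q : ℕ} (hq : Odd q)
    (hF : Fintype.card F = q ^ 2) (t : ↥(Cfsg.SU 3 F q)) (ht : t ≠ 1) (ht2 : t * t = 1) :
    (∀ x : ↥(Cfsg.SU 3 F q), x ≠ 1 → x * x = 1 → ∃ g : ↥(Cfsg.SU 3 F q), g * t * g⁻¹ = x) ∧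
    Nat.card {x : ↥(Cfsg.SU 3 F q) // x ≠ 1 ∧ x * x = 1} = q ^ 2 * (q ^ 2 - q + 1) ∧
    Nat.card ↥(Subgroup.centralizer ({t} : Set ↥(Cfsg.SU 3 F q))) = q * (q + 1) * (q ^ 2 - 1) ∧
    ∀ x : ↥(Cfsg.SU 3 F q), x ≠ 1 → x * x = 1 → x ≠ t → Commute t x →
      Nat.card {y : ↥(Cfsg.SU 3 F q) // y ≠ 1 ∧ y * y = 1 ∧ y ≠ t ∧ y ≠ x ∧ Commute t y ∧ Commute x y} = 1 := by
  have hq2 := two_le_q hF
  have hconj : ∀ x : ↥(Cfsg.SU 3 F q), x ≠ 1 → x * x = 1 →
      ∃ g : ↥(Cfsg.SU 3 F q), g * t * g⁻¹ = x := by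
    intro x hx hx2
    obtain ⟨v, rfl⟩ := exists_rho hq hF t ht ht2
    obtain ⟨w, rfl⟩ := exists_rho hq hF x hx hx2
    exact exists_conj hF v w
  refine ⟨hconj, card_invol hq hF, ?_, ?_⟩
  · have h1 := card_eq_card_class_mul_centralizer t {x : ↥(Cfsg.SU 3 F q) | x ≠ 1 ∧ x * x = 1}
      (by
        intro x
        constructor
        · rintro ⟨hx, hx2⟩
          exact hconj x hx hx2
        · rintro ⟨g, rfl⟩
          refine ⟨?_, ?_⟩
          · intro h
            apply ht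
            have : t = g⁻¹ * (g * t * g⁻¹) * g := by group
            rw [this, h]; group
          · have : g * t * g⁻¹ * (g * t * g⁻¹) = g * (t * t) * g⁻¹ := by group
            rw [this, ht2]; group)
    have h2 : Nat.card ↥{x : ↥(Cfsg.SU 3 F q) | x ≠ 1 ∧ x * x = 1} =
        q ^ 2 * (q ^ 2 - q + 1) := card_invol hq hF
    rw [h2, card_SU3 hF, ← arith1 q (by omega)] at h1
    have h3 : q ^ 2 * (q ^ 2 - q + 1) * (q * (q + 1) * (q ^ 2 - 1)) =
        q ^ 2 * (q ^ 2 - q + 1) *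
          Nat.card ↥(Subgroup.centralizer ({t} : Set ↥(Cfsg.SU 3 F q))) := by
      rw [← h1]; ring
    have hpos : 0 < q ^ 2 * (q ^ 2 - q + 1) := by positivity
    exact (Nat.eq_of_mul_eq_mul_left hpos h3).symm
  · intro x hx hx2 hxt ctx
    have htinv : t⁻¹ = t := inv_eq_of_mul_eq_one_right ht2
    have hxinv : x⁻¹ = x := inv_eq_of_mul_eq_one_right hx2
    have hun : Unique {y : ↥(Cfsg.SU 3 F q) // y ≠ 1 ∧ y * y = 1 ∧ y ≠ t ∧ y ≠ x ∧
        Commute t y ∧ Commute x y} :=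
      { default := ⟨t * x, by
          refine ⟨?_, ?_, ?_, ?_, ?_, ?_⟩
          · intro h
            apply hxt
            have := eq_inv_of_mul_eq_one_right h
            rw [htinv] at this
            exact this
          · rw [← pow_two, ctx.mul_pow, pow_two, pow_two, ht2, hx2, mul_one]
          · intro h
            exact hx (mul_left_cancel (a := t) (by rw [h, mul_one]))
          · intro h
            exact ht (mul_right_cancel (b := x) (by rw [h, one_mul]))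
          · exact (Commute.refl t).mul_right ctx
          · exact ctx.symm.mul_right (Commute.refl x)⟩
        uniq := by
          rintro ⟨y, hy, hy2, hyt, hyx, cty, cxy⟩
          apply Subtype.ext
          exact third_invol hq hF t x y ht ht2 hx hx2 hy hy2 hxt hyt hyx ctx cty cxy }
    exact Nat.card_unique

end Cfsg.Agent.S2360
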