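import Cfsg.Statements.S2365
import Mathlib
import Cfsg.Agent.Lib_helper13_UAdjC
import Cfsg.Agent.S2364

set_option autoImplicit false
open Cfsg

namespace Cfsg.Agent.S2365




/-- Let q be a power of the prime p, F the field with q² elements, m ≥ 4, and let a, b be commuting elements of PSU(m, q) with a of order p. Then every prime divisor of the order of b divides the order of SU(m − 2, q). -/
theorem result {F : Type*} [Field F] [Fintype F] (p : ℕ) [Fact p.Prime] [CharP F p] (m q : ℕ) (hm : 4 ≤ m) (hF : Fintype.card F = q ^ 2)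
    (a b : Cfsg.PSU m F q) (ha : orderOf a = p) (hab : Commute a b) :
    (orderOf b).primeFactors ⊆ (Nat.card ↥(Cfsg.SU (m - 2) F q)).primeFactors := by
  classical
  intro r hr
  have hrp : r.Prime := Nat.prime_of_mem_primeFactors hr
  have hrb : r ∣ orderOf b := Nat.dvd_of_mem_primeFactors hr
  have hb0 : orderOf b ≠ 0 := by
    intro h
    rw [h] at hr
    simp at hr
  have hp : p.Prime := Fact.out
  have hcard0 : Nat.card (Cfsg.SU (m - 2) F q) ≠ 0 := Nat.card_pos.ne'
  rw [Nat.mem_primeFactors]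
  refine ⟨hrp, ?_, hcard0⟩
  by_contra hnd
  obtain ⟨hrq, hrq1, hGU⟩ := Cfsg.Agent.helper13.uadj_arith hF m hm r hrp hnd
  have hpq : p ∣ q := by
    have h1 : ((Fintype.card F : ℕ) : F) = 0 := Nat.cast_card_eq_zero F
    have h2 : p ∣ Fintype.card F := (CharP.cast_eq_zero_iff F p _).mp h1
    rw [hF] at h2
    exact hp.dvd_of_dvd_pow h2
  have hrnep : r ≠ p := fun h => hrq (h ▸ hpq)
  obtain ⟨b', hb'⟩ : ∃ b' : Cfsg.PSU m F q, b' = b ^ (orderOf b / r) := ⟨_, rfl⟩
  have hb'r : orderOf b' = r := by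
    rw [hb']
    exact orderOf_pow_orderOf_div hb0 hrb
  have hab' : Commute a b' := by
    rw [hb']
    exact hab.pow_right _
  have ht : ∀ z ∈ Subgroup.center (Cfsg.SU m F q), z ^ (q + 1) = 1 := fun z hz =>
    Cfsg.Agent.helper13.uadj_center_pow hF m (by omega) z hz
  have hcopp : Nat.Coprime (q + 1) p := by
    rw [Nat.coprime_comm, Nat.Prime.coprime_iff_not_dvd hp]
    intro h
    have h1 : p ∣ 1 := (Nat.dvd_add_right hpq).mp h
    exact hp.one_lt.ne' (Nat.dvd_one.mp h1)
  have hcopr : Nat.Coprime (q + 1) r := by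
    rw [Nat.coprime_comm, Nat.Prime.coprime_iff_not_dvd hrp]
    exact hrq1
  obtain ⟨u, hup, hua⟩ := Cfsg.Agent.S2364.exists_lift_pow (Subgroup.center (Cfsg.SU m F q))
    (q + 1) ht p hp hcopp a ha
  obtain ⟨v, hvr, hvb⟩ := Cfsg.Agent.S2364.exists_lift_pow (Subgroup.center (Cfsg.SU m F q))
    (q + 1) ht r hrp hcopr b' hb'r
  have hu1 : u ≠ 1 := by
    rintro rfl
    rw [QuotientGroup.mk_one] at hua
    rw [← hua, orderOf_one] at ha
    exact hp.one_lt.ne ha
  have hv1 : v ≠ 1 := by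
    rintro rfl
    rw [QuotientGroup.mk_one] at hvb
    rw [← hvb, orderOf_one] at hb'r
    exact hrp.one_lt.ne hb'r
  have huv : u * v = v * u := by
    apply Cfsg.Agent.S2364.commute_of_central (q + 1) ht p hcopp u v hup
    rw [hua, hvb]
    exact hab'
  obtain ⟨ρ, h1, h2, h3⟩ := Cfsg.Agent.helper13.uadj_main hF p m hm r hrp hrnep u v hup hu1 hvr
    hv1 huv
  exact hGU ρ h1 h2 h3

end Cfsg.Agent.S2365
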