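import Cfsg.Statements.S2367
import Mathlib

set_option autoImplicit false
open Cfsg

namespace Cfsg.Agent.S2367

theorem prime_dvd_list_prod {p : ℕ} (hp : p.Prime) : ∀ (M : List (ℕ × ℕ)),
    (∀ x ∈ M, x.1.Prime) →
    p ∣ (M.map (fun x => x.1 ^ x.2)).prod → ∃ x ∈ M, x.1 = p := by
  intro M
  induction M with
  | nil =>
    intro _ h
    simp at h
    exact absurd h hp.one_lt.ne'
  | cons x M ih =>
    intro hpr h
    rw [List.map_cons, List.prod_cons] at h
    rcases (Nat.Prime.dvd_mul hp).1 h with h1 | h1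
    · have h2 := hp.dvd_of_dvd_pow h1
      have h3 := (Nat.prime_dvd_prime_iff_eq hp (hpr x List.mem_cons_self)).1 h2
      exact ⟨x, List.mem_cons_self, h3.symm⟩
    · obtain ⟨y, hy, hyp⟩ := ih (fun y hy => hpr y (List.mem_cons_of_mem _ hy)) h1
      exact ⟨y, List.mem_cons_of_mem _ hy, hyp⟩

theorem spor_main (N a : ℕ) (M : List (ℕ × ℕ))
    (hN : (M.map (fun x => x.1 ^ x.2)).prod = N)
    (hpr : ∀ x ∈ M, x.1.Prime) (h2 : N % 2 ^ a = 0) (hN0 : N ≠ 0)
    (hM : ∀ x ∈ M, x.1 = 2 ∨ N % x.1 ^ 3 ≠ 0 ∨ N % x.1 ^ 4 = 0 ∨ x.1 ^ 3 < 2 ^ a)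
    (p : ℕ) (hp : p.Prime) (hodd : p ≠ 2) (h3 : N.factorization p = 3) :
    p ^ 3 < 2 ^ N.factorization 2 := by
  have hpd : p ∣ N := Nat.dvd_of_factorization_pos (by rw [h3]; norm_num)
  rw [← hN] at hpd
  obtain ⟨x, hx, hxp⟩ := prime_dvd_list_prod hp M hpr hpd
  have ha : a ≤ N.factorization 2 :=
    (Nat.prime_two.pow_dvd_iff_le_factorization hN0).1 (Nat.dvd_of_mod_eq_zero h2)
  rcases hM x hx with h | h | h | h
  · exact absurd (hxp ▸ h) hodd
  · exfalso
    apply h
    rw [hxp]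
    apply Nat.mod_eq_zero_of_dvd
    rw [← h3]
    exact Nat.ordProj_dvd N p
  · exfalso
    rw [hxp] at h
    have := (hp.pow_dvd_iff_le_factorization hN0).1 (Nat.dvd_of_mod_eq_zero h)
    omega
  · rw [hxp] at h
    exact lt_of_lt_of_le h (Nat.pow_le_pow_right (by norm_num) ha)

theorem pow_ineq : ∀ k : ℕ, (k + 5) ^ 3 < 4 ^ (k + 4) := by
  intro k
  induction k with
  | zero => norm_num
  | succ k ih =>
    have h1 : (4 : ℕ) ^ (k + 1 + 4) = 4 * 4 ^ (k + 4) := by ring
    rw [h1]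
    have h2 : (k + 1 + 5) ^ 3 ≤ 4 * (k + 5) ^ 3 := by nlinarith [sq_nonneg k, Nat.zero_le (k^3)]
    omega

theorem alt_main (n N : ℕ) (hn : 5 ≤ n) (hN : 2 * N = n.factorial)
    (p : ℕ) (hp : p.Prime) (hodd : p ≠ 2) (h3 : N.factorization p = 3) :
    p ^ 3 < 2 ^ N.factorization 2 := by
  have hN0 : N ≠ 0 := by
    intro h
    rw [h] at hN
    exact (Nat.factorial_ne_zero n) hN.symm
  have hfac : (n.factorial).factorization = (2 : ℕ).factorization + N.factorization := by
    rw [← hN, Nat.factorization_mul (by norm_num) hN0]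
  have hp3 : (n.factorial).factorization p = 3 := by
    rw [hfac, Finsupp.add_apply, h3, Nat.Prime.factorization Nat.prime_two,
      Finsupp.single_apply, if_neg (Ne.symm hodd)]
  have h22 : (n.factorial).factorization 2 = 1 + N.factorization 2 := by
    rw [hfac, Finsupp.add_apply, Nat.Prime.factorization Nat.prime_two,
      Finsupp.single_apply, if_pos rfl]
  -- Legendre for p
  have hL := Nat.factorization_factorial hp (n := n) (b := Nat.log p n + 1) (Nat.lt_succ_self _)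
  rw [hp3] at hL
  have hpn : p ≤ n := by
    by_contra hlt
    push Not at hlt
    rw [Nat.log_of_lt hlt] at hL
    simp at hL
  have hlog : 1 ≤ Nat.log p n := by
    have := Nat.log_pos hp.one_lt hpn
    omega
  have hdiv : n / p ≤ 3 := by
    rw [hL]
    have : n / p ^ 1 ≤ ∑ i ∈ Finset.Ico 1 (Nat.log p n + 1), n / p ^ i :=
      Finset.single_le_sum (f := fun i => n / p ^ i) (fun i _ => Nat.zero_le _)
        (Finset.mem_Ico.2 ⟨le_refl 1, by omega⟩)
    rwa [pow_one] at this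
  have hn4 : n < 4 * p := by
    have := Nat.lt_mul_of_div_lt (show n / p < 4 by omega) hp.pos
    linarith
  have hp2 := hp.two_le
  have hp5 : 5 ≤ p := by
    by_contra hlt
    push Not at hlt
    have hp34 : p = 3 := by
      interval_cases p
      · exact absurd rfl hodd
      · rfl
      · exact absurd hp (by norm_num)
    subst hp34
    have hlog3 : Nat.log 3 n < 3 := Nat.log_lt_of_lt_pow (by omega) (by omega)
    have hL3 := Nat.factorization_factorial hp (n := n) (b := 3) hlog3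
    rw [hp3] at hL3
    have hI : Finset.Ico 1 3 = {1, 2} := by decide
    rw [hI, Finset.sum_pair (by norm_num)] at hL3
    norm_num at hL3
    omega
  have hnpp : n < p ^ 2 := by nlinarith
  have hlog2 : Nat.log p n < 2 := Nat.log_lt_of_lt_pow (by omega) hnpp
  have hL2 := Nat.factorization_factorial hp (n := n) (b := 2) hlog2
  rw [hp3] at hL2
  have hI : Finset.Ico 1 2 = {1} := by decide
  rw [hI, Finset.sum_singleton, pow_one] at hL2
  have h3p : 3 * p ≤ n := by
    have := Nat.div_mul_le_self n p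
    rw [← hL2] at this
    linarith
  -- Legendre for 2
  have hT := Nat.factorization_factorial Nat.prime_two (n := n) (b := Nat.log 2 n + 1)
    (Nat.lt_succ_self _)
  have hlog22 : 2 ≤ Nat.log 2 n := by
    have : Nat.log 2 4 ≤ Nat.log 2 n := Nat.log_mono_right (by omega)
    have h4 : Nat.log 2 4 = 2 := by
      rw [show (4 : ℕ) = 2 ^ 2 by norm_num, Nat.log_pow (by norm_num)]
    omega
  have hsub : ({1, 2} : Finset ℕ) ⊆ Finset.Ico 1 (Nat.log 2 n + 1) := by
    intro i hi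
    simp only [Finset.mem_insert, Finset.mem_singleton] at hi
    rw [Finset.mem_Ico]
    omega
  have hge : n / 2 + n / 4 ≤ (n.factorial).factorization 2 := by
    rw [hT]
    have := Finset.sum_le_sum_of_subset (f := fun i => n / 2 ^ i) hsub
    rw [Finset.sum_pair (by norm_num)] at this
    norm_num at this
    exact this
  have hv : 2 * (p - 1) ≤ N.factorization 2 := by omega
  obtain ⟨k, rfl⟩ : ∃ k, p = k + 5 := ⟨p - 5, by omega⟩
  have h4 := pow_ineq k
  have h5 : (4 : ℕ) ^ (k + 4) = 2 ^ (2 * (k + 5 - 1)) := by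
    rw [show 2 * (k + 5 - 1) = 2 * (k + 4) by omega, pow_mul]
    norm_num
  rw [h5] at h4
  exact lt_of_lt_of_le h4 (Nat.pow_le_pow_right (by norm_num) hv)

theorem result {G : Type*} [Group G] [Finite G] (hG : Cfsg.IsAlternating G ∨ Cfsg.IsSporadic G)
    (p : ℕ) (hp : p.Prime) (hodd : p ≠ 2) (h3 : (Nat.card G).factorization p = 3) :
    p ^ 3 < 2 ^ (Nat.card G).factorization 2 := by
  rcases hG with hG | hG
  · obtain ⟨n, hn, ⟨e⟩⟩ := hG
    haveI : Nontrivial (Fin n) := Fin.nontrivial_iff_two_le.2 (by omega)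
    have hc : Nat.card G = Nat.card (alternatingGroup (Fin n)) := Nat.card_congr e.toEquiv
    have h2 : 2 * Nat.card G = n.factorial := by
      rw [hc, two_mul_nat_card_alternatingGroup, Nat.card_perm, Nat.card_fin]
    exact alt_main n (Nat.card G) hn h2 p hp hodd h3
  unfold Cfsg.IsSporadic Cfsg.IsM11 Cfsg.IsM12 Cfsg.IsM22 Cfsg.IsM23 Cfsg.IsM24 Cfsg.IsJ1
    Cfsg.IsJ2 Cfsg.IsJ3 Cfsg.IsJ4 Cfsg.IsCo1 Cfsg.IsCo2 Cfsg.IsCo3 Cfsg.IsFi22 Cfsg.IsFi23
    Cfsg.IsFi24' Cfsg.IsHS Cfsg.IsMcL Cfsg.IsHe Cfsg.IsRu Cfsg.IsSuz Cfsg.IsON Cfsg.IsHN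
    Cfsg.IsLy Cfsg.IsTh Cfsg.IsB Cfsg.IsM at hG
  rcases hG with ⟨_, hN⟩ | ⟨_, hN⟩ | ⟨_, hN⟩ | ⟨_, hN⟩ | ⟨_, hN⟩ | ⟨_, hN⟩ | ⟨_, hN⟩ | ⟨_, hN⟩ | ⟨_, hN⟩ | ⟨_, hN⟩ | ⟨_, hN⟩ | ⟨_, hN⟩ | ⟨_, hN⟩ | ⟨_, hN⟩ | ⟨_, hN⟩ | ⟨_, hN⟩ | ⟨_, hN⟩ | ⟨_, hN⟩ | ⟨_, hN⟩ | ⟨_, hN⟩ | ⟨_, hN⟩ | ⟨_, hN⟩ | ⟨_, hN⟩ | ⟨_, hN⟩ | ⟨_, hN⟩ | ⟨_, hN⟩
  · -- IsM11
    rw [hN] at h3 ⊢
    exact spor_main 7920 4 [(2, 4), (3, 2), (5, 1), (11, 1)] (by norm_num) (by decide) (by norm_num) (by norm_num) (by decide) p hp hodd h3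
  · -- IsM12
    rw [hN] at h3 ⊢
    exact spor_main 95040 6 [(2, 6), (3, 3), (5, 1), (11, 1)] (by norm_num) (by decide) (by norm_num) (by norm_num) (by decide) p hp hodd h3
  · -- IsM22
    rw [hN] at h3 ⊢
    exact spor_main 443520 7 [(2, 7), (3, 2), (5, 1), (7, 1), (11, 1)] (by norm_num) (by decide) (by norm_num) (by norm_num) (by decide) p hp hodd h3
  · -- IsM23
    rw [hN] at h3 ⊢
    exact spor_main 10200960 7 [(2, 7), (3, 2), (5, 1), (7, 1), (11, 1), (23, 1)] (by norm_num) (by decide) (by norm_num) (by norm_num) (by decide) p hp hodd h3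
  · -- IsM24
    rw [hN] at h3 ⊢
    exact spor_main 244823040 10 [(2, 10), (3, 3), (5, 1), (7, 1), (11, 1), (23, 1)] (by norm_num) (by decide) (by norm_num) (by norm_num) (by decide) p hp hodd h3
  · -- IsJ1
    rw [hN] at h3 ⊢
    exact spor_main 175560 3 [(2, 3), (3, 1), (5, 1), (7, 1), (11, 1), (19, 1)] (by norm_num) (by decide) (by norm_num) (by norm_num) (by decide) p hp hodd h3
  · -- IsJ2
    rw [hN] at h3 ⊢
    exact spor_main 604800 7 [(2, 7), (3, 3), (5, 2), (7, 1)] (by norm_num) (by decide) (by norm_num) (by norm_num) (by decide) p hp hodd h3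
  · -- IsJ3
    rw [hN] at h3 ⊢
    exact spor_main 50232960 7 [(2, 7), (3, 5), (5, 1), (17, 1), (19, 1)] (by norm_num) (by decide) (by norm_num) (by norm_num) (by decide) p hp hodd h3
  · -- IsJ4
    rw [hN] at h3 ⊢
    exact spor_main 86775571046077562880 21 [(2, 21), (3, 3), (5, 1), (7, 1), (11, 3), (23, 1), (29, 1), (31, 1), (37, 1), (43, 1)] (by norm_num) (by decide) (by norm_num) (by norm_num) (by decide) p hp hodd h3
  · -- IsCo1
    rw [hN] at h3 ⊢
    exact spor_main 4157776806543360000 21 [(2, 21), (3, 9), (5, 4), (7, 2), (11, 1), (13, 1), (23, 1)] (by norm_num) (by decide) (by norm_num) (by norm_num) (by decide) p hp hodd h3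
  · -- IsCo2
    rw [hN] at h3 ⊢
    exact spor_main 42305421312000 18 [(2, 18), (3, 6), (5, 3), (7, 1), (11, 1), (23, 1)] (by norm_num) (by decide) (by norm_num) (by norm_num) (by decide) p hp hodd h3
  · -- IsCo3
    rw [hN] at h3 ⊢
    exact spor_main 495766656000 10 [(2, 10), (3, 7), (5, 3), (7, 1), (11, 1), (23, 1)] (by norm_num) (by decide) (by norm_num) (by norm_num) (by decide) p hp hodd h3
  · -- IsFi22
    rw [hN] at h3 ⊢
    exact spor_main 64561751654400 17 [(2, 17), (3, 9), (5, 2), (7, 1), (11, 1), (13, 1)] (by norm_num) (by decide) (by norm_num) (by norm_num) (by decide) p hp hodd h3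
  · -- IsFi23
    rw [hN] at h3 ⊢
    exact spor_main 4089470473293004800 18 [(2, 18), (3, 13), (5, 2), (7, 1), (11, 1), (13, 1), (17, 1), (23, 1)] (by norm_num) (by decide) (by norm_num) (by norm_num) (by decide) p hp hodd h3
  · -- IsFi24'
    rw [hN] at h3 ⊢
    exact spor_main 1255205709190661721292800 21 [(2, 21), (3, 16), (5, 2), (7, 3), (11, 1), (13, 1), (17, 1), (23, 1), (29, 1)] (by norm_num) (by decide) (by norm_num) (by norm_num) (by decide) p hp hodd h3
  · -- IsHS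
    rw [hN] at h3 ⊢
    exact spor_main 44352000 9 [(2, 9), (3, 2), (5, 3), (7, 1), (11, 1)] (by norm_num) (by decide) (by norm_num) (by norm_num) (by decide) p hp hodd h3
  · -- IsMcL
    rw [hN] at h3 ⊢
    exact spor_main 898128000 7 [(2, 7), (3, 6), (5, 3), (7, 1), (11, 1)] (by norm_num) (by decide) (by norm_num) (by norm_num) (by decide) p hp hodd h3
  · -- IsHe
    rw [hN] at h3 ⊢
    exact spor_main 4030387200 10 [(2, 10), (3, 3), (5, 2), (7, 3), (17, 1)] (by norm_num) (by decide) (by norm_num) (by norm_num) (by decide) p hp hodd h3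
  · -- IsRu
    rw [hN] at h3 ⊢
    exact spor_main 145926144000 14 [(2, 14), (3, 3), (5, 3), (7, 1), (13, 1), (29, 1)] (by norm_num) (by decide) (by norm_num) (by norm_num) (by decide) p hp hodd h3
  · -- IsSuz
    rw [hN] at h3 ⊢
    exact spor_main 448345497600 13 [(2, 13), (3, 7), (5, 2), (7, 1), (11, 1), (13, 1)] (by norm_num) (by decide) (by norm_num) (by norm_num) (by decide) p hp hodd h3
  · -- IsON
    rw [hN] at h3 ⊢
    exact spor_main 460815505920 9 [(2, 9), (3, 4), (5, 1), (7, 3), (11, 1), (19, 1), (31, 1)] (by norm_num) (by decide) (by norm_num) (by norm_num) (by decide) p hp hodd h3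
  · -- IsHN
    rw [hN] at h3 ⊢
    exact spor_main 273030912000000 14 [(2, 14), (3, 6), (5, 6), (7, 1), (11, 1), (19, 1)] (by norm_num) (by decide) (by norm_num) (by norm_num) (by decide) p hp hodd h3
  · -- IsLy
    rw [hN] at h3 ⊢
    exact spor_main 51765179004000000 8 [(2, 8), (3, 7), (5, 6), (7, 1), (11, 1), (31, 1), (37, 1), (67, 1)] (by norm_num) (by decide) (by norm_num) (by norm_num) (by decide) p hp hodd h3
  · -- IsTh
    rw [hN] at h3 ⊢
    exact spor_main 90745943887872000 15 [(2, 15), (3, 10), (5, 3), (7, 2), (13, 1), (19, 1), (31, 1)] (by norm_num) (by decide) (by norm_num) (by norm_num) (by decide) p hp hodd h3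
  · -- IsB
    rw [hN] at h3 ⊢
    exact spor_main 4154781481226426191177580544000000 41 [(2, 41), (3, 13), (5, 6), (7, 2), (11, 1), (13, 1), (17, 1), (19, 1), (23, 1), (31, 1), (47, 1)] (by norm_num) (by decide) (by norm_num) (by norm_num) (by decide) p hp hodd h3
  · -- IsM
    rw [hN] at h3 ⊢
    exact spor_main 808017424794512875886459904961710757005754368000000000 46 [(2, 46), (3, 20), (5, 9), (7, 6), (11, 2), (13, 3), (17, 1), (19, 1), (23, 1), (29, 1), (31, 1), (41, 1), (47, 1), (59, 1), (71, 1)] (by norm_num) (by decide) (by norm_num) (by norm_num) (by decide) p hp hodd h3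

end Cfsg.Agent.S2367
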