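import Mathlib
import Cfsg.Statements.S2379
import Cfsg.Agent.Lib_helper17_SylR3
import Cfsg.Agent.S0242

set_option autoImplicit false
open Cfsg

namespace Cfsg.Agent.S2379

open Cfsg.Agent.helper17.SylR

theorem result {F : Type*} [Field F] [Fintype F] {q : ℕ} (hq : Fintype.card F = q) (n : ℕ)
    (r : ℕ) [Fact r.Prime] (hrn : n < r) (hrq : ¬ r ∣ q) (P : Sylow r (Matrix.SpecialLinearGroup (Fin n) F)) :
    Nonempty (↥(P : Subgroup (Matrix.SpecialLinearGroup (Fin n) F)) ≃*
      (Fin ((Finset.Icc 2 n).filter (fun i => orderOf (q : ZMod r) ∣ i)).card →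
        Multiplicative (ZMod (r ^ padicValNat r ((Polynomial.cyclotomic (orderOf (q : ZMod r)) ℤ).eval (q : ℤ)).natAbs)))) := by
  classical
  subst hq
  set q := Fintype.card F with hqdef
  have hq2 : 2 ≤ q := Fintype.one_lt_card
  set d := orderOf (q : ZMod r) with hd
  have hdpos : 0 < d := d_pos q r hrq
  set v := padicValNat r ((Polynomial.cyclotomic d ℤ).eval (q : ℤ)).natAbs with hv
  have hvPhi : v = padicValNat r (Phi q d) := rfl
  have hr : r.Prime := Fact.out
  rcases Nat.eq_zero_or_pos n with hn0 | hn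
  · subst hn0
    have ha : ((Finset.Icc 2 0).filter (fun i => d ∣ i)).card = 0 := by simp
    rw [ha]
    haveI : Subsingleton (Matrix.SpecialLinearGroup (Fin 0) F) :=
      ⟨fun A B => Subtype.ext (Subsingleton.elim _ _)⟩
    exact ⟨{ toFun := fun _ => 1, invFun := fun _ => 1, left_inv := fun x => Subsingleton.elim _ _,
             right_inv := fun x => Subsingleton.elim _ _, map_mul' := fun _ _ => by simp }⟩
  · have ha := card_filter_Icc n d
    set a := ((Finset.Icc 2 n).filter (fun i => d ∣ i)).card with hadef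
    have hmdvd : r ^ v ∣ q ^ d - 1 := by
      rw [hvPhi, ← vr_cyclotomic q r hrq hq2]
      exact pow_padicValNat_dvd
    obtain ⟨Ξ, hΞ⟩ := exists_embedding_SL (F := F) n a r v hrq hn ha hmdvd
    have hSL := Cfsg.Agent.S0242.result (F := F) rfl n hn
    have hNpos : Nat.card (Matrix.SpecialLinearGroup (Fin n) F) ≠ 0 := Nat.card_pos.ne'
    have hq1 : q - 1 ≠ 0 := by omega
    have hfac : (Nat.card (Matrix.SpecialLinearGroup (Fin n) F)).factorization r = a * v := by
      have h1 : ((q - 1) * Nat.card (Matrix.SpecialLinearGroup (Fin n) F)).factorization r =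
          (∏ i : Fin n, (q ^ n - q ^ (i : ℕ))).factorization r := by rw [hSL]
      have h3 : (∏ i : Fin n, (q ^ n - q ^ (i : ℕ))).factorization r = (n / d) * v := by
        rw [vr_GL q r hrq hq2 n hrn]
        rfl
      rw [Nat.factorization_mul hq1 hNpos, Finsupp.add_apply, h3] at h1
      have h2 : (q - 1).factorization r = if d ∣ 1 then v else 0 := by
        rw [Nat.factorization_def _ hr]
        have := vr_pow q r hrq hq2 n hrn 1 le_rfl hn
        rw [pow_one] at this
        rw [this, hvPhi, vr_cyclotomic q r hrq hq2]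
      rw [h2] at h1
      rw [ha]
      by_cases hd1 : d = 1
      · rw [if_pos (by rw [hd1])] at h1
        rw [if_pos ⟨hd1, hn⟩]
        have hdiv : n / d = n := by rw [hd1, Nat.div_one]
        rw [hdiv] at h1 ⊢
        have : n * v = (n - 1) * v + v := by
          have : n = (n - 1) + 1 := by omega
          nth_rewrite 1 [this]
          rw [add_mul, one_mul]
        omega
      · rw [if_neg (fun h => hd1 (Nat.dvd_one.mp h)), zero_add] at h1
        rw [if_neg (fun h => hd1 h.1), Nat.sub_zero]
        exact h1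
    have hcardH : Nat.card Ξ.range = r ^ (Nat.card (Matrix.SpecialLinearGroup (Fin n) F)).factorization r := by
      rw [← Nat.card_congr (MonoidHom.ofInjective hΞ).toEquiv, hfac, Nat.card_fun, Nat.card_fin]
      have : Nat.card (Multiplicative (ZMod (r ^ v))) = r ^ v := by
        rw [Nat.card_congr Multiplicative.toAdd, Nat.card_zmod]
      rw [this, ← pow_mul, mul_comm]
    let Q : Sylow r (Matrix.SpecialLinearGroup (Fin n) F) := Sylow.ofCard Ξ.range hcardH
    have e1 : ↥(P : Subgroup (Matrix.SpecialLinearGroup (Fin n) F)) ≃*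
        ↥(Q : Subgroup (Matrix.SpecialLinearGroup (Fin n) F)) := Sylow.equiv P Q
    have e2 : ↥(Q : Subgroup (Matrix.SpecialLinearGroup (Fin n) F)) ≃*
        (Fin a → Multiplicative (ZMod (r ^ v))) := (MonoidHom.ofInjective hΞ).symm
    exact ⟨e1.trans e2⟩

end Cfsg.Agent.S2379
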