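import Mathlib
import Cfsg.Statements.S2380
import Cfsg.Agent.Lib_helper17_SylR2

set_option autoImplicit false
open scoped MatrixGroups
open Cfsg

namespace Cfsg.Agent.S2380

open Cfsg.Agent.helper17.SylR

/-- Sylow subgroups of `GL_n(q)` for large primes. Let `F` be a field with `q` elements and `r` a prime with `r > n` and `r ∤ q`. Let `d` be the multiplicative order of `q` modulo `r` and `m` the `r`-part of the value at `q` of the `d`-th cyclotomic polynomial. Then every Sylow `r`-subgroup of `GL_n(q)` is a direct product of `⌊n/d⌋` cyclic groups of order `m` (the degrees of the Weyl group being `1, …, n`). -/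
theorem result {F : Type*} [Field F] [Fintype F] {q : ℕ} (hq : Fintype.card F = q) (n : ℕ)
    (r : ℕ) [Fact r.Prime] (hrn : n < r) (hrq : ¬ r ∣ q) (P : Sylow r (GL (Fin n) F)) :
    Nonempty (↥(P : Subgroup (GL (Fin n) F)) ≃*
      (Fin (n / orderOf (q : ZMod r)) →
        Multiplicative (ZMod (r ^ padicValNat r ((Polynomial.cyclotomic (orderOf (q : ZMod r)) ℤ).eval (q : ℤ)).natAbs)))) := by
  classical
  subst hq
  set q := Fintype.card F with hqdef
  have hq2 : 2 ≤ q := Fintype.one_lt_card
  set d := orderOf (q : ZMod r) with hd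
  have hdpos : 0 < d := d_pos q r hrq
  set v := padicValNat r ((Polynomial.cyclotomic d ℤ).eval (q : ℤ)).natAbs with hv
  have hvPhi : v = padicValNat r (Phi q d) := rfl
  have hr : r.Prime := Fact.out
  -- the embedding
  have hmdvd : r ^ v ∣ q ^ d - 1 := by
    rw [hvPhi, ← vr_cyclotomic q r hrq hq2]
    exact pow_padicValNat_dvd
  obtain ⟨Ξ, hΞ⟩ := exists_embedding (F := F) n d (n / d) (r ^ v) hdpos (Nat.div_mul_le_self n d)
    (pow_ne_zero _ hr.ne_zero) hmdvd
  -- its cardinality
  have hcardH : Nat.card Ξ.range = r ^ (Nat.card (GL (Fin n) F)).factorization r := by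
    rw [← Nat.card_congr (MonoidHom.ofInjective hΞ).toEquiv, Matrix.card_GL_field,
      vr_GL q r hrq hq2 n hrn, ← hvPhi, Nat.card_fun, Nat.card_fin]
    have : Nat.card (Multiplicative (ZMod (r ^ v))) = r ^ v := by
      rw [Nat.card_congr Multiplicative.toAdd, Nat.card_zmod]
    rw [this, ← pow_mul, mul_comm]
  let Q : Sylow r (GL (Fin n) F) := Sylow.ofCard Ξ.range hcardH
  have e1 : ↥(P : Subgroup (GL (Fin n) F)) ≃* ↥(Q : Subgroup (GL (Fin n) F)) := Sylow.equiv P Q
  have e2 : ↥(Q : Subgroup (GL (Fin n) F)) ≃* (Fin (n / d) → Multiplicative (ZMod (r ^ v))) :=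
    (MonoidHom.ofInjective hΞ).symm
  exact ⟨e1.trans e2⟩

end Cfsg.Agent.S2380
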