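import Mathlib
import Cfsg.Statements.S2381
import Cfsg.Agent.Lib_helper17_SylR3
import Cfsg.Agent.Lib_helper17_SylR4
import Cfsg.Agent.Lib_helper17_SpEmb1
import Cfsg.Agent.Lib_helper17_SpEmb2
import Cfsg.Agent.S0245

set_option autoImplicit false
open Cfsg

namespace Cfsg.Agent.S2381

open Cfsg.Agent.helper17.SylR Cfsg.Agent.helper17.SpEmb

/-- the embedding of a homocyclic group into `Sp_{2n}(q)` -/
lemma exists_embedding_Sp {F : Type*} [Field F] [Fintype F] (n r v : ℕ) [hr : Fact r.Prime]
    (hrq : ¬ r ∣ Fintype.card F)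
    (hm : r ^ v ∣ Fintype.card F ^ orderOf ((Fintype.card F : ℕ) : ZMod r) - 1) :
    ∃ Ξ : (Fin (n / halfOrd (orderOf ((Fintype.card F : ℕ) : ZMod r))) →
        Multiplicative (ZMod (r ^ v))) →* ↥(Matrix.symplecticGroup (Fin n) F),
      Function.Injective Ξ := by
  classical
  set q := Fintype.card F with hq
  set d := orderOf (q : ZMod r) with hd
  have hdpos : 0 < d := d_pos q r hrq
  set e := halfOrd d with he
  have hepos : 0 < e := halfOrd_pos d hdpos
  set a := n / e with ha
  obtain ⟨p, hp⟩ := CharP.exists F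
  haveI : Fact p.Prime := ⟨CharP.char_is_prime F p⟩
  haveI : NeZero e := ⟨hepos.ne'⟩
  let K := FiniteField.Extension F p e
  have hfr : Module.finrank F K = e := FiniteField.finrank_extension F p e
  haveI : Fintype K := Fintype.ofFinite K
  have hcardK : Fintype.card K = q ^ e := by
    rw [← Nat.card_eq_fintype_card, FiniteField.natCard_extension F p e, Nat.card_eq_fintype_card]
  have hordK : orderOf ((Fintype.card K : ℕ) : ZMod r) = ordHalf d := by
    rw [hcardK, Nat.cast_pow]
    exact orderOf_pow_halfOrd (q : ZMod r) hdpos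
  have hrK : ¬ r ∣ Fintype.card K := by
    rw [hcardK]
    exact fun h => hrq (hr.out.dvd_of_dvd_pow h)
  have hmK : r ^ v ∣ Fintype.card K ^ orderOf ((Fintype.card K : ℕ) : ZMod r) - 1 := by
    rw [hordK, hcardK, ← pow_mul, halfOrd_mul_ordHalf]
    exact hm
  have haK : 1 = 2 / orderOf ((Fintype.card K : ℕ) : ZMod r) -
      (if orderOf ((Fintype.card K : ℕ) : ZMod r) = 1 ∧ 1 ≤ 2 then 1 else 0) := by
    rw [hordK]
    unfold ordHalf
    split_ifs <;> simp_all
  obtain ⟨θ, hθ⟩ := exists_embedding_SL (F := K) 2 1 r v hrK (by norm_num) haK hmK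
  let bK : Module.Basis (Fin e) F K := Module.finBasisOfFinrankEq F K hfr
  let θ₁ : Multiplicative (ZMod (r ^ v)) →* ↥(Matrix.symplecticGroup (Fin e) F) :=
    ((psi bK).comp θ).comp (MulEquiv.funUnique (Fin 1) (Multiplicative (ZMod (r ^ v)))).symm.toMonoidHom
  have hθ₁ : Function.Injective θ₁ := by
    intro x y h
    have h1 := psi_injective bK h
    have h2 := hθ h1
    exact (MulEquiv.funUnique (Fin 1) (Multiplicative (ZMod (r ^ v)))).symm.injective h2
  set b := n - e * a with hb
  have hea : e * a ≤ n := Nat.mul_div_le n e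
  have hcard : Fintype.card (Fin n) = Fintype.card ((Fin e × Fin a) ⊕ Fin b) := by
    simp only [Fintype.card_fin, Fintype.card_sum, Fintype.card_prod]
    omega
  let ε : Fin n ≃ (Fin e × Fin a) ⊕ Fin b := Fintype.equivOfCardEq hcard
  let Ξ : (Fin a → Multiplicative (ZMod (r ^ v))) →* ↥(Matrix.symplecticGroup (Fin n) F) :=
    (((reindexMap ε).comp (padMap (Fin e × Fin a) (Fin b))).comp (blockMap (Fin e) (Fin a))).comp
      (MonoidHom.compLeft θ₁ (Fin a))
  refine ⟨Ξ, ?_⟩
  intro x y h
  have h1 := reindexMap_injective ε h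
  have h2 := padMap_injective _ _ h1
  have h3 := blockMap_injective _ _ h2
  funext i
  apply hθ₁
  exact congrFun h3 i

/-- Sylow subgroups of `Sp_{2n}(q)` for large primes. Let `F` be a field with `q` elements and `r` an odd prime with `r > n` and `r ∤ q` (so `r` does not divide the order `2^n n!` of the Weyl group). Let `d` be the multiplicative order of `q` modulo `r`, `a` the number of `i` with `1 ≤ i ≤ n` and `d ∣ 2i` (the degrees being `2, 4, …, 2n`), and `m` the `r`-part of the value at `q` of the `d`-th cyclotomic polynomial. Then every Sylow `r`-subgroup of the symplectic group `Sp_{2n}(q)` is a direct product of `a` cyclic groups of order `m`. -/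
theorem result {F : Type*} [Field F] [Fintype F] {q : ℕ} (hq : Fintype.card F = q) (n : ℕ)
    (r : ℕ) [Fact r.Prime] (hr2 : r ≠ 2) (hrn : n < r) (hrq : ¬ r ∣ q) (P : Sylow r ↥(Matrix.symplecticGroup (Fin n) F)) :
    Nonempty (↥(P : Subgroup ↥(Matrix.symplecticGroup (Fin n) F)) ≃*
      (Fin ((Finset.Icc 1 n).filter (fun i => orderOf (q : ZMod r) ∣ 2 * i)).card →
        Multiplicative (ZMod (r ^ padicValNat r ((Polynomial.cyclotomic (orderOf (q : ZMod r)) ℤ).eval (q : ℤ)).natAbs)))) := by
  classical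
  subst hq
  set q := Fintype.card F with hqdef
  have hq2 : 2 ≤ q := Fintype.one_lt_card
  set d := orderOf (q : ZMod r) with hd
  have hdpos : 0 < d := d_pos q r hrq
  set v := padicValNat r ((Polynomial.cyclotomic d ℤ).eval (q : ℤ)).natAbs with hv
  have hvPhi : v = padicValNat r (Phi q d) := rfl
  have hr : r.Prime := Fact.out
  have hmdvd : r ^ v ∣ q ^ d - 1 := by
    rw [hvPhi, ← vr_cyclotomic q r hrq hq2]
    exact pow_padicValNat_dvd
  have hacard : ((Finset.Icc 1 n).filter (fun i => d ∣ 2 * i)).card = n / halfOrd d :=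
    card_filter_two_mul n d
  rw [hacard]
  obtain ⟨Ξ, hΞ⟩ := exists_embedding_Sp (F := F) n r v hrq hmdvd
  have hcardH : Nat.card Ξ.range =
      r ^ (Nat.card ↥(Matrix.symplecticGroup (Fin n) F)).factorization r := by
    rw [← Nat.card_congr (MonoidHom.ofInjective hΞ).toEquiv, Cfsg.Agent.S0245.result rfl n,
      vr_Sp q r hrq hq2 hr2 n hrn, ← hvPhi, Nat.card_fun, Nat.card_fin, ← hd, hacard]
    have : Nat.card (Multiplicative (ZMod (r ^ v))) = r ^ v := by
      rw [Nat.card_congr Multiplicative.toAdd, Nat.card_zmod]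
    rw [this, ← pow_mul, mul_comm]
  let Q : Sylow r ↥(Matrix.symplecticGroup (Fin n) F) := Sylow.ofCard Ξ.range hcardH
  have e1 : ↥(P : Subgroup ↥(Matrix.symplecticGroup (Fin n) F)) ≃*
      ↥(Q : Subgroup ↥(Matrix.symplecticGroup (Fin n) F)) := Sylow.equiv P Q
  have e2 : ↥(Q : Subgroup ↥(Matrix.symplecticGroup (Fin n) F)) ≃*
      (Fin (n / halfOrd d) → Multiplicative (ZMod (r ^ v))) :=
    (MonoidHom.ofInjective hΞ).symm
  exact ⟨e1.trans e2⟩

end Cfsg.Agent.S2381
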