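import Cfsg.Statements.S2390
import Mathlib
import Cfsg.Agent.Lib_helper25_SSimple
import Cfsg.Agent.Lib_helper25_SUss
import Cfsg.Agent.S2587

set_option autoImplicit false
open Cfsg

namespace Cfsg.Agent.S2390

open Matrix Cfsg.Agent.helper14 Cfsg.Agent.helper14.PsuAut Cfsg.Agent.helper14.GUConj
  Cfsg.Agent.helper25.SSimple Cfsg.Agent.helper25.SUss

/-- In the special unitary group `SU_n(q)` (inside `SL_n` over the field with `q²` elements), `q` a power of the prime `p`, two elements of order prime to `p` with the same characteristic polynomial are conjugate in `SU_n(q)`. -/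
theorem result {F : Type*} [Field F] [Fintype F] {q : ℕ} (hF : Fintype.card F = q ^ 2) (p : ℕ) [Fact p.Prime] [CharP F p] (n : ℕ)
    (g h : ↥(Cfsg.SU n F q)) (hg : (orderOf g).Coprime p) (hh : (orderOf h).Coprime p)
    (hc : ((g : Matrix.SpecialLinearGroup (Fin n) F) : Matrix (Fin n) (Fin n) F).charpoly =
      ((h : Matrix.SpecialLinearGroup (Fin n) F) : Matrix (Fin n) (Fin n) F).charpoly) : IsConj g h := by
  classical
  by_cases hn : n = 0
  · subst hn
    have : g = h := by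
      apply Subtype.ext
      apply Subtype.ext
      ext i j
      exact i.elim0
    rw [this]
  have hnt : Nontrivial (Fin n → F) := by
    have : Nonempty (Fin n) := ⟨⟨0, by omega⟩⟩
    infer_instance
  obtain ⟨σ, hσq⟩ := exists_frob hF
  have hσ := frob_inv hF σ hσq
  obtain ⟨θ, hθ⟩ : ∃ θ, σ θ ≠ θ := by
    by_contra hcon
    push Not at hcon
    exact frob_ne_refl hF σ hσq (RingEquiv.ext hcon)
  have hGU : ∀ X : GL (Fin n) F, X ∈ Cfsg.GU n F q ↔
      st σ (X : Matrix (Fin n) (Fin n) F) * (X : Matrix (Fin n) (Fin n) F) = 1 := by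
    intro X
    rw [mem_GU_iff_mat σ hσq]
    unfold st
    constructor
    · intro h
      have := congrArg Matrix.transpose h
      rwa [Matrix.transpose_mul, Matrix.transpose_transpose, Matrix.transpose_one] at this
    · intro h
      have := congrArg Matrix.transpose h
      rwa [Matrix.transpose_mul, Matrix.transpose_transpose, Matrix.transpose_one] at this
  obtain ⟨g', hg'def⟩ : ∃ g' : GL (Fin n) F, g' = Matrix.SpecialLinearGroup.toGL g.1 := ⟨_, rfl⟩
  obtain ⟨h', hh'def⟩ : ∃ h' : GL (Fin n) F, h' = Matrix.SpecialLinearGroup.toGL h.1 := ⟨_, rfl⟩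
  have hgU : g' ∈ Cfsg.GU n F q := by rw [hg'def]; exact g.2
  have hhU : h' ∈ Cfsg.GU n F q := by rw [hh'def]; exact h.2
  have hg'val : g'.val = (g.1 : Matrix (Fin n) (Fin n) F) := by rw [hg'def]; rfl
  have hh'val : h'.val = (h.1 : Matrix (Fin n) (Fin n) F) := by rw [hh'def]; rfl
  have hog : (orderOf g').Coprime p := by
    rw [hg'def, orderOf_toGL, Subgroup.orderOf_coe]; exact hg
  have hoh : (orderOf h').Coprime p := by
    rw [hh'def, orderOf_toGL, Subgroup.orderOf_coe]; exact hh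
  have hconjGL : IsConj g' h' :=
    isConj_of_charpoly_eq p g' h' hog hoh (by rw [hg'val, hh'val]; exact hc)
  have hconjGU := (Cfsg.Agent.S2587.result hF ⟨g', hgU⟩ ⟨h', hhU⟩).mpr hconjGL
  obtain ⟨w, hw⟩ := isConj_iff.mp hconjGU
  have hWg : w.1 * g' = h' * w.1 := by
    have h1 := congrArg Subtype.val hw
    have h2 : w.1 * g' * (w.1)⁻¹ = h' := h1
    rw [mul_inv_eq_iff_eq_mul] at h2
    exact h2
  have hWgm : w.1.val * g'.val = h'.val * w.1.val := by
    have := congrArg Units.val hWg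
    rwa [Units.val_mul, Units.val_mul] at this
  have hwU : st σ w.1.val * w.1.val = 1 := (hGU w.1).mp w.2
  obtain ⟨d, hddef⟩ : ∃ d, d = (w.1.val).det := ⟨_, rfl⟩
  have hd : σ d * d = 1 := by
    have := congrArg Matrix.det hwU
    rwa [Matrix.det_mul, det_st, Matrix.det_one, ← hddef] at this
  have hd0 : d ≠ 0 := right_ne_zero_of_mul_eq_one hd
  have hθu : IsUnit (θ - (σ : F →+* F) θ) :=
    IsUnit.mk0 _ (sub_ne_zero.mpr (Ne.symm hθ))
  have hx : d⁻¹ * (σ : F →+* F) d⁻¹ = 1 := by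
    show d⁻¹ * σ d⁻¹ = 1
    rw [map_inv₀, ← mul_inv, mul_comm, hd, inv_one]
  obtain ⟨t, htu, ht⟩ := NormSurj.hilbert90 (σ : F →+* F) hσ θ hθu d⁻¹ hx
  have ht' : d⁻¹ * σ t = t := ht
  have ht0 : t ≠ 0 := htu.ne_zero
  have hss := isSemisimple_of_coprime p g' hog
  obtain ⟨y, hy, hydet⟩ := exists_commuting_det (Glin g') hss t ht0
  obtain ⟨Y, hY, hYdet⟩ := exists_conj_of_intertwiner g' g' y hy
  have hYm : Y.val * g'.val = g'.val * Y.val := by
    have := congrArg Units.val hY
    rwa [Units.val_mul, Units.val_mul] at this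
  have hYt : Y.val.det = t := by rw [hYdet, hydet]
  have hYdet0 : Y.val.det ≠ 0 := by rw [hYt]; exact ht0
  obtain ⟨z, hz1, hz2, hz3⟩ := exists_unitary_commuting_det σ hσ θ hθ g'.val Y.val
    ((hGU g').mp hgU) hYm hYdet0
  rw [hYt] at hz3
  have hσt0 : σ t ≠ 0 := by
    intro h0
    apply ht0
    have := congrArg σ h0
    rwa [hσ, map_zero] at this
  have hzdet : z.det = d⁻¹ := by
    apply mul_right_cancel₀ hσt0
    rw [hz3, ht']
  have hdetS : (w.1.val * z).det = 1 := by
    rw [Matrix.det_mul, ← hddef, hzdet, mul_inv_cancel₀ hd0]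
  obtain ⟨S, hSdef⟩ : ∃ S : Matrix.SpecialLinearGroup (Fin n) F, S = ⟨w.1.val * z, hdetS⟩ := ⟨_, rfl⟩
  have hSval : (S : Matrix (Fin n) (Fin n) F) = w.1.val * z := by rw [hSdef]
  have hSmem : S ∈ Cfsg.SU n F q := by
    have h1 : Matrix.SpecialLinearGroup.toGL S ∈ Cfsg.GU n F q := by
      rw [hGU]
      show st σ (S : Matrix (Fin n) (Fin n) F) * (S : Matrix (Fin n) (Fin n) F) = 1
      rw [hSval]
      exact st_unit_mul σ _ _ hwU hz1
    exact h1
  have hSg : S * g.1 = h.1 * S := by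
    apply Subtype.ext
    show (S : Matrix (Fin n) (Fin n) F) * (g.1 : Matrix (Fin n) (Fin n) F)
      = (h.1 : Matrix (Fin n) (Fin n) F) * (S : Matrix (Fin n) (Fin n) F)
    rw [hSval, ← hg'val, ← hh'val, Matrix.mul_assoc, hz2, ← Matrix.mul_assoc, hWgm,
      Matrix.mul_assoc]
  rw [isConj_iff]
  refine ⟨⟨S, hSmem⟩, ?_⟩
  apply Subtype.ext
  show S * g.1 * S⁻¹ = h.1
  rw [hSg]
  group

end Cfsg.Agent.S2390
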