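import Cfsg.Statements.S2386
import Mathlib
import Cfsg.Agent.Lib_helper25_SSimple
import Cfsg.Agent.Lib_helper25_SUcountC
import Cfsg.Agent.S2390

set_option autoImplicit false
open Cfsg

namespace Cfsg.Agent.S2386

open Polynomial Matrix Cfsg.Agent.helper14 Cfsg.Agent.helper14.PsuAut Cfsg.Agent.helper14.GUConj
  Cfsg.Agent.helper25.SSimple Cfsg.Agent.helper25.SUss Cfsg.Agent.helper25.SUcount

/-- In the special unitary group `SU_n(q)` (matrices of determinant one over the field with `q²` elements preserving the standard Hermitian form), `q` a power of the prime `p`, the number of conjugacy classes of elements of order prime to `p` is `q^(n-1)`. -/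
theorem result {F : Type*} [Field F] [Fintype F] {q : ℕ} (hF : Fintype.card F = q ^ 2) (p : ℕ) [Fact p.Prime] [CharP F p] (n : ℕ) (hn : 1 ≤ n) :
    Nat.card {c : ConjClasses ↥(Cfsg.SU n F q) // ∃ g : ↥(Cfsg.SU n F q), ConjClasses.mk g = c ∧ (orderOf g).Coprime p} = q ^ (n - 1) := by
  classical
  obtain ⟨m, rfl⟩ : ∃ m, n = m + 1 := ⟨n - 1, by omega⟩
  rw [Nat.add_sub_cancel]
  obtain ⟨σ, hσq⟩ := exists_frob hF
  have hσ := frob_inv hF σ hσq
  obtain ⟨θ, hθ⟩ : ∃ θ, σ θ ≠ θ := by
    by_contra hcon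
    push Not at hcon
    exact frob_ne_refl hF σ hσq (RingEquiv.ext hcon)
  have hGU : ∀ X : GL (Fin (m + 1)) F, X ∈ Cfsg.GU (m + 1) F q ↔
      st σ (X : Matrix (Fin (m + 1)) (Fin (m + 1)) F) *
        (X : Matrix (Fin (m + 1)) (Fin (m + 1)) F) = 1 := by
    intro X
    rw [mem_GU_iff_mat σ hσq]
    unfold st
    constructor
    · intro h
      have := congrArg Matrix.transpose h
      rwa [Matrix.transpose_mul, Matrix.transpose_transpose, Matrix.transpose_one] at this
    · intro h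
      have := congrArg Matrix.transpose h
      rwa [Matrix.transpose_mul, Matrix.transpose_transpose, Matrix.transpose_one] at this
  have hε : ((-1 : F) ^ (m + 1)) * ((-1) ^ (m + 1)) = 1 := neg_one_pow_mul_self (m + 1)
  have hσε : σ ((-1 : F) ^ (m + 1)) = (-1) ^ (m + 1) := by rw [map_pow, map_neg, map_one]
  rw [← card_usym_polys hF σ hσ θ hθ ((-1) ^ (m + 1)) hε hσε m]
  let T := {c : ConjClasses ↥(Cfsg.SU (m + 1) F q) //
    ∃ g : ↥(Cfsg.SU (m + 1) F q), ConjClasses.mk g = c ∧ (orderOf g).Coprime p}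
  let rep : T → ↥(Cfsg.SU (m + 1) F q) := fun c => Classical.choose c.2
  have hrep : ∀ c : T, ConjClasses.mk (rep c) = c.1 ∧ (orderOf (rep c)).Coprime p :=
    fun c => Classical.choose_spec c.2
  have hU : ∀ g : ↥(Cfsg.SU (m + 1) F q),
      st σ (g.1 : Matrix (Fin (m + 1)) (Fin (m + 1)) F) *
        (g.1 : Matrix (Fin (m + 1)) (Fin (m + 1)) F) = 1 := by
    intro g
    have h1 : Matrix.SpecialLinearGroup.toGL g.1 ∈ Cfsg.GU (m + 1) F q := g.2
    exact (hGU _).mp h1
  have hcoeff : ∀ g : Matrix.SpecialLinearGroup (Fin (m + 1)) F,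
      g.val.charpoly.coeff 0 = (-1) ^ (m + 1) := by
    intro g
    have h1 := Matrix.det_eq_sign_charpoly_coeff g.val
    rw [g.2, Fintype.card_fin] at h1
    calc g.val.charpoly.coeff 0
        = ((-1 : F) ^ (m + 1) * (-1) ^ (m + 1)) * g.val.charpoly.coeff 0 := by
          rw [hε, one_mul]
      _ = (-1) ^ (m + 1) * ((-1) ^ (m + 1) * g.val.charpoly.coeff 0) := by rw [mul_assoc]
      _ = (-1) ^ (m + 1) := by rw [← h1, mul_one]
  let Ψ : T → {f : F[X] // f.Monic ∧ f.natDegree = m + 1 ∧ f.coeff 0 = (-1) ^ (m + 1) ∧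
      USym σ (m + 1) f} :=
    fun c => ⟨((rep c).1 : Matrix (Fin (m + 1)) (Fin (m + 1)) F).charpoly,
      Matrix.charpoly_monic _, by
        rw [Matrix.charpoly_natDegree_eq_dim, Fintype.card_fin], hcoeff (rep c).1,
      usym_charpoly σ _ (hU (rep c))⟩
  have hbij : Function.Bijective Ψ := by
    constructor
    · intro c c' h
      have h1 : ((rep c).1 : Matrix (Fin (m + 1)) (Fin (m + 1)) F).charpoly
          = ((rep c').1 : Matrix (Fin (m + 1)) (Fin (m + 1)) F).charpoly := congrArg Subtype.val h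
      have h2 := Cfsg.Agent.S2390.result hF p (m + 1) (rep c) (rep c') (hrep c).2 (hrep c').2 h1
      apply Subtype.ext
      rw [← (hrep c).1, ← (hrep c').1, ConjClasses.mk_eq_mk_iff_isConj]
      exact h2
    · rintro ⟨f, hm, hd, h0, hs⟩
      obtain ⟨g, hg, hgc⟩ := exists_SU_of_charpoly hF p (m + 1) σ hσq f hm hd h0 hs
      refine ⟨⟨ConjClasses.mk g, g, rfl, hg⟩, Subtype.ext ?_⟩
      show ((rep ⟨ConjClasses.mk g, g, rfl, hg⟩).1 :
        Matrix (Fin (m + 1)) (Fin (m + 1)) F).charpoly = f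
      obtain ⟨r, hr⟩ : ∃ r, r = rep ⟨ConjClasses.mk g, g, rfl, hg⟩ := ⟨_, rfl⟩
      rw [← hr, ← hgc]
      have hconj : IsConj r g := by
        rw [hr, ← ConjClasses.mk_eq_mk_iff_isConj]
        exact (hrep ⟨ConjClasses.mk g, g, rfl, hg⟩).1
      have hconj2 : IsConj (Matrix.SpecialLinearGroup.toGL r.1)
          (Matrix.SpecialLinearGroup.toGL g.1) :=
        ((Matrix.SpecialLinearGroup.toGL).comp
          (Cfsg.SU (m + 1) F q).subtype).map_isConj hconj
      have h3 := charpoly_eq_of_isConj (Matrix.SpecialLinearGroup.toGL r.1)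
        (Matrix.SpecialLinearGroup.toGL g.1) hconj2
      rw [toGL_val, toGL_val] at h3
      exact h3
  exact Nat.card_congr (Equiv.ofBijective Ψ hbij)

end Cfsg.Agent.S2386
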