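import Mathlib
import Cfsg.Statements.S2392
import Cfsg.Agent.Lib_helper17_LS4

set_option autoImplicit false
open scoped MatrixGroups
open Cfsg

namespace Cfsg.Agent.S2392

open Matrix Cfsg.Agent.helper17.LS

/-- reindexing of special linear groups -/
def reidx {F : Type*} [Field F] {ι κ : Type*} [Fintype ι] [DecidableEq ι] [Fintype κ] [DecidableEq κ]
    (e : ι ≃ κ) : SpecialLinearGroup ι F →* SpecialLinearGroup κ F where
  toFun A := ⟨Matrix.reindex e e A.1, by rw [Matrix.det_reindex_self]; exact A.2⟩
  map_one' := by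
    apply Subtype.ext
    show Matrix.reindex e e (1 : Matrix ι ι F) = 1
    simp
  map_mul' A B := by
    apply Subtype.ext
    show Matrix.reindex e e (A.1 * B.1) = Matrix.reindex e e A.1 * Matrix.reindex e e B.1
    simp [Matrix.submatrix_mul_equiv]

lemma natCast_card_ne_zero {F : Type*} [Field F] [Fintype F] {L : Type*} [Field L]
    (h : ringChar L ≠ ringChar F) : (Fintype.card F : L) ≠ 0 := by
  obtain ⟨k, hp, hk⟩ := FiniteField.card F (ringChar F)
  rw [hk, Nat.cast_pow]
  apply pow_ne_zero
  intro h0
  rw [CharP.cast_eq_zero_iff L (ringChar L)] at h0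
  rcases (Nat.dvd_prime hp).mp h0 with h1 | h1
  · exact CharP.ringChar_ne_one h1
  · exact h h1

/-- A lower bound for representations in cross characteristic: for `n ≥ 3` and a field `F` with `q` elements, every homomorphism from `SL_n(F)` to `GL_d(K)`, `K` a field of characteristic different from that of `F`, whose kernel is central has `d ≥ q^(n-1) - 1`. -/
theorem result {F : Type*} [Field F] [Fintype F] {q : ℕ} (hq : Fintype.card F = q) (n : ℕ) (hn : 3 ≤ n)
    {K : Type*} [Field K] (hK : ringChar K ≠ ringChar F) {d : ℕ}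
    (ρ : Matrix.SpecialLinearGroup (Fin n) F →* GL (Fin d) K) (hker : ρ.ker ≤ Subgroup.center (Matrix.SpecialLinearGroup (Fin n) F)) :
    q ^ (n - 1) - 1 ≤ d := by
  classical
  subst hq
  obtain ⟨m, rfl⟩ : ∃ m, n = m + 1 := ⟨n - 1, by omega⟩
  have hcard : Fintype.card (Unit ⊕ Fin m) = Fintype.card (Fin (m + 1)) := by
    simp; omega
  let e : Unit ⊕ Fin m ≃ Fin (m + 1) := Fintype.equivOfCardEq hcard
  let PA := AddChar.FiniteField.primitiveChar F K hK
  have hψ : ∃ a, PA.char a ≠ 1 := by
    have h1 := PA.prim (one_ne_zero)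
    rw [AddChar.ne_one_iff] at h1
    obtain ⟨x, hx⟩ := h1
    refine ⟨x, ?_⟩
    rw [AddChar.mulShift_apply, one_mul] at hx
    exact hx
  have hN : (Fintype.card F : CyclotomicField PA.n K) ≠ 0 := by
    apply natCast_card_ne_zero
    rw [← Algebra.ringChar_eq K (CyclotomicField PA.n K)]
    exact hK
  let σ : SpecialLinearGroup (Unit ⊕ Fin m) F →* GL (Fin d) (CyclotomicField PA.n K) :=
    (Matrix.GeneralLinearGroup.map (algebraMap K (CyclotomicField PA.n K))).comp (ρ.comp (reidx e))
  have hmain := main PA.char hψ hN σ (by omega) ?_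
  · simpa using hmain
  · intro v hv
    have h1 : ρ (reidx e (X v)) = 1 := by
      apply Units.ext
      have h2 : ((Matrix.GeneralLinearGroup.map (algebraMap K (CyclotomicField PA.n K)))
          (ρ (reidx e (X v)))).1 = 1 := by
        have := congrArg Units.val hv
        exact this
      ext i j
      have h6 := congrFun (congrFun h2 i) j
      rw [Matrix.GeneralLinearGroup.map_apply] at h6
      apply (algebraMap K (CyclotomicField PA.n K)).injective
      rw [h6]
      show (1 : Matrix (Fin d) (Fin d) (CyclotomicField PA.n K)) i j = _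
      by_cases hij : i = j
      · subst hij; simp
      · simp [Matrix.one_apply_ne hij]
    have h3 : reidx e (X v) ∈ Subgroup.center _ := hker (MonoidHom.mem_ker.mpr h1)
    obtain ⟨r, _, hr⟩ := Matrix.SpecialLinearGroup.mem_center_iff.mp h3
    funext j
    have h4 := congrFun (congrFun hr (e (Sum.inl ()))) (e (Sum.inr j))
    have h5 : (reidx e (X v)).1 (e (Sum.inl ())) (e (Sum.inr j)) = v j := by
      show Matrix.reindex e e (X v).1 (e (Sum.inl ())) (e (Sum.inr j)) = v j
      simp [X_apply]
    rw [h5] at h4
    rw [← h4]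
    have hne : e (Sum.inl ()) ≠ e (Sum.inr j) := by
      intro h
      have := e.injective h
      simp at this
    simp [Matrix.scalar_apply, hne]

end Cfsg.Agent.S2392
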