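import Cfsg.Statements.S2394
import Mathlib
import Cfsg.Agent.S0245
import Cfsg.Agent.S0440
import Cfsg.Agent.Lib_helper18_Zsigmondy
-- import your own Cfsg.Agent.* helpers here

set_option autoImplicit false
open scoped MatrixGroups
open Cfsg

namespace Cfsg.Agent.S2394

open Matrix Cfsg.Agent.helper4 Cfsg.Agent.S0440 Cfsg.Agent.S2594

/-- `Sp_{2n}` is not commutative for `n ≥ 1`. -/
theorem sp_noncomm {F : Type*} [Field F] (n : ℕ) (hn : 1 ≤ n) :
    ∃ a b : Matrix.symplecticGroup (Fin n) F, a * b ≠ b * a := by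
  classical
  set x : Fin n ⊕ Fin n → F := Pi.single (Sum.inl ⟨0, hn⟩) 1 with hx
  have hx0 : x ≠ 0 := by
    intro h
    have := congrFun h (Sum.inl ⟨0, hn⟩)
    rw [hx, Pi.single_eq_same] at this
    exact one_ne_zero this
  obtain ⟨y, hy⟩ := exists_partner' x hx0
  refine ⟨TT x 1, TT y 1, fun h => ?_⟩
  have h1 := congrArg (fun t : Matrix.symplecticGroup (Fin n) F =>
    (t : Matrix (Fin n ⊕ Fin n) (Fin n ⊕ Fin n) F) *ᵥ x) h
  simp only [Submonoid.coe_mul] at h1
  rw [← Matrix.mulVec_mulVec, ← Matrix.mulVec_mulVec, TT_mulVec, TT_mulVec, TT_mulVec, TT_mulVec,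
    sympForm_self, hy, mul_one, one_smul, mul_zero, zero_smul, add_zero, sympForm_add_left,
    sympForm_self, zero_add, sympForm_swap y x, hy, mul_neg, mul_one, neg_smul, one_smul] at h1
  apply hx0
  have : x + y + -x = y := by abel
  rw [this] at h1
  rw [one_smul] at h1
  have h2 : y = x + y := h1
  have : x = 0 := by
    have h3 : x + y = 0 + y := by rw [zero_add]; exact h2.symm
    exact add_right_cancel h3
  exact this

theorem gl_comm {F : Type*} [Field F] {d : ℕ} (hd : d ≤ 1) (A B : GL (Fin d) F) : A * B = B * A := by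
  apply Units.ext
  rw [Units.val_mul, Units.val_mul]
  interval_cases d
  · exact Subsingleton.elim _ _
  · ext i j
    rw [Matrix.mul_apply, Matrix.mul_apply, Fin.sum_univ_one, Fin.sum_univ_one]
    have hi : i = 0 := Subsingleton.elim _ _
    have hj : j = 0 := Subsingleton.elim _ _
    subst hi; subst hj
    exact mul_comm _ _

theorem gl_card_small (F : Type*) [Field F] [Fintype F] (hq : Fintype.card F = 2) (d : ℕ) (hd : d ≤ 5) :
    ¬ (1451520 ∣ Nat.card (GL (Fin d) F)) := by
  rw [Matrix.card_GL_field, hq]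
  interval_cases d <;> simp [Fin.prod_univ_succ]

/-- The smallest degree of a faithful representation of the symplectic group `Sp_{2n}(q)` over its own field `F_q` is `2n`: every injective homomorphism from `Sp_{2n}(F)` to `GL_d(F)`, `F` the field with `q` elements, has `d ≥ 2n`. -/
theorem result {F : Type*} [Field F] [Fintype F] (n : ℕ) {d : ℕ}
    (ρ : ↥(Matrix.symplecticGroup (Fin n) F) →* GL (Fin d) F) (hρ : Function.Injective ρ) : 2 * n ≤ d := by
  classical
  by_contra hlt
  push Not at hlt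
  have hn1 : 1 ≤ n := by omega
  set q := Fintype.card F with hq
  have hq2 : 2 ≤ q := Fintype.one_lt_card
  -- case n = 1
  rcases Nat.lt_or_ge n 2 with hn2 | hn2
  · have hd1 : d ≤ 1 := by omega
    obtain ⟨a, b, hab⟩ := sp_noncomm (F := F) n hn1
    apply hab
    apply hρ
    rw [map_mul, map_mul]
    exact gl_comm hd1 _ _
  have hcard := Cfsg.Agent.S0245.result (F := F) (q := q) rfl n
  by_cases h26 : q = 2 ∧ n = 3
  · obtain ⟨hq', hn'⟩ := h26
    have hdvd := Subgroup.card_dvd_of_injective ρ hρ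
    rw [hcard, hq', hn'] at hdvd
    have : (2 ^ 3 ^ 2 * ∏ i ∈ Finset.range 3, (2 ^ (2 * (i + 1)) - 1) : ℕ) = 1451520 := by
      simp [Finset.prod_range_succ]
    rw [this] at hdvd
    exact gl_card_small F hq' d (by omega) hdvd
  -- generic
  obtain ⟨r, hr, hrdvd, hrmin⟩ := Cfsg.Agent.helper18.Zsig.zsigmondy q (2 * n) (by omega) (by omega)
    (by intro h; exact h26 ⟨h.1, by omega⟩) (by intro h; omega)
  haveI : Fact r.Prime := ⟨hr⟩
  have hrq : ¬ r ∣ q := by
    intro h
    have h1 : r ∣ q ^ (2 * n) := dvd_pow h (by omega)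
    have h2 : r ∣ q ^ (2 * n) - (q ^ (2 * n) - 1) := Nat.dvd_sub h1 hrdvd
    have h3 : q ^ (2 * n) - (q ^ (2 * n) - 1) = 1 := by
      have : 1 ≤ q ^ (2 * n) := Nat.one_le_pow _ _ (by omega)
      omega
    rw [h3] at h2
    exact hr.one_lt.ne' (Nat.dvd_one.mp h2)
  have hrSp : r ∣ Nat.card (Matrix.symplecticGroup (Fin n) F) := by
    rw [hcard]
    apply Dvd.dvd.mul_left
    have hmem : n - 1 ∈ Finset.range n := Finset.mem_range.mpr (by omega)
    refine dvd_trans ?_ (Finset.dvd_prod_of_mem _ hmem)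
    have : 2 * (n - 1 + 1) = 2 * n := by omega
    rw [this]
    exact hrdvd
  obtain ⟨g, hg⟩ := exists_prime_orderOf_dvd_card' r hrSp
  have hg' : orderOf (ρ g) = r := by rw [orderOf_injective ρ hρ g, hg]
  have hrGL : r ∣ Nat.card (GL (Fin d) F) := by
    rw [← hg']
    exact orderOf_dvd_natCard _
  rw [Matrix.card_GL_field] at hrGL
  obtain ⟨i, _, hi⟩ := (Prime.dvd_finset_prod_iff (Nat.prime_iff.mp hr) _).mp hrGL
  have hid : (i : ℕ) < d := i.2
  have hfac : q ^ d - q ^ (i : ℕ) = q ^ (i : ℕ) * (q ^ (d - i) - 1) := by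
    rw [Nat.mul_sub, mul_one, ← pow_add]
    congr 2
    omega
  rw [← hq, hfac] at hi
  rcases (Nat.Prime.dvd_mul hr).mp hi with h | h
  · exact hrq (hr.dvd_of_dvd_pow h)
  · exact hrmin (d - i) (by omega) (by omega) h

end Cfsg.Agent.S2394
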