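import Mathlib
import Cfsg.Statements.S2395
import Cfsg.Agent.Lib_helper6_CoverPerfChk
-- import your own Cfsg.Agent.* helpers here

set_option autoImplicit false
open Cfsg

namespace Cfsg.Agent.S2395

open Cfsg.Lie in
/-- the image of a generator in the abelianisation -/
noncomputable def zz {K : Type*} [Field K] (D : Cfsg.Lie.ChevalleyDatum) (r : ℕ) (t : K) :
    Abelianization (D.SteinbergCover K) := Abelianization.of (D.scGen K r t)

theorem scGen_add {K : Type*} [Field K] (D : Cfsg.Lie.ChevalleyDatum) (r : ℕ) (t u : K) :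
    D.scGen K r (t + u) = D.scGen K r t * D.scGen K r u := by
  by_cases hr : r < D.nroots
  · have hmem : D.stX r t * D.stX r u * (D.stX r (t + u))⁻¹ ∈ D.steinbergRelsAB K :=
      Or.inl ⟨r, t, u, hr, rfl⟩
    have h1 := PresentedGroup.one_of_mem hmem
    rw [map_mul, map_mul, map_inv, mul_inv_eq_one] at h1
    exact h1.symm
  · unfold Cfsg.Lie.ChevalleyDatum.scGen Cfsg.Lie.ChevalleyDatum.stX
    rw [dif_neg hr, dif_neg hr, dif_neg hr, map_one, one_mul]

theorem zz_add {K : Type*} [Field K] (D : Cfsg.Lie.ChevalleyDatum) (r : ℕ) (t u : K) :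
    zz D r (t + u) = zz D r t * zz D r u := by
  unfold zz
  rw [scGen_add, map_mul]

theorem zz_zero {K : Type*} [Field K] (D : Cfsg.Lie.ChevalleyDatum) (r : ℕ) :
    zz D r (0 : K) = 1 := by
  have h := zz_add D r (0 : K) 0
  rw [add_zero] at h
  exact (mul_eq_left.mp h.symm)

theorem zz_sub {K : Type*} [Field K] (D : Cfsg.Lie.ChevalleyDatum) (r : ℕ) (t u : K) :
    zz D r (t - u) = zz D r t * (zz D r u)⁻¹ := by
  have h := zz_add D r (t - u) u
  rw [sub_add_cancel] at h
  rw [h, mul_inv_cancel_right]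

theorem mk_stWord {K : Type*} [Field K] (D : Cfsg.Lie.ChevalleyDatum) (w : List (ℕ × K)) :
    PresentedGroup.mk (D.steinbergRelsAB K) (D.stWord w) =
      (w.map fun p => D.scGen K p.1 p.2).prod := by
  unfold Cfsg.Lie.ChevalleyDatum.stWord
  rw [map_list_prod, List.map_map]
  rfl

/-- the commutator relations in the abelianisation -/
theorem zz_rel {K : Type*} [Field K] (D : Cfsg.Lie.ChevalleyDatum) (r s : ℕ)
    (hr : r < D.nroots) (hs : s < D.nroots) (hne : s ≠ r) (hne' : s ≠ D.neg r) (t u : K) :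
    ((D.commTerms r s).map fun c =>
      zz D c.1 (((c.2.1 : ℤ) : K) * (-t) ^ c.2.2.1 * u ^ c.2.2.2)).prod = 1 := by
  have hmem : (D.stX s u)⁻¹ * (D.stX r t)⁻¹ * D.stX s u * D.stX r t *
      (D.stWord (D.commWord K r s t u))⁻¹ ∈ D.steinbergRelsAB K :=
    Or.inr ⟨r, s, t, u, hr, hs, hne, hne', rfl⟩
  have h1 := PresentedGroup.one_of_mem hmem
  rw [map_mul, map_inv, mul_inv_eq_one] at h1
  have h2 := congrArg (Abelianization.of (G := D.SteinbergCover K)) h1
  rw [mk_stWord, map_list_prod, List.map_map] at h2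
  simp only [map_mul, map_inv] at h2
  have h3 : ∀ a b : Abelianization (D.SteinbergCover K), a⁻¹ * b⁻¹ * a * b = 1 := by
    intro a b
    rw [mul_assoc a⁻¹ b⁻¹ a, mul_comm b⁻¹ a, ← mul_assoc, inv_mul_cancel, one_mul,
      inv_mul_cancel]
  rw [h3] at h2
  rw [h2]
  unfold Cfsg.Lie.ChevalleyDatum.commWord
  rw [List.map_map]
  rfl

theorem sign_cast_sq {K : Type*} [Field K] (c : ℤ) (hc : c = 1 ∨ c = -1) :
    ((c : ℤ) : K) * ((c : ℤ) : K) = 1 := by
  rcases hc with rfl | rfl <;> simp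

theorem single_rule {K : Type*} [Field K] (D : Cfsg.Lie.ChevalleyDatum) :
    Cfsg.Agent.helper6.CoverPerf.SingleRule D (fun r => ∀ t : K, zz D r t = 1) := by
  intro a b r c ha hb hne hne' hct hc v
  have h := zz_rel D a b ha hb hne hne' (-(((c : ℤ) : K) * v)) (1 : K)
  rw [hct] at h
  simp only [List.map_cons, List.map_nil, List.prod_cons, List.prod_nil, mul_one, pow_one,
    neg_neg, one_pow] at h
  rw [← mul_assoc, sign_cast_sq c hc, one_mul] at h
  exact h

theorem pair_rule {K : Type*} [Field K] (D : Cfsg.Lie.ChevalleyDatum)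
    (hK : ∃ x : K, x ≠ 0 ∧ x ≠ 1) :
    Cfsg.Agent.helper6.CoverPerf.PairRule D (fun r => ∀ t : K, zz D r t = 1) := by
  obtain ⟨l, hl0, hl1⟩ := hK
  intro a b c1 c2 tl ha hb hne hne' hct h11 h21 he1 he2 htl
  have hi1 : c1.2.2.1 = 1 := by rw [h11]
  have hj1 : c1.2.2.2 = 1 := by rw [h11]
  have hi2 : c2.2.2.1 = 2 := by rw [h21]
  have hj2 : c2.2.2.2 = 1 := by rw [h21]
  -- the basic relation
  have hE : ∀ t u : K, zz D c1.1 (((c1.2.1 : ℤ) : K) * (-t) * u) *
      zz D c2.1 (((c2.2.1 : ℤ) : K) * t ^ 2 * u) = 1 := by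
    intro t u
    have h := zz_rel D a b ha hb hne hne' t u
    rw [hct] at h
    simp only [List.map_cons, List.prod_cons] at h
    have htl1 : (tl.map fun c =>
        zz D c.1 (((c.2.1 : ℤ) : K) * (-t) ^ c.2.2.1 * u ^ c.2.2.2)).prod = 1 := by
      apply List.prod_eq_one
      intro x hx
      rw [List.mem_map] at hx
      obtain ⟨c, hc, rfl⟩ := hx
      exact htl c hc _
    rw [htl1, mul_one, hi1, hj1, hi2, hj2, pow_one, pow_one, neg_sq] at h
    exact h
  have hk2 : ∀ v : K, zz D c2.1 v = 1 := by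
    intro v
    set w : K := v / (((c2.2.1 : ℤ) : K) * (l - 1)) with hw
    have hc2 : ((c2.2.1 : ℤ) : K) ≠ 0 := by
      intro h0
      have := sign_cast_sq (K := K) c2.2.1 he2
      rw [h0, mul_zero] at this
      exact zero_ne_one this
    have hl : l - 1 ≠ 0 := sub_ne_zero.mpr hl1
    have e1 := hE 1 w
    have e2 := hE l (w / l)
    have e3 : ((c1.2.1 : ℤ) : K) * (-l) * (w / l) = ((c1.2.1 : ℤ) : K) * (-1) * w := by
      field_simp
    rw [e3] at e2
    have e4 : zz D c2.1 (((c2.2.1 : ℤ) : K) * l ^ 2 * (w / l)) =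
        zz D c2.1 (((c2.2.1 : ℤ) : K) * 1 ^ 2 * w) := by
      have := e2.trans e1.symm
      exact mul_left_cancel this
    have e5 : zz D c2.1 (((c2.2.1 : ℤ) : K) * l ^ 2 * (w / l) -
        ((c2.2.1 : ℤ) : K) * 1 ^ 2 * w) = 1 := by
      rw [zz_sub, e4, mul_inv_cancel]
    have e6 : ((c2.2.1 : ℤ) : K) * l ^ 2 * (w / l) - ((c2.2.1 : ℤ) : K) * 1 ^ 2 * w = v := by
      rw [hw]
      field_simp
    rw [e6] at e5
    exact e5
  refine ⟨?_, hk2⟩
  intro v
  have e1 := hE (((c1.2.1 : ℤ) : K) * v) (-1)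
  rw [hk2, mul_one] at e1
  have e2 : ((c1.2.1 : ℤ) : K) * (-(((c1.2.1 : ℤ) : K) * v)) * (-1) = v := by
    have := sign_cast_sq (K := K) c1.2.1 he1
    calc ((c1.2.1 : ℤ) : K) * (-(((c1.2.1 : ℤ) : K) * v)) * (-1)
        = (((c1.2.1 : ℤ) : K) * ((c1.2.1 : ℤ) : K)) * v := by ring
      _ = v := by rw [this, one_mul]
  rw [e2] at e1
  exact e1


/-- The group presented by Steinberg's generators x̄_r(t) subject only to (R1) (additivity) and (R2) (the commutator formula) is perfect, for each of the types G₂, B₂, D₄, F₄, E₆, E₇, E₈ over any field (for types B₂ and G₂ the field must have more than two elements — the cases where the Chevalley group is not simple are set aside). -/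
theorem result {K : Type*} [Field K] (D : Cfsg.Lie.ChevalleyDatum) (hD : D ∈ [Cfsg.Lie.chevG2, Cfsg.Lie.chevB2, Cfsg.Lie.chevD4, Cfsg.Lie.chevF4, Cfsg.Lie.chevE6, Cfsg.Lie.chevE7, Cfsg.Lie.chevE8]) (hK : D ∈ [Cfsg.Lie.chevB2, Cfsg.Lie.chevG2] → ∃ x : K, x ≠ 0 ∧ x ≠ 1) :
    commutator (D.SteinbergCover K) = ⊤ := by
  have hall := Cfsg.Agent.helper6.CoverPerf.all_roots D hD (fun r => ∀ t : K, zz D r t = 1)
    (single_rule D) (fun h => pair_rule D (hK h))
  have htriv : (Abelianization.of : D.SteinbergCover K →* Abelianization (D.SteinbergCover K)) =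
      1 := by
    apply PresentedGroup.ext
    intro x
    have h1 := hall x.1.val x.1.2 x.2
    unfold zz Cfsg.Lie.ChevalleyDatum.scGen Cfsg.Lie.ChevalleyDatum.stX at h1
    rw [dif_pos x.1.2] at h1
    rw [MonoidHom.one_apply]
    exact h1
  rw [← Abelianization.ker_of, htriv]
  exact MonoidHom.ker_one

end Cfsg.Agent.S2395
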