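import Cfsg.Statements.S2409
import Mathlib
import Cfsg.Agent.Lib_helper5_ReeY
import Cfsg.Agent.Lib_helper5_ReeS

set_option autoImplicit false
open Cfsg

namespace Cfsg.Agent.S2409

/-- The small Ree group ²G₂(3^(2m+1)) with `m ≥ 1` is generated by two of its elements. -/
theorem result {K : Type*} [Field K] [Fintype K] {m : ℕ} (hm : 1 ≤ m) (hK : Fintype.card K = 3 ^ (2 * m + 1)) :
    ∃ a b : ↥(Cfsg.Lie.twistedG2 K (3 ^ m)), Subgroup.closure ({a, b} : Set ↥(Cfsg.Lie.twistedG2 K (3 ^ m))) = ⊤ := by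
  haveI : CharP K 3 := Cfsg.Agent.helper5.Chev.ree_charP hK
  have hff := Cfsg.Agent.helper5.Chev.reeF_ff (K := K) hK
  have hfe : ∀ t : K, Cfsg.Agent.helper5.Chev.reeF m t = t ^ 3 ^ m :=
    Cfsg.Agent.helper5.Chev.reeF_apply
  obtain ⟨j, N, h1, h2, h3, h4⟩ := Cfsg.Agent.helper5.Chev.ree_arith m
  have h5 : 3 < Fintype.card K := by
    rw [hK]
    exact Cfsg.Agent.helper5.Chev.ree_three_lt hm
  exact Cfsg.Agent.helper5.Chev.ree_two_gen' _ hff (3 ^ m) hfe h4 j N (hK.trans h1) h2 h3 h5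

end Cfsg.Agent.S2409
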