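import Cfsg.Statements.S2410
import Cfsg.Agent.Lib_helper11_Sz11

set_option autoImplicit false
open Cfsg

namespace Cfsg.Agent.S2410

open Cfsg.Agent.helper11.Sz Cfsg.Agent.S0326 Matrix

/-- The Suzuki group over the field with `2^(2m+1)` elements, `m ≥ 1` (realised as the stabiliser in `SL₄` of the Suzuki–Tits ovoid), is generated by two of its elements. -/
theorem result {F : Type*} [Field F] [Fintype F] {m : ℕ} (hm : 1 ≤ m) (hF : Fintype.card F = 2 ^ (2 * m + 1)) :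
    ∃ a b : ↥(Cfsg.Sz F m), Subgroup.closure ({a, b} : Set ↥(Cfsg.Sz F m)) = ⊤ := by
  haveI := Cfsg.Agent.helper11.Sz.charP_two hF
  have h2 : ∀ z : F, z + z = 0 := CharTwo.add_self_eq_zero
  obtain ⟨k₀, hk₀⟩ := IsCyclic.exists_generator (α := Fˣ)
  -- the homomorphism `hq`
  let hqHom : Fˣ →* Cfsg.Sz F m :=
    { toFun := fun k => hq hF k
      map_one' := hq_one hF
      map_mul' := fun k k' => (hq_mul hm hF k k').symm }
  have hk₀1 : k₀ ≠ 1 := by
    intro h1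
    obtain ⟨c, hc0, hc1, -⟩ := exists_th_ne (F := F) hm hF
    have hc : Units.mk0 c hc0 ∈ Subgroup.zpowers k₀ := hk₀ _
    rw [h1, Subgroup.zpowers_one_eq_bot, Subgroup.mem_bot] at hc
    apply hc1
    have := congrArg Units.val hc
    simpa using this
  refine ⟨hq hF k₀, wq hF * tq hF 1 0, ?_⟩
  set K : Subgroup (Cfsg.Sz F m) := Subgroup.closure {hq hF k₀, wq hF * tq hF 1 0} with hK
  have ha : hq hF k₀ ∈ K := Subgroup.subset_closure (by simp)
  have hb : wq hF * tq hF 1 0 ∈ K := Subgroup.subset_closure (by simp)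
  -- all `hq k` are in `K`
  have hH : ∀ k : Fˣ, hq hF k ∈ K := by
    intro k
    obtain ⟨n, rfl⟩ := Subgroup.mem_zpowers_iff.mp (hk₀ k)
    have : hq hF (k₀ ^ n) = (hq hF k₀) ^ n := map_zpow hqHom k₀ n
    rw [this]
    exact K.zpow_mem ha n
  -- a nontrivial element of `Q` in `K`
  have hbinv : (wq hF * tq hF 1 0)⁻¹ = (tq hF (1 : F) 0)⁻¹ * wq hF := by
    rw [_root_.mul_inv_rev, wq_inv]
  have ht' : hq hF k₀ * ((wq hF * tq hF 1 0)⁻¹ * hq hF k₀ * (wq hF * tq hF 1 0)) ∈ K :=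
    K.mul_mem ha (K.mul_mem (K.mul_mem (K.inv_mem hb) ha) hb)
  have hcalc : hq hF k₀ * ((wq hF * tq hF 1 0)⁻¹ * hq hF k₀ * (wq hF * tq hF 1 0)) =
      tq hF ((k₀ : F) + 1) (th F m k₀ * k₀ + th F m k₀) := by
    have e1 : (wq hF * tq hF 1 0)⁻¹ * hq hF k₀ * (wq hF * tq hF 1 0) =
        (tq hF (1 : F) 0)⁻¹ * (wq hF * hq hF k₀ * wq hF) * tq hF 1 0 := by
      rw [hbinv]; group
    rw [e1, wq_hq_wq]
    have e2 : hq hF k₀ * ((tq hF (1 : F) 0)⁻¹ * hq hF k₀⁻¹ * tq hF 1 0) =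
        (hq hF k₀ * tq hF (1 : F) 0 * (hq hF k₀)⁻¹)⁻¹ * tq hF 1 0 := by
      rw [hq_inv hm hF]
      have : hq hF k₀ * hq (m := m) hF k₀⁻¹ = 1 := by
        rw [hq_mul hm hF, mul_inv_cancel, hq_one]
      have h3 : (hq hF k₀ * tq hF (1 : F) 0 * hq (m := m) hF k₀⁻¹)⁻¹ =
          hq hF k₀ * (tq hF (1 : F) 0)⁻¹ * hq (m := m) hF k₀⁻¹ := by
        rw [_root_.mul_inv_rev, _root_.mul_inv_rev, ← hq_inv hm hF, inv_inv, mul_assoc]
      rw [h3]
      group
    rw [e2, hq_tq_conj hm hF, tq_inv hm hF, tq_mul hm hF]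
    congr 1
    · rw [mul_one]
    · rw [mul_one]; ring
  rw [hcalc] at ht'
  have hα : (k₀ : F) + 1 ≠ 0 := by
    intro h0
    apply hk₀1
    apply Units.ext
    have : (k₀ : F) = (k₀ : F) + ((k₀ : F) + 1) := by rw [h0, add_zero]
    rw [this, ← add_assoc, h2, zero_add, Units.val_one]
  -- for every nonzero `x`, some `tq x y` lies in `K`
  have hx : ∀ x : F, x ≠ 0 → ∃ y : F, tq hF x y ∈ K := by
    intro x hx0
    let k : Fˣ := Units.mk0 (x * ((k₀ : F) + 1)⁻¹) (mul_ne_zero hx0 (inv_ne_zero hα))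
    refine ⟨th F m k * k * (th F m k₀ * k₀ + th F m k₀), ?_⟩
    have := K.mul_mem (K.mul_mem (hH k) ht') (K.inv_mem (hH k))
    rw [hq_tq_conj hm hF] at this
    have hkx : (k : F) * ((k₀ : F) + 1) = x := by
      simp only [k, Units.val_mk0]
      field_simp
    rwa [hkx] at this
  -- the centre of `Q` lies in `K`
  have hZ : ∀ c : F, tq hF 0 c ∈ K := by
    intro c
    obtain ⟨x, hxc⟩ := mul_th_surjective (m := m) hF c
    simp only at hxc
    by_cases hx0 : x = 0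
    · rw [hx0, zero_mul] at hxc
      rw [← hxc, tq_zero hm hF]
      exact K.one_mem
    · obtain ⟨y, hy⟩ := hx x hx0
      have := K.mul_mem hy hy
      rw [tq_sq hm hF] at this
      rwa [mul_comm, hxc] at this
  have hQ : ∀ a b : F, tq hF a b ∈ K := by
    intro a b
    by_cases ha0 : a = 0
    · rw [ha0]; exact hZ b
    · obtain ⟨y, hy⟩ := hx a ha0
      have := K.mul_mem hy (hZ (y + b))
      rw [tq_mul hm hF] at this
      have e : y + (y + b) + th F m a * 0 = b := by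
        rw [mul_zero, add_zero, ← add_assoc, h2, zero_add]
      rwa [add_zero, e] at this
  have hw : wq hF ∈ K := by
    have := K.mul_mem hb (K.inv_mem (hQ 1 0))
    rwa [mul_assoc, mul_inv_cancel, mul_one] at this
  rw [eq_top_iff]
  intro g _
  rcases bruhat' hm hF g with ⟨a, b, k, rfl⟩ | ⟨a, b, a', b', k, rfl⟩
  · exact K.mul_mem (hQ a b) (hH k)
  · exact K.mul_mem (K.mul_mem (K.mul_mem (hQ a b) hw) (hQ a' b')) (hH k)

end Cfsg.Agent.S2410
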