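import Mathlib
import Cfsg.Statements.S2416
import Cfsg.Agent.Lib_helper6_Orb
import Cfsg.Agent.Lib_helper5_ChevCerts
import Cfsg.Agent.Lib_helper5_ChevComm
-- import your own Cfsg.Agent.* helpers here

set_option autoImplicit false
open scoped MatrixGroups
open Cfsg

namespace Cfsg.Agent.S2416

/-- A Chevalley group of type G₂, B₂, D₄, F₄, E₆, E₇ or E₈ over a finite field lies in (indeed equals) the subgroup generated by its monomial subgroup `N` and a single fundamental root subgroup `X_p`, where `p` is a short fundamental root if there are two root lengths (any fundamental root otherwise), provided the characteristic is not 2 for types B₂, F₄ and not 3 for type G₂ (and the field has more than two elements for B₂, G₂). -/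
theorem result {K : Type*} [Field K] [Finite K] (D : Cfsg.Lie.ChevalleyDatum) (hD : D ∈ [Cfsg.Lie.chevG2, Cfsg.Lie.chevB2, Cfsg.Lie.chevD4, Cfsg.Lie.chevF4, Cfsg.Lie.chevE6, Cfsg.Lie.chevE7, Cfsg.Lie.chevE8])
    (hK : D ∈ [Cfsg.Lie.chevB2, Cfsg.Lie.chevG2] → ∃ x : K, x ≠ 0 ∧ x ≠ 1)
    (h2 : D ∈ [Cfsg.Lie.chevB2, Cfsg.Lie.chevF4] → ringChar K ≠ 2) (h3 : D = Cfsg.Lie.chevG2 → ringChar K ≠ 3)
    (i : ℕ) (hi : i < D.rank) (hshort : D.isLong (D.simple i) = false) :
    D.group K ≤ D.monomialSubgroup K ⊔ D.rootSubgroup K (D.simple i) := by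
  classical
  have hR := Cfsg.Agent.helper5.Chev.rootsOK_of_mem D hD
  have hn : ∀ m < D.rank, Cfsg.Agent.helper5.Chev.nGt D hD (D.simple m) (1 : K) ∈
      D.monomialSubgroup K ⊔ D.rootSubgroup K (D.simple i) := fun m hm =>
    le_sup_left (a := D.monomialSubgroup K)
      (Cfsg.Agent.helper5.Chev.nGt_one_mem D hD _ (hR.simple_lt m hm))
  have hxi : ∀ t : K, Cfsg.Agent.helper5.Chev.xG D hD (D.simple i) t ∈
      D.monomialSubgroup K ⊔ D.rootSubgroup K (D.simple i) := fun t =>
    le_sup_right (a := D.monomialSubgroup K) (Subgroup.subset_closure ⟨t, rfl⟩)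
  have hxall : ∀ r < D.nroots, ∀ t : K, Cfsg.Agent.helper5.Chev.xG D hD r t ∈
      D.monomialSubgroup K ⊔ D.rootSubgroup K (D.simple i) := by
    rcases Cfsg.Agent.helper6.Orb.reach_cases D hD with hall | ⟨hcase, hsame, hL⟩
    · intro r hr
      exact Cfsg.Agent.helper6.Orb.xG_mem_of_reach D hD _ hn _ _ (hR.simple_lt i hi)
        (hall _ (hR.simple_lt i hi) r hr) hxi
    · have hshortAll : ∀ r < D.nroots, D.isLong r = false → ∀ t : K,
          Cfsg.Agent.helper5.Chev.xG D hD r t ∈
            D.monomialSubgroup K ⊔ D.rootSubgroup K (D.simple i) := by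
        intro r hr hl
        exact Cfsg.Agent.helper6.Orb.xG_mem_of_reach D hD _ hn _ _ (hR.simple_lt i hi)
          (hsame _ (hR.simple_lt i hi) r hr (by rw [hshort, hl])) hxi
      have hm : (((if D.nroots = 12 then 3 else 2 : ℤ) : ℤ) : K) ≠ 0 := by
        rcases hcase with h | h | h
        · subst h
          have h12 : Cfsg.Lie.chevG2.nroots = 12 := by decide
          rw [if_pos h12]
          have h3' : ((3 : ℕ) : K) ≠ 0 := by
            intro h0
            have hdvd := ringChar.dvd h0
            rcases (Nat.dvd_prime Nat.prime_three).mp hdvd with h1 | h1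
            · exact CharP.ringChar_ne_one h1
            · exact h3 rfl h1
          exact_mod_cast h3'
        · subst h
          have h12 : ¬ Cfsg.Lie.chevB2.nroots = 12 := by decide
          rw [if_neg h12]
          have h2' : (2 : K) ≠ 0 := Ring.two_ne_zero (h2 (by simp))
          exact_mod_cast h2'
        · subst h
          have h12 : ¬ Cfsg.Lie.chevF4.nroots = 12 := by decide
          rw [if_neg h12]
          have h2' : (2 : K) ≠ 0 := Ring.two_ne_zero (h2 (by simp))
          exact_mod_cast h2'
      intro r hr v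
      cases hl : D.isLong r
      · exact hshortAll r hr hl v
      · obtain ⟨a, b, c, ha, hb, hla, hlb, hne, hne', hct, hc⟩ := hL r hr hl
        have hc0 : ((c : ℤ) : K) ≠ 0 := by
          rcases hc with hc | hc
          · rw [hc]
            exact hm
          · rw [hc, Int.cast_neg]
            exact neg_ne_zero.mpr hm
        have hcomm := Cfsg.Agent.helper5.Chev.commF_of_ok (F := K) D hD
          (Cfsg.Agent.helper5.Chev.commOK_of_mem D hD) a ha b hb hne hne'
        have h1 := hcomm (-(v / ((c : ℤ) : K))) 1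
        have hcw : Cfsg.Agent.helper5.Chev.cwG D hD a b (-(v / ((c : ℤ) : K))) 1 =
            Cfsg.Agent.helper5.Chev.xG D hD r v := by
          unfold Cfsg.Agent.helper5.Chev.cwG
          rw [hct]
          simp only [List.map_cons, List.map_nil, List.prod_cons, List.prod_nil, mul_one,
            pow_one, neg_neg, one_pow]
          congr 1
          field_simp
        have h4 : Cfsg.Agent.helper5.Chev.cwG D hD a b (-(v / ((c : ℤ) : K))) 1 =
            (Cfsg.Agent.helper5.Chev.xG D hD a (-(v / ((c : ℤ) : K))) *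
              Cfsg.Agent.helper5.Chev.xG D hD b 1)⁻¹ *
            (Cfsg.Agent.helper5.Chev.xG D hD b 1 *
              Cfsg.Agent.helper5.Chev.xG D hD a (-(v / ((c : ℤ) : K)))) := by
          rw [h1]
          group
        rw [← hcw, h4]
        exact Subgroup.mul_mem _
          (Subgroup.inv_mem _ (Subgroup.mul_mem _ (hshortAll a ha hla _) (hshortAll b hb hlb _)))
          (Subgroup.mul_mem _ (hshortAll b hb hlb _) (hshortAll a ha hla _))
  unfold Cfsg.Lie.ChevalleyDatum.group
  rw [Subgroup.closure_le]
  rintro g ⟨r, t, hg⟩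
  have hg' : g = Cfsg.Agent.helper5.Chev.xG D hD r.val t := by
    apply Units.ext
    rw [hg, Cfsg.Agent.helper5.Chev.xG_val, Cfsg.Agent.helper5.Chev.x_eq_xMat D r.val r.2]
  rw [hg']
  exact hxall r.val r.2 t

end Cfsg.Agent.S2416
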