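import Mathlib
import Cfsg.Statements.S2417
import Cfsg.Agent.Lib_helper6_Orb
-- import your own Cfsg.Agent.* helpers here

set_option autoImplicit false
open scoped MatrixGroups
open Cfsg

namespace Cfsg.Agent.S2417

/-- In the characteristics with an exceptional graph symmetry — type B₂ or F₄ in characteristic 2 (field of more than two elements for B₂) and type G₂ in characteristic 3 — the Chevalley group lies in the subgroup generated by its monomial subgroup `N` and the two fundamental root subgroups `X_a`, `X_b` of a short root `a` and a long root `b` joined in the Dynkin diagram. -/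
theorem result {K : Type*} [Field K] [Finite K] (e : Cfsg.Lie.ChevalleyDatum × ℕ)
    (he : e ∈ [(Cfsg.Lie.chevB2, 2), (Cfsg.Lie.chevF4, 2), (Cfsg.Lie.chevG2, 3)]) [CharP K e.2]
    (hK : e.1 = Cfsg.Lie.chevB2 → ∃ x : K, x ≠ 0 ∧ x ≠ 1)
    (i j : ℕ) (hi : i < e.1.rank) (hj : j < e.1.rank) (hshort : e.1.isLong (e.1.simple i) = false)
    (hlong : e.1.isLong (e.1.simple j) = true) (hbond : e.1.bonds i j ≠ 0) :
    e.1.group K ≤ e.1.monomialSubgroup K ⊔ e.1.rootSubgroup K (e.1.simple i) ⊔ e.1.rootSubgroup K (e.1.simple j) := by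
  classical
  have hD : e.1 ∈ [Cfsg.Lie.chevG2, Cfsg.Lie.chevB2, Cfsg.Lie.chevD4, Cfsg.Lie.chevF4,
      Cfsg.Lie.chevE6, Cfsg.Lie.chevE7, Cfsg.Lie.chevE8] := by
    simp only [List.mem_cons, List.not_mem_nil, or_false] at he
    rcases he with rfl | rfl | rfl <;> simp
  have hR := Cfsg.Agent.helper5.Chev.rootsOK_of_mem e.1 hD
  have hn : ∀ m < e.1.rank, Cfsg.Agent.helper5.Chev.nGt e.1 hD (e.1.simple m) (1 : K) ∈
      e.1.monomialSubgroup K ⊔ e.1.rootSubgroup K (e.1.simple i) ⊔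
        e.1.rootSubgroup K (e.1.simple j) := fun m hm =>
    le_sup_left (a := e.1.monomialSubgroup K ⊔ e.1.rootSubgroup K (e.1.simple i))
      (le_sup_left (a := e.1.monomialSubgroup K)
        (Cfsg.Agent.helper5.Chev.nGt_one_mem e.1 hD _ (hR.simple_lt m hm)))
  have hxi : ∀ t : K, Cfsg.Agent.helper5.Chev.xG e.1 hD (e.1.simple i) t ∈
      e.1.monomialSubgroup K ⊔ e.1.rootSubgroup K (e.1.simple i) ⊔
        e.1.rootSubgroup K (e.1.simple j) := fun t =>
    le_sup_left (a := e.1.monomialSubgroup K ⊔ e.1.rootSubgroup K (e.1.simple i))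
      (le_sup_right (a := e.1.monomialSubgroup K)
        (Subgroup.subset_closure ⟨t, rfl⟩))
  have hxj : ∀ t : K, Cfsg.Agent.helper5.Chev.xG e.1 hD (e.1.simple j) t ∈
      e.1.monomialSubgroup K ⊔ e.1.rootSubgroup K (e.1.simple i) ⊔
        e.1.rootSubgroup K (e.1.simple j) := fun t =>
    le_sup_right (a := e.1.monomialSubgroup K ⊔ e.1.rootSubgroup K (e.1.simple i))
      (Subgroup.subset_closure ⟨t, rfl⟩)
  unfold Cfsg.Lie.ChevalleyDatum.group
  rw [Subgroup.closure_le]
  rintro g ⟨r, t, hg⟩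
  have hg' : g = Cfsg.Agent.helper5.Chev.xG e.1 hD r.val t := by
    apply Units.ext
    rw [hg, Cfsg.Agent.helper5.Chev.xG_val, Cfsg.Agent.helper5.Chev.x_eq_xMat e.1 r.val r.2]
  rw [hg']
  cases hl : e.1.isLong r.val
  · exact Cfsg.Agent.helper6.Orb.xG_mem_of_reach e.1 hD _ hn _ _ (hR.simple_lt i hi)
      (Cfsg.Agent.helper6.Orb.reach_same e.1 hD _ (hR.simple_lt i hi) _ r.2
        (by rw [hshort, hl])) hxi t
  · exact Cfsg.Agent.helper6.Orb.xG_mem_of_reach e.1 hD _ hn _ _ (hR.simple_lt j hj)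
      (Cfsg.Agent.helper6.Orb.reach_same e.1 hD _ (hR.simple_lt j hj) _ r.2
        (by rw [hlong, hl])) hxj t

end Cfsg.Agent.S2417
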