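import Cfsg.Statements.S2418
import Mathlib
import Cfsg.Agent.Lib_helper6_CoxW
import Cfsg.Agent.Lib_helper6_Cen
-- import your own Cfsg.Agent.* helpers here

set_option autoImplicit false
open Cfsg

namespace Cfsg.Agent.S2418


open Cfsg.Lie Cfsg.Agent.helper5.Chev Cfsg.Agent.helper5.TC Cfsg.Agent.helper6.CoxW
  Cfsg.Agent.helper6.Cen

/-- the word acts as `-1` -/
def negChk (D : ChevalleyDatum) (T : List ℕ) (nr : ℕ) (w : List ℕ) : Bool :=
  (List.range nr).all fun r => Nat.beq (applyRT T w.reverse r) (D.neg r)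

section
variable (D : ChevalleyDatum)
  (hD : D ∈ [chevG2, chevB2, chevD4, chevF4, chevE6, chevE7, chevE8])
  {n : ℕ} (M : CoxeterMatrix (Fin n)) (hrank : D.rank = n)
  (π : M.Group →* Equiv.Perm (Fin D.nroots)) (hπ : Function.Injective π)
  (hπw : ∀ w : List ℕ, (∀ i ∈ w, i < D.rank) → ∀ r : Fin D.nroots,
    (π (wprod (sgen M) w) r).val = applyW D w r.val)

include hD hrank hπ hπw in
/-- a central element is trivial or acts as `-1` on the roots -/
theorem center_cases (z : M.Group) (hz : z ∈ Subgroup.center M.Group) :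
    z = 1 ∨ ∃ w : List ℕ, (∀ i ∈ w, i < D.rank) ∧ z = wprod (sgen M) w ∧
      ∀ r < D.nroots, applyW D w r = D.neg r := by
  obtain ⟨w, hw, rfl⟩ := exists_word M z
  have hw' : ∀ i ∈ w, i < D.rank := fun i hi => by rw [hrank]; exact hw i hi
  have hcomm : ∀ i < D.rank, ∀ r < D.nroots,
      applyW D w (D.reflectRoot i r) = D.reflectRoot i (applyW D w r) := by
    intro i hi r hr
    have h1 : wprod (sgen M) (w ++ [i]) = wprod (sgen M) (i :: w) := by
      rw [wprod_append, wprod_single, wprod_cons]
      exact (Subgroup.mem_center_iff.mp hz (sgen M i)).symm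
    have h2 := congrArg (fun x => ((π x) ⟨r, hr⟩).val) h1
    have hl1 : ∀ j ∈ w ++ [i], j < D.rank := by
      intro j hj
      rw [List.mem_append, List.mem_singleton] at hj
      rcases hj with hj | rfl
      · exact hw' j hj
      · exact hi
    have hl2 : ∀ j ∈ i :: w, j < D.rank := by
      intro j hj
      rw [List.mem_cons] at hj
      rcases hj with rfl | hj
      · exact hi
      · exact hw' j hj
    rw [hπw _ hl1 ⟨r, hr⟩, hπw _ hl2 ⟨r, hr⟩, applyW_append] at h2
    exact h2
  rcases central_cases D hD w hw' hcomm with h | h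
  · left
    apply hπ
    rw [map_one]
    ext r
    rw [hπw w hw' r, h r.val r.2]
    rfl
  · right
    exact ⟨w, hw', rfl, h⟩

include hD hrank hπ hπw in
/-- the centre has order two when a power of the Coxeter element acts as `-1` -/
theorem center_two {T : List ℕ} {nr rank half : ℕ} {simp : List ℕ}
    (hT : RTabOK D T nr rank half simp) (k : ℕ)
    (hchk : negChk D T nr (List.replicate k (List.range n)).flatten = true)
    (hn0 : 0 < D.nroots) :
    Nat.card (Subgroup.center M.Group) = 2 ∧
      Subgroup.center M.Group ≤ Subgroup.zpowers (wprod (sgen M) (List.range n)) := by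
  have hR := rootsOK_of_mem D hD
  have hcwlt : ∀ i ∈ (List.replicate k (List.range n)).flatten, i < D.rank := by
    intro i hi
    rw [List.mem_flatten] at hi
    obtain ⟨l, hl, hil⟩ := hi
    rw [List.eq_of_mem_replicate hl] at hil
    rw [hrank]
    exact List.mem_range.mp hil
  have hact : ∀ r < D.nroots, applyW D (List.replicate k (List.range n)).flatten r = D.neg r := by
    intro r hr
    rw [← applyRT_word D hD hT _ hcwlt r hr]
    unfold negChk at hchk
    rw [List.all_eq_true] at hchk
    exact Nat.eq_of_beq_eq_true (hchk r (List.mem_range.mpr (by rw [hT.hn]; exact hr)))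
  have hw0c : wprod (sgen M) (List.replicate k (List.range n)).flatten =
      wprod (sgen M) (List.range n) ^ k := wprod_replicate _ _ _
  have happ : ∀ u u' : List ℕ, (∀ i ∈ u, i < D.rank) → (∀ i ∈ u', i < D.rank) →
      ∀ i ∈ u ++ u', i < D.rank := by
    intro u u' hu hu' i hi
    rw [List.mem_append] at hi
    rcases hi with hi | hi
    · exact hu i hi
    · exact hu' i hi
  have hcen : wprod (sgen M) (List.replicate k (List.range n)).flatten ∈
      Subgroup.center M.Group := by
    rw [Subgroup.mem_center_iff]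
    intro g
    obtain ⟨u, hu, rfl⟩ := exists_word M g
    have hu' : ∀ i ∈ u, i < D.rank := fun i hi => by rw [hrank]; exact hu i hi
    rw [← wprod_append, ← wprod_append]
    apply hπ
    ext r
    rw [hπw _ (happ _ _ hu' hcwlt) r, hπw _ (happ _ _ hcwlt hu') r, applyW_append, applyW_append,
      hact _ r.2, hact _ (applyW_lt D hD u hu' _ r.2), Cfsg.Agent.helper6.Cen.applyW_neg D hD u hu' _ r.2]
  have hne : wprod (sgen M) (List.replicate k (List.range n)).flatten ≠ 1 := by
    intro h1
    have h2 := hπw _ hcwlt ⟨0, hn0⟩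
    rw [h1, map_one, hact 0 hn0] at h2
    exact neg_ne_self D hD 0 hn0 h2.symm
  have hsq : wprod (sgen M) (List.replicate k (List.range n)).flatten ^ 2 = 1 := by
    rw [pow_two, ← wprod_append]
    apply hπ
    rw [map_one]
    ext r
    rw [hπw _ (happ _ _ hcwlt hcwlt) r, applyW_append, hact _ r.2, hact _ (hR.neg_lt _ r.2),
      hR.neg_neg _ r.2]
    rfl
  have hord : orderOf (wprod (sgen M) (List.replicate k (List.range n)).flatten) = 2 :=
    orderOf_eq_prime hsq hne
  have heq : Subgroup.center M.Group =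
      Subgroup.zpowers (wprod (sgen M) (List.replicate k (List.range n)).flatten) := by
    apply le_antisymm
    · intro z hz
      rcases center_cases D hD M hrank π hπ hπw z hz with rfl | ⟨w, hw, rfl, hneg⟩
      · exact Subgroup.one_mem _
      · have h3 : wprod (sgen M) w =
            wprod (sgen M) (List.replicate k (List.range n)).flatten := by
          apply hπ
          ext r
          rw [hπw w hw r, hπw _ hcwlt r, hneg _ r.2, hact _ r.2]
        rw [h3]
        exact Subgroup.mem_zpowers _
    · rw [Subgroup.zpowers_le]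
      exact hcen
  refine ⟨?_, ?_⟩
  · rw [heq, Nat.card_zpowers, hord]
  · rw [heq, Subgroup.zpowers_le, hw0c]
    exact Subgroup.pow_mem _ (Subgroup.mem_zpowers _) k

end

set_option maxRecDepth 1000000 in
set_option maxHeartbeats 0 in
theorem cen_B2 : Nat.card (Subgroup.center ((CoxeterMatrix.B 2)).Group) = 2 ∧
    Subgroup.center ((CoxeterMatrix.B 2)).Group ≤
      Subgroup.zpowers ((List.finRange 2).map ((CoxeterMatrix.B 2)).simple).prod := by
  obtain ⟨π, hπ, hπw⟩ := rep_B2
  rw [finRange_map_simple]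
  exact center_two chevB2 pcMem_B2 ((CoxeterMatrix.B 2)) (by decide) π hπ hπw pcRTOK_B2 2
    (by decide +kernel) (by decide)

set_option maxRecDepth 1000000 in
set_option maxHeartbeats 0 in
theorem cen_G2 : Nat.card (Subgroup.center (CoxeterMatrix.G₂).Group) = 2 ∧
    Subgroup.center (CoxeterMatrix.G₂).Group ≤
      Subgroup.zpowers ((List.finRange 2).map (CoxeterMatrix.G₂).simple).prod := by
  obtain ⟨π, hπ, hπw⟩ := rep_G2
  rw [finRange_map_simple]
  exact center_two chevG2 pcMem_G2 (CoxeterMatrix.G₂) (by decide) π hπ hπw pcRTOK_G2 3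
    (by decide +kernel) (by decide)

set_option maxRecDepth 1000000 in
set_option maxHeartbeats 0 in
theorem cen_D4 : Nat.card (Subgroup.center (Cfsg.Lie.coxeterD4).Group) = 2 ∧
    Subgroup.center (Cfsg.Lie.coxeterD4).Group ≤
      Subgroup.zpowers ((List.finRange 4).map (Cfsg.Lie.coxeterD4).simple).prod := by
  obtain ⟨π, hπ, hπw⟩ := rep_D4
  rw [finRange_map_simple]
  exact center_two chevD4 pcMem_D4 (Cfsg.Lie.coxeterD4) (by decide) π hπ hπw pcRTOK_D4 3
    (by decide +kernel) (by decide)

set_option maxRecDepth 1000000 in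
set_option maxHeartbeats 0 in
theorem cen_F4 : Nat.card (Subgroup.center (CoxeterMatrix.F₄).Group) = 2 ∧
    Subgroup.center (CoxeterMatrix.F₄).Group ≤
      Subgroup.zpowers ((List.finRange 4).map (CoxeterMatrix.F₄).simple).prod := by
  obtain ⟨π, hπ, hπw⟩ := rep_F4
  rw [finRange_map_simple]
  exact center_two chevF4 pcMem_F4 (CoxeterMatrix.F₄) (by decide) π hπ hπw pcRTOK_F4 6
    (by decide +kernel) (by decide)

set_option maxRecDepth 1000000 in
set_option maxHeartbeats 0 in
theorem cen_E6 : Nat.card (Subgroup.center (CoxeterMatrix.E₆).Group) = 1 ∧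
    Subgroup.center (CoxeterMatrix.E₆).Group ≤
      Subgroup.zpowers ((List.finRange 6).map (CoxeterMatrix.E₆).simple).prod := by
  obtain ⟨π, hπ, hπw⟩ := rep_E6
  have h : Subgroup.center (CoxeterMatrix.E₆).Group = ⊥ := by
    rw [eq_bot_iff]
    intro z hz
    rcases center_cases chevE6 pcMem_E6 (CoxeterMatrix.E₆) (by decide) π hπ hπw z hz with
      rfl | ⟨w, hw, rfl, hneg⟩
    · exact Subgroup.mem_bot.mpr rfl
    · exact (no_neg_E6 w hw hneg).elim
  rw [h]
  exact ⟨Subgroup.card_bot, bot_le⟩

set_option maxRecDepth 1000000 in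
set_option maxHeartbeats 0 in
theorem cen_E7 : Nat.card (Subgroup.center (CoxeterMatrix.E₇).Group) = 2 ∧
    Subgroup.center (CoxeterMatrix.E₇).Group ≤
      Subgroup.zpowers ((List.finRange 7).map (CoxeterMatrix.E₇).simple).prod := by
  obtain ⟨π, hπ, hπw⟩ := rep_E7
  rw [finRange_map_simple]
  exact center_two chevE7 pcMem_E7 (CoxeterMatrix.E₇) (by decide) π hπ hπw pcRTOK_E7 9
    (by decide +kernel) (by decide)

set_option maxRecDepth 1000000 in
set_option maxHeartbeats 0 in
theorem cen_E8 : Nat.card (Subgroup.center (CoxeterMatrix.E₈).Group) = 2 ∧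
    Subgroup.center (CoxeterMatrix.E₈).Group ≤
      Subgroup.zpowers ((List.finRange 8).map (CoxeterMatrix.E₈).simple).prod := by
  obtain ⟨π, hπ, hπw⟩ := rep_E8
  rw [finRange_map_simple]
  exact center_two chevE8 pcMem_E8 (CoxeterMatrix.E₈) (by decide) π hπ hπw pcRTOK_E8 15
    (by decide +kernel) (by decide)

/-- For the Coxeter groups of types B₂, G₂, D₄, F₄, E₇, E₈ the centre has order 2 (the element acting as −1 on the root system) and is generated by a power of the Coxeter element `s₁ s₂ ⋯ s_l`; the Coxeter group of type E₆ has trivial centre. -/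
theorem result (c : (Σ n : ℕ, CoxeterMatrix (Fin n)) × ℕ)
    (hc : c ∈ [(⟨2, CoxeterMatrix.B 2⟩, 2), (⟨2, CoxeterMatrix.G₂⟩, 2), (⟨4, Cfsg.Lie.coxeterD4⟩, 2), (⟨4, CoxeterMatrix.F₄⟩, 2),
      (⟨6, CoxeterMatrix.E₆⟩, 1), (⟨7, CoxeterMatrix.E₇⟩, 2), (⟨8, CoxeterMatrix.E₈⟩, 2)]) :
    Nat.card (Subgroup.center c.1.2.Group) = c.2 ∧
      Subgroup.center c.1.2.Group ≤ Subgroup.zpowers ((List.finRange c.1.1).map c.1.2.simple).prod := by
  simp only [List.mem_cons, List.not_mem_nil, or_false] at hc
  rcases hc with rfl | rfl | rfl | rfl | rfl | rfl | rfl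
  · exact cen_B2
  · exact cen_G2
  · exact cen_D4
  · exact cen_F4
  · exact cen_E6
  · exact cen_E7
  · exact cen_E8

end Cfsg.Agent.S2418
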