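import Cfsg.Statements.S2419
import Mathlib
import Cfsg.Agent.Lib_helper6_CoxW
-- import your own Cfsg.Agent.* helpers here

set_option autoImplicit false
open Cfsg

namespace Cfsg.Agent.S2419


open Cfsg.Lie Cfsg.Agent.helper5.Chev Cfsg.Agent.helper5.TC Cfsg.Agent.helper6.CoxW

/-- the generation check: the `i`-th certificate is a list of blocks whose product acts as the
`i`-th fundamental reflection -/
def genChk (T : List ℕ) (nr rank : ℕ) (G : List (List ℕ)) (certs : List (List ℕ)) : Bool :=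
  (List.range rank).all fun i => (List.range nr).all fun r =>
    Nat.beq (applyRT T (((certs.getD i []).map fun k => G.getD k []).flatten).reverse r)
      (applyRT T [i] r)

section
variable (D : ChevalleyDatum)
  (hD : D ∈ [chevG2, chevB2, chevD4, chevF4, chevE6, chevE7, chevE8])
  {n : ℕ} (M : CoxeterMatrix (Fin n)) (hrank : D.rank = n)
  {T : List ℕ} {nr rank half : ℕ} {simp : List ℕ} (hT : RTabOK D T nr rank half simp)
  (π : M.Group →* Equiv.Perm (Fin D.nroots)) (hπ : Function.Injective π)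
  (hπw : ∀ w : List ℕ, (∀ i ∈ w, i < D.rank) → ∀ r : Fin D.nroots,
    (π (wprod (sgen M) w) r).val = applyW D w r.val)

theorem flatten_mem (H : Subgroup M.Group) (bs : List (List ℕ))
    (hb : ∀ b ∈ bs, (∀ j ∈ b, j < D.rank) ∧ wprod (sgen M) b ∈ H) :
    (∀ j ∈ bs.flatten, j < D.rank) ∧ wprod (sgen M) bs.flatten ∈ H := by
  induction bs with
  | nil =>
    refine ⟨by simp, ?_⟩
    rw [List.flatten_nil, wprod_nil]
    exact H.one_mem
  | cons b bs ih =>
    have h2 := hb b List.mem_cons_self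
    have h3 := ih (fun b' hb' => hb b' (List.mem_cons_of_mem _ hb'))
    refine ⟨?_, ?_⟩
    · intro j hj
      rw [List.flatten_cons, List.mem_append] at hj
      rcases hj with hj | hj
      · exact h2.1 j hj
      · exact h3.1 j hj
    · rw [List.flatten_cons, wprod_append]
      exact H.mul_mem h2.2 h3.2

include hD hT hπ hπw in
theorem gen_of_chk (H : Subgroup M.Group) (G : List (List ℕ))
    (hG : ∀ b ∈ G, (∀ i ∈ b, i < D.rank) ∧ wprod (sgen M) b ∈ H)
    (certs : List (List ℕ)) (hchk : genChk T nr rank G certs = true) :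
    ∀ i < D.rank, sgen M i ∈ H := by
  intro i hi
  unfold genChk at hchk
  simp only [List.all_eq_true, List.mem_range] at hchk
  have h1 := hchk i (by rw [hT.hrank]; exact hi)
  have hb : ∀ b ∈ (certs.getD i []).map (fun k => G.getD k []),
      (∀ j ∈ b, j < D.rank) ∧ wprod (sgen M) b ∈ H := by
    intro b hb
    rw [List.mem_map] at hb
    obtain ⟨k, _, rfl⟩ := hb
    by_cases hk : k < G.length
    · rw [List.getD_eq_getElem _ _ hk]
      exact hG _ (List.getElem_mem hk)
    · rw [List.getD_eq_default _ _ (by omega)]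
      refine ⟨by simp, ?_⟩
      rw [wprod_nil]
      exact H.one_mem
  have hfl := flatten_mem D M H _ hb
  have hi1 : ∀ j ∈ [i], j < D.rank := by
    intro j hj
    rw [List.mem_singleton] at hj
    rw [hj]
    exact hi
  have heq : wprod (sgen M) ((certs.getD i []).map (fun k => G.getD k [])).flatten =
      wprod (sgen M) [i] :=
    wprod_eq_of_chk D hD M hT π hπ hπw _ _ hfl.1 hi1 (fun r hr => h1 r hr)
  rw [← wprod_single, ← heq]
  exact hfl.2

include hD hrank hT hπ hπw in
theorem gen_main (H : Subgroup M.Group) (hc : wprod (sgen M) (List.range n) ∈ H) (ts : List ℕ)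
    (hts : ∀ t ∈ ts, t < n ∧ sgen M t ∈ H) (certs : List (List ℕ))
    (hchk : genChk T nr rank
      ([List.range n, (List.range n).reverse] ++ ts.map fun t => [t]) certs = true) :
    H = ⊤ := by
  have hG : ∀ b ∈ [List.range n, (List.range n).reverse] ++ ts.map (fun t => [t]),
      (∀ i ∈ b, i < D.rank) ∧ wprod (sgen M) b ∈ H := by
    intro b hb
    rw [List.mem_append] at hb
    rcases hb with hb | hb
    · rw [List.mem_cons, List.mem_singleton] at hb
      rcases hb with rfl | rfl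
      · refine ⟨fun i hi => ?_, hc⟩
        rw [hrank]
        exact List.mem_range.mp hi
      · refine ⟨fun i hi => ?_, ?_⟩
        · rw [hrank]
          exact List.mem_range.mp (List.mem_reverse.mp hi)
        · rw [wprod_reverse]
          exact H.inv_mem hc
    · rw [List.mem_map] at hb
      obtain ⟨t, ht, rfl⟩ := hb
      refine ⟨fun i hi => ?_, ?_⟩
      · rw [List.mem_singleton] at hi
        rw [hi, hrank]
        exact (hts t ht).1
      · rw [wprod_single]
        exact (hts t ht).2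
  have hall := gen_of_chk D hD M hT π hπ hπw H _ hG certs hchk
  rw [eq_top_iff, ← M.toCoxeterSystem.subgroup_closure_range_simple, Subgroup.closure_le]
  rintro x ⟨i, rfl⟩
  rw [CoxeterMatrix.toCoxeterSystem_simple, ← sgen_lt M i.val i.2]
  exact hall i.val (by rw [hrank]; exact i.2)

include hπw in
theorem simple_ne (a b : Fin n) (ha : a.val < D.rank) (hb : b.val < D.rank) (r : ℕ)
    (hr : r < D.nroots) (hne : D.reflectRoot a.val r ≠ D.reflectRoot b.val r) :
    M.simple a ≠ M.simple b := by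
  intro h
  apply hne
  have h1 : wprod (sgen M) [a.val] = wprod (sgen M) [b.val] := by
    rw [wprod_single, wprod_single, sgen_lt M _ a.2, sgen_lt M _ b.2]
    exact h
  have h2 := congrArg (fun x => ((π x) ⟨r, hr⟩).val) h1
  rw [hπw [a.val] (by simpa using ha) ⟨r, hr⟩, hπw [b.val] (by simpa using hb) ⟨r, hr⟩] at h2
  exact h2

end

def certsB2 : List (List ℕ) := [[2], [2, 0]]

set_option maxRecDepth 1000000 in
set_option maxHeartbeats 0 in
theorem gen_B2 : ∃ T : Finset ((CoxeterMatrix.B 2)).Group, T.card = 1 ∧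
    (∀ t ∈ T, ∃ (g : ((CoxeterMatrix.B 2)).Group) (i : Fin 2), t = g * ((CoxeterMatrix.B 2)).simple i * g⁻¹) ∧
    Subgroup.closure (({((List.finRange 2).map ((CoxeterMatrix.B 2)).simple).prod} : Set ((CoxeterMatrix.B 2)).Group) ∪ ↑T) = ⊤ := by
  classical
  obtain ⟨π, hπ, hπw⟩ := rep_B2
  refine ⟨{((CoxeterMatrix.B 2)).simple 0}, Finset.card_singleton _, ?_, ?_⟩
  · intro x hx
    rw [Finset.mem_singleton] at hx
    exact ⟨1, 0, by rw [hx]; group⟩
  · apply gen_main chevB2 pcMem_B2 ((CoxeterMatrix.B 2)) (by decide) pcRTOK_B2 π hπ hπw _ ?_ [0] ?_ certsB2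
      (by decide +kernel)
    · rw [← finRange_map_simple]
      exact Subgroup.subset_closure (Set.mem_union_left _ rfl)
    · intro t ht
      rw [List.mem_singleton] at ht
      subst ht
      refine ⟨by decide, ?_⟩
      rw [sgen_lt _ 0 (by decide)]
      exact Subgroup.subset_closure (Set.mem_union_right _ (by simp))

def certsG2 : List (List ℕ) := [[2], [2, 0]]

set_option maxRecDepth 1000000 in
set_option maxHeartbeats 0 in
theorem gen_G2 : ∃ T : Finset (CoxeterMatrix.G₂).Group, T.card = 1 ∧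
    (∀ t ∈ T, ∃ (g : (CoxeterMatrix.G₂).Group) (i : Fin 2), t = g * (CoxeterMatrix.G₂).simple i * g⁻¹) ∧
    Subgroup.closure (({((List.finRange 2).map (CoxeterMatrix.G₂).simple).prod} : Set (CoxeterMatrix.G₂).Group) ∪ ↑T) = ⊤ := by
  classical
  obtain ⟨π, hπ, hπw⟩ := rep_G2
  refine ⟨{(CoxeterMatrix.G₂).simple 0}, Finset.card_singleton _, ?_, ?_⟩
  · intro x hx
    rw [Finset.mem_singleton] at hx
    exact ⟨1, 0, by rw [hx]; group⟩
  · apply gen_main chevG2 pcMem_G2 (CoxeterMatrix.G₂) (by decide) pcRTOK_G2 π hπ hπw _ ?_ [0] ?_ certsG2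
      (by decide +kernel)
    · rw [← finRange_map_simple]
      exact Subgroup.subset_closure (Set.mem_union_left _ rfl)
    · intro t ht
      rw [List.mem_singleton] at ht
      subst ht
      refine ⟨by decide, ?_⟩
      rw [sgen_lt _ 0 (by decide)]
      exact Subgroup.subset_closure (Set.mem_union_right _ (by simp))

def certsD4 : List (List ℕ) := [[1, 2, 0], [2], [3], [0, 3, 2, 3, 1]]

set_option maxRecDepth 1000000 in
set_option maxHeartbeats 0 in
theorem gen_D4 : ∃ T : Finset (Cfsg.Lie.coxeterD4).Group, T.card = 2 ∧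
    (∀ t ∈ T, ∃ (g : (Cfsg.Lie.coxeterD4).Group) (i : Fin 4), t = g * (Cfsg.Lie.coxeterD4).simple i * g⁻¹) ∧
    Subgroup.closure (({((List.finRange 4).map (Cfsg.Lie.coxeterD4).simple).prod} : Set (Cfsg.Lie.coxeterD4).Group) ∪ ↑T) = ⊤ := by
  classical
  obtain ⟨π, hπ, hπw⟩ := rep_D4
  have hne : (Cfsg.Lie.coxeterD4).simple 1 ≠ (Cfsg.Lie.coxeterD4).simple 2 :=
    simple_ne chevD4 (Cfsg.Lie.coxeterD4) π hπw 1 2 (by decide) (by decide)
      (chevD4.simple 1) (by decide) (by decide)
  refine ⟨{(Cfsg.Lie.coxeterD4).simple 1, (Cfsg.Lie.coxeterD4).simple 2}, Finset.card_pair hne, ?_, ?_⟩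
  · intro x hx
    rw [Finset.mem_insert, Finset.mem_singleton] at hx
    rcases hx with hx | hx
    · exact ⟨1, 1, by rw [hx]; group⟩
    · exact ⟨1, 2, by rw [hx]; group⟩
  · apply gen_main chevD4 pcMem_D4 (Cfsg.Lie.coxeterD4) (by decide) pcRTOK_D4 π hπ hπw _ ?_ [1, 2] ?_ certsD4
      (by decide +kernel)
    · rw [← finRange_map_simple]
      exact Subgroup.subset_closure (Set.mem_union_left _ rfl)
    · intro t ht
      rw [List.mem_cons, List.mem_singleton] at ht
      rcases ht with rfl | rfl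
      · refine ⟨by decide, ?_⟩
        rw [sgen_lt _ 1 (by decide)]
        exact Subgroup.subset_closure (Set.mem_union_right _ (by simp))
      · refine ⟨by decide, ?_⟩
        rw [sgen_lt _ 2 (by decide)]
        exact Subgroup.subset_closure (Set.mem_union_right _ (by simp))

def certsF4 : List (List ℕ) := [[2], [0, 2, 1], [3], [0, 3, 1]]

set_option maxRecDepth 1000000 in
set_option maxHeartbeats 0 in
theorem gen_F4 : ∃ T : Finset (CoxeterMatrix.F₄).Group, T.card = 2 ∧
    (∀ t ∈ T, ∃ (g : (CoxeterMatrix.F₄).Group) (i : Fin 4), t = g * (CoxeterMatrix.F₄).simple i * g⁻¹) ∧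
    Subgroup.closure (({((List.finRange 4).map (CoxeterMatrix.F₄).simple).prod} : Set (CoxeterMatrix.F₄).Group) ∪ ↑T) = ⊤ := by
  classical
  obtain ⟨π, hπ, hπw⟩ := rep_F4
  have hne : (CoxeterMatrix.F₄).simple 0 ≠ (CoxeterMatrix.F₄).simple 2 :=
    simple_ne chevF4 (CoxeterMatrix.F₄) π hπw 0 2 (by decide) (by decide)
      (chevF4.simple 0) (by decide) (by decide)
  refine ⟨{(CoxeterMatrix.F₄).simple 0, (CoxeterMatrix.F₄).simple 2}, Finset.card_pair hne, ?_, ?_⟩
  · intro x hx
    rw [Finset.mem_insert, Finset.mem_singleton] at hx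
    rcases hx with hx | hx
    · exact ⟨1, 0, by rw [hx]; group⟩
    · exact ⟨1, 2, by rw [hx]; group⟩
  · apply gen_main chevF4 pcMem_F4 (CoxeterMatrix.F₄) (by decide) pcRTOK_F4 π hπ hπw _ ?_ [0, 2] ?_ certsF4
      (by decide +kernel)
    · rw [← finRange_map_simple]
      exact Subgroup.subset_closure (Set.mem_union_left _ rfl)
    · intro t ht
      rw [List.mem_cons, List.mem_singleton] at ht
      rcases ht with rfl | rfl
      · refine ⟨by decide, ?_⟩
        rw [sgen_lt _ 0 (by decide)]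
        exact Subgroup.subset_closure (Set.mem_union_right _ (by simp))
      · refine ⟨by decide, ?_⟩
        rw [sgen_lt _ 2 (by decide)]
        exact Subgroup.subset_closure (Set.mem_union_right _ (by simp))

def certsE6 : List (List ℕ) := [[1, 1, 1, 1, 1, 2, 0, 0, 0, 0, 0], [2, 1, 1, 1, 2, 0, 0, 0, 2], [1, 1, 1, 1, 2, 0, 0, 0, 0], [2], [0, 2, 1], [0, 0, 2, 1, 1]]

set_option maxRecDepth 1000000 in
set_option maxHeartbeats 0 in
theorem gen_E6 : ∃ T : Finset (CoxeterMatrix.E₆).Group, T.card = 1 ∧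
    (∀ t ∈ T, ∃ (g : (CoxeterMatrix.E₆).Group) (i : Fin 6), t = g * (CoxeterMatrix.E₆).simple i * g⁻¹) ∧
    Subgroup.closure (({((List.finRange 6).map (CoxeterMatrix.E₆).simple).prod} : Set (CoxeterMatrix.E₆).Group) ∪ ↑T) = ⊤ := by
  classical
  obtain ⟨π, hπ, hπw⟩ := rep_E6
  refine ⟨{(CoxeterMatrix.E₆).simple 3}, Finset.card_singleton _, ?_, ?_⟩
  · intro x hx
    rw [Finset.mem_singleton] at hx
    exact ⟨1, 3, by rw [hx]; group⟩
  · apply gen_main chevE6 pcMem_E6 (CoxeterMatrix.E₆) (by decide) pcRTOK_E6 π hπ hπw _ ?_ [3] ?_ certsE6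
      (by decide +kernel)
    · rw [← finRange_map_simple]
      exact Subgroup.subset_closure (Set.mem_union_left _ rfl)
    · intro t ht
      rw [List.mem_singleton] at ht
      subst ht
      refine ⟨by decide, ?_⟩
      rw [sgen_lt _ 3 (by decide)]
      exact Subgroup.subset_closure (Set.mem_union_right _ (by simp))

def certsE7 : List (List ℕ) := [[1, 2, 1, 1, 1, 1, 2, 0, 0, 0, 0, 2, 0], [2, 0, 2, 1, 1, 1, 1, 2, 0, 0, 0, 0, 2, 1, 2], [2, 1, 1, 1, 1, 2, 0, 0, 0, 0, 2], [2], [0, 2, 1], [0, 0, 2, 1, 1], [0, 0, 0, 2, 1, 1, 1]]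

set_option maxRecDepth 1000000 in
set_option maxHeartbeats 0 in
theorem gen_E7 : ∃ T : Finset (CoxeterMatrix.E₇).Group, T.card = 1 ∧
    (∀ t ∈ T, ∃ (g : (CoxeterMatrix.E₇).Group) (i : Fin 7), t = g * (CoxeterMatrix.E₇).simple i * g⁻¹) ∧
    Subgroup.closure (({((List.finRange 7).map (CoxeterMatrix.E₇).simple).prod} : Set (CoxeterMatrix.E₇).Group) ∪ ↑T) = ⊤ := by
  classical
  obtain ⟨π, hπ, hπw⟩ := rep_E7
  refine ⟨{(CoxeterMatrix.E₇).simple 3}, Finset.card_singleton _, ?_, ?_⟩
  · intro x hx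
    rw [Finset.mem_singleton] at hx
    exact ⟨1, 3, by rw [hx]; group⟩
  · apply gen_main chevE7 pcMem_E7 (CoxeterMatrix.E₇) (by decide) pcRTOK_E7 π hπ hπw _ ?_ [3] ?_ certsE7
      (by decide +kernel)
    · rw [← finRange_map_simple]
      exact Subgroup.subset_closure (Set.mem_union_left _ rfl)
    · intro t ht
      rw [List.mem_singleton] at ht
      subst ht
      refine ⟨by decide, ?_⟩
      rw [sgen_lt _ 3 (by decide)]
      exact Subgroup.subset_closure (Set.mem_union_right _ (by simp))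

def certsE8 : List (List ℕ) := [[1, 2, 0, 0, 0, 0, 0, 0, 2, 1, 1, 1, 1, 1, 1, 2, 0], [2, 0, 2, 0, 0, 0, 0, 0, 0, 2, 1, 1, 1, 1, 1, 1, 2, 1, 2], [2, 0, 0, 0, 0, 0, 0, 2, 1, 1, 1, 1, 1, 1, 2], [2], [0, 2, 1], [0, 0, 2, 1, 1], [0, 0, 0, 2, 1, 1, 1], [0, 0, 0, 0, 2, 1, 1, 1, 1]]

set_option maxRecDepth 1000000 in
set_option maxHeartbeats 0 in
theorem gen_E8 : ∃ T : Finset (CoxeterMatrix.E₈).Group, T.card = 1 ∧
    (∀ t ∈ T, ∃ (g : (CoxeterMatrix.E₈).Group) (i : Fin 8), t = g * (CoxeterMatrix.E₈).simple i * g⁻¹) ∧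
    Subgroup.closure (({((List.finRange 8).map (CoxeterMatrix.E₈).simple).prod} : Set (CoxeterMatrix.E₈).Group) ∪ ↑T) = ⊤ := by
  classical
  obtain ⟨π, hπ, hπw⟩ := rep_E8
  refine ⟨{(CoxeterMatrix.E₈).simple 3}, Finset.card_singleton _, ?_, ?_⟩
  · intro x hx
    rw [Finset.mem_singleton] at hx
    exact ⟨1, 3, by rw [hx]; group⟩
  · apply gen_main chevE8 pcMem_E8 (CoxeterMatrix.E₈) (by decide) pcRTOK_E8 π hπ hπw _ ?_ [3] ?_ certsE8
      (by decide +kernel)
    · rw [← finRange_map_simple]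
      exact Subgroup.subset_closure (Set.mem_union_left _ rfl)
    · intro t ht
      rw [List.mem_singleton] at ht
      subst ht
      refine ⟨by decide, ?_⟩
      rw [sgen_lt _ 3 (by decide)]
      exact Subgroup.subset_closure (Set.mem_union_right _ (by simp))

/-- The Coxeter groups of types B₂, G₂, E₆, E₇, E₈ are generated by the Coxeter element `s₁ s₂ ⋯ s_l` together with one suitable reflection (a conjugate of a simple reflection); for types D₄ and F₄ the Coxeter element together with two suitable reflections suffices. -/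
theorem result (c : (Σ n : ℕ, CoxeterMatrix (Fin n)) × ℕ)
    (hc : c ∈ [(⟨2, CoxeterMatrix.B 2⟩, 1), (⟨2, CoxeterMatrix.G₂⟩, 1), (⟨4, Cfsg.Lie.coxeterD4⟩, 2), (⟨4, CoxeterMatrix.F₄⟩, 2),
      (⟨6, CoxeterMatrix.E₆⟩, 1), (⟨7, CoxeterMatrix.E₇⟩, 1), (⟨8, CoxeterMatrix.E₈⟩, 1)]) :
    ∃ T : Finset c.1.2.Group, T.card = c.2 ∧ (∀ t ∈ T, ∃ (g : c.1.2.Group) (i : Fin c.1.1), t = g * c.1.2.simple i * g⁻¹) ∧
      Subgroup.closure (({((List.finRange c.1.1).map c.1.2.simple).prod} : Set c.1.2.Group) ∪ ↑T) = ⊤ := by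
  simp only [List.mem_cons, List.not_mem_nil, or_false] at hc
  rcases hc with rfl | rfl | rfl | rfl | rfl | rfl | rfl
  · exact gen_B2
  · exact gen_G2
  · exact gen_D4
  · exact gen_F4
  · exact gen_E6
  · exact gen_E7
  · exact gen_E8

end Cfsg.Agent.S2419
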