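import Mathlib
import Cfsg.Statements.S2420
import Cfsg.Agent.Lib_helper17_Para3

set_option autoImplicit false

open Cfsg

namespace Cfsg.Agent.S2420

open Cfsg.Agent.helper17.Para Matrix

theorem result {F : Type*} [Field F] [Fintype F] {q : ℕ} (hq : Fintype.card F = q) {n : ℕ} (μ : Fin n → ℕ) (hμ : ∑ i, μ i = n) :
    Nat.card (GL (Fin n) F ⧸ Cfsg.parabolicGL n F μ) * ∏ i : Fin n, ∏ j ∈ Finset.range (μ i), ∑ l ∈ Finset.range (j + 1), q ^ l =
      ∏ j ∈ Finset.range n, ∑ l ∈ Finset.range (j + 1), q ^ l := by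
  classical
  subst hq
  set q := Fintype.card F with hqdef
  have hq1 : 1 ≤ q := Fintype.card_pos
  have hq2 : 2 ≤ q := Fintype.one_lt_card
  change Nat.card (GL (Fin n) F ⧸ Cfsg.parabolicGL n F μ) * ∏ i : Fin n, qfac q (μ i) = qfac q n
  -- the labelling with values in `Fin (n + 1)`
  let b : Fin n → Fin (n + 1) := fun i => ⟨compLabel μ i, Nat.lt_succ_of_le (compLabel_le μ i)⟩
  have hbt : ∀ M : Matrix (Fin n) (Fin n) F, M.BlockTriangular (compLabel μ) ↔ M.BlockTriangular b := by
    intro M
    constructor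
    · intro h i j hij
      exact h (by simpa [b, Fin.lt_def] using hij)
    · intro h i j hij
      exact h (by simpa [b, Fin.lt_def] using hij)
  let e₀ : ↥(Cfsg.parabolicGL n F μ) ≃ BTset F b :=
    { toFun := fun g => ⟨(g.1 : Matrix (Fin n) (Fin n) F), (hbt _).mp g.2,
        (Matrix.isUnit_iff_isUnit_det _).mp g.1.isUnit⟩
      invFun := fun M => ⟨((Matrix.isUnit_iff_isUnit_det _).mpr M.2.2).unit, (hbt _).mpr M.2.1⟩
      left_inv := fun g => by
        apply Subtype.ext
        apply Units.ext
        rfl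
      right_inv := fun M => by
        apply Subtype.ext
        rfl }
  set c : Fin (n + 1) → ℕ := fun k => Fintype.card {i // b i = k} with hc
  have hcast : ∀ k : Fin n, c (Fin.castSucc k) = μ k := by
    intro k
    rw [← card_fiber μ hμ k]
    apply Fintype.card_congr
    apply Equiv.subtypeEquivRight
    intro i
    simp [b, Fin.ext_iff]
  have hsumc : ∑ k, c k = n := by
    have := Fintype.card_congr (Equiv.sigmaFiberEquiv b)
    rw [Fintype.card_sigma, Fintype.card_fin] at this
    exact this
  have hlast : c (Fin.last n) = 0 := by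
    rw [Fin.sum_univ_castSucc] at hsumc
    simp_rw [hcast] at hsumc
    omega
  -- exponent bookkeeping
  have hpairs := pairs_count b
  rw [Fintype.card_fin] at hpairs
  have htri : tri n = Fintype.card (Upos b) + ∑ k, tri (c k) := by
    have h1 : ∑ k, c k * c k = ∑ k, (2 * tri (c k) + c k) := by
      apply Finset.sum_congr rfl
      intro k _
      exact (tri_spec (c k)).symm
    have h2 := tri_spec n
    change 2 * Fintype.card (Upos b) + ∑ k, c k * c k = n * n at hpairs
    rw [h1, Finset.sum_add_distrib, ← Finset.mul_sum, hsumc] at hpairs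
    omega
  -- orders
  set A := q ^ tri n * (q - 1) ^ n with hA
  have hApos : 0 < A := by
    have : 0 < q - 1 := by omega
    positivity
  have hG : Nat.card (GL (Fin n) F) = A * qfac q n := by
    rw [Matrix.card_GL_field, prod_formula q n hq1]
  have hP : Nat.card ↥(Cfsg.parabolicGL n F μ) = A * ∏ i : Fin n, qfac q (μ i) := by
    rw [Nat.card_congr e₀, card_BTset]
    have h1 : ∀ k : Fin (n + 1), ∏ i : Fin (Fintype.card {i // b i = k}),
        (Fintype.card F ^ Fintype.card {i // b i = k} - Fintype.card F ^ (i : ℕ)) =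
        q ^ tri (c k) * (q - 1) ^ (c k) * qfac q (c k) := by
      intro k
      exact prod_formula q (c k) hq1
    simp_rw [h1]
    rw [Finset.prod_mul_distrib, Finset.prod_mul_distrib, Finset.prod_pow_eq_pow_sum,
      Finset.prod_pow_eq_pow_sum, hsumc]
    have h2 : ∏ k, qfac q (c k) = ∏ i : Fin n, qfac q (μ i) := by
      rw [Fin.prod_univ_castSucc, hlast]
      simp_rw [hcast]
      simp [qfac]
    rw [h2, hA, htri, pow_add]
    ring
  have hquot := Subgroup.card_eq_card_quotient_mul_card_subgroup (Cfsg.parabolicGL n F μ)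
  rw [hG, hP] at hquot
  have : A * qfac q n = A * (Nat.card (GL (Fin n) F ⧸ Cfsg.parabolicGL n F μ) * ∏ i : Fin n, qfac q (μ i)) := by
    rw [hquot]; ring
  exact (Nat.eq_of_mul_eq_mul_left hApos this).symm

end Cfsg.Agent.S2420
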