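import Cfsg.Statements.S2427
import Cfsg.Agent.Lib_helper11_QuatPres

open Cfsg

namespace Cfsg.Agent.S2427

open Matrix

abbrev G := SpecialLinearGroup (Fin 2) (ZMod 3)

set_option maxRecDepth 100000 in
theorem card_G : Fintype.card G = 24 := by decide +kernel

set_option maxRecDepth 100000 in
theorem Q_mul : ∀ g h : G, g ^ 4 = 1 → h ^ 4 = 1 → (g * h) ^ 4 = 1 := by decide +kernel

set_option maxRecDepth 100000 in
theorem Q_inv : ∀ g : G, g ^ 4 = 1 → g⁻¹ ^ 4 = 1 := by decide +kernel

/-- the quaternion subgroup -/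
def Q : Subgroup G where
  carrier := {g | g ^ 4 = 1}
  mul_mem' := fun {a b} ha hb => Q_mul a b ha hb
  one_mem' := one_pow 4
  inv_mem' := fun {a} ha => Q_inv a ha

instance : DecidablePred (· ∈ Q) := fun g => inferInstanceAs (Decidable (g ^ 4 = 1))

set_option maxRecDepth 100000 in
theorem card_Q : Fintype.card Q = 8 := by decide +kernel

set_option maxRecDepth 100000 in
theorem comm_mem : ∀ g h : G, (g * h * g⁻¹ * h⁻¹) ^ 4 = 1 := by decide +kernel

set_option maxRecDepth 100000 in
theorem mem_comm : ∀ q : G, q ^ 4 = 1 → ∃ g h : G, g * h * g⁻¹ * h⁻¹ = q := by decide +kernel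

theorem commutator_eq : commutator G = Q := by
  apply le_antisymm
  · rw [commutator_eq_closure, Subgroup.closure_le]
    rintro x ⟨g, h, rfl⟩
    rw [commutatorElement_def]
    exact comm_mem g h
  · intro q hq
    obtain ⟨g, h, rfl⟩ := mem_comm q hq
    rw [commutator_eq_closure]
    exact Subgroup.subset_closure ⟨g, h, commutatorElement_def g h⟩

set_option maxRecDepth 100000 in
theorem center_iff : ∀ g : G, g ∈ Subgroup.center G ↔ g ^ 2 = 1 := by decide +kernel

set_option maxRecDepth 100000 in
theorem card_center : Fintype.card (Subgroup.center G) = 2 := by decide +kernel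


def x0 : G := ⟨!![0, 1; -1, 0], by decide⟩
def y0 : G := ⟨!![1, 1; 1, -1], by decide⟩

theorem x0_mem : x0 ∈ Q := by decide
theorem y0_mem : y0 ∈ Q := by decide

def xq : Q := ⟨x0, x0_mem⟩
def yq : Q := ⟨y0, y0_mem⟩

theorem xq_pow4 : xq ^ 4 = 1 := by decide
theorem xq_pow2 : xq ^ 2 ≠ 1 := by decide
theorem yq_sq : yq ^ 2 = xq ^ 2 := by decide
theorem yq_conj : yq * xq * yq⁻¹ = xq⁻¹ := by decide

theorem orderOf_xq : orderOf xq = 2 * 2 := by
  have h : orderOf xq ∣ 2 ^ 2 := orderOf_dvd_of_pow_eq_one xq_pow4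
  obtain ⟨k, hk, hk2⟩ := (Nat.dvd_prime_pow Nat.prime_two).mp h
  interval_cases k
  · exfalso
    apply xq_pow2
    rw [pow_zero, orderOf_eq_one_iff] at hk2
    rw [hk2, one_pow]
  · exfalso
    apply xq_pow2
    rw [pow_one] at hk2
    have := pow_orderOf_eq_one xq
    rw [hk2] at this
    exact this
  · rw [hk2]; norm_num

theorem Q_equiv : Nonempty (Q ≃* QuaternionGroup 2) := by
  have hinj := helper11.QuatPres.quatHom_injective (n := 2) (le_refl 2) orderOf_xq yq_sq yq_conj
  have hbij : Function.Bijective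
      (helper11.QuatPres.quatHom xq yq (by rw [← orderOf_xq]; exact pow_orderOf_eq_one xq) yq_sq yq_conj) := by
    apply Function.Injective.bijective_of_nat_card_le hinj
    rw [Nat.card_eq_fintype_card, card_Q, Nat.card_eq_fintype_card, QuaternionGroup.card]
  exact ⟨(MulEquiv.ofBijective _ hbij).symm⟩

set_option maxRecDepth 100000 in
theorem top_aux : ∀ g : G, g ^ 4 ≠ 1 → ∀ q : G, q ^ 4 = 1 →
    ∃ h₁ h₂ : G, q = (h₁ * g * h₁⁻¹ * g⁻¹) * (h₂ * g * h₂⁻¹ * g⁻¹) := by decide +kernel

set_option maxRecDepth 100000 in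
theorem Q_aux : ∀ g : G, g ^ 4 = 1 → g ^ 2 ≠ 1 → ∀ q : G, q ^ 4 = 1 →
    (∃ h : G, q = h * g * h⁻¹) ∨ q = g * g ∨ q = 1 := by decide +kernel

set_option maxRecDepth 100000 in
theorem center_aux : ∀ g : G, g ^ 2 = 1 → g ≠ 1 → ∀ z : G, z ^ 2 = 1 → z = 1 ∨ z = g := by
  decide +kernel

theorem normal_cases (N : Subgroup G) (hN : N.Normal) :
    N = ⊥ ∨ N = ⊤ ∨ N = Subgroup.center G ∨ N = Q := by
  by_cases h1 : ∃ g ∈ N, g ^ 4 ≠ 1
  · obtain ⟨g, hgN, hg⟩ := h1
    right; left
    have hQN : Q ≤ N := by
      intro q hq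
      obtain ⟨h₁, h₂, rfl⟩ := top_aux g hg q hq
      exact N.mul_mem (N.mul_mem (hN.conj_mem g hgN h₁) (N.inv_mem hgN))
        (N.mul_mem (hN.conj_mem g hgN h₂) (N.inv_mem hgN))
    have hd1 : Nat.card Q ∣ Nat.card N := Subgroup.card_dvd_of_le hQN
    have hd2 : Nat.card N ∣ Nat.card G := Subgroup.card_subgroup_dvd_card N
    rw [Nat.card_eq_fintype_card, card_Q] at hd1
    rw [Nat.card_eq_fintype_card (α := G), card_G] at hd2
    have hne : Nat.card N ≠ 8 := by
      intro h8
      have : Q = N := by
        apply Subgroup.eq_of_le_of_card_ge hQN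
        rw [h8, Nat.card_eq_fintype_card, card_Q]
      rw [← this] at hgN
      exact hg hgN
    have h24 : Nat.card N = 24 := by
      obtain ⟨m, hm⟩ := hd1
      rw [hm] at hd2 hne ⊢
      have hm3 : m ∣ 3 := by
        have : 8 * m ∣ 8 * 3 := hd2
        exact (Nat.mul_dvd_mul_iff_left (by norm_num)).mp this
      have := (Nat.dvd_prime Nat.prime_three).mp hm3
      rcases this with rfl | rfl
      · exact absurd rfl hne
      · rfl
    apply Subgroup.eq_top_of_card_eq
    rw [h24, Nat.card_eq_fintype_card, card_G]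
  · push Not at h1
    have hNQ : N ≤ Q := fun g hg => h1 g hg
    by_cases h2 : ∃ g ∈ N, g ^ 2 ≠ 1
    · obtain ⟨g, hgN, hg⟩ := h2
      right; right; right
      apply le_antisymm hNQ
      intro q hq
      rcases Q_aux g (h1 g hgN) hg q hq with ⟨h, rfl⟩ | rfl | rfl
      · exact hN.conj_mem g hgN h
      · exact N.mul_mem hgN hgN
      · exact N.one_mem
    · push Not at h2
      by_cases h3 : N = ⊥
      · left; exact h3
      · right; right; left
        obtain ⟨g, hg1⟩ := (Subgroup.ne_bot_iff_exists_ne_one).mp h3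
        have hgN' : (g : G) ∈ N := g.2
        have hg1' : (g : G) ≠ 1 := fun h => hg1 (Subtype.ext h)
        ext z
        rw [center_iff]
        constructor
        · intro hz
          exact h2 z hz
        · intro hz
          rcases center_aux g (h2 g hgN') hg1' z hz with rfl | rfl
          · exact N.one_mem
          · exact hgN'

/-- The group SL₂ over the field with 3 elements has order 24 and centre of order 2; its commutator subgroup has order 8, is isomorphic to the quaternion group of order 8 and is complemented by every Sylow 3-subgroup (so the group is a semidirect product of a quaternion group of order 8 by a cyclic group of order 3); and its only normal subgroups besides the trivial subgroup and the whole group are the centre and the commutator subgroup. -/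
theorem result :
    Nat.card (Matrix.SpecialLinearGroup (Fin 2) (ZMod 3)) = 24 ∧
    Nat.card (Subgroup.center (Matrix.SpecialLinearGroup (Fin 2) (ZMod 3))) = 2 ∧
    Nat.card (commutator (Matrix.SpecialLinearGroup (Fin 2) (ZMod 3))) = 8 ∧
    Nonempty (commutator (Matrix.SpecialLinearGroup (Fin 2) (ZMod 3)) ≃* QuaternionGroup 2) ∧
    (∀ P : Sylow 3 (Matrix.SpecialLinearGroup (Fin 2) (ZMod 3)),
      Subgroup.IsComplement' (commutator (Matrix.SpecialLinearGroup (Fin 2) (ZMod 3)))
        (P : Subgroup (Matrix.SpecialLinearGroup (Fin 2) (ZMod 3)))) ∧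
    ∀ N : Subgroup (Matrix.SpecialLinearGroup (Fin 2) (ZMod 3)), N.Normal →
      N = ⊥ ∨ N = ⊤ ∨ N = Subgroup.center (Matrix.SpecialLinearGroup (Fin 2) (ZMod 3)) ∨
        N = commutator (Matrix.SpecialLinearGroup (Fin 2) (ZMod 3)) := by
  have hG : Nat.card G = 24 := by rw [Nat.card_eq_fintype_card, card_G]
  have hQ : Nat.card Q = 8 := by rw [Nat.card_eq_fintype_card, card_Q]
  refine ⟨hG, ?_, ?_, ?_, ?_, ?_⟩
  · rw [Nat.card_eq_fintype_card, card_center]
  · rw [commutator_eq, hQ]
  · rw [commutator_eq]; exact Q_equiv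
  · intro P
    rw [commutator_eq]
    have : Fact (Nat.Prime 3) := ⟨Nat.prime_three⟩
    have hP : Nat.card P = 3 := by
      rw [Sylow.card_eq_multiplicity, hG]
      have : (24 : ℕ).factorization 3 = 1 := by
        have h24 : (24 : ℕ) = 3 ^ 1 * 8 := by norm_num
        rw [h24, Nat.factorization_mul (by norm_num) (by norm_num), Nat.Prime.factorization_pow Nat.prime_three]
        have h8 : (8 : ℕ).factorization 3 = 0 := Nat.factorization_eq_zero_of_not_dvd (by norm_num)
        simp [h8]
      rw [this, pow_one]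
    apply Subgroup.isComplement'_of_coprime
    · rw [hQ, hP, hG]
    · rw [hQ, hP]; norm_num
  · intro N hN
    rw [commutator_eq]
    exact normal_cases N hN

end Cfsg.Agent.S2427
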