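import Cfsg.Statements.S2433
import Cfsg.Agent.Lib_helper12_Sl2Borel

set_option autoImplicit false
open Cfsg

namespace Cfsg.Agent.S2433

/-- Let F be a finite field with q elements, q odd, α a multiplicative character of F, and R(α) the function on SL₂ induced from the linear character b ↦ α(b₁₁) of the upper triangular subgroup. Then R(α) takes the value α(a) + α(a⁻¹) at a diagonal element with entries a, a⁻¹, a² ≠ 1; the value 0 at every element with no eigenvector in F²; the value α(ε) at an upper triangular element with both diagonal entries ε and non-zero upper right entry; and the value (q + 1)α(ε) at the scalar element ε (ε = ±1). -/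
theorem result {F : Type*} [Field F] [Fintype F] [DecidableEq F] (hodd : Odd (Fintype.card F)) (α : MulChar F ℂ) (g : Matrix.SpecialLinearGroup (Fin 2) F) :
    ((g : Matrix (Fin 2) (Fin 2) F) 0 1 = 0 → (g : Matrix (Fin 2) (Fin 2) F) 1 0 = 0 → (g : Matrix (Fin 2) (Fin 2) F) 0 0 ^ 2 ≠ 1 →
      (Cfsg.indFun ((Cfsg.upperTriangularGL 2 F).comap Matrix.SpecialLinearGroup.toGL) (fun b => α (((b : Matrix.SpecialLinearGroup (Fin 2) F) : Matrix (Fin 2) (Fin 2) F) 0 0))) g = α ((g : Matrix (Fin 2) (Fin 2) F) 0 0) + α ((g : Matrix (Fin 2) (Fin 2) F) 1 1)) ∧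
    ((∀ (c : F) (v : Fin 2 → F), v ≠ 0 → (g : Matrix (Fin 2) (Fin 2) F).mulVec v ≠ c • v) → (Cfsg.indFun ((Cfsg.upperTriangularGL 2 F).comap Matrix.SpecialLinearGroup.toGL) (fun b => α (((b : Matrix.SpecialLinearGroup (Fin 2) F) : Matrix (Fin 2) (Fin 2) F) 0 0))) g = 0) ∧
    ((g : Matrix (Fin 2) (Fin 2) F) 1 0 = 0 → (g : Matrix (Fin 2) (Fin 2) F) 0 0 = (g : Matrix (Fin 2) (Fin 2) F) 1 1 → (g : Matrix (Fin 2) (Fin 2) F) 0 1 ≠ 0 →
      (Cfsg.indFun ((Cfsg.upperTriangularGL 2 F).comap Matrix.SpecialLinearGroup.toGL) (fun b => α (((b : Matrix.SpecialLinearGroup (Fin 2) F) : Matrix (Fin 2) (Fin 2) F) 0 0))) g = α ((g : Matrix (Fin 2) (Fin 2) F) 0 0)) ∧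
    ((g : Matrix (Fin 2) (Fin 2) F) 0 1 = 0 → (g : Matrix (Fin 2) (Fin 2) F) 1 0 = 0 → (g : Matrix (Fin 2) (Fin 2) F) 0 0 = (g : Matrix (Fin 2) (Fin 2) F) 1 1 →
      (Cfsg.indFun ((Cfsg.upperTriangularGL 2 F).comap Matrix.SpecialLinearGroup.toGL) (fun b => α (((b : Matrix.SpecialLinearGroup (Fin 2) F) : Matrix (Fin 2) (Fin 2) F) 0 0))) g = ((Fintype.card F : ℂ) + 1) * α ((g : Matrix (Fin 2) (Fin 2) F) 0 0)) := by
  have key := Cfsg.Agent.helper12.sl2_indBorel_apply α g
  change Cfsg.indFun (Cfsg.Agent.helper12.sl2Borel F) (Cfsg.Agent.helper12.sl2BorelChar α) g = _ at key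
  have hdet := g.2
  rw [Matrix.det_fin_two] at hdet
  refine ⟨?_, ?_, ?_, ?_⟩
  · intro h01 h10 hsq
    change Cfsg.indFun (Cfsg.Agent.helper12.sl2Borel F) (Cfsg.Agent.helper12.sl2BorelChar α) g = _
    rw [key, if_pos h10, h10, h01]
    congr 1
    have hne : (g : Matrix (Fin 2) (Fin 2) F) 1 1 - (g : Matrix (Fin 2) (Fin 2) F) 0 0 ≠ 0 := by
      intro h
      apply hsq
      rw [h01, zero_mul, sub_zero] at hdet
      rw [pow_two]
      have : (g : Matrix (Fin 2) (Fin 2) F) 1 1 = (g : Matrix (Fin 2) (Fin 2) F) 0 0 := sub_eq_zero.mp h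
      rw [this] at hdet
      exact hdet
    rw [Finset.sum_eq_single 0]
    · simp
    · intro t _ ht
      rw [if_neg]
      simp only [zero_mul, zero_add, sub_zero]
      exact mul_ne_zero hne ht
    · intro h; exact absurd (Finset.mem_univ _) h
  · intro hno
    change Cfsg.indFun (Cfsg.Agent.helper12.sl2Borel F) (Cfsg.Agent.helper12.sl2BorelChar α) g = _
    rw [key]
    have h10 : (g : Matrix (Fin 2) (Fin 2) F) 1 0 ≠ 0 := by
      intro h
      apply hno ((g : Matrix (Fin 2) (Fin 2) F) 0 0) ![1, 0]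
      · intro h0
        have := congrFun h0 0
        simp at this
      · ext i
        fin_cases i <;> simp [Matrix.mulVec, dotProduct, Fin.sum_univ_two, h]
    rw [if_neg h10, zero_add]
    apply Finset.sum_eq_zero
    intro t _
    rw [if_neg]
    intro ht
    apply hno ((g : Matrix (Fin 2) (Fin 2) F) 1 0 * t + (g : Matrix (Fin 2) (Fin 2) F) 1 1) ![t, 1]
    · intro h0
      have := congrFun h0 1
      simp at this
    · ext i
      fin_cases i <;> simp [Matrix.mulVec, dotProduct, Fin.sum_univ_two]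
      linear_combination -ht
  · intro h10 hdiag h01
    change Cfsg.indFun (Cfsg.Agent.helper12.sl2Borel F) (Cfsg.Agent.helper12.sl2BorelChar α) g = _
    rw [key, if_pos h10, h10, hdiag]
    simp [h01]
  · intro h01 h10 hdiag
    change Cfsg.indFun (Cfsg.Agent.helper12.sl2Borel F) (Cfsg.Agent.helper12.sl2BorelChar α) g = _
    rw [key, if_pos h10, h10, hdiag, h01]
    simp
    ring

end Cfsg.Agent.S2433
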