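import Cfsg.Statements.S2466
import Mathlib
-- import your own Cfsg.Agent.* helpers here

set_option autoImplicit false
open Cfsg

namespace Cfsg.Agent.S2466

lemma prime_dvd_lcm (p : ℕ) (hp : p.Prime) (m : Multiset ℕ) (h : p ∣ m.lcm) : ∃ a ∈ m, p ∣ a := by
  induction m using Multiset.induction_on with
  | empty =>
    simp at h
    exact absurd h hp.one_lt.ne'
  | cons a m ih =>
    rw [Multiset.lcm_cons] at h
    have h1 : p ∣ a * m.lcm := dvd_trans h (Nat.lcm_dvd_mul a m.lcm)
    rcases (Nat.Prime.dvd_mul hp).mp h1 with h2 | h2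
    · exact ⟨a, Multiset.mem_cons_self a m, h2⟩
    · obtain ⟨b, hb, hpb⟩ := ih h2
      exact ⟨b, Multiset.mem_cons_of_mem hb, hpb⟩

lemma sum_ge_two (m : Multiset ℕ) (a b : ℕ) (ha : a ∈ m) (hb : b ∈ m) (hab : a ≠ b) :
    a + b ≤ m.sum := by
  obtain ⟨m', rfl⟩ := Multiset.exists_cons_of_mem ha
  have hb' : b ∈ m' := by
    rcases Multiset.mem_cons.mp hb with h | h
    · exact absurd h.symm hab
    · exact h
  obtain ⟨m'', rfl⟩ := Multiset.exists_cons_of_mem hb'
  simp only [Multiset.sum_cons]
  omega

lemma sum_ge_one (m : Multiset ℕ) (a : ℕ) (ha : a ∈ m) : a ≤ m.sum := by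
  obtain ⟨m', rfl⟩ := Multiset.exists_cons_of_mem ha
  simp only [Multiset.sum_cons]
  omega

/-- Adjacency of odd primes in the prime graph of the alternating groups: let r ≠ s be odd primes at most n. The alternating group of degree n has an element of order r·s if and only if r + s ≤ n. -/
theorem result (n r s : ℕ) (hr : r.Prime) (hs : s.Prime) (hr2 : r ≠ 2) (hs2 : s ≠ 2) (hrs : r ≠ s) (hrn : r ≤ n) (hsn : s ≤ n) :
    (r * s ∈ Set.range (orderOf : alternatingGroup (Fin n) → ℕ)) ↔ r + s ≤ n := by
  classical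
  have hr3 : 3 ≤ r := by
    have := hr.two_le
    omega
  have hs3 : 3 ≤ s := by
    have := hs.two_le
    omega
  constructor
  · rintro ⟨⟨σ, hσ⟩, hord⟩
    have hord' : orderOf σ = r * s := by
      rw [← hord]; exact (Subgroup.orderOf_mk σ hσ).symm
    have hlcm : σ.cycleType.lcm = r * s := by rw [Equiv.Perm.lcm_cycleType, hord']
    have hsum : σ.cycleType.sum ≤ n := by
      have := σ.sum_cycleType_le
      simpa using this
    obtain ⟨a, ha, hra⟩ := prime_dvd_lcm r hr σ.cycleType (by rw [hlcm]; exact dvd_mul_right r s)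
    obtain ⟨b, hb, hsb⟩ := prime_dvd_lcm s hs σ.cycleType (by rw [hlcm]; exact dvd_mul_left s r)
    have ha2 := Equiv.Perm.two_le_of_mem_cycleType ha
    have hb2 := Equiv.Perm.two_le_of_mem_cycleType hb
    have har : r ≤ a := Nat.le_of_dvd (by omega) hra
    have hbs : s ≤ b := Nat.le_of_dvd (by omega) hsb
    by_cases hab : a = b
    · subst hab
      have hcop : Nat.Coprime r s := (Nat.coprime_primes hr hs).mpr hrs
      have hrsa : r * s ∣ a := hcop.mul_dvd_of_dvd_of_dvd hra hsb
      have h1 : r * s ≤ a := Nat.le_of_dvd (by omega) hrsa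
      have h2 := sum_ge_one _ a ha
      have h3 : r + s ≤ r * s := by nlinarith
      omega
    · have := sum_ge_two _ a b ha hb hab
      omega
  · intro hle
    have hex : ∃ g : Equiv.Perm (Fin n), g.cycleType = {r, s} := by
      rw [Equiv.Perm.exists_with_cycleType_iff]
      constructor
      · simp
        omega
      · intro a ha
        simp at ha
        rcases ha with rfl | rfl <;> omega
    obtain ⟨g, hg⟩ := hex
    have hrodd : Odd r := hr.odd_of_ne_two hr2
    have hsodd : Odd s := hs.odd_of_ne_two hs2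
    have hsign : Equiv.Perm.sign g = 1 := by
      rw [Equiv.Perm.sign_of_cycleType, hg]
      have : Even (({r, s} : Multiset ℕ).sum + Multiset.card ({r, s} : Multiset ℕ)) := by
        have h1 : ({r, s} : Multiset ℕ).sum = r + s := by simp
        have h2 : Multiset.card ({r, s} : Multiset ℕ) = 2 := by simp
        rw [h1, h2]
        exact (hrodd.add_odd hsodd).add (by decide)
      exact this.neg_one_pow
    refine ⟨⟨g, Equiv.Perm.mem_alternatingGroup.mpr hsign⟩, ?_⟩
    rw [Subgroup.orderOf_mk, ← Equiv.Perm.lcm_cycleType, hg]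
    have hcop : Nat.Coprime r s := (Nat.coprime_primes hr hs).mpr hrs
    simp only [Multiset.insert_eq_cons, Multiset.lcm_cons, Multiset.lcm_singleton, normalize_eq]
    rw [lcm_eq_nat_lcm]
    exact hcop.lcm_eq_mul

end Cfsg.Agent.S2466
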