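import Cfsg.Statements.S2467
import Mathlib
-- import your own Cfsg.Agent.* helpers here

set_option autoImplicit false
open Cfsg

namespace Cfsg.Agent.S2467

lemma prime_dvd_lcm (p : ℕ) (hp : p.Prime) (m : Multiset ℕ) (h : p ∣ m.lcm) : ∃ a ∈ m, p ∣ a := by
  induction m using Multiset.induction_on with
  | empty =>
    simp at h
    exact absurd h hp.one_lt.ne'
  | cons a m ih =>
    rw [Multiset.lcm_cons] at h
    have h1 : p ∣ a * m.lcm := dvd_trans h (Nat.lcm_dvd_mul a m.lcm)
    rcases (Nat.Prime.dvd_mul hp).mp h1 with h2 | h2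
    · exact ⟨a, Multiset.mem_cons_self a m, h2⟩
    · obtain ⟨b, hb, hpb⟩ := ih h2
      exact ⟨b, Multiset.mem_cons_of_mem hb, hpb⟩

lemma sum_ge_one (m : Multiset ℕ) (a : ℕ) (ha : a ∈ m) : a ≤ m.sum := by
  obtain ⟨m', rfl⟩ := Multiset.exists_cons_of_mem ha
  simp only [Multiset.sum_cons]
  omega

lemma eq_zero_of_small (m : Multiset ℕ) (h2 : ∀ a ∈ m, 2 ≤ a) (hs : m.sum ≤ 1) : m = 0 := by
  by_contra hne
  obtain ⟨c, hc⟩ := Multiset.exists_mem_of_ne_zero hne
  have := sum_ge_one m c hc
  have := h2 c hc
  omega

/-- Adjacency of 2 and an odd prime in the prime graph of the alternating groups: let r be an odd prime at most n, with n ≥ 4. The alternating group of degree n has an element of order 2r if and only if r + 4 ≤ n. -/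
theorem result (n r : ℕ) (hn : 4 ≤ n) (hr : r.Prime) (hr2 : r ≠ 2) (hrn : r ≤ n) :
    (2 * r ∈ Set.range (orderOf : alternatingGroup (Fin n) → ℕ)) ↔ r + 4 ≤ n := by
  classical
  have hr3 : 3 ≤ r := by
    have := hr.two_le
    omega
  have hrodd : Odd r := hr.odd_of_ne_two hr2
  constructor
  · rintro ⟨⟨σ, hσ⟩, hord⟩
    by_contra hlt
    have hn3 : n ≤ r + 3 := by omega
    have hord' : orderOf σ = 2 * r := by
      rw [← hord]; exact (Subgroup.orderOf_mk σ hσ).symm
    have hlcm : σ.cycleType.lcm = 2 * r := by rw [Equiv.Perm.lcm_cycleType, hord']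
    have hsum : σ.cycleType.sum ≤ n := by
      have := σ.sum_cycleType_le
      simpa using this
    have hsign : Equiv.Perm.sign σ = 1 := Equiv.Perm.mem_alternatingGroup.mp hσ
    have hall2 : ∀ c ∈ σ.cycleType, 2 ≤ c := fun c hc => Equiv.Perm.two_le_of_mem_cycleType hc
    obtain ⟨a, ha, hra⟩ := prime_dvd_lcm r hr σ.cycleType (by rw [hlcm]; exact dvd_mul_left r 2)
    obtain ⟨b, hb, h2b⟩ := prime_dvd_lcm 2 Nat.prime_two σ.cycleType
      (by rw [hlcm]; exact dvd_mul_right 2 r)
    have ha2 := hall2 a ha
    have hb2 := hall2 b hb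
    have hadvd : a ∣ 2 * r := by
      have := Equiv.Perm.dvd_of_mem_cycleType ha
      rwa [hord'] at this
    obtain ⟨k, rfl⟩ := hra
    have hk : k ∣ 2 := by
      have : r * k ∣ r * 2 := by rwa [mul_comm r 2]
      exact (Nat.mul_dvd_mul_iff_left (by omega)).mp this
    have hk12 : k = 1 ∨ k = 2 := by
      have := Nat.le_of_dvd (by norm_num) hk
      interval_cases k
      · simp at hk
      · left; rfl
      · right; rfl
    rw [Equiv.Perm.sign_of_cycleType] at hsign
    obtain ⟨m', hm'⟩ := Multiset.exists_cons_of_mem ha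
    rcases hk12 with rfl | rfl
    · -- a = r
      rw [mul_one] at hm' ha
      have hbr : b ≠ r := by
        rintro rfl
        exact (Nat.not_even_iff_odd.mpr hrodd) (even_iff_two_dvd.mpr h2b)
      have hb' : b ∈ m' := by
        rw [hm'] at hb
        rcases Multiset.mem_cons.mp hb with h | h
        · exact absurd h hbr
        · exact h
      obtain ⟨m'', hm''⟩ := Multiset.exists_cons_of_mem hb'
      rw [hm''] at hm'
      have hs' : r + b + m''.sum ≤ n := by
        rw [hm'] at hsum
        simp only [Multiset.sum_cons] at hsum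
        omega
      have hm0 : m'' = 0 := by
        apply eq_zero_of_small
        · intro c hc
          apply hall2
          rw [hm']
          exact Multiset.mem_cons_of_mem (Multiset.mem_cons_of_mem hc)
        · omega
      subst hm0
      have hb2' : b = 2 := by
        have h1 : b ≤ 3 := by simp at hs'; omega
        obtain ⟨t, rfl⟩ := h2b
        omega
      subst hb2'
      rw [hm'] at hsign
      simp only [Multiset.sum_cons, Multiset.card_cons, Multiset.sum_zero, Multiset.card_zero] at hsign
      have hodd : Odd (r + (2 + 0) + (0 + 1 + 1)) := by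
        have : r + (2 + 0) + (0 + 1 + 1) = r + 4 := by ring
        rw [this]
        exact hrodd.add_even (by decide)
      have hev : Even (r + (2 + 0) + (0 + 1 + 1)) :=
        (neg_one_pow_eq_one_iff_even (R := ℤˣ) (by decide)).mp hsign
      exact (Nat.not_even_iff_odd.mpr hodd) hev
    · -- a = 2r
      have hs' : r * 2 + m'.sum ≤ n := by
        rw [hm'] at hsum
        simp only [Multiset.sum_cons] at hsum
        exact hsum
      have hr3' : r = 3 := by omega
      subst hr3'
      have hm0 : m' = 0 := by
        apply eq_zero_of_small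
        · intro c hc
          apply hall2
          rw [hm']
          exact Multiset.mem_cons_of_mem hc
        · omega
      subst hm0
      rw [hm'] at hsign
      simp only [Multiset.sum_cons, Multiset.card_cons, Multiset.sum_zero, Multiset.card_zero] at hsign
      exact absurd hsign (by decide)
  · intro hle
    have hex : ∃ g : Equiv.Perm (Fin n), g.cycleType = {r, 2, 2} := by
      rw [Equiv.Perm.exists_with_cycleType_iff]
      constructor
      · simp
        omega
      · intro a ha
        simp at ha
        rcases ha with rfl | rfl <;> omega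
    obtain ⟨g, hg⟩ := hex
    have hsign : Equiv.Perm.sign g = 1 := by
      rw [Equiv.Perm.sign_of_cycleType, hg]
      have : Even (({r, 2, 2} : Multiset ℕ).sum + Multiset.card ({r, 2, 2} : Multiset ℕ)) := by
        have h1 : ({r, 2, 2} : Multiset ℕ).sum = r + 4 := by simp
        have h2 : Multiset.card ({r, 2, 2} : Multiset ℕ) = 3 := by simp
        rw [h1, h2]
        have : r + 4 + 3 = (r + 1) + 6 := by ring
        rw [this]
        exact hrodd.add_one.add (by decide)
      exact this.neg_one_pow
    refine ⟨⟨g, Equiv.Perm.mem_alternatingGroup.mpr hsign⟩, ?_⟩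
    rw [Subgroup.orderOf_mk, ← Equiv.Perm.lcm_cycleType, hg]
    have hcop : Nat.Coprime r 2 := (Nat.coprime_primes hr Nat.prime_two).mpr hr2
    simp only [Multiset.insert_eq_cons, Multiset.lcm_cons, Multiset.lcm_singleton, normalize_eq]
    rw [lcm_eq_nat_lcm, lcm_eq_nat_lcm, Nat.lcm_self, hcop.lcm_eq_mul, mul_comm]

end Cfsg.Agent.S2467
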