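import Cfsg.Statements.S2470
import Mathlib
import Cfsg.Agent.Lib_helper29_PG3
import Cfsg.Agent.Lib_helper29_PG5
-- import your own Cfsg.Agent.* helpers here

set_option autoImplicit false
open Cfsg

namespace Cfsg.Agent.S2470

/-- Adjacency of an odd prime and the characteristic in the prime graph of PSL(n,q): let F be a finite field of characteristic p with q elements, n ≥ 2 with PSL(n,F) simple, and let r ≠ p be an odd prime dividing the order of PSL(n,F), with k the multiplicative order of q modulo r. Then PSL(n,F) has NO element of order r·p if and only if either k > n − 2, or n = 3, r = 3 and 3 divides q − 1 exactly once. -/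
theorem result {F : Type*} [Field F] [Fintype F] (p : ℕ) [Fact p.Prime] [CharP F p] (n : ℕ) (hn : 2 ≤ n) (hsmall : n = 2 → 4 ≤ Fintype.card F)
    (r : ℕ) (hr : r.Prime) (hr2 : r ≠ 2) (hrp : r ≠ p) (hrG : r ∣ Nat.card (Matrix.ProjectiveSpecialLinearGroup (Fin n) F))
    (k : ℕ) (hk : k = orderOf ((Fintype.card F : ℕ) : ZMod r)) :
    (r * p ∉ Set.range (orderOf : Matrix.ProjectiveSpecialLinearGroup (Fin n) F → ℕ)) ↔
      (n - 2 < k ∨ (n = 3 ∧ r = 3 ∧ 3 ∣ Fintype.card F - 1 ∧ ¬ 9 ∣ Fintype.card F - 1)) := by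
  classical
  have hp : p.Prime := Fact.out
  constructor
  · intro hno
    by_contra hcon
    obtain ⟨hc1, hc2⟩ := not_or.mp hcon
    apply hno
    have hk1 : 1 ≤ k := by
      haveI : Fact r.Prime := ⟨hr⟩
      have hne : ((Fintype.card F : ℕ) : ZMod r) ≠ 0 := by
        intro h
        rw [ZMod.natCast_eq_zero_iff] at h
        obtain ⟨a, -, ha⟩ := FiniteField.card F p
        rw [ha] at h
        exact hrp ((Nat.prime_dvd_prime_iff_eq hr hp).mp (hr.dvd_of_dvd_pow h))
      have h1 := ZMod.pow_card_sub_one_eq_one hne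
      rw [hk]
      exact orderOf_pos_iff.mpr (isOfFinOrder_iff_pow_eq_one.mpr
        ⟨r - 1, by have := hr.two_le; omega, h1⟩)
    obtain ⟨g, hg⟩ := Cfsg.Agent.helper29.PG.exists_elt p n r hr hr2 hrp k hk hk1 (by omega) hc2
    exact ⟨g, hg⟩
  · intro hcond hmem
    obtain ⟨g, hg⟩ := hmem
    exact Cfsg.Agent.helper29.PG.no_elt p n hn r hr hr2 hrp k hk hcond g hg

end Cfsg.Agent.S2470
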