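import Mathlib
import Cfsg.Statements.S2475
import Cfsg.Agent.Lib_helper11_SL2Order
import Cfsg.Agent.Lib_helper11_Torus

set_option autoImplicit false
open Cfsg

namespace Cfsg.Agent.S2475

open Matrix
open Cfsg.Agent.helper11

section aux

variable {F : Type*} [Field F]

theorem mem_center_iff' (z : SpecialLinearGroup (Fin 2) F) :
    z ∈ Subgroup.center (SpecialLinearGroup (Fin 2) F) ↔
      (z : Matrix (Fin 2) (Fin 2) F) = 1 ∨ (z : Matrix (Fin 2) (Fin 2) F) = -1 := by
  rw [Matrix.SpecialLinearGroup.mem_center_iff]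
  constructor
  · rintro ⟨r, hr, hz⟩
    rw [Fintype.card_fin] at hr
    have : (r - 1) * (r + 1) = 0 := by linear_combination hr
    rcases mul_eq_zero.mp this with h | h
    · left
      rw [← hz, sub_eq_zero.mp h, map_one]
    · right
      rw [← hz, eq_neg_of_add_eq_zero_left h, map_neg, map_one]
  · rintro (h | h)
    · exact ⟨1, one_pow _, by rw [h, map_one]⟩
    · exact ⟨-1, by simp, by rw [h, map_neg, map_one]⟩

theorem mk_pow_eq_one_iff (g : SpecialLinearGroup (Fin 2) F) (k : ℕ) :
    ((QuotientGroup.mk g : Matrix.ProjectiveSpecialLinearGroup (Fin 2) F)) ^ k = 1 ↔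
      ((g ^ k : SpecialLinearGroup (Fin 2) F) : Matrix (Fin 2) (Fin 2) F) = 1 ∨
      ((g ^ k : SpecialLinearGroup (Fin 2) F) : Matrix (Fin 2) (Fin 2) F) = -1 := by
  rw [← QuotientGroup.mk_pow, QuotientGroup.eq_one_iff, mem_center_iff']

theorem eq_one_or_neg_one_of_sq (h2 : (2 : F) ≠ 0) (H : Matrix (Fin 2) (Fin 2) F)
    (hdet : H.det = 1) (hsq : H * H = 1) : H = 1 ∨ H = -1 := by
  have h1 := SL2.sq_eq H hdet
  rw [hsq] at h1
  have h3 : H.trace • H = (2 : F) • (1 : Matrix (Fin 2) (Fin 2) F) := by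
    rw [two_smul]
    rw [eq_sub_iff_add_eq] at h1
    exact h1.symm
  have htr : H.trace ≠ 0 := by
    intro h0
    rw [h0, zero_smul] at h3
    have := congrFun (congrFun h3 0) 0
    simp at this
    exact h2 this.symm
  have hH : H = (2 / H.trace) • (1 : Matrix (Fin 2) (Fin 2) F) := by
    have := congrArg (fun M => (H.trace)⁻¹ • M) h3
    simp only [smul_smul, inv_mul_cancel₀ htr, one_smul] at this
    calc H = (H.trace⁻¹ * 2) • (1 : Matrix (Fin 2) (Fin 2) F) := this
      _ = (2 / H.trace) • (1 : Matrix (Fin 2) (Fin 2) F) := by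
        congr 1
        field_simp
  set c := 2 / H.trace
  have hc : c ^ 2 = 1 := by
    have := hdet
    rw [hH, Matrix.det_smul, Matrix.det_one, Fintype.card_fin, mul_one] at this
    exact this
  have : (c - 1) * (c + 1) = 0 := by linear_combination hc
  rcases mul_eq_zero.mp this with h | h
  · left
    rw [hH, sub_eq_zero.mp h, one_smul]
  · right
    rw [hH, eq_neg_of_add_eq_zero_left h, neg_smul, one_smul]

theorem sq_eq_one_of_pow_four (h2 : (2 : F) = 0) (A : Matrix (Fin 2) (Fin 2) F)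
    (hdet : A.det = 1) (h4 : A ^ 4 = 1) : A * A = 1 := by
  have h1 := SL2.sq_eq A hdet
  have hneg : (-1 : Matrix (Fin 2) (Fin 2) F) = 1 := by
    have : (2 : F) • (1 : Matrix (Fin 2) (Fin 2) F) = 0 := by rw [h2, zero_smul]
    rw [two_smul] at this
    exact (eq_neg_of_add_eq_zero_left this).symm
  have hA4 : A ^ 4 = (A.trace ^ 3) • A - (A.trace ^ 2) • (1 : Matrix (Fin 2) (Fin 2) F) -
      (2 * A.trace) • A + 1 := by
    have e : A ^ 4 = (A * A) * (A * A) := by
      rw [show (4 : ℕ) = 2 + 2 from rfl, pow_add, pow_two]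
    rw [e, h1]
    simp only [sub_mul, mul_sub, smul_mul_assoc, mul_smul_comm, one_mul, mul_one, h1, smul_sub,
      smul_smul]
    module
  rw [h4, h2, zero_mul, zero_smul, sub_zero] at hA4
  have h5 : (A.trace ^ 3) • A = (A.trace ^ 2) • (1 : Matrix (Fin 2) (Fin 2) F) := by
    have := hA4
    rw [eq_comm, add_eq_right, sub_eq_zero] at this
    exact this
  by_cases ht : A.trace = 0
  · rw [h1, ht, zero_smul, zero_sub, hneg]
  · exfalso
    have h6 : A = (A.trace)⁻¹ • (1 : Matrix (Fin 2) (Fin 2) F) := by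
      have := congrArg (fun M => (A.trace ^ 3)⁻¹ • M) h5
      simp only [smul_smul, inv_mul_cancel₀ (pow_ne_zero 3 ht), one_smul] at this
      calc A = ((A.trace ^ 3)⁻¹ * A.trace ^ 2) • (1 : Matrix (Fin 2) (Fin 2) F) := this
        _ = (A.trace)⁻¹ • (1 : Matrix (Fin 2) (Fin 2) F) := by
          congr 1
          field_simp
    have h7 := congrArg Matrix.trace h6
    rw [Matrix.trace_smul, Matrix.trace_one, Fintype.card_fin] at h7
    simp only [Nat.cast_ofNat, smul_eq_mul, h2, mul_zero] at h7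
    exact ht h7

/-- the standard transvection matrix powers -/
theorem transv_pow (k : ℕ) :
    (!![1, 1; 0, 1] : Matrix (Fin 2) (Fin 2) F) ^ k = !![1, (k : F); 0, 1] := by
  induction k with
  | zero =>
    rw [pow_zero]
    ext i j
    fin_cases i <;> fin_cases j <;> simp
  | succ k ih =>
    rw [pow_succ, ih]
    ext i j
    fin_cases i <;> fin_cases j <;> simp [Matrix.mul_apply, Fin.sum_univ_two, add_comm]

theorem key_of_pow_two_mul (h2 : (2 : F) ≠ 0) (g : SpecialLinearGroup (Fin 2) F) (k : ℕ)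
    (hk : g ^ (2 * k) = 1) :
    ((QuotientGroup.mk g : Matrix.ProjectiveSpecialLinearGroup (Fin 2) F)) ^ k = 1 := by
  rw [mk_pow_eq_one_iff]
  apply eq_one_or_neg_one_of_sq h2 _ (g ^ k).2
  rw [← Matrix.SpecialLinearGroup.coe_mul, ← pow_add, ← two_mul, hk,
    Matrix.SpecialLinearGroup.coe_one]

theorem pow_two_mul_of_key (g : SpecialLinearGroup (Fin 2) F) (k : ℕ)
    (hk : ((QuotientGroup.mk g : Matrix.ProjectiveSpecialLinearGroup (Fin 2) F)) ^ k = 1) :
    g ^ (2 * k) = 1 := by
  rw [mk_pow_eq_one_iff] at hk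
  apply Subtype.ext
  rw [two_mul, pow_add, Matrix.SpecialLinearGroup.coe_mul, Matrix.SpecialLinearGroup.coe_one]
  rcases hk with h | h <;> rw [h] <;> simp

/-- torus elements descend to elements of the right order -/
theorem exists_orderOf_mk (e d m : ℕ)
    (he : ∀ n, n ∣ e → ∃ g : SpecialLinearGroup (Fin 2) F, orderOf g = n)
    (hpar : ((2 : F) = 0 ∧ d = 1) ∨ ((2 : F) ≠ 0 ∧ d = 2 ∧ 2 ∣ e))
    (hm : m ∣ e / d) (hm0 : 0 < m) :
    ∃ x : Matrix.ProjectiveSpecialLinearGroup (Fin 2) F, orderOf x = m := by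
  rcases hpar with ⟨h2, rfl⟩ | ⟨h2, rfl, h2e⟩
  · rw [Nat.div_one] at hm
    obtain ⟨g, hg⟩ := he m hm
    refine ⟨QuotientGroup.mk g, ?_⟩
    rw [← hg, orderOf_eq_orderOf_iff]
    intro k
    rw [mk_pow_eq_one_iff]
    have hneg : (-1 : Matrix (Fin 2) (Fin 2) F) = 1 := by
      have : (2 : F) • (1 : Matrix (Fin 2) (Fin 2) F) = 0 := by rw [h2, zero_smul]
      rw [two_smul] at this
      exact (eq_neg_of_add_eq_zero_left this).symm
    rw [hneg, or_self]
    constructor
    · intro h
      apply Subtype.ext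
      rw [h, Matrix.SpecialLinearGroup.coe_one]
    · intro h
      rw [h, Matrix.SpecialLinearGroup.coe_one]
  · have h2m : 2 * m ∣ e := by
      obtain ⟨c, hc⟩ := hm
      have : e = 2 * (e / 2) := (Nat.mul_div_cancel' h2e).symm
      rw [this, hc]
      exact ⟨c, by ring⟩
    obtain ⟨g, hg⟩ := he (2 * m) h2m
    refine ⟨QuotientGroup.mk g, ?_⟩
    rw [orderOf_eq_iff hm0]
    refine ⟨key_of_pow_two_mul h2 g m (by rw [← hg]; exact pow_orderOf_eq_one g), ?_⟩
    intro k hkm hk0 hk1
    have := pow_two_mul_of_key g k hk1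
    have hdvd := orderOf_dvd_of_pow_eq_one this
    rw [hg] at hdvd
    have : m ∣ k := (Nat.mul_dvd_mul_iff_left (by norm_num)).mp hdvd
    have := Nat.le_of_dvd hk0 this
    omega

end aux

/-- The set of element orders of PSL(2,q). -/
theorem result {F : Type*} [Field F] [Fintype F] (p : ℕ) [Fact p.Prime] [CharP F p] (h4 : 4 ≤ Fintype.card F) :
    Set.range (orderOf : Matrix.ProjectiveSpecialLinearGroup (Fin 2) F → ℕ) =
      {m : ℕ | m ∣ p ∨ m ∣ (Fintype.card F - 1) / Nat.gcd 2 (Fintype.card F - 1) ∨ m ∣ (Fintype.card F + 1) / Nat.gcd 2 (Fintype.card F - 1)} := by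
  classical
  have hp : p.Prime := Fact.out
  set q := Fintype.card F with hq
  have hpar : ((2 : F) = 0 ∧ p = 2 ∧ Nat.gcd 2 (q - 1) = 1) ∨
      ((2 : F) ≠ 0 ∧ p ≠ 2 ∧ Nat.gcd 2 (q - 1) = 2 ∧ 2 ∣ q - 1 ∧ 2 ∣ q + 1) := by
    obtain ⟨n, _, hqn⟩ := FiniteField.card F p
    by_cases h2 : (2 : F) = 0
    · left
      have hp2 : p = 2 := by
        have h2' : ((2 : ℕ) : F) = 0 := by exact_mod_cast h2
        have := (CharP.cast_eq_zero_iff F p 2).mp h2'
        exact (Nat.prime_dvd_prime_iff_eq hp Nat.prime_two).mp this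
      refine ⟨h2, hp2, ?_⟩
      have h2q : 2 ∣ q := by rw [hq, hqn, hp2]; exact dvd_pow_self 2 n.ne_zero
      have hodd : ¬ 2 ∣ q - 1 := by omega
      exact (Nat.Prime.coprime_iff_not_dvd Nat.prime_two).mpr hodd
    · right
      have hp2 : p ≠ 2 := by
        rintro rfl
        apply h2
        have := CharP.cast_eq_zero F 2
        exact_mod_cast this
      have hqodd : ¬ 2 ∣ q := by
        rw [hq, hqn]
        intro h
        have := Nat.Prime.dvd_of_dvd_pow Nat.prime_two h
        exact hp2 ((Nat.prime_dvd_prime_iff_eq Nat.prime_two hp).mp this).symm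
      have h21 : 2 ∣ q - 1 := by omega
      exact ⟨h2, hp2, Nat.gcd_eq_left h21, h21, by omega⟩
  ext m
  simp only [Set.mem_range, Set.mem_ofPred_eq]
  constructor
  · rintro ⟨x, rfl⟩
    obtain ⟨g, rfl⟩ := QuotientGroup.mk_surjective x
    rcases hpar with ⟨h2, hp2, hd⟩ | ⟨h2, hp2, hd, h21, h22⟩
    · rw [hd, Nat.div_one, Nat.div_one]
      rcases SL2.sl2_pow_trichotomy p g with h | h | h
      · right; left
        apply orderOf_dvd_of_pow_eq_one
        rw [mk_pow_eq_one_iff]
        left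
        rw [h, Matrix.SpecialLinearGroup.coe_one]
      · right; right
        apply orderOf_dvd_of_pow_eq_one
        rw [mk_pow_eq_one_iff]
        left
        rw [h, Matrix.SpecialLinearGroup.coe_one]
      · left
        subst hp2
        apply orderOf_dvd_of_pow_eq_one
        rw [mk_pow_eq_one_iff]
        left
        have hA4 : (g : Matrix (Fin 2) (Fin 2) F) ^ 4 = 1 := by
          have := congrArg (fun z : SpecialLinearGroup (Fin 2) F => (z : Matrix (Fin 2) (Fin 2) F)) h
          simp only [Matrix.SpecialLinearGroup.coe_pow, Matrix.SpecialLinearGroup.coe_one] at this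
          exact this
        rw [Matrix.SpecialLinearGroup.coe_pow, pow_two]
        exact sq_eq_one_of_pow_four h2 _ g.2 hA4
    · rw [hd]
      rcases SL2.sl2_pow_trichotomy p g with h | h | h
      · right; left
        apply orderOf_dvd_of_pow_eq_one
        apply key_of_pow_two_mul h2
        rw [Nat.mul_div_cancel' h21]
        exact h
      · right; right
        apply orderOf_dvd_of_pow_eq_one
        apply key_of_pow_two_mul h2
        rw [Nat.mul_div_cancel' h22]
        exact h
      · left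
        apply orderOf_dvd_of_pow_eq_one
        exact key_of_pow_two_mul h2 g p h
  · intro hm
    have hpar' : ((2 : F) = 0 ∧ Nat.gcd 2 (q - 1) = 1) ∨
        ((2 : F) ≠ 0 ∧ Nat.gcd 2 (q - 1) = 2 ∧ 2 ∣ q - 1 ∧ 2 ∣ q + 1) := by
      rcases hpar with ⟨h2, _, hd⟩ | ⟨h2, _, hd, h21, h22⟩
      · exact Or.inl ⟨h2, hd⟩
      · exact Or.inr ⟨h2, hd, h21, h22⟩
    have hdle : Nat.gcd 2 (q - 1) = 1 ∨ Nat.gcd 2 (q - 1) = 2 := by
      rcases hpar' with ⟨_, hd⟩ | ⟨_, hd, _⟩
      · exact Or.inl hd
      · exact Or.inr hd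
    rcases hm with hm | hm | hm
    · rcases (Nat.dvd_prime hp).mp hm with rfl | rfl
      · exact ⟨1, orderOf_one⟩
      · obtain ⟨u, hu⟩ : ∃ u : SpecialLinearGroup (Fin 2) F,
            (u : Matrix (Fin 2) (Fin 2) F) = !![1, 1; 0, 1] :=
          ⟨⟨!![1, 1; 0, 1], by simp [det_fin_two_of]⟩, rfl⟩
        refine ⟨QuotientGroup.mk u, ?_⟩
        apply orderOf_eq_prime
        · rw [mk_pow_eq_one_iff]
          left
          rw [Matrix.SpecialLinearGroup.coe_pow, hu, transv_pow, CharP.cast_eq_zero F m]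
          exact Matrix.one_fin_two.symm
        · intro h
          rw [← pow_one (QuotientGroup.mk u), mk_pow_eq_one_iff, pow_one, hu] at h
          rcases h with h | h
          · have := congrFun (congrFun h 0) 1
            simp at this
          · have := congrFun (congrFun h 0) 1
            simp at this
    · have hm0 : 0 < m := by
        apply Nat.pos_of_ne_zero
        rintro rfl
        rw [zero_dvd_iff] at hm
        have : Nat.gcd 2 (q - 1) ≤ q - 1 := by
          rcases hdle with h | h <;> rw [h] <;> omega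
        have := Nat.div_pos this (by rcases hdle with h | h <;> rw [h] <;> norm_num)
        omega
      refine exists_orderOf_mk (q - 1) (Nat.gcd 2 (q - 1)) m
        (fun n hn => Torus.exists_orderOf_eq_of_dvd_sub_one hn) ?_ hm hm0
      rcases hpar' with ⟨h2, hd⟩ | ⟨h2, hd, h21, _⟩
      · exact Or.inl ⟨h2, hd⟩
      · exact Or.inr ⟨h2, hd, h21⟩
    · have hm0 : 0 < m := by
        apply Nat.pos_of_ne_zero
        rintro rfl
        rw [zero_dvd_iff] at hm
        have : Nat.gcd 2 (q - 1) ≤ q + 1 := by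
          rcases hdle with h | h <;> rw [h] <;> omega
        have := Nat.div_pos this (by rcases hdle with h | h <;> rw [h] <;> norm_num)
        omega
      refine exists_orderOf_mk (q + 1) (Nat.gcd 2 (q - 1)) m
        (fun n hn => Torus.exists_orderOf_eq_of_dvd_add_one hn) ?_ hm hm0
      rcases hpar' with ⟨h2, hd⟩ | ⟨h2, hd, _, h22⟩
      · exact Or.inl ⟨h2, hd⟩
      · exact Or.inr ⟨h2, hd, h22⟩

end Cfsg.Agent.S2475
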