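import Cfsg.Statements.S2486
import Mathlib
import Cfsg.Agent.H16FL2
import Cfsg.Agent.H16FL5
-- import your own Cfsg.Agent.* helpers here

set_option autoImplicit false
open scoped Pointwise
open Cfsg

namespace Cfsg.Agent.S2486

/-- Let n ≥ 4 and let G be a finite group with a normal subgroup N of index 2 isomorphic to SL(n,2) and with trivial centralizer in G (so G is the extension of the simple group L_n(2) by its inverse-transpose automorphism, its full automorphism group). Then any two Sylow 2-subgroups of G have a non-trivial intersection: for a Sylow 2-subgroup H and every x ∈ G, H ∩ H^x ≠ 1. -/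
theorem result {G : Type*} [Group G] [Finite G] {n : ℕ} (hn : 4 ≤ n) (N : Subgroup G) [N.Normal]
    (e : N ≃* Matrix.SpecialLinearGroup (Fin n) (ZMod 2)) (hidx : N.index = 2)
    (hC : Subgroup.centralizer (N : Set G) = ⊥)
    (H : Sylow 2 G) (x : G) :
    (H : Subgroup G) ⊓ MulAut.conj x • (H : Subgroup G) ≠ ⊥ := by
  classical
  have props := Cfsg.Agent.H16FL.sylow_props (S := N) (p := 2)
    ((Cfsg.Agent.H16FL.UT n).comap e.toMonoidHom)
    (Cfsg.Agent.H16FL.UT_isPGroup.comap_of_injective e.toMonoidHom e.injective)
    (fun g hg => by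
      rw [Subgroup.mem_comap]
      apply Cfsg.Agent.H16FL.UT_selfnorm
      intro u hu
      have h1 : e.symm u ∈ (Cfsg.Agent.H16FL.UT n).comap e.toMonoidHom := by
        rw [Subgroup.mem_comap]; simpa using hu
      have h2 := hg _ h1
      rw [Subgroup.mem_comap] at h2
      simpa using h2)
    (e.symm (Cfsg.Agent.H16FL.Wel n))
    (fun g hd => by
      obtain ⟨u, hu, s, hs, hgus⟩ := Cfsg.Agent.H16FL.bigcell (e g) (fun y hy hy' => by
        have h1 : e.symm y ∈ (Cfsg.Agent.H16FL.UT n).comap e.toMonoidHom := by
          rw [Subgroup.mem_comap]; simpa using hy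
        have h2 : g⁻¹ * e.symm y * g ∈ (Cfsg.Agent.H16FL.UT n).comap e.toMonoidHom := by
          rw [Subgroup.mem_comap]; simpa using hy'
        have h3 := hd _ h1 h2
        have : y = e (e.symm y) := by simp
        rw [this, h3, map_one])
      refine ⟨e.symm u, ?_, e.symm s, ?_, ?_⟩
      · rw [Subgroup.mem_comap]; simpa using hu
      · rw [Subgroup.mem_comap]; simpa using hs
      · apply e.injective
        simpa using hgus)
  exact Cfsg.Agent.H16FL.glue N hidx props.1 props.2 H x

end Cfsg.Agent.S2486
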