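import Cfsg.Statements.S2503
import Cfsg.Agent.Lib_helper11_SL2Tori4

open Cfsg

namespace Cfsg.Agent.S2503

open Cfsg.Agent.helper11 Cfsg.Agent.helper11.SL2Tori

theorem two_eq_zero_of_even {F : Type*} [Field F] [Fintype F] (h2 : 2 ∣ Fintype.card F) :
    (2 : F) = 0 := by
  have h : ringChar F = 2 := by
    rw [FiniteField.even_card_iff_char_two]
    exact Nat.mod_eq_zero_of_dvd h2
  have : CharP F 2 := ringChar.of_eq h
  exact_mod_cast CharP.cast_eq_zero F 2

/-- Let F be a finite field with q = 2^t ≥ 4 elements and L = PSL(2,F). Then L has a cyclic subgroup A of order q + 1 and an elementary abelian 2-subgroup B of order q such that L = ABA: every element of L is a product a·b·a' with a, a' ∈ A and b ∈ B. -/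
theorem result {F : Type*} [Field F] [Fintype F]
    (h2 : 2 ∣ Fintype.card F) (h4 : 4 ≤ Fintype.card F) :
    ∃ A B : Subgroup (Matrix.ProjectiveSpecialLinearGroup (Fin 2) F),
      IsCyclic A ∧ Nat.card A = Fintype.card F + 1 ∧ IsMulCommutative B ∧ (∀ b ∈ B, b * b = 1) ∧
        Nat.card B = Fintype.card F ∧
        ∀ g : Matrix.ProjectiveSpecialLinearGroup (Fin 2) F, ∃ a ∈ A, ∃ b ∈ B, ∃ c ∈ A, g = a * b * c := by
  have h20 : (2 : F) = 0 := two_eq_zero_of_even h2
  obtain ⟨t, ht, hord⟩ := exists_torus h20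
  set e := PSL2Char2.slEquiv h20 with he
  set A₀ : Subgroup (Matrix.SpecialLinearGroup (Fin 2) F) :=
    Subgroup.centralizer ({comp h20 t} : Set (Matrix.SpecialLinearGroup (Fin 2) F)) with hA₀
  have hcardA₀ : Nat.card A₀ = Fintype.card F + 1 := by
    apply (card_centralizer_cases h20 _ (comp_ne_one h20 t)).2.2
    rw [trace_comp]
    exact ht
  have hA₀eq : Subgroup.zpowers (comp h20 t) = A₀ := by
    apply Subgroup.eq_of_le_of_card_ge
    · rw [Subgroup.zpowers_le]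
      exact Subgroup.mem_centralizer_singleton_iff.mpr rfl
    · rw [hcardA₀, Nat.card_zpowers, hord]
  have hcycA₀ : IsCyclic A₀ := by
    rw [← hA₀eq]
    infer_instance
  refine ⟨A₀.map e.toMonoidHom, (SL2U.U F).map e.toMonoidHom, ?_, ?_, ?_, ?_, ?_, ?_⟩
  · exact isCyclic_of_surjective (A₀.equivMapOfInjective e.toMonoidHom e.injective)
      (A₀.equivMapOfInjective e.toMonoidHom e.injective).surjective
  · rw [← hcardA₀]
    exact (Nat.card_congr (A₀.equivMapOfInjective e.toMonoidHom e.injective).toEquiv).symm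
  · refine ⟨⟨?_⟩⟩
    rintro ⟨x, hx⟩ ⟨y, hy⟩
    obtain ⟨x', hx', rfl⟩ := hx
    obtain ⟨y', hy', rfl⟩ := hy
    obtain ⟨s, rfl⟩ := SL2U.exists_of_mem_U hx'
    obtain ⟨s', rfl⟩ := SL2U.exists_of_mem_U hy'
    apply Subtype.ext
    show e.toMonoidHom (SL2U.uS s) * e.toMonoidHom (SL2U.uS s') =
      e.toMonoidHom (SL2U.uS s') * e.toMonoidHom (SL2U.uS s)
    rw [← map_mul, ← map_mul, ← SL2U.uS_add, ← SL2U.uS_add, add_comm]
  · rintro b ⟨x', hx', rfl⟩
    obtain ⟨s, rfl⟩ := SL2U.exists_of_mem_U hx'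
    rw [← map_mul, ← SL2U.uS_add, add_self_eq_zero' h20, SL2U.uS_zero, map_one]
  · rw [← SL2U.card_U (F := F)]
    exact (Nat.card_congr ((SL2U.U F).equivMapOfInjective e.toMonoidHom e.injective).toEquiv).symm
  · intro g
    obtain ⟨g₀, rfl⟩ := e.surjective g
    obtain ⟨a, ha, s, c, hc, hg⟩ := aba h20 t ht g₀
    refine ⟨e a, ⟨a, ha, rfl⟩, e (SL2U.uS s), ⟨_, SL2U.uS_mem s, rfl⟩, e c, ⟨c, hc, rfl⟩, ?_⟩
    rw [hg, map_mul, map_mul]

end Cfsg.Agent.S2503
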