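import Cfsg.Statements.S2504
import Mathlib
import Cfsg.Agent.Lib_helper6_AbAlt
-- import your own Cfsg.Agent.* helpers here

set_option autoImplicit false
open Cfsg

namespace Cfsg.Agent.S2504

/-- The largest order of an abelian subgroup of the alternating group of degree n is 3^k when n = 3k, 4·3^(k−1) when n = 3k + 1, and 16·3^(k−2) when n = 3k + 2, for every k ≥ 2 (so for all degrees n ≥ 6). -/
theorem result (k : ℕ) (hk : 2 ≤ k) :
    IsGreatest {c : ℕ | ∃ A : Subgroup (alternatingGroup (Fin (3 * k))), IsMulCommutative A ∧ Nat.card A = c} (3 ^ k) ∧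
    IsGreatest {c : ℕ | ∃ A : Subgroup (alternatingGroup (Fin (3 * k + 1))), IsMulCommutative A ∧ Nat.card A = c}
      (4 * 3 ^ (k - 1)) ∧
    IsGreatest {c : ℕ | ∃ A : Subgroup (alternatingGroup (Fin (3 * k + 2))), IsMulCommutative A ∧ Nat.card A = c}
      (16 * 3 ^ (k - 2)) := by
  refine ⟨⟨?_, ?_⟩, ⟨?_, ?_⟩, ⟨?_, ?_⟩⟩
  · exact Cfsg.Agent.helper6.AbAlt.achA_to _ _
      (Cfsg.Agent.helper6.AbAlt.achA_three_mul k (by omega))
  · rintro c ⟨A, hA, rfl⟩
    have h := Cfsg.Agent.helper6.AbAlt.bound_alt_fin _ A hA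
    rwa [Cfsg.Agent.helper6.AbSym.f_three_mul k (by omega)] at h
  · exact Cfsg.Agent.helper6.AbAlt.achA_to _ _
      (Cfsg.Agent.helper6.AbAlt.achA_three_mul_add_one k (by omega))
  · rintro c ⟨A, hA, rfl⟩
    have h := Cfsg.Agent.helper6.AbAlt.bound_alt_fin _ A hA
    rwa [Cfsg.Agent.helper6.AbSym.f_three_mul_add_one k (by omega)] at h
  · exact Cfsg.Agent.helper6.AbAlt.achA_to _ _
      (Cfsg.Agent.helper6.AbAlt.achA_three_mul_add_two k hk)
  · rintro c ⟨A, hA, rfl⟩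
    have h := Cfsg.Agent.helper6.AbAlt.boundAlt_fin (3 * k + 2) (by omega) A hA
    rw [Cfsg.Agent.helper6.AbSym.f_three_mul_add_two k] at h
    obtain ⟨j, rfl⟩ : ∃ j, k = j + 2 := ⟨k - 2, by omega⟩
    have e : j + 2 - 2 = j := by omega
    rw [e]
    rw [pow_succ, pow_succ] at h
    have : 0 < 3 ^ j := pow_pos (by norm_num) _
    omega

end Cfsg.Agent.S2504
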