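import Cfsg.Statements.S2507
import Cfsg.Agent.Lib_helper11_SL2Tori4
import Cfsg.Agent.Lib_helper12_Card

open Cfsg

namespace Cfsg.Agent.S2507

open Cfsg.Agent.helper11 Cfsg.Agent.helper11.SL2Tori

theorem two_eq_zero_of_even {F : Type*} [Field F] [Fintype F] (h2 : 2 ∣ Fintype.card F) :
    (2 : F) = 0 := by
  have h : ringChar F = 2 := by
    rw [FiniteField.even_card_iff_char_two]
    exact Nat.mod_eq_zero_of_dvd h2
  have : CharP F 2 := ringChar.of_eq h
  exact_mod_cast CharP.cast_eq_zero F 2

theorem index_centralizer_equiv {G H : Type*} [Group G] [Group H] (e : G ≃* H) (g : G) :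
    (Subgroup.centralizer ({e g} : Set H)).index = (Subgroup.centralizer ({g} : Set G)).index := by
  have : Subgroup.centralizer ({e g} : Set H) =
      (Subgroup.centralizer ({g} : Set G)).map (e : G →* H) := by
    ext x
    constructor
    · intro hx
      refine ⟨e.symm x, ?_, by simp⟩
      refine Subgroup.mem_centralizer_singleton_iff.mpr ?_
      have hx' := Subgroup.mem_centralizer_singleton_iff.mp hx
      apply e.injective
      rw [map_mul, map_mul, e.apply_symm_apply]
      exact hx'
    · rintro ⟨y, hy, rfl⟩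
      refine Subgroup.mem_centralizer_singleton_iff.mpr ?_
      have hy' := Subgroup.mem_centralizer_singleton_iff.mp hy
      show e y * e g = e g * e y
      rw [← map_mul, ← map_mul, hy']
  rw [this, Subgroup.index_map_equiv]

/-- the index of the centraliser of an element of `SL₂(F)`, `F` of characteristic two -/
theorem index_cases {F : Type*} [Field F] [Fintype F] (h20 : (2 : F) = 0)
    (g : Matrix.SpecialLinearGroup (Fin 2) F) (hg : g ≠ 1) :
    let I := (Subgroup.centralizer ({g} : Set (Matrix.SpecialLinearGroup (Fin 2) F))).index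
    ((g : Matrix (Fin 2) (Fin 2) F).trace = 0 → I = Fintype.card F ^ 2 - 1) ∧
    (∀ l : F, (g : Matrix (Fin 2) (Fin 2) F).trace ≠ 0 →
      l ^ 2 + (g : Matrix (Fin 2) (Fin 2) F).trace * l + 1 = 0 →
        I = Fintype.card F * (Fintype.card F + 1)) ∧
    ((∀ l : F, l ^ 2 + (g : Matrix (Fin 2) (Fin 2) F).trace * l + 1 ≠ 0) →
      I = Fintype.card F * (Fintype.card F - 1)) := by
  intro I
  obtain ⟨c1, c2, c3⟩ := card_centralizer_cases h20 g hg
  have hmul := Subgroup.card_mul_index
    (Subgroup.centralizer ({g} : Set (Matrix.SpecialLinearGroup (Fin 2) F)))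
  rw [helper12.card_SL2] at hmul
  have hq : 2 ≤ Fintype.card F := Fintype.one_lt_card
  obtain ⟨k, hk⟩ : ∃ k, Fintype.card F = k + 2 := ⟨Fintype.card F - 2, by omega⟩
  have hI : (Subgroup.centralizer ({g} : Set (Matrix.SpecialLinearGroup (Fin 2) F))).index = I := rfl
  rw [hI] at hmul
  have e1 : (k + 2) ^ 2 - 1 = (k + 1) * (k + 3) := by
    have : (k + 2) ^ 2 = (k + 1) * (k + 3) + 1 := by ring
    rw [this]; simp
  refine ⟨?_, ?_, ?_⟩
  · intro ht
    rw [c1 ht, hk] at hmul
    rw [hk]
    exact Nat.eq_of_mul_eq_mul_left (by omega) hmul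
  · intro l ht hl
    rw [c2 l ht hl, hk, e1] at hmul
    rw [hk]
    have e2 : k + 2 - 1 = k + 1 := by omega
    rw [e2] at hmul
    apply Nat.eq_of_mul_eq_mul_left (show 0 < k + 1 by omega)
    rw [hmul]; ring
  · intro ht
    rw [c3 ht, hk, e1] at hmul
    rw [hk]
    have e2 : k + 2 - 1 = k + 1 := by omega
    rw [e2]
    apply Nat.eq_of_mul_eq_mul_left (show 0 < k + 2 + 1 by omega)
    rw [hmul]; ring

/-- Let F be a finite field with q = 2^f ≥ 4 elements. The conjugacy class sizes of PSL(2,F) are exactly 1, q(q − 1), q² − 1 and q(q + 1). -/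
theorem result {F : Type*} [Field F] [Fintype F]
    (h2 : 2 ∣ Fintype.card F) (h4 : 4 ≤ Fintype.card F) :
    Set.range (fun g : (Matrix.ProjectiveSpecialLinearGroup (Fin 2) F) => (Subgroup.centralizer ({g} : Set (Matrix.ProjectiveSpecialLinearGroup (Fin 2) F))).index) =
      {1, Fintype.card F * (Fintype.card F - 1), Fintype.card F ^ 2 - 1, Fintype.card F * (Fintype.card F + 1)} := by
  classical
  have h20 : (2 : F) = 0 := two_eq_zero_of_even h2
  set e := PSL2Char2.slEquiv h20 with he
  ext n
  simp only [Set.mem_range, Set.mem_insert_iff, Set.mem_singleton_iff]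
  constructor
  · rintro ⟨g, rfl⟩
    obtain ⟨g₀, rfl⟩ := e.surjective g
    rw [index_centralizer_equiv e g₀]
    by_cases hg : g₀ = 1
    · left
      rw [hg]
      have : Subgroup.centralizer ({1} : Set (Matrix.SpecialLinearGroup (Fin 2) F)) = ⊤ := by
        rw [Subgroup.eq_top_iff']
        intro x
        exact Subgroup.mem_centralizer_singleton_iff.mpr (by simp)
      rw [this, Subgroup.index_top]
    · obtain ⟨i1, i2, i3⟩ := index_cases h20 g₀ hg
      by_cases hroot : ∃ l : F, l ^ 2 + (g₀ : Matrix (Fin 2) (Fin 2) F).trace * l + 1 = 0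
      · obtain ⟨l, hl⟩ := hroot
        by_cases ht : (g₀ : Matrix (Fin 2) (Fin 2) F).trace = 0
        · right; right; left
          exact i1 ht
        · right; right; right
          exact i2 l ht hl
      · push Not at hroot
        right; left
        exact i3 hroot
  · rintro (rfl | rfl | rfl | rfl)
    · refine ⟨1, ?_⟩
      have : Subgroup.centralizer ({1} : Set (Matrix.ProjectiveSpecialLinearGroup (Fin 2) F)) = ⊤ := by
        rw [Subgroup.eq_top_iff']
        intro x
        exact Subgroup.mem_centralizer_singleton_iff.mpr (by simp)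
      rw [this, Subgroup.index_top]
    · obtain ⟨t, ht, -⟩ := exists_torus h20
      refine ⟨e (comp h20 t), ?_⟩
      rw [index_centralizer_equiv e]
      apply (index_cases h20 _ (comp_ne_one h20 t)).2.2
      rw [trace_comp]
      exact ht
    · refine ⟨e (SL2U.uS 1), ?_⟩
      rw [index_centralizer_equiv e]
      have hne : SL2U.uS (1 : F) ≠ 1 := by
        intro h
        have := congrArg (fun M : Matrix.SpecialLinearGroup (Fin 2) F =>
          (M : Matrix (Fin 2) (Fin 2) F) 0 1) h
        simp [SL2U.coe_uS] at this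
      apply (index_cases h20 _ hne).1
      rw [SL2U.coe_uS, Matrix.trace_fin_two_of]
      linear_combination h20
    · -- split torus element
      obtain ⟨lam, hl0, hl1⟩ : ∃ lam : F, lam ≠ 0 ∧ lam ≠ 1 := by
        by_contra hcon
        push Not at hcon
        have hsub : (Finset.univ : Finset F) ⊆ {0, 1} := by
          intro x _
          by_cases hx : x = 0
          · simp [hx]
          · simp [hcon x hx]
        have := Finset.card_le_card hsub
        have h3 : ({0, 1} : Finset F).card ≤ 2 := Finset.card_le_two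
        rw [Finset.card_univ] at this
        omega
      set u : Fˣ := Units.mk0 lam hl0 with hu
      refine ⟨e (Torus.diagElt u), ?_⟩
      rw [index_centralizer_equiv e]
      have htr : (Torus.diagElt u : Matrix (Fin 2) (Fin 2) F).trace = lam + lam⁻¹ := by
        rw [Torus.coe_diagElt, Matrix.trace_fin_two_of]
        simp [hu]
      have hne : Torus.diagElt u ≠ 1 := by
        intro h
        have := congrArg (fun M : Matrix.SpecialLinearGroup (Fin 2) F =>
          (M : Matrix (Fin 2) (Fin 2) F) 0 0) h
        simp [Torus.coe_diagElt, hu] at this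
        exact hl1 this
      have htr0 : lam + lam⁻¹ ≠ 0 := by
        intro h
        apply hl1
        have h5 : lam * lam⁻¹ = 1 := mul_inv_cancel₀ hl0
        have : (lam - 1) ^ 2 = 0 := by
          linear_combination lam * h - h5 - lam * h20
        exact sub_eq_zero.mp ((pow_eq_zero_iff (two_ne_zero)).mp this)
      apply (index_cases h20 _ hne).2.1 lam
      · rw [htr]; exact htr0
      · rw [htr]
        have h5 : lam * lam⁻¹ = 1 := mul_inv_cancel₀ hl0
        linear_combination h5 + (lam ^ 2 + 1) * h20

end Cfsg.Agent.S2507
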