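import Cfsg.Statements.S2513
import Cfsg.Agent.Lib_helper25_Pow2

set_option autoImplicit false
open Cfsg

namespace Cfsg.Agent.S2513

/-- Let F be the field with two elements, n ≥ 2, L = PSL(n, F) and k₀ = ⌊(n + 3)/2⌋. Then for every k ≥ k₀ the direct product of k copies of L has the same set of element orders as the direct product of k₀ copies of L. -/
theorem result {F : Type*} [Field F] [Fintype F] (hF : Fintype.card F = 2) (n k : ℕ) (hn : 2 ≤ n) (hk : (n + 3) / 2 ≤ k) :
    Set.range (orderOf : (Fin k → Matrix.ProjectiveSpecialLinearGroup (Fin n) F) → ℕ) = Set.range (orderOf : (Fin ((n + 3) / 2) → Matrix.ProjectiveSpecialLinearGroup (Fin n) F) → ℕ) := by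
  classical
  have hn1 : 1 ≤ n := by omega
  ext a
  constructor
  · rintro ⟨x, rfl⟩
    obtain ⟨y, hy⟩ := Cfsg.Agent.helper25.Pow2.main_comb
      (L := Matrix.ProjectiveSpecialLinearGroup (Fin n) F) n hn
      (fun u p j hp hp2 hj h => Cfsg.Agent.helper25.Pow2.hA_PSL hF n hn1 u p j hp hp2 hj h)
      (fun m hm hmn => Cfsg.Agent.helper25.Pow2.hB_PSL hF n hn1 m hm hmn) k x
    exact ⟨y, hy⟩
  · rintro ⟨y, rfl⟩
    refine ⟨fun i => if h : (i : ℕ) < (n + 3) / 2 then y ⟨i, h⟩ else 1, ?_⟩
    rw [orderOf_eq_orderOf_iff]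
    intro j
    constructor
    · intro h
      funext i'
      have := congrFun h ⟨i', lt_of_lt_of_le i'.2 hk⟩
      simpa [i'.2] using this
    · intro h
      funext i
      by_cases hi : (i : ℕ) < (n + 3) / 2
      · have := congrFun h ⟨i, hi⟩
        simpa [hi] using this
      · simp [hi]

end Cfsg.Agent.S2513
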