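import Cfsg.Statements.S2514

set_option autoImplicit false
open scoped Pointwise
open Cfsg

namespace Cfsg.Agent.S2514

/-- spectrum. -/
def om (X : Type*) [Group X] : Set ℕ := Set.range (orderOf : X → ℕ)

/-- maximal element orders. -/
def mu (X : Type*) [Group X] : Set ℕ :=
  {n : ℕ | n ∈ Set.range (orderOf : X → ℕ) ∧ ∀ m ∈ Set.range (orderOf : X → ℕ), n ∣ m → m = n}

theorem one_mem_om (X : Type*) [Group X] : 1 ∈ om X := ⟨1, orderOf_one⟩

theorem om_dvd_closed {X : Type*} [Group X] [Finite X] {a d : ℕ} (ha : a ∈ om X) (hd : d ∣ a) : d ∈ om X := by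
  obtain ⟨g, rfl⟩ := ha
  exact ⟨g ^ (orderOf g / d), orderOf_pow_orderOf_div (orderOf_pos g).ne' hd⟩

theorem om_le_card {X : Type*} [Group X] [Finite X] {a : ℕ} (ha : a ∈ om X) : a ≤ Nat.card X := by
  obtain ⟨g, rfl⟩ := ha
  exact Nat.le_of_dvd Nat.card_pos (orderOf_dvd_natCard g)

theorem om_pos {X : Type*} [Group X] [Finite X] {a : ℕ} (ha : a ∈ om X) : 0 < a := by
  obtain ⟨g, rfl⟩ := ha
  exact orderOf_pos g

theorem exists_mu {X : Type*} [Group X] [Finite X] {a : ℕ} (ha : a ∈ om X) : ∃ m ∈ mu X, a ∣ m := by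
  classical
  let S : Finset ℕ := (Finset.range (Nat.card X + 1)).filter (fun m => m ∈ om X ∧ a ∣ m)
  have hS : S.Nonempty := ⟨a, by
    simp only [S, Finset.mem_filter, Finset.mem_range]
    exact ⟨Nat.lt_succ_of_le (om_le_card ha), ha, dvd_rfl⟩⟩
  obtain ⟨m, hmS, hmax⟩ := Finset.exists_max_image S id hS
  simp only [S, Finset.mem_filter, Finset.mem_range] at hmS
  refine ⟨m, ⟨hmS.2.1, ?_⟩, hmS.2.2⟩
  intro m' hm' hdvd
  have hm'S : m' ∈ S := by
    simp only [S, Finset.mem_filter, Finset.mem_range]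
    exact ⟨Nat.lt_succ_of_le (om_le_card hm'), hm', dvd_trans hmS.2.2 hdvd⟩
  have h1 : m' ≤ m := hmax m' hm'S
  have h2 : m ≤ m' := Nat.le_of_dvd (om_pos hm') hdvd
  omega

theorem range_pi (X : Type*) [Group X] (k : ℕ) (n : ℕ) :
    n ∈ Set.range (orderOf : (Fin k → X) → ℕ) ↔
      ∃ T : Finset ℕ, (↑T : Set ℕ) ⊆ om X ∧ T.card ≤ k ∧ T.lcm id = n := by
  classical
  constructor
  · rintro ⟨f, rfl⟩
    refine ⟨Finset.univ.image (fun i => orderOf (f i)), ?_, ?_, ?_⟩
    · intro a ha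
      simp only [Finset.coe_image, Set.mem_image] at ha
      obtain ⟨i, _, rfl⟩ := ha
      exact ⟨f i, rfl⟩
    · calc (Finset.univ.image (fun i => orderOf (f i))).card ≤ (Finset.univ : Finset (Fin k)).card := Finset.card_image_le
        _ = k := by simp
    · rw [Finset.lcm_image, Pi.orderOf]
      rfl
  · rintro ⟨T, hT, hcard, rfl⟩
    have hch : ∀ t : T, ∃ g : X, orderOf g = (t : ℕ) := fun t => hT t.2
    choose gt hgt using hch
    let f : Fin k → X := fun i => if h : (i : ℕ) < T.card then gt (T.equivFin.symm ⟨i, h⟩) else 1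
    refine ⟨f, ?_⟩
    rw [Pi.orderOf]
    apply Nat.dvd_antisymm
    · apply Finset.lcm_dvd
      intro i _
      by_cases h : (i : ℕ) < T.card
      · simp only [f, dif_pos h, hgt]
        exact Finset.dvd_lcm (f := id) (T.equivFin.symm ⟨i, h⟩).2
      · simp only [f, dif_neg h, orderOf_one, isUnit_one, IsUnit.dvd]
    · apply Finset.lcm_dvd
      intro t ht
      have hlt : ((T.equivFin ⟨t, ht⟩ : Fin T.card) : ℕ) < k := lt_of_lt_of_le (T.equivFin ⟨t, ht⟩).2 hcard
      have : orderOf (f ⟨(T.equivFin ⟨t, ht⟩ : Fin T.card), hlt⟩) = t := by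
        simp only [f, dif_pos (T.equivFin ⟨t, ht⟩).2, Fin.eta, Equiv.symm_apply_apply, hgt]
      rw [id, ← this]
      exact Finset.dvd_lcm (Finset.mem_univ _)

/-- main. -/
theorem result {G H : Type*} [Group G] [Finite G] [Group H] [Finite H] (k : ℕ) (hk : 1 ≤ k)
    (hsub : {n : ℕ | n ∈ Set.range (orderOf : H → ℕ) ∧ ∀ m ∈ Set.range (orderOf : H → ℕ), n ∣ m → m = n} ⊆ {n : ℕ | n ∈ Set.range (orderOf : G → ℕ) ∧ ∀ m ∈ Set.range (orderOf : G → ℕ), n ∣ m → m = n})
    (hfew : ({n : ℕ | n ∈ Set.range (orderOf : G → ℕ) ∧ ∀ m ∈ Set.range (orderOf : G → ℕ), n ∣ m → m = n} \ {n : ℕ | n ∈ Set.range (orderOf : H → ℕ) ∧ ∀ m ∈ Set.range (orderOf : H → ℕ), n ∣ m → m = n}).ncard < k) :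
    Set.range (orderOf : (Fin k → G) → ℕ) = Set.range (orderOf : (Fin (k - 1) → G) × H → ℕ) := by
  classical
  change mu H ⊆ mu G at hsub
  change (mu G \ mu H).ncard < k at hfew
  have hprod : ∀ n, n ∈ Set.range (orderOf : (Fin (k - 1) → G) × H → ℕ) ↔
      ∃ T : Finset ℕ, (↑T : Set ℕ) ⊆ om G ∧ T.card ≤ k - 1 ∧ ∃ b ∈ om H, Nat.lcm (T.lcm id) b = n := by
    intro n
    constructor
    · rintro ⟨⟨f, h⟩, rfl⟩
      obtain ⟨T, hT, hcard, hl⟩ := (range_pi G (k - 1) (orderOf f)).mp ⟨f, rfl⟩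
      exact ⟨T, hT, hcard, orderOf h, ⟨h, rfl⟩, by rw [Prod.orderOf, hl]⟩
    · rintro ⟨T, hT, hcard, b, ⟨h, rfl⟩, rfl⟩
      obtain ⟨f, hf⟩ := (range_pi G (k - 1) (T.lcm id)).mpr ⟨T, hT, hcard, rfl⟩
      exact ⟨(f, h), by rw [Prod.orderOf, hf]⟩
  ext n
  rw [range_pi, hprod]
  constructor
  · rintro ⟨T, hT, hcard, rfl⟩
    by_cases hc : T.card ≤ k - 1
    · exact ⟨T, hT, hc, 1, one_mem_om H, by simp⟩
    have hTk : T.card = k := by omega
    have hch : ∀ t : ℕ, ∃ m, t ∈ T → (m ∈ mu G ∧ t ∣ m) := by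
      intro t
      by_cases ht : t ∈ T
      · obtain ⟨m, hm, hd⟩ := exists_mu (hT ht)
        exact ⟨m, fun _ => ⟨hm, hd⟩⟩
      · exact ⟨0, fun h => absurd h ht⟩
    choose mt hmt using hch
    by_cases hA : ∃ t ∈ T, mt t ∈ mu H
    · obtain ⟨t, htT, htH⟩ := hA
      have htH' : t ∈ om H := om_dvd_closed htH.1 (hmt t htT).2
      refine ⟨T.erase t, ?_, ?_, t, htH', ?_⟩
      · intro a ha
        exact hT (Finset.mem_of_mem_erase (by exact_mod_cast ha))
      · rw [Finset.card_erase_of_mem htT]; omega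
      · conv_rhs => rw [← Finset.insert_erase htT]
        rw [Finset.lcm_insert, id, Nat.lcm_comm]
        rfl
    · push Not at hA
      -- pigeonhole
      have hDfin : (mu G \ mu H).Finite := by
        apply Set.Finite.subset (Set.finite_Iic (Nat.card G))
        intro a ha
        exact om_le_card ha.1.1
      have hcardlt : hDfin.toFinset.card < T.card := by
        rw [← Set.ncard_eq_toFinset_card _ hDfin, hTk]; exact hfew
      have hmaps : Set.MapsTo mt ↑T ↑hDfin.toFinset := by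
        intro t ht
        simp only [Set.Finite.coe_toFinset]
        exact ⟨(hmt t ht).1, hA t ht⟩
      obtain ⟨t₁, ht₁, t₂, ht₂, hne, heq⟩ := Finset.exists_ne_map_eq_of_card_lt_of_maps_to hcardlt hmaps
      have hl : Nat.lcm t₁ t₂ ∈ om G := by
        apply om_dvd_closed (hmt t₁ ht₁).1.1
        exact Nat.lcm_dvd (hmt t₁ ht₁).2 (heq ▸ (hmt t₂ ht₂).2)
      have ht₂' : t₂ ∈ T.erase t₁ := Finset.mem_erase.mpr ⟨hne.symm, ht₂⟩
      refine ⟨insert (Nat.lcm t₁ t₂) ((T.erase t₁).erase t₂), ?_, ?_, 1, one_mem_om H, ?_⟩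
      · intro a ha
        rw [Finset.coe_insert, Set.mem_insert_iff] at ha
        rcases ha with rfl | ha
        · exact hl
        · exact hT (Finset.mem_of_mem_erase (Finset.mem_of_mem_erase (by exact_mod_cast ha)))
      · calc (insert (Nat.lcm t₁ t₂) ((T.erase t₁).erase t₂)).card
            ≤ ((T.erase t₁).erase t₂).card + 1 := Finset.card_insert_le _ _
          _ = k - 1 := by
            have h2 : 1 < T.card := Finset.one_lt_card.mpr ⟨t₁, ht₁, t₂, ht₂, hne⟩
            rw [Finset.card_erase_of_mem ht₂', Finset.card_erase_of_mem ht₁]; omega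
      · rw [Nat.lcm_one_right, Finset.lcm_insert, id]
        conv_rhs => rw [← Finset.insert_erase ht₁, Finset.lcm_insert, ← Finset.insert_erase ht₂', Finset.lcm_insert]
        simp only [id]
        rw [← lcm_assoc]
        rfl
  · rintro ⟨T, hT, hcard, b, hb, rfl⟩
    obtain ⟨m, hm, hd⟩ := exists_mu hb
    have hbG : b ∈ om G := om_dvd_closed (hsub hm).1 hd
    refine ⟨insert b T, ?_, ?_, ?_⟩
    · intro a ha
      rw [Finset.coe_insert, Set.mem_insert_iff] at ha
      rcases ha with rfl | ha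
      · exact hbG
      · exact hT ha
    · calc (insert b T).card ≤ T.card + 1 := Finset.card_insert_le _ _
        _ ≤ k := by omega
    · rw [Finset.lcm_insert, id, Nat.lcm_comm]
      rfl

end Cfsg.Agent.S2514
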