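import Cfsg.Statements.S2515
import Cfsg.Agent.Lib_helper25_Ree3

set_option autoImplicit false
open Cfsg

namespace Cfsg.Agent.S2515

open Cfsg.Agent.helper25.Ree SemidirectProduct

/-- the set of maximal element orders from power bounds and witnesses -/
theorem max_set {G : Type*} [Group G] (a b c d : ℕ)
    (hpow : ∀ g : G, g ^ a = 1 ∨ g ^ b = 1 ∨ g ^ c = 1 ∨ g ^ d = 1)
    (ha : ∃ g : G, orderOf g = a) (hb : ∃ g : G, orderOf g = b) (hc : ∃ g : G, orderOf g = c)
    (hd : ∃ g : G, orderOf g = d)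
    (hab : ¬ a ∣ b) (hac : ¬ a ∣ c) (had : ¬ a ∣ d) (hba : ¬ b ∣ a) (hbc : ¬ b ∣ c) (hbd : ¬ b ∣ d)
    (hca : ¬ c ∣ a) (hcb : ¬ c ∣ b) (hcd : ¬ c ∣ d) (hda : ¬ d ∣ a) (hdb : ¬ d ∣ b) (hdc : ¬ d ∣ c) :
    {n : ℕ | n ∈ Set.range (orderOf : G → ℕ) ∧ ∀ m ∈ Set.range (orderOf : G → ℕ), n ∣ m → m = n}
      = ({a, b, c, d} : Set ℕ) := by
  have hdiv : ∀ m ∈ Set.range (orderOf : G → ℕ), m ∣ a ∨ m ∣ b ∨ m ∣ c ∨ m ∣ d := by
    rintro m ⟨g, rfl⟩
    rcases hpow g with h | h | h | h
    · exact Or.inl (orderOf_dvd_of_pow_eq_one h)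
    · exact Or.inr (Or.inl (orderOf_dvd_of_pow_eq_one h))
    · exact Or.inr (Or.inr (Or.inl (orderOf_dvd_of_pow_eq_one h)))
    · exact Or.inr (Or.inr (Or.inr (orderOf_dvd_of_pow_eq_one h)))
  have ha' : a ∈ Set.range (orderOf : G → ℕ) := by obtain ⟨g, hg⟩ := ha; exact ⟨g, hg⟩
  have hb' : b ∈ Set.range (orderOf : G → ℕ) := by obtain ⟨g, hg⟩ := hb; exact ⟨g, hg⟩
  have hc' : c ∈ Set.range (orderOf : G → ℕ) := by obtain ⟨g, hg⟩ := hc; exact ⟨g, hg⟩
  have hd' : d ∈ Set.range (orderOf : G → ℕ) := by obtain ⟨g, hg⟩ := hd; exact ⟨g, hg⟩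
  ext n
  simp only [Set.mem_setOf_eq, Set.mem_insert_iff, Set.mem_singleton_iff]
  constructor
  · rintro ⟨hn, hmax⟩
    rcases hdiv n hn with h | h | h | h
    · left; exact (hmax a ha' h).symm
    · right; left; exact (hmax b hb' h).symm
    · right; right; left; exact (hmax c hc' h).symm
    · right; right; right; exact (hmax d hd' h).symm
  · rintro (rfl | rfl | rfl | rfl)
    · refine ⟨ha', fun m hm hnm => ?_⟩
      rcases hdiv m hm with h | h | h | h
      · exact Nat.dvd_antisymm h hnm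
      · exact absurd (hnm.trans h) hab
      · exact absurd (hnm.trans h) hac
      · exact absurd (hnm.trans h) had
    · refine ⟨hb', fun m hm hnm => ?_⟩
      rcases hdiv m hm with h | h | h | h
      · exact absurd (hnm.trans h) hba
      · exact Nat.dvd_antisymm h hnm
      · exact absurd (hnm.trans h) hbc
      · exact absurd (hnm.trans h) hbd
    · refine ⟨hc', fun m hm hnm => ?_⟩
      rcases hdiv m hm with h | h | h | h
      · exact absurd (hnm.trans h) hca
      · exact absurd (hnm.trans h) hcb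
      · exact Nat.dvd_antisymm h hnm
      · exact absurd (hnm.trans h) hcd
    · refine ⟨hd', fun m hm hnm => ?_⟩
      rcases hdiv m hm with h | h | h | h
      · exact absurd (hnm.trans h) hda
      · exact absurd (hnm.trans h) hdb
      · exact absurd (hnm.trans h) hdc
      · exact Nat.dvd_antisymm h hnm

theorem pow_three_mod (α : ℕ) (hodd : Odd α) : 3 ^ α % 8 = 3 := by
  obtain ⟨j, rfl⟩ := hodd
  rw [pow_succ, pow_mul, Nat.mul_mod, Nat.pow_mod]
  norm_num

/-- Let q = 3^α with α ≥ 3 odd. There is a finite group H having a non-trivial normal 3-subgroup and whose element orders maximal under divisibility are exactly 6, 9, q − 1 and (q + 1)/2. -/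
theorem result (α : ℕ) (hα : 3 ≤ α) (hodd : Odd α) :
    ∃ (H : Type) (_ : Group H) (_ : Fintype H), (∃ P : Subgroup H, P.Normal ∧ P ≠ ⊥ ∧ IsPGroup 3 ↥P) ∧
      {n : ℕ | n ∈ Set.range (orderOf : H → ℕ) ∧ ∀ m ∈ Set.range (orderOf : H → ℕ), n ∣ m → m = n} = ({6, 9, 3 ^ α - 1, (3 ^ α + 1) / 2} : Set ℕ) := by
  classical
  -- arithmetic
  have hmod := pow_three_mod α hodd
  obtain ⟨k, hq⟩ : ∃ k, 3 ^ α = 8 * k + 3 := ⟨3 ^ α / 8, by omega⟩
  have h27 : 27 ≤ 3 ^ α := by
    calc 27 = 3 ^ 3 := by norm_num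
      _ ≤ 3 ^ α := Nat.pow_le_pow_right (by norm_num) hα
  have hk3 : 3 ≤ k := by omega
  have h3dvd : 3 ∣ 8 * k + 3 := by rw [← hq]; exact dvd_pow_self 3 (by omega)
  -- the field
  let L := GaloisField 3 (2 * α)
  let _ : Fintype L := Fintype.ofFinite L
  have hcardN : Nat.card L = 3 ^ (2 * α) := GaloisField.card 3 (2 * α) (by omega)
  have hcard : Fintype.card L = (8 * k + 3) * (8 * k + 3) := by
    rw [← Nat.card_eq_fintype_card, hcardN, mul_comm, pow_mul, hq, pow_two]
  have hL : ∀ x : L, x ^ ((8 * k + 3) * (8 * k + 3)) = x := by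
    intro x; rw [← hcard]; exact FiniteField.pow_card x
  -- squares
  have hsq : ∀ D : L, D ^ (3 ^ α) = D → IsSquare D := by
    intro D hD
    by_cases h0 : D = 0
    · exact ⟨0, by rw [h0, mul_zero]⟩
    · have hchar : ringChar L ≠ 2 := by rw [ringChar.eq L 3]; norm_num
      rw [FiniteField.isSquare_iff hchar h0, hcard]
      have h1 : D ^ (8 * k + 2) = 1 := by
        have : D ^ (8 * k + 2) * D = D := by rw [← pow_succ, ← hq]; exact hD
        exact mul_right_cancel₀ h0 (by rw [this, one_mul])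
      have : (8 * k + 3) * (8 * k + 3) / 2 = (8 * k + 2) * (4 * k + 2) := by
        have : (8 * k + 3) * (8 * k + 3) = 2 * ((8 * k + 2) * (4 * k + 2)) + 1 := by ring
        omega
      rw [this, pow_mul, h1, one_pow]
  -- a generator of the multiplicative group
  obtain ⟨γ, hγ⟩ := IsCyclic.exists_generator (α := Lˣ)
  have hoγ : orderOf γ = (8 * k + 2) * (8 * k + 4) := by
    rw [orderOf_eq_card_of_forall_mem_zpowers hγ, Nat.card_units, Nat.card_eq_fintype_card, hcard]
    have : (8 * k + 3) * (8 * k + 3) = (8 * k + 2) * (8 * k + 4) + 1 := by ring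
    omega
  have hoθ : orderOf (γ ^ (8 * k + 4)) = 8 * k + 2 := by
    rw [orderOf_pow_of_dvd (by omega) (by rw [hoγ]; exact Dvd.intro_left _ rfl), hoγ]
    exact Nat.mul_div_cancel _ (by omega)
  have hoμ : orderOf (γ ^ (8 * k + 2)) = 8 * k + 4 := by
    rw [orderOf_pow_of_dvd (by omega) (by rw [hoγ]; exact Dvd.intro _ rfl), hoγ]
    exact Nat.mul_div_cancel_left _ (by omega)
  have hθq : (((γ ^ (8 * k + 4) : Lˣ)) : L) ^ (3 ^ α) = ((γ ^ (8 * k + 4) : Lˣ) : L) := by
    rw [hq, pow_succ, ← Units.val_pow_eq_pow_val, ← hoθ, pow_orderOf_eq_one, Units.val_one, one_mul]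
  -- the group
  have hfinQ : Finite ↥(QQ L α) := by
    unfold QQ
    exact Finite.of_surjective _ (MonoidHom.rangeRestrict_surjective _)
  have hfinH : Finite (HH L α) :=
    Finite.of_equiv _ (SemidirectProduct.equivProd (φ := (QQ L α).subtype)).symm
  refine ⟨HH L α, inferInstance, Fintype.ofFinite _, ?_, ?_⟩
  · -- the normal 3-subgroup
    refine ⟨(inl : Multiplicative (M2 L) →* HH L α).range, ?_, ?_, ?_⟩
    · rw [range_inl_eq_ker_rightHom]; exact MonoidHom.normal_ker _
    · intro h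
      have hmem : (inl (Multiplicative.ofAdd (1 : M2 L)) : HH L α) ∈
          (inl : Multiplicative (M2 L) →* HH L α).range := ⟨_, rfl⟩
      rw [h, Subgroup.mem_bot] at hmem
      have := inl_injective (hmem.trans (map_one inl).symm)
      have h00 := congrFun (congrFun (Multiplicative.ofAdd.injective this) 0) 0
      simp at h00
    · intro ⟨x, hx⟩
      obtain ⟨w, rfl⟩ := hx
      refine ⟨1, ?_⟩
      apply Subtype.ext
      rw [pow_one, Subgroup.coe_pow, Subgroup.coe_one]
      show (inl w : HH L α) ^ 3 = 1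
      rw [← map_pow, mul_exp_three, map_one]
  · -- the maximal element orders
    have e1 : 3 ^ α - 1 = 8 * k + 2 := by omega
    have e2 : (3 ^ α + 1) / 2 = 4 * k + 2 := by omega
    rw [e1, e2]
    apply max_set 6 9 (8 * k + 2) (4 * k + 2) (HH_pow α k hq hsq)
      (exists_order_six α) (exists_order_nine α)
      (exists_order_split α k _ hoθ hθq)
      (exists_order_nonsplit α k (by omega) hq _ hoμ)
    · norm_num
    · omega
    · omega
    · norm_num
    · omega
    · omega
    · intro h; have := Nat.le_of_dvd (by norm_num) h; omega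
    · intro h; have := Nat.le_of_dvd (by norm_num) h; omega
    · intro h; have := Nat.le_of_dvd (by omega) h; omega
    · intro h; have := Nat.le_of_dvd (by norm_num) h; omega
    · intro h; have := Nat.le_of_dvd (by norm_num) h; omega
    · intro h
      have h2 : (4 * k + 2) ∣ 2 * (4 * k + 2) := Dvd.intro_left _ rfl
      have h3 : (4 * k + 2) ∣ 2 * (4 * k + 2) - (8 * k + 2) := Nat.dvd_sub h2 h
      have e : 2 * (4 * k + 2) - (8 * k + 2) = 2 := by omega
      rw [e] at h3
      have := Nat.le_of_dvd (by norm_num) h3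
      omega

end Cfsg.Agent.S2515
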