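import Cfsg.Statements.S2516

set_option autoImplicit false
open scoped Pointwise
open Cfsg

namespace Cfsg.Agent.S2516

open Polynomial

section
variable {F : Type*} [Field F] {V : Type*} [AddCommGroup V] [Module F V] {G : Type*} [Group G]
  (ρ : Representation F G V)

/-- the action. -/
abbrev phi : G →* MulAut (Multiplicative V) := (MulAutMultiplicative V).symm.toMonoidHom.comp
        ((DistribMulAction.toAddAut ((V →ₗ[F] V)ˣ) V).comp ρ.asGroupHom)

theorem phi_apply (h : G) (v : V) : phi ρ h (Multiplicative.ofAdd v) = Multiplicative.ofAdd (ρ h v) := rfl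

/-- partial norm. -/
def nrm (g : G) (j : ℕ) : V →ₗ[F] V := ∑ i ∈ Finset.range j, (ρ g) ^ i

theorem pow_eq (g : G) (v : V) (j : ℕ) :
    (⟨Multiplicative.ofAdd v, g⟩ : Multiplicative V ⋊[phi ρ] G) ^ j =
      ⟨Multiplicative.ofAdd (nrm ρ g j v), g ^ j⟩ := by
  induction j with
  | zero =>
    apply SemidirectProduct.ext
    · simp [nrm]
    · simp
  | succ j ih =>
    rw [pow_succ, ih]
    apply SemidirectProduct.ext
    · rw [SemidirectProduct.mul_left]
      show Multiplicative.ofAdd (nrm ρ g j v) * phi ρ (g ^ j) (Multiplicative.ofAdd v) = _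
      rw [phi_apply, ← ofAdd_add]
      congr 1
      simp only [nrm, Finset.sum_range_succ, LinearMap.add_apply, map_pow]
    · rw [SemidirectProduct.mul_right, pow_succ]

theorem pow_order (g : G) (v : V) :
    (⟨Multiplicative.ofAdd v, g⟩ : Multiplicative V ⋊[phi ρ] G) ^ (orderOf g) =
      SemidirectProduct.inl (Multiplicative.ofAdd (nrm ρ g (orderOf g) v)) := by
  rw [pow_eq, pow_orderOf_eq_one]
  rfl

theorem nrm_eq_aeval (g : G) (j : ℕ) :
    nrm ρ g j = aeval (ρ g) (∑ i ∈ Finset.range j, (X : F[X]) ^ i) := by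
  simp [nrm, map_sum]

end

/-- main -/
theorem result {F : Type*} [Field F] (p : ℕ) [Fact p.Prime] [CharP F p] {V : Type*} [AddCommGroup V] [Module F V] [FiniteDimensional F V] [Nontrivial V]
    {G : Type*} [Group G] [Finite G] (ρ : Representation F G V) (g : G) :
    (∃ x : Multiplicative V ⋊[(MulAutMultiplicative V).symm.toMonoidHom.comp
        ((DistribMulAction.toAddAut ((V →ₗ[F] V)ˣ) V).comp ρ.asGroupHom)] G,
        x.right = g ∧ orderOf x = p * orderOf g) ↔
      ¬ (minpoly F (ρ g) ∣ ∑ i ∈ Finset.range (orderOf g), (Polynomial.X : Polynomial F) ^ i) := by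
  have hp : p.Prime := Fact.out
  have hk : 0 < orderOf g := orderOf_pos g
  rw [minpoly.dvd_iff, ← nrm_eq_aeval]
  constructor
  · rintro ⟨x, hxg, hxo⟩ hN
    obtain ⟨n, h⟩ := x
    simp only at hxg
    subst hxg
    have h1 : (⟨n, h⟩ : Multiplicative V ⋊[phi ρ] G) ^ orderOf h = 1 := by
      have := pow_order ρ h (Multiplicative.toAdd n)
      rw [hN] at this
      simpa using this
    have h2 := orderOf_dvd_of_pow_eq_one h1
    rw [hxo] at h2
    have h3 := Nat.le_of_dvd hk h2
    have : 2 ≤ p := hp.two_le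
    nlinarith
  · intro hN
    have : ∃ v, nrm ρ g (orderOf g) v ≠ 0 := by
      by_contra hcon
      push Not at hcon
      exact hN (LinearMap.ext hcon)
    obtain ⟨v, hv⟩ := this
    refine ⟨⟨Multiplicative.ofAdd v, g⟩, rfl, ?_⟩
    set x : Multiplicative V ⋊[phi ρ] G := ⟨Multiplicative.ofAdd v, g⟩ with hx
    set w := nrm ρ g (orderOf g) v with hw
    have hxk : x ^ orderOf g = SemidirectProduct.inl (Multiplicative.ofAdd w) := pow_order ρ g v
    have hpw : p • w = 0 := by
      rw [← Nat.cast_smul_eq_nsmul F p w, CharP.cast_eq_zero F p, zero_smul]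
    have hxpk : x ^ (p * orderOf g) = 1 := by
      rw [mul_comm, pow_mul, hxk, ← map_pow, ← ofAdd_nsmul, hpw]
      simp
    have hdvd1 : orderOf x ∣ p * orderOf g := orderOf_dvd_of_pow_eq_one hxpk
    have hdvd2 : orderOf g ∣ orderOf x := by
      have := orderOf_map_dvd (SemidirectProduct.rightHom : Multiplicative V ⋊[phi ρ] G →* G) x
      simpa [hx] using this
    obtain ⟨d, hd⟩ := hdvd2
    rw [hd, mul_comm p] at hdvd1
    have hdp : d ∣ p := Nat.dvd_of_mul_dvd_mul_left hk hdvd1
    rcases (Nat.dvd_prime hp).mp hdp with h1 | h1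
    · exfalso
      rw [h1, mul_one] at hd
      have : x ^ orderOf g = 1 := by rw [← hd]; exact pow_orderOf_eq_one x
      rw [hxk] at this
      have h2 : Multiplicative.ofAdd w = 1 := by
        have := congrArg SemidirectProduct.left this
        simpa using this
      exact hv (by simpa using h2)
    · rw [hd, h1, mul_comm]

end Cfsg.Agent.S2516
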