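import Cfsg.Statements.S2532
import Mathlib

set_option autoImplicit false
open Cfsg

namespace Cfsg.Agent.S2532

open Equiv

section core
variable {X : Type*} [Fintype X] [DecidableEq X]

/-- selection of points in pairwise distinct orbits. -/
theorem select (H : Subgroup (Perm X)) (Y : Finset X) : ∀ r : ℕ, Nat.card H * r ≤ Y.card →
    ∃ x : Fin r → X, (∀ i, x i ∈ Y) ∧ ∀ i j, i ≠ j → ¬ ∃ h : H, (h : Perm X) (x i) = x j := by
  classical
  haveI : Fintype H := Fintype.ofFinite H
  intro r
  induction r with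
  | zero => intro _; exact ⟨Fin.elim0, fun i => i.elim0, fun i => i.elim0⟩
  | succ r ih =>
    intro hcard
    have hn : 1 ≤ Nat.card H := Nat.card_pos
    obtain ⟨x, hxY, hx⟩ := ih (le_trans (Nat.mul_le_mul_left _ (Nat.le_succ r)) hcard)
    let U : Finset X := (Finset.univ : Finset (H × Fin r)).image (fun p => (p.1 : Perm X) (x p.2))
    have hU : U.card < Y.card := by
      calc U.card ≤ (Finset.univ : Finset (H × Fin r)).card := Finset.card_image_le
        _ = Nat.card H * r := by
          rw [Finset.card_univ, Fintype.card_prod, Fintype.card_fin, Nat.card_eq_fintype_card]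
        _ < Nat.card H * (r + 1) := by nlinarith
        _ ≤ Y.card := hcard
    obtain ⟨y, hyY, hyU⟩ := Finset.exists_mem_notMem_of_card_lt_card hU
    refine ⟨Fin.cons y x, ?_, ?_⟩
    · intro i
      refine Fin.cases ?_ (fun i => ?_) i
      · simpa using hyY
      · simpa using hxY i
    · intro i j
      refine Fin.cases ?_ (fun i => ?_) i <;> refine Fin.cases ?_ (fun j => ?_) j
      · intro h; exact absurd rfl h
      · rintro _ ⟨h, hh⟩
        simp only [Fin.cons_zero, Fin.cons_succ] at hh
        apply hyU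
        rw [Finset.mem_image]
        refine ⟨(h⁻¹, j), Finset.mem_univ _, ?_⟩
        simp only
        rw [← hh]
        simp
      · rintro _ ⟨h, hh⟩
        simp only [Fin.cons_zero, Fin.cons_succ] at hh
        apply hyU
        rw [Finset.mem_image]
        exact ⟨(h, i), Finset.mem_univ _, hh⟩
      · rintro hij ⟨h, hh⟩
        simp only [Fin.cons_succ] at hh
        exact hx i j (fun e => hij (by rw [e])) ⟨h, hh⟩

variable {H : Subgroup (Perm X)} {r : ℕ} (x : Fin r → X)

/-- the orbit parametrisation. -/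
def Θ (p : H × Fin r) : X := (p.1 : Perm X) (x p.2)

variable (hpat : ∀ i j (h h' : H), (h : Perm X) (x i) = (h' : Perm X) (x i) ↔
    (h : Perm X) (x j) = (h' : Perm X) (x j))
  (hdist : ∀ i j, i ≠ j → ¬ ∃ h : H, (h : Perm X) (x i) = x j)

include hpat hdist in
theorem Θ_eq {h h' : H} {i j : Fin r} (e : Θ x (h, i) = Θ x (h', j)) :
    i = j ∧ ∀ k, (h : Perm X) (x k) = (h' : Perm X) (x k) := by
  have hij : i = j := by
    by_contra hne
    apply hdist i j hne
    refine ⟨h'⁻¹ * h, ?_⟩
    show ((h'⁻¹ * h : H) : Perm X) (x i) = x j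
    rw [Subgroup.coe_mul, Subgroup.coe_inv, Perm.mul_apply]
    have : (h : Perm X) (x i) = (h' : Perm X) (x j) := e
    rw [this]
    simp
  subst hij
  exact ⟨rfl, fun k => (hpat i k h h').mp e⟩

/-- the permutation induced by `σ`. -/
noncomputable def piFun (σ : Perm (Fin r)) (y : X) : X := by
  classical
  exact if hy : ∃ p : H × Fin r, Θ x p = y then
    Θ x ((Classical.choose hy).1, σ (Classical.choose hy).2) else y

include hpat hdist in
theorem piFun_Θ (σ : Perm (Fin r)) (h : H) (i : Fin r) :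
    piFun (H := H) x σ (Θ x (h, i)) = Θ x (h, σ i) := by
  classical
  have hy : ∃ p : H × Fin r, Θ x p = Θ x (h, i) := ⟨(h, i), rfl⟩
  unfold piFun
  rw [dif_pos hy]
  have hc : Θ x ((Classical.choose hy).1, (Classical.choose hy).2) = Θ x (h, i) :=
    Classical.choose_spec hy
  obtain ⟨e1, e2⟩ := Θ_eq x hpat hdist hc
  show (((Classical.choose hy).1 : H) : Perm X) (x (σ (Classical.choose hy).2)) = (h : Perm X) (x (σ i))
  rw [e1]
  exact e2 (σ i)

theorem piFun_not (σ : Perm (Fin r)) (y : X) (hy : ¬ ∃ p : H × Fin r, Θ x p = y) :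
    piFun (H := H) x σ y = y := by
  classical
  unfold piFun
  rw [dif_neg hy]

include hpat hdist in
theorem piFun_mul (σ τ : Perm (Fin r)) (y : X) :
    piFun (H := H) x σ (piFun (H := H) x τ y) = piFun (H := H) x (σ * τ) y := by
  by_cases hy : ∃ p : H × Fin r, Θ x p = y
  · obtain ⟨⟨h, i⟩, rfl⟩ := hy
    rw [piFun_Θ x hpat hdist, piFun_Θ x hpat hdist, piFun_Θ x hpat hdist]
    rfl
  · rw [piFun_not x τ y hy, piFun_not x σ y hy, piFun_not x _ y hy]

include hpat hdist in
theorem piFun_one (y : X) : piFun (H := H) x 1 y = y := by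
  by_cases hy : ∃ p : H × Fin r, Θ x p = y
  · obtain ⟨⟨h, i⟩, rfl⟩ := hy
    rw [piFun_Θ x hpat hdist]
    rfl
  · exact piFun_not x 1 y hy

/-- the embedding of the symmetric group. -/
noncomputable def psi : Perm (Fin r) →* Perm X where
  toFun σ := ⟨piFun (H := H) x σ, piFun (H := H) x σ⁻¹,
    fun y => by rw [piFun_mul x hpat hdist, inv_mul_cancel, piFun_one x hpat hdist],
    fun y => by rw [piFun_mul x hpat hdist, mul_inv_cancel, piFun_one x hpat hdist]⟩
  map_one' := by
    ext y
    exact piFun_one x hpat hdist y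
  map_mul' σ τ := by
    ext y
    exact (piFun_mul x hpat hdist σ τ y).symm

theorem psi_apply (σ : Perm (Fin r)) (y : X) : psi x hpat hdist σ y = piFun (H := H) x σ y := rfl

theorem psi_injective : Function.Injective (psi x hpat hdist) := by
  intro σ σ' e
  ext i
  have h1 : psi x hpat hdist σ (Θ x ((1 : H), i)) = psi x hpat hdist σ' (Θ x ((1 : H), i)) := by rw [e]
  rw [psi_apply, psi_apply, piFun_Θ x hpat hdist, piFun_Θ x hpat hdist] at h1
  have := (Θ_eq x hpat hdist h1).1
  rw [this]

theorem psi_comm (σ : Perm (Fin r)) (g : Perm X) (hg : g ∈ H) :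
    psi x hpat hdist σ * g = g * psi x hpat hdist σ := by
  ext y
  simp only [Perm.mul_apply, psi_apply]
  by_cases hy : ∃ p : H × Fin r, Θ x p = y
  · obtain ⟨⟨h, i⟩, rfl⟩ := hy
    have h1 : g (Θ x (h, i)) = Θ x ((⟨g, hg⟩ : H) * h, i) := rfl
    rw [h1, piFun_Θ x hpat hdist, piFun_Θ x hpat hdist]
    rfl
  · have hy' : ¬ ∃ p : H × Fin r, Θ x p = g y := by
      rintro ⟨⟨h, i⟩, e⟩
      apply hy
      refine ⟨((⟨g, hg⟩ : H)⁻¹ * h, i), ?_⟩
      show (((⟨g, hg⟩ : H)⁻¹ * h : H) : Perm X) (x i) = y
      rw [Subgroup.coe_mul, Subgroup.coe_inv, Perm.mul_apply]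
      have e' : (h : Perm X) (x i) = g y := e
      rw [e']
      simp
    rw [piFun_not x σ y hy, piFun_not x σ (g y) hy']

end core

theorem core {X : Type*} [Fintype X] [DecidableEq X] (H : Subgroup (Perm X)) (r : ℕ)
    (hbig : 2 ^ (Nat.card H * Nat.card H) * (Nat.card H * r) < Fintype.card X) :
    ∃ ψ : Perm (Fin r) →* Perm X, Function.Injective ψ ∧ ∀ σ, ∀ g ∈ H, ψ σ * g = g * ψ σ := by
  classical
  haveI : Fintype H := Fintype.ofFinite H
  let pat : X → (H × H → Bool) := fun y p => decide ((p.1 : Perm X) y = (p.2 : Perm X) y)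
  have hcardβ : Fintype.card (H × H → Bool) = 2 ^ (Nat.card H * Nat.card H) := by
    rw [Fintype.card_fun, Fintype.card_bool, Fintype.card_prod, Nat.card_eq_fintype_card]
  obtain ⟨P, hP⟩ := Fintype.exists_lt_card_fiber_of_mul_lt_card pat (n := Nat.card H * r)
    (by rw [hcardβ]; exact hbig)
  obtain ⟨x, hxY, hdist⟩ := select H (Finset.univ.filter (fun y => pat y = P)) r hP.le
  have hpat : ∀ i j (h h' : H), (h : Perm X) (x i) = (h' : Perm X) (x i) ↔
      (h : Perm X) (x j) = (h' : Perm X) (x j) := by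
    intro i j h h'
    have hi : pat (x i) = P := (Finset.mem_filter.mp (hxY i)).2
    have hj : pat (x j) = P := (Finset.mem_filter.mp (hxY j)).2
    have := congrFun (hi.trans hj.symm) (h, h')
    simp only [pat, decide_eq_decide] at this
    exact this
  exact ⟨psi x hpat hdist, psi_injective x hpat hdist, fun σ g hg => psi_comm x hpat hdist σ g hg⟩

/-- There is a function `f` of two natural-number arguments such that, whenever `m ≥ f(n, r)`, every subgroup of order `n` of the alternating group of degree `m` centralizes some subgroup of that alternating group isomorphic to the alternating group of degree `r`. -/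
theorem result :
    ∃ f : ℕ → ℕ → ℕ, ∀ (m r : ℕ) (H : Subgroup ↥(alternatingGroup (Fin m))), f (Nat.card H) r ≤ m →
      ∃ K : Subgroup ↥(alternatingGroup (Fin m)), Nonempty (↥K ≃* ↥(alternatingGroup (Fin r))) ∧
        K ≤ Subgroup.centralizer (H : Set ↥(alternatingGroup (Fin m))) := by
  refine ⟨fun n r => 2 ^ (n * n) * (n * r) + 1, ?_⟩
  intro m r H hm
  have hm' : 2 ^ (Nat.card H * Nat.card H) * (Nat.card H * r) + 1 ≤ m := hm
  let H' : Subgroup (Perm (Fin m)) := H.map (alternatingGroup (Fin m)).subtype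
  have hcard : Nat.card H' = Nat.card H :=
    Subgroup.card_map_of_injective (Subgroup.subtype_injective _)
  obtain ⟨ψ, hinj, hcomm⟩ := core H' r (by rw [hcard, Fintype.card_fin]; omega)
  have hsign : ∀ σ ∈ alternatingGroup (Fin r), ψ σ ∈ alternatingGroup (Fin m) := by
    intro σ hσ
    rw [Equiv.Perm.mem_alternatingGroup]
    let χ : Perm (Fin r) →* ℤˣ := Perm.sign.comp ψ
    have hker : alternatingGroup (Fin r) ≤ χ.ker := by
      rw [← Equiv.Perm.closure_three_cycles_eq_alternating, Subgroup.closure_le]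
      intro c hc
      rw [SetLike.mem_coe, MonoidHom.mem_ker]
      have hc' : c.IsThreeCycle := hc
      have h3 : c ^ 3 = 1 := by rw [← hc'.orderOf]; exact pow_orderOf_eq_one c
      have h4 : χ c ^ 3 = 1 := by rw [← map_pow, h3, map_one]
      have h5 : χ c ^ 2 = 1 := by rw [sq]; exact Int.units_mul_self _
      calc χ c = χ c ^ 3 * (χ c ^ 2)⁻¹ := by group
        _ = 1 := by rw [h4, h5]; simp
    exact (MonoidHom.mem_ker).mp (hker hσ)
  let ψ' : ↥(alternatingGroup (Fin r)) →* ↥(alternatingGroup (Fin m)) :=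
    (ψ.comp (alternatingGroup (Fin r)).subtype).codRestrict (alternatingGroup (Fin m))
      (fun σ => hsign σ.1 σ.2)
  have hinj' : Function.Injective ψ' := by
    intro a b e
    apply Subtype.ext
    apply hinj
    exact congrArg Subtype.val e
  refine ⟨ψ'.range, ⟨(MonoidHom.ofInjective hinj').symm⟩, ?_⟩
  rintro _ ⟨σ, rfl⟩
  rw [Subgroup.mem_centralizer_iff]
  intro h hh
  apply Subtype.ext
  show (h : Perm (Fin m)) * ψ σ.1 = ψ σ.1 * (h : Perm (Fin m))
  exact (hcomm σ.1 (h : Perm (Fin m)) ⟨h, hh, rfl⟩).symm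

end Cfsg.Agent.S2532
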