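import Cfsg.Statements.S2533

set_option autoImplicit false
open Cfsg

namespace Cfsg.Agent.S2533

open Matrix

/-- the generalized dihedral group of `(ZMod p)^3`. -/
@[ext] structure GD (p : ℕ) where
  v : Fin 3 → ZMod p
  s : ℤˣ

namespace GD
variable {p : ℕ}

instance : Mul (GD p) := ⟨fun a b => ⟨a.v + ((a.s : ℤˣ) : ℤ) • b.v, a.s * b.s⟩⟩
instance : One (GD p) := ⟨⟨0, 1⟩⟩
instance : Inv (GD p) := ⟨fun a => ⟨-(((a.s⁻¹ : ℤˣ) : ℤ) • a.v), a.s⁻¹⟩⟩

@[simp] theorem mul_v (a b : GD p) : (a * b).v = a.v + ((a.s : ℤˣ) : ℤ) • b.v := rfl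
@[simp] theorem mul_s (a b : GD p) : (a * b).s = a.s * b.s := rfl
@[simp] theorem one_v : (1 : GD p).v = 0 := rfl
@[simp] theorem one_s : (1 : GD p).s = 1 := rfl
@[simp] theorem inv_v (a : GD p) : (a⁻¹).v = -(((a.s⁻¹ : ℤˣ) : ℤ) • a.v) := rfl
@[simp] theorem inv_s (a : GD p) : (a⁻¹).s = a.s⁻¹ := rfl

instance : Group (GD p) where
  mul_assoc a b c := by
    ext1
    · simp only [mul_v, mul_s, Units.val_mul, smul_add, mul_smul, add_assoc]
    · simp only [mul_s, mul_assoc]
  one_mul a := by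
    ext1
    · simp
    · simp
  mul_one a := by
    ext1
    · simp
    · simp
  inv_mul_cancel a := by
    ext1
    · simp
    · simp

/-- the underlying product. -/
def equivProd : GD p ≃ (Fin 3 → ZMod p) × ℤˣ where
  toFun a := (a.v, a.s)
  invFun x := ⟨x.1, x.2⟩
  left_inv a := by cases a; rfl
  right_inv x := by cases x; rfl

instance [NeZero p] : Finite (GD p) := Finite.of_equiv _ equivProd.symm

theorem card [NeZero p] : Nat.card (GD p) = 2 * p ^ 3 := by
  rw [Nat.card_congr equivProd, Nat.card_prod, Nat.card_eq_fintype_card, Nat.card_eq_fintype_card,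
    Fintype.card_units_int, Fintype.card_fun, ZMod.card, Fintype.card_fin, mul_comm]

end GD

section mats
variable {p : ℕ} [Fact p.Prime] {m : ℕ}

/-- the first Kronecker map. -/
def mA : Matrix (Fin (m + 1)) (Fin m) (ZMod p) :=
  Matrix.of fun i j => if i = j.castSucc then 1 else 0

/-- the second Kronecker map. -/
def mB : Matrix (Fin (m + 1)) (Fin m) (ZMod p) :=
  Matrix.of fun i j => if i = j.succ then 1 else 0

/-- a third independent map. -/
def mC : Matrix (Fin (m + 1)) (Fin m) (ZMod p) :=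
  Matrix.of fun i j => if (i : ℕ) = 0 ∧ (j : ℕ) + 1 = m then 1 else 0

/-- the linear combination. -/
def mX (v : Fin 3 → ZMod p) : Matrix (Fin (m + 1)) (Fin m) (ZMod p) :=
  v 0 • mA + v 1 • mB + v 2 • mC

theorem mX_add (v w : Fin 3 → ZMod p) : mX (m := m) (v + w) = mX v + mX w := by
  simp only [mX, Pi.add_apply, add_smul]; abel

theorem mX_zsmul (z : ℤ) (w : Fin 3 → ZMod p) :
    mX (m := m) (z • w) = (z : ZMod p) • mX w := by
  simp only [mX, Pi.smul_apply, zsmul_eq_mul, smul_add, smul_smul]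

theorem mX_zero : mX (m := m) (0 : Fin 3 → ZMod p) = 0 := by
  simp [mX]

/-- the block matrix. -/
def mM (X : Matrix (Fin (m + 1)) (Fin m) (ZMod p)) (c : ZMod p) :
    Matrix (Fin m ⊕ Fin (m + 1)) (Fin m ⊕ Fin (m + 1)) (ZMod p) :=
  Matrix.fromBlocks 1 0 X (c • 1)

theorem mM_mul (X Y : Matrix (Fin (m + 1)) (Fin m) (ZMod p)) (c d : ZMod p) :
    mM X c * mM Y d = mM (X + c • Y) (c * d) := by
  unfold mM
  rw [Matrix.fromBlocks_multiply]
  congr 1 <;> simp [smul_smul, mul_comm]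

theorem mM_one : mM (m := m) (0 : Matrix (Fin (m + 1)) (Fin m) (ZMod p)) 1 = 1 := by
  unfold mM; rw [one_smul, Matrix.fromBlocks_one]

theorem det_mM (X : Matrix (Fin (m + 1)) (Fin m) (ZMod p)) (c : ZMod p) :
    (mM X c).det = c ^ (m + 1) := by
  unfold mM
  rw [Matrix.det_fromBlocks_zero₁₂, Matrix.det_one, one_mul, Matrix.det_smul, Matrix.det_one,
    mul_one, Fintype.card_fin]

theorem trace_mM (X : Matrix (Fin (m + 1)) (Fin m) (ZMod p)) (c : ZMod p) :
    (mM X c).trace = (m : ZMod p) + c * ((m : ZMod p) + 1) := by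
  unfold mM
  have h : ∀ (A : Matrix (Fin m) (Fin m) (ZMod p)) (B : Matrix (Fin m) (Fin (m + 1)) (ZMod p))
      (C : Matrix (Fin (m + 1)) (Fin m) (ZMod p)) (D : Matrix (Fin (m + 1)) (Fin (m + 1)) (ZMod p)),
      (Matrix.fromBlocks A B C D).trace = A.trace + D.trace := by
    intro A B C D
    simp [Matrix.trace, Fintype.sum_sum_type]
  rw [h, Matrix.trace_one, Matrix.trace_smul, Matrix.trace_one,
    Fintype.card_fin, Fintype.card_fin]
  simp [smul_eq_mul]

/-- the matrix of a group element. -/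
def mPsi (h : GD p) : Matrix (Fin (m + (m + 1))) (Fin (m + (m + 1))) (ZMod p) :=
  (mM (mX h.v) (((h.s : ℤˣ) : ℤ) : ZMod p)).submatrix finSumFinEquiv.symm finSumFinEquiv.symm

theorem mPsi_mul (a b : GD p) : mPsi (m := m) (a * b) = mPsi a * mPsi b := by
  unfold mPsi
  rw [Matrix.submatrix_mul_equiv, mM_mul]
  have h1 : mX (m := m) (a * b).v = mX a.v + (((a.s : ℤˣ) : ℤ) : ZMod p) • mX b.v := by
    rw [GD.mul_v, mX_add, mX_zsmul]
  have h2 : ((((a * b).s : ℤˣ) : ℤ) : ZMod p)
      = (((a.s : ℤˣ) : ℤ) : ZMod p) * (((b.s : ℤˣ) : ℤ) : ZMod p) := by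
    rw [GD.mul_s, Units.val_mul, Int.cast_mul]
  rw [h1, h2]

theorem mPsi_one : mPsi (m := m) (1 : GD p) = 1 := by
  unfold mPsi
  rw [GD.one_v, GD.one_s, mX_zero, Units.val_one, Int.cast_one, mM_one, Matrix.submatrix_one_equiv]

theorem units_int_cast_pow_even (s : ℤˣ) {k : ℕ} (hk : Even k) :
    (((s : ℤ) : ZMod p)) ^ k = 1 := by
  rcases Int.units_eq_one_or s with rfl | rfl
  · simp
  · simp [hk.neg_one_pow]

/-- the homomorphism to `SL`. -/
def psi (hodd : Odd m) : GD p →* Matrix.SpecialLinearGroup (Fin (m + (m + 1))) (ZMod p) where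
  toFun h := ⟨mPsi h, by
    rw [mPsi, Matrix.det_submatrix_equiv_self, det_mM]
    exact units_int_cast_pow_even _ hodd.add_one⟩
  map_one' := Subtype.ext mPsi_one
  map_mul' a b := Subtype.ext (mPsi_mul a b)

theorem psi_coe (hodd : Odd m) (h : GD p) :
    ((psi hodd h : Matrix.SpecialLinearGroup (Fin (m + (m + 1))) (ZMod p)) :
      Matrix (Fin (m + (m + 1))) (Fin (m + (m + 1))) (ZMod p)) = mPsi h := rfl

end mats

section central
variable {p : ℕ} [Fact p.Prime] {m : ℕ}

theorem mul_mA_apply (Y : Matrix (Fin (m + 1)) (Fin (m + 1)) (ZMod p)) (i : Fin (m + 1))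
    (k : Fin m) : (Y * (mA : Matrix (Fin (m + 1)) (Fin m) (ZMod p))) i k = Y i k.castSucc := by
  rw [Matrix.mul_apply, Finset.sum_eq_single k.castSucc]
  · simp [mA]
  · intro b _ hb; simp [mA, hb]
  · simp

theorem mA_mul_apply_cast (Z : Matrix (Fin m) (Fin m) (ZMod p)) (j k : Fin m) :
    ((mA : Matrix (Fin (m + 1)) (Fin m) (ZMod p)) * Z) j.castSucc k = Z j k := by
  rw [Matrix.mul_apply, Finset.sum_eq_single j]
  · simp [mA]
  · intro b _ hb; simp [mA, Fin.castSucc_inj, Ne.symm hb]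
  · simp

theorem mA_mul_apply_last (Z : Matrix (Fin m) (Fin m) (ZMod p)) (k : Fin m) :
    ((mA : Matrix (Fin (m + 1)) (Fin m) (ZMod p)) * Z) (Fin.last m) k = 0 := by
  rw [Matrix.mul_apply]
  apply Finset.sum_eq_zero
  intro b _
  simp [mA, (Fin.castSucc_lt_last b).ne']

theorem mul_mB_apply (Y : Matrix (Fin (m + 1)) (Fin (m + 1)) (ZMod p)) (i : Fin (m + 1))
    (k : Fin m) : (Y * (mB : Matrix (Fin (m + 1)) (Fin m) (ZMod p))) i k = Y i k.succ := by
  rw [Matrix.mul_apply, Finset.sum_eq_single k.succ]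
  · simp [mB]
  · intro b _ hb; simp [mB, hb]
  · simp

theorem mB_mul_apply_succ (Z : Matrix (Fin m) (Fin m) (ZMod p)) (j k : Fin m) :
    ((mB : Matrix (Fin (m + 1)) (Fin m) (ZMod p)) * Z) j.succ k = Z j k := by
  rw [Matrix.mul_apply, Finset.sum_eq_single j]
  · simp [mB]
  · intro b _ hb; simp [mB, Fin.succ_inj, Ne.symm hb]
  · simp

theorem mB_mul_apply_zero (Z : Matrix (Fin m) (Fin m) (ZMod p)) (k : Fin m) :
    ((mB : Matrix (Fin (m + 1)) (Fin m) (ZMod p)) * Z) 0 k = 0 := by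
  rw [Matrix.mul_apply]
  apply Finset.sum_eq_zero
  intro b _
  simp [mB, (Fin.succ_ne_zero b).symm]

theorem toeplitz_scalar (Y : Matrix (Fin (m + 1)) (Fin (m + 1)) (ZMod p))
    (Z : Matrix (Fin m) (Fin m) (ZMod p))
    (hA : Y * (mA : Matrix (Fin (m + 1)) (Fin m) (ZMod p)) = (mA : Matrix (Fin (m + 1)) (Fin m) (ZMod p)) * Z) (hB : Y * (mB : Matrix (Fin (m + 1)) (Fin m) (ZMod p)) = (mB : Matrix (Fin (m + 1)) (Fin m) (ZMod p)) * Z) :
    Y = (Y 0 0) • (1 : Matrix (Fin (m + 1)) (Fin (m + 1)) (ZMod p))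
      ∧ Z = (Y 0 0) • (1 : Matrix (Fin m) (Fin m) (ZMod p)) := by
  have R1 : ∀ j k : Fin m, Y j.castSucc k.castSucc = Z j k := by
    intro j k
    have := congrFun (congrFun hA j.castSucc) k
    rwa [mul_mA_apply, mA_mul_apply_cast] at this
  have R2 : ∀ k : Fin m, Y (Fin.last m) k.castSucc = 0 := by
    intro k
    have := congrFun (congrFun hA (Fin.last m)) k
    rwa [mul_mA_apply, mA_mul_apply_last] at this
  have R3 : ∀ j k : Fin m, Y j.succ k.succ = Z j k := by
    intro j k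
    have := congrFun (congrFun hB j.succ) k
    rwa [mul_mB_apply, mB_mul_apply_succ] at this
  have R4 : ∀ k : Fin m, Y 0 k.succ = 0 := by
    intro k
    have := congrFun (congrFun hB 0) k
    rwa [mul_mB_apply, mB_mul_apply_zero] at this
  set y : ℕ → ℕ → ZMod p :=
    fun a b => if h : a < m + 1 ∧ b < m + 1 then Y ⟨a, h.1⟩ ⟨b, h.2⟩ else 0 with hy
  have yY : ∀ i l : Fin (m + 1), y i l = Y i l := by
    intro i l
    simp only [hy]
    rw [dif_pos ⟨i.isLt, l.isLt⟩]
  have T : ∀ a b, a < m → b < m → y a b = y (a + 1) (b + 1) := by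
    intro a b ha hb
    have e1 : y a b = Y (Fin.castSucc ⟨a, ha⟩) (Fin.castSucc ⟨b, hb⟩) :=
      yY (Fin.castSucc ⟨a, ha⟩) (Fin.castSucc ⟨b, hb⟩)
    have e2 : y (a + 1) (b + 1) = Y (Fin.succ ⟨a, ha⟩) (Fin.succ ⟨b, hb⟩) :=
      yY (Fin.succ ⟨a, ha⟩) (Fin.succ ⟨b, hb⟩)
    rw [e1, e2, R1, R3]
  have Lm : ∀ b, b < m → y m b = 0 := by
    intro b hb
    have e1 : y m b = Y (Fin.last m) (Fin.castSucc ⟨b, hb⟩) :=
      yY (Fin.last m) (Fin.castSucc ⟨b, hb⟩)
    rw [e1, R2]
  have U0 : ∀ b, b < m → y 0 (b + 1) = 0 := by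
    intro b hb
    have e1 : y 0 (b + 1) = Y 0 (Fin.succ ⟨b, hb⟩) := yY 0 (Fin.succ ⟨b, hb⟩)
    rw [e1, R4]
  have U : ∀ a d, a + d + 1 ≤ m → y a (a + d + 1) = 0 := by
    intro a
    induction a with
    | zero =>
      intro d h
      have := U0 d (by omega)
      simpa using this
    | succ a ih =>
      intro d h
      have h1 := T a (a + d + 1) (by omega) (by omega)
      rw [show a + 1 + d + 1 = a + d + 1 + 1 by omega, ← h1]
      exact ih d (by omega)
  have L : ∀ r a d, a + d + 1 + r = m → y (a + d + 1) a = 0 := by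
    intro r
    induction r with
    | zero =>
      intro a d h
      have h1 : a + d + 1 = m := by omega
      rw [h1]
      exact Lm a (by omega)
    | succ r ih =>
      intro a d h
      have h1 := T (a + d + 1) a (by omega) (by omega)
      rw [h1]
      have h3 := ih (a + 1) d (by omega)
      rw [show a + 1 + d + 1 = a + d + 1 + 1 by omega] at h3
      exact h3
  have D : ∀ a, a ≤ m → y a a = y 0 0 := by
    intro a
    induction a with
    | zero => intro _; rfl
    | succ a ih =>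
      intro h
      rw [← T a a (by omega) (by omega)]
      exact ih (by omega)
  have hYdiag : ∀ i l : Fin (m + 1), Y i l = if i = l then Y 0 0 else 0 := by
    intro i l
    rw [← yY i l, ← yY 0 0]
    have hi := i.isLt
    have hl := l.isLt
    rcases lt_trichotomy (i : ℕ) (l : ℕ) with h | h | h
    · obtain ⟨d, hd⟩ : ∃ d, (l : ℕ) = i + d + 1 := ⟨l - i - 1, by omega⟩
      rw [hd, U i d (by omega), if_neg]
      intro h'
      rw [h'] at h
      exact lt_irrefl _ h
    · have hil : i = l := Fin.ext h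
      subst hil
      rw [if_pos rfl]
      exact D i (by omega)
    · obtain ⟨d, hd⟩ : ∃ d, (i : ℕ) = l + d + 1 := ⟨i - l - 1, by omega⟩
      rw [hd, L (m - (l + d + 1)) l d (by omega), if_neg]
      intro h'
      rw [h'] at h
      exact lt_irrefl _ h
  constructor
  · ext i l
    rw [hYdiag i l]
    simp [Matrix.smul_apply, Matrix.one_apply]
  · ext j k
    rw [← R1, hYdiag]
    simp [Matrix.smul_apply, Matrix.one_apply, Fin.castSucc_inj]

theorem central_blocks (h2 : (2 : ZMod p) ≠ 0)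
    (G : Matrix (Fin m ⊕ Fin (m + 1)) (Fin m ⊕ Fin (m + 1)) (ZMod p))
    (hT : G * mM 0 (-1) = mM 0 (-1) * G)
    (hA : G * mM (mA : Matrix (Fin (m + 1)) (Fin m) (ZMod p)) 1 = mM (mA : Matrix (Fin (m + 1)) (Fin m) (ZMod p)) 1 * G) (hB : G * mM (mB : Matrix (Fin (m + 1)) (Fin m) (ZMod p)) 1 = mM (mB : Matrix (Fin (m + 1)) (Fin m) (ZMod p)) 1 * G) :
    ∃ c : ZMod p, G = c • (1 : Matrix (Fin m ⊕ Fin (m + 1)) (Fin m ⊕ Fin (m + 1)) (ZMod p)) := by
  obtain ⟨G11, G10, G01, G00, rfl⟩ : ∃ a b c d, G = Matrix.fromBlocks a b c d :=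
    ⟨_, _, _, _, (Matrix.fromBlocks_toBlocks G).symm⟩
  unfold mM at hT hA hB
  rw [Matrix.fromBlocks_multiply, Matrix.fromBlocks_multiply, Matrix.fromBlocks_inj] at hT hA hB
  have h10 : G10 = 0 := by
    have h := hT.2.1
    ext i j
    have h' := congrFun (congrFun h i) j
    simp at h'
    have h3 : (2 : ZMod p) * G10 i j = 0 := by linear_combination -h'
    rcases mul_eq_zero.mp h3 with h4 | h4
    · exact absurd h4 h2
    · simpa using h4
  have h01 : G01 = 0 := by
    have h := hT.2.2.1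
    ext i j
    have h' := congrFun (congrFun h i) j
    simp at h'
    have h3 : (2 : ZMod p) * G01 i j = 0 := by linear_combination h'
    rcases mul_eq_zero.mp h3 with h4 | h4
    · exact absurd h4 h2
    · simpa using h4
  subst h10 h01
  have hA' : G00 * (mA : Matrix (Fin (m + 1)) (Fin m) (ZMod p)) = (mA : Matrix (Fin (m + 1)) (Fin m) (ZMod p)) * G11 := by
    have h := hA.2.2.1
    simpa using h
  have hB' : G00 * (mB : Matrix (Fin (m + 1)) (Fin m) (ZMod p)) = (mB : Matrix (Fin (m + 1)) (Fin m) (ZMod p)) * G11 := by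
    have h := hB.2.2.1
    simpa using h
  obtain ⟨e1, e2⟩ := toeplitz_scalar G00 G11 hA' hB'
  refine ⟨G00 0 0, ?_⟩
  rw [e1, e2]
  ext (i | i) (j | j) <;> simp [Matrix.smul_apply, Matrix.one_apply]

end central

section final
variable {p : ℕ} [Fact p.Prime] {m : ℕ}

theorem smul_one_submatrix {α β : Type*} [DecidableEq α] [DecidableEq β] (e : α ≃ β)
    (r : ZMod p) : (r • (1 : Matrix β β (ZMod p))).submatrix e e = r • 1 := by
  ext i j
  simp [Matrix.one_apply]

theorem mPsi_submatrix (h : GD p) :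
    (mPsi (m := m) h).submatrix finSumFinEquiv finSumFinEquiv
      = mM (mX h.v) (((h.s : ℤˣ) : ℤ) : ZMod p) := by
  unfold mPsi
  rw [Matrix.submatrix_submatrix]
  simp

theorem trace_mPsi (h : GD p) :
    (mPsi (m := m) h).trace
      = (m : ZMod p) + (((h.s : ℤˣ) : ℤ) : ZMod p) * ((m : ZMod p) + 1) := by
  rw [← trace_mM (mX h.v)]
  unfold mPsi
  simp only [Matrix.trace, Matrix.diag, Matrix.submatrix_apply]
  exact Equiv.sum_comp finSumFinEquiv.symm
    (fun x => mM (mX (m := m) h.v) (((h.s : ℤˣ) : ℤ) : ZMod p) x x)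

theorem mX_apply (v : Fin 3 → ZMod p) (i : Fin (m + 1)) (j : Fin m) :
    mX v i j = v 0 * (if i = j.castSucc then 1 else 0) + v 1 * (if i = j.succ then 1 else 0)
      + v 2 * (if (i : ℕ) = 0 ∧ (j : ℕ) + 1 = m then 1 else 0) := by
  simp [mX, mA, mB, mC]

theorem central_fin (h2 : (2 : ZMod p) ≠ 0)
    (G : Matrix (Fin (m + (m + 1))) (Fin (m + (m + 1))) (ZMod p))
    (h : ∀ v : Fin 3 → ZMod p, G * mPsi ⟨v, -1⟩ = mPsi ⟨v, -1⟩ * G) :
    ∃ c : ZMod p, G = c • (1 : Matrix (Fin (m + (m + 1))) (Fin (m + (m + 1))) (ZMod p)) := by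
  have hpos : ∀ v : Fin 3 → ZMod p, G * mPsi ⟨v, 1⟩ = mPsi ⟨v, 1⟩ * G := by
    intro v
    have e : (⟨v, 1⟩ : GD p) = ⟨v, -1⟩ * ⟨0, -1⟩ := by
      ext1 <;> simp
    rw [e, mPsi_mul, ← Matrix.mul_assoc, h v, Matrix.mul_assoc, h 0, ← Matrix.mul_assoc]
  have tr : ∀ a : GD p, G * mPsi a = mPsi a * G →
      G.submatrix finSumFinEquiv finSumFinEquiv * mM (mX (m := m) a.v) (((a.s : ℤˣ) : ℤ) : ZMod p)
        = mM (mX a.v) (((a.s : ℤˣ) : ℤ) : ZMod p) * G.submatrix finSumFinEquiv finSumFinEquiv := by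
    intro a ha
    rw [← mPsi_submatrix a, Matrix.submatrix_mul_equiv, Matrix.submatrix_mul_equiv, ha]
  have hT := tr ⟨0, -1⟩ (h 0)
  simp only [mX_zero, Units.val_neg, Units.val_one, Int.cast_neg, Int.cast_one] at hT
  have hA := tr ⟨![1, 0, 0], 1⟩ (hpos _)
  have hB := tr ⟨![0, 1, 0], 1⟩ (hpos _)
  have eA : mX (m := m) (![1, 0, 0] : Fin 3 → ZMod p) = mA := by simp [mX]
  have eB : mX (m := m) (![0, 1, 0] : Fin 3 → ZMod p) = mB := by simp [mX]
  simp only [eA, eB, Units.val_one, Int.cast_one] at hA hB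
  obtain ⟨c, hc⟩ := central_blocks h2 _ hT hA hB
  refine ⟨c, ?_⟩
  have hG : G = (G.submatrix finSumFinEquiv finSumFinEquiv).submatrix
      finSumFinEquiv.symm finSumFinEquiv.symm := by
    rw [Matrix.submatrix_submatrix]; simp
  rw [hG, hc]
  exact smul_one_submatrix _ c

theorem main (hp2 : p ≠ 2) (hodd : Odd m) (hm : 3 ≤ m) :
    ∃ φ : GD p →* Matrix.ProjectiveSpecialLinearGroup (Fin (m + (m + 1))) (ZMod p),
      Function.Injective φ ∧
        Subgroup.centralizer (φ.range :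
          Set (Matrix.ProjectiveSpecialLinearGroup (Fin (m + (m + 1))) (ZMod p))) = ⊥ := by
  have hpp : p.Prime := Fact.out
  have h2 : (2 : ZMod p) ≠ 0 := by
    intro h
    have h' : ((2 : ℕ) : ZMod p) = 0 := by exact_mod_cast h
    rw [ZMod.natCast_eq_zero_iff] at h'
    exact hp2 ((Nat.prime_dvd_prime_iff_eq hpp Nat.prime_two).mp h')
  have hneg : (-1 : ZMod p) ≠ 1 := by
    intro h
    apply h2
    linear_combination -h
  refine ⟨(QuotientGroup.mk' _).comp (psi (p := p) hodd), ?_, ?_⟩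
  · rw [injective_iff_map_eq_one]
    intro a ha
    have hc : psi (p := p) hodd a ∈ Subgroup.center _ := (QuotientGroup.eq_one_iff _).mp ha
    obtain ⟨r, -, hr⟩ := Matrix.SpecialLinearGroup.mem_center_iff.mp hc
    have h1 : mM (mX (m := m) a.v) (((a.s : ℤˣ) : ℤ) : ZMod p)
        = r • (1 : Matrix (Fin m ⊕ Fin (m + 1)) (Fin m ⊕ Fin (m + 1)) (ZMod p)) := by
      rw [← mPsi_submatrix, ← psi_coe hodd a, ← hr, Matrix.scalar_apply,
        ← Matrix.smul_one_eq_diagonal]
      exact smul_one_submatrix _ r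
    have hr1 : r = 1 := by
      have := congrFun (congrFun h1 (Sum.inl ⟨0, by omega⟩)) (Sum.inl ⟨0, by omega⟩)
      simp [mM] at this
      exact this.symm
    have hX : ∀ i j, mX (m := m) a.v i j = 0 := by
      intro i j
      have := congrFun (congrFun h1 (Sum.inr i)) (Sum.inl j)
      simpa [mM] using this
    have hc1 : (((a.s : ℤˣ) : ℤ) : ZMod p) = 1 := by
      have := congrFun (congrFun h1 (Sum.inr 0)) (Sum.inr 0)
      simp [mM] at this
      rw [this, hr1]
    have hs : a.s = 1 := by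
      rcases Int.units_eq_one_or a.s with h | h
      · exact h
      · exfalso
        rw [h] at hc1
        simp at hc1
        exact hneg hc1
    have hv0 : a.v 0 = 0 := by
      have := hX ⟨0, by omega⟩ ⟨0, by omega⟩
      have c1 : (⟨0, by omega⟩ : Fin (m + 1)) = Fin.castSucc (⟨0, by omega⟩ : Fin m) := by
        ext; simp
      have c2 : ¬ (⟨0, by omega⟩ : Fin (m + 1)) = Fin.succ (⟨0, by omega⟩ : Fin m) := by
        intro h; have := congrArg Fin.val h; simp at this
      have c3 : ¬ (((⟨0, by omega⟩ : Fin (m + 1)) : ℕ) = 0 ∧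
          ((⟨0, by omega⟩ : Fin m) : ℕ) + 1 = m) := by
        intro h; have := h.2; simp at this; omega
      rw [mX_apply, if_pos c1, if_neg c2, if_neg c3] at this
      simpa using this
    have hv1 : a.v 1 = 0 := by
      have := hX ⟨1, by omega⟩ ⟨0, by omega⟩
      have c1 : ¬ (⟨1, by omega⟩ : Fin (m + 1)) = Fin.castSucc (⟨0, by omega⟩ : Fin m) := by
        intro h; have := congrArg Fin.val h; simp at this
      have c2 : (⟨1, by omega⟩ : Fin (m + 1)) = Fin.succ (⟨0, by omega⟩ : Fin m) := by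
        ext; simp
      have c3 : ¬ (((⟨1, by omega⟩ : Fin (m + 1)) : ℕ) = 0 ∧
          ((⟨0, by omega⟩ : Fin m) : ℕ) + 1 = m) := by
        intro h; have := h.1; simp at this
      rw [mX_apply, if_neg c1, if_pos c2, if_neg c3] at this
      simpa using this
    have hv2 : a.v 2 = 0 := by
      have := hX ⟨0, by omega⟩ ⟨m - 1, by omega⟩
      have c1 : ¬ (⟨0, by omega⟩ : Fin (m + 1)) = Fin.castSucc (⟨m - 1, by omega⟩ : Fin m) := by
        intro h; have := congrArg Fin.val h; simp at this; omega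
      have c2 : ¬ (⟨0, by omega⟩ : Fin (m + 1)) = Fin.succ (⟨m - 1, by omega⟩ : Fin m) := by
        intro h; have := congrArg Fin.val h; simp at this
      have c3 : (((⟨0, by omega⟩ : Fin (m + 1)) : ℕ) = 0 ∧
          ((⟨m - 1, by omega⟩ : Fin m) : ℕ) + 1 = m) := by
        constructor
        · rfl
        · show m - 1 + 1 = m; omega
      rw [mX_apply, if_neg c1, if_neg c2, if_pos c3] at this
      simpa using this
    ext1
    · funext i
      fin_cases i
      · exact hv0
      · exact hv1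
      · exact hv2
    · exact hs
  · rw [eq_bot_iff]
    intro x hx
    rw [Subgroup.mem_bot]
    obtain ⟨g, rfl⟩ := QuotientGroup.mk_surjective x
    rw [QuotientGroup.eq_one_iff]
    have key : ∀ v : Fin 3 → ZMod p,
        (g : Matrix (Fin (m + (m + 1))) (Fin (m + (m + 1))) (ZMod p)) * mPsi ⟨v, -1⟩
          = mPsi ⟨v, -1⟩ * (g : Matrix (Fin (m + (m + 1))) (Fin (m + (m + 1))) (ZMod p)) := by
      intro v
      have h1 := (Subgroup.mem_centralizer_iff.mp hx)
        (((QuotientGroup.mk' _).comp (psi (p := p) hodd)) ⟨v, -1⟩) ⟨_, rfl⟩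
      change (QuotientGroup.mk (psi (p := p) hodd ⟨v, -1⟩) :
          Matrix.ProjectiveSpecialLinearGroup (Fin (m + (m + 1))) (ZMod p)) * QuotientGroup.mk g
        = QuotientGroup.mk g * QuotientGroup.mk (psi (p := p) hodd ⟨v, -1⟩) at h1
      rw [← QuotientGroup.mk_mul, ← QuotientGroup.mk_mul, QuotientGroup.eq] at h1
      obtain ⟨r, -, hr⟩ := Matrix.SpecialLinearGroup.mem_center_iff.mp h1
      set P := psi (p := p) hodd ⟨v, -1⟩ with hP
      set z := (P * g)⁻¹ * (g * P) with hz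
      have e1 : g * P = P * g * z := by rw [hz]; group
      have e2 := congrArg (fun y : Matrix.SpecialLinearGroup (Fin (m + (m + 1))) (ZMod p) =>
        (y : Matrix (Fin (m + (m + 1))) (Fin (m + (m + 1))) (ZMod p))) e1
      simp only [Matrix.SpecialLinearGroup.coe_mul] at e2
      rw [← hr, Matrix.scalar_apply, ← Matrix.smul_one_eq_diagonal, Matrix.mul_smul,
        Matrix.mul_one] at e2
      -- e2 : ↑g * ↑P = r • (↑P * ↑g)
      have hgi : (g : Matrix (Fin (m + (m + 1))) (Fin (m + (m + 1))) (ZMod p))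
          * ((g⁻¹ : Matrix.SpecialLinearGroup (Fin (m + (m + 1))) (ZMod p)) :
            Matrix (Fin (m + (m + 1))) (Fin (m + (m + 1))) (ZMod p)) = 1 := by
        rw [← Matrix.SpecialLinearGroup.coe_mul, mul_inv_cancel, Matrix.SpecialLinearGroup.coe_one]
      have hig : ((g⁻¹ : Matrix.SpecialLinearGroup (Fin (m + (m + 1))) (ZMod p)) :
            Matrix (Fin (m + (m + 1))) (Fin (m + (m + 1))) (ZMod p))
          * (g : Matrix (Fin (m + (m + 1))) (Fin (m + (m + 1))) (ZMod p)) = 1 := by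
        rw [← Matrix.SpecialLinearGroup.coe_mul, inv_mul_cancel, Matrix.SpecialLinearGroup.coe_one]
      have t1 : ((g : Matrix (Fin (m + (m + 1))) (Fin (m + (m + 1))) (ZMod p))
          * (P : Matrix (Fin (m + (m + 1))) (Fin (m + (m + 1))) (ZMod p))
          * ((g⁻¹ : Matrix.SpecialLinearGroup (Fin (m + (m + 1))) (ZMod p)) :
            Matrix (Fin (m + (m + 1))) (Fin (m + (m + 1))) (ZMod p))).trace
          = (P : Matrix (Fin (m + (m + 1))) (Fin (m + (m + 1))) (ZMod p)).trace := by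
        rw [Matrix.trace_mul_comm, ← Matrix.mul_assoc, hig, Matrix.one_mul]
      have t2 : (g : Matrix (Fin (m + (m + 1))) (Fin (m + (m + 1))) (ZMod p))
          * (P : Matrix (Fin (m + (m + 1))) (Fin (m + (m + 1))) (ZMod p))
          * ((g⁻¹ : Matrix.SpecialLinearGroup (Fin (m + (m + 1))) (ZMod p)) :
            Matrix (Fin (m + (m + 1))) (Fin (m + (m + 1))) (ZMod p))
          = r • (P : Matrix (Fin (m + (m + 1))) (Fin (m + (m + 1))) (ZMod p)) := by
        rw [e2, Matrix.smul_mul, Matrix.mul_assoc, hgi, Matrix.mul_one]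
      rw [t2, Matrix.trace_smul, smul_eq_mul] at t1
      have htr : (P : Matrix (Fin (m + (m + 1))) (Fin (m + (m + 1))) (ZMod p)).trace = -1 := by
        rw [hP, psi_coe, trace_mPsi]
        simp only [Units.val_neg, Units.val_one, Int.cast_neg, Int.cast_one]
        ring
      rw [htr] at t1
      have hr1 : r = 1 := by linear_combination -t1
      rw [hr1, one_smul] at e2
      rw [hP, psi_coe] at e2
      exact e2
    obtain ⟨c, hc⟩ := central_fin h2 _ key
    rw [Matrix.SpecialLinearGroup.mem_center_iff]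
    refine ⟨c, ?_, ?_⟩
    · have := g.2
      rw [hc, Matrix.det_smul, Matrix.det_one, mul_one] at this
      exact this
    · rw [hc, Matrix.scalar_apply, ← Matrix.smul_one_eq_diagonal]

end final

/-- For every odd prime `p` there is a finite group `H` of order `2p³` which, for infinitely many `n`, embeds in the projective special linear group `PSL(n, p)` as a subgroup with trivial centralizer. -/
theorem result
    (p : ℕ) [Fact p.Prime] (hp : p ≠ 2) :
    ∃ (H : Type) (_ : Group H) (_ : Finite H), Nat.card H = 2 * p ^ 3 ∧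
      ∀ N : ℕ, ∃ n, N ≤ n ∧ ∃ φ : H →* Matrix.ProjectiveSpecialLinearGroup (Fin n) (ZMod p),
        Function.Injective φ ∧ Subgroup.centralizer (φ.range : Set (Matrix.ProjectiveSpecialLinearGroup (Fin n) (ZMod p))) = ⊥ := by
  have : NeZero p := ⟨(Fact.out : p.Prime).ne_zero⟩
  refine ⟨GD p, inferInstance, inferInstance, GD.card, ?_⟩
  intro N
  refine ⟨(2 * N + 3) + ((2 * N + 3) + 1), by omega, ?_⟩
  exact main hp ⟨N + 1, by ring⟩ (by omega)

end Cfsg.Agent.S2533
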