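-- Statement S2540: subgroups of GL_n normalized by SL_n.
import Cfsg.Statements.S2540
import Cfsg.Agent.S0248
import Cfsg.Agent.S0249

set_option autoImplicit false
open Cfsg

namespace Cfsg.Agent.S2540

open Matrix

section aux
variable {F : Type*} [Field F] {n : ℕ}

/-- Conjugation of SL by an element of GL. -/
noncomputable def conjSL (g : GL (Fin n) F) (s : SpecialLinearGroup (Fin n) F) :
    SpecialLinearGroup (Fin n) F :=
  ⟨(g : Matrix (Fin n) (Fin n) F) * (s : Matrix (Fin n) (Fin n) F) *
    ((g⁻¹ : GL (Fin n) F) : Matrix (Fin n) (Fin n) F), by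
    rw [Matrix.det_mul, Matrix.det_mul, s.2, mul_one, ← Matrix.det_mul, ← Units.val_mul,
      mul_inv_cancel]
    simp⟩

theorem toGL_conjSL (g : GL (Fin n) F) (s : SpecialLinearGroup (Fin n) F) :
    SpecialLinearGroup.toGL (conjSL g s) = g * SpecialLinearGroup.toGL s * g⁻¹ := by
  apply Units.ext
  rfl

theorem conjSL_mul (g : GL (Fin n) F) (s t : SpecialLinearGroup (Fin n) F) :
    conjSL g (s * t) = conjSL g s * conjSL g t := by
  apply SpecialLinearGroup.toGL_injective
  rw [map_mul, toGL_conjSL, toGL_conjSL, toGL_conjSL, map_mul]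
  group

theorem general (hperf : commutator (SpecialLinearGroup (Fin n) F) = ⊤)
    (hsimp : IsSimpleGroup (SpecialLinearGroup (Fin n) F ⧸
      Subgroup.center (SpecialLinearGroup (Fin n) F)))
    (G : Subgroup (GL (Fin n) F))
    (hG : ∀ s : SpecialLinearGroup (Fin n) F, ∀ g ∈ G,
      (SpecialLinearGroup.toGL s) * g * (SpecialLinearGroup.toGL s)⁻¹ ∈ G) :
    (∀ g ∈ G, ∃ c : F, (g : Matrix (Fin n) (Fin n) F) = c • (1 : Matrix (Fin n) (Fin n) F)) ∨
    (SpecialLinearGroup.toGL : SpecialLinearGroup (Fin n) F →* _).range ≤ G := by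
  classical
  set N : Subgroup (SpecialLinearGroup (Fin n) F) := G.comap SpecialLinearGroup.toGL with hN
  have hNn : N.Normal := by
    refine ⟨fun x hx s => ?_⟩
    rw [hN, Subgroup.mem_comap] at hx ⊢
    rw [map_mul, map_mul, map_inv]
    exact hG s _ hx
  have hmapn : (N.map (QuotientGroup.mk' (Subgroup.center (SpecialLinearGroup (Fin n) F)))).Normal :=
    Subgroup.Normal.map hNn _ (QuotientGroup.mk'_surjective _)
  rcases hmapn.eq_bot_or_eq_top with hbot | htop
  · -- N is central
    left
    have hNZ : N ≤ Subgroup.center (SpecialLinearGroup (Fin n) F) := by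
      have := (Subgroup.map_eq_bot_iff _).mp hbot
      rwa [QuotientGroup.ker_mk'] at this
    intro g hg
    -- the map s ↦ g s g⁻¹ s⁻¹
    have hzmem : ∀ s, conjSL g s * s⁻¹ ∈ Subgroup.center (SpecialLinearGroup (Fin n) F) := by
      intro s
      apply hNZ
      rw [hN, Subgroup.mem_comap, map_mul, toGL_conjSL, map_inv]
      have h1 := hG s g⁻¹ (G.inv_mem hg)
      have h2 := G.mul_mem hg h1
      convert h2 using 1
      group
    let z : SpecialLinearGroup (Fin n) F →* Subgroup.center (SpecialLinearGroup (Fin n) F) :=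
      { toFun := fun s => ⟨conjSL g s * s⁻¹, hzmem s⟩
        map_one' := by
          apply Subtype.ext
          apply SpecialLinearGroup.toGL_injective
          change SpecialLinearGroup.toGL (conjSL g 1 * 1⁻¹) = SpecialLinearGroup.toGL 1
          rw [map_mul, toGL_conjSL, map_inv, map_one]
          group
        map_mul' := by
          intro s t
          apply Subtype.ext
          change conjSL g (s * t) * (s * t)⁻¹ = (conjSL g s * s⁻¹) * (conjSL g t * t⁻¹)
          have hc := Subgroup.mem_center_iff.mp (hzmem t)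
          rw [conjSL_mul, _root_.mul_inv_rev]
          calc conjSL g s * conjSL g t * (t⁻¹ * s⁻¹)
              = conjSL g s * (conjSL g t * t⁻¹) * s⁻¹ := by group
            _ = conjSL g s * (s⁻¹ * (conjSL g t * t⁻¹)) := by
                rw [mul_assoc, hc s⁻¹]
            _ = (conjSL g s * s⁻¹) * (conjSL g t * t⁻¹) := by group }
    have hker : ∀ s, z s = 1 := by
      intro s
      have h1 : commutator (SpecialLinearGroup (Fin n) F) ≤ z.ker := by
        rw [commutator_eq_closure, Subgroup.closure_le]
        rintro x ⟨a, b, rfl⟩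
        rw [SetLike.mem_coe, MonoidHom.mem_ker, map_commutatorElement,
          commutatorElement_eq_one_iff_commute]
        apply Subtype.ext
        have := Subgroup.mem_center_iff.mp (z b).2 (z a).1
        exact this
      rw [hperf] at h1
      exact h1 (Subgroup.mem_top s)
    have hcomm : ∀ s : SpecialLinearGroup (Fin n) F,
        (g : Matrix (Fin n) (Fin n) F) * (s : Matrix (Fin n) (Fin n) F) =
          (s : Matrix (Fin n) (Fin n) F) * (g : Matrix (Fin n) (Fin n) F) := by
      intro s
      have h1 : conjSL g s * s⁻¹ = 1 := congrArg Subtype.val (hker s)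
      have h2 : conjSL g s = s := by
        rw [mul_inv_eq_one] at h1; exact h1
      have h3 := congrArg SpecialLinearGroup.toGL h2
      rw [toGL_conjSL, mul_inv_eq_iff_eq_mul] at h3
      have h4 := congrArg (fun x : GL (Fin n) F => (x : Matrix (Fin n) (Fin n) F)) h3
      exact h4
    have hsc := Matrix.mem_range_scalar_of_commute_transvectionStruct
      (M := (g : Matrix (Fin n) (Fin n) F)) (fun t => by
        have := hcomm ⟨t.toMatrix, TransvectionStruct.det _⟩
        exact this.symm)
    obtain ⟨c, hc⟩ := hsc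
    refine ⟨c, ?_⟩
    rw [← hc, Matrix.scalar_apply, Matrix.smul_one_eq_diagonal]
  · -- N Z = SL
    right
    have hcomm : Std.Commutative (· * · : SpecialLinearGroup (Fin n) F ⧸ N →
        SpecialLinearGroup (Fin n) F ⧸ N → SpecialLinearGroup (Fin n) F ⧸ N) := by
      refine ⟨fun x y => ?_⟩
      obtain ⟨a, rfl⟩ := QuotientGroup.mk_surjective x
      obtain ⟨b, rfl⟩ := QuotientGroup.mk_surjective y
      have ha : (QuotientGroup.mk' (Subgroup.center (SpecialLinearGroup (Fin n) F)) a) ∈
          N.map (QuotientGroup.mk' (Subgroup.center (SpecialLinearGroup (Fin n) F))) := by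
        rw [htop]; exact Subgroup.mem_top _
      obtain ⟨m, hm, hma⟩ := ha
      have hz : m⁻¹ * a ∈ Subgroup.center (SpecialLinearGroup (Fin n) F) := by
        have := QuotientGroup.eq.mp hma
        exact this
      have hz' := Subgroup.mem_center_iff.mp hz
      have h1 : (QuotientGroup.mk a : SpecialLinearGroup (Fin n) F ⧸ N) =
          QuotientGroup.mk (m⁻¹ * a) := by
        rw [QuotientGroup.eq]
        have : a⁻¹ * (m⁻¹ * a) = a⁻¹ * m⁻¹ * a⁻¹⁻¹ := by group
        rw [this]
        exact hNn.conj_mem _ (N.inv_mem hm) _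
      rw [h1, ← QuotientGroup.mk_mul, ← QuotientGroup.mk_mul, hz' b]
    have hle := (Subgroup.Normal.quotient_commutative_iff_commutator_le (N := N)).mp ⟨hcomm⟩
    rw [hperf] at hle
    rintro _ ⟨s, rfl⟩
    exact hle (Subgroup.mem_top s)

theorem field_cond [Finite F] (hF : 4 ≤ Nat.card F) : ∃ a : F, a ≠ 0 ∧ a ^ 2 ≠ 1 := by
  obtain ⟨x, hx⟩ : IsCyclic Fˣ := by infer_instance
  refine ⟨x, Units.ne_zero x, fun h => ?_⟩
  have h1 : Nat.card F = Nat.card Fˣ + 1 := Nat.card_eq_card_units_add_one F
  have h2 : orderOf x = Nat.card Fˣ := orderOf_eq_card_of_forall_mem_zpowers hx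
  have h3 : orderOf x ≤ 2 := orderOf_le_of_pow_eq_one zero_lt_two (Units.ext <| by simpa using h)
  omega

end aux

/-- Let F be a finite field and n ≥ 1, excluding the case n = 2 with #F ≤ 3. A subgroup of GL_n(F) that is normalized by every element of SL_n(F) either consists of scalar matrices or contains SL_n(F). -/
theorem result {F : Type*} [Field F] [Fintype F] (n : ℕ) (hn : 1 ≤ n) (hex : ¬ (n = 2 ∧ Fintype.card F ≤ 3)) (G : Subgroup (Matrix.GeneralLinearGroup (Fin n) F)) (hG : ∀ s : Matrix.SpecialLinearGroup (Fin n) F, ∀ g ∈ G, (Matrix.SpecialLinearGroup.toGL s) * g * (Matrix.SpecialLinearGroup.toGL s)⁻¹ ∈ G) : (∀ g ∈ G, ∃ c : F, (g : Matrix (Fin n) (Fin n) F) = c • (1 : Matrix (Fin n) (Fin n) F)) ∨ (Matrix.SpecialLinearGroup.toGL : Matrix.SpecialLinearGroup (Fin n) F →* _).range ≤ G := by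
  rcases Nat.lt_or_ge n 3 with h3 | h3
  · rcases Nat.lt_or_ge n 2 with h2 | h2
    · -- n = 1
      have h1 : n = 1 := by omega
      subst h1
      left
      intro g _
      refine ⟨(g : Matrix (Fin 1) (Fin 1) F) 0 0, ?_⟩
      ext i j
      fin_cases i
      fin_cases j
      simp
    · have h2' : n = 2 := by omega
      subst h2'
      have hcard : 4 ≤ Nat.card F := by
        rw [Nat.card_eq_fintype_card]
        by_contra hlt
        exact hex ⟨rfl, by omega⟩
      obtain ⟨a, ha, hasq⟩ := field_cond hcard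
      exact general (SL2.commutator_eq_top ha hasq)
        (Matrix.ProjectiveSpecialLinearGroup.rank_two_simple hcard) G hG
  · exact general (Cfsg.Agent.S0248.result n h3) (Cfsg.Agent.S0249.result n h3) G hG

end Cfsg.Agent.S2540
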