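import Cfsg.Statements.S2541

set_option autoImplicit false
open scoped Pointwise
open Cfsg

namespace Cfsg.Agent.S2541

open Matrix

theorem no_order_eight (σ : Equiv.Perm (Fin 6)) : orderOf σ ≠ 8 := by
  intro h
  have h1 := σ.lcm_cycleType
  have h2 := σ.sum_cycleType_le
  rw [h] at h1
  have hmem : 8 ∈ σ.cycleType := by
    by_contra hnot
    have : σ.cycleType.lcm ∣ 4 := by
      rw [Multiset.lcm_dvd]
      intro b hb
      have hb8 : b ∣ 2 ^ 3 := by
        have := Multiset.dvd_lcm hb
        rw [h1] at this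
        exact this
      rw [Nat.dvd_prime_pow Nat.prime_two] at hb8
      obtain ⟨k, hk, rfl⟩ := hb8
      interval_cases k
      · norm_num
      · norm_num
      · norm_num
      · exact absurd hb hnot
    rw [h1] at this
    omega
  have h3 : 8 ≤ σ.cycleType.sum := Multiset.le_sum_of_mem hmem
  simp at h2
  omega

/-- the element diag(a, 1) of GL₂. -/
def dg {F : Type*} [Field F] (a : Fˣ) : GL (Fin 2) F :=
  ⟨Matrix.diagonal ![(a : F), 1], Matrix.diagonal ![((a⁻¹ : Fˣ) : F), 1], by
    rw [Matrix.diagonal_mul_diagonal, ← Matrix.diagonal_one]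
    congr 1
    funext i
    fin_cases i <;> simp, by
    rw [Matrix.diagonal_mul_diagonal, ← Matrix.diagonal_one]
    congr 1
    funext i
    fin_cases i <;> simp⟩

theorem dg_pow {F : Type*} [Field F] (a : Fˣ) (k : ℕ) :
    ((dg a ^ k : GL (Fin 2) F) : Matrix (Fin 2) (Fin 2) F) = Matrix.diagonal ![(a : F) ^ k, 1] := by
  rw [Units.val_pow_eq_pow_val]
  show (Matrix.diagonal ![(a : F), 1]) ^ k = _
  rw [Matrix.diagonal_pow]
  congr 1
  funext i
  fin_cases i <;> simp

/-- Let F be a field with 9 elements. The symmetric group S_6 is not isomorphic to PGL_2(F). -/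
theorem result {F : Type*} [Field F] [Fintype F] (hF : Fintype.card F = 9) : ¬ Nonempty (Equiv.Perm (Fin 6) ≃* Matrix.ProjGenLinGroup (Fin 2) F) := by
  classical
  rintro ⟨e⟩
  obtain ⟨a, ha⟩ := IsCyclic.exists_generator (α := Fˣ)
  have hord : orderOf a = 8 := by
    rw [orderOf_eq_card_of_forall_mem_zpowers ha, Nat.card_eq_fintype_card, Fintype.card_units, hF]
  have ha8 : a ^ 8 = 1 := by rw [← hord]; exact pow_orderOf_eq_one a
  have ha4 : a ^ 4 ≠ 1 := by
    intro h
    have := orderOf_dvd_of_pow_eq_one h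
    rw [hord] at this
    omega
  set x : Matrix.ProjGenLinGroup (Fin 2) F := Matrix.ProjGenLinGroup.mk (dg a) with hx
  have hx8 : x ^ (2 ^ (2 + 1)) = 1 := by
    rw [hx, ← map_pow, Matrix.ProjGenLinGroup.mk_eq_one]
    have : dg a ^ (2 ^ (2 + 1)) = 1 := by
      apply Units.ext
      rw [dg_pow]
      have h8 : ((a : F)) ^ (2 ^ (2 + 1)) = 1 := by
        have := congrArg (fun u : Fˣ => (u : F)) ha8
        simpa using this
      rw [h8, Units.val_one, ← Matrix.diagonal_one]
      congr 1
      funext i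
      fin_cases i <;> simp
    rw [this]
    exact Subgroup.one_mem _
  have hx4 : ¬ x ^ (2 ^ 2) = 1 := by
    rw [hx, ← map_pow, Matrix.ProjGenLinGroup.mk_eq_one,
      Matrix.GeneralLinearGroup.mem_center_iff_val_mem_range_scalar]
    rintro ⟨c, hc⟩
    rw [dg_pow, Matrix.scalar_apply] at hc
    have h0 := congrFun (congrFun hc 0) 0
    have h1 := congrFun (congrFun hc 1) 1
    simp at h0 h1
    apply ha4
    apply Units.ext
    rw [Units.val_pow_eq_pow_val, Units.val_one]
    have : (a : F) ^ 4 = 1 := by rw [← h0, h1]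
    simpa using this
  have : Fact (Nat.Prime 2) := ⟨Nat.prime_two⟩
  have hox : orderOf x = 2 ^ (2 + 1) := orderOf_eq_prime_pow hx4 hx8
  have := e.symm.orderOf_eq x
  rw [hox] at this
  exact no_order_eight (e.symm x) (by rw [this]; norm_num)

end Cfsg.Agent.S2541
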