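import Cfsg.Statements.S2542
import Cfsg.Agent.Lib_helper11_A5inPSL2
import Cfsg.Agent.Lib_helper11_TwoTrans
import Cfsg.Agent.Lib_helper12_Card
import Cfsg.Agent.Lib_helper2_Classical

set_option autoImplicit false
open Cfsg

namespace Cfsg.Agent.S2542

open Matrix

/-- the element of order `3` -/
def xE {F : Type*} [Field F] (h11 : (11 : F) = 0) : SpecialLinearGroup (Fin 2) F :=
  ⟨!![7, 1; 9, 3], by rw [det_fin_two_of]; linear_combination h11⟩

/-- the element of order `5` -/
def yE {F : Type*} [Field F] (h11 : (11 : F) = 0) : SpecialLinearGroup (Fin 2) F :=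
  ⟨!![3, 0; 0, 4], by rw [det_fin_two_of]; linear_combination h11⟩

theorem coe_xE {F : Type*} [Field F] (h11 : (11 : F) = 0) :
    ((xE h11 : SpecialLinearGroup (Fin 2) F) : Matrix (Fin 2) (Fin 2) F) = !![7, 1; 9, 3] := rfl

theorem coe_yE {F : Type*} [Field F] (h11 : (11 : F) = 0) :
    ((yE h11 : SpecialLinearGroup (Fin 2) F) : Matrix (Fin 2) (Fin 2) F) = !![3, 0; 0, 4] := rfl

theorem xE_pow {F : Type*} [Field F] (h11 : (11 : F) = 0) : xE h11 ^ 3 = 1 := by
  apply Cfsg.Agent.helper11.A5inPSL2.sl_ext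
  rw [Matrix.SpecialLinearGroup.coe_pow, coe_xE, Matrix.SpecialLinearGroup.coe_one]
  ext i j
  fin_cases i <;> fin_cases j <;> simp [pow_succ, Matrix.mul_apply, Fin.sum_univ_two]
  · linear_combination (45 : F) * h11
  · linear_combination (8 : F) * h11
  · linear_combination (72 : F) * h11
  · linear_combination (13 : F) * h11

theorem yE_pow {F : Type*} [Field F] (h11 : (11 : F) = 0) : yE h11 ^ 5 = 1 := by
  apply Cfsg.Agent.helper11.A5inPSL2.sl_ext
  rw [Matrix.SpecialLinearGroup.coe_pow, coe_yE, Matrix.SpecialLinearGroup.coe_one]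
  ext i j
  fin_cases i <;> fin_cases j <;> simp [pow_succ, Matrix.mul_apply, Fin.sum_univ_two]
  · linear_combination (22 : F) * h11
  · linear_combination (93 : F) * h11

theorem xyE_sq {F : Type*} [Field F] (h11 : (11 : F) = 0) :
    ((xE h11 * yE h11 : SpecialLinearGroup (Fin 2) F) ^ 2 : SpecialLinearGroup (Fin 2) F) = -1 := by
  apply Cfsg.Agent.helper11.A5inPSL2.sl_ext
  rw [Matrix.SpecialLinearGroup.coe_pow, Matrix.SpecialLinearGroup.coe_mul, coe_xE, coe_yE,
    Matrix.SpecialLinearGroup.coe_neg, Matrix.SpecialLinearGroup.coe_one]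
  ext i j
  fin_cases i <;> fin_cases j <;> simp [pow_succ, Matrix.mul_apply, Fin.sum_univ_two]
  · linear_combination (50 : F) * h11
  · linear_combination (12 : F) * h11
  · linear_combination (81 : F) * h11
  · linear_combination (23 : F) * h11

theorem xE_not_mem_center {F : Type*} [Field F] (h11 : (11 : F) = 0) :
    xE h11 ∉ Subgroup.center (SpecialLinearGroup (Fin 2) F) := by
  rw [Matrix.SpecialLinearGroup.mem_center_iff]
  rintro ⟨r, -, hr⟩
  have := congrFun (congrFun hr 0) 1
  rw [coe_xE] at this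
  simp [Matrix.scalar_apply] at this

/-- Let F be a field with 11 elements. PSL_2(F) has a subgroup H of index 11 isomorphic to the alternating group A_5, and the action of PSL_2(F) on the cosets of H is 2-transitive (of degree 11). -/
theorem result {F : Type*} [Field F] [Fintype F] (hF : Fintype.card F = 11) : ∃ H : Subgroup (Matrix.ProjectiveSpecialLinearGroup (Fin 2) F), H.index = 11 ∧ Nonempty (H ≃* alternatingGroup (Fin 5)) ∧ MulAction.IsMultiplyPretransitive (Matrix.ProjectiveSpecialLinearGroup (Fin 2) F) ((Matrix.ProjectiveSpecialLinearGroup (Fin 2) F) ⧸ H) 2 := by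
  classical
  have h11 : (11 : F) = 0 := by
    have := Nat.cast_card_eq_zero F
    rw [hF] at this
    exact_mod_cast this
  obtain ⟨ψ, hψ⟩ := Cfsg.Agent.helper11.A5inPSL2.exists_injective_of_triple (xE h11) (yE h11)
    (xE_pow h11) (yE_pow h11) (xyE_sq h11) (xE_not_mem_center h11)
  have hcardA5 : Nat.card (alternatingGroup (Fin 5)) = 60 := by
    rw [nat_card_alternatingGroup, Nat.card_eq_fintype_card, Fintype.card_fin]
    rfl
  have hcardP : Nat.card (Matrix.ProjectiveSpecialLinearGroup (Fin 2) F) = 660 := by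
    have h1 := Cfsg.Agent.helper2.card_SL_eq_card_PSL_mul (F := F) 2
    rw [Cfsg.Agent.helper12.card_SL2, Cfsg.Agent.helper2.card_center_SL 2 (by norm_num), hF] at h1
    have : Nat.gcd (11 - 1) 2 = 2 := by decide
    rw [this] at h1
    omega
  haveI : Finite (Matrix.ProjectiveSpecialLinearGroup (Fin 2) F) :=
    Nat.finite_of_card_ne_zero (by rw [hcardP]; norm_num)
  haveI : IsSimpleGroup (Matrix.ProjectiveSpecialLinearGroup (Fin 2) F) :=
    Matrix.ProjectiveSpecialLinearGroup.rank_two_simple
      (by rw [Nat.card_eq_fintype_card, hF]; norm_num)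
  have hHcard : Nat.card ψ.range = 60 := by
    rw [← hcardA5]
    exact (Nat.card_congr (MonoidHom.ofInjective hψ).toEquiv).symm
  have hindex : ψ.range.index = 11 := by
    have := Subgroup.card_mul_index ψ.range
    rw [hHcard, hcardP] at this
    omega
  have hne : ψ.range ≠ ⊤ := by
    intro h
    rw [h, Subgroup.index_top] at hindex
    omega
  haveI : IsSimpleGroup (alternatingGroup (Fin 5)) := alternatingGroup.isSimpleGroup (by simp)
  have hHs : IsSimpleGroup ψ.range := (MonoidHom.ofInjective hψ).symm.isSimpleGroup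
  obtain ⟨t, ht, htH⟩ := Cfsg.Agent.helper11.TT.exists_involution_not_mem ψ.range hne
    (by rw [hcardP]; norm_num)
  exact ⟨ψ.range, hindex, ⟨(MonoidHom.ofInjective hψ).symm⟩,
    Cfsg.Agent.helper11.TT.two_pretransitive_of ψ.range hHcard hHs hindex t ht htH⟩

end Cfsg.Agent.S2542
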