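import Cfsg.Statements.S2543
import Cfsg.Agent.Lib_helper11_L11B
import Cfsg.Agent.Lib_helper11_L11C
import Cfsg.Agent.Lib_helper12_Card
import Cfsg.Agent.Lib_helper2_Classical

set_option autoImplicit false
open scoped Pointwise
open Cfsg

namespace Cfsg.Agent.S2543

/-- Let F be a field with 11 elements. PSL_2(F) has exactly 22 subgroups isomorphic to the alternating group A_5, and they form two conjugacy classes: there are two such subgroups that are not conjugate, and every such subgroup is conjugate to one of these two. -/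
theorem result {F : Type*} [Field F] [Fintype F] (hF : Fintype.card F = 11) : Nat.card {H : Subgroup (Matrix.ProjectiveSpecialLinearGroup (Fin 2) F) // Nonempty (H ≃* alternatingGroup (Fin 5))} = 22 ∧ ∃ H K : Subgroup (Matrix.ProjectiveSpecialLinearGroup (Fin 2) F), Nonempty (H ≃* alternatingGroup (Fin 5)) ∧ Nonempty (K ≃* alternatingGroup (Fin 5)) ∧ (∀ g : Matrix.ProjectiveSpecialLinearGroup (Fin 2) F, MulAut.conj g • H ≠ K) ∧ ∀ L : Subgroup (Matrix.ProjectiveSpecialLinearGroup (Fin 2) F), Nonempty (L ≃* alternatingGroup (Fin 5)) → ∃ g : Matrix.ProjectiveSpecialLinearGroup (Fin 2) F, MulAut.conj g • L = H ∨ MulAut.conj g • L = K := by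
  classical
  have h11 : (11 : F) = 0 := by
    have := Nat.cast_card_eq_zero F
    rw [hF] at this
    exact_mod_cast this
  have hcardP : Nat.card (Matrix.ProjectiveSpecialLinearGroup (Fin 2) F) = 660 := by
    have h1 := Cfsg.Agent.helper2.card_SL_eq_card_PSL_mul (F := F) 2
    rw [Cfsg.Agent.helper12.card_SL2, Cfsg.Agent.helper2.card_center_SL 2 (by norm_num), hF] at h1
    have : Nat.gcd (11 - 1) 2 = 2 := by decide
    rw [this] at h1
    omega
  have : Finite (Matrix.ProjectiveSpecialLinearGroup (Fin 2) F) :=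
    Nat.finite_of_card_ne_zero (by rw [hcardP]; norm_num)
  have : IsSimpleGroup (Matrix.ProjectiveSpecialLinearGroup (Fin 2) F) :=
    Matrix.ProjectiveSpecialLinearGroup.rank_two_simple
      (by rw [Nat.card_eq_fintype_card, hF]; norm_num)
  have hN : Nat.card (Cfsg.Agent.helper11.L11.SSg
      (Matrix.ProjectiveSpecialLinearGroup (Fin 2) F)) = 2640 :=
    (Cfsg.Agent.helper11.L11.card_SS_eq h11).trans (Cfsg.Agent.helper11.L11.card_MS hF)
  have h22 : Nat.card {H : Subgroup (Matrix.ProjectiveSpecialLinearGroup (Fin 2) F) //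
      Nonempty (H ≃* alternatingGroup (Fin 5))} = 22 := by
    have := Cfsg.Agent.helper11.L11.card_subA5_mul
      (G := Matrix.ProjectiveSpecialLinearGroup (Fin 2) F)
    rw [hN] at this
    omega
  refine ⟨h22, ?_⟩
  refine Cfsg.Agent.helper11.L11.two_classes hcardP
    (fun H => Nonempty (H ≃* alternatingGroup (Fin 5))) ?_ ?_ h22
  · rintro H ⟨ι⟩
    rw [← Cfsg.Agent.helper11.L11.card_A5]
    exact Nat.card_congr ι.toEquiv
  · rintro H g ⟨ι⟩
    exact ⟨(Subgroup.equivSMul (MulAut.conj g) H).symm.trans ι⟩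

end Cfsg.Agent.S2543
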