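import Cfsg.Statements.S2550
import Cfsg.Agent.Lib_helper11_L34
import Cfsg.Agent.S0243
import Cfsg.Agent.S0256

set_option autoImplicit false
open Cfsg

namespace Cfsg.Agent.S2550

/-- an element of order 15 in `A₈` -/
def sigma : Equiv.Perm (Fin 8) :=
  (Equiv.swap 0 1 * Equiv.swap 1 2) * (Equiv.swap 3 4 * Equiv.swap 4 5 * Equiv.swap 5 6 * Equiv.swap 6 7)

theorem sigma_mem : sigma ∈ alternatingGroup (Fin 8) := by
  rw [Equiv.Perm.mem_alternatingGroup]; decide

set_option maxRecDepth 100000 in
theorem sigma_pow15 : sigma ^ 15 = 1 := by decide +kernel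

set_option maxRecDepth 100000 in
theorem sigma_pow5 : sigma ^ 5 ≠ 1 := by decide +kernel

set_option maxRecDepth 100000 in
theorem sigma_pow3 : sigma ^ 3 ≠ 1 := by decide +kernel

theorem orderOf_sigma : orderOf sigma = 15 := by
  have h15 : sigma ^ 15 = 1 := sigma_pow15
  have h5 : sigma ^ 5 ≠ 1 := sigma_pow5
  have h3 : sigma ^ 3 ≠ 1 := sigma_pow3
  refine orderOf_eq_of_pow_and_pow_div_prime (by norm_num) h15 ?_
  intro p hp hpd
  have : p = 3 ∨ p = 5 := by
    have hp15 : p ∣ 3 * 5 := by simpa using hpd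
    rcases (Nat.Prime.dvd_mul hp).mp hp15 with h | h
    · left; exact (Nat.prime_dvd_prime_iff_eq hp (by norm_num)).mp h
    · right; exact (Nat.prime_dvd_prime_iff_eq hp (by norm_num)).mp h
  rcases this with rfl | rfl
  · simpa using h5
  · simpa using h3

/-- Let F be a field with 2 elements and K a field with 4 elements. PSL_4(F) and PSL_3(K) have the same order (20160) but are not isomorphic. -/
theorem result {F K : Type*} [Field F] [Fintype F] [Field K] [Fintype K] (hF : Fintype.card F = 2) (hK : Fintype.card K = 4) : Nat.card (Matrix.ProjectiveSpecialLinearGroup (Fin 4) F) = Nat.card (Matrix.ProjectiveSpecialLinearGroup (Fin 3) K) ∧ ¬ Nonempty (Matrix.ProjectiveSpecialLinearGroup (Fin 4) F ≃* Matrix.ProjectiveSpecialLinearGroup (Fin 3) K) := by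
  constructor
  · have h1 := Cfsg.Agent.S0243.result hF 4 (by norm_num)
    have h2 := Cfsg.Agent.S0243.result hK 3 (by norm_num)
    simp [Fin.prod_univ_succ] at h1 h2
    omega
  · rintro ⟨e⟩
    obtain ⟨f⟩ := Cfsg.Agent.S0256.result hF
    have h1 : orderOf (e (f.symm ⟨sigma, sigma_mem⟩)) = 15 := by
      rw [MulEquiv.orderOf_eq, MulEquiv.orderOf_eq, Subgroup.orderOf_mk, orderOf_sigma]
    exact Cfsg.Agent.helper11.L34.no_order_15 hK _ h1

end Cfsg.Agent.S2550
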