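import Cfsg.Statements.S2552

set_option autoImplicit false
open scoped Pointwise
open Cfsg

namespace Cfsg.Agent.S2552

open Matrix

theorem exists_equiv {F V : Type*} [Field F] [AddCommGroup V] [Module F V] [FiniteDimensional F V]
    (U₁ U₂ : Submodule F V) (h : Module.finrank F U₁ = Module.finrank F U₂) :
    ∃ E : V ≃ₗ[F] V, ∀ u ∈ U₁, E u ∈ U₂ := by
  obtain ⟨W₁, hW₁⟩ := U₁.exists_isCompl
  obtain ⟨W₂, hW₂⟩ := U₂.exists_isCompl
  have hW : Module.finrank F W₁ = Module.finrank F W₂ := by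
    have h1 := Submodule.finrank_add_eq_of_isCompl hW₁
    have h2 := Submodule.finrank_add_eq_of_isCompl hW₂
    omega
  let eU : U₁ ≃ₗ[F] U₂ := LinearEquiv.ofFinrankEq _ _ h
  let eW : W₁ ≃ₗ[F] W₂ := LinearEquiv.ofFinrankEq _ _ hW
  refine ⟨(U₁.prodEquivOfIsCompl W₁ hW₁).symm ≪≫ₗ (eU.prodCongr eW) ≪≫ₗ (U₂.prodEquivOfIsCompl W₂ hW₂), ?_⟩
  intro u hu
  have : (U₁.prodEquivOfIsCompl W₁ hW₁).symm u = ((⟨u, hu⟩ : U₁), 0) :=
    Submodule.prodEquivOfIsCompl_symm_apply_left U₁ W₁ hW₁ ⟨u, hu⟩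
  simp only [LinearEquiv.trans_apply, this, LinearEquiv.prodCongr_apply, map_zero,
    Submodule.coe_prodEquivOfIsCompl', Submodule.coe_zero, add_zero]
  exact (eU ⟨u, hu⟩).2

theorem exists_dil {F : Type*} [Field F] {n : ℕ} (U : Submodule F (Fin n → F)) (hU : U ≠ ⊥) (c : F) :
    ∃ D : Matrix (Fin n) (Fin n) F, D.det = c ∧ ∀ u ∈ U, D *ᵥ u ∈ U := by
  obtain ⟨v, hvU, hv0⟩ := Submodule.exists_mem_ne_zero_of_ne_bot hU
  have : ∃ i, v i ≠ 0 := by
    by_contra hcon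
    exact hv0 (funext fun j => by_contra fun hj => hcon ⟨j, hj⟩)
  obtain ⟨i, hi⟩ := this
  refine ⟨1 + vecMulVec v (((c - 1) * (v i)⁻¹) • Pi.single i 1), ?_, ?_⟩
  · rw [Matrix.vecMulVec_eq (ι := Unit), det_one_add_replicateCol_mul_replicateRow]
    simp only [smul_dotProduct, single_dotProduct, one_mul, smul_eq_mul]
    field_simp
    ring
  · intro u hu
    rw [add_mulVec, one_mulVec, vecMulVec_mulVec, op_smul_eq_smul]
    exact U.add_mem hu (U.smul_mem _ hvU)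

/-- SL_n(F) is transitive on the k-dimensional subspaces of F^n. -/
theorem result {F : Type*} [Field F] [Fintype F] (n : ℕ) (hn : 1 ≤ n) (U₁ U₂ : Submodule F (Fin n → F)) (h : Module.finrank F U₁ = Module.finrank F U₂) : ∃ g : Matrix.SpecialLinearGroup (Fin n) F, U₁.map ((Matrix.SpecialLinearGroup.toLin' g : (Fin n → F) ≃ₗ[F] (Fin n → F)) : (Fin n → F) →ₗ[F] (Fin n → F)) = U₂ := by
  classical
  by_cases hU : U₁ = ⊥
  · have hU2 : U₂ = ⊥ := by
      rw [hU, finrank_bot] at h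
      exact Submodule.finrank_eq_zero.mp h.symm
    refine ⟨1, ?_⟩
    rw [hU, hU2, Submodule.map_bot]
  · obtain ⟨E, hE⟩ := exists_equiv U₁ U₂ h
    set M := LinearMap.toMatrix' (E : (Fin n → F) →ₗ[F] (Fin n → F)) with hM
    have hMdet : M.det ≠ 0 := by
      rw [hM, LinearMap.det_toMatrix']
      exact (LinearEquiv.isUnit_det' E).ne_zero
    obtain ⟨D, hDdet, hDU⟩ := exists_dil U₁ hU (M.det)⁻¹
    have hdet : (M * D).det = 1 := by
      rw [det_mul, hDdet, mul_inv_cancel₀ hMdet]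
    let g : Matrix.SpecialLinearGroup (Fin n) F := ⟨M * D, hdet⟩
    refine ⟨g, ?_⟩
    have hle : U₁.map ((Matrix.SpecialLinearGroup.toLin' g : (Fin n → F) ≃ₗ[F] (Fin n → F)) : (Fin n → F) →ₗ[F] (Fin n → F)) ≤ U₂ := by
      rintro _ ⟨u, hu, rfl⟩
      rw [LinearEquiv.coe_coe, SpecialLinearGroup.toLin'_apply, Matrix.toLin'_apply]
      show (M * D) *ᵥ u ∈ U₂
      rw [← mulVec_mulVec]
      have := hE _ (hDU u hu)
      rw [hM, ← Matrix.toLin'_apply, Matrix.toLin'_toMatrix']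
      exact this
    apply Submodule.eq_of_le_of_finrank_eq hle
    rw [LinearEquiv.finrank_map_eq, h]

end Cfsg.Agent.S2552
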