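import Mathlib
import Cfsg.Statements.S2556
import Cfsg.Agent.Lib_helper11_Sz45

set_option autoImplicit false
open Cfsg

namespace Cfsg.Agent.S2556

open Cfsg.Agent.helper11.Sz

set_option maxHeartbeats 1000000 in
/-- Let S be a Sylow 2-subgroup of the Suzuki group Sz(q), q = 2ⁿ with n = 2m + 1 ≥ 3 (realised as 4 × 4 matrices over the field with q elements). Then the largest normal 2-subgroup of the automorphism group of S is elementary abelian of order 2^(n²), and the automorphism group of S has order 2^(n²) · n · (q − 1). -/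
theorem result {S : Type*} [Group S] [Finite S] (m : ℕ) (hm : 1 ≤ m)
    {F : Type*} [Field F] [Fintype F] (hF : Fintype.card F = 2 ^ (2 * m + 1))
    (P : Sylow 2 ↥(Cfsg.Lie.Sz F (2 ^ (m + 1)))) (hS : Nonempty (S ≃* ↥(P : Subgroup ↥(Cfsg.Lie.Sz F (2 ^ (m + 1)))))) :
    Cfsg.IsElementaryAbelian 2 (Cfsg.pCore 2 (MulAut S)) ∧ Nat.card ↥(Cfsg.pCore 2 (MulAut S)) = 2 ^ ((2 * m + 1) ^ 2) ∧
      Nat.card (MulAut S) = 2 ^ ((2 * m + 1) ^ 2) * ((2 * m + 1) * (2 ^ (2 * m + 1) - 1)) := by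
  haveI := charP_two hF
  haveI : Fact (Nat.Prime 2) := ⟨Nat.prime_two⟩
  obtain ⟨e0⟩ := hS
  haveI : Finite (Cfsg.Lie.Sz F (2 ^ (m + 1))) := Finite.of_equiv _ (lieSzEquiv hm hF).toEquiv
  have hcard : Nat.card ((Qs hm hF).map (lieSzEquiv hm hF).toMonoidHom) =
      2 ^ (Nat.card (Cfsg.Lie.Sz F (2 ^ (m + 1)))).factorization 2 := by
    rw [← Nat.card_congr (lieSzEquiv hm hF).toEquiv, ← card_Qs_eq hm hF]
    exact (Nat.card_congr (Subgroup.equivMapOfInjective (Qs hm hF) (lieSzEquiv hm hF).toMonoidHom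
      (lieSzEquiv hm hF).injective).toEquiv).symm
  have e1 : ↥(P : Subgroup ↥(Cfsg.Lie.Sz F (2 ^ (m + 1)))) ≃*
      ↥((Qs hm hF).map (lieSzEquiv hm hF).toMonoidHom) :=
    Sylow.equiv P (Sylow.ofCard _ hcard)
  have e2 : ↥(Qs hm hF) ≃* ↥((Qs hm hF).map (lieSzEquiv hm hF).toMonoidHom) :=
    Subgroup.equivMapOfInjective (Qs hm hF) (lieSzEquiv hm hF).toMonoidHom
      (lieSzEquiv hm hF).injective
  obtain ⟨E⟩ : Nonempty (MulAut S ≃* MulAut (Qs hm hF)) :=
    ⟨MulAut.congr (e0.trans (e1.trans e2.symm))⟩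
  haveI : Finite (MulAut S) :=
    Finite.of_injective (fun φ : MulAut S => (φ : S → S)) DFunLike.coe_injective
  have hmemK : ∀ φ : MulAut S, φ ∈ (KQ hm hF).comap E.toMonoidHom ↔ E φ ∈ KQ hm hF :=
    fun φ => Iff.rfl
  have hK2 : IsPGroup 2 ((KQ hm hF).comap E.toMonoidHom) := by
    intro x
    refine ⟨1, Subtype.ext ?_⟩
    apply E.injective
    rw [pow_one, Subgroup.coe_pow, map_pow, Subgroup.coe_one, map_one]
    exact KQ_sq hm hF _ ((hmemK x.1).mp x.2)
  have hodd : Odd ((KQ hm hF).comap E.toMonoidHom).index := by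
    rw [Subgroup.index_comap_of_surjective _ E.surjective]
    exact KQ_index_odd hm hF
  have hpc := pCore_two_eq ((KQ hm hF).comap E.toMonoidHom) hK2 hodd
  rw [hpc]
  refine ⟨⟨⟨⟨fun a b => Subtype.ext ?_⟩⟩, fun a ha => ?_⟩, ?_, ?_⟩
  · apply E.injective
    rw [Subgroup.coe_mul, Subgroup.coe_mul, map_mul, map_mul]
    exact KQ_comm hm hF _ _ ((hmemK a.1).mp a.2) ((hmemK b.1).mp b.2)
  · apply E.injective
    rw [map_pow, map_one]
    exact KQ_sq hm hF _ ((hmemK a).mp ha)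
  · rw [← card_KQ hm hF]
    exact Nat.card_congr (E.toEquiv.subtypeEquiv (fun φ => Iff.rfl))
  · rw [Nat.card_congr E.toEquiv]
    exact card_aut_Q hm hF

end Cfsg.Agent.S2556
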