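import Cfsg.Statements.S2561
import Cfsg.Agent.Lib_helper13_F2

set_option autoImplicit false
open Cfsg

namespace Cfsg.Agent.S2561

open Module QuadraticMap Cfsg.Agent.helper13

/-- the ambient space. -/
abbrev V2 (m : ℕ) := Fin m ⊕ Fin m → ZMod 2

/-- the other ambient space. -/
abbrev W2 (m : ℕ) := (Fin (m - 1) ⊕ Fin (m - 1)) ⊕ Fin 2 → ZMod 2

/-- polarizes to the standard alternating form. -/
def HQ (m : ℕ) (q : V2 m → ZMod 2) : Prop :=
  ∀ u v : V2 m, q (u + v) = q u + q v + polar (Cfsg.quadFormPlus m (ZMod 2)) u v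

def IsPlus (m : ℕ) (q : V2 m → ZMod 2) : Prop :=
  ∃ g : V2 m ≃ₗ[ZMod 2] V2 m, ∀ v, q v = Cfsg.quadFormPlus m (ZMod 2) (g v)

def IsMinus (m : ℕ) (q : V2 m → ZMod 2) : Prop :=
  ∃ g : V2 m ≃ₗ[ZMod 2] W2 m, ∀ v, q v = Cfsg.quadFormMinus (m - 1) (ZMod 2) 1 1 (g v)

def Phi (m : ℕ) (w : V2 m) : V2 m → ZMod 2 :=
  fun v => Cfsg.quadFormPlus m (ZMod 2) v + polar (Cfsg.quadFormPlus m (ZMod 2)) v w

theorem hV (m : ℕ) : finrank (ZMod 2) (V2 m) = 2 * m := by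
  simp
  ring

theorem cardV (m : ℕ) : Nat.card (V2 m) = 2 ^ (2 * m) := by
  rw [Nat.card_eq_fintype_card, Module.card_eq_pow_finrank (K := ZMod 2) (V := V2 m), hV, ZMod.card]

theorem HQ' (m : ℕ) (q : V2 m → ZMod 2) (hq : HQ m q) :
    ∀ u v : V2 m, q (u + v) = q u + q v + polar (⇑(QPlus (ZMod 2) m)) u v := by
  rw [QPlus_coe]
  exact hq

theorem Phi_HQ (m : ℕ) (w : V2 m) : HQ m (Phi m w) := by
  intro u v
  unfold Phi
  rw [← QPlus_coe, QuadraticMap.map_add (⇑(QPlus (ZMod 2) m)) u v, polar_add_left]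
  ring

theorem Phi_inj (m : ℕ) : Function.Injective (Phi m) := by
  intro w w' h
  have h1 : ∀ v, polar (⇑(QPlus (ZMod 2) m)) v (w - w') = 0 := by
    intro v
    have := congrFun h v
    unfold Phi at this
    rw [← QPlus_coe] at this
    rw [polar_sub_right]
    have h2 := add_left_cancel this
    rw [h2, sub_self]
  have := (QPlus_nondeg (F := ZMod 2) m).2 (w - w') (fun v => by
    rw [polarBilin_apply_apply]; exact h1 v)
  exact sub_eq_zero.mp this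

theorem Phi_surj (m : ℕ) (q : V2 m → ZMod 2) (hq : HQ m q) : ∃ w, Phi m w = q := by
  have hq' := HQ' m q hq
  have hadd : ∀ u v : V2 m, (q (u + v) - QPlus (ZMod 2) m (u + v)) =
      (q u - QPlus (ZMod 2) m u) + (q v - QPlus (ZMod 2) m v) := by
    intro u v
    rw [hq' u v, QuadraticMap.map_add (⇑(QPlus (ZMod 2) m)) u v]
    ring
  let ℓ : V2 m →ₗ[ZMod 2] ZMod 2 :=
    (AddMonoidHom.mk' (fun v => q v - QPlus (ZMod 2) m v) hadd).toZModLinearMap 2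
  have hℓ : ∀ v, ℓ v = q v - QPlus (ZMod 2) m v := fun v => rfl
  refine ⟨(LinearMap.BilinForm.toDual (polarBilin (QPlus (ZMod 2) m)) (QPlus_nondeg m)).symm ℓ, ?_⟩
  funext v
  unfold Phi
  rw [← QPlus_coe, polar_comm]
  have := LinearMap.BilinForm.apply_toDual_symm_apply (B := polarBilin (QPlus (ZMod 2) m))
    (hB := QPlus_nondeg m) ℓ v
  rw [polarBilin_apply_apply] at this
  rw [this, hℓ]
  ring

theorem plus_count (m : ℕ) (q : V2 m → ZMod 2) (h : IsPlus m q) :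
    2 * zeros q = 2 ^ (2 * m) + 2 ^ m := by
  obtain ⟨g, hg⟩ := h
  rw [← two_zeros_plus m]
  congr 1
  exact zeros_congr g.toEquiv _ _ (fun v => (hg v).symm)

theorem minus_count (m : ℕ) (hm : 1 ≤ m) (q : V2 m → ZMod 2) (h : IsMinus m q) :
    2 * zeros q + 2 ^ m = 2 ^ (2 * m) := by
  obtain ⟨g, hg⟩ := h
  obtain ⟨k, rfl⟩ : ∃ k, m = k + 1 := ⟨m - 1, by omega⟩
  rw [← two_zeros_minus k]
  congr 2
  exact zeros_congr g.toEquiv _ _ (fun v => (hg v).symm)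

theorem not_both (m : ℕ) (hm : 1 ≤ m) (q : V2 m → ZMod 2) (h1 : IsPlus m q) (h2 : IsMinus m q) :
    False := by
  have := plus_count m q h1
  have := minus_count m hm q h2
  have : 0 < 2 ^ m := by positivity
  omega

theorem plus_or_minus (m : ℕ) (hm : 1 ≤ m) (q : V2 m → ZMod 2) (hq : HQ m q) :
    IsPlus m q ∨ IsMinus m q := by
  have hq' := HQ' m q hq
  have hQn : (polarBilin (f2Quad (QPlus (ZMod 2) m) q hq')).Nondegenerate :=
    f2Quad_nondeg _ _ _ (QPlus_nondeg m)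
  rcases two_zeros_cases hm (hV m) (f2Quad (QPlus (ZMod 2) m) q hq') hQn with ⟨h, _⟩ | ⟨h, _⟩
  · left
    exact h
  · right
    exact h

theorem Phi_plus_iff (m : ℕ) (hm : 1 ≤ m) (w : V2 m) :
    IsPlus m (Phi m w) ↔ Cfsg.quadFormPlus m (ZMod 2) w = 0 := by
  have key := shift_equiv_iff hm (hV m) (QPlus (ZMod 2) m) (QPlus_nondeg m) w
  simp only [QPlus_apply] at key
  rw [QPlus_coe] at key
  exact key

theorem Phi_minus_iff (m : ℕ) (hm : 1 ≤ m) (w : V2 m) :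
    IsMinus m (Phi m w) ↔ Cfsg.quadFormPlus m (ZMod 2) w ≠ 0 := by
  rw [ne_eq, ← Phi_plus_iff m hm w]
  constructor
  · intro h2 h1
    exact not_both m hm _ h1 h2
  · intro h1
    exact (plus_or_minus m hm _ (Phi_HQ m w)).resolve_left h1

theorem card_all (m : ℕ) : Nat.card {q : V2 m → ZMod 2 // HQ m q} = 2 ^ (2 * m) := by
  rw [← cardV m]
  symm
  apply Nat.card_eq_of_bijective (fun w => (⟨Phi m w, Phi_HQ m w⟩ : {q : V2 m → ZMod 2 // HQ m q}))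
  constructor
  · intro w w' h
    exact Phi_inj m (congrArg Subtype.val h)
  · rintro ⟨q, hq⟩
    obtain ⟨w, hw⟩ := Phi_surj m q hq
    exact ⟨w, Subtype.ext hw⟩

theorem card_plus (m : ℕ) (hm : 1 ≤ m) :
    Nat.card {q : V2 m → ZMod 2 // HQ m q ∧ IsPlus m q} = 2 ^ (2 * m - 1) + 2 ^ (m - 1) := by
  have h1 : Nat.card {w : V2 m // Cfsg.quadFormPlus m (ZMod 2) w = 0} =
      Nat.card {q : V2 m → ZMod 2 // HQ m q ∧ IsPlus m q} := by
    apply Nat.card_eq_of_bijective (fun w : {w : V2 m // Cfsg.quadFormPlus m (ZMod 2) w = 0} =>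
      (⟨Phi m w.1, Phi_HQ m w.1, (Phi_plus_iff m hm w.1).mpr w.2⟩ :
      {q : V2 m → ZMod 2 // HQ m q ∧ IsPlus m q}))
    constructor
    · intro w w' h
      exact Subtype.ext (Phi_inj m (congrArg Subtype.val h))
    · rintro ⟨q, hq, hp⟩
      obtain ⟨w, rfl⟩ := Phi_surj m q hq
      exact ⟨⟨w, (Phi_plus_iff m hm w).mp hp⟩, rfl⟩
  rw [← h1, ← zeros_eq_card (Cfsg.quadFormPlus m (ZMod 2))]
  have h2 := two_zeros_plus m
  obtain ⟨k, rfl⟩ : ∃ k, m = k + 1 := ⟨m - 1, by omega⟩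
  have e1 : (2 : ℕ) ^ (2 * (k + 1)) = 2 * 2 ^ (2 * (k + 1) - 1) := by
    rw [show 2 * (k + 1) - 1 = 2 * k + 1 by omega, show 2 * (k + 1) = 2 * k + 2 by ring]
    ring
  have e2 : (2 : ℕ) ^ (k + 1) = 2 * 2 ^ k := by rw [pow_succ]; ring
  rw [Nat.add_sub_cancel]
  omega

theorem card_minus (m : ℕ) (hm : 1 ≤ m) :
    Nat.card {q : V2 m → ZMod 2 // HQ m q ∧ IsMinus m q} = 2 ^ (2 * m - 1) - 2 ^ (m - 1) := by
  classical
  have h1 : Nat.card {w : V2 m // Cfsg.quadFormPlus m (ZMod 2) w ≠ 0} =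
      Nat.card {q : V2 m → ZMod 2 // HQ m q ∧ IsMinus m q} := by
    apply Nat.card_eq_of_bijective (fun w : {w : V2 m // Cfsg.quadFormPlus m (ZMod 2) w ≠ 0} =>
      (⟨Phi m w.1, Phi_HQ m w.1, (Phi_minus_iff m hm w.1).mpr w.2⟩ :
      {q : V2 m → ZMod 2 // HQ m q ∧ IsMinus m q}))
    constructor
    · intro w w' h
      exact Subtype.ext (Phi_inj m (congrArg Subtype.val h))
    · rintro ⟨q, hq, hp⟩
      obtain ⟨w, rfl⟩ := Phi_surj m q hq
      exact ⟨⟨w, (Phi_minus_iff m hm w).mp hp⟩, rfl⟩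
  rw [← h1]
  have h3 : Nat.card {w : V2 m // Cfsg.quadFormPlus m (ZMod 2) w ≠ 0} +
      Nat.card {w : V2 m // Cfsg.quadFormPlus m (ZMod 2) w = 0} = Nat.card (V2 m) := by
    rw [Nat.card_eq_fintype_card, Nat.card_eq_fintype_card, Nat.card_eq_fintype_card]
    have h4 := Fintype.card_subtype_compl (fun w : V2 m => Cfsg.quadFormPlus m (ZMod 2) w = 0)
    have h5 := Fintype.card_subtype_le (fun w : V2 m => Cfsg.quadFormPlus m (ZMod 2) w = 0)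
    simp only [ne_eq]
    omega
  rw [← zeros_eq_card (Cfsg.quadFormPlus m (ZMod 2)), cardV] at h3
  have h2 := two_zeros_plus m
  obtain ⟨k, rfl⟩ : ∃ k, m = k + 1 := ⟨m - 1, by omega⟩
  have e1 : (2 : ℕ) ^ (2 * (k + 1)) = 2 * 2 ^ (2 * (k + 1) - 1) := by
    rw [show 2 * (k + 1) - 1 = 2 * k + 1 by omega, show 2 * (k + 1) = 2 * k + 2 by ring]
    ring
  have e2 : (2 : ℕ) ^ (k + 1) = 2 * 2 ^ k := by rw [pow_succ]; ring
  rw [Nat.add_sub_cancel]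
  omega

/-- Fix the non-singular alternating form on the 2m-dimensional space over the field of two elements obtained by polarizing the plus-type form Σ xᵢyᵢ (m ≥ 1). The functions q on the space with q(u + v) = q(u) + q(v) + f(u, v) (the quadratic forms polarizing to f) number 2^(2m); each is equivalent under an invertible linear map either to the plus-type form or to the minus-type form Σ xᵢyᵢ + (z₁² + z₁z₂ + z₂²); and those of plus type number 2^(2m−1) + 2^(m−1), those of minus type 2^(2m−1) − 2^(m−1). -/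
theorem result (m : ℕ) (hm : 1 ≤ m) :
    Nat.card {q : (Fin m ⊕ Fin m → ZMod 2) → ZMod 2 // (∀ u v : (Fin m ⊕ Fin m → ZMod 2), q (u + v) = q u + q v + (Cfsg.quadFormPlus m (ZMod 2) (u + v) - Cfsg.quadFormPlus m (ZMod 2) u - Cfsg.quadFormPlus m (ZMod 2) v))} = 2 ^ (2 * m) ∧
    (∀ q : (Fin m ⊕ Fin m → ZMod 2) → ZMod 2, (∀ u v : (Fin m ⊕ Fin m → ZMod 2), q (u + v) = q u + q v + (Cfsg.quadFormPlus m (ZMod 2) (u + v) - Cfsg.quadFormPlus m (ZMod 2) u - Cfsg.quadFormPlus m (ZMod 2) v)) →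
      (∃ g : (Fin m ⊕ Fin m → ZMod 2) ≃ₗ[ZMod 2] (Fin m ⊕ Fin m → ZMod 2), ∀ v, q v = Cfsg.quadFormPlus m (ZMod 2) (g v)) ∨
      (∃ g : (Fin m ⊕ Fin m → ZMod 2) ≃ₗ[ZMod 2] ((Fin (m - 1) ⊕ Fin (m - 1)) ⊕ Fin 2 → ZMod 2), ∀ v, q v = Cfsg.quadFormMinus (m - 1) (ZMod 2) 1 1 (g v))) ∧
    Nat.card {q : (Fin m ⊕ Fin m → ZMod 2) → ZMod 2 // (∀ u v : (Fin m ⊕ Fin m → ZMod 2), q (u + v) = q u + q v + (Cfsg.quadFormPlus m (ZMod 2) (u + v) - Cfsg.quadFormPlus m (ZMod 2) u - Cfsg.quadFormPlus m (ZMod 2) v)) ∧ ∃ g : (Fin m ⊕ Fin m → ZMod 2) ≃ₗ[ZMod 2] (Fin m ⊕ Fin m → ZMod 2), ∀ v, q v = Cfsg.quadFormPlus m (ZMod 2) (g v)} = 2 ^ (2 * m - 1) + 2 ^ (m - 1) ∧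
    Nat.card {q : (Fin m ⊕ Fin m → ZMod 2) → ZMod 2 // (∀ u v : (Fin m ⊕ Fin m → ZMod 2), q (u + v) = q u + q v + (Cfsg.quadFormPlus m (ZMod 2) (u + v) - Cfsg.quadFormPlus m (ZMod 2) u - Cfsg.quadFormPlus m (ZMod 2) v)) ∧ ∃ g : (Fin m ⊕ Fin m → ZMod 2) ≃ₗ[ZMod 2] ((Fin (m - 1) ⊕ Fin (m - 1)) ⊕ Fin 2 → ZMod 2), ∀ v, q v = Cfsg.quadFormMinus (m - 1) (ZMod 2) 1 1 (g v)} = 2 ^ (2 * m - 1) - 2 ^ (m - 1) := by
  exact ⟨card_all m, fun q hq => plus_or_minus m hm q hq, card_plus m hm, card_minus m hm⟩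

end Cfsg.Agent.S2561
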