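import Cfsg.Statements.S2562
import Cfsg.Agent.Lib_helper13_F2b

set_option autoImplicit false
open Cfsg

namespace Cfsg.Agent.S2562

open Module QuadraticMap Cfsg.Agent.helper13

abbrev V2 (m : ℕ) := Fin m ⊕ Fin m → ZMod 2

abbrev W2 (m : ℕ) := (Fin (m - 1) ⊕ Fin (m - 1)) ⊕ Fin 2 → ZMod 2

theorem part1 (m : ℕ) : ∃ U : Submodule (ZMod 2) (V2 m),
    (∀ u ∈ U, Cfsg.quadFormPlus m (ZMod 2) u = 0) ∧ finrank (ZMod 2) U = m := by
  let f : V2 m →ₗ[ZMod 2] (Fin m → ZMod 2) := LinearMap.funLeft (ZMod 2) (ZMod 2) Sum.inr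
  have hsurj : Function.Surjective f :=
    LinearMap.funLeft_surjective_of_injective _ _ _ Sum.inr_injective
  refine ⟨LinearMap.ker f, ?_, ?_⟩
  · intro u hu
    have h0 : ∀ i, u (Sum.inr i) = 0 := fun i => congrFun (LinearMap.mem_ker.mp hu) i
    unfold Cfsg.quadFormPlus
    apply Finset.sum_eq_zero
    intro i _
    rw [h0, mul_zero]
  · have h1 := LinearMap.finrank_range_add_finrank_ker f
    rw [LinearMap.range_eq_top.mpr hsurj, finrank_top] at h1
    simp only [Module.finrank_fintype_fun_eq_card, Fintype.card_sum, Fintype.card_fin] at h1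
    omega

theorem part2 (m : ℕ) (U : Submodule (ZMod 2) (V2 m))
    (hU : ∀ u ∈ U, Cfsg.quadFormPlus m (ZMod 2) u = 0) : finrank (ZMod 2) U ≤ m := by
  have hQ := QPlus_nondeg (F := ZMod 2) m
  have hle : U ≤ LinearMap.BilinForm.orthogonal (polarBilin (QPlus (ZMod 2) m)) U := by
    intro v hv
    rw [LinearMap.BilinForm.mem_orthogonal_iff]
    intro n hn
    show polarBilin (QPlus (ZMod 2) m) n v = 0
    rw [polarBilin_apply_apply, QPlus_coe]
    unfold polar
    rw [hU _ (U.add_mem hn hv), hU n hn, hU v hv]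
    simp
  have h1 := Submodule.finrank_mono hle
  rw [LinearMap.BilinForm.finrank_orthogonal hQ] at h1
  have hfV : finrank (ZMod 2) (V2 m) = m + m := by
    simp only [Module.finrank_fintype_fun_eq_card, Fintype.card_sum, Fintype.card_fin]
  rw [hfV] at h1
  have h2 : finrank (ZMod 2) U ≤ m + m - finrank (ZMod 2) U := h1
  omega

/-- the coordinates killed on the singular subspace of the other form. -/
def jmap (k : ℕ) : Fin k ⊕ Fin 2 → (Fin k ⊕ Fin k) ⊕ Fin 2 :=
  Sum.elim (fun i => Sum.inl (Sum.inr i)) Sum.inr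

theorem jmap_inj (k : ℕ) : Function.Injective (jmap k) := by
  rintro (a | a) (b | b) h <;> simp [jmap] at h ⊢ <;> exact h

theorem part3 (m : ℕ) (hm : 1 ≤ m) : ∃ U : Submodule (ZMod 2) (W2 m),
    (∀ u ∈ U, Cfsg.quadFormMinus (m - 1) (ZMod 2) 1 1 u = 0) ∧ finrank (ZMod 2) U = m - 1 := by
  let f : W2 m →ₗ[ZMod 2] (Fin (m - 1) ⊕ Fin 2 → ZMod 2) :=
    LinearMap.funLeft (ZMod 2) (ZMod 2) (jmap (m - 1))
  have hsurj : Function.Surjective f :=
    LinearMap.funLeft_surjective_of_injective _ _ _ (jmap_inj (m - 1))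
  refine ⟨LinearMap.ker f, ?_, ?_⟩
  · intro u hu
    have h0 : ∀ i, u (Sum.inl (Sum.inr i)) = 0 := fun i =>
      congrFun (LinearMap.mem_ker.mp hu) (Sum.inl i)
    have h1 : ∀ i, u (Sum.inr i) = 0 := fun i =>
      congrFun (LinearMap.mem_ker.mp hu) (Sum.inr i)
    unfold Cfsg.quadFormMinus
    rw [h1 0, h1 1]
    have : ∑ i : Fin (m - 1), u (Sum.inl (Sum.inl i)) * u (Sum.inl (Sum.inr i)) = 0 := by
      apply Finset.sum_eq_zero
      intro i _
      rw [h0, mul_zero]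
    rw [this]
    ring
  · have h1 := LinearMap.finrank_range_add_finrank_ker f
    rw [LinearMap.range_eq_top.mpr hsurj, finrank_top] at h1
    simp only [Module.finrank_fintype_fun_eq_card, Fintype.card_sum, Fintype.card_fin] at h1
    omega

theorem part4 (m : ℕ) (hm : 1 ≤ m) (U : Submodule (ZMod 2) (W2 m))
    (hU : ∀ u ∈ U, Cfsg.quadFormMinus (m - 1) (ZMod 2) 1 1 u = 0) :
    finrank (ZMod 2) U ≤ m - 1 := by
  have hQ : (polarBilin (QMinus (ZMod 2) (m - 1) 1 1)).Nondegenerate :=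
    QMinus_nondeg (m - 1) 1 1 (by decide)
  have hU' : ∀ u ∈ U, QMinus (ZMod 2) (m - 1) 1 1 u = 0 := fun u hu => by
    rw [QMinus_apply]
    exact hU u hu
  have hw := witt_count (QMinus (ZMod 2) (m - 1) 1 1) U hU'
  rw [QMinus_coe] at hw
  have hz := two_zeros_minus (m - 1)
  have e : m - 1 + 1 = m := by omega
  rw [e] at hz
  have hfV : finrank (ZMod 2) (W2 m) = 2 * m := by
    simp only [Module.finrank_fintype_fun_eq_card, Fintype.card_sum, Fintype.card_fin]
    omega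
  have hcU : Nat.card U = 2 ^ finrank (ZMod 2) U := by
    rw [Module.natCard_eq_pow_finrank (K := ZMod 2), Nat.card_zmod]
  have hcO : Nat.card (LinearMap.BilinForm.orthogonal (polarBilin (QMinus (ZMod 2) (m - 1) 1 1)) U) =
      2 ^ (2 * m - finrank (ZMod 2) U) := by
    rw [Module.natCard_eq_pow_finrank (K := ZMod 2), LinearMap.BilinForm.finrank_orthogonal hQ, hfV,
      Nat.card_zmod]
  have hcV : Fintype.card (W2 m) = 2 ^ (2 * m) := by
    rw [Module.card_eq_pow_finrank (K := ZMod 2) (V := W2 m), hfV, ZMod.card]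
  rw [hcU, hcO, hcV] at hw
  by_contra hcon
  push Not at hcon
  have h5 : 2 ^ (2 * m - finrank (ZMod 2) U) ≤ 2 ^ m := Nat.pow_le_pow_right (by norm_num) (by omega)
  have h6 : 0 < 2 ^ finrank (ZMod 2) U := by positivity
  omega

/-- Witt indices over the field of two elements, m ≥ 1: for the plus-type form Σ xᵢyᵢ in dimension 2m some m-dimensional subspace is totally singular and no totally singular subspace has larger dimension; for the minus-type form Σ xᵢyᵢ + (z₁² + z₁z₂ + z₂²) in dimension 2m the maximal dimension of a totally singular subspace is m − 1. -/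
theorem result (m : ℕ) (hm : 1 ≤ m) :
    (∃ U : Submodule (ZMod 2) (Fin m ⊕ Fin m → ZMod 2), (∀ u ∈ U, Cfsg.quadFormPlus m (ZMod 2) u = 0) ∧ Module.finrank (ZMod 2) ↥U = m) ∧
    (∀ U : Submodule (ZMod 2) (Fin m ⊕ Fin m → ZMod 2), (∀ u ∈ U, Cfsg.quadFormPlus m (ZMod 2) u = 0) → Module.finrank (ZMod 2) ↥U ≤ m) ∧
    (∃ U : Submodule (ZMod 2) ((Fin (m - 1) ⊕ Fin (m - 1)) ⊕ Fin 2 → ZMod 2), (∀ u ∈ U, Cfsg.quadFormMinus (m - 1) (ZMod 2) 1 1 u = 0) ∧ Module.finrank (ZMod 2) ↥U = m - 1) ∧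
    (∀ U : Submodule (ZMod 2) ((Fin (m - 1) ⊕ Fin (m - 1)) ⊕ Fin 2 → ZMod 2), (∀ u ∈ U, Cfsg.quadFormMinus (m - 1) (ZMod 2) 1 1 u = 0) → Module.finrank (ZMod 2) ↥U ≤ m - 1) := by
  exact ⟨part1 m, part2 m, part3 m hm, part4 m hm⟩

end Cfsg.Agent.S2562
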