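import Cfsg.Statements.S2564
import Cfsg.Agent.Lib_helper13_F2

set_option autoImplicit false
open Cfsg

namespace Cfsg.Agent.S2564

open Module QuadraticMap Cfsg.Agent.helper13

/-- On the 2m-dimensional space over the field of two elements (m ≥ 1) let f be the alternating form obtained by polarizing the plus-type form Σ xᵢyᵢ, and let q be any quadratic form polarizing to f. For a vector w, the function q + f(·, w) again polarizes to f, and it is equivalent to q under an invertible linear map (that is, has the same type) if and only if q(w) = 0. -/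
theorem result (m : ℕ) (hm : 1 ≤ m) (q : (Fin m ⊕ Fin m → ZMod 2) → ZMod 2) (hq : (∀ u v : (Fin m ⊕ Fin m → ZMod 2), q (u + v) = q u + q v + (Cfsg.quadFormPlus m (ZMod 2) (u + v) - Cfsg.quadFormPlus m (ZMod 2) u - Cfsg.quadFormPlus m (ZMod 2) v))) (w : (Fin m ⊕ Fin m → ZMod 2)) :
    (∀ u v : (Fin m ⊕ Fin m → ZMod 2), (q (u + v) + (Cfsg.quadFormPlus m (ZMod 2) (u + v + w) - Cfsg.quadFormPlus m (ZMod 2) (u + v) - Cfsg.quadFormPlus m (ZMod 2) w)) =
        (q u + (Cfsg.quadFormPlus m (ZMod 2) (u + w) - Cfsg.quadFormPlus m (ZMod 2) u - Cfsg.quadFormPlus m (ZMod 2) w)) + (q v + (Cfsg.quadFormPlus m (ZMod 2) (v + w) - Cfsg.quadFormPlus m (ZMod 2) v - Cfsg.quadFormPlus m (ZMod 2) w)) +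
        (Cfsg.quadFormPlus m (ZMod 2) (u + v) - Cfsg.quadFormPlus m (ZMod 2) u - Cfsg.quadFormPlus m (ZMod 2) v)) ∧
    ((∃ g : (Fin m ⊕ Fin m → ZMod 2) ≃ₗ[ZMod 2] (Fin m ⊕ Fin m → ZMod 2), ∀ v, q v + (Cfsg.quadFormPlus m (ZMod 2) (v + w) - Cfsg.quadFormPlus m (ZMod 2) v - Cfsg.quadFormPlus m (ZMod 2) w) = q (g v)) ↔ q w = 0) := by
  have hP : ∀ u v : Fin m ⊕ Fin m → ZMod 2, Cfsg.quadFormPlus m (ZMod 2) (u + v) -
      Cfsg.quadFormPlus m (ZMod 2) u - Cfsg.quadFormPlus m (ZMod 2) v =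
      polar (⇑(QPlus (ZMod 2) m)) u v := by
    intro u v
    rw [QPlus_coe]
    rfl
  simp only [hP] at hq ⊢
  have hQn : (polarBilin (f2Quad (QPlus (ZMod 2) m) q hq)).Nondegenerate :=
    f2Quad_nondeg _ _ _ (QPlus_nondeg m)
  have hV : finrank (ZMod 2) (Fin m ⊕ Fin m → ZMod 2) = 2 * m := by
    simp
    ring
  refine ⟨?_, ?_⟩
  · intro u v
    rw [hq u v, polar_add_left]
    ring
  · have key := shift_equiv_iff hm hV (f2Quad (QPlus (ZMod 2) m) q hq) hQn w
    simp only [f2Quad_apply, f2Quad_polar] at key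
    exact key

end Cfsg.Agent.S2564
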