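import Mathlib
import Cfsg.Statements.S2566
import Cfsg.Agent.S0250

set_option autoImplicit false
open Cfsg

namespace Cfsg.Agent.S2566

open Matrix

abbrev Idx := Fin 2 ⊕ Fin 2
abbrev F2 := ZMod 2
abbrev SL2 := Matrix.SpecialLinearGroup (Fin 2) F2
abbrev OG := ↥(Cfsg.isometryGroup F2 (Cfsg.quadFormPlus 2 F2))

/-- identification of the index set with positions of a 2 x 2 matrix -/
def eqv : Idx ≃ Fin 2 × Fin 2 where
  toFun := fun i => match i with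
    | .inl k => (0, k)
    | .inr k => (1, 1 - k)
  invFun := fun x => if x.1 = 0 then .inl x.2 else .inr (1 - x.2)
  left_inv := by decide
  right_inv := by decide

/-- Kronecker product in the coordinates of `Idx` -/
def Kr (a b : Matrix (Fin 2) (Fin 2) F2) : Matrix Idx Idx F2 :=
  (Matrix.kroneckerMap (· * ·) a b).submatrix eqv eqv

/-- the transposition map -/
def tau : Matrix Idx Idx F2 := (Equiv.swap (Sum.inl 1 : Idx) (Sum.inr 1)).permMatrix F2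

def Q4 (x1 x2 x3 x4 : F2) : F2 := x1 * x3 + x2 * x4

lemma Kr_mul (a b a' b' : Matrix (Fin 2) (Fin 2) F2) : Kr a b * Kr a' b' = Kr (a * a') (b * b') := by
  unfold Kr
  rw [Matrix.submatrix_mul_equiv]
  congr 1
  exact (Matrix.mul_kronecker_mul a a' b b').symm

lemma Kr_one : Kr 1 1 = 1 := by
  unfold Kr
  have : Matrix.kroneckerMap (· * ·) (1 : Matrix (Fin 2) (Fin 2) F2) (1 : Matrix (Fin 2) (Fin 2) F2) = 1 :=
    Matrix.one_kronecker_one
  rw [this, Matrix.submatrix_one_equiv]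

set_option maxRecDepth 100000 in
set_option synthInstance.maxSize 2000 in
set_option synthInstance.maxHeartbeats 400000 in
lemma scalar_key : ∀ a1 a2 a3 a4 : F2, Q4 a1 a2 a3 a4 = 0 →
    ∀ b1 b2 b3 b4 : F2, Q4 b1 b2 b3 b4 = 0 → Q4 (a1+b1) (a2+b2) (a3+b3) (a4+b4) = 0 →
    ∀ c1 c2 c3 c4 : F2, Q4 c1 c2 c3 c4 = 0 → Q4 (a1+c1) (a2+c2) (a3+c3) (a4+c4) = 1 →
      Q4 (b1+c1) (b2+c2) (b3+c3) (b4+c4) = 0 →
    ∀ d1 d2 d3 d4 : F2, Q4 d1 d2 d3 d4 = 0 → Q4 (a1+d1) (a2+d2) (a3+d3) (a4+d4) = 0 →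
      Q4 (b1+d1) (b2+d2) (b3+d3) (b4+d4) = 1 → Q4 (c1+d1) (c2+d2) (c3+d3) (c4+d4) = 0 →
    ∃ p q r s p' q' r' s' : F2, p * s - q * r = 1 ∧ p' * s' - q' * r' = 1 ∧
      (fromBlocks !![a1, b1; a2, b2] !![c1, d1; c2, d2] !![a3, b3; a4, b4] !![c3, d3; c4, d4] =
          Kr !![p, q; r, s] !![p', q'; r', s'] ∨
       fromBlocks !![a1, b1; a2, b2] !![c1, d1; c2, d2] !![a3, b3; a4, b4] !![c3, d3; c4, d4] * tau =
          Kr !![p, q; r, s] !![p', q'; r', s']) := by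
  decide +kernel

set_option maxRecDepth 100000 in
set_option synthInstance.maxSize 2000 in
set_option synthInstance.maxHeartbeats 400000 in
lemma Kr_iso_scalar : ∀ p q r s p' q' r' s' : F2, p * s - q * r = 1 → p' * s' - q' * r' = 1 →
    ∀ u1 u2 u3 u4 : F2,
      Cfsg.quadFormPlus 2 F2 (Kr !![p, q; r, s] !![p', q'; r', s'] *ᵥ (Sum.elim ![u1, u2] ![u3, u4])) =
        Cfsg.quadFormPlus 2 F2 (Sum.elim ![u1, u2] ![u3, u4]) := by
  decide +kernel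

set_option maxRecDepth 100000 in
lemma tau_iso_scalar : ∀ u1 u2 u3 u4 : F2,
      Cfsg.quadFormPlus 2 F2 (tau *ᵥ (Sum.elim ![u1, u2] ![u3, u4])) =
        Cfsg.quadFormPlus 2 F2 (Sum.elim ![u1, u2] ![u3, u4]) := by
  decide +kernel

set_option maxRecDepth 100000 in
lemma tau_mul_tau : tau * tau = 1 := by
  decide +kernel

set_option maxRecDepth 100000 in
lemma tau_conj_scalar : ∀ p q r s : F2, tau * Kr !![p, q; r, s] 1 * tau = Kr 1 !![p, q; r, s] := by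
  decide +kernel

set_option maxRecDepth 100000 in
set_option synthInstance.maxSize 2000 in
set_option synthInstance.maxHeartbeats 400000 in
lemma tau_ne_scalar : ∀ p q r s p' q' r' s' : F2, tau ≠ Kr !![p, q; r, s] !![p', q'; r', s'] := by
  decide +kernel

set_option maxRecDepth 100000 in
set_option synthInstance.maxSize 2000 in
set_option synthInstance.maxHeartbeats 400000 in
lemma Kr_eq_one_scalar : ∀ p q r s p' q' r' s' : F2, Kr !![p, q; r, s] !![p', q'; r', s'] = 1 →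
    (p = 1 ∧ q = 0 ∧ r = 0 ∧ s = 1) ∧ (p' = 1 ∧ q' = 0 ∧ r' = 0 ∧ s' = 1) := by
  decide +kernel

lemma vec_eta (u : Idx → F2) :
    u = Sum.elim ![u (Sum.inl 0), u (Sum.inl 1)] ![u (Sum.inr 0), u (Sum.inr 1)] := by
  ext i
  rcases i with k | k <;> fin_cases k <;> rfl

lemma det_eta (a : SL2) : a.1 0 0 * a.1 1 1 - a.1 0 1 * a.1 1 0 = 1 := by
  have := a.2
  rw [Matrix.det_fin_two] at this
  exact this

lemma Kr_iso (a b : SL2) (u : Idx → F2) :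
    Cfsg.quadFormPlus 2 F2 (Kr a.1 b.1 *ᵥ u) = Cfsg.quadFormPlus 2 F2 u := by
  have h := Kr_iso_scalar (a.1 0 0) (a.1 0 1) (a.1 1 0) (a.1 1 1) (b.1 0 0) (b.1 0 1) (b.1 1 0) (b.1 1 1)
    (det_eta a) (det_eta b) (u (Sum.inl 0)) (u (Sum.inl 1)) (u (Sum.inr 0)) (u (Sum.inr 1))
  rw [← Matrix.eta_fin_two a.1, ← Matrix.eta_fin_two b.1, ← vec_eta u] at h
  exact h

lemma tau_iso (u : Idx → F2) :
    Cfsg.quadFormPlus 2 F2 (tau *ᵥ u) = Cfsg.quadFormPlus 2 F2 u := by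
  have h := tau_iso_scalar (u (Sum.inl 0)) (u (Sum.inl 1)) (u (Sum.inr 0)) (u (Sum.inr 1))
  rw [← vec_eta u] at h
  exact h

/-- the homomorphism into matrices -/
def Psi0 : SL2 × SL2 →* Matrix Idx Idx F2 where
  toFun x := Kr x.1.1 x.2.1
  map_one' := Kr_one
  map_mul' x y := (Kr_mul _ _ _ _).symm

lemma mem_OG_iff (g : GL Idx F2) : g ∈ Cfsg.isometryGroup F2 (Cfsg.quadFormPlus 2 F2) ↔
    ∀ u : Idx → F2, Cfsg.quadFormPlus 2 F2 ((g : Matrix Idx Idx F2) *ᵥ u) = Cfsg.quadFormPlus 2 F2 u := by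
  constructor
  · intro h u
    exact h u 0
  · intro h u _
    exact h u

/-- the homomorphism into the isometry group -/
def Psi : SL2 × SL2 →* OG :=
  (Psi0.toHomUnits).codRestrict _ (fun x => by
    rw [mem_OG_iff]
    intro u
    exact Kr_iso x.1 x.2 u)

lemma Psi_val (x : SL2 × SL2) : ((Psi x : OG) : GL Idx F2).1 = Kr x.1.1 x.2.1 := rfl

def tauU : GL Idx F2 := ⟨tau, tau, tau_mul_tau, tau_mul_tau⟩

def tauO : OG := ⟨tauU, by
  rw [mem_OG_iff]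
  intro u
  exact tau_iso u⟩

lemma tauO_val : ((tauO : OG) : GL Idx F2).1 = tau := rfl

lemma OG_ext {g h : OG} (hh : (g : GL Idx F2).1 = (h : GL Idx F2).1) : g = h :=
  Subtype.ext (Units.ext hh)

lemma SL2_ext {a b : SL2} (h00 : a.1 0 0 = b.1 0 0) (h01 : a.1 0 1 = b.1 0 1) (h10 : a.1 1 0 = b.1 1 0)
    (h11 : a.1 1 1 = b.1 1 1) : a = b := by
  apply Subtype.ext
  ext i j
  fin_cases i <;> fin_cases j <;> assumption

lemma Psi_injective : Function.Injective Psi := by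
  rw [injective_iff_map_eq_one]
  intro x hx
  have h1 : Kr x.1.1 x.2.1 = 1 := by
    rw [← Psi_val, hx]; rfl
  rw [Matrix.eta_fin_two x.1.1, Matrix.eta_fin_two x.2.1] at h1
  obtain ⟨⟨h00, h01, h10, h11⟩, ⟨k00, k01, k10, k11⟩⟩ := Kr_eq_one_scalar _ _ _ _ _ _ _ _ h1
  apply Prod.ext
  · apply SL2_ext <;> simp [*]
  · apply SL2_ext <;> simp [*]

lemma card_SL2 : Nat.card SL2 = 6 := by
  obtain ⟨e⟩ := Cfsg.Agent.S0250.result (F := F2) (by simp)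
  rw [Nat.card_congr e.toEquiv, Nat.card_perm]
  simp [Nat.factorial]

lemma card_range_Psi : Nat.card Psi.range = 36 := by
  rw [← Nat.card_congr (MonoidHom.ofInjective Psi_injective).toEquiv, Nat.card_prod, card_SL2]

lemma tauO_not_mem : tauO ∉ Psi.range := by
  rintro ⟨x, hx⟩
  have h1 : tau = Kr x.1.1 x.2.1 := by
    rw [← Psi_val, hx]; rfl
  rw [Matrix.eta_fin_two x.1.1, Matrix.eta_fin_two x.2.1] at h1
  exact tau_ne_scalar _ _ _ _ _ _ _ _ h1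

/-- make an element of `SL2` from scalars -/
def mkSL (p q r s : F2) (h : p * s - q * r = 1) : SL2 :=
  ⟨!![p, q; r, s], by rw [Matrix.det_fin_two_of]; exact h⟩

lemma cover (g : OG) : g ∈ Psi.range ∨ g * tauO ∈ Psi.range := by
  have hG := (mem_OG_iff g.1).mp g.2
  set G : Matrix Idx Idx F2 := (g : GL Idx F2).1 with hGdef
  have ha : Q4 (G (Sum.inl 0) (Sum.inl 0)) (G (Sum.inl 1) (Sum.inl 0)) (G (Sum.inr 0) (Sum.inl 0))
      (G (Sum.inr 1) (Sum.inl 0)) = 0 := by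
    have := hG (Sum.elim ![1, 0] ![0, 0])
    simpa [Q4, Cfsg.quadFormPlus, Matrix.mulVec, dotProduct, Fintype.sum_sum_type, Fin.sum_univ_two] using this
  have hb : Q4 (G (Sum.inl 0) (Sum.inl 1)) (G (Sum.inl 1) (Sum.inl 1)) (G (Sum.inr 0) (Sum.inl 1))
      (G (Sum.inr 1) (Sum.inl 1)) = 0 := by
    have := hG (Sum.elim ![0, 1] ![0, 0])
    simpa [Q4, Cfsg.quadFormPlus, Matrix.mulVec, dotProduct, Fintype.sum_sum_type, Fin.sum_univ_two] using this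
  have hc : Q4 (G (Sum.inl 0) (Sum.inr 0)) (G (Sum.inl 1) (Sum.inr 0)) (G (Sum.inr 0) (Sum.inr 0))
      (G (Sum.inr 1) (Sum.inr 0)) = 0 := by
    have := hG (Sum.elim ![0, 0] ![1, 0])
    simpa [Q4, Cfsg.quadFormPlus, Matrix.mulVec, dotProduct, Fintype.sum_sum_type, Fin.sum_univ_two] using this
  have hd : Q4 (G (Sum.inl 0) (Sum.inr 1)) (G (Sum.inl 1) (Sum.inr 1)) (G (Sum.inr 0) (Sum.inr 1))
      (G (Sum.inr 1) (Sum.inr 1)) = 0 := by
    have := hG (Sum.elim ![0, 0] ![0, 1])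
    simpa [Q4, Cfsg.quadFormPlus, Matrix.mulVec, dotProduct, Fintype.sum_sum_type, Fin.sum_univ_two] using this
  have hab : Q4 (G (Sum.inl 0) (Sum.inl 0) + G (Sum.inl 0) (Sum.inl 1))
      (G (Sum.inl 1) (Sum.inl 0) + G (Sum.inl 1) (Sum.inl 1))
      (G (Sum.inr 0) (Sum.inl 0) + G (Sum.inr 0) (Sum.inl 1))
      (G (Sum.inr 1) (Sum.inl 0) + G (Sum.inr 1) (Sum.inl 1)) = 0 := by
    have := hG (Sum.elim ![1, 1] ![0, 0])
    simpa [Q4, Cfsg.quadFormPlus, Matrix.mulVec, dotProduct, Fintype.sum_sum_type, Fin.sum_univ_two] using this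
  have hac : Q4 (G (Sum.inl 0) (Sum.inl 0) + G (Sum.inl 0) (Sum.inr 0))
      (G (Sum.inl 1) (Sum.inl 0) + G (Sum.inl 1) (Sum.inr 0))
      (G (Sum.inr 0) (Sum.inl 0) + G (Sum.inr 0) (Sum.inr 0))
      (G (Sum.inr 1) (Sum.inl 0) + G (Sum.inr 1) (Sum.inr 0)) = 1 := by
    have := hG (Sum.elim ![1, 0] ![1, 0])
    simpa [Q4, Cfsg.quadFormPlus, Matrix.mulVec, dotProduct, Fintype.sum_sum_type, Fin.sum_univ_two] using this
  have hbc : Q4 (G (Sum.inl 0) (Sum.inl 1) + G (Sum.inl 0) (Sum.inr 0))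
      (G (Sum.inl 1) (Sum.inl 1) + G (Sum.inl 1) (Sum.inr 0))
      (G (Sum.inr 0) (Sum.inl 1) + G (Sum.inr 0) (Sum.inr 0))
      (G (Sum.inr 1) (Sum.inl 1) + G (Sum.inr 1) (Sum.inr 0)) = 0 := by
    have := hG (Sum.elim ![0, 1] ![1, 0])
    simpa [Q4, Cfsg.quadFormPlus, Matrix.mulVec, dotProduct, Fintype.sum_sum_type, Fin.sum_univ_two] using this
  have had : Q4 (G (Sum.inl 0) (Sum.inl 0) + G (Sum.inl 0) (Sum.inr 1))
      (G (Sum.inl 1) (Sum.inl 0) + G (Sum.inl 1) (Sum.inr 1))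
      (G (Sum.inr 0) (Sum.inl 0) + G (Sum.inr 0) (Sum.inr 1))
      (G (Sum.inr 1) (Sum.inl 0) + G (Sum.inr 1) (Sum.inr 1)) = 0 := by
    have := hG (Sum.elim ![1, 0] ![0, 1])
    simpa [Q4, Cfsg.quadFormPlus, Matrix.mulVec, dotProduct, Fintype.sum_sum_type, Fin.sum_univ_two] using this
  have hbd : Q4 (G (Sum.inl 0) (Sum.inl 1) + G (Sum.inl 0) (Sum.inr 1))
      (G (Sum.inl 1) (Sum.inl 1) + G (Sum.inl 1) (Sum.inr 1))
      (G (Sum.inr 0) (Sum.inl 1) + G (Sum.inr 0) (Sum.inr 1))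
      (G (Sum.inr 1) (Sum.inl 1) + G (Sum.inr 1) (Sum.inr 1)) = 1 := by
    have := hG (Sum.elim ![0, 1] ![0, 1])
    simpa [Q4, Cfsg.quadFormPlus, Matrix.mulVec, dotProduct, Fintype.sum_sum_type, Fin.sum_univ_two] using this
  have hcd : Q4 (G (Sum.inl 0) (Sum.inr 0) + G (Sum.inl 0) (Sum.inr 1))
      (G (Sum.inl 1) (Sum.inr 0) + G (Sum.inl 1) (Sum.inr 1))
      (G (Sum.inr 0) (Sum.inr 0) + G (Sum.inr 0) (Sum.inr 1))
      (G (Sum.inr 1) (Sum.inr 0) + G (Sum.inr 1) (Sum.inr 1)) = 0 := by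
    have := hG (Sum.elim ![0, 0] ![1, 1])
    simpa [Q4, Cfsg.quadFormPlus, Matrix.mulVec, dotProduct, Fintype.sum_sum_type, Fin.sum_univ_two] using this
  obtain ⟨p, q, r, s, p', q', r', s', h1, h2, h3⟩ :=
    scalar_key _ _ _ _ ha _ _ _ _ hb hab _ _ _ _ hc hac hbc _ _ _ _ hd had hbd hcd
  have hGeq : G = fromBlocks !![G (Sum.inl 0) (Sum.inl 0), G (Sum.inl 0) (Sum.inl 1);
        G (Sum.inl 1) (Sum.inl 0), G (Sum.inl 1) (Sum.inl 1)]
      !![G (Sum.inl 0) (Sum.inr 0), G (Sum.inl 0) (Sum.inr 1);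
        G (Sum.inl 1) (Sum.inr 0), G (Sum.inl 1) (Sum.inr 1)]
      !![G (Sum.inr 0) (Sum.inl 0), G (Sum.inr 0) (Sum.inl 1);
        G (Sum.inr 1) (Sum.inl 0), G (Sum.inr 1) (Sum.inl 1)]
      !![G (Sum.inr 0) (Sum.inr 0), G (Sum.inr 0) (Sum.inr 1);
        G (Sum.inr 1) (Sum.inr 0), G (Sum.inr 1) (Sum.inr 1)] := by
    ext i j
    rcases i with k | k <;> rcases j with l | l <;> fin_cases k <;> fin_cases l <;> rfl
  rw [← hGeq] at h3
  rcases h3 with h3 | h3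
  · left
    refine ⟨(mkSL p q r s h1, mkSL p' q' r' s' h2), ?_⟩
    apply OG_ext
    rw [Psi_val]
    exact h3.symm
  · right
    refine ⟨(mkSL p q r s h1, mkSL p' q' r' s' h2), ?_⟩
    apply OG_ext
    rw [Psi_val]
    exact h3.symm

def Lh : SL2 →* OG := Psi.comp (MonoidHom.inl SL2 SL2)
def Rh : SL2 →* OG := Psi.comp (MonoidHom.inr SL2 SL2)

lemma Lh_apply (a : SL2) : Lh a = Psi (a, 1) := rfl
lemma Rh_apply (b : SL2) : Rh b = Psi (1, b) := rfl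

lemma Lh_injective : Function.Injective Lh := by
  intro a a' h
  have := Psi_injective h
  exact (Prod.ext_iff.mp this).1

lemma Rh_injective : Function.Injective Rh := by
  intro a a' h
  have := Psi_injective h
  exact (Prod.ext_iff.mp this).2

lemma Lh_mul_Rh (a b : SL2) : Lh a * Rh b = Psi (a, b) := by
  rw [Lh_apply, Rh_apply, ← map_mul, Prod.mk_mul_mk, mul_one, one_mul]

lemma Rh_mul_Lh (a b : SL2) : Rh b * Lh a = Psi (a, b) := by
  rw [Lh_apply, Rh_apply, ← map_mul, Prod.mk_mul_mk, mul_one, one_mul]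

lemma range_sup : Lh.range ⊔ Rh.range = Psi.range := by
  apply le_antisymm
  · apply sup_le
    · rintro _ ⟨a, rfl⟩
      exact ⟨(a, 1), rfl⟩
    · rintro _ ⟨a, rfl⟩
      exact ⟨(1, a), rfl⟩
  · rintro _ ⟨⟨a, b⟩, rfl⟩
    rw [← Lh_mul_Rh]
    exact Subgroup.mul_mem _ (Subgroup.mem_sup_left ⟨a, rfl⟩) (Subgroup.mem_sup_right ⟨b, rfl⟩)

lemma index_range : Psi.range.index = 2 := by
  rw [Subgroup.index_eq_two_iff_exists_notMem_and]
  refine ⟨tauO, tauO_not_mem, ?_⟩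
  intro b
  exact (cover b).symm

lemma card_OG : Nat.card OG = 72 := by
  rw [← Subgroup.index_mul_card Psi.range, index_range, card_range_Psi]

lemma tau_conj (a : SL2) : tauO * Lh a * tauO⁻¹ = Rh a := by
  have hinv : tauO⁻¹ = tauO := by
    rw [inv_eq_iff_mul_eq_one]
    apply OG_ext
    exact tau_mul_tau
  rw [hinv]
  apply OG_ext
  show tau * Kr a.1 1 * tau = Kr 1 a.1
  have := tau_conj_scalar (a.1 0 0) (a.1 0 1) (a.1 1 0) (a.1 1 1)
  rw [← Matrix.eta_fin_two a.1] at this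
  exact this

theorem result :
    Nat.card ↥(Cfsg.isometryGroup (ZMod 2) (Cfsg.quadFormPlus 2 (ZMod 2))) = 72 ∧
    ∃ (A B : Subgroup ↥(Cfsg.isometryGroup (ZMod 2) (Cfsg.quadFormPlus 2 (ZMod 2)))),
      Nonempty (↥A ≃* Equiv.Perm (Fin 3)) ∧ Nonempty (↥B ≃* Equiv.Perm (Fin 3)) ∧ A ⊓ B = ⊥ ∧ (∀ a ∈ A, ∀ b ∈ B, a * b = b * a) ∧
      (A ⊔ B).index = 2 ∧ ∃ g : ↥(Cfsg.isometryGroup (ZMod 2) (Cfsg.quadFormPlus 2 (ZMod 2))), A.map (MulAut.conj g).toMonoidHom = B := by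
  refine ⟨card_OG, Lh.range, Rh.range, ?_, ?_, ?_, ?_, ?_, tauO, ?_⟩
  · obtain ⟨e⟩ := Cfsg.Agent.S0250.result (F := F2) (by simp)
    exact ⟨(MonoidHom.ofInjective Lh_injective).symm.trans e⟩
  · obtain ⟨e⟩ := Cfsg.Agent.S0250.result (F := F2) (by simp)
    exact ⟨(MonoidHom.ofInjective Rh_injective).symm.trans e⟩
  · rw [eq_bot_iff]
    rintro x ⟨⟨a, ha⟩, ⟨b, hb⟩⟩
    have h1 : Psi (a, 1) = Psi (1, b) := by
      rw [← Lh_apply, ← Rh_apply, ha, hb]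
    have h2 := Psi_injective h1
    have h3 : a = 1 := (Prod.ext_iff.mp h2).1
    rw [Subgroup.mem_bot, ← ha, h3, map_one]
  · rintro _ ⟨a, rfl⟩ _ ⟨b, rfl⟩
    rw [Lh_mul_Rh, Rh_mul_Lh]
  · rw [range_sup, index_range]
  · ext x
    constructor
    · rintro ⟨_, ⟨a, rfl⟩, rfl⟩
      refine ⟨a, ?_⟩
      rw [← tau_conj]
      rfl
    · rintro ⟨a, rfl⟩
      refine ⟨Lh a, ⟨a, rfl⟩, ?_⟩
      rw [← tau_conj]
      rfl

end Cfsg.Agent.S2566
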