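import Cfsg.Statements.S2567

set_option autoImplicit false
open scoped Pointwise
open Cfsg

namespace Cfsg.Agent.S2567

open Matrix

theorem center_pow {F : Type*} [Field F] [Fintype F] {n : ℕ} (z : GL (Fin n) F)
    (hz : z ∈ Subgroup.center (GL (Fin n) F)) : z ^ (Fintype.card F - 1) = 1 := by
  classical
  rw [Matrix.GeneralLinearGroup.center_eq_range_scalar] at hz
  obtain ⟨a, rfl⟩ := hz
  rw [← map_pow]
  have : a ^ (Fintype.card F - 1) = 1 := by
    rw [← Fintype.card_units]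
    exact pow_card_eq_one
  rw [this, map_one]

/-- Lifting elements of prime order from PGL to GL. -/
theorem result {F : Type*} [Field F] [Fintype F] {q n r : ℕ} (hF : Fintype.card F = q) (hr : r.Prime) (hdiv : ¬ r ∣ q - 1) (x : GL (Fin n) F ⧸ Subgroup.center (GL (Fin n) F)) (hx : orderOf x = r) : ∃! g : GL (Fin n) F, (QuotientGroup.mk g : GL (Fin n) F ⧸ Subgroup.center (GL (Fin n) F)) = x ∧ orderOf g = r := by
  classical
  subst hF
  have hcop : ∀ z : GL (Fin n) F, z ∈ Subgroup.center (GL (Fin n) F) → r.Coprime (orderOf z) := by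
    intro z hz
    have h1 : orderOf z ∣ Fintype.card F - 1 := orderOf_dvd_of_pow_eq_one (center_pow z hz)
    exact Nat.Coprime.coprime_dvd_right h1 ((Nat.Prime.coprime_iff_not_dvd hr).mpr hdiv)
  obtain ⟨g0, rfl⟩ := QuotientGroup.mk_surjective x
  have hz : g0 ^ r ∈ Subgroup.center (GL (Fin n) F) := by
    rw [← QuotientGroup.eq_one_iff, QuotientGroup.mk_pow, ← hx]
    exact pow_orderOf_eq_one _
  obtain ⟨m, hm⟩ := exists_pow_eq_self_of_coprime (hcop _ hz)
  set w := (g0 ^ r) ^ m with hw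
  have hwz : w ∈ Subgroup.center (GL (Fin n) F) := Subgroup.pow_mem _ hz m
  have hwr : w ^ r = g0 ^ r := by
    rw [hw, ← pow_mul, mul_comm, pow_mul]; exact hm
  have hcomm : Commute g0 w⁻¹ := by
    have := (Subgroup.mem_center_iff.mp (Subgroup.inv_mem _ hwz)) g0
    exact this
  refine ⟨g0 * w⁻¹, ⟨?_, ?_⟩, ?_⟩
  · rw [QuotientGroup.mk_mul, QuotientGroup.mk_inv, (QuotientGroup.eq_one_iff w).mpr hwz]; simp
  · have h1 : (g0 * w⁻¹) ^ r = 1 := by
      rw [hcomm.mul_pow, inv_pow, hwr]; simp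
    have h2 : orderOf (g0 * w⁻¹) ∣ r := orderOf_dvd_of_pow_eq_one h1
    have h3 : r ∣ orderOf (g0 * w⁻¹) := by
      have := orderOf_map_dvd (QuotientGroup.mk' (Subgroup.center (GL (Fin n) F))) (g0 * w⁻¹)
      have h4 : (QuotientGroup.mk' (Subgroup.center (GL (Fin n) F))) (g0 * w⁻¹) = (QuotientGroup.mk g0 : GL (Fin n) F ⧸ Subgroup.center (GL (Fin n) F)) := by
        rw [QuotientGroup.mk'_apply, QuotientGroup.mk_mul, QuotientGroup.mk_inv, (QuotientGroup.eq_one_iff w).mpr hwz]; simp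
      rw [h4, hx] at this
      exact this
    exact Nat.dvd_antisymm h2 h3
  · rintro g' ⟨hg'x, hg'r⟩
    -- c = (g0 * w⁻¹)⁻¹ * g' central
    set g := g0 * w⁻¹ with hg
    have hgx : (QuotientGroup.mk g : GL (Fin n) F ⧸ Subgroup.center (GL (Fin n) F)) = QuotientGroup.mk g0 := by
      rw [hg, QuotientGroup.mk_mul, QuotientGroup.mk_inv, (QuotientGroup.eq_one_iff w).mpr hwz]; simp
    have hgr : g ^ r = 1 := by
      rw [hg, hcomm.mul_pow, inv_pow, hwr]; simp
    have hc : g⁻¹ * g' ∈ Subgroup.center (GL (Fin n) F) := by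
      rw [← QuotientGroup.eq_one_iff, QuotientGroup.mk_mul, QuotientGroup.mk_inv, hgx, hg'x]; simp
    have hcc : Commute g (g⁻¹ * g') := (Subgroup.mem_center_iff.mp hc g)
    have hg' : g' = g * (g⁻¹ * g') := by group
    have hcr : (g⁻¹ * g') ^ r = 1 := by
      have : g' ^ r = 1 := by rw [← hg'r]; exact pow_orderOf_eq_one _
      rw [hg', hcc.mul_pow, hgr, one_mul] at this
      exact this
    have hord : orderOf (g⁻¹ * g') = 1 := by
      have h1 : orderOf (g⁻¹ * g') ∣ r := orderOf_dvd_of_pow_eq_one hcr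
      exact Nat.eq_one_of_dvd_coprimes (hcop _ hc) h1 dvd_rfl
    rw [orderOf_eq_one_iff] at hord
    rw [hg', hord, mul_one]

end Cfsg.Agent.S2567
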