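import Cfsg.Statements.S2571
import Cfsg.Agent.Lib_helper13_RegNil2

set_option autoImplicit false
open Cfsg

namespace Cfsg.Agent.S2571

open Matrix Cfsg.Agent.helper13

theorem card_coeff {F : Type*} [Field F] [Fintype F] (k : ℕ) :
    Nat.card {c : Fin (k + 1) → F // c 0 ≠ 0} = (Fintype.card F - 1) * Fintype.card F ^ k := by
  classical
  rw [Nat.card_congr ((Fin.consEquiv (fun _ : Fin (k + 1) => F)).symm.subtypeEquiv (p := fun c => c 0 ≠ 0)
    (q := fun p => p.1 ≠ 0) (by intro c; rfl))]
  rw [Nat.card_congr (Equiv.prodSubtypeFstEquivSubtypeProd (p := fun a : F => a ≠ 0))]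
  rw [Nat.card_prod, ← Nat.card_congr (unitsEquivNeZero (G₀ := F)), Nat.card_units, Nat.card_eq_fintype_card,
    Nat.card_fun, Nat.card_eq_fintype_card, Nat.card_eq_fintype_card, Fintype.card_fin]

/-- Centraliser of a regular unipotent element in GL_n(q): if u is an invertible n × n matrix over the field with q elements, n ≥ 1, with (u − 1)^n = 0 and rank(u − 1) = n − 1 (a single unipotent Jordan block), then its centraliser in GL_n(q) has order (q − 1) q^(n−1). -/
theorem result {F : Type*} [Field F] [Fintype F] {q n : ℕ} (hF : Fintype.card F = q) (hn : 1 ≤ n) (u : GL (Fin n) F) (hnil : ((u : Matrix (Fin n) (Fin n) F) - 1) ^ n = 0) (hreg : ((u : Matrix (Fin n) (Fin n) F) - 1).rank = n - 1) : Nat.card ↥(Subgroup.centralizer ({u} : Set (GL (Fin n) F))) = (q - 1) * q ^ (n - 1) := by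
  classical
  obtain ⟨k, rfl⟩ : ∃ k, n = k + 1 := ⟨n - 1, by omega⟩
  set N : Matrix (Fin (k + 1)) (Fin (k + 1)) F := (u : Matrix (Fin (k + 1)) (Fin (k + 1)) F) - 1 with hN
  have hι : Fintype.card (Fin (k + 1)) = k + 1 := Fintype.card_fin _
  have hcommN : ∀ A : Matrix (Fin (k + 1)) (Fin (k + 1)) F, A * N = N * A ↔
      (u : Matrix (Fin (k + 1)) (Fin (k + 1)) F) * A = A * (u : Matrix (Fin (k + 1)) (Fin (k + 1)) F) := by
    intro A
    rw [hN, Matrix.mul_sub, Matrix.sub_mul, Matrix.mul_one, Matrix.one_mul]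
    constructor
    · intro h
      have := sub_left_injective h
      exact this.symm
    · intro h
      rw [h]
  have hmem : ∀ g : GL (Fin (k + 1)) F, g ∈ Subgroup.centralizer ({u} : Set (GL (Fin (k + 1)) F)) ↔
      (g : Matrix (Fin (k + 1)) (Fin (k + 1)) F) * N = N * (g : Matrix (Fin (k + 1)) (Fin (k + 1)) F) := by
    intro g
    rw [Subgroup.mem_centralizer_iff, hcommN]
    constructor
    · intro h
      have := h u (Set.mem_singleton u)
      have h2 := congrArg (fun x : GL (Fin (k + 1)) F => (x : Matrix (Fin (k + 1)) (Fin (k + 1)) F)) this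
      simpa using h2
    · intro h x hx
      rw [Set.mem_singleton_iff] at hx
      subst hx
      apply Units.ext
      simpa using h
  -- the map from coefficient vectors
  have hunit : ∀ c : {c : Fin (k + 1) → F // c 0 ≠ 0}, IsUnit (polyMat N c.1) := fun c =>
    (isUnit_polyMat_iff k hι N hnil c.1).mpr c.2
  let Φ : {c : Fin (k + 1) → F // c 0 ≠ 0} → ↥(Subgroup.centralizer ({u} : Set (GL (Fin (k + 1)) F))) :=
    fun c => ⟨(hunit c).unit, by
      rw [hmem]
      show polyMat N c.1 * N = N * polyMat N c.1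
      exact polyMat_comm N c.1⟩
  have hΦval : ∀ c, (((Φ c : ↥(Subgroup.centralizer ({u} : Set (GL (Fin (k + 1)) F)))) : GL (Fin (k + 1)) F) : Matrix (Fin (k + 1)) (Fin (k + 1)) F) = polyMat N c.1 := fun c => rfl
  have hinj : Function.Injective Φ := by
    intro c c' h
    apply Subtype.ext
    apply regnil_polyMat_injective hι N hnil hreg (by omega)
    show polyMat N c.1 = polyMat N c'.1
    rw [← hΦval c, ← hΦval c', h]
  have hsurj : Function.Surjective Φ := by
    intro g
    have hg := (hmem g.1).mp g.2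
    obtain ⟨c, hc⟩ := regnil_exists_polyMat hι N hnil hreg (by omega) _ hg
    have hc0 : c 0 ≠ 0 := by
      rw [← isUnit_polyMat_iff k hι N hnil c, hc]
      exact g.1.isUnit
    refine ⟨⟨c, hc0⟩, ?_⟩
    apply Subtype.ext
    apply Units.ext
    show polyMat N c = _
    exact hc
  rw [← Nat.card_congr (Equiv.ofBijective Φ ⟨hinj, hsurj⟩), card_coeff, hF]
  simp

end Cfsg.Agent.S2571
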