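import Cfsg.Statements.S2574
import Cfsg.Agent.Lib_helper13_RegNil

set_option autoImplicit false
open Cfsg

namespace Cfsg.Agent.S2574

open Matrix

/-- A regular unipotent element of the symplectic group has totally isotropic small invariant subspaces: over a finite field, if u ∈ Sp_2m(F) satisfies (u − 1)^(2m) = 0 and rank(u − 1) = 2m − 1, and W is a u-invariant subspace with 2 dim W ≤ 2m, then the alternating form vanishes identically on W. -/
theorem result {F : Type*} [Field F] [Finite F] {m : ℕ} (u : Matrix.symplecticGroup (Fin m) F) (hnil : ((u : Matrix (Fin m ⊕ Fin m) (Fin m ⊕ Fin m) F) - 1) ^ (2 * m) = 0) (hreg : ((u : Matrix (Fin m ⊕ Fin m) (Fin m ⊕ Fin m) F) - 1).rank = 2 * m - 1) (W : Submodule F (Fin m ⊕ Fin m → F)) (hW : ∀ v ∈ W, (u : Matrix (Fin m ⊕ Fin m) (Fin m ⊕ Fin m) F).mulVec v ∈ W) (hdim : 2 * Module.finrank F W ≤ 2 * m) : ∀ v ∈ W, ∀ w ∈ W, Cfsg.sympForm m F v w = 0 := by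
  classical
  set M : Matrix (Fin m ⊕ Fin m) (Fin m ⊕ Fin m) F := (u : Matrix (Fin m ⊕ Fin m) (Fin m ⊕ Fin m) F) with hM
  set Mi : Matrix (Fin m ⊕ Fin m) (Fin m ⊕ Fin m) F := ((u⁻¹ : Matrix.symplecticGroup (Fin m) F) : Matrix (Fin m ⊕ Fin m) (Fin m ⊕ Fin m) F) with hMi
  set N : Matrix (Fin m ⊕ Fin m) (Fin m ⊕ Fin m) F := M - 1 with hN
  have hMMi : M * Mi = 1 := by
    have h1 : ((u * u⁻¹ : Matrix.symplecticGroup (Fin m) F) : Matrix (Fin m ⊕ Fin m) (Fin m ⊕ Fin m) F) = M * Mi := rfl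
    rw [← h1, mul_inv_cancel]
    rfl
  have hMiM : Mi * M = 1 := by
    have h1 : ((u⁻¹ * u : Matrix.symplecticGroup (Fin m) F) : Matrix (Fin m ⊕ Fin m) (Fin m ⊕ Fin m) F) = Mi * M := rfl
    rw [← h1, inv_mul_cancel]
    rfl
  have hA : Mᵀ * Matrix.J (Fin m) F * M = Matrix.J (Fin m) F := SymplecticGroup.mem_iff'.mp u.2
  have hMtJ : Mᵀ * Matrix.J (Fin m) F = Matrix.J (Fin m) F * Mi := by
    calc Mᵀ * Matrix.J (Fin m) F = Mᵀ * Matrix.J (Fin m) F * (M * Mi) := by rw [hMMi, Matrix.mul_one]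
      _ = (Mᵀ * Matrix.J (Fin m) F * M) * Mi := by rw [Matrix.mul_assoc, Matrix.mul_assoc, Matrix.mul_assoc]
      _ = Matrix.J (Fin m) F * Mi := by rw [hA]
  have hNtJ : Nᵀ * Matrix.J (Fin m) F = Matrix.J (Fin m) F * (-Mi * N) := by
    rw [hN, Matrix.transpose_sub, Matrix.transpose_one, Matrix.sub_mul, Matrix.one_mul, hMtJ,
      Matrix.neg_mul, Matrix.mul_neg, Matrix.mul_sub, Matrix.mul_one, Matrix.mul_sub, hMiM, Matrix.mul_one]
    abel
  have hcomm : Commute (-Mi) N := by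
    rw [hN]
    apply Commute.neg_left
    apply Commute.sub_right _ (Commute.one_right _)
    show Mi * M = M * Mi
    rw [hMiM, hMMi]
  have hkey : ∀ k : ℕ, (N ^ k)ᵀ * Matrix.J (Fin m) F = Matrix.J (Fin m) F * ((-Mi) ^ k * N ^ k) := by
    intro k
    rw [← hcomm.mul_pow]
    induction k with
    | zero => simp
    | succ k ih =>
      rw [pow_succ, Matrix.transpose_mul, Matrix.mul_assoc, ih, ← Matrix.mul_assoc, hNtJ,
        Matrix.mul_assoc, ← pow_succ']
  have hform : ∀ (k : ℕ) (x y : Fin m ⊕ Fin m → F), (N ^ k) *ᵥ y = 0 →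
      Cfsg.sympForm m F ((N ^ k) *ᵥ x) y = 0 := by
    intro k x y hy
    unfold Cfsg.sympForm
    rw [← vecMul_transpose, ← dotProduct_mulVec, mulVec_mulVec, hkey, ← mulVec_mulVec, ← mulVec_mulVec, hy,
      mulVec_zero, mulVec_zero, dotProduct_zero]
  have hcard : Fintype.card (Fin m ⊕ Fin m) = 2 * m := by
    rw [Fintype.card_sum, Fintype.card_fin, two_mul]
  have hWinv : ∀ v ∈ W, N.mulVec v ∈ W := by
    intro v hv
    rw [hN, Matrix.sub_mulVec, Matrix.one_mulVec]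
    exact W.sub_mem (hW v hv) hv
  have hWeq := Cfsg.Agent.helper13.regnil_invariant hcard N hnil hreg W hWinv
  set d := Module.finrank F W with hd
  have hd2 : d ≤ 2 * m := by omega
  have hrange := Cfsg.Agent.helper13.regnil_range_eq_ker hcard N hnil hreg hd2
  intro v hv w hw
  rw [hWeq, ← hrange] at hv
  obtain ⟨x, rfl⟩ := hv
  rw [Matrix.mulVecLin_apply]
  apply hform
  rw [hWeq, LinearMap.mem_ker, Matrix.mulVecLin_apply] at hw
  have : 2 * m - d = (2 * m - 2 * d) + d := by omega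
  rw [this, pow_add, ← mulVec_mulVec, hw, mulVec_zero]

end Cfsg.Agent.S2574
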