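import Cfsg.Statements.S2575

set_option autoImplicit false
open scoped Pointwise
open Cfsg

namespace Cfsg.Agent.S2575

theorem v2_eq (n k s : ℕ) (hs : Odd s) (h : n = 2 ^ k * s) : padicValNat 2 n = k := by
  have : Fact (Nat.Prime 2) := ⟨Nat.prime_two⟩
  have hs0 : s ≠ 0 := by rintro rfl; simp at hs
  rw [h, padicValNat.mul (by positivity) hs0, padicValNat.prime_pow,
    padicValNat.eq_zero_of_not_dvd (by rw [Nat.two_dvd_ne_zero]; exact Nat.odd_iff.mp hs), add_zero]

theorem neg_one_ne_one {F : Type*} [Field F] [Fintype F] (hq : Odd (Fintype.card F)) : (-1 : F) ≠ 1 := by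
  apply Ring.neg_one_ne_one_of_char_ne_two
  intro h
  rw [FiniteField.even_card_iff_char_two] at h
  rw [Nat.odd_iff] at hq
  omega

theorem det_eq {F : Type*} [Field F] {n : ℕ} (i : ℕ) (hi : i ≤ n) (c : F) :
    (c • Matrix.diagonal (fun j : Fin n => if (j : ℕ) < i then (-1 : F) else 1)).det = c ^ n * (-1) ^ i := by
  rw [Matrix.det_smul, Matrix.det_diagonal, Fintype.card_fin, Finset.prod_ite, Finset.prod_const,
    Finset.prod_const_one, mul_one, Fin.card_filter_val_lt, min_eq_right hi]

/-- Which diagonal involutions of PGL_n(q) lie in PSL_n(q), q odd. -/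
theorem result {F : Type*} [Field F] [Fintype F] {q : ℕ} (hF : Fintype.card F = q) (hq : Odd q) {n : ℕ} (hn : 1 ≤ n) (i : ℕ) (hi : i ≤ n) : (∃ c : F, c ≠ 0 ∧ (c • Matrix.diagonal (fun j : Fin n => if (j : ℕ) < i then (-1 : F) else 1)).det = 1) ↔ (Even i ∨ padicValNat 2 n < padicValNat 2 (q - 1)) := by
  classical
  subst hF
  have hne := neg_one_ne_one hq
  have hcard : 2 ≤ Fintype.card F := Fintype.one_lt_card
  have hN0 : Fintype.card F - 1 ≠ 0 := by omega
  obtain ⟨a, s, hs, hN⟩ := Nat.exists_eq_two_pow_mul_odd hN0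
  obtain ⟨b, n', hn', hnb⟩ := Nat.exists_eq_two_pow_mul_odd (show n ≠ 0 by omega)
  rw [v2_eq _ a s hs hN, v2_eq _ b n' hn' hnb]
  simp only [det_eq i hi]
  constructor
  · rintro ⟨c, hc0, hc⟩
    by_cases hev : Even i
    · exact Or.inl hev
    · right
      rw [Nat.not_even_iff_odd] at hev
      rw [hev.neg_one_pow] at hc
      have hcn : c ^ n = -1 := by
        have : c ^ n * -1 * -1 = 1 * -1 := by rw [hc]
        simpa using this
      by_contra hlt
      push Not at hlt
      -- 2^a ∣ n
      have hcN : c ^ (Fintype.card F - 1) = 1 := FiniteField.pow_card_sub_one_eq_one c hc0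
      have h1 : c ^ (n * s) = 1 := by
        have : n * s = (Fintype.card F - 1) * (2 ^ (b - a) * n') := by
          rw [hN, hnb]
          have : 2 ^ b = 2 ^ a * 2 ^ (b - a) := by rw [← pow_add]; congr 1; omega
          rw [this]; ring
        rw [this, pow_mul, hcN, one_pow]
      rw [pow_mul, hcn, hs.neg_one_pow] at h1
      exact hne h1
  · rintro (hev | hlt)
    · exact ⟨1, one_ne_zero, by rw [one_pow, hev.neg_one_pow, one_mul]⟩
    · by_cases hev : Even i
      · exact ⟨1, one_ne_zero, by rw [one_pow, hev.neg_one_pow, one_mul]⟩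
      rw [Nat.not_even_iff_odd] at hev
      obtain ⟨γ, hγ⟩ := IsCyclic.exists_generator (α := Fˣ)
      have hord : orderOf (γ : F) = Fintype.card F - 1 := by
        rw [orderOf_units, orderOf_eq_card_of_forall_mem_zpowers hγ, Nat.card_eq_fintype_card, Fintype.card_units]
      have hγ0 : (γ : F) ≠ 0 := γ.ne_zero
      have hhalf : (γ : F) ^ (2 ^ (a - 1) * s) = -1 := by
        have ha1 : 1 ≤ a := by omega
        have h2 : ((γ : F) ^ (2 ^ (a - 1) * s)) ^ 2 = 1 := by
          rw [← pow_mul]
          have : 2 ^ (a - 1) * s * 2 = Fintype.card F - 1 := by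
            rw [hN]
            have : 2 ^ a = 2 ^ (a - 1) * 2 := by rw [← pow_succ]; congr 1; omega
            rw [this]; ring
          rw [this]
          exact FiniteField.pow_card_sub_one_eq_one _ hγ0
        rcases sq_eq_one_iff.mp h2 with h | h
        · exfalso
          have := orderOf_dvd_of_pow_eq_one h
          rw [hord, hN] at this
          have hpos : 0 < 2 ^ (a - 1) * s := by
            have : s ≠ 0 := by rintro rfl; simp at hs
            positivity
          have := Nat.le_of_dvd hpos this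
          have h3 : 2 ^ a = 2 ^ (a - 1) * 2 := by rw [← pow_succ]; congr 1; omega
          rw [h3] at this
          nlinarith
        · exact h
      refine ⟨(γ : F) ^ (2 ^ (a - b - 1) * s), pow_ne_zero _ hγ0, ?_⟩
      rw [hev.neg_one_pow, ← pow_mul]
      have : 2 ^ (a - b - 1) * s * n = (2 ^ (a - 1) * s) * n' := by
        rw [hnb]
        have : 2 ^ (a - 1) = 2 ^ (a - b - 1) * 2 ^ b := by rw [← pow_add]; congr 1; omega
        rw [this]; ring
      rw [this, pow_mul, hhalf, hn'.neg_one_pow]
      simp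

end Cfsg.Agent.S2575
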