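import Cfsg.Statements.S2576

set_option autoImplicit false
open scoped Pointwise
open Cfsg

namespace Cfsg.Agent.S2576

theorem v2_eq (n k s : ℕ) (hs : Odd s) (h : n = 2 ^ k * s) : padicValNat 2 n = k := by
  have : Fact (Nat.Prime 2) := ⟨Nat.prime_two⟩
  have hs0 : s ≠ 0 := by rintro rfl; simp at hs
  rw [h, padicValNat.mul (by positivity) hs0, padicValNat.prime_pow,
    padicValNat.eq_zero_of_not_dvd (by rw [Nat.two_dvd_ne_zero]; exact Nat.odd_iff.mp hs), add_zero]

theorem neg_one_ne_one {F : Type*} [Field F] [Fintype F] (hq : Odd (Fintype.card F)) : (-1 : F) ≠ 1 := by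
  apply Ring.neg_one_ne_one_of_char_ne_two
  intro h
  rw [FiniteField.even_card_iff_char_two] at h
  rw [Nat.odd_iff] at hq
  omega

theorem det_eq {F : Type*} [Field F] {m : ℕ} (μ c : F) :
    (c • Matrix.blockDiagonal (fun _ : Fin m => !![(0 : F), 1; μ, 0])).det = c ^ (2 * m) * (-μ) ^ m := by
  rw [Matrix.det_smul, Matrix.det_blockDiagonal]
  simp only [Matrix.det_fin_two_of, Finset.prod_const, Finset.card_univ, Fintype.card_fin,
    Fintype.card_prod]
  congr 1
  ring

/-- Which involutions of PGL_2m(q) coming from a scalar of the quadratic extension field lie in PSL_2m(q). -/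
theorem result {F : Type*} [Field F] [Fintype F] {q : ℕ} (hF : Fintype.card F = q) (hq : Odd q) {m : ℕ} (hm : 1 ≤ m) (μ : F) (hμ : orderOf μ = 2 ^ padicValNat 2 (q - 1)) : (∃ c : F, c ≠ 0 ∧ (c • Matrix.blockDiagonal (fun _ : Fin m => !![(0 : F), 1; μ, 0])).det = 1) ↔ (q % 4 = 3 ∨ padicValNat 2 (q - 1) < padicValNat 2 (2 * m)) := by
  classical
  subst hF
  have hne := neg_one_ne_one hq
  have hcard : 2 ≤ Fintype.card F := Fintype.one_lt_card
  have hN0 : Fintype.card F - 1 ≠ 0 := by omega
  obtain ⟨a, s, hs, hN⟩ := Nat.exists_eq_two_pow_mul_odd hN0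
  obtain ⟨b, m', hm', hmb⟩ := Nat.exists_eq_two_pow_mul_odd (show m ≠ 0 by omega)
  have h2m : 2 * m = 2 ^ (b + 1) * m' := by rw [hmb, pow_succ]; ring
  rw [v2_eq _ a s hs hN] at hμ ⊢
  rw [v2_eq _ (b + 1) m' hm' h2m]
  simp only [det_eq]
  have hs0 : s ≠ 0 := by rintro rfl; simp at hs
  have ha1 : 1 ≤ a := by
    by_contra h
    have : a = 0 := by omega
    rw [this, pow_zero, one_mul] at hN
    rw [Nat.odd_iff] at hq hs
    omega
  have hq4 : Fintype.card F % 4 = 3 ↔ a = 1 := by
    constructor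
    · intro h
      by_contra hne1
      have ha2 : 2 ≤ a := by omega
      have : 2 ^ a = 4 * 2 ^ (a - 2) := by
        rw [show (4 : ℕ) = 2 ^ 2 by norm_num, ← pow_add]; congr 1; omega
      rw [this, mul_assoc] at hN
      omega
    · intro h
      rw [h] at hN
      obtain ⟨k, hk⟩ := hs
      omega
  rw [hq4]
  constructor
  · rintro ⟨c, hc0, hc⟩
    by_contra hcon
    push Not at hcon
    obtain ⟨hane, hba⟩ := hcon
    have ha2 : 2 ≤ a := by omega
    have hcN : c ^ (Fintype.card F - 1) = 1 := FiniteField.pow_card_sub_one_eq_one c hc0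
    -- t = 2^(a-b-1) * s
    have h1 : (c ^ (2 * m)) ^ (2 ^ (a - b - 1) * s) = 1 := by
      rw [← pow_mul]
      have : 2 * m * (2 ^ (a - b - 1) * s) = (Fintype.card F - 1) * m' := by
        rw [hN, hmb]
        have : 2 ^ a = 2 * 2 ^ b * 2 ^ (a - b - 1) := by
          rw [← pow_succ', ← pow_add]; congr 1; omega
        rw [this]; ring
      rw [this, pow_mul, hcN, one_pow]
    have h2 : ((-μ) ^ m) ^ (2 ^ (a - b - 1) * s) = 1 := by
      have := congrArg (fun x => x ^ (2 ^ (a - b - 1) * s)) hc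
      simp only [mul_pow, one_pow, h1, one_mul] at this
      exact this
    rw [← pow_mul, neg_pow] at h2
    have hmt : m * (2 ^ (a - b - 1) * s) = 2 ^ (a - 1) * (m' * s) := by
      rw [hmb]
      have : 2 ^ (a - 1) = 2 ^ b * 2 ^ (a - b - 1) := by rw [← pow_add]; congr 1; omega
      rw [this]; ring
    rw [hmt] at h2
    have hev : Even (2 ^ (a - 1) * (m' * s)) := by
      apply Even.mul_right
      exact (Nat.even_pow.mpr ⟨even_two, by omega⟩)
    rw [hev.neg_one_pow, one_mul] at h2
    have hdvd := orderOf_dvd_of_pow_eq_one h2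
    rw [hμ] at hdvd
    have : 2 ^ a = 2 ^ (a - 1) * 2 := by rw [← pow_succ]; congr 1; omega
    rw [this] at hdvd
    have h3 : 2 ∣ m' * s := Nat.dvd_of_mul_dvd_mul_left (by positivity) hdvd
    have : Odd (m' * s) := hm'.mul hs
    rw [Nat.odd_iff] at this
    omega
  · rintro (ha | hab)
    · refine ⟨1, one_ne_zero, ?_⟩
      rw [ha, pow_one] at hμ
      have h2 : μ ^ 2 = 1 := by rw [← hμ]; exact pow_orderOf_eq_one μ
      have hμ1 : μ ≠ 1 := by
        intro h
        rw [h, orderOf_one] at hμ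
        omega
      rcases sq_eq_one_iff.mp h2 with h | h
      · exact absurd h hμ1
      · rw [h, neg_neg, one_pow, one_pow, one_mul]
    · refine ⟨1, one_ne_zero, ?_⟩
      have hab' : a ≤ b := by omega
      have hdvd : 2 ^ a ∣ m := by
        rw [hmb]
        exact Dvd.dvd.mul_right (pow_dvd_pow 2 hab') _
      have h1 : μ ^ m = 1 := by
        rw [← orderOf_dvd_iff_pow_eq_one, hμ]; exact hdvd
      have hev : Even m := by
        have : 2 ∣ m := dvd_trans (dvd_pow_self 2 (by omega)) hdvd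
        exact even_iff_two_dvd.mpr this
      rw [one_pow, one_mul, neg_pow, hev.neg_one_pow, one_mul, h1]

end Cfsg.Agent.S2576
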