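import Cfsg.Statements.S5957
import Mathlib

set_option autoImplicit false
open Cfsg

namespace Cfsg.Agent.S5957

open Module

universe u

section structure_thm
variable {F : Type*} [Field F]

/-- a basis of `V` adapted to an operator `X` with `X² = z`: pairs `(u, X u)` and eigenvectors. -/
structure Adapted {V : Type u} [AddCommGroup V] [Module F V] (X : V →ₗ[F] V) (z : F)
    (S M : Type) where
  b : Basis ((S × Fin 2) ⊕ M) F V
  h0 : ∀ i, X (b (Sum.inl (i, 0))) = b (Sum.inl (i, 1))
  h1 : ∀ i, X (b (Sum.inl (i, 1))) = z • b (Sum.inl (i, 0))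
  hM : ∀ k, ∃ μ : F, X (b (Sum.inr k)) = μ • b (Sum.inr k)

/-- re-indexing used in the inductive step. -/
def eFun {S M : Type} : ((Option S × Fin 2) ⊕ M) → (Fin 2 ⊕ ((S × Fin 2) ⊕ M))
  | Sum.inl (none, c) => Sum.inl c
  | Sum.inl (some i, c) => Sum.inr (Sum.inl (i, c))
  | Sum.inr k => Sum.inr (Sum.inr k)

def eInv {S M : Type} : (Fin 2 ⊕ ((S × Fin 2) ⊕ M)) → ((Option S × Fin 2) ⊕ M)
  | Sum.inl c => Sum.inl (none, c)
  | Sum.inr (Sum.inl (i, c)) => Sum.inl (some i, c)
  | Sum.inr (Sum.inr k) => Sum.inr k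

def eEquiv (S M : Type) : ((Option S × Fin 2) ⊕ M) ≃ (Fin 2 ⊕ ((S × Fin 2) ⊕ M)) where
  toFun := eFun
  invFun := eInv
  left_inv := by rintro (⟨_ | i, c⟩ | k) <;> rfl
  right_inv := by rintro (c | ⟨i, c⟩ | k) <;> rfl

theorem exists_adapted (d : ℕ) : ∀ (V : Type u) [AddCommGroup V] [Module F V]
    [FiniteDimensional F V] (X : V →ₗ[F] V) (z : F), (∀ v, X (X v) = z • v) → finrank F V = d →
    ∃ (S M : Type) (_ : Fintype S) (_ : Fintype M), Nonempty (Adapted X z S M) := by
  induction d using Nat.strong_induction_on with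
  | _ d ih =>
  intro V _ _ _ X z hX hd
  by_cases hall : ∀ v, ∃ μ : F, X v = μ • v
  · refine ⟨Empty, Fin (finrank F V), inferInstance, inferInstance,
      ⟨⟨(Module.finBasis F V).reindex (Equiv.emptySum (Empty × Fin 2) _).symm, ?_, ?_, ?_⟩⟩⟩
    · intro i; exact i.elim
    · intro i; exact i.elim
    · intro k; exact hall _
  · push Not at hall
    obtain ⟨v, hv⟩ := hall
    have hv0 : v ≠ 0 := by
      rintro rfl
      exact hv 0 (by simp)
    have hnot : X v ∉ Submodule.span F {v} := by
      intro h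
      obtain ⟨μ, hμ⟩ := Submodule.mem_span_singleton.mp h
      exact hv μ hμ.symm
    obtain ⟨f, hf1, hf2⟩ := Submodule.exists_dual_map_eq_bot_of_notMem hnot inferInstance
    have hfv : f v = 0 := by
      have : f v ∈ (Submodule.span F {v}).map f :=
        ⟨v, Submodule.mem_span_singleton_self v, rfl⟩
      rw [hf2] at this
      exact (Submodule.mem_bot F).mp this
    set W : Submodule F V := LinearMap.ker f ⊓ LinearMap.ker (f ∘ₗ X) with hW
    have hWmem : ∀ w, w ∈ W ↔ f w = 0 ∧ f (X w) = 0 := by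
      intro w
      rw [hW, Submodule.mem_inf, LinearMap.mem_ker, LinearMap.mem_ker, LinearMap.comp_apply]
    have hWinv : ∀ w ∈ W, X w ∈ W := by
      intro w hw
      rw [hWmem] at hw ⊢
      refine ⟨hw.2, ?_⟩
      rw [hX, map_smul, hw.1, smul_zero]
    have hli : LinearIndependent F ![v, X v] := by
      rw [LinearIndependent.pair_iff' hv0]
      intro a h
      exact hv a h.symm
    set P : Submodule F V := Submodule.span F (Set.range ![v, X v]) with hP
    have hPdim : finrank F P = 2 := by
      rw [hP, finrank_span_eq_card hli]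
      simp
    have hdisj : Disjoint P W := by
      rw [Submodule.disjoint_def]
      intro x hxP hxW
      rw [hP, Submodule.mem_span_range_iff_exists_fun] at hxP
      obtain ⟨c, rfl⟩ := hxP
      simp only [Fin.sum_univ_two, Matrix.cons_val_zero, Matrix.cons_val_one] at hxW ⊢
      rw [hWmem] at hxW
      obtain ⟨h1, h2⟩ := hxW
      simp only [map_add, map_smul, hfv, hX, smul_eq_mul, mul_zero, zero_add, add_zero] at h1 h2
      have hc1 : c 1 = 0 := by
        rcases mul_eq_zero.mp h1 with h | h
        · exact h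
        · exact absurd h hf1
      have hc0 : c 0 = 0 := by
        rcases mul_eq_zero.mp h2 with h | h
        · exact h
        · exact absurd h hf1
      rw [hc0, hc1, zero_smul, zero_smul, add_zero]
    have hWdim : d ≤ 2 + finrank F W := by
      let g : V →ₗ[F] F × F := f.prod (f ∘ₗ X)
      have hk : LinearMap.ker g = W := by
        ext w
        rw [hWmem, LinearMap.mem_ker]
        show (f w, f (X w)) = 0 ↔ _
        rw [Prod.mk_eq_zero]
      have h1 := LinearMap.finrank_range_add_finrank_ker g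
      have h2 : finrank F (LinearMap.range g) ≤ 2 := by
        calc finrank F (LinearMap.range g) ≤ finrank F (F × F) := Submodule.finrank_le _
          _ = 2 := by simp
      rw [hk] at h1
      omega
    have hle := Submodule.finrank_add_finrank_le_of_disjoint hdisj
    have hsup : P ⊔ W = ⊤ := Submodule.eq_top_of_disjoint P W (by omega) hdisj
    have hc : IsCompl P W := ⟨hdisj, codisjoint_iff.mpr hsup⟩
    have hWlt : finrank F W < d := by omega
    obtain ⟨S, M, _, _, ⟨A⟩⟩ := ih (finrank F W) hWlt W (X.restrict hWinv) z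
      (fun w => Subtype.ext (by
        rw [LinearMap.coe_restrict_apply, LinearMap.coe_restrict_apply, hX]
        rfl)) rfl
    let bP : Basis (Fin 2) F P := Basis.span hli
    let b0 : Basis (Fin 2 ⊕ ((S × Fin 2) ⊕ M)) F V :=
      (bP.prod A.b).map (Submodule.prodEquivOfIsCompl P W hc)
    have hb0l : ∀ c, b0 (Sum.inl c) = ![v, X v] c := by
      intro c
      simp only [b0, bP, Basis.map_apply, Basis.prod_apply, Sum.elim_inl, Function.comp_apply,
        LinearMap.inl_apply, Submodule.coe_prodEquivOfIsCompl', Submodule.coe_zero, add_zero]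
      exact congrArg Subtype.val (Basis.span_apply hli c)
    have hb0r : ∀ x, b0 (Sum.inr x) = (A.b x : V) := by
      intro x
      simp [b0]
    refine ⟨Option S, M, inferInstance, inferInstance,
      ⟨⟨b0.reindex (eEquiv S M).symm, ?_, ?_, ?_⟩⟩⟩
    · rintro (_ | i)
      · rw [Basis.reindex_apply, Basis.reindex_apply, Equiv.symm_symm]
        show X (b0 (Sum.inl 0)) = b0 (Sum.inl 1)
        rw [hb0l, hb0l]
        rfl
      · rw [Basis.reindex_apply, Basis.reindex_apply, Equiv.symm_symm]
        show X (b0 (Sum.inr (Sum.inl (i, 0)))) = b0 (Sum.inr (Sum.inl (i, 1)))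
        rw [hb0r, hb0r, ← A.h0 i]
        rfl
    · rintro (_ | i)
      · rw [Basis.reindex_apply, Basis.reindex_apply, Equiv.symm_symm]
        show X (b0 (Sum.inl 1)) = z • b0 (Sum.inl 0)
        rw [hb0l, hb0l]
        exact hX v
      · rw [Basis.reindex_apply, Basis.reindex_apply, Equiv.symm_symm]
        show X (b0 (Sum.inr (Sum.inl (i, 1)))) = z • b0 (Sum.inr (Sum.inl (i, 0)))
        rw [hb0r, hb0r]
        have := congrArg Subtype.val (A.h1 i)
        exact this
    · intro k
      obtain ⟨μ, hμ⟩ := A.hM k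
      refine ⟨μ, ?_⟩
      rw [Basis.reindex_apply, Equiv.symm_symm]
      show X (b0 (Sum.inr (Sum.inr k))) = μ • b0 (Sum.inr (Sum.inr k))
      rw [hb0r]
      exact congrArg Subtype.val hμ

end structure_thm

section blocks
variable {F : Type*} [Field F] {V : Type*} [AddCommGroup V] [Module F V]
variable {ι J : Type*}

/-- the span of the basis vectors in the block `j`. -/
def blockSpan (b : Basis ι F V) (blk : ι → J) (j : J) : Submodule F V :=
  Submodule.span F (Set.range (fun i : {i // blk i = j} => b i.1))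

theorem mem_blockSpan (b : Basis ι F V) (blk : ι → J) (i : ι) :
    b i ∈ blockSpan b blk (blk i) :=
  Submodule.subset_span ⟨⟨i, rfl⟩, rfl⟩

theorem repr_eq_zero_of_mem (b : Basis ι F V) (blk : ι → J) {j : J} {v : V}
    (hv : v ∈ blockSpan b blk j) {i : ι} (hi : blk i ≠ j) : b.repr v i = 0 := by
  classical
  induction hv using Submodule.span_induction with
  | mem x hx =>
    obtain ⟨⟨i', hi'⟩, rfl⟩ := hx
    simp only [Basis.repr_self]
    rw [Finsupp.single_apply, if_neg]
    rintro rfl
    exact hi hi'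
  | zero => simp
  | add x y _ _ hx hy => simp [hx, hy]
  | smul c x _ hx => simp [hx]

theorem iSupIndep_blockSpan (b : Basis ι F V) (blk : ι → J) : iSupIndep (blockSpan b blk) := by
  classical
  intro j
  rw [Submodule.disjoint_def]
  intro v hv1 hv2
  let E' : Submodule F V :=
    { carrier := {w | ∀ i, blk i = j → b.repr w i = 0}
      add_mem' := by
        intro x y hx hy i hi
        simp [hx i hi, hy i hi]
      zero_mem' := by
        intro i _
        simp
      smul_mem' := by
        intro c x hx i hi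
        simp [hx i hi] }
  have hle : (⨆ (k) (_ : k ≠ j), blockSpan b blk k) ≤ E' :=
    iSup₂_le (fun k hk w hw i hi => repr_eq_zero_of_mem b blk hw (by rw [hi]; exact hk.symm))
  have h2 : ∀ i, blk i = j → b.repr v i = 0 := hle hv2
  have h3 : b.repr v = 0 := by
    ext i
    by_cases hi : blk i = j
    · exact h2 i hi
    · exact repr_eq_zero_of_mem b blk hv1 hi
  exact (LinearEquiv.map_eq_zero_iff _).mp h3

theorem iSup_blockSpan (b : Basis ι F V) (blk : ι → J) : ⨆ j, blockSpan b blk j = ⊤ := by
  rw [eq_top_iff, ← b.span_eq, Submodule.span_le]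
  rintro _ ⟨i, rfl⟩
  exact (le_iSup (blockSpan b blk) (blk i)) (mem_blockSpan b blk i)

theorem finrank_blockSpan (b : Basis ι F V) (blk : ι → J) (j : J) [Fintype {i // blk i = j}] :
    finrank F (blockSpan b blk j) = Fintype.card {i // blk i = j} :=
  finrank_span_eq_card (b.linearIndependent.comp _ Subtype.val_injective)

theorem map_blockSpan_le (b : Basis ι F V) (blk : ι → J) (X : V →ₗ[F] V) (j j' : J)
    (h : ∀ i, blk i = j → X (b i) ∈ blockSpan b blk j') :
    (blockSpan b blk j).map X ≤ blockSpan b blk j' := by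
  rw [blockSpan, Submodule.map_span, Submodule.span_le]
  rintro _ ⟨_, ⟨⟨i, hi⟩, rfl⟩, rfl⟩
  exact h i hi

end blocks

section numerology

theorem numerology (a t s m : ℕ) (ha : 1 ≤ a) (h : 2 * s + m = a * t) :
    ∃ q r t' : ℕ, s = q * a + r ∧ t = 2 * q + t' ∧ r ≤ t' * (a / 2) ∧ a * t' = 2 * r + m := by
  rcases Nat.even_or_odd' a with ⟨c, hc | hc⟩
  · refine ⟨0, s, t, by ring, by ring, ?_, by omega⟩
    have h1 : a / 2 = c := by omega
    rw [h1]
    have h2 : a * t = 2 * (t * c) := by rw [hc]; ring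
    omega
  · have hac : a / 2 = c := by omega
    have hdm := Nat.div_add_mod s a
    have hmod : s % a < a := Nat.mod_lt _ (by omega)
    have h2q : 2 * (s / a) ≤ t := by
      have : a * (2 * (s / a)) ≤ a * t := by
        have : a * (2 * (s / a)) = 2 * (a * (s / a)) := by ring
        omega
      exact Nat.le_of_mul_le_mul_left this (by omega)
    obtain ⟨t', ht'⟩ : ∃ t', t = 2 * (s / a) + t' := ⟨t - 2 * (s / a), by omega⟩
    have hat' : a * t' = 2 * (s % a) + m := by
      have : a * t = 2 * (a * (s / a)) + a * t' := by rw [ht']; ring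
      omega
    refine ⟨s / a, s % a, t', by rw [mul_comm]; omega, ht', ?_, hat'⟩
    rw [hac]
    rcases t' with _ | _ | t'
    · omega
    · omega
    · have : 2 * c ≤ (t' + 1 + 1) * c := Nat.mul_le_mul_right c (by omega)
      omega

theorem exists_distribution (t' c : ℕ) : ∀ r : ℕ, r ≤ t' * c →
    ∃ p : Fin t' → ℕ, (∀ j, p j ≤ c) ∧ ∑ j, p j = r := by
  induction t' with
  | zero =>
    intro r hr
    refine ⟨Fin.elim0, fun j => j.elim0, ?_⟩
    simp at hr ⊢
    omega
  | succ t' ih =>
    intro r hr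
    have hr' : r - min r c ≤ t' * c := by
      have : (t' + 1) * c = t' * c + c := by ring
      rcases le_total r c with h | h
      · rw [min_eq_left h]; omega
      · rw [min_eq_right h]; omega
    obtain ⟨p', hp1, hp2⟩ := ih (r - min r c) hr'
    refine ⟨Fin.cons (min r c) p', ?_, ?_⟩
    · intro j
      refine Fin.cases ?_ (fun j' => ?_) j
      · simp
      · simpa using hp1 j'
    · rw [Fin.sum_univ_succ]
      simp only [Fin.cons_zero, Fin.cons_succ, hp2]
      have : min r c ≤ r := min_le_left _ _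
      omega

end numerology

section index

/-- pairs: `q * a` "vertical" ones and `p j` "horizontal" ones in the block `j`. -/
abbrev S0 (q a t' : ℕ) (p : Fin t' → ℕ) : Type := (Fin q × Fin a) ⊕ (Σ j : Fin t', Fin (p j))

/-- singles. -/
abbrev M0 (a t' : ℕ) (p : Fin t' → ℕ) : Type := Σ j : Fin t', Fin (a - 2 * p j)

/-- the index set of the adapted basis. -/
abbrev Idx (q a t' : ℕ) (p : Fin t' → ℕ) : Type := (S0 q a t' p × Fin 2) ⊕ M0 a t' p

/-- the index set of the blocks. -/
abbrev JJ (q t' : ℕ) : Type := (Fin q × Fin 2) ⊕ Fin t'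

/-- the block of an index. -/
def blk {q a t' : ℕ} {p : Fin t' → ℕ} : Idx q a t' p → JJ q t'
  | Sum.inl (Sum.inl (g, _), c) => Sum.inl (g, c)
  | Sum.inl (Sum.inr ⟨j, _⟩, _) => Sum.inr j
  | Sum.inr ⟨j, _⟩ => Sum.inr j

/-- the permutation of the blocks. -/
def sig (q t' : ℕ) : Equiv.Perm (JJ q t') :=
  Equiv.sumCongr (Equiv.prodCongr (Equiv.refl _) (Equiv.swap 0 1)) (Equiv.refl _)

theorem blk_flip {q a t' : ℕ} {p : Fin t' → ℕ} (i : S0 q a t' p) (c : Fin 2) :
    blk (Sum.inl (i, Equiv.swap 0 1 c) : Idx q a t' p) = sig q t' (blk (Sum.inl (i, c))) := by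
  rcases i with ⟨g, k⟩ | ⟨j, k⟩
  · rfl
  · rfl

theorem blk_single {q a t' : ℕ} {p : Fin t' → ℕ} (k : M0 a t' p) :
    blk (Sum.inr k : Idx q a t' p) = sig q t' (blk (Sum.inr k : Idx q a t' p)) := by
  rcases k with ⟨j, k⟩
  rfl

theorem card_fiber {q a t' : ℕ} {p : Fin t' → ℕ} (hp : ∀ j, 2 * p j ≤ a) (j : JJ q t') :
    Fintype.card {i : Idx q a t' p // blk i = j} = a := by
  classical
  rcases j with ⟨g, c⟩ | j
  · let f : Fin a → {i : Idx q a t' p // blk i = Sum.inl (g, c)} :=
      fun k => ⟨Sum.inl (Sum.inl (g, k), c), rfl⟩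
    have hf : Function.Bijective f := by
      constructor
      · intro k k' h
        have := congrArg Subtype.val h
        simpa [f] using this
      · rintro ⟨i, hi⟩
        rcases i with ⟨⟨g', k⟩ | ⟨j, k⟩, c'⟩ | ⟨j, k⟩
        · simp only [blk, Sum.inl.injEq, Prod.mk.injEq] at hi
          obtain ⟨rfl, rfl⟩ := hi
          exact ⟨k, rfl⟩
        · simp [blk] at hi
        · simp [blk] at hi
    rw [← Fintype.card_congr (Equiv.ofBijective f hf), Fintype.card_fin]
  · let f : (Fin (p j) × Fin 2) ⊕ Fin (a - 2 * p j) → {i : Idx q a t' p // blk i = Sum.inr j} :=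
      fun y => match y with
        | Sum.inl (k, c) => ⟨Sum.inl (Sum.inr ⟨j, k⟩, c), rfl⟩
        | Sum.inr k => ⟨Sum.inr ⟨j, k⟩, rfl⟩
    have hf : Function.Bijective f := by
      constructor
      · rintro (⟨k, c⟩ | k) (⟨k', c'⟩ | k') h
        · have := congrArg Subtype.val h
          simp only [f, Sum.inl.injEq, Prod.mk.injEq, Sum.inr.injEq, Sigma.mk.injEq, heq_eq_eq,
            true_and] at this
          rw [this.1, this.2]
        · have := congrArg Subtype.val h
          simp [f] at this
        · have := congrArg Subtype.val h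
          simp [f] at this
        · have := congrArg Subtype.val h
          simp only [f, Sum.inr.injEq, Sigma.mk.injEq, heq_eq_eq, true_and] at this
          rw [this]
      · rintro ⟨i, hi⟩
        rcases i with ⟨⟨g', k⟩ | ⟨j', k⟩, c'⟩ | ⟨j', k⟩
        · simp [blk] at hi
        · simp only [blk, Sum.inr.injEq] at hi
          subst hi
          exact ⟨Sum.inl (k, c'), rfl⟩
        · simp only [blk, Sum.inr.injEq] at hi
          subst hi
          exact ⟨Sum.inr k, rfl⟩
    rw [← Fintype.card_congr (Equiv.ofBijective f hf)]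
    simp only [Fintype.card_sum, Fintype.card_prod, Fintype.card_fin]
    have := hp j
    omega

end index

section main
variable {F : Type*} [Field F]

theorem main_abstract {V : Type u} [AddCommGroup V] [Module F V] [FiniteDimensional F V]
    (X : V →ₗ[F] V) (z : F) (hX : ∀ v, X (X v) = z • v) (hinj : Function.Injective X)
    (a t : ℕ) (ha : 1 ≤ a) (hdim : finrank F V = a * t) :
    ∃ D : Fin t → Submodule F V, (∀ j, finrank F (D j) = a) ∧ iSupIndep D ∧ iSup D = ⊤ ∧
      ∃ σ : Equiv.Perm (Fin t), ∀ j, (D j).map X = D (σ j) := by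
  classical
  obtain ⟨S, M, _, _, ⟨A⟩⟩ := exists_adapted (finrank F V) V X z hX rfl
  have hcard : 2 * Fintype.card S + Fintype.card M = a * t := by
    rw [← hdim, finrank_eq_card_basis A.b]
    simp only [Fintype.card_sum, Fintype.card_prod, Fintype.card_fin]
    ring
  obtain ⟨q, r, t', hs, ht, hr, hat'⟩ := numerology a t _ _ ha hcard
  obtain ⟨p, hp1, hp2⟩ := exists_distribution t' (a / 2) r hr
  have hp : ∀ j, 2 * p j ≤ a := fun j => by
    have := hp1 j
    omega
  have hS : Fintype.card S = Fintype.card (S0 q a t' p) := by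
    simp only [Fintype.card_sum, Fintype.card_prod, Fintype.card_fin, Fintype.card_sigma, hp2]
    rw [hs]
  have hM : Fintype.card M = Fintype.card (M0 a t' p) := by
    simp only [Fintype.card_sigma, Fintype.card_fin]
    have h1 : ∑ j : Fin t', (a - 2 * p j) + 2 * ∑ j, p j = t' * a := by
      rw [Finset.mul_sum, ← Finset.sum_add_distrib]
      rw [Finset.sum_congr rfl (fun j _ => Nat.sub_add_cancel (hp j))]
      simp
    rw [hp2] at h1
    have : a * t' = t' * a := mul_comm _ _
    omega
  let eS : S ≃ S0 q a t' p := Fintype.equivOfCardEq hS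
  let eM : M ≃ M0 a t' p := Fintype.equivOfCardEq hM
  let b' : Basis (Idx q a t' p) F V :=
    A.b.reindex (Equiv.sumCongr (Equiv.prodCongr eS (Equiv.refl _)) eM)
  have hb'l : ∀ i c, b' (Sum.inl (i, c)) = A.b (Sum.inl (eS.symm i, c)) := by
    intro i c
    simp [b', Basis.reindex_apply]
  have hb'r : ∀ k, b' (Sum.inr k) = A.b (Sum.inr (eM.symm k)) := by
    intro k
    simp [b', Basis.reindex_apply]
  have hcompat : ∀ i : Idx q a t' p, X (b' i) ∈ blockSpan b' blk (sig q t' (blk i)) := by
    rintro (⟨i, c⟩ | k)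
    · have hc : c = 0 ∨ c = 1 := by
        fin_cases c <;> simp
      rcases hc with rfl | rfl
      · rw [hb'l, A.h0, ← hb'l, ← blk_flip, Equiv.swap_apply_left]
        exact mem_blockSpan _ _ _
      · rw [hb'l, A.h1, ← hb'l, ← blk_flip, Equiv.swap_apply_right]
        exact Submodule.smul_mem _ _ (mem_blockSpan _ _ _)
    · obtain ⟨μ, hμ⟩ := A.hM (eM.symm k)
      rw [hb'r, hμ, ← hb'r, ← blk_single]
      exact Submodule.smul_mem _ _ (mem_blockSpan _ _ _)
  have hfin : ∀ j, finrank F (blockSpan b' blk j) = a := fun j => by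
    rw [finrank_blockSpan, card_fiber hp]
  have hmap : ∀ j, (blockSpan b' blk j).map X = blockSpan b' blk (sig q t' j) := by
    intro j
    apply Submodule.eq_of_le_of_finrank_eq
    · exact map_blockSpan_le b' blk X j _ (fun i hi => by rw [← hi]; exact hcompat i)
    · rw [hfin, ← (Submodule.equivMapOfInjective X hinj _).finrank_eq, hfin]
  have hJ : Fintype.card (Fin t) = Fintype.card (JJ q t') := by
    simp only [Fintype.card_sum, Fintype.card_prod, Fintype.card_fin]
    rw [ht]
    ring
  let ε : Fin t ≃ JJ q t' := Fintype.equivOfCardEq hJ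
  refine ⟨fun j => blockSpan b' blk (ε j), fun j => hfin _, ?_, ?_,
    ⟨ε.trans ((sig q t').trans ε.symm), ?_⟩⟩
  · exact (iSupIndep_blockSpan b' blk).comp ε.injective
  · rw [← iSup_blockSpan b' blk]
    exact ε.iSup_comp (g := blockSpan b' blk)
  · intro j
    simp only [Equiv.trans_apply, Equiv.apply_symm_apply]
    exact hmap _

end main

theorem result {F : Type*} [Field F] [Fintype F] {p : ℕ} [Fact p.Prime] [CharP F p] {q : ℕ} (hq : Fintype.card F = q)
    (n a t : ℕ) (hn : 2 ≤ n) (hT : (n, q) ≠ (2, 2) ∧ (n, q) ≠ (2, 3)) (hat : n = a * t) (ha : 1 ≤ a) (ht : 2 ≤ t)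
    (hΩ : 2 ∣ Nat.card {D : Fin t → Submodule F (Fin n → F) // Cfsg.Geo.IsMDecomposition a D} / Nat.factorial t)
    (x : Matrix.SpecialLinearGroup (Fin n) F)
    (hx1 : ∃ z : F, ((x ^ 2 : Matrix.SpecialLinearGroup (Fin n) F) : Matrix (Fin n) (Fin n) F) = z • (1 : Matrix (Fin n) (Fin n) F))
    (hx2 : ∀ z : F, (x : Matrix (Fin n) (Fin n) F) ≠ z • (1 : Matrix (Fin n) (Fin n) F)) :
    ∃ D : Fin t → Submodule F (Fin n → F), Cfsg.Geo.IsMDecomposition a D ∧
        ∃ σ : Equiv.Perm (Fin t), ∀ j, (D j).map (Matrix.toLin' (x : Matrix (Fin n) (Fin n) F)) = D (σ j) := by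
  obtain ⟨z, hz⟩ := hx1
  have hX : ∀ v, Matrix.toLin' (x : Matrix (Fin n) (Fin n) F)
      (Matrix.toLin' (x : Matrix (Fin n) (Fin n) F) v) = z • v := by
    intro v
    rw [Matrix.toLin'_apply, Matrix.toLin'_apply, Matrix.mulVec_mulVec]
    have : (x : Matrix (Fin n) (Fin n) F) * (x : Matrix (Fin n) (Fin n) F) = z • 1 := by
      rw [← hz, pow_two, Matrix.SpecialLinearGroup.coe_mul]
    rw [this, Matrix.smul_mulVec, Matrix.one_mulVec]
  have hinj : Function.Injective (Matrix.toLin' (x : Matrix (Fin n) (Fin n) F)) := by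
    apply Function.LeftInverse.injective
      (g := Matrix.toLin' ((x⁻¹ : Matrix.SpecialLinearGroup (Fin n) F) : Matrix (Fin n) (Fin n) F))
    intro v
    rw [Matrix.toLin'_apply, Matrix.toLin'_apply, Matrix.mulVec_mulVec,
      ← Matrix.SpecialLinearGroup.coe_mul, inv_mul_cancel, Matrix.SpecialLinearGroup.coe_one,
      Matrix.one_mulVec]
  have hdim : finrank F (Fin n → F) = a * t := by
    rw [Module.finrank_fintype_fun_eq_card, Fintype.card_fin, hat]
  obtain ⟨D, hfin, hind, hsup, σ, hσ⟩ := main_abstract _ z hX hinj a t ha hdim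
  exact ⟨D, ⟨ht, ha, hfin, hind, hsup⟩, σ, hσ⟩

end Cfsg.Agent.S5957
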