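import Cfsg.Statements.S2577
import Cfsg.Agent.S5957
import Mathlib

set_option autoImplicit false
open Cfsg

namespace Cfsg.Agent.S2577

open Module

universe u

section lin
variable {F : Type*} [Field F] {V : Type u} [AddCommGroup V] [Module F V]

/-- the eigenspace. -/
def Eig (X : V →ₗ[F] V) (μ : F) : Submodule F V := LinearMap.ker (X - μ • LinearMap.id)

theorem mem_Eig {X : V →ₗ[F] V} {μ : F} {v : V} : v ∈ Eig X μ ↔ X v = μ • v := by
  rw [Eig, LinearMap.mem_ker, LinearMap.sub_apply, LinearMap.smul_apply, LinearMap.id_apply,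
    sub_eq_zero]

theorem isCompl_Eig (h2 : (2 : F) ≠ 0) {μ : F} (hμ : μ ≠ 0) (X : V →ₗ[F] V)
    (hX : ∀ v, X (X v) = (μ * μ) • v) : IsCompl (Eig X μ) (Eig X (-μ)) := by
  constructor
  · rw [Submodule.disjoint_def]
    intro v hv1 hv2
    rw [mem_Eig] at hv1 hv2
    have h3 : (2 * μ) • v = 0 := by
      have : μ • v = (-μ) • v := by rw [← hv1, ← hv2]
      rw [neg_smul] at this
      rw [two_mul, add_smul]
      nth_rewrite 2 [this]
      rw [add_neg_cancel]
    rcases smul_eq_zero.mp h3 with h | h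
    · exact absurd h (mul_ne_zero h2 hμ)
    · exact h
  · rw [codisjoint_iff, eq_top_iff]
    intro v _
    have h2μ : (2 * μ) ≠ 0 := mul_ne_zero h2 hμ
    rw [Submodule.mem_sup]
    refine ⟨(2 * μ)⁻¹ • (X v + μ • v), ?_, (2 * μ)⁻¹ • (μ • v - X v), ?_, ?_⟩
    · apply Submodule.smul_mem
      rw [mem_Eig, map_add, map_smul, hX, smul_add, smul_smul]
      abel
    · apply Submodule.smul_mem
      rw [mem_Eig, map_sub, map_smul, hX, smul_sub, smul_smul]
      simp only [neg_mul, neg_smul]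
      abel
    · rw [← smul_add]
      have : X v + μ • v + (μ • v - X v) = (2 * μ) • v := by
        rw [two_mul, add_smul]
        abel
      rw [this, smul_smul, inv_mul_cancel₀ h2μ, one_smul]

variable [FiniteDimensional F V]

theorem finrank_Eig_le {X Y : V →ₗ[F] V} (T : V ≃ₗ[F] V) (c : F)
    (h : ∀ v, Y (T v) = c • T (X v)) (μ : F) :
    finrank F (Eig X μ) ≤ finrank F (Eig Y (c * μ)) := by
  have hle : (Eig X μ).map (T : V →ₗ[F] V) ≤ Eig Y (c * μ) := by
    rintro _ ⟨v, hv, rfl⟩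
    rw [SetLike.mem_coe, mem_Eig] at hv
    rw [mem_Eig]
    show Y (T v) = _
    rw [h, hv, map_smul, smul_smul]
    rfl
  calc finrank F (Eig X μ) = finrank F ((Eig X μ).map (T : V →ₗ[F] V)) :=
        (LinearEquiv.finrank_map_eq T (Eig X μ)).symm
    _ ≤ finrank F (Eig Y (c * μ)) := Submodule.finrank_mono hle

theorem finrank_Eig_eq {X Y : V →ₗ[F] V} (T : V ≃ₗ[F] V) {c : F} (hc : c ≠ 0)
    (h : ∀ v, Y (T v) = c • T (X v)) (μ : F) :
    finrank F (Eig Y (c * μ)) = finrank F (Eig X μ) := by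
  apply le_antisymm
  · have h' : ∀ w, X (T.symm w) = c⁻¹ • T.symm (Y w) := by
      intro w
      have h1 := h (T.symm w)
      rw [LinearEquiv.apply_symm_apply] at h1
      rw [h1, map_smul, LinearEquiv.symm_apply_apply, smul_smul, inv_mul_cancel₀ hc, one_smul]
    have := finrank_Eig_le T.symm c⁻¹ h' (c * μ)
    rwa [← mul_assoc, inv_mul_cancel₀ hc, one_mul] at this
  · exact finrank_Eig_le T c h μ

theorem conj_of_finrank_eq (h2 : (2 : F) ≠ 0) {μ ν : F} (hμ : μ ≠ 0) (hν : ν ≠ 0)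
    (X Y : V →ₗ[F] V) (hX : ∀ v, X (X v) = (μ * μ) • v) (hY : ∀ v, Y (Y v) = (ν * ν) • v)
    (h : finrank F (Eig X μ) = finrank F (Eig Y ν)) :
    ∃ T : V ≃ₗ[F] V, ∀ v, Y (T v) = (ν * μ⁻¹) • T (X v) := by
  have cX := isCompl_Eig h2 hμ X hX
  have cY := isCompl_Eig h2 hν Y hY
  have h' : finrank F (Eig X (-μ)) = finrank F (Eig Y (-ν)) := by
    have h3 := Submodule.finrank_add_eq_of_isCompl cX
    have h4 := Submodule.finrank_add_eq_of_isCompl cY
    omega
  let e₁ : Eig X μ ≃ₗ[F] Eig Y ν := LinearEquiv.ofFinrankEq _ _ h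
  let e₂ : Eig X (-μ) ≃ₗ[F] Eig Y (-ν) := LinearEquiv.ofFinrankEq _ _ h'
  let T : V ≃ₗ[F] V := (Submodule.prodEquivOfIsCompl _ _ cX).symm.trans
    ((e₁.prodCongr e₂).trans (Submodule.prodEquivOfIsCompl _ _ cY))
  have hT1 : ∀ v : Eig X μ, T v = (e₁ v : V) := by
    intro v
    simp [T]
  have hT2 : ∀ v : Eig X (-μ), T v = (e₂ v : V) := by
    intro v
    simp [T]
  refine ⟨T, ?_⟩
  intro v
  obtain ⟨v₁, v₂, rfl⟩ : ∃ v₁ : Eig X μ, ∃ v₂ : Eig X (-μ), (v₁ : V) + v₂ = v := by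
    obtain ⟨⟨a, b⟩, hab⟩ := (Submodule.prodEquivOfIsCompl _ _ cX).surjective v
    exact ⟨a, b, by simpa using hab⟩
  have hv1 := mem_Eig.mp v₁.2
  have hv2 := mem_Eig.mp v₂.2
  have hw1 := mem_Eig.mp (e₁ v₁).2
  have hw2 := mem_Eig.mp (e₂ v₂).2
  have e1 : ν * μ⁻¹ * μ = ν := by field_simp
  have e2 : ν * μ⁻¹ * -μ = -ν := by field_simp
  have hX12 : X ((v₁ : V) + v₂) = μ • (v₁ : V) + (-μ) • (v₂ : V) := by rw [map_add, hv1, hv2]
  have hT12 : T ((v₁ : V) + v₂) = (e₁ v₁ : V) + (e₂ v₂ : V) := by rw [map_add, hT1, hT2]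
  rw [hX12, hT12, map_add, hw1, hw2, map_add, map_smul, map_smul, hT1, hT2, smul_add, smul_smul,
    smul_smul, e1, e2]

theorem conj_of_no_eig (z : F) (X Y : V →ₗ[F] V) (hX : ∀ v, X (X v) = z • v)
    (hY : ∀ v, Y (Y v) = z • v) (hno : ∀ μ : F, μ * μ ≠ z) :
    (∃ T : V ≃ₗ[F] V, ∀ v, Y (T v) = T (X v)) ∧ Even (finrank F V) := by
  classical
  obtain ⟨S, M, _, _, ⟨A⟩⟩ := Cfsg.Agent.S5957.exists_adapted (finrank F V) V X z hX rfl
  obtain ⟨S', M', _, _, ⟨A'⟩⟩ := Cfsg.Agent.S5957.exists_adapted (finrank F V) V Y z hY rfl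
  have key : ∀ (W : V →ₗ[F] V) (hW : ∀ v, W (W v) = z • v) (b : V) (hb : b ≠ 0) (μ : F),
      W b ≠ μ • b := by
    intro W hW b hb μ hμ
    have h1 := hW b
    rw [hμ, map_smul, hμ, smul_smul] at h1
    have h2 : (μ * μ - z) • b = 0 := by rw [sub_smul, h1, sub_self]
    rcases smul_eq_zero.mp h2 with h | h
    · exact hno μ (by linear_combination h)
    · exact hb h
  have hM : IsEmpty M := ⟨fun k => by
    obtain ⟨μ, hμ⟩ := A.hM k
    exact key X hX _ (A.b.ne_zero _) μ hμ⟩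
  have hM' : IsEmpty M' := ⟨fun k => by
    obtain ⟨μ, hμ⟩ := A'.hM k
    exact key Y hY _ (A'.b.ne_zero _) μ hμ⟩
  have hc : finrank F V = 2 * Fintype.card S := by
    rw [finrank_eq_card_basis A.b]
    simp only [Fintype.card_sum, Fintype.card_prod, Fintype.card_fin, Fintype.card_eq_zero]
    ring
  have hc' : finrank F V = 2 * Fintype.card S' := by
    rw [finrank_eq_card_basis A'.b]
    simp only [Fintype.card_sum, Fintype.card_prod, Fintype.card_fin, Fintype.card_eq_zero]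
    ring
  refine ⟨?_, ⟨Fintype.card S, by omega⟩⟩
  let e : S ≃ S' := Fintype.equivOfCardEq (by omega)
  let eM : M ≃ M' := Equiv.equivOfIsEmpty M M'
  let T : V ≃ₗ[F] V := A.b.equiv A'.b (Equiv.sumCongr (Equiv.prodCongr e (Equiv.refl _)) eM)
  refine ⟨T, ?_⟩
  have hTl : ∀ s c, T (A.b (Sum.inl (s, c))) = A'.b (Sum.inl (e s, c)) := by
    intro s c
    simp [T, Basis.equiv_apply]
  have : (Y ∘ₗ (T : V →ₗ[F] V)) = ((T : V →ₗ[F] V) ∘ₗ X) := by
    apply A.b.ext
    rintro (⟨s, c⟩ | k)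
    · have hc2 : c = 0 ∨ c = 1 := by
        fin_cases c <;> simp
      rcases hc2 with rfl | rfl
      · show Y (T (A.b (Sum.inl (s, 0)))) = T (X (A.b (Sum.inl (s, 0))))
        rw [hTl, A.h0, A'.h0, hTl]
      · show Y (T (A.b (Sum.inl (s, 1)))) = T (X (A.b (Sum.inl (s, 1))))
        rw [hTl, A.h1, A'.h1, map_smul, hTl]
    · exact hM.elim k
  intro v
  exact congrArg (fun f : V →ₗ[F] V => f v) this

end lin

section typ
variable {F : Type*} [Field F] {V : Type u} [AddCommGroup V] [Module F V] [FiniteDimensional F V]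

open Classical in
/-- the invariant of an operator with `X² = z`: `0` if `z` is not a square, and the smaller
eigenspace dimension otherwise. -/
noncomputable def ty (X : V →ₗ[F] V) (z : F) : ℕ :=
  if h : IsSquare z then min (finrank F (Eig X h.choose)) (finrank F (Eig X (-h.choose))) else 0

theorem ty_of_sq (X : V →ₗ[F] V) {z μ : F} (hμ : z = μ * μ) :
    ty X z = min (finrank F (Eig X μ)) (finrank F (Eig X (-μ))) := by
  have h : IsSquare z := ⟨μ, hμ⟩
  rw [ty, dif_pos h]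
  have hc := h.choose_spec
  have h1 : (h.choose - μ) * (h.choose + μ) = 0 := by
    have : h.choose * h.choose = μ * μ := by rw [← hc, hμ]
    linear_combination this
  rcases mul_eq_zero.mp h1 with h2 | h2
  · have : h.choose = μ := by linear_combination h2
    rw [this]
  · have : h.choose = -μ := by linear_combination h2
    rw [this, neg_neg, min_comm]

theorem ty_of_nonsq (X : V →ₗ[F] V) {z : F} (hz : ¬ IsSquare z) : ty X z = 0 := by
  rw [ty, dif_neg hz]

theorem ty_conj {X Y : V →ₗ[F] V} (T : V ≃ₗ[F] V) {c : F} (hc : c ≠ 0)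
    (h : ∀ v, Y (T v) = c • T (X v)) (z : F) : ty Y (c * c * z) = ty X z := by
  by_cases hz : IsSquare z
  · obtain ⟨μ, hμ⟩ := hz
    have e : -(c * μ) = c * (-μ) := by ring
    rw [ty_of_sq X hμ, ty_of_sq Y (μ := c * μ) (by rw [hμ]; ring), finrank_Eig_eq T hc h μ, e,
      finrank_Eig_eq T hc h (-μ)]
  · have hz' : ¬ IsSquare (c * c * z) := by
      rintro ⟨r, hr⟩
      apply hz
      refine ⟨r / c, ?_⟩
      field_simp
      linear_combination hr
    rw [ty_of_nonsq X hz, ty_of_nonsq Y hz']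

theorem ty_range_sq (h2 : (2 : F) ≠ 0) {μ : F} (hμ : μ ≠ 0) (X : V →ₗ[F] V)
    (hX : ∀ v, X (X v) = (μ * μ) • v) (hns : ∀ c : F, ∃ v, X v ≠ c • v) :
    1 ≤ ty X (μ * μ) ∧ 2 * ty X (μ * μ) ≤ finrank F V := by
  rw [ty_of_sq X rfl]
  have cX := isCompl_Eig h2 hμ X hX
  have hsum := Submodule.finrank_add_eq_of_isCompl cX
  have key : ∀ ν : F, IsCompl (Eig X ν) (Eig X (-ν)) → 1 ≤ finrank F (Eig X ν) := by
    intro ν hc
    by_contra hlt
    have h0 : finrank F (Eig X ν) = 0 := by omega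
    have hbot : Eig X ν = ⊥ := Submodule.finrank_eq_zero.mp h0
    have htop : Eig X (-ν) = ⊤ := by
      have := hc.sup_eq_top
      rwa [hbot, bot_sup_eq] at this
    obtain ⟨v, hv⟩ := hns (-ν)
    apply hv
    have : v ∈ Eig X (-ν) := by rw [htop]; trivial
    exact mem_Eig.mp this
  have h1 := key μ cX
  have h2' := key (-μ) (by rw [neg_neg]; exact cX.symm)
  constructor
  · exact le_min h1 h2'
  · rcases le_total (finrank F (Eig X μ)) (finrank F (Eig X (-μ))) with h | h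
    · rw [min_eq_left h]; omega
    · rw [min_eq_right h]; omega

theorem conj_of_ty_eq (h2 : (2 : F) ≠ 0)
    (hF : ∀ z z' : F, z ≠ 0 → z' ≠ 0 → ¬ IsSquare z → ¬ IsSquare z' → ∃ c : F, c ≠ 0 ∧ z' = c * c * z)
    (X Y : V →ₗ[F] V) {z z' : F} (hz0 : z ≠ 0) (hz0' : z' ≠ 0)
    (hX : ∀ v, X (X v) = z • v) (hY : ∀ v, Y (Y v) = z' • v)
    (hnsX : ∀ c : F, ∃ v, X v ≠ c • v) (hnsY : ∀ c : F, ∃ v, Y v ≠ c • v)
    (hty : ty X z = ty Y z') :
    ∃ c : F, c ≠ 0 ∧ ∃ T : V ≃ₗ[F] V, ∀ v, Y (T v) = c • T (X v) := by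
  by_cases hz : IsSquare z <;> by_cases hz' : IsSquare z'
  · obtain ⟨μ, rfl⟩ := hz
    obtain ⟨ν, rfl⟩ := hz'
    have hμ : μ ≠ 0 := by rintro rfl; simp at hz0
    have hν : ν ≠ 0 := by rintro rfl; simp at hz0'
    have cX := isCompl_Eig h2 hμ X hX
    have cY := isCompl_Eig h2 hν Y hY
    have h3 := Submodule.finrank_add_eq_of_isCompl cX
    have h4 := Submodule.finrank_add_eq_of_isCompl cY
    rw [ty_of_sq X rfl, ty_of_sq Y rfl] at hty
    have hcases : finrank F (Eig X μ) = finrank F (Eig Y ν) ∨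
        finrank F (Eig X μ) = finrank F (Eig Y (-ν)) := by
      rcases le_total (finrank F (Eig X μ)) (finrank F (Eig X (-μ))) with h | h <;>
        rcases le_total (finrank F (Eig Y ν)) (finrank F (Eig Y (-ν))) with h' | h'
      · rw [min_eq_left h, min_eq_left h'] at hty; exact Or.inl hty
      · rw [min_eq_left h, min_eq_right h'] at hty; exact Or.inr hty
      · rw [min_eq_right h, min_eq_left h'] at hty; right; omega
      · rw [min_eq_right h, min_eq_right h'] at hty; left; omega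
    rcases hcases with h | h
    · obtain ⟨T, hT⟩ := conj_of_finrank_eq h2 hμ hν X Y hX hY h
      exact ⟨ν * μ⁻¹, mul_ne_zero hν (inv_ne_zero hμ), T, hT⟩
    · have hY' : ∀ v, Y (Y v) = (-ν * -ν) • v := by
        intro v; rw [hY, neg_mul_neg]
      obtain ⟨T, hT⟩ := conj_of_finrank_eq h2 hμ (neg_ne_zero.mpr hν) X Y hX hY' h
      exact ⟨-ν * μ⁻¹, mul_ne_zero (neg_ne_zero.mpr hν) (inv_ne_zero hμ), T, hT⟩
  · exfalso
    obtain ⟨μ, rfl⟩ := hz
    have hμ : μ ≠ 0 := by rintro rfl; simp at hz0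
    have := (ty_range_sq h2 hμ X hX hnsX).1
    rw [hty, ty_of_nonsq Y hz'] at this
    omega
  · exfalso
    obtain ⟨ν, rfl⟩ := hz'
    have hν : ν ≠ 0 := by rintro rfl; simp at hz0'
    have := (ty_range_sq h2 hν Y hY hnsY).1
    rw [← hty, ty_of_nonsq X hz] at this
    omega
  · obtain ⟨c, hc, rfl⟩ := hF z z' hz0 hz0' hz hz'
    have hX' : ∀ v, (c • X) ((c • X) v) = (c * c * z) • v := by
      intro v
      simp only [LinearMap.smul_apply, map_smul, hX, smul_smul]
      congr 1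
      ring
    have hno : ∀ μ : F, μ * μ ≠ c * c * z := fun μ h => hz' ⟨μ, h.symm⟩
    obtain ⟨⟨T, hT⟩, _⟩ := conj_of_no_eig (c * c * z) (c • X) Y hX' hY hno
    refine ⟨c, hc, T, fun v => ?_⟩
    rw [hT, LinearMap.smul_apply, map_smul]

end typ

section mat
variable {F : Type*} [Field F] {n : ℕ} [NeZero n]

/-- the operator of an invertible matrix. -/
noncomputable def L (A : GL (Fin n) F) : (Fin n → F) →ₗ[F] (Fin n → F) :=
  Matrix.toLin' (A : Matrix (Fin n) (Fin n) F)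

/-- the scalar `z` with `M * M = z • 1`. -/
def zOf (M : Matrix (Fin n) (Fin n) F) : F := (M * M) 0 0

theorem zOf_eq {M : Matrix (Fin n) (Fin n) F} {z : F} (h : M * M = z • 1) : zOf M = z := by
  rw [zOf, h]
  simp

/-- the invariant of an invertible matrix. -/
noncomputable def tyM (A : GL (Fin n) F) : ℕ := ty (L A) (zOf (A : Matrix (Fin n) (Fin n) F))

/-- `A` represents an involution of the projective group. -/
def Valid (A : GL (Fin n) F) : Prop :=
  ∃ z : F, z ≠ 0 ∧ (A : Matrix (Fin n) (Fin n) F) * (A : Matrix (Fin n) (Fin n) F) = z • 1 ∧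
    ∀ c : F, (A : Matrix (Fin n) (Fin n) F) ≠ c • 1

theorem L_sq {A : GL (Fin n) F} {z : F}
    (h : (A : Matrix (Fin n) (Fin n) F) * (A : Matrix (Fin n) (Fin n) F) = z • 1) (v : Fin n → F) :
    L A (L A v) = z • v := by
  rw [L, Matrix.toLin'_apply, Matrix.toLin'_apply, Matrix.mulVec_mulVec, h, Matrix.smul_mulVec,
    Matrix.one_mulVec]

theorem L_ns {A : GL (Fin n) F} (h : ∀ c : F, (A : Matrix (Fin n) (Fin n) F) ≠ c • 1) (c : F) :
    ∃ v, L A v ≠ c • v := by
  by_contra hcon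
  push Not at hcon
  apply h c
  have h1 : L A = c • LinearMap.id := LinearMap.ext (fun v => by rw [hcon]; rfl)
  have h2 := congrArg LinearMap.toMatrix' h1
  rw [L, LinearMap.toMatrix'_toLin', map_smul, LinearMap.toMatrix'_id] at h2
  exact h2

theorem mem_center_iff' {x : GL (Fin n) F} :
    x ∈ Subgroup.center (GL (Fin n) F) ↔ ∃ c : F, (x : Matrix (Fin n) (Fin n) F) = c • 1 := by
  rw [Matrix.GeneralLinearGroup.mem_center_iff_val_mem_range_scalar]
  constructor
  · rintro ⟨c, hc⟩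
    refine ⟨c, ?_⟩
    rw [← hc, Matrix.scalar_apply, Matrix.smul_one_eq_diagonal]
  · rintro ⟨c, hc⟩
    refine ⟨c, ?_⟩
    rw [hc, Matrix.scalar_apply, Matrix.smul_one_eq_diagonal]

theorem orderOf_two_iff (A : GL (Fin n) F) :
    orderOf (QuotientGroup.mk A : GL (Fin n) F ⧸ Subgroup.center (GL (Fin n) F)) = 2 ↔ Valid A := by
  haveI : Fact (Nat.Prime 2) := ⟨Nat.prime_two⟩
  rw [orderOf_eq_prime_iff, ← QuotientGroup.mk_pow, QuotientGroup.eq_one_iff, Ne,
    QuotientGroup.eq_one_iff, mem_center_iff', mem_center_iff']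
  constructor
  · rintro ⟨⟨z, hz⟩, hns⟩
    have hAA : (A : Matrix (Fin n) (Fin n) F) * (A : Matrix (Fin n) (Fin n) F) = z • 1 := by
      rw [← hz, pow_two]
      rfl
    refine ⟨z, ?_, hAA, fun c hc => hns ⟨c, hc⟩⟩
    rintro rfl
    rw [zero_smul] at hAA
    have h1 : ((A * A : GL (Fin n) F) : Matrix (Fin n) (Fin n) F) = 0 := hAA
    have h2 := (A * A).mul_inv
    rw [h1, zero_mul] at h2
    exact zero_ne_one h2
  · rintro ⟨z, _, hAA, hns⟩
    refine ⟨⟨z, ?_⟩, fun ⟨c, hc⟩ => hns c hc⟩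
    rw [← hAA, pow_two]
    rfl

theorem isConj_iff' (A B : GL (Fin n) F) :
    IsConj (QuotientGroup.mk A : GL (Fin n) F ⧸ Subgroup.center (GL (Fin n) F)) (QuotientGroup.mk B) ↔
      ∃ P : GL (Fin n) F, ∃ c : F, c ≠ 0 ∧ (B : Matrix (Fin n) (Fin n) F) =
        c • ((P : Matrix (Fin n) (Fin n) F) * (A : Matrix (Fin n) (Fin n) F) *
          ((P⁻¹ : GL (Fin n) F) : Matrix (Fin n) (Fin n) F)) := by
  rw [isConj_iff]
  constructor
  · rintro ⟨g, hg⟩
    obtain ⟨P, rfl⟩ := QuotientGroup.mk_surjective g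
    rw [← QuotientGroup.mk_inv, ← QuotientGroup.mk_mul, ← QuotientGroup.mk_mul,
      QuotientGroup.eq, mem_center_iff'] at hg
    obtain ⟨c, hc⟩ := hg
    set s : GL (Fin n) F := (P * A * P⁻¹)⁻¹ * B with hs
    have hB : B = P * A * P⁻¹ * s := by rw [hs]; group
    refine ⟨P, c, ?_, ?_⟩
    · rintro rfl
      rw [zero_smul] at hc
      have h2 := s.mul_inv
      rw [hc, zero_mul] at h2
      exact zero_ne_one h2
    · have h3 := congrArg (fun x : GL (Fin n) F => (x : Matrix (Fin n) (Fin n) F)) hB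
      simp only [Units.val_mul] at h3
      rw [h3, hc, Matrix.mul_smul, Matrix.mul_one]
  · rintro ⟨P, c, hc, hB⟩
    refine ⟨QuotientGroup.mk P, ?_⟩
    rw [← QuotientGroup.mk_inv, ← QuotientGroup.mk_mul, ← QuotientGroup.mk_mul,
      QuotientGroup.eq, mem_center_iff']
    refine ⟨c, ?_⟩
    have h1 : (B : Matrix (Fin n) (Fin n) F) =
        ((P * A * P⁻¹ : GL (Fin n) F) : Matrix (Fin n) (Fin n) F) * (c • 1) := by
      rw [hB, Matrix.mul_smul, Matrix.mul_one]
      rfl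
    rw [Units.val_mul, h1, ← mul_assoc, Units.inv_mul, one_mul]

theorem lin_of_conj {A B P : GL (Fin n) F} {c : F}
    (hB : (B : Matrix (Fin n) (Fin n) F) =
        c • ((P : Matrix (Fin n) (Fin n) F) * (A : Matrix (Fin n) (Fin n) F) *
          ((P⁻¹ : GL (Fin n) F) : Matrix (Fin n) (Fin n) F))) :
    ∃ T : (Fin n → F) ≃ₗ[F] (Fin n → F), ∀ v, L B (T v) = c • T (L A v) := by
  have h1 : (P : Matrix (Fin n) (Fin n) F) * ((P⁻¹ : GL (Fin n) F) : Matrix (Fin n) (Fin n) F) = 1 :=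
    P.mul_inv
  have h2 : ((P⁻¹ : GL (Fin n) F) : Matrix (Fin n) (Fin n) F) * (P : Matrix (Fin n) (Fin n) F) = 1 :=
    P.inv_mul
  let T : (Fin n → F) ≃ₗ[F] (Fin n → F) :=
    LinearEquiv.ofLinear (Matrix.toLin' (P : Matrix (Fin n) (Fin n) F))
      (Matrix.toLin' ((P⁻¹ : GL (Fin n) F) : Matrix (Fin n) (Fin n) F))
      (by rw [← Matrix.toLin'_mul, h1, Matrix.toLin'_one])
      (by rw [← Matrix.toLin'_mul, h2, Matrix.toLin'_one])
  refine ⟨T, fun v => ?_⟩
  show Matrix.toLin' (B : Matrix (Fin n) (Fin n) F) (Matrix.toLin' (P : Matrix (Fin n) (Fin n) F) v) =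
    c • Matrix.toLin' (P : Matrix (Fin n) (Fin n) F) (Matrix.toLin' (A : Matrix (Fin n) (Fin n) F) v)
  rw [Matrix.toLin'_apply, Matrix.toLin'_apply, Matrix.toLin'_apply, Matrix.toLin'_apply,
    Matrix.mulVec_mulVec, Matrix.mulVec_mulVec, hB, Matrix.smul_mul, Matrix.smul_mulVec,
    mul_assoc, mul_assoc, h2, mul_one]

theorem conj_of_lin {A B : GL (Fin n) F} {c : F} (T : (Fin n → F) ≃ₗ[F] (Fin n → F))
    (h : ∀ v, L B (T v) = c • T (L A v)) :
    ∃ P : GL (Fin n) F, (B : Matrix (Fin n) (Fin n) F) =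
        c • ((P : Matrix (Fin n) (Fin n) F) * (A : Matrix (Fin n) (Fin n) F) *
          ((P⁻¹ : GL (Fin n) F) : Matrix (Fin n) (Fin n) F)) := by
  have h1 : LinearMap.toMatrix' (T : (Fin n → F) →ₗ[F] (Fin n → F)) *
      LinearMap.toMatrix' (T.symm : (Fin n → F) →ₗ[F] (Fin n → F)) = 1 := by
    rw [← LinearMap.toMatrix'_comp, ← LinearMap.toMatrix'_id]
    congr 1
    ext v
    simp
  have h2 : LinearMap.toMatrix' (T.symm : (Fin n → F) →ₗ[F] (Fin n → F)) *
      LinearMap.toMatrix' (T : (Fin n → F) →ₗ[F] (Fin n → F)) = 1 := by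
    rw [← LinearMap.toMatrix'_comp, ← LinearMap.toMatrix'_id]
    congr 1
    ext v
    simp
  let P : GL (Fin n) F := ⟨_, _, h1, h2⟩
  refine ⟨P, ?_⟩
  have h3 : L B ∘ₗ (T : (Fin n → F) →ₗ[F] (Fin n → F)) =
      c • ((T : (Fin n → F) →ₗ[F] (Fin n → F)) ∘ₗ L A) := LinearMap.ext h
  have h4 := congrArg LinearMap.toMatrix' h3
  rw [LinearMap.toMatrix'_comp, map_smul, LinearMap.toMatrix'_comp, L, L,
    LinearMap.toMatrix'_toLin', LinearMap.toMatrix'_toLin'] at h4
  show (B : Matrix (Fin n) (Fin n) F) = c • (LinearMap.toMatrix' (T : (Fin n → F) →ₗ[F] (Fin n → F)) *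
    (A : Matrix (Fin n) (Fin n) F) * LinearMap.toMatrix' (T.symm : (Fin n → F) →ₗ[F] (Fin n → F)))
  rw [← Matrix.smul_mul, ← h4, mul_assoc, h1, mul_one]

end mat

section keys
variable {F : Type*} [Field F] {n : ℕ} [NeZero n]

theorem K1 (h2 : (2 : F) ≠ 0)
    (hF : ∀ z z' : F, z ≠ 0 → z' ≠ 0 → ¬ IsSquare z → ¬ IsSquare z' → ∃ c : F, c ≠ 0 ∧ z' = c * c * z)
    {A B : GL (Fin n) F} (hA : Valid A) (hB : Valid B) (hty : tyM A = tyM B) :
    IsConj (QuotientGroup.mk A : GL (Fin n) F ⧸ Subgroup.center (GL (Fin n) F)) (QuotientGroup.mk B) := by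
  obtain ⟨z, hz0, hAA, hnsA⟩ := hA
  obtain ⟨z', hz0', hBB, hnsB⟩ := hB
  rw [tyM, tyM, zOf_eq hAA, zOf_eq hBB] at hty
  obtain ⟨c, hc, T, hT⟩ := conj_of_ty_eq h2 hF (L A) (L B) hz0 hz0' (L_sq hAA) (L_sq hBB)
    (L_ns hnsA) (L_ns hnsB) hty
  obtain ⟨P, hP⟩ := conj_of_lin T hT
  exact (isConj_iff' A B).mpr ⟨P, c, hc, hP⟩

theorem K2 {A B : GL (Fin n) F} (hA : Valid A)
    (h : IsConj (QuotientGroup.mk A : GL (Fin n) F ⧸ Subgroup.center (GL (Fin n) F)) (QuotientGroup.mk B)) :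
    tyM B = tyM A := by
  obtain ⟨z, hz0, hAA, hnsA⟩ := hA
  obtain ⟨P, c, hc, hB⟩ := (isConj_iff' A B).mp h
  obtain ⟨T, hT⟩ := lin_of_conj hB
  have h2inv : ((P⁻¹ : GL (Fin n) F) : Matrix (Fin n) (Fin n) F) * (P : Matrix (Fin n) (Fin n) F) = 1 :=
    P.inv_mul
  have h1inv : (P : Matrix (Fin n) (Fin n) F) * ((P⁻¹ : GL (Fin n) F) : Matrix (Fin n) (Fin n) F) = 1 :=
    P.mul_inv
  have hm : (P : Matrix (Fin n) (Fin n) F) * (A : Matrix (Fin n) (Fin n) F) *
      ((P⁻¹ : GL (Fin n) F) : Matrix (Fin n) (Fin n) F) *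
      ((P : Matrix (Fin n) (Fin n) F) * (A : Matrix (Fin n) (Fin n) F) *
      ((P⁻¹ : GL (Fin n) F) : Matrix (Fin n) (Fin n) F)) = z • 1 := by
    calc _ = (P : Matrix (Fin n) (Fin n) F) * ((A : Matrix (Fin n) (Fin n) F) *
          (((P⁻¹ : GL (Fin n) F) : Matrix (Fin n) (Fin n) F) * (P : Matrix (Fin n) (Fin n) F)) *
          (A : Matrix (Fin n) (Fin n) F)) * ((P⁻¹ : GL (Fin n) F) : Matrix (Fin n) (Fin n) F) := by
          simp only [mul_assoc]
      _ = z • 1 := by
          rw [h2inv, mul_one, hAA, Matrix.mul_smul, Matrix.smul_mul, mul_one, h1inv]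
  have hBB : (B : Matrix (Fin n) (Fin n) F) * (B : Matrix (Fin n) (Fin n) F) = (c * c * z) • 1 := by
    rw [hB, Matrix.smul_mul, Matrix.mul_smul, hm, smul_smul, smul_smul]
  rw [tyM, tyM, zOf_eq hAA, zOf_eq hBB]
  exact ty_conj T hc hT z

theorem K3 (h2 : (2 : F) ≠ 0) {A : GL (Fin n) F} (hA : Valid A) :
    (1 ≤ tyM A ∧ 2 * tyM A ≤ n) ∨ (tyM A = 0 ∧ Even n) := by
  obtain ⟨z, hz0, hAA, hnsA⟩ := hA
  rw [tyM, zOf_eq hAA]
  have hfin : finrank F (Fin n → F) = n := Module.finrank_fin_fun F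
  by_cases hsq : IsSquare z
  · left
    obtain ⟨μ, rfl⟩ := hsq
    have hμ : μ ≠ 0 := by rintro rfl; simp at hz0
    have := ty_range_sq h2 hμ (L A) (L_sq hAA) (L_ns hnsA)
    rwa [hfin] at this
  · right
    refine ⟨ty_of_nonsq _ hsq, ?_⟩
    have := (conj_of_no_eig z (L A) (L A) (L_sq hAA) (L_sq hAA) (fun μ h => hsq ⟨μ, h.symm⟩)).2
    rwa [hfin] at this

end keys

section exist
variable {F : Type*} [Field F] {n : ℕ} [NeZero n]

theorem finrank_ker_diag [DecidableEq F] (w : Fin n → F) :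
    finrank F (LinearMap.ker (Matrix.toLin' (Matrix.diagonal w))) +
      Fintype.card {j : Fin n // w j ≠ 0} = n := by
  have h1 := LinearMap.finrank_range_add_finrank_ker (Matrix.toLin' (Matrix.diagonal w))
  have h2 : finrank F (LinearMap.range (Matrix.toLin' (Matrix.diagonal w))) =
      Fintype.card {j : Fin n // w j ≠ 0} := by
    rw [← Matrix.rank_diagonal w, Matrix.rank, Matrix.toLin'_apply']
  rw [Module.finrank_fin_fun] at h1
  omega

theorem Eig_diag (d : Fin n → F) (μ : F) :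
    Eig (Matrix.toLin' (Matrix.diagonal d)) μ =
      LinearMap.ker (Matrix.toLin' (Matrix.diagonal (fun j => d j - μ))) := by
  rw [Eig]
  congr 1
  have : (Matrix.diagonal fun j => d j - μ) = Matrix.diagonal d - μ • (1 : Matrix (Fin n) (Fin n) F) := by
    rw [Matrix.smul_one_eq_diagonal, Matrix.diagonal_sub]
  rw [this, map_sub, map_smul, Matrix.toLin'_one]

theorem K4a (h2 : (2 : F) ≠ 0) (r : ℕ) (hr1 : 1 ≤ r) (hr2 : 2 * r ≤ n) :
    ∃ A : GL (Fin n) F, Valid A ∧ tyM A = r := by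
  classical
  let d : Fin n → F := fun j => if (j : ℕ) < r then -1 else 1
  have hdd : Matrix.diagonal d * Matrix.diagonal d = (1 : Matrix (Fin n) (Fin n) F) := by
    rw [Matrix.diagonal_mul_diagonal, ← Matrix.diagonal_one]
    congr 1
    ext j
    simp only [d]
    split_ifs <;> ring
  let A : GL (Fin n) F := ⟨Matrix.diagonal d, Matrix.diagonal d, hdd, hdd⟩
  have hAv : (A : Matrix (Fin n) (Fin n) F) = Matrix.diagonal d := rfl
  have hAA : (A : Matrix (Fin n) (Fin n) F) * (A : Matrix (Fin n) (Fin n) F) = (1 : F) • 1 := by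
    rw [hAv, hdd, one_smul]
  have hn1 : n - 1 < n := by
    have := NeZero.pos n
    omega
  have hns : ∀ c : F, (A : Matrix (Fin n) (Fin n) F) ≠ c • 1 := by
    intro c hc
    rw [hAv] at hc
    have e0 := congrFun (congrFun hc 0) 0
    have e1 := congrFun (congrFun hc ⟨n - 1, hn1⟩) ⟨n - 1, hn1⟩
    simp only [Matrix.diagonal_apply_eq, Matrix.smul_apply, Matrix.one_apply_eq, smul_eq_mul,
      mul_one, d] at e0 e1
    rw [if_pos (by simp; omega)] at e0
    rw [if_neg (by simp; omega)] at e1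
    apply h2
    rw [← e0] at e1
    linear_combination e1
  refine ⟨A, ⟨1, one_ne_zero, hAA, hns⟩, ?_⟩
  rw [tyM, zOf_eq hAA, ty_of_sq (L A) (μ := 1) (by ring), L, hAv, Eig_diag, Eig_diag]
  have c1 : Fintype.card {j : Fin n // d j - 1 ≠ 0} = r := by
    rw [Fintype.card_subtype]
    have : (Finset.univ.filter fun j : Fin n => d j - 1 ≠ 0) =
        Finset.univ.filter fun j : Fin n => (j : ℕ) < r := by
      apply Finset.filter_congr
      intro j _
      simp only [d]
      split_ifs with h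
      · simp only [h, iff_true]
        intro h0
        apply h2
        linear_combination -h0
      · simp [h]
    rw [this, Fin.card_filter_val_lt]
    omega
  have c2 : Fintype.card {j : Fin n // d j - -1 ≠ 0} = n - r := by
    rw [Fintype.card_subtype]
    have : (Finset.univ.filter fun j : Fin n => d j - -1 ≠ 0) =
        Finset.univ.filter fun j : Fin n => ¬ (j : ℕ) < r := by
      apply Finset.filter_congr
      intro j _
      simp only [d]
      split_ifs with h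
      · simp [h]
      · simp only [h, not_false_eq_true, iff_true]
        intro h0
        apply h2
        linear_combination h0
    rw [this]
    have h3 := Finset.card_filter_add_card_filter_not (s := (Finset.univ : Finset (Fin n)))
      (fun j : Fin n => (j : ℕ) < r)
    rw [Fin.card_filter_val_lt, Finset.card_univ, Fintype.card_fin] at h3
    omega
  have f1 := finrank_ker_diag (fun j => d j - 1)
  have f2 := finrank_ker_diag (fun j => d j - -1)
  rw [c1] at f1
  rw [c2] at f2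
  have e1 : finrank F (LinearMap.ker (Matrix.toLin' (Matrix.diagonal fun j => d j - 1))) = n - r := by
    omega
  have e2 : finrank F (LinearMap.ker (Matrix.toLin' (Matrix.diagonal fun j => d j - -1))) = r := by
    omega
  rw [e1, e2]
  exact min_eq_right (by omega)

theorem K4b (hev : Even n) {μ : F} (hμ : ¬ IsSquare μ) :
    ∃ A : GL (Fin n) F, Valid A ∧ tyM A = 0 := by
  classical
  obtain ⟨m, hm⟩ := hev
  have hμ0 : μ ≠ 0 := by
    rintro rfl
    exact hμ ⟨0, by simp⟩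
  let ε : Fin 2 × Fin m ≃ Fin n := finProdFinEquiv.trans (finCongr (by omega))
  let B : Matrix (Fin 2 × Fin m) (Fin 2 × Fin m) F :=
    Matrix.blockDiagonal (fun _ : Fin m => !![0, μ; 1, 0])
  have hblock : (!![0, μ; 1, 0] : Matrix (Fin 2) (Fin 2) F) * !![0, μ; 1, 0] = μ • 1 := by
    ext i j
    fin_cases i <;> fin_cases j <;> simp [Matrix.mul_apply, Fin.sum_univ_two]
  have hBB : B * B = μ • 1 := by
    simp only [B]
    rw [← Matrix.blockDiagonal_mul]
    simp only [hblock]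
    rw [show (fun _ : Fin m => μ • (1 : Matrix (Fin 2) (Fin 2) F)) =
      μ • (fun _ : Fin m => (1 : Matrix (Fin 2) (Fin 2) F)) from rfl, Matrix.blockDiagonal_smul]
    congr 1
    exact Matrix.blockDiagonal_one
  let A₀ : Matrix (Fin n) (Fin n) F := Matrix.reindexAlgEquiv F F ε B
  have hAA₀ : A₀ * A₀ = μ • 1 := by
    simp only [A₀]
    rw [← map_mul, hBB, map_smul, map_one]
  let A : GL (Fin n) F := ⟨A₀, μ⁻¹ • A₀,
    by rw [Matrix.mul_smul, hAA₀, smul_smul, inv_mul_cancel₀ hμ0, one_smul],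
    by rw [Matrix.smul_mul, hAA₀, smul_smul, inv_mul_cancel₀ hμ0, one_smul]⟩
  have hAA : (A : Matrix (Fin n) (Fin n) F) * (A : Matrix (Fin n) (Fin n) F) = μ • 1 := hAA₀
  refine ⟨A, ⟨μ, hμ0, hAA, ?_⟩, ?_⟩
  · intro c hc
    apply hμ
    refine ⟨c, ?_⟩
    have h1 : (A : Matrix (Fin n) (Fin n) F) * (A : Matrix (Fin n) (Fin n) F) = (c * c) • 1 := by
      rw [hc, Matrix.smul_mul, Matrix.mul_smul, mul_one, smul_smul]
    rw [hAA] at h1
    have h2 := congrFun (congrFun h1 0) 0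
    simpa using h2
  · rw [tyM, zOf_eq hAA]
    exact ty_of_nonsq _ hμ

end exist

theorem nonsq_ratio {F : Type*} [Field F] [Fintype F] (z z' : F) (hz : z ≠ 0) (hz' : z' ≠ 0)
    (hns : ¬ IsSquare z) (hns' : ¬ IsSquare z') : ∃ c : F, c ≠ 0 ∧ z' = c * c * z := by
  classical
  have h1 : quadraticChar F (z' * z) = 1 := by
    rw [map_mul, quadraticChar_neg_one_iff_not_isSquare.mpr hns,
      quadraticChar_neg_one_iff_not_isSquare.mpr hns']
    norm_num
  obtain ⟨r, hr⟩ := (quadraticChar_one_iff_isSquare (mul_ne_zero hz' hz)).mp h1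
  have hr0 : r ≠ 0 := by
    rintro rfl
    rw [mul_zero] at hr
    exact mul_ne_zero hz' hz hr
  refine ⟨r / z, div_ne_zero hr0 hz, ?_⟩
  field_simp
  linear_combination hr

theorem result {F : Type*} [Field F] [Fintype F] {q : ℕ} (hF : Fintype.card F = q) (hq : Odd q) {n : ℕ} (hn : 2 ≤ n) : Nat.card {C : ConjClasses (GL (Fin n) F ⧸ Subgroup.center (GL (Fin n) F)) // ∃ g : GL (Fin n) F ⧸ Subgroup.center (GL (Fin n) F), ConjClasses.mk g = C ∧ orderOf g = 2} = n / 2 + (if Even n then 1 else 0) := by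
  classical
  haveI : NeZero n := ⟨by omega⟩
  have hchar : ringChar F ≠ 2 := by
    intro h3
    have h4 := FiniteField.even_card_of_char_two h3
    rw [hF] at h4
    have := Nat.odd_iff.mp hq
    omega
  have h2 : (2 : F) ≠ 0 := by
    intro h
    exact hchar (CharP.ringChar_of_prime_eq_zero Nat.prime_two h)
  obtain ⟨μ, hμ⟩ := FiniteField.exists_nonsquare hchar
  have hlift : ∀ C : {C : ConjClasses (GL (Fin n) F ⧸ Subgroup.center (GL (Fin n) F)) //
      ∃ g : GL (Fin n) F ⧸ Subgroup.center (GL (Fin n) F), ConjClasses.mk g = C ∧ orderOf g = 2},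
      ∃ A : GL (Fin n) F, Valid A ∧
        ConjClasses.mk (QuotientGroup.mk A : GL (Fin n) F ⧸ Subgroup.center (GL (Fin n) F)) = C.1 := by
    rintro ⟨C, g, hg, ho⟩
    obtain ⟨A, rfl⟩ := QuotientGroup.mk_surjective g
    exact ⟨A, (orderOf_two_iff A).mp ho, hg⟩
  choose lift hlv hlc using hlift
  let R : Finset ℕ := Finset.Icc 1 (n / 2) ∪ (if Even n then {0} else ∅)
  have hmem : ∀ A : GL (Fin n) F, Valid A → tyM A ∈ R := by
    intro A hA
    rcases K3 h2 hA with ⟨h1, h3⟩ | ⟨h1, h3⟩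
    · apply Finset.mem_union_left
      rw [Finset.mem_Icc]
      omega
    · apply Finset.mem_union_right
      rw [if_pos h3, h1]
      simp
  let f : {C : ConjClasses (GL (Fin n) F ⧸ Subgroup.center (GL (Fin n) F)) //
      ∃ g : GL (Fin n) F ⧸ Subgroup.center (GL (Fin n) F), ConjClasses.mk g = C ∧ orderOf g = 2} → R :=
    fun C => ⟨tyM (lift C), hmem _ (hlv C)⟩
  have hf : Function.Bijective f := by
    constructor
    · intro C C' h
      have h1 : tyM (lift C) = tyM (lift C') := congrArg Subtype.val h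
      have h3 := K1 h2 nonsq_ratio (hlv C) (hlv C') h1
      apply Subtype.ext
      rw [← hlc C, ← hlc C']
      exact ConjClasses.mk_eq_mk_iff_isConj.mpr h3
    · rintro ⟨t, ht⟩
      have hex : ∃ A : GL (Fin n) F, Valid A ∧ tyM A = t := by
        rcases Finset.mem_union.mp ht with h | h
        · rw [Finset.mem_Icc] at h
          exact K4a h2 t h.1 (by omega)
        · by_cases hev : Even n
          · rw [if_pos hev, Finset.mem_singleton] at h
            subst h
            exact K4b hev hμ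
          · rw [if_neg hev] at h
            simp at h
      obtain ⟨A, hA, hAt⟩ := hex
      let C : {C : ConjClasses (GL (Fin n) F ⧸ Subgroup.center (GL (Fin n) F)) //
          ∃ g : GL (Fin n) F ⧸ Subgroup.center (GL (Fin n) F), ConjClasses.mk g = C ∧ orderOf g = 2} :=
        ⟨ConjClasses.mk (QuotientGroup.mk A), QuotientGroup.mk A, rfl, (orderOf_two_iff A).mpr hA⟩
      refine ⟨C, Subtype.ext ?_⟩
      show tyM (lift C) = t
      rw [← hAt]
      apply K2 hA
      have := hlc C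
      exact ConjClasses.mk_eq_mk_iff_isConj.mp this.symm
  rw [Nat.card_congr (Equiv.ofBijective f hf), Nat.card_eq_fintype_card, Fintype.card_coe]
  have hdisj : Disjoint (Finset.Icc 1 (n / 2)) (if Even n then ({0} : Finset ℕ) else ∅) := by
    split_ifs
    · rw [Finset.disjoint_singleton_right, Finset.mem_Icc]
      omega
    · exact Finset.disjoint_empty_right _
  rw [Finset.card_union_of_disjoint hdisj, Nat.card_Icc]
  split_ifs
  · rw [Finset.card_singleton]; omega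
  · rw [Finset.card_empty]; omega

end Cfsg.Agent.S2577
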