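import Cfsg.Statements.S2585

set_option autoImplicit false
open scoped Pointwise
open Cfsg

namespace Cfsg.Agent.S2585

open Matrix

section
variable {F : Type*} [Field F] {m : ℕ}

theorem symp_eq [CharP F 2] (u v : Fin m ⊕ Fin m → F) :
    Cfsg.sympForm m F u v = ∑ i : Fin m, (u (Sum.inr i) * v (Sum.inl i) + u (Sum.inl i) * v (Sum.inr i)) := by
  unfold Cfsg.sympForm Matrix.J
  rw [fromBlocks_mulVec]
  simp only [dotProduct, Fintype.sum_sum_type, Sum.elim_inl, Sum.elim_inr, zero_mulVec, one_mulVec, neg_mulVec,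
    zero_add, add_zero, Pi.neg_apply, Function.comp]
  rw [← Finset.sum_add_distrib]
  apply Finset.sum_congr rfl
  intro i _
  rw [CharTwo.neg_eq]
  ring

/-- base bilinear form. -/
noncomputable def B0 (F : Type*) [Field F] (m : ℕ) : LinearMap.BilinForm F (Fin m ⊕ Fin m → F) :=
  Matrix.toBilin' (fromBlocks (0 : Matrix (Fin m) (Fin m) F) (0 : Matrix (Fin m) (Fin m) F) (1 : Matrix (Fin m) (Fin m) F) (0 : Matrix (Fin m) (Fin m) F))

theorem B0_apply (u v : Fin m ⊕ Fin m → F) : B0 F m u v = ∑ i : Fin m, u (Sum.inr i) * v (Sum.inl i) := by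
  unfold B0
  rw [Matrix.toBilin'_apply', fromBlocks_mulVec]
  simp only [dotProduct, Fintype.sum_sum_type, Sum.elim_inl, Sum.elim_inr, zero_mulVec, one_mulVec,
    zero_add, add_zero, Pi.zero_apply, Function.comp, mul_zero, Finset.sum_const_zero]

/-- base quadratic form. -/
noncomputable def Q0 (F : Type*) [Field F] (m : ℕ) : QuadraticForm F (Fin m ⊕ Fin m → F) :=
  (B0 F m).toQuadraticMap

theorem polar_Q0 [CharP F 2] (u v : Fin m ⊕ Fin m → F) :
    QuadraticMap.polar (Q0 F m) u v = Cfsg.sympForm m F u v := by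
  have h : QuadraticMap.polar (Q0 F m) u v = B0 F m u v + B0 F m v u := by
    unfold QuadraticMap.polar Q0
    simp only [LinearMap.BilinMap.toQuadraticMap_apply, map_add, LinearMap.add_apply]
    abel
  rw [h, symp_eq, B0_apply, B0_apply, ← Finset.sum_add_distrib]
  apply Finset.sum_congr rfl
  intro i _
  ring

end

/-- Over a finite field of characteristic two every element of the symplectic group preserves a quadratic form polarising to the symplectic form. -/
theorem result {F : Type*} [Field F] [Fintype F] [CharP F 2] {m : ℕ} (A : Matrix.symplecticGroup (Fin m) F) : ∃ Q : QuadraticForm F (Fin m ⊕ Fin m → F), (∀ u v : Fin m ⊕ Fin m → F, QuadraticMap.polar ⇑Q u v = Cfsg.sympForm m F u v) ∧ ∀ v : Fin m ⊕ Fin m → F, Q ((A : Matrix (Fin m ⊕ Fin m) (Fin m ⊕ Fin m) F).mulVec v) = Q v := by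
  classical
  have : Fact (Nat.Prime 2) := ⟨Nat.prime_two⟩
  set M : Matrix (Fin m ⊕ Fin m) (Fin m ⊕ Fin m) F := (A : Matrix (Fin m ⊕ Fin m) (Fin m ⊕ Fin m) F) with hM
  -- A preserves the symplectic form
  have hpres : ∀ u v, Cfsg.sympForm m F (M *ᵥ u) (M *ᵥ v) = Cfsg.sympForm m F u v := by
    intro u v
    have hA : Mᵀ * Matrix.J (Fin m) F * M = Matrix.J (Fin m) F := SymplecticGroup.mem_iff'.mp A.2
    unfold Cfsg.sympForm
    rw [mulVec_mulVec, dotProduct_mulVec, ← vecMul_transpose, vecMul_vecMul, ← dotProduct_mulVec]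
    rw [← Matrix.mul_assoc, hA]
  -- the defect D
  let D : (Fin m ⊕ Fin m → F) → F := fun v => Q0 F m (M *ᵥ v) + Q0 F m v
  have hDadd : ∀ u v, D (u + v) = D u + D v := by
    intro u v
    simp only [D]
    rw [mulVec_add, QuadraticMap.map_add (Q0 F m), QuadraticMap.map_add (Q0 F m) u v, polar_Q0, polar_Q0, hpres]
    have := CharTwo.add_self_eq_zero (Cfsg.sympForm m F u v)
    linear_combination this
  have hDsmul : ∀ (c : F) v, D (c • v) = c ^ 2 * D v := by
    intro c v
    simp only [D]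
    rw [mulVec_smul, QuadraticMap.map_smul, QuadraticMap.map_smul]
    simp only [smul_eq_mul]
    ring
  let ℓ : (Fin m ⊕ Fin m → F) →ₗ[F] F :=
    { toFun := fun v => (frobeniusEquiv F 2).symm (D v)
      map_add' := by
        intro u v
        rw [hDadd, map_add]
      map_smul' := by
        intro c v
        rw [hDsmul, map_mul, RingHom.id_apply, smul_eq_mul]
        congr 1
        rw [← frobenius_def, frobeniusEquiv_symm_apply_frobenius] }
  have hℓ : ∀ v, ℓ v ^ 2 = D v := fun v => frobeniusEquiv_symm_pow_p F 2 (D v)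
  -- ℓ vanishes on ker (M - 1)
  let f : (Fin m ⊕ Fin m → F) →ₗ[F] (Fin m ⊕ Fin m → F) := Matrix.toLin' (M - 1)
  have hf : ∀ v, f v = M *ᵥ v - v := by
    intro v
    simp only [f, Matrix.toLin'_apply, sub_mulVec, one_mulVec]
  have hker : ℓ ∈ (LinearMap.ker f).dualAnnihilator := by
    rw [Submodule.mem_dualAnnihilator]
    intro w hw
    rw [LinearMap.mem_ker, hf, sub_eq_zero] at hw
    have : D w = 0 := by
      simp only [D]
      rw [hw]
      exact CharTwo.add_self_eq_zero _
    have h2 := hℓ w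
    rw [this] at h2
    exact pow_eq_zero_iff (by norm_num) |>.mp h2
  rw [← LinearMap.range_dualMap_eq_dualAnnihilator_ker] at hker
  obtain ⟨μ, hμ⟩ := hker
  have hμ' : ∀ v, μ (M *ᵥ v - v) = ℓ v := by
    intro v
    rw [← hf, ← hμ, LinearMap.dualMap_apply]
  refine ⟨Q0 F m + QuadraticMap.linMulLin μ μ, ?_, ?_⟩
  · intro u v
    have hcoe : ⇑(Q0 F m + QuadraticMap.linMulLin μ μ) = ⇑(Q0 F m) + ⇑(QuadraticMap.linMulLin μ μ) := rfl
    rw [hcoe, QuadraticMap.polar_add, polar_Q0]
    have : QuadraticMap.polar (⇑(QuadraticMap.linMulLin μ μ)) u v = 0 := by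
      unfold QuadraticMap.polar
      simp only [QuadraticMap.linMulLin_apply, map_add]
      have := CharTwo.add_self_eq_zero (μ u * μ v)
      linear_combination this
    rw [this, add_zero]
  · intro v
    show (Q0 F m) (M *ᵥ v) + (QuadraticMap.linMulLin μ μ) (M *ᵥ v) = (Q0 F m) v + (QuadraticMap.linMulLin μ μ) v
    rw [QuadraticMap.linMulLin_apply, QuadraticMap.linMulLin_apply]
    have h1 := hℓ v
    rw [← hμ' v, map_sub] at h1
    simp only [D] at h1
    have h2 := CharTwo.add_self_eq_zero (μ (M *ᵥ v) * μ v)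
    have h3 := CharTwo.add_self_eq_zero ((Q0 F m) v)
    have h5 := CharTwo.add_self_eq_zero (μ (M *ᵥ v) * μ (M *ᵥ v))
    linear_combination (-1 : F) * h1 - h2 - h3 + h5

end Cfsg.Agent.S2585
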