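import Cfsg.Statements.S2590
import Mathlib
import Cfsg.Agent.Lib_helper11_OConjD

set_option autoImplicit false
open Cfsg

namespace Cfsg.Agent.S2590

/-- Two semisimple elements of odd order of a finite orthogonal group (isometry group of a quadratic form on F^n with non-degenerate polar form, F finite of characteristic p; the elements have odd order prime to p) are conjugate in the orthogonal group if and only if they are conjugate in GL_n(F). -/
theorem result {F : Type*} [Field F] [Fintype F] {p : ℕ} [Fact p.Prime] [CharP F p] {n : ℕ} (Q : QuadraticForm F (Fin n → F)) (hQ : (QuadraticMap.polarBilin Q).Nondegenerate) (A B : ↥(Cfsg.isometryGroup F ⇑Q)) (hodd : Odd (orderOf A)) (hA : (orderOf A).Coprime p) : IsConj A B ↔ IsConj ((A : Matrix.GeneralLinearGroup (Fin n) F) : Matrix (Fin n) (Fin n) F) ((B : Matrix.GeneralLinearGroup (Fin n) F) : Matrix (Fin n) (Fin n) F) := by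
  classical
  constructor
  · intro h
    obtain ⟨g, hg⟩ := isConj_iff.mp h
    refine ⟨(g : Matrix.GeneralLinearGroup (Fin n) F), ?_⟩
    have h3 : g * A = B * g := by
      rw [← hg, inv_mul_cancel_right]
    have h4 := congrArg (fun k : ↥(Cfsg.isometryGroup F ⇑Q) =>
      ((k : Matrix.GeneralLinearGroup (Fin n) F) : Matrix (Fin n) (Fin n) F)) h3
    exact h4
  · intro h
    obtain ⟨c, hc⟩ := h
    have hcdet : (c : Matrix (Fin n) (Fin n) F).det ≠ 0 :=
      ((Matrix.isUnit_iff_isUnit_det _).mp c.isUnit).ne_zero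
    have hNF : ((orderOf A : ℕ) : F) ≠ 0 := by
      intro h0
      rw [CharP.cast_eq_zero_iff F p] at h0
      have h4 : p = 1 := Nat.Coprime.eq_one_of_dvd hA.symm h0
      exact (Fact.out : p.Prime).one_lt.ne' h4
    obtain ⟨ρ, hρ⟩ := Cfsg.Agent.helper11.OConj.exists_conj Q hQ A B
      (c : Matrix (Fin n) (Fin n) F) hcdet hc (orderOf A) hodd (pow_orderOf_eq_one A) hNF
    rw [isConj_iff]
    refine ⟨ρ, ?_⟩
    rw [hρ, mul_inv_cancel_right]

end Cfsg.Agent.S2590
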