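import Mathlib
import Cfsg.Statements.S2591
import Cfsg.Agent.Lib_helper17_RegU10

set_option autoImplicit false

open Cfsg

namespace Cfsg.Agent.S2591

open Cfsg.Agent.helper17.RegU Matrix

theorem isSquare_div_of_not {F : Type*} [Field F] [Fintype F] (hch : ringChar F ≠ 2) {a b : F}
    (ha : ¬ IsSquare a) (hb : ¬ IsSquare b) : IsSquare (a / b) := by
  have ha0 : a ≠ 0 := by rintro rfl; exact ha ⟨0, by simp⟩
  have hb0 : b ≠ 0 := by rintro rfl; exact hb ⟨0, by simp⟩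
  have h1 : a ^ (Fintype.card F / 2) = -1 := by
    rcases FiniteField.pow_dichotomy hch ha0 with h | h
    · exact absurd ((FiniteField.isSquare_iff hch ha0).2 h) ha
    · exact h
  have h2 : b ^ (Fintype.card F / 2) = -1 := by
    rcases FiniteField.pow_dichotomy hch hb0 with h | h
    · exact absurd ((FiniteField.isSquare_iff hch hb0).2 h) hb
    · exact h
  rw [FiniteField.isSquare_iff hch (div_ne_zero ha0 hb0), div_pow, h1, h2]
  simp

theorem result {F : Type*} [Field F] [Fintype F] {q : ℕ} (hF : Fintype.card F = q) (hq : Odd q) {m : ℕ} (hm : 1 ≤ m) : Nat.card {C : ConjClasses ↥(Matrix.symplecticGroup (Fin m) F) // ∃ u : Matrix.symplecticGroup (Fin m) F, ConjClasses.mk u = C ∧ ((u : Matrix (Fin m ⊕ Fin m) (Fin m ⊕ Fin m) F) - 1) ^ (2 * m) = 0 ∧ ((u : Matrix (Fin m ⊕ Fin m) (Fin m ⊕ Fin m) F) - 1).rank = 2 * m - 1} = 2 := by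
  have hch : ringChar F ≠ 2 := by
    intro hch
    have := FiniteField.even_card_iff_char_two.1 hch
    rw [hF] at this
    rcases hq with ⟨k, hk⟩
    omega
  have h2 : (2 : F) ≠ 0 := Ring.two_ne_zero hch
  haveI : Fact (ringChar F).Prime := ⟨CharP.char_is_prime F (ringChar F)⟩
  obtain ⟨u0, hu0n, hu0r⟩ := exists_regU F m h2 hm
  have hcard : Fintype.card (Fin m ⊕ Fin m) = 2 * m := by
    simp; omega
  have hpos : 0 < 2 * m := by omega
  have hne : 2 * m ≠ 0 := by omega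
  have hR := regNil_sOf h2 u0 hcard hpos hu0n hu0r
  obtain ⟨lam, hlam⟩ := FiniteField.exists_nonsquare hch
  have hlam0 : lam ≠ 0 := by rintro rfl; exact hlam ⟨0, by simp⟩
  have k1 : (dLam lam : Matrix (Fin m ⊕ Fin m) (Fin m ⊕ Fin m) F) * dLam lam⁻¹ = 1 := by
    rw [dLam_mul, mul_inv_cancel₀ hlam0, dLam_one]
  have k1' : (dLam lam⁻¹ : Matrix (Fin m ⊕ Fin m) (Fin m ⊕ Fin m) F) * dLam lam = 1 := by
    rw [dLam_mul, inv_mul_cancel₀ hlam0, dLam_one]
  let u1 : Matrix.symplecticGroup (Fin m) F :=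
    ⟨dLam lam * (u0 : Matrix (Fin m ⊕ Fin m) (Fin m ⊕ Fin m) F) * dLam lam⁻¹,
      conj_mem u0 lam hlam0⟩
  have hu1eq : (u1 : Matrix (Fin m ⊕ Fin m) (Fin m ⊕ Fin m) F) - 1 =
      dLam lam * ((u0 : Matrix (Fin m ⊕ Fin m) (Fin m ⊕ Fin m) F) - 1) * dLam lam⁻¹ := by
    rw [mul_sub, sub_mul, mul_one, k1]
  have hu1 := conj_reg ((u0 : Matrix (Fin m ⊕ Fin m) (Fin m ⊕ Fin m) F) - 1) lam hlam0 (2 * m)
    hu0n hu0r
  rw [← hu1eq] at hu1
  have hg1 : (dLam lam : Matrix (Fin m ⊕ Fin m) (Fin m ⊕ Fin m) F) *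
      (u0 : Matrix (Fin m ⊕ Fin m) (Fin m ⊕ Fin m) F) =
      (u1 : Matrix (Fin m ⊕ Fin m) (Fin m ⊕ Fin m) F) * dLam lam := by
    show _ = dLam lam * (u0 : Matrix (Fin m ⊕ Fin m) (Fin m ⊕ Fin m) F) * dLam lam⁻¹ * dLam lam
    rw [Matrix.mul_assoc _ (dLam lam⁻¹), k1', mul_one]
  have hα1 : hR.emb (algebraMap F (Rn F (2 * m)) lam) =
      adj (dLam lam : Matrix (Fin m ⊕ Fin m) (Fin m ⊕ Fin m) F) * dLam lam := by
    rw [AlgHom.commutes, adj_dLam_mul, Algebra.algebraMap_eq_smul_one]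
  have hεlam : eps F hne (algebraMap F (Rn F (2 * m)) lam) = lam := by
    rw [AlgHom.commutes]; rfl
  have hσlam : sig F (2 * m) (algebraMap F (Rn F (2 * m)) lam) =
      algebraMap F (Rn F (2 * m)) lam := AlgHom.commutes _ _
  have hnot : ¬ IsConj u0 u1 := by
    intro hc
    have := isSquare_of_isConj u0 u1 hR _ _ k1 k1' hg1 _ hα1 hc
    rw [hεlam] at this
    exact hlam this
  have key : ∀ u : Matrix.symplecticGroup (Fin m) F,
      ((u : Matrix (Fin m ⊕ Fin m) (Fin m ⊕ Fin m) F) - 1) ^ (2 * m) = 0 →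
      ((u : Matrix (Fin m ⊕ Fin m) (Fin m ⊕ Fin m) F) - 1).rank = 2 * m - 1 →
      IsConj u0 u ∨ IsConj u1 u := by
    intro u hun hur
    have hN0 : RegNil ((u0 : Matrix (Fin m ⊕ Fin m) (Fin m ⊕ Fin m) F) - 1) (2 * m) :=
      ⟨hcard, hpos, hu0n, hu0r⟩
    have hN : RegNil ((u : Matrix (Fin m ⊕ Fin m) (Fin m ⊕ Fin m) F) - 1) (2 * m) :=
      ⟨hcard, hpos, hun, hur⟩
    obtain ⟨g, g', h1, h1', hg⟩ := hN0.exists_conj hN
    have hg' : g * (u0 : Matrix (Fin m ⊕ Fin m) (Fin m ⊕ Fin m) F) =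
        (u : Matrix (Fin m ⊕ Fin m) (Fin m ⊕ Fin m) F) * g := by
      rw [mul_sub, sub_mul, mul_one, one_mul] at hg
      exact sub_left_injective hg
    obtain ⟨α, hα, hσ, hε⟩ := exists_alpha u0 u hR h2 g g' h1 h1' hg'
    by_cases hsq : IsSquare (eps F hne α)
    · left
      obtain ⟨t, ht⟩ := hsq
      have ht0 : t ≠ 0 := by
        rintro rfl
        apply hε
        rw [ht, mul_zero]
      refine isConj_of_square u0 u0 u hR h2 (ringChar F) 1 1 (one_mul 1) (one_mul 1)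
        (by rw [one_mul, mul_one]) g g' h1 h1' hg' 1 α (by rw [map_one, adj_one, one_mul]) hα
        (map_one _) hσ hε t⁻¹ (inv_ne_zero ht0) ?_
      rw [map_one, ht]
      field_simp
    · right
      have hsq2 := isSquare_div_of_not hch hlam hsq
      obtain ⟨s, hs⟩ := hsq2
      have hs0 : s ≠ 0 := by
        rintro rfl
        rw [mul_zero, div_eq_zero_iff] at hs
        rcases hs with hs | hs
        · exact hlam0 hs
        · exact hε hs
      refine isConj_of_square u0 u1 u hR h2 (ringChar F) _ _ k1 k1' hg1 g g' h1 h1' hg'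
        _ α hα1 hα hσlam hσ hε s hs0 ?_
      rw [hεlam]
      have hε' : eps F hne α ≠ 0 := hε
      field_simp at hs
      linear_combination hs
  rw [Nat.card_eq_two_iff]
  refine ⟨⟨ConjClasses.mk u0, u0, rfl, hu0n, hu0r⟩, ⟨ConjClasses.mk u1, u1, rfl, hu1.1, hu1.2⟩,
    ?_, ?_⟩
  · intro heq
    have := congrArg Subtype.val heq
    simp only at this
    exact hnot (ConjClasses.mk_eq_mk_iff_isConj.1 this)
  · ext x
    simp only [Set.mem_insert_iff, Set.mem_singleton_iff, Set.mem_univ, iff_true]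
    obtain ⟨C, u, rfl, hun, hur⟩ := x
    rcases key u hun hur with hc | hc
    · left
      apply Subtype.ext
      exact (ConjClasses.mk_eq_mk_iff_isConj.2 hc).symm
    · right
      apply Subtype.ext
      exact (ConjClasses.mk_eq_mk_iff_isConj.2 hc).symm

end Cfsg.Agent.S2591
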