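import Mathlib
import Cfsg.Statements.S2592
import Cfsg.Agent.Lib_helper17_RegU5

set_option autoImplicit false

open Cfsg

namespace Cfsg.Agent.S2592

open Cfsg.Agent.helper17.RegU

theorem result {F : Type*} [Field F] [Fintype F] {q : ℕ} (hF : Fintype.card F = q) (hq : Odd q) {m : ℕ} (hm : 1 ≤ m) (u : Matrix.symplecticGroup (Fin m) F) (hnil : ((u : Matrix (Fin m ⊕ Fin m) (Fin m ⊕ Fin m) F) - 1) ^ (2 * m) = 0) (hreg : ((u : Matrix (Fin m ⊕ Fin m) (Fin m ⊕ Fin m) F) - 1).rank = 2 * m - 1) : Nat.card ↥(Subgroup.centralizer ({u} : Set ↥(Matrix.symplecticGroup (Fin m) F))) = 2 * q ^ m := by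
  have h2 : (2 : F) ≠ 0 := by
    apply Ring.two_ne_zero
    intro hch
    have := FiniteField.even_card_iff_char_two.1 hch
    rw [hF] at this
    rcases hq with ⟨k, hk⟩
    omega
  have hcard : Fintype.card (Fin m ⊕ Fin m) = 2 * m := by
    simp; omega
  have hpos : 0 < 2 * m := by omega
  have hR := regNil_sOf h2 u hcard hpos hnil hreg
  rw [card_centralizer u hR]
  have hne : 2 * m ≠ 0 := by omega
  have h3 := (locInv F hne h2).card_norm_one
  have h4 := card_odd F h2 m
  have h5 : Nat.card F = q := by rw [Nat.card_eq_fintype_card, hF]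
  rw [h5] at h4
  rw [← h4]
  exact h3

end Cfsg.Agent.S2592
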