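import Cfsg.Statements.S2599

set_option autoImplicit false
open scoped Pointwise
open Cfsg

namespace Cfsg.Agent.S2599

open Matrix

/-- An irreducible invariant subspace of a semisimple isometry is non-degenerate or totally singular, or a fixed nonsingular line in characteristic two. -/
theorem result {F : Type*} [Field F] [Fintype F] {p : ℕ} [Fact p.Prime] [CharP F p] {n : ℕ} (Q : QuadraticForm F (Fin n → F)) (hQ : (QuadraticMap.polarBilin Q).Nondegenerate) (x : ↥(Cfsg.isometryGroup F ⇑Q)) (hx : (orderOf x).Coprime p) (U : Submodule F (Fin n → F)) (hU0 : U ≠ ⊥) (hUx : ∀ u ∈ U, ((x : Matrix.GeneralLinearGroup (Fin n) F) : Matrix (Fin n) (Fin n) F).mulVec u ∈ U) (hirr : ∀ W : Submodule F (Fin n → F), W ≤ U → (∀ w ∈ W, ((x : Matrix.GeneralLinearGroup (Fin n) F) : Matrix (Fin n) (Fin n) F).mulVec w ∈ W) → W = ⊥ ∨ W = U) : U ⊓ LinearMap.BilinForm.orthogonal (QuadraticMap.polarBilin Q) U = ⊥ ∨ (∀ u ∈ U, Q u = 0) ∨ (p = 2 ∧ Module.finrank F U = 1 ∧ (∃ u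 ∈ U, Q u ≠ 0) ∧ ∀ u ∈ U, ((x : Matrix.GeneralLinearGroup (Fin n) F) : Matrix (Fin n) (Fin n) F).mulVec u = u) := by
  classical
  set A : Matrix (Fin n) (Fin n) F := ((x : Matrix.GeneralLinearGroup (Fin n) F) : Matrix (Fin n) (Fin n) F) with hA
  set B := QuadraticMap.polarBilin Q with hB
  have hiso : ∀ u, Q (A *ᵥ u) = Q u := fun u => x.2 u u
  have hBapp : ∀ u v, B u v = QuadraticMap.polar Q u v := fun u v => QuadraticMap.polarBilin_apply_apply Q u v
  have hBiso : ∀ u v, B (A *ᵥ u) (A *ᵥ v) = B u v := by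
    intro u v
    rw [hBapp, hBapp, QuadraticMap.polar, QuadraticMap.polar, ← mulVec_add, hiso, hiso, hiso]
  -- injectivity of A
  have hAinv : ∀ u, (((x⁻¹ : ↥(Cfsg.isometryGroup F ⇑Q)) : Matrix.GeneralLinearGroup (Fin n) F) : Matrix (Fin n) (Fin n) F) *ᵥ (A *ᵥ u) = u := by
    intro u
    rw [mulVec_mulVec, hA]
    have : (((x⁻¹ : ↥(Cfsg.isometryGroup F ⇑Q)) : Matrix.GeneralLinearGroup (Fin n) F) : Matrix (Fin n) (Fin n) F) * ((x : Matrix.GeneralLinearGroup (Fin n) F) : Matrix (Fin n) (Fin n) F) = 1 := by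
      rw [Subgroup.coe_inv, ← Units.val_mul, inv_mul_cancel, Units.val_one]
    rw [this, one_mulVec]
  have hAinj : ∀ u v, A *ᵥ u = A *ᵥ v → u = v := by
    intro u v h
    rw [← hAinv u, ← hAinv v, h]
  -- surjectivity on U
  have hsurj : ∀ u ∈ U, ∃ u' ∈ U, A *ᵥ u' = u := by
    let φ : U → U := fun u => ⟨A *ᵥ u, hUx u u.2⟩
    have hφ : Function.Injective φ := by
      intro u v h
      exact Subtype.ext (hAinj _ _ (congrArg Subtype.val h))
    have hφs : Function.Surjective φ := Finite.surjective_of_injective hφ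
    intro u hu
    obtain ⟨u', hu'⟩ := hφs ⟨u, hu⟩
    exact ⟨u', u'.2, congrArg Subtype.val hu'⟩
  -- W = U ⊓ U^⊥ is invariant
  have hWinv : ∀ w ∈ U ⊓ LinearMap.BilinForm.orthogonal B U, A *ᵥ w ∈ U ⊓ LinearMap.BilinForm.orthogonal B U := by
    intro w hw
    have hwU : w ∈ U := hw.1
    have hwO : w ∈ LinearMap.BilinForm.orthogonal B U := hw.2
    refine ⟨hUx w hwU, ?_⟩
    show A *ᵥ w ∈ LinearMap.BilinForm.orthogonal B U
    rw [LinearMap.BilinForm.mem_orthogonal_iff] at hwO ⊢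
    intro m hm
    obtain ⟨m', hm'U, rfl⟩ := hsurj m hm
    rw [hBiso]
    exact hwO m' hm'U
  rcases hirr _ inf_le_left hWinv with hW | hW
  · exact Or.inl hW
  right
  -- U is totally isotropic for B
  have hUiso : ∀ u ∈ U, ∀ v ∈ U, QuadraticMap.polar Q u v = 0 := by
    intro u hu v hv
    have hv' : v ∈ U ⊓ LinearMap.BilinForm.orthogonal B U := by rw [hW]; exact hv
    have := (LinearMap.BilinForm.mem_orthogonal_iff.mp hv'.2) u hu
    rw [hBapp] at this
    exact this
  have hadd : ∀ u ∈ U, ∀ v ∈ U, Q (u + v) = Q u + Q v := by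
    intro u hu v hv
    rw [QuadraticMap.map_add Q, hUiso u hu v hv, add_zero]
  -- the singular vectors of U
  let Z : Submodule F (Fin n → F) :=
    { carrier := {u | u ∈ U ∧ Q u = 0}
      add_mem' := by
        rintro u v ⟨hu, hu0⟩ ⟨hv, hv0⟩
        exact ⟨U.add_mem hu hv, by rw [hadd u hu v hv, hu0, hv0, add_zero]⟩
      zero_mem' := ⟨U.zero_mem, QuadraticMap.map_zero Q⟩
      smul_mem' := by
        rintro a u ⟨hu, hu0⟩
        exact ⟨U.smul_mem a hu, by rw [QuadraticMap.map_smul, hu0, smul_zero]⟩ }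
  have hZU : Z ≤ U := fun u hu => hu.1
  have hZinv : ∀ w ∈ Z, A *ᵥ w ∈ Z := by
    rintro w ⟨hwU, hw0⟩
    exact ⟨hUx w hwU, by rw [hiso, hw0]⟩
  rcases hirr Z hZU hZinv with hZ | hZ
  · right
    have hZ0 : ∀ u ∈ U, Q u = 0 → u = 0 := by
      intro u hu hu0
      have : u ∈ Z := ⟨hu, hu0⟩
      rw [hZ] at this
      exact (Submodule.mem_bot F).mp this
    obtain ⟨u₀, hu₀U, hu₀⟩ := Submodule.exists_mem_ne_zero_of_ne_bot hU0
    have hQu₀ : Q u₀ ≠ 0 := fun h => hu₀ (hZ0 u₀ hu₀U h)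
    -- 2 = 0
    have h2 : (2 : F) = 0 := by
      by_contra h2
      apply hQu₀
      have h1 := QuadraticMap.polar_self Q u₀
      rw [hUiso u₀ hu₀U u₀ hu₀U] at h1
      have h3 : (2 : F) * Q u₀ = 0 := by
        rw [two_mul, ← two_smul ℕ (Q u₀)]; exact h1.symm
      rcases mul_eq_zero.mp h3 with h | h
      · exact absurd h h2
      · exact h
    have hp2 : p = 2 := by
      have : ((2 : ℕ) : F) = 0 := by exact_mod_cast h2
      rw [CharP.cast_eq_zero_iff F p] at this
      exact (Nat.prime_dvd_prime_iff_eq (Fact.out) Nat.prime_two).mp this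
    subst hp2
    have hchar : ringChar F = 2 := ringChar.eq F 2
    have hself : ∀ a : F, a + a = 0 := fun a => CharTwo.add_self_eq_zero a
    have hfix : ∀ u ∈ U, A *ᵥ u = u := by
      intro u hu
      have h1 : A *ᵥ u + u ∈ U := U.add_mem (hUx u hu) hu
      have h2 : Q (A *ᵥ u + u) = 0 := by
        rw [hadd _ (hUx u hu) _ hu, hiso, hself]
      have h3 := hZ0 _ h1 h2
      have : A *ᵥ u = -u := eq_neg_of_add_eq_zero_left h3
      rw [this]
      funext i
      simp only [Pi.neg_apply]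
      exact CharTwo.neg_eq (u i)
    have hspan : U = F ∙ u₀ := by
      apply le_antisymm
      · intro u hu
        obtain ⟨a, ha⟩ := FiniteField.isSquare_of_char_two hchar (Q u / Q u₀)
        have h1 : u + a • u₀ ∈ U := U.add_mem hu (U.smul_mem a hu₀U)
        have h2 : Q (u + a • u₀) = 0 := by
          rw [hadd u hu _ (U.smul_mem a hu₀U), QuadraticMap.map_smul, ← ha, smul_eq_mul, div_mul_cancel₀ _ hQu₀, hself]
        have h3 := hZ0 _ h1 h2
        have h4 : u = -(a • u₀) := eq_neg_of_add_eq_zero_left h3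
        rw [h4]
        exact Submodule.neg_mem _ (Submodule.smul_mem _ a (Submodule.mem_span_singleton_self u₀))
      · rw [Submodule.span_singleton_le_iff_mem]
        exact hu₀U
    refine ⟨rfl, ?_, ⟨u₀, hu₀U, hQu₀⟩, hfix⟩
    rw [hspan]
    exact finrank_span_singleton hu₀
  · left
    intro u hu
    have : u ∈ Z := by rw [hZ]; exact hu
    exact this.2

end Cfsg.Agent.S2599
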