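import Cfsg.Statements.S2602
import Cfsg.Agent.Lib_helper11_OutPSL4
import Cfsg.Agent.Lib_helper12_Card
import Cfsg.Agent.Lib_helper2_Classical

set_option autoImplicit false
open Cfsg

namespace Cfsg.Agent.S2602

open Matrix Cfsg.Agent.helper11.OutPSL

/-- Structure of the outer automorphism group of PSL_2(q), q = p^f ≥ 4: it has a normal cyclic subgroup of order gcd(2, q − 1) (diagonal automorphisms) with cyclic quotient of order f (field automorphisms); there is no graph automorphism in dimension 2. -/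
theorem result {F : Type*} [Field F] [Fintype F] {p f : ℕ} [Fact p.Prime] (hf : 1 ≤ f) (hF : Fintype.card F = p ^ f) (h4 : 4 ≤ p ^ f) : ∃ φ : Cfsg.Out (Matrix.ProjectiveSpecialLinearGroup (Fin 2) F) →* Multiplicative (ZMod f), Function.Surjective φ ∧ IsCyclic φ.ker ∧ Nat.card φ.ker = Nat.gcd 2 (p ^ f - 1) := by
  haveI : CharP F p := charP_of_card hf hF
  haveI : NeZero f := ⟨by omega⟩
  obtain ⟨Φ, hΦ, hΦ2⟩ := exists_Phi (F := F) p
  obtain ⟨ψ⟩ := ringAut_equiv (F := F) p hF
  obtain ⟨Φ', hΦ'⟩ : ∃ Φ' : MulAut (Matrix.ProjectiveSpecialLinearGroup (Fin 2) F) →*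
      Multiplicative (ZMod f), ∀ a, Φ' a = ψ (Φ a) := ⟨ψ.toMonoidHom.comp Φ, fun _ => rfl⟩
  have hΦsG : ∀ σ : F ≃+* F, Φ (sG σ) = σ := by
    intro σ
    have := hΦ 1 σ
    rwa [map_one, one_mul] at this
  have hΦcG : ∀ g : GL (Fin 2) F, Φ (cG g) = 1 := by
    intro g
    have := hΦ g 1
    rwa [map_one, mul_one] at this
  have hInn : Cfsg.Inn (Matrix.ProjectiveSpecialLinearGroup (Fin 2) F) ≤ Φ'.ker := by
    rintro _ ⟨x, rfl⟩
    obtain ⟨x, rfl⟩ := pr_surjective x
    rw [MonoidHom.mem_ker, hΦ', ← cG_toGL, hΦcG, map_one]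
  have hΦ'surj : Function.Surjective Φ' := by
    intro z
    refine ⟨sG (ψ.symm z), ?_⟩
    rw [hΦ', hΦsG, ψ.apply_symm_apply]
  have hker : Φ'.ker = (cG (F := F)).range := by
    ext a
    rw [MonoidHom.mem_ker, hΦ']
    constructor
    · intro h
      have h1 : Φ a = 1 := by
        apply ψ.injective
        rw [h, map_one]
      obtain ⟨g, hg⟩ := hΦ2 a
      rw [h1, map_one, mul_one] at hg
      exact ⟨g, hg.symm⟩
    · rintro ⟨g, rfl⟩
      rw [hΦcG, map_one]
  obtain ⟨φ, hφ⟩ : ∃ φ : Cfsg.Out (Matrix.ProjectiveSpecialLinearGroup (Fin 2) F) →*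
      Multiplicative (ZMod f), ∀ a, φ (QuotientGroup.mk a) = Φ' a :=
    ⟨QuotientGroup.lift (Cfsg.Inn (Matrix.ProjectiveSpecialLinearGroup (Fin 2) F)) Φ' hInn,
      fun _ => rfl⟩
  have hφsurj : Function.Surjective φ := by
    intro z
    obtain ⟨a, ha⟩ := hΦ'surj z
    exact ⟨QuotientGroup.mk a, by rw [hφ, ha]⟩
  have hcardZ : Nat.card (Multiplicative (ZMod f)) = f := by
    rw [Nat.card_congr Multiplicative.toAdd, Nat.card_zmod]
  -- counting
  haveI : Finite (Matrix.ProjectiveSpecialLinearGroup (Fin 2) F) := inferInstance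
  have hN : 0 < Nat.card (Matrix.ProjectiveSpecialLinearGroup (Fin 2) F) := Nat.card_pos
  have hq : 2 ≤ Fintype.card F := Fintype.one_lt_card
  have ha := Subgroup.card_eq_card_quotient_mul_card_subgroup
    (Cfsg.Inn (Matrix.ProjectiveSpecialLinearGroup (Fin 2) F))
  have hb := Subgroup.card_eq_card_quotient_mul_card_subgroup φ.ker
  rw [Nat.card_congr (QuotientGroup.quotientKerEquivOfSurjective φ hφsurj).toEquiv, hcardZ] at hb
  have hc := Subgroup.card_eq_card_quotient_mul_card_subgroup Φ'.ker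
  rw [Nat.card_congr (QuotientGroup.quotientKerEquivOfSurjective Φ' hΦ'surj).toEquiv, hcardZ,
    hker, card_range_cG] at hc
  rw [card_inn_of_centerless center_trivial] at ha
  have hd := Cfsg.Agent.helper2.card_SL_eq_card_PSL_mul (F := F) 2
  rw [Cfsg.Agent.helper12.card_SL2, Cfsg.Agent.helper2.card_center_SL 2 (by norm_num)] at hd
  have hcard : Nat.card φ.ker = Nat.gcd 2 (p ^ f - 1) := by
    have h1 : f * (Nat.card φ.ker *
        Nat.card (Matrix.ProjectiveSpecialLinearGroup (Fin 2) F)) =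
        f * ((Fintype.card F ^ 2 - 1) * Fintype.card F) := by
      rw [← hc, ha]
      show _ = Nat.card (Cfsg.Out (Matrix.ProjectiveSpecialLinearGroup (Fin 2) F)) * _
      rw [hb, mul_assoc]
    have h2 := Nat.eq_of_mul_eq_mul_left (by omega : 0 < f) h1
    rw [mul_comm (Fintype.card F ^ 2 - 1), hd, mul_comm] at h2
    have h3 := Nat.eq_of_mul_eq_mul_left hN h2
    rw [h3, hF, Nat.gcd_comm]
  refine ⟨φ, hφsurj, ?_, hcard⟩
  have hdvd : Nat.card φ.ker ∣ 2 := by
    rw [hcard]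
    exact Nat.gcd_dvd_left _ _
  rcases (Nat.dvd_prime Nat.prime_two).mp hdvd with h | h
  · haveI : Subsingleton φ.ker := (Nat.card_eq_one_iff_unique.mp h).1
    exact isCyclic_of_subsingleton
  · haveI : Fact (Nat.Prime 2) := ⟨Nat.prime_two⟩
    exact isCyclic_of_prime_card h

end Cfsg.Agent.S2602
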