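import Cfsg.Statements.S2609
import Cfsg.Agent.Lib_helper13_ReflG

set_option autoImplicit false
open Cfsg

namespace Cfsg.Agent.S2609

open Matrix QuadraticMap Cfsg.Agent.helper13


/-- Spinor norm criterion for Ω over a finite field of odd order: let Q be a quadratic form on F^n, n ≥ 2, with non-degenerate polar form, and let g be an isometry written as a product of reflections in non-singular vectors v_1, …, v_k. Then g lies in Ω (the commutator subgroup of the orthogonal group) if and only if k is even and Q(v_1)⋯Q(v_k) is a square; in particular, for g of determinant one, whether that product is a square does not depend on the chosen factorisation (it is the spinor norm of g). -/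
theorem result {F : Type*} [Field F] [Fintype F] (h2 : (2 : F) ≠ 0) {n : ℕ} (hn : 2 ≤ n) (Q : QuadraticForm F (Fin n → F)) (hQ : (QuadraticMap.polarBilin Q).Nondegenerate) (g : ↥(Cfsg.isometryGroup F ⇑Q)) (vs : List (Fin n → F)) (hvs : ∀ v ∈ vs, Q v ≠ 0) (hg : ((g : Matrix.GeneralLinearGroup (Fin n) F) : Matrix (Fin n) (Fin n) F) = (vs.map (fun v => Cfsg.reflectionMatrix ⇑Q v)).prod) : g ∈ Cfsg.Omega F ⇑Q ↔ (Even vs.length ∧ IsSquare (vs.map (fun v => Q v)).prod) := by
  classical
  have hn' : 2 ≤ Fintype.card (Fin n) := by rw [Fintype.card_fin]; exact hn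
  obtain ⟨θ, hθ⟩ := exists_spinor Q h2 hQ
  obtain ⟨δ, hδ, -⟩ := exists_detSign Q h2 hQ
  have hgp := eq_prodR_of_coe Q g vs hvs hg
  show g ∈ commutator _ ↔ _
  rw [mem_commutator_iff Q θ δ h2 hQ hn' hθ hδ g, hgp, delta_prodR Q δ hδ vs hvs]
  have hprod : (vs.map (fun v => Q v)).prod ≠ 0 := by
    apply List.prod_ne_zero
    intro h
    obtain ⟨v, hv, hv0⟩ := List.mem_map.mp h
    exact hvs v hv hv0
  have h1 : θ (prodR Q vs) = 1 ↔ IsSquare (vs.map (fun v => Q v)).prod := by
    rw [← quadraticChar_one_iff_isSquare hprod, ← theta_prodR Q θ hθ vs hvs]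
    constructor
    · intro h
      rw [h]
      rfl
    · intro h
      exact Units.ext h
  rw [h1, neg_one_pow_eq_one_iff_even int_units_neg_one_ne_one]
  exact and_comm

end Cfsg.Agent.S2609
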