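import Cfsg.Statements.S2611
import Cfsg.Agent.Lib_helper13_PlusGL3

set_option autoImplicit false
open Cfsg

namespace Cfsg.Agent.S2611

open Matrix QuadraticMap Module Cfsg.Agent.helper13


/-- For the hyperbolic quadratic form Σ x_i y_i on F^(2m) (F finite, m ≥ 1, excluding m = 2 over the field of two elements) and an invertible m × m matrix A, the block-diagonal isometry diag(A, (A⁻¹)ᵀ), which stabilises the two maximal totally singular subspaces x = 0 and y = 0, lies in Ω⁺_2m(F) (the commutator subgroup of the orthogonal group) if and only if det A is a square in F. -/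
theorem result {F : Type*} [Field F] [Fintype F] {m : ℕ} (hm : 1 ≤ m) (h : Fintype.card F ≠ 2 ∨ m ≠ 2) (A : GL (Fin m) F) : (∃ g : ↥(Cfsg.isometryGroup F (Cfsg.quadFormPlus m F)), g ∈ Cfsg.Omega F (Cfsg.quadFormPlus m F) ∧ ((g : Matrix.GeneralLinearGroup (Fin m ⊕ Fin m) F) : Matrix (Fin m ⊕ Fin m) (Fin m ⊕ Fin m) F) = Matrix.fromBlocks (A : Matrix (Fin m) (Fin m) F) 0 0 ((A : Matrix (Fin m) (Fin m) F)⁻¹).transpose) ↔ IsSquare (A : Matrix (Fin m) (Fin m) F).det := by
  classical
  rw [← QPlus_coe F m]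
  have hnd := QPlus_nondeg (F := F) m
  have hne : Fintype.card F ≠ 2 ∨ Fintype.card (Fin m ⊕ Fin m) ≠ 4 := by
    rw [Fintype.card_sum, Fintype.card_fin]
    rcases h with h | h
    · left; exact h
    · right; omega
  obtain ⟨θ, δ, hθ, hδ⟩ := exists_theta_delta (QPlus F m) hnd
  have hdet0 : (A : Matrix (Fin m) (Fin m) F).det ≠ 0 := by
    have := (Matrix.GeneralLinearGroup.det A).ne_zero
    simpa using this
  have hcoe : ((dGL A : Matrix.GeneralLinearGroup (Fin m ⊕ Fin m) F) :
      Matrix (Fin m ⊕ Fin m) (Fin m ⊕ Fin m) F) =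
      Matrix.fromBlocks (A : Matrix (Fin m) (Fin m) F) 0 0
        ((A : Matrix (Fin m) (Fin m) F)⁻¹).transpose := by
    rw [coe_dGL, Matrix.coe_units_inv]
  have hmem : dGL A ∈ commutator ↥(Cfsg.isometryGroup F ⇑(QPlus F m)) ↔
      IsSquare (A : Matrix (Fin m) (Fin m) F).det := by
    rw [mem_commutator_iff_all (QPlus F m) hnd hne θ δ hθ hδ, delta_dGL hne δ hδ A]
    by_cases h2 : (2 : F) = 0
    · have hθ1 : θ = 1 := by
        apply hom_ext_all _ hnd hne
        intro w hw
        apply Units.ext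
        rw [hθ w hw, quadraticChar_of_two h2 hw]
        rfl
      have hch : ringChar F = 2 := CharP.ringChar_of_prime_eq_zero Nat.prime_two h2
      simp [hθ1, FiniteField.isSquare_of_char_two hch]
    · rw [theta_dGL h2 θ hθ A, ← quadraticChar_one_iff_isSquare hdet0, ← chiDet_apply]
      constructor
      · rintro ⟨h1, -⟩
        rw [h1]
        rfl
      · intro h1
        exact ⟨Units.ext h1, rfl⟩
  constructor
  · rintro ⟨g, hg, hmat⟩
    have hgA : g = dGL A := by
      apply Subtype.ext
      apply Units.ext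
      rw [hmat, hcoe]
    rw [hgA] at hg
    exact hmem.mp hg
  · intro hs
    exact ⟨dGL A, hmem.mpr hs, hcoe⟩

end Cfsg.Agent.S2611
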