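import Cfsg.Statements.S2612
import Cfsg.Agent.Lib_helper13_PlusGL

set_option autoImplicit false
open Cfsg

namespace Cfsg.Agent.S2612

open Matrix QuadraticMap Module Cfsg.Agent.helper13
theorem mem_stdker {F : Type*} [Field F] {m : ℕ} (x : Fin m ⊕ Fin m → F) :
    x ∈ LinearMap.ker (LinearMap.funLeft F F (Sum.inr : Fin m → Fin m ⊕ Fin m)) ↔
      ∀ i, x (Sum.inr i) = 0 := by
  rw [LinearMap.mem_ker]
  constructor
  · intro h i
    exact congrFun h i
  · intro h
    funext i
    exact h i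


/-- For the hyperbolic quadratic form Σ x_i y_i on F^(2m) (F finite, m ≥ 1, excluding m = 2 over the field of two elements), Ω⁺_2m(F) (the commutator subgroup of the orthogonal group) contains an element interchanging the two complementary maximal totally singular subspaces {y = 0} and {x = 0} if and only if m is even (dimension divisible by 4). -/
theorem result {F : Type*} [Field F] [Fintype F] {m : ℕ} (hm : 1 ≤ m) (h : Fintype.card F ≠ 2 ∨ m ≠ 2) : (∃ g : ↥(Cfsg.isometryGroup F (Cfsg.quadFormPlus m F)), g ∈ Cfsg.Omega F (Cfsg.quadFormPlus m F) ∧ (∀ v : Fin m ⊕ Fin m → F, (∀ i, v (Sum.inr i) = 0) → ∀ i, (((g : Matrix.GeneralLinearGroup (Fin m ⊕ Fin m) F) : Matrix (Fin m ⊕ Fin m) (Fin m ⊕ Fin m) F).mulVec v) (Sum.inl i) = 0) ∧ (∀ v : Fin m ⊕ Fin m → F, (∀ i, v (Sum.inl i) = 0) → ∀ i, (((g : Matrix.GeneralLinearGroup (Fin m ⊕ Fin m) F) : Matrix (Fin m ⊕ Fin m) (Fin m ⊕ Fin m) F).mulVec v) (Sum.inr i) = 0)) ↔ Even m := by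
  classical
  rw [← QPlus_coe F m]
  have hnd := QPlus_nondeg (F := F) m
  have hV := finrank_plus_space F m
  have hU₀ : MTS (QPlus F m) m
      (LinearMap.ker (LinearMap.funLeft F F (Sum.inr : Fin m → Fin m ⊕ Fin m))) := by
    rw [Cfsg.Agent.S2629.ker_eq]
    exact stdU_mts F m
  have hne : Fintype.card F ≠ 2 ∨ Fintype.card (Fin m ⊕ Fin m) ≠ 4 := by
    rw [Fintype.card_sum, Fintype.card_fin]
    rcases h with h | h
    · left; exact h
    · right; omega
  constructor
  · rintro ⟨g, hg, h1, -⟩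
    have hc : clsChar (QPlus F m) hnd hV _ hU₀ g = 1 :=
      MonoidHom.mem_ker.mp (Abelianization.commutator_subset_ker _ hg)
    rw [clsChar_apply] at hc
    have hinf : LinearMap.ker (LinearMap.funLeft F F (Sum.inr : Fin m → Fin m ⊕ Fin m)) ⊓
        gmap g (LinearMap.ker (LinearMap.funLeft F F (Sum.inr : Fin m → Fin m ⊕ Fin m))) = ⊥ := by
      rw [eq_bot_iff]
      rintro x ⟨hx0, hx1⟩
      obtain ⟨u, hu, rfl⟩ := (mem_gmap g _ _).mp hx1
      have hx0' := (mem_stdker _).mp hx0
      have hu' := (mem_stdker _).mp hu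
      rw [Submodule.mem_bot]
      funext k
      rcases k with j | j
      · exact h1 u hu' j
      · exact hx0' j
    rw [hinf, finrank_bot, Nat.sub_zero,
      neg_one_pow_eq_one_iff_even int_units_neg_one_ne_one] at hc
    exact hc
  · intro hm2
    obtain ⟨θ, δ, hθ, hδ⟩ := exists_theta_delta (QPlus F m) hnd
    obtain ⟨g, hg, hgθ, hgδ⟩ := exists_swapOn θ δ hθ hδ Finset.univ
    rw [Finset.card_univ, Fintype.card_fin] at hgθ hgδ
    refine ⟨g, ?_, ?_, ?_⟩
    · apply (mem_commutator_iff_all (QPlus F m) hnd hne θ δ hθ hδ g).mpr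
      constructor
      · apply Units.ext
        rw [hgθ]
        obtain ⟨k, rfl⟩ := hm2
        rw [← two_mul, pow_mul, quadraticChar_sq_one (neg_ne_zero.mpr one_ne_zero), one_pow]
        rfl
      · rw [hgδ]
        exact hm2.neg_one_pow
    · intro v hv i
      have e : ((g : Matrix.GeneralLinearGroup (Fin m ⊕ Fin m) F) :
          Matrix (Fin m ⊕ Fin m) (Fin m ⊕ Fin m) F).mulVec v = swapOn Finset.univ v := hg v
      rw [e]
      simp [swapOn, hv i]
    · intro v hv i
      have e : ((g : Matrix.GeneralLinearGroup (Fin m ⊕ Fin m) F) :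
          Matrix (Fin m ⊕ Fin m) (Fin m ⊕ Fin m) F).mulVec v = swapOn Finset.univ v := hg v
      rw [e]
      simp [swapOn, hv i]

end Cfsg.Agent.S2612
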