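import Cfsg.Statements.S2613
import Cfsg.Agent.Lib_helper13_ReflI

set_option autoImplicit false
open Cfsg

namespace Cfsg.Agent.S2613

open Matrix QuadraticMap Cfsg.Agent.helper13


/-- For the hyperbolic form Σ x_j y_j on F^(2m), F finite with q elements, q odd, and 1 ≤ i ≤ m: the involution negating the first i hyperbolic pairs (x_j, y_j ↦ −x_j, −y_j for j < i) and fixing the rest lies in Ω⁺_2m(q) (commutator subgroup of the orthogonal group) if and only if q^i ≡ 1 (mod 4); its (−1)-eigenspace is a hyperbolic 2i-space. -/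
theorem result {F : Type*} [Field F] [Fintype F] {q : ℕ} (hF : Fintype.card F = q) (hq : Odd q) {m : ℕ} (i : ℕ) (hi : 1 ≤ i) (him : i ≤ m) : (∃ g : ↥(Cfsg.isometryGroup F (Cfsg.quadFormPlus m F)), g ∈ Cfsg.Omega F (Cfsg.quadFormPlus m F) ∧ ((g : Matrix.GeneralLinearGroup (Fin m ⊕ Fin m) F) : Matrix (Fin m ⊕ Fin m) (Fin m ⊕ Fin m) F) = Matrix.diagonal (fun k : Fin m ⊕ Fin m => if (Sum.elim (fun j : Fin m => (j : ℕ)) (fun j : Fin m => (j : ℕ)) k) < i then (-1 : F) else 1)) ↔ q ^ i % 4 = 1 := by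
  classical
  have h2 : (2 : F) ≠ 0 := two_ne_zero_of_odd_card hF hq
  have hcard : 2 ≤ Fintype.card (Fin m ⊕ Fin m) := by
    rw [Fintype.card_sum, Fintype.card_fin]
    omega
  have hd : ∀ k : Fin m ⊕ Fin m,
      (if (Sum.elim (fun j : Fin m => (j : ℕ)) (fun j : Fin m => (j : ℕ)) k) < i
        then (-1 : F) else 1) =
      ∏ j ∈ Finset.univ.filter (fun j : Fin m => (j : ℕ) < i),
        if k = Sum.inl j ∨ k = Sum.inr j then (-1 : F) else 1 := by
    intro k
    rcases k with j₀ | j₀ <;> simp [Finset.prod_ite_eq, Finset.mem_filter] <;> by_cases h : (j₀ : ℕ) < i <;> simp [h]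
  have key := negPairs_mem_iff (QPlus F m) h2 (QPlus_nondeg m) hcard
    (fun j => Sum.inl j) (fun j => Sum.inr j) (HP_QPlus m)
    (Finset.univ.filter (fun j : Fin m => (j : ℕ) < i)) _ hd
  rw [card_filter_lt' him, isSquare_neg_one_pow_iff hF hq i, QPlus_coe] at key
  exact key

end Cfsg.Agent.S2613
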