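import Cfsg.Statements.S2614
import Cfsg.Agent.Lib_helper13_ReflI

set_option autoImplicit false
open Cfsg

namespace Cfsg.Agent.S2614

open Matrix QuadraticMap Cfsg.Agent.helper13


/-- For the form x_0² + Σ x_j y_j on F^(2m+1), F finite with q elements, q odd, and 1 ≤ i ≤ m: the involution of determinant one negating the first i hyperbolic pairs (and fixing x_0 and the other pairs) lies in Ω_(2m+1)(q) (commutator subgroup of the orthogonal group) if and only if q^i ≡ 1 (mod 4); its (−1)-eigenspace is a hyperbolic 2i-space. -/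
theorem result {F : Type*} [Field F] [Fintype F] {q : ℕ} (hF : Fintype.card F = q) (hq : Odd q) {m : ℕ} (i : ℕ) (hi : 1 ≤ i) (him : i ≤ m) : (∃ g : ↥(Cfsg.isometryGroup F (Cfsg.quadFormOdd m F)), g ∈ Cfsg.Omega F (Cfsg.quadFormOdd m F) ∧ ((g : Matrix.GeneralLinearGroup (Unit ⊕ (Fin m ⊕ Fin m)) F) : Matrix (Unit ⊕ (Fin m ⊕ Fin m)) (Unit ⊕ (Fin m ⊕ Fin m)) F) = Matrix.diagonal (fun k : Unit ⊕ (Fin m ⊕ Fin m) => if (Sum.elim (fun _ : Unit => i) (Sum.elim (fun j : Fin m => (j : ℕ)) (fun j : Fin m => (j : ℕ))) k) < i then (-1 : F) else 1)) ↔ q ^ i % 4 = 1 := by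
  classical
  have h2 : (2 : F) ≠ 0 := two_ne_zero_of_odd_card hF hq
  have hcard : 2 ≤ Fintype.card (Unit ⊕ (Fin m ⊕ Fin m)) := by
    rw [Fintype.card_sum, Fintype.card_sum, Fintype.card_fin, Fintype.card_unit]
    omega
  have hd : ∀ k : Unit ⊕ (Fin m ⊕ Fin m),
      (if (Sum.elim (fun _ : Unit => i)
          (Sum.elim (fun j : Fin m => (j : ℕ)) (fun j : Fin m => (j : ℕ))) k) < i
        then (-1 : F) else 1) =
      ∏ j ∈ Finset.univ.filter (fun j : Fin m => (j : ℕ) < i),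
        if k = Sum.inr (Sum.inl j) ∨ k = Sum.inr (Sum.inr j) then (-1 : F) else 1 := by
    intro k
    rcases k with u | j₀ | j₀ <;> simp [Finset.prod_ite_eq, Finset.mem_filter] <;> by_cases h : (j₀ : ℕ) < i <;> simp [h]
  have key := negPairs_mem_iff (QOdd F m) h2 (QOdd_nondeg h2 m) hcard
    (fun j => Sum.inr (Sum.inl j)) (fun j => Sum.inr (Sum.inr j)) (HP_QOdd m)
    (Finset.univ.filter (fun j : Fin m => (j : ℕ) < i)) _ hd
  rw [card_filter_lt' him, isSquare_neg_one_pow_iff hF hq i, QOdd_coe] at key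
  exact key

end Cfsg.Agent.S2614
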