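import Cfsg.Statements.S2615
import Cfsg.Agent.Lib_helper13_ReflI

set_option autoImplicit false
open Cfsg

namespace Cfsg.Agent.S2615

open Matrix QuadraticMap Cfsg.Agent.helper13


/-- For an elliptic form Σ_(j<m−1) x_j y_j + (z₁² + a z₁z₂ + b z₂²) (anisotropic binary part) on F^(2m), F finite with q elements, q odd, and 1 ≤ i ≤ m − 1: the involution negating the first i hyperbolic pairs and fixing the rest lies in Ω⁻_2m(q) (commutator subgroup of the orthogonal group) if and only if q^i ≡ 1 (mod 4). -/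
theorem result {F : Type*} [Field F] [Fintype F] {q : ℕ} (hF : Fintype.card F = q) (hq : Odd q) {m : ℕ} (a b : F) (hab : ∀ z₁ z₂ : F, z₁ ^ 2 + a * z₁ * z₂ + b * z₂ ^ 2 = 0 → z₁ = 0 ∧ z₂ = 0) (i : ℕ) (hi : 1 ≤ i) (him : i + 1 ≤ m) : (∃ g : ↥(Cfsg.isometryGroup F (Cfsg.quadFormMinus (m - 1) F a b)), g ∈ Cfsg.Omega F (Cfsg.quadFormMinus (m - 1) F a b) ∧ ((g : Matrix.GeneralLinearGroup ((Fin (m - 1) ⊕ Fin (m - 1)) ⊕ Fin 2) F) : Matrix ((Fin (m - 1) ⊕ Fin (m - 1)) ⊕ Fin 2) ((Fin (m - 1) ⊕ Fin (m - 1)) ⊕ Fin 2) F) = Matrix.diagonal (fun k : (Fin (m - 1) ⊕ Fin (m - 1)) ⊕ Fin 2 => if (Sum.elim (Sum.elim (fun j : Fin (m - 1) => (j : ℕ)) (fun j : Fin (m - 1) => (j : ℕ))) (fun _ : Fin 2 => i) k) < i then (-1 : F) else 1)) ↔ q ^ i % 4 = 1 := by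
  classical
  have h2 : (2 : F) ≠ 0 := two_ne_zero_of_odd_card hF hq
  have hD : 4 * b - a ^ 2 ≠ 0 := by
    intro h
    have h3 := hab (-a) 2 (by linear_combination h)
    exact h2 h3.2
  have hcard : 2 ≤ Fintype.card ((Fin (m - 1) ⊕ Fin (m - 1)) ⊕ Fin 2) := by
    rw [Fintype.card_sum, Fintype.card_sum, Fintype.card_fin, Fintype.card_fin]
    omega
  have him' : i ≤ m - 1 := by omega
  have hd : ∀ k : (Fin (m - 1) ⊕ Fin (m - 1)) ⊕ Fin 2,
      (if (Sum.elim (Sum.elim (fun j : Fin (m - 1) => (j : ℕ)) (fun j : Fin (m - 1) => (j : ℕ)))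
          (fun _ : Fin 2 => i) k) < i
        then (-1 : F) else 1) =
      ∏ j ∈ Finset.univ.filter (fun j : Fin (m - 1) => (j : ℕ) < i),
        if k = Sum.inl (Sum.inl j) ∨ k = Sum.inl (Sum.inr j) then (-1 : F) else 1 := by
    intro k
    rcases k with (j₀ | j₀) | u <;> simp [Finset.prod_ite_eq, Finset.mem_filter] <;> by_cases h : (j₀ : ℕ) < i <;> simp [h]
  have key := negPairs_mem_iff (QMinus F (m - 1) a b) h2 (QMinus_nondeg (m - 1) a b hD) hcard
    (fun j => Sum.inl (Sum.inl j)) (fun j => Sum.inl (Sum.inr j)) (HP_QMinus (m - 1) a b)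
    (Finset.univ.filter (fun j : Fin (m - 1) => (j : ℕ) < i)) _ hd
  rw [card_filter_lt' him', isSquare_neg_one_pow_iff hF hq i, QMinus_coe] at key
  exact key

end Cfsg.Agent.S2615
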