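import Cfsg.Statements.S2618
import Cfsg.Agent.Lib_helper13_Witt

set_option autoImplicit false
open Cfsg

namespace Cfsg.Agent.S2618

open Module QuadraticMap Cfsg.Agent.helper13

universe u v

theorem odd_family {F : Type u} [Field F] [Fintype F] (m : ℕ) :
    ∀ (V : Type v) [AddCommGroup V] [Module F V] [FiniteDimensional F V] (Q : QuadraticForm F V),
      (polarBilin Q).Nondegenerate → finrank F V = 2 * m + 1 →
      ∃ (x : V) (e f : Fin m → V), polar (⇑Q) x x ≠ 0 ∧
        (∀ i, polar (⇑Q) x (e i) = 0 ∧ polar (⇑Q) x (f i) = 0) ∧ IsHyp Q e f := by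
  induction m with
  | zero =>
    intro V _ _ _ Q hQ hdim
    have hpos : 0 < finrank F V := by omega
    obtain ⟨x, hx⟩ := (Module.finrank_pos_iff_exists_ne_zero (R := F) (M := V)).mp hpos
    refine ⟨x, Fin.elim0, Fin.elim0, ?_, fun i => i.elim0, isHyp_zero Q _ _⟩
    intro hxx
    apply hx
    apply hQ.1 x
    intro y
    obtain ⟨c, rfl⟩ := (finrank_eq_one_iff_of_nonzero' x hx).mp (by omega) y
    rw [polarBilin_apply_apply, polar_smul_right, hxx, smul_zero]
  | succ m ih =>
    intro V _ _ _ Q hQ hdim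
    obtain ⟨e₀, he₀, hQe⟩ := exists_singular Q hQ (by omega)
    obtain ⟨f₀, hQf, hef⟩ := exists_hyp_pair Q hQ e₀ he₀ hQe
    have hfr := hypCompl_finrank Q hQ hQe hQf hef
    obtain ⟨x', e', f', hx', horth, hhyp⟩ := ih (hypCompl Q e₀ f₀) (Q.comp (hypCompl Q e₀ f₀).subtype)
      (hypCompl_nondeg Q hQ hQe hQf hef) (by omega)
    exact ⟨(x' : V), _, _, hx', cons_orth Q x' horth, IsHyp.cons Q hQe hQf hef hhyp⟩

/-- Standard (parabolic) basis of a non-degenerate quadratic space of odd dimension 2m + 1 over a finite field (the non-degeneracy of the polar form forces the characteristic to be odd): there is a basis e_i, f_i (i < m), x with Q(e_i) = Q(f_i) = 0, B(e_i, f_j) = δ_ij (B the polar form), the e's pairwise orthogonal and the f's pairwise orthogonal, x orthogonal to all of them and Q(x) ≠ 0. -/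
theorem result {F V : Type*} [Field F] [Finite F] [AddCommGroup V] [Module F V] [FiniteDimensional F V] {m : ℕ} (hV : Module.finrank F V = 2 * m + 1) (Q : QuadraticForm F V) (hQ : (QuadraticMap.polarBilin Q).Nondegenerate) : ∃ b : Module.Basis (Unit ⊕ (Fin m ⊕ Fin m)) F V, Q (b (Sum.inl ())) ≠ 0 ∧ (∀ i, QuadraticMap.polar ⇑Q (b (Sum.inl ())) (b (Sum.inr (Sum.inl i))) = 0 ∧ QuadraticMap.polar ⇑Q (b (Sum.inl ())) (b (Sum.inr (Sum.inr i))) = 0) ∧ (∀ i, Q (b (Sum.inr (Sum.inl i))) = 0 ∧ Q (b (Sum.inr (Sum.inr i))) = 0) ∧ (∀ i j, QuadraticMap.polar ⇑Q (b (Sum.inr (Sum.inl i))) (b (Sum.inr (Sum.inr j))) = if i = j then 1 else 0) ∧ (∀ i j, QuadraticMap.polar ⇑Q (b (Sum.inr (Sum.inl i))) (b (Sum.inr (Sum.inl j))) = 0 ∧ QuadraticMap.polar ⇑Q (b (Sum.inr (Sum.inr i))) (b (Sum.inr (Sum.inr j))) = 0) := by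
  classical
  haveI : Fintype F := Fintype.ofFinite F
  obtain ⟨x, e, f, hxx, horth, hhyp⟩ := odd_family m V Q hQ hV
  let bv : Unit ⊕ (Fin m ⊕ Fin m) → V := Sum.elim (fun _ => x) (Sum.elim e f)
  let bd : Unit ⊕ (Fin m ⊕ Fin m) → V := Sum.elim (fun _ => x) (Sum.elim f e)
  let d : Unit ⊕ (Fin m ⊕ Fin m) → F := Sum.elim (fun _ => polar (⇑Q) x x) (fun _ => 1)
  have hli : LinearIndependent F bv := by
    apply linearIndependent_of_dual Q bv bd d
    · rintro (u | i | i)
      · exact hxx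
      · exact one_ne_zero
      · exact one_ne_zero
    · rintro (u | i | i) (u' | j | j)
      · simp [bv, bd, d]
      · simp [bv, bd, d, (horth j).2]
      · simp [bv, bd, d, (horth j).1]
      · simp only [bv, bd, d, Sum.elim_inl, Sum.elim_inr]
        rw [polar_comm, (horth i).1]
        simp
      · simp only [bv, bd, d, Sum.elim_inl, Sum.elim_inr]
        rw [hhyp.ef i j]
        simp
      · simp only [bv, bd, d, Sum.elim_inl, Sum.elim_inr]
        rw [hhyp.ee i j]
        simp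
      · simp only [bv, bd, d, Sum.elim_inl, Sum.elim_inr]
        rw [polar_comm, (horth i).2]
        simp
      · simp only [bv, bd, d, Sum.elim_inl, Sum.elim_inr]
        rw [hhyp.ff i j]
        simp
      · simp only [bv, bd, d, Sum.elim_inl, Sum.elim_inr]
        rw [polar_comm, hhyp.ef j i]
        simp [eq_comm]
  have hcard : Fintype.card (Unit ⊕ (Fin m ⊕ Fin m)) = finrank F V := by
    rw [hV]
    simp
    ring
  let b := basisOfLinearIndependentOfCardEqFinrank hli hcard
  have hb : ∀ i, b i = bv i := fun i => by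
    simp [b, coe_basisOfLinearIndependentOfCardEqFinrank]
  refine ⟨b, ?_, ?_, ?_, ?_, ?_⟩
  · rw [hb]
    intro h0
    apply hxx
    show polar (⇑Q) x x = 0
    rw [polar_self']
    have : Q x = 0 := h0
    rw [this, mul_zero]
  · intro i
    rw [hb, hb, hb]
    exact horth i
  · intro i
    rw [hb, hb]
    exact ⟨hhyp.Qe i, hhyp.Qf i⟩
  · intro i j
    rw [hb, hb]
    exact hhyp.ef i j
  · intro i j
    rw [hb, hb, hb, hb]
    exact ⟨hhyp.ee i j, hhyp.ff i j⟩

end Cfsg.Agent.S2618
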