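import Cfsg.Statements.S2619

set_option autoImplicit false
open scoped Pointwise
open Cfsg

namespace Cfsg.Agent.S2619

theorem toBilin_basis {F V ι : Type*} [Field F] [AddCommGroup V] [Module F V] [Fintype ι] [DecidableEq ι]
    (b : Module.Basis ι F V) (M : Matrix ι ι F) (i j : ι) : (Matrix.toBilin b M) (b i) (b j) = M i j := by
  rw [← LinearMap.BilinForm.toMatrix_apply b, LinearMap.BilinForm.toMatrix_toBilin]

theorem uniq_aux {F V ι : Type*} [Field F] [AddCommGroup V] [Module F V]
    (b : ι → V) (Q₁ Q₂ : QuadraticForm F V) (hpol : ∀ x y, QuadraticMap.polar Q₁ x y = QuadraticMap.polar Q₂ x y)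
    (hb : ∀ i, Q₁ (b i) = Q₂ (b i)) (a : ι → F) (s : Finset ι) :
    Q₁ (∑ i ∈ s, a i • b i) = Q₂ (∑ i ∈ s, a i • b i) := by
  classical
  induction s using Finset.induction_on with
  | empty => simp
  | insert i s hi ih =>
    rw [Finset.sum_insert hi, QuadraticMap.map_add Q₁, QuadraticMap.map_add Q₂, ih, hpol, QuadraticMap.map_smul,
      QuadraticMap.map_smul, hb]

/-- Over a finite field of characteristic two, given an alternating bilinear form B, a basis and scalars, there is exactly one quadratic form whose polar form is B with the prescribed values. -/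
theorem result {F V ι : Type*} [Field F] [Finite F] [CharP F 2] [AddCommGroup V] [Module F V] [Fintype ι] (b : Module.Basis ι F V) (B : LinearMap.BilinForm F V) (hB : B.IsAlt) (c : ι → F) : ∃! Q : QuadraticForm F V, QuadraticMap.polarBilin Q = B ∧ ∀ i, Q (b i) = c i := by
  classical
  let e : ι ≃ Fin (Fintype.card ι) := Fintype.equivFin ι
  let M : Matrix ι ι F := Matrix.of fun i j => if i = j then c i else if e i < e j then B (b i) (b j) else 0
  let B' : LinearMap.BilinForm F V := Matrix.toBilin b M
  have hM : ∀ i j, B' (b i) (b j) = if i = j then c i else if e i < e j then B (b i) (b j) else 0 := by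
    intro i j
    exact toBilin_basis b M i j
  have hpolar : QuadraticMap.polarBilin B'.toQuadraticMap = B := by
    rw [LinearMap.BilinMap.polarBilin_toQuadraticMap]
    apply LinearMap.BilinForm.ext_basis b
    intro i j
    rw [LinearMap.add_apply, LinearMap.add_apply, LinearMap.flip_apply, hM, hM]
    by_cases hij : i = j
    · subst hij
      simp only [if_true]
      rw [hB.self_eq_zero]
      exact CharTwo.add_self_eq_zero (c i)
    · have hji : ¬ j = i := fun h => hij h.symm
      simp only [hij, hji, if_false]
      rcases lt_trichotomy (e i) (e j) with h | h | h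
      · have h' : ¬ e j < e i := not_lt.mpr h.le
        simp [h, h']
      · exact absurd (e.injective h) hij
      · have h' : ¬ e i < e j := not_lt.mpr h.le
        simp only [h, h', if_true, if_false, zero_add]
        have := LinearMap.BilinForm.IsAlt.neg_eq hB (b j) (b i)
        rw [← this, CharTwo.neg_eq]
  have hval : ∀ i, B'.toQuadraticMap (b i) = c i := by
    intro i
    rw [LinearMap.BilinMap.toQuadraticMap_apply, hM, if_pos rfl]
  refine ⟨B'.toQuadraticMap, ⟨hpolar, hval⟩, ?_⟩
  rintro Q ⟨hQ1, hQ2⟩
  have hpol : ∀ x y, QuadraticMap.polar Q x y = QuadraticMap.polar B'.toQuadraticMap x y := by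
    intro x y
    rw [← QuadraticMap.polarBilin_apply_apply, ← QuadraticMap.polarBilin_apply_apply, hQ1, hpolar]
  have hb : ∀ i, Q (b i) = B'.toQuadraticMap (b i) := by
    intro i
    rw [hQ2, hval]
  ext x
  rw [← b.sum_repr x]
  exact uniq_aux b Q B'.toQuadraticMap hpol hb (fun i => b.repr x i) Finset.univ

end Cfsg.Agent.S2619
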