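import Cfsg.Statements.S2625

set_option autoImplicit false
open scoped Pointwise
open Cfsg

namespace Cfsg.Agent.S2625

/-- For a quadratic form Q on F^n with non-degenerate polar form, F finite and n odd (so |F| is odd), the multiplier of any similarity is a square: if g is an invertible linear map with Q(g v) = c·Q(v) for all v then c is a square. -/
theorem result {F : Type*} [Field F] [Fintype F] {n : ℕ} (hn : Odd n) (Q : QuadraticForm F (Fin n → F)) (hQ : (QuadraticMap.polarBilin Q).Nondegenerate) (g : (Fin n → F) ≃ₗ[F] (Fin n → F)) (c : F) (hg : ∀ v, Q (g v) = c * Q v) : IsSquare c := by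
  classical
  set B : LinearMap.BilinForm F (Fin n → F) := QuadraticMap.polarBilin Q with hB
  set M := LinearMap.BilinForm.toMatrix' B with hM
  set P := LinearMap.toMatrix' (g : (Fin n → F) →ₗ[F] (Fin n → F)) with hP
  have hdetM : M.det ≠ 0 := by
    rw [← Matrix.nondegenerate_iff_det_ne_zero, hM, LinearMap.BilinForm.nondegenerate_toMatrix'_iff]
    exact hQ
  have hcomp : B.comp (g : (Fin n → F) →ₗ[F] (Fin n → F)) (g : (Fin n → F) →ₗ[F] (Fin n → F)) = c • B := by
    refine LinearMap.ext₂ fun u v => ?_
    simp only [hB, LinearMap.BilinForm.comp_apply, LinearMap.smul_apply, smul_eq_mul,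
      QuadraticMap.polarBilin_apply_apply, QuadraticMap.polar, LinearEquiv.coe_coe]
    rw [← map_add, hg, hg, hg]; ring
  have hmat : P.transpose * M * P = c • M := by
    rw [hP, hM, ← LinearMap.BilinForm.toMatrix'_comp, hcomp, map_smul]
  have hdet : P.det ^ 2 * M.det = c ^ n * M.det := by
    have := congrArg Matrix.det hmat
    rw [Matrix.det_mul, Matrix.det_mul, Matrix.det_transpose, Matrix.det_smul, Fintype.card_fin] at this
    rw [← this]; ring
  have hcn : P.det ^ 2 = c ^ n := mul_right_cancel₀ hdetM hdet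
  have hPdet : P.det ≠ 0 := by
    have : P.det = LinearMap.det (g : (Fin n → F) →ₗ[F] (Fin n → F)) := by
      rw [hP, LinearMap.det_toMatrix']
    rw [this]
    exact (LinearEquiv.isUnit_det' g).ne_zero
  have hc0 : c ≠ 0 := by
    intro h0
    rw [h0] at hcn
    obtain ⟨k, hk⟩ := hn
    have hn0 : n ≠ 0 := by omega
    rw [zero_pow hn0] at hcn
    exact hPdet (pow_eq_zero_iff (by norm_num) |>.mp hcn)
  obtain ⟨k, hk⟩ := hn
  refine ⟨P.det / c ^ k, ?_⟩
  have hck : c ^ k ≠ 0 := pow_ne_zero _ hc0
  have hcn' : P.det ^ 2 = c ^ (2 * k + 1) := by rw [hcn]; exact congrArg _ hk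
  field_simp
  rw [hcn']; ring

end Cfsg.Agent.S2625
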