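import Cfsg.Statements.S2626

set_option autoImplicit false
open scoped Pointwise
open Cfsg

namespace Cfsg.Agent.S2626

open Matrix

/-- block diagonal element of GL. -/
def blockGL {F : Type*} [Field F] {k l : ℕ} (A : GL (Fin k) F) (D : GL (Fin l) F) : GL (Fin k ⊕ Fin l) F :=
  ⟨fromBlocks (A : Matrix (Fin k) (Fin k) F) 0 0 (D : Matrix (Fin l) (Fin l) F),
   fromBlocks ((A⁻¹ : GL (Fin k) F) : Matrix (Fin k) (Fin k) F) 0 0 ((D⁻¹ : GL (Fin l) F) : Matrix (Fin l) (Fin l) F),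
   by rw [fromBlocks_multiply]; simp [fromBlocks_one],
   by rw [fromBlocks_multiply]; simp [fromBlocks_one]⟩

theorem blockGL_coe {F : Type*} [Field F] {k l : ℕ} (A : GL (Fin k) F) (D : GL (Fin l) F) :
    ((blockGL A D : GL (Fin k ⊕ Fin l) F) : Matrix (Fin k ⊕ Fin l) (Fin k ⊕ Fin l) F) =
      fromBlocks (A : Matrix (Fin k) (Fin k) F) 0 0 (D : Matrix (Fin l) (Fin l) F) := rfl

theorem blockGL_mul {F : Type*} [Field F] {k l : ℕ} (A A' : GL (Fin k) F) (D D' : GL (Fin l) F) :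
    blockGL (A * A') (D * D') = blockGL A D * blockGL A' D' := by
  apply Units.ext
  rw [Units.val_mul, blockGL_coe, blockGL_coe, blockGL_coe, fromBlocks_multiply]
  simp

theorem mem_iso {ι : Type} [Fintype ι] [DecidableEq ι] {F : Type*} [Field F] (Q : (ι → F) → F)
    (g : GL ι F) : g ∈ isometryGroup F Q ↔ ∀ u : ι → F, Q ((g : Matrix ι ι F) *ᵥ u) = Q u := by
  constructor
  · intro h u
    exact h u u
  · intro h u _
    exact h u

theorem block_mem {F : Type*} [Field F] {k l : ℕ} (Q₁ : (Fin k → F) → F) (Q₂ : (Fin l → F) → F)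
    (A : GL (Fin k) F) (D : GL (Fin l) F) (hA : A ∈ isometryGroup F Q₁) (hD : D ∈ isometryGroup F Q₂) :
    blockGL A D ∈ isometryGroup F (fun v : Fin k ⊕ Fin l → F => Q₁ (v ∘ Sum.inl) + Q₂ (v ∘ Sum.inr)) := by
  rw [mem_iso] at hA hD ⊢
  intro u
  rw [blockGL_coe, fromBlocks_mulVec]
  have h1 : (Sum.elim ((A : Matrix (Fin k) (Fin k) F) *ᵥ (u ∘ Sum.inl) + (0 : Matrix (Fin k) (Fin l) F) *ᵥ (u ∘ Sum.inr))
      ((0 : Matrix (Fin l) (Fin k) F) *ᵥ (u ∘ Sum.inl) + (D : Matrix (Fin l) (Fin l) F) *ᵥ (u ∘ Sum.inr))) ∘ Sum.inl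
      = (A : Matrix (Fin k) (Fin k) F) *ᵥ (u ∘ Sum.inl) := by
    ext i; simp
  have h2 : (Sum.elim ((A : Matrix (Fin k) (Fin k) F) *ᵥ (u ∘ Sum.inl) + (0 : Matrix (Fin k) (Fin l) F) *ᵥ (u ∘ Sum.inr))
      ((0 : Matrix (Fin l) (Fin k) F) *ᵥ (u ∘ Sum.inl) + (D : Matrix (Fin l) (Fin l) F) *ᵥ (u ∘ Sum.inr))) ∘ Sum.inr
      = (D : Matrix (Fin l) (Fin l) F) *ᵥ (u ∘ Sum.inr) := by
    ext i; simp
  simp only [h1, h2, hA, hD]

/-- the block-diagonal homomorphism on isometry groups. -/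
def blockHom {F : Type*} [Field F] {k l : ℕ} (Q₁ : (Fin k → F) → F) (Q₂ : (Fin l → F) → F) :
    (isometryGroup F Q₁) × (isometryGroup F Q₂) →*
      isometryGroup F (fun v : Fin k ⊕ Fin l → F => Q₁ (v ∘ Sum.inl) + Q₂ (v ∘ Sum.inr)) where
  toFun p := ⟨blockGL (p.1 : GL (Fin k) F) (p.2 : GL (Fin l) F), block_mem Q₁ Q₂ _ _ p.1.2 p.2.2⟩
  map_one' := by
    apply Subtype.ext
    apply Units.ext
    simp [blockGL_coe, fromBlocks_one]
  map_mul' p q := by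
    apply Subtype.ext
    simp only [Prod.fst_mul, Prod.snd_mul, Subgroup.coe_mul]
    exact blockGL_mul _ _ _ _

theorem map_comm_le {G G' : Type*} [Group G] [Group G'] (f : G →* G') :
    Subgroup.map f (commutator G) ≤ commutator G' := by
  rw [commutator_def, commutator_def, Subgroup.map_commutator]
  exact Subgroup.commutator_mono le_top le_top

/-- Ω of an orthogonal direct sum contains the product of the Ω's. -/
theorem result {F : Type*} [Field F] [Fintype F] {k l : ℕ} (Q₁ : QuadraticForm F (Fin k → F)) (Q₂ : QuadraticForm F (Fin l → F)) (h₁ : (QuadraticMap.polarBilin Q₁).Nondegenerate) (h₂ : (QuadraticMap.polarBilin Q₂).Nondegenerate) (g₁ : ↥(Cfsg.isometryGroup F ⇑Q₁)) (g₂ : ↥(Cfsg.isometryGroup F ⇑Q₂)) (hg₁ : g₁ ∈ Cfsg.Omega F ⇑Q₁) (hg₂ : g₂ ∈ Cfsg.Omega F ⇑Q₂) : ∃ g : ↥(Cfsg.isometryGroup F (fun v : Fin k ⊕ Fin l → F => Q₁ (v ∘ Sum.inl) + Q₂ (v ∘ Sum.inr))), g ∈ Cfsg.Omega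 F (fun v : Fin k ⊕ Fin l → F => Q₁ (v ∘ Sum.inl) + Q₂ (v ∘ Sum.inr)) ∧ ((g : Matrix.GeneralLinearGroup (Fin k ⊕ Fin l) F) : Matrix (Fin k ⊕ Fin l) (Fin k ⊕ Fin l) F) = Matrix.fromBlocks ((g₁ : Matrix.GeneralLinearGroup (Fin k) F) : Matrix (Fin k) (Fin k) F) 0 0 ((g₂ : Matrix.GeneralLinearGroup (Fin l) F) : Matrix (Fin l) (Fin l) F) := by
  refine ⟨blockHom (⇑Q₁) (⇑Q₂) (g₁, g₂), ?_, rfl⟩
  apply map_comm_le (blockHom (⇑Q₁) (⇑Q₂))
  refine ⟨(g₁, g₂), ?_, rfl⟩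
  have : commutator ((isometryGroup F ⇑Q₁) × (isometryGroup F ⇑Q₂)) =
      (commutator (isometryGroup F ⇑Q₁)).prod (commutator (isometryGroup F ⇑Q₂)) := by
    rw [commutator_def, commutator_def, commutator_def, ← Subgroup.commutator_prod_prod, Subgroup.top_prod_top]
  rw [SetLike.mem_coe, this]
  exact ⟨hg₁, hg₂⟩

end Cfsg.Agent.S2626
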