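import Cfsg.Statements.S2630
import Cfsg.Agent.Lib_helper13_C2E
import Cfsg.Agent.S2629

set_option autoImplicit false
open Cfsg

namespace Cfsg.Agent.S2630

open Matrix QuadraticMap Module Cfsg.Agent.helper13


/-- For the hyperbolic form Σ x_i y_i on F^(2m) over a finite field of characteristic two (m ≥ 1, excluding m = 2 over the field of two elements), an isometry g preserves the class of the maximal totally singular subspace U₀ = {y = 0} (m − dim(U₀ ∩ gU₀) even) if and only if g lies in Ω (the commutator subgroup of the orthogonal group): the stabiliser of each class is Ω. -/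
theorem result {F : Type*} [Field F] [Fintype F] [CharP F 2] {m : ℕ} (hm : 1 ≤ m) (h : Fintype.card F ≠ 2 ∨ m ≠ 2) (g : ↥(Cfsg.isometryGroup F (Cfsg.quadFormPlus m F))) : Even (m - Module.finrank F ↥(LinearMap.ker (LinearMap.funLeft F F (Sum.inr : Fin m → Fin m ⊕ Fin m)) ⊓ (LinearMap.ker (LinearMap.funLeft F F (Sum.inr : Fin m → Fin m ⊕ Fin m))).map (Matrix.mulVecLin ((g : Matrix.GeneralLinearGroup (Fin m ⊕ Fin m) F) : Matrix (Fin m ⊕ Fin m) (Fin m ⊕ Fin m) F)))) ↔ g ∈ Cfsg.Omega F (Cfsg.quadFormPlus m F) := by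
  classical
  have h2 : (2 : F) = 0 := by
    have := CharP.cast_eq_zero F 2
    exact_mod_cast this
  revert g
  rw [← QPlus_coe F m]
  intro g
  have hnd := QPlus_nondeg (F := F) m
  have hV := finrank_plus_space F m
  have hU₀ : MTS (QPlus F m) m
      (LinearMap.ker (LinearMap.funLeft F F (Sum.inr : Fin m → Fin m ⊕ Fin m))) := by
    rw [Cfsg.Agent.S2629.ker_eq]
    exact stdU_mts F m
  have hne : Fintype.card F ≠ 2 ∨ Fintype.card (Fin m ⊕ Fin m) ≠ 4 := by
    rw [Fintype.card_sum, Fintype.card_fin]
    rcases h with h | h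
    · left; exact h
    · right; omega
  have hn' : 1 ≤ Fintype.card (Fin m ⊕ Fin m) := by
    rw [Fintype.card_sum, Fintype.card_fin]; omega
  have key := mem_commutator_iff_two (QPlus F m) h2 hnd hne hn'
    (clsChar (QPlus F m) hnd hV _ hU₀)
    (fun w hw => clsChar_reflG (QPlus F m) hnd hV _ hU₀ w hw) g
  rw [clsChar_apply, neg_one_pow_eq_one_iff_even int_units_neg_one_ne_one] at key
  exact key.symm

end Cfsg.Agent.S2630
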