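import Cfsg.Statements.S2634
import Cfsg.Agent.Lib_helper13_C2E

set_option autoImplicit false
open Cfsg

namespace Cfsg.Agent.S2634

open Matrix QuadraticMap Cfsg.Agent.helper13


/-- Over a finite field of characteristic two, Ω (the commutator subgroup of the orthogonal group of a quadratic form Q on F^n with non-degenerate polar form; excluding dimension 4 over the field of two elements) acts transitively on the non-singular 1-spaces: for u, v with Q(u) ≠ 0 and Q(v) ≠ 0 some element of Ω carries the line through u to the line through v. -/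
theorem result {F : Type*} [Field F] [Fintype F] [CharP F 2] {n : ℕ} (h : Fintype.card F ≠ 2 ∨ n ≠ 4) (Q : QuadraticForm F (Fin n → F)) (hQ : (QuadraticMap.polarBilin Q).Nondegenerate) (u v : Fin n → F) (hu : Q u ≠ 0) (hv : Q v ≠ 0) : ∃ g : ↥(Cfsg.isometryGroup F ⇑Q), g ∈ Cfsg.Omega F ⇑Q ∧ (F ∙ ((g : Matrix.GeneralLinearGroup (Fin n) F) : Matrix (Fin n) (Fin n) F).mulVec u) = F ∙ v := by
  classical
  have h2 : (2 : F) = 0 := by
    have := CharP.cast_eq_zero F 2
    exact_mod_cast this
  have hne : Fintype.card F ≠ 2 ∨ Fintype.card (Fin n) ≠ 4 := by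
    rw [Fintype.card_fin]; exact h
  have hn' : 1 ≤ Fintype.card (Fin n) := by
    rw [Fintype.card_fin]
    rcases Nat.eq_zero_or_pos n with h0 | h0
    · subst h0
      exfalso
      apply hu
      have : u = 0 := Subsingleton.elim _ _
      rw [this, QuadraticMap.map_zero]
    · exact h0
  have hch : ringChar F = 2 := CharP.ringChar_of_prime_eq_zero Nat.prime_two h2
  obtain ⟨t, ht⟩ := FiniteField.isSquare_of_char_two hch (Q u / Q v)
  have ht0 : t ≠ 0 := by
    rintro rfl
    rw [mul_zero] at ht
    exact (div_ne_zero hu hv) ht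
  have hQtv : Q (t • v) = Q u := by
    rw [QuadraticMap.map_smul, smul_eq_mul, ← ht]
    field_simp
  have htv : Q (t • v) ≠ 0 := by rw [hQtv]; exact hu
  obtain ⟨ρ, -, hρ⟩ := lemA Q h2 hQ ⊤ (nondegOn_top Q hQ) (not_exc_top Q hne) (t • v) u
    Submodule.mem_top Submodule.mem_top htv hQtv
  have hmem := mem_commutator_iff_two Q h2 hQ hne hn' _ (dickson_reflG Q h2 hQ)
  rcases Int.units_eq_one_or (dickson Q h2 hQ ρ) with hd | hd
  · refine ⟨ρ, (hmem ρ).mpr hd, ?_⟩
    have : ((ρ : Matrix.GeneralLinearGroup (Fin n) F) : Matrix (Fin n) (Fin n) F).mulVec u =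
        t • v := hρ
    rw [this]
    exact Submodule.span_singleton_smul_eq (IsUnit.mk0 t ht0) v
  · refine ⟨reflG Q (t • v) htv * ρ, (hmem _).mpr ?_, ?_⟩
    · rw [map_mul, dickson_reflG, hd]
      rfl
    · have : (((reflG Q (t • v) htv * ρ : ↥(Cfsg.isometryGroup F ⇑Q)) :
          Matrix.GeneralLinearGroup (Fin n) F) : Matrix (Fin n) (Fin n) F).mulVec u =
          (-t) • v := by
        show iact (reflG Q (t • v) htv * ρ) u = _
        rw [iact_mul, hρ, iact_reflG_self, neg_smul]
      rw [this]
      exact Submodule.span_singleton_smul_eq (IsUnit.mk0 (-t) (neg_ne_zero.mpr ht0)) v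

end Cfsg.Agent.S2634
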