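import Cfsg.Statements.S2635
import Cfsg.Agent.Lib_helper13_C2E
import Cfsg.Agent.S0792

set_option autoImplicit false
open Cfsg

namespace Cfsg.Agent.S2635

open Matrix QuadraticMap Cfsg.Agent.helper13


/-- Over a finite field of characteristic two, for a quadratic form Q on F^n with non-degenerate polar form, n ≥ 2, other than dimension 4 over the field of two elements, Ω (the commutator subgroup of the orthogonal group) is exactly the subgroup generated by the products of two reflections (orthogonal transvections) x ↦ x − Q(v)⁻¹ f(x, v) v, Q(v) ≠ 0: the products of an even number of reflections. -/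
theorem result {F : Type*} [Field F] [Fintype F] [CharP F 2] {n : ℕ} (hn : 2 ≤ n) (h : Fintype.card F ≠ 2 ∨ n ≠ 4) (Q : QuadraticForm F (Fin n → F)) (hQ : (QuadraticMap.polarBilin Q).Nondegenerate) : Cfsg.Omega F ⇑Q = Subgroup.closure {g : ↥(Cfsg.isometryGroup F ⇑Q) | ∃ u v : Fin n → F, Q u ≠ 0 ∧ Q v ≠ 0 ∧ ((g : Matrix.GeneralLinearGroup (Fin n) F) : Matrix (Fin n) (Fin n) F) = Cfsg.reflectionMatrix ⇑Q u * Cfsg.reflectionMatrix ⇑Q v} := by
  classical
  have h2 : (2 : F) = 0 := by
    have := CharP.cast_eq_zero F 2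
    exact_mod_cast this
  have hne : Fintype.card F ≠ 2 ∨ Fintype.card (Fin n) ≠ 4 := by
    rw [Fintype.card_fin]; exact h
  have hn' : 1 ≤ Fintype.card (Fin n) := by rw [Fintype.card_fin]; omega
  apply le_antisymm
  · intro g hg
    have hd : dickson Q h2 hQ g = 1 :=
      (mem_commutator_iff_two Q h2 hQ hne hn' _ (dickson_reflG Q h2 hQ) g).mp hg
    obtain ⟨vs, hvs, rfl⟩ := exists_list_two Q h2 hQ hne g
    rw [delta_prodR Q _ (dickson_reflG Q h2 hQ) vs hvs,
      neg_one_pow_eq_one_iff_even int_units_neg_one_ne_one] at hd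
    obtain ⟨k, hk⟩ := hd
    exact Cfsg.Agent.S0792.pairs_mem Q k vs hvs (by omega)
  · rw [Subgroup.closure_le]
    rintro g ⟨u, v, hu, hv, hg⟩
    have hguv : g = reflG Q u hu * reflG Q v hv := by
      apply Subtype.ext
      apply Units.ext
      rw [hg]
      rfl
    rw [hguv]
    apply (mem_commutator_iff_two Q h2 hQ hne hn' _ (dickson_reflG Q h2 hQ) _).mpr
    rw [map_mul, dickson_reflG, dickson_reflG]
    rfl

end Cfsg.Agent.S2635
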