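import Mathlib
import Cfsg.Statements.S2637
import Cfsg.Agent.Lib_helper17_CenU1
import Cfsg.Agent.Lib_helper17_CenU2
import Cfsg.Agent.Lib_helper17_CenU3
import Cfsg.Agent.Lib_helper17_CenU4
import Cfsg.Agent.Lib_helper11_Unitary

set_option autoImplicit false
open Cfsg

namespace Cfsg.Agent.S2637

open Cfsg.Agent.helper17.CenU Matrix

section main

variable {F : Type*} [Field F] [Fintype F] {m : ℕ}

/-- the standard element in the symplectic group -/
def x0 (m : ℕ) (F : Type*) [Field F] : ↥(Matrix.symplecticGroup (Fin m) F) := ⟨X0 m F, X0_mem⟩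

lemma card_centralizer_x0 [Fact (∀ r : F, r ^ 2 ≠ -1 + (-1) * r)] (hq : Fintype.card F % 3 = 2) :
    Nat.card ↥(Subgroup.centralizer ({x0 m F} : Set ↥(Matrix.symplecticGroup (Fin m) F))) =
      Nat.card ↥(Cfsg.GU m (KK F) (Fintype.card F)) := by
  have hK : Fintype.card (KK F) = Fintype.card F ^ 2 := card_KK
  symm
  let Ψ : ↥(Cfsg.GU m (KK F) (Fintype.card F)) →
      ↥(Subgroup.centralizer ({x0 m F} : Set ↥(Matrix.symplecticGroup (Fin m) F))) := fun g =>
    ⟨⟨Phi (g.1 : Matrix (Fin m) (Fin m) (KK F)),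
      (Phi_mem_iff _).mpr ((preserves_iff hq _).mp g.2)⟩, by
      rw [Subgroup.mem_centralizer_iff]
      intro h hh
      rw [Set.mem_singleton_iff] at hh
      subst hh
      apply Subtype.ext
      exact ((commute_X0_iff _).mpr ⟨_, rfl⟩).symm⟩
  apply Nat.card_congr
  apply Equiv.ofBijective Ψ
  constructor
  · intro g g' h
    have h1 : Phi (g.1 : Matrix (Fin m) (Fin m) (KK F)) = Phi (g'.1 : Matrix (Fin m) (Fin m) (KK F)) :=
      congrArg (fun y => ((y : ↥(Subgroup.centralizer ({x0 m F} :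
        Set ↥(Matrix.symplecticGroup (Fin m) F)))).1 : ↥(Matrix.symplecticGroup (Fin m) F)).1) h
    apply Subtype.ext
    apply Units.ext
    exact Phi_injective h1
  · intro y
    have hy := Subgroup.mem_centralizer_iff.mp y.2 (x0 m F) rfl
    have hy' : (y.1.1 : Matrix (Fin m ⊕ Fin m) (Fin m ⊕ Fin m) F) * X0 m F = X0 m F * y.1.1 :=
      (congrArg Subtype.val hy).symm
    obtain ⟨G, hG⟩ := (commute_X0_iff _).mp hy'
    have hmem : Phi G ∈ Matrix.symplecticGroup (Fin m) F := by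
      rw [← hG]; exact y.1.2
    have hpres := (preserves_iff hq G).mpr ((Phi_mem_iff G).mp hmem)
    refine ⟨Cfsg.Agent.helper11.Unitary.mkGU hK G hpres, ?_⟩
    apply Subtype.ext
    apply Subtype.ext
    show Phi _ = _
    rw [Cfsg.Agent.helper11.Unitary.coe_mkGU, hG]

end main

/-- Centraliser of a fixed-point-free element of order three in Sp_2m(q) when q ≡ 2 (mod 3): if x ∈ Sp_2m(F) (|F| = q, m ≥ 1) satisfies x³ = 1 and x − 1 is invertible, then its centraliser in Sp_2m(F) has the order of the unitary group GU_m(q), namely q^(m(m−1)/2) Π_(i=1)^m (q^i − (−1)^i) (x lies in the centre of a subgroup GU_m(q) of Sp_2m(q)). -/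
theorem result {F : Type*} [Field F] [Fintype F] {q : ℕ} (hF : Fintype.card F = q) (hq : q % 3 = 2) {m : ℕ} (hm : 1 ≤ m) (x : Matrix.symplecticGroup (Fin m) F) (hx3 : x ^ 3 = 1) (hfpf : IsUnit ((x : Matrix (Fin m ⊕ Fin m) (Fin m ⊕ Fin m) F) - 1)) : (Nat.card ↥(Subgroup.centralizer ({x} : Set ↥(Matrix.symplecticGroup (Fin m) F))) : ℤ) = (q : ℤ) ^ (m * (m - 1) / 2) * ∏ i : Fin m, ((q : ℤ) ^ ((i : ℕ) + 1) - (-1) ^ ((i : ℕ) + 1)) := by
  classical
  subst hF
  haveI : Fact (∀ r : F, r ^ 2 ≠ -1 + (-1) * r) := ⟨no_root hq⟩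
  set X : Matrix (Fin m ⊕ Fin m) (Fin m ⊕ Fin m) F := x.1 with hXdef
  have hX3 : X ^ 3 = 1 := by
    have := congrArg Subtype.val hx3
    simpa using this
  have hquad : X * X + X + 1 = 0 := by
    have h1 : (X - 1) * (X * X + X + 1) = 0 := by
      have : (X - 1) * (X * X + X + 1) = X ^ 3 - 1 := by noncomm_ring
      rw [this, hX3, sub_self]
    exact (hfpf.mul_right_eq_zero).mp h1
  obtain ⟨P, hP, hconj⟩ := conj_to_X0 (three_ne_zero hq)
    (fun t ht => exists_norm_form t ht hq) X x.2 hquad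
  let P' : ↥(Matrix.symplecticGroup (Fin m) F) := ⟨P, hP⟩
  have hxP : x * P' = P' * x0 m F := Subtype.ext hconj
  have hx : x = P' * x0 m F * P'⁻¹ := by
    rw [← hxP]; group
  -- transport the centralizer
  have hcard : Nat.card ↥(Subgroup.centralizer ({x} : Set ↥(Matrix.symplecticGroup (Fin m) F))) =
      Nat.card ↥(Subgroup.centralizer ({x0 m F} : Set ↥(Matrix.symplecticGroup (Fin m) F))) := by
    apply Nat.card_congr
    refine ⟨fun g => ⟨P'⁻¹ * g.1 * P', ?_⟩, fun g => ⟨P' * g.1 * P'⁻¹, ?_⟩, ?_, ?_⟩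
    · rw [Subgroup.mem_centralizer_iff]
      intro h hh
      rw [Set.mem_singleton_iff] at hh
      subst hh
      have hg := Subgroup.mem_centralizer_iff.mp g.2 x rfl
      have hx0 : x0 m F = P'⁻¹ * x * P' := by rw [hx]; group
      rw [hx0]
      calc P'⁻¹ * x * P' * (P'⁻¹ * g.1 * P') = P'⁻¹ * (x * g.1) * P' := by group
        _ = P'⁻¹ * (g.1 * x) * P' := by rw [hg]
        _ = P'⁻¹ * g.1 * P' * (P'⁻¹ * x * P') := by group
    · rw [Subgroup.mem_centralizer_iff]
      intro h hh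
      rw [Set.mem_singleton_iff] at hh
      subst hh
      have hg := Subgroup.mem_centralizer_iff.mp g.2 (x0 m F) rfl
      rw [hx]
      calc P' * x0 m F * P'⁻¹ * (P' * g.1 * P'⁻¹) = P' * (x0 m F * g.1) * P'⁻¹ := by group
        _ = P' * (g.1 * x0 m F) * P'⁻¹ := by rw [hg]
        _ = P' * g.1 * P'⁻¹ * (P' * x0 m F * P'⁻¹) := by group
    · intro g
      apply Subtype.ext
      show P' * (P'⁻¹ * g.1 * P') * P'⁻¹ = g.1
      group
    · intro g
      apply Subtype.ext
      show P'⁻¹ * (P' * g.1 * P'⁻¹) * P' = g.1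
      group
  rw [hcard, card_centralizer_x0 hq, Cfsg.Agent.helper11.Unitary.card_GU card_KK m]
  have hq1 : 1 ≤ Fintype.card F := Fintype.card_pos
  push_cast
  congr 1
  rw [Fin.prod_univ_eq_prod_range (fun i => ((Fintype.card F : ℤ) ^ (i + 1) - (-1) ^ (i + 1))) m]
  apply Finset.prod_congr rfl
  intro i _
  split_ifs with hi
  · have : Odd (i + 1) := hi.add_one
    rw [this.neg_one_pow]
    push_cast
    ring
  · have hi' : Odd i := Nat.not_even_iff_odd.mp hi
    have : Even (i + 1) := hi'.add_one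
    rw [this.neg_one_pow, Nat.cast_sub (Nat.one_le_pow _ _ hq1)]
    push_cast
    ring

end Cfsg.Agent.S2637
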