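-- Statement S2638: centraliser of an irreducible prime-order element of GL_n(q) is a Singer cycle.
import Cfsg.Statements.S2638
import Cfsg.Agent.Lib_helper13_RegNil2

set_option autoImplicit false
open Cfsg

namespace Cfsg.Agent.S2638

open Module Matrix Cfsg.Agent.helper13

section aux
variable {F : Type*} [Field F] [Fintype F]

/-- A linear endomorphism as a plain self-map. -/
def toEnd {M : Type*} [AddCommGroup M] [Module F M] (f : M →ₗ[F] M) : Function.End M := ⇑f

theorem end_pow_coe {M : Type*} [AddCommGroup M] [Module F M] (f : M →ₗ[F] M) (k : ℕ) :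
    (toEnd f) ^ k = toEnd (f ^ k) := by
  induction k with
  | zero => rfl
  | succ k ih =>
    rw [pow_succ, pow_succ, ih]
    rfl

theorem card_congr_fix {M : Type*} [AddCommGroup M] [Module F M] [Finite M] (f : M →ₗ[F] M)
    {r : ℕ} [Fact r.Prime] (hf : f ^ r = 1) :
    Nat.card M ≡ Nat.card (LinearMap.ker (f - 1)) [MOD r] := by
  classical
  haveI := Fintype.ofFinite M
  have h0 : (toEnd f) ^ r ^ 1 = 1 := by
    rw [pow_one, end_pow_coe, hf]
    rfl
  have h := Equiv.Perm.card_fixedPoints_modEq (α := M) (f := toEnd f) (p := r)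
    (n := 1) h0
  rw [← Nat.card_eq_fintype_card, ← Nat.card_eq_fintype_card] at h
  refine h.trans ?_
  have : Nat.card (Function.fixedPoints (toEnd f)) = Nat.card (LinearMap.ker (f - 1)) := by
    apply Nat.card_congr
    apply Equiv.subtypeEquivRight
    intro y
    rw [LinearMap.mem_ker, LinearMap.sub_apply, Module.End.one_apply, sub_eq_zero]
    rfl
  rw [this]

theorem dvd_sub_finrank {M : Type*} [AddCommGroup M] [Module F M] [Module.Finite F M]
    (f : M →ₗ[F] M) {q n r : ℕ} (hF : Fintype.card F = q) (hr : r.Prime)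
    (hi : orderOf (q : ZMod r) = n) (hn : 1 ≤ n) (hf : f ^ r = 1) :
    n ∣ finrank F M - finrank F (LinearMap.ker (f - 1)) := by
  haveI : Fact r.Prime := ⟨hr⟩
  haveI : Finite M := Module.finite_of_finite F
  have h := card_congr_fix f hf
  rw [Module.natCard_eq_pow_finrank (K := F) (V := M),
    Module.natCard_eq_pow_finrank (K := F) (V := ↥(LinearMap.ker (f - 1))),
    Nat.card_eq_fintype_card, hF] at h
  have h2 := (ZMod.natCast_eq_natCast_iff _ _ _).mpr h
  push_cast at h2
  have hle : finrank F (LinearMap.ker (f - 1)) ≤ finrank F M := Submodule.finrank_le _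
  generalize finrank F (LinearMap.ker (f - 1)) = d₁ at h2 hle ⊢
  generalize finrank F M = d at h2 hle ⊢
  have hq0 : (q : ZMod r) ≠ 0 := by
    intro h0
    have := pow_orderOf_eq_one (q : ZMod r)
    rw [hi, h0, zero_pow (by omega)] at this
    exact zero_ne_one this
  have hd : d = d₁ + (d - d₁) := by omega
  rw [hd, pow_add] at h2
  have h3 : (q : ZMod r) ^ (d - d₁) = 1 := by
    have h4 : (q : ZMod r) ^ d₁ * (q : ZMod r) ^ (d - d₁) = (q : ZMod r) ^ d₁ * 1 := by
      rw [mul_one]; exact h2
    exact mul_left_cancel₀ (pow_ne_zero _ hq0) h4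
  rw [← hi]
  exact orderOf_dvd_of_pow_eq_one h3

variable {n : ℕ}

theorem toLin_pow_eq_one (A : Matrix (Fin n) (Fin n) F) {r : ℕ} (hAr : A ^ r = 1) :
    (Matrix.toLin' A) ^ r = 1 := by
  have h := map_pow (Matrix.toLinAlgEquiv' (R := F) (n := Fin n)) A r
  rw [hAr, map_one] at h
  exact h.symm

theorem fix_trivial (A : Matrix (Fin n) (Fin n) F) {q r : ℕ} (hF : Fintype.card F = q)
    (hr : r.Prime) (hi : orderOf (q : ZMod r) = n) (hn : 1 ≤ n) (hAr : A ^ r = 1) (hA1 : A ≠ 1) :
    LinearMap.ker (Matrix.toLin' A - 1) = ⊥ := by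
  have h := dvd_sub_finrank (Matrix.toLin' A) hF hr hi hn (toLin_pow_eq_one A hAr)
  rw [Module.finrank_fin_fun] at h
  have hle : finrank F (LinearMap.ker (Matrix.toLin' A - 1)) ≤ n := by
    have := Submodule.finrank_le (LinearMap.ker (Matrix.toLin' A - 1))
    rwa [Module.finrank_fin_fun] at this
  by_cases h0 : finrank F (LinearMap.ker (Matrix.toLin' A - 1)) = 0
  · exact Submodule.finrank_eq_zero.mp h0
  · exfalso
    have h1 : n - finrank F (LinearMap.ker (Matrix.toLin' A - 1)) = 0 := by
      by_contra hne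
      have := Nat.le_of_dvd (by omega) h
      omega
    have h2 : finrank F (LinearMap.ker (Matrix.toLin' A - 1)) = finrank F (Fin n → F) := by
      rw [Module.finrank_fin_fun]; omega
    have h3 := Submodule.eq_top_of_finrank_eq h2
    apply hA1
    apply Matrix.toLin'.injective
    rw [Matrix.toLin'_one]
    apply LinearMap.ext
    intro w
    have hw : w ∈ LinearMap.ker (Matrix.toLin' A - 1) := h3 ▸ Submodule.mem_top
    rw [LinearMap.mem_ker, LinearMap.sub_apply, sub_eq_zero] at hw
    rw [hw]
    rfl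

theorem restrict_pow {M : Type*} [AddCommGroup M] [Module F M] (f : M →ₗ[F] M) (W : Submodule F M)
    (hW : ∀ w ∈ W, f w ∈ W) (k : ℕ) (w : W) : (((f.restrict hW) ^ k) w : M) = (f ^ k) (w : M) := by
  induction k generalizing w with
  | zero => rfl
  | succ k ih =>
    rw [pow_succ, pow_succ, Module.End.mul_apply, Module.End.mul_apply, ih]
    rfl

theorem invariant (A : Matrix (Fin n) (Fin n) F) {q r : ℕ} (hF : Fintype.card F = q)
    (hr : r.Prime) (hi : orderOf (q : ZMod r) = n) (hn : 1 ≤ n) (hAr : A ^ r = 1) (hA1 : A ≠ 1)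
    (W : Submodule F (Fin n → F)) (hW : ∀ w ∈ W, A *ᵥ w ∈ W) : W = ⊥ ∨ W = ⊤ := by
  have hW' : ∀ w ∈ W, Matrix.toLin' A w ∈ W := fun w hw => by
    rw [Matrix.toLin'_apply]; exact hW w hw
  have hg : ((Matrix.toLin' A).restrict hW') ^ r = 1 := by
    apply LinearMap.ext
    intro w
    apply Subtype.ext
    rw [restrict_pow, toLin_pow_eq_one A hAr]
    rfl
  have h := dvd_sub_finrank ((Matrix.toLin' A).restrict hW') hF hr hi hn hg
  have hker : LinearMap.ker ((Matrix.toLin' A).restrict hW' - 1) = ⊥ := by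
    rw [Submodule.eq_bot_iff]
    intro w hw
    rw [LinearMap.mem_ker, LinearMap.sub_apply, sub_eq_zero] at hw
    have h1 : (w : Fin n → F) ∈ LinearMap.ker (Matrix.toLin' A - 1) := by
      rw [LinearMap.mem_ker, LinearMap.sub_apply, sub_eq_zero]
      have := congrArg Subtype.val hw
      exact this
    rw [fix_trivial A hF hr hi hn hAr hA1, Submodule.mem_bot] at h1
    exact Subtype.ext h1
  rw [hker, finrank_bot, Nat.sub_zero] at h
  have hle : finrank F W ≤ n := by
    have := Submodule.finrank_le W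
    rwa [Module.finrank_fin_fun] at this
  by_cases h0 : finrank F W = 0
  · left; exact Submodule.finrank_eq_zero.mp h0
  · right
    have := Nat.le_of_dvd (by omega) h
    apply Submodule.eq_top_of_finrank_eq
    rw [Module.finrank_fin_fun]; omega

theorem schur (A : Matrix (Fin n) (Fin n) F) {q r : ℕ} (hF : Fintype.card F = q)
    (hr : r.Prime) (hi : orderOf (q : ZMod r) = n) (hn : 1 ≤ n) (hAr : A ^ r = 1) (hA1 : A ≠ 1)
    (B : Matrix (Fin n) (Fin n) F) (hB : A * B = B * A) : B = 0 ∨ IsUnit B := by
  have hW : ∀ w ∈ LinearMap.ker (Matrix.toLin' B), A *ᵥ w ∈ LinearMap.ker (Matrix.toLin' B) := by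
    intro w hw
    rw [LinearMap.mem_ker, Matrix.toLin'_apply] at hw ⊢
    rw [mulVec_mulVec, ← hB, ← mulVec_mulVec, hw, mulVec_zero]
  rcases invariant A hF hr hi hn hAr hA1 _ hW with h | h
  · right
    rw [LinearMap.ker_eq_bot] at h
    rw [← Matrix.mulVec_injective_iff_isUnit]
    intro u w huw
    apply h
    rw [Matrix.toLin'_apply, Matrix.toLin'_apply]
    exact huw
  · left
    apply Matrix.toLin'.injective
    rw [map_zero]
    exact LinearMap.ker_eq_top.mp h

theorem cyclic (A : Matrix (Fin n) (Fin n) F) {q r : ℕ} (hF : Fintype.card F = q)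
    (hr : r.Prime) (hi : orderOf (q : ZMod r) = n) (hn : 1 ≤ n) (hAr : A ^ r = 1) (hA1 : A ≠ 1)
    (v : Fin n → F) (hv : v ≠ 0) : cycSpan A v = ⊤ := by
  rcases invariant A hF hr hi hn hAr hA1 _ (cycSpan_invariant A v) with h | h
  · exfalso
    apply hv
    have hvmem : v ∈ cycSpan A v := by
      apply Submodule.subset_span
      exact ⟨0, by simp⟩
    rw [h, Submodule.mem_bot] at hvmem
    exact hvmem
  · exact h

theorem exists_adjoin (A : Matrix (Fin n) (Fin n) F) (v : Fin n → F) (hs : cycSpan A v = ⊤)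
    (w : Fin n → F) : ∃ P ∈ Algebra.adjoin F {A}, P *ᵥ v = w := by
  have hw : w ∈ cycSpan A v := hs ▸ Submodule.mem_top
  unfold cycSpan at hw
  induction hw using Submodule.span_induction with
  | mem y hy =>
    obtain ⟨i, rfl⟩ := hy
    refine ⟨A ^ i, ?_, ?_⟩
    · exact pow_mem (Algebra.subset_adjoin (Set.mem_singleton A)) i
    · rfl
  | zero =>
    refine ⟨0, ?_, ?_⟩
    · exact zero_mem _
    · exact zero_mulVec v
  | add y z _ _ hy hz =>
    obtain ⟨P, hP, rfl⟩ := hy
    obtain ⟨Q, hQ, rfl⟩ := hz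
    exact ⟨P + Q, add_mem hP hQ, by rw [add_mulVec]⟩
  | smul c y _ hy =>
    obtain ⟨P, hP, rfl⟩ := hy
    exact ⟨c • P, Subalgebra.smul_mem _ hP c, by rw [smul_mulVec]⟩

theorem adjoin_comm (A B P : Matrix (Fin n) (Fin n) F) (hB : A * B = B * A)
    (hP : P ∈ Algebra.adjoin F {A}) : P * B = B * P := by
  induction hP using Algebra.adjoin_induction with
  | mem y hy => rw [Set.mem_singleton_iff.mp hy]; exact hB
  | algebraMap c => exact Algebra.commutes c B
  | add y z _ _ hy hz => rw [add_mul, mul_add, hy, hz]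
  | mul y z _ _ hy hz => rw [mul_assoc, hz, ← mul_assoc, hy, mul_assoc]

end aux

/-- If an element x of GL_n(q), n ≥ 1, has prime order r and the multiplicative order of q modulo r is n (r is a primitive prime divisor of q^n − 1, so x acts irreducibly), then the centraliser of x in GL_n(q) is cyclic of order q^n − 1 (the multiplicative group of the field with q^n elements, a Singer cycle). -/
theorem result {F : Type*} [Field F] [Fintype F] {p q : ℕ} [Fact p.Prime] [CharP F p] (hF : Fintype.card F = q) {n r : ℕ} (hn : 1 ≤ n) (hr : r.Prime) (hrp : r ≠ p) (hi : orderOf (q : ZMod r) = n) (x : GL (Fin n) F) (hx : orderOf x = r) : IsCyclic ↥(Subgroup.centralizer ({x} : Set (GL (Fin n) F))) ∧ Nat.card ↥(Subgroup.centralizer ({x} : Set (GL (Fin n) F))) = q ^ n - 1 := by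
  classical
  haveI : NeZero n := ⟨by omega⟩
  have hAr : (x : Matrix (Fin n) (Fin n) F) ^ r = 1 := by
    have h1 := pow_orderOf_eq_one x
    rw [hx] at h1
    have h2 := congrArg (fun g : GL (Fin n) F => (g : Matrix (Fin n) (Fin n) F)) h1
    simpa using h2
  have hA1 : (x : Matrix (Fin n) (Fin n) F) ≠ 1 := by
    intro h
    have h1 : x = 1 := Units.ext h
    rw [h1, orderOf_one] at hx
    exact hr.one_lt.ne hx
  generalize hA : (x : Matrix (Fin n) (Fin n) F) = A at hAr hA1
  have hsch := schur A hF hr hi hn hAr hA1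
  obtain ⟨v, hv⟩ : ∃ v : Fin n → F, v ≠ 0 := ⟨Pi.single 0 1, by
    intro h
    have := congrFun h 0
    simp at this⟩
  have hcyc := cyclic A hF hr hi hn hAr hA1 v hv
  have hmemc : ∀ g : GL (Fin n) F, g ∈ Subgroup.centralizer ({x} : Set (GL (Fin n) F)) ↔
      A * (g : Matrix (Fin n) (Fin n) F) = (g : Matrix (Fin n) (Fin n) F) * A := by
    intro g
    rw [Subgroup.mem_centralizer_singleton_iff, ← hA]
    constructor
    · intro h
      have h2 := congrArg (fun g : GL (Fin n) F => (g : Matrix (Fin n) (Fin n) F)) h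
      simpa using h2.symm
    · intro h
      apply Units.ext
      simpa using h.symm
  have hadj : ∀ B : Matrix (Fin n) (Fin n) F, A * B = B * A → B ∈ Algebra.adjoin F {A} := by
    intro B hB
    obtain ⟨P, hP, hPv⟩ := exists_adjoin A v hcyc (B *ᵥ v)
    have : P = B := eq_of_commute_of_mulVec_eq A P B v hcyc
      (adjoin_comm A A P rfl hP) hB.symm hPv
    rw [← this]; exact hP
  refine ⟨?_, ?_⟩
  · -- cyclic
    have hcomm : ∀ a b : Subring.centralizer ({A} : Set (Matrix (Fin n) (Fin n) F)),
        a * b = b * a := by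
      rintro ⟨a, ha⟩ ⟨b, hb⟩
      apply Subtype.ext
      change a * b = b * a
      rw [Subring.mem_centralizer_iff] at ha hb
      exact adjoin_comm A b a (hb A rfl) (hadj a (ha A rfl))
    letI : CommRing (Subring.centralizer ({A} : Set (Matrix (Fin n) (Fin n) F))) :=
      { (inferInstance : Ring (Subring.centralizer ({A} : Set (Matrix (Fin n) (Fin n) F)))) with
        mul_comm := hcomm }
    haveI : Nontrivial (Subring.centralizer ({A} : Set (Matrix (Fin n) (Fin n) F))) :=
      ⟨⟨0, 1, fun h => by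
        have h1 := congrArg Subtype.val h
        exact zero_ne_one h1⟩⟩
    haveI : NoZeroDivisors (Subring.centralizer ({A} : Set (Matrix (Fin n) (Fin n) F))) := by
      refine ⟨?_⟩
      rintro ⟨a, ha⟩ ⟨b, hb⟩ hab
      have hab' : a * b = 0 := congrArg Subtype.val hab
      rw [Subring.mem_centralizer_iff] at ha
      rcases hsch a (ha A rfl) with h0 | hu
      · left; exact Subtype.ext h0
      · right
        apply Subtype.ext
        obtain ⟨u, rfl⟩ := hu
        change b = 0
        rw [← Units.mul_right_inj u, hab', mul_zero]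
    haveI : IsDomain (Subring.centralizer ({A} : Set (Matrix (Fin n) (Fin n) F))) :=
      NoZeroDivisors.to_isDomain _
    let φ : ↥(Subgroup.centralizer ({x} : Set (GL (Fin n) F))) →*
        (Subring.centralizer ({A} : Set (Matrix (Fin n) (Fin n) F))) :=
      { toFun := fun g => ⟨(g.1 : Matrix (Fin n) (Fin n) F), by
          rw [Subring.mem_centralizer_iff]
          intro B hB
          rw [Set.mem_singleton_iff.mp hB]
          exact (hmemc g.1).mp g.2⟩
        map_one' := rfl
        map_mul' := fun _ _ => rfl }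
    have hφ : Function.Injective φ := by
      intro g₁ g₂ h
      have h1 := congrArg Subtype.val h
      exact Subtype.ext (Units.ext h1)
    exact isCyclic_of_injective_ringHom φ hφ
  · -- cardinality
    have hne : ∀ g : ↥(Subgroup.centralizer ({x} : Set (GL (Fin n) F))),
        (g.1 : Matrix (Fin n) (Fin n) F) *ᵥ v ≠ 0 := by
      intro g h
      apply hv
      have := congrArg (fun w => ((g.1⁻¹ : GL (Fin n) F) : Matrix (Fin n) (Fin n) F) *ᵥ w) h
      simpa using this
    let e : ↥(Subgroup.centralizer ({x} : Set (GL (Fin n) F))) → {w : Fin n → F // ¬ (w = 0)} :=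
      fun g => ⟨(g.1 : Matrix (Fin n) (Fin n) F) *ᵥ v, hne g⟩
    have hbij : Function.Bijective e := by
      constructor
      · intro g₁ g₂ h
        have h1 : (g₁.1 : Matrix (Fin n) (Fin n) F) *ᵥ v = (g₂.1 : Matrix (Fin n) (Fin n) F) *ᵥ v :=
          congrArg Subtype.val h
        have h2 := eq_of_commute_of_mulVec_eq A _ _ v hcyc ((hmemc g₁.1).mp g₁.2).symm
          ((hmemc g₂.1).mp g₂.2).symm h1
        exact Subtype.ext (Units.ext h2)
      · rintro ⟨w, hw⟩
        obtain ⟨P, hP, hPv⟩ := exists_adjoin A v hcyc w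
        have hPA : A * P = P * A := (adjoin_comm A A P rfl hP).symm
        rcases hsch P hPA with h0 | hu
        · exfalso
          apply hw
          rw [← hPv, h0, zero_mulVec]
        · obtain ⟨u, hu⟩ := hu
          refine ⟨⟨u, (hmemc u).mpr (by rw [hu]; exact hPA)⟩, ?_⟩
          apply Subtype.ext
          change (u : Matrix (Fin n) (Fin n) F) *ᵥ v = w
          rw [hu, hPv]
    rw [Nat.card_congr (Equiv.ofBijective e hbij), Nat.card_eq_fintype_card,
      Fintype.card_subtype_compl, Fintype.card_subtype_eq, Fintype.card_fun, hF, Fintype.card_fin]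

end Cfsg.Agent.S2638
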