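import Cfsg.Statements.S2678
import Cfsg.Agent.Lib_helper13_FieldExt
import Cfsg.Agent.Lib_helper13_Restrict

set_option autoImplicit false
open Cfsg

namespace Cfsg.Agent.S2678

open Matrix Module Cfsg.Agent.helper13

section general
variable {F K : Type*} [Field F] [Field K] [Algebra F K] {X : Type} [Fintype X] [DecidableEq X]

/-- trace of a bilinear form over the big field. -/
noncomputable def trForm (M : Matrix X X K) : LinearMap.BilinForm F (X → K) :=
  LinearMap.mk₂ F (fun u v => Algebra.trace F K (u ⬝ᵥ (M *ᵥ v)))
    (by intro u u' v; rw [add_dotProduct, map_add])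
    (by intro c u v; rw [smul_dotProduct, map_smul])
    (by intro u v v'; rw [mulVec_add, dotProduct_add, map_add])
    (by intro c u v; rw [mulVec_smul, dotProduct_smul, map_smul])

theorem trForm_apply (M : Matrix X X K) (u v : X → K) :
    trForm (F := F) M u v = Algebra.trace F K (u ⬝ᵥ (M *ᵥ v)) := rfl

theorem trForm_single (M : Matrix X X K) (x x' : X) (c c' : K) :
    trForm (F := F) M (Pi.single x c) (Pi.single x' c') = Algebra.trace F K (c * M x x' * c') := by
  rw [trForm_apply]
  congr 1
  rw [single_dotProduct, mulVec_single]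
  simp [mul_assoc]

theorem linearIndependent_of_gram {V ι : Type*} [AddCommGroup V] [Module F V] [Fintype ι]
    [DecidableEq ι] (β : LinearMap.BilinForm F V) (bv : ι → V) (G : Matrix ι ι F)
    (hG : ∀ i j, β (bv i) (bv j) = G i j) (hdet : G.det ≠ 0) : LinearIndependent F bv := by
  rw [Fintype.linearIndependent_iff]
  intro g hg
  have h1 : g ᵥ* G = 0 := by
    funext j
    have h2 := congrArg (fun v => β v (bv j)) hg
    simp only [map_sum, map_smul, LinearMap.sum_apply, LinearMap.smul_apply, hG, smul_eq_mul,
      map_zero, LinearMap.zero_apply] at h2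
    simpa [Matrix.vecMul, dotProduct] using h2
  have h3 := Matrix.eq_zero_of_vecMul_eq_zero hdet h1
  intro i
  exact congrFun h3 i

end general

section main
variable {F K : Type*} [Field F] [Fintype F] [Field K] [Fintype K]

theorem J_det_ne (Z : Type) [Fintype Z] [DecidableEq Z] : (Matrix.J Z F).det ≠ 0 := by
  intro h
  have := Matrix.J_det_mul_J_det Z F
  rw [h, zero_mul] at this
  exact zero_ne_one this

theorem main (a : ℕ) (hK : Fintype.card K = Fintype.card F ^ 2) :
    ∃ φ : ↥(Matrix.symplecticGroup (Fin a) K) →* ↥(Matrix.symplecticGroup (Fin (2 * a)) F),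
      Function.Injective φ := by
  classical
  rcases Nat.eq_zero_or_pos a with rfl | ha
  · refine ⟨1, ?_⟩
    intro g h _
    apply Subtype.ext
    ext i j
    rcases i with i | i <;> exact i.elim0
  haveI : Nonempty (Fin (2 * a) ⊕ Fin (2 * a)) := ⟨Sum.inl ⟨0, by omega⟩⟩
  obtain ⟨ι⟩ := exists_ringHom_of_card_pow (F := F) (K := K) 2 (by norm_num) hK
  letI : Algebra F K := ι.toAlgebra
  have hfr : finrank F K = 2 := finrank_of_card_pow 2 hK
  haveI : Module.Finite F K := Module.finite_of_finrank_pos (by omega)
  let b₀ : Basis (Fin 2) F K := Module.finBasisOfFinrankEq F K hfr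
  have hnd : (Algebra.traceForm F K).Nondegenerate := traceForm_nondegenerate F K
  let b₁ : Basis (Fin 2) F K := (Algebra.traceForm F K).dualBasis hnd b₀
  have hdual : ∀ s t, Algebra.trace F K (b₁ s * b₀ t) = if t = s then 1 else 0 := by
    intro s t
    have := LinearMap.BilinForm.apply_dualBasis_left hnd b₀ s t
    rw [Algebra.traceForm_apply] at this
    exact this
  let e : Fin (2 * a) ≃ Fin a × Fin 2 := (finCongr (mul_comm 2 a)).trans finProdFinEquiv.symm
  let β : LinearMap.BilinForm F (Fin a ⊕ Fin a → K) := trForm (Matrix.J (Fin a) K)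
  let bv : Fin (2 * a) ⊕ Fin (2 * a) → (Fin a ⊕ Fin a → K) :=
    Sum.elim (fun y => Pi.single (Sum.inl (e y).1) (b₁ (e y).2))
      (fun y => Pi.single (Sum.inr (e y).1) (b₀ (e y).2))
  have hgram : ∀ i j, β (bv i) (bv j) = Matrix.J (Fin (2 * a)) F i j := by
    rintro (y | y) (y' | y')
    · simp only [bv, β, Sum.elim_inl, trForm_single]
      simp [Matrix.J]
    · simp only [bv, β, Sum.elim_inl, Sum.elim_inr, trForm_single]
      simp only [Matrix.J, Matrix.fromBlocks_apply₁₂, Matrix.neg_apply, Matrix.one_apply]
      by_cases h1 : (e y).1 = (e y').1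
      · rw [if_pos h1, mul_neg, mul_one, neg_mul, map_neg, hdual]
        by_cases h2 : (e y').2 = (e y).2
        · have : y = y' := e.injective (Prod.ext h1 h2.symm)
          rw [if_pos h2, if_pos this]
        · have : y ≠ y' := fun h => h2 (by rw [h])
          rw [if_neg h2, if_neg this]
      · have : y ≠ y' := fun h => h1 (by rw [h])
        rw [if_neg h1, if_neg this]
        simp
    · simp only [bv, β, Sum.elim_inl, Sum.elim_inr, trForm_single]
      simp only [Matrix.J, Matrix.fromBlocks_apply₂₁, Matrix.one_apply]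
      by_cases h1 : (e y).1 = (e y').1
      · rw [if_pos h1, mul_one, mul_comm, hdual]
        by_cases h2 : (e y).2 = (e y').2
        · have : y = y' := e.injective (Prod.ext h1 h2)
          rw [if_pos h2, if_pos this]
        · have : y ≠ y' := fun h => h2 (by rw [h])
          rw [if_neg h2, if_neg this]
      · have : y ≠ y' := fun h => h1 (by rw [h])
        rw [if_neg h1, if_neg this]
        simp
    · simp only [bv, β, Sum.elim_inr, trForm_single]
      simp [Matrix.J]
  have hli : LinearIndependent F bv :=
    linearIndependent_of_gram β bv (Matrix.J (Fin (2 * a)) F) hgram (J_det_ne _)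
  have hcard : Fintype.card (Fin (2 * a) ⊕ Fin (2 * a)) = finrank F (Fin a ⊕ Fin a → K) := by
    rw [Module.finrank_pi_fintype]
    simp only [hfr, Finset.sum_const, Finset.card_univ, Fintype.card_sum, Fintype.card_fin,
      smul_eq_mul]
    ring
  let b := basisOfLinearIndependentOfCardEqFinrank hli hcard
  have hb : ∀ i, b i = bv i := fun i => by
    simp [b, coe_basisOfLinearIndependentOfCardEqFinrank]
  apply exists_embedding_symplectic b β (fun i j => by rw [hb, hb]; exact hgram i j)
    (Matrix.symplecticGroup (Fin a) K).subtype Subtype.val_injective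
  intro g u v
  show trForm (Matrix.J (Fin a) K) _ _ = trForm (Matrix.J (Fin a) K) _ _
  rw [trForm_apply, trForm_apply]
  congr 1
  have hg := SymplecticGroup.mem_iff'.mp g.2
  show (g.1 *ᵥ u) ⬝ᵥ (Matrix.J (Fin a) K *ᵥ (g.1 *ᵥ v)) = _
  have e1 : g.1 *ᵥ u = u ᵥ* (g.1)ᵀ := (Matrix.vecMul_transpose g.1 u).symm
  rw [e1, ← Matrix.dotProduct_mulVec, Matrix.mulVec_mulVec, Matrix.mulVec_mulVec, hg]

end main

/-- Field-extension embedding of symplectic groups: for a field K with q² elements and a field F with q elements there is an injective homomorphism Sp_2a(K) → Sp_4a(F). -/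
theorem result {K F : Type*} [Field K] [Fintype K] [Field F] [Fintype F] {q : ℕ} (hK : Fintype.card K = q ^ 2) (hF : Fintype.card F = q) (a : ℕ) : ∃ φ : ↥(Matrix.symplecticGroup (Fin a) K) →* ↥(Matrix.symplecticGroup (Fin (2 * a)) F), Function.Injective φ := by
  have hK' : Fintype.card K = Fintype.card F ^ 2 := by rw [hK, hF]
  exact main a hK'

end Cfsg.Agent.S2678
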