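import Cfsg.Statements.S2639
import Cfsg.Agent.Lib_helper13_FieldExt
import Cfsg.Agent.Lib_helper13_Restrict
import Cfsg.Agent.S2678

set_option autoImplicit false
open Cfsg

namespace Cfsg.Agent.S2639

open Matrix Module Cfsg.Agent.helper13

section general
variable {F K : Type*} [Field F] [Fintype F] [Field K] [Algebra F K]

/-- trace of a multiple of the hermitian form. -/
noncomputable def hForm (m : ℕ) (α : K) : LinearMap.BilinForm F (Fin m → K) :=
  LinearMap.mk₂ F (fun u v => Algebra.trace F K (α * ∑ i, u i * (FiniteField.frobeniusAlgHom F K) (v i)))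
    (by
      intro u u' v
      simp only [Pi.add_apply, add_mul, Finset.sum_add_distrib, mul_add, map_add])
    (by
      intro c u v
      simp only [Pi.smul_apply, smul_mul_assoc, ← Finset.smul_sum, mul_smul_comm, map_smul])
    (by
      intro u v v'
      simp only [Pi.add_apply, map_add, mul_add, Finset.sum_add_distrib])
    (by
      intro c u v
      simp only [Pi.smul_apply, map_smul, mul_smul_comm, ← Finset.smul_sum])

theorem hForm_apply (m : ℕ) (α : K) (u v : Fin m → K) :
    hForm (F := F) m α u v = Algebra.trace F K (α * Cfsg.hermForm m K (Fintype.card F) u v) := rfl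

theorem hForm_single (m : ℕ) (α : K) (i j : Fin m) (c c' : K) :
    hForm (F := F) m α (Pi.single i c) (Pi.single j c') =
      if i = j then Algebra.trace F K (α * c * c' ^ Fintype.card F) else 0 := by
  rw [hForm_apply]
  unfold Cfsg.hermForm
  by_cases hij : i = j
  · subst hij
    rw [if_pos rfl, Finset.sum_eq_single i]
    · simp [mul_assoc]
    · intro l _ hl
      simp [Pi.single_apply, hl]
    · intro h
      exact absurd (Finset.mem_univ _) h
  · rw [if_neg hij, Finset.sum_eq_zero]
    · simp
    · intro l _
      by_cases hl : l = i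
      · subst hl
        have : (Pi.single j c' : Fin m → K) l = 0 := by simp [Pi.single_apply, hij]
        rw [this, zero_pow Fintype.card_ne_zero, mul_zero]
      · simp [Pi.single_apply, hl]

end general

section main
variable {F K : Type*} [Field F] [Fintype F] [Field K] [Fintype K]

theorem main (m : ℕ) (hK : Fintype.card K = Fintype.card F ^ 2) :
    ∃ φ : ↥(Cfsg.GU m K (Fintype.card F)) →* ↥(Matrix.symplecticGroup (Fin m) F),
      Function.Injective φ := by
  classical
  rcases Nat.eq_zero_or_pos m with rfl | hm
  · refine ⟨1, ?_⟩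
    intro g h _
    apply Subtype.ext
    apply Units.ext
    ext i j
    exact i.elim0
  haveI : Nonempty (Fin m ⊕ Fin m) := ⟨Sum.inl ⟨0, hm⟩⟩
  obtain ⟨ι⟩ := exists_ringHom_of_card_pow (F := F) (K := K) 2 (by norm_num) hK
  letI : Algebra F K := ι.toAlgebra
  have hfr : finrank F K = 2 := finrank_of_card_pow 2 hK
  haveI : Module.Finite F K := Module.finite_of_finrank_pos (by omega)
  -- Frobenius
  have hσσ : ∀ x : K, (x ^ Fintype.card F) ^ Fintype.card F = x := by
    intro x
    rw [← pow_mul, ← sq, ← hK, FiniteField.pow_card]
  have htr : ∀ z : K, algebraMap F K (Algebra.trace F K z) = z + z ^ Fintype.card F := by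
    intro z
    rw [FiniteField.algebraMap_trace_eq_sum_pow, hfr, Finset.sum_range_succ, Finset.sum_range_one,
      pow_zero, pow_one, pow_one, Nat.card_eq_fintype_card]
  have hinj : Function.Injective (algebraMap F K) := (algebraMap F K).injective
  have htr0 : ∀ z : K, z ^ Fintype.card F = -z → Algebra.trace F K z = 0 := by
    intro z hz
    apply hinj
    rw [htr, hz, map_zero, add_neg_cancel]
  have htrσ : ∀ z : K, Algebra.trace F K (z ^ Fintype.card F) = Algebra.trace F K z := by
    intro z
    apply hinj
    rw [htr, htr, hσσ, add_comm]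
  -- an element moved by Frobenius
  obtain ⟨θ, hθ⟩ : ∃ θ : K, θ ^ Fintype.card F ≠ θ := by
    by_contra hcon
    push Not at hcon
    have h1 : FiniteField.frobeniusAlgHom F K = 1 := by
      apply AlgHom.ext
      intro x
      exact hcon x
    have h2 := FiniteField.orderOf_frobeniusAlgHom F K
    rw [h1, orderOf_one, hfr] at h2
    omega
  set α : K := θ - θ ^ Fintype.card F with hα
  have hα0 : α ≠ 0 := by
    intro h
    apply hθ
    exact (sub_eq_zero.mp h).symm
  have hsub : ∀ x y : K, (x - y) ^ Fintype.card F = x ^ Fintype.card F - y ^ Fintype.card F := by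
    intro x y
    have := map_sub (FiniteField.frobeniusAlgHom F K) x y
    exact this
  have hασ : α ^ Fintype.card F = -α := by
    rw [hα, hsub, hσσ]
    ring
  -- a partner
  obtain ⟨y, hy⟩ : ∃ y : K, Algebra.trace F K (α * y) ≠ 0 := by
    by_contra hcon
    push Not at hcon
    apply hα0
    have hnd : (Algebra.traceForm F K).Nondegenerate := traceForm_nondegenerate F K
    apply hnd.1 α
    intro y
    rw [Algebra.traceForm_apply]
    exact hcon y
  set c : F := -(Algebra.trace F K (α * y))⁻¹ with hc
  set θ' : K := c • (y ^ Fintype.card F) with hθ'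
  have hθ'1 : Algebra.trace F K (α * θ' ^ Fintype.card F) = -1 := by
    have h1 : θ' ^ Fintype.card F = c • y := by
      rw [hθ', Algebra.smul_def, mul_pow, hσσ, ← map_pow, FiniteField.pow_card, ← Algebra.smul_def]
    rw [h1, mul_smul_comm, map_smul, smul_eq_mul, hc, neg_mul, inv_mul_cancel₀ hy]
  have hθ'2 : Algebra.trace F K (α * θ') = 1 := by
    rw [← htrσ, mul_pow, hασ, neg_mul, map_neg, hθ'1, neg_neg]
  have hθ'3 : Algebra.trace F K (α * θ' * θ' ^ Fintype.card F) = 0 := by
    apply htr0
    rw [mul_pow, mul_pow, hασ, hσσ]
    ring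
  have hα1 : Algebra.trace F K α = 0 := htr0 α hασ
  -- the basis
  let β : LinearMap.BilinForm F (Fin m → K) := hForm m α
  let bv : Fin m ⊕ Fin m → (Fin m → K) :=
    Sum.elim (fun i => Pi.single i 1) (fun i => Pi.single i θ')
  have hgram : ∀ i j, β (bv i) (bv j) = Matrix.J (Fin m) F i j := by
    rintro (i | i) (j | j)
    · simp only [bv, β, Sum.elim_inl, hForm_single]
      simp [Matrix.J, hα1]
    · simp only [bv, β, Sum.elim_inl, Sum.elim_inr, hForm_single]
      simp only [Matrix.J, Matrix.fromBlocks_apply₁₂, Matrix.neg_apply, Matrix.one_apply, mul_one, hθ'1]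
      split_ifs <;> simp
    · simp only [bv, β, Sum.elim_inl, Sum.elim_inr, hForm_single]
      simp only [Matrix.J, Matrix.fromBlocks_apply₂₁, Matrix.one_apply, one_pow, mul_one, hθ'2]
    · simp only [bv, β, Sum.elim_inr, hForm_single]
      simp [Matrix.J, hθ'3]
  have hli : LinearIndependent F bv :=
    Cfsg.Agent.S2678.linearIndependent_of_gram β bv (Matrix.J (Fin m) F) hgram
      (Cfsg.Agent.S2678.J_det_ne _)
  have hcard : Fintype.card (Fin m ⊕ Fin m) = finrank F (Fin m → K) := by
    rw [Module.finrank_pi_fintype]
    simp only [hfr, Finset.sum_const, Finset.card_univ, Fintype.card_sum, Fintype.card_fin,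
      smul_eq_mul]
    ring
  let b := basisOfLinearIndependentOfCardEqFinrank hli hcard
  have hb : ∀ i, b i = bv i := fun i => by
    simp [b, coe_basisOfLinearIndependentOfCardEqFinrank]
  apply exists_embedding_symplectic b β (fun i j => by rw [hb, hb]; exact hgram i j)
    ((Units.coeHom (Matrix (Fin m) (Fin m) K)).comp (Cfsg.GU m K (Fintype.card F)).subtype)
  · intro g h hgh
    apply Subtype.ext
    apply Units.ext
    exact hgh
  · intro g u v
    show hForm m α _ _ = hForm m α _ _
    rw [hForm_apply, hForm_apply]
    congr 2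
    exact g.2 u v

end main

/-- The unitary group embeds in the symplectic group of twice the dimension over the subfield: for a field K with q² elements and a field F with q elements (isomorphic to the subfield of K of order q), there is an injective homomorphism GU_m(q) → Sp_2m(F). -/
theorem result {K F : Type*} [Field K] [Fintype K] [Field F] [Fintype F] {q : ℕ} (hK : Fintype.card K = q ^ 2) (hF : Fintype.card F = q) (m : ℕ) : ∃ φ : ↥(Cfsg.GU m K q) →* ↥(Matrix.symplecticGroup (Fin m) F), Function.Injective φ := by
  subst hF
  exact main m hK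

end Cfsg.Agent.S2639
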