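import Cfsg.Statements.S2642
import Mathlib
import Cfsg.Agent.Lib_helper14_GUJordan
import Cfsg.Agent.S2587
import Cfsg.Agent.S2588
-- import your own Cfsg.Agent.* helpers here

set_option autoImplicit false
open Cfsg

namespace Cfsg.Agent.S2642

open Matrix Cfsg.Agent.helper14 Cfsg.Agent.helper14.PsuAut Cfsg.Agent.helper14.GUConj Cfsg.Agent.helper25.Jordan

/-- Number of conjugacy classes of elements of order p in the general unitary group GU_n(q), q a power of p: every unipotent Jordan type occurs and the classes correspond to the partitions of n with all parts at most p other than the all-ones partition, exactly as in GL_n; so there are (number of partitions of n with parts ≤ p) − 1 classes. -/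
theorem result {K : Type*} [Field K] [Fintype K] {p q n : ℕ} [Fact p.Prime] [CharP K p] (hK : Fintype.card K = q ^ 2) : Nat.card {C : ConjClasses ↥(Cfsg.GU n K q) // ∃ g : ↥(Cfsg.GU n K q), ConjClasses.mk g = C ∧ orderOf g = p} = (Finset.univ.filter (fun μ : Nat.Partition n => ∀ a ∈ μ.parts, a ≤ p)).card - 1 := by
  classical
  obtain ⟨σ, hσq⟩ := exists_frob hK
  have hex : ∀ μ : Nat.Partition n, ∃ u : ↥(Cfsg.GU n K q),
      HasType (u : GL (Fin n) K) μ.parts := by
    intro μ
    obtain ⟨g₀, hg₀⟩ := exists_of_partition (F := K) μ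
    have h1 := hasType_sinv σ hg₀
    have hconj : IsConj g₀ (sinv σ g₀) := isConj_of_hasType hg₀ h1
    obtain ⟨c, hc⟩ := isConj_iff.mp hconj
    have hc' : c * g₀ = sinv σ g₀ * c := mul_inv_eq_iff_eq_mul.mp hc
    have hX : (((g₀ : Matrix (Fin n) (Fin n) K).map (fun x : K => x ^ q)).transpose)⁻¹ =
        ((sinv σ g₀ : GL (Fin n) K) : Matrix (Fin n) (Fin n) K) := by
      have hAs : ((g₀ : Matrix (Fin n) (Fin n) K).map (fun x : K => x ^ q)).transpose =
          st σ (g₀ : Matrix (Fin n) (Fin n) K) := by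
        unfold st
        congr 1
        ext i j
        rw [Matrix.map_apply, Matrix.map_apply, hσq]
      rw [hAs]
      apply Matrix.inv_eq_right_inv
      rw [sinv_val, ← st_mul, ← Units.val_mul, inv_mul_cancel, Units.val_one, st_one]
    have hM : IsConj (g₀ : Matrix (Fin n) (Fin n) K)
        ((((g₀ : Matrix (Fin n) (Fin n) K).map (fun x : K => x ^ q)).transpose)⁻¹) := by
      rw [hX]
      refine ⟨c, ?_⟩
      show (c : Matrix (Fin n) (Fin n) K) * (g₀ : Matrix (Fin n) (Fin n) K) =
        ((sinv σ g₀ : GL (Fin n) K) : Matrix (Fin n) (Fin n) K) * (c : Matrix (Fin n) (Fin n) K)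
      rw [← Units.val_mul, ← Units.val_mul, hc']
    obtain ⟨B, hB⟩ := (Cfsg.Agent.S2588.result hK g₀).mpr hM
    exact ⟨B, hasType_conj hg₀ hB⟩
  choose uOf huOf using hex
  let Φ : {C : ConjClasses ↥(Cfsg.GU n K q) // ∃ g : ↥(Cfsg.GU n K q), ConjClasses.mk g = C ∧ orderOf g = p} →
      {C : ConjClasses (GL (Fin n) K) // ∃ g : GL (Fin n) K, ConjClasses.mk g = C ∧ orderOf g = p} :=
    fun C => ⟨ConjClasses.map (Cfsg.GU n K q).subtype C.1, by
      obtain ⟨g, hg1, hg2⟩ := C.2
      exact ⟨(g : GL (Fin n) K), by rw [← hg1]; rfl, by rw [Subgroup.orderOf_coe]; exact hg2⟩⟩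
  have hbij : Function.Bijective Φ := by
    constructor
    · rintro ⟨C, g, rfl, hg⟩ ⟨C', g', rfl, hg'⟩ h
      have h1 : ConjClasses.mk (g : GL (Fin n) K) = ConjClasses.mk (g' : GL (Fin n) K) :=
        congrArg Subtype.val h
      rw [ConjClasses.mk_eq_mk_iff_isConj] at h1
      apply Subtype.ext
      show ConjClasses.mk g = ConjClasses.mk g'
      rw [ConjClasses.mk_eq_mk_iff_isConj]
      exact (Cfsg.Agent.S2587.result hK g g').mpr h1
    · rintro ⟨D, g, rfl, hg⟩
      have hnil : IsNilpotent (g.val - 1) := ⟨p, ((orderOf_eq_p_iff p g).mp hg).1⟩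
      obtain ⟨μ, hμ⟩ := exists_hasType g hnil
      have hconj : IsConj ((uOf μ : ↥(Cfsg.GU n K q)) : GL (Fin n) K) g :=
        isConj_of_hasType (huOf μ) hμ
      have hord : orderOf (uOf μ) = p := by
        rw [← Subgroup.orderOf_coe]
        obtain ⟨c, hc⟩ := isConj_iff.mp hconj
        rw [← hg, ← hc]
        exact ((MulAut.conj c).orderOf_eq _).symm
      refine ⟨⟨ConjClasses.mk (uOf μ), uOf μ, rfl, hord⟩, Subtype.ext ?_⟩
      show ConjClasses.mk ((uOf μ : ↥(Cfsg.GU n K q)) : GL (Fin n) K) = ConjClasses.mk g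
      rw [ConjClasses.mk_eq_mk_iff_isConj]
      exact hconj
  rw [Nat.card_congr (Equiv.ofBijective Φ hbij)]
  exact count_order_p_classes p n

end Cfsg.Agent.S2642
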