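import Cfsg.Statements.S2643
import Mathlib
import Cfsg.Agent.Lib_helper14_SUReg
import Cfsg.Agent.Lib_helper13_Split
-- import your own Cfsg.Agent.* helpers here

set_option autoImplicit false
open Cfsg

namespace Cfsg.Agent.S2643

open Matrix Cfsg.Agent.helper14 Cfsg.Agent.helper14.PsuAut Cfsg.Agent.helper14.GUConj Cfsg.Agent.helper25.Jordan Cfsg.Agent.helper13 Cfsg.Agent.helper11.Unitary

/-- Regular unipotent classes of SU_n(q), n ≥ 2: the elements u of the special unitary group (isometries of Σ u_i v_i^q of determinant one over the field with q² elements) with (u − 1)^n = 0 and rank(u − 1) = n − 1 form exactly gcd(n, q + 1) conjugacy classes of SU_n(q). -/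
theorem result {K : Type*} [Field K] [Fintype K] {q n : ℕ} (hK : Fintype.card K = q ^ 2) (hn : 2 ≤ n) : Nat.card {C : ConjClasses ↥(Cfsg.SU n K q) // ∃ u : ↥(Cfsg.SU n K q), ConjClasses.mk u = C ∧ (((u : GL (Fin n) K) : Matrix (Fin n) (Fin n) K) - 1) ^ n = 0 ∧ (((u : GL (Fin n) K) : Matrix (Fin n) (Fin n) K) - 1).rank = n - 1} = Nat.gcd n (q + 1) := by
  classical
  obtain ⟨m, rfl⟩ : ∃ m, n = m + 1 := ⟨n - 1, by omega⟩
  obtain ⟨σ, hσq⟩ := exists_frob hK
  let ι : ↥(Cfsg.SU (m + 1) K q) →* ↥(Cfsg.GU (m + 1) K q) :=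
    { toFun := fun s => ⟨Matrix.SpecialLinearGroup.toGL
        (s : Matrix.SpecialLinearGroup (Fin (m + 1)) K), s.2⟩
      map_one' := Subtype.ext (map_one _)
      map_mul' := fun a b => Subtype.ext (map_mul _ _ _) }
  have hι : Function.Injective ι := by
    intro s t h
    apply Subtype.ext
    apply Matrix.SpecialLinearGroup.toGL_injective
    exact congrArg Subtype.val h
  let δ : ↥(Cfsg.GU (m + 1) K q) →* ↥(detGU (F := K) (q := q) (m + 1)).range :=
    (detGU (F := K) (q := q) (m + 1)).rangeRestrict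
  have hδ : Function.Surjective δ := MonoidHom.rangeRestrict_surjective _
  have hδval : ∀ g : ↥(Cfsg.GU (m + 1) K q), (((δ g : ↥(detGU (F := K) (q := q) (m + 1)).range) : Kˣ) : K) =
      ((g : GL (Fin (m + 1)) K) : Matrix (Fin (m + 1)) (Fin (m + 1)) K).det := fun g => rfl
  have hker : ∀ g : ↥(Cfsg.GU (m + 1) K q), δ g = 1 ↔ g ∈ ι.range := by
    intro g
    constructor
    · intro hg
      have hdet : ((g : GL (Fin (m + 1)) K) : Matrix (Fin (m + 1)) (Fin (m + 1)) K).det = 1 := by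
        rw [← hδval, hg]
        rfl
      exact ⟨⟨⟨((g : GL (Fin (m + 1)) K) : Matrix (Fin (m + 1)) (Fin (m + 1)) K), hdet⟩, g.2⟩,
        Subtype.ext (Units.ext rfl)⟩
    · rintro ⟨s, rfl⟩
      apply Subtype.ext
      apply Units.ext
      rw [hδval]
      exact (s : Matrix.SpecialLinearGroup (Fin (m + 1)) K).2
  have hnil0 : IsNilpotent (((Cfsg.Agent.S2578.u0 K (m + 1) : GL (Fin (m + 1)) K) :
      Matrix (Fin (m + 1)) (Fin (m + 1)) K) - 1) := ⟨m + 1, (reg_u0 (by omega)).1⟩
  obtain ⟨u₀, hu₀⟩ := exists_unitary_conj hK (Cfsg.Agent.S2578.u0 K (m + 1)) hnil0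
  have hregu₀ : Reg ((u₀ : GL (Fin (m + 1)) K) : Matrix (Fin (m + 1)) (Fin (m + 1)) K) :=
    (reg_iff (by omega) _).mpr hu₀
  have hδu₀ : δ u₀ = 1 := by
    apply Subtype.ext
    apply Units.ext
    rw [hδval]
    obtain ⟨c, hc⟩ := isConj_iff.mp hu₀
    have h1 : Matrix.GeneralLinearGroup.det (u₀ : GL (Fin (m + 1)) K) =
        Matrix.GeneralLinearGroup.det (Cfsg.Agent.S2578.u0 K (m + 1)) := by
      rw [← hc, map_mul, map_mul, map_inv, mul_right_comm, mul_inv_cancel, one_mul]
    have h2 := congrArg Units.val h1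
    rw [Matrix.GeneralLinearGroup.val_det_apply, Matrix.GeneralLinearGroup.val_det_apply,
      Cfsg.Agent.S2578.u0_val, Cfsg.Agent.S2578.det_u0] at h2
    exact h2
  have hsplit := card_classes_split ι hι δ hδ hker u₀ hδu₀
    ((Subgroup.centralizer {u₀}).map δ) (by
      intro a
      rw [Subgroup.mem_map]
      constructor
      · rintro ⟨z, hz, rfl⟩
        exact ⟨z, Subgroup.mem_centralizer_singleton_iff.mp hz, rfl⟩
      · rintro ⟨z, hz, rfl⟩
        exact ⟨z, Subgroup.mem_centralizer_singleton_iff.mpr hz, rfl⟩)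
  have hcongr : Nat.card {C : ConjClasses ↥(Cfsg.SU (m + 1) K q) // ∃ u : ↥(Cfsg.SU (m + 1) K q), ConjClasses.mk u = C ∧ (((u : GL (Fin (m + 1)) K) : Matrix (Fin (m + 1)) (Fin (m + 1)) K) - 1) ^ (m + 1) = 0 ∧ (((u : GL (Fin (m + 1)) K) : Matrix (Fin (m + 1)) (Fin (m + 1)) K) - 1).rank = m + 1 - 1} =
      Nat.card {C : ConjClasses ↥(Cfsg.SU (m + 1) K q) // ∃ u : ↥(Cfsg.SU (m + 1) K q), ConjClasses.mk u = C ∧
        ∃ g : ↥(Cfsg.GU (m + 1) K q), g * u₀ * g⁻¹ = ι u} := by
    apply Nat.card_congr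
    apply Equiv.subtypeEquivRight
    intro C
    constructor
    · rintro ⟨u, hu, h1, h2⟩
      refine ⟨u, hu, ?_⟩
      have hR : Reg (((ι u : ↥(Cfsg.GU (m + 1) K q)) : GL (Fin (m + 1)) K) :
          Matrix (Fin (m + 1)) (Fin (m + 1)) K) := ⟨h1, h2⟩
      have hc1 := (reg_iff (by omega) _).mp hR
      have hc2 : IsConj (u₀ : GL (Fin (m + 1)) K) ((ι u : ↥(Cfsg.GU (m + 1) K q)) : GL (Fin (m + 1)) K) :=
        hu₀.symm.trans hc1
      exact isConj_iff.mp ((Cfsg.Agent.S2587.result hK u₀ (ι u)).mpr hc2)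
    · rintro ⟨u, hu, g, hg⟩
      have hc3 : IsConj u₀ (ι u) := isConj_iff.mpr ⟨g, hg⟩
      have hc2 := (Cfsg.Agent.S2587.result hK u₀ (ι u)).mp hc3
      have hR := (reg_iff (by omega) _).mpr (hu₀.trans hc2)
      exact ⟨u, hu, hR.1, hR.2⟩
  have hH : (Subgroup.centralizer {u₀}).map δ =
      (powMonoidHom (m + 1) : ↥(detGU (F := K) (q := q) (m + 1)).range →*
        ↥(detGU (F := K) (q := q) (m + 1)).range).range := by
    ext a
    rw [Subgroup.mem_map, MonoidHom.mem_range]
    constructor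
    · rintro ⟨z, hz, rfl⟩
      obtain ⟨c, hc1, hc2⟩ := det_centralizer σ hσq m u₀ z hregu₀
        (Subgroup.mem_centralizer_singleton_iff.mp hz)
      have hc0 : c ≠ 0 := by
        rintro rfl
        rw [zero_mul] at hc1
        exact zero_ne_one hc1
      have hcA : Units.mk0 c hc0 ∈ (detGU (F := K) (q := q) (m + 1)).range := by
        rw [range_detGU hK, MonoidHom.mem_ker, powMonoidHom_apply]
        apply Units.ext
        rw [Units.val_pow_eq_pow_val, Units.val_mk0, Units.val_one, pow_succ']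
        exact hc1
      refine ⟨⟨Units.mk0 c hc0, hcA⟩, ?_⟩
      apply Subtype.ext
      apply Units.ext
      rw [powMonoidHom_apply, hδval, hc2, Subgroup.coe_pow, Units.val_pow_eq_pow_val]
      rfl
    · rintro ⟨b, rfl⟩
      have hb : ((b : Kˣ)) ∈ (powMonoidHom (q + 1) : Kˣ →* Kˣ).ker := by
        rw [← range_detGU hK]
        exact b.2
      rw [MonoidHom.mem_ker, powMonoidHom_apply] at hb
      have hc1 : ((b : Kˣ) : K) * ((b : Kˣ) : K) ^ q = 1 := by
        rw [← pow_succ', ← Units.val_pow_eq_pow_val, hb, Units.val_one]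
      have hzmem : Matrix.GeneralLinearGroup.scalar (Fin (m + 1)) (b : Kˣ) ∈ Cfsg.GU (m + 1) K q := by
        intro u v
        have hzv : ∀ w : Fin (m + 1) → K,
            (Units.coeHom (Matrix (Fin (m + 1)) (Fin (m + 1)) K))
              (Matrix.GeneralLinearGroup.scalar (Fin (m + 1)) (b : Kˣ)) *ᵥ w = ((b : Kˣ) : K) • w := by
          intro w
          show (Matrix.scalar (Fin (m + 1)) ((b : Kˣ) : K)) *ᵥ w = _
          rw [Matrix.scalar_apply, ← Matrix.smul_one_eq_diagonal, Matrix.smul_mulVec,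
            Matrix.one_mulVec]
        rw [hzv, hzv, herm_smul_left, herm_smul_right, ← mul_assoc, hc1, one_mul]
      refine ⟨⟨_, hzmem⟩, ?_, ?_⟩
      · rw [Subgroup.mem_centralizer_singleton_iff]
        apply Subtype.ext
        exact Matrix.GeneralLinearGroup.scalar_commute _ _
      · apply Subtype.ext
        rw [powMonoidHom_apply, Subgroup.coe_pow]
        show Matrix.GeneralLinearGroup.det (Matrix.GeneralLinearGroup.scalar (Fin (m + 1)) (b : Kˣ)) = _
        rw [Matrix.GeneralLinearGroup.det_scalar, Fintype.card_fin]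
  have hcardA : Nat.card ↥(detGU (F := K) (q := q) (m + 1)).range = q + 1 := by
    rw [range_detGU hK]
    exact card_norm_ker hK
  rw [hcongr, hsplit, hH, IsCyclic.index_powMonoidHom_range, hcardA, Nat.gcd_comm]

end Cfsg.Agent.S2643
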