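import Cfsg.Statements.S2644
import Mathlib
import Cfsg.Agent.Lib_helper29_USU
-- import your own Cfsg.Agent.* helpers here

set_option autoImplicit false
open Cfsg

namespace Cfsg.Agent.S2644

/-- In the special unitary group SU_n(q) with n ≥ 3 (isometries of Σ u_i v_i^q of determinant one over the field with q² elements), any two transvections (elements t with t − 1 of rank one and square zero) are conjugate. -/
theorem result {K : Type*} [Field K] [Fintype K] {q n : ℕ} (hK : Fintype.card K = q ^ 2) (hn : 3 ≤ n) (s t : ↥(Cfsg.SU n K q)) (hs : Cfsg.IsTransvection (((s : GL (Fin n) K) : Matrix (Fin n) (Fin n) K))) (ht : Cfsg.IsTransvection (((t : GL (Fin n) K) : Matrix (Fin n) (Fin n) K))) : IsConj s t := by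
  have hsGU := (Subgroup.mem_inf.mp (Cfsg.Agent.helper29.suToGL_mem s)).1
  have htGU := (Subgroup.mem_inf.mp (Cfsg.Agent.helper29.suToGL_mem t)).1
  obtain ⟨x, lam, hx0, hxx, hl0, hl, hs'⟩ :=
    Cfsg.Agent.helper29.transv_form hK (Cfsg.Agent.helper29.suToGL n K q s) hsGU hs.1 hs.2
  obtain ⟨x', lam', hx'0, hx'x', hl'0, hl', ht'⟩ :=
    Cfsg.Agent.helper29.transv_form hK (Cfsg.Agent.helper29.suToGL n K q t) htGU ht.1 ht.2
  obtain ⟨g, hg, hconj⟩ := Cfsg.Agent.helper29.TTu_conj hK hn x x' lam lam' hx0 hx'0 hxx hx'x'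
    hl0 hl'0 hl hl'
  obtain ⟨u, hu⟩ := Cfsg.Agent.helper29.suToGL_surj g (Cfsg.Agent.helper29.TUin_le_SUG hK _ hg)
  rw [isConj_iff]
  refine ⟨u, ?_⟩
  apply Cfsg.Agent.helper29.suToGL_inj
  rw [map_mul, map_mul, map_inv, hu, hs', ht', hconj]

end Cfsg.Agent.S2644
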