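import Cfsg.Statements.S2645
import Mathlib
import Cfsg.Agent.Lib_helper11_S2645a
import Cfsg.Agent.Lib_helper11_S2645i
import Cfsg.Agent.Lib_helper6_S2645b
import Cfsg.Agent.Lib_helper17_S2645x
import Cfsg.Agent.Lib_helper26_S2645x
import Cfsg.Agent.Lib_helper26_S2645y
import Cfsg.Agent.Lib_helper15_S2645x

set_option autoImplicit false
open Cfsg

namespace Cfsg.Agent.S2645

open Polynomial

theorem monic_irr_dvd_eq {F : Type*} [Field F] (a b : F[X]) (ha : a.Monic) (hb : b.Monic)
    (hai : Irreducible a) (hbi : Irreducible b) (h : a ∣ b) : a = b := by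
  have h1 : Associated a b := by
    rcases h with ⟨c, hc⟩
    rcases hbi.isUnit_or_isUnit hc with hu | hu
    · exact absurd hu hai.not_isUnit
    · exact ⟨hu.unit, by rw [IsUnit.unit_spec, ← hc]⟩
  exact eq_of_monic_of_associated ha hb h1

/-- Number of conjugacy classes of elements of odd prime order r, r different from the characteristic, in the symplectic group Sp_2m(q): let i be the multiplicative order of q modulo r and t = (r − 1)/i. If i is odd the eigenvalue orbits pair off (Λ ≠ Λ⁻¹) and the classes correspond to the non-zero (t/2)-tuples (a_j) with 2i Σ a_j ≤ 2m, giving C(⌊m/i⌋ + t/2, t/2) − 1 classes; if i is even (Λ = Λ⁻¹) they correspond to the non-zero t-tuples with i Σ a_j ≤ 2m, giving C(⌊2m/i⌋ + t, t) − 1 classes. -/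
theorem result {F : Type*} [Field F] [Fintype F] {p q : ℕ} [Fact p.Prime] [CharP F p] (hF : Fintype.card F = q) (m r i t : ℕ) (hr : r.Prime) (hr2 : r ≠ 2) (hrp : r ≠ p) (hi : i = orderOf (q : ZMod r)) (ht : t * i = r - 1) : Nat.card {C : ConjClasses ↥(Matrix.symplecticGroup (Fin m) F) // ∃ g : Matrix.symplecticGroup (Fin m) F, ConjClasses.mk g = C ∧ orderOf g = r} = if Odd i then Nat.choose (m / i + t / 2) (t / 2) - 1 else Nat.choose (2 * m / i + t) t - 1 := by
  classical
  have hrF : (r : F) ≠ 0 := by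
    intro h0
    rw [CharP.cast_eq_zero_iff F p] at h0
    exact hrp ((Nat.prime_dvd_prime_iff_eq Fact.out hr).mp h0).symm
  have hipos : 0 < i := by
    rcases Nat.eq_zero_or_pos i with h | h
    · rw [h, mul_zero] at ht
      have := hr.two_le
      omega
    · exact h
  subst hF
  obtain ⟨S, hS, hX, hprod, hcard⟩ := Cfsg.Agent.helper11.S2645a.pieceA (F := F) r hr hrF
  rw [← hi] at hS hcard
  have hSt : S.card = t := Nat.eq_of_mul_eq_mul_right hipos (hcard.trans ht.symm)
  have hSdvd : ∀ g ∈ S, g ∣ (X ^ r - 1 : F[X]) := by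
    intro g hg
    rw [hprod]
    exact Dvd.dvd.mul_left (Finset.dvd_prod_of_mem _ hg) _
  have hSne : ∀ g ∈ S, g ≠ (X - 1 : F[X]) := by
    intro g hg h
    exact hX (h ▸ hg)
  have hB := fun g (hg : g ∈ S) => Cfsg.Agent.helper6.S2645x.pieceB r hr hr2 hrF g (hS g hg).1
    (hS g hg).2.1 (hSdvd g hg) (hSne g hg)
  rw [← hi] at hB
  have hX1 : (X - 1 : F[X]) = X - C 1 := by rw [map_one]
  have hrec : ∀ g ∈ S, C (g.coeff 0)⁻¹ * g.reverse ∈ S := by
    intro g hg
    obtain ⟨-, hmon, hirr, hdvd, hne, -, -, -⟩ := hB g hg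
    rw [hprod] at hdvd
    rcases (hirr.prime.dvd_mul).mp hdvd with h | h
    · exfalso
      apply hne
      apply monic_irr_dvd_eq _ _ hmon _ hirr _ h
      · rw [hX1]; exact monic_X_sub_C 1
      · rw [hX1]; exact irreducible_X_sub_C 1
    · obtain ⟨g', hg', hdvd'⟩ := Prime.exists_mem_finset_dvd hirr.prime h
      have := monic_irr_dvd_eq _ _ hmon (hS g' hg').1 hirr (hS g' hg').2.1 hdvd'
      rw [this]
      exact hg'
  have hinv : ∀ g ∈ S, C ((C (g.coeff 0)⁻¹ * g.reverse).coeff 0)⁻¹ *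
      (C (g.coeff 0)⁻¹ * g.reverse).reverse = g := fun g hg => (hB g hg).2.2.2.2.2.1
  have hpar : ∀ g ∈ S, C (g.coeff 0)⁻¹ * g.reverse = g → Even i := by
    intro g hg h
    rw [← Nat.not_odd_iff_even]
    intro hodd
    exact (hB g hg).2.2.2.2.2.2.2 hodd h
  obtain ⟨hC1a, hC1b, hC1c⟩ := Cfsg.Agent.helper17.S2645x.pieceC1 (F := F) r m i hipos S hS hX hprod
  have hC2 := Cfsg.Agent.helper15.S2645x.pieceC2 (F := F) r m i hr hr2 hipos S hS hX hprod hrec hinv hpar
  have hI := Cfsg.Agent.helper11.S2645i.pieceI (F := F) p m r hr hrp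
  -- polynomials <-> multisets
  have hPM : Nat.card {f : F[X] // f.Monic ∧ f.natDegree = m + m ∧
      (∀ k, k ≤ m + m → f.coeff (m + m - k) = f.coeff k) ∧ f ∣ (X ^ r - 1) ^ (m + m)} =
      Nat.card {M : Multiset F[X] // (∀ g ∈ M, g ∈ S) ∧
        M.map (fun g => C (g.coeff 0)⁻¹ * g.reverse) = M ∧ i * Multiset.card M ≤ m + m} := by
    symm
    apply Nat.card_congr
    refine Equiv.ofBijective (fun M => ⟨(X - 1) ^ (m + m - i * Multiset.card M.1) * M.1.prod,
      (hC1a M.1 M.2.1 M.2.2.2).1, (hC1a M.1 M.2.1 M.2.2.2).2.1,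
      (hC2 M.1 M.2.1 M.2.2.2).mpr M.2.2.1, (hC1a M.1 M.2.1 M.2.2.2).2.2⟩) ⟨?_, ?_⟩
    · intro M M' h
      apply Subtype.ext
      exact hC1b M.1 M'.1 M.2.1 M'.2.1 M.2.2.2 M'.2.2.2 (congrArg Subtype.val h)
    · rintro ⟨f, hfm, hfd, hfp, hfdvd⟩
      obtain ⟨M, hMS, hMi, hfM⟩ := hC1c f hfm hfd hfdvd
      refine ⟨⟨M, hMS, ?_, hMi⟩, ?_⟩
      · apply (hC2 M hMS hMi).mp
        rw [← hfM]
        exact hfp
      · apply Subtype.ext
        exact hfM.symm
  have hcount : Nat.card {M : Multiset F[X] // (∀ g ∈ M, g ∈ S) ∧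
      M.map (fun g => C (g.coeff 0)⁻¹ * g.reverse) = M ∧ i * Multiset.card M ≤ m + m} =
      if Odd i then Nat.choose (m / i + t / 2) (t / 2) else Nat.choose (2 * m / i + t) t := by
    have hle : ∀ M : Multiset F[X], i * Multiset.card M ≤ m + m ↔ Multiset.card M ≤ (m + m) / i := by
      intro M
      rw [Nat.le_div_iff_mul_le hipos, mul_comm]
    by_cases hodd : Odd i
    · rw [if_pos hodd]
      have hfix : ∀ g ∈ S, C (g.coeff 0)⁻¹ * g.reverse ≠ g :=
        fun g hg => (hB g hg).2.2.2.2.2.2.2 hodd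
      have h1 : Nat.card {M : Multiset F[X] // (∀ g ∈ M, g ∈ S) ∧
          M.map (fun g => C (g.coeff 0)⁻¹ * g.reverse) = M ∧ i * Multiset.card M ≤ m + m} =
          Nat.card {M : Multiset F[X] // (∀ g ∈ M, g ∈ S) ∧
          M.map (fun g => C (g.coeff 0)⁻¹ * g.reverse) = M ∧ Multiset.card M ≤ (m + m) / i} := by
        apply Nat.card_congr
        apply Equiv.subtypeEquivRight
        intro M
        rw [hle]
      rw [h1, Cfsg.Agent.helper26.S2645x.pieceD2 S (fun g => C (g.coeff 0)⁻¹ * g.reverse)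
        hrec hinv hfix, hSt]
      have h2 : (m + m) / i / 2 = m / i := by
        rw [Nat.div_div_eq_div_mul, ← two_mul, mul_comm i 2, Nat.mul_div_mul_left _ _ two_pos]
      rw [h2]
    · rw [if_neg hodd]
      have heven : Even i := Nat.not_odd_iff_even.mp hodd
      have hfixall : ∀ g ∈ S, C (g.coeff 0)⁻¹ * g.reverse = g :=
        fun g hg => (hB g hg).2.2.2.2.2.2.1 heven
      have h1 : Nat.card {M : Multiset F[X] // (∀ g ∈ M, g ∈ S) ∧
          M.map (fun g => C (g.coeff 0)⁻¹ * g.reverse) = M ∧ i * Multiset.card M ≤ m + m} =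
          Nat.card {M : Multiset F[X] // (∀ g ∈ M, g ∈ S) ∧ Multiset.card M ≤ (m + m) / i} := by
        apply Nat.card_congr
        apply Equiv.subtypeEquivRight
        intro M
        constructor
        · rintro ⟨h1, -, h3⟩
          exact ⟨h1, (hle M).mp h3⟩
        · rintro ⟨h1, h3⟩
          refine ⟨h1, ?_, (hle M).mpr h3⟩
          have : M.map (fun g => C (g.coeff 0)⁻¹ * g.reverse) = M.map (fun g => g) :=
            Multiset.map_congr rfl (fun g hg => hfixall g (h1 g hg))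
          rw [this, Multiset.map_id']
      rw [h1, Cfsg.Agent.helper26.S2645x.pieceD1 S, hSt, ← two_mul]
  rw [hPM, hcount] at hI
  by_cases hodd : Odd i
  · rw [if_pos hodd] at hI ⊢
    omega
  · rw [if_neg hodd] at hI ⊢
    omega

end Cfsg.Agent.S2645
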