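import Mathlib
import Cfsg.Statements.S4417
import Cfsg.Agent.Lib_helper20_LinDL4

set_option autoImplicit false
set_option linter.style.haveILetI false
set_option linter.unusedVariables false
open Cfsg

namespace Cfsg.Agent.S4417

open Cfsg.Agent.helper20.LinDL Cfsg.Agent.helper20.DerLen

/-- Let F be a field with q elements, p a prime not dividing q, and e the multiplicative order of q modulo p; assume e ≤ n. Then every p-subgroup of GL_n(F) has derived length at most ⌊log₂(n/e)⌋ + 1: that term of its derived series is trivial (n/e is the integer quotient). -/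
theorem result {F : Type*} [Field F] [Fintype F] (q : ℕ) (hF : Fintype.card F = q) (p : ℕ) [Fact p.Prime] (hpq : ¬ p ∣ q) (n e : ℕ) (he : e = orderOf (q : ZMod p)) (hen : e ≤ n) (P : Subgroup (GL (Fin n) F)) (hP : IsPGroup p P) : derivedSeries ↥P (Nat.log 2 (n / e) + 1) = ⊥ := by
  classical
  subst he
  obtain ⟨ι, hι⟩ : ∃ ι : F →+* AlgebraicClosure F, ι = algebraMap F (AlgebraicClosure F) := ⟨_, rfl⟩
  have hιinj : Function.Injective ι := ι.injective
  -- characteristic
  obtain ⟨l, hl⟩ : ∃ l : ℕ, l = ringChar F := ⟨_, rfl⟩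
  haveI hcF : CharP F l := by rw [hl]; exact ringChar.charP F
  obtain ⟨f, hlp, hcard⟩ := FiniteField.card F l
  haveI : Fact l.Prime := ⟨hlp⟩
  haveI hcK : CharP (AlgebraicClosure F) l := charP_of_injective_algebraMap
    (algebraMap F (AlgebraicClosure F)).injective l
  haveI : ExpChar (AlgebraicClosure F) l := ExpChar.prime hlp
  have hqf : q = l ^ (f : ℕ) := by rw [← hF, hcard]
  have hqpos : 0 < q := by rw [hqf]; exact pow_pos hlp.pos _
  obtain ⟨φ, hφdef⟩ : ∃ φ : AlgebraicClosure F →+* AlgebraicClosure F,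
      φ = iterateFrobenius (AlgebraicClosure F) l (f : ℕ) := ⟨_, rfl⟩
  have hφ : ∀ x, φ x = x ^ q := by
    intro x
    rw [hφdef, iterateFrobenius_def, hqf]
  have hφs : Function.Surjective φ := by
    intro x
    obtain ⟨z, hz⟩ := IsAlgClosed.exists_pow_nat_eq x hqpos
    exact ⟨z, by rw [hφ, hz]⟩
  have hφι : ∀ a : F, φ (ι a) = ι a := by
    intro a
    rw [hφ, ← map_pow, ← hF, FiniteField.pow_card]
  have hpK : ((p : ℕ) : AlgebraicClosure F) ≠ 0 := by
    intro h0
    have h1 := (CharP.cast_eq_zero_iff (AlgebraicClosure F) l p).mp h0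
    have h2 := (Nat.prime_dvd_prime_iff_eq hlp (Fact.out : p.Prime)).mp h1
    apply hpq
    rw [hqf, ← h2]
    exact dvd_pow_self l (PNat.ne_zero f)
  -- the Frobenius map on vectors
  obtain ⟨Φ, hΦdef⟩ : ∃ Φ : (Fin n → AlgebraicClosure F) →+ (Fin n → AlgebraicClosure F),
      ∀ v i, Φ v i = φ (v i) :=
    ⟨(φ : AlgebraicClosure F →+ AlgebraicClosure F).compLeft (Fin n), fun v i => rfl⟩
  have hΦi : Function.Injective Φ := by
    intro v w h
    funext i
    have := congrFun h i
    rw [hΦdef, hΦdef] at this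
    exact φ.injective this
  have hΦs : ∀ (c : AlgebraicClosure F) (v : Fin n → AlgebraicClosure F),
      Φ (c • v) = φ c • Φ v := by
    intro c v
    funext i
    rw [hΦdef, Pi.smul_apply, Pi.smul_apply, hΦdef, smul_eq_mul, smul_eq_mul, map_mul]
  haveI : Finite (GL (Fin n) F) := inferInstance
  let σ : ↥P →* Module.End (AlgebraicClosure F) (Fin n → AlgebraicClosure F) :=
    { toFun := fun g => Matrix.toLin' ((((g : GL (Fin n) F)) :
        Matrix (Fin n) (Fin n) F).map ι)
      map_one' := by
        rw [Subgroup.coe_one, Units.val_one, Matrix.map_one ι (map_zero ι) (map_one ι),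
          Matrix.toLin'_one]
        rfl
      map_mul' := by
        intro a b
        rw [Subgroup.coe_mul, Units.val_mul, Matrix.map_mul, Matrix.toLin'_mul]
        rfl }
  have hσ : ∀ g : ↥P, σ g = Matrix.toLin' ((((g : GL (Fin n) F)) :
        Matrix (Fin n) (Fin n) F).map ι) := fun g => rfl
  have hΦσ : ∀ (g : ↥P) (v : Fin n → AlgebraicClosure F), σ g (Φ v) = Φ (σ g v) := by
    intro g v
    funext i
    rw [hΦdef, hσ, Matrix.toLin'_apply, Matrix.toLin'_apply, Matrix.mulVec, Matrix.mulVec,
      dotProduct, dotProduct, map_sum]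
    apply Finset.sum_congr rfl
    intro j _
    rw [map_mul, hΦdef, Matrix.map_apply, hφι]
  have key := claim2 σ hP hpK q hpq φ hφ hφs Φ hΦi hΦs hΦσ n ⊤ ⊤ (fun _ _ _ _ => trivial)
    (fun _ _ => trivial) (by rw [finrank_top, Module.finrank_fin_fun])
  rw [eq_bot_iff]
  intro g hg
  rw [Subgroup.mem_bot]
  have h1 : σ g = LinearMap.id := by
    apply LinearMap.ext
    intro v
    exact key g (by rw [dser_top]; exact hg) v trivial
  rw [hσ, ← Matrix.toLin'_one] at h1
  have h2 := Matrix.toLin'.injective h1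
  have h3 : (((g : GL (Fin n) F)) : Matrix (Fin n) (Fin n) F).map ι =
      (1 : Matrix (Fin n) (Fin n) F).map ι := by
    rw [h2, Matrix.map_one ι (map_zero ι) (map_one ι)]
  have h4 := Matrix.map_injective hιinj h3
  apply Subtype.ext
  rw [Subgroup.coe_one]
  exact Units.ext h4

end Cfsg.Agent.S4417
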