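import Mathlib
import Cfsg.Statements.S2648
import Cfsg.Agent.Lib_helper17_SpDL3
import Cfsg.Agent.Lib_helper20_LinDL6
import Cfsg.Agent.S4417

set_option autoImplicit false

open Cfsg

namespace Cfsg.Agent.S2648

open Matrix Cfsg.Agent.helper17.SpEmb Cfsg.Agent.helper17.SpDL Cfsg.Agent.helper20.DerLen

theorem goodSp_pow {F : Type*} [Field F] (h2 : (2 : F) ≠ 0) (a b : F) (hab : a ^ 2 + b ^ 2 = -1)
    (j : ℕ) : GoodSp F (Fin (2 ^ j)) (j + 1) := by
  induction j with
  | zero => exact goodSp_base h2 a b hab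
  | succ j ih =>
    have h1 := ih.step
    have he : 2 ^ (j + 1) = 2 ^ j + 2 ^ j := by ring
    exact h1.transfer (reindexMap ((finCongr he).trans finSumFinEquiv.symm))
      (reindexMap_injective _)

theorem goodSp_pad {F : Type*} [Field F] {m n k : ℕ} (h : GoodSp F (Fin m) k) (hmn : m ≤ n) :
    GoodSp F (Fin n) k := by
  have h1 := h.transfer (padMap (Fin m) (Fin (n - m))) (padMap_injective _ _)
  have he : n = m + (n - m) := by omega
  exact h1.transfer (reindexMap ((finCongr he).trans finSumFinEquiv.symm))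
    (reindexMap_injective _)

theorem result {F : Type*} [Field F] [Fintype F] [DecidableEq F] (q : ℕ) (hF : Fintype.card F = q) (hq : Odd q) (n : ℕ) (hn : 1 ≤ n) (R : Sylow 2 ↥(Matrix.symplecticGroup (Fin n) F)) : derivedSeries ↥(R : Subgroup ↥(Matrix.symplecticGroup (Fin n) F)) (Nat.log 2 (2 * n) + 1) = ⊥ ∧ derivedSeries ↥(R : Subgroup ↥(Matrix.symplecticGroup (Fin n) F)) (Nat.log 2 (2 * n)) ≠ ⊥ := by
  have hch : ringChar F ≠ 2 := by
    intro hch
    have := FiniteField.even_card_iff_char_two.1 hch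
    rw [hF] at this
    rcases hq with ⟨k, hk⟩
    omega
  have h2 : (2 : F) ≠ 0 := Ring.two_ne_zero hch
  constructor
  · -- upper bound via S4417
    have hcard : Fintype.card (Fin n ⊕ Fin n) = Fintype.card (Fin (2 * n)) := by
      simp; omega
    let e : Fin n ⊕ Fin n ≃ Fin (2 * n) := Fintype.equivOfCardEq hcard
    let φ₁ : ↥(Matrix.symplecticGroup (Fin n) F) →* GL (Fin n ⊕ Fin n) F :=
      ((Matrix.symplecticGroup (Fin n) F).subtype).toHomUnits
    let φ₂ : GL (Fin n ⊕ Fin n) F ≃* GL (Fin (2 * n)) F :=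
      Units.mapEquiv (Matrix.reindexAlgEquiv F F e).toMulEquiv
    let ψ : ↥(R : Subgroup ↥(Matrix.symplecticGroup (Fin n) F)) →* GL (Fin (2 * n)) F :=
      (φ₂.toMonoidHom.comp φ₁).comp (R : Subgroup ↥(Matrix.symplecticGroup (Fin n) F)).subtype
    have hψ : Function.Injective ψ := by
      intro x y hxy
      have h3 : φ₁ x.1 = φ₁ y.1 := φ₂.injective hxy
      have h4 : ((φ₁ x.1 : GL (Fin n ⊕ Fin n) F) : Matrix (Fin n ⊕ Fin n) (Fin n ⊕ Fin n) F) =
          ((φ₁ y.1 : GL (Fin n ⊕ Fin n) F) : Matrix (Fin n ⊕ Fin n) (Fin n ⊕ Fin n) F) := by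
        rw [h3]
      exact Subtype.ext (Subtype.ext h4)
    have hP : IsPGroup 2 ψ.range := by
      rw [MonoidHom.range_eq_map]
      exact (IsPGroup.to_subgroup R.isPGroup' ⊤).map ψ
    have hq2 : ¬ 2 ∣ q := by
      rcases hq with ⟨k, hk⟩; omega
    have hord : (1 : ℕ) = orderOf ((q : ℕ) : ZMod 2) := by
      have : ((q : ℕ) : ZMod 2) = 1 := by
        rcases hq with ⟨k, hk⟩
        rw [hk]; push_cast
        have : (2 : ZMod 2) = 0 := rfl
        rw [this, zero_mul, zero_add]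
      rw [this, orderOf_one]
    have h5 := Cfsg.Agent.S4417.result q hF 2 hq2 (2 * n) 1 hord (by omega) ψ.range hP
    rw [Nat.div_one] at h5
    -- transfer to R
    have h6 : (derivedSeries ↥(R : Subgroup ↥(Matrix.symplecticGroup (Fin n) F))
        (Nat.log 2 (2 * n) + 1)).map ψ.rangeRestrict = derivedSeries ↥ψ.range
        (Nat.log 2 (2 * n) + 1) :=
      map_derivedSeries_eq ψ.rangeRestrict_surjective _
    rw [h5] at h6
    rwa [Subgroup.map_eq_bot_iff_of_injective _ (MonoidHom.rangeRestrict_injective_iff.2 hψ)] at h6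
  · -- lower bound
    haveI : Fact (ringChar F).Prime := ⟨CharP.char_is_prime F (ringChar F)⟩
    obtain ⟨a, b, hab⟩ := CharP.sq_add_sq F (ringChar F) (-1)
    have hab' : ((a : F)) ^ 2 + ((b : F)) ^ 2 = -1 := by
      rw [hab]; simp
    have hn0 : n ≠ 0 := by omega
    have hlog : Nat.log 2 (2 * n) = Nat.log 2 n + 1 := by
      rw [mul_comm, Nat.log_mul_base (by norm_num) hn0]
    have hpow : 2 ^ Nat.log 2 n ≤ n := Nat.pow_log_le_self 2 hn0
    have hgood := goodSp_pad (goodSp_pow h2 (a : F) (b : F) hab' (Nat.log 2 n)) hpow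
    obtain ⟨Q, hQ, hd⟩ := hgood
    rw [hlog]
    apply Cfsg.Agent.helper20.WrEmb.sylow_derivedSeries_ne_bot R Q.subtype Q.subtype_injective hQ
    rw [Ne, derivedSeries_eq_bot_iff]
    exact hd

end Cfsg.Agent.S2648
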