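import Mathlib
import Cfsg.Statements.S2665

set_option autoImplicit false
open Cfsg
open scoped MatrixGroups
open Polynomial

namespace Cfsg.Agent.S2665

universe u

section semilinear

variable {K : Type u} [Field K] [IsAlgClosed K] {q : ℕ} {φ : K →+* K}

/-- A Frobenius-semilinear injective map of a nonzero finite-dimensional space has a nonzero
fixed vector. -/
theorem exists_fixed (hq : 2 ≤ q) (hφ : ∀ x, φ x = x ^ q)
    {V : Type u} [AddCommGroup V] [Module K V] [FiniteDimensional K V]
    (T : V →ₛₗ[φ] V) (hT : Function.Injective T) (v : V) (hv : v ≠ 0) :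
    ∃ u : V, u ≠ 0 ∧ T u = u := by
  classical
  have hq0 : 0 < q := by omega
  have hq0' : q ≠ 0 := by omega
  set w : ℕ → V := fun i => (T^[i]) v with hw
  have hw0 : w 0 = v := rfl
  have hws : ∀ i, w (i + 1) = T (w i) := fun i => by
    simp only [hw, Function.iterate_succ_apply']
  set Indep : ℕ → Prop := fun k =>
    ∀ c : ℕ → K, ∑ i ∈ Finset.range k, c i • w i = 0 → ∀ i < k, c i = 0 with hIndep
  have hdep : ∃ k, ¬ Indep k := by
    refine ⟨Module.finrank K V + 1, fun h => ?_⟩
    have hli : LinearIndependent K (fun i : Fin (Module.finrank K V + 1) => w i) := by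
      rw [Fintype.linearIndependent_iff]
      intro g hg i
      set c' : ℕ → K := fun j => if hj : j < Module.finrank K V + 1 then g ⟨j, hj⟩ else 0 with hc'
      have hc'i : ∀ i : Fin (Module.finrank K V + 1), c' i = g i := by
        intro i; simp only [hc', dif_pos i.2, Fin.eta]
      have h1 := h c' ?_ i i.2
      · rw [← hc'i]; exact h1
      · rw [← Fin.sum_univ_eq_sum_range (fun j => c' j • w j), ← hg]
        exact Finset.sum_congr rfl (fun i _ => by rw [hc'i])
    have h2 := hli.fintype_card_le_finrank
    simp at h2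
  have hk : ¬ Indep (Nat.find hdep) := Nat.find_spec hdep
  have hmin : ∀ m < Nat.find hdep, Indep m := fun m hm => by
    by_contra hcon
    exact Nat.find_min hdep hm hcon
  have hk0 : Nat.find hdep ≠ 0 := by
    intro h0
    apply hk
    rw [h0]
    intro c _ i hi
    omega
  obtain ⟨r, hr⟩ := Nat.exists_eq_succ_of_ne_zero hk0
  have hIr : Indep r := hmin r (by omega)
  rw [hr] at hk
  have hk' : ∃ c : ℕ → K, ∑ i ∈ Finset.range (r + 1), c i • w i = 0 ∧ ∃ i < r + 1, c i ≠ 0 := by
    by_contra hcon
    apply hk
    intro c hc i hi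
    by_contra hci
    exact hcon ⟨c, hc, i, hi, hci⟩
  obtain ⟨c, hc, i0, hi0, hci0⟩ := hk'
  have hcr : c r ≠ 0 := by
    intro hcr
    rw [Finset.sum_range_succ, hcr, zero_smul, add_zero] at hc
    have := hIr c hc
    rcases Nat.lt_succ_iff_lt_or_eq.mp hi0 with h | h
    · exact hci0 (this i0 h)
    · rw [h] at hci0; exact hci0 hcr
  have hr0 : r ≠ 0 := by
    intro h0
    rw [h0] at hc hcr
    rw [Finset.sum_range_one, hw0] at hc
    rcases smul_eq_zero.mp hc with h | h
    · exact hcr h
    · exact hv h
  obtain ⟨m, rfl⟩ : ∃ m, r = m + 1 := ⟨r - 1, by omega⟩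
  have hc0 : c 0 ≠ 0 := by
    intro hc0
    rw [Finset.sum_range_succ', hc0, zero_smul, add_zero] at hc
    choose d hd using fun i => IsAlgClosed.exists_pow_nat_eq (c (i + 1)) hq0
    have h1 : T (∑ i ∈ Finset.range (m + 1), d i • w i) = T 0 := by
      rw [map_sum, map_zero, ← hc]
      apply Finset.sum_congr rfl
      intro i _
      rw [map_smulₛₗ, hφ, hd, hws]
    have h2 := hIr d (hT h1)
    have h3 : d m = 0 := h2 m (by omega)
    have h4 := hd m
    rw [h3, zero_pow hq0'] at h4
    have h5 : c (m + 1) = 0 := h4.symm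
    exact hcr h5
  -- coefficients
  set a : ℕ → K := fun i => - c i / c (m + 1) with ha
  have ha0 : a 0 ≠ 0 := by
    simp only [ha]
    exact div_ne_zero (neg_ne_zero.mpr hc0) hcr
  have hwr : w (m + 1) = ∑ i ∈ Finset.range (m + 1), a i • w i := by
    rw [Finset.sum_range_succ] at hc
    have h1 : c (m + 1) • w (m + 1) = - ∑ i ∈ Finset.range (m + 1), c i • w i := by
      rw [eq_neg_iff_add_eq_zero, add_comm]; exact hc
    have h2 : w (m + 1) = (c (m + 1))⁻¹ • (c (m + 1) • w (m + 1)) := by
      rw [smul_smul, inv_mul_cancel₀ hcr, one_smul]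
    rw [h2, h1, smul_neg, Finset.smul_sum, ← Finset.sum_neg_distrib]
    apply Finset.sum_congr rfl
    intro i _
    rw [smul_smul, ← neg_smul]
    congr 1
    simp only [ha]
    field_simp
  -- polynomials
  set Y : ℕ → K[X] := fun i => Nat.rec (C (a 0))
    (fun j Yj => X ^ (q * (q - 1)) * Yj ^ q + C (a (j + 1))) i with hY
  have hY0 : Y 0 = C (a 0) := rfl
  have hYs : ∀ i, Y (i + 1) = X ^ (q * (q - 1)) * Y i ^ q + C (a (i + 1)) := fun i => rfl
  have hYne : ∀ i, Y i ≠ 0 := by
    intro i
    induction i with
    | zero => rw [hY0]; exact C_ne_zero.mpr ha0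
    | succ j ih =>
      rw [hYs]
      intro h0
      have h1 : X ^ (q * (q - 1)) * Y j ^ q = - C (a (j + 1)) := eq_neg_of_add_eq_zero_left h0
      have h2 : (X ^ (q * (q - 1)) * Y j ^ q).natDegree = q * (q - 1) + q * (Y j).natDegree := by
        rw [natDegree_X_pow_mul (q * (q - 1)) (pow_ne_zero q ih), natDegree_pow, add_comm]
      rw [h1, natDegree_neg, natDegree_C] at h2
      have h3 : 2 ≤ q * (q - 1) := by
        have : 1 ≤ q - 1 := by omega
        nlinarith
      omega
  set R : K[X] := X ^ (q - 1) * Y m - 1 with hR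
  have hRdeg : R.degree ≠ 0 := by
    have h1 : (X ^ (q - 1) * Y m).natDegree = (Y m).natDegree + (q - 1) :=
      natDegree_X_pow_mul (q - 1) (hYne m)
    have h2 : (1 : K[X]).natDegree < (X ^ (q - 1) * Y m).natDegree := by
      rw [natDegree_one, h1]; omega
    have h3 : R.natDegree = (X ^ (q - 1) * Y m).natDegree :=
      natDegree_sub_eq_left_of_natDegree_lt h2
    intro h0
    have h4 : R.natDegree = 0 := natDegree_eq_zero_iff_degree_le_zero.mpr (le_of_eq h0)
    rw [h3, h1] at h4
    omega
  obtain ⟨t, ht⟩ := IsAlgClosed.exists_root R hRdeg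
  have ht' : t ^ (q - 1) * eval t (Y m) = 1 := by
    have : eval t R = 0 := ht
    rw [hR, eval_sub, eval_mul, eval_pow, eval_X, eval_one] at this
    exact sub_eq_zero.mp this
  have ht0 : t ≠ 0 := by
    intro h0
    rw [h0, zero_pow (by omega), zero_mul] at ht'
    exact zero_ne_one ht'
  set x : ℕ → K := fun i => t ^ q * eval t (Y i) with hx
  have hx0 : x 0 = a 0 * t ^ q := by
    simp only [hx, hY0, eval_C]; ring
  have hxs : ∀ i, x (i + 1) = x i ^ q + a (i + 1) * t ^ q := by
    intro i
    simp only [hx, hYs, eval_add, eval_mul, eval_pow, eval_X, eval_C]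
    have : t ^ q * t ^ (q * (q - 1)) = (t ^ q) ^ q := by
      rw [← pow_add, ← pow_mul]
      congr 1
      have : q * (q - 1) + q = q * q := by
        obtain ⟨k, hk⟩ : ∃ k, q = k + 1 := ⟨q - 1, by omega⟩
        subst hk
        simp only [Nat.add_sub_cancel]
        ring
      omega
    rw [mul_add, ← mul_assoc, this, mul_pow]
    ring
  have hxm : x m = t := by
    simp only [hx]
    have : t ^ q = t * t ^ (q - 1) := by
      rw [← pow_succ']
      congr 1
      omega
    rw [this, mul_assoc, ht', mul_one]
  refine ⟨∑ i ∈ Finset.range (m + 1), x i • w i, ?_, ?_⟩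
  · intro h0
    have := hIr x h0 m (by omega)
    rw [hxm] at this
    exact ht0 this
  · rw [map_sum]
    have h1 : ∀ i ∈ Finset.range (m + 1), T (x i • w i) = (x i ^ q) • w (i + 1) := by
      intro i _
      rw [map_smulₛₗ, hφ, hws]
    rw [Finset.sum_congr rfl h1, Finset.sum_range_succ, hxm, hwr]
    rw [Finset.sum_range_succ' (fun i => a i • w i), Finset.sum_range_succ' (fun i => x i • w i),
      hx0, smul_add, Finset.smul_sum, ← add_assoc, ← Finset.sum_add_distrib, smul_smul,
      mul_comm (t ^ q) (a 0)]
    congr 1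
    apply Finset.sum_congr rfl
    intro i _
    rw [hxs, add_smul, smul_smul, mul_comm (t ^ q)]

/-- A Frobenius-semilinear injective map of a finite-dimensional space over an algebraically
closed field has a basis of fixed vectors. -/
theorem exists_fixed_family (hq : 2 ≤ q) (hφ : ∀ x, φ x = x ^ q) :
    ∀ (n : ℕ) (V : Type u) [AddCommGroup V] [Module K V] [FiniteDimensional K V]
      (T : V →ₛₗ[φ] V), Function.Injective T → Module.finrank K V = n →
      ∃ b : Fin n → V, LinearIndependent K b ∧ ∀ i, T (b i) = b i := by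
  classical
  have hq0 : 0 < q := by omega
  intro n
  induction n with
  | zero =>
    intro V _ _ _ T _ _
    exact ⟨Fin.elim0, linearIndependent_empty_type, fun i => i.elim0⟩
  | succ n ih =>
    intro V _ _ _ T hT hdim
    have hpos : 0 < Module.finrank K V := by omega
    obtain ⟨v, hv⟩ := Module.finrank_pos_iff_exists_ne_zero.mp hpos
    obtain ⟨u, hu, hTu⟩ := exists_fixed hq hφ T hT v hv
    set W : Submodule K V := Submodule.span K {u} with hW
    have hWT : W ≤ W.comap T := by
      intro y hy
      rw [hW, Submodule.mem_span_singleton] at hy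
      obtain ⟨c, rfl⟩ := hy
      rw [Submodule.mem_comap, map_smulₛₗ, hTu]
      exact Submodule.smul_mem _ _ (Submodule.mem_span_singleton_self u)
    set T' : (V ⧸ W) →ₛₗ[φ] (V ⧸ W) := W.mapQ W T hWT with hT'
    have hT'inj : Function.Injective T' := by
      rw [injective_iff_map_eq_zero]
      intro y hy
      obtain ⟨a, rfl⟩ := Submodule.Quotient.mk_surjective W y
      rw [hT', Submodule.mapQ_apply, Submodule.Quotient.mk_eq_zero, hW,
        Submodule.mem_span_singleton] at hy
      obtain ⟨c, hc⟩ := hy
      obtain ⟨c', hc'⟩ := IsAlgClosed.exists_pow_nat_eq c hq0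
      have : T (c' • u) = T a := by
        rw [map_smulₛₗ, hφ, hc', hTu, hc]
      have h2 := hT this
      rw [Submodule.Quotient.mk_eq_zero, ← h2]
      exact Submodule.smul_mem _ _ (Submodule.mem_span_singleton_self u)
    have hdim' : Module.finrank K (V ⧸ W) = n := by
      have h1 := W.finrank_quotient_add_finrank
      have h0 : Module.finrank K W = 1 := finrank_span_singleton hu
      rw [hdim, h0] at h1
      omega
    obtain ⟨b', hb'li, hb'fix⟩ := ih (V ⧸ W) T' hT'inj hdim'
    choose wl hwl using fun i => Submodule.Quotient.mk_surjective W (b' i)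
    have hmem : ∀ i, T (wl i) - wl i ∈ W := by
      intro i
      rw [← Submodule.Quotient.mk_eq_zero, Submodule.Quotient.mk_sub, ← Submodule.mapQ_apply W W T
        (h := hWT), hwl]
      rw [← hT', hb'fix, sub_self]
    choose cc hcc using fun i => Submodule.mem_span_singleton.mp (hmem i)
    have hroot : ∀ i, ∃ s : K, s ^ q - s + cc i = 0 := by
      intro i
      have hdeg : (X ^ q - X + C (cc i) : K[X]).degree ≠ 0 := by
        have h1 : (X ^ q - X : K[X]).natDegree = q :=
          FiniteField.X_pow_card_sub_X_natDegree_eq K (by omega)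
        have h2 : (X ^ q - X + C (cc i) : K[X]).natDegree = q := by
          rw [natDegree_add_C, h1]
        intro h0
        have h4 := natDegree_eq_zero_iff_degree_le_zero.mpr (le_of_eq h0)
        omega
      obtain ⟨s, hs⟩ := IsAlgClosed.exists_root _ hdeg
      refine ⟨s, ?_⟩
      have : eval s (X ^ q - X + C (cc i) : K[X]) = 0 := hs
      simpa using this
    choose s hs using hroot
    set b : Fin n → V := fun i => wl i + s i • u with hb
    have hbfix : ∀ i, T (b i) = b i := by
      intro i
      simp only [hb]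
      rw [map_add, map_smulₛₗ, hφ, hTu]
      have h1 : T (wl i) = wl i + cc i • u := by
        rw [hcc i]; abel
      rw [h1, add_assoc, ← add_smul]
      congr 2
      have := hs i
      linear_combination this
    have hmkb : ∀ i, W.mkQ (b i) = b' i := by
      intro i
      simp only [hb, Submodule.mkQ_apply]
      rw [Submodule.Quotient.mk_add, hwl]
      have : (Submodule.Quotient.mk (s i • u) : V ⧸ W) = 0 := by
        rw [Submodule.Quotient.mk_eq_zero]
        exact Submodule.smul_mem _ _ (Submodule.mem_span_singleton_self u)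
      rw [this, add_zero]
    have hbli : LinearIndependent K b := by
      apply LinearIndependent.of_comp W.mkQ
      have : (W.mkQ ∘ b) = b' := funext hmkb
      rw [this]
      exact hb'li
    have hunot : u ∉ Submodule.span K (Set.range b) := by
      intro hmemu
      obtain ⟨gc, hgc⟩ := (Submodule.mem_span_range_iff_exists_fun K).mp hmemu
      have h1 : W.mkQ (∑ i, gc i • b i) = 0 := by
        rw [hgc, Submodule.mkQ_apply, Submodule.Quotient.mk_eq_zero]
        exact Submodule.mem_span_singleton_self u
      rw [map_sum] at h1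
      have h2 : ∑ i, gc i • b' i = 0 := by
        rw [← h1]
        apply Finset.sum_congr rfl
        intro i _
        rw [map_smul, hmkb]
      have h3 := Fintype.linearIndependent_iff.mp hb'li gc h2
      have h4 : (∑ i, gc i • b i) = 0 := by
        apply Finset.sum_eq_zero
        intro i _
        rw [h3 i, zero_smul]
      rw [h4] at hgc
      exact hu hgc.symm
    refine ⟨Fin.cons u b, linearIndependent_finCons.mpr ⟨hbli, hunot⟩, ?_⟩
    intro i
    refine Fin.cases ?_ ?_ i
    · simpa using hTu
    · intro j
      simpa using hbfix j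

end semilinear

/-- The Lang–Steinberg Theorem for the general linear group. Let `K` be an algebraically closed field of prime characteristic `p`, let `q = p^f` with `f ≥ 1`, and let `σ` be the endomorphism of GL_n(K) raising every matrix entry to the `q`-th power. Then every element `g` of GL_n(K) can be written `g = x · σ(x)⁻¹` for some `x` in GL_n(K): the map `x ↦ x σ(x)⁻¹` is surjective. -/
theorem result {K : Type*} [Field K] [IsAlgClosed K] (p : ℕ) [Fact p.Prime] [CharP K p]
    (f : ℕ) (hf : 1 ≤ f) (n : ℕ) (g : GL (Fin n) K) :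
    ∃ x : GL (Fin n) K, g = x * (Matrix.GeneralLinearGroup.map (iterateFrobenius K p f) x)⁻¹ := by
  classical
  set φ : K →+* K := iterateFrobenius K p f with hφdef
  have hφ : ∀ x, φ x = x ^ (p ^ f) := fun x => iterateFrobenius_def p f x
  have hp2 : 2 ≤ p := (Fact.out : p.Prime).two_le
  have hq : 2 ≤ p ^ f := by
    calc 2 ≤ p := hp2
      _ = p ^ 1 := (pow_one p).symm
      _ ≤ p ^ f := Nat.pow_le_pow_right (by omega) hf
  have hφinj : Function.Injective φ := φ.injective
  let T : (Fin n → K) →ₛₗ[φ] (Fin n → K) :=
    { toFun := fun v => (g : Matrix (Fin n) (Fin n) K).mulVec (fun i => φ (v i))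
      map_add' := by
        intro v w
        have : (fun i => φ ((v + w) i)) = (fun i => φ (v i)) + (fun i => φ (w i)) := by
          funext i; simp
        rw [this, Matrix.mulVec_add]
      map_smul' := by
        intro c v
        have : (fun i => φ ((c • v) i)) = φ c • (fun i => φ (v i)) := by
          funext i; simp
        rw [this, Matrix.mulVec_smul] }
  have hTapp : ∀ v, T v = (g : Matrix (Fin n) (Fin n) K).mulVec (fun i => φ (v i)) := fun v => rfl
  have hTinj : Function.Injective T := by
    intro v w hvw
    rw [hTapp, hTapp] at hvw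
    have h1 : ((g⁻¹ : GL (Fin n) K) : Matrix (Fin n) (Fin n) K).mulVec
        ((g : Matrix (Fin n) (Fin n) K).mulVec (fun i => φ (v i))) =
        ((g⁻¹ : GL (Fin n) K) : Matrix (Fin n) (Fin n) K).mulVec
        ((g : Matrix (Fin n) (Fin n) K).mulVec (fun i => φ (w i))) := by rw [hvw]
    rw [Matrix.mulVec_mulVec, Matrix.mulVec_mulVec, ← Units.val_mul, inv_mul_cancel, Units.val_one,
      Matrix.one_mulVec, Matrix.one_mulVec] at h1
    funext i
    exact hφinj (congrFun h1 i)
  obtain ⟨b, hbli, hbfix⟩ := exists_fixed_family hq hφ n (Fin n → K) T hTinj (by simp)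
  set x0 : Matrix (Fin n) (Fin n) K := Matrix.of (fun i j => b j i) with hx0
  have hcol : x0.col = b := by
    funext j i
    rfl
  have hunit : IsUnit x0 := by
    rw [← Matrix.linearIndependent_cols_iff_isUnit, hcol]
    exact hbli
  set x : GL (Fin n) K := hunit.unit with hx
  have hxval : (x : Matrix (Fin n) (Fin n) K) = x0 := IsUnit.unit_spec hunit
  have hkey : g * Matrix.GeneralLinearGroup.map φ x = x := by
    apply Units.ext
    ext i j
    rw [Units.val_mul, Matrix.mul_apply]
    have h1 := congrFun (hbfix j) i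
    rw [hTapp] at h1
    rw [hxval]
    simp only [Matrix.GeneralLinearGroup.map_apply, hxval]
    simpa [Matrix.mulVec, dotProduct, hx0] using h1
  exact ⟨x, eq_mul_inv_of_mul_eq hkey⟩

end Cfsg.Agent.S2665
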