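import Cfsg.Statements.S2666

set_option autoImplicit false
open scoped Pointwise
open Cfsg

namespace Cfsg.Agent.S2666

theorem mem_fix {X : Type*} [Group X] (τ : MulAut X) (x : X) :
    x ∈ (MulEquiv.toMonoidHom τ).eqLocus (MonoidHom.id X) ↔ τ x = x := Iff.rfl

theorem pow_fix {X : Type*} [Group X] (τ : MulAut X) (x : X) (h : τ x = x) (n : ℕ) : (τ ^ n) x = x := by
  induction n with
  | zero => simp
  | succ n ih => rw [pow_succ, MulAut.mul_apply, h, ih]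

theorem pow_comm_apply {X : Type*} [Group X] (σ : MulAut X) (e : ℕ) (a : X) :
    (σ ^ e) (σ a) = σ ((σ ^ e) a) := by
  rw [← MulAut.mul_apply, ← MulAut.mul_apply, ← pow_succ, ← pow_succ']

theorem prod_eq {X : Type*} [Group X] (σ : MulAut X) (g a : X) (ha : g = a * (σ a)⁻¹) (d : ℕ) :
    ((List.range d).map (fun i => (σ ^ i) g)).prod = a * ((σ ^ d) a)⁻¹ := by
  induction d with
  | zero => simp
  | succ d ih =>
    rw [List.range_succ, List.map_append, List.prod_append, ih]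
    simp only [List.map_cons, List.map_nil, List.prod_cons, List.prod_nil, mul_one]
    rw [ha, map_mul, map_inv, pow_succ' σ d, MulAut.mul_apply, pow_comm_apply]
    group

/-- if `g = a σ(a)⁻¹` is fixed by `σ^e` then `x = σ^e(a)⁻¹ a` is fixed by `σ`. -/
theorem x_fixed {X : Type*} [Group X] (σ : MulAut X) (e : ℕ) (g a : X) (ha : g = a * (σ a)⁻¹)
    (hg : (σ ^ e) g = g) : σ (((σ ^ e) a)⁻¹ * a) = ((σ ^ e) a)⁻¹ * a := by
  have h1 : (σ ^ e) a * ((σ ^ e) (σ a))⁻¹ = a * (σ a)⁻¹ := by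
    have := hg
    rw [ha, map_mul, map_inv] at this
    exact this
  rw [pow_comm_apply] at h1
  rw [map_mul, map_inv]
  have h3 : (σ ((σ ^ e) a))⁻¹ = ((σ ^ e) a)⁻¹ * a * (σ a)⁻¹ := by
    have h4 : ((σ ^ e) a)⁻¹ * ((σ ^ e) a * (σ ((σ ^ e) a))⁻¹) = ((σ ^ e) a)⁻¹ * (a * (σ a)⁻¹) := by rw [h1]
    rw [inv_mul_cancel_left] at h4
    rw [h4]; group
  rw [h3]; group

/-- conversely. -/
theorem g_fixed {X : Type*} [Group X] (σ : MulAut X) (e : ℕ) (a : X)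
    (hx : σ (((σ ^ e) a)⁻¹ * a) = ((σ ^ e) a)⁻¹ * a) : (σ ^ e) (a * (σ a)⁻¹) = a * (σ a)⁻¹ := by
  rw [map_mul, map_inv, pow_comm_apply]
  rw [map_mul, map_inv] at hx
  have h : (σ ((σ ^ e) a))⁻¹ = ((σ ^ e) a)⁻¹ * a * (σ a)⁻¹ := by
    have h4 : (σ ((σ ^ e) a))⁻¹ * σ a * (σ a)⁻¹ = ((σ ^ e) a)⁻¹ * a * (σ a)⁻¹ := by rw [hx]
    rw [← h4]; group
  rw [h]; group

/-- Shintani descent (abstract form). -/
theorem result {X : Type*} [Group X] (σ : MulAut X) (e : ℕ) (he : 1 ≤ e)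
    (hL : ∀ g : X, ∃ a : X, g = a * (σ a)⁻¹) (hLe : ∀ g : X, ∃ a : X, g = a * ((σ ^ e) a)⁻¹) :
    (∀ g ∈ (MulEquiv.toMonoidHom (σ ^ e)).eqLocus (MonoidHom.id X), ∀ a : X, g = a * (σ a)⁻¹ →
        ((σ ^ e) a)⁻¹ * a ∈ (MulEquiv.toMonoidHom σ).eqLocus (MonoidHom.id X) ∧
          a⁻¹ * ((List.range e).map (fun i => (σ ^ i) g)).prod * a = ((σ ^ e) a)⁻¹ * a) ∧
    (∀ g ∈ (MulEquiv.toMonoidHom (σ ^ e)).eqLocus (MonoidHom.id X), ∀ g' ∈ (MulEquiv.toMonoidHom (σ ^ e)).eqLocus (MonoidHom.id X), ∀ a b : X,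
        g = a * (σ a)⁻¹ → g' = b * (σ b)⁻¹ →
          ((∃ k ∈ (MulEquiv.toMonoidHom (σ ^ e)).eqLocus (MonoidHom.id X), g' = k * g * (σ k)⁻¹) ↔
            (∃ h ∈ (MulEquiv.toMonoidHom σ).eqLocus (MonoidHom.id X), ((σ ^ e) b)⁻¹ * b = h * (((σ ^ e) a)⁻¹ * a) * h⁻¹))) ∧
    (∀ x ∈ (MulEquiv.toMonoidHom σ).eqLocus (MonoidHom.id X), ∃ g ∈ (MulEquiv.toMonoidHom (σ ^ e)).eqLocus (MonoidHom.id X), ∃ a : X,
        g = a * (σ a)⁻¹ ∧ ((σ ^ e) a)⁻¹ * a = x) := by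
  refine ⟨?_, ?_, ?_⟩
  · intro g hg a ha
    rw [mem_fix] at hg ⊢
    refine ⟨x_fixed σ e g a ha hg, ?_⟩
    rw [prod_eq σ g a ha e]; group
  · intro g hg g' hg' a b ha hb
    rw [mem_fix] at hg hg'
    constructor
    · rintro ⟨k, hk, hgk⟩
      rw [mem_fix] at hk
      -- h = b⁻¹ k a
      have hfix : σ (b⁻¹ * k * a) = b⁻¹ * k * a := by
        rw [map_mul, map_mul, map_inv]
        have h1 : b * (σ b)⁻¹ = k * (a * (σ a)⁻¹) * (σ k)⁻¹ := by rw [← hb, ← ha, hgk]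
        have h2 : (σ b)⁻¹ = b⁻¹ * (k * (a * (σ a)⁻¹) * (σ k)⁻¹) := by
          rw [← h1]; group
        rw [h2]; group
      refine ⟨b⁻¹ * k * a, (mem_fix _ _).mpr hfix, ?_⟩
      have hefix : (σ ^ e) (b⁻¹ * k * a) = b⁻¹ * k * a := pow_fix σ _ hfix e
      rw [map_mul, map_mul, map_inv, hk] at hefix
      have h3 : ((σ ^ e) b)⁻¹ = b⁻¹ * k * a * ((σ ^ e) a)⁻¹ * k⁻¹ := by
        rw [← hefix]; group
      rw [h3]; group
    · rintro ⟨h, hh, hx⟩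
      rw [mem_fix] at hh
      have hhe : (σ ^ e) h = h := pow_fix σ h hh e
      refine ⟨b * h * a⁻¹, ?_, ?_⟩
      · rw [mem_fix, map_mul, map_mul, map_inv, hhe]
        have h1 : (σ ^ e) b = b * h * a⁻¹ * (σ ^ e) a * h⁻¹ := by
          have h2 : ((σ ^ e) b)⁻¹ = h * (((σ ^ e) a)⁻¹ * a) * h⁻¹ * b⁻¹ := by
            rw [← hx]; group
          have h3 : (σ ^ e) b = (((σ ^ e) b)⁻¹)⁻¹ := by rw [inv_inv]
          rw [h3, h2]; group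
        rw [h1]; group
      · rw [map_mul, map_mul, map_inv, hh, ha, hb]; group
  · intro x hx
    rw [mem_fix] at hx
    obtain ⟨c, hc⟩ := hLe x⁻¹
    have hxc : x = (σ ^ e) c * c⁻¹ := by
      have : x = (x⁻¹)⁻¹ := by rw [inv_inv]
      rw [this, hc]; group
    have hxa : ((σ ^ e) c⁻¹)⁻¹ * c⁻¹ = x := by
      rw [map_inv, inv_inv, hxc]
    refine ⟨c⁻¹ * (σ c⁻¹)⁻¹, ?_, c⁻¹, rfl, hxa⟩
    rw [mem_fix]
    apply g_fixed
    rw [hxa, hx]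

end Cfsg.Agent.S2666
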