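import Cfsg.Statements.S2667

set_option autoImplicit false
open scoped Pointwise
open Cfsg

namespace Cfsg.Agent.S2667

theorem mem_fix {X : Type*} [Group X] (τ : MulAut X) (x : X) :
    x ∈ (MulEquiv.toMonoidHom τ).eqLocus (MonoidHom.id X) ↔ τ x = x := Iff.rfl

theorem pow_fix {X : Type*} [Group X] (τ : MulAut X) (x : X) (h : τ x = x) (n : ℕ) : (τ ^ n) x = x := by
  induction n with
  | zero => simp
  | succ n ih => rw [pow_succ, MulAut.mul_apply, h, ih]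

theorem key1 {X : Type*} [Group X] (σ : MulAut X) (g a k : X) (ha : g = a * (σ a)⁻¹) :
    k * g * (σ k)⁻¹ = g ↔ σ (a⁻¹ * k * a) = a⁻¹ * k * a := by
  rw [map_mul, map_mul, map_inv, ha]
  constructor
  · intro h
    have h2 : σ k = (a * (σ a)⁻¹)⁻¹ * k * (a * (σ a)⁻¹) := by
      have h3 : (a * (σ a)⁻¹)⁻¹ * (k * (a * (σ a)⁻¹) * (σ k)⁻¹) * σ k = (a * (σ a)⁻¹)⁻¹ * (a * (σ a)⁻¹) * σ k := by
        rw [h]
      rw [inv_mul_cancel, one_mul] at h3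
      rw [← h3]; group
    rw [h2]; group
  · intro h
    have h2 : σ k = σ a * (a⁻¹ * k * a) * (σ a)⁻¹ := by
      rw [← h]; group
    rw [h2]; group

/-- Shintani descent, centralizers (abstract form). -/
theorem result {X : Type*} [Group X] (σ : MulAut X) (e : ℕ) (he : 1 ≤ e)
    (g : X) (hg : g ∈ (MulEquiv.toMonoidHom (σ ^ e)).eqLocus (MonoidHom.id X)) (a : X) (ha : g = a * (σ a)⁻¹) (k : X) :
    (k ∈ (MulEquiv.toMonoidHom (σ ^ e)).eqLocus (MonoidHom.id X) ∧ k * g * (σ k)⁻¹ = g) ↔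
      (a⁻¹ * k * a ∈ (MulEquiv.toMonoidHom σ).eqLocus (MonoidHom.id X) ∧
        (a⁻¹ * k * a) * (((σ ^ e) a)⁻¹ * a) = (((σ ^ e) a)⁻¹ * a) * (a⁻¹ * k * a)) := by
  rw [mem_fix, mem_fix, key1 σ g a k ha]
  have aux : σ (a⁻¹ * k * a) = a⁻¹ * k * a →
      ((σ ^ e) k = k ↔ (a⁻¹ * k * a) * (((σ ^ e) a)⁻¹ * a) = (((σ ^ e) a)⁻¹ * a) * (a⁻¹ * k * a)) := by
    intro hy
    have hey : (σ ^ e) (a⁻¹ * k * a) = a⁻¹ * k * a := pow_fix σ _ hy e
    rw [map_mul, map_mul, map_inv] at hey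
    have hk : (σ ^ e) k = (σ ^ e) a * (a⁻¹ * k * a) * ((σ ^ e) a)⁻¹ := by
      rw [← hey]; group
    rw [hk]
    constructor
    · intro h
      have : a⁻¹ * k * a * (((σ ^ e) a)⁻¹ * a) = ((σ ^ e) a)⁻¹ * ((σ ^ e) a * (a⁻¹ * k * a) * ((σ ^ e) a)⁻¹) * a := by
        group
      rw [this, h]; group
    · intro h
      have : (σ ^ e) a * (a⁻¹ * k * a) * ((σ ^ e) a)⁻¹ = (σ ^ e) a * ((a⁻¹ * k * a) * (((σ ^ e) a)⁻¹ * a)) * a⁻¹ := by
        group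
      rw [this, h]; group
  constructor
  · rintro ⟨h1, h2⟩
    exact ⟨h2, (aux h2).mp h1⟩
  · rintro ⟨h1, h2⟩
    exact ⟨(aux h1).mpr h2, h1⟩

end Cfsg.Agent.S2667
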