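import Cfsg.Statements.S2669

set_option autoImplicit false
open scoped Pointwise
open Cfsg

namespace Cfsg.Agent.S2669

theorem mem_fix {X : Type*} [Group X] (τ : MulAut X) (x : X) :
    x ∈ (MulEquiv.toMonoidHom τ).eqLocus (MonoidHom.id X) ↔ τ x = x := Iff.rfl

theorem pow_fix {X : Type*} [Group X] (τ : MulAut X) (x : X) (h : τ x = x) (n : ℕ) : (τ ^ n) x = x := by
  induction n with
  | zero => simp
  | succ n ih => rw [pow_succ, MulAut.mul_apply, h, ih]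

theorem pow_mem {X : Type*} [Group X] (σ : MulAut X) (Y : Subgroup X) (hY : ∀ y : X, y ∈ Y ↔ σ y ∈ Y)
    (n : ℕ) (y : X) (hy : y ∈ Y) : (σ ^ n) y ∈ Y := by
  induction n with
  | zero => simpa using hy
  | succ n ih => rw [pow_succ', MulAut.mul_apply]; exact (hY _).mp ih

section
variable {X : Type*} [Group X] (σ : MulAut X) (e : ℕ) (Y : Subgroup X) (hY : ∀ y : X, y ∈ Y ↔ σ y ∈ Y)
  (g a : X) (ha : g = a * (σ a)⁻¹)

include hY ha in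
theorem A_of_T (k h : X) (hh : σ h = h) (hy : k⁻¹ * a * h ∈ Y) : k⁻¹ * g * σ k ∈ Y := by
  have h1 : k⁻¹ * g * σ k = (k⁻¹ * a * h) * (σ (k⁻¹ * a * h))⁻¹ := by
    rw [map_mul, map_mul, map_inv, hh, ha]; group
  rw [h1]
  exact Y.mul_mem hy (Y.inv_mem ((hY _).mp hy))

include hY in
theorem B_of_T (k h : X) (hk : (σ ^ e) k = k) (hh : (σ ^ e) h = h) (hy : k⁻¹ * a * h ∈ Y) :
    h⁻¹ * (((σ ^ e) a)⁻¹ * a) * h ∈ Y := by
  have h1 : h⁻¹ * (((σ ^ e) a)⁻¹ * a) * h = ((σ ^ e) (k⁻¹ * a * h))⁻¹ * (k⁻¹ * a * h) := by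
    rw [map_mul, map_mul, map_inv, hh, hk]; group
  rw [h1]
  exact Y.mul_mem (Y.inv_mem (pow_mem σ Y hY e _ hy)) hy

include ha in
theorem exists_h (hYL : ∀ y ∈ Y, ∃ a ∈ Y, y = a * (σ a)⁻¹) (k : X) (hk : k⁻¹ * g * σ k ∈ Y) :
    ∃ h : X, σ h = h ∧ k⁻¹ * a * h ∈ Y := by
  obtain ⟨y, hyY, hy⟩ := hYL _ hk
  refine ⟨a⁻¹ * k * y, ?_, ?_⟩
  · rw [map_mul, map_mul, map_inv]
    rw [ha] at hy
    have h2 : σ y = (σ k)⁻¹ * σ a * a⁻¹ * k * y := by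
      have h3 : (k⁻¹ * (a * (σ a)⁻¹) * σ k)⁻¹ * (k⁻¹ * (a * (σ a)⁻¹) * σ k) * σ y
          = (k⁻¹ * (a * (σ a)⁻¹) * σ k)⁻¹ * (y * (σ y)⁻¹) * σ y := by rw [hy]
      rw [inv_mul_cancel, one_mul] at h3
      rw [h3]; group
    rw [h2]; group
  · have : k⁻¹ * a * (a⁻¹ * k * y) = y := by group
    rw [this]; exact hyY

theorem exists_k (hYLe : ∀ y ∈ Y, ∃ a ∈ Y, y = a * ((σ ^ e) a)⁻¹) (h : X) (hh : (σ ^ e) h = h)
    (hx : h⁻¹ * (((σ ^ e) a)⁻¹ * a) * h ∈ Y) :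
    ∃ k : X, (σ ^ e) k = k ∧ k⁻¹ * a * h ∈ Y := by
  obtain ⟨c, hcY, hc⟩ := hYLe _ (Y.inv_mem hx)
  refine ⟨a * h * c, ?_, ?_⟩
  · rw [map_mul, map_mul, hh]
    have h2 : (σ ^ e) c = h⁻¹ * ((σ ^ e) a)⁻¹ * a * h * c := by
      have h3 : (σ ^ e) c = (c * ((σ ^ e) c)⁻¹)⁻¹ * c := by group
      rw [h3, ← hc]; group
    rw [h2]; group
  · have : (a * h * c)⁻¹ * a * h = c⁻¹ := by group
    rw [this]; exact Y.inv_mem hcY

end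

/-- Shintani descent preserves numbers of fixed points on coset spaces (abstract form). -/
theorem result {X : Type*} [Group X] (σ : MulAut X) (e : ℕ) (he : 1 ≤ e)
    [Finite ↥((MulEquiv.toMonoidHom (σ ^ e)).eqLocus (MonoidHom.id X))]
    (Y : Subgroup X) (hY : ∀ y : X, y ∈ Y ↔ σ y ∈ Y)
    (hYL : ∀ y ∈ Y, ∃ a ∈ Y, y = a * (σ a)⁻¹) (hYLe : ∀ y ∈ Y, ∃ a ∈ Y, y = a * ((σ ^ e) a)⁻¹)
    (g : X) (hg : g ∈ (MulEquiv.toMonoidHom (σ ^ e)).eqLocus (MonoidHom.id X)) (a : X) (ha : g = a * (σ a)⁻¹) :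
    Nat.card {k : ↥((MulEquiv.toMonoidHom (σ ^ e)).eqLocus (MonoidHom.id X)) // (k : X)⁻¹ * g * σ k ∈ Y} *
        Nat.card ↥(Y ⊓ (MulEquiv.toMonoidHom σ).eqLocus (MonoidHom.id X)) =
      Nat.card {h : ↥((MulEquiv.toMonoidHom σ).eqLocus (MonoidHom.id X)) // (h : X)⁻¹ * (((σ ^ e) a)⁻¹ * a) * h ∈ Y} *
        Nat.card ↥(Y ⊓ (MulEquiv.toMonoidHom (σ ^ e)).eqLocus (MonoidHom.id X)) := by
  classical
  -- X-level versions
  have cA : Nat.card {k : ↥((MulEquiv.toMonoidHom (σ ^ e)).eqLocus (MonoidHom.id X)) // (k : X)⁻¹ * g * σ k ∈ Y}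
      = Nat.card {k : X // (σ ^ e) k = k ∧ k⁻¹ * g * σ k ∈ Y} :=
    Nat.card_congr (Equiv.subtypeSubtypeEquivSubtypeInter
      (fun k : X => k ∈ (MulEquiv.toMonoidHom (σ ^ e)).eqLocus (MonoidHom.id X)) (fun k : X => k⁻¹ * g * σ k ∈ Y))
  have cB : Nat.card {h : ↥((MulEquiv.toMonoidHom σ).eqLocus (MonoidHom.id X)) // (h : X)⁻¹ * (((σ ^ e) a)⁻¹ * a) * h ∈ Y}
      = Nat.card {h : X // σ h = h ∧ h⁻¹ * (((σ ^ e) a)⁻¹ * a) * h ∈ Y} :=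
    Nat.card_congr (Equiv.subtypeSubtypeEquivSubtypeInter
      (fun h : X => h ∈ (MulEquiv.toMonoidHom σ).eqLocus (MonoidHom.id X)) (fun h : X => h⁻¹ * (((σ ^ e) a)⁻¹ * a) * h ∈ Y))
  have cYH : Nat.card ↥(Y ⊓ (MulEquiv.toMonoidHom σ).eqLocus (MonoidHom.id X)) = Nat.card {w : X // w ∈ Y ∧ σ w = w} :=
    Nat.card_congr (Equiv.subtypeEquivRight (fun w => by rw [Subgroup.mem_inf, mem_fix]))
  have cYG : Nat.card ↥(Y ⊓ (MulEquiv.toMonoidHom (σ ^ e)).eqLocus (MonoidHom.id X)) = Nat.card {w : X // w ∈ Y ∧ (σ ^ e) w = w} :=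
    Nat.card_congr (Equiv.subtypeEquivRight (fun w => by rw [Subgroup.mem_inf, mem_fix]))
  rw [cA, cB, cYH, cYG]
  -- the set T
  let T := {p : X × X // (σ ^ e) p.1 = p.1 ∧ σ p.2 = p.2 ∧ p.1⁻¹ * a * p.2 ∈ Y}
  -- choice functions
  have hexh : ∀ k : {k : X // (σ ^ e) k = k ∧ k⁻¹ * g * σ k ∈ Y}, ∃ h : X, σ h = h ∧ (k : X)⁻¹ * a * h ∈ Y :=
    fun k => exists_h σ Y g a ha hYL k k.2.2
  have hexk : ∀ h : {h : X // σ h = h ∧ h⁻¹ * (((σ ^ e) a)⁻¹ * a) * h ∈ Y}, ∃ k : X, (σ ^ e) k = k ∧ k⁻¹ * a * (h : X) ∈ Y :=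
    fun h => exists_k σ e Y a hYLe h (pow_fix σ _ h.2.1 e) h.2.2
  choose h0 hh0 hh0Y using hexh
  choose k0 hk0 hk0Y using hexk
  have e1 : T ≃ {k : X // (σ ^ e) k = k ∧ k⁻¹ * g * σ k ∈ Y} × {w : X // w ∈ Y ∧ σ w = w} :=
  { toFun := fun t =>
      (⟨t.1.1, t.2.1, A_of_T σ Y hY g a ha t.1.1 t.1.2 t.2.2.1 t.2.2.2⟩,
       ⟨(h0 ⟨t.1.1, t.2.1, A_of_T σ Y hY g a ha t.1.1 t.1.2 t.2.2.1 t.2.2.2⟩)⁻¹ * t.1.2, by
          constructor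
          · have h1 := hh0Y ⟨t.1.1, t.2.1, A_of_T σ Y hY g a ha t.1.1 t.1.2 t.2.2.1 t.2.2.2⟩
            have h2 := t.2.2.2
            have : (h0 ⟨t.1.1, t.2.1, A_of_T σ Y hY g a ha t.1.1 t.1.2 t.2.2.1 t.2.2.2⟩)⁻¹ * t.1.2
                = (t.1.1⁻¹ * a * h0 ⟨t.1.1, t.2.1, A_of_T σ Y hY g a ha t.1.1 t.1.2 t.2.2.1 t.2.2.2⟩)⁻¹ * (t.1.1⁻¹ * a * t.1.2) := by group
            rw [this]
            exact Y.mul_mem (Y.inv_mem h1) h2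
          · rw [map_mul, map_inv, hh0]; exact congrArg _ t.2.2.1⟩)
    invFun := fun q => ⟨(q.1.1, h0 q.1 * q.2.1), q.1.2.1, by
        show σ (h0 q.1 * q.2.1) = h0 q.1 * q.2.1
        rw [map_mul, hh0, q.2.2.2], by
        show (q.1.1)⁻¹ * a * (h0 q.1 * q.2.1) ∈ Y
        have : (q.1.1)⁻¹ * a * (h0 q.1 * q.2.1) = ((q.1.1)⁻¹ * a * h0 q.1) * q.2.1 := by group
        rw [this]
        exact Y.mul_mem (hh0Y q.1) q.2.2.1⟩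
    left_inv := by
      intro t
      apply Subtype.ext
      apply Prod.ext
      · rfl
      · simp
    right_inv := by
      intro q
      apply Prod.ext
      · rfl
      · apply Subtype.ext
        simp }
  have e2 : T ≃ {h : X // σ h = h ∧ h⁻¹ * (((σ ^ e) a)⁻¹ * a) * h ∈ Y} × {w : X // w ∈ Y ∧ (σ ^ e) w = w} :=
  { toFun := fun t =>
      (⟨t.1.2, t.2.2.1, B_of_T σ e Y hY a t.1.1 t.1.2 t.2.1 (pow_fix σ _ t.2.2.1 e) t.2.2.2⟩,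
       ⟨(k0 ⟨t.1.2, t.2.2.1, B_of_T σ e Y hY a t.1.1 t.1.2 t.2.1 (pow_fix σ _ t.2.2.1 e) t.2.2.2⟩)⁻¹ * t.1.1, by
          constructor
          · have h1 := hk0Y ⟨t.1.2, t.2.2.1, B_of_T σ e Y hY a t.1.1 t.1.2 t.2.1 (pow_fix σ _ t.2.2.1 e) t.2.2.2⟩
            have h2 := t.2.2.2
            have : (k0 ⟨t.1.2, t.2.2.1, B_of_T σ e Y hY a t.1.1 t.1.2 t.2.1 (pow_fix σ _ t.2.2.1 e) t.2.2.2⟩)⁻¹ * t.1.1
                = ((k0 ⟨t.1.2, t.2.2.1, B_of_T σ e Y hY a t.1.1 t.1.2 t.2.1 (pow_fix σ _ t.2.2.1 e) t.2.2.2⟩)⁻¹ * a * t.1.2) * (t.1.1⁻¹ * a * t.1.2)⁻¹ := by group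
            rw [this]
            exact Y.mul_mem h1 (Y.inv_mem h2)
          · rw [map_mul, map_inv, hk0]; exact congrArg _ t.2.1⟩)
    invFun := fun q => ⟨(k0 q.1 * q.2.1, q.1.1), by
        show (σ ^ e) (k0 q.1 * q.2.1) = k0 q.1 * q.2.1
        rw [map_mul, hk0, q.2.2.2], q.1.2.1, by
        show (k0 q.1 * q.2.1)⁻¹ * a * q.1.1 ∈ Y
        have : (k0 q.1 * q.2.1)⁻¹ * a * q.1.1 = (q.2.1)⁻¹ * ((k0 q.1)⁻¹ * a * q.1.1) := by group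
        rw [this]
        exact Y.mul_mem (Y.inv_mem q.2.2.1) (hk0Y q.1)⟩
    left_inv := by
      intro t
      apply Subtype.ext
      apply Prod.ext
      · simp
      · rfl
    right_inv := by
      intro q
      apply Prod.ext
      · rfl
      · apply Subtype.ext
        simp }
  rw [← Nat.card_prod, ← Nat.card_prod]
  exact (Nat.card_congr e1).symm.trans (Nat.card_congr e2)

end Cfsg.Agent.S2669
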