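import Cfsg.Statements.S2670
import Cfsg.Agent.Lib_helper15_S2670c
import Cfsg.Agent.Lib_helper7_S2670t
import Cfsg.Agent.Lib_helper3_S2670t
import Cfsg.Agent.Lib_helper16_S2670t
import Cfsg.Agent.Lib_helper19_S2670t

set_option autoImplicit false
open Cfsg

namespace Cfsg.Agent.S2670

open Polynomial

/-- Number of conjugacy classes of elements of prime order r in PGL_n(q) = GL_n(q)/scalars when r divides q − 1 (n ≥ 2): the classes of elements with a diagonalisable lift correspond to the orbits of the cyclic rotation on the r-tuples of eigenvalue multiplicities (a_0, …, a_(r−1)) summing to n with every a_j < n, and when r divides n there are r − 1 further classes (lifts acting irreducibly on blocks of size r); in all (C(n+r−1, r−1) − r − [r ∣ n])/r + r·[r ∣ n] classes. -/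
theorem result {F : Type*} [Field F] [Fintype F] {q : ℕ} (hF : Fintype.card F = q) {n r : ℕ} (hn : 2 ≤ n) (hr : r.Prime) (hrq : r ∣ q - 1) : Nat.card {C : ConjClasses (GL (Fin n) F ⧸ Subgroup.center (GL (Fin n) F)) // ∃ g : GL (Fin n) F ⧸ Subgroup.center (GL (Fin n) F), ConjClasses.mk g = C ∧ orderOf g = r} = (Nat.choose (n + r - 1) (r - 1) - r - (if r ∣ n then 1 else 0)) / r + r * (if r ∣ n then 1 else 0) := by
  subst hF
  obtain ⟨p, hp⟩ := CharP.exists F
  haveI := hp
  haveI : Fact p.Prime := ⟨CharP.char_is_prime F p⟩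
  haveI : NeZero n := ⟨by omega⟩
  have hn1 : 1 ≤ n := by omega
  rw [Cfsg.Agent.helper15.S2670c.classCount p n r hr hrq]
  exact Cfsg.Agent.helper15.S2670p.polyCount n r hn1 hr hrq
    (fun μ hμ hμ1 => Cfsg.Agent.helper7.S2670t.pieceT1 n r hn1 hr hrq μ hμ hμ1)
    (fun ν hν => Cfsg.Agent.helper3.S2670t.pieceT2 n r hn1 hr ν hν)
    (Cfsg.Agent.helper16.S2670t.pieceT3 n r hn1 hr hrq)
    (fun c hc0 hc => Cfsg.Agent.helper19.S2670t.pieceT4 n r hn1 hr c hc0 hc)
    (fun orb X q1 R N1 C r e => Cfsg.Agent.helper19.S2670t.pieceT6 orb X q1 R N1 C r e)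

end Cfsg.Agent.S2670
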