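import Cfsg.Statements.S2671
import Mathlib
import Cfsg.Agent.Lib_helper11_S2671i
import Cfsg.Agent.Lib_helper20_S2671x
import Cfsg.Agent.Lib_helper15_S2671x
import Cfsg.Agent.Lib_helper6_S2671x
import Cfsg.Agent.Lib_helper14_PsuG
import Cfsg.Agent.Lib_helper11_S2645a
import Cfsg.Agent.Lib_helper26_S2645x
import Cfsg.Agent.Lib_helper26_S2645y

set_option autoImplicit false
open Cfsg

namespace Cfsg.Agent.S2671

open Polynomial

theorem monic_irr_dvd_eq' {F : Type*} [Field F] (a b : F[X]) (ha : a.Monic) (hb : b.Monic)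
    (hai : Irreducible a) (hbi : Irreducible b) (h : a ∣ b) : a = b := by
  have h1 : Associated a b := by
    rcases h with ⟨c, hc⟩
    rcases hbi.isUnit_or_isUnit hc with hu | hu
    · exact absurd hu hai.not_isUnit
    · exact ⟨hu.unit, by rw [IsUnit.unit_spec, ← hc]⟩
  exact eq_of_monic_of_associated ha hb h1

/-- Number of conjugacy classes of elements of odd prime order r in the general unitary group GU_n(q), for r not dividing q(q + 1): let i be the multiplicative order of q modulo r, b = i if i is odd and b = i/2 if i is even, and s = (r − 1)/b. If i ≢ 2 (mod 4) the eigenvalue orbits pair off into dual pairs of totally isotropic blocks and there are C(⌊n/(2b)⌋ + s/2, s/2) − 1 classes; if i ≡ 2 (mod 4) each orbit gives a non-degenerate block of dimension i/2 and there are C(⌊2n/i⌋ + s, s) − 1 classes. -/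
theorem result {K : Type*} [Field K] [Fintype K] {p q n r i b s : ℕ} [Fact p.Prime] [CharP K p] (hK : Fintype.card K = q ^ 2) (hr : r.Prime) (hr2 : r ≠ 2) (hrp : r ≠ p) (hi : i = orderOf (q : ZMod r)) (hi2 : i ≠ 2) (hb : b = if Odd i then i else i / 2) (hs : s * b = r - 1) : Nat.card {C : ConjClasses ↥(Cfsg.GU n K q) // ∃ g : ↥(Cfsg.GU n K q), ConjClasses.mk g = C ∧ orderOf g = r} = if i % 4 = 2 then Nat.choose (2 * n / i + s) s - 1 else Nat.choose (n / (2 * b) + s / 2) (s / 2) - 1 := by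
  classical
  have hrK : (r : K) ≠ 0 := by
    intro h0
    rw [CharP.cast_eq_zero_iff K p] at h0
    exact hrp ((Nat.prime_dvd_prime_iff_eq Fact.out hr).mp h0).symm
  have hbpos : 0 < b := by
    rcases Nat.eq_zero_or_pos b with h | h
    · rw [h, mul_zero] at hs
      have := hr.two_le
      omega
    · exact h
  obtain ⟨σ, hσq⟩ := Cfsg.Agent.helper14.PsuAut.exists_frob hK
  have hσσ : ∀ a, σ (σ a) = a := Cfsg.Agent.helper14.PsuAut.frob_inv hK σ hσq
  -- the degree of the irreducible factors over K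
  have hdeg : orderOf ((Fintype.card K : ℕ) : ZMod r) = b := by
    rw [hK, Nat.cast_pow, orderOf_pow' _ two_ne_zero, ← hi, hb]
    by_cases hodd : Odd i
    · rw [if_pos hodd]
      have : Nat.gcd i 2 = 1 := Nat.coprime_two_right.mpr hodd
      rw [this, Nat.div_one]
    · rw [if_neg hodd]
      have heven : Even i := Nat.not_odd_iff_even.mp hodd
      have : Nat.gcd i 2 = 2 := Nat.gcd_eq_right heven.two_dvd
      rw [this]
  obtain ⟨S, hS, hX, hprod, hcard⟩ := Cfsg.Agent.helper11.S2645a.pieceA (F := K) r hr hrK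
  rw [hdeg] at hS hcard
  have hSs : S.card = s := Nat.eq_of_mul_eq_mul_right hbpos (hcard.trans hs.symm)
  have hSdvd : ∀ g ∈ S, g ∣ (X ^ r - 1 : K[X]) := by
    intro g hg
    rw [hprod]
    exact Dvd.dvd.mul_left (Finset.dvd_prod_of_mem _ hg) _
  have hSne : ∀ g ∈ S, g ≠ (X - 1 : K[X]) := by
    intro g hg h
    exact hX (h ▸ hg)
  have hB := fun g (hg : g ∈ S) => Cfsg.Agent.helper6.S2671x.pieceBu hK σ hσq r hr hr2 hrK g
    (hS g hg).1 (hS g hg).2.1 (hSdvd g hg) (hSne g hg)
  rw [← hi] at hB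
  have hX1 : (X - 1 : K[X]) = X - C 1 := by rw [map_one]
  have hrec : ∀ g ∈ S, (C (g.coeff 0)⁻¹ * g.reverse).map (σ : K →+* K) ∈ S := by
    intro g hg
    obtain ⟨-, hmon, hirr, hdvd, hne, -, -, -⟩ := hB g hg
    rw [hprod] at hdvd
    rcases (hirr.prime.dvd_mul).mp hdvd with h | h
    · exfalso
      apply hne
      apply monic_irr_dvd_eq' _ _ hmon _ hirr _ h
      · rw [hX1]; exact monic_X_sub_C 1
      · rw [hX1]; exact irreducible_X_sub_C 1
    · obtain ⟨g', hg', hdvd'⟩ := Prime.exists_mem_finset_dvd hirr.prime h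
      have := monic_irr_dvd_eq' _ _ hmon (hS g' hg').1 hirr (hS g' hg').2.1 hdvd'
      rw [this]
      exact hg'
  have hinv : ∀ g ∈ S, (C (((C (g.coeff 0)⁻¹ * g.reverse).map (σ : K →+* K)).coeff 0)⁻¹ *
      ((C (g.coeff 0)⁻¹ * g.reverse).map (σ : K →+* K)).reverse).map (σ : K →+* K) = g :=
    fun g hg => (hB g hg).2.2.2.2.2.1
  obtain ⟨hC1a, hC1b, hC1c⟩ := Cfsg.Agent.helper20.S2671x.pieceC1n (F := K) r n b hbpos S hS hX hprod
  have hC2 := Cfsg.Agent.helper15.S2671x.pieceC2u (K := K) σ hσσ r n b hr hr2 hbpos S hS hX hprod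
    hrec hinv
  have hI := Cfsg.Agent.helper11.S2671i.pieceIu (K := K) hK σ hσq p n r hr hrp
  have hPM : Nat.card {f : K[X] // f.Monic ∧ f.natDegree = n ∧
      (∀ k, k ≤ n → f.coeff (n - k) = f.coeff 0 * σ (f.coeff k)) ∧ f ∣ (X ^ r - 1) ^ n} =
      Nat.card {M : Multiset K[X] // (∀ g ∈ M, g ∈ S) ∧
        M.map (fun g => (C (g.coeff 0)⁻¹ * g.reverse).map (σ : K →+* K)) = M ∧
        b * Multiset.card M ≤ n} := by
    symm
    apply Nat.card_congr
    refine Equiv.ofBijective (fun M => ⟨(X - 1) ^ (n - b * Multiset.card M.1) * M.1.prod,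
      (hC1a M.1 M.2.1 M.2.2.2).1, (hC1a M.1 M.2.1 M.2.2.2).2.1,
      (hC2 M.1 M.2.1 M.2.2.2).mpr M.2.2.1, (hC1a M.1 M.2.1 M.2.2.2).2.2⟩) ⟨?_, ?_⟩
    · intro M M' h
      apply Subtype.ext
      exact hC1b M.1 M'.1 M.2.1 M'.2.1 M.2.2.2 M'.2.2.2 (congrArg Subtype.val h)
    · rintro ⟨f, hfm, hfd, hfp, hfdvd⟩
      obtain ⟨M, hMS, hMi, hfM⟩ := hC1c f hfm hfd hfdvd
      refine ⟨⟨M, hMS, ?_, hMi⟩, ?_⟩
      · apply (hC2 M hMS hMi).mp
        rw [← hfM]
        exact hfp
      · apply Subtype.ext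
        exact hfM.symm
  have hcount : Nat.card {M : Multiset K[X] // (∀ g ∈ M, g ∈ S) ∧
      M.map (fun g => (C (g.coeff 0)⁻¹ * g.reverse).map (σ : K →+* K)) = M ∧
      b * Multiset.card M ≤ n} =
      if i % 4 = 2 then Nat.choose (2 * n / i + s) s else Nat.choose (n / (2 * b) + s / 2) (s / 2) := by
    have hle : ∀ M : Multiset K[X], b * Multiset.card M ≤ n ↔ Multiset.card M ≤ n / b := by
      intro M
      rw [Nat.le_div_iff_mul_le hbpos, mul_comm]
    by_cases h4 : i % 4 = 2
    · rw [if_pos h4]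
      have hfixall : ∀ g ∈ S, (C (g.coeff 0)⁻¹ * g.reverse).map (σ : K →+* K) = g :=
        fun g hg => (hB g hg).2.2.2.2.2.2.1 h4
      have h1 : Nat.card {M : Multiset K[X] // (∀ g ∈ M, g ∈ S) ∧
          M.map (fun g => (C (g.coeff 0)⁻¹ * g.reverse).map (σ : K →+* K)) = M ∧
          b * Multiset.card M ≤ n} =
          Nat.card {M : Multiset K[X] // (∀ g ∈ M, g ∈ S) ∧ Multiset.card M ≤ n / b} := by
        apply Nat.card_congr
        apply Equiv.subtypeEquivRight
        intro M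
        constructor
        · rintro ⟨h1, -, h3⟩
          exact ⟨h1, (hle M).mp h3⟩
        · rintro ⟨h1, h3⟩
          refine ⟨h1, ?_, (hle M).mpr h3⟩
          have : M.map (fun g => (C (g.coeff 0)⁻¹ * g.reverse).map (σ : K →+* K)) =
              M.map (fun g => g) :=
            Multiset.map_congr rfl (fun g hg => hfixall g (h1 g hg))
          rw [this, Multiset.map_id']
      rw [h1, Cfsg.Agent.helper26.S2645x.pieceD1 S, hSs]
      have hnotodd : ¬ Odd i := by
        rw [Nat.odd_iff]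
        omega
      have hb2 : i = 2 * b := by
        rw [hb, if_neg hnotodd]
        omega
      have h2 : n / b = 2 * n / i := by
        rw [hb2, Nat.mul_div_mul_left _ _ two_pos]
      rw [h2]
    · rw [if_neg h4]
      have hfix : ∀ g ∈ S, (C (g.coeff 0)⁻¹ * g.reverse).map (σ : K →+* K) ≠ g :=
        fun g hg => (hB g hg).2.2.2.2.2.2.2 h4
      have h1 : Nat.card {M : Multiset K[X] // (∀ g ∈ M, g ∈ S) ∧
          M.map (fun g => (C (g.coeff 0)⁻¹ * g.reverse).map (σ : K →+* K)) = M ∧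
          b * Multiset.card M ≤ n} =
          Nat.card {M : Multiset K[X] // (∀ g ∈ M, g ∈ S) ∧
          M.map (fun g => (C (g.coeff 0)⁻¹ * g.reverse).map (σ : K →+* K)) = M ∧
          Multiset.card M ≤ n / b} := by
        apply Nat.card_congr
        apply Equiv.subtypeEquivRight
        intro M
        rw [hle]
      rw [h1, Cfsg.Agent.helper26.S2645x.pieceD2 S
        (fun g => (C (g.coeff 0)⁻¹ * g.reverse).map (σ : K →+* K)) hrec hinv hfix, hSs]
      have h2 : n / b / 2 = n / (2 * b) := by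
        rw [Nat.div_div_eq_div_mul, mul_comm]
      rw [h2]
  rw [hPM, hcount] at hI
  by_cases h4 : i % 4 = 2
  · rw [if_pos h4] at hI ⊢
    omega
  · rw [if_neg h4] at hI ⊢
    omega

end Cfsg.Agent.S2671
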