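import Cfsg.Statements.S2672
import Mathlib
import Cfsg.Agent.Lib_helper11_S2672g
import Cfsg.Agent.Lib_helper11_S2672h
import Cfsg.Agent.Lib_helper8_S2672x
import Cfsg.Agent.Lib_helper6_S2672x
import Cfsg.Agent.Lib_helper6_S2672y
import Cfsg.Agent.Lib_helper26_S2672u
import Cfsg.Agent.Lib_helper24_S2672x
import Cfsg.Agent.Lib_helper7_S2672x
import Cfsg.Agent.Lib_helper7_S2672p
import Cfsg.Agent.Lib_helper17_S2672x

set_option autoImplicit false
open Cfsg

namespace Cfsg.Agent.S2672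

open Polynomial Cfsg.Agent.helper11.S2672g

/-- Number of conjugacy classes of elements of odd prime order r in PGU_n(q) = GU_n(q)/scalars (n ≥ 3) when r divides q + 1: as in the linear case with q − 1 replaced by q + 1, the classes correspond to the rotation orbits on r-tuples of eigenvalue multiplicities summing to n with every entry < n, plus r − 1 further classes when r divides n; in all (C(n+r−1, r−1) − r − [r ∣ n])/r + r·[r ∣ n]. -/
theorem result {K : Type*} [Field K] [Fintype K] {q n r : ℕ} (hK : Fintype.card K = q ^ 2) (hn : 3 ≤ n) (hr : r.Prime) (hr2 : r ≠ 2) (hrq : r ∣ q + 1) : Nat.card {C : ConjClasses (↥(Cfsg.GU n K q) ⧸ Subgroup.center ↥(Cfsg.GU n K q)) // ∃ g : ↥(Cfsg.GU n K q) ⧸ Subgroup.center ↥(Cfsg.GU n K q), ConjClasses.mk g = C ∧ orderOf g = r} = (Nat.choose (n + r - 1) (r - 1) - r - (if r ∣ n then 1 else 0)) / r + r * (if r ∣ n then 1 else 0) := by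
  classical
  obtain ⟨p, hpc⟩ := CharP.exists K
  haveI := hpc
  haveI : Fact p.Prime := ⟨CharP.char_is_prime K p⟩
  obtain ⟨σ, hσq⟩ := Cfsg.Agent.helper14.PsuAut.exists_frob hK
  have hn1 : 1 ≤ n := by omega
  have hn2 : 2 ≤ n := by omega
  obtain ⟨e, he⟩ := Cfsg.Agent.helper8.S2672x.pieceP2 (K := K) (q := q) (n := n) hK hn2
  obtain ⟨hU, hcardU, hcardPow, hsub, hcardRoots, hrK1, hrK⟩ :=
    Cfsg.Agent.helper17.S2672x.pieceP4a3 (K := K) hK hr hr2 hrq
  -- the predicate P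
  set P : K[X] → Prop := fun f => f.Monic ∧ f.natDegree = n ∧
      (∃ c : K, c ^ (q + 1) = 1 ∧ f ∣ (X ^ r - C c) ^ n) ∧ ¬ ∃ a : K, f = (X - C a) ^ n with hPdef
  -- Burnside
  have hL1 := Cfsg.Agent.helper7.S2672x.pieceL1 (G := ↥(Cfsg.GU n K q)) (X := K[X]) r hr
    (fun z f => C ((e z : K) ^ n) * f.comp (C (e z : K)⁻¹ * X))
    (by
      intro f
      show C ((e 1 : K) ^ n) * f.comp (C (e 1 : K)⁻¹ * X) = f
      rw [e_one hn1 e he]
      exact (Cfsg.Agent.helper9.S2670x.pieceS2b n f).1)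
    (by
      intro z w f
      show C ((e (z * w) : K) ^ n) * f.comp (C (e (z * w) : K)⁻¹ * X) =
        C ((e z : K) ^ n) * (C ((e w : K) ^ n) * f.comp (C (e w : K)⁻¹ * X)).comp
          (C (e z : K)⁻¹ * X)
      rw [e_mul hn1 e he]
      exact (Cfsg.Agent.helper9.S2670x.pieceS2b n f).2 _ _ (e_ne_zero e z) (e_ne_zero e w))
    (fun g => ((g : GL (Fin n) K) : Matrix (Fin n) (Fin n) K).charpoly)
    (fun z g => charpoly_center_mul e he z g)
    (fun g h hg hh => conj_iff hK p r hrq e he g h hg hh)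
  -- identification of the image
  have hPiff : ∀ f : K[X], (∃ g : ↥(Cfsg.GU n K q), g ^ r ∈ Subgroup.center ↥(Cfsg.GU n K q) ∧
      g ∉ Subgroup.center ↥(Cfsg.GU n K q) ∧
      ((g : GL (Fin n) K) : Matrix (Fin n) (Fin n) K).charpoly = f) ↔ P f := by
    intro f
    constructor
    · rintro ⟨g, hg, hgn, rfl⟩
      obtain ⟨h1, h2⟩ := charpoly_mem_P hK p r hrq e he g hg hgn
      refine ⟨Matrix.charpoly_monic _, ?_, h1, h2⟩
      rw [Matrix.charpoly_natDegree_eq_dim, Fintype.card_fin]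
    · rintro ⟨hm, hd, ⟨c, hc, hdiv⟩, hns⟩
      exact exists_of_mem_P hK p σ hσq r e he f hm hd
        (Cfsg.Agent.helper26.S2672u.pieceU1 hK σ hσq n r hr hrq hU f hm hd c hc hdiv) c hdiv hns
  -- the fixed point counts
  set Fx : {μ : K // μ ^ (q + 1) = 1} → ℕ := fun μ =>
    Nat.card {f : K[X] // P f ∧ C ((μ : K) ^ n) * f.comp (C (μ : K)⁻¹ * X) = f} with hFx
  have hsum1 : (∑ᶠ z : ↥(Subgroup.center ↥(Cfsg.GU n K q)), Nat.card {x : K[X] //
      (∃ g : ↥(Cfsg.GU n K q), g ^ r ∈ Subgroup.center ↥(Cfsg.GU n K q) ∧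
        g ∉ Subgroup.center ↥(Cfsg.GU n K q) ∧
        ((g : GL (Fin n) K) : Matrix (Fin n) (Fin n) K).charpoly = x) ∧
      C ((e z : K) ^ n) * x.comp (C (e z : K)⁻¹ * X) = x}) = ∑ᶠ μ, Fx μ := by
    rw [← finsum_comp_equiv e]
    apply finsum_congr
    intro z
    exact Nat.card_congr (Equiv.subtypeEquivRight (fun x => and_congr (hPiff x) Iff.rfl))
  rw [hsum1] at hL1
  -- sizes
  set e' : ℕ := (if r ∣ n then 1 else 0) with he'
  obtain ⟨m, hm⟩ : ∃ m : ℕ, m = Nat.card {c : K // c ^ (q + 1) = 1 ∧ ∃ b : K, b ^ r = c} := ⟨_, rfl⟩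
  rw [← hm] at hcardPow
  have hT : Nat.card {f : K[X] // P f} =
      m * (Nat.choose (n + r - 1) (r - 1) - r) + (q + 1 - m) * e' := by
    apply Cfsg.Agent.helper6.S2672y.pieceP4a4 (K := K) (q := q) n r hn2 hr _ _ m hcardU hm.symm
    · intro c hc hex
      obtain ⟨b, hb, rfl⟩ := hU c hc hex
      have hb0 : b ≠ 0 := by
        intro h0
        rw [h0, zero_pow (by omega)] at hb
        exact zero_ne_one hb
      exact Cfsg.Agent.helper11.S2672h.pieceP4a1 n r hn2 hr hrK1 b hb0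
    · intro c hc hnex
      exact Cfsg.Agent.helper6.S2672x.pieceP4a2 n r hn2 hr c (fun b hb => hnex ⟨b, hb⟩)
  have hsum2 := Cfsg.Agent.helper6.S2672y.pieceP5 (K := K) (q := q) (r := r) (Nat.card {f : K[X] // P f})
    ((q + 1) * e') hsub hcardRoots Fx
    (by
      intro μ hμ
      show Nat.card {f : K[X] // P f ∧ C ((μ : K) ^ n) * f.comp (C (μ : K)⁻¹ * X) = f} = _
      apply Nat.card_congr
      apply Equiv.subtypeEquivRight
      intro f
      rw [hμ]
      constructor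
      · exact fun h => h.1
      · exact fun h => ⟨h, (Cfsg.Agent.helper9.S2670x.pieceS2b n f).1⟩)
    (by
      intro μ hμ hμ1
      exact Cfsg.Agent.helper24.S2672x.pieceP4b (K := K) (q := q) n r hn2 hr hrK hcardU (μ : K) hμ hμ1)
    (by
      intro μ hμ
      show Nat.card {f : K[X] // P f ∧ C ((μ : K) ^ n) * f.comp (C (μ : K)⁻¹ * X) = f} = 0
      haveI : IsEmpty {f : K[X] // P f ∧ C ((μ : K) ^ n) * f.comp (C (μ : K)⁻¹ * X) = f} := by
        constructor
        rintro ⟨f, ⟨hfm, hfd, ⟨c, hc, hdiv⟩, -⟩, hfix⟩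
        have hμ0 : (μ : K) ≠ 0 := by
          intro h0
          have := μ.2
          rw [h0, zero_pow (by omega)] at this
          exact zero_ne_one this
        exact Cfsg.Agent.helper6.S2672x.pieceP4c (K := K) (q := q) n r hn1 hr.one_lt.le (μ : K) hμ0 hμ f hfm hfd
          c hc hdiv hfix
      exact Nat.card_of_isEmpty)
  rw [hsum2, hT] at hL1
  have hcz : Nat.card ↥(Subgroup.center ↥(Cfsg.GU n K q)) = q + 1 := by
    rw [Nat.card_congr e, hcardU]
  rw [hcz] at hL1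
  have hmpos : 0 < m := by
    rcases Nat.eq_zero_or_pos m with h0 | h0
    · rw [h0, zero_mul] at hcardPow
      omega
    · exact h0
  have he1 : e' ≤ 1 := by
    rw [he']
    split_ifs <;> omega
  have hCh := Cfsg.Agent.helper7.S2672p.pieceP7 n r hn2 hr.two_le
  exact Cfsg.Agent.helper6.S2672x.pieceP6 _ m r _ e' (q + 1) hmpos hr.two_le he1 (by omega) hcardPow hL1

end Cfsg.Agent.S2672
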