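import Cfsg.Statements.S2677
import Cfsg.Agent.Lib_helper13_GUField2

set_option autoImplicit false
open Cfsg

namespace Cfsg.Agent.S2677

open Matrix Cfsg.Agent.S2636 Cfsg.Agent.helper11.HermCount Cfsg.Agent.helper13

theorem gu_card_int (q₀ n : ℕ) (h1 : 1 ≤ q₀) :
    (((q₀ ^ (n * (n - 1) / 2) * ∏ i ∈ Finset.range n,
      (if Even i then q₀ ^ (i + 1) + 1 else q₀ ^ (i + 1) - 1) : ℕ)) : ℤ) =
      (q₀ : ℤ) ^ (n * (n - 1) / 2) *
        ∏ i : Fin n, ((q₀ : ℤ) ^ ((i : ℕ) + 1) - (-1) ^ ((i : ℕ) + 1)) := by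
  rw [Nat.cast_mul, Nat.cast_pow, Nat.cast_prod, ← Finset.prod_range
    (fun i => ((q₀ : ℤ) ^ (i + 1) - (-1) ^ (i + 1)))]
  congr 1
  apply Finset.prod_congr rfl
  intro i _
  have hpos : 1 ≤ q₀ ^ (i + 1) := Nat.one_le_pow _ _ h1
  split_ifs with hi
  · rw [(hi.add_one).neg_one_pow]
    push_cast
    ring
  · have he : Even (i + 1) := by
      rw [Nat.even_add_one]
      exact hi
    rw [he.neg_one_pow]
    push_cast [Nat.cast_sub hpos]
    ring


/-- Centraliser of a field automorphism of odd prime order in PGU_n(q): let q = q₀^r with r an odd prime, K the field with q² elements and σ a field automorphism of K of order r (fixed field of order q₀²). The elements g of GU_n(q) whose entrywise image under σ is a scalar multiple of g — those whose coset modulo the q + 1 unitary scalars is fixed by σ — number (q + 1)/(q₀ + 1) · |GU_n(q₀)|; equivalently the centraliser in PGU_n(q) of the induced automorphism has the order of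 PGU_n(q₀). -/
theorem result {K : Type*} [Field K] [Fintype K] {q₀ q r n : ℕ} (hr : r.Prime) (hr2 : r ≠ 2) (hn : 1 ≤ n) (hq : q = q₀ ^ r) (hK : Fintype.card K = q ^ 2) (σ : K ≃+* K) (hσ : orderOf σ = r) : (Nat.card {g : ↥(Cfsg.GU n K q) // ∃ c : K, c ≠ 0 ∧ ((g : GL (Fin n) K) : Matrix (Fin n) (Fin n) K).map σ = c • ((g : GL (Fin n) K) : Matrix (Fin n) (Fin n) K)} : ℤ) = ((q + 1) / (q₀ + 1) : ℕ) * ((q₀ : ℤ) ^ (n * (n - 1) / 2) * ∏ i : Fin n, ((q₀ : ℤ) ^ ((i : ℕ) + 1) - (-1) ^ ((i : ℕ) + 1))) := by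
  classical
  have hrodd : Odd r := hr.odd_of_ne_two hr2
  have hF' : Fintype.card K = (q₀ ^ 2) ^ r := by
    rw [hK, hq, ← pow_mul, ← pow_mul, mul_comm]
  have hq0 : Nat.card (fixF σ) = q₀ ^ 2 := card_fixF σ hr hF' hσ
  haveI : Fintype ↥(fixF σ) := Fintype.ofFinite _
  have hK₀ : Fintype.card ↥(fixF σ) = q₀ ^ 2 := by
    rw [← Nat.card_eq_fintype_card]
    exact hq0
  have h2q₀ := two_le_q hK₀
  have h2q := two_le_q hK
  have hfr : ∀ x : ↥(fixF σ), ((fixF σ).subtype x) ^ q = (fixF σ).subtype (x ^ q₀) := by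
    intro x
    rw [← map_pow, hq, frob_sub hK₀ hrodd x]
  -- the set in question is the range of the restricted homomorphism
  obtain ⟨ψ', hψ'⟩ : ∃ ψ' : ↥(guP σ n q₀ q) →* GL (Fin n) K,
      ψ' = (psi σ n).comp (guP σ n q₀ q).subtype := ⟨_, rfl⟩
  have hcardS : Nat.card {g : ↥(Cfsg.GU n K q) // ∃ c : K, c ≠ 0 ∧
      ((g : GL (Fin n) K) : Matrix (Fin n) (Fin n) K).map σ =
        c • ((g : GL (Fin n) K) : Matrix (Fin n) (Fin n) K)} = Nat.card ψ'.range := by
    apply Nat.card_congr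
    refine
      { toFun := fun g => ⟨g.1.1, ?_⟩
        invFun := fun x => ⟨⟨x.1, ?_⟩, ?_⟩
        left_inv := fun g => rfl
        right_inv := fun x => rfl }
    · obtain ⟨p, hp⟩ := (mem_range_iff σ hn g.1.1).mpr g.2
      obtain ⟨p', hp'mem, hp'⟩ := exists_preimage σ hn hK hK₀ hfr p (by rw [hp]; exact g.1.2)
      exact ⟨⟨p', hp'mem⟩, by rw [hψ']; exact hp'.trans hp⟩
    · obtain ⟨y, hy⟩ := x.2
      rw [← hy, hψ']
      exact psi_mem_GU σ hK hK₀ hfr y.1 y.2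
    · obtain ⟨y, hy⟩ := x.2
      apply (mem_range_iff σ hn x.1).mp
      exact ⟨y.1, by rw [← hy, hψ']; rfl⟩
  have hkerc : Nat.card ψ'.ker = q₀ + 1 := by
    rw [hψ']
    exact card_ker_guP σ hn hK₀ hfr
  have hPc : Nat.card ↥(guP σ n q₀ q) = (q + 1) * Nat.card (Cfsg.GU n ↥(fixF σ) q₀) := by
    unfold guP
    rw [Nat.card_congr (Subgroup.prodEquiv _ _).toEquiv, Nat.card_prod,
      IsCyclic.card_powMonoidHom_ker, card_units_F hK]
    congr 1
    exact Nat.gcd_eq_right (dvd_mul_left _ _)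
  have h3 := Subgroup.card_mul_index ψ'.ker
  rw [Subgroup.index_ker, hkerc, hPc, Cfsg.Agent.S0277.result hK₀ n] at h3
  obtain ⟨d, hd⟩ : q₀ + 1 ∣ q + 1 := by
    rw [hq]
    have := Odd.nat_add_dvd_pow_add_pow q₀ 1 hrodd
    rwa [one_pow] at this
  have hdiv : (q + 1) / (q₀ + 1) = d := by
    rw [hd, Nat.mul_div_cancel_left d (by omega)]
  rw [hd, mul_assoc] at h3
  have h4 := Nat.eq_of_mul_eq_mul_left (by omega) h3
  rw [hcardS, h4, hdiv, Nat.cast_mul, gu_card_int q₀ n (by omega)]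

end Cfsg.Agent.S2677
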