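import Cfsg.Statements.S2679
import Cfsg.Agent.Lib_helper13_FieldExt
import Cfsg.Agent.Lib_helper13_QStd

set_option autoImplicit false
open Cfsg

namespace Cfsg.Agent.S2679

open Matrix Module QuadraticMap Polynomial Cfsg.Agent.helper13

section general
variable {F K : Type*} [Field F] [Field K]

theorem qfm_map (ι : F →+* K) (k : ℕ) (a c : F) (v : (Fin k ⊕ Fin k) ⊕ Fin 2 → F) :
    Cfsg.quadFormMinus k K (ι a) (ι c) (ι ∘ v) = ι (Cfsg.quadFormMinus k F a c v) := by
  simp [Cfsg.quadFormMinus, map_sum, map_add, map_mul, map_pow]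

/-- base change of an isometry. -/
theorem base_change_isometry {κ : Type} [Fintype κ] [DecidableEq κ] (ι : F →+* K)
    (QF : (κ → F) → F) (QK : QuadraticForm K (κ → K)) (hcompat : ∀ v : κ → F, QK (ι ∘ v) = ι (QF v))
    (g : Matrix κ κ F) (hg : ∀ u, QF (g *ᵥ u) = QF u) :
    ∀ y : κ → K, QK ((g.map ι) *ᵥ y) = QK y := by
  classical
  have hmv : ∀ v : κ → F, (g.map ι) *ᵥ (ι ∘ v) = ι ∘ (g *ᵥ v) := by
    intro v
    funext i
    exact (RingHom.map_mulVec ι g v i).symm
  have hsingle : ∀ i : κ, (Pi.single i (1 : K) : κ → K) = ι ∘ (Pi.single i (1 : F)) := by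
    intro i
    funext j
    simp only [Function.comp, Pi.single_apply]
    split_ifs <;> simp
  have hadd : ∀ u v : κ → F, (ι ∘ u) + (ι ∘ v) = ι ∘ (u + v) := by
    intro u v
    funext x
    simp
  have key := quad_ext_basis (Pi.basisFun K κ) (QK.comp (Matrix.toLin' (g.map ι))) QK ?_ ?_
  · intro y
    have := key y
    rw [QuadraticMap.comp_apply, Matrix.toLin'_apply] at this
    exact this
  · intro i
    rw [QuadraticMap.comp_apply, Pi.basisFun_apply, Matrix.toLin'_apply, hsingle, hmv, hcompat,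
      hcompat, hg]
  · intro i j
    rw [polar_comp_lin]
    simp only [Pi.basisFun_apply, Matrix.toLin'_apply, hsingle, hmv]
    unfold polar
    rw [hadd, hadd, hcompat, hcompat, hcompat, hcompat, hcompat, hcompat, ← Matrix.mulVec_add, hg,
      hg, hg]

variable {ι₁ ι₂ : Type} [Fintype ι₁] [DecidableEq ι₁] [Fintype ι₂] [DecidableEq ι₂]

/-- base change followed by a change of coordinates. -/
noncomputable def Phi (ι : F →+* K) (T : (ι₁ → K) ≃ₗ[K] (ι₂ → K)) : GL ι₁ F →* GL ι₂ K :=
  (Matrix.GeneralLinearGroup.toLin.symm.toMonoidHom.comp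
    ((LinearMap.GeneralLinearGroup.congrLinearEquiv T).toMonoidHom.comp
      (Matrix.GeneralLinearGroup.toLin.toMonoidHom.comp (Matrix.GeneralLinearGroup.map ι))))

theorem Phi_mulVec (ι : F →+* K) (T : (ι₁ → K) ≃ₗ[K] (ι₂ → K)) (g : GL ι₁ F) (w : ι₂ → K) :
    ((Phi ι T g : GL ι₂ K) : Matrix ι₂ ι₂ K) *ᵥ w =
      T (((g : Matrix ι₁ ι₁ F).map ι) *ᵥ (T.symm w)) := by
  simp [Phi, Matrix.GeneralLinearGroup.toLin]
  rw [← Matrix.toLinAlgEquiv'_apply, Matrix.toLinAlgEquiv'_toMatrixAlgEquiv']
  simp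

theorem Phi_injective (ι : F →+* K) (T : (ι₁ → K) ≃ₗ[K] (ι₂ → K)) :
    Function.Injective (Phi (ι₁ := ι₁) (ι₂ := ι₂) ι T) := by
  intro g g' h
  apply Units.ext
  have h1 : ∀ y : ι₁ → K, ((g : Matrix ι₁ ι₁ F).map ι) *ᵥ y = ((g' : Matrix ι₁ ι₁ F).map ι) *ᵥ y := by
    intro y
    have h2 := Phi_mulVec ι T g (T y)
    have h3 := Phi_mulVec ι T g' (T y)
    rw [h, h3] at h2
    simp only [LinearEquiv.symm_apply_apply] at h2
    exact (T.injective h2).symm
  have h4 : (g : Matrix ι₁ ι₁ F).map ι = (g' : Matrix ι₁ ι₁ F).map ι := by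
    apply Matrix.mulVec_injective
    funext y
    exact h1 y
  ext i j
  have h5 := congrFun (congrFun h4 i) j
  exact ι.injective h5

end general

section coord
variable {K : Type*} [Field K]

/-- the change of coordinates splitting the binary part. -/
def Tlin (k : ℕ) (l l' : K) : ((Fin k ⊕ Fin k) ⊕ Fin 2 → K) →ₗ[K] (Fin (k + 1) ⊕ Fin (k + 1) → K) where
  toFun v := Sum.elim
    (Fin.cons (v (Sum.inr 0) - l * v (Sum.inr 1)) (fun i => v (Sum.inl (Sum.inl i))))
    (Fin.cons (v (Sum.inr 0) - l' * v (Sum.inr 1)) (fun i => v (Sum.inl (Sum.inr i))))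
  map_add' u v := by
    funext s
    rcases s with j | j
    · refine Fin.cases ?_ (fun i => ?_) j
      · simp
        ring
      · simp
    · refine Fin.cases ?_ (fun i => ?_) j
      · simp
        ring
      · simp
  map_smul' r v := by
    funext s
    rcases s with j | j
    · refine Fin.cases ?_ (fun i => ?_) j
      · simp
        ring
      · simp
    · refine Fin.cases ?_ (fun i => ?_) j
      · simp
        ring
      · simp

theorem Tlin_inj (k : ℕ) (l l' : K) (hl : l ≠ l') : Function.Injective (Tlin k l l') := by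
  rw [← LinearMap.ker_eq_bot, LinearMap.ker_eq_bot']
  intro v hv
  have h1 : ∀ i, v (Sum.inl (Sum.inl i)) = 0 := fun i => by
    have := congrFun hv (Sum.inl i.succ)
    simpa [Tlin] using this
  have h2 : ∀ i, v (Sum.inl (Sum.inr i)) = 0 := fun i => by
    have := congrFun hv (Sum.inr i.succ)
    simpa [Tlin] using this
  have h3 : v (Sum.inr 0) - l * v (Sum.inr 1) = 0 := by
    have := congrFun hv (Sum.inl 0)
    simpa [Tlin] using this
  have h4 : v (Sum.inr 0) - l' * v (Sum.inr 1) = 0 := by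
    have := congrFun hv (Sum.inr 0)
    simpa [Tlin] using this
  have h5 : v (Sum.inr 1) = 0 := by
    have : (l' - l) * v (Sum.inr 1) = 0 := by linear_combination h3 - h4
    rcases mul_eq_zero.mp this with h | h
    · exact absurd (sub_eq_zero.mp h).symm hl
    · exact h
  have h6 : v (Sum.inr 0) = 0 := by
    rw [h5, mul_zero, sub_zero] at h3
    exact h3
  funext s
  rcases s with (i | i) | i
  · exact h1 i
  · exact h2 i
  · fin_cases i
    · exact h6
    · exact h5

theorem Tlin_form (k : ℕ) (l l' a c : K) (hl : l ^ 2 + a * l + c = 0) (hl' : l' = -a - l)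
    (v : (Fin k ⊕ Fin k) ⊕ Fin 2 → K) :
    Cfsg.quadFormPlus (k + 1) K (Tlin k l l' v) = Cfsg.quadFormMinus k K a c v := by
  unfold Cfsg.quadFormPlus Cfsg.quadFormMinus
  rw [Fin.sum_univ_succ]
  simp only [Tlin, LinearMap.coe_mk, AddHom.coe_mk, Sum.elim_inl, Sum.elim_inr, Fin.cons_zero,
    Fin.cons_succ]
  rw [hl']
  linear_combination (-(v (Sum.inr 1)) ^ 2) * hl

/-- the coordinate change as an equivalence. -/
noncomputable def Tequiv (k : ℕ) (l l' : K) (hl : l ≠ l') :
    ((Fin k ⊕ Fin k) ⊕ Fin 2 → K) ≃ₗ[K] (Fin (k + 1) ⊕ Fin (k + 1) → K) :=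
  LinearMap.linearEquivOfInjective (Tlin k l l') (Tlin_inj k l l' hl) (by
    simp only [Module.finrank_fintype_fun_eq_card, Fintype.card_sum, Fintype.card_fin]
    ring)

theorem Tequiv_apply (k : ℕ) (l l' : K) (hl : l ≠ l') (v : (Fin k ⊕ Fin k) ⊕ Fin 2 → K) :
    Tequiv k l l' hl v = Tlin k l l' v := rfl

end coord

section main
variable {F K : Type*} [Field F] [Fintype F] [Field K] [Fintype K]

theorem main (k : ℕ) (hK : Fintype.card K = Fintype.card F ^ 2) (a c : F)
    (hac : ∀ z₁ z₂ : F, z₁ ^ 2 + a * z₁ * z₂ + c * z₂ ^ 2 = 0 → z₁ = 0 ∧ z₂ = 0) :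
    ∃ φ : ↥(Cfsg.isometryGroup F (Cfsg.quadFormMinus k F a c)) →*
      ↥(Cfsg.isometryGroup K (Cfsg.quadFormPlus (k + 1) K)), Function.Injective φ := by
  classical
  obtain ⟨ι⟩ := exists_ringHom_of_card_pow (F := F) (K := K) 2 (by norm_num) hK
  letI : Algebra F K := ι.toAlgebra
  have hfr : finrank F K = 2 := finrank_of_card_pow 2 hK
  -- the polynomial
  set f : F[X] := X ^ 2 + C a * X + C c with hf
  have hfdeg : f.natDegree = 2 := by
    rw [hf]
    compute_degree!
  have hfmonic : f.Monic := by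
    rw [hf]
    monicity!
  have hnoroot : ∀ t : F, t ^ 2 + a * t + c ≠ 0 := by
    intro t ht
    have := hac t 1 (by rw [← ht]; ring)
    exact one_ne_zero this.2
  have hfirr : Irreducible f := by
    rw [Polynomial.Monic.irreducible_iff_roots_eq_zero_of_degree_le_three hfmonic (by omega) (by omega)]
    rw [Multiset.eq_zero_iff_forall_notMem]
    intro t ht
    rw [Polynomial.mem_roots hfmonic.ne_zero, Polynomial.IsRoot.def, hf] at ht
    simp only [eval_add, eval_pow, eval_X, eval_mul, eval_C] at ht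
    exact hnoroot t ht
  obtain ⟨l, hl⟩ := exists_root_of_irreducible (F := F) (K := K) f hfirr (by rw [hfdeg, hfr])
  have hl' : l ^ 2 + ι a * l + ι c = 0 := by
    rw [hf] at hl
    simp only [map_add, map_pow, aeval_X, map_mul, aeval_C] at hl
    exact hl
  -- the two roots are distinct
  have hne : l ≠ -ι a - l := by
    intro heq
    by_cases h2 : (2 : F) = 0
    · have h2K : (2 : K) = 0 := by
        have := congrArg ι h2
        rw [map_ofNat, map_zero] at this
        exact this
      have ha0 : ι a = 0 := by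
        have : (2 : K) * l = -ι a := by linear_combination heq
        rw [h2K, zero_mul] at this
        exact neg_eq_zero.mp this.symm
      have ha : a = 0 := ι.injective (by rw [ha0, map_zero])
      haveI : CharP F 2 := CharTwo.of_one_ne_zero_of_two_eq_zero one_ne_zero h2
      obtain ⟨s, hs⟩ : IsSquare c := FiniteField.isSquare_of_char_two (ringChar.eq F 2) _
      have := hac s 1 (by
        rw [ha, hs]
        have : s ^ 2 + 0 * s * 1 + s * s * 1 ^ 2 = 2 * (s * s) := by ring
        rw [this, h2, zero_mul])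
      exact one_ne_zero this.2
    · have h2K : (2 : K) ≠ 0 := by
        intro h
        apply h2
        apply ι.injective
        rw [map_zero, map_ofNat]
        exact h
      have hl2 : l = ι (-a / 2) := by
        rw [map_div₀, map_neg, map_ofNat]
        have : (2 : K) * l = -ι a := by linear_combination heq
        rw [eq_div_iff h2K]
        linear_combination this
      apply hnoroot (-a / 2)
      apply ι.injective
      rw [map_zero, map_add, map_add, map_pow, map_mul, ← hl2]
      exact hl'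
  let T := Tequiv k l (-ι a - l) hne
  have hT : ∀ v, Cfsg.quadFormPlus (k + 1) K (T v) = Cfsg.quadFormMinus k K (ι a) (ι c) v := by
    intro v
    exact Tlin_form k l (-ι a - l) (ι a) (ι c) hl' rfl v
  have hmem : ∀ g : GL ((Fin k ⊕ Fin k) ⊕ Fin 2) F, g ∈ Cfsg.isometryGroup F (Cfsg.quadFormMinus k F a c) →
      Phi ι T g ∈ Cfsg.isometryGroup K (Cfsg.quadFormPlus (k + 1) K) := by
    intro g hg
    have hg' : ∀ u, Cfsg.quadFormMinus k F a c ((g : Matrix _ _ F) *ᵥ u) = Cfsg.quadFormMinus k F a c u :=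
      fun u => hg u u
    intro w _
    show Cfsg.quadFormPlus (k + 1) K ((Phi ι T g : Matrix _ _ K) *ᵥ w) = Cfsg.quadFormPlus (k + 1) K w
    rw [Phi_mulVec, hT]
    have hbc := base_change_isometry ι (Cfsg.quadFormMinus k F a c) (QMinus K k (ι a) (ι c))
      (fun v => by rw [QMinus_apply]; exact qfm_map ι k a c v) (g : Matrix _ _ F) hg' (T.symm w)
    rw [QMinus_apply, QMinus_apply] at hbc
    rw [hbc, ← hT, LinearEquiv.apply_symm_apply]
  refine ⟨((Phi ι T).comp (Cfsg.isometryGroup F (Cfsg.quadFormMinus k F a c)).subtype).codRestrict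
    (Cfsg.isometryGroup K (Cfsg.quadFormPlus (k + 1) K)) (fun g => hmem g.1 g.2), ?_⟩
  intro g g' h
  have h1 : Phi ι T g.1 = Phi ι T g'.1 := congrArg Subtype.val h
  exact Subtype.ext (Phi_injective ι T h1)

end main

/-- An elliptic orthogonal group embeds in the hyperbolic orthogonal group of the same dimension over the quadratic extension: for a field F with q elements and a field K with q² elements there is an injective homomorphism from O⁻_2m(F) (isometries of Σ_(j<m−1) x_j y_j + z₁² + a z₁z₂ + c z₂², binary part anisotropic) to O⁺_2m(K) (isometries of Σ_(j<m) x_j y_j over K). -/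
theorem result {F K : Type*} [Field F] [Fintype F] [Field K] [Fintype K] {q : ℕ} (hF : Fintype.card F = q) (hK : Fintype.card K = q ^ 2) {m : ℕ} (hm : 1 ≤ m) (a c : F) (hac : ∀ z₁ z₂ : F, z₁ ^ 2 + a * z₁ * z₂ + c * z₂ ^ 2 = 0 → z₁ = 0 ∧ z₂ = 0) : ∃ φ : ↥(Cfsg.isometryGroup F (Cfsg.quadFormMinus (m - 1) F a c)) →* ↥(Cfsg.isometryGroup K (Cfsg.quadFormPlus m K)), Function.Injective φ := by
  obtain ⟨k, rfl⟩ : ∃ k, m = k + 1 := ⟨m - 1, by omega⟩
  have hK' : Fintype.card K = Fintype.card F ^ 2 := by rw [hK, hF]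
  exact main k hK' a c hac

end Cfsg.Agent.S2679
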