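import Cfsg.Statements.S2683
import Mathlib
import Cfsg.Agent.Lib_helper29_OC8
-- import your own Cfsg.Agent.* helpers here

set_option autoImplicit false
open Cfsg

namespace Cfsg.Agent.S2683

/-- For the hyperbolic form Σ x_j y_j on F^(2m) over a finite field with q elements, q even (excluding m = 2 over the field of two elements), and an involution x of the orthogonal group with s = rank(x − 1) odd (type b_s; such x lie outside Ω): the elements of Ω (the commutator subgroup of the orthogonal group) commuting with x number q^(2m(s−1) − (3s² − 3s)/2) · |Sp_(s−1)(q)| · |Sp_(2m−2s)(q)|, where |Sp_2k(q)| = q^(k²) Π_(i=1)^k (q^(2i) − 1). -/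
theorem result {F : Type*} [Field F] [Fintype F] [CharP F 2] {q : ℕ} (hF : Fintype.card F = q) {m s : ℕ} (h : Fintype.card F ≠ 2 ∨ m ≠ 2) (x : ↥(Cfsg.isometryGroup F (Cfsg.quadFormPlus m F))) (hx : x ^ 2 = 1) (hs : (((x : Matrix.GeneralLinearGroup (Fin m ⊕ Fin m) F) : Matrix (Fin m ⊕ Fin m) (Fin m ⊕ Fin m) F) - 1).rank = s) (hodd : Odd s) : Nat.card {g : ↥(Cfsg.Omega F (Cfsg.quadFormPlus m F)) // (g : ↥(Cfsg.isometryGroup F (Cfsg.quadFormPlus m F))) * x = x * (g : ↥(Cfsg.isometryGroup F (Cfsg.quadFormPlus m F)))} = q ^ (2 * m * (s - 1) - (3 * s ^ 2 - 3 * s) / 2) * ((q : ℕ) ^ (((s - 1) / 2) ^ 2) * ∏ i : Fin ((s - 1) / 2), (q ^ (2 * ((i : ℕ) + 1)) - 1)) * ((q : ℕ) ^ ((m - s) ^ 2) * ∏ i : Fin (m - s), (q ^ (2 * ((i : ℕ) + 1)) - 1)) := by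
  have hx2 : x * x = 1 := by rw [← pow_two]; exact hx
  have hs' : (Cfsg.Agent.helper29.SpInv.NNs (Cfsg.Agent.helper29.OInv.toSp x)).rank = s := hs
  have hx' : Cfsg.Agent.helper29.OInv.toSp x * Cfsg.Agent.helper29.OInv.toSp x = 1 := by
    rw [← map_mul, hx2, map_one]
  have hna : ¬ Cfsg.Agent.helper29.SpInv.IsAltInv (Cfsg.Agent.helper29.OInv.toSp x) := by
    intro halt
    have := Cfsg.Agent.helper29.SpInv.rank_II (Cfsg.Agent.helper29.OInv.toSp x) hx' halt
    rw [hs', ← Nat.not_odd_iff_even] at this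
    exact this hodd
  obtain ⟨k, hk, hkm, hcard⟩ := Cfsg.Agent.helper29.OC.omega_centralizer_nonalt hF h x hx2 hna
  rw [hcard]
  have hsk : s = k + 1 := by rw [← hs', hk]
  subst hsk
  obtain ⟨a, ha⟩ := hodd
  have hka : k = 2 * a := by omega
  subst hka
  rw [Cfsg.Agent.helper29.SpInv.PPn_even]
  have e1 : (2 * a + 1 - 1) / 2 = a := by omega
  have e2 : 2 * a + 1 - 1 = 2 * a := by omega
  rw [e1, e2]
  unfold Cfsg.Agent.helper29.SpInv.spN
  rw [Fin.prod_univ_eq_prod_range (fun i => q ^ (2 * (i + 1)) - 1) a,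
    Fin.prod_univ_eq_prod_range (fun i => q ^ (2 * (i + 1)) - 1) (m - (2 * a + 1))]
  ring

end Cfsg.Agent.S2683
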