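import Cfsg.Statements.S2685
import Mathlib
import Cfsg.Agent.Lib_helper29_OC8
-- import your own Cfsg.Agent.* helpers here

set_option autoImplicit false
open Cfsg

namespace Cfsg.Agent.S2685

/-- For the hyperbolic form Q = Σ x_j y_j on F^(2m) over a finite field with q elements, q even (excluding m = 2 over the field of two elements), and an involution x of the orthogonal group with s = rank(x − 1) even and Q not vanishing on the image of x − 1 (f(v, xv) ≠ 0 for some v, where f(u, w) = Q(u + w) − Q(u) − Q(w) is the bilinear form of Q; type c_s, which lies in Ω): its centraliser in Ω (the commutator subgroup of the orthogonal group) has order q^(2m(s−1) − (3s² − 5s)/2 − 1) · |Sp_(s−2)(q)| · |Sp_(2m−2s)(q)|. -/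
theorem result {F : Type*} [Field F] [Fintype F] [CharP F 2] {q : ℕ} (hF : Fintype.card F = q) {m s : ℕ} (h : Fintype.card F ≠ 2 ∨ m ≠ 2) (x : ↥(Cfsg.isometryGroup F (Cfsg.quadFormPlus m F))) (hx : x ^ 2 = 1) (hs : (((x : Matrix.GeneralLinearGroup (Fin m ⊕ Fin m) F) : Matrix (Fin m ⊕ Fin m) (Fin m ⊕ Fin m) F) - 1).rank = s) (heven : Even s) (hna : ∃ v : Fin m ⊕ Fin m → F, Cfsg.quadFormPlus m F ((((x : Matrix.GeneralLinearGroup (Fin m ⊕ Fin m) F) : Matrix (Fin m ⊕ Fin m) (Fin m ⊕ Fin m) F) - 1).mulVec v) ≠ 0) : Nat.card {g : ↥(Cfsg.Omega F (Cfsg.quadFormPlus m F)) // (g : ↥(Cfsg.isometryGroup F (Cfsg.quadFormPlus m F))) * x = x * (g : ↥(Cfsg.isometryGroup F (Cfsg.quadFormPlus m F)))} = q ^ (2 * m * (s - 1) - (3 * s ^ 2 - 5 * s) / 2 - 1) * ((q : ℕ) ^ (((s - 2) / 2) ^ 2) * ∏ i : Fin ((s - 2) / 2), (q ^ (2 * ((i : ℕ) + 1)) - 1)) * ((q : ℕ) ^ ((m - s) ^ 2) * ∏ i : Fin (m - s), (q ^ (2 * ((i : ℕ) + 1)) - 1)) := by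
  have hx2 : x * x = 1 := by rw [← pow_two]; exact hx
  have hs' : (Cfsg.Agent.helper29.SpInv.NNs (Cfsg.Agent.helper29.OInv.toSp x)).rank = s := hs
  have hna' : ¬ Cfsg.Agent.helper29.SpInv.IsAltInv (Cfsg.Agent.helper29.OInv.toSp x) := by
    intro halt
    obtain ⟨v, hv⟩ := hna
    apply hv
    have := Cfsg.Agent.helper29.OC.QQ_N x v
    rw [halt v] at this
    exact this
  obtain ⟨k, hk, hkm, hcard⟩ := Cfsg.Agent.helper29.OC.omega_centralizer_nonalt hF h x hx2 hna'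
  rw [hcard]
  have hsk : s = k + 1 := by rw [← hs', hk]
  subst hsk
  obtain ⟨a, ha⟩ := heven
  obtain ⟨b, hb⟩ : ∃ b, k = 2 * b + 1 := ⟨a - 1, by omega⟩
  subst hb
  rw [Cfsg.Agent.helper29.SpInv.PPn_odd]
  have e1 : (2 * b + 1 + 1 - 2) / 2 = b := by omega
  rw [e1]
  have hE : 2 * m * (2 * b + 1 + 1 - 1) - (3 * (2 * b + 1 + 1) ^ 2 - 5 * (2 * b + 1 + 1)) / 2 - 1 =
      2 * m * (2 * b + 1) - (3 * (2 * b + 1 + 1) ^ 2 - 3 * (2 * b + 1 + 1)) / 2 + (2 * b + 1) := by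
    have h3 : (2 * b + 2) * b ≤ m * b := Nat.mul_le_mul_right b (by omega)
    have e0 : (2 * b + 2) * b = 2 * (b * b) + 2 * b := by ring
    have e2 : (2 * b + 1 + 1) ^ 2 = 4 * (b * b) + 8 * b + 4 := by ring
    have e3 : 2 * m * (2 * b + 1 + 1 - 1) = 4 * (m * b) + 2 * m := by
      rw [show 2 * b + 1 + 1 - 1 = 2 * b + 1 by omega]
      ring
    have e4 : 2 * m * (2 * b + 1) = 4 * (m * b) + 2 * m := by ring
    rw [e2, e3, e4]
    rw [e0] at h3
    generalize b * b = b2 at *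
    generalize m * b = mb at *
    omega
  rw [hE, pow_add]
  unfold Cfsg.Agent.helper29.SpInv.spN
  rw [Fin.prod_univ_eq_prod_range (fun i => q ^ (2 * (i + 1)) - 1) b,
    Fin.prod_univ_eq_prod_range (fun i => q ^ (2 * (i + 1)) - 1) (m - (2 * b + 1 + 1))]
  ring

end Cfsg.Agent.S2685
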