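import Cfsg.Statements.S2697
import Mathlib
import Cfsg.Agent.Lib_helper14_GraphFieldConj
-- import your own Cfsg.Agent.* helpers here

set_option autoImplicit false
open Cfsg

namespace Cfsg.Agent.S2697

open Cfsg.Agent.helper14

/-- Let T = PSL_n(F) be simple over a finite field (n ≥ 2; |F| ≥ 4 when n = 2) and let x be a field automorphism or a graph-field automorphism of T of prime order r. Then an element y of the coset Inndiag(T)·x (that is, y = δ x with δ in the inner-diagonal group, the image of PGL_n(F)) has order r if and only if y is conjugate to x by an element of Inndiag(T). -/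
theorem result {F : Type*} [Field F] [Fintype F] {p f : ℕ} [Fact p.Prime] (hF : Fintype.card F = p ^ f) (hf : 1 ≤ f) {n : ℕ} (hn : 2 ≤ n) (hs : n = 2 → 4 ≤ Fintype.card F) (x δ : MulAut (Matrix.ProjectiveSpecialLinearGroup (Fin n) F)) (hx : Cfsg.IsFieldAutClassPSL x ∨ Cfsg.IsGraphFieldAutClassPSL x) {r : ℕ} (hr : r.Prime) (hxr : orderOf x = r) (hδ : δ ∈ Cfsg.inndiagPSL n F) :
    orderOf (δ * x) = r ↔ Cfsg.IsConjUnder (Cfsg.inndiagPSL n F) x (δ * x) := by
  have hconj : ∀ (a y : MulAut (Matrix.ProjectiveSpecialLinearGroup (Fin n) F)),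
      orderOf (a * y * a⁻¹) = orderOf y := by
    intro a y
    exact orderOf_injective (MulAut.conj a).toMonoidHom (MulAut.conj a).injective y
  rw [inndiagPSL_eq] at hδ ⊢
  obtain ⟨d, rfl⟩ := hδ
  have key : ∃ α x₀ : MulAut (Matrix.ProjectiveSpecialLinearGroup (Fin n) F),
      α * x * α⁻¹ = x₀ ∧ ∀ d' : GL (Fin n) F, orderOf (PhiL d' * x₀) = r →
        ∃ h : GL (Fin n) F, PhiL d' * x₀ = PhiL h * x₀ * (PhiL h)⁻¹ := by
    rcases hx with ⟨α, σ, hne, hstd⟩ | ⟨hn3, α, φ, γ, σ, hne, hφ, hγ, hxe⟩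
    · have h1 : α * x * α⁻¹ = phiS σ := std_unique σ _ hstd
      refine ⟨α, phiS σ, h1, ?_⟩
      intro d' hd'
      have hord : orderOf (phiS σ : MulAut (Matrix.ProjectiveSpecialLinearGroup (Fin n) F)) = r := by
        rw [← h1, hconj, hxr]
      rw [orderOf_phiS hn] at hord
      exact field_conj hn σ d' (by rw [hd', hord])
    · have hφ' : φ = phiS σ := std_unique σ _ hφ
      have hγ' : γ = iota0 := invT_unique γ hγ
      refine ⟨α, phiS σ * iota0, by rw [hxe, hφ', hγ'], ?_⟩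
      intro d' hd'
      have hord : orderOf (phiS σ * iota0 :
          MulAut (Matrix.ProjectiveSpecialLinearGroup (Fin n) F)) = r := by
        rw [← hγ', ← hφ', ← hxe, hconj, hxr]
      exact gf_conj_core hF hf hn3 σ hne hr hord d' hd'
  obtain ⟨α, x₀, hx₀, hcore⟩ := key
  constructor
  · intro ho
    obtain ⟨d', hd'⟩ := inndiag_normal hF hf hn α d
    have h1 : α * (PhiL d * x) * α⁻¹ = PhiL d' * x₀ := by
      rw [← hd', ← hx₀]
      group
    have h2 : orderOf (PhiL d' * x₀) = r := by rw [← h1, hconj, ho]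
    obtain ⟨h, hh⟩ := hcore d' h2
    obtain ⟨h', hh'⟩ := inndiag_normal hF hf hn α⁻¹ h
    refine ⟨PhiL h', ⟨h', rfl⟩, ?_⟩
    rw [← hh', inv_inv]
    calc PhiL d * x = α⁻¹ * (α * (PhiL d * x) * α⁻¹) * α := by group
      _ = α⁻¹ * (PhiL h * (α * x * α⁻¹) * (PhiL h)⁻¹) * α := by rw [h1, hh, hx₀]
      _ = _ := by group
  · rintro ⟨h, -, hh⟩
    rw [hh, hconj, hxr]

end Cfsg.Agent.S2697
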