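import Cfsg.Statements.S2698
import Mathlib
import Cfsg.Agent.Lib_helper14_FieldCent
-- import your own Cfsg.Agent.* helpers here

set_option autoImplicit false
open Cfsg

namespace Cfsg.Agent.S2698

open Cfsg.Agent.helper14

/-- Let T = PSL_n(F) be simple over the field F with p^f elements (n ≥ 2; p^f ≥ 4 when n = 2), G = Inndiag(T) the image of PGL_n(F) in Aut(T), and x a field automorphism of T of prime order r. Then r divides f; the centralizer C_G(x) is isomorphic to PGL_n(F₀) for the subfield size |F₀| = p^(f/r); and the G-class of x is the union of exactly gcd(n, (p^f − 1)/(p^(f/r) − 1)) classes under conjugation by T (the inner automorphism group). -/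
theorem result {F : Type*} [Field F] [Fintype F] {p f : ℕ} [Fact p.Prime] (hF : Fintype.card F = p ^ f) (hf : 1 ≤ f) {n : ℕ} (hn : 2 ≤ n) (hs : n = 2 → 4 ≤ Fintype.card F) (x : MulAut (Matrix.ProjectiveSpecialLinearGroup (Fin n) F)) (hx : Cfsg.IsFieldAutClassPSL x) {r : ℕ} (hr : r.Prime) (hxr : orderOf x = r) (F₀ : Type*) [Field F₀] [Fintype F₀] (hF₀ : Fintype.card F₀ = p ^ (f / r)) :
    r ∣ f ∧ Nonempty (↥(Cfsg.inndiagPSL n F ⊓ Subgroup.centralizer {x}) ≃* Matrix.ProjGenLinGroup (Fin n) F₀) ∧ Cfsg.splitClassCount (Cfsg.inndiagPSL n F) (Cfsg.Inn (Matrix.ProjectiveSpecialLinearGroup (Fin n) F)) x = Nat.gcd n ((p ^ f - 1) / (p ^ (f / r) - 1)) := by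
  obtain ⟨g, σ, hne, rfl⟩ := field_class_std hF hf hn x hx
  have hconj : ∀ (a y : MulAut (Matrix.ProjectiveSpecialLinearGroup (Fin n) F)),
      orderOf (a * y * a⁻¹) = orderOf y := by
    intro a y
    exact orderOf_injective (MulAut.conj a).toMonoidHom (MulAut.conj a).injective y
  have hord : orderOf σ = r := by
    rw [← orderOf_phiS hn σ, ← hxr, hconj]
  have hrf : r ∣ f := by
    rw [← card_ringAut hF, ← hord]
    exact orderOf_dvd_natCard σ
  have hF' : Fintype.card F = (p ^ (f / r)) ^ r := by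
    rw [← pow_mul, Nat.div_mul_cancel hrf]
    exact hF
  have hmem : PhiL g ∈ Cfsg.inndiagPSL n F := by
    rw [inndiagPSL_eq]
    exact ⟨g, rfl⟩
  obtain ⟨ι, hι⟩ := exists_embedding σ hr.pos hF' hord hF₀
  refine ⟨hrf, ?_, ?_⟩
  · obtain ⟨e⟩ := centralizer_field_iso (n := n) (by omega) σ ι hι
    exact ⟨(centralizerConjEquiv (Cfsg.inndiagPSL n F) (phiS σ) (PhiL g) hmem).symm.trans e⟩
  · rw [splitClassCount_conj _ _ _ _ hmem]
    apply field_split_count hn σ ι hι
    rw [hF₀, hF]
    have hdvd : p ^ (f / r) - 1 ∣ p ^ f - 1 := by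
      have := Nat.sub_dvd_pow_sub_pow (p ^ (f / r)) 1 r
      rw [one_pow, ← pow_mul, Nat.div_mul_cancel hrf] at this
      exact this
    exact (Nat.div_mul_cancel hdvd).symm

end Cfsg.Agent.S2698
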