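import Cfsg.Statements.S2699
import Mathlib
import Cfsg.Agent.Lib_helper14_GraphF
import Cfsg.Agent.S0304
import Cfsg.Agent.Lib_helper13_OrthE
import Cfsg.Agent.Lib_helper14_PslC
-- import your own Cfsg.Agent.* helpers here

set_option autoImplicit false
open Cfsg

namespace Cfsg.Agent.S2699


open Matrix QuadraticMap Module Cfsg.Agent.helper13 Cfsg.Agent.helper14

theorem quadFormOdd_smul {F : Type*} [Field F] (m : ℕ) (c : F)
    (v : Unit ⊕ (Fin m ⊕ Fin m) → F) :
    Cfsg.quadFormOdd m F (c • v) = c * c * Cfsg.quadFormOdd m F v := by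
  unfold Cfsg.quadFormOdd
  simp only [Pi.smul_apply, smul_eq_mul]
  rw [mul_add, Finset.mul_sum]
  congr 1
  · ring
  · apply Finset.sum_congr rfl
    intro i _
    ring

theorem quadFormOdd_ne {F : Type*} [Field F] (m : ℕ) :
    ∃ v : Unit ⊕ (Fin m ⊕ Fin m) → F, Cfsg.quadFormOdd m F v ≠ 0 := by
  refine ⟨Pi.single (Sum.inl ()) 1, ?_⟩
  unfold Cfsg.quadFormOdd
  simp

/-- Let T = PSL_n(F) over the field with p^f elements with n ≥ 3 odd, n = 2m + 1, and G = Inndiag(T) the image of PGL_n(F). Every involutory graph automorphism γ of T (an inner-diagonal automorphism followed by inverse-transpose, of order 2) has centralizer C_G(γ) isomorphic to the projective conformal orthogonal group of the form x₀² + Σ xᵢ yᵢ in dimension n (for q even this group is isomorphic to Sp_{n−1}(q)), and any two involutory graph automorphisms are G-conjugate. -/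
theorem result {F : Type*} [Field F] [Fintype F] {p f : ℕ} [Fact p.Prime] (hF : Fintype.card F = p ^ f) (hf : 1 ≤ f) {n : ℕ} (hn : 3 ≤ n) {m : ℕ} (hnm : n = 2 * m + 1) (γ γ' : MulAut (Matrix.ProjectiveSpecialLinearGroup (Fin n) F)) (hγ : Cfsg.IsGraphAutClassPSL γ) (hγ2 : orderOf γ = 2) (hγ' : Cfsg.IsGraphAutClassPSL γ') (hγ'2 : orderOf γ' = 2) :
    Nonempty (↥(Cfsg.inndiagPSL n F ⊓ Subgroup.centralizer {γ}) ≃* Cfsg.PGO F (Cfsg.quadFormOdd m F)) ∧ Cfsg.IsConjUnder (Cfsg.inndiagPSL n F) γ γ' := by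
  classical
  have hn0 : 0 < n := by omega
  have hoddn : Odd n := ⟨m, hnm⟩
  obtain ⟨-, M, rfl⟩ := (isGraph_iff γ).mp hγ
  obtain ⟨-, M', rfl⟩ := (isGraph_iff γ').mp hγ'
  have hsym : ∀ N : GL (Fin n) F, orderOf (gam N) = 2 →
      (N : Matrix (Fin n) (Fin n) F)ᵀ = (N : Matrix (Fin n) (Fin n) F) := by
    intro N hN
    have hsq : gam N * gam N = 1 := by
      have := pow_orderOf_eq_one (gam N)
      rw [hN, pow_two] at this
      exact this
    obtain ⟨c, hc⟩ := (gam_mul_self_eq_one_iff N).mp hsq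
    exact symm_of_odd hoddn N c (transpose_scalar hn0 N c hc) hc
  have hM := hsym M hγ2
  have hM' := hsym M' hγ'2
  have hcard : Fintype.card (Fin n) = Fintype.card (Unit ⊕ (Fin m ⊕ Fin m)) := by
    rw [Fintype.card_sum, Fintype.card_sum, Fintype.card_unit, Fintype.card_fin,
      Fintype.card_fin]
    omega
  obtain ⟨E⟩ : Nonempty ((Fin n → F) ≃ₗ[F] (Unit ⊕ (Fin m ⊕ Fin m) → F)) :=
    ⟨LinearEquiv.funCongrLeft F F (Fintype.equivOfCardEq hcard.symm)⟩
  by_cases h2 : (2 : F) = 0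
  · haveI : CharP F 2 := CharTwo.of_one_ne_zero_of_two_eq_zero one_ne_zero h2
    have hdet : ∀ N : GL (Fin n) F, (N : Matrix (Fin n) (Fin n) F).det ≠ 0 :=
      fun N => (Matrix.isUnits_det_units N).ne_zero
    constructor
    · obtain ⟨g, hg⟩ := exists_equiv_of_nonalt (M : Matrix (Fin n) (Fin n) F) (Mstd m F) hM
        Mstd_transpose (hdet M) Mstd_det (exists_nonalt_of_odd hoddn _ (hdet M)) Mstd_nonalt hcard
      obtain ⟨e₁⟩ := centralizer_gam_iso M
      obtain ⟨e₂⟩ := psim_transfer_lin (bilM (M : Matrix (Fin n) (Fin n) F)) (bilM (Mstd m F)) g hg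
      obtain ⟨e₃⟩ := sp_iso_psim_Mstd (F := F) (m := m)
      obtain ⟨e₄⟩ := Cfsg.Agent.S0304.result (F := F) m
      obtain ⟨e₅⟩ := isom_iso_pgo_char2 (Cfsg.quadFormOdd m F) (quadFormOdd_smul m)
        (quadFormOdd_ne m)
      exact ⟨((e₁.trans e₂).trans e₃.symm).trans (e₄.symm.trans e₅)⟩
    · obtain ⟨g, hg⟩ := exists_equiv_of_nonalt (M' : Matrix (Fin n) (Fin n) F)
        (M : Matrix (Fin n) (Fin n) F) hM' hM (hdet M') (hdet M)
        (exists_nonalt_of_odd hoddn _ (hdet M')) (exists_nonalt_of_odd hoddn _ (hdet M)) rfl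
      apply conj_of_form M M' g 1 one_ne_zero
      intro u v
      rw [one_mul, hg]
  · obtain ⟨Q₀, hQ₀⟩ : ∃ Q₀ : QuadraticForm F (Fin n → F),
        Q₀ = (QOdd F m).comp (E : (Fin n → F) →ₗ[F] (Unit ⊕ (Fin m ⊕ Fin m) → F)) := ⟨_, rfl⟩
    have hQ₀n : (polarBilin Q₀).Nondegenerate := by
      rw [hQ₀]
      exact nondeg_comp _ (QOdd_nondeg h2 m) E
    have hQ₀a : ∀ v, Q₀ v = Cfsg.quadFormOdd m F (E v) := by
      intro v
      rw [hQ₀, QuadraticMap.comp_apply, QOdd_apply]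
      rfl
    have c1 := conj_std_odd h2 hnm Q₀ hQ₀n M hM
    have c2 := conj_std_odd h2 hnm Q₀ hQ₀n M' hM'
    constructor
    · obtain ⟨e₁⟩ := centralizer_conj_iso _ c1
      obtain ⟨e₂⟩ := centralizer_gq_iso h2 Q₀ hQ₀n
      obtain ⟨e₃⟩ := pgo_transfer_lin (⇑Q₀) (Cfsg.quadFormOdd m F) E hQ₀a
      exact ⟨(e₁.symm.trans e₂).trans e₃⟩
    · exact conjUnder_of_two _ c1 c2

end Cfsg.Agent.S2699
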