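import Cfsg.Statements.S2700
import Mathlib
import Cfsg.Agent.Lib_helper14_GraphD
import Cfsg.Agent.S2617
import Cfsg.Agent.S2624
-- import your own Cfsg.Agent.* helpers here

set_option autoImplicit false
open Cfsg

namespace Cfsg.Agent.S2700


open Matrix QuadraticMap Module Cfsg.Agent.helper13 Cfsg.Agent.helper14

theorem sympForm_self {F : Type*} [Field F] (h2 : (2 : F) ≠ 0) {m : ℕ} (x : Fin m ⊕ Fin m → F) :
    Cfsg.sympForm m F x x = 0 := by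
  have h1 := sympForm_swap (F := F) x x
  have h3 : (2 : F) * Cfsg.sympForm m F x x = 0 := by linear_combination h1
  rcases mul_eq_zero.mp h3 with h4 | h4
  · exact absurd h4 h2
  · exact h4

theorem not_conj_alt_gq {F : Type*} [Field F] (h2 : (2 : F) ≠ 0) {n : ℕ} (hn : 0 < n)
    (M₁ : GL (Fin n) F) (halt : ∀ v, bilM (M₁ : Matrix (Fin n) (Fin n) F) v v = 0)
    (Q : QuadraticForm F (Fin n → F)) (hQ : (polarBilin Q).Nondegenerate) :
    ¬ Cfsg.IsConjUnder (Cfsg.inndiagPSL n F) (gam M₁) (gam (gq Q hQ)) := by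
  intro h
  obtain ⟨g, c, hc, hg⟩ := form_of_conj _ _ h
  have hQ0 : ∀ v, Q v = 0 := by
    intro v
    have h1 := hg v v
    rw [halt, bilM_gq, polar_self, nsmul_eq_mul] at h1
    push_cast at h1
    have h3 : c * (2 * Q v) = 0 := h1.symm
    rcases mul_eq_zero.mp h3 with h4 | h4
    · exact absurd h4 hc
    · rcases mul_eq_zero.mp h4 with h5 | h5
      · exact absurd h5 h2
      · exact h5
  have h1 : (Pi.single (⟨0, hn⟩ : Fin n) (1 : F) : Fin n → F) = 0 := by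
    apply hQ.1
    intro y
    rw [polarBilin_apply_apply]
    unfold polar
    rw [hQ0, hQ0, hQ0]
    ring
  have h3 := congrFun h1 ⟨0, hn⟩
  rw [Pi.single_eq_same, Pi.zero_apply] at h3
  exact one_ne_zero h3

/-- Let T = PSL_n(F) over a finite field of odd order with n = 2m ≥ 4 even, and G = Inndiag(T) the image of PGL_n(F). The involutory graph automorphisms of T fall into exactly three G-classes, with representatives γ₁, γ₂, γ₃ whose centralizers in G are isomorphic respectively to the projective conformal symplectic group PGSp_n(F), the projective conformal orthogonal group of the plus-type form Σ xᵢ yᵢ, and that of a minus-type form Σ xᵢ yᵢ + z₁² + a z₁ z₂ + b z₂² (anisotropic binary part) in dimension n. -/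
theorem result {F : Type*} [Field F] [Fintype F] (hodd : Odd (Fintype.card F)) {n m : ℕ} (hm : 2 ≤ m) (hnm : n = 2 * m) :
    ∃ (γ₁ γ₂ γ₃ : MulAut (Matrix.ProjectiveSpecialLinearGroup (Fin n) F)) (a b : F), (∀ z₁ z₂ : F, z₁ ^ 2 + a * z₁ * z₂ + b * z₂ ^ 2 = 0 → z₁ = 0 ∧ z₂ = 0) ∧ Cfsg.IsGraphAutClassPSL γ₁ ∧ orderOf γ₁ = 2 ∧ Cfsg.IsGraphAutClassPSL γ₂ ∧ orderOf γ₂ = 2 ∧ Cfsg.IsGraphAutClassPSL γ₃ ∧ orderOf γ₃ = 2 ∧ ¬ Cfsg.IsConjUnder (Cfsg.inndiagPSL n F) γ₁ γ₂ ∧ ¬ Cfsg.IsConjUnder (Cfsg.inndiagPSL n F) γ₁ γ₃ ∧ ¬ Cfsg.IsConjUnder (Cfsg.inndiagPSL n F) γ₂ γ₃ ∧ (∀ γ : MulAut (Matrix.ProjectiveSpecialLinearGroup (Fin n) F), Cfsg.IsGraphAutClassPSL γ → orderOf γ = 2 → Cfsg.IsConjUnder (Cfsg.inndiagPSL n F) γ₁ γ ∨ Cfsg.IsConjUnder (Cfsg.inndiagPSL n F) γ₂ γ ∨ Cfsg.IsConjUnder (Cfsg.inndiagPSL n F) γ₃ γ) ∧ Nonempty (↥(Cfsg.inndiagPSL n F ⊓ Subgroup.centralizer {γ₁}) ≃* Cfsg.PGSp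 m F) ∧ Nonempty (↥(Cfsg.inndiagPSL n F ⊓ Subgroup.centralizer {γ₂}) ≃* Cfsg.PGO F (Cfsg.quadFormPlus m F)) ∧ Nonempty (↥(Cfsg.inndiagPSL n F ⊓ Subgroup.centralizer {γ₃}) ≃* Cfsg.PGO F (Cfsg.quadFormMinus (m - 1) F a b)) := by
  classical
  have h2 : (2 : F) ≠ 0 := two_ne_zero_of_odd_card rfl hodd
  have hm1 : 1 ≤ m := by omega
  have hn3 : 3 ≤ n := by omega
  have hn2 : 2 ≤ n := by omega
  have hn0 : 0 < n := by omega
  have hne : Even n := ⟨m, by omega⟩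
  obtain ⟨ζ, hζ⟩ := exists_zeta F
  have hac : ∀ z₁ z₂ : F, z₁ ^ 2 + 1 * z₁ * z₂ + ζ * z₂ ^ 2 = 0 → z₁ = 0 ∧ z₂ = 0 := by
    intro z₁ z₂ hz
    by_cases hz₂ : z₂ = 0
    · subst hz₂
      refine ⟨?_, rfl⟩
      have : z₁ ^ 2 = 0 := by linear_combination hz
      exact pow_eq_zero_iff (two_ne_zero) |>.mp this
    · exfalso
      apply hζ (z₁ / z₂)
      field_simp
      linear_combination hz
  have hD : 4 * ζ - 1 ^ 2 ≠ 0 := by
    intro h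
    apply hζ (-(2⁻¹))
    field_simp
    linear_combination h
  obtain ⟨E₂⟩ : Nonempty ((Fin n → F) ≃ₗ[F] (Fin m ⊕ Fin m → F)) :=
    ⟨LinearEquiv.funCongrLeft F F (Fintype.equivOfCardEq (by
      rw [Fintype.card_sum, Fintype.card_fin, Fintype.card_fin]; omega))⟩
  obtain ⟨E₃⟩ : Nonempty ((Fin n → F) ≃ₗ[F] ((Fin (m - 1) ⊕ Fin (m - 1)) ⊕ Fin 2 → F)) :=
    ⟨LinearEquiv.funCongrLeft F F (Fintype.equivOfCardEq (by
      rw [Fintype.card_sum, Fintype.card_sum, Fintype.card_fin, Fintype.card_fin,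
        Fintype.card_fin]; omega))⟩
  obtain ⟨M₁, hM₁⟩ := exists_symp_gl (n := n) (m := m) E₂
  have halt₁ : ∀ v, bilM (M₁ : Matrix (Fin n) (Fin n) F) v v = 0 := by
    intro v
    rw [hM₁, sympForm_self h2]
  obtain ⟨Q₂, hQ₂⟩ : ∃ Q₂ : QuadraticForm F (Fin n → F),
      Q₂ = (QPlus F m).comp (E₂ : (Fin n → F) →ₗ[F] (Fin m ⊕ Fin m → F)) := ⟨_, rfl⟩
  have hQ₂n : (polarBilin Q₂).Nondegenerate := by
    rw [hQ₂]
    exact nondeg_comp _ (QPlus_nondeg m) E₂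
  have hQ₂a : ∀ v, Q₂ v = Cfsg.quadFormPlus m F (E₂ v) := by
    intro v
    rw [hQ₂, QuadraticMap.comp_apply, QPlus_apply]
    rfl
  obtain ⟨Q₃, hQ₃⟩ : ∃ Q₃ : QuadraticForm F (Fin n → F),
      Q₃ = (QMinus F (m - 1) 1 ζ).comp
        (E₃ : (Fin n → F) →ₗ[F] ((Fin (m - 1) ⊕ Fin (m - 1)) ⊕ Fin 2 → F)) := ⟨_, rfl⟩
  have hQ₃n : (polarBilin Q₃).Nondegenerate := by
    rw [hQ₃]
    exact nondeg_comp _ (QMinus_nondeg (m - 1) 1 ζ hD) E₃
  have hQ₃a : ∀ v, Q₃ v = Cfsg.quadFormMinus (m - 1) F 1 ζ (E₃ v) := by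
    intro v
    rw [hQ₃, QuadraticMap.comp_apply, QMinus_apply]
    rfl
  have h23 : ¬ ∃ g : (Fin n → F) ≃ₗ[F] (Fin n → F), ∀ v, Q₂ (g v) = Q₃ v := by
    rintro ⟨g, hg⟩
    apply Cfsg.Agent.S2617.result hm1 ζ hζ (E₂.symm ≪≫ₗ g.symm ≪≫ₗ E₃)
    intro w
    show Cfsg.quadFormMinus (m - 1) F 1 ζ (E₃ (g.symm (E₂.symm w))) = Cfsg.quadFormPlus m F w
    rw [← hQ₃a, ← hg, g.apply_symm_apply, hQ₂a, E₂.apply_symm_apply]
  refine ⟨gam M₁, gam (gq Q₂ hQ₂n), gam (gq Q₃ hQ₃n), 1, ζ, hac, ?_, ?_, ?_, ?_, ?_, ?_, ?_, ?_, ?_,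
    ?_, ?_, ?_, ?_⟩
  · exact (isGraph_iff _).mpr ⟨hn3, M₁, rfl⟩
  · exact gam_order_two hn3 M₁ (-1) (symp_gl_transpose E₂ M₁ hM₁)
  · exact (isGraph_iff _).mpr ⟨hn3, _, rfl⟩
  · exact gq_order_two hn3 Q₂ hQ₂n
  · exact (isGraph_iff _).mpr ⟨hn3, _, rfl⟩
  · exact gq_order_two hn3 Q₃ hQ₃n
  · exact not_conj_alt_gq h2 hn0 M₁ halt₁ Q₂ hQ₂n
  · exact not_conj_alt_gq h2 hn0 M₁ halt₁ Q₃ hQ₃n
  · intro h
    obtain ⟨g, c, hc, hg⟩ := sim_of_conj_gq h2 Q₂ Q₃ hQ₂n hQ₃n h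
    obtain ⟨k, hk⟩ := Cfsg.Agent.S2624.result hn2 hne Q₃ hQ₃n c hc
    apply h23
    refine ⟨k.symm ≪≫ₗ g, fun w => ?_⟩
    show Q₂ (g (k.symm w)) = Q₃ w
    rw [hg, ← hk, k.apply_symm_apply]
  · intro γ hγ hγ2
    obtain ⟨-, M, rfl⟩ := (isGraph_iff γ).mp hγ
    have hsq : gam M * gam M = 1 := by
      have := pow_orderOf_eq_one (gam M)
      rw [hγ2, pow_two] at this
      exact this
    obtain ⟨c, hc⟩ := (gam_mul_self_eq_one_iff M).mp hsq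
    rcases transpose_scalar hn0 M c hc with h1 | h1
    · -- symmetric
      right
      rw [h1, one_smul] at hc
      have hQn := QM_nondeg h2 M hc
      rcases iso_of_not_iso h2 (QM (M : Matrix (Fin n) (Fin n) F)) Q₂ Q₃ hQn hQ₂n hQ₃n h23 with
        ⟨g, hg⟩ | ⟨g, hg⟩
      · left
        exact conj_gq_of_symm M hc Q₂ hQ₂n h2 g (fun v => by rw [hg, QM_apply])
      · right
        exact conj_gq_of_symm M hc Q₃ hQ₃n h2 g (fun v => by rw [hg, QM_apply])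
    · -- skew
      left
      rw [h1] at hc
      have halt : ∀ v, bilM (M : Matrix (Fin n) (Fin n) F) v v = 0 := by
        intro v
        have h3 : bilM (M : Matrix (Fin n) (Fin n) F) v v =
            bilM (M : Matrix (Fin n) (Fin n) F)ᵀ v v := bilM_flip _ v v
        rw [hc, bilM_smul] at h3
        have h4 : (2 : F) * bilM (M : Matrix (Fin n) (Fin n) F) v v = 0 := by
          linear_combination h3
        rcases mul_eq_zero.mp h4 with h5 | h5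
        · exact absurd h5 h2
        · exact h5
      obtain ⟨g, hg⟩ := alt_classify hnm M halt
      apply conj_of_form M₁ M (g ≪≫ₗ E₂.symm) (-1) (neg_ne_zero.mpr one_ne_zero)
      intro u v
      rw [hM₁, hg]
      show Cfsg.sympForm m F (E₂ (E₂.symm (g u))) (E₂ (E₂.symm (g v))) = _
      rw [E₂.apply_symm_apply, E₂.apply_symm_apply]
      ring
  · exact centralizer_symp_iso E₂ M₁ hM₁
  · obtain ⟨e⟩ := centralizer_gq_iso h2 Q₂ hQ₂n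
    obtain ⟨e'⟩ := pgo_transfer_lin (⇑Q₂) (Cfsg.quadFormPlus m F) E₂ hQ₂a
    exact ⟨e.trans e'⟩
  · obtain ⟨e⟩ := centralizer_gq_iso h2 Q₃ hQ₃n
    obtain ⟨e'⟩ := pgo_transfer_lin (⇑Q₃) (Cfsg.quadFormMinus (m - 1) F 1 ζ) E₃ hQ₃a
    exact ⟨e.trans e'⟩

end Cfsg.Agent.S2700
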