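import Cfsg.Statements.S2701
import Mathlib
import Cfsg.Agent.Lib_helper14_GraphG
-- import your own Cfsg.Agent.* helpers here

set_option autoImplicit false
open Cfsg

namespace Cfsg.Agent.S2701


open Matrix QuadraticMap Module Cfsg.Agent.helper14 Cfsg.Agent.helper29.SpRoot

/-- Let T = PSL_n(F) over a finite field of characteristic 2 with n = 2m ≥ 4 even, and G = Inndiag(T) the image of PGL_n(F). The involutory graph automorphisms of T fall into exactly two G-classes, with representatives γ₁ and γ₃ whose centralizers in G are isomorphic respectively to the symplectic group Sp_n(F) and to the centralizer in Sp_n(F) of a symplectic transvection. -/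
theorem result {F : Type*} [Field F] [Fintype F] [CharP F 2] {n m : ℕ} (hm : 2 ≤ m) (hnm : n = 2 * m) :
    ∃ (γ₁ γ₃ : MulAut (Matrix.ProjectiveSpecialLinearGroup (Fin n) F)) (t : ↥(Matrix.symplecticGroup (Fin m) F)), Cfsg.IsTransvection (t : Matrix (Fin m ⊕ Fin m) (Fin m ⊕ Fin m) F) ∧ Cfsg.IsGraphAutClassPSL γ₁ ∧ orderOf γ₁ = 2 ∧ Cfsg.IsGraphAutClassPSL γ₃ ∧ orderOf γ₃ = 2 ∧ ¬ Cfsg.IsConjUnder (Cfsg.inndiagPSL n F) γ₁ γ₃ ∧ (∀ γ : MulAut (Matrix.ProjectiveSpecialLinearGroup (Fin n) F), Cfsg.IsGraphAutClassPSL γ → orderOf γ = 2 → Cfsg.IsConjUnder (Cfsg.inndiagPSL n F) γ₁ γ ∨ Cfsg.IsConjUnder (Cfsg.inndiagPSL n F) γ₃ γ) ∧ Nonempty (↥(Cfsg.inndiagPSL n F ⊓ Subgroup.centralizer {γ₁}) ≃* ↥(Matrix.symplecticGroup (Fin m) F)) ∧ Nonempty (↥(Cfsg.inndiagPSL n F ⊓ Subgroup.centralizer {γ₃}) ≃* ↥(Subgroup.centralizer ({t} : Set ↥(Matrix.symplecticGroup (Fin m) F)))) := by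
  classical
  have hm1 : 1 ≤ m := by omega
  have hn3 : 3 ≤ n := by omega
  have hn0 : 0 < n := by omega
  obtain ⟨E₂⟩ : Nonempty ((Fin n → F) ≃ₗ[F] (Fin m ⊕ Fin m → F)) :=
    ⟨LinearEquiv.funCongrLeft F F (Fintype.equivOfCardEq (by
      rw [Fintype.card_sum, Fintype.card_fin, Fintype.card_fin]; omega))⟩
  obtain ⟨M₁, hM₁⟩ := exists_symp_gl (n := n) (m := m) E₂
  have halt₁ : ∀ v, bilM (M₁ : Matrix (Fin n) (Fin n) F) v v = 0 := by
    intro v
    rw [hM₁]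
    exact Cfsg.Agent.helper4.sympForm_self _
  obtain ⟨r, hr⟩ : ∃ r : Fin m ⊕ Fin m → F, r = Pi.single (Sum.inl ⟨0, hm1⟩) 1 := ⟨_, rfl⟩
  have hrne : r ≠ 0 := by
    intro h
    have h1 := congrFun h (Sum.inl ⟨0, hm1⟩)
    rw [hr, Pi.single_eq_same] at h1
    exact one_ne_zero h1
  obtain ⟨M₃, hM₃⟩ := exists_gl_of_mat E₂ (M3 r) (M3_det r)
  have hM₃s : (M₃ : Matrix (Fin n) (Fin n) F)ᵀ = (M₃ : Matrix (Fin n) (Fin n) F) := by
    apply bilM_ext
    intro u v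
    rw [← bilM_flip, hM₃, hM₃, bilM_flip (M3 r) (E₂ u) (E₂ v), M3_transpose]
  have hM₃na : ∃ v, bilM (M₃ : Matrix (Fin n) (Fin n) F) v v ≠ 0 := by
    obtain ⟨w, hw⟩ := M3_nonalt r hrne
    exact ⟨E₂.symm w, by rw [hM₃, E₂.apply_symm_apply]; exact hw⟩
  have hdet : ∀ N : GL (Fin n) F, (N : Matrix (Fin n) (Fin n) F).det ≠ 0 :=
    fun N => (Matrix.isUnits_det_units N).ne_zero
  refine ⟨gam M₁, gam M₃, tau r 1, tau_isTransvection r hrne, ?_, ?_, ?_, ?_, ?_, ?_, ?_, ?_⟩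
  · exact (isGraph_iff _).mpr ⟨hn3, M₁, rfl⟩
  · exact gam_order_two hn3 M₁ (-1) (symp_gl_transpose E₂ M₁ hM₁)
  · exact (isGraph_iff _).mpr ⟨hn3, M₃, rfl⟩
  · exact gam_order_two hn3 M₃ 1 (by rw [hM₃s, Units.val_one, one_smul])
  · intro h
    obtain ⟨g, c, hc, hg⟩ := form_of_conj _ _ h
    obtain ⟨v, hv⟩ := hM₃na
    have h1 := hg v v
    rw [halt₁] at h1
    exact hv ((mul_eq_zero.mp h1.symm).resolve_left hc)
  · intro γ hγ hγ2
    obtain ⟨-, M, rfl⟩ := (isGraph_iff γ).mp hγ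
    have hsq : gam M * gam M = 1 := by
      have := pow_orderOf_eq_one (gam M)
      rw [hγ2, pow_two] at this
      exact this
    obtain ⟨c, hc⟩ := (gam_mul_self_eq_one_iff M).mp hsq
    have hMs : (M : Matrix (Fin n) (Fin n) F)ᵀ = (M : Matrix (Fin n) (Fin n) F) := by
      rcases transpose_scalar hn0 M c hc with h1 | h1
      · rw [hc, h1, one_smul]
      · rw [hc, h1, CharTwo.neg_eq, one_smul]
    by_cases halt : ∀ v, bilM (M : Matrix (Fin n) (Fin n) F) v v = 0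
    · left
      obtain ⟨g, hg⟩ := alt_classify hnm M halt
      apply conj_of_form M₁ M (g ≪≫ₗ E₂.symm) (-1) (neg_ne_zero.mpr one_ne_zero)
      intro u v
      rw [hM₁, hg]
      show Cfsg.sympForm m F (E₂ (E₂.symm (g u))) (E₂ (E₂.symm (g v))) = _
      rw [E₂.apply_symm_apply, E₂.apply_symm_apply]
      ring
    · right
      push Not at halt
      obtain ⟨g, hg⟩ := exists_equiv_of_nonalt (M : Matrix (Fin n) (Fin n) F)
        (M₃ : Matrix (Fin n) (Fin n) F) hMs hM₃s (hdet M) (hdet M₃) halt hM₃na rfl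
      apply conj_of_form M₃ M g 1 one_ne_zero
      intro u v
      rw [one_mul, hg]
  · obtain ⟨e⟩ := centralizer_symp_iso E₂ M₁ hM₁
    obtain ⟨e'⟩ := sp_iso_pgsp_char2 (F := F) (m := m) hm1
    exact ⟨e.trans e'.symm⟩
  · obtain ⟨e₁⟩ := centralizer_gam_iso M₃
    obtain ⟨e₂⟩ := psim_transfer_lin (bilM (M₃ : Matrix (Fin n) (Fin n) F)) (bilM (M3 r)) E₂ hM₃
    obtain ⟨e₃⟩ := cent_iso_psim_M3 hm1 r hrne
    exact ⟨(e₁.trans e₂).trans e₃.symm⟩

end Cfsg.Agent.S2701
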