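import Cfsg.Statements.S2702
import Mathlib
import Cfsg.Agent.Lib_helper14_GraphJ
-- import your own Cfsg.Agent.* helpers here

set_option autoImplicit false
open Cfsg

namespace Cfsg.Agent.S2702


open Matrix QuadraticMap Module Cfsg.Agent.helper13 Cfsg.Agent.helper14

/-- Let T = PSL_n(F) over the field with q = p^f elements, n ≥ 3, G = Inndiag(T) the image of PGL_n(F), and γ an involutory graph automorphism of T. The G-class of γ is the union of exactly c T-classes, where: if n is even and q is odd, c = gcd(n/2, q − 1) when C_G(γ) is isomorphic to the projective conformal symplectic group PGSp_n(F) (symplectic type) and c = gcd(n, q − 1)/2 otherwise; and c = gcd(n, q − 1) when n is odd or q is even. -/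
theorem result {F : Type*} [Field F] [Fintype F] {p f : ℕ} [Fact p.Prime] (hF : Fintype.card F = p ^ f) (hf : 1 ≤ f) {n : ℕ} (hn : 3 ≤ n) (γ : MulAut (Matrix.ProjectiveSpecialLinearGroup (Fin n) F)) (hγ : Cfsg.IsGraphAutClassPSL γ) (hγ2 : orderOf γ = 2) :
    ((Even n ∧ Odd p ∧ Nonempty (↥(Cfsg.inndiagPSL n F ⊓ Subgroup.centralizer {γ}) ≃* Cfsg.PGSp (n / 2) F)) → Cfsg.splitClassCount (Cfsg.inndiagPSL n F) (Cfsg.Inn (Matrix.ProjectiveSpecialLinearGroup (Fin n) F)) γ = Nat.gcd (n / 2) (p ^ f - 1)) ∧ ((Even n ∧ Odd p ∧ ¬ Nonempty (↥(Cfsg.inndiagPSL n F ⊓ Subgroup.centralizer {γ}) ≃* Cfsg.PGSp (n / 2) F)) → Cfsg.splitClassCount (Cfsg.inndiagPSL n F) (Cfsg.Inn (Matrix.ProjectiveSpecialLinearGroup (Fin n) F)) γ = Nat.gcd n (p ^ f - 1) / 2) ∧ (¬ (Even n ∧ Odd p) → Cfsg.splitClassCount (Cfsg.inndiagPSL n F) (Cfsg.Inn (Matrix.ProjectiveSpecialLinearGroup (Fin n) F)) γ = Nat.gcd n (p ^ f - 1)) := by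
  classical
  have hn2 : 2 ≤ n := by omega
  have hn0 : 0 < n := by omega
  obtain ⟨-, M, rfl⟩ := (isGraph_iff γ).mp hγ
  have hsq : gam M * gam M = 1 := by
    have := pow_orderOf_eq_one (gam M)
    rw [hγ2, pow_two] at this
    exact this
  obtain ⟨c, hc⟩ := (gam_mul_self_eq_one_iff M).mp hsq
  have hpar : (Even n ∧ Odd p) → ∃ m : ℕ, 2 ≤ m ∧ n = 2 * m ∧ n / 2 = m ∧ (2 : F) ≠ 0 ∧
      2 * ((p ^ f - 1) / 2) = p ^ f - 1 := by
    rintro ⟨⟨m, hm⟩, hp⟩
    have hodd : Odd (Fintype.card F) := by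
      rw [hF]
      exact hp.pow
    refine ⟨m, by omega, by omega, by omega, two_ne_zero_of_odd_card rfl hodd, ?_⟩
    rw [hF] at hodd
    obtain ⟨k, hk⟩ := hodd
    omega
  -- the two types in the even-dimensional odd-characteristic case
  have hcase : (Even n ∧ Odd p) →
      ((Nonempty (↥(Cfsg.inndiagPSL n F ⊓ Subgroup.centralizer {gam M}) ≃* Cfsg.PGSp (n / 2) F) ∧
        Cfsg.splitClassCount (Cfsg.inndiagPSL n F)
          (Cfsg.Inn (Matrix.ProjectiveSpecialLinearGroup (Fin n) F)) (gam M) =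
          Nat.gcd (n / 2) (p ^ f - 1)) ∨
      (¬ Nonempty (↥(Cfsg.inndiagPSL n F ⊓ Subgroup.centralizer {gam M}) ≃* Cfsg.PGSp (n / 2) F) ∧
        Cfsg.splitClassCount (Cfsg.inndiagPSL n F)
          (Cfsg.Inn (Matrix.ProjectiveSpecialLinearGroup (Fin n) F)) (gam M) =
          Nat.gcd n (p ^ f - 1) / 2)) := by
    intro hep
    obtain ⟨m, hm2, hnm, hdiv, h2, hq2⟩ := hpar hep
    have hm1 : 1 ≤ m := by omega
    rw [hdiv]
    rcases transpose_scalar hn0 M c hc with h1 | h1
    · -- symmetric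
      right
      rw [h1, one_smul] at hc
      refine ⟨not_pgsp_of_symm h2 hm1 hnm M hc, ?_⟩
      rw [split_symm h2 hm1 hnm M hc, hF]
      conv_rhs => rw [hnm, ← hq2, Nat.gcd_mul_left]
      rw [Nat.mul_div_cancel_left _ (by norm_num : 0 < 2)]
    · -- skew
      left
      rw [h1] at hc
      have halt : ∀ v, bilM (M : Matrix (Fin n) (Fin n) F) v v = 0 := by
        intro v
        have h3 : bilM (M : Matrix (Fin n) (Fin n) F) v v =
            bilM (M : Matrix (Fin n) (Fin n) F)ᵀ v v := bilM_flip _ v v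
        rw [hc, bilM_smul] at h3
        have h4 : (2 : F) * bilM (M : Matrix (Fin n) (Fin n) F) v v = 0 := by
          linear_combination h3
        rcases mul_eq_zero.mp h4 with h5 | h5
        · exact absurd h5 h2
        · exact h5
      refine ⟨?_, ?_⟩
      · obtain ⟨E₂⟩ : Nonempty ((Fin n → F) ≃ₗ[F] (Fin m ⊕ Fin m → F)) :=
          ⟨LinearEquiv.funCongrLeft F F (Fintype.equivOfCardEq (by
            rw [Fintype.card_sum, Fintype.card_fin, Fintype.card_fin]; omega))⟩
        obtain ⟨M₁, hM₁⟩ := exists_symp_gl (n := n) (m := m) E₂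
        obtain ⟨g, hg⟩ := alt_classify hnm M halt
        have hconj : Cfsg.IsConjUnder (Cfsg.inndiagPSL n F) (gam M₁) (gam M) := by
          apply conj_of_form M₁ M (g ≪≫ₗ E₂.symm) (-1) (neg_ne_zero.mpr one_ne_zero)
          intro u v
          rw [hM₁, hg]
          show Cfsg.sympForm m F (E₂ (E₂.symm (g u))) (E₂ (E₂.symm (g v))) = _
          rw [E₂.apply_symm_apply, E₂.apply_symm_apply]
          ring
        obtain ⟨e₁⟩ := centralizer_conj_iso _ hconj
        obtain ⟨e₂⟩ := centralizer_symp_iso E₂ M₁ hM₁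
        exact ⟨e₁.symm.trans e₂⟩
      · rw [split_skew hm1 hnm M halt, hF]
  refine ⟨?_, ?_, ?_⟩
  · rintro ⟨he, hp, hiso⟩
    rcases hcase ⟨he, hp⟩ with ⟨-, h⟩ | ⟨hno, -⟩
    · exact h
    · exact absurd hiso hno
  · rintro ⟨he, hp, hno⟩
    rcases hcase ⟨he, hp⟩ with ⟨hiso, -⟩ | ⟨-, h⟩
    · exact absurd hiso hno
    · exact h
  · intro hnot
    rw [← hF]
    apply split_of_pow hn2 M
    by_cases hev : Even n
    · have hp2 : p = 2 := by
        have hpe : Even p := by
          rw [← Nat.not_odd_iff_even]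
          intro hp
          exact hnot ⟨hev, hp⟩
        exact ((Nat.Prime.even_iff Fact.out).mp hpe)
      have h20 : (2 : F) = 0 := by
        have h3 := Nat.cast_card_eq_zero F
        rw [hF, hp2] at h3
        push_cast at h3
        exact pow_eq_zero_iff (by omega) |>.mp h3
      haveI : CharP F 2 := CharTwo.of_one_ne_zero_of_two_eq_zero one_ne_zero h20
      obtain ⟨k, hk⟩ := hev
      exact pow_of_char2_even (by omega : n = 2 * k) M
    · rw [Nat.not_even_iff_odd] at hev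
      obtain ⟨k, hk⟩ := hev
      exact pow_of_odd hk M

end Cfsg.Agent.S2702
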