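import Cfsg.Statements.S2703
import Mathlib
import Cfsg.Agent.Lib_helper14_PslC
import Cfsg.Agent.Lib_helper13_ReflI
-- import your own Cfsg.Agent.* helpers here

set_option autoImplicit false
open Cfsg

namespace Cfsg.Agent.S2703


open Matrix Cfsg.Agent.helper13 Cfsg.Agent.helper14

/-- Let T = PSL_n(F) over the field with q elements, q odd, n = 2m ≥ 4 even, and ι the inverse-transpose automorphism. Its centralizer in G = Inndiag(T) (the image of PGL_n(F)) is isomorphic to the projective conformal orthogonal group of the plus-type form Σ xᵢ yᵢ in dimension n when n(q − 1)/4 is even, and to that of a minus-type form (Σ xᵢ yᵢ + z₁² + a z₁ z₂ + b z₂² with anisotropic binary part) when n(q − 1)/4 is odd. -/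
theorem result {F : Type*} [Field F] [Fintype F] (hodd : Odd (Fintype.card F)) {n m : ℕ} (hm : 2 ≤ m) (hnm : n = 2 * m) (ι : MulAut (Matrix.ProjectiveSpecialLinearGroup (Fin n) F)) (hι : Cfsg.IsInverseTransposeAutPSL ι) :
    (Even (n * (Fintype.card F - 1) / 4) → Nonempty (↥(Cfsg.inndiagPSL n F ⊓ Subgroup.centralizer {ι}) ≃* Cfsg.PGO F (Cfsg.quadFormPlus m F))) ∧ (¬ Even (n * (Fintype.card F - 1) / 4) → ∃ a b : F, (∀ z₁ z₂ : F, z₁ ^ 2 + a * z₁ * z₂ + b * z₂ ^ 2 = 0 → z₁ = 0 ∧ z₂ = 0) ∧ Nonempty (↥(Cfsg.inndiagPSL n F ⊓ Subgroup.centralizer {ι}) ≃* Cfsg.PGO F (Cfsg.quadFormMinus (m - 1) F a b))) := by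
  classical
  have h2 : (2 : F) ≠ 0 := two_ne_zero_of_odd_card rfl hodd
  have hdiv : n * (Fintype.card F - 1) / 4 = m * (Fintype.card F - 1) / 2 := by
    rw [hnm, mul_assoc]
    exact Nat.mul_div_mul_left (m * (Fintype.card F - 1)) 2 (by norm_num : 0 < 2)
  rw [hdiv]
  obtain ⟨e₀⟩ := centralizer_invT_iso h2 ι hι
  obtain ⟨hP, hM⟩ := sumSq_type (F := F) hodd (n := n) (m := m) (by omega) hnm
  constructor
  · intro he
    obtain ⟨g, hg⟩ := hP he
    obtain ⟨e₁⟩ := pgo_transfer_lin (sumSq n F) (Cfsg.quadFormPlus m F) g hg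
    exact ⟨e₀.trans e₁⟩
  · intro hne
    obtain ⟨ζ, hirr, g, hg⟩ := hM hne
    refine ⟨1, ζ, ?_, ?_⟩
    · intro z₁ z₂ hz
      by_cases hz₂ : z₂ = 0
      · subst hz₂
        refine ⟨?_, rfl⟩
        have : z₁ ^ 2 = 0 := by linear_combination hz
        exact pow_eq_zero_iff (two_ne_zero) |>.mp this
      · exfalso
        apply hirr (z₁ / z₂)
        field_simp
        linear_combination hz
    · obtain ⟨e₁⟩ := pgo_transfer_lin (sumSq n F) (Cfsg.quadFormMinus (m - 1) F 1 ζ) g hg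
      exact ⟨e₀.trans e₁⟩

end Cfsg.Agent.S2703
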