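import Cfsg.Statements.S2704
import Mathlib
import Cfsg.Agent.Lib_helper14_GraphFieldCent
-- import your own Cfsg.Agent.* helpers here

set_option autoImplicit false
open Cfsg

namespace Cfsg.Agent.S2704

open Cfsg.Agent.helper14

/-- Let T = PSL_n(F) over the field F with p^f elements, n ≥ 3, and G = Inndiag(T) the image of PGL_n(F). If x is an involutory graph-field automorphism of T then f is even; x is G-conjugate to every other involutory graph-field automorphism; C_G(x) is isomorphic to the projective general unitary group PGU_n(q₀) with q₀² = p^f, realised over F itself through the Hermitian form Σ uᵢ vᵢ^{q₀}; and the G-class of x is the union of exactly gcd(n, q₀ − 1) T-classes. -/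
theorem result {F : Type*} [Field F] [Fintype F] {p f : ℕ} [Fact p.Prime] (hF : Fintype.card F = p ^ f) (hf : 1 ≤ f) {n : ℕ} (hn : 3 ≤ n) (x : MulAut (Matrix.ProjectiveSpecialLinearGroup (Fin n) F)) (hx : Cfsg.IsGraphFieldAutClassPSL x) (hx2 : orderOf x = 2) :
    Even f ∧ (∀ y : MulAut (Matrix.ProjectiveSpecialLinearGroup (Fin n) F), Cfsg.IsGraphFieldAutClassPSL y → orderOf y = 2 → Cfsg.IsConjUnder (Cfsg.inndiagPSL n F) x y) ∧ Nonempty (↥(Cfsg.inndiagPSL n F ⊓ Subgroup.centralizer {x}) ≃* Cfsg.PGU n F (p ^ (f / 2))) ∧ Cfsg.splitClassCount (Cfsg.inndiagPSL n F) (Cfsg.Inn (Matrix.ProjectiveSpecialLinearGroup (Fin n) F)) x = Nat.gcd n (p ^ (f / 2) - 1) := by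
  obtain ⟨g, σ, hne, hσ2, rfl⟩ := graphfield_class_std hF hf hn x hx hx2
  have hinv : ∀ a, σ (σ a) = a := fun a => DFunLike.congr_fun hσ2 a
  obtain ⟨q, hq2, hq⟩ := Cfsg.Agent.helper29.sigma_pow σ hne hinv
  obtain ⟨k, hk, hqk⟩ := sq_prime_pow (Fact.out : p.Prime) (hq2.symm.trans hF)
  have hq' : p ^ (f / 2) = q := by
    rw [hk, Nat.mul_div_cancel_left k (by norm_num : 0 < 2), hqk]
  rw [hq']
  have hmemH : ∀ h : GL (Fin n) F, PhiL h ∈ Cfsg.inndiagPSL n F := by
    intro h
    rw [inndiagPSL_eq]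
    exact ⟨h, rfl⟩
  refine ⟨⟨k, by omega⟩, ?_, ?_, ?_⟩
  · intro y hy hy2
    obtain ⟨g', σ', hne', hσ2', rfl⟩ := graphfield_class_std hF hf hn y hy hy2
    have hinv' : ∀ a, σ' (σ' a) = a := fun a => DFunLike.congr_fun hσ2' a
    have hσσ : σ' = σ := invol_unique σ σ' hne hne' hinv hinv'
    subst hσσ
    refine ⟨PhiL (g' * g⁻¹), hmemH _, ?_⟩
    rw [map_mul, map_inv]
    group
  · obtain ⟨e⟩ := centralizer_gf_iso (n := n) (by omega) σ hne hinv hq
    exact ⟨(centralizerConjEquiv (Cfsg.inndiagPSL n F) (phiS σ * iota0) (PhiL g)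
      (hmemH g)).symm.trans e⟩
  · rw [splitClassCount_conj _ _ _ _ (hmemH g)]
    exact gf_split_count (by omega) σ hne hinv hq hq2

end Cfsg.Agent.S2704
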