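import Cfsg.Statements.S2708
import Mathlib
import Cfsg.Agent.Lib_helper14_PsuJ
import Cfsg.Agent.S2701
-- import your own Cfsg.Agent.* helpers here

set_option autoImplicit false
open Cfsg

namespace Cfsg.Agent.S2708

/-- Let T = PSU_n(q) with n = 2m ≥ 4 even and q even, realised over the field F (of characteristic 2) with q² elements, and G = Inndiag(T) the image of PGU_n(q). The involutory graph automorphisms of T fall into exactly two G-classes, with representatives whose centralizers in G are isomorphic respectively to the symplectic group Sp_n(F₀) and to the centralizer in Sp_n(F₀) of a symplectic transvection, F₀ a field with q elements. -/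
theorem result {F : Type*} [Field F] [Fintype F] [CharP F 2] {q : ℕ} (hF : Fintype.card F = q ^ 2) {n m : ℕ} (hm : 2 ≤ m) (hnm : n = 2 * m) (F₀ : Type*) [Field F₀] [Fintype F₀] (hF₀ : Fintype.card F₀ = q) :
    ∃ (γ₁ γ₃ : MulAut (Cfsg.PSU n F q)) (t : ↥(Matrix.symplecticGroup (Fin m) F₀)), Cfsg.IsTransvection (t : Matrix (Fin m ⊕ Fin m) (Fin m ⊕ Fin m) F₀) ∧ Cfsg.IsGraphAutClassPSU γ₁ ∧ orderOf γ₁ = 2 ∧ Cfsg.IsGraphAutClassPSU γ₃ ∧ orderOf γ₃ = 2 ∧ ¬ Cfsg.IsConjUnder (Cfsg.inndiagPSU n F q) γ₁ γ₃ ∧ (∀ γ : MulAut (Cfsg.PSU n F q), Cfsg.IsGraphAutClassPSU γ → orderOf γ = 2 → Cfsg.IsConjUnder (Cfsg.inndiagPSU n F q) γ₁ γ ∨ Cfsg.IsConjUnder (Cfsg.inndiagPSU n F q) γ₃ γ) ∧ Nonempty (↥(Cfsg.inndiagPSU n F q ⊓ Subgroup.centralizer {γ₁}) ≃* ↥(Matrix.symplecticGroup (Fin m) F₀)) ∧ Nonempty (↥(Cfsg.inndiagPSU n F q ⊓ Subgroup.centralizer {γ₃}) ≃* ↥(Subgroup.centralizer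 ({t} : Set ↥(Matrix.symplecticGroup (Fin m) F₀)))) := by
  classical
  have hn : 3 ≤ n := by omega
  have hs : ¬ (n = 3 ∧ q = 2) := by omega
  obtain ⟨σ, ι, hσ, hι⟩ := Cfsg.Agent.helper14.PsuAut.exists_setup hF hF₀
  haveI : CharP F₀ 2 := RingHom.charP ι ι.injective 2
  obtain ⟨δ₁, δ₃, t, ht, hg1, ho1, hg3, ho3, hn13, hall, hc1, hc3⟩ :=
    Cfsg.Agent.S2701.result (F := F₀) hm hnm
  obtain ⟨γ₁, hC1, hG1, hO1⟩ :=
    Cfsg.Agent.helper14.PsuAut.corr_of_psl hF hn hs σ hσ ι hι δ₁ hg1 ho1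
  obtain ⟨γ₃, hC3, hG3, hO3⟩ :=
    Cfsg.Agent.helper14.PsuAut.corr_of_psl hF hn hs σ hσ ι hι δ₃ hg3 ho3
  refine ⟨γ₁, γ₃, t, ht, hG1, hO1, hG3, hO3, ?_, ?_, ?_, ?_⟩
  · rw [Cfsg.Agent.helper14.PsuAut.corr_conj hF hn hs σ hσ ι hι _ _ _ _ hC1 hC3]
    exact hn13
  · intro γ hγ hγ2
    obtain ⟨δ, hC, hG, hO⟩ :=
      Cfsg.Agent.helper14.PsuAut.corr_of_psu hF hn hs σ hσ ι hι γ hγ hγ2
    rcases hall δ hG hO with h | h
    · left
      exact (Cfsg.Agent.helper14.PsuAut.corr_conj hF hn hs σ hσ ι hι _ _ _ _ hC1 hC).mpr h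
    · right
      exact (Cfsg.Agent.helper14.PsuAut.corr_conj hF hn hs σ hσ ι hι _ _ _ _ hC3 hC).mpr h
  · obtain ⟨e⟩ := Cfsg.Agent.helper14.PsuAut.corr_cent hF hn hs σ hσ ι hι _ _ hC1
    obtain ⟨e'⟩ := hc1
    exact ⟨e.trans e'⟩
  · obtain ⟨e⟩ := Cfsg.Agent.helper14.PsuAut.corr_cent hF hn hs σ hσ ι hι _ _ hC3
    obtain ⟨e'⟩ := hc3
    exact ⟨e.trans e'⟩

end Cfsg.Agent.S2708
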