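import Cfsg.Statements.S2709
import Mathlib
import Cfsg.Agent.Lib_helper14_PsuQ
import Cfsg.Agent.Lib_helper14_PsuJ
import Cfsg.Agent.Lib_helper14_GraphJ
-- import your own Cfsg.Agent.* helpers here

set_option autoImplicit false
open Cfsg

namespace Cfsg.Agent.S2709

open Matrix QuadraticMap Module Cfsg.Agent.helper13 Cfsg.Agent.helper14 Cfsg.Agent.helper14.PsuAut

/-- Let T = PSU_n(q) be simple (n ≥ 3, (n,q) ≠ (3,2), q = p^f), realised over the field F with q² elements, G = Inndiag(T) the image of PGU_n(q), and γ an involutory graph automorphism of T. The G-class of γ is the union of exactly c T-classes, where: if n is even and q is odd, c = gcd(n/2, q + 1) when C_G(γ) is isomorphic to PGSp_n(F₀) for a field F₀ with q elements (symplectic type) and c = gcd(n, q + 1)/2 otherwise; and c = gcd(n, q + 1) when n is odd or q is even. -/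
theorem result {F : Type*} [Field F] [Fintype F] {p f q : ℕ} [Fact p.Prime] (hq : q = p ^ f) (hf : 1 ≤ f) (hF : Fintype.card F = q ^ 2) {n : ℕ} (hn : 3 ≤ n) (hs : ¬ (n = 3 ∧ q = 2)) (F₀ : Type*) [Field F₀] [Fintype F₀] (hF₀ : Fintype.card F₀ = q) (γ : MulAut (Cfsg.PSU n F q)) (hγ : Cfsg.IsGraphAutClassPSU γ) (hγ2 : orderOf γ = 2) :
    ((Even n ∧ Odd q ∧ Nonempty (↥(Cfsg.inndiagPSU n F q ⊓ Subgroup.centralizer {γ}) ≃* Cfsg.PGSp (n / 2) F₀)) → Cfsg.splitClassCount (Cfsg.inndiagPSU n F q) (Cfsg.Inn (Cfsg.PSU n F q)) γ = Nat.gcd (n / 2) (q + 1)) ∧ ((Even n ∧ Odd q ∧ ¬ Nonempty (↥(Cfsg.inndiagPSU n F q ⊓ Subgroup.centralizer {γ}) ≃* Cfsg.PGSp (n / 2) F₀)) → Cfsg.splitClassCount (Cfsg.inndiagPSU n F q) (Cfsg.Inn (Cfsg.PSU n F q)) γ = Nat.gcd n (q + 1) / 2) ∧ (¬ (Even n ∧ Odd q) → Cfsg.splitClassCount (Cfsg.inndiagPSU n F q) (Cfsg.Inn (Cfsg.PSU n F q)) γ = Nat.gcd n (q + 1)) := by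
  classical
  obtain ⟨σ, ι, hσ, hι⟩ := exists_setup hF hF₀
  obtain ⟨N, rfl, ε, hε⟩ := graph_normal_form hF hn hs σ hσ γ hγ hγ2
  obtain ⟨M₀, hR⟩ := exists_rel_of_gu (F₀ := F₀) hF (by omega) σ hσ ι hι N ε hε
  have hε1 := transpose_scalar (by omega) N.1 ε hε
  have hpar : (Even n ∧ Odd q) → ∃ m : ℕ, 2 ≤ m ∧ n = 2 * m ∧ n / 2 = m ∧ (2 : F) ≠ 0 ∧
      2 * ((q + 1) / 2) = q + 1 := by
    rintro ⟨⟨m, hm⟩, hp⟩
    have hodd : Odd (Fintype.card F) := by
      rw [hF]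
      exact hp.pow
    refine ⟨m, by omega, by omega, by omega, two_ne_zero_of_odd_card rfl hodd, ?_⟩
    obtain ⟨k, hk⟩ := hp
    omega
  have hcase : (Even n ∧ Odd q) →
      ((Nonempty (↥(Cfsg.inndiagPSU n F q ⊓ Subgroup.centralizer {gamU σ N}) ≃*
          Cfsg.PGSp (n / 2) F₀) ∧
        Cfsg.splitClassCount (Cfsg.inndiagPSU n F q) (Cfsg.Inn (Cfsg.PSU n F q)) (gamU σ N) =
          Nat.gcd (n / 2) (q + 1)) ∨
      (¬ Nonempty (↥(Cfsg.inndiagPSU n F q ⊓ Subgroup.centralizer {gamU σ N}) ≃*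
          Cfsg.PGSp (n / 2) F₀) ∧
        Cfsg.splitClassCount (Cfsg.inndiagPSU n F q) (Cfsg.Inn (Cfsg.PSU n F q)) (gamU σ N) =
          Nat.gcd n (q + 1) / 2)) := by
    intro hep
    obtain ⟨m, hm2, hnm, hdiv, h2, hq2⟩ := hpar hep
    have hm1 : 1 ≤ m := by omega
    have h2' : (2 : F₀) ≠ 0 := two_ne_zero_sub ι h2
    obtain ⟨e₁⟩ := corr_cent hF hn hs σ hσ ι hι _ _ ⟨N, M₀, hR, rfl, rfl⟩
    rw [hdiv]
    rcases hε1 with h1 | h1
    · right
      rw [h1, one_smul] at hε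
      have hM₀T : (M₀ : Matrix (Fin n) (Fin n) F₀)ᵀ = (M₀ : Matrix (Fin n) (Fin n) F₀) := by
        have := rel_symm_type σ ι N M₀ hR 1 (by
          rw [map_one, one_smul]
          exact hε)
        rw [this, one_smul]
      refine ⟨?_, ?_⟩
      · rintro ⟨e⟩
        exact not_pgsp_of_symm h2' hm1 hnm M₀ hM₀T ⟨e₁.symm.trans e⟩
      · rw [split_psu_symm hF hn hs σ hσ ι hι h2 hep.2 hm1 hnm N hε M₀ hR]
        conv_rhs => rw [hnm, ← hq2, Nat.gcd_mul_left]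
        rw [Nat.mul_div_cancel_left _ (by norm_num : 0 < 2)]
    · left
      rw [h1, neg_one_smul] at hε
      have hM₀T : (M₀ : Matrix (Fin n) (Fin n) F₀)ᵀ = -(M₀ : Matrix (Fin n) (Fin n) F₀) := by
        have := rel_symm_type σ ι N M₀ hR (-1) (by
          rw [map_neg, map_one, neg_one_smul]
          exact hε)
        rw [this, neg_one_smul]
      have halt : ∀ v, bilM (M₀ : Matrix (Fin n) (Fin n) F₀) v v = 0 := alt_of_skew h2' _ hM₀T
      refine ⟨?_, split_psu_skew hF hn hs σ hσ ι hι h2 hm1 hnm N hε M₀ hR⟩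
      obtain ⟨E₂⟩ : Nonempty ((Fin n → F₀) ≃ₗ[F₀] (Fin m ⊕ Fin m → F₀)) :=
        ⟨LinearEquiv.funCongrLeft F₀ F₀ (Fintype.equivOfCardEq (by
          rw [Fintype.card_sum, Fintype.card_fin, Fintype.card_fin]; omega))⟩
      obtain ⟨M₁, hM₁⟩ := exists_symp_gl (n := n) (m := m) E₂
      obtain ⟨g, hg⟩ := alt_classify hnm M₀ halt
      have hconj : Cfsg.IsConjUnder (Cfsg.inndiagPSL n F₀) (gam M₁) (gam M₀) := by
        apply conj_of_form M₁ M₀ (g ≪≫ₗ E₂.symm) (-1) (neg_ne_zero.mpr one_ne_zero)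
        intro u v
        rw [hM₁, hg]
        show Cfsg.sympForm m F₀ (E₂ (E₂.symm (g u))) (E₂ (E₂.symm (g v))) = _
        rw [E₂.apply_symm_apply, E₂.apply_symm_apply]
        ring
      obtain ⟨e₂⟩ := centralizer_conj_iso _ hconj
      obtain ⟨e₃⟩ := centralizer_symp_iso E₂ M₁ hM₁
      exact ⟨(e₁.trans e₂.symm).trans e₃⟩
  refine ⟨?_, ?_, ?_⟩
  · rintro ⟨he, hp, hiso⟩
    rcases hcase ⟨he, hp⟩ with ⟨-, h⟩ | ⟨hno, -⟩
    · exact h
    · exact absurd hiso hno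
  · rintro ⟨he, hp, hno⟩
    rcases hcase ⟨he, hp⟩ with ⟨hiso, -⟩ | ⟨-, h⟩
    · exact absurd hiso hno
    · exact h
  · intro hnot
    apply split_psu_of_pow hF hn hs σ hσ N
    intro h hc
    by_cases hev : Even n
    · have hp2 : p = 2 := by
        have hqe : Even q := by
          rw [← Nat.not_odd_iff_even]
          intro hp
          exact hnot ⟨hev, hp⟩
        rw [hq] at hqe
        have hpe : Even p := (Nat.even_pow.mp hqe).1
        exact ((Nat.Prime.even_iff Fact.out).mp hpe)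
      have h20 : (2 : F) = 0 := by
        have h3 := Nat.cast_card_eq_zero F
        rw [hF, hq, hp2] at h3
        push_cast at h3
        exact pow_eq_zero_iff (by positivity) |>.mp (pow_eq_zero_iff (by norm_num) |>.mp h3)
      haveI : CharP F 2 := CharTwo.of_one_ne_zero_of_two_eq_zero one_ne_zero h20
      obtain ⟨k, hk⟩ := hev
      exact psu_pow_of_char2_even hF hn hs σ hσ N (by omega : n = 2 * k) h hc
    · rw [Nat.not_even_iff_odd] at hev
      obtain ⟨k, hk⟩ := hev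
      exact psu_pow_of_odd hF hn hs σ hσ N hk h hc

end Cfsg.Agent.S2709
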