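import Cfsg.Statements.S2710
import Mathlib
import Cfsg.Agent.Lib_helper14_PsuK
import Cfsg.Agent.Lib_helper13_ReflI
import Cfsg.Agent.Lib_helper14_PslC
-- import your own Cfsg.Agent.* helpers here

set_option autoImplicit false
open Cfsg

namespace Cfsg.Agent.S2710

open Matrix Cfsg.Agent.helper14 Cfsg.Agent.helper14.PsuAut

/-- Let T = PSU_n(q) with n ≥ 4 divisible by 4 (n = 2m) and q odd, realised over the field F with q² elements, G = Inndiag(T) the image of PGU_n(q), and φ the standard field automorphism of T attached to the q-th power map of F (it induces inverse-transpose on the unitary matrices and is a graph automorphism). Its centralizer in G is isomorphic to the projective conformal orthogonal group of the plus-type form Σ xᵢ yᵢ in dimension n over a field F₀ with q elements. (Dimensions n ≡ 2 (mod 4) are not covered.) -/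
theorem result {F : Type*} [Field F] [Fintype F] {q : ℕ} (hodd : Odd q) (hF : Fintype.card F = q ^ 2) {n m : ℕ} (hm : 2 ≤ m) (hnm : n = 2 * m) (h4 : 4 ∣ n) (F₀ : Type*) [Field F₀] [Fintype F₀] (hF₀ : Fintype.card F₀ = q) (σ : F ≃+* F) (hσ : ∀ a : F, σ a = a ^ q) (φ : MulAut (Cfsg.PSU n F q)) (hφ : Cfsg.IsFieldAutPSUOf σ φ) :
    Nonempty (↥(Cfsg.inndiagPSU n F q ⊓ Subgroup.centralizer {φ}) ≃* Cfsg.PGO F₀ (Cfsg.quadFormPlus m F₀)) := by
  classical
  have hn : 3 ≤ n := by omega
  have hs : ¬ (n = 3 ∧ q = 2) := by omega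
  have hord : orderOf σ = 2 := orderOf_invol σ (frob_ne_refl hF σ hσ) (frob_inv hF σ hσ)
  obtain ⟨ι, hι⟩ := exists_embedding σ (r := 2) (by norm_num) hF hord hF₀
  have hφ' : φ = gamU σ 1 := by
    rw [(fieldAut_iff σ φ).mp hφ]
    unfold gamU
    rw [inv_one, map_one, one_mul]
  have hR : Rel σ ι (1 : ↥(Cfsg.GU n F q)) (1 : GL (Fin n) F₀) := by
    refine ⟨1, 1, 1, by rw [Matrix.det_one]; exact one_ne_zero, one_ne_zero, one_ne_zero, ?_, ?_⟩
    · rw [Matrix.transpose_one, Matrix.one_mul, one_smul, Units.val_one,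
        Matrix.map_one _ (map_zero ι) (map_one ι)]
      exact Matrix.map_one _ (map_zero σ) (map_one σ)
    · rw [Matrix.transpose_one, Matrix.one_mul, Matrix.mul_one, one_smul, Units.val_one,
        Matrix.map_one _ (map_zero ι) (map_one ι), gmat_one]
  obtain ⟨e₁⟩ := rel_centralizer_iso hF hn hs σ hσ ι hι 1 1 hR
  have h2 : (2 : F₀) ≠ 0 := Cfsg.Agent.helper13.two_ne_zero_of_odd_card hF₀ hodd
  have h1T : ((1 : GL (Fin n) F₀) : Matrix (Fin n) (Fin n) F₀)ᵀ =
      ((1 : GL (Fin n) F₀) : Matrix (Fin n) (Fin n) F₀) := by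
    rw [Units.val_one, Matrix.transpose_one]
  rw [sim_bilM_eq_quadSim h2 _ h1T] at e₁
  have hmeven : Even m := by
    obtain ⟨k, hk⟩ := h4
    exact ⟨k, by omega⟩
  obtain ⟨g, hg⟩ := sumsq_iso_plus h2 hnm hmeven
  obtain ⟨e₂⟩ := pgo_transfer_lin
    (⇑(QM ((1 : GL (Fin n) F₀) : Matrix (Fin n) (Fin n) F₀))) (Cfsg.quadFormPlus m F₀) g hg
  rw [hφ']
  exact ⟨e₁.trans e₂⟩

end Cfsg.Agent.S2710
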