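import Cfsg.Statements.S2712
import Mathlib
import Cfsg.Agent.Lib_helper14_SpAutT
import Cfsg.Agent.Lib_helper14_SpAutU
import Cfsg.Agent.Lib_helper14_FieldCent
-- import your own Cfsg.Agent.* helpers here

set_option autoImplicit false
open Cfsg

namespace Cfsg.Agent.S2712

open Cfsg.Agent.helper14 Cfsg.Agent.helper14.SpAut

/-- Let T = PSp_{2m}(F) be simple over the field F with p^f elements (m ≥ 2, (2m, |F|) ≠ (4, 2)), G = Inndiag(T) the image of the projective conformal symplectic group PGSp_{2m}(F), and x a field automorphism of T of prime order r. Then r divides f; C_G(x) is isomorphic to PGSp_{2m}(F₀) for a field F₀ with p^(f/r) elements; and the G-class of x is the union of exactly gcd(gcd(2, p^f − 1), r) T-classes. -/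
theorem result {F : Type*} [Field F] [Fintype F] {p f : ℕ} [Fact p.Prime] (hF : Fintype.card F = p ^ f) (hf : 1 ≤ f) {m : ℕ} (hm : 2 ≤ m) (hs : m = 2 → 3 ≤ Fintype.card F) (x : MulAut (Cfsg.PSp m F)) (hx : Cfsg.IsFieldAutClassPSp x) {r : ℕ} (hr : r.Prime) (hxr : orderOf x = r) (F₀ : Type*) [Field F₀] [Fintype F₀] (hF₀ : Fintype.card F₀ = p ^ (f / r)) :
    r ∣ f ∧ Nonempty (↥(Cfsg.inndiagPSp m F ⊓ Subgroup.centralizer {x}) ≃* Cfsg.PGSp m F₀) ∧ Cfsg.splitClassCount (Cfsg.inndiagPSp m F) (Cfsg.Inn (Cfsg.PSp m F)) x = Nat.gcd (Nat.gcd 2 (p ^ f - 1)) r := by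
  have hm1 : 1 ≤ m := by omega
  have hconj : ∀ (a y : MulAut (Cfsg.PSp m F)), orderOf (a * y * a⁻¹) = orderOf y := by
    intro a y
    exact orderOf_injective (MulAut.conj a).toMonoidHom (MulAut.conj a).injective y
  obtain ⟨α, σ, hne, hstd⟩ := hx
  have hx₀ : α * x * α⁻¹ = phiF σ := stdField_unique σ _ hstd
  have hord : orderOf σ = r := by
    rw [← orderOf_phiF hm1 σ, ← hx₀, hconj, hxr]
  have hrf : r ∣ f := by
    rw [← card_ringAut hF, ← hord]
    exact orderOf_dvd_natCard σ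
  have hF' : Fintype.card F = (p ^ (f / r)) ^ r := by
    rw [← pow_mul, Nat.div_mul_cancel hrf]
    exact hF
  obtain ⟨ι, hι⟩ := exists_embedding σ hr.pos hF' hord hF₀
  have hH : ∀ h ∈ Cfsg.inndiagPSp m F, α * h * α⁻¹ ∈ Cfsg.inndiagPSp m F := by
    intro h hh
    rw [inndiagPSp_eq] at hh ⊢
    obtain ⟨d, rfl⟩ := hh
    obtain ⟨d', hd'⟩ := inndiag_normal_sp hm hs α d
    exact ⟨d', hd'.symm⟩
  have hH' : ∀ h ∈ Cfsg.inndiagPSp m F, α⁻¹ * h * α ∈ Cfsg.inndiagPSp m F := by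
    intro h hh
    rw [inndiagPSp_eq] at hh ⊢
    obtain ⟨d, rfl⟩ := hh
    obtain ⟨d', hd'⟩ := inndiag_normal_sp hm hs α⁻¹ d
    rw [inv_inv] at hd'
    exact ⟨d', hd'.symm⟩
  have hK : ∀ h ∈ Cfsg.Inn (Cfsg.PSp m F), α * h * α⁻¹ ∈ Cfsg.Inn (Cfsg.PSp m F) := by
    rintro _ ⟨t, rfl⟩
    exact ⟨α t, (conj_aut α t).symm⟩
  have hK' : ∀ h ∈ Cfsg.Inn (Cfsg.PSp m F), α⁻¹ * h * α ∈ Cfsg.Inn (Cfsg.PSp m F) := by
    rintro _ ⟨t, rfl⟩
    have := conj_aut α⁻¹ t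
    rw [inv_inv] at this
    exact ⟨α⁻¹ t, this.symm⟩
  refine ⟨hrf, ?_, ?_⟩
  · obtain ⟨e⟩ := centralizer_field_iso_sp hm1 σ ι hι
    have e1 : ↥(Cfsg.inndiagPSp m F ⊓ Subgroup.centralizer {x}) ≃*
        ↥(Cfsg.inndiagPSp m F ⊓ Subgroup.centralizer {phiF σ}) := by
      rw [← hx₀]
      exact centralizerNormEquiv (Cfsg.inndiagPSp m F) x α hH hH'
    exact ⟨e1.trans e⟩
  · rw [← splitClassCount_normalizer _ _ α hH hH' hK hK' x, hx₀]
    have hdvd : p ^ (f / r) - 1 ∣ p ^ f - 1 := by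
      have := Nat.sub_dvd_pow_sub_pow (p ^ (f / r)) 1 r
      rw [one_pow, ← pow_mul, Nat.div_mul_cancel hrf] at this
      exact this
    have hL : p ^ f - 1 = ((p ^ f - 1) / (p ^ (f / r) - 1)) * (p ^ (f / r) - 1) :=
      (Nat.div_mul_cancel hdvd).symm
    have hL' : Fintype.card F - 1 =
        ((p ^ f - 1) / (p ^ (f / r) - 1)) * (Fintype.card F₀ - 1) := by
      rw [hF₀, hF]
      exact hL
    rw [field_split_count_sp hm1 σ ι hι _ hL']
    exact gcd_two_geom p f r (Fact.out) hr.pos hrf hf _ hL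

end Cfsg.Agent.S2712
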