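import Cfsg.Statements.S2713
import Mathlib
import Cfsg.Agent.Lib_helper14_SpAutP
-- import your own Cfsg.Agent.* helpers here

set_option autoImplicit false
open Cfsg

namespace Cfsg.Agent.S2713

open Cfsg.Agent.helper14.SpAut

/-- Let T = PSp_{2m}(F) be simple over a finite field (m ≥ 2, (2m, |F|) ≠ (4, 2)) and let x be a field automorphism of T of prime order r. Then an element y of the coset Inndiag(T)·x (y = δ x with δ in the image of the projective conformal symplectic group) has order r if and only if y is conjugate to x by an element of Inndiag(T). -/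
theorem result {F : Type*} [Field F] [Fintype F] {m : ℕ} (hm : 2 ≤ m) (hs : m = 2 → 3 ≤ Fintype.card F) (x δ : MulAut (Cfsg.PSp m F)) (hx : Cfsg.IsFieldAutClassPSp x) {r : ℕ} (hr : r.Prime) (hxr : orderOf x = r) (hδ : δ ∈ Cfsg.inndiagPSp m F) :
    orderOf (δ * x) = r ↔ Cfsg.IsConjUnder (Cfsg.inndiagPSp m F) x (δ * x) := by
  have hm1 : 1 ≤ m := by omega
  have hconj : ∀ (a y : MulAut (Cfsg.PSp m F)), orderOf (a * y * a⁻¹) = orderOf y := by
    intro a y
    exact orderOf_injective (MulAut.conj a).toMonoidHom (MulAut.conj a).injective y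
  rw [inndiagPSp_eq] at hδ ⊢
  obtain ⟨d, rfl⟩ := hδ
  obtain ⟨α, σ, hne, hstd⟩ := hx
  have hx₀ : α * x * α⁻¹ = phiF σ := stdField_unique σ _ hstd
  constructor
  · intro ho
    obtain ⟨d', hd'⟩ := inndiag_normal_sp hm hs α d
    have h1 : α * (PhiG d * x) * α⁻¹ = PhiG d' * phiF σ := by
      rw [← hd', ← hx₀]
      group
    have hord : orderOf (phiF σ : MulAut (Cfsg.PSp m F)) = r := by
      rw [← hx₀, hconj, hxr]
    rw [orderOf_phiF hm1] at hord
    have h2 : orderOf (PhiG d' * phiF σ) = orderOf σ := by rw [← h1, hconj, ho, hord]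
    obtain ⟨h, hh⟩ := field_conj_sp hm1 σ d' h2
    obtain ⟨h', hh'⟩ := inndiag_normal_sp hm hs α⁻¹ h
    refine ⟨PhiG h', ⟨h', rfl⟩, ?_⟩
    rw [← hh', inv_inv]
    calc PhiG d * x = α⁻¹ * (α * (PhiG d * x) * α⁻¹) * α := by group
      _ = α⁻¹ * (PhiG h * (α * x * α⁻¹) * (PhiG h)⁻¹) * α := by rw [h1, hh, hx₀]
      _ = _ := by group
  · rintro ⟨h, -, hh⟩
    rw [hh, hconj, hxr]

end Cfsg.Agent.S2713
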