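import Cfsg.Statements.S2718
import Mathlib
import Cfsg.Agent.Lib_helper14_SplitA
import Cfsg.Agent.Lib_helper14_SplitC0
import Cfsg.Agent.Lib_helper14_InnDiagE
import Cfsg.Agent.Lib_helper13_AutO8
import Cfsg.Agent.Lib_helper13_AutO6
import Cfsg.Agent.Lib_helper13_QStd
import Cfsg.Agent.Lib_helper13_ReflI
import Cfsg.Agent.Lib_helper13_MaxTS2
import Cfsg.Agent.S0790
-- import your own Cfsg.Agent.* helpers here

set_option autoImplicit false
open Cfsg

namespace Cfsg.Agent.S2718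


open Matrix QuadraticMap Cfsg.Agent.helper13 Cfsg.Agent.helper14

theorem aux {F : Type*} [Field F] [Fintype F] (hodd : Odd (Fintype.card F)) {m : ℕ} (hm : 4 ≤ m)
    (Qf : (Fin m ⊕ Fin m → F) → F) (hQf : Qf = Cfsg.quadFormPlus m F)
    (γ : MulAut (Cfsg.POmega F Qf))
    (hγ : ∃ g : GL (Fin m ⊕ Fin m) F, g ∈ Cfsg.Geo.quadSimilarityGroup (F := F) Qf ∧
      ¬ Cfsg.PreservesSingularClasses Qf (g : Matrix (Fin m ⊕ Fin m) (Fin m ⊕ Fin m) F) ∧
      Cfsg.IsInducedBySemilinearPOmega Qf g (RingEquiv.refl F) γ)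
    (hγ2 : orderOf γ = 2) :
    (Cfsg.splitClassCount (Cfsg.autSubgroupOf (fun β : Cfsg.POmega F Qf ≃* Cfsg.POmega F Qf =>
      ∃ g : GL (Fin m ⊕ Fin m) F, g ∈ Cfsg.Geo.quadSimilarityGroup (F := F) Qf ∧
        Cfsg.PreservesSingularClasses Qf (g : Matrix (Fin m ⊕ Fin m) (Fin m ⊕ Fin m) F) ∧
        Cfsg.IsInducedBySemilinearPOmega Qf g (RingEquiv.refl F) β))
        (Cfsg.Inn (Cfsg.POmega F Qf)) γ = 1 ∨
      Cfsg.splitClassCount (Cfsg.autSubgroupOf (fun β : Cfsg.POmega F Qf ≃* Cfsg.POmega F Qf =>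
      ∃ g : GL (Fin m ⊕ Fin m) F, g ∈ Cfsg.Geo.quadSimilarityGroup (F := F) Qf ∧
        Cfsg.PreservesSingularClasses Qf (g : Matrix (Fin m ⊕ Fin m) (Fin m ⊕ Fin m) F) ∧
        Cfsg.IsInducedBySemilinearPOmega Qf g (RingEquiv.refl F) β))
        (Cfsg.Inn (Cfsg.POmega F Qf)) γ = 2) ∧
    (¬ (Odd m ∧ Fintype.card F % 4 = 3) →
      Cfsg.splitClassCount (Cfsg.autSubgroupOf (fun β : Cfsg.POmega F Qf ≃* Cfsg.POmega F Qf =>
      ∃ g : GL (Fin m ⊕ Fin m) F, g ∈ Cfsg.Geo.quadSimilarityGroup (F := F) Qf ∧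
        Cfsg.PreservesSingularClasses Qf (g : Matrix (Fin m ⊕ Fin m) (Fin m ⊕ Fin m) F) ∧
        Cfsg.IsInducedBySemilinearPOmega Qf g (RingEquiv.refl F) β))
        (Cfsg.Inn (Cfsg.POmega F Qf)) γ = 2) := by
  classical
  obtain rfl : Qf = ⇑(QPlus F m) := hQf.trans (QPlus_coe F m).symm
  have h2 : (2 : F) ≠ 0 := two_ne_zero_of_odd_card rfl hodd
  have hcard : Fintype.card (Fin m ⊕ Fin m) = 2 * m := by
    rw [Fintype.card_sum, Fintype.card_fin]
    ring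
  have hn : 7 ≤ Fintype.card (Fin m ⊕ Fin m) := by rw [hcard]; omega
  have key := Cfsg.Agent.S0790.result (F := F) rfl hodd m (by omega)
  obtain ⟨ν, hν⟩ := FiniteField.exists_nonsquare (ringChar_ne_two_of (F := F) h2)
  have hν0 : ν ≠ 0 := by
    rintro rfl
    exact hν ⟨0, by ring⟩
  obtain ⟨νu, hνu⟩ : ∃ νu : Fˣ, (νu : F) = ν := ⟨Units.mk0 ν hν0, rfl⟩
  rw [← QPlus_coe F m] at key
  have hQ := QPlus_nondeg (F := F) m
  have hv := exists_QPlus_ne (F := F) m (by omega)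
  have hpres := fun g => preserves_plus_iff h2 m (by omega) hv g
  rw [autSubgroup_eq_innDiagGen (QPlus F m) h2 hQ hv m hcard
    (fun M => Cfsg.PreservesSingularClasses (⇑(QPlus F m)) M) hpres]
  have hiff : negIso (QPlus F m) ∈ commutator ↥(Cfsg.isometryGroup F ⇑(QPlus F m)) ↔
      Fintype.card F ^ m % 4 = 1 := by
    rw [← key]
    constructor
    · intro h
      exact ⟨negIso _, h, negIso_val _⟩
    · rintro ⟨g, hg, hgm⟩
      have : g = negIso (QPlus F m) :=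
        Subtype.ext (Units.ext (hgm.trans (negIso_val (QPlus F m)).symm))
      rwa [← this]
  have hpow := pow_mod_four_ite (Fintype.card F) m hodd
  have hsim : ∃ g : ↥(Cfsg.Geo.quadSimilarityGroup (⇑(QPlus F m))),
      ¬ IsSquare ((muFun (QPlus F m) g : Fˣ) : F) := by
    refine ⟨dSimPlus m νu, ?_⟩
    rw [muFun_dSimPlus m (by omega), hνu]
    exact hν
  -- the similarity inducing γ
  obtain ⟨g₀, hg₀sim, hg₀pres, hg₀ind⟩ := hγ
  obtain ⟨g, hg⟩ : ∃ g : ↥(Cfsg.Geo.quadSimilarityGroup (⇑(QPlus F m))), g = ⟨g₀, hg₀sim⟩ :=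
    ⟨_, rfl⟩
  have hγg : γ = PhiO (⇑(QPlus F m)) g := by
    rw [← induced_iff, hg]
    exact hg₀ind
  have hε : epsHom (QPlus F m) hv m g ≠ 1 := by
    intro h
    apply hg₀pres
    have h' := (hpres g).mpr h
    rw [hg] at h'
    exact h'
  have hgg : PhiO (⇑(QPlus F m)) (g * g) = 1 := by
    rw [map_mul, ← hγg, ← pow_two, ← hγ2]
    exact pow_orderOf_eq_one γ
  have hKH : Cfsg.Inn (Cfsg.POmega F (⇑(QPlus F m))) ≤ innDiagGen (QPlus F m) h2 hQ hv m hcard :=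
    le_trans (inn_le_pso (QPlus F m) h2 hQ) (pso_le_innDiagGen (QPlus F m) h2 hQ hv m hcard)
  have hHA := innDiagGen_le_pgo (QPlus F m) h2 hQ hv m hcard
  have hnorm : ∀ a ∈ Cfsg.pgoAut F (⇑(QPlus F m)),
      ∀ k ∈ Cfsg.Inn (Cfsg.POmega F (⇑(QPlus F m))),
      a * k * a⁻¹ ∈ Cfsg.Inn (Cfsg.POmega F (⇑(QPlus F m))) :=
    fun a _ k hk => (Cfsg.innNormal _).conj_mem k hk a
  have hxA : γ ∈ Cfsg.pgoAut F (⇑(QPlus F m)) := by
    rw [pgoAut_eq, hγg]
    exact ⟨g, rfl⟩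
  have hxH : γ ∉ innDiagGen (QPlus F m) h2 hQ hv m hcard := by
    rw [hγg]
    exact PhiO_not_mem_innDiagGen (QPlus F m) h2 hQ hn hv m hcard g hε
  obtain ⟨hidx2, hidx4⟩ := relIndex_inn_innDiagGen (QPlus F m) h2 hQ hn hv m hcard hsim
  by_cases hneg : negIso (QPlus F m) ∈ commutator ↥(Cfsg.isometryGroup F ⇑(QPlus F m))
  · -- exactly two classes
    have hcount : Cfsg.splitClassCount (innDiagGen (QPlus F m) h2 hQ hv m hcard)
        (Cfsg.Inn (Cfsg.POmega F (⇑(QPlus F m)))) γ = 2 := by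
      obtain ⟨φ, hφs, hφk⟩ := d8_main (QPlus F m) h2 hQ hn m hcard hsim hneg
      obtain ⟨u, v, hu, hv', hns, hcomm⟩ := exists_centralizing (QPlus F m) h2 hQ hn hv m hcard
        (by omega) (stdU_mts F m) hpres g hgg hε
      refine split_two_of_d8 (Cfsg.pgoAut F (⇑(QPlus F m))) _ _ hKH hHA hnorm γ hxA hxH
        (index_innDiagGen_pgo (QPlus F m) h2 hQ hn hv m hcard) φ hφs hφk (hidx4 hneg)
        (PhiO (⇑(QPlus F m)) (inclO (QPlus F m)
          (reflG (QPlus F m) u hu * reflG (QPlus F m) v hv')))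
        (PhiO_pair_mem_innDiagGen (QPlus F m) h2 hQ hv m hcard u v hu hv') ?_
        (PhiO_pair_not_inn (QPlus F m) h2 hQ hn hneg u v hu hv' hns)
      rw [hγg, ← map_mul, ← map_mul, hcomm]
    exact ⟨Or.inr hcount, fun _ => hcount⟩
  · constructor
    · exact split_le_two_of_index _ _ hKH (fun h hh k hk => hnorm h (hHA hh) k hk) γ
        (hidx2 hneg)
    · intro hc
      exfalso
      apply hneg
      rw [hiff, hpow, if_neg hc]

/-- Let T = PΩ⁺_{2m}(F) with m ≥ 4 and |F| = q odd, G = Inndiag(T), and γ an involutory graph automorphism of T induced by a similarity (one interchanging the two classes of maximal totally singular subspaces). Then the G-class of γ is either a single T-class or the union of exactly two T-classes, and it is the union of two unless m is odd and q ≡ 3 (mod 4). -/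
theorem result {F : Type*} [Field F] [Fintype F] (hodd : Odd (Fintype.card F)) {m : ℕ} (hm : 4 ≤ m) (γ : MulAut (Cfsg.POmega F (Cfsg.quadFormPlus m F))) (hγ : Cfsg.IsSimilarityGraphAutPOmegaPlus m γ) (hγ2 : orderOf γ = 2) :
    (Cfsg.splitClassCount (Cfsg.inndiagPOmegaPlus m F) (Cfsg.Inn (Cfsg.POmega F (Cfsg.quadFormPlus m F))) γ = 1 ∨ Cfsg.splitClassCount (Cfsg.inndiagPOmegaPlus m F) (Cfsg.Inn (Cfsg.POmega F (Cfsg.quadFormPlus m F))) γ = 2) ∧ (¬ (Odd m ∧ Fintype.card F % 4 = 3) → Cfsg.splitClassCount (Cfsg.inndiagPOmegaPlus m F) (Cfsg.Inn (Cfsg.POmega F (Cfsg.quadFormPlus m F))) γ = 2) := by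
  exact aux hodd hm _ rfl γ hγ hγ2

end Cfsg.Agent.S2718
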