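import Cfsg.Statements.S2722
import Cfsg.Agent.Lib_helper13_AutO6
import Cfsg.Agent.Lib_helper13_ReflI

set_option autoImplicit false
open Cfsg

namespace Cfsg.Agent.S2722

open Matrix QuadraticMap Cfsg.Agent.helper13


/-- Let T = PΩ⁺_{2m}(F) with m ≥ 4 and |F| = q odd. Inside Aut(T), the image G̃ of the conformal orthogonal group of the form modulo the image of the special orthogonal group is elementary abelian of order 4. -/
theorem result {F : Type*} [Field F] [Fintype F] (hodd : Odd (Fintype.card F)) {m : ℕ} (hm : 4 ≤ m) :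
    (∃ φ : ↥(Cfsg.pgoAut F (Cfsg.quadFormPlus m F)) →* Multiplicative (ZMod 2 × ZMod 2), Function.Surjective φ ∧ φ.ker = (Cfsg.psoAut F (Cfsg.quadFormPlus m F)).subgroupOf (Cfsg.pgoAut F (Cfsg.quadFormPlus m F))) := by
  classical
  have h2 : (2 : F) ≠ 0 := two_ne_zero_of_odd_card rfl hodd
  have hcard : Fintype.card (Fin m ⊕ Fin m) = 2 * m := by
    rw [Fintype.card_sum, Fintype.card_fin]
    ring
  obtain ⟨ν, hν⟩ := FiniteField.exists_nonsquare (ringChar_ne_two_of (F := F) h2)
  have hν0 : ν ≠ 0 := by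
    rintro rfl
    exact hν ⟨0, by ring⟩
  obtain ⟨g, hg⟩ := exists_sim_plus (F := F) m (by omega) ν hν0
  rw [← QPlus_coe F m]
  exact klein_main (QPlus F m) h2 (QPlus_nondeg m) (by rw [hcard]; omega) m hcard
    ⟨g, by rw [hg]; exact hν⟩

end Cfsg.Agent.S2722
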