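import Cfsg.Statements.S2723
import Cfsg.Agent.Lib_helper13_AutO7
import Cfsg.Agent.Lib_helper13_QStd
import Cfsg.Agent.Lib_helper13_ReflI
import Cfsg.Agent.S0790

set_option autoImplicit false
open Cfsg

namespace Cfsg.Agent.S2723

open Matrix QuadraticMap Cfsg.Agent.helper13


/-- Let T = PΩ⁺_{2m}(F) with m ≥ 4 and |F| = q odd. The image of the special orthogonal group in Aut(T) contains the inner automorphism group T with index 1 (they coincide) when m is odd and q ≡ 3 (mod 4), and with index 2 otherwise (the index is 2 exactly when the discriminant of the form is a square). -/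
theorem result {F : Type*} [Field F] [Fintype F] (hodd : Odd (Fintype.card F)) {m : ℕ} (hm : 4 ≤ m) :
    ((Odd m ∧ Fintype.card F % 4 = 3) → (Cfsg.Inn (Cfsg.POmega F (Cfsg.quadFormPlus m F))).relIndex (Cfsg.psoAut F (Cfsg.quadFormPlus m F)) = 1) ∧ (¬ (Odd m ∧ Fintype.card F % 4 = 3) → (Cfsg.Inn (Cfsg.POmega F (Cfsg.quadFormPlus m F))).relIndex (Cfsg.psoAut F (Cfsg.quadFormPlus m F)) = 2) := by
  classical
  have h2 : (2 : F) ≠ 0 := two_ne_zero_of_odd_card rfl hodd
  have hcard : Fintype.card (Fin m ⊕ Fin m) = 2 * m := by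
    rw [Fintype.card_sum, Fintype.card_fin]
    ring
  have hn : 7 ≤ Fintype.card (Fin m ⊕ Fin m) := by rw [hcard]; omega
  have heven : Even (Fintype.card (Fin m ⊕ Fin m)) := by rw [hcard]; exact ⟨m, by ring⟩
  have key := Cfsg.Agent.S0790.result (F := F) rfl hodd m (by omega)
  rw [← QPlus_coe F m] at key ⊢
  have hQ := QPlus_nondeg (F := F) m
  have hiff : negIso (QPlus F m) ∈ commutator ↥(Cfsg.isometryGroup F ⇑(QPlus F m)) ↔
      Fintype.card F ^ m % 4 = 1 := by
    rw [← key]
    constructor
    · intro h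
      exact ⟨negIso _, h, negIso_val _⟩
    · rintro ⟨g, hg, hgm⟩
      have : g = negIso (QPlus F m) :=
        Subtype.ext (Units.ext (hgm.trans (negIso_val (QPlus F m)).symm))
      rwa [← this]
  have hpow := pow_mod_four_ite (Fintype.card F) m hodd
  constructor
  · intro hc
    apply relIndex_eq_one_of (QPlus F m) h2 hQ hn heven
    rw [hiff, hpow, if_pos hc]
    omega
  · intro hc
    apply relIndex_eq_two_of (QPlus F m) h2 hQ hn
    rw [hiff, hpow, if_neg hc]

end Cfsg.Agent.S2723
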