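import Cfsg.Statements.S2724
import Cfsg.Agent.Lib_helper13_AutO8
import Cfsg.Agent.Lib_helper13_AutO6
import Cfsg.Agent.Lib_helper13_QStd
import Cfsg.Agent.Lib_helper13_ReflI
import Cfsg.Agent.S0790

set_option autoImplicit false
open Cfsg

namespace Cfsg.Agent.S2724

open Matrix QuadraticMap Cfsg.Agent.helper13


/-- Let T = PΩ⁺_{2m}(F) with m ≥ 4 and |F| = q odd. The image G̃ of the conformal orthogonal group in Aut(T), taken modulo the inner automorphism group T, is elementary abelian of order 4 when m is odd and q ≡ 3 (mod 4), and dihedral of order 8 otherwise. -/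
theorem result {F : Type*} [Field F] [Fintype F] (hodd : Odd (Fintype.card F)) {m : ℕ} (hm : 4 ≤ m) :
    ((Odd m ∧ Fintype.card F % 4 = 3) → (∃ φ : ↥(Cfsg.pgoAut F (Cfsg.quadFormPlus m F)) →* Multiplicative (ZMod 2 × ZMod 2), Function.Surjective φ ∧ φ.ker = (Cfsg.Inn (Cfsg.POmega F (Cfsg.quadFormPlus m F))).subgroupOf (Cfsg.pgoAut F (Cfsg.quadFormPlus m F)))) ∧ (¬ (Odd m ∧ Fintype.card F % 4 = 3) → (∃ φ : ↥(Cfsg.pgoAut F (Cfsg.quadFormPlus m F)) →* DihedralGroup 4, Function.Surjective φ ∧ φ.ker = (Cfsg.Inn (Cfsg.POmega F (Cfsg.quadFormPlus m F))).subgroupOf (Cfsg.pgoAut F (Cfsg.quadFormPlus m F)))) := by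
  classical
  have h2 : (2 : F) ≠ 0 := two_ne_zero_of_odd_card rfl hodd
  have hcard : Fintype.card (Fin m ⊕ Fin m) = 2 * m := by
    rw [Fintype.card_sum, Fintype.card_fin]
    ring
  have hn : 7 ≤ Fintype.card (Fin m ⊕ Fin m) := by rw [hcard]; omega
  have key := Cfsg.Agent.S0790.result (F := F) rfl hodd m (by omega)
  obtain ⟨ν, hν⟩ := FiniteField.exists_nonsquare (ringChar_ne_two_of (F := F) h2)
  have hν0 : ν ≠ 0 := by
    rintro rfl
    exact hν ⟨0, by ring⟩
  obtain ⟨g, hg⟩ := exists_sim_plus (F := F) m (by omega) ν hν0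
  have hsim : ∃ g : ↥(Cfsg.Geo.quadSimilarityGroup (⇑(QPlus F m))),
      ¬ IsSquare ((muFun (QPlus F m) g : Fˣ) : F) := ⟨g, by rw [hg]; exact hν⟩
  rw [← QPlus_coe F m] at key ⊢
  have hQ := QPlus_nondeg (F := F) m
  have hiff : negIso (QPlus F m) ∈ commutator ↥(Cfsg.isometryGroup F ⇑(QPlus F m)) ↔
      Fintype.card F ^ m % 4 = 1 := by
    rw [← key]
    constructor
    · intro h
      exact ⟨negIso _, h, negIso_val _⟩
    · rintro ⟨g, hg, hgm⟩
      have : g = negIso (QPlus F m) :=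
        Subtype.ext (Units.ext (hgm.trans (negIso_val (QPlus F m)).symm))
      rwa [← this]
  have hpow := pow_mod_four_ite (Fintype.card F) m hodd
  constructor
  · intro hc
    apply klein_inn (QPlus F m) h2 hQ hn m hcard hsim
    rw [hiff, hpow, if_pos hc]
    omega
  · intro hc
    apply d8_main (QPlus F m) h2 hQ hn m hcard hsim
    rw [hiff, hpow, if_neg hc]

end Cfsg.Agent.S2724
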