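import Cfsg.Statements.S2725
import Mathlib
import Cfsg.Agent.Lib_helper14_InnDiagE
import Cfsg.Agent.Lib_helper13_AutO8
import Cfsg.Agent.Lib_helper13_AutO6
import Cfsg.Agent.Lib_helper13_QStd
import Cfsg.Agent.Lib_helper13_ReflI
import Cfsg.Agent.S0790
-- import your own Cfsg.Agent.* helpers here

set_option autoImplicit false
open Cfsg

namespace Cfsg.Agent.S2725

open Matrix QuadraticMap Cfsg.Agent.helper13 Cfsg.Agent.helper14

theorem aux {F : Type*} [Field F] [Fintype F] (hodd : Odd (Fintype.card F)) {m : ℕ} (hm : 4 ≤ m)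
    (Qf : (Fin m ⊕ Fin m → F) → F) (hQf : Qf = Cfsg.quadFormPlus m F) :
    ((Odd m ∧ Fintype.card F % 4 = 3) → (∃ φ : ↥(Cfsg.autSubgroupOf (fun β : Cfsg.POmega F Qf ≃* Cfsg.POmega F Qf =>
      ∃ g : GL (Fin m ⊕ Fin m) F, g ∈ Cfsg.Geo.quadSimilarityGroup (F := F) Qf ∧
        Cfsg.PreservesSingularClasses Qf (g : Matrix (Fin m ⊕ Fin m) (Fin m ⊕ Fin m) F) ∧
        Cfsg.IsInducedBySemilinearPOmega Qf g (RingEquiv.refl F) β)) →* Multiplicative (ZMod 2), Function.Surjective φ ∧ φ.ker = (Cfsg.Inn (Cfsg.POmega F Qf)).subgroupOf (Cfsg.autSubgroupOf (fun β : Cfsg.POmega F Qf ≃* Cfsg.POmega F Qf =>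
      ∃ g : GL (Fin m ⊕ Fin m) F, g ∈ Cfsg.Geo.quadSimilarityGroup (F := F) Qf ∧
        Cfsg.PreservesSingularClasses Qf (g : Matrix (Fin m ⊕ Fin m) (Fin m ⊕ Fin m) F) ∧
        Cfsg.IsInducedBySemilinearPOmega Qf g (RingEquiv.refl F) β)))) ∧
    ((Odd m ∧ Fintype.card F % 4 = 1) → (∃ φ : ↥(Cfsg.autSubgroupOf (fun β : Cfsg.POmega F Qf ≃* Cfsg.POmega F Qf =>
      ∃ g : GL (Fin m ⊕ Fin m) F, g ∈ Cfsg.Geo.quadSimilarityGroup (F := F) Qf ∧
        Cfsg.PreservesSingularClasses Qf (g : Matrix (Fin m ⊕ Fin m) (Fin m ⊕ Fin m) F) ∧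
        Cfsg.IsInducedBySemilinearPOmega Qf g (RingEquiv.refl F) β)) →* Multiplicative (ZMod 4), Function.Surjective φ ∧ φ.ker = (Cfsg.Inn (Cfsg.POmega F Qf)).subgroupOf (Cfsg.autSubgroupOf (fun β : Cfsg.POmega F Qf ≃* Cfsg.POmega F Qf =>
      ∃ g : GL (Fin m ⊕ Fin m) F, g ∈ Cfsg.Geo.quadSimilarityGroup (F := F) Qf ∧
        Cfsg.PreservesSingularClasses Qf (g : Matrix (Fin m ⊕ Fin m) (Fin m ⊕ Fin m) F) ∧
        Cfsg.IsInducedBySemilinearPOmega Qf g (RingEquiv.refl F) β)))) ∧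
    (Even m → (∃ φ : ↥(Cfsg.autSubgroupOf (fun β : Cfsg.POmega F Qf ≃* Cfsg.POmega F Qf =>
      ∃ g : GL (Fin m ⊕ Fin m) F, g ∈ Cfsg.Geo.quadSimilarityGroup (F := F) Qf ∧
        Cfsg.PreservesSingularClasses Qf (g : Matrix (Fin m ⊕ Fin m) (Fin m ⊕ Fin m) F) ∧
        Cfsg.IsInducedBySemilinearPOmega Qf g (RingEquiv.refl F) β)) →* Multiplicative (ZMod 2 × ZMod 2), Function.Surjective φ ∧ φ.ker = (Cfsg.Inn (Cfsg.POmega F Qf)).subgroupOf (Cfsg.autSubgroupOf (fun β : Cfsg.POmega F Qf ≃* Cfsg.POmega F Qf =>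
      ∃ g : GL (Fin m ⊕ Fin m) F, g ∈ Cfsg.Geo.quadSimilarityGroup (F := F) Qf ∧
        Cfsg.PreservesSingularClasses Qf (g : Matrix (Fin m ⊕ Fin m) (Fin m ⊕ Fin m) F) ∧
        Cfsg.IsInducedBySemilinearPOmega Qf g (RingEquiv.refl F) β)))) := by
  classical
  obtain rfl : Qf = ⇑(QPlus F m) := hQf.trans (QPlus_coe F m).symm
  have h2 : (2 : F) ≠ 0 := two_ne_zero_of_odd_card rfl hodd
  have hcard : Fintype.card (Fin m ⊕ Fin m) = 2 * m := by
    rw [Fintype.card_sum, Fintype.card_fin]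
    ring
  have hn : 7 ≤ Fintype.card (Fin m ⊕ Fin m) := by rw [hcard]; omega
  have key := Cfsg.Agent.S0790.result (F := F) rfl hodd m (by omega)
  obtain ⟨ν, hν⟩ := FiniteField.exists_nonsquare (ringChar_ne_two_of (F := F) h2)
  have hν0 : ν ≠ 0 := by
    rintro rfl
    exact hν ⟨0, by ring⟩
  obtain ⟨νu, hνu⟩ : ∃ νu : Fˣ, (νu : F) = ν := ⟨Units.mk0 ν hν0, rfl⟩
  rw [← QPlus_coe F m] at key
  have hQ := QPlus_nondeg (F := F) m
  have hv := exists_QPlus_ne (F := F) m (by omega)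
  rw [autSubgroup_eq_innDiagGen (QPlus F m) h2 hQ hv m hcard
    (fun M => Cfsg.PreservesSingularClasses (⇑(QPlus F m)) M)
    (fun g => preserves_plus_iff h2 m (by omega) hv g)]
  have hiff : negIso (QPlus F m) ∈ commutator ↥(Cfsg.isometryGroup F ⇑(QPlus F m)) ↔
      Fintype.card F ^ m % 4 = 1 := by
    rw [← key]
    constructor
    · intro h
      exact ⟨negIso _, h, negIso_val _⟩
    · rintro ⟨g, hg, hgm⟩
      have : g = negIso (QPlus F m) :=
        Subtype.ext (Units.ext (hgm.trans (negIso_val (QPlus F m)).symm))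
      rwa [← this]
  have hpow := pow_mod_four_ite (Fintype.card F) m hodd
  have hhε : epsHom (QPlus F m) hv m (dSimPlus m νu) = 1 := by
    rw [epsHom_eq_one_iff, det_dSimPlus, muFun_dSimPlus m (by omega)]
  have hhμ : ¬ IsSquare ((muFun (QPlus F m) (dSimPlus m νu) : Fˣ) : F) := by
    rw [muFun_dSimPlus m (by omega), hνu]
    exact hν
  obtain ⟨hA, hB, hC⟩ := innDiagGen_main (QPlus F m) h2 hQ hn hv m hcard (dSimPlus m νu) hhε hhμ
  have hνu' : ¬ IsSquare (νu : F) := by rw [hνu]; exact hν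
  refine ⟨?_, ?_, ?_⟩
  · intro hc
    apply hA
    rw [hiff, hpow, if_pos hc]
    omega
  · intro hc
    have hneg : negIso (QPlus F m) ∈ commutator ↥(Cfsg.isometryGroup F ⇑(QPlus F m)) := by
      rw [hiff, hpow, if_neg (by omega)]
    apply hB hneg
    rw [PhiO_dSimPlus_sq_mem_iff h2 m hm hneg νu hνu']
    exact Nat.not_even_iff_odd.mpr hc.1
  · intro hc
    have hneg : negIso (QPlus F m) ∈ commutator ↥(Cfsg.isometryGroup F ⇑(QPlus F m)) := by
      rw [hiff, hpow, if_neg (fun h => Nat.not_even_iff_odd.mpr h.1 hc)]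
    apply hC hneg
    rw [PhiO_dSimPlus_sq_mem_iff h2 m hm hneg νu hνu']
    exact hc

/-- Let T = PΩ⁺_{2m}(F) with m ≥ 4 and |F| = q odd. The inner-diagonal group G = Inndiag(T) (image of the class-preserving similarities) taken modulo the inner automorphism group T is cyclic of order 2 when m is odd and q ≡ 3 (mod 4), cyclic of order 4 when m is odd and q ≡ 1 (mod 4), and elementary abelian of order 4 when m is even. -/
theorem result {F : Type*} [Field F] [Fintype F] (hodd : Odd (Fintype.card F)) {m : ℕ} (hm : 4 ≤ m) :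
    ((Odd m ∧ Fintype.card F % 4 = 3) → (∃ φ : ↥(Cfsg.inndiagPOmegaPlus m F) →* Multiplicative (ZMod 2), Function.Surjective φ ∧ φ.ker = (Cfsg.Inn (Cfsg.POmega F (Cfsg.quadFormPlus m F))).subgroupOf (Cfsg.inndiagPOmegaPlus m F))) ∧ ((Odd m ∧ Fintype.card F % 4 = 1) → (∃ φ : ↥(Cfsg.inndiagPOmegaPlus m F) →* Multiplicative (ZMod 4), Function.Surjective φ ∧ φ.ker = (Cfsg.Inn (Cfsg.POmega F (Cfsg.quadFormPlus m F))).subgroupOf (Cfsg.inndiagPOmegaPlus m F))) ∧ (Even m → (∃ φ : ↥(Cfsg.inndiagPOmegaPlus m F) →* Multiplicative (ZMod 2 × ZMod 2), Function.Surjective φ ∧ φ.ker = (Cfsg.Inn (Cfsg.POmega F (Cfsg.quadFormPlus m F))).subgroupOf (Cfsg.inndiagPOmegaPlus m F))) := by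
  exact aux hodd hm _ rfl

end Cfsg.Agent.S2725
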