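import Cfsg.Statements.S2727
import Cfsg.Agent.Lib_helper13_AutO7
import Cfsg.Agent.Lib_helper13_QStd
import Cfsg.Agent.Lib_helper13_OrthG
import Cfsg.Agent.Lib_helper13_ReflI
import Cfsg.Agent.S0791

set_option autoImplicit false
open Cfsg

namespace Cfsg.Agent.S2727

open Matrix QuadraticMap Cfsg.Agent.helper13


/-- Let T = PΩ⁻_{2m+2}(F) with m ≥ 3 and |F| = q odd (form with anisotropic binary part). The image of the special orthogonal group in Aut(T) contains the inner automorphism group T with index 2 when m is even and q ≡ 3 (mod 4), and coincides with it otherwise (the index is 2 exactly when the discriminant of the form is a square). -/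
theorem result {F : Type*} [Field F] [Fintype F] (hodd : Odd (Fintype.card F)) {m : ℕ} (hm : 3 ≤ m) (a b : F) (hab : (∀ z₁ z₂ : F, z₁ ^ 2 + a * z₁ * z₂ + b * z₂ ^ 2 = 0 → z₁ = 0 ∧ z₂ = 0)) :
    ((Even m ∧ Fintype.card F % 4 = 3) → (Cfsg.Inn (Cfsg.POmega F (Cfsg.quadFormMinus m F a b))).relIndex (Cfsg.psoAut F (Cfsg.quadFormMinus m F a b)) = 2) ∧ (¬ (Even m ∧ Fintype.card F % 4 = 3) → (Cfsg.Inn (Cfsg.POmega F (Cfsg.quadFormMinus m F a b))).relIndex (Cfsg.psoAut F (Cfsg.quadFormMinus m F a b)) = 1) := by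
  classical
  have h2 : (2 : F) ≠ 0 := two_ne_zero_of_odd_card rfl hodd
  have hcard : Fintype.card ((Fin m ⊕ Fin m) ⊕ Fin 2) = 2 * (m + 1) := by
    rw [Fintype.card_sum, Fintype.card_sum, Fintype.card_fin, Fintype.card_fin]
    ring
  have hn : 7 ≤ Fintype.card ((Fin m ⊕ Fin m) ⊕ Fin 2) := by rw [hcard]; omega
  have heven : Even (Fintype.card ((Fin m ⊕ Fin m) ⊕ Fin 2)) := by
    rw [hcard]; exact ⟨m + 1, by ring⟩
  have key : (∃ g : ↥(Cfsg.isometryGroup F (Cfsg.quadFormMinus m F a b)),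
      g ∈ Cfsg.Omega F (Cfsg.quadFormMinus m F a b) ∧
      ((g : Matrix.GeneralLinearGroup ((Fin m ⊕ Fin m) ⊕ Fin 2) F) :
        Matrix ((Fin m ⊕ Fin m) ⊕ Fin 2) ((Fin m ⊕ Fin m) ⊕ Fin 2) F) = -1) ↔
      Fintype.card F ^ (m + 1) % 4 = 3 :=
    Cfsg.Agent.S0791.result (F := F) rfl hodd (m + 1) (by omega) a b hab
  rw [← QMinus_coe F m a b] at key ⊢
  have hQ := QMinus_nondeg (F := F) m a b (disc_ne_zero_of_aniso a b hab)
  have hiff : negIso (QMinus F m a b) ∈ commutator ↥(Cfsg.isometryGroup F ⇑(QMinus F m a b)) ↔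
      Fintype.card F ^ (m + 1) % 4 = 3 := by
    rw [← key]
    constructor
    · intro h
      exact ⟨negIso _, h, negIso_val _⟩
    · rintro ⟨g, hg, hgm⟩
      have : g = negIso (QMinus F m a b) :=
        Subtype.ext (Units.ext (hgm.trans (negIso_val (QMinus F m a b)).symm))
      rwa [← this]
  have hpow := pow_mod_four_ite (Fintype.card F) (m + 1) hodd
  have hpar : Odd (m + 1) ↔ Even m := by
    rw [Nat.odd_add_one, Nat.not_odd_iff_even]
  constructor
  · intro hc
    apply relIndex_eq_two_of (QMinus F m a b) h2 hQ hn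
    rw [hiff, hpow, if_pos ⟨hpar.mpr hc.1, hc.2⟩]
  · intro hc
    apply relIndex_eq_one_of (QMinus F m a b) h2 hQ hn heven
    rw [hiff, hpow, if_neg (fun hh => hc ⟨hpar.mp hh.1, hh.2⟩)]
    omega

end Cfsg.Agent.S2727
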