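import Cfsg.Statements.S2728
import Cfsg.Agent.Lib_helper13_AutO8
import Cfsg.Agent.Lib_helper13_AutO6
import Cfsg.Agent.Lib_helper13_QStd
import Cfsg.Agent.Lib_helper13_OrthG
import Cfsg.Agent.Lib_helper13_ReflI
import Cfsg.Agent.S0791

set_option autoImplicit false
open Cfsg

namespace Cfsg.Agent.S2728

open Matrix QuadraticMap Cfsg.Agent.helper13


/-- Let T = PΩ⁻_{2m+2}(F) with m ≥ 3 and |F| = q odd (form with anisotropic binary part). The image G̃ of the conformal orthogonal group in Aut(T), taken modulo the inner automorphism group T, is dihedral of order 8 when m is even and q ≡ 3 (mod 4), and elementary abelian of order 4 otherwise. -/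
theorem result {F : Type*} [Field F] [Fintype F] (hodd : Odd (Fintype.card F)) {m : ℕ} (hm : 3 ≤ m) (a b : F) (hab : (∀ z₁ z₂ : F, z₁ ^ 2 + a * z₁ * z₂ + b * z₂ ^ 2 = 0 → z₁ = 0 ∧ z₂ = 0)) :
    ((Even m ∧ Fintype.card F % 4 = 3) → (∃ φ : ↥(Cfsg.pgoAut F (Cfsg.quadFormMinus m F a b)) →* DihedralGroup 4, Function.Surjective φ ∧ φ.ker = (Cfsg.Inn (Cfsg.POmega F (Cfsg.quadFormMinus m F a b))).subgroupOf (Cfsg.pgoAut F (Cfsg.quadFormMinus m F a b)))) ∧ (¬ (Even m ∧ Fintype.card F % 4 = 3) → (∃ φ : ↥(Cfsg.pgoAut F (Cfsg.quadFormMinus m F a b)) →* Multiplicative (ZMod 2 × ZMod 2), Function.Surjective φ ∧ φ.ker = (Cfsg.Inn (Cfsg.POmega F (Cfsg.quadFormMinus m F a b))).subgroupOf (Cfsg.pgoAut F (Cfsg.quadFormMinus m F a b)))) := by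
  classical
  have h2 : (2 : F) ≠ 0 := two_ne_zero_of_odd_card rfl hodd
  have hcard : Fintype.card ((Fin m ⊕ Fin m) ⊕ Fin 2) = 2 * (m + 1) := by
    rw [Fintype.card_sum, Fintype.card_sum, Fintype.card_fin, Fintype.card_fin]
    ring
  have hn : 7 ≤ Fintype.card ((Fin m ⊕ Fin m) ⊕ Fin 2) := by rw [hcard]; omega
  have key : (∃ g : ↥(Cfsg.isometryGroup F (Cfsg.quadFormMinus m F a b)),
      g ∈ Cfsg.Omega F (Cfsg.quadFormMinus m F a b) ∧
      ((g : Matrix.GeneralLinearGroup ((Fin m ⊕ Fin m) ⊕ Fin 2) F) :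
        Matrix ((Fin m ⊕ Fin m) ⊕ Fin 2) ((Fin m ⊕ Fin m) ⊕ Fin 2) F) = -1) ↔
      Fintype.card F ^ (m + 1) % 4 = 3 :=
    Cfsg.Agent.S0791.result (F := F) rfl hodd (m + 1) (by omega) a b hab
  obtain ⟨ν, hν⟩ := FiniteField.exists_nonsquare (ringChar_ne_two_of (F := F) h2)
  have hν0 : ν ≠ 0 := by
    rintro rfl
    exact hν ⟨0, by ring⟩
  have hD := disc_ne_zero_of_aniso a b hab
  obtain ⟨g, hg⟩ := exists_sim_minus (F := F) h2 m a b hD ν hν0
  have hsim : ∃ g : ↥(Cfsg.Geo.quadSimilarityGroup (⇑(QMinus F m a b))),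
      ¬ IsSquare ((muFun (QMinus F m a b) g : Fˣ) : F) := ⟨g, by rw [hg]; exact hν⟩
  rw [← QMinus_coe F m a b] at key ⊢
  have hQ := QMinus_nondeg (F := F) m a b hD
  have hiff : negIso (QMinus F m a b) ∈ commutator ↥(Cfsg.isometryGroup F ⇑(QMinus F m a b)) ↔
      Fintype.card F ^ (m + 1) % 4 = 3 := by
    rw [← key]
    constructor
    · intro h
      exact ⟨negIso _, h, negIso_val _⟩
    · rintro ⟨g, hg, hgm⟩
      have : g = negIso (QMinus F m a b) :=
        Subtype.ext (Units.ext (hgm.trans (negIso_val (QMinus F m a b)).symm))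
      rwa [← this]
  have hpow := pow_mod_four_ite (Fintype.card F) (m + 1) hodd
  have hpar : Odd (m + 1) ↔ Even m := by
    rw [Nat.odd_add_one, Nat.not_odd_iff_even]
  constructor
  · intro hc
    apply d8_main (QMinus F m a b) h2 hQ hn (m + 1) hcard hsim
    rw [hiff, hpow, if_pos ⟨hpar.mpr hc.1, hc.2⟩]
  · intro hc
    apply klein_inn (QMinus F m a b) h2 hQ hn (m + 1) hcard hsim
    rw [hiff, hpow, if_neg (fun hh => hc ⟨hpar.mp hh.1, hh.2⟩)]
    omega

end Cfsg.Agent.S2728
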