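import Cfsg.Statements.S2730
import Mathlib
import Cfsg.Agent.Lib_helper14_SpAutZ3
import Cfsg.Agent.Lib_helper14_FieldCent
-- import your own Cfsg.Agent.* helpers here

set_option autoImplicit false
open Cfsg

namespace Cfsg.Agent.S2730

open Cfsg.Agent.helper14 Cfsg.Agent.helper14.SpAut

/-- A criterion for the failure of local balance in almost simple groups whose socle is a projective symplectic group PSp_{2m}(F) (m ≥ 2, (2m, |F|) ≠ (4, 2)). Let F be a finite field of characteristic r and K the (simple) group in question; let A be a group of automorphisms of K containing all inner automorphisms, and x ∈ A an automorphism of prime order p ≠ r that is not inner-diagonal (not induced by a conformal symplectic matrix). Then the largest normal subgroup of C_A(x) of order prime to p is nontrivial if and only if x is a field automorphism of K (conjugate under Aut(K) to a non-identity standard field automorphism) and p does not divide the number of fixed points of x on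 K. -/
theorem result {F : Type*} [Field F] [Fintype F] {r : ℕ} [Fact r.Prime] [CharP F r] {m : ℕ} (hm : 2 ≤ m) (hs : m = 2 → 3 ≤ Fintype.card F) (hK : IsSimpleGroup (Cfsg.PSp m F)) (A : Subgroup (MulAut (Cfsg.PSp m F))) (hinn : ∀ k : Cfsg.PSp m F, MulAut.conj k ∈ A) {p : ℕ} [Fact p.Prime] (hpr : p ≠ r) (x : MulAut (Cfsg.PSp m F)) (hxA : x ∈ A) (hord : orderOf x = p) (hnot : ¬ Cfsg.IsInnerDiagonalAutPSp x) :
    Cfsg.pPrimeCore p ↥(A ⊓ Subgroup.centralizer {x}) ≠ ⊥ ↔ (Cfsg.IsFieldAutClassPSp x ∧ Nat.Coprime p (Nat.card ↥(MonoidHom.eqLocus x.toMonoidHom (MonoidHom.id (Cfsg.PSp m F))))) := by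
  classical
  have hm1 : 1 ≤ m := by omega
  have hpP : p.Prime := Fact.out
  have hxp : x ^ p = 1 := by rw [← hord]; exact pow_orderOf_eq_one x
  have hT : TPa x := by
    by_cases hcorner : m = 2 ∧ r = 2
    · obtain ⟨rfl, rfl⟩ := hcorner
      obtain ⟨k, hk⟩ : ∃ k, p = 2 * k + 1 := by
        rcases Nat.Prime.eq_two_or_odd hpP with h | h
        · exact absurd h hpr
        · exact ⟨p / 2, by omega⟩
      apply TPa_of_odd_order x k
      rw [← hk]
      exact hxp
    · exact TPa.of_tauPres (tauPres (p := r) hm (fun h2 hr2 => hcorner ⟨h2, hr2⟩)) x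
  obtain ⟨g, μ, hsim, σ, hx⟩ := aut_induced' hm hT
  rw [phiGS_eq] at hx
  obtain ⟨G, hG⟩ : ∃ G : ↥(Cfsg.GSp m F), G = ⟨g, hsim.mem_GSp⟩ := ⟨_, rfl⟩
  rw [← hG] at hx
  have hσ1 : σ ≠ 1 := by
    rintro rfl
    apply hnot
    rw [SpAut.innerDiag_iff]
    exact ⟨G, by rw [hx, phiF_one, mul_one]⟩
  have hσp : σ ^ p = 1 := by
    have h1 := pow_PhiG_phiF σ G p
    rw [← hx, hxp] at h1
    apply phiF_eq_PhiG hm1 (σ ^ p) (PkG σ G p)⁻¹
    rw [map_inv]
    exact eq_inv_of_mul_eq_one_right h1.symm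
  have hσo : orderOf σ = p := orderOf_eq_prime hσp hσ1
  have h2 : orderOf (PhiG G * phiF σ) = orderOf σ := by rw [← hx, hord, hσo]
  obtain ⟨h, hh⟩ := field_conj_sp hm1 σ G h2
  rw [← hx] at hh
  obtain ⟨b, hb⟩ : ∃ b : MulAut (Cfsg.PSp m F), b = (PhiG h)⁻¹ := ⟨_, rfl⟩
  have hbx : b * x * b⁻¹ = phiF σ := by
    rw [hb, hh]
    group
  have hfc : Cfsg.IsFieldAutClassPSp x := by
    refine ⟨b, σ, hσ1, ?_⟩
    rw [hbx]
    exact isStd_phiF σ
  haveI : Fintype ↥(fixSub σ) := Fintype.ofFinite _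
  have hι : ∀ a : F, σ a = a ↔ a ∈ (fixSub σ).subtype.range := by
    intro a
    rw [← mem_fixSub]
    constructor
    · intro h
      exact ⟨⟨a, h⟩, rfl⟩
    · rintro ⟨c, rfl⟩
      exact c.2
  obtain ⟨A', hA'⟩ : ∃ A' : Subgroup (MulAut (Cfsg.PSp m F)),
      A' = A.map (MulAut.conj b).toMonoidHom := ⟨_, rfl⟩
  have hinn' : ∀ k : Cfsg.PSp m F, MulAut.conj k ∈ A' := by
    intro k
    rw [hA']
    refine ⟨MulAut.conj (b⁻¹ k), hinn _, ?_⟩
    show b * MulAut.conj (b⁻¹ k) * b⁻¹ = MulAut.conj k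
    rw [conj_aut]
    congr 1
    rw [← MulAut.mul_apply, mul_inv_cancel, MulAut.one_apply]
  have hcrit := std_criterion hm r p hpr σ hσp (fixSub σ).subtype hι A' hinn'
  have hcardfix : Nat.card ↥(MonoidHom.eqLocus x.toMonoidHom (MonoidHom.id (Cfsg.PSp m F))) =
      Nat.card ↥(MonoidHom.eqLocus (phiF σ : MulAut (Cfsg.PSp m F)).toMonoidHom
        (MonoidHom.id (Cfsg.PSp m F))) := by
    apply Nat.card_congr
    refine Equiv.subtypeEquiv b.toEquiv ?_
    intro y
    show x y = y ↔ phiF σ (b y) = b y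
    rw [← hbx]
    have e1 : (b * x * b⁻¹) (b y) = b (x y) := by
      show b (x (b⁻¹ (b y))) = b (x y)
      have e0 : b⁻¹ (b y) = y := by rw [← MulAut.mul_apply, inv_mul_cancel, MulAut.one_apply]
      rw [e0]
    rw [e1]
    constructor
    · intro h
      rw [h]
    · intro h
      exact b.injective h
  rw [pPrimeCore_ne_bot_iff, hasCore_conj_iff p A x b, hbx, ← hA', hcrit, hcardfix]
  constructor
  · intro h
    exact ⟨hfc, h⟩
  · intro h
    exact h.2

end Cfsg.Agent.S2730
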