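import Cfsg.Statements.S2738
import Mathlib
import Cfsg.Agent.Lib_helper2_SLn
-- import your own Cfsg.Agent.* helpers here

set_option autoImplicit false
open Cfsg

namespace Cfsg.Agent.S2738

/-- The special linear group SL(3, 4) has centre of order 3 and does not split over it: no subgroup is a complement to the centre (so SL(3, 4) is a non-split central extension of PSL(3, 4) by a group of order 3). -/
theorem result (F : Type*) [Field F] [Fintype F] (hF : Fintype.card F = 4) : Nat.card ↥(Subgroup.center (Matrix.SpecialLinearGroup (Fin 3) F)) = 3 ∧ ¬ ∃ K : Subgroup (Matrix.SpecialLinearGroup (Fin 3) F), Subgroup.IsComplement' (Subgroup.center (Matrix.SpecialLinearGroup (Fin 3) F)) K := by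

  classical
  have hcard : Nat.card ↥(Subgroup.center (Matrix.SpecialLinearGroup (Fin 3) F)) = 3 := by
    have e := Matrix.SpecialLinearGroup.center_equiv_rootsOfUnity (n := Fin 3) (R := F)
    rw [Nat.card_congr e.toEquiv]
    have h3 : max (Fintype.card (Fin 3)) 1 = 3 := by simp
    rw [h3]
    have htop : rootsOfUnity 3 F = ⊤ := by
      rw [eq_top_iff]
      intro u _
      rw [mem_rootsOfUnity]
      have h := pow_card_eq_one (G := Fˣ) (x := u)
      rw [Fintype.card_units, hF] at h
      exact h
    rw [htop, Subgroup.card_top, Nat.card_eq_fintype_card, Fintype.card_units, hF]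
  refine ⟨hcard, ?_⟩
  rintro ⟨K, hK⟩
  have hidx : K.index = 3 := by
    exact hK.index_eq_card.trans hcard
  -- K is normal
  have hsup : Subgroup.center (Matrix.SpecialLinearGroup (Fin 3) F) ⊔ K = ⊤ := hK.sup_eq_top
  have hKn : K.Normal := by
    rw [← Subgroup.normalizer_eq_top_iff]
    rw [eq_top_iff, ← hsup]
    apply sup_le
    · exact Subgroup.center_le_normalizer _
    · exact Subgroup.le_normalizer
  have hq : Nat.card (Matrix.SpecialLinearGroup (Fin 3) F ⧸ K) = 3 := by
    rw [← Subgroup.index_eq_card]; exact hidx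
  have hp3 : Fact (Nat.Prime 3) := ⟨by norm_num⟩
  have hcyc : IsCyclic (Matrix.SpecialLinearGroup (Fin 3) F ⧸ K) := isCyclic_of_prime_card hq
  have hcomm : commutator (Matrix.SpecialLinearGroup (Fin 3) F) ≤ K := by
    rw [commutator_def, Subgroup.commutator_le]
    intro a _ b _
    rw [← QuotientGroup.eq_one_iff]
    rw [commutatorElement_def]
    simp only [QuotientGroup.mk_mul, QuotientGroup.mk_inv]
    have hc : ∀ x y : Matrix.SpecialLinearGroup (Fin 3) F ⧸ K, x * y = y * x := by
      intro x y
      obtain ⟨g, hg⟩ := hcyc.exists_generator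
      obtain ⟨m, rfl⟩ := Subgroup.mem_zpowers_iff.mp (hg x)
      obtain ⟨n, rfl⟩ := Subgroup.mem_zpowers_iff.mp (hg y)
      rw [← zpow_add, ← zpow_add, add_comm]
    rw [hc (a : Matrix.SpecialLinearGroup (Fin 3) F ⧸ K) b]
    group
  have hperf := Cfsg.Agent.helper2.SL_commutator_eq_top (ι := Fin 3) (F := F) (by simp)
  rw [hperf, top_le_iff] at hcomm
  rw [hcomm, Subgroup.index_top] at hidx
  omega

end Cfsg.Agent.S2738
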