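import Cfsg.Statements.S2739
import Mathlib
import Cfsg.Agent.Lib_helper11_L34
-- import your own Cfsg.Agent.* helpers here

set_option autoImplicit false
open scoped Pointwise
open Cfsg

namespace Cfsg.Agent.S2739


open Matrix Cfsg.Agent.helper11.L34

section
variable {F : Type*} [Field F] [Fintype F]

theorem two_eq_zero (hF : Fintype.card F = 4) : (2 : F) = 0 := by
  have h := FiniteField.cast_card_eq_zero F
  rw [hF] at h
  have h4 : (2 : F) * 2 = 0 := by
    have : ((4 : ℕ) : F) = 2 * 2 := by norm_num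
    rw [← this]; exact h
  exact mul_self_eq_zero.mp h4

theorem cube_eq_one (hF : Fintype.card F = 4) {x : F} (hx : x ≠ 0) : x ^ 3 = 1 := by
  have := FiniteField.pow_card_sub_one_eq_one x hx
  rwa [hF] at this

theorem trace_sq (h2 : (2 : F) = 0) (A : Matrix (Fin 3) (Fin 3) F) :
    (A ^ 2).trace = A.trace ^ 2 := by
  simp only [pow_two, Matrix.trace, Matrix.mul_apply, Fin.sum_univ_three, Matrix.diag]
  linear_combination (-(A 0 0 * A 1 1 + A 0 0 * A 2 2 + A 1 1 * A 2 2 - A 0 1 * A 1 0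
    - A 0 2 * A 2 0 - A 1 2 * A 2 1)) * h2

theorem smul_one_inj {l m : F} (h : l • (1 : Matrix (Fin 3) (Fin 3) F) = m • 1) : l = m := by
  have := congrFun (congrFun h 0) 0
  simpa using this

theorem matrix_key (hF : Fintype.card F = 4) (A : Matrix (Fin 3) (Fin 3) F) (hdet : A.det = 1)
    (l : F) (h3 : A ^ 3 = l • 1) (hns : ∀ m : F, A ≠ m • 1) : A ^ 3 = 1 ∧ A.trace = 0 := by
  have h2 := two_eq_zero hF
  have hl : l ≠ 0 := by
    rintro rfl
    have : (A ^ 3).det = 1 := by rw [Matrix.det_pow, hdet, one_pow]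
    rw [h3, zero_smul, Matrix.det_zero] at this
    exact zero_ne_one this
  obtain ⟨t, ht⟩ : ∃ t, t = A.trace := ⟨_, rfl⟩
  obtain ⟨e, he⟩ : ∃ e : F, e = -(A 0 0 * A 1 1 - A 0 1 * A 1 0 + (A 0 0 * A 2 2 - A 0 2 * A 2 0)
      + (A 1 1 * A 2 2 - A 1 2 * A 2 1)) := ⟨_, rfl⟩
  have hCH : l • (1 : Matrix (Fin 3) (Fin 3) F) = t • A ^ 2 + e • A + 1 := by
    rw [← h3, cayley3 A, hdet, one_smul, ht, he]
  by_cases ht0 : t = 0
  · rw [ht0, zero_smul, zero_add] at hCH
    by_cases he0 : e = 0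
    · rw [he0, zero_smul, zero_add] at hCH
      exact ⟨by rw [h3, hCH], ht ▸ ht0⟩
    · exfalso
      have hCH' : l • (1 : Matrix (Fin 3) (Fin 3) F) = e • A + (1 : F) • 1 := by
        rw [one_smul]; exact hCH
      exact hns _ (scalar_of_smul_add A e 1 l he0 hCH')
  · exfalso
    obtain ⟨b, hb⟩ : ∃ b : F, b = - (t⁻¹ * e) := ⟨_, rfl⟩
    obtain ⟨c, hc⟩ : ∃ c : F, c = t⁻¹ * (l - 1) := ⟨_, rfl⟩
    have hA2 : A ^ 2 = b • A + c • 1 := by
      have h1 : t • A ^ 2 = (l - 1) • 1 - e • A := by rw [sub_smul, hCH, one_smul]; abel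
      calc A ^ 2 = t⁻¹ • (t • A ^ 2) := by rw [smul_smul, inv_mul_cancel₀ ht0, one_smul]
        _ = _ := by rw [h1, hb, hc]; module
    have hA3 : l • (1 : Matrix (Fin 3) (Fin 3) F) = (b ^ 2 + c) • A + (b * c) • 1 := by
      rw [← h3, pow_succ, hA2, add_mul, smul_mul_assoc, smul_mul_assoc, one_mul, ← pow_two, hA2]
      module
    by_cases hbc : b ^ 2 + c = 0
    · rw [hbc, zero_smul, zero_add] at hA3
      have hlbc : l = b * c := smul_one_inj hA3
      have hc' : c = - b ^ 2 := by linear_combination hbc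
      by_cases hb0 : b = 0
      · apply hl; rw [hlbc, hb0, zero_mul]
      · have hb3 := cube_eq_one hF hb0
        have hl1 : l = 1 := by
          rw [hlbc, hc']; linear_combination (-1 : F) * hb3 - h2
        have hc0 : c = 0 := by rw [hc, hl1, sub_self, mul_zero]
        have hb2 : b ^ 2 = 0 := by
          have := hc'; rw [hc0] at this; exact neg_eq_zero.mp this.symm
        exact hb0 ((pow_eq_zero_iff (by norm_num : (2 : ℕ) ≠ 0)).mp hb2)
    · exact hns _ (scalar_of_smul_add A (b ^ 2 + c) (b * c) l hbc hA3)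

theorem exists_eigvec (h2 : (2 : F) = 0) (A : Matrix (Fin 3) (Fin 3) F) (h3 : A ^ 3 = 1)
    (ht : A.trace = 0) (c : F) (hc : c ^ 3 = 1) :
    ∃ v : Fin 3 → F, v ≠ 0 ∧ A *ᵥ v = c • v := by
  obtain ⟨E, hE⟩ : ∃ E : Matrix (Fin 3) (Fin 3) F, E = 1 + c ^ 2 • A + c • A ^ 2 := ⟨_, rfl⟩
  have hAE : A * E = c • E := by
    have hcc : c * c ^ 2 = 1 := by rw [← hc]; ring
    have e1 : A * A = A ^ 2 := (pow_two A).symm
    have e2 : A * A ^ 2 = 1 := by rw [← pow_succ', h3]
    rw [hE, mul_add, mul_add, mul_one, Matrix.mul_smul, Matrix.mul_smul, e1, e2, smul_add,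
      smul_add, smul_smul, smul_smul, hcc, one_smul, ← pow_two]
    abel
  have htr : E.trace = 1 := by
    rw [hE, Matrix.trace_add, Matrix.trace_add, Matrix.trace_smul, Matrix.trace_smul,
      trace_sq h2, ht, Matrix.trace_one]
    simp only [Fintype.card_fin, smul_eq_mul]
    push_cast
    linear_combination h2
  have hE0 : E ≠ 0 := by
    intro h; rw [h, Matrix.trace_zero] at htr; exact zero_ne_one htr
  obtain ⟨j, hj⟩ : ∃ j, (fun i => E i j) ≠ 0 := by
    by_contra hcon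
    push Not at hcon
    apply hE0; ext i j; exact congrFun (hcon j) i
  refine ⟨fun i => E i j, hj, ?_⟩
  ext i
  have := congrFun (congrFun hAE i) j
  simpa [Matrix.mul_apply, Matrix.mulVec, dotProduct] using this

theorem exists_conj (hF : Fintype.card F = 4) (ω : F) (hω : ω ^ 2 + ω + 1 = 0)
    (A : Matrix (Fin 3) (Fin 3) F) (h3 : A ^ 3 = 1) (ht : A.trace = 0) :
    ∃ B : Matrix (Fin 3) (Fin 3) F, B.det = 1 ∧ A * B = B * Matrix.diagonal ![1, ω, ω ^ 2] := by
  have h2 := two_eq_zero hF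
  have hω3 : ω ^ 3 = 1 := by linear_combination (ω - 1) * hω
  have hω0 : ω ≠ 0 := by rintro rfl; simp at hω
  have h01' : ω ≠ 1 := by
    rintro rfl
    have : (1 : F) = 0 := by linear_combination hω - h2
    exact one_ne_zero this
  have h01 : (1 : F) ≠ ω := fun h => h01' h.symm
  have h02' : ω ^ 2 ≠ 1 := by
    intro h; apply h01'
    calc ω = ω ^ 2 * ω := by rw [h, one_mul]
      _ = ω ^ 3 := by ring
      _ = 1 := hω3
  have h02 : (1 : F) ≠ ω ^ 2 := fun h => h02' h.symm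
  have h12 : ω ≠ ω ^ 2 := by
    intro h; apply h01
    have : ω * 1 = ω * ω := by rw [mul_one, ← pow_two]; exact h
    exact mul_left_cancel₀ hω0 this
  have h12' : ω ^ 2 ≠ ω := fun h => h12 h.symm
  obtain ⟨μ, hμ⟩ : ∃ μ : Fin 3 → F, μ = ![1, ω, ω ^ 2] := ⟨_, rfl⟩
  have hμ3 : ∀ i, μ i ^ 3 = 1 := by
    intro i; fin_cases i
    · simp [hμ]
    · simpa [hμ] using hω3
    · have : (ω ^ 2) ^ 3 = 1 := by rw [← pow_mul, mul_comm, pow_mul, hω3, one_pow]
      simpa [hμ] using this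
  have hμinj : Function.Injective μ := by
    intro i j
    fin_cases i <;> fin_cases j <;> simp [hμ, h01, h01', h02, h02', h12, h12']
  choose v hv0 hv using fun i => exists_eigvec h2 A h3 ht (μ i) (hμ3 i)
  have hli : LinearIndependent F v := by
    apply Module.End.eigenvectors_linearIndependent' (Matrix.toLin' A) μ hμinj v
    intro i
    refine Module.End.hasEigenvector_iff.mpr ⟨?_, hv0 i⟩
    rw [Module.End.mem_eigenspace_iff, Matrix.toLin'_apply]; exact hv i
  obtain ⟨B₀, hB₀⟩ : ∃ B₀ : Matrix (Fin 3) (Fin 3) F, B₀ = Matrix.of (fun i j => v j i) := ⟨_, rfl⟩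
  have hB₀unit : IsUnit B₀ := by
    rw [← Matrix.linearIndependent_cols_iff_isUnit]
    have : B₀.col = v := by rw [hB₀]; rfl
    rw [this]; exact hli
  have hdet : B₀.det ≠ 0 := ((Matrix.isUnit_iff_isUnit_det B₀).mp hB₀unit).ne_zero
  have hAB₀ : A * B₀ = B₀ * Matrix.diagonal μ := by
    ext i j
    rw [Matrix.mul_diagonal]
    have := congrFun (hv j) i
    simp only [Matrix.mulVec, dotProduct, Pi.smul_apply, smul_eq_mul] at this
    simp only [Matrix.mul_apply, hB₀, Matrix.of_apply]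
    rw [this, mul_comm]
  obtain ⟨d, hd⟩ : ∃ d : Fin 3 → F, d = ![B₀.det⁻¹, 1, 1] := ⟨_, rfl⟩
  refine ⟨B₀ * Matrix.diagonal d, ?_, ?_⟩
  · rw [Matrix.det_mul, Matrix.det_diagonal, Fin.prod_univ_three, hd]
    simp [hdet]
  · rw [← hμ, ← Matrix.mul_assoc, hAB₀, Matrix.mul_assoc, Matrix.mul_assoc,
      Matrix.diagonal_mul_diagonal, Matrix.diagonal_mul_diagonal]
    congr 2
    ext i; exact mul_comm _ _

theorem psl_key (hF : Fintype.card F = 4) (ω : F) (hω : ω ^ 2 + ω + 1 = 0)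
    (D : Matrix.SpecialLinearGroup (Fin 3) F) (hD : D.1 = Matrix.diagonal ![1, ω, ω ^ 2])
    (x : Matrix.ProjectiveSpecialLinearGroup (Fin 3) F) (hx3 : x ^ 3 = 1) (hx1 : x ≠ 1) :
    ∃ b : Matrix.ProjectiveSpecialLinearGroup (Fin 3) F,
      x = b * (QuotientGroup.mk D : Matrix.ProjectiveSpecialLinearGroup (Fin 3) F) * b⁻¹ := by
  obtain ⟨G, rfl⟩ := QuotientGroup.mk_surjective x
  have h3c : G ^ 3 ∈ Subgroup.center (Matrix.SpecialLinearGroup (Fin 3) F) := by
    rw [← QuotientGroup.eq_one_iff, QuotientGroup.mk_pow]; exact hx3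
  obtain ⟨l, -, hl⟩ := Matrix.SpecialLinearGroup.mem_center_iff.mp h3c
  have hmat : (G : Matrix (Fin 3) (Fin 3) F) ^ 3 = l • 1 := by
    rw [← Matrix.SpecialLinearGroup.coe_pow, ← hl, Matrix.scalar_apply, Matrix.smul_one_eq_diagonal]
  have hns : ∀ m : F, (G : Matrix (Fin 3) (Fin 3) F) ≠ m • 1 := by
    intro m hm
    apply hx1
    rw [QuotientGroup.eq_one_iff, Matrix.SpecialLinearGroup.mem_center_iff]
    refine ⟨m, ?_, ?_⟩
    · have hd : G.1.det = 1 := G.2
      rw [hm, Matrix.det_smul, Matrix.det_one, mul_one] at hd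
      simpa using hd
    · rw [hm, Matrix.scalar_apply, Matrix.smul_one_eq_diagonal]
  obtain ⟨hA3, hAt⟩ := matrix_key hF G.1 G.2 l hmat hns
  obtain ⟨B, hBdet, hAB⟩ := exists_conj hF ω hω G.1 hA3 hAt
  obtain ⟨Bs, hBs⟩ : ∃ Bs : Matrix.SpecialLinearGroup (Fin 3) F, Bs.1 = B := ⟨⟨B, hBdet⟩, rfl⟩
  have hGB : G * Bs = Bs * D := by
    apply Subtype.ext
    simp only [Matrix.SpecialLinearGroup.coe_mul]
    rw [hD, hBs]; exact hAB
  refine ⟨QuotientGroup.mk Bs, ?_⟩
  rw [← QuotientGroup.mk_mul, ← QuotientGroup.mk_inv, ← QuotientGroup.mk_mul, ← hGB,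
    mul_inv_cancel_right]

end

/-- In the projective special linear group PSL(3, 4) all subgroups of order 3 are conjugate. -/
theorem result (F : Type*) [Field F] [Fintype F] (hF : Fintype.card F = 4) (X Y : Subgroup (Matrix.ProjectiveSpecialLinearGroup (Fin 3) F)) (hX : Nat.card ↥X = 3) (hY : Nat.card ↥Y = 3) : ∃ g : Matrix.ProjectiveSpecialLinearGroup (Fin 3) F, MulAut.conj g • X = Y := by
  classical
  obtain ⟨ω, hω⟩ : ∃ ω : F, ω ^ 2 + ω + 1 = 0 := by
    have hex : ∃ x : F, x ≠ 0 ∧ x ≠ 1 := by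
      by_contra hcon
      push Not at hcon
      have hle : Fintype.card F ≤ 2 := by
        calc Fintype.card F = (Finset.univ : Finset F).card := Finset.card_univ.symm
          _ ≤ ({0, 1} : Finset F).card := Finset.card_le_card (fun x _ => by
              by_cases h : x = 0
              · simp [h]
              · simp [hcon x h])
          _ ≤ 2 := Finset.card_le_two
      omega
    obtain ⟨x, hx0, hx1⟩ := hex
    refine ⟨x, ?_⟩
    have h3 := cube_eq_one hF hx0
    have hm : (x - 1) * (x ^ 2 + x + 1) = 0 := by linear_combination h3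
    rcases mul_eq_zero.mp hm with h | h
    · exact absurd (sub_eq_zero.mp h) hx1
    · exact h
  have hω3 : ω ^ 3 = 1 := by linear_combination (ω - 1) * hω
  obtain ⟨D, hD⟩ : ∃ D : Matrix.SpecialLinearGroup (Fin 3) F,
      D.1 = Matrix.diagonal ![1, ω, ω ^ 2] := by
    refine ⟨⟨Matrix.diagonal ![1, ω, ω ^ 2], ?_⟩, rfl⟩
    rw [Matrix.det_diagonal, Fin.prod_univ_three]
    simp only [Matrix.cons_val_zero, Matrix.cons_val_one, Matrix.cons_val_two]
    simp
    linear_combination hω3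
  have key : ∀ X : Subgroup (Matrix.ProjectiveSpecialLinearGroup (Fin 3) F), Nat.card X = 3 →
      ∃ b : Matrix.ProjectiveSpecialLinearGroup (Fin 3) F,
        X = (Subgroup.zpowers
          (QuotientGroup.mk D : Matrix.ProjectiveSpecialLinearGroup (Fin 3) F)).map
            (MulAut.conj b).toMonoidHom := by
    intro X hX
    have hXne : X ≠ ⊥ := by
      intro h; rw [h] at hX; simp at hX
    obtain ⟨x, hx1⟩ := (Subgroup.ne_bot_iff_exists_ne_one).mp hXne
    have hx3 : (x : Matrix.ProjectiveSpecialLinearGroup (Fin 3) F) ^ 3 = 1 := by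
      have := pow_card_eq_one' (G := ↥X) (x := x)
      rw [hX] at this
      exact_mod_cast congrArg Subtype.val this
    have hx1' : (x : Matrix.ProjectiveSpecialLinearGroup (Fin 3) F) ≠ 1 := by
      intro h; apply hx1; exact Subtype.ext h
    have hord : orderOf (x : Matrix.ProjectiveSpecialLinearGroup (Fin 3) F) = 3 :=
      orderOf_eq_prime hx3 hx1'
    have : Finite ↥X := Nat.finite_of_card_ne_zero (by rw [hX]; norm_num)
    have hzp : Subgroup.zpowers (x : Matrix.ProjectiveSpecialLinearGroup (Fin 3) F) = X := by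
      apply Subgroup.eq_of_le_of_card_ge (Subgroup.zpowers_le.mpr x.2)
      rw [Nat.card_zpowers, hord, hX]
    obtain ⟨b, hb⟩ := psl_key hF ω hω D hD x hx3 hx1'
    refine ⟨b, ?_⟩
    rw [MonoidHom.map_zpowers, ← hzp]
    congr 1
  obtain ⟨b1, h1⟩ := key X hX
  obtain ⟨b2, h2⟩ := key Y hY
  refine ⟨b2 * b1⁻¹, ?_⟩
  have hsm : ∀ (g : Matrix.ProjectiveSpecialLinearGroup (Fin 3) F)
      (S : Subgroup (Matrix.ProjectiveSpecialLinearGroup (Fin 3) F)),
      MulAut.conj g • S = S.map (MulAut.conj g).toMonoidHom := fun g S => rfl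
  rw [hsm, h1, h2, Subgroup.map_map]
  congr 1
  ext z
  simp [MulAut.conj_apply, mul_assoc]

end Cfsg.Agent.S2739
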