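import Cfsg.Statements.S2873
import Mathlib
import Cfsg.Agent.Lib_helper7_SN
import Cfsg.Agent.Lib_helper14_SPE2
import Cfsg.Agent.Lib_helper1_Core
-- import your own Cfsg.Agent.* helpers here

set_option autoImplicit false
open Cfsg

namespace Cfsg.Agent.S2873


open Cfsg.Agent.helper7 Cfsg.Agent.helper14

theorem sylow_smul_coe {G : Type*} [Group G] {p : ℕ} (g : G) (P : Sylow p G) :
    ((g • P : Sylow p G) : Subgroup G) = cj g (P : Subgroup G) := by
  rw [Sylow.coe_subgroup_smul, Subgroup.pointwise_smul_def]; rfl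

theorem mem_cent_single {G : Type*} [Group G] {a x : G} :
    x ∈ Subgroup.centralizer ({a} : Set G) ↔ a * x = x * a := by
  rw [Subgroup.mem_centralizer_iff]
  constructor
  · intro h; exact h a (Set.mem_singleton a)
  · intro h b hb; rw [Set.mem_singleton_iff.1 hb]; exact h

theorem mem_normalizer_zpowers {G : Type*} [Group G] [Finite G] {t w : G}
    (h : t * w * t⁻¹ = w⁻¹) :
    t ∈ Subgroup.normalizer ((Subgroup.zpowers w : Subgroup G) : Set G) := by
  apply mem_normalizer_of_cj_eq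
  have hle : cj t (Subgroup.zpowers w) ≤ Subgroup.zpowers w := by
    rintro _ ⟨x, hx, rfl⟩
    obtain ⟨k, rfl⟩ := Subgroup.mem_zpowers_iff.1 hx
    show t * w ^ k * t⁻¹ ∈ _
    have e : t * w ^ k * t⁻¹ = (w⁻¹) ^ k := by rw [← h, conj_zpow]
    rw [e]
    exact Subgroup.zpow_mem _ (Subgroup.inv_mem _ (Subgroup.mem_zpowers w)) k
  exact Subgroup.eq_of_le_of_card_ge hle (by rw [card_cj])

section Dih
variable {r : ℕ} [Fact r.Prime]

theorem zmod_two_ne_zero (hr : r ≠ 2) : (2 : ZMod r) ≠ 0 := by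
  intro h
  have h2 : ((2 : ℕ) : ZMod r) = 0 := by exact_mod_cast h
  rw [ZMod.natCast_eq_zero_iff] at h2
  have hp : r.Prime := Fact.out
  rcases (Nat.dvd_prime Nat.prime_two).1 h2 with h1 | h1
  · exact hp.one_lt.ne' h1
  · exact hr h1

theorem add_self_ne_zero (hr : r ≠ 2) {j : ZMod r} (hj : j ≠ 0) : j + j ≠ 0 := by
  intro h
  have : (2 : ZMod r) * j = 0 := by rw [two_mul]; exact h
  rcases mul_eq_zero.1 this with h' | h'
  · exact zmod_two_ne_zero hr h'
  · exact hj h'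

theorem dih_refl_of_invol (hr : r ≠ 2) {x : DihedralGroup r} (hx1 : x ≠ 1) (hx2 : x * x = 1) :
    ∃ i, x = DihedralGroup.sr i := by
  cases x with
  | r i =>
    exfalso
    rw [DihedralGroup.r_mul_r, DihedralGroup.one_def] at hx2
    have h2 : i + i = 0 := DihedralGroup.r.inj hx2
    by_cases hi : i = 0
    · apply hx1; rw [hi, DihedralGroup.r_zero]
    · exact add_self_ne_zero hr hi h2
  | sr i => exact ⟨i, rfl⟩

theorem dih_rot_of_pow (hr : r ≠ 2) {x : DihedralGroup r} (hx : x ^ r = 1) :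
    ∃ i, x = DihedralGroup.r i := by
  cases x with
  | r i => exact ⟨i, rfl⟩
  | sr i =>
    exfalso
    have hodd : r % 2 = 1 := (Fact.out : r.Prime).eq_two_or_odd.resolve_left hr
    have key : ∀ m : ℕ, m % 2 = 1 → (DihedralGroup.sr i : DihedralGroup r) ^ m = DihedralGroup.sr i := by
      intro m hm
      obtain ⟨t, rfl⟩ : ∃ t, m = 2 * t + 1 := ⟨m / 2, by omega⟩
      rw [pow_succ, pow_mul, pow_two, DihedralGroup.sr_mul_self, one_pow, one_mul]
    rw [key r hodd, DihedralGroup.one_def] at hx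
    cases hx

theorem orderOf_rot {m : ZMod r} (hm : m ≠ 0) : orderOf (DihedralGroup.r m) = r := by
  apply orderOf_eq_prime
  · rw [DihedralGroup.r_pow, ZMod.natCast_self, mul_zero, DihedralGroup.r_zero]
  · intro h
    rw [DihedralGroup.one_def] at h
    exact hm (DihedralGroup.r.inj h)

def rot (r : ℕ) : Subgroup (DihedralGroup r) where
  carrier := {x | ∃ i, x = DihedralGroup.r i}
  mul_mem' := by
    rintro _ _ ⟨i, rfl⟩ ⟨j, rfl⟩
    exact ⟨i + j, DihedralGroup.r_mul_r i j⟩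
  one_mem' := ⟨0, DihedralGroup.one_def⟩
  inv_mem' := by
    rintro _ ⟨i, rfl⟩
    exact ⟨-i, DihedralGroup.inv_r i⟩

theorem mem_rot {r : ℕ} {x : DihedralGroup r} : x ∈ rot r ↔ ∃ i, x = DihedralGroup.r i := Iff.rfl

instance rot_normal (r : ℕ) : (rot r).Normal := by
  constructor
  rintro _ ⟨i, rfl⟩ g
  cases g with
  | r j =>
    refine ⟨i, ?_⟩
    rw [DihedralGroup.inv_r, DihedralGroup.r_mul_r, DihedralGroup.r_mul_r]
    congr 1; ring
  | sr j =>
    refine ⟨-i, ?_⟩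
    rw [DihedralGroup.inv_sr, DihedralGroup.sr_mul_r, DihedralGroup.sr_mul_sr]
    congr 1; ring

end Dih

variable {G : Type*} [Group G] [Finite G] {r : ℕ} [Fact r.Prime]

structure Setup (Q : Subgroup G) (π : G →* DihedralGroup r) (R : Sylow r G) : Prop where
  hr : r ≠ 2
  surj : Function.Surjective π
  ker : π.ker = Q
  two : IsPGroup 2 ↥Q
  cent : Q ⊓ Subgroup.centralizer ((R : Subgroup G) : Set G) = ⊥

namespace Setup

variable {Q : Subgroup G} {π : G →* DihedralGroup r} {R : Sylow r G}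

theorem mem_Q (h : Setup Q π R) {x : G} : x ∈ Q ↔ π x = 1 := by
  rw [← h.ker]; exact MonoidHom.mem_ker

theorem normal (h : Setup Q π R) : Q.Normal := by
  rw [← h.ker]; exact MonoidHom.normal_ker π

theorem card_G (h : Setup Q π R) : Nat.card G = Nat.card Q * (2 * r) := by
  have e : G ⧸ π.ker ≃* DihedralGroup r := QuotientGroup.quotientKerEquivOfSurjective π h.surj
  have h1 : Nat.card G = Nat.card (G ⧸ π.ker) * Nat.card π.ker :=
    Subgroup.card_eq_card_quotient_mul_card_subgroup _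
  rw [Nat.card_congr e.toEquiv, DihedralGroup.nat_card, h.ker] at h1
  rw [h1, mul_comm]

theorem card_R (h : Setup Q π R) : Nat.card (R : Subgroup G) = r := by
  have hp : r.Prime := Fact.out
  obtain ⟨k, hk⟩ := h.two.exists_card_eq
  obtain ⟨e, he⟩ := IsPGroup.exists_card_eq (R.2 : IsPGroup r ↥(R : Subgroup G))
  have hG := h.card_G
  have hdvdG : r ∣ Nat.card G := by
    rw [hG]; exact dvd_mul_of_dvd_right (dvd_mul_left r 2) _
  have h1 : r ∣ Nat.card (R : Subgroup G) := R.dvd_card_of_dvd_card hdvdG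
  have he0 : e ≠ 0 := by
    rintro rfl
    rw [he, pow_zero] at h1
    exact hp.one_lt.ne' (Nat.dvd_one.1 h1)
  have h2 : Nat.card (R : Subgroup G) ∣ Nat.card G := Subgroup.card_subgroup_dvd_card _
  rw [he, hG, hk] at h2
  have h3 : r ^ e ∣ (2 ^ k * 2) * r := by
    have : 2 ^ k * (2 * r) = (2 ^ k * 2) * r := by ring
    rwa [this] at h2
  have hcop : Nat.Coprime (r ^ e) (2 ^ k * 2) := by
    have : 2 ^ k * 2 = 2 ^ (k + 1) := by ring
    rw [this]
    exact Nat.Coprime.pow e (k + 1) ((Nat.coprime_primes hp Nat.prime_two).2 h.hr)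
  have h4 : r ^ e ∣ r := hcop.dvd_of_dvd_mul_left h3
  have h5 : r ^ e ≤ r ^ 1 := by rw [pow_one]; exact Nat.le_of_dvd hp.pos h4
  have h6 : e ≤ 1 := (Nat.pow_le_pow_iff_right hp.one_lt).1 h5
  have : e = 1 := by omega
  rw [he, this, pow_one]

theorem R_inf_Q (h : Setup Q π R) : (R : Subgroup G) ⊓ Q = ⊥ :=
  (IsPGroup.disjoint_of_ne r 2 h.hr _ _ R.2 h.two).eq_bot

theorem normalizer_inf (h : Setup Q π R) :
    Subgroup.normalizer ((R : Subgroup G) : Set G) ⊓ Q = ⊥ := by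
  haveI : Q.Normal := h.normal
  rw [eq_bot_iff]
  rintro q ⟨hqN, hqQ⟩
  have hqC : q ∈ Subgroup.centralizer ((R : Subgroup G) : Set G) := by
    rw [Subgroup.mem_centralizer_iff]
    intro y hy
    have h1 : q * y * q⁻¹ * y⁻¹ ∈ (R : Subgroup G) :=
      Subgroup.mul_mem _ ((Subgroup.mem_normalizer_iff.mp hqN y).mp hy) (Subgroup.inv_mem _ hy)
    have h2 : q * y * q⁻¹ * y⁻¹ ∈ Q := by
      have e : q * y * q⁻¹ * y⁻¹ = q * (y * q⁻¹ * y⁻¹) := by group
      rw [e]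
      exact Q.mul_mem hqQ (Subgroup.Normal.conj_mem inferInstance _ (Q.inv_mem hqQ) y)
    have h3 : q * y * q⁻¹ * y⁻¹ ∈ (R : Subgroup G) ⊓ Q := ⟨h1, h2⟩
    rw [h.R_inf_Q] at h3
    have h4 := Subgroup.mem_bot.1 h3
    calc y * q = (q * y * q⁻¹ * y⁻¹)⁻¹ * (q * y) := by group
      _ = q * y := by rw [h4]; group
  have h5 : q ∈ Q ⊓ Subgroup.centralizer ((R : Subgroup G) : Set G) := ⟨hqQ, hqC⟩
  rw [h.cent] at h5
  exact h5

theorem pow_r_eq_one (h : Setup Q π R) {y : G} (hy : y ∈ (R : Subgroup G)) : y ^ r = 1 := by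
  have := Subgroup.orderOf_dvd_natCard (R : Subgroup G) hy
  rw [h.card_R] at this
  exact orderOf_dvd_iff_pow_eq_one.1 this

theorem map_R (h : Setup Q π R) {y : G} (hy : y ∈ (R : Subgroup G)) :
    ∃ j, π y = DihedralGroup.r j := by
  apply dih_rot_of_pow h.hr
  rw [← map_pow, h.pow_r_eq_one hy, map_one]

theorem uniq (h : Setup Q π R) {n₁ n₂ : G}
    (h1 : n₁ ∈ Subgroup.normalizer ((R : Subgroup G) : Set G))
    (h2 : n₂ ∈ Subgroup.normalizer ((R : Subgroup G) : Set G)) (he : π n₁ = π n₂) : n₁ = n₂ := by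
  have h3 : n₁ * n₂⁻¹ ∈ Subgroup.normalizer ((R : Subgroup G) : Set G) ⊓ Q := by
    refine ⟨Subgroup.mul_mem _ h1 (Subgroup.inv_mem _ h2), ?_⟩
    show n₁ * n₂⁻¹ ∈ Q
    rw [h.mem_Q, map_mul, map_inv, he, mul_inv_cancel]
  rw [h.normalizer_inf] at h3
  exact mul_inv_eq_one.1 (Subgroup.mem_bot.1 h3)

/-- a nontrivial element of `R` with nontrivial rotation image -/
theorem exists_gen (h : Setup Q π R) :
    ∃ y₀ ∈ (R : Subgroup G), ∃ j : ZMod r, j ≠ 0 ∧ π y₀ = DihedralGroup.r j ∧ y₀ ≠ 1 := by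
  have hp : r.Prime := Fact.out
  have hne : (R : Subgroup G) ≠ ⊥ := by
    intro hb
    have := h.card_R
    rw [hb, Subgroup.card_bot] at this
    exact hp.one_lt.ne this
  obtain ⟨⟨y₀, hy₀⟩, hy1⟩ := (Subgroup.ne_bot_iff_exists_ne_one).1 hne
  have hy1' : y₀ ≠ 1 := fun hh => hy1 (Subtype.ext hh)
  obtain ⟨j, hj⟩ := h.map_R hy₀
  refine ⟨y₀, hy₀, j, ?_, hj, hy1'⟩
  rintro rfl
  rw [DihedralGroup.r_zero] at hj
  have : y₀ ∈ (R : Subgroup G) ⊓ Q := ⟨hy₀, h.mem_Q.2 hj⟩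
  rw [h.R_inf_Q] at this
  exact hy1' (Subgroup.mem_bot.1 this)

theorem frattini (h : Setup Q π R) (g : G) :
    ∃ q ∈ Q, q⁻¹ * g ∈ Subgroup.normalizer ((R : Subgroup G) : Set G) := by
  haveI : Q.Normal := h.normal
  obtain ⟨y₀, hy₀, j, hj0, hj, -⟩ := h.exists_gen
  obtain ⟨H, hH⟩ : ∃ H, H = (rot r).comap π := ⟨_, rfl⟩
  haveI hHn : H.Normal := by rw [hH]; infer_instance
  have hRH : (R : Subgroup G) ≤ H := by
    intro y hy
    rw [hH, Subgroup.mem_comap]
    exact h.map_R hy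
  have hgRH : ((g • R : Sylow r G) : Subgroup G) ≤ H := by
    rw [sylow_smul_coe]
    rintro _ ⟨y, hy, rfl⟩
    exact hHn.conj_mem y (hRH hy) g
  obtain ⟨m, hmH, hm⟩ := exists_conj_eq_of_sylow_le H R (g • R) hRH hgRH
  rw [sylow_smul_coe] at hm
  -- decompose m = q * y with q ∈ Q, y ∈ R
  obtain ⟨i, hi⟩ : ∃ i, π m = DihedralGroup.r i := by
    rw [hH, Subgroup.mem_comap] at hmH; exact hmH
  obtain ⟨k, hk⟩ : ∃ k : ZMod r, k = i * j⁻¹ := ⟨_, rfl⟩
  obtain ⟨y, hy⟩ : ∃ y, y = y₀ ^ k.val := ⟨_, rfl⟩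
  have hyR : y ∈ (R : Subgroup G) := by rw [hy]; exact Subgroup.pow_mem _ hy₀ _
  have hπy : π y = DihedralGroup.r i := by
    rw [hy, map_pow, hj, DihedralGroup.r_pow, ZMod.natCast_zmod_val, hk]
    congr 1
    rw [mul_comm i, ← mul_assoc, mul_inv_cancel₀ hj0, one_mul]
  have hq : m * y⁻¹ ∈ Q := by
    rw [h.mem_Q, map_mul, map_inv, hi, hπy, mul_inv_cancel]
  refine ⟨m * y⁻¹, hq, ?_⟩
  apply mem_normalizer_of_cj_eq
  have e1 : cj y⁻¹ (R : Subgroup G) = R :=
    cj_eq_of_mem_normalizer (Subgroup.le_normalizer (Subgroup.inv_mem _ hyR))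
  have e2 : (m * y⁻¹)⁻¹ * g = y * (m⁻¹ * g) := by group
  have e3 : cj (m⁻¹ * g) (R : Subgroup G) = R := by
    rw [← cj_cj, hm, cj_inv_cj]
  rw [e2, ← cj_cj, e3]
  exact cj_eq_of_mem_normalizer (Subgroup.le_normalizer hyR)

theorem sylow_conj (h : Setup Q π R) (P : Sylow r G) :
    ∃ q ∈ Q, (P : Subgroup G) = cj q (R : Subgroup G) := by
  obtain ⟨g, hg⟩ := MulAction.exists_smul_eq G R P
  obtain ⟨q, hq, hn⟩ := h.frattini g
  refine ⟨q, hq, ?_⟩
  rw [← hg, sylow_smul_coe]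
  have e : g = q * (q⁻¹ * g) := by group
  conv_lhs => rw [e]
  rw [← cj_cj, cj_eq_of_mem_normalizer hn]

theorem exists_mem_normalizer_map (h : Setup Q π R) (d : DihedralGroup r) :
    ∃ n ∈ Subgroup.normalizer ((R : Subgroup G) : Set G), π n = d := by
  obtain ⟨g, hg⟩ := h.surj d
  obtain ⟨q, hq, hn⟩ := h.frattini g
  refine ⟨q⁻¹ * g, hn, ?_⟩
  rw [map_mul, map_inv, h.mem_Q.1 hq, inv_one, one_mul, hg]

theorem iso (h : Setup Q π R) :
    Nonempty (↥(Subgroup.normalizer ((R : Subgroup G) : Set G)) ≃* DihedralGroup r) := by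
  refine ⟨MulEquiv.ofBijective (π.comp (Subgroup.subtype _)) ⟨?_, ?_⟩⟩
  · rintro ⟨x, hx⟩ ⟨y, hy⟩ hxy
    apply Subtype.ext
    exact h.uniq hx hy hxy
  · intro d
    obtain ⟨n, hn, hd⟩ := h.exists_mem_normalizer_map d
    exact ⟨⟨n, hn⟩, hd⟩

theorem not_mem_Q (h : Setup Q π R) {a : G}
    (ha : a ∈ Subgroup.normalizer ((R : Subgroup G) : Set G)) (ha1 : a ≠ 1) : a ∉ Q := by
  intro hq
  have : a ∈ Subgroup.normalizer ((R : Subgroup G) : Set G) ⊓ Q := ⟨ha, hq⟩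
  rw [h.normalizer_inf] at this
  exact ha1 (Subgroup.mem_bot.1 this)

theorem refl_of_invol (h : Setup Q π R) {b : G} (hb1 : b ∉ Q) (hb2 : b * b = 1) :
    ∃ l, π b = DihedralGroup.sr l := by
  apply dih_refl_of_invol h.hr
  · intro hh; exact hb1 (h.mem_Q.2 hh)
  · rw [← map_mul, hb2, map_one]

/-- involutions of `N(R)` are conjugate in `N(R)` -/
theorem conj_in_normalizer (h : Setup Q π R) {n₁ n₂ : G}
    (h1 : n₁ ∈ Subgroup.normalizer ((R : Subgroup G) : Set G))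
    (h2 : n₂ ∈ Subgroup.normalizer ((R : Subgroup G) : Set G))
    (h11 : n₁ ≠ 1) (h21 : n₂ ≠ 1) (h12 : n₁ * n₁ = 1) (h22 : n₂ * n₂ = 1) :
    ∃ n, n * n₁ * n⁻¹ = n₂ := by
  obtain ⟨i₁, hi₁⟩ := h.refl_of_invol (h.not_mem_Q h1 h11) h12
  obtain ⟨i₂, hi₂⟩ := h.refl_of_invol (h.not_mem_Q h2 h21) h22
  obtain ⟨n, hn, hπn⟩ := h.exists_mem_normalizer_map (DihedralGroup.r ((i₁ - i₂) * 2⁻¹))
  refine ⟨n, ?_⟩
  apply h.uniq (Subgroup.mul_mem _ (Subgroup.mul_mem _ hn h1) (Subgroup.inv_mem _ hn)) h2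
  rw [map_mul, map_mul, map_inv, hπn, hi₁, hi₂, DihedralGroup.inv_r, DihedralGroup.r_mul_sr,
    DihedralGroup.sr_mul_r]
  congr 1
  have h2ne := zmod_two_ne_zero (r := r) h.hr
  field_simp
  ring

theorem key (h : Setup Q π R) {t b : G} (ht : t * t = 1) (hb : b * b = 1) {m : ZMod r}
    (hm : m ≠ 0) (hπ : π (t * b) = DihedralGroup.r m) :
    ∃ q ∈ Q, q⁻¹ * t * q ∈ Subgroup.normalizer ((R : Subgroup G) : Set G) ∧
      q⁻¹ * b * q ∈ Subgroup.normalizer ((R : Subgroup G) : Set G) := by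
  have htinv : t⁻¹ = t := inv_eq_of_mul_eq_one_left ht
  have hbinv : b⁻¹ = b := inv_eq_of_mul_eq_one_left hb
  obtain ⟨z, hz⟩ : ∃ z, z = t * b := ⟨_, rfl⟩
  have hzinv : z⁻¹ = b * t := by rw [hz, mul_inv_rev, htinv, hbinv]
  have hord : orderOf (π z) = r := by rw [hz, hπ]; exact orderOf_rot hm
  have hdvd : r ∣ orderOf z := by rw [← hord]; exact orderOf_map_dvd π z
  obtain ⟨w, hw⟩ : ∃ w, w = z ^ (orderOf z / r) := ⟨_, rfl⟩
  have hwr : orderOf w = r := by rw [hw]; exact orderOf_pow_orderOf_div (orderOf_pos z).ne' hdvd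
  have htz : t * z * t⁻¹ = z⁻¹ := by
    rw [hzinv, hz, htinv]
    calc t * (t * b) * t = (t * t) * b * t := by group
      _ = b * t := by rw [ht, one_mul]
  have hbz : b * z * b⁻¹ = z⁻¹ := by
    rw [hzinv, hz]; group
  have htw : t * w * t⁻¹ = w⁻¹ := by rw [hw, ← conj_pow, htz, inv_pow]
  have hbw : b * w * b⁻¹ = w⁻¹ := by rw [hw, ← conj_pow, hbz, inv_pow]
  have hWcard : Nat.card (Subgroup.zpowers w) = r := by rw [Nat.card_zpowers, hwr]
  have hWp : IsPGroup r ↥(Subgroup.zpowers w) := by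
    apply IsPGroup.of_card (n := 1); rw [hWcard, pow_one]
  obtain ⟨P, hWP⟩ := hWp.exists_le_sylow
  obtain ⟨q, hq, hP⟩ := h.sylow_conj P
  have hWeq : Subgroup.zpowers w = cj q (R : Subgroup G) := by
    rw [← hP]
    apply Subgroup.eq_of_le_of_card_ge hWP
    rw [hP, card_cj, h.card_R, hWcard]
  have hN : ∀ x, x ∈ Subgroup.normalizer ((Subgroup.zpowers w : Subgroup G) : Set G) →
      q⁻¹ * x * q ∈ Subgroup.normalizer ((R : Subgroup G) : Set G) := by
    intro x hx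
    rw [hWeq, ← cj_normalizer, mem_cj] at hx
    exact hx
  exact ⟨q, hq, hN t (mem_normalizer_zpowers htw), hN b (mem_normalizer_zpowers hbw)⟩

end Setup

theorem main {Q : Subgroup G} {π : G →* DihedralGroup r} {R : Sylow r G} (h : Setup Q π R) :
    Nonempty (↥(Subgroup.normalizer ((R : Subgroup G) : Set G)) ≃* DihedralGroup r) ∧
    ∀ a : G, a ∈ Subgroup.normalizer ((R : Subgroup G) : Set G) → orderOf a = 2 →
      (∀ b : G, orderOf b = 2 → b ∉ Q → ∃ g : G, g * a * g⁻¹ = b) ∧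
      Nat.card ↥(Q ⊓ Subgroup.centralizer ({a} : Set G)) ^ 2 = Nat.card ↥Q := by
  haveI : Q.Normal := h.normal
  refine ⟨h.iso, ?_⟩
  intro a haN ha2
  have ha1 : a ≠ 1 := by
    intro hh; rw [hh, orderOf_one] at ha2; omega
  have haa : a * a = 1 := by rw [← pow_two, ← ha2]; exact pow_orderOf_eq_one a
  have hainv : a⁻¹ = a := inv_eq_of_mul_eq_one_left haa
  obtain ⟨i, hi⟩ := h.refl_of_invol (h.not_mem_Q haN ha1) haa
  obtain ⟨y₀, hy₀, j, hj0, hj, hy₀1⟩ := h.exists_gen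
  have hy₀N : y₀ ∈ Subgroup.normalizer ((R : Subgroup G) : Set G) := Subgroup.le_normalizer hy₀
  obtain ⟨a', ha'⟩ : ∃ a', a' = y₀ * a * y₀⁻¹ := ⟨_, rfl⟩
  have ha'N : a' ∈ Subgroup.normalizer ((R : Subgroup G) : Set G) := by
    rw [ha']; exact Subgroup.mul_mem _ (Subgroup.mul_mem _ hy₀N haN) (Subgroup.inv_mem _ hy₀N)
  have ha'a' : a' * a' = 1 := by
    rw [ha']
    calc y₀ * a * y₀⁻¹ * (y₀ * a * y₀⁻¹) = y₀ * (a * a) * y₀⁻¹ := by group
      _ = 1 := by rw [haa]; group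
  have hπa' : π a' = DihedralGroup.sr (i - j - j) := by
    rw [ha', map_mul, map_mul, map_inv, hi, hj, DihedralGroup.inv_r, DihedralGroup.r_mul_sr,
      DihedralGroup.sr_mul_r]
    congr 1; ring
  have h2j : j + j ≠ 0 := add_self_ne_zero h.hr hj0
  refine ⟨?_, ?_⟩
  · intro b hb2 hbQ
    have hb1 : b ≠ 1 := by
      intro hh; rw [hh, orderOf_one] at hb2; omega
    have hbb : b * b = 1 := by rw [← pow_two, ← hb2]; exact pow_orderOf_eq_one b
    obtain ⟨l, hl⟩ := h.refl_of_invol hbQ hbb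
    -- choose t among a, a'
    have hchoose : ∃ t c : G, t = c * a * c⁻¹ ∧ t * t = 1 ∧
        ∃ m : ZMod r, m ≠ 0 ∧ π (t * b) = DihedralGroup.r m := by
      by_cases hli : l = i
      · refine ⟨a', y₀, ha', ha'a', j + j, h2j, ?_⟩
        rw [map_mul, hπa', hl, DihedralGroup.sr_mul_sr, hli]
        congr 1; ring
      · refine ⟨a, 1, by group, haa, l - i, sub_ne_zero.2 hli, ?_⟩
        rw [map_mul, hi, hl, DihedralGroup.sr_mul_sr]
    obtain ⟨t, c, htc, htt, m, hm, hπ⟩ := hchoose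
    obtain ⟨q, hq, htN, hbN⟩ := h.key htt hbb hm hπ
    have ht1 : t ≠ 1 := by
      intro hh
      rw [hh] at htc
      apply ha1
      have : a = c⁻¹ * (c * a * c⁻¹) * c := by group
      rw [this, ← htc]; group
    have e1 : q⁻¹ * t * q ≠ 1 := by
      intro hh
      apply ht1
      have : t = q * (q⁻¹ * t * q) * q⁻¹ := by group
      rw [this, hh]; group
    have e2 : q⁻¹ * b * q ≠ 1 := by
      intro hh
      apply hb1
      have : b = q * (q⁻¹ * b * q) * q⁻¹ := by group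
      rw [this, hh]; group
    have e3 : (q⁻¹ * t * q) * (q⁻¹ * t * q) = 1 := by
      calc (q⁻¹ * t * q) * (q⁻¹ * t * q) = q⁻¹ * (t * t) * q := by group
        _ = 1 := by rw [htt]; group
    have e4 : (q⁻¹ * b * q) * (q⁻¹ * b * q) = 1 := by
      calc (q⁻¹ * b * q) * (q⁻¹ * b * q) = q⁻¹ * (b * b) * q := by group
        _ = 1 := by rw [hbb]; group
    obtain ⟨n, hn⟩ := h.conj_in_normalizer htN hbN e1 e2 e3 e4
    refine ⟨q * n * q⁻¹ * c, ?_⟩
    calc q * n * q⁻¹ * c * a * (q * n * q⁻¹ * c)⁻¹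
        = q * (n * (q⁻¹ * (c * a * c⁻¹) * q) * n⁻¹) * q⁻¹ := by group
      _ = q * (q⁻¹ * b * q) * q⁻¹ := by rw [← htc, hn]
      _ = b := by group
  · -- cardinality
    obtain ⟨C, hCdef⟩ : ∃ C, C = Q ⊓ Subgroup.centralizer ({a} : Set G) := ⟨_, rfl⟩
    rw [← hCdef]
    have hCQ : C ≤ Q := hCdef ▸ inf_le_left
    have hCa : ∀ c ∈ C, a * c = c * a := by
      intro c hc; rw [hCdef] at hc; exact mem_cent_single.1 hc.2
    have hmemC : ∀ c, c ∈ Q → a * c = c * a → c ∈ C := by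
      intro c hc1 hc2; rw [hCdef]; exact ⟨hc1, mem_cent_single.2 hc2⟩
    -- a inverts y₀
    have hinv : a * y₀ * a⁻¹ = y₀⁻¹ := by
      have h1 : a * y₀ * a⁻¹ * y₀ ∈ (R : Subgroup G) ⊓ Q := by
        refine ⟨Subgroup.mul_mem _ ((Subgroup.mem_normalizer_iff.mp haN y₀).mp hy₀) hy₀, ?_⟩
        show a * y₀ * a⁻¹ * y₀ ∈ Q
        rw [h.mem_Q, map_mul, map_mul, map_mul, map_inv, hi, hj, DihedralGroup.inv_sr,
          DihedralGroup.sr_mul_r, DihedralGroup.sr_mul_sr, DihedralGroup.r_mul_r,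
          DihedralGroup.one_def]
        congr 1; ring
      rw [h.R_inf_Q] at h1
      exact eq_inv_of_mul_eq_one_left (Subgroup.mem_bot.1 h1)
    -- elements of Q commuting with y₀ are trivial
    have hZ : ∀ e ∈ Q, y₀ * e = e * y₀ → e = 1 := by
      intro e he hey
      have : e ∈ Q ⊓ Subgroup.centralizer ((R : Subgroup G) : Set G) := by
        refine ⟨he, ?_⟩
        show e ∈ Subgroup.centralizer ((R : Subgroup G) : Set G)
        rw [Subgroup.mem_centralizer_iff]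
        intro y hy
        have hmem : (⟨y, hy⟩ : ↥(R : Subgroup G)) ∈ Subgroup.zpowers (⟨y₀, hy₀⟩ : ↥(R : Subgroup G)) :=
          mem_zpowers_of_prime_card h.card_R (fun hh => hy₀1 (congrArg Subtype.val hh))
        obtain ⟨k, hk⟩ := Subgroup.mem_zpowers_iff.1 hmem
        have hk' : y₀ ^ k = y := by
          have := congrArg Subtype.val hk
          simpa using this
        rw [← hk']
        have hc : Commute y₀ e := hey
        exact (hc.zpow_left k).eq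
      rw [h.cent] at this
      exact Subgroup.mem_bot.1 this
    have hodd : r % 2 = 1 := (Fact.out : r.Prime).eq_two_or_odd.resolve_left h.hr
    obtain ⟨s, hs⟩ : ∃ s, r = 2 * s + 1 := ⟨r / 2, by omega⟩
    have hy₀r : y₀ ^ r = 1 := h.pow_r_eq_one hy₀
    -- elements commuting with a and a' commute with y₀
    have hcomm : ∀ e : G, a * e = e * a → a' * e = e * a' → y₀ * e = e * y₀ := by
      intro e h1 h2
      have hc1 : Commute a e := h1
      have hc2 : Commute a' e := h2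
      have hz : a * a' = (y₀ ^ 2)⁻¹ := by
        rw [ha']
        calc a * (y₀ * a * y₀⁻¹) = (a * y₀ * a⁻¹) * y₀⁻¹ := by rw [hainv]; group
          _ = (y₀ ^ 2)⁻¹ := by rw [hinv]; group
      have hc3 : Commute ((y₀ ^ 2)⁻¹) e := by rw [← hz]; exact hc1.mul_left hc2
      have hc4 : Commute (y₀ ^ 2) e := by
        have := hc3.inv_left; rwa [inv_inv] at this
      have hc5 : Commute ((y₀ ^ 2) ^ (s + 1)) e := hc4.pow_left (s + 1)
      have hyy : (y₀ ^ 2) ^ (s + 1) = y₀ := by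
        rw [← pow_mul, show 2 * (s + 1) = r + 1 by omega, pow_succ, hy₀r, one_mul]
      rw [hyy] at hc5
      exact hc5.eq
    -- the product map
    have hconjQ : ∀ c ∈ Q, y₀ * c * y₀⁻¹ ∈ Q := fun c hc =>
      Subgroup.Normal.conj_mem inferInstance c hc y₀
    let f : ↥C × ↥C → ↥Q := fun p =>
      ⟨(p.1 : G) * (y₀ * (p.2 : G) * y₀⁻¹), Q.mul_mem (hCQ p.1.2) (hconjQ _ (hCQ p.2.2))⟩
    have hconj_comm : ∀ c : G, a * c = c * a → a' * (y₀ * c * y₀⁻¹) = (y₀ * c * y₀⁻¹) * a' := by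
      intro c hc
      rw [ha']
      calc y₀ * a * y₀⁻¹ * (y₀ * c * y₀⁻¹) = y₀ * (a * c) * y₀⁻¹ := by group
        _ = y₀ * (c * a) * y₀⁻¹ := by rw [hc]
        _ = y₀ * c * y₀⁻¹ * (y₀ * a * y₀⁻¹) := by group
    have hinj : Function.Injective f := by
      rintro ⟨⟨c₁, hc₁⟩, ⟨c₂, hc₂⟩⟩ ⟨⟨d₁, hd₁⟩, ⟨d₂, hd₂⟩⟩ hfe
      have hfe' : c₁ * (y₀ * c₂ * y₀⁻¹) = d₁ * (y₀ * d₂ * y₀⁻¹) := congrArg Subtype.val hfe
      obtain ⟨e, he⟩ : ∃ e, e = d₁⁻¹ * c₁ := ⟨_, rfl⟩
      have he' : e = y₀ * (d₂ * c₂⁻¹) * y₀⁻¹ := by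
        rw [he]
        have : c₁ = d₁ * (y₀ * d₂ * y₀⁻¹) * (y₀ * c₂ * y₀⁻¹)⁻¹ := by rw [← hfe']; group
        rw [this]; group
      have heQ : e ∈ Q := by rw [he]; exact Q.mul_mem (Q.inv_mem (hCQ hd₁)) (hCQ hc₁)
      have hea : a * e = e * a := by
        rw [he]
        have hC1 : Commute a c₁ := hCa c₁ hc₁
        have hD1 : Commute a d₁ := hCa d₁ hd₁
        exact (hD1.inv_right.mul_right hC1).eq
      have hea' : a' * e = e * a' := by
        rw [he']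
        apply hconj_comm
        have hC2 : Commute a c₂ := hCa c₂ hc₂
        have hD2 : Commute a d₂ := hCa d₂ hd₂
        exact (hD2.mul_right hC2.inv_right).eq
      have he1 : e = 1 := hZ e heQ (hcomm e hea hea')
      have hcd1 : c₁ = d₁ := by
        rw [he] at he1
        have : c₁ = d₁ * (d₁⁻¹ * c₁) := by group
        rw [this, he1, mul_one]
      have hcd2 : c₂ = d₂ := by
        rw [he'] at he1
        have h3 : d₂ * c₂⁻¹ = y₀⁻¹ * (y₀ * (d₂ * c₂⁻¹) * y₀⁻¹) * y₀ := by group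
        rw [he1] at h3
        have h4 : d₂ * c₂⁻¹ = 1 := by rw [h3]; group
        exact (mul_inv_eq_one.1 h4).symm
      subst hcd1; subst hcd2; rfl
    have hsurj : Function.Surjective f := by
      rintro ⟨q, hq⟩
      obtain ⟨b, hbdef⟩ : ∃ b, b = q * a' * q⁻¹ := ⟨_, rfl⟩
      have hbb : b * b = 1 := by
        rw [hbdef]
        calc q * a' * q⁻¹ * (q * a' * q⁻¹) = q * (a' * a') * q⁻¹ := by group
          _ = 1 := by rw [ha'a']; group
      have hπq : π q = 1 := h.mem_Q.1 hq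
      have hπb : π b = π a' := by
        rw [hbdef, map_mul, map_mul, map_inv, hπq, inv_one, one_mul, mul_one]
      have hπ : π (a * b) = DihedralGroup.r (-(j + j)) := by
        rw [map_mul, hπb, hπa', hi, DihedralGroup.sr_mul_sr]
        congr 1; ring
      obtain ⟨g, hg, hgaN, hgbN⟩ := h.key haa hbb (neg_ne_zero.2 h2j) hπ
      have hπg : π g = 1 := h.mem_Q.1 hg
      have e1 : g⁻¹ * a * g = a := by
        apply h.uniq hgaN haN
        rw [map_mul, map_mul, map_inv, hπg, inv_one, one_mul, mul_one]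
      have e2 : g⁻¹ * b * g = a' := by
        apply h.uniq hgbN ha'N
        rw [map_mul, map_mul, map_inv, hπg, inv_one, one_mul, mul_one, hπb]
      have hga : a * g = g * a := by
        calc a * g = g * (g⁻¹ * a * g) := by group
          _ = g * a := by rw [e1]
      obtain ⟨g', hg'⟩ : ∃ g', g' = g⁻¹ * q := ⟨_, rfl⟩
      have hg'Q : g' ∈ Q := by rw [hg']; exact Q.mul_mem (Q.inv_mem hg) hq
      have hg'a' : g' * a' * g'⁻¹ = a' := by
        calc g' * a' * g'⁻¹ = g⁻¹ * (q * a' * q⁻¹) * g := by rw [hg']; group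
          _ = g⁻¹ * b * g := by rw [hbdef]
          _ = a' := e2
      obtain ⟨c₂, hc₂⟩ : ∃ c₂, c₂ = y₀⁻¹ * g' * y₀ := ⟨_, rfl⟩
      have hc₂Q : c₂ ∈ Q := by
        rw [hc₂]
        have := Subgroup.Normal.conj_mem (inferInstance : Q.Normal) g' hg'Q y₀⁻¹
        rwa [inv_inv] at this
      have hc₂a : a * c₂ = c₂ * a := by
        have h5 : a = y₀⁻¹ * a' * y₀ := by rw [ha']; group
        have h6 : a' * g' = g' * a' := by
          calc a' * g' = (g' * a' * g'⁻¹) * g' := by rw [hg'a']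
            _ = g' * a' := by group
        rw [hc₂, h5]
        calc y₀⁻¹ * a' * y₀ * (y₀⁻¹ * g' * y₀) = y₀⁻¹ * (a' * g') * y₀ := by group
          _ = y₀⁻¹ * (g' * a') * y₀ := by rw [h6]
          _ = y₀⁻¹ * g' * y₀ * (y₀⁻¹ * a' * y₀) := by group
      refine ⟨(⟨g, hmemC g hg hga⟩, ⟨c₂, hmemC c₂ hc₂Q hc₂a⟩), ?_⟩
      apply Subtype.ext
      show g * (y₀ * c₂ * y₀⁻¹) = q
      rw [hc₂, hg']; group
    have hcard := Nat.card_congr (Equiv.ofBijective f ⟨hinj, hsurj⟩)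
    rw [Nat.card_prod] at hcard
    rw [pow_two, hcard]

/-- Let G be a finite group and r an odd prime such that G ⧸ O₂(G) is dihedral of order 2r, and let R be a Sylow r-subgroup of G with C_{O₂(G)}(R) = 1. Then N_G(R) is dihedral of order 2r; for any involution a of N_G(R), every involution of G outside O₂(G) is conjugate to a; and |C_{O₂(G)}(a)|² = |O₂(G)|. -/
theorem result {G : Type*} [Group G] [Finite G] {r : ℕ} [Fact r.Prime] (hr : r ≠ 2) [hN : (Cfsg.pCore 2 G).Normal] (hquot : Nonempty (G ⧸ Cfsg.pCore 2 G ≃* DihedralGroup r)) (R : Sylow r G) (hC : Cfsg.pCore 2 G ⊓ Subgroup.centralizer ((R : Subgroup G) : Set G) = ⊥) : Nonempty (↥(Subgroup.normalizer ((R : Subgroup G) : Set G)) ≃* DihedralGroup r) ∧ ∀ a : G, a ∈ Subgroup.normalizer ((R : Subgroup G) : Set G) → orderOf a = 2 → (∀ b : G, orderOf b = 2 → b ∉ Cfsg.pCore 2 G → ∃ g : G, g * a * g⁻¹ = b) ∧ Nat.card ↥(Cfsg.pCore 2 G ⊓ Subgroup.centralizer ({a} : Set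 G)) ^ 2 = Nat.card ↥(Cfsg.pCore 2 G) := by
  obtain ⟨φ⟩ := hquot
  have hsetup : Setup (Cfsg.pCore 2 G) (φ.toMonoidHom.comp (QuotientGroup.mk' (Cfsg.pCore 2 G))) R := by
    refine ⟨hr, ?_, ?_, Cfsg.Agent.helper1.pCore_isPGroup 2, hC⟩
    · exact φ.surjective.comp (QuotientGroup.mk'_surjective _)
    · ext x
      rw [MonoidHom.mem_ker]
      show φ (QuotientGroup.mk' (Cfsg.pCore 2 G) x) = 1 ↔ _
      rw [MulEquiv.map_eq_one_iff, QuotientGroup.mk'_apply, QuotientGroup.eq_one_iff]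
  exact main hsetup

end Cfsg.Agent.S2873
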