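import Cfsg.Statements.S2758
import Mathlib
import Cfsg.Agent.S2873
import Cfsg.Agent.Lib_helper1_Dihedral
-- import your own Cfsg.Agent.* helpers here

set_option autoImplicit false
open Cfsg

namespace Cfsg.Agent.S2758


open Cfsg.Agent.helper7 Cfsg.Agent.helper14 Cfsg.Agent.S2873

theorem sr_pow_odd {n : ℕ} (i : ZMod n) {m : ℕ} (hm : m % 2 = 1) :
    (DihedralGroup.sr i : DihedralGroup n) ^ m = DihedralGroup.sr i := by
  obtain ⟨t, rfl⟩ : ∃ t, m = 2 * t + 1 := ⟨m / 2, by omega⟩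
  rw [pow_succ, pow_mul, pow_two, DihedralGroup.sr_mul_self, one_pow, one_mul]

theorem dih_rot_of_odd_pow {n : ℕ} {x : DihedralGroup n} {m : ℕ} (hm : m % 2 = 1)
    (hx : x ^ m = 1) : ∃ i, x = DihedralGroup.r i := by
  cases x with
  | r i => exact ⟨i, rfl⟩
  | sr i =>
    exfalso
    rw [sr_pow_odd i hm, DihedralGroup.one_def] at hx
    cases hx

theorem dih_cast {A : Type*} [Group A] (n m : ℕ) (h : n = m) (f : DihedralGroup n ≃* A) :
    Nonempty (A ≃* DihedralGroup m) := by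
  subst h; exact ⟨f.symm⟩

/-- (c) ⇒ (a), for `y` of order exactly `p`. -/
theorem c_to_a_aux {G : Type*} [Group G] {p : ℕ} [Fact p.Prime] (hp : p ≠ 2) {x y : G}
    (hy : orderOf y = p) (hxy : x * y * x⁻¹ = y⁻¹) (K : Subgroup G)
    (hK : K = Subgroup.closure ({x, y} : Set G)) : Cfsg.Involves (DihedralGroup p) G := by
  have hpp : p.Prime := Fact.out
  have hy1 : y ≠ 1 := by
    intro h; rw [h, orderOf_one] at hy; exact hpp.one_lt.ne hy
  have hyp : y ^ p = 1 := by rw [← hy]; exact pow_orderOf_eq_one y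
  have hnc : x * y ≠ y * x := by
    intro h
    have h1 : x * y * x⁻¹ = y := by rw [h]; group
    rw [hxy] at h1
    have h2 : y ^ 2 = 1 := by
      rw [pow_two]
      calc y * y = y⁻¹ * y := by rw [h1]
        _ = 1 := inv_mul_cancel y
    have h3 : orderOf y ∣ 2 := orderOf_dvd_of_pow_eq_one h2
    rw [hy] at h3
    rcases (Nat.dvd_prime Nat.prime_two).1 h3 with h4 | h4
    · exact hpp.one_lt.ne' h4
    · exact hp h4
  have e1 : x * y = y⁻¹ * x := by rw [← hxy]; group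
  have e2 : x * y⁻¹ = y * x := by
    have h1 : x * y⁻¹ * x⁻¹ = y := by
      calc x * y⁻¹ * x⁻¹ = (x * y * x⁻¹)⁻¹ := by group
        _ = y := by rw [hxy, inv_inv]
    calc x * y⁻¹ = (x * y⁻¹ * x⁻¹) * x := by group
      _ = y * x := by rw [h1]
  have hzy : Commute (x * x) y := by
    show (x * x) * y = y * (x * x)
    calc (x * x) * y = x * (x * y) := mul_assoc _ _ _
      _ = x * (y⁻¹ * x) := by rw [e1]
      _ = (x * y⁻¹) * x := by group
      _ = (y * x) * x := by rw [e2]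
      _ = y * (x * x) := by group
  have hzx : Commute (x * x) x := by
    show (x * x) * x = x * (x * x)
    exact mul_assoc _ _ _
  obtain ⟨R, hR⟩ : ∃ R, R = Subgroup.zpowers (x * x) := ⟨_, rfl⟩
  have hRcomm : ∀ n ∈ R, n * x = x * n ∧ n * y = y * n := by
    intro n hn
    rw [hR] at hn
    obtain ⟨k, rfl⟩ := Subgroup.mem_zpowers_iff.1 hn
    exact ⟨(hzx.zpow_left k).eq, (hzy.zpow_left k).eq⟩
  have hxK : x ∈ K := by rw [hK]; exact Subgroup.subset_closure (Set.mem_insert _ _)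
  have hyK : y ∈ K := by
    rw [hK]; exact Subgroup.subset_closure (Set.mem_insert_of_mem _ rfl)
  have hKR : ∀ g ∈ K, ∀ n ∈ R, g * n = n * g := by
    intro g hg n hn
    have hle : K ≤ Subgroup.centralizer ({n} : Set G) := by
      rw [hK, Subgroup.closure_le]
      intro w hw
      rcases hw with rfl | hw
      · exact mem_cent_single.2 (hRcomm n hn).1
      · rw [Set.mem_singleton_iff] at hw; subst hw
        exact mem_cent_single.2 (hRcomm n hn).2
    exact (mem_cent_single.1 (hle hg)).symm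
  have hn : (R.subgroupOf K).Normal := by
    constructor
    intro n hn g
    rw [Subgroup.mem_subgroupOf] at hn ⊢
    have e : ((g * n * g⁻¹ : ↥K) : G) = (n : G) := by
      show (g : G) * (n : G) * (g : G)⁻¹ = (n : G)
      rw [hKR g g.2 n hn]; group
    rw [e]; exact hn
  haveI := hn
  have hmk : ∀ k : ↥K, (QuotientGroup.mk k : ↥K ⧸ R.subgroupOf K) = 1 ↔ (k : G) ∈ R := by
    intro k
    rw [QuotientGroup.eq_one_iff, Subgroup.mem_subgroupOf]
  obtain ⟨a, ha⟩ : ∃ a : ↥K ⧸ R.subgroupOf K, a = QuotientGroup.mk ⟨x, hxK⟩ := ⟨_, rfl⟩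
  obtain ⟨b, hb⟩ : ∃ b : ↥K ⧸ R.subgroupOf K, b = QuotientGroup.mk ⟨y, hyK⟩ := ⟨_, rfl⟩
  have haa : a * a = 1 := by
    rw [ha, ← QuotientGroup.mk_mul, hmk]
    show x * x ∈ R
    rw [hR]; exact Subgroup.mem_zpowers _
  have ha1 : a ≠ 1 := by
    rw [ha]
    intro h
    have hx : x ∈ R := (hmk _).1 h
    exact hnc (hRcomm x hx).2
  have hee : (a * b) * (a * b) = 1 := by
    rw [ha, hb, ← QuotientGroup.mk_mul, ← QuotientGroup.mk_mul, hmk]
    show (x * y) * (x * y) ∈ R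
    have : (x * y) * (x * y) = x * x := by
      calc (x * y) * (x * y) = x * (y * x) * y := by group
        _ = x * (x * y⁻¹) * y := by rw [e2]
        _ = x * x := by group
    rw [this, hR]; exact Subgroup.mem_zpowers _
  have he1 : a * b ≠ 1 := by
    rw [ha, hb, ← QuotientGroup.mk_mul]
    intro h
    have hxy' : x * y ∈ R := (hmk _).1 h
    have h2 := (hRcomm _ hxy').2
    apply hnc
    have h3 : x * y * y = y * x * y := by rw [h2, mul_assoc]
    exact mul_right_cancel h3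
  have hae : a * (a * b) = b := by rw [← mul_assoc, haa, one_mul]
  have hbp : orderOf b = p := by
    apply orderOf_eq_prime
    · rw [hb, ← QuotientGroup.mk_pow, hmk]
      show y ^ p ∈ R
      rw [hyp]; exact R.one_mem
    · rw [hb]
      intro h
      have hy' : y ∈ R := (hmk _).1 h
      exact hnc ((hRcomm y hy').1).symm
  have ho : orderOf (a * (a * b)) = p := by rw [hae, hbp]
  have htop : Subgroup.closure ({a, a * b} : Set (↥K ⧸ R.subgroupOf K)) = ⊤ := by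
    rw [eq_top_iff]
    have h1 : (⊤ : Subgroup (↥K ⧸ R.subgroupOf K)) =
        (⊤ : Subgroup ↥K).map (QuotientGroup.mk' (R.subgroupOf K)) := by
      rw [← MonoidHom.range_eq_map, MonoidHom.range_eq_top.2 (QuotientGroup.mk'_surjective _)]
    have h2 : (⊤ : Subgroup ↥K) = Subgroup.closure {⟨x, hxK⟩, ⟨y, hyK⟩} := by
      symm
      rw [eq_top_iff]
      subst hK
      rw [← Subgroup.closure_closure_coe_preimage (k := ({x, y} : Set G))]
      apply Subgroup.closure_mono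
      rintro ⟨w, hw⟩ hw'
      rcases hw' with h | h
      · left; exact Subtype.ext h
      · right; exact Subtype.ext h
    rw [h1, h2, MonoidHom.map_closure, Subgroup.closure_le]
    rintro _ ⟨k, hk, rfl⟩
    rcases hk with rfl | hk
    · have : (QuotientGroup.mk' (R.subgroupOf K)) ⟨x, hxK⟩ = a := ha.symm
      rw [this]
      exact Subgroup.subset_closure (Set.mem_insert _ _)
    · rw [Set.mem_singleton_iff] at hk; subst hk
      have : (QuotientGroup.mk' (R.subgroupOf K)) ⟨y, hyK⟩ = a * (a * b) := by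
        rw [hae]; exact hb.symm
      rw [this]
      exact Subgroup.mul_mem _ (Subgroup.subset_closure (Set.mem_insert _ _))
        (Subgroup.subset_closure (Set.mem_insert_of_mem _ rfl))
  obtain ⟨χ⟩ := dih_cast _ p ho (Cfsg.Agent.helper1.dihedralEquiv a (a * b) haa hee ha1 he1)
  refine ⟨K, R, hn, ⟨?_⟩⟩
  exact ((Subgroup.topEquiv.symm.trans (MulEquiv.subgroupCongr htop.symm)).trans χ)

theorem c_to_a {G : Type*} [Group G] [Finite G] {p : ℕ} [Fact p.Prime] (hp : p ≠ 2) {x y : G}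
    (hy : ∃ k : ℕ, orderOf y = p ^ k) (hy1 : y ≠ 1) (hxy : x * y * x⁻¹ = y⁻¹) :
    Cfsg.Involves (DihedralGroup p) G := by
  have hpp : p.Prime := Fact.out
  obtain ⟨k, hk⟩ := hy
  have hk0 : k ≠ 0 := by
    rintro rfl
    rw [pow_zero, orderOf_eq_one_iff] at hk
    exact hy1 hk
  have hdvd : p ∣ orderOf y := by rw [hk]; exact dvd_pow_self p hk0
  have h1 : orderOf (y ^ (orderOf y / p)) = p :=
    orderOf_pow_orderOf_div (orderOf_pos y).ne' hdvd
  have h2 : x * y ^ (orderOf y / p) * x⁻¹ = (y ^ (orderOf y / p))⁻¹ := by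
    rw [← conj_pow, hxy, inv_pow]
  exact c_to_a_aux hp h1 h2 _ rfl

theorem b_to_c {G : Type*} [Group G] [Finite G] {p : ℕ} [Fact p.Prime] {x : G} {P : Subgroup G}
    (hx : ∃ k : ℕ, orderOf x = 2 ^ k) (hP : IsPGroup p ↥P)
    (hxN : x ∈ Subgroup.normalizer (P : Set G)) (hxC : x ∉ Subgroup.centralizer (P : Set G)) :
    ∃ x y : G, (∃ k : ℕ, orderOf x = 2 ^ k) ∧ (∃ k : ℕ, orderOf y = p ^ k) ∧ y ≠ 1 ∧
      x * y * x⁻¹ = y⁻¹ := by
  classical
  have hpp : p.Prime := Fact.out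
  obtain ⟨k, hk⟩ := hx
  have hex : ∃ j : ℕ, x ^ (2 ^ j) ∈ Subgroup.centralizer (P : Set G) := by
    refine ⟨k, ?_⟩
    rw [← hk, pow_orderOf_eq_one]; exact Subgroup.one_mem _
  have hmin : ∀ m, m < Nat.find hex → ¬ (x ^ (2 ^ m) ∈ Subgroup.centralizer (P : Set G)) :=
    fun m hm => Nat.find_min hex hm
  have hspec := Nat.find_spec hex
  obtain ⟨j, hj⟩ : ∃ j, j = Nat.find hex := ⟨_, rfl⟩
  rw [← hj] at hspec
  have hj0 : j ≠ 0 := by
    rintro rfl
    rw [pow_zero, pow_one] at hspec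
    exact hxC hspec
  obtain ⟨x', hx'⟩ : ∃ x', x' = x ^ (2 ^ (j - 1)) := ⟨_, rfl⟩
  have hx'C : x' ∉ Subgroup.centralizer (P : Set G) := by
    rw [hx']
    exact hmin (j - 1) (by rw [← hj]; omega)
  have hx'2 : x' * x' ∈ Subgroup.centralizer (P : Set G) := by
    have : x' * x' = x ^ (2 ^ j) := by
      rw [hx', ← pow_add, ← two_mul, ← pow_succ']
      congr 2; omega
    rw [this]; exact hspec
  have hx'N : x' ∈ Subgroup.normalizer (P : Set G) := by
    rw [hx']; exact Subgroup.pow_mem _ hxN _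
  have hx'ord : ∃ k' : ℕ, orderOf x' = 2 ^ k' := by
    have : orderOf x' ∣ 2 ^ k := by rw [hx', ← hk]; exact orderOf_pow_dvd _
    obtain ⟨k', -, hk'⟩ := (Nat.dvd_prime_pow Nat.prime_two).1 this
    exact ⟨k', hk'⟩
  rw [Subgroup.mem_centralizer_iff] at hx'C
  push Not at hx'C
  obtain ⟨u, hu, hux⟩ := hx'C
  have huP : u ∈ P := hu
  have hconj : x' * u * x'⁻¹ ∈ P := (Subgroup.mem_normalizer_iff.mp hx'N u).mp huP
  have hsq : (x' * x') * u * (x' * x')⁻¹ = u := by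
    have := Subgroup.mem_centralizer_iff.1 hx'2 u hu
    calc (x' * x') * u * (x' * x')⁻¹ = (u * (x' * x')) * (x' * x')⁻¹ := by rw [this]
      _ = u := by group
  refine ⟨x', u⁻¹ * (x' * u * x'⁻¹), hx'ord, ?_, ?_, ?_⟩
  · have hyP : u⁻¹ * (x' * u * x'⁻¹) ∈ P := P.mul_mem (P.inv_mem huP) hconj
    obtain ⟨m, hm⟩ := (IsPGroup.iff_orderOf.1 hP) ⟨_, hyP⟩
    refine ⟨m, ?_⟩
    rw [← hm, Subgroup.orderOf_mk]
  · intro h
    apply hux
    have h' : x' * u * x'⁻¹ = u := by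
      have := congrArg (fun z => u * z) h
      simpa using this
    calc u * x' = (x' * u * x'⁻¹) * x' := by rw [h']
      _ = x' * u := by group
  · calc x' * (u⁻¹ * (x' * u * x'⁻¹)) * x'⁻¹
        = x' * u⁻¹ * x'⁻¹ * ((x' * x') * u * (x' * x')⁻¹) := by group
      _ = x' * u⁻¹ * x'⁻¹ * u := by rw [hsq]
      _ = (u⁻¹ * (x' * u * x'⁻¹))⁻¹ := by group

theorem a_to_b_aux {K : Type*} [Group K] [Finite K] {p : ℕ} [Fact p.Prime] (hp : p ≠ 2)
    (π : K →* DihedralGroup p) (hsurj : Function.Surjective π) :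
    ∃ (x : K) (P₁ : Sylow p K), (∃ k : ℕ, orderOf x = 2 ^ k) ∧
      x ∈ Subgroup.normalizer ((P₁ : Subgroup K) : Set K) ∧
      ∃ u ∈ (P₁ : Subgroup K), x * u * x⁻¹ ≠ u := by
  have hpp : p.Prime := Fact.out
  have hodd : p % 2 = 1 := hpp.eq_two_or_odd.resolve_left hp
  obtain ⟨P₁⟩ : Nonempty (Sylow p K) := inferInstance
  obtain ⟨C, hC⟩ : ∃ C, C = (rot p).comap π := ⟨_, rfl⟩
  haveI hCn : C.Normal := by rw [hC]; infer_instance
  have hmapP : ∀ u ∈ (P₁ : Subgroup K), ∃ i, π u = DihedralGroup.r i := by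
    intro u hu
    obtain ⟨k, hk⟩ := P₁.2 ⟨u, hu⟩
    have hk' : u ^ (p ^ k) = 1 := by
      have := congrArg Subtype.val hk
      simpa using this
    have hoddk : (p ^ k) % 2 = 1 := Nat.odd_iff.1 ((Nat.odd_iff.2 hodd).pow)
    apply dih_rot_of_odd_pow hoddk
    rw [← map_pow, hk', map_one]
  have hP₁C : (P₁ : Subgroup K) ≤ C := by
    intro u hu
    rw [hC, Subgroup.mem_comap]
    exact hmapP u hu
  obtain ⟨t, ht⟩ := hsurj (DihedralGroup.sr 0)
  have htP : ((t • P₁ : Sylow p K) : Subgroup K) ≤ C := by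
    rw [sylow_smul_coe]
    rintro _ ⟨y, hy, rfl⟩
    exact hCn.conj_mem y (hP₁C hy) t
  obtain ⟨m, hmC, hm⟩ := exists_conj_eq_of_sylow_le C P₁ (t • P₁) hP₁C htP
  rw [sylow_smul_coe] at hm
  obtain ⟨g, hg⟩ : ∃ g, g = m⁻¹ * t := ⟨_, rfl⟩
  have hgN : g ∈ Subgroup.normalizer ((P₁ : Subgroup K) : Set K) := by
    apply mem_normalizer_of_cj_eq
    rw [hg, ← cj_cj, hm, cj_inv_cj]
  obtain ⟨i, hi⟩ : ∃ i, π m = DihedralGroup.r i := by
    rw [hC, Subgroup.mem_comap] at hmC; exact hmC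
  have hπg : π g = DihedralGroup.sr (0 - -i) := by
    rw [hg, map_mul, map_inv, hi, ht, DihedralGroup.inv_r, DihedralGroup.r_mul_sr]
  obtain ⟨a, b, hbodd, hab⟩ := Nat.exists_eq_two_pow_mul_odd (orderOf_pos g).ne'
  have hb0 : b ≠ 0 := by
    rintro rfl
    exact (Nat.not_odd_iff_even.2 (by decide : Even 0)) hbodd
  obtain ⟨x, hx⟩ : ∃ x, x = g ^ b := ⟨_, rfl⟩
  have hxord : orderOf x = 2 ^ a := by
    rw [hx, orderOf_pow_of_dvd hb0 (Dvd.intro_left _ hab.symm), hab]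
    exact Nat.mul_div_cancel _ (Nat.pos_of_ne_zero hb0)
  have hπx : π x = DihedralGroup.sr (0 - -i) := by
    rw [hx, map_pow, hπg, sr_pow_odd _ (Nat.odd_iff.1 hbodd)]
  have hxN : x ∈ Subgroup.normalizer ((P₁ : Subgroup K) : Set K) := by
    rw [hx]; exact Subgroup.pow_mem _ hgN _
  -- an element of P₁ outside the kernel
  have hexu : ∃ u ∈ (P₁ : Subgroup K), π u ≠ 1 := by
    by_contra hall
    push Not at hall
    have hle : (P₁ : Subgroup K) ≤ π.ker := fun u hu => MonoidHom.mem_ker.2 (hall u hu)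
    have h1 : π.ker.index ∣ (P₁ : Subgroup K).index := Subgroup.index_dvd_of_le hle
    have h2 : π.ker.index = 2 * p := by
      rw [Subgroup.index_ker, MonoidHom.range_eq_top.2 hsurj, Subgroup.card_top,
        DihedralGroup.nat_card]
    rw [h2] at h1
    exact P₁.not_dvd_index (dvd_trans (dvd_mul_left p 2) h1)
  obtain ⟨u, hu, hπu⟩ := hexu
  obtain ⟨i₀, hi₀⟩ := hmapP u hu
  have hi₀0 : i₀ ≠ 0 := by
    rintro rfl
    rw [DihedralGroup.r_zero] at hi₀
    exact hπu hi₀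
  refine ⟨x, P₁, ⟨a, hxord⟩, hxN, u, hu, ?_⟩
  intro h
  have h3 := congrArg π h
  rw [map_mul, map_mul, map_inv, hπx, hi₀, DihedralGroup.inv_sr, DihedralGroup.sr_mul_r,
    DihedralGroup.sr_mul_sr] at h3
  have h4 : (0 - -i) - (0 - -i + i₀) = i₀ := DihedralGroup.r.inj h3
  apply add_self_ne_zero hp hi₀0
  have h5 : i₀ + i₀ = i₀ - ((0 - -i) - (0 - -i + i₀)) := by ring
  rw [h5, h4, sub_self]

theorem a_to_b {G : Type*} [Group G] [Finite G] {p : ℕ} [Fact p.Prime] (hp : p ≠ 2)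
    (h : Cfsg.Involves (DihedralGroup p) G) :
    ∃ (x : G) (P : Subgroup G), (∃ k : ℕ, orderOf x = 2 ^ k) ∧ IsPGroup p ↥P ∧
      x ∈ Subgroup.normalizer (P : Set G) ∧ x ∉ Subgroup.centralizer (P : Set G) := by
  obtain ⟨K, R, hn, ⟨φ⟩⟩ := h
  haveI := hn
  obtain ⟨x, P₁, ⟨k, hk⟩, hxN, u, hu, hxu⟩ := a_to_b_aux hp
    (φ.toMonoidHom.comp (QuotientGroup.mk' (R.subgroupOf K)))
    (φ.surjective.comp (QuotientGroup.mk'_surjective _))
  have hconj : ∀ z : ↥K, z ∈ Subgroup.normalizer ((P₁ : Subgroup ↥K) : Set ↥K) →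
      ∀ h ∈ (P₁ : Subgroup ↥K).map K.subtype, (z : G) * h * (z : G)⁻¹ ∈
        (P₁ : Subgroup ↥K).map K.subtype := by
    rintro z hz _ ⟨v, hv, rfl⟩
    exact ⟨z * v * z⁻¹, (Subgroup.mem_normalizer_iff.mp hz v).mp hv, rfl⟩
  refine ⟨(x : G), (P₁ : Subgroup ↥K).map K.subtype, ⟨k, ?_⟩, P₁.2.map _, ?_, ?_⟩
  · rw [Subgroup.orderOf_coe]; exact hk
  · rw [Subgroup.mem_normalizer_iff]
    intro h
    constructor
    · exact hconj x hxN h
    · intro hh
      have := hconj x⁻¹ (Subgroup.inv_mem _ hxN) _ hh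
      have e : ((x⁻¹ : ↥K) : G) * ((x : G) * h * (x : G)⁻¹) * ((x⁻¹ : ↥K) : G)⁻¹ = h := by
        rw [Subgroup.coe_inv]; group
      rwa [e] at this
  · intro hc
    apply hxu
    have := Subgroup.mem_centralizer_iff.1 hc (u : G) ⟨u, hu, rfl⟩
    apply Subtype.ext
    show (x : G) * (u : G) * (x : G)⁻¹ = (u : G)
    rw [← this]; group

/-- For an odd prime p and a finite group G the following are equivalent: the dihedral group of order 2p is involved in G; some element of 2-power order normalizes but does not centralize some p-subgroup of G; some element of 2-power order inverts some nonidentity element of p-power order. -/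
theorem result {G : Type*} [Group G] [Finite G] {p : ℕ} [Fact p.Prime] (hp : p ≠ 2) : (Cfsg.Involves (DihedralGroup p) G ↔ ∃ (x : G) (P : Subgroup G), (∃ k : ℕ, orderOf x = 2 ^ k) ∧ IsPGroup p ↥P ∧ x ∈ Subgroup.normalizer (P : Set G) ∧ x ∉ Subgroup.centralizer (P : Set G)) ∧ (Cfsg.Involves (DihedralGroup p) G ↔ ∃ x y : G, (∃ k : ℕ, orderOf x = 2 ^ k) ∧ (∃ k : ℕ, orderOf y = p ^ k) ∧ y ≠ 1 ∧ x * y * x⁻¹ = y⁻¹) := by
  have hbc : (∃ (x : G) (P : Subgroup G), (∃ k : ℕ, orderOf x = 2 ^ k) ∧ IsPGroup p ↥P ∧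
      x ∈ Subgroup.normalizer (P : Set G) ∧ x ∉ Subgroup.centralizer (P : Set G)) →
      ∃ x y : G, (∃ k : ℕ, orderOf x = 2 ^ k) ∧ (∃ k : ℕ, orderOf y = p ^ k) ∧ y ≠ 1 ∧
        x * y * x⁻¹ = y⁻¹ := by
    rintro ⟨x, P, hx, hP, hxN, hxC⟩
    exact b_to_c hx hP hxN hxC
  have hca : (∃ x y : G, (∃ k : ℕ, orderOf x = 2 ^ k) ∧ (∃ k : ℕ, orderOf y = p ^ k) ∧ y ≠ 1 ∧
      x * y * x⁻¹ = y⁻¹) → Cfsg.Involves (DihedralGroup p) G := by
    rintro ⟨x, y, -, hy, hy1, hxy⟩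
    exact c_to_a hp hy hy1 hxy
  exact ⟨⟨a_to_b hp, fun h => hca (hbc h)⟩, ⟨fun h => hbc (a_to_b hp h), hca⟩⟩

end Cfsg.Agent.S2758
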