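import Cfsg.Statements.S2761
import Cfsg.Agent.Lib_helper11_A4S4

open Cfsg

namespace Cfsg.Agent.S2761

open Matrix Cfsg.Agent.helper11

abbrev M3 := Matrix (Fin 3) (Fin 3) (ZMod 2)

def m1 : M3 := !![1, 1, 1; 0, 1, 0; 0, 0, 1]
def m2 : M3 := !![0, 1, 0; 1, 0, 0; 0, 0, 1]
def m3 : M3 := !![1, 1, 0; 0, 1, 0; 0, 0, 1]

theorem det_m1 : m1.det = 1 := by rw [Matrix.det_fin_three]; decide
theorem det_m2 : m2.det = 1 := by rw [Matrix.det_fin_three]; decide
theorem det_m3 : m3.det = 1 := by rw [Matrix.det_fin_three]; decide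

def s1 : SpecialLinearGroup (Fin 3) (ZMod 2) := ⟨m1, det_m1⟩
def s2 : SpecialLinearGroup (Fin 3) (ZMod 2) := ⟨m2, det_m2⟩
def s3 : SpecialLinearGroup (Fin 3) (ZMod 2) := ⟨m3, det_m3⟩

theorem m1_sq : m1 ^ 2 = 1 := by decide
theorem m2_sq : m2 ^ 2 = 1 := by decide
theorem m3_sq : m3 ^ 2 = 1 := by decide
theorem m12 : (m1 * m2) ^ 3 = 1 := by decide
theorem m23 : (m2 * m3) ^ 3 = 1 := by decide
theorem m13 : (m1 * m3) ^ 2 = 1 := by decide
theorem m13_ne : m1 * m3 ≠ 1 := by decide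

theorem s1_mem : s1 ∈ qd 2 := Subgroup.subset_closure ⟨by decide, by decide, by decide⟩
theorem s2_mem : s2 ∈ qd 2 := Subgroup.subset_closure ⟨by decide, by decide, by decide⟩
theorem s3_mem : s3 ∈ qd 2 := Subgroup.subset_closure ⟨by decide, by decide, by decide⟩

theorem sl_eq_one_of {A : SpecialLinearGroup (Fin 3) (ZMod 2)}
    (h : (A : M3) = 1) : A = 1 := Subtype.ext h

/-- the affine group: last row `(0, 0, 1)` -/
def Q : Subgroup (SpecialLinearGroup (Fin 3) (ZMod 2)) where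
  carrier := {M | (M : M3) 2 0 = 0 ∧ (M : M3) 2 1 = 0 ∧ (M : M3) 2 2 = 1}
  mul_mem' := by
    rintro A B ⟨a0, a1, a2⟩ ⟨b0, b1, b2⟩
    refine ⟨?_, ?_, ?_⟩ <;>
    · show ((A * B : SpecialLinearGroup (Fin 3) (ZMod 2)) : M3) 2 _ = _
      rw [Matrix.SpecialLinearGroup.coe_mul, Matrix.mul_apply, Fin.sum_univ_three, a0, a1, a2]
      simp [b0, b1, b2]
  one_mem' := by
    refine ⟨?_, ?_, ?_⟩ <;> simp
  inv_mem' := by
    rintro A ⟨a0, a1, a2⟩
    have h : (A : M3) * ((A⁻¹ : SpecialLinearGroup (Fin 3) (ZMod 2)) : M3) = 1 := by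
      rw [← Matrix.SpecialLinearGroup.coe_mul, mul_inv_cancel, Matrix.SpecialLinearGroup.coe_one]
    have key : ∀ j, ((A⁻¹ : SpecialLinearGroup (Fin 3) (ZMod 2)) : M3) 2 j = (1 : M3) 2 j := by
      intro j
      rw [← h, Matrix.mul_apply, Fin.sum_univ_three, a0, a1, a2]
      simp
    refine ⟨?_, ?_, ?_⟩
    · show ((A⁻¹ : SpecialLinearGroup (Fin 3) (ZMod 2)) : M3) 2 0 = 0
      rw [key]; rfl
    · show ((A⁻¹ : SpecialLinearGroup (Fin 3) (ZMod 2)) : M3) 2 1 = 0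
      rw [key]; rfl
    · show ((A⁻¹ : SpecialLinearGroup (Fin 3) (ZMod 2)) : M3) 2 2 = 1
      rw [key]; rfl

theorem qd_le_Q : qd 2 ≤ Q := by
  unfold qd
  rw [Subgroup.closure_le]
  intro M hM
  exact hM

abbrev T := {v : Fin 6 → ZMod 2 // v 0 * v 3 - v 1 * v 2 = 1}

theorem card_T : Fintype.card T = 24 := by decide

theorem card_qd_le : Nat.card (qd 2) ≤ 24 := by
  rw [← card_T, ← Nat.card_eq_fintype_card]
  let f : qd 2 → T := fun M => ⟨![(M.1 : M3) 0 0, (M.1 : M3) 0 1, (M.1 : M3) 1 0, (M.1 : M3) 1 1,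
    (M.1 : M3) 0 2, (M.1 : M3) 1 2], by
      obtain ⟨a0, a1, a2⟩ := qd_le_Q M.2
      have hdet := M.1.2
      rw [Matrix.det_fin_three, a0, a1, a2] at hdet
      simp only [Matrix.cons_val_zero, Matrix.cons_val_one, Matrix.cons_val]
      linear_combination hdet⟩
  apply Nat.card_le_card_of_injective f
  intro M N h
  have h' : (![(M.1 : M3) 0 0, (M.1 : M3) 0 1, (M.1 : M3) 1 0, (M.1 : M3) 1 1,
    (M.1 : M3) 0 2, (M.1 : M3) 1 2] : Fin 6 → ZMod 2) = ![(N.1 : M3) 0 0, (N.1 : M3) 0 1, (N.1 : M3) 1 0, (N.1 : M3) 1 1,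
    (N.1 : M3) 0 2, (N.1 : M3) 1 2] := congrArg Subtype.val h
  obtain ⟨a0, a1, a2⟩ := qd_le_Q M.2
  obtain ⟨b0, b1, b2⟩ := qd_le_Q N.2
  apply Subtype.ext
  apply Subtype.ext
  ext i j
  fin_cases i <;> fin_cases j
  · exact congrFun h' 0
  · exact congrFun h' 1
  · exact congrFun h' 4
  · exact congrFun h' 2
  · exact congrFun h' 3
  · exact congrFun h' 5
  · exact a0.trans b0.symm
  · exact a1.trans b1.symm
  · exact a2.trans b2.symm

/-- The group Qd(2), the natural semidirect product of an elementary abelian group of order 4 by SL₂(2) (realised as the affine subgroup of SL₃(2)), is isomorphic to the symmetric group of degree 4. -/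
theorem result : Nonempty (↥(Cfsg.qd 2) ≃* Equiv.Perm (Fin 4)) := by
  have hpow : ∀ (A : SpecialLinearGroup (Fin 3) (ZMod 2)) (hA : A ∈ qd 2) (n : ℕ),
      (A : M3) ^ n = 1 → (⟨A, hA⟩ : qd 2) ^ n = 1 := by
    intro A hA n h
    apply Subtype.ext
    apply Subtype.ext
    show (((⟨A, hA⟩ : qd 2) ^ n : qd 2) : SpecialLinearGroup (Fin 3) (ZMod 2)).1 = 1
    rw [Subgroup.coe_pow]
    show ((A ^ n : SpecialLinearGroup (Fin 3) (ZMod 2)) : M3) = 1
    rw [Matrix.SpecialLinearGroup.coe_pow, h]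
  obtain ⟨ψ, hψ⟩ := A4S4.exists_injective_S4 (G := qd 2) ⟨s1, s1_mem⟩ ⟨s2, s2_mem⟩ ⟨s3, s3_mem⟩
    (hpow _ _ _ m1_sq) (hpow _ _ _ m2_sq) (hpow _ _ _ m3_sq)
    (hpow (s1 * s2) (Subgroup.mul_mem _ s1_mem s2_mem) 3 m12)
    (hpow (s2 * s3) (Subgroup.mul_mem _ s2_mem s3_mem) 3 m23)
    (hpow (s1 * s3) (Subgroup.mul_mem _ s1_mem s3_mem) 2 m13)
    (by
      intro h
      apply m13_ne
      have := congrArg (fun x : qd 2 => ((x : SpecialLinearGroup (Fin 3) (ZMod 2)) : M3)) h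
      exact this)
  have hbij : Function.Bijective ψ := by
    apply Function.Injective.bijective_of_nat_card_le hψ
    rw [Nat.card_perm, Nat.card_fin]
    exact card_qd_le
  exact ⟨(MulEquiv.ofBijective ψ hbij).symm⟩

end Cfsg.Agent.S2761
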