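import Cfsg.Statements.S2763
-- import your own Cfsg.Agent.* helpers here
import Mathlib
import Cfsg.Agent.Lib_helper4_QdS1
import Cfsg.Agent.Lib_helper4_QdS2
import Cfsg.Agent.Lib_helper4_QdS3
import Cfsg.Agent.Lib_helper4_QdS4

set_option autoImplicit false
open Cfsg

namespace Cfsg.Agent.S2763

open Cfsg.Agent.helper4.QdS


/-- In the group Qd(p) (p prime; the natural semidirect product of an elementary abelian group of order p² by SL₂(p)), the normalizer of every nontrivial characteristic subgroup of a Sylow p-subgroup S equals the normalizer of S, which is a proper subgroup; in particular no such characteristic subgroup is normal. -/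
theorem result {p : ℕ} [Fact p.Prime] (S : Sylow p ↥(Cfsg.qd p)) (T : Subgroup ↥(S : Subgroup ↥(Cfsg.qd p))) (hT : T ≠ ⊥) (hTc : T.Characteristic) : Subgroup.normalizer ((T.map (S : Subgroup ↥(Cfsg.qd p)).subtype : Subgroup ↥(Cfsg.qd p)) : Set ↥(Cfsg.qd p)) = Subgroup.normalizer ((S : Subgroup ↥(Cfsg.qd p)) : Set ↥(Cfsg.qd p)) ∧ Subgroup.normalizer ((S : Subgroup ↥(Cfsg.qd p)) : Set ↥(Cfsg.qd p)) ≠ ⊤ := by
  have : Finite ↥(Cfsg.qd p) := by
    apply Nat.finite_of_card_ne_zero
    rw [card_qd]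
    have hp := (Fact.out : p.Prime)
    have h1 : 1 < p ^ 2 := Nat.one_lt_pow (by norm_num) hp.one_lt
    have h2 : 0 < p ^ 3 := pow_pos hp.pos 3
    have h3 : 0 < p ^ 2 - 1 := by omega
    exact (Nat.mul_pos h2 h3).ne'
  obtain ⟨g, hg⟩ := MulAction.exists_smul_eq ↥(Cfsg.qd p) (sylS0 p) S
  have hS : (S : Subgroup ↥(Cfsg.qd p)) = (S0 p).map (MulAut.conj g).toMonoidHom := by
    rw [← hg, Sylow.coe_subgroup_smul, coe_sylS0, Subgroup.pointwise_smul_def]
    rfl
  refine ⟨transport (S0 p) _ (MulAut.conj g) hS (fun T0 h1 h2 => main0 T0 h1 h2) T hT hTc, ?_⟩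
  rw [hS]
  exact transport_ne_top (S0 p) (MulAut.conj g) normalizer_S0_ne_top

end Cfsg.Agent.S2763
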