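import Cfsg.Statements.S2779
import Mathlib
import Cfsg.Agent.Lib_helper14_NatSL2
-- import your own Cfsg.Agent.* helpers here

set_option autoImplicit false
open Cfsg

namespace Cfsg.Agent.S2779


open Matrix Cfsg.Agent.helper11.SL2U Cfsg.Agent.helper7 Cfsg.Agent.helper14.NatSL2
open scoped commutatorElement

variable {G : Type*} [Group G] {F : Type*} [Field F] {V L T : Subgroup G}
  {ρ : L →* SpecialLinearGroup (Fin 2) F} {vec : V → (Fin 2 → F)}

theorem exists_comm_eq (D : Data V L T ρ vec) (x : V) (hx : vec x 1 = 0) (v₀ : V) (l : L) (b : F)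
    (hl : ρ l = uS b) (h : -(b * vec v₀ 1) = vec x 0) :
    (x : G) = (v₀ : G) * (l : G) * (v₀ : G)⁻¹ * (l : G)⁻¹ := by
  obtain ⟨w, hw, hvec⟩ := D.comm_vec v₀ l b hl
  have : w = x := by
    apply D.vbij.1
    rw [hvec]
    apply vec_ext
    · simpa using h
    · simpa using hx.symm
  rw [← this, hw]

theorem comm_mem_V1 (D : Data V L T ρ vec) {v t : G} (hv : v ∈ V) (ht : t ∈ T) :
    v * t * v⁻¹ * t⁻¹ ∈ V ⊓ Subgroup.centralizer (T : Set G) := by
  obtain ⟨l, hlt, b, hb, -⟩ := D.of_mem_T ht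
  obtain ⟨w, hw, hvec⟩ := D.comm_vec ⟨v, hv⟩ l b hb
  have e : v * t * v⁻¹ * t⁻¹ = (w : G) := by rw [hw, hlt]
  rw [e]
  refine ⟨w.2, (D.mem_cent_T_iff w).2 ?_⟩
  rw [hvec]; simp

theorem main [Fintype F] (D : Data V L T ρ vec) :
    ⁅⁅V, T⁆, T⁆ = ⊥ ∧ Nat.card V = Fintype.card F ^ 2 ∧
    Nat.card ↥(V ⊓ Subgroup.centralizer ((T : Subgroup G) : Set G)) = Fintype.card F ∧
    ∀ s ∈ T, s ≠ 1 →
      (V ⊓ Subgroup.centralizer ({s} : Set G)) = (V ⊓ Subgroup.centralizer ((T : Subgroup G) : Set G)) ∧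
      ⁅V, T⁆ = (V ⊓ Subgroup.centralizer ((T : Subgroup G) : Set G)) ∧
      ⁅V, Subgroup.zpowers s⁆ = (V ⊓ Subgroup.centralizer ((T : Subgroup G) : Set G)) ∧
      ∀ v ∈ V, v ∉ Subgroup.centralizer (T : Set G) →
        Subgroup.closure {x : G | ∃ t ∈ T, x = v * t * v⁻¹ * t⁻¹} =
          (V ⊓ Subgroup.centralizer ((T : Subgroup G) : Set G)) := by
  have hVT : ⁅V, T⁆ = V ⊓ Subgroup.centralizer ((T : Subgroup G) : Set G) := by
    apply le_antisymm
    · rw [Subgroup.commutator_le]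
      intro v hv t ht
      rw [commutatorElement_def]
      exact comm_mem_V1 D hv ht
    · rintro x ⟨hxV, hxC⟩
      have h1 : vec ⟨x, hxV⟩ 1 = 0 := (D.mem_cent_T_iff ⟨x, hxV⟩).1 hxC
      obtain ⟨v₀, hv₀⟩ := D.exists_vec ![0, 1]
      obtain ⟨l, hl, hlT⟩ := D.exists_l (-(vec ⟨x, hxV⟩ 0))
      have e := exists_comm_eq D ⟨x, hxV⟩ h1 v₀ l _ hl (by rw [hv₀]; simp)
      have e' : x = ⁅(v₀ : G), (l : G)⁆ := by rw [commutatorElement_def]; exact e
      rw [e']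
      exact Subgroup.commutator_mem_commutator v₀.2 hlT
  refine ⟨?_, ?_, ?_, ?_⟩
  · rw [hVT, Subgroup.commutator_eq_bot_iff_le_centralizer]
    exact inf_le_right
  · rw [Nat.card_congr (Equiv.ofBijective vec D.vbij), Nat.card_eq_fintype_card,
      Fintype.card_fun, Fintype.card_fin]
  · have hmem : ∀ x : ↥(V ⊓ Subgroup.centralizer ((T : Subgroup G) : Set G)), (x : G) ∈ V :=
      fun x => x.2.1
    let f : ↥(V ⊓ Subgroup.centralizer ((T : Subgroup G) : Set G)) → F :=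
      fun x => vec ⟨(x : G), hmem x⟩ 0
    have hf : Function.Bijective f := by
      constructor
      · intro x y hxy
        apply Subtype.ext
        have hx1 : vec ⟨(x : G), hmem x⟩ 1 = 0 := (D.mem_cent_T_iff ⟨(x : G), hmem x⟩).1 x.2.2
        have hy1 : vec ⟨(y : G), hmem y⟩ 1 = 0 := (D.mem_cent_T_iff ⟨(y : G), hmem y⟩).1 y.2.2
        have : (⟨(x : G), hmem x⟩ : V) = ⟨(y : G), hmem y⟩ := by
          apply D.vbij.1
          exact vec_ext hxy (by rw [hx1, hy1])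
        have h' : ((⟨(x : G), hmem x⟩ : V) : G) = ((⟨(y : G), hmem y⟩ : V) : G) := by rw [this]
        exact h'
      · intro c
        obtain ⟨v, hv⟩ := D.exists_vec ![c, 0]
        refine ⟨⟨(v : G), v.2, (D.mem_cent_T_iff v).2 (by rw [hv]; simp)⟩, ?_⟩
        show vec ⟨(v : G), _⟩ 0 = c
        have : (⟨(v : G), v.2⟩ : V) = v := rfl
        rw [this, hv]; simp
    rw [Nat.card_congr (Equiv.ofBijective f hf), Nat.card_eq_fintype_card]
  · intro s hs hs1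
    refine ⟨?_, hVT, ?_, ?_⟩
    · ext x
      constructor
      · rintro ⟨hxV, hxC⟩
        exact ⟨hxV, (D.mem_cent_T_iff ⟨x, hxV⟩).2
          ((D.mem_cent_single_iff ⟨x, hxV⟩ hs hs1).1 hxC)⟩
      · rintro ⟨hxV, hxC⟩
        exact ⟨hxV, (D.mem_cent_single_iff ⟨x, hxV⟩ hs hs1).2
          ((D.mem_cent_T_iff ⟨x, hxV⟩).1 hxC)⟩
    · apply le_antisymm
      · rw [← hVT]
        exact Subgroup.commutator_mono le_rfl ((Subgroup.zpowers_le).2 hs)
      · rintro x ⟨hxV, hxC⟩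
        have h1 : vec ⟨x, hxV⟩ 1 = 0 := (D.mem_cent_T_iff ⟨x, hxV⟩).1 hxC
        obtain ⟨l, hlt, b, hb, hb0⟩ := D.of_mem_T hs
        have hb0' : b ≠ 0 := hb0 hs1
        obtain ⟨v₀, hv₀⟩ := D.exists_vec ![0, -(vec ⟨x, hxV⟩ 0) / b]
        have e := exists_comm_eq D ⟨x, hxV⟩ h1 v₀ l b hb (by
          rw [hv₀]; simp; field_simp)
        have e' : x = ⁅(v₀ : G), s⁆ := by rw [commutatorElement_def, ← hlt]; exact e
        rw [e']
        exact Subgroup.commutator_mem_commutator v₀.2 (Subgroup.mem_zpowers s)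
    · intro v hv hvC
      apply le_antisymm
      · rw [Subgroup.closure_le]
        rintro x ⟨t, ht, rfl⟩
        exact comm_mem_V1 D hv ht
      · rintro x ⟨hxV, hxC⟩
        have h1 : vec ⟨x, hxV⟩ 1 = 0 := (D.mem_cent_T_iff ⟨x, hxV⟩).1 hxC
        have hv1 : vec ⟨v, hv⟩ 1 ≠ 0 := fun h => hvC ((D.mem_cent_T_iff ⟨v, hv⟩).2 h)
        obtain ⟨l, hl, hlT⟩ := D.exists_l (-(vec ⟨x, hxV⟩ 0) / vec ⟨v, hv⟩ 1)
        have e := exists_comm_eq D ⟨x, hxV⟩ h1 ⟨v, hv⟩ l _ hl (by field_simp)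
        apply Subgroup.subset_closure
        exact ⟨(l : G), hlT, e⟩

/-- Let L act on the elementary abelian p-group V (inside a finite group, by conjugation, faithfully) as SL₂(F) on its natural module, F a field with p^n elements, and let S be a Sylow p-subgroup of L. Then [V, S, S] = 1; |V| = p^(2n) and |C_V(S)| = p^n; and for every nonidentity s ∈ S and every v ∈ V outside C_V(S): C_V(s) = C_V(S) = [V, S] = [V, s] = the subgroup generated by the commutators [v, t], t ∈ S. -/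
theorem result {G : Type*} [Group G] [Finite G] {p : ℕ} [Fact p.Prime] {F : Type*} [Field F] [Fintype F] (n : ℕ) (hF : Fintype.card F = p ^ n) (V L : Subgroup G) (hnat : Cfsg.IsNaturalSL2Module F V L) (hf : L ⊓ Subgroup.centralizer (V : Set G) = ⊥) (S : Sylow p ↥L) (T : Subgroup G) (hT : T = ((S : Subgroup ↥L).map L.subtype)) : ⁅⁅V, T⁆, T⁆ = ⊥ ∧ Nat.card V = p ^ (2 * n) ∧ Nat.card ↥(V ⊓ Subgroup.centralizer ((T : Subgroup G) : Set G)) = p ^ n ∧ ∀ s ∈ T, s ≠ 1 → (V ⊓ Subgroup.centralizer ({s} : Set G)) = (V ⊓ Subgroup.centralizer ((T : Subgroup G) : Set G)) ∧ ⁅V, T⁆ = (V ⊓ Subgroup.centralizer ((T : Subgroup G) : Set G)) ∧ ⁅V, Subgroup.zpowers s⁆ = (V ⊓ Subgroup.centralizer ((T : Subgroup G) : Set G)) ∧ ∀ v ∈ V, v ∉ Subgroup.centralizer (T : Set G) → Subgroup.closure {x : G | ∃ t ∈ T, x = v * t * v⁻¹ * t⁻¹} = (V ⊓ Subgroup.centralizer ((T : Subgroup G) : Set G)) := by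
  haveI : CharP F p := charP_of_card hF
  obtain ⟨ρ, vec, D⟩ := exists_data V L hnat hf S T hT
  obtain ⟨h1, h2, h3, h4⟩ := main D
  refine ⟨h1, ?_, ?_, h4⟩
  · rw [h2, hF, ← pow_mul, mul_comm]
  · rw [h3, hF]

end Cfsg.Agent.S2779
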