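import Mathlib
import Cfsg.Statements.S2781
import Cfsg.Agent.Lib_helper14_Trace

set_option autoImplicit false
open Cfsg

namespace Cfsg.Agent.S2781
open Cfsg.Agent.helper14
open scoped commutatorElement


/-- Let H act faithfully by conjugation on the elementary abelian p-subgroup V of a finite group, let O^p(H) be the subgroup of H generated by its elements of order prime to p, and T a Sylow p-subgroup of O^p(H). If V is generated by the H-conjugates of C_V(T) (V is the smallest H-invariant subgroup containing C_V(T)), then V = [V, O^p(H)]·C_V(O^p(H)). -/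
theorem result {G : Type*} [Group G] [Finite G] {p : ℕ} [Fact p.Prime] (V H : Subgroup G) (hV : Cfsg.IsElementaryAbelian p V) (hHV : H ≤ Subgroup.normalizer (V : Set G)) (hf : H ⊓ Subgroup.centralizer (V : Set G) = ⊥) (R : Subgroup G) (hR : R = (Cfsg.pResidual p ↥H).map H.subtype) (S : Sylow p ↥R) (T : Subgroup G) (hT : T = ((S : Subgroup ↥R).map R.subtype)) (hgen : ∀ W : Subgroup G, H ≤ Subgroup.normalizer (W : Set G) → (V ⊓ Subgroup.centralizer ((T : Subgroup G) : Set G)) ≤ W → V ≤ W) : ⁅V, R⁆ ⊔ (V ⊓ Subgroup.centralizer ((R : Subgroup G) : Set G)) = V := by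
  obtain ⟨hVcomm, hVp⟩ := hV
  have hVc : ∀ a ∈ V, ∀ b ∈ V, a * b = b * a := fun a ha b hb =>
    congrArg Subtype.val (hVcomm.is_comm.comm ⟨a, ha⟩ ⟨b, hb⟩)
  have hRn0 : (Cfsg.pResidual p ↥H).Normal := Cfsg.Agent.helper10.pResidual_normal p ↥H
  have hRH : R ≤ H := by rw [hR]; exact Subgroup.map_subtype_le _
  have hHR : H ≤ Subgroup.normalizer (R : Set G) := by
    rw [hR]; exact le_normalizer_map_subtype_of_normal H _ hRn0
  have hRV : R ≤ Subgroup.normalizer (V : Set G) := hRH.trans hHV
  have hTR : T ≤ R := by rw [hT]; exact Subgroup.map_subtype_le _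
  apply le_antisymm
  · exact sup_le (commutator_le_left_of_le_normalizer V R hRV) inf_le_left
  · apply hgen
    · refine (le_inf ?_ ?_).trans (Subgroup.normalizer_inf_normalizer_le_normalizer_sup _ _)
      · exact le_normalizer_commutator V R H hHV hHR
      · exact (le_inf hHV (hHR.trans (normalizer_le_normalizer_centralizer R))).trans
          Subgroup.inf_normalizer_le_normalizer_inf
    · rintro z ⟨hzV, hzT⟩
      have hidx : ((T.subgroupOf R).index).Coprime p := by
        have e : T.subgroupOf R = (S : Subgroup ↥R) := by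
          rw [hT]
          exact Subgroup.comap_map_eq_self_of_injective (Subgroup.subtype_injective R) _
        rw [e]
        exact (Nat.Coprime.symm ((Nat.Prime.coprime_iff_not_dvd Fact.out).mpr S.not_dvd_index))
      exact trace_lemma V R T R hVc hVp hRV hTR hidx
        (fun l hl => ⟨l, hl, 1, T.one_mem, (mul_one l).symm⟩) z hzV hzT

end Cfsg.Agent.S2781
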