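import Cfsg.Statements.S2791
import Mathlib
import Cfsg.Agent.Lib_helper10_NormalFusion2

set_option autoImplicit false
open Cfsg

namespace Cfsg.Agent.S2791

open Cfsg.Agent.helper10

/-- Let S be a Sylow p-subgroup of the finite group G and A an abelian subgroup of S that is strongly closed in S with respect to G. Then A controls strong fusion in G: for some Sylow p-subgroup T containing A, whenever a subset of T is conjugated into T by an element of G, the same elementwise conjugation is induced by an element of N_G(A). -/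
theorem result {G : Type*} [Group G] [Finite G] {p : ℕ} [Fact p.Prime] (S : Sylow p G) (A : Subgroup G) (hA : IsMulCommutative ↥A) (hsc : Cfsg.IsStronglyClosed A (S : Subgroup G)) : Cfsg.ControlsStrongFusion p A := by
  obtain ⟨hAS, hcl⟩ := hsc
  have hSA : (S : Subgroup G) ≤ Subgroup.normalizer (A : Set G) := by
    apply le_normalizer_of_forall_conj_mem
    intro s hs a ha
    exact hcl a ha s (Subgroup.mul_mem _ (Subgroup.mul_mem _ hs (hAS ha)) (Subgroup.inv_mem _ hs))
  have hcomm : ⁅A, A⁆ = ⊥ := by
    rw [Subgroup.commutator_eq_bot_iff_le_centralizer]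
    intro a ha
    rw [Subgroup.mem_centralizer_iff]
    intro b hb
    have := hA.is_comm.comm (⟨b, hb⟩ : A) ⟨a, ha⟩
    exact congrArg Subtype.val this
  have hlcs : ∀ i : ℕ, A.lowerCentralSeries (i + 1) = ⊥ := by
    intro i
    have h1 : A.lowerCentralSeries (i + 1) ≤ A.lowerCentralSeries 1 :=
      A.lowerCentralSeries_antitone (by omega)
    have h2 : A.lowerCentralSeries 1 = ⊥ := by
      rw [Subgroup.lowerCentralSeries_succ, Subgroup.lowerCentralSeries_zero, hcomm]
    rw [h2] at h1
    exact le_bot_iff.1 h1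
  have hsc' : ∀ i : ℕ, ∀ u ∈ A.lowerCentralSeries i, ∀ g : G, g * u * g⁻¹ ∈ (S : Subgroup G) →
      g * u * g⁻¹ ∈ A.lowerCentralSeries i := by
    intro i
    cases i with
    | zero => exact hcl
    | succ i =>
      intro u hu g _
      rw [hlcs i, Subgroup.mem_bot] at hu
      rw [hu]
      have : g * 1 * g⁻¹ = 1 := by group
      rw [this]; exact Subgroup.one_mem _
  refine ⟨S, hAS, ?_⟩
  intro B hB
  refine ⟨hB, ?_⟩
  intro g hg
  have hcl' : Subgroup.closure B ≤ (S : Subgroup G) := (Subgroup.closure_le _).2 hB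
  have hg' : (Subgroup.closure B).map (MulAut.conj g).toMonoidHom ≤ (S : Subgroup G) := by
    rw [MonoidHom.map_closure, Subgroup.closure_le]
    rintro _ ⟨b, hb, rfl⟩
    apply hg
    exact ⟨b, hb, by simp [MulAut.conj_apply]⟩
  obtain ⟨h, hh, hht⟩ := control_of_stronglyClosed_lcs S A hAS hSA hsc' _ (Subgroup.closure B) hcl'
    rfl g hg'
  exact ⟨h, hh, fun b hb => (hht b (Subgroup.subset_closure hb)).symm⟩

end Cfsg.Agent.S2791
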