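import Cfsg.Statements.S2794
import Mathlib
import Cfsg.Agent.Lib_helper3_QdE
import Cfsg.Agent.Lib_helper3_QdF
import Cfsg.Agent.Lib_helper3_ZJD2
import Cfsg.Agent.S1987

set_option autoImplicit false
open Cfsg

namespace Cfsg.Agent.S2794

open Cfsg.Agent.helper10 Cfsg.Agent.helper3 in

/-- For an odd prime p and a finite group G, the group Qd(p) is not involved in G if and only if in every section K/R of G, for every Sylow p-subgroup S* of K/R, the centre of J(S*) (J generated by the abelian subgroups of largest order) controls strong fusion in K/R. -/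
theorem result {G : Type*} [Group G] [Finite G] {p : ℕ} [Fact p.Prime] (hp : p ≠ 2) : ¬ Cfsg.Involves ↥(Cfsg.qd p) G ↔ ∀ (K R : Subgroup G) [hR : (R.subgroupOf K).Normal], ∀ T : Sylow p (K ⧸ R.subgroupOf K), Cfsg.ControlsStrongFusion p (Cfsg.centerThompsonAOf (T : Subgroup (K ⧸ R.subgroupOf K))) := by
  constructor
  · intro hqd K R hR T
    have hno : ∀ (K' R' : Subgroup G) [hR' : (R'.subgroupOf K').Normal],
        ¬ Inv ↥(Cfsg.qdOver (ZMod p)) (↥K' ⧸ R'.subgroupOf K') := by
      intro K' R' hR' hinv
      exact hqd (Inv.of_section K' R' hinv).involves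
    have hst : ∀ (K' R' : Subgroup G) [hR' : (R'.subgroupOf K').Normal],
        Cfsg.IsNormalizerPStable p (↥K' ⧸ R'.subgroupOf K') :=
      fun K' R' hR' => isNormalizerPStable_of_not_inv_qd hp (hno K' R')
    have hps : PSt p G := pst_of_sections hst
    have hpsY : PSt p (↥K ⧸ R.subgroupOf K) :=
      pst_image K (QuotientGroup.mk' (R.subgroupOf K)) (QuotientGroup.mk'_surjective _) hps
    have hmain := Cfsg.Agent.S1987.ctl_of_normal_pst zjFunctor (isCharPFunctor_zjFunctor p)
      (fun Y _ _ hY hcon T' => by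
        rw [inducedFunctor_zjFunctor]
        exact (stronglyClosed_zj_normal hp T' (T' : Subgroup Y) ⟨le_rfl, fun x _ g h => h⟩
          (pst_top hY) hcon).1) hpsY T
    rwa [inducedFunctor_zjFunctor] at hmain
  · rintro h ⟨K, R, hR, ⟨e⟩⟩
    obtain ⟨T⟩ : Nonempty (Sylow p (↥K ⧸ R.subgroupOf K)) := inferInstance
    exact not_control_zj_of_equiv_qd hp e T (@h K R hR T)

end Cfsg.Agent.S2794
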