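import Cfsg.Statements.S2795
import Mathlib
import Cfsg.Agent.Lib_helper3_QdE
import Cfsg.Agent.S1987
import Cfsg.Agent.Lib_helper10_QdNC

set_option autoImplicit false
open Cfsg

namespace Cfsg.Agent.S2795

open Cfsg.Agent.helper10 Cfsg.Agent.helper3 in

/-- For an odd prime p and a finite group G, the group Qd(p) is not involved in G if and only if every section of G is p-stable in the normalizer form (for every p-subgroup P of the section and every g in its normalizer acting quadratically on P, the image of g in N(P)/C(P) lies in O_p(N(P)/C(P))). -/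
theorem result {G : Type*} [Group G] [Finite G] {p : ℕ} [Fact p.Prime] (hp : p ≠ 2) : ¬ Cfsg.Involves ↥(Cfsg.qd p) G ↔ ∀ (K R : Subgroup G) [hR : (R.subgroupOf K).Normal], Cfsg.IsNormalizerPStable p (K ⧸ R.subgroupOf K) := by
  constructor
  · intro hqd K R hR
    have hno : ¬ Inv ↥(Cfsg.qdOver (ZMod p)) (↥K ⧸ R.subgroupOf K) := by
      intro hinv
      exact hqd (Inv.of_section K R hinv).involves
    exact isNormalizerPStable_of_not_inv_qd hp hno
  · rintro hst ⟨K, R, hR, ⟨e⟩⟩
    have hps : PSt p G := pst_of_sections hst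
    have hpsY : PSt p (↥K ⧸ R.subgroupOf K) :=
      pst_image K (QuotientGroup.mk' (R.subgroupOf K)) (QuotientGroup.mk'_surjective _) hps
    obtain ⟨T⟩ : Nonempty (Sylow p (↥K ⧸ R.subgroupOf K)) := inferInstance
    exact not_control_of_equiv_qd hp e T
      (Cfsg.Agent.S1987.ctl_of_normal_pst (fun Q _ => Cfsg.kInfLower Q)
        (isCharPFunctor_kInfLower p)
        (fun Y _ _ hY hcon T' => (kinf_normal_of_pst hY hcon T').1) hpsY T)

end Cfsg.Agent.S2795
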