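import Cfsg.Statements.S2800
import Cfsg.Agent.Lib_helper15_ThA1
import Cfsg.Agent.Lib_helper15_ThA2
import Cfsg.Agent.Lib_helper15_ThA3

set_option autoImplicit false
open Cfsg

namespace Cfsg.Agent.S2800

/-- Let S be a Sylow p-subgroup of the finite group G and J(S) the subgroup generated by the abelian subgroups of S of largest order. Suppose p is odd, or the symmetric group of degree 4 is not involved in G. If both C_G(Z(S)) and N_G(J(S)) have normal p-complements, then G has a normal p-complement. -/
theorem result {G : Type*} [Group G] [Finite G] {p : ℕ} [Fact p.Prime] (S : Sylow p G) (h : p ≠ 2 ∨ ¬ Cfsg.Involves (Equiv.Perm (Fin 4)) G) (hC : Cfsg.HasNormalPComplement p ↥(Subgroup.centralizer (((S : Subgroup G) ⊓ Subgroup.centralizer ((S : Subgroup G) : Set G) : Subgroup G) : Set G))) (hN : Cfsg.HasNormalPComplement p ↥(Subgroup.normalizer ((Cfsg.thompsonSubgroupAOf (S : Subgroup G)) : Set G))) : Cfsg.HasNormalPComplement p G := by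
  have hyp : Cfsg.Agent.helper23.HypNC p Cfsg.Agent.helper15.ThA.jaFunctor
      (fun Q _ => Subgroup.center Q) G (S : Subgroup G) := by
    refine ⟨hN, ?_⟩
    show Cfsg.HasNormalPComplement p ↥(Subgroup.centralizer
      (((Subgroup.center ↥(S : Subgroup G)).map (S : Subgroup G).subtype : Subgroup G) : Set G))
    rw [Cfsg.Agent.helper19.map_center_eq_inf_centralizer]
    exact hC
  have hodd : p ≠ 2 → Cfsg.HasNormalPComplement p G := by
    intro hp2
    exact Cfsg.Agent.helper23.thompson_two (Cfsg.Agent.helper15.ThA.isCharPFunctor_ja p)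
      (Cfsg.Agent.helper23.isCharPFunctor_center p)
      (fun X _ _ S hcon hD hquot hco hN _ =>
        Cfsg.Agent.helper15.ThA.final_odd hp2 X S hcon hD hquot hco hN)
      (Nat.card G) G rfl S hyp
  by_cases hp2 : p = 2
  · rcases h with h | hfree
    · exact absurd hp2 h
    · exact Cfsg.Agent.helper15.ThA.thompson_two_inv
        (fun X _ => ¬ Cfsg.Involves (Equiv.Perm (Fin 4)) X)
        (fun X _ H hX hH => hX (Cfsg.Agent.helper15.S4F.involves_of_subgroup H hH))
        (fun X _ N _ hX hN => hX (Cfsg.Agent.helper15.S4F.involves_of_quotient N hN))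
        (Cfsg.Agent.helper15.ThA.isCharPFunctor_ja p)
        (Cfsg.Agent.helper23.isCharPFunctor_center p)
        (fun X _ _ S hfree hcon hD hquot hco hN =>
          Cfsg.Agent.helper15.ThA.final_two hp2 X S hfree hcon hD hquot hco hN)
        (Nat.card G) G rfl hfree S hyp
  · exact hodd hp2

end Cfsg.Agent.S2800
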