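import Mathlib
import Cfsg.Statements.S2803
import Cfsg.Agent.Lib_helper14_PReduced3

set_option autoImplicit false
open Cfsg

namespace Cfsg.Agent.S2803
open Cfsg.Agent.helper14

theorem map_conj_eq_of_mem_normalizer' {X : Type*} [Group X] (A : Subgroup X) (g : X)
    (hg : g ∈ Subgroup.normalizer (A : Set X)) :
    A.map (MulAut.conj g).toMonoidHom = A := by
  ext x
  constructor
  · rintro ⟨y, hy, rfl⟩
    have := (Subgroup.mem_normalizer_iff.mp hg y).mp hy
    simpa using this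
  · intro hx
    refine ⟨g⁻¹ * x * g, ?_, by simp [mul_assoc]⟩
    have := (Subgroup.mem_normalizer_iff.mp (Subgroup.inv_mem _ hg) x).mp hx
    simpa using this

theorem core {L : Type*} [Group L] [Finite L] {p : ℕ} [Fact p.Prime]
    (hchar : Subgroup.centralizer (Cfsg.pCore p L : Set L) ≤ Cfsg.pCore p L) (T : Sylow p L)
    (Y : Subgroup L) (hYr : Cfsg.IsPReducedNormal p Y)
    (hYmax : ∀ V : Subgroup L, Cfsg.IsPReducedNormal p V → V ≤ Y)
    (C TL LT : Subgroup L) (hC : C = Subgroup.centralizer (Y : Set L))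
    (hTL : TL = (T : Subgroup L) ⊓ C) (hLT : LT = Subgroup.normalizer (TL : Set L)) :
    (∀ g : L, ∃ a ∈ LT, ∃ c ∈ C, g = a * c) ∧ Cfsg.pCoreOf p LT = TL ∧
      Y = Cfsg.omegaOne p (TL ⊓ Subgroup.centralizer (TL : Set L)) := by
  have hP := predProp_of_isPReducedNormal Y hYr
  obtain ⟨hYn, ⟨hYc, hYp⟩, _⟩ := id hYr
  have hCn : C.Normal := by rw [hC]; exact Subgroup.normal_centralizer
  have hPC : ∀ N : Subgroup L, N.Normal → (∀ n ∈ N, ∃ k : ℕ, n ^ p ^ k ∈ C) → N ≤ C := by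
    intro N hN h
    rw [hC] at h ⊢
    exact hP N hN h
  have hfr : LT ⊔ C = ⊤ := by
    rw [hLT, hTL]; exact Cfsg.Agent.helper19.frattini_inf T C
  have hA : ∀ g : L, ∃ a ∈ LT, ∃ c ∈ C, g = a * c := by
    intro g
    have hg : g ∈ ((LT ⊔ C : Subgroup L) : Set L) := by rw [hfr]; exact Subgroup.mem_top g
    rw [Subgroup.mul_normal] at hg
    obtain ⟨a, ha, c, hc, rfl⟩ := hg
    exact ⟨a, ha, c, hc, rfl⟩
  have hK : ∀ N : Subgroup L, LT ≤ Subgroup.normalizer (N : Set L) →
      (∀ n ∈ N, ∃ k : ℕ, n ^ p ^ k ∈ C) → N ≤ C := by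
    intro N hLTN hNp
    have hNCn : (N ⊔ C).Normal := by
      rw [← Subgroup.normalizer_eq_top_iff, eq_top_iff, ← hfr]
      apply sup_le
      · refine (le_inf hLTN ?_).trans (Subgroup.normalizer_inf_normalizer_le_normalizer_sup _ _)
        exact Subgroup.le_normalizer_of_normal
      · exact le_sup_right.trans Subgroup.le_normalizer
    have := hPC (N ⊔ C) hNCn (by
      intro x hx
      have hx' : x ∈ ((N ⊔ C : Subgroup L) : Set L) := hx
      rw [Subgroup.mul_normal N C] at hx'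
      obtain ⟨n, hn, c, hc, rfl⟩ := hx'
      obtain ⟨k, hk⟩ := hNp n hn
      obtain ⟨c', hc', h⟩ := pow_mul_mem_of_mem_normalizer C n c
        (Subgroup.le_normalizer_of_normal (Subgroup.mem_top n)) hc (p ^ k)
      exact ⟨k, by rw [h]; exact C.mul_mem hk hc'⟩)
    exact le_sup_left.trans this
  have hTLLT : TL ≤ LT := by rw [hLT]; exact Subgroup.le_normalizer
  have hTLT : (T : Subgroup L) ≤ LT := by
    rw [hLT]
    apply le_normalizer_of_map_conj_le
    rintro g hg _ ⟨x, hx, rfl⟩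
    rw [hTL] at hx ⊢
    refine ⟨?_, ?_⟩
    · show (MulAut.conj g).toMonoidHom x ∈ (T : Subgroup L)
      have e : (MulAut.conj g).toMonoidHom x = g * x * g⁻¹ := by simp
      rw [e]
      exact Subgroup.mul_mem _ (Subgroup.mul_mem _ hg hx.1) (Subgroup.inv_mem _ hg)
    · have := hCn.conj_mem x hx.2 g
      simpa using this
  have hTLp : IsPGroup p TL := by rw [hTL]; exact T.isPGroup'.to_le inf_le_left
  have hB1 : TL ≤ Cfsg.pCoreOf p LT := by
    have hn : (TL.subgroupOf LT).Normal :=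
      (Subgroup.normal_subgroupOf_iff_le_normalizer hTLLT).mpr (le_of_eq hLT)
    have hp : IsPGroup p (TL.subgroupOf LT) :=
      hTLp.comap_of_injective _ (Subgroup.subtype_injective _)
    have h1 : TL.subgroupOf LT ≤ Cfsg.pCore p ↥LT :=
      le_sSup (show TL.subgroupOf LT ∈ {N : Subgroup ↥LT | N.Normal ∧ IsPGroup p ↥N} from ⟨hn, hp⟩)
    have := Subgroup.map_mono (f := LT.subtype) h1
    rwa [Subgroup.map_subgroupOf_eq_of_le hTLLT] at this
  have hB2 : Cfsg.pCoreOf p LT ≤ TL := by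
    have h1 : Cfsg.pCoreOf p LT ≤ (T : Subgroup L) := by
      have h2 := pCoreOf_le_sylow LT (T.subtype hTLT)
      rwa [Sylow.coe_subtype, Subgroup.map_subgroupOf_eq_of_le hTLT] at h2
    have h3 : Cfsg.pCoreOf p LT ≤ C := by
      apply hK _ (le_normalizer_pCoreOf p LT)
      intro n hn
      obtain ⟨k, hk⟩ := coe_pow_eq_one_of_isPGroup _ (pCoreOf_isPGroup LT) n hn
      exact ⟨k, by rw [hk]; exact C.one_mem⟩
    rw [hTL]
    exact le_inf h1 h3
  have hQn : (Cfsg.pCore p L).Normal := pCore_normal' p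
  have hYQ : Y ≤ Cfsg.pCore p L := by
    have hp : IsPGroup p Y := by
      intro y
      refine ⟨1, ?_⟩
      apply Subtype.ext
      rw [pow_one, Subgroup.coe_pow, Subgroup.coe_one]
      exact hYp y y.2
    exact le_sSup (show Y ∈ {N : Subgroup L | N.Normal ∧ IsPGroup p ↥N} from ⟨hYn, hp⟩)
  have hYT : Y ≤ (T : Subgroup L) := hYQ.trans ((pCore_isPGroup' p).le_sylow_of_normal T)
  have hYC : Y ≤ C := by
    rw [hC]
    exact Subgroup.le_centralizer_iff_isMulCommutative.mpr hYc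
  have hYTL : Y ≤ TL := by rw [hTL]; exact le_inf hYT hYC
  have hTLC : TL ≤ Subgroup.centralizer (Y : Set L) := by rw [hTL, ← hC]; exact inf_le_right
  have hYZ : Y ≤ TL ⊓ Subgroup.centralizer (TL : Set L) :=
    le_inf hYTL (Subgroup.le_centralizer_iff.mp hTLC)
  obtain ⟨W, hW⟩ : ∃ W : Subgroup L,
      W = Cfsg.omegaOne p (TL ⊓ Subgroup.centralizer (TL : Set L)) := ⟨_, rfl⟩
  have hYW : Y ≤ W := by
    intro y hy
    rw [hW]
    unfold Cfsg.omegaOne
    exact Subgroup.subset_closure ⟨hYZ hy, hYp y hy⟩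
  have hZc : ∀ a ∈ TL ⊓ Subgroup.centralizer (TL : Set L),
      ∀ b ∈ TL ⊓ Subgroup.centralizer (TL : Set L), a * b = b * a := by
    rintro a ⟨haQ, _⟩ b ⟨_, hbC⟩
    exact (Subgroup.mem_centralizer_iff.mp hbC a haQ)
  have hWA : W ≤ commOmega p _ hZc := by
    rw [hW]
    unfold Cfsg.omegaOne
    rw [Subgroup.closure_le]
    rintro z ⟨hz, hzp⟩
    exact ⟨hz, hzp⟩
  have hWTL : W ≤ TL := fun w hw => (hWA hw).1.1
  have hTLW : TL ≤ Subgroup.centralizer (W : Set L) := by
    rw [Subgroup.le_centralizer_iff]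
    exact fun w hw => (hWA hw).1.2
  have hLTW : LT ≤ Subgroup.normalizer (W : Set L) := by
    apply le_normalizer_of_map_conj_le
    intro g hg
    rw [hW]
    refine (omegaOne_map_conj_le p TL g).trans ?_
    have : TL.map (MulAut.conj g).toMonoidHom = TL := by
      rw [hLT] at hg
      exact map_conj_eq_of_mem_normalizer' TL g hg
    rw [this]
  have hWin : PRedIn p LT W := by
    refine ⟨hWTL.trans hTLLT, hLTW, fun a ha b hb => hZc a (hWA ha).1 b (hWA hb).1,
      fun a ha => (hWA ha).2, ?_⟩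
    intro N hNLT hLTN hNp
    have hCW : Subgroup.centralizer (W : Set L) ≤ C := by
      rw [hC]; exact Subgroup.centralizer_le (SetLike.coe_subset_coe.mpr hYW)
    have hNC : N ≤ C := hK N hLTN (fun n hn => by
      obtain ⟨k, hk⟩ := hNp n hn
      exact ⟨k, hCW hk⟩)
    intro n hn
    obtain ⟨t, ht, d, hd, hntd⟩ := exists_sylow_mul_centralizer LT (T.subtype hTLT) W N hNLT
      hLTW hLTN hNp n hn
    rw [Sylow.coe_subtype, Subgroup.map_subgroupOf_eq_of_le hTLT] at ht
    have htC : t ∈ C := by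
      have : t = n * d⁻¹ := by rw [hntd]; group
      rw [this]
      exact C.mul_mem (hNC hn) (C.inv_mem (hCW hd))
    have htTL : t ∈ TL := by rw [hTL]; exact ⟨ht, htC⟩
    rw [hntd]
    exact Subgroup.mul_mem _ (hTLW htTL) hd
  have hcl := isPReducedNormal_normalClosure hchar T LT hTLT W hWin
  have hWY : W ≤ Y := fun w hw => hYmax _ hcl (Subgroup.subset_normalClosure hw)
  refine ⟨hA, le_antisymm hB2 hB1, ?_⟩
  rw [← hW]
  exact le_antisymm hYW hWY


/-- Let L be a finite group and p a prime with C_L(O_p(L)) ≤ O_p(L), T a Sylow p-subgroup, and Y the largest p-reduced normal subgroup of L. Put T_L = C_T(Y) and L_T = N_L(T_L). Then L = L_T · C_L(Y) (elementwise), T_L = O_p(L_T), and Y = Ω₁(Z(T_L)). -/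
theorem result {L : Type*} [Group L] [Finite L] {p : ℕ} [Fact p.Prime] (hchar : Subgroup.centralizer (Cfsg.pCore p L : Set L) ≤ Cfsg.pCore p L) (T : Sylow p L) (Y : Subgroup L) (hY : (Cfsg.IsPReducedNormal p Y ∧ ∀ V : Subgroup L, Cfsg.IsPReducedNormal p V → V ≤ Y)) (TL : Subgroup L) (hTL : TL = (T : Subgroup L) ⊓ Subgroup.centralizer (Y : Set L)) : (∀ g : L, ∃ a ∈ Subgroup.normalizer (TL : Set L), ∃ c ∈ Subgroup.centralizer (Y : Set L), g = a * c) ∧ (Cfsg.pCore p ↥(Subgroup.normalizer (TL : Set L))).map (Subgroup.normalizer (TL : Set L)).subtype = TL ∧ Y = Cfsg.omegaOne p (TL ⊓ Subgroup.centralizer (TL : Set L)) := by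
  obtain ⟨h1, h2, h3⟩ := core hchar T Y hY.1 hY.2 _ TL _ rfl hTL rfl
  exact ⟨h1, h2, h3⟩

end Cfsg.Agent.S2803
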