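import Cfsg.Statements.S2804
import Mathlib
import Cfsg.Agent.Lib_helper14_PReduced5
import Cfsg.Agent.Lib_helper14_PIrr
import Cfsg.Agent.Lib_helper14_Amalgam2
-- import your own Cfsg.Agent.* helpers here

set_option autoImplicit false
open Cfsg

namespace Cfsg.Agent.S2804


open scoped commutatorElement
open Cfsg.Agent.helper14 Cfsg.Agent.helper7

/-- Let L be a finite group and p a prime with C_L(O_p(L)) ≤ O_p(L), V a p-reduced normal subgroup of L and K a subnormal subgroup of L. Then [V, O^p(K)] is contained in K and is a p-reduced normal subgroup of K, where O^p(K) is the subgroup of K generated by its elements of order prime to p. -/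
theorem result {L : Type*} [Group L] [Finite L] {p : ℕ} [Fact p.Prime] (hchar : Subgroup.centralizer (Cfsg.pCore p L : Set L) ≤ Cfsg.pCore p L) (V : Subgroup L) (hV : Cfsg.IsPReducedNormal p V) (K : Subgroup L) (hK : K.IsSubnormal) : ⁅V, (Cfsg.pResidual p ↥K).map K.subtype⁆ ≤ K ∧ Cfsg.IsPReducedNormal p ((⁅V, (Cfsg.pResidual p ↥K).map K.subtype⁆).subgroupOf K) := by
  rw [map_pResidual_eq_opOf]
  have hVn : V.Normal := hV.1
  obtain ⟨hVcomm, hVexp⟩ := hV.2.1
  have hVc := comm_of_isMulCommutative' hVcomm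
  have hKsn : SN K ⊤ := sn_top_iff.mpr hK
  have hVtop : ∀ X : Subgroup L, X ≤ Subgroup.normalizer (V : Set L) := by
    intro X
    rw [Subgroup.normalizer_eq_top_iff.mpr hVn]
    exact le_top
  have hRK : opOf p K ≤ K := opOf_le p K
  have hKR : K ≤ Subgroup.normalizer ((opOf p K : Subgroup L) : Set L) := le_normalizer_opOf p K
  have hRsn : SN (opOf p K) ⊤ := (SN.of_normal hRK hKR).trans hKsn
  have hVsn : SN V ⊤ := SN.of_normal le_top (hVtop ⊤)
  have hVp : IsPGroup p V := by
    intro v
    refine ⟨1, ?_⟩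
    apply Subtype.ext
    rw [pow_one, Subgroup.coe_pow, Subgroup.coe_one]
    exact hVexp v v.2
  have hVR : V ≤ Subgroup.normalizer ((opOf p K : Subgroup L) : Set L) :=
    le_normalizer_of_sn_pgroup V (opOf p K) hVsn hRsn hVp (opOf_idem p K)
  have hWR : ⁅V, opOf p K⁆ ≤ opOf p K := commutator_le_right_of_le_normalizer _ _ hVR
  have hWK : ⁅V, opOf p K⁆ ≤ K := hWR.trans hRK
  have hWV : ⁅V, opOf p K⁆ ≤ V := commutator_le_left_of_le_normalizer _ _ (hVtop _)
  refine ⟨hWK, ?_⟩
  apply isPReducedNormal_of_predIn K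
  rw [Subgroup.map_subgroupOf_eq_of_le hWK]
  refine ⟨hWK, le_normalizer_commutator V (opOf p K) K (hVtop K) hKR,
    fun a ha b hb => hVc a (hWV ha) b (hWV hb), fun a ha => hVexp a (hWV ha), ?_⟩
  intro N hNK hKN hNp
  have hNsn : SN N ⊤ := (SN.of_normal hNK hKN).trans hKsn
  have hXN : opOf p N ≤ N := opOf_le p N
  have hXsn : SN (opOf p N) ⊤ := (SN.of_normal hXN (le_normalizer_opOf p N)).trans hNsn
  have hXW : opOf p N ≤ Subgroup.centralizer ((⁅V, opOf p K⁆ : Subgroup L) : Set L) := by
    show Subgroup.closure _ ≤ _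
    rw [Subgroup.closure_le]
    rintro g ⟨hg, hco⟩
    obtain ⟨k, hk⟩ := hNp g hg
    exact mem_of_pow_mem_of_coprime' _ g k hk hco
  have hXR : opOf p N ≤ opOf p K := opOf_mono p hNK
  have hXV : opOf p N ≤ Subgroup.centralizer (V : Set L) := by
    apply centralizes_of_sn_of_isPReducedNormal V hV _ hXsn
    intro x hx
    refine ⟨1, ?_⟩
    rw [pow_one]
    apply pow_p_mem_centralizer_of_quadratic V hVexp x (hVtop _ hx)
    intro v hv
    have hc : v⁻¹ * (x * v * x⁻¹) ∈ ⁅V, opOf p K⁆ := by
      have := Subgroup.commutator_mem_commutator (V.inv_mem hv) (hXR hx)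
      rw [commutatorElement_def, inv_inv] at this
      simpa [mul_assoc] using this
    exact ((Subgroup.mem_centralizer_iff.mp (hXW hx)) _ hc).symm
  have hNV : N ≤ Subgroup.centralizer (V : Set L) := by
    apply centralizes_of_sn_of_isPReducedNormal V hV _ hNsn
    intro n hn
    exact ⟨_, hXV (pow_mem_opOf hn)⟩
  exact hNV.trans (Subgroup.centralizer_le (SetLike.coe_subset_coe.mpr hWV))

end Cfsg.Agent.S2804
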