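import Cfsg.Statements.S2805
import Mathlib
import Cfsg.Agent.Lib_helper14_Kieler
-- import your own Cfsg.Agent.* helpers here

set_option autoImplicit false
open Cfsg

namespace Cfsg.Agent.S2805


open Cfsg.Agent.helper14 Cfsg.Agent.helper7

/-- Kieler's Lemma: let H be a finite group of characteristic p (C_H(O_p(H)) ≤ O_p(H)), T a Sylow p-subgroup of H and L a subnormal subgroup of H. Then C_L(Ω₁(Z(T))) = C_L(Ω₁(Z(T ∩ L))), Ω₁(Z(·)) denoting the elements of order dividing p in the centre. -/
theorem result {H : Type*} [Group H] [Finite H] {p : ℕ} [Fact p.Prime] (hH : Subgroup.centralizer (Cfsg.pCore p H : Set H) ≤ Cfsg.pCore p H) (T : Sylow p H) (L : Subgroup H) (hL : L.IsSubnormal) : L ⊓ Subgroup.centralizer ((Cfsg.omegaOne p ((T : Subgroup H) ⊓ Subgroup.centralizer ((T : Subgroup H) : Set H))) : Set H) = L ⊓ Subgroup.centralizer ((Cfsg.omegaOne p (((T : Subgroup H) ⊓ L) ⊓ Subgroup.centralizer ((((T : Subgroup H) ⊓ L) : Subgroup H) : Set H))) : Set H) := by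
  have hHc : Cfsg.Agent.helper15.IsCharP p H := hH
  have key : ∀ L : Subgroup H, L.IsSubnormal →
      (¬ p ∣ ((T : Subgroup H) ⊓ L).relIndex L) ∧
      L ⊓ Subgroup.centralizer ((Cfsg.omegaOne p ((T : Subgroup H) ⊓
          Subgroup.centralizer ((T : Subgroup H) : Set H))) : Set H) =
        L ⊓ Subgroup.centralizer ((Cfsg.omegaOne p (((T : Subgroup H) ⊓ L) ⊓
          Subgroup.centralizer ((((T : Subgroup H) ⊓ L) : Subgroup H) : Set H))) : Set H) := by
    intro L hL
    induction hL with
    | top =>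
      refine ⟨?_, ?_⟩
      · rw [inf_top_eq, Subgroup.relIndex_top_right]
        exact T.not_dvd_index
      · rw [inf_top_eq]
    | step L K hLK hK hN ih =>
      have hKL : K ≤ Subgroup.normalizer (L : Set H) :=
        (Subgroup.normal_subgroupOf_iff_le_normalizer hLK).mp hN
      have hLsn : L.IsSubnormal := Subgroup.IsSubnormal.step L K hLK hK hN
      have hKchar := charp_ambient K (Cfsg.Agent.helper15.isCharP_of_isSubnormal hHc hK)
      have hLchar := charp_ambient L (Cfsg.Agent.helper15.isCharP_of_isSubnormal hHc hLsn)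
      have hRp : IsPGroup p ((T : Subgroup H) ⊓ K : Subgroup H) := T.isPGroup'.to_le inf_le_left
      have e3 : ((T : Subgroup H) ⊓ K) ⊓ L = (T : Subgroup H) ⊓ L := by
        rw [inf_assoc, inf_eq_right.mpr hLK]
      have h1 := not_dvd_relIndex_inf_of_normal K L ((T : Subgroup H) ⊓ K) hLK hKL hRp ih.1
      rw [e3] at h1
      refine ⟨h1, ?_⟩
      have e1 : L ⊓ Subgroup.centralizer ((Cfsg.omegaOne p ((T : Subgroup H) ⊓
          Subgroup.centralizer ((T : Subgroup H) : Set H))) : Set H) =
          L ⊓ Subgroup.centralizer ((Cfsg.omegaOne p (((T : Subgroup H) ⊓ K) ⊓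
          Subgroup.centralizer ((((T : Subgroup H) ⊓ K) : Subgroup H) : Set H))) : Set H) := by
        apply le_antisymm
        · intro x hx
          have h2 : x ∈ K ⊓ Subgroup.centralizer ((Cfsg.omegaOne p ((T : Subgroup H) ⊓
              Subgroup.centralizer ((T : Subgroup H) : Set H))) : Set H) := ⟨hLK hx.1, hx.2⟩
          rw [ih.2] at h2
          exact ⟨hx.1, h2.2⟩
        · intro x hx
          have h2 : x ∈ K ⊓ Subgroup.centralizer ((Cfsg.omegaOne p (((T : Subgroup H) ⊓ K) ⊓
              Subgroup.centralizer ((((T : Subgroup H) ⊓ K) : Subgroup H) : Set H))) : Set H) :=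
            ⟨hLK hx.1, hx.2⟩
          rw [← ih.2] at h2
          exact ⟨hx.1, h2.2⟩
      have e2 := kieler_normal K L ((T : Subgroup H) ⊓ K) hLK hKL inf_le_right hRp ih.1
        hKchar hLchar
      rw [e3] at e2
      rw [e1, e2]
  exact (key L hL).2

end Cfsg.Agent.S2805
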