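import Cfsg.Statements.S2810
import Mathlib.GroupTheory.Commutator.Basic

set_option autoImplicit false
open Cfsg
open scoped commutatorElement

namespace Cfsg.Agent.S2810

theorem commute_pow_of {X : Type*} [Group X] (y r : X) (q : ℕ) (hcb : Commute y ⁅y, r⁆)
    (hq : ⁅y, r⁆ ^ q = 1) : Commute (y ^ q) r := by
  have hconj : ∀ k : ℕ, y ^ k * r = ⁅y, r⁆ ^ k * r * y ^ k := by
    intro k
    induction k with
    | zero => simp
    | succ k ihk =>
      have e1 : y * r = ⁅y, r⁆ * r * y := by rw [commutatorElement_def]; group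
      calc y ^ (k + 1) * r = y * (y ^ k * r) := by rw [pow_succ']; group
        _ = y * (⁅y, r⁆ ^ k * r * y ^ k) := by rw [ihk]
        _ = (y * ⁅y, r⁆ ^ k) * r * y ^ k := by group
        _ = (⁅y, r⁆ ^ k * y) * r * y ^ k := by rw [(hcb.pow_right k).eq]
        _ = ⁅y, r⁆ ^ k * (y * r) * y ^ k := by group
        _ = ⁅y, r⁆ ^ k * (⁅y, r⁆ * r * y) * y ^ k := by rw [← e1]
        _ = ⁅y, r⁆ ^ (k + 1) * r * y ^ (k + 1) := by rw [pow_succ, pow_succ]; group
  have := hconj q
  rw [hq, one_mul] at this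
  exact this

/-- The stabilizer of the chain. -/
def chainStab {H : Type*} [Group H] {n : ℕ} (A : Fin (n + 1) → Subgroup H) (hnorm : ∀ i, (A i).Normal) :
    Subgroup H where
  carrier := {x | ∀ i : Fin n, ∀ a ∈ A i.succ, ⁅a, x⁆ ∈ A i.castSucc}
  one_mem' := by
    intro i a _
    rw [commutatorElement_def]
    simp
  mul_mem' := by
    intro x y hx hy i a ha
    have e : ⁅a, x * y⁆ = ⁅a, x⁆ * (x * ⁅a, y⁆ * x⁻¹) := by
      simp only [commutatorElement_def]; group
    rw [e]
    exact (A i.castSucc).mul_mem (hx i a ha) ((hnorm i.castSucc).conj_mem _ (hy i a ha) x)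
  inv_mem' := by
    intro x hx i a ha
    have e : ⁅a, x⁻¹⁆ = x⁻¹ * ⁅a, x⁆⁻¹ * x⁻¹⁻¹ := by
      simp only [commutatorElement_def]; group
    rw [e]
    exact (hnorm i.castSucc).conj_mem _ ((A i.castSucc).inv_mem (hx i a ha)) x⁻¹

theorem result {H : Type*} [Group H] [Finite H] {p : ℕ} [Fact p.Prime] (hchar : Subgroup.centralizer (Cfsg.pCore p H : Set H) ≤ Cfsg.pCore p H) (L : Subgroup H) (n : ℕ) (A : Fin (n + 1) → Subgroup H) (h0 : A 0 = ⊥) (hn : A (Fin.last n) = Cfsg.pCore p H) (hmono : Monotone A) (hnorm : ∀ i, (A i).Normal) (hcent : ∀ i : Fin n, ⁅A i.succ, L⁆ ≤ A i.castSucc) : L ≤ Cfsg.pCore p H := by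
  set C := chainStab A hnorm with hCdef
  have hLC : L ≤ C := by
    intro x hx i a ha
    exact hcent i (Subgroup.commutator_mem_commutator ha hx)
  have hCn : C.Normal := by
    constructor
    intro x hx g i a ha
    have ha' : g⁻¹ * a * g ∈ A i.succ := by
      have := (hnorm i.succ).conj_mem a ha g⁻¹
      simpa using this
    have e : ⁅a, g * x * g⁻¹⁆ = g * ⁅g⁻¹ * a * g, x⁆ * g⁻¹ := by
      simp only [commutatorElement_def]; group
    rw [e]
    exact (hnorm i.castSucc).conj_mem _ (hx i _ ha') g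
  have hcorep : IsPGroup p (Cfsg.pCore p H) := by
    unfold Cfsg.pCore
    exact Sylow.sSup_of_normal _ (fun N hN => hN.2) (fun N hN => hN.1)
  obtain ⟨e, he⟩ := IsPGroup.iff_card.mp hcorep
  set q := Nat.card (Cfsg.pCore p H) with hq
  have hRq : ∀ r ∈ Cfsg.pCore p H, r ^ q = 1 := by
    intro r hr
    have h1 : (⟨r, hr⟩ : Cfsg.pCore p H) ^ Nat.card (Cfsg.pCore p H) = 1 := pow_card_eq_one'
    have h2 : ((⟨r, hr⟩ : Cfsg.pCore p H) ^ Nat.card (Cfsg.pCore p H) : Cfsg.pCore p H).1 =
        (1 : Cfsg.pCore p H).1 := congrArg Subtype.val h1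
    rw [Subgroup.coe_pow, Subgroup.coe_one] at h2
    exact h2
  have hAle : ∀ i, A i ≤ Cfsg.pCore p H := by
    intro i
    rw [← hn]
    exact hmono (Fin.le_last i)
  have key : ∀ i : Fin (n + 1), ∀ x ∈ C, ∀ a ∈ A i, Commute (x ^ q ^ (i : ℕ)) a := by
    intro i
    induction i using Fin.induction with
    | zero =>
      intro x _ a ha
      rw [h0, Subgroup.mem_bot] at ha
      rw [ha]; exact Commute.one_right _
    | succ i ih =>
      intro x hx a ha
      set y := x ^ q ^ (i : ℕ) with hy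
      have hyC : y ∈ C := C.pow_mem hx _
      have hb : ⁅y, a⁆ ∈ A i.castSucc := by
        have h2 : ⁅y, a⁆ = ⁅a, y⁆⁻¹ := (commutatorElement_inv a y).symm
        rw [h2]
        exact Subgroup.inv_mem _ (hyC i a ha)
      have hcb : Commute y ⁅y, a⁆ := by
        have := ih x hx _ hb
        simpa using this
      have := commute_pow_of y a q hcb (hRq _ (hAle _ hb))
      rw [hy, ← pow_mul, ← pow_succ] at this
      simpa using this
  have hCp : IsPGroup p C := by
    intro g
    have h1 : (g : H) ^ q ^ n ∈ Subgroup.centralizer (Cfsg.pCore p H : Set H) := by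
      rw [Subgroup.mem_centralizer_iff]
      intro r hr
      rw [← hn] at hr
      have := key (Fin.last n) g g.2 r hr
      simpa using this.eq.symm
    have h2 := hRq _ (hchar h1)
    refine ⟨e * (n + 1), ?_⟩
    apply Subtype.ext
    simp only [Subgroup.coe_pow, Subgroup.coe_one]
    rw [pow_mul, ← he, pow_succ, pow_mul]
    exact h2
  refine hLC.trans ?_
  unfold Cfsg.pCore
  exact le_sSup ⟨hCn, hCp⟩

end Cfsg.Agent.S2810
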