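import Cfsg.Statements.S2813
import Mathlib.GroupTheory.Commutator.Basic

set_option autoImplicit false
open Cfsg
open scoped commutatorElement

namespace Cfsg.Agent.S2813

theorem comm_le_left {X : Type*} [Group X] (A B : Subgroup X)
    (h : B ≤ Subgroup.normalizer (A : Set X)) : ⁅A, B⁆ ≤ A := by
  rw [Subgroup.commutator_le]
  intro a ha b hb
  have : b * a⁻¹ * b⁻¹ ∈ A := (Subgroup.mem_normalizer_iff.mp (h hb) a⁻¹).mp (A.inv_mem ha)
  have h2 : ⁅a, b⁆ = a * (b * a⁻¹ * b⁻¹) := by rw [commutatorElement_def]; group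
  rw [h2]
  exact A.mul_mem ha this

theorem result {H : Type*} [Group H] [Finite H] {p : ℕ} [Fact p.Prime] (K : Subgroup H) (hO : Cfsg.pCore p ↥K = ⊥) (Y : Subgroup H) (hY : IsPGroup p ↥Y) (hYK : Y ≤ Subgroup.normalizer (K : Set H)) (hq : ⁅⁅K, Y⁆, Y⁆ = ⊥) : ⁅K, Y⁆ = ⊥ := by
  set D := ⁅K, Y⁆ with hD
  have hDK : D ≤ K := comm_le_left K Y hYK
  have hcomm : ∀ d ∈ D, ∀ y ∈ Y, d * y = y * d := by
    intro d hd y hy
    have h1 : ⁅d, y⁆ ∈ ⁅D, Y⁆ := Subgroup.commutator_mem_commutator hd hy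
    rw [hq, Subgroup.mem_bot, commutatorElement_eq_one_iff_mul_comm] at h1
    exact h1
  -- K normalizes D
  have hKD : ∀ k' ∈ K, ∀ d ∈ D, k' * d * k'⁻¹ ∈ D := by
    intro k' hk' d hd
    have : D.map (MulAut.conj k').toMonoidHom ≤ D := by
      rw [hD, Subgroup.commutator_def, MonoidHom.map_closure, Subgroup.closure_le]
      rintro _ ⟨_, ⟨k, hk, y, hy, rfl⟩, rfl⟩
      have e : (MulAut.conj k').toMonoidHom ⁅k, y⁆ = ⁅k' * k, y⁆ * ⁅k', y⁆⁻¹ := by
        simp only [MulEquiv.toMonoidHom_eq_coe, MonoidHom.coe_coe, MulAut.conj_apply,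
          commutatorElement_def]
        group
      rw [e]
      exact Subgroup.mul_mem _ (Subgroup.commutator_mem_commutator (K.mul_mem hk' hk) hy)
        (Subgroup.inv_mem _ (Subgroup.commutator_mem_commutator hk' hy))
    exact this (Subgroup.mem_map_of_mem _ hd)
  -- generators of D centralize D
  have hgen_cent : ∀ k ∈ K, ∀ y ∈ Y, ∀ d ∈ D, ⁅k, y⁆ * d = d * ⁅k, y⁆ := by
    intro k hk y hy d hd
    have h1 : k⁻¹ * d * k ∈ D := by
      have := hKD k⁻¹ (K.inv_mem hk) d hd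
      simpa using this
    have h2 := hcomm _ h1 y hy
    have h3 := hcomm _ h1 y⁻¹ (Y.inv_mem hy)
    have h4 := hcomm d hd y⁻¹ (Y.inv_mem hy)
    -- (k y k⁻¹) d = d (k y k⁻¹)
    have h5 : k * y * k⁻¹ * d = d * (k * y * k⁻¹) := by
      calc k * y * k⁻¹ * d = k * (y * (k⁻¹ * d * k)) * k⁻¹ := by group
        _ = k * ((k⁻¹ * d * k) * y) * k⁻¹ := by rw [h2]
        _ = d * (k * y * k⁻¹) := by group
    calc ⁅k, y⁆ * d = k * y * k⁻¹ * (y⁻¹ * d) := by rw [commutatorElement_def]; group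
      _ = k * y * k⁻¹ * (d * y⁻¹) := by rw [h4]
      _ = (k * y * k⁻¹ * d) * y⁻¹ := by group
      _ = d * (k * y * k⁻¹) * y⁻¹ := by rw [h5]
      _ = d * ⁅k, y⁆ := by rw [commutatorElement_def]; group
  have hDab : ∀ d ∈ D, ∀ d' ∈ D, d * d' = d' * d := by
    intro d hd d' hd'
    have : d ∈ Subgroup.centralizer (D : Set H) := by
      have hle : D ≤ Subgroup.centralizer (D : Set H) := by
        rw [hD, Subgroup.commutator_def, Subgroup.closure_le]
        rintro _ ⟨k, hk, y, hy, rfl⟩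
        rw [SetLike.mem_coe, Subgroup.mem_centralizer_iff]
        intro d hd
        exact (hgen_cent k hk y hy d hd).symm
      exact hle hd
    exact (Subgroup.mem_centralizer_iff.mp this d' hd').symm
  -- generators have p-power order
  have hgen_p : ∀ k ∈ K, ∀ y ∈ Y, ∃ a : ℕ, ⁅k, y⁆ ^ p ^ a = 1 := by
    intro k hk y hy
    obtain ⟨a, ha⟩ := hY ⟨y, hy⟩
    have ha' : y ^ p ^ a = 1 := by
      have := congrArg Subtype.val ha
      simpa using this
    refine ⟨a, ?_⟩
    have hd : ⁅k, y⁆ ∈ D := Subgroup.commutator_mem_commutator hk hy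
    have hc : Commute ⁅k, y⁆ y := hcomm _ hd y hy
    have e : ⁅k, y⁆ * y = k * y * k⁻¹ := by rw [commutatorElement_def]; group
    have h1 : (⁅k, y⁆ * y) ^ p ^ a = 1 := by
      rw [e, conj_pow, ha']; group
    rw [hc.mul_pow, ha', mul_one] at h1
    exact h1
  have hDp : ∀ d ∈ D, ∃ a : ℕ, d ^ p ^ a = 1 := by
    intro d hd
    rw [hD, Subgroup.commutator_def] at hd
    induction hd using Subgroup.closure_induction with
    | mem x hx =>
      obtain ⟨k, hk, y, hy, rfl⟩ := hx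
      exact hgen_p k hk y hy
    | one => exact ⟨0, by simp⟩
    | mul x z hx hz ihx ihz =>
      obtain ⟨a, ha⟩ := ihx
      obtain ⟨b, hb⟩ := ihz
      have hxD : x ∈ D := by rw [hD, Subgroup.commutator_def]; exact hx
      have hzD : z ∈ D := by rw [hD, Subgroup.commutator_def]; exact hz
      have hc : Commute x z := hDab x hxD z hzD
      refine ⟨a + b, ?_⟩
      rw [hc.mul_pow, pow_add, pow_mul, ha, one_pow, mul_comm (p ^ a) (p ^ b), pow_mul, hb, one_pow, mul_one]
    | inv x hx ih =>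
      obtain ⟨a, ha⟩ := ih
      exact ⟨a, by rw [inv_pow, ha, inv_one]⟩
  have hDpg : IsPGroup p (D.subgroupOf K) := by
    intro g
    obtain ⟨a, ha⟩ := hDp (g : K) (Subgroup.mem_subgroupOf.mp g.2)
    refine ⟨a, ?_⟩
    apply Subtype.ext
    apply Subtype.ext
    simpa using ha
  have hDn : (D.subgroupOf K).Normal := by
    constructor
    intro n hn g
    rw [Subgroup.mem_subgroupOf] at hn ⊢
    simpa using hKD g g.2 n hn
  have hle : D.subgroupOf K ≤ Cfsg.pCore p ↥K := by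
    unfold Cfsg.pCore
    exact le_sSup ⟨hDn, hDpg⟩
  rw [hO, le_bot_iff, Subgroup.subgroupOf_eq_bot] at hle
  exact disjoint_self.mp (hle.mono_right hDK)

end Cfsg.Agent.S2813
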