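import Cfsg.Statements.S2814
import Mathlib
import Cfsg.Agent.Lib_helper14_OpSub2
-- import your own Cfsg.Agent.* helpers here

set_option autoImplicit false
open Cfsg

namespace Cfsg.Agent.S2814

/-- Let A be a subgroup of the finite group H and K the subnormal closure of A (intersection of the subnormal subgroups containing A). Then K is the normal closure of A inside K and N_H(A) ≤ N_H(K); K = A·O^p(K), O^p(K) being generated by the elements of K of order prime to p; and if A is a p-group, O^p(K) = [O^p(K), A]. -/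
theorem result {H : Type*} [Group H] [Finite H] {p : ℕ} [Fact p.Prime] (A : Subgroup H) (K : Subgroup H) (hK : K = Cfsg.subnormalClosure A) : (Subgroup.normalClosure ((A.subgroupOf K : Subgroup ↥K) : Set ↥K)).map K.subtype = K ∧ Subgroup.normalizer (A : Set H) ≤ Subgroup.normalizer (K : Set H) ∧ A ⊔ (Cfsg.pResidual p ↥K).map K.subtype = K ∧ (IsPGroup p ↥A → ⁅(Cfsg.pResidual p ↥K).map K.subtype, A⁆ = (Cfsg.pResidual p ↥K).map K.subtype) := by
  subst hK
  obtain ⟨hAK, hKsn, hmin⟩ := Cfsg.Agent.helper14.subnormalClosure_spec A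
  refine ⟨?_, Cfsg.Agent.helper14.normalizer_le_normalizer_subnormalClosure A, ?_, ?_⟩
  · haveI : (Subgroup.normalClosure ((A.subgroupOf (Cfsg.subnormalClosure A) :
        Subgroup ↥(Cfsg.subnormalClosure A)) : Set ↥(Cfsg.subnormalClosure A))).Normal :=
      Subgroup.normalClosure_normal
    apply Cfsg.Agent.helper14.subnormalClosure_eq_of_sn A
    · intro a ha
      exact Subgroup.mem_map.mpr ⟨⟨a, hAK ha⟩,
        Subgroup.subset_normalClosure (Subgroup.mem_subgroupOf.mpr ha), rfl⟩
    · exact Cfsg.Agent.helper7.sn_map_subtype (Subgroup.Normal.isSubnormal inferInstance)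
  · rw [Cfsg.Agent.helper14.map_pResidual_eq_opOf]
    exact Cfsg.Agent.helper14.subnormalClosure_sup_opOf A
  · intro hAp
    rw [Cfsg.Agent.helper14.map_pResidual_eq_opOf]
    exact Cfsg.Agent.helper14.subnormalClosure_comm_opOf A hAp

end Cfsg.Agent.S2814
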