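import Cfsg.Statements.S2815
import Mathlib
import Cfsg.Agent.Lib_helper14_FStarP3
-- import your own Cfsg.Agent.* helpers here

set_option autoImplicit false
open Cfsg

namespace Cfsg.Agent.S2815

/-- Let H be a finite group and p a prime dividing its order with O_p(H) = 1, and suppose K = O^p(H) (generated by the elements of order prime to p) is quasisimple. Then K = F*(H); for every nontrivial p-subgroup Y of H, K = [K, Y] and K lies in the subgroup generated by the K-conjugates of Y; every normal subgroup of H not containing K has order prime to p; and H is p-irreducible. -/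
theorem result {H : Type*} [Group H] [Finite H] {p : ℕ} [Fact p.Prime] (hp : p ∣ Nat.card H) (hO : Cfsg.pCore p H = ⊥) (hq : Cfsg.IsQuasisimple ↥(Cfsg.pResidual p H)) : Cfsg.pResidual p H = Cfsg.generalizedFittingSubgroup H ∧ (∀ Y : Subgroup H, IsPGroup p ↥Y → Y ≠ ⊥ → ⁅Cfsg.pResidual p H, Y⁆ = Cfsg.pResidual p H ∧ Cfsg.pResidual p H ≤ ⨆ k : ↥(Cfsg.pResidual p H), Y.map (MulAut.conj (k : H)).toMonoidHom) ∧ (∀ C : Subgroup H, C.Normal → ¬ Cfsg.pResidual p H ≤ C → (Nat.card ↥C).Coprime p) ∧ Cfsg.IsPIrreducible p H := by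
  have hp' : p.Prime := Fact.out
  have hO' : Cfsg.Agent.helper7.piCoreIn {p} (⊤ : Subgroup H) = ⊥ := by
    rw [← Cfsg.Agent.helper7.pCore_eq hp', hO]
  have hq' : Cfsg.Agent.helper7.QS (Cfsg.pResidual p H) := (Cfsg.Agent.helper7.qs_iff_QS _).mp hq
  obtain ⟨h1, h2, h3⟩ := Cfsg.Agent.helper14.qs_pResidual_structure hO' hq'
  refine ⟨?_, h2, ?_, ?_⟩
  · rw [Cfsg.Agent.helper7.generalizedFittingSubgroup_eq]
    exact h1
  · intro C hCn hKC
    have h4 := h3 C hCn hKC
    rw [Nat.coprime_comm]
    exact (Nat.Prime.coprime_iff_not_dvd hp').mpr h4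
  · constructor
    · intro hcl
      obtain ⟨P⟩ := (inferInstance : Nonempty (Sylow p H))
      have hPn := hcl P
      have hP0 : (P : Subgroup H) ≤ Cfsg.pCore p H := le_sSup ⟨hPn, P.isPGroup'⟩
      rw [hO, le_bot_iff] at hP0
      exact P.ne_bot_of_dvd_card hp hP0
    · intro N hN hNcl
      by_contra hKN
      apply hNcl
      intro P
      have hcop := h3 N hN hKN
      have hP0 : (P : Subgroup ↥N) = ⊥ := by
        apply Cfsg.Agent.helper14.eq_bot_of_isPGroup_of_le_of_not_dvd P.isPGroup' (le_top : _ ≤ (⊤ : Subgroup ↥N))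
        rw [Subgroup.card_top]
        exact hcop
      rw [hP0]
      exact Subgroup.normal_bot

end Cfsg.Agent.S2815
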