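import Cfsg.Statements.S2816
import Mathlib
import Cfsg.Agent.Lib_helper14_FStarP2
-- import your own Cfsg.Agent.* helpers here

set_option autoImplicit false
open Cfsg

namespace Cfsg.Agent.S2816

/-- Let H be a finite group and p a prime with O_p(H) = 1, and Y a p-subgroup of H. Then for every subnormal subgroup K of H containing Y, [F*(H), Y] = [F*(K), Y] = [F*(K), Y, Y]; and if Y₀ ≤ Y with [F*(H), Y, Y₀] = 1 then Y₀ = 1 (in particular [F*(H), Y] = 1 forces Y = 1). -/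
theorem result {H : Type*} [Group H] [Finite H] {p : ℕ} [Fact p.Prime] (hO : Cfsg.pCore p H = ⊥) (Y : Subgroup H) (hY : IsPGroup p ↥Y) : (∀ K : Subgroup H, K.IsSubnormal → Y ≤ K → ⁅Cfsg.generalizedFittingSubgroup H, Y⁆ = ⁅(Cfsg.generalizedFittingSubgroup ↥K).map K.subtype, Y⁆ ∧ ⁅(Cfsg.generalizedFittingSubgroup ↥K).map K.subtype, Y⁆ = ⁅⁅(Cfsg.generalizedFittingSubgroup ↥K).map K.subtype, Y⁆, Y⁆) ∧ (∀ Y₀ : Subgroup H, Y₀ ≤ Y → ⁅⁅Cfsg.generalizedFittingSubgroup H, Y⁆, Y₀⁆ = ⊥ → Y₀ = ⊥) := by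
  have hO' : Cfsg.Agent.helper7.piCoreIn {p} (⊤ : Subgroup H) = ⊥ := by
    rw [← Cfsg.Agent.helper7.pCore_eq (Fact.out : p.Prime), hO]
  rw [Cfsg.Agent.helper7.generalizedFittingSubgroup_eq]
  constructor
  · intro K hK hYK
    rw [Cfsg.Agent.helper7.map_generalizedFittingSubgroup_eq]
    exact Cfsg.Agent.helper14.fstar_comm_sn ⊤ K Y hO' hY (Cfsg.Agent.helper7.sn_top_iff.mpr hK) hYK
  · intro Y₀ hY₀ h
    exact Cfsg.Agent.helper14.eq_bot_of_fstar_comm_comm_eq_bot ⊤ Y Y₀ hO' hY le_top hY₀ h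

end Cfsg.Agent.S2816
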