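import Cfsg.Statements.S2817
import Mathlib
import Cfsg.Agent.Lib_helper14_FStarP4
-- import your own Cfsg.Agent.* helpers here

set_option autoImplicit false
open Cfsg

namespace Cfsg.Agent.S2817

/-- Let H be a finite group and p a prime with O_p(H) = 1, Q a p-subgroup of H, L = [F*(H), Q], and F the largest normal subgroup of F*(H) centralized by Q (a normal subgroup of F*(H) centralized by Q and containing every such). Then F = C_{F*(H)}(LQ); L = [L, Q]; L ∩ F ≤ Φ(L); every p-subgroup B of N_H(Q) with [L, B] ≤ F satisfies [L, B] = 1; and C_H(FL) has order prime to p. -/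
theorem result {H : Type*} [Group H] [Finite H] {p : ℕ} [Fact p.Prime] (hO : Cfsg.pCore p H = ⊥) (Q : Subgroup H) (hQ : IsPGroup p ↥Q) (L : Subgroup H) (hL : L = ⁅Cfsg.generalizedFittingSubgroup H, Q⁆) (F : Subgroup H) (hF : F ≤ Cfsg.generalizedFittingSubgroup H ∧ Cfsg.generalizedFittingSubgroup H ≤ Subgroup.normalizer (F : Set H) ∧ Q ≤ Subgroup.centralizer (F : Set H) ∧ ∀ N : Subgroup H, N ≤ Cfsg.generalizedFittingSubgroup H → Cfsg.generalizedFittingSubgroup H ≤ Subgroup.normalizer (N : Set H) → Q ≤ Subgroup.centralizer (N : Set H) → N ≤ F) : F = Cfsg.generalizedFittingSubgroup H ⊓ Subgroup.centralizer ((L ⊔ Q : Subgroup H) : Set H) ∧ ⁅L, Q⁆ = L ∧ L ⊓ F ≤ (frattini ↥L).map L.subtype ∧ (∀ B : Subgroup H, IsPGroup p ↥B → B ≤ Subgroup.normalizer (Q : Set H) → ⁅L, B⁆ ≤ F → ⁅L, B⁆ = ⊥) ∧ (Nat.card ↥(Subgroup.centralizer ((F ⊔ L : Subgroup H) : Set H))).Coprime p := by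
  have hp' : p.Prime := Fact.out
  have hO' : Cfsg.Agent.helper7.piCoreIn {p} (⊤ : Subgroup H) = ⊥ := by
    rw [← Cfsg.Agent.helper7.pCore_eq hp', hO]
  rw [Cfsg.Agent.helper7.generalizedFittingSubgroup_eq] at hL hF ⊢
  subst hL
  obtain ⟨hF1, hF2, hF3, hF4⟩ := hF
  obtain ⟨h1, h2, h3, h4, h5⟩ :=
    Cfsg.Agent.helper14.fstar_comm_structure hO' Q hQ F hF1 hF2 hF3 hF4
  refine ⟨h1, h2, ?_, h4, ?_⟩
  · intro x hx
    have hxL : x ∈ ⁅Cfsg.Agent.helper7.fstarOf (⊤ : Subgroup H), Q⁆ := (Subgroup.mem_inf.mp hx).1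
    refine ⟨⟨x, hxL⟩, ?_, rfl⟩
    show (⟨x, hxL⟩ : ↥⁅Cfsg.Agent.helper7.fstarOf (⊤ : Subgroup H), Q⁆) ∈
      Order.radical (Subgroup ↥⁅Cfsg.Agent.helper7.fstarOf (⊤ : Subgroup H), Q⁆)
    unfold Order.radical
    rw [Subgroup.mem_iInf]
    intro M
    rw [Subgroup.mem_iInf]
    intro hM
    by_contra hxM
    have hM' : IsCoatom M := hM
    have hlt : M < ((⁅Cfsg.Agent.helper7.fstarOf (⊤ : Subgroup H), Q⁆ ⊓ F).subgroupOf
        ⁅Cfsg.Agent.helper7.fstarOf (⊤ : Subgroup H), Q⁆) ⊔ M := by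
      apply lt_of_le_of_ne le_sup_right
      intro heq
      apply hxM
      rw [heq]
      exact Subgroup.mem_sup_left (Subgroup.mem_subgroupOf.mpr hx)
    have htop := hM'.2 _ hlt
    have h6 := congrArg (Subgroup.map (⁅Cfsg.Agent.helper7.fstarOf (⊤ : Subgroup H), Q⁆).subtype) htop
    rw [Subgroup.map_sup, Subgroup.subgroupOf_map_subtype, ← MonoidHom.range_eq_map,
      Subgroup.range_subtype, inf_eq_left.mpr inf_le_left] at h6
    have h7 := h3 (M.map (⁅Cfsg.Agent.helper7.fstarOf (⊤ : Subgroup H), Q⁆).subtype)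
      (Subgroup.map_subtype_le M) h6
    apply hM'.1
    rw [eq_top_iff]
    intro y _
    have hy : (y : H) ∈ M.map (⁅Cfsg.Agent.helper7.fstarOf (⊤ : Subgroup H), Q⁆).subtype := by
      rw [h7]; exact y.2
    obtain ⟨z, hz, hzy⟩ := hy
    have : z = y := Subtype.ext hzy
    rw [← this]; exact hz
  · rw [Nat.coprime_comm]
    exact (Nat.Prime.coprime_iff_not_dvd hp').mpr h5

end Cfsg.Agent.S2817
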