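import Mathlib
import Cfsg.Statements.S2818
import Cfsg.Agent.Lib_helper14_PReduced2
import Cfsg.Agent.Lib_helper1_ElemAb

set_option autoImplicit false
open Cfsg

namespace Cfsg.Agent.S2818
open Cfsg.Agent.helper14
open scoped commutatorElement

theorem comm_mul_left' {G : Type*} [Group G] (x y k : G) :
    ⁅x * y, k⁆ = x * ⁅y, k⁆ * x⁻¹ * ⁅x, k⁆ := by
  simp only [commutatorElement_def]; group


/-- Let P be a finite p-subgroup of a group G and H a subgroup of N_G(P) with [P, H] ≤ Ω₁(Z(P)) (the elements of order dividing p in the centre of P). Then H centralizes the Frattini subgroup of P. -/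
theorem result {G : Type*} [Group G] [Finite G] {p : ℕ} [Fact p.Prime] (P : Subgroup G) (hP : IsPGroup p ↥P) (H : Subgroup G) (hH : H ≤ Subgroup.normalizer (P : Set G)) (h : ⁅P, H⁆ ≤ Cfsg.omegaOne p (P ⊓ Subgroup.centralizer (P : Set G))) : ⁅(frattini ↥P).map P.subtype, H⁆ = ⊥ := by
  have hZc : ∀ a ∈ P ⊓ Subgroup.centralizer (P : Set G),
      ∀ b ∈ P ⊓ Subgroup.centralizer (P : Set G), a * b = b * a := by
    rintro a ⟨haQ, _⟩ b ⟨_, hbC⟩
    exact (Subgroup.mem_centralizer_iff.mp hbC a haQ)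
  have hΩ : Cfsg.omegaOne p (P ⊓ Subgroup.centralizer (P : Set G)) ≤ commOmega p _ hZc := by
    unfold Cfsg.omegaOne
    rw [Subgroup.closure_le]
    rintro z ⟨hz, hzp⟩
    exact ⟨hz, hzp⟩
  rw [Subgroup.commutator_eq_bot_iff_le_centralizer]
  rintro _ ⟨x, hx, rfl⟩
  rw [Subgroup.mem_centralizer_iff]
  intro k hk
  have hc : ∀ y : P, ⁅(y : G), k⁆ ∈ commOmega p _ hZc :=
    fun y => hΩ (h (Subgroup.commutator_mem_commutator y.2 hk))
  let φ : ↥P →* ↥(P ⊓ Subgroup.centralizer (P : Set G)) :=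
    MonoidHom.mk' (fun y => ⟨⁅(y : G), k⁆, (hc y).1⟩) (by
      intro a b
      apply Subtype.ext
      show ⁅((a * b : P) : G), k⁆ = ⁅(a : G), k⁆ * ⁅(b : G), k⁆
      rw [Subgroup.coe_mul, comm_mul_left']
      have h1 : (a : G) * ⁅(b : G), k⁆ = ⁅(b : G), k⁆ * a :=
        (Subgroup.mem_centralizer_iff.mp (hc b).1.2 a a.2)
      rw [h1, mul_inv_cancel_right]
      exact hZc _ (hc b).1 _ (hc a).1)
  have hφ : ∀ y : P, ((φ y : ↥(P ⊓ Subgroup.centralizer (P : Set G))) : G) = ⁅(y : G), k⁆ :=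
    fun y => rfl
  have hker : commutator ↥P ≤ φ.ker := by
    rw [commutator_def, Subgroup.commutator_le]
    intro a _ b _
    rw [MonoidHom.mem_ker, map_commutatorElement, commutatorElement_eq_one_iff_mul_comm]
    exact Subtype.ext (hZc _ (φ a).2 _ (φ b).2)
  have hpow : ∀ y : P, y ^ p ∈ φ.ker := by
    intro y
    rw [MonoidHom.mem_ker, map_pow]
    apply Subtype.ext
    rw [Subgroup.coe_pow, hφ, Subgroup.coe_one]
    exact (hc y).2
  have hP' : Finite ↥P := inferInstance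
  have hfr := Cfsg.Agent.helper1.frattini_le_of_elemAb_quot (p := p) φ.ker hker hpow
  have hx1 : φ x = 1 := MonoidHom.mem_ker.mp (hfr hx)
  have hx2 : ⁅(x : G), k⁆ = 1 := by
    rw [← hφ, hx1, Subgroup.coe_one]
  exact (commutatorElement_eq_one_iff_mul_comm.mp hx2).symm

end Cfsg.Agent.S2818
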