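import Cfsg.Statements.S2819
import Mathlib
import Cfsg.Agent.Lib_helper14_OpSub2
import Cfsg.Agent.Lib_helper1_ElemAb
import Cfsg.Agent.Lib_helper14_PIrr
-- import your own Cfsg.Agent.* helpers here

set_option autoImplicit false
open Cfsg

namespace Cfsg.Agent.S2819

open scoped commutatorElement
open Cfsg.Agent.helper14

variable {G : Type*} [Group G]

/-- `D = P' ⟨x^p⟩`. -/
def dSub (p : ℕ) (P : Subgroup G) : Subgroup G :=
  Subgroup.closure {z : G | z ∈ ⁅P, P⁆ ∨ ∃ x ∈ P, z = x ^ p}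

theorem comm_le_self (P : Subgroup G) : ⁅P, P⁆ ≤ P :=
  commutator_le_left_of_le_normalizer P P Subgroup.le_normalizer

theorem dSub_le (p : ℕ) (P : Subgroup G) : dSub p P ≤ P := by
  unfold dSub
  rw [Subgroup.closure_le]
  rintro z (hz | ⟨x, hx, rfl⟩)
  · exact comm_le_self P hz
  · exact P.pow_mem hx p

theorem map_comm_subtype (P : Subgroup G) : (commutator ↥P).map P.subtype = ⁅P, P⁆ := by
  rw [commutator_def, Subgroup.map_commutator, ← MonoidHom.range_eq_map, Subgroup.range_subtype]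

theorem frattini_map_le_dSub [Finite G] {p : ℕ} [Fact p.Prime] (P : Subgroup G) :
    (frattini ↥P).map P.subtype ≤ dSub p P := by
  have hc : commutator ↥P ≤ (dSub p P).subgroupOf P := by
    intro x hx
    rw [Subgroup.mem_subgroupOf]
    have h1 : (x : G) ∈ (commutator ↥P).map P.subtype := ⟨x, hx, rfl⟩
    rw [map_comm_subtype] at h1
    exact Subgroup.subset_closure (Or.inl h1)
  haveI : ((dSub p P).subgroupOf P).Normal := normal_of_commutator_le _ hc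
  have hpow : ∀ x : ↥P, x ^ p ∈ (dSub p P).subgroupOf P := by
    intro x
    rw [Subgroup.mem_subgroupOf, Subgroup.coe_pow]
    exact Subgroup.subset_closure (Or.inr ⟨x, x.2, rfl⟩)
  have := Cfsg.Agent.helper1.frattini_le_of_elemAb_quot (p := p) _ hc hpow
  rw [Subgroup.map_le_iff_le_comap]
  exact this

theorem mul_pow_mod_comm (P : Subgroup G) (a x : G) (ha : a ∈ P) (hx : x ∈ P) (n : ℕ) :
    (a * x) ^ n * (a ^ n * x ^ n)⁻¹ ∈ ⁅P, P⁆ := by
  have key : (((⟨a, ha⟩ : ↥P) * ⟨x, hx⟩) ^ n * ((⟨a, ha⟩ : ↥P) ^ n * (⟨x, hx⟩ : ↥P) ^ n)⁻¹) ∈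
      commutator ↥P := by
    rw [← Abelianization.ker_of ↥P, MonoidHom.mem_ker, map_mul, map_inv, map_pow, map_mul,
      map_mul, map_pow, map_pow, mul_pow, mul_inv_cancel]
  have h1 : ((((⟨a, ha⟩ : ↥P) * ⟨x, hx⟩) ^ n *
      ((⟨a, ha⟩ : ↥P) ^ n * (⟨x, hx⟩ : ↥P) ^ n)⁻¹ : ↥P) : G) ∈
      (commutator ↥P).map P.subtype := ⟨_, key, rfl⟩
  rw [map_comm_subtype] at h1
  simpa using h1

theorem conj_comm_mem (P : Subgroup G) (v c : G) (hv : v ∈ Subgroup.normalizer (P : Set G))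
    (hc : c ∈ ⁅P, P⁆) : v * c * v⁻¹ ∈ ⁅P, P⁆ := by
  have h1 : Subgroup.normalizer (P : Set G) ≤
      Subgroup.normalizer ((⁅P, P⁆ : Subgroup G) : Set G) :=
    le_normalizer_commutator P P _ le_rfl le_rfl
  exact (Subgroup.mem_normalizer_iff.mp (h1 hv) c).mp hc

/-- The subgroup of elements of `N(P)` centralizing `P'` and acting trivially on `D/P'`. -/
def tSub (p : ℕ) (P : Subgroup G) : Subgroup G where
  carrier := {g | g ∈ Subgroup.normalizer (P : Set G) ∧ (∀ c ∈ ⁅P, P⁆, g * c = c * g) ∧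
      ∀ u ∈ dSub p P, g * u * g⁻¹ * u⁻¹ ∈ ⁅P, P⁆}
  one_mem' := by
    refine ⟨Subgroup.one_mem _, fun c _ => by simp, fun u _ => ?_⟩
    have : (1 : G) * u * 1⁻¹ * u⁻¹ = 1 := by group
    rw [this]; exact Subgroup.one_mem _
  mul_mem' := by
    rintro g h ⟨hg1, hg2, hg3⟩ ⟨hh1, hh2, hh3⟩
    refine ⟨Subgroup.mul_mem _ hg1 hh1, ?_, ?_⟩
    · intro c hc
      rw [mul_assoc, hh2 c hc, ← mul_assoc, hg2 c hc, mul_assoc]
    · intro u hu
      obtain ⟨c, hc⟩ : ∃ c : G, c = h * u * h⁻¹ * u⁻¹ := ⟨_, rfl⟩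
      have hcm : c ∈ ⁅P, P⁆ := by rw [hc]; exact hh3 u hu
      have hgc : g * c = c * g := hg2 c hcm
      have hu' : h * u * h⁻¹ = c * u := by rw [hc]; group
      have e : g * h * u * (g * h)⁻¹ * u⁻¹ = c * (g * u * g⁻¹ * u⁻¹) := by
        calc g * h * u * (g * h)⁻¹ * u⁻¹ = g * (h * u * h⁻¹) * g⁻¹ * u⁻¹ := by group
          _ = g * (c * u) * g⁻¹ * u⁻¹ := by rw [hu']
          _ = (g * c) * (u * g⁻¹ * u⁻¹) := by group
          _ = (c * g) * (u * g⁻¹ * u⁻¹) := by rw [hgc]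
          _ = c * (g * u * g⁻¹ * u⁻¹) := by group
      rw [e]
      exact Subgroup.mul_mem _ hcm (hg3 u hu)
  inv_mem' := by
    rintro g ⟨hg1, hg2, hg3⟩
    have hinv : ∀ c ∈ ⁅P, P⁆, g⁻¹ * c = c * g⁻¹ := by
      intro c hc
      have := hg2 c hc
      calc g⁻¹ * c = g⁻¹ * (c * g) * g⁻¹ := by group
        _ = g⁻¹ * (g * c) * g⁻¹ := by rw [this]
        _ = c * g⁻¹ := by group
    refine ⟨Subgroup.inv_mem _ hg1, hinv, ?_⟩
    intro u hu
    obtain ⟨c, hc⟩ : ∃ c : G, c = g * u * g⁻¹ * u⁻¹ := ⟨_, rfl⟩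
    have hcm : c ∈ ⁅P, P⁆ := by rw [hc]; exact hg3 u hu
    have h1 : g⁻¹ * c * g = c := by
      calc g⁻¹ * c * g = (g⁻¹ * c) * g := by group
        _ = (c * g⁻¹) * g := by rw [hinv c hcm]
        _ = c := by group
    have h2 : g⁻¹ * u * g⁻¹⁻¹ * u⁻¹ = (g⁻¹ * c * g)⁻¹ := by rw [hc]; group
    rw [h2, h1]
    exact Subgroup.inv_mem _ hcm

theorem mem_tSub_of_gens (p : ℕ) (P : Subgroup G) (g : G)
    (hgn : g ∈ Subgroup.normalizer (P : Set G)) (hgc : ∀ c ∈ ⁅P, P⁆, g * c = c * g)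
    (hgp : ∀ x ∈ P, g * x ^ p * g⁻¹ * (x ^ p)⁻¹ ∈ ⁅P, P⁆) : g ∈ tSub p P := by
  refine ⟨hgn, hgc, ?_⟩
  intro u hu
  have hPd : ∀ v ∈ P, ∀ c ∈ ⁅P, P⁆, v * c * v⁻¹ ∈ ⁅P, P⁆ :=
    fun v hv c hc => conj_comm_mem P v c (Subgroup.le_normalizer hv) hc
  have key : u ∈ P ∧ g * u * g⁻¹ * u⁻¹ ∈ ⁅P, P⁆ := by
    unfold dSub at hu
    induction hu using Subgroup.closure_induction with
    | mem z hz =>
      rcases hz with hz | ⟨x, hx, rfl⟩
      · refine ⟨comm_le_self P hz, ?_⟩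
        have : g * z * g⁻¹ * z⁻¹ = 1 := by rw [hgc z hz]; group
        rw [this]; exact Subgroup.one_mem _
      · exact ⟨P.pow_mem hx p, hgp x hx⟩
    | one =>
      refine ⟨P.one_mem, ?_⟩
      have : g * 1 * g⁻¹ * (1 : G)⁻¹ = 1 := by group
      rw [this]; exact Subgroup.one_mem _
    | mul a b _ _ iha ihb =>
      refine ⟨P.mul_mem iha.1 ihb.1, ?_⟩
      have e : g * (a * b) * g⁻¹ * (a * b)⁻¹ =
          (g * a * g⁻¹ * a⁻¹) * (a * (g * b * g⁻¹ * b⁻¹) * a⁻¹) := by group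
      rw [e]
      exact Subgroup.mul_mem _ iha.2 (hPd a iha.1 _ ihb.2)
    | inv a _ iha =>
      refine ⟨P.inv_mem iha.1, ?_⟩
      have e : g * a⁻¹ * g⁻¹ * a⁻¹⁻¹ = a⁻¹ * (g * a * g⁻¹ * a⁻¹)⁻¹ * a⁻¹⁻¹ := by group
      rw [e]
      exact hPd a⁻¹ (P.inv_mem iha.1) _ (Subgroup.inv_mem _ iha.2)
  exact key.2

theorem conj_mem_tSub {p : ℕ} (P Y : Subgroup G)
    (hYn : Y ≤ Subgroup.normalizer (P : Set G))
    (hYc : Y ≤ Subgroup.centralizer ((⁅P, P⁆ : Subgroup G) : Set G))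
    (hel : Cfsg.IsElementaryAbelian p ⁅P, Y⁆) (h y : G)
    (hh : h ∈ Subgroup.normalizer (P : Set G)) (hy : y ∈ Y) : h * y * h⁻¹ ∈ tSub p P := by
  have hhinv : h⁻¹ ∈ Subgroup.normalizer (P : Set G) := Subgroup.inv_mem _ hh
  have hyc : ∀ c ∈ ⁅P, P⁆, y * c = c * y := by
    intro c hc
    exact ((Subgroup.mem_centralizer_iff.mp (hYc hy)) c hc).symm
  have hAP : ⁅P, Y⁆ ≤ P := commutator_le_left_of_le_normalizer P Y hYn
  -- `y` acts trivially on `p`-th powers modulo `P'`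
  have hyp : ∀ x ∈ P, y * x ^ p * y⁻¹ * (x ^ p)⁻¹ ∈ ⁅P, P⁆ := by
    intro x hx
    obtain ⟨a, ha⟩ : ∃ a : G, a = y * x * y⁻¹ * x⁻¹ := ⟨_, rfl⟩
    have haA : a ∈ ⁅P, Y⁆ := by
      have h1 : ⁅x, y⁆ ∈ ⁅P, Y⁆ := Subgroup.commutator_mem_commutator hx hy
      have h2 : a = ⁅x, y⁆⁻¹ := by rw [ha, commutatorElement_def]; group
      rw [h2]; exact Subgroup.inv_mem _ h1
    have hap : a ^ p = 1 := hel.2 a haA
    have haP : a ∈ P := hAP haA
    have hconj : y * x * y⁻¹ = a * x := by rw [ha]; group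
    have h3 : y * x ^ p * y⁻¹ = (a * x) ^ p := by rw [← hconj, conj_pow]
    have h4 := mul_pow_mod_comm P a x haP hx p
    rw [hap, one_mul] at h4
    rw [h3]
    exact h4
  -- transport along conjugation by `h`
  apply mem_tSub_of_gens
  · exact Subgroup.mul_mem _ (Subgroup.mul_mem _ hh (hYn hy)) hhinv
  · intro c hc
    have hc' : h⁻¹ * c * h⁻¹⁻¹ ∈ ⁅P, P⁆ := conj_comm_mem P h⁻¹ c hhinv hc
    have := hyc _ hc'
    calc h * y * h⁻¹ * c = h * (y * (h⁻¹ * c * h⁻¹⁻¹)) * h⁻¹ := by group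
      _ = h * ((h⁻¹ * c * h⁻¹⁻¹) * y) * h⁻¹ := by rw [this]
      _ = c * (h * y * h⁻¹) := by group
  · intro x hx
    have hx' : h⁻¹ * x * h⁻¹⁻¹ ∈ P := (Subgroup.mem_normalizer_iff.mp hhinv x).mp hx
    have h5 := hyp _ hx'
    have h6 := conj_comm_mem P h _ hh h5
    have e : h * y * h⁻¹ * x ^ p * (h * y * h⁻¹)⁻¹ * (x ^ p)⁻¹ =
        h * (y * (h⁻¹ * x * h⁻¹⁻¹) ^ p * y⁻¹ * ((h⁻¹ * x * h⁻¹⁻¹) ^ p)⁻¹) * h⁻¹ := by
      rw [conj_pow]; group
    rw [e]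
    exact h6

theorem eq_of_coprime_of_comm_mem {p : ℕ} [Fact p.Prime] (P : Subgroup G) (hP : IsPGroup p ↥P)
    (g u : G) (hco : (orderOf g).Coprime p) (hcm : g * u * g⁻¹ * u⁻¹ ∈ ⁅P, P⁆)
    (hgc : ∀ c ∈ ⁅P, P⁆, g * c = c * g) : u * g = g * u := by
  obtain ⟨c, hc⟩ : ∃ c : G, c = g * u * g⁻¹ * u⁻¹ := ⟨_, rfl⟩
  rw [← hc] at hcm
  have hcomm : Commute g c := hgc c hcm
  have hgu : g * u * g⁻¹ = c * u := by rw [hc]; group
  have hpow : ∀ k : ℕ, g ^ k * u * (g ^ k)⁻¹ = c ^ k * u := by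
    intro k
    induction k with
    | zero => simp
    | succ k ih =>
      have hck : g * c ^ k = c ^ k * g := (hcomm.pow_right k).eq
      calc g ^ (k + 1) * u * (g ^ (k + 1))⁻¹ = g * (g ^ k * u * (g ^ k)⁻¹) * g⁻¹ := by
            rw [pow_succ']; group
        _ = g * (c ^ k * u) * g⁻¹ := by rw [ih]
        _ = (g * c ^ k) * (g⁻¹ * (g * u * g⁻¹)) := by group
        _ = (c ^ k * g) * (g⁻¹ * (c * u)) := by rw [hck, hgu]
        _ = c ^ (k + 1) * u := by rw [pow_succ]; group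
  have h1 := hpow (orderOf g)
  rw [pow_orderOf_eq_one] at h1
  have h2 : c ^ orderOf g = 1 := by
    have : u = c ^ orderOf g * u := by simpa using h1
    have h3 : c ^ orderOf g * u = 1 * u := by rw [one_mul]; exact this.symm
    exact mul_right_cancel h3
  obtain ⟨j, hj⟩ := coe_pow_eq_one_of_isPGroup P hP c (comm_le_self P hcm)
  have h3 : orderOf c ∣ Nat.gcd (orderOf g) (p ^ j) :=
    Nat.dvd_gcd (orderOf_dvd_of_pow_eq_one h2) (orderOf_dvd_of_pow_eq_one hj)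
  have h4 : Nat.gcd (orderOf g) (p ^ j) = 1 := Nat.Coprime.pow_right j hco
  rw [h4, Nat.dvd_one, orderOf_eq_one_iff] at h3
  rw [h3] at hgu
  have : g * u * g⁻¹ = u := by rw [hgu, one_mul]
  calc u * g = (g * u * g⁻¹) * g := by rw [this]
    _ = g * u := by group

/-- Let P be a finite p-subgroup of a group G, H a subgroup of N_G(P), and Y a subgroup of H centralizing the derived subgroup P' such that [P, Y] is elementary abelian. Then O^p(⟨Y^H⟩), the subgroup of the normal closure of Y in H generated by its elements of order prime to p, centralizes the Frattini subgroup of P. -/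
theorem result {G : Type*} [Group G] [Finite G] {p : ℕ} [Fact p.Prime] (P : Subgroup G) (hP : IsPGroup p ↥P) (H : Subgroup G) (hH : H ≤ Subgroup.normalizer (P : Set G)) (Y : Subgroup G) (hYH : Y ≤ H) (hYc : Y ≤ Subgroup.centralizer ((⁅P, P⁆ : Subgroup G) : Set G)) (hel : Cfsg.IsElementaryAbelian p ⁅P, Y⁆) (NY : Subgroup G) (hNY : NY = (Subgroup.normalClosure ((Y.subgroupOf H : Subgroup ↥H) : Set ↥H)).map H.subtype) : (Cfsg.pResidual p ↥NY).map NY.subtype ≤ Subgroup.centralizer (((frattini ↥P).map P.subtype : Subgroup G) : Set G) := by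
  subst hNY
  have hHn : H ≤ Subgroup.normalizer (P : Set G) := hH
  have hYn : Y ≤ Subgroup.normalizer (P : Set G) := hYH.trans hH
  -- the normal closure lies in `tSub`
  have hle : (Subgroup.normalClosure ((Y.subgroupOf H : Subgroup ↥H) : Set ↥H)).map H.subtype ≤
      tSub p P := by
    rw [Subgroup.normalClosure, MonoidHom.map_closure, Subgroup.closure_le]
    rintro _ ⟨z, hz, rfl⟩
    rw [Group.mem_conjugatesOfSet_iff] at hz
    obtain ⟨y, hy, hconj⟩ := hz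
    rw [isConj_iff] at hconj
    obtain ⟨c, rfl⟩ := hconj
    have hy' : (y : G) ∈ Y := Subgroup.mem_subgroupOf.mp hy
    have := conj_mem_tSub P Y hYn hYc hel (c : G) (y : G) (hHn c.2) hy'
    simpa using this
  rw [Cfsg.Agent.helper14.map_pResidual_eq_opOf]
  unfold Cfsg.Agent.helper14.opOf
  rw [Subgroup.closure_le]
  rintro g ⟨hgN, hco⟩
  obtain ⟨-, hg2, hg3⟩ := hle hgN
  rw [SetLike.mem_coe, Subgroup.mem_centralizer_iff]
  intro u hu
  have huD : u ∈ dSub p P := frattini_map_le_dSub P hu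
  exact eq_of_coprime_of_comm_mem P hP g u hco (hg3 u huD) hg2

end Cfsg.Agent.S2819
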