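import Cfsg.Statements.S2820
import Mathlib
import Cfsg.Agent.Lib_helper14_OpSub
-- import your own Cfsg.Agent.* helpers here

set_option autoImplicit false
open Cfsg

namespace Cfsg.Agent.S2820

/-- Let A and B be subnormal subgroups of the finite group H with A a p-group and B = O^p(B) (B generated by its elements of order prime to p). Then A normalizes B and B = O^p(AB), the subgroup of ⟨A, B⟩ generated by its elements of order prime to p. -/
theorem result {H : Type*} [Group H] [Finite H] {p : ℕ} [Fact p.Prime] (A B : Subgroup H) (hA : A.IsSubnormal) (hB : B.IsSubnormal) (hAp : IsPGroup p ↥A) (hBres : (Cfsg.pResidual p ↥B).map B.subtype = B) : A ≤ Subgroup.normalizer (B : Set H) ∧ (Cfsg.pResidual p ↥(A ⊔ B)).map (A ⊔ B).subtype = B := by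
  have hA' : Cfsg.Agent.helper7.SN A ⊤ := Cfsg.Agent.helper7.sn_top_iff.2 hA
  have hB' : Cfsg.Agent.helper7.SN B ⊤ := Cfsg.Agent.helper7.sn_top_iff.2 hB
  have hB2 : Cfsg.Agent.helper14.opOf p B = B := by
    rw [← Cfsg.Agent.helper14.map_pResidual_eq_opOf]; exact hBres
  refine ⟨Cfsg.Agent.helper14.le_normalizer_of_sn_pgroup A B hA' hB' hAp hB2, ?_⟩
  rw [Cfsg.Agent.helper14.map_pResidual_eq_opOf]
  exact Cfsg.Agent.helper14.opOf_sup_of_sn A B hA' hB' hAp hB2

end Cfsg.Agent.S2820
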