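import Mathlib
import Cfsg.Statements.S2823
import Cfsg.Agent.Lib_helper14_Trace
import Cfsg.Agent.Lib_helper14_PReduced4

set_option autoImplicit false
open Cfsg

namespace Cfsg.Agent.S2823
open Cfsg.Agent.helper14
open scoped commutatorElement


/-- Let H be a finite group, p a prime, T a Sylow p-subgroup and L a subgroup of characteristic p containing T; let Z_L be the subgroup generated by the Ω₁(Z(S)) over the Sylow p-subgroups S of L and O^p(L) the subgroup generated by the elements of L of order prime to p. Then Z_L = Ω₁(Z(L))·[Z_L, O^p(L)] and [Z_L, L] = [Z_L, O^p(L)]. -/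
theorem result {H : Type*} [Group H] [Finite H] {p : ℕ} [Fact p.Prime] (T : Sylow p H) (L : Subgroup H) (hTL : (T : Subgroup H) ≤ L) (hL : Subgroup.centralizer (Cfsg.pCore p ↥L : Set ↥L) ≤ Cfsg.pCore p ↥L) : Cfsg.sylowCenterClosure p L = (Cfsg.omegaOne p (L ⊓ Subgroup.centralizer ((L : Subgroup H) : Set H))) ⊔ ⁅Cfsg.sylowCenterClosure p L, (Cfsg.pResidual p ↥L).map L.subtype⁆ ∧ ⁅Cfsg.sylowCenterClosure p L, L⁆ = ⁅Cfsg.sylowCenterClosure p L, (Cfsg.pResidual p ↥L).map L.subtype⁆ := by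
  have hZ := predIn_sylowCenterClosure L hL
  obtain ⟨hZL, hLZ, hZc, hZp, _⟩ := id hZ
  obtain ⟨Z, hZdef⟩ : ∃ Z, Z = Cfsg.sylowCenterClosure p L := ⟨_, rfl⟩
  rw [← hZdef] at hZL hLZ hZc hZp ⊢
  obtain ⟨Rr, hRr⟩ : ∃ Rr, Rr = (Cfsg.pResidual p ↥L).map L.subtype := ⟨_, rfl⟩
  rw [← hRr]
  have hRn0 : (Cfsg.pResidual p ↥L).Normal := Cfsg.Agent.helper10.pResidual_normal p ↥L
  have hRL : Rr ≤ L := by rw [hRr]; exact Subgroup.map_subtype_le _
  have hLR : L ≤ Subgroup.normalizer (Rr : Set H) := by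
    rw [hRr]; exact le_normalizer_map_subtype_of_normal L _ hRn0
  have hKZ : ⁅Z, Rr⁆ ≤ Z := commutator_le_left_of_le_normalizer Z Rr (hRL.trans hLZ)
  have hLK : L ≤ Subgroup.normalizer ((⁅Z, Rr⁆ : Subgroup H) : Set H) :=
    le_normalizer_commutator Z Rr L hLZ hLR
  have hkey : Cfsg.sylowCenterClosure p L ≤
      ⁅Z, Rr⁆ ⊔ (Z ⊓ Subgroup.centralizer (L : Set H)) := by
    unfold Cfsg.sylowCenterClosure
    apply iSup_le
    intro S
    unfold Cfsg.omegaOne
    rw [Subgroup.closure_le]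
    rintro z ⟨⟨hzS, hzC⟩, hzp⟩
    have hzZ : z ∈ Z := by
      rw [hZdef]
      have h1 : Cfsg.omegaOne p (((S : Subgroup L).map L.subtype) ⊓
          Subgroup.centralizer (((S : Subgroup L).map L.subtype : Subgroup H) : Set H)) ≤
          Cfsg.sylowCenterClosure p L := by
        unfold Cfsg.sylowCenterClosure
        exact le_iSup (fun S : Sylow p L => Cfsg.omegaOne p (((S : Subgroup L).map L.subtype) ⊓
          Subgroup.centralizer (((S : Subgroup L).map L.subtype : Subgroup H) : Set H))) S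
      apply h1
      unfold Cfsg.omegaOne
      exact Subgroup.subset_closure ⟨⟨hzS, hzC⟩, hzp⟩
    have hidx : ((((S : Subgroup L).map L.subtype).subgroupOf L).index).Coprime p := by
      have e : ((S : Subgroup L).map L.subtype).subgroupOf L = (S : Subgroup ↥L) :=
        Subgroup.comap_map_eq_self_of_injective (Subgroup.subtype_injective L) _
      rw [e]
      exact (Nat.Coprime.symm ((Nat.Prime.coprime_iff_not_dvd Fact.out).mpr S.not_dvd_index))
    have hfac : ∀ l ∈ L, ∃ r ∈ Rr, ∃ t ∈ (S : Subgroup L).map L.subtype, l = r * t := by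
      intro l hl
      obtain ⟨s, hs, k, hk, h⟩ :=
        Cfsg.Agent.helper10.exists_mul_of_pResidual_sylow p S (⟨l, hl⟩ : ↥L)
      refine ⟨((s * k * s⁻¹ : ↥L) : H), ?_, (s : H), ⟨s, hs, rfl⟩, ?_⟩
      · rw [hRr]; exact ⟨s * k * s⁻¹, hRn0.conj_mem k hk s, rfl⟩
      · have h2 : l = (s : H) * (k : H) := congrArg Subtype.val h
        simp only [Subgroup.coe_mul, Subgroup.coe_inv]
        rw [h2]; group
    exact trace_lemma Z L _ Rr hZc hZp hLZ (Subgroup.map_subtype_le _) hidx hfac z hzZ hzC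
  have hcent : Z ⊓ Subgroup.centralizer (L : Set H) ≤
      Cfsg.omegaOne p (L ⊓ Subgroup.centralizer ((L : Subgroup H) : Set H)) := by
    rintro x ⟨hxZ, hxC⟩
    unfold Cfsg.omegaOne
    exact Subgroup.subset_closure ⟨⟨hZL hxZ, hxC⟩, hZp x hxZ⟩
  have hom_le : Cfsg.omegaOne p (L ⊓ Subgroup.centralizer ((L : Subgroup H) : Set H)) ≤ Z := by
    unfold Cfsg.omegaOne
    rw [Subgroup.closure_le]
    rintro x ⟨⟨hxL, hxC⟩, hxp⟩
    have hxO : x ∈ Cfsg.pCoreOf p L := by
      have hzp : IsPGroup p (Subgroup.zpowers x) := by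
        rintro ⟨y, hy⟩
        obtain ⟨k, rfl⟩ := Subgroup.mem_zpowers_iff.mp hy
        refine ⟨1, ?_⟩
        apply Subtype.ext
        simp only [pow_one, Subgroup.coe_pow, Subgroup.coe_one]
        rw [← zpow_natCast, ← zpow_mul, mul_comm, zpow_mul, zpow_natCast, hxp, one_zpow]
      have hzL : Subgroup.zpowers x ≤ L := by rw [Subgroup.zpowers_le]; exact hxL
      have hzn : L ≤ Subgroup.normalizer ((Subgroup.zpowers x : Subgroup H) : Set H) := by
        have h1 : Subgroup.zpowers x ≤ Subgroup.centralizer (L : Set H) := by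
          rw [Subgroup.zpowers_le]; exact hxC
        exact (Subgroup.le_centralizer_iff.mp h1).trans (Subgroup.centralizer_le_normalizer _)
      exact le_pCoreOf_of_normal L _ hzL hzn hzp (Subgroup.mem_zpowers x)
    have hxT : x ∈ (T : Subgroup H) := by
      have h2 := pCoreOf_le_sylow L (T.subtype hTL)
      rw [Sylow.coe_subtype, Subgroup.map_subgroupOf_eq_of_le hTL] at h2
      exact h2 hxO
    have hxCT : x ∈ Subgroup.centralizer ((T : Subgroup H) : Set H) :=
      Subgroup.centralizer_le (SetLike.coe_subset_coe.mpr hTL) hxC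
    have h := le_iSup (fun S : Sylow p L => Cfsg.omegaOne p (((S : Subgroup L).map L.subtype) ⊓
      Subgroup.centralizer (((S : Subgroup L).map L.subtype : Subgroup H) : Set H)))
      (T.subtype hTL)
    simp only [Sylow.coe_subtype, Subgroup.map_subgroupOf_eq_of_le hTL] at h
    have h' : Cfsg.omegaOne p ((T : Subgroup H) ⊓
        Subgroup.centralizer ((T : Subgroup H) : Set H)) ≤ Cfsg.sylowCenterClosure p L := h
    rw [hZdef]
    apply h'
    unfold Cfsg.omegaOne
    exact Subgroup.subset_closure ⟨⟨hxT, hxCT⟩, hxp⟩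
  have hZeq : Z = Cfsg.omegaOne p (L ⊓ Subgroup.centralizer ((L : Subgroup H) : Set H)) ⊔
      ⁅Z, Rr⁆ := by
    apply le_antisymm
    · exact ((le_of_eq hZdef).trans hkey).trans (sup_le le_sup_right (hcent.trans le_sup_left))
    · exact sup_le hom_le hKZ
  have hcomm_eq : ⁅Z, L⁆ = ⁅Z, Rr⁆ := by
    apply le_antisymm
    · rw [Subgroup.commutator_le]
      intro a ha l hl
      have ha' : a ∈ ((⁅Z, Rr⁆ ⊔ (Z ⊓ Subgroup.centralizer (L : Set H)) : Subgroup H) : Set H) :=
        ((le_of_eq hZdef).trans hkey) ha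
      rw [Subgroup.coe_mul_of_right_le_normalizer_left ⁅Z, Rr⁆
        (Z ⊓ Subgroup.centralizer (L : Set H)) ((inf_le_left.trans hZL).trans hLK)] at ha'
      obtain ⟨k, hk, c, hc, rfl⟩ := ha'
      have hcl : c * l = l * c := (Subgroup.mem_centralizer_iff.mp hc.2 l hl).symm
      have e : ⁅k * c, l⁆ = k * (l * k⁻¹ * l⁻¹) := by
        rw [commutatorElement_def]
        calc k * c * l * (k * c)⁻¹ * l⁻¹ = k * (c * l) * c⁻¹ * k⁻¹ * l⁻¹ := by group
          _ = k * (l * c) * c⁻¹ * k⁻¹ * l⁻¹ := by rw [hcl]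
          _ = k * (l * k⁻¹ * l⁻¹) := by group
      rw [e]
      exact Subgroup.mul_mem _ hk
        ((Subgroup.mem_normalizer_iff.mp (hLK hl) k⁻¹).mp (Subgroup.inv_mem _ hk))
    · exact Subgroup.commutator_mono le_rfl hRL
  exact ⟨hZeq, hcomm_eq⟩

end Cfsg.Agent.S2823
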