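import Mathlib
import Cfsg.Statements.S2824
import Cfsg.Agent.Lib_helper14_PReduced4
import Cfsg.Agent.S2803

set_option autoImplicit false
open Cfsg

namespace Cfsg.Agent.S2824
open Cfsg.Agent.helper14

theorem core {H : Type*} [Group H] [Finite H] {p : ℕ} [Fact p.Prime] (T : Sylow p H)
    (L M : Subgroup H) (hTL : (T : Subgroup H) ≤ L) (hTM : (T : Subgroup H) ≤ M)
    (hL : Subgroup.centralizer (Cfsg.pCore p ↥L : Set ↥L) ≤ Cfsg.pCore p ↥L)
    (Y C T₀ Ls : Subgroup H) (hYdef : Y = Cfsg.largestPReducedOf p L)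
    (hC : C = Subgroup.centralizer (Y : Set H)) (hT₀ : T₀ = (T : Subgroup H) ⊓ C)
    (hLs : Ls = M ⊓ Subgroup.normalizer (T₀ : Set H)) (hfac : M ⊔ C = L ⊔ C) :
    Cfsg.largestPReducedOf p Ls = Y ∧ L ⊔ C = Ls ⊔ C := by
  have hYL : PRedIn p L Y := by rw [hYdef]; exact predIn_largestPReducedOf L
  have hCN : C ≤ Subgroup.normalizer (Y : Set H) := by
    rw [hC]; exact Subgroup.centralizer_le_normalizer _
  have hLY : L ≤ Subgroup.normalizer (Y : Set H) := hYL.2.1
  have hMY : M ≤ Subgroup.normalizer (Y : Set H) := by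
    calc M ≤ M ⊔ C := le_sup_left
      _ = L ⊔ C := hfac
      _ ≤ _ := sup_le hLY hCN
  have hNC : Subgroup.normalizer (Y : Set H) ≤ Subgroup.normalizer (C : Set H) := by
    rw [hC]; exact normalizer_le_normalizer_centralizer Y
  have hMC : M ≤ Subgroup.normalizer (C : Set H) := hMY.trans hNC
  have hTT₀ : (T : Subgroup H) ≤ Subgroup.normalizer (T₀ : Set H) := by
    rw [hT₀]
    exact (le_inf Subgroup.le_normalizer ((hTL.trans hLY).trans hNC)).trans
      Subgroup.inf_normalizer_le_normalizer_inf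
  have hTLs : (T : Subgroup H) ≤ Ls := by rw [hLs]; exact le_inf hTM hTT₀
  have hMle : M ≤ Ls ⊔ C := by
    intro m hm
    obtain ⟨a, ha, d, hd, rfl⟩ := frattini_ambient M (T.subtype hTM) C hMC m hm
    rw [Sylow.coe_subtype, Subgroup.map_subgroupOf_eq_of_le hTM, ← hT₀, ← hLs] at ha
    exact Subgroup.mul_mem _ ((le_sup_left : Ls ≤ Ls ⊔ C) ha) ((le_sup_right : C ≤ Ls ⊔ C) hd.2)
  have hLsM : Ls ≤ M := by rw [hLs]; exact inf_le_left
  have hfac2 : Ls ⊔ C = L ⊔ C := by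
    rw [← hfac]
    apply le_antisymm
    · exact sup_le (hLsM.trans le_sup_left) le_sup_right
    · exact sup_le hMle le_sup_right
  have hfac2' : Ls ⊔ Subgroup.centralizer (Y : Set H) = L ⊔ Subgroup.centralizer (Y : Set H) := by
    rw [← hC]; exact hfac2
  have hYLs : PRedIn p Ls Y := predIn_of_factor T Ls L Y hTLs hTL hYL hfac2'
  have h5 : Y ≤ Cfsg.largestPReducedOf p Ls := le_largestPReducedOf Ls Y hYLs
  have hY' : PRedIn p Ls (Cfsg.largestPReducedOf p Ls) := predIn_largestPReducedOf Ls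
  have hT₀p : IsPGroup p T₀ := by rw [hT₀]; exact T.isPGroup'.to_le inf_le_left
  have hT₀T : T₀ ≤ (T : Subgroup H) := by rw [hT₀]; exact inf_le_left
  have hT₀Ls : T₀ ≤ Ls := hT₀T.trans hTLs
  have hLsT₀ : Ls ≤ Subgroup.normalizer (T₀ : Set H) := by rw [hLs]; exact inf_le_right
  have hO1 : T₀ ≤ Cfsg.pCoreOf p Ls := le_pCoreOf_of_normal Ls T₀ hT₀Ls hLsT₀ hT₀p
  have hO2 : Cfsg.pCoreOf p Ls ≤ T₀ := by
    have h1 : Cfsg.pCoreOf p Ls ≤ (T : Subgroup H) := by
      have h2 := pCoreOf_le_sylow Ls (T.subtype hTLs)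
      rwa [Sylow.coe_subtype, Subgroup.map_subgroupOf_eq_of_le hTLs] at h2
    have h3 : Cfsg.pCoreOf p Ls ≤ C := by
      rw [hC]
      exact hY'.pCoreOf_le_centralizer.trans
        (Subgroup.centralizer_le (SetLike.coe_subset_coe.mpr h5))
    rw [hT₀]; exact le_inf h1 h3
  have hO : Cfsg.pCoreOf p Ls = T₀ := le_antisymm hO2 hO1
  have h6 := hY'.le_omegaOne
  rw [hO] at h6
  have hYom : Y = Cfsg.omegaOne p (T₀ ⊓ Subgroup.centralizer (T₀ : Set H)) := by
    obtain ⟨_, _, h3⟩ := Cfsg.Agent.S2803.core hL (T.subtype hTL) (Cfsg.largestPReduced p ↥L)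
      isPReducedNormal_largestPReduced (fun V hV => le_sSup hV) _ _ _ rfl rfl rfl
    have h4 := congrArg (Subgroup.map L.subtype) h3
    rw [omegaOne_center_map_subtype] at h4
    have hmap : (((T.subtype hTL : Sylow p ↥L) : Subgroup ↥L) ⊓
        Subgroup.centralizer ((Cfsg.largestPReduced p ↥L : Subgroup ↥L) : Set ↥L)).map
          L.subtype = T₀ := by
      rw [hT₀, hC, hYdef]
      ext y
      constructor
      · rintro ⟨x, ⟨hxT, hxC⟩, rfl⟩
        refine ⟨?_, ?_⟩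
        · exact Subgroup.mem_subgroupOf.mp hxT
        · exact (mem_centralizer_map_subtype_iff L _ x).mp hxC
      · rintro ⟨hyT, hyC⟩
        exact ⟨⟨y, hTL hyT⟩, ⟨Subgroup.mem_subgroupOf.mpr hyT,
          (mem_centralizer_map_subtype_iff L _ ⟨y, hTL hyT⟩).mpr hyC⟩, rfl⟩
    rw [hmap] at h4
    rw [hYdef]
    exact h4
  have h8 : Cfsg.largestPReducedOf p Ls ≤ Y := by rw [hYom]; exact h6
  exact ⟨le_antisymm h8 h5, hfac2.symm⟩


/-- Let H be a finite group, p a prime, T a Sylow p-subgroup, L and M subgroups of characteristic p containing T, Y_L the largest p-reduced normal subgroup of L and T₀ = C_T(Y_L). If M·C_H(Y_L) = L·C_H(Y_L), then L* := N_M(T₀) has Y_{L*} = Y_L and L·C_H(Y_L) = L*·C_H(Y_L). -/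
theorem result {H : Type*} [Group H] [Finite H] {p : ℕ} [Fact p.Prime] (T : Sylow p H) (L M : Subgroup H) (hTL : (T : Subgroup H) ≤ L) (hTM : (T : Subgroup H) ≤ M) (hL : Subgroup.centralizer (Cfsg.pCore p ↥L : Set ↥L) ≤ Cfsg.pCore p ↥L) (hM : Subgroup.centralizer (Cfsg.pCore p ↥M : Set ↥M) ≤ Cfsg.pCore p ↥M) (T₀ : Subgroup H) (hT₀ : T₀ = (T : Subgroup H) ⊓ Subgroup.centralizer (((Cfsg.largestPReducedOf p L) : Subgroup H) : Set H)) (hfac : M ⊔ Subgroup.centralizer (((Cfsg.largestPReducedOf p L) : Subgroup H) : Set H) = L ⊔ Subgroup.centralizer (((Cfsg.largestPReducedOf p L) : Subgroup H) : Set H)) (Ls : Subgroup H) (hLs : Ls = M ⊓ Subgroup.normalizer ((T₀ : Subgroup H) : Set H)) : (Cfsg.largestPReducedOf p Ls) = (Cfsg.largestPReducedOf p L) ∧ L ⊔ Subgroup.centralizer (((Cfsg.largestPReducedOf p L) : Subgroup H) : Set H) = Ls ⊔ Subgroup.centralizer (((Cfsg.largestPReducedOf p L) : Subgroup H) : Set H) := by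
  exact core T L M hTL hTM hL _ _ T₀ Ls rfl rfl hT₀ hLs hfac

end Cfsg.Agent.S2824
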