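import Cfsg.Statements.S2825
import Mathlib
import Cfsg.Agent.Lib_helper14_PReduced6
-- import your own Cfsg.Agent.* helpers here

set_option autoImplicit false
open Cfsg

namespace Cfsg.Agent.S2825


open scoped commutatorElement
open Cfsg.Agent.helper14 Cfsg.Agent.helper7

/-- Let L be a subnormal subgroup of the finite group H, p a prime, Y_H and Y_L the largest p-reduced normal subgroups. Then Y_H ∩ L = Y_H ∩ Y_L and this subgroup is a p-reduced normal subgroup of L; C_L(Y_L) = C_L(Y_H) = C_L(Y_H ∩ L); and if O^p(H) ≤ L, then [Y_L, L] = 1 if and only if [Y_H, H] = 1. -/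
theorem result {H : Type*} [Group H] [Finite H] {p : ℕ} [Fact p.Prime] (L : Subgroup H) (hL : L.IsSubnormal) : Cfsg.largestPReduced p H ⊓ L = Cfsg.largestPReduced p H ⊓ (Cfsg.largestPReducedOf p L) ∧ Cfsg.IsPReducedNormal p ((Cfsg.largestPReduced p H ⊓ L).subgroupOf L) ∧ L ⊓ Subgroup.centralizer ((Cfsg.largestPReducedOf p L : Subgroup H) : Set H) = L ⊓ Subgroup.centralizer (Cfsg.largestPReduced p H : Set H) ∧ L ⊓ Subgroup.centralizer (Cfsg.largestPReduced p H : Set H) = L ⊓ Subgroup.centralizer ((Cfsg.largestPReduced p H ⊓ L : Subgroup H) : Set H) ∧ (Cfsg.pResidual p H ≤ L → (⁅(Cfsg.largestPReducedOf p L), L⁆ = ⊥ ↔ ⁅Cfsg.largestPReduced p H, (⊤ : Subgroup H)⁆ = ⊥)) := by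
  have hLsn : SN L ⊤ := sn_top_iff.mpr hL
  have hYh : PRedIn p ⊤ (Cfsg.largestPReduced p H) := predIn_top_largestPReduced
  have hYhL : PRedIn p L (Cfsg.largestPReduced p H ⊓ L) := predIn_inf_of_subnormal L hLsn
  have hYL : PRedIn p L (Cfsg.largestPReducedOf p L) := predIn_largestPReducedOf L
  have hle : Cfsg.largestPReduced p H ⊓ L ≤ Cfsg.largestPReducedOf p L :=
    le_largestPReducedOf L _ hYhL
  have h4a := inf_centralizer_le_largestPReduced (p := p) L hLsn
  have h3c := inf_centralizer_le_of_subnormal (p := p) L hL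
  have h4 : L ⊓ Subgroup.centralizer (Cfsg.largestPReduced p H : Set H) =
      L ⊓ Subgroup.centralizer ((Cfsg.largestPReduced p H ⊓ L : Subgroup H) : Set H) := by
    apply le_antisymm
    · exact inf_le_inf_left L
        (Subgroup.centralizer_le (SetLike.coe_subset_coe.mpr inf_le_left))
    · exact le_inf inf_le_left h4a
  have h3 : L ⊓ Subgroup.centralizer ((Cfsg.largestPReducedOf p L : Subgroup H) : Set H) =
      L ⊓ Subgroup.centralizer (Cfsg.largestPReduced p H : Set H) := by
    apply le_antisymm
    · rw [h4]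
      exact inf_le_inf_left L (Subgroup.centralizer_le (SetLike.coe_subset_coe.mpr hle))
    · rw [h4]
      exact le_inf inf_le_left h3c
  refine ⟨?_, ?_, h3, h4, ?_⟩
  · apply le_antisymm
    · exact le_inf inf_le_left hle
    · exact inf_le_inf_left _ hYL.1
  · apply isPReducedNormal_of_predIn L
    rw [Subgroup.map_subgroupOf_eq_of_le inf_le_right]
    exact hYhL
  · intro hres
    constructor
    · intro hcomm
      have h1 : L ≤ Subgroup.centralizer ((Cfsg.largestPReducedOf p L : Subgroup H) : Set H) :=
        Subgroup.le_centralizer_iff.mp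
          (Subgroup.commutator_eq_bot_iff_le_centralizer.mp hcomm)
      have h2 : L ≤ Subgroup.centralizer (Cfsg.largestPReduced p H : Set H) := by
        have h5 : L ≤ L ⊓ Subgroup.centralizer
            ((Cfsg.largestPReducedOf p L : Subgroup H) : Set H) := le_inf le_rfl h1
        rw [h3] at h5
        exact h5.trans inf_le_right
      have h5 : (⊤ : Subgroup H) ≤ Subgroup.centralizer (Cfsg.largestPReduced p H : Set H) := by
        apply hYh.2.2.2.2 ⊤ le_top Subgroup.le_normalizer
        intro n _
        refine ⟨(orderOf n).factorization p, ?_⟩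
        apply h2
        apply hres
        unfold Cfsg.pResidual
        apply Subgroup.subset_closure
        show (orderOf (n ^ p ^ (orderOf n).factorization p)).Coprime p
        have hpos : 0 < orderOf n := orderOf_pos n
        have hp : p.Prime := Fact.out
        rw [orderOf_pow' n (pow_ne_zero _ hp.ne_zero),
          Nat.gcd_eq_right (Nat.ordProj_dvd (orderOf n) p)]
        exact (Nat.coprime_ordCompl hp hpos.ne').symm
      rw [Subgroup.commutator_eq_bot_iff_le_centralizer, Subgroup.le_centralizer_iff]
      exact h5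
    · intro hcomm
      have h5 : (⊤ : Subgroup H) ≤ Subgroup.centralizer (Cfsg.largestPReduced p H : Set H) :=
        Subgroup.le_centralizer_iff.mp
          (Subgroup.commutator_eq_bot_iff_le_centralizer.mp hcomm)
      have h2 : L ≤ L ⊓ Subgroup.centralizer (Cfsg.largestPReduced p H : Set H) :=
        le_inf le_rfl (le_top.trans h5)
      rw [← h3] at h2
      rw [Subgroup.commutator_eq_bot_iff_le_centralizer, Subgroup.le_centralizer_iff]
      exact h2.trans inf_le_right

end Cfsg.Agent.S2825
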