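import Cfsg.Statements.S2826
import Mathlib
import Cfsg.Agent.Lib_helper14_Vanish
import Cfsg.Agent.Lib_helper10_PResidual
-- import your own Cfsg.Agent.* helpers here

set_option autoImplicit false
open Cfsg

namespace Cfsg.Agent.S2826


open scoped commutatorElement
open Cfsg.Agent.helper14

/-- The elements `d` with `[x, d] ∈ W`, for a normal subgroup `W`. -/
def commSub {H : Type*} [Group H] (W : Subgroup H) [hW : W.Normal] (x : H) : Subgroup H where
  carrier := {d | x * d * x⁻¹ * d⁻¹ ∈ W}
  one_mem' := by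
    show x * 1 * x⁻¹ * 1⁻¹ ∈ W
    have : x * 1 * x⁻¹ * 1⁻¹ = 1 := by group
    rw [this]; exact W.one_mem
  mul_mem' := by
    intro a b ha hb
    show x * (a * b) * x⁻¹ * (a * b)⁻¹ ∈ W
    have e : x * (a * b) * x⁻¹ * (a * b)⁻¹ =
        (x * a * x⁻¹ * a⁻¹) * (a * (x * b * x⁻¹ * b⁻¹) * a⁻¹) := by group
    rw [e]
    exact W.mul_mem ha (hW.conj_mem _ hb a)
  inv_mem' := by
    intro a ha
    show x * a⁻¹ * x⁻¹ * a⁻¹⁻¹ ∈ W
    have e : x * a⁻¹ * x⁻¹ * a⁻¹⁻¹ = a⁻¹ * (x * a * x⁻¹ * a⁻¹)⁻¹ * a⁻¹⁻¹ := by group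
    rw [e]
    exact hW.conj_mem _ (W.inv_mem ha) a⁻¹

/-- Let H be a finite group of characteristic p, T a Sylow p-subgroup, and V a normal elementary abelian p-subgroup of H containing Ω₁(Z(T)). Then C_H(Ω₁(Z(T))) = C_H([V, O^p(H)] ∩ Ω₁(Z(T))), O^p(H) being generated by the elements of order prime to p. -/
theorem result {H : Type*} [Group H] [Finite H] {p : ℕ} [Fact p.Prime] (hH : Subgroup.centralizer (Cfsg.pCore p H : Set H) ≤ Cfsg.pCore p H) (T : Sylow p H) (V : Subgroup H) [V.Normal] (hV : Cfsg.IsElementaryAbelian p V) (hZV : (Cfsg.omegaOne p ((T : Subgroup H) ⊓ Subgroup.centralizer (((T : Subgroup H) : Subgroup H) : Set H))) ≤ V) : Subgroup.centralizer ((Cfsg.omegaOne p ((T : Subgroup H) ⊓ Subgroup.centralizer (((T : Subgroup H) : Subgroup H) : Set H))) : Set H) = Subgroup.centralizer (((⁅V, Cfsg.pResidual p H⁆ ⊓ (Cfsg.omegaOne p ((T : Subgroup H) ⊓ Subgroup.centralizer (((T : Subgroup H) : Subgroup H) : Set H)))) : Subgroup H) : Set H) := by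
  have hp := (inferInstance : Fact p.Prime)
  obtain ⟨hVcomm, hVexp⟩ := hV
  have hVc : ∀ a ∈ V, ∀ b ∈ V, a * b = b * a := by
    intro a ha b hb
    exact congrArg Subtype.val (hVcomm.is_comm.comm (⟨a, ha⟩ : ↥V) ⟨b, hb⟩)
  have hRn : (Cfsg.pResidual p H).Normal := Cfsg.Agent.helper10.pResidual_normal p H
  have hWn : (⁅V, Cfsg.pResidual p H⁆).Normal := inferInstance
  have hWV : ⁅V, Cfsg.pResidual p H⁆ ≤ V := Subgroup.commutator_le_left V _
  have hVp : IsPGroup p V := by
    intro v
    refine ⟨1, ?_⟩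
    apply Subtype.ext
    rw [pow_one, Subgroup.coe_pow, Subgroup.coe_one]
    exact hVexp v v.2
  have hVT : V ≤ (T : Subgroup H) := hVp.le_sylow_of_normal T
  have hZle : Cfsg.omegaOne p ((T : Subgroup H) ⊓ Subgroup.centralizer ((T : Subgroup H) : Set H)) ≤
      (T : Subgroup H) ⊓ Subgroup.centralizer ((T : Subgroup H) : Set H) := by
    unfold Cfsg.omegaOne
    rw [Subgroup.closure_le]
    intro x hx
    exact hx.1
  apply le_antisymm
  · exact Subgroup.centralizer_le (SetLike.coe_subset_coe.mpr inf_le_right)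
  · -- the main inclusion
    have hTD : (T : Subgroup H) ≤ Subgroup.centralizer
        (((⁅V, Cfsg.pResidual p H⁆ ⊓ (Cfsg.omegaOne p ((T : Subgroup H) ⊓
          Subgroup.centralizer ((T : Subgroup H) : Set H)))) : Subgroup H) : Set H) := by
      intro t ht
      rw [Subgroup.mem_centralizer_iff]
      intro y hy
      have hy' := hZle (Subgroup.mem_inf.mp hy).2
      exact (Subgroup.mem_centralizer_iff.mp (Subgroup.mem_inf.mp hy').2) t ht |>.symm
    have hidx : ¬ p ∣ (T : Subgroup H).relIndex (Subgroup.centralizer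
        (((⁅V, Cfsg.pResidual p H⁆ ⊓ (Cfsg.omegaOne p ((T : Subgroup H) ⊓
          Subgroup.centralizer ((T : Subgroup H) : Set H)))) : Subgroup H) : Set H)) := by
      intro hd
      exact T.not_dvd_index (hd.trans (Subgroup.relIndex_dvd_index_of_le hTD))
    -- Z centralizes D
    have hZD : Cfsg.omegaOne p ((T : Subgroup H) ⊓ Subgroup.centralizer ((T : Subgroup H) : Set H)) ≤
        Subgroup.centralizer ((Subgroup.centralizer
        (((⁅V, Cfsg.pResidual p H⁆ ⊓ (Cfsg.omegaOne p ((T : Subgroup H) ⊓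
          Subgroup.centralizer ((T : Subgroup H) : Set H)))) : Subgroup H) : Set H) : Subgroup H) :
          Set H) := by
      show Subgroup.closure _ ≤ _
      rw [Subgroup.closure_le]
      rintro x ⟨hxTC, hxp⟩
      have hxT : x ∈ (T : Subgroup H) := (Subgroup.mem_inf.mp hxTC).1
      have hxC : x ∈ Subgroup.centralizer ((T : Subgroup H) : Set H) := (Subgroup.mem_inf.mp hxTC).2
      have hxZ : x ∈ Cfsg.omegaOne p ((T : Subgroup H) ⊓
          Subgroup.centralizer ((T : Subgroup H) : Set H)) :=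
        Subgroup.subset_closure ⟨hxTC, hxp⟩
      have hxV : x ∈ V := hZV hxZ
      have hKtop : commSub (⁅V, Cfsg.pResidual p H⁆) x = ⊤ := by
        apply top_le_iff.mp
        rw [← Cfsg.Agent.helper10.pResidual_sup_sylow_eq_top p T]
        apply sup_le
        · intro r hr
          show x * r * x⁻¹ * r⁻¹ ∈ ⁅V, Cfsg.pResidual p H⁆
          have := Subgroup.commutator_mem_commutator hxV hr
          rwa [commutatorElement_def] at this
        · intro t ht
          show x * t * x⁻¹ * t⁻¹ ∈ ⁅V, Cfsg.pResidual p H⁆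
          have e : x * t * x⁻¹ * t⁻¹ = 1 := by
            have := (Subgroup.mem_centralizer_iff.mp hxC) t ht
            rw [← this]; group
          rw [e]; exact Subgroup.one_mem _
      have key := commute_of_cocycle_vanish (p := p) (Subgroup.centralizer
        (((⁅V, Cfsg.pResidual p H⁆ ⊓ (Cfsg.omegaOne p ((T : Subgroup H) ⊓
          Subgroup.centralizer ((T : Subgroup H) : Set H)))) : Subgroup H) : Set H))
        (T : Subgroup H) (⁅V, Cfsg.pResidual p H⁆) hTD hidx
        (fun a ha b hb => hVc a (hWV ha) b (hWV hb)) (fun a ha => hVexp a (hWV ha))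
        (by rw [Subgroup.normalizer_eq_top_iff.mpr hWn]; exact le_top) x
        (by
          intro d _
          have : d ∈ commSub (⁅V, Cfsg.pResidual p H⁆) x := by rw [hKtop]; exact Subgroup.mem_top d
          exact this)
        (by
          intro s hs
          exact ((Subgroup.mem_centralizer_iff.mp hxC) s hs).symm)
        (by
          intro w hw hwS d hd
          have hwT : w ∈ (T : Subgroup H) := hVT (hWV hw)
          have hwC : w ∈ Subgroup.centralizer ((T : Subgroup H) : Set H) := by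
            rw [Subgroup.mem_centralizer_iff]
            intro s hs
            exact (hwS s hs).symm
          have hwZ : w ∈ Cfsg.omegaOne p ((T : Subgroup H) ⊓
              Subgroup.centralizer ((T : Subgroup H) : Set H)) :=
            Subgroup.subset_closure ⟨Subgroup.mem_inf.mpr ⟨hwT, hwC⟩, hVexp w (hWV hw)⟩
          exact (Subgroup.mem_centralizer_iff.mp hd) w (Subgroup.mem_inf.mpr ⟨hw, hwZ⟩))
      rw [SetLike.mem_coe, Subgroup.mem_centralizer_iff]
      intro d hd
      exact (key d hd).symm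
    intro d hd
    rw [Subgroup.mem_centralizer_iff]
    intro y hy
    exact ((Subgroup.mem_centralizer_iff.mp (hZD hy)) d hd).symm

end Cfsg.Agent.S2826
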