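import Mathlib
import Cfsg.Statements.S2827
import Cfsg.Agent.Lib_helper14_PIrr

set_option autoImplicit false
open Cfsg

namespace Cfsg.Agent.S2827
open Cfsg.Agent.helper14
open scoped commutatorElement


/-- Let H be a finite p-irreducible group (not p-closed, and O^p(H) lies in every normal subgroup that is not p-closed) and T a Sylow p-subgroup. Then H is generated by the conjugates of T and H = H'·T; O^p(H) ≤ H'; and for every normal subgroup Y of T not contained in O_p(H), O^p(H) = [O^p(H), Y] and O^p(H) is contained in the normal closure of Y in H. -/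
theorem result {H : Type*} [Group H] [Finite H] {p : ℕ} [Fact p.Prime] (hH : Cfsg.IsPIrreducible p H) (T : Sylow p H) : Subgroup.normalClosure ((T : Subgroup H) : Set H) = ⊤ ∧ commutator H ⊔ (T : Subgroup H) = ⊤ ∧ Cfsg.pResidual p H ≤ commutator H ∧ ∀ Y : Subgroup H, Y ≤ (T : Subgroup H) → (T : Subgroup H) ≤ Subgroup.normalizer (Y : Set H) → ¬ Y ≤ Cfsg.pCore p H → ⁅Cfsg.pResidual p H, Y⁆ = Cfsg.pResidual p H ∧ Cfsg.pResidual p H ≤ Subgroup.normalClosure (Y : Set H) := by
  obtain ⟨hnc, hirr⟩ := hH
  have hRn : (Cfsg.pResidual p H).Normal := Cfsg.Agent.helper10.pResidual_normal p H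
  have hRT : Cfsg.pResidual p H ⊔ (T : Subgroup H) = ⊤ :=
    Cfsg.Agent.helper10.pResidual_sup_sylow_eq_top p T
  have hTnn : ¬ (T : Subgroup H).Normal := not_normal_of_not_isPClosed hnc T
  have h1 : Subgroup.normalClosure ((T : Subgroup H) : Set H) = ⊤ := by
    have hTN : (T : Subgroup H) ≤ Subgroup.normalClosure ((T : Subgroup H) : Set H) :=
      Subgroup.le_normalClosure
    have hnpc : ¬ Cfsg.IsPClosed p ↥(Subgroup.normalClosure ((T : Subgroup H) : Set H)) := by
      intro hc
      apply hTnn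
      have := sylow_map_normal_of_isPClosed _ hc (T.subtype hTN)
      rwa [Sylow.coe_subtype, Subgroup.map_subgroupOf_eq_of_le hTN] at this
    have hR := hirr _ Subgroup.normalClosure_normal hnpc
    rw [eq_top_iff, ← hRT]
    exact sup_le hR hTN
  have h2 : commutator H ⊔ (T : Subgroup H) = ⊤ := by
    have hn := normal_of_commutator_le (commutator H ⊔ (T : Subgroup H)) le_sup_left
    rw [eq_top_iff, ← h1]
    exact Subgroup.normalClosure_le_normal (SetLike.coe_subset_coe.mpr le_sup_right)
  have h3 : Cfsg.pResidual p H ≤ commutator H := by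
    have hcn : (commutator H).Normal := inferInstance
    apply pResidual_le_of_le_sup (commutator H) (T : Subgroup H) T.isPGroup'
    rw [h2]
    exact le_top
  refine ⟨h1, h2, h3, ?_⟩
  intro Y hYT hTY hYO
  have hYp : IsPGroup p Y := T.isPGroup'.to_le hYT
  have hYM : Y ≤ Subgroup.normalClosure (Y : Set H) := Subgroup.le_normalClosure
  have hnpcM : ¬ Cfsg.IsPClosed p ↥(Subgroup.normalClosure (Y : Set H)) := by
    intro hc
    apply hYO
    have hYp' : IsPGroup p (Y.subgroupOf (Subgroup.normalClosure (Y : Set H))) :=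
      hYp.comap_of_injective _ (Subgroup.subtype_injective _)
    obtain ⟨P, hP⟩ := hYp'.exists_le_sylow
    have hPn := sylow_map_normal_of_isPClosed _ hc P
    have hPp : IsPGroup p ((P : Subgroup _).map (Subgroup.normalClosure (Y : Set H)).subtype) :=
      P.isPGroup'.map _
    have hPO : (P : Subgroup _).map (Subgroup.normalClosure (Y : Set H)).subtype ≤
        Cfsg.pCore p H :=
      le_sSup (show _ ∈ {N : Subgroup H | N.Normal ∧ IsPGroup p ↥N} from ⟨hPn, hPp⟩)
    refine le_trans ?_ hPO
    intro y hy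
    exact ⟨⟨y, hYM hy⟩, hP (Subgroup.mem_subgroupOf.mpr hy), rfl⟩
  have hRM := hirr _ Subgroup.normalClosure_normal hnpcM
  have hTK : (T : Subgroup H) ≤
      Subgroup.normalizer ((⁅Cfsg.pResidual p H, Y⁆ : Subgroup H) : Set H) :=
    le_normalizer_commutator _ _ _ Subgroup.le_normalizer_of_normal hTY
  have hRK : Cfsg.pResidual p H ≤
      Subgroup.normalizer ((⁅Cfsg.pResidual p H, Y⁆ : Subgroup H) : Set H) :=
    left_le_normalizer_commutator _ _
  have hKn : (⁅Cfsg.pResidual p H, Y⁆ : Subgroup H).Normal := by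
    rw [← Subgroup.normalizer_eq_top_iff, eq_top_iff, ← hRT]
    exact sup_le hRK hTK
  have hKYn : (⁅Cfsg.pResidual p H, Y⁆ ⊔ Y : Subgroup H).Normal := by
    rw [← Subgroup.normalizer_eq_top_iff, eq_top_iff, ← hRT]
    apply sup_le
    · apply le_normalizer_of_map_conj_le
      intro r hr
      rw [Subgroup.map_sup]
      apply sup_le
      · rw [map_conj_eq_of_mem_normalizer' _ r (hRK hr)]; exact le_sup_left
      · rintro _ ⟨y, hy, rfl⟩
        have e : (MulAut.conj r).toMonoidHom y = ⁅r, y⁆ * y := by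
          simp only [MulEquiv.coe_toMonoidHom, MulAut.conj_apply, commutatorElement_def]; group
        rw [e]
        exact Subgroup.mul_mem _
          ((le_sup_left : ⁅Cfsg.pResidual p H, Y⁆ ≤ ⁅Cfsg.pResidual p H, Y⁆ ⊔ Y)
            (Subgroup.commutator_mem_commutator hr hy))
          ((le_sup_right : Y ≤ ⁅Cfsg.pResidual p H, Y⁆ ⊔ Y) hy)
    · exact (le_inf hTK hTY).trans (Subgroup.normalizer_inf_normalizer_le_normalizer_sup _ _)
  have hMKY : Subgroup.normalClosure (Y : Set H) ≤ ⁅Cfsg.pResidual p H, Y⁆ ⊔ Y :=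
    Subgroup.normalClosure_le_normal (SetLike.coe_subset_coe.mpr le_sup_right)
  have hRK' : Cfsg.pResidual p H ≤ ⁅Cfsg.pResidual p H, Y⁆ :=
    pResidual_le_of_le_sup _ Y hYp (hRM.trans hMKY)
  exact ⟨le_antisymm (Subgroup.commutator_le_left _ _) hRK', hRM⟩

end Cfsg.Agent.S2827
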