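import Mathlib
import Cfsg.Statements.S2828
import Cfsg.Agent.Lib_helper14_PIrr3

set_option autoImplicit false
open Cfsg

namespace Cfsg.Agent.S2828
open Cfsg.Agent.helper14


/-- Let H be a finite group, p a prime and D a normal p-subgroup of H. Then H is p-irreducible if and only if H/D is p-irreducible, and H is strongly p-irreducible if and only if H/D is strongly p-irreducible. -/
theorem result {H : Type*} [Group H] [Finite H] {p : ℕ} [Fact p.Prime] (D : Subgroup H) [D.Normal] (hD : IsPGroup p ↥D) : (Cfsg.IsPIrreducible p H ↔ Cfsg.IsPIrreducible p (H ⧸ D)) ∧ (Cfsg.IsStronglyPIrreducible p H ↔ Cfsg.IsStronglyPIrreducible p (H ⧸ D)) := by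
  have hsurj := QuotientGroup.mk'_surjective D
  have hker : IsPGroup p (QuotientGroup.mk' D).ker := by rw [QuotientGroup.ker_mk']; exact hD
  have hPC : Cfsg.IsPClosed p H ↔ Cfsg.IsPClosed p (H ⧸ D) :=
    isPClosed_iff_of_surjective _ hsurj hker
  have hPCN : ∀ N : Subgroup H, Cfsg.IsPClosed p ↥N ↔
      Cfsg.IsPClosed p ↥(N.map (QuotientGroup.mk' D)) := isPClosed_map_iff _ hker
  have hcomap : ∀ Nb : Subgroup (H ⧸ D),
      (Nb.comap (QuotientGroup.mk' D)).map (QuotientGroup.mk' D) = Nb :=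
    fun Nb => Subgroup.map_comap_eq_self_of_surjective hsurj Nb
  have hcore := pCore_comap_quot D hD
  have hF4 : ∀ N : Subgroup H,
      ⁅N.map (QuotientGroup.mk' D), (⊤ : Subgroup (H ⧸ D))⁆ ≤ Cfsg.pCore p (H ⧸ D) ↔
        ⁅N, (⊤ : Subgroup H)⁆ ≤ Cfsg.pCore p H := by
    intro N
    have e : ⁅N.map (QuotientGroup.mk' D), (⊤ : Subgroup (H ⧸ D))⁆ =
        (⁅N, (⊤ : Subgroup H)⁆).map (QuotientGroup.mk' D) := by
      rw [Subgroup.map_commutator, Subgroup.map_top_of_surjective _ hsurj]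
    rw [e, Subgroup.map_le_iff_le_comap, hcore]
  refine ⟨⟨?_, ?_⟩, ⟨?_, ?_⟩⟩
  · rintro ⟨hnc, hirr⟩
    refine ⟨fun h => hnc (hPC.mpr h), ?_⟩
    intro Nb hNb hNbnc
    have hN : (Nb.comap (QuotientGroup.mk' D)).Normal := hNb.comap _
    have h1 : ¬ Cfsg.IsPClosed p ↥(Nb.comap (QuotientGroup.mk' D)) := by
      intro h
      apply hNbnc
      have := (hPCN _).mp h
      rwa [hcomap] at this
    have := pResidual_quot_le D _ hN (hirr _ hN h1)
    rwa [hcomap] at this
  · rintro ⟨hnc, hirr⟩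
    refine ⟨fun h => hnc (hPC.mp h), ?_⟩
    intro N hN hNnc
    have hNb : (N.map (QuotientGroup.mk' D)).Normal := hN.map _ hsurj
    exact pResidual_le_of_quot_le D hD N hN (hirr _ hNb (fun h => hNnc ((hPCN N).mpr h)))
  · rintro ⟨hnc, hirr⟩
    refine ⟨fun h => hnc (hPC.mpr h), ?_⟩
    intro Nb hNb hNbc
    have hN : (Nb.comap (QuotientGroup.mk' D)).Normal := hNb.comap _
    have h1 : ¬ ⁅Nb.comap (QuotientGroup.mk' D), (⊤ : Subgroup H)⁆ ≤ Cfsg.pCore p H := by
      intro h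
      apply hNbc
      have := (hF4 _).mpr h
      rwa [hcomap] at this
    have := pResidual_quot_le D _ hN (hirr _ hN h1)
    rwa [hcomap] at this
  · rintro ⟨hnc, hirr⟩
    refine ⟨fun h => hnc (hPC.mp h), ?_⟩
    intro N hN hNc
    have hNb : (N.map (QuotientGroup.mk' D)).Normal := hN.map _ hsurj
    exact pResidual_le_of_quot_le D hD N hN (hirr _ hNb (fun h => hNc ((hF4 N).mp h)))

end Cfsg.Agent.S2828
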