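import Cfsg.Statements.S2829
import Mathlib.GroupTheory.Commutator.Basic

set_option autoImplicit false
open Cfsg
open scoped commutatorElement

namespace Cfsg.Agent.S2829

/-- If `[N, H] ≤ O_p(H)` then `N` is `p`-closed. -/
theorem pclosed_of_comm_le {H : Type*} [Group H] {p : ℕ} [Fact p.Prime] (N : Subgroup H)
    (h : ⁅N, (⊤ : Subgroup H)⁆ ≤ Cfsg.pCore p H) : Cfsg.IsPClosed p ↥N := by
  intro P
  -- a Sylow of H containing the image of P
  obtain ⟨PH, hPH⟩ := (P.isPGroup'.map N.subtype).exists_le_sylow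
  have hcore : Cfsg.pCore p H ≤ PH := by
    unfold Cfsg.pCore
    apply sSup_le
    rintro K ⟨hKn, hKp⟩
    exact hKp.le_sylow_of_normal PH
  have hmax : ((PH : Subgroup H).subgroupOf N) = (P : Subgroup N) := by
    apply P.is_maximal'
    · exact PH.isPGroup'.comap_of_injective _ (Subgroup.subtype_injective _)
    · intro x hx
      rw [Subgroup.mem_subgroupOf]
      exact hPH (Subgroup.mem_map_of_mem N.subtype hx)
  constructor
  intro x hx n
  have hc : ⁅(n : H), (x : H)⁆ ∈ (PH : Subgroup H) := by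
    apply hcore
    apply h
    exact Subgroup.commutator_mem_commutator n.2 (Subgroup.mem_top _)
  have hc' : ⁅n, x⁆ ∈ (P : Subgroup N) := by
    rw [← hmax, Subgroup.mem_subgroupOf]
    simpa [commutatorElement_def] using hc
  have : n * x * n⁻¹ = ⁅n, x⁆ * x := by
    rw [commutatorElement_def]; group
  rw [this]
  exact (P : Subgroup N).mul_mem hc' hx

theorem result {H : Type*} [Group H] [Finite H] {p : ℕ} [Fact p.Prime] (hH : Cfsg.IsStronglyPIrreducible p H) : Cfsg.IsPIrreducible p H := by
  refine ⟨hH.1, ?_⟩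
  intro N hN hnc
  apply hH.2 N hN
  intro hle
  exact hnc (pclosed_of_comm_le N hle)

end Cfsg.Agent.S2829
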