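import Mathlib
import Cfsg.Statements.S2830
import Cfsg.Agent.Lib_helper14_PIrr2

set_option autoImplicit false
open Cfsg

namespace Cfsg.Agent.S2830
open Cfsg.Agent.helper14


/-- Let H act by conjugation on the elementary abelian p-subgroup V of a finite group G (H ≤ N(V)), with H p-irreducible and O^p(H) not centralizing V. Then C_H(V) is p-closed and C_T(V) ≤ O_p(H) for every p-subgroup T of H. If in addition O_p(H) centralizes V, then C_T(V) = T ∩ O_p(H) for every p-subgroup T of H, and V is p-reduced for H: O_p(H/C_H(V)) = 1. -/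
theorem result {G : Type*} [Group G] [Finite G] {p : ℕ} [Fact p.Prime] (V H : Subgroup G) (hV : Cfsg.IsElementaryAbelian p V) (hHV : H ≤ Subgroup.normalizer (V : Set G)) (hH : Cfsg.IsPIrreducible p ↥H) (hnc : ¬ (Cfsg.pResidual p ↥H).map H.subtype ≤ Subgroup.centralizer (V : Set G)) [hn : ((Subgroup.centralizer (V : Set G)).subgroupOf H).Normal] : Cfsg.IsPClosed p ↥(H ⊓ Subgroup.centralizer (V : Set G)) ∧ (∀ T : Subgroup G, T ≤ H → IsPGroup p ↥T → T ⊓ Subgroup.centralizer (V : Set G) ≤ Cfsg.pCoreOf p H) ∧ (Cfsg.pCoreOf p H ≤ Subgroup.centralizer (V : Set G) → (∀ T : Subgroup G, T ≤ H → IsPGroup p ↥T → T ⊓ Subgroup.centralizer (V : Set G) = T ⊓ Cfsg.pCoreOf p H) ∧ Cfsg.pCore p (↥H ⧸ (Subgroup.centralizer (V : Set G)).subgroupOf H) = ⊥) := by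
  have hnc' : ¬ Cfsg.pResidual p ↥H ≤ (Subgroup.centralizer (V : Set G)).subgroupOf H := by
    intro hle
    apply hnc
    rw [Subgroup.map_le_iff_le_comap]
    exact hle
  obtain ⟨h1, h2, h3⟩ := pirr_core hH ((Subgroup.centralizer (V : Set G)).subgroupOf H) hnc'
  have hb : ∀ T : Subgroup G, T ≤ H → IsPGroup p ↥T →
      T ⊓ Subgroup.centralizer (V : Set G) ≤ Cfsg.pCoreOf p H := by
    intro T hTH hT x hx
    have hT' : IsPGroup p (T.subgroupOf H) :=
      hT.comap_of_injective _ (Subgroup.subtype_injective _)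
    have := h2 (T.subgroupOf H) hT'
      (show (⟨x, hTH hx.1⟩ : H) ∈ T.subgroupOf H ⊓
        (Subgroup.centralizer (V : Set G)).subgroupOf H from
        ⟨Subgroup.mem_subgroupOf.mpr hx.1, Subgroup.mem_subgroupOf.mpr hx.2⟩)
    exact ⟨⟨x, hTH hx.1⟩, this, rfl⟩
  refine ⟨?_, hb, ?_⟩
  · have heq : (H ⊓ Subgroup.centralizer (V : Set G)).subgroupOf H =
        (Subgroup.centralizer (V : Set G)).subgroupOf H := Subgroup.inf_subgroupOf_left _ _
    have h1' : Cfsg.IsPClosed p ↥((H ⊓ Subgroup.centralizer (V : Set G)).subgroupOf H) := by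
      rw [heq]; exact h1
    exact isPClosed_of_mulEquiv (Subgroup.subgroupOfEquivOfLe inf_le_left) h1'
  · intro hO
    refine ⟨?_, ?_⟩
    · intro T hTH hT
      exact le_antisymm (le_inf inf_le_left (hb T hTH hT)) (inf_le_inf_left T hO)
    · apply h3
      intro x hx
      exact Subgroup.mem_subgroupOf.mpr (hO ⟨x, hx, rfl⟩)

end Cfsg.Agent.S2830
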