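import Cfsg.Statements.S2831
import Mathlib.GroupTheory.Commutator.Basic

set_option autoImplicit false
open Cfsg
open scoped commutatorElement Pointwise

namespace Cfsg.Agent.S2831

theorem minimalOver_conj {H : Type*} [Group H] (Y : Subgroup H) (g : H) (h : Cfsg.IsMinimalOver Y) :
    Cfsg.IsMinimalOver (Y.map (MulAut.conj g).toMonoidHom) := by
  obtain ⟨h1, M₀, ⟨hM₀c, hM₀Y⟩, hM₀u⟩ := h
  refine ⟨?_, ?_⟩
  · rw [eq_top_iff, ← h1]
    apply Subgroup.normalClosure_le_normal
    intro y hy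
    have h2 : g * y * g⁻¹ ∈ Subgroup.normalClosure ((Y.map (MulAut.conj g).toMonoidHom : Subgroup H) : Set H) :=
      Subgroup.subset_normalClosure ⟨y, hy, rfl⟩
    have h3 := (Subgroup.normalClosure_normal (s := ((Y.map (MulAut.conj g).toMonoidHom : Subgroup H) : Set H))).conj_mem _ h2 g⁻¹
    simpa [mul_assoc] using h3
  · refine ⟨M₀.map (MulAut.conj g).toMonoidHom, ⟨?_, Subgroup.map_mono hM₀Y⟩, ?_⟩
    · exact ((MulEquiv.mapSubgroup (MulAut.conj g)).isCoatom_iff M₀).mpr hM₀c
    · rintro M' ⟨hM'c, hM'Y⟩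
      have hc : IsCoatom (M'.map (MulAut.conj g⁻¹).toMonoidHom) :=
        ((MulEquiv.mapSubgroup (MulAut.conj g⁻¹)).isCoatom_iff M').mpr hM'c
      have hY : Y ≤ M'.map (MulAut.conj g⁻¹).toMonoidHom := by
        intro y hy
        refine ⟨g * y * g⁻¹, hM'Y ⟨y, hy, rfl⟩, ?_⟩
        simp [mul_assoc]
      have := hM₀u _ ⟨hc, hY⟩
      rw [← this, Subgroup.map_map]
      have hid : (MulAut.conj g).toMonoidHom.comp (MulAut.conj g⁻¹).toMonoidHom = MonoidHom.id H := by
        ext x; simp [mul_assoc]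
      rw [hid, Subgroup.map_id]

/-- If `N ⊔ Q = ⊤` with `N` normal and `Q` a `p`-group then `O^p(H) ≤ N`. -/
theorem pResidual_le_of_sup_eq_top {H : Type*} [Group H] {p : ℕ} [hp : Fact p.Prime] (N Q : Subgroup H) [N.Normal]
    (hQ : IsPGroup p Q) (h : N ⊔ Q = ⊤) : Cfsg.pResidual p H ≤ N := by
  unfold Cfsg.pResidual
  rw [Subgroup.closure_le]
  intro x hx
  have hx' : Nat.Coprime (orderOf x) p := hx
  have hxm : x ∈ ((N ⊔ Q : Subgroup H) : Set H) := by rw [h]; trivial
  rw [Subgroup.normal_mul, Set.mem_mul] at hxm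
  obtain ⟨n, hn, t, ht, rfl⟩ := hxm
  obtain ⟨k, hk⟩ := hQ ⟨t, ht⟩
  have hk' : t ^ p ^ k = 1 := by
    have h2 : ((⟨t, ht⟩ : Q) ^ p ^ k : Q).1 = (1 : Q).1 := congrArg Subtype.val hk
    rw [Subgroup.coe_pow, Subgroup.coe_one] at h2
    exact h2
  have hmk : (QuotientGroup.mk (n * t) : H ⧸ N) = QuotientGroup.mk t := by
    rw [QuotientGroup.mk_mul, (QuotientGroup.eq_one_iff n).mpr hn, one_mul]
  have h1 : orderOf (QuotientGroup.mk (n * t) : H ⧸ N) ∣ orderOf (n * t) :=
    orderOf_map_dvd (QuotientGroup.mk' N) (n * t)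
  have h2 : orderOf (QuotientGroup.mk (n * t) : H ⧸ N) ∣ p ^ k := by
    apply orderOf_dvd_of_pow_eq_one
    rw [hmk, ← QuotientGroup.mk_pow, hk', QuotientGroup.mk_one]
  have h3 : Nat.Coprime (orderOf (n * t)) (p ^ k) := Nat.Coprime.pow_right k hx'
  have h4 : orderOf (QuotientGroup.mk (n * t) : H ⧸ N) = 1 :=
    Nat.eq_one_of_dvd_coprimes h3 h1 h2
  rw [orderOf_eq_one_iff, QuotientGroup.eq_one_iff] at h4
  exact h4

theorem result {H : Type*} [Group H] [Finite H] {p : ℕ} [Fact p.Prime] (T : Sylow p H) (hmin : Cfsg.IsMinimalOver (T : Subgroup H)) : Cfsg.IsPIrreducible p H := by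
  refine ⟨?_, ?_⟩
  · intro hcl
    have hTn : (T : Subgroup H).Normal := hcl T
    obtain ⟨h1, M₀, ⟨hM₀c, hM₀Y⟩, _⟩ := hmin
    rw [Subgroup.normalClosure_eq_self] at h1
    rw [h1, top_le_iff] at hM₀Y
    exact hM₀c.1 hM₀Y
  · intro N hN hnc
    unfold Cfsg.IsPClosed at hnc
    push Not at hnc
    obtain ⟨P, hP⟩ := hnc
    obtain ⟨Q, hQ⟩ := P.exists_comap_subtype_eq
    obtain ⟨g, hg⟩ := MulAction.exists_smul_eq H T Q
    have hQT : (Q : Subgroup H) = (T : Subgroup H).map (MulAut.conj g).toMonoidHom := by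
      rw [← hg, Sylow.coe_subgroup_smul, Subgroup.pointwise_smul_def]
      rfl
    have hminQ : Cfsg.IsMinimalOver (Q : Subgroup H) := by
      rw [hQT]; exact minimalOver_conj _ g hmin
    obtain ⟨_, M₁, ⟨hM₁c, hM₁Q⟩, hM₁u⟩ := hminQ
    have hPmap : (P : Subgroup N).map N.subtype = (Q : Subgroup H) ⊓ N := by
      have : (P : Subgroup N) = (Q : Subgroup H).subgroupOf N := by
        rw [← hQ]; rfl
      rw [this, Subgroup.subgroupOf_map_subtype]
    have hfr : Subgroup.normalizer (((P : Subgroup N).map N.subtype : Subgroup H) : Set H) ⊔ N = ⊤ :=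
      Sylow.normalizer_sup_eq_top P
    have hQnorm : (Q : Subgroup H) ≤
        Subgroup.normalizer (((P : Subgroup N).map N.subtype : Subgroup H) : Set H) := by
      rw [hPmap]
      intro q hq
      rw [Subgroup.mem_normalizer_iff]
      intro x
      constructor
      · rintro ⟨hx1, hx2⟩
        exact ⟨(Q : Subgroup H).mul_mem ((Q : Subgroup H).mul_mem hq hx1) ((Q : Subgroup H).inv_mem hq),
          hN.conj_mem x hx2 q⟩
      · rintro ⟨hx1, hx2⟩
        refine ⟨?_, ?_⟩
        · have h5 := (Q : Subgroup H).mul_mem ((Q : Subgroup H).mul_mem ((Q : Subgroup H).inv_mem hq) hx1) hq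
          have h6 : q⁻¹ * (q * x * q⁻¹) * q = x := by group
          rw [h6] at h5
          exact h5
        · have := hN.conj_mem _ hx2 q⁻¹
          simpa [mul_assoc] using this
    rcases eq_top_or_exists_le_coatom
      (Subgroup.normalizer (((P : Subgroup N).map N.subtype : Subgroup H) : Set H)) with htop | ⟨M', hM'c, hM'le⟩
    · exfalso
      apply hP
      constructor
      intro x hx n
      have hmem : ((n * x * n⁻¹ : N) : H) ∈ (P : Subgroup N).map N.subtype := by
        have hn : (n : H) ∈ Subgroup.normalizer (((P : Subgroup N).map N.subtype : Subgroup H) : Set H) := by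
          rw [htop]; trivial
        have := (Subgroup.mem_normalizer_iff.mp hn (x : H)).mp (Subgroup.mem_map_of_mem N.subtype hx)
        simpa using this
      obtain ⟨y, hy, hyx⟩ := hmem
      have : y = n * x * n⁻¹ := Subtype.ext hyx
      rw [← this]; exact hy
    · have hM' : M' = M₁ := hM₁u M' ⟨hM'c, hQnorm.trans hM'le⟩
      have hNQ : N ⊔ (Q : Subgroup H) = ⊤ := by
        rcases eq_top_or_exists_le_coatom (N ⊔ (Q : Subgroup H)) with htop | ⟨M'', hM''c, hM''le⟩
        · exact htop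
        · exfalso
          have hM'' : M'' = M₁ := hM₁u M'' ⟨hM''c, le_sup_right.trans hM''le⟩
          have : (⊤ : Subgroup H) ≤ M₁ := by
            rw [← hfr]
            apply sup_le
            · rw [← hM']; exact hM'le
            · rw [← hM'']; exact le_sup_left.trans hM''le
          exact hM₁c.1 (top_le_iff.mp this)
      exact pResidual_le_of_sup_eq_top N Q Q.isPGroup' hNQ

end Cfsg.Agent.S2831
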