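import Cfsg.Statements.S2832
import Mathlib.GroupTheory.Commutator.Basic

set_option autoImplicit false
open Cfsg
open scoped commutatorElement Pointwise

namespace Cfsg.Agent.S2832

theorem result {H : Type*} [Group H] [Finite H] {p : ℕ} [Fact p.Prime] (T : Sylow p H) (hmin : Cfsg.IsMinimalOver (T : Subgroup H)) (N : Subgroup H) [N.Normal] : IsPGroup p (H ⧸ N) ∨ Cfsg.IsMinimalOver ((T : Subgroup H).map (QuotientGroup.mk' N)) := by
  obtain ⟨h1, M₀, ⟨hM₀c, hM₀T⟩, hM₀u⟩ := hmin
  set π := QuotientGroup.mk' N with hπ
  have hπs : Function.Surjective π := QuotientGroup.mk'_surjective N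
  have hker : π.ker = N := QuotientGroup.ker_mk' N
  rcases eq_top_or_exists_le_coatom (N ⊔ (T : Subgroup H)) with htop | ⟨M', hM'c, hM'le⟩
  · left
    intro y
    obtain ⟨x, rfl⟩ := hπs y
    have hxm : x ∈ ((N ⊔ (T : Subgroup H) : Subgroup H) : Set H) := by rw [htop]; trivial
    rw [Subgroup.normal_mul, Set.mem_mul] at hxm
    obtain ⟨n, hn, t, ht, rfl⟩ := hxm
    obtain ⟨k, hk⟩ := T.isPGroup' ⟨t, ht⟩
    have hk' : t ^ p ^ k = 1 := by
      have h2 : ((⟨t, ht⟩ : (T : Subgroup H)) ^ p ^ k : (T : Subgroup H)).1 = (1 : (T : Subgroup H)).1 :=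
        congrArg Subtype.val hk
      rw [Subgroup.coe_pow, Subgroup.coe_one] at h2
      exact h2
    refine ⟨k, ?_⟩
    have hn1 : π n = 1 := (QuotientGroup.eq_one_iff n).mpr hn
    rw [map_mul, hn1, one_mul, ← map_pow, hk', map_one]
  · right
    have hM' : M' = M₀ := hM₀u M' ⟨hM'c, le_sup_right.trans hM'le⟩
    have hNM₀ : N ≤ M₀ := by rw [← hM']; exact le_sup_left.trans hM'le
    have hcm : ∀ K : Subgroup H, N ≤ K → (K.map π).comap π = K := by
      intro K hK
      rw [Subgroup.comap_map_eq, hker, sup_eq_left.mpr hK]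
    have hmc : ∀ Kq : Subgroup (H ⧸ N), (Kq.comap π).map π = Kq :=
      fun Kq => Subgroup.map_comap_eq_self_of_surjective hπs Kq
    have hNc : ∀ Kq : Subgroup (H ⧸ N), N ≤ Kq.comap π := by
      intro Kq
      exact hker.symm.le.trans (MonoidHom.ker_le_comap π Kq)
    refine ⟨?_, M₀.map π, ⟨⟨?_, ?_⟩, Subgroup.map_mono hM₀T⟩, ?_⟩
    · -- normal closure
      set K := Subgroup.normalClosure (((T : Subgroup H).map π : Subgroup (H ⧸ N)) : Set (H ⧸ N)) with hK
      have hKn : (K.comap π).Normal := Subgroup.Normal.comap Subgroup.normalClosure_normal π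
      have hTK : (T : Subgroup H) ≤ K.comap π := by
        intro t ht
        rw [Subgroup.mem_comap]
        exact Subgroup.subset_normalClosure ⟨t, ht, rfl⟩
      have : (⊤ : Subgroup H) ≤ K.comap π := by
        rw [← h1]
        exact Subgroup.normalClosure_le_normal hTK
      rw [eq_top_iff]
      intro y _
      obtain ⟨x, rfl⟩ := hπs y
      exact this (Subgroup.mem_top x)
    · intro htop
      have := hcm M₀ hNM₀
      rw [htop, Subgroup.comap_top] at this
      exact hM₀c.1 this.symm
    · intro Kq hKq
      have hle : M₀ ≤ Kq.comap π := by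
        rw [← hcm M₀ hNM₀]
        exact Subgroup.comap_mono hKq.le
      rcases eq_or_lt_of_le hle with heq | hlt
      · exfalso
        have := hmc Kq
        rw [← heq] at this
        exact hKq.ne this
      · have := hM₀c.2 _ hlt
        rw [← hmc Kq, this, Subgroup.map_top_of_surjective π hπs]
    · rintro Mq ⟨hMqc, hMqT⟩
      set K := Mq.comap π with hK
      have hKc : IsCoatom K := by
        refine ⟨?_, ?_⟩
        · intro htop
          apply hMqc.1
          rw [← hmc Mq, ← hK, htop, Subgroup.map_top_of_surjective π hπs]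
        · intro K' hK'
          have hle : Mq ≤ K'.map π := by
            rw [← hmc Mq]
            exact Subgroup.map_mono hK'.le
          have hNK' : N ≤ K' := (hNc Mq).trans hK'.le
          rcases eq_or_lt_of_le hle with heq | hlt
          · exfalso
            have : K' ≤ K := by
              rw [hK, heq, hcm K' hNK']
            exact hK'.not_ge this
          · have := hMqc.2 _ hlt
            have h2 := hcm K' hNK'
            rw [this, Subgroup.comap_top] at h2
            exact h2.symm
      have hTK : (T : Subgroup H) ≤ K := by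
        intro t ht
        rw [hK, Subgroup.mem_comap]
        exact hMqT ⟨t, ht, rfl⟩
      have := hM₀u K ⟨hKc, hTK⟩
      rw [← this, hK, hmc]

end Cfsg.Agent.S2832
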