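import Cfsg.Statements.S2833
import Mathlib
import Cfsg.Agent.S2843
import Cfsg.Agent.Lib_helper14_PIrr
import Cfsg.Agent.Lib_helper7_Cores
-- import your own Cfsg.Agent.* helpers here

set_option autoImplicit false
open Cfsg

namespace Cfsg.Agent.S2833


open scoped commutatorElement
open Cfsg.Agent.helper14 Cfsg.Agent.helper7

/-- Let V be a subgroup of a finite group G normalized by the subgroup L, let X ≤ L and g ∈ L with [V, X, X] = 1 and L generated by X and gXg⁻¹. Put W = [V, L]. Then W = [V, X]·[V, gXg⁻¹], C_W(X) = [V, X], and C_W(L) = [V, X] ∩ [V, gXg⁻¹]. -/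
theorem result {G : Type*} [Group G] [Finite G] (V L : Subgroup G) (hLV : L ≤ Subgroup.normalizer (V : Set G)) (X : Subgroup G) (hX : X ≤ L) (g : G) (hg : g ∈ L) (hq : ⁅⁅V, X⁆, X⁆ = ⊥) (hgen : X ⊔ X.map (MulAut.conj g).toMonoidHom = L) (W : Subgroup G) (hW : W = ⁅V, L⁆) : ⁅V, X⁆ ⊔ ⁅V, X.map (MulAut.conj g).toMonoidHom⁆ = W ∧ W ⊓ Subgroup.centralizer (X : Set G) = ⁅V, X⁆ ∧ W ⊓ Subgroup.centralizer (L : Set G) = ⁅V, X⁆ ⊓ ⁅V, X.map (MulAut.conj g).toMonoidHom⁆ := by
  subst hW
  have hXV : X ≤ Subgroup.normalizer (V : Set G) := hX.trans hLV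
  have hX'L : cj g X ≤ L := by rw [← hgen]; exact le_sup_right
  have hX'V : cj g X ≤ Subgroup.normalizer (V : Set G) := hX'L.trans hLV
  have hgV : cj g V = V := cj_eq_of_mem_normalizer (hLV hg)
  have hAV : ⁅V, X⁆ ≤ V := commutator_le_left_of_le_normalizer V X hXV
  have hBV : ⁅V, cj g X⁆ ≤ V := commutator_le_left_of_le_normalizer V (cj g X) hX'V
  have hB : cj g ⁅V, X⁆ = ⁅V, cj g X⁆ := by
    rw [cj_commutator, hgV]
  have hq' : ⁅⁅V, cj g X⁆, cj g X⁆ = ⊥ := by
    rw [← hB, ← cj_commutator, hq, cj_bot]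
  have hAC : ⁅V, X⁆ ≤ Subgroup.centralizer (X : Set G) :=
    Subgroup.commutator_eq_bot_iff_le_centralizer.mp hq
  have hBC : ⁅V, cj g X⁆ ≤ Subgroup.centralizer ((cj g X : Subgroup G) : Set G) :=
    Subgroup.commutator_eq_bot_iff_le_centralizer.mp hq'
  have hNV : ⁅V, X⁆ ⊔ ⁅V, cj g X⁆ ≤ V := sup_le hAV hBV
  have hXN : X ≤ Subgroup.normalizer ((⁅V, X⁆ ⊔ ⁅V, cj g X⁆ : Subgroup G) : Set G) := by
    apply le_normalizer_of_comm_le
    exact (Subgroup.commutator_mono hNV le_rfl).trans le_sup_left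
  have hX'N : cj g X ≤ Subgroup.normalizer ((⁅V, X⁆ ⊔ ⁅V, cj g X⁆ : Subgroup G) : Set G) := by
    apply le_normalizer_of_comm_le
    exact (Subgroup.commutator_mono hNV le_rfl).trans le_sup_right
  have h1 : ⁅V, X⁆ ⊔ ⁅V, cj g X⁆ = ⁅V, L⁆ := by
    apply le_antisymm
    · apply sup_le
      · exact Subgroup.commutator_mono le_rfl hX
      · exact Subgroup.commutator_mono le_rfl hX'L
    · have hgen' : L = ⨆ b : Bool, cond b X (cj g X) := by
        rw [← sup_eq_iSup]; exact hgen.symm
      rw [Subgroup.commutator_comm, hgen']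
      apply Cfsg.Agent.S2843.commutator_iSup_le
      · rintro (_ | _)
        · exact hX'N
        · exact hXN
      · rintro (_ | _)
        · show ⁅cj g X, V⁆ ≤ _
          rw [Subgroup.commutator_comm]; exact le_sup_right
        · show ⁅X, V⁆ ≤ _
          rw [Subgroup.commutator_comm]; exact le_sup_left
  have hVA : V ≤ Subgroup.normalizer ((⁅V, X⁆ : Subgroup G) : Set G) :=
    left_le_normalizer_commutator V X
  have hCC : Subgroup.centralizer (X : Set G) ⊓
      Subgroup.centralizer ((cj g X : Subgroup G) : Set G) ≤ Subgroup.centralizer (L : Set G) := by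
    have a1 : X ≤ Subgroup.centralizer ((Subgroup.centralizer (X : Set G) ⊓
        Subgroup.centralizer ((cj g X : Subgroup G) : Set G) : Subgroup G) : Set G) :=
      le_centralizer_of_le_centralizer inf_le_left
    have a2 : cj g X ≤ Subgroup.centralizer ((Subgroup.centralizer (X : Set G) ⊓
        Subgroup.centralizer ((cj g X : Subgroup G) : Set G) : Subgroup G) : Set G) :=
      le_centralizer_of_le_centralizer inf_le_right
    have a3 : L ≤ Subgroup.centralizer ((Subgroup.centralizer (X : Set G) ⊓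
        Subgroup.centralizer ((cj g X : Subgroup G) : Set G) : Subgroup G) : Set G) := by
      rw [← hgen]; exact sup_le a1 a2
    exact le_centralizer_of_le_centralizer a3
  have hgC : ∀ z ∈ Subgroup.centralizer (L : Set G), g * z = z * g := by
    intro z hz
    exact (Subgroup.mem_centralizer_iff.mp hz) g hg
  have h2 : (⁅V, X⁆ ⊔ ⁅V, cj g X⁆) ⊓ Subgroup.centralizer (X : Set G) = ⁅V, X⁆ := by
    apply le_antisymm
    · rintro w ⟨hwN, hwC⟩
      obtain ⟨a, ha, b, hb, rfl⟩ := mem_sup_of_normalizer (hBV.trans hVA) hwN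
      have hbC : b ∈ Subgroup.centralizer (X : Set G) := by
        have e : b = a⁻¹ * (a * b) := by group
        rw [e]
        exact Subgroup.mul_mem _ (Subgroup.inv_mem _ (hAC ha)) hwC
      have hbL := hCC (Subgroup.mem_inf.mpr ⟨hbC, hBC hb⟩)
      have hb' : b ∈ cj g ⁅V, X⁆ := by rw [hB]; exact hb
      have hb'' := mem_cj.mp hb'
      have e2 : g⁻¹ * b * g = b := by
        have := hgC b hbL
        calc g⁻¹ * b * g = g⁻¹ * (b * g) := by group
          _ = g⁻¹ * (g * b) := by rw [this]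
          _ = b := by group
      rw [e2] at hb''
      exact Subgroup.mul_mem _ ha hb''
    · exact le_inf le_sup_left hAC
  have h2' : (⁅V, X⁆ ⊔ ⁅V, cj g X⁆) ⊓ Subgroup.centralizer ((cj g X : Subgroup G) : Set G) =
      ⁅V, cj g X⁆ := by
    apply le_antisymm
    · rintro w ⟨hwN, hwC⟩
      obtain ⟨a, ha, b, hb, rfl⟩ := mem_sup_of_normalizer (hBV.trans hVA) hwN
      have haC : a ∈ Subgroup.centralizer ((cj g X : Subgroup G) : Set G) := by
        have e : a = (a * b) * b⁻¹ := by group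
        rw [e]
        exact Subgroup.mul_mem _ hwC (Subgroup.inv_mem _ (hBC hb))
      have haL := hCC (Subgroup.mem_inf.mpr ⟨hAC ha, haC⟩)
      have ha' : g * a * g⁻¹ ∈ cj g ⁅V, X⁆ := cj_mem_cj ha
      rw [hB] at ha'
      have e2 : g * a * g⁻¹ = a := by
        have := hgC a haL
        calc g * a * g⁻¹ = (a * g) * g⁻¹ := by rw [this]
          _ = a := by group
      rw [e2] at ha'
      exact Subgroup.mul_mem _ ha' hb
    · exact le_inf le_sup_right hBC
  have h3 : (⁅V, X⁆ ⊔ ⁅V, cj g X⁆) ⊓ Subgroup.centralizer (L : Set G) =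
      ⁅V, X⁆ ⊓ ⁅V, cj g X⁆ := by
    apply le_antisymm
    · apply le_inf
      · exact (inf_le_inf_left _
          (Subgroup.centralizer_le (SetLike.coe_subset_coe.mpr hX))).trans h2.le
      · exact (inf_le_inf_left _
          (Subgroup.centralizer_le (SetLike.coe_subset_coe.mpr hX'L))).trans h2'.le
    · apply le_inf
      · exact inf_le_left.trans le_sup_left
      · exact (inf_le_inf hAC hBC).trans hCC
  refine ⟨h1, ?_, ?_⟩
  · rw [← h1]; exact h2
  · rw [← h1]; exact h3

end Cfsg.Agent.S2833
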