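import Cfsg.Statements.S2836
import Mathlib
import Cfsg.Agent.Lib_helper14_YMin2
-- import your own Cfsg.Agent.* helpers here

set_option autoImplicit false
open Cfsg

namespace Cfsg.Agent.S2836


open Cfsg.Agent.helper14 Cfsg.Agent.helper7

/-- Let L be a finite group, L₀ a maximal subgroup, T a Sylow p-subgroup of L₀, Y ≤ T, and suppose L is Y-minimal. Let D be the intersection of the conjugates of L₀ (the core of L₀). Then D contains O_p(L) and D/O_p(L) is the Frattini subgroup of L/O_p(L), so D is p-closed; and every normal subgroup N of L contained in L₀ is p-closed with N/O_p(N) a nilpotent group of order prime to p. -/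
theorem result {L : Type*} [Group L] [Finite L] {p : ℕ} [Fact p.Prime] (L₀ : Subgroup L) (hL₀ : IsCoatom L₀) (T : Sylow p ↥L₀) (Y : Subgroup L) (hYT : Y ≤ (T : Subgroup ↥L₀).map L₀.subtype) (hmin : Cfsg.IsMinimalOver Y) : (Cfsg.pCore p L ≤ L₀.normalCore ∧ (L₀.normalCore).map (QuotientGroup.mk' (Cfsg.pCore p L)) = frattini (L ⧸ Cfsg.pCore p L) ∧ Cfsg.IsPClosed p ↥(L₀.normalCore)) ∧ ∀ (N : Subgroup L) [N.Normal], N ≤ L₀ → Cfsg.IsPClosed p ↥N ∧ Group.IsNilpotent (↥N ⧸ Cfsg.pCore p ↥N) ∧ (Nat.card (↥N ⧸ Cfsg.pCore p ↥N)).Coprime p := by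
  have hYL₀ : Y ≤ L₀ := hYT.trans (Subgroup.map_subtype_le _)
  have h := yMinData_of hL₀ hYL₀ hmin
  obtain ⟨P, hP⟩ := h.sylow_eq T hYT
  have hYP : Y ≤ (P : Subgroup L) := by rw [hP]; exact hYT
  have hPL₀ : (P : Subgroup L) ≤ L₀ := by rw [hP]; exact Subgroup.map_subtype_le _
  have key : ∀ (N : Subgroup L) [N.Normal], N ≤ L₀ → Cfsg.IsPClosed p ↥N ∧
      Group.IsNilpotent (↥N ⧸ Cfsg.pCore p ↥N) ∧ (Nat.card (↥N ⧸ Cfsg.pCore p ↥N)).Coprime p := by
    intro N hN hNL₀
    obtain ⟨hPNn, S, hS⟩ := h.inf_normal P hYP N hNL₀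
    have hSn : (S : Subgroup ↥N).Normal := by rw [hS]; infer_instance
    exact ⟨isPClosed_of_sylow_normal S hSn, h.nilpotent_quot P hYP N hNL₀,
      coprime_card_quot_pCore_of_sylow_normal S hSn⟩
  refine ⟨⟨?_, h.map_normalCore_eq_frattini P hYP hPL₀, ?_⟩, key⟩
  · have hOn : (Cfsg.pCore p L).Normal := pCore_normal' p
    exact Subgroup.normal_le_normalCore.mpr
      (((pCore_isPGroup' p).le_sylow_of_normal P).trans hPL₀)
  · have hDn : (L₀.normalCore).Normal := Subgroup.normalCore_normal _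
    exact (key L₀.normalCore (Subgroup.normalCore_le _)).1

end Cfsg.Agent.S2836
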