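import Cfsg.Statements.S2837
import Mathlib
import Cfsg.Agent.S2843
import Cfsg.Agent.Lib_helper14_YMin2
import Cfsg.Agent.Lib_helper14_PIrr
import Cfsg.Agent.Lib_helper7_Cores
import Cfsg.Agent.Lib_helper1_PGroup
import Cfsg.Agent.Lib_helper1_ElemAb
-- import your own Cfsg.Agent.* helpers here

set_option autoImplicit false
open Cfsg

namespace Cfsg.Agent.S2837


open scoped commutatorElement
open Cfsg.Agent.helper14 Cfsg.Agent.helper7

theorem comm_of_isMulCommutative {G : Type*} [Group G] {Y : Subgroup G}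
    (hc : IsMulCommutative ↥Y) : ∀ a ∈ Y, ∀ b ∈ Y, a * b = b * a := by
  intro a ha b hb
  exact congrArg Subtype.val (hc.is_comm.comm (⟨a, ha⟩ : ↥Y) ⟨b, hb⟩)

theorem le_centralizer_of_comm {G : Type*} [Group G] {A B : Subgroup G}
    (h : ∀ a ∈ A, ∀ b ∈ B, a * b = b * a) : A ≤ Subgroup.centralizer (B : Set G) := by
  intro a ha
  rw [Subgroup.mem_centralizer_iff]
  intro b hb
  exact (h a ha b hb).symm

theorem core {L : Type*} [Group L] [Finite L] {p : ℕ} [Fact p.Prime] (Q Y Y' U U' B : Subgroup L)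
    (hQn : Q.Normal) (hQp : IsPGroup p Q) (hZQ : Subgroup.center L ≤ Q)
    (hYc : ∀ a ∈ Y, ∀ b ∈ Y, a * b = b * a) (hY'c : ∀ a ∈ Y', ∀ b ∈ Y', a * b = b * a)
    (hYexp : ∀ a ∈ Y, a ^ p = 1) (hY'exp : ∀ a ∈ Y', a ^ p = 1)
    (hOY : Q ≤ Subgroup.normalizer (Y : Set L)) (hOY' : Q ≤ Subgroup.normalizer (Y' : Set L))
    (htop : Y ⊔ Y' = ⊤) (hinf : Y ⊓ Y' = Y ⊓ Subgroup.center L)
    (hinf' : Y ⊓ Y' = Y' ⊓ Subgroup.center L)
    (hU : U = Q ⊓ Y) (hU' : U' = Q ⊓ Y') (hB : B = U ⊔ U') :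
    B.Normal ∧ B ⊓ Y = U ∧ B ⊓ Y' = U' ∧ (frattini ↥B).map B.subtype = ⁅B, B⁆ ∧
      ⁅B, B⁆ = ⁅U, B⁆ ∧ ⁅U, B⁆ = ⁅U, U'⁆ ∧ ⁅U, B⁆ ≤ Y ⊓ Subgroup.center L ∧
      U ⊓ U' = Y ⊓ Subgroup.center L ∧ B ⊓ Subgroup.center L = Y ⊓ Subgroup.center L := by
  have hUQ : U ≤ Q := by rw [hU]; exact inf_le_left
  have hUY : U ≤ Y := by rw [hU]; exact inf_le_right
  have hU'Q : U' ≤ Q := by rw [hU']; exact inf_le_left
  have hU'Y' : U' ≤ Y' := by rw [hU']; exact inf_le_right
  have hUB : U ≤ B := by rw [hB]; exact le_sup_left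
  have hU'B : U' ≤ B := by rw [hB]; exact le_sup_right
  have hBQ : B ≤ Q := by rw [hB]; exact sup_le hUQ hU'Q
  have hQtop : ∀ X : Subgroup L, X ≤ Subgroup.normalizer (Q : Set L) := by
    intro X
    rw [Subgroup.normalizer_eq_top_iff.mpr hQn]
    exact le_top
  have hF4 : ⁅Q, Y⁆ ≤ U := by
    rw [hU]
    exact le_inf (commutator_le_left_of_le_normalizer _ _ (hQtop Y))
      (commutator_le_right_of_le_normalizer _ _ hOY)
  have hF4' : ⁅Q, Y'⁆ ≤ U' := by
    rw [hU']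
    exact le_inf (commutator_le_left_of_le_normalizer _ _ (hQtop Y'))
      (commutator_le_right_of_le_normalizer _ _ hOY')
  have hYB : Y ≤ Subgroup.normalizer (B : Set L) :=
    le_normalizer_of_comm_le (((Subgroup.commutator_mono hBQ le_rfl).trans hF4).trans hUB)
  have hY'B : Y' ≤ Subgroup.normalizer (B : Set L) :=
    le_normalizer_of_comm_le (((Subgroup.commutator_mono hBQ le_rfl).trans hF4').trans hU'B)
  have hBn : B.Normal := by
    apply Subgroup.normalizer_eq_top_iff.mp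
    apply top_le_iff.mp
    rw [← htop]
    exact sup_le hYB hY'B
  have hBY : B ⊓ Y = U := by
    apply le_antisymm
    · rw [hU]; exact inf_le_inf_right _ hBQ
    · exact le_inf hUB hUY
  have hBY' : B ⊓ Y' = U' := by
    apply le_antisymm
    · rw [hU']; exact inf_le_inf_right _ hBQ
    · exact le_inf hU'B hU'Y'
  have hQU : Q ≤ Subgroup.normalizer (U : Set L) := by
    rw [hU]; exact le_normalizer_inf' (hQtop Q) hOY
  have hQU' : Q ≤ Subgroup.normalizer (U' : Set L) := by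
    rw [hU']; exact le_normalizer_inf' (hQtop Q) hOY'
  have hC1 : ⁅U, U'⁆ ≤ U := commutator_le_left_of_le_normalizer U U' (hU'Q.trans hQU)
  have hC2 : ⁅U, U'⁆ ≤ U' := commutator_le_right_of_le_normalizer U U' (hUQ.trans hQU')
  have hUU' : U ⊓ U' ≤ Y ⊓ Subgroup.center L := by
    rw [← hinf]; exact inf_le_inf hUY hU'Y'
  have hCZ : ⁅U, U'⁆ ≤ Y ⊓ Subgroup.center L := (le_inf hC1 hC2).trans hUU'
  have hCn : ∀ X : Subgroup L, X ≤ Subgroup.normalizer ((⁅U, U'⁆ : Subgroup L) : Set L) := by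
    intro X
    apply le_normalizer_of_comm_le
    have e : ⁅⁅U, U'⁆, X⁆ = ⊥ := Subgroup.commutator_eq_bot_iff_le_centralizer.mpr
      ((hCZ.trans inf_le_right).trans (Subgroup.center_le_centralizer _))
    rw [e]; exact bot_le
  have hUab : ⁅U, U⁆ = ⊥ := Subgroup.commutator_eq_bot_iff_le_centralizer.mpr
    (le_centralizer_of_comm (fun a ha b hb => hYc a (hUY ha) b (hUY hb)))
  have hU'ab : ⁅U', U'⁆ = ⊥ := Subgroup.commutator_eq_bot_iff_le_centralizer.mpr
    (le_centralizer_of_comm (fun a ha b hb => hY'c a (hU'Y' ha) b (hU'Y' hb)))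
  have aux : ∀ X : Subgroup L, ⁅U, X⁆ ≤ ⁅U, U'⁆ → ⁅U', X⁆ ≤ ⁅U, U'⁆ → ⁅B, X⁆ ≤ ⁅U, U'⁆ := by
    intro X h1 h2
    have hB' : B = ⨆ b : Bool, cond b U U' := by rw [← sup_eq_iSup]; exact hB
    rw [hB']
    apply Cfsg.Agent.S2843.commutator_iSup_le
    · rintro (_ | _)
      · exact hCn U'
      · exact hCn U
    · rintro (_ | _)
      · exact h2
      · exact h1
  have hBU : ⁅B, U⁆ ≤ ⁅U, U'⁆ := by
    apply aux U
    · rw [hUab]; exact bot_le
    · rw [Subgroup.commutator_comm]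
  have hBU' : ⁅B, U'⁆ ≤ ⁅U, U'⁆ := by
    apply aux U' le_rfl
    rw [hU'ab]; exact bot_le
  have hBB : ⁅B, B⁆ ≤ ⁅U, U'⁆ := by
    apply aux B
    · rw [Subgroup.commutator_comm]; exact hBU
    · rw [Subgroup.commutator_comm]; exact hBU'
  have hUBC : ⁅U, B⁆ = ⁅U, U'⁆ := by
    apply le_antisymm
    · rw [Subgroup.commutator_comm]; exact hBU
    · exact Subgroup.commutator_mono le_rfl hU'B
  have hBBC : ⁅B, B⁆ = ⁅U, U'⁆ := le_antisymm hBB (Subgroup.commutator_mono hUB hU'B)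
  have h6 : U ⊓ U' = Y ⊓ Subgroup.center L := by
    apply le_antisymm hUU'
    apply le_inf
    · rw [hU]; exact le_inf (inf_le_right.trans hZQ) inf_le_left
    · rw [hU']
      refine le_inf (inf_le_right.trans hZQ) ?_
      rw [← hinf]; exact inf_le_right
  have h7 : B ⊓ Subgroup.center L = Y ⊓ Subgroup.center L := by
    apply le_antisymm
    · rintro z ⟨hzB, hzc⟩
      refine Subgroup.mem_inf.mpr ⟨?_, hzc⟩
      rw [hB] at hzB
      obtain ⟨a, ha, b, hb, rfl⟩ := mem_sup_of_normalizer (hU'Q.trans hQU) hzB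
      have hbc : b ∈ Subgroup.center L := by
        have h1 : Y ≤ Subgroup.centralizer ({b} : Set L) := by
          intro y hy
          rw [Subgroup.mem_centralizer_iff]
          intro s hs
          rw [Set.mem_singleton_iff] at hs
          rw [hs]
          have e1 := Subgroup.mem_center_iff.mp hzc y
          have e2 := hYc a (hUY ha) y hy
          calc b * y = a⁻¹ * ((a * b) * y) := by group
            _ = a⁻¹ * (y * (a * b)) := by rw [← e1]
            _ = a⁻¹ * ((y * a) * b) := by group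
            _ = a⁻¹ * ((a * y) * b) := by rw [e2]
            _ = y * b := by group
        have h2 : Y' ≤ Subgroup.centralizer ({b} : Set L) := by
          intro y hy
          rw [Subgroup.mem_centralizer_iff]
          intro s hs
          rw [Set.mem_singleton_iff] at hs
          rw [hs]
          exact hY'c _ (hU'Y' hb) y hy
        have h3 : (⊤ : Subgroup L) ≤ Subgroup.centralizer ({b} : Set L) := by
          rw [← htop]; exact sup_le h1 h2
        rw [Subgroup.mem_center_iff]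
        intro x
        exact ((Subgroup.mem_centralizer_iff.mp (h3 (Subgroup.mem_top x))) b rfl).symm
      have hbY : b ∈ Y := by
        have hb2 : b ∈ Y' ⊓ Subgroup.center L := Subgroup.mem_inf.mpr ⟨hU'Y' hb, hbc⟩
        rw [← hinf'] at hb2
        exact hb2.1
      exact Y.mul_mem (hUY ha) hbY
    · refine le_inf ?_ inf_le_right
      rw [← h6]; exact inf_le_left.trans hUB
  have hBp : IsPGroup p ↥B := hQp.to_le hBQ
  have h1a : commutator ↥B ≤ frattini ↥B :=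
    Cfsg.Agent.helper1.commutator_le_frattini_of_isPGroup hBp
  have hpow : ∀ x : ↥B, x ^ p ∈ commutator ↥B := by
    have hK : ∀ x : ↥B, (x : L) ^ p = 1 → x ∈
        ((powMonoidHom p : Abelianization ↥B →* Abelianization ↥B).ker).comap
          Abelianization.of := by
      intro x hx
      show Abelianization.of x ∈ (powMonoidHom p : Abelianization ↥B →* Abelianization ↥B).ker
      rw [MonoidHom.mem_ker, powMonoidHom_apply, ← map_pow]
      have e : x ^ p = 1 := Subtype.ext (by simpa using hx)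
      rw [e, map_one]
    have hKtop : ((powMonoidHom p : Abelianization ↥B →* Abelianization ↥B).ker).comap
          Abelianization.of = ⊤ := by
      apply top_le_iff.mp
      have e : (⊤ : Subgroup ↥B) = U.subgroupOf B ⊔ U'.subgroupOf B := by
        rw [← Subgroup.subgroupOf_sup hUB hU'B, ← hB, Subgroup.subgroupOf_self]
      rw [e]
      apply sup_le
      · intro x hx
        exact hK x (hYexp _ (hUY (Subgroup.mem_subgroupOf.mp hx)))
      · intro x hx
        exact hK x (hY'exp _ (hU'Y' (Subgroup.mem_subgroupOf.mp hx)))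
    intro x
    have hx : x ∈ ((powMonoidHom p : Abelianization ↥B →* Abelianization ↥B).ker).comap
          Abelianization.of := by rw [hKtop]; exact Subgroup.mem_top x
    have hx' : Abelianization.of x ∈
        (powMonoidHom p : Abelianization ↥B →* Abelianization ↥B).ker := hx
    rw [MonoidHom.mem_ker, powMonoidHom_apply, ← map_pow] at hx'
    rw [← Abelianization.ker_of]
    exact MonoidHom.mem_ker.mpr hx'
  have h1b : frattini ↥B ≤ commutator ↥B :=
    Cfsg.Agent.helper1.frattini_le_of_elemAb_quot (p := p) (commutator ↥B) le_rfl hpow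
  have h1 : (frattini ↥B).map B.subtype = ⁅B, B⁆ := by
    rw [le_antisymm h1b h1a, Subgroup.map_subtype_commutator]
  refine ⟨hBn, hBY, hBY', h1, hBBC.trans hUBC.symm, hUBC, ?_, h6, h7⟩
  rw [hUBC]; exact hCZ

/-- Let L be a finite group of characteristic p, L₀ a maximal subgroup, Y an elementary abelian p-subgroup of L₀ with L Y-minimal and O_p(L) ≤ N_L(Y). Put A = the normal closure of O_p(L) ∩ Y in L. Then for every g ∈ L outside L₀: Φ(A) = A' = [A ∩ Y, A] = [A ∩ Y, A ∩ gYg⁻¹] ≤ C_Y(L), and Y ∩ gYg⁻¹ = (A ∩ Y) ∩ (A ∩ gYg⁻¹) = C_Y(L) = C_A(L). -/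
theorem result {L : Type*} [Group L] [Finite L] {p : ℕ} [Fact p.Prime] (hchar : Subgroup.centralizer (Cfsg.pCore p L : Set L) ≤ Cfsg.pCore p L) (L₀ : Subgroup L) (hL₀ : IsCoatom L₀) (Y : Subgroup L) (hYL₀ : Y ≤ L₀) (hYel : Cfsg.IsElementaryAbelian p Y) (hmin : Cfsg.IsMinimalOver Y) (hOY : Cfsg.pCore p L ≤ Subgroup.normalizer (Y : Set L)) (A : Subgroup L) (hA : A = Subgroup.normalClosure (((Cfsg.pCore p L ⊓ Y : Subgroup L)) : Set L)) (g : L) (hg : g ∉ L₀) : (frattini ↥A).map A.subtype = ⁅A, A⁆ ∧ ⁅A, A⁆ = ⁅A ⊓ Y, A⁆ ∧ ⁅A ⊓ Y, A⁆ = ⁅A ⊓ Y, A ⊓ Y.map (MulAut.conj g).toMonoidHom⁆ ∧ ⁅A ⊓ Y, A⁆ ≤ Y ⊓ Subgroup.center L ∧ Y ⊓ Y.map (MulAut.conj g).toMonoidHom = Y ⊓ Subgroup.center L ∧ (A ⊓ Y) ⊓ (A ⊓ Y.map (MulAut.conj g).toMonoidHom) = Y ⊓ Subgroup.center L ∧ A ⊓ Subgroup.center L = Y ⊓ Subgroup.center L := by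
  have hQn : (Cfsg.pCore p L).Normal := pCore_normal' p
  have hQp : IsPGroup p (Cfsg.pCore p L) := pCore_isPGroup' p
  have h := yMinData_of hL₀ hYL₀ hmin
  obtain ⟨hYcomm, hYexp⟩ := hYel
  have hYc := comm_of_isMulCommutative hYcomm
  have hY'comm : IsMulCommutative ↥(cj g Y) := Subgroup.map_isMulCommutative Y _
  have hY'c := comm_of_isMulCommutative hY'comm
  have htop : Y ⊔ cj g Y = ⊤ := h.sup_cj_eq_top g hg
  have hinf : Y ⊓ cj g Y = Y ⊓ Subgroup.center L := h.inf_cj_eq hYcomm g hg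
  have hgQ : cj g (Cfsg.pCore p L) = Cfsg.pCore p L := cj_eq_of_normal' g _
  have hOY' : Cfsg.pCore p L ≤ Subgroup.normalizer ((cj g Y : Subgroup L) : Set L) := by
    have := cj_mono (g := g) hOY
    rwa [hgQ, cj_normalizer] at this
  have hZQ : Subgroup.center L ≤ Cfsg.pCore p L :=
    (Subgroup.center_le_centralizer _).trans hchar
  have hY'exp : ∀ a ∈ cj g Y, a ^ p = 1 := by
    intro a ha
    have h1 := hYexp _ (mem_cj.mp ha)
    have h2 : a ^ p = g * (g⁻¹ * a * g) ^ p * g⁻¹ := by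
      rw [← conj_pow]; congr 1; group
    rw [h2, h1]; group
  have hinf' : Y ⊓ cj g Y = cj g Y ⊓ Subgroup.center L := by
    apply le_antisymm
    · intro x hx
      have hx' : x ∈ Y ⊓ Subgroup.center L := by rw [← hinf]; exact hx
      exact Subgroup.mem_inf.mpr ⟨hx.2, hx'.2⟩
    · rintro x ⟨hx1, hx2⟩
      refine Subgroup.mem_inf.mpr ⟨?_, hx1⟩
      have h1 := mem_cj.mp hx1
      have e : g⁻¹ * x * g = x := by
        have := Subgroup.mem_center_iff.mp hx2 g
        calc g⁻¹ * x * g = g⁻¹ * (x * g) := by group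
          _ = g⁻¹ * (g * x) := by rw [this]
          _ = x := by group
      rw [e] at h1
      exact h1
  obtain ⟨hBn, hBY, hBY', r1, r2, r3, r4, r6, r7⟩ := core (Cfsg.pCore p L) Y (cj g Y)
    (Cfsg.pCore p L ⊓ Y) (Cfsg.pCore p L ⊓ cj g Y)
    ((Cfsg.pCore p L ⊓ Y) ⊔ (Cfsg.pCore p L ⊓ cj g Y)) hQn hQp hZQ hYc hY'c hYexp hY'exp hOY hOY'
    htop hinf hinf' rfl rfl rfl
  have hAB : A = (Cfsg.pCore p L ⊓ Y) ⊔ (Cfsg.pCore p L ⊓ cj g Y) := by
    rw [hA]
    apply le_antisymm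
    · exact Subgroup.normalClosure_le_normal
        (show ((Cfsg.pCore p L ⊓ Y : Subgroup L) : Set L) ⊆
          ((Cfsg.pCore p L ⊓ Y) ⊔ (Cfsg.pCore p L ⊓ cj g Y) : Subgroup L) from
          SetLike.coe_subset_coe.mpr le_sup_left)
    · apply sup_le
      · exact Subgroup.le_normalClosure
      · have e1 : cj g (Cfsg.pCore p L ⊓ Y) = Cfsg.pCore p L ⊓ cj g Y := by rw [cj_inf, hgQ]
        have e2 : cj g (Subgroup.normalClosure ((Cfsg.pCore p L ⊓ Y : Subgroup L) : Set L)) =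
            Subgroup.normalClosure ((Cfsg.pCore p L ⊓ Y : Subgroup L) : Set L) :=
          cj_eq_of_normal' g _
        rw [← e1, ← e2]
        exact cj_mono Subgroup.le_normalClosure
  subst hAB
  refine ⟨r1, ?_, ?_, ?_, hinf, ?_, r7⟩
  · rw [hBY]; exact r2
  · show ⁅(Cfsg.pCore p L ⊓ Y ⊔ Cfsg.pCore p L ⊓ cj g Y) ⊓ Y,
        Cfsg.pCore p L ⊓ Y ⊔ Cfsg.pCore p L ⊓ cj g Y⁆ =
      ⁅(Cfsg.pCore p L ⊓ Y ⊔ Cfsg.pCore p L ⊓ cj g Y) ⊓ Y,
        (Cfsg.pCore p L ⊓ Y ⊔ Cfsg.pCore p L ⊓ cj g Y) ⊓ cj g Y⁆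
    rw [hBY, hBY']; exact r3
  · rw [hBY]; exact r4
  · show ((Cfsg.pCore p L ⊓ Y ⊔ Cfsg.pCore p L ⊓ cj g Y) ⊓ Y) ⊓
        ((Cfsg.pCore p L ⊓ Y ⊔ Cfsg.pCore p L ⊓ cj g Y) ⊓ cj g Y) = _
    rw [hBY, hBY']; exact r6

end Cfsg.Agent.S2837
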