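import Cfsg.Statements.S2838
import Mathlib
import Cfsg.Agent.Lib_helper14_WC
-- import your own Cfsg.Agent.* helpers here

set_option autoImplicit false
open Cfsg

namespace Cfsg.Agent.S2838

open scoped commutatorElement
open Cfsg.Agent.helper14 Cfsg.Agent.helper7

variable {H : Type*} [Group H]

/-- Under condition (B), `Q` is normal in every Sylow subgroup containing it. -/
theorem sylow_le_normalizer_of_B [Finite H] {p : ℕ} [Fact p.Prime] (Q : Subgroup H)
    (hB : ∀ g : H, ⁅Q, cj g Q⁆ ≤ Q ⊓ cj g Q → cj g Q = Q) (T : Sylow p H)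
    (hQT : Q ≤ (T : Subgroup H)) : (T : Subgroup H) ≤ Subgroup.normalizer (Q : Set H) := by
  by_contra hnot
  have hlt : (T : Subgroup H) ⊓ Subgroup.normalizer (Q : Set H) < (T : Subgroup H) := by
    refine lt_of_le_of_ne inf_le_left ?_
    intro heq
    apply hnot
    rw [← heq]; exact inf_le_right
  have h2 := lt_inf_normalizer_of_lt' T.isPGroup' hlt
  obtain ⟨t, ht, htn⟩ := SetLike.exists_of_lt h2
  obtain ⟨htT, htD⟩ := ht
  have htQ : t ∉ Subgroup.normalizer (Q : Set H) := fun h => htn ⟨htT, h⟩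
  have hQD : Q ≤ (T : Subgroup H) ⊓ Subgroup.normalizer (Q : Set H) :=
    le_inf hQT Subgroup.le_normalizer
  have hD : cj t ((T : Subgroup H) ⊓ Subgroup.normalizer (Q : Set H)) =
      (T : Subgroup H) ⊓ Subgroup.normalizer (Q : Set H) := cj_eq_of_mem_normalizer htD
  have hP1 : cj t Q ≤ Subgroup.normalizer (Q : Set H) := by
    have := cj_mono (g := t) hQD
    rw [hD] at this
    exact this.trans inf_le_right
  have hP2 : Q ≤ Subgroup.normalizer ((cj t Q : Subgroup H) : Set H) := by
    have h3 : Q ≤ cj t ((T : Subgroup H) ⊓ Subgroup.normalizer (Q : Set H)) := by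
      rw [hD]; exact hQD
    rw [cj_inf, cj_normalizer] at h3
    exact h3.trans inf_le_right
  have := hB t (comm_le_inf_of_le_normalizer hP1 hP2)
  exact htQ (mem_normalizer_of_cj_eq this)

/-- For a nontrivial p-subgroup Q of a finite group H the following are equivalent: Q is a weakly closed subgroup (it is the only H-conjugate of itself inside some Sylow p-subgroup containing it); Q = P for every conjugate P of Q with [Q, P] ≤ Q ∩ P; Q is normal in N_H(R) for every p-subgroup R of H containing Q. -/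
theorem result {H : Type*} [Group H] [Finite H] {p : ℕ} [Fact p.Prime] (Q : Subgroup H) (hQp : IsPGroup p ↥Q) (hQ1 : Q ≠ ⊥) : (Cfsg.IsWeaklyClosedSubgroup p Q ↔ ∀ g : H, ⁅Q, ((Q : Subgroup H).map (MulAut.conj (g : H)).toMonoidHom)⁆ ≤ Q ⊓ ((Q : Subgroup H).map (MulAut.conj (g : H)).toMonoidHom) → ((Q : Subgroup H).map (MulAut.conj (g : H)).toMonoidHom) = Q) ∧ (Cfsg.IsWeaklyClosedSubgroup p Q ↔ ∀ R : Subgroup H, IsPGroup p ↥R → Q ≤ R → Subgroup.normalizer ((R : Subgroup H) : Set H) ≤ Subgroup.normalizer ((Q : Subgroup H) : Set H)) := by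
  refine ⟨⟨?_, ?_⟩, ⟨?_, ?_⟩⟩
  · -- A ⇒ B
    intro hA g hg
    have hw := wcin_top_of_wc hA
    have hPn : cj g Q ≤ Subgroup.normalizer (Q : Set H) :=
      le_normalizer_of_comm_le (hg.trans inf_le_left)
    have hRp : IsPGroup p (cj g Q ⊔ Q : Subgroup H) :=
      IsPGroup.to_sup_of_normal_right' (hQp.map _) hQp hPn
    exact hw.2 g (Subgroup.mem_top g) _ le_top hRp le_sup_right le_sup_left
  · -- B ⇒ A
    intro hB
    obtain ⟨T, hQT⟩ := hQp.exists_le_sylow
    refine ⟨T, hQT, ?_⟩
    intro g hg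
    have h1 := sylow_le_normalizer_of_B Q hB T hQT
    have hT' : ((g⁻¹ • T : Sylow p H) : Subgroup H) = cj g⁻¹ (T : Subgroup H) :=
      Cfsg.Agent.helper10.sylow_smul_eq_map_conj T g⁻¹
    have hQT' : Q ≤ ((g⁻¹ • T : Sylow p H) : Subgroup H) := by
      rw [hT']
      have := cj_mono (g := g⁻¹) hg
      rwa [cj_inv_cj] at this
    have h2 := sylow_le_normalizer_of_B Q hB (g⁻¹ • T) hQT'
    rw [hT'] at h2
    have h3 : (T : Subgroup H) ≤ Subgroup.normalizer ((cj g Q : Subgroup H) : Set H) := by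
      have := cj_mono (g := g) h2
      rwa [cj_cj_inv, cj_normalizer] at this
    exact hB g (comm_le_inf_of_le_normalizer (hg.trans h1) (hQT.trans h3))
  · -- A ⇒ C
    intro hA R hRp hQR
    exact (wcin_top_of_wc hA).normalizer_le R hRp hQR
  · -- C ⇒ A
    intro hC
    obtain ⟨T, hQT⟩ := hQp.exists_le_sylow
    refine ⟨T, hQT, ?_⟩
    intro g hg
    have hNT : Subgroup.normalizer ((T : Subgroup H) : Set H) ≤ Subgroup.normalizer (Q : Set H) :=
      hC T T.isPGroup' hQT
    -- `Q ≤ g⁻¹ T g`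
    have hQT' : Q ≤ cj g⁻¹ (T : Subgroup H) := by
      have := cj_mono (g := g⁻¹) hg
      rwa [cj_inv_cj] at this
    have h1 : Subgroup.normalizer ((cj g⁻¹ (T : Subgroup H) : Subgroup H) : Set H) ≤
        Subgroup.normalizer (Q : Set H) := hC _ (T.isPGroup'.map _) hQT'
    -- `N(T) ≤ N(P)` and `N(gTg⁻¹) ≤ N(P)` where `P = gQg⁻¹`
    have h2 : Subgroup.normalizer ((T : Subgroup H) : Set H) ≤
        Subgroup.normalizer ((cj g Q : Subgroup H) : Set H) := by
      have := cj_mono (g := g) h1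
      rwa [cj_normalizer, cj_cj_inv, cj_normalizer] at this
    have h3 : Subgroup.normalizer ((cj g (T : Subgroup H) : Subgroup H) : Set H) ≤
        Subgroup.normalizer ((cj g Q : Subgroup H) : Set H) := by
      have := cj_mono (g := g) hNT
      rwa [cj_normalizer, cj_normalizer] at this
    have hgT : ((g • T : Sylow p H) : Subgroup H) = cj g (T : Subgroup H) :=
      Cfsg.Agent.helper10.sylow_smul_eq_map_conj T g
    obtain ⟨x, hx, hxe⟩ := Cfsg.Agent.helper10.sylow_conj_in_subgroup T (g • T)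
      (Subgroup.normalizer ((cj g Q : Subgroup H) : Set H)) (Subgroup.le_normalizer.trans h2)
      (by rw [hgT]; exact Subgroup.le_normalizer.trans h3)
    rw [hgT] at hxe
    have h4 : cj (x * g) (T : Subgroup H) = (T : Subgroup H) := by
      rw [← cj_cj]; exact hxe
    have h5 : cj (x * g) Q = Q := cj_eq_of_mem_normalizer (hNT (mem_normalizer_of_cj_eq h4))
    have h6 : cj x (cj g Q) = cj g Q := cj_eq_of_mem_normalizer hx
    rw [cj_cj, h5] at h6
    exact h6.symm

end Cfsg.Agent.S2838
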