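import Cfsg.Statements.S2839
import Mathlib
import Cfsg.Agent.Lib_helper14_WC2
import Cfsg.Agent.Lib_helper14_PReduced2
import Cfsg.Agent.Lib_helper10_PResidual
-- import your own Cfsg.Agent.* helpers here

set_option autoImplicit false
open Cfsg

namespace Cfsg.Agent.S2839

/-- Let Q be a nontrivial p-subgroup of the finite group H that is a weakly closed subgroup, K a subgroup containing Q and N a normal subgroup of H. Then Q is a weakly closed subgroup of K; every H-conjugate of Q contained in K is a K-conjugate of Q; N_K(Q) contains a Sylow p-subgroup of K; N = N_N(Q)·O^p(N); and QN/N is a weakly closed subgroup of H/N. -/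
theorem result {H : Type*} [Group H] [Finite H] {p : ℕ} [Fact p.Prime] (Q : Subgroup H) (hQp : IsPGroup p ↥Q) (hQ1 : Q ≠ ⊥) (hwc : Cfsg.IsWeaklyClosedSubgroup p Q) (K : Subgroup H) (hQK : Q ≤ K) (N' : Subgroup H) [N'.Normal] : Cfsg.IsWeaklyClosedSubgroup p (Q.subgroupOf K) ∧ (∀ g : H, ((Q : Subgroup H).map (MulAut.conj (g : H)).toMonoidHom) ≤ K → ∃ k ∈ K, ((Q : Subgroup H).map (MulAut.conj (g : H)).toMonoidHom) = ((Q : Subgroup H).map (MulAut.conj (k : H)).toMonoidHom)) ∧ Cfsg.IsParabolic p ((Subgroup.normalizer ((Q : Subgroup H) : Set H)).subgroupOf K) ∧ (N' ⊓ Subgroup.normalizer ((Q : Subgroup H) : Set H)) ⊔ (Cfsg.pResidual p ↥N').map N'.subtype = N' ∧ Cfsg.IsWeaklyClosedSubgroup p (Q.map (QuotientGroup.mk' N')) := by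
  have hw := Cfsg.Agent.helper14.wcin_top_of_wc hwc
  refine ⟨Cfsg.Agent.helper14.wc_subgroupOf_of_wcin hQp (hw.mono hQK le_top),
    fun g hg => hw.conj_in hQp K hQK g hg, ?_, ?_, Cfsg.Agent.helper14.wc_map_mk hwc N'⟩
  · -- N_K(Q) is parabolic in K
    have hQ' : IsPGroup p (Q.subgroupOf K) := hQp.comap_subtype
    obtain ⟨P, hP⟩ := hQ'.exists_le_sylow
    refine ⟨P, ?_⟩
    intro x hx
    rw [Subgroup.mem_subgroupOf]
    have hR : IsPGroup p ((P : Subgroup ↥K).map K.subtype) := P.isPGroup'.map _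
    have hQR : Q ≤ (P : Subgroup ↥K).map K.subtype := by
      intro q hq
      exact Subgroup.mem_map.mpr ⟨⟨q, hQK hq⟩, hP (Subgroup.mem_subgroupOf.mpr hq), rfl⟩
    have h1 := hw.normalizer_le _ hR hQR
    exact h1 (Subgroup.le_normalizer (Subgroup.mem_map.mpr ⟨x, hx, rfl⟩))
  · -- N' = N_{N'}(Q) O^p(N')
    apply le_antisymm
    · exact sup_le inf_le_left (Subgroup.map_subtype_le _)
    · obtain ⟨T, hQT⟩ := hQp.exists_le_sylow
      have hTQ : (T : Subgroup H) ≤ Subgroup.normalizer (Q : Set H) :=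
        Subgroup.le_normalizer.trans (hw.normalizer_le _ T.isPGroup' hQT)
      have hTN : (T : Subgroup H) ≤ Subgroup.normalizer (N' : Set H) := by
        rw [Subgroup.normalizer_eq_top]; exact le_top
      obtain ⟨P, hP⟩ := Cfsg.Agent.helper14.exists_sylow_inf_of_le_normalizer T N' hTN
      intro n hn
      obtain ⟨s, hs, k, hk, he⟩ := Cfsg.Agent.helper10.exists_mul_of_pResidual_sylow p P ⟨n, hn⟩
      have he' : n = (s : H) * (k : H) := by
        have := congrArg Subtype.val he
        simpa using this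
      rw [he']
      have hs' : s ∈ ((T : Subgroup H) ⊓ N').subgroupOf N' := by rw [← hP]; exact hs
      rw [Subgroup.mem_subgroupOf] at hs'
      exact Subgroup.mul_mem _
        (Subgroup.mem_sup_left ⟨hs'.2, hTQ hs'.1⟩)
        (Subgroup.mem_sup_right (Subgroup.mem_map.mpr ⟨k, hk, rfl⟩))

end Cfsg.Agent.S2839
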