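import Cfsg.Statements.S2840
import Mathlib
import Cfsg.Agent.Lib_helper14_WC2
import Cfsg.Agent.Lib_helper14_OpSub2
-- import your own Cfsg.Agent.* helpers here

set_option autoImplicit false
open Cfsg

namespace Cfsg.Agent.S2840

/-- Let Q be a nontrivial p-subgroup of the finite group H that is a weakly closed subgroup and K a subgroup containing Q; let K° be the weak closure of Q in K (generated by the H-conjugates of Q inside K). Then K° is generated by the K-conjugates of Q, and K° is the subnormal closure of Q in K. -/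
theorem result {H : Type*} [Group H] [Finite H] {p : ℕ} [Fact p.Prime] (Q : Subgroup H) (hQp : IsPGroup p ↥Q) (hQ1 : Q ≠ ⊥) (hwc : Cfsg.IsWeaklyClosedSubgroup p Q) (K : Subgroup H) (hQK : Q ≤ K) (Kc : Subgroup H) (hKc : Kc = Cfsg.weakClosure Q K) : Kc = ⨆ k : ↥K, ((Q : Subgroup H).map (MulAut.conj ((k : H) : H)).toMonoidHom) ∧ Kc = (Cfsg.subnormalClosure (Q.subgroupOf K)).map K.subtype := by
  subst hKc
  have hw := Cfsg.Agent.helper14.wcin_top_of_wc hwc
  have hcjK : ∀ k ∈ K, Cfsg.Agent.helper7.cj k Q ≤ K := by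
    intro k hk
    have := Cfsg.Agent.helper7.cj_mono (g := k) hQK
    rwa [Cfsg.Agent.helper7.cj_eq_of_mem_normalizer (Subgroup.le_normalizer hk)] at this
  have h1 : Cfsg.weakClosure Q K =
      ⨆ k : ↥K, ((Q : Subgroup H).map (MulAut.conj ((k : H) : H)).toMonoidHom) := by
    unfold Cfsg.weakClosure
    apply le_antisymm
    · apply iSup_le
      rintro ⟨g, hg⟩
      obtain ⟨k, hk, he⟩ := hw.conj_in hQp K hQK g hg
      show Cfsg.Agent.helper7.cj g Q ≤ _
      rw [he]
      exact le_iSup (fun k : ↥K => ((Q : Subgroup H).map (MulAut.conj ((k : H) : H)).toMonoidHom))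
        ⟨k, hk⟩
    · apply iSup_le
      intro k
      exact le_iSup (fun g : {g : H // Q.map (MulAut.conj g).toMonoidHom ≤ K} =>
        Q.map (MulAut.conj (g : H)).toMonoidHom) ⟨(k : H), hcjK k k.2⟩
  refine ⟨h1, ?_⟩
  have hKcK : Cfsg.weakClosure Q K ≤ K := by
    rw [h1]
    apply iSup_le
    intro k
    exact hcjK k k.2
  have hQKc : Q ≤ Cfsg.weakClosure Q K := by
    rw [h1]
    have h5 : (Q : Subgroup H).map (MulAut.conj (((1 : ↥K) : H))).toMonoidHom ≤
        ⨆ k : ↥K, ((Q : Subgroup H).map (MulAut.conj ((k : H) : H)).toMonoidHom) :=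
      le_iSup (fun k : ↥K => ((Q : Subgroup H).map (MulAut.conj ((k : H) : H)).toMonoidHom))
        (1 : ↥K)
    have e : (Q : Subgroup H).map (MulAut.conj (((1 : ↥K) : H))).toMonoidHom = Q := by
      rw [Subgroup.coe_one]; exact Cfsg.Agent.helper7.cj_one Q
    rwa [e] at h5
  obtain ⟨hs1, hs2, hs3⟩ := Cfsg.Agent.helper14.subnormalClosure_spec (Q.subgroupOf K)
  apply le_antisymm
  · -- `K° ≤ M`
    have hsnM : Cfsg.Agent.helper7.SN
        ((Cfsg.subnormalClosure (Q.subgroupOf K)).map K.subtype) K :=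
      Cfsg.Agent.helper7.sn_map_subtype (Cfsg.Agent.helper7.sn_top_iff.1 hs2)
    have hQM : Q ≤ (Cfsg.subnormalClosure (Q.subgroupOf K)).map K.subtype := by
      have := Subgroup.map_mono (f := K.subtype) hs1
      rwa [Subgroup.map_subgroupOf_eq_of_le hQK] at this
    rw [h1]
    apply iSup_le
    intro k
    exact hw.cj_le_of_sn hQp hsnM hQM k k.2
  · -- `M ≤ K°`
    have hKn : K ≤ Subgroup.normalizer ((Cfsg.weakClosure Q K : Subgroup H) : Set H) := by
      apply Cfsg.Agent.helper14.le_normalizer_of_map_conj_le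
      intro k hk
      rw [h1, Subgroup.map_iSup]
      apply iSup_le
      intro k'
      have e : ((Q : Subgroup H).map (MulAut.conj ((k' : H) : H)).toMonoidHom).map
          (MulAut.conj k).toMonoidHom = Q.map (MulAut.conj (k * (k' : H))).toMonoidHom :=
        Cfsg.Agent.helper7.cj_cj k (k' : H) Q
      rw [e]
      exact le_iSup (fun k : ↥K => ((Q : Subgroup H).map (MulAut.conj ((k : H) : H)).toMonoidHom))
        ⟨k * (k' : H), K.mul_mem hk k'.2⟩
    have hsn : Cfsg.Agent.helper7.SN ((Cfsg.weakClosure Q K).subgroupOf K) ⊤ := by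
      rw [Cfsg.Agent.helper7.sn_top_iff]
      haveI : ((Cfsg.weakClosure Q K).subgroupOf K).Normal :=
        (Subgroup.normal_subgroupOf_iff_le_normalizer hKcK).2 hKn
      exact Subgroup.Normal.isSubnormal inferInstance
    have h3 : Cfsg.subnormalClosure (Q.subgroupOf K) ≤ (Cfsg.weakClosure Q K).subgroupOf K :=
      hs3 _ (Subgroup.comap_mono hQKc) hsn
    have h2 := Subgroup.map_mono (f := K.subtype) h3
    rwa [Subgroup.map_subgroupOf_eq_of_le hKcK] at h2

end Cfsg.Agent.S2840
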