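import Cfsg.Statements.S2841
import Mathlib
import Cfsg.Agent.Lib_helper14_WC2
import Cfsg.Agent.Lib_helper14_OpSub2
import Cfsg.Agent.Lib_helper14_PIrr
-- import your own Cfsg.Agent.* helpers here

set_option autoImplicit false
open Cfsg

namespace Cfsg.Agent.S2841

open scoped commutatorElement
open Cfsg.Agent.helper14 Cfsg.Agent.helper7

/-- Let Q be a nontrivial p-subgroup of the finite group H that is a weakly closed subgroup and N a normal subgroup of H. Then N = N_N(Q)·[N, Q] and [N, Q] = (Q ∩ [N, Q])·[N, Q, Q]. -/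
theorem result {H : Type*} [Group H] [Finite H] {p : ℕ} [Fact p.Prime] (Q : Subgroup H) (hQp : IsPGroup p ↥Q) (hQ1 : Q ≠ ⊥) (hwc : Cfsg.IsWeaklyClosedSubgroup p Q) (N' : Subgroup H) [N'.Normal] : (∀ n : H, n ∈ N' → ∃ a ∈ N' ⊓ Subgroup.normalizer ((Q : Subgroup H) : Set H), ∃ b ∈ ⁅N', Q⁆, n = a * b) ∧ (∀ c : H, c ∈ ⁅N', Q⁆ → ∃ a ∈ Q ⊓ ⁅N', Q⁆, ∃ b ∈ ⁅⁅N', Q⁆, Q⁆, c = a * b) := by
  have hw := wcin_top_of_wc hwc
  have hDN : ⁅N', Q⁆ ≤ N' := Subgroup.commutator_le_left N' Q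
  have hQD : Q ≤ Subgroup.normalizer ((⁅N', Q⁆ : Subgroup H) : Set H) := by
    rw [Subgroup.commutator_comm]; exact left_le_normalizer_commutator Q N'
  have hQX : Q ≤ ⁅N', Q⁆ ⊔ Q := le_sup_right
  refine ⟨?_, ?_⟩
  · intro n hn
    have h1 : cj n⁻¹ Q ≤ ⁅N', Q⁆ ⊔ Q := cj_le_comm_sup N' Q n⁻¹ (N'.inv_mem hn)
    obtain ⟨x, hx, he⟩ := hw.conj_in hQp _ hQX n⁻¹ h1
    obtain ⟨d, hd, q, hq, rfl⟩ := mem_sup_of_normalizer hQD hx
    have h2 : cj (d * q) Q = cj d Q := by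
      rw [← cj_cj, cj_eq_of_mem_normalizer (Subgroup.le_normalizer hq)]
    rw [h2] at he
    have h3 : cj (d⁻¹ * n⁻¹) Q = Q := by
      rw [← cj_cj, he, cj_inv_cj]
    have h4 : d⁻¹ * n⁻¹ ∈ Subgroup.normalizer (Q : Set H) := mem_normalizer_of_cj_eq h3
    refine ⟨(d⁻¹ * n⁻¹)⁻¹, ⟨?_, Subgroup.inv_mem _ h4⟩, d⁻¹, Subgroup.inv_mem _ hd, by group⟩
    exact N'.inv_mem (N'.mul_mem (N'.inv_mem (hDN hd)) (N'.inv_mem hn))
  · have hMD : ⁅⁅N', Q⁆, Q⁆ ≤ ⁅N', Q⁆ := commutator_le_left_of_le_normalizer _ Q hQD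
    have hQM : Q ≤ Subgroup.normalizer ((⁅⁅N', Q⁆, Q⁆ : Subgroup H) : Set H) := by
      rw [Subgroup.commutator_comm]; exact left_le_normalizer_commutator Q _
    have hDM : ⁅N', Q⁆ ≤ Subgroup.normalizer ((⁅⁅N', Q⁆, Q⁆ : Subgroup H) : Set H) :=
      left_le_normalizer_commutator _ Q
    -- `Y = M ⊔ Q` is normalized by `X = D ⊔ Q`
    have hDY : ⁅N', Q⁆ ≤ Subgroup.normalizer ((⁅⁅N', Q⁆, Q⁆ ⊔ Q : Subgroup H) : Set H) := by
      apply le_normalizer_of_map_conj_le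
      intro d hd
      rw [Subgroup.map_sup]
      apply sup_le
      · have : cj d ⁅⁅N', Q⁆, Q⁆ = ⁅⁅N', Q⁆, Q⁆ := cj_eq_of_mem_normalizer (hDM hd)
        exact (le_of_eq this).trans le_sup_left
      · exact cj_le_comm_sup ⁅N', Q⁆ Q d hd
    have hQY : Q ≤ Subgroup.normalizer ((⁅⁅N', Q⁆, Q⁆ ⊔ Q : Subgroup H) : Set H) :=
      le_normalizer_sup hQM Subgroup.le_normalizer
    have hXY : ⁅N', Q⁆ ⊔ Q ≤ Subgroup.normalizer ((⁅⁅N', Q⁆, Q⁆ ⊔ Q : Subgroup H) : Set H) :=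
      sup_le hDY hQY
    have hcjY : ∀ n ∈ N', cj n Q ≤ ⁅⁅N', Q⁆, Q⁆ ⊔ Q := by
      intro n hn
      obtain ⟨x, hx, he⟩ := hw.conj_in hQp _ hQX n (cj_le_comm_sup N' Q n hn)
      rw [he]
      have := cj_mono (g := x) (le_sup_right : Q ≤ ⁅⁅N', Q⁆, Q⁆ ⊔ Q)
      rwa [cj_eq_of_mem_normalizer (hXY hx)] at this
    have hDleY : ⁅N', Q⁆ ≤ ⁅⁅N', Q⁆, Q⁆ ⊔ Q := by
      rw [Subgroup.commutator_le]
      intro n hn q hq
      have h1 : n * q * n⁻¹ ∈ cj n Q := cj_mem_cj hq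
      have h2 : ⁅n, q⁆ = (n * q * n⁻¹) * q⁻¹ := by rw [commutatorElement_def]
      rw [h2]
      exact Subgroup.mul_mem _ (hcjY n hn h1) (Subgroup.mem_sup_right (Q.inv_mem hq))
    intro c hc
    obtain ⟨m, hm, q', hq', rfl⟩ := mem_sup_of_normalizer hQM (hDleY hc)
    have hq'D : q' ∈ ⁅N', Q⁆ := by
      have e : q' = m⁻¹ * (m * q') := by group
      rw [e]
      exact Subgroup.mul_mem _ (Subgroup.inv_mem _ (hMD hm)) hc
    refine ⟨q', ⟨hq', hq'D⟩, q'⁻¹ * m * q'⁻¹⁻¹, ?_, by group⟩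
    exact (Subgroup.mem_normalizer_iff.mp (hQM (Q.inv_mem hq')) m).mp hm

end Cfsg.Agent.S2841
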