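import Cfsg.Statements.S2842
import Mathlib
import Mathlib
import Cfsg.Agent.Lib_helper14_WCChar
-- import your own Cfsg.Agent.* helpers here

set_option autoImplicit false
open Cfsg

namespace Cfsg.Agent.S2842


open scoped commutatorElement
open Cfsg.Agent.helper14 Cfsg.Agent.helper7

/-- Let Q be a nontrivial p-subgroup of the finite group H that is a weakly closed subgroup with C_H(Q) ≤ Q, and Q ≤ L ≤ H. Suppose H has characteristic p, or more generally that C_H(y) has characteristic p for some nonidentity y ∈ C_{O_p(L)}(Q). Then [Q, C_H(O_p(L))] ≤ Q ∩ O_p(L), C_H(O_p(L)) is a p-group, and L has characteristic p. -/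
theorem result {H : Type*} [Group H] [Finite H] {p : ℕ} [Fact p.Prime] (Q : Subgroup H) (hQp : IsPGroup p ↥Q) (hQ1 : Q ≠ ⊥) (hwc : Cfsg.IsWeaklyClosedSubgroup p Q) (hCQ : Subgroup.centralizer ((Q : Subgroup H) : Set H) ≤ Q) (L : Subgroup H) (hQL : Q ≤ L) (hyp : Subgroup.centralizer (Cfsg.pCore p H : Set H) ≤ Cfsg.pCore p H ∨ ∃ y : H, y ≠ 1 ∧ y ∈ (Cfsg.pCoreOf p L) ⊓ Subgroup.centralizer ((Q : Subgroup H) : Set H) ∧ Subgroup.centralizer (Cfsg.pCore p ↥(Subgroup.centralizer ({y} : Set H)) : Set ↥(Subgroup.centralizer ({y} : Set H))) ≤ Cfsg.pCore p ↥(Subgroup.centralizer ({y} : Set H))) : ⁅Q, Subgroup.centralizer (((Cfsg.pCoreOf p L) : Subgroup H) : Set H)⁆ ≤ Q ⊓ (Cfsg.pCoreOf p L) ∧ IsPGroup p ↥(Subgroup.centralizer (((Cfsg.pCoreOf p L) : Subgroup H) : Set H)) ∧ Subgroup.centralizer (Cfsg.pCore p ↥L : Set ↥L) ≤ Cfsg.pCore p ↥L := by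
  have hwc' : WCin p ⊤ Q := wcin_top_of_wc hwc
  have hDN : Subgroup.centralizer (((Cfsg.pCoreOf p L) : Subgroup H) : Set H) ≤
      Subgroup.normalizer (Q : Set H) := by
    rcases hyp with h | ⟨y, _, hy2, hy3⟩
    · have hVn : (Cfsg.pCore p H).Normal := pCore_normal' p
      have hVp : IsPGroup p ↥(Cfsg.pCore p H) := pCore_isPGroup' p
      have hfV : IsPGroup p ↥((⊤ : Subgroup H) ⊓ Subgroup.centralizer (Cfsg.pCore p H : Set H)) :=
        hVp.to_le (inf_le_right.trans h)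
      have := wc_charp_rel ⊤ Q L (Cfsg.pCore p H) hQp hwc' le_top hVp
        (by rw [Subgroup.normalizer_eq_top]) hfV hQL le_top
      rwa [top_inf_eq] at this
    · exact wc_charp_y Q L hQp hwc' hCQ hQL y hy2.1 hy2.2 hy3
  have hcons := wc_consequences ⊤ Q L hQp (inf_le_right.trans hCQ) hQL le_top
    (by rw [top_inf_eq]; exact hDN)
  rw [top_inf_eq] at hcons
  exact ⟨hcons.1, hcons.2, charp_of_isPGroup L (hcons.2.to_le inf_le_right)⟩

end Cfsg.Agent.S2842
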