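import Cfsg.Statements.S2844
import Mathlib
import Cfsg.Agent.Lib_helper14_Large
-- import your own Cfsg.Agent.* helpers here

set_option autoImplicit false
open Cfsg

namespace Cfsg.Agent.S2844

/-- Let Q be a nontrivial large p-subgroup of the finite group H and Q• = O_p(N_H(Q)). Then for every g ∈ H outside N_H(Q): C_H(Q) ∩ C_H(gQg⁻¹) = 1, C_H(Q•) ∩ C_H(gQ•g⁻¹) = 1, Z(Q) ∩ Z(gQg⁻¹) = 1 and Z(Q•) ∩ Z(gQ•g⁻¹) = 1; moreover N_H(Q) = N_H(Q•) and Q• is large in H. -/
theorem result {H : Type*} [Group H] [Finite H] {p : ℕ} [Fact p.Prime] (Q : Subgroup H) (hQp : IsPGroup p ↥Q) (hQ1 : Q ≠ ⊥) (hL : Cfsg.IsLarge Q) (Qb : Subgroup H) (hQb : Qb = Cfsg.largeBullet p Q) : (∀ g : H, g ∉ Subgroup.normalizer ((Q : Subgroup H) : Set H) → Subgroup.centralizer ((Q : Subgroup H) : Set H) ⊓ Subgroup.centralizer ((((Q : Subgroup H).map (MulAut.conj (g : H)).toMonoidHom) : Subgroup H) : Set H) = ⊥ ∧ Subgroup.centralizer ((Qb : Subgroup H) : Set H) ⊓ Subgroup.centralizer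 ((((Qb : Subgroup H).map (MulAut.conj (g : H)).toMonoidHom) : Subgroup H) : Set H) = ⊥ ∧ (Q ⊓ Subgroup.centralizer ((Q : Subgroup H) : Set H)) ⊓ (((Q : Subgroup H).map (MulAut.conj (g : H)).toMonoidHom) ⊓ Subgroup.centralizer ((((Q : Subgroup H).map (MulAut.conj (g : H)).toMonoidHom) : Subgroup H) : Set H)) = ⊥ ∧ (Qb ⊓ Subgroup.centralizer ((Qb : Subgroup H) : Set H)) ⊓ (((Qb : Subgroup H).map (MulAut.conj (g : H)).toMonoidHom) ⊓ Subgroup.centralizer ((((Qb : Subgroup H).map (MulAut.conj (g : H)).toMonoidHom) : Subgroup H) : Set H)) = ⊥) ∧ Subgroup.normalizer ((Q : Subgroup H) : Set H) = Subgroup.normalizer ((Qb : Subgroup H) : Set H) ∧ Cfsg.IsLarge Qb := by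
  subst hQb
  have hQQb : Q ≤ Cfsg.largeBullet p Q := by
    unfold Cfsg.largeBullet
    exact Cfsg.Agent.helper14.le_pCoreOf_of_normal _ Q Subgroup.le_normalizer le_rfl hQp
  have hCb : Subgroup.centralizer ((Cfsg.largeBullet p Q : Subgroup H) : Set H) ≤
      Subgroup.centralizer (Q : Set H) := Subgroup.centralizer_le hQQb
  have hQbp : IsPGroup p (Cfsg.largeBullet p Q) := by
    unfold Cfsg.largeBullet
    exact Cfsg.Agent.helper14.pCoreOf_isPGroup _
  have hQb1 : Cfsg.largeBullet p Q ≠ ⊥ := fun h => hQ1 (le_bot_iff.mp (h ▸ hQQb))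
  have hNeq : Subgroup.normalizer ((Q : Subgroup H) : Set H) =
      Subgroup.normalizer ((Cfsg.largeBullet p Q : Subgroup H) : Set H) := by
    apply le_antisymm
    · unfold Cfsg.largeBullet
      exact Cfsg.Agent.helper14.le_normalizer_pCoreOf p _
    · have hZ1 := Cfsg.Agent.helper14.center_ne_bot_of_isPGroup _ hQbp hQb1
      exact (Cfsg.Agent.helper14.normalizer_le_normalizer_center _).trans
        (hL.2 _ (inf_le_right.trans hCb) hZ1)
  refine ⟨?_, hNeq, ?_⟩
  · intro g hg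
    have h0 := Cfsg.Agent.helper14.isLarge_centralizer_inf hQp hL hQ1 g hg
    have hCbg : Subgroup.centralizer ((((Cfsg.largeBullet p Q : Subgroup H).map
        (MulAut.conj g).toMonoidHom) : Subgroup H) : Set H) ≤
        Subgroup.centralizer (((Q : Subgroup H).map (MulAut.conj g).toMonoidHom : Subgroup H) : Set H) :=
      Subgroup.centralizer_le (Subgroup.map_mono hQQb)
    refine ⟨h0, ?_, ?_, ?_⟩
    · exact le_bot_iff.mp ((inf_le_inf hCb hCbg).trans (le_of_eq h0))
    · exact le_bot_iff.mp ((inf_le_inf inf_le_right inf_le_right).trans (le_of_eq h0))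
    · exact le_bot_iff.mp ((inf_le_inf (inf_le_right.trans hCb) (inf_le_right.trans hCbg)).trans
        (le_of_eq h0))
  · refine ⟨hCb.trans (hL.1.trans hQQb), ?_⟩
    intro U hU hU1
    rw [← hNeq]
    exact hL.2 U (hU.trans hCb) hU1

end Cfsg.Agent.S2844
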