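import Cfsg.Statements.S2845
import Mathlib
import Cfsg.Agent.Lib_helper14_Large2
-- import your own Cfsg.Agent.* helpers here

set_option autoImplicit false
open Cfsg

namespace Cfsg.Agent.S2845

open scoped commutatorElement
open Cfsg.Agent.helper14 Cfsg.Agent.helper7

/-- Let Q be a nontrivial large p-subgroup of the finite group H. Then for every subgroup L ≥ Q with O_p(L) ≠ 1, C_H(O_p(L)) is a p-group and L has characteristic p, and either the weak closure L° of Q in L equals Q or C_H(L°) = 1; for every subgroup R of H containing a Sylow p-subgroup of H with O_p(R) ≠ 1, C_H(O_p(R)) ≤ O_p(R); and H has parabolic characteristic p. -/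
theorem result {H : Type*} [Group H] [Finite H] {p : ℕ} [Fact p.Prime] (Q : Subgroup H) (hQp : IsPGroup p ↥Q) (hQ1 : Q ≠ ⊥) (hL : Cfsg.IsLarge Q) : (∀ L : Subgroup H, Q ≤ L → Cfsg.pCore p ↥L ≠ ⊥ → IsPGroup p ↥(Subgroup.centralizer (((Cfsg.pCoreOf p L) : Subgroup H) : Set H)) ∧ Subgroup.centralizer (Cfsg.pCore p ↥L : Set ↥L) ≤ Cfsg.pCore p ↥L ∧ (Cfsg.weakClosure Q L = Q ∨ Subgroup.centralizer (((Cfsg.weakClosure Q L) : Subgroup H) : Set H) = ⊥)) ∧ (∀ R : Subgroup H, Cfsg.IsParabolic p R → Cfsg.pCore p ↥R ≠ ⊥ → Subgroup.centralizer (((Cfsg.pCoreOf p R) : Subgroup H) : Set H) ≤ (Cfsg.pCoreOf p R)) ∧ Cfsg.IsOfParabolicCharacteristic p H := by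
  have hne : ∀ L : Subgroup H, Cfsg.pCore p ↥L ≠ ⊥ → Cfsg.pCoreOf p L ≠ ⊥ := by
    intro L h h2
    apply h
    unfold Cfsg.pCoreOf at h2
    exact (Subgroup.map_eq_bot_iff_of_injective _ (Subgroup.subtype_injective L)).mp h2
  have key : ∀ (L : Subgroup H) (T : Sylow p H), (T : Subgroup H) ≤ L → Cfsg.pCoreOf p L ≠ ⊥ →
      IsPGroup p ↥(Subgroup.centralizer ((Cfsg.pCoreOf p L : Subgroup H) : Set H)) := by
    intro L T hTL hY1
    obtain ⟨h, hh⟩ := Cfsg.Agent.helper10.pgroup_conj_into_sylow T Q hQp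
    exact isLarge_isPGroup_centralizer_pCoreOf (isLarge_cj hL h) (hQp.map _) L (hh.trans hTL) hY1
  refine ⟨?_, ?_, ?_⟩
  · intro L hQL hY
    have h1a := isLarge_isPGroup_centralizer_pCoreOf hL hQp L hQL (hne L hY)
    refine ⟨h1a, charp_of_isPGroup L (h1a.to_le inf_le_right), ?_⟩
    have hQw : Q ≤ Cfsg.weakClosure Q L := by
      unfold Cfsg.weakClosure
      have h1 : Q.map (MulAut.conj (1 : H)).toMonoidHom ≤ L :=
        (le_of_eq (cj_one Q)).trans hQL
      have h2 := le_iSup (fun g : {g : H // Q.map (MulAut.conj g).toMonoidHom ≤ L} =>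
        Q.map (MulAut.conj (g : H)).toMonoidHom) ⟨1, h1⟩
      exact (le_of_eq (cj_one Q).symm).trans h2
    by_cases hall : ∀ g : H, cj g Q ≤ L → cj g Q = Q
    · left
      apply le_antisymm _ hQw
      unfold Cfsg.weakClosure
      apply iSup_le
      rintro ⟨g, hg⟩
      exact le_of_eq (hall g hg)
    · right
      push Not at hall
      obtain ⟨g, hgL, hgne⟩ := hall
      have hgn : g ∉ Subgroup.normalizer (Q : Set H) := fun h => hgne (cj_eq_of_mem_normalizer h)
      have h0 := isLarge_centralizer_inf hQp hL hQ1 g hgn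
      have hgw : cj g Q ≤ Cfsg.weakClosure Q L := by
        unfold Cfsg.weakClosure
        exact le_iSup (fun g : {g : H // Q.map (MulAut.conj g).toMonoidHom ≤ L} =>
          Q.map (MulAut.conj (g : H)).toMonoidHom) ⟨g, hgL⟩
      apply le_bot_iff.mp
      rw [← h0]
      exact le_inf (Subgroup.centralizer_le hQw) (Subgroup.centralizer_le hgw)
  · rintro R ⟨T, hTR⟩ hY
    have hCp := key R T hTR (hne R hY)
    have hRY : R ≤ Subgroup.normalizer ((Cfsg.pCoreOf p R : Subgroup H) : Set H) :=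
      le_normalizer_pCoreOf p R
    have hRC : R ≤ Subgroup.normalizer ((Subgroup.centralizer
        ((Cfsg.pCoreOf p R : Subgroup H) : Set H) : Subgroup H) : Set H) :=
      hRY.trans (Cfsg.Agent.helper14.normalizer_le_normalizer_centralizer _)
    have hsup : IsPGroup p ((T : Subgroup H) ⊔ Subgroup.centralizer
        ((Cfsg.pCoreOf p R : Subgroup H) : Set H) : Subgroup H) :=
      IsPGroup.to_sup_of_normal_right' T.isPGroup' hCp (hTR.trans hRC)
    have heq := T.is_maximal' hsup le_sup_left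
    have hCT : Subgroup.centralizer ((Cfsg.pCoreOf p R : Subgroup H) : Set H) ≤ (T : Subgroup H) := by
      rw [← heq]; exact le_sup_right
    exact le_pCoreOf_of_normal R _ (hCT.trans hTR) hRC hCp
  · intro R hRp hR1 hpar
    obtain ⟨T, hTL⟩ := hpar
    have hRle : R ≤ Cfsg.pCoreOf p (Subgroup.normalizer (R : Set H)) :=
      le_pCoreOf_of_normal _ R Subgroup.le_normalizer le_rfl hRp
    have hY1 : Cfsg.pCoreOf p (Subgroup.normalizer (R : Set H)) ≠ ⊥ :=
      fun h => hR1 (le_bot_iff.mp (h ▸ hRle))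
    have hCp := key _ T hTL hY1
    exact charp_of_isPGroup _ (hCp.to_le inf_le_right)

end Cfsg.Agent.S2845
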