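import Cfsg.Statements.S2846
import Mathlib
import Mathlib
import Cfsg.Agent.Lib_helper14_FrakM7
import Cfsg.Agent.Lib_helper14_WkCl
import Cfsg.Agent.S2845
import Cfsg.Agent.S2843
-- import your own Cfsg.Agent.* helpers here

set_option autoImplicit false
open Cfsg

namespace Cfsg.Agent.S2846

open Cfsg.Agent.helper14 Cfsg.Agent.helper7

/-- Let Q be a nontrivial large p-subgroup of the finite group H, S a Sylow p-subgroup containing Q, and L a subgroup containing S with O_p(L) ≠ 1 and C_H(O_p(L)) ≤ O_p(L). Then there are a subgroup M containing S having the basic property (M ∈ 𝔐_H, writing Y_X for the largest p-reduced normal subgroup of X and 𝓛_H for the set of subgroups X with O_p(X) ≠ 1 and C_H(O_p(X)) ≤ O_p(X): M ∈ 𝓛_H, M·C_H(Y_M) is the only maximal member of 𝓛_H containing M and its largest p-reduced normal subgroup is again Y_M, C_M(Y_M) is p-closed, and the image of C_M(Y_M) in M/O_p(M) lies in the Frattini subgroup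 of M/O_p(M)) and a subgroup L* with S ≤ L* ≤ M, O_p(L*) ≠ 1, C_H(O_p(L*)) ≤ O_p(L*), such that L·C_H(Y_L) = L*·C_H(Y_L), the weak closures of Q in L and in L* agree and lie in that of M, and Y_L = Y_{L*} ≤ Y_M. If moreover Q is not normal in L, then Q is normal in neither L* nor M. -/
theorem result {H : Type*} [Group H] [Finite H] {p : ℕ} [Fact p.Prime] (Q : Subgroup H) (hQp : IsPGroup p ↥Q) (hQ1 : Q ≠ ⊥) (hLg : Cfsg.IsLarge Q) (S : Sylow p H) (hQS : Q ≤ (S : Subgroup H)) (L : Subgroup H) (hSL : (S : Subgroup H) ≤ L) (hL : L ∈ Cfsg.charPSubgroups p H) : ∃ M Ls : Subgroup H, (S : Subgroup H) ≤ M ∧ Cfsg.IsInFrakM p M ∧ (S : Subgroup H) ≤ Ls ∧ Ls ≤ M ∧ Ls ∈ Cfsg.charPSubgroups p H ∧ L ⊔ Subgroup.centralizer (((Cfsg.largestPReducedOf p L) : Subgroup H) : Set H) = Ls ⊔ Subgroup.centralizer (((Cfsg.largestPReducedOf p L) : Subgroup H) : Set H) ∧ Cfsg.weakClosure Q L = Cfsg.weakClosure Q Ls ∧ Cfsg.weakClosure Q Ls ≤ Cfsg.weakClosure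 Q M ∧ (Cfsg.largestPReducedOf p L) = (Cfsg.largestPReducedOf p Ls) ∧ (Cfsg.largestPReducedOf p Ls) ≤ (Cfsg.largestPReducedOf p M) ∧ (¬ L ≤ Subgroup.normalizer ((Q : Subgroup H) : Set H) → ¬ Ls ≤ Subgroup.normalizer ((Q : Subgroup H) : Set H) ∧ ¬ M ≤ Subgroup.normalizer ((Q : Subgroup H) : Set H)) := by
  have hH : Cfsg.IsOfParabolicCharacteristic p H := (Cfsg.Agent.S2845.result Q hQp hQ1 hLg).2.2
  have hw : WCin p ⊤ Q := wcin_top_of_wc (Cfsg.Agent.S2843.wc_of_isLarge hLg hQp hQ1)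
  obtain ⟨M, Ls, hSM, hM, hSLs, hLsM, hLs, hYeq, hYLM, hfac⟩ := exists_frakM hH S L hSL hL
  have hL' : LH p L := (mem_charPSubgroups_iff p L).mp hL
  have hY1 : Cfsg.largestPReducedOf p L ≠ ⊥ := largestPReducedOf_ne_bot L hL'
  have hPL : PRedIn p L (Cfsg.largestPReducedOf p L) := predIn_largestPReducedOf L
  have hPLs : PRedIn p Ls (Cfsg.largestPReducedOf p L) := by
    rw [hYeq]; exact predIn_largestPReducedOf Ls
  have hYp : IsPGroup p ↥(Cfsg.largestPReducedOf p L) :=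
    (pCoreOf_isPGroup L).to_le hPL.le_pCoreOf
  have hQL : Q ≤ L := hQS.trans hSL
  have hQLs : Q ≤ Ls := hQS.trans hSLs
  have h1 := (Cfsg.Agent.S2843.result Q hQp hQ1 hLg L hQL _ hYp hY1 hPL.2.1).1
  have h2 := (Cfsg.Agent.S2843.result Q hQp hQ1 hLg Ls hQLs _ hYp hY1 hPLs.2.1).1
  have hwcl : Cfsg.weakClosure Q L = Cfsg.weakClosure Q Ls := by
    rw [h1, h2, hfac]
  refine ⟨M, Ls, hSM, hM, hSLs, hLsM, hLs, hfac, hwcl, weakClosure_mono Q hLsM, hYeq,
    by rw [← hYeq]; exact hYLM, ?_⟩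
  intro hnL
  have hnLs : ¬ Ls ≤ Subgroup.normalizer ((Q : Subgroup H) : Set H) := by
    intro hLsQ
    apply hnL
    have h3 : Cfsg.weakClosure Q Ls = Q := weakClosure_eq_of_le_normalizer hw hQp hQLs hLsQ
    have h4 := le_normalizer_weakClosure Q L
    rw [hwcl, h3] at h4
    exact h4
  exact ⟨hnLs, fun hMQ => hnLs (hLsM.trans hMQ)⟩

end Cfsg.Agent.S2846
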