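import Mathlib
import Cfsg.Statements.S2848
import Cfsg.Agent.Lib_helper14_PReduced4
import Cfsg.Agent.Lib_helper14_PIrr2

set_option autoImplicit false
open Cfsg

namespace Cfsg.Agent.S2848
open Cfsg.Agent.helper14

theorem conj_subgroupOf {G : Type*} [Group G] (K O : Subgroup G) (hOK : O ≤ K) (g : K) :
    (O.subgroupOf K).map (MulAut.conj g).toMonoidHom =
      (O.map (MulAut.conj (g : G)).toMonoidHom).subgroupOf K := by
  ext x
  rw [Subgroup.mem_subgroupOf]
  constructor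
  · rintro ⟨y, hy, rfl⟩
    exact ⟨(y : G), Subgroup.mem_subgroupOf.mp hy, by simp⟩
  · rintro ⟨o, ho, hox⟩
    refine ⟨⟨o, hOK ho⟩, Subgroup.mem_subgroupOf.mpr ho, ?_⟩
    apply Subtype.ext
    simpa using hox

theorem core {G : Type*} [Group G] [Finite G] {p : ℕ} [Fact p.Prime] (S : Sylow p G)
    (M : Subgroup G) (hSM : (S : Subgroup G) ≤ M) (Y C : Subgroup G)
    (hY : Y = Cfsg.largestPReducedOf p M) (hC : C = Subgroup.centralizer (Y : Set G))
    (hcl : Cfsg.IsPClosed p ↥(M ⊓ C)) :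
    Cfsg.IsWeaklyClosedSubgroup p ((Cfsg.pCoreOf p M).subgroupOf (M ⊔ C)) := by
  have hYM : PRedIn p M Y := by rw [hY]; exact predIn_largestPReducedOf M
  have hMC : M ≤ Subgroup.normalizer (C : Set G) := by
    rw [hC]; exact hYM.2.1.trans (normalizer_le_normalizer_centralizer Y)
  have hOC : Cfsg.pCoreOf p M ≤ C := by rw [hC]; exact hYM.pCoreOf_le_centralizer
  have hOM : Cfsg.pCoreOf p M ≤ M := pCoreOf_le p M
  have hOS : Cfsg.pCoreOf p M ≤ (S : Subgroup G) := by
    have h2 := pCoreOf_le_sylow M (S.subtype hSM)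
    rwa [Sylow.coe_subtype, Subgroup.map_subgroupOf_eq_of_le hSM] at h2
  have hSK : (S : Subgroup G) ≤ M ⊔ C := hSM.trans le_sup_left
  have hOK : Cfsg.pCoreOf p M ≤ M ⊔ C := hOM.trans le_sup_left
  have hamb : ∀ g ∈ M ⊔ C,
      (Cfsg.pCoreOf p M).map (MulAut.conj g).toMonoidHom ≤ (S : Subgroup G) →
      (Cfsg.pCoreOf p M).map (MulAut.conj g).toMonoidHom = Cfsg.pCoreOf p M := by
    intro g hg hle
    have hg' : g ∈ ((C ⊔ M : Subgroup G) : Set G) := by rw [sup_comm]; exact hg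
    rw [Subgroup.coe_mul_of_right_le_normalizer_left C M hMC] at hg'
    obtain ⟨c, hc, m, hm, rfl⟩ := hg'
    have hOm : (Cfsg.pCoreOf p M).map (MulAut.conj m).toMonoidHom = Cfsg.pCoreOf p M :=
      map_conj_eq_of_mem_normalizer' _ m (le_normalizer_pCoreOf p M hm)
    have hcm : (Cfsg.pCoreOf p M).map (MulAut.conj (c * m)).toMonoidHom =
        (Cfsg.pCoreOf p M).map (MulAut.conj c).toMonoidHom := by
      conv_rhs => rw [← hOm]
      rw [Subgroup.map_map]
      congr 1
      ext x; simp [mul_assoc]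
    rw [hcm] at hle ⊢
    have h1 : (Cfsg.pCoreOf p M).map (MulAut.conj c).toMonoidHom ≤ C := by
      rintro _ ⟨o, ho, rfl⟩
      have : c * o * c⁻¹ ∈ C := C.mul_mem (C.mul_mem hc (hOC ho)) (C.inv_mem hc)
      simpa using this
    have h2 : (Cfsg.pCoreOf p M).map (MulAut.conj c).toMonoidHom ≤ M := hle.trans hSM
    have hDn : ((M ⊓ C).subgroupOf M).Normal := by
      rw [Subgroup.inf_subgroupOf_left]
      exact Subgroup.normal_subgroupOf_of_le_normalizer hMC
    have hDcl : Cfsg.IsPClosed p ↥((M ⊓ C).subgroupOf M) :=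
      isPClosed_of_mulEquiv (Subgroup.subgroupOfEquivOfLe (inf_le_left : M ⊓ C ≤ M)).symm hcl
    have hp : IsPGroup p ((Cfsg.pCoreOf p M).map (MulAut.conj c).toMonoidHom) :=
      (pCoreOf_isPGroup M).map _
    have hp' : IsPGroup p
        (((Cfsg.pCoreOf p M).map (MulAut.conj c).toMonoidHom).subgroupOf M) :=
      hp.comap_of_injective _ (Subgroup.subtype_injective _)
    have h3 := inf_le_pCore_of_isPClosed _ hDn hDcl _ hp'
    have h4 : (Cfsg.pCoreOf p M).map (MulAut.conj c).toMonoidHom ≤ Cfsg.pCoreOf p M := by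
      intro x hx
      have : (⟨x, h2 hx⟩ : M) ∈ Cfsg.pCore p ↥M :=
        h3 ⟨Subgroup.mem_subgroupOf.mpr hx, Subgroup.mem_subgroupOf.mpr ⟨h2 hx, h1 hx⟩⟩
      exact ⟨⟨x, h2 hx⟩, this, rfl⟩
    apply Subgroup.eq_of_le_of_card_ge h4
    exact le_of_eq (Subgroup.card_map_of_injective (MulAut.conj c).injective).symm
  refine ⟨S.subtype hSK, ?_, ?_⟩
  · rw [Sylow.coe_subtype]
    exact Subgroup.comap_mono hOS
  · intro g hle
    rw [Sylow.coe_subtype, conj_subgroupOf _ _ hOK g] at hle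
    rw [conj_subgroupOf _ _ hOK g]
    have hconjK : (Cfsg.pCoreOf p M).map (MulAut.conj (g : G)).toMonoidHom ≤ M ⊔ C := by
      rintro _ ⟨o, ho, rfl⟩
      have : (g : G) * o * (g : G)⁻¹ ∈ M ⊔ C :=
        Subgroup.mul_mem _ (Subgroup.mul_mem _ g.2 (hOK ho)) (Subgroup.inv_mem _ g.2)
      simpa using this
    have hle' : (Cfsg.pCoreOf p M).map (MulAut.conj (g : G)).toMonoidHom ≤ (S : Subgroup G) := by
      intro x hx
      exact Subgroup.mem_subgroupOf.mp
        (hle (show (⟨x, hconjK hx⟩ : ↥(M ⊔ C)) ∈ _ from Subgroup.mem_subgroupOf.mpr hx))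
    rw [hamb g g.2 hle']


/-- Standing hypotheses: G a finite group, S a Sylow p-subgroup, Q a nontrivial large p-subgroup of G contained in S (C_G(Q) ≤ Q and N_G(U) ≤ N_G(Q) for all nontrivial U ≤ C_G(Q)), and M a subgroup containing S with the basic property (M ∈ 𝔐_G(S)); Y_M denotes the largest p-reduced normal subgroup of M and M† = M·C_G(Y_M). Then O_p(M) is a weakly closed subgroup of M† (for p): it is the only M†-conjugate of itself inside some Sylow p-subgroup of M† containing it. -/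
theorem result {G : Type*} [Group G] [Finite G] {p : ℕ} [Fact p.Prime] (S : Sylow p G) (Q : Subgroup G) (hQp : IsPGroup p ↥Q) (hQ1 : Q ≠ ⊥) (hQS : Q ≤ (S : Subgroup G)) (hQ : Cfsg.IsLarge Q) (M : Subgroup G) (hSM : (S : Subgroup G) ≤ M) (hM : Cfsg.IsInFrakM p M) : Cfsg.IsWeaklyClosedSubgroup p (((Cfsg.pCoreOf p M)).subgroupOf (M ⊔ Subgroup.centralizer (((Cfsg.largestPReducedOf p M) : Subgroup G) : Set G))) := by
  obtain ⟨_, _, _, _, hcl, _⟩ := hM
  exact core S M hSM _ _ rfl rfl hcl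

end Cfsg.Agent.S2848
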