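import Mathlib
import Cfsg.Statements.S2849
import Cfsg.Agent.Lib_helper14_PReduced4
import Cfsg.Agent.Lib_helper14_PIrr2

set_option autoImplicit false
open Cfsg

namespace Cfsg.Agent.S2849
open Cfsg.Agent.helper14

theorem core {G : Type*} [Group G] {p : ℕ} [Fact p.Prime] (M Y R : Subgroup G)
    (hYM : PRedIn p M Y) (hasym : ¬ Cfsg.IsSymmetricIn Y) (hYR : Y ≤ R)
    (hRM : R ≤ M ⊔ Subgroup.centralizer (Y : Set G)) :
    Cfsg.IsElementaryAbelian p ((Subgroup.normalClosure
      ((Y.subgroupOf (Subgroup.normalizer (R : Set G)) :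
        Subgroup ↥(Subgroup.normalizer (R : Set G))) :
        Set ↥(Subgroup.normalizer (R : Set G)))).map (Subgroup.normalizer (R : Set G)).subtype) := by
  have hRN : R ≤ Subgroup.normalizer (Y : Set G) :=
    hRM.trans (sup_le hYM.2.1 (Subgroup.centralizer_le_normalizer _))
  have hconjR : ∀ g ∈ Subgroup.normalizer (R : Set G),
      Y.map (MulAut.conj g).toMonoidHom ≤ R := by
    intro g hg
    have := Subgroup.map_mono (f := (MulAut.conj g).toMonoidHom) hYR
    rwa [map_conj_eq_of_mem_normalizer' R g hg] at this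
  have hcomm1 : ∀ g ∈ Subgroup.normalizer (R : Set G),
      ⁅Y, Y.map (MulAut.conj g).toMonoidHom⁆ = ⊥ := by
    intro g hg
    by_contra hne
    apply hasym
    refine ⟨g, hne, le_inf ?_ ?_⟩
    · exact commutator_le_left_of_le_normalizer _ _ ((hconjR g hg).trans hRN)
    · apply commutator_le_right_of_le_normalizer
      rw [normalizer_map_conj]
      have h1 : R ≤ (Subgroup.normalizer (Y : Set G)).map (MulAut.conj g).toMonoidHom := by
        have := Subgroup.map_mono (f := (MulAut.conj g).toMonoidHom) hRN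
        rwa [map_conj_eq_of_mem_normalizer' R g hg] at this
      exact hYR.trans h1
  have hcomm2 : ∀ g ∈ Subgroup.normalizer (R : Set G), ∀ h ∈ Subgroup.normalizer (R : Set G),
      ⁅Y.map (MulAut.conj g).toMonoidHom, Y.map (MulAut.conj h).toMonoidHom⁆ = ⊥ := by
    intro g hg h hh
    have h1 := hcomm1 (g⁻¹ * h) (Subgroup.mul_mem _ (Subgroup.inv_mem _ hg) hh)
    have h2 := congrArg (Subgroup.map (MulAut.conj g).toMonoidHom) h1
    rw [Subgroup.map_commutator, Subgroup.map_bot, Subgroup.map_map] at h2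
    have e : (MulAut.conj g).toMonoidHom.comp (MulAut.conj (g⁻¹ * h)).toMonoidHom =
        (MulAut.conj h).toMonoidHom := by
      ext x
      simp only [MonoidHom.comp_apply, MulEquiv.coe_toMonoidHom, MulAut.conj_apply]
      group
    rw [e] at h2
    exact h2
  obtain ⟨A, hA⟩ : ∃ A : Subgroup G, A = ⨆ g : Subgroup.normalizer (R : Set G),
      Y.map (MulAut.conj (g : G)).toMonoidHom := ⟨_, rfl⟩
  have hYA : ∀ g : Subgroup.normalizer (R : Set G),
      Y.map (MulAut.conj (g : G)).toMonoidHom ≤ A := by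
    intro g
    rw [hA]
    exact le_iSup (fun g : Subgroup.normalizer (R : Set G) =>
      Y.map (MulAut.conj (g : G)).toMonoidHom) g
  have h1 : ∀ g : Subgroup.normalizer (R : Set G), A ≤ Subgroup.centralizer
      ((Y.map (MulAut.conj (g : G)).toMonoidHom : Subgroup G) : Set G) := by
    intro g
    have h2 : (⨆ h : Subgroup.normalizer (R : Set G),
        Y.map (MulAut.conj (h : G)).toMonoidHom) ≤ Subgroup.centralizer
        ((Y.map (MulAut.conj (g : G)).toMonoidHom : Subgroup G) : Set G) :=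
      iSup_le (fun h => Subgroup.commutator_eq_bot_iff_le_centralizer.mp (hcomm2 h h.2 g g.2))
    rw [← hA] at h2
    exact h2
  have hAc : A ≤ Subgroup.centralizer (A : Set G) := by
    have h2 : (⨆ g : Subgroup.normalizer (R : Set G),
        Y.map (MulAut.conj (g : G)).toMonoidHom) ≤ Subgroup.centralizer (A : Set G) :=
      iSup_le (fun g => Subgroup.le_centralizer_iff.mp (h1 g))
    rw [← hA] at h2
    exact h2
  have hZ : ∀ a ∈ A, ∀ b ∈ A, a * b = b * a :=
    fun a ha b hb => (Subgroup.mem_centralizer_iff.mp (hAc hb) a ha)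
  have hWB : (Subgroup.normalClosure
      ((Y.subgroupOf (Subgroup.normalizer (R : Set G)) :
        Subgroup ↥(Subgroup.normalizer (R : Set G))) :
        Set ↥(Subgroup.normalizer (R : Set G)))).map (Subgroup.normalizer (R : Set G)).subtype ≤
      commOmega p A hZ := by
    rw [Subgroup.map_le_iff_le_comap]
    unfold Subgroup.normalClosure
    rw [Subgroup.closure_le]
    intro x hx
    rw [Group.mem_conjugatesOfSet_iff] at hx
    obtain ⟨a, ha, hax⟩ := hx
    obtain ⟨c, rfl⟩ := isConj_iff.mp hax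
    show ((c * a * c⁻¹ : ↥(Subgroup.normalizer (R : Set G))) : G) ∈ commOmega p A hZ
    have haY : (a : G) ∈ Y := Subgroup.mem_subgroupOf.mp ha
    have e : ((c * a * c⁻¹ : ↥(Subgroup.normalizer (R : Set G))) : G) =
        (MulAut.conj (c : G)).toMonoidHom (a : G) := by simp
    rw [e]
    refine ⟨hYA c ⟨(a : G), haY, rfl⟩, ?_⟩
    rw [← map_pow, hYM.2.2.2.1 _ haY, map_one]
  exact ⟨⟨⟨fun a b => Subtype.ext (hZ _ (hWB a.2).1 _ (hWB b.2).1)⟩⟩, fun a ha => (hWB ha).2⟩


/-- Standing hypotheses: G a finite group, S a Sylow p-subgroup, Q a nontrivial large p-subgroup of G contained in S (C_G(Q) ≤ Q and N_G(U) ≤ N_G(Q) for all nontrivial U ≤ C_G(Q)), and M a subgroup containing S with the basic property (M ∈ 𝔐_G(S)); Y_M denotes the largest p-reduced normal subgroup of M and M† = M·C_G(Y_M). Suppose Y_M is asymmetric in G. Then for every subgroup R with Y_M ≤ R ≤ M†, the normal closure of Y_M in N_G(R) is elementary abelian. -/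
theorem result {G : Type*} [Group G] [Finite G] {p : ℕ} [Fact p.Prime] (S : Sylow p G) (Q : Subgroup G) (hQp : IsPGroup p ↥Q) (hQ1 : Q ≠ ⊥) (hQS : Q ≤ (S : Subgroup G)) (hQ : Cfsg.IsLarge Q) (M : Subgroup G) (hSM : (S : Subgroup G) ≤ M) (hM : Cfsg.IsInFrakM p M) (hasym : ¬ Cfsg.IsSymmetricIn (Cfsg.largestPReducedOf p M)) (R : Subgroup G) (hYR : (Cfsg.largestPReducedOf p M) ≤ R) (hRM : R ≤ (M ⊔ Subgroup.centralizer (((Cfsg.largestPReducedOf p M) : Subgroup G) : Set G))) : Cfsg.IsElementaryAbelian p ((Subgroup.normalClosure ((((Cfsg.largestPReducedOf p M)).subgroupOf (Subgroup.normalizer ((R : Subgroup G) : Set G)) : Subgroup ↥(Subgroup.normalizer ((R : Subgroup G) : Set G))) : Set ↥(Subgroup.normalizer ((R : Subgroup G) : Set G)))).map (Subgroup.normalizer ((R : Subgroup G) : Set G)).subtype) := by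
  exact core M _ R (predIn_largestPReducedOf M) hasym hYR hRM

end Cfsg.Agent.S2849
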