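import Mathlib
import Cfsg.Statements.S2872
import Cfsg.Agent.Lib_helper9_Transfer
import Cfsg.Agent.Lib_helper1_PGroup
import Cfsg.Agent.Lib_helper7_SN

set_option autoImplicit false
open Cfsg

namespace Cfsg.Agent.S2872

open Cfsg.Agent.helper1 Cfsg.Agent.helper7 Cfsg.Agent.helper9

/-- Let S be a Sylow 2-subgroup of the finite group G. Then G has a proper normal subgroup of 2-power index (O²(G) ≠ G), or Ω₁(Z(S)) is contained in the Frattini subgroup of S, or N_G(S) acts nontrivially on Ω₁(Z(S)) by conjugation. -/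
theorem result {G : Type*} [Group G] [Finite G] (S : Sylow 2 G) : Cfsg.pResidual 2 G ≠ ⊤ ∨ Cfsg.omegaOne 2 ((S : Subgroup G) ⊓ Subgroup.centralizer ((S : Subgroup G) : Set G)) ≤ (frattini ↥(S : Subgroup G)).map (S : Subgroup G).subtype ∨ ∃ g ∈ Subgroup.normalizer ((S : Subgroup G) : Set G), ∃ z ∈ Cfsg.omegaOne 2 ((S : Subgroup G) ⊓ Subgroup.centralizer ((S : Subgroup G) : Set G)), g * z * g⁻¹ ≠ z := by
  haveI : Fact (Nat.Prime 2) := ⟨Nat.prime_two⟩
  by_cases h1 : Cfsg.pResidual 2 G ≠ ⊤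
  · exact Or.inl h1
  push Not at h1
  by_cases h2 : Cfsg.omegaOne 2 ((S : Subgroup G) ⊓ Subgroup.centralizer ((S : Subgroup G) : Set G)) ≤
      (frattini ↥(S : Subgroup G)).map (S : Subgroup G).subtype
  · exact Or.inr (Or.inl h2)
  right; right
  have h2' := h2
  unfold Cfsg.omegaOne at h2'
  rw [Subgroup.closure_le] at h2'
  obtain ⟨z, ⟨hzZ, hz2⟩, hzΦ⟩ := Set.not_subset.mp h2'
  have hzS : z ∈ (S : Subgroup G) := (Subgroup.mem_inf.mp hzZ).1
  have hzC : z ∈ Subgroup.centralizer ((S : Subgroup G) : Set G) := (Subgroup.mem_inf.mp hzZ).2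
  have hz' : (⟨z, hzS⟩ : ↥(S : Subgroup G)) ∉ frattini ↥(S : Subgroup G) :=
    fun h => hzΦ ⟨⟨z, hzS⟩, h, rfl⟩
  obtain ⟨M, hM, hzM⟩ : ∃ M : Subgroup ↥(S : Subgroup G), IsCoatom M ∧
      (⟨z, hzS⟩ : ↥(S : Subgroup G)) ∉ M := by
    by_contra hcon
    push Not at hcon
    apply hz'
    have h3 : Subgroup.zpowers (⟨z, hzS⟩ : ↥(S : Subgroup G)) ≤ frattini ↥(S : Subgroup G) :=
      le_frattini_of_forall_coatom (fun M hM => by
        rw [Subgroup.zpowers_le]; exact hcon M hM)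
    exact h3 (Subgroup.mem_zpowers _)
  haveI hMn : M.Normal := coatom_normal_of_isPGroup S.2 hM
  have hMidx : M.index = 2 := coatom_index_of_isPGroup S.2 hM
  have hAcard : Nat.card (↥(S : Subgroup G) ⧸ M) = 2 := by rw [← Subgroup.index_eq_card, hMidx]
  haveI : Fact (Nat.card (↥(S : Subgroup G) ⧸ M)).Prime := ⟨by rw [hAcard]; exact Nat.prime_two⟩
  have hcyc : IsCyclic (↥(S : Subgroup G) ⧸ M) := isCyclic_of_prime_card rfl
  let _ : CommGroup (↥(S : Subgroup G) ⧸ M) := hcyc.commGroup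
  have hV : ∀ g : G, MonoidHom.transfer (QuotientGroup.mk' M) g = 1 := by
    have hker : Cfsg.pResidual 2 G ≤ (MonoidHom.transfer (QuotientGroup.mk' M)).ker := by
      unfold Cfsg.pResidual
      rw [Subgroup.closure_le]
      intro g hg
      rw [SetLike.mem_coe, MonoidHom.mem_ker]
      have ha : (MonoidHom.transfer (QuotientGroup.mk' M) g) ^ (orderOf g) = 1 := by
        rw [← map_pow, pow_orderOf_eq_one, map_one]
      have hb : (MonoidHom.transfer (QuotientGroup.mk' M) g) ^ 2 = 1 := by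
        have := pow_card_eq_one' (G := ↥(S : Subgroup G) ⧸ M)
          (x := MonoidHom.transfer (QuotientGroup.mk' M) g)
        rwa [hAcard] at this
      have hc : orderOf (MonoidHom.transfer (QuotientGroup.mk' M) g) = 1 :=
        Nat.eq_one_of_dvd_coprimes hg (orderOf_dvd_of_pow_eq_one ha) (orderOf_dvd_of_pow_eq_one hb)
      exact orderOf_eq_one_iff.mp hc
    intro g
    exact MonoidHom.mem_ker.mp (hker (h1 ▸ Subgroup.mem_top g))
  have hzz : z * z = 1 := by rw [← pow_two]; exact hz2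
  obtain ⟨g, ⟨h, hϕ⟩, _, h4⟩ := exists_extremal_conj S (QuotientGroup.mk' M) hV z hzz hzS
  have hgzM : (⟨g * z * g⁻¹, h⟩ : ↥(S : Subgroup G)) ∈ M := by
    rw [← QuotientGroup.eq_one_iff]; exact hϕ
  have hSle : (S : Subgroup G) ≤ (S : Subgroup G) ⊓ Subgroup.centralizer {z} := by
    intro s hs
    refine Subgroup.mem_inf.mpr ⟨hs, ?_⟩
    rw [Subgroup.mem_centralizer_iff]
    intro y hy
    rw [Set.mem_singleton_iff.mp hy]
    rw [Subgroup.mem_centralizer_iff] at hzC
    exact (hzC s hs).symm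
  have hcj : cj g (S : Subgroup G) ≤ (S : Subgroup G) :=
    ((Subgroup.map_mono hSle).trans h4).trans inf_le_left
  have hcjeq : cj g (S : Subgroup G) = (S : Subgroup G) :=
    Subgroup.eq_of_le_of_card_ge hcj (by rw [card_cj])
  refine ⟨g, mem_normalizer_of_cj_eq hcjeq, z, Subgroup.subset_closure ⟨hzZ, hz2⟩, ?_⟩
  intro heq
  apply hzM
  have : (⟨g * z * g⁻¹, h⟩ : ↥(S : Subgroup G)) = ⟨z, hzS⟩ := Subtype.ext heq
  rw [← this]
  exact hgzM

end Cfsg.Agent.S2872
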