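import Mathlib
import Cfsg.Statements.S2874
import Cfsg.Agent.Lib_helper17_A4a
import Cfsg.Agent.Lib_helper17_A4b
import Cfsg.Agent.Lib_helper17_A4c

set_option autoImplicit false
open Cfsg

namespace Cfsg.Agent.S2874

open Cfsg.Agent.helper17.A4GL Matrix

/-- a 3-cycle -/
def t0 : Equiv.Perm (Fin 4) := Equiv.swap 0 1 * Equiv.swap 1 2
/-- a double transposition -/
def a0 : Equiv.Perm (Fin 4) := Equiv.swap 0 1 * Equiv.swap 2 3

lemma t0_cube : t0 * t0 * t0 = 1 := by decide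
lemma t0_ne : t0 ≠ 1 := by decide
lemma a0_sq : a0 * a0 = 1 := by decide
lemma a0_ne : a0 ≠ 1 := by decide
lemma a0_rel : a0 * (t0 * a0 * t0⁻¹) = t0 * (t0 * a0 * t0⁻¹) * t0⁻¹ := by decide
lemma t0_mem : t0 ∈ alternatingGroup (Fin 4) := by
  rw [Equiv.Perm.mem_alternatingGroup]; decide
lemma a0_mem : a0 ∈ alternatingGroup (Fin 4) := by
  rw [Equiv.Perm.mem_alternatingGroup]; decide
lemma gen0 : ∀ x : Equiv.Perm (Fin 4), Equiv.Perm.sign x = 1 →
    ∃ i : Fin 3, ∃ j : Fin 2, ∃ l : Fin 3, x = t0 ^ (i : ℕ) * a0 ^ (j : ℕ) * t0 ^ (l : ℕ) := by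
  decide

/-- `t0` in the alternating group -/
def t0' : alternatingGroup (Fin 4) := ⟨t0, t0_mem⟩
/-- `a0` in the alternating group -/
def a0' : alternatingGroup (Fin 4) := ⟨a0, a0_mem⟩

lemma closure_eq_top : Subgroup.closure ({t0', a0'} : Set (alternatingGroup (Fin 4))) = ⊤ := by
  rw [eq_top_iff]
  intro x _
  obtain ⟨i, j, l, h⟩ := gen0 x.1 (Equiv.Perm.mem_alternatingGroup.mp x.2)
  have hx : x = t0' ^ (i : ℕ) * a0' ^ (j : ℕ) * t0' ^ (l : ℕ) := by
    apply Subtype.ext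
    rw [h]
    rfl
  rw [hx]
  have ht : t0' ∈ Subgroup.closure ({t0', a0'} : Set (alternatingGroup (Fin 4))) :=
    Subgroup.subset_closure (by simp)
  have ha : a0' ∈ Subgroup.closure ({t0', a0'} : Set (alternatingGroup (Fin 4))) :=
    Subgroup.subset_closure (by simp)
  exact mul_mem (mul_mem (pow_mem ht _) (pow_mem ha _)) (pow_mem ht _)

section grp

variable (k : ℕ)

/-- the companion matrix as an element of `GL₂` -/
def Cg : GL (Fin 2) (ZMod (2 ^ k)) := ⟨Cm _, Ci _, Cm_mul_Ci _, Ci_mul_Cm _⟩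

/-- the standard involution as an element of `GL₂` -/
noncomputable def A1g (hk : 2 ≤ k) : GL (Fin 2) (ZMod (2 ^ k)) :=
  Matrix.GeneralLinearGroup.mk'' (A1 k) (by rw [A1_det hk]; exact isUnit_one)

lemma A1g_val (hk : 2 ≤ k) : (A1g k hk : Matrix (Fin 2) (Fin 2) (ZMod (2 ^ k))) = A1 k := rfl

lemma Cg_val : (Cg k : Matrix (Fin 2) (Fin 2) (ZMod (2 ^ k))) = Cm _ := rfl

lemma Cg_inv_val : ((Cg k)⁻¹ : GL (Fin 2) (ZMod (2 ^ k))).val = Ci _ := rfl

lemma L1 (hk : 1 ≤ k) (t : GL (Fin 2) (ZMod (2 ^ k))) (h3 : t * t * t = 1) (h1 : t ≠ 1) :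
    ∃ g : GL (Fin 2) (ZMod (2 ^ k)), g * t * g⁻¹ = Cg k := by
  have h3' : t.val * t.val * t.val = 1 := by
    have := congrArg Units.val h3
    simpa using this
  have h1' : t.val ≠ 1 := by
    intro h
    apply h1
    exact Units.ext h
  obtain ⟨g₁, hg₁, hconj⟩ := conj_to_Cm hk t.val h3' h1'
  let G₁ : GL (Fin 2) (ZMod (2 ^ k)) := Matrix.GeneralLinearGroup.mk'' g₁ hg₁
  have hG : t * G₁ = G₁ * Cg k := by
    apply Units.ext
    exact hconj
  refine ⟨G₁⁻¹, ?_⟩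
  rw [inv_inv, mul_assoc, hG, ← mul_assoc, inv_mul_cancel, one_mul]

lemma L2 (hk : 2 ≤ k) (a : GL (Fin 2) (ZMod (2 ^ k))) (ha2 : a * a = 1)
    (hrel : a * (Cg k * a * (Cg k)⁻¹) = Cg k * (Cg k * a * (Cg k)⁻¹) * (Cg k)⁻¹) (ha1 : a ≠ 1) :
    a = A1g k hk ∨ a = Cg k * A1g k hk * (Cg k)⁻¹ ∨
      a = Cg k * (Cg k * A1g k hk * (Cg k)⁻¹) * (Cg k)⁻¹ := by
  have ha2' : a.val * a.val = 1 := by
    have := congrArg Units.val ha2
    simpa using this
  have hrel' : a.val * (Cm _ * a.val * Ci _) = Cm _ * (Cm _ * a.val * Ci _) * Ci _ := by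
    have := congrArg Units.val hrel
    exact this
  have ha1' : a.val ≠ 1 := by
    intro h
    apply ha1
    exact Units.ext h
  rcases involution_classify hk a.val ha2' hrel' ha1' with h | h | h
  · left
    apply Units.ext
    rw [h]; rfl
  · right; left
    apply Units.ext
    rw [h]; rfl
  · right; right
    apply Units.ext
    rw [h]; rfl

end grp

/-- every subgroup isomorphic to `A₄` is conjugate to a standard one -/
lemma std (k : ℕ) (hk : 2 ≤ k) (H : Subgroup (GL (Fin 2) (ZMod (2 ^ k))))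
    (h : Nonempty (↥H ≃* ↥(alternatingGroup (Fin 4)))) :
    ∃ g : GL (Fin 2) (ZMod (2 ^ k)),
      H.map (MulAut.conj g).toMonoidHom = Subgroup.closure {Cg k, A1g k hk} := by
  obtain ⟨e⟩ := h
  let f : ↥(alternatingGroup (Fin 4)) →* GL (Fin 2) (ZMod (2 ^ k)) :=
    H.subtype.comp e.symm.toMonoidHom
  have hf : Function.Injective f := by
    intro x y hxy
    apply e.symm.injective
    exact Subtype.ext hxy
  have hrange : f.range = H := by
    ext x
    constructor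
    · rintro ⟨y, rfl⟩
      exact (e.symm y).2
    · intro hx
      refine ⟨e ⟨x, hx⟩, ?_⟩
      show ((e.symm (e ⟨x, hx⟩) : H) : GL (Fin 2) (ZMod (2 ^ k))) = x
      rw [e.symm_apply_apply]
  set t := f t0' with ht
  set a := f a0' with ha
  have hH : H = Subgroup.closure {t, a} := by
    rw [← hrange, MonoidHom.range_eq_map, ← closure_eq_top, MonoidHom.map_closure]
    congr 1
    ext x
    simp only [Set.mem_image, Set.mem_insert_iff, Set.mem_singleton_iff]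
    constructor
    · rintro ⟨y, hy | hy, rfl⟩
      · left; rw [hy]
      · right; rw [hy]
    · rintro (hx | hx)
      · exact ⟨t0', Or.inl rfl, hx.symm⟩
      · exact ⟨a0', Or.inr rfl, hx.symm⟩
  have t3 : t * t * t = 1 := by
    rw [ht, ← map_mul, ← map_mul]
    have : t0' * t0' * t0' = 1 := Subtype.ext t0_cube
    rw [this, map_one]
  have t1 : t ≠ 1 := by
    intro h1
    have : t0' = 1 := hf (by rw [← ht, h1, map_one])
    exact t0_ne (congrArg Subtype.val this)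
  have a2 : a * a = 1 := by
    rw [ha, ← map_mul]
    have : a0' * a0' = 1 := Subtype.ext a0_sq
    rw [this, map_one]
  have a1 : a ≠ 1 := by
    intro h1
    have : a0' = 1 := hf (by rw [← ha, h1, map_one])
    exact a0_ne (congrArg Subtype.val this)
  have arel : a * (t * a * t⁻¹) = t * (t * a * t⁻¹) * t⁻¹ := by
    have : a0' * (t0' * a0' * t0'⁻¹) = t0' * (t0' * a0' * t0'⁻¹) * t0'⁻¹ := Subtype.ext a0_rel
    have h2 := congrArg f this
    simpa [map_mul, map_inv] using h2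
  -- conjugate t to the companion matrix
  obtain ⟨g₁, hg₁⟩ := L1 k (by omega) t t3 t1
  set a' := g₁ * a * g₁⁻¹ with ha'
  have a'2 : a' * a' = 1 := by
    rw [ha']
    calc g₁ * a * g₁⁻¹ * (g₁ * a * g₁⁻¹) = g₁ * (a * a) * g₁⁻¹ := by group
      _ = 1 := by rw [a2]; group
  have a'1 : a' ≠ 1 := by
    intro h1
    apply a1
    have : a = g₁⁻¹ * a' * g₁ := by rw [ha']; group
    rw [this, h1]; group
  have a'rel : a' * (Cg k * a' * (Cg k)⁻¹) = Cg k * (Cg k * a' * (Cg k)⁻¹) * (Cg k)⁻¹ := by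
    rw [← hg₁, ha']
    have : g₁ * a * g₁⁻¹ * (g₁ * t * g₁⁻¹ * (g₁ * a * g₁⁻¹) * (g₁ * t * g₁⁻¹)⁻¹) =
        g₁ * (a * (t * a * t⁻¹)) * g₁⁻¹ := by group
    rw [this, arel]
    group
  -- now adjust by a power of Cg
  have key : ∃ c : GL (Fin 2) (ZMod (2 ^ k)), c * Cg k * c⁻¹ = Cg k ∧ c * a' * c⁻¹ = A1g k hk := by
    rcases L2 k hk a' a'2 a'rel a'1 with h | h | h
    · exact ⟨1, by group, by rw [h]; group⟩
    · exact ⟨(Cg k)⁻¹, by group, by rw [h]; group⟩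
    · exact ⟨(Cg k)⁻¹ * (Cg k)⁻¹, by group, by rw [h]; group⟩
  obtain ⟨c, hc1, hc2⟩ := key
  refine ⟨c * g₁, ?_⟩
  rw [hH, MonoidHom.map_closure]
  congr 1
  have e1 : (MulAut.conj (c * g₁)).toMonoidHom t = Cg k := by
    show (c * g₁) * t * (c * g₁)⁻¹ = Cg k
    rw [← hc1, ← hg₁]
    group
  have e2 : (MulAut.conj (c * g₁)).toMonoidHom a = A1g k hk := by
    show (c * g₁) * a * (c * g₁)⁻¹ = A1g k hk
    rw [← hc2, ha']
    group
  rw [Set.image_pair, e1, e2]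

/-- For k ≥ 2, any two subgroups of GL₂(ℤ/2ᵏℤ) (the automorphism group of the homocyclic group ℤ/2ᵏ × ℤ/2ᵏ) that are isomorphic to the alternating group of degree 4 are conjugate. -/
theorem result (k : ℕ) (hk : 2 ≤ k) (H₁ H₂ : Subgroup (GL (Fin 2) (ZMod (2 ^ k)))) (h₁ : Nonempty (↥H₁ ≃* ↥(alternatingGroup (Fin 4)))) (h₂ : Nonempty (↥H₂ ≃* ↥(alternatingGroup (Fin 4)))) : ∃ g : GL (Fin 2) (ZMod (2 ^ k)), H₂ = H₁.map (MulAut.conj g).toMonoidHom := by
  obtain ⟨g₁, hg₁⟩ := std k hk H₁ h₁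
  obtain ⟨g₂, hg₂⟩ := std k hk H₂ h₂
  refine ⟨g₂⁻¹ * g₁, ?_⟩
  have h3 : H₂ = (H₂.map (MulAut.conj g₂).toMonoidHom).map (MulAut.conj g₂⁻¹).toMonoidHom := by
    rw [Subgroup.map_map]
    have : (MulAut.conj g₂⁻¹).toMonoidHom.comp (MulAut.conj g₂).toMonoidHom = MonoidHom.id _ := by
      apply MonoidHom.ext
      intro x
      show g₂⁻¹ * (g₂ * x * g₂⁻¹) * g₂⁻¹⁻¹ = x
      group
    rw [this, Subgroup.map_id]
  rw [h3, hg₂, ← hg₁, Subgroup.map_map]
  congr 1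
  apply MonoidHom.ext
  intro x
  show g₂⁻¹ * (g₁ * x * g₁⁻¹) * g₂⁻¹⁻¹ = (g₂⁻¹ * g₁) * x * (g₂⁻¹ * g₁)⁻¹
  group

end Cfsg.Agent.S2874
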