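import Cfsg.Statements.S2879
import Cfsg.Agent.Lib_lead_DihSL23
import Cfsg.Agent.Lib_helper23_PSolv3

set_option autoImplicit false
open Cfsg

namespace Cfsg.Agent.S2879

open Cfsg.Agent.lead.DihSL23

/-- Let G be a finite solvable group with O(G) = 1 whose Sylow 2-subgroup T is dihedral of order at least 8 or semidihedral, with G ≠ T and Z(T) normal in G. Then G has a normal subgroup isomorphic to SL₂(3). -/
theorem result {G : Type*} [Group G] [Finite G] (hsol : IsSolvable G) (hO : Cfsg.oddCore G = ⊥) (T : Sylow 2 G) (hT : (∃ n : ℕ, 4 ≤ n ∧ Nonempty (↥(T : Subgroup G) ≃* DihedralGroup n)) ∨ Cfsg.IsQuasiDihedral ↥(T : Subgroup G)) (hne : (T : Subgroup G) ≠ ⊤) (hZ : ((T : Subgroup G) ⊓ Subgroup.centralizer ((T : Subgroup G) : Set G)).Normal) : ∃ U : Subgroup G, U.Normal ∧ Nonempty (↥U ≃* Matrix.SpecialLinearGroup (Fin 2) (ZMod 3)) := by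
  classical
  haveI : Group.IsSolvable G := hsol
  have hps : Cfsg.IsPSolvable 2 G := Cfsg.Agent.helper23.isPSolvable_of_solvable 2 G
  have hcent := Cfsg.Agent.helper23.hall_higman_123
    (Cfsg.Agent.helper23.isPSolvable_iff_psreach.1 hps) hO
  obtain ⟨x, z, hDS⟩ : ∃ x z : G, DS (T : Subgroup G) x z := by
    rcases hT with ⟨n, hn, ⟨e⟩⟩ | ⟨n, hn, hcard, x, y, hox, hoy, hrel⟩
    · exact ds_of_dihedral T n hn e
    · obtain ⟨m, rfl⟩ : ∃ m, n = m + 1 := ⟨n - 1, by omega⟩
      refine ⟨(x : G), _, ds_of_gens (T : Subgroup G) m (2 ^ m - 1) (by omega) hcard x y x.2 y.2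
        ?_ ?_ ?_ ?_⟩
      · rw [Subgroup.orderOf_coe]; exact hox
      · rw [Subgroup.orderOf_coe]; exact hoy
      · have h1 := congrArg Subtype.val hrel
        simpa [Nat.add_sub_cancel] using h1
      · right
        exact ⟨Nat.sub_add_cancel Nat.one_le_two_pow, by omega⟩
  exact main T x z hDS hcent hne hZ

end Cfsg.Agent.S2879
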