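import Cfsg.Statements.S5395
-- import your own Cfsg.Agent.* helpers here

set_option autoImplicit false
open Cfsg

namespace Cfsg.Agent.S5395

open scoped IsMulCommutative


theorem finite_hom (E Z : Type*) [Group E] [Group Z] [Finite E] [Finite Z] : Finite (E →* Z) :=
  Finite.of_injective (fun f => (f : E → Z)) DFunLike.coe_injective

/-- the number of homs from a finite group into a group of order two is at most the index of
the commutator subgroup. -/
theorem card_hom_le {E : Type*} [Group E] [Finite E] (Z : Type*) [CommGroup Z] [Finite Z]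
    (hZ : Nat.card Z = 2) : Nat.card (E →* Z) ≤ (commutator E).index := by
  have : Fact (Nat.Prime 2) := ⟨Nat.prime_two⟩
  have hR : Nat.card (rootsOfUnity 2 ℂ) = 2 := Complex.card_rootsOfUnity 2
  let e : Z ≃* rootsOfUnity 2 ℂ := mulEquivOfPrimeCardEq hZ hR
  let ι : Z →* ℂˣ := (rootsOfUnity 2 ℂ).subtype.comp e.toMonoidHom
  have hι : Function.Injective ι := by
    intro a b hab
    have h1 : (e a : ℂˣ) = (e b : ℂˣ) := hab
    exact e.injective (Subtype.ext h1)
  have : Finite (E →* Z) := finite_hom E Z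
  have : NeZero (Monoid.exponent (Abelianization E)) := ⟨Monoid.exponent_ne_zero_of_finite⟩
  have hcard : Nat.card (Abelianization E →* ℂˣ) = Nat.card (Abelianization E) :=
    CommGroup.card_monoidHom_of_hasEnoughRootsOfUnity (Abelianization E) ℂ
  have : Finite (Abelianization E →* ℂˣ) := by
    apply Nat.finite_of_card_ne_zero
    rw [hcard]
    exact Nat.card_pos.ne'
  let F : (E →* Z) → (Abelianization E →* ℂˣ) := fun f => Abelianization.lift (ι.comp f)
  have hF : Function.Injective F := by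
    intro f g hfg
    have h1 : ι.comp f = ι.comp g := Abelianization.lift.injective hfg
    ext x
    have h2 := DFunLike.congr_fun h1 x
    exact hι h2
  have h3 := Nat.card_le_card_of_injective F hF
  rw [hcard] at h3
  have h4 : Nat.card (Abelianization E) = (commutator E).index := by
    rw [Subgroup.index_eq_card]; rfl
  rw [h4] at h3
  exact h3

/-- every hom from an extraspecial group to its centre is a commutator map. -/
theorem hom_is_inner {E : Type*} [Group E] [Finite E] (hE : Cfsg.IsExtraspecial 2 E)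
    (l : E →* Subgroup.center E) : ∃ g : E, ∀ x : E, (l x : E) = g * x * g⁻¹ * x⁻¹ := by
  obtain ⟨⟨-, -, hcomm⟩, hcard⟩ := hE
  have hcm : ∀ g x : E, g * x * g⁻¹ * x⁻¹ ∈ Subgroup.center E := by
    intro g x
    rw [← hcomm, commutator_def]
    exact Subgroup.commutator_mem_commutator (Subgroup.mem_top g) (Subgroup.mem_top x)
  have hcen : ∀ (c : Subgroup.center E) (y : E), y * (c : E) = (c : E) * y := fun c y =>
    Subgroup.mem_center_iff.1 c.2 y
  -- the commutator map
  let lam : E → (E →* Subgroup.center E) := fun g =>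
    { toFun := fun x => ⟨g * x * g⁻¹ * x⁻¹, hcm g x⟩
      map_one' := by apply Subtype.ext; simp
      map_mul' := by
        intro x y
        apply Subtype.ext
        show g * (x * y) * g⁻¹ * (x * y)⁻¹ = (g * x * g⁻¹ * x⁻¹) * (g * y * g⁻¹ * y⁻¹)
        have h1 : x⁻¹ * (g * y * g⁻¹ * y⁻¹) = (g * y * g⁻¹ * y⁻¹) * x⁻¹ :=
          hcen ⟨g * y * g⁻¹ * y⁻¹, hcm g y⟩ x⁻¹
        calc g * (x * y) * g⁻¹ * (x * y)⁻¹ = g * x * g⁻¹ * ((g * y * g⁻¹ * y⁻¹) * x⁻¹) := by group
          _ = g * x * g⁻¹ * (x⁻¹ * (g * y * g⁻¹ * y⁻¹)) := by rw [h1]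
          _ = (g * x * g⁻¹ * x⁻¹) * (g * y * g⁻¹ * y⁻¹) := by group }
  -- lam is multiplicative in g
  have hlam_mul : ∀ g h x : E, ((lam (g * h) x : Subgroup.center E) : E) = (lam g x : E) * (lam h x : E) := by
    intro g h x
    show g * h * x * (g * h)⁻¹ * x⁻¹ = (g * x * g⁻¹ * x⁻¹) * (h * x * h⁻¹ * x⁻¹)
    have h1 : g⁻¹ * (h * x * h⁻¹ * x⁻¹) = (h * x * h⁻¹ * x⁻¹) * g⁻¹ :=
      hcen ⟨h * x * h⁻¹ * x⁻¹, hcm h x⟩ g⁻¹
    have h2 : x⁻¹ * (h * x * h⁻¹ * x⁻¹) = (h * x * h⁻¹ * x⁻¹) * x⁻¹ :=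
      hcen ⟨h * x * h⁻¹ * x⁻¹, hcm h x⟩ x⁻¹
    calc g * h * x * (g * h)⁻¹ * x⁻¹ = g * ((h * x * h⁻¹ * x⁻¹) * x) * g⁻¹ * x⁻¹ := by group
      _ = g * (x * (h * x * h⁻¹ * x⁻¹)) * g⁻¹ * x⁻¹ := by
          rw [hcen ⟨h * x * h⁻¹ * x⁻¹, hcm h x⟩ x]
      _ = g * x * ((h * x * h⁻¹ * x⁻¹) * g⁻¹) * x⁻¹ := by group
      _ = g * x * (g⁻¹ * (h * x * h⁻¹ * x⁻¹)) * x⁻¹ := by rw [h1]
      _ = g * x * g⁻¹ * ((h * x * h⁻¹ * x⁻¹) * x⁻¹) := by group
      _ = g * x * g⁻¹ * (x⁻¹ * (h * x * h⁻¹ * x⁻¹)) := by rw [h2]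
      _ = (g * x * g⁻¹ * x⁻¹) * (h * x * h⁻¹ * x⁻¹) := by group
  let Lam : E →* (E →* Subgroup.center E) :=
    { toFun := lam
      map_one' := by
        ext x
        show (1 : E) * x * (1 : E)⁻¹ * x⁻¹ = 1
        group
      map_mul' := by
        intro g h
        ext x
        exact hlam_mul g h x }
  have hker : Lam.ker = Subgroup.center E := by
    ext g
    rw [MonoidHom.mem_ker, Subgroup.mem_center_iff]
    constructor
    · intro hg x
      have h1 : ((Lam g x : Subgroup.center E) : E) = 1 := by rw [hg]; rfl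
      have h2 : g * x * g⁻¹ * x⁻¹ = 1 := h1
      have h3 : g * x * g⁻¹ = x := by rwa [mul_inv_eq_one] at h2
      have h4 : g * x = x * g := by rwa [mul_inv_eq_iff_eq_mul] at h3
      exact h4.symm
    · intro hg
      ext x
      show g * x * g⁻¹ * x⁻¹ = 1
      rw [← hg x]; group
  have : Finite (E →* Subgroup.center E) := finite_hom _ _
  have hrange : Lam.range = ⊤ := by
    apply Subgroup.eq_top_of_le_card
    have h1 := card_hom_le (E := E) (Subgroup.center E) hcard
    have h2 : Nat.card Lam.range = Lam.ker.index := by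
      rw [Subgroup.index_eq_card]
      exact (Nat.card_congr (QuotientGroup.quotientKerEquivRange Lam).toEquiv).symm
    rw [h2, hker]
    calc Nat.card (E →* Subgroup.center E) ≤ (commutator E).index := h1
      _ = (Subgroup.center E).index := by rw [hcomm]
  have hl : l ∈ Lam.range := by rw [hrange]; exact Subgroup.mem_top l
  obtain ⟨g, hg⟩ := hl
  refine ⟨g, fun x => ?_⟩
  rw [← hg]
  rfl

/-- For a finite extraspecial 2-group E, an automorphism of E that induces the identity on E modulo its centre is inner (so these automorphisms form exactly the inner automorphism group, an elementary abelian 2-group of order |E|/2). -/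
theorem result {E : Type*} [Group E] [Finite E] (hE : Cfsg.IsExtraspecial 2 E) (φ : E ≃* E) (hφ : ∀ x : E, φ x * x⁻¹ ∈ Subgroup.center E) : ∃ g : E, ∀ x : E, φ x = g * x * g⁻¹ := by
  have hmem : ∀ x : E, φ x * x⁻¹ ∈ Subgroup.center E := hφ
  have hcen : ∀ (c : Subgroup.center E) (y : E), y * (c : E) = (c : E) * y := fun c y =>
    Subgroup.mem_center_iff.1 c.2 y
  let l : E →* Subgroup.center E :=
    { toFun := fun x => ⟨φ x * x⁻¹, hmem x⟩
      map_one' := by apply Subtype.ext; simp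
      map_mul' := by
        intro x y
        apply Subtype.ext
        show φ (x * y) * (x * y)⁻¹ = (φ x * x⁻¹) * (φ y * y⁻¹)
        have h1 : x⁻¹ * (φ y * y⁻¹) = (φ y * y⁻¹) * x⁻¹ := hcen ⟨φ y * y⁻¹, hmem y⟩ x⁻¹
        rw [map_mul]
        calc φ x * φ y * (x * y)⁻¹ = φ x * ((φ y * y⁻¹) * x⁻¹) := by group
          _ = φ x * (x⁻¹ * (φ y * y⁻¹)) := by rw [h1]
          _ = (φ x * x⁻¹) * (φ y * y⁻¹) := by group }
  obtain ⟨g, hg⟩ := hom_is_inner hE l
  refine ⟨g, fun x => ?_⟩
  have h1 : φ x * x⁻¹ = g * x * g⁻¹ * x⁻¹ := hg x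
  exact mul_right_cancel h1

end Cfsg.Agent.S5395
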