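import Cfsg.Statements.S2880
import Mathlib
import Cfsg.Agent.S5395
import Cfsg.Agent.Lib_helper1_PGroup
-- import your own Cfsg.Agent.* helpers here

set_option autoImplicit false
open Cfsg

namespace Cfsg.Agent.S2880

open scoped IsMulCommutative


/-- commutation with `g` as a hom into the centre (class two). -/
def commHom {E : Type*} [Group E] (hcm : ∀ g x : E, g * x * g⁻¹ * x⁻¹ ∈ Subgroup.center E)
    (g : E) : E →* Subgroup.center E where
  toFun x := ⟨g * x * g⁻¹ * x⁻¹, hcm g x⟩
  map_one' := by apply Subtype.ext; simp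
  map_mul' := by
    intro x y
    apply Subtype.ext
    show g * (x * y) * g⁻¹ * (x * y)⁻¹ = (g * x * g⁻¹ * x⁻¹) * (g * y * g⁻¹ * y⁻¹)
    have h1 : x⁻¹ * (g * y * g⁻¹ * y⁻¹) = (g * y * g⁻¹ * y⁻¹) * x⁻¹ :=
      Subgroup.mem_center_iff.1 (hcm g y) x⁻¹
    calc g * (x * y) * g⁻¹ * (x * y)⁻¹ = g * x * g⁻¹ * ((g * y * g⁻¹ * y⁻¹) * x⁻¹) := by group
      _ = g * x * g⁻¹ * (x⁻¹ * (g * y * g⁻¹ * y⁻¹)) := by rw [h1]
      _ = (g * x * g⁻¹ * x⁻¹) * (g * y * g⁻¹ * y⁻¹) := by group

theorem commHom_apply {E : Type*} [Group E]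
    (hcm : ∀ g x : E, g * x * g⁻¹ * x⁻¹ ∈ Subgroup.center E) (g x : E) :
    ((commHom hcm g x : Subgroup.center E) : E) = g * x * g⁻¹ * x⁻¹ := rfl

theorem commHom_mul {E : Type*} [Group E]
    (hcm : ∀ g x : E, g * x * g⁻¹ * x⁻¹ ∈ Subgroup.center E) (g h x : E) :
    commHom hcm (g * h) x = commHom hcm g x * commHom hcm h x := by
  apply Subtype.ext
  show g * h * x * (g * h)⁻¹ * x⁻¹ = (g * x * g⁻¹ * x⁻¹) * (h * x * h⁻¹ * x⁻¹)
  have h1 : g * (h * x * h⁻¹ * x⁻¹) = (h * x * h⁻¹ * x⁻¹) * g :=
    Subgroup.mem_center_iff.1 (hcm h x) g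
  have h2 : (g * x * g⁻¹ * x⁻¹) * (h * x * h⁻¹ * x⁻¹) =
      (h * x * h⁻¹ * x⁻¹) * (g * x * g⁻¹ * x⁻¹) :=
    Subgroup.mem_center_iff.1 (hcm h x) _
  calc g * h * x * (g * h)⁻¹ * x⁻¹ = (g * (h * x * h⁻¹ * x⁻¹)) * x * g⁻¹ * x⁻¹ := by group
    _ = (h * x * h⁻¹ * x⁻¹) * g * x * g⁻¹ * x⁻¹ := by rw [h1]
    _ = (h * x * h⁻¹ * x⁻¹) * (g * x * g⁻¹ * x⁻¹) := by group
    _ = (g * x * g⁻¹ * x⁻¹) * (h * x * h⁻¹ * x⁻¹) := h2.symm

/-- In a class-two group with centre of order two, `|A| |C(A)| ≤ 2 |E|` for every subgroup. -/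
theorem card_mul_card_centralizer_le {E : Type*} [Group E] [Finite E]
    (hcm : ∀ g x : E, g * x * g⁻¹ * x⁻¹ ∈ Subgroup.center E)
    (hZ : Nat.card (Subgroup.center E) = 2) (A : Subgroup E) :
    Nat.card A * Nat.card (Subgroup.centralizer (A : Set E)) ≤ 2 * Nat.card E := by
  classical
  haveI : Finite (↥A →* ↥(Subgroup.center E)) := Cfsg.Agent.S5395.finite_hom _ _
  let Φ : E →* (↥A →* ↥(Subgroup.center E)) :=
    { toFun := fun g => (commHom hcm g).comp A.subtype
      map_one' := by
        apply MonoidHom.ext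
        intro a
        apply Subtype.ext
        show (1 : E) * (a : E) * 1⁻¹ * (a : E)⁻¹ = 1
        simp
      map_mul' := by
        intro g h
        apply MonoidHom.ext
        intro a
        exact commHom_mul hcm g h a }
  have hΦ : ∀ (g : E) (a : A), ((Φ g a : Subgroup.center E) : E) = g * a * g⁻¹ * (a : E)⁻¹ :=
    fun g a => rfl
  have hker : Φ.ker = Subgroup.centralizer (A : Set E) := by
    ext g
    rw [MonoidHom.mem_ker, Subgroup.mem_centralizer_iff]
    constructor
    · intro h a ha
      have h1 := hΦ g ⟨a, ha⟩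
      rw [h] at h1
      have h2 : g * a * g⁻¹ * a⁻¹ = 1 := h1.symm
      calc a * g = (g * a * g⁻¹ * a⁻¹)⁻¹ * (g * a) := by group
        _ = g * a := by rw [h2, inv_one, one_mul]
    · intro h
      apply MonoidHom.ext
      intro a
      apply Subtype.ext
      rw [hΦ]
      have h1 := h a a.2
      show g * (a : E) * g⁻¹ * (a : E)⁻¹ = 1
      rw [← h1]; group
  have hI : Nat.card Φ.range = (Subgroup.centralizer (A : Set E)).index := by
    rw [← hker, Subgroup.index_ker]
  let ev : ↥A →* (↥Φ.range →* ↥(Subgroup.center E)) :=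
    { toFun := fun a =>
        { toFun := fun f => (f : ↥A →* ↥(Subgroup.center E)) a
          map_one' := rfl
          map_mul' := fun _ _ => rfl }
      map_one' := by
        apply MonoidHom.ext
        intro f
        show (f : ↥A →* ↥(Subgroup.center E)) 1 = 1
        exact map_one _
      map_mul' := by
        intro a b
        apply MonoidHom.ext
        intro f
        show (f : ↥A →* ↥(Subgroup.center E)) (a * b) = _
        exact map_mul _ a b }
  have hevker : Nat.card ev.ker ≤ 2 := by
    have hmem : ∀ a : ev.ker, ((a : A) : E) ∈ Subgroup.center E := by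
      intro a
      rw [Subgroup.mem_center_iff]
      intro g
      have h1 : ev (a : A) = 1 := a.2
      have h2 : ev (a : A) ⟨Φ g, ⟨g, rfl⟩⟩ = 1 := by rw [h1]; rfl
      have h3 : Φ g (a : A) = 1 := h2
      have h4 := hΦ g (a : A)
      rw [h3] at h4
      have h5 : g * ((a : A) : E) * g⁻¹ * ((a : A) : E)⁻¹ = 1 := h4.symm
      calc g * ((a : A) : E) = (g * ((a : A) : E) * g⁻¹ * ((a : A) : E)⁻¹) * (((a : A) : E) * g) := by
            group
        _ = ((a : A) : E) * g := by rw [h5, one_mul]
    have hinj : Function.Injective (fun a : ev.ker =>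
        (⟨((a : A) : E), hmem a⟩ : Subgroup.center E)) := by
      intro a b hab
      have hab' : (⟨((a : A) : E), hmem a⟩ : Subgroup.center E) = ⟨((b : A) : E), hmem b⟩ := hab
      have h1 : ((a : A) : E) = ((b : A) : E) := Subtype.mk.inj hab'
      exact Subtype.ext (Subtype.ext h1)
    have := Nat.card_le_card_of_injective _ hinj
    rwa [hZ] at this
  have hfin : Finite (↥Φ.range →* ↥(Subgroup.center E)) := Cfsg.Agent.S5395.finite_hom _ _
  have hevrange : Nat.card ev.range ≤ Nat.card Φ.range := by
    have h1 : Nat.card ev.range ≤ Nat.card (↥Φ.range →* ↥(Subgroup.center E)) :=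
      Nat.card_le_card_of_injective Subtype.val Subtype.val_injective
    have h2 := Cfsg.Agent.S5395.card_hom_le (E := ↥Φ.range) (↥(Subgroup.center E)) hZ
    have h3 : (commutator ↥Φ.range).index ≤ Nat.card Φ.range :=
      Nat.le_of_dvd Nat.card_pos (Subgroup.index_dvd_card _)
    exact h1.trans (h2.trans h3)
  have hA : Nat.card ev.ker * Nat.card ev.range = Nat.card A := by
    rw [← Subgroup.index_ker]; exact Subgroup.card_mul_index ev.ker
  have hE : (Subgroup.centralizer (A : Set E)).index *
      Nat.card (Subgroup.centralizer (A : Set E)) = Nat.card E := Subgroup.index_mul_card _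
  calc Nat.card A * Nat.card (Subgroup.centralizer (A : Set E))
      = Nat.card ev.ker * Nat.card ev.range * Nat.card (Subgroup.centralizer (A : Set E)) := by
        rw [hA]
    _ ≤ 2 * Nat.card Φ.range * Nat.card (Subgroup.centralizer (A : Set E)) :=
        Nat.mul_le_mul_right _ (Nat.mul_le_mul hevker hevrange)
    _ = 2 * Nat.card E := by rw [hI, mul_assoc, hE]

/-- Let E be an extraspecial 2-group of order 2^(2m+1) of plus type, that is, containing an elementary abelian subgroup of order 2^(m+1) (equivalently, a central product of m dihedral groups of order 8). Then E has exactly 2^(2m) − 2^m elements of order 4. -/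
theorem result {E : Type*} [Group E] [Finite E] (m : ℕ) (hm : 1 ≤ m) (hE : Cfsg.IsExtraspecial 2 E) (hcard : Nat.card E = 2 ^ (2 * m + 1)) (hplus : ∃ A : Subgroup E, Cfsg.IsElementaryAbelian 2 A ∧ Nat.card A = 2 ^ (m + 1)) : Nat.card {x : E // orderOf x = 4} = 2 ^ (2 * m) - 2 ^ m := by
  classical
  haveI : Fintype E := Fintype.ofFinite E
  obtain ⟨⟨hp2, hfr, hcomm⟩, hZ⟩ := hE
  have hcm : ∀ g x : E, g * x * g⁻¹ * x⁻¹ ∈ Subgroup.center E := by
    intro g x
    rw [← hcomm, commutator_def]
    have := Subgroup.commutator_mem_commutator (Subgroup.mem_top g) (Subgroup.mem_top x)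
    rwa [commutatorElement_def] at this
  haveI : Fact (Nat.Prime 2) := ⟨Nat.prime_two⟩
  have hsq : ∀ x : E, x * x ∈ Subgroup.center E := by
    intro x
    rw [← hfr, ← pow_two]
    exact Cfsg.Agent.helper1.pow_mem_frattini_of_isPGroup hp2 x
  obtain ⟨zc, hzc1, hzcu⟩ := (Nat.card_eq_two_iff' (1 : Subgroup.center E)).mp hZ
  have hz1 : (zc : E) ≠ 1 := fun h => hzc1 (Subtype.ext h)
  have hzcases : ∀ c ∈ Subgroup.center E, c = 1 ∨ c = (zc : E) := by
    intro c hc
    by_cases h : c = 1
    · left; exact h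
    · right
      have := hzcu ⟨c, hc⟩ (fun h' => h (congrArg Subtype.val h'))
      exact congrArg Subtype.val this
  have hzcen : ∀ g : E, g * (zc : E) = (zc : E) * g := fun g => Subgroup.mem_center_iff.1 zc.2 g
  have hzz : (zc : E) * (zc : E) = 1 := by
    rcases hzcases ((zc : E) * (zc : E)) (Subgroup.mul_mem _ zc.2 zc.2) with h | h
    · exact h
    · exfalso
      apply hz1
      have : (zc : E) * (zc : E) = (zc : E) * 1 := by rw [h, mul_one]
      exact mul_left_cancel this
  obtain ⟨A, ⟨hAc, hAexp⟩, hAcard⟩ := hplus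
  have hAcomm : ∀ a ∈ A, ∀ b ∈ A, a * b = b * a := by
    intro a ha b hb
    exact congrArg Subtype.val (hAc.is_comm.comm (⟨a, ha⟩ : A) ⟨b, hb⟩)
  have hAsq : ∀ a ∈ A, a * a = 1 := by
    intro a ha; rw [← pow_two]; exact hAexp a ha
  have hCA : ∀ x : E, (∀ a ∈ A, a * x = x * a) → x ∈ A := by
    have hle : A ≤ Subgroup.centralizer (A : Set E) := by
      intro a ha
      rw [Subgroup.mem_centralizer_iff]
      intro b hb
      exact hAcomm b hb a ha
    have hcc := card_mul_card_centralizer_le hcm hZ A
    have hCle : Nat.card (Subgroup.centralizer (A : Set E)) ≤ Nat.card A := by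
      rw [hAcard, hcard] at hcc
      have e : 2 * 2 ^ (2 * m + 1) = 2 ^ (m + 1) * 2 ^ (m + 1) := by ring
      rw [e] at hcc
      rw [hAcard]
      exact Nat.le_of_mul_le_mul_left hcc (by positivity)
    have heq : A = Subgroup.centralizer (A : Set E) := Subgroup.eq_of_le_of_card_ge hle hCle
    intro x hx
    rw [heq, Subgroup.mem_centralizer_iff]
    exact hx
  let S : E → Set E := fun x => {a | a ∈ A ∧ a * x ≠ x * a}
  let c : Set E → E := fun T => if h : T.Nonempty then h.some else 1
  have hc_mem : ∀ T : Set E, T.Nonempty → c T ∈ T := by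
    intro T hT
    simp only [c, dif_pos hT]
    exact hT.some_mem
  have hSne : ∀ x, x ∉ A → (S x).Nonempty := by
    intro x hx
    by_contra hne
    apply hx
    apply hCA
    intro a ha
    by_contra hax
    exact hne ⟨a, ha, hax⟩
  have hcS : ∀ x, x ∉ A → c (S x) ∈ A ∧ c (S x) * x ≠ x * c (S x) :=
    fun x hx => hc_mem _ (hSne x hx)
  have hSτ : ∀ x, x ∉ A → S (x * c (S x)) = S x := by
    intro x hx
    obtain ⟨haA, _⟩ := hcS x hx
    generalize c (S x) = a at haA
    ext a'
    constructor
    · rintro ⟨ha', hne⟩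
      refine ⟨ha', fun h => hne ?_⟩
      calc a' * (x * a) = (a' * x) * a := by rw [mul_assoc]
        _ = (x * a') * a := by rw [h]
        _ = x * (a' * a) := by rw [mul_assoc]
        _ = x * (a * a') := by rw [hAcomm _ ha' _ haA]
        _ = x * a * a' := by rw [mul_assoc]
    · rintro ⟨ha', hne⟩
      refine ⟨ha', fun h => hne ?_⟩
      have h2 : a' * x * a = x * a' * a := by
        calc a' * x * a = a' * (x * a) := by rw [mul_assoc]
          _ = x * a * a' := h
          _ = x * (a * a') := by rw [mul_assoc]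
          _ = x * (a' * a) := by rw [hAcomm _ haA _ ha']
          _ = x * a' * a := by rw [mul_assoc]
      exact mul_right_cancel h2
  have hτA : ∀ x, x ∉ A → x * c (S x) ∉ A := by
    intro x hx h
    obtain ⟨haA, _⟩ := hcS x hx
    apply hx
    have : x = (x * c (S x)) * (c (S x))⁻¹ := by group
    rw [this]
    exact A.mul_mem h (A.inv_mem haA)
  have hττ : ∀ x, x ∉ A → (x * c (S x)) * c (S (x * c (S x))) = x := by
    intro x hx
    rw [hSτ x hx]
    obtain ⟨haA, _⟩ := hcS x hx
    rw [mul_assoc, hAsq _ haA, mul_one]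
  have hτsq : ∀ x, x ∉ A → (x * c (S x)) * (x * c (S x)) = (zc : E) * (x * x) := by
    intro x hx
    obtain ⟨haA, hne⟩ := hcS x hx
    generalize c (S x) = a at haA hne
    have h1 : a * x * a⁻¹ * x⁻¹ = (zc : E) := by
      rcases hzcases _ (hcm a x) with h | h
      · exfalso
        apply hne
        calc a * x = (a * x * a⁻¹ * x⁻¹) * (x * a) := by group
          _ = x * a := by rw [h, one_mul]
      · exact h
    have h2 : a * x = (zc : E) * (x * a) := by
      rw [← h1]; group
    calc x * a * (x * a) = x * (a * x) * a := by group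
      _ = x * ((zc : E) * (x * a)) * a := by rw [h2]
      _ = (x * (zc : E)) * (x * (a * a)) := by group
      _ = ((zc : E) * x) * (x * 1) := by rw [hzcen x, hAsq a haA]
      _ = (zc : E) * (x * x) := by rw [mul_one, mul_assoc]
  have hP : (Finset.univ.filter (fun x : E => x ∉ A ∧ x * x = (zc : E))).card =
      (Finset.univ.filter (fun x : E => x ∉ A ∧ x * x = 1)).card := by
    apply Finset.card_nbij' (fun x => x * c (S x)) (fun x => x * c (S x))
    · intro x hx
      simp only [Finset.coe_filter, Finset.mem_univ, true_and, Set.mem_setOf_eq] at hx ⊢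
      refine ⟨hτA x hx.1, ?_⟩
      rw [hτsq x hx.1, hx.2, hzz]
    · intro x hx
      simp only [Finset.coe_filter, Finset.mem_univ, true_and, Set.mem_setOf_eq] at hx ⊢
      refine ⟨hτA x hx.1, ?_⟩
      rw [hτsq x hx.1, hx.2, mul_one]
    · intro x hx
      simp only [Finset.coe_filter, Finset.mem_univ, true_and, Set.mem_setOf_eq] at hx
      exact hττ x hx.1
    · intro x hx
      simp only [Finset.coe_filter, Finset.mem_univ, true_and, Set.mem_setOf_eq] at hx
      exact hττ x hx.1
  have hord : ∀ x : E, orderOf x = 4 ↔ (x ∉ A ∧ x * x = (zc : E)) := by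
    intro x
    constructor
    · intro h4
      have hxx : x * x = (zc : E) := by
        rcases hzcases _ (hsq x) with h | h
        · exfalso
          have h2 : x ^ 2 = 1 := by rw [pow_two]; exact h
          have := orderOf_dvd_of_pow_eq_one h2
          rw [h4] at this
          omega
        · exact h
      refine ⟨fun hxA => hz1 ?_, hxx⟩
      rw [← hxx]; exact hAsq x hxA
    · rintro ⟨_, hxx⟩
      have h1 : ¬ x ^ 2 ^ 1 = 1 := by
        rw [pow_one, pow_two, hxx]; exact hz1
      have h2 : x ^ 2 ^ (1 + 1) = 1 := by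
        have : x ^ 2 ^ (1 + 1) = (x * x) * (x * x) := by
          norm_num
          rw [show (4 : ℕ) = 2 + 2 from rfl, pow_add, pow_two]
        rw [this, hxx, hzz]
      have := orderOf_eq_prime_pow h1 h2
      rw [this]
      norm_num
  have hcount : Nat.card {x : E // orderOf x = 4} =
      (Finset.univ.filter (fun x : E => x ∉ A ∧ x * x = (zc : E))).card := by
    rw [Nat.card_eq_fintype_card, Fintype.card_subtype]
    congr 1
    ext x
    simp only [Finset.mem_filter, Finset.mem_univ, true_and]
    exact hord x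
  have hsplit : (Finset.univ.filter (fun x : E => x ∈ A)).card +
      (Finset.univ.filter (fun x : E => x ∉ A)).card = Fintype.card E := by
    rw [Finset.card_filter_add_card_filter_not, Finset.card_univ]
  have hAc' : (Finset.univ.filter (fun x : E => x ∈ A)).card = Nat.card A := by
    rw [Nat.card_eq_fintype_card, Fintype.card_subtype]
  have hsplit2 : (Finset.univ.filter (fun x : E => x ∉ A)).card =
      (Finset.univ.filter (fun x : E => x ∉ A ∧ x * x = (zc : E))).card +
      (Finset.univ.filter (fun x : E => x ∉ A ∧ x * x = 1)).card := by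
    rw [← Finset.card_union_of_disjoint]
    · congr 1
      ext x
      simp only [Finset.mem_filter, Finset.mem_univ, true_and, Finset.mem_union]
      constructor
      · intro hx
        rcases hzcases _ (hsq x) with h | h
        · right; exact ⟨hx, h⟩
        · left; exact ⟨hx, h⟩
      · rintro (h | h) <;> exact h.1
    · rw [Finset.disjoint_left]
      intro x hx1 hx2
      simp only [Finset.mem_filter, Finset.mem_univ, true_and] at hx1 hx2
      apply hz1
      rw [← hx1.2, hx2.2]
  rw [hcount]
  rw [hsplit2, ← hP, hAc', hAcard] at hsplit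
  rw [← Nat.card_eq_fintype_card, hcard] at hsplit
  have e1 : 2 ^ (2 * m + 1) = 2 * 2 ^ (2 * m) := by ring
  have e2 : 2 ^ (m + 1) = 2 * 2 ^ m := by ring
  rw [e1, e2] at hsplit
  omega

end Cfsg.Agent.S2880
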