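import Cfsg.Statements.S2881
import Mathlib
import Cfsg.Agent.S2880
-- import your own Cfsg.Agent.* helpers here

set_option autoImplicit false
open Cfsg

namespace Cfsg.Agent.S2881

/-- Let E be an extraspecial 2-group of order 2^(2m+1) of plus type (containing an elementary abelian subgroup of order 2^(m+1)), and let ω be an automorphism of E of order 5 whose fixed points are exactly the centre of E. Then m is divisible by 4. -/
theorem result {E : Type*} [Group E] [Finite E] (m : ℕ) (hm : 1 ≤ m) (hE : Cfsg.IsExtraspecial 2 E) (hcard : Nat.card E = 2 ^ (2 * m + 1)) (hplus : ∃ A : Subgroup E, Cfsg.IsElementaryAbelian 2 A ∧ Nat.card A = 2 ^ (m + 1)) (ω : E ≃* E) (hω : orderOf ω = 5) (hfix : ∀ x : E, ω x = x ↔ x ∈ Subgroup.center E) : 4 ∣ m := by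
  classical
  have hcount := Cfsg.Agent.S2880.result m hm hE hcard hplus
  haveI : Fintype E := Fintype.ofFinite E
  have hZ : Nat.card (Subgroup.center E) = 2 := hE.2
  let σ : Equiv.Perm {x : E // orderOf x = 4} :=
    { toFun := fun x => ⟨ω x.1, by rw [MulEquiv.orderOf_eq]; exact x.2⟩
      invFun := fun x => ⟨ω.symm x.1, by rw [MulEquiv.orderOf_eq]; exact x.2⟩
      left_inv := fun x => Subtype.ext (ω.symm_apply_apply x.1)
      right_inv := fun x => Subtype.ext (ω.apply_symm_apply x.1) }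
  have hσ : ∀ x : {x : E // orderOf x = 4}, (σ x).1 = ω x.1 := fun x => rfl
  have hk : ∀ (k : ℕ) (x : {x : E // orderOf x = 4}), ((σ ^ k) x).1 = (ω ^ k) x.1 := by
    intro k
    induction k with
    | zero => intro x; rfl
    | succ k ih =>
      intro x
      rw [pow_succ', pow_succ', Equiv.Perm.mul_apply, hσ, ih]
      rfl
  have hσ5 : σ ^ 5 ^ 1 = 1 := by
    apply Equiv.ext
    intro x
    apply Subtype.ext
    rw [pow_one, hk 5 x]
    have : ω ^ 5 = 1 := by rw [← hω]; exact pow_orderOf_eq_one ω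
    rw [this]
    rfl
  have hnofix : ∀ x : {x : E // orderOf x = 4}, σ x ≠ x := by
    intro x hx
    have h1 : ω x.1 = x.1 := congrArg Subtype.val hx
    have h2 : x.1 ∈ Subgroup.center E := (hfix x.1).mp h1
    have h3 : (⟨x.1, h2⟩ : Subgroup.center E) ^ Nat.card (Subgroup.center E) = 1 :=
      pow_card_eq_one'
    rw [hZ] at h3
    have h4 : x.1 ^ 2 = 1 := by
      have := congrArg Subtype.val h3
      simpa using this
    have h5 := orderOf_dvd_of_pow_eq_one h4
    rw [x.2] at h5
    omega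
  haveI : Fact (Nat.Prime 5) := ⟨by norm_num⟩
  have hdvd : 5 ∣ Fintype.card {x : E // orderOf x = 4} := by
    by_contra hnd
    obtain ⟨a, ha⟩ := Equiv.Perm.exists_fixed_point_of_prime hnd hσ5
    exact hnofix a ha
  rw [← Nat.card_eq_fintype_card, hcount] at hdvd
  have e1 : 2 ^ (2 * m) - 2 ^ m = 2 ^ m * (2 ^ m - 1) := by
    rw [Nat.mul_sub_one, two_mul, pow_add]
  rw [e1] at hdvd
  have hco : Nat.Coprime 5 (2 ^ m) := by
    apply Nat.Coprime.pow_right
    norm_num
  have h5 : 5 ∣ 2 ^ m - 1 := hco.dvd_of_dvd_mul_left hdvd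
  have hpos : 1 ≤ 2 ^ m := Nat.one_le_two_pow
  have hmod : 2 ^ m % 5 = 1 := by
    generalize 2 ^ m = t at h5 hpos
    omega
  have hm4 : m = 4 * (m / 4) + m % 4 := (Nat.div_add_mod m 4).symm
  have hr : m % 4 < 4 := Nat.mod_lt _ (by norm_num)
  have e2 : 2 ^ m % 5 = 2 ^ (m % 4) % 5 := by
    conv_lhs => rw [hm4, pow_add, pow_mul]
    rw [Nat.mul_mod, Nat.pow_mod]
    norm_num
  rw [e2] at hmod
  apply Nat.dvd_of_mod_eq_zero
  generalize m % 4 = r at hr hmod
  interval_cases r
  · rfl
  · norm_num at hmod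
  · norm_num at hmod
  · norm_num at hmod

end Cfsg.Agent.S2881
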