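import Mathlib
import Cfsg.Statements.S2882
import Cfsg.Agent.Lib_helper2_Syl2

set_option autoImplicit false
open Cfsg

namespace Cfsg.Agent.S2882

open Cfsg.Agent.helper2

open Cfsg.Agent.helper2.Golay Cfsg.Agent.helper27 Cfsg.Agent.helper2.Syl2
open scoped Pointwise

instance finite_M24 : Finite ↥Cfsg.M24 := inferInstance

/-- The base group inside `M24`. -/
def RM : Subgroup ↥Cfsg.M24 := R0.subgroupOf Cfsg.M24

theorem mem_RM {x : ↥Cfsg.M24} : x ∈ RM ↔ (x : Equiv.Perm GolayPt) ∈ R0 := Iff.rfl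

theorem RM_isPGroup : IsPGroup 2 RM := by
  intro x
  refine ⟨4, ?_⟩
  apply Subtype.ext
  apply Subtype.ext
  have := pow_sixteen (mem_RM.mp x.2)
  simpa using this

theorem RM_nrm {g : ↥Cfsg.M24} (h : ∀ r ∈ RM, g⁻¹ * r * g ∈ RM) : g ∈ RM := by
  apply mem_RM.mpr
  apply nrm_mem
  refine ⟨g.2, ?_⟩
  intro r hr
  have hrm : r ∈ Cfsg.M24 := (mem_R0.mp hr).1
  exact mem_RM.mp (h ⟨r, hrm⟩ (mem_RM.mpr hr))

theorem exists_sylow_eq : ∃ S0 : Sylow 2 ↥Cfsg.M24, (S0 : Subgroup ↥Cfsg.M24) = RM := by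
  obtain ⟨S0, hS0⟩ := RM_isPGroup.exists_le_sylow
  refine ⟨S0, le_antisymm ?_ hS0⟩
  have hnil : Group.IsNilpotent ↥(S0 : Subgroup ↥Cfsg.M24) := S0.isPGroup'.isNilpotent
  by_contra hcon
  have hlt : RM.subgroupOf (S0 : Subgroup ↥Cfsg.M24) < ⊤ := by
    rw [lt_top_iff_ne_top, Ne, Subgroup.subgroupOf_eq_top]
    exact hcon
  have hnc := Group.normalizerCondition_of_isNilpotent (G := ↥(S0 : Subgroup ↥Cfsg.M24)) _ hlt
  obtain ⟨x, hxn, hxH⟩ := SetLike.exists_of_lt hnc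
  apply hxH
  rw [Subgroup.mem_subgroupOf]
  apply RM_nrm
  intro r hr
  have hrS : r ∈ (S0 : Subgroup ↥Cfsg.M24) := hS0 hr
  have h1 := (Subgroup.mem_normalizer_iff''.mp hxn ⟨r, hrS⟩)
  have h2 : (⟨r, hrS⟩ : ↥(S0 : Subgroup ↥Cfsg.M24)) ∈ RM.subgroupOf (S0 : Subgroup ↥Cfsg.M24) := by
    rw [Subgroup.mem_subgroupOf]
    exact hr
  have h3 := h1.mp h2
  rw [Subgroup.mem_subgroupOf] at h3
  exact h3

theorem base_self_normalizing (S0 : Sylow 2 ↥Cfsg.M24) (h : (S0 : Subgroup ↥Cfsg.M24) = RM) :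
    Subgroup.normalizer ((S0 : Subgroup ↥Cfsg.M24) : Set ↥Cfsg.M24) = (S0 : Subgroup ↥Cfsg.M24) := by
  apply le_antisymm _ Subgroup.le_normalizer
  intro g hg
  rw [h]
  apply RM_nrm
  intro r hr
  rw [← h] at hr ⊢
  exact (Subgroup.mem_normalizer_iff''.mp hg r).mp hr

theorem result (S : Sylow 2 ↥Cfsg.M24) : Subgroup.normalizer ((S : Subgroup ↥Cfsg.M24) : Set ↥Cfsg.M24) = (S : Subgroup ↥Cfsg.M24) := by
  obtain ⟨S0, hS0⟩ := exists_sylow_eq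
  have hbase := base_self_normalizing S0 hS0
  obtain ⟨g, rfl⟩ := MulAction.exists_smul_eq ↥Cfsg.M24 S0 S
  apply le_antisymm _ Subgroup.le_normalizer
  intro x hx
  rw [Sylow.coe_subgroup_smul] at hx ⊢
  rw [Subgroup.mem_pointwise_smul_iff_inv_smul_mem]
  show g⁻¹ * x * g⁻¹⁻¹ ∈ (S0 : Subgroup ↥Cfsg.M24)
  rw [inv_inv, ← hbase, Subgroup.mem_normalizer_iff'']
  intro h
  have key : ∀ y : ↥Cfsg.M24, y ∈ MulAut.conj g • (S0 : Subgroup ↥Cfsg.M24) ↔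
      g⁻¹ * y * g ∈ (S0 : Subgroup ↥Cfsg.M24) := by
    intro y
    rw [Subgroup.mem_pointwise_smul_iff_inv_smul_mem]
    show g⁻¹ * y * g⁻¹⁻¹ ∈ _ ↔ _
    rw [inv_inv]
  have h1 := Subgroup.mem_normalizer_iff''.mp hx (g * h * g⁻¹)
  rw [key, key] at h1
  have e1 : g⁻¹ * (g * h * g⁻¹) * g = h := by group
  have e2 : g⁻¹ * (x⁻¹ * (g * h * g⁻¹) * x) * g = (g⁻¹ * x * g)⁻¹ * h * (g⁻¹ * x * g) := by group
  rw [e1, e2] at h1
  exact h1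

end Cfsg.Agent.S2882
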