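import Cfsg.Statements.S2896
import Mathlib
import Cfsg.Agent.Lib_helper14_ParaChar2
import Cfsg.Agent.Lib_helper10_Sylow
-- import your own Cfsg.Agent.* helpers here

set_option autoImplicit false
open Cfsg

namespace Cfsg.Agent.S2896

/-- Let p be a prime dividing the order of the finite group G, S a Sylow p-subgroup of G and X a subgroup of S. (i) If some nontrivial element z of the centre of X has F*(C_G(z)) = O_p(C_G(z)), then F*(N_G(X)) = O_p(N_G(X)). (ii) G has parabolic characteristic p if and only if F*(C_G(z)) = O_p(C_G(z)) for every nontrivial z ∈ Ω₁(Z(S)). (iii) If F*(C_G(z)) = O_p(C_G(z)) for every element z of S of order p, then G has local characteristic p. -/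
theorem result {G : Type*} [Group G] [Finite G] {p : ℕ} [Fact p.Prime] (hdiv : p ∣ Nat.card G) (S : Sylow p G) (X : Subgroup G) (hX : X ≤ (S : Subgroup G)) : (∀ z : G, z ≠ 1 → z ∈ X → (∀ x ∈ X, x * z = z * x) → Cfsg.generalizedFittingSubgroup ↥(Subgroup.centralizer ({z} : Set G)) = Cfsg.pCore p ↥(Subgroup.centralizer ({z} : Set G)) → Cfsg.generalizedFittingSubgroup ↥(Subgroup.normalizer (X : Set G)) = Cfsg.pCore p ↥(Subgroup.normalizer (X : Set G))) ∧ (Cfsg.IsOfParabolicCharacteristic p G ↔ ∀ z : G, z ≠ 1 → z ∈ Cfsg.omegaOne p ((S : Subgroup G) ⊓ Subgroup.centralizer ((S : Subgroup G) : Set G)) → Cfsg.generalizedFittingSubgroup ↥(Subgroup.centralizer ({z} : Set G)) = Cfsg.pCore p ↥(Subgroup.centralizer ({z} : Set G))) ∧ ((∀ z : G, z ∈ (S : Subgroup G) → orderOf z = p → Cfsg.generalizedFittingSubgroup ↥(Subgroup.centralizer ({z} : Set G)) = Cfsg.pCore p ↥(Subgroup.centralizer ({z} : Set G))) → Cfsg.IsOfLocalCharacteristic p G) := by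
  refine ⟨?_, ?_, ?_⟩
  · intro z hz1 hzX hzc h
    exact (Cfsg.Agent.helper14.fstar_type_iff _).mpr
      (Cfsg.Agent.helper14.ac_normalizer_of_central X (S.isPGroup'.to_le hX) z hzX hzc
        ((Cfsg.Agent.helper14.fstar_type_iff _).mp h))
  · constructor
    · intro hG z hz1 hzΩ
      have hzB := Cfsg.Agent.helper14.omegaOne_center_le p (S : Subgroup G) hzΩ
      obtain ⟨hzS, hzC⟩ := Subgroup.mem_inf.mp hzB
      have hSC : (S : Subgroup G) ≤
          Subgroup.centralizer ((Subgroup.zpowers z : Subgroup G) : Set G) := by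
        rw [Cfsg.Agent.helper14.centralizer_zpowers_eq]
        intro x hx
        rw [Subgroup.mem_centralizer_iff]
        intro y hy
        rw [Set.mem_singleton_iff] at hy
        subst hy
        exact (Subgroup.mem_centralizer_iff.mp hzC x hx).symm
      have hCN : Subgroup.centralizer ((Subgroup.zpowers z : Subgroup G) : Set G) ≤
          Subgroup.normalizer ((Subgroup.zpowers z : Subgroup G) : Set G) :=
        Subgroup.centralizer_le_normalizer _
      have hpar : Cfsg.IsParabolic p
          (Subgroup.normalizer ((Subgroup.zpowers z : Subgroup G) : Set G)) :=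
        ⟨S, hSC.trans hCN⟩
      have hZp : IsPGroup p (Subgroup.zpowers z) :=
        S.isPGroup'.to_le (Subgroup.zpowers_le.mpr hzS)
      have hZ1 : Subgroup.zpowers z ≠ ⊥ := by
        intro h
        exact hz1 (Subgroup.zpowers_eq_bot.mp h)
      have h1 := hG (Subgroup.zpowers z) hZp hZ1 hpar
      have h2 := Cfsg.Agent.helper14.ac_of_isCharP _ h1
      have h3 := Cfsg.Agent.helper14.ac_of_sn h2
        (Cfsg.Agent.helper7.SN.of_normal hCN (Cfsg.Agent.helper14.normalizer_le_normalizer_centralizer _))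
      rw [Cfsg.Agent.helper14.centralizer_zpowers_eq] at h3
      exact (Cfsg.Agent.helper14.fstar_type_iff _).mpr h3
    · intro h R hRp hR1 hpar
      exact Cfsg.Agent.helper14.isCharP_of_ac _
        (Cfsg.Agent.helper14.ac_parabolic_of_central S
          (fun z hz1 hzΩ => (Cfsg.Agent.helper14.fstar_type_iff _).mp (h z hz1 hzΩ)) R hRp hR1 hpar)
  · intro h
    refine ⟨hdiv, ?_⟩
    intro T hTp hT1
    obtain ⟨g, hg⟩ := Cfsg.Agent.helper10.pgroup_conj_into_sylow S T hTp
    have hT'p : IsPGroup p (Cfsg.Agent.helper7.cj g T) := hTp.map _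
    have hT'1 : Cfsg.Agent.helper7.cj g T ≠ ⊥ :=
      fun h => hT1 (Cfsg.Agent.helper7.cj_eq_bot_iff.mp h)
    obtain ⟨z, hzT, hzc, hzord⟩ :=
      Cfsg.Agent.helper15.exists_central_orderOf_eq_prime (Cfsg.Agent.helper7.cj g T) hT'p hT'1
    have h1 := (Cfsg.Agent.helper14.fstar_type_iff _).mp (h z (hg hzT) hzord)
    have h2 := Cfsg.Agent.helper14.ac_normalizer_of_central _ hT'p z hzT hzc h1
    have h3 := Cfsg.Agent.helper14.ac_cj h2 g⁻¹
    rw [Cfsg.Agent.helper7.cj_normalizer, Cfsg.Agent.helper7.cj_inv_cj] at h3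
    exact Cfsg.Agent.helper14.isCharP_of_ac _ h3

end Cfsg.Agent.S2896
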