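import Cfsg.Statements.S2898
import Cfsg.Agent.Lib_helper15_CharP2
import Cfsg.Agent.Lib_helper15_Sylow
import Cfsg.Agent.Lib_helper15_Isolated
import Cfsg.Agent.Lib_helper1_Core
-- import your own Cfsg.Agent.* helpers here

set_option autoImplicit false
open Cfsg

namespace Cfsg.Agent.S2898

theorem main {G : Type*} [Group G] [Finite G] (h2 : 2 ∣ Nat.card G)
    (hG : Cfsg.IsOfParabolicCharacteristic 2 G) (W : Subgroup G) [hN : W.Normal]
    (hWcop : (Nat.card W).Coprime 2)
    (hmax : ∀ C : Subgroup G, C.Normal → (Nat.card C).Coprime 2 → C ≤ W)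
    (hZ : Subgroup.center (G ⧸ W) = ⊥) : W = ⊥ := by
  haveI : Fact (Nat.Prime 2) := ⟨Nat.prime_two⟩
  have hCn : (Subgroup.centralizer (W : Set G)).Normal := Subgroup.normal_centralizer
  by_cases h2C : 2 ∣ Nat.card ↥(Subgroup.centralizer (W : Set G))
  · -- Case 1
    obtain ⟨t, ht⟩ := exists_prime_orderOf_dvd_card' 2 h2C
    have hto : orderOf (t : G) = 2 := by rw [Subgroup.orderOf_coe]; exact ht
    have hzp : IsPGroup 2 ↥(Subgroup.zpowers (t : G)) :=
      Cfsg.Agent.helper15.isPGroup_zpowers_of_orderOf (t : G) ⟨1, by rw [hto, pow_one]⟩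
    obtain ⟨S₁, hS₁⟩ := hzp.exists_le_sylow
    have htS : (t : G) ∈ (S₁ : Subgroup G) := hS₁ (Subgroup.mem_zpowers _)
    have hT2 : IsPGroup 2 ↥((S₁ : Subgroup G) ⊓ Subgroup.centralizer (W : Set G)) :=
      S₁.isPGroup'.to_le inf_le_left
    have hTne : (S₁ : Subgroup G) ⊓ Subgroup.centralizer (W : Set G) ≠ ⊥ := by
      intro hbot
      have h3 : (t : G) ∈ (S₁ : Subgroup G) ⊓ Subgroup.centralizer (W : Set G) :=
        Subgroup.mem_inf.2 ⟨htS, t.2⟩
      rw [hbot, Subgroup.mem_bot] at h3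
      rw [h3, orderOf_one] at hto
      omega
    have hpar : Cfsg.IsParabolic 2 (Subgroup.normalizer
        (((S₁ : Subgroup G) ⊓ Subgroup.centralizer (W : Set G) : Subgroup G) : Set G)) := by
      refine ⟨S₁, ?_⟩
      intro s hs
      apply Subgroup.mem_normalizer_fintype
      intro n hn
      have hn' : n ∈ (S₁ : Subgroup G) ⊓ Subgroup.centralizer (W : Set G) := hn
      exact Subgroup.mem_inf.2 ⟨(S₁ : Subgroup G).mul_mem ((S₁ : Subgroup G).mul_mem hs
        (Subgroup.mem_inf.1 hn').1) ((S₁ : Subgroup G).inv_mem hs),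
        hCn.conj_mem n (Subgroup.mem_inf.1 hn').2 s⟩
    have hchar := hG _ hT2 hTne hpar
    rw [Subgroup.eq_bot_iff_forall]
    intro w hw
    apply Cfsg.Agent.helper15.eq_one_of_mem_normal_coprime_of_mem_normalizer _ hchar W hN hWcop w hw
    apply Subgroup.centralizer_le_normalizer
    rw [Subgroup.mem_centralizer_iff]
    intro n hn
    have hn' : n ∈ (S₁ : Subgroup G) ⊓ Subgroup.centralizer (W : Set G) := hn
    exact (Subgroup.mem_centralizer_iff.mp (Subgroup.mem_inf.1 hn').2 w hw).symm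
  · -- Case 2
    exfalso
    have hCW : Subgroup.centralizer (W : Set G) ≤ W :=
      hmax _ hCn ((Nat.Prime.coprime_iff_not_dvd Nat.prime_two).mpr h2C).symm
    obtain ⟨S⟩ : Nonempty (Sylow 2 G) := inferInstance
    have hS1 : (S : Subgroup G) ≠ ⊥ := S.ne_bot_of_dvd_card h2
    obtain ⟨z, hzS, hzC, hzo⟩ :=
      Cfsg.Agent.helper15.exists_central_orderOf_eq_prime (S : Subgroup G) S.isPGroup' hS1
    have hRp : IsPGroup 2 ↥(Subgroup.zpowers z) :=
      Cfsg.Agent.helper15.isPGroup_zpowers_of_orderOf z ⟨1, by rw [hzo, pow_one]⟩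
    have hRne : Subgroup.zpowers z ≠ ⊥ := by
      rw [Ne, Subgroup.zpowers_eq_bot]
      intro hz1
      rw [hz1, orderOf_one] at hzo
      omega
    have hpar : Cfsg.IsParabolic 2 (Subgroup.normalizer
        ((Subgroup.zpowers z : Subgroup G) : Set G)) := by
      refine ⟨S, ?_⟩
      intro s hs
      exact Cfsg.Agent.helper15.mem_normalizer_zpowers_of_commute (hzC s hs)
    have hchar := hG _ hRp hRne hpar
    have key : ∀ w ∈ W, w * z = z * w → w = 1 := by
      intro w hw hwz
      exact Cfsg.Agent.helper15.eq_one_of_mem_normal_coprime_of_mem_normalizer _ hchar W hN hWcop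
        w hw (Cfsg.Agent.helper15.mem_normalizer_zpowers_of_commute hwz)
    have hzz : z * z = 1 := by
      have h3 := pow_orderOf_eq_one z
      rwa [hzo, sq] at h3
    have hzinv : z⁻¹ = z := inv_eq_of_mul_eq_one_right hzz
    have hfpf : MonoidHom.FixedPointFree ((MulAut.conjNormal z : MulAut ↥W).toMonoidHom) := by
      intro w hw
      have h3 : z * (w : G) * z⁻¹ = w := by
        have h4 := congrArg Subtype.val hw
        rwa [MulEquiv.coe_toMonoidHom, MulAut.conjNormal_apply] at h4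
      have h4 : (w : G) * z = z * w := by
        calc (w : G) * z = (z * w * z⁻¹) * z := by rw [h3]
          _ = z * w := by group
      exact Subtype.ext (key w w.2 h4)
    have hinv : Function.Involutive ((MulAut.conjNormal z : MulAut ↥W).toMonoidHom) := by
      intro w
      apply Subtype.ext
      rw [MulEquiv.coe_toMonoidHom, MulAut.conjNormal_apply, MulAut.conjNormal_apply, hzinv]
      calc z * (z * (w : G) * z) * z = (z * z) * w * (z * z) := by group
        _ = w := by rw [hzz, one_mul, mul_one]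
    have hinvW : ∀ w : G, w ∈ W → z * w * z⁻¹ = w⁻¹ := by
      intro w hw
      have h3 := congrFun (hfpf.coe_eq_inv_of_involutive hinv) ⟨w, hw⟩
      have h4 := congrArg Subtype.val h3
      rwa [MulEquiv.coe_toMonoidHom, MulAut.conjNormal_apply] at h4
    have hcomm : ∀ a b : ↥W, Commute a b := hfpf.commute_all_of_involutive hinv
    have hzbar : (QuotientGroup.mk z : G ⧸ W) ∈ Subgroup.center (G ⧸ W) := by
      rw [Subgroup.mem_center_iff]
      intro q
      obtain ⟨g, rfl⟩ := QuotientGroup.mk_surjective q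
      rw [← QuotientGroup.mk_mul, ← QuotientGroup.mk_mul, QuotientGroup.eq]
      apply hCW
      rw [Subgroup.mem_centralizer_iff]
      intro w hw
      have e1 : z * (g * w * g⁻¹) * z⁻¹ = (g * w * g⁻¹)⁻¹ := hinvW _ (hN.conj_mem w hw g)
      have e2 : z * w⁻¹ * z⁻¹ = w := by
        have h3 := hinvW _ (W.inv_mem hw)
        rwa [inv_inv] at h3
      have e1' : z * g * w = g * w⁻¹ * g⁻¹ * z * g := by
        have h3 : z * (g * w * g⁻¹) * z⁻¹ = g * w⁻¹ * g⁻¹ := by rw [e1]; group
        calc z * g * w = (z * (g * w * g⁻¹) * z⁻¹) * z * g := by group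
          _ = g * w⁻¹ * g⁻¹ * z * g := by rw [h3]
      have e2' : z⁻¹ * w⁻¹ = w * z⁻¹ := by
        calc z⁻¹ * w⁻¹ = z * w⁻¹ := by rw [hzinv]
          _ = (z * w⁻¹ * z⁻¹) * z := by group
          _ = w * z := by rw [e2]
          _ = w * z⁻¹ := by rw [hzinv]
      calc w * ((g * z)⁻¹ * (z * g)) = (w * z⁻¹) * g⁻¹ * z * g := by group
        _ = (z⁻¹ * w⁻¹) * g⁻¹ * z * g := by rw [e2']
        _ = z⁻¹ * g⁻¹ * (g * w⁻¹ * g⁻¹ * z * g) := by group
        _ = z⁻¹ * g⁻¹ * (z * g * w) := by rw [e1']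
        _ = ((g * z)⁻¹ * (z * g)) * w := by group
    rw [hZ, Subgroup.mem_bot, QuotientGroup.eq_one_iff] at hzbar
    have hz1 := key z hzbar rfl
    rw [hz1, orderOf_one] at hzo
    omega

/-- Let G be a finite group of even order with parabolic characteristic 2. If the centre of G ⧸ O(G) is trivial, then O(G) = 1. -/
theorem result {G : Type*} [Group G] [Finite G] (h2 : 2 ∣ Nat.card G) (hG : Cfsg.IsOfParabolicCharacteristic 2 G) [hN : (Cfsg.oddCore G).Normal] (hZ : Subgroup.center (G ⧸ Cfsg.oddCore G) = ⊥) : Cfsg.oddCore G = ⊥ := by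
  exact main h2 hG (Cfsg.oddCore G) (Cfsg.Agent.helper1.pPrimeCore_coprime 2)
    (fun C hC h => Cfsg.Agent.helper1.le_pPrimeCore hC h) hZ

end Cfsg.Agent.S2898
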