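import Cfsg.Statements.S2905
import Cfsg.Agent.Lib_helper19_Subnormal
import Cfsg.Agent.Lib_helper19_Sylow
import Cfsg.Agent.Lib_helper19_Sylow2
import Cfsg.Agent.Lib_helper10_PResidual
import Cfsg.Agent.Lib_helper15_CharP
import Cfsg.Agent.Lib_helper14_SPE
import Cfsg.Agent.Lib_helper1_Core
-- import your own Cfsg.Agent.* helpers here

set_option autoImplicit false
open Cfsg

namespace Cfsg.Agent.S2905

/-- Overgroups of the Sylow subgroup in a `p`-minimal group. -/
theorem overgroup {P : Type*} [Group P] [Finite P] {p : ℕ} [Fact p.Prime]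
    (hP : Cfsg.IsPMinimal p P) (S : Sylow p P) (M : Subgroup P) (hM : IsCoatom M)
    (hSM : (S : Subgroup P) ≤ M) (H : Subgroup P) (hSH : (S : Subgroup P) ≤ H) :
    H = ⊤ ∨ H ≤ M := by
  rcases eq_top_or_exists_le_coatom H with h | ⟨M', hM', hHM'⟩
  · exact Or.inl h
  · right
    obtain ⟨M₀, _, huniq⟩ := (hP S).2
    have h1 : M' = M₀ := huniq M' ⟨hM', hSH.trans hHM'⟩
    have h2 : M = M₀ := huniq M ⟨hM, hSM⟩
    rw [h2, ← h1]; exact hHM'

theorem part2 {P : Type*} [Group P] [Finite P] {p : ℕ} [Fact p.Prime]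
    (hP : Cfsg.IsPMinimal p P) (S : Sylow p P) (M : Subgroup P) (hM : IsCoatom M)
    (hSM : (S : Subgroup P) ≤ M)
    (hT : ∀ T : Sylow p ↥(Cfsg.pResidual p P), (T : Subgroup ↥(Cfsg.pResidual p P)).Normal) :
    (Nat.card P).primeFactors.card ≤ 2 := by
  have hp : p.Prime := Fact.out
  haveI hRn : (Cfsg.pResidual p P).Normal := Cfsg.Agent.helper10.pResidual_normal p P
  obtain ⟨T⟩ : Nonempty (Sylow p ↥(Cfsg.pResidual p P)) := inferInstance
  have hTn := hT T
  haveI hTc : (T : Subgroup ↥(Cfsg.pResidual p P)).Characteristic :=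
    Sylow.characteristic_of_normal T hTn
  have hT₀n : ((T : Subgroup ↥(Cfsg.pResidual p P)).map (Cfsg.pResidual p P).subtype).Normal :=
    ConjAct.normal_of_characteristic_of_normal
  have hT₀R : (T : Subgroup ↥(Cfsg.pResidual p P)).map (Cfsg.pResidual p P).subtype ≤
      Cfsg.pResidual p P := Subgroup.map_subtype_le _
  have hT₀p : IsPGroup p ↥((T : Subgroup ↥(Cfsg.pResidual p P)).map
      (Cfsg.pResidual p P).subtype) := T.isPGroup'.map _
  have hT₀idx : ¬ p ∣ ((T : Subgroup ↥(Cfsg.pResidual p P)).map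
      (Cfsg.pResidual p P).subtype).relIndex (Cfsg.pResidual p P) := by
    have h1 : ((T : Subgroup ↥(Cfsg.pResidual p P)).map
        (Cfsg.pResidual p P).subtype).subgroupOf (Cfsg.pResidual p P) = T :=
      Subgroup.comap_map_eq_self_of_injective (Subgroup.subtype_injective _) _
    rw [Subgroup.relIndex, h1]
    exact T.not_dvd_index
  -- the key step for each prime q ≠ p
  have key : ∀ q : ℕ, q.Prime → q ≠ p → (∃ Qq : Sylow q P, (Qq : Subgroup P) ≤ M) ∨
      (∀ r : ℕ, r.Prime → r ∣ Nat.card P → r = p ∨ r = q) := by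
    intro q hq hqp
    haveI : Fact q.Prime := ⟨hq⟩
    obtain ⟨Qq⟩ : Nonempty (Sylow q P) := inferInstance
    have hQR : (Qq : Subgroup P) ≤ Cfsg.pResidual p P := by
      intro y hy
      apply Subgroup.subset_closure
      show Nat.Coprime (orderOf y) p
      obtain ⟨k, hk⟩ := Cfsg.Agent.helper14.coe_pow_eq_one_of_isPGroup _ Qq.isPGroup' y hy
      have h1 : orderOf y ∣ q ^ k := orderOf_dvd_of_pow_eq_one hk
      exact Nat.Coprime.coprime_dvd_left h1
        (Nat.Coprime.pow_left k ((Nat.coprime_primes hq hp).mpr hqp))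
    -- L and its normalizer
    have hNA : Subgroup.normalizer ((Qq : Subgroup P) : Set P) ≤
        Subgroup.normalizer ((((T : Subgroup ↥(Cfsg.pResidual p P)).map
          (Cfsg.pResidual p P).subtype ⊔ (Qq : Subgroup P) : Subgroup P)) : Set P) := by
      intro g hg
      apply Subgroup.mem_normalizer_fintype
      intro l hl
      have hl' : l ∈ (T : Subgroup ↥(Cfsg.pResidual p P)).map
          (Cfsg.pResidual p P).subtype ⊔ (Qq : Subgroup P) := hl
      haveI := hT₀n
      obtain ⟨t, ht, y, hy, rfl⟩ := Subgroup.mem_sup_of_normal_left.mp hl'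
      have h1 : g * (t * y) * g⁻¹ = (g * t * g⁻¹) * (g * y * g⁻¹) := by group
      rw [h1]
      exact Subgroup.mul_mem_sup (hT₀n.conj_mem t ht g)
        ((Subgroup.mem_normalizer_iff.mp hg y).mp hy)
    have hAtop : Subgroup.normalizer ((((T : Subgroup ↥(Cfsg.pResidual p P)).map
          (Cfsg.pResidual p P).subtype ⊔ (Qq : Subgroup P) : Subgroup P)) : Set P) ⊔
        Cfsg.pResidual p P = ⊤ := by
      rw [eq_top_iff, ← Sylow.normalizer_sup_eq_top' Qq hQR]
      exact sup_le_sup_right hNA _
    have hidx : ¬ p ∣ (Subgroup.normalizer ((((T : Subgroup ↥(Cfsg.pResidual p P)).map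
          (Cfsg.pResidual p P).subtype ⊔ (Qq : Subgroup P) : Subgroup P)) : Set P)).index := by
      rw [← Subgroup.relIndex_top_right, ← hAtop, ← Cfsg.Agent.helper19.relIndex_inf_normal]
      intro hd
      apply hT₀idx
      refine hd.trans (Subgroup.relIndex_dvd_of_le_left _ ?_)
      exact le_inf ((le_sup_left : _ ≤ (T : Subgroup ↥(Cfsg.pResidual p P)).map
          (Cfsg.pResidual p P).subtype ⊔ (Qq : Subgroup P)).trans Subgroup.le_normalizer) hT₀R
    obtain ⟨g, hg⟩ := Cfsg.Agent.helper19.exists_conj_sylow_le S _ hidx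
    -- the conjugate L'
    have hT₀L' : (T : Subgroup ↥(Cfsg.pResidual p P)).map (Cfsg.pResidual p P).subtype ≤
        ((T : Subgroup ↥(Cfsg.pResidual p P)).map (Cfsg.pResidual p P).subtype ⊔
          (Qq : Subgroup P)).map (MulAut.conj g).toMonoidHom := by
      intro t ht
      refine ⟨g⁻¹ * t * g, ?_, ?_⟩
      · apply (le_sup_left : (T : Subgroup ↥(Cfsg.pResidual p P)).map
          (Cfsg.pResidual p P).subtype ≤ _)
        have h1 := hT₀n.conj_mem t ht g⁻¹
        rwa [inv_inv] at h1
      · show g * (g⁻¹ * t * g) * g⁻¹ = t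
        group
    have hQL' : ((g • Qq : Sylow q P) : Subgroup P) ≤
        ((T : Subgroup ↥(Cfsg.pResidual p P)).map (Cfsg.pResidual p P).subtype ⊔
          (Qq : Subgroup P)).map (MulAut.conj g).toMonoidHom := by
      intro y hy
      rw [Sylow.coe_subgroup_smul, Subgroup.mem_smul_pointwise_iff_exists] at hy
      obtain ⟨x, hx, rfl⟩ := hy
      exact ⟨x, (le_sup_right : (Qq : Subgroup P) ≤ _) hx, rfl⟩
    have hSL' : (S : Subgroup P) ≤ Subgroup.normalizer
        ((((T : Subgroup ↥(Cfsg.pResidual p P)).map (Cfsg.pResidual p P).subtype ⊔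
          (Qq : Subgroup P)).map (MulAut.conj g).toMonoidHom : Subgroup P) : Set P) := by
      intro y hy
      apply Subgroup.mem_normalizer_fintype
      rintro _ ⟨l, hl, rfl⟩
      have ha := hg y hy
      refine ⟨(g⁻¹ * y * g) * l * (g⁻¹ * y * g)⁻¹, (Subgroup.mem_normalizer_iff.mp ha l).mp hl, ?_⟩
      show g * ((g⁻¹ * y * g) * l * (g⁻¹ * y * g)⁻¹) * g⁻¹ = y * (g * l * g⁻¹) * y⁻¹
      group
    rcases overgroup hP S M hM hSM _ hSL' with hA' | hA'
    · -- L' normal
      have hL'n : (((T : Subgroup ↥(Cfsg.pResidual p P)).map (Cfsg.pResidual p P).subtype ⊔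
          (Qq : Subgroup P)).map (MulAut.conj g).toMonoidHom).Normal :=
        Subgroup.normalizer_eq_top_iff.mp hA'
      rcases overgroup hP S M hM hSM
        ((((T : Subgroup ↥(Cfsg.pResidual p P)).map (Cfsg.pResidual p P).subtype ⊔
          (Qq : Subgroup P)).map (MulAut.conj g).toMonoidHom) ⊔ (S : Subgroup P)) le_sup_right
        with hH | hH
      · right
        intro r hr hrd
        haveI := hL'n
        have h1 := Cfsg.Agent.helper1.card_sup_dvd_mul
          (((T : Subgroup ↥(Cfsg.pResidual p P)).map (Cfsg.pResidual p P).subtype ⊔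
            (Qq : Subgroup P)).map (MulAut.conj g).toMonoidHom) (S : Subgroup P)
        rw [hH, Subgroup.card_top,
          Subgroup.card_map_of_injective (MulEquiv.injective _)] at h1
        haveI := hT₀n
        have h2 := Cfsg.Agent.helper1.card_sup_dvd_mul
          ((T : Subgroup ↥(Cfsg.pResidual p P)).map (Cfsg.pResidual p P).subtype)
          (Qq : Subgroup P)
        have h3 : r ∣ Nat.card ↥((T : Subgroup ↥(Cfsg.pResidual p P)).map
            (Cfsg.pResidual p P).subtype) * Nat.card ↥(Qq : Subgroup P) *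
            Nat.card ↥(S : Subgroup P) :=
          hrd.trans (h1.trans (Nat.mul_dvd_mul_right h2 _))
        obtain ⟨a, ha⟩ := IsPGroup.iff_card.mp hT₀p
        obtain ⟨b, hb⟩ := IsPGroup.iff_card.mp Qq.isPGroup'
        obtain ⟨c, hc⟩ := IsPGroup.iff_card.mp S.isPGroup'
        rw [ha, hb, hc] at h3
        rcases (Nat.Prime.dvd_mul hr).mp h3 with h4 | h4
        · rcases (Nat.Prime.dvd_mul hr).mp h4 with h5 | h5
          · left
            exact (Nat.prime_dvd_prime_iff_eq hr hp).mp (hr.dvd_of_dvd_pow h5)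
          · right
            exact (Nat.prime_dvd_prime_iff_eq hr hq).mp (hr.dvd_of_dvd_pow h5)
        · left
          exact (Nat.prime_dvd_prime_iff_eq hr hp).mp (hr.dvd_of_dvd_pow h4)
      · left
        exact ⟨g • Qq, hQL'.trans (le_sup_left.trans hH)⟩
    · left
      exact ⟨g • Qq, hQL'.trans (Subgroup.le_normalizer.trans hA')⟩
  by_cases hex : ∃ q : ℕ, q.Prime ∧ q ≠ p ∧ ∀ r : ℕ, r.Prime → r ∣ Nat.card P → r = p ∨ r = q
  · obtain ⟨q, _, _, hall⟩ := hex
    have hsub : (Nat.card P).primeFactors ⊆ {p, q} := by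
      intro r hr
      rw [Nat.mem_primeFactors] at hr
      rcases hall r hr.1 hr.2.1 with h | h
      · rw [h]; exact Finset.mem_insert_self _ _
      · rw [h]; exact Finset.mem_insert_of_mem (Finset.mem_singleton_self _)
    exact (Finset.card_le_card hsub).trans Finset.card_le_two
  · exfalso
    apply hM.1
    apply Cfsg.Agent.helper1.eq_top_of_forall_sylow_le
    intro q hq
    by_cases hqp : q = p
    · subst hqp
      exact ⟨S, hSM⟩
    · rcases key q hq.out hqp with h | h
      · exact h
      · exact absurd ⟨q, hq.out, hqp, h⟩ hex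

/-- Let P be a finite p-minimal group (a Sylow p-subgroup S is not normal and lies in a unique maximal subgroup M of P) and let F be the normal core of M. Then: every subnormal subgroup N of P contained in M satisfies N ∩ S ≤ O_p(P); if O^p(P) has a normal Sylow p-subgroup then the order of P has at most two prime divisors; every normal subgroup N of P either contains O^p(P) or is contained in F; and O^p(P)F ⧸ F is a minimal normal subgroup of P ⧸ F. -/
theorem result {P : Type*} [Group P] [Finite P] {p : ℕ} [Fact p.Prime] (hP : Cfsg.IsPMinimal p P) (S : Sylow p P) (M : Subgroup P) (hM : IsCoatom M) (hSM : (S : Subgroup P) ≤ M) [hF : M.normalCore.Normal] : (∀ N : Subgroup P, N.IsSubnormal → N ≤ M → N ⊓ (S : Subgroup P) ≤ Cfsg.pCore p P) ∧ ((∀ T : Sylow p ↥(Cfsg.pResidual p P), (T : Subgroup ↥(Cfsg.pResidual p P)).Normal) → (Nat.card P).primeFactors.card ≤ 2) ∧ (∀ N : Subgroup P, N.Normal → Cfsg.pResidual p P ≤ N ∨ N ≤ M.normalCore) ∧ (∀ N : Subgroup P, N.Normal → M.normalCore ≤ N → N ≤ Cfsg.pResidual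 p P ⊔ M.normalCore → N = M.normalCore ∨ N = Cfsg.pResidual p P ⊔ M.normalCore) ∧ M.normalCore < Cfsg.pResidual p P ⊔ M.normalCore := by
  have hFM : M.normalCore ≤ M := Subgroup.normalCore_le M
  have hMtop : M ≠ ⊤ := hM.1
  have B1 := overgroup hP S M hM hSM
  -- S ⊓ F is normal
  have hTn : ((S : Subgroup P) ⊓ M.normalCore).Normal := by
    rw [← Subgroup.normalizer_eq_top_iff]
    have hfr := Cfsg.Agent.helper19.frattini_inf S M.normalCore
    have hSN : (S : Subgroup P) ≤ Subgroup.normalizer
        (((S : Subgroup P) ⊓ M.normalCore : Subgroup P) : Set P) := by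
      intro s hs
      apply Subgroup.mem_normalizer_fintype
      intro n hn
      have hn' : n ∈ (S : Subgroup P) ⊓ M.normalCore := hn
      exact Subgroup.mem_inf.2 ⟨(S : Subgroup P).mul_mem ((S : Subgroup P).mul_mem hs
        (Subgroup.mem_inf.1 hn').1) ((S : Subgroup P).inv_mem hs),
        hF.conj_mem n (Subgroup.mem_inf.1 hn').2 s⟩
    rcases B1 _ hSN with h | h
    · exact h
    · exfalso
      apply hMtop
      rw [eq_top_iff, ← hfr]
      exact sup_le h hFM
  have hTle : (S : Subgroup P) ⊓ M.normalCore ≤ Cfsg.pCore p P :=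
    Cfsg.Agent.helper15.le_pCore' hTn (S.isPGroup'.to_le inf_le_left)
  have part3 : ∀ N : Subgroup P, N.Normal → Cfsg.pResidual p P ≤ N ∨ N ≤ M.normalCore := by
    intro N hNn
    rcases B1 (N ⊔ (S : Subgroup P)) le_sup_right with h | h
    · left
      unfold Cfsg.pResidual
      rw [Subgroup.closure_le]
      intro g hg
      have hg' : Nat.Coprime (orderOf g) p := hg
      have hgtop : g ∈ N ⊔ (S : Subgroup P) := by rw [h]; exact Subgroup.mem_top g
      haveI := hNn
      obtain ⟨n, hn, s, hs, hnsg⟩ := Subgroup.mem_sup_of_normal_left.mp hgtop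
      obtain ⟨k, hk⟩ := Cfsg.Agent.helper14.coe_pow_eq_one_of_isPGroup _ S.isPGroup' s hs
      have hsN : s ∈ N := by
        have h1 : (QuotientGroup.mk s : P ⧸ N) ^ p ^ k = 1 := by
          rw [← QuotientGroup.mk_pow, hk, QuotientGroup.mk_one]
        have h2 : (QuotientGroup.mk s : P ⧸ N) = QuotientGroup.mk g := by
          rw [← hnsg, QuotientGroup.mk_mul, (QuotientGroup.eq_one_iff n).mpr hn, one_mul]
        have h3 : (QuotientGroup.mk s : P ⧸ N) ^ orderOf g = 1 := by
          rw [h2, ← QuotientGroup.mk_pow, pow_orderOf_eq_one, QuotientGroup.mk_one]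
        have h4 : orderOf (QuotientGroup.mk s : P ⧸ N) = 1 :=
          Nat.eq_one_of_dvd_coprimes (Nat.Coprime.pow_right k hg')
            (orderOf_dvd_of_pow_eq_one h3) (orderOf_dvd_of_pow_eq_one h1)
        rw [orderOf_eq_one_iff] at h4
        exact (QuotientGroup.eq_one_iff s).mp h4
      rw [SetLike.mem_coe, ← hnsg]
      exact N.mul_mem hn hsN
    · right
      exact (Subgroup.normal_le_normalCore (hN := hNn)).2 (le_sup_left.trans h)
  have part5ne : ¬ Cfsg.pResidual p P ≤ M.normalCore := by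
    intro hle
    apply hMtop
    rw [eq_top_iff, ← Cfsg.Agent.helper10.pResidual_sup_sylow_eq_top p S]
    exact sup_le (hle.trans hFM) hSM
  refine ⟨?_, part2 hP S M hM hSM, part3, ?_, ?_⟩
  · intro N hNsub hNM
    have h1 := Cfsg.Agent.helper19.subnormal_le_core M N hM hNsub hNM
    intro x hx
    apply hTle
    exact Subgroup.mem_inf.2 ⟨(Subgroup.mem_inf.1 hx).2, h1 (Subgroup.mem_inf.1 hx).1⟩
  · intro N hNn hFN hNle
    rcases part3 N hNn with h | h
    · right
      exact le_antisymm hNle (sup_le h hFN)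
    · left
      exact le_antisymm h hFN
  · apply lt_of_le_of_ne le_sup_right
    intro heq
    apply part5ne
    rw [heq]
    exact le_sup_left

end Cfsg.Agent.S2905
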