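import Cfsg.Statements.S2906
import Mathlib
import Cfsg.Agent.Lib_helper14_PMin
-- import your own Cfsg.Agent.* helpers here

set_option autoImplicit false
open Cfsg

namespace Cfsg.Agent.S2906

open Cfsg.Agent.helper14 Cfsg.Agent.helper7

/-- Let P be a finite p-minimal group with O_p(P) = 1, S a Sylow p-subgroup of P and K a component of P. Then O^p(P) = F*(P) = E(P) is generated by the S-conjugates of K, and the subgroup K·N_S(K) is again p-minimal. -/
theorem result {P : Type*} [Group P] [Finite P] {p : ℕ} [Fact p.Prime] (hP : Cfsg.IsPMinimal p P) (hOp : Cfsg.pCore p P = ⊥) (S : Sylow p P) (K : Subgroup P) (hK : Cfsg.IsComponent K) : Cfsg.pResidual p P = Cfsg.generalizedFittingSubgroup P ∧ Cfsg.generalizedFittingSubgroup P = Cfsg.layer P ∧ Cfsg.layer P = ⨆ s : ↥(S : Subgroup P), K.map (MulAut.conj (s : P)).toMonoidHom ∧ Cfsg.IsPMinimal p ↥(K ⊔ ((S : Subgroup P) ⊓ Subgroup.normalizer (K : Set P))) := by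

  obtain ⟨hSn, M, hM⟩ := pminHyp_of_isPMinimal hP S
  have hKc : Comp K ⊤ := isComponent_iff.mp hK
  obtain ⟨hES, hRE, hF, hE⟩ := pmin_layer_structure S hM hOp K hKc
  have hgf : Cfsg.generalizedFittingSubgroup P = layerOf (⊤ : Subgroup P) := by
    rw [generalizedFittingSubgroup_eq]
    unfold fstarOf
    exact sup_eq_left.mpr hF
  refine ⟨hRE.trans hgf.symm, ?_, ?_, pmin_component_pmin S hSn hM hOp K hKc⟩
  · rw [hgf, layer_eq_layerOf]
  · rw [layer_eq_layerOf]
    exact hE

end Cfsg.Agent.S2906
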