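import Cfsg.Statements.S2907
import Mathlib

set_option autoImplicit false
open Cfsg

namespace Cfsg.Agent.S2907

/-- The commutator map `y ↦ [x, y]` in a group whose commutators are central. -/
def commHom {X : Type*} [Group X] (hc : ∀ a b : X, a * b * a⁻¹ * b⁻¹ ∈ Subgroup.center X) (x : X) :
    X →* X where
  toFun y := x * y * x⁻¹ * y⁻¹
  map_one' := by group
  map_mul' y y' := by
    have h1 := hc x y'
    rw [Subgroup.mem_center_iff] at h1
    have h2 := h1 y⁻¹
    calc x * (y * y') * x⁻¹ * (y * y')⁻¹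
        = x * y * x⁻¹ * ((x * y' * x⁻¹ * y'⁻¹) * y⁻¹) := by group
      _ = x * y * x⁻¹ * (y⁻¹ * (x * y' * x⁻¹ * y'⁻¹)) := by rw [h2]
      _ = (x * y * x⁻¹ * y⁻¹) * (x * y' * x⁻¹ * y'⁻¹) := by group


/-- Let X be a finite semi-extraspecial p-group and x an element of X outside the centre. Then the index of C_X(x) in X equals the order of Z(X), and the commutators [x, y], y ∈ X, form exactly the centre Z(X). -/
theorem result {X : Type*} [Group X] [Finite X] {p : ℕ} [Fact p.Prime] (hX : Cfsg.IsSemiExtraspecial p X) (x : X) (hx : x ∉ Subgroup.center X) : (Subgroup.centralizer ({x} : Set X)).index = Nat.card ↥(Subgroup.center X) ∧ {z : X | ∃ y : X, z = x * y * x⁻¹ * y⁻¹} = (Subgroup.center X : Set X) := by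
  obtain ⟨⟨hp, hfr, hcomm⟩, hY⟩ := hX
  have hc : ∀ a b : X, a * b * a⁻¹ * b⁻¹ ∈ Subgroup.center X := by
    intro a b
    rw [← hcomm]
    have := Subgroup.commutator_mem_commutator (Subgroup.mem_top a) (Subgroup.mem_top b)
    rw [commutatorElement_def] at this
    exact this
  set f := commHom hc x with hf
  have hfy : ∀ y, f y = x * y * x⁻¹ * y⁻¹ := fun y => rfl
  have hker : f.ker = Subgroup.centralizer ({x} : Set X) := by
    ext y
    rw [MonoidHom.mem_ker, hfy, Subgroup.mem_centralizer_singleton_iff]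
    constructor
    · intro h
      have : x * y = (x * y * x⁻¹ * y⁻¹) * (y * x) := by group
      rw [this, h, one_mul]
    · intro h
      have : x * y * x⁻¹ * y⁻¹ = (x * y) * (y * x)⁻¹ := by group
      rw [this, h]; group
  have hrange_le : f.range ≤ Subgroup.center X := by
    rintro _ ⟨y, rfl⟩
    exact hc x y
  have hrange : f.range = Subgroup.center X := by
    by_contra hne
    have hlt : f.range.subgroupOf (Subgroup.center X) ≠ ⊤ := by
      intro htop
      rw [Subgroup.subgroupOf_eq_top] at htop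
      exact hne (le_antisymm hrange_le htop)
    obtain ⟨Y', hY'co, hY'le⟩ := (eq_top_or_exists_le_coatom _).resolve_left hlt
    set Y : Subgroup X := Y'.map (Subgroup.center X).subtype with hYdef
    have hYle : Y ≤ Subgroup.center X := Subgroup.map_subtype_le _
    have hYsub : Y.subgroupOf (Subgroup.center X) = Y' := by
      rw [hYdef]
      exact Subgroup.comap_map_eq_self_of_injective (Subgroup.center X).subtype_injective Y'
    obtain ⟨hYn, hYex⟩ := hY Y hYle (by rw [hYsub]; exact hY'co)
    haveI := hYn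
    have hcardc : Nat.card (Subgroup.center (X ⧸ Y)) = p := hYex.2
    -- range of f lies in Y
    have hfY : ∀ y, f y ∈ Y := by
      intro y
      have h1 : f y ∈ f.range := ⟨y, rfl⟩
      have h2 : (⟨f y, hrange_le h1⟩ : ↥(Subgroup.center X)) ∈ Y' := by
        apply hY'le
        rw [Subgroup.mem_subgroupOf]
        exact h1
      exact ⟨_, h2, rfl⟩
    -- image of x is central in the quotient
    have hxc : (QuotientGroup.mk x : X ⧸ Y) ∈ Subgroup.center (X ⧸ Y) := by
      rw [Subgroup.mem_center_iff]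
      intro q
      obtain ⟨y, rfl⟩ := QuotientGroup.mk_surjective q
      rw [← QuotientGroup.mk_mul, ← QuotientGroup.mk_mul, QuotientGroup.eq]
      have h1 := hfY y⁻¹
      rw [hfy] at h1
      have h3 : (y * x)⁻¹ * (x * y) = x⁻¹ * (x * y⁻¹ * x⁻¹ * y⁻¹⁻¹)⁻¹ * x := by group
      rw [h3]
      have := hYn.conj_mem _ (Y.inv_mem h1) x⁻¹
      simpa using this
    -- an element z of the centre outside Y
    obtain ⟨z, hz, hzY⟩ : ∃ z ∈ Subgroup.center X, z ∉ Y := by
      by_contra hcon
      push Not at hcon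
      apply hY'co.1
      rw [← hYsub, Subgroup.subgroupOf_eq_top]
      exact hcon
    have hzc : (QuotientGroup.mk z : X ⧸ Y) ∈ Subgroup.center (X ⧸ Y) := by
      rw [Subgroup.mem_center_iff]
      intro q
      obtain ⟨y, rfl⟩ := QuotientGroup.mk_surjective q
      rw [← QuotientGroup.mk_mul, ← QuotientGroup.mk_mul]
      rw [Subgroup.mem_center_iff] at hz
      rw [hz y]
    have hz1 : (⟨QuotientGroup.mk z, hzc⟩ : ↥(Subgroup.center (X ⧸ Y))) ≠ 1 := by
      intro h
      have h1 := congrArg Subtype.val h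
      simp only [Subgroup.coe_one] at h1
      exact hzY ((QuotientGroup.eq_one_iff z).1 h1)
    haveI : Fact (Nat.card ↥(Subgroup.center (X ⧸ Y))).Prime := ⟨by rw [hcardc]; exact Fact.out⟩
    have hgen := zpowers_eq_top_of_prime_card (G := ↥(Subgroup.center (X ⧸ Y))) rfl hz1
    have hxz : (⟨QuotientGroup.mk x, hxc⟩ : ↥(Subgroup.center (X ⧸ Y))) ∈
        Subgroup.zpowers (⟨QuotientGroup.mk z, hzc⟩ : ↥(Subgroup.center (X ⧸ Y))) := by
      rw [hgen]; exact Subgroup.mem_top _
    obtain ⟨k, hk⟩ := Subgroup.mem_zpowers_iff.1 hxz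
    have hk' : (QuotientGroup.mk (z ^ k) : X ⧸ Y) = QuotientGroup.mk x := by
      have h1 := congrArg Subtype.val hk
      simpa using h1
    rw [QuotientGroup.eq] at hk'
    apply hx
    have h1 : x = z ^ k * ((z ^ k)⁻¹ * x) := by group
    rw [h1]
    exact Subgroup.mul_mem _ (Subgroup.zpow_mem _ hz k) (hYle hk')
  constructor
  · rw [← hker, Subgroup.index_ker, hrange]
  · ext z
    simp only [Set.mem_setOf_eq, SetLike.mem_coe]
    rw [← hrange]
    constructor
    · rintro ⟨y, rfl⟩
      exact ⟨y, rfl⟩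
    · rintro ⟨y, rfl⟩
      exact ⟨y, rfl⟩

end Cfsg.Agent.S2907
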