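import Cfsg.Statements.S2909
import Cfsg.Agent.Lib_helper15_DualPQ
import Cfsg.Agent.Lib_helper15_Gen5
import Cfsg.Agent.Lib_helper7_PQ
import Cfsg.Agent.Lib_helper3_EA
import Cfsg.Agent.Lib_helper15_Sylow

set_option autoImplicit false
open Cfsg

namespace Cfsg.Agent.S2909

open scoped commutatorElement

/-- Let p be a prime, E a normal p-subgroup of the finite group G, and U a non-cyclic elementary abelian p-subgroup of G such that either C_E(U) = C_E(u) for every nontrivial u ∈ U, or [E, U] = [E, ⟨u⟩] for every nontrivial u ∈ U. If R is a subgroup of order prime to p normalized by U, then [R, U] centralizes E. -/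
theorem result {G : Type*} [Group G] [Finite G] {p : ℕ} [Fact p.Prime] (E : Subgroup G) [E.Normal] (hE : IsPGroup p ↥E) (U : Subgroup G) (hU : Cfsg.IsElementaryAbelian p U) (hnc : ¬ IsCyclic ↥U) (hcond : (∀ u ∈ U, u ≠ 1 → E ⊓ Subgroup.centralizer (U : Set G) = E ⊓ Subgroup.centralizer ({u} : Set G)) ∨ (∀ u ∈ U, u ≠ 1 → ⁅E, U⁆ = ⁅E, Subgroup.zpowers u⁆)) (R : Subgroup G) (hR : ¬ p ∣ Nat.card ↥R) (hRU : U ≤ Subgroup.normalizer (R : Set G)) : ⁅R, U⁆ ≤ Subgroup.centralizer (E : Set G) := by
  classical
  have hp : p.Prime := Fact.out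
  have hEn : E.Normal := inferInstance
  obtain ⟨hUc, hUexp⟩ := hU
  haveI : IsMulCommutative ↥U := hUc
  have hUp : IsPGroup p ↥U := Cfsg.Agent.helper3.ea_isPGroup ⟨hUc, hUexp⟩
  have hUcomm : ∀ x ∈ U, ∀ y ∈ U, x * y = y * x := fun x hx y hy =>
    congrArg Subtype.val (hUc.is_comm.comm (⟨x, hx⟩ : ↥U) ⟨y, hy⟩)
  have hKn : (Subgroup.centralizer (E : Set G)).Normal := inferInstance
  have hnormE : ∀ g : G, g ∈ Subgroup.normalizer (E : Set G) := by
    intro g; rw [Subgroup.normalizer_eq_top]; trivial
  have hcopR : (Nat.card ↥U).Coprime (Nat.card ↥R) := by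
    obtain ⟨k, hk⟩ := IsPGroup.iff_card.1 hUp
    rw [hk]
    exact Nat.Coprime.pow_left k ((Nat.Prime.coprime_iff_not_dvd hp).2 hR)
  -- the key: for `u ∈ U`, `u ≠ 1`, `[C_R(u), U]` centralizes `E`
  have key : ∀ u ∈ U, u ≠ 1 → ∀ r ∈ R ⊓ Subgroup.centralizer ({u} : Set G), ∀ v ∈ U,
      ⁅r, v⁆ ∈ Subgroup.centralizer (E : Set G) := by
    intro u hu hu1
    set Ru : Subgroup G := R ⊓ Subgroup.centralizer ({u} : Set G) with hRu
    set D : Subgroup G := ⁅Ru, U⁆ with hD
    -- `U` normalizes `Ru`
    have hURu : U ≤ Subgroup.normalizer (Ru : Set G) := by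
      intro v hv
      apply Cfsg.Agent.helper15.mem_normalizer_of_map_conj_le
      rintro _ ⟨r, hr, rfl⟩
      simp only [MulEquiv.coe_toMonoidHom, MulAut.conj_apply]
      refine Subgroup.mem_inf.2 ⟨(Subgroup.mem_normalizer_iff.1 (hRU hv) r).1 hr.1, ?_⟩
      rw [Subgroup.mem_centralizer_singleton_iff]
      have h1 := Subgroup.mem_centralizer_singleton_iff.1 hr.2
      have h2 := hUcomm v hv u hu
      have h3 : v⁻¹ * u = u * v⁻¹ := by
        calc v⁻¹ * u = v⁻¹ * (u * v) * v⁻¹ := by group
          _ = v⁻¹ * (v * u) * v⁻¹ := by rw [h2]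
          _ = u * v⁻¹ := by group
      calc v * r * v⁻¹ * u = v * r * (v⁻¹ * u) := by group
        _ = v * r * (u * v⁻¹) := by rw [h3]
        _ = v * (r * u) * v⁻¹ := by group
        _ = v * (u * r) * v⁻¹ := by rw [h1]
        _ = (v * u) * r * v⁻¹ := by group
        _ = (u * v) * r * v⁻¹ := by rw [h2]
        _ = u * (v * r * v⁻¹) := by group
    have hDRu : D ≤ Ru := by
      rw [hD]
      exact Cfsg.Agent.helper7.commutator_le_of_normalizer hURu
    have hDR : D ≤ R := hDRu.trans inf_le_left
    have hDu : Subgroup.zpowers u ≤ Subgroup.centralizer (D : Set G) := by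
      rw [Subgroup.zpowers_le, Subgroup.mem_centralizer_iff]
      intro d hd
      exact (Subgroup.mem_centralizer_singleton_iff.1 (hDRu hd).2)
    have hDcard : ¬ p ∣ Nat.card ↥D := fun h => hR (h.trans (Subgroup.card_dvd_of_le hDR))
    have hzp : IsPGroup p ↥(Subgroup.zpowers u) := hUp.to_le ((Subgroup.zpowers_le).2 hu)
    have hDE : D ≤ Subgroup.centralizer (E : Set G) := by
      rcases hcond with h1 | h2
      · -- case 1: Thompson's `P × Q` lemma
        have hX := h1 u hu hu1
        -- `D` centralizes `X = C_E(U)`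
        have hDX : D ≤ Subgroup.centralizer ((E ⊓ Subgroup.centralizer (U : Set G) : Subgroup G) : Set G) := by
          rw [hD, Subgroup.commutator_le]
          intro r hr v hv
          have hv1 : v⁻¹ ∈ Subgroup.centralizer
              ((E ⊓ Subgroup.centralizer (U : Set G) : Subgroup G) : Set G) := by
            apply Subgroup.inv_mem
            rw [Subgroup.mem_centralizer_iff]
            intro x hx
            exact (Subgroup.mem_centralizer_iff.1 hx.2 v hv).symm
          have hv2 : r * v * r⁻¹ ∈ Subgroup.centralizer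
              ((E ⊓ Subgroup.centralizer (U : Set G) : Subgroup G) : Set G) := by
            rw [Subgroup.mem_centralizer_iff]
            intro x hx
            -- `r⁻¹ x r ∈ X`
            have hx' : r⁻¹ * x * r ∈ E ⊓ Subgroup.centralizer (U : Set G) := by
              rw [hX] at hx ⊢
              refine Subgroup.mem_inf.2 ⟨?_, ?_⟩
              · have := hEn.conj_mem x hx.1 r⁻¹
                simpa using this
              · rw [Subgroup.mem_centralizer_singleton_iff]
                have h3 := Subgroup.mem_centralizer_singleton_iff.1 hx.2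
                have h4 := Subgroup.mem_centralizer_singleton_iff.1 hr.2
                have h5 : r⁻¹ * u = u * r⁻¹ := by
                  calc r⁻¹ * u = r⁻¹ * (u * r) * r⁻¹ := by group
                    _ = r⁻¹ * (r * u) * r⁻¹ := by rw [h4]
                    _ = u * r⁻¹ := by group
                calc r⁻¹ * x * r * u = r⁻¹ * x * (r * u) := by group
                  _ = r⁻¹ * x * (u * r) := by rw [h4]
                  _ = r⁻¹ * (x * u) * r := by group
                  _ = r⁻¹ * (u * x) * r := by rw [h3]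
                  _ = (r⁻¹ * u) * x * r := by group
                  _ = (u * r⁻¹) * x * r := by rw [h5]
                  _ = u * (r⁻¹ * x * r) := by group
            have h6 := Subgroup.mem_centralizer_iff.1 hx'.2 v hv
            calc x * (r * v * r⁻¹) = r * ((r⁻¹ * x * r) * v) * r⁻¹ := by group
              _ = r * (v * (r⁻¹ * x * r)) * r⁻¹ := by rw [h6]
              _ = r * v * r⁻¹ * x := by group
          have e : ⁅r, v⁆ = (r * v * r⁻¹) * v⁻¹ := by rw [commutatorElement_def]
          rw [e]
          exact Subgroup.mul_mem _ hv2 hv1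
        apply Cfsg.Agent.helper7.thompson_PxQ hzp
          ((Nat.Prime.coprime_iff_not_dvd hp).2 hDcard).symm hE hDu
          (fun g _ => hnormE g) (fun g _ => hnormE g)
        intro x hx
        have hxX : x ∈ E ⊓ Subgroup.centralizer (U : Set G) := by
          rw [hX]
          refine Subgroup.mem_inf.2 ⟨hx.1, ?_⟩
          rw [Subgroup.mem_centralizer_singleton_iff]
          exact (Subgroup.mem_centralizer_iff.1 hx.2 u (Subgroup.mem_zpowers u)).symm
        rw [Subgroup.mem_centralizer_iff]
        intro d hd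
        exact (Subgroup.mem_centralizer_iff.1 (hDX hd) x hxX).symm
      · -- case 2: the dual lemma
        have hM := h2 u hu hu1
        -- `M = [E, U]` is normalized by `E`, `U`, `Ru`
        have hEM : E ≤ Subgroup.normalizer ((⁅E, U⁆ : Subgroup G) : Set G) :=
          Cfsg.Agent.lead.le_normalizer_commutator_left E U
        have hUM : U ≤ Subgroup.normalizer ((⁅E, U⁆ : Subgroup G) : Set G) := by
          rw [Subgroup.commutator_comm]
          exact Cfsg.Agent.lead.le_normalizer_commutator_left U E
        have hRuM : ∀ r ∈ Ru, ∀ m ∈ ⁅E, U⁆, r * m * r⁻¹ ∈ ⁅E, U⁆ := by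
          intro r hr m hm
          rw [hM] at hm ⊢
          apply Cfsg.Agent.helper15.conj_mem_commutator_of_mem_normalizer (hnormE r) _ hm
          apply Cfsg.Agent.helper15.mem_normalizer_zpowers_of_commute
          exact (Subgroup.mem_centralizer_singleton_iff.1 hr.2)
        -- the subgroup of elements acting trivially on `E / M`
        let T : Subgroup G :=
          { carrier := {g | g ∈ Subgroup.normalizer ((⁅E, U⁆ : Subgroup G) : Set G) ∧
              ∀ e ∈ E, ⁅e, g⁆ ∈ ⁅E, U⁆}
            one_mem' := ⟨Subgroup.one_mem _, fun e _ => by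
              simp [commutatorElement_def, Subgroup.one_mem]⟩
            mul_mem' := fun {g h} hg hh => ⟨Subgroup.mul_mem _ hg.1 hh.1, fun e he => by
              have e1 : ⁅e, g * h⁆ = ⁅e, g⁆ * (g * ⁅e, h⁆ * g⁻¹) := by
                simp only [commutatorElement_def]; group
              rw [e1]
              exact Subgroup.mul_mem _ (hg.2 e he)
                ((Subgroup.mem_normalizer_iff.1 hg.1 _).1 (hh.2 e he))⟩
            inv_mem' := fun {g} hg => ⟨Subgroup.inv_mem _ hg.1, fun e he => by
              have e1 : ⁅e, g⁻¹⁆ = g⁻¹ * (⁅e, g⁆)⁻¹ * g⁻¹⁻¹ := by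
                simp only [commutatorElement_def]; group
              rw [e1]
              exact (Subgroup.mem_normalizer_iff.1 (Subgroup.inv_mem _ hg.1) _).1
                (Subgroup.inv_mem _ (hg.2 e he))⟩ }
        have hUT : U ≤ T := fun v hv =>
          ⟨hUM hv, fun e he => Subgroup.commutator_mem_commutator he hv⟩
        have hDT : D ≤ T := by
          rw [hD, Subgroup.commutator_le]
          intro r hr v hv
          have hrvT : r * v * r⁻¹ ∈ T := by
            refine ⟨?_, fun e he => ?_⟩
            · apply Cfsg.Agent.helper15.mem_normalizer_of_map_conj_le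
              rintro _ ⟨m, hm, rfl⟩
              simp only [MulEquiv.coe_toMonoidHom, MulAut.conj_apply]
              have h1 : r⁻¹ * m * r⁻¹⁻¹ ∈ ⁅E, U⁆ := hRuM r⁻¹ (Ru.inv_mem hr) m hm
              have h2 : v * (r⁻¹ * m * r⁻¹⁻¹) * v⁻¹ ∈ ⁅E, U⁆ :=
                (Subgroup.mem_normalizer_iff.1 (hUM hv) _).1 h1
              have h3 := hRuM r hr _ h2
              have e1 : r * v * r⁻¹ * m * (r * v * r⁻¹)⁻¹ =
                  r * (v * (r⁻¹ * m * r⁻¹⁻¹) * v⁻¹) * r⁻¹ := by group
              rw [e1]; exact h3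
            · have he' : r⁻¹ * e * r⁻¹⁻¹ ∈ E := hEn.conj_mem e he r⁻¹
              have h1 : ⁅r⁻¹ * e * r⁻¹⁻¹, v⁆ ∈ ⁅E, U⁆ :=
                Subgroup.commutator_mem_commutator he' hv
              have h2 := hRuM r hr _ h1
              have e1 : ⁅e, r * v * r⁻¹⁆ = r * ⁅r⁻¹ * e * r⁻¹⁻¹, v⁆ * r⁻¹ := by
                simp only [commutatorElement_def]; group
              rw [e1]; exact h2
          have e : ⁅r, v⁆ = (r * v * r⁻¹) * v⁻¹ := by rw [commutatorElement_def]
          rw [e]
          exact T.mul_mem hrvT (T.inv_mem (hUT hv))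
        have hED : ⁅E, D⁆ ≤ ⁅E, Subgroup.zpowers u⁆ := by
          rw [← hM, Subgroup.commutator_le]
          intro e he d hd
          exact (hDT hd).2 e he
        have hbot := Cfsg.Agent.helper15.dual_PxQ E (Subgroup.zpowers u) D hE hzp hDcard
          (fun g _ => hnormE g) (fun g _ => hnormE g)
          (Subgroup.commutator_eq_bot_iff_le_centralizer.2 hDu) hED
        rw [Subgroup.commutator_comm, Subgroup.commutator_eq_bot_iff_le_centralizer] at hbot
        exact hbot
    intro r hr v hv
    exact hDE (Subgroup.commutator_mem_commutator hr hv)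
  -- the subgroup of elements commuting with `U` modulo `C(E)`
  let T : Subgroup G :=
    { carrier := {g | ∀ v ∈ U, ⁅g, v⁆ ∈ Subgroup.centralizer (E : Set G)}
      one_mem' := fun v _ => by simp [commutatorElement_def, Subgroup.one_mem]
      mul_mem' := fun {g h} hg hh v hv => by
        have e1 : ⁅g * h, v⁆ = (g * ⁅h, v⁆ * g⁻¹) * ⁅g, v⁆ := by
          simp only [commutatorElement_def]; group
        rw [e1]
        exact Subgroup.mul_mem _ (hKn.conj_mem _ (hh v hv) g) (hg v hv)
      inv_mem' := fun {g} hg v hv => by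
        have e1 : ⁅g⁻¹, v⁆ = g⁻¹ * (⁅g, v⁆)⁻¹ * g⁻¹⁻¹ := by
          simp only [commutatorElement_def]; group
        rw [e1]
        exact hKn.conj_mem _ (Subgroup.inv_mem _ (hg v hv)) g⁻¹ }
  have hRT : R ≤ T := by
    rw [← Cfsg.Agent.helper15.iSup_centralizer_eq_of_not_isCyclic U R hnc hRU hcopR]
    apply iSup₂_le
    intro u hu r hr v hv
    exact key u hu.1 hu.2 r hr v hv
  rw [Subgroup.commutator_le]
  intro r hr v hv
  exact hRT hr v hv

end Cfsg.Agent.S2909
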