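import Cfsg.Statements.S2910
import Cfsg.Agent.Lib_helper15_Omega
import Cfsg.Agent.Lib_helper15_Sylow
import Cfsg.Agent.Lib_lead_Frobenius

set_option autoImplicit false
open Cfsg

namespace Cfsg.Agent.S2910

/-- Let p be an odd prime dividing the order of the finite group G and P a Sylow p-subgroup of G. If Ω₁(P) (generated by the elements of order dividing p) is contained in the centre of G, then G has a normal p-complement. In particular, if G is quasisimple then Ω₁(P) is not central in G. -/
theorem result {G : Type*} [Group G] [Finite G] {p : ℕ} [Fact p.Prime] (hp : p ≠ 2) (hdiv : p ∣ Nat.card G) (P : Sylow p G) (hZ : Cfsg.omegaOne p (P : Subgroup G) ≤ Subgroup.center G) : Cfsg.HasNormalPComplement p G ∧ ¬ Cfsg.IsQuasisimple G := by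
  have hF : Cfsg.Agent.lead.FrobCond p G := by
    intro Q hQ g hg hcop
    apply Cfsg.Agent.helper15.centralizes_of_centralizes_omega hp Q hQ g hg hcop
    intro x hx hxp
    obtain ⟨m, -, hm⟩ := Cfsg.Agent.helper15.exists_conj_mem_sylow_of_le P ⊤ le_top Q hQ le_top
    have h1 : m * x * m⁻¹ ∈ (P : Subgroup G) := hm x hx
    have h2 : (m * x * m⁻¹) ^ p = 1 := by
      rw [← MulAut.conj_apply, ← map_pow, hxp, map_one]
    have h3 : m * x * m⁻¹ ∈ Cfsg.omegaOne p (P : Subgroup G) :=
      Subgroup.subset_closure ⟨h1, h2⟩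
    have h4 := hZ h3
    rw [Subgroup.mem_center_iff] at h4
    have h5 : x = m * x * m⁻¹ := by
      have := h4 m
      calc x = m⁻¹ * ((m * x * m⁻¹) * m) := by group
        _ = m⁻¹ * (m * (m * x * m⁻¹)) := by rw [← this]
        _ = m * x * m⁻¹ := by group
    rw [h5]
    exact h4 g
  refine ⟨?_, ?_⟩
  · exact Cfsg.Agent.helper10.hasNormalPComplement_of_pResidual_coprime p
      (Cfsg.Agent.lead.frob_pResidual_coprime p (Nat.card G) G rfl hF)
  · rintro ⟨hperf, -⟩
    have hP : (P : Subgroup G) ≠ ⊥ := P.ne_bot_of_dvd_card hdiv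
    obtain ⟨x, -, hx⟩ := Cfsg.Agent.lead.exists_mem_sylow_not_mem_commutator P hP
      (fun x hx g hgx => Cfsg.Agent.lead.frob_control_fusion hF P x hx g hgx)
    apply hx
    rw [Group.isPerfect_def.1 hperf]
    trivial

end Cfsg.Agent.S2910
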