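import Cfsg.Statements.S3309
import Mathlib
import Cfsg.Agent.H16Thompson

set_option autoImplicit false
open Cfsg

namespace Cfsg.Agent.S3309

theorem center_d8 : ∀ d : DihedralGroup 4, (∀ d' : DihedralGroup 4, d * d' = d' * d) →
    d = 1 ∨ d = DihedralGroup.r 2 := by decide

theorem sq_c2 : ∀ x : Multiplicative (ZMod 2), x * x = 1 := by decide

theorem a_ne_one : (Multiplicative.ofAdd (1 : ZMod 2)) ≠ 1 := by decide

theorem r2_sq : (DihedralGroup.r 2 : DihedralGroup 4) = DihedralGroup.r 1 * DihedralGroup.r 1 := by decide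

/-- A finite group whose Sylow 2-subgroups are isomorphic to the direct product of a group of order 2 and the dihedral group of order 8 is not a non-abelian simple group. -/
theorem result {G : Type*} [Group G] [Finite G] (S : Sylow 2 G) (hS : Nonempty (↥(S : Subgroup G) ≃* Multiplicative (ZMod 2) × DihedralGroup 4))
    [IsSimpleGroup G] (hG : ¬ IsMulCommutative G) : False := by
  obtain ⟨e⟩ := hS
  have : Fact (Nat.Prime 2) := ⟨Nat.prime_two⟩
  have hcardS : Nat.card ↥(S : Subgroup G) = 16 := by
    rw [Nat.card_congr e.toEquiv, Nat.card_prod, DihedralGroup.nat_card]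
    simp
  have hno2 : ∀ K : Subgroup G, K.index ≠ 2 := by
    intro K hK
    have hKn : K.Normal := Subgroup.normal_of_index_eq_two hK
    rcases hKn.eq_bot_or_eq_top with h | h
    · rw [h, Subgroup.index_bot] at hK
      have := Subgroup.card_le_card_group (S : Subgroup G)
      omega
    · rw [h, Subgroup.index_top] at hK; omega
  -- the central involution and the subgroup M
  set us : ↥(S : Subgroup G) := e.symm (Multiplicative.ofAdd (1 : ZMod 2), 1) with husdef
  have hus_e : e us = (Multiplicative.ofAdd (1 : ZMod 2), 1) := by rw [husdef, MulEquiv.apply_symm_apply]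
  set Msub : Subgroup ↥(S : Subgroup G) :=
    ((MonoidHom.fst (Multiplicative (ZMod 2)) (DihedralGroup 4)).comp e.toMonoidHom).ker with hMsub
  have hMsub_mem : ∀ s : ↥(S : Subgroup G), s ∈ Msub ↔ (e s).1 = 1 := by
    intro s
    rw [hMsub, MonoidHom.mem_ker]
    rfl
  have hMrel : (Msub.map (S : Subgroup G).subtype).relIndex (S : Subgroup G) = 2 := by
    have h1 : (Msub.map (S : Subgroup G).subtype).subgroupOf (S : Subgroup G) = Msub :=
      Subgroup.comap_map_eq_self_of_injective (S : Subgroup G).subtype_injective Msub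
    rw [Subgroup.relIndex, h1, hMsub, Subgroup.index_ker]
    have hsurj : Function.Surjective
        ((MonoidHom.fst (Multiplicative (ZMod 2)) (DihedralGroup 4)).comp e.toMonoidHom) := by
      intro x
      exact ⟨e.symm (x, 1), by simp⟩
    rw [MonoidHom.range_eq_top.mpr hsurj, Subgroup.card_top]
    simp
  have huu : (us : G) * (us : G) = 1 := by
    have h1 : us * us = 1 := by
      apply e.injective
      rw [map_mul, hus_e, map_one e]
      apply Prod.ext
      · exact sq_c2 _
      · simp
    exact congrArg Subtype.val h1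
  have hucent : ∀ r ∈ (S : Subgroup G), r * (us : G) = (us : G) * r := by
    intro r hr
    have h1 : (⟨r, hr⟩ : ↥(S : Subgroup G)) * us = us * ⟨r, hr⟩ := by
      apply e.injective
      rw [map_mul, map_mul, hus_e]
      apply Prod.ext
      · exact mul_comm' _ _
      · simp
    exact congrArg Subtype.val h1
  obtain ⟨g, hgS, hgM⟩ := Cfsg.Agent.H16Thompson.thompson_extremal hno2 S
    (Msub.map (S : Subgroup G).subtype) hMrel (us : G) huu (S : Subgroup G) S.2 us.2 hucent
  -- conjugation by g⁻¹ is a bijection of S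
  let θ : ↥(S : Subgroup G) → ↥(S : Subgroup G) := fun s => ⟨g⁻¹ * s * g, hgS s s.2⟩
  have hθinj : Function.Injective θ := by
    intro s s' h
    have h1 : g⁻¹ * (s : G) * g = g⁻¹ * (s' : G) * g := congrArg Subtype.val h
    apply Subtype.ext
    exact mul_left_cancel (mul_right_cancel h1)
  have hθsurj : Function.Surjective θ := Finite.injective_iff_surjective.mp hθinj
  -- u' = θ us
  obtain ⟨u', hu'M, hu'eq⟩ := hgM
  -- hu'eq : S.subtype u' = g⁻¹ * us * g
  have hu'θ : u' = θ us := Subtype.ext hu'eq
  have hu'1 : (e u').1 = 1 := (hMsub_mem u').mp hu'M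
  have hu'ne : u' ≠ 1 := by
    intro h
    rw [hu'θ] at h
    have h1 : g⁻¹ * (us : G) * g = 1 := congrArg Subtype.val h
    have h2 : (us : G) = 1 := by
      have : (us : G) = g * (g⁻¹ * (us : G) * g) * g⁻¹ := by group
      rw [this, h1]; group
    have h3 : us = 1 := Subtype.ext h2
    have h4 := congrArg e h3
    rw [hus_e, map_one e] at h4
    exact a_ne_one (congrArg Prod.fst h4)
  have hu'cent : ∀ s : ↥(S : Subgroup G), u' * s = s * u' := by
    intro s
    obtain ⟨s', rfl⟩ := hθsurj s
    rw [hu'θ]
    apply Subtype.ext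
    show g⁻¹ * (us : G) * g * (g⁻¹ * (s' : G) * g) = g⁻¹ * (s' : G) * g * (g⁻¹ * (us : G) * g)
    have h1 := hucent s' s'.2
    calc g⁻¹ * (us : G) * g * (g⁻¹ * (s' : G) * g) = g⁻¹ * ((us : G) * s') * g := by group
      _ = g⁻¹ * ((s' : G) * us) * g := by rw [h1]
      _ = g⁻¹ * (s' : G) * g * (g⁻¹ * (us : G) * g) := by group
  -- e u' = (1, r 2)
  have hd_cent : ∀ d' : DihedralGroup 4, (e u').2 * d' = d' * (e u').2 := by
    intro d'
    have h1 := hu'cent (e.symm (1, d'))
    have h2 := congrArg e h1
    rw [map_mul, map_mul, MulEquiv.apply_symm_apply] at h2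
    exact congrArg Prod.snd h2
  have hd : (e u').2 = DihedralGroup.r 2 := by
    rcases center_d8 _ hd_cent with h | h
    · exfalso
      apply hu'ne
      apply e.injective
      rw [map_one e]
      apply Prod.ext
      · exact hu'1
      · exact h
    · exact h
  have hu'sq : u' = e.symm (1, DihedralGroup.r 1) * e.symm (1, DihedralGroup.r 1) := by
    apply e.injective
    rw [map_mul, MulEquiv.apply_symm_apply]
    apply Prod.ext
    · rw [hu'1]; simp
    · rw [hd, r2_sq]; rfl
  -- pull back the square root through θ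
  obtain ⟨t', ht'⟩ := hθsurj (e.symm (1, DihedralGroup.r 1))
  have hus_sq : us = t' * t' := by
    apply hθinj
    rw [← hu'θ, hu'sq, ← ht']
    apply Subtype.ext
    show g⁻¹ * (t' : G) * g * (g⁻¹ * (t' : G) * g) = g⁻¹ * ((t' : G) * (t' : G)) * g
    group
  have h5 := congrArg e hus_sq
  rw [hus_e, map_mul] at h5
  have h6 := congrArg Prod.fst h5
  rw [Prod.fst_mul, sq_c2] at h6
  exact a_ne_one h6

end Cfsg.Agent.S3309
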