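import Cfsg.Statements.S2911
import Cfsg.Agent.S3309
-- import your own Cfsg.Agent.* helpers here

set_option autoImplicit false
open Cfsg

namespace Cfsg.Agent.S2911

/-- A finite group whose Sylow 2-subgroups are isomorphic to the direct product of a group of order 2 and a dihedral group of order 8 has a subgroup of index two. -/
theorem result {G : Type*} [Group G] [Finite G] (S : Sylow 2 G) (hS : Nonempty (↥(S : Subgroup G) ≃* Multiplicative (ZMod 2) × DihedralGroup 4)) : ∃ H : Subgroup G, H.index = 2 := by
  by_contra hcon
  push Not at hcon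
  have hno2 : ∀ K : Subgroup G, K.index ≠ 2 := hcon
  open Cfsg.Agent.S3309 in
  exact absurd (show False from by
    obtain ⟨e⟩ := hS
    have : Fact (Nat.Prime 2) := ⟨Nat.prime_two⟩
    have hcardS : Nat.card ↥(S : Subgroup G) = 16 := by
      rw [Nat.card_congr e.toEquiv, Nat.card_prod, DihedralGroup.nat_card]
      simp
    -- the central involution and the subgroup M
    set us : ↥(S : Subgroup G) := e.symm (Multiplicative.ofAdd (1 : ZMod 2), 1) with husdef
    have hus_e : e us = (Multiplicative.ofAdd (1 : ZMod 2), 1) := by rw [husdef, MulEquiv.apply_symm_apply]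
    set Msub : Subgroup ↥(S : Subgroup G) :=
      ((MonoidHom.fst (Multiplicative (ZMod 2)) (DihedralGroup 4)).comp e.toMonoidHom).ker with hMsub
    have hMsub_mem : ∀ s : ↥(S : Subgroup G), s ∈ Msub ↔ (e s).1 = 1 := by
      intro s
      rw [hMsub, MonoidHom.mem_ker]
      rfl
    have hMrel : (Msub.map (S : Subgroup G).subtype).relIndex (S : Subgroup G) = 2 := by
      have h1 : (Msub.map (S : Subgroup G).subtype).subgroupOf (S : Subgroup G) = Msub :=
        Subgroup.comap_map_eq_self_of_injective (S : Subgroup G).subtype_injective Msub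
      rw [Subgroup.relIndex, h1, hMsub, Subgroup.index_ker]
      have hsurj : Function.Surjective
          ((MonoidHom.fst (Multiplicative (ZMod 2)) (DihedralGroup 4)).comp e.toMonoidHom) := by
        intro x
        exact ⟨e.symm (x, 1), by simp⟩
      rw [MonoidHom.range_eq_top.mpr hsurj, Subgroup.card_top]
      simp
    have huu : (us : G) * (us : G) = 1 := by
      have h1 : us * us = 1 := by
        apply e.injective
        rw [map_mul, hus_e, map_one e]
        apply Prod.ext
        · exact sq_c2 _
        · simp
      exact congrArg Subtype.val h1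
    have hucent : ∀ r ∈ (S : Subgroup G), r * (us : G) = (us : G) * r := by
      intro r hr
      have h1 : (⟨r, hr⟩ : ↥(S : Subgroup G)) * us = us * ⟨r, hr⟩ := by
        apply e.injective
        rw [map_mul, map_mul, hus_e]
        apply Prod.ext
        · exact mul_comm' _ _
        · simp
      exact congrArg Subtype.val h1
    obtain ⟨g, hgS, hgM⟩ := Cfsg.Agent.H16Thompson.thompson_extremal hno2 S
      (Msub.map (S : Subgroup G).subtype) hMrel (us : G) huu (S : Subgroup G) S.2 us.2 hucent
    -- conjugation by g⁻¹ is a bijection of S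
    let θ : ↥(S : Subgroup G) → ↥(S : Subgroup G) := fun s => ⟨g⁻¹ * s * g, hgS s s.2⟩
    have hθinj : Function.Injective θ := by
      intro s s' h
      have h1 : g⁻¹ * (s : G) * g = g⁻¹ * (s' : G) * g := congrArg Subtype.val h
      apply Subtype.ext
      exact mul_left_cancel (mul_right_cancel h1)
    have hθsurj : Function.Surjective θ := Finite.injective_iff_surjective.mp hθinj
    -- u' = θ us
    obtain ⟨u', hu'M, hu'eq⟩ := hgM
    -- hu'eq : S.subtype u' = g⁻¹ * us * g
    have hu'θ : u' = θ us := Subtype.ext hu'eq
    have hu'1 : (e u').1 = 1 := (hMsub_mem u').mp hu'M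
    have hu'ne : u' ≠ 1 := by
      intro h
      rw [hu'θ] at h
      have h1 : g⁻¹ * (us : G) * g = 1 := congrArg Subtype.val h
      have h2 : (us : G) = 1 := by
        have : (us : G) = g * (g⁻¹ * (us : G) * g) * g⁻¹ := by group
        rw [this, h1]; group
      have h3 : us = 1 := Subtype.ext h2
      have h4 := congrArg e h3
      rw [hus_e, map_one e] at h4
      exact a_ne_one (congrArg Prod.fst h4)
    have hu'cent : ∀ s : ↥(S : Subgroup G), u' * s = s * u' := by
      intro s
      obtain ⟨s', rfl⟩ := hθsurj s
      rw [hu'θ]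
      apply Subtype.ext
      show g⁻¹ * (us : G) * g * (g⁻¹ * (s' : G) * g) = g⁻¹ * (s' : G) * g * (g⁻¹ * (us : G) * g)
      have h1 := hucent s' s'.2
      calc g⁻¹ * (us : G) * g * (g⁻¹ * (s' : G) * g) = g⁻¹ * ((us : G) * s') * g := by group
        _ = g⁻¹ * ((s' : G) * us) * g := by rw [h1]
        _ = g⁻¹ * (s' : G) * g * (g⁻¹ * (us : G) * g) := by group
    -- e u' = (1, r 2)
    have hd_cent : ∀ d' : DihedralGroup 4, (e u').2 * d' = d' * (e u').2 := by
      intro d'
      have h1 := hu'cent (e.symm (1, d'))
      have h2 := congrArg e h1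
      rw [map_mul, map_mul, MulEquiv.apply_symm_apply] at h2
      exact congrArg Prod.snd h2
    have hd : (e u').2 = DihedralGroup.r 2 := by
      rcases center_d8 _ hd_cent with h | h
      · exfalso
        apply hu'ne
        apply e.injective
        rw [map_one e]
        apply Prod.ext
        · exact hu'1
        · exact h
      · exact h
    have hu'sq : u' = e.symm (1, DihedralGroup.r 1) * e.symm (1, DihedralGroup.r 1) := by
      apply e.injective
      rw [map_mul, MulEquiv.apply_symm_apply]
      apply Prod.ext
      · rw [hu'1]; simp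
      · rw [hd, r2_sq]; rfl
    -- pull back the square root through θ
    obtain ⟨t', ht'⟩ := hθsurj (e.symm (1, DihedralGroup.r 1))
    have hus_sq : us = t' * t' := by
      apply hθinj
      rw [← hu'θ, hu'sq, ← ht']
      apply Subtype.ext
      show g⁻¹ * (t' : G) * g * (g⁻¹ * (t' : G) * g) = g⁻¹ * ((t' : G) * (t' : G)) * g
      group
    have h5 := congrArg e hus_sq
    rw [hus_e, map_mul] at h5
    have h6 := congrArg Prod.fst h5
    rw [Prod.fst_mul, sq_c2] at h6
    exact a_ne_one h6) id

end Cfsg.Agent.S2911
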