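import Cfsg.Statements.S2912
import Cfsg.Agent.Lib_helper15_ESRep3

set_option autoImplicit false
open Cfsg

namespace Cfsg.Agent.S2912

/-- Let p and r be distinct primes, let E be an extraspecial subgroup of order p^(2w+1) of a finite group, and let A be an elementary abelian r-subgroup normalized by E on which E acts faithfully (C_E(A) = 1). If n ≥ 1 is least with p dividing rⁿ − 1 (the smallest dimension of a faithful representation of a group of order p over the field with r elements), then the order of A is at least r^(n·p^w). -/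
theorem result {G : Type*} [Group G] [Finite G] {p r : ℕ} [Fact p.Prime] [hr : Fact r.Prime] (hpr : p ≠ r) (E A : Subgroup G) (w : ℕ) (hE : Cfsg.IsExtraspecial p ↥E) (hEcard : Nat.card ↥E = p ^ (2 * w + 1)) (hA : Cfsg.IsElementaryAbelian r A) (hnorm : E ≤ Subgroup.normalizer (A : Set G)) (hfaith : E ⊓ Subgroup.centralizer (A : Set G) = ⊥) (n : ℕ) (hn : 1 ≤ n) (hdiv : p ∣ r ^ n - 1) (hmin : ∀ k : ℕ, 1 ≤ k → p ∣ r ^ k - 1 → n ≤ k) : r ^ (n * p ^ w) ≤ Nat.card ↥A := by
  classical
  obtain ⟨hAcomm, hAexp⟩ := hA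
  letI instA : CommGroup ↥A :=
    { (inferInstance : Group ↥A) with mul_comm := hAcomm.is_comm.comm }
  have hmem : ∀ e ∈ E, ∀ a ∈ A, e * a * e⁻¹ ∈ A := fun e he a ha =>
    (Subgroup.mem_normalizer_iff.1 (hnorm he) a).1 ha
  let ψ : ↥E → MulAut ↥A := fun e =>
    { toFun := fun a => ⟨(e : G) * a * (e : G)⁻¹, hmem e e.2 a a.2⟩
      invFun := fun a => ⟨(e : G)⁻¹ * a * (e : G), by
        simpa using hmem _ (E.inv_mem e.2) a a.2⟩
      left_inv := fun a => Subtype.ext (by simp [mul_assoc])
      right_inv := fun a => Subtype.ext (by simp [mul_assoc])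
      map_mul' := fun a b => Subtype.ext (by simp [mul_assoc]) }
  have hψ : ∀ (e : ↥E) (a : ↥A), ((ψ e a : ↥A) : G) = (e : G) * a * (e : G)⁻¹ := fun _ _ => rfl
  let φ : ↥E →* MulAut ↥A :=
    { toFun := ψ
      map_one' := by
        ext a
        rw [hψ]
        simp
      map_mul' := fun e f => by
        ext a
        rw [MulAut.mul_apply, hψ, hψ, hψ]
        simp [mul_assoc] }
  have hφ : ∀ (e : ↥E) (a : ↥A), ((φ e a : ↥A) : G) = (e : G) * a * (e : G)⁻¹ := fun _ _ => rfl
  haveI : Finite ↥E := inferInstance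
  haveI : Finite ↥A := inferInstance
  have hexp : ∀ v : ↥A, v ^ r = 1 := by
    intro v
    apply Subtype.ext
    simpa using hAexp v v.2
  have hfaith' : ∀ g : ↥E, (∀ v : ↥A, φ g v = v) → g = 1 := by
    intro g hg
    have h1 : (g : G) ∈ E ⊓ Subgroup.centralizer (A : Set G) := by
      refine Subgroup.mem_inf.2 ⟨g.2, ?_⟩
      rw [Subgroup.mem_centralizer_iff]
      intro a ha
      have h2 := congrArg Subtype.val (hg ⟨a, ha⟩)
      rw [hφ] at h2
      simp only at h2
      exact (mul_inv_eq_iff_eq_mul.1 h2).symm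
    rw [hfaith, Subgroup.mem_bot] at h1
    exact Subtype.ext h1
  exact Cfsg.Agent.helper15.ESRep.esrep_main hpr φ hexp hfaith' hE w hEcard n hn hmin

end Cfsg.Agent.S2912
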