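import Cfsg.Statements.S2922
import Mathlib
import Cfsg.Agent.Lib_helper7_Local

set_option autoImplicit false
open Cfsg

namespace Cfsg.Agent.S2922

open Cfsg.Agent.helper7

/-- If `N' ≤ M` has characteristic `p` and contains `C_M(O_p(M))`, then `M` has characteristic `p`. -/
theorem fstarOf_of_le {G : Type*} [Group G] [Finite G] {p : ℕ} (hp : p.Prime) {N' M : Subgroup G}
    (hN'M : N' ≤ M) (hN' : fstarOf N' = piCoreIn {p} N')
    (hC : M ⊓ Subgroup.centralizer ((piCoreIn {p} M : Subgroup G) : Set G) ≤ N') :
    fstarOf M = piCoreIn {p} M := by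
  rw [fstarOf_eq_piCoreIn_iff hp] at hN' ⊢
  constructor
  · intro L hL
    have h2 : L ≤ Subgroup.centralizer ((fitOf M : Subgroup G) : Set G) :=
      Subgroup.commutator_eq_bot_iff_le_centralizer.1 hL.comm_fitOf
    have h3 : L ≤ N' := (le_inf hL.1.le
      (h2.trans (Subgroup.centralizer_le (piCoreIn_le_fitOf hp M)))).trans hC
    exact hN'.1 L (hL.of_le h3 hN'M)
  · intro r hr hrp
    have h1 : piCoreIn {r} M ≤ N' :=
      (le_inf (piCoreIn_le _ M) (piCoreIn_le_centralizer_piCoreIn hrp M)).trans hC
    have h2 : piCoreIn {r} M ≤ piCoreIn {r} N' :=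
      le_radOf h1 (hN'M.trans (piCoreIn_normal _ M)) (piCoreIn_piGrp {r} M)
    rw [hN'.2 r hr hrp] at h2
    exact le_bot_iff.1 h2


/-- Let p be a prime, X a finite group, B a p-subgroup of X and C a normal subgroup of B. If N_X(C) has characteristic p (its generalized Fitting subgroup is O_p(N_X(C))), then N_X(B) and C_X(B) have characteristic p. -/
theorem result {X : Type*} [Group X] [Finite X] {p : ℕ} [Fact p.Prime] (B C : Subgroup X) (hB : IsPGroup p ↥B) (hCB : C ≤ B) (hCn : (C.subgroupOf B).Normal) (hC : Cfsg.generalizedFittingSubgroup ↥(Subgroup.normalizer (C : Set X)) = Cfsg.pCore p ↥(Subgroup.normalizer (C : Set X))) : Cfsg.generalizedFittingSubgroup ↥(Subgroup.normalizer (B : Set X)) = Cfsg.pCore p ↥(Subgroup.normalizer (B : Set X)) ∧ Cfsg.generalizedFittingSubgroup ↥(Subgroup.centralizer (B : Set X)) = Cfsg.pCore p ↥(Subgroup.centralizer (B : Set X)) := by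
  have hp : p.Prime := Fact.out
  have hH : fstarOf (Subgroup.normalizer (C : Set X)) = piCoreIn {p} (Subgroup.normalizer (C : Set X)) := by
    rw [← map_generalizedFittingSubgroup_eq, ← map_pCore_eq hp, hC]
  have hBH : B ≤ Subgroup.normalizer (C : Set X) :=
    (Subgroup.normal_subgroupOf_iff_le_normalizer hCB).1 hCn
  have hBM : B ≤ Subgroup.normalizer (B : Set X) := Subgroup.le_normalizer
  have hZM : Subgroup.centralizer (B : Set X) ≤ Subgroup.normalizer (B : Set X) :=
    Subgroup.centralizer_le_normalizer _
  have hZH : Subgroup.centralizer (B : Set X) ≤ Subgroup.normalizer (C : Set X) :=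
    (Subgroup.centralizer_le hCB).trans (Subgroup.centralizer_le_normalizer _)
  -- `N' = N_X(C) ∩ N_X(B)` has characteristic `p`
  have hN' : fstarOf (Subgroup.normalizer (C : Set X) ⊓ Subgroup.normalizer (B : Set X)) =
      piCoreIn {p} (Subgroup.normalizer (C : Set X) ⊓ Subgroup.normalizer (B : Set X)) := by
    apply fstarOf_local hp hH hB (hBH.trans Subgroup.le_normalizer) inf_le_left
    · exact le_inf inf_le_left (inf_le_right.trans hZM)
    · exact inf_le_right
    · have hPO : B ≤ piCoreIn {p} (Subgroup.normalizer (C : Set X) ⊓ Subgroup.normalizer (B : Set X)) :=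
        le_radOf (le_inf hBH hBM) inf_le_right ((isPGroup_iff_piGrp hp).1 hB)
      exact inf_le_right.trans (Subgroup.centralizer_le hPO)
  have hM : fstarOf (Subgroup.normalizer (B : Set X)) = piCoreIn {p} (Subgroup.normalizer (B : Set X)) := by
    apply fstarOf_of_le hp inf_le_right hN'
    have hPO : B ≤ piCoreIn {p} (Subgroup.normalizer (B : Set X)) :=
      le_radOf hBM le_rfl ((isPGroup_iff_piGrp hp).1 hB)
    have h1 : Subgroup.centralizer ((piCoreIn {p} (Subgroup.normalizer (B : Set X)) : Subgroup X) : Set X) ≤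
        Subgroup.centralizer (B : Set X) := Subgroup.centralizer_le hPO
    exact inf_le_right.trans (h1.trans (le_inf hZH hZM))
  have hZ : fstarOf (Subgroup.centralizer (B : Set X)) = piCoreIn {p} (Subgroup.centralizer (B : Set X)) := by
    apply fstarOf_local hp hM hB (hBM.trans Subgroup.le_normalizer) hZM inf_le_right hZM
    exact inf_le_left
  constructor
  · apply Subgroup.map_injective (Subgroup.normalizer (B : Set X)).subtype_injective
    rw [map_generalizedFittingSubgroup_eq, map_pCore_eq hp]
    exact hM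
  · apply Subgroup.map_injective (Subgroup.centralizer (B : Set X)).subtype_injective
    rw [map_generalizedFittingSubgroup_eq, map_pCore_eq hp]
    exact hZ

end Cfsg.Agent.S2922
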