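import Cfsg.Statements.S2925
import Mathlib
import Cfsg.Agent.Lib_helper7_PComp3
import Cfsg.Agent.S0542

set_option autoImplicit false
open Cfsg

namespace Cfsg.Agent.S2925

open Cfsg.Agent.helper7
open scoped commutatorElement

theorem comm_identity {X : Type*} [Group X] (a b a' b' : X) (h1 : a⁻¹ * b' = b' * a⁻¹)
    (h2 : b⁻¹ * a' = a' * b⁻¹) (h : a' * a⁻¹ * (b' * b⁻¹) = b' * b⁻¹ * (a' * a⁻¹)) :
    b⁻¹ * a⁻¹ * b * a = a'⁻¹ * b'⁻¹ * a' * b' := by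
  have h3 : a' * b' * a⁻¹ * b⁻¹ = b' * a' * b⁻¹ * a⁻¹ := by
    calc a' * b' * a⁻¹ * b⁻¹ = a' * (b' * a⁻¹) * b⁻¹ := by group
      _ = a' * (a⁻¹ * b') * b⁻¹ := by rw [h1]
      _ = a' * a⁻¹ * (b' * b⁻¹) := by group
      _ = b' * b⁻¹ * (a' * a⁻¹) := h
      _ = b' * (b⁻¹ * a') * a⁻¹ := by group
      _ = b' * (a' * b⁻¹) * a⁻¹ := by rw [h2]
      _ = b' * a' * b⁻¹ * a⁻¹ := by group
  symm
  calc a'⁻¹ * b'⁻¹ * a' * b' = (b' * a')⁻¹ * (a' * b' * a⁻¹ * b⁻¹) * (b * a) := by group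
    _ = (b' * a')⁻¹ * (b' * a' * b⁻¹ * a⁻¹) * (b * a) := by rw [h3]
    _ = b⁻¹ * a⁻¹ * b * a := by group


/-- Let K be a component of the finite group X and T a Sylow 2-subgroup of X. If some abelian normal subgroup Y of T does not normalize K, then K ⧸ Z(K) has abelian Sylow 2-subgroups. -/
theorem result {X : Type*} [Group X] [Finite X] (K : Subgroup X) (hK : Cfsg.IsComponent K) (T : Sylow 2 X) (Y : Subgroup X) (hYT : Y ≤ (T : Subgroup X)) (hYn : (Y.subgroupOf (T : Subgroup X)).Normal) (hYab : IsMulCommutative ↥Y) (hnot : ¬ Y ≤ Subgroup.normalizer (K : Set X)) (P : Sylow 2 (↥K ⧸ Subgroup.center ↥K)) : IsMulCommutative ↥(P : Subgroup (↥K ⧸ Subgroup.center ↥K)) := by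
  have hKc : Comp K ⊤ := isComponent_iff.1 hK
  obtain ⟨y, hyY, hyN⟩ : ∃ y ∈ Y, y ∉ Subgroup.normalizer (K : Set X) := by
    by_contra h
    push Not at h
    exact hnot h
  have hne : K ≠ cj y K := fun h => hyN (mem_normalizer_of_cj_eq h.symm)
  have hKy : Comp (cj y K) ⊤ := hKc.conj_top y
  have hcomm : ⁅K, cj y K⁆ = ⊥ := hKc.comm_of_ne hKy hne
  have hcomm' : ∀ a ∈ K, ∀ b ∈ cj y K, a * b = b * a := by
    intro a ha b hb
    have h1 : ⁅a, b⁆ ∈ ⁅K, cj y K⁆ := Subgroup.commutator_mem_commutator ha hb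
    rw [hcomm, Subgroup.mem_bot, commutatorElement_eq_one_iff_mul_comm] at h1
    exact h1
  have hnorm : ∀ t ∈ (T : Subgroup X), t * y⁻¹ * t⁻¹ ∈ Y := by
    intro t ht
    have := hYn.conj_mem ⟨y⁻¹, hYT (Y.inv_mem hyY)⟩
      (by rw [Subgroup.mem_subgroupOf]; exact Y.inv_mem hyY) ⟨t, ht⟩
    rw [Subgroup.mem_subgroupOf] at this
    simpa using this
  have hmemY : ∀ t ∈ (T : Subgroup X), y * t * y⁻¹ * t⁻¹ ∈ Y := by
    intro t ht
    have := Y.mul_mem hyY (hnorm t ht)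
    have e : y * t * y⁻¹ * t⁻¹ = y * (t * y⁻¹ * t⁻¹) := by group
    rw [e]; exact this
  have key : ∀ a ∈ (T : Subgroup X) ⊓ K, ∀ b ∈ (T : Subgroup X) ⊓ K, ∀ k ∈ K,
      (b⁻¹ * a⁻¹ * b * a) * k = k * (b⁻¹ * a⁻¹ * b * a) := by
    intro a ha b hb k hk
    obtain ⟨haT, haK⟩ := Subgroup.mem_inf.1 ha
    obtain ⟨hbT, hbK⟩ := Subgroup.mem_inf.1 hb
    have hu := hmemY a haT
    have hv := hmemY b hbT
    have huv : (y * a * y⁻¹ * a⁻¹) * (y * b * y⁻¹ * b⁻¹) =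
        (y * b * y⁻¹ * b⁻¹) * (y * a * y⁻¹ * a⁻¹) := by
      have := hYab.is_comm.comm ⟨_, hu⟩ ⟨_, hv⟩
      exact congrArg Subtype.val this
    have ha' : y * a * y⁻¹ ∈ cj y K := cj_mem_cj haK
    have hb' : y * b * y⁻¹ ∈ cj y K := cj_mem_cj hbK
    have hw := comm_identity a b (y * a * y⁻¹) (y * b * y⁻¹)
      (hcomm' a⁻¹ (K.inv_mem haK) _ hb') (hcomm' b⁻¹ (K.inv_mem hbK) _ ha') huv
    have hwK' : b⁻¹ * a⁻¹ * b * a ∈ cj y K := by
      rw [hw]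
      exact mul_mem (mul_mem (mul_mem (inv_mem ha') (inv_mem hb')) ha') hb'
    exact (hcomm' k hk _ hwK').symm
  obtain ⟨Q, hQ⟩ := Cfsg.Agent.S0542.result 2 K hK.1 T
  have hπ : Function.Surjective (QuotientGroup.mk' (Subgroup.center ↥K)) :=
    QuotientGroup.mk'_surjective _
  have hQbar : IsMulCommutative ↥((Q.mapSurjective hπ : Sylow 2 (↥K ⧸ Subgroup.center ↥K)) :
      Subgroup (↥K ⧸ Subgroup.center ↥K)) := by
    refine ⟨⟨?_⟩⟩
    rintro ⟨_, ⟨a, ha, rfl⟩⟩ ⟨_, ⟨b, hb, rfl⟩⟩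
    apply Subtype.ext
    show (QuotientGroup.mk' (Subgroup.center ↥K)) a * (QuotientGroup.mk' (Subgroup.center ↥K)) b =
      (QuotientGroup.mk' (Subgroup.center ↥K)) b * (QuotientGroup.mk' (Subgroup.center ↥K)) a
    rw [← map_mul, ← map_mul]
    apply (QuotientGroup.eq).2
    rw [Subgroup.mem_center_iff]
    intro k
    apply Subtype.ext
    have haQ : a ∈ (Q : Subgroup ↥K) := ha
    have hbQ : b ∈ (Q : Subgroup ↥K) := hb
    rw [hQ, Subgroup.mem_subgroupOf] at haQ hbQ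
    have := key a.1 (Subgroup.mem_inf.2 ⟨haQ, a.2⟩) b.1 (Subgroup.mem_inf.2 ⟨hbQ, b.2⟩) k.1 k.2
    simp only [Subgroup.coe_mul, Subgroup.coe_inv, mul_inv_rev]
    rw [← mul_assoc ((b : X)⁻¹ * (a : X)⁻¹)]
    exact this.symm
  obtain ⟨g, hg⟩ := MulAction.exists_smul_eq (↥K ⧸ Subgroup.center ↥K) (Q.mapSurjective hπ) P
  rw [← hg]
  have e : ((g • (Q.mapSurjective hπ) : Sylow 2 (↥K ⧸ Subgroup.center ↥K)) :
      Subgroup (↥K ⧸ Subgroup.center ↥K)) =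
      ((Q.mapSurjective hπ : Sylow 2 (↥K ⧸ Subgroup.center ↥K)) :
      Subgroup (↥K ⧸ Subgroup.center ↥K)).map (MulAut.conj g).toMonoidHom := rfl
  rw [e]
  exact Subgroup.map_isMulCommutative _ _

end Cfsg.Agent.S2925
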