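import Cfsg.Statements.S2934
import Cfsg.Agent.Lib_helper15_OneInv6
import Cfsg.Agent.Lib_helper1_ElemAb
import Cfsg.Agent.Lib_helper1_PGroup

set_option autoImplicit false
open Cfsg
open scoped commutatorElement

namespace Cfsg.Agent.S2934

/-- Let p be an odd prime, W a finite 2-group and E a non-cyclic abelian p-subgroup of Aut(W) such that, for every nontrivial e ∈ E, the fixed points of e in W contain at most one involution. Then E has order 9, W is extraspecial of order 2⁵, 2⁷ or 2⁹, and the common fixed points of E in W form exactly the centre Z(W). -/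
theorem result {W : Type*} [Group W] [Finite W] (hW : IsPGroup 2 W) {p : ℕ} [Fact p.Prime] (hp : p ≠ 2) (E : Subgroup (MulAut W)) (hE : IsPGroup p ↥E) (hab : IsMulCommutative ↥E) (hnc : ¬ IsCyclic ↥E) (hfix : ∀ e ∈ E, e ≠ 1 → ∀ x y : W, orderOf x = 2 → orderOf y = 2 → e x = x → e y = y → x = y) : Nat.card ↥E = 9 ∧ Cfsg.IsExtraspecial 2 W ∧ (Nat.card W = 2 ^ 5 ∨ Nat.card W = 2 ^ 7 ∨ Nat.card W = 2 ^ 9) ∧ {x : W | ∀ e ∈ E, e x = x} = (Subgroup.center W : Set W) := by
  classical
  haveI : Fact (Nat.Prime 2) := ⟨Nat.prime_two⟩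
  haveI : Finite (W ⋊[E.subtype] ↥E) := Finite.of_equiv _ SemidirectProduct.equivProd.symm
  have hil : Function.Injective (SemidirectProduct.inl : W →* W ⋊[E.subtype] ↥E) :=
    SemidirectProduct.inl_injective
  have hir : Function.Injective (SemidirectProduct.inr : ↥E →* W ⋊[E.subtype] ↥E) :=
    SemidirectProduct.inr_injective
  have hconj : ∀ (e : ↥E) (w : W),
      (SemidirectProduct.inr e : W ⋊[E.subtype] ↥E) * SemidirectProduct.inl w *
        (SemidirectProduct.inr e)⁻¹ = SemidirectProduct.inl ((e : MulAut W) w) := by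
    intro e w
    have := SemidirectProduct.inl_aut (φ := E.subtype) e w
    rw [map_inv] at this
    exact this.symm
  have hH : Cfsg.Agent.helper15.OneInv.Hyp
      (SemidirectProduct.inl : W →* W ⋊[E.subtype] ↥E).range
      (SemidirectProduct.inr : ↥E →* W ⋊[E.subtype] ↥E).range p := by
    refine ⟨Fact.out, hp, hW.of_equiv (MonoidHom.ofInjective hil),
      hE.of_equiv (MonoidHom.ofInjective hir), ?_, ?_, ?_, ?_, ?_⟩
    · rintro _ ⟨e, rfl⟩ _ ⟨e', rfl⟩
      rw [← map_mul, ← map_mul, hab.is_comm.comm e e']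
    · intro hc
      exact hnc ((MulEquiv.isCyclic (MonoidHom.ofInjective hir)).2 hc)
    · apply Cfsg.Agent.helper15.OneInv.le_normalizer_of_conj_mem
      rintro _ ⟨e, rfl⟩ _ ⟨w, rfl⟩
      rw [hconj]
      exact ⟨_, rfl⟩
    · rintro _ ⟨e, rfl⟩ hall
      have he1 : e = 1 := by
        apply Subtype.ext
        apply MulEquiv.ext
        intro w
        have := hall (SemidirectProduct.inl w) ⟨w, rfl⟩
        rw [hconj] at this
        exact hil this
      rw [he1, map_one]
    · rintro _ ⟨e, rfl⟩ hne x hx y hy hx2 hy2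
      obtain ⟨⟨x', rfl⟩, hxc⟩ := Subgroup.mem_inf.1 hx
      obtain ⟨⟨y', rfl⟩, hyc⟩ := Subgroup.mem_inf.1 hy
      have hne' : (e : MulAut W) ≠ 1 := by
        intro h1
        apply hne
        have : e = 1 := Subtype.ext h1
        rw [this, map_one]
      have hx2' : orderOf x' = 2 := by rw [← hx2]; exact (orderOf_injective _ hil x').symm
      have hy2' : orderOf y' = 2 := by rw [← hy2]; exact (orderOf_injective _ hil y').symm
      have hex : (e : MulAut W) x' = x' := by
        have := Cfsg.Agent.helper15.OneInv.mem_centralizer_singleton_iff'.1 hxc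
        rw [hconj] at this
        exact hil this
      have hey : (e : MulAut W) y' = y' := by
        have := Cfsg.Agent.helper15.OneInv.mem_centralizer_singleton_iff'.1 hyc
        rw [hconj] at this
        exact hil this
      rw [hfix (e : MulAut W) e.2 hne' x' y' hx2' hy2' hex hey]
  obtain ⟨h1, h2, h3, h4, h5, h6, x0, hx0, y0, hy0, hxy0⟩ := hH.main
  -- centre of `W`
  have hcenter : ∀ w : W, w ∈ Subgroup.center W ↔
      (SemidirectProduct.inl w : W ⋊[E.subtype] ↥E) ∈
        (SemidirectProduct.inl : W →* W ⋊[E.subtype] ↥E).range ⊓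
        Subgroup.centralizer (((SemidirectProduct.inl : W →* W ⋊[E.subtype] ↥E).range :
          Subgroup (W ⋊[E.subtype] ↥E)) : Set (W ⋊[E.subtype] ↥E)) := by
    intro w
    constructor
    · intro hw
      rw [Subgroup.mem_center_iff] at hw
      refine Subgroup.mem_inf.2 ⟨⟨w, rfl⟩, Subgroup.mem_centralizer_iff.2 ?_⟩
      rintro _ ⟨g, rfl⟩
      rw [← map_mul, ← map_mul, hw g]
    · intro hw
      rw [Subgroup.mem_center_iff]
      intro g
      have := Subgroup.mem_centralizer_iff.1 (Subgroup.mem_inf.1 hw).2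
        (SemidirectProduct.inl g) ⟨g, rfl⟩
      rw [← map_mul, ← map_mul] at this
      exact hil this
  have hfixed : ∀ w : W, (∀ e ∈ E, e w = w) ↔
      (SemidirectProduct.inl w : W ⋊[E.subtype] ↥E) ∈ Cfsg.Agent.helper15.OneInv.CA
        (SemidirectProduct.inl : W →* W ⋊[E.subtype] ↥E).range
        (SemidirectProduct.inr : ↥E →* W ⋊[E.subtype] ↥E).range := by
    intro w
    constructor
    · intro hw
      refine Subgroup.mem_inf.2 ⟨⟨w, rfl⟩, Subgroup.mem_centralizer_iff.2 ?_⟩
      rintro _ ⟨e, rfl⟩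
      have := hconj e w
      rw [hw e e.2] at this
      calc (SemidirectProduct.inr e : W ⋊[E.subtype] ↥E) * SemidirectProduct.inl w
          = (SemidirectProduct.inr e * SemidirectProduct.inl w * (SemidirectProduct.inr e)⁻¹) *
              SemidirectProduct.inr e := by group
        _ = SemidirectProduct.inl w * SemidirectProduct.inr e := by rw [this]
    · intro hw e he
      have h7 := Subgroup.mem_centralizer_iff.1 (Subgroup.mem_inf.1 hw).2
        (SemidirectProduct.inr ⟨e, he⟩) ⟨⟨e, he⟩, rfl⟩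
      have h8 := hconj ⟨e, he⟩ w
      rw [h7] at h8
      have h9 : (SemidirectProduct.inl w : W ⋊[E.subtype] ↥E) =
          SemidirectProduct.inl (e w) := by
        rw [← h8]; group
      exact (hil h9).symm
  have hmapc : (Subgroup.center W).map (SemidirectProduct.inl : W →* W ⋊[E.subtype] ↥E) =
      Cfsg.Agent.helper15.OneInv.CA
        (SemidirectProduct.inl : W →* W ⋊[E.subtype] ↥E).range
        (SemidirectProduct.inr : ↥E →* W ⋊[E.subtype] ↥E).range := by
    rw [← h3]
    ext t
    constructor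
    · rintro ⟨z, hz, rfl⟩
      exact (hcenter z).1 hz
    · intro ht
      obtain ⟨w, rfl⟩ := (Subgroup.mem_inf.1 ht).1
      exact ⟨w, (hcenter w).2 ht, rfl⟩
  have hcardc : Nat.card ↥(Subgroup.center W) = 2 := by
    rw [← Subgroup.card_map_of_injective hil, hmapc]
    exact h4
  have hmemc : ∀ w : W, w ∈ Subgroup.center W ↔
      (SemidirectProduct.inl w : W ⋊[E.subtype] ↥E) ∈ Cfsg.Agent.helper15.OneInv.CA
        (SemidirectProduct.inl : W →* W ⋊[E.subtype] ↥E).range
        (SemidirectProduct.inr : ↥E →* W ⋊[E.subtype] ↥E).range := by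
    intro w
    rw [hcenter w, h3]
  -- commutator
  have hcomm_le : commutator W ≤ Subgroup.center W := by
    rw [commutator_def, Subgroup.commutator_le]
    intro g₁ _ g₂ _
    rw [hmemc, commutatorElement_def]
    simp only [map_mul, map_inv]
    exact h5 _ ⟨g₁, rfl⟩ _ ⟨g₂, rfl⟩
  have hcomm_ne : commutator W ≠ ⊥ := by
    intro hbot
    obtain ⟨x', rfl⟩ := hx0
    obtain ⟨y', rfl⟩ := hy0
    apply hxy0
    have hmem : ⁅x', y'⁆ ∈ commutator W := by
      rw [commutator_def]
      exact Subgroup.commutator_mem_commutator (Subgroup.mem_top _) (Subgroup.mem_top _)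
    rw [hbot, Subgroup.mem_bot, commutatorElement_eq_one_iff_mul_comm] at hmem
    rw [← map_mul, ← map_mul, hmem]
  have hcomm_eq : commutator W = Subgroup.center W := by
    apply Subgroup.eq_of_le_of_card_ge hcomm_le
    rw [hcardc]
    have hd : Nat.card ↥(commutator W) ∣ 2 := by
      rw [← hcardc]; exact Subgroup.card_dvd_of_le hcomm_le
    rcases (Nat.dvd_prime Nat.prime_two).1 hd with h | h
    · exact absurd (Subgroup.card_eq_one.1 h) hcomm_ne
    · exact h.ge
  have hfrat_le : frattini W ≤ Subgroup.center W := by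
    apply Cfsg.Agent.helper1.frattini_le_of_elemAb_quot (p := 2) (Subgroup.center W) hcomm_le
    intro x
    rw [hmemc, pow_two, map_mul]
    exact h6 _ ⟨x, rfl⟩
  have hfrat_ge : Subgroup.center W ≤ frattini W := by
    rw [← hcomm_eq]
    exact Cfsg.Agent.helper1.commutator_le_frattini_of_isPGroup hW
  refine ⟨(Nat.card_congr (MonoidHom.ofInjective hir).toEquiv).trans h1,
    ⟨⟨hW, le_antisymm hfrat_le hfrat_ge, hcomm_eq⟩, hcardc⟩, ?_, ?_⟩
  · rw [Nat.card_congr (MonoidHom.ofInjective hil).toEquiv]
    exact h2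
  · ext w
    rw [Set.mem_setOf_eq, SetLike.mem_coe, hfixed w, hmemc w]

end Cfsg.Agent.S2934
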