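import Cfsg.Statements.S2939
import Cfsg.Agent.Lib_helper15_SylCtl2

set_option autoImplicit false
open Cfsg

namespace Cfsg.Agent.S2939

open Cfsg.Agent.helper15 in
/-- From a chain of Sylow subgroups to a factorization. -/
theorem chain_to_fact {G : Type*} [Group G] [Finite G] {p : ℕ} [Fact p.Prime]
    (𝓕 : Set (Subgroup G)) (h𝓕 : Cfsg.IsNormalSet 𝓕) (A : Set G) :
    ∀ (n : ℕ) (c : Fin (n + 1) → Sylow p G) (X : Fin n → Subgroup G) (x : Fin n → G),
      (∀ i : Fin n,
          X i ∈ Cfsg.sylowMembers p 𝓕 (c i.castSucc : Subgroup G) ∧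
          x i ∈ X i ∧
          Cfsg.subgroupConjRight (x i) (c i.succ : Subgroup G) = (c i.castSucc : Subgroup G) ∧
          ∀ a ∈ A, a ∈ (c i.succ : Subgroup G) ⊓ X i) →
      ∃ (Y : Fin n → Subgroup G) (y : Fin n → G),
        (∀ i, Y i ∈ Cfsg.sylowMembers p 𝓕 (c 0 : Subgroup G) ∧ y i ∈ Y i) ∧
        Cfsg.subgroupConjRight (List.ofFn y).prod (c (Fin.last n) : Subgroup G) = (c 0 : Subgroup G) ∧
        ∀ i : Fin n, ∀ a ∈ A, ((List.ofFn y).take (i.val + 1)).prod⁻¹ * a *
          ((List.ofFn y).take (i.val + 1)).prod ∈ (c 0 : Subgroup G) ⊓ Y i := by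
  intro n
  induction n with
  | zero =>
    intro c X x _
    refine ⟨Fin.elim0, Fin.elim0, fun i => i.elim0, ?_, fun i => i.elim0⟩
    simp only [List.ofFn_zero, List.prod_nil]
    exact subgroupConjRight_one _
  | succ n ih =>
    intro c X x hstep
    obtain ⟨hX0, hx0, hconj0, hA0⟩ := hstep 0
    have hc0 : (c (Fin.castSucc (0 : Fin (n + 1))) : Sylow p G) = c 0 := rfl
    have hc1 : (c (Fin.succ (0 : Fin (n + 1))) : Sylow p G) = c 1 := rfl
    rw [hc0] at hX0 hconj0
    rw [hc1] at hconj0 hA0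
    obtain ⟨Y', y', hY', hlast', hA'⟩ := ih (fun j => c j.succ) (fun j => X j.succ)
      (fun j => x j.succ)
      (by
        intro j
        obtain ⟨h1, h2, h3, h4⟩ := hstep j.succ
        rw [← Fin.succ_castSucc] at h1 h3
        exact ⟨h1, h2, h3, h4⟩)
    have hc1' : (c (Fin.succ (0 : Fin (n + 1))) : Sylow p G) = c 1 := rfl
    have hY'' : ∀ j, Y' j ∈ Cfsg.sylowMembers p 𝓕 (c 1 : Subgroup G) ∧ y' j ∈ Y' j := hY'
    have hlast'' : Cfsg.subgroupConjRight (List.ofFn y').prod (c (Fin.last (n + 1)) : Subgroup G) =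
        (c 1 : Subgroup G) := by
      rw [← Fin.succ_last]; exact hlast'
    have hA'' : ∀ j : Fin n, ∀ a ∈ A, ((List.ofFn y').take (j.val + 1)).prod⁻¹ * a *
          ((List.ofFn y').take (j.val + 1)).prod ∈ (c 1 : Subgroup G) ⊓ Y' j := hA'
    have hofn : List.ofFn (fun j : Fin n => (x 0)⁻¹ * y' j * (x 0)) =
        (List.ofFn y').map (fun z => (x 0)⁻¹ * z * (x 0)⁻¹⁻¹) := by
      rw [List.map_ofFn]
      congr 1
      funext j
      simp only [Function.comp, inv_inv]
    refine ⟨Fin.cons (X 0) (fun j => Cfsg.subgroupConjRight (x 0) (Y' j)),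
      Fin.cons (x 0) (fun j => (x 0)⁻¹ * y' j * (x 0)), ?_, ?_, ?_⟩
    · intro i
      refine Fin.cases ?_ ?_ i
      · exact ⟨hX0, hx0⟩
      · intro j
        rw [Fin.cons_succ, Fin.cons_succ]
        refine ⟨?_, ?_⟩
        · rw [← hconj0]
          exact sylowMembers_conj 𝓕 h𝓕 _ _ _ (hY'' j).1
        · rw [mem_subgroupConjRight]
          have : x 0 * ((x 0)⁻¹ * y' j * x 0) * (x 0)⁻¹ = y' j := by group
          rw [this]; exact (hY'' j).2
    · rw [List.ofFn_succ, Fin.cons_zero]
      simp only [Fin.cons_succ]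
      rw [List.prod_cons, hofn, list_prod_map_conj]
      have : x 0 * ((x 0)⁻¹ * (List.ofFn y').prod * (x 0)⁻¹⁻¹) = (List.ofFn y').prod * x 0 := by
        group
      rw [this, ← subgroupConjRight_mul, hlast'', hconj0]
    · intro i
      refine Fin.cases ?_ ?_ i
      · intro a ha
        simp only [Fin.val_zero, zero_add, List.ofFn_succ, List.take_succ_cons, List.take_zero,
          List.prod_cons, List.prod_nil, mul_one, Fin.cons_zero]
        have h2 := hA0 a ha
        refine Subgroup.mem_inf.2 ⟨?_, ?_⟩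
        · rw [← hconj0, mem_subgroupConjRight]
          have : x 0 * ((x 0)⁻¹ * a * x 0) * (x 0)⁻¹ = a := by group
          rw [this]; exact (Subgroup.mem_inf.1 h2).1
        · exact (X 0).mul_mem ((X 0).mul_mem ((X 0).inv_mem hx0) (Subgroup.mem_inf.1 h2).2) hx0
      · intro j a ha
        have h2 := hA'' j a ha
        rw [List.ofFn_succ]
        have hval : (j.succ : Fin (n + 1)).val + 1 = (j.val + 1) + 1 := by simp
        rw [hval, List.take_succ_cons, List.prod_cons, Fin.cons_zero]
        simp only [Fin.cons_succ]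
        rw [hofn, ← List.map_take, list_prod_map_conj, ← hconj0, ← subgroupConjRight_inf,
          mem_subgroupConjRight]
        have : ∀ r : G, x 0 * ((x 0 * ((x 0)⁻¹ * r * (x 0)⁻¹⁻¹))⁻¹ * a *
            (x 0 * ((x 0)⁻¹ * r * (x 0)⁻¹⁻¹))) * (x 0)⁻¹ = r⁻¹ * a * r := by
          intro r; group
        rw [this]
        exact h2

open Cfsg.Agent.helper15 in
/-- Let p be a prime dividing the order of the finite group G and 𝓕 a family of subgroups of G closed under conjugation, with conjugates taken as X^g = g⁻¹Xg. Then 𝓕 controls Sylow p-intersections in G (any two distinct Sylow p-subgroups S and T with S ∩ T ≠ 1 are joined by a chain S = S₀, S₁, …, Sₙ = T of Sylow p-subgroups where, for each i, some member Xᵢ of 𝓕 meets both S_{i-1} and Sᵢ in Sylow p-subgroups of Xᵢ, satisfies S ∩ T ≤ Sᵢ ∩ Xᵢ, and contains an element xᵢ with Sᵢ^{xᵢ} = S_{i-1}) if and only if 𝓕 strongly controls p-fusion in G (whenever A is a subset of a Sylow p-subgroup S, A contains an element other than 1, and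 A^g ⊆ S, the element g factorises as g = y₁⋯yₙy with y ∈ N_G(S) and each yᵢ in a member Yᵢ of 𝓕 that meets S in a Sylow p-subgroup of Yᵢ, with A^{y₁⋯yᵢ} ⊆ S ∩ Yᵢ for each i). -/
theorem result {G : Type*} [Group G] [Finite G] {p : ℕ} [Fact p.Prime] (hdiv : p ∣ Nat.card G) (𝓕 : Set (Subgroup G)) (h𝓕 : Cfsg.IsNormalSet 𝓕) : Cfsg.ControlsSylowIntersections p 𝓕 ↔ Cfsg.FamilyStronglyControlsFusion p 𝓕 := by
  constructor
  · intro hc S A g hAS hne hAg
    rw [conjRight_subset_iff] at hAg
    have hT : ((g • S : Sylow p G) : Subgroup G) =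
        Cfsg.subgroupConjRight g⁻¹ (S : Subgroup G) := coe_smul_sylow _ _
    by_cases h : g • S = S
    · have hg : g ∈ Subgroup.normalizer ((S : Subgroup G) : Set G) := by
        have h1 : Cfsg.subgroupConjRight g⁻¹ (S : Subgroup G) = S := by rw [← hT, h]
        have := mem_normalizer_of_subgroupConjRight_eq _ _ h1
        simpa using inv_mem this
      refine ⟨0, Fin.elim0, Fin.elim0, g, hg, fun i => i.elim0, ?_, fun i => i.elim0⟩
      simp
    · have hAT : ∀ a ∈ A, a ∈ ((g • S : Sylow p G) : Subgroup G) := by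
        intro a ha
        rw [hT, mem_subgroupConjRight, inv_inv]
        exact hAg a ha
      have hmeet : (S : Subgroup G) ⊓ ((g • S : Sylow p G) : Subgroup G) ≠ ⊥ := by
        obtain ⟨a, ha, ha1⟩ := hne
        intro hbot
        have : a ∈ (S : Subgroup G) ⊓ ((g • S : Sylow p G) : Subgroup G) :=
          Subgroup.mem_inf.2 ⟨hAS ha, hAT a ha⟩
        rw [hbot, Subgroup.mem_bot] at this
        exact ha1 this
      obtain ⟨n, c, X, x, h0, hlast, hstep⟩ := hc S (g • S) (Ne.symm h) hmeet
      obtain ⟨Y, y, hY, hprod, hA⟩ := chain_to_fact 𝓕 h𝓕 A n c X x (by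
        intro i
        obtain ⟨h1, _, h3, h4, h5⟩ := hstep i
        refine ⟨h1, h3, h4, ?_⟩
        intro a ha
        exact h5 (Subgroup.mem_inf.2 ⟨hAS ha, hAT a ha⟩))
      rw [h0] at hY hprod hA
      rw [hlast, hT, subgroupConjRight_mul] at hprod
      have hy0 : (List.ofFn y).prod⁻¹ * g ∈ Subgroup.normalizer ((S : Subgroup G) : Set G) := by
        have := inv_mem (mem_normalizer_of_subgroupConjRight_eq _ _ hprod)
        simpa [mul_inv_rev] using this
      refine ⟨n, Y, y, (List.ofFn y).prod⁻¹ * g, hy0, hY, by group, ?_⟩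
      intro i
      rw [conjRight_subset_iff]
      intro a ha
      exact hA i a ha
  · intro hf S T hne hmeet
    obtain ⟨g, hg⟩ := MulAction.exists_smul_eq G S T
    have hT : (T : Subgroup G) = Cfsg.subgroupConjRight g⁻¹ (S : Subgroup G) := by
      rw [← hg]; exact coe_smul_sylow _ _
    have hne1 : ∃ a ∈ (((S : Subgroup G) ⊓ (T : Subgroup G) : Subgroup G) : Set G), a ≠ 1 := by
      by_contra hcon
      push Not at hcon
      apply hmeet
      rw [eq_bot_iff]
      intro a ha
      exact Subgroup.mem_bot.2 (hcon a ha)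
    obtain ⟨n, Y, y, y₀, hy₀, hY, hgy, hA⟩ := hf S
      (((S : Subgroup G) ⊓ (T : Subgroup G) : Subgroup G) : Set G) g
      (fun a ha => (Subgroup.mem_inf.1 ha).1) hne1
      (by
        rw [conjRight_subset_iff]
        intro a ha
        have := (Subgroup.mem_inf.1 ha).2
        rw [hT, mem_subgroupConjRight, inv_inv] at this
        exact this)
    obtain ⟨c, X, x, h0, hlast, hstep⟩ := fact_to_chain 𝓕 h𝓕
      (((S : Subgroup G) ⊓ (T : Subgroup G) : Subgroup G) : Set G) n S Y y hY (by
        intro i a ha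
        have := hA i
        rw [conjRight_subset_iff] at this
        exact this a ha)
    refine ⟨n, c, X, x, h0, ?_, ?_⟩
    · apply Sylow.ext
      rw [hlast, hT, hgy, mul_inv_rev, ← subgroupConjRight_mul,
        subgroupConjRight_of_mem_normalizer _ _ (inv_mem hy₀)]
    · intro i
      obtain ⟨h1, h2, h3, h4, h5⟩ := hstep i
      exact ⟨h1, h2, h3, h4, fun a ha => h5 a ha⟩

end Cfsg.Agent.S2939
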