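import Cfsg.Statements.S2941
import Cfsg.Agent.Lib_helper15_Gen6
import Cfsg.Agent.Lib_helper15_ExtClosed
import Cfsg.Agent.Lib_helper3_ThompsonOf

set_option autoImplicit false
open Cfsg

namespace Cfsg.Agent.S2941

open scoped commutatorElement

/-- Let G be a finite group of characteristic 2 type in which every 2-local subgroup is solvable and the centralizer of Ω₁(Z(S)) lies in N_G(S) for every Sylow 2-subgroup S, and let T be a nontrivial 2-subgroup and K a J(T)-component (J the Thompson subgroup generated by the elementary abelian 2-subgroups of largest order). If a subgroup Q is normalized by ⟨K, J(T)⟩ and normalizes J(T), then Q normalizes K. -/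
theorem result {G : Type*} [Group G] [Finite G] (hL : Cfsg.IsCharacteristicTwoType G) (hN : ∀ N : Subgroup G, Cfsg.IsTwoLocal N → Group.IsSolvable ↥N)
    (hZ : ∀ S : Sylow 2 G, Subgroup.centralizer (Cfsg.omegaCenterOf (S : Subgroup G) : Set G) ≤ Subgroup.normalizer ((S : Subgroup G) : Set G)) (T : Subgroup G) (hT : IsPGroup 2 ↥T) (hT1 : T ≠ ⊥) (K : Subgroup G) (hK : Cfsg.IsJComponent T K)
    (Q : Subgroup G) (hQ1 : K ⊔ Cfsg.thompsonSubgroupOf 2 T ≤ Subgroup.normalizer (Q : Set G)) (hQ2 : Q ≤ Subgroup.normalizer (Cfsg.thompsonSubgroupOf 2 T : Set G)) :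
    Q ≤ Subgroup.normalizer (K : Set G) := by
  obtain ⟨hKodd, hKJ, -, -, -, -⟩ := hK
  have hJT : Cfsg.thompsonSubgroupOf 2 T ≤ T := Cfsg.Agent.helper3.thompsonSubgroupOf_le_self 2 T
  have hJp : IsPGroup 2 ↥(Cfsg.thompsonSubgroupOf 2 T) := hT.to_le hJT
  -- `J` normalizes `K`
  have hJK : Cfsg.thompsonSubgroupOf 2 T ≤ Subgroup.normalizer (K : Set G) := by
    intro j hj
    apply Cfsg.Agent.helper15.mem_normalizer_of_map_conj_le
    rintro _ ⟨k, hk, rfl⟩
    have h1 : ⁅k⁻¹, j⁆ ∈ ⁅K, Cfsg.thompsonSubgroupOf 2 T⁆ :=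
      Subgroup.commutator_mem_commutator (K.inv_mem hk) hj
    rw [hKJ] at h1
    simp only [MulEquiv.coe_toMonoidHom, MulAut.conj_apply]
    have e : j * k * j⁻¹ = k * ⁅k⁻¹, j⁆ := by rw [commutatorElement_def]; group
    rw [e]
    exact K.mul_mem hk h1
  have hXK : K ⊔ Cfsg.thompsonSubgroupOf 2 T ≤ Subgroup.normalizer (K : Set G) :=
    sup_le Subgroup.le_normalizer hJK
  -- `Q` normalizes `X = K J`
  have hQX : ∀ q ∈ Q, ∀ x ∈ K ⊔ Cfsg.thompsonSubgroupOf 2 T,
      q * x * q⁻¹ ∈ K ⊔ Cfsg.thompsonSubgroupOf 2 T := by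
    intro q hq
    have hJq : ∀ j ∈ Cfsg.thompsonSubgroupOf 2 T, q * j * q⁻¹ ∈ Cfsg.thompsonSubgroupOf 2 T :=
      fun j hj => (Subgroup.mem_normalizer_iff.1 (hQ2 hq) j).1 hj
    have hK1 : K ≤ (K ⊔ Cfsg.thompsonSubgroupOf 2 T).comap (MulAut.conj q).toMonoidHom := by
      conv_lhs => rw [← hKJ]
      rw [Subgroup.commutator_le]
      intro k hk j hj
      rw [Subgroup.mem_comap]
      simp only [MulEquiv.coe_toMonoidHom, MulAut.conj_apply]
      have hq' : k⁻¹ * q * k⁻¹⁻¹ ∈ Q :=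
        (Subgroup.mem_normalizer_iff.1 (hQ1 (le_sup_left (a := K) (K.inv_mem hk))) q).1 hq
      have hj' : (k⁻¹ * q * k⁻¹⁻¹) * j * (k⁻¹ * q * k⁻¹⁻¹)⁻¹ ∈ Cfsg.thompsonSubgroupOf 2 T :=
        (Subgroup.mem_normalizer_iff.1 (hQ2 hq') j).1 hj
      have e : q * ⁅k, j⁆ * q⁻¹ =
          (k * ((k⁻¹ * q * k⁻¹⁻¹) * j * (k⁻¹ * q * k⁻¹⁻¹)⁻¹) * k⁻¹) * (q * j⁻¹ * q⁻¹) := by
        rw [commutatorElement_def]; group
      rw [e]
      apply Subgroup.mul_mem
      · exact Subgroup.mul_mem _ (Subgroup.mul_mem _ (Subgroup.mem_sup_left hk)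
          (Subgroup.mem_sup_right hj')) (Subgroup.inv_mem _ (Subgroup.mem_sup_left hk))
      · exact Subgroup.mem_sup_right (hJq _ (Subgroup.inv_mem _ hj))
    have hJ1 : Cfsg.thompsonSubgroupOf 2 T ≤
        (K ⊔ Cfsg.thompsonSubgroupOf 2 T).comap (MulAut.conj q).toMonoidHom := by
      intro j hj
      rw [Subgroup.mem_comap]
      simp only [MulEquiv.coe_toMonoidHom, MulAut.conj_apply]
      exact Subgroup.mem_sup_right (hJq j hj)
    intro x hx
    have := (sup_le hK1 hJ1) hx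
    rw [Subgroup.mem_comap] at this
    simpa using this
  -- `|X : K|` is a power of `2`
  obtain ⟨a, ha⟩ := IsPGroup.iff_card.1 hJp
  have hXcard : Nat.card ↥(K ⊔ Cfsg.thompsonSubgroupOf 2 T) ∣ Nat.card ↥K * 2 ^ a := by
    rw [← ha]
    exact Cfsg.Agent.helper15.card_sup_dvd_of_le_normalizer K _ hJK
  -- odd-order elements of `X` lie in `K`
  have hoddK : ∀ x ∈ K ⊔ Cfsg.thompsonSubgroupOf 2 T, Odd (orderOf x) → x ∈ K := by
    intro x hx hodd
    have hxN : Subgroup.zpowers x ≤ Subgroup.normalizer (K : Set G) :=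
      (Subgroup.zpowers_le).2 (hXK hx)
    have h1 : Nat.card ↥(K ⊔ Subgroup.zpowers x) ∣ Nat.card ↥K * orderOf x := by
      rw [← Nat.card_zpowers]
      exact Cfsg.Agent.helper15.card_sup_dvd_of_le_normalizer K _ hxN
    have hYX : K ⊔ Subgroup.zpowers x ≤ K ⊔ Cfsg.thompsonSubgroupOf 2 T :=
      sup_le le_sup_left ((Subgroup.zpowers_le).2 hx)
    have h2 : Nat.card ↥(K ⊔ Subgroup.zpowers x) ∣ Nat.card ↥K * 2 ^ a :=
      (Subgroup.card_dvd_of_le hYX).trans hXcard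
    have h3 := Cfsg.Agent.helper15.card_mul_relIndex_of_le_ex K (K ⊔ Subgroup.zpowers x) le_sup_left
    have hKpos : 0 < Nat.card ↥K := Nat.card_pos
    rw [← h3] at h1 h2
    have h1' : K.relIndex (K ⊔ Subgroup.zpowers x) ∣ orderOf x :=
      Nat.dvd_of_mul_dvd_mul_left hKpos h1
    have h2' : K.relIndex (K ⊔ Subgroup.zpowers x) ∣ 2 ^ a :=
      Nat.dvd_of_mul_dvd_mul_left hKpos h2
    have hcop : Nat.Coprime (orderOf x) (2 ^ a) :=
      Nat.Coprime.pow_right a (Nat.coprime_two_right.2 hodd)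
    have h4 : K.relIndex (K ⊔ Subgroup.zpowers x) = 1 := Nat.eq_one_of_dvd_coprimes hcop h1' h2'
    have h5 : K ⊔ Subgroup.zpowers x ≤ K := Subgroup.relIndex_eq_one.1 h4
    exact h5 (Subgroup.mem_sup_right (Subgroup.mem_zpowers x))
  -- conclude
  intro q hq
  apply Cfsg.Agent.helper15.mem_normalizer_of_map_conj_le
  rw [Subgroup.map_le_iff_le_comap]
  conv_lhs => rw [← hKodd]
  rw [Subgroup.closure_le]
  rintro g ⟨hgK, hgodd⟩
  show g ∈ K.comap (MulAut.conj q).toMonoidHom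
  rw [Subgroup.mem_comap]
  simp only [MulEquiv.coe_toMonoidHom, MulAut.conj_apply]
  apply hoddK _ (hQX q hq g (Subgroup.mem_sup_left hgK))
  have : orderOf (q * g * q⁻¹) = orderOf g := by
    rw [← MulAut.conj_apply, MulEquiv.orderOf_eq]
  rw [this]; exact hgodd

end Cfsg.Agent.S2941
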