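import Cfsg.Statements.S2947
import Cfsg.Agent.Lib_helper15_Sylow
import Cfsg.Agent.Lib_helper15_ExtClosed
import Cfsg.Agent.Lib_helper15_CharP
import Cfsg.Agent.Lib_helper3_ThompsonOf

set_option autoImplicit false
open Cfsg

namespace Cfsg.Agent.S2947

/-- Let G be a finite group of characteristic 2 type in which every 2-local subgroup is solvable and the centralizer of Ω₁(Z(S)) lies in N_G(S) for every Sylow 2-subgroup S; suppose O₂(G) = 1, fix a Sylow 2-subgroup S and a 2-local subgroup M containing N_G(J(S)) (J the Thompson subgroup generated by the elementary abelian 2-subgroups of largest order). Then M is strongly embedded in G (a proper subgroup of even order whose intersection with each conjugate by an element outside M has odd order) if and only if no nontrivial 2-subgroup of M lies in a 2-local subgroup of G not contained in M. -/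
theorem result {G : Type*} [Group G] [Finite G] (hL : Cfsg.IsCharacteristicTwoType G) (hN : ∀ N : Subgroup G, Cfsg.IsTwoLocal N → Group.IsSolvable ↥N)
    (hZ : ∀ S : Sylow 2 G, Subgroup.centralizer (Cfsg.omegaCenterOf (S : Subgroup G) : Set G) ≤ Subgroup.normalizer ((S : Subgroup G) : Set G)) (hO : Cfsg.pCore 2 G = ⊥) (S : Sylow 2 G) (M : Subgroup G) (hM : Cfsg.IsTwoLocal M)
    (hMJ : Subgroup.normalizer (Cfsg.thompsonSubgroupOf 2 (S : Subgroup G) : Set G) ≤ M) :
    Cfsg.IsStronglyEmbedded M ↔ Cfsg.straddlingTwoSubgroups M = ∅ := by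
  -- nontrivial 2-groups have even order
  have heven : ∀ X : Subgroup G, IsPGroup 2 ↥X → X ≠ ⊥ → 2 ∣ Nat.card ↥X := by
    intro X hX hX1
    obtain ⟨k, hk⟩ := IsPGroup.iff_card.1 hX
    rcases Nat.eq_zero_or_pos k with rfl | hk0
    · exfalso
      apply hX1
      rw [pow_zero] at hk
      exact Subgroup.card_eq_one.1 hk
    · rw [hk]
      exact dvd_pow_self 2 hk0.ne'
  constructor
  · rintro ⟨-, -, hodd⟩
    have key1 : ∀ X : Subgroup G, X ≤ M → IsPGroup 2 ↥X → X ≠ ⊥ →
        Subgroup.normalizer (X : Set G) ≤ M := by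
      intro X hXM hX hX1 g hg
      by_contra hgM
      have h1 := hodd g hgM
      have hle : X ≤ M ⊓ M.map (MulAut.conj g).toMonoidHom := by
        intro x hx
        refine ⟨hXM hx, ?_⟩
        have hx' : g⁻¹ * x * g⁻¹⁻¹ ∈ X :=
          (Subgroup.mem_normalizer_iff.1 (Subgroup.inv_mem _ hg) x).1 hx
        refine ⟨g⁻¹ * x * g⁻¹⁻¹, hXM hx', ?_⟩
        simp only [MulEquiv.coe_toMonoidHom, MulAut.conj_apply]
        group
      have h2 : 2 ∣ Nat.card ↥(M ⊓ M.map (MulAut.conj g).toMonoidHom) :=
        (heven X hX hX1).trans (Subgroup.card_dvd_of_le hle)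
      exact (Nat.not_even_iff_odd.2 h1) (even_iff_two_dvd.2 h2)
    rw [Set.eq_empty_iff_forall_notMem]
    rintro T ⟨hT, hT1, hTM, L, ⟨Q, hQ, hQ1, rfl⟩, hTL, hLM⟩
    apply hLM
    have hPp : IsPGroup 2 ↥(T ⊔ Q) := IsPGroup.to_sup_of_normal_right' hT hQ hTL
    have hH1 : (T ⊔ Q) ⊓ M ≠ ⊥ := by
      intro h
      apply hT1
      rw [eq_bot_iff, ← h]
      exact le_inf le_sup_left hTM
    have hHp : IsPGroup 2 ↥((T ⊔ Q) ⊓ M) := hPp.to_le inf_le_left
    have hHN := key1 _ inf_le_right hHp hH1
    have heq : (T ⊔ Q) ⊓ M = T ⊔ Q := by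
      apply Cfsg.Agent.helper15.eq_of_inf_normalizer_eq _ _ hPp inf_le_left
      apply le_antisymm
      · exact le_inf inf_le_left (inf_le_right.trans hHN)
      · exact le_inf inf_le_left Subgroup.le_normalizer
    have hQM : Q ≤ M := by
      calc Q ≤ T ⊔ Q := le_sup_right
        _ = (T ⊔ Q) ⊓ M := heq.symm
        _ ≤ M := inf_le_right
    exact key1 Q hQM hQ hQ1
  · intro hemp
    obtain ⟨Q, hQ, hQ1, hMQ⟩ := hM
    have hQM : Q ≤ M := by rw [hMQ]; exact Subgroup.le_normalizer
    have hSN : (S : Subgroup G) ≤ Subgroup.normalizer ((S : Subgroup G) : Set G) :=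
      Subgroup.le_normalizer
    have hNS : Subgroup.normalizer ((S : Subgroup G) : Set G) ≤ M :=
      (Cfsg.Agent.helper3.normalizer_le_normalizer_thompsonSubgroupOf 2 (S : Subgroup G)).trans hMJ
    have hSM : (S : Subgroup G) ≤ M := hSN.trans hNS
    refine ⟨?_, ?_, ?_⟩
    · intro htop
      rw [htop] at hMQ
      have hn : Q.Normal := Subgroup.normalizer_eq_top_iff.1 hMQ.symm
      have := Cfsg.Agent.helper15.le_pCore' hn hQ
      rw [hO] at this
      exact hQ1 (eq_bot_iff.2 this)
    · exact even_iff_two_dvd.2 ((heven Q hQ hQ1).trans (Subgroup.card_dvd_of_le hQM))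
    · intro g hgM
      by_contra hodd
      have h2 : 2 ∣ Nat.card ↥(M ⊓ M.map (MulAut.conj g).toMonoidHom) :=
        even_iff_two_dvd.1 (Nat.not_odd_iff_even.1 hodd)
      obtain ⟨t, ht⟩ := exists_prime_orderOf_dvd_card' 2 h2
      have ht' : orderOf (t : G) = 2 := by rw [Subgroup.orderOf_coe]; exact ht
      have htM : (t : G) ∈ M := t.2.1
      have htMg : (t : G) ∈ M.map (MulAut.conj g).toMonoidHom := t.2.2
      have hTp : IsPGroup 2 ↥(Subgroup.zpowers (t : G)) := by
        apply IsPGroup.of_card (n := 1)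
        rw [Nat.card_zpowers, ht', pow_one]
      have hT1 : Subgroup.zpowers (t : G) ≠ ⊥ := by
        intro h
        rw [Subgroup.zpowers_eq_bot] at h
        rw [h, orderOf_one] at ht'
        omega
      have hL2 : Cfsg.IsTwoLocal (M.map (MulAut.conj g).toMonoidHom) := by
        refine ⟨Q.map (MulAut.conj g).toMonoidHom, hQ.map _, ?_, ?_⟩
        · intro h
          apply hQ1
          exact (Subgroup.map_eq_bot_iff_of_injective _ (MulAut.conj g).injective).1 h
        · rw [hMQ]
          exact Subgroup.map_equiv_normalizer_eq Q (MulAut.conj g)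
      have hLM : M.map (MulAut.conj g).toMonoidHom ≤ M := by
        by_contra hLM
        have : Subgroup.zpowers (t : G) ∈ Cfsg.straddlingTwoSubgroups M :=
          ⟨hTp, hT1, by rw [Subgroup.zpowers_le]; exact htM,
            M.map (MulAut.conj g).toMonoidHom, hL2, by rw [Subgroup.zpowers_le]; exact htMg, hLM⟩
        rw [hemp] at this
        exact this
      have hSg : (S : Subgroup G).map (MulAut.conj g).toMonoidHom ≤ M :=
        (Subgroup.map_mono hSM).trans hLM
      obtain ⟨m, hm, hmq⟩ := Cfsg.Agent.helper15.exists_conj_mem_sylow_of_le S M hSM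
        ((S : Subgroup G).map (MulAut.conj g).toMonoidHom) (S.isPGroup'.map _) hSg
      have hmg : m * g ∈ Subgroup.normalizer ((S : Subgroup G) : Set G) := by
        apply Cfsg.Agent.helper15.mem_normalizer_of_map_conj_le
        rintro _ ⟨s, hs, rfl⟩
        have := hmq (g * s * g⁻¹) ⟨s, hs, by simp⟩
        simp only [MulEquiv.coe_toMonoidHom, MulAut.conj_apply]
        have e : m * g * s * (m * g)⁻¹ = m * (g * s * g⁻¹) * m⁻¹ := by group
        rw [e]; exact this
      have hmgM : m * g ∈ M := hNS hmg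
      apply hgM
      have e : g = m⁻¹ * (m * g) := by group
      rw [e]
      exact M.mul_mem (M.inv_mem hm) hmgM

end Cfsg.Agent.S2947
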