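import Cfsg.Statements.S2955
import Cfsg.Agent.Lib_helper15_SylCtl

set_option autoImplicit false
open Cfsg

namespace Cfsg.Agent.S2955

open Cfsg.Agent.helper15 in
theorem mem_of_good {G : Type*} [Group G] [Finite G] (p : ℕ) [Fact p.Prime]
    (𝓕 : Set (Subgroup G)) (h𝓕 : Cfsg.IsNormalSet 𝓕) (S T : Subgroup G) (K : Subgroup G)
    (hK : ∀ X ∈ Cfsg.sylowMembers p 𝓕 S, X ≤ K) (k : G) (hk : k ∈ K)
    (hT : T = Cfsg.subgroupConjRight k S) (X : Subgroup G) (hX : X ∈ Cfsg.sylowMembers p 𝓕 T)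
    (x : G) (hx : x ∈ X) : x ∈ K := by
  have h1 := sylowMembers_conj 𝓕 h𝓕 T X k⁻¹ hX
  rw [hT, subgroupConjRight_mul, mul_inv_cancel, subgroupConjRight_one] at h1
  have h2 := hK _ h1
  have h3 : k * x * k⁻¹ ∈ Cfsg.subgroupConjRight k⁻¹ X := by
    rw [mem_subgroupConjRight]
    have : k⁻¹ * (k * x * k⁻¹) * k⁻¹⁻¹ = x := by group
    rw [this]; exact hx
  have h4 := h2 h3
  have : x = k⁻¹ * (k * x * k⁻¹) * k := by group
  rw [this]
  exact K.mul_mem (K.mul_mem (K.inv_mem hk) h4) hk

open Cfsg.Agent.helper15 in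
theorem good_step {G : Type*} [Group G] [Finite G] (p : ℕ) [Fact p.Prime]
    (𝓕 : Set (Subgroup G)) (h𝓕 : Cfsg.IsNormalSet 𝓕) (S T T' : Subgroup G) (K : Subgroup G)
    (hK : ∀ X ∈ Cfsg.sylowMembers p 𝓕 S, X ≤ K)
    (hgood : ∃ k ∈ K, T = Cfsg.subgroupConjRight k S)
    (X : Subgroup G) (hX : X ∈ Cfsg.sylowMembers p 𝓕 T)
    (x : G) (hx : x ∈ X) (hconj : Cfsg.subgroupConjRight x T' = T) :
    ∃ k ∈ K, T' = Cfsg.subgroupConjRight k S := by
  obtain ⟨k, hk, hT⟩ := hgood
  have hxK := mem_of_good p 𝓕 h𝓕 S T K hK k hk hT X hX x hx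
  refine ⟨k * x⁻¹, K.mul_mem hk (K.inv_mem hxK), ?_⟩
  rw [← subgroupConjRight_mul, ← hT, ← hconj, subgroupConjRight_mul, mul_inv_cancel,
    subgroupConjRight_one]

/-- Let p be a prime dividing the order of the finite group G and 𝓕 a conjugation-closed family of subgroups that controls Sylow p-intersections in G. Suppose the Sylow p-subgroups of G are chain-connected: any two of them are joined by a chain of Sylow p-subgroups, consecutive ones distinct with nontrivial intersection, all containing the intersection of the two ends (equivalently, the graph on the Sylow p-subgroups whose edges are the distinct pairs meeting nontrivially is connected). Then for every Sylow p-subgroup S, G is generated by N_G(S) together with the members of 𝓕 that meet S in a Sylow p-subgroup of themselves. -/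
theorem result {G : Type*} [Group G] [Finite G] (p : ℕ) [Fact p.Prime] (hdiv : p ∣ Nat.card G)
    (𝓕 : Set (Subgroup G)) (h𝓕 : Cfsg.IsNormalSet 𝓕) (hc : Cfsg.ControlsSylowIntersections p 𝓕)
    (hconn : Cfsg.IsSylowChainConnected p G) (S : Sylow p G) :
    (⨆ X ∈ Cfsg.sylowMembers p 𝓕 (S : Subgroup G), X) ⊔ Subgroup.normalizer ((S : Subgroup G) : Set G) = ⊤ := by
  have hK : ∀ X ∈ Cfsg.sylowMembers p 𝓕 (S : Subgroup G), X ≤
      (⨆ X ∈ Cfsg.sylowMembers p 𝓕 (S : Subgroup G), X) ⊔
        Subgroup.normalizer ((S : Subgroup G) : Set G) := by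
    intro X hX
    exact le_trans (le_iSup₂ (f := fun (X : Subgroup G)
      (_ : X ∈ Cfsg.sylowMembers p 𝓕 (S : Subgroup G)) => X) X hX) le_sup_left
  have hN : Subgroup.normalizer ((S : Subgroup G) : Set G) ≤
      (⨆ X ∈ Cfsg.sylowMembers p 𝓕 (S : Subgroup G), X) ⊔
        Subgroup.normalizer ((S : Subgroup G) : Set G) := le_sup_right
  generalize (⨆ X ∈ Cfsg.sylowMembers p 𝓕 (S : Subgroup G), X) ⊔
        Subgroup.normalizer ((S : Subgroup G) : Set G) = K at hK hN ⊢
  -- step B
  have stepB : ∀ T T' : Sylow p G, (∃ k ∈ K, (T : Subgroup G) = Cfsg.subgroupConjRight k S) →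
      T ≠ T' → (T : Subgroup G) ⊓ (T' : Subgroup G) ≠ ⊥ →
      ∃ k ∈ K, (T' : Subgroup G) = Cfsg.subgroupConjRight k S := by
    intro T T' hgood hne hmeet
    obtain ⟨n, c, X, x, h0, hlast, hstep⟩ := hc T T' hne hmeet
    have hall : ∀ i : Fin (n + 1), ∃ k ∈ K, ((c i : Sylow p G) : Subgroup G) =
        Cfsg.subgroupConjRight k S := by
      intro i
      induction i using Fin.induction with
      | zero => rw [h0]; exact hgood
      | succ i ih =>
        obtain ⟨hX1, _, hx, hconj, _⟩ := hstep i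
        exact good_step p 𝓕 h𝓕 S _ _ K hK ih (X i) hX1 (x i) hx hconj
    rw [← hlast]; exact hall _
  -- step C
  have stepC : ∀ T : Sylow p G, ∃ k ∈ K, (T : Subgroup G) = Cfsg.subgroupConjRight k S := by
    intro T
    obtain ⟨n, c, h0, hlast, _, hstep⟩ := hconn S T
    have hall : ∀ i : Fin (n + 1), ∃ k ∈ K, ((c i : Sylow p G) : Subgroup G) =
        Cfsg.subgroupConjRight k S := by
      intro i
      induction i using Fin.induction with
      | zero =>
        rw [h0]
        exact ⟨1, K.one_mem, (Cfsg.Agent.helper15.subgroupConjRight_one _).symm⟩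
      | succ i ih =>
        exact stepB _ _ ih (hstep i).1 (hstep i).2
    rw [← hlast]; exact hall _
  rw [eq_top_iff]
  intro g _
  have hT : ((g⁻¹ • S : Sylow p G) : Subgroup G) = Cfsg.subgroupConjRight g S := by
    rw [Sylow.coe_subgroup_smul]
    rfl
  obtain ⟨k, hk, hTk⟩ := stepC (g⁻¹ • S)
  rw [hT] at hTk
  have h1 : Cfsg.subgroupConjRight (g * k⁻¹) (S : Subgroup G) = S := by
    rw [← Cfsg.Agent.helper15.subgroupConjRight_mul, hTk,
      Cfsg.Agent.helper15.subgroupConjRight_mul, mul_inv_cancel,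
      Cfsg.Agent.helper15.subgroupConjRight_one]
  have h2 : g * k⁻¹ ∈ Subgroup.normalizer ((S : Subgroup G) : Set G) := by
    rw [Subgroup.mem_normalizer_iff]
    intro n
    rw [← Cfsg.Agent.helper15.mem_subgroupConjRight, h1]
  have : g = (g * k⁻¹) * k := by group
  rw [this]
  exact K.mul_mem (hN h2) hk

end Cfsg.Agent.S2955
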