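import Cfsg.Statements.S2958

set_option autoImplicit false
open Cfsg

namespace Cfsg.Agent.S2958

theorem conj_conj {G : Type*} [Group G] (X : Subgroup G) (g h : G) :
    (X.map (MulAut.conj g).toMonoidHom).map (MulAut.conj h).toMonoidHom
      = X.map (MulAut.conj (h * g)).toMonoidHom := by
  rw [Subgroup.map_map]
  congr 1
  ext x
  simp [mul_assoc]

theorem conj_le_of_mem {G : Type*} [Group G] (B : Subgroup G) (h : G) (hh : h ∈ B) :
    B.map (MulAut.conj h).toMonoidHom ≤ B := by
  rintro _ ⟨b, hb, rfl⟩
  simp only [MulEquiv.coe_toMonoidHom, MulAut.conj_apply]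
  exact B.mul_mem (B.mul_mem hh hb) (B.inv_mem hh)

/-- Let X, A, B be subgroups of a group G such that G is generated by the conjugates of X and every conjugate of X is contained in A or in B. Then A = G or B = G. -/
theorem result {G : Type*} [Group G] (X A B : Subgroup G) (hgen : (⨆ g : G, X.map (MulAut.conj g).toMonoidHom) = ⊤) (hcover : ∀ g : G, X.map (MulAut.conj g).toMonoidHom ≤ A ∨ X.map (MulAut.conj g).toMonoidHom ≤ B) : A = ⊤ ∨ B = ⊤ := by
  by_cases hB : B = ⊤
  · exact Or.inr hB
  left
  -- U: join of conjugates not inside B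
  set U : Subgroup G := ⨆ g : {g : G // ¬ X.map (MulAut.conj g).toMonoidHom ≤ B},
    X.map (MulAut.conj (g : G)).toMonoidHom with hU
  have hUA : U ≤ A := by
    refine iSup_le ?_
    rintro ⟨g, hg⟩
    rcases hcover g with h | h
    · exact h
    · exact absurd h hg
  -- conjugation by elements of any conjugate of X maps U into U
  have hconjU : ∀ k : G, ∀ h ∈ X.map (MulAut.conj k).toMonoidHom,
      U.map (MulAut.conj h).toMonoidHom ≤ U := by
    intro k h hh
    by_cases hk : X.map (MulAut.conj k).toMonoidHom ≤ B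
    · have hhB : h ∈ B := hk hh
      rw [hU, Subgroup.map_iSup]
      refine iSup_le ?_
      rintro ⟨g, hg⟩
      rw [conj_conj]
      have : ¬ X.map (MulAut.conj (h * g)).toMonoidHom ≤ B := by
        intro hle
        apply hg
        have h1 : (X.map (MulAut.conj (h * g)).toMonoidHom).map (MulAut.conj h⁻¹).toMonoidHom ≤ B :=
          le_trans (Subgroup.map_mono hle) (conj_le_of_mem B h⁻¹ (B.inv_mem hhB))
        rw [conj_conj] at h1
        simpa using h1
      exact le_iSup (fun g : {g : G // ¬ X.map (MulAut.conj g).toMonoidHom ≤ B} =>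
        X.map (MulAut.conj (g : G)).toMonoidHom) ⟨h * g, this⟩
    · have hhU : h ∈ U := by
        have : X.map (MulAut.conj k).toMonoidHom ≤ U :=
          le_iSup (fun g : {g : G // ¬ X.map (MulAut.conj g).toMonoidHom ≤ B} =>
            X.map (MulAut.conj (g : G)).toMonoidHom) ⟨k, hk⟩
        exact this hh
      exact conj_le_of_mem U h hhU
  -- hence U is normal
  have hnorm : ∀ h : G, U.map (MulAut.conj h).toMonoidHom ≤ U := by
    intro h
    have hmem : h ∈ (⨆ g : G, X.map (MulAut.conj g).toMonoidHom) := by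
      rw [hgen]; exact Subgroup.mem_top h
    refine Subgroup.iSup_induction (C := fun h => U.map (MulAut.conj h).toMonoidHom ≤ U) _ hmem ?_ ?_ ?_
    · intro k x hx
      exact hconjU k x hx
    · show U.map (MulAut.conj (1 : G)).toMonoidHom ≤ U
      rintro _ ⟨u, hu, rfl⟩
      simpa using hu
    · intro x y hx hy
      have : U.map (MulAut.conj (x * y)).toMonoidHom
          = (U.map (MulAut.conj y).toMonoidHom).map (MulAut.conj x).toMonoidHom := by
        rw [conj_conj]
      rw [this]
      exact le_trans (Subgroup.map_mono hy) hx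
  -- some conjugate is not in B
  have hex : ∃ g : G, ¬ X.map (MulAut.conj g).toMonoidHom ≤ B := by
    by_contra hcon
    push Not at hcon
    apply hB
    rw [eq_top_iff, ← hgen]
    exact iSup_le hcon
  obtain ⟨g₀, hg₀⟩ := hex
  have hg₀U : X.map (MulAut.conj g₀).toMonoidHom ≤ U :=
    le_iSup (fun g : {g : G // ¬ X.map (MulAut.conj g).toMonoidHom ≤ B} =>
      X.map (MulAut.conj (g : G)).toMonoidHom) ⟨g₀, hg₀⟩
  have hall : ∀ k : G, X.map (MulAut.conj k).toMonoidHom ≤ U := by
    intro k
    have h1 : (X.map (MulAut.conj g₀).toMonoidHom).map (MulAut.conj (k * g₀⁻¹)).toMonoidHom ≤ U :=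
      le_trans (Subgroup.map_mono hg₀U) (hnorm _)
    rw [conj_conj] at h1
    simpa using h1
  rw [eq_top_iff]
  calc ⊤ = ⨆ g : G, X.map (MulAut.conj g).toMonoidHom := hgen.symm
    _ ≤ U := iSup_le hall
    _ ≤ A := hUA

end Cfsg.Agent.S2958
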