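import Cfsg.Statements.S2960
import Cfsg.Agent.Lib_helper7_PQ
import Cfsg.Agent.Lib_helper1_Core

set_option autoImplicit false
open Cfsg

namespace Cfsg.Agent.S2960

/-- Let G be a finite group of characteristic p (C_G(O_p(G)) ≤ O_p(G)), p prime, T a Sylow p-subgroup of G and Q a normal subgroup of T with C_T(Q) ≤ Q. Then C_G(Q) ≤ Q. -/
theorem result {G : Type*} [Group G] [Finite G] {p : ℕ} [Fact p.Prime] (hG : Subgroup.centralizer (Cfsg.pCore p G : Set G) ≤ Cfsg.pCore p G) (T : Sylow p G) (Q : Subgroup G) (hQT : Q ≤ (T : Subgroup G)) (hQn : (T : Subgroup G) ≤ Subgroup.normalizer (Q : Set G)) (hC : (T : Subgroup G) ⊓ Subgroup.centralizer (Q : Set G) ≤ Q) : Subgroup.centralizer (Q : Set G) ≤ Q := by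
  have hp : p.Prime := Fact.out
  have hOn : (Cfsg.pCore p G).Normal := Cfsg.Agent.helper1.pCore_normal p
  have hOp : IsPGroup p ↥(Cfsg.pCore p G) := Cfsg.Agent.helper1.pCore_isPGroup p
  have hOT : Cfsg.pCore p G ≤ (T : Subgroup G) := Cfsg.Agent.helper1.pCore_le_sylow T
  have hQp : IsPGroup p ↥Q := T.isPGroup'.to_le hQT
  have hnormO : ∀ g : G, g ∈ Subgroup.normalizer ((Cfsg.pCore p G : Subgroup G) : Set G) := by
    intro g; rw [Subgroup.normalizer_eq_top]; trivial
  have hQcc : Q ≤ Subgroup.centralizer ((Subgroup.centralizer (Q : Set G) : Subgroup G) : Set G) := by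
    intro q hq
    rw [Subgroup.mem_centralizer_iff]
    intro c hc
    exact ((Subgroup.mem_centralizer_iff.1 hc) q hq).symm
  -- p'-elements of prime power order in C(Q) are trivial
  have hkey : ∀ q : ℕ, q.Prime → q ≠ p → ∀ x ∈ Subgroup.centralizer (Q : Set G), ∀ k : ℕ,
      x ^ q ^ k = 1 → x = 1 := by
    intro q hq hqp x hx k hk
    have h1 := Cfsg.Agent.helper7.thompson_PxQ_elt (P := Q)
      (X := Subgroup.centralizer (Q : Set G)) (U := Cfsg.pCore p G) hQp hOp hQcc
      (fun g _ => hnormO g) (fun g _ => hnormO g)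
      (by
        intro o ho
        obtain ⟨ho1, ho2⟩ := Subgroup.mem_inf.1 ho
        exact hQcc (hC (Subgroup.mem_inf.2 ⟨hOT ho1, ho2⟩)))
      hq hqp hx hk
    have h2 : x ∈ Cfsg.pCore p G := hG h1
    obtain ⟨j, hj⟩ := hOp ⟨x, h2⟩
    have hj' : x ^ p ^ j = 1 := by
      have := congrArg Subtype.val hj
      simpa using this
    have h3 : orderOf x ∣ q ^ k := orderOf_dvd_of_pow_eq_one hk
    have h4 : orderOf x ∣ p ^ j := orderOf_dvd_of_pow_eq_one hj'
    have hcop : Nat.Coprime (q ^ k) (p ^ j) :=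
      Nat.Coprime.pow _ _ ((Nat.coprime_primes hq hp).2 hqp)
    exact orderOf_eq_one_iff.1 (Nat.eq_one_of_dvd_coprimes hcop h3 h4)
  -- C(Q) is a p-group
  have hCp : IsPGroup p ↥(Subgroup.centralizer (Q : Set G)) := by
    apply IsPGroup.of_card (n := (Nat.card ↥(Subgroup.centralizer (Q : Set G))).primeFactorsList.length)
    apply Nat.eq_prime_pow_of_unique_prime_dvd Nat.card_pos.ne'
    intro q hq hqdvd
    by_contra hqp
    haveI : Fact q.Prime := ⟨hq⟩
    obtain ⟨x, hx⟩ := exists_prime_orderOf_dvd_card' q hqdvd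
    have hx1 : (x : G) = 1 := by
      apply hkey q hq hqp (x : G) x.2 1
      rw [pow_one, ← hx, ← Subgroup.orderOf_coe]
      exact pow_orderOf_eq_one _
    have : x = 1 := Subtype.ext hx1
    rw [this, orderOf_one] at hx
    exact hq.one_lt.ne hx
  -- T normalizes C(Q)
  have hTN : (T : Subgroup G) ≤
      Subgroup.normalizer ((Subgroup.centralizer (Q : Set G) : Subgroup G) : Set G) := by
    intro t ht
    apply Subgroup.mem_normalizer_fintype
    intro c hc
    have hc' : c ∈ Subgroup.centralizer (Q : Set G) := hc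
    show t * c * t⁻¹ ∈ Subgroup.centralizer (Q : Set G)
    rw [Subgroup.mem_centralizer_iff] at hc' ⊢
    intro q hq
    have htq : t⁻¹ * q * t⁻¹⁻¹ ∈ Q :=
      (Subgroup.mem_normalizer_iff.1 (inv_mem (hQn ht)) q).1 hq
    have h1 := hc' _ htq
    calc q * (t * c * t⁻¹) = t * ((t⁻¹ * q * t⁻¹⁻¹) * c) * t⁻¹ := by group
      _ = t * (c * (t⁻¹ * q * t⁻¹⁻¹)) * t⁻¹ := by rw [h1]
      _ = t * c * t⁻¹ * q := by group
  have hsup : IsPGroup p ↥((T : Subgroup G) ⊔ Subgroup.centralizer (Q : Set G)) :=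
    IsPGroup.to_sup_of_normal_right' T.isPGroup' hCp hTN
  have heq : (T : Subgroup G) ⊔ Subgroup.centralizer (Q : Set G) = T :=
    T.is_maximal' hsup le_sup_left
  have hCT : Subgroup.centralizer (Q : Set G) ≤ (T : Subgroup G) := by
    rw [← heq]; exact le_sup_right
  intro c hc
  exact hC (Subgroup.mem_inf.2 ⟨hCT hc, hc⟩)

end Cfsg.Agent.S2960
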