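import Cfsg.Statements.S2961
import Cfsg.Agent.Lib_helper15_CharP3
import Cfsg.Agent.S2960

set_option autoImplicit false
open Cfsg

namespace Cfsg.Agent.S2961

/-- Let G be a finite group of characteristic p (C_G(O_p(G)) ≤ O_p(G)), p prime, T a Sylow p-subgroup of G and Q a normal subgroup of T with C_T(Q) ≤ Q. Then every subgroup L of G containing Q has characteristic p: C_L(O_p(L)) ≤ O_p(L). -/
theorem result {G : Type*} [Group G] [Finite G] {p : ℕ} [Fact p.Prime] (hG : Subgroup.centralizer (Cfsg.pCore p G : Set G) ≤ Cfsg.pCore p G) (T : Sylow p G) (Q : Subgroup G) (hQT : Q ≤ (T : Subgroup G)) (hQn : (T : Subgroup G) ≤ Subgroup.normalizer (Q : Set G)) (hC : (T : Subgroup G) ⊓ Subgroup.centralizer (Q : Set G) ≤ Q) (L : Subgroup G) (hQL : Q ≤ L) : Subgroup.centralizer (Cfsg.pCore p ↥L : Set ↥L) ≤ Cfsg.pCore p ↥L := by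
  have hOT : Cfsg.pCore p G ≤ (T : Subgroup G) := by
    have hsup : IsPGroup p ↥((T : Subgroup G) ⊔ Cfsg.pCore p G) :=
      IsPGroup.to_sup_of_normal_right' T.isPGroup' (Cfsg.Agent.helper15.pCore_isPGroup' p)
        (by
          have := Cfsg.Agent.helper15.pCore_normal' (G := G) p
          intro t _
          rw [Subgroup.normalizer_eq_top]; trivial)
    have heq : (T : Subgroup G) ⊔ Cfsg.pCore p G = T := T.is_maximal' hsup le_sup_left
    rw [← heq]; exact le_sup_right
  exact Cfsg.Agent.helper15.isCharP_of_self_centralizing_le hG Q L (T.isPGroup'.to_le hQT)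
    (hOT.trans hQn) (Cfsg.Agent.S2960.result hG T Q hQT hQn hC) hQL

end Cfsg.Agent.S2961
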