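import Cfsg.Statements.S2963
import Mathlib

set_option autoImplicit false
open Cfsg

namespace Cfsg.Agent.S2963

/-- Let n be odd. If the symmetric group of degree n is a minimal parabolic group for the prime 2, that is, a Sylow 2-subgroup is not normal and lies in exactly one maximal subgroup, then n = 2^m + 1 for some natural number m. -/
theorem result (n : ℕ) (hn : Odd n) (h : Cfsg.IsPMinimal 2 (Equiv.Perm (Fin n))) : ∃ m : ℕ, n = 2 ^ m + 1 := by
  classical
  by_contra hne
  push Not at hne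
  haveI : Fact (Nat.Prime 2) := ⟨Nat.prime_two⟩
  obtain ⟨T⟩ := (inferInstance : Nonempty (Sylow 2 (Equiv.Perm (Fin n))))
  obtain ⟨hTn, M, ⟨hMco, hTM⟩, hMuniq⟩ := h T
  -- every proper subgroup containing `T` lies in `M`
  have hle : ∀ H : Subgroup (Equiv.Perm (Fin n)), H ≠ ⊤ → (T : Subgroup _) ≤ H → H ≤ M := by
    intro H hH hTH
    rcases eq_top_or_exists_le_coatom H with h1 | ⟨M', hM', hHM'⟩
    · exact absurd h1 hH
    · have := hMuniq M' ⟨hM', hTH.trans hHM'⟩
      rw [← this]; exact hHM'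
  -- a fixed point of `T`
  have hodd : ¬ 2 ∣ Nat.card (Fin n) := by
    rw [Nat.card_eq_fintype_card, Fintype.card_fin]
    exact hn.not_two_dvd_nat
  obtain ⟨a, ha⟩ := T.isPGroup'.nonempty_fixed_point_of_prime_not_dvd_card (Fin n) hodd
  have hfix : ∀ t ∈ (T : Subgroup (Equiv.Perm (Fin n))), t a = a := by
    intro t ht
    exact ha ⟨t, ht⟩
  -- `n ≥ 2`
  have hn1 : n ≠ 1 := by
    intro h1
    subst h1
    apply hTn
    constructor
    intro x hx g
    have : g = 1 := Subsingleton.elim _ _
    rw [this]; simpa using hx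
  obtain ⟨c, hca⟩ : ∃ c : Fin n, c ≠ a := by
    by_contra hall
    push Not at hall
    apply hn1
    have : Fintype.card (Fin n) ≤ 1 := Fintype.card_le_one_iff.2 (fun x y => by rw [hall x, hall y])
    rw [Fintype.card_fin] at this
    have hpos : 0 < n := by
      rcases hn with ⟨k, hk⟩; omega
    omega
  -- the orbit of `c`
  set Δ : Set (Fin n) := MulAction.orbit ↥(T : Subgroup (Equiv.Perm (Fin n))) c with hΔ
  have haΔ : a ∉ Δ := by
    rintro ⟨t, ht⟩
    apply hca
    have h1 : (t : Equiv.Perm (Fin n)) c = a := ht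
    have h2 : (t : Equiv.Perm (Fin n)) a = a := hfix _ t.2
    exact (t : Equiv.Perm (Fin n)).injective (h1.trans h2.symm)
  have hcΔ : c ∈ Δ := MulAction.mem_orbit_self c
  obtain ⟨k, hk⟩ := T.isPGroup'.card_orbit c
  obtain ⟨c', hc'a, hc'Δ⟩ : ∃ c' : Fin n, c' ≠ a ∧ c' ∉ Δ := by
    by_contra hall
    push Not at hall
    apply hne k
    have hΔeq : Δ = ({a}ᶜ : Set (Fin n)) := by
      ext y
      simp only [Set.mem_compl_iff, Set.mem_singleton_iff]
      constructor
      · intro hy hya; rw [hya] at hy; exact haΔ hy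
      · intro hy; exact hall y hy
    have h1 : Nat.card ↥Δ = n - 1 := by
      rw [hΔeq, Nat.card_coe_set_eq, Set.ncard_compl, Set.ncard_singleton, Nat.card_eq_fintype_card,
        Fintype.card_fin]
    rw [hk] at h1
    have hpos : 0 < n := by
      rcases hn with ⟨j, hj⟩; omega
    omega
  -- point stabilizer
  have hAle : MulAction.stabilizer (Equiv.Perm (Fin n)) a ≤ M := by
    apply hle
    · intro htop
      have : Equiv.swap a c ∈ MulAction.stabilizer (Equiv.Perm (Fin n)) a := by rw [htop]; trivial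
      rw [MulAction.mem_stabilizer_iff] at this
      have h2 : Equiv.swap a c a = a := this
      rw [Equiv.swap_apply_left] at h2
      exact hca h2
    · intro t ht
      rw [MulAction.mem_stabilizer_iff]
      exact hfix t ht
  -- set stabilizer
  let B : Subgroup (Equiv.Perm (Fin n)) :=
    { carrier := {σ | ∀ y, σ y ∈ Δ ↔ y ∈ Δ}
      mul_mem' := by
        intro σ τ hσ hτ y
        rw [Equiv.Perm.mul_apply, hσ, hτ]
      one_mem' := by intro y; rfl
      inv_mem' := by
        intro σ hσ y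
        have := hσ (σ⁻¹ y)
        have e : σ (σ⁻¹ y) = y := by
          rw [← Equiv.Perm.mul_apply, mul_inv_cancel, Equiv.Perm.one_apply]
        rw [e] at this
        exact this.symm }
  have hBmem : ∀ σ : Equiv.Perm (Fin n), σ ∈ B ↔ ∀ y, σ y ∈ Δ ↔ y ∈ Δ := fun σ => Iff.rfl
  have hBle : B ≤ M := by
    apply hle
    · intro htop
      have : Equiv.swap c c' ∈ B := by rw [htop]; trivial
      have h2 := (this c).2 hcΔ
      rw [Equiv.swap_apply_left] at h2
      exact hc'Δ h2
    · intro t ht y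
      have h1 : t y = (⟨t, ht⟩ : ↥(T : Subgroup (Equiv.Perm (Fin n)))) • y := rfl
      rw [h1, hΔ, MulAction.mem_orbit_iff, MulAction.mem_orbit_iff]
      constructor
      · rintro ⟨s, hs⟩
        refine ⟨(⟨t, ht⟩ : ↥(T : Subgroup (Equiv.Perm (Fin n))))⁻¹ * s, ?_⟩
        rw [mul_smul, hs, inv_smul_smul]
      · rintro ⟨s, hs⟩
        refine ⟨(⟨t, ht⟩ : ↥(T : Subgroup (Equiv.Perm (Fin n)))) * s, ?_⟩
        rw [mul_smul, hs]
  have hswapB : Equiv.swap a c' ∈ B := by
    intro y
    by_cases hya : y = a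
    · rw [hya, Equiv.swap_apply_left]
      exact ⟨fun h => absurd h hc'Δ, fun h => absurd h haΔ⟩
    · by_cases hyc : y = c'
      · rw [hyc, Equiv.swap_apply_right]
        exact ⟨fun h => absurd h haΔ, fun h => absurd h hc'Δ⟩
      · rw [Equiv.swap_apply_of_ne_of_ne hya hyc]
  -- all swaps lie in `M`
  have hswapA : ∀ x y : Fin n, x ≠ a → y ≠ a → Equiv.swap x y ∈ M := by
    intro x y hx hy
    apply hAle
    rw [MulAction.mem_stabilizer_iff]
    exact Equiv.swap_apply_of_ne_of_ne hx.symm hy.symm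
  have hswapa : ∀ y : Fin n, y ≠ a → Equiv.swap a y ∈ M := by
    intro y hy
    by_cases hyc : y = c'
    · rw [hyc]; exact hBle hswapB
    · have h1 := Equiv.swap_apply_apply (Equiv.swap c' y) a c'
      rw [Equiv.swap_apply_of_ne_of_ne (Ne.symm hc'a) (Ne.symm hy), Equiv.swap_apply_left] at h1
      rw [h1]
      exact M.mul_mem (M.mul_mem (hswapA c' y hc'a hy) (hBle hswapB))
        (M.inv_mem (hswapA c' y hc'a hy))
  have hall : ∀ σ : Equiv.Perm (Fin n), σ.IsSwap → σ ∈ M := by
    rintro σ ⟨x, y, hxy, rfl⟩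
    by_cases hx : x = a
    · rw [hx]
      apply hswapa
      intro hy; exact hxy (hx.trans hy.symm)
    · by_cases hy : y = a
      · rw [hy, Equiv.swap_comm]
        exact hswapa x hx
      · exact hswapA x y hx hy
  apply hMco.1
  rw [eq_top_iff, ← Equiv.Perm.closure_isSwap, Subgroup.closure_le]
  exact fun σ hσ => hall σ hσ

end Cfsg.Agent.S2963
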