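import Cfsg.Statements.S2968
import Cfsg.Agent.Lib_helper15_Isolated

set_option autoImplicit false
open Cfsg

namespace Cfsg.Agent.S2968

open Cfsg.Agent.helper15

/-- Let G be a finite group, p a prime, P a Sylow p-subgroup of G and x ∈ P an element of p-power order which is isolated in G (the only conjugate of x commuting with x is x itself). Then x lies in the centre of P, and the subgroup generated by x is both strongly closed and weakly closed in P with respect to G. -/
theorem result {G : Type*} [Group G] [Finite G] {p : ℕ} [Fact p.Prime] (P : Sylow p G) (x : G) (hxP : x ∈ (P : Subgroup G)) (hx : ∃ k : ℕ, orderOf x = p ^ k) (hiso : Cfsg.IsIsolated x) : x ∈ (P : Subgroup G) ⊓ Subgroup.centralizer ((P : Subgroup G) : Set G) ∧ Cfsg.IsStronglyClosed (Subgroup.zpowers x) (P : Subgroup G) ∧ Cfsg.IsWeaklyClosed (Subgroup.zpowers x) (P : Subgroup G) := by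
  have hcen : ∀ y ∈ (P : Subgroup G), y * x = x * y :=
    isolated_comm_of_mem_pgroup hiso (P : Subgroup G) P.2 hxP
  have hle : Subgroup.zpowers x ≤ (P : Subgroup G) := (Subgroup.zpowers_le).2 hxP
  refine ⟨Subgroup.mem_inf.2 ⟨hxP, ?_⟩, ⟨hle, ?_⟩, ⟨hle, ?_⟩⟩
  · exact (Subgroup.mem_centralizer_iff).2 (fun y hy => hcen y hy)
  · intro z hz g hgz
    obtain ⟨n, rfl⟩ := Subgroup.mem_zpowers_iff.1 hz
    set y : G := g * x * g⁻¹ with hy
    have hyn : g * x ^ n * g⁻¹ = y ^ n := by rw [hy, conj_zpow]
    rw [hyn] at hgz ⊢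
    set H : Subgroup G := Subgroup.centralizer ({y ^ n} : Set G) with hH
    have hxH : x ∈ H := by
      rw [hH, Subgroup.mem_centralizer_singleton_iff]
      exact (hcen _ hgz).symm
    have hyH : g * x * g⁻¹ ∈ H := by
      rw [hH, Subgroup.mem_centralizer_singleton_iff]
      exact ((Commute.refl y).zpow_right n).eq
    obtain ⟨h, hhH, hh⟩ := isolated_conj_in_subgroup hiso hx H hxH g hyH
    rw [hH, Subgroup.mem_centralizer_singleton_iff] at hhH
    have hyn2 : y ^ n = h * x ^ n * h⁻¹ := by rw [hy, ← hh, conj_zpow]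
    have : y ^ n = x ^ n := by
      have e : h * x ^ n = y ^ n * h := by rw [hyn2]; group
      have : h * x ^ n = h * y ^ n := by rw [e, hhH]
      exact (mul_left_cancel this).symm
    rw [this]
    exact Subgroup.zpow_mem_zpowers x n
  · intro g hg
    have hgx : g * x * g⁻¹ ∈ (P : Subgroup G) := by
      apply hg
      exact ⟨x, Subgroup.mem_zpowers x, rfl⟩
    have heq := isolated_conj_eq_of_mem_pgroup hiso (P : Subgroup G) P.2 hxP g hgx
    rw [MonoidHom.map_zpowers]
    congr 1

end Cfsg.Agent.S2968
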