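import Cfsg.Statements.S2970
import Cfsg.Agent.Lib_helper15_Isolated
import Cfsg.Agent.Lib_helper15_CyclicAut
import Mathlib.GroupTheory.Transfer

set_option autoImplicit false
open Cfsg

namespace Cfsg.Agent.S2970

open Cfsg.Agent.helper15

/-- Let G be a finite group, p a prime and x ∈ G an element of p-power order which is isolated in G. Then the image of x in any quotient G ⧸ N is isolated in G ⧸ N; and if x ≠ 1 and the Sylow p-subgroups of G are cyclic, then G has a normal p-complement. -/
theorem result {G : Type*} [Group G] [Finite G] {p : ℕ} [Fact p.Prime] (x : G) (hx : ∃ k : ℕ, orderOf x = p ^ k) (hiso : Cfsg.IsIsolated x) : (∀ (N : Subgroup G) [N.Normal], Cfsg.IsIsolated (QuotientGroup.mk x : G ⧸ N)) ∧ (x ≠ 1 → (∀ P : Sylow p G, IsCyclic ↥(P : Subgroup G)) → Cfsg.HasNormalPComplement p G) := by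
  refine ⟨?_, ?_⟩
  · intro N _ gbar hcomm
    obtain ⟨g, rfl⟩ := QuotientGroup.mk_surjective gbar
    set H : Subgroup G :=
      (Subgroup.centralizer ({(QuotientGroup.mk x : G ⧸ N)} : Set (G ⧸ N))).comap
        (QuotientGroup.mk' N) with hH
    have hxH : x ∈ H := by
      rw [hH, Subgroup.mem_comap, Subgroup.mem_centralizer_singleton_iff]
      rfl
    have hyH : g * x * g⁻¹ ∈ H := by
      rw [hH, Subgroup.mem_comap, Subgroup.mem_centralizer_singleton_iff]
      exact hcomm.eq.symm
    obtain ⟨h, hhH, hh⟩ := isolated_conj_in_subgroup hiso hx H hxH g hyH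
    rw [hH, Subgroup.mem_comap, Subgroup.mem_centralizer_singleton_iff] at hhH
    have e : (QuotientGroup.mk g : G ⧸ N) * QuotientGroup.mk x * (QuotientGroup.mk g)⁻¹
        = QuotientGroup.mk (h * x * h⁻¹) := by rw [hh]; rfl
    rw [e]
    have e2 : (QuotientGroup.mk (h * x * h⁻¹) : G ⧸ N)
        = (QuotientGroup.mk' N h) * QuotientGroup.mk x * (QuotientGroup.mk' N h)⁻¹ := rfl
    rw [e2, hhH]
    group
  · intro hx1 hcyc
    obtain ⟨P, hP⟩ := (isPGroup_zpowers_of_orderOf x hx).exists_le_sylow
    have hxP : x ∈ (P : Subgroup G) := hP (Subgroup.mem_zpowers x)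
    haveI := hcyc P
    have hNC : Subgroup.normalizer ((P : Subgroup G) : Set G)
        ≤ Subgroup.centralizer ((P : Subgroup G) : Set G) := by
      intro g hg
      set σ := (P : Subgroup G).normalizerMonoidHom ⟨g, hg⟩ with hσ
      have hfix : σ ⟨x, hxP⟩ = ⟨x, hxP⟩ := by
        apply Subtype.ext
        have := isolated_conj_eq_of_mem_pgroup hiso P P.2 hxP g
          ((Subgroup.mem_normalizer_iff.1 hg x).1 hxP)
        exact this
      have hx1' : (⟨x, hxP⟩ : ↥(P : Subgroup G)) ≠ 1 := by
        intro h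
        apply hx1
        exact congrArg Subtype.val h
      obtain ⟨k, hk⟩ := mulAut_cyclic_pgroup_pow_eq_one P.2 σ ⟨x, hxP⟩ hx1' hfix
      have hord1 : orderOf σ ∣ p ^ k := orderOf_dvd_of_pow_eq_one hk
      have hord2 : orderOf σ ∣ (Subgroup.centralizer ((P : Subgroup G) : Set G)).relIndex
          (Subgroup.normalizer ((P : Subgroup G) : Set G)) := by
        have hmem : σ ∈ (P : Subgroup G).normalizerMonoidHom.range := ⟨_, rfl⟩
        have := Subgroup.orderOf_dvd_natCard _ hmem
        rw [← Subgroup.index_ker, Subgroup.normalizerMonoidHom_ker] at this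
        exact this
      have hcop : Nat.Coprime ((Subgroup.centralizer ((P : Subgroup G) : Set G)).relIndex
          (Subgroup.normalizer ((P : Subgroup G) : Set G))) (p ^ k) := by
        apply Nat.Coprime.pow_right
        apply Nat.Coprime.coprime_dvd_left (Subgroup.relIndex_dvd_of_le_left _ P.le_centralizer)
        apply Nat.Coprime.coprime_dvd_left (Subgroup.relIndex_dvd_index_of_le P.le_normalizer)
        rw [Nat.coprime_comm, Nat.Prime.coprime_iff_not_dvd Fact.out]
        exact P.not_dvd_index
      have h1 : orderOf σ = 1 := Nat.eq_one_of_dvd_coprimes hcop hord2 hord1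
      have hσ1 : σ = 1 := orderOf_eq_one_iff.1 h1
      have hker : (⟨g, hg⟩ : ↥(Subgroup.normalizer ((P : Subgroup G) : Set G)))
          ∈ (P : Subgroup G).normalizerMonoidHom.ker := hσ1
      rw [Subgroup.normalizerMonoidHom_ker, Subgroup.mem_subgroupOf] at hker
      exact hker
    exact ⟨P, _, inferInstance, MonoidHom.ker_transferSylow_isComplement' P hNC⟩

end Cfsg.Agent.S2970
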