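import Cfsg.Statements.S2971
import Cfsg.Agent.Lib_helper15_Omega
import Cfsg.Agent.Lib_helper15_Sylow
import Cfsg.Agent.Lib_helper15_Isolated
import Cfsg.Agent.Lib_lead_Frobenius
import Cfsg.Agent.Lib_helper3_EA
import Cfsg.Agent.Lib_helper1_Core

set_option autoImplicit false
open Cfsg

namespace Cfsg.Agent.S2971

/-- In a `p`-subgroup `R` of a group of `p`-rank at most one, all elements of order dividing `p`
lie in the cyclic group generated by any nontrivial one of them. -/
theorem rank_one_mem_zpowers {G : Type*} [Group G] [Finite G] {p : ℕ} [Fact p.Prime]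
    (hrk : Cfsg.PRankLE p 1 G) (R : Subgroup G) (hR : IsPGroup p ↥R) (a y : G) (ha : a ∈ R)
    (hy : y ∈ R) (hap : a ^ p = 1) (ha1 : a ≠ 1) (hyp : y ^ p = 1) : y ∈ Subgroup.zpowers a := by
  have hp : p.Prime := Fact.out
  haveI : Nontrivial ↥R := ⟨⟨⟨a, ha⟩, 1, fun h => ha1 (congrArg Subtype.val h)⟩⟩
  -- a central element of order `p`
  haveI : Nontrivial ↥(Subgroup.center ↥R) := hR.center_nontrivial
  have hZp : IsPGroup p ↥(Subgroup.center ↥R) := hR.to_subgroup _
  have hdvd : p ∣ Nat.card ↥(Subgroup.center ↥R) := by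
    obtain ⟨k, hk⟩ := IsPGroup.iff_card.1 hZp
    rcases Nat.eq_zero_or_pos k with rfl | hk0
    · exfalso
      rw [pow_zero] at hk
      have := (Nat.card_eq_one_iff_unique.1 hk).1
      exact not_subsingleton ↥(Subgroup.center ↥R) this
    · rw [hk]; exact dvd_pow_self p hk0.ne'
  obtain ⟨z, hz⟩ := exists_prime_orderOf_dvd_card' p hdvd
  set z₀ : G := ((z : ↥R) : G) with hz₀
  have hz₀ord : orderOf z₀ = p := by
    rw [hz₀, Subgroup.orderOf_coe, Subgroup.orderOf_coe]; exact hz
  have hz₀R : z₀ ∈ R := (z : ↥R).2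
  have hz₀c : ∀ s ∈ R, s * z₀ = z₀ * s := by
    intro s hs
    have := Subgroup.mem_center_iff.1 z.2 ⟨s, hs⟩
    exact congrArg Subtype.val this
  have hz₀p : z₀ ^ p = 1 := by rw [← hz₀ord]; exact pow_orderOf_eq_one z₀
  have hcardz : Nat.card ↥(Subgroup.zpowers z₀) = p := by rw [Nat.card_zpowers, hz₀ord]
  have claim : ∀ w ∈ R, w ^ p = 1 → w ∈ Subgroup.zpowers z₀ := by
    intro w hw hwp
    have hea : Cfsg.IsElementaryAbelian p (Subgroup.zpowers z₀ ⊔ Subgroup.zpowers w) := by
      apply Cfsg.Agent.helper3.ea_sup (Cfsg.Agent.helper3.ea_zpowers z₀ hz₀p)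
        (Cfsg.Agent.helper3.ea_zpowers w hwp)
      intro u hu v hv
      have hvR : v ∈ R := ((Subgroup.zpowers_le).2 hw) hv
      have hle : Subgroup.zpowers z₀ ≤ Subgroup.centralizer ({v} : Set G) := by
        rw [Subgroup.zpowers_le, Subgroup.mem_centralizer_singleton_iff]
        exact (hz₀c v hvR).symm
      have := hle hu
      rw [Subgroup.mem_centralizer_singleton_iff] at this
      exact this
    have hcard := hrk _ hea.1 hea.2
    rw [pow_one, ← hcardz] at hcard
    have heq : Subgroup.zpowers z₀ = Subgroup.zpowers z₀ ⊔ Subgroup.zpowers w :=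
      Subgroup.eq_of_le_of_card_ge le_sup_left hcard
    rw [heq]
    exact Subgroup.mem_sup_right (Subgroup.mem_zpowers w)
  have haz : a ∈ Subgroup.zpowers z₀ := claim a ha hap
  have haord : orderOf a = p := orderOf_eq_prime hap ha1
  have heq : Subgroup.zpowers a = Subgroup.zpowers z₀ := by
    apply Subgroup.eq_of_le_of_card_ge ((Subgroup.zpowers_le).2 haz)
    rw [hcardz, Nat.card_zpowers, haord]
  rw [heq]
  exact claim y hy hyp

/-- Let G be a finite group and p an odd prime such that G has p-rank at most 1 (no elementary abelian subgroup of order p²). If x ∈ G is an isolated element of order p, then x is central modulo the largest normal subgroup of G of order prime to p. -/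
theorem result {G : Type*} [Group G] [Finite G] {p : ℕ} [Fact p.Prime] (hp : p ≠ 2) (hrk : Cfsg.PRankLE p 1 G) (x : G) (hx : orderOf x = p) (hiso : Cfsg.IsIsolated x) : Cfsg.InZStar p x := by
  have hpp : p.Prime := Fact.out
  have hxp : x ^ p = 1 := by rw [← hx]; exact pow_orderOf_eq_one x
  have hx1 : x ≠ 1 := by
    intro h
    rw [h, orderOf_one] at hx
    exact hpp.one_lt.ne hx
  have hxpg : IsPGroup p ↥(Subgroup.zpowers x) :=
    Cfsg.Agent.helper15.isPGroup_zpowers_of_orderOf x ⟨1, by rw [hx, pow_one]⟩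
  -- Frobenius' condition
  have hF : Cfsg.Agent.lead.FrobCond p G := by
    intro Q hQ g hg hcop
    apply Cfsg.Agent.helper15.centralizes_of_centralizes_omega hp Q hQ g hg hcop
    intro y hy hyp
    by_cases hy1 : y = 1
    · rw [hy1, mul_one, one_mul]
    obtain ⟨P', hQP'⟩ := hQ.exists_le_sylow
    obtain ⟨m, -, hm⟩ := Cfsg.Agent.helper15.exists_conj_mem_sylow_of_le P' ⊤ le_top
      (Subgroup.zpowers x) hxpg le_top
    set x' : G := m * x * m⁻¹ with hx'
    have hx'P : x' ∈ (P' : Subgroup G) := hm x (Subgroup.mem_zpowers x)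
    have hx'p : x' ^ p = 1 := by
      rw [hx', ← MulAut.conj_apply, ← map_pow, hxp, map_one]
    have hx'1 : x' ≠ 1 := by
      intro h
      apply hx1
      have : x = m⁻¹ * x' * m := by rw [hx']; group
      rw [this, h, mul_one, inv_mul_cancel]
    have hiso' : Cfsg.IsIsolated x' := Cfsg.Agent.helper15.isIsolated_conj hiso m
    have hyP : y ∈ (P' : Subgroup G) := hQP' hy
    have hgy : g * y * g⁻¹ ∈ (P' : Subgroup G) :=
      hQP' ((Subgroup.mem_normalizer_iff.1 hg y).1 hy)
    have hgyp : (g * y * g⁻¹) ^ p = 1 := by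
      rw [← MulAut.conj_apply, ← map_pow, hyp, map_one]
    have h1 : y ∈ Subgroup.zpowers x' :=
      rank_one_mem_zpowers hrk P' P'.isPGroup' x' y hx'P hyP hx'p hx'1 hyp
    have h2 : x' ∈ Subgroup.zpowers y :=
      rank_one_mem_zpowers hrk P' P'.isPGroup' y x' hyP hx'P hyp hy1 hx'p
    have h3 : g * y * g⁻¹ ∈ Subgroup.zpowers x' :=
      rank_one_mem_zpowers hrk P' P'.isPGroup' x' _ hx'P hgy hx'p hx'1 hgyp
    obtain ⟨k, hk⟩ := Subgroup.mem_zpowers_iff.1 h2
    have h4 : g * x' * g⁻¹ ∈ Subgroup.zpowers x' := by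
      have : g * x' * g⁻¹ = (g * y * g⁻¹) ^ k := by
        rw [← hk, ← MulAut.conj_apply, map_zpow, MulAut.conj_apply]
      rw [this]
      exact Subgroup.zpow_mem _ h3 k
    have h5 : Commute x' (g * x' * g⁻¹) := by
      obtain ⟨j, hj⟩ := Subgroup.mem_zpowers_iff.1 h4
      rw [← hj]
      exact (Commute.refl x').zpow_right j
    have h6 := hiso' g h5
    have h7 : g * x' = x' * g := by
      calc g * x' = (g * x' * g⁻¹) * g := by group
        _ = x' * g := by rw [h6]
    have hle : Subgroup.zpowers x' ≤ Subgroup.centralizer ({g} : Set G) := by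
      rw [Subgroup.zpowers_le, Subgroup.mem_centralizer_singleton_iff]
      exact h7.symm
    have := hle h1
    rw [Subgroup.mem_centralizer_singleton_iff] at this
    exact this.symm
  -- normal `p`-complement
  have hcopK := Cfsg.Agent.lead.frob_pResidual_coprime p (Nat.card G) G rfl hF
  have hKn := Cfsg.Agent.helper10.pResidual_normal p G
  have hK : Cfsg.pResidual p G ≤ Cfsg.pPrimeCore p G :=
    Cfsg.Agent.helper1.le_pPrimeCore hKn hcopK
  obtain ⟨P, hP⟩ := hxpg.exists_le_sylow
  have hxP : x ∈ (P : Subgroup G) := hP (Subgroup.mem_zpowers x)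
  have hxc := Cfsg.Agent.helper15.isolated_comm_of_mem_pgroup hiso (P : Subgroup G) P.isPGroup' hxP
  intro g
  obtain ⟨s, hs, k, hk, rfl⟩ := Cfsg.Agent.helper10.exists_mul_of_pResidual_sylow p P g
  apply hK
  have h1 : x * k⁻¹ * x⁻¹ ∈ Cfsg.pResidual p G := hKn.conj_mem _ (Subgroup.inv_mem _ hk) x
  have h2 : k * (x * k⁻¹ * x⁻¹) ∈ Cfsg.pResidual p G := Subgroup.mul_mem _ hk h1
  have h3 := hKn.conj_mem _ h2 s
  have h4 := hxc s hs
  have e : s * k * x * (s * k)⁻¹ * x⁻¹ = s * (k * (x * k⁻¹ * x⁻¹)) * s⁻¹ * (s * x * s⁻¹ * x⁻¹) := by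
    group
  have e2 : s * x * s⁻¹ * x⁻¹ = 1 := by rw [h4]; group
  rw [e, e2, mul_one]
  exact h3

end Cfsg.Agent.S2971
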