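import Cfsg.Statements.S2972
import Cfsg.Agent.Lib_helper15_ZStar
import Cfsg.Agent.Lib_helper15_Isolated
-- import your own Cfsg.Agent.* helpers here

set_option autoImplicit false
open Cfsg

namespace Cfsg.Agent.S2972

open scoped commutatorElement

theorem simple_of {G : Type*} [Group G] [Finite G] {p : ℕ} [Fact p.Prime] (x : G)
    (hx : orderOf x = p) (hiso : Cfsg.IsIsolated x) (hO : Cfsg.pPrimeCore p G = ⊥)
    (N : Subgroup G) (hNn : N.Normal) (hNne : N ≠ ⊥) (hNtop : N ⊔ Subgroup.zpowers x = ⊤)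
    (hNle : ∀ M : Subgroup G, M.Normal → M ≠ ⊥ → N ≤ M) : IsSimpleGroup ↥N := by
  have hNnt : Nontrivial ↥N := (Subgroup.nontrivial_iff_ne_bot _).mpr hNne
  refine { toNontrivial := hNnt, eq_bot_or_eq_top_of_normal := ?_ }
  intro H' hH'n
  by_cases hH'bot : H' = ⊥
  · exact Or.inl hH'bot
  right
  have hH𝓜 : H'.map N.subtype ∈ {M : Subgroup G | M ≤ N ∧ M ≠ ⊥ ∧
      N ≤ Subgroup.normalizer (M : Set G) ∧ M ≤ H'.map N.subtype} := by
    refine ⟨Subgroup.map_subtype_le _, ?_, ?_, le_rfl⟩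
    · intro hbot
      apply hH'bot
      rwa [Subgroup.map_eq_bot_iff_of_injective _ (Subgroup.subtype_injective N)] at hbot
    · intro n hn
      apply Subgroup.mem_normalizer_fintype
      rintro _ ⟨h', hh', rfl⟩
      exact ⟨⟨n, hn⟩ * h' * ⟨n, hn⟩⁻¹, hH'n.conj_mem h' hh' ⟨n, hn⟩, rfl⟩
  obtain ⟨M, hM𝓜, hMmin⟩ := Set.exists_min_image {M : Subgroup G | M ≤ N ∧ M ≠ ⊥ ∧
      N ≤ Subgroup.normalizer (M : Set G) ∧ M ≤ H'.map N.subtype} (fun M => Nat.card M)
      (Set.toFinite _) ⟨_, hH𝓜⟩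
  obtain ⟨hMN, hMne, hNM, hMH⟩ := hM𝓜
  -- a. p divides |M|
  have hpM : p ∣ Nat.card M := by
    by_contra hnd
    apply hMne
    have hMn' : (M.subgroupOf N).Normal :=
      (Subgroup.normal_subgroupOf_iff_le_normalizer hMN).mpr hNM
    have hc : (Nat.card (M.subgroupOf N)).Coprime p := by
      rw [Nat.card_congr (Subgroup.subgroupOfEquivOfLe hMN).toEquiv]
      exact ((Nat.Prime.coprime_iff_not_dvd (Fact.out : p.Prime)).mpr hnd).symm
    have hle := Cfsg.Agent.helper1.le_pPrimeCore hMn' hc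
    rw [eq_bot_iff]
    intro m hm
    have h3 := Cfsg.Agent.helper15.eq_one_of_mem_pPrimeCore_of_normal hO N hNn ⟨m, hMN hm⟩
      (hle (Subgroup.mem_subgroupOf.mpr hm))
    rw [Subgroup.mem_bot]; exact h3
  -- b. a nontrivial element of M centralized by x
  obtain ⟨u₀, hu₀⟩ := exists_prime_orderOf_dvd_card' (G := ↥M) p hpM
  have hu₀o : orderOf (u₀ : G) = p := by rw [Subgroup.orderOf_coe]; exact hu₀
  have hzu : IsPGroup p ↥(Subgroup.zpowers (u₀ : G)) :=
    Cfsg.Agent.helper15.isPGroup_zpowers_of_orderOf _ ⟨1, by rw [hu₀o, pow_one]⟩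
  have hzx : IsPGroup p ↥(Subgroup.zpowers x) :=
    Cfsg.Agent.helper15.isPGroup_zpowers_of_orderOf _ ⟨1, by rw [hx, pow_one]⟩
  obtain ⟨P', hP'⟩ := hzu.exists_le_sylow
  obtain ⟨P, hP⟩ := hzx.exists_le_sylow
  obtain ⟨g, hg⟩ := MulAction.exists_smul_eq G P P'
  have hgx : g * x * g⁻¹ ∈ (P' : Subgroup G) := by
    rw [← hg, Sylow.coe_subgroup_smul, Subgroup.mem_smul_pointwise_iff_exists]
    exact ⟨x, hP (Subgroup.mem_zpowers x), rfl⟩
  have hcomm := Cfsg.Agent.helper15.isolated_comm_of_mem_pgroup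
    (Cfsg.Agent.helper15.isIsolated_conj hiso g) (P' : Subgroup G) P'.isPGroup' hgx (u₀ : G)
    (hP' (Subgroup.mem_zpowers _))
  have hgtop : g ∈ N ⊔ Subgroup.zpowers x := by rw [hNtop]; exact Subgroup.mem_top g
  haveI := hNn
  obtain ⟨n, hn, z, hz, hnz⟩ := Subgroup.mem_sup_of_normal_left.mp hgtop
  obtain ⟨i, hi⟩ := Subgroup.mem_zpowers_iff.mp hz
  have hzx' : x ^ i * x * (x ^ i)⁻¹ = x := by
    have h3 : Commute (x ^ i) x := (Commute.refl x).zpow_left i
    calc x ^ i * x * (x ^ i)⁻¹ = x * x ^ i * (x ^ i)⁻¹ := by rw [h3.eq]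
      _ = x := by group
  have hnx : g * x * g⁻¹ = n * x * n⁻¹ := by
    rw [← hnz, ← hi]
    calc (n * x ^ i) * x * (n * x ^ i)⁻¹ = n * (x ^ i * x * (x ^ i)⁻¹) * n⁻¹ := by group
      _ = n * x * n⁻¹ := by rw [hzx']
  rw [hnx] at hcomm
  have hninv : n⁻¹ ∈ N := N.inv_mem hn
  have huM : n⁻¹ * (u₀ : G) * n ∈ M := by
    have h3 := (Subgroup.mem_normalizer_iff.mp (hNM hninv) (u₀ : G)).mp u₀.2
    rwa [inv_inv] at h3
  have hux : x * (n⁻¹ * (u₀ : G) * n) * x⁻¹ = n⁻¹ * (u₀ : G) * n := by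
    calc x * (n⁻¹ * (u₀ : G) * n) * x⁻¹ = n⁻¹ * ((n * x * n⁻¹) * (u₀ : G)) * n * x⁻¹ := by group
      _ = n⁻¹ * ((u₀ : G) * (n * x * n⁻¹)) * n * x⁻¹ := by rw [hcomm]
      _ = n⁻¹ * (u₀ : G) * n := by group
  have hune : n⁻¹ * (u₀ : G) * n ≠ 1 := by
    intro h1
    have h3 : (u₀ : G) = 1 := by
      calc (u₀ : G) = n * (n⁻¹ * (u₀ : G) * n) * n⁻¹ := by group
        _ = 1 := by rw [h1]; group
    rw [h3, orderOf_one] at hu₀o
    exact (Fact.out : p.Prime).one_lt.ne hu₀o
  -- c. the intersection with the conjugate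
  have hM'𝓜 : M ⊓ M.map (MulAut.conj x).toMonoidHom ∈ {M : Subgroup G | M ≤ N ∧ M ≠ ⊥ ∧
      N ≤ Subgroup.normalizer (M : Set G) ∧ M ≤ H'.map N.subtype} := by
    refine ⟨inf_le_left.trans hMN, ?_, ?_, inf_le_left.trans hMH⟩
    · intro hbot
      have h3 : n⁻¹ * (u₀ : G) * n ∈ M ⊓ M.map (MulAut.conj x).toMonoidHom :=
        Subgroup.mem_inf.2 ⟨huM, ⟨_, huM, hux⟩⟩
      rw [hbot, Subgroup.mem_bot] at h3
      exact hune h3
    · intro k hk
      apply Subgroup.mem_normalizer_fintype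
      intro a ha
      have ha' : a ∈ M ⊓ M.map (MulAut.conj x).toMonoidHom := ha
      obtain ⟨ha1, b, hb, hba⟩ := Subgroup.mem_inf.1 ha'
      have hba' : x * b * x⁻¹ = a := hba
      refine Subgroup.mem_inf.2 ⟨(Subgroup.mem_normalizer_iff.mp (hNM hk) a).mp ha1, ?_⟩
      have hk' : x⁻¹ * k * x ∈ N := by
        have h3 := hNn.conj_mem k hk x⁻¹
        rwa [inv_inv] at h3
      refine ⟨(x⁻¹ * k * x) * b * (x⁻¹ * k * x)⁻¹,
        (Subgroup.mem_normalizer_iff.mp (hNM hk') b).mp hb, ?_⟩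
      show x * ((x⁻¹ * k * x) * b * (x⁻¹ * k * x)⁻¹) * x⁻¹ = k * a * k⁻¹
      rw [← hba']; group
  have hcard : Nat.card M ≤ Nat.card ↥(M ⊓ M.map (MulAut.conj x).toMonoidHom) := hMmin _ hM'𝓜
  have hM'eq : M ⊓ M.map (MulAut.conj x).toMonoidHom = M :=
    Subgroup.eq_of_le_of_card_ge inf_le_left hcard
  have hMle : M ≤ M.map (MulAut.conj x).toMonoidHom := inf_eq_left.mp hM'eq
  have hMeq : M = M.map (MulAut.conj x).toMonoidHom := by
    apply Subgroup.eq_of_le_of_card_ge hMle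
    exact (Subgroup.card_map_of_injective (MulEquiv.injective _)).le
  have hxM : x ∈ Subgroup.normalizer (M : Set G) := by
    apply Subgroup.mem_normalizer_fintype
    intro a ha
    have h3 : x * a * x⁻¹ ∈ M.map (MulAut.conj x).toMonoidHom := ⟨a, ha, rfl⟩
    rw [← hMeq] at h3
    exact h3
  -- d.
  have hMn : M.Normal := by
    rw [← Subgroup.normalizer_eq_top_iff, eq_top_iff, ← hNtop]
    exact sup_le hNM (by rw [Subgroup.zpowers_le]; exact hxM)
  have hNM' : N ≤ M := hNle M hMn hMne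
  rw [eq_top_iff]
  intro k _
  have hk : (k : G) ∈ H'.map N.subtype := hMH (hNM' k.2)
  obtain ⟨h', hh', hhk⟩ := hk
  have h3 : h' = k := Subtype.ext hhk
  rwa [h3] at hh'

/-- Let G be a finite group, p a prime and x ∈ G an isolated element of order p (the only conjugate of x commuting with x is x) which is not central modulo the largest normal subgroup of order prime to p, while x is central modulo the largest normal subgroup of order prime to p in every proper subgroup containing x, and the image of x is so in every quotient of G by a nontrivial normal subgroup (a minimal counterexample to the Z*_p statement). Then the derived subgroup G' is a non-abelian simple group and G = G'⟨x⟩. -/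
theorem result {G : Type*} [Group G] [Finite G] {p : ℕ} [Fact p.Prime] (x : G) (hx : orderOf x = p) (hiso : Cfsg.IsIsolated x) (hnz : ¬ Cfsg.InZStar p x) (hmin : ∀ (H : Subgroup G) (hxH : x ∈ H), H ≠ ⊤ → Cfsg.InZStar p (⟨x, hxH⟩ : ↥H)) (hquot : ∀ (N : Subgroup G) [N.Normal], N ≠ ⊥ → Cfsg.InZStar p (QuotientGroup.mk x : G ⧸ N)) : IsSimpleGroup ↥(commutator G) ∧ ¬ IsMulCommutative ↥(commutator G) ∧ commutator G ⊔ Subgroup.zpowers x = ⊤ := by
  have hcontra : (∀ g : G, g * x * g⁻¹ = x) → False := fun h => hnz (fun g => by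
    rw [h g, mul_inv_cancel]; exact Subgroup.one_mem _)
  -- P1
  have hO : Cfsg.pPrimeCore p G = ⊥ := by
    by_contra hne
    have h1 := hquot (Cfsg.pPrimeCore p G) hne
    apply hnz
    intro g
    have h2 := h1 (QuotientGroup.mk g)
    rw [Cfsg.Agent.helper9.pPrimeCore_quotient_eq_bot, Subgroup.mem_bot] at h2
    have h3 : ((g * x * g⁻¹ * x⁻¹ : G) : G ⧸ Cfsg.pPrimeCore p G) = 1 := h2
    exact (QuotientGroup.eq_one_iff _).mp h3
  -- P3
  have hXtop : Subgroup.normalClosure ({x} : Set G) = ⊤ := by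
    by_contra hne
    have hxX : x ∈ Subgroup.normalClosure ({x} : Set G) :=
      Subgroup.subset_normalClosure (Set.mem_singleton x)
    have hXn : (Subgroup.normalClosure ({x} : Set G)).Normal := Subgroup.normalClosure_normal
    have h1 := hmin _ hxX hne
    apply hcontra
    intro g
    have hgX : g * x * g⁻¹ ∈ Subgroup.normalClosure ({x} : Set G) := hXn.conj_mem x hxX g
    have h2 := h1 ⟨g * x * g⁻¹, hgX⟩
    have h3 := Cfsg.Agent.helper15.eq_one_of_mem_pPrimeCore_of_normal hO _ hXn _ h2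
    have h4 : (g * x * g⁻¹) * x * (g * x * g⁻¹)⁻¹ * x⁻¹ = 1 := h3
    apply hiso g
    show x * (g * x * g⁻¹) = (g * x * g⁻¹) * x
    have h5 : (g * x * g⁻¹) * x = x * (g * x * g⁻¹) := by
      calc (g * x * g⁻¹) * x
          = ((g * x * g⁻¹) * x * (g * x * g⁻¹)⁻¹ * x⁻¹) * (x * (g * x * g⁻¹)) := by group
        _ = x * (g * x * g⁻¹) := by rw [h4, one_mul]
    exact h5.symm
  -- P4
  have hZ : Subgroup.center G = ⊥ := by
    by_contra hne
    have h1 := hquot (Subgroup.center G) hne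
    have h0 := Cfsg.Agent.helper15.pPrimeCore_quotient_central_eq_bot hO (Subgroup.center G) le_rfl
    apply hcontra
    intro g
    have h2 := h1 (QuotientGroup.mk g)
    rw [h0, Subgroup.mem_bot] at h2
    have h3 : ((g * x * g⁻¹ * x⁻¹ : G) : G ⧸ Subgroup.center G) = 1 := h2
    have h4 : g * x * g⁻¹ * x⁻¹ ∈ Subgroup.center G := (QuotientGroup.eq_one_iff _).mp h3
    rw [Subgroup.mem_center_iff] at h4
    apply hiso g
    show x * (g * x * g⁻¹) = (g * x * g⁻¹) * x
    have h5 := h4 x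
    calc x * (g * x * g⁻¹) = x * (g * x * g⁻¹ * x⁻¹) * x := by group
      _ = (g * x * g⁻¹ * x⁻¹) * x * x := by rw [h5]
      _ = (g * x * g⁻¹) * x := by group
  -- P5
  have hstar : ∀ M : Subgroup G, M.Normal → M ≠ ⊥ → M ⊔ Subgroup.zpowers x = ⊤ := by
    intro M hMn hMne
    by_contra hH
    have hxH : x ∈ M ⊔ Subgroup.zpowers x :=
      (le_sup_right : Subgroup.zpowers x ≤ _) (Subgroup.mem_zpowers x)
    have hMH : M ≤ M ⊔ Subgroup.zpowers x := le_sup_left
    have h1 := hmin _ hxH hH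
    have hMx : ∀ m ∈ M, m * x * m⁻¹ * x⁻¹ = 1 := by
      intro m hm
      have hcM : m * x * m⁻¹ * x⁻¹ ∈ M := by
        have h3 : x * m⁻¹ * x⁻¹ ∈ M := hMn.conj_mem _ (M.inv_mem hm) x
        have e : m * x * m⁻¹ * x⁻¹ = m * (x * m⁻¹ * x⁻¹) := by group
        rw [e]; exact M.mul_mem hm h3
      have h2 := h1 ⟨m, hMH hm⟩
      have hVn : ((Cfsg.pPrimeCore p ↥(M ⊔ Subgroup.zpowers x)).comap
          (Subgroup.inclusion hMH)).Normal :=
        (Cfsg.Agent.helper1.pPrimeCore_normal p).comap _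
      have hVc : (Nat.card ((Cfsg.pPrimeCore p ↥(M ⊔ Subgroup.zpowers x)).comap
          (Subgroup.inclusion hMH))).Coprime p :=
        Nat.Coprime.coprime_dvd_left (Subgroup.card_comap_dvd_of_injective _ _
          (Subgroup.inclusion_injective hMH)) (Cfsg.Agent.helper1.pPrimeCore_coprime p)
      have hVle := Cfsg.Agent.helper1.le_pPrimeCore hVn hVc
      have h3 : (⟨m * x * m⁻¹ * x⁻¹, hcM⟩ : ↥M) ∈
          (Cfsg.pPrimeCore p ↥(M ⊔ Subgroup.zpowers x)).comap (Subgroup.inclusion hMH) := by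
        rw [Subgroup.mem_comap]
        exact h2
      exact Cfsg.Agent.helper15.eq_one_of_mem_pPrimeCore_of_normal hO M hMn _ (hVle h3)
    apply hMne
    rw [eq_bot_iff]
    intro m hm
    have hmc : m ∈ Subgroup.center G := by
      have hle : Subgroup.normalClosure ({x} : Set G) ≤ Subgroup.centralizer ({m} : Set G) := by
        unfold Subgroup.normalClosure
        rw [Subgroup.closure_le]
        intro y hy
        rw [Group.mem_conjugatesOfSet_iff] at hy
        obtain ⟨a, ha, hconj⟩ := hy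
        rw [Set.mem_singleton_iff] at ha
        rw [isConj_iff] at hconj
        obtain ⟨c, hc⟩ := hconj
        rw [ha] at hc
        rw [SetLike.mem_coe, Subgroup.mem_centralizer_singleton_iff, ← hc]
        have hm' : c⁻¹ * m * c ∈ M := by
          have h3 := hMn.conj_mem m hm c⁻¹
          rwa [inv_inv] at h3
        have h4 := hMx _ hm'
        have h5 : (c⁻¹ * m * c) * x = x * (c⁻¹ * m * c) := by
          calc (c⁻¹ * m * c) * x
              = ((c⁻¹ * m * c) * x * (c⁻¹ * m * c)⁻¹ * x⁻¹) * (x * (c⁻¹ * m * c)) := by group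
            _ = x * (c⁻¹ * m * c) := by rw [h4, one_mul]
        calc c * x * c⁻¹ * m = c * (x * (c⁻¹ * m * c)) * c⁻¹ := by group
          _ = c * ((c⁻¹ * m * c) * x) * c⁻¹ := by rw [h5]
          _ = m * (c * x * c⁻¹) := by group
      rw [hXtop] at hle
      rw [Subgroup.mem_center_iff]
      intro g
      have h3 := hle (Subgroup.mem_top g)
      exact Subgroup.mem_centralizer_singleton_iff.mp h3
    rwa [hZ] at hmc
  -- P6
  have hNne : commutator G ≠ ⊥ := by
    intro hbot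
    apply hcontra
    intro g
    have h1 : ⁅g, x⁆ ∈ commutator G := by
      rw [commutator_def]
      exact Subgroup.commutator_mem_commutator (Subgroup.mem_top g) (Subgroup.mem_top x)
    rw [hbot, Subgroup.mem_bot, commutatorElement_def] at h1
    calc g * x * g⁻¹ = (g * x * g⁻¹ * x⁻¹) * x := by group
      _ = x := by rw [h1, one_mul]
  have hNn : (commutator G).Normal := inferInstance
  have hNtop : commutator G ⊔ Subgroup.zpowers x = ⊤ := hstar _ hNn hNne
  -- P7
  have hNle : ∀ M : Subgroup G, M.Normal → M ≠ ⊥ → commutator G ≤ M := by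
    intro M hMn hMne
    have htop := hstar M hMn hMne
    rw [commutator_def, Subgroup.commutator_le]
    intro g₁ _ g₂ _
    have hg₁ : g₁ ∈ M ⊔ Subgroup.zpowers x := by rw [htop]; exact Subgroup.mem_top _
    have hg₂ : g₂ ∈ M ⊔ Subgroup.zpowers x := by rw [htop]; exact Subgroup.mem_top _
    haveI := hMn
    obtain ⟨m₁, hm₁, z₁, hz₁, rfl⟩ := Subgroup.mem_sup_of_normal_left.mp hg₁
    obtain ⟨m₂, hm₂, z₂, hz₂, rfl⟩ := Subgroup.mem_sup_of_normal_left.mp hg₂
    obtain ⟨i, rfl⟩ := Subgroup.mem_zpowers_iff.mp hz₁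
    obtain ⟨j, rfl⟩ := Subgroup.mem_zpowers_iff.mp hz₂
    apply (QuotientGroup.eq_one_iff _).mp
    have e1 : ((m₁ : G) : G ⧸ M) = 1 := (QuotientGroup.eq_one_iff m₁).mpr hm₁
    have e2 : ((m₂ : G) : G ⧸ M) = 1 := (QuotientGroup.eq_one_iff m₂).mpr hm₂
    have hc : x ^ i * x ^ j = x ^ j * x ^ i := ((Commute.refl x).zpow_zpow i j).eq
    have hc' : ((x ^ i : G) : G ⧸ M) * ((x ^ j : G) : G ⧸ M) =
        ((x ^ j : G) : G ⧸ M) * ((x ^ i : G) : G ⧸ M) := by
      rw [← QuotientGroup.mk_mul, hc, QuotientGroup.mk_mul]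
    rw [commutatorElement_def]
    simp only [QuotientGroup.mk_mul, QuotientGroup.mk_inv, e1, e2, one_mul]
    rw [hc']
    group
  have hsimple : IsSimpleGroup ↥(commutator G) :=
    simple_of x hx hiso hO (commutator G) hNn hNne hNtop hNle
  refine ⟨hsimple, ?_, hNtop⟩
  -- P9
  intro hc
  obtain ⟨PN⟩ : Nonempty (Sylow p ↥(commutator G)) := inferInstance
  have hPNn : (PN : Subgroup ↥(commutator G)).Normal := by
    constructor
    intro a ha b
    have hba : b * a = a * b := hc.is_comm.comm b a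
    have h3 : b * a * b⁻¹ = a := by rw [hba]; group
    rw [h3]; exact ha
  rcases hsimple.eq_bot_or_eq_top_of_normal _ hPNn with hbot | htop
  · have hnd : ¬ p ∣ Nat.card ↥(commutator G) := fun hd => PN.ne_bot_of_dvd_card hd hbot
    have hle := Cfsg.Agent.helper1.le_pPrimeCore hNn
      ((Nat.Prime.coprime_iff_not_dvd (Fact.out : p.Prime)).mpr hnd).symm
    rw [hO] at hle
    exact hNne (le_bot_iff.mp hle)
  · have hNp : IsPGroup p ↥(commutator G) := by
      intro a
      have ha : a ∈ (PN : Subgroup ↥(commutator G)) := by rw [htop]; exact Subgroup.mem_top a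
      obtain ⟨k, hk⟩ := PN.isPGroup' ⟨a, ha⟩
      refine ⟨k, ?_⟩
      have h3 := congrArg Subtype.val hk
      rw [Subgroup.coe_pow, Subgroup.coe_one] at h3
      exact h3
    have hzx : IsPGroup p ↥(Subgroup.zpowers x) :=
      Cfsg.Agent.helper15.isPGroup_zpowers_of_orderOf _ ⟨1, by rw [hx, pow_one]⟩
    have hGp : IsPGroup p ↥(commutator G ⊔ Subgroup.zpowers x) := hNp.to_sup_of_normal_left hzx
    rw [hNtop] at hGp
    apply hcontra
    intro g
    have h3 := Cfsg.Agent.helper15.isolated_comm_of_mem_pgroup hiso ⊤ hGp (Subgroup.mem_top x)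
      (g * x * g⁻¹) (Subgroup.mem_top _)
    exact hiso g h3.symm

end Cfsg.Agent.S2972
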