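import Cfsg.Statements.S2975
import Cfsg.Agent.Lib_helper15_Isolated
import Cfsg.Agent.Lib_helper15_ExtClosed
import Cfsg.Agent.Lib_helper15_Gen6
import Cfsg.Agent.Lib_helper1_Core
import Cfsg.Agent.Lib_lead_Coprime4

set_option autoImplicit false
open Cfsg

namespace Cfsg.Agent.S2975

open Cfsg.Agent.helper15

/-- Part (2): transitivity of `C_G(x)` on the `x`-invariant Sylow subgroups. -/
theorem part2 {G : Type*} [Group G] [Finite G] {p : ℕ} [Fact p.Prime] (x : G) (hx : orderOf x = p)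
    (hiso : Cfsg.IsIsolated x) (q : ℕ) [Fact q.Prime] (S₁ S₂ : Sylow q G)
    (h1 : x ∈ Subgroup.normalizer ((S₁ : Subgroup G) : Set G))
    (h2 : x ∈ Subgroup.normalizer ((S₂ : Subgroup G) : Set G)) :
    ∃ c ∈ Subgroup.centralizer ({x} : Set G),
      (S₁ : Subgroup G).map (MulAut.conj c).toMonoidHom = (S₂ : Subgroup G) := by
  obtain ⟨g, hg⟩ := MulAction.exists_smul_eq G S₁ S₂
  have h1' : x • S₁ = S₁ := Sylow.smul_eq_iff_mem_normalizer.2 h1
  have h2' : x • S₂ = S₂ := Sylow.smul_eq_iff_mem_normalizer.2 h2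
  have h3 : (g⁻¹ * x * g⁻¹⁻¹) • S₁ = S₁ := by
    rw [inv_inv, mul_smul, mul_smul, hg, h2', ← hg, inv_smul_smul]
  have h3' : g⁻¹ * x * g⁻¹⁻¹ ∈ Subgroup.normalizer ((S₁ : Subgroup G) : Set G) :=
    Sylow.smul_eq_iff_mem_normalizer.1 h3
  obtain ⟨h, hh, hhx⟩ := isolated_conj_in_subgroup hiso ⟨1, by rw [hx, pow_one]⟩
    (Subgroup.normalizer ((S₁ : Subgroup G) : Set G)) h1 g⁻¹ h3'
  refine ⟨g * h, ?_, ?_⟩
  · rw [Subgroup.mem_centralizer_singleton_iff]
    have e : g * h * x = g * (h * x * h⁻¹) * h := by group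
    rw [e, hhx]
    group
  · have h4 : h • S₁ = S₁ := Sylow.smul_eq_iff_mem_normalizer.2 hh
    have h5 : (g * h) • S₁ = S₂ := by rw [mul_smul, h4, hg]
    rw [← h5]
    rfl


/-- Part (1): maximal `x`-invariant `q`-subgroups are trivial or Sylow. -/
theorem part1 {G : Type*} [Group G] [Finite G] {p : ℕ} [Fact p.Prime] (x : G) (hx : orderOf x = p)
    (hnz : ¬ Cfsg.InZStar p x)
    (hmin : ∀ (H : Subgroup G) (hxH : x ∈ H), H ≠ ⊤ → Cfsg.InZStar p (⟨x, hxH⟩ : ↥H))
    (hquot : ∀ (N : Subgroup G) [N.Normal], N ≠ ⊥ → Cfsg.InZStar p (QuotientGroup.mk x : G ⧸ N))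
    (q : ℕ) [Fact q.Prime] (Q : Subgroup G) (hQ : IsPGroup q ↥Q)
    (hxQ : x ∈ Subgroup.normalizer (Q : Set G))
    (hmax : ∀ R : Subgroup G, IsPGroup q ↥R → x ∈ Subgroup.normalizer (R : Set G) → Q ≤ R → R = Q) :
    Q = ⊥ ∨ ∃ S : Sylow q G, (S : Subgroup G) = Q := by
  by_cases hQb : Q = ⊥
  · exact Or.inl hQb
  right
  obtain ⟨S, hQS⟩ := hQ.exists_le_sylow
  refine ⟨S, ?_⟩
  by_cases hqp : q = p
  · subst hqp
    have hX : IsPGroup q ↥(Subgroup.zpowers x) :=
      isPGroup_zpowers_of_orderOf x ⟨1, by rw [hx, pow_one]⟩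
    have hXN : Subgroup.zpowers x ≤ Subgroup.normalizer (Q : Set G) := Subgroup.zpowers_le.2 hxQ
    have hQX : IsPGroup q ↥(Q ⊔ Subgroup.zpowers x) := IsPGroup.to_sup_of_normal_left' hQ hX hXN
    have hxs : x ∈ Q ⊔ Subgroup.zpowers x := Subgroup.mem_sup_right (Subgroup.mem_zpowers x)
    have h1 := hmax _ hQX (Subgroup.le_normalizer hxs) le_sup_left
    have hxQ' : x ∈ Q := by rw [← h1]; exact hxs
    exact hmax _ S.2 (Subgroup.le_normalizer (hQS hxQ')) hQS
  · have hqpc : Nat.Coprime q p := (Nat.coprime_primes Fact.out Fact.out).2 hqp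
    set N := Subgroup.normalizer (Q : Set G) with hN
    have hNtop : N ≠ ⊤ := by
      intro htop
      haveI hQn : Q.Normal := Subgroup.normalizer_eq_top_iff.1 htop
      have hz := hquot Q hQb
      apply hnz
      set K := (Cfsg.pPrimeCore p (G ⧸ Q)).comap (QuotientGroup.mk' Q) with hK
      have hKn : K.Normal := (Cfsg.Agent.helper1.pPrimeCore_normal p).comap _
      have hQK : Q ≤ K := by
        intro y hy
        show QuotientGroup.mk' Q y ∈ Cfsg.pPrimeCore p (G ⧸ Q)
        have : QuotientGroup.mk' Q y = 1 := (QuotientGroup.eq_one_iff y).2 hy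
        rw [this]; exact Subgroup.one_mem _
      have hKc : (Nat.card K).Coprime p := by
        rw [← card_mul_relIndex_of_le_ex Q K hQK]
        apply Nat.Coprime.mul_left
        · obtain ⟨k, hk⟩ := IsPGroup.iff_card.1 hQ
          rw [hk]
          exact Nat.Coprime.pow_left _ hqpc
        · have e : Q = (⊥ : Subgroup (G ⧸ Q)).comap (QuotientGroup.mk' Q) := by
            rw [MonoidHom.comap_bot, QuotientGroup.ker_mk']
          have e2 : Q.relIndex K = Nat.card (Cfsg.pPrimeCore p (G ⧸ Q)) := by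
            conv_lhs => rw [e]
            rw [Subgroup.relIndex_comap, Subgroup.relIndex_bot_left, hK,
              Subgroup.map_comap_eq_self_of_surjective (QuotientGroup.mk'_surjective Q)]
          rw [e2]
          exact Cfsg.Agent.helper1.pPrimeCore_coprime p
      intro g
      apply Cfsg.Agent.helper1.le_pPrimeCore hKn hKc
      rw [hK, Subgroup.mem_comap]
      simpa using hz (QuotientGroup.mk g)
    have hxN : x ∈ N := hxQ
    have hz := hmin N hxN hNtop
    set K : Subgroup G := (Cfsg.pPrimeCore p ↥N).map N.subtype with hK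
    have hKc : (Nat.card K).Coprime p := by
      rw [hK, Subgroup.card_map_of_injective N.subtype_injective]
      exact Cfsg.Agent.helper1.pPrimeCore_coprime p
    have hKN : K ≤ N := Subgroup.map_subtype_le _
    have hNK : N ≤ Subgroup.normalizer (K : Set G) := by
      intro n hn
      apply mem_normalizer_of_map_conj_le
      rintro _ ⟨_, ⟨k, hk, rfl⟩, rfl⟩
      have hn' : (Cfsg.pPrimeCore p ↥N).Normal := Cfsg.Agent.helper1.pPrimeCore_normal p
      refine ⟨(⟨n, hn⟩ : ↥N) * k * (⟨n, hn⟩ : ↥N)⁻¹, hn'.conj_mem k hk _, ?_⟩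
      simp
    have hcomm : ∀ n ∈ N, n * x * n⁻¹ * x⁻¹ ∈ K := by
      intro n hn
      have := hz ⟨n, hn⟩
      exact ⟨_, this, by simp⟩
    set Q₁ : Subgroup G := (S : Subgroup G) ⊓ N with hQ₁
    have hQ₁q : IsPGroup q ↥Q₁ := S.2.to_le inf_le_left
    have hQQ₁ : Q ≤ Q₁ := le_inf hQS Subgroup.le_normalizer
    set X₂ : Subgroup G := K ⊔ Q₁ with hX₂
    have hX₂c : (Nat.card X₂).Coprime p := by
      have hd := card_sup_dvd_of_le_normalizer K Q₁ (inf_le_right.trans hNK)
      apply Nat.Coprime.coprime_dvd_left hd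
      apply Nat.Coprime.mul_left hKc
      obtain ⟨k, hk⟩ := IsPGroup.iff_card.1 hQ₁q
      rw [hk]
      exact Nat.Coprime.pow_left _ hqpc
    have hxX₂ : x ∈ Subgroup.normalizer (X₂ : Set G) := by
      apply mem_normalizer_of_map_conj_le
      rw [hX₂, Subgroup.map_sup]
      apply sup_le
      · rintro _ ⟨k, hk, rfl⟩
        simp only [MulEquiv.coe_toMonoidHom, MulAut.conj_apply]
        exact Subgroup.mem_sup_left ((Subgroup.mem_normalizer_iff.1 (hNK hxN) k).1 hk)
      · rintro _ ⟨w, hw, rfl⟩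
        simp only [MulEquiv.coe_toMonoidHom, MulAut.conj_apply]
        have hwN : w ∈ N := (Subgroup.mem_inf.1 hw).2
        have h1 := hcomm w hwN
        have h2 : x * w * x⁻¹ = (w * x * w⁻¹ * x⁻¹)⁻¹ * w := by group
        rw [h2]
        exact Subgroup.mul_mem _ (Subgroup.mem_sup_left (K.inv_mem h1)) (Subgroup.mem_sup_right hw)
    have hA : Subgroup.zpowers x ≤ Subgroup.normalizer (X₂ : Set G) := Subgroup.zpowers_le.2 hxX₂
    have hcop : (Nat.card (Subgroup.zpowers x)).Coprime (Nat.card X₂) := by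
      rw [Nat.card_zpowers, hx]; exact hX₂c.symm
    have hsolv : Group.IsSolvable ↥(Subgroup.zpowers x) := by
      haveI : IsMulCommutative ↥(Subgroup.zpowers x) := inferInstance
      exact inferInstance
    obtain ⟨V, hQV, hVX, hVc, hVA⟩ := Cfsg.Agent.lead.invariant_pgroup_le_invariant_sylow
      (Subgroup.zpowers x) X₂ hA hcop (Or.inl hsolv) q Q (hQQ₁.trans le_sup_right) hQ
      (Subgroup.zpowers_le.2 hxQ)
    have hVq : IsPGroup q ↥V := IsPGroup.of_card hVc
    have hVQ : V = Q := hmax V hVq (hVA (Subgroup.mem_zpowers x)) hQV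
    have hle : Nat.card Q₁ ≤ Nat.card Q := by
      rw [← hVQ, hVc]
      obtain ⟨k, hk⟩ := IsPGroup.iff_card.1 hQ₁q
      rw [hk]
      apply Nat.pow_le_pow_right (Fact.out : q.Prime).pos
      have hd : q ^ k ∣ Nat.card X₂ := by rw [← hk]; exact Subgroup.card_dvd_of_le le_sup_right
      exact (Nat.Prime.pow_dvd_iff_le_factorization Fact.out Nat.card_pos.ne').1 hd
    have hQ₁Q : Q₁ = Q := (Subgroup.eq_of_le_of_card_ge hQQ₁ hle).symm
    exact (eq_of_inf_normalizer_eq Q S S.2 hQS hQ₁Q).symm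


/-- Let G be a finite group, p a prime and x ∈ G an isolated element of order p (the only conjugate of x commuting with x is x) which is not central modulo the largest normal subgroup of order prime to p, while x is central modulo the largest normal subgroup of order prime to p in every proper subgroup containing x, and the image of x is so in every quotient of G by a nontrivial normal subgroup (a minimal counterexample to the Z*_p statement). Then for every prime q, every q-subgroup of G that is normalized by x and maximal among the q-subgroups normalized by x is either trivial or a Sylow q-subgroup of G; and C_G(x) permutes the x-invariant Sylow q-subgroups of G transitively by conjugation. -/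
theorem result {G : Type*} [Group G] [Finite G] {p : ℕ} [Fact p.Prime] (x : G) (hx : orderOf x = p) (hiso : Cfsg.IsIsolated x) (hnz : ¬ Cfsg.InZStar p x) (hmin : ∀ (H : Subgroup G) (hxH : x ∈ H), H ≠ ⊤ → Cfsg.InZStar p (⟨x, hxH⟩ : ↥H)) (hquot : ∀ (N : Subgroup G) [N.Normal], N ≠ ⊥ → Cfsg.InZStar p (QuotientGroup.mk x : G ⧸ N)) (q : ℕ) [Fact q.Prime] : (∀ Q : Subgroup G, IsPGroup q ↥Q → x ∈ Subgroup.normalizer (Q : Set G) → (∀ R : Subgroup G, IsPGroup q ↥R → x ∈ Subgroup.normalizer (R : Set G) → Q ≤ R → R = Q) → Q = ⊥ ∨ ∃ S : Sylow q G, (S : Subgroup G) = Q) ∧ (∀ S₁ S₂ : Sylow q G, x ∈ Subgroup.normalizer ((S₁ : Subgroup G) : Set G) → x ∈ Subgroup.normalizer ((S₂ : Subgroup G) : Set G) → ∃ c ∈ Subgroup.centralizer ({x} : Set G), (S₁ : Subgroup G).map (MulAut.conj c).toMonoidHom = (S₂ : Subgroup G)) := by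
  exact ⟨fun Q hQ hxQ hmax => part1 x hx hnz hmin hquot q Q hQ hxQ hmax,
    fun S₁ S₂ h1 h2 => part2 x hx hiso q S₁ S₂ h1 h2⟩

end Cfsg.Agent.S2975
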