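import Cfsg.Statements.S2998
import Cfsg.Agent.Lib_helper15_Sylow

set_option autoImplicit false
open Cfsg

namespace Cfsg.Agent.S2998

open Cfsg.Agent.helper15

/-- Let G be a finite group, p a prime, P a Sylow p-subgroup of G and x ∈ P an element such that N_G(R) ≤ C_G(x) for every nontrivial subgroup R of P. Then P ≤ C_G(x); every G-conjugate of x lying in P equals x (so g ∈ C_G(x) whenever g x g⁻¹ ∈ P); and for every normal subgroup N of G, the image of x in G ⧸ N has the same property with respect to the image of P: the normalizer of every nontrivial subgroup of the image of P centralizes the image of x. -/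
theorem result {G : Type*} [Group G] [Finite G] {p : ℕ} [Fact p.Prime] (P : Sylow p G) (x : G) (hxP : x ∈ (P : Subgroup G)) (hlc : ∀ R : Subgroup G, R ≤ (P : Subgroup G) → R ≠ ⊥ → Subgroup.normalizer (R : Set G) ≤ Subgroup.centralizer ({x} : Set G)) : (P : Subgroup G) ≤ Subgroup.centralizer ({x} : Set G) ∧ (∀ g : G, g * x * g⁻¹ ∈ (P : Subgroup G) → g * x * g⁻¹ = x) ∧ ∀ (N : Subgroup G) [N.Normal], ∀ R : Subgroup (G ⧸ N), R ≤ (P : Subgroup G).map (QuotientGroup.mk' N) → R ≠ ⊥ → Subgroup.normalizer (R : Set (G ⧸ N)) ≤ Subgroup.centralizer ({(QuotientGroup.mk x : G ⧸ N)} : Set (G ⧸ N)) := by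
  have ha : (P : Subgroup G) ≤ Subgroup.centralizer ({x} : Set G) := by
    by_cases hbot : (P : Subgroup G) = ⊥
    · rw [hbot]; exact bot_le
    · exact (Subgroup.le_normalizer).trans (hlc _ le_rfl hbot)
  have hb : ∀ g : G, g * x * g⁻¹ ∈ (P : Subgroup G) → g * x * g⁻¹ = x := by
    intro g hy
    by_cases hx1 : x = 1
    · rw [hx1]; group
    have hPbot : (P : Subgroup G) ≠ ⊥ := by
      intro h
      rw [h, Subgroup.mem_bot] at hxP
      exact hx1 hxP
    set y := g * x * g⁻¹ with hy_def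
    have hy1 : y ≠ 1 := by
      intro h
      apply hx1
      have : x = g⁻¹ * y * g := by rw [hy_def]; group
      rw [this, h]; group
    have hYle : Subgroup.zpowers y ≤ (P : Subgroup G) := Subgroup.zpowers_le.2 hy
    have hYbot : Subgroup.zpowers y ≠ ⊥ := Subgroup.zpowers_ne_bot.2 hy1
    have hCy : Subgroup.centralizer ({y} : Set G) ≤ Subgroup.centralizer ({x} : Set G) := by
      intro w hw
      apply hlc _ hYle hYbot
      rw [Subgroup.mem_centralizer_singleton_iff] at hw
      exact mem_normalizer_zpowers_of_commute hw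
    have h2 : ((g • P : Sylow p G) : Subgroup G) ≤ Subgroup.centralizer ({x} : Set G) := by
      intro w hw
      apply hCy
      rw [Sylow.coe_subgroup_smul] at hw
      obtain ⟨z, hz, rfl⟩ := hw
      rw [Subgroup.mem_centralizer_singleton_iff]
      have := ha hz
      rw [Subgroup.mem_centralizer_singleton_iff] at this
      show g * z * g⁻¹ * y = y * (g * z * g⁻¹)
      calc g * z * g⁻¹ * (g * x * g⁻¹) = g * (z * x) * g⁻¹ := by group
        _ = g * (x * z) * g⁻¹ := by rw [this]
        _ = _ := by rw [hy_def]; group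
    obtain ⟨c, hc⟩ := MulAction.exists_smul_eq (Subgroup.centralizer ({x} : Set G))
      ((g • P).subtype h2) (P.subtype ha)
    simp_rw [Sylow.smul_subtype, Subgroup.smul_def, smul_smul] at hc
    have hn : (c : G) * g ∈ Subgroup.normalizer ((P : Subgroup G) : Set G) :=
      Sylow.smul_eq_iff_mem_normalizer.mp (Sylow.subtype_injective hc)
    have hcg := hlc _ le_rfl hPbot hn
    have hg : g ∈ Subgroup.centralizer ({x} : Set G) := by
      have : g = (c : G)⁻¹ * ((c : G) * g) := by group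
      rw [this]
      exact Subgroup.mul_mem _ (Subgroup.inv_mem _ c.2) hcg
    rw [Subgroup.mem_centralizer_singleton_iff] at hg
    rw [hy_def, hg]; group
  refine ⟨ha, hb, ?_⟩
  intro N _ R hR hRbot gbar hg
  obtain ⟨g, rfl⟩ := QuotientGroup.mk_surjective gbar
  set π := QuotientGroup.mk' N with hπ
  set R₁ : Subgroup G := R.comap π with hR₁
  set R₀ : Subgroup G := R₁ ⊓ (P : Subgroup G) with hR₀
  have hNR₁ : N ≤ R₁ := by
    intro n hn
    rw [hR₁, Subgroup.mem_comap]
    have : π n = 1 := (QuotientGroup.eq_one_iff n).2 hn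
    rw [this]
    exact R.one_mem
  have hR₁sup : R₁ ≤ (P : Subgroup G) ⊔ N := by
    intro w hw
    rw [hR₁, Subgroup.mem_comap] at hw
    obtain ⟨z, hz, hzw⟩ := hR hw
    have hn : z⁻¹ * w ∈ N := by
      apply (QuotientGroup.eq_one_iff _).1
      have : (QuotientGroup.mk (z⁻¹ * w) : G ⧸ N) = (π z)⁻¹ * π w := rfl
      rw [this, hzw]; group
    have : w = z * (z⁻¹ * w) := by group
    rw [this]
    exact Subgroup.mul_mem_sup hz hn
  have hR₀bot : R₀ ≠ ⊥ := by
    intro h
    apply hRbot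
    rw [eq_bot_iff]
    intro r hr
    obtain ⟨z, hz, hzr⟩ := hR hr
    have hzR₀ : z ∈ R₀ := by
      refine Subgroup.mem_inf.2 ⟨?_, hz⟩
      rw [hR₁, Subgroup.mem_comap, hzr]
      exact hr
    rw [h, Subgroup.mem_bot] at hzR₀
    rw [Subgroup.mem_bot, ← hzr, hzR₀, map_one]
  have hgR₁ : ∀ w, w ∈ R₁ → g * w * g⁻¹ ∈ R₁ := by
    intro w hw
    rw [hR₁, Subgroup.mem_comap] at hw ⊢
    exact (Subgroup.mem_normalizer_iff.1 hg (π w)).1 hw
  set Q : Subgroup G := R₀.map (MulAut.conj g).toMonoidHom with hQ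
  have hQp : IsPGroup p ↥Q := (P.2.to_le (inf_le_right : R₀ ≤ P)).map _
  have hQR₁ : Q ≤ R₁ := by
    rintro _ ⟨r, hr, rfl⟩
    exact hgR₁ r (Subgroup.mem_inf.1 hr).1
  obtain ⟨n, hnN, hn⟩ := exists_conj_mem_sylow_of_le_sup_normal P N Q hQp (hQR₁.trans hR₁sup)
  have hngR₀ : n * g ∈ Subgroup.normalizer (R₀ : Set G) := by
    apply Subgroup.mem_normalizer_fintype
    intro r hr
    have hq : g * r * g⁻¹ ∈ Q := ⟨r, hr, rfl⟩
    have e : n * g * r * (n * g)⁻¹ = n * (g * r * g⁻¹) * n⁻¹ := by group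
    rw [e]
    refine Subgroup.mem_inf.2 ⟨?_, hn _ hq⟩
    exact R₁.mul_mem (R₁.mul_mem (hNR₁ hnN) (hQR₁ hq)) (R₁.inv_mem (hNR₁ hnN))
  have hcen := hlc R₀ inf_le_right hR₀bot hngR₀
  rw [Subgroup.mem_centralizer_singleton_iff] at hcen ⊢
  have hπn : π n = 1 := (QuotientGroup.eq_one_iff n).2 hnN
  have e1 : (QuotientGroup.mk g : G ⧸ N) = π (n * g) := by
    rw [map_mul, hπn, one_mul]; rfl
  rw [e1]
  have := congrArg π hcen
  rw [map_mul, map_mul] at this
  exact this

end Cfsg.Agent.S2998
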