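import Cfsg.Statements.S3003
import Cfsg.Agent.Lib_helper15_Sylow
import Cfsg.Agent.Lib_helper15_Gen5

set_option autoImplicit false
open Cfsg

namespace Cfsg.Agent.S3003

open Cfsg.Agent.helper15

theorem eq_one_of_mem_pgroup_of_mem_coprime {G : Type*} [Group G] [Finite G] {p : ℕ} [Fact p.Prime]
    (Q : Subgroup G) (hQ : IsPGroup p ↥Q) (D : Subgroup G) (hD : (Nat.card ↥D).Coprime p) (z : G)
    (hzQ : z ∈ Q) (hzD : z ∈ D) : z = 1 := by
  obtain ⟨k, hk⟩ := hQ ⟨z, hzQ⟩
  have hk' : z ^ (p ^ k) = 1 := by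
    have := congrArg Subtype.val hk
    rwa [Subgroup.coe_pow, Subgroup.coe_one] at this
  have h1 : orderOf z ∣ p ^ k := orderOf_dvd_of_pow_eq_one hk'
  have h2 : orderOf z ∣ Nat.card D := by
    have : orderOf (⟨z, hzD⟩ : ↥D) ∣ Nat.card D := orderOf_dvd_natCard _
    rwa [← Subgroup.orderOf_coe] at this
  have hcop : Nat.Coprime (p ^ k) (Nat.card D) := (Nat.Coprime.pow_right k hD).symm
  have h3 : orderOf z = 1 := Nat.eq_one_of_dvd_coprimes hcop h1 h2
  exact orderOf_eq_one_iff.1 h3

/-- Part (a). -/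
theorem partA {G : Type*} [Group G] [Finite G] {p : ℕ} [Fact p.Prime] (Q : Subgroup G)
    (hQp : IsPGroup p ↥Q) (hlarge : Cfsg.IsLarge Q) (G₁ : Subgroup G) (hQG : Q ≤ G₁)
    (R : Subgroup G) (hR : (Nat.card ↥R).Coprime p)
    (hGR : G₁ ≤ Subgroup.normalizer (R : Set G)) (U : Subgroup G)
    (h : ∃ x ∈ U, x ≠ 1 ∧ ∃ g ∈ G₁, g * x * g⁻¹ ∈ Q ⊓ Subgroup.centralizer (Q : Set G)) :
    R ⊓ Subgroup.centralizer (U : Set G) = ⊥ := by
  obtain ⟨x, hxU, hx1, g, hg, hz⟩ := h
  obtain ⟨hzQ, hzC⟩ := Subgroup.mem_inf.1 hz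
  obtain ⟨hCQ, hQbang⟩ := hlarge
  rw [eq_bot_iff]
  intro r hr
  obtain ⟨hrR, hrC⟩ := Subgroup.mem_inf.1 hr
  rw [Subgroup.mem_bot]
  -- r' = g r g⁻¹ ∈ R commutes with z = g x g⁻¹
  have hr'R : g * r * g⁻¹ ∈ R := (Subgroup.mem_normalizer_iff.1 (hGR hg) r).1 hrR
  have hrx : x * r = r * x := (Subgroup.mem_centralizer_iff.1 hrC) x hxU
  have hcomm : Commute (g * r * g⁻¹) (g * x * g⁻¹) := by
    show (g * r * g⁻¹) * (g * x * g⁻¹) = (g * x * g⁻¹) * (g * r * g⁻¹)
    calc (g * r * g⁻¹) * (g * x * g⁻¹) = g * (r * x) * g⁻¹ := by group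
      _ = g * (x * r) * g⁻¹ := by rw [hrx]
      _ = (g * x * g⁻¹) * (g * r * g⁻¹) := by group
  have hz1 : g * x * g⁻¹ ≠ 1 := by
    intro h1
    apply hx1
    have : x = g⁻¹ * (g * x * g⁻¹) * g := by group
    rw [this, h1]; group
  have hzne : Subgroup.zpowers (g * x * g⁻¹) ≠ ⊥ := by
    rw [Ne, Subgroup.zpowers_eq_bot]; exact hz1
  have hzle : Subgroup.zpowers (g * x * g⁻¹) ≤ Subgroup.centralizer (Q : Set G) :=
    (Subgroup.zpowers_le).2 hzC
  have hr'N : g * r * g⁻¹ ∈ Subgroup.normalizer (Q : Set G) :=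
    hQbang _ hzle hzne (mem_normalizer_zpowers_of_commute hcomm)
  -- r' centralizes Q
  have hr'C : g * r * g⁻¹ ∈ Subgroup.centralizer (Q : Set G) := by
    rw [Subgroup.mem_centralizer_iff]
    intro q hq
    have h1 : (g * r * g⁻¹) * q * (g * r * g⁻¹)⁻¹ ∈ Q :=
      (Subgroup.mem_normalizer_iff.1 hr'N q).1 hq
    have h2 : q * (g * r * g⁻¹)⁻¹ * q⁻¹ ∈ R :=
      (Subgroup.mem_normalizer_iff.1 (hGR (hQG hq)) _).1 (R.inv_mem hr'R)
    have hc : (g * r * g⁻¹) * q * (g * r * g⁻¹)⁻¹ * q⁻¹ = 1 := by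
      apply eq_one_of_mem_pgroup_of_mem_coprime Q hQp R hR
      · exact Q.mul_mem h1 (Q.inv_mem hq)
      · have : (g * r * g⁻¹) * q * (g * r * g⁻¹)⁻¹ * q⁻¹ =
            (g * r * g⁻¹) * (q * (g * r * g⁻¹)⁻¹ * q⁻¹) := by group
        rw [this]; exact R.mul_mem hr'R h2
    calc q * (g * r * g⁻¹)
        = ((g * r * g⁻¹) * q * (g * r * g⁻¹)⁻¹ * q⁻¹)⁻¹ * ((g * r * g⁻¹) * q) := by group
      _ = (g * r * g⁻¹) * q := by rw [hc, inv_one, one_mul]
  have hr'1 : g * r * g⁻¹ = 1 :=
    eq_one_of_mem_pgroup_of_mem_coprime Q hQp R hR _ (hCQ hr'C) hr'R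
  have : r = g⁻¹ * (g * r * g⁻¹) * g := by group
  rw [this, hr'1]; group

/-- Let G be a finite group, p a prime and Q a large p-subgroup of G: C_G(Q) ≤ Q and N_G(U) ≤ N_G(Q) for every nontrivial subgroup U of C_G(Q). Let Q ≤ G₁ ≤ G, let R be a subgroup of order prime to p normalized by G₁, and let U ≤ G₁ be a p-subgroup. If U contains a nontrivial element which is G₁-conjugate to an element of Z(Q), then C_R(U) = 1. In particular, if U is elementary abelian of order at least p² and every maximal subgroup of U contains a nontrivial element G₁-conjugate into Z(Q), then R = 1. -/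
theorem result {G : Type*} [Group G] [Finite G] {p : ℕ} [Fact p.Prime] (Q : Subgroup G) (hQp : IsPGroup p ↥Q) (hlarge : Cfsg.IsLarge Q) (G₁ : Subgroup G) (hQG : Q ≤ G₁) (R : Subgroup G) (hR : (Nat.card ↥R).Coprime p) (hGR : G₁ ≤ Subgroup.normalizer (R : Set G)) (U : Subgroup G) (hUG : U ≤ G₁) (hUp : IsPGroup p ↥U) : ((∃ x ∈ U, x ≠ 1 ∧ ∃ g ∈ G₁, g * x * g⁻¹ ∈ Q ⊓ Subgroup.centralizer (Q : Set G)) → R ⊓ Subgroup.centralizer (U : Set G) = ⊥) ∧ (Cfsg.IsElementaryAbelian p U → p ^ 2 ≤ Nat.card ↥U → (∀ U₀ : Subgroup G, U₀ ≤ U → IsCoatom (U₀.subgroupOf U) → ∃ x ∈ U₀, x ≠ 1 ∧ ∃ g ∈ G₁, g * x * g⁻¹ ∈ Q ⊓ Subgroup.centralizer (Q : Set G)) → R = ⊥) := by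
  refine ⟨partA Q hQp hlarge G₁ hQG R hR hGR U, ?_⟩
  intro hEA hcard hmax
  obtain ⟨hUcomm, hUexp⟩ := hEA
  have hp : p.Prime := Fact.out
  have hRp : ¬ p ∣ Nat.card ↥R := by
    intro hdvd
    exact hp.one_lt.ne' (Nat.eq_one_of_dvd_coprimes hR hdvd (dvd_refl p))
  have hcoatom : ∀ U₀ : Subgroup G, U₀ ≤ U → IsCoatom (U₀.subgroupOf U) →
      R ⊓ Subgroup.centralizer (U₀ : Set G) = ⊥ := fun U₀ h1 h2 =>
    partA Q hQp hlarge G₁ hQG R hR hGR U₀ (hmax U₀ h1 h2)
  have hUcommute : ∀ a ∈ U, ∀ b ∈ U, a * b = b * a := fun a ha b hb =>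
    Subgroup.mul_comm_of_mem_isMulCommutative (H := U) ha hb
  -- main claim
  have claim : ∀ (n : ℕ) (B : Subgroup G), B ≤ U → Nat.card U - Nat.card B = n →
      R ⊓ Subgroup.centralizer (B : Set G) = ⊥ := by
    intro n
    induction n using Nat.strong_induction_on with
    | _ n ih =>
      intro B hBU hn
      by_cases hco : IsCoatom (B.subgroupOf U)
      · exact hcoatom B hBU hco
      by_cases htop : B.subgroupOf U = ⊤
      · -- B = U
        have hUnt : Nontrivial ↥U := by
          rw [← Finite.one_lt_card_iff_nontrivial]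
          have : p ^ 2 ≥ 2 ^ 2 := Nat.pow_le_pow_left hp.two_le 2
          omega
        have hbt : (⊥ : Subgroup ↥U) ≠ ⊤ := bot_ne_top
        rcases eq_top_or_exists_le_coatom (⊥ : Subgroup ↥U) with h | ⟨C₀, hC₀, _⟩
        · exact absurd h hbt
        · have hC₀' : IsCoatom ((C₀.map U.subtype).subgroupOf U) := by
            have : (C₀.map U.subtype).subgroupOf U = C₀ := by
              unfold Subgroup.subgroupOf
              exact Subgroup.comap_map_eq_self_of_injective U.subtype_injective C₀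
            rw [this]; exact hC₀
          have h1 := hcoatom _ (Subgroup.map_subtype_le C₀) hC₀'
          rw [eq_bot_iff] at h1 ⊢
          refine le_trans (inf_le_inf_left R ?_) h1
          apply Subgroup.centralizer_le
          intro c hc
          rw [Subgroup.subgroupOf_eq_top] at htop
          exact htop (Subgroup.map_subtype_le C₀ hc)
      · -- B < C < U
        have hex : ∃ C' : Subgroup ↥U, B.subgroupOf U < C' ∧ C' ≠ ⊤ := by
          by_contra hcon
          push Not at hcon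
          exact hco ⟨htop, fun C' hC' => hcon C' hC'⟩
        obtain ⟨C', hBC', hC'top⟩ := hex
        obtain ⟨y', hy'C, hy'B⟩ := SetLike.exists_of_lt hBC'
        have hxex : ∃ x' : ↥U, x' ∉ C' := by
          by_contra hcon
          push Not at hcon
          exact hC'top (eq_top_iff.2 fun c _ => hcon c)
        obtain ⟨x', hx'C⟩ := hxex
        have hyB : (y' : G) ∉ B := fun h => hy'B (Subgroup.mem_subgroupOf.2 h)
        have hxy : Commute (x' : G) (y' : G) := hUcommute _ x'.2 _ y'.2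
        have hxp : (x' : G) ^ p = 1 := hUexp _ x'.2
        have hyp : (y' : G) ^ p = 1 := hUexp _ y'.2
        -- elements of U normalize K = R ⊓ C(B)
        have hnorm : ∀ u ∈ U, u ∈ Subgroup.normalizer
            ((R ⊓ Subgroup.centralizer (B : Set G) : Subgroup G) : Set G) := by
          intro u hu
          apply Subgroup.mem_normalizer_fintype
          intro r hr
          obtain ⟨hrR, hrC⟩ := Subgroup.mem_inf.1 hr
          refine Subgroup.mem_inf.2 ⟨(Subgroup.mem_normalizer_iff.1 (hGR (hUG hu)) r).1 hrR, ?_⟩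
          rw [Subgroup.mem_centralizer_iff] at hrC ⊢
          intro b hb
          have h1 : b * u = u * b := hUcommute b (hBU hb) u hu
          have h2 : b * r = r * b := hrC b hb
          have h3 : b * u⁻¹ = u⁻¹ * b := by
            calc b * u⁻¹ = u⁻¹ * (u * b) * u⁻¹ := by group
              _ = u⁻¹ * (b * u) * u⁻¹ := by rw [h1]
              _ = u⁻¹ * b := by group
          calc b * (u * r * u⁻¹) = (b * u) * r * u⁻¹ := by group
            _ = u * (b * r) * u⁻¹ := by rw [h1]; group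
            _ = u * r * (b * u⁻¹) := by rw [h2]; group
            _ = u * r * u⁻¹ * b := by rw [h3]; group
        have hKp : ¬ p ∣ Nat.card ↥(R ⊓ Subgroup.centralizer (B : Set G)) := fun hdvd =>
          hRp (dvd_trans hdvd (Subgroup.card_dvd_of_le inf_le_left))
        have hgen := le_iSup_centralizer_of_pair hxy hxp hyp
          (R ⊓ Subgroup.centralizer (B : Set G)) (hnorm _ x'.2) (hnorm _ y'.2) hKp
        -- each piece is trivial
        have hpiece : ∀ a ∈ U, a ∉ B →
            (R ⊓ Subgroup.centralizer (B : Set G)) ⊓ Subgroup.centralizer {a} = ⊥ := by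
          intro a haU haB
          have hlt : B < B ⊔ Subgroup.zpowers a := by
            refine lt_of_le_of_ne le_sup_left ?_
            intro heq
            apply haB
            rw [heq]
            exact Subgroup.mem_sup_right (Subgroup.mem_zpowers a)
          have hle : B ⊔ Subgroup.zpowers a ≤ U := sup_le hBU ((Subgroup.zpowers_le).2 haU)
          have hcardlt : Nat.card ↥B < Nat.card ↥(B ⊔ Subgroup.zpowers a) := by
            by_contra hnot
            push Not at hnot
            exact hlt.ne (Subgroup.eq_of_le_of_card_ge hlt.le hnot)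
          have hcardle : Nat.card ↥(B ⊔ Subgroup.zpowers a) ≤ Nat.card ↥U :=
            Nat.le_of_dvd Nat.card_pos (Subgroup.card_dvd_of_le hle)
          have hIH := ih (Nat.card U - Nat.card ↥(B ⊔ Subgroup.zpowers a)) (by omega)
            (B ⊔ Subgroup.zpowers a) hle rfl
          rw [eq_bot_iff] at hIH ⊢
          refine le_trans ?_ hIH
          intro r hr
          obtain ⟨hr1, hra⟩ := Subgroup.mem_inf.1 hr
          obtain ⟨hrR, hrC⟩ := Subgroup.mem_inf.1 hr1
          refine Subgroup.mem_inf.2 ⟨hrR, ?_⟩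
          have hsub : B ⊔ Subgroup.zpowers a ≤ Subgroup.centralizer {r} := by
            apply sup_le
            · intro b hb
              rw [Subgroup.mem_centralizer_singleton_iff]
              exact (Subgroup.mem_centralizer_iff.1 hrC) b hb
            · rw [Subgroup.zpowers_le, Subgroup.mem_centralizer_singleton_iff]
              exact (Subgroup.mem_centralizer_singleton_iff.1 hra).symm
          rw [Subgroup.mem_centralizer_iff]
          intro h hh
          exact Subgroup.mem_centralizer_singleton_iff.1 (hsub hh)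
        rw [eq_bot_iff]
        refine le_trans hgen ?_
        apply sup_le
        · rw [hpiece _ y'.2 hyB]
        · apply iSup_le
          intro k
          have hxyk : (x' : G) * (y' : G) ^ k ∉ B := by
            intro hmem
            apply hx'C
            have h1 : (⟨(x' : G) * (y' : G) ^ k, U.mul_mem x'.2 (U.pow_mem y'.2 k)⟩ : ↥U) ∈ C' :=
              hBC'.le (Subgroup.mem_subgroupOf.2 hmem)
            have h2 : x' = ⟨(x' : G) * (y' : G) ^ k, U.mul_mem x'.2 (U.pow_mem y'.2 k)⟩ *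
                (y' ^ k)⁻¹ := by
              apply Subtype.ext
              simp
            rw [h2]
            exact C'.mul_mem h1 (C'.inv_mem (C'.pow_mem hy'C k))
          rw [hpiece _ (U.mul_mem x'.2 (U.pow_mem y'.2 k)) hxyk]
  have hfinal := claim _ ⊥ bot_le rfl
  rw [eq_bot_iff] at hfinal ⊢
  intro r hr
  apply hfinal
  refine Subgroup.mem_inf.2 ⟨hr, ?_⟩
  rw [Subgroup.mem_centralizer_iff]
  intro h hh
  have : h = 1 := Subgroup.mem_bot.1 hh
  rw [this, one_mul, mul_one]

end Cfsg.Agent.S3003
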