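import Cfsg.Statements.S3005
import Cfsg.Agent.Lib_helper15_CL

set_option autoImplicit false
open scoped Pointwise
open Cfsg

namespace Cfsg.Agent.S3005

open Cfsg.Agent.helper15

theorem supClosed_cl (P : Type*) [Group P] [Finite P] :
    SupClosed {R : Subgroup P | Cfsg.IsCentrallyLarge R} := by
  intro a ha b hb
  rw [Set.mem_ofPred_eq, isCentrallyLarge_iff_isCLMax] at ha hb ⊢
  exact (IsCLMax.sup ha hb).2

/-- Let P be a finite p-group; call R ≤ P centrally large if |R|·|Z(R)| is as large as possible among subgroups of P, and measure-largest if |R|·|C_P(R)| is as large as possible. Then: a centrally large Q is measure-largest with C_P(Q) = Z(Q); a measure-largest Q is centrally large if and only if C_P(Q) ≤ Q; if Q and R are centrally large then QR = RQ is a centrally large subgroup; and the subgroups generated by all centrally large subgroups, respectively by all minimal centrally large subgroups, are themselves centrally large. -/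
theorem result {p : ℕ} [Fact p.Prime] (P : Type*) [Group P] [Finite P] (hP : IsPGroup p P) : (∀ Q : Subgroup P, Cfsg.IsCentrallyLarge Q → Cfsg.IsCentralizerLarge Q ∧ Subgroup.centralizer (Q : Set P) = Q ⊓ Subgroup.centralizer (Q : Set P)) ∧ (∀ Q : Subgroup P, Cfsg.IsCentralizerLarge Q → (Cfsg.IsCentrallyLarge Q ↔ Subgroup.centralizer (Q : Set P) ≤ Q)) ∧ (∀ Q R : Subgroup P, Cfsg.IsCentrallyLarge Q → Cfsg.IsCentrallyLarge R → ((Q ⊔ R : Subgroup P) : Set P) = (Q : Set P) * (R : Set P) ∧ Cfsg.IsCentrallyLarge (Q ⊔ R)) ∧ Cfsg.IsCentrallyLarge (Cfsg.centrallyLargeJoin P) ∧ Cfsg.IsCentrallyLarge (Cfsg.minimalCentrallyLargeJoin P) := by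
  have hex : ∃ R : Subgroup P, Cfsg.IsCentrallyLarge R := by
    obtain ⟨R, hR⟩ := exists_isCLMax (G := P)
    exact ⟨R, (isCentrallyLarge_iff_isCLMax R).2 hR⟩
  refine ⟨?_, ?_, ?_, ?_, ?_⟩
  · intro Q hQ
    rw [isCentrallyLarge_iff_isCLMax] at hQ
    refine ⟨(isCentralizerLarge_iff_isCDMax Q).2 hQ.isCDMax, ?_⟩
    exact (inf_eq_right.2 hQ.centralizer_le).symm
  · intro Q hQ
    rw [isCentralizerLarge_iff_isCDMax] at hQ
    rw [isCentrallyLarge_iff_isCLMax]
    exact ⟨fun h => h.centralizer_le, fun h => hQ.isCLMax h⟩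
  · intro Q R hQ hR
    rw [isCentrallyLarge_iff_isCLMax] at hQ hR ⊢
    exact IsCLMax.sup hQ hR
  · obtain ⟨R, hR⟩ := hex
    exact (supClosed_cl P).sSup_mem_of_nonempty (Set.toFinite _) ⟨R, hR⟩ (le_refl _)
  · have hne : {R : Subgroup P | Cfsg.IsMinimalCentrallyLarge R}.Nonempty := by
      have hfin : {R : Subgroup P | Cfsg.IsCentrallyLarge R}.Finite := Set.toFinite _
      obtain ⟨R₀, hR₀, hmin⟩ := Set.exists_min_image _ (fun K : Subgroup P => Nat.card ↥K) hfin hex
      refine ⟨R₀, hR₀, ?_⟩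
      intro R' hle hR'
      exact Subgroup.eq_of_le_of_card_ge hle (hmin R' hR')
    exact (supClosed_cl P).sSup_mem_of_nonempty (Set.toFinite _) hne (fun R hR => hR.1)

end Cfsg.Agent.S3005
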