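import Cfsg.Statements.S3006
import Cfsg.Agent.Lib_helper15_CL2

set_option autoImplicit false
open scoped Pointwise
open Cfsg

namespace Cfsg.Agent.S3006

open Cfsg.Agent.helper15

theorem clSet_eq (P : Type*) [Group P] [Finite P] :
    {R : Subgroup P | Cfsg.IsCentrallyLarge R} = {R : Subgroup P | IsCLMax R} := by
  ext R
  exact isCentrallyLarge_iff_isCLMax R

theorem isCLMax_centrallyLargeJoin (P : Type*) [Group P] [Finite P] :
    IsCLMax (Cfsg.centrallyLargeJoin P) := by
  unfold Cfsg.centrallyLargeJoin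
  rw [clSet_eq]
  obtain ⟨R, hR⟩ := exists_isCLMax (G := P)
  exact supClosed_isCLMax.sSup_mem_of_nonempty (Set.toFinite _) ⟨R, hR⟩ (le_refl _)

theorem le_centrallyLargeJoin {P : Type*} [Group P] [Finite P] {R : Subgroup P} (hR : IsCLMax R) :
    R ≤ Cfsg.centrallyLargeJoin P := by
  unfold Cfsg.centrallyLargeJoin
  rw [clSet_eq]
  exact le_sSup hR

/-- Let P be a finite p-group, Q a centrally large subgroup of P (|Q|·|Z(Q)| maximal among subgroups of P) and A an abelian subgroup of P of largest order. Then QA = AQ is a centrally large subgroup of P, C_{QA}(Q ∩ A) = Z(Q)·A, and the subgroup generated by all centrally large subgroups of P contains C_P(Z(J(P))), where J(P) is generated by the abelian subgroups of largest order. -/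
theorem result {p : ℕ} [Fact p.Prime] (P : Type*) [Group P] [Finite P] (hP : IsPGroup p P) (Q A : Subgroup P) (hQ : Cfsg.IsCentrallyLarge Q) (hA : A ∈ Cfsg.maxAbelianSubgroups P) : ((Q ⊔ A : Subgroup P) : Set P) = (Q : Set P) * (A : Set P) ∧ Cfsg.IsCentrallyLarge (Q ⊔ A) ∧ (Q ⊔ A) ⊓ Subgroup.centralizer ((Q ⊓ A : Subgroup P) : Set P) = (Q ⊓ Subgroup.centralizer (Q : Set P)) ⊔ A ∧ (((Q ⊓ Subgroup.centralizer (Q : Set P)) ⊔ A : Subgroup P) : Set P) = ((Q ⊓ Subgroup.centralizer (Q : Set P)) : Set P) * (A : Set P) ∧ Subgroup.centralizer ((Cfsg.thompsonSubgroupA P ⊓ Subgroup.centralizer (Cfsg.thompsonSubgroupA P : Set P) : Subgroup P) : Set P) ≤ Cfsg.centrallyLargeJoin P := by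
  rw [isCentrallyLarge_iff_isCLMax] at hQ
  obtain ⟨h1, h2, h3, h4⟩ := hQ.sup_maxAbelian hA
  have hAab := mem_maxAbelian_le_centralizer hA
  have hDZself := centralizer_eq_of_mem_maxAbelian h3
  set Z : Subgroup P := Q ⊓ Subgroup.centralizer (Q : Set P) with hZ
  set D : Subgroup P := Q ⊓ A with hD
  have hZQ : Z ≤ Q := inf_le_left
  have hZC : Z ≤ Subgroup.centralizer (Q : Set P) := inf_le_right
  have hDQ : D ≤ Q := inf_le_left
  have hDA : D ≤ A := inf_le_right
  have hCQD : Subgroup.centralizer (Q : Set P) ≤ Subgroup.centralizer (D : Set P) :=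
    Subgroup.centralizer_le (SetLike.coe_subset_coe.2 hDQ)
  have hCAD : Subgroup.centralizer (A : Set P) ≤ Subgroup.centralizer (D : Set P) :=
    Subgroup.centralizer_le (SetLike.coe_subset_coe.2 hDA)
  have hQCZ : Q ≤ Subgroup.centralizer (Z : Set P) := Subgroup.le_centralizer_iff.1 hZC
  have c1 : (((Q ⊔ A) ⊓ Subgroup.centralizer (D : Set P) : Subgroup P) : Set P)
      ⊆ (Z : Set P) * (A : Set P) := by
    intro x hx
    obtain ⟨hxQA, hxC⟩ := Subgroup.mem_inf.1 hx
    have hxQA' : x ∈ ((Q ⊔ A : Subgroup P) : Set P) := hxQA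
    rw [h2] at hxQA'
    obtain ⟨q, hq, a, ha, rfl⟩ := Set.mem_mul.1 hxQA'
    have haC : a ∈ Subgroup.centralizer (D : Set P) := hCAD (hAab ha)
    have hqC : q ∈ Subgroup.centralizer (D : Set P) := by
      have : q = (q * a) * a⁻¹ := by group
      rw [this]
      exact Subgroup.mul_mem _ hxC (Subgroup.inv_mem _ haC)
    have hqDZ : q ∈ D ⊔ Z := by
      rw [← hDZself, centralizer_sup_eq]
      exact Subgroup.mem_inf.2 ⟨hqC, hQCZ hq⟩
    have hqDZ' : q ∈ ((D ⊔ Z : Subgroup P) : Set P) := hqDZ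
    rw [h4] at hqDZ'
    obtain ⟨d, hd, z, hz, rfl⟩ := Set.mem_mul.1 hqDZ'
    have hcomm : z * d = d * z := by
      have := hZC hz
      rw [Subgroup.mem_centralizer_iff] at this
      exact (this d (hDQ hd)).symm
    refine Set.mem_mul.2 ⟨z, hz, d * a, A.mul_mem (hDA hd) ha, ?_⟩
    rw [← mul_assoc, hcomm]
  have c2 : Z ⊔ A ≤ (Q ⊔ A) ⊓ Subgroup.centralizer (D : Set P) :=
    sup_le (le_inf (hZQ.trans le_sup_left) (hZC.trans hCQD))
      (le_inf le_sup_right (hAab.trans hCAD))
  have c3 : (Z : Set P) * (A : Set P) ⊆ ((Z ⊔ A : Subgroup P) : Set P) := by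
    rintro _ ⟨z, hz, a, ha, rfl⟩
    exact Subgroup.mul_mem_sup hz ha
  refine ⟨h2, (isCentrallyLarge_iff_isCLMax _).2 h1,
    le_antisymm (fun x hx => c3 (c1 hx)) c2,
    Set.Subset.antisymm (fun x hx => c1 (c2 hx)) c3, ?_⟩
  -- the last part
  set T : Subgroup P := Cfsg.centrallyLargeJoin P with hT
  have hTmax : IsCLMax T := isCLMax_centrallyLargeJoin P
  set J : Subgroup P := Cfsg.thompsonSubgroupA P with hJ
  have hAT : ∀ A' ∈ Cfsg.maxAbelianSubgroups P, A' ≤ T := by
    intro A' hA'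
    have := (hTmax.sup_maxAbelian hA').1
    exact le_sup_right.trans (le_centrallyLargeJoin this)
  have hJT : J ≤ T := sSup_le hAT
  obtain ⟨A₀, hA₀⟩ := exists_mem_maxAbelian (G := P)
  have hCT_J : Subgroup.centralizer (T : Set P) ≤ J := by
    calc Subgroup.centralizer (T : Set P) ≤ Subgroup.centralizer (A₀ : Set P) :=
          Subgroup.centralizer_le (SetLike.coe_subset_coe.2 (hAT A₀ hA₀))
      _ = A₀ := centralizer_eq_of_mem_maxAbelian hA₀
      _ ≤ J := le_sSup hA₀
  have hCT_CJ : Subgroup.centralizer (T : Set P) ≤ Subgroup.centralizer (J : Set P) :=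
    Subgroup.centralizer_le (SetLike.coe_subset_coe.2 hJT)
  have hle : Subgroup.centralizer (T : Set P) ≤ J ⊓ Subgroup.centralizer (J : Set P) :=
    le_inf hCT_J hCT_CJ
  calc Subgroup.centralizer ((J ⊓ Subgroup.centralizer (J : Set P) : Subgroup P) : Set P)
      ≤ Subgroup.centralizer ((Subgroup.centralizer (T : Set P) : Subgroup P) : Set P) :=
        Subgroup.centralizer_le (SetLike.coe_subset_coe.2 hle)
    _ = T := hTmax.isCDMax.eq_centralizer_centralizer.symm

end Cfsg.Agent.S3006
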