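import Cfsg.Statements.S3007
import Cfsg.Agent.Lib_helper15_MCL

set_option autoImplicit false
open Cfsg

namespace Cfsg.Agent.S3007

open Cfsg.Agent.helper15

theorem clMeasure_of_abelian {P : Type*} [Group P] {X : Subgroup P}
    (hX : X ≤ Subgroup.centralizer (X : Set P)) : clMeasure X = Nat.card ↥X * Nat.card ↥X := by
  unfold clMeasure
  rw [inf_eq_left.2 hX]

theorem sq_le_cdMeasure_of_abelian {P : Type*} [Group P] [Finite P] {X : Subgroup P}
    (hX : X ≤ Subgroup.centralizer (X : Set P)) : Nat.card ↥X * Nat.card ↥X ≤ cdMeasure X := by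
  unfold cdMeasure
  exact Nat.mul_le_mul_left _ (Subgroup.card_le_of_le hX)

/-- Let P be a finite p-group and Q, R minimal centrally large subgroups of P (centrally large: |Q|·|Z(Q)| maximal among subgroups of P; minimal among such under inclusion). Then Q = (Q ∩ R)·Z(Q), the derived subgroups [Q, Q] and [R, R] coincide, |Q| = |R| and |Z(Q)| = |Z(R)|; and if Q is abelian then the minimal centrally large subgroups of P are exactly the abelian subgroups of P of largest order. -/
theorem result {p : ℕ} [Fact p.Prime] (P : Type*) [Group P] [Finite P] (hP : IsPGroup p P) (Q R : Subgroup P) (hQ : Cfsg.IsMinimalCentrallyLarge Q) (hR : Cfsg.IsMinimalCentrallyLarge R) : (Q ⊓ R) ⊔ (Q ⊓ Subgroup.centralizer (Q : Set P)) = Q ∧ ⁅Q, Q⁆ = ⁅R, R⁆ ∧ Nat.card ↥Q = Nat.card ↥R ∧ Nat.card ↥(Q ⊓ Subgroup.centralizer (Q : Set P)) = Nat.card ↥(R ⊓ Subgroup.centralizer (R : Set P)) ∧ (IsMulCommutative ↥Q → ∀ X : Subgroup P, Cfsg.IsMinimalCentrallyLarge X ↔ X ∈ Cfsg.maxAbelianSubgroups P) := by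
  rw [isMinimalCentrallyLarge_iff] at hQ hR
  have hZQ : Q ⊓ Subgroup.centralizer (Q : Set P) = Subgroup.centralizer (Q : Set P) :=
    inf_eq_right.2 hQ.1.centralizer_le
  have hZR : R ⊓ Subgroup.centralizer (R : Set P) = Subgroup.centralizer (R : Set P) :=
    inf_eq_right.2 hR.1.centralizer_le
  have hcard := hQ.card_eq hR
  refine ⟨?_, ?_, hcard.1, ?_, ?_⟩
  · rw [hZQ]
    exact hQ.inf_sup_centralizer hR.1
  · rw [hQ.commutator_eq hR.1, hR.commutator_eq hQ.1, inf_comm]
  · rw [hZQ, hZR]
    exact hcard.2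
  · intro hQab X
    have hQab' : Q ≤ Subgroup.centralizer (Q : Set P) :=
      Subgroup.le_centralizer_iff_isMulCommutative.2 hQab
    have hMQ : clMeasure Q = Nat.card ↥Q * Nat.card ↥Q := clMeasure_of_abelian hQab'
    have hcdQ : cdMeasure Q = Nat.card ↥Q * Nat.card ↥Q := by
      rw [← hQ.1.measure_eq, hMQ]
    rw [isMinimalCentrallyLarge_iff]
    constructor
    · intro hX
      have hc := hX.card_eq hQ
      have hXQ : Nat.card ↥X = Nat.card ↥Q := hc.1
      have hCQ : Subgroup.centralizer (Q : Set P) = Q :=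
        le_antisymm hQ.1.centralizer_le hQab'
      have hCX : Nat.card ↥(Subgroup.centralizer (X : Set P)) = Nat.card ↥X := by
        rw [hc.2, hCQ, hXQ]
      have hXab : X ≤ Subgroup.centralizer (X : Set P) := by
        have : Subgroup.centralizer (X : Set P) = X :=
          Subgroup.eq_of_le_of_card_ge hX.1.centralizer_le hCX.ge
        rw [this]
      refine ⟨Subgroup.le_centralizer_iff_isMulCommutative.1 hXab, ?_⟩
      intro B hB
      have hBab : B ≤ Subgroup.centralizer (B : Set P) :=
        Subgroup.le_centralizer_iff_isMulCommutative.2 hB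
      have h1 := sq_le_cdMeasure_of_abelian hBab
      have h2 := hQ.1.isCDMax B
      rw [hcdQ, ← hXQ] at h2
      exact Nat.mul_self_le_mul_self_iff.1 (h1.trans h2)
    · intro hX
      have hXab := mem_maxAbelian_le_centralizer hX
      have h1 : Nat.card ↥Q ≤ Nat.card ↥X := hX.2 Q hQab
      have h2 : Nat.card ↥X ≤ Nat.card ↥Q := by
        have := (sq_le_cdMeasure_of_abelian hXab).trans (hQ.1.isCDMax X)
        rw [hcdQ] at this
        exact Nat.mul_self_le_mul_self_iff.1 this
      have hXQ : Nat.card ↥X = Nat.card ↥Q := le_antisymm h2 h1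
      have hMX : clMeasure X = clMeasure Q := by
        rw [clMeasure_of_abelian hXab, hMQ, hXQ]
      have hXmax : IsCLMax X := fun K => hMX ▸ hQ.1 K
      refine ⟨hXmax, ?_⟩
      intro R' hR'X hR'max
      have hR'ab : R' ≤ Subgroup.centralizer (R' : Set P) :=
        hR'X.trans (hXab.trans (Subgroup.centralizer_le (SetLike.coe_subset_coe.2 hR'X)))
      have hM' : clMeasure R' = clMeasure X := le_antisymm (hXmax R') (hR'max X)
      rw [clMeasure_of_abelian hR'ab, clMeasure_of_abelian hXab] at hM'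
      have : Nat.card ↥R' = Nat.card ↥X := Nat.mul_self_inj.1 hM'
      exact Subgroup.eq_of_le_of_card_ge hR'X this.ge

end Cfsg.Agent.S3007
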