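import Cfsg.Statements.S3011
import Mathlib
import Cfsg.Agent.Lib_helper15_BaerSuzuki2
import Cfsg.Agent.Lib_helper1_Core

set_option autoImplicit false
open Cfsg

namespace Cfsg.Agent.S3011

theorem eq_one_of_odd_of_inv_eq {G : Type*} [Group G] {x : G} (hodd : Odd (orderOf x))
    (h : x⁻¹ = x) : x = 1 := by
  have h2 : x ^ 2 = 1 := by
    rw [pow_two]
    calc x * x = x⁻¹ * x := by rw [h]
      _ = 1 := inv_mul_cancel x
  have h3 : orderOf x ∣ 2 := orderOf_dvd_of_pow_eq_one h2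
  have h4 : orderOf x = 1 := by
    rcases (Nat.dvd_prime Nat.prime_two).1 h3 with h | h
    · exact h
    · rw [h] at hodd; exact absurd hodd (by decide)
  exact orderOf_eq_one_iff.1 h4

/-- An odd-order element `h` that inverts `k` centralizes `k`... hence `k⁻¹ = k`. -/
theorem inv_eq_of_odd_inverts {G : Type*} [Group G] {h k : G} (hodd : Odd (orderOf h))
    (hinv : h * k * h⁻¹ = k⁻¹) : k⁻¹ = k := by
  have h2 : (h * h) * k * (h * h)⁻¹ = k := by
    calc (h * h) * k * (h * h)⁻¹ = h * (h * k * h⁻¹) * h⁻¹ := by group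
      _ = h * k⁻¹ * h⁻¹ := by rw [hinv]
      _ = (h * k * h⁻¹)⁻¹ := by group
      _ = k := by rw [hinv, inv_inv]
  obtain ⟨m, hm⟩ := hodd
  have h3 : ∀ n : ℕ, (h * h) ^ n * k * ((h * h) ^ n)⁻¹ = k := by
    intro n
    have hc : Commute (h * h) k := by
      have : (h * h) * k = k * (h * h) := by
        calc (h * h) * k = ((h * h) * k * (h * h)⁻¹) * (h * h) := by group
          _ = k * (h * h) := by rw [h2]
      exact this
    have := (hc.pow_left n).eq
    rw [this]; group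
  have h4 : (h * h) ^ (m + 1) = h := by
    rw [← pow_two, ← pow_mul]
    have : 2 * (m + 1) = orderOf h + 1 := by omega
    rw [this, pow_succ, pow_orderOf_eq_one, one_mul]
  have h5 := h3 (m + 1)
  rw [h4, hinv] at h5
  exact h5

/-- The core configuration is contradictory. -/
theorem sidki_four_false {G : Type*} [Group G] [Finite G] (V : Subgroup G)
    (hS : Cfsg.IsSidkiPair V) (a b c h k : G) (ha : a ∈ V) (hb : b ∈ V)
    (hV3 : ∀ w ∈ V, w ≠ 1 → w = a ∨ w = b ∨ w = c)
    (hh : Odd (orderOf h)) (hk : Odd (orderOf k)) (hh1 : h ≠ 1) (hk1 : k ≠ 1)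
    (hah : a * h * a⁻¹ = h⁻¹) (hbh : b * h * b⁻¹ = h) (hch : c * h * c⁻¹ = h⁻¹)
    (hbk : b * k * b⁻¹ = k⁻¹) (hck : c * k * c⁻¹ = k) (hak : a * k * a⁻¹ = k⁻¹) : False := by
  -- a square root of `h`
  obtain ⟨m, hm⟩ := hh
  obtain ⟨y, hy⟩ : ∃ y, y = h ^ (m + 1) := ⟨_, rfl⟩
  have hyy : y * y = h := by
    rw [hy, ← pow_add]
    have : m + 1 + (m + 1) = orderOf h + 1 := by omega
    rw [this, pow_succ, pow_orderOf_eq_one, one_mul]
  have hby : b * y * b⁻¹ = y := by
    rw [hy, ← MulAut.conj_apply, map_pow, MulAut.conj_apply, hbh]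
  have hcy : c * y * c⁻¹ = y⁻¹ := by
    rw [hy, ← MulAut.conj_apply, map_pow, MulAut.conj_apply, hch, inv_pow]
  have hay : a * y * a⁻¹ = y⁻¹ := by
    rw [hy, ← MulAut.conj_apply, map_pow, MulAut.conj_apply, hah, inv_pow]
  -- Step 1: `h` and `k` commute
  have hcomm : h * k = k * h := by
    have hk'odd : Odd (orderOf (y * k * y⁻¹)) := by
      have : orderOf (y * k * y⁻¹) = orderOf k := by
        rw [← MulAut.conj_apply, MulEquiv.orderOf_eq]
      rw [this]; exact hk
    have hbk' : b * (y * k * y⁻¹) * b⁻¹ = (y * k * y⁻¹)⁻¹ := by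
      calc b * (y * k * y⁻¹) * b⁻¹ = (b * y * b⁻¹) * (b * k * b⁻¹) * (b * y * b⁻¹)⁻¹ := by group
        _ = y * k⁻¹ * y⁻¹ := by rw [hby, hbk]
        _ = (y * k * y⁻¹)⁻¹ := by group
    obtain ⟨w, hwV, hw1, hw⟩ := hS _ b hb hk'odd hbk'
    rcases hV3 w hwV hw1 with rfl | rfl | rfl
    · -- `w = a`: then `h` inverts `k`
      exfalso
      have h1 : w * (y * k * y⁻¹) * w⁻¹ = y * k * y⁻¹ := by rw [hw]; group
      have h2 : w * (y * k * y⁻¹) * w⁻¹ = y⁻¹ * k⁻¹ * y := by
        calc w * (y * k * y⁻¹) * w⁻¹ = (w * y * w⁻¹) * (w * k * w⁻¹) * (w * y * w⁻¹)⁻¹ := by group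
          _ = y⁻¹ * k⁻¹ * y := by rw [hay, hak, inv_inv]
      have h3 : h * k * h⁻¹ = k⁻¹ := by
        have h4 : y * k * y⁻¹ = y⁻¹ * k⁻¹ * y := h1.symm.trans h2
        calc h * k * h⁻¹ = y * (y * k * y⁻¹) * y⁻¹ := by rw [← hyy]; group
          _ = y * (y⁻¹ * k⁻¹ * y) * y⁻¹ := by rw [h4]
          _ = k⁻¹ := by group
      have h5 := inv_eq_of_odd_inverts ⟨m, hm⟩ h3
      exact hk1 (eq_one_of_odd_of_inv_eq hk h5)
    · -- `w = b`
      exfalso
      have h1 : w * (y * k * y⁻¹) * w⁻¹ = y * k * y⁻¹ := by rw [hw]; group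
      have h2 : (y * k * y⁻¹)⁻¹ = y * k * y⁻¹ := hbk'.symm.trans h1
      have h3 := eq_one_of_odd_of_inv_eq hk'odd h2
      apply hk1
      calc k = y⁻¹ * (y * k * y⁻¹) * y := by group
        _ = 1 := by rw [h3]; group
    · -- `w = c`
      have h1 : w * (y * k * y⁻¹) * w⁻¹ = y * k * y⁻¹ := by rw [hw]; group
      have h2 : w * (y * k * y⁻¹) * w⁻¹ = y⁻¹ * k * y := by
        calc w * (y * k * y⁻¹) * w⁻¹ = (w * y * w⁻¹) * (w * k * w⁻¹) * (w * y * w⁻¹)⁻¹ := by group
          _ = y⁻¹ * k * y := by rw [hcy, hck, inv_inv]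
      have h4 : y * k * y⁻¹ = y⁻¹ * k * y := h1.symm.trans h2
      calc h * k = y * (y * k * y⁻¹) * y := by rw [← hyy]; group
        _ = y * (y⁻¹ * k * y) * y := by rw [h4]
        _ = k * h := by rw [← hyy]; group
  -- Step 2: the element `h * k`
  have huodd : Odd (orderOf (h * k)) := by
    have hc : Commute h k := hcomm
    have h1 := hc.orderOf_mul_dvd_lcm
    have h2 : Odd (Nat.lcm (orderOf h) (orderOf k)) := by
      have h3 : Nat.lcm (orderOf h) (orderOf k) ∣ orderOf h * orderOf k := Nat.lcm_dvd_mul _ _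
      exact (Odd.mul ⟨m, hm⟩ hk).of_dvd_nat h3
    exact h2.of_dvd_nat h1
  have hau : a * (h * k) * a⁻¹ = (h * k)⁻¹ := by
    calc a * (h * k) * a⁻¹ = (a * h * a⁻¹) * (a * k * a⁻¹) := by group
      _ = h⁻¹ * k⁻¹ := by rw [hah, hak]
      _ = (k * h)⁻¹ := by group
      _ = (h * k)⁻¹ := by rw [hcomm]
  obtain ⟨w, hwV, hw1, hw⟩ := hS _ a ha huodd hau
  have hwu : w * (h * k) * w⁻¹ = h * k := by rw [hw]; group
  rcases hV3 w hwV hw1 with rfl | rfl | rfl
  · -- `w = a`
    have h1 : (h * k)⁻¹ = h * k := hau.symm.trans hwu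
    have h2 := eq_one_of_odd_of_inv_eq huodd h1
    have h3 : k = h⁻¹ := by
      calc k = h⁻¹ * (h * k) := by group
        _ = h⁻¹ := by rw [h2, mul_one]
    have h4 : b * k * b⁻¹ = k := by
      rw [h3]
      calc b * h⁻¹ * b⁻¹ = (b * h * b⁻¹)⁻¹ := by group
        _ = h⁻¹ := by rw [hbh]
    exact hk1 (eq_one_of_odd_of_inv_eq hk (hbk.symm.trans h4))
  · -- `w = b`
    have h1 : w * (h * k) * w⁻¹ = h * k⁻¹ := by
      calc w * (h * k) * w⁻¹ = (w * h * w⁻¹) * (w * k * w⁻¹) := by group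
        _ = h * k⁻¹ := by rw [hbh, hbk]
    have h2 : h * k⁻¹ = h * k := h1.symm.trans hwu
    exact hk1 (eq_one_of_odd_of_inv_eq hk (mul_left_cancel h2))
  · -- `w = c`
    have h1 : w * (h * k) * w⁻¹ = h⁻¹ * k := by
      calc w * (h * k) * w⁻¹ = (w * h * w⁻¹) * (w * k * w⁻¹) := by group
        _ = h⁻¹ * k := by rw [hch, hck]
    have h2 : h⁻¹ * k = h * k := h1.symm.trans hwu
    exact hh1 (eq_one_of_odd_of_inv_eq ⟨m, hm⟩ (mul_right_cancel h2))


/-- Let G be a finite group and V a nontrivial elementary abelian 2-subgroup of G of order at most 4 such that, whenever an element of V inverts an element h of G of odd order, some nontrivial element of V commutes with h. Then V meets O₂(G) nontrivially. (The case of order at most 4 has a short argument from the Baer–Suzuki theorem.) -/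
theorem result {G : Type*} [Group G] [Finite G] (V : Subgroup G) (hV : Cfsg.IsElementaryAbelian 2 V) (hV1 : V ≠ ⊥) (hS : Cfsg.IsSidkiPair V) (h4 : Nat.card V ≤ 4) : V ⊓ Cfsg.pCore 2 G ≠ ⊥ := by
  classical
  intro hbot
  have hcore : Cfsg.pCore 2 G = ⨅ P : Sylow 2 G, (P : Subgroup G) :=
    Cfsg.Agent.helper1.pCore_eq_iInf_sylow 2
  have hnot : ∀ v ∈ V, v ≠ 1 → v ∉ (⨅ P : Sylow 2 G, (P : Subgroup G)) := by
    intro v hv hv1 hvO
    apply hv1
    have : v ∈ V ⊓ Cfsg.pCore 2 G := Subgroup.mem_inf.2 ⟨hv, by rw [hcore]; exact hvO⟩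
    rw [hbot] at this
    exact Subgroup.mem_bot.1 this
  have hsq : ∀ v ∈ V, v ^ 2 = 1 := hV.2
  have hVcomm : ∀ v ∈ V, ∀ w ∈ V, v * w = w * v := by
    intro v hv w hw
    have := hV.1.is_comm.comm ⟨v, hv⟩ ⟨w, hw⟩
    exact congrArg Subtype.val this
  have hinv : ∀ v ∈ V, v⁻¹ = v := by
    intro v hv
    rw [inv_eq_iff_mul_eq_one, ← pow_two]; exact hsq v hv
  obtain ⟨a, haV, ha1⟩ : ∃ a ∈ V, a ≠ 1 := by
    by_contra hno
    push Not at hno
    apply hV1
    rw [eq_bot_iff]
    intro x hx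
    exact Subgroup.mem_bot.2 (hno x hx)
  obtain ⟨h, hh1, hhodd, hah⟩ :=
    Cfsg.Agent.helper15.exists_inverted_odd_of_not_mem_iInf_sylow a (hsq a haV) (hnot a haV ha1)
  obtain ⟨b, hbV, hb1, hbh⟩ := hS h a haV hhodd hah
  have hbh' : b * h * b⁻¹ = h := by rw [hbh]; group
  have hab : a ≠ b := by
    rintro rfl
    exact hh1 (eq_one_of_odd_of_inv_eq hhodd (hah.symm.trans hbh'))
  have hcV : a * b ∈ V := V.mul_mem haV hbV
  have hch : (a * b) * h * (a * b)⁻¹ = h⁻¹ := by
    calc (a * b) * h * (a * b)⁻¹ = a * (b * h * b⁻¹) * a⁻¹ := by group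
      _ = h⁻¹ := by rw [hbh', hah]
  -- `V = {1, a, b, ab}`
  have hV3 : ∀ w ∈ V, w ≠ 1 → w = a ∨ w = b ∨ w = a * b := by
    have hcard : ({1, a, b, a * b} : Finset G).card = 4 := by
      have e1 : (1 : G) ∉ ({a, b, a * b} : Finset G) := by
        simp only [Finset.mem_insert, Finset.mem_singleton, not_or]
        refine ⟨fun e => ha1 e.symm, fun e => hb1 e.symm, fun e => ?_⟩
        exact hab ((eq_inv_of_mul_eq_one_left e.symm).trans (hinv b hbV))
      have e2 : a ∉ ({b, a * b} : Finset G) := by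
        simp only [Finset.mem_insert, Finset.mem_singleton, not_or]
        refine ⟨hab, fun e => hb1 ?_⟩
        calc b = a⁻¹ * (a * b) := by group
          _ = a⁻¹ * a := by rw [← e]
          _ = 1 := inv_mul_cancel a
      have e3 : b ∉ ({a * b} : Finset G) := by
        simp only [Finset.mem_singleton]
        intro e
        apply ha1
        calc a = (a * b) * b⁻¹ := by group
          _ = b * b⁻¹ := by rw [← e]
          _ = 1 := mul_inv_cancel b
      rw [Finset.card_insert_of_notMem e1, Finset.card_insert_of_notMem e2,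
        Finset.card_insert_of_notMem e3, Finset.card_singleton]
    have hsub : ((({1, a, b, a * b} : Finset G)) : Set G) ⊆ (V : Set G) := by
      intro x hx
      simp only [Finset.coe_insert, Finset.coe_singleton, Set.mem_insert_iff,
        Set.mem_singleton_iff] at hx
      rcases hx with rfl | rfl | rfl | rfl
      · exact V.one_mem
      · exact haV
      · exact hbV
      · exact hcV
    have hle : (V : Set G).ncard ≤ ((({1, a, b, a * b} : Finset G)) : Set G).ncard := by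
      rw [Set.ncard_coe_finset, hcard]
      have : (V : Set G).ncard = Nat.card V := by
        rw [← Nat.card_coe_set_eq]; rfl
      rw [this]; exact h4
    have heq := Set.eq_of_subset_of_ncard_le hsub hle (Set.toFinite _)
    intro w hwV hw1
    have hw : w ∈ ((({1, a, b, a * b} : Finset G)) : Set G) := by rw [heq]; exact hwV
    simp only [Finset.coe_insert, Finset.coe_singleton, Set.mem_insert_iff,
      Set.mem_singleton_iff] at hw
    rcases hw with h | h | h | h
    · exact absurd h hw1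
    · exact Or.inl h
    · exact Or.inr (Or.inl h)
    · exact Or.inr (Or.inr h)
  obtain ⟨k, hk1, hkodd, hbk⟩ :=
    Cfsg.Agent.helper15.exists_inverted_odd_of_not_mem_iInf_sylow b (hsq b hbV) (hnot b hbV hb1)
  obtain ⟨w, hwV, hw1, hwk⟩ := hS k b hbV hkodd hbk
  have hwk' : w * k * w⁻¹ = k := by rw [hwk]; group
  rcases hV3 w hwV hw1 with rfl | rfl | rfl
  · -- `w = a` centralizes `k`: roles (ab, b, a)
    have hck : (w * b) * k * (w * b)⁻¹ = k⁻¹ := by
      calc (w * b) * k * (w * b)⁻¹ = w * (b * k * b⁻¹) * w⁻¹ := by group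
        _ = w * k⁻¹ * w⁻¹ := by rw [hbk]
        _ = (w * k * w⁻¹)⁻¹ := by group
        _ = k⁻¹ := by rw [hwk']
    refine sidki_four_false V hS (w * b) b w h k hcV hbV ?_ hhodd hkodd hh1 hk1 hch hbh' hah hbk
      hwk' hck
    intro x hx hx1
    rcases hV3 x hx hx1 with e | e | e
    · exact Or.inr (Or.inr e)
    · exact Or.inr (Or.inl e)
    · exact Or.inl e
  · exact hk1 (eq_one_of_odd_of_inv_eq hkodd (hbk.symm.trans hwk'))
  · -- `w = ab` centralizes `k`: roles (a, b, ab)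
    have hak : a * k * a⁻¹ = k⁻¹ := by
      have e : a = (a * b) * b := by
        calc a = a * (b * b) := by rw [← pow_two, hsq b hbV, mul_one]
          _ = (a * b) * b := by group
      calc a * k * a⁻¹ = ((a * b) * b) * k * ((a * b) * b)⁻¹ := by rw [← e]
        _ = (a * b) * (b * k * b⁻¹) * (a * b)⁻¹ := by group
        _ = (a * b) * k⁻¹ * (a * b)⁻¹ := by rw [hbk]
        _ = ((a * b) * k * (a * b)⁻¹)⁻¹ := by group
        _ = k⁻¹ := by rw [hwk']
    exact sidki_four_false V hS a b (a * b) h k haV hbV hV3 hhodd hkodd hh1 hk1 hah hbh' hch hbk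
      hwk' hak

end Cfsg.Agent.S3011
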