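import Cfsg.Statements.S3020
import Cfsg.Agent.Lib_helper15_ExtClosed
import Cfsg.Agent.Lib_helper1_Core

set_option autoImplicit false
open Cfsg

namespace Cfsg.Agent.S3020

/-- Let G be a finite group, p a prime and H an abelian p-subgroup of G that is extremely closed (for every g, the subgroup generated by H and g H g⁻¹ meets N_G(H) exactly in H). Then for every g ∈ G, the subgroup T generated by H and g H g⁻¹ is the product of H with O_{p'}(T), and H meets O_{p'}(T) trivially; that is, O_{p'}(T) is a normal p-complement of H in T. -/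
theorem result {G : Type*} [Group G] [Finite G] {p : ℕ} [Fact p.Prime] (H : Subgroup G) (hHp : IsPGroup p H) (hHab : IsMulCommutative H) (hcl : Cfsg.IsExtremelyClosed H) (g : G) (T : Subgroup G) (hT : T = H ⊔ H.map (MulAut.conj g).toMonoidHom) : H ⊔ (Cfsg.pPrimeCore p ↥T).map T.subtype = T ∧ H ⊓ (Cfsg.pPrimeCore p ↥T).map T.subtype = ⊥ := by
  have hHT : H ≤ T := by rw [hT]; exact le_sup_left
  have hNT : T ⊓ Subgroup.normalizer (H : Set G) = H := by rw [hT]; exact hcl g
  let P : Sylow p ↥T := Cfsg.Agent.helper15.sylowOfIsExtremelyClosed H hHp hcl T hHT hNT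
  have hPcoe : (P : Subgroup ↥T) = H.subgroupOf T := rfl
  have hPc : Subgroup.normalizer ((P : Subgroup ↥T) : Set ↥T) ≤
      Subgroup.centralizer ((P : Subgroup ↥T) : Set ↥T) := by
    rw [hPcoe, ← Subgroup.subgroupOf_normalizer_eq hHT]
    intro x hx
    rw [Subgroup.mem_subgroupOf] at hx
    have hxH : (x : G) ∈ H := by
      rw [← hNT]; exact Subgroup.mem_inf.2 ⟨x.2, hx⟩
    rw [Subgroup.mem_centralizer_iff]
    intro y hy
    have hyH : (y : G) ∈ H := Subgroup.mem_subgroupOf.1 hy
    apply Subtype.ext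
    rw [Subgroup.coe_mul, Subgroup.coe_mul]
    exact Subgroup.mul_comm_of_mem_isMulCommutative (H := H) hyH hxH
  have hcompl := MonoidHom.ker_transferSylow_isComplement' P hPc
  have hnd := MonoidHom.not_dvd_card_ker_transferSylow P hPc
  have hKn : (MonoidHom.transferSylow P hPc).ker.Normal := MonoidHom.normal_ker _
  have hKle : (MonoidHom.transferSylow P hPc).ker ≤ Cfsg.pPrimeCore p ↥T :=
    Cfsg.Agent.helper1.le_pPrimeCore hKn
      ((Nat.Prime.coprime_iff_not_dvd (Fact.out : p.Prime)).mpr hnd).symm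
  have hPmap : (P : Subgroup ↥T).map T.subtype = H := by
    rw [hPcoe]; exact Subgroup.map_subgroupOf_eq_of_le hHT
  constructor
  · apply le_antisymm
    · exact sup_le hHT (Subgroup.map_subtype_le _)
    · have h1 : (⊤ : Subgroup ↥T).map T.subtype = T := by
        rw [← MonoidHom.range_eq_map, Subgroup.range_subtype]
      rw [← hcompl.sup_eq_top, Subgroup.map_sup, hPmap] at h1
      rw [sup_comm]
      calc T = (MonoidHom.transferSylow P hPc).ker.map T.subtype ⊔ H := h1.symm
        _ ≤ (Cfsg.pPrimeCore p ↥T).map T.subtype ⊔ H := sup_le_sup_right (Subgroup.map_mono hKle) H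
  · rw [eq_bot_iff]
    intro x hx
    obtain ⟨hxH, hxO⟩ := Subgroup.mem_inf.1 hx
    rw [Subgroup.mem_bot]
    have hcop : (Nat.card ↥((Cfsg.pPrimeCore p ↥T).map T.subtype)).Coprime p := by
      rw [Subgroup.card_map_of_injective T.subtype_injective]
      exact Cfsg.Agent.helper1.pPrimeCore_coprime p
    exact Cfsg.Agent.helper15.eq_one_of_mem_isPGroup_of_mem_coprime H hHp _ hcop x hxH hxO

end Cfsg.Agent.S3020
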