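import Cfsg.Statements.S3025
import Mathlib
import Cfsg.Agent.S0016

set_option autoImplicit false
open Cfsg

namespace Cfsg.Agent.S3025

/-- The normal closure of `H` is simple. -/
theorem simple_normalClosure {F : Type*} [Group F] [Finite F] (H : Subgroup F) (hH : H ≠ ⊥)
    (hmin : ∀ R : Subgroup F, R ≠ ⊥ → H ≤ Subgroup.normalizer (R : Set F) → H ≤ R) :
    IsSimpleGroup ↥(Subgroup.normalClosure (H : Set F)) := by
  set N := Subgroup.normalClosure (H : Set F) with hN
  have hHN : H ≤ N := Subgroup.le_normalClosure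
  have hNn : N.Normal := Subgroup.normalClosure_normal
  have hNne : N ≠ ⊥ := fun h => hH (le_bot_iff.1 (h ▸ hHN))
  haveI : Nontrivial ↥N := (Subgroup.nontrivial_iff_ne_bot N).2 hNne
  refine ⟨fun R hR => ?_⟩
  by_cases hRb : R = ⊥
  · exact Or.inl hRb
  right
  set R' : Subgroup F := R.map N.subtype with hR'
  have hR'N : R' ≤ N := Subgroup.map_subtype_le R
  have hR'ne : R' ≠ ⊥ := by
    intro h
    apply hRb
    rw [hR'] at h
    exact (Subgroup.map_eq_bot_iff_of_injective R N.subtype_injective).1 h
  have hNR' : N ≤ Subgroup.normalizer (R' : Set F) := by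
    intro n hn
    rw [Subgroup.mem_normalizer_iff]
    intro x
    constructor
    · rintro ⟨r, hr, rfl⟩
      exact ⟨⟨n, hn⟩ * r * ⟨n, hn⟩⁻¹, hR.conj_mem r hr _, by simp⟩
    · intro hx
      have hxN : x ∈ N := by
        have h1 := hR'N hx
        have h2 : x = n⁻¹ * (n * x * n⁻¹) * n := by group
        rw [h2]
        exact N.mul_mem (N.mul_mem (N.inv_mem hn) h1) hn
      obtain ⟨r, hr, hrx⟩ := hx
      have h3 := hR.conj_mem r hr ⟨n, hn⟩⁻¹
      refine ⟨⟨n, hn⟩⁻¹ * r * ⟨n, hn⟩⁻¹⁻¹, h3, ?_⟩
      simp only [Subgroup.coe_subtype, Subgroup.coe_mul, Subgroup.coe_inv, inv_inv]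
      have : (r : F) = n * x * n⁻¹ := hrx
      rw [this]; group
  -- every conjugate of `H` lies in `R'`
  have hconj : ∀ f : F, ∀ h ∈ H, f * h * f⁻¹ ∈ R' := by
    intro f h hh
    set R'' : Subgroup F := R'.map (MulAut.conj f⁻¹).toMonoidHom with hR''
    have hR''ne : R'' ≠ ⊥ := by
      intro hb
      apply hR'ne
      rw [hR''] at hb
      exact (Subgroup.map_eq_bot_iff_of_injective R' (MulAut.conj f⁻¹).injective).1 hb
    have hHR'' : H ≤ Subgroup.normalizer (R'' : Set F) := by
      intro y hy
      have hyN : f * y * f⁻¹ ∈ N := hNn.conj_mem y (hHN hy) f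
      have h1 := hNR' hyN
      have e := Subgroup.map_equiv_normalizer_eq R' (MulAut.conj f⁻¹)
      have h2 : y ∈ (Subgroup.normalizer (R' : Set F)).map (MulAut.conj f⁻¹).toMonoidHom := by
        refine ⟨f * y * f⁻¹, h1, ?_⟩
        simp only [MulEquiv.coe_toMonoidHom, MulAut.conj_apply]
        group
      rw [e] at h2
      exact h2
    have h3 := hmin R'' hR''ne hHR'' hh
    obtain ⟨r, hr, hrh⟩ := h3
    simp only [MulEquiv.coe_toMonoidHom, MulAut.conj_apply, inv_inv] at hrh
    have : f * h * f⁻¹ = r := by rw [← hrh]; group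
    rw [this]; exact hr
  have hNle : N ≤ R' := by
    rw [hN]
    show Subgroup.closure (Group.conjugatesOfSet (H : Set F)) ≤ R'
    rw [Subgroup.closure_le]
    intro a ha
    rw [Group.mem_conjugatesOfSet_iff] at ha
    obtain ⟨h, hh, hc⟩ := ha
    obtain ⟨c, hc⟩ := isConj_iff.1 hc
    rw [← hc]; exact hconj c h hh
  rw [eq_top_iff]
  intro x _
  obtain ⟨r, hr, hrx⟩ := hNle x.2
  have : r = x := Subtype.ext hrx
  rw [← this]; exact hr


/-- Let F be a finite group and H a nontrivial subgroup of F that is contained in every nontrivial subgroup of F which H normalizes. Then F has a nontrivial normal subgroup N contained in every nontrivial normal subgroup of F (a unique minimal normal subgroup), N is simple, and one of the following holds: C_F(N) = 1; or H = N has prime order p, C_F(N) is cyclic of order a power of p, and F/C_F(N) is cyclic of order dividing p − 1; or H = N has order 2, N is central in F, and F is a generalized quaternion group. -/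
theorem result {F : Type*} [Group F] [Finite F] (H : Subgroup F) (hH : H ≠ ⊥)
    (hmin : ∀ R : Subgroup F, R ≠ ⊥ → H ≤ Subgroup.normalizer (R : Set F) → H ≤ R) :
    ∃ N : Subgroup F, N.Normal ∧ N ≠ ⊥ ∧ (∀ M : Subgroup F, M.Normal → M ≠ ⊥ → N ≤ M) ∧ IsSimpleGroup ↥N ∧
      (Subgroup.centralizer (N : Set F) = ⊥ ∨
       (H = N ∧ (Nat.card N).Prime ∧ IsCyclic ↥(Subgroup.centralizer (N : Set F)) ∧
          (∃ k : ℕ, 1 ≤ k ∧ Nat.card ↥(Subgroup.centralizer (N : Set F)) = Nat.card N ^ k) ∧
          (∃ g : F, Subgroup.centralizer (N : Set F) ⊔ Subgroup.zpowers g = ⊤) ∧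
          (Subgroup.centralizer (N : Set F)).index ∣ Nat.card N - 1) ∨
       (H = N ∧ Nat.card N = 2 ∧ Subgroup.centralizer (N : Set F) = ⊤ ∧
          ∃ k : ℕ, 1 ≤ k ∧ Nonempty (F ≃* QuaternionGroup (2 ^ k)))) := by
  classical
  set N := Subgroup.normalClosure (H : Set F) with hN
  have hHN : H ≤ N := Subgroup.le_normalClosure
  have hNn : N.Normal := Subgroup.normalClosure_normal
  have hNne : N ≠ ⊥ := fun h => hH (le_bot_iff.1 (h ▸ hHN))
  have hleast : ∀ M : Subgroup F, M.Normal → M ≠ ⊥ → N ≤ M := by
    intro M hMn hMne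
    haveI := hMn
    have h1 : H ≤ M := hmin M hMne (by rw [Subgroup.normalizer_eq_top]; exact le_top)
    exact Subgroup.normalClosure_le_normal h1
  have hsimple := simple_normalClosure H hH hmin
  refine ⟨N, hNn, hNne, hleast, hsimple, ?_⟩
  by_cases hC : Subgroup.centralizer (N : Set F) = ⊥
  · exact Or.inl hC
  right
  haveI := hNn
  set C := Subgroup.centralizer (N : Set F) with hCdef
  have hCn : C.Normal := Subgroup.normal_centralizer
  have hNC : N ≤ C := hleast C hCn hC
  -- `N` is abelian
  have hNcomm : ∀ a ∈ N, ∀ b ∈ N, a * b = b * a := by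
    intro a ha b hb
    have := Subgroup.mem_centralizer_iff.1 (hNC hb) a ha
    exact this
  -- `H = N`
  have hHnormal : (H.subgroupOf N).Normal := by
    constructor
    intro x hx g
    rw [Subgroup.mem_subgroupOf] at hx ⊢
    have : ((g * x * g⁻¹ : ↥N) : F) = (x : F) := by
      simp only [Subgroup.coe_mul, Subgroup.coe_inv]
      rw [hNcomm g g.2 x x.2]; group
    rw [this]; exact hx
  have hHeqN : H = N := by
    apply le_antisymm hHN
    rcases hsimple.eq_bot_or_eq_top_of_normal _ hHnormal with h | h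
    · exfalso
      apply hH
      rw [Subgroup.subgroupOf_eq_bot] at h
      exact disjoint_self.1 (h.mono_right hHN)
    · rwa [Subgroup.subgroupOf_eq_top] at h
  -- every nontrivial subgroup of `C` contains `N`
  have hCsub : ∀ R : Subgroup F, R ≤ C → R ≠ ⊥ → N ≤ R := by
    intro R hRC hRne
    rw [← hHeqN]
    apply hmin R hRne
    rw [hHeqN]
    intro n hn
    have h1 : n ∈ Subgroup.centralizer (R : Set F) := by
      rw [Subgroup.mem_centralizer_iff]
      intro r hr
      exact (Subgroup.mem_centralizer_iff.1 (hRC hr) n hn).symm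
    exact Subgroup.centralizer_le_normalizer _ h1
  -- `N` has prime order
  obtain ⟨p, hp, hNp⟩ : ∃ p : ℕ, p.Prime ∧ Nat.card ↥N = p := by
    have hcard : Nat.card ↥N ≠ 1 := fun h => hNne (Subgroup.card_eq_one.1 h)
    obtain ⟨q, hq, hqd⟩ := Nat.exists_prime_and_dvd hcard
    haveI : Fact q.Prime := ⟨hq⟩
    obtain ⟨x, hx⟩ := exists_prime_orderOf_dvd_card' q hqd
    refine ⟨q, hq, ?_⟩
    have hzne : Subgroup.zpowers (x : F) ≠ ⊥ := by
      intro h
      rw [Subgroup.zpowers_eq_bot] at h
      have h1 : orderOf (x : F) = q := by rw [Subgroup.orderOf_coe]; exact hx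
      rw [h, orderOf_one] at h1
      exact hq.one_lt.ne h1
    have h2 := hCsub (Subgroup.zpowers (x : F)) (Subgroup.zpowers_le.2 (hNC x.2)) hzne
    have h3 := Subgroup.card_le_of_le h2
    rw [Nat.card_zpowers, Subgroup.orderOf_coe, hx] at h3
    exact le_antisymm h3 (Nat.le_of_dvd Nat.card_pos hqd)
  haveI : Fact p.Prime := ⟨hp⟩
  -- `C` is a `p`-group with a unique subgroup of order `p`
  have hCp : IsPGroup p ↥C := by
    obtain ⟨k, hk⟩ : ∃ k, Nat.card ↥C = p ^ k := by
      refine ⟨(Nat.card ↥C).factorization p, ?_⟩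
      apply Nat.eq_pow_of_factorization_eq_single Nat.card_pos.ne'
      ext q
      by_cases hqp : q = p
      · subst hqp; simp
      · rw [Finsupp.single_apply, if_neg (Ne.symm hqp)]
        by_contra hne
        have hq : q.Prime := Nat.prime_of_mem_primeFactors (Nat.support_factorization _ ▸
          Finsupp.mem_support_iff.2 hne)
        have hqd : q ∣ Nat.card ↥C := Nat.dvd_of_factorization_pos hne
        haveI : Fact q.Prime := ⟨hq⟩
        obtain ⟨x, hx⟩ := exists_prime_orderOf_dvd_card' q hqd
        have hzne : Subgroup.zpowers (x : F) ≠ ⊥ := by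
          intro h
          rw [Subgroup.zpowers_eq_bot] at h
          have h1 : orderOf (x : F) = q := by rw [Subgroup.orderOf_coe]; exact hx
          rw [h, orderOf_one] at h1
          exact hq.one_lt.ne h1
        have h2 := hCsub (Subgroup.zpowers (x : F)) (Subgroup.zpowers_le.2 x.2) hzne
        have h3 := Subgroup.card_dvd_of_le h2
        rw [Nat.card_zpowers, Subgroup.orderOf_coe, hx, hNp] at h3
        exact hqp ((Nat.prime_dvd_prime_iff_eq hp hq).1 h3).symm
    exact IsPGroup.of_card hk
  have huniq : ∀ A B : Subgroup ↥C, Nat.card A = p → Nat.card B = p → A = B := by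
    have key : ∀ A : Subgroup ↥C, Nat.card A = p → A.map C.subtype = N := by
      intro A hA
      have hAne : A.map C.subtype ≠ ⊥ := by
        intro h
        have h1 := (Subgroup.map_eq_bot_iff_of_injective A C.subtype_injective).1 h
        rw [h1, Subgroup.card_bot] at hA
        exact hp.one_lt.ne hA
      have h2 := hCsub _ (Subgroup.map_subtype_le A) hAne
      apply (Subgroup.eq_of_le_of_card_ge h2 _).symm
      rw [Subgroup.card_map_of_injective C.subtype_injective, hA, hNp]
    intro A B hA hB
    apply Subgroup.map_injective C.subtype_injective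
    rw [key A hA, key B hB]
  -- the conjugation action on `N`
  haveI hNcyc : IsCyclic ↥N := isCyclic_of_prime_card hNp
  have hker : (MulAut.conjNormal (H := N)).ker = C := by
    ext x
    rw [MonoidHom.mem_ker, hCdef, Subgroup.mem_centralizer_iff]
    constructor
    · intro h n hn
      have h1 := congrArg (fun φ : MulAut ↥N => ((φ ⟨n, hn⟩ : ↥N) : F)) h
      simp only [MulAut.conjNormal_apply, MulAut.one_apply] at h1
      calc n * x = (x * n * x⁻¹) * x := by rw [h1]
        _ = x * n := by group
    · intro h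
      ext n
      simp only [MulAut.conjNormal_apply, MulAut.one_apply]
      rw [← h n n.2]; group
  have hAutCyc : IsCyclic (MulAut ↥N) := by
    have e := IsCyclic.mulAutMulEquiv ↥N
    rw [hNp] at e
    haveI := ZMod.isCyclic_units_prime hp
    exact isCyclic_of_surjective e.symm e.symm.surjective
  have hAutCard : Nat.card (MulAut ↥N) = p - 1 := by
    rw [IsCyclic.card_mulAut, hNp, Nat.totient_prime hp]
  have hindex : C.index ∣ p - 1 := by
    rw [← hker, Subgroup.index_ker, ← hAutCard]
    exact Subgroup.card_subgroup_dvd_card _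
  have hgen : ∃ g : F, C ⊔ Subgroup.zpowers g = ⊤ := by
    haveI : IsCyclic ↥(MulAut.conjNormal (H := N)).range := Subgroup.isCyclic _
    obtain ⟨⟨γ, ⟨g, rfl⟩⟩, hγ⟩ := IsCyclic.exists_generator
      (α := ↥(MulAut.conjNormal (H := N)).range)
    refine ⟨g, ?_⟩
    rw [eq_top_iff]
    intro f _
    have h1 := hγ ⟨MulAut.conjNormal (H := N) f, ⟨f, rfl⟩⟩
    obtain ⟨k, hk⟩ := Subgroup.mem_zpowers_iff.1 h1
    have hk' : (MulAut.conjNormal (H := N) g) ^ k = MulAut.conjNormal (H := N) f := by
      have := congrArg Subtype.val hk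
      simpa using this
    have h2 : f * (g ^ k)⁻¹ ∈ C := by
      rw [← hker, MonoidHom.mem_ker, map_mul, map_inv, map_zpow, hk', mul_inv_cancel]
    have h3 : f = (f * (g ^ k)⁻¹) * g ^ k := by group
    rw [h3]
    exact Subgroup.mul_mem _ (Subgroup.mem_sup_left h2)
      (Subgroup.mem_sup_right (Subgroup.zpow_mem_zpowers g k))
  rcases Cfsg.Agent.S0016.result p hCp huniq with hcyc | ⟨hp2, n, ⟨e⟩⟩
  · left
    obtain ⟨k, hk⟩ := IsPGroup.iff_card.1 hCp
    refine ⟨hHeqN, by rw [hNp]; exact hp, hcyc, ⟨k, ?_, by rw [hNp]; exact hk⟩, hgen, by rw [hNp]; exact hindex⟩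
    by_contra hk0
    have : k = 0 := by omega
    rw [this, pow_zero] at hk
    exact hC (Subgroup.card_eq_one.1 hk)
  · by_cases hcyc : IsCyclic ↥C
    · left
      obtain ⟨k, hk⟩ := IsPGroup.iff_card.1 hCp
      refine ⟨hHeqN, by rw [hNp]; exact hp, hcyc, ⟨k, ?_, by rw [hNp]; exact hk⟩, hgen, by rw [hNp]; exact hindex⟩
      by_contra hk0
      have : k = 0 := by omega
      rw [this, pow_zero] at hk
      exact hC (Subgroup.card_eq_one.1 hk)
    · right
      have hCtop : C = ⊤ := by
        rw [← Subgroup.index_eq_one]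
        subst hp2
        exact Nat.dvd_one.1 hindex
      refine ⟨hHeqN, by rw [hNp, hp2], hCtop, n, ?_, ⟨?_⟩⟩
      · by_contra hn0
        have : n = 0 := by omega
        subst this
        apply hcyc
        haveI := QuaternionGroup.quaternionGroup_one_isCyclic
        rw [pow_zero] at e
        exact isCyclic_of_surjective e.symm e.symm.surjective
      · exact (Subgroup.topEquiv.symm.trans (MulEquiv.subgroupCongr hCtop.symm)).trans e

end Cfsg.Agent.S3025
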