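import Cfsg.Statements.S3027
import Cfsg.Agent.Lib_helper15_ExtClosed
import Cfsg.Agent.Lib_helper7_Coprime

set_option autoImplicit false
open Cfsg

namespace Cfsg.Agent.S3027

open Cfsg.Agent.helper15

theorem cover_iff {G : Type*} [Group G] (D : Subgroup G) [D.Normal] (H : Subgroup G) :
    H ⊔ D = ⊤ ↔ H.map (QuotientGroup.mk' D) = ⊤ := by
  constructor
  · intro h
    have h1 : (H ⊔ D).map (QuotientGroup.mk' D) = H.map (QuotientGroup.mk' D) := by
      rw [Subgroup.map_sup, QuotientGroup.map_mk'_self, sup_bot_eq]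
    rw [← h1, h, Subgroup.map_top_of_surjective _ (QuotientGroup.mk'_surjective D)]
  · intro h
    have h1 := Subgroup.comap_map_eq (QuotientGroup.mk' D) H
    rw [QuotientGroup.ker_mk', h, Subgroup.comap_top] at h1
    exact h1.symm

theorem cover_commutator {G : Type*} [Group G] (D : Subgroup G) [D.Normal]
    (hperf : ⁅(⊤ : Subgroup G), (⊤ : Subgroup G)⁆ ⊔ D = ⊤) (H L : Subgroup G)
    (hH : H ⊔ D = ⊤) (hL : L ⊔ D = ⊤) : ⁅H, L⁆ ⊔ D = ⊤ := by
  rw [cover_iff] at hperf hH hL ⊢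
  rw [Subgroup.map_commutator] at hperf ⊢
  rw [hH, hL]
  rw [Subgroup.map_top_of_surjective _ (QuotientGroup.mk'_surjective D)] at hperf
  exact hperf

theorem cover_inf {G : Type*} [Group G] (D : Subgroup G) [D.Normal]
    (hperf : ⁅(⊤ : Subgroup G), (⊤ : Subgroup G)⁆ ⊔ D = ⊤) (H L : Subgroup G)
    (hHL : H ≤ Subgroup.normalizer (L : Set G)) (hLH : L ≤ Subgroup.normalizer (H : Set G))
    (hH : H ⊔ D = ⊤) (hL : L ⊔ D = ⊤) : (H ⊓ L) ⊔ D = ⊤ := by
  have h1 := cover_commutator D hperf H L hH hL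
  have h2 : ⁅H, L⁆ ≤ H ⊓ L := by
    apply le_inf
    · exact Cfsg.Agent.helper7.commutator_le_of_normalizer hLH
    · rw [Subgroup.commutator_comm]
      exact Cfsg.Agent.helper7.commutator_le_of_normalizer hHL
  rw [eq_top_iff, ← h1]
  exact sup_le_sup_right h2 D

theorem cover_map_conj {G : Type*} [Group G] (D : Subgroup G) [hD : D.Normal] (H : Subgroup G)
    (g : G) (hH : H ⊔ D = ⊤) : H.map (MulAut.conj g).toMonoidHom ⊔ D = ⊤ := by
  have h1 : D.map (MulAut.conj g).toMonoidHom = D := by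
    apply le_antisymm
    · rintro _ ⟨d, hd, rfl⟩
      simp only [MulEquiv.coe_toMonoidHom, MulAut.conj_apply]
      exact hD.conj_mem d hd g
    · intro d hd
      refine ⟨g⁻¹ * d * g, ?_, ?_⟩
      · have := hD.conj_mem d hd g⁻¹
        rwa [inv_inv] at this
      · simp only [MulEquiv.coe_toMonoidHom, MulAut.conj_apply]
        group
  have h2 : (H ⊔ D).map (MulAut.conj g).toMonoidHom = H.map (MulAut.conj g).toMonoidHom ⊔ D := by
    rw [Subgroup.map_sup, h1]
  rw [← h2, hH, Subgroup.map_top_of_surjective _ (MulAut.conj g).surjective]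


/-- Let G be a finite group and D a normal subgroup of G such that G/D is perfect (that is, G = G′D). Then among the subnormal subgroups B of G with BD = G there is a least one, and it is normal in G. -/
theorem result {G : Type*} [Group G] [Finite G] (D : Subgroup G) [D.Normal] (hperf : ⁅(⊤ : Subgroup G), (⊤ : Subgroup G)⁆ ⊔ D = ⊤) :
    ∃ B : Subgroup G, B.Normal ∧ B ⊔ D = ⊤ ∧ ∀ B' : Subgroup G, B'.IsSubnormal → B' ⊔ D = ⊤ → B ≤ B' := by
  classical
  -- a minimal normal covering subgroup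
  let 𝒩 : Set (Subgroup G) := {N | N.Normal ∧ N ⊔ D = ⊤}
  have h𝒩 : 𝒩.Nonempty := ⟨⊤, inferInstance, top_sup_eq _⟩
  obtain ⟨N₁, ⟨hN₁n, hN₁c⟩, hN₁min⟩ := (Set.toFinite 𝒩).exists_minimal h𝒩
  haveI := hN₁n
  have hleast : ∀ N : Subgroup G, N.Normal → N ⊔ D = ⊤ → N₁ ≤ N := by
    intro N hNn hNc
    haveI := hNn
    have h1 : (N₁ ⊓ N) ⊔ D = ⊤ := cover_inf D hperf N₁ N
      (by rw [Subgroup.normalizer_eq_top]; exact le_top)
      (by rw [Subgroup.normalizer_eq_top]; exact le_top) hN₁c hNc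
    have h2 : N₁ ⊓ N ∈ 𝒩 := ⟨inferInstance, h1⟩
    have h3 := hN₁min h2 inf_le_left
    exact h3.trans inf_le_right
  refine ⟨N₁, hN₁n, hN₁c, ?_⟩
  intro B hB
  induction hB with
  | top => intro _; exact le_top
  | step B K hle hK hN ih =>
    intro hBc
    have hKc : K ⊔ D = ⊤ := by
      rw [eq_top_iff, ← hBc]
      exact sup_le_sup_right hle D
    have hN₁K := ih hKc
    have hKB : K ≤ Subgroup.normalizer (B : Set G) :=
      (Subgroup.normal_subgroupOf_iff_le_normalizer hle).1 hN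
    have hN₁B : N₁ ≤ Subgroup.normalizer (B : Set G) := hN₁K.trans hKB
    have hBN₁ : B ≤ Subgroup.normalizer (N₁ : Set G) := by
      rw [Subgroup.normalizer_eq_top]; exact le_top
    have hN₁N₁ : N₁ ≤ Subgroup.normalizer (N₁ : Set G) := Subgroup.le_normalizer
    have hCc : (B ⊓ N₁) ⊔ D = ⊤ := cover_inf D hperf B N₁ hBN₁ hN₁B hBc hN₁c
    let 𝒮 : Set (Subgroup G) :=
      {C' | C' ≤ B ⊓ N₁ ∧ N₁ ≤ Subgroup.normalizer (C' : Set G) ∧ C' ⊔ D = ⊤}
    have h𝒮 : 𝒮.Nonempty := ⟨B ⊓ N₁, le_rfl,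
      (le_inf hN₁B hN₁N₁).trans Subgroup.inf_normalizer_le_normalizer_inf, hCc⟩
    obtain ⟨C', ⟨hC'le, hC'n, hC'c⟩, hC'min⟩ := (Set.toFinite 𝒮).exists_minimal h𝒮
    have hC'N₁ : C' ≤ N₁ := hC'le.trans inf_le_right
    have hkey : ∀ g : G, C' ≤ C'.map (MulAut.conj g).toMonoidHom := by
      intro g
      set C'' := C'.map (MulAut.conj g).toMonoidHom with hC''
      have h1 : C'' ≤ N₁ := by
        rintro _ ⟨c, hc, rfl⟩
        simp only [MulEquiv.coe_toMonoidHom, MulAut.conj_apply]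
        exact hN₁n.conj_mem c (hC'N₁ hc) g
      have h2 : N₁ ≤ Subgroup.normalizer (C'' : Set G) := by
        have e := Subgroup.map_equiv_normalizer_eq C' (MulAut.conj g)
        rw [hC'']
        intro n hn
        have hn' : g⁻¹ * n * g ∈ Subgroup.normalizer (C' : Set G) := by
          apply hC'n
          have := hN₁n.conj_mem n hn g⁻¹
          rwa [inv_inv] at this
        have : n ∈ (Subgroup.normalizer (C' : Set G)).map (MulAut.conj g).toMonoidHom := by
          refine ⟨g⁻¹ * n * g, hn', ?_⟩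
          simp only [MulEquiv.coe_toMonoidHom, MulAut.conj_apply]
          group
        rw [e] at this
        exact this
      have h3 : C'' ⊔ D = ⊤ := cover_map_conj D C' g hC'c
      have h4 : (C' ⊓ C'') ⊔ D = ⊤ := cover_inf D hperf C' C'' (hC'N₁.trans h2) (h1.trans hC'n) hC'c h3
      have h5 : C' ⊓ C'' ∈ 𝒮 := ⟨inf_le_left.trans hC'le,
        (le_inf hC'n h2).trans Subgroup.inf_normalizer_le_normalizer_inf, h4⟩
      have h6 := hC'min h5 inf_le_left
      exact h6.trans inf_le_right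
    have hC'normal : C'.Normal := by
      rw [← Subgroup.normalizer_eq_top_iff, eq_top_iff]
      intro g _
      apply mem_normalizer_of_map_conj_le
      have h1 := hkey g⁻¹
      rintro _ ⟨c, hc, rfl⟩
      obtain ⟨c', hc', hcc'⟩ := h1 hc
      simp only [MulEquiv.coe_toMonoidHom, MulAut.conj_apply] at hcc' ⊢
      rw [← hcc']
      have : g * (g⁻¹ * c' * g⁻¹⁻¹) * g⁻¹ = c' := by group
      rw [this]
      exact hc'
    exact (hleast C' hC'normal hC'c).trans (hC'le.trans inf_le_left)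

end Cfsg.Agent.S3027
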