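import Cfsg.Statements.S3036
import Cfsg.Agent.Lib_helper15_CD2

set_option autoImplicit false
open Cfsg

namespace Cfsg.Agent.S3036

open Cfsg.Agent.helper15

/-- Let G be a finite non-abelian simple group and A a proper nontrivial subgroup of G. Then |G| > |A| · |C_G(A)|. In particular |G| > |A|² for every nontrivial abelian subgroup A of G. -/
theorem result {G : Type*} [Group G] [Finite G] [IsSimpleGroup G] (hG : ¬ IsMulCommutative G) (A : Subgroup G) (hA1 : A ≠ ⊥) (hA2 : A ≠ ⊤) : Nat.card A * Nat.card ↥(Subgroup.centralizer (A : Set G)) < Nat.card G := by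
  -- the centre is trivial
  have hZ : Subgroup.center G = ⊥ := by
    rcases (inferInstance : (Subgroup.center G).Normal).eq_bot_or_eq_top with h | h
    · exact h
    · exfalso
      apply hG
      refine ⟨⟨fun a b => ?_⟩⟩
      have hb : b ∈ Subgroup.center G := by rw [h]; exact Subgroup.mem_top b
      exact (Subgroup.mem_center_iff.1 hb a)
  have hbot : cdMeasure (⊥ : Subgroup G) = Nat.card G := cdMeasure_bot
  have htop : cdMeasure (⊤ : Subgroup G) = Nat.card G := by
    rw [cdMeasure_top, hZ]; simp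
  -- key claim: a member of largest measure other than ⊤ is ⊥
  have key : ∀ H : Subgroup G, IsCDMax H → H ≠ ⊤ → H = ⊥ := by
    intro H hH hHtop
    set S : Set (Subgroup G) := {K | IsCDMax K ∧ K ≠ ⊤} with hS
    have hfin : S.Finite := Set.toFinite S
    obtain ⟨H₁, ⟨hH₁, hH₁top⟩, hmax⟩ :=
      Set.exists_max_image S (fun K : Subgroup G => Nat.card ↥K) hfin ⟨H, hH, hHtop⟩
    have hnorm : H₁.Normal := by
      constructor
      intro n hn g
      set H₂ : Subgroup G := H₁.map (MulAut.conj g).toMonoidHom with hH₂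
      have hH₂max : IsCDMax H₂ := hH₁.map_equiv (MulAut.conj g)
      obtain ⟨h1, -, h3, -, -⟩ := hH₁.sup_inf hH₂max
      have hne : H₁ ⊔ H₂ ≠ ⊤ := by
        intro htop'
        apply hH₁top
        apply eq_top_of_mul_conj_eq_univ H₁ g
        rw [← h3, htop']
        rfl
      have hle := hmax (H₁ ⊔ H₂) ⟨h1, hne⟩
      have heq : H₁ = H₁ ⊔ H₂ := Subgroup.eq_of_le_of_card_ge le_sup_left hle
      have : H₂ ≤ H₁ := by
        calc H₂ ≤ H₁ ⊔ H₂ := le_sup_right
          _ = H₁ := heq.symm
      exact this ⟨n, hn, rfl⟩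
    have hH₁bot : H₁ = ⊥ := (hnorm.eq_bot_or_eq_top).resolve_right hH₁top
    have hcard := hmax H ⟨hH, hHtop⟩
    simp only [hH₁bot, Subgroup.card_bot] at hcard
    have hpos : 0 < Nat.card ↥H := Nat.card_pos
    exact Subgroup.card_eq_one.1 (by omega)
  -- the largest measure is |G|
  obtain ⟨H₀, hH₀⟩ := exists_isCDMax (G := G)
  have hM : cdMeasure H₀ = Nat.card G := by
    by_cases h : H₀ = ⊤
    · rw [h, htop]
    · rw [key H₀ hH₀ h, hbot]
  by_contra hlt
  push Not at hlt
  have hAmax : IsCDMax A := by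
    apply hH₀.of_measure_eq
    apply le_antisymm (hH₀ A)
    rw [hM]
    exact hlt
  exact hA1 (key A hAmax hA2)

end Cfsg.Agent.S3036
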