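import Cfsg.Statements.S3037
import Cfsg.Agent.Lib_helper15_CD
import Cfsg.Agent.Lib_helper15_ExtClosed

set_option autoImplicit false
open Cfsg

namespace Cfsg.Agent.S3037

/-- Let V and G be subgroups of a finite group with V an elementary abelian p-group (p prime) on which G acts faithfully and irreducibly by conjugation: G normalizes V, G ∩ C(V) = 1, and the only subgroups of V normalized by G are 1 and V. If for some nontrivial subgroup A of G and some real α > 0 one has |V| ≤ |A|^α · |C_V(A)|, then |V| ≤ |G|^α. -/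
theorem result {X : Type*} [Group X] [Finite X] {p : ℕ} [Fact p.Prime] (V G : Subgroup X) (hV : Cfsg.IsElementaryAbelian p V)
    (hGV : G ≤ Subgroup.normalizer (V : Set X)) (hfaith : G ⊓ Subgroup.centralizer (V : Set X) = ⊥)
    (hirr : ∀ W : Subgroup X, W ≤ V → G ≤ Subgroup.normalizer (W : Set X) → W = ⊥ ∨ W = V)
    (A : Subgroup X) (hA : A ≤ G) (hA1 : A ≠ ⊥) (α : ℝ) (hα : 0 < α)
    (hbig : (Nat.card V : ℝ) ≤ (Nat.card A : ℝ) ^ α * (Nat.card ↥(V ⊓ Subgroup.centralizer (A : Set X)) : ℝ)) :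
    (Nat.card V : ℝ) ≤ (Nat.card G : ℝ) ^ α := by
  classical
  -- the measure
  set m : Subgroup X → ℝ := fun B =>
    (Nat.card ↥B : ℝ) ^ α * (Nat.card ↥(V ⊓ Subgroup.centralizer (B : Set X)) : ℝ) with hm
  have hmpos : ∀ B : Subgroup X, 0 < m B := by
    intro B
    have h1 : (0 : ℝ) < (Nat.card ↥B : ℝ) := by exact_mod_cast Nat.card_pos
    have h2 : (0 : ℝ) < (Nat.card ↥(V ⊓ Subgroup.centralizer (B : Set X)) : ℝ) := by
      exact_mod_cast Nat.card_pos
    exact mul_pos (Real.rpow_pos_of_pos h1 α) h2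
  -- the key inequality
  have hkey : ∀ B C : Subgroup X, m B * m C ≤ m (B ⊔ C) * m (B ⊓ C) := by
    intro B C
    have h1 : (Nat.card ↥B * Nat.card ↥C : ℝ) ≤ (Nat.card ↥(B ⊔ C) * Nat.card ↥(B ⊓ C) : ℝ) := by
      exact_mod_cast Cfsg.Agent.helper15.card_mul_card_le_sup_inf B C
    have h2 := Cfsg.Agent.helper15.card_mul_card_le_sup_inf
      (V ⊓ Subgroup.centralizer (B : Set X)) (V ⊓ Subgroup.centralizer (C : Set X))
    have h3 : (V ⊓ Subgroup.centralizer (B : Set X)) ⊔ (V ⊓ Subgroup.centralizer (C : Set X)) ≤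
        V ⊓ Subgroup.centralizer ((B ⊓ C : Subgroup X) : Set X) := by
      apply sup_le
      · exact inf_le_inf_left _ (Subgroup.centralizer_le (SetLike.coe_subset_coe.2 inf_le_left))
      · exact inf_le_inf_left _ (Subgroup.centralizer_le (SetLike.coe_subset_coe.2 inf_le_right))
    have h4 : (V ⊓ Subgroup.centralizer (B : Set X)) ⊓ (V ⊓ Subgroup.centralizer (C : Set X)) =
        V ⊓ Subgroup.centralizer ((B ⊔ C : Subgroup X) : Set X) := by
      rw [Cfsg.Agent.helper15.centralizer_sup_eq]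
      ext x
      simp only [Subgroup.mem_inf]
      tauto
    rw [h4] at h2
    have h5 : Nat.card ↥(V ⊓ Subgroup.centralizer (B : Set X)) *
        Nat.card ↥(V ⊓ Subgroup.centralizer (C : Set X)) ≤
        Nat.card ↥(V ⊓ Subgroup.centralizer ((B ⊓ C : Subgroup X) : Set X)) *
        Nat.card ↥(V ⊓ Subgroup.centralizer ((B ⊔ C : Subgroup X) : Set X)) :=
      h2.trans (Nat.mul_le_mul_right _ (Subgroup.card_le_of_le h3))
    have h5' : (Nat.card ↥(V ⊓ Subgroup.centralizer (B : Set X)) *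
        Nat.card ↥(V ⊓ Subgroup.centralizer (C : Set X)) : ℝ) ≤
        (Nat.card ↥(V ⊓ Subgroup.centralizer ((B ⊓ C : Subgroup X) : Set X)) *
        Nat.card ↥(V ⊓ Subgroup.centralizer ((B ⊔ C : Subgroup X) : Set X)) : ℝ) := by
      exact_mod_cast h5
    have hB0 : (0 : ℝ) ≤ (Nat.card ↥B : ℝ) := Nat.cast_nonneg _
    have hC0 : (0 : ℝ) ≤ (Nat.card ↥C : ℝ) := Nat.cast_nonneg _
    have hS0 : (0 : ℝ) ≤ (Nat.card ↥(B ⊔ C) : ℝ) := Nat.cast_nonneg _
    have hI0 : (0 : ℝ) ≤ (Nat.card ↥(B ⊓ C) : ℝ) := Nat.cast_nonneg _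
    have h6 : (Nat.card ↥B : ℝ) ^ α * (Nat.card ↥C : ℝ) ^ α ≤
        (Nat.card ↥(B ⊔ C) : ℝ) ^ α * (Nat.card ↥(B ⊓ C) : ℝ) ^ α := by
      rw [← Real.mul_rpow hB0 hC0, ← Real.mul_rpow hS0 hI0]
      exact Real.rpow_le_rpow (mul_nonneg hB0 hC0) h1 hα.le
    have h7 : (0 : ℝ) ≤ (Nat.card ↥(V ⊓ Subgroup.centralizer (B : Set X)) *
        Nat.card ↥(V ⊓ Subgroup.centralizer (C : Set X)) : ℝ) := by positivity
    have h8 : (0 : ℝ) ≤ (Nat.card ↥(B ⊔ C) : ℝ) ^ α * (Nat.card ↥(B ⊓ C) : ℝ) ^ α := by positivity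
    calc m B * m C = ((Nat.card ↥B : ℝ) ^ α * (Nat.card ↥C : ℝ) ^ α) *
          ((Nat.card ↥(V ⊓ Subgroup.centralizer (B : Set X)) : ℝ) *
            (Nat.card ↥(V ⊓ Subgroup.centralizer (C : Set X)) : ℝ)) := by rw [hm]; ring
      _ ≤ ((Nat.card ↥(B ⊔ C) : ℝ) ^ α * (Nat.card ↥(B ⊓ C) : ℝ) ^ α) *
          ((Nat.card ↥(V ⊓ Subgroup.centralizer ((B ⊓ C : Subgroup X) : Set X)) : ℝ) *
            (Nat.card ↥(V ⊓ Subgroup.centralizer ((B ⊔ C : Subgroup X) : Set X)) : ℝ)) :=
        mul_le_mul h6 h5' h7 h8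
      _ = m (B ⊔ C) * m (B ⊓ C) := by rw [hm]; ring
  -- a subgroup of `G` of maximal measure
  obtain ⟨B₀, hB₀G, hB₀max⟩ := Set.exists_max_image {B : Subgroup X | B ≤ G} m (Set.toFinite _)
    ⟨⊥, (bot_le : (⊥ : Subgroup X) ≤ G)⟩
  -- among those, one of maximal order
  obtain ⟨B, ⟨hBG, hBm⟩, hBmax⟩ := Set.exists_max_image {B : Subgroup X | B ≤ G ∧ m B = m B₀}
    (fun B => Nat.card ↥B) (Set.toFinite _) ⟨B₀, hB₀G, rfl⟩
  have hmaxB : ∀ C : Subgroup X, C ≤ G → m C ≤ m B := fun C hC => by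
    rw [hBm]; exact hB₀max C hC
  -- every subgroup of maximal measure lies in `B`
  have hle : ∀ C : Subgroup X, C ≤ G → m C = m B → C ≤ B := by
    intro C hCG hCm
    have h1 := hkey B C
    have h2 : m (B ⊓ C) ≤ m B := hmaxB _ (inf_le_left.trans hBG)
    have h3 : m (B ⊔ C) ≤ m B := hmaxB _ (sup_le hBG hCG)
    have h4 : m B ≤ m (B ⊔ C) := by
      by_contra hlt
      push Not at hlt
      have : m (B ⊔ C) * m (B ⊓ C) < m B * m B :=
        mul_lt_mul hlt h2 (hmpos _) (hmpos _).le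
      rw [hCm] at h1
      linarith
    have h5 : m (B ⊔ C) = m B₀ := by rw [← hBm]; exact le_antisymm h3 h4
    have h6 := hBmax (B ⊔ C) ⟨sup_le hBG hCG, h5⟩
    have h7 : B ⊔ C = B := (Subgroup.eq_of_le_of_card_ge le_sup_left h6).symm
    rw [← h7]; exact le_sup_right
  -- `G` normalizes `B`
  have hGB : G ≤ Subgroup.normalizer (B : Set X) := by
    intro g hg
    apply Cfsg.Agent.helper15.mem_normalizer_of_map_conj_le
    apply hle
    · rintro _ ⟨b, hb, rfl⟩
      simp only [MulEquiv.coe_toMonoidHom, MulAut.conj_apply]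
      exact G.mul_mem (G.mul_mem hg (hBG hb)) (G.inv_mem hg)
    · apply le_antisymm
      · apply hmaxB
        rintro _ ⟨b, hb, rfl⟩
        simp only [MulEquiv.coe_toMonoidHom, MulAut.conj_apply]
        exact G.mul_mem (G.mul_mem hg (hBG hb)) (G.inv_mem hg)
      · have h1 : Nat.card ↥(B.map (MulAut.conj g).toMonoidHom) = Nat.card ↥B :=
          Subgroup.card_map_of_injective (MulAut.conj g).injective
        have h2 : (V ⊓ Subgroup.centralizer (B : Set X)).map (MulAut.conj g).toMonoidHom ≤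
            V ⊓ Subgroup.centralizer ((B.map (MulAut.conj g).toMonoidHom : Subgroup X) : Set X) := by
          rintro _ ⟨v, ⟨hvV, hvC⟩, rfl⟩
          simp only [MulEquiv.coe_toMonoidHom, MulAut.conj_apply]
          refine Subgroup.mem_inf.2 ⟨(Subgroup.mem_normalizer_iff.1 (hGV hg) v).1 hvV, ?_⟩
          have hvC' : v ∈ Subgroup.centralizer (B : Set X) := hvC
          rw [Subgroup.mem_centralizer_iff]
          rintro _ ⟨b, hb, rfl⟩
          simp only [MulEquiv.coe_toMonoidHom, MulAut.conj_apply]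
          have := Subgroup.mem_centralizer_iff.1 hvC' b hb
          calc g * b * g⁻¹ * (g * v * g⁻¹) = g * (b * v) * g⁻¹ := by group
            _ = g * (v * b) * g⁻¹ := by rw [this]
            _ = g * v * g⁻¹ * (g * b * g⁻¹) := by group
        have h3 : Nat.card ↥(V ⊓ Subgroup.centralizer (B : Set X)) ≤
            Nat.card ↥(V ⊓ Subgroup.centralizer
              ((B.map (MulAut.conj g).toMonoidHom : Subgroup X) : Set X)) := by
          rw [← Subgroup.card_map_of_injective (f := (MulAut.conj g).toMonoidHom)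
            (K := V ⊓ Subgroup.centralizer (B : Set X)) (MulAut.conj g).injective]
          exact Subgroup.card_le_of_le h2
        have h3' : (Nat.card ↥(V ⊓ Subgroup.centralizer (B : Set X)) : ℝ) ≤
            (Nat.card ↥(V ⊓ Subgroup.centralizer
              ((B.map (MulAut.conj g).toMonoidHom : Subgroup X) : Set X)) : ℝ) := by
          exact_mod_cast h3
        show (Nat.card ↥B : ℝ) ^ α * _ ≤ (Nat.card ↥(B.map (MulAut.conj g).toMonoidHom) : ℝ) ^ α * _
        rw [h1]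
        exact mul_le_mul_of_nonneg_left h3' (by positivity)
  -- measure of the trivial subgroup
  have hmbot : m ⊥ = (Nat.card ↥V : ℝ) := by
    rw [hm]
    simp only [Subgroup.card_bot, Nat.cast_one, Real.one_rpow, one_mul]
    have : V ⊓ Subgroup.centralizer (((⊥ : Subgroup X) : Subgroup X) : Set X) = V := by
      rw [inf_eq_left]
      intro v _
      rw [Subgroup.mem_centralizer_iff]
      intro b hb
      rw [SetLike.mem_coe, Subgroup.mem_bot] at hb
      rw [hb, one_mul, mul_one]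
    rw [this]
  have hAm : (Nat.card ↥V : ℝ) ≤ m A := hbig
  -- `B` is nontrivial
  have hB1 : B ≠ ⊥ := by
    intro hB
    have h1 : m A ≤ m B := hmaxB A hA
    rw [hB, hmbot] at h1
    have h2 : m A = m B := by rw [hB, hmbot]; exact le_antisymm h1 hAm
    have h3 := hle A hA h2
    rw [hB] at h3
    exact hA1 (eq_bot_iff.2 h3)
  -- `C_V(B)` is `G`-invariant
  have hWn : G ≤ Subgroup.normalizer ((V ⊓ Subgroup.centralizer (B : Set X) : Subgroup X) : Set X) := by
    intro g hg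
    apply Cfsg.Agent.helper15.mem_normalizer_of_map_conj_le
    rintro _ ⟨v, ⟨hvV, hvC⟩, rfl⟩
    simp only [MulEquiv.coe_toMonoidHom, MulAut.conj_apply]
    refine Subgroup.mem_inf.2 ⟨(Subgroup.mem_normalizer_iff.1 (hGV hg) v).1 hvV, ?_⟩
    have hvC' : v ∈ Subgroup.centralizer (B : Set X) := hvC
    rw [Subgroup.mem_centralizer_iff]
    intro b hb
    have hb' : g⁻¹ * b * g⁻¹⁻¹ ∈ B :=
      (Subgroup.mem_normalizer_iff.1 (hGB (G.inv_mem hg)) b).1 hb
    have := Subgroup.mem_centralizer_iff.1 hvC' _ hb'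
    calc b * (g * v * g⁻¹) = g * ((g⁻¹ * b * g⁻¹⁻¹) * v) * g⁻¹ := by group
      _ = g * (v * (g⁻¹ * b * g⁻¹⁻¹)) * g⁻¹ := by rw [this]
      _ = g * v * g⁻¹ * b := by group
  have hW : V ⊓ Subgroup.centralizer (B : Set X) = ⊥ := by
    rcases hirr _ inf_le_left hWn with h | h
    · exact h
    · exfalso
      apply hB1
      rw [eq_bot_iff, ← hfaith]
      refine le_inf hBG ?_
      intro b hb
      rw [Subgroup.mem_centralizer_iff]
      intro v hv
      have hv' : v ∈ V ⊓ Subgroup.centralizer (B : Set X) := by rw [h]; exact hv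
      exact (Subgroup.mem_centralizer_iff.1 hv'.2 b hb).symm
  have hmB : m B = (Nat.card ↥B : ℝ) ^ α := by
    show (Nat.card ↥B : ℝ) ^ α * (Nat.card ↥(V ⊓ Subgroup.centralizer (B : Set X)) : ℝ) = _
    rw [hW, Subgroup.card_bot, Nat.cast_one, mul_one]
  calc (Nat.card ↥V : ℝ) ≤ m A := hAm
    _ ≤ m B := hmaxB A hA
    _ = (Nat.card ↥B : ℝ) ^ α := hmB
    _ ≤ (Nat.card ↥G : ℝ) ^ α := by
      apply Real.rpow_le_rpow (Nat.cast_nonneg _) _ hα.le
      exact_mod_cast Subgroup.card_le_of_le hBG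

end Cfsg.Agent.S3037
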