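import Cfsg.Statements.S3048
import Cfsg.Agent.Lib_helper15_Sid4
import Cfsg.Agent.Lib_helper7_FStar

set_option autoImplicit false
universe u
open Cfsg

namespace Cfsg.Agent.S3048

/-- Minimal counterexample reduction for the Sidki pair problem. Let G be a finite group and V a nontrivial elementary abelian 2-subgroup satisfying the Sidki pair condition with V ∩ O₂(G) = 1. Suppose that for every finite group H of smaller order, every nontrivial elementary abelian 2-subgroup W of H satisfying the Sidki pair condition meets O₂(H) nontrivially, and that the same holds in G for every such subgroup W of order smaller than that of V. Then the generalized Fitting subgroup F*(G) is a non-abelian simple group and G = V F*(G). -/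
theorem result {G : Type u} [Group G] [Finite G] (V : Subgroup G) (hV : Cfsg.IsElementaryAbelian 2 V) (hV1 : V ≠ ⊥) (hS : Cfsg.IsSidkiPair V) (hVO : V ⊓ Cfsg.pCore 2 G = ⊥) (hminG : ∀ (H : Type u) [Group H] [Finite H] (W : Subgroup H), Nat.card H < Nat.card G → Cfsg.IsElementaryAbelian 2 W → W ≠ ⊥ → Cfsg.IsSidkiPair W → W ⊓ Cfsg.pCore 2 H ≠ ⊥) (hminV : ∀ W : Subgroup G, Nat.card W < Nat.card V → Cfsg.IsElementaryAbelian 2 W → W ≠ ⊥ → Cfsg.IsSidkiPair W → W ⊓ Cfsg.pCore 2 G ≠ ⊥) : IsSimpleGroup ↥(Cfsg.generalizedFittingSubgroup G) ∧ ¬ IsMulCommutative ↥(Cfsg.generalizedFittingSubgroup G) ∧ V ⊔ Cfsg.generalizedFittingSubgroup G = ⊤ := by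
  classical
  have hm : Cfsg.Agent.helper15.Sid.MinCE G V := ⟨hV, hV1, hS, hVO, hminG, hminV⟩
  -- a minimal normal subgroup
  let S : Set (Subgroup G) := {K | K.Normal ∧ K ≠ ⊥}
  have hSne : S.Nonempty := by
    refine ⟨⊤, inferInstance, ?_⟩
    intro h0
    apply hV1
    rw [eq_bot_iff, ← h0]
    exact le_top
  obtain ⟨N, hNS, hNmin⟩ := WellFounded.has_min (wellFounded_lt (α := Subgroup G)) S hSne
  obtain ⟨hNn, hN⟩ := hNS
  haveI : N.Normal := hNn
  have hmin : ∀ K : Subgroup G, K.Normal → K ≤ N → K ≠ ⊥ → K = N := by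
    intro K hKn hKN hK
    by_contra hne
    exact hNmin K ⟨hKn, hK⟩ (lt_of_le_of_ne hKN hne)
  obtain ⟨hcentN, hNVtop⟩ := hm.p1 N hN
  have hsimp := hm.b2 N hN hmin
  -- `N` is not abelian
  have hnab : ¬ ∀ a ∈ N, ∀ b ∈ N, a * b = b * a := fun h => hN (hm.no_abelian_normal N h)
  have hnab' : ¬ N ≤ Subgroup.centralizer (N : Set G) := by
    intro h
    apply hnab
    intro a ha b hb
    have := h hb
    rw [Subgroup.mem_centralizer_iff] at this
    exact this a ha
  -- `N` is quasisimple
  have hQS : Cfsg.Agent.helper7.QS N := by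
    refine ⟨?_, hN, ?_⟩
    · have hle : ⁅N, N⁆ ≤ N := Subgroup.commutator_le_self N
      have hcn : (⁅N, N⁆ : Subgroup G).Normal := inferInstance
      rcases hsimp ⁅N, N⁆ hle (fun n _ l hl => hcn.conj_mem l hl n) with h | h
      · exact absurd (Subgroup.commutator_eq_bot_iff_le_centralizer.1 h) hnab'
      · exact h
    · intro N' hN'N hnorm
      rcases hsimp N' hN'N
          (fun n hn l hl => ((Subgroup.mem_normalizer_iff.1 (hnorm hn)) l).1 hl) with h | h
      · right; rw [h]; exact bot_le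
      · left; exact h
  have hSNN : Cfsg.Agent.helper7.SN N ⊤ := by
    apply Cfsg.Agent.helper7.SN.of_normal le_top
    rw [Subgroup.normalizer_eq_top_iff.2 hNn]
  have hComp : Cfsg.Agent.helper7.Comp N ⊤ := ⟨hSNN, hQS⟩
  have hlayer : Cfsg.Agent.helper7.layerOf (⊤ : Subgroup G) = N := by
    apply le_antisymm
    · apply sSup_le
      intro L hL
      rcases Cfsg.Agent.helper7.comp_le_or_comm hL.1 hL.2 hSNN with h | h
      · exact h
      · exfalso
        have h1 : L ≤ Subgroup.centralizer (N : Set G) :=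
          Subgroup.commutator_eq_bot_iff_le_centralizer.1 h
        rw [hcentN] at h1
        exact hL.2.2.1 (eq_bot_iff.2 h1)
    · exact Cfsg.Agent.helper7.comp_le_layerOf hComp
  have hfit : Cfsg.Agent.helper7.fitOf (⊤ : Subgroup G) = ⊥ := by
    have h1 := Cfsg.Agent.helper7.le_centralizer_of_comm_eq_bot hComp.comm_fitOf
    rw [hcentN] at h1
    exact eq_bot_iff.2 h1
  have hF : Cfsg.generalizedFittingSubgroup G = N := by
    rw [Cfsg.Agent.helper7.generalizedFittingSubgroup_eq]
    unfold Cfsg.Agent.helper7.fstarOf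
    rw [hlayer, hfit, sup_bot_eq]
  rw [hF]
  refine ⟨?_, ?_, ?_⟩
  · haveI hnt : Nontrivial ↥N := (Subgroup.nontrivial_iff_ne_bot N).2 hN
    refine { toNontrivial := hnt, eq_bot_or_eq_top_of_normal := ?_ }
    intro H hH
    have hle : H.map N.subtype ≤ N := by
      rintro _ ⟨h, _, rfl⟩
      exact h.2
    have hinv : ∀ n ∈ N, ∀ l ∈ H.map N.subtype, n * l * n⁻¹ ∈ H.map N.subtype := by
      rintro n hn _ ⟨h, hh, rfl⟩
      exact ⟨⟨n, hn⟩ * h * ⟨n, hn⟩⁻¹, hH.conj_mem h hh ⟨n, hn⟩, rfl⟩
    rcases hsimp _ hle hinv with h | h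
    · left
      exact (Subgroup.map_eq_bot_iff_of_injective H N.subtype_injective).1 h
    · right
      rw [eq_top_iff]
      intro x _
      have hx : (x : G) ∈ H.map N.subtype := by rw [h]; exact x.2
      obtain ⟨y, hy, hyx⟩ := hx
      have : y = x := Subtype.ext hyx
      rw [← this]; exact hy
  · intro hc
    apply hnab
    intro a ha b hb
    exact congrArg Subtype.val (hc.is_comm.comm ⟨a, ha⟩ ⟨b, hb⟩)
  · rw [sup_comm]; exact hNVtop

end Cfsg.Agent.S3048
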