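import Cfsg.Statements.S3049
import Cfsg.Agent.Lib_helper23_Iso4

set_option autoImplicit false
open Cfsg

namespace Cfsg.Agent.S3049

/-- Let G be a finite group and p an odd prime with O_{p'}(G) = 1. Suppose that G has p-rank at most 2 (no elementary abelian subgroup of order p³) and that some element x of order p is isolated in G (no G-conjugate of x other than x commutes with x) and not central. Then the generalized Fitting subgroup F*(G) is a non-abelian simple group. Since O_{p'}(G) = 1, such an x is not central modulo O_{p'}(G): the hypotheses describe a counterexample to the Z*_p statement in p-rank at most 2. -/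
theorem result {G : Type*} [Group G] [Finite G] {p : ℕ} [Fact p.Prime] (hp : p ≠ 2) (hcore : Cfsg.pPrimeCore p G = ⊥)
    (hrank : Cfsg.PRankLE p 2 G) (x : G) (hx : orderOf x = p) (hiso : Cfsg.IsIsolated x) (hnc : x ∉ Subgroup.center G) :
    IsSimpleGroup ↥(Cfsg.generalizedFittingSubgroup G) ∧ ¬ IsMulCommutative ↥(Cfsg.generalizedFittingSubgroup G) := by
  obtain ⟨L, hF, hqs, hZ⟩ := Cfsg.Agent.helper23.iso_main hp hcore hrank x hx hiso hnc
  rw [hF]
  have hq : Cfsg.IsQuasisimple ↥L := (Cfsg.Agent.helper7.qs_iff_QS L).2 hqs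
  haveI : Group.IsPerfect ↥L := hq.1
  haveI : IsSimpleGroup (↥L ⧸ Subgroup.center ↥L) := hq.2
  have hcen : Subgroup.center ↥L = ⊥ := by
    rw [eq_bot_iff]
    intro c hc
    rw [Subgroup.mem_bot]
    have h1 : (c : G) ∈ L ⊓ Subgroup.centralizer (L : Set G) := by
      refine Subgroup.mem_inf.2 ⟨c.2, ?_⟩
      rw [Subgroup.mem_centralizer_iff]
      intro l hl
      have h2 := Subgroup.mem_center_iff.1 hc ⟨l, hl⟩
      exact congrArg Subtype.val h2
    rw [hZ, Subgroup.mem_bot] at h1
    exact Subtype.ext h1
  haveI : Nontrivial ↥L := (Subgroup.nontrivial_iff_ne_bot L).2 hqs.2.1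
  let e : (↥L ⧸ Subgroup.center ↥L) ≃* ↥L :=
    (QuotientGroup.quotientMulEquivOfEq hcen).trans QuotientGroup.quotientBot
  exact ⟨IsSimpleGroup.isSimpleGroup_of_surjective e.toMonoidHom e.surjective,
    Group.IsPerfect.not_isMulCommutative ↥L⟩

end Cfsg.Agent.S3049
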