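import Cfsg.Statements.S3057
import Mathlib
import Cfsg.Agent.Lib_helper15_SPE2
import Cfsg.Agent.S0016

set_option autoImplicit false
open Cfsg

namespace Cfsg.Agent.S3057

open Cfsg.Agent.helper15 Cfsg.Agent.helper23


/-- Let p be a prime and G a finite p-solvable group of order divisible by p, with Sylow p-subgroup P. Then the Sylow p-subgroups of G fail to be chain-connected through nontrivial intersections (equivalently, G has a strongly p-embedded subgroup) if and only if O_p(G) = 1 and P is cyclic or, for p = 2, generalized quaternion. -/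
theorem result {G : Type*} [Group G] [Finite G]
    (p : ℕ) [Fact p.Prime] (hdiv : p ∣ Nat.card G) (hsol : Cfsg.IsPSolvable p G) (P : Sylow p G) :
    ¬ Cfsg.IsSylowChainConnected p G ↔
      Cfsg.pCore p G = ⊥ ∧ (IsCyclic ↥P ∨ (p = 2 ∧ ∃ n : ℕ, Nonempty (↥P ≃* QuaternionGroup (2 ^ n)))) := by
  rw [not_isSylowChainConnected_iff]
  constructor
  · rintro ⟨H, hH⟩
    have hps := psreach_of_isPSolvable hsol
    obtain ⟨S, hSH, hSne, _⟩ := exists_sylow_le_of_isClassicalSPE H hH
    constructor
    · by_contra hne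
      obtain ⟨g, hg⟩ : ∃ g, g ∉ H := by
        by_contra h
        push Not at h
        exact hH.1 (eq_top_iff.2 fun x _ => h x)
      apply hH.2.2 g hg
      apply dvd_card_of_le_of_isPGroup (Cfsg.pCore p G) _ (Cfsg.Agent.helper1.pCore_isPGroup p) hne
      have h1 : Cfsg.pCore p G ≤ H := (Cfsg.Agent.helper1.pCore_le_sylow S).trans hSH
      have hn : (Cfsg.pCore p G).Normal := Cfsg.Agent.helper1.pCore_normal p
      refine le_inf h1 ?_
      intro q hq
      have h2 := hn.conj_mem q hq g⁻¹
      rw [inv_inv] at h2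
      refine ⟨g⁻¹ * q * g, h1 h2, ?_⟩
      simp only [MulEquiv.coe_toMonoidHom, MulAut.conj_apply]
      group
    · have huS := uniq_of_isClassicalSPE hps H hH S hSH
      have hS := Cfsg.Agent.S0016.result p S.isPGroup' huS
      have e : ↥(S : Subgroup G) ≃* ↥(P : Subgroup G) := Sylow.equiv S P
      rcases hS with hc | ⟨h2, n, ⟨f⟩⟩
      · left
        exact isCyclic_of_surjective e e.surjective
      · right
        exact ⟨h2, n, ⟨e.symm.trans f⟩⟩
  · rintro ⟨hO, hP⟩
    apply exists_isClassicalSPE_of_uniqP hdiv hO P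
    rcases hP with hc | ⟨h2, n, ⟨f⟩⟩
    · exact uniqP_of_isCyclic _ hc
    · subst h2
      exact uniqP_of_quaternion _ (2 ^ n) f

end Cfsg.Agent.S3057
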