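import Cfsg.Statements.S3059
import Cfsg.Agent.S3058
import Cfsg.Agent.Lib_helper10_PResidual
import Cfsg.Agent.Lib_helper19_Sylow

set_option autoImplicit false
open Cfsg

namespace Cfsg.Agent.S3059

open Cfsg.Agent.helper15

/-- Let p be a prime and H a strongly p-embedded subgroup of the finite group G in the classical sense: H is proper, p divides the order of H, and H ∩ gHg⁻¹ has order prime to p for every g outside H. Then for every normal subgroup N of G of order divisible by p, G = H · O^p(N), where O^p(N) is the subgroup generated by the elements of N of order prime to p. -/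
theorem result {G : Type*} [Group G] [Finite G]
    (p : ℕ) [Fact p.Prime] (H : Subgroup G) (hH : H ≠ ⊤) (hpH : p ∣ Nat.card H)
    (hse : ∀ g : G, g ∉ H → ¬ p ∣ Nat.card ↥(H ⊓ H.map (MulAut.conj g).toMonoidHom))
    (N : Subgroup G) [N.Normal] (hN : p ∣ Nat.card N) :
    H ⊔ Subgroup.closure {g : G | g ∈ N ∧ (orderOf g).Coprime p} = ⊤ := by
  obtain ⟨S, hSH, _, _⟩ := exists_sylow_le_of_isClassicalSPE H ⟨hH, hpH, hse⟩
  -- Sylow subgroup of N
  have hp' : IsPGroup p ↥(((S : Subgroup G) ⊓ N).subgroupOf N) :=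
    IsPGroup.comap_subtype (S.isPGroup'.to_inf_left)
  have hidx : ¬ p ∣ (((S : Subgroup G) ⊓ N).subgroupOf N).index :=
    Cfsg.Agent.helper19.sylow_inf_normal_not_dvd S N
  -- N ≤ H ⊔ K
  have hNle : N ≤ H ⊔ Subgroup.closure {g : G | g ∈ N ∧ (orderOf g).Coprime p} := by
    intro n hn
    obtain ⟨s, hs, k, hk, hnk⟩ :=
      Cfsg.Agent.helper10.exists_mul_of_pResidual_sylow p (hp'.toSylow hidx) ⟨n, hn⟩
    rw [IsPGroup.toSylow_coe, Subgroup.mem_subgroupOf] at hs
    have hn' : n = (s : G) * (k : G) := by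
      have := congrArg Subtype.val hnk
      simpa using this
    rw [hn']
    refine Subgroup.mul_mem _ (Subgroup.mem_sup_left (hSH (Subgroup.mem_inf.1 hs).1))
      (Subgroup.mem_sup_right ?_)
    have hmap : (Cfsg.pResidual p ↥N).map N.subtype ≤
        Subgroup.closure {g : G | g ∈ N ∧ (orderOf g).Coprime p} := by
      unfold Cfsg.pResidual
      rw [MonoidHom.map_closure]
      apply Subgroup.closure_mono
      rintro _ ⟨z, hz, rfl⟩
      refine ⟨z.2, ?_⟩
      have hz' : Nat.Coprime (orderOf z) p := hz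
      rw [← Subgroup.orderOf_coe] at hz'
      exact hz'
    exact hmap (Subgroup.mem_map_of_mem N.subtype hk)
  -- normalizer of S ⊓ N is in H
  obtain ⟨x, hxS, hxN, hxo⟩ := Cfsg.Agent.S3058.exists_mem_sylow_inf_normal S N hN
  have hne : (S : Subgroup G) ⊓ N ≠ ⊥ := by
    intro hbot
    have : x ∈ (S : Subgroup G) ⊓ N := Subgroup.mem_inf.2 ⟨hxS, hxN⟩
    rw [hbot, Subgroup.mem_bot] at this
    rw [this, orderOf_one] at hxo
    exact (Fact.out : p.Prime).one_lt.ne hxo
  have hNH : Subgroup.normalizer ((((S : Subgroup G) ⊓ N : Subgroup G)) : Set G) ≤ H := by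
    intro g hg
    by_contra hgH
    apply hse g hgH
    apply dvd_card_of_le_of_isPGroup _ _ (S.isPGroup'.to_le inf_le_left) hne
    refine le_inf (le_trans inf_le_left hSH) ?_
    intro q hq
    have hginv := inv_mem hg
    have h1 := (Subgroup.mem_normalizer_iff.1 hginv q).1 hq
    rw [inv_inv] at h1
    refine Subgroup.mem_map.2 ⟨g⁻¹ * q * g, hSH (Subgroup.mem_inf.1 h1).1, ?_⟩
    simp only [MulEquiv.coe_toMonoidHom, MulAut.conj_apply]
    group
  have hfr := Cfsg.Agent.helper19.frattini_inf S N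
  rw [eq_top_iff, ← hfr]
  exact sup_le (le_trans hNH le_sup_left) hNle

end Cfsg.Agent.S3059
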