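import Cfsg.Statements.S3062
import Cfsg.Agent.Lib_helper15_DStar2

set_option autoImplicit false
open Cfsg

namespace Cfsg.Agent.S3062

/-- Let S be a finite p-group, J(S) the subgroup generated by the abelian subgroups of S of largest order and Z(J(S)) its centre. Then Z(S) ≤ D*(S) ≤ Z(J(S)), and every maximal normal abelian subgroup of S contains D*(S). -/
theorem result {S : Type*} [Group S] [Finite S] {p : ℕ} [Fact p.Prime]
    (hS : IsPGroup p S) :
    Subgroup.center S ≤ Cfsg.dStar S ∧
    Cfsg.dStar S ≤ Cfsg.thompsonSubgroupA S ⊓ Subgroup.centralizer (Cfsg.thompsonSubgroupA S : Set S) ∧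
    ∀ A : Subgroup S, A.Normal → IsMulCommutative A →
      (∀ B : Subgroup S, B.Normal → IsMulCommutative B → A ≤ B → B = A) → Cfsg.dStar S ≤ A := by
  classical
  obtain ⟨hDc, -⟩ := Cfsg.Agent.helper15.dStar_mem_dStarFamily hS
  have hDn : (Cfsg.dStar S).Normal := Cfsg.Agent.helper15.dStar_normal
  have hDcomm : ∀ x ∈ Cfsg.dStar S, ∀ y ∈ Cfsg.dStar S, x * y = y * x := fun x hx y hy =>
    congrArg Subtype.val (hDc.is_comm.comm (⟨x, hx⟩ : ↥(Cfsg.dStar S)) ⟨y, hy⟩)
  refine ⟨?_, ?_, ?_⟩
  · -- the centre is a member of the family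
    apply le_sSup
    refine ⟨inferInstance, ?_⟩
    intro x _ a ha
    exact (Subgroup.mem_center_iff.1 ha x).symm
  · -- `D* ≤ Z(J(S))`
    have hall := Cfsg.Agent.helper15.dStar_le_of_mem_maxAbelianSubgroups hS
    obtain ⟨A₀, hA₀c, hA₀max⟩ := Set.exists_max_image {B : Subgroup S | IsMulCommutative ↥B}
      (fun B => Nat.card ↥B) (Set.toFinite _)
      ⟨⊥, (inferInstance : IsMulCommutative ↥(⊥ : Subgroup S))⟩
    have hA₀ : A₀ ∈ Cfsg.maxAbelianSubgroups S := ⟨hA₀c, hA₀max⟩
    apply le_inf
    · exact (hall A₀ hA₀).trans (le_sSup hA₀)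
    · intro d hd
      have hle : Cfsg.thompsonSubgroupA S ≤ Subgroup.centralizer ({d} : Set S) := by
        unfold Cfsg.thompsonSubgroupA
        apply sSup_le
        intro A hA a ha
        rw [Subgroup.mem_centralizer_singleton_iff]
        exact congrArg Subtype.val (hA.1.is_comm.comm (⟨a, ha⟩ : ↥A) ⟨d, hall A hA hd⟩)
      rw [Subgroup.mem_centralizer_iff]
      intro j hj
      have := hle hj
      rw [Subgroup.mem_centralizer_singleton_iff] at this
      exact this
  · intro A hAn hAc hAmax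
    have hcomm := Cfsg.Agent.helper15.dStar_commute_of_le_normalizer hS A hAc
      (by rw [Subgroup.normalizer_eq_top]; exact le_top)
    have hsupc : IsMulCommutative ↥(Cfsg.dStar S ⊔ A) :=
      Cfsg.Agent.helper15.isMulCommutative_sup hDc hAc hcomm
    have hsupn : (Cfsg.dStar S ⊔ A).Normal := Subgroup.sup_normal _ _
    have := hAmax _ hsupn hsupc le_sup_right
    rw [← this]; exact le_sup_left

end Cfsg.Agent.S3062
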