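import Mathlib
import Cfsg.Statements.S3075

set_option autoImplicit false
open Cfsg

namespace Cfsg.Agent.S3075

section SL2

variable {F : Type*} [Field F]

/-- the central element `-1` of `SL₂` -/
def negOne : Matrix.SpecialLinearGroup (Fin 2) F :=
  ⟨-1, by simp [Matrix.det_neg]⟩

theorem negOne_comm (g : Matrix.SpecialLinearGroup (Fin 2) F) : g * negOne = negOne * g := by
  apply Subtype.ext
  show (g : Matrix (Fin 2) (Fin 2) F) * (-1) = (-1) * (g : Matrix (Fin 2) (Fin 2) F)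
  rw [mul_neg, mul_one, neg_mul, one_mul]

theorem negOne_sq : (negOne : Matrix.SpecialLinearGroup (Fin 2) F) * negOne = 1 := by
  apply Subtype.ext
  show (-1 : Matrix (Fin 2) (Fin 2) F) * (-1) = 1
  rw [neg_mul_neg, one_mul]

theorem negOne_ne_one (h2 : (2 : F) ≠ 0) :
    (negOne : Matrix.SpecialLinearGroup (Fin 2) F) ≠ 1 := by
  intro h
  have h1 := congrArg
    (fun g : Matrix.SpecialLinearGroup (Fin 2) F => (g : Matrix (Fin 2) (Fin 2) F) 0 0) h
  simp [negOne] at h1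
  apply h2
  linear_combination (-1 : F) * h1

theorem sl2_not_comm : ∃ x y : Matrix.SpecialLinearGroup (Fin 2) F, x * y ≠ y * x := by
  refine ⟨⟨!![1, 1; 0, 1], by simp [Matrix.det_fin_two]⟩,
    ⟨!![1, 0; 1, 1], by simp [Matrix.det_fin_two]⟩, ?_⟩
  intro h
  have h1 : (!![1, 1; 0, 1] : Matrix (Fin 2) (Fin 2) F) * !![1, 0; 1, 1]
      = !![1, 0; 1, 1] * !![1, 1; 0, 1] := congrArg Subtype.val h
  have h2 := congrFun (congrFun h1 0) 0
  simp [Matrix.mul_apply, Fin.sum_univ_two] at h2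

end SL2

section grp

variable {N : Type*} [Group N]

/-- the elements of `A` inverted by `s` -/
def negPart (A : Subgroup N) (hAc : ∀ a ∈ A, ∀ b ∈ A, a * b = b * a) (s : N) : Subgroup N where
  carrier := {a | a ∈ A ∧ s * a * s⁻¹ = a⁻¹}
  one_mem' := ⟨A.one_mem, by simp⟩
  mul_mem' := by
    rintro a b ⟨ha, ha'⟩ ⟨hb, hb'⟩
    refine ⟨A.mul_mem ha hb, ?_⟩
    have h1 : s * (a * b) * s⁻¹ = (s * a * s⁻¹) * (s * b * s⁻¹) := by group
    rw [h1, ha', hb', mul_inv_rev]
    exact hAc _ (A.inv_mem ha) _ (A.inv_mem hb)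
  inv_mem' := by
    rintro a ⟨ha, ha'⟩
    refine ⟨A.inv_mem ha, ?_⟩
    have h1 : s * a⁻¹ * s⁻¹ = (s * a * s⁻¹)⁻¹ := by group
    rw [h1, ha']

theorem mem_negPart (A : Subgroup N) (hAc : ∀ a ∈ A, ∀ b ∈ A, a * b = b * a) (s x : N) :
    x ∈ negPart A hAc s ↔ x ∈ A ∧ s * x * s⁻¹ = x⁻¹ := Iff.rfl

/-- conjugation by two elements agrees on a cyclic normal subgroup, in either order -/
theorem conj_comm_of_cyclic (H : Subgroup N) [H.Normal] [IsCyclic ↥H] (n m h : N) (hh : h ∈ H) :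
    (n * m) * h * (n * m)⁻¹ = (m * n) * h * (m * n)⁻¹ := by
  have hcomm : ∀ f g : MulAut ↥H, f * g = g * f := by
    intro f g
    apply (IsCyclic.mulAutMulEquiv ↥H).injective
    rw [map_mul, map_mul, mul_comm]
  have h1 : (MulAut.conjNormal (H := H) (n * m)) = MulAut.conjNormal (H := H) (m * n) := by
    rw [map_mul, map_mul, hcomm]
  have h2 := congrArg (fun f : MulAut ↥H => ((f ⟨h, hh⟩ : ↥H) : N)) h1
  have h3 : n * (m * h * m⁻¹) * n⁻¹ = m * (n * h * n⁻¹) * m⁻¹ := by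
    simpa [MulAut.conjNormal_apply] using h2
  calc (n * m) * h * (n * m)⁻¹ = n * (m * h * m⁻¹) * n⁻¹ := by group
    _ = m * (n * h * n⁻¹) * m⁻¹ := h3
    _ = (m * n) * h * (m * n)⁻¹ := by group

end grp

/-- Let p be an odd prime and N a finite group with a normal elementary abelian subgroup A of order p² that is its own centralizer in N, such that N/A is isomorphic to SL₂(p) (over any field F with p elements). Then N splits over A: some subgroup U of N satisfies A ∩ U = 1 and AU = N. -/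
theorem result {N : Type*} [Group N] [Finite N] {p : ℕ} [Fact p.Prime] (hp : p ≠ 2)
    (A : Subgroup N) [A.Normal] (hAcomm : IsMulCommutative A) (hAcard : Nat.card A = p ^ 2) (hAexp : Monoid.exponent ↥A = p)
    (hAself : Subgroup.centralizer (A : Set N) = A)
    {F : Type*} [Field F] [Fintype F] (hF : Fintype.card F = p) (e : N ⧸ A ≃* Matrix.SpecialLinearGroup (Fin 2) F) :
    ∃ U : Subgroup N, A ⊓ U = ⊥ ∧ A ⊔ U = ⊤ := by
  classical
  have hpp : p.Prime := Fact.out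
  obtain ⟨k, hk⟩ := hpp.odd_of_ne_two hp
  have hAn : A.Normal := inferInstance
  have hAc : ∀ a ∈ A, ∀ b ∈ A, a * b = b * a := by
    intro a ha b hb
    have := hAcomm.is_comm.comm (⟨a, ha⟩ : ↥A) ⟨b, hb⟩
    exact congrArg Subtype.val this
  have hApow : ∀ a ∈ A, a ^ p = 1 := by
    intro a ha
    have h1 : (⟨a, ha⟩ : ↥A) ^ p = 1 := by
      rw [← hAexp]; exact Monoid.pow_exponent_eq_one _
    have h2 : (((⟨a, ha⟩ : ↥A) ^ p : ↥A) : N) = ((1 : ↥A) : N) := congrArg Subtype.val h1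
    rw [Subgroup.coe_pow, Subgroup.coe_one] at h2
    exact h2
  haveI : CharP F p := charP_of_card_eq_prime hF
  have h2F : (2 : F) ≠ 0 := by
    intro h20
    have h1 : ((2 : ℕ) : F) = 0 := by exact_mod_cast h20
    have h2 : p ∣ 2 := (CharP.cast_eq_zero_iff F p 2).mp h1
    exact hp ((Nat.prime_dvd_prime_iff_eq hpp Nat.prime_two).mp h2)
  -- the central involution of the quotient
  obtain ⟨c, hc⟩ : ∃ c : N ⧸ A, c = e.symm negOne := ⟨_, rfl⟩
  have hec : e c = negOne := by rw [hc]; exact e.apply_symm_apply _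
  have hc_comm : ∀ x : N ⧸ A, x * c = c * x := by
    intro x
    apply e.injective
    rw [map_mul, map_mul, hec]
    exact negOne_comm (e x)
  have hc_sq : c * c = 1 := by
    apply e.injective
    rw [map_mul, hec, map_one]
    exact negOne_sq
  have hc_ne : c ≠ 1 := by
    intro h
    have h1 : e c = 1 := by rw [h, map_one]
    rw [hec] at h1
    exact negOne_ne_one h2F h1
  obtain ⟨t₀, ht₀⟩ := QuotientGroup.mk_surjective (s := A) c
  have ht₀sq : t₀ * t₀ ∈ A := by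
    rw [← QuotientGroup.eq_one_iff, QuotientGroup.mk_mul, ht₀]
    exact hc_sq
  obtain ⟨s, hs⟩ : ∃ s : N, s = t₀ ^ p := ⟨_, rfl⟩
  have hss : s * s = 1 := by
    rw [hs, ← (Commute.refl t₀).mul_pow]
    exact hApow _ ht₀sq
  have hs_mk : (QuotientGroup.mk s : N ⧸ A) = c := by
    rw [hs, QuotientGroup.mk_pow, ht₀, hk, pow_succ, pow_mul, pow_two, hc_sq, one_pow, one_mul]
  have hs_inv : s⁻¹ = s := inv_eq_of_mul_eq_one_right hss
  have hconj : ∀ n : N, s⁻¹ * (n * s * n⁻¹) ∈ A := by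
    intro n
    rw [← QuotientGroup.eq_one_iff]
    simp only [QuotientGroup.mk_mul, QuotientGroup.mk_inv, hs_mk]
    rw [hc_comm]
    group
  have hL0 : ∀ y : N, s⁻¹ * y ∈ A → ∀ a ∈ A, y * a * y⁻¹ = s * a * s⁻¹ := by
    intro y hy a ha
    have h1 := hAc _ hy a ha
    calc y * a * y⁻¹ = s * ((s⁻¹ * y) * a) * y⁻¹ := by group
      _ = s * (a * (s⁻¹ * y)) * y⁻¹ := by rw [h1]
      _ = s * a * s⁻¹ := by group
  have hL1 : ∀ n : N, ∀ a ∈ A, s * (n * a * n⁻¹) * s⁻¹ = n * (s * a * s⁻¹) * n⁻¹ := by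
    intro n a ha
    have h1 := hL0 (n⁻¹ * s * n⁻¹⁻¹) (hconj n⁻¹) a ha
    calc s * (n * a * n⁻¹) * s⁻¹
        = n * ((n⁻¹ * s * n⁻¹⁻¹) * a * (n⁻¹ * s * n⁻¹⁻¹)⁻¹) * n⁻¹ := by group
      _ = n * (s * a * s⁻¹) * n⁻¹ := by rw [h1]
  have hsA : ∀ a ∈ A, s * a * s⁻¹ ∈ A := fun a ha => hAn.conj_mem a ha s
  have hss' : ∀ a : N, s * (s * a * s⁻¹) * s⁻¹ = a := by
    intro a
    have h1 : s * (s * a * s⁻¹) * s⁻¹ = (s * s) * a * (s * s)⁻¹ := by group
    rw [h1, hss]; group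
  -- the two parts
  obtain ⟨U, hU⟩ : ∃ U : Subgroup N, U = Subgroup.centralizer {s} := ⟨_, rfl⟩
  have hmemU : ∀ x : N, x ∈ U ↔ x * s = s * x := by
    intro x; rw [hU]; exact Subgroup.mem_centralizer_singleton_iff
  obtain ⟨Apos, hApos⟩ : ∃ X : Subgroup N, X = A ⊓ U := ⟨_, rfl⟩
  obtain ⟨Aneg, hAneg⟩ : ∃ X : Subgroup N, X = negPart A hAc s := ⟨_, rfl⟩
  have hmemPos : ∀ x : N, x ∈ Apos ↔ x ∈ A ∧ s * x * s⁻¹ = x := by
    intro x
    rw [hApos, Subgroup.mem_inf, hmemU]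
    constructor
    · rintro ⟨h1, h2⟩
      refine ⟨h1, ?_⟩
      rw [← h2]; group
    · rintro ⟨h1, h2⟩
      refine ⟨h1, ?_⟩
      calc x * s = (s * x * s⁻¹) * s := by rw [h2]
        _ = s * x := by group
  have hmemNeg : ∀ x : N, x ∈ Aneg ↔ x ∈ A ∧ s * x * s⁻¹ = x⁻¹ := by
    intro x; rw [hAneg]; exact Iff.rfl
  have hPosA : Apos ≤ A := by rw [hApos]; exact inf_le_left
  have hNegA : Aneg ≤ A := fun x hx => ((hmemNeg x).mp hx).1
  have hPosN : Apos.Normal := by
    constructor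
    intro a ha n
    obtain ⟨h1, h2⟩ := (hmemPos a).mp ha
    rw [hmemPos]
    refine ⟨hAn.conj_mem a h1 n, ?_⟩
    rw [hL1 n a h1, h2]
  have hNegN : Aneg.Normal := by
    constructor
    intro a ha n
    obtain ⟨h1, h2⟩ := (hmemNeg a).mp ha
    rw [hmemNeg]
    refine ⟨hAn.conj_mem a h1 n, ?_⟩
    rw [hL1 n a h1, h2]; group
  -- decomposition
  have hpow2 : ∀ a ∈ A, (a ^ 2) ^ (k + 1) = a := by
    intro a ha
    rw [← pow_mul]
    have h1 : 2 * (k + 1) = p + 1 := by omega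
    rw [h1, pow_succ, hApow a ha, one_mul]
  have hdecomp : ∀ a ∈ A, ∃ u ∈ Apos, ∃ v ∈ Aneg, a = u * v := by
    intro a ha
    have hσ := hsA a ha
    have hcm : a * (s * a * s⁻¹) = (s * a * s⁻¹) * a := hAc _ ha _ hσ
    refine ⟨(a * (s * a * s⁻¹)) ^ (k + 1), ?_, (a * (s * a * s⁻¹)⁻¹) ^ (k + 1), ?_, ?_⟩
    · rw [hmemPos]
      refine ⟨A.pow_mem (A.mul_mem ha hσ) _, ?_⟩
      have h1 : s * (a * (s * a * s⁻¹)) ^ (k + 1) * s⁻¹ = (s * (a * (s * a * s⁻¹)) * s⁻¹) ^ (k + 1) :=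
        (conj_pow (a := s) (b := a * (s * a * s⁻¹)) (i := k + 1)).symm
      rw [h1]
      have h2 : s * (a * (s * a * s⁻¹)) * s⁻¹ = (s * a * s⁻¹) * (s * (s * a * s⁻¹) * s⁻¹) := by
        group
      rw [h2, hss', ← hcm]
    · rw [hmemNeg]
      refine ⟨A.pow_mem (A.mul_mem ha (A.inv_mem hσ)) _, ?_⟩
      have h1 : s * (a * (s * a * s⁻¹)⁻¹) ^ (k + 1) * s⁻¹
          = (s * (a * (s * a * s⁻¹)⁻¹) * s⁻¹) ^ (k + 1) :=
        (conj_pow (a := s) (b := a * (s * a * s⁻¹)⁻¹) (i := k + 1)).symm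
      rw [h1]
      have h2 : s * (a * (s * a * s⁻¹)⁻¹) * s⁻¹
          = (s * a * s⁻¹) * (s * (s * a * s⁻¹) * s⁻¹)⁻¹ := by group
      rw [h2, hss', ← inv_pow]
      congr 1
      rw [mul_inv_rev, inv_inv]
    · have hcm2 : Commute (a * (s * a * s⁻¹)) (a * (s * a * s⁻¹)⁻¹) :=
        hAc _ (A.mul_mem ha hσ) _ (A.mul_mem ha (A.inv_mem hσ))
      rw [← hcm2.mul_pow]
      have h1 : a * (s * a * s⁻¹) * (a * (s * a * s⁻¹)⁻¹) = a ^ 2 := by
        calc a * (s * a * s⁻¹) * (a * (s * a * s⁻¹)⁻¹)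
            = a * ((s * a * s⁻¹) * a) * (s * a * s⁻¹)⁻¹ := by group
          _ = a * (a * (s * a * s⁻¹)) * (s * a * s⁻¹)⁻¹ := by rw [← hcm]
          _ = a ^ 2 := by rw [pow_two]; group
      rw [h1, hpow2 a ha]
  have hPosNeg : Apos ⊓ Aneg = ⊥ := by
    rw [eq_bot_iff]
    intro x hx
    obtain ⟨hx1, hx2⟩ := Subgroup.mem_inf.mp hx
    obtain ⟨h1, h2⟩ := (hmemPos x).mp hx1
    obtain ⟨-, h3⟩ := (hmemNeg x).mp hx2
    rw [h2] at h3
    -- x = x⁻¹
    have h4 : x ^ 2 = 1 := by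
      rw [pow_two]
      nth_rewrite 1 [h3]
      exact inv_mul_cancel x
    have h5 := hpow2 x h1
    rw [h4, one_pow] at h5
    exact Subgroup.mem_bot.mpr h5.symm
  -- the main claim
  have hPosBot : Apos = ⊥ := by
    by_contra hne
    by_cases hNegBot : Aneg = ⊥
    · -- s centralizes A
      have hsC : s ∈ Subgroup.centralizer (A : Set N) := by
        rw [Subgroup.mem_centralizer_iff]
        intro a ha
        obtain ⟨u, hu, v, hv, rfl⟩ := hdecomp a ha
        rw [hNegBot, Subgroup.mem_bot] at hv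
        rw [hv, mul_one]
        have := ((hmemPos u).mp hu).2
        calc u * s = (s * u * s⁻¹) * s := by rw [this]
          _ = s * u := by group
      rw [hAself] at hsC
      apply hc_ne
      rw [← hs_mk]
      exact (QuotientGroup.eq_one_iff s).mpr hsC
    · -- both of order p
      have hcardcase : ∀ X : Subgroup N, X ≤ A → X ≠ ⊥ → X ≠ A → Nat.card ↥X = p := by
        intro X hXA hX1 hX2
        have hdvd : Nat.card ↥X ∣ p ^ 2 := by
          rw [← hAcard]; exact Subgroup.card_dvd_of_le hXA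
        obtain ⟨j, hj, hjc⟩ := (Nat.dvd_prime_pow hpp).mp hdvd
        interval_cases j
        · exfalso; apply hX1
          rw [pow_zero] at hjc
          exact Subgroup.card_eq_one.mp hjc
        · rw [hjc, pow_one]
        · exfalso; apply hX2
          exact Subgroup.eq_of_le_of_card_ge hXA (by rw [hjc, hAcard])
      have hPosNe : Apos ≠ A := by
        intro h
        apply hNegBot
        rw [eq_bot_iff, ← hPosNeg, h]
        exact le_inf hNegA le_rfl
      have hNegNe : Aneg ≠ A := by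
        intro h
        apply hne
        rw [eq_bot_iff, ← hPosNeg, h]
        exact le_inf le_rfl hPosA
      haveI : IsCyclic ↥Apos := isCyclic_of_prime_card (hcardcase Apos hPosA hne hPosNe)
      haveI : IsCyclic ↥Aneg := isCyclic_of_prime_card (hcardcase Aneg hNegA hNegBot hNegNe)
      haveI := hPosN
      haveI := hNegN
      -- the quotient is commutative
      have hcommQ : ∀ n m : N, (m * n)⁻¹ * (n * m) ∈ A := by
        intro n m
        rw [← hAself, Subgroup.mem_centralizer_iff]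
        intro a ha
        obtain ⟨u, hu, v, hv, rfl⟩ := hdecomp a ha
        have hu' := conj_comm_of_cyclic Apos n m u hu
        have hv' := conj_comm_of_cyclic Aneg n m v hv
        have hu'' : u * ((m * n)⁻¹ * (n * m)) = ((m * n)⁻¹ * (n * m)) * u := by
          calc u * ((m * n)⁻¹ * (n * m))
              = (m * n)⁻¹ * ((m * n) * u * (m * n)⁻¹) * (n * m) := by group
            _ = (m * n)⁻¹ * ((n * m) * u * (n * m)⁻¹) * (n * m) := by rw [hu']
            _ = ((m * n)⁻¹ * (n * m)) * u := by group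
        have hv'' : v * ((m * n)⁻¹ * (n * m)) = ((m * n)⁻¹ * (n * m)) * v := by
          calc v * ((m * n)⁻¹ * (n * m))
              = (m * n)⁻¹ * ((m * n) * v * (m * n)⁻¹) * (n * m) := by group
            _ = (m * n)⁻¹ * ((n * m) * v * (n * m)⁻¹) * (n * m) := by rw [hv']
            _ = ((m * n)⁻¹ * (n * m)) * v := by group
        calc u * v * ((m * n)⁻¹ * (n * m)) = u * (v * ((m * n)⁻¹ * (n * m))) := by group
          _ = u * (((m * n)⁻¹ * (n * m)) * v) := by rw [hv'']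
          _ = (u * ((m * n)⁻¹ * (n * m))) * v := by group
          _ = (((m * n)⁻¹ * (n * m)) * u) * v := by rw [hu'']
          _ = (m * n)⁻¹ * (n * m) * (u * v) := by group
      obtain ⟨x, y, hxy⟩ := sl2_not_comm (F := F)
      apply hxy
      obtain ⟨n, hn⟩ := QuotientGroup.mk_surjective (s := A) (e.symm x)
      obtain ⟨m, hm⟩ := QuotientGroup.mk_surjective (s := A) (e.symm y)
      have h1 : (QuotientGroup.mk (n * m) : N ⧸ A) = QuotientGroup.mk (m * n) := by
        rw [eq_comm, QuotientGroup.eq]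
        exact hcommQ n m
      rw [QuotientGroup.mk_mul, QuotientGroup.mk_mul, hn, hm] at h1
      have h2 := congrArg e h1
      simpa using h2
  -- every element of A is inverted by s
  have hinv : ∀ a ∈ A, s * a * s⁻¹ = a⁻¹ := by
    intro a ha
    obtain ⟨u, hu, v, hv, rfl⟩ := hdecomp a ha
    rw [hPosBot, Subgroup.mem_bot] at hu
    rw [hu, one_mul]
    exact ((hmemNeg v).mp hv).2
  refine ⟨U, ?_, ?_⟩
  · rw [← hApos, hPosBot]
  · rw [eq_top_iff]
    intro n _
    obtain ⟨b, hb⟩ : ∃ b : N, b = s⁻¹ * (n * s * n⁻¹) := ⟨_, rfl⟩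
    have hbA : b ∈ A := by rw [hb]; exact hconj n
    have hnb : n * s * n⁻¹ = s * b := by rw [hb]; group
    obtain ⟨a', ha'⟩ : ∃ a' : N, a' = b ^ k := ⟨_, rfl⟩
    have ha'A : a' ∈ A := by rw [ha']; exact A.pow_mem hbA k
    have hsa' : s * a' * s⁻¹ = a'⁻¹ := hinv a' ha'A
    have ha'2 : a'⁻¹ * a'⁻¹ = b := by
      have h1 : a' * a' * b = 1 := by
        rw [ha', ← pow_add, ← pow_succ]
        have : k + k + 1 = p := by omega
        rw [this]; exact hApow b hbA
      calc a'⁻¹ * a'⁻¹ = a'⁻¹ * a'⁻¹ * (a' * a' * b) := by rw [h1, mul_one]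
        _ = b := by group
    -- a' s a'⁻¹ = s b
    have h3 : a' * s * a'⁻¹ = s * b := by
      have h4 : s⁻¹ * a' * s = a'⁻¹ := by
        have h5 : s⁻¹ * a' * s = s * a' * s⁻¹ := by rw [hs_inv]
        rw [h5, hsa']
      calc a' * s * a'⁻¹ = s * (s⁻¹ * a' * s) * a'⁻¹ := by group
        _ = s * (a'⁻¹ * a'⁻¹) := by rw [h4]; group
        _ = s * b := by rw [ha'2]
    have h6 : a'⁻¹ * n ∈ U := by
      rw [hmemU]
      calc a'⁻¹ * n * s = a'⁻¹ * (n * s * n⁻¹) * n := by group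
        _ = a'⁻¹ * (a' * s * a'⁻¹) * n := by rw [hnb, h3]
        _ = s * (a'⁻¹ * n) := by group
    have h7 : n = a' * (a'⁻¹ * n) := by group
    rw [h7]
    exact Subgroup.mul_mem _ (Subgroup.mem_sup_left ha'A) (Subgroup.mem_sup_right h6)

end Cfsg.Agent.S3075
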