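import Cfsg.Statements.S3076
import Cfsg.Agent.Lib_helper15_AG5

set_option autoImplicit false
open Cfsg

namespace Cfsg.Agent.S3076

theorem le_of_isPGroup_of_not_dvd_relIndex {M : Type*} [Group M] [Finite M] {p : ℕ}
    [hp : Fact p.Prime] (H E N : Subgroup M) (hE : IsPGroup p ↥E) (hHE : H ≤ E) (hEN : E ≤ N)
    (h : ¬ p ∣ H.relIndex N) : E ≤ H := by
  have h1 := Subgroup.relIndex_mul_relIndex H E N hHE hEN
  have h2 : ¬ p ∣ H.relIndex E := fun hd => h (h1 ▸ Dvd.dvd.mul_right hd _)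
  obtain ⟨k, hk⟩ := (IsPGroup.iff_card (p := p)).1 hE
  have h3 : H.relIndex E ∣ p ^ k := hk ▸ Subgroup.relIndex_dvd_card H E
  obtain ⟨m, -, hm⟩ := (Nat.dvd_prime_pow hp.out).1 h3
  rcases Nat.eq_zero_or_pos m with h0 | hpos
  · rw [h0, pow_zero] at hm
    exact Subgroup.relIndex_eq_one.1 hm
  · exact absurd (hm ▸ dvd_pow_self p hpos.ne') h2

theorem abstract_iff {M : Type*} [Group M] [Finite M] {p : ℕ} [hp : Fact p.Prime]
    (H : Subgroup M) [hHn : H.Normal] (hHp : IsPGroup p ↥H) (C : Subgroup M) [hCn : C.Normal]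
    (hC : C = Subgroup.centralizer (H : Set M)) (R : Sylow p M) :
    (¬ p ∣ H.relIndex ((Cfsg.pCore p (M ⧸ C)).comap (QuotientGroup.mk' C))) ↔
    ((R : Subgroup M) ⊓ C ≤ H ∧ Cfsg.pPrimePCore p M = H ⊔ C) := by
  classical
  set K := Cfsg.pPrimeCore p M with hK
  set L := Cfsg.pPrimePCore p M with hL
  set N := (Cfsg.pCore p (M ⧸ C)).comap (QuotientGroup.mk' C) with hN
  haveI hKn : K.Normal := Cfsg.Agent.helper1.pPrimeCore_normal p
  haveI hLn : L.Normal := Cfsg.Agent.helper7.pPrimePCore_normal p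
  haveI hNn : N.Normal := Subgroup.Normal.comap (Cfsg.Agent.helper1.pCore_normal p) _
  have hHR : H ≤ (R : Subgroup M) := IsPGroup.le_sylow_of_normal hHp R
  have hKC : K ≤ C := by
    intro k hk
    rw [hC, Subgroup.mem_centralizer_iff]
    intro h hh
    have hcop : (Nat.card ↥H).Coprime (Nat.card ↥K) := by
      obtain ⟨a, ha⟩ := (IsPGroup.iff_card (p := p)).1 hHp
      rw [ha]
      exact Nat.Coprime.pow_left a (Cfsg.Agent.helper1.pPrimeCore_coprime p).symm
    have hdisj : Disjoint H K := Subgroup.disjoint_of_coprime_natCard hcop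
    exact (Subgroup.commute_of_normal_of_disjoint H K hHn hKn hdisj h k hh hk).eq
  have hNp : ∀ n ∈ N, ∃ j : ℕ, n ^ (p ^ j) ∈ C := by
    intro n hn
    have h1 : QuotientGroup.mk' C n ∈ Cfsg.pCore p (M ⧸ C) := hn
    obtain ⟨j, hj⟩ := (Cfsg.Agent.helper1.pCore_isPGroup p) ⟨_, h1⟩
    refine ⟨j, ?_⟩
    have h2 : (QuotientGroup.mk' C n) ^ (p ^ j) = 1 := by
      have := congrArg Subtype.val hj
      simpa using this
    rw [← map_pow] at h2
    exact (QuotientGroup.eq_one_iff _).1 h2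
  have hLp : ∀ l ∈ L, ∃ j : ℕ, l ^ (p ^ j) ∈ K := by
    intro n hn
    have h1 : QuotientGroup.mk' K n ∈ Cfsg.pCore p (M ⧸ K) := hn
    obtain ⟨j, hj⟩ := (Cfsg.Agent.helper1.pCore_isPGroup p) ⟨_, h1⟩
    refine ⟨j, ?_⟩
    have h2 : (QuotientGroup.mk' K n) ^ (p ^ j) = 1 := by
      have := congrArg Subtype.val hj
      simpa using this
    rw [← map_pow] at h2
    exact (QuotientGroup.eq_one_iff _).1 h2
  have hHN : H ≤ N := by
    intro h hh
    show QuotientGroup.mk' C h ∈ Cfsg.pCore p (M ⧸ C)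
    have : H.map (QuotientGroup.mk' C) ≤ Cfsg.pCore p (M ⧸ C) := by
      apply Cfsg.Agent.helper1.le_pCore
      · exact Subgroup.Normal.map hHn _ (QuotientGroup.mk'_surjective C)
      · exact hHp.map _
    exact this (Subgroup.mem_map_of_mem _ hh)
  have hCN : C ≤ N := by
    intro c hc
    show QuotientGroup.mk' C c ∈ Cfsg.pCore p (M ⧸ C)
    have : QuotientGroup.mk' C c = 1 := (QuotientGroup.eq_one_iff c).2 hc
    rw [this]; exact Subgroup.one_mem _
  have hHL : H ≤ L := by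
    apply Cfsg.Agent.helper15.le_pPrimePCore_of_image H hHn
    intro v hv
    obtain ⟨j, hj⟩ := hHp ⟨v, hv⟩
    refine ⟨j, ?_⟩
    have : v ^ (p ^ j) = 1 := by simpa using congrArg Subtype.val hj
    rw [this]; exact Subgroup.one_mem _
  have hCL : (R : Subgroup M) ⊓ C ≤ H → C ≤ L := by
    intro hi
    apply Cfsg.Agent.helper15.le_pPrimePCore_of_central_sylow C hCn R
    intro s hs c hc
    have hsH : s ∈ H := hi hs
    rw [hC, Subgroup.mem_centralizer_iff] at hc
    exact hc s hsH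
  have hRp : IsPGroup p ↥((R : Subgroup M) ⊓ N) := R.isPGroup'.to_le inf_le_left
  constructor
  · intro hidx
    have hRN : (R : Subgroup M) ⊓ N ≤ H :=
      le_of_isPGroup_of_not_dvd_relIndex H _ N hRp (le_inf hHR hHN) inf_le_right hidx
    have hi : (R : Subgroup M) ⊓ C ≤ H := (inf_le_inf_left _ hCN).trans hRN
    refine ⟨hi, ?_⟩
    have hLN : L ≤ N := by
      intro l hl
      show QuotientGroup.mk' C l ∈ Cfsg.pCore p (M ⧸ C)
      have : L.map (QuotientGroup.mk' C) ≤ Cfsg.pCore p (M ⧸ C) := by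
        apply Cfsg.Agent.helper1.le_pCore
        · exact Subgroup.Normal.map hLn _ (QuotientGroup.mk'_surjective C)
        · rintro ⟨_, ⟨x, hx, rfl⟩⟩
          obtain ⟨j, hj⟩ := hLp x hx
          refine ⟨j, ?_⟩
          apply Subtype.ext
          show (QuotientGroup.mk' C x) ^ (p ^ j) = 1
          rw [← map_pow]
          exact (QuotientGroup.eq_one_iff _).2 (hKC hj)
      exact this (Subgroup.mem_map_of_mem _ hl)
    apply le_antisymm
    · intro l hl
      obtain ⟨s, hs, d, hd, rfl⟩ := Cfsg.Agent.helper10.pPrimePCore_eq_mul R hl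
      have hsH : s ∈ H :=
        hRN (Subgroup.mem_inf.2 ⟨(Subgroup.mem_inf.1 hs).1, hLN (Subgroup.mem_inf.1 hs).2⟩)
      exact Subgroup.mul_mem_sup hsH (hKC hd)
    · exact sup_le hHL (hCL hi)
  · rintro ⟨hi, hLeq⟩
    have hCL' : C ≤ L := hCL hi
    have hNL : N ≤ L := by
      apply Cfsg.Agent.helper15.le_pPrimePCore_of_image N hNn
      intro n hn
      obtain ⟨j, hj⟩ := hNp n hn
      obtain ⟨i, hi'⟩ := hLp _ (hCL' hj)
      refine ⟨j + i, ?_⟩
      rw [pow_add, pow_mul]
      exact hi'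
    have hRN : (R : Subgroup M) ⊓ N ≤ H := by
      intro x hx
      have hxL : x ∈ H ⊔ C := hLeq ▸ hNL (Subgroup.mem_inf.1 hx).2
      obtain ⟨h, hh, c, hc, rfl⟩ := Subgroup.mem_sup_of_normal_right.1 hxL
      have hcR : c ∈ (R : Subgroup M) := by
        have := (Subgroup.mem_inf.1 hx).1
        have h2 : c = h⁻¹ * (h * c) := by group
        rw [h2]
        exact Subgroup.mul_mem _ (Subgroup.inv_mem _ (hHR hh)) this
      exact Subgroup.mul_mem _ hh (hi (Subgroup.mem_inf.2 ⟨hcR, hc⟩))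
    have heq : (R : Subgroup M) ⊓ N = H := le_antisymm hRN (le_inf hHR hHN)
    have := Cfsg.Agent.helper19.sylow_inf_normal_not_dvd R N
    rw [heq] at this
    exact this


/-- Let P be a Sylow p-subgroup of the finite group G and H ≤ P a subgroup with N_P(H) a Sylow p-subgroup of N_G(H). Let N be the preimage in N_G(H) of O_p(N_G(H)/C_G(H)). Then H is a Sylow p-subgroup of N if and only if C_P(H) ≤ H and O_{p',p}(N_G(H)) = H·C_G(H). -/
theorem result {G : Type*} [Group G] [Finite G] {p : ℕ} [Fact p.Prime]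
    (P : Sylow p G) (H : Subgroup G) (hHP : H ≤ (P : Subgroup G))
    (hSyl : ¬ p ∣ ((P : Subgroup G) ⊓ Subgroup.normalizer (H : Set G)).relIndex (Subgroup.normalizer (H : Set G)))
    [hC : ((Subgroup.centralizer (H : Set G)).subgroupOf (Subgroup.normalizer (H : Set G))).Normal] :
    (H ≤ ((Cfsg.pCore p (↥(Subgroup.normalizer (H : Set G)) ⧸
              (Subgroup.centralizer (H : Set G)).subgroupOf (Subgroup.normalizer (H : Set G)))).comap
            (QuotientGroup.mk' _)).map (Subgroup.normalizer (H : Set G)).subtype ∧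
      ¬ p ∣ H.relIndex (((Cfsg.pCore p (↥(Subgroup.normalizer (H : Set G)) ⧸
              (Subgroup.centralizer (H : Set G)).subgroupOf (Subgroup.normalizer (H : Set G)))).comap
            (QuotientGroup.mk' _)).map (Subgroup.normalizer (H : Set G)).subtype)) ↔
    ((P : Subgroup G) ⊓ Subgroup.centralizer (H : Set G) ≤ H ∧
      (Cfsg.pPrimePCore p ↥(Subgroup.normalizer (H : Set G))).map (Subgroup.normalizer (H : Set G)).subtype =
        H ⊔ Subgroup.centralizer (H : Set G)) := by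
  classical
  set M : Subgroup G := Subgroup.normalizer (H : Set G) with hM
  set Cen : Subgroup G := Subgroup.centralizer (H : Set G) with hCen
  have hHM : H ≤ M := Subgroup.le_normalizer
  have hCM : Cen ≤ M := Subgroup.centralizer_le_normalizer _
  have hHp : IsPGroup p ↥H := P.isPGroup'.to_le hHP
  have hH'p : IsPGroup p ↥(H.subgroupOf M) := hHp.comap_subtype
  haveI hH'n : (H.subgroupOf M).Normal := inferInstance
  have hRp : IsPGroup p ↥((P : Subgroup G) ⊓ M) := P.isPGroup'.to_le inf_le_left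
  set R₀ : Sylow p ↥M := Cfsg.Agent.helper15.sylowOfRelIndex M ((P : Subgroup G) ⊓ M) hRp hSyl
    with hR₀
  have hR₀coe : (R₀ : Subgroup ↥M) = ((P : Subgroup G) ⊓ M).subgroupOf M :=
    Cfsg.Agent.helper15.coe_sylowOfRelIndex M _ hRp hSyl
  have hC' : Cen.subgroupOf M = Subgroup.centralizer ((H.subgroupOf M : Subgroup ↥M) : Set ↥M) := by
    ext x
    rw [Subgroup.mem_subgroupOf, Subgroup.mem_centralizer_iff, Subgroup.mem_centralizer_iff]
    constructor
    · intro h y hy
      apply Subtype.ext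
      exact h (y : G) (Subgroup.mem_subgroupOf.1 hy)
    · intro h y hy
      have := h ⟨y, hHM hy⟩ (Subgroup.mem_subgroupOf.2 hy)
      exact congrArg Subtype.val this
  have key := abstract_iff (H.subgroupOf M) hH'p (Cen.subgroupOf M) hC' R₀
  set N' : Subgroup ↥M :=
    (Cfsg.pCore p (↥M ⧸ Cen.subgroupOf M)).comap (QuotientGroup.mk' (Cen.subgroupOf M)) with hN'
  have hHmap : (H.subgroupOf M).map M.subtype = H := by
    rw [Subgroup.subgroupOf_map_subtype, inf_eq_left.2 hHM]
  have hCmap : (Cen.subgroupOf M).map M.subtype = Cen := by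
    rw [Subgroup.subgroupOf_map_subtype, inf_eq_left.2 hCM]
  have hidx : H.relIndex (N'.map M.subtype) = (H.subgroupOf M).relIndex N' := by
    conv_lhs => rw [← hHmap]
    exact Subgroup.relIndex_map_map_of_injective _ _ M.subtype_injective
  have hHN' : H.subgroupOf M ≤ N' := by
    intro h hh
    show QuotientGroup.mk' (Cen.subgroupOf M) h ∈ Cfsg.pCore p (↥M ⧸ Cen.subgroupOf M)
    have : (H.subgroupOf M).map (QuotientGroup.mk' (Cen.subgroupOf M)) ≤
        Cfsg.pCore p (↥M ⧸ Cen.subgroupOf M) := by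
      apply Cfsg.Agent.helper1.le_pCore
      · exact Subgroup.Normal.map hH'n _ (QuotientGroup.mk'_surjective _)
      · exact hH'p.map _
    exact this (Subgroup.mem_map_of_mem _ hh)
  have hfirst : H ≤ N'.map M.subtype := by
    intro h hh
    exact ⟨⟨h, hHM hh⟩, hHN' (Subgroup.mem_subgroupOf.2 hh), rfl⟩
  have hsup : (H.subgroupOf M ⊔ Cen.subgroupOf M).map M.subtype = H ⊔ Cen := by
    rw [Subgroup.map_sup, hHmap, hCmap]
  have hinf : ((R₀ : Subgroup ↥M) ⊓ Cen.subgroupOf M ≤ H.subgroupOf M) ↔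
      ((P : Subgroup G) ⊓ Cen ≤ H) := by
    constructor
    · intro h x hx
      have hxM : x ∈ M := hCM (Subgroup.mem_inf.1 hx).2
      have : (⟨x, hxM⟩ : ↥M) ∈ (R₀ : Subgroup ↥M) ⊓ Cen.subgroupOf M := by
        rw [hR₀coe]
        refine Subgroup.mem_inf.2 ⟨?_, ?_⟩
        · rw [Subgroup.mem_subgroupOf]
          exact Subgroup.mem_inf.2 ⟨(Subgroup.mem_inf.1 hx).1, hxM⟩
        · rw [Subgroup.mem_subgroupOf]
          exact (Subgroup.mem_inf.1 hx).2
      exact Subgroup.mem_subgroupOf.1 (h this)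
    · intro h x hx
      rw [hR₀coe] at hx
      have h1 := (Subgroup.mem_inf.1 hx).1
      have h2 := (Subgroup.mem_inf.1 hx).2
      rw [Subgroup.mem_subgroupOf] at h1 h2
      rw [Subgroup.mem_subgroupOf]
      exact h (Subgroup.mem_inf.2 ⟨(Subgroup.mem_inf.1 h1).1, h2⟩)
  have hpp : (Cfsg.pPrimePCore p ↥M = H.subgroupOf M ⊔ Cen.subgroupOf M) ↔
      ((Cfsg.pPrimePCore p ↥M).map M.subtype = H ⊔ Cen) := by
    rw [← hsup]
    exact (Subgroup.map_injective M.subtype_injective).eq_iff.symm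
  rw [hidx]
  constructor
  · rintro ⟨-, h2⟩
    obtain ⟨a, b⟩ := key.1 h2
    exact ⟨hinf.1 a, hpp.1 b⟩
  · rintro ⟨a, b⟩
    exact ⟨hfirst, key.2 ⟨hinf.2 a, hpp.2 b⟩⟩

end Cfsg.Agent.S3076
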