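import Cfsg.Statements.S3078
import Cfsg.Agent.Lib_helper15_Repl
import Cfsg.Agent.Lib_helper15_AG4

set_option autoImplicit false
open Cfsg

namespace Cfsg.Agent.S3078

/-- A replacement Theorem for abelian subgroups of p-groups, p odd. Let G be a finite p-group with p odd, A an abelian subgroup of G, and B a subgroup of nilpotency class at most 2 with [B, B] ≤ A, such that A normalizes B but B does not normalize A. Then there is an abelian subgroup A* of G of the same order as A with A ∩ B strictly contained in A* ∩ B, A* contained in N_G(A) and in the normal closure of A, the exponent of A* dividing the exponent of A, and with the subgroup generated by the elements of order dividing p in A of order at most that of the corresponding subgroup of A* (the rank of A is at most the rank of A*). -/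
theorem result {G : Type*} [Group G] [Finite G] {p : ℕ} [Fact p.Prime] (hp : p ≠ 2) (hG : IsPGroup p G) (A B : Subgroup G) (hA : IsMulCommutative A) (hB2 : ⁅⁅B, B⁆, B⁆ = ⊥) (hBA : ⁅B, B⁆ ≤ A) (hAB : A ≤ Subgroup.normalizer (B : Set G)) (hBnA : ¬ B ≤ Subgroup.normalizer (A : Set G)) : ∃ Astar : Subgroup G, IsMulCommutative Astar ∧ Nat.card Astar = Nat.card A ∧ A ⊓ B < Astar ⊓ B ∧ Astar ≤ Subgroup.normalizer (A : Set G) ∧ Astar ≤ Subgroup.normalClosure (A : Set G) ∧ Monoid.exponent Astar ∣ Monoid.exponent A ∧ Nat.card (Cfsg.omegaOne p A) ≤ Nat.card (Cfsg.omegaOne p Astar) := by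
  classical
  set N : Subgroup G := Subgroup.normalizer (B : Set G) with hN
  have hAN : A ≤ N := hAB
  have hBN : B ≤ N := Subgroup.le_normalizer
  have hinj : Function.Injective N.subtype := N.subtype_injective
  have hS : IsPGroup p ↥N := hG.to_subgroup N
  haveI hBn : (B.subgroupOf N).Normal := inferInstance
  have hAmap : (A.subgroupOf N).map N.subtype = A := by
    rw [Subgroup.subgroupOf_map_subtype, inf_eq_left.2 hAN]
  have hBmap : (B.subgroupOf N).map N.subtype = B := by
    rw [Subgroup.subgroupOf_map_subtype, inf_eq_left.2 hBN]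
  have hA' : IsMulCommutative ↥(A.subgroupOf N) := by
    refine ⟨⟨fun x y => ?_⟩⟩
    have h1 := congrArg Subtype.val
      (hA.is_comm.comm (⟨((x : ↥N) : G), x.2⟩ : ↥A) ⟨((y : ↥N) : G), y.2⟩)
    apply Subtype.ext
    apply Subtype.ext
    simpa using h1
  have hBA' : ⁅B.subgroupOf N, B.subgroupOf N⁆ ≤ A.subgroupOf N := by
    intro x hx
    rw [Subgroup.mem_subgroupOf]
    apply hBA
    have : (N.subtype x) ∈ (⁅B.subgroupOf N, B.subgroupOf N⁆).map N.subtype :=
      Subgroup.mem_map_of_mem _ hx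
    rw [Subgroup.map_commutator, hBmap] at this
    exact this
  have hnot' : ¬ B.subgroupOf N ≤ Subgroup.normalizer ((A.subgroupOf N : Subgroup ↥N) : Set ↥N) := by
    intro hle
    apply hBnA
    intro b hb
    have h1 := Cfsg.Agent.helper15.coe_mem_normalizer_map_subtype N (A.subgroupOf N)
      ⟨b, hBN hb⟩ (hle (Subgroup.mem_subgroupOf.2 hb))
    rw [hAmap] at h1
    exact h1
  obtain ⟨b, hb, hbN, hbA⟩ :=
    Cfsg.Agent.S0649.result hS (B.subgroupOf N) (fun h2 => absurd h2 hp) (A.subgroupOf N) hA' hBA' hnot'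
  have hcomm : ∀ x ∈ A.subgroupOf N, ∀ y ∈ A.subgroupOf N, x * y = y * x := by
    intro x hx y hy
    exact congrArg Subtype.val (hA'.is_comm.comm (⟨x, hx⟩ : ↥(A.subgroupOf N)) ⟨y, hy⟩)
  have h : Cfsg.Agent.helper4.Glaub.GSetup (B.subgroupOf N) (A.subgroupOf N) b :=
    ⟨inferInstance, hcomm, hBA', hb, hbN⟩
  have hX : ∀ x ∈ Cfsg.Agent.helper4.Glaub.XX (A.subgroupOf N) b,
      ∀ y ∈ Cfsg.Agent.helper4.Glaub.XX (A.subgroupOf N) b, x * y = y * x :=
    fun x hx y hy => h.XX_comm_odd hS hp hx hy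
  obtain ⟨c1, c2, -, c4, -, -, c7, -, -, c10⟩ :=
    h.main hS (fun h2 => absurd h2 hp) hnot' hbA
  set T : Subgroup ↥N := Cfsg.Agent.helper4.Glaub.Astar (A.subgroupOf N) b with hT
  have hcardA : Nat.card ↥(A.subgroupOf N) = Nat.card ↥A :=
    Nat.card_congr (Subgroup.subgroupOfEquivOfLe hAN).toEquiv
  refine ⟨T.map N.subtype, ?_, ?_, ?_, ?_, ?_, ?_, ?_⟩
  · haveI := c2
    exact Subgroup.map_isMulCommutative _ _
  · rw [Subgroup.card_map_of_injective hinj, c1, hcardA]
  · have e1 : A ⊓ B = (A.subgroupOf N ⊓ B.subgroupOf N).map N.subtype := by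
      rw [Subgroup.map_inf _ _ _ hinj, hAmap, hBmap]
    have e2 : T.map N.subtype ⊓ B = (T ⊓ B.subgroupOf N).map N.subtype := by
      rw [Subgroup.map_inf _ _ _ hinj, hBmap]
    rw [e1, e2]
    exact lt_of_le_of_ne (Subgroup.map_mono c4.le)
      (fun e => c4.ne (Subgroup.map_injective hinj e))
  · rintro _ ⟨x, hx, rfl⟩
    have h1 := Cfsg.Agent.helper15.coe_mem_normalizer_map_subtype N (A.subgroupOf N) x (c7 hx)
    rw [hAmap] at h1
    exact h1
  · haveI : ((Subgroup.normalClosure (A : Set G)).subgroupOf N).Normal := inferInstance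
    have hAD : A.subgroupOf N ≤ (Subgroup.normalClosure (A : Set G)).subgroupOf N := by
      intro x hx
      rw [Subgroup.mem_subgroupOf] at hx ⊢
      exact Subgroup.le_normalClosure hx
    have hle := Cfsg.Agent.helper4.Glaub.Astar_le_of_normal
      ((Subgroup.normalClosure (A : Set G)).subgroupOf N) (A.subgroupOf N) b hAD
    rintro _ ⟨x, hx, rfl⟩
    exact Subgroup.mem_subgroupOf.1 (hle hx)
  · rw [← Monoid.exponent_eq_of_mulEquiv (T.equivMapOfInjective N.subtype hinj),
      ← Monoid.exponent_eq_of_mulEquiv (Subgroup.subgroupOfEquivOfLe hAN)]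
    exact c10 hp
  · have h1 := Cfsg.Agent.helper15.Repl.card_omegaOne_le h hp hX
    have e1 : Nat.card ↥(Cfsg.omegaOne p A) = Nat.card ↥(Cfsg.omegaOne p (A.subgroupOf N)) := by
      rw [← hAmap, ← Cfsg.Agent.helper15.Repl.omegaOne_map_subtype,
        Subgroup.card_map_of_injective hinj, hAmap]
    have e2 : Nat.card ↥(Cfsg.omegaOne p (T.map N.subtype)) = Nat.card ↥(Cfsg.omegaOne p T) := by
      rw [← Cfsg.Agent.helper15.Repl.omegaOne_map_subtype, Subgroup.card_map_of_injective hinj]
    rw [e1, e2]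
    exact h1

end Cfsg.Agent.S3078
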