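import Cfsg.Statements.S3087
import Mathlib.GroupTheory.Index
import Mathlib.Tactic

set_option autoImplicit false
open Cfsg

namespace Cfsg.Agent.S3087

theorem add_card_mul_card_le {V : Type*} [AddGroup V] [Finite V] (X Y : AddSubgroup V) :
    Nat.card ↥X * Nat.card ↥Y ≤ Nat.card ↥(X ⊔ Y) * Nat.card ↥(X ⊓ Y) := by
  have h1 : (X ⊓ Y).relIndex Y = X.relIndex Y := AddSubgroup.inf_relIndex_right X Y
  have hne : X.relIndex (X ⊔ Y) ≠ 0 := by
    show (X.addSubgroupOf (X ⊔ Y)).index ≠ 0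
    exact AddSubgroup.index_ne_zero_of_finite
  have h2 : X.relIndex Y ≤ X.relIndex (X ⊔ Y) :=
    AddSubgroup.relIndex_le_of_le_right le_sup_right hne
  have h3 : Nat.card ↥(X ⊓ Y) * (X ⊓ Y).relIndex Y = Nat.card ↥Y := by
    have := AddSubgroup.relIndex_mul_relIndex (H := (⊥ : AddSubgroup V)) (K := X ⊓ Y) (L := Y)
      bot_le inf_le_right
    rwa [AddSubgroup.relIndex_bot_left, AddSubgroup.relIndex_bot_left] at this
  have h4 : Nat.card ↥X * X.relIndex (X ⊔ Y) = Nat.card ↥(X ⊔ Y) := by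
    have := AddSubgroup.relIndex_mul_relIndex (H := (⊥ : AddSubgroup V)) (K := X) (L := X ⊔ Y)
      bot_le le_sup_left
    rwa [AddSubgroup.relIndex_bot_left, AddSubgroup.relIndex_bot_left] at this
  calc Nat.card ↥X * Nat.card ↥Y
      = Nat.card ↥X * (Nat.card ↥(X ⊓ Y) * X.relIndex Y) := by rw [← h3, h1]
    _ ≤ Nat.card ↥X * (Nat.card ↥(X ⊓ Y) * X.relIndex (X ⊔ Y)) := by gcongr
    _ = Nat.card ↥(X ⊔ Y) * Nat.card ↥(X ⊓ Y) := by rw [← h4]; ring

/-- Fixed points of a subgroup, as an additive subgroup. -/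
def fixAdd {G V : Type*} [Group G] [AddCommGroup V] {p : ℕ} [Module (ZMod p) V]
    (ρ : Representation (ZMod p) G V) (S : Subgroup G) : AddSubgroup V where
  carrier := {v | ∀ s ∈ S, ρ s v = v}
  zero_mem' := by intro s _; simp
  add_mem' := by
    intro a b ha hb s hs
    rw [map_add, ha s hs, hb s hs]
  neg_mem' := by
    intro a ha s hs
    rw [map_neg, ha s hs]

/-- Let p be a prime, G a finite group acting linearly on a finite vector space V over the field with p elements, W a G-invariant subspace, and A a subgroup of G with |A|·|C_V(A)| ≥ |B|·|C_V(B)| for every subgroup B of A. Then |A|·|C_W(A)| ≥ |B|·|C_W(B)| for every subgroup B of A that contains C_A(W); that is, the image of A in the group induced on W satisfies the same maximality condition. -/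
theorem result {G V : Type*} [Group G] [Finite G] [AddCommGroup V] [Finite V] (p : ℕ) [Fact p.Prime] [Module (ZMod p) V]
    (ρ : Representation (ZMod p) G V) (W : Submodule (ZMod p) V) (hW : ∀ g : G, ∀ w ∈ W, ρ g w ∈ W)
    (A : Subgroup G)
    (hP : ∀ B : Subgroup G, B ≤ A →
      Nat.card ↥B * Nat.card {v : V // ∀ b ∈ B, ρ b v = v} ≤ Nat.card ↥A * Nat.card {v : V // ∀ a ∈ A, ρ a v = v})
    (B : Subgroup G) (hBA : B ≤ A) (hCB : ∀ a ∈ A, (∀ w ∈ W, ρ a w = w) → a ∈ B) :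
    Nat.card ↥B * Nat.card {w : W // ∀ b ∈ B, ρ b w = w} ≤ Nat.card ↥A * Nat.card {w : W // ∀ a ∈ A, ρ a w = w} := by
  have hV : ∀ S : Subgroup G, Nat.card {v : V // ∀ b ∈ S, ρ b v = v} = Nat.card ↥(fixAdd ρ S) :=
    fun S => rfl
  have hWc : ∀ S : Subgroup G, Nat.card {w : W // ∀ b ∈ S, ρ b w = w}
      = Nat.card ↥(fixAdd ρ S ⊓ W.toAddSubgroup) := by
    intro S
    apply Nat.card_congr
    refine ⟨fun w => ⟨w.1.1, ⟨w.2, w.1.2⟩⟩, fun v => ⟨⟨v.1, v.2.2⟩, v.2.1⟩, ?_, ?_⟩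
    · intro w; rfl
    · intro v; rfl
  have hP' := hP B hBA
  rw [hV, hV] at hP'
  rw [hWc, hWc]
  set X := fixAdd ρ A with hX
  set XB := fixAdd ρ B with hXB
  set W' := W.toAddSubgroup with hW'
  have hXle : X ≤ XB := by
    intro v hv s hs
    exact hv s (hBA hs)
  have key := add_card_mul_card_le X (XB ⊓ W')
  have h1 : Nat.card ↥(X ⊔ (XB ⊓ W')) ≤ Nat.card ↥XB :=
    AddSubgroup.card_le_of_le (sup_le hXle inf_le_left)
  have h2 : Nat.card ↥(X ⊓ (XB ⊓ W')) ≤ Nat.card ↥(X ⊓ W') :=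
    AddSubgroup.card_le_of_le (le_inf inf_le_left (inf_le_right.trans inf_le_right))
  have key2 : Nat.card ↥X * Nat.card ↥(XB ⊓ W') ≤ Nat.card ↥XB * Nat.card ↥(X ⊓ W') :=
    key.trans (Nat.mul_le_mul h1 h2)
  have hposX : 0 < Nat.card ↥X := Nat.card_pos
  have hposXB : 0 < Nat.card ↥XB := Nat.card_pos
  have := Nat.mul_le_mul hP' key2
  apply Nat.le_of_mul_le_mul_right _ (Nat.mul_pos hposX hposXB)
  calc Nat.card ↥B * Nat.card ↥(XB ⊓ W') * (Nat.card ↥X * Nat.card ↥XB)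
      = Nat.card ↥B * Nat.card ↥XB * (Nat.card ↥X * Nat.card ↥(XB ⊓ W')) := by ring
    _ ≤ Nat.card ↥A * Nat.card ↥X * (Nat.card ↥XB * Nat.card ↥(X ⊓ W')) := this
    _ = Nat.card ↥A * Nat.card ↥(X ⊓ W') * (Nat.card ↥X * Nat.card ↥XB) := by ring

end Cfsg.Agent.S3087
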