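import Cfsg.Statements.S3116
import Mathlib

set_option autoImplicit false
open Cfsg

namespace Cfsg.Agent.S3116

theorem index_two {X : Type*} [Group X] [Finite X] (m : ℕ) (x : X) (hx : orderOf x = 2 ^ m)
    (hcard : Nat.card X = 2 ^ (m + 1)) : (Subgroup.zpowers x).index = 2 := by
  have h1 := (Subgroup.zpowers x).card_mul_index
  rw [Nat.card_zpowers, hx, hcard, pow_succ] at h1
  exact Nat.eq_of_mul_eq_mul_left (by positivity) h1

theorem exists_nat_pow {X : Type*} [Group X] [Finite X] (x g : X) (hg : g ∈ Subgroup.zpowers x) :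
    ∃ a : ℕ, g = x ^ a := by
  rw [← mem_powers_iff_mem_zpowers, Submonoid.mem_powers_iff] at hg
  obtain ⟨a, ha⟩ := hg
  exact ⟨a, ha.symm⟩

theorem coset_rep {X : Type*} [Group X] [Finite X] (x y g : X) (hindex : (Subgroup.zpowers x).index = 2)
    (hy : y ∉ Subgroup.zpowers x) (hg : g ∉ Subgroup.zpowers x) : ∃ c : ℕ, g = y * x ^ c := by
  have : y⁻¹ * g ∈ Subgroup.zpowers x := by
    rw [Subgroup.mul_mem_iff_of_index_two hindex]
    constructor
    · intro h; exact absurd (by simpa using inv_mem h) hy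
    · intro h; exact absurd h hg
  obtain ⟨c, hc⟩ := exists_nat_pow x _ this
  exact ⟨c, by rw [← hc]; group⟩

theorem core {X : Type*} [Group X] [Finite X] (m : ℕ) (x : X) (hx : orderOf x = 2 ^ m)
    (hcard : Nat.card X = 2 ^ (m + 1)) (e : ℕ) (he : ∀ g : X, g ∉ Subgroup.zpowers x → g ^ e = 1)
    (hxe : x ^ e ≠ 1) : IsPGroup 2 (MulAut X) := by
  intro φ
  have hindex := index_two m x hx hcard
  have hφx : φ x ∈ Subgroup.zpowers x := by
    by_contra h
    have h1 := he _ h
    rw [← map_pow] at h1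
    exact hxe ((MulEquiv.map_eq_one_iff φ).mp h1)
  obtain ⟨a, ha⟩ := exists_nat_pow x _ hφx
  have hco : Nat.Coprime a (2 ^ m) := by
    have h1 : orderOf (φ x) = 2 ^ m := by rw [MulEquiv.orderOf_eq, hx]
    rw [ha, orderOf_pow, hx] at h1
    have h2 : (2 ^ m).gcd a = 1 := by
      rcases Nat.div_eq_self.mp h1 with h3 | h3
      · exact absurd h3 (by positivity)
      · exact h3
    rw [Nat.Coprime, Nat.gcd_comm]; exact h2
  have hpowφ : ∀ j : ℕ, (φ ^ j) x = x ^ (a ^ j) := by
    intro j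
    induction j with
    | zero => simp
    | succ j ih =>
      rw [pow_succ' φ, MulAut.mul_apply, ih, map_pow, ha, ← pow_mul, pow_succ']
  have hψx : (φ ^ (2 ^ (m - 1))) x = x := by
    rw [hpowφ]
    conv_rhs => rw [← pow_one x]
    rw [pow_eq_pow_iff_modEq, hx]
    rcases Nat.eq_zero_or_pos m with hm | hm
    · subst hm; simp [Nat.modEq_one]
    · have h3 := Nat.ModEq.pow_totient hco
      have h4 : (2 ^ m).totient = 2 ^ (m - 1) := by
        rw [Nat.totient_prime_pow Nat.prime_two hm]; norm_num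
      rwa [h4] at h3
  set ψ := φ ^ (2 ^ (m - 1)) with hψ
  have hCne : ∃ y : X, y ∉ Subgroup.zpowers x := by
    by_contra hall
    simp only [not_exists, not_not] at hall
    have h5 : Subgroup.zpowers x = ⊤ := (Subgroup.eq_top_iff' _).mpr hall
    rw [← Subgroup.index_eq_one, hindex] at h5
    omega
  obtain ⟨y, hy⟩ := hCne
  have hψpowx : ∀ c : ℕ, ψ (x ^ c) = x ^ c := fun c => by rw [map_pow, hψx]
  have hψy : ψ y ∉ Subgroup.zpowers x := by
    intro h
    obtain ⟨c, hc⟩ := exists_nat_pow x _ h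
    have h6 : ψ y = ψ (x ^ c) := by rw [hc, hψpowx]
    apply hy
    rw [ψ.injective h6]
    exact Subgroup.npow_mem_zpowers x c
  obtain ⟨b, hb'⟩ := coset_rep x y (ψ y) hindex hy hψy
  have hψpow : ∀ j : ℕ, (ψ ^ j) y = y * x ^ (j * b) ∧ (ψ ^ j) x = x := by
    intro j
    induction j with
    | zero => simp
    | succ j ih =>
      obtain ⟨ih1, ih2⟩ := ih
      constructor
      · rw [pow_succ' ψ, MulAut.mul_apply, ih1, map_mul, hb', hψpowx, mul_assoc, ← pow_add]
        congr 2; ring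
      · rw [pow_succ' ψ, MulAut.mul_apply, ih2, hψx]
  have hfin : ψ ^ (2 ^ m) = 1 := by
    obtain ⟨h1, h2⟩ := hψpow (2 ^ m)
    have hy' : (ψ ^ 2 ^ m) y = y := by
      rw [h1, pow_mul, ← hx, pow_orderOf_eq_one, one_pow, mul_one]
    ext g
    by_cases hg : g ∈ Subgroup.zpowers x
    · obtain ⟨c, rfl⟩ := exists_nat_pow x _ hg
      rw [map_pow, h2]; rfl
    · obtain ⟨c, hg'⟩ := coset_rep x y g hindex hy hg
      rw [hg', map_mul, map_pow, hy', h2]; rfl
  refine ⟨(m - 1) + m, ?_⟩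
  rw [pow_add, pow_mul]
  exact hfin

theorem dihedral_case {X : Type*} [Group X] [Finite X] (h2 : IsPGroup 2 X) (n : ℕ) (hn : 4 ≤ n)
    (e0 : X ≃* DihedralGroup n) : IsPGroup 2 (MulAut X) := by
  have : Fact (Nat.Prime 2) := ⟨Nat.prime_two⟩
  have : NeZero n := ⟨by omega⟩
  have hox : orderOf (e0.symm (DihedralGroup.r 1)) = n := by
    rw [MulEquiv.orderOf_eq, DihedralGroup.orderOf_r_one]
  obtain ⟨m, hm⟩ := (IsPGroup.iff_orderOf.mp h2) (e0.symm (DihedralGroup.r 1))
  rw [hox] at hm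
  have hcard : Nat.card X = 2 ^ (m + 1) := by
    rw [Nat.card_congr e0.toEquiv, DihedralGroup.nat_card, hm, pow_succ, mul_comm]
  apply core m (e0.symm (DihedralGroup.r 1)) (by rw [hox, hm]) hcard 2
  · intro g hg
    have key : e0 (g ^ 2) = 1 := by
      rw [map_pow]
      rcases hcase : e0 g with i | i
      · exfalso; apply hg
        have h3 : g = (e0.symm (DihedralGroup.r 1)) ^ (i.val) := by
          apply e0.injective
          rw [map_pow, MulEquiv.apply_symm_apply, DihedralGroup.r_one_pow, ZMod.natCast_zmod_val, hcase]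
        rw [h3]; exact Subgroup.npow_mem_zpowers _ _
      · rw [pow_two, DihedralGroup.sr_mul_self]
    exact (MulEquiv.map_eq_one_iff e0).mp key
  · apply pow_ne_one_of_lt_orderOf (by norm_num)
    rw [hox]; omega

theorem quasi_case {X : Type*} [Group X] [Finite X] (h : Cfsg.IsQuasiDihedral X) :
    IsPGroup 2 (MulAut X) := by
  obtain ⟨n, hn, hcard, x, y, hx, hy, hxy⟩ := h
  have hyy : y * y = 1 := by rw [← pow_two, ← hy]; exact pow_orderOf_eq_one y
  have hyinv : y⁻¹ = y := inv_eq_of_mul_eq_one_right hyy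
  have hindex := index_two n x hx hcard
  obtain ⟨k, rfl⟩ : ∃ k, n = k + 1 := ⟨n - 1, by omega⟩
  simp only [Nat.add_sub_cancel] at hxy
  have hk2 : 2 ≤ k := by omega
  have hq : 4 ≤ 2 ^ k := by
    calc 4 = 2 ^ 2 := by norm_num
      _ ≤ 2 ^ k := Nat.pow_le_pow_right (by norm_num) hk2
  have hpk : 2 ^ (k + 1) = 2 * 2 ^ k := by ring
  have hynot : y ∉ Subgroup.zpowers x := by
    intro hmem
    obtain ⟨c, hc⟩ := Subgroup.mem_zpowers_iff.mp hmem
    have hcomm : y * x = x * y := by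
      rw [← hc]
      exact ((Commute.refl x).zpow_left c).eq
    have h1 : x ^ (2 ^ k - 1) = x ^ 1 := by
      rw [← hxy, hcomm]; group
    rw [pow_eq_pow_iff_modEq, hx] at h1
    have := h1.eq_of_lt_of_lt (by omega) (by omega)
    omega
  have hconj : ∀ i : ℕ, y * x ^ i * y⁻¹ = x ^ ((2 ^ k - 1) * i) := by
    intro i
    rw [← conj_pow, hxy, ← pow_mul]
  apply core (k + 1) x hx hcard 4
  · intro g hg
    obtain ⟨i, rfl⟩ := coset_rep x y g hindex hynot hg
    have h2 : (y * x ^ i) ^ 2 = x ^ (2 ^ k * i) := by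
      have h3 : (y * x ^ i) ^ 2 = (y * x ^ i * y⁻¹) * x ^ i := by
        rw [hyinv, pow_two, mul_assoc (y * x ^ i) y (x ^ i)]
      rw [h3, hconj, ← pow_add]
      congr 1
      have : 1 ≤ 2 ^ k := by omega
      obtain ⟨q, hq'⟩ : ∃ q, 2 ^ k = q + 1 := ⟨2 ^ k - 1, by omega⟩
      rw [hq']; simp only [Nat.add_sub_cancel]; ring
    have h4 : (y * x ^ i) ^ 4 = ((y * x ^ i) ^ 2) ^ 2 := by rw [← pow_mul]
    rw [h4, h2, ← pow_mul]
    have h5 : 2 ^ k * i * 2 = 2 ^ (k + 1) * i := by rw [hpk]; ring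
    rw [h5, pow_mul, ← hx, pow_orderOf_eq_one, one_pow]
  · apply pow_ne_one_of_lt_orderOf (by norm_num)
    rw [hx]; omega

/-- The automorphism group of a dihedral 2-group of order at least 8, or of a quasi-dihedral (semidihedral) 2-group of order at least 16, is a 2-group. -/
theorem result {X : Type*} [Group X] [Finite X] (h2 : IsPGroup 2 X)
    (h : (∃ n : ℕ, 4 ≤ n ∧ Nonempty (X ≃* DihedralGroup n)) ∨ Cfsg.IsQuasiDihedral X) : IsPGroup 2 (MulAut X) := by
  rcases h with ⟨n, hn, ⟨e0⟩⟩ | h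
  · exact dihedral_case h2 n hn e0
  · exact quasi_case h

end Cfsg.Agent.S3116
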