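import Cfsg.Statements.S3155
import Mathlib

set_option autoImplicit false
open Cfsg

namespace Cfsg.Agent.S3155

abbrev M4 := ZMod 4 × ZMod 4 × ZMod 4

theorem nt4 : Nontrivial (ZMod 4) := ZMod.nontrivial_iff.2 (by norm_num)

theorem fr : Module.finrank (ZMod 4) M4 = 3 := by
  haveI := nt4
  rw [Module.finrank_prod, Module.finrank_prod, Module.finrank_self]

theorem no_sq (f : M4 →ₗ[ZMod 4] M4) (h : f * f = -1) : False := by
  haveI := nt4
  have h1 : LinearMap.det (f * f) = LinearMap.det f * LinearMap.det f := map_mul _ _ _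
  have h2 : LinearMap.det (-1 : M4 →ₗ[ZMod 4] M4) = -1 := by
    have : (-1 : M4 →ₗ[ZMod 4] M4) = (-1 : ZMod 4) • (1 : M4 →ₗ[ZMod 4] M4) := by
      ext <;> simp
    rw [this, LinearMap.det_smul, fr, map_one]
    decide
  rw [h, h2] at h1
  revert h1
  generalize LinearMap.det f = d
  revert d
  decide

/-- Let B be the direct product of three cyclic groups of order 4. Then the automorphism of B inverting every element is not the square of any automorphism of B. -/
theorem result {B : Type*} [CommGroup B] [Finite B] (hB : Nonempty (B ≃* Multiplicative (ZMod 4 × ZMod 4 × ZMod 4)))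
    (τ : B ≃* B) : τ.trans τ ≠ MulEquiv.inv B := by
  intro hτ
  obtain ⟨e⟩ := hB
  have hτ' : ∀ b : B, τ (τ b) = b⁻¹ := by
    intro b
    have := congrArg (fun φ : B ≃* B => φ b) hτ
    simpa using this
  let φ : Multiplicative M4 →* Multiplicative M4 :=
    (e.toMonoidHom.comp τ.toMonoidHom).comp e.symm.toMonoidHom
  let g : M4 →+ M4 := AddMonoidHom.toMultiplicative.symm φ
  have hg : ∀ x : M4, g (g x) = -x := by
    intro x
    show Multiplicative.toAdd (e (τ (e.symm (Multiplicative.ofAdd (Multiplicative.toAdd (e (τ (e.symm (Multiplicative.ofAdd x))))))))) = -x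
    rw [ofAdd_toAdd, MulEquiv.symm_apply_apply, hτ', map_inv, MulEquiv.apply_symm_apply]
    rfl
  let f : M4 →ₗ[ZMod 4] M4 := g.toZModLinearMap 4
  apply no_sq f
  apply LinearMap.ext
  intro x
  show g (g x) = -x
  exact hg x

end Cfsg.Agent.S3155
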