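import Mathlib
import Cfsg.Statements.S3156
import Cfsg.Agent.Lib_helper17_U3c
import Cfsg.Agent.Lib_helper17_U3e

set_option autoImplicit false
open Cfsg

namespace Cfsg.Agent.S3156

open Cfsg.Agent.helper17

/-- If a finite group T is isomorphic to a Sylow 2-subgroup of the projective special unitary group of dimension 3 with parameter 4 (realised over the field with 16 elements), then no subgroup of the automorphism group of T is isomorphic to the symmetric group of degree 3. -/
theorem result {T : Type*} [Group T] [Finite T] (hT : (∃ (F : Type) (_ : Field F) (_ : Fintype F), Fintype.card F = 16 ∧ ∃ S : Sylow 2 (Cfsg.PSU 3 F 4), Nonempty (T ≃* ↥(S : Subgroup (Cfsg.PSU 3 F 4))))) (H : Subgroup (MulAut T)) : ¬ Nonempty (↥H ≃* Equiv.Perm (Fin 3)) := by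
  obtain ⟨F, _, _, hF, S, ⟨e⟩⟩ := hT
  rintro ⟨ε⟩
  have hF' : Fintype.card F = (2 ^ 2) ^ 2 := by rw [hF]; norm_num
  have h0 : U3.Hyp F (2 ^ 2) := U3.Hyp.of_pow hF'
  have h : U3.Hyp F 4 := by
    have : (2 : ℕ) ^ 2 = 4 := by norm_num
    rwa [this] at h0
  obtain ⟨c0⟩ := U3.exists_coord h (n := 2) (by norm_num) S
  let c : U3.Coord F 4 T := c0.ofEquiv e
  let p : Equiv.Perm (Fin 3) := Equiv.swap 0 1
  let t : Equiv.Perm (Fin 3) := Equiv.swap 1 2
  have hpp : p * p = 1 := by decide
  have htt : t * t = 1 := by decide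
  have hr3 : (p * t) * (p * t) * (p * t) = 1 := by decide
  have hr1 : p * t ≠ 1 := by decide
  let s : H := ε.symm p
  let s' : H := ε.symm t
  have hs : s * s = 1 := by
    show ε.symm p * ε.symm p = 1
    rw [← map_mul, hpp, map_one]
  have hs' : s' * s' = 1 := by
    show ε.symm t * ε.symm t = 1
    rw [← map_mul, htt, map_one]
  have hss3 : (s * s') * (s * s') * (s * s') = 1 := by
    show (ε.symm p * ε.symm t) * (ε.symm p * ε.symm t) * (ε.symm p * ε.symm t) = 1
    rw [← map_mul, ← map_mul, ← map_mul, hr3, map_one]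
  have hss1 : s * s' ≠ 1 := by
    intro h1
    apply hr1
    have : ε.symm (p * t) = 1 := by rw [map_mul]; exact h1
    have h2 := congrArg ε this
    rwa [MulEquiv.apply_symm_apply, map_one] at h2
  have inv2 : ∀ u : H, u * u = 1 → ∀ x : T, (u : MulAut T) ((u : MulAut T) x) = x := by
    intro u hu x
    have : ((u * u : H) : MulAut T) x = x := by rw [hu]; rfl
    rwa [Subgroup.coe_mul, MulAut.mul_apply] at this
  have hsZ := c.aut2_center h (s : MulAut T) (inv2 s hs)
  have hs'Z := c.aut2_center h (s' : MulAut T) (inv2 s' hs')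
  have hrZ : ∀ z ∈ Subgroup.center T, ((s * s' : H) : MulAut T) z = z := by
    intro z hz
    rw [Subgroup.coe_mul, MulAut.mul_apply, hs'Z z hz, hsZ z hz]
  have h3 : ∀ x : T, ((s * s' : H) : MulAut T) (((s * s' : H) : MulAut T)
      (((s * s' : H) : MulAut T) x)) = x := by
    intro x
    have : (((s * s') * (s * s') * (s * s') : H) : MulAut T) x = x := by rw [hss3]; rfl
    rwa [Subgroup.coe_mul, Subgroup.coe_mul, MulAut.mul_apply, MulAut.mul_apply] at this
  have htriv := c.aut3_trivial h ((s * s' : H) : MulAut T) h3 hrZ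
  apply hss1
  apply Subtype.ext
  ext x
  exact htriv x

end Cfsg.Agent.S3156
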