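import Cfsg.Statements.S3163
import Mathlib

set_option autoImplicit false
open Cfsg

namespace Cfsg.Agent.S3163

lemma index_le_relIndex {G : Type*} [Group G] [Finite G] (A B : Subgroup G)
    (h : ∀ s : G, ∃ b ∈ B, ∃ a ∈ A, s = b * a) :
    A.index ≤ A.relIndex B := by
  let φ : (↥B ⧸ A.subgroupOf B) → G ⧸ A :=
    Quotient.map' (Subtype.val : ↥B → G) (fun x y hxy => by
      rw [QuotientGroup.leftRel_apply] at hxy ⊢
      exact Subgroup.mem_subgroupOf.mp hxy)
  have hφ : Function.Surjective φ := by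
    intro q
    induction q using Quotient.inductionOn' with
    | h s =>
      obtain ⟨b, hb, a, ha, rfl⟩ := h s
      refine ⟨Quotient.mk'' ⟨b, hb⟩, ?_⟩
      show Quotient.mk'' b = Quotient.mk'' (b * a)
      rw [Quotient.eq'', QuotientGroup.leftRel_apply]
      simpa using ha
  exact Nat.card_le_card_of_surjective φ hφ

lemma card_le_of_factor {G : Type*} [Group G] [Finite G] (A B C : Subgroup G)
    (h : ∀ s : G, ∃ b ∈ B, ∃ a ∈ A, s = b * a)
    (hCA : C ⊓ A ≤ A ⊓ B) : Nat.card C ≤ Nat.card B := by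
  have h1 : Nat.card ↥(C ⊓ A) * A.relIndex C = Nat.card C := by
    have := Subgroup.relIndex_mul_relIndex ⊥ (C ⊓ A) C bot_le inf_le_left
    rwa [Subgroup.relIndex_bot_left, Subgroup.relIndex_bot_left, Subgroup.inf_relIndex_left] at this
  have h2 : Nat.card ↥(A ⊓ B) * A.relIndex B = Nat.card B := by
    have := Subgroup.relIndex_mul_relIndex ⊥ (A ⊓ B) B bot_le inf_le_right
    rwa [Subgroup.relIndex_bot_left, Subgroup.relIndex_bot_left, Subgroup.inf_relIndex_right] at this
  have h3 : A.relIndex C ≤ A.index := by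
    have := Subgroup.relIndex_le_of_le_right (H := A) (le_top : C ≤ ⊤)
      (by rw [Subgroup.relIndex_top_right]; exact Subgroup.index_ne_zero_of_finite)
    rwa [Subgroup.relIndex_top_right] at this
  have h4 : A.index ≤ A.relIndex B := index_le_relIndex A B h
  have h5 : Nat.card ↥(C ⊓ A) ≤ Nat.card ↥(A ⊓ B) := Subgroup.card_le_of_le hCA
  calc Nat.card C = Nat.card ↥(C ⊓ A) * A.relIndex C := h1.symm
    _ ≤ Nat.card ↥(A ⊓ B) * A.relIndex B := Nat.mul_le_mul h5 (h3.trans h4)
    _ = Nat.card B := h2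

theorem result {S : Type*} [Group S] [Finite S] (hS : IsPGroup 2 S) (hna : ¬ IsMulCommutative S) (A B : Subgroup S)
    (hA : Cfsg.IsElementaryAbelian 2 A) (hB : Cfsg.IsElementaryAbelian 2 B) (hAB : ∀ s : S, ∃ a ∈ A, ∃ b ∈ B, s = a * b)
    (hC : ∀ a ∈ A, a ∉ B → Subgroup.centralizer ({a} : Set S) = A) :
    (∀ b ∈ B, b ∉ A → Subgroup.centralizer ({b} : Set S) = B) ∧
      (∀ E : Subgroup S, Cfsg.IsElementaryAbelian 2 E → (∀ E' : Subgroup S, Cfsg.IsElementaryAbelian 2 E' → E ≤ E' → E' = E) → E = A ∨ E = B) ∧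
      (∀ E' : Subgroup S, Cfsg.IsElementaryAbelian 2 E' → A ≤ E' → E' = A) ∧ (∀ E' : Subgroup S, Cfsg.IsElementaryAbelian 2 E' → B ≤ E' → E' = B) ∧
      Subgroup.center S = A ⊓ B ∧
      (∀ x : S, x ∉ A → x ∉ B → Nat.card ↥(Subgroup.centralizer ({x} : Set S)) ≤ min (Nat.card ↥A) (Nat.card ↥B)) := by
  have hA' := hA
  have hB' := hB
  obtain ⟨hAc, hAs⟩ := hA
  obtain ⟨hBc, hBs⟩ := hB
  have comA : ∀ a ∈ A, ∀ a' ∈ A, a * a' = a' * a := fun a ha a' ha' => setLike_mul_comm ha ha'
  have comB : ∀ b ∈ B, ∀ b' ∈ B, b * b' = b' * b := fun b hb b' hb' => setLike_mul_comm hb hb'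
  have sqA : ∀ a ∈ A, a * a = 1 := fun a ha => by rw [← pow_two]; exact hAs a ha
  have sqB : ∀ b ∈ B, b * b = 1 := fun b hb => by rw [← pow_two]; exact hBs b hb
  have invA : ∀ a ∈ A, a⁻¹ = a := fun a ha => inv_eq_of_mul_eq_one_right (sqA a ha)
  have invB : ∀ b ∈ B, b⁻¹ = b := fun b hb => inv_eq_of_mul_eq_one_right (sqB b hb)
  -- centralizer property, elementwise
  have hCA : ∀ a ∈ A, a ∉ B → ∀ x : S, x * a = a * x → x ∈ A := by
    intro a ha hab x hx
    rw [← hC a ha hab]
    exact Subgroup.mem_centralizer_singleton_iff.mpr hx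
  -- reversed factorization
  have hBA : ∀ s : S, ∃ b ∈ B, ∃ a ∈ A, s = b * a := by
    intro s
    obtain ⟨a, ha, b, hb, h⟩ := hAB s⁻¹
    refine ⟨b, hb, a, ha, ?_⟩
    have : s = (a * b)⁻¹ := by rw [← h, inv_inv]
    rw [this, mul_inv_rev, invA a ha, invB b hb]
  -- A is not contained in B
  have hAnB : ∃ a0 ∈ A, a0 ∉ B := by
    by_contra hcon
    simp only [not_exists, not_and, not_not] at hcon
    apply hna
    rw [isMulCommutative_iff]
    intro x y
    obtain ⟨a, ha, b, hb, rfl⟩ := hAB x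
    obtain ⟨a', ha', b', hb', rfl⟩ := hAB y
    exact comB _ (B.mul_mem (hcon a ha) hb) _ (B.mul_mem (hcon a' ha') hb')
  have hBnA : ∃ b0 ∈ B, b0 ∉ A := by
    by_contra hcon
    simp only [not_exists, not_and, not_not] at hcon
    apply hna
    rw [isMulCommutative_iff]
    intro x y
    obtain ⟨a, ha, b, hb, rfl⟩ := hAB x
    obtain ⟨a', ha', b', hb', rfl⟩ := hAB y
    exact comA _ (A.mul_mem ha (hcon b hb)) _ (A.mul_mem ha' (hcon b' hb'))
  obtain ⟨a0, ha0, ha0B⟩ := hAnB
  obtain ⟨b0, hb0, hb0A⟩ := hBnA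
  -- (F3)
  have hCB : ∀ b ∈ B, b ∉ A → ∀ x : S, x * b = b * x → x ∈ B := by
    intro b hb hbA x hx
    obtain ⟨a', ha', b', hb', rfl⟩ := hAB x
    by_cases ha'B : a' ∈ B
    · exact B.mul_mem ha'B hb'
    · exfalso
      apply hbA
      apply hCA a' ha' ha'B b
      -- b commutes with a'
      have h1 : b' * b = b * b' := comB b' hb' b hb
      have h2 : a' * b' * b = b * (a' * b') := hx
      have h3 : a' * b * b' = b * a' * b' := by
        rw [mul_assoc, ← h1, ← mul_assoc, h2, mul_assoc]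
      have h4 := mul_right_cancel h3
      exact h4.symm
  have part1 : ∀ b ∈ B, b ∉ A → Subgroup.centralizer ({b} : Set S) = B := by
    intro b hb hbA
    ext x
    rw [Subgroup.mem_centralizer_singleton_iff]
    constructor
    · intro hx
      exact hCB b hb hbA x hx
    · intro hx
      exact comB x hx b hb
  -- maximality
  have maxA : ∀ E' : Subgroup S, Cfsg.IsElementaryAbelian 2 E' → A ≤ E' → E' = A := by
    intro E' hE' hAE
    apply le_antisymm _ hAE
    intro e he
    have := hE'.1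
    exact hCA a0 ha0 ha0B e (setLike_mul_comm he (hAE ha0))
  have maxB : ∀ E' : Subgroup S, Cfsg.IsElementaryAbelian 2 E' → B ≤ E' → E' = B := by
    intro E' hE' hBE
    apply le_antisymm _ hBE
    intro e he
    have := hE'.1
    exact hCB b0 hb0 hb0A e (setLike_mul_comm he (hBE hb0))
  -- involutions lie in A ∪ B
  have hinv : ∀ x : S, x * x = 1 → x ∈ A ∨ x ∈ B := by
    intro x hx
    obtain ⟨a, ha, b, hb, rfl⟩ := hAB x
    have hcomm : b * a = a * b := by
      have h1 : (a * b)⁻¹ = a * b := inv_eq_of_mul_eq_one_right hx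
      rw [mul_inv_rev, invA a ha, invB b hb] at h1
      exact h1
    by_cases haB : a ∈ B
    · right; exact B.mul_mem haB hb
    · left; exact A.mul_mem ha (hCA a ha haB b hcomm)
  have hsub : ∀ E : Subgroup S, Cfsg.IsElementaryAbelian 2 E → E ≤ A ∨ E ≤ B := by
    intro E hE
    by_contra hcon
    rw [not_or] at hcon
    obtain ⟨h1, h2⟩ := hcon
    rw [SetLike.not_le_iff_exists] at h1 h2
    obtain ⟨e1, he1, he1A⟩ := h1
    obtain ⟨e2, he2, he2B⟩ := h2
    have sqE : ∀ e ∈ E, e * e = 1 := fun e he => by rw [← pow_two]; exact hE.2 e he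
    have he1B : e1 ∈ B := (hinv e1 (sqE e1 he1)).resolve_left he1A
    have he2A : e2 ∈ A := (hinv e2 (sqE e2 he2)).resolve_right he2B
    rcases hinv (e1 * e2) (sqE _ (E.mul_mem he1 he2)) with h | h
    · apply he1A
      have := A.mul_mem h (A.inv_mem he2A)
      simpa using this
    · apply he2B
      have := B.mul_mem (B.inv_mem he1B) h
      simpa using this
  have part2 : ∀ E : Subgroup S, Cfsg.IsElementaryAbelian 2 E →
      (∀ E' : Subgroup S, Cfsg.IsElementaryAbelian 2 E' → E ≤ E' → E' = E) → E = A ∨ E = B := by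
    intro E hE hmax
    rcases hsub E hE with h | h
    · left; exact (hmax A hA' h).symm
    · right; exact (hmax B hB' h).symm
  have hcenter : Subgroup.center S = A ⊓ B := by
    ext z
    rw [Subgroup.mem_center_iff, Subgroup.mem_inf]
    constructor
    · intro hz
      exact ⟨hCA a0 ha0 ha0B z (hz a0).symm, hCB b0 hb0 hb0A z (hz b0).symm⟩
    · rintro ⟨hzA, hzB⟩ g
      obtain ⟨a, ha, b, hb, rfl⟩ := hAB g
      rw [mul_assoc, comB b hb z hzB, ← mul_assoc, comA a ha z hzA, mul_assoc]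
  refine ⟨part1, part2, maxA, maxB, hcenter, ?_⟩
  intro x hxA hxB
  apply le_min
  · -- ≤ |A|
    apply card_le_of_factor B A _ hAB
    intro c hc
    rw [Subgroup.mem_inf] at hc
    obtain ⟨hcC, hcB⟩ := hc
    rw [Subgroup.mem_centralizer_singleton_iff] at hcC
    rw [Subgroup.mem_inf]
    refine ⟨hcB, ?_⟩
    by_contra hcA
    exact hxB (hCB c hcB hcA x hcC.symm)
  · apply card_le_of_factor A B _ hBA
    intro c hc
    rw [Subgroup.mem_inf] at hc
    obtain ⟨hcC, hcA⟩ := hc
    rw [Subgroup.mem_centralizer_singleton_iff] at hcC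
    rw [Subgroup.mem_inf]
    refine ⟨hcA, ?_⟩
    by_contra hcB
    exact hxA (hCA c hcA hcB x hcC.symm)

end Cfsg.Agent.S3163
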