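import Cfsg.Statements.S3166
import Mathlib

set_option autoImplicit false
open Cfsg

namespace Cfsg.Agent.S3166

/-- The value is never a perfect square (for q ≥ 2). -/
theorem not_square (Q S : ℤ) (hQ : 2 ≤ Q) (hS : 0 ≤ S) (h : S ^ 2 = Q ^ 4 - Q ^ 3 + Q ^ 2 - Q + 1) : False := by
  rcases le_or_gt (2 * S) (2 * Q ^ 2 - Q) with h1 | h1
  · have h0 : 0 ≤ 2 * Q ^ 2 - Q := by nlinarith
    have : (2 * S) ^ 2 ≤ (2 * Q ^ 2 - Q) ^ 2 := by
      apply pow_le_pow_left₀ (by linarith) h1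
    nlinarith
  · have h2 : 2 * Q ^ 2 - Q + 1 ≤ 2 * S := by omega
    have h0 : 0 ≤ 2 * Q ^ 2 - Q + 1 := by nlinarith
    have : (2 * Q ^ 2 - Q + 1) ^ 2 ≤ (2 * S) ^ 2 := by
      apply pow_le_pow_left₀ h0 h2
    nlinarith

/-- The cube case. -/
theorem not_cube (Q k : ℤ) (hQ : 2 ≤ Q) (hk : 1 ≤ k)
    (h : (1 + Q * k) ^ 3 = Q ^ 4 - Q ^ 3 + Q ^ 2 - Q + 1) : False := by
  -- k^3 < Q
  have h1 : k ^ 3 < Q := by
    by_contra hcon
    rw [not_lt] at hcon
    have : Q ^ 3 * k ^ 3 ≥ Q ^ 3 * Q := by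
      apply mul_le_mul_of_nonneg_left hcon (by positivity)
    nlinarith [mul_pos (show (0:ℤ) < Q by linarith) (show (0:ℤ) < k by linarith),
      sq_nonneg (Q * k), sq_nonneg Q]
  -- Q ∣ 3k+1
  have h2 : Q ∣ 3 * k + 1 := by
    have hQ0 : Q ≠ 0 := by linarith
    have : Q * (3 * k + 1) = Q * (Q * (Q ^ 2 - Q + 1 - 3 * k ^ 2 - Q * k ^ 3)) := by
      ring_nf
      ring_nf at h
      linarith
    have := mul_left_cancel₀ hQ0 this
    exact ⟨_, this⟩
  have h3 : Q ≤ 3 * k + 1 := Int.le_of_dvd (by linarith) h2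
  -- so k = 1
  have h4 : k = 1 := by
    by_contra hne
    have hk2 : 2 ≤ k := by omega
    nlinarith [mul_self_nonneg k]
  subst h4
  have hQ4 : Q ≤ 4 := by linarith
  interval_cases Q <;> norm_num at h

/-- Let q = 2^n with n ≥ 1. If q⁴ − q³ + q² − q + 1 is a power p^m of a prime p, then m = 1: the value is never a prime power with exponent greater than 1. -/
theorem result (n p m : ℕ) (hn : 1 ≤ n) (hp : p.Prime) (h : (2 ^ n) ^ 4 - (2 ^ n) ^ 3 + (2 ^ n) ^ 2 - 2 ^ n + 1 = p ^ m) : m = 1 := by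
  set q : ℕ := 2 ^ n with hq
  have hq2 : 2 ≤ q := by
    calc 2 = 2 ^ 1 := by norm_num
      _ ≤ 2 ^ n := Nat.pow_le_pow_right (by norm_num) hn
  have hqeven : 2 ∣ q := by
    rw [hq]; exact dvd_pow_self 2 (by omega)
  have l1 : q ^ 3 ≤ q ^ 4 := Nat.pow_le_pow_right (by omega) (by norm_num)
  have l2 : q ≤ q ^ 2 := by nlinarith
  have hN : p ^ m + q ^ 3 + q = q ^ 4 + q ^ 2 + 1 := by omega
  -- integer form
  have hZ : ((p : ℤ)) ^ m = (q : ℤ) ^ 4 - (q : ℤ) ^ 3 + (q : ℤ) ^ 2 - (q : ℤ) + 1 := by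
    have := congrArg (fun t : ℕ => (t : ℤ)) hN
    push_cast at this
    linarith
  have hqZ : (2 : ℤ) ≤ (q : ℤ) := by exact_mod_cast hq2
  by_contra hm1
  -- m ≠ 0
  have hm0 : m ≠ 0 := by
    intro h0
    rw [h0, pow_zero] at hZ
    nlinarith [sq_nonneg ((q : ℤ)), sq_nonneg ((q:ℤ) ^ 2)]
  have hm2 : 2 ≤ m := by omega
  -- p ^ m is odd
  have hodd : Odd (p ^ m) := by
    have he : Even (q ^ 4 + q ^ 2 + 1 + 1) := by
      obtain ⟨c, hc⟩ := hqeven
      refine ⟨c * q ^ 3 + c * q + 1, ?_⟩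
      rw [hc]; ring
    have he2 : Even (q ^ 3 + q) := by
      obtain ⟨c, hc⟩ := hqeven
      refine ⟨c * q ^ 2 + c, ?_⟩
      rw [hc]; ring
    by_contra hne
    rw [Nat.not_odd_iff_even] at hne
    have : Even (p ^ m + q ^ 3 + q) := by
      rw [add_assoc]; exact hne.add he2
    rw [hN] at this
    have h1 : Odd (q ^ 4 + q ^ 2 + 1) := by
      obtain ⟨c, hc⟩ := hqeven
      refine ⟨c * q ^ 3 + c * q, ?_⟩
      rw [hc]; ring
    exact (Nat.not_even_iff_odd.2 h1) this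
  have hpodd : Odd p := by
    rcases Nat.even_or_odd p with he | ho
    · exfalso
      have : Even (p ^ m) := Nat.even_pow.2 ⟨he, hm0⟩
      exact (Nat.not_even_iff_odd.2 hodd) this
    · exact ho
  rcases Nat.even_or_odd m with ⟨j, hj⟩ | ⟨j, hj⟩
  · -- even case: perfect square
    apply not_square (q : ℤ) ((p : ℤ) ^ j) hqZ (by positivity)
    rw [← hZ, hj]
    ring
  · -- odd case
    have hj1 : 1 ≤ j := by omega
    -- geometric sum
    have hp1 : 1 ≤ p := hp.one_lt.le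
    have hgs := geom_sum_mul_add (p - 1) m
    rw [Nat.sub_add_cancel hp1] at hgs
    set S := ∑ i ∈ Finset.range m, p ^ i with hS
    have hSodd : Odd S := by
      rw [hS, Finset.odd_sum_iff_odd_card_odd]
      have : (Finset.filter (fun x => Odd (p ^ x)) (Finset.range m)) = Finset.range m := by
        apply Finset.filter_true_of_mem
        intro x _
        exact hpodd.pow
      rw [this, Finset.card_range, hj]
      exact ⟨j, rfl⟩
    -- q ∣ S * (p - 1)
    have hdiv : q ∣ S * (p - 1) := by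
      have e : S * (p - 1) + q ^ 3 + q = q ^ 4 + q ^ 2 := by omega
      have d1 : q ∣ q ^ 4 + q ^ 2 := Dvd.dvd.add (dvd_pow_self q (by norm_num)) (dvd_pow_self q (by norm_num))
      have d2 : q ∣ q ^ 3 + q := Dvd.dvd.add (dvd_pow_self q (by norm_num)) (dvd_refl q)
      have e' : S * (p - 1) + (q ^ 3 + q) = q ^ 4 + q ^ 2 := by omega
      exact (Nat.dvd_add_left d2).1 (e' ▸ d1)
    have hcop : Nat.Coprime q S := by
      rw [hq]
      exact Nat.Coprime.pow_left n (Nat.coprime_two_left.2 hSodd)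
    have hdiv2 : q ∣ p - 1 := hcop.dvd_of_dvd_mul_left hdiv
    obtain ⟨k, hk⟩ := hdiv2
    have hk1 : 1 ≤ k := by
      rcases Nat.eq_zero_or_pos k with h0 | h0
      · rw [h0, mul_zero] at hk
        have := hp.one_lt
        omega
      · exact h0
    have hpk : p = 1 + q * k := by omega
    -- m < 4
    have hm4 : m < 4 := by
      by_contra hcon
      rw [not_lt] at hcon
      have hpq : q + 1 ≤ p := by
        rw [hpk]; nlinarith
      have : (q + 1) ^ 4 ≤ p ^ m := by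
        calc (q + 1) ^ 4 ≤ p ^ 4 := Nat.pow_le_pow_left hpq 4
          _ ≤ p ^ m := Nat.pow_le_pow_right hp1 hcon
      have hlt : p ^ m < (q + 1) ^ 4 := by
        have : p ^ m ≤ q ^ 4 + q ^ 2 + 1 := by omega
        have h5 : q ^ 4 + q ^ 2 + 1 < (q + 1) ^ 4 := by
          have : (q + 1) ^ 4 = q ^ 4 + 4 * q ^ 3 + 6 * q ^ 2 + 4 * q + 1 := by ring
          rw [this]
          have : 0 < q ^ 3 := by positivity
          have : 0 < q ^ 2 := by positivity
          omega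
        omega
      omega
    have hm3 : m = 3 := by omega
    apply not_cube (q : ℤ) (k : ℤ) hqZ (by exact_mod_cast hk1)
    rw [← hZ, hm3, hpk]
    push_cast
    ring

end Cfsg.Agent.S3166
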