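import Mathlib
import Cfsg.Statements.S3179
import Cfsg.Agent.S2475
import Cfsg.Agent.S0280
import Cfsg.Agent.S0324
import Cfsg.Agent.Lib_helper11_Sz13
import Cfsg.Agent.Lib_helper12_Card
import Cfsg.Agent.Lib_helper2_Classical

set_option autoImplicit false
open Cfsg

namespace Cfsg.Agent.S3179

open Matrix

theorem card_GL5 : Nat.card (GL (Fin 5) (ZMod 2)) = 9999360 := by
  rw [Matrix.card_GL_field, Fin.prod_univ_five]
  simp [ZMod.card]

/-- a free action of a finite group: the order divides the size of the set -/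
theorem card_dvd_of_free {C X : Type*} [Group C] [Finite C] [MulAction C X] [Finite X]
    (h : ∀ x : X, MulAction.stabilizer C x = ⊥) : Nat.card C ∣ Nat.card X := by
  classical
  haveI := Fintype.ofFinite X
  haveI : Fintype (Quotient (MulAction.orbitRel C X)) := Fintype.ofFinite _
  rw [Nat.card_congr (MulAction.selfEquivSigmaOrbitsQuotientStabilizer C X), Nat.card_sigma]
  apply Finset.dvd_sum
  intro ω _
  rw [h, ← Subgroup.index_eq_card, Subgroup.index_bot]

theorem pow_nine_add {G : Type*} [Monoid G] (f : G) (h9 : f ^ 9 = 1) (t : ℕ) :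
    f ^ (9 * t + 3) = f ^ 3 := by
  rw [pow_add, pow_mul, h9, one_pow, one_mul]

set_option maxHeartbeats 1000000 in
theorem pow_three_eq_one {V : Type*} [AddCommGroup V] [Module (ZMod 2) V] [Finite V]
    (hV : Nat.card V = 32) (f : V ≃ₗ[ZMod 2] V) (h9 : f ^ 9 = 1) : f ^ 3 = 1 := by
  classical
  by_contra h3
  have hord : orderOf f = 9 := by
    have hd : orderOf f ∣ 3 ^ 2 := orderOf_dvd_of_pow_eq_one h9
    rcases (Nat.dvd_prime_pow Nat.prime_three).mp hd with ⟨k, hk, hk2⟩
    interval_cases k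
    · exfalso; apply h3
      have : f = 1 := orderOf_eq_one_iff.mp (by rw [hk2]; norm_num)
      rw [this, one_pow]
    · exfalso; apply h3
      have := pow_orderOf_eq_one f
      rwa [hk2, pow_one] at this
    · rw [hk2]; norm_num
  obtain ⟨U, hU⟩ : ∃ U : AddSubgroup V, ∀ v, v ∈ U ↔ (f ^ 3) v = v :=
    ⟨{ carrier := {v | (f ^ 3) v = v}
       zero_mem' := map_zero _
       add_mem' := fun {a b} ha hb => by
        have ha' : (f ^ 3) a = a := ha
        have hb' : (f ^ 3) b = b := hb
        show (f ^ 3) (a + b) = a + b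
        rw [map_add, ha', hb']
       neg_mem' := fun {a} ha => by
        have ha' : (f ^ 3) a = a := ha
        show (f ^ 3) (-a) = -a
        rw [map_neg, ha'] }, fun v => Iff.rfl⟩
  -- the action
  letI : MulAction (Subgroup.zpowers f) {v : V // (f ^ 3) v ≠ v} :=
    { smul := fun c x => ⟨c.1 x.1, fun h => x.2 (by
          obtain ⟨k, hk⟩ := Subgroup.mem_zpowers_iff.mp c.2
          have hcomm : (f ^ 3) * c.1 = c.1 * (f ^ 3) := by
            rw [← hk]
            exact ((Commute.refl f).zpow_right k).pow_left 3 |>.eq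
          have h2 : c.1 ((f ^ 3) x.1) = c.1 x.1 := by
            have := congrArg (fun g : V ≃ₗ[ZMod 2] V => g x.1) hcomm
            simp only [LinearEquiv.mul_apply] at this
            rw [← this]; exact h
          exact c.1.injective h2)⟩
      one_smul := fun x => Subtype.ext rfl
      mul_smul := fun a b x => Subtype.ext rfl }
  have hsmul : ∀ (c : Subgroup.zpowers f) (x : {v : V // (f ^ 3) v ≠ v}),
      ((c • x : {v : V // (f ^ 3) v ≠ v}) : V) = c.1 x.1 := fun c x => rfl
  have hfree : ∀ x : {v : V // (f ^ 3) v ≠ v}, MulAction.stabilizer (Subgroup.zpowers f) x = ⊥ := by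
    intro x
    rw [Subgroup.eq_bot_iff_forall]
    intro c hc
    by_contra hc1
    obtain ⟨z, hz⟩ := Subgroup.mem_zpowers_iff.mp c.2
    have hz2 : f ^ (z % 9).toNat = c.1 := by
      rw [← hz, ← zpow_natCast, Int.toNat_of_nonneg (Int.emod_nonneg z (by norm_num))]
      have := zpow_mod_orderOf f z
      rw [hord] at this
      exact this
    have hk9 : (z % 9).toNat < 9 := by
      have := Int.emod_lt_of_pos z (show (0 : ℤ) < 9 by norm_num)
      have h0 := Int.emod_nonneg z (show (9 : ℤ) ≠ 0 by norm_num)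
      omega
    generalize (z % 9).toNat = k at hz2 hk9
    have key : ∀ j : ℕ, (c.1 ^ j) x.1 = x.1 := by
      intro j
      have := Subgroup.pow_mem _ hc j
      have h5 := congrArg Subtype.val (MulAction.mem_stabilizer_iff.mp this)
      rw [hsmul] at h5
      rwa [Subgroup.coe_pow] at h5
    have hcon : ∀ j t : ℕ, k * j = 9 * t + 3 → False := by
      intro j t hjt
      apply x.2
      have := key j
      rwa [← hz2, ← pow_mul, hjt, pow_nine_add f h9] at this
    interval_cases k
    · apply hc1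
      apply Subtype.ext
      rw [← hz2, pow_zero]; rfl
    · exact hcon 3 0 (by norm_num)
    · exact hcon 6 1 (by norm_num)
    · exact hcon 1 0 (by norm_num)
    · exact hcon 3 1 (by norm_num)
    · exact hcon 6 3 (by norm_num)
    · exact hcon 2 1 (by norm_num)
    · exact hcon 3 2 (by norm_num)
    · exact hcon 6 5 (by norm_num)
  haveI : Finite (V ≃ₗ[ZMod 2] V) :=
    Finite.of_injective (fun g : V ≃ₗ[ZMod 2] V => (g : V → V)) DFunLike.coe_injective
  have hdvd := card_dvd_of_free hfree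
  rw [Nat.card_zpowers, hord] at hdvd
  -- count
  haveI := Fintype.ofFinite V
  have hUd : Nat.card U ∣ 2 ^ 5 := by
    have := AddSubgroup.card_addSubgroup_dvd_card U
    rwa [hV] at this
  have hcount : Nat.card {v : V // (f ^ 3) v ≠ v} + Nat.card U = 32 := by
    rw [← hV, Nat.card_eq_fintype_card, Nat.card_eq_fintype_card, Nat.card_eq_fintype_card]
    have e : {v : V // (f ^ 3) v ≠ v} ≃ {v : V // ¬ v ∈ U} :=
      Equiv.subtypeEquivRight (fun v => by rw [hU])
    rw [Fintype.card_congr e]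
    have := Fintype.card_subtype_compl (fun v : V => v ∈ U)
    have hle : Fintype.card {v : V // v ∈ U} ≤ Fintype.card V := Fintype.card_subtype_le _
    have e2 : Fintype.card U = Fintype.card {v : V // v ∈ U} := rfl
    omega
  have hne : Nat.card {v : V // (f ^ 3) v ≠ v} ≠ 0 := by
    have : ∃ v, (f ^ 3) v ≠ v := by
      by_contra hall
      push Not at hall
      apply h3
      ext v
      exact hall v
    obtain ⟨v, hv⟩ := this
    haveI : Nonempty {v : V // (f ^ 3) v ≠ v} := ⟨⟨v, hv⟩⟩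
    exact Nat.card_pos.ne'
  rcases (Nat.dvd_prime_pow Nat.prime_two).mp hUd with ⟨k, hk, hk2⟩
  rw [hk2] at hcount
  obtain ⟨t, ht⟩ := hdvd
  interval_cases k <;> omega

theorem gl5_pow_three (g : GL (Fin 5) (ZMod 2)) (h9 : g ^ 9 = 1) : g ^ 3 = 1 := by
  have hV : Nat.card (Fin 5 → ZMod 2) = 32 := by
    rw [Nat.card_eq_fintype_card, Fintype.card_fun, ZMod.card, Fintype.card_fin]
    norm_num
  have h := pow_three_eq_one hV
    ((Matrix.GeneralLinearGroup.toLin.trans
      (LinearMap.GeneralLinearGroup.generalLinearEquiv (ZMod 2) (Fin 5 → ZMod 2))) g)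
    (by rw [← map_pow, h9, map_one])
  rw [← map_pow] at h
  exact (Matrix.GeneralLinearGroup.toLin.trans
      (LinearMap.GeneralLinearGroup.generalLinearEquiv (ZMod 2) (Fin 5 → ZMod 2))).injective
    (h.trans (map_one _).symm)

theorem section_pow_three {H : Subgroup (GL (Fin 5) (ZMod 2))} {K : Subgroup H} [K.Normal]
    (y : H ⧸ K) (h9 : y ^ 9 = 1) : y ^ 3 = 1 := by
  obtain ⟨h, rfl⟩ := QuotientGroup.mk_surjective y
  have hn : 0 < orderOf h := orderOf_pos h
  by_cases hd : 9 ∣ orderOf h
  · exfalso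
    obtain ⟨t, ht⟩ := hd
    have h1 : (h ^ t) ^ 9 = 1 := by rw [← pow_mul, mul_comm, ← ht, pow_orderOf_eq_one]
    have h2 : ((h ^ t : H) : GL (Fin 5) (ZMod 2)) ^ 9 = 1 := by
      rw [← Subgroup.coe_pow, h1, Subgroup.coe_one]
    have h3 := gl5_pow_three _ h2
    have h4 : (h ^ t) ^ 3 = 1 := Subtype.ext (by rw [Subgroup.coe_pow, h3, Subgroup.coe_one])
    rw [← pow_mul] at h4
    have h5 := orderOf_dvd_of_pow_eq_one h4
    rw [ht] at h5
    have ht0 : 0 < t := by
      rcases Nat.eq_zero_or_pos t with h0 | h0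
      · rw [h0] at ht; omega
      · exact h0
    have : 9 * t ≤ t * 3 := Nat.le_of_dvd (by omega) h5
    omega
  · have ho : orderOf (QuotientGroup.mk h : H ⧸ K) ∣ 3 ^ 2 := orderOf_dvd_of_pow_eq_one h9
    have ho2 : orderOf (QuotientGroup.mk h : H ⧸ K) ∣ orderOf h :=
      orderOf_map_dvd (QuotientGroup.mk' K) h
    have : orderOf (QuotientGroup.mk h : H ⧸ K) ∣ 3 := by
      rcases (Nat.dvd_prime_pow Nat.prime_three).mp ho with ⟨k, hk, hk2⟩
      interval_cases k
      · rw [hk2]; norm_num
      · rw [hk2]; norm_num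
      · exfalso; apply hd; rw [hk2] at ho2; exact ho2
    exact orderOf_dvd_iff_pow_eq_one.mp this

theorem card_section_dvd {H : Subgroup (GL (Fin 5) (ZMod 2))} {K : Subgroup H} [K.Normal] :
    Nat.card (H ⧸ K) ∣ 9999360 := by
  rw [← card_GL5]
  exact dvd_trans (Subgroup.card_quotient_dvd_card K) (Subgroup.card_subgroup_dvd_card H)

theorem card_PSL2 {F : Type} [Field F] [Fintype F] (n : ℕ) (hF : Fintype.card F = 2 ^ n) (hn : 1 ≤ n) :
    Nat.card (Matrix.ProjectiveSpecialLinearGroup (Fin 2) F) = 2 ^ n * ((2 ^ n) ^ 2 - 1) := by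
  have h1 := Cfsg.Agent.helper2.card_SL_eq_card_PSL_mul (F := F) 2
  rw [Cfsg.Agent.helper2.card_center_SL 2 (by norm_num), Cfsg.Agent.helper12.card_SL2, hF] at h1
  have hodd : Nat.gcd (2 ^ n - 1) 2 = 1 := by
    rw [Nat.gcd_comm]
    apply Nat.Coprime.gcd_eq_one
    rw [Nat.coprime_two_left]
    have : 2 ∣ 2 ^ n := dvd_pow_self 2 (by omega)
    have hp : 0 < 2 ^ n := by positivity
    rw [Nat.odd_iff]
    omega
  rw [hodd, mul_one] at h1
  exact h1.symm

/-- Let X be a section of the general linear group GL(5, 2), that is, a quotient of a subgroup of it. If X is isomorphic to PSL(2, 2^n) for some n ≥ 2, to a Suzuki group over the field with 2^(2m+1) elements for some m ≥ 1, or to PSU(3, 2^n) for some n ≥ 2, then X is isomorphic to PSL(2, 4). -/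
theorem result {H : Subgroup (GL (Fin 5) (ZMod 2))}
    {K : Subgroup ↥H} [K.Normal]
    (hX : (∃ (n : ℕ) (F : Type) (_ : Field F) (_ : Fintype F), 2 ≤ n ∧ Fintype.card F = 2 ^ n ∧
        Nonempty (↥H ⧸ K ≃* Matrix.ProjectiveSpecialLinearGroup (Fin 2) F)) ∨
      (∃ (m : ℕ) (F : Type) (_ : Field F) (_ : Fintype F), 1 ≤ m ∧ Fintype.card F = 2 ^ (2 * m + 1) ∧
        Nonempty (↥H ⧸ K ≃* ↥(Cfsg.Lie.Sz F (2 ^ (m + 1))))) ∨
      (∃ (n : ℕ) (F : Type) (_ : Field F) (_ : Fintype F), 2 ≤ n ∧ Fintype.card F = 4 ^ n ∧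
        Nonempty (↥H ⧸ K ≃* Cfsg.PSU 3 F (2 ^ n)))) :
    ∃ (F : Type) (_ : Field F) (_ : Fintype F), Fintype.card F = 4 ∧
      Nonempty (↥H ⧸ K ≃* Matrix.ProjectiveSpecialLinearGroup (Fin 2) F) := by
  have hdvd := card_section_dvd (H := H) (K := K)
  have h2pow : ∀ k : ℕ, 11 ≤ k → ¬ (2 ^ k ∣ 9999360) := by
    intro k hk hd
    have : 2 ^ 11 ∣ 9999360 := dvd_trans (pow_dvd_pow 2 hk) hd
    norm_num at this
  rcases hX with ⟨n, F, _, _, hn, hF, ⟨e⟩⟩ | ⟨m, F, _, _, hm, hF, ⟨e⟩⟩ | ⟨n, F, _, _, hn, hF, ⟨e⟩⟩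
  · -- PSL2
    rw [Nat.card_congr e.toEquiv, card_PSL2 n hF (by omega)] at hdvd
    by_cases hn11 : 11 ≤ n
    · exact absurd (dvd_trans (dvd_mul_right _ _) hdvd) (h2pow n hn11)
    · push Not at hn11
      interval_cases n
      · exact ⟨F, inferInstance, inferInstance, by rw [hF]; norm_num, ⟨e⟩⟩
      · exfalso
        haveI : CharP F 2 := Cfsg.Agent.helper11.Sz.charP_two (m := 1) (by rw [hF])
        haveI : Fact (Nat.Prime 2) := ⟨Nat.prime_two⟩
        have hr := Cfsg.Agent.S2475.result (F := F) 2 (by rw [hF]; norm_num)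
        have h9 : (9 : ℕ) ∈ Set.range (orderOf : Matrix.ProjectiveSpecialLinearGroup (Fin 2) F → ℕ) := by
          rw [hr, hF]
          right; right
          norm_num
        obtain ⟨z, hz⟩ := h9
        have hy : orderOf (e.symm z) = 9 := by rw [MulEquiv.orderOf_eq, hz]
        have h1 : (e.symm z) ^ 9 = 1 := by rw [← hy, pow_orderOf_eq_one]
        have h3 := section_pow_three _ h1
        have := orderOf_dvd_of_pow_eq_one h3
        rw [hy] at this
        norm_num at this
      all_goals (exfalso; norm_num at hdvd)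
  · -- Sz
    exfalso
    haveI : CharP F 2 := Cfsg.Agent.helper11.Sz.charP_two hF
    rw [Nat.card_congr (e.trans (Cfsg.Agent.helper11.Sz.lieSzEquiv hm hF).symm).toEquiv,
      Cfsg.Agent.S0324.result hm hF] at hdvd
    by_cases hm3 : 3 ≤ m
    · have h1 : 2 ^ (2 * (2 * m + 1)) ∣ 9999360 := by
        rw [pow_mul']
        exact dvd_trans (dvd_trans (dvd_mul_right _ _) (dvd_mul_right _ _)) hdvd
      exact h2pow _ (by omega) h1
    · push Not at hm3
      interval_cases m <;> norm_num at hdvd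
  · -- PSU3
    exfalso
    rw [Nat.card_congr e.toEquiv] at hdvd
    have hF' : Fintype.card F = (2 ^ n) ^ 2 := by
      rw [hF, ← pow_mul, mul_comm, pow_mul]; norm_num
    have hc := Cfsg.Agent.S0280.result hF' 3 (by norm_num)
    rw [Finset.prod_range_succ, Finset.prod_range_succ, Finset.prod_range_one] at hc
    norm_num at hc
    by_cases hn4 : 4 ≤ n
    · have hcop : Nat.Coprime ((2 ^ n) ^ 3) (Nat.gcd 3 (2 ^ n + 1) * (2 ^ n + 1)) := by
        apply Nat.Coprime.pow_left
        apply Nat.Coprime.pow_left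
        have hodd : Nat.Coprime 2 (2 ^ n + 1) := by
          rw [Nat.coprime_two_left, Nat.odd_iff]
          have : 2 ∣ 2 ^ n := dvd_pow_self 2 (by omega)
          omega
        apply Nat.Coprime.mul_right
        · exact Nat.Coprime.coprime_dvd_right (Nat.gcd_dvd_right _ _) hodd
        · exact hodd
      have h1 : (2 ^ n) ^ 3 ∣ Nat.gcd 3 (2 ^ n + 1) * (2 ^ n + 1) * Nat.card (Cfsg.PSU 3 F (2 ^ n)) := by
        rw [mul_assoc, hc]
        exact dvd_mul_right _ _
      have h2 := hcop.dvd_of_dvd_mul_left h1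
      have h3 : 2 ^ (n * 3) ∣ 9999360 := by
        rw [pow_mul]
        exact dvd_trans h2 hdvd
      exact h2pow _ (by omega) h3
    · push Not at hn4
      interval_cases n
      · norm_num at hc hdvd
        have : Nat.card (Cfsg.PSU 3 F 4) = 62400 := by omega
        rw [this] at hdvd
        norm_num at hdvd
      · norm_num at hc hdvd
        have : Nat.card (Cfsg.PSU 3 F 8) = 5515776 := by omega
        rw [this] at hdvd
        norm_num at hdvd

end Cfsg.Agent.S3179
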