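import Cfsg.Statements.S3180
import Mathlib

set_option autoImplicit false
open Cfsg

namespace Cfsg.Agent.S3180

theorem mem_map_conj {J : Type*} [Group J] (H : Subgroup J) (g z : J) :
    z ∈ H.map (MulAut.conj g).toMonoidHom ↔ ∃ h ∈ H, g * h * g⁻¹ = z := by
  simp [Subgroup.mem_map]

theorem mem_normalizer_of_map_conj_eq {J : Type*} [Group J] (H : Subgroup J) (g : J)
    (h : H.map (MulAut.conj g).toMonoidHom = H) : g ∈ Subgroup.normalizer (H : Set J) := by
  rw [Subgroup.mem_normalizer_iff]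
  intro z
  constructor
  · intro hz
    rw [← h, mem_map_conj]
    exact ⟨z, hz, rfl⟩
  · intro hz
    rw [← h, mem_map_conj] at hz
    obtain ⟨w, hw, hwz⟩ := hz
    have : w = z := by
      have := congrArg (fun t => g⁻¹ * t * g) hwz
      simpa [mul_assoc] using this
    rwa [← this]

/-- Let P be a Sylow p-subgroup of a finite group J and P₁ a subgroup of P that is weakly closed in P with respect to J. If J acts on a set and two points, each fixed by every element of P₁, lie in one J-orbit, then they lie in one orbit of the normalizer of P₁ in J. -/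
theorem result {J : Type*} [Group J] [Finite J]
    {p : ℕ} [Fact p.Prime] (P : Sylow p J) (P₁ : Subgroup J) (hW : Cfsg.IsWeaklyClosed P₁ (P : Subgroup J))
    {Ω : Type*} [MulAction J Ω] (x y : Ω) (hx : ∀ g ∈ P₁, g • x = x) (hy : ∀ g ∈ P₁, g • y = y)
    (hc : ∃ g : J, g • x = y) :
    ∃ g ∈ Subgroup.normalizer (P₁ : Set J), g • x = y := by
  obtain ⟨g, hg⟩ := hc
  obtain ⟨hW1, hW2⟩ := hW
  have hP₁ : IsPGroup p P₁ := P.2.to_le hW1
  set St : Subgroup J := MulAction.stabilizer J y with hSt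
  have h1 : P₁ ≤ St := fun h hh => by
    rw [hSt, MulAction.mem_stabilizer_iff]; exact hy h hh
  have h2 : P₁.map (MulAut.conj g).toMonoidHom ≤ St := by
    intro z hz
    rw [mem_map_conj] at hz
    obtain ⟨h, hh, rfl⟩ := hz
    rw [hSt, MulAction.mem_stabilizer_iff, ← hg, mul_smul, mul_smul, inv_smul_smul, hx h hh]
  have hR : IsPGroup p (P₁.map (MulAut.conj g).toMonoidHom) := hP₁.map _
  -- Sylow subgroups of St
  obtain ⟨Q, hQ⟩ := (hP₁.comap_subtype (K := St)).exists_le_sylow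
  obtain ⟨Q', hQ'⟩ := (hR.comap_subtype (K := St)).exists_le_sylow
  obtain ⟨s, hs⟩ := MulAction.exists_smul_eq (↥St) Q' Q
  -- the p-subgroup QJ of J
  set QJ : Subgroup J := (Q : Subgroup St).map St.subtype with hQJ
  have hQJp : IsPGroup p QJ := Q.2.map _
  obtain ⟨P', hP'⟩ := hQJp.exists_le_sylow
  obtain ⟨k, hk⟩ := MulAction.exists_smul_eq J P' P
  have key : ∀ z ∈ QJ, k * z * k⁻¹ ∈ (P : Subgroup J) := by
    intro z hz
    have hz' : z ∈ (P' : Subgroup J) := hP' hz
    rw [← hk, Sylow.coe_subgroup_smul]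
    rw [Subgroup.mem_pointwise_smul_iff_inv_smul_mem]
    simpa [MulAut.smul_def, mul_assoc] using hz'
  have e1 : ∀ h ∈ P₁, h ∈ QJ := by
    intro h hh
    refine ⟨⟨h, h1 hh⟩, hQ ?_, rfl⟩
    simpa [Subgroup.mem_subgroupOf] using hh
  have e2 : ∀ h ∈ P₁, (s : J) * (g * h * g⁻¹) * (s : J)⁻¹ ∈ QJ := by
    intro h hh
    have hmem : g * h * g⁻¹ ∈ St := h2 ((mem_map_conj _ _ _).2 ⟨h, hh, rfl⟩)
    have hq' : (⟨g * h * g⁻¹, hmem⟩ : St) ∈ (Q' : Subgroup St) := by
      apply hQ'
      rw [Subgroup.mem_comap]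
      exact (mem_map_conj _ _ _).2 ⟨h, hh, rfl⟩
    have hq : s * (⟨g * h * g⁻¹, hmem⟩ : St) * s⁻¹ ∈ (Q : Subgroup St) := by
      rw [← hs, Sylow.coe_subgroup_smul, Subgroup.mem_pointwise_smul_iff_inv_smul_mem]
      simpa [MulAut.smul_def, mul_assoc] using hq'
    exact ⟨_, hq, by simp⟩
  -- weak closure twice
  have c1 : P₁.map (MulAut.conj k).toMonoidHom = P₁ := by
    apply hW2
    intro z hz
    rw [mem_map_conj] at hz
    obtain ⟨h, hh, rfl⟩ := hz
    exact key h (e1 h hh)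
  have c2 : P₁.map (MulAut.conj (k * (s : J) * g)).toMonoidHom = P₁ := by
    apply hW2
    intro z hz
    rw [mem_map_conj] at hz
    obtain ⟨h, hh, rfl⟩ := hz
    have := key _ (e2 h hh)
    simpa [mul_assoc] using this
  have n1 := mem_normalizer_of_map_conj_eq P₁ k c1
  have n2 := mem_normalizer_of_map_conj_eq P₁ (k * (s : J) * g) c2
  refine ⟨(s : J) * g, ?_, ?_⟩
  · have := (Subgroup.normalizer (P₁ : Set J)).mul_mem ((Subgroup.normalizer (P₁ : Set J)).inv_mem n1) n2
    simpa [mul_assoc] using this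
  · rw [mul_smul, hg]
    have hs2 : (s : J) ∈ MulAction.stabilizer J y := s.2
    exact MulAction.mem_stabilizer_iff.1 hs2

end Cfsg.Agent.S3180
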