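import Cfsg.Statements.S3183
import Mathlib

set_option autoImplicit false
open Cfsg

namespace Cfsg.Agent.S3183

/-- The centre of a subgroup `U`, viewed in `G`. -/
theorem mem_centerMap {G : Type*} [Group G] (U : Subgroup G) (z : G) :
    z ∈ (Subgroup.center ↥U).map U.subtype ↔ z ∈ U ∧ ∀ u ∈ U, u * z = z * u := by
  constructor
  · rintro ⟨⟨w, hw⟩, hc, rfl⟩
    refine ⟨hw, fun u hu => ?_⟩
    have := Subgroup.mem_center_iff.1 hc ⟨u, hu⟩
    exact congrArg Subtype.val this
  · rintro ⟨hz, hc⟩
    refine ⟨⟨z, hz⟩, ?_, rfl⟩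
    apply Subgroup.mem_center_iff.2
    intro u
    exact Subtype.ext (hc u u.2)

/-- In a finite `p`-group, a proper subgroup is properly contained in its normalizer; version inside `G`. -/
theorem exists_normalizer_not_mem {G : Type*} [Group G] [Finite G] {p : ℕ} [Fact p.Prime]
    (S : Subgroup G) (hS : IsPGroup p S) (D : Subgroup G) (hDS : D ≤ S) (hne : D ≠ S) :
    ∃ s ∈ S, s ∈ Subgroup.normalizer (D : Set G) ∧ s ∉ D := by
  have : Group.IsNilpotent ↥S := hS.isNilpotent
  have hnc := Group.normalizerCondition_of_isNilpotent (G := ↥S)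
  have hlt : D.subgroupOf S < ⊤ := by
    rw [lt_top_iff_ne_top]
    intro h
    apply hne
    apply le_antisymm hDS
    exact Subgroup.subgroupOf_eq_top.1 h
  have := hnc (D.subgroupOf S) hlt
  rw [← Subgroup.subgroupOf_normalizer_eq hDS] at this
  obtain ⟨s, hsN, hsD⟩ := SetLike.exists_of_lt this
  exact ⟨s, s.2, Subgroup.mem_subgroupOf.1 hsN, fun h => hsD (Subgroup.mem_subgroupOf.2 h)⟩

/-- Main lemma: intersections of distinct Sylow 2-subgroups are central in each. -/
theorem main_lemma {G : Type*} [Group G] [Finite G]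
    (hCI : ∀ S T : Sylow 2 G, S ≠ T → ∃ U : Sylow 2 G,
      (S : Subgroup G) ⊓ (T : Subgroup G) ≤ (Subgroup.center ↥(U : Subgroup G)).map (U : Subgroup G).subtype) :
    ∀ D : Subgroup G, ∀ S T : Sylow 2 G, S ≠ T → (S : Subgroup G) ⊓ (T : Subgroup G) = D →
      D ≤ (Subgroup.center ↥(S : Subgroup G)).map (S : Subgroup G).subtype := by
  have : Fact (Nat.Prime 2) := ⟨Nat.prime_two⟩
  intro D
  induction D using WellFoundedGT.induction with
  | ind D ih =>
    intro S T hST hD
    obtain ⟨U, hU⟩ := hCI S T hST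
    rw [hD] at hU
    have hDS : D ≤ (S : Subgroup G) := hD ▸ inf_le_left
    have hDT : D ≤ (T : Subgroup G) := hD ▸ inf_le_right
    -- D ≠ S
    have hDneS : D ≠ (S : Subgroup G) := by
      intro h
      apply hST
      have hle : (S : Subgroup G) ≤ T := h ▸ hDT
      have := S.3 T.2 hle
      exact Sylow.ext this.symm
    obtain ⟨s, hsS, hsN, hsD⟩ := exists_normalizer_not_mem (S : Subgroup G) S.2 D hDS hDneS
    -- U centralizes D
    have hUD : ∀ u ∈ (U : Subgroup G), ∀ d ∈ D, u * d = d * u := by
      intro u hu d hd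
      exact ((mem_centerMap _ _).1 (hU hd)).2 u hu
    set N : Subgroup G := Subgroup.normalizer (D : Set G) with hN
    have hUN : (U : Subgroup G) ≤ N := by
      intro u hu
      rw [hN, Subgroup.mem_normalizer_iff]
      intro d
      constructor
      · intro hd
        have : u * d * u⁻¹ = d := by
          rw [hUD u hu d hd]; group
        rw [this]; exact hd
      · intro hd
        have h1 := hUD u hu _ hd
        have : d = u * d * u⁻¹ := by
          have : u * d * u⁻¹ = u⁻¹ * (u * (u * d * u⁻¹)) := by group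
          rw [this, h1]; group
        rw [this]; exact hd
    -- R = S ⊓ N is a 2-subgroup of N, lies in a conjugate of U by an element of N
    set R : Subgroup G := (S : Subgroup G) ⊓ N with hR
    have hR2 : IsPGroup 2 R := S.2.to_le inf_le_left
    obtain ⟨Q, hQ⟩ := (hR2.comap_subtype (K := N)).exists_le_sylow
    obtain ⟨n, hn⟩ := MulAction.exists_smul_eq (↥N) (U.subtype hUN) Q
    have hRconj : ∀ r ∈ R, (n : G)⁻¹ * r * (n : G) ∈ (U : Subgroup G) := by
      intro r hr
      have hrN : r ∈ N := hr.2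
      have h1 : (⟨r, hrN⟩ : ↥N) ∈ (Q : Subgroup ↥N) := by
        apply hQ
        rw [Subgroup.mem_comap]
        exact hr
      rw [← hn, Sylow.coe_subgroup_smul, Subgroup.mem_pointwise_smul_iff_inv_smul_mem] at h1
      have h2 : n⁻¹ * (⟨r, hrN⟩ : ↥N) * n ∈ ((U.subtype hUN : Sylow 2 ↥N) : Subgroup ↥N) := by
        simpa [MulAut.smul_def] using h1
      rw [Sylow.coe_subtype, Subgroup.mem_subgroupOf] at h2
      simpa using h2
    -- S1 = n • U
    set S1 : Sylow 2 G := (n : G) • U with hS1
    have hS1mem : ∀ z : G, z ∈ (S1 : Subgroup G) ↔ (n : G)⁻¹ * z * (n : G) ∈ (U : Subgroup G) := by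
      intro z
      rw [hS1, Sylow.coe_subgroup_smul, Subgroup.mem_pointwise_smul_iff_inv_smul_mem]
      simp [MulAut.smul_def]
    have hRS1 : R ≤ (S1 : Subgroup G) := fun r hr => (hS1mem r).2 (hRconj r hr)
    -- S1 centralizes D
    have hS1D : ∀ z ∈ (S1 : Subgroup G), ∀ d ∈ D, z * d = d * z := by
      intro z hz d hd
      have hu := (hS1mem z).1 hz
      have hnN : (n : G) ∈ N := n.2
      have hd' : (n : G)⁻¹ * d * (n : G) ∈ D := by
        have := (Subgroup.mem_normalizer_iff''.1 hnN d).1 hd
        exact this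
      have h1 := hUD _ hu _ hd'
      -- (n⁻¹ z n)(n⁻¹ d n) = (n⁻¹ d n)(n⁻¹ z n)
      have h2 : (n : G)⁻¹ * (z * d) * (n : G) = (n : G)⁻¹ * (d * z) * (n : G) := by
        calc (n : G)⁻¹ * (z * d) * (n : G) = ((n : G)⁻¹ * z * (n : G)) * ((n : G)⁻¹ * d * (n : G)) := by group
          _ = ((n : G)⁻¹ * d * (n : G)) * ((n : G)⁻¹ * z * (n : G)) := h1
          _ = (n : G)⁻¹ * (d * z) * (n : G) := by group
      have h3 : (n : G) * ((n : G)⁻¹ * (z * d) * (n : G)) * (n : G)⁻¹ =
          (n : G) * ((n : G)⁻¹ * (d * z) * (n : G)) * (n : G)⁻¹ := by rw [h2]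
      have e1 : (n : G) * ((n : G)⁻¹ * (z * d) * (n : G)) * (n : G)⁻¹ = z * d := by group
      have e2 : (n : G) * ((n : G)⁻¹ * (d * z) * (n : G)) * (n : G)⁻¹ = d * z := by group
      rw [e1, e2] at h3
      exact h3
    have hDR : D ≤ R := le_inf hDS Subgroup.le_normalizer
    have hsR : s ∈ R := ⟨hsS, hsN⟩
    by_cases hSS1 : S = S1
    · -- D ≤ Z(S)
      intro d hd
      rw [mem_centerMap]
      refine ⟨hDS hd, fun u hu => ?_⟩
      rw [hSS1] at hu
      exact hS1D u hu d hd
    · have hlt : D < (S : Subgroup G) ⊓ (S1 : Subgroup G) := by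
        apply lt_of_le_of_ne
        · exact le_inf hDS (hDR.trans hRS1)
        · intro h
          apply hsD
          rw [h]
          exact ⟨hsS, hRS1 hsR⟩
      have := ih _ hlt S S1 hSS1 rfl
      exact (le_inf hDS (hDR.trans hRS1)).trans this

/-- Let G be a finite group in which the intersection of any two distinct Sylow 2-subgroups is contained in the centre of some Sylow 2-subgroup, and let S be a Sylow 2-subgroup. Then for every x in S the centralizer of x in S is a Sylow 2-subgroup of the centralizer of x in G (no 2-subgroup centralizing x is larger), and for every other Sylow 2-subgroup T the intersection S ∩ T lies in both the centre of S and the centre of T. -/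
theorem result {G : Type*} [Group G] [Finite G]
    (hCI : ∀ S T : Sylow 2 G, S ≠ T → ∃ U : Sylow 2 G,
      (S : Subgroup G) ⊓ (T : Subgroup G) ≤ (Subgroup.center ↥(U : Subgroup G)).map (U : Subgroup G).subtype)
    (S : Sylow 2 G) :
    (∀ x ∈ (S : Subgroup G), ∀ P : Subgroup G, IsPGroup 2 ↥P → P ≤ Subgroup.centralizer ({x} : Set G) →
        Nat.card ↥P ≤ Nat.card ↥((S : Subgroup G) ⊓ Subgroup.centralizer ({x} : Set G))) ∧
    (∀ T : Sylow 2 G, T ≠ S →
        (S : Subgroup G) ⊓ (T : Subgroup G) ≤
          (Subgroup.center ↥(S : Subgroup G)).map (S : Subgroup G).subtype ⊓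
            (Subgroup.center ↥(T : Subgroup G)).map (T : Subgroup G).subtype) := by
  have : Fact (Nat.Prime 2) := ⟨Nat.prime_two⟩
  have hml := main_lemma hCI
  have part2 : ∀ S T : Sylow 2 G, T ≠ S →
        (S : Subgroup G) ⊓ (T : Subgroup G) ≤
          (Subgroup.center ↥(S : Subgroup G)).map (S : Subgroup G).subtype ⊓
            (Subgroup.center ↥(T : Subgroup G)).map (T : Subgroup G).subtype := by
    intro S T hTS
    apply le_inf
    · exact hml _ S T (Ne.symm hTS) rfl
    · have := hml _ T S hTS rfl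
      rw [inf_comm]
      exact this
  refine ⟨?_, part2 S⟩
  intro x hxS P hP hPx
  -- P ⊔ zpowers x is a 2-group
  have hzx : IsPGroup 2 (Subgroup.zpowers x) := S.2.to_le (by
    rw [Subgroup.zpowers_le]; exact hxS)
  have hPn : P ≤ Subgroup.normalizer ((Subgroup.zpowers x : Subgroup G) : Set G) := by
    rw [Subgroup.le_normalizer_iff]
    intro h hh k hk
    obtain ⟨i, rfl⟩ := Subgroup.mem_zpowers_iff.1 hk
    have hc : h * x = x * h := by
      have := Subgroup.mem_centralizer_iff.1 (hPx hh) x (Set.mem_singleton x)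
      exact this.symm
    have : h * x ^ i * h⁻¹ = x ^ i := by
      have hcomm : Commute h x := hc
      have := hcomm.zpow_right i
      rw [this.eq]; group
    rw [this]
    exact Subgroup.zpow_mem_zpowers x i
  have hP0 : IsPGroup 2 (P ⊔ Subgroup.zpowers x : Subgroup G) := hP.to_sup_of_normal_right' hzx hPn
  obtain ⟨T, hT⟩ := hP0.exists_le_sylow
  have hPT : P ≤ (T : Subgroup G) := le_sup_left.trans hT
  have hxT : x ∈ (T : Subgroup G) := hT (Subgroup.mem_sup_right (Subgroup.mem_zpowers x))
  by_cases hTS : T = S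
  · apply Subgroup.card_le_of_le
    rw [hTS] at hPT
    exact le_inf hPT hPx
  · have hx := part2 S T hTS ⟨hxS, hxT⟩
    have hxZ := ((mem_centerMap _ _).1 hx.1).2
    have hSC : (S : Subgroup G) ≤ Subgroup.centralizer ({x} : Set G) := by
      intro u hu
      rw [Subgroup.mem_centralizer_iff]
      intro y hy
      rw [Set.mem_singleton_iff] at hy
      subst hy
      exact (hxZ u hu).symm
    have : (S : Subgroup G) ⊓ Subgroup.centralizer ({x} : Set G) = S := inf_eq_left.2 hSC
    rw [this]
    calc Nat.card ↥P ≤ Nat.card ↥(T : Subgroup G) := Subgroup.card_le_of_le hPT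
      _ = Nat.card ↥(S : Subgroup G) := by
        rw [Sylow.card_eq_multiplicity, Sylow.card_eq_multiplicity]

end Cfsg.Agent.S3183
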