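import Cfsg.Statements.S3190
import Mathlib

set_option autoImplicit false
open Cfsg

namespace Cfsg.Agent.S3190

variable {X : Type*} [Group X]

/-- The centre of a subgroup `U`, viewed in the ambient group. -/
theorem mem_centerMap (U : Subgroup X) (z : X) :
    z ∈ (Subgroup.center ↥U).map U.subtype ↔ z ∈ U ∧ ∀ u ∈ U, u * z = z * u := by
  constructor
  · rintro ⟨⟨w, hw⟩, hc, rfl⟩
    refine ⟨hw, fun u hu => ?_⟩
    have := Subgroup.mem_center_iff.1 hc ⟨u, hu⟩
    exact congrArg Subtype.val this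
  · rintro ⟨hz, hc⟩
    refine ⟨⟨z, hz⟩, ?_, rfl⟩
    apply Subgroup.mem_center_iff.2
    intro u
    exact Subtype.ext (hc u u.2)

theorem centerMap_conj (R : Subgroup X) (g : X) (hg : g ∈ Subgroup.normalizer (R : Set X)) (v : X)
    (hv : v ∈ (Subgroup.center ↥R).map R.subtype) :
    g * v * g⁻¹ ∈ (Subgroup.center ↥R).map R.subtype := by
  rw [mem_centerMap] at hv ⊢
  obtain ⟨hvR, hvc⟩ := hv
  have hn := Subgroup.mem_normalizer_iff.mp hg
  refine ⟨(hn v).mp hvR, fun r hr => ?_⟩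
  have hr' : g⁻¹ * r * g ∈ R := by
    have := (Subgroup.mem_normalizer_iff.mp (inv_mem hg) r).mp hr
    simpa using this
  have h1 := hvc _ hr'
  calc r * (g * v * g⁻¹) = g * ((g⁻¹ * r * g) * v) * g⁻¹ := by group
    _ = g * (v * (g⁻¹ * r * g)) * g⁻¹ := by rw [h1]
    _ = g * v * g⁻¹ * r := by group

/-- The elements of an abelian subgroup inverted by `t`. -/
def negPart (V : Subgroup X) (hV : ∀ a ∈ V, ∀ b ∈ V, a * b = b * a) (t : X) : Subgroup X where
  carrier := {v | v ∈ V ∧ t * v * t⁻¹ = v⁻¹}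
  one_mem' := ⟨V.one_mem, by simp⟩
  mul_mem' := by
    rintro a b ⟨ha, hat⟩ ⟨hb, hbt⟩
    refine ⟨V.mul_mem ha hb, ?_⟩
    calc t * (a * b) * t⁻¹ = (t * a * t⁻¹) * (t * b * t⁻¹) := by group
      _ = a⁻¹ * b⁻¹ := by rw [hat, hbt]
      _ = (b * a)⁻¹ := by rw [mul_inv_rev]
      _ = (a * b)⁻¹ := by rw [hV a ha b hb]
  inv_mem' := by
    rintro a ⟨ha, hat⟩
    refine ⟨V.inv_mem ha, ?_⟩
    calc t * a⁻¹ * t⁻¹ = (t * a * t⁻¹)⁻¹ := by group
      _ = a⁻¹⁻¹ := by rw [hat]

/-- Conjugation action of a subgroup on a subgroup it normalizes. -/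
def conjAction (P W : Subgroup X) (h : ∀ g ∈ P, ∀ w ∈ W, g * w * g⁻¹ ∈ W) : MulAction ↥P ↥W where
  smul g w := ⟨g * w * g⁻¹, h g g.2 w w.2⟩
  one_smul w := by
    apply Subtype.ext
    show ((1 : ↥P) : X) * w * ((1 : ↥P) : X)⁻¹ = w
    simp
  mul_smul g g' w := by
    apply Subtype.ext
    show ((g * g' : ↥P) : X) * w * ((g * g' : ↥P) : X)⁻¹ =
      (g : X) * ((g' : X) * w * (g' : X)⁻¹) * (g : X)⁻¹
    simp [mul_assoc]

theorem exists_fixed [Finite X] {p : ℕ} [Fact p.Prime] (P W : Subgroup X) (hP : IsPGroup p ↥P)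
    (hWP : W ≤ P) (h : ∀ g ∈ P, ∀ w ∈ W, g * w * g⁻¹ ∈ W) (hW : W ≠ ⊥) :
    ∃ w ∈ W, w ≠ 1 ∧ ∀ g ∈ P, g * w * g⁻¹ = w := by
  letI := conjAction P W h
  have hWp : IsPGroup p ↥W := hP.to_le hWP
  have hcard : p ∣ Nat.card ↥W := by
    rcases hWp.card_eq_or_dvd with h1 | h1
    · exfalso; apply hW; exact Subgroup.card_eq_one.mp h1
    · exact h1
  obtain ⟨b, hb, hne⟩ := hP.exists_fixed_point_of_prime_dvd_card_of_fixed_point ↥W hcard
    (a := (1 : ↥W)) (by
      intro g
      apply Subtype.ext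
      show (g : X) * ((1 : ↥W) : X) * (g : X)⁻¹ = ((1 : ↥W) : X)
      simp)
  refine ⟨b, b.2, ?_, ?_⟩
  · intro hb1; apply hne; exact Subtype.ext hb1.symm
  · intro g hg
    have := hb ⟨g, hg⟩
    exact congrArg Subtype.val this

theorem mem_normalizer_of_both (H : Subgroup X) (g : X) (h1 : ∀ x ∈ H, g * x * g⁻¹ ∈ H)
    (h2 : ∀ x ∈ H, g⁻¹ * x * g ∈ H) : g ∈ Subgroup.normalizer (H : Set X) := by
  rw [Subgroup.mem_normalizer_iff]
  intro x
  refine ⟨h1 x, fun hx => ?_⟩
  have := h2 _ hx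
  simpa [mul_assoc] using this

/-- Let p be an odd prime and, inside a finite group, let P be a p-subgroup normalized by a Klein four-group T. Let R be a subgroup of P, normal in P and normalized by T, such that P is the product of R with the centralizer of T in P. If T centralizes the centre of P, then T centralizes the centre of R. -/
theorem result {X : Type*} [Group X] [Finite X]
    {p : ℕ} (hp : p.Prime) (hodd : Odd p) (P T R : Subgroup X) (hP : IsPGroup p ↥P) (hT : IsKleinFour ↥T)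
    (hTP : T ≤ Subgroup.normalizer (P : Set X)) (hRP : R ≤ P) (hRn : (R.subgroupOf P).Normal)
    (hTR : T ≤ Subgroup.normalizer (R : Set X)) (hfac : R ⊔ (P ⊓ Subgroup.centralizer (T : Set X)) = P)
    (hZ : T ≤ Subgroup.centralizer (((Subgroup.center ↥P).map P.subtype : Subgroup X) : Set X)) :
    T ≤ Subgroup.centralizer (((Subgroup.center ↥R).map R.subtype : Subgroup X) : Set X) := by
  have : Fact p.Prime := ⟨hp⟩
  intro t ht
  rw [Subgroup.mem_centralizer_iff]
  intro v hv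
  rw [SetLike.mem_coe] at hv
  have hVc : ∀ a ∈ (Subgroup.center ↥R).map R.subtype, ∀ b ∈ (Subgroup.center ↥R).map R.subtype,
      a * b = b * a := by
    intro a ha b hb
    rw [mem_centerMap] at ha hb
    exact hb.2 a ha.1
  have htt : t * t = 1 := by
    have h := Monoid.pow_exponent_eq_one (⟨t, ht⟩ : ↥T)
    rw [hT.exponent_two] at h
    have h2 : t ^ 2 = 1 := by simpa using congrArg Subtype.val h
    rwa [pow_two] at h2
  have htinv : t⁻¹ = t := inv_eq_of_mul_eq_one_right htt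
  have htt' : ∀ x : X, t * (t * x) = x := fun x => by rw [← mul_assoc, htt, one_mul]
  have htR : t ∈ Subgroup.normalizer (R : Set X) := hTR ht
  have hPR : P ≤ Subgroup.normalizer (R : Set X) := by
    intro g hg
    rw [Subgroup.mem_normalizer_iff]
    intro r
    constructor
    · intro hr
      have := hRn.conj_mem ⟨r, hRP hr⟩ (Subgroup.mem_subgroupOf.mpr hr) ⟨g, hg⟩
      exact Subgroup.mem_subgroupOf.mp this
    · intro hr
      have := hRn.conj_mem ⟨g * r * g⁻¹, hRP hr⟩ (Subgroup.mem_subgroupOf.mpr hr) ⟨g, hg⟩⁻¹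
      have h2 := Subgroup.mem_subgroupOf.mp this
      simpa [mul_assoc] using h2
  set V := (Subgroup.center ↥R).map R.subtype with hVdef
  have hVR : V ≤ R := Subgroup.map_subtype_le _
  have hWmem : ∀ w, w ∈ negPart V hVc t ↔ w ∈ V ∧ t * w * t⁻¹ = w⁻¹ := fun w => Iff.rfl
  have hWV : negPart V hVc t ≤ V := fun w hw => ((hWmem w).1 hw).1
  have hWP : negPart V hVc t ≤ P := hWV.trans (hVR.trans hRP)
  have hRW : ∀ r ∈ R, ∀ w ∈ negPart V hVc t, r * w * r⁻¹ ∈ negPart V hVc t := by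
    intro r hr w hw
    have hwV := hWV hw
    rw [hVdef, mem_centerMap] at hwV
    have e : r * w * r⁻¹ = w := by rw [hwV.2 r hr]; group
    rw [e]; exact hw
  have hCW : ∀ c ∈ P, t * c = c * t → ∀ w ∈ negPart V hVc t, c * w * c⁻¹ ∈ negPart V hVc t := by
    intro c hc hct w hw
    obtain ⟨hwV, hwt⟩ := (hWmem w).1 hw
    refine (hWmem _).2 ⟨centerMap_conj R c (hPR hc) w hwV, ?_⟩
    have hct' : t * c⁻¹ = c⁻¹ * t := by
      have : c⁻¹ * (t * c) * c⁻¹ = c⁻¹ * (c * t) * c⁻¹ := by rw [hct]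
      have e1 : c⁻¹ * (t * c) * c⁻¹ = c⁻¹ * t := by group
      have e2 : c⁻¹ * (c * t) * c⁻¹ = t * c⁻¹ := by group
      rw [e1, e2] at this
      exact this.symm
    calc t * (c * w * c⁻¹) * t⁻¹ = (t * c) * w * (c⁻¹ * t⁻¹) := by group
      _ = (c * t) * w * (c⁻¹ * t⁻¹) := by rw [hct]
      _ = c * (t * w * (c⁻¹ * t⁻¹)) := by group
      _ = c * (t * w * (t * c⁻¹)) := by rw [htinv, hct']
      _ = c * ((t * w * t⁻¹) * c⁻¹) := by rw [htinv]; group
      _ = c * (w⁻¹ * c⁻¹) := by rw [hwt]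
      _ = (c * w * c⁻¹)⁻¹ := by group
  have hnormW : P ≤ Subgroup.normalizer ((negPart V hVc t : Subgroup X) : Set X) := by
    rw [← hfac]
    apply sup_le
    · intro r hr
      apply mem_normalizer_of_both
      · exact hRW r hr
      · intro w hw
        have := hRW r⁻¹ (inv_mem hr) w hw
        simpa using this
    · intro c hc
      obtain ⟨hcP, hcT⟩ := hc
      have hct : t * c = c * t := Subgroup.mem_centralizer_iff.mp hcT t ht
      have hct' : t * c⁻¹ = c⁻¹ * t := by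
        have : c⁻¹ * (t * c) * c⁻¹ = c⁻¹ * (c * t) * c⁻¹ := by rw [hct]
        have e1 : c⁻¹ * (t * c) * c⁻¹ = c⁻¹ * t := by group
        have e2 : c⁻¹ * (c * t) * c⁻¹ = t * c⁻¹ := by group
        rw [e1, e2] at this
        exact this.symm
      apply mem_normalizer_of_both
      · exact hCW c hcP hct
      · intro w hw
        have := hCW c⁻¹ (inv_mem hcP) hct' w hw
        simpa using this
  have hact : ∀ g ∈ P, ∀ w ∈ negPart V hVc t, g * w * g⁻¹ ∈ negPart V hVc t := by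
    intro g hg w hw
    exact (Subgroup.mem_normalizer_iff.mp (hnormW hg) w).mp hw
  by_cases hW : negPart V hVc t = ⊥
  · have hu : v * (t * v * t⁻¹)⁻¹ ∈ negPart V hVc t := by
      refine (hWmem _).2 ⟨V.mul_mem hv (V.inv_mem (centerMap_conj R t htR v hv)), ?_⟩
      simp only [htinv, mul_inv_rev, inv_inv, mul_assoc, htt, mul_one, htt']
    rw [hW, Subgroup.mem_bot, mul_inv_eq_one] at hu
    have : v * t = t * v * t⁻¹ * t := by rw [← hu]
    rw [this]; group
  · exfalso
    obtain ⟨w, hwW, hw1, hwfix⟩ := exists_fixed P _ hP hWP hact hW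
    have hwZ : w ∈ (Subgroup.center ↥P).map P.subtype := by
      rw [mem_centerMap]
      refine ⟨hWP hwW, fun g hg => ?_⟩
      exact mul_inv_eq_iff_eq_mul.mp (hwfix g hg)
    have hcomm := Subgroup.mem_centralizer_iff.mp (hZ ht) w hwZ
    have hwt := ((hWmem w).1 hwW).2
    have hww : w = w⁻¹ := by
      rw [← hwt, ← hcomm]; group
    have hw2 : w * w = 1 := by
      nth_rewrite 1 [hww]
      exact inv_mul_cancel w
    obtain ⟨k, hk⟩ := hP ⟨w, hWP hwW⟩
    have hk' : w ^ (p ^ k) = 1 := by simpa using congrArg Subtype.val hk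
    obtain ⟨j, hj⟩ := hodd.pow (n := k)
    rw [hj, pow_succ, pow_mul, pow_two, hw2, one_pow, one_mul] at hk'
    exact hw1 hk'

end Cfsg.Agent.S3190
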