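import Cfsg.Statements.S3195
import Cfsg.Agent.S3011

set_option autoImplicit false
open Cfsg

namespace Cfsg.Agent.S3195

/-- Let A be a Klein four-subgroup of a finite group G. If every G-conjugate of every involution of A commutes with some involution of A (its centralizer meets A nontrivially), then A meets the largest normal 2-subgroup O₂(G) nontrivially. -/
theorem result {G : Type*} [Group G] [Finite G]
    (A : Subgroup G) (hA : IsKleinFour ↥A)
    (h : ∀ a ∈ A, a ≠ 1 → ∀ g : G, A ⊓ Subgroup.centralizer ({g * a * g⁻¹} : Set G) ≠ ⊥) :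
    A ⊓ Cfsg.pCore 2 G ≠ ⊥ := by
  have hcomm : ∀ x y : G, x ∈ A → y ∈ A → x * y = y * x := by
    intro x y hx hy
    have := mul_comm_of_exponent_two (hA.exponent_two) (⟨x, hx⟩ : A) ⟨y, hy⟩
    exact congrArg Subtype.val this
  have hsq : ∀ x : G, x ∈ A → x ^ 2 = 1 := by
    intro x hx
    have := Monoid.pow_exponent_eq_one (⟨x, hx⟩ : A)
    rw [hA.exponent_two] at this
    exact congrArg Subtype.val this
  have h4 : Nat.card A = 4 := hA.card_four
  have hne : A ≠ ⊥ := by
    intro hb
    have := Subgroup.card_eq_one.mpr hb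
    omega
  have hS : Cfsg.IsSidkiPair A := by
    intro x v hv hodd hinv
    by_cases hv1 : v = 1
    · subst hv1
      have e : x = x⁻¹ := by simpa using hinv
      have hx2 : x ^ 2 = 1 := by
        rw [pow_two]
        calc x * x = x * x⁻¹ := by rw [← e]
          _ = 1 := mul_inv_cancel x
      have hx1 : x = 1 := by
        have hd : orderOf x ∣ 2 := orderOf_dvd_of_pow_eq_one hx2
        have : orderOf x = 1 := by
          rcases (Nat.dvd_prime Nat.prime_two).mp hd with h1 | h2
          · exact h1
          · rw [h2] at hodd; exact absurd hodd (by decide)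
        exact orderOf_eq_one_iff.mp this
      obtain ⟨⟨w, hw⟩, hw1⟩ := (Subgroup.ne_bot_iff_exists_ne_one).mp hne
      refine ⟨w, hw, fun hh => hw1 (Subtype.ext hh), ?_⟩
      rw [hx1, mul_one, one_mul]
    · have hb := h v hv hv1 x
      obtain ⟨⟨w, hw⟩, hw1⟩ := (Subgroup.ne_bot_iff_exists_ne_one).mp hb
      have hwA : w ∈ A := hw.1
      have hwC : (x * v * x⁻¹) * w = w * (x * v * x⁻¹) := by
        have hw' : w ∈ Subgroup.centralizer ({x * v * x⁻¹} : Set G) := hw.2
        rw [Subgroup.mem_centralizer_iff] at hw'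
        exact hw' _ (Set.mem_singleton _)
      have hconj : x * v * x⁻¹ = x ^ 2 * v := by
        have h0 : v * x = x⁻¹ * v := by
          calc v * x = (v * x * v⁻¹) * v := by group
            _ = x⁻¹ * v := by rw [hinv]
        have h1 : v * x⁻¹ = x * v := by
          calc v * x⁻¹ = x * (x⁻¹ * v) * x⁻¹ := by group
            _ = x * (v * x) * x⁻¹ := by rw [h0]
            _ = x * v := by group
        calc x * v * x⁻¹ = x * (v * x⁻¹) := by group
          _ = x * (x * v) := by rw [h1]
          _ = x ^ 2 * v := by rw [pow_two, mul_assoc]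
      have hw2 : w * x ^ 2 = x ^ 2 * w := by
        have hwv : w * v = v * w := hcomm w v hwA hv
        rw [hconj] at hwC
        calc w * x ^ 2 = w * (x ^ 2 * v) * v⁻¹ := by group
          _ = x ^ 2 * v * w * v⁻¹ := by rw [← hwC]
          _ = x ^ 2 * (v * w) * v⁻¹ := by group
          _ = x ^ 2 * (w * v) * v⁻¹ := by rw [hwv]
          _ = x ^ 2 * w := by group
      obtain ⟨k, hk⟩ := hodd
      have hx : x = (x ^ 2) ^ (k + 1) := by
        rw [← pow_mul]
        have : 2 * (k + 1) = orderOf x + 1 := by omega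
        rw [this, pow_succ, pow_orderOf_eq_one, one_mul]
      refine ⟨w, hwA, fun hh => hw1 (Subtype.ext hh), ?_⟩
      have hc : Commute w (x ^ 2) := hw2
      have hc2 := hc.pow_right (k + 1)
      rw [← hx] at hc2
      exact hc2.eq
  exact Cfsg.Agent.S3011.result A ⟨⟨⟨fun a b => Subtype.ext (hcomm a b a.2 b.2)⟩⟩, hsq⟩ hne hS (le_of_eq h4)

end Cfsg.Agent.S3195
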