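import Cfsg.Statements.S3200
import Mathlib
import Cfsg.Agent.S0143
import Cfsg.Agent.S1264
import Cfsg.Agent.Lib_helper1_Core
import Cfsg.Agent.Lib_helper19_Sylow

set_option autoImplicit false
open Cfsg

namespace Cfsg.Agent.S3200

/-- `G` has an abelian Hall `2'`-subgroup. -/
def HasAH (G : Type*) [Group G] : Prop :=
  ∃ D : Subgroup G, (∀ a ∈ D, ∀ b ∈ D, a * b = b * a) ∧ Odd (Nat.card D) ∧ ∃ k : ℕ, D.index = 2 ^ k

theorem odd_of_dvd {a b : ℕ} (h : a ∣ b) (hb : Odd b) : Odd a := by
  rw [← Nat.not_even_iff_odd, even_iff_two_dvd] at hb ⊢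
  exact fun h2 => hb (h2.trans h)

theorem pow_of_dvd_two_pow {a k : ℕ} (h : a ∣ 2 ^ k) : ∃ j : ℕ, a = 2 ^ j := by
  obtain ⟨j, _, hj⟩ := (Nat.dvd_prime_pow Nat.prime_two).mp h
  exact ⟨j, hj⟩

theorem hasAH_of_complement {G : Type*} [Group G] [Finite G] (S : Sylow 2 G) (C : Subgroup G)
    (hC : IsMulCommutative ↥C) (hSC : Subgroup.IsComplement' (S : Subgroup G) C) : HasAH G := by
  have : Fact (Nat.Prime 2) := ⟨Nat.prime_two⟩
  refine ⟨C, ?_, ?_, ?_⟩
  · intro a ha b hb
    have := hC.is_comm.comm (⟨a, ha⟩ : ↥C) ⟨b, hb⟩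
    exact congrArg Subtype.val this
  · have h1 : (S : Subgroup G).index = Nat.card C := hSC.symm.index_eq_card
    rw [← h1, ← Nat.not_even_iff_odd, even_iff_two_dvd]
    exact S.not_dvd_index
  · have h1 : C.index = Nat.card (S : Subgroup G) := hSC.index_eq_card
    obtain ⟨k, hk⟩ := S.2.exists_card_eq
    exact ⟨k, by rw [h1, hk]⟩

theorem complement_of_hasAH {G : Type*} [Group G] [Finite G] (h : HasAH G) :
    ∃ (P : Sylow 2 G) (D : Subgroup G), IsMulCommutative ↥D ∧
      Subgroup.IsComplement' (P : Subgroup G) D := by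
  have : Fact (Nat.Prime 2) := ⟨Nat.prime_two⟩
  obtain ⟨D, hab, hodd, k, hk⟩ := h
  obtain ⟨P⟩ := (inferInstance : Nonempty (Sylow 2 G))
  refine ⟨P, D, ⟨⟨fun a b => Subtype.ext (hab a.1 a.2 b.1 b.2)⟩⟩, ?_⟩
  obtain ⟨j, hj⟩ := P.2.exists_card_eq
  have hcop : Nat.Coprime (Nat.card (P : Subgroup G)) (Nat.card D) := by
    rw [hj]
    apply Nat.Coprime.pow_left
    rw [Nat.coprime_two_left]; exact hodd
  apply Subgroup.isComplement'_of_coprime _ hcop
  -- card P = 2^k
  have h1 := Subgroup.card_mul_index D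
  rw [hk] at h1
  have h2 := Subgroup.card_mul_index (P : Subgroup G)
  rw [hj] at h2 ⊢
  have hnd := P.not_dvd_index
  -- 2^j * idx = card D * 2^k with idx odd, card D odd → j = k
  have hjk : j = k := by
    have e : 2 ^ j * (P : Subgroup G).index = Nat.card D * 2 ^ k := by rw [h2, h1]
    have hle1 : j ≤ k := by
      have hd : 2 ^ j ∣ Nat.card D * 2 ^ k := Dvd.intro _ e
      have hcop' : Nat.Coprime (2 ^ j) (Nat.card D) := by
        apply Nat.Coprime.pow_left
        rw [Nat.coprime_two_left]; exact hodd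
      have := hcop'.dvd_of_dvd_mul_left hd
      exact (Nat.pow_dvd_pow_iff_le_right (by norm_num)).mp this
    have hle2 : k ≤ j := by
      by_contra hlt
      push Not at hlt
      apply hnd
      have hd : 2 ^ k ∣ 2 ^ j * (P : Subgroup G).index := Dvd.intro_left _ e.symm
      obtain ⟨m, rfl⟩ : ∃ m, k = j + (m + 1) := ⟨k - j - 1, by omega⟩
      rw [pow_add] at hd
      have := (Nat.mul_dvd_mul_iff_left (by positivity)).mp hd
      exact (dvd_pow_self 2 (by omega)).trans this
    omega
  rw [hjk, mul_comm]; exact h1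

theorem HasAH.of_equiv {G G' : Type*} [Group G] [Group G'] (e : G ≃* G') (h : HasAH G) :
    HasAH G' := by
  obtain ⟨D, hab, hodd, k, hk⟩ := h
  refine ⟨D.map e.toMonoidHom, ?_, ?_, k, ?_⟩
  · rintro _ ⟨a, ha, rfl⟩ _ ⟨b, hb, rfl⟩
    rw [← map_mul, ← map_mul, hab a ha b hb]
  · have : Nat.card ↥(D.map e.toMonoidHom) = Nat.card D :=
      Nat.card_congr (D.equivMapOfInjective e.toMonoidHom e.injective).symm.toEquiv
    rw [this]; exact hodd
  · rw [← hk]
    exact Subgroup.index_map_of_bijective e.bijective D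

theorem HasAH.quotient {G : Type*} [Group G] [Finite G] (h : HasAH G) (N : Subgroup G) [N.Normal] :
    HasAH (G ⧸ N) := by
  obtain ⟨D, hab, hodd, k, hk⟩ := h
  refine ⟨D.map (QuotientGroup.mk' N), ?_, ?_, ?_⟩
  · rintro _ ⟨a, ha, rfl⟩ _ ⟨b, hb, rfl⟩
    rw [← map_mul, ← map_mul, hab a ha b hb]
  · exact odd_of_dvd (Subgroup.card_map_dvd D (QuotientGroup.mk' N)) hodd
  · have h1 := Subgroup.index_map_dvd D (QuotientGroup.mk'_surjective N)
    rw [hk] at h1
    exact pow_of_dvd_two_pow h1

theorem HasAH.normal {G : Type*} [Group G] [Finite G] (h : HasAH G) (N : Subgroup G) [N.Normal] :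
    HasAH ↥N := by
  obtain ⟨D, hab, hodd, k, hk⟩ := h
  refine ⟨D.subgroupOf N, ?_, ?_, ?_⟩
  · intro a ha b hb
    apply Subtype.ext
    exact hab a.1 (Subgroup.mem_subgroupOf.mp ha) b.1 (Subgroup.mem_subgroupOf.mp hb)
  · have h1 : Nat.card ↥(D.subgroupOf N) ∣ Nat.card D := by
      have e : Nat.card ↥(D.subgroupOf N) = Nat.card ↥(D ⊓ N) := by
        rw [← Subgroup.inf_subgroupOf_right]
        exact Nat.card_congr (Subgroup.subgroupOfEquivOfLe inf_le_right).toEquiv
      rw [e]
      exact Subgroup.card_dvd_of_le inf_le_left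
    exact odd_of_dvd h1 hodd
  · have h1 : (D.subgroupOf N).index = D.relIndex N := rfl
    have h2 : D.relIndex N = D.relIndex (D ⊔ N) := by
      rw [← Subgroup.inf_relIndex_right]
      exact Cfsg.Agent.helper19.relIndex_inf_normal D N
    have h3 : D.relIndex (D ⊔ N) ∣ D.index := Subgroup.relIndex_dvd_index_of_le le_sup_left
    rw [h1, h2]
    rw [hk] at h3
    exact pow_of_dvd_two_pow h3


theorem solvable_of_hasAH.{u} : ∀ (n : ℕ) (G : Type u) [Group G] [Finite G], Nat.card G = n →
    HasAH G → Group.IsSolvable G := by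
  intro n
  induction n using Nat.strong_induction_on with
  | _ n ih =>
    intro G _ _ hcard h
    by_cases hsimple : ∃ N : Subgroup G, N.Normal ∧ N ≠ ⊥ ∧ N ≠ ⊤
    · obtain ⟨N, hN, hbot, htop⟩ := hsimple
      have hNcard : 1 < Nat.card N := by
        rw [Subgroup.one_lt_card_iff_ne_bot]; exact hbot
      have hNidx : 1 < N.index := by
        have h1 : N.index ≠ 1 := fun e => htop (Subgroup.index_eq_one.mp e)
        have h0 : N.index ≠ 0 := Subgroup.index_ne_zero_of_finite
        omega
      have hmul := Subgroup.card_mul_index N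
      have hlt1 : Nat.card N < n := by
        rw [← hcard, ← hmul]
        calc Nat.card N = Nat.card N * 1 := (mul_one _).symm
          _ < Nat.card N * N.index := Nat.mul_lt_mul_of_pos_left hNidx (by omega)
      have hlt2 : Nat.card (G ⧸ N) < n := by
        rw [← hcard, ← hmul]
        show N.index < _
        calc N.index = 1 * N.index := (one_mul _).symm
          _ < Nat.card N * N.index := Nat.mul_lt_mul_of_pos_right hNcard (by omega)
      have h1 : Group.IsSolvable ↥N := ih _ hlt1 ↥N rfl (h.normal N)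
      have h2 : Group.IsSolvable (G ⧸ N) := ih _ hlt2 (G ⧸ N) rfl (h.quotient N)
      exact (Group.isSolvable_iff_subgroup_quotient N).mpr ⟨h1, h2⟩
    · push Not at hsimple
      by_cases htriv : Subsingleton G
      · infer_instance
      · have hnt : Nontrivial G := not_subsingleton_iff_nontrivial.mp htriv
        have hS : IsSimpleGroup G := by
          refine ⟨fun N hN => ?_⟩
          by_contra hne
          push Not at hne
          exact hne.2 (hsimple N hN hne.1)
        obtain ⟨D, hab, hodd, k, hk⟩ := h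
        by_cases hD : D = ⊥
        · have hc : Nat.card G = 2 ^ k := by
            rw [← Subgroup.card_mul_index D, hD, Subgroup.card_bot, one_mul, ← hD, hk]
          have : Fact (Nat.Prime 2) := ⟨Nat.prime_two⟩
          have hP : IsPGroup 2 G := IsPGroup.of_card hc
          have : Group.IsNilpotent G := hP.isNilpotent
          infer_instance
        · obtain ⟨c, hc1⟩ := (Subgroup.ne_bot_iff_exists_ne_one.mp hD)
          have hc1' : (c : G) ≠ 1 := fun e => hc1 (Subtype.ext e)
          have hle : D ≤ Subgroup.centralizer ({(c : G)} : Set G) := by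
            intro d hd
            rw [Subgroup.mem_centralizer_iff]
            intro y hy
            rw [Set.mem_singleton_iff] at hy
            rw [hy]
            exact hab _ c.2 d hd
          have hidx := Subgroup.index_dvd_of_le hle
          rw [hk] at hidx
          obtain ⟨j, hj⟩ := pow_of_dvd_two_pow hidx
          have hprime := Cfsg.Agent.S0143.result 2 j Nat.prime_two (c : G) hc1' hj
          have : Fact (Nat.card G).Prime := ⟨hprime⟩
          have hcyc : IsCyclic G := isCyclic_of_prime_card rfl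
          have hcm := IsCyclic.isMulCommutative (α := G)
          exact Group.isSolvable_of_comm (fun a b => hcm.is_comm.comm a b)

theorem hasAH_of_normal_two {G : Type*} [Group G] [Finite G] (R : Subgroup G) [R.Normal]
    (hR : IsPGroup 2 R) (hodd : Odd R.index) (hcomm : ∀ a b : G, a * b * a⁻¹ * b⁻¹ ∈ R) :
    HasAH G := by
  have : Fact (Nat.Prime 2) := ⟨Nat.prime_two⟩
  obtain ⟨j, hj⟩ := hR.exists_card_eq
  have hcop : (Nat.card R).Coprime R.index := by
    rw [hj]; apply Nat.Coprime.pow_left; rw [Nat.coprime_two_left]; exact hodd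
  obtain ⟨K, hK⟩ := Subgroup.exists_right_complement'_of_coprime hcop
  refine ⟨K, ?_, ?_, j, ?_⟩
  · intro a ha b hb
    have h1 : a * b * a⁻¹ * b⁻¹ ∈ R ⊓ K :=
      ⟨hcomm a b, K.mul_mem (K.mul_mem (K.mul_mem ha hb) (K.inv_mem ha)) (K.inv_mem hb)⟩
    rw [hK.disjoint.eq_bot, Subgroup.mem_bot] at h1
    calc a * b = (a * b * a⁻¹ * b⁻¹) * (b * a) := by group
      _ = b * a := by rw [h1, one_mul]
  · rw [← hK.symm.index_eq_card]; exact hodd
  · rw [hK.index_eq_card, hj]

theorem hasAH_subgroup {G : Type*} [Group G] [Finite G] (R : Subgroup G) [R.Normal]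
    (hR : IsPGroup 2 R) (hodd : Odd R.index) (hcomm : ∀ a b : G, a * b * a⁻¹ * b⁻¹ ∈ R)
    (L : Subgroup G) : HasAH ↥L := by
  apply hasAH_of_normal_two (R.subgroupOf L)
  · exact hR.comap_subtype
  · have h1 : (R.subgroupOf L).index = R.relIndex L := rfl
    rw [h1]
    exact odd_of_dvd (Subgroup.relIndex_dvd_index_of_normal R L) hodd
  · intro a b
    rw [Subgroup.mem_subgroupOf]
    exact hcomm a.1 b.1

theorem hasAH_of_inf {G : Type*} [Group G] [Finite G] (L M : Subgroup G) [M.Normal]
    (hM : ∃ k : ℕ, M.index = 2 ^ k) (h : HasAH ↥(L ⊓ M : Subgroup G)) : HasAH ↥L := by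
  obtain ⟨D, hab, hodd, k, hk⟩ := h
  obtain ⟨m, hm⟩ := hM
  let f : ↥(L ⊓ M : Subgroup G) →* ↥L := Subgroup.inclusion inf_le_left
  have hf : Function.Injective f := Subgroup.inclusion_injective _
  have hcard : Nat.card ↥(D.map f) = Nat.card D :=
    Nat.card_congr (D.equivMapOfInjective f hf).symm.toEquiv
  refine ⟨D.map f, ?_, ?_, ?_⟩
  · rintro _ ⟨a, ha, rfl⟩ _ ⟨b, hb, rfl⟩
    rw [← map_mul, ← map_mul, hab a ha b hb]
  · rw [hcard]; exact hodd
  · have h1 : Nat.card ↥(D.map f) * (D.map f).index = Nat.card L := Subgroup.card_mul_index _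
    have h2 : Nat.card D * D.index = Nat.card ↥(L ⊓ M : Subgroup G) := Subgroup.card_mul_index _
    have h3 : Nat.card ↥(L ⊓ M : Subgroup G) * (L ⊓ M).relIndex L = Nat.card L := by
      have := Subgroup.relIndex_mul_relIndex ⊥ (L ⊓ M) L bot_le inf_le_left
      rw [Subgroup.relIndex_bot_left, Subgroup.relIndex_bot_left] at this
      exact this
    have h4 : (L ⊓ M).relIndex L = M.relIndex L := Subgroup.inf_relIndex_left L M
    have h5 : M.relIndex L ∣ M.index := Subgroup.relIndex_dvd_index_of_normal M L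
    rw [hm] at h5
    obtain ⟨j, hj⟩ := pow_of_dvd_two_pow h5
    refine ⟨k + j, ?_⟩
    have hpos : 0 < Nat.card D := Nat.card_pos
    have e : Nat.card D * (D.map f).index = Nat.card D * 2 ^ (k + j) := by
      rw [← hcard, h1, ← h3, ← h2, h4, hj, hk, hcard, pow_add, mul_assoc]
    exact Nat.eq_of_mul_eq_mul_left hpos e

theorem exists_normal_M {H : Type*} [Group H] [Finite H] (h : HasAH H) :
    ∃ M : Subgroup H, M.Normal ∧ (∃ k : ℕ, M.index = 2 ^ k) ∧
      ∀ L : Subgroup H, L ≤ M → HasAH ↥L := by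
  have : Fact (Nat.Prime 2) := ⟨Nat.prime_two⟩
  set R : Subgroup H := Cfsg.pCore 2 H with hRdef
  haveI hRn : R.Normal := helper1.pCore_normal 2
  have hR2 : IsPGroup 2 R := helper1.pCore_isPGroup 2
  have hq := h.quotient R
  haveI hsol : Group.IsSolvable (H ⧸ R) := solvable_of_hasAH _ _ rfl hq
  obtain ⟨D, hab, hodd, k, hk⟩ := h
  set π : H →* H ⧸ R := QuotientGroup.mk' R with hπ
  have hπs : Function.Surjective π := QuotientGroup.mk'_surjective R
  have hker : π.ker = R := QuotientGroup.ker_mk' R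
  set Db : Subgroup (H ⧸ R) := D.map π with hDb
  have hDbab : ∀ a ∈ Db, ∀ b ∈ Db, a * b = b * a := by
    rintro _ ⟨a, ha, rfl⟩ _ ⟨b, hb, rfl⟩
    rw [← map_mul, ← map_mul, hab a ha b hb]
  obtain ⟨j, hj⟩ : ∃ j : ℕ, Db.index = 2 ^ j := by
    have h1 := Subgroup.index_map_dvd D hπs
    rw [hk] at h1
    exact pow_of_dvd_two_pow h1
  -- (a)
  have hO2 : Cfsg.pCore 2 (H ⧸ R) = ⊥ := by
    set T := Cfsg.pCore 2 (H ⧸ R) with hT
    have hTn : T.Normal := helper1.pCore_normal 2
    have hT2 : IsPGroup 2 T := helper1.pCore_isPGroup 2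
    have h1 : IsPGroup 2 (T.comap π) := by
      apply hT2.comap_of_ker_isPGroup
      rw [hker]; exact hR2
    have h2 : T.comap π ≤ R := helper1.le_pCore (hTn.comap π) h1
    have h3 : T = (T.comap π).map π := (Subgroup.map_comap_eq_self_of_surjective hπs T).symm
    rw [h3, eq_bot_iff]
    calc (T.comap π).map π ≤ R.map π := Subgroup.map_mono h2
      _ = ⊥ := by rw [hπ, QuotientGroup.map_mk'_self]
  -- (b)
  have hFle : Cfsg.fittingSubgroup (H ⧸ R) ≤ Cfsg.pPrimeCore 2 (H ⧸ R) := by
    rw [helper1.fitting_eq_iSup_pCore]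
    apply iSup_le
    intro p
    by_cases hp2 : (p : ℕ) = 2
    · rw [hp2, hO2]; exact bot_le
    · exact helper1.le_pPrimeCore (helper1.pCore_normal _)
        (helper1.coprime_card_of_isPGroup_ne Nat.prime_two p.2 hp2 (helper1.pCore_isPGroup _))
  -- (c)
  have hKle : Cfsg.pPrimeCore 2 (H ⧸ R) ≤ Db := by
    set K := Cfsg.pPrimeCore 2 (H ⧸ R) with hK
    haveI hKn : K.Normal := helper1.pPrimeCore_normal 2
    have hKodd : Odd (Nat.card K) := by
      have := helper1.pPrimeCore_coprime (G := H ⧸ R) 2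
      rw [Nat.coprime_comm, Nat.coprime_two_left] at this
      exact this
    have h1 : Db.relIndex K = Db.relIndex (Db ⊔ K) := by
      rw [← Subgroup.inf_relIndex_right]
      exact Cfsg.Agent.helper19.relIndex_inf_normal Db K
    have h2 : Db.relIndex (Db ⊔ K) ∣ Db.index := Subgroup.relIndex_dvd_index_of_le le_sup_left
    have h3 : Db.relIndex K ∣ Nat.card K := Subgroup.relIndex_dvd_card Db K
    rw [← h1, hj] at h2
    obtain ⟨i, hi⟩ := pow_of_dvd_two_pow h2
    have h4 : Odd (Db.relIndex K) := odd_of_dvd h3 hKodd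
    have h5 : Db.relIndex K = 1 := by
      rcases Nat.eq_zero_or_pos i with h0 | h0
      · rw [hi, h0, pow_zero]
      · exfalso
        rw [hi, ← Nat.not_even_iff_odd] at h4
        exact h4 ((Nat.even_pow' (by omega)).mpr even_two)
    exact Subgroup.relIndex_eq_one.mp h5
  -- (d)
  have hCF : Subgroup.centralizer (Cfsg.fittingSubgroup (H ⧸ R) : Set (H ⧸ R)) ≤
      Cfsg.fittingSubgroup (H ⧸ R) := by
    have h1 := Cfsg.Agent.S1264.result
      (Subgroup.centralizer (Cfsg.fittingSubgroup (H ⧸ R) : Set (H ⧸ R)))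
      le_rfl Subgroup.le_normalizer inferInstance
    exact h1.trans (Subgroup.map_subtype_le _)
  -- (e)
  have hFD : Cfsg.fittingSubgroup (H ⧸ R) ≤ Db := hFle.trans hKle
  have hDF : Db ≤ Cfsg.fittingSubgroup (H ⧸ R) := by
    refine le_trans ?_ hCF
    intro d hd
    rw [Subgroup.mem_centralizer_iff]
    intro f hf
    exact hDbab f (hFD hf) d hd
  have hDbeq : Db = Cfsg.fittingSubgroup (H ⧸ R) := le_antisymm hDF hFD
  have hDbn : Db.Normal := by rw [hDbeq]; exact helper1.fitting_normal
  -- (g)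
  refine ⟨Db.comap π, hDbn.comap π, ⟨j, ?_⟩, ?_⟩
  · rw [Subgroup.index_comap_of_surjective Db hπs, hj]
  · intro L hLM
    set M : Subgroup H := Db.comap π with hM
    have hMeq : M = D ⊔ R := by
      rw [hM, hDb, Subgroup.comap_map_eq, hker]
    have hRM : R ≤ M := by rw [hMeq]; exact le_sup_right
    haveI : (R.subgroupOf M).Normal := inferInstance
    have hodd' : Odd (R.subgroupOf M).index := by
      have h1 : (R.subgroupOf M).index = R.relIndex M := rfl
      rw [h1, hMeq, Subgroup.relIndex_sup_right]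
      exact odd_of_dvd (Subgroup.relIndex_dvd_card R D) hodd
    have hcomm : ∀ a b : ↥M, a * b * a⁻¹ * b⁻¹ ∈ R.subgroupOf M := by
      intro a b
      rw [Subgroup.mem_subgroupOf]
      have ha : π a.1 ∈ Db := a.2
      have hb : π b.1 ∈ Db := b.2
      have h1 : π (a.1 * b.1 * a.1⁻¹ * b.1⁻¹) = 1 := by
        rw [map_mul, map_mul, map_mul, map_inv, map_inv, hDbab _ ha _ hb]
        group
      rw [← hker]
      exact h1
    have h1 : HasAH ↥(L.subgroupOf M) :=
      hasAH_subgroup (R.subgroupOf M) hR2.comap_subtype hodd' hcomm (L.subgroupOf M)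
    exact h1.of_equiv (Subgroup.subgroupOfEquivOfLe hLM)

/-- Let H be a finite group in which a Sylow 2-subgroup has an abelian complement (an abelian subgroup meeting it trivially whose product with it is all of H). Then H is solvable, and every subgroup and every quotient group of H again has a Sylow 2-subgroup with an abelian complement. -/
theorem result {H : Type*} [Group H] [Finite H]
    (S : Sylow 2 H) (C : Subgroup H) (hC : IsMulCommutative ↥C) (hSC : Subgroup.IsComplement' (S : Subgroup H) C) :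
    Group.IsSolvable H ∧
    (∀ L : Subgroup H, ∃ (P : Sylow 2 ↥L) (D : Subgroup ↥L), IsMulCommutative ↥D ∧ Subgroup.IsComplement' (P : Subgroup ↥L) D) ∧
    (∀ (N : Subgroup H) [N.Normal], ∃ (P : Sylow 2 (H ⧸ N)) (D : Subgroup (H ⧸ N)),
      IsMulCommutative ↥D ∧ Subgroup.IsComplement' (P : Subgroup (H ⧸ N)) D) := by
  have h := hasAH_of_complement S C hC hSC
  refine ⟨solvable_of_hasAH _ _ rfl h, ?_, ?_⟩
  · intro L
    obtain ⟨M, hMn, hMi, hML⟩ := exists_normal_M h
    haveI := hMn
    exact complement_of_hasAH (hasAH_of_inf L M hMi (hML (L ⊓ M) inf_le_right))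
  · intro N _
    exact complement_of_hasAH (h.quotient N)

end Cfsg.Agent.S3200
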