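import Cfsg.Statements.S3201
import Mathlib
import Cfsg.Agent.H16UniqueInvol

set_option autoImplicit false
open Cfsg

namespace Cfsg.Agent.S3201

open Cfsg.Agent.H16UniqueInvol

set_option maxHeartbeats 1000000 in
theorem core {S : Type*} [Group S] [Finite S] (hS : IsPGroup 2 S) {ι : Type*} [Finite ι] [Nonempty ι]
    (N : ι → Subgroup S) [hNn : ∀ i, (N i).Normal] (hNZ : ∀ i, N i ≤ Subgroup.center S)
    (hNne : ∀ i, ∃ c ∈ Subgroup.center S, c ∉ N i)
    (hInt : ∀ s : S, (∀ i, s ∈ N i) → s = 1)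
    (hna : ∀ i, ¬ IsMulCommutative (S ⧸ N i)) (hu : ∀ i, ∃! x : S ⧸ N i, orderOf x = 2) :
    ∃ E Q : Subgroup S, Cfsg.IsInternalDirectProduct E Q ⊤ ∧ Cfsg.IsElementaryAbelian 2 E ∧
      ¬ IsMulCommutative ↥Q ∧ ∃! x : ↥Q, orderOf x = 2 := by
  classical
  have hQp : ∀ i, IsPGroup 2 (S ⧸ N i) := fun i => hS.to_quotient (N i)
  choose z hz using fun i => uinv_of_existsUnique (hu i)
  choose xb yb k hGQ using fun i => exists_GQ (hQp i) (hz i) (exists_noncomm (hna i))
  have hker : ∀ i (s : S), QuotientGroup.mk' (N i) s = 1 ↔ s ∈ N i := by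
    intro i s
    rw [QuotientGroup.mk'_apply, QuotientGroup.eq_one_iff]
  have hcen : ∀ c ∈ Subgroup.center S, ∀ s : S, c * s = s * c := by
    intro c hc s
    exact ((Subgroup.mem_center_iff.mp hc) s).symm
  -- images of central elements are central
  have mkc : ∀ i, ∀ c ∈ Subgroup.center S, ∀ t : S ⧸ N i,
      QuotientGroup.mk' (N i) c * t = t * QuotientGroup.mk' (N i) c := by
    intro i c hc t
    obtain ⟨s, rfl⟩ := QuotientGroup.mk'_surjective (N i) t
    rw [← map_mul, ← map_mul, hcen c hc s]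
  -- images of central elements are `1` or `z i`
  have mkc' : ∀ i, ∀ c ∈ Subgroup.center S, c ∉ N i → QuotientGroup.mk' (N i) c = z i := by
    intro i c hc hcN
    have h1 := ((hGQ i).central _ (mkc i c hc)).2
    rcases (hz i).uniq _ h1 with e | e
    · exact absurd ((hker i c).mp e) hcN
    · exact e
  -- E
  have hE : ∀ i (s : S), QuotientGroup.mk' (N i) s * QuotientGroup.mk' (N i) s = 1 →
      s ∈ Subgroup.center S := by
    intro i s hs
    rcases (hz i).uniq _ hs with e | e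
    · exact hNZ i ((hker i s).mp e)
    · obtain ⟨c₀, hc₀Z, hc₀N⟩ := hNne i
      have h1 := mkc' i c₀ hc₀Z hc₀N
      have h2 : QuotientGroup.mk' (N i) (c₀⁻¹ * s) = 1 := by
        rw [map_mul, map_inv, h1, e, inv_mul_cancel]
      have h3 : c₀⁻¹ * s ∈ Subgroup.center S := hNZ i ((hker i _).mp h2)
      have : s = c₀ * (c₀⁻¹ * s) := by group
      rw [this]
      exact Subgroup.mul_mem _ hc₀Z h3
  -- F
  have hF : ∀ i, ∀ s ∈ Subgroup.center S, ∀ s' ∈ Subgroup.center S, s ∉ N i → s' ∉ N i →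
      s⁻¹ * s' ∈ N i := by
    intro i s hs s' hs' hsN hs'N
    rw [← hker, map_mul, map_inv, mkc' i s hs hsN, mkc' i s' hs' hs'N, inv_mul_cancel]
  -- G
  have hG : ∀ c ∈ Subgroup.center S, c * c = 1 := by
    intro c hc
    apply hInt
    intro i
    rw [← hker, map_mul]
    exact ((hGQ i).central _ (mkc i c hc)).2
  -- H
  obtain ⟨i₀, hi₀⟩ := Finite.exists_max k
  obtain ⟨x, hx⟩ := QuotientGroup.mk'_surjective (N i₀) (xb i₀)
  obtain ⟨y, hy⟩ := QuotientGroup.mk'_surjective (N i₀) (yb i₀)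
  have h0 : GQ (z i₀) (QuotientGroup.mk' (N i₀) x) (QuotientGroup.mk' (N i₀) y) (k i₀) := by
    rw [hx, hy]; exact hGQ i₀
  -- I
  have hexp : ∀ s : S, s ^ (2 ^ (k i₀)) = 1 := by
    intro s
    apply hInt
    intro j
    rw [← hker, map_pow]
    have h1 := (hGQ j).pow_eq_one (hz j) (QuotientGroup.mk' (N j) s)
    have e : 2 ^ (k i₀) = 2 ^ (k j) * 2 ^ (k i₀ - k j) := by
      rw [← pow_add]; congr 1; have := hi₀ j; omega
    rw [e, pow_mul, h1, one_pow]
  -- J
  obtain ⟨K', hK'⟩ : ∃ K', k i₀ = K' + 2 := ⟨k i₀ - 2, by have := h0.hk; omega⟩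
  have hzS : QuotientGroup.mk' (N i₀) (x ^ (2 ^ (K' + 1))) = z i₀ := by
    rw [map_pow]
    have := h0.xz
    rw [hK'] at this
    exact this
  have hww : x ^ (2 ^ K') * x ^ (2 ^ K') = x ^ (2 ^ (K' + 1)) := by
    rw [← pow_add]; congr 1; ring
  have J1 : x ^ (2 ^ K') ∉ Subgroup.center S := by
    intro hw
    have h1 := (h0.central _ (mkc i₀ _ hw)).2
    rw [← map_mul, hww, hzS] at h1
    exact (hz i₀).ne h1
  have J2 : y ∉ Subgroup.center S := by
    intro hyZ
    exact h0.hy (h0.central _ (mkc i₀ _ hyZ)).1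
  have J3 : ∀ j, x ^ (2 ^ (K' + 1)) ∉ N j := by
    intro j hzj
    apply J1
    apply hE j
    rw [← map_mul, hww]
    exact (hker j _).mpr hzj
  have J4 : ∀ j, y * y ∉ N j := by
    intro j hyj
    apply J2
    apply hE j
    rw [← map_mul]
    exact (hker j _).mpr hyj
  have J5 : x ^ (2 ^ (K' + 1)) ∈ Subgroup.center S := by
    apply hE i₀
    rw [hzS]; exact (hz i₀).sq
  have J5' : y * y ∈ Subgroup.center S := by
    apply hE i₀
    rw [map_mul, h0.yy]; exact (hz i₀).sq
  have J6 : y * y = x ^ (2 ^ (K' + 1)) := by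
    have h1 : (x ^ (2 ^ (K' + 1)))⁻¹ * (y * y) = 1 :=
      hInt _ (fun j => hF j _ J5 _ J5' (J3 j) (J4 j))
    exact (inv_mul_eq_one.mp h1).symm
  -- K
  have hccN : x * (y * x * y⁻¹) ∈ N i₀ := by
    rw [← hker, map_mul, map_mul, map_mul, map_inv, h0.inv, mul_inv_cancel]
  have hccZ : x * (y * x * y⁻¹) ∈ Subgroup.center S := hNZ i₀ hccN
  have hK : y * x * y⁻¹ = x⁻¹ := by
    have h1 : x * (y * x * y⁻¹) = 1 := by
      apply hInt
      intro j
      rw [← hker]
      have hxpow : (QuotientGroup.mk' (N j) x) ^ (2 ^ (k i₀)) = 1 := by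
        rw [← map_pow, hexp, map_one]
      have hxz : (QuotientGroup.mk' (N j) x) ^ (2 ^ (K' + 1)) ≠ 1 := by
        rw [← map_pow]
        intro e
        exact J3 j ((hker j _).mp e)
      have hx1 : QuotientGroup.mk' (N j) x ≠ 1 := by
        intro e
        rw [e, one_pow] at hxz
        exact hxz rfl
      have hzjmem : z j ∈ Subgroup.zpowers (QuotientGroup.mk' (N j) x) :=
        z_mem (hz j) (k i₀) _ hx1 hxpow
      have K1 : QuotientGroup.mk' (N j) y ∉ Subgroup.zpowers (QuotientGroup.mk' (N j) x) := by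
        intro hmem
        obtain ⟨i, hi⟩ := Subgroup.mem_zpowers_iff.mp hmem
        have h2 : (x ^ i)⁻¹ * y ∈ N j := by
          rw [← hker, map_mul, map_inv, map_zpow, hi, inv_mul_cancel]
        have h3 : (x ^ i)⁻¹ * y ∈ Subgroup.center S := hNZ j h2
        have h4 := (h0.central _ (mkc i₀ _ h3)).1
        apply h0.hy
        have e : y = x ^ i * ((x ^ i)⁻¹ * y) := by group
        rw [e, map_mul, map_zpow]
        exact Subgroup.mul_mem _ (Subgroup.zpow_mem _ (Subgroup.mem_zpowers _) i) h4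
      have Kyy : QuotientGroup.mk' (N j) y * QuotientGroup.mk' (N j) y ∈
          Subgroup.zpowers (QuotientGroup.mk' (N j) x) := by
        rw [← map_mul, J6, map_pow]
        exact Subgroup.npow_mem_zpowers _ _
      have K2 : QuotientGroup.mk' (N j) y * QuotientGroup.mk' (N j) x *
          (QuotientGroup.mk' (N j) y)⁻¹ ∈ Subgroup.zpowers (QuotientGroup.mk' (N j) x) := by
        have e : y * x * y⁻¹ = x⁻¹ * (x * (y * x * y⁻¹)) := by group
        rw [← map_inv, ← map_mul, ← map_mul, e, map_mul, map_inv]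
        apply Subgroup.mul_mem _ (Subgroup.inv_mem _ (Subgroup.mem_zpowers _))
        have h2 : QuotientGroup.mk' (N j) (x * (y * x * y⁻¹)) *
            QuotientGroup.mk' (N j) (x * (y * x * y⁻¹)) = 1 := by
          rw [← map_mul, hG _ hccZ, map_one]
        rcases (hz j).uniq _ h2 with e1 | e1
        · rw [e1]; exact Subgroup.one_mem _
        · rw [e1]; exact hzjmem
      have K3 : QuotientGroup.mk' (N j) y * QuotientGroup.mk' (N j) x ≠
          QuotientGroup.mk' (N j) x * QuotientGroup.mk' (N j) y := by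
        intro hc
        apply K1
        have hc' : Commute (QuotientGroup.mk' (N j) y) (QuotientGroup.mk' (N j) x) := hc
        have hc2 : Commute (QuotientGroup.mk' (N j) y)
            ((QuotientGroup.mk' (N j) x ^ (2 ^ K'))⁻¹) := (hc'.pow_right _).inv_right
        have hu2 : (QuotientGroup.mk' (N j) y * ((QuotientGroup.mk' (N j) x) ^ (2 ^ K'))⁻¹) *
            (QuotientGroup.mk' (N j) y * ((QuotientGroup.mk' (N j) x) ^ (2 ^ K'))⁻¹) = 1 := by
          rw [← pow_two, hc2.mul_pow, pow_two, pow_two, ← map_mul, J6, ← mul_inv_rev,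
            ← map_pow, ← map_mul, hww, mul_inv_cancel]
        have hmem : QuotientGroup.mk' (N j) y * ((QuotientGroup.mk' (N j) x) ^ (2 ^ K'))⁻¹ ∈
            Subgroup.zpowers (QuotientGroup.mk' (N j) x) := by
          rcases (hz j).uniq _ hu2 with e1 | e1
          · rw [e1]; exact Subgroup.one_mem _
          · rw [e1]; exact hzjmem
        have := Subgroup.mul_mem _ hmem
          (Subgroup.npow_mem_zpowers (QuotientGroup.mk' (N j) x) (2 ^ K'))
        rwa [inv_mul_cancel_right] at this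
      have h5 := (inverts (hz j) _ _ (k i₀) hxpow K1 Kyy K2 K3).1
      rw [map_mul, map_mul, map_mul, map_inv, h5, mul_inv_cancel]
    exact (eq_inv_of_mul_eq_one_right h1)
  -- L
  have hyyS : y * y ∈ Subgroup.zpowers x := by
    rw [J6]; exact Subgroup.npow_mem_zpowers _ _
  have hxQ : x ∈ quat x y hK hyyS := Or.inl (Subgroup.mem_zpowers x)
  have hyQ : y ∈ quat x y hK hyyS := Or.inr (by rw [inv_mul_cancel]; exact Subgroup.one_mem _)
  have hxpowS : x ^ (2 ^ (k i₀)) = 1 := hexp x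
  -- E ⊓ Q = ⊥
  have hEQ : ∀ s : S, s ∈ N i₀ → s ∈ quat x y hK hyyS → s = 1 := by
    intro s hsE hsQ
    rcases hsQ with h1 | h1
    · obtain ⟨i, rfl⟩ := Subgroup.mem_zpowers_iff.mp h1
      have h2 : (QuotientGroup.mk' (N i₀) x) ^ i = 1 := by
        rw [← map_zpow]; exact (hker i₀ _).mpr hsE
      have h3 := (orderOf_dvd_iff_zpow_eq_one).mpr h2
      rw [h0.ord] at h3
      obtain ⟨m, rfl⟩ := h3
      rw [zpow_mul]
      have : x ^ (((2 ^ (k i₀) : ℕ)) : ℤ) = 1 := by
        rw [zpow_natCast]; exact hxpowS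
      rw [this, one_zpow]
    · exfalso
      apply h0.hy
      have h2 : (QuotientGroup.mk' (N i₀) y)⁻¹ * QuotientGroup.mk' (N i₀) s ∈
          Subgroup.zpowers (QuotientGroup.mk' (N i₀) x) := by
        rw [← map_inv, ← map_mul]
        obtain ⟨i, hi⟩ := Subgroup.mem_zpowers_iff.mp h1
        rw [← hi, map_zpow]
        exact Subgroup.zpow_mem _ (Subgroup.mem_zpowers _) i
      rw [(hker i₀ s).mpr hsE, mul_one] at h2
      have := Subgroup.inv_mem _ h2
      rwa [inv_inv] at this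
  have hzSQ : x ^ (2 ^ (K' + 1)) ∈ quat x y hK hyyS := Or.inl (Subgroup.npow_mem_zpowers _ _)
  refine ⟨N i₀, quat x y hK hyyS, ⟨le_top, le_top, ?_, ?_, ?_⟩, ⟨?_, ?_⟩, ?_, ?_⟩
  · intro a ha b _
    exact hcen a (hNZ i₀ ha) b
  · rw [eq_bot_iff]
    intro s hs
    rw [Subgroup.mem_bot]
    exact hEQ s hs.1 hs.2
  · rw [eq_top_iff]
    intro s _
    rcases h0.idx (QuotientGroup.mk' (N i₀) s) with h1 | h1
    · obtain ⟨i, hi⟩ := Subgroup.mem_zpowers_iff.mp h1
      have h2 : (x ^ i)⁻¹ * s ∈ N i₀ := by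
        rw [← hker, map_mul, map_inv, map_zpow, hi, inv_mul_cancel]
      have e : s = x ^ i * ((x ^ i)⁻¹ * s) := by group
      have hq : x ^ i ∈ quat x y hK hyyS :=
        Or.inl (Subgroup.zpow_mem _ (Subgroup.mem_zpowers x) i)
      rw [e]
      exact Subgroup.mul_mem _ ((le_sup_right : quat x y hK hyyS ≤ N i₀ ⊔ quat x y hK hyyS) hq)
        ((le_sup_left : N i₀ ≤ N i₀ ⊔ quat x y hK hyyS) h2)
    · obtain ⟨i, hi⟩ := Subgroup.mem_zpowers_iff.mp h1
      have h2 : (y * x ^ i)⁻¹ * s ∈ N i₀ := by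
        rw [← hker, map_mul, map_inv, map_mul, map_zpow, hi]
        group
      have e : s = (y * x ^ i) * ((y * x ^ i)⁻¹ * s) := by group
      have hq : y * x ^ i ∈ quat x y hK hyyS := by
        right
        rw [inv_mul_cancel_left]
        exact Subgroup.zpow_mem _ (Subgroup.mem_zpowers x) i
      rw [e]
      exact Subgroup.mul_mem _ ((le_sup_right : quat x y hK hyyS ≤ N i₀ ⊔ quat x y hK hyyS) hq)
        ((le_sup_left : N i₀ ≤ N i₀ ⊔ quat x y hK hyyS) h2)
  · exact ⟨⟨fun a b => Subtype.ext (hcen a.1 (hNZ i₀ a.2) b.1)⟩⟩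
  · intro a ha
    rw [pow_two]
    exact hG a (hNZ i₀ ha)
  · intro hcomm
    have h1 : (⟨y, hyQ⟩ : ↥(quat x y hK hyyS)) * ⟨x, hxQ⟩ = ⟨x, hxQ⟩ * ⟨y, hyQ⟩ :=
      hcomm.is_comm.comm _ _
    have h2 : y * x = x * y := congrArg Subtype.val h1
    have h3 : x⁻¹ = x := by
      rw [← hK, h2]; group
    apply h0.xx_ne
    rw [← map_mul]
    have : x * x = 1 := by
      calc x * x = x⁻¹ * x := by rw [h3]
        _ = 1 := inv_mul_cancel x
    rw [this, map_one]
  · apply unique_of_uinv (z := (⟨x ^ (2 ^ (K' + 1)), hzSQ⟩ : ↥(quat x y hK hyyS)))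
    refine ⟨?_, ?_, ?_⟩
    · intro e
      have e' : x ^ (2 ^ (K' + 1)) = 1 := congrArg Subtype.val e
      apply J3 i₀
      rw [e']; exact Subgroup.one_mem _
    · apply Subtype.ext
      exact hG _ J5
    · intro g hg
      have hg' : (g : S) * (g : S) = 1 := congrArg Subtype.val hg
      have h1 : QuotientGroup.mk' (N i₀) (g : S) * QuotientGroup.mk' (N i₀) (g : S) = 1 := by
        rw [← map_mul, hg', map_one]
      rcases (hz i₀).uniq _ h1 with e | e
      · left
        apply Subtype.ext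
        exact hEQ _ ((hker i₀ _).mp e) g.2
      · right
        apply Subtype.ext
        have h2 : (x ^ (2 ^ (K' + 1)))⁻¹ * (g : S) ∈ N i₀ := by
          rw [← hker, map_mul, map_inv, hzS, e, inv_mul_cancel]
        have h3 : (x ^ (2 ^ (K' + 1)))⁻¹ * (g : S) ∈ quat x y hK hyyS :=
          Subgroup.mul_mem _ (Subgroup.inv_mem _ hzSQ) g.2
        have h4 := hEQ _ h2 h3
        exact (inv_mul_eq_one.mp h4).symm

/-- Let S be a finite 2-group whose centre Z(S) has n ≥ 2 distinct maximal subgroups C₁, …, Cₙ with trivial intersection such that each quotient S/Cᵢ is a non-abelian group with exactly one involution (a generalized quaternion group). Then S is the internal direct product of an elementary abelian subgroup and a non-abelian subgroup with exactly one involution. -/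
theorem result {S : Type*} [Group S] [Finite S]
    (hS : IsPGroup 2 S) (n : ℕ) (hn : 2 ≤ n) (C : Fin n → Subgroup ↥(Subgroup.center S))
    (hCmax : ∀ i, IsCoatom (C i)) (hCinj : Function.Injective C) (hCint : ⨅ i, C i = ⊥)
    (hCq : ∀ i, ∃ (_ : ((C i).map (Subgroup.center S).subtype).Normal),
      ¬ IsMulCommutative (S ⧸ (C i).map (Subgroup.center S).subtype) ∧
      ∃! x : S ⧸ (C i).map (Subgroup.center S).subtype, orderOf x = 2) :
    ∃ E Q : Subgroup S, Cfsg.IsInternalDirectProduct E Q ⊤ ∧ Cfsg.IsElementaryAbelian 2 E ∧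
      ¬ IsMulCommutative ↥Q ∧ ∃! x : ↥Q, orderOf x = 2 := by
  have : Nonempty (Fin n) := ⟨⟨0, by omega⟩⟩
  have hNn : ∀ i, ((C i).map (Subgroup.center S).subtype).Normal := fun i => (hCq i).choose
  apply core hS (fun i => (C i).map (Subgroup.center S).subtype)
  · intro i
    rintro _ ⟨d, _, rfl⟩
    exact d.2
  · intro i
    have hne : C i ≠ ⊤ := (hCmax i).1
    obtain ⟨c, hc⟩ : ∃ c : ↥(Subgroup.center S), c ∉ C i := by
      by_contra hall
      push Not at hall
      exact hne (eq_top_iff.mpr (fun c _ => hall c))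
    refine ⟨c.1, c.2, ?_⟩
    rintro ⟨d, hd, hdc⟩
    have : d = c := Subtype.ext hdc
    exact hc (this ▸ hd)
  · intro s hs
    obtain ⟨d₀, _, hd₀s⟩ := hs ⟨0, by omega⟩
    have hmem : d₀ ∈ ⨅ i, C i := by
      rw [Subgroup.mem_iInf]
      intro i
      obtain ⟨d, hd, hds⟩ := hs i
      have : d = d₀ := Subtype.ext (hds.trans hd₀s.symm)
      exact this ▸ hd
    rw [hCint, Subgroup.mem_bot] at hmem
    rw [← hd₀s, hmem]
    rfl
  · intro i
    exact (hCq i).choose_spec.1
  · intro i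
    exact (hCq i).choose_spec.2

end Cfsg.Agent.S3201
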