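import Cfsg.Statements.S3202
import Mathlib
import Cfsg.Agent.H16UniqueInvol

set_option autoImplicit false
open Cfsg

namespace Cfsg.Agent.S3202

open scoped commutatorElement

/-- If `S / Dm` (with `Dm` central) is a non-abelian `2`-group with a unique involution then the
derived subgroup of `S` is cyclic. -/
theorem commutator_cyclic {S : Type*} [Group S] [Finite S] (hS : IsPGroup 2 S)
    (Dm : Subgroup S) [Dm.Normal] (hDm : Dm ≤ Subgroup.center S)
    (hna : ¬ IsMulCommutative (S ⧸ Dm)) (hu : ∃! x : S ⧸ Dm, orderOf x = 2) :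
    ∃ c : S, commutator S ≤ Subgroup.zpowers c := by
  obtain ⟨z, hz⟩ := Cfsg.Agent.H16UniqueInvol.uinv_of_existsUnique hu
  obtain ⟨xb, yb, k, hk2, hxk, hyx, hidx, hinv, hyy, hxz⟩ :=
    Cfsg.Agent.H16UniqueInvol.structure_thm (hS.to_quotient Dm) hz
      (Cfsg.Agent.H16UniqueInvol.exists_noncomm hna)
  obtain ⟨x, rfl⟩ := QuotientGroup.mk_surjective xb
  obtain ⟨y, rfl⟩ := QuotientGroup.mk_surjective yb
  have hNorm : (Subgroup.zpowers (x : S ⧸ Dm)).Normal :=
    Cfsg.Agent.H16UniqueInvol.zpowers_normal _ _ hidx hinv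
  let A : Subgroup S := (Subgroup.zpowers (x : S ⧸ Dm)).comap (QuotientGroup.mk' Dm)
  have hAn : A.Normal := hNorm.comap _
  have hmemA : ∀ s : S, s ∈ A ↔ (s : S ⧸ Dm) ∈ Subgroup.zpowers (x : S ⧸ Dm) := by
    intro s; rfl
  have hcentral : ∀ d ∈ Dm, ∀ s : S, d * s = s * d := by
    intro d hd s
    exact ((Subgroup.mem_center_iff.mp (hDm hd)) s).symm
  have hgen : ∀ a ∈ A, ∃ (i : ℤ) (d : S), (∀ s : S, d * s = s * d) ∧ a = x ^ i * d := by
    intro a ha
    obtain ⟨i, hi⟩ := Subgroup.mem_zpowers_iff.mp ((hmemA a).mp ha)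
    refine ⟨i, (x ^ i)⁻¹ * a, ?_, by group⟩
    apply hcentral
    rw [← QuotientGroup.eq_one_iff]
    rw [QuotientGroup.mk_mul, QuotientGroup.mk_inv, QuotientGroup.mk_zpow, hi, inv_mul_cancel]
  have hAab : ∀ a ∈ A, ∀ b ∈ A, a * b = b * a := by
    intro a ha b hb
    obtain ⟨i, d, hd, rfl⟩ := hgen a ha
    obtain ⟨j, d', hd', rfl⟩ := hgen b hb
    have h1 : d * x ^ j = x ^ j * d := hd _
    have h2 : d' * x ^ i = x ^ i * d' := hd' _
    have h3 : d * d' = d' * d := hd _
    have h4 : x ^ i * x ^ j = x ^ j * x ^ i := by rw [← zpow_add, ← zpow_add, add_comm]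
    calc x ^ i * d * (x ^ j * d') = x ^ i * (d * x ^ j) * d' := by group
      _ = x ^ i * (x ^ j * d) * d' := by rw [h1]
      _ = (x ^ i * x ^ j) * (d * d') := by group
      _ = (x ^ j * x ^ i) * (d' * d) := by rw [h4, h3]
      _ = x ^ j * (x ^ i * d') * d := by group
      _ = x ^ j * (d' * x ^ i) * d := by rw [h2]
      _ = x ^ j * d' * (x ^ i * d) := by group
  have hxA : x ∈ A := (hmemA x).mpr (Subgroup.mem_zpowers _)
  have hyyA : y * y ∈ A := by
    rw [hmemA, QuotientGroup.mk_mul, hyy, ← hxz]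
    exact Subgroup.npow_mem_zpowers _ _
  have hidxA : ∀ s : S, s ∈ A ∨ y⁻¹ * s ∈ A := by
    intro s
    rcases hidx (s : S ⧸ Dm) with h | h
    · exact Or.inl ((hmemA s).mpr h)
    · right
      rw [hmemA, QuotientGroup.mk_mul, QuotientGroup.mk_inv]
      exact h
  exact ⟨_, Cfsg.Agent.H16UniqueInvol.commutator_le_zpowers A hAab hAn x y hyyA hidxA hgen hxA⟩

/-- Let S be a finite 2-group of 2-rank exactly 2 and D a maximal subgroup of the centre of S such that S/D is a non-abelian group with exactly one involution (a generalized quaternion group). Then S has a nontrivial cyclic characteristic subgroup. -/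
theorem result {S : Type*} [Group S]
    [Finite S] (hS : IsPGroup 2 S) (hr2 : Cfsg.PRankLE 2 2 S) (hr1 : ¬ Cfsg.PRankLE 2 1 S)
    (D : Subgroup ↥(Subgroup.center S)) (hD : IsCoatom D)
    (hq : ∃ (_ : (D.map (Subgroup.center S).subtype).Normal),
      ¬ IsMulCommutative (S ⧸ D.map (Subgroup.center S).subtype) ∧
      ∃! x : S ⧸ D.map (Subgroup.center S).subtype, orderOf x = 2) :
    ∃ C : Subgroup S, C ≠ ⊥ ∧ IsCyclic ↥C ∧ C.Characteristic := by
  obtain ⟨hN, hna, hu⟩ := hq
  have hDm : D.map (Subgroup.center S).subtype ≤ Subgroup.center S := by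
    rintro _ ⟨d, _, rfl⟩
    exact d.2
  obtain ⟨c, hc⟩ := commutator_cyclic hS (D.map (Subgroup.center S).subtype) hDm hna hu
  refine ⟨commutator S, ?_, ?_, inferInstance⟩
  · intro hbot
    obtain ⟨g, h, hgh⟩ := Cfsg.Agent.H16UniqueInvol.exists_noncomm hna
    obtain ⟨g, rfl⟩ := QuotientGroup.mk_surjective g
    obtain ⟨h, rfl⟩ := QuotientGroup.mk_surjective h
    have h1 : ⁅g, h⁆ ∈ commutator S := by
      rw [commutator_def]
      exact Subgroup.commutator_mem_commutator (Subgroup.mem_top g) (Subgroup.mem_top h)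
    rw [hbot, Subgroup.mem_bot, commutatorElement_eq_one_iff_mul_comm] at h1
    apply hgh
    rw [← QuotientGroup.mk_mul, ← QuotientGroup.mk_mul, h1]
  · exact isCyclic_of_injective (Subgroup.inclusion hc) (Subgroup.inclusion_injective hc)

end Cfsg.Agent.S3202
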