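import Cfsg.Statements.S3208
import Mathlib

set_option autoImplicit false
open Cfsg

namespace Cfsg.Agent.S3208

/-- Elements normalizing `T` centralize `j` when `⟨j⟩` is characteristic in `T` and `j` has order 2. -/
theorem conj_eq_of_char {G : Type*} [Group G] (j : G) (hj : orderOf j = 2) (T : Subgroup G) (hjT : j ∈ T)
    (hchar : ((Subgroup.zpowers j).subgroupOf T).Characteristic)
    (n : G) (hn : n ∈ Subgroup.normalizer (T : Set G)) : n * j * n⁻¹ = j := by
  have hfix := hchar.fixed (T.normalizerMonoidHom ⟨n, hn⟩)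
  have h1 : (⟨j, hjT⟩ : T) ∈ (Subgroup.zpowers j).subgroupOf T := by
    rw [Subgroup.mem_subgroupOf]; exact Subgroup.mem_zpowers j
  rw [← hfix, Subgroup.mem_comap, Subgroup.mem_subgroupOf] at h1
  have h2 : n * j * n⁻¹ ∈ Subgroup.zpowers j := by simpa using h1
  obtain ⟨k, hk⟩ := Subgroup.mem_zpowers_iff.1 h2
  have hj2 : j ^ (2 : ℤ) = 1 := by
    have := pow_orderOf_eq_one j
    rw [hj] at this
    exact_mod_cast this
  have hj1 : j ≠ 1 := by
    intro h
    rw [h, orderOf_one] at hj
    omega
  have hk' : j ^ k = j ^ (k % 2) := by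
    conv_lhs => rw [← Int.emod_add_mul_ediv k 2, zpow_add, zpow_mul, hj2, one_zpow, mul_one]
  rcases Int.emod_two_eq_zero_or_one k with h0 | h0
  · rw [hk', h0, zpow_zero] at hk
    exfalso
    apply hj1
    have := congrArg (fun t => n⁻¹ * t * n) hk
    simp [mul_assoc] at this
    exact this.symm
  · rw [hk', h0, zpow_one] at hk
    exact hk.symm

/-- Let j be an involution of a finite group G, H a subgroup of G, and T a Sylow 2-subgroup of H ∩ C_G(j) containing j such that ⟨j⟩ is a characteristic subgroup of T. Then T is a Sylow 2-subgroup of H. -/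
theorem result {G : Type*} [Group G] [Finite G]
    (j : G) (hj : orderOf j = 2) (H T : Subgroup G) (hT : T ≤ H ⊓ Subgroup.centralizer ({j} : Set G)) (h2 : IsPGroup 2 ↥T)
    (hSyl : ¬ 2 ∣ T.relIndex (H ⊓ Subgroup.centralizer ({j} : Set G))) (hjT : j ∈ T)
    (hchar : ((Subgroup.zpowers j).subgroupOf T).Characteristic) :
    ¬ 2 ∣ T.relIndex H := by
  have : Fact (Nat.Prime 2) := ⟨Nat.prime_two⟩
  have hTH : T ≤ H := hT.trans inf_le_left
  set N : Subgroup G := Subgroup.normalizer (T : Set G) with hN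
  -- N ⊓ H ≤ H ⊓ C(j)
  have hNK : N ⊓ H ≤ H ⊓ Subgroup.centralizer ({j} : Set G) := by
    intro n hn
    refine ⟨hn.2, ?_⟩
    show n ∈ Subgroup.centralizer ({j} : Set G)
    rw [Subgroup.mem_centralizer_iff]
    intro h hh
    rw [Set.mem_singleton_iff] at hh
    subst hh
    have := conj_eq_of_char h hj T hjT hchar n hn.1
    calc h * n = (n * h * n⁻¹) * n := by rw [this]
      _ = n * h := by group
  have hTN : T ≤ N ⊓ H := le_inf Subgroup.le_normalizer hTH
  -- T.relIndex (N ⊓ H) is odd
  have hodd : ¬ 2 ∣ T.relIndex (N ⊓ H) := by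
    intro h
    apply hSyl
    rw [← Subgroup.relIndex_mul_relIndex T (N ⊓ H) _ hTN hNK]
    exact Dvd.dvd.mul_right h _
  -- congruence in the group H
  obtain ⟨m, hm⟩ := (h2.comap_subtype (K := H)).exists_card_eq
  have hcong := Sylow.card_quotient_normalizer_modEq_card_quotient (G := H) (p := 2) (n := m)
    (H := T.subgroupOf H) hm
  have e1 : Nat.card (↥H ⧸ T.subgroupOf H) = T.relIndex H := by
    rw [Subgroup.relIndex, Subgroup.index_eq_card]
  have e2 : Nat.card (↥(Subgroup.normalizer ((T.subgroupOf H : Subgroup H) : Set H)) ⧸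
      (T.subgroupOf H).comap (Subgroup.normalizer ((T.subgroupOf H : Subgroup H) : Set H)).subtype)
      = T.relIndex (N ⊓ H) := by
    rw [← Subgroup.index_eq_card]
    change ((T.subgroupOf H).subgroupOf (Subgroup.normalizer ((T.subgroupOf H : Subgroup H) : Set H))).index = _
    rw [← Subgroup.relIndex, ← Subgroup.subgroupOf_normalizer_eq hTH]
    have hh : (Subgroup.normalizer (T : Set G)).subgroupOf H = (N ⊓ H).subgroupOf H :=
      (Subgroup.inf_subgroupOf_right N H).symm
    rw [hh, Subgroup.relIndex_subgroupOf inf_le_right]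
  rw [e1, e2] at hcong
  intro hdvd
  apply hodd
  have := (Nat.ModEq.dvd_iff hcong (dvd_refl 2)).2 hdvd
  exact this

end Cfsg.Agent.S3208
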