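import Cfsg.Statements.S3213
import Mathlib

set_option autoImplicit false
open Cfsg

namespace Cfsg.Agent.S3213

open Matrix Module

/-- an abstract non-degenerate alternating form. -/
structure IsSymp {F V : Type*} [Field F] [AddCommGroup V] [Module F V] (B : V → V → F) : Prop where
  add_left : ∀ u v w, B (u + v) w = B u w + B v w
  smul_left : ∀ (c : F) v w, B (c • v) w = c * B v w
  add_right : ∀ u v w, B u (v + w) = B u v + B u w
  smul_right : ∀ (c : F) v w, B v (c • w) = c * B v w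
  alt : ∀ v, B v v = 0
  nondeg : ∀ a, (∀ w, B a w = 0) → a = 0

section abstract
variable {F V : Type*} [Field F] [AddCommGroup V] [Module F V] {B : V → V → F}

theorem IsSymp.zero_left (hB : IsSymp B) (w : V) : B 0 w = 0 := by
  have := hB.smul_left 0 0 w
  rwa [zero_smul, zero_mul] at this

theorem IsSymp.zero_right (hB : IsSymp B) (w : V) : B w 0 = 0 := by
  have := hB.smul_right 0 w 0
  rwa [zero_smul, zero_mul] at this

theorem IsSymp.skew (hB : IsSymp B) (v w : V) : B v w = -B w v := by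
  have := hB.alt (v + w)
  rw [hB.add_left, hB.add_right, hB.add_right, hB.alt, hB.alt] at this
  linear_combination this

theorem IsSymp.exists_ne (hB : IsSymp B) {a : V} (ha : a ≠ 0) : ∃ w, B a w ≠ 0 := by
  by_contra h
  push Not at h
  exact ha (hB.nondeg a h)

/-- in a space of rank at most one, everything is a multiple of a non-zero vector. -/
theorem exists_smul_of_finrank_le_one [FiniteDimensional F V] (W : Submodule F V)
    (hW : finrank F W ≤ 1) {a : V} (ha : a ∈ W) (ha0 : a ≠ 0) {w : V} (hw : w ∈ W) :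
    ∃ c : F, w = c • a := by
  obtain ⟨v₀, hv₀⟩ := finrank_le_one_iff.mp hW
  obtain ⟨ca, hca⟩ := hv₀ ⟨a, ha⟩
  obtain ⟨cw, hcw⟩ := hv₀ ⟨w, hw⟩
  have hca' : ca • (v₀ : V) = a := by
    have := congrArg Subtype.val hca; simpa using this
  have hcw' : cw • (v₀ : V) = w := by
    have := congrArg Subtype.val hcw; simpa using this
  have hca0 : ca ≠ 0 := by
    rintro rfl
    rw [zero_smul] at hca'
    exact ha0 hca'.symm
  refine ⟨cw * ca⁻¹, ?_⟩
  rw [← hca', ← hcw', smul_smul, mul_assoc, inv_mul_cancel₀ hca0, mul_one]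

variable [FiniteDimensional F V]

/-- step 1: `n² = 0`. -/
theorem sq_zero (hV : finrank F V = 4) (hB : IsSymp B) (n : V →ₗ[F] V)
    (hstar : ∀ v w, B (n v) w + B v (n w) + B (n v) (n w) = 0)
    (hn3 : ∀ v, n (n (n v)) = 0) : ∀ v, n (n v) = 0 := by
  by_contra hcon
  push Not at hcon
  obtain ⟨u, hu⟩ := hcon
  have hC : ∀ v, B (n (n v)) v = 0 := by
    intro v
    have h1 := hstar (n (n v)) v
    rw [hn3, hB.zero_left, hB.zero_left] at h1
    have h2 := hstar (n v) v
    rw [hB.alt] at h2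
    linear_combination h2 - h1
  have hr : finrank F (LinearMap.range (n ∘ₗ n)) ≤ 1 := by
    by_contra hr
    push Not at hr
    have h1 : LinearMap.range (n ∘ₗ n) ≤ LinearMap.ker n := by
      rintro _ ⟨v, rfl⟩
      rw [LinearMap.mem_ker, LinearMap.comp_apply]
      exact hn3 v
    have h2 : LinearMap.range (n ∘ₗ n) ≤ LinearMap.range n := by
      rintro _ ⟨v, rfl⟩
      exact ⟨n v, rfl⟩
    have h3 := LinearMap.finrank_range_add_finrank_ker n
    have h4 := Submodule.finrank_mono h1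
    have h5 := Submodule.finrank_mono h2
    have h8 : LinearMap.range (n ∘ₗ n) = LinearMap.range n :=
      Submodule.eq_of_le_of_finrank_eq h2 (by omega)
    apply hu
    have h9 : n u ∈ LinearMap.ker n := h1 (h8 ▸ ⟨u, rfl⟩)
    exact h9
  have hmult : ∀ w, ∃ c : F, n (n w) = c • n (n u) := by
    intro w
    exact exists_smul_of_finrank_le_one _ hr ⟨u, rfl⟩ hu ⟨w, rfl⟩
  obtain ⟨w₀, hw₀⟩ := hB.exists_ne hu
  obtain ⟨c, hc⟩ := hmult w₀
  have h1 := hC w₀
  rw [hc, hB.smul_left] at h1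
  have hc0 : c = 0 := by
    rcases mul_eq_zero.mp h1 with h | h
    · exact h
    · exact absurd h hw₀
  rw [hc0, zero_smul] at hc
  have h2 := hC u
  have h3 := hC (u + w₀)
  rw [map_add, map_add, hc, add_zero, hB.add_right, h2, zero_add] at h3
  exact hw₀ h3

/-- step 2: the rank of `n` is not one, if `n` is inverted by an isometry and `-1` is not a
square. -/
theorem rank_ne_one (hB : IsSymp B) (n : V →ₗ[F] V)
    (hstar : ∀ v w, B (n v) w + B v (n w) + B (n v) (n w) = 0)
    (h hi : V →ₗ[F] V) (hhi : ∀ v, h (hi v) = v) (hih : ∀ v, hi (h v) = v)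
    (hiso : ∀ v w, B (h v) (h w) = B v w) (hanti : ∀ v, h (n v) = -n (h v))
    (hsq : ∀ μ : F, μ * μ ≠ -1) : finrank F (LinearMap.range n) ≠ 1 := by
  intro hr
  have hne : LinearMap.range n ≠ ⊥ := by
    intro h0
    rw [h0, finrank_bot] at hr
    omega
  obtain ⟨a, haR, ha0⟩ := (Submodule.ne_bot_iff _).mp hne
  obtain ⟨v₀, rfl⟩ := haR
  have hmult : ∀ w, ∃ c : F, n w = c • n v₀ := by
    intro w
    exact exists_smul_of_finrank_le_one _ hr.le ⟨v₀, rfl⟩ ha0 ⟨w, rfl⟩
  -- transvection formula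
  have hform : ∀ v c, n v = c • n v₀ → c * B (n v₀) v₀ = B (n v₀) v := by
    intro v c hc
    have h1 := hstar v v₀
    rw [hc, hB.smul_left, hB.smul_left, hB.alt, mul_zero, add_zero] at h1
    have h2 := hB.skew v (n v₀)
    linear_combination h1 - h2
  have hβ0 : B (n v₀) v₀ ≠ 0 := by
    intro h0
    apply ha0
    apply hB.nondeg
    intro w
    obtain ⟨c, hc⟩ := hmult w
    rw [← hform w c hc, h0, mul_zero]
  -- `h a` is a multiple of `a`
  obtain ⟨c', hc'⟩ := hmult (h v₀)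
  have hha : h (n v₀) = (-c') • n v₀ := by
    rw [hanti, hc', neg_smul]
  have hc'β := hform (h v₀) c' hc'
  have h1 : n v₀ = (-c') • hi (n v₀) := by
    have := congrArg hi hha
    rw [hih, map_smul] at this
    exact this
  have h2 : B (n v₀) (h v₀) = B (hi (n v₀)) v₀ := by
    have := hiso (hi (n v₀)) v₀
    rw [hhi] at this
    exact this
  have h3 : B (n v₀) v₀ = (-c') * B (hi (n v₀)) v₀ := by
    have : B (n v₀) v₀ = B ((-c') • hi (n v₀)) v₀ := by rw [← h1]
    rw [this, hB.smul_left]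
  have h4 : B (n v₀) v₀ = (-c') * (c' * B (n v₀) v₀) := by
    rw [hc'β, h2]; exact h3
  have h5 : c' * c' = -1 := by
    have : B (n v₀) v₀ * (1 + c' * c') = 0 := by linear_combination h4
    rcases mul_eq_zero.mp this with h | h
    · exact absurd h hβ0
    · linear_combination h
  exact hsq c' h5

/-- step 3: the abstract conclusion. -/
theorem final_abstract (hV : finrank F V = 4) (hB : IsSymp B) (n : V →ₗ[F] V)
    (hstar : ∀ v w, B (n v) w + B v (n w) + B (n v) (n w) = 0)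
    (hn2 : ∀ v, n (n v) = 0) (hne : ∃ v, n v ≠ 0)
    (hr1 : finrank F (LinearMap.range n) ≠ 1) :
    finrank F (LinearMap.ker n) = 2 ∧ ∀ v w, n v = 0 → n w = 0 → B v w = 0 := by
  have h1 : LinearMap.range n ≤ LinearMap.ker n := by
    rintro _ ⟨v, rfl⟩
    exact hn2 v
  have h3 := LinearMap.finrank_range_add_finrank_ker n
  have h4 := Submodule.finrank_mono h1
  have h0 : finrank F (LinearMap.range n) ≠ 0 := by
    intro h0
    have hbot : LinearMap.range n = ⊥ := Submodule.finrank_eq_zero.mp h0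
    obtain ⟨v, hv⟩ := hne
    apply hv
    have hmem : n v ∈ LinearMap.range n := ⟨v, rfl⟩
    rw [hbot] at hmem
    exact (Submodule.mem_bot F).mp hmem
  have h6 : LinearMap.range n = LinearMap.ker n :=
    Submodule.eq_of_le_of_finrank_eq h1 (by omega)
  refine ⟨by omega, ?_⟩
  intro v w hv hw
  have hvr : v ∈ LinearMap.range n := by
    rw [h6]; exact hv
  obtain ⟨u, rfl⟩ := hvr
  have := hstar u w
  rw [hw, hB.zero_right, hB.zero_right, add_zero, add_zero] at this
  exact this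

end abstract

section concrete
variable {F : Type*} [Field F]

/-- the standard alternating form. -/
def BJ (v w : Fin 2 ⊕ Fin 2 → F) : F := v ⬝ᵥ (J (Fin 2) F *ᵥ w)

theorem BJ_alt (v : Fin 2 ⊕ Fin 2 → F) : BJ v v = 0 := by
  simp [BJ, Matrix.J, Matrix.mulVec, dotProduct, Fintype.sum_sum_type, Fin.sum_univ_two,
    Matrix.one_apply]
  ring

theorem isSymp_BJ : IsSymp (BJ (F := F)) where
  add_left u v w := by simp [BJ, add_dotProduct]
  smul_left c v w := by simp [BJ, smul_dotProduct]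
  add_right u v w := by simp [BJ, mulVec_add, dotProduct_add]
  smul_right c v w := by simp [BJ, mulVec_smul, dotProduct_smul]
  alt := BJ_alt
  nondeg a ha := by
    apply dotProduct_eq_zero
    intro w
    have := ha (J (Fin 2) F *ᵥ w)
    rw [BJ, mulVec_mulVec, J_squared, neg_mulVec, one_mulVec, dotProduct_neg, neg_eq_zero] at this
    exact this

/-- symplectic matrices are isometries. -/
theorem BJ_invariant {G : Matrix (Fin 2 ⊕ Fin 2) (Fin 2 ⊕ Fin 2) F}
    (hG : G ∈ symplecticGroup (Fin 2) F) (v w : Fin 2 ⊕ Fin 2 → F) :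
    BJ (G *ᵥ v) (G *ᵥ w) = BJ v w := by
  have h := SymplecticGroup.mem_iff'.mp hG
  unfold BJ
  calc (G *ᵥ v) ⬝ᵥ (J (Fin 2) F *ᵥ (G *ᵥ w))
      = (v ᵥ* Gᵀ) ⬝ᵥ (J (Fin 2) F *ᵥ (G *ᵥ w)) := by rw [vecMul_transpose]
    _ = v ⬝ᵥ (Gᵀ *ᵥ (J (Fin 2) F *ᵥ (G *ᵥ w))) := (dotProduct_mulVec v Gᵀ _).symm
    _ = v ⬝ᵥ ((Gᵀ * J (Fin 2) F * G) *ᵥ w) := by rw [mulVec_mulVec, mulVec_mulVec]
    _ = v ⬝ᵥ (J (Fin 2) F *ᵥ w) := by rw [h]

end concrete

section real

set_option maxRecDepth 100000 in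
/-- every element of `SL₂(5)` is conjugate to its inverse. -/
theorem real_zmod5 : ∀ a b c d : ZMod 5, a * d - b * c = 1 →
    ∃ p q r s : ZMod 5, p * s - q * r = 1 ∧ p * a + q * c = d * p - b * r ∧
      p * b + q * d = d * q - b * s ∧ r * a + s * c = -c * p + a * r ∧
      r * b + s * d = -c * q + a * s := by decide

theorem real_SL {K : Type*} [Field K] [Fintype K] (hK : Fintype.card K = 5)
    (x : SpecialLinearGroup (Fin 2) K) :
    ∃ y : SpecialLinearGroup (Fin 2) K, y * x = x⁻¹ * y := by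
  let e : ZMod 5 ≃+* K := ZMod.ringEquivOfPrime K (by norm_num) hK
  have hdet : x.1 0 0 * x.1 1 1 - x.1 0 1 * x.1 1 0 = 1 := by
    have := x.2
    rwa [det_fin_two] at this
  have hdet' : e.symm (x.1 0 0) * e.symm (x.1 1 1) - e.symm (x.1 0 1) * e.symm (x.1 1 0) = 1 := by
    rw [← map_mul, ← map_mul, ← map_sub, hdet, map_one]
  obtain ⟨p, q, r, s, h1, h2, h3, h4, h5⟩ := real_zmod5 _ _ _ _ hdet'
  have e1 := congrArg e h1
  have e2 := congrArg e h2
  have e3 := congrArg e h3
  have e4 := congrArg e h4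
  have e5 := congrArg e h5
  simp only [map_sub, map_mul, map_add, map_neg, map_one, RingEquiv.apply_symm_apply]
    at e1 e2 e3 e4 e5
  obtain ⟨y, hy⟩ : ∃ y : SpecialLinearGroup (Fin 2) K,
      (y : Matrix (Fin 2) (Fin 2) K) = !![e p, e q; e r, e s] :=
    ⟨⟨_, by rw [det_fin_two_of]; exact e1⟩, rfl⟩
  refine ⟨y, ?_⟩
  have hmat : (↑(y * x) : Matrix (Fin 2) (Fin 2) K) = ↑(x⁻¹ * y) := by
    rw [Matrix.SpecialLinearGroup.coe_mul, Matrix.SpecialLinearGroup.coe_mul,
      Matrix.SpecialLinearGroup.coe_inv, hy,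
      adjugate_fin_two]
    ext i j
    fin_cases i <;> fin_cases j
    · simp [Matrix.mul_apply, Fin.sum_univ_two]
      linear_combination e2
    · simp [Matrix.mul_apply, Fin.sum_univ_two]
      linear_combination e3
    · simp [Matrix.mul_apply, Fin.sum_univ_two]
      linear_combination e4
    · simp [Matrix.mul_apply, Fin.sum_univ_two]
      linear_combination e5
  exact Subtype.ext hmat

end real

theorem result {F : Type*} [Field F] [Fintype F] (hF : Fintype.card F = 3)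
    {K : Type*} [Field K] [Fintype K] (hK : Fintype.card K = 5)
    (φ : Matrix.SpecialLinearGroup (Fin 2) K →* ↥(Matrix.symplecticGroup (Fin 2) F)) (hφ : Function.Injective φ)
    (x : Matrix.SpecialLinearGroup (Fin 2) K) (hx : orderOf x = 3) :
    Module.finrank F ↥(LinearMap.ker (Matrix.toLin' ((φ x : Matrix (Fin 2 ⊕ Fin 2) (Fin 2 ⊕ Fin 2) F)) - LinearMap.id)) = 2 ∧
      ∀ v w : Fin 2 ⊕ Fin 2 → F, (φ x : Matrix (Fin 2 ⊕ Fin 2) (Fin 2 ⊕ Fin 2) F).mulVec v = v →
        (φ x : Matrix (Fin 2 ⊕ Fin 2) (Fin 2 ⊕ Fin 2) F).mulVec w = w →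
          dotProduct v ((Matrix.J (Fin 2) F).mulVec w) = 0 := by
  classical
  obtain ⟨y, hy⟩ := real_SL hK x
  have h3F : (3 : F) = 0 := by
    have := FiniteField.cast_card_eq_zero F
    rw [hF] at this
    exact_mod_cast this
  have hsq : ∀ μ : F, μ * μ ≠ -1 := by
    intro μ hμ
    have h1 : μ ^ 3 = μ := by
      have := FiniteField.pow_card μ
      rwa [hF] at this
    have h2 : μ = -μ := by
      calc μ = μ ^ 3 := h1.symm
        _ = μ * (μ * μ) := by ring
        _ = -μ := by rw [hμ]; ring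
    have h4 : μ = 0 := by linear_combination μ * h3F - h2
    rw [h4] at hμ
    simp at hμ
  have hx3 : x * x * x = 1 := by
    have := pow_orderOf_eq_one x
    rw [hx] at this
    rw [← this]
    simp [pow_succ]
  have hx1 : x ≠ 1 := by
    rintro rfl
    rw [orderOf_one] at hx
    omega
  have hcoe : ∀ a b : ↥(symplecticGroup (Fin 2) F),
      ((a * b : ↥(symplecticGroup (Fin 2) F)) : Matrix (Fin 2 ⊕ Fin 2) (Fin 2 ⊕ Fin 2) F)
        = (a : Matrix (Fin 2 ⊕ Fin 2) (Fin 2 ⊕ Fin 2) F) * b := fun _ _ => rfl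
  have hcoe1 : ((1 : ↥(symplecticGroup (Fin 2) F)) : Matrix (Fin 2 ⊕ Fin 2) (Fin 2 ⊕ Fin 2) F)
      = 1 := rfl
  set G : Matrix (Fin 2 ⊕ Fin 2) (Fin 2 ⊕ Fin 2) F :=
    (φ x : Matrix (Fin 2 ⊕ Fin 2) (Fin 2 ⊕ Fin 2) F) with hGdef
  set Gi : Matrix (Fin 2 ⊕ Fin 2) (Fin 2 ⊕ Fin 2) F :=
    (φ x⁻¹ : Matrix (Fin 2 ⊕ Fin 2) (Fin 2 ⊕ Fin 2) F) with hGidef
  set H : Matrix (Fin 2 ⊕ Fin 2) (Fin 2 ⊕ Fin 2) F :=
    (φ y : Matrix (Fin 2 ⊕ Fin 2) (Fin 2 ⊕ Fin 2) F) with hHdef
  set Hi : Matrix (Fin 2 ⊕ Fin 2) (Fin 2 ⊕ Fin 2) F :=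
    (φ y⁻¹ : Matrix (Fin 2 ⊕ Fin 2) (Fin 2 ⊕ Fin 2) F) with hHidef
  have hG3 : G * G * G = 1 := by
    have : φ x * φ x * φ x = 1 := by rw [← map_mul, ← map_mul, hx3, map_one]
    have := congrArg Subtype.val this
    rwa [hcoe, hcoe] at this
  have hGiG : Gi * G = 1 := by
    have : φ x⁻¹ * φ x = 1 := by rw [← map_mul, inv_mul_cancel, map_one]
    have := congrArg Subtype.val this
    rwa [hcoe] at this
  have hHHi : H * Hi = 1 := by
    have : φ y * φ y⁻¹ = 1 := by rw [← map_mul, mul_inv_cancel, map_one]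
    have := congrArg Subtype.val this
    rwa [hcoe] at this
  have hHiH : Hi * H = 1 := by
    have : φ y⁻¹ * φ y = 1 := by rw [← map_mul, inv_mul_cancel, map_one]
    have := congrArg Subtype.val this
    rwa [hcoe] at this
  have hHG : H * G = Gi * H := by
    have : φ y * φ x = φ x⁻¹ * φ y := by rw [← map_mul, ← map_mul, hy]
    have := congrArg Subtype.val this
    rwa [hcoe, hcoe] at this
  have hV : finrank F (Fin 2 ⊕ Fin 2 → F) = 4 := by
    rw [Module.finrank_fintype_fun_eq_card]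
    rfl
  set n : (Fin 2 ⊕ Fin 2 → F) →ₗ[F] (Fin 2 ⊕ Fin 2 → F) := Matrix.toLin' G - LinearMap.id with hndef
  have hn : ∀ v, n v = G *ᵥ v - v := by
    intro v
    rw [hndef, LinearMap.sub_apply, toLin'_apply, LinearMap.id_apply]
  have hstar : ∀ v w, BJ (n v) w + BJ v (n w) + BJ (n v) (n w) = 0 := by
    intro v w
    have := BJ_invariant (φ x).2 v w
    rw [hn, hn]
    unfold BJ at *
    simp only [sub_dotProduct, dotProduct_sub, mulVec_sub]
    linear_combination this
  have hGGG : ∀ v, G *ᵥ (G *ᵥ (G *ᵥ v)) = v := by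
    intro v
    rw [mulVec_mulVec, mulVec_mulVec, hG3, one_mulVec]
  have hn3 : ∀ v, n (n (n v)) = 0 := by
    intro v
    simp only [hn, mulVec_sub, hGGG]
    ext i
    simp only [Pi.sub_apply, Pi.zero_apply]
    linear_combination ((G *ᵥ v) i - (G *ᵥ (G *ᵥ v)) i) * h3F
  have hn2 := sq_zero hV isSymp_BJ n hstar hn3
  have hGiGv : ∀ z, Gi *ᵥ (G *ᵥ z) = z := by
    intro z
    rw [mulVec_mulVec, hGiG, one_mulVec]
  have key : ∀ u, Gi *ᵥ u = u - (G *ᵥ u - u) := by
    intro u
    have h1 := hn2 u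
    rw [hn, hn] at h1
    have h2 := congrArg (fun z => Gi *ᵥ z) h1
    simp only [mulVec_sub, hGiGv, mulVec_zero] at h2
    ext i
    have := congrFun h2 i
    simp only [Pi.sub_apply, Pi.zero_apply] at this ⊢
    linear_combination this
  have hanti : ∀ v, (Matrix.toLin' H) (n v) = -n ((Matrix.toLin' H) v) := by
    intro v
    rw [toLin'_apply, toLin'_apply, hn, hn, mulVec_sub, mulVec_mulVec, hHG, ← mulVec_mulVec, key]
    ext i
    simp only [Pi.sub_apply, Pi.neg_apply]
    ring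
  have hhi : ∀ v, (Matrix.toLin' H) ((Matrix.toLin' Hi) v) = v := by
    intro v
    rw [toLin'_apply, toLin'_apply, mulVec_mulVec, hHHi, one_mulVec]
  have hih : ∀ v, (Matrix.toLin' Hi) ((Matrix.toLin' H) v) = v := by
    intro v
    rw [toLin'_apply, toLin'_apply, mulVec_mulVec, hHiH, one_mulVec]
  have hiso : ∀ v w, BJ ((Matrix.toLin' H) v) ((Matrix.toLin' H) w) = BJ v w := by
    intro v w
    rw [toLin'_apply, toLin'_apply]
    exact BJ_invariant (φ y).2 v w
  have hne : ∃ v, n v ≠ 0 := by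
    by_contra hcon
    push Not at hcon
    have hG1 : G = 1 := by
      apply mulVec_injective
      funext v
      have := hcon v
      rw [hn, sub_eq_zero] at this
      rw [this, one_mulVec]
    apply hx1
    apply hφ
    rw [map_one]
    exact Subtype.ext hG1
  have hr1 := rank_ne_one isSymp_BJ n hstar _ _ hhi hih hiso hanti hsq
  have final := final_abstract hV isSymp_BJ n hstar hn2 hne hr1
  refine ⟨final.1, ?_⟩
  intro v w hv hw
  exact final.2 v w (by rw [hn, hv, sub_self]) (by rw [hn, hw, sub_self])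

end Cfsg.Agent.S3213
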