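import Cfsg.Statements.S3215
import Mathlib
import Cfsg.Agent.S0636
import Cfsg.Agent.S1264
import Cfsg.Agent.Lib_helper1_Core
import Cfsg.Agent.Lib_helper19_Sylow
import Cfsg.Agent.Lib_helper7_PQ
import Cfsg.Agent.Lib_helper15_Gen5
import Cfsg.Agent.H16UniqueInvol

set_option autoImplicit false
set_option linter.style.haveILetI false
open Cfsg

namespace Cfsg.Agent.S3215

theorem odd_of_dvd {a b : ℕ} (h : a ∣ b) (hb : Odd b) : Odd a := by
  rw [← Nat.not_even_iff_odd, even_iff_two_dvd] at hb ⊢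
  exact fun h2 => hb (h2.trans h)

theorem pow_of_dvd_two_pow {a k : ℕ} (h : a ∣ 2 ^ k) : ∃ j : ℕ, a = 2 ^ j := by
  obtain ⟨j, _, hj⟩ := (Nat.dvd_prime_pow Nat.prime_two).mp h
  exact ⟨j, hj⟩

/-- An element killed by `n` lies in every normal subgroup of index prime to `n`. -/
theorem mem_of_pow_eq_one_of_coprime_index {G : Type*} [Group G] (N : Subgroup G) [N.Normal]
    (g : G) (n : ℕ) (hg : g ^ n = 1) (hcop : n.Coprime N.index) : g ∈ N := by
  have h1 : g ^ N.index ∈ N := Subgroup.pow_index_mem N g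
  have e1 : ((g : G ⧸ N)) ^ n = 1 := by rw [← QuotientGroup.mk_pow, hg]; rfl
  have e2 : ((g : G ⧸ N)) ^ N.index = 1 := by
    rw [← QuotientGroup.mk_pow]; exact (QuotientGroup.eq_one_iff _).mpr h1
  have e3 := pow_gcd_eq_one.mpr ⟨e1, e2⟩
  rw [Nat.Coprime.gcd_eq_one hcop, pow_one] at e3
  exact (QuotientGroup.eq_one_iff g).mp e3

theorem two_pow_order {H : Type*} [Group H] [Finite H] (y : H) (hy : y ∈ Cfsg.pCore 2 H) :
    ∃ m : ℕ, orderOf y = 2 ^ m := by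
  obtain ⟨m, hm⟩ := (IsPGroup.iff_orderOf.mp (helper1.pCore_isPGroup (G := H) 2)) ⟨y, hy⟩
  exact ⟨m, by rw [← hm, Subgroup.orderOf_mk]⟩

theorem eq_one_of_odd_two_pow {H : Type*} [Group H] (g : H) (h1 : Odd (orderOf g)) (m : ℕ)
    (h2 : orderOf g = 2 ^ m) : g = 1 := by
  rcases Nat.eq_zero_or_pos m with h0 | h0
  · rw [h0, pow_zero] at h2; exact orderOf_eq_one_iff.mp h2
  · exfalso
    rw [h2, ← Nat.not_even_iff_odd] at h1
    exact h1 ((Nat.even_pow' (by omega)).mpr even_two)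

theorem odd_order_of_mem {H : Type*} [Group H] [Finite H] (X : Subgroup H)
    (hXodd : Odd (Nat.card X)) (x : H) (hx : x ∈ X) : Odd (orderOf x) := by
  have h : orderOf (⟨x, hx⟩ : ↥X) ∣ Nat.card ↥X := orderOf_dvd_natCard _
  rw [Subgroup.orderOf_mk] at h
  exact odd_of_dvd h hXodd

theorem invol_pow {H : Type*} [Group H] (f : H) (m : ℕ) (hm : orderOf f = 2 ^ m) (hf : f ≠ 1) :
    orderOf (f ^ (orderOf f / 2)) = 2 := by
  have hm0 : m ≠ 0 := by
    rintro rfl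
    rw [pow_zero, orderOf_eq_one_iff] at hm
    exact hf hm
  have hd : 2 ∣ orderOf f := by rw [hm]; exact dvd_pow_self 2 hm0
  exact orderOf_pow_orderOf_div (by rw [hm]; positivity) hd

/-- Standing hypotheses. -/
structure Ctx (H : Type*) [Group H] [Finite H] (X : Subgroup H) : Prop where
  hI : ∀ t : H, orderOf t = 2 →
    Cfsg.HasNormalPComplement 2 ↥(Subgroup.centralizer ({t} : Set H))
  hXodd : Odd (Nat.card X)
  hCY : Subgroup.centralizer (Cfsg.pCore 2 H : Set H) ≤ Cfsg.pCore 2 H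

theorem lemmaA {H : Type*} [Group H] [Finite H]
    (hI : ∀ t : H, orderOf t = 2 →
      Cfsg.HasNormalPComplement 2 ↥(Subgroup.centralizer ({t} : Set H)))
    (t : H) (ht : orderOf t = 2) (x : H) (hxt : x * t = t * x) (hxo : Odd (orderOf x))
    (y : H) (hy : y ∈ Cfsg.pCore 2 H) (hyt : y * t = t * y) : x * y = y * x := by
  have : Fact (Nat.Prime 2) := ⟨Nat.prime_two⟩
  haveI hYn : (Cfsg.pCore 2 H).Normal := helper1.pCore_normal 2
  obtain ⟨P, K, hKn, hKP⟩ := hI t ht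
  haveI := hKn
  have hxC : x ∈ Subgroup.centralizer ({t} : Set H) := Subgroup.mem_centralizer_singleton_iff.mpr hxt
  have hyC : y ∈ Subgroup.centralizer ({t} : Set H) := Subgroup.mem_centralizer_singleton_iff.mpr hyt
  set x' : ↥(Subgroup.centralizer ({t} : Set H)) := ⟨x, hxC⟩ with hx'
  set y' : ↥(Subgroup.centralizer ({t} : Set H)) := ⟨y, hyC⟩ with hy'
  have hKidx : K.index = Nat.card (P : Subgroup ↥(Subgroup.centralizer ({t} : Set H))) :=
    hKP.symm.index_eq_card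
  obtain ⟨j, hj⟩ := P.2.exists_card_eq
  have hx'K : x' ∈ K := by
    apply mem_of_pow_eq_one_of_coprime_index K x' (orderOf x)
    · apply Subtype.ext
      rw [Subgroup.coe_pow, Subgroup.coe_one]
      exact pow_orderOf_eq_one x
    · rw [hKidx, hj]
      exact Nat.Coprime.pow_right j (Nat.coprime_two_right.mpr hxo)
  have hKodd : Odd (Nat.card K) := by
    have h1 : (P : Subgroup ↥(Subgroup.centralizer ({t} : Set H))).index = Nat.card K :=
      hKP.index_eq_card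
    rw [← h1, ← Nat.not_even_iff_odd, even_iff_two_dvd]
    exact P.not_dvd_index
  have hcK : x' * (y' * x'⁻¹ * y'⁻¹) ∈ K :=
    K.mul_mem hx'K (hKn.conj_mem x'⁻¹ (K.inv_mem hx'K) y')
  have hcY : x * (y * x⁻¹ * y⁻¹) ∈ Cfsg.pCore 2 H := by
    have : x * (y * x⁻¹ * y⁻¹) = (x * y * x⁻¹) * y⁻¹ := by group
    rw [this]
    exact Subgroup.mul_mem _ (hYn.conj_mem y hy x) (Subgroup.inv_mem _ hy)
  have hc1 : x * (y * x⁻¹ * y⁻¹) = 1 := by
    obtain ⟨m, hm⟩ := two_pow_order _ hcY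
    apply eq_one_of_odd_two_pow _ _ m hm
    have h1 : orderOf (⟨x' * (y' * x'⁻¹ * y'⁻¹), hcK⟩ : ↥K) ∣ Nat.card ↥K := orderOf_dvd_natCard _
    rw [Subgroup.orderOf_mk, ← Subgroup.orderOf_coe] at h1
    exact odd_of_dvd h1 hKodd
  calc x * y = (x * (y * x⁻¹ * y⁻¹)) * (y * x) := by group
    _ = y * x := by rw [hc1, one_mul]

theorem lemmaB {H : Type*} [Group H] [Finite H] {X : Subgroup H} (c : Ctx H X)
    (x : H) (hx : x ∈ X) (hx1 : x ≠ 1) (y : H) (hy : y ∈ Cfsg.pCore 2 H) (hy1 : y ≠ 1)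
    (hxy : x * y = y * x) : False := by
  have : Fact (Nat.Prime 2) := ⟨Nat.prime_two⟩
  have hxo := odd_order_of_mem X c.hXodd x hx
  obtain ⟨m, hm⟩ := two_pow_order y hy
  set t := y ^ (orderOf y / 2) with ht
  have hto : orderOf t = 2 := invol_pow y m hm hy1
  have htY : t ∈ Cfsg.pCore 2 H := Subgroup.pow_mem _ hy _
  have hxt : x * t = t * x := ((show Commute x y from hxy).pow_right _).eq
  haveI hYn : (Cfsg.pCore 2 H).Normal := helper1.pCore_normal 2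
  have key := helper7.thompson_PxQ (p := 2) (P := Subgroup.zpowers t) (Q := Subgroup.zpowers x)
    (U := Cfsg.pCore 2 H) ?_ ?_ (helper1.pCore_isPGroup 2) ?_ ?_ ?_ ?_
  · have hxC : x ∈ Subgroup.centralizer (Cfsg.pCore 2 H : Set H) := key (Subgroup.mem_zpowers x)
    have hxY := c.hCY hxC
    obtain ⟨m', hm'⟩ := two_pow_order x hxY
    exact hx1 (eq_one_of_odd_two_pow x hxo m' hm')
  · apply IsPGroup.of_card (n := 1)
    rw [Nat.card_zpowers, hto, pow_one]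
  · rw [Nat.card_zpowers]
    exact Nat.coprime_two_right.mpr hxo
  · rw [Subgroup.zpowers_le, Subgroup.mem_centralizer_iff]
    intro h hh
    obtain ⟨i, rfl⟩ := Subgroup.mem_zpowers_iff.mp hh
    exact ((show Commute x t from hxt).zpow_left i).eq
  · rw [Subgroup.normalizer_eq_top]; exact le_top
  · rw [Subgroup.normalizer_eq_top]; exact le_top
  · intro u hu
    rw [Subgroup.mem_inf] at hu
    obtain ⟨huY, huC⟩ := hu
    rw [Subgroup.mem_centralizer_iff] at huC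
    rw [Subgroup.mem_centralizer_iff]
    have hut : u * t = t * u := (huC t (Subgroup.mem_zpowers t)).symm
    have hxu := lemmaA c.hI t hto x hxt hxo u huY hut
    intro h hh
    obtain ⟨i, rfl⟩ := Subgroup.mem_zpowers_iff.mp hh
    exact ((show Commute x u from hxu).zpow_left i).eq

theorem lemmaC {H : Type*} [Group H] [Finite H] {X : Subgroup H} (c : Ctx H X)
    (t : H) (ht : orderOf t = 2) (z : H) (hz : z ∈ X) (hz1 : z ≠ 1) (hzt : z * t = t * z) :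
    False := by
  have : Fact (Nat.Prime 2) := ⟨Nat.prime_two⟩
  haveI hYn : (Cfsg.pCore 2 H).Normal := helper1.pCore_normal 2
  have hYbot : Cfsg.pCore 2 H ≠ ⊥ := by
    intro h
    have h1 := c.hCY
    rw [h] at h1
    have : z ∈ (⊥ : Subgroup H) := h1 (by
      rw [Subgroup.mem_centralizer_iff]
      intro h hh
      rw [SetLike.mem_coe, Subgroup.mem_bot] at hh
      rw [hh, one_mul, mul_one])
    exact hz1 (Subgroup.mem_bot.mp this)
  have hT₂p : IsPGroup 2 ↥(Subgroup.zpowers t ⊔ Cfsg.pCore 2 H) :=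
    IsPGroup.to_sup_of_normal_right
      (IsPGroup.of_card (n := 1) (by rw [Nat.card_zpowers, ht, pow_one]))
      (helper1.pCore_isPGroup 2)
  have hVbot : (Cfsg.pCore 2 H).subgroupOf (Subgroup.zpowers t ⊔ Cfsg.pCore 2 H) ≠ ⊥ := by
    intro h
    apply hYbot
    rw [Subgroup.subgroupOf_eq_bot] at h
    have := h.eq_bot
    rwa [inf_eq_left.mpr le_sup_right] at this
  obtain ⟨b, hbV, hbo, hbc⟩ := S0636.exists_central hT₂p
    ((Cfsg.pCore 2 H).subgroupOf (Subgroup.zpowers t ⊔ Cfsg.pCore 2 H)) hVbot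
  have hbY : (b : H) ∈ Cfsg.pCore 2 H := Subgroup.mem_subgroupOf.mp hbV
  have hb1 : (b : H) ≠ 1 := by
    intro h
    rw [← Subgroup.orderOf_coe, h, orderOf_one] at hbo
    omega
  have hbt : (b : H) * t = t * b := by
    have := hbc ⟨t, Subgroup.mem_sup_left (Subgroup.mem_zpowers t)⟩
    exact (congrArg Subtype.val this).symm
  have hzo := odd_order_of_mem X c.hXodd z hz
  have := lemmaA c.hI t ht z hzt hzo b hbY hbt
  exact lemmaB c z hz hz1 b hbY hb1 this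

theorem lemmaD {H : Type*} [Group H] [Finite H] {X : Subgroup H} (c : Ctx H X)
    (a : H) (haY : a ∉ Cfsg.pCore 2 H) (ha2 : a * a ∈ Cfsg.pCore 2 H)
    (z : H) (hz : z ∈ X) (hz1 : z ≠ 1) (hcomm : a * z * a⁻¹ * z⁻¹ ∈ Cfsg.pCore 2 H) : False := by
  haveI hYn : (Cfsg.pCore 2 H).Normal := helper1.pCore_normal 2
  have hmem : ∀ y : ↥(Cfsg.pCore 2 H), z⁻¹ * (y : H) * z * (y : H)⁻¹ ∈ Cfsg.pCore 2 H := by
    intro y
    have h1 : z⁻¹ * (y : H) * z ∈ Cfsg.pCore 2 H := by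
      have := hYn.conj_mem y y.2 z⁻¹
      rwa [inv_inv] at this
    exact Subgroup.mul_mem _ h1 (Subgroup.inv_mem _ y.2)
  let φ : ↥(Cfsg.pCore 2 H) → ↥(Cfsg.pCore 2 H) := fun y => ⟨z⁻¹ * (y : H) * z * (y : H)⁻¹, hmem y⟩
  have hφ : Function.Injective φ := by
    intro y₁ y₂ h
    have h' : z⁻¹ * (y₁ : H) * z * (y₁ : H)⁻¹ = z⁻¹ * (y₂ : H) * z * (y₂ : H)⁻¹ :=
      congrArg Subtype.val h
    by_contra hne
    have hu : (y₂ : H)⁻¹ * y₁ ∈ Cfsg.pCore 2 H :=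
      Subgroup.mul_mem _ (Subgroup.inv_mem _ y₂.2) y₁.2
    have hu1 : (y₂ : H)⁻¹ * y₁ ≠ 1 := by
      intro h1
      apply hne
      apply Subtype.ext
      exact (inv_mul_eq_one.mp h1).symm
    have h2 : (y₁ : H) * z * (y₁ : H)⁻¹ = y₂ * z * (y₂ : H)⁻¹ := by
      calc (y₁ : H) * z * (y₁ : H)⁻¹ = z * (z⁻¹ * (y₁ : H) * z * (y₁ : H)⁻¹) := by group
        _ = z * (z⁻¹ * (y₂ : H) * z * (y₂ : H)⁻¹) := by rw [h']
        _ = y₂ * z * (y₂ : H)⁻¹ := by group
    have hcomm' : z * ((y₂ : H)⁻¹ * y₁) = ((y₂ : H)⁻¹ * y₁) * z := by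
      calc z * ((y₂ : H)⁻¹ * y₁) = (y₂ : H)⁻¹ * (y₂ * z * (y₂ : H)⁻¹) * y₁ := by group
        _ = (y₂ : H)⁻¹ * ((y₁ : H) * z * (y₁ : H)⁻¹) * y₁ := by rw [h2]
        _ = ((y₂ : H)⁻¹ * y₁) * z := by group
    exact lemmaB c z hz hz1 _ hu hu1 hcomm'
  have hφs : Function.Surjective φ := Finite.injective_iff_surjective.mp hφ
  have hy₀ : z⁻¹ * (a * z * a⁻¹) ∈ Cfsg.pCore 2 H := by
    have : z⁻¹ * (a * z * a⁻¹) = z⁻¹ * (a * z * a⁻¹ * z⁻¹) * z⁻¹⁻¹ := by group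
    rw [this]
    exact hYn.conj_mem _ hcomm z⁻¹
  obtain ⟨y', hy'⟩ := hφs ⟨_, hy₀⟩
  have hy'' : z⁻¹ * (y' : H) * z * (y' : H)⁻¹ = z⁻¹ * (a * z * a⁻¹) := congrArg Subtype.val hy'
  have h3 : a * z * a⁻¹ = y' * z * (y' : H)⁻¹ := by
    calc a * z * a⁻¹ = z * (z⁻¹ * (a * z * a⁻¹)) := by group
      _ = z * (z⁻¹ * (y' : H) * z * (y' : H)⁻¹) := by rw [hy'']
      _ = y' * z * (y' : H)⁻¹ := by group
  have hfzf : ((y' : H)⁻¹ * a) * z * ((y' : H)⁻¹ * a)⁻¹ = z := by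
    calc ((y' : H)⁻¹ * a) * z * ((y' : H)⁻¹ * a)⁻¹ = (y' : H)⁻¹ * (a * z * a⁻¹) * y' := by group
      _ = (y' : H)⁻¹ * (y' * z * (y' : H)⁻¹) * y' := by rw [h3]
      _ = z := by group
  have hfz : ((y' : H)⁻¹ * a) * z = z * ((y' : H)⁻¹ * a) := by
    calc ((y' : H)⁻¹ * a) * z = (((y' : H)⁻¹ * a) * z * ((y' : H)⁻¹ * a)⁻¹) * ((y' : H)⁻¹ * a) := by
          group
      _ = z * ((y' : H)⁻¹ * a) := by rw [hfzf]
  have hfY : (y' : H)⁻¹ * a ∉ Cfsg.pCore 2 H := by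
    intro h
    apply haY
    have : a = y' * ((y' : H)⁻¹ * a) := by group
    rw [this]
    exact Subgroup.mul_mem _ y'.2 h
  have hf2 : ((y' : H)⁻¹ * a) * ((y' : H)⁻¹ * a) ∈ Cfsg.pCore 2 H := by
    have : ((y' : H)⁻¹ * a) * ((y' : H)⁻¹ * a) = (y' : H)⁻¹ * (a * (y' : H)⁻¹ * a⁻¹) * (a * a) := by
      group
    rw [this]
    exact Subgroup.mul_mem _ (Subgroup.mul_mem _ (Subgroup.inv_mem _ y'.2)
      (hYn.conj_mem _ (Subgroup.inv_mem _ y'.2) a)) ha2
  obtain ⟨j, hj⟩ := two_pow_order _ hf2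
  have hfo : orderOf ((y' : H)⁻¹ * a) ∣ 2 ^ (j + 1) := by
    apply orderOf_dvd_of_pow_eq_one
    rw [pow_succ', pow_mul, pow_two, ← hj, pow_orderOf_eq_one]
  obtain ⟨m, _, hm⟩ := (Nat.dvd_prime_pow Nat.prime_two).mp hfo
  have hf1 : (y' : H)⁻¹ * a ≠ 1 := fun h => hfY (h ▸ Subgroup.one_mem _)
  have hto := invol_pow _ m hm hf1
  have hzt : z * (((y' : H)⁻¹ * a) ^ (orderOf ((y' : H)⁻¹ * a) / 2)) =
      ((y' : H)⁻¹ * a) ^ (orderOf ((y' : H)⁻¹ * a) / 2) * z :=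
    ((show Commute z ((y' : H)⁻¹ * a) from hfz.symm).pow_right _).eq
  exact lemmaC c _ hto z hz hz1 hzt

theorem sylow_cyclic {H : Type*} [Group H] [Finite H] {X : Subgroup H} (c : Ctx H X)
    (p : ℕ) [Fact p.Prime] (P : Sylow p ↥X) : IsCyclic ↥(P : Subgroup ↥X) := by
  by_contra hnc
  have hp := (Fact.out : p.Prime)
  haveI hYn : (Cfsg.pCore 2 H).Normal := helper1.pCore_normal 2
  by_cases hp2 : p = 2
  · subst hp2
    apply hnc
    have h1 : Nat.card (P : Subgroup ↥X) ∣ Nat.card ↥X := Subgroup.card_subgroup_dvd_card _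
    obtain ⟨k, hk⟩ := P.2.exists_card_eq
    have h2 : Odd (2 ^ k) := hk ▸ odd_of_dvd h1 c.hXodd
    have hk0 : k = 0 := by
      by_contra h
      rw [← Nat.not_even_iff_odd] at h2
      exact h2 ((Nat.even_pow' h).mpr even_two)
    rw [hk0, pow_zero] at hk
    haveI : Subsingleton ↥(P : Subgroup ↥X) := (Nat.card_eq_one_iff_unique.mp hk).1
    exact isCyclic_of_subsingleton
  · have hnc' : ¬ IsCyclic ↥(⊤ : Subgroup ↥(P : Subgroup ↥X)) := fun h =>
      hnc (isCyclic_of_surjective Subgroup.topEquiv Subgroup.topEquiv.surjective)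
    obtain ⟨A₀, -, -, hA₀e, hA₀c⟩ := S0636.result hp2 P.isPGroup' ⊤ hnc'
    let j : ↥(P : Subgroup ↥X) →* H := X.subtype.comp (P : Subgroup ↥X).subtype
    have hj : Function.Injective j :=
      X.subtype_injective.comp (Subgroup.subtype_injective _)
    have hAcard : Nat.card ↥(A₀.map j) = p ^ 2 := by
      rw [← hA₀c]
      exact Nat.card_congr (A₀.equivMapOfInjective j hj).symm.toEquiv
    have hAX : A₀.map j ≤ X := by
      rintro _ ⟨a, _, rfl⟩
      exact (a.1).2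
    have hApow : ∀ a ∈ A₀.map j, a ^ p = 1 := by
      rintro _ ⟨a, ha, rfl⟩
      rw [← map_pow, hA₀e.2 a ha, map_one]
    haveI hAcomm : IsMulCommutative ↥(A₀.map j) := ⟨⟨by
      rintro ⟨_, a, ha, rfl⟩ ⟨_, b, hb, rfl⟩
      apply Subtype.ext
      show j a * j b = j b * j a
      rw [← map_mul, ← map_mul]
      congr 1
      exact congrArg Subtype.val (hA₀e.1.is_comm.comm (⟨a, ha⟩ : ↥A₀) ⟨b, hb⟩)⟩⟩
    have hAnc : ¬ IsCyclic ↥(A₀.map j) := by
      intro hcyc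
      obtain ⟨g, hg⟩ := hcyc.exists_generator
      have h1 : orderOf g = Nat.card ↥(A₀.map j) := orderOf_eq_card_of_forall_mem_zpowers hg
      have h2 : g ^ p = 1 := by
        apply Subtype.ext
        rw [Subgroup.coe_pow, Subgroup.coe_one]
        exact hApow g.1 g.2
      have h3 : orderOf g ∣ p := orderOf_dvd_of_pow_eq_one h2
      rw [h1, hAcard] at h3
      have h4 := Nat.le_of_dvd hp.pos h3
      have h5 := hp.one_lt
      nlinarith
    have hcop : (Nat.card ↥(A₀.map j)).Coprime (Nat.card ↥(Cfsg.pCore 2 H)) := by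
      have : Fact (Nat.Prime 2) := ⟨Nat.prime_two⟩
      obtain ⟨m, hm⟩ := (helper1.pCore_isPGroup (G := H) 2).exists_card_eq
      rw [hAcard, hm]
      exact Nat.Coprime.pow _ _ ((Nat.coprime_primes hp Nat.prime_two).mpr hp2)
    have hgen := helper15.iSup_centralizer_eq_of_not_isCyclic (A₀.map j) (Cfsg.pCore 2 H) hAnc
      (by rw [Subgroup.normalizer_eq_top]; exact le_top) hcop
    have hbot : (⨆ a ∈ {a : H | a ∈ A₀.map j ∧ a ≠ 1},
        Cfsg.pCore 2 H ⊓ Subgroup.centralizer {a}) = ⊥ := by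
      rw [eq_bot_iff]
      apply iSup₂_le
      intro a ha y hy
      rw [Subgroup.mem_bot]
      by_contra hy1
      rw [Subgroup.mem_inf] at hy
      obtain ⟨hyY, hyC⟩ := hy
      have h1 := Subgroup.mem_centralizer_singleton_iff.mp hyC
      exact lemmaB c a (hAX ha.1) ha.2 y hyY hy1 h1.symm
    rw [hbot] at hgen
    have h1 := c.hCY
    rw [← hgen] at h1
    have hAbot : A₀.map j ≤ ⊥ := fun a _ => h1 (by
      rw [Subgroup.mem_centralizer_iff]
      intro h hh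
      rw [SetLike.mem_coe, Subgroup.mem_bot] at hh
      rw [hh, one_mul, mul_one])
    have h2 : Nat.card ↥(A₀.map j) = 1 := by
      rw [le_bot_iff.mp hAbot]; exact Subgroup.card_bot
    rw [hAcard] at h2
    have h5 := hp.one_lt
    nlinarith

/-- Commutators centralize cyclic normal subgroups. -/
theorem comm_centralizes_cyclic {G : Type*} [Group G] (C : Subgroup G) [C.Normal]
    [hc : IsCyclic ↥C] (g h : G) :
    ∀ c ∈ C, (g * h * g⁻¹ * h⁻¹) * c = c * (g * h * g⁻¹ * h⁻¹) := by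
  intro c hcC
  have hcomm : ∀ φ ψ : MulAut ↥C, φ * ψ = ψ * φ := by
    intro φ ψ
    apply (IsCyclic.mulAutMulEquiv ↥C).injective
    rw [map_mul, map_mul, mul_comm]
  have h1 : (MulAut.conjNormal (g * h * g⁻¹ * h⁻¹) : MulAut ↥C) = 1 := by
    rw [map_mul, map_mul, map_mul, map_inv, map_inv,
      hcomm (MulAut.conjNormal g) (MulAut.conjNormal h)]
    group
  have h2 := congrArg (fun φ : MulAut ↥C => ((φ ⟨c, hcC⟩ : ↥C) : G)) h1
  simp only [MulAut.conjNormal_apply, MulAut.one_apply] at h2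
  calc (g * h * g⁻¹ * h⁻¹) * c
      = ((g * h * g⁻¹ * h⁻¹) * c * (g * h * g⁻¹ * h⁻¹)⁻¹) * (g * h * g⁻¹ * h⁻¹) := by group
    _ = c * (g * h * g⁻¹ * h⁻¹) := by rw [h2]

/-- Facts about the quotient by `O₂`. -/
theorem quot_facts {H : Type*} [Group H] [Finite H] (hsol : Group.IsSolvable H)
    [hYn : (Cfsg.pCore 2 H).Normal] (X : Subgroup H)
    (hXodd : Odd (Nat.card X)) (hXidx : ∃ k : ℕ, X.index = 2 ^ k) :
    Cfsg.fittingSubgroup (H ⧸ Cfsg.pCore 2 H) ≤ X.map (QuotientGroup.mk' (Cfsg.pCore 2 H)) ∧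
    Subgroup.centralizer (Cfsg.fittingSubgroup (H ⧸ Cfsg.pCore 2 H) : Set (H ⧸ Cfsg.pCore 2 H)) ≤
      Cfsg.fittingSubgroup (H ⧸ Cfsg.pCore 2 H) := by
  have : Fact (Nat.Prime 2) := ⟨Nat.prime_two⟩
  set R : Subgroup H := Cfsg.pCore 2 H with hRdef
  have hR2 : IsPGroup 2 R := helper1.pCore_isPGroup 2
  obtain ⟨k, hk⟩ := hXidx
  set π : H →* H ⧸ R := QuotientGroup.mk' R with hπ
  have hπs : Function.Surjective π := QuotientGroup.mk'_surjective R
  have hker : π.ker = R := QuotientGroup.ker_mk' R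
  set Db : Subgroup (H ⧸ R) := X.map π with hDb
  obtain ⟨j, hj⟩ : ∃ j : ℕ, Db.index = 2 ^ j := by
    have h1 := Subgroup.index_map_dvd X hπs
    rw [hk] at h1
    exact pow_of_dvd_two_pow h1
  have hDbodd : Odd (Nat.card Db) := odd_of_dvd (Subgroup.card_map_dvd X π) hXodd
  have hO2 : Cfsg.pCore 2 (H ⧸ R) = ⊥ := by
    set T := Cfsg.pCore 2 (H ⧸ R) with hT
    have hTn : T.Normal := helper1.pCore_normal 2
    have hT2 : IsPGroup 2 T := helper1.pCore_isPGroup 2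
    have h1 : IsPGroup 2 (T.comap π) := by
      apply hT2.comap_of_ker_isPGroup
      rw [hker]; exact hR2
    have h2 : T.comap π ≤ R := helper1.le_pCore (hTn.comap π) h1
    have h3 : T = (T.comap π).map π := (Subgroup.map_comap_eq_self_of_surjective hπs T).symm
    rw [h3, eq_bot_iff]
    calc (T.comap π).map π ≤ R.map π := Subgroup.map_mono h2
      _ = ⊥ := by rw [hπ, QuotientGroup.map_mk'_self]
  have hFle : Cfsg.fittingSubgroup (H ⧸ R) ≤ Cfsg.pPrimeCore 2 (H ⧸ R) := by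
    rw [helper1.fitting_eq_iSup_pCore]
    apply iSup_le
    intro p
    by_cases hp2 : (p : ℕ) = 2
    · rw [hp2, hO2]; exact bot_le
    · exact helper1.le_pPrimeCore (helper1.pCore_normal _)
        (helper1.coprime_card_of_isPGroup_ne Nat.prime_two p.2 hp2 (helper1.pCore_isPGroup _))
  have hKle : Cfsg.pPrimeCore 2 (H ⧸ R) ≤ Db := by
    set K := Cfsg.pPrimeCore 2 (H ⧸ R) with hK
    haveI hKn : K.Normal := helper1.pPrimeCore_normal 2
    have hKodd : Odd (Nat.card K) := by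
      have := helper1.pPrimeCore_coprime (G := H ⧸ R) 2
      rw [Nat.coprime_comm, Nat.coprime_two_left] at this
      exact this
    have h1 : Db.relIndex K = Db.relIndex (Db ⊔ K) := by
      rw [← Subgroup.inf_relIndex_right]
      exact Cfsg.Agent.helper19.relIndex_inf_normal Db K
    have h2 : Db.relIndex (Db ⊔ K) ∣ Db.index := Subgroup.relIndex_dvd_index_of_le le_sup_left
    have h3 : Db.relIndex K ∣ Nat.card K := Subgroup.relIndex_dvd_card Db K
    rw [← h1, hj] at h2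
    obtain ⟨i, hi⟩ := pow_of_dvd_two_pow h2
    have h4 : Odd (Db.relIndex K) := odd_of_dvd h3 hKodd
    have h5 : Db.relIndex K = 1 := by
      rcases Nat.eq_zero_or_pos i with h0 | h0
      · rw [hi, h0, pow_zero]
      · exfalso
        rw [hi, ← Nat.not_even_iff_odd] at h4
        exact h4 ((Nat.even_pow' (by omega)).mpr even_two)
    exact Subgroup.relIndex_eq_one.mp h5
  refine ⟨hFle.trans hKle, ?_⟩
  have h1 := Cfsg.Agent.S1264.result
    (Subgroup.centralizer (Cfsg.fittingSubgroup (H ⧸ R) : Set (H ⧸ R)))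
    le_rfl Subgroup.le_normalizer inferInstance
  exact h1.trans (Subgroup.map_subtype_le _)

theorem comm_mem {H : Type*} [Group H] [Finite H] (hsol : Group.IsSolvable H) {X : Subgroup H}
    (c : Ctx H X) [hYn : (Cfsg.pCore 2 H).Normal] (hXidx : ∃ k : ℕ, X.index = 2 ^ k)
    (g h : H ⧸ Cfsg.pCore 2 H) :
    g * h * g⁻¹ * h⁻¹ ∈ X.map ((QuotientGroup.mk' (Cfsg.pCore 2 H))) := by
  have : Fact (Nat.Prime 2) := ⟨Nat.prime_two⟩
  obtain ⟨hFX, hCF⟩ := quot_facts hsol X c.hXodd hXidx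
  have hker : ((QuotientGroup.mk' (Cfsg.pCore 2 H))).ker = Cfsg.pCore 2 H := QuotientGroup.ker_mk' _
  have hXY : ∀ x ∈ X, x ∈ Cfsg.pCore 2 H → x = 1 := by
    intro x hx hxY
    obtain ⟨m, hm⟩ := two_pow_order x hxY
    exact eq_one_of_odd_two_pow x (odd_order_of_mem X c.hXodd x hx) m hm
  have hQcyc : ∀ q : Nat.Primes, IsCyclic ↥(Cfsg.pCore (q : ℕ) (H ⧸ Cfsg.pCore 2 H)) := by
    intro q
    haveI : Fact (q : ℕ).Prime := ⟨q.2⟩
    have hQbF : Cfsg.pCore (q : ℕ) (H ⧸ Cfsg.pCore 2 H) ≤ Cfsg.fittingSubgroup (H ⧸ Cfsg.pCore 2 H) :=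
      helper1.pCore_le_fitting q
    have hQbp : IsPGroup q ↥(Cfsg.pCore (q : ℕ) (H ⧸ Cfsg.pCore 2 H)) := helper1.pCore_isPGroup q
    set Q' : Subgroup ↥X := ((Cfsg.pCore (q : ℕ) (H ⧸ Cfsg.pCore 2 H)).comap (QuotientGroup.mk' (Cfsg.pCore 2 H))).subgroupOf X with hQ'
    have hQ'mem : ∀ x : ↥X, x ∈ Q' ↔ (QuotientGroup.mk' (Cfsg.pCore 2 H)) x.1 ∈ Cfsg.pCore (q : ℕ) (H ⧸ Cfsg.pCore 2 H) := by
      intro x
      rw [hQ', Subgroup.mem_subgroupOf, Subgroup.mem_comap]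
    have hQ'p : IsPGroup q ↥Q' := by
      intro x
      obtain ⟨k, hk⟩ := hQbp ⟨(QuotientGroup.mk' (Cfsg.pCore 2 H)) x.1.1, (hQ'mem x.1).mp x.2⟩
      refine ⟨k, ?_⟩
      have h1 : (QuotientGroup.mk' (Cfsg.pCore 2 H)) (x.1.1 ^ (q : ℕ) ^ k) = 1 := by
        rw [map_pow]; exact congrArg Subtype.val hk
      have h2 : x.1.1 ^ (q : ℕ) ^ k ∈ Cfsg.pCore 2 H := by rw [← hker]; exact h1
      have h3 : x.1.1 ^ (q : ℕ) ^ k ∈ X := X.pow_mem x.1.2 _
      have h4 := hXY _ h3 h2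
      apply Subtype.ext
      apply Subtype.ext
      rw [Subgroup.coe_pow, Subgroup.coe_pow, Subgroup.coe_one, Subgroup.coe_one]
      exact h4
    obtain ⟨Pq, hPq⟩ := hQ'p.exists_le_sylow
    haveI := sylow_cyclic c q Pq
    haveI hQ'cyc : IsCyclic ↥Q' := by
      have : IsCyclic ↥(Q'.subgroupOf (Pq : Subgroup ↥X)) := inferInstance
      exact isCyclic_of_surjective (Subgroup.subgroupOfEquivOfLe hPq)
        (Subgroup.subgroupOfEquivOfLe hPq).surjective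
    let f : ↥Q' →* ↥(Cfsg.pCore (q : ℕ) (H ⧸ Cfsg.pCore 2 H)) :=
      MonoidHom.codRestrict (((QuotientGroup.mk' (Cfsg.pCore 2 H)).comp X.subtype).comp Q'.subtype) _
        (fun x => (hQ'mem x.1).mp x.2)
    have hf : Function.Surjective f := by
      rintro ⟨yb, hyb⟩
      obtain ⟨x, hxX, hxy⟩ := hFX (hQbF hyb)
      refine ⟨⟨⟨x, hxX⟩, (hQ'mem _).mpr (by rw [hxy]; exact hyb)⟩, Subtype.ext hxy⟩
    exact isCyclic_of_surjective f hf
  have hkC : g * h * g⁻¹ * h⁻¹ ∈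
      Subgroup.centralizer (Cfsg.fittingSubgroup (H ⧸ Cfsg.pCore 2 H) : Set (H ⧸ Cfsg.pCore 2 H)) := by
    rw [Subgroup.mem_centralizer_iff]
    have hle : Cfsg.fittingSubgroup (H ⧸ Cfsg.pCore 2 H) ≤ Subgroup.centralizer {g * h * g⁻¹ * h⁻¹} := by
      rw [helper1.fitting_eq_iSup_pCore]
      apply iSup_le
      intro q
      haveI := hQcyc q
      haveI : (Cfsg.pCore (q : ℕ) (H ⧸ Cfsg.pCore 2 H)).Normal := helper1.pCore_normal _
      intro w hw
      rw [Subgroup.mem_centralizer_singleton_iff]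
      exact (comm_centralizes_cyclic (Cfsg.pCore (q : ℕ) (H ⧸ Cfsg.pCore 2 H)) g h w hw).symm
    intro f hf
    exact Subgroup.mem_centralizer_singleton_iff.mp (hle hf)
  exact hFX (hCF hkC)

theorem map_normal {H : Type*} [Group H] [Finite H] (hsol : Group.IsSolvable H) {X : Subgroup H}
    (c : Ctx H X) [hYn : (Cfsg.pCore 2 H).Normal] (hXidx : ∃ k : ℕ, X.index = 2 ^ k) :
    (X.map (QuotientGroup.mk' (Cfsg.pCore 2 H))).Normal := by
  constructor
  intro x hx g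
  have h1 := comm_mem hsol c hXidx g x
  have : g * x * g⁻¹ = (g * x * g⁻¹ * x⁻¹) * x := by group
  rw [this]
  exact Subgroup.mul_mem _ h1 hx

theorem sup_eq_comap {H : Type*} [Group H] (X : Subgroup H) [hYn : (Cfsg.pCore 2 H).Normal] :
    X ⊔ Cfsg.pCore 2 H =
      (X.map (QuotientGroup.mk' (Cfsg.pCore 2 H))).comap (QuotientGroup.mk' (Cfsg.pCore 2 H)) := by
  rw [Subgroup.comap_map_eq, QuotientGroup.ker_mk']

theorem normal_sup {H : Type*} [Group H] [Finite H] (hsol : Group.IsSolvable H) {X : Subgroup H}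
    (c : Ctx H X) (hXidx : ∃ k : ℕ, X.index = 2 ^ k) : (X ⊔ Cfsg.pCore 2 H).Normal := by
  haveI hYn : (Cfsg.pCore 2 H).Normal := helper1.pCore_normal 2
  rw [sup_eq_comap]
  exact (map_normal hsol c hXidx).comap _

theorem quotient_cyclic {H : Type*} [Group H] [Finite H] (hsol : Group.IsSolvable H)
    {X : Subgroup H} (c : Ctx H X) (hXidx : ∃ k : ℕ, X.index = 2 ^ k)
    (hN : (X ⊔ Cfsg.pCore 2 H).Normal) :
    IsCyclic (H ⧸ (X ⊔ Cfsg.pCore 2 H)) ∧ IsPGroup 2 (H ⧸ (X ⊔ Cfsg.pCore 2 H)) := by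
  have : Fact (Nat.Prime 2) := ⟨Nat.prime_two⟩
  haveI hYn : (Cfsg.pCore 2 H).Normal := helper1.pCore_normal 2
  obtain ⟨hFX, hCF⟩ := quot_facts hsol X c.hXodd hXidx
  haveI hXbn := map_normal hsol c hXidx
  have hMeq := sup_eq_comap X
  have hker : (QuotientGroup.mk' (Cfsg.pCore 2 H)).ker = Cfsg.pCore 2 H := QuotientGroup.ker_mk' _
  have hmemM : ∀ g : H, g ∈ X ⊔ Cfsg.pCore 2 H ↔
      QuotientGroup.mk' (Cfsg.pCore 2 H) g ∈ X.map (QuotientGroup.mk' (Cfsg.pCore 2 H)) := by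
    intro g
    rw [hMeq, Subgroup.mem_comap]
  have hP : IsPGroup 2 (H ⧸ (X ⊔ Cfsg.pCore 2 H)) := by
    obtain ⟨k, hk⟩ := hXidx
    have h1 : (X ⊔ Cfsg.pCore 2 H).index ∣ X.index := Subgroup.index_dvd_of_le le_sup_left
    rw [hk] at h1
    obtain ⟨j, hj⟩ := pow_of_dvd_two_pow h1
    apply IsPGroup.of_card (n := j)
    rw [← hj]
    rfl
  refine ⟨?_, hP⟩
  have hcomm : ∀ a b : H ⧸ (X ⊔ Cfsg.pCore 2 H), a * b = b * a := by
    intro a b
    obtain ⟨a, rfl⟩ := QuotientGroup.mk_surjective a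
    obtain ⟨b, rfl⟩ := QuotientGroup.mk_surjective b
    rw [← QuotientGroup.mk_mul, ← QuotientGroup.mk_mul, QuotientGroup.eq, hmemM]
    have h1 := comm_mem hsol c hXidx (QuotientGroup.mk' (Cfsg.pCore 2 H) b⁻¹)
      (QuotientGroup.mk' (Cfsg.pCore 2 H) a⁻¹)
    have h2 : QuotientGroup.mk' (Cfsg.pCore 2 H) ((a * b)⁻¹ * (b * a)) =
        QuotientGroup.mk' (Cfsg.pCore 2 H) b⁻¹ * QuotientGroup.mk' (Cfsg.pCore 2 H) a⁻¹ *
          (QuotientGroup.mk' (Cfsg.pCore 2 H) b⁻¹)⁻¹ *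
          (QuotientGroup.mk' (Cfsg.pCore 2 H) a⁻¹)⁻¹ := by
      rw [← map_inv, ← map_inv, ← map_mul, ← map_mul, ← map_mul]
      congr 1
      group
    rw [h2]
    exact h1
  -- every element of `M` raised to `|X|` lies in `Y`
  have hpowY : ∀ m ∈ X ⊔ Cfsg.pCore 2 H, m ^ Nat.card X ∈ Cfsg.pCore 2 H := by
    intro m hm
    have h1 := (hmemM m).mp hm
    have h2 : (⟨_, h1⟩ : ↥(X.map (QuotientGroup.mk' (Cfsg.pCore 2 H)))) ^
        Nat.card ↥(X.map (QuotientGroup.mk' (Cfsg.pCore 2 H))) = 1 := pow_card_eq_one'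
    have h3 : (QuotientGroup.mk' (Cfsg.pCore 2 H) m) ^
        Nat.card ↥(X.map (QuotientGroup.mk' (Cfsg.pCore 2 H))) = 1 := by
      have := congrArg Subtype.val h2
      rwa [Subgroup.coe_pow, Subgroup.coe_one] at this
    obtain ⟨d, hd⟩ := Subgroup.card_map_dvd X (QuotientGroup.mk' (Cfsg.pCore 2 H))
    rw [← hker, MonoidHom.mem_ker, map_pow, hd, pow_mul, h3, one_pow]
  -- lifting involutions
  have lift : ∀ ah : H ⧸ (X ⊔ Cfsg.pCore 2 H), ah * ah = 1 → ah ≠ 1 →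
      ∃ a : H, (a : H ⧸ (X ⊔ Cfsg.pCore 2 H)) = ah ∧ a ∉ Cfsg.pCore 2 H ∧
        a * a ∈ Cfsg.pCore 2 H := by
    intro ah h2 h1
    obtain ⟨a₀, rfl⟩ := QuotientGroup.mk_surjective ah
    have hmk : ((a₀ ^ Nat.card X : H) : H ⧸ (X ⊔ Cfsg.pCore 2 H)) = (a₀ : H ⧸ (X ⊔ Cfsg.pCore 2 H)) := by
      obtain ⟨k, hk⟩ := c.hXodd
      rw [QuotientGroup.mk_pow, hk, pow_succ, pow_mul, pow_two, h2, one_pow, one_mul]
    refine ⟨a₀ ^ Nat.card X, hmk, ?_, ?_⟩
    · intro hY'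
      apply h1
      rw [← hmk]
      exact (QuotientGroup.eq_one_iff _).mpr (le_sup_right (a := X) hY')
    · have hm : a₀ * a₀ ∈ X ⊔ Cfsg.pCore 2 H := by
        rw [← QuotientGroup.eq_one_iff, QuotientGroup.mk_mul]
        exact h2
      have : a₀ ^ Nat.card X * a₀ ^ Nat.card X = (a₀ * a₀) ^ Nat.card X := by
        rw [← pow_two, ← pow_two, ← pow_mul, ← pow_mul, mul_comm]
      rw [this]
      exact hpowY _ hm
  -- involutions of the quotient by `Y` invert the image of `X`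
  have hinv : ∀ a : H, a ∉ Cfsg.pCore 2 H → a * a ∈ Cfsg.pCore 2 H →
      ∀ v ∈ X.map (QuotientGroup.mk' (Cfsg.pCore 2 H)),
        QuotientGroup.mk' (Cfsg.pCore 2 H) a * v * (QuotientGroup.mk' (Cfsg.pCore 2 H) a)⁻¹ = v⁻¹ := by
    intro a haY ha2
    set α := QuotientGroup.mk' (Cfsg.pCore 2 H) a with hα
    have hαα : α * α = 1 := by
      rw [hα, ← map_mul, ← MonoidHom.mem_ker, hker]
      exact ha2
    have hαinv : α⁻¹ = α := inv_eq_of_mul_eq_one_left hαα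
    let ψ : ↥(X.map (QuotientGroup.mk' (Cfsg.pCore 2 H))) →
        ↥(X.map (QuotientGroup.mk' (Cfsg.pCore 2 H))) := fun v =>
      ⟨(v : H ⧸ Cfsg.pCore 2 H)⁻¹ * (α * v * α⁻¹),
        Subgroup.mul_mem _ (Subgroup.inv_mem _ v.2) (hXbn.conj_mem v v.2 α)⟩
    have hψ : Function.Injective ψ := by
      intro v w hvw
      have h' : (v : H ⧸ Cfsg.pCore 2 H)⁻¹ * (α * v * α⁻¹) =
          (w : H ⧸ Cfsg.pCore 2 H)⁻¹ * (α * w * α⁻¹) := congrArg Subtype.val hvw
      -- u = w v⁻¹ is fixed by α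
      have hu : α * ((w : H ⧸ Cfsg.pCore 2 H) * (v : H ⧸ Cfsg.pCore 2 H)⁻¹) * α⁻¹ =
          (w : H ⧸ Cfsg.pCore 2 H) * (v : H ⧸ Cfsg.pCore 2 H)⁻¹ := by
        calc α * ((w : H ⧸ Cfsg.pCore 2 H) * (v : H ⧸ Cfsg.pCore 2 H)⁻¹) * α⁻¹
            = (α * w * α⁻¹) * (α * v * α⁻¹)⁻¹ := by group
          _ = (w * ((w : H ⧸ Cfsg.pCore 2 H)⁻¹ * (α * w * α⁻¹))) * (α * v * α⁻¹)⁻¹ := by group
          _ = (w * ((v : H ⧸ Cfsg.pCore 2 H)⁻¹ * (α * v * α⁻¹))) * (α * v * α⁻¹)⁻¹ := by rw [h']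
          _ = (w : H ⧸ Cfsg.pCore 2 H) * (v : H ⧸ Cfsg.pCore 2 H)⁻¹ := by group
      have huX : (w : H ⧸ Cfsg.pCore 2 H) * (v : H ⧸ Cfsg.pCore 2 H)⁻¹ ∈
          X.map (QuotientGroup.mk' (Cfsg.pCore 2 H)) :=
        Subgroup.mul_mem _ w.2 (Subgroup.inv_mem _ v.2)
      obtain ⟨z, hzX, hzu⟩ := huX
      by_cases hz1 : z = 1
      · rw [hz1, map_one] at hzu
        apply Subtype.ext
        have := mul_inv_eq_one.mp hzu.symm
        exact this.symm
      · exfalso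
        apply lemmaD c a haY ha2 z hzX hz1
        rw [← hker, MonoidHom.mem_ker, map_mul, map_mul, map_mul, map_inv, map_inv, hzu, ← hα, hu,
          mul_inv_cancel]
    have hψs : Function.Surjective ψ := Finite.injective_iff_surjective.mp hψ
    intro v hv
    obtain ⟨w, hw⟩ := hψs ⟨v, hv⟩
    have hw' : (w : H ⧸ Cfsg.pCore 2 H)⁻¹ * (α * w * α⁻¹) = v := congrArg Subtype.val hw
    rw [← hw']
    have e1 : α * ((w : H ⧸ Cfsg.pCore 2 H)⁻¹ * (α * w * α⁻¹)) * α⁻¹ =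
        (α * (w : H ⧸ Cfsg.pCore 2 H)⁻¹ * α⁻¹) * ((α * α) * w * (α * α)⁻¹) := by group
    rw [e1, hαα]
    group
  apply @H16UniqueInvol.isCyclic_of_comm (H ⧸ (X ⊔ Cfsg.pCore 2 H))
    { (inferInstance : Group (H ⧸ (X ⊔ Cfsg.pCore 2 H))) with mul_comm := hcomm } _ hP
  intro ah bh hah hbh hah1 hbh1
  obtain ⟨a, rfl, haY, ha2⟩ := lift ah hah hah1
  obtain ⟨b, rfl, hbY, hb2⟩ := lift bh hbh hbh1
  -- π(ab) centralizes the image of X
  have hcent : QuotientGroup.mk' (Cfsg.pCore 2 H) (a * b) ∈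
      Subgroup.centralizer (X.map (QuotientGroup.mk' (Cfsg.pCore 2 H)) : Set (H ⧸ Cfsg.pCore 2 H)) := by
    rw [Subgroup.mem_centralizer_iff]
    intro v hv
    have h1 := hinv b hbY hb2 v hv
    have h2 := hinv a haY ha2 v⁻¹ (Subgroup.inv_mem _ hv)
    rw [inv_inv] at h2
    rw [map_mul]
    calc v * (QuotientGroup.mk' (Cfsg.pCore 2 H) a * QuotientGroup.mk' (Cfsg.pCore 2 H) b)
        = (QuotientGroup.mk' (Cfsg.pCore 2 H) a * v⁻¹ * (QuotientGroup.mk' (Cfsg.pCore 2 H) a)⁻¹) *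
          (QuotientGroup.mk' (Cfsg.pCore 2 H) a * QuotientGroup.mk' (Cfsg.pCore 2 H) b) := by rw [h2]
      _ = QuotientGroup.mk' (Cfsg.pCore 2 H) a *
          ((QuotientGroup.mk' (Cfsg.pCore 2 H) b * v * (QuotientGroup.mk' (Cfsg.pCore 2 H) b)⁻¹) *
            QuotientGroup.mk' (Cfsg.pCore 2 H) b) := by rw [h1]; group
      _ = QuotientGroup.mk' (Cfsg.pCore 2 H) a * QuotientGroup.mk' (Cfsg.pCore 2 H) b * v := by group
  have habM : a * b ∈ X ⊔ Cfsg.pCore 2 H := by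
    rw [hmemM]
    exact hFX (hCF (Subgroup.centralizer_le hFX hcent))
  have h1 : (a : H ⧸ (X ⊔ Cfsg.pCore 2 H)) * (b : H ⧸ (X ⊔ Cfsg.pCore 2 H)) = 1 := by
    rw [← QuotientGroup.mk_mul]
    exact (QuotientGroup.eq_one_iff _).mpr habM
  calc (a : H ⧸ (X ⊔ Cfsg.pCore 2 H)) = a * (b * b) := by rw [hbh, mul_one]
    _ = (a * b) * b := by rw [mul_assoc]
    _ = b := by rw [h1, one_mul]

/-- Let H be a finite solvable group with no nontrivial normal subgroup of odd order in which the centralizer of every involution has a normal 2-complement. Let X be a Hall 2'-subgroup of H (odd order, index a power of 2) and Y = O₂(H). Then no non-identity element of X commutes with a non-identity element of Y (so for X ≠ 1 the group XY is a Frobenius group with kernel Y), every Sylow subgroup of X is cyclic, XY is normal in H, and H/XY is a cyclic 2-group. -/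
theorem result {H : Type*} [Group H] [Finite H] (hsol : Group.IsSolvable H)
    (hO : Cfsg.oddCore H = ⊥)
    (hI : ∀ t : H, orderOf t = 2 → Cfsg.HasNormalPComplement 2 ↥(Subgroup.centralizer ({t} : Set H)))
    (X : Subgroup H) (hXodd : Odd (Nat.card X)) (hXidx : ∃ k : ℕ, X.index = 2 ^ k) :
    (∀ x ∈ X, x ≠ 1 → ∀ y ∈ Cfsg.pCore 2 H, y ≠ 1 → x * y ≠ y * x) ∧
      (∀ (p : ℕ) [Fact p.Prime] (P : Sylow p ↥X), IsCyclic ↥(P : Subgroup ↥X)) ∧
      (X ⊔ Cfsg.pCore 2 H).Normal ∧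
      ∀ hN : (X ⊔ Cfsg.pCore 2 H).Normal, IsCyclic (H ⧸ (X ⊔ Cfsg.pCore 2 H)) ∧ IsPGroup 2 (H ⧸ (X ⊔ Cfsg.pCore 2 H)) := by
  have : Fact (Nat.Prime 2) := ⟨Nat.prime_two⟩
  have hF : Cfsg.fittingSubgroup H = Cfsg.pCore 2 H := by
    apply le_antisymm
    · rw [helper1.fitting_eq_iSup_pCore]
      apply iSup_le
      intro p
      by_cases hp2 : (p : ℕ) = 2
      · rw [hp2]
      · have h1 : Cfsg.pCore (p : ℕ) H ≤ Cfsg.pPrimeCore 2 H :=
          helper1.le_pPrimeCore (helper1.pCore_normal _)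
            (helper1.coprime_card_of_isPGroup_ne Nat.prime_two p.2 hp2 (helper1.pCore_isPGroup _))
        have hO' : Cfsg.pPrimeCore 2 H = ⊥ := hO
        rw [hO'] at h1
        exact h1.trans bot_le
    · exact helper1.pCore_le_fitting 2
  have hCF : Subgroup.centralizer (Cfsg.fittingSubgroup H : Set H) ≤ Cfsg.fittingSubgroup H := by
    have h1 := Cfsg.Agent.S1264.result (Subgroup.centralizer (Cfsg.fittingSubgroup H : Set H))
      le_rfl Subgroup.le_normalizer inferInstance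
    exact h1.trans (Subgroup.map_subtype_le _)
  rw [hF] at hCF
  have c : Ctx H X := ⟨hI, hXodd, hCF⟩
  refine ⟨?_, ?_, normal_sup hsol c hXidx, fun hN => quotient_cyclic hsol c hXidx hN⟩
  · intro x hx hx1 y hy hy1 hxy
    exact lemmaB c x hx hx1 y hy hy1 hxy
  · intro p _ P
    exact sylow_cyclic c p P

end Cfsg.Agent.S3215
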