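import Cfsg.Statements.S3224
import Mathlib
import Cfsg.Agent.H16UniqueInvol
import Cfsg.Agent.S0206

set_option autoImplicit false
open Cfsg

namespace Cfsg.Agent.S3224

/-- the working hypotheses, in a normal form. -/
structure Hyp {S : Type*} [Group S] (x z : S) : Prop where
  xne : x ≠ 1
  xsq : x * x = 1
  zne : z ≠ 1
  zsq : z * z = 1
  zc : ∀ g : S, g * z = z * g
  cen : ∀ g : S, (∀ h : S, g * h = h * g) → g = 1 ∨ g = z
  cx : ∀ g : S, g * x = x * g → g = 1 ∨ g = x ∨ g = z ∨ g = x * z
  xnc : ¬ ∀ k : S, x * k = k * x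

theorem exists_hyp {S : Type*} [Group S] [Finite S] (hS : IsPGroup 2 S) (x : S) (hx1 : x ≠ 1)
    (hxx : x * x = 1) (hC : Nat.card ↥(Subgroup.centralizer ({x} : Set S)) ≤ 4)
    (hcard : 8 ≤ Nat.card S) : ∃ z : S, Hyp x z := by
  classical
  have : Fact (Nat.Prime 2) := ⟨Nat.prime_two⟩
  have hmemC : ∀ g : S, g ∈ Subgroup.centralizer ({x} : Set S) ↔ g * x = x * g := by
    intro g
    rw [Subgroup.mem_centralizer_iff]
    simp only [Set.mem_singleton_iff, forall_eq]
    exact eq_comm
  -- `x` is not central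
  have hxZ : ¬ ∀ h : S, x * h = h * x := by
    intro hall
    have : Subgroup.centralizer ({x} : Set S) = ⊤ := by
      rw [eq_top_iff]
      intro g _
      rw [hmemC]
      exact (hall g).symm
    rw [this, Subgroup.card_top] at hC
    omega
  -- a central involution
  have hnt : Nontrivial S := by
    rw [← Finite.one_lt_card_iff_nontrivial]; omega
  have hcnt : Nontrivial ↥(Subgroup.center S) := hS.center_nontrivial
  have h2 : 2 ∣ Nat.card ↥(Subgroup.center S) := by
    obtain ⟨e, he⟩ := (hS.to_subgroup (Subgroup.center S)).exists_card_eq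
    rw [he]
    rcases Nat.eq_zero_or_pos e with h0 | hpos
    · exfalso
      rw [h0, pow_zero] at he
      have := (Finite.one_lt_card_iff_nontrivial (α := ↥(Subgroup.center S))).mpr hcnt
      omega
    · exact dvd_pow_self 2 hpos.ne'
  obtain ⟨zz, hzz⟩ := exists_prime_orderOf_dvd_card' 2 h2
  have hz1 : (zz : S) ≠ 1 := by
    intro e
    have : zz = 1 := Subtype.ext e
    rw [this, orderOf_one] at hzz
    norm_num at hzz
  have hzsq : (zz : S) * (zz : S) = 1 := by
    have h1 : zz ^ 2 = 1 := by rw [← hzz]; exact pow_orderOf_eq_one zz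
    have := congrArg Subtype.val h1
    simpa [pow_two] using this
  have hzc : ∀ g : S, g * (zz : S) = (zz : S) * g := fun g =>
    (Subgroup.mem_center_iff.mp zz.2) g
  set z : S := (zz : S) with hzdef
  have hxz : x ≠ z := by
    intro e
    apply hxZ
    intro h
    rw [e]; exact (hzc h).symm
  -- the four elements
  have hcx : ∀ g : S, g * x = x * g → g = 1 ∨ g = x ∨ g = z ∨ g = x * z := by
    intro g hg
    by_contra hnot
    push Not at hnot
    obtain ⟨n1, n2, n3, n4⟩ := hnot
    have hsub : ((({1, x, z, x * z, g} : Finset S)) : Set S) ⊆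
        ((Subgroup.centralizer ({x} : Set S) : Subgroup S) : Set S) := by
      intro y hy
      simp only [Finset.coe_insert, Finset.coe_singleton, Set.mem_insert_iff,
        Set.mem_singleton_iff] at hy
      rw [SetLike.mem_coe, hmemC]
      rcases hy with rfl | rfl | rfl | rfl | rfl
      · simp
      · rfl
      · exact (hzc x).symm
      · rw [mul_assoc, ← hzc x, ← mul_assoc]
      · exact hg
    have hcard5 : ({1, x, z, x * z, g} : Finset S).card = 5 := by
      have hxz1 : x * z ≠ 1 := by
        intro e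
        apply hxz
        have : x = z⁻¹ := eq_inv_of_mul_eq_one_left e
        rw [this]; exact inv_eq_of_mul_eq_one_left hzsq
      have hxzx : x * z ≠ x := by
        intro e; exact hz1 (mul_eq_left.mp e)
      have hxzz : x * z ≠ z := by
        intro e; exact hx1 (mul_eq_right.mp e)
      rw [Finset.card_insert_of_notMem, Finset.card_insert_of_notMem,
        Finset.card_insert_of_notMem, Finset.card_insert_of_notMem, Finset.card_singleton]
      · simp only [Finset.mem_singleton]; exact fun e => n4 e.symm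
      · simp only [Finset.mem_insert, Finset.mem_singleton, not_or]
        exact ⟨fun e => hxzz e.symm, fun e => n3 e.symm⟩
      · simp only [Finset.mem_insert, Finset.mem_singleton, not_or]
        exact ⟨hxz, fun e => hxzx e.symm, fun e => n2 e.symm⟩
      · simp only [Finset.mem_insert, Finset.mem_singleton, not_or]
        exact ⟨fun e => hx1 e.symm, fun e => hz1 e.symm, fun e => hxz1 e.symm, fun e => n1 e.symm⟩
    have h5 := Set.ncard_le_ncard hsub (Set.toFinite _)
    rw [Set.ncard_coe_finset, hcard5] at h5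
    have h6 : ((Subgroup.centralizer ({x} : Set S) : Subgroup S) : Set S).ncard =
        Nat.card ↥(Subgroup.centralizer ({x} : Set S)) := rfl
    omega
  refine ⟨z, hx1, hxx, hz1, hzsq, hzc, ?_, hcx, hxZ⟩
  intro g hg
  rcases hcx g (hg x) with e | e | e | e
  · exact Or.inl e
  · exfalso; apply hxZ; rw [← e]; exact hg
  · exact Or.inr e
  · exfalso
    apply hxZ
    intro h
    have e2 : x = g * z := by rw [e, mul_assoc, hzsq, mul_one]
    rw [e2, mul_assoc, ← hzc h, ← mul_assoc, hg h, mul_assoc]


namespace Hyp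

variable {S : Type*} [Group S] {x z : S}

theorem z_mem_center (h : Hyp x z) : z ∈ Subgroup.center S :=
  Subgroup.mem_center_iff.mpr h.zc

theorem mk_z (h : Hyp x z) : QuotientGroup.mk' (Subgroup.center S) z = 1 := by
  rw [QuotientGroup.mk'_apply, QuotientGroup.eq_one_iff]; exact h.z_mem_center

theorem mem_center (h : Hyp x z) (g : S) (hg : g ∈ Subgroup.center S) : g = 1 ∨ g = z :=
  h.cen g (fun k => ((Subgroup.mem_center_iff.mp hg) k).symm)

theorem x_not_center (h : Hyp x z) : x ∉ Subgroup.center S := by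
  intro hx
  exact h.xnc (fun k => ((Subgroup.mem_center_iff.mp hx) k).symm)

theorem mk_x_ne (h : Hyp x z) : QuotientGroup.mk' (Subgroup.center S) x ≠ 1 := by
  intro e
  rw [QuotientGroup.mk'_apply, QuotientGroup.eq_one_iff] at e
  exact h.x_not_center e

theorem mk_comm (h : Hyp x z) (g : S) (hg : g * x = x * g) :
    QuotientGroup.mk' (Subgroup.center S) g = 1 ∨
      QuotientGroup.mk' (Subgroup.center S) g = QuotientGroup.mk' (Subgroup.center S) x := by
  rcases h.cx g hg with e | e | e | e
  · left; rw [e, map_one]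
  · right; rw [e]
  · left; rw [e, h.mk_z]
  · right; rw [e, map_mul, h.mk_z, mul_one]

theorem card_center [Finite S] (h : Hyp x z) : Nat.card ↥(Subgroup.center S) = 2 := by
  classical
  have e : ((Subgroup.center S : Subgroup S) : Set S) = {1, z} := by
    ext g
    simp only [SetLike.mem_coe, Set.mem_insert_iff, Set.mem_singleton_iff]
    constructor
    · exact h.mem_center g
    · rintro (rfl | rfl)
      · exact Subgroup.one_mem _
      · exact h.z_mem_center
  have h1 : Nat.card ↥(Subgroup.center S) = ((Subgroup.center S : Subgroup S) : Set S).ncard := rfl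
  rw [h1, e, Set.ncard_pair h.zne.symm]

/-- the centralizer of the image of `x` in `S / Z(S)` has order at most `4`. -/
theorem quot_card [Finite S] (h : Hyp x z) :
    Nat.card ↥(Subgroup.centralizer
      ({QuotientGroup.mk' (Subgroup.center S) x} : Set (S ⧸ Subgroup.center S))) ≤ 4 := by
  classical
  have key : ∃ g₀ : S, ∀ t ∈ Subgroup.centralizer
      ({QuotientGroup.mk' (Subgroup.center S) x} : Set (S ⧸ Subgroup.center S)),
      t = 1 ∨ t = QuotientGroup.mk' (Subgroup.center S) x ∨
      t = QuotientGroup.mk' (Subgroup.center S) g₀ ∨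
      t = QuotientGroup.mk' (Subgroup.center S) g₀ * QuotientGroup.mk' (Subgroup.center S) x := by
    have hlift : ∀ t ∈ Subgroup.centralizer
        ({QuotientGroup.mk' (Subgroup.center S) x} : Set (S ⧸ Subgroup.center S)),
        ∃ g : S, QuotientGroup.mk' (Subgroup.center S) g = t ∧
          (g * x * g⁻¹ * x⁻¹ = 1 ∨ g * x * g⁻¹ * x⁻¹ = z) := by
      intro t ht
      obtain ⟨g, rfl⟩ := QuotientGroup.mk'_surjective _ t
      refine ⟨g, rfl, ?_⟩
      apply h.mem_center
      rw [← QuotientGroup.eq_one_iff, ← QuotientGroup.mk'_apply]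
      rw [Subgroup.mem_centralizer_iff] at ht
      have h1 := ht _ (Set.mem_singleton _)
      rw [map_mul, map_mul, map_mul, map_inv, map_inv, ← h1]
      group
    by_cases hex : ∃ g₀ : S, g₀ * x * g₀⁻¹ * x⁻¹ = z
    · obtain ⟨g₀, hg₀⟩ := hex
      refine ⟨g₀, ?_⟩
      intro t ht
      obtain ⟨g, rfl, hg | hg⟩ := hlift t ht
      · have hc : g * x = x * g := by
          calc g * x = (g * x * g⁻¹ * x⁻¹) * (x * g) := by group
            _ = x * g := by rw [hg, one_mul]
        rcases h.mk_comm g hc with e | e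
        · exact Or.inl e
        · exact Or.inr (Or.inl e)
      · have hc : (g₀⁻¹ * g) * x = x * (g₀⁻¹ * g) := by
          have e1 : g * x = z * x * g := by
            calc g * x = (g * x * g⁻¹ * x⁻¹) * (x * g) := by group
              _ = z * x * g := by rw [hg, mul_assoc]
          have e2 : g₀ * x = z * x * g₀ := by
            calc g₀ * x = (g₀ * x * g₀⁻¹ * x⁻¹) * (x * g₀) := by group
              _ = z * x * g₀ := by rw [hg₀, mul_assoc]
          have e3 : g₀⁻¹ * (z * x) = x * g₀⁻¹ := by
            have : z * x = g₀ * x * g₀⁻¹ := by rw [e2]; group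
            rw [this]; group
          calc (g₀⁻¹ * g) * x = g₀⁻¹ * (g * x) := by group
            _ = g₀⁻¹ * (z * x * g) := by rw [e1]
            _ = (g₀⁻¹ * (z * x)) * g := by group
            _ = (x * g₀⁻¹) * g := by rw [e3]
            _ = x * (g₀⁻¹ * g) := by group
        have e : g = g₀ * (g₀⁻¹ * g) := by group
        rcases h.mk_comm _ hc with e1 | e1
        · right; right; left
          rw [e, map_mul, e1, mul_one]
        · right; right; right
          rw [e, map_mul, e1]
    · refine ⟨1, ?_⟩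
      intro t ht
      obtain ⟨g, rfl, hg | hg⟩ := hlift t ht
      · have hc : g * x = x * g := by
          calc g * x = (g * x * g⁻¹ * x⁻¹) * (x * g) := by group
            _ = x * g := by rw [hg, one_mul]
        rcases h.mk_comm g hc with e | e
        · exact Or.inl e
        · exact Or.inr (Or.inl e)
      · exact absurd ⟨g, hg⟩ hex
  obtain ⟨g₀, hg₀⟩ := key
  have hsub : ((Subgroup.centralizer
      ({QuotientGroup.mk' (Subgroup.center S) x} : Set (S ⧸ Subgroup.center S)) :
      Subgroup (S ⧸ Subgroup.center S)) : Set (S ⧸ Subgroup.center S)) ⊆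
      (({1, QuotientGroup.mk' (Subgroup.center S) x, QuotientGroup.mk' (Subgroup.center S) g₀,
        QuotientGroup.mk' (Subgroup.center S) g₀ * QuotientGroup.mk' (Subgroup.center S) x} :
        Finset (S ⧸ Subgroup.center S)) : Set (S ⧸ Subgroup.center S)) := by
    intro t ht
    simp only [Finset.coe_insert, Finset.coe_singleton, Set.mem_insert_iff,
      Set.mem_singleton_iff]
    exact hg₀ t ht
  have h1 := Set.ncard_le_ncard hsub (Finset.finite_toSet _)
  rw [Set.ncard_coe_finset] at h1
  exact h1.trans Finset.card_le_four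

end Hyp


open Cfsg.Agent.H16UniqueInvol in
theorem mem_zpowers_of_sq {S : Type*} [Group S] (v g : S) (hv : v * v = 1)
    (hg : g ∈ Subgroup.zpowers v) : g = 1 ∨ g = v := by
  obtain ⟨i, rfl⟩ := Subgroup.mem_zpowers_iff.mp hg
  rcases Int.even_or_odd' i with ⟨j, rfl | rfl⟩
  · left
    rw [zpow_mul, zpow_two, hv, one_zpow]
  · right
    rw [zpow_add, zpow_mul, zpow_two, hv, one_zpow, one_mul, zpow_one]

theorem index_two_of_dichotomy {S : Type*} [Group S] (H : Subgroup S) (x : S) (hx : x ∉ H)
    (hd : ∀ g : S, g ∈ H ∨ x⁻¹ * g ∈ H) : H.index = 2 := by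
  rw [Subgroup.index_eq_two_iff']
  refine ⟨x⁻¹, fun b => ?_⟩
  by_cases hb : b ∈ H
  · refine Or.inr ⟨hb, ?_⟩
    intro h1
    have := (Subgroup.mul_mem_cancel_right H hb).mp h1
    exact hx (by simpa using H.inv_mem this)
  · refine Or.inl ⟨(hd b).resolve_left hb, hb⟩

theorem dichotomy_of_index_two {S : Type*} [Group S] (H : Subgroup S) (hidx : H.index = 2) (x : S)
    (hx : x ∉ H) : ∀ g : S, g ∈ H ∨ x⁻¹ * g ∈ H := by
  intro g
  by_cases hg : g ∈ H
  · exact Or.inl hg
  · right
    have h1 := Subgroup.mul_mem_iff_of_index_two hidx (a := x⁻¹) (b := g)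
    rw [h1]
    constructor
    · intro h2; exact absurd (by simpa using H.inv_mem h2) hx
    · intro h2; exact absurd h2 hg

theorem comm_of_sq {S : Type*} [Group S] (hall : ∀ g : S, g * g = 1) (g k : S) : g * k = k * g := by
  have h1 := hall (g * k)
  have h2 := hall g
  have h3 := hall k
  calc g * k = (k * k) * (g * k) * (g * g) := by rw [h2, h3, one_mul, mul_one]
    _ = k * ((k * g) * (k * g)) * g := by group
    _ = k * g := by rw [hall (k * g), mul_one]

open Cfsg.Agent.H16UniqueInvol in
theorem exists_cyclic_max.{u} : ∀ (n : ℕ) (S : Type u) [Group S] [Finite S], IsPGroup 2 S →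
    Nat.card S = 2 ^ (n + 3) → ∀ x z : S, Hyp x z →
    ∃ a : S, orderOf a = 2 ^ (n + 2) ∧ x ∉ Subgroup.zpowers a ∧
      ∀ g : S, g ∈ Subgroup.zpowers a ∨ x⁻¹ * g ∈ Subgroup.zpowers a := by
  intro n
  induction n with
  | zero =>
    intro S _ _ hS hcard x z h
    have hex : ∃ a : S, a * a ≠ 1 := by
      by_contra hall
      push Not at hall
      exact h.xnc (fun k => comm_of_sq hall x k)
    obtain ⟨a, haa⟩ := hex
    have hdvd : orderOf a ∣ 2 ^ 3 := by
      have := orderOf_dvd_natCard a
      rwa [hcard] at this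
    obtain ⟨e, he3, he⟩ := (Nat.dvd_prime_pow Nat.prime_two).mp hdvd
    have hcardA : Nat.card ↥(Subgroup.zpowers a) = 2 ^ e := by rw [Nat.card_zpowers, he]
    have he2 : e = 2 := by
      have hne0 : e ≠ 0 := by
        rintro rfl
        rw [pow_zero, orderOf_eq_one_iff] at he
        rw [he, mul_one] at haa; exact haa rfl
      have hne1 : e ≠ 1 := by
        rintro rfl
        apply haa
        rw [← pow_two]
        have := pow_orderOf_eq_one a
        rwa [he, pow_one] at this
      have hne3 : e ≠ 3 := by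
        rintro rfl
        have htop : Subgroup.zpowers a = ⊤ := by
          apply Subgroup.eq_top_of_card_eq
          rw [hcardA, hcard]
        apply h.xnc
        intro k
        exact comm_zpowers a x k (htop ▸ Subgroup.mem_top x) (htop ▸ Subgroup.mem_top k)
      omega
    subst he2
    refine ⟨a, he, ?_, ?_⟩
    · intro hx
      have hc : a * x = x * a := comm_zpowers a a x (Subgroup.mem_zpowers a) hx
      apply haa
      rcases h.cx a hc with e | e | e | e
      · rw [e, mul_one]
      · rw [e]; exact h.xsq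
      · rw [e]; exact h.zsq
      · rw [e]
        calc x * z * (x * z) = x * (z * x) * z := by group
          _ = x * (x * z) * z := by rw [h.zc x]
          _ = (x * x) * (z * z) := by group
          _ = 1 := by rw [h.xsq, h.zsq, mul_one]
    · have hx : x ∉ Subgroup.zpowers a := by
        intro hx
        have hc : a * x = x * a := comm_zpowers a a x (Subgroup.mem_zpowers a) hx
        apply haa
        rcases h.cx a hc with e | e | e | e
        · rw [e, mul_one]
        · rw [e]; exact h.xsq
        · rw [e]; exact h.zsq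
        · rw [e]
          calc x * z * (x * z) = x * (z * x) * z := by group
            _ = x * (x * z) * z := by rw [h.zc x]
            _ = (x * x) * (z * z) := by group
            _ = 1 := by rw [h.xsq, h.zsq, mul_one]
      apply dichotomy_of_index_two _ _ x hx
      have h1 := Subgroup.card_mul_index (Subgroup.zpowers a)
      rw [hcardA, hcard] at h1
      omega
  | succ n ih =>
    intro S _ _ hS hcard x z h
    have hcS : Nat.card (S ⧸ Subgroup.center S) = 2 ^ (n + 3) := by
      have h1 := Subgroup.card_eq_card_quotient_mul_card_subgroup (Subgroup.center S)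
      rw [hcard, h.card_center] at h1
      have e : 2 ^ (n + 1 + 3) = 2 ^ (n + 3) * 2 := by ring
      rw [e] at h1
      exact (Nat.eq_of_mul_eq_mul_right (by norm_num) h1).symm
    have hSq : IsPGroup 2 (S ⧸ Subgroup.center S) := hS.to_quotient _
    have hxb2 : QuotientGroup.mk' (Subgroup.center S) x * QuotientGroup.mk' (Subgroup.center S) x = 1 := by
      rw [← map_mul, h.xsq, map_one]
    have h8 : 8 ≤ Nat.card (S ⧸ Subgroup.center S) := by
      rw [hcS]
      have : 2 ^ 3 ≤ 2 ^ (n + 3) := Nat.pow_le_pow_right (by norm_num) (by omega)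
      simpa using this
    obtain ⟨zb, hb⟩ := exists_hyp hSq _ h.mk_x_ne hxb2 h.quot_card h8
    obtain ⟨ab, hab_ord, hab_x, hab_d⟩ := ih (S ⧸ Subgroup.center S) hSq hcS _ zb hb
    obtain ⟨a, rfl⟩ := QuotientGroup.mk'_surjective _ ab
    have hker : ∀ g : S, QuotientGroup.mk' (Subgroup.center S) g = 1 → g = 1 ∨ g = z := by
      intro g hg
      rw [QuotientGroup.mk'_apply, QuotientGroup.eq_one_iff] at hg
      exact h.mem_center g hg
    have hpow_cen : a ^ (2 ^ (n + 2)) = 1 ∨ a ^ (2 ^ (n + 2)) = z := by
      apply hker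
      rw [map_pow, ← hab_ord, pow_orderOf_eq_one]
    -- lifting membership
    have hlift : z ∈ Subgroup.zpowers a → ∀ t : S,
        QuotientGroup.mk' (Subgroup.center S) t ∈
          Subgroup.zpowers (QuotientGroup.mk' (Subgroup.center S) a) →
        t ∈ Subgroup.zpowers a := by
      intro hz t ht
      obtain ⟨i, hi⟩ := Subgroup.mem_zpowers_iff.mp ht
      have h1 : QuotientGroup.mk' (Subgroup.center S) ((a ^ i)⁻¹ * t) = 1 := by
        rw [map_mul, map_inv, map_zpow, hi, inv_mul_cancel]
      have e : t = a ^ i * ((a ^ i)⁻¹ * t) := by group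
      rw [e]
      apply Subgroup.mul_mem _ (Subgroup.zpow_mem _ (Subgroup.mem_zpowers a) i)
      rcases hker _ h1 with e1 | e1
      · rw [e1]; exact Subgroup.one_mem _
      · rw [e1]; exact hz
    have hzmem : z ∈ Subgroup.zpowers a := by
      by_contra hz
      have h1 : a ^ (2 ^ (n + 2)) = 1 := by
        rcases hpow_cen with e | e
        · exact e
        · exact absurd (e ▸ Subgroup.npow_mem_zpowers a _) hz
      have hu2 : a ^ (2 ^ (n + 1)) * a ^ (2 ^ (n + 1)) = 1 := by
        rw [← pow_add]
        have e : 2 ^ (n + 1) + 2 ^ (n + 1) = 2 ^ (n + 2) := by ring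
        rw [e, h1]
      have hub : QuotientGroup.mk' (Subgroup.center S) (a ^ (2 ^ (n + 1))) ≠ 1 := by
        intro e
        rw [map_pow] at e
        have hd := orderOf_dvd_of_pow_eq_one e
        rw [hab_ord] at hd
        have := Nat.le_of_dvd (by positivity) hd
        have hlt : 2 ^ (n + 1) < 2 ^ (n + 2) := Nat.pow_lt_pow_right (by norm_num) (by omega)
        omega
      have hu1 : a ^ (2 ^ (n + 1)) ≠ 1 := by
        intro e; apply hub; rw [e, map_one]
      have hbb : a ^ (2 ^ n) * a ^ (2 ^ n) = a ^ (2 ^ (n + 1)) := by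
        rw [← pow_add]; congr 1; ring
      have hidx : (Subgroup.zpowers (QuotientGroup.mk' (Subgroup.center S) a)).index = 2 :=
        index_two_of_dichotomy _ _ hab_x hab_d
      have hnorm : (Subgroup.zpowers (QuotientGroup.mk' (Subgroup.center S) a)).Normal :=
        Subgroup.normal_of_index_eq_two hidx
      have hconj : QuotientGroup.mk' (Subgroup.center S) (x * a ^ (2 ^ n) * x⁻¹) ∈
          Subgroup.zpowers (QuotientGroup.mk' (Subgroup.center S) a) := by
        rw [map_mul, map_mul, map_inv, map_pow]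
        exact hnorm.conj_mem _ (Subgroup.npow_mem_zpowers _ _) _
      obtain ⟨i, hi⟩ := Subgroup.mem_zpowers_iff.mp hconj
      have hc1 : QuotientGroup.mk' (Subgroup.center S) ((a ^ i)⁻¹ * (x * a ^ (2 ^ n) * x⁻¹)) = 1 := by
        rw [map_mul, map_inv, map_zpow, hi, inv_mul_cancel]
      have hcc : (a ^ i)⁻¹ * (x * a ^ (2 ^ n) * x⁻¹) ∈ Subgroup.center S := by
        rw [← QuotientGroup.eq_one_iff, ← QuotientGroup.mk'_apply]; exact hc1
      have hcsq : ((a ^ i)⁻¹ * (x * a ^ (2 ^ n) * x⁻¹)) * ((a ^ i)⁻¹ * (x * a ^ (2 ^ n) * x⁻¹)) = 1 := by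
        rcases hker _ hc1 with e | e
        · rw [e, mul_one]
        · rw [e]; exact h.zsq
      have hccomm : ∀ k : S, ((a ^ i)⁻¹ * (x * a ^ (2 ^ n) * x⁻¹)) * k =
          k * ((a ^ i)⁻¹ * (x * a ^ (2 ^ n) * x⁻¹)) := fun k =>
        ((Subgroup.mem_center_iff.mp hcc) k).symm
      -- v = x u x⁻¹ ∈ ⟨a⟩
      have hv : x * a ^ (2 ^ (n + 1)) * x⁻¹ ∈ Subgroup.zpowers a := by
        have e1 : x * a ^ (2 ^ (n + 1)) * x⁻¹ =
            (x * a ^ (2 ^ n) * x⁻¹) * (x * a ^ (2 ^ n) * x⁻¹) := by
          rw [← hbb]; group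
        have e2 : x * a ^ (2 ^ n) * x⁻¹ = a ^ i * ((a ^ i)⁻¹ * (x * a ^ (2 ^ n) * x⁻¹)) := by
          group
        have e3 : (x * a ^ (2 ^ n) * x⁻¹) * (x * a ^ (2 ^ n) * x⁻¹) = a ^ i * a ^ i := by
          set c := (a ^ i)⁻¹ * (x * a ^ (2 ^ n) * x⁻¹) with hc
          rw [e2]
          calc a ^ i * c * (a ^ i * c) = a ^ i * (c * a ^ i) * c := by group
            _ = a ^ i * (a ^ i * c) * c := by rw [hccomm]
            _ = a ^ i * a ^ i * (c * c) := by group
            _ = a ^ i * a ^ i := by rw [hcsq, mul_one]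
        rw [e1, e3]
        exact Subgroup.mul_mem _ (Subgroup.zpow_mem _ (Subgroup.mem_zpowers a) i)
          (Subgroup.zpow_mem _ (Subgroup.mem_zpowers a) i)
      have hvv : (x * a ^ (2 ^ (n + 1)) * x⁻¹) * (x * a ^ (2 ^ (n + 1)) * x⁻¹) = 1 := by
        calc (x * a ^ (2 ^ (n + 1)) * x⁻¹) * (x * a ^ (2 ^ (n + 1)) * x⁻¹)
            = x * (a ^ (2 ^ (n + 1)) * a ^ (2 ^ (n + 1))) * x⁻¹ := by group
          _ = 1 := by rw [hu2]; group
      have hv1 : x * a ^ (2 ^ (n + 1)) * x⁻¹ ≠ 1 := by
        intro e
        apply hu1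
        have : a ^ (2 ^ (n + 1)) = x⁻¹ * (x * a ^ (2 ^ (n + 1)) * x⁻¹) * x := by group
        rw [this, e]; group
      have huv : a ^ (2 ^ (n + 1)) = x * a ^ (2 ^ (n + 1)) * x⁻¹ := by
        rcases chain (n + 2) a h1 _ (Subgroup.npow_mem_zpowers a (2 ^ (n + 1))) _ hv with hh | hh
        · rcases mem_zpowers_of_sq _ _ hvv hh with e | e
          · exact absurd e hu1
          · exact e
        · rw [hu2, Subgroup.zpowers_one_eq_bot, Subgroup.mem_bot] at hh
          exact absurd hh hv1
      have hux : a ^ (2 ^ (n + 1)) * x = x * a ^ (2 ^ (n + 1)) := by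
        conv_lhs => rw [huv]
        group
      rcases h.cx _ hux with e | e | e | e
      · exact hu1 e
      · apply hab_x
        rw [← e, map_pow]
        exact Subgroup.npow_mem_zpowers _ _
      · exact hz (e ▸ Subgroup.npow_mem_zpowers a _)
      · apply hab_x
        have : QuotientGroup.mk' (Subgroup.center S) x =
            QuotientGroup.mk' (Subgroup.center S) (a ^ (2 ^ (n + 1))) := by
          rw [e, map_mul, h.mk_z, mul_one]
        rw [this, map_pow]
        exact Subgroup.npow_mem_zpowers _ _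
    refine ⟨a, ?_, ?_, ?_⟩
    · have e : n + 1 + 2 = (n + 2) + 1 := by ring
      rw [e]
      apply orderOf_eq_prime_pow
      · intro h1
        obtain ⟨j, hj⟩ := Subgroup.mem_zpowers_iff.mp hzmem
        have h2 : (QuotientGroup.mk' (Subgroup.center S) a) ^ j = 1 := by
          rw [← map_zpow, hj, h.mk_z]
        have h3 := (orderOf_dvd_iff_zpow_eq_one).mpr h2
        rw [hab_ord] at h3
        obtain ⟨m, rfl⟩ := h3
        apply h.zne
        rw [← hj, zpow_mul, zpow_natCast, h1, one_zpow]
      · have e2 : 2 ^ (n + 2 + 1) = 2 ^ (n + 2) * 2 := by ring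
        rw [e2, pow_mul, pow_two]
        rcases hpow_cen with e1 | e1
        · rw [e1, mul_one]
        · rw [e1]; exact h.zsq
    · intro hx
      apply hab_x
      obtain ⟨i, hi⟩ := Subgroup.mem_zpowers_iff.mp hx
      rw [← hi, map_zpow]
      exact Subgroup.zpow_mem _ (Subgroup.mem_zpowers _) i
    · intro g
      rcases hab_d (QuotientGroup.mk' (Subgroup.center S) g) with h1 | h1
      · exact Or.inl (hlift hzmem g h1)
      · right
        apply hlift hzmem
        rw [map_mul, map_inv]
        exact h1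


open Cfsg.Agent.H16UniqueInvol in
theorem final {S : Type*} [Group S] [Finite S] (hS : IsPGroup 2 S) (n : ℕ)
    (hcard : Nat.card S = 2 ^ (n + 3)) (x z : S) (h : Hyp x z) :
    (∃ m : ℕ, Nonempty (S ≃* DihedralGroup m)) ∨ Cfsg.IsQuasiDihedral S := by
  have : Fact (Nat.Prime 2) := ⟨Nat.prime_two⟩
  obtain ⟨a, hord, hxA, hd⟩ := exists_cyclic_max n S hS hcard x z h
  have hak : a ^ (2 ^ (n + 2)) = 1 := by rw [← hord]; exact pow_orderOf_eq_one a
  have hidx : (Subgroup.zpowers a).index = 2 := index_two_of_dichotomy _ _ hxA hd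
  have hnorm : (Subgroup.zpowers a).Normal := Subgroup.normal_of_index_eq_two hidx
  have hxinv : x⁻¹ = x := inv_eq_of_mul_eq_one_right h.xsq
  have hzinv : z⁻¹ = z := inv_eq_of_mul_eq_one_right h.zsq
  have haa : a * a ≠ 1 := by
    intro e
    have h1 : orderOf a ∣ 2 := orderOf_dvd_of_pow_eq_one (by rw [pow_two]; exact e)
    rw [hord] at h1
    have h2 : 2 ^ 2 ≤ 2 ^ (n + 2) := Nat.pow_le_pow_right (by norm_num) (by omega)
    have := Nat.le_of_dvd (by norm_num) h1
    omega
  -- `a` does not commute with `x`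
  have hax : a * x ≠ x * a := by
    intro hc
    apply haa
    rcases h.cx a hc with e | e | e | e
    · rw [e, mul_one]
    · rw [e]; exact h.xsq
    · rw [e]; exact h.zsq
    · rw [e]
      calc x * z * (x * z) = x * (z * x) * z := by group
        _ = x * (x * z) * z := by rw [h.zc x]
        _ = (x * x) * (z * z) := by group
        _ = 1 := by rw [h.xsq, h.zsq, mul_one]
  -- `z = a^(2^(n+1))`
  have hu2 : a ^ (2 ^ (n + 1)) * a ^ (2 ^ (n + 1)) = 1 := by
    rw [← pow_add]
    have e : 2 ^ (n + 1) + 2 ^ (n + 1) = 2 ^ (n + 2) := by ring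
    rw [e, hak]
  have hu1 : a ^ (2 ^ (n + 1)) ≠ 1 := by
    intro e
    have hd' := orderOf_dvd_of_pow_eq_one e
    rw [hord] at hd'
    have := Nat.le_of_dvd (by positivity) hd'
    have hlt : 2 ^ (n + 1) < 2 ^ (n + 2) := Nat.pow_lt_pow_right (by norm_num) (by omega)
    omega
  have hzu : z = a ^ (2 ^ (n + 1)) := by
    have hv : x * a ^ (2 ^ (n + 1)) * x⁻¹ ∈ Subgroup.zpowers a :=
      hnorm.conj_mem _ (Subgroup.npow_mem_zpowers _ _) _
    have hvv : (x * a ^ (2 ^ (n + 1)) * x⁻¹) * (x * a ^ (2 ^ (n + 1)) * x⁻¹) = 1 := by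
      calc (x * a ^ (2 ^ (n + 1)) * x⁻¹) * (x * a ^ (2 ^ (n + 1)) * x⁻¹)
          = x * (a ^ (2 ^ (n + 1)) * a ^ (2 ^ (n + 1))) * x⁻¹ := by group
        _ = 1 := by rw [hu2]; group
    have hv1 : x * a ^ (2 ^ (n + 1)) * x⁻¹ ≠ 1 := by
      intro e
      apply hu1
      have : a ^ (2 ^ (n + 1)) = x⁻¹ * (x * a ^ (2 ^ (n + 1)) * x⁻¹) * x := by group
      rw [this, e]; group
    have huv : a ^ (2 ^ (n + 1)) = x * a ^ (2 ^ (n + 1)) * x⁻¹ := by
      rcases chain (n + 2) a hak _ (Subgroup.npow_mem_zpowers a (2 ^ (n + 1))) _ hv with hh | hh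
      · rcases mem_zpowers_of_sq _ _ hvv hh with e | e
        · exact absurd e hu1
        · exact e
      · rw [hu2, Subgroup.zpowers_one_eq_bot, Subgroup.mem_bot] at hh
        exact absurd hh hv1
    have hux : a ^ (2 ^ (n + 1)) * x = x * a ^ (2 ^ (n + 1)) := by
      conv_lhs => rw [huv]
      group
    rcases h.cx _ hux with e | e | e | e
    · exact absurd e hu1
    · exact absurd (e ▸ Subgroup.npow_mem_zpowers a _) hxA
    · exact e.symm
    · exfalso
      apply hax
      have hc : a * (x * z) = (x * z) * a := by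
        rw [← e, ← pow_succ', ← pow_succ]
      have h1 : a * x * z = x * a * z := by
        calc a * x * z = a * (x * z) := by group
          _ = x * z * a := hc
          _ = x * (z * a) := by group
          _ = x * (a * z) := by rw [← h.zc a]
          _ = x * a * z := by group
      exact mul_right_cancel h1
  have hzA : z ∈ Subgroup.zpowers a := hzu ▸ Subgroup.npow_mem_zpowers a _
  -- `v = a * σ a`
  have hσA : x * a * x⁻¹ ∈ Subgroup.zpowers a := hnorm.conj_mem _ (Subgroup.mem_zpowers a) _
  have hvA : a * (x * a * x⁻¹) ∈ Subgroup.zpowers a :=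
    Subgroup.mul_mem _ (Subgroup.mem_zpowers a) hσA
  have hvx : a * (x * a * x⁻¹) * x = x * (a * (x * a * x⁻¹)) := by
    have hc : a * (x * a * x⁻¹) = (x * a * x⁻¹) * a :=
      comm_zpowers a _ _ (Subgroup.mem_zpowers a) hσA
    rw [hxinv] at hc ⊢
    calc a * (x * a * x) * x = a * x * a * (x * x) := by group
      _ = a * x * a := by rw [h.xsq, mul_one]
      _ = (x * x) * (a * x * a) := by rw [h.xsq, one_mul]
      _ = x * ((x * a * x) * a) := by group
      _ = x * (a * (x * a * x)) := by rw [← hc]
  have hv : a * (x * a * x⁻¹) = 1 ∨ a * (x * a * x⁻¹) = z := by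
    rcases h.cx _ hvx with e | e | e | e
    · exact Or.inl e
    · exact absurd (e ▸ hvA) hxA
    · exact Or.inr e
    · exfalso
      apply hxA
      have : x = (a * (x * a * x⁻¹)) * z⁻¹ := by rw [e]; group
      rw [this]
      exact Subgroup.mul_mem _ hvA (Subgroup.inv_mem _ hzA)
  rcases hv with hv | hv
  · -- dihedral
    left
    have hσ : x * a * x⁻¹ = a⁻¹ := (eq_inv_of_mul_eq_one_right hv)
    have hx2 : orderOf x = 2 := orderOf_eq_prime (by rw [pow_two]; exact h.xsq) h.xne
    have hy1 : x * a ≠ 1 := by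
      intro e
      apply hxA
      have : x = a⁻¹ := eq_inv_of_mul_eq_one_left e
      rw [this]; exact Subgroup.inv_mem _ (Subgroup.mem_zpowers a)
    have hyy : (x * a) * (x * a) = 1 := by
      calc (x * a) * (x * a) = (x * a * x⁻¹) * (x * x) * a := by group
        _ = 1 := by rw [hσ, h.xsq, mul_one, inv_mul_cancel]
    have hy2 : orderOf (x * a) = 2 := orderOf_eq_prime (by rw [pow_two]; exact hyy) hy1
    have hxy : x ≠ x * a := by
      intro e
      have : a = 1 := by
        have := mul_left_cancel (a := x) (b := 1) (c := a) (by rw [mul_one]; exact e)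
        exact this.symm
      apply haa; rw [this, mul_one]
    obtain ⟨e⟩ := Cfsg.Agent.S0206.result x (x * a) hx2 hy2 hxy
    have htop : Subgroup.closure ({x, x * a} : Set S) = ⊤ := by
      rw [eq_top_iff]
      intro g _
      have hxc : x ∈ Subgroup.closure ({x, x * a} : Set S) :=
        Subgroup.subset_closure (Set.mem_insert _ _)
      have hyc : x * a ∈ Subgroup.closure ({x, x * a} : Set S) :=
        Subgroup.subset_closure (Set.mem_insert_of_mem _ (Set.mem_singleton _))
      have hac : a ∈ Subgroup.closure ({x, x * a} : Set S) := by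
        have h1 := Subgroup.mul_mem _ (Subgroup.inv_mem _ hxc) hyc
        rwa [inv_mul_cancel_left] at h1
      have hle : Subgroup.zpowers a ≤ Subgroup.closure ({x, x * a} : Set S) :=
        Subgroup.zpowers_le.mpr hac
      rcases hd g with h1 | h1
      · exact hle h1
      · have : g = x * (x⁻¹ * g) := by group
        rw [this]
        exact Subgroup.mul_mem _ hxc (hle h1)
    exact ⟨_, ⟨Subgroup.topEquiv.symm.trans ((MulEquiv.subgroupCongr htop.symm).trans e)⟩⟩
  · -- semidihedral
    right
    have hσ : x * a * x⁻¹ = a⁻¹ * z := by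
      rw [← hv]; group
    have hn1 : 1 ≤ n := by
      by_contra hn0
      have hn : n = 0 := by omega
      subst hn
      apply hax
      have e1 : z = a * a := by rw [hzu]; simp [pow_two]
      have e2 : x * a * x⁻¹ = a := by rw [hσ, e1]; group
      calc a * x = (x * a * x⁻¹) * x := by rw [e2]
        _ = x * a := by group
    refine ⟨n + 2, by omega, by rw [hcard], a, x, hord, ?_, ?_⟩
    · exact orderOf_eq_prime (by rw [pow_two]; exact h.xsq) h.xne
    · rw [hσ, hzu]
      have e1 : n + 2 - 1 = n + 1 := by omega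
      rw [e1]
      have hpos : 1 ≤ 2 ^ (n + 1) := Nat.one_le_two_pow
      have e2 : a ^ (2 ^ (n + 1)) = a ^ (2 ^ (n + 1) - 1) * a := by
        rw [← pow_succ, Nat.sub_add_cancel hpos]
      have e3 : a ^ (2 ^ (n + 1) - 1) * a = a * a ^ (2 ^ (n + 1) - 1) := by
        rw [← pow_succ, ← pow_succ']
      rw [e2, e3]; group

/-- A finite 2-group containing an involution whose centralizer has order 4 is dihedral, quasi-dihedral (semidihedral), or of order 4. -/
theorem result {S : Type*} [Group S] [Finite S] (hS : IsPGroup 2 S)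
    (x : S) (hx : orderOf x = 2) (hC : Nat.card ↥(Subgroup.centralizer ({x} : Set S)) = 4) :
    (∃ n : ℕ, Nonempty (S ≃* DihedralGroup n)) ∨ Cfsg.IsQuasiDihedral S ∨ Nat.card S = 4 := by
  obtain ⟨N, hN⟩ := hS.exists_card_eq
  have hdvd : 4 ∣ Nat.card S := by
    rw [← hC]; exact Subgroup.card_subgroup_dvd_card _
  have hN2 : 2 ≤ N := by
    by_contra hlt
    push Not at hlt
    rw [hN] at hdvd
    have := Nat.le_of_dvd (by positivity) hdvd
    interval_cases N <;> omega
  by_cases hN3 : N = 2
  · right; right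
    rw [hN, hN3]; norm_num
  · have hx1 : x ≠ 1 := by
      intro e; rw [e, orderOf_one] at hx; norm_num at hx
    have hxx : x * x = 1 := by rw [← pow_two, ← hx]; exact pow_orderOf_eq_one x
    obtain ⟨n, rfl⟩ : ∃ n, N = n + 3 := ⟨N - 3, by omega⟩
    have h8 : 8 ≤ Nat.card S := by
      rw [hN]
      have : 2 ^ 3 ≤ 2 ^ (n + 3) := Nat.pow_le_pow_right (by norm_num) (by omega)
      simpa using this
    obtain ⟨z, h⟩ := exists_hyp hS x hx1 hxx hC.le h8
    rcases final hS n hN x z h with h1 | h1
    · exact Or.inl h1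
    · exact Or.inr (Or.inl h1)

end Cfsg.Agent.S3224
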