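import Mathlib
import Cfsg.Statements.S3247
import Cfsg.Agent.Lib_helper7_PCompSub

set_option autoImplicit false
open Cfsg

namespace Cfsg.Agent.S3247

open Cfsg.Agent.helper7 in
/-- Let G be a finite group and p a prime; here a p-local subgroup means the normalizer of a nontrivial p-subgroup, other than G itself. If every p-local subgroup of G that is maximal among p-local subgroups is p-constrained, or if the centralizer of every element of order p of G is p-constrained, then every p-local subgroup of G is p-constrained. -/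
theorem result {G : Type*} [Group G] [Finite G] (p : ℕ) [hp : Fact p.Prime]
    (h : (∀ M : Subgroup G, (∃ T : Subgroup G, IsPGroup p ↥T ∧ T ≠ ⊥ ∧ M = Subgroup.normalizer (T : Set G)) → M ≠ ⊤ →
        (∀ M' : Subgroup G, (∃ T' : Subgroup G, IsPGroup p ↥T' ∧ T' ≠ ⊥ ∧ M' = Subgroup.normalizer (T' : Set G)) → M' ≠ ⊤ → M ≤ M' → M = M') →
        Cfsg.IsPConstrained p ↥M) ∨
      (∀ x : G, orderOf x = p → Cfsg.IsPConstrained p ↥(Subgroup.centralizer ({x} : Set G))))
    (T : Subgroup G) (hT : IsPGroup p ↥T) (hT1 : T ≠ ⊥) (hTG : Subgroup.normalizer (T : Set G) ≠ ⊤) :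
    Cfsg.IsPConstrained p ↥(Subgroup.normalizer (T : Set G)) := by
  have hpp : p.Prime := hp.out
  rw [isPConstrained_iff hpp]
  rcases h with ha | hb
  · let 𝒮 : Set (Subgroup G) := {M | (∃ T' : Subgroup G, IsPGroup p ↥T' ∧ T' ≠ ⊥ ∧
      M = Subgroup.normalizer (T' : Set G)) ∧ M ≠ ⊤ ∧ Subgroup.normalizer (T : Set G) ≤ M}
    have h𝒮 : 𝒮.Finite := Set.toFinite _
    have h𝒮ne : 𝒮.Nonempty := ⟨_, ⟨T, hT, hT1, rfl⟩, hTG, le_rfl⟩
    obtain ⟨M, hM, hmax⟩ := h𝒮.exists_maximal h𝒮ne
    obtain ⟨hMloc, hMne, hNM⟩ := hM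
    have hMc : Cfsg.IsPConstrained p ↥M := by
      apply ha M hMloc hMne
      intro M' hM' hne' hle
      exact le_antisymm hle (hmax ⟨hM', hne', hNM.trans hle⟩ hle)
    rw [isPConstrained_iff hpp] at hMc
    apply pLayer_normalizer_eq_bot_of_le hpp hMc (Subgroup.le_normalizer.trans hNM) hT
    intro K' _
    exact (Subgroup.map_subtype_le _).trans hNM
  · -- an element of order `p` in `Z(T)`
    haveI : Nontrivial ↥T := (Subgroup.nontrivial_iff_ne_bot T).2 hT1
    haveI : Nontrivial ↥(Subgroup.center ↥T) := hT.center_nontrivial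
    have hZp : IsPGroup p ↥(Subgroup.center ↥T) := hT.to_subgroup _
    obtain ⟨k, hk⟩ := IsPGroup.iff_card.1 hZp
    have hk0 : k ≠ 0 := by
      rintro rfl
      rw [pow_zero] at hk
      have := (Nat.card_eq_one_iff_unique.1 hk).1
      exact not_subsingleton _ this
    have hdvd : p ∣ Nat.card ↥(Subgroup.center ↥T) := by
      rw [hk]; exact dvd_pow_self p hk0
    obtain ⟨z, hz⟩ := exists_prime_orderOf_dvd_card' p hdvd
    have hx : orderOf (((z : ↥T) : G)) = p := by
      rw [Subgroup.orderOf_coe, Subgroup.orderOf_coe]; exact hz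
    have hxT : ∀ t ∈ T, t * ((z : ↥T) : G) = ((z : ↥T) : G) * t := by
      intro t ht
      have h1 := Subgroup.mem_center_iff.1 z.2 ⟨t, ht⟩
      exact congrArg Subtype.val h1
    have hH := hb _ hx
    rw [isPConstrained_iff hpp] at hH
    have hTH : T ≤ Subgroup.centralizer ({((z : ↥T) : G)} : Set G) := by
      intro t ht
      rw [Subgroup.mem_centralizer_iff]
      intro y hy
      rw [Set.mem_singleton_iff] at hy
      rw [hy]
      exact (hxT t ht).symm
    apply pLayer_normalizer_eq_bot_of_le hpp hH hTH hT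
    intro K' hK'
    have h1 := pcomp_map_le_centralizer hpp (Subgroup.le_normalizer) le_rfl hT hK'
    refine h1.trans (Subgroup.centralizer_le ?_)
    intro y hy
    rw [Set.mem_singleton_iff] at hy
    rw [hy]
    exact (z : ↥T).2

end Cfsg.Agent.S3247
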