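import Cfsg.Statements.S3269
-- import your own Cfsg.Agent.* helpers here
import Cfsg.Agent.Lib_helper19_QR
import Cfsg.Agent.S0215

set_option autoImplicit false
open Cfsg

namespace Cfsg.Agent.S3269

/-- Let G be a finite group whose Sylow 2-subgroup S is an internal direct product Q × R with Q generalized quaternion (of order at least 8) and R a subgroup all of whose involutions are central in R. Then G is not simple. In particular no finite simple group has a Sylow 2-subgroup that is a direct product of one or more generalized quaternion groups. -/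
theorem result {G : Type*} [Group G] [Finite G]
    (S : Sylow 2 G) (Q R : Subgroup G) (hQR : Cfsg.IsInternalDirectProduct Q R (S : Subgroup G))
    (n : ℕ) (hn : 1 ≤ n) (eQ : ↥Q ≃* QuaternionGroup (2 ^ n))
    (hR : ∀ r ∈ R, orderOf r = 2 → ∀ s ∈ R, r * s = s * r) :
    ¬ IsSimpleGroup G := by
  intro hsimp
  obtain ⟨z, hq⟩ := Cfsg.Agent.helper19.QR.quatLike_of_equiv Q n hn eQ
  have hdp : Cfsg.Agent.helper19.QR.DP Q R (S : Subgroup G) :=
    ⟨hQR.1, hQR.2.1, hQR.2.2.1, hQR.2.2.2.1, hQR.2.2.2.2⟩
  obtain ⟨w, hw2, hwS, hiso⟩ := Cfsg.Agent.helper19.QR.exists_isolated S hdp hq hR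
  obtain ⟨N, hN, hodd, hcomm⟩ := Cfsg.Agent.S0215.result S w hw2 hwS hiso
  rcases hsimp.eq_bot_or_eq_top_of_normal N hN with hb | ht
  · -- `w` is central
    have hwc : w ∈ Subgroup.center G := by
      rw [Subgroup.mem_center_iff]
      intro g
      have h1 := hcomm g
      rw [hb, Subgroup.mem_bot] at h1
      have h2 : w * g = g * w := by
        calc w * g = (w * g * w⁻¹ * g⁻¹) * g * w := by group
          _ = g * w := by rw [h1]; group
      exact h2.symm
    rcases hsimp.eq_bot_or_eq_top_of_normal (Subgroup.center G) inferInstance with hcb | hct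
    · rw [hcb, Subgroup.mem_bot] at hwc
      rw [hwc, orderOf_one] at hw2
      omega
    · obtain ⟨x, hx, y, hy, hxy⟩ := hq.comm
      have hxc : x ∈ Subgroup.center G := by rw [hct]; trivial
      apply hq.ne_one
      rw [← hxy]
      have h3 := (Subgroup.mem_center_iff.mp hxc) y
      calc x * y * x⁻¹ * y⁻¹ = (y * x) * x⁻¹ * y⁻¹ := by rw [h3]
        _ = 1 := by group
  · rw [ht] at hodd
    have h2 : 2 ∣ Nat.card G := hw2 ▸ orderOf_dvd_natCard w
    rw [Subgroup.card_top] at hodd
    exact (Nat.not_even_iff_odd.mpr hodd) (even_iff_two_dvd.mpr h2)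

end Cfsg.Agent.S3269
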