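import Cfsg.Statements.S3276
import Mathlib

set_option autoImplicit false
open Cfsg

namespace Cfsg.Agent.S3276

theorem sq_of_order2 {G : Type*} [Group G] {a : G} (h : orderOf a = 2) : a * a = 1 := by
  have := pow_orderOf_eq_one a
  rw [h, pow_two] at this
  exact this

theorem ne_one_of_order2 {G : Type*} [Group G] {a : G} (h : orderOf a = 2) : a ≠ 1 := by
  intro h1
  rw [h1, orderOf_one] at h
  omega

theorem order2_of {G : Type*} [Group G] {a : G} (h : a * a = 1) (h1 : a ≠ 1) : orderOf a = 2 := by
  have : Fact (Nat.Prime 2) := ⟨Nat.prime_two⟩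
  apply orderOf_eq_prime _ h1
  rw [pow_two]; exact h

/-- Two involutions are conjugate, or some involution commutes with both. -/
theorem dihedral {G : Type*} [Group G] [Finite G] (x z : G) (hx : x * x = 1) (hz : z * z = 1) :
    IsConj x z ∨ ∃ u : G, orderOf u = 2 ∧ Commute u x ∧ Commute z u := by
  set r := x * z with hr
  have hxinv : x⁻¹ = x := inv_eq_of_mul_eq_one_right hx
  have hzinv : z⁻¹ = z := inv_eq_of_mul_eq_one_right hz
  have hrinv : r⁻¹ = z * x := by
    rw [hr, mul_inv_rev, hxinv, hzinv]
  have hxr : ∀ k : ℕ, x * r ^ k * x = (r ^ k)⁻¹ := by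
    intro k
    have h1 : x * r * x⁻¹ = r⁻¹ := by
      rw [hrinv, hxinv, hr]
      calc x * (x * z) * x = (x * x) * z * x := by group
        _ = z * x := by rw [hx, one_mul]
    have h2 : x * r ^ k * x⁻¹ = (x * r * x⁻¹) ^ k := (conj_pow (a := x) (b := r) (i := k)).symm
    rw [h1, inv_pow, hxinv] at h2
    exact h2
  have hzr : ∀ k : ℕ, z * r ^ k * z = (r ^ k)⁻¹ := by
    intro k
    have h1 : z * r * z⁻¹ = r⁻¹ := by
      rw [hrinv, hzinv, hr]
      calc z * (x * z) * z = z * x * (z * z) := by group
        _ = z * x := by rw [hz, mul_one]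
    have h2 : z * r ^ k * z⁻¹ = (z * r * z⁻¹) ^ k := (conj_pow (a := z) (b := r) (i := k)).symm
    rw [h1, inv_pow, hzinv] at h2
    exact h2
  have hn : 0 < orderOf r := orderOf_pos r
  rcases Nat.even_or_odd (orderOf r) with ⟨k, hk⟩ | ⟨k, hk⟩
  · -- even order
    right
    have hk0 : 0 < k := by omega
    set u := r ^ k with hu
    have hu2 : u * u = 1 := by
      rw [hu, ← pow_add, ← hk, pow_orderOf_eq_one]
    have hu1 : u ≠ 1 := by
      rw [hu]
      exact pow_ne_one_of_lt_orderOf hk0.ne' (by omega)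
    have huinv : u⁻¹ = u := inv_eq_of_mul_eq_one_right hu2
    refine ⟨u, order2_of hu2 hu1, ?_, ?_⟩
    · -- u x = x u
      have := hxr k
      rw [← hu, huinv] at this
      -- x * u * x = u
      show u * x = x * u
      calc u * x = (x * u * x) * x := by rw [this]
        _ = x * u * (x * x) := by group
        _ = x * u := by rw [hx, mul_one]
    · have := hzr k
      rw [← hu, huinv] at this
      show z * u = u * z
      calc z * u = z * u * (z * z) := by rw [hz, mul_one]
        _ = (z * u * z) * z := by group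
        _ = u * z := by rw [this]
  · -- odd order: conjugate
    left
    rw [isConj_iff]
    refine ⟨r ^ k, ?_⟩
    have h1 := hxr k
    -- x * (r^k)⁻¹ = r^k * x
    have h2 : x * (r ^ k)⁻¹ = r ^ k * x := by
      have : x * (r ^ k)⁻¹ = x * (x * r ^ k * x) := by rw [h1]
      rw [this]
      calc x * (x * r ^ k * x) = (x * x) * r ^ k * x := by group
        _ = r ^ k * x := by rw [hx, one_mul]
    have h3 : r ^ k * r ^ k = r⁻¹ := by
      have : r ^ k * r ^ k * r = 1 := by
        rw [← pow_add, ← pow_succ, ← two_mul, ← hk, pow_orderOf_eq_one]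
      exact eq_inv_of_mul_eq_one_left this
    calc r ^ k * x * (r ^ k)⁻¹ = r ^ k * (x * (r ^ k)⁻¹) := by group
      _ = r ^ k * (r ^ k * x) := by rw [h2]
      _ = (r ^ k * r ^ k) * x := by group
      _ = z * x * x := by rw [h3, hrinv]
      _ = z * (x * x) := by group
      _ = z := by rw [hx, mul_one]

/-- Let x and y be commuting, non-conjugate involutions of a finite group G, and suppose that for every involution u commuting with x, each conjugate of y that commutes with u also commutes with y. Then the normal closure of y is a proper, normal, elementary abelian 2-subgroup of G; and if y is the only involution of that normal closure commuting with x, it has order at most 4. -/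
theorem result {G : Type*} [Group G] [Finite G] (x y : G) (hx : orderOf x = 2) (hy : orderOf y = 2)
    (hxy : Commute x y) (hnc : ¬ IsConj x y)
    (hstar : ∀ u : G, orderOf u = 2 → Commute u x → ∀ g : G, Commute (g * y * g⁻¹) u → Commute (g * y * g⁻¹) y) :
    Subgroup.normalClosure ({y} : Set G) ≠ ⊤ ∧ Cfsg.IsElementaryAbelian 2 (Subgroup.normalClosure ({y} : Set G)) ∧
      ((∀ u ∈ Subgroup.normalClosure ({y} : Set G), orderOf u = 2 → Commute u x → u = y) →
        Nat.card ↥(Subgroup.normalClosure ({y} : Set G)) ≤ 4) := by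
  have hx2 := sq_of_order2 hx
  have hy2 := sq_of_order2 hy
  have hx1 := ne_one_of_order2 hx
  have hy1 := ne_one_of_order2 hy
  have hxinv : x⁻¹ = x := inv_eq_of_mul_eq_one_right hx2
  -- (1) every conjugate of y commutes with y
  have hcomm : ∀ g : G, Commute (g * y * g⁻¹) y := by
    intro g
    have hz2 : (g * y * g⁻¹) * (g * y * g⁻¹) = 1 := by
      calc (g * y * g⁻¹) * (g * y * g⁻¹) = g * (y * y) * g⁻¹ := by group
        _ = 1 := by rw [hy2]; group
    rcases dihedral x (g * y * g⁻¹) hx2 hz2 with hc | ⟨u, hu, hux, hzu⟩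
    · exfalso
      apply hnc
      have : IsConj y (g * y * g⁻¹) := isConj_iff.2 ⟨g, rfl⟩
      exact hc.trans this.symm
    · exact hstar u hu hux g hzu
  -- (2) conjugates commute pairwise
  have hpair : ∀ a ∈ Group.conjugatesOfSet ({y} : Set G), ∀ b ∈ Group.conjugatesOfSet ({y} : Set G), a * b = b * a := by
    intro a ha b hb
    rw [Group.mem_conjugatesOfSet_iff] at ha hb
    obtain ⟨y1, hy1', hca⟩ := ha
    obtain ⟨y2, hy2', hcb⟩ := hb
    rw [Set.mem_singleton_iff] at hy1' hy2'
    rw [hy1'] at hca
    rw [hy2'] at hcb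
    obtain ⟨g, rfl⟩ := isConj_iff.1 hca
    obtain ⟨h, rfl⟩ := isConj_iff.1 hcb
    have h1 := (hcomm (h⁻¹ * g)).map (MulAut.conj h)
    simp only [MulAut.conj_apply, mul_inv_rev, inv_inv] at h1
    have e1 : h * (h⁻¹ * g * y * (g⁻¹ * h)) * h⁻¹ = g * y * g⁻¹ := by group
    rw [e1] at h1
    exact h1
  set N : Subgroup G := Subgroup.normalClosure ({y} : Set G) with hN
  have hNdef : N = Subgroup.closure (Group.conjugatesOfSet ({y} : Set G)) := rfl
  have hNcomm : IsMulCommutative ↥N := by
    rw [hNdef]; exact Subgroup.isMulCommutative_closure hpair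
  have hmc : ∀ a ∈ N, ∀ b ∈ N, a * b = b * a := fun a ha b hb =>
    setLike_mul_comm ha hb
  -- (4) exponent 2
  have hexp : ∀ a ∈ N, a * a = 1 := by
    intro a ha
    rw [hNdef] at ha
    induction ha using Subgroup.closure_induction with
    | mem z hz =>
      rw [Group.mem_conjugatesOfSet_iff] at hz
      obtain ⟨y1, hy1', hc⟩ := hz
      rw [Set.mem_singleton_iff] at hy1'
      rw [hy1'] at hc
      obtain ⟨g, rfl⟩ := isConj_iff.1 hc
      calc (g * y * g⁻¹) * (g * y * g⁻¹) = g * (y * y) * g⁻¹ := by group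
        _ = 1 := by rw [hy2]; group
    | one => simp
    | mul a b ha hb iha ihb =>
      have hab : a * b = b * a := hmc a (hNdef ▸ ha) b (hNdef ▸ hb)
      calc a * b * (a * b) = a * (b * a) * b := by group
        _ = a * (a * b) * b := by rw [hab]
        _ = (a * a) * (b * b) := by group
        _ = 1 := by rw [iha, ihb, one_mul]
    | inv a ha iha =>
      calc a⁻¹ * a⁻¹ = (a * a)⁻¹ := by group
        _ = 1 := by rw [iha, inv_one]
  have hyN : y ∈ N := Subgroup.subset_normalClosure (Set.mem_singleton y)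
  refine ⟨?_, ⟨hNcomm, fun a ha => by rw [pow_two]; exact hexp a ha⟩, ?_⟩
  · -- N ≠ ⊤
    intro htop
    have hab : ∀ a b : G, a * b = b * a := fun a b =>
      hmc a (htop ▸ Subgroup.mem_top a) b (htop ▸ Subgroup.mem_top b)
    have hle : N ≤ Subgroup.zpowers y := by
      rw [hNdef, Subgroup.closure_le]
      intro z hz
      rw [Group.mem_conjugatesOfSet_iff] at hz
      obtain ⟨y1, hy1', hc⟩ := hz
      rw [Set.mem_singleton_iff] at hy1'
      rw [hy1'] at hc
      obtain ⟨g, rfl⟩ := isConj_iff.1 hc
      have : g * y * g⁻¹ = y := by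
        rw [hab g y]; group
      rw [this]
      exact Subgroup.mem_zpowers y
    have hxN : x ∈ Subgroup.zpowers y := hle (htop ▸ Subgroup.mem_top x)
    obtain ⟨k, hk⟩ := Subgroup.mem_zpowers_iff.1 hxN
    have hyz2 : y ^ (2 : ℤ) = 1 := by
      rw [zpow_ofNat, pow_two]; exact hy2
    have hk' : y ^ k = y ^ (k % 2) := by
      conv_lhs => rw [← Int.emod_add_mul_ediv k 2, zpow_add, zpow_mul, hyz2, one_zpow, mul_one]
    rcases Int.emod_two_eq_zero_or_one k with h0 | h0
    · rw [hk', h0, zpow_zero] at hk
      exact hx1 hk.symm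
    · rw [hk', h0, zpow_one] at hk
      apply hnc
      rw [← hk]
  · -- the bound
    intro huniq
    have hNn : N.Normal := Subgroup.normalClosure_normal
    -- the homomorphism ψ
    let ψ : ↥N →* ↥N :=
      { toFun := fun a => ⟨(a : G) * (x * a * x⁻¹), N.mul_mem a.2 (hNn.conj_mem a a.2 x)⟩
        map_one' := by
          apply Subtype.ext
          simp
        map_mul' := by
          intro a b
          apply Subtype.ext
          show ((a : G) * b) * (x * ((a : G) * b) * x⁻¹) = ((a : G) * (x * a * x⁻¹)) * ((b : G) * (x * b * x⁻¹))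
          have hc : (b : G) * (x * a * x⁻¹) = (x * a * x⁻¹) * b :=
            hmc _ b.2 _ (hNn.conj_mem a a.2 x)
          calc ((a : G) * b) * (x * ((a : G) * b) * x⁻¹)
              = (a : G) * ((b : G) * (x * a * x⁻¹)) * (x * b * x⁻¹) := by group
            _ = (a : G) * ((x * a * x⁻¹) * b) * (x * b * x⁻¹) := by rw [hc]
            _ = ((a : G) * (x * a * x⁻¹)) * ((b : G) * (x * b * x⁻¹)) := by group }
    have hψ : ∀ a : ↥N, ((ψ a : ↥N) : G) = (a : G) * (x * a * x⁻¹) := fun a => rfl
    let K : Subgroup ↥N := Subgroup.zpowers (⟨y, hyN⟩ : ↥N)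
    have hK : Nat.card K = 2 := by
      rw [Nat.card_zpowers, Subgroup.orderOf_mk, hy]
    have hA : ∀ u : ↥N, Commute (u : G) x → u ∈ K := by
      intro u hu
      by_cases h1 : (u : G) = 1
      · have : u = 1 := Subtype.ext h1
        rw [this]; exact K.one_mem
      · have h2 : orderOf (u : G) = 2 := order2_of (hexp u u.2) h1
        have h3 := huniq u u.2 h2 hu
        have : u = ⟨y, hyN⟩ := Subtype.ext h3
        rw [this]; exact Subgroup.mem_zpowers _
    have hker : ψ.ker ≤ K := by
      intro a ha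
      rw [MonoidHom.mem_ker] at ha
      have h1 : (a : G) * (x * a * x⁻¹) = 1 := by
        rw [← hψ, ha]; rfl
      apply hA
      have haa := hexp a a.2
      -- x a x⁻¹ = a⁻¹ = a
      have h2 : x * a * x⁻¹ = (a : G) := by
        have : x * a * x⁻¹ = (a : G)⁻¹ := eq_inv_of_mul_eq_one_right h1
        rw [this]; exact inv_eq_of_mul_eq_one_right haa
      show (a : G) * x = x * a
      calc (a : G) * x = (x * a * x⁻¹) * x := by rw [h2]
        _ = x * a := by group
    have hrange : ψ.range ≤ K := by
      rintro _ ⟨a, rfl⟩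
      apply hA
      rw [hψ]
      have hc : (a : G) * (x * a * x⁻¹) = (x * a * x⁻¹) * a :=
        hmc _ a.2 _ (hNn.conj_mem a a.2 x)
      show (a : G) * (x * a * x⁻¹) * x = x * ((a : G) * (x * a * x⁻¹))
      calc (a : G) * (x * a * x⁻¹) * x = (x * a * x⁻¹) * a * x := by rw [hc]
        _ = x * a * (x⁻¹ * a * x) := by group
        _ = x * a * (x * a * x⁻¹) := by rw [hxinv]
        _ = x * ((a : G) * (x * a * x⁻¹)) := by group
    have c1 : Nat.card ψ.ker ≤ 2 := hK ▸ Subgroup.card_le_of_le hker
    have c2 : Nat.card ψ.range ≤ 2 := hK ▸ Subgroup.card_le_of_le hrange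
    have c3 : Nat.card ψ.ker * ψ.ker.index = Nat.card ↥N := Subgroup.card_mul_index ψ.ker
    rw [Subgroup.index_ker] at c3
    calc Nat.card ↥N = Nat.card ψ.ker * Nat.card ψ.range := c3.symm
      _ ≤ 2 * 2 := Nat.mul_le_mul c1 c2
      _ = 4 := by norm_num

end Cfsg.Agent.S3276
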