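import Cfsg.Statements.S3277
import Mathlib
import Cfsg.Agent.H16AF9
-- import your own Cfsg.Agent.* helpers here

set_option autoImplicit false
open Cfsg

namespace Cfsg.Agent.S3277

/-- Let G be a finite group containing an involution whose centralizer is elementary abelian of order 4. If G has no normal 2-complement and no normal elementary abelian 2-subgroup of order 2 or 4, then G is isomorphic to the alternating group of degree 5 (that is, to PSL(2, 5)). -/
theorem result {G : Type*} [Group G] [Finite G] (x : G) (hx : orderOf x = 2)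
    (hC4 : Nat.card ↥(Subgroup.centralizer ({x} : Set G)) = 4) (hCe : ∀ c ∈ Subgroup.centralizer ({x} : Set G), c ^ 2 = 1)
    (hnc : ¬ Cfsg.HasNormalPComplement 2 G)
    (hne : ∀ E : Subgroup G, E.Normal → Cfsg.IsElementaryAbelian 2 E → Nat.card ↥E ≠ 2 ∧ Nat.card ↥E ≠ 4) :
    Nonempty (G ≃* ↥(alternatingGroup (Fin 5))) := by
  classical
  have ht1 : x ≠ 1 := by
    intro h
    rw [h, orderOf_one] at hx
    norm_num at hx
  have ht2 : x * x = 1 := by
    have := pow_orderOf_eq_one x
    rw [hx, pow_two] at this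
    exact this
  obtain ⟨z, hzc, hz1, hzt, hV⟩ := Cfsg.Agent.H16AF.four_elems ht1 ht2 hC4
  have hz2 : z * z = 1 := by
    have := hCe z (Cfsg.Agent.H16AF.mem_cent.mpr hzc)
    rw [pow_two] at this
    exact this
  have B : Cfsg.Agent.H16AF.Base x z := ⟨ht1, ht2, hzc, hz1, hzt, hz2, hV⟩
  by_cases h1 : Cfsg.Agent.H16AF.Cj x z
  · by_cases h2 : Cfsg.Agent.H16AF.Cj x (x * z)
    · exact Cfsg.Agent.H16AF.case_one B hC4 h1 h2 hne
    · exfalso
      have B' := B.swap
      have h1' : Cfsg.Agent.H16AF.Cj x (x * (x * z)) := by rw [B.t_tz]; exact h1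
      obtain ⟨E, hEn, hEe, hEc⟩ := Cfsg.Agent.H16AF.case_two B' h1' h2
      rcases hEc with h | h
      · exact (hne E hEn hEe).1 h
      · exact (hne E hEn hEe).2 h
  · by_cases h2 : Cfsg.Agent.H16AF.Cj x (x * z)
    · exfalso
      obtain ⟨E, hEn, hEe, hEc⟩ := Cfsg.Agent.H16AF.case_two B h2 h1
      rcases hEc with h | h
      · exact (hne E hEn hEe).1 h
      · exact (hne E hEn hEe).2 h
    · exact absurd (Cfsg.Agent.H16AF.case_three B hC4 h1 h2) hnc

end Cfsg.Agent.S3277
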