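import Cfsg.Statements.S3279
-- import your own Cfsg.Agent.* helpers here
import Cfsg.Agent.Lib_helper19_C3

set_option autoImplicit false
open Cfsg

namespace Cfsg.Agent.S3279

/-- Let G be a finite simple group and x an involution of G whose centralizer contains at most three involutions. Then C_G(x) contains a Sylow 2-subgroup of G, and all involutions of G are conjugate. -/
theorem result {G : Type*} [Group G] [Finite G] [IsSimpleGroup G] (x : G) (hx : orderOf x = 2)
    (h3 : Nat.card {u : ↥(Subgroup.centralizer ({x} : Set G)) // orderOf u = 2} ≤ 3) :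
    (∃ S : Sylow 2 G, (S : Subgroup G) ≤ Subgroup.centralizer ({x} : Set G)) ∧
      ∀ u v : G, orderOf u = 2 → orderOf v = 2 → IsConj u v := by
  classical
  by_cases hab : ∀ a b : G, a * b = b * a
  · -- abelian case: `G` has order 2
    refine ⟨⟨default, ?_⟩, ?_⟩
    · intro s _
      rw [Subgroup.mem_centralizer_singleton_iff]
      exact hab s x
    · intro u v ou ov
      have hn : (Subgroup.zpowers u).Normal :=
        ⟨fun n hn g => by rw [hab g n, mul_inv_cancel_right]; exact hn⟩
      have hu1 : u ≠ 1 := Cfsg.Agent.helper19.C3.ne_one_of_order_two ou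
      have hv1 : v ≠ 1 := Cfsg.Agent.helper19.C3.ne_one_of_order_two ov
      rcases IsSimpleGroup.eq_bot_or_eq_top_of_normal _ hn with hb | ht
      · exfalso
        apply hu1
        have : u ∈ Subgroup.zpowers u := Subgroup.mem_zpowers u
        rw [hb, Subgroup.mem_bot] at this
        exact this
      · have hcard : Nat.card G = 2 := by
          rw [← Subgroup.card_top (G := G), ← ht, Nat.card_zpowers, ou]
        obtain ⟨w, hw1, hw2⟩ := (Nat.card_eq_two_iff' (1 : G)).mp hcard
        have e1 : u = w := hw2 u hu1
        have e2 : v = w := hw2 v hv1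
        rw [e1, e2]
  · have h3' := Cfsg.Agent.helper19.C3.atMost3_of_card x h3
    obtain ⟨hS, hconj⟩ := Cfsg.Agent.helper19.C3.main_nonabelian hab x hx h3'
    refine ⟨hS, ?_⟩
    intro u v ou ov
    obtain ⟨a, ha⟩ := hconj u ou
    obtain ⟨b, hb⟩ := hconj v ov
    rw [isConj_iff]
    refine ⟨b * a⁻¹, ?_⟩
    rw [← ha, ← hb]
    group

end Cfsg.Agent.S3279
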