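import Cfsg.Statements.S3294
import Mathlib
import Cfsg.Agent.S1264
import Cfsg.Agent.Lib_helper1_Core
import Cfsg.Agent.Lib_helper9_Cores

set_option autoImplicit false
open Cfsg

namespace Cfsg.Agent.S3294

theorem exists_nat_pow {X : Type*} [Group X] [Finite X] (x g : X) (hg : g ∈ Subgroup.zpowers x) :
    ∃ a : ℕ, g = x ^ a := by
  rw [← mem_powers_iff_mem_zpowers, Submonoid.mem_powers_iff] at hg
  obtain ⟨a, ha⟩ := hg
  exact ⟨a, ha.symm⟩

/-- Lemma D. -/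
theorem isPGroup_of_cyclic_index_two {H : Type*} [Group H] [Finite H] (P C : Subgroup H) [P.Normal]
    (hP2 : IsPGroup 2 ↥P) (hCP : C ≤ P) (hcyc : IsCyclic ↥C)
    (hCn : ∀ g : H, ∀ c ∈ C, g * c * g⁻¹ ∈ C)
    (hidx : ∀ x ∈ P, ∀ y ∈ P, x ∉ C → y ∉ C → x⁻¹ * y ∈ C)
    (hCent : Subgroup.centralizer (P : Set H) ≤ P) : IsPGroup 2 H := by
  have : Fact (Nat.Prime 2) := ⟨Nat.prime_two⟩
  obtain ⟨a, ha⟩ := hcyc.exists_generator
  have hC2 : IsPGroup 2 ↥C := hP2.to_le hCP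
  obtain ⟨m, hm⟩ := (IsPGroup.iff_orderOf.mp hC2) a
  have hoa : orderOf (a : H) = 2 ^ m := by rw [Subgroup.orderOf_coe, hm]
  have hgen : ∀ x ∈ C, x ∈ Subgroup.zpowers (a : H) := by
    intro x hx
    obtain ⟨k, hk⟩ := Subgroup.mem_zpowers_iff.mp (ha ⟨x, hx⟩)
    refine Subgroup.mem_zpowers_iff.mpr ⟨k, ?_⟩
    have := congrArg Subtype.val hk
    simpa using this
  have hpowC : ∀ c ∈ C, c ^ (2 ^ m) = 1 := by
    intro c hc
    obtain ⟨k, hk⟩ := Subgroup.mem_zpowers_iff.mp (hgen c hc)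
    rw [← hk, ← zpow_natCast, ← zpow_mul, mul_comm, zpow_mul, zpow_natCast, ← hoa, pow_orderOf_eq_one, one_zpow]
  intro g
  have hconj : g * (a : H) * g⁻¹ ∈ C := hCn g a a.2
  obtain ⟨r, hr⟩ := exists_nat_pow (a : H) _ (hgen _ hconj)
  have hco : Nat.Coprime r (2 ^ m) := by
    have h1 : orderOf (g * (a : H) * g⁻¹) = 2 ^ m := by
      have := MulEquiv.orderOf_eq (MulAut.conj g) (a : H)
      rw [MulAut.conj_apply] at this
      rw [this, hoa]
    rw [hr, orderOf_pow, hoa] at h1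
    have h2 : (2 ^ m).gcd r = 1 := by
      rcases Nat.div_eq_self.mp h1 with h3 | h3
      · exact absurd h3 (by positivity)
      · exact h3
    rw [Nat.Coprime, Nat.gcd_comm]; exact h2
  have hpow : ∀ j : ℕ, g ^ j * (a : H) * (g ^ j)⁻¹ = (a : H) ^ (r ^ j) := by
    intro j
    induction j with
    | zero => simp
    | succ j ih =>
      have e : g ^ (j + 1) * (a : H) * (g ^ (j + 1))⁻¹ = g * (g ^ j * (a : H) * (g ^ j)⁻¹) * g⁻¹ := by
        rw [pow_succ' g j]; group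
      rw [e, ih, ← conj_pow, hr, ← pow_mul, pow_succ']
  have hcomm : g ^ (2 ^ (m - 1)) * (a : H) * (g ^ (2 ^ (m - 1)))⁻¹ = (a : H) := by
    rw [hpow]
    conv_rhs => rw [← pow_one (a : H)]
    rw [pow_eq_pow_iff_modEq, hoa]
    rcases Nat.eq_zero_or_pos m with hm0 | hm0
    · subst hm0; simp [Nat.modEq_one]
    · have h3 := Nat.ModEq.pow_totient hco
      have h4 : (2 ^ m).totient = 2 ^ (m - 1) := by
        rw [Nat.totient_prime_pow Nat.prime_two hm0]; norm_num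
      rwa [h4] at h3
  set g₁ := g ^ (2 ^ (m - 1)) with hg₁
  have hcomm' : g₁ * (a : H) = (a : H) * g₁ := mul_inv_eq_iff_eq_mul.mp hcomm
  have hg₁C : ∀ c ∈ C, g₁ * c = c * g₁ := by
    intro c hc
    obtain ⟨k, hk⟩ := Subgroup.mem_zpowers_iff.mp (hgen c hc)
    rw [← hk]
    exact ((Commute.zpow_left (show Commute (a : H) g₁ from hcomm'.symm) k)).eq.symm
  -- g₂ = g₁ ^ (2^m) centralizes P
  have hcent : g₁ ^ (2 ^ m) ∈ Subgroup.centralizer (P : Set H) := by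
    rw [Subgroup.mem_centralizer_iff]
    intro x hx
    by_cases hxC : x ∈ C
    · exact ((Commute.pow_right (show Commute x g₁ from (hg₁C x hxC).symm) (2 ^ m))).eq
    · -- g₁ x g₁⁻¹ = x c
      have h1 : g₁ * x * g₁⁻¹ ∈ P := Subgroup.Normal.conj_mem inferInstance x hx g₁
      have h2 : g₁ * x * g₁⁻¹ ∉ C := by
        intro h
        apply hxC
        have := hCn g₁⁻¹ _ h
        have e : g₁⁻¹ * (g₁ * x * g₁⁻¹) * g₁⁻¹⁻¹ = x := by group
        rwa [e] at this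
      have hc := hidx x hx _ h1 hxC h2
      set c := x⁻¹ * (g₁ * x * g₁⁻¹) with hcdef
      have h3 : g₁ * x = x * c * g₁ := by rw [hcdef]; group
      have hj : ∀ j : ℕ, g₁ ^ j * x = x * c ^ j * g₁ ^ j := by
        intro j
        induction j with
        | zero => simp
        | succ j ih =>
          have hcg : g₁ * c ^ j = c ^ j * g₁ := by
            exact ((Commute.pow_right (show Commute g₁ c from hg₁C c hc) j)).eq
          calc g₁ ^ (j + 1) * x = g₁ * (g₁ ^ j * x) := by rw [pow_succ' g₁ j]; group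
            _ = g₁ * (x * c ^ j * g₁ ^ j) := by rw [ih]
            _ = (g₁ * x) * c ^ j * g₁ ^ j := by group
            _ = (x * c * g₁) * c ^ j * g₁ ^ j := by rw [h3]
            _ = x * c * (g₁ * c ^ j) * g₁ ^ j := by group
            _ = x * c * (c ^ j * g₁) * g₁ ^ j := by rw [hcg]
            _ = x * c ^ (j + 1) * g₁ ^ (j + 1) := by rw [pow_succ' c j, pow_succ' g₁ j]; group
      have := hj (2 ^ m)
      rw [hpowC c hc, mul_one] at this
      exact this.symm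
  have hgP := hCent hcent
  obtain ⟨k, hk⟩ := hP2 ⟨_, hgP⟩
  refine ⟨(m - 1) + m + k, ?_⟩
  have := congrArg Subtype.val hk
  rw [pow_add, pow_add, pow_mul, pow_mul]
  simpa using this

open QuaternionGroup

theorem quat_comm_a2 (N : ℕ) (i : ZMod (2 * N)) :
    (a 1 : QuaternionGroup N) * xa i * (a 1)⁻¹ * (xa i)⁻¹ = a 2 := by
  rw [mul_inv_eq_iff_eq_mul, mul_inv_eq_iff_eq_mul, a_mul_xa, a_mul_xa, xa_mul_a]
  congr 1
  ring

theorem quat_xa_inv_mul_xa (N : ℕ) (i j : ZMod (2 * N)) :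
    ∃ k, (xa i : QuaternionGroup N)⁻¹ * xa j = a k := by
  rcases hr : (xa i : QuaternionGroup N)⁻¹ * xa j with k | k
  · exact ⟨k, rfl⟩
  · exfalso
    have h : (xa j : QuaternionGroup N) = xa i * xa k := by rw [← hr]; group
    rw [xa_mul_xa] at h
    cases h

theorem quat_a_mem_zpowers (N : ℕ) [NeZero N] (i : ZMod (2 * N)) :
    (a i : QuaternionGroup N) ∈ Subgroup.zpowers (a 1 : QuaternionGroup N) := by
  refine Subgroup.mem_zpowers_iff.mpr ⟨(i.val : ℤ), ?_⟩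
  rw [zpow_natCast, a_one_pow, ZMod.natCast_zmod_val]

theorem quat_a2_pow4_ne (n : ℕ) (hn : 3 ≤ n) : (a 2 : QuaternionGroup (2 ^ n)) ^ 4 ≠ 1 := by
  have h2 : (a 2 : QuaternionGroup (2 ^ n)) = (a 1) ^ 2 := by
    rw [a_one_pow]; norm_num
  rw [h2, ← pow_mul]
  apply pow_ne_one_of_lt_orderOf (by norm_num)
  rw [orderOf_a_one]
  have : 2 ^ 3 ≤ 2 ^ n := Nat.pow_le_pow_right (by norm_num) hn
  omega


theorem isPGroup_of_quaternion {H : Type*} [Group H] [Finite H] (P S : Subgroup H) [P.Normal]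
    (hP2 : IsPGroup 2 ↥P) (hPS : P ≤ S) (n : ℕ) (hn : 3 ≤ n)
    (e : ↥S ≃* QuaternionGroup (2 ^ n))
    (hCent : Subgroup.centralizer (P : Set H) ≤ P) : IsPGroup 2 H := by
  have : NeZero (2 ^ n) := ⟨by positivity⟩
  let C : Subgroup H :=
    { carrier := {x | ∃ hx : x ∈ P, ∃ i, e ⟨x, hPS hx⟩ = a i}
      one_mem' := ⟨P.one_mem, 0, by
        have h1 : (⟨1, hPS P.one_mem⟩ : ↥S) = 1 := rfl
        rw [h1, map_one, a_zero]⟩
      mul_mem' := by
        rintro x y ⟨hx, i, hi⟩ ⟨hy, j, hj⟩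
        refine ⟨P.mul_mem hx hy, i + j, ?_⟩
        have h1 : (⟨x * y, hPS (P.mul_mem hx hy)⟩ : ↥S) = ⟨x, hPS hx⟩ * ⟨y, hPS hy⟩ := rfl
        rw [h1, map_mul, hi, hj, a_mul_a]
      inv_mem' := by
        rintro x ⟨hx, i, hi⟩
        refine ⟨P.inv_mem hx, -i, ?_⟩
        have h1 : (⟨x⁻¹, hPS (P.inv_mem hx)⟩ : ↥S) = (⟨x, hPS hx⟩ : ↥S)⁻¹ := rfl
        rw [h1, map_inv, hi]
        apply inv_eq_of_mul_eq_one_right
        rw [a_mul_a, add_neg_cancel, a_zero] }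
  have hCP : C ≤ P := fun x hx => hx.1
  have hmemC : ∀ x (hx : x ∈ P), x ∈ C ↔ ∃ i, e ⟨x, hPS hx⟩ = a i := by
    intro x hx
    constructor
    · rintro ⟨_, i, hi⟩; exact ⟨i, hi⟩
    · rintro ⟨i, hi⟩; exact ⟨hx, i, hi⟩
  have hnotC : ∀ x (hx : x ∈ P), x ∉ C → ∃ i, e ⟨x, hPS hx⟩ = xa i := by
    intro x hx hxC
    rcases h : e ⟨x, hPS hx⟩ with i | i
    · exact absurd ((hmemC x hx).mpr ⟨i, h⟩) hxC
    · exact ⟨i, rfl⟩
  have hidx : ∀ x ∈ P, ∀ y ∈ P, x ∉ C → y ∉ C → x⁻¹ * y ∈ C := by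
    intro x hx y hy hxC hyC
    obtain ⟨i, hi⟩ := hnotC x hx hxC
    obtain ⟨j, hj⟩ := hnotC y hy hyC
    rw [hmemC _ (P.mul_mem (P.inv_mem hx) hy)]
    have h1 : (⟨x⁻¹ * y, hPS (P.mul_mem (P.inv_mem hx) hy)⟩ : ↥S) =
        (⟨x, hPS hx⟩ : ↥S)⁻¹ * ⟨y, hPS hy⟩ := rfl
    rw [h1, map_mul, map_inv, hi, hj]
    exact quat_xa_inv_mul_xa _ i j
  have hpow4 : ∀ x ∈ P, x ∉ C → x ^ 4 = 1 := by
    intro x hx hxC
    obtain ⟨i, hi⟩ := hnotC x hx hxC
    have h1 : (⟨x, hPS hx⟩ : ↥S) ^ 4 = 1 := by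
      apply e.injective
      rw [map_pow, hi, xa_pow_four, map_one]
    have := congrArg Subtype.val h1
    simpa using this
  -- C is cyclic
  have hcyc : IsCyclic ↥C := by
    let f : ↥C →* ↥(Subgroup.zpowers (a 1 : QuaternionGroup (2 ^ n))) :=
      (e.toMonoidHom.comp (Subgroup.inclusion (hCP.trans hPS))).codRestrict _ (by
        intro c
        obtain ⟨hx, i, hi⟩ := c.2
        have : (e.toMonoidHom.comp (Subgroup.inclusion (hCP.trans hPS))) c = a i := hi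
        rw [this]
        exact quat_a_mem_zpowers _ i)
    have hf : Function.Injective f := by
      intro c c' h
      have h1 : e (Subgroup.inclusion (hCP.trans hPS) c) = e (Subgroup.inclusion (hCP.trans hPS) c') :=
        congrArg Subtype.val h
      have h2 := e.injective h1
      exact Subgroup.inclusion_injective _ h2
    exact isCyclic_of_injective f hf
  -- C is normal in H
  have hCn : ∀ g : H, ∀ c ∈ C, g * c * g⁻¹ ∈ C := by
    by_cases hPC : P ≤ C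
    · intro g c hc
      exact hPC (Subgroup.Normal.conj_mem inferInstance c (hCP hc) g)
    · obtain ⟨y, hyP, hyC⟩ := SetLike.not_le_iff_exists.mp hPC
      obtain ⟨i, hi⟩ := hnotC y hyP hyC
      -- c₀ = t y t⁻¹ y⁻¹
      have htyP : ((e.symm (a 1) : ↥S) : H) * y * ((e.symm (a 1) : ↥S) : H)⁻¹ ∈ P :=
        Subgroup.Normal.conj_mem inferInstance y hyP _
      have hc₀P : ((e.symm (a 1) : ↥S) : H) * y * ((e.symm (a 1) : ↥S) : H)⁻¹ * y⁻¹ ∈ P :=
        P.mul_mem htyP (P.inv_mem hyP)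
      have hc₀e : e ⟨((e.symm (a 1) : ↥S) : H) * y * ((e.symm (a 1) : ↥S) : H)⁻¹ * y⁻¹, hPS hc₀P⟩ = a 2 := by
        have h1 : (⟨((e.symm (a 1) : ↥S) : H) * y * ((e.symm (a 1) : ↥S) : H)⁻¹ * y⁻¹, hPS hc₀P⟩ : ↥S) =
            (e.symm (a 1)) * ⟨y, hPS hyP⟩ * (e.symm (a 1))⁻¹ * (⟨y, hPS hyP⟩ : ↥S)⁻¹ := rfl
        rw [h1, map_mul, map_mul, map_mul, map_inv, map_inv, MulEquiv.apply_symm_apply, hi]
        exact quat_comm_a2 _ i
      have hc₀C : ((e.symm (a 1) : ↥S) : H) * y * ((e.symm (a 1) : ↥S) : H)⁻¹ * y⁻¹ ∈ C :=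
        (hmemC _ hc₀P).mpr ⟨2, hc₀e⟩
      have hc₀4 : (((e.symm (a 1) : ↥S) : H) * y * ((e.symm (a 1) : ↥S) : H)⁻¹ * y⁻¹) ^ 4 ≠ 1 := by
        intro h
        have h1 : (⟨((e.symm (a 1) : ↥S) : H) * y * ((e.symm (a 1) : ↥S) : H)⁻¹ * y⁻¹, hPS hc₀P⟩ : ↥S) ^ 4 = 1 := by
          apply Subtype.ext
          simpa using h
        have h2 := congrArg e h1
        rw [map_pow, hc₀e, map_one] at h2
        exact quat_a2_pow4_ne n hn h2
      obtain ⟨c₁, hc₁⟩ := hcyc.exists_generator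
      have hgen : ∀ c ∈ C, ∃ k : ℤ, (c₁ : H) ^ k = c := by
        intro c hc
        obtain ⟨k, hk⟩ := Subgroup.mem_zpowers_iff.mp (hc₁ ⟨c, hc⟩)
        refine ⟨k, ?_⟩
        have := congrArg Subtype.val hk
        simpa using this
      intro g
      have hgc₁ : g * (c₁ : H) * g⁻¹ ∈ C := by
        by_contra hnot
        have hP' : g * (c₁ : H) * g⁻¹ ∈ P := Subgroup.Normal.conj_mem inferInstance _ (hCP c₁.2) g
        have h4 := hpow4 _ hP' hnot
        rw [conj_pow] at h4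
        have h5 : (c₁ : H) ^ 4 = 1 := by
          have : (c₁ : H) ^ 4 = g⁻¹ * (g * (c₁ : H) ^ 4 * g⁻¹) * g := by group
          rw [this, h4]; group
        apply hc₀4
        obtain ⟨k, hk⟩ := hgen _ hc₀C
        rw [← hk, ← zpow_natCast, ← zpow_mul, mul_comm, zpow_mul, zpow_natCast, h5, one_zpow]
      intro c hc
      obtain ⟨k, hk⟩ := hgen c hc
      rw [← hk]
      have : g * (c₁ : H) ^ k * g⁻¹ = (g * (c₁ : H) * g⁻¹) ^ k := by
        rw [conj_zpow]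
      rw [this]
      exact C.zpow_mem hgc₁ k
  exact isPGroup_of_cyclic_index_two P C hP2 hCP hcyc hCn hidx hCent

/-- A finite solvable group whose Sylow 2-subgroups are generalized quaternion of order at least 32 has a normal 2-complement. -/
theorem result {G : Type*} [Group G] [Finite G] (hsol : Group.IsSolvable G) (T : Sylow 2 G) (n : ℕ) (hn : 3 ≤ n) (hT : Nonempty ((T : Subgroup G) ≃* QuaternionGroup (2 ^ n))) : Cfsg.HasNormalPComplement 2 G := by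
  obtain ⟨e⟩ := hT
  have : Fact (Nat.Prime 2) := ⟨Nat.prime_two⟩
  have hNodd : (Nat.card ↥(Cfsg.pPrimeCore 2 G)).Coprime 2 := helper1.pPrimeCore_coprime 2
  obtain ⟨k, hk⟩ := T.2.exists_card_eq
  have hcop : (Nat.card ↥(Cfsg.pPrimeCore 2 G)).Coprime (Nat.card ↥(T : Subgroup G)) := by
    rw [hk]; exact Nat.Coprime.pow_right k hNodd
  -- the quotient map
  have hφ : Function.Surjective (QuotientGroup.mk' (Cfsg.pPrimeCore 2 G)) := QuotientGroup.mk'_surjective _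
  -- image of T is isomorphic to T
  have hinj : Function.Injective ((QuotientGroup.mk' (Cfsg.pPrimeCore 2 G)).subgroupMap (T : Subgroup G)) := by
    rw [injective_iff_map_eq_one]
    intro t ht
    have h1 : (QuotientGroup.mk' (Cfsg.pPrimeCore 2 G)) (t : G) = 1 := congrArg Subtype.val ht
    have h2 : (t : G) ∈ Cfsg.pPrimeCore 2 G := by
      rw [QuotientGroup.mk'_apply, QuotientGroup.eq_one_iff] at h1; exact h1
    have h3 : (t : G) ∈ (T : Subgroup G) ⊓ Cfsg.pPrimeCore 2 G := ⟨t.2, h2⟩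
    rw [(Subgroup.disjoint_of_coprime_natCard hcop.symm).eq_bot, Subgroup.mem_bot] at h3
    exact Subtype.ext h3
  let ι : ↥(T : Subgroup G) ≃* ↥((T : Subgroup G).map (QuotientGroup.mk' (Cfsg.pPrimeCore 2 G))) :=
    MulEquiv.ofBijective _ ⟨hinj, (QuotientGroup.mk' (Cfsg.pPrimeCore 2 G)).subgroupMap_surjective _⟩
  -- the quotient is a 2-group
  have hO : Cfsg.pPrimeCore 2 (G ⧸ Cfsg.pPrimeCore 2 G) = ⊥ := helper9.pPrimeCore_quotient_eq_bot 2
  have hF : Cfsg.fittingSubgroup (G ⧸ Cfsg.pPrimeCore 2 G) = Cfsg.pCore 2 (G ⧸ Cfsg.pPrimeCore 2 G) := by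
    apply le_antisymm
    · rw [helper1.fitting_eq_iSup_pCore]
      apply iSup_le
      intro p
      by_cases hp2 : (p : ℕ) = 2
      · rw [hp2]
      · have h1 : Cfsg.pCore (p : ℕ) (G ⧸ Cfsg.pPrimeCore 2 G) ≤ Cfsg.pPrimeCore 2 (G ⧸ Cfsg.pPrimeCore 2 G) :=
          helper1.le_pPrimeCore (helper1.pCore_normal _)
            (helper1.coprime_card_of_isPGroup_ne Nat.prime_two p.2 hp2 (helper1.pCore_isPGroup _))
        rw [hO] at h1
        exact h1.trans bot_le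
    · exact helper1.pCore_le_fitting 2
  have hCF : Subgroup.centralizer (Cfsg.pCore 2 (G ⧸ Cfsg.pPrimeCore 2 G) : Set (G ⧸ Cfsg.pPrimeCore 2 G)) ≤
      Cfsg.pCore 2 (G ⧸ Cfsg.pPrimeCore 2 G) := by
    have h1 := Cfsg.Agent.S1264.result
      (Subgroup.centralizer (Cfsg.fittingSubgroup (G ⧸ Cfsg.pPrimeCore 2 G) : Set (G ⧸ Cfsg.pPrimeCore 2 G)))
      le_rfl Subgroup.le_normalizer inferInstance
    have h2 := h1.trans (Subgroup.map_subtype_le _)
    rw [hF] at h2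
    exact h2
  have hPS : Cfsg.pCore 2 (G ⧸ Cfsg.pPrimeCore 2 G) ≤
      (T : Subgroup G).map (QuotientGroup.mk' (Cfsg.pPrimeCore 2 G)) := by
    have := helper1.pCore_le_sylow (T.mapSurjective hφ)
    rwa [Sylow.coe_mapSurjective] at this
  have hH2 : IsPGroup 2 (G ⧸ Cfsg.pPrimeCore 2 G) :=
    isPGroup_of_quaternion (Cfsg.pCore 2 (G ⧸ Cfsg.pPrimeCore 2 G))
      ((T : Subgroup G).map (QuotientGroup.mk' (Cfsg.pPrimeCore 2 G)))
      (helper1.pCore_isPGroup 2) hPS n hn (ι.symm.trans e) hCF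
  -- conclude
  refine ⟨T, Cfsg.pPrimeCore 2 G, inferInstance, ?_⟩
  apply Subgroup.isComplement'_of_coprime _ hcop
  obtain ⟨j, hj⟩ := hH2.exists_card_eq
  have hG : Nat.card G = Nat.card ↥(Cfsg.pPrimeCore 2 G) * 2 ^ j := by
    rw [← hj, mul_comm]
    exact Subgroup.card_eq_card_quotient_mul_card_subgroup _
  rw [hG]
  congr 1
  -- |T| = 2^j
  rw [hk]
  have h1 : 2 ^ k ∣ Nat.card G := by rw [← hk]; exact Subgroup.card_subgroup_dvd_card _
  rw [hG] at h1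
  have h2 : 2 ^ k ∣ 2 ^ j := (Nat.Coprime.pow_left k (Nat.coprime_comm.mp hNodd)).dvd_of_dvd_mul_left h1
  have h3 : 2 ^ j ∣ Nat.card ↥(T : Subgroup G) * (T : Subgroup G).index := by
    rw [Subgroup.card_mul_index, hG]; exact dvd_mul_left _ _
  have h4 : (2 ^ j).Coprime (T : Subgroup G).index :=
    Nat.Coprime.pow_left j ((Nat.Prime.coprime_iff_not_dvd Nat.prime_two).mpr T.not_dvd_index)
  have h5 : 2 ^ j ∣ 2 ^ k := by
    rw [← hk]; exact h4.dvd_of_dvd_mul_right h3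
  exact Nat.dvd_antisymm h2 h5

end Cfsg.Agent.S3294
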