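import Mathlib
import Cfsg.Statements.S3349

set_option autoImplicit false
open Cfsg

namespace Cfsg.Agent.S3349

variable {Q : Type*} [Group Q]

/-- a maximal abelian subgroup is self-centralizing -/
theorem self_centralizing (A : Subgroup Q) (hA : IsMulCommutative A)
    (hmax : ∀ B : Subgroup Q, A ≤ B → IsMulCommutative B → B = A)
    (x : Q) (hx : ∀ a ∈ A, x * a = a * x) : x ∈ A := by
  have hB : IsMulCommutative (Subgroup.closure ((A : Set Q) ∪ {x})) := by
    apply Subgroup.isMulCommutative_closure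
    rintro u (hu | hu) v (hv | hv)
    · exact setLike_mul_comm hu hv
    · rw [Set.mem_singleton_iff] at hv; subst hv; exact (hx u hu).symm
    · rw [Set.mem_singleton_iff] at hu; subst hu; exact hx v hv
    · rw [Set.mem_singleton_iff] at hu hv; subst hu; subst hv; rfl
  have hle : A ≤ Subgroup.closure ((A : Set Q) ∪ {x}) := by
    intro a ha
    exact Subgroup.subset_closure (Or.inl ha)
  have := hmax _ hle hB
  rw [← this]
  exact Subgroup.subset_closure (Or.inr rfl)

theorem pow_apply_eq (α : MulAut Q) (x c : Q) (hc : α x = x * c) (hαc : α c = c) (k : ℕ) :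
    (α ^ k) x = x * c ^ k := by
  induction k with
  | zero => simp
  | succ k ih =>
    rw [pow_succ', MulAut.mul_apply, ih, map_mul, map_pow, hαc, hc, mul_assoc, ← pow_succ']

theorem result {Q : Type*} [Group Q] [Finite Q]
    (p : ℕ) [Fact p.Prime] (hQ : Cfsg.IsExtraspecial p Q) (α : MulAut Q)
    (A : Subgroup Q) (hA : IsMulCommutative A) (hmax : ∀ B : Subgroup Q, A ≤ B → IsMulCommutative B → B = A)
    (hfix : ∀ a ∈ A, α a = a) :
    ∃ k : ℕ, orderOf α = p ^ k := by
  obtain ⟨⟨hp, -, hcomm⟩, -⟩ := hQ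
  obtain ⟨n, hn⟩ := IsPGroup.iff_card.mp hp
  -- center is in A
  have hZA : ∀ z ∈ Subgroup.center Q, z ∈ A := by
    intro z hz
    apply self_centralizing A hA hmax
    intro a _
    exact (Subgroup.mem_center_iff.mp hz a).symm
  -- commutators are central
  have hcz : ∀ x y : Q, x * y * x⁻¹ * y⁻¹ ∈ Subgroup.center Q := by
    intro x y
    rw [← hcomm]
    exact Subgroup.commutator_mem_commutator (Subgroup.mem_top x) (Subgroup.mem_top y)
  -- x⁻¹ α x ∈ A
  have hc : ∀ x : Q, x⁻¹ * α x ∈ A := by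
    intro x
    apply self_centralizing A hA hmax
    intro a ha
    have h1 : α (x * a * x⁻¹ * a⁻¹) = x * a * x⁻¹ * a⁻¹ := hfix _ (hZA _ (hcz x a))
    rw [map_mul, map_mul, map_mul, map_inv, map_inv, hfix a ha] at h1
    -- α x * a * (α x)⁻¹ * a⁻¹ = x * a * x⁻¹ * a⁻¹
    have h2 : α x * a * (α x)⁻¹ = x * a * x⁻¹ := by
      have := congrArg (· * a) h1
      simpa using this
    calc x⁻¹ * α x * a = x⁻¹ * (α x * a * (α x)⁻¹) * α x := by group
      _ = x⁻¹ * (x * a * x⁻¹) * α x := by rw [h2]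
      _ = a * (x⁻¹ * α x) := by group
  have hpow : α ^ (p ^ n) = 1 := by
    ext x
    have h1 : α x = x * (x⁻¹ * α x) := by group
    rw [pow_apply_eq α x (x⁻¹ * α x) h1 (hfix _ (hc x))]
    rw [← hn, pow_card_eq_one', mul_one]
    rfl
  have := orderOf_dvd_of_pow_eq_one hpow
  obtain ⟨k, -, hk⟩ := (Nat.dvd_prime_pow (Fact.out : p.Prime)).mp this
  exact ⟨k, hk⟩

end Cfsg.Agent.S3349
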