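import Cfsg.Statements.S3356
import Cfsg.Agent.Lib_helper18_HalfTrans

set_option autoImplicit false
open Cfsg

namespace Cfsg.Agent.S3356

/-- Let G be a finite 3/2-transitive permutation group: G acts faithfully and transitively on a finite set, the point stabilizers are non-trivial, and for each point a all orbits of G_a on the remaining points have the same size. Suppose G has a regular normal subgroup N and G is not a Frobenius group (some two-point stabilizer is non-trivial). Then N is an elementary abelian p-group for some prime p, and every non-trivial normal subgroup of G contains N (so N is the unique minimal normal subgroup). -/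
theorem result {G Ω : Type*} [Group G] [Finite G]
    [MulAction G Ω] [FaithfulSMul G Ω] [Finite Ω] (htrans : MulAction.IsPretransitive G Ω)
    (hne : ∀ a : Ω, MulAction.stabilizer G a ≠ ⊥)
    (hhalf : ∀ a b c : Ω, b ≠ a → c ≠ a →
      Nat.card (MulAction.orbit (MulAction.stabilizer G a) b) = Nat.card (MulAction.orbit (MulAction.stabilizer G a) c))
    (N : Subgroup G) [hN : N.Normal] (hNt : MulAction.IsPretransitive N Ω) (hNr : ∀ a : Ω, MulAction.stabilizer N a = ⊥)
    (hnotF : ∃ a b : Ω, a ≠ b ∧ MulAction.stabilizer G a ⊓ MulAction.stabilizer G b ≠ ⊥) :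
    (∃ p : ℕ, p.Prime ∧ IsMulCommutative N ∧ ∀ x ∈ N, x ^ p = 1) ∧
    (∀ M : Subgroup G, M.Normal → M ≠ ⊥ → N ≤ M) := by
  classical
  obtain ⟨a, b, hab, hnF⟩ := hnotF
  set A : Subgroup G := MulAction.stabilizer G a with hA
  letI inst : MulDistribMulAction ↥A ↥N := Cfsg.Agent.helper18.HalfTrans.conjMDMA A N
  have hsm : ∀ (h : A) (n : N), ((h • n : N) : G) = h * n * (h : G)⁻¹ :=
    Cfsg.Agent.helper18.HalfTrans.conjMDMA_coe A N
  have hcent : ∀ h : G, h • a = a → (∀ n ∈ N, h * n = n * h) → h = 1 := by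
    intro h ha hn
    apply eq_of_smul_eq_smul (α := Ω)
    intro ω
    obtain ⟨n, rfl⟩ := MulAction.exists_smul_eq N a ω
    rw [one_smul, Subgroup.smul_def, smul_smul, hn n n.2, ← smul_smul, ha]
  have hAfix : ∀ h : A, (h : G) • a = a := fun h => h.2
  have hstab : ∀ n : N, MulAction.stabilizer ↥A n = MulAction.stabilizer ↥A ((n : G) • a) := by
    intro n
    ext h
    rw [MulAction.mem_stabilizer_iff, MulAction.mem_stabilizer_iff]
    constructor
    · intro e
      have e' : (h : G) * n * (h : G)⁻¹ = n := by rw [← hsm, e]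
      have e'' : (h : G) * n = n * h := by
        calc (h : G) * n = ((h : G) * n * (h : G)⁻¹) * h := by group
          _ = n * h := by rw [e']
      rw [Subgroup.smul_def, smul_smul, e'', ← smul_smul, hAfix h]
    · intro e
      apply Subtype.ext
      rw [hsm]
      have hn' : (h : G) * n * (h : G)⁻¹ ∈ N := hN.conj_mem n n.2 h
      have ha : (h : G)⁻¹ • a = a := by rw [inv_smul_eq_iff, hAfix h]
      have e2 : ((h : G) * n * (h : G)⁻¹) • a = (n : G) • a := by
        rw [mul_smul, ha, mul_smul]; exact e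
      have e3 : (⟨_, hn'⟩ : N)⁻¹ * n ∈ MulAction.stabilizer N a := by
        rw [MulAction.mem_stabilizer_iff, mul_smul, inv_smul_eq_iff]
        exact e2.symm
      rw [hNr a, Subgroup.mem_bot, inv_mul_eq_one] at e3
      exact congrArg Subtype.val e3
  obtain ⟨n₀, hn₀⟩ := MulAction.exists_smul_eq N a b
  have hmove : ∀ n : N, n ≠ 1 → (n : G) • a ≠ a := by
    intro n hn e
    apply hn
    have : n ∈ MulAction.stabilizer N a := e
    rwa [hNr a, Subgroup.mem_bot] at this
  have hc : ∀ n : N, n ≠ 1 →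
      Nat.card (MulAction.stabilizer ↥A n) = Nat.card (MulAction.stabilizer ↥A b) := by
    intro n hn
    rw [hstab n]
    have h1 := Cfsg.Agent.helper18.HalfTrans.card_orbit_mul_card_stab ↥A ((n : G) • a)
    have h2 := Cfsg.Agent.helper18.HalfTrans.card_orbit_mul_card_stab ↥A b
    have h3 := hhalf a ((n : G) • a) b (hmove n hn) (Ne.symm hab)
    rw [h3, ← h2] at h1
    have hpos : 0 < Nat.card (MulAction.orbit (↥A) b) := by
      haveI : Nonempty (MulAction.orbit (↥A) b) := ⟨⟨b, MulAction.mem_orbit_self b⟩⟩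
      exact Nat.card_pos
    exact Nat.eq_of_mul_eq_mul_left hpos h1
  have hn₀1 : n₀ ≠ 1 := by
    intro e
    apply hab
    rw [← hn₀, e, one_smul]
  have hns : MulAction.stabilizer ↥A n₀ ≠ ⊥ := by
    rw [hstab n₀]
    have hb : (n₀ : G) • a = b := hn₀
    rw [hb]
    rw [Subgroup.ne_bot_iff_exists_ne_one] at hnF ⊢
    obtain ⟨⟨g, hg⟩, hg1⟩ := hnF
    obtain ⟨hga, hgb⟩ := Subgroup.mem_inf.mp hg
    refine ⟨⟨⟨g, hga⟩, ?_⟩, ?_⟩
    · rw [MulAction.mem_stabilizer_iff]
      exact hgb
    · intro e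
      apply hg1
      have := congrArg (fun x : ↥(MulAction.stabilizer ↥A b) => ((x : A) : G)) e
      exact Subtype.ext this
  have : FaithfulSMul ↥A ↥N := ⟨by
    intro h₁ h₂ heq
    have : ((h₂⁻¹ * h₁ : A) : G) = 1 := by
      apply hcent
      · exact (h₂⁻¹ * h₁).2
      · intro n hn
        have e := congrArg Subtype.val (heq ⟨n, hn⟩)
        rw [hsm, hsm] at e
        push_cast
        calc (h₂ : G)⁻¹ * h₁ * n = (h₂ : G)⁻¹ * ((h₁ : G) * n * (h₁ : G)⁻¹) * h₁ := by group
          _ = (h₂ : G)⁻¹ * ((h₂ : G) * n * (h₂ : G)⁻¹) * h₁ := by rw [e]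
          _ = n * ((h₂ : G)⁻¹ * h₁) := by group
    have h3 : h₂⁻¹ * h₁ = 1 := Subtype.ext this
    exact (inv_mul_eq_one.mp h3).symm⟩
  obtain ⟨⟨p, hp, hcomm, hpow⟩, hirr⟩ :=
    Cfsg.Agent.helper18.HalfTrans.isaacs_passman (A := ↥A) (N := ↥N) hc ⟨n₀, hn₀1, hns⟩
  refine ⟨⟨p, hp, ⟨⟨hcomm⟩⟩, ?_⟩, ?_⟩
  · intro x hx
    have := congrArg Subtype.val (hpow ⟨x, hx⟩)
    simpa using this
  · intro M hM hMne
    have hW : ∀ h : A, ∀ w ∈ M.subgroupOf N, h • w ∈ M.subgroupOf N := by
      intro h w hw
      rw [Subgroup.mem_subgroupOf] at hw ⊢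
      rw [hsm]
      exact hM.conj_mem _ hw _
    rcases hirr (M.subgroupOf N) hW with h | h
    · exfalso
      rw [Subgroup.subgroupOf_eq_bot] at h
      apply hMne
      rw [Subgroup.eq_bot_iff_forall]
      intro m hm
      obtain ⟨n, hn⟩ := MulAction.exists_smul_eq N a (m • a)
      have hn' : (n : G) • a = m • a := hn
      have h1 : (n : G)⁻¹ * m = 1 := by
        apply hcent
        · rw [mul_smul, ← hn', inv_smul_smul]
        · intro n' hn'N
          have c1 : m * n' = n' * m :=
            Subgroup.commute_of_normal_of_disjoint M N hM hN h m n' hm hn'N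
          have c2 : (n : G)⁻¹ * n' = n' * (n : G)⁻¹ := by
            have := congrArg Subtype.val (hcomm n⁻¹ ⟨n', hn'N⟩)
            simpa using this
          calc (n : G)⁻¹ * m * n' = (n : G)⁻¹ * (m * n') := by group
            _ = (n : G)⁻¹ * (n' * m) := by rw [c1]
            _ = ((n : G)⁻¹ * n') * m := by group
            _ = (n' * (n : G)⁻¹) * m := by rw [c2]
            _ = n' * ((n : G)⁻¹ * m) := by group
      have h2 : m = n := (inv_mul_eq_one.mp h1).symm
      have h3 : m ∈ M ⊓ N := Subgroup.mem_inf.mpr ⟨hm, h2 ▸ n.2⟩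
      rw [h.eq_bot] at h3
      exact Subgroup.mem_bot.mp h3
    · rw [Subgroup.subgroupOf_eq_top] at h
      exact h

end Cfsg.Agent.S3356
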