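import Mathlib
import Cfsg.Statements.S3362
import Cfsg.Agent.Lib_helper17_SchreierSims

set_option autoImplicit false
open Cfsg

namespace Cfsg.Agent.S3362

open Cfsg.Agent.helper17

abbrev P12 := Equiv.Perm (Fin 12)

def gs : P12 := Equiv.swap (3 : Fin 12) 5 * Equiv.swap (3 : Fin 12) 4 * Equiv.swap (6 : Fin 12) 8 * Equiv.swap (6 : Fin 12) 7 * Equiv.swap (9 : Fin 12) 11 * Equiv.swap (9 : Fin 12) 10
def gt : P12 := Equiv.swap (3 : Fin 12) 9 * Equiv.swap (3 : Fin 12) 6 * Equiv.swap (4 : Fin 12) 10 * Equiv.swap (4 : Fin 12) 7 * Equiv.swap (5 : Fin 12) 11 * Equiv.swap (5 : Fin 12) 8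
def gu : P12 := Equiv.swap (4 : Fin 12) 9 * Equiv.swap (4 : Fin 12) 5 * Equiv.swap (4 : Fin 12) 6 * Equiv.swap (7 : Fin 12) 10 * Equiv.swap (7 : Fin 12) 11 * Equiv.swap (7 : Fin 12) 8
def gv : P12 := Equiv.swap (4 : Fin 12) 11 * Equiv.swap (4 : Fin 12) 5 * Equiv.swap (4 : Fin 12) 7 * Equiv.swap (6 : Fin 12) 8 * Equiv.swap (6 : Fin 12) 9 * Equiv.swap (6 : Fin 12) 10
def gw : P12 := Equiv.swap (4 : Fin 12) 8 * Equiv.swap (4 : Fin 12) 5 * Equiv.swap (4 : Fin 12) 10 * Equiv.swap (6 : Fin 12) 7 * Equiv.swap (6 : Fin 12) 9 * Equiv.swap (6 : Fin 12) 11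
def gx1 : P12 := Equiv.swap (0 : Fin 12) 3 * Equiv.swap (6 : Fin 12) 7 * Equiv.swap (8 : Fin 12) 10 * Equiv.swap (9 : Fin 12) 11
def gx2 : P12 := Equiv.swap (0 : Fin 12) 1 * Equiv.swap (6 : Fin 12) 9 * Equiv.swap (7 : Fin 12) 10 * Equiv.swap (8 : Fin 12) 11
def gx3 : P12 := Equiv.swap (1 : Fin 12) 2 * Equiv.swap (6 : Fin 12) 11 * Equiv.swap (7 : Fin 12) 9 * Equiv.swap (8 : Fin 12) 10

def gl : List P12 := [gs, gt, gu, gv, gw, gx1, gx2, gx3]

def al1 : List ℕ := [0, 1, 2, 3, 4, 5, 6, 7]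
def al2 : List ℕ := [0, 1, 2, 3, 4, 5, 6]
def al3 : List ℕ := [0, 1, 2, 3, 4, 5]
def al4 : List ℕ := [0, 1, 2, 3, 4]
def al5 : List ℕ := [2, 3, 4]
def al6 : List ℕ := []

def W1 : List (List ℕ) := [[], [7], [6, 7], [5, 6, 7], [0, 5, 6, 7], [1, 5, 6, 7], [0, 0, 5, 6, 7], [1, 0, 5, 6, 7], [4, 0, 5, 6, 7], [1, 1, 5, 6, 7], [4, 1, 5, 6, 7], [1, 0, 0, 5, 6, 7]]

def W2 : List (List ℕ) := [[], [6], [5, 6], [0, 5, 6], [1, 5, 6], [0, 0, 5, 6], [1, 0, 5, 6], [4, 0, 5, 6], [1, 1, 5, 6], [4, 1, 5, 6], [1, 0, 0, 5, 6]]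

def W3 : List (List ℕ) := [[], [5], [0, 5], [1, 5], [0, 0, 5], [1, 0, 5], [4, 0, 5], [1, 1, 5], [4, 1, 5], [1, 0, 0, 5]]

def W4 : List (List ℕ) := [[], [0], [1], [0, 0], [1, 0], [4, 0], [1, 1], [4, 1], [1, 0, 0]]

def W5 : List (List ℕ) := [[], [2], [3], [4], [2, 2], [4, 2], [2, 3], [3, 4]]

def cert1 : List (List (ℕ × List ℕ)) := [[(0, [0]), (1, [0]), (2, [0]), (4, []), (6, []), (7, []), (3, []), (11, []), (10, []), (8, [3, 4]), (9, [2]), (5, [])], [(0, [1]), (1, [4, 1, 2, 3]), (2, [1, 0]), (5, []), (7, []), (9, []), (11, []), (8, [3, 4]), (4, [2]), (3, []), (6, [2]), (10, [3, 4])], [(0, [2]), (1, [4, 2]), (2, [3]), (3, [2, 3]), (5, [2, 3]), (6, [2, 3]), (9, [2, 3]), (11, [2, 3]), (7, [3]), (4, [2, 3]), (8, [4]), (10, [3])], [(0, [3]), (1, [3, 4]), (2, [2, 3]), (3, [3]), (7, [3]), (8, [4]), (10, [4]), (6, [3]), (9, [4]), (11, [3]), (4, [4]), (5, [3])], [(0, [4]), (1, [2, 3]), (2, [3, 4]), (3, [2]),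 (8, []), (10, []), (11, [2]), (5, [2]), (6, [2, 2]), (7, [2]), (9, [2, 2]), (4, [2])], [(0, [5]), (1, [5]), (3, []), (2, []), (4, [0, 0, 2, 2]), (7, [4, 1, 3]), (6, [0, 2, 2]), (5, [4, 0, 4, 2]), (11, [1, 2]), (10, [4, 0, 2, 3]), (9, [1, 0, 0]), (8, [0, 0, 3, 4])], [(0, [6]), (2, []), (1, []), (3, [5]), (4, [5]), (9, [5]), (6, [5]), (8, [5, 4, 2]), (7, [5, 2]), (5, [5]), (11, [5, 2]), (10, [5, 4, 2])], [(1, []), (0, []), (2, [6]), (3, [6]), (4, [6]), (10, [6, 2]), (6, [6]), (9, [6]), (11, [6, 2]), (7, [6]), (5, [6, 2]), (8, [6, 2])]]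

def cert2 : List (List (ℕ × List ℕ)) := [[(0, [0]), (1, [0]), (3, []), (5, []), (6, []), (2, []), (10, []), (9, []), (7, [3]), (8, [4, 2]), (4, [])], [(0, [1]), (1, [1, 1]), (4, []), (6, []), (8, []), (10, []), (7, [3]), (3, [4, 2]), (2, []), (5, [4, 2]), (9, [3])], [(0, [2]), (1, [3, 4]), (2, [4]), (4, [4]), (5, [4]), (8, [4]), (10, [4]), (6, [3, 4]), (3, [4]), (7, [2, 3]), (9, [3, 4])], [(0, [3]), (1, [4]), (2, [3, 4]), (6, [3, 4]), (7, [2, 3]), (9, [2, 3]), (5, [3, 4]), (8, [2, 3]), (10, [3, 4]), (3, [2, 3]), (4, [3, 4])], [(0, [4]), (1, [3]), (2, [4, 2]), (7, []), (9, []), (10, [4, 2]), (4, [4, 2]), (5, [2, 2]), (6, [4, 2]), (8, [2, 2]), (3, [4, 2])], [(0, [5]), (2, []), (1, []), (3, [0, 0, 2, 2]), (6, [1, 4, 2]), (5, [0, 2, 2]), (4, [1, 0, 0, 3]), (10, [4, 1, 2]), (9, [1, 0, 0]), (8, [4, 0, 2, 3]), (7, [0, 0, 3])], [(1, []), (0, []), (2, [5]), (3, [5]), (8, [5]), (5, [5]), (7, [5, 2]), (6, [5, 4,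 2]), (4, [5]), (10, [5, 4, 2]), (9, [5, 2])]]

def cert3 : List (List (ℕ × List ℕ)) := [[(0, [0]), (2, []), (4, []), (5, []), (1, []), (9, []), (8, []), (6, [4]), (7, [2, 3]), (3, [])], [(0, [1]), (3, []), (5, []), (7, []), (9, []), (6, [4]), (2, [2, 3]), (1, []), (4, [2, 3]), (8, [4])], [(0, [2]), (1, [3]), (3, [3]), (4, [3]), (7, [3]), (9, [3]), (5, [2]), (2, [3]), (6, [4, 2]), (8, [2])], [(0, [3]), (1, [2]), (5, [2]), (6, [4, 2]), (8, [4, 2]), (4, [2]), (7, [4, 2]), (9, [2]), (2, [4, 2]), (3, [2])], [(0, [4]), (1, [2, 3]), (6, []), (8, []), (9, [2, 3]), (3, [2, 3]), (4, [2, 2]), (5, [2, 3]), (7, [2, 2]), (2, [2, 3])], [(1, []), (0, []), (2, [0, 0, 2, 2]), (5, [1, 1, 2, 3]), (4, [0, 2, 2]), (3, [4, 1]), (9, [1, 0, 0, 2, 3]), (8, [4, 1, 2, 3]), (7, [1, 0]), (6, [0, 0, 4])]]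

def cert4 : List (List (ℕ × List ℕ)) := [[(1, []), (3, []), (4, []), (0, []), (8, []), (7, []), (5, [2, 3]), (6, [4]), (2, [])], [(2, []), (4, []), (6, []), (8, []), (5, [2, 3]), (1, [4]), (0, []), (3, [4]), (7, [2, 3])], [(0, [2]), (2, [2]), (3, [2]), (6, [2]), (8, [2]), (4, [3]), (1, [2]), (5, [3, 4]), (7, [3])], [(0, [3]), (4, [3]), (5, [3, 4]), (7, [3, 4]), (3, [3]), (6, [3, 4]), (8, [3]), (1, [3, 4]), (2, [3])], [(0, [4]), (5, []), (7, []), (8, [4]), (2, [4]), (3, [2, 2]), (4, [4]), (6, [2, 2]), (1, [4])]]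

def cert5 : List (List (ℕ × List ℕ)) := [[(1, []), (4, []), (6, []), (2, []), (7, []), (3, []), (5, []), (0, [])], [(2, []), (3, []), (4, []), (7, []), (5, []), (0, []), (1, []), (6, [])], [(3, []), (5, []), (1, []), (4, []), (6, []), (7, []), (0, []), (2, [])]]

/-- the certificate check for one level -/
def LevelOK (al : List ℕ) (W : List (List ℕ)) (al' : List ℕ) (c : List (List (ℕ × List ℕ))) : Prop :=
  ∀ ai < al.length, ∀ bi < W.length,
    ((c.getD ai []).getD bi (0, [])).1 < W.length ∧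
    (∀ k ∈ ((c.getD ai []).getD bi (0, [])).2, k ∈ al') ∧
    evalWord gl (al.getD ai 0 :: W.getD bi []) =
      evalWord gl (W.getD ((c.getD ai []).getD bi (0, [])).1 [] ++ ((c.getD ai []).getD bi (0, [])).2)

instance (al : List ℕ) (W : List (List ℕ)) (al' : List ℕ) (c : List (List (ℕ × List ℕ))) :
    Decidable (LevelOK al W al' c) := by
  unfold LevelOK; infer_instance

set_option maxRecDepth 1000000 in
theorem ok1 : LevelOK al1 W1 al2 cert1 := by decide +kernel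
set_option maxRecDepth 1000000 in
theorem ok2 : LevelOK al2 W2 al3 cert2 := by decide +kernel
set_option maxRecDepth 1000000 in
theorem ok3 : LevelOK al3 W3 al4 cert3 := by decide +kernel
set_option maxRecDepth 1000000 in
theorem ok4 : LevelOK al4 W4 al5 cert4 := by decide +kernel
set_option maxRecDepth 1000000 in
theorem ok5 : LevelOK al5 W5 al6 cert5 := by decide +kernel

/-- the set of generators with indices in `al` -/
def genSet (al : List ℕ) : Set P12 := {x | ∃ k ∈ al, gl.getD k 1 = x}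

/-- the group generated by the generators with indices in `al` -/
def K (al : List ℕ) : Subgroup P12 := Subgroup.closure (genSet al)

theorem gen_mem_K (al : List ℕ) (k : ℕ) (hk : k ∈ al) : gl.getD k 1 ∈ K al :=
  Subgroup.subset_closure ⟨k, hk, rfl⟩

theorem K_mono (al al' : List ℕ) (h : ∀ k ∈ al', k ∈ al) : K al' ≤ K al := by
  apply Subgroup.closure_mono
  rintro x ⟨k, hk, rfl⟩
  exact ⟨k, h k hk, rfl⟩

theorem K_nil : K [] = ⊥ := by
  unfold K genSet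
  rw [Subgroup.closure_eq_bot_iff]
  rintro x ⟨k, hk, _⟩
  simp at hk

/-- one level of the chain -/
theorem level (al : List ℕ) (W : List (List ℕ)) (al' : List ℕ) (c : List (List (ℕ × List ℕ)))
    (β : Fin 12) (hok : LevelOK al W al' c) (hsub : ∀ k ∈ al', k ∈ al)
    (hfix : ∀ k ∈ al', gl.getD k 1 β = β) (hwords : ∀ w ∈ W, ∀ k ∈ w, k ∈ al) (hnil : [] ∈ W)
    (hnodup : ((W.map (evalWord gl)).map (fun u => u β)).Nodup) :
    Nat.card (K al) = W.length * Nat.card (K al') ∧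
    (∀ g ∈ K al, g β = β → g ∈ K al') ∧
    (∀ y, (∃ g ∈ K al, g β = y) ↔ ∃ w ∈ W, evalWord gl w β = y) := by
  have hHβ : ∀ h ∈ K al', h β = β := by
    intro h hh
    have hle : K al' ≤ MulAction.stabilizer P12 β := by
      unfold K
      rw [Subgroup.closure_le]
      rintro x ⟨k, hk, rfl⟩
      exact hfix k hk
    exact hle hh
  have hUS : ∀ u ∈ W.map (evalWord gl), u ∈ Subgroup.closure (genSet al) := by
    intro u hu
    obtain ⟨w, hw, rfl⟩ := List.mem_map.mp hu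
    exact evalWord_mem gl (K al) w (fun k hk => gen_mem_K al k (hwords w hw k hk))
  have h1U : (1 : P12) ∈ W.map (evalWord gl) := List.mem_map.mpr ⟨[], hnil, rfl⟩
  have hsch : ∀ s ∈ genSet al, ∀ u ∈ W.map (evalWord gl), ∃ u' ∈ W.map (evalWord gl),
      u'⁻¹ * (s * u) ∈ K al' := by
    rintro s ⟨k, hk, rfl⟩ u hu
    obtain ⟨w, hw, rfl⟩ := List.mem_map.mp hu
    obtain ⟨ai, hai, rfl⟩ := List.mem_iff_getElem.mp hk
    obtain ⟨bi, hbi, rfl⟩ := List.mem_iff_getElem.mp hw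
    obtain ⟨h1, h2, h3⟩ := hok ai hai bi hbi
    rw [List.getD_eq_getElem _ _ hai, List.getD_eq_getElem _ _ hbi, evalWord_cons,
      evalWord_append] at h3
    refine ⟨evalWord gl (W.getD ((c.getD ai []).getD bi (0, [])).1 []), ?_, ?_⟩
    · rw [List.getD_eq_getElem _ _ h1]
      exact List.mem_map.mpr ⟨_, List.getElem_mem h1, rfl⟩
    · rw [h3, inv_mul_cancel_left]
      exact evalWord_mem gl (K al') _ (fun k hk => gen_mem_K al' k (h2 k hk))
  obtain ⟨-, hcard, hstab, horb⟩ := schreier_step (genSet al) (K al') β (W.map (evalWord gl)) hHβ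
    (K_mono al al' hsub) hUS h1U hnodup hsch
  refine ⟨by rw [List.length_map] at hcard; exact hcard, hstab, fun y => ?_⟩
  rw [show (∃ g ∈ K al, g β = y) ↔ ∃ g ∈ Subgroup.closure (genSet al), g β = y from Iff.rfl, horb y]
  constructor
  · rintro ⟨u, hu, rfl⟩
    obtain ⟨w, hw, rfl⟩ := List.mem_map.mp hu
    exact ⟨w, hw, rfl⟩
  · rintro ⟨w, hw, rfl⟩
    exact ⟨_, List.mem_map.mpr ⟨w, hw, rfl⟩, rfl⟩

set_option maxRecDepth 1000000 in
theorem lev1 : Nat.card (K al1) = W1.length * Nat.card (K al2) ∧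
    (∀ g ∈ K al1, g 2 = 2 → g ∈ K al2) ∧
    (∀ y, (∃ g ∈ K al1, g 2 = y) ↔ ∃ w ∈ W1, evalWord gl w 2 = y) :=
  level al1 W1 al2 cert1 2 ok1 (by decide) (by decide +kernel) (by decide) (by decide)
    (by decide +kernel)

set_option maxRecDepth 1000000 in
theorem lev2 : Nat.card (K al2) = W2.length * Nat.card (K al3) ∧
    (∀ g ∈ K al2, g 1 = 1 → g ∈ K al3) ∧
    (∀ y, (∃ g ∈ K al2, g 1 = y) ↔ ∃ w ∈ W2, evalWord gl w 1 = y) :=
  level al2 W2 al3 cert2 1 ok2 (by decide) (by decide +kernel) (by decide) (by decide)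
    (by decide +kernel)

set_option maxRecDepth 1000000 in
theorem lev3 : Nat.card (K al3) = W3.length * Nat.card (K al4) ∧
    (∀ g ∈ K al3, g 0 = 0 → g ∈ K al4) ∧
    (∀ y, (∃ g ∈ K al3, g 0 = y) ↔ ∃ w ∈ W3, evalWord gl w 0 = y) :=
  level al3 W3 al4 cert3 0 ok3 (by decide) (by decide +kernel) (by decide) (by decide)
    (by decide +kernel)

set_option maxRecDepth 1000000 in
theorem lev4 : Nat.card (K al4) = W4.length * Nat.card (K al5) ∧
    (∀ g ∈ K al4, g 3 = 3 → g ∈ K al5) ∧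
    (∀ y, (∃ g ∈ K al4, g 3 = y) ↔ ∃ w ∈ W4, evalWord gl w 3 = y) :=
  level al4 W4 al5 cert4 3 ok4 (by decide) (by decide +kernel) (by decide) (by decide)
    (by decide +kernel)

set_option maxRecDepth 1000000 in
theorem lev5 : Nat.card (K al5) = W5.length * Nat.card (K al6) ∧
    (∀ g ∈ K al5, g 4 = 4 → g ∈ K al6) ∧
    (∀ y, (∃ g ∈ K al5, g 4 = y) ↔ ∃ w ∈ W5, evalWord gl w 4 = y) :=
  level al5 W5 al6 cert5 4 ok5 (by decide) (by decide +kernel) (by decide) (by decide)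
    (by decide +kernel)


/-- transitivity facts, checked by computation -/
theorem tr1 : ∀ y : Fin 12, ∃ w ∈ W1, evalWord gl w 2 = y := by decide +kernel
theorem tr2 : ∀ y : Fin 12, y = 2 ∨ ∃ w ∈ W2, evalWord gl w 1 = y := by decide +kernel
theorem tr3 : ∀ y : Fin 12, y = 2 ∨ y = 1 ∨ ∃ w ∈ W3, evalWord gl w 0 = y := by decide +kernel
theorem tr4 : ∀ y : Fin 12, y = 2 ∨ y = 1 ∨ y = 0 ∨ ∃ w ∈ W4, evalWord gl w 3 = y := by
  decide +kernel
theorem tr5 : ∀ y : Fin 12, y = 2 ∨ y = 1 ∨ y = 0 ∨ y = 3 ∨ ∃ w ∈ W5, evalWord gl w 4 = y := by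
  decide +kernel

theorem K2_le : K al2 ≤ K al1 := K_mono _ _ (by decide)
theorem K3_le : K al3 ≤ K al2 := K_mono _ _ (by decide)
theorem K4_le : K al4 ≤ K al3 := K_mono _ _ (by decide)
theorem K5_le : K al5 ≤ K al4 := K_mono _ _ (by decide)

theorem fix2 : ∀ g ∈ K al2, g 2 = 2 := by
  intro g hg
  have hle : K al2 ≤ MulAction.stabilizer P12 (2 : Fin 12) := by
    have hall : ∀ k ∈ al2, gl.getD k 1 (2 : Fin 12) = 2 := by decide +kernel
    unfold K
    rw [Subgroup.closure_le]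
    rintro x ⟨k, hk, rfl⟩
    exact hall k hk
  exact hle hg

theorem fix1 : ∀ g ∈ K al3, g 1 = 1 := by
  intro g hg
  have hle : K al3 ≤ MulAction.stabilizer P12 (1 : Fin 12) := by
    have hall : ∀ k ∈ al3, gl.getD k 1 (1 : Fin 12) = 1 := by decide +kernel
    unfold K
    rw [Subgroup.closure_le]
    rintro x ⟨k, hk, rfl⟩
    exact hall k hk
  exact hle hg

theorem fix0 : ∀ g ∈ K al4, g 0 = 0 := by
  intro g hg
  have hle : K al4 ≤ MulAction.stabilizer P12 (0 : Fin 12) := by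
    have hall : ∀ k ∈ al4, gl.getD k 1 (0 : Fin 12) = 0 := by decide +kernel
    unfold K
    rw [Subgroup.closure_le]
    rintro x ⟨k, hk, rfl⟩
    exact hall k hk
  exact hle hg

theorem fix3 : ∀ g ∈ K al5, g 3 = 3 := by
  intro g hg
  have hle : K al5 ≤ MulAction.stabilizer P12 (3 : Fin 12) := by
    have hall : ∀ k ∈ al5, gl.getD k 1 (3 : Fin 12) = 3 := by decide +kernel
    unfold K
    rw [Subgroup.closure_le]
    rintro x ⟨k, hk, rfl⟩
    exact hall k hk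
  exact hle hg

/-- moving one more point into place -/
theorem move_step (Kb K' : Subgroup P12) (hle : K' ≤ Kb) (B : Fin 12 → Prop) (β : Fin 12)
    (hfix : ∀ h ∈ K', ∀ b, B b → h b = b) (htr : ∀ y, ¬ B y → ∃ h ∈ K', h β = y)
    (g : P12) (hg : g ∈ Kb) (z : Fin 12) (hz : ¬ B (g z)) :
    ∃ g' ∈ Kb, g' z = β ∧ ∀ z', B (g z') → g' z' = g z' := by
  obtain ⟨h, hh, hhβ⟩ := htr (g z) hz
  refine ⟨h⁻¹ * g, Kb.mul_mem (Kb.inv_mem (hle hh)) hg, ?_, ?_⟩
  · rw [Equiv.Perm.mul_apply, Equiv.Perm.inv_eq_iff_eq, hhβ]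
  · intro z' hz'
    rw [Equiv.Perm.mul_apply]
    have := hfix h hh (g z') hz'
    rw [Equiv.Perm.inv_eq_iff_eq, this]

/-- every injective 5-tuple can be moved to the base -/
theorem to_base (x : Fin 5 ↪ Fin 12) :
    ∃ g ∈ K al1, g (x 0) = 2 ∧ g (x 1) = 1 ∧ g (x 2) = 0 ∧ g (x 3) = 3 ∧ g (x 4) = 4 := by
  have hx : ∀ i j : Fin 5, x i = x j → i = j := fun i j h => x.injective h
  -- step 1
  obtain ⟨g1, hg1, h10⟩ : ∃ g ∈ K al1, g (x 0) = 2 := by
    obtain ⟨w, hw, hwy⟩ := tr1 (x 0)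
    obtain ⟨g, hg, hgy⟩ := (lev1.2.2 (x 0)).mpr ⟨w, hw, hwy⟩
    exact ⟨g⁻¹, (K al1).inv_mem hg, by rw [Equiv.Perm.inv_eq_iff_eq, hgy]⟩
  -- step 2
  obtain ⟨g2, hg2, h21, h2'⟩ := move_step (K al1) (K al2) K2_le (fun b => b = 2) 1
    (fun h hh b hb => by rw [hb]; exact fix2 h hh)
    (fun y hy => (lev2.2.2 y).mpr ((tr2 y).resolve_left hy)) g1 hg1 (x 1)
    (by
      intro h
      have : g1 (x 1) = g1 (x 0) := by rw [h10]; exact h
      exact absurd (hx _ _ (g1.injective this)) (by decide))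
  have h20 : g2 (x 0) = 2 := by rw [h2' (x 0) h10, h10]
  -- step 3
  obtain ⟨g3, hg3, h32, h3'⟩ := move_step (K al1) (K al3) (K3_le.trans K2_le)
    (fun b => b = 2 ∨ b = 1) 0
    (fun h hh b hb => by
      rcases hb with rfl | rfl
      · exact fix2 h (K3_le hh)
      · exact fix1 h hh)
    (fun y hy => by
      push Not at hy
      exact (lev3.2.2 y).mpr (((tr3 y).resolve_left hy.1).resolve_left hy.2)) g2 hg2 (x 2)
    (by
      rintro (h | h)
      · have : g2 (x 2) = g2 (x 0) := by rw [h20]; exact h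
        exact absurd (hx _ _ (g2.injective this)) (by decide)
      · have : g2 (x 2) = g2 (x 1) := by rw [h21]; exact h
        exact absurd (hx _ _ (g2.injective this)) (by decide))
  have h30 : g3 (x 0) = 2 := by rw [h3' (x 0) (Or.inl h20), h20]
  have h31 : g3 (x 1) = 1 := by rw [h3' (x 1) (Or.inr h21), h21]
  -- step 4
  obtain ⟨g4, hg4, h43, h4'⟩ := move_step (K al1) (K al4) (K4_le.trans (K3_le.trans K2_le))
    (fun b => b = 2 ∨ b = 1 ∨ b = 0) 3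
    (fun h hh b hb => by
      rcases hb with rfl | rfl | rfl
      · exact fix2 h (K3_le (K4_le hh))
      · exact fix1 h (K4_le hh)
      · exact fix0 h hh)
    (fun y hy => by
      push Not at hy
      exact (lev4.2.2 y).mpr ((((tr4 y).resolve_left hy.1).resolve_left hy.2.1).resolve_left hy.2.2))
    g3 hg3 (x 3)
    (by
      rintro (h | h | h)
      · have : g3 (x 3) = g3 (x 0) := by rw [h30]; exact h
        exact absurd (hx _ _ (g3.injective this)) (by decide)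
      · have : g3 (x 3) = g3 (x 1) := by rw [h31]; exact h
        exact absurd (hx _ _ (g3.injective this)) (by decide)
      · have : g3 (x 3) = g3 (x 2) := by rw [h32]; exact h
        exact absurd (hx _ _ (g3.injective this)) (by decide))
  have h40 : g4 (x 0) = 2 := by rw [h4' (x 0) (Or.inl h30), h30]
  have h41 : g4 (x 1) = 1 := by rw [h4' (x 1) (Or.inr (Or.inl h31)), h31]
  have h42 : g4 (x 2) = 0 := by rw [h4' (x 2) (Or.inr (Or.inr h32)), h32]
  -- step 5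
  obtain ⟨g5, hg5, h54, h5'⟩ := move_step (K al1) (K al5)
    (K5_le.trans (K4_le.trans (K3_le.trans K2_le)))
    (fun b => b = 2 ∨ b = 1 ∨ b = 0 ∨ b = 3) 4
    (fun h hh b hb => by
      rcases hb with rfl | rfl | rfl | rfl
      · exact fix2 h (K3_le (K4_le (K5_le hh)))
      · exact fix1 h (K4_le (K5_le hh))
      · exact fix0 h (K5_le hh)
      · exact fix3 h hh)
    (fun y hy => by
      push Not at hy
      exact (lev5.2.2 y).mpr (((((tr5 y).resolve_left hy.1).resolve_left hy.2.1).resolve_left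
        hy.2.2.1).resolve_left hy.2.2.2))
    g4 hg4 (x 4)
    (by
      rintro (h | h | h | h)
      · have : g4 (x 4) = g4 (x 0) := by rw [h40]; exact h
        exact absurd (hx _ _ (g4.injective this)) (by decide)
      · have : g4 (x 4) = g4 (x 1) := by rw [h41]; exact h
        exact absurd (hx _ _ (g4.injective this)) (by decide)
      · have : g4 (x 4) = g4 (x 2) := by rw [h42]; exact h
        exact absurd (hx _ _ (g4.injective this)) (by decide)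
      · have : g4 (x 4) = g4 (x 3) := by rw [h43]; exact h
        exact absurd (hx _ _ (g4.injective this)) (by decide))
  refine ⟨g5, hg5, ?_, ?_, ?_, ?_, h54⟩
  · rw [h5' (x 0) (Or.inl h40), h40]
  · rw [h5' (x 1) (Or.inr (Or.inl h41)), h41]
  · rw [h5' (x 2) (Or.inr (Or.inr (Or.inl h42))), h42]
  · rw [h5' (x 3) (Or.inr (Or.inr (Or.inr h43))), h43]

theorem conj_fix (g0 g : P12) (z b : Fin 12) (h : g0 z = b) (hg : g z = z) :
    (g0 * g * g0⁻¹) b = b := by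
  have e : g0⁻¹ b = z := by rw [Equiv.Perm.inv_eq_iff_eq, h]
  rw [Equiv.Perm.mul_apply, Equiv.Perm.mul_apply, e, hg, h]

/-- an element of the group fixing the five base points is trivial -/
theorem eq_one_of_fix_base (g : P12) (hg : g ∈ K al1) (h2 : g 2 = 2) (h1 : g 1 = 1) (h0 : g 0 = 0)
    (h3 : g 3 = 3) (h4 : g 4 = 4) : g = 1 := by
  have m2 := lev1.2.1 g hg h2
  have m3 := lev2.2.1 g m2 h1
  have m4 := lev3.2.1 g m3 h0
  have m5 := lev4.2.1 g m4 h3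
  have m6 := lev5.2.1 g m5 h4
  have : K al6 = ⊥ := K_nil
  rw [this, Subgroup.mem_bot] at m6
  exact m6

theorem set1 : ({gs, gt, gu, gv, gw, gx1, gx2, gx3} : Set P12) = genSet al1 := by
  ext x
  simp only [Set.mem_insert_iff, Set.mem_singleton_iff, genSet, Set.mem_ofPred_eq, al1, gl,
    List.mem_cons, List.not_mem_nil, or_false]
  constructor
  · rintro (rfl | rfl | rfl | rfl | rfl | rfl | rfl | rfl)
    · exact ⟨0, by simp, rfl⟩
    · exact ⟨1, by simp, rfl⟩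
    · exact ⟨2, by simp, rfl⟩
    · exact ⟨3, by simp, rfl⟩
    · exact ⟨4, by simp, rfl⟩
    · exact ⟨5, by simp, rfl⟩
    · exact ⟨6, by simp, rfl⟩
    · exact ⟨7, by simp, rfl⟩
  · rintro ⟨k, (rfl | rfl | rfl | rfl | rfl | rfl | rfl | rfl), rfl⟩ <;> simp

theorem set2 : ({gs, gt, gu, gv, gw, gx1, gx2} : Set P12) = genSet al2 := by
  ext x
  simp only [Set.mem_insert_iff, Set.mem_singleton_iff, genSet, Set.mem_ofPred_eq, al2, gl,
    List.mem_cons, List.not_mem_nil, or_false]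
  constructor
  · rintro (rfl | rfl | rfl | rfl | rfl | rfl | rfl)
    · exact ⟨0, by simp, rfl⟩
    · exact ⟨1, by simp, rfl⟩
    · exact ⟨2, by simp, rfl⟩
    · exact ⟨3, by simp, rfl⟩
    · exact ⟨4, by simp, rfl⟩
    · exact ⟨5, by simp, rfl⟩
    · exact ⟨6, by simp, rfl⟩
  · rintro ⟨k, (rfl | rfl | rfl | rfl | rfl | rfl | rfl), rfl⟩ <;> simp

theorem card_K1 : Nat.card (K al1) = 95040 := by
  have h6 : Nat.card (K al6) = 1 := by
    rw [show K al6 = ⊥ from K_nil]; exact Subgroup.card_bot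
  rw [lev1.1, lev2.1, lev3.1, lev4.1, lev5.1, h6]
  decide

theorem card_K2 : Nat.card (K al2) = 7920 := by
  have h6 : Nat.card (K al6) = 1 := by
    rw [show K al6 = ⊥ from K_nil]; exact Subgroup.card_bot
  rw [lev2.1, lev3.1, lev4.1, lev5.1, h6]
  decide

theorem result
    (s t u v w x₁ x₂ x₃ : Equiv.Perm (Fin 12))
    (hs : s = Equiv.swap (3 : Fin 12) 5 * Equiv.swap (3 : Fin 12) 4 * Equiv.swap (6 : Fin 12) 8 * Equiv.swap (6 : Fin 12) 7 * Equiv.swap (9 : Fin 12) 11 * Equiv.swap (9 : Fin 12) 10) (ht : t = Equiv.swap (3 : Fin 12) 9 * Equiv.swap (3 : Fin 12) 6 * Equiv.swap (4 : Fin 12) 10 * Equiv.swap (4 : Fin 12) 7 * Equiv.swap (5 : Fin 12) 11 * Equiv.swap (5 : Fin 12) 8)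
    (hu : u = Equiv.swap (4 : Fin 12) 9 * Equiv.swap (4 : Fin 12) 5 * Equiv.swap (4 : Fin 12) 6 * Equiv.swap (7 : Fin 12) 10 * Equiv.swap (7 : Fin 12) 11 * Equiv.swap (7 : Fin 12) 8) (hv : v = Equiv.swap (4 : Fin 12) 11 * Equiv.swap (4 : Fin 12) 5 * Equiv.swap (4 : Fin 12) 7 * Equiv.swap (6 : Fin 12) 8 * Equiv.swap (6 : Fin 12) 9 * Equiv.swap (6 : Fin 12) 10) (hw : w = Equiv.swap (4 : Fin 12) 8 * Equiv.swap (4 : Fin 12) 5 * Equiv.swap (4 : Fin 12) 10 * Equiv.swap (6 : Fin 12) 7 * Equiv.swap (6 : Fin 12) 9 * Equiv.swap (6 : Fin 12) 11)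
    (hx₁ : x₁ = Equiv.swap (0 : Fin 12) 3 * Equiv.swap (6 : Fin 12) 7 * Equiv.swap (8 : Fin 12) 10 * Equiv.swap (9 : Fin 12) 11) (hx₂ : x₂ = Equiv.swap (0 : Fin 12) 1 * Equiv.swap (6 : Fin 12) 9 * Equiv.swap (7 : Fin 12) 10 * Equiv.swap (8 : Fin 12) 11)
    (hx₃ : x₃ = Equiv.swap (1 : Fin 12) 2 * Equiv.swap (6 : Fin 12) 11 * Equiv.swap (7 : Fin 12) 9 * Equiv.swap (8 : Fin 12) 10)
    (M₁₂ M₁₁ : Subgroup (Equiv.Perm (Fin 12))) (hM₁₂ : M₁₂ = Subgroup.closure {s, t, u, v, w, x₁, x₂, x₃})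
    (hM₁₁ : M₁₁ = Subgroup.closure {s, t, u, v, w, x₁, x₂}) :
    MulAction.IsMultiplyPretransitive M₁₂ (Fin 12) 5 ∧ (∀ y : Fin 5 ↪ Fin 12, MulAction.stabilizer M₁₂ y = ⊥) ∧
    Nat.card M₁₂ = 95040 ∧ Nat.card M₁₁ = 7920 ∧
    M₁₁ = M₁₂ ⊓ MulAction.stabilizer (Equiv.Perm (Fin 12)) (2 : Fin 12) := by
  have e1 : M₁₂ = K al1 := by
    rw [hM₁₂, hs, ht, hu, hv, hw, hx₁, hx₂, hx₃]
    exact congrArg Subgroup.closure set1
  have e2 : M₁₁ = K al2 := by
    rw [hM₁₁, hs, ht, hu, hv, hw, hx₁, hx₂]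
    exact congrArg Subgroup.closure set2
  subst e1 e2
  refine ⟨?_, ?_, card_K1, card_K2, ?_⟩
  · -- 5-transitivity
    refine ⟨fun x y => ?_⟩
    obtain ⟨gx, hgx, hx0, hx1, hx2, hx3, hx4⟩ := to_base x
    obtain ⟨gy, hgy, hy0, hy1, hy2, hy3, hy4⟩ := to_base y
    refine ⟨⟨gy⁻¹ * gx, (K al1).mul_mem ((K al1).inv_mem hgy) hgx⟩, ?_⟩
    ext i
    show ((gy⁻¹ * gx) (x i) : ℕ) = y i
    congr 1
    rw [Equiv.Perm.mul_apply, Equiv.Perm.inv_eq_iff_eq]
    fin_cases i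
    · exact hx0.trans hy0.symm
    · exact hx1.trans hy1.symm
    · exact hx2.trans hy2.symm
    · exact hx3.trans hy3.symm
    · exact hx4.trans hy4.symm
  · -- sharpness
    intro y
    rw [Subgroup.eq_bot_iff_forall]
    rintro ⟨g, hg⟩ hgy
    have hfixy : ∀ i, g (y i) = y i := by
      intro i
      have := congrArg (fun e : Fin 5 ↪ Fin 12 => e i) (MulAction.mem_stabilizer_iff.mp hgy)
      exact this
    obtain ⟨g0, hg0, h0, h1, h2, h3, h4⟩ := to_base y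
    have hconj : g0 * g * g0⁻¹ = 1 := by
      apply eq_one_of_fix_base _ ((K al1).mul_mem ((K al1).mul_mem hg0 hg) ((K al1).inv_mem hg0))
      · exact conj_fix g0 g _ _ h0 (hfixy 0)
      · exact conj_fix g0 g _ _ h1 (hfixy 1)
      · exact conj_fix g0 g _ _ h2 (hfixy 2)
      · exact conj_fix g0 g _ _ h3 (hfixy 3)
      · exact conj_fix g0 g _ _ h4 (hfixy 4)
    have hg1 : g = 1 := by
      have := congrArg (fun z => g0⁻¹ * z * g0) hconj
      simpa [mul_assoc] using this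
    exact Subtype.ext hg1
  · -- M₁₁ is the stabilizer of the point 2
    apply le_antisymm
    · intro g hg
      exact ⟨K2_le hg, fix2 g hg⟩
    · rintro g ⟨hg, hg2⟩
      exact lev1.2.1 g hg hg2

end Cfsg.Agent.S3362
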