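import Mathlib
import Cfsg.Statements.S3370
import Cfsg.Agent.S1896
import Cfsg.Agent.Lib_helper11_QuatPres

set_option autoImplicit false
set_option linter.style.haveILetI false
open Cfsg

namespace Cfsg.Agent.S3370

/-! ### Number theory -/

theorem odd_cofactor_add (p : ℤ) (hp : Odd p) (k : ℕ) :
    ∃ S : ℤ, Odd S ∧ p ^ (2 * k + 1) + 1 = (p + 1) * S := by
  induction k with
  | zero => exact ⟨1, odd_one, by ring⟩
  | succ k ih =>
    obtain ⟨S, hS, h⟩ := ih
    refine ⟨p ^ 2 * S - (p - 1), ?_, ?_⟩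
    · exact Odd.sub_even ((hp.pow).mul hS) (hp.sub_odd odd_one)
    · have e1 : p ^ (2 * (k + 1) + 1) = p ^ 2 * p ^ (2 * k + 1) := by ring
      rw [e1]
      have h' : p ^ (2 * k + 1) = (p + 1) * S - 1 := by linarith
      rw [h']; ring

theorem odd_cofactor_sub (p : ℤ) (hp : Odd p) (k : ℕ) :
    ∃ S : ℤ, Odd S ∧ p ^ (2 * k + 1) - 1 = (p - 1) * S := by
  induction k with
  | zero => exact ⟨1, odd_one, by ring⟩
  | succ k ih =>
    obtain ⟨S, hS, h⟩ := ih
    refine ⟨p ^ 2 * S + (p + 1), ?_, ?_⟩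
    · exact Odd.add_even ((hp.pow).mul hS) (hp.add_odd odd_one)
    · have e1 : p ^ (2 * (k + 1) + 1) = p ^ 2 * p ^ (2 * k + 1) := by ring
      rw [e1]
      have h' : p ^ (2 * k + 1) = (p - 1) * S + 1 := by linarith
      rw [h']; ring

theorem odd_dvd_two_pow (S : ℤ) (hS : Odd S) (d : ℕ) (h : S ∣ 2 ^ d) : S = 1 ∨ S = -1 := by
  have h1 : S.natAbs ∣ 2 ^ d := by
    have h2 := Int.natAbs_dvd_natAbs.mpr h
    simpa [Int.natAbs_pow] using h2
  obtain ⟨i, -, hi⟩ := (Nat.dvd_prime_pow Nat.prime_two).mp h1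
  have hodd : Odd S.natAbs := Int.natAbs_odd.mpr hS
  have hi0 : i = 0 := by
    by_contra hne
    rw [hi] at hodd
    exact (Nat.not_even_iff_odd.mpr hodd) ((Nat.even_pow).mpr ⟨even_two, hne⟩)
  rw [hi0, pow_zero] at hi
  rcases Int.natAbs_eq S with h3 | h3
  · left; rw [h3, hi]; rfl
  · right; rw [h3, hi]; rfl

theorem nt_two (p d j : ℕ) (hp : p.Prime) (hj : 1 ≤ j) (h : 2 ^ d = p ^ j + 1) : j = 1 := by
  have hpj : 2 ≤ p ^ j := le_trans hp.two_le (Nat.le_self_pow (by omega) p)
  have hd2 : 2 ≤ d := by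
    by_contra hlt
    push Not at hlt
    interval_cases d <;> omega
  have h4' : 4 ∣ 2 ^ d := by
    obtain ⟨e, rfl⟩ := Nat.exists_eq_add_of_le hd2
    exact ⟨2 ^ e, by ring⟩
  have hpodd : Odd p := by
    rcases hp.eq_two_or_odd' with rfl | ho
    · exfalso
      have h5 : 2 ∣ 2 ^ j := dvd_pow_self 2 (by omega)
      have h6 : 2 ∣ 2 ^ d := dvd_pow_self 2 (by omega)
      omega
    · exact ho
  rcases Nat.even_or_odd j with hje | hjo
  · exfalso
    obtain ⟨k, rfl⟩ := hje
    have hk : Odd ((p ^ k : ℕ) : ℤ) := by exact_mod_cast hpodd.pow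
    have h4 := Int.sq_mod_four_eq_one_of_odd hk
    have e1 : ((p ^ (k + k) : ℕ) : ℤ) = ((p ^ k : ℕ) : ℤ) ^ 2 := by push_cast; ring
    have e2 : ((2 ^ d : ℕ) : ℤ) = ((p ^ (k + k) : ℕ) : ℤ) + 1 := by exact_mod_cast h
    have e3 : (4 : ℤ) ∣ ((2 ^ d : ℕ) : ℤ) := by exact_mod_cast h4'
    rw [e1] at e2
    omega
  · obtain ⟨k, rfl⟩ := hjo
    obtain ⟨S, hS, hSe⟩ := odd_cofactor_add (p : ℤ) (by exact_mod_cast hpodd) k
    have hz : (2 : ℤ) ^ d = ((p : ℤ) + 1) * S := by rw [← hSe]; exact_mod_cast h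
    rcases odd_dvd_two_pow S hS d ⟨(p : ℤ) + 1, by rw [hz]; ring⟩ with h1 | h1
    · rw [h1, mul_one] at hSe
      have e1 : (p : ℤ) ^ (2 * k + 1) = (p : ℤ) ^ 1 := by linarith [pow_one (p : ℤ)]
      have e2 : p ^ (2 * k + 1) = p ^ 1 := by exact_mod_cast e1
      exact Nat.pow_right_injective hp.two_le e2
    · exfalso
      rw [h1] at hz
      have h2 : (0 : ℤ) < 2 ^ d := by positivity
      have h3 : (0 : ℤ) ≤ p := by positivity
      linarith

theorem nt_odd (q d j : ℕ) (hq : q.Prime) (hqodd : Odd q) (hd : 2 ≤ d)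
    (h : q ^ d = 2 ^ j + 1) : q = 3 ∧ d = 2 := by
  rcases Nat.even_or_odd d with hde | hdo
  · obtain ⟨e, rfl⟩ := hde
    have he : 1 ≤ e := by omega
    have hqe : 3 ≤ q ^ e := by
      have h3 : 3 ≤ q := by
        rcases hq.eq_two_or_odd' with rfl | ho
        · exact absurd hqodd (by decide)
        · have := hq.two_le
          obtain ⟨m, hm⟩ := ho
          omega
      exact le_trans h3 (Nat.le_self_pow (by omega) q)
    obtain ⟨t, ht⟩ : ∃ t, q ^ e = t + 1 := ⟨q ^ e - 1, by omega⟩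
    have hfac : t * (t + 2) = 2 ^ j := by
      have e1 : q ^ (e + e) = q ^ e * q ^ e := by ring
      rw [e1, ht] at h
      nlinarith
    obtain ⟨a, -, ha⟩ := (Nat.dvd_prime_pow Nat.prime_two).mp (Dvd.intro _ hfac)
    obtain ⟨b, -, hb⟩ := (Nat.dvd_prime_pow Nat.prime_two).mp (Dvd.intro_left _ hfac)
    have hab : 2 ^ b = 2 ^ a + 2 := by omega
    have ha1 : a = 1 := by
      rcases Nat.lt_or_ge a 2 with h2 | h2
      · interval_cases a
        · simp at ha; omega
        · rfl
      · exfalso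
        have hba : a < b := by
          by_contra hle
          push Not at hle
          have := Nat.pow_le_pow_right (by norm_num : 0 < 2) hle
          omega
        obtain ⟨a', rfl⟩ := Nat.exists_eq_add_of_le h2
        obtain ⟨b', rfl⟩ := Nat.exists_eq_add_of_le (le_of_lt hba)
        have e1 : 2 ^ (2 + a') = 4 * 2 ^ a' := by ring
        have e2 : 2 ^ (2 + a' + b') = 4 * (2 ^ a' * 2 ^ b') := by ring
        omega
    rw [ha1] at ha
    have hqe3 : q ^ e = 3 := by omega
    have hq3 : q = 3 := by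
      have h3 : q ∣ 3 := by rw [← hqe3]; exact dvd_pow_self q (by omega)
      exact (Nat.prime_dvd_prime_iff_eq hq Nat.prime_three).mp h3
    subst hq3
    have he1 : e = 1 := by
      have e1 : 3 ^ e = 3 ^ 1 := by rw [hqe3]; norm_num
      exact Nat.pow_right_injective (le_refl 2 |>.trans (by norm_num)) e1
    exact ⟨rfl, by omega⟩
  · exfalso
    obtain ⟨k, rfl⟩ := hdo
    obtain ⟨S, hS, hSe⟩ := odd_cofactor_sub (q : ℤ) (by exact_mod_cast hqodd) k
    have hz : (2 : ℤ) ^ j = ((q : ℤ) - 1) * S := by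
      rw [← hSe]
      have e1 : (q : ℤ) ^ (2 * k + 1) = 2 ^ j + 1 := by exact_mod_cast h
      linarith
    rcases odd_dvd_two_pow S hS j ⟨(q : ℤ) - 1, by rw [hz]; ring⟩ with h1 | h1
    · rw [h1, mul_one] at hSe
      have e1 : (q : ℤ) ^ (2 * k + 1) = (q : ℤ) ^ 1 := by linarith [pow_one (q : ℤ)]
      have e2 : q ^ (2 * k + 1) = q ^ 1 := by exact_mod_cast e1
      have := Nat.pow_right_injective hq.two_le e2
      omega
    · rw [h1] at hz
      have h2 : (0 : ℤ) < 2 ^ j := by positivity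
      have h3 : (2 : ℤ) ≤ q := by exact_mod_cast hq.two_le
      nlinarith

/-! ### Generalities on the action -/

section General

variable {q : ℕ} {V : Type*} [AddCommGroup V] [Module (ZMod q) V] {G : Type*} [Group G]
  (ρ : G →* (V ≃ₗ[ZMod q] V))

theorem rho_mul (g h : G) (v : V) : ρ (g * h) v = ρ g (ρ h v) := by rw [map_mul]; rfl

theorem rho_one (v : V) : ρ 1 v = v := by rw [map_one]; rfl

theorem rho_inv_apply (g : G) (v : V) : ρ g⁻¹ (ρ g v) = v := by
  rw [← rho_mul, inv_mul_cancel, rho_one]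

theorem rho_apply_inv (g : G) (v : V) : ρ g (ρ g⁻¹ v) = v := by
  rw [← rho_mul, mul_inv_cancel, rho_one]

theorem eq_one_of_fix (hρ : Function.Injective ρ) (g : G) (h : ∀ w, ρ g w = w) : g = 1 := by
  apply hρ
  rw [map_one]
  ext w
  exact h w

theorem rho_ne_zero (g : G) {v : V} (hv : v ≠ 0) : ρ g v ≠ 0 :=
  fun h => hv ((ρ g).map_eq_zero_iff.mp h)

/-- The stabilizer of a vector. -/
def stab (v : V) : Subgroup G where
  carrier := {g | ρ g v = v}
  one_mem' := rho_one ρ v
  mul_mem' := by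
    intro a b ha hb
    show ρ (a * b) v = v
    rw [rho_mul, (show ρ b v = v from hb), (show ρ a v = v from ha)]
  inv_mem' := by
    intro a ha
    show ρ a⁻¹ v = v
    have h1 := rho_inv_apply ρ a v
    rw [(show ρ a v = v from ha)] at h1
    exact h1

theorem mem_stab {v : V} {g : G} : g ∈ stab ρ v ↔ ρ g v = v := Iff.rfl

theorem index_stab [Finite V]
    (htrans : ∀ v w : V, v ≠ 0 → w ≠ 0 → ∃ g : G, ρ g v = w) {v : V} (hv : v ≠ 0) :
    (stab ρ v).index = Nat.card V - 1 := by
  letI : MulAction G V := MulAction.compHom V ρ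
  have h1 : stab ρ v = MulAction.stabilizer G v := by
    ext g; rfl
  rw [h1, MulAction.index_stabilizer]
  have h2 : MulAction.orbit G v = ({0} : Set V)ᶜ := by
    ext w
    simp only [MulAction.mem_orbit_iff, Set.mem_compl_iff, Set.mem_singleton_iff]
    constructor
    · rintro ⟨g, rfl⟩ h0
      exact rho_ne_zero ρ g hv h0
    · intro hw
      obtain ⟨g, hg⟩ := htrans v w hv hw
      exact ⟨g, hg⟩
  rw [h2, Set.ncard_compl, Set.ncard_singleton]

theorem card_two_cases [Finite G] {H : Subgroup G} (h : Nat.card H = 2) {y : G} (hy : y ∈ H)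
    (hy1 : y ≠ 1) : y * y = 1 ∧ ∀ s ∈ H, s = 1 ∨ s = y := by
  have hord : orderOf y = 2 := by
    have h1 : orderOf y ∣ 2 := by rw [← h]; exact Subgroup.orderOf_dvd_natCard H hy
    rcases (Nat.dvd_prime Nat.prime_two).mp h1 with h2 | h2
    · exact absurd (orderOf_eq_one_iff.mp h2) hy1
    · exact h2
  have hyy : y * y = 1 := by rw [← pow_two, ← hord]; exact pow_orderOf_eq_one y
  refine ⟨hyy, ?_⟩
  have hle : Subgroup.zpowers y ≤ H := (Subgroup.zpowers_le).mpr hy
  have heq : Subgroup.zpowers y = H := by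
    apply Subgroup.eq_of_le_of_card_ge hle
    rw [Nat.card_zpowers, hord, h]
  intro s hs
  rw [← heq] at hs
  obtain ⟨i, rfl⟩ := (Submonoid.mem_powers_iff _ _).mp (mem_powers_iff_mem_zpowers.mpr hs)
  rw [← pow_mod_orderOf, hord]
  have : i % 2 = 0 ∨ i % 2 = 1 := by omega
  rcases this with h0 | h0 <;> rw [h0]
  · left; exact pow_zero y
  · right; exact pow_one y

end General

/-! ### Groups of order 8 with a unique involution -/

theorem order8_unique_invol {G : Type*} [Group G] [Finite G] (hc : Nat.card G = 8)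
    (huniq : ∀ s t : G, s * s = 1 → s ≠ 1 → t * t = 1 → t ≠ 1 → s = t) :
    IsCyclic G ∨ Nonempty (G ≃* QuaternionGroup 2) := by
  by_cases h8 : ∃ x : G, orderOf x = 8
  · obtain ⟨x, hx⟩ := h8
    left
    exact isCyclic_of_orderOf_eq_card x (by rw [hx, hc])
  right
  push Not at h8
  have hpow4 : ∀ g : G, g ^ 4 = 1 := by
    intro g
    have h1 : orderOf g ∣ 2 ^ 3 := by
      rw [show (2 : ℕ) ^ 3 = 8 by norm_num, ← hc]; exact orderOf_dvd_natCard g
    obtain ⟨i, hi, hi2⟩ := (Nat.dvd_prime_pow Nat.prime_two).mp h1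
    have hi3 : i ≠ 3 := fun h => h8 g (by rw [hi2, h]; norm_num)
    have h4 : orderOf g ∣ 4 := by
      rw [hi2, show (4 : ℕ) = 2 ^ 2 by norm_num]; exact pow_dvd_pow 2 (by omega)
    exact orderOf_dvd_iff_pow_eq_one.mp h4
  have hsq : ∀ g : G, (g * g) * (g * g) = 1 := by
    intro g
    rw [← hpow4 g]
    simp only [pow_succ, pow_zero, one_mul, mul_assoc]
  obtain ⟨t, ht⟩ := exists_prime_orderOf_dvd_card' (G := G) 2 (by rw [hc]; norm_num)
  have ht1 : t ≠ 1 := by
    intro h; rw [h, orderOf_one] at ht; omega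
  have htt : t * t = 1 := by rw [← pow_two, ← ht]; exact pow_orderOf_eq_one t
  have hx : ∃ x : G, x * x ≠ 1 := by
    by_contra hall
    push Not at hall
    have h2 : ∀ g : G, g = 1 ∨ g = t := by
      intro g
      by_cases hg : g = 1
      · exact Or.inl hg
      · exact Or.inr (huniq g t (hall g) hg htt ht1)
    have htop : Subgroup.zpowers t = ⊤ := by
      rw [Subgroup.eq_top_iff']
      intro g
      rcases h2 g with h | h
      · rw [h]; exact one_mem _
      · rw [h]; exact Subgroup.mem_zpowers t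
    have h3 : Nat.card (Subgroup.zpowers t) = 8 := by rw [htop, Subgroup.card_top, hc]
    rw [Nat.card_zpowers, ht] at h3
    omega
  obtain ⟨x, hx2⟩ := hx
  have hx4 : orderOf x = 4 := by
    have h1 : orderOf x ∣ 2 ^ 2 := by
      rw [show (2 : ℕ) ^ 2 = 4 by norm_num]; exact orderOf_dvd_of_pow_eq_one (hpow4 x)
    obtain ⟨i, hi, hi2⟩ := (Nat.dvd_prime_pow Nat.prime_two).mp h1
    have hi2' : i = 2 := by
      by_contra hne
      have h2 : orderOf x ∣ 2 := by
        rw [hi2]
        have : i ≤ 1 := by omega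
        calc 2 ^ i ∣ 2 ^ 1 := pow_dvd_pow 2 this
          _ = 2 := by norm_num
      apply hx2
      rw [← pow_two]
      exact orderOf_dvd_iff_pow_eq_one.mp h2
    rw [hi2, hi2']; norm_num
  have hxx1 : x * x ≠ 1 := hx2
  have hx4' : x ^ 4 = 1 := hpow4 x
  have hHcard : Nat.card (Subgroup.zpowers x) = 4 := by rw [Nat.card_zpowers, hx4]
  have hidx : (Subgroup.zpowers x).index = 2 := by
    have h1 := Subgroup.index_mul_card (Subgroup.zpowers x)
    rw [hHcard, hc] at h1
    omega
  have hnorm : (Subgroup.zpowers x).Normal := Subgroup.normal_of_index_eq_two hidx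
  obtain ⟨y, hy⟩ : ∃ y : G, y ∉ Subgroup.zpowers x := by
    by_contra hall
    push Not at hall
    have htop : Subgroup.zpowers x = ⊤ := (Subgroup.eq_top_iff' _).mpr hall
    rw [htop, Subgroup.card_top, hc] at hHcard
    omega
  have hxxH : x * x ∈ Subgroup.zpowers x :=
    mul_mem (Subgroup.mem_zpowers x) (Subgroup.mem_zpowers x)
  have hyy1 : y * y ≠ 1 := by
    intro h
    have hy1 : y ≠ 1 := by
      intro h1; apply hy; rw [h1]; exact one_mem _
    have := huniq y (x * x) h hy1 (hsq x) hxx1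
    apply hy; rw [this]; exact hxxH
  have hyyxx : y * y = x * x := huniq _ _ (hsq y) hyy1 (hsq x) hxx1
  have hconjmem : y * x * y⁻¹ ∈ Subgroup.zpowers x :=
    hnorm.conj_mem x (Subgroup.mem_zpowers x) y
  obtain ⟨k, hk⟩ := (Submonoid.mem_powers_iff _ _).mp (mem_powers_iff_mem_zpowers.mpr hconjmem)
  rw [← pow_mod_orderOf, hx4] at hk
  have hk4 : k % 4 < 4 := Nat.mod_lt _ (by norm_num)
  have hrel : y * x * y⁻¹ = x⁻¹ := by
    interval_cases hr : k % 4
    · exfalso
      rw [pow_zero] at hk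
      have := conj_eq_one_iff.mp hk.symm
      apply hxx1; rw [this, one_mul]
    · exfalso
      rw [pow_one] at hk
      -- commuting case
      have hcomm : y * x = x * y := by
        have := hk.symm
        calc y * x = y * x * y⁻¹ * y := by group
          _ = x * y := by rw [this]
      have hcomm' : y⁻¹ * x = x * y⁻¹ := by
        calc y⁻¹ * x = y⁻¹ * (x * y) * y⁻¹ := by group
          _ = y⁻¹ * (y * x) * y⁻¹ := by rw [hcomm]
          _ = x * y⁻¹ := by group
      have hg2 : (x * y⁻¹) * (x * y⁻¹) = 1 := by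
        calc (x * y⁻¹) * (x * y⁻¹) = x * (y⁻¹ * x) * y⁻¹ := by group
          _ = x * (x * y⁻¹) * y⁻¹ := by rw [hcomm']
          _ = (x * x) * (y * y)⁻¹ := by group
          _ = 1 := by rw [hyyxx, mul_inv_cancel]
      have hg1 : x * y⁻¹ ≠ 1 := by
        intro h
        apply hy
        have : y = x := by
          have := mul_eq_one_iff_eq_inv.mp h
          rw [inv_inv] at this
          exact this.symm
        rw [this]; exact Subgroup.mem_zpowers x
      have h3 := huniq _ _ hg2 hg1 (hsq x) hxx1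
      have h4 : y⁻¹ = x := mul_left_cancel h3
      apply hy
      rw [← inv_inv y, h4]
      exact inv_mem (Subgroup.mem_zpowers x)
    · exfalso
      have h1 : (y * x * y⁻¹) ^ 2 = 1 := by
        rw [← hk, ← pow_mul]; exact hx4'
      rw [conj_pow] at h1
      have := conj_eq_one_iff.mp h1
      apply hxx1; rw [← pow_two]; exact this
    · rw [← hk]
      apply eq_inv_of_mul_eq_one_left
      rw [← pow_succ]; exact hx4'
  have hord4 : orderOf x = 2 * 2 := by rw [hx4]
  have hy2 : y ^ 2 = x ^ 2 := by rw [pow_two, pow_two]; exact hyyxx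
  obtain ⟨H, hHc, ⟨e⟩⟩ := Cfsg.Agent.helper11.QuatPres.exists_subgroup_mulEquiv (n := 2)
    (le_refl 2) hord4 hy2 hrel
  have hHtop : H = ⊤ := by
    rw [← Subgroup.card_eq_iff_eq_top, hHc, hc]
  subst hHtop
  exact ⟨Subgroup.topEquiv.symm.trans e⟩

/-! ### The case `q = 3`, `|V| = 9` -/

section Nine

variable {V : Type*} [AddCommGroup V] [Module (ZMod 3) V] [Finite V]
  {G : Type*} [Group G] (ρ : G →* (V ≃ₗ[ZMod 3] V))

theorem zmod3_sq : ∀ c : ZMod 3, c ≠ 0 → c * c = 1 := by decide

theorem zmod3_cases : ∀ c : ZMod 3, c = 0 ∨ c = 1 ∨ c = -1 := by decide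

omit [Finite V] in
theorem eq_zero_of_eq_neg {u : V} (h : u = -u) : u = 0 := by
  have h2 : (2 : ZMod 3) • u = 0 := by
    calc (2 : ZMod 3) • u = u + u := two_smul _ _
      _ = u + -u := by rw [← h]
      _ = 0 := add_neg_cancel u
  rcases smul_eq_zero.mp h2 with h3 | h3
  · exact absurd h3 (by decide)
  · exact h3

theorem mem_line {W : Submodule (ZMod 3) V} (hfr : Module.finrank (ZMod 3) V = 2) (hW : W ≠ ⊤)
    {w₀ : V} (h0 : w₀ ∈ W) (hne : w₀ ≠ 0) {w : V} (hw : w ∈ W) : ∃ c : ZMod 3, w = c • w₀ := by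
  have h1 : Module.finrank (ZMod 3) W < 2 := hfr ▸ Submodule.finrank_lt hW
  have hne' : (⟨w₀, h0⟩ : W) ≠ 0 := fun h => hne (congrArg Subtype.val h)
  have h2 : 0 < Module.finrank (ZMod 3) W :=
    Module.finrank_pos_iff_exists_ne_zero.mpr ⟨⟨w₀, h0⟩, hne'⟩
  have h3 : Module.finrank (ZMod 3) W = 1 := by omega
  obtain ⟨c, hc⟩ := (finrank_eq_one_iff_of_nonzero' (⟨w₀, h0⟩ : W) hne').mp h3 ⟨w, hw⟩
  exact ⟨c, (congrArg Subtype.val hc).symm⟩

omit [Finite V] in
theorem invol_cases (t : G) (ht : t * t = 1) :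
    (∃ w : V, w ≠ 0 ∧ ρ t w = w) ∨ (∀ w : V, ρ t w = -w) := by
  by_cases h : ∃ w : V, w ≠ 0 ∧ ρ t w = w
  · exact Or.inl h
  · right
    push Not at h
    intro w
    have h1 : ρ t (w + ρ t w) = w + ρ t w := by
      rw [map_add, ← rho_mul, ht, rho_one, add_comm]
    have h2 : w + ρ t w = 0 := by
      by_contra h3
      exact h _ h3 h1
    exact eq_neg_of_add_eq_zero_right h2

omit [Finite V] in
theorem exists_neg_vec (hρ : Function.Injective ρ) (t : G) (ht : t * t = 1) (ht1 : t ≠ 1) :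
    ∃ u : V, u ≠ 0 ∧ ρ t u = -u := by
  have h1 : ∃ w : V, ρ t w ≠ w := by
    by_contra h; push Not at h; exact ht1 (eq_one_of_fix ρ hρ t h)
  obtain ⟨w, hw⟩ := h1
  refine ⟨w - ρ t w, fun h => hw (sub_eq_zero.mp h).symm, ?_⟩
  rw [map_sub, ← rho_mul, ht, rho_one]; abel

theorem fix_two (hρ : Function.Injective ρ) (hfr : Module.finrank (ZMod 3) V = 2)
    {v₀ u : V} (hv₀ : v₀ ≠ 0) (hu : u ≠ 0) (t : G) (htv : ρ t v₀ = v₀) (htu : ρ t u = -u)
    (g : G) (hgv : ρ g v₀ = v₀) (hgu : ρ g u = u) : g = 1 := by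
  apply eq_one_of_fix ρ hρ
  by_contra h
  push Not at h
  obtain ⟨w, hw⟩ := h
  have hW : LinearMap.eqLocus ((ρ g : V ≃ₗ[ZMod 3] V) : V →ₗ[ZMod 3] V) LinearMap.id ≠ ⊤ := by
    intro htop
    have h1 : w ∈ LinearMap.eqLocus ((ρ g : V ≃ₗ[ZMod 3] V) : V →ₗ[ZMod 3] V) LinearMap.id := by
      rw [htop]; trivial
    exact hw (by simpa using h1)
  obtain ⟨c, hc⟩ := mem_line hfr hW (w₀ := v₀) (by simpa using hgv) hv₀ (w := u)
    (by simpa using hgu)
  have h2 : ρ t u = u := by rw [hc, map_smul, htv]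
  rw [htu] at h2
  exact hu (eq_zero_of_eq_neg h2.symm)

theorem commute_fix (hρ : Function.Injective ρ) (hfr : Module.finrank (ZMod 3) V = 2)
    {v₀ : V} (hv₀ : v₀ ≠ 0) (t : G) (ht1 : t ≠ 1) (htv : ρ t v₀ = v₀) (s : G)
    (hst : s * t = t * s) : ∃ c : ZMod 3, ρ s v₀ = c • v₀ := by
  have h1 : ∃ w : V, ρ t w ≠ w := by
    by_contra h; push Not at h; exact ht1 (eq_one_of_fix ρ hρ t h)
  obtain ⟨w, hw⟩ := h1
  have hW : LinearMap.eqLocus ((ρ t : V ≃ₗ[ZMod 3] V) : V →ₗ[ZMod 3] V) LinearMap.id ≠ ⊤ := by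
    intro htop
    have h1 : w ∈ LinearMap.eqLocus ((ρ t : V ≃ₗ[ZMod 3] V) : V →ₗ[ZMod 3] V) LinearMap.id := by
      rw [htop]; trivial
    exact hw (by simpa using h1)
  have hmem : ρ t (ρ s v₀) = ρ s v₀ := by
    rw [← rho_mul, ← hst, rho_mul, htv]
  exact mem_line hfr hW (w₀ := v₀) (by simpa using htv) hv₀ (w := ρ s v₀) (by simpa using hmem)

theorem commute_neg (hfr : Module.finrank (ZMod 3) V = 2)
    {v₀ u : V} (hv₀ : v₀ ≠ 0) (hu : u ≠ 0) (t : G) (htv : ρ t v₀ = v₀) (htu : ρ t u = -u)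
    (s : G) (hst : s * t = t * s) : ∃ c : ZMod 3, ρ s u = c • u := by
  have hW : LinearMap.eqLocus ((ρ t : V ≃ₗ[ZMod 3] V) : V →ₗ[ZMod 3] V) (-LinearMap.id) ≠ ⊤ := by
    intro htop
    have h1 : v₀ ∈ LinearMap.eqLocus ((ρ t : V ≃ₗ[ZMod 3] V) : V →ₗ[ZMod 3] V)
        (-LinearMap.id) := by
      rw [htop]; trivial
    have h2 : ρ t v₀ = -v₀ := by simpa using h1
    rw [htv] at h2
    exact hv₀ (eq_zero_of_eq_neg h2)
  have hmem : ρ t (ρ s u) = -(ρ s u) := by
    rw [← rho_mul, ← hst, rho_mul, htu, map_neg]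
  exact mem_line hfr hW (w₀ := u) (by simpa using htu) hu (w := ρ s u) (by simpa using hmem)

omit [Finite V] in
theorem sq_fix (s : G) {w : V} (hw : w ≠ 0) {c : ZMod 3} (h : ρ s w = c • w) :
    ρ (s * s) w = w := by
  have hc : c ≠ 0 := by
    rintro rfl
    rw [zero_smul] at h
    exact rho_ne_zero ρ s hw h
  have hcc : c * c = 1 := zmod3_sq c hc
  rw [rho_mul, h, map_smul, h, smul_smul, hcc, one_smul]

theorem no_sqrt (hρ : Function.Injective ρ) (hfr : Module.finrank (ZMod 3) V = 2)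
    {v₀ : V} (hv₀ : v₀ ≠ 0) (y : G) (hy1 : y ≠ 1) (hyy : y * y = 1) (hyv : ρ y v₀ = v₀)
    (g : G) (hg : g * g = y) : False := by
  obtain ⟨u, hu, hyu⟩ := exists_neg_vec ρ hρ y hyy hy1
  have hcomm : g * y = y * g := by rw [← hg, mul_assoc]
  obtain ⟨c, hc⟩ := commute_neg ρ hfr hv₀ hu y hyv hyu g hcomm
  have h1 := sq_fix ρ g hu hc
  rw [hg, hyu] at h1
  exact hu (eq_zero_of_eq_neg h1.symm)

theorem stab_card_le_two [Finite G] (hG : IsPGroup 2 G) (hρ : Function.Injective ρ)
    (hfr : Module.finrank (ZMod 3) V = 2) {v₀ : V} (hv₀ : v₀ ≠ 0) :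
    Nat.card (stab ρ v₀) ≤ 2 := by
  by_contra hlt
  push Not at hlt
  obtain ⟨k, hk⟩ := (IsPGroup.iff_card).mp (hG.to_subgroup (stab ρ v₀))
  have hk2 : 2 ≤ k := by
    by_contra h
    push Not at h
    interval_cases k <;> omega
  have h4 : 2 ^ 2 ≤ Nat.card (stab ρ v₀) := by
    rw [hk]; exact Nat.pow_le_pow_right (by norm_num) hk2
  obtain ⟨A, hAle, hAcard⟩ :=
    Sylow.exists_subgroup_le_card_pow_prime_of_le_card Nat.prime_two hG h4
  have hAcomm : ∀ a b : A, a * b = b * a :=
    (IsPGroup.isMulCommutative_of_card_eq_prime_sq (p := 2) hAcard).is_comm.comm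
  obtain ⟨t', ht'⟩ := exists_prime_orderOf_dvd_card' (G := A) 2 (by rw [hAcard]; norm_num)
  obtain ⟨t, htA⟩ := t'
  have hto : orderOf t = 2 := by
    rw [← ht']; exact (Subgroup.orderOf_mk t htA).symm
  have ht1 : t ≠ 1 := by
    intro h; rw [h, orderOf_one] at hto; omega
  have htt : t * t = 1 := by rw [← pow_two, ← hto]; exact pow_orderOf_eq_one t
  have htv : ρ t v₀ = v₀ := hAle htA
  obtain ⟨u, hu, htu⟩ := exists_neg_vec ρ hρ t htt ht1
  have hAsub : A ≤ Subgroup.zpowers t := by
    intro s hsA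
    have hsv : ρ s v₀ = v₀ := hAle hsA
    have hst : s * t = t * s := by
      have := hAcomm ⟨s, hsA⟩ ⟨t, htA⟩
      exact congrArg Subtype.val this
    obtain ⟨c, hc⟩ := commute_neg ρ hfr hv₀ hu t htv htu s hst
    rcases zmod3_cases c with rfl | rfl | rfl
    · exfalso
      rw [zero_smul] at hc
      exact rho_ne_zero ρ s hu hc
    · rw [one_smul] at hc
      have := fix_two ρ hρ hfr hv₀ hu t htv htu s hsv hc
      rw [this]; exact one_mem _
    · rw [neg_smul, one_smul] at hc
      have h1 : ρ (t * s) u = u := by rw [rho_mul, hc, map_neg, htu, neg_neg]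
      have h2 : ρ (t * s) v₀ = v₀ := by rw [rho_mul, hsv, htv]
      have h3 := fix_two ρ hρ hfr hv₀ hu t htv htu (t * s) h2 h1
      have h5 : s = t⁻¹ := (eq_inv_of_mul_eq_one_right h3)
      rw [h5]; exact inv_mem (Subgroup.mem_zpowers t)
  have h5 := Subgroup.card_le_of_le hAsub
  rw [hAcard, Nat.card_zpowers, hto] at h5
  omega

theorem qd_case [Finite G] (hρ : Function.Injective ρ)
    (hfr : Module.finrank (ZMod 3) V = 2)
    (htrans : ∀ v w : V, v ≠ 0 → w ≠ 0 → ∃ g : G, ρ g v = w)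
    (hc : Nat.card G = 16) {v₀ : V} (hv₀ : v₀ ≠ 0)
    (hst : Nat.card (stab ρ v₀) = 2) : Cfsg.IsQuasiDihedral G := by
  have hne : stab ρ v₀ ≠ ⊥ := by
    intro h; rw [h, Subgroup.card_bot] at hst; omega
  obtain ⟨y, hyS, hy1⟩ : ∃ y ∈ stab ρ v₀, y ≠ 1 := by
    by_contra h; push Not at h; exact hne ((Subgroup.eq_bot_iff_forall _).mpr h)
  obtain ⟨hyy, hScases⟩ := card_two_cases hst hyS hy1
  have hyv : ρ y v₀ = v₀ := hyS
  have hyinv : y⁻¹ = y := inv_eq_of_mul_eq_one_right hyy
  -- involutions with a fixed vector are conjugate to y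
  have hconj : ∀ t : G, t ≠ 1 → (∃ w : V, w ≠ 0 ∧ ρ t w = w) → ∃ h : G, h⁻¹ * t * h = y := by
    intro t ht1 ⟨w, hw, htw⟩
    obtain ⟨h, hh⟩ := htrans v₀ w hv₀ hw
    refine ⟨h, ?_⟩
    have hmem : h⁻¹ * t * h ∈ stab ρ v₀ := by
      rw [mem_stab, rho_mul, rho_mul, hh, htw, ← hh, rho_inv_apply]
    rcases hScases _ hmem with h1 | h1
    · exfalso
      apply ht1
      have : t = h * (h⁻¹ * t * h) * h⁻¹ := by group
      rw [this, h1]; group
    · exact h1
  have hnosq : ∀ g : G, g * g ≠ y := fun g hg => no_sqrt ρ hρ hfr hv₀ y hy1 hyy hyv g hg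
  have hnosq' : ∀ g h : G, h⁻¹ * (g * g) * h ≠ y := by
    intro g h hgh
    apply hnosq (h⁻¹ * g * h)
    rw [← hgh]; group
  obtain ⟨u, hu, hyu⟩ := exists_neg_vec ρ hρ y hyy hy1
  have hpowsq : ∀ g : G, g ^ 4 = (g * g) * (g * g) := by
    intro g; simp only [pow_succ, pow_zero, one_mul, mul_assoc]
  -- existence of an element of order 8
  have hE : ∃ x : G, orderOf x = 8 := by
    by_contra h8
    push Not at h8
    have hpow4 : ∀ g : G, g ^ 4 = 1 := by
      intro g
      have h1 : orderOf g ∣ 2 ^ 4 := by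
        rw [show (2 : ℕ) ^ 4 = 16 by norm_num, ← hc]; exact orderOf_dvd_natCard g
      obtain ⟨i, hi, hi2⟩ := (Nat.dvd_prime_pow Nat.prime_two).mp h1
      have hi3 : i ≠ 3 := fun h => h8 g (by rw [hi2, h]; norm_num)
      have hi4 : i ≠ 4 := by
        intro h
        apply h8 (g ^ 2)
        rw [orderOf_pow_of_dvd (by norm_num) (by rw [hi2, h]; norm_num), hi2, h]
        norm_num
      have h4 : orderOf g ∣ 4 := by
        rw [hi2, show (4 : ℕ) = 2 ^ 2 by norm_num]; exact pow_dvd_pow 2 (by omega)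
      exact orderOf_dvd_iff_pow_eq_one.mp h4
    have hSQ : ∀ g : G, (∀ w, ρ (g * g) w = w) ∨ (∀ w, ρ (g * g) w = -w) := by
      intro g
      have hss : (g * g) * (g * g) = 1 := by rw [← hpowsq, hpow4]
      by_cases hs1 : g * g = 1
      · left; intro w; rw [hs1, rho_one]
      · rcases invol_cases ρ (g * g) hss with hfix | hneg
        · exfalso
          obtain ⟨h, hh⟩ := hconj (g * g) hs1 hfix
          exact hnosq' g h hh
        · exact Or.inr hneg
    have hall : ∀ w : V, ρ y w = w ∨ ρ y w = -w := by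
      intro w
      by_cases hw : w = 0
      · left; rw [hw, map_zero]
      obtain ⟨h, hh⟩ := htrans v₀ w hv₀ hw
      have hconjw : ρ (h * y * h⁻¹) w = w := by
        rw [← hh, ← rho_mul]
        have : h * y * h⁻¹ * h = h * y := by group
        rw [this, rho_mul, hyv]
      have hid : h * y * h⁻¹ * (h * h) = h * y * (h * y) * y := by
        have e : h * y * (h * y) * y = h * y * h * (y * y) := by group
        rw [e, hyy]; group
      have key : ρ (h * y * h⁻¹) (ρ (h * h) w) = ρ ((h * y) * (h * y)) (ρ y w) := by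
        rw [← rho_mul, ← rho_mul, hid]
      rcases hSQ h with h1 | h1 <;> rcases hSQ (h * y) with h2 | h2
      · left; rw [h1, h2, hconjw] at key; exact key.symm
      · right; rw [h1, h2, hconjw] at key; exact (neg_eq_iff_eq_neg.mpr key).symm
      · right; rw [h1, h2, map_neg, hconjw] at key; exact key.symm
      · left; rw [h1, h2, map_neg, hconjw] at key; exact (neg_injective key).symm
    rcases hall (v₀ + u) with h | h
    · rw [map_add, hyv, hyu] at h
      have h1 : -u = u := add_left_cancel h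
      exact hu (eq_zero_of_eq_neg h1.symm)
    · rw [map_add, hyv, hyu, neg_add] at h
      have h1 : v₀ = -v₀ := add_right_cancel h
      exact hv₀ (eq_zero_of_eq_neg h1)
  obtain ⟨x, hx⟩ := hE
  have hx8 : x ^ 8 = 1 := by rw [← hx]; exact pow_orderOf_eq_one x
  have hx41 : x ^ 4 ≠ 1 := pow_ne_one_of_lt_orderOf (by norm_num) (by rw [hx]; norm_num)
  have hx4sq : x ^ 4 * x ^ 4 = 1 := by rw [← pow_add]; exact hx8
  have hx4neg : ∀ w : V, ρ (x ^ 4) w = -w := by
    rcases invol_cases ρ (x ^ 4) hx4sq with hfix | hneg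
    · exfalso
      obtain ⟨h, hh⟩ := hconj (x ^ 4) hx41 hfix
      apply hnosq' (x ^ 2) h
      rw [← pow_add]; exact hh
    · exact hneg
  have hyH : y ∉ Subgroup.zpowers x := by
    intro hmem
    have h1 := Cfsg.Agent.S1896.unique_invol x 3 (by norm_num) (by rw [hx]; norm_num) y hmem
      (by rw [pow_two]; exact hyy) hy1
    have h2 : ρ y v₀ = -v₀ := by
      rw [h1]; exact hx4neg v₀
    rw [hyv] at h2
    exact hv₀ (eq_zero_of_eq_neg h2)
  have hHcard : Nat.card (Subgroup.zpowers x) = 8 := by rw [Nat.card_zpowers, hx]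
  have hidx : (Subgroup.zpowers x).index = 2 := by
    have h1 := Subgroup.index_mul_card (Subgroup.zpowers x)
    rw [hHcard, hc] at h1
    omega
  have hnorm : (Subgroup.zpowers x).Normal := Subgroup.normal_of_index_eq_two hidx
  have hconjmem : y * x * y⁻¹ ∈ Subgroup.zpowers x :=
    hnorm.conj_mem x (Subgroup.mem_zpowers x) y
  obtain ⟨k, hk⟩ := (Submonoid.mem_powers_iff _ _).mp (mem_powers_iff_mem_zpowers.mpr hconjmem)
  rw [← pow_mod_orderOf, hx] at hk
  have hk8 : k % 8 < 8 := Nat.mod_lt _ (by norm_num)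
  have hodd : (k % 8) % 2 = 1 := by
    by_contra h
    have h2 : 2 ∣ k % 8 := by omega
    obtain ⟨m, hm⟩ := h2
    have h3 : (y * x * y⁻¹) ^ 4 = 1 := by
      rw [← hk, hm, ← pow_mul, show 2 * m * 4 = 8 * m by ring, pow_mul, hx8, one_pow]
    rw [conj_pow] at h3
    exact hx41 (conj_eq_one_iff.mp h3)
  -- the commuting-with-x^2 case is impossible
  have hcase15 : y * (x ^ 2) * y⁻¹ = x ^ 2 → False := by
    intro h
    have hcomm : x ^ 2 * y = y * x ^ 2 := by
      calc x ^ 2 * y = y * (x ^ 2) * y⁻¹ * y := by rw [h]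
        _ = y * x ^ 2 := by group
    obtain ⟨c, hc'⟩ := commute_fix ρ hρ hfr hv₀ y hy1 hyv (x ^ 2) hcomm
    have h1 := sq_fix ρ (x ^ 2) hv₀ hc'
    rw [← pow_add] at h1
    have h2 := hx4neg v₀
    rw [show 2 + 2 = 4 by norm_num] at h1
    rw [h1] at h2
    exact hv₀ (eq_zero_of_eq_neg h2)
  have hrel : y * x * y⁻¹ = x ^ 3 := by
    interval_cases hr : k % 8
    · omega
    · exfalso
      apply hcase15
      rw [← conj_pow, ← hk, pow_one]
    · omega
    · exact hk.symm
    · omega
    · exfalso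
      apply hcase15
      rw [← conj_pow, ← hk, ← pow_mul]
      rw [← pow_mod_orderOf x (5 * 2), hx]
    · omega
    · exfalso
      have hinv : y * x * y⁻¹ = x⁻¹ := by
        rw [← hk]
        apply eq_inv_of_mul_eq_one_left
        rw [← pow_succ]; exact hx8
      -- t = y * x is an involution
      have htt : (y * x) * (y * x) = 1 := by
        calc (y * x) * (y * x) = (y * x * y) * x := by group
          _ = (y * x * y⁻¹) * x := by rw [hyinv]
          _ = 1 := by rw [hinv, inv_mul_cancel]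
      have ht1 : y * x ≠ 1 := by
        intro h
        apply hyH
        have : y = x⁻¹ := eq_inv_of_mul_eq_one_left h
        rw [this]; exact inv_mem (Subgroup.mem_zpowers x)
      rcases invol_cases ρ (y * x) htt with hfix | hneg
      · obtain ⟨h, hh⟩ := hconj (y * x) ht1 hfix
        -- reduce to h in the cyclic subgroup
        have hex : ∃ a ∈ Subgroup.zpowers x, a * y * a⁻¹ = y * x := by
          by_cases hH : h ∈ Subgroup.zpowers x
          · refine ⟨h, hH, ?_⟩
            calc h * y * h⁻¹ = h * (h⁻¹ * (y * x) * h) * h⁻¹ := by rw [hh]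
              _ = y * x := by group
          · refine ⟨h * y, ?_, ?_⟩
            · rw [Subgroup.mul_mem_iff_of_index_two hidx]
              exact ⟨fun h' => absurd h' hH, fun h' => absurd h' hyH⟩
            · calc h * y * y * (h * y)⁻¹ = h * (y * y) * y⁻¹ * h⁻¹ := by group
                _ = h * y * h⁻¹ := by rw [hyy, hyinv, mul_one]
                _ = h * (h⁻¹ * (y * x) * h) * h⁻¹ := by rw [hh]
                _ = y * x := by group
        obtain ⟨a, haH, ha⟩ := hex
        obtain ⟨i, rfl⟩ := (Submonoid.mem_powers_iff _ _).mp (mem_powers_iff_mem_zpowers.mpr haH)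
        have hci : y * x ^ i * y⁻¹ = (x ^ i)⁻¹ := by
          rw [← conj_pow, hinv, inv_pow]
        have e1 : x ^ i * y * (x ^ i)⁻¹ = y * ((x ^ i)⁻¹ * (x ^ i)⁻¹) := by
          have : x ^ i * y = y * (x ^ i)⁻¹ := by
            have h2 : (x ^ i)⁻¹ = y * x ^ i * y⁻¹ := hci.symm
            rw [h2, hyinv]
            calc x ^ i * y = (y * y) * x ^ i * y := by rw [hyy, one_mul]
              _ = y * (y * x ^ i * y) := by group
          rw [this, mul_assoc]
        rw [e1] at ha
        have e2 : (x ^ i)⁻¹ * (x ^ i)⁻¹ = x := mul_left_cancel ha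
        have e3 : x ^ (i + i + 1) = 1 := by
          rw [pow_succ, pow_add]
          nth_rewrite 3 [← e2]
          group
        have e4 : 8 ∣ i + i + 1 := by rw [← hx]; exact orderOf_dvd_of_pow_eq_one e3
        omega
      · have h1 : y * x = x ^ 4 := by
          apply hρ
          ext w
          rw [hneg w, hx4neg w]
        apply hyH
        have : y = x ^ 4 * x⁻¹ := by rw [← h1]; group
        rw [this]
        exact mul_mem (pow_mem (Subgroup.mem_zpowers x) 4) (inv_mem (Subgroup.mem_zpowers x))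
  have hyord : orderOf y = 2 := orderOf_eq_prime (by rw [pow_two]; exact hyy) hy1
  exact ⟨3, le_refl 3, by rw [hc]; norm_num, x, y, by rw [hx]; norm_num, hyord,
    by rw [hrel]; norm_num⟩

end Nine

/-- Let q be a prime, V a non-trivial finite vector space over the field with q elements, and G a non-trivial finite p-group (p prime) acting faithfully and linearly on V and transitively on the non-zero vectors. Then either q = 2 and G has prime order p = |V| − 1; or p = 2, V has q elements with q = 2^m + 1 and G is cyclic of order 2^m; or p = 2, q = 3, V has 9 elements and G is cyclic of order 8, quaternion of order 8, or semidihedral of order 16. -/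
theorem result (q : ℕ) [Fact q.Prime] {V : Type*} [AddCommGroup V] [Module (ZMod q) V] [Finite V] [Nontrivial V]
    {G : Type*} [Group G] [Finite G] [Nontrivial G] (p : ℕ) [Fact p.Prime] (hG : IsPGroup p G)
    (ρ : G →* (V ≃ₗ[ZMod q] V)) (hρ : Function.Injective ρ)
    (htrans : ∀ v w : V, v ≠ 0 → w ≠ 0 → ∃ g : G, ρ g v = w) :
    (q = 2 ∧ p = Nat.card V - 1 ∧ Nat.card G = p) ∨
    (p = 2 ∧ Nat.card V = q ∧ (∃ m : ℕ, q = 2 ^ m + 1 ∧ Nat.card G = 2 ^ m) ∧ IsCyclic G) ∨
    (p = 2 ∧ q = 3 ∧ Nat.card V = 9 ∧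
      ((IsCyclic G ∧ Nat.card G = 8) ∨ Nonempty (G ≃* QuaternionGroup 2) ∨ (Cfsg.IsQuasiDihedral G ∧ Nat.card G = 16))) := by
  classical
  have hq : q.Prime := Fact.out
  have hp : p.Prime := Fact.out
  obtain ⟨v₀, hv₀⟩ := exists_ne (0 : V)
  have hcardV : Nat.card V = q ^ Module.finrank (ZMod q) V := by
    rw [Module.natCard_eq_pow_finrank (K := ZMod q), Nat.card_zmod]
  have hd : 1 ≤ Module.finrank (ZMod q) V := Module.finrank_pos
  generalize hdd : Module.finrank (ZMod q) V = d at hcardV hd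
  have hidx : ∀ v : V, v ≠ 0 → (stab ρ v).index = Nat.card V - 1 :=
    fun v hv => index_stab ρ htrans hv
  obtain ⟨j, hj⟩ := hG.index (stab ρ v₀)
  have hqd1 : 1 ≤ q ^ d := Nat.one_le_pow _ _ hq.pos
  have hVj : q ^ d = p ^ j + 1 := by
    have h1 := hidx v₀ hv₀
    rw [hj, hcardV] at h1
    omega
  have hcardG : ∀ v : V, v ≠ 0 → Nat.card G = p ^ j * Nat.card (stab ρ v) := by
    intro v hv
    rw [← Subgroup.index_mul_card (stab ρ v), hidx v hv, ← hidx v₀ hv₀, hj]
  have hj1 : 1 ≤ j := by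
    by_contra h
    have hj0 : j = 0 := by omega
    rw [hj0, pow_zero] at hj
    have htop : stab ρ v₀ = ⊤ := Subgroup.index_eq_one.mp hj
    obtain ⟨g, hg⟩ := exists_ne (1 : G)
    apply hg
    apply eq_one_of_fix ρ hρ
    intro w
    by_cases hw : w = 0
    · rw [hw, map_zero]
    · obtain ⟨h, hh⟩ := htrans v₀ w hv₀ hw
      have h1 : h ∈ stab ρ v₀ := by rw [htop]; trivial
      have h2 : g ∈ stab ρ v₀ := by rw [htop]; trivial
      rw [← hh, (show ρ h v₀ = v₀ from h1)]
      exact h2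
  by_cases hq2 : q = 2
  · left
    subst hq2
    have hj' : j = 1 := nt_two p d j hp hj1 hVj
    subst hj'
    rw [pow_one] at hVj hj hcardG
    refine ⟨rfl, ?_, ?_⟩
    · rw [hcardV, hVj]; omega
    · have hcG := hcardG v₀ hv₀
      obtain ⟨n, hn⟩ := (IsPGroup.iff_card).mp hG
      have hn0 : n ≠ 0 := by
        rintro rfl
        rw [pow_zero] at hn
        have := Finite.one_lt_card (α := G)
        omega
      have hminfac : (Nat.card G).minFac = p := by rw [hn]; exact hp.pow_minFac hn0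
      have hnorm : (stab ρ v₀).Normal :=
        Subgroup.normal_of_index_eq_minFac_card (by rw [hj, hminfac])
      have hbot : stab ρ v₀ = ⊥ := by
        rw [Subgroup.eq_bot_iff_forall]
        intro g hg
        apply eq_one_of_fix ρ hρ
        intro w
        by_cases hw : w = 0
        · rw [hw, map_zero]
        · obtain ⟨h, hh⟩ := htrans v₀ w hv₀ hw
          have h1 : h⁻¹ * g * h ∈ stab ρ v₀ := by
            have := hnorm.conj_mem g hg h⁻¹
            simpa using this
          have h2 : ρ (h⁻¹ * g * h) v₀ = v₀ := h1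
          rw [rho_mul, rho_mul, hh] at h2
          have h3 := congrArg (ρ h) h2
          rw [rho_apply_inv, hh] at h3
          exact h3
      rw [hcG, hbot, Subgroup.card_bot, mul_one]
  · right
    have hqodd : Odd q := hq.odd_of_ne_two hq2
    have hp2 : p = 2 := by
      have h1 : Odd (q ^ d) := hqodd.pow
      rw [hVj] at h1
      have h2 : Even (p ^ j) := by
        rcases Nat.even_or_odd (p ^ j) with h | h
        · exact h
        · exact absurd (h.add_odd odd_one) (Nat.not_even_iff_odd.mpr h1)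
      have h3 : Even p := (Nat.even_pow.mp h2).1
      exact (Nat.Prime.even_iff hp).mp h3
    subst hp2
    by_cases hd1 : d = 1
    · left
      subst hd1
      rw [pow_one] at hcardV hVj
      have hspan : ∀ w : V, ∃ c : ZMod q, c • v₀ = w :=
        (finrank_eq_one_iff_of_nonzero' v₀ hv₀).mp hdd
      have hbot : stab ρ v₀ = ⊥ := by
        rw [Subgroup.eq_bot_iff_forall]
        intro g hg
        apply eq_one_of_fix ρ hρ
        intro w
        obtain ⟨c, rfl⟩ := hspan w
        rw [map_smul, (show ρ g v₀ = v₀ from hg)]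
      have hcG : Nat.card G = 2 ^ j := by
        rw [hcardG v₀ hv₀, hbot, Subgroup.card_bot, mul_one]
      refine ⟨rfl, hcardV, ⟨j, hVj, hcG⟩, ?_⟩
      choose c hc using fun g : G => hspan (ρ g v₀)
      have hinj : Function.Injective (fun a : ZMod q => a • v₀) :=
        smul_left_injective (ZMod q) hv₀
      let f : G →* ZMod q :=
        { toFun := c
          map_one' := by
            apply hinj
            show c 1 • v₀ = (1 : ZMod q) • v₀
            rw [hc, rho_one, one_smul]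
          map_mul' := by
            intro a b
            apply hinj
            show c (a * b) • v₀ = (c a * c b) • v₀
            rw [hc, rho_mul, ← hc b, map_smul, ← hc a, smul_smul, mul_comm] }
      have hf : Function.Injective f := by
        intro a b hab
        have hab' : c a = c b := hab
        have h1 : ρ a v₀ = ρ b v₀ := by rw [← hc a, ← hc b, hab']
        have h2 : b⁻¹ * a ∈ stab ρ v₀ := by
          show ρ (b⁻¹ * a) v₀ = v₀
          rw [rho_mul, h1, rho_inv_apply]
        rw [hbot, Subgroup.mem_bot] at h2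
        exact (inv_mul_eq_one.mp h2).symm
      exact isCyclic_of_injective_ringHom f hf
    · right
      have hd2 : 2 ≤ d := by omega
      obtain ⟨hq3, hd2'⟩ := nt_odd q d j hq hqodd hd2 hVj
      subst hq3
      subst hd2'
      have hV9 : Nat.card V = 9 := by rw [hcardV]; norm_num
      have hj3 : j = 3 := by
        have h8 : 2 ^ j = 2 ^ 3 := by norm_num at hVj ⊢; omega
        exact Nat.pow_right_injective (le_refl 2) h8
      subst hj3
      refine ⟨rfl, rfl, hV9, ?_⟩
      have hcG := hcardG v₀ hv₀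
      have hle := stab_card_le_two ρ hG hρ hdd hv₀
      have hpos : 0 < Nat.card (stab ρ v₀) := Nat.card_pos
      have h12 : Nat.card (stab ρ v₀) = 1 ∨ Nat.card (stab ρ v₀) = 2 := by omega
      rcases h12 with h1 | h2
      · have hc8 : Nat.card G = 8 := by rw [hcG, h1]; norm_num
        have hbot : ∀ v : V, v ≠ 0 → stab ρ v = ⊥ := by
          intro v hv
          have h3 := hcardG v hv
          rw [hc8] at h3
          have h4 : Nat.card (stab ρ v) = 1 := by
            have e : (2 : ℕ) ^ 3 = 8 := by norm_num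
            rw [e] at h3
            omega
          exact Subgroup.card_eq_one.mp h4
        have hinvneg : ∀ t : G, t * t = 1 → t ≠ 1 → ∀ w, ρ t w = -w := by
          intro t htt ht1
          rcases invol_cases ρ t htt with ⟨w, hw, hfix⟩ | hneg
          · exfalso
            have h3 : t ∈ stab ρ w := hfix
            rw [hbot w hw, Subgroup.mem_bot] at h3
            exact ht1 h3
          · exact hneg
        have huniq : ∀ s t : G, s * s = 1 → s ≠ 1 → t * t = 1 → t ≠ 1 → s = t := by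
          intro s t hs hs1 ht ht1
          apply hρ
          ext w
          rw [hinvneg s hs hs1 w, hinvneg t ht ht1 w]
        rcases order8_unique_invol hc8 huniq with hcyc | hQ
        · exact Or.inl ⟨hcyc, hc8⟩
        · exact Or.inr (Or.inl hQ)
      · have hc16 : Nat.card G = 16 := by rw [hcG, h2]; norm_num
        exact Or.inr (Or.inr ⟨qd_case ρ hρ hdd htrans hc16 hv₀ h2, hc16⟩)

end Cfsg.Agent.S3370
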