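import Mathlib
import Cfsg.Statements.S3374
import Cfsg.Agent.S3377
import Cfsg.Agent.S0692
import Cfsg.Agent.Lib_helper4_MatGroup
import Cfsg.Agent.Lib_helper21_Frobenius

set_option autoImplicit false
open Cfsg

namespace Cfsg.Agent.S3374

open Matrix

/-- a group generated by `x, y` satisfying the binary icosahedral relations has at most 120 elements -/
theorem card_le_120 {P : Type*} [Group P] (x y z : P) (hx : x ^ 3 = 1) (hy : y ^ 5 = 1)
    (hz : z ^ 2 = 1) (hzx : z * x = x * z) (hzy : z * y = y * z) (hxy : (x * y) ^ 2 = z)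
    (hgen : Subgroup.closure ({x, y} : Set P) = ⊤) : Finite P ∧ Nat.card P ≤ 120 := by
  have hcomm : ∀ g : P, g * z = z * g := by
    intro g
    have hg : g ∈ Subgroup.closure ({x, y} : Set P) := by rw [hgen]; trivial
    have hle : Subgroup.closure ({x, y} : Set P) ≤ Subgroup.centralizer {z} := by
      rw [Subgroup.closure_le]
      rintro t (rfl | rfl)
      · rw [SetLike.mem_coe, Subgroup.mem_centralizer_iff]
        rintro h rfl
        exact hzx
      · rw [SetLike.mem_coe, Subgroup.mem_centralizer_iff]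
        rintro h rfl
        exact hzy
    have := Subgroup.mem_centralizer_iff.mp (hle hg) z rfl
    exact this.symm
  have hZn : (Subgroup.zpowers z).Normal := by
    constructor
    intro n hn g
    obtain ⟨k, hk⟩ := Subgroup.mem_zpowers_iff.mp hn
    have hc : Commute g (z ^ k) := (show Commute g z from hcomm g).zpow_right k
    have : g * n * g⁻¹ = n := by
      rw [← hk, hc.eq, mul_inv_cancel_right]
    rw [this]; exact hn
  set Z := Subgroup.zpowers z with hZ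
  have hx' : (QuotientGroup.mk x : P ⧸ Z) ^ 3 = 1 := by
    rw [← QuotientGroup.mk_pow, hx]; rfl
  have hy' : (QuotientGroup.mk y : P ⧸ Z) ^ 5 = 1 := by
    rw [← QuotientGroup.mk_pow, hy]; rfl
  have hxy' : ((QuotientGroup.mk x : P ⧸ Z) * QuotientGroup.mk y) ^ 2 = 1 := by
    rw [← QuotientGroup.mk_mul, ← QuotientGroup.mk_pow, hxy, QuotientGroup.eq_one_iff]
    exact Subgroup.mem_zpowers z
  have hgen' : Subgroup.closure ({QuotientGroup.mk x, QuotientGroup.mk y} : Set (P ⧸ Z)) = ⊤ := by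
    have := congrArg (Subgroup.map (QuotientGroup.mk' Z)) hgen
    rw [MonoidHom.map_closure, ← MonoidHom.range_eq_map,
      MonoidHom.range_eq_top.mpr (QuotientGroup.mk'_surjective Z)] at this
    rw [← this]
    congr 1
    ext t
    simp [Set.image_pair]
  obtain ⟨hfin, hcard⟩ := Cfsg.Agent.S3377.card_le_sixty _ _ hx' hy' hxy' hgen'
  have hZfin : Finite Z := by
    have : IsOfFinOrder z := isOfFinOrder_iff_pow_eq_one.mpr ⟨2, by norm_num, hz⟩
    exact this.finite_zpowers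
  have hZcard : Nat.card Z ≤ 2 := by
    rw [hZ, Nat.card_zpowers]
    exact Nat.le_of_dvd (by norm_num) (orderOf_dvd_of_pow_eq_one hz)
  have hPfin : Finite P := Finite.of_equiv _ (Subgroup.groupEquivQuotientProdSubgroup (s := Z)).symm
  refine ⟨hPfin, ?_⟩
  rw [Subgroup.card_eq_card_quotient_mul_card_subgroup Z]
  calc Nat.card (P ⧸ Z) * Nat.card Z ≤ 60 * 2 := Nat.mul_le_mul hcard hZcard
    _ = 120 := by norm_num

/-- the relators of the binary icosahedral presentation -/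
def rels : Set (FreeGroup (Fin 3)) :=
  {FreeGroup.of (0 : Fin 3) ^ 3, FreeGroup.of (1 : Fin 3) ^ 5, FreeGroup.of (2 : Fin 3) ^ 2,
    (FreeGroup.of (2 : Fin 3))⁻¹ * FreeGroup.of 0 * FreeGroup.of 2 * (FreeGroup.of (0 : Fin 3))⁻¹,
    (FreeGroup.of (2 : Fin 3))⁻¹ * FreeGroup.of 1 * FreeGroup.of 2 * (FreeGroup.of (1 : Fin 3))⁻¹,
    (FreeGroup.of (0 : Fin 3) * FreeGroup.of 1) ^ 2 * (FreeGroup.of (2 : Fin 3))⁻¹}

/-- a triple in a group satisfying the relations gives a homomorphism -/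
theorem lift_rels {H : Type*} [Group H] (x y z : H) (hx : x ^ 3 = 1) (hy : y ^ 5 = 1)
    (hz : z ^ 2 = 1) (hzx : z * x = x * z) (hzy : z * y = y * z) (hxy : (x * y) ^ 2 = z) :
    ∀ r ∈ rels, FreeGroup.lift ![x, y, z] r = 1 := by
  intro r hr
  simp only [rels, Set.mem_insert_iff, Set.mem_singleton_iff] at hr
  rcases hr with rfl | rfl | rfl | rfl | rfl | rfl
  · simpa using hx
  · simpa using hy
  · simpa using hz
  · simp only [map_mul, map_inv, FreeGroup.lift_apply_of]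
    change z⁻¹ * x * z * x⁻¹ = 1
    rw [mul_assoc z⁻¹, ← hzx, ← mul_assoc, inv_mul_cancel, one_mul, mul_inv_cancel]
  · simp only [map_mul, map_inv, FreeGroup.lift_apply_of]
    change z⁻¹ * y * z * y⁻¹ = 1
    rw [mul_assoc z⁻¹, ← hzy, ← mul_assoc, inv_mul_cancel, one_mul, mul_inv_cancel]
  · simp only [map_mul, map_inv, map_pow, FreeGroup.lift_apply_of]
    change (x * y) ^ 2 * z⁻¹ = 1
    rw [hxy, mul_inv_cancel]

abbrev P := PresentedGroup rels

def px : P := PresentedGroup.of 0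
def py : P := PresentedGroup.of 1
def pz : P := PresentedGroup.of 2

theorem px3 : px ^ 3 = 1 := by
  have : PresentedGroup.mk rels (FreeGroup.of 0 ^ 3) = 1 :=
    PresentedGroup.one_of_mem (by simp [rels])
  rwa [map_pow] at this

theorem py5 : py ^ 5 = 1 := by
  have : PresentedGroup.mk rels (FreeGroup.of 1 ^ 5) = 1 :=
    PresentedGroup.one_of_mem (by simp [rels])
  rwa [map_pow] at this

theorem pz2 : pz ^ 2 = 1 := by
  have : PresentedGroup.mk rels (FreeGroup.of 2 ^ 2) = 1 :=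
    PresentedGroup.one_of_mem (by simp [rels])
  rwa [map_pow] at this

theorem pzx : pz * px = px * pz := by
  have : PresentedGroup.mk rels ((FreeGroup.of (2 : Fin 3))⁻¹ * FreeGroup.of 0 * FreeGroup.of 2 *
      (FreeGroup.of (0 : Fin 3))⁻¹) = 1 :=
    PresentedGroup.one_of_mem (by simp [rels])
  rw [map_mul, map_mul, map_mul, map_inv, map_inv] at this
  change pz⁻¹ * px * pz * px⁻¹ = 1 at this
  have h2 : pz⁻¹ * px * pz = px := by
    rw [← mul_inv_eq_one]; exact this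
  calc pz * px = pz * (pz⁻¹ * px * pz) := by rw [h2]
    _ = px * pz := by group

theorem pzy : pz * py = py * pz := by
  have : PresentedGroup.mk rels ((FreeGroup.of (2 : Fin 3))⁻¹ * FreeGroup.of 1 * FreeGroup.of 2 *
      (FreeGroup.of (1 : Fin 3))⁻¹) = 1 :=
    PresentedGroup.one_of_mem (by simp [rels])
  rw [map_mul, map_mul, map_mul, map_inv, map_inv] at this
  change pz⁻¹ * py * pz * py⁻¹ = 1 at this
  have h2 : pz⁻¹ * py * pz = py := by
    rw [← mul_inv_eq_one]; exact this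
  calc pz * py = pz * (pz⁻¹ * py * pz) := by rw [h2]
    _ = py * pz := by group

theorem pxy : (px * py) ^ 2 = pz := by
  have : PresentedGroup.mk rels ((FreeGroup.of (0 : Fin 3) * FreeGroup.of 1) ^ 2 *
      (FreeGroup.of (2 : Fin 3))⁻¹) = 1 :=
    PresentedGroup.one_of_mem (by simp [rels])
  rw [map_mul, map_pow, map_mul, map_inv] at this
  change (px * py) ^ 2 * pz⁻¹ = 1 at this
  exact mul_inv_eq_one.mp this

theorem px_mem : px ∈ Subgroup.closure ({px, py} : Set P) :=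
  Subgroup.subset_closure (Set.mem_insert _ _)

theorem py_mem : py ∈ Subgroup.closure ({px, py} : Set P) :=
  Subgroup.subset_closure (Set.mem_insert_of_mem _ rfl)

theorem pgen : Subgroup.closure ({px, py} : Set P) = ⊤ := by
  have h := PresentedGroup.closure_range_of rels
  rw [eq_top_iff, ← h, Subgroup.closure_le]
  rintro g ⟨i, rfl⟩
  fin_cases i
  · exact px_mem
  · exact py_mem
  · show pz ∈ Subgroup.closure ({px, py} : Set P)
    rw [← pxy]
    exact Subgroup.pow_mem _ (Subgroup.mul_mem _ px_mem py_mem) 2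

theorem P_card_le : Finite P ∧ Nat.card P ≤ 120 :=
  card_le_120 px py pz px3 py5 pz2 pzx pzy pxy pgen

/-! ### The subgroup of GL(2,11) -/

def gA : GL (Fin 2) (ZMod 11) := ⟨!![0, -1; 1, 0], !![0, 1; -1, 0], by decide, by decide⟩
def gB : GL (Fin 2) (ZMod 11) := ⟨!![2, 4; 1, -3], !![-3, -4; -1, 2], by decide, by decide⟩
def gY : GL (Fin 2) (ZMod 11) := ⟨!![10, 2; 3, 4], !![4, 9; 8, 10], by decide, by decide⟩
def gZ : GL (Fin 2) (ZMod 11) := ⟨!![-1, 0; 0, -1], !![-1, 0; 0, -1], by decide, by decide⟩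

theorem gB3 : gB ^ 3 = 1 := by decide
theorem gY5 : gY ^ 5 = 1 := by decide
theorem gZ2 : gZ ^ 2 = 1 := by decide
theorem gZB : gZ * gB = gB * gZ := by decide
theorem gZY : gZ * gY = gY * gZ := by decide
theorem gBY : (gB * gY) ^ 2 = gZ := by decide
theorem gA_eq : gA = (gY * gB)⁻¹ := by decide
theorem gY_eq : gY = gA ^ 3 * gB ^ 2 := by decide
theorem gZ_eq : gZ = gA ^ 2 := by decide

/-- the homomorphism to GL(2,11) -/
noncomputable def φ11 : P →* GL (Fin 2) (ZMod 11) :=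
  PresentedGroup.toGroup (f := ![gB, gY, gZ]) (lift_rels gB gY gZ gB3 gY5 gZ2 gZB gZY gBY)

theorem φ11_px : φ11 px = gB := by
  unfold φ11 px; rw [PresentedGroup.toGroup.of]; rfl
theorem φ11_py : φ11 py = gY := by
  unfold φ11 py; rw [PresentedGroup.toGroup.of]; rfl

abbrev C11 : Subgroup (GL (Fin 2) (ZMod 11)) := Subgroup.closure {gA, gB}

theorem C11_spec : Nat.card C11 = 120 ∧ ∀ v w : Fin 2 → ZMod 11, v ≠ 0 → w ≠ 0 →
    ∃! h : C11, Matrix.mulVec ((h : GL (Fin 2) (ZMod 11)) : Matrix (Fin 2) (Fin 2) (ZMod 11)) v = w :=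
  Cfsg.Agent.S0692.result gA gB rfl rfl

theorem gA_mem : gA ∈ C11 := Subgroup.subset_closure (Set.mem_insert _ _)

theorem gB_mem : gB ∈ C11 := Subgroup.subset_closure (Set.mem_insert_of_mem _ rfl)

theorem range_φ11 : φ11.range = C11 := by
  have hle : φ11.range ≤ C11 := by
    rw [MonoidHom.range_eq_map, ← pgen, MonoidHom.map_closure, Subgroup.closure_le]
    rintro t ⟨s, (rfl | rfl), rfl⟩
    · rw [φ11_px]; exact gB_mem
    · rw [φ11_py, gY_eq]
      exact Subgroup.mul_mem _ (Subgroup.pow_mem _ gA_mem 3) (Subgroup.pow_mem _ gB_mem 2)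
  have hge : C11 ≤ φ11.range := by
    rw [Subgroup.closure_le]
    rintro t (rfl | rfl)
    · rw [gA_eq, ← φ11_px, ← φ11_py, ← map_mul, ← map_inv]
      exact ⟨_, rfl⟩
    · rw [← φ11_px]; exact ⟨_, rfl⟩
  exact le_antisymm hle hge

theorem P_card : Nat.card P = 120 := by
  obtain ⟨hfin, hle⟩ := P_card_le
  apply le_antisymm hle
  rw [← C11_spec.1, ← range_φ11]
  exact Nat.card_le_card_of_surjective _ φ11.rangeRestrict_surjective

theorem φ11_injective : Function.Injective φ11 := by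
  obtain ⟨hfin, hle⟩ := P_card_le
  have hbij : Function.Bijective φ11.rangeRestrict := by
    apply Function.Surjective.bijective_of_nat_card_le φ11.rangeRestrict_surjective
    rw [range_φ11, C11_spec.1]; exact hle
  intro a b hab
  apply hbij.1
  exact Subtype.ext hab

/-- the isomorphism of the presented group with the matrix group -/
noncomputable def equivC11 : P ≃* C11 :=
  (MonoidHom.ofInjective φ11_injective).trans (MulEquiv.subgroupCongr range_φ11)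

/-! ### SL(2,5) -/

def sx : SpecialLinearGroup (Fin 2) (ZMod 5) := ⟨!![0, 4; 1, 4], by decide⟩
def sy : SpecialLinearGroup (Fin 2) (ZMod 5) := ⟨!![1, 1; 0, 1], by decide⟩
def sz : SpecialLinearGroup (Fin 2) (ZMod 5) := ⟨!![4, 0; 0, 4], by decide⟩

theorem sx3 : sx ^ 3 = 1 := by decide
theorem sy5 : sy ^ 5 = 1 := by decide
theorem sz2 : sz ^ 2 = 1 := by decide
theorem szx : sz * sx = sx * sz := by decide
theorem szy : sz * sy = sy * sz := by decide
theorem sxy : (sx * sy) ^ 2 = sz := by decide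

theorem card_sl5 : Nat.card (SpecialLinearGroup (Fin 2) (ZMod 5)) = 120 := by
  rw [Nat.card_eq_fintype_card]; decide +kernel

noncomputable def ψ5 : P →* SpecialLinearGroup (Fin 2) (ZMod 5) :=
  PresentedGroup.toGroup (f := ![sx, sy, sz]) (lift_rels sx sy sz sx3 sy5 sz2 szx szy sxy)

theorem ψ5_px : ψ5 px = sx := by
  unfold ψ5 px; rw [PresentedGroup.toGroup.of]; rfl
theorem ψ5_py : ψ5 py = sy := by
  unfold ψ5 py; rw [PresentedGroup.toGroup.of]; rfl

open Cfsg.Agent.helper4 in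
def gens5 : List Q4 := [(0, 4, 1, 4), (1, 1, 0, 1)]

def words5 : List (List ℕ) := [[], [0], [1], [0, 0], [0, 1], [1, 0], [1, 1], [0, 0, 1], [0, 1, 0], [0, 1, 1], [1, 0, 0], [1, 0, 1], [1, 1, 0], [1, 1, 1], [0, 0, 1, 0], [0, 0, 1, 1], [0, 1, 0, 0], [0, 1, 0, 1], [0, 1, 1, 0], [0, 1, 1, 1], [1, 0, 0, 1], [1, 0, 1, 1], [1, 1, 0, 0], [1, 1, 0, 1], [1, 1, 1, 0], [1, 1, 1, 1], [0, 0, 1, 0, 0], [0, 0, 1, 0, 1], [0, 0, 1, 1, 0], [0, 0, 1, 1, 1], [0, 1, 0, 0, 1], [0, 1, 0, 1, 1], [0, 1, 1, 0, 0], [0, 1, 1, 0, 1], [0, 1, 1, 1, 0], [0, 1, 1, 1, 1], [1, 0, 0, 1, 1], [1, 0, 1, 1, 1], [1, 1, 0, 0, 1], [1, 1, 0, 1, 1], [1, 1, 1, 0, 1], [0, 0, 1, 0, 0, 1], [0, 0, 1, 0, 1, 1], [0, 0, 1, 1, 0, 0], [0, 0, 1, 1, 0, 1], [0, 0, 1, 1, 1, 0], [0, 0, 1, 1, 1, 1], [0, 1, 0, 0, 1, 1], [0, 1, 0, 1, 1, 1], [0, 1, 1, 0, 0, 1], [0, 1, 1, 0, 1, 1], [0, 1, 1, 1, 0, 1], [1, 0, 0, 1, 1, 0], [1, 0, 0, 1, 1, 1], [1, 0, 1, 1, 1, 0], [1, 0, 1,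 1, 1, 1], [1, 1, 0, 0, 1, 1], [1, 1, 0, 1, 1, 1], [1, 1, 1, 0, 1, 1], [0, 0, 1, 0, 0, 1, 1], [0, 0, 1, 0, 1, 1, 1], [0, 0, 1, 1, 0, 0, 1], [0, 0, 1, 1, 0, 1, 1], [0, 0, 1, 1, 1, 0, 1], [0, 1, 0, 0, 1, 1, 0], [0, 1, 0, 0, 1, 1, 1], [0, 1, 0, 1, 1, 1, 0], [0, 1, 0, 1, 1, 1, 1], [0, 1, 1, 0, 0, 1, 1], [0, 1, 1, 0, 1, 1, 1], [0, 1, 1, 1, 0, 1, 1], [1, 0, 0, 1, 1, 0, 0], [1, 0, 0, 1, 1, 0, 1], [1, 0, 0, 1, 1, 1, 0], [1, 1, 0, 0, 1, 1, 0], [1, 1, 0, 1, 1, 1, 0], [1, 1, 0, 1, 1, 1, 1], [1, 1, 1, 0, 1, 1, 1], [0, 0, 1, 0, 0, 1, 1, 0], [0, 0, 1, 0, 0, 1, 1, 1], [0, 0, 1, 0, 1, 1, 1, 0], [0, 0, 1, 0, 1, 1, 1, 1], [0, 0, 1, 1, 0, 0, 1, 1], [0, 0, 1, 1, 0, 1, 1, 1], [0, 0, 1, 1, 1, 0, 1, 1], [0, 1, 0, 0, 1, 1, 0, 0], [0, 1, 0, 0, 1, 1, 0, 1], [0, 1, 0, 0, 1, 1, 1, 0], [0, 1, 1, 0, 0, 1, 1, 0], [0, 1, 1, 0, 1, 1, 1, 0], [0, 1, 1, 0, 1, 1, 1, 1], [0, 1, 1, 1, 0, 1, 1, 1], [1, 0, 0, 1, 1, 0, 0, 1], [1, 0, 0, 1, 1, 1, 0,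 1], [1, 1, 0, 0, 1, 1, 0, 0], [1, 1, 0, 0, 1, 1, 0, 1], [1, 1, 1, 0, 1, 1, 1, 0], [0, 0, 1, 0, 0, 1, 1, 0, 0], [0, 0, 1, 0, 0, 1, 1, 0, 1], [0, 0, 1, 0, 0, 1, 1, 1, 0], [0, 0, 1, 1, 0, 0, 1, 1, 0], [0, 0, 1, 1, 0, 1, 1, 1, 0], [0, 0, 1, 1, 0, 1, 1, 1, 1], [0, 0, 1, 1, 1, 0, 1, 1, 1], [0, 1, 0, 0, 1, 1, 0, 0, 1], [0, 1, 0, 0, 1, 1, 1, 0, 1], [0, 1, 1, 0, 0, 1, 1, 0, 0], [0, 1, 1, 0, 0, 1, 1, 0, 1], [0, 1, 1, 1, 0, 1, 1, 1, 0], [1, 0, 0, 1, 1, 0, 0, 1, 1], [1, 0, 0, 1, 1, 1, 0, 1, 1], [1, 1, 0, 0, 1, 1, 0, 0, 1], [0, 0, 1, 0, 0, 1, 1, 0, 0, 1], [0, 0, 1, 0, 0, 1, 1, 1, 0, 1], [0, 0, 1, 1, 0, 0, 1, 1, 0, 1], [0, 0, 1, 1, 1, 0, 1, 1, 1, 0], [0, 1, 0, 0, 1, 1, 0, 0, 1, 1], [0, 1, 1, 0, 0, 1, 1, 0, 0, 1], [1, 0, 0, 1, 1, 0, 0, 1, 1, 0], [1, 0, 0, 1, 1, 1, 0, 1, 1, 1]]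

open Cfsg.Agent.helper4 in
theorem card_closure5 :
    Nat.card (Subgroup.closure ({SpecialLinearGroup.toGL sx, SpecialLinearGroup.toGL sy} :
      Set (GL (Fin 2) (ZMod 5)))) = 120 := by
  have : Fact (Nat.Prime 5) := ⟨by norm_num⟩
  have eA : ((SpecialLinearGroup.toGL sx : GL (Fin 2) (ZMod 5)) : Matrix (Fin 2) (Fin 2) (ZMod 5))
      = toM 5 (0, 4, 1, 4) := by
    unfold toM; decide
  have eB : ((SpecialLinearGroup.toGL sy : GL (Fin 2) (ZMod 5)) : Matrix (Fin 2) (Fin 2) (ZMod 5))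
      = toM 5 (1, 1, 0, 1) := by
    unfold toM; decide
  have hS : ∀ s ∈ ({SpecialLinearGroup.toGL sx, SpecialLinearGroup.toGL sy} : Set (GL2 5)),
      ∃ g ∈ gens5, (s : Matrix (Fin 2) (Fin 2) (ZMod 5)) = toM 5 g := by
    rintro s (rfl | rfl)
    · exact ⟨_, by simp [gens5], eA⟩
    · exact ⟨_, by simp [gens5], eB⟩
  have hgens : ∀ g ∈ gens5, ∃ s ∈ ({SpecialLinearGroup.toGL sx, SpecialLinearGroup.toGL sy} : Set (GL2 5)),
      (s : Matrix (Fin 2) (Fin 2) (ZMod 5)) = toM 5 g := by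
    intro g hg
    simp only [gens5, List.mem_cons, List.not_mem_nil, or_false] at hg
    rcases hg with rfl | rfl
    · exact ⟨_, Or.inl rfl, eA⟩
    · exact ⟨_, Or.inr rfl, eB⟩
  have hone : oneQ ∈ words5.map (evalW 5 gens5) := by decide +kernel
  have hclosed : ∀ g ∈ gens5, ∀ t ∈ words5.map (evalW 5 gens5),
      mulQ 5 t g ∈ words5.map (evalW 5 gens5) := by
    decide +kernel
  have hlt : ∀ t ∈ words5.map (evalW 5 gens5), ltQ 5 t := by decide +kernel
  have hnodup : (words5.map (evalW 5 gens5)).Nodup := by decide +kernel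
  have hlen : words5.length = 120 := by decide +kernel
  rw [card_closure _ gens5 words5 hS hgens hone hclosed hlt hnodup, hlen]

theorem ψ5_bijective : Function.Bijective ψ5 := by
  obtain ⟨hfin, hle⟩ := P_card_le
  set ψ' : P →* GL (Fin 2) (ZMod 5) := (SpecialLinearGroup.toGL).comp ψ5 with hψ'
  have hge : Subgroup.closure ({SpecialLinearGroup.toGL sx, SpecialLinearGroup.toGL sy} :
      Set (GL (Fin 2) (ZMod 5))) ≤ ψ'.range := by
    rw [Subgroup.closure_le]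
    rintro t (rfl | rfl)
    · exact ⟨px, by rw [hψ', MonoidHom.comp_apply, ψ5_px]⟩
    · exact ⟨py, by rw [hψ', MonoidHom.comp_apply, ψ5_py]⟩
  have hbij : Function.Bijective ψ'.rangeRestrict := by
    apply Function.Surjective.bijective_of_nat_card_le ψ'.rangeRestrict_surjective
    calc Nat.card P ≤ 120 := hle
      _ = _ := card_closure5.symm
      _ ≤ Nat.card ψ'.range := Subgroup.card_le_of_le hge
  have hinj : Function.Injective ψ5 := by
    intro a b hab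
    apply hbij.1
    apply Subtype.ext
    show ψ' a = ψ' b
    rw [hψ', MonoidHom.comp_apply, MonoidHom.comp_apply, hab]
  apply Function.Injective.bijective_of_nat_card_le hinj
  rw [card_sl5, P_card]

noncomputable def equivSL5 : P ≃* SpecialLinearGroup (Fin 2) (ZMod 5) :=
  MulEquiv.ofBijective ψ5 ψ5_bijective

/-! ### The Frobenius group -/

theorem result :
    ∃ (L : Type) (_ : Group L) (_ : Finite L) (H : Subgroup L),
      Cfsg.IsFrobeniusComplement H ∧ Nonempty (H ≃* Matrix.SpecialLinearGroup (Fin 2) (ZMod 5)) := by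
  have hp11 : Fact (Nat.Prime 11) := ⟨by norm_num⟩
  have hfinC : Finite C11 := Nat.finite_of_card_ne_zero (by rw [C11_spec.1]; norm_num)
  have hntC : Nontrivial C11 := by
    rw [← Finite.one_lt_card_iff_nontrivial, C11_spec.1]; norm_num
  let φ : C11 →* MulAut (Multiplicative (Matrix (Fin 2) (Fin 2) (ZMod 11))) :=
    ((MulAutMultiplicative (Matrix (Fin 2) (Fin 2) (ZMod 11))).symm.toMonoidHom.comp
      AddAut.mulLeft).comp C11.subtype
  have hfpf : ∀ c : C11, c ≠ 1 →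
      ∀ k : Multiplicative (Matrix (Fin 2) (Fin 2) (ZMod 11)), φ c k = k → k = 1 := by
    intro c hc k hk
    have hk' : ((c : GL (Fin 2) (ZMod 11)) : Matrix (Fin 2) (Fin 2) (ZMod 11)) * k.toAdd = k.toAdd :=
      congrArg Multiplicative.toAdd hk
    have hcol : ∀ j, (fun i => k.toAdd i j) = 0 := by
      intro j
      by_contra hne
      have h1 : ((c : GL (Fin 2) (ZMod 11)) : Matrix (Fin 2) (Fin 2) (ZMod 11)) *ᵥ
          (fun i => k.toAdd i j) = (fun i => k.toAdd i j) := by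
        ext i
        have := congrFun (congrFun hk' i) j
        rw [Matrix.mul_apply] at this
        rw [Matrix.mulVec, dotProduct]
        exact this
      obtain ⟨h, -, huniq⟩ := C11_spec.2 _ _ hne hne
      have e1 := huniq c h1
      have e2 := huniq 1 (by simp)
      exact hc (e1.trans e2.symm)
    have : k.toAdd = 0 := by
      ext i j
      exact congrFun (hcol j) i
    exact congrArg Multiplicative.ofAdd this
  obtain ⟨L, hL, hLf, H, hH, ⟨e⟩⟩ := Cfsg.Agent.helper21.frobenius_of_fpf φ hfpf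
  exact ⟨L, hL, hLf, H, hH, ⟨e.symm.trans (equivC11.symm.trans equivSL5)⟩⟩

end Cfsg.Agent.S3374
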