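import Mathlib
import Cfsg.Statements.S3375

set_option autoImplicit false
open Cfsg

namespace Cfsg.Agent.S3375

variable {H : Type*} [Group H] [Finite H]

theorem sq (γ : MulAut H) (hγ : orderOf γ = 2) (h : H) : γ (γ h) = h := by
  have h2 : γ ^ 2 = 1 := by rw [← hγ]; exact pow_orderOf_eq_one γ
  have := congrArg (fun f : MulAut H => f h) h2
  simpa [pow_two, MulAut.mul_apply] using this

/-- the map `h ↦ h⁻¹ * γ h` has values inverted by `γ`. -/
theorem tau_inv (γ : MulAut H) (hγ : orderOf γ = 2) (h : H) :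
    γ (h⁻¹ * γ h) = (h⁻¹ * γ h)⁻¹ := by
  rw [map_mul, sq γ hγ, map_inv, mul_inv_rev, inv_inv]

theorem part1 (γ : MulAut H) (hγ : orderOf γ = 2) (hfix : ∀ h : H, γ h = h → h = 1) :
    (∀ a b : H, a * b = b * a) ∧ ∀ h : H, γ h = h⁻¹ := by
  have hinj : Function.Injective (fun h : H => h⁻¹ * γ h) := by
    intro h k hk
    simp only at hk
    have : γ (k * h⁻¹) = k * h⁻¹ := by
      rw [map_mul, map_inv]
      have h1 : γ k = k * (h⁻¹ * γ h) := by rw [hk]; group
      rw [h1]; group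
    have := hfix _ this
    exact (mul_inv_eq_one.mp this).symm
  have hsurj : Function.Surjective (fun h : H => h⁻¹ * γ h) := Finite.surjective_of_injective hinj
  have hinv : ∀ h : H, γ h = h⁻¹ := by
    intro x
    obtain ⟨h, rfl⟩ := hsurj x
    exact tau_inv γ hγ h
  refine ⟨?_, hinv⟩
  intro a b
  have h1 := hinv (a * b)
  rw [map_mul, hinv a, hinv b] at h1
  have : (a⁻¹ * b⁻¹)⁻¹ = ((a * b)⁻¹)⁻¹ := by rw [h1]
  rw [mul_inv_rev, inv_inv, inv_inv, inv_inv] at this
  exact this.symm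

/-- a `γ`-invariant subgroup of index 2 -/
theorem exists_invariant (γ : MulAut H) (hγ : orderOf γ = 2) (M : Subgroup H) (hM : M.index = 2) :
    ∃ M₀ : Subgroup H, M₀.index = 2 ∧ ∀ h : H, h ∈ M₀ ↔ γ h ∈ M₀ := by
  by_cases hall : ∀ h : H, h ∈ M ↔ γ h ∈ M
  · exact ⟨M, hM, hall⟩
  · push_neg at hall
    obtain ⟨a, ha⟩ := hall
    let M' : Subgroup H :=
      { carrier := {h | h ∈ M ↔ γ h ∈ M}
        mul_mem' := by
          intro x y hx hy
          simp only [Set.mem_setOf_eq] at hx hy ⊢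
          rw [map_mul, Subgroup.mul_mem_iff_of_index_two hM, Subgroup.mul_mem_iff_of_index_two hM, hx, hy]
        one_mem' := by simp
        inv_mem' := by
          intro x hx
          simp only [Set.mem_setOf_eq] at hx ⊢
          rw [map_inv, inv_mem_iff, inv_mem_iff, hx] }
    have hmem : ∀ h : H, h ∈ M' ↔ (h ∈ M ↔ γ h ∈ M) := fun h => Iff.rfl
    refine ⟨M', ?_, ?_⟩
    · rw [Subgroup.index_eq_two_iff]
      refine ⟨a, fun b => ?_⟩
      rw [hmem, hmem, map_mul, Subgroup.mul_mem_iff_of_index_two hM, Subgroup.mul_mem_iff_of_index_two hM]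
      unfold Xor
      tauto
    · intro h
      rw [hmem, hmem, sq γ hγ]
      tauto

theorem part2 (γ : MulAut H) (hγ : orderOf γ = 2) (hfix : Nat.card {h : H // γ h = h} = 2)
    (M : Subgroup H) (hM : M.index = 2) :
    ∃ A : Subgroup H, A.index = 2 ∧ IsMulCommutative A ∧ (∀ a ∈ A, γ a ∈ A) ∧ ∀ a ∈ A, γ a = a⁻¹ := by
  classical
  obtain ⟨M₀, hM₀, hinv⟩ := exists_invariant γ hγ M hM
  haveI : Fintype H := Fintype.ofFinite H
  let τ : H → H := fun h => h⁻¹ * γ h
  have hτM : ∀ h : H, τ h ∈ M₀ := by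
    intro h
    show h⁻¹ * γ h ∈ M₀
    rw [Subgroup.mul_mem_iff_of_index_two hM₀, inv_mem_iff]
    exact hinv h
  -- fibers have at most 2 elements
  have hfixcard : (Finset.univ.filter (fun h : H => γ h = h)).card = 2 := by
    rw [← Fintype.card_subtype, ← Nat.card_eq_fintype_card]; exact hfix
  have hfiber : ∀ b ∈ Finset.image τ Finset.univ, (Finset.univ.filter (fun a => τ a = b)).card ≤ 2 := by
    intro b hb
    obtain ⟨h, -, rfl⟩ := Finset.mem_image.mp hb
    rw [← hfixcard]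
    apply Finset.card_le_card_of_injOn (fun k => k * h⁻¹)
    · intro k hk
      simp only [Finset.coe_filter, Finset.mem_univ, true_and, Set.mem_setOf_eq] at hk ⊢
      have hk' : k⁻¹ * γ k = h⁻¹ * γ h := hk
      rw [map_mul, map_inv]
      have h1 : γ k = k * (h⁻¹ * γ h) := by rw [← hk']; group
      rw [h1]; group
    · intro k _ k' _ hkk
      exact mul_right_cancel hkk
  have hcard := Finset.card_le_mul_card_image (f := τ) Finset.univ 2 hfiber
  -- cardinalities
  have hHcard : (Finset.univ : Finset H).card = Nat.card H := by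
    rw [Finset.card_univ, Nat.card_eq_fintype_card]
  have hMcard : 2 * (Finset.univ.filter (fun h : H => h ∈ M₀)).card = Nat.card H := by
    rw [← Subgroup.index_mul_card M₀, hM₀, ← Fintype.card_subtype, Nat.card_eq_fintype_card (α := M₀)]
  have hsub : Finset.image τ Finset.univ ⊆ Finset.univ.filter (fun h : H => h ∈ M₀) := by
    intro x hx
    obtain ⟨h, -, rfl⟩ := Finset.mem_image.mp hx
    simp only [Finset.mem_filter, Finset.mem_univ, true_and]
    exact hτM h
  have heq : Finset.image τ Finset.univ = Finset.univ.filter (fun h : H => h ∈ M₀) := by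
    apply Finset.eq_of_subset_of_card_le hsub
    rw [hHcard] at hcard
    omega
  have hinvert : ∀ a ∈ M₀, γ a = a⁻¹ := by
    intro a ha
    have : a ∈ Finset.image τ Finset.univ := by
      rw [heq]; simp [ha]
    obtain ⟨h, -, rfl⟩ := Finset.mem_image.mp this
    exact tau_inv γ hγ h
  refine ⟨M₀, hM₀, ⟨⟨?_⟩⟩, fun a ha => (hinv a).mp ha, hinvert⟩
  rintro ⟨a, ha⟩ ⟨b, hb⟩
  apply Subtype.ext
  show a * b = b * a
  have h1 := hinvert (a * b) (M₀.mul_mem ha hb)
  rw [map_mul, hinvert a ha, hinvert b hb] at h1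
  have : (a⁻¹ * b⁻¹)⁻¹ = ((a * b)⁻¹)⁻¹ := by rw [h1]
  rw [mul_inv_rev, inv_inv, inv_inv, inv_inv] at this
  exact this.symm

theorem result {H : Type*} [Group H] [Finite H] (γ : MulAut H) (hγ : orderOf γ = 2) :
    ((∀ h : H, γ h = h → h = 1) → (∀ a b : H, a * b = b * a) ∧ ∀ h : H, γ h = h⁻¹) ∧
    ((Nat.card {h : H // γ h = h} = 2 ∧ ∃ M : Subgroup H, M.index = 2) →
      ∃ A : Subgroup H, A.index = 2 ∧ IsMulCommutative A ∧ (∀ a ∈ A, γ a ∈ A) ∧ ∀ a ∈ A, γ a = a⁻¹) := by
  refine ⟨part1 γ hγ, ?_⟩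
  rintro ⟨hfix, M, hM⟩
  exact part2 γ hγ hfix M hM

end Cfsg.Agent.S3375
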