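import Cfsg.Statements.S3378
import Mathlib
import Cfsg.Agent.S3374
import Cfsg.Agent.Lib_helper3_BI3

set_option autoImplicit false
open Cfsg

namespace Cfsg.Agent.S3378


/-- Every non-solvable group of order 120 whose Sylow 2-subgroups are quaternion of order 8 is isomorphic to SL(2,5), and SL(2,5) has the presentation ⟨x, y, z | x³ = y⁵ = z² = 1, z⁻¹xz = x, z⁻¹yz = y, (xy)² = z⟩. -/
theorem result :
    (∀ (G : Type*) [Group G] [Finite G], Nat.card G = 120 → ¬ Group.IsSolvable G →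
      (∀ P : Sylow 2 G, Nonempty ((P : Subgroup G) ≃* QuaternionGroup 2)) →
      Nonempty (G ≃* Matrix.SpecialLinearGroup (Fin 2) (ZMod 5))) ∧
    Nonempty (PresentedGroup ({FreeGroup.of (0 : Fin 3) ^ 3, FreeGroup.of (1 : Fin 3) ^ 5, FreeGroup.of (2 : Fin 3) ^ 2,
        (FreeGroup.of (2 : Fin 3))⁻¹ * FreeGroup.of 0 * FreeGroup.of 2 * (FreeGroup.of (0 : Fin 3))⁻¹,
        (FreeGroup.of (2 : Fin 3))⁻¹ * FreeGroup.of 1 * FreeGroup.of 2 * (FreeGroup.of (1 : Fin 3))⁻¹,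
        (FreeGroup.of (0 : Fin 3) * FreeGroup.of 1) ^ 2 * (FreeGroup.of (2 : Fin 3))⁻¹} : Set (FreeGroup (Fin 3)))
      ≃* Matrix.SpecialLinearGroup (Fin 2) (ZMod 5)) := by
  refine ⟨?_, ?_⟩
  · intro G _ _ hcard hns hQ
    obtain ⟨x, y, z, hx, hy, hz, hzx, hzy, hxy, hgen⟩ :=
      Cfsg.Agent.helper3.BI.bi_gens hcard hns hQ
    have hrel := Cfsg.Agent.S3374.lift_rels x y z hx hy hz hzx hzy hxy
    let Φ : Cfsg.Agent.S3374.P →* G := PresentedGroup.toGroup hrel
    have hΦx : Φ Cfsg.Agent.S3374.px = x := PresentedGroup.toGroup.of hrel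
    have hΦy : Φ Cfsg.Agent.S3374.py = y := PresentedGroup.toGroup.of hrel
    have hsurj : Function.Surjective Φ := by
      rw [← MonoidHom.range_eq_top, eq_top_iff, ← hgen, Subgroup.closure_le]
      rintro t (rfl | rfl)
      · exact ⟨_, hΦx⟩
      · exact ⟨_, hΦy⟩
    haveI : Finite Cfsg.Agent.S3374.P := Cfsg.Agent.S3374.P_card_le.1
    have hbij : Function.Bijective Φ := by
      apply Function.Surjective.bijective_of_nat_card_le hsurj
      rw [Cfsg.Agent.S3374.P_card, hcard]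
    exact ⟨(MulEquiv.ofBijective Φ hbij).symm.trans Cfsg.Agent.S3374.equivSL5⟩
  · exact ⟨Cfsg.Agent.S3374.equivSL5⟩

end Cfsg.Agent.S3378
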