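import Mathlib
import Cfsg.Statements.S3379

set_option autoImplicit false
open Cfsg

namespace Cfsg.Agent.S3379

theorem conj_pow_aux {G : Type*} [Group G] (x y : G) (r : ℕ) (h : x⁻¹ * y * x = y ^ r) (i : ℕ) :
    (x ^ i)⁻¹ * y * x ^ i = y ^ (r ^ i) := by
  induction i with
  | zero => simp
  | succ i ih =>
    have h1 : (x ^ (i+1))⁻¹ * y * x ^ (i+1) = x⁻¹ * ((x ^ i)⁻¹ * y * x ^ i) * x := by
      rw [pow_succ]; group
    have h2 : x⁻¹ * y ^ (r ^ i) * x = (x⁻¹ * y * x) ^ (r ^ i) := by
      have := map_pow (MulAut.conj x⁻¹) y (r ^ i)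
      simpa [MulAut.conj_apply] using this
    rw [h1, ih, h2, h, ← pow_mul]
    congr 1
    ring

theorem result {G : Type*} [Group G] [Finite G]
    (hZ : ∀ (p : ℕ) [Fact p.Prime] (P : Sylow p G), IsCyclic (P : Subgroup G)) :
    ∃ (x y : G) (n m r : ℕ), Subgroup.closure {x, y} = ⊤ ∧ orderOf x = n ∧ orderOf y = m ∧
      x⁻¹ * y * x = y ^ r ∧ Nat.Coprime (r - 1) m ∧ Nat.Coprime n m ∧ 1 ≤ r ∧ r ^ n % m = 1 % m := by
  have hZG : IsZGroup G := ⟨fun p hp P => by have := Fact.mk hp; exact hZ p P⟩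
  have hcop := IsZGroup.coprime_commutator_index G
  obtain ⟨H, hH⟩ := Subgroup.exists_right_complement'_of_coprime hcop
  have hN : IsCyclic (commutator G) := IsZGroup.isCyclic_commutator G
  have h1 : Abelianization G ≃* H := hH.symm.QuotientMulEquiv
  have hHc : IsCyclic H := isCyclic_of_surjective _ h1.surjective
  obtain ⟨⟨y, hyN⟩, hy⟩ := hN.exists_generator
  obtain ⟨⟨x, hxH⟩, hx⟩ := hHc.exists_generator
  -- commutator G = zpowers y
  have hNy : commutator G = Subgroup.zpowers y := by
    apply le_antisymm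
    · intro z hz
      obtain ⟨k, hk⟩ := Subgroup.mem_zpowers_iff.mp (hy ⟨z, hz⟩)
      rw [Subgroup.mem_zpowers_iff]
      refine ⟨k, ?_⟩
      have := congrArg Subtype.val hk
      simpa using this
    · rw [Subgroup.zpowers_le]; exact hyN
  have hHx : H = Subgroup.zpowers x := by
    apply le_antisymm
    · intro z hz
      obtain ⟨k, hk⟩ := Subgroup.mem_zpowers_iff.mp (hx ⟨z, hz⟩)
      rw [Subgroup.mem_zpowers_iff]
      refine ⟨k, ?_⟩
      have := congrArg Subtype.val hk
      simpa using this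
    · rw [Subgroup.zpowers_le]; exact hxH
  have hm : orderOf y = Nat.card (commutator G) := by
    rw [hNy, Nat.card_zpowers]
  have hn : orderOf x = (commutator G).index := by
    rw [← Nat.card_zpowers, ← hHx, hH.symm.index_eq_card]
  have hmpos : 0 < orderOf y := orderOf_pos y
  -- x⁻¹ y x ∈ zpowers y
  have hconj : x⁻¹ * y * x ∈ Subgroup.zpowers y := by
    rw [← hNy]
    have := (inferInstance : (commutator G).Normal).conj_mem y hyN x⁻¹
    simpa using this
  obtain ⟨k, hk⟩ := Subgroup.mem_zpowers_iff.mp hconj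
  set m := orderOf y with hmdef
  set r : ℕ := (k % (m : ℤ)).toNat + m with hr
  have hr1 : 1 ≤ r := by omega
  have hyr : x⁻¹ * y * x = y ^ r := by
    rw [← hk, hr, pow_add, pow_orderOf_eq_one, mul_one, ← zpow_natCast,
      Int.toNat_of_nonneg (Int.emod_nonneg _ (by exact_mod_cast hmpos.ne')), zpow_mod_orderOf]
  -- K = zpowers (y^(r-1)) is normal
  have hKn : (Subgroup.zpowers (y ^ (r - 1))).Normal := by
    constructor
    intro z hz g
    obtain ⟨i, rfl⟩ := Subgroup.mem_zpowers_iff.mp hz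
    have hgy : g * y * g⁻¹ ∈ Subgroup.zpowers y := by
      rw [← hNy]
      exact (inferInstance : (commutator G).Normal).conj_mem y hyN g
    obtain ⟨j, hj⟩ := Subgroup.mem_zpowers_iff.mp hgy
    have e1 : g * (y ^ (r - 1)) ^ i * g⁻¹ = ((g * y * g⁻¹) ^ (r - 1)) ^ i := by
      have := map_zpow (MulAut.conj g) (y ^ (r - 1)) i
      rw [map_pow (MulAut.conj g)] at this
      simpa [MulAut.conj_apply] using this
    rw [e1, ← hj, Subgroup.mem_zpowers_iff]
    refine ⟨j * i, ?_⟩
    rw [← zpow_natCast, ← zpow_natCast, ← zpow_mul, ← zpow_mul, ← zpow_mul]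
    congr 1
    ring
  -- G ⧸ K is commutative
  have hcomm : commutator G ≤ Subgroup.zpowers (y ^ (r - 1)) := by
    apply Subgroup.Normal.quotient_commutative_iff_commutator_le.mp
    set K := Subgroup.zpowers (y ^ (r - 1)) with hK
    have hxy : (QuotientGroup.mk x : G ⧸ K) * QuotientGroup.mk y
        = QuotientGroup.mk y * QuotientGroup.mk x := by
      have e2 : y * x = x * (y * y ^ (r - 1)) := by
        have : y ^ r = y * y ^ (r - 1) := by
          rw [← pow_succ']; congr 1; omega
        rw [← this, ← hyr]; group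
      rw [← QuotientGroup.mk_mul, ← QuotientGroup.mk_mul, e2, QuotientGroup.mk_mul,
        QuotientGroup.mk_mul, QuotientGroup.mk_mul]
      have : (QuotientGroup.mk (y ^ (r - 1)) : G ⧸ K) = 1 := by
        rw [QuotientGroup.eq_one_iff]; exact Subgroup.mem_zpowers _
      rw [this, mul_one]
    have hcl : Subgroup.closure ({QuotientGroup.mk x, QuotientGroup.mk y} : Set (G ⧸ K)) = ⊤ := by
      have htop : Subgroup.closure ({x, y} : Set G) = ⊤ := by
        rw [show ({x, y} : Set G) = {x} ∪ {y} from rfl, Subgroup.closure_union,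
          ← Subgroup.zpowers_eq_closure, ← Subgroup.zpowers_eq_closure, ← hHx, ← hNy, sup_comm]
        exact hH.sup_eq_top
      have := congrArg (Subgroup.map (QuotientGroup.mk' K)) htop
      rw [MonoidHom.map_closure, ← MonoidHom.range_eq_map,
        MonoidHom.range_eq_top.mpr (QuotientGroup.mk'_surjective K)] at this
      rw [← this]
      congr 1
      ext z
      simp [Set.image_pair]
    have hc2 : IsMulCommutative (Subgroup.closure ({QuotientGroup.mk x, QuotientGroup.mk y} : Set (G ⧸ K))) := by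
      apply Subgroup.isMulCommutative_closure
      intro a ha b hb
      rcases ha with rfl | rfl <;> rcases hb with rfl | rfl
      · rfl
      · exact hxy
      · exact hxy.symm
      · rfl
    refine ⟨⟨fun a b => ?_⟩⟩
    have ha : a ∈ Subgroup.closure ({QuotientGroup.mk x, QuotientGroup.mk y} : Set (G ⧸ K)) := by
      rw [hcl]; trivial
    have hb : b ∈ Subgroup.closure ({QuotientGroup.mk x, QuotientGroup.mk y} : Set (G ⧸ K)) := by
      rw [hcl]; trivial
    have := hc2.is_comm.comm ⟨a, ha⟩ ⟨b, hb⟩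
    exact congrArg Subtype.val this
  -- coprimality of r - 1 and m
  have hcop1 : Nat.Coprime (r - 1) m := by
    have hyK : y ∈ Subgroup.zpowers (y ^ (r - 1)) := hcomm hyN
    obtain ⟨j, hj⟩ := Subgroup.mem_zpowers_iff.mp hyK
    rw [← zpow_natCast, ← zpow_mul] at hj
    have h3 : y ^ (((r - 1 : ℕ) : ℤ) * j - 1) = 1 := by
      rw [zpow_sub, hj, zpow_one, mul_inv_cancel]
    have h4 := orderOf_dvd_iff_zpow_eq_one.mpr h3
    obtain ⟨c, hc⟩ := h4
    rw [← Nat.isCoprime_iff_coprime]
    refine ⟨j, -c, ?_⟩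
    rw [← hmdef] at hc
    linarith
  refine ⟨x, y, orderOf x, m, r, ?_, rfl, rfl, hyr, hcop1, ?_, hr1, ?_⟩
  · rw [show ({x, y} : Set G) = {x} ∪ {y} from rfl, Subgroup.closure_union,
      ← Subgroup.zpowers_eq_closure, ← Subgroup.zpowers_eq_closure, ← hHx, ← hNy, sup_comm]
    exact hH.sup_eq_top
  · rw [hn, hm]
    exact hcop.symm
  · have h5 := conj_pow_aux x y r hyr (orderOf x)
    rw [pow_orderOf_eq_one] at h5
    simp only [inv_one, one_mul, mul_one] at h5
    have h6 : y ^ (r ^ orderOf x) = y ^ 1 := by rw [← h5, pow_one]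
    exact pow_eq_pow_iff_modEq.mp h6

end Cfsg.Agent.S3379
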