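import Mathlib
import Cfsg.Statements.S3381

set_option autoImplicit false
open Cfsg

namespace Cfsg.Agent.S3381

section
variable {K : Type*} [Field K] {V : Type*} [AddCommGroup V] [Module K V]
  {G : Type*} [Group G] (ρ : G →* (V ≃ₗ[K] V))

/-- fixed space of `g` -/
def Fx (g : G) : Submodule K V where
  carrier := {v | ρ g v = v}
  add_mem' := by
    intro a b ha hb
    simp only [Set.mem_setOf_eq] at *
    rw [map_add, ha, hb]
  zero_mem' := map_zero _
  smul_mem' := by
    intro c v hv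
    simp only [Set.mem_setOf_eq] at *
    rw [map_smul, hv]

/-- `-1`-eigenspace of `g` -/
def Ng (g : G) : Submodule K V where
  carrier := {v | ρ g v = -v}
  add_mem' := by
    intro a b ha hb
    simp only [Set.mem_setOf_eq] at *
    rw [map_add, ha, hb, neg_add]
  zero_mem' := by simp
  smul_mem' := by
    intro c v hv
    simp only [Set.mem_setOf_eq] at *
    rw [map_smul, hv, smul_neg]

theorem mem_Fx {g : G} {v : V} : v ∈ Fx ρ g ↔ ρ g v = v := Iff.rfl
theorem mem_Ng {g : G} {v : V} : v ∈ Ng ρ g ↔ ρ g v = -v := Iff.rfl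

theorem rho_mul (g h : G) (v : V) : ρ (g * h) v = ρ g (ρ h v) := by
  rw [map_mul]; rfl

theorem rho_one (v : V) : ρ 1 v = v := by
  rw [map_one]; rfl

/-- a module is not the union of two proper submodules -/
theorem union_two (A B : Submodule K V) (h : ∀ v, v ∈ A ∨ v ∈ B) : A = ⊤ ∨ B = ⊤ := by
  by_contra hcon
  push Not at hcon
  obtain ⟨hA, hB⟩ := hcon
  obtain ⟨a, ha⟩ : ∃ a, a ∉ A := by
    by_contra h'
    push Not at h'
    exact hA (Submodule.eq_top_iff'.mpr h')
  obtain ⟨b, hb⟩ : ∃ b, b ∉ B := by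
    by_contra h'
    push Not at h'
    exact hB (Submodule.eq_top_iff'.mpr h')
  have haB : a ∈ B := (h a).resolve_left ha
  have hbA : b ∈ A := (h b).resolve_right hb
  rcases h (a + b) with hab | hab
  · apply ha
    have := A.sub_mem hab hbA
    rwa [add_sub_cancel_right] at this
  · apply hb
    have := B.sub_mem hab haB
    rwa [add_sub_cancel_left] at this

theorem isCompl_Fx_Ng (h2 : (2 : K) ≠ 0) (t : G) (ht : t * t = 1) : IsCompl (Fx ρ t) (Ng ρ t) := by
  have htt : ∀ v, ρ t (ρ t v) = v := by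
    intro v; rw [← rho_mul, ht, rho_one]
  apply IsCompl.of_eq
  · rw [eq_bot_iff]
    intro v hv
    obtain ⟨h1, h2'⟩ := hv
    have e1 : ρ t v = v := h1
    have e2 : ρ t v = -v := h2'
    rw [e1] at e2
    have : (2 : K) • v = 0 := by
      rw [two_smul]
      nth_rewrite 1 [e2]
      exact neg_add_cancel v
    rcases smul_eq_zero.mp this with h | h
    · exact absurd h h2
    · exact h
  · rw [Submodule.eq_top_iff']
    intro v
    rw [Submodule.mem_sup]
    refine ⟨(2⁻¹ : K) • (v + ρ t v), ?_, (2⁻¹ : K) • (v - ρ t v), ?_, ?_⟩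
    · show ρ t ((2⁻¹ : K) • (v + ρ t v)) = (2⁻¹ : K) • (v + ρ t v)
      rw [map_smul, map_add, htt, add_comm]
    · show ρ t ((2⁻¹ : K) • (v - ρ t v)) = -((2⁻¹ : K) • (v - ρ t v))
      rw [map_smul, map_sub, htt, ← smul_neg, neg_sub]
    · rw [← smul_add, add_add_sub_cancel, ← two_smul K v, smul_smul, inv_mul_cancel₀ h2, one_smul]

theorem card_Fx_mul_card_Ng [Finite V] (h2 : (2 : K) ≠ 0) (t : G) (ht : t * t = 1) :
    Nat.card (Fx ρ t) * Nat.card (Ng ρ t) = Nat.card V := by
  rw [← Nat.card_prod]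
  exact Nat.card_congr (Submodule.prodEquivOfIsCompl _ _ (isCompl_Fx_Ng ρ h2 t ht)).toEquiv

theorem card_mul_le_of_disjoint [Finite V] (A B : Submodule K V) (h : A ⊓ B = ⊥) :
    Nat.card A * Nat.card B ≤ Nat.card V := by
  rw [← Nat.card_prod]
  apply Nat.card_le_card_of_injective (fun p : A × B => (p.1 : V) + (p.2 : V))
  rintro ⟨a, b⟩ ⟨a', b'⟩ hab
  simp only at hab
  have h1 : (a : V) - a' = b' - b := by
    rw [sub_eq_sub_iff_add_eq_add]; rw [hab]; abel
  have hmem : (a : V) - a' ∈ A ⊓ B := by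
    refine ⟨A.sub_mem a.2 a'.2, ?_⟩
    rw [h1]; exact B.sub_mem b'.2 b.2
  rw [h, Submodule.mem_bot, sub_eq_zero] at hmem
  have h2 : (b' : V) - b = 0 := by rw [← h1, hmem, sub_self]
  rw [sub_eq_zero] at h2
  exact Prod.ext (Subtype.ext hmem) (Subtype.ext h2.symm)

end


section main
variable {q : ℕ} [Fact q.Prime] {V : Type*} [AddCommGroup V] [Module (ZMod q) V]
    {G : Type*} [Group G] (ρ : G →* (V ≃ₗ[ZMod q] V))

theorem stab_struct (hstab : ∀ v : V, v ≠ 0 → Nat.card {g : G // ρ g v = v} = 2) (v : V)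
    (hv : v ≠ 0) :
    ∃ t : G, t ≠ 1 ∧ t * t = 1 ∧ ρ t v = v ∧ ∀ g : G, ρ g v = v → g = 1 ∨ g = t := by
  have h2 := hstab v hv
  rw [Nat.card_eq_two_iff] at h2
  obtain ⟨x, y, hxy, huniv⟩ := h2
  have h1mem : ρ 1 v = v := rho_one ρ v
  have hall : ∀ s : {g : G // ρ g v = v}, s = x ∨ s = y := by
    intro s
    have : s ∈ ({x, y} : Set _) := by rw [huniv]; trivial
    simpa using this
  obtain ⟨t, ht1, htall⟩ : ∃ t : {g : G // ρ g v = v}, t ≠ ⟨1, h1mem⟩ ∧
      ∀ s : {g : G // ρ g v = v}, s = ⟨1, h1mem⟩ ∨ s = t := by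
    rcases hall ⟨1, h1mem⟩ with h1 | h1
    · refine ⟨y, ?_, ?_⟩
      · rw [h1]; exact hxy.symm
      · intro s; rw [h1]; exact hall s
    · refine ⟨x, ?_, ?_⟩
      · rw [h1]; exact hxy
      · intro s; rw [h1]; exact (hall s).symm
  have ht1' : (t : G) ≠ 1 := fun h => ht1 (Subtype.ext h)
  refine ⟨t, ht1', ?_, t.2, ?_⟩
  · have hfix : ρ ((t : G) * t) v = v := by rw [rho_mul, t.2, t.2]
    rcases htall ⟨(t : G) * t, hfix⟩ with h | h
    · exact congrArg Subtype.val h
    · exfalso
      have h' : (t : G) * t = t := congrArg Subtype.val h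
      exact ht1' (mul_eq_right.mp h')
  · intro g hg
    rcases htall ⟨g, hg⟩ with h | h
    · left; exact congrArg Subtype.val h
    · right; exact congrArg Subtype.val h

theorem z_neg (hρ : Function.Injective ρ)
    (hstab : ∀ v : V, v ≠ 0 → Nat.card {g : G // ρ g v = v} = 2)
    (z : G) (hz1 : z ≠ 1) (hzz : z * z = 1) (hzc : ∀ g, g * z = z * g) : ∀ v, ρ z v = -v := by
  have hzzv : ∀ v, ρ z (ρ z v) = v := by
    intro v; rw [← rho_mul, hzz, rho_one]
  have hunion : ∀ v, v ∈ Fx ρ z ∨ v ∈ Ng ρ z := by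
    intro v
    by_cases hv : v = 0
    · left; rw [hv]; exact (Fx ρ z).zero_mem
    by_cases hw : v + ρ z v = 0
    · right
      exact eq_neg_of_add_eq_zero_right hw
    · left
      obtain ⟨t, ht1, _, htv, _⟩ := stab_struct ρ hstab v hv
      obtain ⟨t', _, _, _, ht'all⟩ := stab_struct ρ hstab (v + ρ z v) hw
      have hzw : ρ z (v + ρ z v) = v + ρ z v := by rw [map_add, hzzv, add_comm]
      have htw : ρ t (v + ρ z v) = v + ρ z v := by
        rw [map_add, htv, ← rho_mul, hzc t, rho_mul, htv]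
      have e1 : z = t' := (ht'all z hzw).resolve_left hz1
      have e2 : t = t' := (ht'all t htw).resolve_left ht1
      show ρ z v = v
      rw [e1, ← e2]; exact htv
  rcases union_two _ _ hunion with h | h
  · exfalso
    apply hz1
    apply hρ
    apply LinearEquiv.ext
    intro v
    have : v ∈ Fx ρ z := by rw [h]; trivial
    rw [this, rho_one]
  · intro v
    have : v ∈ Ng ρ z := by rw [h]; trivial
    exact this

end main

theorem eq_of_mul_le (X Y N : ℕ) (hN : 0 < N) (hX : X ≤ N) (hY : Y ≤ N) (h : X * Y = N * N) :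
    X = N := by
  by_contra hne
  have hlt : X < N := lt_of_le_of_ne hX hne
  have : X * Y < N * N :=
    calc X * Y ≤ X * N := Nat.mul_le_mul_left _ hY
      _ < N * N := Nat.mul_lt_mul_of_pos_right hlt hN
  omega

theorem result
    (q : ℕ) [Fact q.Prime] {V : Type*} [AddCommGroup V] [Module (ZMod q) V] [Finite V] [Nontrivial V]
    {G : Type*} [Group G] [Finite G] (ρ : G →* (V ≃ₗ[ZMod q] V)) (hρ : Function.Injective ρ)
    (hstab : ∀ v : V, v ≠ 0 → Nat.card {g : G // ρ g v = v} = 2)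
    (z : G) (hz : orderOf z = 2) (hzc : z ∈ Subgroup.center G) :
    ∃ r : ℕ, Nat.card V = q ^ (2 * r) ∧
      Nat.card {g : G // orderOf g = 2 ∧ g ∉ Subgroup.center G} = q ^ r + 1 := by
  classical
  haveI := Fintype.ofFinite G
  haveI := Fintype.ofFinite V
  have hz1 : z ≠ 1 := by intro h; rw [h, orderOf_one] at hz; norm_num at hz
  have hzz : z * z = 1 := by rw [← pow_two, ← hz]; exact pow_orderOf_eq_one z
  have hzcomm : ∀ g, g * z = z * g := fun g => Subgroup.mem_center_iff.mp hzc g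
  have hzneg := z_neg ρ hρ hstab z hz1 hzz hzcomm
  have h2 : (2 : ZMod q) ≠ 0 := by
    intro h
    apply hz1
    apply hρ
    apply LinearEquiv.ext
    intro v
    rw [hzneg, rho_one]
    have : (2 : ZMod q) • v = 0 := by rw [h, zero_smul]
    rw [two_smul] at this
    exact neg_eq_of_add_eq_zero_left this
  have hnegne : ∀ v : V, v ≠ 0 → -v ≠ v := by
    intro v hv h
    have : (2 : ZMod q) • v = 0 := by
      rw [two_smul]; nth_rewrite 1 [← h]; exact neg_add_cancel v
    rcases smul_eq_zero.mp this with h' | h'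
    · exact h2 h'
    · exact hv h'
  have hinv_mul : ∀ t : G, orderOf t = 2 → t * t = 1 := fun t ht => by
    rw [← pow_two, ← ht]; exact pow_orderOf_eq_one t
  have hinv_ne : ∀ t : G, orderOf t = 2 → t ≠ 1 := fun t ht h => by
    rw [h, orderOf_one] at ht; norm_num at ht
  have hcentral : ∀ t : G, orderOf t = 2 → t ∈ Subgroup.center G → t = z := by
    intro t ht htc
    have := z_neg ρ hρ hstab t (hinv_ne t ht) (hinv_mul t ht)
      (fun g => Subgroup.mem_center_iff.mp htc g)
    apply hρ; apply LinearEquiv.ext; intro v; rw [this, hzneg]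
  set I : Finset G := Finset.univ.filter (fun g => orderOf g = 2 ∧ g ∉ Subgroup.center G) with hI
  have hImem : ∀ t, t ∈ I ↔ orderOf t = 2 ∧ t ≠ z := by
    intro t
    rw [hI, Finset.mem_filter]
    constructor
    · rintro ⟨_, ho, hnc⟩
      exact ⟨ho, fun h => hnc (h ▸ hzc)⟩
    · rintro ⟨ho, hne⟩
      exact ⟨Finset.mem_univ _, ho, fun hc => hne (hcentral t ho hc)⟩
  have hItz : ∀ t ∈ I, t * z ∈ I := by
    intro t ht
    obtain ⟨hto, htz⟩ := (hImem t).mp ht
    rw [hImem]
    constructor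
    · apply orderOf_eq_prime
      · rw [pow_two]
        calc (t * z) * (t * z) = t * (z * t) * z := by group
          _ = t * (t * z) * z := by rw [← hzcomm t]
          _ = (t * t) * (z * z) := by group
          _ = 1 := by rw [hinv_mul t hto, hzz, one_mul]
      · intro h
        apply htz
        rw [mul_eq_one_iff_eq_inv] at h
        rw [h]; exact inv_eq_of_mul_eq_one_right hzz
    · intro h
      exact hinv_ne t hto (mul_eq_right.mp h)
  have hFxtz : ∀ t : G, Fx ρ (t * z) = Ng ρ t := by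
    intro t; ext v
    rw [mem_Fx, mem_Ng, rho_mul, hzneg, map_neg]
    constructor
    · intro h; exact neg_eq_iff_eq_neg.mp h
    · intro h; rw [h, neg_neg]
  have hNpos : 0 < Nat.card V := Nat.card_pos
  have hprod : ∀ t ∈ I, Nat.card (Fx ρ t) * Nat.card (Fx ρ (t * z)) = Nat.card V := by
    intro t ht
    rw [hFxtz]
    exact card_Fx_mul_card_Ng ρ h2 t (hinv_mul t ((hImem t).mp ht).1)
  have hdisj : ∀ s t : G, s ≠ 1 → t ≠ 1 → s ≠ t → Fx ρ s ⊓ Fx ρ t = ⊥ := by
    intro s t hs ht hst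
    rw [eq_bot_iff]
    intro v hv
    rw [Submodule.mem_bot]
    by_contra hv0
    obtain ⟨t', _, _, _, hall⟩ := stab_struct ρ hstab v hv0
    have e1 := (hall s hv.1).resolve_left hs
    have e2 := (hall t hv.2).resolve_left ht
    exact hst (e1.trans e2.symm)
  have hle : ∀ s t : G, s ≠ 1 → t ≠ 1 → s ≠ t →
      Nat.card (Fx ρ s) * Nat.card (Fx ρ t) ≤ Nat.card V :=
    fun s t hs ht hst => card_mul_le_of_disjoint _ _ (hdisj s t hs ht hst)
  have htv : ∀ v : V, v ≠ 0 → ∃ t ∈ I, v ∈ Fx ρ t := by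
    intro v hv
    obtain ⟨t, ht1, htt, htv, _⟩ := stab_struct ρ hstab v hv
    refine ⟨t, ?_, htv⟩
    rw [hImem]
    refine ⟨orderOf_eq_prime (by rw [pow_two]; exact htt) ht1, ?_⟩
    intro h
    rw [h, hzneg] at htv
    exact hnegne v hv htv
  have hsq : ∀ t ∈ I, Nat.card (Fx ρ t) * Nat.card (Fx ρ t) = Nat.card V := by
    intro t ht
    obtain ⟨hto, htz⟩ := (hImem t).mp ht
    obtain ⟨s, hsI, hst, hstz⟩ : ∃ s ∈ I, s ≠ t ∧ s ≠ t * z := by
      by_contra hcon
      push Not at hcon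
      have hunion : ∀ v, v ∈ Fx ρ t ∨ v ∈ Ng ρ t := by
        intro v
        by_cases hv : v = 0
        · left; rw [hv]; exact Submodule.zero_mem _
        obtain ⟨s, hsI, hvs⟩ := htv v hv
        by_cases hs : s = t
        · left; rw [← hs]; exact hvs
        · right; rw [← hFxtz, ← hcon s hsI hs]; exact hvs
      rcases union_two _ _ hunion with h | h
      · apply hinv_ne t hto
        apply hρ; apply LinearEquiv.ext; intro v
        have hv : v ∈ Fx ρ t := by rw [h]; trivial
        have hv' : ρ t v = v := hv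
        rw [hv', rho_one]
      · apply htz
        apply hρ; apply LinearEquiv.ext; intro v
        have hv : v ∈ Ng ρ t := by rw [h]; trivial
        have hv' : ρ t v = -v := hv
        rw [hv', hzneg]
    obtain ⟨hso, hsz⟩ := (hImem s).mp hsI
    have hs1 := hinv_ne s hso
    have ht1 := hinv_ne t hto
    have htzI := hItz t ht
    have hszI := hItz s hsI
    have htz1 : t * z ≠ 1 := hinv_ne _ ((hImem _).mp htzI).1
    have hsz1 : s * z ≠ 1 := hinv_ne _ ((hImem _).mp hszI).1
    have e_sz_t : s * z ≠ t := by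
      intro h; apply hstz; rw [← h, mul_assoc, hzz, mul_one]
    have e_sz_tz : s * z ≠ t * z := fun h => hst (mul_right_cancel h)
    have p1 := hprod s hsI
    have p2 := hprod t ht
    have l1 := hle s t hs1 ht1 hst
    have l2 := hle _ _ hsz1 htz1 e_sz_tz
    have l3 := hle s (t * z) hs1 htz1 hstz
    have l4 := hle (s * z) t hsz1 ht1 e_sz_t
    have h5 : Nat.card (Fx ρ s) * Nat.card (Fx ρ t) = Nat.card V :=
      eq_of_mul_le _ _ _ hNpos l1 l2 (by
        calc Nat.card (Fx ρ s) * Nat.card (Fx ρ t) * (Nat.card (Fx ρ (s * z)) * Nat.card (Fx ρ (t * z)))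
            = (Nat.card (Fx ρ s) * Nat.card (Fx ρ (s * z))) * (Nat.card (Fx ρ t) * Nat.card (Fx ρ (t * z))) := by ring
          _ = Nat.card V * Nat.card V := by rw [p1, p2])
    have h6 : Nat.card (Fx ρ s) * Nat.card (Fx ρ (t * z)) = Nat.card V :=
      eq_of_mul_le _ _ _ hNpos l3 l4 (by
        calc Nat.card (Fx ρ s) * Nat.card (Fx ρ (t * z)) * (Nat.card (Fx ρ (s * z)) * Nat.card (Fx ρ t))
            = (Nat.card (Fx ρ s) * Nat.card (Fx ρ (s * z))) * (Nat.card (Fx ρ t) * Nat.card (Fx ρ (t * z))) := by ring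
          _ = Nat.card V * Nat.card V := by rw [p1, p2])
    have has : 0 < Nat.card (Fx ρ s) := Nat.pos_of_ne_zero (fun h => by
      rw [h, zero_mul] at p1; omega)
    have heq : Nat.card (Fx ρ t) = Nat.card (Fx ρ (t * z)) :=
      Nat.eq_of_mul_eq_mul_left has (h5.trans h6.symm)
    rw [← heq] at p2; exact p2
  obtain ⟨v0, hv0⟩ := exists_ne (0 : V)
  obtain ⟨t0, ht0I, _⟩ := htv v0 hv0
  have hcardFx : ∀ t : G, Nat.card (Fx ρ t) = q ^ Module.finrank (ZMod q) (Fx ρ t) := by
    intro t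
    rw [Module.natCard_eq_pow_finrank (K := ZMod q) (V := Fx ρ t), Nat.card_zmod]
  have hcardV : Nat.card V = q ^ Module.finrank (ZMod q) V := by
    rw [Module.natCard_eq_pow_finrank (K := ZMod q) (V := V), Nat.card_zmod]
  have hq2 : 2 ≤ q := (Fact.out : q.Prime).two_le
  have hdim : ∀ t ∈ I, Module.finrank (ZMod q) V = 2 * Module.finrank (ZMod q) (Fx ρ t) := by
    intro t ht
    have h := hsq t ht
    rw [hcardFx, hcardV, ← pow_add] at h
    have := Nat.pow_right_injective hq2 h
    omega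
  have hNr : Nat.card V = q ^ (2 * Module.finrank (ZMod q) (Fx ρ t0)) := by
    rw [hcardV, hdim t0 ht0I]
  have hFxr : ∀ t ∈ I, Nat.card (Fx ρ t) = q ^ Module.finrank (ZMod q) (Fx ρ t0) := by
    intro t ht
    rw [hcardFx]
    congr 1
    have h1 := hdim t ht
    have h2 := hdim t0 ht0I
    omega
  refine ⟨Module.finrank (ZMod q) (Fx ρ t0), hNr, ?_⟩
  set r := Module.finrank (ZMod q) (Fx ρ t0) with hr
  -- counting
  let Fs : G → Finset V := fun u => (Finset.univ.filter (fun v => v ∈ Fx ρ u)).erase 0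
  have hbU : I.biUnion Fs = Finset.univ.erase 0 := by
    ext v
    simp only [Fs, Finset.mem_biUnion, Finset.mem_erase, Finset.mem_filter, Finset.mem_univ,
      true_and, and_true]
    constructor
    · rintro ⟨u, _, hv0', _⟩; exact hv0'
    · intro hv0'
      obtain ⟨t, htI, hvt⟩ := htv v hv0'
      exact ⟨t, htI, hv0', hvt⟩
  have hpd : ∀ x ∈ I, ∀ y ∈ I, x ≠ y → Disjoint (Fs x) (Fs y) := by
    intro x hx y hy hxy
    rw [Finset.disjoint_left]
    intro v hvx hvy
    simp only [Fs, Finset.mem_erase, Finset.mem_filter, Finset.mem_univ, true_and] at hvx hvy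
    have hmem : v ∈ Fx ρ x ⊓ Fx ρ y := ⟨hvx.2, hvy.2⟩
    rw [hdisj x y (hinv_ne x ((hImem x).mp hx).1) (hinv_ne y ((hImem y).mp hy).1) hxy,
      Submodule.mem_bot] at hmem
    exact hvx.1 hmem
  have hcardFs : ∀ u ∈ I, (Fs u).card = q ^ r - 1 := by
    intro u hu
    simp only [Fs]
    rw [Finset.card_erase_of_mem (by simp), ← hFxr u hu]
    congr 1
    rw [Nat.card_eq_fintype_card]
    exact (Fintype.card_subtype _).symm
  have hcount := Finset.card_biUnion hpd
  rw [hbU, Finset.card_erase_of_mem (Finset.mem_univ _), Finset.card_univ,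
    Finset.sum_congr rfl hcardFs, Finset.sum_const, smul_eq_mul] at hcount
  have hIcard : Nat.card {g : G // orderOf g = 2 ∧ g ∉ Subgroup.center G} = I.card := by
    rw [Nat.card_eq_fintype_card, Fintype.card_subtype]
  rw [hIcard]
  have hNV : Fintype.card V = q ^ r * q ^ r := by
    rw [← Nat.card_eq_fintype_card, hNr, two_mul, pow_add]
  have hN2 : 1 < Nat.card V := Finite.one_lt_card
  have hm2 : 2 ≤ q ^ r := by
    rcases Nat.eq_zero_or_pos r with h0 | h0
    · rw [hNr, h0] at hN2; simp at hN2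
    · calc 2 ≤ q := hq2
        _ = q ^ 1 := (pow_one q).symm
        _ ≤ q ^ r := Nat.pow_le_pow_right (by omega) h0
  rw [hNV] at hcount
  obtain ⟨k, hk⟩ : ∃ k, q ^ r = k + 1 := ⟨q ^ r - 1, by omega⟩
  rw [hk] at hcount ⊢
  have hk1 : 0 < k := by omega
  have e : (k + 1) * (k + 1) - 1 = (k + 2) * k := by
    have : (k + 1) * (k + 1) = (k + 2) * k + 1 := by ring
    omega
  rw [e, Nat.add_sub_cancel] at hcount
  have := Nat.eq_of_mul_eq_mul_right hk1 hcount
  omega

end Cfsg.Agent.S3381
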