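import Mathlib
import Cfsg.Statements.S3383

set_option autoImplicit false
open Cfsg
open scoped Pointwise

namespace Cfsg.Agent.S3383

variable {L : Type*} [Group L]

theorem mem_conj (H : Subgroup L) (g x : L) : x ∈ MulAut.conj g • H ↔ g⁻¹ * x * g ∈ H := by
  rw [Subgroup.mem_pointwise_smul_iff_inv_smul_mem, MulAut.smul_def, MulAut.conj_inv_apply]

theorem memK (H K : Subgroup L) (hK : (K : Set L) = Cfsg.frobeniusKernel H) (x : L) :
    x ∈ K ↔ x = 1 ∨ ∀ g : L, g⁻¹ * x * g ∉ H := by
  rw [← SetLike.mem_coe, hK]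
  simp only [Cfsg.frobeniusKernel, Set.mem_setOf_eq, mem_conj]

theorem K_normal (H K : Subgroup L) (hK : (K : Set L) = Cfsg.frobeniusKernel H) : K.Normal := by
  constructor
  intro x hx y
  rw [memK H K hK] at hx ⊢
  rcases hx with rfl | hx
  · left; simp
  · right
    intro g hg
    apply hx (y⁻¹ * g)
    have : (y⁻¹ * g)⁻¹ * x * (y⁻¹ * g) = g⁻¹ * (y * x * y⁻¹) * g := by group
    rw [this]; exact hg

theorem K_inf_H (H K : Subgroup L) (hK : (K : Set L) = Cfsg.frobeniusKernel H) (x : L)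
    (hxK : x ∈ K) (hxH : x ∈ H) : x = 1 := by
  rw [memK H K hK] at hxK
  rcases hxK with h | h
  · exact h
  · exact absurd (by simpa using hxH) (h 1)

theorem frob (H : Subgroup L) (hH : Cfsg.IsFrobeniusComplement H) (h g : L) (hh : h ∈ H) (h1 : h ≠ 1)
    (hg : g⁻¹ * h * g ∈ H) : g ∈ H := by
  by_contra hgH
  have := hH.2.2 g hgH
  have hmem : h ∈ H ⊓ (MulAut.conj g • H) := ⟨hh, (mem_conj H g h).mpr hg⟩
  rw [this, Subgroup.mem_bot] at hmem
  exact h1 hmem

theorem comparable [Finite L] (H : Subgroup L) (hH : Cfsg.IsFrobeniusComplement H)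
    (K : Subgroup L) (hK : (K : Set L) = Cfsg.frobeniusKernel H) (N : Subgroup L) (hN : N.Normal) :
    K ≤ N ∨ N ≤ K := by
  by_cases hNK : N ≤ K
  · exact Or.inr hNK
  · left
    have hKn := K_normal H K hK
    obtain ⟨n, hnN, hnK⟩ := SetLike.not_le_iff_exists.mp hNK
    rw [memK H K hK] at hnK
    push_neg at hnK
    obtain ⟨hn1, g, hg⟩ := hnK
    set h := g⁻¹ * n * g with hh
    have hhN : h ∈ N := by
      have := hN.conj_mem n hnN g⁻¹
      simpa [hh] using this
    have hh1 : h ≠ 1 := by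
      intro h0
      apply hn1
      have : n = g * h * g⁻¹ := by rw [hh]; group
      rw [this, h0]; group
    let f : K → K := fun k => ⟨(k : L) * h * (k : L)⁻¹ * h⁻¹, by
      have h1 : h * (k : L)⁻¹ * h⁻¹ ∈ K := hKn.conj_mem _ (K.inv_mem k.2) h
      have h2 := K.mul_mem k.2 h1
      have : (k : L) * (h * (k : L)⁻¹ * h⁻¹) = (k : L) * h * (k : L)⁻¹ * h⁻¹ := by group
      rw [← this]; exact h2⟩
    have hinj : Function.Injective f := by
      intro k k' hkk
      have e : (k : L) * h * (k : L)⁻¹ * h⁻¹ = (k' : L) * h * (k' : L)⁻¹ * h⁻¹ := congrArg Subtype.val hkk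
      have e2 : (k : L) * h * (k : L)⁻¹ = (k' : L) * h * (k' : L)⁻¹ := mul_right_cancel e
      set c := (k' : L)⁻¹ * (k : L) with hc
      have hcK : c ∈ K := K.mul_mem (K.inv_mem k'.2) k.2
      have hch : c⁻¹ * h * c = h := by
        have : h = c * h * c⁻¹ := by
          have e3 : c * h * c⁻¹ = (k' : L)⁻¹ * ((k : L) * h * (k : L)⁻¹) * (k' : L) := by
            rw [hc]; group
          rw [e3, e2]; group
        calc c⁻¹ * h * c = c⁻¹ * (c * h * c⁻¹) * c := by rw [← this]
          _ = h := by group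
      have hcH : c ∈ H := frob H hH h c hg hh1 (by rw [hch]; exact hg)
      have hc1 : c = 1 := K_inf_H H K hK c hcK hcH
      apply Subtype.ext
      have : (k : L) = (k' : L) * c := by rw [hc]; group
      rw [this, hc1, mul_one]
    have hsurj : Function.Surjective f := Finite.surjective_of_injective hinj
    intro k hk
    obtain ⟨k₀, hk₀⟩ := hsurj ⟨k, hk⟩
    have e : (k₀ : L) * h * (k₀ : L)⁻¹ * h⁻¹ = k := congrArg Subtype.val hk₀
    rw [← e]
    exact N.mul_mem (hN.conj_mem h hhN _) (N.inv_mem hhN)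

theorem result {L : Type*} [Group L] [Finite L]
    (H : Subgroup L) (hH : Cfsg.IsFrobeniusComplement H)
    (K : Subgroup L) (hK : (K : Set L) = Cfsg.frobeniusKernel H) :
    K.Characteristic ∧ ∀ N : Subgroup L, N.Normal → K ≤ N ∨ N ≤ K := by
  refine ⟨?_, fun N hN => comparable H hH K hK N hN⟩
  rw [Subgroup.characteristic_iff_map_eq]
  intro φ
  have hKn := K_normal H K hK
  have hNn : (K.map φ.toMonoidHom).Normal := hKn.map _ φ.surjective
  have hcard : Nat.card (K.map φ.toMonoidHom) = Nat.card K :=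
    Subgroup.card_map_of_injective φ.injective
  rcases comparable H hH K hK _ hNn with h | h
  · exact (Subgroup.eq_of_le_of_card_ge h hcard.le).symm
  · exact Subgroup.eq_of_le_of_card_ge h hcard.ge

end Cfsg.Agent.S3383
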