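import Mathlib
import Cfsg.Statements.S3389
import Cfsg.Agent.Lib_helper10_Sylow

set_option autoImplicit false
open Cfsg

namespace Cfsg.Agent.S3389

theorem card_dvd_of_free {A X : Type*} [Group A] [MulAction A X]
    (h : ∀ b : X, MulAction.stabilizer A b = ⊥) : Nat.card A ∣ Nat.card X := by
  rw [Nat.card_congr (MulAction.selfEquivOrbitsQuotientProd h), Nat.card_prod]
  exact dvd_mul_left _ _

theorem part1 {G : Type*} [Group G] {Ω : Type*} [MulAction G Ω] [FaithfulSMul G Ω]
    (htr : MulAction.IsPretransitive G Ω) (g : G) :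
    Nat.card (Subgroup.center G) ∣ Nat.card (MulAction.fixedBy Ω g) := by
  let S : SubMulAction (Subgroup.center G) Ω :=
    { carrier := MulAction.fixedBy Ω g
      smul_mem' := by
        intro z x hx
        have hx' : g • x = x := hx
        show g • ((z : G) • x) = (z : G) • x
        rw [← mul_smul, (Subgroup.mem_center_iff.mp z.2 g), mul_smul, hx'] }
  have hfree : ∀ b : S, MulAction.stabilizer (Subgroup.center G) b = ⊥ := by
    intro b
    rw [eq_bot_iff]
    intro z hz
    rw [Subgroup.mem_bot]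
    have hzb : (z : G) • (b : Ω) = b := by
      have := MulAction.mem_stabilizer_iff.mp hz
      exact congrArg Subtype.val this
    apply Subtype.ext
    apply FaithfulSMul.eq_of_smul_eq_smul (α := Ω)
    intro ω
    obtain ⟨h, rfl⟩ := MulAction.exists_smul_eq G (b : Ω) ω
    rw [Subgroup.coe_one, one_smul, ← mul_smul, ← (Subgroup.mem_center_iff.mp z.2 h), mul_smul, hzb]
  have hdvd := card_dvd_of_free hfree
  exact hdvd

theorem part3 {G : Type*} [Group G] [Finite G] {Ω : Type*} [Fintype Ω] [MulAction G Ω]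
    (htr : MulAction.IsPretransitive G Ω) (k : ℕ)
    (hfix : ∀ g : G, g ≠ 1 → Nat.card (MulAction.fixedBy Ω g) ≤ k)
    (p : ℕ) (hp : p.Prime) (hkp : k < p) (α : Ω) :
    ¬ p ∣ Nat.card (MulAction.stabilizer G α) ∨ ¬ p ∣ (MulAction.stabilizer G α).index := by
  by_cases hdiv : p ∣ Nat.card (MulAction.stabilizer G α)
  · right
    have : Fact p.Prime := ⟨hp⟩
    obtain ⟨x, hx⟩ := exists_prime_orderOf_dvd_card' p hdiv
    have hxG : orderOf (x : G) = p := by rw [Subgroup.orderOf_coe]; exact hx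
    have hx1 : (x : G) ≠ 1 := by
      intro h
      rw [h, orderOf_one] at hxG
      exact hp.one_lt.ne hxG
    have hP : IsPGroup p (Subgroup.zpowers (x : G)) :=
      IsPGroup.of_card (n := 1) (by rw [Nat.card_zpowers, hxG, pow_one])
    have hmod := hP.card_modEq_card_fixedPoints Ω
    rw [MulAction.index_stabilizer_of_transitive]
    intro hdvd
    have h0 : Nat.card (MulAction.fixedPoints (Subgroup.zpowers (x : G)) Ω) % p = 0 := by
      have h1 : Nat.card Ω % p = Nat.card (MulAction.fixedPoints (Subgroup.zpowers (x : G)) Ω) % p := hmod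
      rw [← h1]; exact Nat.mod_eq_zero_of_dvd hdvd
    have hpos : 0 < Nat.card (MulAction.fixedPoints (Subgroup.zpowers (x : G)) Ω) := by
      rw [Nat.card_pos_iff]
      refine ⟨⟨⟨α, ?_⟩⟩, inferInstance⟩
      intro q
      have hle : Subgroup.zpowers (x : G) ≤ MulAction.stabilizer G α :=
        Subgroup.zpowers_le.mpr x.2
      exact hle q.2
    have hle : Nat.card (MulAction.fixedPoints (Subgroup.zpowers (x : G)) Ω) ≤ k := by
      refine le_trans (Nat.card_mono (Set.toFinite _) ?_) (hfix _ hx1)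
      intro ω hω
      exact hω ⟨(x : G), Subgroup.mem_zpowers _⟩
    have hlt : Nat.card (MulAction.fixedPoints (Subgroup.zpowers (x : G)) Ω) < p :=
      lt_of_le_of_lt hle hkp
    rw [Nat.mod_eq_of_lt hlt] at h0
    omega
  · left; exact hdiv

theorem three_fixed {G : Type*} [Group G] {Ω : Type*} [Fintype Ω] [MulAction G Ω] (g : G)
    (h : Nat.card (MulAction.fixedBy Ω g) ≤ 2) (u v w : Ω) (hu : g • u = u) (hv : g • v = v)
    (hw : g • w = w) : u = v ∨ u = w ∨ v = w := by
  classical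
  by_contra hcon
  push Not at hcon
  obtain ⟨h1, h2, h3⟩ := hcon
  have hsub : ((({u, v, w} : Finset Ω) : Set Ω)) ⊆ MulAction.fixedBy Ω g := by
    intro z hz
    simp only [Finset.coe_insert, Finset.coe_singleton, Set.mem_insert_iff,
      Set.mem_singleton_iff] at hz
    rcases hz with rfl | rfl | rfl <;> assumption
  have hc := Set.ncard_le_ncard hsub (Set.toFinite _)
  rw [Set.ncard_coe_finset, Finset.card_eq_three.mpr ⟨u, v, w, h1, h2, h3, rfl⟩,
    ← Nat.card_coe_set_eq] at hc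
  omega

theorem part2 {G : Type*} [Group G] [Finite G] {Ω : Type*} [Fintype Ω] [MulAction G Ω]
    (htr : MulAction.IsPretransitive G Ω)
    (hfix : ∀ g : G, g ≠ 1 → Nat.card (MulAction.fixedBy Ω g) ≤ 2) (g : G) (hg1 : g ≠ 1)
    (hg : Nat.card (MulAction.fixedBy Ω g) = 2) : 2 ∣ Nat.card G := by
  classical
  obtain ⟨α, β, hαβ, hgα, hgβ⟩ : ∃ α β : Ω, α ≠ β ∧ g • α = α ∧ g • β = β := by
    have h2 : (MulAction.fixedBy Ω g).ncard = 2 := by rw [← Nat.card_coe_set_eq]; exact hg
    obtain ⟨α, β, hne, hset⟩ := Set.ncard_eq_two.mp h2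
    refine ⟨α, β, hne, ?_, ?_⟩
    · have : α ∈ MulAction.fixedBy Ω g := by rw [hset]; simp
      exact this
    · have : β ∈ MulAction.fixedBy Ω g := by rw [hset]; simp
      exact this
  have hord : orderOf g ≠ 1 := by rw [Ne, orderOf_eq_one_iff]; exact hg1
  obtain ⟨p, hp, hpdvd⟩ := Nat.exists_prime_and_dvd hord
  have : Fact p.Prime := ⟨hp⟩
  set x := g ^ (orderOf g / p) with hxdef
  have hxord : orderOf x = p := orderOf_pow_orderOf_div (orderOf_pos g).ne' hpdvd
  have hx1 : x ≠ 1 := by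
    intro h
    rw [h, orderOf_one] at hxord
    exact hp.one_lt.ne hxord
  let 𝒬 : Set (Subgroup G) := {Q | IsPGroup p Q ∧ Q ≠ ⊥ ∧
    ∃ u v : Ω, u ≠ v ∧ (∀ q ∈ Q, q • u = u) ∧ (∀ q ∈ Q, q • v = v)}
  have hne : 𝒬.Nonempty := by
    refine ⟨Subgroup.zpowers x, IsPGroup.of_card (n := 1) (by rw [Nat.card_zpowers, hxord, pow_one]),
      Subgroup.zpowers_ne_bot.mpr hx1, α, β, hαβ, ?_, ?_⟩
    · have hle : Subgroup.zpowers x ≤ MulAction.stabilizer G α :=
        Subgroup.zpowers_le.mpr (Subgroup.pow_mem _ (show g ∈ MulAction.stabilizer G α from hgα) _)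
      exact fun q hq => hle hq
    · have hle : Subgroup.zpowers x ≤ MulAction.stabilizer G β :=
        Subgroup.zpowers_le.mpr (Subgroup.pow_mem _ (show g ∈ MulAction.stabilizer G β from hgβ) _)
      exact fun q hq => hle hq
  obtain ⟨Q, ⟨hQp, hQ1, a, b, hab, hQa, hQb⟩, hQmax⟩ :=
    Set.exists_max_image 𝒬 (fun Q => Nat.card Q) (Set.toFinite _) hne
  obtain ⟨q0, hq0Q, hq01⟩ := (Q.bot_or_exists_ne_one).resolve_left hQ1
  have hFixQ : ∀ c : Ω, (∀ q ∈ Q, q • c = c) → c = a ∨ c = b := by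
    intro c hc
    rcases three_fixed q0 (hfix q0 hq01) a b c (hQa _ hq0Q) (hQb _ hq0Q) (hc _ hq0Q) with h | h | h
    · exact absurd h hab
    · left; exact h.symm
    · right; exact h.symm
  -- Q is a maximal p-subgroup of the stabilizer of b
  have hA : ∀ R : Subgroup G, IsPGroup p R → Q ≤ R → (∀ r ∈ R, r • b = b) → R = Q := by
    intro R hR hQR hRb
    by_contra hne'
    have hlt : Q.subgroupOf R < ⊤ := by
      rw [lt_top_iff_ne_top, Ne, Subgroup.subgroupOf_eq_top]
      intro hle; exact hne' (le_antisymm hle hQR)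
    have : Group.IsNilpotent R := hR.isNilpotent
    have hnc := Group.normalizerCondition_of_isNilpotent (G := R) (Q.subgroupOf R) hlt
    obtain ⟨r, hrN, hrQ⟩ := SetLike.exists_of_lt hnc
    have hrQ' : (r : G) ∉ Q := fun h => hrQ (Subgroup.mem_subgroupOf.mpr h)
    have hnorm : ∀ q ∈ Q, (r : G)⁻¹ * q * (r : G) ∈ Q := by
      intro q hq
      have := (Subgroup.mem_normalizer_iff''.mp hrN ⟨q, hQR hq⟩).mp (Subgroup.mem_subgroupOf.mpr hq)
      exact Subgroup.mem_subgroupOf.mp this
    have hrb : (r : G) • b = b := hRb _ r.2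
    have hra : (r : G) • a = a := by
      have hfixra : ∀ q ∈ Q, q • ((r : G) • a) = (r : G) • a := by
        intro q hq
        have := hQa _ (hnorm q hq)
        calc q • ((r : G) • a) = (r : G) • (((r : G)⁻¹ * q * (r : G)) • a) := by
              rw [← mul_smul, ← mul_smul]; congr 1; group
          _ = (r : G) • a := by rw [this]
      rcases hFixQ _ hfixra with h | h
      · exact h
      · exfalso
        rw [← hrb] at h
        exact hab (MulAction.injective (r : G) h)
    have hQ'R : Q ⊔ Subgroup.zpowers (r : G) ≤ R := sup_le hQR (Subgroup.zpowers_le.mpr r.2)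
    have hQ'p : IsPGroup p (Q ⊔ Subgroup.zpowers (r : G) : Subgroup G) := hR.to_le hQ'R
    have hQ'a : ∀ q ∈ Q ⊔ Subgroup.zpowers (r : G), q • a = a := by
      have : Q ⊔ Subgroup.zpowers (r : G) ≤ MulAction.stabilizer G a :=
        sup_le (fun q hq => hQa q hq) (Subgroup.zpowers_le.mpr hra)
      exact fun q hq => this hq
    have hQ'b : ∀ q ∈ Q ⊔ Subgroup.zpowers (r : G), q • b = b := by
      have : Q ⊔ Subgroup.zpowers (r : G) ≤ MulAction.stabilizer G b :=
        sup_le (fun q hq => hQb q hq) (Subgroup.zpowers_le.mpr hrb)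
      exact fun q hq => this hq
    have hQ'1 : Q ⊔ Subgroup.zpowers (r : G) ≠ ⊥ := fun h =>
      hQ1 (eq_bot_iff.mpr (h ▸ le_sup_left))
    have hcard := hQmax _ ⟨hQ'p, hQ'1, a, b, hab, hQ'a, hQ'b⟩
    have heq : Q = Q ⊔ Subgroup.zpowers (r : G) := Subgroup.eq_of_le_of_card_ge le_sup_left hcard
    apply hrQ'
    rw [heq]
    exact (le_sup_right : Subgroup.zpowers (r : G) ≤ Q ⊔ Subgroup.zpowers (r : G))
      (Subgroup.mem_zpowers _)
  -- conjugating element
  obtain ⟨h, hh⟩ := MulAction.exists_smul_eq G a b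
  have hQK : Q ≤ MulAction.stabilizer G b := fun q hq => hQb q hq
  have hQ₁K : Q.map (MulAut.conj h).toMonoidHom ≤ MulAction.stabilizer G b := by
    rintro _ ⟨q, hq, rfl⟩
    rw [MulAction.mem_stabilizer_iff]
    show (h * q * h⁻¹) • b = b
    rw [mul_smul, mul_smul, ← hh, inv_smul_smul, hQa q hq]
  have hQ₁p : IsPGroup p (Q.map (MulAut.conj h).toMonoidHom) := hQp.map _
  obtain ⟨S, hS⟩ := (hQp.comap_subtype (K := MulAction.stabilizer G b)).exists_le_sylow
  have hR : (S : Subgroup (MulAction.stabilizer G b)).map (MulAction.stabilizer G b).subtype = Q := by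
    apply hA
    · exact S.isPGroup'.map _
    · intro q hq
      exact ⟨⟨q, hQK hq⟩, hS (Subgroup.mem_subgroupOf.mpr hq), rfl⟩
    · rintro _ ⟨s, _, rfl⟩
      exact s.2
  obtain ⟨c, hc⟩ := Cfsg.Agent.helper10.pgroup_conj_into_sylow (G := MulAction.stabilizer G b) S
    ((Q.map (MulAut.conj h).toMonoidHom).subgroupOf (MulAction.stabilizer G b)) (hQ₁p.comap_subtype)
  have hn : ∀ q ∈ Q, ((c : G) * h) * q * ((c : G) * h)⁻¹ ∈ Q := by
    intro q hq
    have h1 : h * q * h⁻¹ ∈ Q.map (MulAut.conj h).toMonoidHom := ⟨q, hq, rfl⟩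
    have h2 : (⟨h * q * h⁻¹, hQ₁K h1⟩ : MulAction.stabilizer G b) ∈
        (Q.map (MulAut.conj h).toMonoidHom).subgroupOf (MulAction.stabilizer G b) :=
      Subgroup.mem_subgroupOf.mpr h1
    have h3 : c * ⟨h * q * h⁻¹, hQ₁K h1⟩ * c⁻¹ ∈ (S : Subgroup (MulAction.stabilizer G b)) :=
      hc ⟨_, h2, rfl⟩
    have h4 : ((c * ⟨h * q * h⁻¹, hQ₁K h1⟩ * c⁻¹ : MulAction.stabilizer G b) : G) ∈ Q := by
      rw [← hR]; exact ⟨_, h3, rfl⟩
    have h5 : ((c * ⟨h * q * h⁻¹, hQ₁K h1⟩ * c⁻¹ : MulAction.stabilizer G b) : G) =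
        ((c : G) * h) * q * ((c : G) * h)⁻¹ := by
      simp only [Subgroup.coe_mul, Subgroup.coe_inv]
      group
    rw [← h5]; exact h4
  -- m = (c h)⁻¹ swaps a and b
  set m := ((c : G) * h)⁻¹ with hm
  have hmb : m • b = a := by
    rw [hm, inv_smul_eq_iff, mul_smul, hh]
    exact (c.2 : (c : G) • b = b).symm
  have hmfix : ∀ d : Ω, (∀ q ∈ Q, q • d = d) → ∀ q ∈ Q, q • (m • d) = m • d := by
    intro d hd q hq
    have := hd _ (hn q hq)
    calc q • (m • d) = m • ((((c : G) * h) * q * ((c : G) * h)⁻¹) • d) := by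
          rw [← mul_smul, ← mul_smul, hm]; congr 1; group
      _ = m • d := by rw [this]
  have hma : m • a = b := by
    rcases hFixQ _ (hmfix a hQa) with h' | h'
    · exfalso
      exact hab (MulAction.injective m (h'.trans hmb.symm))
    · exact h'
  have hpow : ∀ j : ℕ, m ^ (2 * j) • a = a ∧ m ^ (2 * j) • b = b := by
    intro j
    induction j with
    | zero => simp
    | succ j ih =>
      have e : m ^ (2 * (j + 1)) = m ^ (2 * j) * (m * m) := by
        rw [Nat.mul_succ, pow_add, pow_two]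
      rw [e]
      constructor
      · rw [mul_smul, mul_smul, hma, hmb]; exact ih.1
      · rw [mul_smul, mul_smul, hmb, hma]; exact ih.2
  have heven : 2 ∣ orderOf m := by
    rcases Nat.even_or_odd' (orderOf m) with ⟨j, hj | hj⟩
    · exact ⟨j, hj⟩
    · exfalso
      have h1 : m ^ (2 * j + 1) = 1 := by rw [← hj]; exact pow_orderOf_eq_one m
      have h2 : m ^ (2 * j + 1) • a = b := by
        rw [pow_succ, mul_smul, hma]; exact (hpow j).2
      rw [h1, one_smul] at h2
      exact hab h2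
  exact heven.trans (orderOf_dvd_natCard m)

theorem result {G : Type*} [Group G] [Finite G] {Ω : Type*} [Fintype Ω] [MulAction G Ω] [FaithfulSMul G Ω]
    (htr : MulAction.IsPretransitive G Ω) (k : ℕ) (hk : 1 ≤ k)
    (hfix : ∀ g : G, g ≠ 1 → Nat.card (MulAction.fixedBy Ω g) ≤ k) (hex : ∃ g : G, g ≠ 1 ∧ Nat.card (MulAction.fixedBy Ω g) = k) :
    Nat.card (Subgroup.center G) ∣ k ∧ (k = 2 → 2 ∣ Nat.card G) ∧
      ∀ (p : ℕ), p.Prime → k < p → p ∣ Nat.card G → ∀ α : Ω,
        ¬ p ∣ Nat.card (MulAction.stabilizer G α) ∨ ¬ p ∣ (MulAction.stabilizer G α).index := by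
  obtain ⟨g, hg1, hg⟩ := hex
  refine ⟨?_, ?_, ?_⟩
  · rw [← hg]; exact part1 htr g
  · intro hk2
    subst hk2
    exact part2 htr hfix g hg1 hg
  · intro p hp hkp _ α
    exact part3 htr k hfix p hp hkp α

end Cfsg.Agent.S3389
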