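import Cfsg.Statements.S3391
import Cfsg.Agent.Lib_helper11_Sz25

set_option autoImplicit false
open Cfsg

namespace Cfsg.Agent.S3391

open Cfsg.Agent.helper11.Sz Cfsg.Agent.S0326 Cfsg.Agent.S0327 Cfsg.Agent.S3893 MulAction Matrix

section

variable {F : Type*} [Field F] [CharP F 2] [Fintype F] {m : ℕ}
variable {Ω : Type*} [Fintype Ω] [MulAction (Cfsg.Sz F m) Ω]

theorem mem_borel_iff (hm : 1 ≤ m) (hF : Fintype.card F = 2 ^ (2 * m + 1)) (g : Cfsg.Sz F m) :
    g ∈ stabilizer (Cfsg.Sz F m) (Cfsg.suzukiPointInfinity F) ↔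
      ∃ (a b : F) (k : Fˣ), g = tq hF a b * hq hF k := by
  rw [mem_stabilizer_iff, pointInf_eq (m := m)]
  constructor
  · intro h
    exact stab_inf' hm hF g h
  · rintro ⟨a, b, k, rfl⟩
    show (Ts m a b * Hs m k) • param (F := F) m none = param m none
    rw [mul_smul, Hs_smul_inf, Ts_smul_inf]

theorem core (hm : 1 ≤ m) (hF : Fintype.card F = 2 ^ (2 * m + 1))
    [IsPretransitive (Cfsg.Sz F m) Ω]
    (hfix : ∀ s : Cfsg.Sz F m, s ≠ 1 → Nat.card (fixedBy Ω s) ≤ 2)
    (hex : ∃ s : Cfsg.Sz F m, s ≠ 1 ∧ Nat.card (fixedBy Ω s) = 2) :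
    (Fintype.card Ω = Fintype.card F ^ 2 + 1 ∧
      ∀ a b c d : Ω, a ≠ b → c ≠ d → ∃ s : Cfsg.Sz F m, s • a = c ∧ s • b = d) ∨
    (Fintype.card Ω = Fintype.card F ^ 2 * (Fintype.card F ^ 2 + 1) ∧
      ∀ α : Ω, Nat.card (stabilizer (Cfsg.Sz F m) α) = Fintype.card F - 1) := by
  obtain ⟨s, hs1, hs2⟩ := hex
  have hq8 : 8 ≤ Fintype.card F := by
    rw [hF]
    calc 8 = 2 ^ 3 := by norm_num
      _ ≤ 2 ^ (2 * m + 1) := Nat.pow_le_pow_right (by norm_num) (by omega)
  have hcardS := card_Sz hm hF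
  have hidx : ∀ α : Ω, Nat.card (stabilizer (Cfsg.Sz F m) α) * Fintype.card Ω =
      Fintype.card F ^ 2 * (Fintype.card F ^ 2 + 1) * (Fintype.card F - 1) := by
    intro α
    rw [← hcardS, ← Subgroup.card_mul_index (stabilizer (Cfsg.Sz F m) α),
      index_stabilizer_of_transitive, Nat.card_eq_fintype_card (α := Ω)]
  by_cases hev : ∃ (α : Ω) (t : Cfsg.Sz F m), t • α = α ∧ orderOf t = 2
  · left
    obtain ⟨α₀, t, htα, ht⟩ := hev
    obtain ⟨α, hα⟩ := even_case hm hF hfix α₀ t htα ht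
    have hw : wq (m := m) hF • α ≠ α := by
      intro hw
      have hall : ∀ g : Cfsg.Sz F m, g • α = α := by
        intro g
        rcases bruhat' hm hF g with ⟨a, b, k, rfl⟩ | ⟨a, b, a', b', k, rfl⟩
        · exact hα a b k
        · have e : tq hF a b * wq hF * tq hF a' b' * hq hF k =
              (tq hF a b * hq hF 1) * wq hF * (tq hF a' b' * hq hF k) := by
            rw [hq_one, mul_one]; group
          rw [e, mul_smul, mul_smul, hα, hw, hα]
      haveI : Subsingleton Ω := ⟨fun β γ => by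
        obtain ⟨g, rfl⟩ := exists_smul_eq (Cfsg.Sz F m) α β
        obtain ⟨g', rfl⟩ := exists_smul_eq (Cfsg.Sz F m) α γ
        rw [hall, hall]⟩
      have : Nat.card (fixedBy Ω s) ≤ 1 := Finite.card_le_one_iff_subsingleton.mpr inferInstance
      omega
    have hM : ∀ g : Cfsg.Sz F m, g • α = α ↔ ∃ (a b : F) (k : Fˣ), g = tq hF a b * hq hF k := by
      intro g
      constructor
      · intro hg
        rcases bruhat' hm hF g with h | ⟨a, b, a', b', k, rfl⟩
        · exact h
        · exfalso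
          apply hw
          have e : wq (m := m) hF = (tq hF a b * hq hF 1)⁻¹ *
              (tq hF a b * wq hF * tq hF a' b' * hq hF k) * (tq hF a' b' * hq hF k)⁻¹ := by
            rw [hq_one, mul_one]; group
          rw [e, mul_smul, mul_smul, inv_smul_eq_iff.mpr (hα a' b' k).symm, hg,
            inv_smul_eq_iff.mpr (hα a b 1).symm]
      · rintro ⟨a, b, k, rfl⟩
        exact hα a b k
    have hMB : stabilizer (Cfsg.Sz F m) α =
        stabilizer (Cfsg.Sz F m) (Cfsg.suzukiPointInfinity F) := by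
      ext g
      rw [mem_borel_iff hm hF, mem_stabilizer_iff, hM]
    constructor
    · have h1 := hidx α
      rw [hMB, card_stab_inf hm hF] at h1
      have hpos : 0 < Fintype.card F ^ 2 * (Fintype.card F - 1) := by
        apply Nat.mul_pos
        · positivity
        · omega
      apply Nat.eq_of_mul_eq_mul_left hpos
      rw [h1]; ring
    · have key : ∀ a b : Ω, a ≠ b → ∃ u : Cfsg.Sz F m, u • α = a ∧ u • (wq hF • α) = b := by
        intro a b hab
        obtain ⟨x, rfl⟩ := exists_smul_eq (Cfsg.Sz F m) α a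
        obtain ⟨y, rfl⟩ := exists_smul_eq (Cfsg.Sz F m) α b
        rcases bruhat' hm hF (x⁻¹ * y) with ⟨a₁, b₁, k₁, h⟩ | ⟨a₁, b₁, a₂, b₂, k₂, h⟩
        · exfalso
          apply hab
          have : y = x * (tq hF a₁ b₁ * hq hF k₁) := by rw [← h]; group
          rw [this, mul_smul, hα]
        · refine ⟨x * tq hF a₁ b₁, ?_, ?_⟩
          · have := hα a₁ b₁ 1
            rw [hq_one, mul_one] at this
            rw [mul_smul, this]
          · have : y = x * tq hF a₁ b₁ * wq hF * (tq hF a₂ b₂ * hq hF k₂) := by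
              have : y = x * (x⁻¹ * y) := by group
              rw [this, h]; group
            rw [this, mul_smul (x * tq hF a₁ b₁ * wq hF), hα, mul_smul (x * tq hF a₁ b₁)]
      intro a b c d hab hcd
      obtain ⟨u, hu1, hu2⟩ := key a b hab
      obtain ⟨u', hu1', hu2'⟩ := key c d hcd
      refine ⟨u' * u⁻¹, ?_, ?_⟩
      · rw [mul_smul, ← hu1, inv_smul_smul, hu1']
      · rw [mul_smul, ← hu2, inv_smul_smul, hu2']
  · right
    push Not at hev
    have hno : ∀ α : Ω, ∀ t ∈ stabilizer (Cfsg.Sz F m) α, orderOf t ≠ 2 :=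
      fun α t ht => hev α t (mem_stabilizer_iff.mp ht)
    have hne : Nonempty (fixedBy Ω s) := by
      apply (Finite.card_pos_iff).mp
      omega
    obtain ⟨⟨α₁, hα₁⟩⟩ := hne
    obtain ⟨α, hα⟩ := odd_case hm hF hfix hno α₁ s hs1 hα₁
    have hMT : stabilizer (Cfsg.Sz F m) α = (hqHom hm hF).range := by
      ext g
      rw [mem_stabilizer_iff, hα, MonoidHom.mem_range]
      constructor
      · rintro ⟨k, rfl⟩; exact ⟨k, rfl⟩
      · rintro ⟨k, rfl⟩; exact ⟨k, rfl⟩
    have hinj : Function.Injective (hqHom (m := m) hm hF) := fun a b h => hq_injective hF h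
    have hcardT : Nat.card (stabilizer (Cfsg.Sz F m) α) = Fintype.card F - 1 := by
      rw [hMT, ← Nat.card_congr (MonoidHom.ofInjective hinj).toEquiv, Nat.card_units,
        Nat.card_eq_fintype_card]
    have hΩ : Fintype.card Ω = Fintype.card F ^ 2 * (Fintype.card F ^ 2 + 1) := by
      have h1 := hidx α
      rw [hcardT] at h1
      have hpos : 0 < Fintype.card F - 1 := by omega
      apply Nat.eq_of_mul_eq_mul_left hpos
      rw [h1]; ring
    refine ⟨hΩ, ?_⟩
    intro β
    have h1 := hidx β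
    rw [hΩ] at h1
    have hpos : 0 < Fintype.card F ^ 2 * (Fintype.card F ^ 2 + 1) := by positivity
    apply Nat.eq_of_mul_eq_mul_right hpos
    rw [h1]; ring

end

theorem result {G : Type*} [Group G] [Finite G] (F : Type) [Field F] [Fintype F] (m : ℕ) (hm : 1 ≤ m) (hF : Fintype.card F = 2 ^ (2 * m + 1))
    (e : G ≃* ↥(Cfsg.Lie.Sz F (2 ^ (m + 1)))) {Ω : Type*} [Fintype Ω] [MulAction G Ω] [FaithfulSMul G Ω] (htr : MulAction.IsPretransitive G Ω)
    (hfix : ∀ g : G, g ≠ 1 → Nat.card (MulAction.fixedBy Ω g) ≤ 2) (hex : ∃ g : G, g ≠ 1 ∧ Nat.card (MulAction.fixedBy Ω g) = 2) :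
    (Fintype.card Ω = Fintype.card F ^ 2 + 1 ∧ MulAction.IsMultiplyPretransitive G Ω 2) ∨
    (Fintype.card Ω = Fintype.card F ^ 2 * (Fintype.card F ^ 2 + 1) ∧ ∀ α : Ω, Nat.card (MulAction.stabilizer G α) = Fintype.card F - 1) := by
  haveI := Cfsg.Agent.helper11.Sz.charP_two hF
  let e' : G ≃* Cfsg.Sz F m := e.trans (lieSzEquiv hm hF).symm
  letI : MulAction (Cfsg.Sz F m) Ω := MulAction.compHom Ω (e'.symm.toMonoidHom)
  have hsmul : ∀ (s : Cfsg.Sz F m) (ω : Ω), s • ω = e'.symm s • ω := fun s ω => rfl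
  haveI : IsPretransitive (Cfsg.Sz F m) Ω := ⟨fun a b => by
    obtain ⟨g, hg⟩ := htr.exists_smul_eq a b
    exact ⟨e' g, by rw [hsmul, MulEquiv.symm_apply_apply, hg]⟩⟩
  have hfb : ∀ s : Cfsg.Sz F m, fixedBy Ω s = fixedBy Ω (e'.symm s) := by
    intro s
    ext ω
    rw [mem_fixedBy, mem_fixedBy, hsmul]
  have hfix' : ∀ s : Cfsg.Sz F m, s ≠ 1 → Nat.card (fixedBy Ω s) ≤ 2 := by
    intro s hs
    rw [hfb]
    apply hfix
    intro h
    apply hs
    have := congrArg e' h
    rwa [MulEquiv.apply_symm_apply, map_one] at this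
  have hex' : ∃ s : Cfsg.Sz F m, s ≠ 1 ∧ Nat.card (fixedBy Ω s) = 2 := by
    obtain ⟨g, hg1, hg2⟩ := hex
    refine ⟨e' g, ?_, ?_⟩
    · intro h
      apply hg1
      have := congrArg e'.symm h
      rwa [MulEquiv.symm_apply_apply, map_one] at this
    · rw [hfb, MulEquiv.symm_apply_apply]
      exact hg2
  rcases core (m := m) hm hF hfix' hex' with ⟨h1, h2⟩ | ⟨h1, h2⟩
  · left
    refine ⟨h1, ?_⟩
    rw [is_two_pretransitive_iff]
    intro a b c d hab hcd
    obtain ⟨s, hs1, hs2⟩ := h2 a b c d hab hcd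
    exact ⟨e'.symm s, hs1, hs2⟩
  · right
    refine ⟨h1, ?_⟩
    intro α
    rw [← h2 α]
    apply Nat.card_congr
    exact
      { toFun := fun g => ⟨e' g.1, by
          rw [mem_stabilizer_iff, hsmul, MulEquiv.symm_apply_apply]
          exact mem_stabilizer_iff.mp g.2⟩
        invFun := fun s => ⟨e'.symm s.1, by
          rw [mem_stabilizer_iff]
          have := mem_stabilizer_iff.mp s.2
          rwa [hsmul] at this⟩
        left_inv := fun g => by
          apply Subtype.ext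
          exact e'.symm_apply_apply g.1
        right_inv := fun s => by
          apply Subtype.ext
          exact e'.apply_symm_apply s.1 }

end Cfsg.Agent.S3391
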