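import Cfsg.Statements.S3430
import Cfsg.Agent.Lib_helper18_Zsig3

set_option autoImplicit false
open Cfsg

namespace Cfsg.Agent.S3430

/-- Let q, n ≥ 2 be integers. Unless (n = 2 and q + 1 = 2^s·3^t for some s ≥ 0 and t ≤ 1), or (q = 2 and n ∈ {4, 6, 10, 12, 18}), or (q = 3 and n ∈ {4, 6}), or (q, n) = (5, 6), there is a prime p dividing q^n − 1 but no q^i − 1 with 1 ≤ i < n (a primitive prime divisor), such that p > n + 1 or p² divides q^n − 1. -/
theorem result (q n : ℕ) (hq : 2 ≤ q) (hn : 2 ≤ n)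
    (h1 : ¬ (n = 2 ∧ ∃ s t : ℕ, t ≤ 1 ∧ q + 1 = 2 ^ s * 3 ^ t))
    (h2 : ¬ (q = 2 ∧ (n = 4 ∨ n = 6 ∨ n = 10 ∨ n = 12 ∨ n = 18)))
    (h3 : ¬ (q = 3 ∧ (n = 4 ∨ n = 6))) (h4 : ¬ (q = 5 ∧ n = 6)) :
    ∃ p : ℕ, p.Prime ∧ p ∣ q ^ n - 1 ∧ (∀ i : ℕ, 1 ≤ i → i < n → ¬ p ∣ q ^ i - 1) ∧ (n + 1 < p ∨ p ^ 2 ∣ q ^ n - 1) := by
  rcases Nat.lt_or_ge n 3 with hn3 | hn3
  · have hn2 : n = 2 := by omega
    subst hn2
    have h1' : ¬ ∃ s t : ℕ, t ≤ 1 ∧ q + 1 = 2 ^ s * 3 ^ t := fun h => h1 ⟨rfl, h⟩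
    obtain ⟨p, hp, hpd, hpn, hlast⟩ := Cfsg.Agent.helper18.Zsig3.s3430_n2 q hq h1'
    refine ⟨p, hp, hpd, ?_, ?_⟩
    · intro i hi hi2
      have : i = 1 := by omega
      subst this
      rwa [pow_one]
    · rcases hlast with h | h
      · left; omega
      · right; exact h
  · by_cases hex : Cfsg.Agent.helper18.Zsig2.Exc13 q n
    · unfold Cfsg.Agent.helper18.Zsig2.Exc13 at hex
      rcases hex with ⟨rfl, (rfl | rfl | rfl | rfl | rfl | rfl | rfl | rfl)⟩ |
        ⟨rfl, (rfl | rfl)⟩ | ⟨rfl, (rfl | rfl)⟩ | ⟨rfl, rfl⟩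
      · refine ⟨7, by norm_num, by norm_num, ?_, Or.inl (by norm_num)⟩
        intro i hi hi3
        interval_cases i <;> norm_num
      · exact (h2 ⟨rfl, by norm_num⟩).elim
      · exact (h2 ⟨rfl, by norm_num⟩).elim
      · refine ⟨17, by norm_num, by norm_num, ?_, Or.inl (by norm_num)⟩
        intro i hi hi3
        interval_cases i <;> norm_num
      · exact (h2 ⟨rfl, by norm_num⟩).elim
      · exact (h2 ⟨rfl, by norm_num⟩).elim
      · exact (h2 ⟨rfl, by norm_num⟩).elim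
      · refine ⟨41, by norm_num, by norm_num, ?_, Or.inl (by norm_num)⟩
        intro i hi hi3
        interval_cases i <;> norm_num
      · exact (h3 ⟨rfl, by norm_num⟩).elim
      · exact (h3 ⟨rfl, by norm_num⟩).elim
      · refine ⟨7, by norm_num, by norm_num, ?_, Or.inl (by norm_num)⟩
        intro i hi hi3
        interval_cases i <;> norm_num
      · refine ⟨13, by norm_num, by norm_num, ?_, Or.inl (by norm_num)⟩
        intro i hi hi3
        interval_cases i <;> norm_num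
      · exact (h4 ⟨rfl, rfl⟩).elim
    · obtain ⟨m, hmd, hprim, hsize⟩ :=
        Cfsg.Agent.helper18.Zsig3.prim_part_large q n hq hn3 hex
      have hm1 : m ≠ 1 := by omega
      have hm0 : m ≠ 0 := by omega
      have hge : ∀ s : ℕ, s.Prime → s ∣ m → n + 1 ≤ s := by
        intro s hs hsm
        exact Cfsg.Agent.helper18.Zsig3.prim_prime_ge q n s hq (by omega) hs (hsm.trans hmd)
          (hprim s hs hsm)
      by_cases hbig : ∃ s : ℕ, s.Prime ∧ s ∣ m ∧ n + 1 < s
      · obtain ⟨s, hs, hsm, hlt⟩ := hbig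
        exact ⟨s, hs, hsm.trans hmd, hprim s hs hsm, Or.inl hlt⟩
      · push Not at hbig
        have huniq : ∀ {d : ℕ}, d.Prime → d ∣ m → d = n + 1 := by
          intro d hd hdm
          have := hge d hd hdm
          have := hbig d hd hdm
          omega
        obtain ⟨k, hpow⟩ : ∃ k, m = (n + 1) ^ k :=
          ⟨_, Nat.eq_prime_pow_of_unique_prime_dvd hm0 huniq⟩
        obtain ⟨s, hs, hsm⟩ := Nat.exists_prime_and_dvd hm1
        have hs' : s = n + 1 := huniq hs hsm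
        subst hs'
        have hk2 : 2 ≤ k := by
          by_contra hcon
          have : k = 0 ∨ k = 1 := by omega
          rcases this with h | h
          · rw [h, pow_zero] at hpow; omega
          · rw [h, pow_one] at hpow; omega
        have hsq : (n + 1) ^ 2 ∣ m := by
          rw [hpow]; exact pow_dvd_pow _ hk2
        exact ⟨n + 1, hs, hsm.trans hmd, hprim _ hs hsm, Or.inr (hsq.trans hmd)⟩

end Cfsg.Agent.S3430
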