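import Mathlib
import Cfsg.Statements.S3437
import Cfsg.Agent.Lib_helper2_Frob3
import Cfsg.Agent.Lib_helper2_Spec2

set_option autoImplicit false
open Cfsg

namespace Cfsg.Agent.S3437

open Cfsg.Agent.helper2

open Cfsg.Agent.helper2.Spec

theorem result {F : Type*} [Field F] [Fintype F] (hF : Fintype.card F = 3) :
    ∃ (H : Type) (_ : Group H) (_ : Fintype H), Group.IsSolvable H ∧
      Set.range (orderOf : H → ℕ) = Set.range (orderOf : Matrix.ProjectiveSpecialLinearGroup (Fin 3) F → ℕ) := by
  refine ⟨HG D48, inferInstance, inferInstance, solvable_H48, ?_⟩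
  rw [spec_PSL3 hF]
  exact spec_H48

end Cfsg.Agent.S3437
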