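import Mathlib
import Cfsg.Statements.S3438
import Cfsg.Agent.Lib_helper2_Spec9

set_option autoImplicit false
open Cfsg

namespace Cfsg.Agent.S3438

open Cfsg.Agent.helper2

open Cfsg.Agent.helper2.Spec

theorem result {F : Type*} [Field F] [Fintype F] (hF : Fintype.card F = 9) :
    ∃ (H : Type) (_ : Group H) (_ : Fintype H), Group.IsSolvable H ∧ Set.range (orderOf : H → ℕ) = Set.range (orderOf : Cfsg.PSU 3 F 3 → ℕ) := by
  refine ⟨HG D24, inferInstance, inferInstance, solvable_H24, ?_⟩
  rw [spec_PSU3 hF]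
  exact spec_H24

end Cfsg.Agent.S3438
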