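import Cfsg.Statements.S3439
import Cfsg.Agent.Lib_helper25_Iso2
import Cfsg.Agent.Lib_helper25_Iso3

set_option autoImplicit false
open Cfsg

namespace Cfsg.Agent.S3439

open Cfsg.Agent.helper25.Iso

theorem gf_pow81 : ∀ x : GaloisField 3 4, x ^ 81 = x := by
  intro x
  let _ : Fintype (GaloisField 3 4) := Fintype.ofFinite _
  have hc : Fintype.card (GaloisField 3 4) = 81 := by
    have := GaloisField.card 3 4 (by norm_num)
    rw [Nat.card_eq_fintype_card] at this
    rw [this]; norm_num
  have := FiniteField.pow_card x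
  rwa [hc] at this

theorem gf_exists_zeta : ∃ l : ↥(rootsOfUnity 5 (GaloisField 3 4)), l ≠ 1 := by
  classical
  let _ : Fintype (GaloisField 3 4) := Fintype.ofFinite _
  have hc : Fintype.card (GaloisField 3 4) = 81 := by
    have := GaloisField.card 3 4 (by norm_num)
    rw [Nat.card_eq_fintype_card] at this
    rw [this]; norm_num
  have hu : Fintype.card (GaloisField 3 4)ˣ = 80 := by
    rw [Fintype.card_units, hc]
  have : Fact (Nat.Prime 5) := ⟨by norm_num⟩
  obtain ⟨u, hu5⟩ := exists_prime_orderOf_dvd_card (G := (GaloisField 3 4)ˣ) 5 (by rw [hu]; norm_num)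
  refine ⟨⟨u, (mem_rootsOfUnity 5 u).mpr (by rw [← hu5]; exact pow_orderOf_eq_one u)⟩, ?_⟩
  intro h
  have h1 : u = 1 := congrArg Subtype.val h
  rw [h1, orderOf_one] at hu5
  norm_num at hu5

/-- There is a finite solvable group with exactly the same set of element orders as the simple group PSp(4,3). -/
theorem result {F : Type*} [Field F] [Fintype F] (hF : Fintype.card F = 3) :
    ∃ (H : Type) (_ : Group H) (_ : Fintype H), Group.IsSolvable H ∧ Set.range (orderOf : H → ℕ) = Set.range (orderOf : Cfsg.PSp 2 F → ℕ) := by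
  classical
  obtain ⟨l, hl⟩ := gf_exists_zeta
  have := GG_finite gf_pow81
  refine ⟨GG (GaloisField 3 4) gf_pow81, inferInstance, Fintype.ofFinite _, GG_solvable gf_pow81, ?_⟩
  rw [spec_PSp43 hF]
  exact spec_eq_S (GG_pow gf_pow81) (exists_GG_order5 gf_pow81 l hl) (exists_GG_order9 gf_pow81 l hl)
    (exists_GG_order12 gf_pow81 l hl)

end Cfsg.Agent.S3439
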