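import Mathlib
import Cfsg.Statements.S3443

set_option autoImplicit false
open Cfsg

namespace Cfsg.Agent.S3443

open SemidirectProduct

variable {G : Type*} [Group G]

/-- the multiplication map `V ⋊ G → G`, `(v, g) ↦ v * g`. -/
def mulHom (V : Subgroup G) [V.Normal] : V ⋊[MulAut.conjNormal] G →* G :=
  SemidirectProduct.lift V.subtype (MonoidHom.id G) (by
    intro g
    ext v
    simp [MulAut.conjNormal_apply])

theorem arith {m n k p : ℕ} (hp : p.Prime) (hn : 0 < n) (h1 : m ∣ n * p) (h2 : n ∣ m) (h3 : ¬ m ∣ n) :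
    m = n * p := by
  obtain ⟨j, rfl⟩ := h2
  have hj : j ∣ p := (Nat.mul_dvd_mul_iff_left hn).mp h1
  rcases (Nat.dvd_prime hp).mp hj with rfl | rfl
  · exact absurd (by simp) h3
  · rfl

theorem main [Finite G] (V : Subgroup G) [V.Normal] (p : ℕ) (hp : p.Prime)
    (hexp : ∀ x : V, x ^ p = 1) (x : V ⋊[MulAut.conjNormal] G) :
    orderOf x = orderOf (rightHom x) ∨ orderOf x = orderOf (mulHom V x) := by
  classical
  set n := orderOf (rightHom x) with hn
  set k := orderOf (mulHom V x) with hk
  set m := orderOf x with hm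
  have hnpos : 0 < n := orderOf_pos _
  have hkpos : 0 < k := orderOf_pos _
  have hnm : n ∣ m := orderOf_map_dvd _ x
  have hkm : k ∣ m := orderOf_map_dvd _ x
  -- kernel of rightHom has exponent p
  have kerR : ∀ y : V ⋊[MulAut.conjNormal] G, rightHom y = 1 → y ^ p = 1 := by
    intro y hy
    have : y ∈ (rightHom : V ⋊[MulAut.conjNormal] G →* G).ker := hy
    rw [← range_inl_eq_ker_rightHom] at this
    obtain ⟨v, rfl⟩ := this
    rw [← map_pow, hexp, map_one]
  -- kernel of mulHom has exponent p
  have kerM : ∀ y : V ⋊[MulAut.conjNormal] G, mulHom V y = 1 → y ^ p = 1 := by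
    intro y hy
    have h1 : rightHom (y ^ p) = 1 := by
      have hy' : (y.left : G) * y.right = 1 := by
        simpa [mulHom, SemidirectProduct.lift] using hy
      have : y.right = ((y.left⁻¹ : V) : G) := by
        rw [Subgroup.coe_inv]; exact (eq_inv_of_mul_eq_one_right hy')
      rw [map_pow]
      show y.right ^ p = 1
      rw [this, ← Subgroup.coe_pow, hexp]; rfl
    have h2 : mulHom V (y ^ p) = 1 := by rw [map_pow, hy, one_pow]
    have : y ^ p ∈ (rightHom : V ⋊[MulAut.conjNormal] G →* G).ker := h1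
    rw [← range_inl_eq_ker_rightHom] at this
    obtain ⟨v, hv⟩ := this
    rw [← hv] at h2 ⊢
    have : (v : G) = 1 := by simpa [mulHom] using h2
    have : v = 1 := Subtype.ext this
    rw [this, map_one]
  by_cases hxn : x ^ n = 1
  · left
    exact Nat.dvd_antisymm (orderOf_dvd_of_pow_eq_one hxn) hnm
  · right
    have hmn : ¬ m ∣ n := fun h => hxn (orderOf_dvd_iff_pow_eq_one.mp h)
    have h1 : m ∣ n * p := by
      apply orderOf_dvd_of_pow_eq_one
      rw [pow_mul]
      apply kerR
      rw [map_pow, pow_orderOf_eq_one]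
    have hmnp : m = n * p := arith (k := k) hp hnpos h1 hnm hmn
    -- x^n = inl w, w ≠ 1, so (mulHom x)^n ≠ 1
    have hkn : ¬ k ∣ n := by
      intro h
      have h0 : (mulHom V x) ^ n = 1 := orderOf_dvd_iff_pow_eq_one.mp h
      have : x ^ n ∈ (rightHom : V ⋊[MulAut.conjNormal] G →* G).ker := by
        show rightHom (x ^ n) = 1
        rw [map_pow, pow_orderOf_eq_one]
      rw [← range_inl_eq_ker_rightHom] at this
      obtain ⟨w, hw⟩ := this
      rw [← map_pow, ← hw] at h0
      have : (w : G) = 1 := by simpa [mulHom] using h0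
      have : w = 1 := Subtype.ext this
      rw [this, map_one] at hw
      exact hxn hw.symm
    have h2 : m ∣ k * p := by
      apply orderOf_dvd_of_pow_eq_one
      rw [pow_mul]
      apply kerM
      rw [map_pow, pow_orderOf_eq_one]
    have hnk : n ∣ k := by
      rw [hmnp] at h2
      exact (Nat.mul_dvd_mul_iff_right hp.pos).mp h2
    have hknp : k ∣ n * p := hmnp ▸ hkm
    have := arith (k := k) hp hnpos hknp hnk hkn
    rw [hmnp, this]

theorem result {G : Type*} [Group G] [Finite G] (V : Subgroup G) [V.Normal] (p : ℕ) (hp : p.Prime)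
    (hcomm : ∀ x y : V, x * y = y * x) (hexp : ∀ x : V, x ^ p = 1) :
    Set.range (orderOf : V ⋊[MulAut.conjNormal] G → ℕ) = Set.range (orderOf : G → ℕ) := by
  ext n
  constructor
  · rintro ⟨x, rfl⟩
    rcases main V p hp hexp x with h | h
    · exact ⟨_, h.symm⟩
    · exact ⟨_, h.symm⟩
  · rintro ⟨g, rfl⟩
    exact ⟨inr g, orderOf_injective _ inr_injective g⟩

end Cfsg.Agent.S3443
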