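import Mathlib
import Cfsg.Statements.S3444
import Cfsg.Agent.S3443

set_option autoImplicit false
open Cfsg

namespace Cfsg.Agent.S3444

open SemidirectProduct

/-- a nontrivial solvable normal subgroup contains a nontrivial abelian subgroup normal in the whole group -/
theorem exists_abelian {H : Type*} [Group H] [Finite H] (K : Subgroup H) (hKn : K.Normal) (hK : K ≠ ⊥)
    (hs : Group.IsSolvable K) :
    ∃ A : Subgroup H, A.Normal ∧ A ≠ ⊥ ∧ ∀ a ∈ A, ∀ b ∈ A, a * b = b * a := by
  induction K using WellFoundedLT.induction with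
  | ind K ih =>
    by_cases hc : ⁅K, K⁆ = ⊥
    · refine ⟨K, hKn, hK, ?_⟩
      rw [Subgroup.commutator_eq_bot_iff_le_centralizer] at hc
      intro a ha b hb
      exact (hc ha b hb).symm
    · have hlt : ⁅K, K⁆ < K := by
        haveI : Nontrivial K := (Subgroup.nontrivial_iff_ne_bot K).mpr hK
        have h := Group.IsSolvable.commutator_lt_top_of_nontrivial K
        rw [commutator_def, ← Subgroup.map_subtype_lt_map_subtype, Subgroup.map_commutator] at h
        simpa [← MonoidHom.range_eq_map] using h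
      haveI := hKn
      have hn : (⁅K, K⁆).Normal := Subgroup.commutator_normal K K
      have hs' : Group.IsSolvable (⁅K, K⁆ : Subgroup H) :=
        Group.isSolvable_of_isSolvable_injective (Subgroup.inclusion_injective hlt.le)
      exact ih _ hlt hn hc hs'

/-- a nontrivial abelian normal subgroup contains a nontrivial elementary abelian normal subgroup -/
theorem exists_elemAb {H : Type*} [Group H] [Finite H] (A : Subgroup H) (hAn : A.Normal) (hA : A ≠ ⊥)
    (hcomm : ∀ a ∈ A, ∀ b ∈ A, a * b = b * a) :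
    ∃ (V : Subgroup H) (p : ℕ), V.Normal ∧ p.Prime ∧ V ≠ ⊥ ∧ (∀ x y : V, x * y = y * x) ∧
      (∀ x : V, x ^ p = 1) := by
  haveI : Nontrivial A := (Subgroup.nontrivial_iff_ne_bot A).mpr hA
  have hcard : Nat.card A ≠ 1 := by
    intro h
    have := (Nat.card_eq_one_iff_unique.mp h).1
    exact not_subsingleton A this
  obtain ⟨p, hp, hpd⟩ := Nat.exists_prime_and_dvd hcard
  haveI : Fact p.Prime := ⟨hp⟩
  obtain ⟨x, hx⟩ := exists_prime_orderOf_dvd_card' p hpd
  let V : Subgroup H :=
    { carrier := {a | a ∈ A ∧ a ^ p = 1}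
      mul_mem' := by
        rintro a b ⟨ha, ha'⟩ ⟨hb, hb'⟩
        refine ⟨A.mul_mem ha hb, ?_⟩
        have : Commute a b := hcomm a ha b hb
        rw [this.mul_pow, ha', hb', one_mul]
      one_mem' := ⟨A.one_mem, one_pow _⟩
      inv_mem' := by
        rintro a ⟨ha, ha'⟩
        exact ⟨A.inv_mem ha, by rw [inv_pow, ha', inv_one]⟩ }
  refine ⟨V, p, ?_, hp, ?_, ?_, ?_⟩
  · constructor
    rintro a ⟨ha, ha'⟩ g
    refine ⟨hAn.conj_mem a ha g, ?_⟩
    rw [conj_pow, ha', mul_one, mul_inv_cancel]
  · intro hV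
    have hxV : (x : H) ∈ V := by
      refine ⟨x.2, ?_⟩
      rw [← Subgroup.coe_pow, ← hx, pow_orderOf_eq_one]; rfl
    rw [hV, Subgroup.mem_bot] at hxV
    have : x = 1 := Subtype.ext hxV
    rw [this, orderOf_one] at hx
    exact hp.one_lt.ne hx
  · rintro ⟨a, ha, _⟩ ⟨b, hb, _⟩
    exact Subtype.ext (hcomm a ha b hb)
  · rintro ⟨a, ha, ha'⟩
    exact Subtype.ext ha'

/-- the property we iterate -/
def Good {G : Type*} [Group G] (n : ℕ) : Prop :=
  ∃ (H : Type) (_ : Group H) (_ : Finite H), n < Nat.card H ∧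
    Set.range (orderOf : H → ℕ) = Set.range (orderOf : G → ℕ) ∧
    ∃ K : Subgroup H, K.Normal ∧ K ≠ ⊥ ∧ Group.IsSolvable K

theorem good_zero {G : Type*} [Group G] [Finite G] (K : Subgroup G) [K.Normal] (hK : K ≠ ⊥)
    (hs : Group.IsSolvable K) : Good (G := G) 0 := by
  let f : Shrink.{0} G ≃* G := Shrink.mulEquiv
  refine ⟨Shrink.{0} G, inferInstance, inferInstance, ?_, ?_, ?_⟩
  · exact Nat.card_pos
  · ext n
    constructor
    · rintro ⟨x, rfl⟩
      exact ⟨f x, f.orderOf_eq x⟩
    · rintro ⟨x, rfl⟩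
      exact ⟨f.symm x, f.symm.orderOf_eq x⟩
  · refine ⟨K.comap f.toMonoidHom, inferInstance, ?_, ?_⟩
    · intro h
      apply hK
      rw [eq_bot_iff] at h ⊢
      intro x hx
      have : f.symm x ∈ K.comap f.toMonoidHom := by
        simpa using hx
      have := h this
      rw [Subgroup.mem_bot] at this ⊢
      simpa using this
    · have : Function.Injective ((f.toMonoidHom.subgroupComap K)) := by
        intro a b hab
        have : f (a : Shrink.{0} G) = f (b : Shrink.{0} G) := congrArg Subtype.val hab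
        exact Subtype.ext (f.injective this)
      exact Group.isSolvable_of_isSolvable_injective this

theorem good_succ {G : Type*} [Group G] (n : ℕ) (h : Good (G := G) n) : Good (G := G) (n + 1) := by
  obtain ⟨H, _, _, hn, hspec, K, hKn, hK, hs⟩ := h
  obtain ⟨A, hAn, hA, hAc⟩ := exists_abelian K hKn hK hs
  obtain ⟨V, p, hVn, hp, hV, hVc, hVe⟩ := exists_elemAb A hAn hA hAc
  haveI := hVn
  refine ⟨V ⋊[MulAut.conjNormal] H, inferInstance, ?_, ?_, ?_, ?_⟩
  · exact Finite.of_equiv _ (SemidirectProduct.equivProd (φ := (MulAut.conjNormal : H →* MulAut V))).symm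
  · rw [SemidirectProduct.card]
    have hV2 : 2 ≤ Nat.card V := by
      haveI : Nontrivial V := (Subgroup.nontrivial_iff_ne_bot V).mpr hV
      exact Finite.one_lt_card
    calc n + 1 ≤ Nat.card H := hn
      _ < 2 * Nat.card H := by have : 0 < Nat.card H := Nat.card_pos; omega
      _ ≤ Nat.card V * Nat.card H := Nat.mul_le_mul_right _ hV2
  · rw [← hspec]
    exact Cfsg.Agent.S3443.result V p hp hVc hVe
  · refine ⟨(inl : V →* V ⋊[MulAut.conjNormal] H).range, ?_, ?_, ?_⟩
    · rw [range_inl_eq_ker_rightHom]; infer_instance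
    · intro h
      apply hV
      rw [eq_bot_iff]
      intro v hv
      have : (inl ⟨v, hv⟩ : V ⋊[MulAut.conjNormal] H) ∈ (inl : V →* V ⋊[MulAut.conjNormal] H).range :=
        ⟨_, rfl⟩
      rw [h, Subgroup.mem_bot] at this
      have := inl_injective (this.trans (map_one _).symm)
      rw [Subgroup.mem_bot]
      exact congrArg Subtype.val this
    · apply Group.isSolvable_of_comm
      rintro ⟨_, a, rfl⟩ ⟨_, b, rfl⟩
      apply Subtype.ext
      show inl a * inl b = inl b * inl a
      rw [← map_mul, ← map_mul, hVc]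

theorem good_all {G : Type*} [Group G] [Finite G] (K : Subgroup G) [K.Normal] (hK : K ≠ ⊥)
    (hs : Group.IsSolvable K) (n : ℕ) : Good (G := G) n := by
  induction n with
  | zero => exact good_zero K hK hs
  | succ n ih => exact good_succ n ih

theorem result {G : Type*} [Group G] [Finite G] (K : Subgroup G) [K.Normal] (hK : K ≠ ⊥)
    (hs : Group.IsSolvable K) (N : ℕ) :
    ∃ (H : Type) (_ : Group H) (_ : Fintype H), N < Fintype.card H ∧ Set.range (orderOf : H → ℕ) = Set.range (orderOf : G → ℕ) := by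
  obtain ⟨H, hG, hF, hn, hspec, -⟩ := good_all K hK hs N
  haveI := hF
  letI : Fintype H := Fintype.ofFinite H
  refine ⟨H, hG, inferInstance, ?_, hspec⟩
  rw [← Nat.card_eq_fintype_card]
  exact hn

end Cfsg.Agent.S3444
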