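import Mathlib
import Cfsg.Statements.S3448

set_option autoImplicit false
open Cfsg

namespace Cfsg.Agent.S3448

set_option maxRecDepth 100000 in
theorem a5_pow (g : Equiv.Perm (Fin 5)) (hg : Equiv.Perm.sign g = 1) :
    g ^ 2 = 1 ∨ g ^ 3 = 1 ∨ g ^ 5 = 1 := by
  revert g
  decide

theorem a5_order (a : alternatingGroup (Fin 5)) :
    orderOf a = 1 ∨ orderOf a = 2 ∨ orderOf a = 3 ∨ orderOf a = 5 := by
  have h := a5_pow a.1 (Equiv.Perm.mem_alternatingGroup.mp a.2)
  have hk : ∀ k : ℕ, (a : Equiv.Perm (Fin 5)) ^ k = 1 → orderOf a ∣ k := by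
    intro k hk
    rw [← Subgroup.orderOf_coe]
    exact orderOf_dvd_of_pow_eq_one hk
  rcases h with h | h | h
  · have h2 := hk 2 h
    rcases (Nat.dvd_prime Nat.prime_two).mp h2 with h3 | h3 <;> simp [h3]
  · have h2 := hk 3 h
    rcases (Nat.dvd_prime Nat.prime_three).mp h2 with h3 | h3 <;> simp [h3]
  · have h2 := hk 5 h
    rcases (Nat.dvd_prime Nat.prime_five).mp h2 with h3 | h3 <;> simp [h3]

def e2 : alternatingGroup (Fin 5) :=
  ⟨Equiv.swap 0 1 * Equiv.swap 2 3, by rw [Equiv.Perm.mem_alternatingGroup]; decide⟩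
def e3 : alternatingGroup (Fin 5) :=
  ⟨Equiv.swap 0 1 * Equiv.swap 1 2, by rw [Equiv.Perm.mem_alternatingGroup]; decide⟩
def e5 : alternatingGroup (Fin 5) :=
  ⟨Equiv.swap 0 1 * Equiv.swap 1 2 * Equiv.swap 2 3 * Equiv.swap 3 4, by
    rw [Equiv.Perm.mem_alternatingGroup]; decide⟩

theorem o2 : orderOf e2 = 2 := by
  have : Fact (Nat.Prime 2) := ⟨Nat.prime_two⟩
  apply orderOf_eq_prime
  · apply Subtype.ext; simp only [e2]; decide
  · intro h; have := congrArg Subtype.val h; simp only [e2] at this; revert this; decide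

theorem o3 : orderOf e3 = 3 := by
  have : Fact (Nat.Prime 3) := ⟨Nat.prime_three⟩
  apply orderOf_eq_prime
  · apply Subtype.ext; simp only [e3]; decide
  · intro h; have := congrArg Subtype.val h; simp only [e3] at this; revert this; decide

theorem o5 : orderOf e5 = 5 := by
  have : Fact (Nat.Prime 5) := ⟨Nat.prime_five⟩
  apply orderOf_eq_prime
  · apply Subtype.ext; simp only [e5]; decide
  · intro h; have := congrArg Subtype.val h; simp only [e5] at this; revert this; decide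

theorem result : Set.range (orderOf : alternatingGroup (Fin 5) × alternatingGroup (Fin 5) → ℕ) = {1, 2, 3, 5, 6, 10, 15} := by
  ext n
  simp only [Set.mem_range, Set.mem_insert_iff, Set.mem_singleton_iff]
  constructor
  · rintro ⟨⟨a, b⟩, rfl⟩
    rw [Prod.orderOf]
    rcases a5_order a with h | h | h | h <;> rcases a5_order b with h' | h' | h' | h' <;>
      simp only [h, h'] <;> decide
  · rintro (rfl | rfl | rfl | rfl | rfl | rfl | rfl)
    · exact ⟨(1, 1), by rw [Prod.orderOf]; simp⟩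
    · exact ⟨(e2, 1), by rw [Prod.orderOf]; simp [o2]⟩
    · exact ⟨(e3, 1), by rw [Prod.orderOf]; simp [o3]⟩
    · exact ⟨(e5, 1), by rw [Prod.orderOf]; simp [o5]⟩
    · exact ⟨(e2, e3), by rw [Prod.orderOf]; rw [o2, o3]; rfl⟩
    · exact ⟨(e2, e5), by rw [Prod.orderOf]; rw [o2, o5]; rfl⟩
    · exact ⟨(e3, e5), by rw [Prod.orderOf]; rw [o3, o5]; rfl⟩

end Cfsg.Agent.S3448
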