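import Mathlib
import Cfsg.Statements.S3449
import Cfsg.Agent.S3448

set_option autoImplicit false
open Cfsg

namespace Cfsg.Agent.S3449

open Cfsg.Agent.S3448

theorem lhs : Set.range (orderOf : alternatingGroup (Fin 5) × alternatingGroup (Fin 5) × alternatingGroup (Fin 5) → ℕ) =
    {1, 2, 3, 5, 6, 10, 15, 30} := by
  ext n
  simp only [Set.mem_range, Set.mem_insert_iff, Set.mem_singleton_iff]
  constructor
  · rintro ⟨⟨a, b, c⟩, rfl⟩
    rw [Prod.orderOf, Prod.orderOf]
    rcases a5_order a with h | h | h | h <;> rcases a5_order b with h' | h' | h' | h' <;>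
      rcases a5_order c with h'' | h'' | h'' | h'' <;>
      simp only [h, h', h''] <;> decide
  · rintro (rfl | rfl | rfl | rfl | rfl | rfl | rfl | rfl)
    · exact ⟨(1, 1, 1), by rw [Prod.orderOf, Prod.orderOf]; simp⟩
    · exact ⟨(e2, 1, 1), by rw [Prod.orderOf, Prod.orderOf]; simp [o2]⟩
    · exact ⟨(e3, 1, 1), by rw [Prod.orderOf, Prod.orderOf]; simp [o3]⟩
    · exact ⟨(e5, 1, 1), by rw [Prod.orderOf, Prod.orderOf]; simp [o5]⟩
    · exact ⟨(e2, e3, 1), by rw [Prod.orderOf, Prod.orderOf]; simp only [o2, o3, orderOf_one]; rfl⟩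
    · exact ⟨(e2, e5, 1), by rw [Prod.orderOf, Prod.orderOf]; simp only [o2, o5, orderOf_one]; rfl⟩
    · exact ⟨(e3, e5, 1), by rw [Prod.orderOf, Prod.orderOf]; simp only [o3, o5, orderOf_one]; rfl⟩
    · exact ⟨(e2, e3, e5), by rw [Prod.orderOf, Prod.orderOf]; simp only [o2, o3, o5]; rfl⟩

theorem rhs : Set.range (orderOf : Multiplicative (ZMod 30) → ℕ) = {1, 2, 3, 5, 6, 10, 15, 30} := by
  ext n
  simp only [Set.mem_range, Set.mem_insert_iff, Set.mem_singleton_iff]
  constructor
  · rintro ⟨a, rfl⟩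
    have h : orderOf a ∣ 30 := by
      have := orderOf_dvd_natCard a
      simpa using this
    have h2 : orderOf a ∈ Nat.divisors 30 := by
      rw [Nat.mem_divisors]; exact ⟨h, by norm_num⟩
    have h3 : Nat.divisors 30 = {1, 2, 3, 5, 6, 10, 15, 30} := by decide
    rw [h3] at h2
    simpa using h2
  · have key : ∀ k : ℕ, orderOf (Multiplicative.ofAdd ((k : ℕ) : ZMod 30)) = 30 / Nat.gcd 30 k := by
      intro k
      rw [orderOf_ofAdd_eq_addOrderOf, ZMod.addOrderOf_coe k (by norm_num)]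
    rintro (rfl | rfl | rfl | rfl | rfl | rfl | rfl | rfl)
    · exact ⟨_, (key 30).trans (by decide)⟩
    · exact ⟨_, (key 15).trans (by decide)⟩
    · exact ⟨_, (key 10).trans (by decide)⟩
    · exact ⟨_, (key 6).trans (by decide)⟩
    · exact ⟨_, (key 5).trans (by decide)⟩
    · exact ⟨_, (key 3).trans (by decide)⟩
    · exact ⟨_, (key 2).trans (by decide)⟩
    · exact ⟨_, (key 1).trans (by decide)⟩

theorem result : Set.range (orderOf : alternatingGroup (Fin 5) × alternatingGroup (Fin 5) × alternatingGroup (Fin 5) → ℕ) =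
      Set.range (orderOf : Multiplicative (ZMod 30) → ℕ) := by
  rw [lhs, rhs]

end Cfsg.Agent.S3449
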