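import Mathlib
import Cfsg.Statements.S3488

set_option autoImplicit false
open Cfsg

namespace Cfsg.Agent.S3488

open Matrix Polynomial

section general
variable {F : Type*} [Field F]

theorem CH3 (a b c d x y : F) :
    (!![a,b,x;c,d,y;0,0,1] : Matrix (Fin 3) (Fin 3) F)^3 - (a+d+1) • (!![a,b,x;c,d,y;0,0,1] : Matrix (Fin 3) (Fin 3) F)^2
      + ((a*d - b*c) + a + d) • (!![a,b,x;c,d,y;0,0,1] : Matrix (Fin 3) (Fin 3) F) - (a*d - b*c) • (1 : Matrix (Fin 3) (Fin 3) F) = 0 := by
  ext i j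
  fin_cases i <;> fin_cases j <;>
    simp [pow_succ] <;> ring

theorem pow_of_CH (N : Matrix (Fin 3) (Fin 3) F) (t : F) (h2 : (2:F) = 0)
    (hq : N^3 - (t+1) • N^2 + (1 + t) • N - (1:F) • (1 : Matrix (Fin 3) (Fin 3) F) = 0) :
    (t = 0 → N^4 = 1) ∧ (t = 1 → N^3 = 1) ∧ (t^2+t+1 = 0 → N^5 = 1) := by
  set q : F[X] := X^3 - (C t + 1) * X^2 + (1 + C t) * X - 1 with hqdef
  have hqa : aeval N q = 0 := by
    rw [← hq]
    simp [q, Algebra.algebraMap_eq_smul_one, add_smul, add_mul]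
  have h2' : (2 : F[X]) = 0 := by
    have := congrArg (C : F → F[X]) h2
    rw [map_zero] at this
    rw [← this]
    exact (map_ofNat C 2).symm
  refine ⟨?_, ?_, ?_⟩
  · rintro rfl
    have h : (X + 1) * q = X^4 - 1 := by
      simp only [q, map_zero]; ring
    have := congrArg (aeval N) h
    rw [map_mul, hqa, mul_zero] at this
    simp at this
    exact (sub_eq_zero.mp this.symm)
  · rintro rfl
    have h : q = X^3 - 1 := by
      simp only [q, map_one]
      linear_combination (-X^2 + X) * h2'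
    have := congrArg (aeval N) h
    rw [hqa] at this
    simp at this
    exact (sub_eq_zero.mp this.symm)
  · intro ht
    have ht' : (C t)^2 + C t + 1 = (0 : F[X]) := by
      have := congrArg (C : F → F[X]) ht
      simpa using this
    have h : q * (X^2 - (C t + 1) * X + 1) = X^5 - 1 := by
      simp only [q]
      linear_combination (X^3 - X^2) * ht' + (-(C t + 1)*X^4 + (C t + 1)*X + (C t+1)*(X^3 - X^2)) * h2'
    have := congrArg (aeval N) h
    rw [map_mul, hqa, zero_mul] at this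
    simp at this
    exact (sub_eq_zero.mp this.symm)

/-- the defining property of the affine subgroup -/
def P (M : Matrix.SpecialLinearGroup (Fin 3) F) : Prop :=
  (M : Matrix (Fin 3) (Fin 3) F) 2 0 = 0 ∧ (M : Matrix (Fin 3) (Fin 3) F) 2 1 = 0 ∧
    (M : Matrix (Fin 3) (Fin 3) F) 2 2 = 1

theorem P_iff (M : Matrix.SpecialLinearGroup (Fin 3) F) :
    P M ↔ Matrix.vecMul ![0, 0, 1] (M : Matrix (Fin 3) (Fin 3) F) = ![0, 0, 1] := by
  constructor
  · rintro ⟨h0, h1, h2⟩
    funext j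
    fin_cases j <;> simp [Matrix.vecMul, dotProduct, Fin.sum_univ_three, h0, h1, h2]
  · intro h
    refine ⟨?_, ?_, ?_⟩
    · have := congrFun h 0
      simpa [Matrix.vecMul, dotProduct, Fin.sum_univ_three] using this
    · have := congrFun h 1
      simpa [Matrix.vecMul, dotProduct, Fin.sum_univ_three] using this
    · have := congrFun h 2
      simpa [Matrix.vecMul, dotProduct, Fin.sum_univ_three] using this

theorem P_closure (g : Matrix.SpecialLinearGroup (Fin 3) F)
    (hg : g ∈ Subgroup.closure {M : Matrix.SpecialLinearGroup (Fin 3) F | P M}) : P g := by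
  induction hg using Subgroup.closure_induction with
  | mem x hx => exact hx
  | one => exact ⟨by simp, by simp, by simp⟩
  | mul x y _ _ hx hy =>
    rw [P_iff] at hx hy ⊢
    rw [Matrix.SpecialLinearGroup.coe_mul, ← Matrix.vecMul_vecMul, hx, hy]
  | inv x _ hx =>
    rw [P_iff] at hx ⊢
    have h1 : (x : Matrix (Fin 3) (Fin 3) F) * ((x⁻¹ : Matrix.SpecialLinearGroup (Fin 3) F) : Matrix (Fin 3) (Fin 3) F) = 1 := by
      rw [← Matrix.SpecialLinearGroup.coe_mul, mul_inv_cancel]; rfl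
    calc Matrix.vecMul ![0, 0, 1] ((x⁻¹ : Matrix.SpecialLinearGroup (Fin 3) F) : Matrix (Fin 3) (Fin 3) F)
        = Matrix.vecMul (Matrix.vecMul ![0, 0, 1] (x : Matrix (Fin 3) (Fin 3) F)) ((x⁻¹ : Matrix.SpecialLinearGroup (Fin 3) F) : Matrix (Fin 3) (Fin 3) F) := by rw [hx]
      _ = ![0, 0, 1] := by rw [Matrix.vecMul_vecMul, h1, Matrix.vecMul_one]

end general

section four
variable {F : Type*} [Field F] [Fintype F]

theorem two_eq_zero (hF : Fintype.card F = 4) : (2 : F) = 0 := by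
  have h4 : ((Fintype.card F : ℕ) : F) = 0 := Nat.cast_card_eq_zero F
  rw [hF] at h4
  have : (2 : F) * 2 = 0 := by
    rw [← h4]; norm_num
  exact mul_self_eq_zero.mp this

theorem tcases (hF : Fintype.card F = 4) (t : F) : t = 0 ∨ t = 1 ∨ t^2 + t + 1 = 0 := by
  have h := FiniteField.pow_card t
  rw [hF] at h
  have h2 := two_eq_zero hF
  have : t * ((t - 1) * (t^2 + t + 1)) = 0 := by
    linear_combination h
  rcases mul_eq_zero.mp this with h | h
  · left; exact h
  · rcases mul_eq_zero.mp h with h | h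
    · right; left; exact sub_eq_zero.mp h
    · right; right; exact h

theorem main' (hF : Fintype.card F = 4) (M : Matrix.SpecialLinearGroup (Fin 3) F) (hM : P M)
    (t : F) (htr : t = (M : Matrix (Fin 3) (Fin 3) F) 0 0 + (M : Matrix (Fin 3) (Fin 3) F) 1 1) :
    (t = 0 → M ^ 4 = 1) ∧ (t = 1 → M ^ 3 = 1) ∧ (t^2 + t + 1 = 0 → M ^ 5 = 1) := by
  obtain ⟨h0, h1, h2⟩ := hM
  have h2z := two_eq_zero hF
  set a := (M : Matrix (Fin 3) (Fin 3) F) 0 0 with ha
  set b := (M : Matrix (Fin 3) (Fin 3) F) 0 1 with hb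
  set x := (M : Matrix (Fin 3) (Fin 3) F) 0 2 with hx
  set c := (M : Matrix (Fin 3) (Fin 3) F) 1 0 with hc
  set d := (M : Matrix (Fin 3) (Fin 3) F) 1 1 with hd
  set y := (M : Matrix (Fin 3) (Fin 3) F) 1 2 with hy
  have hform : (M : Matrix (Fin 3) (Fin 3) F) = !![a,b,x;c,d,y;0,0,1] := by
    ext i j
    fin_cases i <;> fin_cases j <;> simp [ha, hb, hx, hc, hd, hy, h0, h1, h2]
  have hdet : a * d - b * c = 1 := by
    have := M.2
    rw [hform, Matrix.det_fin_three] at this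
    simp at this
    linear_combination this
  have hCH := CH3 a b c d x y
  rw [← hform, hdet] at hCH
  have hq : (M : Matrix (Fin 3) (Fin 3) F)^3 - (t+1) • (M : Matrix (Fin 3) (Fin 3) F)^2 + (1 + t) • (M : Matrix (Fin 3) (Fin 3) F) - (1:F) • (1 : Matrix (Fin 3) (Fin 3) F) = 0 := by
    rw [← hCH, htr]
    congr 3
    rw [add_assoc]
  obtain ⟨k0, k1, k2⟩ := pow_of_CH (M : Matrix (Fin 3) (Fin 3) F) t h2z hq
  refine ⟨fun h => ?_, fun h => ?_, fun h => ?_⟩
  · apply Subtype.ext; rw [Matrix.SpecialLinearGroup.coe_pow, k0 h]; rfl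
  · apply Subtype.ext; rw [Matrix.SpecialLinearGroup.coe_pow, k1 h]; rfl
  · apply Subtype.ext; rw [Matrix.SpecialLinearGroup.coe_pow, k2 h]; rfl

theorem main (hF : Fintype.card F = 4) (M : Matrix.SpecialLinearGroup (Fin 3) F) (hM : P M) :
    M ^ 4 = 1 ∨ M ^ 3 = 1 ∨ M ^ 5 = 1 := by
  obtain ⟨k0, k1, k2⟩ := main' hF M hM _ rfl
  rcases tcases hF ((M : Matrix (Fin 3) (Fin 3) F) 0 0 + (M : Matrix (Fin 3) (Fin 3) F) 1 1) with h | h | h
  · exact Or.inl (k0 h)
  · exact Or.inr (Or.inl (k1 h))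
  · exact Or.inr (Or.inr (k2 h))

theorem order_mem (hF : Fintype.card F = 4) (M : Matrix.SpecialLinearGroup (Fin 3) F) (hM : P M) :
    orderOf M ∈ ({1, 2, 3, 4, 5} : Set ℕ) := by
  rcases main hF M hM with h | h | h
  · have h1 := orderOf_dvd_of_pow_eq_one h
    have h2 : orderOf M ∈ Nat.divisors 4 := by
      rw [Nat.mem_divisors]; exact ⟨h1, by norm_num⟩
    have h3 : Nat.divisors 4 = {1, 2, 4} := by decide
    rw [h3] at h2
    simp only [Finset.mem_insert, Finset.mem_singleton] at h2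
    rcases h2 with h2 | h2 | h2 <;> simp [h2]
  · have h1 := orderOf_dvd_of_pow_eq_one h
    rcases (Nat.dvd_prime Nat.prime_three).mp h1 with h2 | h2 <;> simp [h2]
  · have h1 := orderOf_dvd_of_pow_eq_one h
    rcases (Nat.dvd_prime Nat.prime_five).mp h1 with h2 | h2 <;> simp [h2]

/-- explicit elements -/
def U (a b x c d y : F) (h : a * d - b * c = 1) : Matrix.SpecialLinearGroup (Fin 3) F :=
  ⟨!![a,b,x;c,d,y;0,0,1], by rw [Matrix.det_fin_three]; simp; linear_combination h⟩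

theorem U_P (a b x c d y : F) (h : a * d - b * c = 1) : P (U a b x c d y h) := by
  refine ⟨?_, ?_, ?_⟩ <;> simp [U]

theorem exists_omega (hF : Fintype.card F = 4) : ∃ w : F, w ^ 2 + w + 1 = 0 := by
  have h3 : 2 < Fintype.card F := by omega
  obtain ⟨a, b, c, hab, hac, hbc⟩ := Fintype.two_lt_card_iff.mp h3
  rcases tcases hF a with ha | ha | ha
  · rcases tcases hF b with hb | hb | hb
    · exact absurd (ha.trans hb.symm) hab
    · rcases tcases hF c with hc | hc | hc
      · exact absurd (ha.trans hc.symm) hac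
      · exact absurd (hb.trans hc.symm) hbc
      · exact ⟨c, hc⟩
    · exact ⟨b, hb⟩
  · rcases tcases hF b with hb | hb | hb
    · rcases tcases hF c with hc | hc | hc
      · exact absurd (hb.trans hc.symm) hbc
      · exact absurd (ha.trans hc.symm) hac
      · exact ⟨c, hc⟩
    · exact absurd (ha.trans hb.symm) hab
    · exact ⟨b, hb⟩
  · exact ⟨a, ha⟩

theorem ne_one_of_entry (M : Matrix.SpecialLinearGroup (Fin 3) F) (i j : Fin 3) (hij : i ≠ j)
    (h : (M : Matrix (Fin 3) (Fin 3) F) i j ≠ 0) : M ≠ 1 := by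
  intro h1
  apply h
  rw [h1]
  simp [hij]

theorem exists_orders (hF : Fintype.card F = 4) (n : ℕ) (hn : n ∈ ({1, 2, 3, 4, 5} : Set ℕ)) :
    ∃ M : Matrix.SpecialLinearGroup (Fin 3) F, P M ∧ orderOf M = n := by
  have h2z := two_eq_zero hF
  have h11 : (1 : F) + 1 = 0 := by rw [one_add_one_eq_two]; exact h2z
  have hm1 : (0 : F) * 1 - 1 * 1 = 1 := by linear_combination (-1 : F) * h11
  simp only [Set.mem_insert_iff, Set.mem_singleton_iff] at hn
  rcases hn with rfl | rfl | rfl | rfl | rfl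
  · exact ⟨1, ⟨by simp, by simp, by simp⟩, orderOf_one⟩
  · -- order 2
    have hd : (1 : F) * 1 - 1 * 0 = 1 := by ring
    refine ⟨U 1 1 0 0 1 0 hd, U_P _ _ _ _ _ _ _, ?_⟩
    have hne : U (1:F) 1 0 0 1 0 hd ≠ 1 := ne_one_of_entry _ 0 1 (by decide) (by simp [U])
    have h4 : U (1:F) 1 0 0 1 0 hd ^ 2 = 1 := by
      apply Subtype.ext
      rw [Matrix.SpecialLinearGroup.coe_pow]
      ext i j
      fin_cases i <;> fin_cases j <;> simp [U, pow_succ, h11]
    have : Fact (Nat.Prime 2) := ⟨Nat.prime_two⟩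
    exact orderOf_eq_prime h4 hne
  · -- order 3
    refine ⟨U 0 1 0 1 1 0 hm1, U_P _ _ _ _ _ _ _, ?_⟩
    have hP := U_P (0:F) 1 0 1 1 0 hm1
    have hne : U (0:F) 1 0 1 1 0 hm1 ≠ 1 :=
      ne_one_of_entry _ 0 1 (by decide) (by simp [U])
    have h3 : U (0:F) 1 0 1 1 0 hm1 ^ 3 = 1 :=
      (main' hF _ hP 1 (by simp [U])).2.1 rfl
    have : Fact (Nat.Prime 3) := ⟨Nat.prime_three⟩
    exact orderOf_eq_prime h3 hne
  · -- order 4
    have hd : (1 : F) * 1 - 1 * 0 = 1 := by ring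
    refine ⟨U 1 1 0 0 1 1 hd, U_P _ _ _ _ _ _ _, ?_⟩
    have hP := U_P (1:F) 1 0 0 1 1 hd
    have h4 : U (1:F) 1 0 0 1 1 hd ^ 2 ^ (1 + 1) = 1 :=
      (main' hF _ hP 0 (by simp [U, h11])).1 rfl
    have h2 : ¬ U (1:F) 1 0 0 1 1 hd ^ 2 ^ 1 = 1 := by
      intro h
      have := congrArg (fun M : Matrix.SpecialLinearGroup (Fin 3) F => (M : Matrix (Fin 3) (Fin 3) F) 0 2) h
      simp only [pow_one, Matrix.SpecialLinearGroup.coe_pow, Matrix.SpecialLinearGroup.coe_one] at this
      simp [U, pow_succ, Matrix.mul_apply, Fin.sum_univ_three] at this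
    have : Fact (Nat.Prime 2) := ⟨Nat.prime_two⟩
    exact orderOf_eq_prime_pow h2 h4
  · -- order 5
    obtain ⟨w, hw⟩ := exists_omega hF
    have hd : (0 : F) * w - 1 * 1 = 1 := by linear_combination (-1 : F) * h11
    refine ⟨U 0 1 0 1 w 0 hd, U_P _ _ _ _ _ _ _, ?_⟩
    have hP := U_P (0:F) 1 0 1 w 0 hd
    have hne : U (0:F) 1 0 1 w 0 hd ≠ 1 :=
      ne_one_of_entry _ 0 1 (by decide) (by simp [U])
    have h5 : U (0:F) 1 0 1 w 0 hd ^ 5 = 1 :=
      (main' hF _ hP w (by simp [U])).2.2 hw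
    have : Fact (Nat.Prime 5) := ⟨Nat.prime_five⟩
    exact orderOf_eq_prime h5 hne

end four

section alt

set_option maxRecDepth 1000000 in
theorem a6_pow (g : Equiv.Perm (Fin 6)) (hg : Equiv.Perm.sign g = 1) :
    g ^ 4 = 1 ∨ g ^ 3 = 1 ∨ g ^ 5 = 1 := by
  revert g
  decide

theorem a6_order (a : alternatingGroup (Fin 6)) : orderOf a ∈ ({1, 2, 3, 4, 5} : Set ℕ) := by
  have h := a6_pow a.1 (Equiv.Perm.mem_alternatingGroup.mp a.2)
  have hk : ∀ k : ℕ, (a : Equiv.Perm (Fin 6)) ^ k = 1 → orderOf a ∣ k := by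
    intro k hk
    rw [← Subgroup.orderOf_coe]
    exact orderOf_dvd_of_pow_eq_one hk
  rcases h with h | h | h
  · have h1 := hk 4 h
    have h2 : orderOf a ∈ Nat.divisors 4 := by
      rw [Nat.mem_divisors]; exact ⟨h1, by norm_num⟩
    have h3 : Nat.divisors 4 = {1, 2, 4} := by decide
    rw [h3] at h2
    simp only [Finset.mem_insert, Finset.mem_singleton] at h2
    rcases h2 with h2 | h2 | h2 <;> simp [h2]
  · have h1 := hk 3 h
    rcases (Nat.dvd_prime Nat.prime_three).mp h1 with h2 | h2 <;> simp [h2]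
  · have h1 := hk 5 h
    rcases (Nat.dvd_prime Nat.prime_five).mp h1 with h2 | h2 <;> simp [h2]

def e2 : alternatingGroup (Fin 6) :=
  ⟨Equiv.swap 0 1 * Equiv.swap 2 3, by rw [Equiv.Perm.mem_alternatingGroup]; decide⟩
def e3 : alternatingGroup (Fin 6) :=
  ⟨Equiv.swap 0 1 * Equiv.swap 1 2, by rw [Equiv.Perm.mem_alternatingGroup]; decide⟩
def e4 : alternatingGroup (Fin 6) :=
  ⟨Equiv.swap 0 1 * Equiv.swap 1 2 * Equiv.swap 2 3 * Equiv.swap 4 5, by
    rw [Equiv.Perm.mem_alternatingGroup]; decide⟩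
def e5 : alternatingGroup (Fin 6) :=
  ⟨Equiv.swap 0 1 * Equiv.swap 1 2 * Equiv.swap 2 3 * Equiv.swap 3 4, by
    rw [Equiv.Perm.mem_alternatingGroup]; decide⟩

theorem o2 : orderOf e2 = 2 := by
  have : Fact (Nat.Prime 2) := ⟨Nat.prime_two⟩
  apply orderOf_eq_prime
  · apply Subtype.ext; simp only [e2]; decide
  · intro h; have := congrArg Subtype.val h; simp only [e2] at this; revert this; decide

theorem o3 : orderOf e3 = 3 := by
  have : Fact (Nat.Prime 3) := ⟨Nat.prime_three⟩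
  apply orderOf_eq_prime
  · apply Subtype.ext; simp only [e3]; decide
  · intro h; have := congrArg Subtype.val h; simp only [e3] at this; revert this; decide

theorem o4 : orderOf e4 = 4 := by
  have : Fact (Nat.Prime 2) := ⟨Nat.prime_two⟩
  have h := orderOf_eq_prime_pow (x := e4) (p := 2) (n := 1)
  apply h
  · intro h; have := congrArg Subtype.val h; simp only [e4] at this; revert this; decide
  · apply Subtype.ext; simp only [e4]; decide

theorem o5 : orderOf e5 = 5 := by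
  have : Fact (Nat.Prime 5) := ⟨Nat.prime_five⟩
  apply orderOf_eq_prime
  · apply Subtype.ext; simp only [e5]; decide
  · intro h; have := congrArg Subtype.val h; simp only [e5] at this; revert this; decide

theorem a6_spec : Set.range (orderOf : alternatingGroup (Fin 6) → ℕ) = {1, 2, 3, 4, 5} := by
  ext n
  constructor
  · rintro ⟨a, rfl⟩
    exact a6_order a
  · intro hn
    simp only [Set.mem_insert_iff, Set.mem_singleton_iff] at hn
    rcases hn with rfl | rfl | rfl | rfl | rfl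
    · exact ⟨1, orderOf_one⟩
    · exact ⟨e2, o2⟩
    · exact ⟨e3, o3⟩
    · exact ⟨e4, o4⟩
    · exact ⟨e5, o5⟩

end alt

theorem affine_spec {F : Type*} [Field F] [Fintype F] (hF : Fintype.card F = 4) :
    Set.range (orderOf : Subgroup.closure {M : Matrix.SpecialLinearGroup (Fin 3) F |
        (M : Matrix (Fin 3) (Fin 3) F) 2 0 = 0 ∧ (M : Matrix (Fin 3) (Fin 3) F) 2 1 = 0 ∧ (M : Matrix (Fin 3) (Fin 3) F) 2 2 = 1} → ℕ) =
      {1, 2, 3, 4, 5} := by
  ext n
  constructor
  · rintro ⟨g, rfl⟩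
    rw [← Subgroup.orderOf_coe]
    exact order_mem hF g.1 (P_closure g.1 g.2)
  · intro hn
    obtain ⟨M, hM, hMo⟩ := exists_orders hF n hn
    exact ⟨⟨M, Subgroup.subset_closure hM⟩, by rw [← Subgroup.orderOf_coe]; exact hMo⟩

theorem result {F : Type*} [Field F] [Fintype F] (hF : Fintype.card F = 4) :
    Set.range (orderOf : Subgroup.closure {M : Matrix.SpecialLinearGroup (Fin 3) F |
        (M : Matrix (Fin 3) (Fin 3) F) 2 0 = 0 ∧ (M : Matrix (Fin 3) (Fin 3) F) 2 1 = 0 ∧ (M : Matrix (Fin 3) (Fin 3) F) 2 2 = 1} → ℕ) =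
      Set.range (orderOf : alternatingGroup (Fin 6) → ℕ) := by
  rw [affine_spec hF, a6_spec]

end Cfsg.Agent.S3488
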