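import Mathlib
import Cfsg.Statements.S3491
import Cfsg.Agent.S3444
import Cfsg.Agent.S3488

set_option autoImplicit false
open Cfsg

namespace Cfsg.Agent.S3491

open Matrix Cfsg.Agent.S3488

section
variable {F : Type*} [Field F]

/-- the affine group as a subgroup of `SL(3, F)` -/
abbrev Aff (F : Type*) [Field F] : Subgroup (Matrix.SpecialLinearGroup (Fin 3) F) :=
  Subgroup.closure {M : Matrix.SpecialLinearGroup (Fin 3) F |
        (M : Matrix (Fin 3) (Fin 3) F) 2 0 = 0 ∧ (M : Matrix (Fin 3) (Fin 3) F) 2 1 = 0 ∧ (M : Matrix (Fin 3) (Fin 3) F) 2 2 = 1}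

theorem aff_P (g : Aff F) : P g.1 := P_closure g.1 g.2

/-- the linear part -/
def lin : Aff F →* Matrix (Fin 2) (Fin 2) F where
  toFun g := ((g.1 : Matrix.SpecialLinearGroup (Fin 3) F) : Matrix (Fin 3) (Fin 3) F).submatrix Fin.castSucc Fin.castSucc
  map_one' := by
    show (1 : Matrix (Fin 3) (Fin 3) F).submatrix Fin.castSucc Fin.castSucc = 1
    exact Matrix.submatrix_one _ (Fin.castSucc_injective 2)
  map_mul' g h := by
    obtain ⟨h0, h1, _⟩ := aff_P h
    ext i j
    simp only [Matrix.submatrix_apply, Subgroup.coe_mul, Matrix.SpecialLinearGroup.coe_mul,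
      Matrix.mul_apply, Fin.sum_univ_castSucc]
    have : ((h.1 : Matrix.SpecialLinearGroup (Fin 3) F) : Matrix (Fin 3) (Fin 3) F) (Fin.last 2) j.castSucc = 0 := by
      fin_cases j
      · exact h0
      · exact h1
    rw [this, mul_zero, add_zero]

theorem ker_form (g : Aff F) (hg : g ∈ (lin (F := F)).ker) :
    ((g.1 : Matrix.SpecialLinearGroup (Fin 3) F) : Matrix (Fin 3) (Fin 3) F) =
      !![1, 0, (g.1 : Matrix (Fin 3) (Fin 3) F) 0 2; 0, 1, (g.1 : Matrix (Fin 3) (Fin 3) F) 1 2; 0, 0, 1] := by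
  obtain ⟨h0, h1, h2⟩ := aff_P g
  have hk : lin g = 1 := hg
  have e := fun i j => congrFun (congrFun hk i) j
  have e00 := e 0 0
  have e01 := e 0 1
  have e10 := e 1 0
  have e11 := e 1 1
  simp only [lin, MonoidHom.coe_mk, OneHom.coe_mk, Matrix.submatrix_apply] at e00 e01 e10 e11
  ext i j
  fin_cases i <;> fin_cases j <;> simp
  · exact e00
  · simpa using e01
  · simpa using e10
  · exact e11
  · exact h0
  · exact h1
  · exact h2

theorem ker_comm (g h : Aff F) (hg : g ∈ (lin (F := F)).ker) (hh : h ∈ (lin (F := F)).ker) :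
    g * h = h * g := by
  apply Subtype.ext
  apply Subtype.ext
  rw [Subgroup.coe_mul, Subgroup.coe_mul, Matrix.SpecialLinearGroup.coe_mul, Matrix.SpecialLinearGroup.coe_mul,
    ker_form g hg, ker_form h hh]
  ext i j
  fin_cases i <;> fin_cases j <;> simp [Matrix.mul_apply, Fin.sum_univ_three, add_comm]

end

theorem result (N : ℕ) : ∃ (H : Type) (_ : Group H) (_ : Fintype H), N < Fintype.card H ∧ Set.range (orderOf : H → ℕ) = Set.range (orderOf : alternatingGroup (Fin 6) → ℕ) := by
  classical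
  letI : Fintype (GaloisField 2 2) := Fintype.ofFinite _
  have hF : Fintype.card (GaloisField 2 2) = 4 := by
    rw [← Nat.card_eq_fintype_card, GaloisField.card 2 2 (by norm_num)]; norm_num
  have hspec := Cfsg.Agent.S3488.result hF
  have hd : (1 : GaloisField 2 2) * 1 - 0 * 0 = 1 := by ring
  let u : Aff (GaloisField 2 2) := ⟨U 1 0 1 0 1 0 hd, Subgroup.subset_closure (U_P _ _ _ _ _ _ _)⟩
  have hu : u ∈ (lin (F := GaloisField 2 2)).ker := by
    show lin u = 1
    ext i j
    fin_cases i <;> fin_cases j <;> simp [lin, u, U]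
  have hu1 : u ≠ 1 := by
    intro h
    have := congrArg (fun g : Aff (GaloisField 2 2) => ((g.1 : Matrix.SpecialLinearGroup (Fin 3) (GaloisField 2 2)) : Matrix (Fin 3) (Fin 3) (GaloisField 2 2)) 0 2) h
    simp [u, U] at this
  have hK : (lin (F := GaloisField 2 2)).ker ≠ ⊥ := by
    intro h
    rw [h, Subgroup.mem_bot] at hu
    exact hu1 hu
  have hs : Group.IsSolvable (lin (F := GaloisField 2 2)).ker := by
    apply Group.isSolvable_of_comm
    rintro ⟨a, ha⟩ ⟨b, hb⟩
    apply Subtype.ext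
    exact ker_comm a b ha hb
  obtain ⟨H, hG, hFt, hN, hH⟩ := Cfsg.Agent.S3444.result (lin (F := GaloisField 2 2)).ker hK hs N
  exact ⟨H, hG, hFt, hN, hH.trans hspec⟩

end Cfsg.Agent.S3491
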