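import Mathlib
import Cfsg.Statements.S3494

set_option autoImplicit false
open Cfsg MulAction
open scoped Pointwise

namespace Cfsg.Agent.S3494

variable {G : Type*} [Group G] {Ω : Type*} [MulAction G Ω]

/-- pointwise fixer of `S` inside the stabilizer of `a` -/
def fixer (a : Ω) (S : Set Ω) : Subgroup G where
  carrier := {g | g • a = a ∧ ∀ x ∈ S, g • x = x}
  one_mem' := ⟨one_smul _ _, fun x _ => one_smul _ _⟩
  mul_mem' := by
    rintro g h ⟨hg1, hg2⟩ ⟨hh1, hh2⟩
    exact ⟨by rw [mul_smul, hh1, hg1], fun x hx => by rw [mul_smul, hh2 x hx, hg2 x hx]⟩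
  inv_mem' := by
    rintro g ⟨hg1, hg2⟩
    exact ⟨by rw [inv_smul_eq_iff, hg1], fun x hx => by rw [inv_smul_eq_iff, hg2 x hx]⟩

theorem mem_fixer {a : Ω} {S : Set Ω} {g : G} :
    g ∈ (fixer a S : Subgroup G) ↔ g • a = a ∧ ∀ x ∈ S, g • x = x := Iff.rfl

theorem fixer_le (a : Ω) (S : Set Ω) : (fixer a S : Subgroup G) ≤ stabilizer G a :=
  fun _ hg => hg.1

theorem le_normalizer_fixer (a : Ω) (S : Set Ω)
    (hS : ∀ h ∈ stabilizer G a, ∀ x ∈ S, h • x ∈ S) :
    stabilizer G a ≤ Subgroup.normalizer ((fixer a S : Subgroup G) : Set G) := by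
  intro h hh
  rw [Subgroup.mem_normalizer_iff]
  intro g
  have hh' : h • a = a := hh
  have hhi : h⁻¹ • a = a := by rw [inv_smul_eq_iff, hh']
  constructor
  · rintro ⟨hg1, hg2⟩
    refine ⟨by rw [mul_smul, mul_smul, hhi, hg1, hh'], fun x hx => ?_⟩
    have : h⁻¹ • x ∈ S := hS _ (Subgroup.inv_mem _ hh) x hx
    rw [mul_smul, mul_smul, hg2 _ this, smul_inv_smul]
  · rintro ⟨hg1, hg2⟩
    refine ⟨?_, fun x hx => ?_⟩
    · rw [mul_smul, mul_smul, hhi] at hg1
      have : g • a = h⁻¹ • a := by rw [eq_inv_smul_iff]; exact hg1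
      rw [this, hhi]
    · have h1 := hg2 (h • x) (hS h hh x hx)
      rw [mul_smul, mul_smul, inv_smul_smul] at h1
      exact smul_left_cancel h h1

/-- invariance of an orbit of a stabilizer under that stabilizer -/
theorem smul_mem_orbit_stab_iff (c : Ω) (g : G) (hg : g ∈ stabilizer G c) (s x : Ω) :
    g • x ∈ orbit (stabilizer G c) s ↔ x ∈ orbit (stabilizer G c) s := by
  have e : g • x = (⟨g, hg⟩ : stabilizer G c) • x := rfl
  rw [e, ← orbit_eq_iff, ← orbit_eq_iff (a := x), orbit_smul]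

/-- a subgroup of a point stabilizer, normal in it, which moves `s`, is transitive on the orbit
of `s` under the point stabilizer -/
theorem exists_smul_of_moves
    (hep : ∀ (α ω : Ω), IsPreprimitive (stabilizer G α) (orbit (stabilizer G α) ω))
    (a : Ω) (T : Subgroup G) (hTa : T ≤ stabilizer G a)
    (hTn : stabilizer G a ≤ Subgroup.normalizer (T : Set G)) (s : Ω) (hs : ∃ t ∈ T, t • s ≠ s)
    (x : Ω) (hx : x ∈ orbit (stabilizer G a) s) : ∃ t ∈ T, t • s = x := by
  have hN : (T.subgroupOf (stabilizer G a)).Normal :=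
    (Subgroup.normal_subgroupOf_iff_le_normalizer hTa).mpr hTn
  have hp := hep a s
  have hne : fixedPoints (T.subgroupOf (stabilizer G a)) (orbit (stabilizer G a) s) ≠ Set.univ := by
    obtain ⟨t, ht, hts⟩ := hs
    intro h
    have hmem : (⟨s, mem_orbit_self s⟩ : orbit (stabilizer G a) s) ∈
        fixedPoints (T.subgroupOf (stabilizer G a)) (orbit (stabilizer G a) s) := by
      rw [h]; trivial
    rw [mem_fixedPoints] at hmem
    have h2 := hmem ⟨⟨t, hTa ht⟩, ht⟩
    apply hts
    exact congrArg Subtype.val h2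
  have htr : IsPretransitive (T.subgroupOf (stabilizer G a)) (orbit (stabilizer G a) s) :=
    IsQuasiPreprimitive.isPretransitive_of_normal hne
  obtain ⟨n, hn⟩ := htr.exists_smul_eq ⟨s, mem_orbit_self s⟩ ⟨x, hx⟩
  exact ⟨n.1.1, n.2, congrArg Subtype.val hn⟩

/-- a subgroup of a point stabilizer normalised by it and by an element moving the point is trivial -/
theorem eq_bot_of_normalizer [FaithfulSMul G Ω] [Nontrivial Ω] (hprim : IsPreprimitive G Ω)
    (a : Ω) (X : Subgroup G) (hXa : X ≤ stabilizer G a)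
    (hXn : stabilizer G a ≤ Subgroup.normalizer (X : Set G)) (g : G)
    (hg : g ∈ Subgroup.normalizer (X : Set G)) (hga : g • a ≠ a) : X = ⊥ := by
  have hco : IsCoatom (stabilizer G a) := IsPreprimitive.isCoatom_stabilizer_of_isPreprimitive G a
  have hlt : stabilizer G a < Subgroup.normalizer (X : Set G) := by
    apply lt_of_le_of_ne hXn
    intro h
    apply hga
    rw [← h] at hg
    exact hg
  have htop := hco.2 _ hlt
  have hnorm : X.Normal := Subgroup.normalizer_eq_top_iff.mp htop
  rw [Subgroup.eq_bot_iff_forall]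
  intro x hx
  apply FaithfulSMul.eq_of_smul_eq_smul (α := Ω)
  intro y
  obtain ⟨k, rfl⟩ := exists_smul_eq G a y
  have h1 : k⁻¹ * x * k ∈ X := by
    have := hnorm.conj_mem x hx k⁻¹
    simpa using this
  have h2 : (k⁻¹ * x * k) • a = a := hXa h1
  rw [mul_smul, mul_smul, inv_smul_eq_iff] at h2
  rw [h2, one_smul]

/-- two distinct point stabilizers generate the group -/
theorem sup_stab_eq_top [FaithfulSMul G Ω] (hprim : IsPreprimitive G Ω)
    (hH : ∀ α : Ω, stabilizer G α ≠ ⊥) (a b : Ω) (hab : a ≠ b) :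
    stabilizer G a ⊔ stabilizer G b = ⊤ := by
  have hnt : Nontrivial Ω := ⟨⟨a, b, hab⟩⟩
  by_contra hne
  have hcoa : IsCoatom (stabilizer G a) := IsPreprimitive.isCoatom_stabilizer_of_isPreprimitive G a
  have hcob : IsCoatom (stabilizer G b) := IsPreprimitive.isCoatom_stabilizer_of_isPreprimitive G b
  have h1 : stabilizer G a ⊔ stabilizer G b = stabilizer G a := by
    by_contra h
    exact hne (hcoa.2 _ (lt_of_le_of_ne le_sup_left (Ne.symm h)))
  have h2 : stabilizer G a ⊔ stabilizer G b = stabilizer G b := by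
    by_contra h
    exact hne (hcob.2 _ (lt_of_le_of_ne le_sup_right (Ne.symm h)))
  have heq : stabilizer G a = stabilizer G b := h1.symm.trans h2
  obtain ⟨g, hg⟩ := exists_smul_eq G a b
  have hgn : g ∈ Subgroup.normalizer ((stabilizer G a : Subgroup G) : Set G) := by
    rw [Subgroup.mem_normalizer_iff]
    intro h
    constructor
    · intro hh
      rw [heq, mem_stabilizer_iff, ← hg, mul_smul, mul_smul, inv_smul_smul,
        (show h • a = a from hh)]
    · intro hh
      rw [heq, mem_stabilizer_iff, ← hg, mul_smul, mul_smul, inv_smul_smul] at hh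
      exact smul_left_cancel g hh
  have := eq_bot_of_normalizer hprim a (stabilizer G a) le_rfl Subgroup.le_normalizer g hgn
    (by rw [hg]; exact hab.symm)
  exact hH a this

/-- the key inequality between suborbit lengths -/
theorem lemmaX [Finite Ω] [FaithfulSMul G Ω] (hprim : IsPreprimitive G Ω)
    (hH : ∀ α : Ω, stabilizer G α ≠ ⊥)
    (hep : ∀ (α ω : Ω), IsPreprimitive (stabilizer G α) (orbit (stabilizer G α) ω))
    (a b : Ω) (hab : a ≠ b) (T : Subgroup G) (hTa : T ≤ stabilizer G a)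
    (hTn : stabilizer G a ≤ Subgroup.normalizer (T : Set G)) (hTb : T ≤ stabilizer G b)
    (s : Ω) (hs : ∃ t ∈ T, t • s ≠ s) :
    (orbit (stabilizer G a) s).ncard < (orbit (stabilizer G b) s).ncard := by
  by_contra hle
  push Not at hle
  have hsub : orbit (stabilizer G a) s ⊆ orbit (stabilizer G b) s := by
    intro x hx
    obtain ⟨t, ht, rfl⟩ := exists_smul_of_moves hep a T hTa hTn s hs x hx
    exact ⟨⟨t, hTb ht⟩, rfl⟩
  have heq : orbit (stabilizer G a) s = orbit (stabilizer G b) s :=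
    Set.eq_of_subset_of_ncard_le hsub hle (Set.toFinite _)
  have hsup := sup_stab_eq_top hprim hH a b hab
  have hle2 : stabilizer G a ⊔ stabilizer G b ≤ stabilizer G (orbit (stabilizer G a) s) := by
    apply sup_le
    · intro g hg
      rw [mem_stabilizer_set]
      intro x
      exact smul_mem_orbit_stab_iff a g hg s x
    · intro g hg
      rw [mem_stabilizer_set]
      intro x
      rw [heq]
      exact smul_mem_orbit_stab_iff b g hg s x
  rw [hsup] at hle2
  obtain ⟨g, hg⟩ := exists_smul_eq G s a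
  have hga : g • s ∈ orbit (stabilizer G a) s :=
    (mem_stabilizer_set.mp (hle2 (Subgroup.mem_top g)) s).mpr (mem_orbit_self s)
  rw [hg] at hga
  obtain ⟨k, hk⟩ := hga
  have hsa : s = a := by
    have h1 : (k : G) • s = a := hk
    have h2 : (k : G) • a = a := k.2
    have : (k : G) • s = (k : G) • a := h1.trans h2.symm
    exact smul_left_cancel _ this
  obtain ⟨t, ht, hts⟩ := hs
  apply hts
  rw [hsa]
  exact hTa ht

/-- symmetry of the suborbit length -/
theorem dd_symm [Finite G] [Finite Ω] [IsPretransitive G Ω] (a s : Ω) :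
    (orbit (stabilizer G a) s).ncard = (orbit (stabilizer G s) a).ncard := by
  have key : ∀ a s : Ω, (orbit (stabilizer G a) s).ncard * Nat.card Ω =
      (stabilizer G s ⊓ stabilizer G a).index := by
    intro a s
    rw [← index_stabilizer (stabilizer G a) s, ← index_stabilizer_of_transitive G a,
      ← Subgroup.relIndex_mul_index (inf_le_right : stabilizer G s ⊓ stabilizer G a ≤ stabilizer G a),
      Subgroup.inf_relIndex_right]
    rfl
  have h1 := key a s
  have h2 := key s a
  rw [inf_comm] at h2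
  have hpos : 0 < Nat.card Ω := Nat.card_pos_iff.mpr ⟨⟨a⟩, inferInstance⟩
  exact Nat.eq_of_mul_eq_mul_right hpos (h1.trans h2.symm)

/-- conjugation invariance of the suborbit length -/
theorem dd_smul (g : G) (a s : Ω) :
    (orbit (stabilizer G (g • a)) (g • s)).ncard = (orbit (stabilizer G a) s).ncard := by
  have : orbit (stabilizer G (g • a)) (g • s) = (fun x => g • x) '' orbit (stabilizer G a) s := by
    ext x
    constructor
    · rintro ⟨k, rfl⟩
      refine ⟨(g⁻¹ * (k : G) * g) • s, ⟨⟨g⁻¹ * (k : G) * g, ?_⟩, rfl⟩, ?_⟩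
      · rw [mem_stabilizer_iff, mul_smul, mul_smul, (show (k : G) • g • a = g • a from k.2),
          inv_smul_smul]
      · show g • (g⁻¹ * (k : G) * g) • s = (k : G) • g • s
        rw [mul_smul, mul_smul, smul_inv_smul]
    · rintro ⟨y, ⟨k, rfl⟩, rfl⟩
      refine ⟨⟨g * (k : G) * g⁻¹, ?_⟩, ?_⟩
      · rw [mem_stabilizer_iff, mul_smul, mul_smul, inv_smul_smul, (show (k : G) • a = a from k.2)]
      · show (g * (k : G) * g⁻¹) • g • s = g • (k : G) • s
        rw [mul_smul, mul_smul, inv_smul_smul]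
  rw [this, Set.ncard_image_of_injective _ (MulAction.injective g)]

/-- the kernel of the stabilizer of `c` on the union of its suborbits of length `D` -/
def KK (D : ℕ) (c : Ω) : Subgroup G :=
  fixer c {δ | (orbit (stabilizer G c) δ).ncard = D}

theorem KK_le (D : ℕ) (c : Ω) : (KK D c : Subgroup G) ≤ stabilizer G c := fixer_le _ _

theorem KK_normalizer (D : ℕ) (c : Ω) :
    stabilizer G c ≤ Subgroup.normalizer ((KK D c : Subgroup G) : Set G) := by
  apply le_normalizer_fixer
  intro h hh x hx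
  have e : h • c = c := hh
  have := dd_smul h c x
  rw [e] at this
  show (orbit (stabilizer G c) (h • x)).ncard = D
  rw [this]; exact hx

theorem KK_conj (D : ℕ) (c : Ω) (g k : G) (hk : k ∈ (KK D c : Subgroup G)) :
    g * k * g⁻¹ ∈ (KK D (g • c) : Subgroup G) := by
  obtain ⟨hk1, hk2⟩ := hk
  refine ⟨by rw [mul_smul, mul_smul, inv_smul_smul, hk1], fun x hx => ?_⟩
  have hx' : (orbit (stabilizer G c) (g⁻¹ • x)).ncard = D := by
    have := dd_smul g c (g⁻¹ • x)
    rw [smul_inv_smul] at this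
    rw [← this]; exact hx
  rw [mul_smul, mul_smul, hk2 _ hx', smul_inv_smul]

/-- a normal subgroup of a point stabilizer fixing a further point fixes the longest suborbits -/
theorem le_KK [Finite Ω] [FaithfulSMul G Ω] (hprim : IsPreprimitive G Ω)
    (hH : ∀ α : Ω, stabilizer G α ≠ ⊥)
    (hep : ∀ (α ω : Ω), IsPreprimitive (stabilizer G α) (orbit (stabilizer G α) ω))
    (D : ℕ) (hD : ∀ a s : Ω, (orbit (stabilizer G a) s).ncard ≤ D)
    (c : Ω) (T : Subgroup G) (hTc : T ≤ stabilizer G c)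
    (hTn : stabilizer G c ≤ Subgroup.normalizer (T : Set G)) (s : Ω) (hsc : c ≠ s)
    (hTs : T ≤ stabilizer G s) : T ≤ KK D c := by
  intro t ht
  refine ⟨hTc ht, fun x hx => ?_⟩
  by_contra hne
  have := lemmaX hprim hH hep c s hsc T hTc hTn hTs x ⟨t, ht, hne⟩
  have hx' : (orbit (stabilizer G c) x).ncard = D := hx
  rw [hx'] at this
  exact absurd (hD s x) (not_le.mpr this)

/-- the kernels on the longest suborbits are trivial -/
theorem KK_eq_bot [Finite G] [Finite Ω] [FaithfulSMul G Ω] (hprim : IsPreprimitive G Ω)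
    (hH : ∀ α : Ω, stabilizer G α ≠ ⊥)
    (hep : ∀ (α ω : Ω), IsPreprimitive (stabilizer G α) (orbit (stabilizer G α) ω))
    (D : ℕ) (hD : ∀ a s : Ω, (orbit (stabilizer G a) s).ncard ≤ D)
    (hDex : ∃ a s : Ω, (orbit (stabilizer G a) s).ncard = D) (α : Ω) :
    (KK D α : Subgroup G) = ⊥ := by
  by_contra hne
  have htr : IsPretransitive G Ω := hprim.toIsPretransitive
  -- a point moved by `KK D α`
  obtain ⟨⟨k, hk⟩, hk1'⟩ := Subgroup.ne_bot_iff_exists_ne_one.mp hne
  have hk1 : k ≠ 1 := fun h => hk1' (Subtype.ext h)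
  obtain ⟨σ, hσ⟩ : ∃ σ : Ω, k • σ ≠ σ := by
    by_contra hall
    push Not at hall
    apply hk1
    apply FaithfulSMul.eq_of_smul_eq_smul (α := Ω)
    intro y
    rw [hall y, one_smul]
  have hσα : α ≠ σ := by
    rintro rfl
    exact hσ hk.1
  -- a point β in a longest suborbit of α
  obtain ⟨γ₀, δ₀, hγδ⟩ := hDex
  obtain ⟨g, hg⟩ := exists_smul_eq G γ₀ α
  set β := g • δ₀ with hβ
  have hαβ : (orbit (stabilizer G α) β).ncard = D := by
    rw [← hg, hβ, dd_smul]; exact hγδ
  have hβα : (orbit (stabilizer G β) α).ncard = D := by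
    rw [← dd_symm]; exact hαβ
  have hD2 : 2 ≤ D := by
    refine le_trans ?_ (hD α σ)
    have h1 : σ ∈ orbit (stabilizer G α) σ := mem_orbit_self σ
    have h2 : k • σ ∈ orbit (stabilizer G α) σ := ⟨⟨k, hk.1⟩, rfl⟩
    have := (Set.one_lt_ncard (Set.toFinite _)).mpr ⟨_, h2, _, h1, hσ⟩
    omega
  have hαβne : α ≠ β := by
    intro h
    rw [← h] at hαβ
    have hsub : orbit (stabilizer G α) α ⊆ {α} := by
      rintro x ⟨m, rfl⟩
      exact m.2
    have := Set.ncard_le_ncard hsub (Set.toFinite _)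
    rw [hαβ, Set.ncard_singleton] at this
    omega
  -- `KK D β` fixes α and `KK D α` fixes β
  have hKβα : (KK D β : Subgroup G) ≤ stabilizer G α := fun m hm => hm.2 α hβα
  have hKαβ : (KK D α : Subgroup G) ≤ stabilizer G β := fun m hm => hm.2 β hαβ
  -- `KK D β` fixes every point moved by `KK D α`
  have hdisj : ∀ τ : Ω, (∃ m ∈ (KK D α : Subgroup G), m • τ ≠ τ) →
      ∀ m ∈ (KK D β : Subgroup G), m • τ = τ := by
    intro τ hτ m hm
    by_contra hmτ
    have h1 := lemmaX hprim hH hep α β hαβne (KK D α) (KK_le D α) (KK_normalizer D α) hKαβ τ hτ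
    have h2 := lemmaX hprim hH hep β α hαβne.symm (KK D β) (KK_le D β) (KK_normalizer D β) hKβα τ
      ⟨m, hm, hmτ⟩
    omega
  -- the fixer of the support of `KK D α`
  set M : Subgroup G := fixer α {τ | ∃ m ∈ (KK D α : Subgroup G), m • τ ≠ τ} with hM
  have hMn : stabilizer G α ≤ Subgroup.normalizer (M : Set G) := by
    apply le_normalizer_fixer
    rintro h hh x ⟨m, hm, hmx⟩
    refine ⟨h * m * h⁻¹, ?_, ?_⟩
    · have := KK_conj D α h m hm
      rwa [(show h • α = α from hh)] at this
    · rw [mul_smul, mul_smul, inv_smul_smul]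
      intro h2
      exact hmx (smul_left_cancel h h2)
  have hMσ : M ≤ stabilizer G σ := fun m hm => hm.2 σ ⟨k, hk, hσ⟩
  have hMK : M ≤ KK D α := le_KK hprim hH hep D hD α M (fixer_le _ _) hMn σ hσα hMσ
  have hKβM : (KK D β : Subgroup G) ≤ M := fun m hm => ⟨hKβα hm, fun τ hτ => hdisj τ hτ m hm⟩
  have hle : (KK D β : Subgroup G) ≤ KK D α := hKβM.trans hMK
  -- `KK D β` is a conjugate of `KK D α`
  obtain ⟨g₀, hg₀⟩ := exists_smul_eq G α β
  have hconj : ∀ m ∈ (KK D α : Subgroup G), g₀ * m * g₀⁻¹ ∈ (KK D α : Subgroup G) := by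
    intro m hm
    apply hle
    have := KK_conj D α g₀ m hm
    rwa [hg₀] at this
  have hinj : Function.Injective (fun m : (KK D α : Subgroup G) =>
      (⟨g₀ * m * g₀⁻¹, hconj m m.2⟩ : (KK D α : Subgroup G))) := by
    intro m m' h
    have := congrArg Subtype.val h
    simp only [mul_left_inj, mul_right_inj] at this
    exact Subtype.ext this
  have hsurj := Finite.surjective_of_injective hinj
  have hgn : g₀ ∈ Subgroup.normalizer ((KK D α : Subgroup G) : Set G) := by
    rw [Subgroup.mem_normalizer_iff]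
    intro m
    constructor
    · intro hm; exact hconj m hm
    · intro hm
      obtain ⟨m', hm'⟩ := hsurj ⟨_, hm⟩
      have := congrArg Subtype.val hm'
      simp only [mul_left_inj, mul_right_inj] at this
      rw [← this]; exact m'.2
  have hnt : Nontrivial Ω := ⟨⟨α, β, hαβne⟩⟩
  exact hne (eq_bot_of_normalizer hprim α (KK D α) (KK_le D α) (KK_normalizer D α) g₀ hgn
    (by rw [hg₀]; exact hαβne.symm))

theorem result {G : Type*} [Group G] [Finite G] {Ω : Type*} [Fintype Ω] [MulAction G Ω] [FaithfulSMul G Ω] (hprim : MulAction.IsPreprimitive G Ω) (hH : ∀ α : Ω, MulAction.stabilizer G α ≠ ⊥) (hep : ∀ (α : Ω) (ω : Ω), MulAction.IsPreprimitive (MulAction.stabilizer G α) (MulAction.orbit (MulAction.stabilizer G α) ω))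
    (α ω : Ω) (hω : ω ≠ α) (h : MulAction.stabilizer G α) (hfix : ∀ x ∈ MulAction.orbit (MulAction.stabilizer G α) ω, h • x = x) : h = 1 := by
  -- the maximal suborbit length
  have hne0 : Nonempty (Ω × Ω) := ⟨(α, ω)⟩
  obtain ⟨p₀, hp₀⟩ := Finite.exists_max (fun p : Ω × Ω => (orbit (stabilizer G p.1) p.2).ncard)
  set D := (orbit (stabilizer G p₀.1) p₀.2).ncard with hDdef
  have hD : ∀ a s : Ω, (orbit (stabilizer G a) s).ncard ≤ D := fun a s => hp₀ (a, s)
  have hDex : ∃ a s : Ω, (orbit (stabilizer G a) s).ncard = D := ⟨p₀.1, p₀.2, rfl⟩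
  have hK := KK_eq_bot hprim hH hep D hD hDex α
  set T₀ : Subgroup G := fixer α (orbit (stabilizer G α) ω) with hT₀
  have hT₀n : stabilizer G α ≤ Subgroup.normalizer (T₀ : Set G) := by
    apply le_normalizer_fixer
    intro g hg x hx
    exact (smul_mem_orbit_stab_iff α g hg ω x).mpr hx
  have hT₀ω : T₀ ≤ stabilizer G ω := fun m hm => hm.2 ω (mem_orbit_self ω)
  have hle := le_KK hprim hH hep D hD α T₀ (fixer_le _ _) hT₀n ω hω.symm hT₀ω
  have hmem : (h : G) ∈ T₀ := ⟨h.2, fun x hx => hfix x hx⟩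
  have := hle hmem
  rw [hK, Subgroup.mem_bot] at this
  exact Subtype.ext this

end Cfsg.Agent.S3494
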