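import Mathlib
import Cfsg.Statements.S3495

set_option autoImplicit false
open Cfsg

namespace Cfsg.Agent.S3495

section
variable {G : Type*} [Group G] {Ω : Type*} [MulAction G Ω]

theorem reg_eq (N : Subgroup G) (hNreg : ∀ ω : Ω, MulAction.stabilizer N ω = ⊥) (α : Ω)
    {a b : G} (ha : a ∈ N) (hb : b ∈ N) (h : a • α = b • α) : a = b := by
  have hmem : (⟨b⁻¹ * a, N.mul_mem (N.inv_mem hb) ha⟩ : N) ∈ MulAction.stabilizer N α := by
    rw [MulAction.mem_stabilizer_iff]
    show (b⁻¹ * a) • α = α
    rw [mul_smul, h, inv_smul_smul]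
  rw [hNreg α, Subgroup.mem_bot] at hmem
  have h2 : b⁻¹ * a = 1 := congrArg Subtype.val hmem
  rw [inv_mul_eq_one] at h2
  exact h2.symm

/-- irreducibility: a stabilizer-invariant subgroup of the regular normal abelian subgroup is
trivial or everything -/
theorem irr [FaithfulSMul G Ω] (hprim : MulAction.IsPreprimitive G Ω) (N : Subgroup G) [hNn : N.Normal]
    (hNc : ∀ a ∈ N, ∀ b ∈ N, a * b = b * a)
    (hNtr : MulAction.IsPretransitive N Ω) (hNreg : ∀ ω : Ω, MulAction.stabilizer N ω = ⊥) (α : Ω)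
    (C : Subgroup G) (hCN : C ≤ N)
    (hCH : ∀ h ∈ MulAction.stabilizer G α, ∀ c ∈ C, h * c * h⁻¹ ∈ C) :
    C = ⊥ ∨ C = N := by
  have hnorm : C.Normal := by
    constructor
    intro c hc g
    obtain ⟨n, hn⟩ := MulAction.exists_smul_eq N α (g • α)
    have hn' : (n : G) • α = g • α := hn
    have hh : (n : G)⁻¹ * g ∈ MulAction.stabilizer G α := by
      rw [MulAction.mem_stabilizer_iff, mul_smul, ← hn', inv_smul_smul]
    have h1 := hCH _ hh c hc
    have h1N : (n : G)⁻¹ * g * c * ((n : G)⁻¹ * g)⁻¹ ∈ N := hCN h1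
    have : g * c * g⁻¹ = (n : G) * ((n : G)⁻¹ * g * c * ((n : G)⁻¹ * g)⁻¹) * (n : G)⁻¹ := by group
    rw [this, hNc _ n.2 _ h1N, mul_inv_cancel_right]
    exact h1
  by_cases hfix : MulAction.fixedPoints C Ω = Set.univ
  · left
    rw [eq_bot_iff]
    intro c hc
    rw [Subgroup.mem_bot]
    apply FaithfulSMul.eq_of_smul_eq_smul (α := Ω)
    intro x
    have hx : x ∈ MulAction.fixedPoints C Ω := by rw [hfix]; trivial
    rw [one_smul]
    exact hx ⟨c, hc⟩
  · right
    haveI := hnorm
    haveI := hprim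
    have htr : MulAction.IsPretransitive C Ω :=
      MulAction.IsQuasiPreprimitive.isPretransitive_of_normal hfix
    apply le_antisymm hCN
    intro n hn
    obtain ⟨c, hc⟩ := MulAction.exists_smul_eq C α (n • α)
    have hc' : (c : G) • α = n • α := hc
    have : (c : G) = n := reg_eq N hNreg α (hCN c.2) hn hc'
    rw [← this]; exact c.2

end

theorem result {G : Type*} [Group G] [Finite G] {Ω : Type*} [Fintype Ω] [MulAction G Ω] [FaithfulSMul G Ω] (hprim : MulAction.IsPreprimitive G Ω) (hH : ∀ α : Ω, MulAction.stabilizer G α ≠ ⊥) (hep : ∀ (α : Ω) (ω : Ω), MulAction.IsPreprimitive (MulAction.stabilizer G α) (MulAction.orbit (MulAction.stabilizer G α) ω))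
    (N : Subgroup G) [N.Normal] (hNc : IsMulCommutative N) (p : ℕ) (hp : p.Prime) (hNp : ∀ n ∈ N, n ^ p = 1)
    (hNtr : MulAction.IsPretransitive N Ω) (hNreg : ∀ ω : Ω, MulAction.stabilizer N ω = ⊥) (α : Ω) (M : Subgroup G) (hM : M ≠ ⊥) (hMle : M ≤ MulAction.stabilizer G α)
    (hMn : MulAction.stabilizer G α ≤ Subgroup.normalizer (M : Set G)) :
    (∀ ω : Ω, MulAction.orbit M ω = MulAction.orbit (MulAction.stabilizer G α) ω) ∧
    (∀ L : Subgroup G, L ≤ N → M ≤ Subgroup.normalizer (L : Set G) → L = ⊥ ∨ L = N) := by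
  have hNn : N.Normal := inferInstance
  have hcomm : ∀ a ∈ N, ∀ b ∈ N, a * b = b * a := fun a ha b hb =>
    congrArg Subtype.val (@mul_comm' N _ hNc ⟨a, ha⟩ ⟨b, hb⟩)
  -- M fixes no point other than α
  have hnofix : ∀ ω : Ω, (∀ m ∈ M, m • ω = ω) → ω = α := by
    intro ω hω
    let C : Subgroup G := N ⊓ Subgroup.centralizer (M : Set G)
    have hCH : ∀ h ∈ MulAction.stabilizer G α, ∀ c ∈ C, h * c * h⁻¹ ∈ C := by
      intro h hh c hc
      have hc1 : c ∈ N := (Subgroup.mem_inf.mp hc).1
      have hc2 : c ∈ Subgroup.centralizer (M : Set G) := (Subgroup.mem_inf.mp hc).2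
      apply Subgroup.mem_inf.mpr
      refine ⟨hNn.conj_mem c hc1 h, ?_⟩
      rw [Subgroup.mem_centralizer_iff]
      intro m hm
      have hm' : h⁻¹ * m * h ∈ M := ((Subgroup.mem_normalizer_iff''.mp (hMn hh)) m).mp hm
      have hcm := (Subgroup.mem_centralizer_iff.mp hc2) _ hm'
      calc m * (h * c * h⁻¹) = h * ((h⁻¹ * m * h) * c) * h⁻¹ := by group
        _ = h * (c * (h⁻¹ * m * h)) * h⁻¹ := by rw [hcm]
        _ = h * c * h⁻¹ * m := by group
    rcases irr hprim N hcomm hNtr hNreg α C inf_le_left hCH with hC | hC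
    · obtain ⟨n, hn⟩ := MulAction.exists_smul_eq N α ω
      have hnα : (n : G) • α = ω := hn
      have hnC : (n : G) ∈ C := by
        apply Subgroup.mem_inf.mpr
        refine ⟨n.2, ?_⟩
        rw [Subgroup.mem_centralizer_iff]
        intro m hm
        have hmα : m⁻¹ • α = α := by
          have : m • α = α := hMle hm
          rw [inv_smul_eq_iff, this]
        have h3 : m * n * m⁻¹ = n := by
          apply reg_eq N hNreg α (hNn.conj_mem n n.2 m) n.2
          rw [mul_smul, mul_smul, hmα, hnα, hω m hm]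
        calc m * (n : G) = (m * n * m⁻¹) * m := by group
          _ = n * m := by rw [h3]
      rw [hC, Subgroup.mem_bot] at hnC
      rw [← hnα, hnC, one_smul]
    · exfalso
      apply hM
      rw [eq_bot_iff]
      intro m hm
      rw [Subgroup.mem_bot]
      apply FaithfulSMul.eq_of_smul_eq_smul (α := Ω)
      intro x
      obtain ⟨n, hn⟩ := MulAction.exists_smul_eq N α x
      have hnα : (n : G) • α = x := hn
      have hnC : (n : G) ∈ C := by rw [hC]; exact n.2
      have hcm := (Subgroup.mem_centralizer_iff.mp (Subgroup.mem_inf.mp hnC).2) m hm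
      have hmα : m • α = α := hMle hm
      rw [one_smul, ← hnα, ← mul_smul, hcm, mul_smul, hmα]
  have ha : ∀ ω : Ω, MulAction.orbit M ω = MulAction.orbit (MulAction.stabilizer G α) ω := by
    intro ω
    apply Set.Subset.antisymm
    · rintro _ ⟨m, rfl⟩
      exact ⟨⟨m, hMle m.2⟩, rfl⟩
    · by_cases hωα : ω = α
      · rintro _ ⟨h, rfl⟩
        subst hωα
        have : (h : G) • ω = ω := h.2
        show (h : G) • ω ∈ MulAction.orbit M ω
        rw [this]
        exact MulAction.mem_orbit_self ω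
      · haveI := hep α ω
        haveI hMnorm : (M.subgroupOf (MulAction.stabilizer G α)).Normal :=
          (Subgroup.normal_subgroupOf_iff_le_normalizer hMle).mpr hMn
        have hne : MulAction.fixedPoints (M.subgroupOf (MulAction.stabilizer G α))
            (MulAction.orbit (MulAction.stabilizer G α) ω) ≠ Set.univ := by
          intro huniv
          apply hωα
          apply hnofix ω
          intro m hm
          have hmem : (⟨ω, MulAction.mem_orbit_self ω⟩ : MulAction.orbit (MulAction.stabilizer G α) ω) ∈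
              MulAction.fixedPoints (M.subgroupOf (MulAction.stabilizer G α))
                (MulAction.orbit (MulAction.stabilizer G α) ω) := by rw [huniv]; trivial
          have := hmem ⟨⟨m, hMle hm⟩, hm⟩
          exact congrArg Subtype.val this
        have htr : MulAction.IsPretransitive (M.subgroupOf (MulAction.stabilizer G α))
            (MulAction.orbit (MulAction.stabilizer G α) ω) :=
          MulAction.IsQuasiPreprimitive.isPretransitive_of_normal hne
        rintro y hy
        obtain ⟨m, hm⟩ := MulAction.exists_smul_eq (M.subgroupOf (MulAction.stabilizer G α))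
          (⟨ω, MulAction.mem_orbit_self ω⟩ : MulAction.orbit (MulAction.stabilizer G α) ω) ⟨y, hy⟩
        refine ⟨⟨((m : MulAction.stabilizer G α) : G), Subgroup.mem_subgroupOf.mp m.2⟩, ?_⟩
        exact congrArg Subtype.val hm
  refine ⟨ha, ?_⟩
  intro L hLN hML
  have hHL : ∀ h ∈ MulAction.stabilizer G α, ∀ l ∈ L, h * l * h⁻¹ ∈ L := by
    intro h hh l hl
    have hmem : h • (l • α) ∈ MulAction.orbit (MulAction.stabilizer G α) (l • α) := ⟨⟨h, hh⟩, rfl⟩
    rw [← ha (l • α)] at hmem
    obtain ⟨m, hm⟩ := hmem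
    have hm' : (m : G) • (l • α) = h • (l • α) := hm
    have hml : (m : G) * l * (m : G)⁻¹ ∈ L := ((Subgroup.mem_normalizer_iff.mp (hML m.2)) l).mp hl
    have hmα : (m : G)⁻¹ • α = α := by
      have : (m : G) • α = α := hMle m.2
      rw [inv_smul_eq_iff, this]
    have hhα : h⁻¹ • α = α := by
      have : h • α = α := hh
      rw [inv_smul_eq_iff, this]
    have e1 : ((m : G) * l * (m : G)⁻¹) • α = (h * l * h⁻¹) • α := by
      rw [mul_smul, mul_smul, hmα, mul_smul, mul_smul, hhα]
      exact hm'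
    have heq : (m : G) * l * (m : G)⁻¹ = h * l * h⁻¹ :=
      reg_eq N hNreg α (hLN hml) (hNn.conj_mem l (hLN hl) h) e1
    rw [← heq]; exact hml
  exact irr hprim N hcomm hNtr hNreg α L hLN hHL

end Cfsg.Agent.S3495
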