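import Mathlib
import Cfsg.Statements.S3497
import Cfsg.Agent.S3494
import Cfsg.Agent.Lib_helper17_PrimNormal
import Cfsg.Agent.Lib_helper1_Core
import Cfsg.Agent.Lib_helper18_Derangement

set_option autoImplicit false
open Cfsg MulAction

namespace Cfsg.Agent.S3497

open Cfsg.Agent.helper17

theorem result {G : Type*} [Group G] [Finite G] {Ω : Type*} [Fintype Ω] [MulAction G Ω] [FaithfulSMul G Ω] (hprim : MulAction.IsPreprimitive G Ω) (hep : ∀ (α : Ω) (ω : Ω), MulAction.IsPreprimitive (MulAction.stabilizer G α) (MulAction.orbit (MulAction.stabilizer G α) ω)) (α : Ω)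
    (hH1 : MulAction.stabilizer G α ≠ ⊥) (hHp : ¬ (Nat.card (MulAction.stabilizer G α)).Prime) :
    Subgroup.center (MulAction.stabilizer G α) = ⊥ ∧
    IsMulCommutative (Cfsg.fittingSubgroup (MulAction.stabilizer G α)) ∧
    ∃ p e : ℕ, p.Prime ∧ Nat.card (Cfsg.fittingSubgroup (MulAction.stabilizer G α)) = p ^ e ∧
      (∀ x ∈ Cfsg.fittingSubgroup (MulAction.stabilizer G α), x ^ p = 1) ∧
      (Cfsg.fittingSubgroup (MulAction.stabilizer G α) ≠ ⊥ →
        p ^ e ∣ Fintype.card Ω - 1 ∧
        ∃ φ : MulAction.stabilizer G α →* GL (Fin e) (ZMod p), φ.ker = Cfsg.fittingSubgroup (MulAction.stabilizer G α)) := by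
  classical
  have htr : IsPretransitive G Ω := hprim.toIsPretransitive
  -- all point stabilizers are nontrivial
  have hH : ∀ β : Ω, stabilizer G β ≠ ⊥ := by
    intro β hβ
    obtain ⟨g, hg⟩ := exists_smul_eq G α β
    apply hH1
    rw [Subgroup.eq_bot_iff_forall]
    intro x hx
    have : g * x * g⁻¹ ∈ stabilizer G β := by
      rw [mem_stabilizer_iff, ← hg, mul_smul, mul_smul, inv_smul_smul, (show x • α = α from hx)]
    rw [hβ, Subgroup.mem_bot] at this
    have h2 : g * x = g := by
      have := congrArg (· * g) this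
      simpa using this
    exact mul_eq_left.mp h2
  -- a second point
  obtain ⟨ω, hω⟩ : ∃ ω : Ω, ω ≠ α := by
    by_contra hall
    push Not at hall
    apply hH1
    rw [Subgroup.eq_bot_iff_forall]
    intro g _
    apply FaithfulSMul.eq_of_smul_eq_smul (α := Ω)
    intro y
    rw [hall y, one_smul, hall (g • α)]
  -- the stabilizer acts faithfully on each nontrivial orbit
  have hfaith : ∀ ω : Ω, ω ≠ α → FaithfulSMul (stabilizer G α) (orbit (stabilizer G α) ω) := by
    intro ω hω
    constructor
    intro h1 h2 hh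
    have key : h2⁻¹ * h1 = 1 := by
      apply Cfsg.Agent.S3494.result hprim hH hep α ω hω
      intro x hx
      have := hh ⟨x, hx⟩
      have h3 : h1 • x = h2 • x := congrArg Subtype.val this
      rw [mul_smul, h3, inv_smul_smul]
    rw [inv_mul_eq_one] at key
    exact key.symm
  have hnontriv : ∀ ω : Ω, ω ≠ α → Nontrivial (orbit (stabilizer G α) ω) := by
    intro ω hω
    by_contra hnt
    rw [not_nontrivial_iff_subsingleton] at hnt
    apply hH1
    rw [Subgroup.eq_bot_iff_forall]
    intro g hg
    have := Cfsg.Agent.S3494.result hprim hH hep α ω hω ⟨g, hg⟩ (by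
      intro x hx
      have hgx : (⟨g, hg⟩ : stabilizer G α) • x ∈ orbit (stabilizer G α) ω :=
        (Cfsg.Agent.S3494.smul_mem_orbit_stab_iff α g hg ω x).mpr hx
      have := hnt.elim ⟨_, hgx⟩ ⟨x, hx⟩
      exact congrArg Subtype.val this)
    exact congrArg Subtype.val this
  have hF := hfaith ω hω
  have hNT := hnontriv ω hω
  have hP := hep α ω
  -- the centre
  have hcenter : Subgroup.center (stabilizer G α) = ⊥ := by
    by_contra hne
    exact hHp (prime_card_of_center_ne_bot (X := orbit (stabilizer G α) ω) hne)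
  -- the Fitting subgroup
  have hFn : (fittingSubgroup (stabilizer G α)).Normal := Cfsg.Agent.helper1.fitting_normal
  have hFnil : Group.IsNilpotent (fittingSubgroup (stabilizer G α)) :=
    Cfsg.Agent.helper1.fitting_isNilpotent
  have hFab := abelian_of_nilpotent_normal (X := orbit (stabilizer G α) ω)
    (fittingSubgroup (stabilizer G α))
  refine ⟨hcenter, ⟨⟨fun a b => Subtype.ext (hFab a a.2 b b.2)⟩⟩, ?_⟩
  by_cases hFbot : fittingSubgroup (stabilizer G α) = ⊥
  · refine ⟨2, 0, Nat.prime_two, by rw [hFbot, Subgroup.card_bot, pow_zero], ?_, fun h => absurd hFbot h⟩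
    intro x hx
    rw [hFbot, Subgroup.mem_bot] at hx
    rw [hx, one_pow]
  obtain ⟨p, e, hp, hcard, hexp⟩ := elementary_of_abelian_normal (X := orbit (stabilizer G α) ω)
    (fittingSubgroup (stabilizer G α)) hFab hFbot
  have := Fact.mk hp
  refine ⟨p, e, hp, hcard, hexp, fun _ => ⟨?_, ?_⟩⟩
  · -- counting with Burnside's lemma
    set F := fittingSubgroup (stabilizer G α) with hFdef
    have : Fintype F := Fintype.ofFinite F
    have hburn := Cfsg.Agent.helper18.burnside_natCard F Ω
    have hfix1 : Nat.card (fixedBy Ω (1 : F)) = Fintype.card Ω := by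
      rw [← Nat.card_eq_fintype_card]
      apply Nat.card_congr
      exact (Equiv.subtypeUnivEquiv (fun x => by simp [mem_fixedBy]))
    have hfixn : ∀ n : F, n ≠ 1 → Nat.card (fixedBy Ω n) = 1 := by
      intro n hn
      rw [Nat.card_eq_one_iff_unique]
      refine ⟨⟨?_⟩, ⟨⟨α, (n : stabilizer G α).2⟩⟩⟩
      rintro ⟨x, hx⟩ ⟨y, hy⟩
      have key : ∀ z : Ω, n • z = z → z = α := by
        intro z hz
        by_contra hzα
        have hFz := hfaith z hzα
        have hPz := hep α z
        apply hn
        have htrz := normal_transitive (X := orbit (stabilizer G α) z) F hFbot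
        have := eq_one_of_centralizes_transitive (X := orbit (stabilizer G α) z) F htrz
          (n : stabilizer G α) (fun a ha => hFab _ n.2 a ha) ⟨z, mem_orbit_self z⟩
          (Subtype.ext hz)
        exact Subtype.ext this
      apply Subtype.ext
      show x = y
      rw [key x hx, key y hy]
    rw [← Finset.add_sum_erase Finset.univ _ (Finset.mem_univ (1 : F)), hfix1,
      Finset.sum_congr rfl (fun n hn => hfixn n (Finset.ne_of_mem_erase hn)), Finset.sum_const,
      Finset.card_erase_of_mem (Finset.mem_univ _), Finset.card_univ, smul_eq_mul, mul_one,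
      ← Nat.card_eq_fintype_card (α := F), hcard] at hburn
    have hpos : 0 < Fintype.card Ω := Fintype.card_pos_iff.mpr ⟨α⟩
    have hppos : 0 < p ^ e := pow_pos hp.pos e
    have h3 : Fintype.card Ω - 1 + p ^ e = Nat.card (orbitRel.Quotient F Ω) * p ^ e := by
      rw [← hburn]; omega
    exact (Nat.dvd_add_left (dvd_refl _)).mp (Dvd.intro_left _ h3.symm)
  · have hfinF : Finite (fittingSubgroup (stabilizer G α)) := inferInstance
    obtain ⟨φ, hφ⟩ := exists_hom_GL_ker_centralizer (fittingSubgroup (stabilizer G α)) p e hFab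
      hexp hcard
    refine ⟨φ, ?_⟩
    rw [hφ]
    apply le_antisymm
    · intro c hc
      rw [Subgroup.mem_centralizer_iff] at hc
      exact mem_of_centralizes_abelian_transitive (X := orbit (stabilizer G α) ω) _ hFab
        (normal_transitive (X := orbit (stabilizer G α) ω) _ hFbot) c (fun a ha => (hc a ha).symm)
    · intro c hc
      rw [Subgroup.mem_centralizer_iff]
      intro a ha
      exact hFab a ha c hc

end Cfsg.Agent.S3497
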