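import Mathlib
import Cfsg.Statements.S3498

set_option autoImplicit false
open Cfsg

namespace Cfsg.Agent.S3498

theorem simple_pgroup_comm {S : Type*} [Group S] [Finite S] [IsSimpleGroup S] (r : ℕ) [Fact r.Prime]
    (h : IsPGroup r S) : IsMulCommutative S := by
  have hnt := h.center_nontrivial
  have hc : Subgroup.center S = ⊤ := by
    rcases (Subgroup.Normal.eq_bot_or_eq_top (H := Subgroup.center S) inferInstance) with h0 | h0
    · exact absurd h0 ((Subgroup.nontrivial_iff_ne_bot _).mp hnt)
    · exact h0
  constructor; constructor; intro a b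
  have : a ∈ Subgroup.center S := by rw [hc]; trivial
  exact (Subgroup.mem_center_iff.mp this b).symm

/-- in a nonabelian simple group no maximal subgroup has prime order -/
theorem simple_case {S : Type*} [Group S] [Finite S] [IsSimpleGroup S] (hnc : ¬ IsMulCommutative S)
    (H : Subgroup S) (hmax : IsCoatom H) : ¬ (Nat.card H).Prime := by
  intro hp
  set p := Nat.card H with hpdef
  haveI : Fact p.Prime := ⟨hp⟩
  have hHp : IsPGroup p H := IsPGroup.of_card (n := 1) (by rw [pow_one])
  obtain ⟨P, hP⟩ := hHp.exists_le_sylow
  rcases eq_or_lt_of_le hP with hPH | hPH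
  · -- P = H
    have hnorm : Subgroup.normalizer (H : Set S) = H ∨ Subgroup.normalizer (H : Set S) = ⊤ := by
      rcases eq_or_lt_of_le (Subgroup.le_normalizer (H := H)) with h | h
      · exact Or.inl h.symm
      · exact Or.inr (hmax.2 _ h)
    rcases hnorm with hN | hN
    · -- Burnside
      have hcyc : IsCyclic H := isCyclic_of_prime_card (p := p) rfl
      have hcomm : IsMulCommutative H := IsCyclic.isMulCommutative
      have hle : Subgroup.normalizer ((P : Subgroup S) : Set S) ≤ Subgroup.centralizer ((P : Subgroup S) : Set S) := by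
        rw [← hPH, hN]
        exact Subgroup.le_centralizer_iff_isMulCommutative.mpr hcomm
      have hcompl := MonoidHom.ker_transferSylow_isComplement' P hle
      rcases (Subgroup.Normal.eq_bot_or_eq_top (H := (MonoidHom.transferSylow P hle).ker) inferInstance) with h0 | h0
      · rw [h0, Subgroup.isComplement'_bot_left] at hcompl
        exact hmax.1 (hPH.trans hcompl)
      · rw [h0, Subgroup.isComplement'_top_left] at hcompl
        rw [← hPH] at hcompl
        have : Nat.card H = 1 := by rw [hcompl]; simp
        rw [← hpdef] at this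
        exact hp.one_lt.ne' this
    · rw [Subgroup.normalizer_eq_top_iff] at hN
      rcases hN.eq_bot_or_eq_top with h0 | h0
      · have : Nat.card H = 1 := by rw [h0]; simp
        rw [← hpdef] at this
        exact hp.one_lt.ne' this
      · exact hmax.1 h0
  · -- P = ⊤
    have hPtop := hmax.2 _ hPH
    have : IsPGroup p S := by
      intro s
      obtain ⟨k, hk⟩ := P.2 ⟨s, by rw [hPtop]; trivial⟩
      exact ⟨k, by simpa using congrArg Subtype.val hk⟩
    exact hnc (simple_pgroup_comm p this)

theorem mem_normalizer_of_invariant {G : Type*} [Group G] (H U : Subgroup G)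
    (hinv : ∀ h ∈ H, ∀ u ∈ U, h * u * h⁻¹ ∈ U) : H ≤ Subgroup.normalizer (U : Set G) := by
  intro h hh
  rw [Subgroup.mem_normalizer_iff]
  intro u
  constructor
  · exact hinv h hh u
  · intro hu
    have := hinv h⁻¹ (H.inv_mem hh) _ hu
    simpa [mul_assoc] using this

theorem claim1 {G : Type*} [Group G] (T H U : Subgroup G) [T.Normal] (hT : IsSimpleGroup T)
    (hmax : IsCoatom H) (hHT : H ⊓ T = ⊥) (hUT : U ≤ T) (hU : U ≠ ⊥)
    (hinv : ∀ h ∈ H, ∀ u ∈ U, h * u * h⁻¹ ∈ U) : U = T := by
  have hHB : H ≤ H ⊔ U := le_sup_left
  rcases eq_or_lt_of_le hHB with h | h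
  · exfalso
    apply hU
    have hUH : U ≤ H := by rw [h]; exact le_sup_right
    rw [eq_bot_iff, ← hHT]
    exact le_inf hUH hUT
  · have htop := hmax.2 _ h
    have hN : Subgroup.normalizer (U : Set G) = ⊤ := by
      rw [eq_top_iff, ← htop]
      exact sup_le (mem_normalizer_of_invariant H U hinv) Subgroup.le_normalizer
    rw [Subgroup.normalizer_eq_top_iff] at hN
    have hn : (U.subgroupOf T).Normal := hN.subgroupOf T
    rcases hn.eq_bot_or_eq_top with h0 | h0
    · rw [Subgroup.subgroupOf_eq_bot] at h0
      exact absurd (h0.eq_bot_of_le hUT |> fun h => by simpa using h) hU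
    · rw [Subgroup.subgroupOf_eq_top] at h0
      exact le_antisymm hUT h0

theorem result {G : Type*} [Group G] [Finite G] (T : Subgroup G) [T.Normal] (hT : IsSimpleGroup T) (hTc : ¬ IsMulCommutative T)
    (hC : Subgroup.centralizer (T : Set G) = ⊥) (H : Subgroup G) (hmax : IsCoatom H) : ¬ (Nat.card H).Prime := by
  intro hp
  set p := Nat.card H with hpdef
  haveI : Fact p.Prime := ⟨hp⟩
  by_cases hTH : T ≤ H
  · -- T ≤ H
    have hd : Nat.card T ∣ p := Subgroup.card_dvd_of_le hTH
    rcases (Nat.dvd_prime hp).mp hd with h1 | h1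
    · have : Subsingleton T := (Nat.card_eq_one_iff_unique.mp h1).1
      exact not_subsingleton T this
    · have hcyc : IsCyclic T := isCyclic_of_prime_card (p := p) h1
      exact hTc IsCyclic.isMulCommutative
  · have hlt : H < H ⊔ T := by
      apply lt_of_le_of_ne le_sup_left
      intro h
      apply hTH
      rw [h]; exact le_sup_right
    have htop : H ⊔ T = ⊤ := hmax.2 _ hlt
    haveI : Fact (Nat.card H).Prime := ⟨hp⟩
    rcases Subgroup.eq_bot_or_eq_top_of_prime_card (T.subgroupOf H) with h0 | h0
    · -- H ⊓ T = ⊥
      rw [Subgroup.subgroupOf_eq_bot] at h0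
      have hHT : H ⊓ T = ⊥ := by
        rw [inf_comm]; exact h0.eq_bot
      haveI := hT
      have hHp : IsPGroup p H := IsPGroup.of_card (n := 1) (by rw [pow_one])
      have hTcard : Nat.card T ≠ 1 := by
        intro h1
        have : Subsingleton T := (Nat.card_eq_one_iff_unique.mp h1).1
        exact not_subsingleton T this
      obtain ⟨r, hr, hrT, hrS⟩ : ∃ r : ℕ, ∃ _ : Fact r.Prime, r ∣ Nat.card T ∧ ¬ p ∣ Nat.card (Sylow r T) := by
        by_cases hpT : p ∣ Nat.card T
        · refine ⟨p, inferInstance, hpT, ?_⟩
          intro hd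
          have hm := card_sylow_modEq_one p T
          have h0 : Nat.card (Sylow p T) % p = 0 := Nat.mod_eq_zero_of_dvd hd
          have h1 : Nat.card (Sylow p T) % p = 1 % p := hm
          rw [h0, Nat.mod_eq_of_lt hp.one_lt] at h1
          exact absurd h1 (by norm_num)
        · have hmf := Nat.minFac_prime hTcard
          refine ⟨Nat.minFac (Nat.card T), ⟨hmf⟩, Nat.minFac_dvd _, ?_⟩
          intro hd
          haveI : Fact (Nat.minFac (Nat.card T)).Prime := ⟨hmf⟩
          obtain ⟨P⟩ : Nonempty (Sylow (Nat.minFac (Nat.card T)) T) := inferInstance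
          have h1 := Sylow.card_dvd_index P
          have h2 : (P : Subgroup T).index ∣ Nat.card T := Subgroup.index_dvd_card _
          exact hpT (dvd_trans hd (dvd_trans h1 h2))
      haveI := hr
      letI : MulDistribMulAction H T :=
        MulDistribMulAction.compHom T ((MulAut.conjNormal : G →* MulAut T).comp H.subtype)
      obtain ⟨R, hR⟩ := hHp.nonempty_fixed_point_of_prime_not_dvd_card (Sylow r T) hrS
      set U : Subgroup G := (R : Subgroup T).map T.subtype with hUdef
      have hUT : U ≤ T := Subgroup.map_subtype_le _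
      have hU : U ≠ ⊥ := by
        intro h
        have : (R : Subgroup T) = ⊥ := by
          rw [← Subgroup.map_eq_bot_iff_of_injective _ T.subtype_injective]; exact h
        exact R.ne_bot_of_dvd_card hrT this
      have hinv : ∀ h ∈ H, ∀ u ∈ U, h * u * h⁻¹ ∈ U := by
        intro h hh u hu
        obtain ⟨t, ht, rfl⟩ := hu
        have hfix : (⟨h, hh⟩ : H) • R = R := hR ⟨h, hh⟩
        have hmem : (⟨h, hh⟩ : H) • t ∈ (((⟨h, hh⟩ : H) • R : Sylow r T) : Subgroup T) := by
          rw [Sylow.pointwise_smul_def]
          exact Subgroup.smul_mem_pointwise_smul _ _ _ ht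
        rw [hfix] at hmem
        refine ⟨_, hmem, ?_⟩
        rfl
      have hUeq := claim1 T H U hT hmax hHT hUT hU hinv
      have hRtop : (R : Subgroup T) = ⊤ := by
        apply Subgroup.map_injective T.subtype_injective
        rw [← hUdef, hUeq]
        ext x
        constructor
        · intro hx
          exact ⟨⟨x, hx⟩, trivial, rfl⟩
        · rintro ⟨t, -, rfl⟩
          exact t.2
      have hTr : IsPGroup r T := by
        intro t
        obtain ⟨k, hk⟩ := R.2 ⟨t, by rw [hRtop]; trivial⟩
        exact ⟨k, by simpa using congrArg Subtype.val hk⟩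
      exact hTc (simple_pgroup_comm r hTr)
    · -- H ≤ T, so T = ⊤
      rw [Subgroup.subgroupOf_eq_top] at h0
      have hTtop : T = ⊤ := by
        rw [← htop]; exact (sup_eq_right.mpr h0).symm
      subst hTtop
      haveI := hT
      haveI : Nontrivial G := (Subgroup.topEquiv (G := G)).injective.nontrivial
      haveI : IsSimpleGroup G :=
        IsSimpleGroup.isSimpleGroup_of_surjective (Subgroup.topEquiv (G := G)).toMonoidHom
          (Subgroup.topEquiv (G := G)).surjective
      have hnc : ¬ IsMulCommutative G := by
        intro hc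
        apply hTc
        constructor; constructor
        intro a b
        exact Subtype.ext (hc.is_comm.comm (a : G) (b : G))
      exact simple_case hnc H hmax hp

end Cfsg.Agent.S3498
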