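import Mathlib
import Cfsg.Statements.S3504

set_option autoImplicit false
open Cfsg

namespace Cfsg.Agent.S3504

theorem exists_perm (n q : ℕ) (hq : q.Prime) (hqn : q ∣ n) (hn : 0 < n) :
    ∃ g : Equiv.Perm (Fin n), orderOf g = q ∧ (∀ i, g i ≠ i) ∧
      g.cycleType = Multiset.replicate (n / q) q := by
  obtain ⟨k, rfl⟩ := hqn
  have hk : 0 < k := Nat.pos_of_mul_pos_left hn
  have hdiv : q * k / q = k := Nat.mul_div_cancel_left k hq.pos
  obtain ⟨g, hg⟩ := (Equiv.Perm.exists_with_cycleType_iff (Fin (q * k))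
    (m := Multiset.replicate k q)).mpr
    ⟨by simp [mul_comm], fun a ha => by rw [Multiset.eq_of_mem_replicate ha]; exact hq.two_le⟩
  refine ⟨g, ?_, ?_, by rw [hdiv]; exact hg⟩
  · rw [← Equiv.Perm.lcm_cycleType, hg]
    apply Nat.dvd_antisymm
    · apply Multiset.lcm_dvd.mpr
      intro b hb; rw [Multiset.eq_of_mem_replicate hb]
    · apply Multiset.dvd_lcm
      rw [Multiset.mem_replicate]; exact ⟨hk.ne', rfl⟩
  · have hsupp : g.support.card = q * k := by
      rw [← Equiv.Perm.sum_cycleType, hg, Multiset.sum_replicate, smul_eq_mul, mul_comm]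
    have : g.support = Finset.univ := by
      rw [← Finset.card_eq_iff_eq_univ, hsupp, Fintype.card_fin]
    intro i
    rw [← Equiv.Perm.mem_support, this]; exact Finset.mem_univ i

theorem cycleType_of_derangement (n : ℕ) (g : Equiv.Perm (Fin n)) (hord : (orderOf g).Prime)
    (hder : ∀ i, g i ≠ i) :
    orderOf g ∣ n ∧ g.cycleType = Multiset.replicate (n / orderOf g) (orderOf g) := by
  obtain ⟨m, hm⟩ := Equiv.Perm.cycleType_prime_order hord
  have hsupp : g.support = Finset.univ := by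
    ext i; simp [Equiv.Perm.mem_support, hder i]
  have hsum : (m + 1) * orderOf g = n := by
    have := Equiv.Perm.sum_cycleType g
    rw [hm, Multiset.sum_replicate, smul_eq_mul, hsupp, Finset.card_univ, Fintype.card_fin] at this
    exact this
  refine ⟨⟨m + 1, by rw [mul_comm]; exact hsum.symm⟩, ?_⟩
  have : n / orderOf g = m + 1 := Nat.div_eq_of_eq_mul_left hord.pos hsum.symm
  rw [this, hm]

theorem result (n : ℕ) (hn : 5 ≤ n) :
    Nat.card {c : ConjClasses (Equiv.Perm (Fin n)) // ∃ g : Equiv.Perm (Fin n), ConjClasses.mk g = c ∧ (orderOf g).Prime ∧ ∀ i : Fin n, g i ≠ i} = 1 ↔ IsPrimePow n := by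
  have hn0 : 0 < n := by omega
  rw [Nat.card_eq_one_iff_unique]
  constructor
  · rintro ⟨hsub, _⟩
    obtain ⟨q, hq, hqn⟩ := Nat.exists_prime_and_dvd (show n ≠ 1 by omega)
    have huniq : ∀ {d : ℕ}, Nat.Prime d → d ∣ n → d = q := by
      intro d hd hdn
      obtain ⟨g₁, ho₁, hder₁, hc₁⟩ := exists_perm n q hq hqn hn0
      obtain ⟨g₂, ho₂, hder₂, hc₂⟩ := exists_perm n d hd hdn hn0
      have heq := @Subsingleton.elim _ hsub
        (⟨ConjClasses.mk g₁, g₁, rfl, by rw [ho₁]; exact hq, hder₁⟩ :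
          {c : ConjClasses (Equiv.Perm (Fin n)) // ∃ g : Equiv.Perm (Fin n), ConjClasses.mk g = c ∧ (orderOf g).Prime ∧ ∀ i : Fin n, g i ≠ i})
        ⟨ConjClasses.mk g₂, g₂, rfl, by rw [ho₂]; exact hd, hder₂⟩
      have h1 : ConjClasses.mk g₁ = ConjClasses.mk g₂ := congrArg Subtype.val heq
      rw [ConjClasses.mk_eq_mk_iff_isConj, Equiv.Perm.isConj_iff_cycleType_eq] at h1
      rw [← ho₁, ← ho₂, ← Equiv.Perm.lcm_cycleType, ← Equiv.Perm.lcm_cycleType, h1]
    have hpow := Nat.eq_prime_pow_of_unique_prime_dvd (by omega : n ≠ 0) huniq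
    rw [isPrimePow_nat_iff]
    refine ⟨q, n.primeFactorsList.length, hq, ?_, hpow.symm⟩
    rcases Nat.eq_zero_or_pos n.primeFactorsList.length with h0 | h0
    · rw [h0, pow_zero] at hpow; omega
    · exact h0
  · intro hpp
    rw [isPrimePow_nat_iff] at hpp
    obtain ⟨q, k, hq, hk, hqk⟩ := hpp
    have hqn : q ∣ n := by rw [← hqk]; exact dvd_pow_self q hk.ne'
    constructor
    · constructor
      rintro ⟨c₁, g₁, hg₁, ho₁, hder₁⟩ ⟨c₂, g₂, hg₂, ho₂, hder₂⟩
      apply Subtype.ext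
      change c₁ = c₂
      rw [← hg₁, ← hg₂, ConjClasses.mk_eq_mk_iff_isConj, Equiv.Perm.isConj_iff_cycleType_eq]
      obtain ⟨hd₁, hc₁⟩ := cycleType_of_derangement n g₁ ho₁ hder₁
      obtain ⟨hd₂, hc₂⟩ := cycleType_of_derangement n g₂ ho₂ hder₂
      have e₁ : orderOf g₁ = q := by
        exact (Nat.prime_dvd_prime_iff_eq ho₁ hq).mp
          (ho₁.dvd_of_dvd_pow (hd₁.trans (dvd_of_eq hqk.symm)))
      have e₂ : orderOf g₂ = q := by
        exact (Nat.prime_dvd_prime_iff_eq ho₂ hq).mp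
          (ho₂.dvd_of_dvd_pow (hd₂.trans (dvd_of_eq hqk.symm)))
      rw [hc₁, hc₂, e₁, e₂]
    · obtain ⟨g, ho, hder, _⟩ := exists_perm n q hq hqn hn0
      exact ⟨⟨ConjClasses.mk g, g, rfl, by rw [ho]; exact hq, hder⟩⟩

end Cfsg.Agent.S3504
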