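import Mathlib
import Cfsg.Statements.S3508

set_option autoImplicit false
open Cfsg

namespace Cfsg.Agent.S3508

open Polynomial in
theorem lemmaA {p : ℕ} [Fact p.Prime] {V : Type*} [AddCommGroup V] [Module (ZMod p) V] [Finite V]
    (c : Module.End (ZMod p) V) (r : ℕ) (hc : c ^ (p ^ r) = 1) (k : ℕ)
    (hk : Module.finrank (ZMod p) V < p ^ k) :
    c ^ (p ^ k) = 1 ∧ ∑ i ∈ Finset.range (p ^ k), c ^ i = 0 := by
  have hpoly : ∀ j : ℕ, ((X : (ZMod p)[X]) - 1) ^ (p ^ j) = X ^ (p ^ j) - 1 := by
    intro j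
    rw [sub_pow_char_pow, one_pow]
  have hev : ∀ j : ℕ, (c - 1) ^ (p ^ j) = c ^ (p ^ j) - 1 := by
    intro j
    have := congrArg (aeval c) (hpoly j)
    simpa using this
  have hnil : IsNilpotent (c - 1) := ⟨p ^ r, by rw [hev r, hc, sub_self]⟩
  have hm : (c - 1) ^ Module.finrank (ZMod p) V = 0 := by
    have h1 := IsNilpotent.charpoly_eq_X_pow_finrank hnil
    have h2 := LinearMap.aeval_self_charpoly (c - 1)
    rw [h1] at h2
    simpa using h2
  have hpow : ∀ n : ℕ, Module.finrank (ZMod p) V ≤ n → (c - 1) ^ n = 0 := by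
    intro n hn
    obtain ⟨t, rfl⟩ := Nat.exists_eq_add_of_le hn
    rw [pow_add, hm, zero_mul]
  constructor
  · have := hev k
    rw [hpow _ hk.le] at this
    exact (sub_eq_zero.mp this.symm)
  · have hgeom : (∑ i ∈ Finset.range (p ^ k), (X : (ZMod p)[X]) ^ i) = (X - 1) ^ (p ^ k - 1) := by
      have hne : ((X : (ZMod p)[X]) - 1) ≠ 0 := by
        have := Polynomial.X_sub_C_ne_zero (1 : ZMod p)
        simpa using this
      apply mul_right_cancel₀ hne
      rw [geom_sum_mul, ← pow_succ, Nat.sub_add_cancel (Nat.one_le_two_pow.trans (Nat.pow_le_pow_left (Fact.out : p.Prime).two_le k)), hpoly k]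
    have := congrArg (aeval c) hgeom
    simp only [map_sum, map_pow, aeval_X, map_sub, map_one] at this
    rw [this]
    apply hpow
    omega


theorem two_pow_gt (k : ℕ) (hk : 2 ≤ k) : k + 1 < 2 ^ k := by
  induction k, hk using Nat.le_induction with
  | base => norm_num
  | succ n hn ih => rw [pow_succ]; omega

theorem three_pow_gt (k : ℕ) (hk : 1 ≤ k) : k + 1 < 3 ^ k := by
  induction k, hk using Nat.le_induction with
  | base => norm_num
  | succ n hn ih => rw [pow_succ]; omega

section

/-- conjugation by `g` on the normal subgroup `N` -/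
def cj {G : Type*} [Group G] (N : Subgroup G) [hNn : N.Normal] (g : G) : N →* N where
  toFun n := ⟨g * n * g⁻¹, hNn.conj_mem n n.2 g⟩
  map_one' := by ext; simp
  map_mul' a b := by ext; simp

theorem cj_val {G : Type*} [Group G] (N : Subgroup G) [hNn : N.Normal] (g : G) (n : N) :
    ((cj N g n : N) : G) = g * n * g⁻¹ := rfl

theorem core {G : Type*} [Group G] [Finite G] {Ω : Type*} [Fintype Ω] [MulAction G Ω]
    [FaithfulSMul G Ω] (p m : ℕ) [Fact p.Prime] (hcard : Fintype.card Ω = p ^ m)
    (N : Subgroup G) [hNn : N.Normal]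
    {V : Type*} [iA : AddCommGroup V] [iM : Module (ZMod p) V] [iF : Finite V]
    (e : V ≃ N) (he : ∀ u v, e (u + v) = e u * e v)
    (hNtr : MulAction.IsPretransitive N Ω) (hNreg : ∀ ω : Ω, MulAction.stabilizer N ω = ⊥)
    (g : G) (r : ℕ) (hg : g ^ (p ^ r) = 1) (k : ℕ) (hk : m < p ^ k) : g ^ (p ^ k) = 1 := by
  have he0 : e 0 = 1 := by
    have := he 0 0
    rw [add_zero] at this
    exact (mul_eq_left.mp this.symm)
  -- a point
  have hpos : 0 < Fintype.card Ω := by rw [hcard]; exact pow_pos (Fact.out : p.Prime).pos m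
  obtain ⟨α⟩ := Fintype.card_pos_iff.mp hpos
  -- cardinalities
  have hbij : Function.Bijective (fun n : N => n • α) := by
    constructor
    · intro a b hab
      have hmem : b⁻¹ * a ∈ MulAction.stabilizer N α := by
        rw [MulAction.mem_stabilizer_iff, mul_smul]
        have : a • α = b • α := hab
        rw [this, inv_smul_smul]
      rw [hNreg α, Subgroup.mem_bot, inv_mul_eq_one] at hmem
      exact hmem.symm
    · intro x
      exact MulAction.exists_smul_eq N α x
  have hcardN : Nat.card N = p ^ m := by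
    rw [Nat.card_congr (Equiv.ofBijective _ hbij), Nat.card_eq_fintype_card, hcard]
  have hrank : Module.finrank (ZMod p) V = m := by
    have h1 : Nat.card V = p ^ m := by
      rw [← hcardN]; exact Nat.card_congr e
    rw [Module.natCard_eq_pow_finrank (K := ZMod p) (V := V), Nat.card_zmod] at h1
    exact Nat.pow_right_injective (Fact.out : p.Prime).two_le h1
  -- the linear map
  let c0 : V →+ V :=
    { toFun := fun v => e.symm (cj N g (e v))
      map_zero' := by rw [he0, map_one, ← he0, Equiv.symm_apply_apply]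
      map_add' := fun u v => by
        apply e.injective
        simp only [Equiv.apply_symm_apply, he, map_mul] }
  let c : V →ₗ[ZMod p] V := c0.toZModLinearMap p
  have hc1 : ∀ x : V, e (c x) = cj N g (e x) := fun x => by
    change e (e.symm (cj N g (e x))) = _
    rw [Equiv.apply_symm_apply]
  have hcpow : ∀ (i : ℕ) (x : V), e ((c ^ i) x) = cj N (g ^ i) (e x) := by
    intro i
    induction i with
    | zero =>
      intro x
      rw [pow_zero, Module.End.one_apply, pow_zero]
      ext
      rw [cj_val]; simp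
    | succ i ih =>
      intro x
      rw [pow_succ', Module.End.mul_apply, hc1, ih]
      ext
      rw [cj_val, cj_val, cj_val, pow_succ']
      group
  have hcr : c ^ (p ^ r) = 1 := by
    apply LinearMap.ext
    intro x
    apply e.injective
    rw [hcpow, hg, Module.End.one_apply]
    ext
    rw [cj_val]; simp
  obtain ⟨hA1, hA2⟩ := lemmaA c r hcr k (by rw [hrank]; exact hk)
  obtain ⟨b, hb⟩ := MulAction.exists_smul_eq N α (g • α)
  have hb' : (b : G) • α = g • α := hb
  have key : ∀ i : ℕ, g ^ i • α =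
      ((e ((∑ j ∈ Finset.range i, c ^ j) (e.symm b)) : N) : G) • α := by
    intro i
    induction i with
    | zero =>
      rw [Finset.range_zero, Finset.sum_empty, LinearMap.zero_apply, he0, pow_zero, one_smul,
        Subgroup.coe_one, one_smul]
    | succ i ih =>
      rw [pow_succ', mul_smul, ih, Finset.sum_range_succ']
      have hsum : ∑ j ∈ Finset.range i, c ^ (j + 1) = c * ∑ j ∈ Finset.range i, c ^ j := by
        rw [Finset.mul_sum]
        apply Finset.sum_congr rfl
        intro j _
        rw [pow_succ']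
      rw [hsum, LinearMap.add_apply, Module.End.mul_apply, pow_zero, Module.End.one_apply, he,
        Equiv.apply_symm_apply, hc1, Subgroup.coe_mul, mul_smul, hb', ← mul_smul, ← mul_smul, cj_val]
      congr 1
      group
  have hα : g ^ (p ^ k) • α = α := by
    rw [key, hA2, LinearMap.zero_apply, he0, Subgroup.coe_one, one_smul]
  apply FaithfulSMul.eq_of_smul_eq_smul (α := Ω)
  intro x
  obtain ⟨n, hn⟩ := MulAction.exists_smul_eq N α x
  have hn' : (n : G) • α = x := hn
  have hcomm : g ^ (p ^ k) * n = n * g ^ (p ^ k) := by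
    have h1 := hcpow (p ^ k) (e.symm n)
    rw [hA1, Module.End.one_apply, Equiv.apply_symm_apply] at h1
    have h2 : (n : G) = g ^ (p ^ k) * n * (g ^ (p ^ k))⁻¹ := by
      have := congrArg (fun y : N => (y : G)) h1
      simpa [cj_val] using this
    calc g ^ (p ^ k) * n = (g ^ (p ^ k) * n * (g ^ (p ^ k))⁻¹) * g ^ (p ^ k) := by group
      _ = n * g ^ (p ^ k) := by rw [← h2]
  rw [one_smul, ← hn', ← mul_smul, hcomm, mul_smul, hα]

theorem pow_eq_one_of_lt {G : Type*} [Group G] [Finite G] {Ω : Type*} [Fintype Ω] [MulAction G Ω]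
    [FaithfulSMul G Ω] (p m : ℕ) [Fact p.Prime] (hcard : Fintype.card Ω = p ^ m)
    (N : Subgroup G) [hNn : N.Normal] (hNc : IsMulCommutative N) (hNp : ∀ n ∈ N, n ^ p = 1)
    (hNtr : MulAction.IsPretransitive N Ω) (hNreg : ∀ ω : Ω, MulAction.stabilizer N ω = ⊥)
    (g : G) (r : ℕ) (hg : g ^ (p ^ r) = 1) (k : ℕ) (hk : m < p ^ k) : g ^ (p ^ k) = 1 := by
  letI iC : CommGroup N := { (inferInstance : Group N) with mul_comm := fun a b => mul_comm' a b }
  letI iA : AddCommGroup (Additive N) := Additive.addCommGroup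
  have hV : ∀ x : Additive N, p • x = 0 := by
    intro x
    apply Additive.toMul.injective
    rw [toMul_nsmul, toMul_zero]
    apply Subtype.ext
    rw [Subgroup.coe_pow, Subgroup.coe_one]
    exact hNp _ (Additive.toMul x).2
  let iM : @Module (ZMod p) (Additive N) _ iA.toAddCommMonoid := AddCommGroup.zmodModule hV
  exact core (V := Additive N) (iA := iA) (iM := iM) (iF := inferInstance) p m hcard N
    Additive.toMul (fun u v => rfl) hNtr hNreg g r hg k hk

end

theorem result {G : Type*} [Group G] [Finite G] {Ω : Type*} [Fintype Ω] [MulAction G Ω] [FaithfulSMul G Ω] (p m : ℕ) (hp : p.Prime) (hcard : Fintype.card Ω = p ^ m)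
    (N : Subgroup G) [N.Normal] (hNc : IsMulCommutative N) (hNp : ∀ n ∈ N, n ^ p = 1)
    (hNtr : MulAction.IsPretransitive N Ω) (hNreg : ∀ ω : Ω, MulAction.stabilizer N ω = ⊥)
    (g : G) (r : ℕ) (hr : 1 ≤ r) (hg : orderOf g = p ^ r) :
    p ^ (r - 1) ≤ m ∧ (r = m → m ≤ 2 ∧ (2 < p → m ≤ 1)) := by
  have : Fact p.Prime := ⟨hp⟩
  have part1 : p ^ (r - 1) ≤ m := by
    by_contra hlt
    push Not at hlt
    have hgr : g ^ (p ^ r) = 1 := by rw [← hg]; exact pow_orderOf_eq_one g
    have hg1 : g ^ (p ^ (r - 1)) = 1 :=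
      pow_eq_one_of_lt p m hcard N hNc hNp hNtr hNreg g r hgr (r - 1) hlt
    have hdvd := orderOf_dvd_of_pow_eq_one hg1
    rw [hg] at hdvd
    have h1 : p ^ r ≤ p ^ (r - 1) := Nat.le_of_dvd (pow_pos hp.pos _) hdvd
    have h2 : p ^ (r - 1) < p ^ r := Nat.pow_lt_pow_right hp.one_lt (by omega)
    omega
  refine ⟨part1, ?_⟩
  intro hrm
  rw [hrm] at part1
  constructor
  · by_contra hcon
    push Not at hcon
    have h1 := two_pow_gt (m - 1) (by omega)
    have h2 : 2 ^ (m - 1) ≤ p ^ (m - 1) := Nat.pow_le_pow_left hp.two_le _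
    omega
  · intro hp2
    by_contra hcon
    push Not at hcon
    have h1 := three_pow_gt (m - 1) (by omega)
    have h2 : 3 ^ (m - 1) ≤ p ^ (m - 1) := Nat.pow_le_pow_left (by omega) _
    omega

end Cfsg.Agent.S3508
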