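import Mathlib
import Cfsg.Statements.S3511

set_option autoImplicit false
open Cfsg

namespace Cfsg.Agent.S3511

variable {G : Type*} [Group G] [Finite G] {Ω : Type*} [MulAction G Ω]

theorem stab_iff (g : G) (ω : Ω) :
    MulAction.stabilizer (Subgroup.zpowers g) ω = ⊥ ↔ ∀ x ∈ Subgroup.zpowers g, x • ω = ω → x = 1 := by
  rw [Subgroup.eq_bot_iff_forall]
  constructor
  · intro h x hx hxω
    have := h ⟨x, hx⟩ (by rw [MulAction.mem_stabilizer_iff]; exact hxω)
    exact congrArg Subtype.val this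
  · intro h x hx
    rw [MulAction.mem_stabilizer_iff] at hx
    exact Subtype.ext (h x.1 x.2 hx)

theorem aux (h : ∀ g : G, Squarefree (orderOf g) → ∃ ω : Ω, ∀ x ∈ Subgroup.zpowers g, x • ω = ω → x = 1) :
    ∀ n : ℕ, ∀ g : G, orderOf g = n → ∃ ω : Ω, ∀ x ∈ Subgroup.zpowers g, x • ω = ω → x = 1 := by
  intro n
  induction n using Nat.strong_induction_on with
  | _ n ih =>
    intro g hg
    by_cases hsq : Squarefree n
    · exact h g (hg ▸ hsq)
    · rw [Nat.squarefree_iff_prime_squarefree] at hsq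
      push_neg at hsq
      obtain ⟨p, hp, hpp⟩ := hsq
      have hn : 0 < n := hg ▸ orderOf_pos g
      have hpn : p ∣ n := dvd_of_mul_left_dvd hpp
      have hord : orderOf (g ^ p) = n / p := by
        rw [orderOf_pow_of_dvd hp.ne_zero (hg ▸ hpn), hg]
      obtain ⟨ω, hω⟩ := ih (n / p) (Nat.div_lt_self hn hp.one_lt) (g ^ p) hord
      refine ⟨ω, ?_⟩
      intro x hx hxω
      by_contra hx1
      have hox : orderOf x ≠ 1 := by rwa [Ne, orderOf_eq_one_iff]
      set q := Nat.minFac (orderOf x) with hq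
      have hqp : q.Prime := Nat.minFac_prime hox
      have hqd : q ∣ orderOf x := Nat.minFac_dvd _
      set y := x ^ (orderOf x / q) with hy
      have hoxpos : 0 < orderOf x := orderOf_pos x
      have hoy : orderOf y = q := by
        rw [hy, orderOf_pow_of_dvd, Nat.div_div_self hqd hoxpos.ne']
        · exact (Nat.div_pos (Nat.le_of_dvd hoxpos hqd) hqp.pos).ne'
        · exact Nat.div_dvd_of_dvd hqd
      have hyz : y ∈ Subgroup.zpowers g := Subgroup.pow_mem _ hx _
      have hyω : y • ω = ω := by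
        have : x ∈ MulAction.stabilizer G ω := hxω
        exact (Subgroup.pow_mem _ this _)
      rw [← mem_powers_iff_mem_zpowers, Submonoid.mem_powers_iff] at hyz
      obtain ⟨j, hj⟩ := hyz
      have hjq : n ∣ j * q := by
        rw [← hg]
        apply orderOf_dvd_of_pow_eq_one
        rw [pow_mul, hj, ← hoy, pow_orderOf_eq_one]
      have hpj : p ∣ j := by
        have h1 : p ∣ j * q := dvd_trans hpn hjq
        rcases (Nat.Prime.dvd_mul hp).mp h1 with h2 | h2
        · exact h2
        · have hpq : p = q := (Nat.prime_dvd_prime_iff_eq hp hqp).mp h2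
          have h3 : p * p ∣ j * p := by rw [← hpq] at hjq; exact dvd_trans hpp hjq
          exact Nat.dvd_of_mul_dvd_mul_right hp.pos h3
      obtain ⟨j', rfl⟩ := hpj
      have hy2 : y ∈ Subgroup.zpowers (g ^ p) := by
        rw [← hj, pow_mul]
        exact Subgroup.pow_mem _ (Subgroup.mem_zpowers _) _
      have := hω y hy2 hyω
      rw [this, orderOf_one] at hoy
      exact hqp.one_lt.ne hoy

theorem result {G : Type*} [Group G] [Finite G] {Ω : Type*} [MulAction G Ω] [FaithfulSMul G Ω]
    (h : ∀ g : G, Squarefree (orderOf g) → ∃ ω : Ω, MulAction.stabilizer (Subgroup.zpowers g) ω = ⊥) (g : G) :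
    ∃ ω : Ω, MulAction.stabilizer (Subgroup.zpowers g) ω = ⊥ := by
  have h' : ∀ g : G, Squarefree (orderOf g) → ∃ ω : Ω, ∀ x ∈ Subgroup.zpowers g, x • ω = ω → x = 1 := by
    intro g hg
    obtain ⟨ω, hω⟩ := h g hg
    exact ⟨ω, (stab_iff g ω).mp hω⟩
  obtain ⟨ω, hω⟩ := aux h' _ g rfl
  exact ⟨ω, (stab_iff g ω).mpr hω⟩

end Cfsg.Agent.S3511
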