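import Mathlib
import Cfsg.Statements.S3514

set_option autoImplicit false
open Cfsg

namespace Cfsg.Agent.S3514

section general
variable {X : Type*} [Group X] {Y : Type*} [MulAction X Y]

/-- orbit–stabilizer as a relative index -/
theorem orbit_card (A : Subgroup X) (y : Y) :
    Nat.card {u : Y | ∃ a ∈ A, a • y = u} = (MulAction.stabilizer X y).relIndex A := by
  have key : (MulAction.stabilizer X y).subgroupOf A = MulAction.stabilizer A y := by
    ext; rfl
  have hset : {u : Y | ∃ a ∈ A, a • y = u} = MulAction.orbit A y := by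
    ext u
    constructor
    · rintro ⟨a, ha, rfl⟩
      exact ⟨⟨a, ha⟩, rfl⟩
    · rintro ⟨⟨a, ha⟩, rfl⟩
      exact ⟨a, ha, rfl⟩
  rw [Subgroup.relIndex, key, MulAction.index_stabilizer, hset]
  rfl

/-- if `C` normalizes `K` and fixes `y` then `K ⊔ C` and `K` have the same orbit on `y` -/
theorem orbit_sup (K C : Subgroup X) (hCK : C ≤ Subgroup.normalizer (K : Set X)) (y : Y)
    (hC : ∀ c ∈ C, c • y = y) :
    {u : Y | ∃ a ∈ K ⊔ C, a • y = u} = {u : Y | ∃ k ∈ K, k • y = u} := by
  ext u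
  constructor
  · rintro ⟨a, ha, rfl⟩
    have key : ∀ a ∈ K ⊔ C, (∀ k ∈ K, ∃ k' ∈ K, a • k • y = k' • y) ∧
        (∀ k ∈ K, ∃ k' ∈ K, a⁻¹ • k • y = k' • y) := by
      intro a ha
      rw [Subgroup.sup_eq_closure] at ha
      induction ha using Subgroup.closure_induction with
      | mem x hx =>
        rcases hx with hx | hx
        · constructor
          · intro k hk
            exact ⟨x * k, K.mul_mem hx hk, by rw [mul_smul]⟩
          · intro k hk
            exact ⟨x⁻¹ * k, K.mul_mem (K.inv_mem hx) hk, by rw [mul_smul]⟩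
        · constructor
          · intro k hk
            refine ⟨x * k * x⁻¹, ((Subgroup.mem_normalizer_iff.mp (hCK hx)) k).mp hk, ?_⟩
            have : x⁻¹ • y = y := by
              have := hC x⁻¹ (C.inv_mem hx); exact this
            rw [mul_smul, mul_smul, this]
          · intro k hk
            refine ⟨x⁻¹ * k * x⁻¹⁻¹, ((Subgroup.mem_normalizer_iff.mp (hCK (C.inv_mem hx))) k).mp hk, ?_⟩
            have : x⁻¹⁻¹ • y = y := by
              rw [inv_inv]; exact hC x hx
            rw [mul_smul, mul_smul, this]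
      | one =>
        constructor
        · intro k hk; exact ⟨k, hk, by simp⟩
        · intro k hk; exact ⟨k, hk, by simp⟩
      | mul a b _ _ iha ihb =>
        constructor
        · intro k hk
          obtain ⟨k₁, hk₁, e₁⟩ := ihb.1 k hk
          obtain ⟨k₂, hk₂, e₂⟩ := iha.1 k₁ hk₁
          exact ⟨k₂, hk₂, by rw [mul_smul, e₁, e₂]⟩
        · intro k hk
          obtain ⟨k₁, hk₁, e₁⟩ := iha.2 k hk
          obtain ⟨k₂, hk₂, e₂⟩ := ihb.2 k₁ hk₁
          exact ⟨k₂, hk₂, by rw [mul_inv_rev, mul_smul, e₁, e₂]⟩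
      | inv a _ iha =>
        constructor
        · exact iha.2
        · intro k hk
          rw [inv_inv]
          exact iha.1 k hk
    obtain ⟨k', hk', e⟩ := (key a ha).1 1 K.one_mem
    rw [one_smul] at e
    exact ⟨k', hk', e.symm⟩
  · rintro ⟨k, hk, rfl⟩
    exact ⟨k, Subgroup.mem_sup_left hk, rfl⟩

theorem relIndex_sup (K C : Subgroup X) (hCK : C ≤ Subgroup.normalizer (K : Set X)) (y : Y)
    (hC : ∀ c ∈ C, c • y = y) :
    (MulAction.stabilizer X y).relIndex (K ⊔ C) = (MulAction.stabilizer X y).relIndex K := by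
  rw [← orbit_card, ← orbit_card, orbit_sup K C hCK y hC]

end general

theorem part1 {X : Type*} [Group X] {Y : Type*} [MulAction X Y] (p : ℕ) (H K : Subgroup X) (y : Y)
    (hKH : K ≤ H) (hHK : H ≤ Subgroup.normalizer (K : Set X))
    (hH : ¬ p ∣ (MulAction.stabilizer X y).relIndex H) :
    ¬ p ∣ (MulAction.stabilizer X y).relIndex K := by
  set S := MulAction.stabilizer X y with hS
  set C := H ⊓ S with hC
  have hCfix : ∀ c ∈ C, c • y = y := fun c hc => hc.2
  have hCK : C ≤ Subgroup.normalizer (K : Set X) := le_trans inf_le_left hHK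
  have h1 := relIndex_sup K C hCK y hCfix
  rw [← hS] at h1
  have hBH : K ⊔ C ≤ H := sup_le hKH inf_le_left
  have hCB : C ≤ K ⊔ C := le_sup_right
  have hSB : S ⊓ (K ⊔ C) = C := by
    apply le_antisymm
    · intro x hx
      exact ⟨hBH hx.2, hx.1⟩
    · intro x hx
      exact ⟨hx.2, hCB hx⟩
  have h2 : S.relIndex (K ⊔ C) = C.relIndex (K ⊔ C) := by
    rw [← Subgroup.inf_relIndex_right, hSB]
  have h3 : C.relIndex (K ⊔ C) * (K ⊔ C).relIndex H = C.relIndex H :=
    Subgroup.relIndex_mul_relIndex _ _ _ hCB hBH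
  have h4 : C.relIndex H = S.relIndex H := by
    rw [hC, inf_comm, Subgroup.inf_relIndex_right]
  intro hd
  apply hH
  rw [← h4, ← h3, ← h2, h1]
  exact Dvd.dvd.mul_right hd _

theorem part2 {X : Type*} [Group X] {Y : Type*} [MulAction X Y] (p : ℕ) (hp : p.Prime) (H N : Subgroup X) (y : Y)
    (hN : ¬ p ∣ Nat.card N) (hHN : H ≤ Subgroup.normalizer (N : Set X))
    (hH : ¬ p ∣ (MulAction.stabilizer X y).relIndex H) :
    ¬ p ∣ (MulAction.stabilizer X y).relIndex (N ⊔ H) := by
  set S := MulAction.stabilizer X y with hS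
  set C := H ⊓ S with hC
  set A := N ⊔ H with hA
  have hHA : H ≤ A := le_sup_right
  have hCH : C ≤ H := inf_le_left
  have hCSA : C ≤ S ⊓ A := by
    intro x hx
    exact ⟨hx.2, hHA hx.1⟩
  have h1 : S.relIndex A = (S ⊓ A).relIndex A := (Subgroup.inf_relIndex_right S A).symm
  have h2 : C.relIndex (S ⊓ A) * (S ⊓ A).relIndex A = C.relIndex A :=
    Subgroup.relIndex_mul_relIndex _ _ _ hCSA inf_le_right
  have h3 : C.relIndex H * H.relIndex A = C.relIndex A :=
    Subgroup.relIndex_mul_relIndex _ _ _ hCH hHA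
  have h4 : C.relIndex H = S.relIndex H := by
    rw [hC, inf_comm, Subgroup.inf_relIndex_right]
  -- H.relIndex A divides |N|
  have h5 : H.relIndex A = H.relIndex N := by
    have := relIndex_sup (Y := X ⧸ H) N H hHN ((1 : X) : X ⧸ H) (by
      intro c hc
      have : c ∈ MulAction.stabilizer X (((1 : X) : X ⧸ H)) := by
        rw [MulAction.stabilizer_quotient]; exact hc
      exact this)
    rw [MulAction.stabilizer_quotient] at this
    exact this
  have h6 : ¬ p ∣ H.relIndex A := by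
    rw [h5]
    intro hd
    exact hN (dvd_trans hd (Subgroup.relIndex_dvd_card H N))
  intro hd
  have : p ∣ C.relIndex A := by
    rw [← h2, ← h1]
    exact Dvd.dvd.mul_left hd _
  rw [← h3, h4] at this
  rcases (Nat.Prime.dvd_mul hp).mp this with h | h
  · exact hH h
  · exact h6 h

theorem result (p : ℕ) [Fact p.Prime] {V : Type*} [AddCommGroup V] [Module (ZMod p) V] [Finite V]
    (H : Subgroup (V ≃ₗ[ZMod p] V)) (hH : ∀ v : V, ¬ p ∣ Nat.card {u : V | ∃ h ∈ H, h v = u}) :
    (∀ K : Subgroup (V ≃ₗ[ZMod p] V), K ≤ H → H ≤ Subgroup.normalizer (K : Set (V ≃ₗ[ZMod p] V)) →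
        ∀ v : V, ¬ p ∣ Nat.card {u : V | ∃ k ∈ K, k v = u}) ∧
    (∀ N : Subgroup (V ≃ₗ[ZMod p] V), ¬ p ∣ Nat.card N → H ≤ Subgroup.normalizer (N : Set (V ≃ₗ[ZMod p] V)) →
        ∀ v : V, ¬ p ∣ Nat.card {u : V | ∃ x ∈ N ⊔ H, x v = u}) := by
  have hconv : ∀ (A : Subgroup (V ≃ₗ[ZMod p] V)) (v : V),
      Nat.card {u : V | ∃ a ∈ A, a v = u} = (MulAction.stabilizer (V ≃ₗ[ZMod p] V) v).relIndex A := by
    intro A v
    rw [← orbit_card]
    rfl
  constructor
  · intro K hKH hHK v
    rw [hconv]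
    apply part1 p H K v hKH hHK
    rw [← hconv]; exact hH v
  · intro N hN hHN v
    rw [hconv]
    apply part2 p (Fact.out) H N v hN hHN
    rw [← hconv]; exact hH v

end Cfsg.Agent.S3514
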