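import Mathlib
import Cfsg.Statements.S3515
import Cfsg.Agent.Lib_helper17_Affine

set_option autoImplicit false
open Cfsg

namespace Cfsg.Agent.S3515

theorem four_points : ∀ v : Fin 2 → ZMod 2, v = ![0,0] ∨ v = ![1,0] ∨ v = ![0,1] ∨ v = ![1,1] := by
  decide

theorem case_two (G : Subgroup (Equiv.Perm (Fin 2 → ZMod 2)))
    (σ : Equiv.Perm (Fin 2 → ZMod 2))
    (hσ : (∀ t : Fin 3 → (Fin 2 → ZMod 2), ∃ g ∈ G, ∀ i, σ (t i) = g (t i))) : σ ∈ G := by
  obtain ⟨g, hgG, hg⟩ := hσ ![![0,0], ![1,0], ![0,1]]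
  have h0 : σ ![0,0] = g ![0,0] := by simpa using hg 0
  have h1 : σ ![1,0] = g ![1,0] := by simpa using hg 1
  have h2 : σ ![0,1] = g ![0,1] := by simpa using hg 2
  have h3 : σ ![1,1] = g ![1,1] := by
    have e : ∀ w : Fin 2 → ZMod 2, g.symm (σ ![1,1]) = w → w = ![1,1] ∨ σ ![1,1] = g w := by
      intro w hw
      right
      rw [← hw, Equiv.apply_symm_apply]
    have d1 : (![1,1] : Fin 2 → ZMod 2) ≠ ![0,0] := by decide
    have d2 : (![1,1] : Fin 2 → ZMod 2) ≠ ![1,0] := by decide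
    have d3 : (![1,1] : Fin 2 → ZMod 2) ≠ ![0,1] := by decide
    rcases four_points (g.symm (σ ![1,1])) with hw | hw | hw | hw
    · exfalso
      have : σ ![1,1] = g ![0,0] := by rw [← hw, Equiv.apply_symm_apply]
      rw [← h0] at this
      exact d1 (σ.injective this)
    · exfalso
      have : σ ![1,1] = g ![1,0] := by rw [← hw, Equiv.apply_symm_apply]
      rw [← h1] at this
      exact d2 (σ.injective this)
    · exfalso
      have : σ ![1,1] = g ![0,1] := by rw [← hw, Equiv.apply_symm_apply]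
      rw [← h2] at this
      exact d3 (σ.injective this)
    · exact (Equiv.symm_apply_eq g).mp hw
  have : σ = g := by
    ext1 x
    rcases four_points x with rfl | rfl | rfl | rfl
    · exact h0
    · exact h1
    · exact h2
    · exact h3
  rw [this]; exact hgG

theorem result (p : ℕ) [Fact p.Prime] (G : Subgroup (Equiv.Perm (Fin 2 → ZMod p)))
    (haff : (G : Set (Equiv.Perm (Fin 2 → ZMod p))) ⊆ {τ : Equiv.Perm (Fin 2 → ZMod p) | ∃ (A : (Fin 2 → ZMod p) ≃ₗ[ZMod p] (Fin 2 → ZMod p)) (b : Fin 2 → ZMod p), ∀ x, τ x = A x + b})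
    (htrans : ∀ b : Fin 2 → ZMod p, ∃ g ∈ G, ∀ x, g x = x + b) (hprim : MulAction.IsPreprimitive G (Fin 2 → ZMod p))
    (σ : Equiv.Perm (Fin 2 → ZMod p)) (hσ : (∀ t : Fin 3 → (Fin 2 → ZMod p), ∃ g ∈ G, ∀ i, σ (t i) = g (t i))) : σ ∈ G := by
  by_cases hp : p = 2
  · subst hp
    exact case_two G σ hσ
  · have h2 : (2 : ZMod p) ≠ 0 := Cfsg.Agent.helper17.two_ne_zero_zmod hp
    obtain ⟨A₀, b₀, hA₀⟩ := Cfsg.Agent.helper17.affine_of_triples h2 σ (by
      intro x y z
      obtain ⟨g, hgG, hg⟩ := hσ ![x, y, z]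
      obtain ⟨A, b, hAb⟩ := haff hgG
      refine ⟨A, b, ?_, ?_, ?_⟩
      · rw [← hAb]; simpa using hg 0
      · rw [← hAb]; simpa using hg 1
      · rw [← hAb]; simpa using hg 2)
    obtain ⟨g, hgG, hg⟩ := hσ (fun j => Fin.cases 0 (fun i : Fin 2 => Pi.single i 1) j)
    obtain ⟨A, b, hAb⟩ := haff hgG
    have hb : b₀ = b := by
      have := hg 0
      simp only [Fin.cases_zero] at this
      rw [hA₀, hAb, map_zero, map_zero, zero_add, zero_add] at this
      exact this
    have hA : (A₀ : (Fin 2 → ZMod p) →ₗ[ZMod p] (Fin 2 → ZMod p)) = A := by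
      apply Cfsg.Agent.helper17.linearMap_ext_single
      intro i
      have := hg i.succ
      simp only [Fin.cases_succ] at this
      rw [hA₀, hAb, hb] at this
      exact add_right_cancel this
    have : σ = g := by
      ext1 x
      rw [hA₀, hAb, hb]
      congr 1
      exact LinearMap.congr_fun hA x
    rw [this]; exact hgG

end Cfsg.Agent.S3515
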