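import Mathlib
import Cfsg.Statements.S3516
import Cfsg.Agent.Lib_helper17_Affine

set_option autoImplicit false
open Cfsg

namespace Cfsg.Agent.S3516

section
variable {K V : Type*} [Field K] [AddCommGroup V] [Module K V] [FiniteDimensional K V]

/-- a linear equiv fixing a proper subspace `W` pointwise with prescribed nonzero determinant -/
theorem exists_fix_det (W : Submodule K V) (hW : W < ⊤) (c : K) (hc : c ≠ 0) :
    ∃ C : V ≃ₗ[K] V, (∀ x ∈ W, C x = x) ∧ LinearMap.det (C : V →ₗ[K] V) = c := by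
  obtain ⟨f, hf0, hfW⟩ := Submodule.exists_le_ker_of_lt_top W hW
  obtain ⟨v, hv⟩ : ∃ v, f v ≠ 0 := by
    by_contra hcon
    push_neg at hcon
    exact hf0 (LinearMap.ext hcon)
  set v' : V := ((c - 1) / f v) • v with hv'
  have hfv' : f v' = c - 1 := by
    rw [hv', map_smul, smul_eq_mul, div_mul_cancel₀ _ hv]
  have hu : IsUnit (1 + f v') := by
    rw [hfv', add_sub_cancel]
    exact isUnit_iff_ne_zero.mpr hc
  refine ⟨LinearEquiv.dilatransvection hu, ?_, ?_⟩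
  · intro x hx
    rw [LinearEquiv.dilatransvection.apply]
    have : f x = 0 := hfW hx
    rw [this, zero_smul, add_zero]
  · rw [LinearEquiv.dilatransvection.coe_toLinearMap, LinearMap.transvection.det, hfv']
    ring

end

theorem result (p : ℕ) [Fact p.Prime] (hp : p ≠ 2) (d : ℕ) (hd : 3 ≤ d) (G : Subgroup (Equiv.Perm (Fin d → ZMod p)))
    (haff : (G : Set (Equiv.Perm (Fin d → ZMod p))) ⊆ {τ : Equiv.Perm (Fin d → ZMod p) | ∃ (A : (Fin d → ZMod p) ≃ₗ[ZMod p] (Fin d → ZMod p)) (b : Fin d → ZMod p), ∀ x, τ x = A x + b})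
    (htrans : ∀ b : Fin d → ZMod p, ∃ g ∈ G, ∀ x, g x = x + b)
    (hsl : ∀ A : (Fin d → ZMod p) ≃ₗ[ZMod p] (Fin d → ZMod p), LinearMap.det (A : (Fin d → ZMod p) →ₗ[ZMod p] (Fin d → ZMod p)) = 1 → ∃ g ∈ G, ∀ x, g x = A x)
    (σ : Equiv.Perm (Fin d → ZMod p)) :
    (∀ t : Fin 3 → (Fin d → ZMod p), ∃ g ∈ G, ∀ i, σ (t i) = g (t i)) ↔ σ ∈ {τ : Equiv.Perm (Fin d → ZMod p) | ∃ (A : (Fin d → ZMod p) ≃ₗ[ZMod p] (Fin d → ZMod p)) (b : Fin d → ZMod p), ∀ x, τ x = A x + b} := by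
  have h2 : (2 : ZMod p) ≠ 0 := Cfsg.Agent.helper17.two_ne_zero_zmod hp
  constructor
  · intro hσ
    exact Cfsg.Agent.helper17.affine_of_triples h2 σ (by
      intro x y z
      obtain ⟨g, hgG, hg⟩ := hσ ![x, y, z]
      obtain ⟨A, b, hAb⟩ := haff hgG
      refine ⟨A, b, ?_, ?_, ?_⟩
      · rw [← hAb]; simpa using hg 0
      · rw [← hAb]; simpa using hg 1
      · rw [← hAb]; simpa using hg 2)
  · rintro ⟨A, b, hAb⟩ t
    set W : Submodule (ZMod p) (Fin d → ZMod p) :=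
      Submodule.span (ZMod p) (Set.range (fun i : Fin 2 => t i.succ - t 0)) with hW
    have hWlt : W < ⊤ := by
      rw [lt_top_iff_ne_top]
      intro htop
      have h1 : Module.finrank (ZMod p) W ≤ 2 := by
        have := finrank_range_le_card (R := ZMod p) (fun i : Fin 2 => t i.succ - t 0)
        simpa [Set.finrank] using this
      rw [htop, finrank_top, Module.finrank_fin_fun] at h1
      omega
    have hmem : ∀ i : Fin 3, t i - t 0 ∈ W := by
      intro i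
      refine Fin.cases ?_ (fun j => ?_) i
      · rw [sub_self]; exact W.zero_mem
      · exact Submodule.subset_span ⟨j, rfl⟩
    have hdetA : LinearMap.det (A : (Fin d → ZMod p) →ₗ[ZMod p] (Fin d → ZMod p)) ≠ 0 :=
      (LinearEquiv.isUnit_det' A).ne_zero
    obtain ⟨C, hCW, hCdet⟩ := exists_fix_det W hWlt
      (LinearMap.det (A : (Fin d → ZMod p) →ₗ[ZMod p] (Fin d → ZMod p)))⁻¹ (inv_ne_zero hdetA)
    obtain ⟨g₂, hg₂G, hg₂⟩ := hsl (C.trans A) (by
      have : ((C.trans A : (Fin d → ZMod p) ≃ₗ[ZMod p] (Fin d → ZMod p)) :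
          (Fin d → ZMod p) →ₗ[ZMod p] (Fin d → ZMod p)) =
          (A : (Fin d → ZMod p) →ₗ[ZMod p] (Fin d → ZMod p)) *
            (C : (Fin d → ZMod p) →ₗ[ZMod p] (Fin d → ZMod p)) := rfl
      rw [this, map_mul, hCdet, mul_inv_cancel₀ hdetA])
    obtain ⟨g₁, hg₁G, hg₁⟩ := htrans (- t 0)
    obtain ⟨g₃, hg₃G, hg₃⟩ := htrans (A (t 0) + b)
    refine ⟨g₃ * g₂ * g₁, G.mul_mem (G.mul_mem hg₃G hg₂G) hg₁G, fun i => ?_⟩
    rw [Equiv.Perm.mul_apply, Equiv.Perm.mul_apply, hg₁, hg₂, hg₃, hAb, LinearEquiv.trans_apply,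
      ← sub_eq_add_neg, hCW _ (hmem i), map_sub]
    abel

end Cfsg.Agent.S3516
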