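import Mathlib
import Cfsg.Statements.S3517

set_option autoImplicit false
open Cfsg

namespace Cfsg.Agent.S3517

section
variable {K V : Type*} [Field K] [AddCommGroup V] [Module K V] [FiniteDimensional K V]

theorem exists_linearEquiv_of_li {ι : Type*} [Finite ι] (u w : ι → V)
    (hu : LinearIndependent K u) (hw : LinearIndependent K w) :
    ∃ g : V ≃ₗ[K] V, ∀ i, g (u i) = w i := by
  let f : Submodule.span K (Set.range u) ≃ₗ[K] Submodule.span K (Set.range w) :=
    (Module.Basis.span hu).equiv (Module.Basis.span hw) (Equiv.refl ι)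
  obtain ⟨g, hg⟩ := Submodule.exists_linearEquiv_restrict_eq f
  refine ⟨g, fun i => ?_⟩
  have h1 := hg (Module.Basis.span hu i)
  rw [Module.Basis.equiv_apply] at h1
  simp only [Equiv.refl_apply, Module.Basis.span_apply] at h1
  exact h1.symm

theorem exists_single (x y : V) (hx : x ≠ 0) (hy : y ≠ 0) : ∃ g : V ≃ₗ[K] V, g x = y := by
  have hu : LinearIndependent K (fun _ : Unit => x) := LinearIndependent.of_subsingleton () hx
  have hw : LinearIndependent K (fun _ : Unit => y) := LinearIndependent.of_subsingleton () hy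
  obtain ⟨g, hg⟩ := exists_linearEquiv_of_li _ _ hu hw
  exact ⟨g, hg ()⟩

end

theorem li_pair {d : ℕ} (x y : Fin d → ZMod 2) (hx : x ≠ 0) (hy : y ≠ 0) (hxy : x ≠ y) :
    LinearIndependent (ZMod 2) ![x, y] := by
  rw [LinearIndependent.pair_iff]
  intro s t h
  have h2 : ∀ z : Fin d → ZMod 2, z + z = 0 := by
    intro z; ext i; simp [← two_mul]; left; rfl
  have h01 : ∀ z : ZMod 2, z = 0 ∨ z = 1 := by decide
  rcases h01 s with rfl | rfl <;> rcases h01 t with rfl | rfl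
  · simp
  · exfalso; apply hy; simpa using h
  · exfalso; apply hx; simpa using h
  · exfalso; apply hxy
    have h' : x + y = 0 := by simpa using h
    calc x = x + (y + y) := by rw [h2, add_zero]
      _ = (x + y) + y := by abel
      _ = y := by rw [h', zero_add]

theorem result (d : ℕ) (hd : 3 ≤ d) (σ : Equiv.Perm (Fin d → ZMod 2)) (t : Fin 3 → (Fin d → ZMod 2)) :
    ∃ (A : (Fin d → ZMod 2) ≃ₗ[ZMod 2] (Fin d → ZMod 2)) (b : Fin d → ZMod 2), ∀ i, σ (t i) = A (t i) + b := by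
  set u₁ := t 1 - t 0 with hu₁
  set u₂ := t 2 - t 0 with hu₂
  set w₁ := σ (t 1) - σ (t 0) with hw₁
  set w₂ := σ (t 2) - σ (t 0) with hw₂
  have h10 : u₁ = 0 ↔ w₁ = 0 := by
    rw [hu₁, hw₁, sub_eq_zero, sub_eq_zero]
    exact ⟨fun h => by rw [h], fun h => σ.injective h⟩
  have h20 : u₂ = 0 ↔ w₂ = 0 := by
    rw [hu₂, hw₂, sub_eq_zero, sub_eq_zero]
    exact ⟨fun h => by rw [h], fun h => σ.injective h⟩
  have h12 : u₁ = u₂ ↔ w₁ = w₂ := by
    rw [hu₁, hu₂, hw₁, hw₂, sub_left_inj, sub_left_inj]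
    exact ⟨fun h => by rw [h], fun h => σ.injective h⟩
  -- find A with A u₁ = w₁ and A u₂ = w₂
  have hA : ∃ A : (Fin d → ZMod 2) ≃ₗ[ZMod 2] (Fin d → ZMod 2), A u₁ = w₁ ∧ A u₂ = w₂ := by
    by_cases c1 : u₁ = 0
    · by_cases c2 : u₂ = 0
      · refine ⟨LinearEquiv.refl _ _, ?_, ?_⟩
        · rw [c1, h10.mp c1]; simp
        · rw [c2, h20.mp c2]; simp
      · obtain ⟨A, hA⟩ := exists_single (K := ZMod 2) u₂ w₂ c2 (fun h => c2 (h20.mpr h))
        refine ⟨A, ?_, hA⟩
        rw [c1, h10.mp c1, map_zero]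
    · by_cases c2 : u₂ = 0
      · obtain ⟨A, hA⟩ := exists_single (K := ZMod 2) u₁ w₁ c1 (fun h => c1 (h10.mpr h))
        refine ⟨A, hA, ?_⟩
        rw [c2, h20.mp c2, map_zero]
      · by_cases c3 : u₁ = u₂
        · obtain ⟨A, hA⟩ := exists_single (K := ZMod 2) u₁ w₁ c1 (fun h => c1 (h10.mpr h))
          refine ⟨A, hA, ?_⟩
          rw [← c3, ← h12.mp c3]; exact hA
        · have hu := li_pair u₁ u₂ c1 c2 c3
          have hw := li_pair w₁ w₂ (fun h => c1 (h10.mpr h)) (fun h => c2 (h20.mpr h))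
            (fun h => c3 (h12.mpr h))
          obtain ⟨A, hA⟩ := exists_linearEquiv_of_li _ _ hu hw
          exact ⟨A, by simpa using hA 0, by simpa using hA 1⟩
  obtain ⟨A, hA1, hA2⟩ := hA
  refine ⟨A, σ (t 0) - A (t 0), ?_⟩
  intro i
  fin_cases i
  · simp
  · have : A (t 1) = A u₁ + A (t 0) := by rw [hu₁, map_sub]; abel
    show σ (t 1) = A (t 1) + (σ (t 0) - A (t 0))
    rw [this, hA1, hw₁]; abel
  · have : A (t 2) = A u₂ + A (t 0) := by rw [hu₂, map_sub]; abel
    show σ (t 2) = A (t 2) + (σ (t 0) - A (t 0))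
    rw [this, hA2, hw₂]; abel

end Cfsg.Agent.S3517
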