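import Mathlib
import Cfsg.Statements.S3518
import Cfsg.Agent.Lib_helper17_Redei

set_option autoImplicit false
open Cfsg

namespace Cfsg.Agent.S3518

open Cfsg.Agent.helper17

variable {p : ℕ} [hp : Fact p.Prime]

/-- two affine maps agreeing at `0` and `1` agree everywhere -/
theorem affine_ext (a a' b b' : ZMod p) (h0 : a * 0 + b = a' * 0 + b') (h1 : a * 1 + b = a' * 1 + b') :
    a = a' ∧ b = b' := by
  have hb : b = b' := by simpa using h0
  have ha : a = a' := by
    rw [hb] at h1
    simpa using h1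
  exact ⟨ha, hb⟩

/-- the group of slopes of a subgroup of the affine group -/
def slopes (G : Subgroup (Equiv.Perm (ZMod p))) : Subgroup (ZMod p)ˣ where
  carrier := {a | ∃ g ∈ G, ∃ b : ZMod p, ∀ x, g x = (a : ZMod p) * x + b}
  one_mem' := ⟨1, G.one_mem, 0, fun x => by simp⟩
  mul_mem' := by
    rintro a c ⟨g, hg, b, hgb⟩ ⟨h, hh, d, hhd⟩
    refine ⟨g * h, G.mul_mem hg hh, (a : ZMod p) * d + b, fun x => ?_⟩
    simp only [Equiv.Perm.coe_mul, Function.comp_apply, hhd, hgb, Units.val_mul, mul_add, mul_assoc,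
      add_assoc]
  inv_mem' := by
    rintro a ⟨g, hg, b, hgb⟩
    refine ⟨g⁻¹, G.inv_mem hg, -((a⁻¹ : (ZMod p)ˣ) : ZMod p) * b, fun x => ?_⟩
    apply g.injective
    rw [Equiv.Perm.inv_def, Equiv.apply_symm_apply, hgb, mul_add, ← mul_assoc, Units.mul_inv, one_mul,
      neg_mul, mul_neg, ← mul_assoc, Units.mul_inv, one_mul, neg_add_cancel_right]

theorem result (p : ℕ) [Fact p.Prime] (G : Subgroup (Equiv.Perm (ZMod p))) (hG : G ≤ Cfsg.affineGroup (ZMod p))
    (htrans : ∀ b : ZMod p, ∃ g ∈ G, ∀ x, g x = x + b) :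
    (G ≠ Cfsg.affineGroup (ZMod p) → ∀ σ : Equiv.Perm (ZMod p), (∀ t : Fin 2 → ZMod p, ∃ g ∈ G, ∀ i, σ (t i) = g (t i)) → σ ∈ G) ∧
    (∀ σ : Equiv.Perm (ZMod p), (∀ t : Fin 2 → ZMod p, ∃ g ∈ Cfsg.affineGroup (ZMod p), ∀ i, σ (t i) = g (t i))) ∧
    (∀ σ : Equiv.Perm (ZMod p), (∀ t : Fin 3 → ZMod p, ∃ g ∈ Cfsg.affineGroup (ZMod p), ∀ i, σ (t i) = g (t i)) → σ ∈ Cfsg.affineGroup (ZMod p)) := by
  classical
  have hpp : p.Prime := Fact.out
  have h01 : (0 : ZMod p) ≠ 1 := zero_ne_one
  refine ⟨?_, ?_, ?_⟩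
  · intro hne σ hσ
    -- the slopes form a proper subgroup
    have hproper : slopes G ≠ ⊤ := by
      intro htop
      apply hne
      apply le_antisymm hG
      rintro τ ⟨a, b, hτ⟩
      have ha : a ∈ slopes G := by rw [htop]; trivial
      obtain ⟨g, hg, b', hgb⟩ := ha
      obtain ⟨t, ht, htb⟩ := htrans (b - b')
      have : τ = t * g := by
        ext x
        simp only [Equiv.Perm.coe_mul, Function.comp_apply, htb, hgb, hτ]
        ring
      rw [this]
      exact G.mul_mem ht hg
    have hcard : 2 * Nat.card (slopes G) + 1 ≤ p := by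
      have hdvd : Nat.card (slopes G) ∣ p - 1 := by
        have := Subgroup.card_subgroup_dvd_card (slopes G)
        rwa [Nat.card_eq_fintype_card (α := (ZMod p)ˣ), ZMod.card_units] at this
      have hne' : Nat.card (slopes G) ≠ p - 1 := by
        intro h
        apply hproper
        apply Subgroup.eq_top_of_card_eq
        rw [h, Nat.card_eq_fintype_card (α := (ZMod p)ˣ), ZMod.card_units]
      obtain ⟨e, he⟩ := hdvd
      have hp1 : 1 ≤ p := hpp.one_lt.le
      have he0 : e ≠ 0 := by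
        rintro rfl
        have := hpp.two_le
        omega
      have he1 : e ≠ 1 := by
        rintro rfl
        apply hne'
        omega
      have he2 : 2 ≤ e := by omega
      have : 2 * Nat.card (slopes G) ≤ Nat.card (slopes G) * e := by
        rw [mul_comm]; exact Nat.mul_le_mul_left _ he2
      omega
    -- the finite set of slopes
    set B : Finset (ZMod p) := Finset.univ.filter (fun m => ∃ a ∈ slopes G, (a : ZMod p) = m) with hB
    have hBcard : B.card ≤ Nat.card (slopes G) := by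
      have : B = Finset.univ.image (fun a : slopes G => ((a : (ZMod p)ˣ) : ZMod p)) := by
        ext m
        simp only [hB, Finset.mem_filter, Finset.mem_univ, true_and, Finset.mem_image]
        constructor
        · rintro ⟨a, ha, rfl⟩
          exact ⟨⟨a, ha⟩, rfl⟩
        · rintro ⟨a, rfl⟩
          exact ⟨a.1, a.2, rfl⟩
      rw [this, Nat.card_eq_fintype_card]
      exact Finset.card_image_le.trans (le_of_eq (Finset.card_univ))
    have hslope : ∀ x y : ZMod p, x ≠ y → ∃ m ∈ B, σ x - σ y = m * (x - y) := by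
      intro x y _
      obtain ⟨g, hg, hgt⟩ := hσ ![x, y]
      have hx : σ x = g x := hgt 0
      have hy : σ y = g y := hgt 1
      obtain ⟨a, b, hgab⟩ := hG hg
      refine ⟨(a : ZMod p), ?_, ?_⟩
      · simp only [hB, Finset.mem_filter, Finset.mem_univ, true_and]
        exact ⟨a, ⟨g, hg, b, hgab⟩, rfl⟩
      · rw [hx, hy, hgab, hgab]; ring
    obtain ⟨a, b, hab⟩ := affine_of_few_slopes (fun x => σ x) B (by omega) hslope
    -- σ coincides with an element of G
    obtain ⟨g, hg, hgt⟩ := hσ ![0, 1]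
    have h0 : σ 0 = g 0 := hgt 0
    have h1 : σ 1 = g 1 := hgt 1
    obtain ⟨a', b', hgab⟩ := hG hg
    have := affine_ext a (a' : ZMod p) b b' (by rw [← hab, ← hgab]; exact h0)
      (by rw [← hab, ← hgab]; exact h1)
    have hσg : σ = g := by
      ext x
      rw [hab, hgab, this.1, this.2]
    rw [hσg]; exact hg
  · intro σ t
    by_cases h : t 0 = t 1
    · refine ⟨⟨fun x => x + (σ (t 0) - t 0), fun x => x - (σ (t 0) - t 0), fun x => by simp,
        fun x => by simp⟩, ⟨1, σ (t 0) - t 0, fun x => by simp⟩, fun i => ?_⟩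
      fin_cases i
      · simp
      · simp [← h]
    · have hne : t 1 - t 0 ≠ 0 := sub_ne_zero.mpr (Ne.symm h)
      have hσne : σ (t 1) - σ (t 0) ≠ 0 := by
        rw [sub_ne_zero]
        intro h2
        exact h (σ.injective h2).symm
      set a : ZMod p := (σ (t 1) - σ (t 0)) / (t 1 - t 0) with ha
      have ha0 : a ≠ 0 := div_ne_zero hσne hne
      set b : ZMod p := σ (t 0) - a * t 0 with hb
      refine ⟨⟨fun x => a * x + b, fun x => a⁻¹ * (x - b), fun x => by field_simp; ring,
        fun x => by field_simp; ring⟩, ⟨Units.mk0 a ha0, b, fun x => rfl⟩, fun i => ?_⟩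
      fin_cases i
      · simp [hb]
      · simp only [Fin.mk_one, Equiv.coe_fn_mk, hb, ha]
        field_simp
        ring
  · intro σ hσ
    obtain ⟨g, hg, hgt⟩ := hσ ![0, 1, 0]
    have h0 : σ 0 = g 0 := hgt 0
    have h1 : σ 1 = g 1 := hgt 1
    obtain ⟨a, b, hgab⟩ := hg
    have hσg : σ = g := by
      ext x
      obtain ⟨g', hg', hgt'⟩ := hσ ![0, 1, x]
      have h0' : σ 0 = g' 0 := hgt' 0
      have h1' : σ 1 = g' 1 := hgt' 1
      have hx' : σ x = g' x := hgt' 2
      obtain ⟨a', b', hgab'⟩ := hg'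
      have := affine_ext (a : ZMod p) (a' : ZMod p) b b' (by rw [← hgab, ← hgab', ← h0, ← h0'])
        (by rw [← hgab, ← hgab', ← h1, ← h1'])
      rw [hx', hgab', hgab, this.1, this.2]
    rw [hσg]; exact ⟨a, b, hgab⟩

end Cfsg.Agent.S3518
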