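import Cfsg.Statements.S3532
import Cfsg.Agent.Lib_helper12_AffSpec
import Cfsg.Agent.S2475

set_option autoImplicit false
open Cfsg

namespace Cfsg.Agent.S3532

/-- Let q ≥ 4 be a prime power and L = PSL(2,q). There is a finite solvable group with the same set of element orders as L × L (so L × L is not determined by its spectrum). -/
theorem result {F : Type*} [Field F] [Fintype F] (hF : 4 ≤ Fintype.card F) :
    ∃ (H : Type) (_ : Group H) (_ : Finite H), Group.IsSolvable H ∧
      Set.range (orderOf : H → ℕ) = Set.range (orderOf : Matrix.ProjectiveSpecialLinearGroup (Fin 2) F × Matrix.ProjectiveSpecialLinearGroup (Fin 2) F → ℕ) := by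
  obtain ⟨p, hchar⟩ := CharP.exists F
  haveI := hchar
  haveI hp : Fact p.Prime := ⟨CharP.char_is_prime F p⟩
  obtain ⟨n, -, hq⟩ := FiniteField.card F p
  have hspec := Cfsg.Agent.S2475.result (F := F) p hF
  have hn : (n : ℕ) ≠ 0 := n.pos.ne'
  have hqpos : 2 ≤ Fintype.card F := by omega
  refine Cfsg.Agent.helper12.exists_solvable_isospectral_square p n hn
    ((Fintype.card F - 1) / Nat.gcd 2 (Fintype.card F - 1))
    ((Fintype.card F + 1) / Nat.gcd 2 (Fintype.card F - 1)) ?_ ?_ hspec
  · rw [← hq]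
    exact Nat.div_dvd_of_dvd (Nat.gcd_dvd_right _ _)
  · have h2 : p ^ (2 * (n : ℕ)) - 1 = (Fintype.card F - 1) * (Fintype.card F + 1) := by
      rw [pow_mul', ← hq]
      have : 1 ≤ Fintype.card F := by omega
      zify [this, Nat.one_le_pow 2 (Fintype.card F) (by omega)]
      ring
    rw [h2]
    have hpar : Nat.gcd 2 (Fintype.card F - 1) ∣ Fintype.card F + 1 := by
      have h3 : Nat.gcd 2 (Fintype.card F - 1) ∣ 2 := Nat.gcd_dvd_left _ _
      have h4 : Nat.gcd 2 (Fintype.card F - 1) ∣ Fintype.card F - 1 := Nat.gcd_dvd_right _ _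
      have h5 : Fintype.card F + 1 = (Fintype.card F - 1) + 2 := by omega
      rw [h5]
      exact Nat.dvd_add h4 h3
    exact Dvd.dvd.mul_left (Nat.div_dvd_of_dvd hpar) _

end Cfsg.Agent.S3532
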