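import Cfsg.Statements.S3546
import Cfsg.Agent.Lib_helper18_Derangement

set_option autoImplicit false
open Cfsg

namespace Cfsg.Agent.S3546

theorem result {G Ω : Type*} [Group G] [Finite G] [MulAction G Ω] [FaithfulSMul G Ω] [Finite Ω]
    (htrans : MulAction.IsPretransitive G Ω) :
    MulAction.IsPretransitive ↥(Subgroup.closure {g : G | ∀ ω : Ω, g • ω ≠ ω}) Ω ∧
    ∀ g : G, Nat.card (MulAction.fixedBy Ω g) ≠ 1 → g ∈ Subgroup.closure {g : G | ∀ ω : Ω, g • ω ≠ ω} := by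
  obtain ⟨h1, h2⟩ := Cfsg.Agent.helper18.derSubgroup_key (G := G) Ω
  refine ⟨h1, ?_⟩
  intro g hg
  by_contra hgD
  exact hg (h2 g hgD)

end Cfsg.Agent.S3546
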