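import Cfsg.Statements.S3547
import Cfsg.Agent.Lib_helper18_Derangement

set_option autoImplicit false
open Cfsg

namespace Cfsg.Agent.S3547

theorem result {G Ω : Type*} [Group G] [Finite G] [MulAction G Ω] [FaithfulSMul G Ω] [Finite Ω]
    (htrans : MulAction.IsPretransitive G Ω) :
    Nat.card (MulAction.orbitRel.Quotient ↥(Subgroup.closure {g : G | ∀ ω : Ω, g • ω ≠ ω}) (Ω × Ω)) - 1 =
      (Nat.card (MulAction.orbitRel.Quotient G (Ω × Ω)) - 1) * (Subgroup.closure {g : G | ∀ ω : Ω, g • ω ≠ ω}).index :=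
  Cfsg.Agent.helper18.derSubgroup_rank (G := G) Ω

end Cfsg.Agent.S3547
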