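import Cfsg.Statements.S3548
import Cfsg.Agent.Lib_helper18_Derangement2

set_option autoImplicit false
open Cfsg

namespace Cfsg.Agent.S3548

theorem result {G Ω : Type*} [Group G] [Finite G] [MulAction G Ω] [FaithfulSMul G Ω] [Finite Ω]
    (htrans : MulAction.IsPretransitive G Ω) (hΩ : 2 ≤ Nat.card Ω) :
    (Subgroup.closure {g : G | ∀ ω : Ω, g • ω ≠ ω}).index ∣ Nat.card Ω - 1 ∧
    ((Subgroup.closure {g : G | ∀ ω : Ω, g • ω ≠ ω}).index = Nat.card Ω - 1 → IsPrimePow (Nat.card Ω)) :=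
  ⟨Cfsg.Agent.helper18.derSubgroup_index_dvd hΩ,
    fun h => Cfsg.Agent.helper18.derSubgroup_extremal_primePow hΩ h⟩

end Cfsg.Agent.S3548
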