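import Cfsg.Statements.S3554

set_option autoImplicit false
open Cfsg

namespace Cfsg.Agent.S3554

open MulAction in
/-- A normal subgroup contained in a point stabilizer of a transitive faithful action is trivial. -/
lemma normal_le_stabilizer_eq_bot {G Ω : Type*} [Group G] [MulAction G Ω] [FaithfulSMul G Ω]
    [IsPretransitive G Ω] (H : Subgroup G) [H.Normal] (a : Ω) (hH : H ≤ stabilizer G a) : H = ⊥ := by
  rw [eq_bot_iff]
  intro h hh
  rw [Subgroup.mem_bot]
  apply FaithfulSMul.eq_of_smul_eq_smul (α := Ω)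
  intro ω
  obtain ⟨k, rfl⟩ := exists_smul_eq G a ω
  have h1 : k⁻¹ * h * k ∈ H := by
    have := Subgroup.Normal.conj_mem ‹H.Normal› h hh k⁻¹
    simpa using this
  have h2 : (k⁻¹ * h * k) • a = a := hH h1
  rw [one_smul]
  calc h • k • a = k • (k⁻¹ * h * k) • a := by simp [mul_smul]
    _ = k • a := by rw [h2]

/-- A cyclic subgroup generated by an element of a cyclic normal subgroup is normal. -/
lemma zpowers_normal_of_mem_cyclic_normal {G : Type*} [Group G] (C : Subgroup G) (hC : C.Normal)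
    (hcyc : IsCyclic ↥C) (x : G) (hx : x ∈ C) : (Subgroup.zpowers x).Normal := by
  obtain ⟨z, hz⟩ := hcyc.exists_generator
  have hconj : ∀ g : G, ∃ j : ℤ, g * x * g⁻¹ = x ^ j := by
    intro g
    obtain ⟨j, hj⟩ := hz ⟨g * z * g⁻¹, hC.conj_mem z z.2 g⟩
    obtain ⟨i, hi⟩ := hz ⟨x, hx⟩
    have hj' : (z : G) ^ j = g * z * g⁻¹ := by
      have := congrArg Subtype.val hj
      simpa using this
    have hi' : (z : G) ^ i = x := by
      have := congrArg Subtype.val hi
      simpa using this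
    refine ⟨j, ?_⟩
    rw [← hi', ← conj_zpow, ← hj', ← zpow_mul, ← zpow_mul, mul_comm]
  constructor
  intro n hn g
  obtain ⟨k, rfl⟩ := Subgroup.mem_zpowers_iff.mp hn
  obtain ⟨j, hj⟩ := hconj g
  rw [← conj_zpow, hj, ← zpow_mul]
  exact Subgroup.zpow_mem_zpowers x _

theorem result {G Ω : Type*} [Group G] [Finite G] [MulAction G Ω] [FaithfulSMul G Ω] [Finite Ω]
    (htrans : MulAction.IsPretransitive G Ω) (C : Subgroup G) (hC : C.Normal) (hC1 : C ≠ ⊥) (hcyc : IsCyclic ↥C) :
    ∃ g : G, (orderOf g).Prime ∧ ∀ ω : Ω, g • ω ≠ ω := by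
  classical
  have hnt : Nontrivial ↥C := (Subgroup.nontrivial_iff_ne_bot C).mpr hC1
  have hcard : 1 < Nat.card ↥C := Finite.one_lt_card
  obtain ⟨p, hp, hpd⟩ := Nat.exists_prime_and_dvd (n := Nat.card ↥C) (by omega)
  have := Fact.mk hp
  obtain ⟨c, hc⟩ := exists_prime_orderOf_dvd_card' p hpd
  have hxo : orderOf (c : G) = p := by rw [Subgroup.orderOf_coe, hc]
  refine ⟨(c : G), hxo ▸ hp, ?_⟩
  intro ω hω
  have hnorm : (Subgroup.zpowers (c : G)).Normal :=
    zpowers_normal_of_mem_cyclic_normal C hC hcyc c c.2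
  have hle : Subgroup.zpowers (c : G) ≤ MulAction.stabilizer G ω := by
    rw [Subgroup.zpowers_le]
    exact hω
  have hbot := normal_le_stabilizer_eq_bot (Subgroup.zpowers (c : G)) ω hle
  have h1 : (c : G) = 1 := Subgroup.zpowers_eq_bot.mp hbot
  rw [h1, orderOf_one] at hxo
  exact hp.one_lt.ne hxo

end Cfsg.Agent.S3554
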