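import Cfsg.Statements.S3555
import Mathlib
import Cfsg.Agent.Lib_helper18_Derangement
import Cfsg.Agent.S0035

set_option autoImplicit false
set_option linter.unusedSectionVars false
open Cfsg
open scoped Pointwise

namespace Cfsg.Agent.S3555

open MulAction

section counting

variable {G : Type*} (Ω : Type*) [Group G] [Fintype G] [MulAction G Ω] [Fintype Ω] [DecidableEq Ω]

/-- The number of fixed points of `g`. -/
def fx (g : G) : ℕ := (Finset.univ.filter (fun c : Ω => g • c = c)).card

lemma fx_eq_natCard (g : G) : fx Ω g = Nat.card (fixedBy Ω g) := by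
  rw [Nat.card_eq_fintype_card, fx, ← Fintype.card_subtype]
  rfl

lemma sum_fx [IsPretransitive G Ω] [Nonempty Ω] : ∑ g : G, fx Ω g = Fintype.card G := by
  have h := Cfsg.Agent.helper18.burnside_natCard G Ω
  have h1 : Nat.card (orbitRel.Quotient G Ω) = 1 := by
    haveI : Subsingleton (orbitRel.Quotient G Ω) :=
      (MulAction.pretransitive_iff_subsingleton_quotient G Ω).mp inferInstance
    haveI : Nonempty (orbitRel.Quotient G Ω) := ⟨Quotient.mk'' (Classical.arbitrary Ω)⟩
    exact Nat.card_eq_one_iff_unique.mpr ⟨inferInstance, inferInstance⟩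
  rw [h1, one_mul, Nat.card_eq_fintype_card] at h
  rw [← h]
  exact Finset.sum_congr rfl (fun g _ => fx_eq_natCard Ω g)

open Classical in
/-- A chosen element swapping `c` and `c'`, if there is one. -/
noncomputable def swp (G : Type*) [Group G] [MulAction G Ω] (c c' : Ω) : G :=
  if h : ∃ g : G, g • c = c' ∧ g • c' = c then h.choose else 1

lemma swp_spec {c c' : Ω} (h : ∃ g : G, g • c = c' ∧ g • c' = c) :
    swp Ω G c c' • c = c' ∧ swp Ω G c c' • c' = c := by
  unfold swp
  rw [dif_pos h]
  exact h.choose_spec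

lemma sum_fx_sq_le : ∑ g : G, fx Ω (g ^ 2) ≤ ∑ g : G, (fx Ω g) ^ 2 := by
  classical
  let A : Finset (Σ _ : G, Ω) :=
    Finset.univ.sigma (fun g => Finset.univ.filter (fun c : Ω => (g ^ 2) • c = c))
  let B : Finset (Σ _ : G, Ω × Ω) :=
    Finset.univ.sigma (fun g => (Finset.univ.filter (fun c : Ω => g • c = c)) ×ˢ
      (Finset.univ.filter (fun c : Ω => g • c = c)))
  have hA : A.card = ∑ g : G, fx Ω (g ^ 2) := by
    rw [Finset.card_sigma]
    rfl
  have hB : B.card = ∑ g : G, (fx Ω g) ^ 2 := by
    rw [Finset.card_sigma]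
    apply Finset.sum_congr rfl
    intro g _
    rw [Finset.card_product, pow_two]
    rfl
  rw [← hA, ← hB]
  apply Finset.card_le_card_of_injOn
    (fun p : (Σ _ : G, Ω) => (⟨(swp Ω G p.2 (p.1 • p.2))⁻¹ * p.1, (p.2, p.1 • p.2)⟩ : Σ _ : G, Ω × Ω))
  · rintro ⟨g, c⟩ hp
    have hp' : (g ^ 2) • c = c := by
      have := (Finset.mem_sigma.mp hp).2
      exact (Finset.mem_filter.mp this).2
    have hex : ∃ k : G, k • c = g • c ∧ k • (g • c) = c :=
      ⟨g, rfl, by rw [← mul_smul, ← pow_two]; exact hp'⟩
    obtain ⟨h1, h2⟩ := swp_spec Ω hex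
    simp only [Finset.mem_coe]
    rw [Finset.mem_sigma]
    refine ⟨Finset.mem_univ _, ?_⟩
    rw [Finset.mem_product]
    constructor
    · rw [Finset.mem_filter]
      refine ⟨Finset.mem_univ _, ?_⟩
      show ((swp Ω G c (g • c))⁻¹ * g) • c = c
      rw [mul_smul, inv_smul_eq_iff, h1]
    · rw [Finset.mem_filter]
      refine ⟨Finset.mem_univ _, ?_⟩
      show ((swp Ω G c (g • c))⁻¹ * g) • (g • c) = g • c
      rw [mul_smul, inv_smul_eq_iff, h2, ← mul_smul, ← pow_two, hp']
  · rintro ⟨g, c⟩ _ ⟨g', c'⟩ _ heq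
    simp only [Sigma.mk.injEq, heq_eq_eq, Prod.mk.injEq] at heq
    obtain ⟨h1, h2, h3⟩ := heq
    subst h2
    rw [h3] at h1
    have := mul_left_cancel h1
    subst this
    rfl

/-- The main counting result: if all derangements are involutions then every element with a
fixed point has one fixed point or fixes everything. -/
theorem fix_dichotomy [IsPretransitive G Ω] [Nonempty Ω]
    (hinv : ∀ g : G, fx Ω g = 0 → g ^ 2 = 1) :
    ∀ g : G, fx Ω g ≠ 0 → fx Ω g = 1 ∨ fx Ω g = Fintype.card Ω := by
  classical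
  set n : ℤ := (Fintype.card Ω : ℤ) with hn
  set F : G → ℤ := fun g => (fx Ω g : ℤ) with hF
  have hle : ∀ g, F g ≤ n := by
    intro g
    simp only [hF, hn]
    exact_mod_cast Finset.card_le_univ _
  have hnonneg : ∀ g, 0 ≤ F g := fun g => by simp only [hF]; positivity
  have h1 : ∑ g : G, F g = (Fintype.card G : ℤ) := by
    simp only [hF]
    exact_mod_cast sum_fx (G := G) Ω
  have h2 : ∑ g : G, F (g ^ 2) ≤ ∑ g : G, (F g) ^ 2 := by
    simp only [hF]
    exact_mod_cast sum_fx_sq_le (G := G) Ω
  have hc : ∀ g, F g = 0 → F (g ^ 2) = n := by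
    intro g hg
    have hg' : fx Ω g = 0 := by simpa [hF] using hg
    rw [hinv g hg']
    simp only [hF, hn, fx, one_smul, Finset.filter_true_of_mem (fun _ _ => trivial)]
    rfl
  have hc' : ∀ g, F g ≤ F (g ^ 2) := by
    intro g
    simp only [hF, fx]
    norm_cast
    apply Finset.card_le_card
    intro c hc
    rw [Finset.mem_filter] at hc ⊢
    refine ⟨hc.1, ?_⟩
    rw [pow_two, mul_smul, hc.2, hc.2]
  set e : G → ℤ := fun g => if F g = 0 then 0 else (F g - 1) * (n - F g) with he
  have he0 : ∀ g, 0 ≤ e g := by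
    intro g
    simp only [he]
    split_ifs with h
    · exact le_refl _
    · have : 1 ≤ F g := by
        have := hnonneg g
        omega
      exact mul_nonneg (by linarith) (by linarith [hle g])
  have hterm : ∀ g, e g ≤ n * (F g - 1) - ((F g) ^ 2 - F (g ^ 2)) := by
    intro g
    simp only [he]
    split_ifs with h
    · rw [hc g h, h]; ring_nf; exact le_refl _
    · have := hc' g
      nlinarith
  have hsum : ∑ g : G, e g ≤ 0 := by
    calc ∑ g : G, e g ≤ ∑ g : G, (n * (F g - 1) - ((F g) ^ 2 - F (g ^ 2))) :=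
          Finset.sum_le_sum (fun g _ => hterm g)
      _ = n * (∑ g : G, F g - Fintype.card G) - (∑ g : G, (F g) ^ 2 - ∑ g : G, F (g ^ 2)) := by
          rw [Finset.sum_sub_distrib, Finset.sum_sub_distrib, ← Finset.mul_sum,
            Finset.sum_sub_distrib]
          simp
      _ ≤ 0 := by
          rw [h1]
          linarith
  have hzero : ∀ g, e g = 0 := by
    have := (Finset.sum_eq_zero_iff_of_nonneg (fun g _ => he0 g)).mp
      (le_antisymm hsum (Finset.sum_nonneg (fun g _ => he0 g)))
    intro g
    exact this g (Finset.mem_univ g)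
  intro g hg
  have hg' : F g ≠ 0 := by
    simp only [hF]
    exact_mod_cast hg
  have := hzero g
  simp only [he, if_neg hg'] at this
  rcases mul_eq_zero.mp this with h | h
  · left
    have : F g = 1 := by linarith
    simp only [hF] at this
    exact_mod_cast this
  · right
    have : F g = n := by linarith
    simp only [hF, hn] at this
    exact_mod_cast this

end counting

lemma comm_of_sq {G : Type*} [Group G] {a b : G} (ha : a ^ 2 = 1) (hb : b ^ 2 = 1)
    (hab : (a * b) ^ 2 = 1) : a * b = b * a := by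
  have ha' : a⁻¹ = a := by
    rw [inv_eq_iff_mul_eq_one, ← pow_two]; exact ha
  have hb' : b⁻¹ = b := by
    rw [inv_eq_iff_mul_eq_one, ← pow_two]; exact hb
  have h : (a * b)⁻¹ = a * b := by
    rw [inv_eq_iff_mul_eq_one, ← pow_two]; exact hab
  rw [mul_inv_rev, ha', hb'] at h
  exact h.symm

/-- Let G act faithfully and transitively on a finite set and suppose every element of G fixing no point is an involution. Then either G is an elementary abelian 2-group, or G is a Frobenius group whose Frobenius kernel is an elementary abelian 2-group: G has a Frobenius complement H, and the elements lying in no conjugate of H, together with the identity, pairwise commute and square to the identity. -/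
theorem result {G Ω : Type*} [Group G] [Finite G] [MulAction G Ω] [FaithfulSMul G Ω] [Finite Ω]
    (htrans : MulAction.IsPretransitive G Ω) (hinv : ∀ g : G, (∀ ω : Ω, g • ω ≠ ω) → orderOf g = 2) :
    (IsMulCommutative G ∧ ∀ g : G, g ^ 2 = 1) ∨
    (∃ H : Subgroup G, Cfsg.IsFrobeniusComplement H ∧
      (∀ x ∈ Cfsg.frobeniusKernel H, x ^ 2 = 1) ∧
      ∀ x ∈ Cfsg.frobeniusKernel H, ∀ y ∈ Cfsg.frobeniusKernel H, x * y = y * x) := by
  classical
  haveI : Fintype G := Fintype.ofFinite G
  haveI : Fintype Ω := Fintype.ofFinite Ω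
  haveI := htrans
  rcases isEmpty_or_nonempty Ω with hΩ | hΩ
  · left
    have hall : ∀ g : G, g = 1 := fun g =>
      FaithfulSMul.eq_of_smul_eq_smul (α := Ω) (fun x => isEmptyElim x)
    exact ⟨⟨⟨fun a b => by rw [hall a, hall b]⟩⟩, fun g => by rw [hall g, one_pow]⟩
  obtain ⟨a⟩ := hΩ
  haveI : Nonempty Ω := ⟨a⟩
  have hder : ∀ g : G, fx Ω g = 0 → (∀ ω : Ω, g • ω ≠ ω) := by
    intro g hg ω hω
    have hmem : ω ∈ Finset.univ.filter (fun c : Ω => g • c = c) :=
      Finset.mem_filter.mpr ⟨Finset.mem_univ _, hω⟩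
    rw [fx, Finset.card_eq_zero] at hg
    rw [hg] at hmem
    exact Finset.notMem_empty _ hmem
  have hsq : ∀ g : G, (∀ ω : Ω, g • ω ≠ ω) → g ^ 2 = 1 := by
    intro g hg
    have := hinv g hg
    rw [← this]
    exact pow_orderOf_eq_one g
  have hdich := fix_dichotomy Ω (fun g hg => hsq g (hder g hg))
  -- the Frobenius property
  have hfrob : ∀ g : G, g ≠ 1 → ∀ c c' : Ω, g • c = c → g • c' = c' → c = c' := by
    intro g hg c c' hc hc'
    have hmem : c ∈ Finset.univ.filter (fun x : Ω => g • x = x) :=
      Finset.mem_filter.mpr ⟨Finset.mem_univ _, hc⟩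
    have hmem' : c' ∈ Finset.univ.filter (fun x : Ω => g • x = x) :=
      Finset.mem_filter.mpr ⟨Finset.mem_univ _, hc'⟩
    have hne : fx Ω g ≠ 0 := by
      rw [fx]
      exact Finset.card_ne_zero_of_mem hmem
    rcases hdich g hne with h | h
    · exact Finset.card_le_one.mp (le_of_eq h) c hmem c' hmem'
    · exfalso
      apply hg
      apply FaithfulSMul.eq_of_smul_eq_smul (α := Ω)
      intro x
      rw [one_smul]
      have huniv : Finset.univ.filter (fun x : Ω => g • x = x) = Finset.univ :=
        Finset.eq_univ_of_card _ h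
      have hx : x ∈ Finset.univ.filter (fun x : Ω => g • x = x) := by
        rw [huniv]; exact Finset.mem_univ x
      exact (Finset.mem_filter.mp hx).2
  set H := stabilizer G a with hH
  by_cases hHbot : H = ⊥
  · left
    have hall : ∀ g : G, g ^ 2 = 1 := by
      intro g
      by_cases hg : g = 1
      · rw [hg, one_pow]
      · apply hsq
        intro ω hω
        obtain ⟨k, rfl⟩ := exists_smul_eq G a ω
        have hk : k⁻¹ * g * k ∈ H := by
          rw [hH, mem_stabilizer_iff, mul_smul, mul_smul, hω, inv_smul_smul]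
        rw [hHbot, Subgroup.mem_bot] at hk
        apply hg
        have h2 : g = k * (k⁻¹ * g * k) * k⁻¹ := by group
        rw [h2, hk]
        group
    exact ⟨⟨⟨fun x y => comm_of_sq (hall x) (hall y) (hall (x * y))⟩⟩, hall⟩
  · right
    have hHtop : H ≠ ⊤ := by
      intro htop
      apply hHbot
      rw [eq_bot_iff]
      intro g _
      rw [Subgroup.mem_bot]
      apply FaithfulSMul.eq_of_smul_eq_smul (α := Ω)
      intro x
      rw [one_smul]
      obtain ⟨k, rfl⟩ := exists_smul_eq G a x
      have hk : k⁻¹ * g * k ∈ H := htop ▸ Subgroup.mem_top _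
      rw [hH, mem_stabilizer_iff, mul_smul, mul_smul, inv_smul_eq_iff] at hk
      exact hk
    have hFC : Cfsg.IsFrobeniusComplement H := by
      refine ⟨hHbot, hHtop, ?_⟩
      intro g hg
      rw [eq_bot_iff]
      intro x hx
      rw [Subgroup.mem_bot]
      obtain ⟨hx1, hx2⟩ := Subgroup.mem_inf.mp hx
      rw [Cfsg.Agent.helper3.mem_conj_smul_iff] at hx2
      by_contra hx1'
      have h1 : x • a = a := hx1
      have h2 : x • (g • a) = g • a := by
        have h3 : (g⁻¹ * x * g) • a = a := hx2
        rw [mul_smul, mul_smul, inv_smul_eq_iff] at h3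
        exact h3
      have h4 := hfrob x hx1' a (g • a) h1 h2
      exact hg h4.symm
    have hker_sq : ∀ x ∈ Cfsg.frobeniusKernel H, x ^ 2 = 1 := by
      intro x hx
      rcases hx with rfl | hx
      · exact one_pow 2
      · apply hsq
        intro ω hω
        obtain ⟨k, rfl⟩ := exists_smul_eq G a ω
        apply hx k
        rw [Cfsg.Agent.helper3.mem_conj_smul_iff]
        show (k⁻¹ * x * k) • a = a
        rw [mul_smul, mul_smul, hω, inv_smul_smul]
    obtain ⟨N, hN, -, -⟩ := Cfsg.Agent.S0035.result H hFC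
    refine ⟨H, hFC, hker_sq, ?_⟩
    intro x hx y hy
    have hxN : x ∈ N := by
      rw [← SetLike.mem_coe, hN]; exact hx
    have hyN : y ∈ N := by
      rw [← SetLike.mem_coe, hN]; exact hy
    have hxy : x * y ∈ Cfsg.frobeniusKernel H := by
      rw [← hN]; exact N.mul_mem hxN hyN
    exact comm_of_sq (hker_sq x hx) (hker_sq y hy) (hker_sq _ hxy)

end Cfsg.Agent.S3555
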