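import Mathlib
import Cfsg.Statements.S3559
import Cfsg.Agent.Lib_helper20_SchG

set_option autoImplicit false
set_option linter.style.haveILetI false
open Cfsg

namespace Cfsg.Agent.S3559

open Cfsg.Agent.helper20.Sch

/-- Let G act faithfully and transitively on a finite set whose number of points n ≥ 2 is not a prime power, and suppose G has a cyclic subgroup acting regularly (transitively with trivial point stabilizers). Then G is imprimitive or doubly transitive. -/
theorem result {G Ω : Type*} [Group G] [Finite G] [MulAction G Ω] [FaithfulSMul G Ω] [Finite Ω]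
    (htrans : MulAction.IsPretransitive G Ω) (hn : 2 ≤ Nat.card Ω) (hnp : ¬ IsPrimePow (Nat.card Ω))
    (C : Subgroup G) (hcyc : IsCyclic ↥C) (hC : MulAction.IsPretransitive ↥C Ω ∧ ∀ a : Ω, MulAction.stabilizer ↥C a = ⊥) :
    ¬ MulAction.IsPreprimitive G Ω ∨ MulAction.IsMultiplyPretransitive G Ω 2 := by
  by_cases hprim : MulAction.IsPreprimitive G Ω
  swap
  · exact Or.inl hprim
  right
  obtain ⟨hCtr, hCst⟩ := hC
  obtain ⟨c₀, hc₀⟩ := hcyc.exists_generator
  haveI : Nonempty Ω := by
    by_contra h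
    rw [not_nonempty_iff] at h
    rw [Nat.card_of_isEmpty] at hn
    omega
  obtain ⟨ω₀⟩ := ‹Nonempty Ω›
  -- orbit map bijective
  have hfinj : Function.Injective (fun x : C => x • ω₀) := by
    intro x y hxy
    have : y⁻¹ * x ∈ MulAction.stabilizer C ω₀ := by
      rw [MulAction.mem_stabilizer_iff, mul_smul, inv_smul_eq_iff]
      exact hxy
    rw [hCst ω₀, Subgroup.mem_bot] at this
    exact (inv_mul_eq_one.1 this).symm
  have hfsurj : Function.Surjective (fun x : C => x • ω₀) := by
    intro ω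
    exact hCtr.exists_smul_eq ω₀ ω
  have hcard : Nat.card C = Nat.card Ω := Nat.card_eq_of_bijective _ ⟨hfinj, hfsurj⟩
  have hord : orderOf c₀ = Nat.card Ω := by
    rw [← hcard]
    exact orderOf_eq_card_of_forall_mem_zpowers hc₀
  have hc1 : (c₀ : G) ^ (Nat.card Ω) = 1 := by
    rw [← hord, ← Subgroup.coe_pow, pow_orderOf_eq_one, Subgroup.coe_one]
  have hinj : ∀ i j, i < Nat.card Ω → j < Nat.card Ω →
      (c₀ : G) ^ i • ω₀ = (c₀ : G) ^ j • ω₀ → i = j := by
    intro i j hi hj h
    have h' : (c₀ ^ i) • ω₀ = (c₀ ^ j) • ω₀ := by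
      rw [Subgroup.smul_def, Subgroup.smul_def, Subgroup.coe_pow, Subgroup.coe_pow]
      exact h
    have := hfinj h'
    apply pow_injOn_Iio_orderOf (x := c₀)
    · rw [Set.mem_Iio, hord]; exact hi
    · rw [Set.mem_Iio, hord]; exact hj
    · exact this
  have hcomp : ¬ (Nat.card Ω).Prime := fun h => hnp h.isPrimePow
  exact cyclic_two_trans (c₀ : G) (Nat.card Ω) rfl hc1 ω₀ hinj hn hcomp hprim

end Cfsg.Agent.S3559
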