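import Cfsg.Statements.S3560
import Cfsg.Agent.Lib_helper18_Hamming

set_option autoImplicit false
set_option linter.style.longLine false
set_option linter.style.haveILetI false
open Cfsg

namespace Cfsg.Agent.S3560

open Cfsg.Agent.helper18.Ham

/-- Let K be a finite group isomorphic to a direct product of r ≥ 2 groups all of the same order m ≥ 3. Then K is not a B-group: there is a primitive but not doubly transitive permutation group (on some finite set) containing a regular subgroup isomorphic to K. -/
theorem result {K : Type*} [Group K] [Finite K] {ι : Type*} [Fintype ι] (F : ι → Type*) [∀ i, Group (F i)]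
    (hr : 2 ≤ Fintype.card ι) (m : ℕ) (hm : 3 ≤ m) (hcard : ∀ i, Nat.card (F i) = m) (e : K ≃* (∀ i, F i)) :
    ∃ (n : ℕ) (G R : Subgroup (Equiv.Perm (Fin n))), R ≤ G ∧ Nonempty (↥R ≃* K) ∧
      MulAction.IsPretransitive ↥R (Fin n) ∧ (∀ a : Fin n, MulAction.stabilizer ↥R a = ⊥) ∧
      MulAction.IsPreprimitive ↥G (Fin n) ∧ ¬ MulAction.IsMultiplyPretransitive ↥G (Fin n) 2 := by
  classical
  have hfin : ∀ i, Finite (F i) := fun i =>
    Nat.finite_of_card_ne_zero (by rw [hcard i]; omega)
  let β : ∀ i, F i ≃ Fin m := fun i => Finite.equivFinOfCardEq (hcard i)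
  obtain ⟨i, j, hij⟩ := Fintype.one_lt_card_iff.1 (by omega : 1 < Fintype.card ι)
  apply transport (isoGroup ι m) (reg F β e).range
  · rintro _ ⟨k, rfl⟩
    exact reg_mem F β e k
  · exact ⟨(MonoidHom.ofInjective (reg_injective F β e)).symm⟩
  · intro x y
    obtain ⟨k, hk⟩ := reg_transitive F β e x y
    exact ⟨reg F β e k, ⟨k, rfl⟩, hk⟩
  · rintro _ ⟨k, rfl⟩ x hx
    rw [reg_free F β e k x hx, map_one]
  · exact isPreprimitive hm
  · exact not_two_transitive (by omega) i j hij

end Cfsg.Agent.S3560
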