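import Cfsg.Statements.S3573
import Mathlib

set_option autoImplicit false
set_option linter.unusedSectionVars false
open Cfsg

namespace Cfsg.Agent.S3573

open Equiv Equiv.Perm

section
variable {α : Type*} [Fintype α] [DecidableEq α] (σ : Perm α) {r : ℕ}

/-- A `σ`-invariant finset is `σ⁻¹`-invariant. -/
lemma inv_mem_of_inv {U : Finset α} (hU : ∀ y ∈ U, σ y ∈ U) : ∀ y ∈ U, σ⁻¹ y ∈ U := by
  have himg : U.image σ = U := by
    apply Finset.eq_of_subset_of_card_le
    · intro z hz
      obtain ⟨y, hy, rfl⟩ := Finset.mem_image.mp hz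
      exact hU y hy
    · rw [Finset.card_image_of_injective _ σ.injective]
  intro y hy
  rw [← himg] at hy
  obtain ⟨z, hz, rfl⟩ := Finset.mem_image.mp hy
  rw [Perm.inv_def, Equiv.symm_apply_apply]
  exact hz

lemma zpow_mem_of_inv {U : Finset α} (hU : ∀ y ∈ U, σ y ∈ U) (i : ℤ) : ∀ y ∈ U, (σ ^ i) y ∈ U := by
  have hU' := inv_mem_of_inv σ hU
  induction i using Int.induction_on with
  | zero => intro y hy; simpa using hy
  | succ i ih =>
    intro y hy
    rw [zpow_add_one, Perm.mul_apply]
    exact ih _ (hU y hy)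
  | pred i ih =>
    intro y hy
    rw [zpow_sub_one, Perm.mul_apply]
    exact ih _ (hU' y hy)

/-- Removing a cycle. -/
lemma cycle_facts (hr : r.Prime) (hσ : orderOf σ = r) {U : Finset α} (hU : ∀ y ∈ U, σ y ∈ U)
    {x : α} (hxU : x ∈ U) (hx : σ x ≠ x) :
    ∃ C : Finset α, C ⊆ U ∧ C.card = r ∧ (∀ y ∈ C, σ y ∈ C) ∧ (∀ y ∈ U \ C, σ y ∈ U \ C) ∧
      (∀ y ∈ C, σ y ≠ y) := by
  refine ⟨(σ.cycleOf x).support, ?_, ?_, ?_, ?_, ?_⟩
  · intro y hy
    rw [mem_support_cycleOf_iff] at hy
    obtain ⟨i, rfl⟩ := hy.1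
    exact zpow_mem_of_inv σ hU i x hxU
  · have hcyc := isCycle_cycleOf σ hx
    rw [← hcyc.orderOf]
    have hd := orderOf_cycleOf_dvd_orderOf σ x
    rw [hσ] at hd
    rcases (Nat.dvd_prime hr).mp hd with h | h
    · exact absurd (orderOf_eq_one_iff.mp h) hcyc.ne_one
    · exact h
  · intro y hy
    rw [mem_support_cycleOf_iff] at hy ⊢
    exact ⟨sameCycle_apply_right.mpr hy.1, hy.2⟩
  · intro y hy
    rw [Finset.mem_sdiff] at hy ⊢
    refine ⟨hU y hy.1, ?_⟩
    intro h
    apply hy.2
    rw [mem_support_cycleOf_iff] at h ⊢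
    exact ⟨sameCycle_apply_right.mp h.1, h.2⟩
  · intro y hy
    rw [mem_support_cycleOf_iff] at hy
    obtain ⟨i, rfl⟩ := hy.1
    intro h
    apply hx
    have h1 : σ ((σ ^ i) x) = (σ ^ i) (σ x) := by
      rw [← Perm.mul_apply, ← Perm.mul_apply, ← zpow_one_add, ← zpow_add_one, add_comm]
    rw [h1] at h
    exact (σ ^ i).injective h

/-- An invariant set all of whose points are moved has cardinality divisible by `r`. -/
lemma dvd_card_of_moved (hr : r.Prime) (hσ : orderOf σ = r) :
    ∀ (m : ℕ) (V : Finset α), V.card = m → (∀ y ∈ V, σ y ∈ V) → (∀ y ∈ V, σ y ≠ y) → r ∣ m := by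
  intro m
  induction m using Nat.strong_induction_on with
  | _ m ih =>
  intro V hVm hV hmoved
  rcases V.eq_empty_or_nonempty with h | ⟨x, hx⟩
  · rw [← hVm, h, Finset.card_empty]; exact dvd_zero r
  · obtain ⟨C, hCV, hCr, hCinv, hVC, hCm⟩ := cycle_facts σ hr hσ hV hx (hmoved x hx)
    have hcard : (V \ C).card = m - r := by
      rw [Finset.card_sdiff_of_subset hCV, hVm, hCr]
    have hrm : r ≤ m := by
      rw [← hVm, ← hCr]; exact Finset.card_le_card hCV
    have hrpos : 0 < r := hr.pos
    have hlt : m - r < m := by omega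
    have h1 := ih (m - r) hlt (V \ C) hcard hVC
      (fun y hy => hmoved y (Finset.mem_sdiff.mp hy).1)
    have h2 : m = (m - r) + r := by omega
    rw [h2]
    exact Dvd.dvd.add h1 (dvd_refl r)

/-- Existence of an invariant subset of prescribed size. -/
lemma exists_invariant (hr : r.Prime) (hσ : orderOf σ = r) :
    ∀ (m : ℕ) (U : Finset α) (k : ℕ), U.card = m → (∀ y ∈ U, σ y ∈ U) → k ≤ m → k % r ≤ m % r →
      ∃ s ⊆ U, s.card = k ∧ ∀ y ∈ s, σ y ∈ s := by
  intro m
  induction m using Nat.strong_induction_on with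
  | _ m ih =>
  intro U k hUm hU hkm hkr
  by_cases hall : ∀ x ∈ U, σ x = x
  · obtain ⟨s, hsU, hs⟩ := Finset.exists_subset_card_eq (hUm ▸ hkm)
    exact ⟨s, hsU, hs, fun y hy => by rw [hall y (hsU hy)]; exact hy⟩
  · push Not at hall
    obtain ⟨x, hxU, hx⟩ := hall
    obtain ⟨C, hCU, hCr, hCinv, hUC, -⟩ := cycle_facts σ hr hσ hU hxU hx
    have hrpos : 0 < r := hr.pos
    have hrm : r ≤ m := by
      rw [← hUm, ← hCr]; exact Finset.card_le_card hCU
    have hcard : (U \ C).card = m - r := by
      rw [Finset.card_sdiff_of_subset hCU, hUm, hCr]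
    have hmod : (m - r) % r = m % r := by
      conv_rhs => rw [show m = (m - r) + r by omega]
      exact (Nat.add_mod_right _ _).symm
    by_cases hkr' : k < r
    · have hk1 : k % r = k := Nat.mod_eq_of_lt hkr'
      have hk2 : k ≤ m - r := by
        calc k = k % r := hk1.symm
          _ ≤ m % r := hkr
          _ = (m - r) % r := hmod.symm
          _ ≤ m - r := Nat.mod_le _ _
      obtain ⟨s, hs1, hs2, hs3⟩ := ih (m - r) (by omega) (U \ C) k hcard hUC hk2
        (by rw [hmod]; exact hkr)
      exact ⟨s, hs1.trans Finset.sdiff_subset, hs2, hs3⟩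
    · push Not at hkr'
      have hk2 : k - r ≤ m - r := by omega
      have hk3 : (k - r) % r = k % r := by
        conv_rhs => rw [show k = (k - r) + r by omega]
        exact (Nat.add_mod_right _ _).symm
      obtain ⟨s, hs1, hs2, hs3⟩ := ih (m - r) (by omega) (U \ C) (k - r) hcard hUC hk2
        (by rw [hmod, hk3]; exact hkr)
      refine ⟨s ∪ C, Finset.union_subset (hs1.trans Finset.sdiff_subset) hCU, ?_, ?_⟩
      · rw [Finset.card_union_of_disjoint
          (Finset.disjoint_of_subset_left hs1 Finset.sdiff_disjoint), hs2, hCr]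
        omega
      · intro y hy
        rcases Finset.mem_union.mp hy with h | h
        · exact Finset.mem_union_left _ (hs3 y h)
        · exact Finset.mem_union_right _ (hCinv y h)

end

theorem key (n k r : ℕ) (hr : r.Prime) (hrn : r ≤ n) (hkn : k ≤ n) :
    (∀ σ : Perm (Fin n), orderOf σ = r → ∃ s : Finset (Fin n), s.card = k ∧ s.image σ = s) ↔
      k % r ≤ n % r := by
  constructor
  · intro h
    haveI : Fact r.Prime := ⟨hr⟩
    have hex : ∃ g : Perm (Fin n), g.cycleType = Multiset.replicate (n / r) r := by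
      apply (exists_with_cycleType_iff (Fin n)).mpr
      refine ⟨?_, fun a ha => ?_⟩
      · rw [Multiset.sum_replicate, smul_eq_mul, Fintype.card_fin]
        exact Nat.div_mul_le_self n r
      · rw [Multiset.eq_of_mem_replicate ha]; exact hr.two_le
    obtain ⟨σ, hσ⟩ := hex
    have hpow : σ ^ r = 1 :=
      pow_prime_eq_one_iff.mpr (fun c hc => Multiset.eq_of_mem_replicate (hσ ▸ hc))
    have hne : σ ≠ 1 := by
      intro h1
      rw [← cycleType_eq_zero, hσ] at h1
      have h2 := congrArg Multiset.card h1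
      rw [Multiset.card_replicate, Multiset.card_zero] at h2
      have := Nat.div_pos hrn hr.pos
      omega
    have hord : orderOf σ = r := orderOf_eq_prime hpow hne
    obtain ⟨s, hsk, hsimg⟩ := h σ hord
    have hsinv : ∀ y ∈ s, σ y ∈ s := fun y hy => by
      have := Finset.mem_image_of_mem σ hy
      rwa [hsimg] at this
    set V := s.filter (fun y => σ y ≠ y) with hV
    set W := s.filter (fun y => ¬ σ y ≠ y) with hW
    have hVW : V.card + W.card = k := by
      rw [← hsk]
      exact Finset.card_filter_add_card_filter_not (fun y => σ y ≠ y)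
    have hVdvd : r ∣ V.card := by
      apply dvd_card_of_moved σ hr hord _ V rfl
      · intro y hy
        rw [hV, Finset.mem_filter] at hy ⊢
        exact ⟨hsinv y hy.1, fun h => hy.2 (σ.injective h)⟩
      · intro y hy
        rw [hV, Finset.mem_filter] at hy
        exact hy.2
    have hsupp : σ.support.card = n / r * r := by
      rw [← sum_cycleType, hσ, Multiset.sum_replicate, smul_eq_mul]
    have hWle : W.card ≤ n % r := by
      have h1 : W ⊆ σ.supportᶜ := by
        intro y hy
        rw [hW, Finset.mem_filter] at hy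
        rw [Finset.mem_compl, mem_support]
        exact hy.2
      have h2 := Finset.card_le_card h1
      rw [Finset.card_compl, Fintype.card_fin, hsupp] at h2
      have h3 := Nat.div_add_mod n r
      have h4 : n / r * r = r * (n / r) := mul_comm _ _
      omega
    obtain ⟨c, hc⟩ := hVdvd
    have hkmod : k % r = W.card % r := by
      rw [← hVW, hc, Nat.mul_add_mod]
    rw [hkmod]
    exact (Nat.mod_le _ _).trans hWle
  · intro h σ hσ
    obtain ⟨s, -, hs, hinv⟩ := exists_invariant σ hr hσ n Finset.univ k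
      (by rw [Finset.card_univ, Fintype.card_fin]) (fun y _ => Finset.mem_univ _) hkn h
    refine ⟨s, hs, ?_⟩
    apply Finset.eq_of_subset_of_card_le
    · intro z hz
      obtain ⟨y, hy, rfl⟩ := Finset.mem_image.mp hz
      exact hinv y hy
    · rw [Finset.card_image_of_injective _ σ.injective]

lemma not_dvd_choose_of_lt (n k r : ℕ) (hr : r.Prime) (hkr : k < r) (hk : k ≤ n % r) :
    ¬ r ∣ Nat.choose n k := by
  haveI : Fact r.Prime := ⟨hr⟩
  intro hd
  have hL := Choose.choose_modEq_choose_mod_mul_choose_div_nat (p := r) (n := n) (k := k)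
  rw [Nat.mod_eq_of_lt hkr, Nat.div_eq_of_lt hkr, Nat.choose_zero_right, mul_one] at hL
  have hd2 : r ∣ Nat.choose (n % r) k := (hL.dvd_iff (dvd_refl r)).mp hd
  have hfac : Nat.choose (n % r) k ∣ (n % r).factorial := by
    have := Nat.choose_mul_factorial_mul_factorial hk
    rw [mul_assoc] at this
    exact Dvd.intro _ this
  have hd3 : r ∣ (n % r).factorial := hd2.trans hfac
  rw [hr.dvd_factorial] at hd3
  have := Nat.mod_lt n hr.pos
  omega

/-- Let 1 ≤ k with 2k < n and consider the symmetric group of degree n acting on the k-subsets of an n-set. Let r be a prime dividing the number C(n,k) of k-subsets. If r is odd, then every permutation of order r fixes some k-subset if and only if r ≤ k and the remainder of k modulo r is at most the remainder of n modulo r. If r = 2, then every involution fixes some k-subset if and only if k is even or n is odd. -/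
theorem result (n k : ℕ) (hk : 1 ≤ k) (hkn : 2 * k < n) (r : ℕ) (hr : r.Prime) (hrd : r ∣ Nat.choose n k) :
    (r ≠ 2 → ((∀ σ : Equiv.Perm (Fin n), orderOf σ = r → ∃ s : Finset (Fin n), s.card = k ∧ s.image σ = s) ↔
      (r ≤ k ∧ k % r ≤ n % r))) ∧
    (r = 2 → ((∀ σ : Equiv.Perm (Fin n), orderOf σ = 2 → ∃ s : Finset (Fin n), s.card = k ∧ s.image σ = s) ↔
      (Even k ∨ Odd n))) := by
  have hkn' : k ≤ n := by omega
  have hrn : r ≤ n := by
    have h1 : Nat.choose n k ∣ n.factorial := by
      have := Nat.choose_mul_factorial_mul_factorial hkn'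
      rw [mul_assoc] at this
      exact Dvd.intro _ this
    exact hr.dvd_factorial.mp (hrd.trans h1)
  have hkey := key n k r hr hrn hkn'
  constructor
  · intro _
    rw [hkey]
    constructor
    · intro h
      refine ⟨?_, h⟩
      by_contra hlt
      push Not at hlt
      rw [Nat.mod_eq_of_lt hlt] at h
      exact not_dvd_choose_of_lt n k r hr hlt h hrd
    · exact fun h => h.2
  · intro h2
    subst h2
    rw [hkey, Nat.even_iff, Nat.odd_iff]
    have h1 := Nat.mod_lt k (show 0 < 2 by norm_num)
    have h2 := Nat.mod_lt n (show 0 < 2 by norm_num)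
    omega

end Cfsg.Agent.S3573
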