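import Cfsg.Statements.S3575
import Mathlib
import Cfsg.Agent.H16UP5
-- import your own Cfsg.Agent.* helpers here

set_option autoImplicit false
open Cfsg

namespace Cfsg.Agent.S3575

/-- Let a, b ≥ 2 and consider the symmetric group of degree a·b acting on the partitions of an (a·b)-set into b parts of size a (encoded as maps onto a b-element set all of whose fibres have a elements; a permutation fixes such a partition when it permutes the fibres). Let r be a prime dividing the number (ab)!/((a!)^b·b!) of such partitions, and let ℓ and k be the remainders of a and b modulo r. Then every permutation of order r fixes some such partition if and only if r ≤ a and one of the following holds: ℓ = 0; or k = 0 and ℓ = 1; or ℓ and k are non-zero, k·ℓ < r, and either b < r or (k + r)·ℓ ≤ k·a + r. -/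
theorem result (a b : ℕ) (ha : 2 ≤ a) (hb : 2 ≤ b) (r : ℕ) (hr : r.Prime)
    (hrd : r ∣ (a * b).factorial / (a.factorial ^ b * b.factorial)) :
    (∀ σ : Equiv.Perm (Fin (a * b)), orderOf σ = r →
        ∃ f : Fin (a * b) → Fin b, (∀ j : Fin b, Nat.card {x : Fin (a * b) // f x = j} = a) ∧
          ∃ π : Equiv.Perm (Fin b), ∀ x : Fin (a * b), f (σ x) = π (f x)) ↔
      (r ≤ a ∧ (a % r = 0 ∨ (b % r = 0 ∧ a % r = 1) ∨
        (a % r ≠ 0 ∧ b % r ≠ 0 ∧ (b % r) * (a % r) < r ∧ (b < r ∨ (b % r + r) * (a % r) ≤ (b % r) * a + r)))) := by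
  haveI : Fact r.Prime := ⟨hr⟩
  have hrab : r ≤ a * b := H16UP.prime_le_of_dvd_quot a b r (by omega) hr hrd
  have hdm : a = r * (a / r) + a % r := (Nat.div_add_mod a r).symm
  show _ ↔ H16UP.Rhs a b r
  constructor
  · intro H
    apply H16UP.arith2 a b r ha hb hr.two_le hrab
    intro k hk1 hk
    obtain ⟨σ, hσ1, hσ2⟩ := H16UP.exists_perm_support (a * b) r k hr hk
    have hne : σ ≠ 1 := by
      rintro rfl
      simp only [Equiv.Perm.support_one, Finset.card_empty] at hσ2
      have : 0 < k * r := Nat.mul_pos (by omega) hr.pos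
      omega
    have ho : orderOf σ = r := orderOf_eq_prime hσ1 hne
    obtain ⟨f, hf, π, hπ⟩ := H σ ho
    obtain ⟨m, hm1, hm2, hm3⟩ := H16UP.necessary σ hσ1 f hf π hπ (by omega) rfl
    rw [hσ2] at hm2 hm3
    obtain ⟨d, hd⟩ : ∃ d, b = m * r + d := ⟨b - m * r, by omega⟩
    have hbd : b - m * r = d := by omega
    rw [hbd] at hm3
    refine ⟨m, hm1, ?_, ?_⟩
    · have : (m * a) * r ≤ k * r := by nlinarith [hm2]
      exact Nat.le_of_mul_le_mul_right this hr.pos
    · have h1 : k * r ≤ (b * (a / r) + m * (a % r)) * r := by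
        have h2 : a * b = (r * (a / r) + a % r) * (m * r + d) := by rw [← hdm, ← hd]
        rw [h2] at hm3
        rw [hd]
        nlinarith [hm3]
      exact Nat.le_of_mul_le_mul_right h1 hr.pos
  · intro hR σ ho
    have hσr : σ ^ r = 1 := by rw [← ho]; exact pow_orderOf_eq_one σ
    obtain ⟨n, hn⟩ := Equiv.Perm.cycleType_prime_order (σ := σ) (by rw [ho]; exact hr)
    have hs : σ.support.card = (n + 1) * r := by
      rw [← Equiv.Perm.sum_cycleType, hn, ho, Multiset.sum_replicate, smul_eq_mul]
    have hk : (n + 1) * r ≤ a * b := by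
      rw [← hs]
      have := Finset.card_le_univ σ.support
      simpa using this
    obtain ⟨m, hm1, hm2, hm3⟩ := H16UP.arith1 a b r ha hb hr.two_le hR (n + 1) (by omega) hk
    refine H16UP.sufficient a b r m (n + 1) hr hm1 (by omega) hm2 ?_ σ hσr hs
    obtain ⟨d, hd⟩ : ∃ d, b = m * r + d := ⟨b - m * r, by omega⟩
    have hbd : b - m * r = d := by omega
    rw [hbd]
    have h3 : m * a = m * (r * (a / r)) + m * (a % r) := by
      rw [← Nat.mul_add, ← hdm]
    rw [h3]
    rw [hd] at hm3
    nlinarith [hm3]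

end Cfsg.Agent.S3575
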