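import Cfsg.Statements.S3599
import Cfsg.Agent.Lib_helper18_Crit

set_option autoImplicit false
open Cfsg

namespace Cfsg.Agent.S3599

/-- A finite group is critical with respect to a set Ω of natural numbers when its set of element orders is Ω while no proper section H/N (H a subgroup, N normal in H, (H, N) ≠ (whole group, 1)) has Ω as its set of element orders. Let s ≥ 1 and let p(j,0), p(j,1) (j < s) be 2s pairwise distinct primes, and let Ω be the set of all products c(0)·…·c(s−1) with each c(j) ∈ {1, p(j,0), p(j,1)}. Then there are 2^s pairwise non-isomorphic finite groups critical with respect to Ω. -/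
theorem result (s : ℕ) (hs : 1 ≤ s) (p : Fin s → Fin 2 → ℕ)
    (hp : ∀ j i, (p j i).Prime) (hinj : ∀ j i j' i', p j i = p j' i' → j = j' ∧ i = i') :
    ∃ (G : Fin (2 ^ s) → Type) (_ : ∀ a, Group (G a)) (_ : ∀ a, Fintype (G a)),
      (∀ a b, a ≠ b → ¬ Nonempty (G a ≃* G b)) ∧
      ∀ a, Set.range (orderOf : (G a) → ℕ) = {m : ℕ | ∃ c : Fin s → ℕ, (∀ j, c j = 1 ∨ c j = p j 0 ∨ c j = p j 1) ∧ m = ∏ j, c j} ∧
      ∀ (H : Subgroup (G a)) (N : Subgroup ↥H) [N.Normal], (H ≠ ⊤ ∨ N ≠ ⊥) → Set.range (orderOf : (↥H ⧸ N) → ℕ) ≠ {m : ℕ | ∃ c : Fin s → ℕ, (∀ j, c j = 1 ∨ c j = p j 0 ∨ c j = p j 1) ∧ m = ∏ j, c j} := by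
  classical
  have fin2 : ∀ i : Fin 2, (i = 0 ∧ 1 - i = 1) ∨ (i = 1 ∧ 1 - i = 0) := by decide
  have hbase : ∀ (j : Fin s) (i : Fin 2), ∃ (K : Type) (_ : Group K) (_ : Finite K),
      (∀ g : K, orderOf g = 1 ∨ orderOf g = p j 0 ∨ orderOf g = p j 1) ∧
      (∀ c : ℕ, (c = 1 ∨ c = p j 0 ∨ c = p j 1) → ∃ g : K, orderOf g = c) ∧
      ∀ x y : K, (x ^ (p j (1 - i)) * y ^ (p j (1 - i))) ^ (p j i) = 1 := by
    intro j i
    rcases fin2 i with ⟨rfl, h5⟩ | ⟨rfl, h5⟩
    · rw [h5]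
      obtain ⟨K, iG, iF, h1, ⟨gp, hgp⟩, ⟨gq, hgq⟩, h4⟩ :=
        helper18.Crit.base_exists (p j 0) (p j 1) (hp _ _) (hp _ _)
          (fun h => absurd (hinj _ _ _ _ h).2 (by decide))
      refine ⟨K, iG, iF, h1, ?_, h4⟩
      rintro c (rfl | rfl | rfl)
      · exact ⟨1, orderOf_one⟩
      · exact ⟨gp, hgp⟩
      · exact ⟨gq, hgq⟩
    · rw [h5]
      obtain ⟨K, iG, iF, h1, ⟨gp, hgp⟩, ⟨gq, hgq⟩, h4⟩ :=
        helper18.Crit.base_exists (p j 1) (p j 0) (hp _ _) (hp _ _)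
          (fun h => absurd (hinj _ _ _ _ h).2 (by decide))
      refine ⟨K, iG, iF, fun g => ?_, ?_, h4⟩
      · rcases h1 g with h | h | h
        · exact Or.inl h
        · exact Or.inr (Or.inr h)
        · exact Or.inr (Or.inl h)
      · rintro c (rfl | rfl | rfl)
        · exact ⟨1, orderOf_one⟩
        · exact ⟨gq, hgq⟩
        · exact ⟨gp, hgp⟩
  choose K0 hG0 hF0 hK1 hK2 hK3 using hbase
  have hpow : ∀ j i (g : K0 j i), g ^ (p j 0 * p j 1) = 1 := by
    intro j i g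
    apply orderOf_dvd_iff_pow_eq_one.1
    rcases hK1 j i g with h | h | h <;> rw [h]
    · exact one_dvd _
    · exact dvd_mul_right _ _
    · exact dvd_mul_left _ _
  have key : ∀ f : Fin s → Fin 2, ∃ (K' : Type) (_ : Group K') (_ : Finite K'),
      Set.range (orderOf : K' → ℕ) = helper18.Crit.Om s p ∧
      (∀ j, helper18.Crit.Law (p j (f j)) K') ∧
      ∀ (H : Subgroup K') (N : Subgroup H) [N.Normal], (H ≠ ⊤ ∨ N ≠ ⊥) →
        Set.range (orderOf : (H ⧸ N) → ℕ) ≠ helper18.Crit.Om s p := by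
    intro f
    exact helper18.Crit.exists_critical (helper18.Crit.Om s p)
      (fun K _ => ∀ j, helper18.Crit.Law (p j (f j)) K)
      (fun K _ H N _ h j => (h j).sec H N) _ (∀ j, K0 j (f j)) rfl
      (helper18.Crit.pi_spec p hp hinj (fun j => K0 j (f j)) (fun j => hK1 j (f j))
        (fun j => hK2 j (f j)))
      (helper18.Crit.pi_law p hp hinj (fun j => K0 j (f j)) f (fun j => hpow j (f j))
        (fun j => hK3 j (f j)))
  choose K' hG' hF' hS' hL' hC' using key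
  have hcard : Fintype.card (Fin s → Fin 2) = Fintype.card (Fin (2 ^ s)) := by simp
  obtain ⟨e⟩ : Nonempty (Fin (2 ^ s) ≃ (Fin s → Fin 2)) :=
    ⟨(Fintype.equivOfCardEq hcard).symm⟩
  refine ⟨fun a => K' (e a), fun a => hG' (e a), fun a => @Fintype.ofFinite _ (hF' (e a)),
    ?_, ?_⟩
  · rintro a b hab ⟨iso⟩
    have hne : e a ≠ e b := fun h => hab (e.injective h)
    obtain ⟨j, hj⟩ := Function.ne_iff.1 hne
    have l1 : helper18.Crit.Law (p j (e a j)) (K' (e a)) := hL' (e a) j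
    have l2 : helper18.Crit.Law (p j (e b j)) (K' (e a)) := (hL' (e b) j).of_equiv iso.symm
    have two : ∀ u v : Fin 2, u ≠ v → (u = 0 ∧ v = 1) ∨ (u = 1 ∧ v = 0) := by decide
    rcases two _ _ hj with ⟨h3, h4⟩ | ⟨h3, h4⟩
    · rw [h3] at l1; rw [h4] at l2
      exact helper18.Crit.noniso p hp hinj (K' (e a)) (hS' (e a)) j l1 l2
    · rw [h3] at l1; rw [h4] at l2
      exact helper18.Crit.noniso p hp hinj (K' (e a)) (hS' (e a)) j l2 l1
  · intro a
    exact ⟨hS' (e a), fun H N _ h => hC' (e a) H N h⟩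

end Cfsg.Agent.S3599
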