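import Cfsg.Statements.S3619
import Cfsg.Agent.Lib_helper18_Jordan

set_option autoImplicit false
open Cfsg

namespace Cfsg.Agent.S3619

theorem result {G Ω : Type*} [Group G] [Finite G] [MulAction G Ω] [FaithfulSMul G Ω] [Finite Ω]
    (hqp : ∀ N : Subgroup G, N.Normal → N ≠ ⊥ → MulAction.IsPretransitive ↥N Ω)
    (Γ : Set Ω) (hΓ1 : 1 < Γ.ncard) (hΓ2 : Γ.ncard < Nat.card Ω)
    (hJ : MulAction.IsPretransitive ↥(fixingSubgroup G Γᶜ) ↥(SubMulAction.ofFixingSubgroup G Γᶜ))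
    (hJp : MulAction.IsPreprimitive ↥(fixingSubgroup G Γᶜ) ↥(SubMulAction.ofFixingSubgroup G Γᶜ)) :
    MulAction.IsMultiplyPretransitive G Ω (Nat.card Ω - Γ.ncard + 1) := by
  have hnt : (Γᶜᶜ : Set Ω).Nontrivial := by
    rw [compl_compl]
    exact Set.one_lt_ncard_iff_nontrivial.mp hΓ1
  have hprim : MulAction.IsPreprimitive G Ω :=
    Cfsg.Agent.helper18.isPreprimitive_of_quasi_jordan hqp Γᶜ hnt hJp
  have hc : (Γᶜ : Set Ω).ncard + Γ.ncard = Nat.card Ω := by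
    rw [add_comm]; exact Set.ncard_add_ncard_compl Γ
  obtain ⟨n, hn⟩ : ∃ n, (Γᶜ : Set Ω).ncard = n + 1 := ⟨(Γᶜ : Set Ω).ncard - 1, by omega⟩
  have hn' : n + 2 < Nat.card Ω := by omega
  have hmp := hprim.isMultiplyPreprimitive hn hn' hJp
  have heq : Nat.card Ω - Γ.ncard + 1 = n + 2 := by omega
  rw [heq]
  exact MulAction.IsMultiplyPreprimitive.isMultiplyPretransitive G Ω (n + 2)

end Cfsg.Agent.S3619
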