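import Cfsg.Statements.S3633
import Mathlib
import Cfsg.Agent.S1475
import Cfsg.Agent.Lib_helper23_Hall
import Cfsg.Agent.Lib_helper7_Signalizer

set_option autoImplicit false
set_option linter.unusedSectionVars false
open Cfsg

namespace Cfsg.Agent.S3633

universe u

/-- In a finite solvable group, at most two primes of a coclique `ρ` of the prime graph divide
the group order. -/
theorem coclique_solvable (ρ : Finset ℕ) (hprime : ∀ r ∈ ρ, r.Prime) (n : ℕ) :
    ∀ (H : Type u) [Group H] [Finite H] [Group.IsSolvable H], Nat.card H = n →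
      (∀ r ∈ ρ, ∀ s ∈ ρ, r ≠ s → ¬ ∃ x : H, orderOf x = r * s) →
      (ρ.filter (fun r => r ∣ Nat.card H)).card ≤ 2 := by
  induction n using Nat.strong_induction_on with
  | _ n ih =>
  intro H _ _ _ hn hco
  have hn0 : n ≠ 0 := by rw [← hn]; exact Nat.card_pos.ne'
  by_cases hex : ∃ u : ℕ, u.Prime ∧ u ∣ n ∧ u ∉ ρ
  · obtain ⟨u, hu, hun, huρ⟩ := hex
    set m := n / u ^ n.factorization u with hm
    have hmul : m * u ^ n.factorization u = n := by
      rw [mul_comm]; exact Nat.ordProj_mul_ordCompl_eq_self n u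
    have hcop : m.Coprime (u ^ n.factorization u) :=
      (Nat.Coprime.pow_left _ (Nat.coprime_ordCompl hu hn0)).symm
    obtain ⟨H', hH'⟩ := Cfsg.Agent.helper23.hall_exists (G := H) m (u ^ n.factorization u)
      (by rw [hn, hmul]) hcop
    have hlt : m < n := by
      have h1 : u ∣ u ^ n.factorization u := by
        apply dvd_pow_self
        intro h0
        have := (Nat.factorization_eq_zero_iff n u).1 h0
        rcases this with h | h | h
        · exact h hu
        · exact h hun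
        · exact hn0 h
      have h2 : 2 ≤ u ^ n.factorization u :=
        le_trans hu.two_le (Nat.le_of_dvd (Nat.pos_of_ne_zero (by
          intro h; rw [h, mul_zero] at hmul; exact hn0 hmul.symm)) h1)
      have hm0 : 0 < m := Nat.pos_of_ne_zero (by
        intro h; rw [h, zero_mul] at hmul; exact hn0 hmul.symm)
      nlinarith
    have h3 := ih m hlt ↥H' hH' (by
      intro r hr s hs hrs ⟨x, hx⟩
      exact hco r hr s hs hrs ⟨(x : H), by rw [Subgroup.orderOf_coe]; exact hx⟩)
    refine le_trans (Finset.card_le_card ?_) h3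
    intro r hr
    rw [Finset.mem_filter] at hr ⊢
    refine ⟨hr.1, ?_⟩
    rw [hH']
    have hrn : r ∣ m * u ^ n.factorization u := by rw [hmul, ← hn]; exact hr.2
    have hru : r ≠ u := by
      rintro rfl
      exact huρ hr.1
    have hc : r.Coprime (u ^ n.factorization u) :=
      Nat.Coprime.pow_right _ ((Nat.coprime_primes (hprime r hr.1) hu).2 hru)
    exact hc.dvd_of_dvd_mul_right hrn
  · push Not at hex
    have hE : ∀ g : H, IsPrimePow (orderOf g) ∨ g = 1 := by
      intro g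
      by_contra hcon
      push Not at hcon
      obtain ⟨hnpp, hg1⟩ := hcon
      have ho1 : orderOf g ≠ 1 := by
        rw [Ne, orderOf_eq_one_iff]; exact hg1
      have ho0 : orderOf g ≠ 0 := (orderOf_pos g).ne'
      obtain ⟨p1, hp1, hp1d⟩ := Nat.exists_prime_and_dvd ho1
      have hex2 : ∃ p2 : ℕ, p2.Prime ∧ p2 ∣ orderOf g ∧ p2 ≠ p1 := by
        by_contra hcon2
        push Not at hcon2
        apply hnpp
        rw [isPrimePow_iff_unique_prime_dvd]
        exact ⟨p1, ⟨hp1, hp1d⟩, fun y hy => hcon2 y hy.1 hy.2⟩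
      obtain ⟨p2, hp2, hp2d, hne⟩ := hex2
      have hdn : orderOf g ∣ n := by rw [← hn]; exact orderOf_dvd_natCard g
      have hp1ρ : p1 ∈ ρ := hex p1 hp1 (hp1d.trans hdn)
      have hp2ρ : p2 ∈ ρ := hex p2 hp2 (hp2d.trans hdn)
      have hmuld : p1 * p2 ∣ orderOf g :=
        Nat.Coprime.mul_dvd_of_dvd_of_dvd ((Nat.coprime_primes hp1 hp2).2 hne.symm) hp1d hp2d
      exact hco p1 hp1ρ p2 hp2ρ hne.symm ⟨_, orderOf_pow_orderOf_div ho0 hmuld⟩
    have h2 := Cfsg.Agent.S1475.result hE
    refine le_trans (Finset.card_le_card ?_) h2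
    intro r hr
    rw [Finset.mem_filter] at hr
    rw [Nat.mem_primeFactors]
    exact ⟨hprime r hr.1, hr.2, Nat.card_pos.ne'⟩

theorem main {G : Type u} [Group G] [Finite G] (ρ : Finset ℕ) (hρ : 3 ≤ ρ.card)
    (hc1 : ∀ r ∈ ρ, r.Prime ∧ r ∣ Nat.card G)
    (hc2 : ∀ r ∈ ρ, ∀ s ∈ ρ, r ≠ s → ¬ ∃ x : G, orderOf x = r * s)
    (K : Subgroup G) [K.Normal] (hK : Group.IsSolvable ↥K) :
    ∀ r ∈ ρ, ∀ s ∈ ρ, r ∣ Nat.card ↥K → s ∣ Nat.card ↥K → r = s := by
  intro r hr s hs hrK hsK
  by_contra hrs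
  have hex : ∃ t ∈ ρ, t ≠ r ∧ t ≠ s := by
    have h1 : 1 ≤ ((ρ.erase r).erase s).card := by
      have h2 : (ρ.erase r).card = ρ.card - 1 := Finset.card_erase_of_mem hr
      have h3 : ((ρ.erase r).erase s).card = (ρ.erase r).card - 1 :=
        Finset.card_erase_of_mem (Finset.mem_erase.2 ⟨fun h => hrs h.symm, hs⟩)
      omega
    obtain ⟨t, ht⟩ := Finset.card_pos.1 h1
    rw [Finset.mem_erase, Finset.mem_erase] at ht
    exact ⟨t, ht.2.2, ht.2.1, ht.1⟩
  obtain ⟨t, ht, htr, hts⟩ := hex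
  haveI : Fact t.Prime := ⟨(hc1 t ht).1⟩
  obtain ⟨x, hx⟩ := exists_prime_orderOf_dvd_card' t (hc1 t ht).2
  set L : Subgroup G := K ⊔ Subgroup.zpowers x with hL
  have hLs : Group.IsSolvable ↥L := by
    apply Cfsg.Agent.helper7.solvable_sup hK
    · haveI : IsMulCommutative ↥(Subgroup.zpowers x) := inferInstance
      infer_instance
    · rw [Subgroup.normalizer_eq_top]; exact le_top
  haveI := hLs
  have hprime : ∀ r ∈ ρ, r.Prime := fun r hr => (hc1 r hr).1
  have h1 := coclique_solvable ρ hprime (Nat.card ↥L) ↥L rfl (by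
    intro r hr s hs hrs ⟨y, hy⟩
    exact hc2 r hr s hs hrs ⟨(y : G), by rw [Subgroup.orderOf_coe]; exact hy⟩)
  have hKL : Nat.card ↥K ∣ Nat.card ↥L := Subgroup.card_dvd_of_le le_sup_left
  have htL : t ∣ Nat.card ↥L := by
    have : Nat.card ↥(Subgroup.zpowers x) ∣ Nat.card ↥L := Subgroup.card_dvd_of_le le_sup_right
    rw [Nat.card_zpowers, hx] at this
    exact this
  have h3 : ({r, s, t} : Finset ℕ) ⊆ ρ.filter (fun r => r ∣ Nat.card ↥L) := by
    intro y hy
    simp only [Finset.mem_insert, Finset.mem_singleton] at hy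
    rw [Finset.mem_filter]
    rcases hy with rfl | rfl | rfl
    · exact ⟨hr, hrK.trans hKL⟩
    · exact ⟨hs, hsK.trans hKL⟩
    · exact ⟨ht, htL⟩
  have h4 : ({r, s, t} : Finset ℕ).card = 3 := by
    rw [Finset.card_insert_of_notMem, Finset.card_insert_of_notMem, Finset.card_singleton]
    · simpa using fun h => hts h.symm
    · simp only [Finset.mem_insert, Finset.mem_singleton, not_or]
      exact ⟨hrs, fun h => htr h.symm⟩
  have := Finset.card_le_card h3
  omega

/-- Let G be a finite group and ρ a set of at least three prime divisors of the order of G that are pairwise non-adjacent in the prime graph (no element of order rs for distinct r, s ∈ ρ). Then at most one prime of ρ divides the order of any given solvable normal subgroup of G; in particular G is not solvable. -/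
theorem result {G : Type*} [Group G] [Finite G] (ρ : Finset ℕ) (hρ : 3 ≤ ρ.card) (hc : ((∀ r ∈ ρ, r.Prime ∧ r ∣ Nat.card G) ∧ (∀ r ∈ ρ, ∀ s ∈ ρ, r ≠ s → ¬ ∃ x : G, orderOf x = r * s)))
    (K : Subgroup G) [K.Normal] (hK : Group.IsSolvable ↥K) :
    (∀ r ∈ ρ, ∀ s ∈ ρ, r ∣ Nat.card ↥K → s ∣ Nat.card ↥K → r = s) ∧ ¬ Group.IsSolvable G := by
  refine ⟨main ρ hρ hc.1 hc.2 K hK, ?_⟩
  intro hG
  have htop : Group.IsSolvable ↥(⊤ : Subgroup G) := by
    haveI := hG
    infer_instance
  have h := main ρ hρ hc.1 hc.2 (⊤ : Subgroup G) htop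
  obtain ⟨r, hr, s, hs, hrs⟩ : ∃ r ∈ ρ, ∃ s ∈ ρ, r ≠ s := by
    have : 1 < ρ.card := by omega
    obtain ⟨r, hr, s, hs, hrs⟩ := Finset.one_lt_card.1 this
    exact ⟨r, hr, s, hs, hrs⟩
  apply hrs
  apply h r hr s hs
  · rw [Subgroup.card_top]; exact (hc.1 r hr).2
  · rw [Subgroup.card_top]; exact (hc.1 s hs).2

end Cfsg.Agent.S3633
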