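import Cfsg.Statements.S3634
import Mathlib
import Cfsg.Agent.S3633

set_option autoImplicit false
set_option linter.unusedSectionVars false
set_option linter.style.haveILetI false
open Cfsg

namespace Cfsg.Agent.S3634

open Cfsg.Agent.helper7

universe u

/-- Frattini step: a normal subgroup `A` of `T` with `q ∣ |A|` and `r ∣ |T : A|` yields a nontrivial
`q`-subgroup normalized by an element of order `r`. -/
theorem frat_step {T : Type u} [Group T] [Finite T] (A : Subgroup T) [A.Normal] (q r : ℕ)
    [hq : Fact q.Prime] [hr : Fact r.Prime] (hqA : q ∣ Nat.card ↥A) (hrA : r ∣ A.index) :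
    ∃ Q : Subgroup T, IsPGroup q ↥Q ∧ q ∣ Nat.card ↥Q ∧
      ∃ x : T, orderOf x = r ∧ x ∈ Subgroup.normalizer (Q : Set T) := by
  obtain ⟨Q0⟩ : Nonempty (Sylow q ↥A) := inferInstance
  set Q : Subgroup T := (Q0 : Subgroup ↥A).map A.subtype with hQ
  have hfr : Subgroup.normalizer (Q : Set T) ⊔ A = ⊤ := Sylow.normalizer_sup_eq_top Q0
  have hcard : Nat.card ↥Q = Nat.card ↥(Q0 : Subgroup ↥A) :=
    Subgroup.card_map_of_injective A.subtype_injective
  have hQp : IsPGroup q ↥Q := Q0.isPGroup'.map A.subtype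
  have hqQ : q ∣ Nat.card ↥Q := by
    rw [hcard]; exact Q0.dvd_card_of_dvd_card hqA
  have hidx : A.index = A.relIndex (Subgroup.normalizer (Q : Set T)) := by
    rw [← Subgroup.relIndex_sup_right, hfr, Subgroup.relIndex_top_right]
  have hrN : r ∣ Nat.card ↥(Subgroup.normalizer (Q : Set T)) := by
    rw [hidx] at hrA
    exact hrA.trans (Subgroup.relIndex_dvd_card _ _)
  obtain ⟨x0, hx0⟩ := exists_prime_orderOf_dvd_card' r hrN
  exact ⟨Q, hQp, hqQ, (x0 : T), by rw [Subgroup.orderOf_coe]; exact hx0, x0.2⟩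

theorem normalizer_sup_mem {T : Type u} [Group T] (A B : Subgroup T) (x : T)
    (hA : x ∈ Subgroup.normalizer (A : Set T)) (hB : x ∈ Subgroup.normalizer (B : Set T)) :
    x ∈ Subgroup.normalizer ((A ⊔ B : Subgroup T) : Set T) := by
  apply mem_normalizer_of_cj_eq
  have h1 : cj x (A ⊔ B) = cj x A ⊔ cj x B := Subgroup.map_sup A B _
  rw [h1, cj_eq_of_mem_normalizer hA, cj_eq_of_mem_normalizer hB]

/-- solvable subgroup containing `p`, `q`, `r` parts -/
theorem exists_solvable {T : Type u} [Group T] [Finite T] (P A : Subgroup T) [P.Normal] [A.Normal]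
    (p q r : ℕ) [hp : Fact p.Prime] [hq : Fact q.Prime] [hr : Fact r.Prime]
    (hP : IsPGroup p ↥P) (hpP : p ∣ Nat.card ↥P) (hqA : q ∣ Nat.card ↥A) (hrA : r ∣ A.index) :
    ∃ L : Subgroup T, Group.IsSolvable ↥L ∧ p ∣ Nat.card ↥L ∧ q ∣ Nat.card ↥L ∧
      r ∣ Nat.card ↥L := by
  obtain ⟨Q, hQp, hqQ, x, hx, hxQ⟩ := frat_step A q r hqA hrA
  have hPs : Group.IsSolvable ↥P := by
    haveI := hP.isNilpotent
    infer_instance
  have hQs : Group.IsSolvable ↥Q := by
    haveI := hQp.isNilpotent
    infer_instance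
  have h1 : Group.IsSolvable ↥(P ⊔ Q) :=
    solvable_sup hPs hQs (by rw [Subgroup.normalizer_eq_top]; exact le_top)
  have hxs : Group.IsSolvable ↥(Subgroup.zpowers x) := by
    haveI : IsMulCommutative ↥(Subgroup.zpowers x) := inferInstance
    infer_instance
  have hxn : Subgroup.zpowers x ≤ Subgroup.normalizer ((P ⊔ Q : Subgroup T) : Set T) := by
    rw [Subgroup.zpowers_le]
    apply normalizer_sup_mem _ _ _ _ hxQ
    rw [Subgroup.normalizer_eq_top]; exact Subgroup.mem_top x
  have h2 : Group.IsSolvable ↥((P ⊔ Q) ⊔ Subgroup.zpowers x) := solvable_sup h1 hxs hxn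
  refine ⟨(P ⊔ Q) ⊔ Subgroup.zpowers x, h2, ?_, ?_, ?_⟩
  · exact hpP.trans (Subgroup.card_dvd_of_le (le_trans le_sup_left le_sup_left))
  · exact hqQ.trans (Subgroup.card_dvd_of_le (le_trans le_sup_right le_sup_left))
  · have : Nat.card ↥(Subgroup.zpowers x) ∣ Nat.card ↥((P ⊔ Q) ⊔ Subgroup.zpowers x) :=
      Subgroup.card_dvd_of_le le_sup_right
    rw [Nat.card_zpowers, hx] at this
    exact this

/-- Let G be a finite group with normal subgroups K ≤ M, and let p, q, r be distinct primes with p dividing the order of K, q dividing the order of M/K and r dividing the order of G/M. Then p, q, r are not pairwise non-adjacent in the prime graph of G: G has an element of order pq, pr or qr. -/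
theorem result {G : Type*} [Group G] [Finite G] (K M : Subgroup G) [K.Normal] [M.Normal] (hKM : K ≤ M)
    (p q r : ℕ) (hp : p.Prime) (hq : q.Prime) (hr : r.Prime) (hpq : p ≠ q) (hpr : p ≠ r) (hqr : q ≠ r)
    (hpK : p ∣ Nat.card ↥K) (hqM : q ∣ Nat.card ↥M / Nat.card ↥K) (hrG : r ∣ Nat.card G / Nat.card ↥M) :
    (∃ x : G, orderOf x = p * q) ∨ (∃ x : G, orderOf x = p * r) ∨ (∃ x : G, orderOf x = q * r) := by
  haveI : Fact p.Prime := ⟨hp⟩
  haveI : Fact q.Prime := ⟨hq⟩
  haveI : Fact r.Prime := ⟨hr⟩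
  by_contra hcon
  push Not at hcon
  obtain ⟨hno1, hno2, hno3⟩ := hcon
  -- index computations
  have hq' : q ∣ K.relIndex M := by
    have h := Subgroup.relIndex_mul_relIndex ⊥ K M bot_le hKM
    rw [Subgroup.relIndex_bot_left, Subgroup.relIndex_bot_left] at h
    have : Nat.card ↥M / Nat.card ↥K = K.relIndex M :=
      Nat.div_eq_of_eq_mul_right Nat.card_pos h.symm
    rwa [this] at hqM
  have hr' : r ∣ M.index := by
    have h := Subgroup.card_mul_index M
    have : Nat.card G / Nat.card ↥M = M.index :=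
      Nat.div_eq_of_eq_mul_right Nat.card_pos h.symm
    rwa [this] at hrG
  -- Sylow p-subgroup of K and Frattini
  obtain ⟨P0⟩ : Nonempty (Sylow p ↥K) := inferInstance
  set P : Subgroup G := (P0 : Subgroup ↥K).map K.subtype with hP
  have hfr : Subgroup.normalizer (P : Set G) ⊔ K = ⊤ := Sylow.normalizer_sup_eq_top P0
  set N1 : Subgroup G := Subgroup.normalizer (P : Set G) with hN1
  have hPp : IsPGroup p ↥P := P0.isPGroup'.map K.subtype
  have hpP : p ∣ Nat.card ↥P := by
    rw [hP, Subgroup.card_map_of_injective K.subtype_injective]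
    exact P0.dvd_card_of_dvd_card hpK
  have hPN1 : P ≤ N1 := Subgroup.le_normalizer
  -- Dedekind
  have hded : M = (M ⊓ N1) ⊔ K := by
    apply le_antisymm
    · intro m hm
      have hm' : m ∈ ((N1 ⊔ K : Subgroup G) : Set G) := by rw [hfr]; exact Subgroup.mem_top m
      rw [Subgroup.mul_normal] at hm'
      obtain ⟨n, hn, k, hk, hnk⟩ := hm'
      have hnM : n ∈ M := by
        have : n = m * k⁻¹ := by rw [← hnk]; group
        rw [this]
        exact M.mul_mem hm (M.inv_mem (hKM hk))
      rw [← hnk]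
      exact Subgroup.mul_mem _ (Subgroup.mem_sup_left ⟨hnM, hn⟩) (Subgroup.mem_sup_right hk)
    · exact sup_le inf_le_left hKM
  -- the type T = N1
  set A : Subgroup ↥N1 := M.subgroupOf N1 with hA
  haveI : A.Normal := Subgroup.normal_subgroupOf
  set P' : Subgroup ↥N1 := P.subgroupOf N1 with hP'
  haveI : P'.Normal := Subgroup.normal_in_normalizer
  have hqA : q ∣ Nat.card ↥A := by
    have h1 : K.relIndex M = K.relIndex (M ⊓ N1) := by
      conv_lhs => rw [hded]
      exact Subgroup.relIndex_sup_right _ _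
    rw [h1] at hq'
    have h2 : Nat.card ↥A = Nat.card ↥(M ⊓ N1 : Subgroup G) := by
      rw [hA, ← Subgroup.inf_subgroupOf_right]
      exact Nat.card_congr (Subgroup.subgroupOfEquivOfLe inf_le_right).toEquiv
    rw [h2]
    exact hq'.trans (Subgroup.relIndex_dvd_card _ _)
  have hrA : r ∣ A.index := by
    have h1 : A.index = M.relIndex N1 := rfl
    have h2 : M.relIndex N1 = M.index := by
      rw [← Subgroup.relIndex_sup_right N1 M]
      have : N1 ⊔ M = ⊤ := by
        apply le_antisymm le_top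
        rw [← hfr]
        exact sup_le_sup_left hKM _
      rw [this, Subgroup.relIndex_top_right]
    rw [h1, h2]; exact hr'
  have hP'p : IsPGroup p ↥P' := by
    have e : ↥P' ≃* ↥P := Subgroup.subgroupOfEquivOfLe hPN1
    exact hPp.of_equiv e.symm
  have hpP' : p ∣ Nat.card ↥P' := by
    have e : ↥P' ≃* ↥P := Subgroup.subgroupOfEquivOfLe hPN1
    rw [Nat.card_congr e.toEquiv]; exact hpP
  obtain ⟨L, hLs, hpL, hqL, hrL⟩ := exists_solvable P' A p q r hP'p hpP' hqA hrA
  haveI := hLs
  have hprime : ∀ y ∈ ({p, q, r} : Finset ℕ), y.Prime := by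
    intro y hy
    simp only [Finset.mem_insert, Finset.mem_singleton] at hy
    rcases hy with rfl | rfl | rfl
    · exact hp
    · exact hq
    · exact hr
  have hord : ∀ z : ↥L, orderOf (((z : ↥N1) : G)) = orderOf z := by
    intro z
    rw [Subgroup.orderOf_coe, Subgroup.orderOf_coe]
  have h1 := Cfsg.Agent.S3633.coclique_solvable ({p, q, r} : Finset ℕ) hprime (Nat.card ↥L) ↥L rfl (by
    intro a ha b hb hab ⟨z, hz⟩
    rw [← hord] at hz
    simp only [Finset.mem_insert, Finset.mem_singleton] at ha hb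
    rcases ha with rfl | rfl | rfl <;> rcases hb with rfl | rfl | rfl
    · exact hab rfl
    · exact hno1 _ hz
    · exact hno2 _ hz
    · exact hno1 _ (by rw [hz, mul_comm])
    · exact hab rfl
    · exact hno3 _ hz
    · exact hno2 _ (by rw [hz, mul_comm])
    · exact hno3 _ (by rw [hz, mul_comm])
    · exact hab rfl)
  have h3 : ({p, q, r} : Finset ℕ) ⊆ ({p, q, r} : Finset ℕ).filter (fun y => y ∣ Nat.card ↥L) := by
    intro y hy
    rw [Finset.mem_filter]
    refine ⟨hy, ?_⟩
    simp only [Finset.mem_insert, Finset.mem_singleton] at hy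
    rcases hy with rfl | rfl | rfl
    · exact hpL
    · exact hqL
    · exact hrL
  have h4 : ({p, q, r} : Finset ℕ).card = 3 := by
    rw [Finset.card_insert_of_notMem, Finset.card_insert_of_notMem, Finset.card_singleton]
    · simpa using hqr
    · simp only [Finset.mem_insert, Finset.mem_singleton, not_or]
      exact ⟨hpq, hpr⟩
  have := Finset.card_le_card h3
  omega

end Cfsg.Agent.S3634
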