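import Cfsg.Statements.S3639
import Cfsg.Agent.Lib_helper11_Sz22
import Cfsg.Agent.Lib_helper11_SemiGraph

set_option autoImplicit false
open Cfsg

namespace Cfsg.Agent.S3639

open Cfsg.Agent.helper11.Sz Matrix

section

variable {F : Type*} [Field F] [CharP F 2] [Fintype F] {m : ℕ}

/-- the action of the Suzuki group on `4 × k` matrices by left multiplication -/
noncomputable def act (m k : ℕ) :
    Cfsg.Sz F m →* MulAut (Multiplicative (Matrix (Fin 4) (Fin k) F)) where
  toFun g :=
    { toFun := fun M => Multiplicative.ofAdd (matOf g * Multiplicative.toAdd M)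
      invFun := fun M => Multiplicative.ofAdd (matOf g⁻¹ * Multiplicative.toAdd M)
      left_inv := fun M => by
        show Multiplicative.ofAdd (matOf g⁻¹ * (matOf g * Multiplicative.toAdd M)) = M
        rw [← Matrix.mul_assoc, ← matOf_mul, inv_mul_cancel, matOf_one, Matrix.one_mul]
        rfl
      right_inv := fun M => by
        show Multiplicative.ofAdd (matOf g * (matOf g⁻¹ * Multiplicative.toAdd M)) = M
        rw [← Matrix.mul_assoc, ← matOf_mul, mul_inv_cancel, matOf_one, Matrix.one_mul]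
        rfl
      map_mul' := fun M M' => by
        show Multiplicative.ofAdd (matOf g * (Multiplicative.toAdd M + Multiplicative.toAdd M')) =
          Multiplicative.ofAdd (matOf g * Multiplicative.toAdd M) *
            Multiplicative.ofAdd (matOf g * Multiplicative.toAdd M')
        rw [Matrix.mul_add]
        rfl }
  map_one' := by
    apply MulEquiv.ext
    intro M
    show Multiplicative.ofAdd (matOf (1 : Cfsg.Sz F m) * Multiplicative.toAdd M) = M
    rw [matOf_one, Matrix.one_mul]
    rfl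
  map_mul' := fun g h => by
    apply MulEquiv.ext
    intro M
    show Multiplicative.ofAdd (matOf (g * h) * Multiplicative.toAdd M) =
      Multiplicative.ofAdd (matOf g * (matOf h * Multiplicative.toAdd M))
    rw [matOf_mul, Matrix.mul_assoc]

theorem act_apply (k : ℕ) (g : Cfsg.Sz F m) (M : Multiplicative (Matrix (Fin 4) (Fin k) F)) :
    act m k g M = Multiplicative.ofAdd (matOf g * Multiplicative.toAdd M) := rfl

theorem main_Sz (hm : 1 ≤ m) (hF : Fintype.card F = 2 ^ (2 * m + 1)) (k : ℕ) :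
    k < Nat.card (Multiplicative (Matrix (Fin 4) (Fin k) F) ⋊[act m k] Cfsg.Sz F m) ∧
    (∀ r : ℕ, r.Prime → (r ∣ Nat.card (Cfsg.Sz F m) ↔
      r ∣ Nat.card (Multiplicative (Matrix (Fin 4) (Fin k) F) ⋊[act m k] Cfsg.Sz F m))) ∧
    ∀ r s : ℕ, r.Prime → s.Prime → r ≠ s →
      ((∃ x : Cfsg.Sz F m, orderOf x = r * s) ↔
        ∃ y : Multiplicative (Matrix (Fin 4) (Fin k) F) ⋊[act m k] Cfsg.Sz F m, orderOf y = r * s) := by
  have hcardS := card_Sz hm hF
  have hq2 : 2 ≤ Fintype.card F := by
    rw [hF]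
    calc 2 = 2 ^ 1 := by norm_num
      _ ≤ 2 ^ (2 * m + 1) := Nat.pow_le_pow_right (by norm_num) (by omega)
  constructor
  · rw [Nat.card_congr SemidirectProduct.equivProd, Nat.card_prod]
    have h1 : Nat.card (Multiplicative (Matrix (Fin 4) (Fin k) F)) = (Fintype.card F ^ k) ^ 4 := by
      show Nat.card (Fin 4 → Fin k → F) = _
      rw [Nat.card_fun, Nat.card_fun, Nat.card_eq_fintype_card, Nat.card_eq_fintype_card,
        Nat.card_eq_fintype_card, Fintype.card_fin, Fintype.card_fin]
    have h2 : 0 < Nat.card (Cfsg.Sz F m) := Nat.card_pos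
    have h3 : k < Fintype.card F ^ k :=
      lt_of_lt_of_le Nat.lt_two_pow_self (Nat.pow_le_pow_left hq2 k)
    have h4 : Fintype.card F ^ k ≤ (Fintype.card F ^ k) ^ 4 :=
      Nat.le_self_pow (by norm_num) _
    rw [h1]
    calc k < Fintype.card F ^ k := h3
      _ ≤ (Fintype.card F ^ k) ^ 4 := h4
      _ ≤ (Fintype.card F ^ k) ^ 4 * Nat.card (Cfsg.Sz F m) := Nat.le_mul_of_pos_right _ h2
  · apply Cfsg.Agent.helper11.SemiGraph.main (S := Cfsg.Sz F m)
      (N := Multiplicative (Matrix (Fin 4) (Fin k) F)) (act m k)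
    · intro n
      show Multiplicative.ofAdd (Multiplicative.toAdd n + Multiplicative.toAdd n) = 1
      have : Multiplicative.toAdd n + Multiplicative.toAdd n = 0 := by
        ext i j
        exact CharTwo.add_self_eq_zero _
      rw [this]
      rfl
    · intro x p hp hp2 hx n hn
      rw [act_apply] at hn
      have hM : matOf x * Multiplicative.toAdd n = Multiplicative.toAdd n :=
        congrArg Multiplicative.toAdd hn
      have hcol : ∀ j : Fin k, (fun i => Multiplicative.toAdd n i j) = 0 := by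
        intro j
        apply no_fixed_vector hm hF x hp hp2 hx
        funext i
        have := congrFun (congrFun hM i) j
        rw [Matrix.mul_apply] at this
        exact this
      have : Multiplicative.toAdd n = 0 := by
        ext i j
        exact congrFun (hcol j) i
      show n = Multiplicative.ofAdd 0
      rw [← this]
      rfl
    · rw [hcardS, hF]
      apply Dvd.dvd.mul_right
      apply Dvd.dvd.mul_right
      rw [← pow_mul]
      exact dvd_pow_self 2 (by omega)

end

/-- a carrier type in universe `0` -/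
def Carrier (n : ℕ) : Type := Fin n

instance (n : ℕ) : Fintype (Carrier n) := inferInstanceAs (Fintype (Fin n))

theorem card_carrier (n : ℕ) : Fintype.card (Carrier n) = n := Fintype.card_fin n

theorem result {F : Type*} [Field F] [Fintype F] {m : ℕ} (hm : 1 ≤ m) (hF : Fintype.card F = 2 ^ (2 * m + 1)) (N : ℕ) :
    ∃ (H : Type) (_ : Group H) (_ : Fintype H), N < Fintype.card H ∧ ((∀ r : ℕ, r.Prime → (r ∣ Nat.card ↥(Cfsg.Lie.Sz F (2 ^ (m + 1))) ↔ r ∣ Nat.card H)) ∧
      (∀ r s : ℕ, r.Prime → s.Prime → r ≠ s → ((∃ x : ↥(Cfsg.Lie.Sz F (2 ^ (m + 1))), orderOf x = r * s) ↔ (∃ y : H, orderOf y = r * s)))) := by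
  haveI := Cfsg.Agent.helper11.Sz.charP_two hF
  obtain ⟨h1, h2, h3⟩ := main_Sz (m := m) hm hF N
  let e := lieSzEquiv hm hF
  haveI : Finite (Multiplicative (Matrix (Fin 4) (Fin N) F) ⋊[act m N] Cfsg.Sz F m) :=
    Finite.of_equiv _ SemidirectProduct.equivProd.symm
  let eq : Carrier (Nat.card (Multiplicative (Matrix (Fin 4) (Fin N) F) ⋊[act m N] Cfsg.Sz F m)) ≃
      (Multiplicative (Matrix (Fin 4) (Fin N) F) ⋊[act m N] Cfsg.Sz F m) :=
    (Finite.equivFin _).symm
  letI : Group (Carrier (Nat.card (Multiplicative (Matrix (Fin 4) (Fin N) F) ⋊[act m N] Cfsg.Sz F m))) :=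
    eq.group
  let eM : Carrier (Nat.card (Multiplicative (Matrix (Fin 4) (Fin N) F) ⋊[act m N] Cfsg.Sz F m)) ≃*
      (Multiplicative (Matrix (Fin 4) (Fin N) F) ⋊[act m N] Cfsg.Sz F m) :=
    { eq with map_mul' := fun a b => eq.apply_symm_apply (eq a * eq b) }
  refine ⟨Carrier (Nat.card (Multiplicative (Matrix (Fin 4) (Fin N) F) ⋊[act m N] Cfsg.Sz F m)),
    eq.group, inferInstance, ?_, ?_, ?_⟩
  · rw [card_carrier]
    exact h1
  · intro r hr
    rw [← Nat.card_congr e.toEquiv, Nat.card_congr eq]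
    exact h2 r hr
  · intro r s hr hs hrs
    constructor
    · rintro ⟨x, hx⟩
      obtain ⟨y, hy⟩ := (h3 r s hr hs hrs).mp ⟨e.symm x, by rw [MulEquiv.orderOf_eq, hx]⟩
      exact ⟨eM.symm y, by rw [MulEquiv.orderOf_eq, hy]⟩
    · rintro ⟨y, hy⟩
      obtain ⟨x, hx⟩ := (h3 r s hr hs hrs).mpr ⟨eM y, by rw [MulEquiv.orderOf_eq, hy]⟩
      exact ⟨e x, by rw [MulEquiv.orderOf_eq, hx]⟩

end Cfsg.Agent.S3639
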