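import Cfsg.Statements.S3660
import Cfsg.Agent.Lib_helper18_AffSL2
import Cfsg.Agent.Lib_helper12_Card
import Cfsg.Agent.S3444

set_option autoImplicit false
open Cfsg

namespace Cfsg.Agent.S3660

open Cfsg.Agent.helper18 SemidirectProduct

lemma prime_dvd_card_iff {X : Type*} [Group X] [Finite X] (p : ℕ) (hp : p.Prime) :
    p ∣ Nat.card X ↔ ∃ x : X, orderOf x = p := by
  constructor
  · intro h
    haveI : Fact p.Prime := ⟨hp⟩
    exact exists_prime_orderOf_dvd_card' p h
  · rintro ⟨x, rfl⟩
    exact orderOf_dvd_natCard x

/-- The prime graph of a finite group has the prime divisors of its order as vertices, two distinct primes p, q being joined when the group has an element of order pq; two groups have the same prime graph when they have the same prime divisors and the same joined pairs. Let F be a finite field of characteristic 2 with at least 4 elements. Then there are finite groups of arbitrarily large order with the same prime graph as PSL(2,F); in particular PSL(2,F) is not determined by its prime graph. -/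
theorem result {F : Type*} [Field F] [Fintype F] [CharP F 2] (hF : 4 ≤ Fintype.card F) (N : ℕ) :
    ∃ (H : Type) (_ : Group H) (_ : Finite H), N < Nat.card H ∧
      ((∀ p : ℕ, p.Prime → (p ∣ Nat.card (Matrix.ProjectiveSpecialLinearGroup (Fin 2) F) ↔ p ∣ Nat.card H)) ∧
      (∀ p q : ℕ, p.Prime → q.Prime → p ≠ q → ((∃ g : (Matrix.ProjectiveSpecialLinearGroup (Fin 2) F), orderOf g = p * q) ↔ (∃ g : H, orderOf g = p * q)))) := by
  obtain ⟨H, hG, hFin, hN, hspec⟩ :=
    Cfsg.Agent.S3444.result (affTrans F) (affTrans_ne_bot F) (affTrans_isSolvable F) N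
  have hmem : ∀ k : ℕ, (∃ h : H, orderOf h = k) ↔ ∃ x : AffSL2 F, orderOf x = k := by
    intro k
    have := Set.ext_iff.mp hspec k
    simpa [Set.mem_range] using this
  refine ⟨H, hG, inferInstance, by rwa [Nat.card_eq_fintype_card], ?_, ?_⟩
  · intro p hp
    rw [Nat.card_congr (psl2EquivSL2 F).toEquiv, prime_dvd_card_iff (X := H) p hp, hmem p,
      ← prime_dvd_card_iff (X := AffSL2 F) p hp, card_affSL2]
    constructor
    · intro h
      exact Dvd.dvd.mul_left h _
    · intro h
      rcases (Nat.Prime.dvd_mul hp).mp h with h1 | h1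
      · have h2 : p ∣ Fintype.card F := hp.dvd_of_dvd_pow h1
        rw [Cfsg.Agent.helper12.card_SL2]
        exact Dvd.dvd.mul_right h2 _
      · exact h1
  · intro p q hp hq hpq
    rw [hmem]
    constructor
    · rintro ⟨g, hg⟩
      refine ⟨inr (psl2EquivSL2 F g), ?_⟩
      rw [orderOf_injective (inr : _ →* AffSL2 F) inr_injective, MulEquiv.orderOf_eq]
      exact hg
    · rintro ⟨x, hx⟩
      refine ⟨(psl2EquivSL2 F).symm x.right, ?_⟩
      rw [MulEquiv.orderOf_eq]
      exact affSL2_orderOf_right F x p q hp hq hpq hx

end Cfsg.Agent.S3660
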