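import Cfsg.Statements.S3678
import Cfsg.Agent.Lib_helper18_SL2Orders
import Cfsg.Agent.S3444

set_option autoImplicit false
open Cfsg

namespace Cfsg.Agent.S3678

open Cfsg.Agent.helper18 SemidirectProduct

lemma prime_dvd_card_iff {X : Type*} [Group X] [Finite X] (p : ℕ) (hp : p.Prime) :
    p ∣ Nat.card X ↔ ∃ x : X, orderOf x = p := by
  constructor
  · intro h
    have : Fact p.Prime := ⟨hp⟩
    exact exists_prime_orderOf_dvd_card' p h
  · rintro ⟨x, rfl⟩
    exact orderOf_dvd_natCard x

/-- The prime graph of a finite group has the prime divisors of its order as vertices, two distinct primes p, q being joined when the group has an element of order pq; two groups have the same prime graph when they have the same prime divisors and the same joined pairs. Let F be the field with 7 elements. There are finite groups of arbitrarily large order with the same prime graph as PSL(2,F) (the graph on {2, 3, 7} with no edges, which is also the prime graph of PSL(2,8)). -/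
theorem result {F : Type*} [Field F] [Fintype F] (hF : Fintype.card F = 7) (N : ℕ) :
    ∃ (H : Type) (_ : Group H) (_ : Finite H), N < Nat.card H ∧
      ((∀ p : ℕ, p.Prime → (p ∣ Nat.card (Matrix.ProjectiveSpecialLinearGroup (Fin 2) F) ↔ p ∣ Nat.card H)) ∧
      (∀ p q : ℕ, p.Prime → q.Prime → p ≠ q → ((∃ g : (Matrix.ProjectiveSpecialLinearGroup (Fin 2) F), orderOf g = p * q) ↔ (∃ g : H, orderOf g = p * q)))) := by
  letI : Fintype (GaloisField 2 3) := Fintype.ofFinite _
  have h8 : Fintype.card (GaloisField 2 3) = 8 := by
    rw [← Nat.card_eq_fintype_card, GaloisField.card 2 3 (by norm_num)]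
    norm_num
  obtain ⟨H, hG, hFin, hN, hspec⟩ :=
    Cfsg.Agent.S3444.result (affTrans (GaloisField 2 3)) (affTrans_ne_bot _)
      (affTrans_isSolvable _) N
  have hmem : ∀ k : ℕ, (∃ h : H, orderOf h = k) ↔ ∃ x : AffSL2 (GaloisField 2 3), orderOf x = k := by
    intro k
    have := Set.ext_iff.mp hspec k
    simpa [Set.mem_range] using this
  refine ⟨H, hG, inferInstance, by rwa [Nat.card_eq_fintype_card], ?_, ?_⟩
  · intro p hp
    rw [psl2_F7_prime_dvd hF p hp, prime_dvd_card_iff (X := H) p hp, hmem p,
      ← prime_dvd_card_iff (X := AffSL2 (GaloisField 2 3)) p hp, card_affSL2,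
      Cfsg.Agent.helper12.card_SL2, h8]
    constructor
    · intro h
      rcases h with rfl | rfl | rfl <;> norm_num
    · intro h
      have : p ∣ 2 ^ 9 * 3 ^ 2 * 7 ^ 1 := by
        refine Dvd.dvd.trans h ?_
        norm_num
      exact prime_dvd_2_3_7 hp this
  · intro p q hp hq hpq
    constructor
    · rintro ⟨g, hg⟩
      exfalso
      have hk : ∀ r e : ℕ, r.Prime → g ^ (r ^ e) = 1 → False := by
        intro r e hr h
        have := orderOf_dvd_of_pow_eq_one h
        rw [hg] at this
        exact not_two_primes_mul_dvd_prime_pow hr hp hq hpq this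
      rcases psl2_F7_orders hF g with h | h | h | h
      · exact hk 2 1 Nat.prime_two (by simpa using h)
      · exact hk 3 1 Nat.prime_three (by simpa using h)
      · exact hk 2 2 Nat.prime_two (by simpa using h)
      · exact hk 7 1 (by norm_num) (by simpa using h)
    · intro hh
      exfalso
      obtain ⟨x, hx⟩ := (hmem _).mp hh
      have hs := affSL2_orderOf_right (GaloisField 2 3) x p q hp hq hpq hx
      have hk : ∀ r e : ℕ, r.Prime → x.right ^ (r ^ e) = 1 → False := by
        intro r e hr h
        have := orderOf_dvd_of_pow_eq_one h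
        rw [hs] at this
        exact not_two_primes_mul_dvd_prime_pow hr hp hq hpq this
      rcases sl2_F8_orders h8 x.right with h | h | h
      · exact hk 2 1 Nat.prime_two (by simpa using h)
      · exact hk 7 1 (by norm_num) (by simpa using h)
      · exact hk 3 2 Nat.prime_three (by simpa using h)

end Cfsg.Agent.S3678
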