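import Cfsg.Statements.S3680
import Cfsg.Agent.Lib_helper18_MinNormal

set_option autoImplicit false
open Cfsg

namespace Cfsg.Agent.S3680

open MulAction Cfsg.Agent.helper18

section
variable {G Ω : Type*} [Group G] [MulAction G Ω]

/-- minimal normal subgroup -/
def IsMinNormal (V : Subgroup G) : Prop :=
  V.Normal ∧ V ≠ ⊥ ∧ ∀ M : Subgroup G, M.Normal → M ≤ V → M = ⊥ ∨ M = V

lemma exists_minNormal [Finite G] [Nontrivial G] : ∃ V : Subgroup G, IsMinNormal V := by
  classical
  have htop : (⊤ : Subgroup G) ≠ ⊥ := by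
    intro h
    obtain ⟨x, hx⟩ := exists_ne (1 : G)
    have hx' : x ∈ (⊤ : Subgroup G) := Subgroup.mem_top x
    rw [h] at hx'
    exact hx (Subgroup.mem_bot.mp hx')
  have hex : ∃ k, ∃ X : Subgroup G, X.Normal ∧ X ≠ ⊥ ∧ Nat.card X = k :=
    ⟨_, ⊤, inferInstance, htop, rfl⟩
  obtain ⟨V, hVn, hV1, hVk⟩ := Nat.find_spec hex
  refine ⟨V, hVn, hV1, fun M hM hMV => ?_⟩
  by_cases hM1 : M = ⊥
  · exact Or.inl hM1
  · right
    apply Subgroup.eq_of_le_of_card_ge hMV
    rw [hVk]
    exact Nat.find_min' hex ⟨M, hM, hM1, rfl⟩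

lemma IsMinNormal.inf_eq_bot {V W : Subgroup G} (hV : IsMinNormal V) (hW : IsMinNormal W)
    (hne : W ≠ V) : V ⊓ W = ⊥ := by
  haveI := hV.1
  haveI := hW.1
  rcases hV.2.2 (V ⊓ W) inferInstance inf_le_left with h | h
  · exact h
  · exfalso
    have hVW : V ≤ W := h ▸ inf_le_right
    rcases hW.2.2 V hV.1 hVW with h' | h'
    · exact hV.2.1 h'
    · exact hne h'.symm

lemma IsMinNormal.commute {V W : Subgroup G} (hV : IsMinNormal V) (hW : IsMinNormal W)
    (hne : W ≠ V) : ∀ v ∈ V, ∀ w ∈ W, Commute v w := by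
  intro v hv w hw
  exact Subgroup.commute_of_normal_of_disjoint V W hV.1 hW.1
    (disjoint_iff.mpr (hV.inf_eq_bot hW hne)) v w hv hw

lemma pretransitive_of_normal [FaithfulSMul G Ω] (hprim : IsPreprimitive G Ω)
    (M : Subgroup G) (hMn : M.Normal) (hM : M ≠ ⊥) : IsPretransitive M Ω := by
  haveI := hprim
  haveI := hMn
  apply IsQuasiPreprimitive.isPretransitive_of_normal
  intro h
  apply hM
  rw [eq_bot_iff]
  intro m hm
  rw [Subgroup.mem_bot]
  apply FaithfulSMul.eq_of_smul_eq_smul (α := Ω)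
  intro a
  have ha : a ∈ fixedPoints M Ω := h ▸ Set.mem_univ a
  rw [one_smul]
  exact ha ⟨m, hm⟩

lemma eq_one_of_centralizes [FaithfulSMul G Ω] (V : Subgroup G) (hV : IsPretransitive V Ω)
    (c : G) (hc : ∀ v ∈ V, Commute v c) (ω : Ω) (hω : c • ω = ω) : c = 1 := by
  apply FaithfulSMul.eq_of_smul_eq_smul (α := Ω)
  intro a
  obtain ⟨v, rfl⟩ := hV.exists_smul_eq ω a
  rw [one_smul]
  show c • ((v : G) • ω) = (v : G) • ω
  rw [← mul_smul, ← (hc v v.2).eq, mul_smul, hω]

lemma le_of_centralize [FaithfulSMul G Ω] (V A B : Subgroup G) (hV : IsPretransitive V Ω)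
    (hA : IsPretransitive A Ω)
    (hAV : ∀ v ∈ V, ∀ a ∈ A, Commute v a) (hBV : ∀ v ∈ V, ∀ b ∈ B, Commute v b) (ω : Ω) :
    B ≤ A := by
  intro b hb
  obtain ⟨a, ha⟩ := hA.exists_smul_eq ω (b • ω)
  have ha' : (a : G) • ω = b • ω := ha
  have h1 : (a : G)⁻¹ * b = 1 := by
    apply eq_one_of_centralizes V hV _ _ ω
    · rw [mul_smul, ← ha', inv_smul_smul]
    · intro v hv
      exact (hAV v hv a a.2).inv_right.mul_right (hBV v hv b hb)
  have h2 : b = a := by
    have := congrArg (fun x => (a : G) * x) h1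
    simpa using this
  rw [h2]
  exact a.2

lemma nonempty_mulEquiv_of_regular (V W : Subgroup G) (ω : Ω)
    (hcomm : ∀ v ∈ V, ∀ w ∈ W, Commute v w)
    (hVt : ∀ x : Ω, ∃ v ∈ V, v • ω = x) (hWt : ∀ x : Ω, ∃ w ∈ W, w • ω = x)
    (hVs : ∀ v ∈ V, v • ω = ω → v = 1) (hWs : ∀ w ∈ W, w • ω = ω → w = 1) :
    Nonempty (V ≃* W) := by
  classical
  have hWinj : ∀ w₁ ∈ W, ∀ w₂ ∈ W, w₁ • ω = w₂ • ω → w₁ = w₂ := by
    intro w₁ h₁ w₂ h₂ h
    have h3 : w₂⁻¹ * w₁ = 1 :=
      hWs _ (W.mul_mem (W.inv_mem h₂) h₁) (by rw [mul_smul, h, inv_smul_smul])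
    calc w₁ = w₂ * (w₂⁻¹ * w₁) := by group
      _ = w₂ := by rw [h3, mul_one]
  choose f hfW hf using fun v : V => hWt ((v : G)⁻¹ • ω)
  have hmul : ∀ v₁ v₂ : V, f (v₁ * v₂) = f v₁ * f v₂ := by
    intro v₁ v₂
    apply hWinj _ (hfW _) _ (W.mul_mem (hfW _) (hfW _))
    rw [hf, mul_smul, hf v₂]
    have hc : Commute ((v₂ : G)⁻¹) (f v₁) := hcomm _ (V.inv_mem v₂.2) _ (hfW v₁)
    rw [← mul_smul (f v₁), ← hc.eq, mul_smul, hf v₁, ← mul_smul]
    congr 1
    simp [mul_inv_rev]
  let φ : V →* W := MonoidHom.mk' (fun v => ⟨f v, hfW v⟩) (fun a b => Subtype.ext (hmul a b))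
  have hφ : ∀ v : V, ((φ v : W) : G) = f v := fun v => rfl
  have hinj : Function.Injective φ := by
    rw [injective_iff_map_eq_one]
    intro v hv
    have h1 : f v = 1 := by rw [← hφ, hv]; rfl
    have h2 := hf v
    rw [h1, one_smul] at h2
    have h3 := hVs _ (V.inv_mem v.2) h2.symm
    apply Subtype.ext
    simpa using h3
  have hsurj : Function.Surjective φ := by
    intro w
    obtain ⟨v', hv'V, hv'⟩ := hVt ((w : G) • ω)
    refine ⟨⟨v'⁻¹, V.inv_mem hv'V⟩, ?_⟩
    apply Subtype.ext
    rw [hφ]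
    apply hWinj _ (hfW _) _ w.2
    rw [hf]
    simpa using hv'
  exact ⟨MulEquiv.ofBijective φ ⟨hinj, hsurj⟩⟩

end

/-- `(Fin m → T) × (Fin n → T) ≃* (Fin (m + n) → T)`. -/
def piAddMulEquiv (T : Type*) [Group T] (m n : ℕ) :
    ((Fin m → T) × (Fin n → T)) ≃* (Fin (m + n) → T) where
  toFun p := Fin.append p.1 p.2
  invFun g := (fun i => g (Fin.castAdd n i), fun j => g (Fin.natAdd m j))
  left_inv p := by
    ext i
    · simp
    · simp
  right_inv g := by
    funext i
    refine Fin.addCases (fun j => ?_) (fun j => ?_) i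
    · simp
    · simp
  map_mul' p q := by
    funext i
    refine Fin.addCases (fun j => ?_) (fun j => ?_) i
    · simp
    · simp

/-- The socle of a finite primitive permutation group. -/
theorem result {G Ω : Type*} [Group G] [Finite G] [MulAction G Ω] [FaithfulSMul G Ω] [Finite Ω]
    (hprim : MulAction.IsPreprimitive G Ω) (N : Subgroup G)
    (hN : N = sSup {V : Subgroup G | V.Normal ∧ V ≠ ⊥ ∧ ∀ M : Subgroup G, M.Normal → M ≤ V → M = ⊥ ∨ M = V}) :
    (∃ p : ℕ, p.Prime ∧ IsMulCommutative N ∧ (∀ x : N, x ^ p = 1) ∧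
      MulAction.IsPretransitive N Ω ∧ ∀ ω : Ω, MulAction.stabilizer N ω = ⊥) ∨
    (∃ (T : Type) (_ : Group T) (m : ℕ), 1 ≤ m ∧ IsSimpleGroup T ∧ ¬ IsMulCommutative T ∧ Nonempty (N ≃* (Fin m → T))) := by
  classical
  have hN' : N = sSup {V : Subgroup G | IsMinNormal V} := hN
  by_cases hG : Subsingleton G
  · left
    haveI : Subsingleton N := ⟨fun a b => Subtype.ext (Subsingleton.elim _ _)⟩
    refine ⟨2, Nat.prime_two, ⟨⟨fun a b => Subsingleton.elim _ _⟩⟩, fun x => Subsingleton.elim _ _,
      ⟨fun x y => ?_⟩, fun ω => ?_⟩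
    · obtain ⟨g, hg⟩ := hprim.toIsPretransitive.exists_smul_eq x y
      refine ⟨1, ?_⟩
      rw [one_smul]
      rw [Subsingleton.elim g 1, one_smul] at hg
      exact hg
    · rw [eq_bot_iff]
      intro x _
      exact Subgroup.mem_bot.mpr (Subsingleton.elim _ _)
  · haveI : Nontrivial G := not_subsingleton_iff_nontrivial.mp hG
    obtain ⟨V, hV⟩ := exists_minNormal (G := G)
    haveI := hV.1
    rcases isEmpty_or_nonempty Ω with hΩ | ⟨⟨ω⟩⟩
    · exfalso
      apply hG
      constructor
      intro a b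
      apply FaithfulSMul.eq_of_smul_eq_smul (α := Ω)
      intro x
      exact isEmptyElim x
    have hVt : IsPretransitive V Ω := pretransitive_of_normal hprim V hV.1 hV.2.1
    obtain ⟨S, m, hSV, hSsimple, hm, ⟨e⟩⟩ := minimal_normal_structure V hV.2.1 hV.2.2
    haveI : Small.{0} S := Countable.toSmall S
    let ψ : Shrink.{0} S ≃* S := Shrink.mulEquiv
    -- commutativity of `S` forces commutativity of `V`
    have hcommS : (∀ a b : S, a * b = b * a) → ∀ x ∈ V, ∀ y ∈ V, x * y = y * x := by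
      intro hS x hx y hy
      have h1 : e (⟨x, hx⟩ * ⟨y, hy⟩) = e (⟨y, hy⟩ * ⟨x, hx⟩) := by
        rw [map_mul, map_mul]
        funext i
        exact hS _ _
      have h2 := e.injective h1
      exact congrArg Subtype.val h2
    by_cases hVW : ∃ W : Subgroup G, IsMinNormal W ∧ W ≠ V
    · -- two minimal normal subgroups
      right
      obtain ⟨W, hW, hWV⟩ := hVW
      have hWt : IsPretransitive W Ω := pretransitive_of_normal hprim W hW.1 hW.2.1
      have hcomm := hV.commute hW hWV
      have hVs : ∀ v ∈ V, v • ω = ω → v = 1 := fun v hv h =>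
        eq_one_of_centralizes W hWt v (fun w hw => (hcomm v hv w hw).symm) ω h
      have hWs : ∀ w ∈ W, w • ω = ω → w = 1 := fun w hw h =>
        eq_one_of_centralizes V hVt w (fun v hv => hcomm v hv w hw) ω h
      have hset : {X : Subgroup G | IsMinNormal X} = {V, W} := by
        ext X
        simp only [Set.mem_setOf_eq, Set.mem_insert_iff, Set.mem_singleton_iff]
        constructor
        · intro hX
          by_cases hXV : X = V
          · exact Or.inl hXV
          · right
            have hXW : X ≤ W := le_of_centralize V W X hVt hWt hcomm (hV.commute hX hXV) ω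
            rcases hW.2.2 X hX.1 hXW with h | h
            · exact absurd h hX.2.1
            · exact h
        · rintro (rfl | rfl)
          · exact hV
          · exact hW
      have hNVW : N = V ⊔ W := by rw [hN', hset, sSup_pair]
      have hVnab : ¬ ∀ x ∈ V, ∀ y ∈ V, x * y = y * x := by
        intro hab
        have hWV' : W ≤ V := le_of_centralize V V W hVt hVt (fun v hv a ha => hab v hv a ha) hcomm ω
        rcases hV.2.2 W hW.1 hWV' with h | h
        · exact hW.2.1 h
        · exact hWV h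
      obtain ⟨eVW⟩ := nonempty_mulEquiv_of_regular V W ω hcomm
        (fun x => by
          obtain ⟨v, hv⟩ := hVt.exists_smul_eq ω x
          exact ⟨v, v.2, hv⟩)
        (fun x => by
          obtain ⟨w, hw⟩ := hWt.exists_smul_eq ω x
          exact ⟨w, w.2, hw⟩) hVs hWs
      have e1 : N ≃* ↥(V ⊔ W) := MulEquiv.subgroupCongr hNVW
      have e2 : ↥(V ⊔ W) ≃* (V × W) :=
        (supEquivProd V W (fun v hv w hw => (hcomm v hv w hw).eq) (hV.inf_eq_bot hW hWV)).symm
      have e3 : (V × W) ≃* ((Fin m → S) × (Fin m → S)) :=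
        MulEquiv.prodCongr e (eVW.symm.trans e)
      have e4 : ((Fin m → S) × (Fin m → S)) ≃* (Fin (m + m) → S) := piAddMulEquiv S m m
      have e5 : (Fin (m + m) → S) ≃* (Fin (m + m) → Shrink.{0} S) :=
        MulEquiv.piCongrRight (fun _ => ψ.symm)
      refine ⟨Shrink.{0} S, inferInstance, m + m, by omega, ψ.isSimpleGroup, ?_,
        ⟨e1.trans (e2.trans (e3.trans (e4.trans e5)))⟩⟩
      intro hcomT
      apply hVnab
      apply hcommS
      intro a b
      have h1 : ψ.symm a * ψ.symm b = ψ.symm b * ψ.symm a := hcomT.is_comm.comm _ _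
      rw [← map_mul, ← map_mul] at h1
      exact ψ.symm.injective h1
    · -- unique minimal normal subgroup
      push Not at hVW
      have hset : {X : Subgroup G | IsMinNormal X} = {V} := by
        ext X
        simp only [Set.mem_setOf_eq, Set.mem_singleton_iff]
        constructor
        · intro hX
          exact hVW X hX
        · rintro rfl
          exact hV
      have hNV : N = V := by rw [hN', hset, sSup_singleton]
      subst hNV
      by_cases hab : ∀ x ∈ N, ∀ y ∈ N, x * y = y * x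
      · left
        letI : CommGroup S :=
          { (inferInstance : Group S) with
            mul_comm := fun a b => Subtype.ext (hab a (hSV a.2) b (hSV b.2)) }
        have hp : (Nat.card S).Prime := IsSimpleGroup.prime_card
        refine ⟨Nat.card S, hp, ⟨⟨fun a b => Subtype.ext (hab a a.2 b b.2)⟩⟩, fun x => ?_, hVt,
          fun ω' => ?_⟩
        · apply e.injective
          rw [map_pow, map_one]
          funext i
          rw [Pi.pow_apply, Pi.one_apply]
          exact pow_card_eq_one'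
        · rw [eq_bot_iff]
          intro x hx
          rw [Subgroup.mem_bot]
          have hx' : (x : G) • ω' = ω' := hx
          have h1 : (x : G) = 1 :=
            eq_one_of_centralizes N hVt x (fun v hv => (hab v hv x x.2)) ω' hx'
          exact Subtype.ext h1
      · right
        refine ⟨Shrink.{0} S, inferInstance, m, hm, ψ.isSimpleGroup, ?_,
          ⟨e.trans (MulEquiv.piCongrRight (fun _ => ψ.symm))⟩⟩
        intro hcomT
        apply hab
        apply hcommS
        intro a b
        have h1 : ψ.symm a * ψ.symm b = ψ.symm b * ψ.symm a := hcomT.is_comm.comm _ _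
        rw [← map_mul, ← map_mul] at h1
        exact ψ.symm.injective h1

end Cfsg.Agent.S3680
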