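import Cfsg.Statements.S3683

set_option autoImplicit false
open Cfsg

namespace Cfsg.Agent.S3683

open MulAction in
/-- A normal subgroup contained in a point stabilizer of a transitive faithful action is trivial. -/
lemma normal_le_stabilizer_eq_bot {G Ω : Type*} [Group G] [MulAction G Ω] [FaithfulSMul G Ω]
    [IsPretransitive G Ω] (H : Subgroup G) [H.Normal] (a : Ω) (hH : H ≤ stabilizer G a) : H = ⊥ := by
  rw [eq_bot_iff]
  intro h hh
  rw [Subgroup.mem_bot]
  apply FaithfulSMul.eq_of_smul_eq_smul (α := Ω)
  intro ω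
  obtain ⟨k, rfl⟩ := exists_smul_eq G a ω
  have h1 : k⁻¹ * h * k ∈ H := by
    have := Subgroup.Normal.conj_mem ‹H.Normal› h hh k⁻¹
    simpa using this
  have h2 : (k⁻¹ * h * k) • a = a := hH h1
  rw [one_smul]
  calc h • k • a = k • (k⁻¹ * h * k) • a := by simp [mul_smul]
    _ = k • a := by rw [h2]

theorem result {G Ω : Type*} [Group G] [Finite G] [MulAction G Ω] [FaithfulSMul G Ω] [Finite Ω]
    (hprim : MulAction.IsPreprimitive G Ω) (a b : Ω) (hab : a ≠ b) (hfix : ∀ g : G, g • a = a → g • b = b) :
    MulAction.stabilizer G a = ⊥ ∧ IsCyclic G ∧ (Nat.card G).Prime := by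
  classical
  have : Nontrivial Ω := ⟨⟨a, b, hab⟩⟩
  have hca : IsCoatom (MulAction.stabilizer G a) :=
    (MulAction.isCoatom_stabilizer_iff_preprimitive G a).mpr hprim
  have hcb : IsCoatom (MulAction.stabilizer G b) :=
    (MulAction.isCoatom_stabilizer_iff_preprimitive G b).mpr hprim
  have hle : MulAction.stabilizer G a ≤ MulAction.stabilizer G b := fun g hg => hfix g hg
  have heq : MulAction.stabilizer G b = MulAction.stabilizer G a := by
    rcases hca.le_iff.mp hle with h | h
    · exact absurd h hcb.1
    · exact h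
  obtain ⟨g, hg⟩ := MulAction.exists_smul_eq G a b
  -- g normalizes the stabilizer of a
  have hgn : g ∈ Subgroup.normalizer (MulAction.stabilizer G a : Set G) := by
    rw [Subgroup.mem_normalizer_iff]
    intro h
    have key : ∀ x : G, x ∈ MulAction.stabilizer G a ↔ g * x * g⁻¹ ∈ MulAction.stabilizer G b := by
      intro x
      rw [MulAction.mem_stabilizer_iff, MulAction.mem_stabilizer_iff, ← hg]
      simp only [mul_smul, inv_smul_smul]
      constructor
      · intro hx; rw [hx]
      · intro hx; exact smul_left_cancel g hx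
    rw [key h, heq]
  have hgna : g ∉ MulAction.stabilizer G a := by
    intro h
    rw [MulAction.mem_stabilizer_iff] at h
    exact hab (h.symm.trans hg)
  have hnorm : Subgroup.normalizer (MulAction.stabilizer G a : Set G) = ⊤ := by
    rcases hca.le_iff.mp (Subgroup.le_normalizer (H := MulAction.stabilizer G a)) with h | h
    · exact h
    · exact absurd (h ▸ hgn) hgna
  have : (MulAction.stabilizer G a).Normal := Subgroup.normalizer_eq_top_iff.mp hnorm
  have hbot : MulAction.stabilizer G a = ⊥ :=
    normal_le_stabilizer_eq_bot (MulAction.stabilizer G a) a le_rfl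
  refine ⟨hbot, ?_⟩
  rw [hbot] at hca
  -- every nontrivial element generates G
  have hgen : ∀ x : G, x ≠ 1 → Subgroup.zpowers x = ⊤ := by
    intro x hx
    rcases hca.le_iff.mp (bot_le : (⊥ : Subgroup G) ≤ Subgroup.zpowers x) with h | h
    · exact h
    · exact absurd (Subgroup.zpowers_eq_bot.mp h) hx
  have : Nontrivial G := by
    refine ⟨⟨g, 1, ?_⟩⟩
    rintro rfl
    rw [one_smul] at hg
    exact hab hg
  have hcard : 1 < Nat.card G := Finite.one_lt_card
  obtain ⟨p, hp, hpd⟩ := Nat.exists_prime_and_dvd (n := Nat.card G) (by omega)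
  have := Fact.mk hp
  obtain ⟨x, hx⟩ := exists_prime_orderOf_dvd_card' p hpd
  have hx1 : x ≠ 1 := by
    rintro rfl
    rw [orderOf_one] at hx
    exact hp.one_lt.ne hx
  have hz := hgen x hx1
  have hcardp : Nat.card G = p := by
    rw [← hx, ← Nat.card_zpowers, hz, Subgroup.card_top]
  have hprime : (Nat.card G).Prime := hcardp ▸ hp
  have := Fact.mk hprime
  exact ⟨isCyclic_of_prime_card rfl, hprime⟩

end Cfsg.Agent.S3683
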