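import Cfsg.Statements.S3684
import Cfsg.Agent.Lib_helper1_Dihedral

set_option autoImplicit false
open Cfsg

namespace Cfsg.Agent.S3684

open MulAction

theorem result {G Ω : Type*} [Group G] [Finite G] [MulAction G Ω] [FaithfulSMul G Ω] [Finite Ω]
    (hprim : MulAction.IsPreprimitive G Ω) (a b : Ω) (h2 : Nat.card (MulAction.orbit (MulAction.stabilizer G a) b) = 2) :
    Nat.card (MulAction.stabilizer G a) = 2 ∧ ∃ p : ℕ, p.Prime ∧ Nonempty (G ≃* DihedralGroup p) := by
  classical
  have := hprim
  haveI : IsPretransitive G Ω := hprim.toIsPretransitive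
  -- basic cardinalities
  have hcardG : ∀ x : Ω, Nat.card Ω * Nat.card (stabilizer G x) = Nat.card G := by
    intro x
    have h := Subgroup.card_mul_index (stabilizer G x)
    rw [MulAction.index_stabilizer_of_transitive, mul_comm] at h
    exact h
  have hΩpos : 0 < Nat.card Ω := Nat.card_pos_iff.mpr ⟨⟨a⟩, inferInstance⟩
  have hab : Nat.card (stabilizer G a) = Nat.card (stabilizer G b) := by
    have h1 := hcardG a
    have h3 := hcardG b
    exact Nat.eq_of_mul_eq_mul_left hΩpos (h1.trans h3.symm)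
  set Ga := stabilizer G a with hGa
  set Gb := stabilizer G b with hGb
  set K : Subgroup G := Ga ⊓ Gb with hK
  have hKa : K ≤ Ga := inf_le_left
  have hKb : K ≤ Gb := inf_le_right
  -- the stabilizer of b in Ga has the cardinality of K
  have hstab : Nat.card (stabilizer Ga b) = Nat.card K := by
    refine Nat.card_congr ⟨fun g => ⟨g.1.1, ⟨g.1.2, g.2⟩⟩, fun k => ⟨⟨k.1, k.2.1⟩, k.2.2⟩, ?_, ?_⟩
    · intro g; rfl
    · intro k; rfl
  have hGaK : Nat.card Ga = 2 * Nat.card K := by
    have h := Subgroup.card_mul_index (stabilizer Ga b)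
    rw [MulAction.index_stabilizer, ← Nat.card_coe_set_eq, h2, hstab, mul_comm] at h
    exact h.symm
  have hGbK : Nat.card Gb = 2 * Nat.card K := by rw [← hab]; exact hGaK
  have hKpos : 0 < Nat.card K := Nat.card_pos
  have hrel : ∀ H : Subgroup G, K ≤ H → Nat.card H = 2 * Nat.card K → K.relIndex H = 2 := by
    intro H hKH hH
    have h := Subgroup.relIndex_mul_relIndex ⊥ K H bot_le hKH
    rw [Subgroup.relIndex_bot_left, Subgroup.relIndex_bot_left, hH, mul_comm] at h
    exact Nat.eq_of_mul_eq_mul_right hKpos h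
  have hnorm : ∀ H : Subgroup G, K ≤ H → Nat.card H = 2 * Nat.card K →
      H ≤ Subgroup.normalizer (K : Set G) := by
    intro H hKH hH
    have hidx : (K.subgroupOf H).index = 2 := hrel H hKH hH
    have hn : (K.subgroupOf H).Normal := Subgroup.normal_of_index_eq_two hidx
    exact (Subgroup.normal_subgroupOf_iff_le_normalizer hKH).mp hn
  have hNa := hnorm Ga hKa hGaK
  have hNb := hnorm Gb hKb hGbK
  have hnt : Nontrivial Ω := by
    by_contra hcon
    rw [not_nontrivial_iff_subsingleton] at hcon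
    have : Nat.card (orbit Ga b) ≤ 1 := by
      rw [Finite.card_le_one_iff_subsingleton]
      infer_instance
    omega
  have hcoatom : IsCoatom Ga := IsPreprimitive.isCoatom_stabilizer_of_isPreprimitive (G := G) a
  -- Gb is not contained in Ga
  have hnle : ∀ H : Subgroup G, Nat.card H = 2 * Nat.card K → H ≤ Gb → ¬ H ≤ Ga := by
    intro H hH hHb hHa
    have hHK : H ≤ K := le_inf hHa hHb
    have := Subgroup.card_le_of_le hHK
    omega
  have hNtop : Subgroup.normalizer (K : Set G) = ⊤ := by
    by_contra hne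
    have hlt : Ga < Subgroup.normalizer (K : Set G) := by
      refine lt_of_le_of_ne hNa ?_
      intro heq
      exact hnle Gb hGbK le_rfl (heq ▸ hNb)
    exact hne (hcoatom.2 _ hlt)
  have hKnormal : K.Normal := Subgroup.normalizer_eq_top_iff.mp hNtop
  have hKbot : K = ⊥ := by
    rw [eq_bot_iff]
    intro k hk
    rw [Subgroup.mem_bot]
    apply FaithfulSMul.eq_of_smul_eq_smul (α := Ω)
    intro x
    obtain ⟨g, rfl⟩ := MulAction.exists_smul_eq G a x
    rw [one_smul]
    have h1 : g⁻¹ * k * g ∈ K := by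
      have := hKnormal.conj_mem k hk g⁻¹
      rwa [inv_inv] at this
    have h2' : (g⁻¹ * k * g) • a = a := (hKa h1 : g⁻¹ * k * g ∈ stabilizer G a)
    calc k • g • a = g • (g⁻¹ * k * g) • a := by
          rw [← mul_smul, ← mul_smul]; congr 1; group
      _ = g • a := by rw [h2']
  have hK1 : Nat.card K = 1 := by rw [hKbot]; exact Subgroup.card_bot
  have hGa2 : Nat.card Ga = 2 := by rw [hGaK, hK1]
  have hGb2 : Nat.card Gb = 2 := by rw [hGbK, hK1]
  refine ⟨hGa2, ?_⟩
  -- involutions
  have hinv : ∀ H : Subgroup G, Nat.card H = 2 → ∃ s : G, orderOf s = 2 ∧ Subgroup.zpowers s = H := by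
    intro H hH
    haveI : Fact (Nat.Prime 2) := ⟨Nat.prime_two⟩
    obtain ⟨s, hs⟩ := exists_prime_orderOf_dvd_card' (G := H) 2 (by rw [hH])
    have hs' : orderOf (s : G) = 2 := by rw [Subgroup.orderOf_coe]; exact hs
    refine ⟨s, hs', ?_⟩
    apply Subgroup.eq_of_le_of_card_ge
    · rw [Subgroup.zpowers_le]; exact s.2
    · rw [Nat.card_zpowers, hs', hH]
  obtain ⟨s, hs2, hsGa⟩ := hinv Ga hGa2
  obtain ⟨t, ht2, htGb⟩ := hinv Gb hGb2
  have hss : s * s = 1 := Cfsg.Agent.helper1.sq_eq_one_of_orderOf_eq_two hs2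
  have htt : t * t = 1 := Cfsg.Agent.helper1.sq_eq_one_of_orderOf_eq_two ht2
  have hs1 : s ≠ 1 := Cfsg.Agent.helper1.ne_one_of_orderOf_eq_two hs2
  have ht1 : t ≠ 1 := Cfsg.Agent.helper1.ne_one_of_orderOf_eq_two ht2
  have hsm : s ∈ Subgroup.closure ({s, t} : Set G) := Subgroup.subset_closure (by simp)
  have htm : t ∈ Subgroup.closure ({s, t} : Set G) := Subgroup.subset_closure (by simp)
  have htGa : t ∉ Ga := by
    intro h
    have h1 : Subgroup.zpowers t ≤ Ga := by rw [Subgroup.zpowers_le]; exact h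
    rw [htGb] at h1
    have hK2 : Nat.card Gb = 2 * Nat.card K := hGbK
    exact hnle Gb hGbK le_rfl h1
  have hclos : Subgroup.closure ({s, t} : Set G) = ⊤ := by
    by_contra hne
    have hle : Ga ≤ Subgroup.closure ({s, t} : Set G) := by
      rw [← hsGa, Subgroup.zpowers_le]; exact hsm
    have hlt : Ga < Subgroup.closure ({s, t} : Set G) := by
      refine lt_of_le_of_ne hle ?_
      intro heq
      exact htGa (heq ▸ htm)
    exact hne (hcoatom.2 _ hlt)
  set m := orderOf (s * t) with hm
  have e1 : DihedralGroup m ≃* Subgroup.closure ({s, t} : Set G) :=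
    Cfsg.Agent.helper1.dihedralEquiv s t hss htt hs1 ht1
  have e2 : Subgroup.closure ({s, t} : Set G) ≃* G :=
    (MulEquiv.subgroupCongr hclos).trans Subgroup.topEquiv
  have e : DihedralGroup m ≃* G := e1.trans e2
  have hmpos : 0 < m := orderOf_pos (s * t)
  have hcardG2 : Nat.card G = 2 * m := by
    rw [← Nat.card_congr e.toEquiv, DihedralGroup.nat_card]
  have hΩm : Nat.card Ω = m := by
    have := hcardG a
    rw [show Nat.card (stabilizer G a) = 2 from hGa2, hcardG2] at this
    omega
  have hm1 : m ≠ 1 := by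
    intro h1
    have : s * t = 1 := orderOf_eq_one_iff.mp (hm ▸ h1)
    have hst : s = t := by
      have h3 : s = t⁻¹ := eq_inv_of_mul_eq_one_left this
      rw [h3]; exact inv_eq_of_mul_eq_one_left htt
    apply htGa
    rw [← hst, ← hsGa]
    exact Subgroup.mem_zpowers s
  refine ⟨m, ?_, ⟨e.symm⟩⟩
  -- primality of m
  set p := m.minFac with hp
  have hpprime : p.Prime := Nat.minFac_prime hm1
  have hpm : p ∣ m := Nat.minFac_dvd m
  obtain ⟨c, hc⟩ := hpm
  have hcpos : 0 < c := by
    rcases Nat.eq_zero_or_pos c with h | h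
    · rw [h, mul_zero] at hc; omega
    · exact h
  set w := (s * t) ^ c with hw
  have hword : orderOf w = p := by
    rw [hw, orderOf_pow_of_dvd hcpos.ne' (by rw [← hm, hc]; exact Dvd.intro_left p rfl), ← hm, hc]
    exact Nat.mul_div_cancel _ hcpos
  have hsinv : s⁻¹ = s := inv_eq_of_mul_eq_one_left hss
  have htinv : t⁻¹ = t := inv_eq_of_mul_eq_one_left htt
  have hconj_s : s * w * s⁻¹ = w⁻¹ := by
    rw [hw, ← conj_pow, ← inv_pow]
    congr 1
    rw [mul_inv_rev, hsinv, htinv, ← mul_assoc, hss, one_mul]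
  have hconj_t : t * w * t⁻¹ = w⁻¹ := by
    rw [hw, ← conj_pow, ← inv_pow]
    congr 1
    rw [mul_inv_rev, hsinv, htinv, mul_assoc, mul_assoc, htt, mul_one]
  set C := Subgroup.zpowers w with hC
  have hmemN : ∀ g : G, g * w * g⁻¹ = w⁻¹ → g ∈ Subgroup.normalizer (C : Set G) := by
    intro g hg
    apply Subgroup.mem_normalizer_fintype
    intro n hn
    obtain ⟨k, rfl⟩ := Subgroup.mem_zpowers_iff.mp hn
    rw [← conj_zpow, hg]
    exact Subgroup.zpow_mem _ (Subgroup.inv_mem _ (Subgroup.mem_zpowers w)) k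
  have hCN : Subgroup.normalizer (C : Set G) = ⊤ := by
    rw [eq_top_iff, ← hclos, Subgroup.closure_le]
    rintro z (rfl | rfl)
    · exact hmemN _ hconj_s
    · exact hmemN _ hconj_t
  have hCnormal : C.Normal := Subgroup.normalizer_eq_top_iff.mp hCN
  have hCcard : Nat.card C = p := by rw [hC, Nat.card_zpowers, hword]
  have hCtrans : IsPretransitive C Ω := by
    apply IsQuasiPreprimitive.isPretransitive_of_normal
    intro h
    have hCbot : C = ⊥ := by
      rw [eq_bot_iff]
      intro x hx
      rw [Subgroup.mem_bot]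
      apply FaithfulSMul.eq_of_smul_eq_smul (α := Ω)
      intro y
      have hy : y ∈ fixedPoints C Ω := h ▸ Set.mem_univ y
      rw [one_smul]
      exact hy ⟨x, hx⟩
    rw [hCbot, Subgroup.card_bot] at hCcard
    exact hpprime.one_lt.ne hCcard
  have hle : Nat.card Ω ≤ p := by
    have h := Subgroup.card_mul_index (stabilizer C a)
    rw [MulAction.index_stabilizer_of_transitive, hCcard] at h
    exact Nat.le_of_dvd hpprime.pos (Dvd.intro_left _ h)
  have hmp : m = p := by
    have h1 : p ≤ m := Nat.minFac_le hmpos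
    omega
  rw [hmp]
  exact hpprime

end Cfsg.Agent.S3684
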