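import Cfsg.Statements.S3696
import Mathlib
import Cfsg.Agent.Lib_helper6_AbPerm
-- import your own Cfsg.Agent.* helpers here

set_option autoImplicit false
open Cfsg

namespace Cfsg.Agent.S3696

/-- Let p be a prime, Ω a finite set with n ≥ p elements, and A an abelian p-subgroup of the symmetric group on Ω whose elements of order dividing p number p^k (so k is the rank of A). Then |A| · k^k ≤ n^k, that is, |A| ≤ (n/k)^k. -/
theorem result {Ω : Type*} [Fintype Ω] [DecidableEq Ω]
    (p : ℕ) (hp : p.Prime) (hn : p ≤ Fintype.card Ω) (A : Subgroup (Equiv.Perm Ω)) (hA : IsPGroup p A) (hab : IsMulCommutative A)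
    (k : ℕ) (hk : Nat.card {x : A // x ^ p = 1} = p ^ k) :
    Nat.card A * k ^ k ≤ Fintype.card Ω ^ k := by
  classical
  have : Fact p.Prime := ⟨hp⟩
  have hab' : ∀ a ∈ A, ∀ b ∈ A, a * b = b * a := by
    intro a ha b hb
    have h := hab.is_comm.comm (⟨a, ha⟩ : A) ⟨b, hb⟩
    exact congrArg Subtype.val h
  have hcard : Nat.card (Cfsg.Agent.helper6.AbPerm.om p A hab') = p ^ k := by
    rw [← hk]
    apply Nat.card_congr
    refine
      { toFun := fun x => ⟨⟨x.1, (Cfsg.Agent.helper6.AbPerm.mem_om.mp x.2).1⟩, ?_⟩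
        invFun := fun x => ⟨x.1.1, Cfsg.Agent.helper6.AbPerm.mem_om.mpr ⟨x.1.2, ?_⟩⟩
        left_inv := fun x => rfl
        right_inv := fun x => rfl }
    · apply Subtype.ext
      simpa using (Cfsg.Agent.helper6.AbPerm.mem_om.mp x.2).2
    · have := congrArg Subtype.val x.2
      simpa using this
  have h := Cfsg.Agent.helper6.AbPerm.main p (Nat.card A) A hab' hA Finset.univ
    (fun _ _ _ _ => Finset.mem_univ _)
    (fun g _ hg => Equiv.ext fun x => by simpa using hg x (Finset.mem_univ x)) k hcard le_rfl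
  simpa [Finset.card_univ] using h

end Cfsg.Agent.S3696
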