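import Cfsg.Statements.S3704
import Cfsg.Agent.Lib_helper18_Design

set_option autoImplicit false
open Cfsg

namespace Cfsg.Agent.S3704

open MulAction Cfsg.Agent.helper18

/-- Let G be a finite group acting faithfully and 2-transitively on a finite set Ω of size n, and let H be a subgroup of index n in G which is not transitive on Ω and fixes no point of Ω. Then H has exactly two orbits on Ω. -/
theorem result {G Ω : Type*} [Group G] [Finite G] [MulAction G Ω] [FaithfulSMul G Ω] [Finite Ω] (h2 : MulAction.IsMultiplyPretransitive G Ω 2) (H : Subgroup G) (hidx : H.index = Nat.card Ω) (hnt : ¬ MulAction.IsPretransitive H Ω) (hfix : ∀ a : Ω, ∃ h : H, h • a ≠ a) : Nat.card (MulAction.orbitRel.Quotient H Ω) = 2 := by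
  classical
  have : Fintype G := Fintype.ofFinite G
  have : Fintype Ω := Fintype.ofFinite Ω
  have : Fintype (G ⧸ H) := Fintype.ofFinite _
  -- two points in different `H`-orbits
  obtain ⟨ω₀, ω₁, h01⟩ : ∃ ω₀ ω₁ : Ω, ∀ h : H, h • ω₀ ≠ ω₁ := by
    by_contra hcon
    push Not at hcon
    exact hnt ⟨hcon⟩
  have hne : ω₀ ≠ ω₁ := by
    intro h
    exact h01 1 (by rw [one_smul]; exact h)
  -- the incidence relation
  let inc : Ω → G ⧸ H → Prop := fun ω x =>
    ∃ a : G, (a : G ⧸ H) = x ∧ a⁻¹ • ω ∈ orbit H ω₀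
  have hinv1 : ∀ (g : G) ω x, inc ω x → inc (g • ω) (g • x) := by
    rintro g ω x ⟨a, rfl, ha⟩
    refine ⟨g * a, rfl, ?_⟩
    rw [mul_inv_rev, mul_smul, inv_smul_smul]
    exact ha
  have hinv : ∀ (g : G) ω x, inc (g • ω) (g • x) ↔ inc ω x := by
    intro g ω x
    constructor
    · intro h
      have := hinv1 g⁻¹ _ _ h
      rwa [inv_smul_smul, inv_smul_smul] at this
    · exact hinv1 g ω x
  have h0 : inc ω₀ ((1 : G) : G ⧸ H) := ⟨1, rfl, by rw [inv_one, one_smul]; exact mem_orbit_self _⟩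
  have h1 : ¬ inc ω₁ ((1 : G) : G ⧸ H) := by
    rintro ⟨a, ha, hmem⟩
    have haH : a ∈ H := by
      have := QuotientGroup.eq.mp ha
      simpa using H.inv_mem this
    obtain ⟨h, hh⟩ := hmem
    have hh' : h • ω₀ = a⁻¹ • ω₁ := hh
    apply h01 (⟨a, haH⟩ * h)
    rw [mul_smul, hh']
    change a • a⁻¹ • ω₁ = ω₁
    rw [smul_inv_smul]
  have hcard : Fintype.card Ω = Fintype.card (G ⧸ H) := by
    rw [← Nat.card_eq_fintype_card, ← Nat.card_eq_fintype_card, ← hidx]
    rfl
  have hfixeq : ∀ g : G, Nat.card (fixedBy Ω g) = Nat.card (fixedBy (G ⧸ H) g) :=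
    fun g => card_fixedBy_eq_of_invariant_incidence hcard h2 inc hinv ω₀ ω₁ _ h0 h1 g
  have hB1 := burnside_natCard G (Ω × (G ⧸ H))
  have hB2 := burnside_natCard G (Ω × Ω)
  have hsumeq : ∑ g : G, Nat.card (fixedBy (Ω × (G ⧸ H)) g) =
      ∑ g : G, Nat.card (fixedBy (Ω × Ω) g) := by
    apply Finset.sum_congr rfl
    intro g _
    rw [card_fixedBy_prod₂, card_fixedBy_prod₂, hfixeq g]
  rw [hsumeq, hB2, card_orbits_prod_of_two_transitive Ω h2 ω₀ ω₁ hne,
    card_orbits_prod_quotient H Ω] at hB1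
  have hpos : 0 < Nat.card G := Nat.card_pos
  exact (Nat.eq_of_mul_eq_mul_right hpos hB1).symm

end Cfsg.Agent.S3704
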