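import Cfsg.Statements.S3707
import Cfsg.Agent.Lib_helper18_Marggraf

set_option autoImplicit false
open Cfsg

namespace Cfsg.Agent.S3707

open MulAction Cfsg.Agent.helper18

/-- Let G be a finite primitive permutation group on Ω of degree n and Γ ⊂ Ω a subset with 1 < #Γ ≤ n/2 such that the pointwise stabilizer of Ω ∖ Γ is transitive on Γ. Then G is 3-transitive on Ω. -/
theorem result {G Ω : Type*} [Group G] [Finite G] [MulAction G Ω] [FaithfulSMul G Ω] [Finite Ω] (hprim : MulAction.IsPreprimitive G Ω) (Γ : Set Ω) (h1 : 1 < Γ.ncard) (h2 : 2 * Γ.ncard ≤ Nat.card Ω) (htr : ∀ x ∈ Γ, ∀ y ∈ Γ, ∃ g : G, (∀ z ∉ Γ, g • z = z) ∧ g • x = y) : MulAction.IsMultiplyPretransitive G Ω 3 := by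
  have hcompl : Γᶜ.ncard + Γ.ncard = Nat.card Ω := Set.ncard_compl_add_ncard Γ
  -- the pointwise stabiliser of the complement is transitive
  have hs_trans : IsPretransitive (fixingSubgroup G Γᶜ) (SubMulAction.ofFixingSubgroup G Γᶜ) := by
    constructor
    rintro ⟨x, hx⟩ ⟨y, hy⟩
    rw [SubMulAction.mem_ofFixingSubgroup_iff, Set.notMem_compl_iff] at hx hy
    obtain ⟨g, hg, hgxy⟩ := htr x hx y hy
    refine ⟨⟨g, ?_⟩, ?_⟩
    · rw [mem_fixingSubgroup_iff]
      intro z hz
      exact hg z hz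
    · apply Subtype.ext
      exact hgxy
  have h2t : IsMultiplyPretransitive G Ω 2 :=
    hprim.is_two_pretransitive (s := Γᶜ) (n := Γᶜ.ncard - 1) (by omega) (by omega) hs_trans
  have hJ : IsJC G Γᶜ := by
    intro x hx y hy
    rw [Set.notMem_compl_iff] at hx hy
    obtain ⟨g, hg, hgxy⟩ := htr x hx y hy
    exact ⟨g, fun z hz => hg z hz, hgxy⟩
  obtain ⟨a, b, hab, hJab⟩ := marggraf_core h2t Γᶜ hJ (by rw [compl_compl]; omega)
    (by rw [compl_compl]; exact h2)
  exact is_three_pretransitive_of_isJC_pair h2t a b hab hJab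

end Cfsg.Agent.S3707
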