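import Cfsg.Statements.S3740
import Cfsg.Agent.Lib_helper12_Sl2Torus2
import Cfsg.Agent.Lib_lead_Coprime2
import Cfsg.Agent.Lib_lead_Q8Core

set_option autoImplicit false
open Cfsg

namespace Cfsg.Agent.S3740

open Matrix Cfsg.Agent.helper12 Cfsg.Agent.lead.Q8Core

/-- Let F be a finite field of odd characteristic p and let a be a p-element of SL₂(F) normalizing a subgroup R of order prime to p with [R, a] ≠ 1. Then p = 3, R is a quaternion group of order 8, and R⟨a⟩ is isomorphic to SL₂(3). -/
theorem result (F : Type) [Field F] [Fintype F] {p : ℕ} [Fact p.Prime] [CharP F p] (hp : p ≠ 2) (a : Matrix.SpecialLinearGroup (Fin 2) F) (ha : IsPGroup p ↥(Subgroup.zpowers a)) (R : Subgroup (Matrix.SpecialLinearGroup (Fin 2) F)) (hR : (Nat.card R).Coprime p) (haR : a ∈ Subgroup.normalizer (R : Set (Matrix.SpecialLinearGroup (Fin 2) F))) (hnt : ⁅R, Subgroup.zpowers a⁆ ≠ ⊥) : p = 3 ∧ Nonempty (↥R ≃* QuaternionGroup 2) ∧ Nonempty (↥(R ⊔ Subgroup.zpowers a) ≃* Matrix.SpecialLinearGroup (Fin 2) (ZMod 3)) := by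
  classical
  have hpp : p.Prime := Fact.out
  have hpodd : Odd p := hpp.odd_of_ne_two hp
  obtain ⟨n, -, hcardF⟩ := FiniteField.card F p
  have hF : Fintype.card F % 2 = 1 := by
    rw [hcardF]
    exact Nat.odd_iff.1 (hpodd.pow)
  have h2 : (2 : F) ≠ 0 := two_ne_zero_of_card_odd hF
  -- a ≠ 1, order p
  have ha1 : a ≠ 1 := by
    intro h
    apply hnt
    rw [h, Subgroup.zpowers_one_eq_bot, Subgroup.commutator_bot_right]
  have hoa : orderOf a = p := by
    obtain ⟨k, hk⟩ := ha ⟨a, Subgroup.mem_zpowers a⟩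
    have hk' : a ^ p ^ k = 1 := by
      have := congrArg Subtype.val hk
      simpa using this
    have hxp : (a : Matrix (Fin 2) (Fin 2) F) ^ (p ^ k) = 1 := by
      have := congrArg Subtype.val hk'
      simpa using this
    have htr := (unipotent2_trace_det (isNilpotent_sub_one_of_pow_char p hxp)).1
    exact (sl2_orderOf_eq_char_iff p a).2 ⟨ha1, htr⟩
  have hodda : Odd (orderOf a) := hoa ▸ hpodd
  -- the central involution
  obtain ⟨z, hzM⟩ : ∃ z : Matrix.SpecialLinearGroup (Fin 2) F,
      (z : Matrix (Fin 2) (Fin 2) F) = -1 := by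
    refine ⟨⟨-1, ?_⟩, rfl⟩
    rw [Matrix.det_neg, Matrix.det_one]
    simp
  have hz2 : z * z = 1 := by
    apply Subtype.ext
    rw [Matrix.SpecialLinearGroup.coe_mul, hzM]
    simp
  have hzc : ∀ g : Matrix.SpecialLinearGroup (Fin 2) F, g * z = z * g := by
    intro g
    apply Subtype.ext
    rw [Matrix.SpecialLinearGroup.coe_mul, Matrix.SpecialLinearGroup.coe_mul, hzM]
    simp
  have hz1 : z ≠ 1 := by
    intro h
    have h3 := congrArg (fun m : Matrix.SpecialLinearGroup (Fin 2) F =>
      (m : Matrix (Fin 2) (Fin 2) F) 0 0) h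
    simp only [hzM] at h3
    simp at h3
    apply h2
    linear_combination -h3
  have hoz : orderOf z = 2 := orderOf_eq_prime (by rw [pow_two]; exact hz2) hz1
  have H1 : ∀ t : Matrix.SpecialLinearGroup (Fin 2) F, t * t = 1 → t = 1 ∨ t = z := by
    intro t ht
    rcases sl2_sq_eq_one h2 ht with h | h
    · left; apply Subtype.ext; rw [h]; rfl
    · right; apply Subtype.ext; rw [h, hzM]
  have hns : ∀ c : Matrix.SpecialLinearGroup (Fin 2) F, c ≠ 1 → c ≠ z →
      ¬ IsScalar2 (c : Matrix (Fin 2) (Fin 2) F) := by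
    intro c hc1 hcz hs
    rcases sl2_isScalar2_cases c hs with h | h
    · apply hc1; apply Subtype.ext; rw [h]; rfl
    · apply hcz; apply Subtype.ext; rw [h, hzM]
  have H2 : ∀ c : Matrix.SpecialLinearGroup (Fin 2) F, c ≠ 1 → c ≠ z →
      ∀ x y : Matrix.SpecialLinearGroup (Fin 2) F, x * c = c * x → y * c = c * y →
        x * y = y * x := by
    intro c hc1 hcz x y hx hy
    exact sl2_centralizer_comm (hns c hc1 hcz) (sl2_mem_centralizer_singleton.2 hx.symm)
      (sl2_mem_centralizer_singleton.2 hy.symm)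
  -- elements of R have order prime to p
  have hRord : ∀ r ∈ R, (orderOf r).Coprime p := fun r hr =>
    Nat.Coprime.coprime_dvd_left (Subgroup.orderOf_dvd_natCard R hr) hR
  have hsq_of_dvd : ∀ r ∈ R, ∀ m : ℕ, orderOf r ∣ 2 * p ^ m → r * r = 1 := by
    intro r hr m hdvd
    have h1 : (orderOf r).Coprime (p ^ m) := Nat.Coprime.pow_right m (hRord r hr)
    have h3 : orderOf r ∣ 2 := h1.dvd_of_dvd_mul_right hdvd
    rw [← pow_two]
    exact orderOf_dvd_iff_pow_eq_one.1 h3
  -- centralizer of a in R
  have Ca : ∀ r ∈ R, r * a = a * r → r = 1 ∨ r = z := by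
    intro r hr hra
    obtain ⟨b, hb, hcj⟩ := sl2_unipotent_conj_upper p hoa
    obtain ⟨g, hg⟩ := isConj_iff.1 hcj
    have hmem : g * r * g⁻¹ ∈ Subgroup.centralizer
        ({sl2Upper 1 (one_mul 1) b} : Set (Matrix.SpecialLinearGroup (Fin 2) F)) := by
      rw [sl2_mem_centralizer_singleton, ← hg]
      have e1 : g * a * g⁻¹ * (g * r * g⁻¹) = g * (a * r) * g⁻¹ := by group
      have e2 : g * r * g⁻¹ * (g * a * g⁻¹) = g * (r * a) * g⁻¹ := by group
      rw [e1, e2, hra]
    have hpow : (g * r * g⁻¹) ^ (2 * Fintype.card F) = 1 := by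
      have h3 := pow_card_eq_one' (G := Subgroup.centralizer
        ({sl2Upper 1 (one_mul 1) b} : Set (Matrix.SpecialLinearGroup (Fin 2) F)))
        (x := ⟨g * r * g⁻¹, hmem⟩)
      rw [card_centralizer_sl2Upper hF hb] at h3
      have := congrArg Subtype.val h3
      simpa using this
    have hpow' : r ^ (2 * Fintype.card F) = 1 := by
      rw [conj_pow] at hpow
      have : r ^ (2 * Fintype.card F) = g⁻¹ * (g * r ^ (2 * Fintype.card F) * g⁻¹) * g := by
        group
      rw [this, hpow]; group
    have hdvd := orderOf_dvd_of_pow_eq_one hpow'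
    rw [hcardF] at hdvd
    exact H1 r (hsq_of_dvd r hr n hdvd)
  -- trace condition
  have hD : ∀ s ∈ R, s ≠ 1 → s ≠ z → (s : Matrix (Fin 2) (Fin 2) F).trace ^ 2 ≠ 4 := by
    intro s hs hs1 hsz h4
    have hfac : ((s : Matrix (Fin 2) (Fin 2) F).trace - 2) *
        ((s : Matrix (Fin 2) (Fin 2) F).trace + 2) = 0 := by linear_combination h4
    rcases mul_eq_zero.1 hfac with h | h
    · have htr : (s : Matrix (Fin 2) (Fin 2) F).trace = 2 := by linear_combination h
      have hos : orderOf s = p := (sl2_orderOf_eq_char_iff p s).2 ⟨hs1, htr⟩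
      have := hRord s hs
      rw [hos, Nat.coprime_self] at this
      exact hpp.one_lt.ne' this
    · have htr : ((z * s : Matrix.SpecialLinearGroup (Fin 2) F) :
          Matrix (Fin 2) (Fin 2) F).trace = 2 := by
        rw [Matrix.SpecialLinearGroup.coe_mul, hzM, neg_one_mul, Matrix.trace_neg]
        linear_combination -h
      have hzs1 : z * s ≠ 1 := by
        intro h1
        apply hsz
        have : s = z⁻¹ := eq_inv_of_mul_eq_one_right h1
        rw [this]
        exact inv_eq_of_mul_eq_one_left hz2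
      have hos : orderOf (z * s) = p := (sl2_orderOf_eq_char_iff p (z * s)).2 ⟨hzs1, htr⟩
      have h5 : (z * s) ^ (2 * p) = 1 := by
        rw [mul_comm 2 p, pow_mul, ← hos, pow_orderOf_eq_one, one_pow]
      have hcomm : Commute z s := (hzc s).symm
      rw [hcomm.mul_pow, pow_mul, pow_two, hz2, one_pow, one_mul] at h5
      have hdvd := orderOf_dvd_of_pow_eq_one h5
      have hss := hsq_of_dvd s hs 1 (by rwa [pow_one])
      rcases H1 s hss with h' | h'
      · exact hs1 h'
      · exact hsz h'
  have K : ∀ s ∈ R, (a * s * a⁻¹) * s = s * (a * s * a⁻¹) → s = 1 ∨ s = z := by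
    intro s hs hcomm
    by_contra hcon
    rw [not_or] at hcon
    obtain ⟨hs1, hsz⟩ := hcon
    have hx : a * s * a⁻¹ ∈ Subgroup.centralizer
        ({s} : Set (Matrix.SpecialLinearGroup (Fin 2) F)) :=
      sl2_mem_centralizer_singleton.2 hcomm.symm
    have hcs : Commute a s := by
      rcases sl2_trace_eq_in_centralizer h2 (hD s hs hs1 hsz) hx (sl2_trace_conj s a) with h | h
      · exact mul_inv_eq_iff_eq_mul.1 h
      · apply commute_of_sq hodda
        have h4 : a ^ 2 * s * (a ^ 2)⁻¹ = s := by
          have e : a ^ 2 * s * (a ^ 2)⁻¹ = a * (a * s * a⁻¹) * a⁻¹ := by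
            simp only [pow_two, _root_.mul_inv_rev, mul_assoc]
          have e3 : a * s⁻¹ * a⁻¹ = (a * s * a⁻¹)⁻¹ := by
            simp only [_root_.mul_inv_rev, inv_inv, mul_assoc]
          rw [e, h, e3, h, inv_inv]
        exact mul_inv_eq_iff_eq_mul.1 h4
    rcases Ca s hs hcs.eq.symm with h | h
    · exact hs1 h
    · exact hsz h
  -- R is a 2-group
  have hcop : (Nat.card (Subgroup.zpowers a)).Coprime (Nat.card R) := by
    rw [Nat.card_zpowers, hoa]; exact hR.symm
  have hsolv : Group.IsSolvable (Subgroup.zpowers a) := by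
    letI : CommGroup (Subgroup.zpowers a) := IsCyclic.commGroup
    exact Group.isSolvable_of_comm (fun x y => mul_comm x y)
  have hR2 : IsPGroup 2 R := by
    rcases Nat.eq_two_pow_or_exists_odd_prime_and_dvd (Nat.card R) with ⟨k, hk⟩ | ⟨r, hr, hrd, hrodd⟩
    · exact IsPGroup.of_card hk
    · exfalso
      haveI : Fact r.Prime := ⟨hr⟩
      obtain ⟨P, hPR, hPcard, hPnorm⟩ := Cfsg.Agent.lead.exists_invariant_sylow
        (Subgroup.zpowers a) R (Subgroup.zpowers_le.2 haR) hcop (Or.inl hsolv) r
      have hpos : 0 < (Nat.card R).factorization r :=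
        hr.factorization_pos_of_dvd Nat.card_pos.ne' hrd
      have hPp : IsPGroup r P := IsPGroup.of_card hPcard
      have hPnt : Nontrivial P := by
        rw [← Finite.one_lt_card_iff_nontrivial, hPcard]
        exact Nat.one_lt_pow hpos.ne' hr.one_lt
      have hcnt : Nontrivial (Subgroup.center P) := hPp.center_nontrivial
      obtain ⟨⟨c, hcc⟩, hc1⟩ := exists_ne (1 : Subgroup.center P)
      have hc1' : (c : Matrix.SpecialLinearGroup (Fin 2) F) ≠ 1 := by
        intro h
        apply hc1
        apply Subtype.ext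
        apply Subtype.ext
        exact h
      have haP : a * (c : Matrix.SpecialLinearGroup (Fin 2) F) * a⁻¹ ∈ P :=
        (Subgroup.mem_normalizer_iff.1 (hPnorm (Subgroup.mem_zpowers a)) c).1 c.2
      have hcom : (a * (c : Matrix.SpecialLinearGroup (Fin 2) F) * a⁻¹) * c =
          c * (a * (c : Matrix.SpecialLinearGroup (Fin 2) F) * a⁻¹) := by
        have := Subgroup.mem_center_iff.1 hcc ⟨_, haP⟩
        exact congrArg Subtype.val this
      rcases K c (hPR c.2) hcom with h | h
      · exact hc1' h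
      · have hzP : z ∈ P := h ▸ c.2
        have hd : orderOf z ∣ Nat.card P := Subgroup.orderOf_dvd_natCard P hzP
        rw [hoz, hPcard] at hd
        have := (Nat.prime_dvd_prime_iff_eq Nat.prime_two hr).1 (Nat.prime_two.dvd_of_dvd_pow hd)
        rw [← this] at hrodd
        exact (by decide : ¬ Odd 2) hrodd
  -- non-central element
  have hnt' : ∃ s ∈ R, s ≠ 1 ∧ s ≠ z := by
    by_contra hcon
    apply hnt
    rw [Subgroup.commutator_eq_bot_iff_le_centralizer]
    intro s hs
    rw [Subgroup.mem_centralizer_iff]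
    intro h _
    by_cases hs1 : s = 1
    · rw [hs1]; simp
    · have hsz : s = z := by
        by_contra hsz
        exact hcon ⟨s, hs, hs1, hsz⟩
      rw [hsz]; exact hzc h
  obtain ⟨i, j, b, hb, hoi, hsq, hji, hbi, hbj, hb3, hiR, hjR, hRcl⟩ :=
    core z a R hz2 hzc H1 H2 hR2 haR hodda K hnt'
  have hob : orderOf b = p := by
    rcases hb with h | h
    · rw [h]; exact hoa
    · rw [h, orderOf_inv]; exact hoa
  have hp3 : p = 3 := by
    have hd : orderOf b ∣ 3 := orderOf_dvd_of_pow_eq_one hb3
    rw [hob] at hd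
    exact (Nat.prime_dvd_prime_iff_eq hpp Nat.prime_three).1 hd
  refine ⟨hp3, equiv_quaternion hoi hsq hji R hiR hjR hRcl, ?_⟩
  have hsup : R ⊔ Subgroup.zpowers a = Subgroup.closure ({i, j, b} : Set _) := by
    apply le_antisymm
    · apply sup_le
      · intro r hr
        have hle : Subgroup.closure ({i, j} : Set (Matrix.SpecialLinearGroup (Fin 2) F)) ≤
            Subgroup.closure ({i, j, b} : Set _) := by
          apply Subgroup.closure_mono
          intro x hx
          rcases hx with h | h
          · left; exact h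
          · right; left; exact h
        exact hle (hRcl r hr)
      · rw [Subgroup.zpowers_le]
        have hbcl : b ∈ Subgroup.closure ({i, j, b} : Set (Matrix.SpecialLinearGroup (Fin 2) F)) :=
          Subgroup.subset_closure (by simp)
        rcases hb with h | h
        · rw [← h]; exact hbcl
        · have := Subgroup.inv_mem _ hbcl
          have e : b⁻¹ = a := by rw [h, inv_inv]
          rwa [e] at this
    · rw [Subgroup.closure_le]
      intro x hx
      rcases hx with rfl | rfl | rfl
      · exact (le_sup_left : R ≤ R ⊔ Subgroup.zpowers a) hiR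
      · exact (le_sup_left : R ≤ R ⊔ Subgroup.zpowers a) hjR
      · apply (le_sup_right : Subgroup.zpowers a ≤ R ⊔ Subgroup.zpowers a)
        rcases hb with h | h
        · rw [h]; exact Subgroup.mem_zpowers a
        · rw [h]; exact Subgroup.inv_mem _ (Subgroup.mem_zpowers a)
  obtain ⟨e⟩ := closure_equiv_sl23 hoi hsq hji hb3 hbi hbj
  exact ⟨(MulEquiv.subgroupCongr hsup).trans e⟩

end Cfsg.Agent.S3740
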