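import Cfsg.Statements.S3742
import Cfsg.Agent.Lib_helper11_A4S4

open Cfsg

namespace Cfsg.Agent.S3742

open Cfsg.Agent.helper11 QuaternionGroup

abbrev Q8 := QuaternionGroup 2

def tab (ta tx : Fin 4 → Q8) : Q8 → Q8
  | .a k => ta k
  | .xa k => tx k

def f1 : Q8 → Q8 := tab ![a 0, xa 0, a 2, xa 2] ![a 1, xa 3, a 3, xa 1]
def f2 : Q8 → Q8 := tab ![a 0, a 3, a 2, a 1] ![xa 3, xa 2, xa 1, xa 0]
def f3 : Q8 → Q8 := tab ![a 0, xa 2, a 2, xa 0] ![a 3, xa 3, a 1, xa 1]

theorem f1_mul : ∀ x y : Q8, f1 (x * y) = f1 x * f1 y := by decide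
theorem f2_mul : ∀ x y : Q8, f2 (x * y) = f2 x * f2 y := by decide
theorem f3_mul : ∀ x y : Q8, f3 (x * y) = f3 x * f3 y := by decide
theorem f1_inv : ∀ x : Q8, f1 (f1 x) = x := by decide
theorem f2_inv : ∀ x : Q8, f2 (f2 x) = x := by decide
theorem f3_inv : ∀ x : Q8, f3 (f3 x) = x := by decide

def mk (f : Q8 → Q8) (hm : ∀ x y : Q8, f (x * y) = f x * f y) (hi : ∀ x : Q8, f (f x) = x) :
    MulAut Q8 :=
  { toFun := f, invFun := f, left_inv := hi, right_inv := hi, map_mul' := hm }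

def r1 : MulAut Q8 := mk f1 f1_mul f1_inv
def r2 : MulAut Q8 := mk f2 f2_mul f2_inv
def r3 : MulAut Q8 := mk f3 f3_mul f3_inv

theorem r12 : ∀ x : Q8, f1 (f2 (f1 (f2 (f1 (f2 x))))) = x := by decide
theorem r23 : ∀ x : Q8, f2 (f3 (f2 (f3 (f2 (f3 x))))) = x := by decide
theorem r13 : ∀ x : Q8, f1 (f3 (f1 (f3 x))) = x := by decide
theorem r13_ne : f1 (f3 (a 1)) ≠ a 1 := by decide

abbrev T := {p : Q8 × Q8 // p.1 ^ 2 ≠ 1 ∧ p.2 ^ 2 ≠ 1 ∧ p.2 ≠ p.1 ∧ p.2 ≠ p.1⁻¹}

theorem card_T : Fintype.card T = 24 := by decide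

theorem card_aut_le : Nat.card (MulAut Q8) ≤ 24 := by
  rw [← card_T, ← Nat.card_eq_fintype_card]
  have ha2 : (a 1 : Q8) ^ 2 = a 2 := by decide
  have hx2 : (xa 0 : Q8) ^ 2 = a 2 := by decide
  have hne : (a 2 : Q8) ≠ 1 := by decide
  let Φ : MulAut Q8 → T := fun φ => ⟨(φ (a 1), φ (xa 0)), by
    refine ⟨?_, ?_, ?_, ?_⟩
    · show φ (a 1) ^ 2 ≠ 1
      rw [← map_pow, ha2]
      intro h
      exact hne (φ.injective (h.trans (map_one φ).symm))
    · show φ (xa 0) ^ 2 ≠ 1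
      rw [← map_pow, hx2]
      intro h
      exact hne (φ.injective (h.trans (map_one φ).symm))
    · show φ (xa 0) ≠ φ (a 1)
      intro h
      exact absurd (φ.injective h) (by decide)
    · show φ (xa 0) ≠ (φ (a 1))⁻¹
      rw [← map_inv]
      intro h
      exact absurd (φ.injective h) (by decide)⟩
  apply Nat.card_le_card_of_injective Φ
  intro φ φ' h
  have h1 : φ (a 1) = φ' (a 1) := congrArg (fun p : T => p.1.1) h
  have h2 : φ (xa 0) = φ' (xa 0) := congrArg (fun p : T => p.1.2) h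
  have hak : ∀ k : ZMod 4, φ (a k) = φ' (a k) := by
    intro k
    have : (a k : Q8) = (a 1) ^ k.val := by
      rw [a_one_pow]
      simp
    rw [this, map_pow, map_pow, h1]
  apply MulEquiv.ext
  intro g
  cases g with
  | a k => exact hak k
  | xa k =>
    have : (xa k : Q8) = xa 0 * a k := by
      rw [xa_mul_a, zero_add]
    rw [this, map_mul, map_mul, h2, hak]

/-- The automorphism group of the quaternion group of order 8 is isomorphic to the symmetric group of degree 4. -/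
theorem result : Nonempty (MulAut (QuaternionGroup 2) ≃* Equiv.Perm (Fin 4)) := by
  have hext : ∀ φ : MulAut Q8, (∀ x, φ x = x) → φ = 1 := by
    intro φ h
    apply MulEquiv.ext
    intro x
    exact h x
  obtain ⟨ψ, hψ⟩ := A4S4.exists_injective_S4 r1 r2 r3
    (hext _ (fun x => f1_inv x)) (hext _ (fun x => f2_inv x)) (hext _ (fun x => f3_inv x))
    (hext _ (fun x => r12 x)) (hext _ (fun x => r23 x)) (hext _ (fun x => r13 x))
    (by
      intro h
      apply r13_ne
      have := congrArg (fun φ : MulAut Q8 => φ (a 1)) h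
      exact this)
  have hbij : Function.Bijective ψ := by
    apply Function.Injective.bijective_of_nat_card_le hψ
    rw [Nat.card_perm, Nat.card_fin]
    exact card_aut_le
  exact ⟨(MulEquiv.ofBijective ψ hbij).symm⟩

end Cfsg.Agent.S3742
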