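import Cfsg.Statements.S3744
-- import your own Cfsg.Agent.* helpers here
import Mathlib
import Cfsg.Agent.Lib_helper19_PComp1

set_option autoImplicit false
open Cfsg

namespace Cfsg.Agent.S3744

/-- A finite p-soluble group has a p-complement, all its p-complements are conjugate, and every subgroup of order prime to p lies in one of them. Here a p-complement is a subgroup of order prime to p whose index is a power of p. -/
theorem result {G : Type*} [Group G] [Finite G] {p : ℕ} [Fact p.Prime] (hG : Cfsg.IsPSolvable p G) : (∃ H : Subgroup G, (Nat.card H).Coprime p ∧ ∃ n : ℕ, H.index = p ^ n) ∧ (∀ H₁ H₂ : Subgroup G, (Nat.card H₁).Coprime p → (∃ n : ℕ, H₁.index = p ^ n) → (Nat.card H₂).Coprime p → (∃ n : ℕ, H₂.index = p ^ n) → ∃ g : G, H₂ = H₁.map (MulAut.conj g).toMonoidHom) ∧ (∀ U : Subgroup G, (Nat.card U).Coprime p → ∃ H : Subgroup G, (Nat.card H).Coprime p ∧ (∃ n : ℕ, H.index = p ^ n) ∧ ∃ g : G, U.map (MulAut.conj g).toMonoidHom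 ≤ H) := by
  obtain ⟨⟨H, hH⟩, hD⟩ := Cfsg.Agent.helper19.pcomp_main p _ G rfl hG
  refine ⟨⟨H, hH.1, hH.2⟩, ?_, ?_⟩
  · intro H₁ H₂ h1 h1' h2 h2'
    have hP1 : Cfsg.Agent.helper19.PComp p H₁ := ⟨h1, h1'⟩
    have hP2 : Cfsg.Agent.helper19.PComp p H₂ := ⟨h2, h2'⟩
    obtain ⟨g, hg⟩ := hD H₂ H₁ hP2 h1
    refine ⟨g, ?_⟩
    have hc : Nat.card (H₁.map (MulAut.conj g).toMonoidHom) = Nat.card H₁ :=
      Cfsg.Agent.helper7.card_cj g H₁
    have hc2 : Nat.card H₂ ≤ Nat.card (H₁.map (MulAut.conj g).toMonoidHom) := by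
      rw [hc, Cfsg.Agent.helper19.PComp.card_eq hP1 hP2]
    exact (Subgroup.eq_of_le_of_card_ge hg hc2).symm
  · intro U hU
    exact ⟨H, hH.1, hH.2, hD H U hH hU⟩

end Cfsg.Agent.S3744
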