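import Cfsg.Statements.S3750
-- import your own Cfsg.Agent.* helpers here
import Mathlib
import Cfsg.Agent.Lib_helper19_Primitive2

set_option autoImplicit false
open Cfsg

namespace Cfsg.Agent.S3750

/-- Call a proper subgroup M of G primitive when M = N_G(N) for every non-trivial normal subgroup N of M. Let M be a primitive subgroup of the finite group G and N a normal subgroup of G with M ∩ F*(N) ≠ 1. Then F(G) = 1 and F*(N) = F*(G) = E(G); in particular every minimal normal subgroup of G is contained in N. -/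
theorem result {G : Type*} [Group G] [Finite G] (M : Subgroup G) (hM : M ≠ ⊤) (hprim : ∀ N : Subgroup G, N ≤ M → M ≤ Subgroup.normalizer (N : Set G) → N ≠ ⊥ → Subgroup.normalizer (N : Set G) = M) (N : Subgroup G) [N.Normal] (hMF : M ⊓ (Cfsg.generalizedFittingSubgroup ↥N).map N.subtype ≠ ⊥) : Cfsg.fittingSubgroup G = ⊥ ∧ (Cfsg.generalizedFittingSubgroup ↥N).map N.subtype = Cfsg.generalizedFittingSubgroup G ∧ Cfsg.generalizedFittingSubgroup G = Cfsg.layer G ∧ ∀ K : Subgroup G, K.Normal → K ≠ ⊥ → (∀ K' : Subgroup G, K'.Normal → K' ≤ K → K' = ⊥ ∨ K' = K) → K ≤ N := by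
  open Cfsg.Agent.helper7 Cfsg.Agent.helper19 in
  have hN : N.Normal := inferInstance
  rw [map_generalizedFittingSubgroup_eq] at hMF
  obtain ⟨h1, h2, h3, h4⟩ := primitive_fstar hM hprim hN hMF
  refine ⟨?_, ?_, ?_, h4⟩
  · rw [fittingSubgroup_eq]; exact h1
  · rw [map_generalizedFittingSubgroup_eq, generalizedFittingSubgroup_eq]; exact h2
  · rw [generalizedFittingSubgroup_eq, layer_eq_layerOf]; exact h3

end Cfsg.Agent.S3750
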