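import Mathlib
import Cfsg.Statements.S3752
import Cfsg.Agent.Lib_helper7_Bender6

set_option autoImplicit false
open Cfsg

namespace Cfsg.Agent.S3752

open Cfsg.Agent.helper7 in
/-- Bender's Theorem on primitive pairs. Two distinct subgroups M₁, M₂ of G form a primitive pair when, for {i, j} = {1, 2}, every non-trivial normal subgroup A of M_i contained in M₁ ∩ M₂ satisfies N_{M_j}(A) = M₁ ∩ M₂; the pair has characteristic p when moreover C_{M_i}(O_p(M_i)) ≤ O_p(M_i) for both i and O_p(M₁)O_p(M₂) ≤ M₁ ∩ M₂. If (M₁, M₂) is a primitive pair of the finite group G with F*(M₁) ≤ M₂ and F*(M₂) ≤ M₁, then for some prime p the pair has characteristic p. -/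
theorem result {G : Type*} [Group G] [Finite G] (M₁ M₂ : Subgroup G) (hne : M₁ ≠ M₂) (hP : ∀ A : Subgroup G, A ≠ ⊥ → A ≤ M₁ ⊓ M₂ → (M₁ ≤ Subgroup.normalizer (A : Set G) → M₂ ⊓ Subgroup.normalizer (A : Set G) = M₁ ⊓ M₂) ∧ (M₂ ≤ Subgroup.normalizer (A : Set G) → M₁ ⊓ Subgroup.normalizer (A : Set G) = M₁ ⊓ M₂)) (h₁ : (Cfsg.generalizedFittingSubgroup ↥M₁).map M₁.subtype ≤ M₂) (h₂ : (Cfsg.generalizedFittingSubgroup ↥M₂).map M₂.subtype ≤ M₁) : ∃ p : ℕ, p.Prime ∧ Subgroup.centralizer (Cfsg.pCore p ↥M₁ : Set ↥M₁) ≤ Cfsg.pCore p ↥M₁ ∧ Subgroup.centralizer (Cfsg.pCore p ↥M₂ : Set ↥M₂) ≤ Cfsg.pCore p ↥M₂ ∧ (Cfsg.pCore p ↥M₁).map M₁.subtype ⊔ (Cfsg.pCore p ↥M₂).map M₂.subtype ≤ M₁ ⊓ M₂ := by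
  rw [map_generalizedFittingSubgroup_eq] at h₁ h₂
  have hpair : BPair M₁ M₂ := by
    refine ⟨?_, ?_, h₁, h₂⟩
    · intro K hK hKle hMK
      rw [(hP K hK hKle).1 hMK]
      exact inf_le_left
    · intro K hK hKle hNK
      have hKle' : K ≤ M₁ ⊓ M₂ := by rw [inf_comm]; exact hKle
      rw [(hP K hK hKle').2 hNK]
      exact inf_le_right
  obtain ⟨p, hp, hEM, hEN, hpM, hpN⟩ := bender_unique hpair hne
  refine ⟨p, hp, centralizer_pCore_le hp hEM hpM, centralizer_pCore_le hp hEN hpN, ?_⟩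
  rw [map_pCore_eq hp, map_pCore_eq hp]
  apply sup_le
  · exact le_inf (piCoreIn_le _ _) (((piCoreIn_le_fitOf hp M₁).trans le_sup_right).trans h₁)
  · exact le_inf (((piCoreIn_le_fitOf hp M₂).trans le_sup_right).trans h₂) (piCoreIn_le _ _)

end Cfsg.Agent.S3752
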