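import Cfsg.Statements.S3760
-- import your own Cfsg.Agent.* helpers here

set_option autoImplicit false
open Cfsg

namespace Cfsg.Agent.S3760

/-- Let the group G act transitively on a set X, let x ∈ X with stabilizer H = G_x, and let K ≤ H. Then N_G(K) acts transitively on the set of fixed points of K if and only if every G-conjugate of K contained in H is already an H-conjugate of K. -/
theorem result {G : Type*} [Group G] {X : Type*} [MulAction G X] (htrans : ∀ a b : X, ∃ g : G, g • a = b) (x : X) (K : Subgroup G) (hK : K ≤ MulAction.stabilizer G x) : (∀ a b : X, (∀ k ∈ K, k • a = a) → (∀ k ∈ K, k • b = b) → ∃ g ∈ Subgroup.normalizer (K : Set G), g • a = b) ↔ ∀ g : G, K.map (MulAut.conj g).toMonoidHom ≤ MulAction.stabilizer G x → ∃ h ∈ MulAction.stabilizer G x, K.map (MulAut.conj g).toMonoidHom = K.map (MulAut.conj h).toMonoidHom := by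
  have memconj : ∀ (g y : G), y ∈ K.map (MulAut.conj g).toMonoidHom ↔ g⁻¹ * y * g ∈ K := by
    intro g y
    constructor
    · rintro ⟨k, hk, rfl⟩
      simpa [MulAut.conj_apply, mul_assoc] using hk
    · intro h
      exact ⟨g⁻¹ * y * g, h, by simp [MulAut.conj_apply, mul_assoc]⟩
  have norm_of_eq : ∀ (s h : G), K.map (MulAut.conj s⁻¹).toMonoidHom = K.map (MulAut.conj h).toMonoidHom →
      s * h ∈ Subgroup.normalizer (K : Set G) := by
    intro s h heq
    rw [Subgroup.mem_normalizer_iff'']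
    intro k
    have e3 : (s * h)⁻¹ * k * (s * h) = h⁻¹ * (s⁻¹ * k * s) * h := by group
    rw [e3]
    have h3 := memconj h (s⁻¹ * k * s)
    have h4 := memconj s⁻¹ (s⁻¹ * k * s)
    rw [heq] at h4
    have e : s⁻¹⁻¹ * (s⁻¹ * k * s) * s⁻¹ = k := by group
    rw [e] at h4
    rw [← h3, h4]
  constructor
  · intro H g hg
    have hfix : ∀ k ∈ K, k • (g⁻¹ • x) = g⁻¹ • x := by
      intro k hk
      have : g * k * g⁻¹ ∈ MulAction.stabilizer G x := by
        apply hg
        rw [memconj]
        have : g⁻¹ * (g * k * g⁻¹) * g = k := by group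
        rw [this]; exact hk
      rw [MulAction.mem_stabilizer_iff] at this
      calc k • (g⁻¹ • x) = g⁻¹ • ((g * k * g⁻¹) • x) := by simp [mul_smul]
        _ = g⁻¹ • x := by rw [this]
    have hfix0 : ∀ k ∈ K, k • x = x := fun k hk => MulAction.mem_stabilizer_iff.mp (hK hk)
    obtain ⟨n, hn, hnx⟩ := H x (g⁻¹ • x) hfix0 hfix
    refine ⟨g * n, ?_, ?_⟩
    · rw [MulAction.mem_stabilizer_iff, mul_smul, hnx, smul_inv_smul]
    · ext y
      rw [memconj, memconj]
      rw [Subgroup.mem_normalizer_iff''] at hn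
      have e : (g * n)⁻¹ * y * (g * n) = n⁻¹ * (g⁻¹ * y * g) * n := by group
      rw [e]
      exact hn _
  · intro H a b ha hb
    obtain ⟨s, hs⟩ := htrans x a
    obtain ⟨t, ht⟩ := htrans x b
    have key : ∀ (s : G) (a : X), s • x = a → (∀ k ∈ K, k • a = a) →
        ∃ h ∈ MulAction.stabilizer G x, s * h ∈ Subgroup.normalizer (K : Set G) := by
      intro s a hs ha
      have hle : K.map (MulAut.conj s⁻¹).toMonoidHom ≤ MulAction.stabilizer G x := by
        intro y hy
        rw [memconj] at hy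
        rw [MulAction.mem_stabilizer_iff]
        have h1 := ha _ hy
        rw [← hs] at h1
        have : y • x = s⁻¹ • ((s⁻¹⁻¹ * y * s⁻¹) • (s • x)) := by simp [mul_smul]
        rw [this, h1, inv_smul_smul]
      obtain ⟨h, hh, heq⟩ := H s⁻¹ hle
      exact ⟨h, hh, norm_of_eq s h heq⟩
    obtain ⟨h1, hh1, hn1⟩ := key s a hs ha
    obtain ⟨h2, hh2, hn2⟩ := key t b ht hb
    refine ⟨(t * h2) * (s * h1)⁻¹, Subgroup.mul_mem _ hn2 (Subgroup.inv_mem _ hn1), ?_⟩
    rw [MulAction.mem_stabilizer_iff] at hh1 hh2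
    have e1 : (s * h1)⁻¹ • a = x := by
      rw [← hs, mul_inv_rev, mul_smul, inv_smul_smul]
      rw [inv_smul_eq_iff, hh1]
    rw [mul_smul, e1, mul_smul, hh2, ht]

end Cfsg.Agent.S3760
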