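import Mathlib
import Cfsg.Statements.S3763
import Cfsg.Agent.Lib_helper17_ES7

set_option autoImplicit false
open Cfsg

namespace Cfsg.Agent.S3763

open Cfsg.Agent.helper17.ES

universe u

theorem ab_of_comm {E : Type*} [Group E] {A : Subgroup E} (hA : IsMulCommutative A) : Ab A := by
  intro a ha b hb
  have := hA.is_comm.comm (⟨a, ha⟩ : A) ⟨b, hb⟩
  exact congrArg Subtype.val this

theorem comm_of_ab {E : Type*} [Group E] {A : Subgroup E} (hA : Ab A) : IsMulCommutative A :=
  ⟨⟨fun a b => Subtype.ext (hA a a.2 b b.2)⟩⟩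

theorem rank_plus {E : Type u} [Group E] [Finite E] (hE : CT 2 E) (n : ℕ) (hp : IsPlus E n) :
    Cfsg.PRankLE 2 (n + 1) E ∧ ¬ Cfsg.PRankLE 2 n E := by
  constructor
  · intro A hA _
    exact abelian_bound n E hE hp.1 A (ab_of_comm hA)
  · intro hr
    obtain ⟨A, hA, hA2, hAc⟩ := exists_EA_plus n E hE hp
    have h1 := hr A (comm_of_ab hA) hA2
    have h2 : (2 : ℕ) ^ n < 2 ^ (n + 1) := Nat.pow_lt_pow_right (by norm_num) (by omega)
    omega

theorem rank_minus {E : Type u} [Group E] [Finite E] (hE : CT 2 E) (n : ℕ) (hm : IsMinus E n) :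
    Cfsg.PRankLE 2 n E ∧ ¬ Cfsg.PRankLE 2 (n - 1) E := by
  obtain ⟨hcard, hn1, hs⟩ := hm
  constructor
  · intro A hA hA2
    by_contra hlt
    push Not at hlt
    have hb := abelian_bound n E hE hcard A (ab_of_comm hA)
    have hdvd : Nat.card A ∣ 2 ^ (2 * n + 1) := by
      rw [← hcard]; exact Subgroup.card_subgroup_dvd_card A
    obtain ⟨k, _, hk⟩ := (Nat.dvd_prime_pow Nat.prime_two).mp hdvd
    rw [hk] at hlt hb
    have h1 : n < k := (Nat.pow_lt_pow_iff_right (by norm_num)).mp hlt
    have h2 : k ≤ n + 1 := (Nat.pow_le_pow_iff_right (by norm_num)).mp hb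
    have h3 : k = n + 1 := by omega
    rw [h3] at hk
    have := plus_of_big n E hE hcard A (ab_of_comm hA) hA2 hk
    have hpos : 0 < 2 ^ n := Nat.pos_of_ne_zero (by positivity)
    omega
  · intro hr
    obtain ⟨A, hA, hA2, hAc⟩ := exists_EA_minus n E hE ⟨hcard, hn1, hs⟩
    have h1 := hr A (comm_of_ab hA) hA2
    have h2 : (2 : ℕ) ^ (n - 1) < 2 ^ n := Nat.pow_lt_pow_right (by norm_num) (by omega)
    omega

/-- Let E be an extraspecial 2-group of order 2^(2n+1). Then the largest elementary abelian subgroups of E have order 2^n or 2^(n+1); and two extraspecial 2-groups of the same order whose largest elementary abelian subgroups have the same order are isomorphic. -/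
theorem result {E : Type*} [Group E] [Finite E] (hE : Cfsg.IsExtraspecial 2 E) (n : ℕ) (hn : Nat.card E = 2 ^ (2 * n + 1)) : ((Cfsg.PRankLE 2 n E ∧ ¬ Cfsg.PRankLE 2 (n - 1) E) ∨ (Cfsg.PRankLE 2 (n + 1) E ∧ ¬ Cfsg.PRankLE 2 n E)) ∧ ∀ (E' : Type*) [Group E'] [Finite E'], Cfsg.IsExtraspecial 2 E' → Nat.card E' = Nat.card E → (∀ k : ℕ, Cfsg.PRankLE 2 k E ↔ Cfsg.PRankLE 2 k E') → Nonempty (E ≃* E') := by
  have hct := CT.of_extraspecial hE
  constructor
  · rcases type_cases n E hct hn with hp | hm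
    · exact Or.inr (rank_plus hct n hp)
    · exact Or.inl (rank_minus hct n hm)
  · intro E' _ _ hE' hc hk
    have hct' := CT.of_extraspecial hE'
    have hn' : Nat.card E' = 2 ^ (2 * n + 1) := by rw [hc, hn]
    rcases type_cases n E hct hn with hp | hm <;> rcases type_cases n E' hct' hn' with hp' | hm'
    · exact classify n E E' hct hct' hn hn' (by rw [hp.2, hp'.2])
    · exfalso
      exact (rank_plus hct n hp).2 ((hk n).mpr (rank_minus hct' n hm').1)
    · exfalso
      exact (rank_plus hct' n hp').2 ((hk n).mp (rank_minus hct n hm).1)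
    · apply classify n E E' hct hct' hn hn'
      have h1 := hm.2.2
      have h2 := hm'.2.2
      omega

end Cfsg.Agent.S3763
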