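import Cfsg.Statements.S3768
import Cfsg.Agent.S0035

set_option autoImplicit false
open Cfsg

namespace Cfsg.Agent.S3768

open scoped Pointwise

lemma mem_conj_smul {G : Type*} [Group G] (H : Subgroup G) (g x : G) :
    x ∈ MulAut.conj g • H ↔ g⁻¹ * x * g ∈ H := by
  rw [Subgroup.mem_pointwise_smul_iff_inv_smul_mem]
  have : (MulAut.conj g)⁻¹ • x = g⁻¹ * x * g := by
    rw [MulAut.smul_def, ← map_inv, MulAut.conj_apply, inv_inv]
  rw [this]

theorem result {G : Type*} [Group G] [Finite G] (R : Subgroup G) (hR : Cfsg.IsFrobeniusComplement R) (N : Subgroup G) [N.Normal] (hKN : ¬ Cfsg.frobeniusKernel R ⊆ N) : Cfsg.IsFrobeniusComplement (R.map (QuotientGroup.mk' N)) ∧ Cfsg.frobeniusKernel (R.map (QuotientGroup.mk' N)) = QuotientGroup.mk' N '' Cfsg.frobeniusKernel R := by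
  classical
  have hNn : N.Normal := inferInstance
  obtain ⟨K, hKset, hKn, hcompl⟩ := Cfsg.Agent.S0035.result R hR
  obtain ⟨hRbot, hRtop, hTI⟩ := hR
  have hKmem : ∀ x : G, x ∈ K ↔ (x = 1 ∨ ∀ g : G, x ∉ MulAut.conj g • R) := by
    intro x
    rw [← SetLike.mem_coe, hKset]
    rfl
  have hKR : ∀ x : G, x ∈ K → x ∈ R → x = 1 := by
    intro x hxK hxR
    have := hcompl.disjoint
    rw [Subgroup.disjoint_def] at this
    exact this hxK hxR
  -- F3: centraliser in `K` of a non-identity element of `R` is trivial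
  have hF3 : ∀ r ∈ R, r ≠ 1 → ∀ k ∈ K, k * r * k⁻¹ * r⁻¹ = 1 → k = 1 := by
    intro r hr hr1 k hk hkr
    by_contra hk1
    have hkR : k ∉ R := fun h => hk1 (hKR k hk h)
    have h1 := hTI k hkR
    have hcomm : k * r * k⁻¹ = r := by
      have := mul_inv_eq_one.mp hkr
      exact this
    have hmem : r ∈ R ⊓ MulAut.conj k • R := by
      refine Subgroup.mem_inf.mpr ⟨hr, ?_⟩
      rw [mem_conj_smul]
      have : k⁻¹ * r * k = r := by
        calc k⁻¹ * r * k = k⁻¹ * (k * r * k⁻¹) * k := by rw [hcomm]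
          _ = r := by group
      rw [this]; exact hr
    rw [h1, Subgroup.mem_bot] at hmem
    exact hr1 hmem
  -- F4: `N ≤ K`
  have hNK : N ≤ K := by
    by_contra hcon
    obtain ⟨x, hxN, hxK⟩ := SetLike.not_le_iff_exists.mp hcon
    rw [hKmem] at hxK
    push Not at hxK
    obtain ⟨hx1, g, hxg⟩ := hxK
    rw [mem_conj_smul] at hxg
    set y := g⁻¹ * x * g with hy
    have hyN : y ∈ N := by
      have := hNn.conj_mem x hxN g⁻¹
      rwa [inv_inv] at this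
    have hy1 : y ≠ 1 := by
      intro h
      apply hx1
      have : x = g * y * g⁻¹ := by rw [hy]; group
      rw [this, h]; group
    apply hKN
    rw [← hKset]
    -- injection from `K` into `N ⊓ K`
    have hinj : Function.Injective (fun k : K => (⟨(k : G) * y * (k : G)⁻¹ * y⁻¹,
        ⟨N.mul_mem (hNn.conj_mem y hyN k) (N.inv_mem hyN), by
          have h1 : y * (k : G)⁻¹ * y⁻¹ ∈ K := hKn.conj_mem _ (K.inv_mem k.2) y
          have h2 : (k : G) * y * (k : G)⁻¹ * y⁻¹ = (k : G) * (y * (k : G)⁻¹ * y⁻¹) := by group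
          rw [h2]
          exact K.mul_mem k.2 h1⟩⟩ : (N ⊓ K : Subgroup G))) := by
      intro k₁ k₂ h12
      have h12' : (k₁ : G) * y * (k₁ : G)⁻¹ * y⁻¹ = (k₂ : G) * y * (k₂ : G)⁻¹ * y⁻¹ :=
        congrArg Subtype.val h12
      have h3 : ((k₂ : G)⁻¹ * (k₁ : G)) * y * ((k₂ : G)⁻¹ * (k₁ : G))⁻¹ * y⁻¹ = 1 := by
        have h4 : (k₁ : G) * y * (k₁ : G)⁻¹ = (k₂ : G) * y * (k₂ : G)⁻¹ := mul_right_cancel h12'
        calc ((k₂ : G)⁻¹ * (k₁ : G)) * y * ((k₂ : G)⁻¹ * (k₁ : G))⁻¹ * y⁻¹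
            = (k₂ : G)⁻¹ * ((k₁ : G) * y * (k₁ : G)⁻¹) * (k₂ : G) * y⁻¹ := by group
          _ = 1 := by rw [h4]; group
      have h5 := hF3 y hxg hy1 _ (K.mul_mem (K.inv_mem k₂.2) k₁.2) h3
      apply Subtype.ext
      exact (inv_mul_eq_one.mp h5).symm
    have hcard := Nat.card_le_card_of_injective _ hinj
    have hle : (N ⊓ K : Subgroup G) ≤ K := inf_le_right
    have heq : (N ⊓ K : Subgroup G) = K := Subgroup.eq_of_le_of_card_ge hle hcard
    intro z hz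
    have hz' : z ∈ K := hz
    have : z ∈ (N ⊓ K : Subgroup G) := by rw [heq]; exact hz'
    exact (Subgroup.mem_inf.mp this).1
  -- F5
  have hF5 : ∀ r ∈ R, r ≠ 1 → ∀ k ∈ K, k * r * k⁻¹ * r⁻¹ ∈ N → k ∈ N := by
    intro r hr hr1 k hk hkr
    -- the commutator map on `N` is injective, hence surjective
    have hinj : Function.Injective (fun m : N => (⟨(m : G) * r * (m : G)⁻¹ * r⁻¹, by
        have h1 : r * (m : G)⁻¹ * r⁻¹ ∈ N := hNn.conj_mem _ (N.inv_mem m.2) r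
        have h2 : (m : G) * r * (m : G)⁻¹ * r⁻¹ = (m : G) * (r * (m : G)⁻¹ * r⁻¹) := by group
        rw [h2]
        exact N.mul_mem m.2 h1⟩ : N)) := by
      intro m₁ m₂ h12
      have h12' : (m₁ : G) * r * (m₁ : G)⁻¹ * r⁻¹ = (m₂ : G) * r * (m₂ : G)⁻¹ * r⁻¹ :=
        congrArg Subtype.val h12
      have h3 : ((m₂ : G)⁻¹ * (m₁ : G)) * r * ((m₂ : G)⁻¹ * (m₁ : G))⁻¹ * r⁻¹ = 1 := by
        have h4 : (m₁ : G) * r * (m₁ : G)⁻¹ = (m₂ : G) * r * (m₂ : G)⁻¹ := mul_right_cancel h12'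
        calc ((m₂ : G)⁻¹ * (m₁ : G)) * r * ((m₂ : G)⁻¹ * (m₁ : G))⁻¹ * r⁻¹
            = (m₂ : G)⁻¹ * ((m₁ : G) * r * (m₁ : G)⁻¹) * (m₂ : G) * r⁻¹ := by group
          _ = 1 := by rw [h4]; group
      have h5 := hF3 r hr hr1 _ (hNK (N.mul_mem (N.inv_mem m₂.2) m₁.2)) h3
      apply Subtype.ext
      exact (inv_mul_eq_one.mp h5).symm
    have hsurj := Finite.surjective_of_injective hinj
    obtain ⟨m', hm'⟩ := hsurj ⟨k * r * k⁻¹ * r⁻¹, hkr⟩
    have hm'eq : (m' : G) * r * (m' : G)⁻¹ * r⁻¹ = k * r * k⁻¹ * r⁻¹ := congrArg Subtype.val hm'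
    have h6 : ((m' : G)⁻¹ * k) * r * ((m' : G)⁻¹ * k)⁻¹ * r⁻¹ = 1 := by
      have h7 : (m' : G) * r * (m' : G)⁻¹ = k * r * k⁻¹ := mul_right_cancel hm'eq
      calc ((m' : G)⁻¹ * k) * r * ((m' : G)⁻¹ * k)⁻¹ * r⁻¹
          = (m' : G)⁻¹ * (k * r * k⁻¹) * (m' : G) * r⁻¹ := by group
        _ = 1 := by rw [← h7]; group
    have h8 := hF3 r hr hr1 _ (K.mul_mem (K.inv_mem (hNK m'.2)) hk) h6
    have : k = (m' : G) := (inv_mul_eq_one.mp h8).symm
    rw [this]; exact m'.2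
  -- decomposition `g = k * r`
  have hdecomp : ∀ g : G, ∃ k ∈ K, ∃ r ∈ R, g = k * r := by
    intro g
    obtain ⟨⟨k, r⟩, hkr, -⟩ := hcompl.existsUnique g
    exact ⟨k, k.2, r, r.2, hkr.symm⟩
  set π := QuotientGroup.mk' N with hπ
  have hπ1 : ∀ x : G, π x = 1 ↔ x ∈ N := fun x => QuotientGroup.eq_one_iff x
  have hπeq : ∀ x y : G, π x = π y ↔ x⁻¹ * y ∈ N := fun x y => QuotientGroup.eq
  have hπsurj : Function.Surjective π := QuotientGroup.mk'_surjective N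
  -- an element of `K` outside `N`
  obtain ⟨k₀, hk₀K, hk₀N⟩ : ∃ k₀, k₀ ∈ K ∧ k₀ ∉ N := by
    rw [Set.not_subset] at hKN
    obtain ⟨x, hx, hxN⟩ := hKN
    exact ⟨x, by rw [← SetLike.mem_coe, hKset]; exact hx, hxN⟩
  have hRN : ∀ r ∈ R, r ∈ N → r = 1 := fun r hr hrN => hKR r (hNK hrN) hr
  refine ⟨⟨?_, ?_, ?_⟩, ?_⟩
  · -- nontrivial
    intro hbot
    obtain ⟨⟨r, hr⟩, hr1⟩ := (Subgroup.ne_bot_iff_exists_ne_one).mp hRbot
    have : π r ∈ R.map π := ⟨r, hr, rfl⟩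
    rw [hbot, Subgroup.mem_bot, hπ1] at this
    exact hr1 (Subtype.ext (hRN r hr this))
  · -- proper
    intro htop
    have : π k₀ ∈ R.map π := htop ▸ Subgroup.mem_top _
    obtain ⟨r, hr, hrk⟩ := this
    rw [hπeq] at hrk
    -- `r⁻¹ * k₀ ∈ N ≤ K`, so `r ∈ K`
    have h1 : r⁻¹ * k₀ ∈ K := hNK hrk
    have h2 : r⁻¹ ∈ K := by
      have := K.mul_mem h1 (K.inv_mem hk₀K)
      rwa [mul_assoc, mul_inv_cancel, mul_one] at this
    have h3 : r = 1 := hKR r (by simpa using K.inv_mem h2) hr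
    rw [h3, inv_one, one_mul] at hrk
    exact hk₀N hrk
  · -- TI
    intro gbar hgbar
    rw [eq_bot_iff]
    intro xbar hx
    rw [Subgroup.mem_bot]
    obtain ⟨⟨r₁, hr₁, hr₁x⟩, hx2⟩ := Subgroup.mem_inf.mp hx
    rw [mem_conj_smul] at hx2
    obtain ⟨r₂, hr₂, hr₂x⟩ := hx2
    obtain ⟨g, rfl⟩ := hπsurj gbar
    obtain ⟨k, hk, r, hr, rfl⟩ := hdecomp g
    have hkN : k ∉ N := by
      intro hkN
      apply hgbar
      refine ⟨r, hr, ?_⟩
      rw [hπeq]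
      have : r⁻¹ * (k * r) = r⁻¹ * k * r := by group
      rw [this]
      have := hNn.conj_mem k hkN r⁻¹
      rwa [inv_inv] at this
    -- π r₂ = π ((k r)⁻¹ r₁ (k r))
    have h1 : π r₂ = π ((k * r)⁻¹ * r₁ * (k * r)) := by
      rw [hr₂x, ← hr₁x]
      simp only [map_mul, map_inv]
    rw [hπeq] at h1
    -- r₃ := r r₂ r⁻¹
    set r₃ := r * r₂ * r⁻¹ with hr₃
    have hr₃R : r₃ ∈ R := R.mul_mem (R.mul_mem hr hr₂) (R.inv_mem hr)
    have h2 : r₃⁻¹ * (k⁻¹ * r₁ * k) ∈ N := by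
      have := hNn.conj_mem _ h1 r
      have e : r * (r₂⁻¹ * ((k * r)⁻¹ * r₁ * (k * r))) * r⁻¹ = r₃⁻¹ * (k⁻¹ * r₁ * k) := by
        rw [hr₃]; group
      rwa [e] at this
    -- modulo `K`
    have h3 : r₃⁻¹ * r₁ ∈ K := by
      have h4 : r₁⁻¹ * k⁻¹ * r₁ ∈ K := by
        have := hKn.conj_mem _ (K.inv_mem hk) r₁⁻¹
        rwa [inv_inv] at this
      have h5 : r₃⁻¹ * r₁ = (r₃⁻¹ * (k⁻¹ * r₁ * k)) * (k⁻¹ * (r₁⁻¹ * k⁻¹ * r₁)⁻¹) := by group
      rw [h5]
      exact K.mul_mem (hNK h2) (K.mul_mem (K.inv_mem hk) (K.inv_mem h4))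
    have h6 : r₃⁻¹ * r₁ = 1 := hKR _ h3 (R.mul_mem (R.inv_mem hr₃R) hr₁)
    have h7 : r₃ = r₁ := inv_mul_eq_one.mp h6
    rw [h7] at h2
    by_cases hr₁1 : r₁ = 1
    · rw [← hr₁x, hr₁1, map_one]
    · exfalso
      apply hkN
      have h8 : k * r₁⁻¹ * k⁻¹ * (r₁⁻¹)⁻¹ ∈ N := by
        have := hNn.conj_mem _ h2 k
        have e : k * (r₁⁻¹ * (k⁻¹ * r₁ * k)) * k⁻¹ = k * r₁⁻¹ * k⁻¹ * (r₁⁻¹)⁻¹ := by group
        rwa [e] at this
      exact hF5 r₁⁻¹ (R.inv_mem hr₁) (fun h => hr₁1 (inv_eq_one.mp h)) k hk h8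
  · -- the kernel
    ext xbar
    constructor
    · intro hx
      obtain ⟨x, rfl⟩ := hπsurj xbar
      by_cases hxK : x ∈ K
      · exact ⟨x, by rw [← hKset]; exact hxK, rfl⟩
      · exfalso
        have hxK' := hxK
        rw [hKmem] at hxK'
        push Not at hxK'
        obtain ⟨hx1, g, hxg⟩ := hxK'
        rcases hx with h | h
        · rw [hπ1] at h
          exact hxK (hNK h)
        · apply h (π g)
          rw [mem_conj_smul] at hxg ⊢
          exact ⟨g⁻¹ * x * g, hxg, by rw [map_mul, map_mul, map_inv]⟩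
    · rintro ⟨k, hk, rfl⟩
      have hkK : k ∈ K := by rw [← SetLike.mem_coe, hKset]; exact hk
      by_cases h1 : π k = 1
      · exact Or.inl h1
      · right
        intro gbar hmem
        apply h1
        obtain ⟨g, rfl⟩ := hπsurj gbar
        rw [mem_conj_smul] at hmem
        obtain ⟨r, hr, hrk⟩ := hmem
        have h2 : π r = π (g⁻¹ * k * g) := by
          rw [hrk, map_mul, map_mul, map_inv]
        rw [hπeq] at h2
        have h3 : g⁻¹ * k * g ∈ K := by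
          have := hKn.conj_mem k hkK g⁻¹
          rwa [inv_inv] at this
        have h4 : r⁻¹ ∈ K := by
          have := K.mul_mem (hNK h2) (K.inv_mem h3)
          rwa [mul_assoc, mul_inv_cancel, mul_one] at this
        have h5 : r = 1 := hKR r (by simpa using K.inv_mem h4) hr
        rw [h5, inv_one, one_mul] at h2
        -- g⁻¹ k g ∈ N so k ∈ N
        have h6 : k ∈ N := by
          have := hNn.conj_mem _ h2 g
          have e : g * (g⁻¹ * k * g) * g⁻¹ = k := by group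
          rwa [e] at this
        exact (hπ1 k).mpr h6

end Cfsg.Agent.S3768
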