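import Cfsg.Statements.S3770
import Cfsg.Agent.Lib_helper23_Frob8
import Cfsg.Agent.S0035
import Cfsg.Agent.S0039

set_option autoImplicit false
open Cfsg

namespace Cfsg.Agent.S3770

/-- Let G and V be subgroups of a finite group with G a Frobenius group with complement R of prime order and kernel K, G normalizing V, and V an elementary abelian ℓ-group for a prime ℓ not dividing the order of G. If C_V(R) has order ℓ, then the derived subgroup of K centralizes V. -/
theorem result {X : Type*} [Group X] [Finite X] (G : Subgroup X) (V : Subgroup X) {ℓ : ℕ} (hℓ : ℓ.Prime) (hV : Cfsg.IsElementaryAbelian ℓ V) (hℓG : ¬ ℓ ∣ Nat.card G) (hGV : G ≤ Subgroup.normalizer (V : Set X)) (R : Subgroup ↥G) (hR : Cfsg.IsFrobeniusComplement R) (hRp : (Nat.card R).Prime) (hCV : Nat.card ↥(V ⊓ Subgroup.centralizer ((R.map G.subtype : Subgroup X) : Set X)) = ℓ) : ⁅Subgroup.closure (Subtype.val '' Cfsg.frobeniusKernel R), Subgroup.closure (Subtype.val '' Cfsg.frobeniusKernel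 R)⁆ ≤ Subgroup.centralizer (V : Set X) := by
  classical
  obtain ⟨K, hKset, hKn, hKc⟩ := Cfsg.Agent.S0035.result R hR
  haveI := hKn
  have hK1 : K ≠ ⊥ := by
    intro h
    have := hKc.sup_eq_top
    rw [h, bot_sup_eq] at this
    exact hR.2.1 this
  have hfp := (Cfsg.Agent.S0039.result K R hKc hK1 hR.1).mp hR
  obtain ⟨Kx, hKx⟩ : ∃ Kx : Subgroup X, Kx = K.map G.subtype := ⟨_, rfl⟩
  obtain ⟨Rx, hRx⟩ : ∃ Rx : Subgroup X, Rx = R.map G.subtype := ⟨_, rfl⟩
  have hcl : Subgroup.closure (Subtype.val '' Cfsg.frobeniusKernel R) = Kx := by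
    rw [← hKset, hKx]
    have : (Subtype.val '' (K : Set ↥G)) = ((K.map G.subtype : Subgroup X) : Set X) := by
      rw [Subgroup.coe_map]
      rfl
    rw [this, Subgroup.closure_eq]
  rw [hcl]
  rw [← hRx] at hCV
  have hKxG : Kx ≤ G := by rw [hKx]; exact Subgroup.map_subtype_le K
  have hRxG : Rx ≤ G := by rw [hRx]; exact Subgroup.map_subtype_le R
  have hRK : ∀ r ∈ Rx, ∀ k ∈ Kx, r * k * r⁻¹ ∈ Kx := by
    intro r hr k hk
    rw [hRx] at hr
    rw [hKx] at hk ⊢
    obtain ⟨r', -, rfl⟩ := hr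
    obtain ⟨k', hk', rfl⟩ := hk
    exact ⟨r' * k' * r'⁻¹, hKn.conj_mem k' hk' r', rfl⟩
  have hfpf : ∀ r ∈ Rx, r ≠ 1 → ∀ k ∈ Kx, r * k = k * r → k = 1 := by
    intro r hr hr1 k hk hc
    rw [hRx] at hr
    rw [hKx] at hk
    obtain ⟨r', hr', rfl⟩ := hr
    obtain ⟨k', hk', rfl⟩ := hk
    have hr'1 : r' ≠ 1 := by
      intro h
      apply hr1
      rw [h]
      rfl
    have hmem : k' ∈ K ⊓ Subgroup.centralizer ({r'} : Set ↥G) := by
      rw [Subgroup.mem_inf]
      refine ⟨hk', ?_⟩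
      rw [Subgroup.mem_centralizer_iff]
      intro y hy
      rw [Set.mem_singleton_iff] at hy
      rw [hy]
      exact Subtype.ext hc
    rw [hfp r' hr' hr'1, Subgroup.mem_bot] at hmem
    rw [hmem]
    rfl
  have hRpr : (Nat.card ↥Rx).Prime := by
    rw [hRx, Subgroup.card_map_of_injective G.subtype_injective]
    exact hRp
  have hsupG : Kx ⊔ Rx ≤ G := sup_le hKxG hRxG
  have hAM : ∀ x ∈ Kx ⊔ Rx, ∀ m ∈ V, x * m * x⁻¹ ∈ V := by
    intro x hx m hm
    exact (Subgroup.mem_normalizer_iff.1 (hGV (hsupG hx)) m).1 hm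
  have hsolvV : Group.IsSolvable ↥V :=
    Group.isSolvable_of_comm (fun a b => hV.1.is_comm.comm a b)
  haveI : Fact ℓ.Prime := ⟨hℓ⟩
  have hcopV : (Nat.card ↥V).Coprime (Nat.card ↥(Kx ⊔ Rx)) := by
    have hp : IsPGroup ℓ ↥V := by
      intro v
      refine ⟨1, ?_⟩
      rw [pow_one]
      apply Subtype.ext
      rw [Subgroup.coe_pow]
      exact hV.2 v v.2
    obtain ⟨n, hn⟩ := IsPGroup.iff_card.1 hp
    rw [hn]
    apply Nat.Coprime.pow_left
    rw [Nat.Prime.coprime_iff_not_dvd hℓ]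
    intro h
    exact hℓG (h.trans (Subgroup.card_dvd_of_le hsupG))
  have hcyc : IsCyclic ↥(V ⊓ Subgroup.centralizer (Rx : Set X)) := isCyclic_of_prime_card hCV
  rw [Subgroup.commutator_le]
  intro a ha b hb
  rw [Subgroup.mem_centralizer_iff]
  intro m hm
  rw [commutatorElement_def]
  exact (Cfsg.Agent.helper23.Frob.frob_comm_centralizes Kx Rx hRK hfpf hRpr _ V rfl hAM hsolvV
    hcopV hcyc a ha b hb m hm).symm

end Cfsg.Agent.S3770
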