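import Cfsg.Statements.S3774
import Mathlib

set_option autoImplicit false
set_option linter.style.haveILetI false
open Cfsg

namespace Cfsg.Agent.S3774

theorem dvd_of_pow_sub_one_dvd {k n : ℕ} (h : 2 ^ k - 1 ∣ 2 ^ n - 1) : k ∣ n := by
  have h1 : Nat.gcd (2 ^ k - 1) (2 ^ n - 1) = 2 ^ k - 1 := Nat.gcd_eq_left h
  rw [Nat.pow_sub_one_gcd_pow_sub_one] at h1
  have h2 : 2 ^ Nat.gcd k n = 2 ^ k := by
    have a1 : 1 ≤ 2 ^ Nat.gcd k n := Nat.one_le_two_pow
    have a2 : 1 ≤ 2 ^ k := Nat.one_le_two_pow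
    omega
  have h3 : Nat.gcd k n = k := Nat.pow_right_injective (le_refl 2) h2
  rw [← h3]
  exact Nat.gcd_dvd_right k n

/-- Let G be a nontrivial finite 2-group whose automorphism group permutes the involutions of G transitively. Then every involution of G is central, so that the involutions together with 1 form the subgroup Ω₁(Z(G)), and if this subgroup has order q then |G| is a power of q. -/
theorem result {G : Type*} [Group G] [Finite G] [Nontrivial G] (hG : IsPGroup 2 G) (htrans : ∀ x y : G, x ≠ 1 → x ^ 2 = 1 → y ≠ 1 → y ^ 2 = 1 → ∃ a : MulAut G, a x = y) : (∀ x : G, x ^ 2 = 1 → x ∈ Subgroup.center G) ∧ ∃ m : ℕ, Nat.card G = Nat.card {z : G // z ^ 2 = 1} ^ m := by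
  classical
  haveI : Fact (Nat.Prime 2) := ⟨Nat.prime_two⟩
  -- the involution of a nontrivial element
  have hι : ∀ x : G, x ≠ 1 → orderOf (x ^ (orderOf x / 2)) = 2 := by
    intro x hx
    obtain ⟨j, hj⟩ := (IsPGroup.iff_orderOf.mp hG) x
    have hj0 : j ≠ 0 := by
      rintro rfl
      rw [pow_zero, orderOf_eq_one_iff] at hj
      exact hx hj
    have h2 : 2 ∣ orderOf x := by rw [hj]; exact dvd_pow_self 2 hj0
    exact orderOf_pow_orderOf_div (orderOf_pos x).ne' h2
  have ho2 : ∀ z : G, orderOf z = 2 → z ≠ 1 ∧ z ^ 2 = 1 := by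
    intro z hz
    refine ⟨?_, ?_⟩
    · rintro rfl; rw [orderOf_one] at hz; omega
    · rw [← hz]; exact pow_orderOf_eq_one z
  -- a central involution
  haveI := hG.center_nontrivial
  obtain ⟨c, hc⟩ := exists_ne (1 : Subgroup.center G)
  have hc1 : (c : G) ≠ 1 := fun h => hc (Subtype.ext h)
  set z₀ : G := (c : G) ^ (orderOf (c : G) / 2) with hz₀
  have hz₀o := hι (c : G) hc1
  have hz₀c : z₀ ∈ Subgroup.center G := Subgroup.pow_mem _ c.2 _
  obtain ⟨hz₀1, hz₀2⟩ := ho2 z₀ hz₀o
  have hcent : ∀ x : G, x ^ 2 = 1 → x ∈ Subgroup.center G := by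
    intro x hx
    by_cases hx1 : x = 1
    · rw [hx1]; exact Subgroup.one_mem _
    · obtain ⟨a, ha⟩ := htrans z₀ x hz₀1 hz₀2 hx1 hx
      rw [Subgroup.mem_center_iff]
      intro g
      rw [Subgroup.mem_center_iff] at hz₀c
      have h1 := hz₀c (a.symm g)
      have h2 := congrArg a h1
      rw [map_mul, map_mul, MulEquiv.apply_symm_apply, ha] at h2
      exact h2
  refine ⟨hcent, ?_⟩
  -- the subgroup of involutions
  let Ωs : Subgroup G :=
    { carrier := {z | z ^ 2 = 1}
      mul_mem' := by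
        intro a b ha hb
        have hab : Commute a b := by
          have := Subgroup.mem_center_iff.mp (hcent b hb) a
          exact this
        show (a * b) ^ 2 = 1
        rw [hab.mul_pow, show a ^ 2 = 1 from ha, show b ^ 2 = 1 from hb, one_mul]
      one_mem' := one_pow 2
      inv_mem' := by
        intro a ha
        show a⁻¹ ^ 2 = 1
        rw [inv_pow, show a ^ 2 = 1 from ha, inv_one] }
  have hq : Nat.card {z : G // z ^ 2 = 1} = Nat.card Ωs := rfl
  obtain ⟨k, hk⟩ := (hG.to_subgroup Ωs).exists_card_eq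
  obtain ⟨n, hn⟩ := hG.exists_card_eq
  have : Fintype G := Fintype.ofFinite G
  -- counting
  set ι : G → G := fun x => x ^ (orderOf x / 2) with hιdef
  set NT : Finset G := Finset.univ.filter (· ≠ 1) with hNT
  set Inv : Finset G := Finset.univ.filter (fun z => z ≠ 1 ∧ z ^ 2 = 1) with hInv
  have hmaps : (NT : Set G).MapsTo ι Inv := by
    intro x hx
    rw [Finset.mem_coe, hNT, Finset.mem_filter] at hx
    rw [Finset.mem_coe, hInv, Finset.mem_filter]
    exact ⟨Finset.mem_univ _, ho2 _ (hι x hx.2)⟩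
  have h1 := Finset.card_eq_sum_card_fiberwise hmaps
  have hle : ∀ z ∈ Inv, ∀ z' ∈ Inv,
      (NT.filter (fun x => ι x = z)).card ≤ (NT.filter (fun x => ι x = z')).card := by
    intro z hz z' hz'
    rw [hInv, Finset.mem_filter] at hz hz'
    obtain ⟨a, ha⟩ := htrans z z' hz.2.1 hz.2.2 hz'.2.1 hz'.2.2
    apply Finset.card_le_card_of_injOn (fun x => a x)
    · intro x hx
      rw [Finset.mem_coe, Finset.mem_filter, hNT, Finset.mem_filter] at hx
      rw [Finset.mem_coe, Finset.mem_filter, hNT, Finset.mem_filter]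
      refine ⟨⟨Finset.mem_univ _, ?_⟩, ?_⟩
      · intro h
        apply hx.1.2
        have h' : a x = 1 := h
        have : a x = a 1 := by rw [h', map_one]
        exact a.injective this
      · show (a x) ^ (orderOf (a x) / 2) = z'
        rw [MulEquiv.orderOf_eq, ← map_pow]
        have : x ^ (orderOf x / 2) = z := hx.2
        rw [this, ha]
    · intro x _ y _ h
      exact a.injective h
  have hz₀I : z₀ ∈ Inv := by
    rw [hInv, Finset.mem_filter]; exact ⟨Finset.mem_univ _, hz₀1, hz₀2⟩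
  have heq : ∀ z ∈ Inv, (NT.filter (fun x => ι x = z)).card =
      (NT.filter (fun x => ι x = z₀)).card :=
    fun z hz => le_antisymm (hle z hz z₀ hz₀I) (hle z₀ hz₀I z hz)
  rw [Finset.sum_congr rfl heq, Finset.sum_const, smul_eq_mul] at h1
  -- cards
  have hNTc : NT.card + 1 = Nat.card G := by
    rw [hNT, Finset.filter_ne' Finset.univ (1 : G), Finset.card_erase_of_mem (Finset.mem_univ _),
      Finset.card_univ, Nat.card_eq_fintype_card]
    have : 0 < Fintype.card G := Fintype.card_pos
    omega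
  have hInvc : Inv.card + 1 = Nat.card Ωs := by
    have e : Inv = (Finset.univ.filter (fun z : G => z ^ 2 = 1)).erase 1 := by
      ext z
      rw [hInv, Finset.mem_filter, Finset.mem_erase, Finset.mem_filter]
      tauto
    rw [e, Finset.card_erase_of_mem (by rw [Finset.mem_filter]; exact ⟨Finset.mem_univ _, one_pow 2⟩)]
    have e2 : (Finset.univ.filter (fun z : G => z ^ 2 = 1)).card = Nat.card Ωs := by
      rw [← hq, Nat.card_eq_fintype_card, Fintype.card_subtype]
    rw [e2]
    have : 0 < Nat.card Ωs := Nat.card_pos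
    omega
  rw [hk] at hInvc
  rw [hn] at hNTc
  have hdvd : 2 ^ k - 1 ∣ 2 ^ n - 1 := by
    have e1 : 2 ^ k - 1 = Inv.card := by omega
    have e2 : 2 ^ n - 1 = NT.card := by omega
    rw [e1, e2, h1]
    exact Dvd.intro _ rfl
  obtain ⟨m, hm⟩ := dvd_of_pow_sub_one_dvd hdvd
  refine ⟨m, ?_⟩
  rw [hq, hk, hn, hm, pow_mul]

end Cfsg.Agent.S3774
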