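import Mathlib
import Cfsg.Statements.S3778

set_option autoImplicit false
set_option linter.style.haveILetI false
set_option linter.unusedVariables false
set_option linter.unusedSectionVars false
open Cfsg

namespace Cfsg.Agent.S3778

open scoped commutatorElement

/-- elements whose commutator with `g` lies in the normal subgroup `N`. -/
def ccSub {G : Type*} [Group G] (N : Subgroup G) [hN : N.Normal] (g : G) : Subgroup G where
  carrier := {x | ⁅x, g⁆ ∈ N}
  one_mem' := by
    show ⁅(1 : G), g⁆ ∈ N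
    rw [commutatorElement_one_left]
    exact N.one_mem
  mul_mem' := by
    intro x y hx hy
    show ⁅x * y, g⁆ ∈ N
    have h : ⁅x * y, g⁆ = (x * ⁅y, g⁆ * x⁻¹) * ⁅x, g⁆ := by
      simp only [commutatorElement_def]
      group
    rw [h]
    exact N.mul_mem (hN.conj_mem _ hy x) hx
  inv_mem' := by
    intro x hx
    show ⁅x⁻¹, g⁆ ∈ N
    have h : ⁅x⁻¹, g⁆ = x⁻¹ * ⁅x, g⁆⁻¹ * x⁻¹⁻¹ := by
      simp only [commutatorElement_def]
      group
    rw [h]
    exact hN.conj_mem _ (N.inv_mem hx) x⁻¹

theorem mem_ccSub {G : Type*} [Group G] (N : Subgroup G) [hN : N.Normal] (g x : G) :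
    x ∈ ccSub N g ↔ ⁅x, g⁆ ∈ N := Iff.rfl

theorem mem_ccSub_comm {G : Type*} [Group G] (N : Subgroup G) [hN : N.Normal] (g x : G) :
    x ∈ ccSub N g ↔ g ∈ ccSub N x := by
  rw [mem_ccSub, mem_ccSub, ← commutatorElement_inv x g, N.inv_mem_iff]

/-- the two-step centralizer. -/
def twoStep {G : Type*} [Group G] (A N : Subgroup G) [hN : N.Normal] : Subgroup G :=
  ⨅ g : A, ccSub N (g : G)

theorem mem_twoStep {G : Type*} [Group G] (A N : Subgroup G) [hN : N.Normal] (x : G) :
    x ∈ twoStep A N ↔ ∀ g ∈ A, ⁅x, g⁆ ∈ N := by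
  unfold twoStep
  rw [Subgroup.mem_iInf]
  constructor
  · intro h g hg
    exact h ⟨g, hg⟩
  · intro h g
    exact h g g.2

section Main

variable {G : Type*} [Group G] [Finite G] {p : ℕ} [hp : Fact p.Prime]

theorem card_mul_le_of_ne_top (hG : IsPGroup p G) (H : Subgroup G) (hH : H ≠ ⊤) :
    Nat.card H * p ≤ Nat.card G := by
  obtain ⟨n, hn⟩ := (IsPGroup.iff_card (p := p) (G := G)).mp hG
  have h1 : H.index ∣ p ^ n := by rw [← hn]; exact H.index_dvd_card
  obtain ⟨k, hk, hk'⟩ := (Nat.dvd_prime_pow hp.out).mp h1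
  have hk0 : k ≠ 0 := by
    intro h0
    rw [h0, pow_zero] at hk'
    exact hH (Subgroup.index_eq_one.mp hk')
  have hp_le : p ≤ H.index := by
    rw [hk']
    calc p = p ^ 1 := (pow_one p).symm
      _ ≤ p ^ k := Nat.pow_le_pow_right hp.out.pos (Nat.one_le_iff_ne_zero.mpr hk0)
  rw [← H.card_mul_index]
  exact Nat.mul_le_mul_left _ hp_le

theorem relIndex_ge (hG : IsPGroup p G) (H K : Subgroup G) (hHK : H ≤ K) (hne : H ≠ K) :
    p ≤ H.relIndex K := by
  obtain ⟨n, hn⟩ := (IsPGroup.iff_card (p := p) (G := G)).mp hG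
  have h1 : H.relIndex K ∣ p ^ n := by
    rw [← hn]
    exact (Subgroup.relIndex_dvd_card H K).trans (Subgroup.card_subgroup_dvd_card K)
  obtain ⟨k, hk, hk'⟩ := (Nat.dvd_prime_pow hp.out).mp h1
  have hk0 : k ≠ 0 := by
    intro h0
    rw [h0, pow_zero] at hk'
    exact hne (le_antisymm hHK (Subgroup.relIndex_eq_one.mp hk'))
  rw [hk']
  calc p = p ^ 1 := (pow_one p).symm
    _ ≤ p ^ k := Nat.pow_le_pow_right hp.out.pos (Nat.one_le_iff_ne_zero.mpr hk0)

end Main

section LCS

variable {G : Type*} [Group G]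

theorem lcs_stable (i : ℕ) (h : (⊤ : Subgroup G).lowerCentralSeries (i + 1) =
    (⊤ : Subgroup G).lowerCentralSeries i) :
    ∀ j, (⊤ : Subgroup G).lowerCentralSeries (i + j) = (⊤ : Subgroup G).lowerCentralSeries i := by
  intro j
  induction j with
  | zero => rfl
  | succ j ih =>
    rw [← add_assoc, Subgroup.lowerCentralSeries_succ, ih, ← Subgroup.lowerCentralSeries_succ, h]

theorem twoStep_ne_top (c : ℕ) (hc : (⊤ : Subgroup G).lowerCentralSeries c = ⊥) (i : ℕ)
    (hi : (⊤ : Subgroup G).lowerCentralSeries (i + 1) ≠ ⊥) :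
    twoStep ((⊤ : Subgroup G).lowerCentralSeries i)
      ((⊤ : Subgroup G).lowerCentralSeries (i + 2)) ≠ ⊤ := by
  intro htop
  apply hi
  have h1 : (⊤ : Subgroup G).lowerCentralSeries (i + 1) ≤
      (⊤ : Subgroup G).lowerCentralSeries (i + 2) := by
    rw [Subgroup.lowerCentralSeries_succ, Subgroup.commutator_le]
    intro g₁ hg₁ g₂ _
    have h2 : g₂ ∈ twoStep ((⊤ : Subgroup G).lowerCentralSeries i)
        ((⊤ : Subgroup G).lowerCentralSeries (i + 2)) := by rw [htop]; trivial
    have h3 := (mem_twoStep _ _ _).mp h2 g₁ hg₁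
    rw [← commutatorElement_inv g₂ g₁]
    exact Subgroup.inv_mem _ h3
  have h4 : (⊤ : Subgroup G).lowerCentralSeries (i + 1 + 1) =
      (⊤ : Subgroup G).lowerCentralSeries (i + 1) :=
    le_antisymm (Subgroup.lowerCentralSeries_antitone _ (Nat.le_succ _)) h1
  have h5 := lcs_stable (i + 1) h4 c
  rw [← h5, eq_bot_iff, ← hc]
  exact Subgroup.lowerCentralSeries_antitone _ (by omega)

variable [Finite G] {p : ℕ} [hp : Fact p.Prime]

open Classical in
theorem pow_le_index (hG : IsPGroup p G) (x : G) :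
    ∀ j : ℕ, p ^ ((Finset.range j).filter (fun i =>
      x ∉ twoStep ((⊤ : Subgroup G).lowerCentralSeries i)
        ((⊤ : Subgroup G).lowerCentralSeries (i + 2)))).card ≤
      (ccSub ((⊤ : Subgroup G).lowerCentralSeries (j + 1)) x).index := by
  classical
  intro j
  induction j with
  | zero =>
    simp only [Finset.range_zero, Finset.filter_empty, Finset.card_empty, pow_zero]
    exact Nat.one_le_iff_ne_zero.mpr (Subgroup.index_ne_zero_of_finite)
  | succ j ih =>
    have hle : ccSub ((⊤ : Subgroup G).lowerCentralSeries (j + 1 + 1)) x ≤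
        ccSub ((⊤ : Subgroup G).lowerCentralSeries (j + 1)) x := by
      intro g hg
      rw [mem_ccSub] at hg ⊢
      exact Subgroup.lowerCentralSeries_antitone _ (Nat.le_succ _) hg
    rw [← Subgroup.relIndex_mul_index hle, Finset.range_add_one, Finset.filter_insert]
    by_cases hx : x ∉ twoStep ((⊤ : Subgroup G).lowerCentralSeries j)
        ((⊤ : Subgroup G).lowerCentralSeries (j + 2))
    · rw [if_pos hx, Finset.card_insert_of_notMem (by
        intro hmem
        have := (Finset.mem_filter.mp hmem).1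
        rw [Finset.mem_range] at this
        omega), pow_succ, mul_comm]
      apply Nat.mul_le_mul _ ih
      apply relIndex_ge hG _ _ hle
      rw [mem_twoStep] at hx
      obtain ⟨g, hgx'⟩ := not_forall.mp hx
      obtain ⟨hg, hgx⟩ := Classical.not_imp.mp hgx'
      intro heq
      have h1 : g ∈ ccSub ((⊤ : Subgroup G).lowerCentralSeries (j + 1)) x := by
        rw [mem_ccSub, Subgroup.lowerCentralSeries_succ]
        exact Subgroup.commutator_mem_commutator hg (Subgroup.mem_top x)
      rw [← heq, mem_ccSub, ← commutatorElement_inv x g, Subgroup.inv_mem_iff] at h1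
      exact hgx h1
    · rw [if_neg hx]
      calc p ^ _ ≤ _ := ih
        _ = 1 * _ := (one_mul _).symm
        _ ≤ _ := Nat.mul_le_mul_right _ (Nat.one_le_iff_ne_zero.mpr (by
          intro h0
          have := Subgroup.relIndex_dvd_card (ccSub ((⊤ : Subgroup G).lowerCentralSeries (j + 1 + 1)) x)
            (ccSub ((⊤ : Subgroup G).lowerCentralSeries (j + 1)) x)
          rw [h0, zero_dvd_iff] at this
          exact Nat.card_pos.ne' this))

theorem ccSub_bot_eq (N : Subgroup G) [N.Normal] (hN : N = ⊥) (x : G) :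
    ccSub N x = Subgroup.centralizer {x} := by
  ext g
  rw [mem_ccSub, hN, Subgroup.mem_bot, commutatorElement_eq_one_iff_commute,
    Subgroup.mem_centralizer_singleton_iff]
  constructor
  · intro h; exact h.eq
  · intro h; exact h

end LCS

section Avg

variable {G : Type*} [Group G] [Finite G] {p : ℕ} [hp : Fact p.Prime]

open Classical in
theorem exists_large (hG : IsPGroup p G) (c : ℕ)
    (hc : (⊤ : Subgroup G).lowerCentralSeries c = ⊥)
    (hmin : ∀ i < c, (⊤ : Subgroup G).lowerCentralSeries i ≠ ⊥) (hc2 : 2 ≤ c) :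
    ∃ x : G, (c - 1) * (p - 1) < ((Finset.range (c - 1)).filter (fun i =>
      x ∉ twoStep ((⊤ : Subgroup G).lowerCentralSeries i)
        ((⊤ : Subgroup G).lowerCentralSeries (i + 2)))).card * p := by
  by_contra hcon
  have hall : ∀ x : G, ((Finset.range (c - 1)).filter (fun i =>
      x ∉ twoStep ((⊤ : Subgroup G).lowerCentralSeries i)
        ((⊤ : Subgroup G).lowerCentralSeries (i + 2)))).card * p ≤ (c - 1) * (p - 1) := by
    intro x
    by_contra hx
    exact hcon ⟨x, not_le.mp hx⟩
  haveI : Fintype G := Fintype.ofFinite G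
  obtain ⟨C, hC⟩ : ∃ C : ℕ → Subgroup G, ∀ i, C i =
      twoStep ((⊤ : Subgroup G).lowerCentralSeries i)
        ((⊤ : Subgroup G).lowerCentralSeries (i + 2)) := ⟨_, fun i => rfl⟩
  simp only [← hC] at hall
  have hp2 : 2 ≤ p := hp.out.two_le
  have hNpos : 0 < Fintype.card G := Fintype.card_pos
  -- lower bound
  have hlow : ∀ i ∈ Finset.range (c - 1),
      Fintype.card G * (p - 1) ≤ (Finset.univ.filter (fun x : G => x ∉ C i)).card * p := by
    intro i hi
    rw [Finset.mem_range] at hi
    have hne : C i ≠ ⊤ := by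
      rw [hC]
      exact twoStep_ne_top c hc i (hmin (i + 1) (by omega))
    have h1 := card_mul_le_of_ne_top hG (C i) hne
    have h2 : (Finset.univ.filter (fun x : G => x ∈ C i)).card +
        (Finset.univ.filter (fun x : G => x ∉ C i)).card = Fintype.card G := by
      rw [Finset.card_filter_add_card_filter_not]
      exact Finset.card_univ
    have h3 : (Finset.univ.filter (fun x : G => x ∈ C i)).card = Nat.card (C i) := by
      rw [Nat.card_eq_fintype_card, Fintype.card_subtype]
    rw [Nat.card_eq_fintype_card (α := G)] at h1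
    rw [h3] at h2
    obtain ⟨a, ha⟩ : ∃ a, a = (Finset.univ.filter (fun x : G => x ∉ C i)).card := ⟨_, rfl⟩
    obtain ⟨b, hb⟩ : ∃ b, b = Nat.card (C i) := ⟨_, rfl⟩
    obtain ⟨N, hN⟩ : ∃ N, N = Fintype.card G := ⟨_, rfl⟩
    rw [← ha, ← hb, ← hN] at h2
    rw [← hb, ← hN] at h1
    rw [← ha, ← hN]
    obtain ⟨p', rfl⟩ : ∃ p', p = p' + 1 := ⟨p - 1, by omega⟩
    rw [Nat.add_sub_cancel]
    have : N * (p' + 1) = b * (p' + 1) + a * (p' + 1) := by rw [← h2]; ring
    nlinarith
  have hsum : ∑ x : G, ((Finset.range (c - 1)).filter (fun i => x ∉ C i)).card * p =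
      ∑ i ∈ Finset.range (c - 1), (Finset.univ.filter (fun x : G => x ∉ C i)).card * p := by
    simp only [Finset.card_filter, Finset.sum_mul]
    rw [Finset.sum_comm]
  have hlow2 : (c - 1) * (Fintype.card G * (p - 1)) ≤
      ∑ x : G, ((Finset.range (c - 1)).filter (fun i => x ∉ C i)).card * p := by
    rw [hsum]
    calc (c - 1) * (Fintype.card G * (p - 1)) =
        ∑ i ∈ Finset.range (c - 1), Fintype.card G * (p - 1) := by
          rw [Finset.sum_const, Finset.card_range, smul_eq_mul]
      _ ≤ _ := Finset.sum_le_sum hlow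
  have hup : ∑ x : G, ((Finset.range (c - 1)).filter (fun i => x ∉ C i)).card * p ≤
      (Fintype.card G - 1) * ((c - 1) * (p - 1)) := by
    rw [← Finset.sum_erase_add _ _ (Finset.mem_univ (1 : G))]
    have h1 : ((Finset.range (c - 1)).filter (fun i => (1 : G) ∉ C i)).card = 0 := by
      rw [Finset.card_eq_zero, Finset.filter_eq_empty_iff]
      intro i _ h
      exact h (Subgroup.one_mem _)
    rw [h1, zero_mul, add_zero]
    calc _ ≤ ∑ x ∈ Finset.univ.erase (1 : G), (c - 1) * (p - 1) :=
          Finset.sum_le_sum (fun x _ => hall x)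
      _ = _ := by
          rw [Finset.sum_const, Finset.card_erase_of_mem (Finset.mem_univ _), Finset.card_univ,
            smul_eq_mul]
  have hfin := hlow2.trans hup
  obtain ⟨N, hN⟩ : ∃ N, N = Fintype.card G := ⟨_, rfl⟩
  rw [← hN] at hfin hNpos
  have hpos : 0 < (c - 1) * (p - 1) := Nat.mul_pos (by omega) (by omega)
  have h5 : (c - 1) * (N * (p - 1)) = N * ((c - 1) * (p - 1)) := by ring
  rw [h5] at hfin
  have h6 := Nat.le_of_mul_le_mul_right hfin hpos
  omega

end Avg

/-- If G is a finite p-group in which every conjugacy class has at most p^b elements (every element has centralizer of index at most p^b), then G is abelian when b = 0, and when b ≥ 1 its nilpotency class c satisfies (c − 1)(p − 1) < bp, that is c < bp/(p − 1) + 1, and hence c ≤ 2b. -/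
theorem result {G : Type*} [Group G] [Finite G] {p : ℕ} [Fact p.Prime] (hG : IsPGroup p G) (b : ℕ) (hb : ∀ x : G, (Subgroup.centralizer ({x} : Set G)).index ≤ p ^ b) : ∃ c : ℕ, (⊤ : Subgroup G).lowerCentralSeries c = ⊥ ∧ (b ≠ 0 → (c - 1) * (p - 1) < b * p ∧ c ≤ 2 * b) ∧ (b = 0 → c ≤ 1) := by
  classical
  have hp : p.Prime := Fact.out
  haveI : Group.IsNilpotent G := hG.isNilpotent
  have hex : ∃ n, (⊤ : Subgroup G).lowerCentralSeries n = ⊥ :=
    Subgroup.nilpotent_iff_lowerCentralSeries.mp inferInstance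
  obtain ⟨c, hcdef⟩ : ∃ c, c = Nat.find hex := ⟨_, rfl⟩
  have hc : (⊤ : Subgroup G).lowerCentralSeries c = ⊥ := by rw [hcdef]; exact Nat.find_spec hex
  have hmin : ∀ i < c, (⊤ : Subgroup G).lowerCentralSeries i ≠ ⊥ := by
    intro i hi
    rw [hcdef] at hi
    exact Nat.find_min hex hi
  refine ⟨c, hc, ?_, ?_⟩
  · intro hb0
    have key : (c - 1) * (p - 1) < b * p := by
      by_cases hc2 : 2 ≤ c
      · obtain ⟨x, hx⟩ := exists_large hG c hc hmin hc2
        have h1 := pow_le_index hG x (c - 1)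
        rw [show c - 1 + 1 = c by omega, ccSub_bot_eq _ hc] at h1
        have h2 := h1.trans (hb x)
        have h3 := (Nat.pow_le_pow_iff_right hp.one_lt).mp h2
        calc _ < _ := hx
          _ ≤ b * p := Nat.mul_le_mul_right _ h3
      · have : c - 1 = 0 := by omega
        rw [this, zero_mul]
        exact Nat.mul_pos (Nat.pos_of_ne_zero hb0) hp.pos
    refine ⟨key, ?_⟩
    by_contra hcon
    have hcon' : 2 * b < c := not_le.mp hcon
    have hp2 : 2 ≤ p := hp.two_le
    obtain ⟨c', rfl⟩ : ∃ c', c = c' + 1 := ⟨c - 1, by omega⟩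
    obtain ⟨p', rfl⟩ : ∃ p', p = p' + 1 := ⟨p - 1, by omega⟩
    rw [Nat.add_sub_cancel, Nat.add_sub_cancel] at key
    have h1 : 2 * b ≤ c' := by omega
    have h2 : 1 ≤ p' := by omega
    nlinarith [Nat.mul_le_mul h1 h2, Nat.mul_le_mul_left b h2]
  · intro hb0
    rw [hcdef]
    apply Nat.find_min' hex
    rw [Subgroup.top_lowerCentralSeries_one, _root_.commutator,
      Subgroup.commutator_eq_bot_iff_le_centralizer]
    intro x _
    rw [Subgroup.mem_centralizer_iff]
    intro y _
    have h1 := hb x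
    rw [hb0, pow_zero] at h1
    have h2 : (Subgroup.centralizer ({x} : Set G)).index = 1 := by
      have := Nat.one_le_iff_ne_zero.mpr
        (Subgroup.index_ne_zero_of_finite (H := Subgroup.centralizer ({x} : Set G)))
      omega
    have h3 : y ∈ Subgroup.centralizer ({x} : Set G) := by
      rw [Subgroup.index_eq_one.mp h2]; trivial
    rw [Subgroup.mem_centralizer_singleton_iff] at h3
    exact h3

end Cfsg.Agent.S3778
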