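import Cfsg.Statements.S3784
-- import your own Cfsg.Agent.* helpers here
import Mathlib

set_option autoImplicit false
open Cfsg

namespace Cfsg.Agent.S3784

open Finset in
theorem lemL (x y : ℤ) (n k : ℕ) (hn : Odd n) (h2 : (2:ℤ) ∣ x - y) (hx : ¬ (2:ℤ) ∣ x)
    (hpos : 0 < x - y) (h : x ^ n - y ^ n = 2 ^ k) : x ^ n - y ^ n = x - y := by
  have hS := Commute.geom_sum₂_mul (Commute.all x y) n
  set S := ∑ i ∈ range n, x ^ i * y ^ (n - 1 - i) with hSdef
  have hodd : ¬ (2:ℤ) ∣ S := by
    apply not_dvd_geom_sum₂ Int.prime_two h2 hx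
    intro hdiv
    have : (2:ℕ) ∣ n := by exact_mod_cast hdiv
    exact (Nat.not_even_iff_odd.mpr hn) (even_iff_two_dvd.mpr this)
  have hSdvd : S ∣ 2 ^ k := ⟨x - y, by rw [hS, h]⟩
  have hnat : S.natAbs ∣ 2 ^ k := by
    have := Int.natAbs_dvd_natAbs.mpr hSdvd
    simpa [Int.natAbs_pow] using this
  obtain ⟨j, hj, hj2⟩ := (Nat.dvd_prime_pow Nat.prime_two).mp hnat
  have hj0 : j = 0 := by
    by_contra hne
    apply hodd
    have : (2:ℕ) ∣ S.natAbs := by rw [hj2]; exact dvd_pow_self 2 hne
    exact Int.natCast_dvd.mpr this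
  rw [hj0, pow_zero] at hj2
  have hS1 : S = 1 ∨ S = -1 := Int.natAbs_eq_natAbs_iff.mp (by simpa using hj2)
  rcases hS1 with h1 | h1
  · rw [← hS, h1, one_mul]
  · exfalso
    rw [h1] at hS
    have : (0:ℤ) < 2 ^ k := by positivity
    rw [← h, ← hS] at this
    linarith

theorem caseA (q a b : ℕ) (hq : q.Prime) (hq2 : q ≠ 2) (ha : 1 ≤ a) (hb : 1 ≤ b) (h : 2 ^ a = q ^ b + 1) :
    b = 1 ∧ a.Prime ∧ q + 1 = 2 ^ a := by
  have hqodd : Odd q := hq.odd_of_ne_two hq2
  have hq3 : 3 ≤ q := by
    have := hq.two_le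
    omega
  -- b odd
  have hbodd : Odd b := by
    by_contra hne
    rw [Nat.not_odd_iff_even] at hne
    obtain ⟨c, hc⟩ := hne
    have hc1 : 1 ≤ c := by omega
    set r := q ^ c with hr
    have hrodd : Odd r := hqodd.pow
    have hqb : q ^ b = r * r := by rw [hc, pow_add]
    have hr4 : r % 4 = 1 ∨ r % 4 = 3 := by
      have := Nat.odd_iff.mp hrodd
      omega
    have hrr : (r * r) % 4 = 1 := by
      rw [Nat.mul_mod]
      rcases hr4 with h4 | h4 <;> rw [h4]
    have h2a : 2 ^ a % 4 = 2 := by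
      rw [h, hqb]; omega
    have ha1 : a = 1 := by
      by_contra hne
      have : 2 ≤ a := by omega
      obtain ⟨d, rfl⟩ := Nat.exists_eq_add_of_le this
      rw [pow_add] at h2a
      omega
    rw [ha1, hqb] at h
    have : r * r = 1 := by omega
    have hr3 : 3 ≤ r := by
      calc 3 ≤ q := hq3
        _ = q ^ 1 := (pow_one q).symm
        _ ≤ q ^ c := Nat.pow_le_pow_right (by omega) hc1
    nlinarith
  have key := lemL (q : ℤ) (-1) b a hbodd (by
      have : (2:ℤ) ∣ ((q + 1 : ℕ) : ℤ) := by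
        have h2 : 2 ∣ q + 1 := by
          have := Nat.odd_iff.mp hqodd
          omega
        exact_mod_cast h2
      simpa using this) (by
      intro hdiv
      have : 2 ∣ q := by exact_mod_cast hdiv
      have := Nat.odd_iff.mp hqodd
      omega) (by have := Int.natCast_nonneg q; linarith) (by
      rw [hbodd.neg_one_pow]
      have : ((2 ^ a : ℕ) : ℤ) = ((q ^ b + 1 : ℕ) : ℤ) := by rw [h]
      push_cast at this
      linarith)
  rw [hbodd.neg_one_pow] at key
  have hqbq : q ^ b = q := by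
    have : ((q ^ b : ℕ) : ℤ) = (q : ℤ) := by push_cast; linarith
    exact_mod_cast this
  have hb1 : b = 1 := by
    have h1q : 1 < q := by omega
    exact (Nat.pow_eq_self_iff h1q).mp hqbq
  refine ⟨hb1, ?_, ?_⟩
  · have hqa : q = 2 ^ a - 1 := by rw [h, hb1, pow_one]; omega
    have hane1 : a ≠ 1 := by
      intro h1
      rw [h1] at hqa
      omega
    exact (Nat.prime_of_pow_sub_one_prime hane1 (hqa ▸ hq)).2
  · rw [h, hb1, pow_one]

theorem caseB (p a b : ℕ) (hp : p.Prime) (hp2 : p ≠ 2) (ha : 1 ≤ a) (hb : 1 ≤ b) (h : p ^ a = 2 ^ b + 1) :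
    (a = 1 ∧ (∃ m : ℕ, b = 2 ^ m) ∧ p = 2 ^ b + 1) ∨ (p ^ a = 9 ∧ 2 ^ b = 8) := by
  have hpodd : Odd p := hp.odd_of_ne_two hp2
  have hp3 : 3 ≤ p := by
    have := hp.two_le
    omega
  by_cases ha1 : a = 1
  · left
    subst ha1
    rw [pow_one] at h
    refine ⟨rfl, ?_, h⟩
    exact Nat.pow_of_pow_add_prime (by norm_num) (by omega) (h ▸ hp)
  · right
    have ha2 : 2 ≤ a := by omega
    rcases Nat.even_or_odd a with haev | haodd
    · obtain ⟨c, hc⟩ := haev
      have hc1 : 1 ≤ c := by omega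
      have hrr : p ^ c * p ^ c = 2 ^ b + 1 := by rw [← h, hc, pow_add]
      have hr3 : 3 ≤ p ^ c := by
        calc 3 ≤ p := hp3
          _ = p ^ 1 := (pow_one p).symm
          _ ≤ p ^ c := Nat.pow_le_pow_right (by omega) hc1
      obtain ⟨r, hr⟩ : ∃ r, r = p ^ c := ⟨_, rfl⟩
      rw [← hr] at hrr hr3
      have hfac : (r - 1) * (r + 1) = 2 ^ b := by
        have : (r - 1) * (r + 1) + 1 = r * r := by
          obtain ⟨s, rfl⟩ := Nat.exists_eq_add_of_le (show 1 ≤ r by omega)
          simp; ring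
        omega
      obtain ⟨i, hi, hi2⟩ := (Nat.dvd_prime_pow Nat.prime_two).mp (Dvd.intro _ hfac)
      obtain ⟨j, hj, hj2⟩ := (Nat.dvd_prime_pow Nat.prime_two).mp (Dvd.intro_left _ hfac)
      have hij : 2 ^ j = 2 ^ i + 2 := by omega
      have hi1 : i = 1 := by
        rcases Nat.lt_trichotomy i 1 with hlt | heq | hgt
        · have hi0 : i = 0 := by omega
          rw [hi0, pow_zero] at hij
          exfalso
          rcases Nat.lt_or_ge j 2 with hj' | hj'
          · interval_cases j <;> omega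
          · obtain ⟨d, rfl⟩ := Nat.exists_eq_add_of_le hj'
            rw [pow_add] at hij
            omega
        · exact heq
        · exfalso
          obtain ⟨d, rfl⟩ := Nat.exists_eq_add_of_le (show 2 ≤ i by omega)
          rw [pow_add] at hij
          rcases Nat.lt_or_ge j 2 with hj' | hj'
          · interval_cases j <;> omega
          · obtain ⟨e, rfl⟩ := Nat.exists_eq_add_of_le hj'
            rw [pow_add] at hij
            omega
      rw [hi1, pow_one] at hi2
      have hr3' : r = 3 := by omega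
      have hp3' : p = 3 := by
        have : p ∣ 3 := by
          rw [← hr3', hr]
          exact dvd_pow_self p (by omega)
        exact (Nat.prime_dvd_prime_iff_eq hp Nat.prime_three).mp this
      constructor
      · rw [hc, pow_add, ← hr, hr3']; norm_num
      · have : r * r = 9 := by rw [hr3']
        omega
    · exfalso
      have key := lemL (p : ℤ) 1 a b haodd (by
          have h2 : 2 ∣ p - 1 := by
            have := Nat.odd_iff.mp hpodd
            omega
          have : (2:ℤ) ∣ ((p - 1 : ℕ) : ℤ) := by exact_mod_cast h2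
          rwa [Nat.cast_sub (by omega)] at this) (by
          intro hdiv
          have : 2 ∣ p := by exact_mod_cast hdiv
          have := Nat.odd_iff.mp hpodd
          omega) (by
          have : (3:ℤ) ≤ p := by exact_mod_cast hp3
          linarith) (by
          have : ((p ^ a : ℕ) : ℤ) = ((2 ^ b + 1 : ℕ) : ℤ) := by rw [h]
          push_cast at this
          rw [one_pow]
          linarith)
      rw [one_pow] at key
      have hpa : p ^ a = p := by
        have : ((p ^ a : ℕ) : ℤ) = (p : ℤ) := by push_cast; linarith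
        exact_mod_cast this
      exact ha1 ((Nat.pow_eq_self_iff (by omega)).mp hpa)


/-- Let p, q be primes and a, b positive integers with p^a = q^b + 1. Then either p = 2, b = 1, a is prime and q = 2^a − 1; or q = 2, a = 1, b is a power of 2 and p = 2^b + 1; or p^a = 9 and q^b = 8. -/
theorem result (p q a b : ℕ) (hp : p.Prime) (hq : q.Prime) (ha : 1 ≤ a) (hb : 1 ≤ b) (h : p ^ a = q ^ b + 1) : (p = 2 ∧ b = 1 ∧ a.Prime ∧ q + 1 = 2 ^ a) ∨ (q = 2 ∧ a = 1 ∧ (∃ m : ℕ, b = 2 ^ m) ∧ p = 2 ^ b + 1) ∨ (p ^ a = 9 ∧ q ^ b = 8) := by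
  by_cases hp2 : p = 2
  · left
    subst hp2
    have hq2 : q ≠ 2 := by
      intro hq2
      subst hq2
      obtain ⟨a', rfl⟩ := Nat.exists_eq_add_of_le ha
      obtain ⟨b', rfl⟩ := Nat.exists_eq_add_of_le hb
      rw [pow_add, pow_add] at h
      omega
    obtain ⟨h1, h2, h3⟩ := caseA q a b hq hq2 ha hb h
    exact ⟨rfl, h1, h2, h3⟩
  · right
    have hq2 : q = 2 := by
      by_contra hq2
      have hpodd : Odd p := hp.odd_of_ne_two hp2
      have hqodd : Odd q := hq.odd_of_ne_two hq2
      have h1 : Odd (p ^ a) := hpodd.pow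
      have h2 : Odd (q ^ b) := hqodd.pow
      rw [h] at h1
      have := Nat.odd_iff.mp h1
      have := Nat.odd_iff.mp h2
      omega
    subst hq2
    rcases caseB p a b hp hp2 ha hb h with ⟨h1, h2, h3⟩ | ⟨h1, h2⟩
    · left; exact ⟨rfl, h1, h2, h3⟩
    · right; exact ⟨h1, h2⟩

end Cfsg.Agent.S3784
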