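import Cfsg.Statements.S3788
-- import your own Cfsg.Agent.* helpers here
import Cfsg.Agent.Lib_helper19_CN3
import Cfsg.Agent.Lib_helper9_Cores

set_option autoImplicit false
open Cfsg

namespace Cfsg.Agent.S3788

/-- Let G be a finite p-soluble group, P a Sylow p-subgroup of G and A a cyclic normal subgroup of P. If p is odd, or if no section of G is isomorphic to the symmetric group of degree 4, then A ≤ O_{p',p}(G). -/
theorem result {G : Type*} [Group G] [Finite G] {p : ℕ} [Fact p.Prime] (hG : Cfsg.IsPSolvable p G) (P : Sylow p G) (A : Subgroup G) (hAP : A ≤ (P : Subgroup G)) (hAn : (P : Subgroup G) ≤ Subgroup.normalizer (A : Set G)) (hA : IsCyclic A) (h : p ≠ 2 ∨ ¬ Cfsg.Involves (Equiv.Perm (Fin 4)) G) : A ≤ Cfsg.pPrimePCore p G := by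
  have hsurj := QuotientGroup.mk'_surjective (Cfsg.pPrimeCore p G)
  have hps : Cfsg.IsPSolvable p (G ⧸ Cfsg.pPrimeCore p G) :=
    Cfsg.Agent.helper23.isPSolvable_of_surjective (Fact.out : p.Prime)
      (QuotientGroup.mk' (Cfsg.pPrimeCore p G)) hsurj hG
  have hO : Cfsg.pPrimeCore p (G ⧸ Cfsg.pPrimeCore p G) = ⊥ :=
    Cfsg.Agent.helper9.pPrimeCore_quotient_eq_bot p
  have hAp : IsPGroup p (A.map (QuotientGroup.mk' (Cfsg.pPrimeCore p G))) :=
    (P.isPGroup'.to_le hAP).map _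
  have hAcyc : IsCyclic (A.map (QuotientGroup.mk' (Cfsg.pPrimeCore p G))) := by
    have := hA
    exact isCyclic_of_surjective ((QuotientGroup.mk' (Cfsg.pPrimeCore p G)).subgroupMap A)
      (MonoidHom.subgroupMap_surjective _ A)
  have hAQ : ∀ v ∈ Cfsg.pCore p (G ⧸ Cfsg.pPrimeCore p G),
      ∀ z ∈ A.map (QuotientGroup.mk' (Cfsg.pPrimeCore p G)),
        v * z * v⁻¹ ∈ A.map (QuotientGroup.mk' (Cfsg.pPrimeCore p G)) := by
    intro v hv z hz
    have h1 := Cfsg.Agent.helper1.pCore_le_sylow (P.mapSurjective hsurj) hv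
    rw [Sylow.coe_mapSurjective] at h1
    obtain ⟨g, hg, rfl⟩ := h1
    obtain ⟨z₀, hz₀, rfl⟩ := hz
    have h2 := hAn hg
    rw [Subgroup.mem_normalizer_iff] at h2
    exact ⟨g * z₀ * g⁻¹, (h2 z₀).1 hz₀, by rw [map_mul, map_mul, map_inv]⟩
  have hS4 : p ≠ 2 ∨ ¬ Cfsg.Involves (Equiv.Perm (Fin 4)) (G ⧸ Cfsg.pPrimeCore p G) := by
    rcases h with h | h
    · exact Or.inl h
    · exact Or.inr (fun hinv => h (Cfsg.Agent.helper15.S4F.involves_of_quotient _ hinv))
  have hmain := Cfsg.Agent.helper19.CN.main1 hps hO _ hAp hAQ hAcyc hS4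
  intro z hz
  show z ∈ (Cfsg.pCore p (G ⧸ Cfsg.pPrimeCore p G)).comap
    (QuotientGroup.mk' (Cfsg.pPrimeCore p G))
  rw [Subgroup.mem_comap]
  exact hmain (Subgroup.mem_map_of_mem _ hz)

end Cfsg.Agent.S3788
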