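import Mathlib
import Cfsg.Statements.S3799
import Cfsg.Agent.Lib_helper1_ElemAb
import Cfsg.Agent.Lib_helper1_PGroup

set_option autoImplicit false
set_option linter.style.haveILetI false
set_option linter.unusedSectionVars false
open Cfsg
open scoped commutatorElement
open Matrix

namespace Cfsg.Agent.S3799

/-- The Heisenberg group of degree `n` over `ZMod p`. -/
@[ext] structure Heis (n p : ℕ) where
  a : Fin n → ZMod p
  b : Fin n → ZMod p
  c : ZMod p

namespace Heis

variable {n p : ℕ}

instance : Mul (Heis n p) := ⟨fun x y => ⟨x.a + y.a, x.b + y.b, x.c + y.c + x.a ⬝ᵥ y.b⟩⟩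
instance : One (Heis n p) := ⟨⟨0, 0, 0⟩⟩
instance : Inv (Heis n p) := ⟨fun x => ⟨-x.a, -x.b, -x.c + x.a ⬝ᵥ x.b⟩⟩

@[simp] theorem mul_a (x y : Heis n p) : (x * y).a = x.a + y.a := rfl
@[simp] theorem mul_b (x y : Heis n p) : (x * y).b = x.b + y.b := rfl
@[simp] theorem mul_c (x y : Heis n p) : (x * y).c = x.c + y.c + x.a ⬝ᵥ y.b := rfl
@[simp] theorem one_a : (1 : Heis n p).a = 0 := rfl
@[simp] theorem one_b : (1 : Heis n p).b = 0 := rfl
@[simp] theorem one_c : (1 : Heis n p).c = 0 := rfl
@[simp] theorem inv_a (x : Heis n p) : x⁻¹.a = -x.a := rfl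
@[simp] theorem inv_b (x : Heis n p) : x⁻¹.b = -x.b := rfl
@[simp] theorem inv_c (x : Heis n p) : x⁻¹.c = -x.c + x.a ⬝ᵥ x.b := rfl

instance : Group (Heis n p) where
  mul_assoc x y z := by
    apply Heis.ext
    · simp [add_assoc]
    · simp [add_assoc]
    · simp only [mul_c, mul_a, mul_b, dotProduct_add, add_dotProduct]; ring
  one_mul x := by
    apply Heis.ext <;> simp
  mul_one x := by
    apply Heis.ext <;> simp
  inv_mul_cancel x := by
    apply Heis.ext
    · simp
    · simp
    · simp only [mul_c, inv_c, inv_a, neg_dotProduct, one_c]; ring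

theorem pow_a (x : Heis n p) (k : ℕ) : (x ^ k).a = k • x.a := by
  induction k with
  | zero => simp
  | succ k ih => rw [pow_succ, mul_a, ih, succ_nsmul]

theorem pow_b (x : Heis n p) (k : ℕ) : (x ^ k).b = k • x.b := by
  induction k with
  | zero => simp
  | succ k ih => rw [pow_succ, mul_b, ih, succ_nsmul]

theorem pow_c (x : Heis n p) (k : ℕ) :
    (x ^ k).c = k • x.c + (k.choose 2) • (x.a ⬝ᵥ x.b) := by
  induction k with
  | zero => simp
  | succ k ih =>
    have h2 : (k + 1).choose 2 = k + k.choose 2 := by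
      rw [Nat.choose_succ_succ' k 1, Nat.choose_one_right]
    rw [pow_succ, mul_c, ih, pow_a, smul_dotProduct, h2, add_smul, add_smul, one_smul]
    abel

theorem pow_p [hp : Fact p.Prime] (hp2 : p ≠ 2) (x : Heis n p) : x ^ p = 1 := by
  have h0 : ∀ z : ZMod p, p • z = 0 := fun z => by
    rw [nsmul_eq_mul, ZMod.natCast_self, zero_mul]
  apply Heis.ext
  · funext i
    rw [pow_a, Pi.smul_apply, h0]; rfl
  · funext i
    rw [pow_b, Pi.smul_apply, h0]; rfl
  · rw [pow_c, h0]
    have hdvd : p ∣ p.choose 2 := hp.out.dvd_choose_self (by norm_num)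
      (lt_of_le_of_ne hp.out.two_le (Ne.symm hp2))
    obtain ⟨m, hm⟩ := hdvd
    rw [hm, mul_smul, h0, zero_add]; rfl

theorem mem_center_iff' (x : Heis n p) :
    x ∈ Subgroup.center (Heis n p) ↔ x.a = 0 ∧ x.b = 0 := by
  rw [Subgroup.mem_center_iff]
  constructor
  · intro h
    constructor
    · funext i
      have h1 := congrArg Heis.c (h ⟨0, Pi.single i 1, 0⟩)
      simp only [mul_c, zero_dotProduct, dotProduct_single, mul_one, add_zero, zero_add] at h1
      have : x.a i = 0 := by linear_combination -h1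
      exact this
    · funext i
      have h1 := congrArg Heis.c (h ⟨Pi.single i 1, 0, 0⟩)
      simp only [mul_c, dotProduct_zero, single_dotProduct, one_mul, add_zero, zero_add] at h1
      have : x.b i = 0 := by linear_combination h1
      exact this
  · rintro ⟨ha, hb⟩ y
    apply Heis.ext
    · simp [ha]
    · simp [hb]
    · simp [ha, hb, add_comm]

theorem comm_a (x y : Heis n p) : ⁅x, y⁆.a = 0 := by
  simp [commutatorElement_def]

theorem comm_b (x y : Heis n p) : ⁅x, y⁆.b = 0 := by
  simp [commutatorElement_def]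

theorem comm_c (x y : Heis n p) : ⁅x, y⁆.c = x.a ⬝ᵥ y.b - y.a ⬝ᵥ x.b := by
  simp only [commutatorElement_def, mul_c, mul_a, inv_a, inv_b, inv_c, dotProduct_neg,
    neg_dotProduct, add_dotProduct]
  ring

theorem comm_mem_center (x y : Heis n p) : ⁅x, y⁆ ∈ Subgroup.center (Heis n p) :=
  (mem_center_iff' _).mpr ⟨comm_a x y, comm_b x y⟩

theorem center_eq_comm (hn : 0 < n) (z : Heis n p) (hz : z ∈ Subgroup.center (Heis n p)) :
    ∃ x y : Heis n p, z = ⁅x, y⁆ := by
  obtain ⟨ha, hb⟩ := (mem_center_iff' z).mp hz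
  refine ⟨⟨Pi.single ⟨0, hn⟩ z.c, 0, 0⟩, ⟨0, Pi.single ⟨0, hn⟩ 1, 0⟩, ?_⟩
  apply Heis.ext
  · rw [comm_a, ha]
  · rw [comm_b, hb]
  · rw [comm_c]
    simp

/-- underlying product -/
def equivProd : Heis n p ≃ (Fin n → ZMod p) × (Fin n → ZMod p) × ZMod p where
  toFun x := (x.a, x.b, x.c)
  invFun t := ⟨t.1, t.2.1, t.2.2⟩
  left_inv _ := rfl
  right_inv _ := rfl

instance [NeZero p] : Finite (Heis n p) := Finite.of_equiv _ equivProd.symm

theorem card_heis [NeZero p] : Nat.card (Heis n p) = p ^ (1 + 2 * n) := by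
  rw [Nat.card_congr equivProd, Nat.card_prod, Nat.card_prod, Nat.card_fun, Nat.card_zmod,
    Nat.card_fin]
  ring

theorem card_center [NeZero p] : Nat.card (Subgroup.center (Heis n p)) = p := by
  have e : Subgroup.center (Heis n p) ≃ ZMod p :=
    { toFun := fun z => z.1.c
      invFun := fun c => ⟨⟨0, 0, c⟩, (mem_center_iff' _).mpr ⟨rfl, rfl⟩⟩
      left_inv := by
        rintro ⟨z, hz⟩
        obtain ⟨ha, hb⟩ := (mem_center_iff' z).mp hz
        apply Subtype.ext
        apply Heis.ext
        · exact ha.symm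
        · exact hb.symm
        · rfl
      right_inv := fun c => rfl }
  rw [Nat.card_congr e, Nat.card_zmod]

/-- the natural module -/
abbrev V (n p : ℕ) := ZMod p × (Fin n → ZMod p) × ZMod p

/-- the matrix action -/
def T (h : Heis n p) : V n p →ₗ[ZMod p] V n p where
  toFun v := (v.1 + h.a ⬝ᵥ v.2.1 + h.c * v.2.2, v.2.1 + v.2.2 • h.b, v.2.2)
  map_add' v w := by
    refine Prod.ext ?_ (Prod.ext ?_ ?_)
    · simp only [Prod.fst_add, Prod.snd_add, dotProduct_add, mul_add]; ring
    · funext i
      simp only [Prod.fst_add, Prod.snd_add, Pi.add_apply, Pi.smul_apply, smul_eq_mul]; ring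
    · simp
  map_smul' r v := by
    refine Prod.ext ?_ (Prod.ext ?_ ?_)
    · simp only [Prod.smul_fst, Prod.smul_snd, dotProduct_smul, smul_eq_mul, RingHom.id_apply]
      ring
    · funext i
      simp only [Prod.smul_fst, Prod.smul_snd, Pi.add_apply, Pi.smul_apply, smul_eq_mul,
        RingHom.id_apply]
      ring
    · simp

theorem T_apply (h : Heis n p) (v : V n p) :
    T h v = (v.1 + h.a ⬝ᵥ v.2.1 + h.c * v.2.2, v.2.1 + v.2.2 • h.b, v.2.2) := rfl

/-- the action as a monoid homomorphism -/
def Tm : Heis n p →* (V n p →ₗ[ZMod p] V n p) where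
  toFun := T
  map_one' := by
    apply LinearMap.ext
    intro v
    rw [T_apply]
    simp
  map_mul' h h' := by
    apply LinearMap.ext
    intro v
    rw [Module.End.mul_apply, T_apply, T_apply, T_apply]
    refine Prod.ext ?_ (Prod.ext ?_ ?_)
    · simp only [mul_a, mul_c, add_dotProduct, dotProduct_add, dotProduct_smul, smul_eq_mul]
      ring
    · funext i
      simp only [mul_b, Pi.add_apply, Pi.smul_apply, smul_eq_mul]
      ring
    · rfl

theorem Tm_injective : Function.Injective (Tm (n := n) (p := p)) := by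
  intro h h' hh
  have h1 := congrArg (fun f : V n p →ₗ[ZMod p] V n p => f (0, 0, 1)) hh
  simp only [Tm, MonoidHom.coe_mk, OneHom.coe_mk, T_apply] at h1
  have h2 : ∀ i, h.a i = h'.a i := by
    intro i
    have h3 := congrArg (fun f : V n p →ₗ[ZMod p] V n p => (f (0, Pi.single i 1, 0)).1) hh
    simpa [Tm, T_apply, dotProduct_single] using h3
  apply Heis.ext
  · funext i; exact h2 i
  · have := congrArg (fun t : V n p => t.2.1) h1
    simpa using this
  · have := congrArg (fun t : V n p => t.1) h1
    simpa using this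

end Heis

open Heis

/-- transport of the extraspecial structure along an isomorphism -/
theorem extraspecial_of_equiv {H E : Type*} [Group H] [Group E] [Finite E] (e : H ≃* E)
    (p : ℕ) [hp : Fact p.Prime] {m : ℕ} (hcard : Nat.card E = p ^ m)
    (hexp : ∀ x : H, x ^ p = 1) (hcc : ∀ x y : H, ⁅x, y⁆ ∈ Subgroup.center H)
    (hzc : ∀ z ∈ Subgroup.center H, ∃ x y : H, z = ⁅x, y⁆)
    (hZ : Nat.card (Subgroup.center H) = p) : Cfsg.IsExtraspecial p E := by
  have hG : IsPGroup p E := IsPGroup.of_card hcard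
  have hexpE : ∀ x : E, x ^ p = 1 := by
    intro x
    have : x = e (e.symm x) := (e.apply_symm_apply x).symm
    rw [this, ← map_pow, hexp, map_one]
  have hcen : ∀ a : H, a ∈ Subgroup.center H ↔ e a ∈ Subgroup.center E := by
    intro a
    rw [Subgroup.mem_center_iff, Subgroup.mem_center_iff]
    constructor
    · intro h g
      have hg : g = e (e.symm g) := (e.apply_symm_apply g).symm
      rw [hg, ← map_mul, ← map_mul, h]
    · intro h g
      have := h (e g)
      rw [← map_mul, ← map_mul] at this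
      exact e.injective this
  have hcommE : commutator E = Subgroup.center E := by
    apply le_antisymm
    · rw [commutator_eq_closure, Subgroup.closure_le]
      rintro _ ⟨x, y, rfl⟩
      have hx : x = e (e.symm x) := (e.apply_symm_apply x).symm
      have hy : y = e (e.symm y) := (e.apply_symm_apply y).symm
      rw [hx, hy, ← map_commutatorElement]
      exact (hcen _).mp (hcc _ _)
    · intro z hz
      have hz' : e.symm z ∈ Subgroup.center H := by
        rw [hcen, e.apply_symm_apply]; exact hz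
      obtain ⟨x, y, hxy⟩ := hzc _ hz'
      have : z = ⁅e x, e y⁆ := by
        rw [← map_commutatorElement, ← hxy, e.apply_symm_apply]
      rw [this, commutator_def]
      exact Subgroup.commutator_mem_commutator (Subgroup.mem_top _) (Subgroup.mem_top _)
  have hfrat : frattini E = commutator E := by
    apply le_antisymm
    · exact Cfsg.Agent.helper1.frattini_le_of_elemAb_quot (p := p) (commutator E) le_rfl
        (fun x => by rw [hexpE]; exact Subgroup.one_mem _)
    · exact Cfsg.Agent.helper1.commutator_le_frattini_of_isPGroup hG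
  refine ⟨⟨hG, hfrat.trans hcommE, hcommE⟩, ?_⟩
  rw [← hZ]
  exact Nat.card_congr (Equiv.subtypeEquiv e.toEquiv (fun a => hcen a)).symm

theorem result (p : ℕ) [Fact p.Prime] (hp : p ≠ 2) (n : ℕ) (hn : 1 ≤ n) : ∃ E : Subgroup (Matrix.GeneralLinearGroup (Fin (n + 2)) (ZMod p)), Cfsg.IsExtraspecial p ↥E ∧ Nat.card E = p ^ (1 + 2 * n) ∧ ∀ x ∈ E, x ^ p = 1 := by
  have hfr : Module.finrank (ZMod p) (V n p) = n + 2 := by
    simp only [Module.finrank_prod, Module.finrank_self, Module.finrank_pi, Fintype.card_fin]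
    omega
  let bV := Module.finBasisOfFinrankEq (ZMod p) (V n p) hfr
  let ψ : (V n p →ₗ[ZMod p] V n p) →* Matrix (Fin (n + 2)) (Fin (n + 2)) (ZMod p) :=
    MonoidHomClass.toMonoidHom (LinearMap.toMatrixAlgEquiv bV)
  have hψ : Function.Injective ψ := (LinearMap.toMatrixAlgEquiv bV).injective
  let φ : Heis n p →* Matrix.GeneralLinearGroup (Fin (n + 2)) (ZMod p) :=
    (Units.map ψ).comp (Tm (n := n) (p := p)).toHomUnits
  have hφ : Function.Injective φ := by
    intro h h' hh
    have h1 : (Tm (n := n) (p := p)).toHomUnits h = (Tm (n := n) (p := p)).toHomUnits h' :=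
      Units.map_injective hψ hh
    have h2 := congrArg Units.val h1
    rw [MonoidHom.coe_toHomUnits, MonoidHom.coe_toHomUnits] at h2
    exact Tm_injective h2
  let e : Heis n p ≃* φ.range := MonoidHom.ofInjective hφ
  haveI : NeZero p := ⟨(Fact.out : p.Prime).ne_zero⟩
  have hcardE : Nat.card φ.range = p ^ (1 + 2 * n) := by
    rw [← Nat.card_congr e.toEquiv, card_heis]
  haveI : Finite φ.range := Finite.of_equiv _ e.toEquiv
  refine ⟨φ.range, ?_, hcardE, ?_⟩
  · exact extraspecial_of_equiv e p hcardE (pow_p hp) comm_mem_center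
      (center_eq_comm (by omega)) card_center
  · rintro _ ⟨h, rfl⟩
    rw [← map_pow, pow_p hp, map_one]

end Cfsg.Agent.S3799
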