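import Cfsg.Statements.S3800
-- import your own Cfsg.Agent.* helpers here
import Cfsg.Agent.Lib_helper19_Sylow3

set_option autoImplicit false
open Cfsg

namespace Cfsg.Agent.S3800

/-- Let G be a finite group, N a normal subgroup of G whose order is prime to p, and P a p-subgroup of G. Then in G/N the normalizer of the image of P is the image of N_G(P), and the centralizer of the image of P is the image of C_G(P). -/
theorem result {G : Type*} [Group G] [Finite G] {p : ℕ} [Fact p.Prime] (N : Subgroup G) [N.Normal] (hN : (Nat.card N).Coprime p) (P : Subgroup G) (hP : IsPGroup p P) : Subgroup.normalizer ((P.map (QuotientGroup.mk' N)) : Set (G ⧸ N)) = (Subgroup.normalizer (P : Set G)).map (QuotientGroup.mk' N) ∧ Subgroup.centralizer ((P.map (QuotientGroup.mk' N)) : Set (G ⧸ N)) = (Subgroup.centralizer (P : Set G)).map (QuotientGroup.mk' N) := by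
  classical
  have hNn : N.Normal := inferInstance
  have hpp : p.Prime := Fact.out
  set π : G →* G ⧸ N := QuotientGroup.mk' N with hπ
  have hπeq : ∀ a b : G, π a = π b ↔ a⁻¹ * b ∈ N := fun a b => QuotientGroup.eq
  have hπ1 : ∀ a : G, π a = 1 ↔ a ∈ N := fun a => QuotientGroup.eq_one_iff a
  set K : Subgroup G := P ⊔ N with hK
  have hKmem : ∀ y : G, y ∈ K ↔ π y ∈ P.map π := by
    intro y
    constructor
    · intro hy
      obtain ⟨a, ha, b, hb, rfl⟩ := Subgroup.mem_sup_of_normal_right.mp hy
      refine ⟨a, ha, ?_⟩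
      rw [map_mul, (hπ1 b).mpr hb, mul_one]
    · rintro ⟨a, ha, hab⟩
      rw [hπeq] at hab
      have e : y = a * (a⁻¹ * y) := by group
      rw [e]
      exact Subgroup.mul_mem_sup ha hab
  have hPN : P ⊓ N = ⊥ := by
    apply disjoint_iff.mp
    apply Subgroup.disjoint_of_coprime_natCard
    obtain ⟨n, hn⟩ := (IsPGroup.iff_card.mp hP)
    rw [hn]
    exact (Nat.Coprime.pow_left n hN.symm)
  have hidx : ¬ p ∣ P.relIndex K := by
    rw [hK, ← helper19.relIndex_inf_normal P N]
    intro hd
    have h1 : (P ⊓ N).relIndex N ∣ Nat.card N := Subgroup.relIndex_dvd_card _ _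
    have := (Nat.Prime.coprime_iff_not_dvd hpp).mp hN.symm
    exact this (hd.trans h1)
  -- key: elements whose image normalizes π P
  have key : ∀ g : G, π g ∈ Subgroup.normalizer ((P.map π : Subgroup (G ⧸ N)) : Set (G ⧸ N)) →
      ∃ n ∈ Subgroup.normalizer (P : Set G), π n = π g := by
    intro g hg
    rw [Subgroup.mem_normalizer_iff] at hg
    have hgK : ∀ y : G, y ∈ K ↔ g * y * g⁻¹ ∈ K := by
      intro y
      rw [hKmem, hKmem, hg (π y)]
      simp [map_mul, map_inv]
    set P' : Subgroup G := P.map (MulAut.conj g).toMonoidHom with hP'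
    have hP'mem : ∀ y, y ∈ P' ↔ g⁻¹ * y * g ∈ P := fun y => helper19.memconj P g y
    have hP'K : P' ≤ K := by
      intro y hy
      rw [hP'mem] at hy
      have h1 : g⁻¹ * y * g ∈ K := (le_sup_left : P ≤ K) hy
      have h2 := (hgK _).mp h1
      have e : g * (g⁻¹ * y * g) * g⁻¹ = y := by group
      rwa [e] at h2
    have hP'p : IsPGroup p P' := hP.map _
    have hcard : Nat.card P = Nat.card P' :=
      (Subgroup.card_map_of_injective (MulAut.conj g).injective).symm
    obtain ⟨k, hkK, hk⟩ := helper19.conj_in_of_card_eq P P' K le_sup_left hP'K hP hP'p hcard hidx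
    obtain ⟨a, ha, b, hb, rfl⟩ := Subgroup.mem_sup_of_normal_right.mp hkK
    -- (a*b)⁻¹ * g normalizes P
    have hn : (a * b)⁻¹ * g ∈ Subgroup.normalizer (P : Set G) := by
      rw [Subgroup.mem_normalizer_iff]
      intro y
      have h1 := hk (g * y * g⁻¹)
      rw [hP'mem] at h1
      have e1 : g⁻¹ * (g * y * g⁻¹) * g = y := by group
      have e2 : (a * b)⁻¹ * (g * y * g⁻¹) * (a * b) = (a * b)⁻¹ * g * y * ((a * b)⁻¹ * g)⁻¹ := by group
      rw [e1, e2] at h1
      exact h1
    have haN : a ∈ Subgroup.normalizer (P : Set G) := Subgroup.le_normalizer ha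
    refine ⟨a * ((a * b)⁻¹ * g), Subgroup.mul_mem _ haN hn, ?_⟩
    rw [hπeq]
    have e : (a * ((a * b)⁻¹ * g))⁻¹ * g = g⁻¹ * (a * b * a⁻¹) * g := by group
    rw [e]
    exact hNn.conj_mem' _ (hNn.conj_mem b hb a) g
  constructor
  · apply le_antisymm
    · intro q hq
      obtain ⟨g, rfl⟩ := QuotientGroup.mk'_surjective N q
      obtain ⟨n, hn, hng⟩ := key g hq
      exact ⟨n, hn, hng⟩
    · exact Subgroup.le_normalizer_map π
  · apply le_antisymm
    · intro q hq
      obtain ⟨g, rfl⟩ := QuotientGroup.mk'_surjective N q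
      have hqn : π g ∈ Subgroup.normalizer ((P.map π : Subgroup (G ⧸ N)) : Set (G ⧸ N)) := by
        rw [Subgroup.mem_normalizer_iff]
        intro h
        rw [Subgroup.mem_centralizer_iff] at hq
        constructor
        · intro hh
          have := hq h hh
          have e : π g * h * (π g)⁻¹ = h := by
            calc π g * h * (π g)⁻¹ = (h * π g) * (π g)⁻¹ := by rw [this]
              _ = h := by group
          rw [e]; exact hh
        · intro hh
          have h2 := hq _ hh
          -- π g commutes with π g * h * (π g)⁻¹ hence with h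
          have e : h = π g * h * (π g)⁻¹ := by
            have : π g * h * (π g)⁻¹ * π g = π g * (π g * h * (π g)⁻¹) := h2
            calc h = (π g)⁻¹ * (π g * h * (π g)⁻¹ * π g) := by group
              _ = (π g)⁻¹ * (π g * (π g * h * (π g)⁻¹)) := by rw [this]
              _ = π g * h * (π g)⁻¹ := by group
          rw [e]; exact hh
      obtain ⟨n, hn, hng⟩ := key g hqn
      refine ⟨n, Subgroup.mem_centralizer_iff.mpr ?_, hng⟩
      intro y hy
      have hyP : y ∈ P := hy
      rw [Subgroup.mem_centralizer_iff] at hq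
      have h1 := hq (π y) ⟨y, hyP, rfl⟩
      rw [← hng] at h1
      -- n * y * n⁻¹ * y⁻¹ ∈ P ⊓ N
      have hc1 : n * y * n⁻¹ * y⁻¹ ∈ N := by
        rw [← hπ1]
        simp only [map_mul, map_inv]
        rw [← h1]; group
      have hc2 : n * y * n⁻¹ * y⁻¹ ∈ P := by
        rw [Subgroup.mem_normalizer_iff] at hn
        exact P.mul_mem ((hn y).mp hyP) (P.inv_mem hyP)
      have : n * y * n⁻¹ * y⁻¹ ∈ P ⊓ N := ⟨hc2, hc1⟩
      rw [hPN, Subgroup.mem_bot] at this
      calc y * n = (n * y * n⁻¹ * y⁻¹)⁻¹ * (n * y) := by group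
        _ = n * y := by rw [this]; group
    · rintro q ⟨c, hc, rfl⟩
      have hc := Subgroup.mem_centralizer_iff.mp hc
      rw [Subgroup.mem_centralizer_iff]
      rintro h ⟨y, hy, rfl⟩
      have := hc y hy
      show π y * π c = π c * π y
      rw [← map_mul, ← map_mul, this]

end Cfsg.Agent.S3800
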