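import Cfsg.Statements.S3804
-- import your own Cfsg.Agent.* helpers here
import Mathlib
import Cfsg.Agent.Lib_helper19_Measure

set_option autoImplicit false
open Cfsg

namespace Cfsg.Agent.S3804

/-- Let G and H be subgroups of a finite group with G normalizing H, fix a real number α > 0, and for a subgroup A of G put m(A) = |A|^α · |C_H(A)|. Let A and B be nontrivial subgroups of G at which m attains its maximum over all nontrivial subgroups of G, and assume that A ∩ B ≠ 1 or that this maximum is at least |H|. Then AB = BA is a subgroup at which m is again maximal, C_H(A ∩ B) = C_H(A) C_H(B), and if A ∩ B ≠ 1 then m is maximal at A ∩ B as well. -/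
theorem result {X : Type*} [Group X] [Finite X] (G H : Subgroup X) (hGH : G ≤ Subgroup.normalizer (H : Set X)) (α : ℝ) (hα : 0 < α)
    (A B : Subgroup X) (hA : A ≤ G) (hB : B ≤ G) (hA1 : A ≠ ⊥) (hB1 : B ≠ ⊥)
    (hAmax : ∀ A' : Subgroup X, A' ≤ G → A' ≠ ⊥ → (fun A : Subgroup X => ((Nat.card A : ℝ) ^ α) * (Nat.card ↥(H ⊓ Subgroup.centralizer (A : Set X)) : ℝ)) A' ≤ (fun A : Subgroup X => ((Nat.card A : ℝ) ^ α) * (Nat.card ↥(H ⊓ Subgroup.centralizer (A : Set X)) : ℝ)) A)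
    (hBmax : ∀ A' : Subgroup X, A' ≤ G → A' ≠ ⊥ → (fun A : Subgroup X => ((Nat.card A : ℝ) ^ α) * (Nat.card ↥(H ⊓ Subgroup.centralizer (A : Set X)) : ℝ)) A' ≤ (fun A : Subgroup X => ((Nat.card A : ℝ) ^ α) * (Nat.card ↥(H ⊓ Subgroup.centralizer (A : Set X)) : ℝ)) B)
    (hcase : A ⊓ B ≠ ⊥ ∨ (Nat.card H : ℝ) ≤ (fun A : Subgroup X => ((Nat.card A : ℝ) ^ α) * (Nat.card ↥(H ⊓ Subgroup.centralizer (A : Set X)) : ℝ)) A) :
    (∀ a ∈ A, ∀ b ∈ B, ∃ b' ∈ B, ∃ a' ∈ A, a * b = b' * a') ∧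
    (∀ A' : Subgroup X, A' ≤ G → A' ≠ ⊥ → (fun A : Subgroup X => ((Nat.card A : ℝ) ^ α) * (Nat.card ↥(H ⊓ Subgroup.centralizer (A : Set X)) : ℝ)) A' ≤ (fun A : Subgroup X => ((Nat.card A : ℝ) ^ α) * (Nat.card ↥(H ⊓ Subgroup.centralizer (A : Set X)) : ℝ)) (A ⊔ B)) ∧
    (∀ h ∈ H ⊓ Subgroup.centralizer ((A ⊓ B : Subgroup X) : Set X), ∃ u ∈ H ⊓ Subgroup.centralizer (A : Set X), ∃ v ∈ H ⊓ Subgroup.centralizer (B : Set X), h = u * v) ∧
    (A ⊓ B ≠ ⊥ → ∀ A' : Subgroup X, A' ≤ G → A' ≠ ⊥ → (fun A : Subgroup X => ((Nat.card A : ℝ) ^ α) * (Nat.card ↥(H ⊓ Subgroup.centralizer (A : Set X)) : ℝ)) A' ≤ (fun A : Subgroup X => ((Nat.card A : ℝ) ^ α) * (Nat.card ↥(H ⊓ Subgroup.centralizer (A : Set X)) : ℝ)) (A ⊓ B)) := by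
  open Cfsg.Agent.helper19 in
  have hAmax' : ∀ A' : Subgroup X, A' ≤ G → A' ≠ ⊥ → msr H α A' ≤ msr H α A :=
    fun A' h1 h2 => hAmax A' h1 h2
  have hBmax' : ∀ A' : Subgroup X, A' ≤ G → A' ≠ ⊥ → msr H α A' ≤ msr H α B :=
    fun A' h1 h2 => hBmax A' h1 h2
  have hBM : msr H α B = msr H α A := le_antisymm (hAmax' B hB hB1) (hBmax' A hA hA1)
  have hSne : A ⊔ B ≠ ⊥ := by
    intro h
    apply hA1
    rw [eq_bot_iff, ← h]; exact le_sup_left
  have hS : msr H α (A ⊔ B) ≤ msr H α A := hAmax' _ (sup_le hA hB) hSne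
  have hI : msr H α (A ⊓ B) ≤ msr H α A := by
    by_cases hbot : A ⊓ B = ⊥
    · rcases hcase with h | h
      · exact absurd hbot h
      · have h' : (Nat.card H : ℝ) ≤ msr H α A := h
        refine le_trans (le_of_eq ?_) h'
        rw [hbot]
        unfold msr
        have hc : Subgroup.centralizer (((⊥ : Subgroup X) : Subgroup X) : Set X) = ⊤ := by
          rw [Subgroup.centralizer_eq_top_iff_subset]
          intro x hx
          have : x = 1 := by simpa using hx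
          rw [this]; exact Subgroup.one_mem _
        rw [hc, inf_top_eq, Subgroup.card_bot, Nat.cast_one, Real.one_rpow, one_mul]
    · exact hAmax' _ (inf_le_left.trans hA) hbot
  obtain ⟨h1, h2, h3, h4⟩ := measure_main H α hα A B (msr H α A) rfl hBM hS hI
  refine ⟨?_, ?_, ?_, ?_⟩
  · intro a ha b hb
    have hmem : b⁻¹ * a⁻¹ ∈ ((A ⊔ B : Subgroup X) : Set X) :=
      Subgroup.mul_mem _ ((le_sup_right : B ≤ A ⊔ B) (B.inv_mem hb))
        ((le_sup_left : A ≤ A ⊔ B) (A.inv_mem ha))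
    rw [h3] at hmem
    obtain ⟨a₁, ha₁, b₁, hb₁, he⟩ := Set.mem_mul.1 hmem
    refine ⟨b₁⁻¹, B.inv_mem hb₁, a₁⁻¹, A.inv_mem ha₁, ?_⟩
    have : a * b = (b⁻¹ * a⁻¹)⁻¹ := by group
    rw [this, ← he]; group
  · intro A' hA' hA'1
    exact (hAmax' A' hA' hA'1).trans h1.ge
  · intro h hh
    have hmem : h ∈ ((H ⊓ Subgroup.centralizer ((A ⊓ B : Subgroup X) : Set X) : Subgroup X) : Set X) := hh
    rw [h4] at hmem
    obtain ⟨u, hu, v, hv, he⟩ := Set.mem_mul.1 hmem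
    exact ⟨u, hu, v, hv, he.symm⟩
  · intro _ A' hA' hA'1
    exact (hAmax' A' hA' hA'1).trans h2.ge

end Cfsg.Agent.S3804
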