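import Cfsg.Statements.S3809
import Mathlib
import Cfsg.Agent.S3807
import Cfsg.Agent.Lib_helper9_Extraspecial
import Cfsg.Agent.Lib_lead_Class2

set_option autoImplicit false
set_option linter.style.haveILetI false
open Cfsg
open scoped commutatorElement

universe u

namespace Cfsg.Agent.S3809

open Subgroup

section
variable {E : Type*} [Group E] [Finite E]

/-- relative version of the prime index lemma -/
theorem le_of_relIndex_prime {p : ℕ} (hp : p.Prime) {B K D : Subgroup E} (hBK : B ≤ K)
    (hrel : B.relIndex K = p) (hBD : B ≤ D) {s : E} (hsD : s ∈ D) (hsK : s ∈ K) (hsB : s ∉ B) :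
    K ≤ D := by
  have h1 := Subgroup.relIndex_mul_relIndex B (D ⊓ K) K (le_inf hBD hBK) inf_le_right
  rw [hrel] at h1
  have h2 : B.relIndex (D ⊓ K) ∣ p := Dvd.intro _ h1
  rcases (Nat.dvd_prime hp).mp h2 with h3 | h3
  · exfalso
    exact hsB ((Subgroup.relIndex_eq_one.mp h3) ⟨hsD, hsK⟩)
  · rw [h3] at h1
    have h4 : (D ⊓ K).relIndex K = 1 := by
      exact Nat.eq_of_mul_eq_mul_left hp.pos (by rw [h1, mul_one])
    exact (Subgroup.relIndex_eq_one.mp h4).trans inf_le_left

/-- If some element of `K` does not commute with `x`, the centralizer of `x` in `K` has index `p`. -/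
theorem card_inf_centralizer_mul {p : ℕ} [hp : Fact p.Prime]
    (hcl : ∀ x y : E, ⁅x, y⁆ ∈ center E) (hZ : Nat.card (center E) = p) (K : Subgroup E) (x : E)
    (hx : ∃ k ∈ K, k * x ≠ x * k) :
    Nat.card (K ⊓ centralizer ({x} : Set E) : Subgroup E) * p = Nat.card K := by
  set φ := Cfsg.Agent.helper9.commHom hcl K x with hφ
  have hker : φ.ker = (K ⊓ centralizer ({x} : Set E)).subgroupOf K := by
    ext k
    rw [Cfsg.Agent.helper9.mem_ker_commHom, mem_subgroupOf]
    constructor
    · intro h
      exact Subgroup.mem_inf.mpr ⟨k.2, mem_centralizer_singleton_iff.mpr h⟩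
    · intro h
      exact mem_centralizer_singleton_iff.mp (Subgroup.mem_inf.mp h).2
  have hrange : φ.range = ⊤ := by
    obtain ⟨k, hk, hkx⟩ := hx
    have hne : φ.range ≠ ⊥ := by
      intro hbot
      have h1 : φ ⟨k, hk⟩ ∈ φ.range := ⟨_, rfl⟩
      rw [hbot, mem_bot] at h1
      have h2 : (⟨k, hk⟩ : ↥K) ∈ φ.ker := h1
      rw [Cfsg.Agent.helper9.mem_ker_commHom] at h2
      exact hkx h2
    have hdvd : Nat.card φ.range ∣ p := hZ ▸ Subgroup.card_subgroup_dvd_card _
    rcases (Nat.dvd_prime hp.out).mp hdvd with h | h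
    · exact absurd (Subgroup.card_eq_one.mp h) hne
    · apply Subgroup.eq_top_of_card_eq
      rw [h, hZ]
  have h1 := Subgroup.card_mul_index φ.ker
  rw [Subgroup.index_ker, hrange, Subgroup.card_top, hZ, hker] at h1
  rw [← h1]
  congr 1
  exact (Nat.card_congr (Subgroup.subgroupOfEquivOfLe inf_le_left).toEquiv).symm

end

/-- class-two `p`-groups with centre of order `p`. -/
def ESProp (p : ℕ) (E : Type u) [Group E] : Prop :=
  IsPGroup p E ∧ Nat.card (center E) = p ∧ ∀ x y : E, ⁅x, y⁆ ∈ center E

theorem es_card {p : ℕ} [hp : Fact p.Prime] :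
    ∀ (n : ℕ) (E : Type u) [Group E] [Finite E], Nat.card E = n → ESProp p E →
      ∃ m : ℕ, Nat.card E = p ^ (1 + 2 * m) := by
  intro n
  induction n using Nat.strong_induction_on with
  | _ n ih =>
    intro E _ _ hn ⟨hEp, hZ, hcl⟩
    have hpp : p.Prime := hp.out
    by_cases hab : ∀ x y : E, x * y = y * x
    · refine ⟨0, ?_⟩
      have : center E = ⊤ := by
        rw [eq_top_iff]
        intro g _
        rw [mem_center_iff]
        intro k
        exact hab k g
      rw [this, Subgroup.card_top] at hZ
      rw [hZ]; simp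
    · push Not at hab
      obtain ⟨x, y, hxy⟩ := hab
      set C₁ : Subgroup E := centralizer ({x} : Set E) with hC₁
      set C : Subgroup E := C₁ ⊓ centralizer ({y} : Set E) with hC
      have hxC₁ : x ∈ C₁ := by rw [hC₁, mem_centralizer_singleton_iff]
      have hyC₁ : y ∉ C₁ := by
        rw [hC₁, mem_centralizer_singleton_iff]
        exact fun h => hxy h.symm
      have hxC : x ∉ C := by
        intro h
        have := mem_centralizer_singleton_iff.mp (Subgroup.mem_inf.mp h).2
        exact hxy this
      have h1 : Nat.card C₁ * p = Nat.card E := by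
        have := card_inf_centralizer_mul hcl hZ ⊤ x ⟨y, Subgroup.mem_top y, fun h => hxy h.symm⟩
        rw [top_inf_eq, Subgroup.card_top] at this
        exact this
      have h2 : Nat.card C * p = Nat.card C₁ :=
        card_inf_centralizer_mul hcl hZ C₁ y ⟨x, hxC₁, hxy⟩
      -- index facts
      have hC₁idx : C₁.index = p := by
        have h3 := Subgroup.card_mul_index C₁
        rw [← h1] at h3
        exact Nat.eq_of_mul_eq_mul_left Nat.card_pos h3
      have hCrel : C.relIndex C₁ = p := by
        have h3 := Subgroup.relIndex_mul_relIndex ⊥ C C₁ bot_le inf_le_left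
        rw [Subgroup.relIndex_bot_left, Subgroup.relIndex_bot_left, ← h2] at h3
        exact Nat.eq_of_mul_eq_mul_left Nat.card_pos h3
      -- the centre of C is the centre of E
      have hcenC : C ⊓ centralizer (C : Set E) = center E := by
        apply le_antisymm
        · intro w hw
          have hwC : w ∈ C := hw.1
          have hwcen : w ∈ centralizer (C : Set E) := hw.2
          set D : Subgroup E := centralizer ({w} : Set E) with hD
          have hCD : C ≤ D := by
            intro c hc
            rw [hD, mem_centralizer_singleton_iff]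
            exact ((mem_centralizer_iff.mp hwcen) c hc)
          have hxD : x ∈ D := by
            rw [hD, mem_centralizer_singleton_iff]
            exact (mem_centralizer_singleton_iff.mp (Subgroup.mem_inf.mp hwC).1).symm
          have hyD : y ∈ D := by
            rw [hD, mem_centralizer_singleton_iff]
            exact (mem_centralizer_singleton_iff.mp (Subgroup.mem_inf.mp hwC).2).symm
          have hC₁D : C₁ ≤ D := le_of_relIndex_prime hpp inf_le_left hCrel hCD hxD hxC₁ hxC
          have hDtop : D = ⊤ :=
            Cfsg.Agent.S3807.eq_top_of_le_of_mem hpp hC₁idx hC₁D hyD hyC₁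
          rw [mem_center_iff]
          intro g
          have : g ∈ D := hDtop ▸ Subgroup.mem_top g
          exact mem_centralizer_singleton_iff.mp this
        · intro z hz
          rw [mem_center_iff] at hz
          refine Subgroup.mem_inf.mpr ⟨Subgroup.mem_inf.mpr ⟨?_, ?_⟩, ?_⟩
          · rw [hC₁, mem_centralizer_singleton_iff]; exact (hz x).symm
          · rw [mem_centralizer_singleton_iff]; exact (hz y).symm
          · rw [mem_centralizer_iff]; intro c _; exact hz c
      -- ESProp for C
      have hCes : ESProp p ↥C := by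
        have hmap : (center ↥C).map C.subtype = C ⊓ centralizer (C : Set E) := by
          ext g
          constructor
          · rintro ⟨w, hw, rfl⟩
            refine Subgroup.mem_inf.mpr ⟨w.2, ?_⟩
            rw [mem_centralizer_iff]
            intro k hk
            have := (mem_center_iff.mp hw) ⟨k, hk⟩
            exact congrArg Subtype.val this
          · intro hg
            have hg' := Subgroup.mem_inf.mp hg
            have hcen : (⟨g, hg'.1⟩ : ↥C) ∈ center ↥C := by
              rw [mem_center_iff]
              intro k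
              apply Subtype.ext
              exact (mem_centralizer_iff.mp hg'.2) k.1 k.2
            exact ⟨⟨g, hg'.1⟩, hcen, rfl⟩
        refine ⟨hEp.to_subgroup C, ?_, ?_⟩
        · rw [← Subgroup.card_map_of_injective (Subgroup.subtype_injective C), hmap, hcenC, hZ]
        · intro a b
          rw [mem_center_iff]
          intro k
          apply Subtype.ext
          have := mem_center_iff.mp (hcl a.1 b.1) k.1
          exact this
      have hlt : Nat.card C < n := by
        rw [← hn, ← h1, ← h2]
        have hpos : 0 < Nat.card C := Nat.card_pos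
        have : 1 < p := hpp.one_lt
        nlinarith
      obtain ⟨m, hm⟩ := ih _ hlt ↥C rfl hCes
      refine ⟨m + 1, ?_⟩
      rw [← h1, ← h2, hm]
      ring

section
variable {S : Type*} [Group S] [Finite S]

theorem commutator_le_of_index_prime {p : ℕ} [hp : Fact p.Prime] (N : Subgroup S) [hN : N.Normal]
    (hidx : N.index = p) : commutator S ≤ N := by
  have hQc : Nat.card (S ⧸ N) = p := by rw [← Subgroup.index_eq_card]; exact hidx
  haveI : IsCyclic (S ⧸ N) := isCyclic_of_prime_card hQc
  letI : CommGroup (S ⧸ N) := IsCyclic.commGroup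
  rw [commutator_def, Subgroup.commutator_le]
  intro a _ b _
  have h2 : (QuotientGroup.mk' N) ⁅a, b⁆ = 1 := by
    rw [map_commutatorElement]
    exact commutatorElement_eq_one_iff_mul_comm.mpr (mul_comm _ _)
  exact (QuotientGroup.eq_one_iff _).mp h2

end

/-- Let S be a finite p-group with an extraspecial subgroup of index p. Then S has order p^(2+2n) for some n ≥ 1, derived length at most 3, and exponent dividing p³. -/
theorem result {S : Type*} [Group S] [Finite S] (p : ℕ) [Fact p.Prime] (hS : IsPGroup p S) (Q : Subgroup S) (hQ : Cfsg.IsExtraspecial p ↥Q) (hQi : Q.index = p) :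
    (∃ n : ℕ, 1 ≤ n ∧ Nat.card S = p ^ (2 + 2 * n)) ∧ derivedSeries S 3 = ⊥ ∧ ∀ x : S, x ^ (p ^ 3) = 1 := by
  have hpp : p.Prime := Fact.out
  haveI hQn : Q.Normal := Cfsg.Agent.S3807.normal_of_index_p hS hQi
  have hZc : Nat.card (center ↥Q) = p := hQ.2
  have hcomm_eq : commutator ↥Q = center ↥Q := hQ.1.2.2
  have hcl : ∀ x y : ↥Q, ⁅x, y⁆ ∈ center ↥Q := by
    intro x y
    rw [← hcomm_eq, commutator_def]
    exact Subgroup.commutator_mem_commutator (Subgroup.mem_top x) (Subgroup.mem_top y)
  have hes : ESProp p ↥Q := ⟨hQ.1.1, hZc, hcl⟩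
  obtain ⟨m, hm⟩ := es_card (Nat.card ↥Q) ↥Q rfl hes
  have hScard : Nat.card S = Nat.card ↥Q * p := by
    rw [← hQi]; exact (Subgroup.card_mul_index Q).symm
  refine ⟨⟨m, ?_, ?_⟩, ?_, ?_⟩
  · -- m ≥ 1
    by_contra hm0
    have hm0' : m = 0 := by omega
    rw [hm0', mul_zero, add_zero, pow_one] at hm
    have htop : center ↥Q = ⊤ := by
      apply Subgroup.eq_top_of_card_eq
      rw [hZc, hm]
    have hbot : commutator ↥Q = ⊥ := by
      rw [eq_bot_iff, commutator_def, Subgroup.commutator_le]
      intro a _ b _
      rw [mem_bot]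
      have hb : b ∈ center ↥Q := htop ▸ Subgroup.mem_top b
      exact commutatorElement_eq_one_iff_mul_comm.mpr ((mem_center_iff.mp hb) a)
    rw [hcomm_eq, htop] at hbot
    have h1 : Nat.card (⊤ : Subgroup ↥Q) = 1 := by rw [hbot, Subgroup.card_bot]
    rw [Subgroup.card_top, hm] at h1
    exact hpp.one_lt.ne' h1
  · rw [hScard, hm]; ring
  · -- derived length
    set ZQ : Subgroup S := Q ⊓ centralizer (Q : Set S) with hZQ
    have hd1 : derivedSeries S 1 ≤ Q := by
      rw [derivedSeries_one]
      exact commutator_le_of_index_prime Q hQi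
    have hQQ : ⁅Q, Q⁆ ≤ ZQ := by
      rw [Subgroup.commutator_le]
      intro a ha b hb
      have h1 := hcl ⟨a, ha⟩ ⟨b, hb⟩
      refine Subgroup.mem_inf.mpr ⟨?_, ?_⟩
      · exact Q.mul_mem (Q.mul_mem (Q.mul_mem ha hb) (Q.inv_mem ha)) (Q.inv_mem hb)
      · rw [mem_centralizer_iff]
        intro k hk
        have := (mem_center_iff.mp h1) ⟨k, hk⟩
        have h2 := congrArg Subtype.val this
        exact h2
    have hd2 : derivedSeries S 2 ≤ ZQ := by
      rw [derivedSeries_succ]
      exact (Subgroup.commutator_mono hd1 hd1).trans hQQ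
    rw [derivedSeries_succ, eq_bot_iff]
    refine (Subgroup.commutator_mono hd2 hd2).trans ?_
    rw [Subgroup.commutator_le]
    intro a ha b hb
    rw [mem_bot]
    apply commutatorElement_eq_one_iff_mul_comm.mpr
    exact ((mem_centralizer_iff.mp (Subgroup.mem_inf.mp hb).2) a (Subgroup.mem_inf.mp ha).1)
  · -- exponent
    intro x
    have hxp : x ^ p ∈ Q := by
      have := Subgroup.pow_index_mem Q x
      rwa [hQi] at this
    set q : ↥Q := ⟨x ^ p, hxp⟩ with hq
    have h2 : ⁅commutator ↥Q, (⊤ : Subgroup ↥Q)⁆ = ⊥ := by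
      rw [hcomm_eq, Subgroup.commutator_eq_bot_iff_le_centralizer]
      intro z hz
      rw [mem_centralizer_iff]
      intro k _
      exact (mem_center_iff.mp hz) k
    have hqp : q ^ p ∈ center ↥Q := by
      rw [mem_center_iff]
      intro g
      have h3 := Cfsg.Agent.lead.commutator_pow_of_class2 h2 g q p
      have h4 : ⁅q, g⁆ ^ p = 1 := by
        have h5 : (⟨⁅q, g⁆, hcl q g⟩ : ↥(center ↥Q)) ^ p = 1 := by
          have h7 : (⟨⁅q, g⁆, hcl q g⟩ : ↥(center ↥Q)) ^ Nat.card ↥(center ↥Q) = 1 :=
            pow_card_eq_one'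
          rwa [hZc] at h7
        have := congrArg Subtype.val h5
        simpa using this
      rw [h4] at h3
      exact (commutatorElement_eq_one_iff_mul_comm.mp h3.symm).symm
    have hqpp : (q ^ p) ^ p = 1 := by
      have h5 : (⟨q ^ p, hqp⟩ : ↥(center ↥Q)) ^ p = 1 := by
        have h7 : (⟨q ^ p, hqp⟩ : ↥(center ↥Q)) ^ Nat.card ↥(center ↥Q) = 1 := pow_card_eq_one'
        rwa [hZc] at h7
      have := congrArg Subtype.val h5
      simpa using this
    have h6 := congrArg Subtype.val hqpp
    simp only [hq, Subgroup.coe_pow, Subgroup.coe_one] at h6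
    rw [← h6, ← pow_mul, ← pow_mul]
    congr 1
    ring

end Cfsg.Agent.S3809
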