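import Cfsg.Statements.S3810
import Mathlib
import Cfsg.Agent.S3807
import Cfsg.Agent.S0129

set_option autoImplicit false
set_option linter.style.haveILetI false
open Cfsg
open scoped commutatorElement

namespace Cfsg.Agent.S3810

open Subgroup

theorem not_comm_of_extraspecial {p : ℕ} [Fact p.Prime] {Q : Type*} [Group Q] [Finite Q]
    (hQ : Cfsg.IsExtraspecial p Q) : ¬ IsMulCommutative Q := by
  intro hc
  have hpp : Nat.Prime p := Fact.out
  obtain ⟨⟨_, _, hcomm⟩, hZ⟩ := hQ
  have h1 : commutator Q = ⊥ := by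
    rw [commutator_def, eq_bot_iff, Subgroup.commutator_le]
    intro a _ b _
    rw [mem_bot]
    exact commutatorElement_eq_one_iff_mul_comm.mpr (hc.is_comm.comm a b)
  rw [← hcomm, h1, Subgroup.card_bot] at hZ
  exact hpp.one_lt.ne hZ

/-- Let S be a finite p-group with an extraspecial subgroup of index p. Then S has an abelian subgroup of index p if and only if S has order p⁴. -/
theorem result {S : Type*} [Group S] [Finite S] (p : ℕ) [Fact p.Prime] (hS : IsPGroup p S) (Q : Subgroup S) (hQ : Cfsg.IsExtraspecial p ↥Q) (hQi : Q.index = p) :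
    (∃ A : Subgroup S, IsMulCommutative ↥A ∧ A.index = p) ↔ Nat.card S = p ^ 4 := by
  have hpp : Nat.Prime p := Fact.out
  have hQna : ¬ IsMulCommutative ↥Q := not_comm_of_extraspecial hQ
  have hZc : Nat.card (center ↥Q) = p := hQ.2
  have hcomm_eq : commutator ↥Q = center ↥Q := hQ.1.2.2
  constructor
  · rintro ⟨A, hA, hAi⟩
    haveI hAn : A.Normal := Cfsg.Agent.S3807.normal_of_index_p hS hAi
    have hrel : A.relIndex Q ∣ p := by
      rw [← hAi]; exact Subgroup.relIndex_dvd_index_of_normal A Q
    have hrel' : (A.subgroupOf Q).index = p := by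
      rcases (Nat.dvd_prime hpp).mp hrel with h1 | h1
      · exfalso
        apply hQna
        have hle : Q ≤ A := Subgroup.relIndex_eq_one.mp h1
        refine ⟨⟨fun a b => ?_⟩⟩
        apply Subtype.ext
        exact Cfsg.Agent.S3807.comm_of_mem hA (hle a.2) (hle b.2)
      · exact h1
    have hAQ : IsMulCommutative ↥(A.subgroupOf Q) := by
      refine ⟨⟨fun a b => ?_⟩⟩
      apply Subtype.ext
      apply Subtype.ext
      exact Cfsg.Agent.S3807.comm_of_mem hA (Subgroup.mem_subgroupOf.mp a.2)
        (Subgroup.mem_subgroupOf.mp b.2)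
    have hkey := Cfsg.Agent.S3807.index_center_and_commutator (hS.to_subgroup Q) hQna
      (A.subgroupOf Q) hAQ hrel'
    rw [hcomm_eq, hZc] at hkey
    have h1 := Subgroup.card_mul_index (center ↥Q)
    rw [hkey, hZc] at h1
    have h2 := Subgroup.card_mul_index Q
    rw [hQi, ← h1] at h2
    rw [← h2]; ring
  · intro hcard
    -- maximal normal abelian subgroup
    let s : Set (Subgroup S) := {B | B.Normal ∧ IsMulCommutative ↥B}
    have hsne : s.Nonempty := by
      refine ⟨⊥, ?_, ?_⟩
      · infer_instance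
      · refine ⟨⟨fun a b => ?_⟩⟩
        apply Subtype.ext
        have ha := Subgroup.mem_bot.mp a.2
        have hb := Subgroup.mem_bot.mp b.2
        simp [ha, hb]
    obtain ⟨A, ⟨hAn, hAab⟩, hAmax⟩ := (Set.toFinite s).exists_maximal hsne
    haveI := hAn
    have hmax : ∀ B : Subgroup S, B.Normal → IsMulCommutative B → A ≤ B → B = A := by
      intro B hBn hBab hle
      exact le_antisymm (hAmax ⟨hBn, hBab⟩ hle) hle
    obtain ⟨a, ha⟩ := IsPGroup.iff_card.mp (hS.to_subgroup A)
    have hle := Cfsg.Agent.S0129.result hS A hAab hmax a ha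
    rw [hcard] at hle
    have h4 : 4 ≤ a * (a + 1) / 2 := (Nat.pow_le_pow_iff_right hpp.one_lt).mp hle
    have ha3 : 3 ≤ a := by
      by_contra hlt
      push Not at hlt
      interval_cases a <;> omega
    have hci := Subgroup.card_mul_index A
    rw [ha, hcard] at hci
    have ha4 : a ≤ 4 := by
      have : p ^ a ∣ p ^ 4 := Dvd.intro _ hci
      exact (Nat.pow_dvd_pow_iff_le_right hpp.one_lt).mp this
    have hane4 : a ≠ 4 := by
      rintro rfl
      have h1 : A.index = 1 := by
        have hpos : 0 < p ^ 4 := pow_pos hpp.pos 4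
        exact Nat.eq_of_mul_eq_mul_left hpos (by rw [hci, mul_one])
      have htop : A = ⊤ := Subgroup.index_eq_one.mp h1
      apply hQna
      refine ⟨⟨fun x y => ?_⟩⟩
      apply Subtype.ext
      exact Cfsg.Agent.S3807.comm_of_mem hAab (htop ▸ Subgroup.mem_top _)
        (htop ▸ Subgroup.mem_top _)
    have ha3' : a = 3 := by omega
    subst ha3'
    refine ⟨A, hAab, ?_⟩
    have hpos : 0 < p ^ 3 := pow_pos hpp.pos 3
    apply Nat.eq_of_mul_eq_mul_left hpos
    rw [hci]; ring

end Cfsg.Agent.S3810
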