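import Cfsg.Statements.S3815
-- import your own Cfsg.Agent.* helpers here

set_option autoImplicit false
open Cfsg

namespace Cfsg.Agent.S3815

/-- Let G be a finite group, p a prime and d ∈ G an element of order prime to p. If dg has order prime to p for every element g ∈ G of order prime to p, then d ∈ O_{p'}(G). -/
theorem result {G : Type*} [Group G] [Finite G] {p : ℕ} [Fact p.Prime]
    (d : G) (hd : (orderOf d).Coprime p)
    (h : ∀ g : G, (orderOf g).Coprime p → (orderOf (d * g)).Coprime p) :
    d ∈ Cfsg.pPrimeCore p G := by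
  classical
  let S : Set G := {x | ∀ g : G, (orderOf g).Coprime p → (orderOf (x * g)).Coprime p}
  have hone : (1 : G) ∈ S := by
    intro g hg; simpa using hg
  have hmul : ∀ x y : G, x ∈ S → y ∈ S → x * y ∈ S := by
    intro x y hx hy g hg
    rw [mul_assoc]
    exact hx _ (hy _ hg)
  have hpow : ∀ (x : G) (n : ℕ), x ∈ S → x ^ n ∈ S := by
    intro x n hx
    induction n with
    | zero => simpa using hone
    | succ k ih => rw [pow_succ]; exact hmul _ _ ih hx
  have hinv : ∀ x : G, x ∈ S → x⁻¹ ∈ S := by
    intro x hx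
    have hpos : 0 < orderOf x := orderOf_pos x
    have : x⁻¹ = x ^ (orderOf x - 1) := by
      rw [inv_eq_iff_mul_eq_one, ← pow_succ', Nat.sub_add_cancel hpos, pow_orderOf_eq_one]
    rw [this]
    exact hpow x _ hx
  let D : Subgroup G :=
    { carrier := S
      mul_mem' := fun {a b} ha hb => hmul a b ha hb
      one_mem' := hone
      inv_mem' := fun {a} ha => hinv a ha }
  have hDmem : ∀ x : G, x ∈ D ↔ x ∈ S := fun x => Iff.rfl
  have hnormal : D.Normal := by
    constructor
    intro x hx n g hg
    have hx' : x ∈ S := hx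
    have e : n * x * n⁻¹ * g = (MulAut.conj n) (x * (n⁻¹ * g * n)) := by
      simp [MulAut.conj_apply, mul_assoc]
    rw [e, MulEquiv.orderOf_eq]
    apply hx'
    have e2 : n⁻¹ * g * n = (MulAut.conj n⁻¹) g := by
      simp [MulAut.conj_apply]
    rw [e2, MulEquiv.orderOf_eq]
    exact hg
  have hcop : (Nat.card D).Coprime p := by
    rw [Nat.coprime_comm, Nat.Prime.coprime_iff_not_dvd (Fact.out : p.Prime)]
    intro hdvd
    obtain ⟨x, hx⟩ := exists_prime_orderOf_dvd_card' p hdvd
    have hxS : (x : G) ∈ S := x.2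
    have h1 := hxS 1 (by simp)
    rw [mul_one, Subgroup.orderOf_coe, hx] at h1
    exact (Nat.Prime.one_lt (Fact.out : p.Prime)).ne' (by simpa using h1)
  have hdD : d ∈ D := h
  have hle : D ≤ Cfsg.pPrimeCore p G := by
    unfold Cfsg.pPrimeCore
    exact le_sSup ⟨hnormal, hcop⟩
  exact hle hdD

end Cfsg.Agent.S3815
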