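import Cfsg.Statements.S3820
-- import your own Cfsg.Agent.* helpers here

set_option autoImplicit false
open Cfsg

namespace Cfsg.Agent.S3820

/-- Call a subgroup H of G pronormal if H and gHg⁻¹ are conjugate inside ⟨H, gHg⁻¹⟩ for every g ∈ G. Let S ≤ H ≤ G be subgroups of a finite group with S pronormal in G (for instance S a Sylow subgroup). Then H is pronormal in G if and only if H and gHg⁻¹ are conjugate inside ⟨H, gHg⁻¹⟩ for every g ∈ N_G(S). In particular H is pronormal whenever N_G(S) ≤ H. -/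
theorem result {G : Type*} [Group G] [Finite G] (S H : Subgroup G) (hSH : S ≤ H)
    (hS : Cfsg.IsPronormal S) :
    Cfsg.IsPronormal H ↔
      ∀ g ∈ Subgroup.normalizer (S : Set G), ∃ w ∈ H ⊔ H.map (MulAut.conj g).toMonoidHom,
        H.map (MulAut.conj g).toMonoidHom = H.map (MulAut.conj w).toMonoidHom := by
  have memconj : ∀ (K : Subgroup G) (g y : G), y ∈ K.map (MulAut.conj g).toMonoidHom ↔ g⁻¹ * y * g ∈ K := by
    intro K g y
    constructor
    · rintro ⟨k, hk, rfl⟩
      simpa [MulAut.conj_apply, mul_assoc] using hk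
    · intro h
      exact ⟨g⁻¹ * y * g, h, by simp [MulAut.conj_apply, mul_assoc]⟩
  constructor
  · intro h g _
    exact h g
  · intro hyp g
    obtain ⟨x, hx, hxeq⟩ := hS g
    have hxeq' : ∀ y, g⁻¹ * y * g ∈ S ↔ x⁻¹ * y * x ∈ S := by
      intro y
      rw [← memconj S g y, ← memconj S x y, hxeq]
    have hn : x⁻¹ * g ∈ Subgroup.normalizer (S : Set G) := by
      rw [Subgroup.mem_normalizer_iff'']
      intro h
      have := hxeq' (x * h * x⁻¹)
      have e1 : x⁻¹ * (x * h * x⁻¹) * x = h := by group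
      have e2 : (x⁻¹ * g)⁻¹ * h * (x⁻¹ * g) = g⁻¹ * (x * h * x⁻¹) * g := by group
      rw [e1] at this
      rw [e2]
      exact this.symm
    obtain ⟨w, hw, hweq⟩ := hyp _ hn
    have hweq' : ∀ y, (x⁻¹ * g)⁻¹ * y * (x⁻¹ * g) ∈ H ↔ w⁻¹ * y * w ∈ H := by
      intro y
      rw [← memconj H (x⁻¹ * g) y, ← memconj H w y, hweq]
    have hxJ : x ∈ H ⊔ H.map (MulAut.conj g).toMonoidHom :=
      (sup_le_sup hSH (Subgroup.map_mono hSH)) hx
    have hwJ : w ∈ H ⊔ H.map (MulAut.conj g).toMonoidHom := by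
      have hle : H ⊔ H.map (MulAut.conj (x⁻¹ * g)).toMonoidHom ≤ H ⊔ H.map (MulAut.conj g).toMonoidHom := by
        apply sup_le le_sup_left
        intro y hy
        rw [memconj] at hy
        have h1 : x * y * x⁻¹ ∈ H.map (MulAut.conj g).toMonoidHom := by
          rw [memconj]
          have e : g⁻¹ * (x * y * x⁻¹) * g = (x⁻¹ * g)⁻¹ * y * (x⁻¹ * g) := by group
          rw [e]; exact hy
        have h2 : x * y * x⁻¹ ∈ H ⊔ H.map (MulAut.conj g).toMonoidHom := le_sup_right (a := H) h1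
        have e : y = x⁻¹ * (x * y * x⁻¹) * x := by group
        rw [e]
        exact Subgroup.mul_mem _ (Subgroup.mul_mem _ (Subgroup.inv_mem _ hxJ) h2) hxJ
      exact hle hw
    refine ⟨x * w, Subgroup.mul_mem _ hxJ hwJ, ?_⟩
    ext y
    rw [memconj, memconj]
    have e1 : (x * w)⁻¹ * y * (x * w) = w⁻¹ * (x⁻¹ * y * x) * w := by group
    rw [e1, ← hweq' (x⁻¹ * y * x)]
    have e2 : (x⁻¹ * g)⁻¹ * (x⁻¹ * y * x) * (x⁻¹ * g) = g⁻¹ * y * g := by group
    rw [e2]

end Cfsg.Agent.S3820
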