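import Cfsg.Statements.S3821
-- import your own Cfsg.Agent.* helpers here

set_option autoImplicit false
open Cfsg

namespace Cfsg.Agent.S3821

theorem memconj {T : Type*} [Group T] (K : Subgroup T) (g y : T) :
    y ∈ K.map (MulAut.conj g).toMonoidHom ↔ g⁻¹ * y * g ∈ K := by
  constructor
  · rintro ⟨k, hk, rfl⟩
    simpa [MulAut.conj_apply, mul_assoc] using hk
  · intro h
    exact ⟨g⁻¹ * y * g, h, by simp [MulAut.conj_apply, mul_assoc]⟩

theorem mapsub {G : Type*} [Group G] (A H : Subgroup G) (hHA : H ≤ A) (a : A) :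
    ((H.subgroupOf A).map (MulAut.conj a).toMonoidHom).map A.subtype =
      H.map (MulAut.conj (a : G)).toMonoidHom := by
  ext y
  constructor
  · rintro ⟨z, hz, rfl⟩
    have hz' := (memconj _ _ _).mp hz
    rw [memconj]
    rw [Subgroup.mem_subgroupOf] at hz'
    simpa using hz'
  · intro hy
    rw [memconj] at hy
    have hyA : y ∈ A := by
      have e : y = (a : G) * ((a : G)⁻¹ * y * a) * (a : G)⁻¹ := by group
      rw [e]
      exact A.mul_mem (A.mul_mem a.2 (hHA hy)) (A.inv_mem a.2)
    refine ⟨⟨y, hyA⟩, ?_, rfl⟩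
    apply (memconj _ _ _).mpr
    rw [Subgroup.mem_subgroupOf]
    simpa using hy

theorem map_subgroupOf_eq {G : Type*} [Group G] (A H : Subgroup G) (hHA : H ≤ A) :
    (H.subgroupOf A).map A.subtype = H := by
  rw [Subgroup.map_subgroupOf_eq_of_le hHA]


/-- Let A be a normal subgroup of the finite group G and H a subgroup of A. Then H is pronormal in G (H and gHg⁻¹ conjugate inside ⟨H, gHg⁻¹⟩ for every g ∈ G) if and only if H is pronormal in A and G = A · N_G(H). -/
theorem result {G : Type*} [Group G] [Finite G] (A H : Subgroup G) [A.Normal] (hHA : H ≤ A) :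
    Cfsg.IsPronormal H ↔ (Cfsg.IsPronormal (H.subgroupOf A) ∧ A ⊔ Subgroup.normalizer (H : Set G) = ⊤) := by
  have hsupmap : ∀ a : A, ((H.subgroupOf A) ⊔ (H.subgroupOf A).map (MulAut.conj a).toMonoidHom).map A.subtype
      = H ⊔ H.map (MulAut.conj (a : G)).toMonoidHom := by
    intro a
    rw [Subgroup.map_sup, mapsub A H hHA a, map_subgroupOf_eq A H hHA]
  have hconjA : ∀ g : G, H.map (MulAut.conj g).toMonoidHom ≤ A := by
    intro g y hy
    rw [memconj] at hy
    have e : y = g * (g⁻¹ * y * g) * g⁻¹ := by group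
    rw [e]
    exact ‹A.Normal›.conj_mem _ (hHA hy) g
  constructor
  · intro hH
    constructor
    · intro a
      obtain ⟨x, hx, hxeq⟩ := hH (a : G)
      rw [← hsupmap a] at hx
      obtain ⟨x', hx', rfl⟩ := hx
      refine ⟨x', hx', ?_⟩
      apply Subgroup.map_injective A.subtype_injective
      rw [mapsub A H hHA a, mapsub A H hHA x']
      exact hxeq
    · rw [eq_top_iff]
      intro g _
      obtain ⟨x, hx, hxeq⟩ := hH g
      have hxA : x ∈ A := (sup_le hHA (hconjA g)) hx
      have hn : x⁻¹ * g ∈ Subgroup.normalizer (H : Set G) := by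
        rw [Subgroup.mem_normalizer_iff'']
        intro h
        have h1 := memconj H g (x * h * x⁻¹)
        have h2 := memconj H x (x * h * x⁻¹)
        rw [hxeq] at h1
        have e1 : x⁻¹ * (x * h * x⁻¹) * x = h := by group
        have e2 : (x⁻¹ * g)⁻¹ * h * (x⁻¹ * g) = g⁻¹ * (x * h * x⁻¹) * g := by group
        rw [e1] at h2
        rw [e2, ← h2, h1]
      have e : g = x * (x⁻¹ * g) := by group
      rw [e]
      exact Subgroup.mul_mem _ (le_sup_left (a := A) hxA) (le_sup_right (a := A) hn)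
  · rintro ⟨hHA', htop⟩ g
    have hg : g ∈ A ⊔ Subgroup.normalizer (H : Set G) := by rw [htop]; trivial
    obtain ⟨a, ha, n, hn, rfl⟩ := Subgroup.mem_sup_of_normal_left.mp hg
    have hn' : n ∈ Subgroup.normalizer (H : Set G) := hn
    rw [Subgroup.mem_normalizer_iff''] at hn'
    have heq : H.map (MulAut.conj (a * n)).toMonoidHom = H.map (MulAut.conj a).toMonoidHom := by
      ext y
      rw [memconj, memconj]
      have e : (a * n)⁻¹ * y * (a * n) = n⁻¹ * (a⁻¹ * y * a) * n := by group
      rw [e]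
      exact (hn' _).symm
    obtain ⟨x', hx', hxeq⟩ := hHA' ⟨a, ha⟩
    refine ⟨(x' : G), ?_, ?_⟩
    · rw [heq]
      have := hsupmap ⟨a, ha⟩
      simp only at this
      rw [← this]
      exact ⟨x', hx', rfl⟩
    · rw [heq]
      have h1 := mapsub A H hHA ⟨a, ha⟩
      have h2 := mapsub A H hHA x'
      simp only at h1
      rw [← h1, ← h2, hxeq]

end Cfsg.Agent.S3821
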