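import Cfsg.Statements.S3824
import Mathlib
import Cfsg.Agent.S0143
import Cfsg.Agent.Lib_helper19_Sylow

set_option autoImplicit false
open Cfsg

namespace Cfsg.Agent.S3824

/-- `G` has an abelian subgroup of `2`-power index. -/
def HasA (G : Type*) [Group G] : Prop :=
  ∃ D : Subgroup G, (∀ a ∈ D, ∀ b ∈ D, a * b = b * a) ∧ ∃ k : ℕ, D.index = 2 ^ k

theorem pow_of_dvd_two_pow {a k : ℕ} (h : a ∣ 2 ^ k) : ∃ j : ℕ, a = 2 ^ j := by
  obtain ⟨j, _, hj⟩ := (Nat.dvd_prime_pow Nat.prime_two).mp h
  exact ⟨j, hj⟩

theorem HasA.quotient {G : Type*} [Group G] [Finite G] (h : HasA G) (N : Subgroup G) [N.Normal] :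
    HasA (G ⧸ N) := by
  obtain ⟨D, hab, k, hk⟩ := h
  refine ⟨D.map (QuotientGroup.mk' N), ?_, ?_⟩
  · rintro _ ⟨a, ha, rfl⟩ _ ⟨b, hb, rfl⟩
    rw [← map_mul, ← map_mul, hab a ha b hb]
  · have h1 := Subgroup.index_map_dvd D (QuotientGroup.mk'_surjective N)
    rw [hk] at h1
    exact pow_of_dvd_two_pow h1

theorem HasA.normal {G : Type*} [Group G] [Finite G] (h : HasA G) (N : Subgroup G) [N.Normal] :
    HasA ↥N := by
  obtain ⟨D, hab, k, hk⟩ := h
  refine ⟨D.subgroupOf N, ?_, ?_⟩
  · intro a ha b hb
    apply Subtype.ext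
    exact hab a.1 (Subgroup.mem_subgroupOf.mp ha) b.1 (Subgroup.mem_subgroupOf.mp hb)
  · have h1 : (D.subgroupOf N).index = D.relIndex N := rfl
    have h2 : D.relIndex N = D.relIndex (D ⊔ N) := by
      rw [← Subgroup.inf_relIndex_right]
      exact Cfsg.Agent.helper19.relIndex_inf_normal D N
    have h3 : D.relIndex (D ⊔ N) ∣ D.index := Subgroup.relIndex_dvd_index_of_le le_sup_left
    rw [h1, h2]
    rw [hk] at h3
    exact pow_of_dvd_two_pow h3

theorem solvable_of_hasA.{u} : ∀ (n : ℕ) (G : Type u) [Group G] [Finite G], Nat.card G = n →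
    HasA G → Group.IsSolvable G := by
  intro n
  induction n using Nat.strong_induction_on with
  | _ n ih =>
    intro G _ _ hcard h
    by_cases hsimple : ∃ N : Subgroup G, N.Normal ∧ N ≠ ⊥ ∧ N ≠ ⊤
    · obtain ⟨N, hN, hbot, htop⟩ := hsimple
      have hNcard : 1 < Nat.card N := by
        rw [Subgroup.one_lt_card_iff_ne_bot]; exact hbot
      have hNidx : 1 < N.index := by
        have h1 : N.index ≠ 1 := fun e => htop (Subgroup.index_eq_one.mp e)
        have h0 : N.index ≠ 0 := Subgroup.index_ne_zero_of_finite
        omega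
      have hmul := Subgroup.card_mul_index N
      have hlt1 : Nat.card N < n := by
        rw [← hcard, ← hmul]
        calc Nat.card N = Nat.card N * 1 := (mul_one _).symm
          _ < Nat.card N * N.index := Nat.mul_lt_mul_of_pos_left hNidx (by omega)
      have hlt2 : Nat.card (G ⧸ N) < n := by
        rw [← hcard, ← hmul]
        show N.index < _
        calc N.index = 1 * N.index := (one_mul _).symm
          _ < Nat.card N * N.index := Nat.mul_lt_mul_of_pos_right hNcard (by omega)
      have h1 : Group.IsSolvable ↥N := ih _ hlt1 ↥N rfl (h.normal N)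
      have h2 : Group.IsSolvable (G ⧸ N) := ih _ hlt2 (G ⧸ N) rfl (h.quotient N)
      exact (Group.isSolvable_iff_subgroup_quotient N).mpr ⟨h1, h2⟩
    · push Not at hsimple
      by_cases htriv : Subsingleton G
      · infer_instance
      · have hnt : Nontrivial G := not_subsingleton_iff_nontrivial.mp htriv
        have hS : IsSimpleGroup G := by
          refine ⟨fun N hN => ?_⟩
          by_contra hne
          push Not at hne
          exact hne.2 (hsimple N hN hne.1)
        obtain ⟨D, hab, k, hk⟩ := h
        by_cases hD : D = ⊥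
        · have hc : Nat.card G = 2 ^ k := by
            rw [← Subgroup.card_mul_index D, hD, Subgroup.card_bot, one_mul, ← hD, hk]
          have : Fact (Nat.Prime 2) := ⟨Nat.prime_two⟩
          have hP : IsPGroup 2 G := IsPGroup.of_card hc
          have : Group.IsNilpotent G := hP.isNilpotent
          infer_instance
        · obtain ⟨c, hc1⟩ := (Subgroup.ne_bot_iff_exists_ne_one.mp hD)
          have hc1' : (c : G) ≠ 1 := fun e => hc1 (Subtype.ext e)
          have hle : D ≤ Subgroup.centralizer ({(c : G)} : Set G) := by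
            intro d hd
            rw [Subgroup.mem_centralizer_iff]
            intro y hy
            rw [Set.mem_singleton_iff] at hy
            rw [hy]
            exact hab _ c.2 d hd
          have hidx := Subgroup.index_dvd_of_le hle
          rw [hk] at hidx
          obtain ⟨j, hj⟩ := pow_of_dvd_two_pow hidx
          have hprime := Cfsg.Agent.S0143.result 2 j Nat.prime_two (c : G) hc1' hj
          have : Fact (Nat.card G).Prime := ⟨hprime⟩
          have hcyc : IsCyclic G := isCyclic_of_prime_card rfl
          have hcm := IsCyclic.isMulCommutative (α := G)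
          exact Group.isSolvable_of_comm (fun a b => hcm.is_comm.comm a b)

/-- Every finite group having an abelian subgroup whose index is a power of 2 is solvable. -/
theorem result {G : Type*} [Group G] [Finite G]
    (A : Subgroup G) (hA : IsMulCommutative A) (hidx : ∃ k : ℕ, A.index = 2 ^ k) : Group.IsSolvable G := by
  apply solvable_of_hasA _ G rfl
  refine ⟨A, ?_, hidx⟩
  intro a ha b hb
  exact congrArg Subtype.val (hA.is_comm.comm (⟨a, ha⟩ : ↥A) ⟨b, hb⟩)

end Cfsg.Agent.S3824
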