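import Mathlib
import Cfsg.Statements.S3835
import Cfsg.Agent.S2231
import Cfsg.Agent.Lib_helper25_QdAlt1
import Cfsg.Agent.Lib_helper25_QdAlt2
import Cfsg.Agent.Lib_helper25_QdAlt3

set_option autoImplicit false
set_option linter.style.haveILetI false
open Cfsg

namespace Cfsg.Agent.S3835

theorem alt_allPSubAbelian {p : ℕ} [Fact p.Prime] (n : ℕ) (hn : n < p ^ 2) :
    S2231.AllPSubAbelian p ↥(alternatingGroup (Fin n)) := by
  have hPerm : S2231.AllPSubAbelian p (Equiv.Perm (Fin n)) := by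
    intro P hP x hx y hy
    exact helper25.comm_of_pgroup_perm_lt_sq (by simpa using hn) P hP x hx y hy
  exact S2231.allPSubAbelian_subgroup (alternatingGroup (Fin n)) hPerm

theorem exists_embedding {p : ℕ} [Fact p.Prime] (hp : p ≠ 2) (n : ℕ) (hn : p ^ 2 ≤ n) :
    ∃ H : Subgroup (alternatingGroup (Fin n)), Nonempty (↥H ≃* ↥(Cfsg.qd p)) := by
  classical
  have hcard : Fintype.card (ZMod p × ZMod p) = p ^ 2 := by
    rw [Fintype.card_prod, ZMod.card, pow_two]
  let e₁ : ZMod p × ZMod p ≃ Fin (p ^ 2) := Fintype.equivFinOfCardEq hcard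
  let ι : ZMod p × ZMod p ↪ Fin n := e₁.toEmbedding.trans (Fin.castLEEmb hn)
  let ψ : ↥(Cfsg.qd p) →* Equiv.Perm (Fin n) :=
    (Equiv.Perm.viaEmbeddingHom ι).comp (helper25.qdPermHom p)
  have hψ : Function.Injective ψ :=
    (Equiv.Perm.viaEmbeddingHom_injective ι).comp helper25.qdPermHom_injective
  have hsign : ∀ g : ↥(Cfsg.qd p), ψ g ∈ alternatingGroup (Fin n) := by
    intro g
    rw [Equiv.Perm.mem_alternatingGroup]
    exact helper25.qd_hom_units_trivial hp (Equiv.Perm.sign.comp ψ) g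
  let ψ' : ↥(Cfsg.qd p) →* ↥(alternatingGroup (Fin n)) :=
    ψ.codRestrict (alternatingGroup (Fin n)) hsign
  have hψ' : Function.Injective ψ' := (MonoidHom.injective_codRestrict _ _ _).mpr hψ
  exact ⟨ψ'.range, ⟨(MonoidHom.ofInjective hψ').symm⟩⟩

/-- Let p be an odd prime and n a natural number. The alternating group of degree n has a subgroup isomorphic to Qd(p) (the natural semidirect product of an elementary abelian group of order p² by SL₂(p)) if and only if n ≥ p²; and if n < p² then Qd(p) is not even involved in it. -/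
theorem result {p : ℕ} [Fact p.Prime] (hp : p ≠ 2) (n : ℕ) : ((∃ H : Subgroup (alternatingGroup (Fin n)), Nonempty (↥H ≃* ↥(Cfsg.qd p))) ↔ p ^ 2 ≤ n) ∧ (n < p ^ 2 → ¬ Cfsg.Involves ↥(Cfsg.qd p) ↥(alternatingGroup (Fin n))) := by
  refine ⟨⟨?_, exists_embedding hp n⟩, ?_⟩
  · rintro ⟨H, ⟨e⟩⟩
    by_contra hn
    push Not at hn
    have h1 := S2231.allPSubAbelian_subgroup H (alt_allPSubAbelian (p := p) n hn)
    have h2 := S2231.allPSubAbelian_of_surjective e.toMonoidHom e.surjective h1
    exact S2231.qd_not_allPSubAbelian hp h2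
  · intro hn h
    exact S2231.qd_not_allPSubAbelian hp
      (S2231.allPSubAbelian_of_involves (alt_allPSubAbelian (p := p) n hn) h)

end Cfsg.Agent.S3835
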