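import Cfsg.Statements.S3836
-- import your own Cfsg.Agent.* helpers here
import Mathlib
import Cfsg.Agent.Lib_helper7_Fitting

set_option autoImplicit false
open Cfsg

namespace Cfsg.Agent.S3836

/-- Let G be a finite group that is p-stable in the normalizer form: for every p-subgroup Q and every x ∈ N_G(Q) with [Q, x, x] = 1, the image of x in N_G(Q)/C_G(Q) lies in O_p(N_G(Q)/C_G(Q)). Then every subgroup of G is p-stable in the same sense. -/
theorem result {G : Type*} [Group G] [Finite G] {p : ℕ} [Fact p.Prime] (hst : Cfsg.IsNormalizerPStable p G) (H : Subgroup G) : Cfsg.IsNormalizerPStable p ↥H := by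
  classical
  have hp : p.Prime := Fact.out
  intro Q hQ x hx hcomm
  -- transfer to `G`
  set P : Subgroup G := Q.map H.subtype with hPdef
  have hP : IsPGroup p P := hQ.map H.subtype
  have hg : (x : G) ∈ Subgroup.normalizer (P : Set G) := by
    have h1 : (Subgroup.normalizer (Q : Set ↥H)).map H.subtype ≤
        Subgroup.normalizer ((Q.map H.subtype : Subgroup G) : Set G) := Subgroup.le_normalizer_map _
    exact h1 ⟨x, hx, rfl⟩
  have hcomm' : ⁅⁅P, Subgroup.zpowers (x : G)⁆, Subgroup.zpowers (x : G)⁆ = ⊥ := by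
    have hz : Subgroup.zpowers (x : G) = (Subgroup.zpowers x).map H.subtype := by
      rw [MonoidHom.map_zpowers]; rfl
    rw [hz, hPdef, ← Subgroup.map_commutator, ← Subgroup.map_commutator, hcomm, Subgroup.map_bot]
  have key := hst P hP (x : G) hg hcomm'
  -- the comparison map
  set NH := Subgroup.normalizer (Q : Set ↥H) with hNH
  set NG := Subgroup.normalizer (P : Set G) with hNG
  set CH := (Subgroup.centralizer (Q : Set ↥H)).subgroupOf NH with hCH
  set CG := (Subgroup.centralizer (P : Set G)).subgroupOf NG with hCG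
  have hmem : ∀ y : ↥NH, ((y : ↥H) : G) ∈ NG := by
    intro y
    have h1 : NH.map H.subtype ≤ NG := Subgroup.le_normalizer_map _
    exact h1 ⟨y, y.2, rfl⟩
  let φ : ↥NH →* ↥NG :=
    { toFun := fun y => ⟨((y : ↥H) : G), hmem y⟩
      map_one' := rfl
      map_mul' := fun _ _ => rfl }
  have hcomap : CG.comap φ = CH := by
    ext y
    rw [Subgroup.mem_comap, hCG, hCH, Subgroup.mem_subgroupOf, Subgroup.mem_subgroupOf,
      Subgroup.mem_centralizer_iff, Subgroup.mem_centralizer_iff]
    constructor
    · intro h q hq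
      have := h (q : G) ⟨q, hq, rfl⟩
      exact Subtype.ext this
    · rintro h _ ⟨q, hq, rfl⟩
      have := h q hq
      exact congrArg Subtype.val this
  have hle : CH ≤ CG.comap φ := hcomap.ge
  set ψ := QuotientGroup.map CH CG φ hle with hψ
  have hinj : Function.Injective ψ := by
    rw [← MonoidHom.ker_eq_bot_iff, hψ, QuotientGroup.ker_map, hcomap]
    exact QuotientGroup.map_mk'_self CH
  -- pull back the `p`-core
  set O := Cfsg.pCore p (↥NG ⧸ CG) with hO
  have hOp : IsPGroup p O := by
    rw [hO, Cfsg.Agent.helper7.pCore_eq hp, Cfsg.Agent.helper7.isPGroup_iff_piGrp hp]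
    exact Cfsg.Agent.helper7.piCoreIn_piGrp {p} ⊤
  have hOn : O.Normal := by rw [hO]; infer_instance
  have hcomapO : IsPGroup p (O.comap ψ) := hOp.comap_of_injective ψ hinj
  have hcomapOn : (O.comap ψ).Normal := hOn.comap ψ
  have hfinal : O.comap ψ ≤ Cfsg.pCore p (↥NH ⧸ CH) := le_sSup ⟨hcomapOn, hcomapO⟩
  apply hfinal
  rw [Subgroup.mem_comap]
  exact key

end Cfsg.Agent.S3836
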