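import Cfsg.Statements.S3839
import Cfsg.Agent.Lib_helper15_AG6
import Cfsg.Agent.Lib_helper10_NPC
import Cfsg.Agent.Lib_helper7_Cores
import Cfsg.Agent.Lib_helper25_ExtMod
import Cfsg.Agent.Lib_helper15_FunReg2

set_option autoImplicit false
open Cfsg

namespace Cfsg.Agent.S3839
open Cfsg.Agent.helper15 Cfsg.Agent.helper10 Cfsg.Agent.lead

theorem pPrimePCore_eq_top_of_npc {A : Type*} [Group A] [Finite A] {p : ℕ} [hp : Fact p.Prime]
    (h : Cfsg.HasNormalPComplement p A) : Cfsg.pPrimePCore p A = ⊤ := by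
  obtain ⟨S, K, hKn, hKS⟩ := h
  have hcop := card_coprime_of_isComplement' S K hKS
  have hK : K ≤ Cfsg.pPrimeCore p A := Cfsg.Agent.helper1.le_pPrimeCore hKn hcop
  obtain ⟨n, hn⟩ := IsPGroup.iff_card.mp S.isPGroup'
  rw [eq_top_iff]
  apply le_pPrimePCore_of_image ⊤ inferInstance
  intro v _
  refine ⟨n, hK ?_⟩
  haveI := hKn
  have hcard : Nat.card (A ⧸ K) = p ^ n := by
    rw [← hn]; exact hKS.symm.index_eq_card
  have h1 : ((v : A ⧸ K)) ^ (p ^ n) = 1 := by
    rw [← hcard]; exact pow_card_eq_one'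
  rw [← QuotientGroup.mk_pow, QuotientGroup.eq_one_iff] at h1
  exact h1

theorem exists_pow_mem_pPrimeCore {A : Type*} [Group A] [Finite A] {p : ℕ} [hp : Fact p.Prime]
    (x : A) (hx : x ∈ Cfsg.pPrimePCore p A) : ∃ i : ℕ, x ^ (p ^ i) ∈ Cfsg.pPrimeCore p A := by
  haveI : (Cfsg.pPrimeCore p A).Normal := Cfsg.Agent.helper1.pPrimeCore_normal p
  have hx' : (QuotientGroup.mk' (Cfsg.pPrimeCore p A)) x ∈
      Cfsg.pCore p (A ⧸ Cfsg.pPrimeCore p A) := hx
  have hp' : IsPGroup p ↥(Cfsg.pCore p (A ⧸ Cfsg.pPrimeCore p A)) :=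
    Cfsg.Agent.helper1.pCore_isPGroup p
  obtain ⟨i, hi⟩ := hp' ⟨_, hx'⟩
  refine ⟨i, ?_⟩
  have h1 : ((QuotientGroup.mk' (Cfsg.pPrimeCore p A)) x) ^ (p ^ i) = 1 := by
    have := congrArg Subtype.val hi
    simpa using this
  rw [← map_pow] at h1
  exact (QuotientGroup.eq_one_iff _).1 h1

theorem le_normalizer_of_conj_closed {G : Type*} [Group G] (A K : Subgroup G)
    (h : ∀ g ∈ A, ∀ x ∈ K, g * x * g⁻¹ ∈ K) : A ≤ Subgroup.normalizer (K : Set G) := by
  intro g hg
  rw [Subgroup.mem_normalizer_iff]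
  intro x
  constructor
  · exact h g hg x
  · intro hx
    have := h g⁻¹ (inv_mem hg) _ hx
    have e : g⁻¹ * (g * x * g⁻¹) * g⁻¹⁻¹ = x := by group
    rwa [e] at this

/-- The stabilizer in `N(H)` of the chain `1 ≤ U ≤ H`. -/
def chainStab {G : Type*} [Group G] (H U : Subgroup G) :
    Subgroup ↥(Subgroup.normalizer (H : Set G)) where
  carrier := {a | (∀ h ∈ H, (a : G) * h * (a : G)⁻¹ * h⁻¹ ∈ U) ∧
    ∀ u ∈ U, (a : G) * u * (a : G)⁻¹ = u}
  mul_mem' := by
    rintro a b ⟨ha1, ha2⟩ ⟨hb1, hb2⟩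
    refine ⟨fun h hh => ?_, fun u hu => ?_⟩
    · have h1 := hb1 h hh
      have h2 := ha1 h hh
      have h3 := ha2 _ h1
      have e : ((a * b : ↥(Subgroup.normalizer (H : Set G))) : G) * h *
          ((a * b : ↥(Subgroup.normalizer (H : Set G))) : G)⁻¹ * h⁻¹ =
          ((a : G) * ((b : G) * h * (b : G)⁻¹ * h⁻¹) * (a : G)⁻¹) *
            ((a : G) * h * (a : G)⁻¹ * h⁻¹) := by
        simp only [Subgroup.coe_mul]; group
      rw [e, h3]
      exact mul_mem h1 h2
    · have e : ((a * b : ↥(Subgroup.normalizer (H : Set G))) : G) * u *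
          ((a * b : ↥(Subgroup.normalizer (H : Set G))) : G)⁻¹ =
          (a : G) * ((b : G) * u * (b : G)⁻¹) * (a : G)⁻¹ := by
        simp only [Subgroup.coe_mul]; group
      rw [e, hb2 u hu, ha2 u hu]
  one_mem' := by
    refine ⟨fun h hh => ?_, fun u hu => ?_⟩
    · simp
    · simp
  inv_mem' := by
    rintro a ⟨ha1, ha2⟩
    refine ⟨fun h hh => ?_, fun u hu => ?_⟩
    · have hh' : (a : G)⁻¹ * h * (a : G) ∈ H := by
        have := (Subgroup.mem_normalizer_iff.1 (inv_mem a.2) h).1 hh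
        simpa using this
      have h1 := ha1 _ hh'
      have e : ((a⁻¹ : ↥(Subgroup.normalizer (H : Set G))) : G) * h *
          ((a⁻¹ : ↥(Subgroup.normalizer (H : Set G))) : G)⁻¹ * h⁻¹ =
          ((a : G) * ((a : G)⁻¹ * h * (a : G)) * (a : G)⁻¹ *
            ((a : G)⁻¹ * h * (a : G))⁻¹)⁻¹ := by
        simp only [Subgroup.coe_inv]; group
      rw [e]; exact inv_mem h1
    · have h2 := ha2 u hu
      have e : (a : G)⁻¹ * ((a : G) * u * (a : G)⁻¹) * (a : G) = u := by group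
      rw [h2] at e
      simpa using e

theorem mem_chainStab {G : Type*} [Group G] (H U : Subgroup G)
    (a : ↥(Subgroup.normalizer (H : Set G))) :
    a ∈ chainStab H U ↔ (∀ h ∈ H, (a : G) * h * (a : G)⁻¹ * h⁻¹ ∈ U) ∧
      ∀ u ∈ U, (a : G) * u * (a : G)⁻¹ = u := Iff.rfl

theorem chainStab_normal {G : Type*} [Group G] (H U : Subgroup G)
    (hconjU : ∀ g ∈ Subgroup.normalizer (H : Set G), ∀ x ∈ U, g * x * g⁻¹ ∈ U) :
    (chainStab H U).Normal := by
  refine ⟨fun a ha n => ?_⟩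
  obtain ⟨ha1, ha2⟩ := ha
  rw [mem_chainStab]
  refine ⟨fun h hh => ?_, fun u hu => ?_⟩
  · have hh' : (n : G)⁻¹ * h * (n : G) ∈ H := by
      have := (Subgroup.mem_normalizer_iff.1 (inv_mem n.2) h).1 hh
      simpa using this
    have h1 := ha1 _ hh'
    have h2 := hconjU (n : G) n.2 _ h1
    have e : ((n * a * n⁻¹ : ↥(Subgroup.normalizer (H : Set G))) : G) * h *
        ((n * a * n⁻¹ : ↥(Subgroup.normalizer (H : Set G))) : G)⁻¹ * h⁻¹ =
        (n : G) * ((a : G) * ((n : G)⁻¹ * h * (n : G)) * (a : G)⁻¹ *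
          ((n : G)⁻¹ * h * (n : G))⁻¹) * (n : G)⁻¹ := by
      simp only [Subgroup.coe_mul, Subgroup.coe_inv]; group
    rw [e]; exact h2
  · have hu' : (n : G)⁻¹ * u * (n : G) ∈ U := by
      have := hconjU (n : G)⁻¹ (inv_mem n.2) u hu
      simpa using this
    have h1 := ha2 _ hu'
    have e : ((n * a * n⁻¹ : ↥(Subgroup.normalizer (H : Set G))) : G) * u *
        ((n * a * n⁻¹ : ↥(Subgroup.normalizer (H : Set G))) : G)⁻¹ =
        (n : G) * ((a : G) * ((n : G)⁻¹ * u * (n : G)) * (a : G)⁻¹) * (n : G)⁻¹ := by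
      simp only [Subgroup.coe_mul, Subgroup.coe_inv]; group
    rw [e, h1]; group

theorem chainStab_pow {G : Type*} [Group G] (H U : Subgroup G) (hUH : U ≤ H)
    (v : ↥(Subgroup.normalizer (H : Set G))) (hv : v ∈ chainStab H U) (h : G) (hh : h ∈ H)
    (k : ℕ) :
    (v : G) ^ k * h * ((v : G) ^ k)⁻¹ = ((v : G) * h * (v : G)⁻¹ * h⁻¹) ^ k * h := by
  obtain ⟨hv1, hv2⟩ := hv
  have hu := hv2 _ (hv1 h hh)
  induction k with
  | zero => simp
  | succ k ih =>
    have e : (v : G) ^ (k + 1) * h * ((v : G) ^ (k + 1))⁻¹ =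
        (v : G) * ((v : G) ^ k * h * ((v : G) ^ k)⁻¹) * (v : G)⁻¹ := by
      rw [pow_succ']; group
    rw [e, ih]
    have e2 : (v : G) * (((v : G) * h * (v : G)⁻¹ * h⁻¹) ^ k * h) * (v : G)⁻¹ =
        ((v : G) * ((v : G) * h * (v : G)⁻¹ * h⁻¹) * (v : G)⁻¹) ^ k *
          (((v : G) * h * (v : G)⁻¹ * h⁻¹) * h) := by
      rw [conj_pow]; group
    rw [e2, hu, pow_succ]
    simp only [mul_assoc]

theorem chainStab_pow_card_mem {G : Type*} [Group G] [Finite G] (H U : Subgroup G) (hUH : U ≤ H)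
    (v : ↥(Subgroup.normalizer (H : Set G))) (hv : v ∈ chainStab H U) :
    (v : G) ^ Nat.card ↥H ∈ Subgroup.centralizer (H : Set G) := by
  rw [Subgroup.mem_centralizer_iff]
  intro h hh
  have h1 := chainStab_pow H U hUH v hv h hh (Nat.card ↥H)
  have hu : ((v : G) * h * (v : G)⁻¹ * h⁻¹) ^ Nat.card ↥H = 1 := by
    have h2 : (⟨_, hUH (hv.1 h hh)⟩ : ↥H) ^ Nat.card ↥H = 1 := pow_card_eq_one'
    have := congrArg Subtype.val h2
    rw [Subgroup.coe_pow] at this
    exact this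
  rw [hu, one_mul] at h1
  calc h * (v : G) ^ Nat.card ↥H
      = ((v : G) ^ Nat.card ↥H * h * ((v : G) ^ Nat.card ↥H)⁻¹) * (v : G) ^ Nat.card ↥H := by
        rw [h1]
    _ = (v : G) ^ Nat.card ↥H * h := by group

theorem grow {G : Type*} [Group G] [Finite G] {p : ℕ} [hp : Fact p.Prime] {H E : Subgroup G}
    (hPp : IsPGroup p ↥(H ⊔ E)) (hHE : H ≤ Subgroup.normalizer (E : Set G))
    (hT : ∀ e ∈ E, e ∈ Subgroup.normalizer (H : Set G) → e ∈ H) : E ≤ H := by
  by_contra hcon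
  have hne : H ≠ H ⊔ E := by
    intro heq
    exact hcon (le_sup_right.trans heq.ge)
  have hlt := card_lt_inf_normalizer H (H ⊔ E) hPp le_sup_left hne
  have hnle : ¬ (H ⊔ E) ⊓ Subgroup.normalizer (H : Set G) ≤ H := by
    intro hle
    exact absurd (Subgroup.card_le_of_le hle) (not_le.2 hlt)
  apply hnle
  rintro x ⟨hx1, hx2⟩
  obtain ⟨a, ha, e, he, rfl⟩ := Cfsg.Agent.helper25.exists_mul_of_mem_sup hHE hx1
  have heN : e ∈ Subgroup.normalizer (H : Set G) := by
    have : e = a⁻¹ * (a * e) := by group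
    rw [this]; exact mul_mem (inv_mem (Subgroup.le_normalizer ha)) hx2
  exact mul_mem ha (hT e he heN)

theorem no_good {G : Type*} [Group G] [Finite G] {p : ℕ} [hp : Fact p.Prime] (S : Sylow p G)
    (D : Subgroup G) (hD : Cfsg.IsStronglyClosed D (S : Subgroup G))
    (hyp : ∀ U : Subgroup G, U ≤ D → D ⊓ Subgroup.centralizer (U : Set G) ≤ U →
      Cfsg.HasNormalPComplement p ↥(Subgroup.normalizer (U : Set G)))
    (H X : Subgroup G) (hG : GoodH p (S : Subgroup G) H X) : False := by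
  obtain ⟨hHS, hidx, hcen, hcore, -, hHX, hXN, -, hpX, -⟩ := hG
  have hDS : D ≤ (S : Subgroup G) := hD.1
  have hHp : IsPGroup p ↥H := S.isPGroup'.to_le hHS
  have hSD : ∀ s ∈ (S : Subgroup G), ∀ x ∈ D, s * x * s⁻¹ ∈ D := fun s hs x hx =>
    hD.2 x hx s (mul_mem (mul_mem hs (hDS hx)) (inv_mem hs))
  have hconjU : ∀ g ∈ Subgroup.normalizer (H : Set G), ∀ x ∈ H ⊓ D, g * x * g⁻¹ ∈ H ⊓ D := by
    intro g hg x hx
    have h1 : g * x * g⁻¹ ∈ H := (Subgroup.mem_normalizer_iff.1 hg x).1 hx.1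
    exact ⟨h1, hD.2 x hx.2 g (hHS h1)⟩
  have hNU : Subgroup.normalizer (H : Set G) ≤ Subgroup.normalizer ((H ⊓ D : Subgroup G) : Set G) :=
    le_normalizer_of_conj_closed _ _ hconjU
  have hCN : Subgroup.centralizer (H : Set G) ≤ Subgroup.normalizer (H : Set G) :=
    Subgroup.centralizer_le_normalizer _
  have hHN : H ≤ Subgroup.normalizer (H : Set G) := Subgroup.le_normalizer
  -- decomposition in `H ⊔ C(H)`
  have hdecomp : ∀ x ∈ (S : Subgroup G), x ∈ H ⊔ Subgroup.centralizer (H : Set G) → x ∈ H := by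
    intro x hxS hx
    obtain ⟨a, ha, b, hb, rfl⟩ := Cfsg.Agent.helper7.mem_sup_of_normalizer hCN hx
    have hbS : b ∈ (S : Subgroup G) := by
      have : b = a⁻¹ * (a * b) := by group
      rw [this]; exact mul_mem (inv_mem (hHS ha)) hxS
    exact mul_mem ha (hcen ⟨hbS, hb⟩)
  obtain ⟨m, hm⟩ := IsPGroup.iff_card.mp hHp
  -- the chain stabilizer lies in `O_{p',p}`
  have hRp : IsPGroup p ↥((S : Subgroup G) ⊓ Subgroup.normalizer (H : Set G)) :=
    S.isPGroup'.to_le inf_le_left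
  have hCAn : ((Subgroup.centralizer (H : Set G)).subgroupOf
      (Subgroup.normalizer (H : Set G))).Normal :=
    (Subgroup.normal_subgroupOf_iff_le_normalizer hCN).2 (normalizer_le_normalizer_centralizer H)
  have hCA : (Subgroup.centralizer (H : Set G)).subgroupOf (Subgroup.normalizer (H : Set G)) ≤
      Cfsg.pPrimePCore p ↥(Subgroup.normalizer (H : Set G)) := by
    apply le_pPrimePCore_of_central_sylow _ hCAn
      (sylowOfRelIndex (Subgroup.normalizer (H : Set G)) _ hRp hidx)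
    intro s hs c hc
    rw [coe_sylowOfRelIndex] at hs
    have hs1 : (s : G) ∈ (S : Subgroup G) := (Subgroup.mem_subgroupOf.1 hs.1).1
    have hs2 : (s : G) ∈ Subgroup.centralizer (H : Set G) := Subgroup.mem_subgroupOf.1 hs.2
    have hsH : (s : G) ∈ H := hcen ⟨hs1, hs2⟩
    have hc' : (c : G) ∈ Subgroup.centralizer (H : Set G) := Subgroup.mem_subgroupOf.1 hc
    apply Subtype.ext
    simp only [Subgroup.coe_mul]
    exact (Subgroup.mem_centralizer_iff.1 hc') _ hsH
  have hVn := chainStab_normal H (H ⊓ D) hconjU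
  have hVle : chainStab H (H ⊓ D) ≤ Cfsg.pPrimePCore p ↥(Subgroup.normalizer (H : Set G)) := by
    apply le_pPrimePCore_of_image _ hVn
    intro v hv
    have h1 : v ^ (p ^ m) ∈ (Subgroup.centralizer (H : Set G)).subgroupOf
        (Subgroup.normalizer (H : Set G)) := by
      rw [Subgroup.mem_subgroupOf, Subgroup.coe_pow, ← hm]
      exact chainStab_pow_card_mem H (H ⊓ D) inf_le_left v hv
    obtain ⟨i, hi⟩ := exists_pow_mem_pPrimeCore _ (hCA h1)
    exact ⟨m + i, by rw [pow_add, pow_mul]; exact hi⟩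
  have hT : ∀ t ∈ D, t ∈ Subgroup.normalizer (H : Set G) →
      t ∈ Subgroup.centralizer ((H ⊓ D : Subgroup G) : Set G) → t ∈ H := by
    intro t htD htN htC
    have htV : (⟨t, htN⟩ : ↥(Subgroup.normalizer (H : Set G))) ∈ chainStab H (H ⊓ D) := by
      rw [mem_chainStab]
      refine ⟨fun h hh => ⟨?_, ?_⟩, fun u hu => ?_⟩
      · exact H.mul_mem ((Subgroup.mem_normalizer_iff.1 htN h).1 hh) (H.inv_mem hh)
      · have h1 := hSD h (hHS hh) t⁻¹ (D.inv_mem htD)
        have e : t * h * t⁻¹ * h⁻¹ = t * (h * t⁻¹ * h⁻¹) := by group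
        show t * h * t⁻¹ * h⁻¹ ∈ D
        rw [e]; exact mul_mem htD h1
      · have h1 := (Subgroup.mem_centralizer_iff.1 htC) u hu
        show t * u * t⁻¹ = u
        rw [← h1]; group
    have h1 := hVle htV
    have h2 : t ∈ (Cfsg.pPrimePCore p ↥(Subgroup.normalizer (H : Set G))).map
        (Subgroup.normalizer (H : Set G)).subtype := ⟨⟨t, htN⟩, h1, rfl⟩
    rw [hcore] at h2
    exact hdecomp t (hDS htD) h2
  -- `C_D(H ⊓ D) ≤ H ⊓ D`
  have hE : D ⊓ Subgroup.centralizer ((H ⊓ D : Subgroup G) : Set G) ≤ H ⊓ D := by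
    have hHE : H ≤ Subgroup.normalizer
        ((D ⊓ Subgroup.centralizer ((H ⊓ D : Subgroup G) : Set G) : Subgroup G) : Set G) := by
      apply le_normalizer_of_conj_closed
      intro h hh x hx
      rw [Subgroup.mem_inf] at hx ⊢
      refine ⟨hSD h (hHS hh) x hx.1, ?_⟩
      rw [Subgroup.mem_centralizer_iff]
      intro u hu
      have hu' : h⁻¹ * u * h ∈ H ⊓ D := by
        have := hconjU h⁻¹ (Subgroup.inv_mem _ (hHN hh)) u hu
        simpa using this
      have h1 := (Subgroup.mem_centralizer_iff.1 hx.2) _ hu'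
      calc u * (h * x * h⁻¹) = h * ((h⁻¹ * u * h) * x) * h⁻¹ := by group
        _ = h * (x * (h⁻¹ * u * h)) * h⁻¹ := by rw [h1]
        _ = h * x * h⁻¹ * u := by group
    have hEH : D ⊓ Subgroup.centralizer ((H ⊓ D : Subgroup G) : Set G) ≤ H := by
      apply grow (p := p) (S.isPGroup'.to_le (sup_le hHS (inf_le_left.trans hDS))) hHE
      intro e he heN
      rw [Subgroup.mem_inf] at he
      exact hT e he.1 heN he.2
    exact le_inf hEH inf_le_left
  -- `N(H)` has a normal `p`-complement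
  have hnpc : Cfsg.HasNormalPComplement p ↥(Subgroup.normalizer (H : Set G)) :=
    npc_of_injective (Subgroup.inclusion hNU) (Subgroup.inclusion_injective hNU)
      (hyp (H ⊓ D) inf_le_right hE)
  have htop := pPrimePCore_eq_top_of_npc hnpc
  rw [htop, ← MonoidHom.range_eq_map, Subgroup.range_subtype] at hcore
  have hSN : (S : Subgroup G) ⊓ Subgroup.normalizer (H : Set G) = H := by
    apply le_antisymm
    · rintro x ⟨hx1, hx2⟩
      rw [hcore] at hx2
      exact hdecomp x hx1 hx2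
    · exact le_inf hHS hHN
  rw [hSN] at hidx
  apply hidx
  rw [← Subgroup.relIndex_mul_relIndex H X _ hHX hXN]
  exact Dvd.dvd.mul_right hpX _

/-- A Frobenius normal p-complement criterion relative to a strongly closed subgroup. Let G be a finite group, S a Sylow p-subgroup and D a subgroup of S strongly closed in S with respect to G. Then G has a normal p-complement if and only if N_G(U) has a normal p-complement for every subgroup U of D with C_D(U) ≤ U. -/
theorem result {G : Type*} [Group G] [Finite G] {p : ℕ} [Fact p.Prime] (S : Sylow p G) (D : Subgroup G) (hD : Cfsg.IsStronglyClosed D (S : Subgroup G)) : Cfsg.HasNormalPComplement p G ↔ ∀ U : Subgroup G, U ≤ D → D ⊓ Subgroup.centralizer (U : Set G) ≤ U → Cfsg.HasNormalPComplement p ↥(Subgroup.normalizer (U : Set G)) := by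
  constructor
  · intro h U _ _
    exact npc_subgroup _ h
  intro hyp
  apply npc_of_frobCond
  apply Cfsg.Agent.S0071.frobCond_of_sylow S
  intro Q hQS g hg hcop
  have hQg : Cfsg.subgroupConjRight g Q ≤ (S : Subgroup G) := by
    rw [subgroupConjRight_of_mem_normalizer g Q hg]; exact hQS
  obtain ⟨c, hc, w, hw, y, hy, hgeq⟩ := dec_main S _ Q hQS rfl g hQg
  have hw1 : w = 1 := by
    cases hw with
    | nil => rfl
    | cons Q' H X x w' hG hx hQH hrest => exact (no_good S D hD hyp H X hG).elim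
  rw [hw1, mul_one] at hgeq
  have hDS : D ≤ (S : Subgroup G) := hD.1
  have hSD : ∀ s ∈ (S : Subgroup G), ∀ x ∈ D, s * x * s⁻¹ ∈ D := fun s hs x hx =>
    hD.2 x hx s (mul_mem (mul_mem hs (hDS hx)) (inv_mem hs))
  have hSND : (S : Subgroup G) ≤ Subgroup.normalizer (D : Set G) :=
    le_normalizer_of_conj_closed _ _ hSD
  have hNSD : Subgroup.normalizer ((S : Subgroup G) : Set G) ≤ Subgroup.normalizer (D : Set G) := by
    apply le_normalizer_of_conj_closed
    intro n hn x hx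
    exact hD.2 x hx n ((Subgroup.mem_normalizer_iff.1 hn x).1 (hDS hx))
  have hF : FrobCond p ↥(Subgroup.normalizer (D : Set G)) :=
    frobCond_of_npc (hyp D le_rfl inf_le_left)
  have hcQ : c ∈ Subgroup.normalizer (Q : Set G) := Subgroup.centralizer_le_normalizer _ hc
  have hyQ : y ∈ Subgroup.normalizer (Q : Set G) := by
    have : y = c⁻¹ * g := by rw [hgeq]; group
    rw [this]; exact mul_mem (inv_mem hcQ) hg
  obtain ⟨k, hk⟩ := exists_pow_coprime_order (p := p) y
  have hykD : y ^ p ^ k ∈ Subgroup.normalizer (D : Set G) := pow_mem (hNSD hy) _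
  have hykQ : y ^ p ^ k ∈ Subgroup.normalizer (Q : Set G) := pow_mem hyQ _
  have hQD : Q ≤ Subgroup.normalizer (D : Set G) := hQS.trans hSND
  have hQp : IsPGroup p ↥Q := S.isPGroup'.to_le hQS
  have hmem : (⟨y ^ p ^ k, hykD⟩ : ↥(Subgroup.normalizer (D : Set G))) ∈
      Subgroup.normalizer ((Q.subgroupOf (Subgroup.normalizer (D : Set G)) :
        Subgroup ↥(Subgroup.normalizer (D : Set G))) :
        Set ↥(Subgroup.normalizer (D : Set G))) := by
    rw [← Subgroup.subgroupOf_normalizer_eq hQD, Subgroup.mem_subgroupOf]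
    exact hykQ
  have hcent := hF _ hQp.comap_subtype _ hmem (by
    rw [Subgroup.orderOf_mk]; exact hk)
  have hycent : ∀ q ∈ Q, y ^ p ^ k * q * (y ^ p ^ k)⁻¹ = q := by
    intro q hq
    have h1 := (Subgroup.mem_centralizer_iff.1 hcent) ⟨q, hQD hq⟩
      (Subgroup.mem_subgroupOf.2 hq)
    have h2 := congrArg Subtype.val h1
    simp only [Subgroup.coe_mul] at h2
    rw [← h2]; group
  -- `g` and `y` act in the same way on `Q`
  have hstep : ∀ x ∈ Q, g * x * g⁻¹ = y * x * y⁻¹ := by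
    intro x hx
    have hyx : y * x * y⁻¹ ∈ Q := (Subgroup.mem_normalizer_iff.1 hyQ x).1 hx
    have h1 := (Subgroup.mem_centralizer_iff.1 hc) _ hyx
    rw [hgeq]
    calc c * y * x * (c * y)⁻¹ = c * (y * x * y⁻¹) * c⁻¹ := by group
      _ = (y * x * y⁻¹) * c * c⁻¹ := by rw [h1]
      _ = y * x * y⁻¹ := by group
  have hpowact : ∀ n : ℕ, ∀ q ∈ Q, g ^ n * q * (g ^ n)⁻¹ = y ^ n * q * (y ^ n)⁻¹ := by
    intro n
    induction n with
    | zero => intro q _; simp
    | succ n ih =>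
      intro q hq
      have hyq : y ^ n * q * (y ^ n)⁻¹ ∈ Q :=
        (Subgroup.mem_normalizer_iff.1 (pow_mem hyQ n) q).1 hq
      calc g ^ (n + 1) * q * (g ^ (n + 1))⁻¹ = g * (g ^ n * q * (g ^ n)⁻¹) * g⁻¹ := by
            rw [pow_succ']; group
        _ = g * (y ^ n * q * (y ^ n)⁻¹) * g⁻¹ := by rw [ih q hq]
        _ = y * (y ^ n * q * (y ^ n)⁻¹) * y⁻¹ := hstep _ hyq
        _ = y ^ (n + 1) * q * (y ^ (n + 1))⁻¹ := by rw [pow_succ']; group
  have hgk : g ^ p ^ k ∈ Subgroup.centralizer (Q : Set G) := by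
    rw [Subgroup.mem_centralizer_iff]
    intro q hq
    have h1 := hpowact (p ^ k) q hq
    rw [hycent q hq] at h1
    calc q * g ^ p ^ k = (g ^ p ^ k * q * (g ^ p ^ k)⁻¹) * g ^ p ^ k := by rw [h1]
      _ = g ^ p ^ k * q := by group
  have hcop' : Nat.Coprime (p ^ k) (orderOf g) := (Nat.Coprime.pow_right k hcop).symm
  obtain ⟨j, hj⟩ := exists_pow_eq_self_of_coprime hcop'
  rw [← hj]
  exact pow_mem hgk j

end Cfsg.Agent.S3839
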