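import Cfsg.Statements.S3857
import Cfsg.Agent.Lib_helper18_PrimeGraph

set_option autoImplicit false
open Cfsg

namespace Cfsg.Agent.S3857

open Cfsg.Agent.helper18.PG in
/-- A finite solvable group whose prime graph (prime divisors of the order, two distinct primes joined when there is an element of order their product) is disconnected is a Frobenius group or a 2-Frobenius group (it has normal subgroups H < K with K a Frobenius group with kernel H and G/H a Frobenius group with kernel K/H). -/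
theorem result {G : Type*} [Group G] [Finite G] (hsol : Group.IsSolvable G)
    (hdisc : (∃ A : Set ℕ, (∃ a ∈ A, a.Prime ∧ a ∣ Nat.card G) ∧ (∃ b ∉ A, b.Prime ∧ b ∣ Nat.card G) ∧
      ∀ a ∈ A, ∀ b ∉ A, a.Prime → b.Prime → a ∣ Nat.card G → b ∣ Nat.card G → ¬ ∃ g : G, orderOf g = a * b)) :
    (∃ C : Subgroup G, Cfsg.IsFrobeniusComplement C) ∨
    (∃ (H K : Subgroup G) (_ : H.Normal), K.Normal ∧ H < K ∧
      (∃ C : Subgroup ↥K, Cfsg.IsFrobeniusComplement C ∧ Cfsg.frobeniusKernel C = (H.subgroupOf K : Set ↥K)) ∧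
      (∃ C : Subgroup (G ⧸ H), Cfsg.IsFrobeniusComplement C ∧ Cfsg.frobeniusKernel C = (K.map (QuotientGroup.mk' H) : Set (G ⧸ H)))) := by
  obtain ⟨A, ⟨a, haA, hap, had⟩, ⟨b, hbA, hbp, hbd⟩, hno⟩ := hdisc
  haveI := hsol
  have hG : NoMix A G := by
    intro p hp q hq hpp hqp g hg
    have hdvd : orderOf g ∣ Nat.card G := orderOf_dvd_natCard g
    exact hno p hp q hq hpp hqp ((Dvd.intro _ hg.symm).trans hdvd)
      ((Dvd.intro_left _ hg.symm).trans hdvd) ⟨g, hg⟩
  have htop : (⊤ : Subgroup G) ≠ ⊥ := by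
    intro h
    have h1 : Nat.card (⊤ : Subgroup G) = 1 := by rw [h]; exact Subgroup.card_bot
    rw [Subgroup.card_top] at h1
    rw [h1] at had
    exact hap.ne_one (Nat.dvd_one.mp had)
  obtain ⟨M₀, hM₀n, hM₀b, -, hM₀c⟩ := exists_abelian_normal_le (⊤ : Subgroup G) htop
  haveI := hM₀n
  rcases sNum_or_of_comm hG M₀ hM₀c with h | h
  · exact main hG M₀ hM₀b h b hbp hbA hbd
  · exact main hG.compl M₀ hM₀b h a hap (fun hc => hc haA) had
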