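import Cfsg.Statements.S3858
-- import your own Cfsg.Agent.* helpers here
import Cfsg.Agent.Lib_helper19_Sylow
import Cfsg.Agent.Lib_helper19_Sylow2

set_option autoImplicit false
open Cfsg

namespace Cfsg.Agent.S3858

/-- Let G be a finite group with a normal non-abelian simple subgroup T whose centralizer is trivial (G almost simple with socle T), r a prime and R a Sylow r-subgroup of G meeting T nontrivially. Then R lies in exactly one maximal subgroup of G if and only if G has exactly one conjugacy class of maximal subgroups whose index is prime to r. -/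
theorem result {G : Type*} [Group G] [Finite G] (T : Subgroup G) [T.Normal] (hT : IsSimpleGroup T) (hna : ¬ IsMulCommutative T)
    (hC : Subgroup.centralizer (T : Set G) = ⊥) {r : ℕ} [Fact r.Prime] (R : Sylow r G) (hR0 : (R : Subgroup G) ⊓ T ≠ ⊥) :
    (∃! M : Subgroup G, IsCoatom M ∧ (R : Subgroup G) ≤ M) ↔
      ((∃ M : Subgroup G, IsCoatom M ∧ ¬ r ∣ M.index) ∧
        ∀ M₁ M₂ : Subgroup G, IsCoatom M₁ → ¬ r ∣ M₁.index → IsCoatom M₂ → ¬ r ∣ M₂.index → ∃ g : G, M₂ = M₁.map (MulAut.conj g).toMonoidHom) := by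
  classical
  have hTn : T.Normal := inferInstance
  set Q : Subgroup G := (R : Subgroup G) ⊓ T with hQ
  -- normalizer of R is inside normalizer of Q
  have hNRQ : Subgroup.normalizer ((R : Subgroup G) : Set G) ≤ Subgroup.normalizer (Q : Set G) := by
    intro g hg
    rw [Subgroup.mem_normalizer_iff] at hg ⊢
    intro h
    constructor
    · rintro ⟨h1, h2⟩
      exact ⟨(hg h).mp h1, hTn.conj_mem h h2 g⟩
    · rintro ⟨h1, h2⟩
      refine ⟨(hg h).mpr h1, ?_⟩
      have e : h = g⁻¹ * (g * h * g⁻¹) * g := by group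
      rw [e]
      have := hTn.conj_mem _ h2 g⁻¹
      simpa using this
  have hNtop : Subgroup.normalizer (Q : Set G) ≠ ⊤ := by
    intro h
    have hQn : Q.Normal := Subgroup.normalizer_eq_top_iff.mp h
    have hQTn : (Q.subgroupOf T).Normal := hQn.subgroupOf T
    rcases hQTn.eq_bot_or_eq_top with h1 | h1
    · rw [Subgroup.subgroupOf_eq_bot, disjoint_iff, inf_eq_left.mpr (inf_le_right : Q ≤ T)] at h1
      exact hR0 h1
    · rw [Subgroup.subgroupOf_eq_top] at h1
      have hTR : T ≤ (R : Subgroup G) := h1.trans inf_le_left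
      have hTp : IsPGroup r ↥T := R.isPGroup'.to_le hTR
      exact helper19.not_isPGroup_of_simple_nonabelian hna r hTp
  have hNRtop : Subgroup.normalizer ((R : Subgroup G) : Set G) ≠ ⊤ := by
    intro h
    apply hNtop
    rw [eq_top_iff, ← h]; exact hNRQ
  have memconj := @helper19.memconj G _
  constructor
  · -- forward direction
    rintro ⟨M, ⟨hMco, hRM⟩, hMuniq⟩
    have hMidx : ¬ r ∣ M.index := helper19.index_not_dvd_of_sylow_le R M hRM
    have key : ∀ M₁ : Subgroup G, IsCoatom M₁ → ¬ r ∣ M₁.index →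
        ∃ g : G, M₁.map (MulAut.conj g).toMonoidHom = M := by
      intro M₁ hM₁ hidx
      obtain ⟨g, hg⟩ := helper19.exists_conj_sylow_le R M₁ hidx
      refine ⟨g, ?_⟩
      apply hMuniq
      refine ⟨helper19.isCoatom_map_conj M₁ g hM₁, ?_⟩
      intro y hy
      rw [memconj]
      exact hg y hy
    refine ⟨⟨M, hMco, hMidx⟩, ?_⟩
    intro M₁ M₂ hM₁ h1 hM₂ h2
    obtain ⟨g₁, hg₁⟩ := key M₁ hM₁ h1
    obtain ⟨g₂, hg₂⟩ := key M₂ hM₂ h2
    refine ⟨g₂⁻¹ * g₁, ?_⟩
    ext y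
    rw [memconj]
    have e1 : y ∈ M₂ ↔ g₂ * y * g₂⁻¹ ∈ M := by
      rw [← hg₂, memconj]
      have : g₂⁻¹ * (g₂ * y * g₂⁻¹) * g₂ = y := by group
      rw [this]
    have e2 : (g₂⁻¹ * g₁)⁻¹ * y * (g₂⁻¹ * g₁) ∈ M₁ ↔ g₂ * y * g₂⁻¹ ∈ M := by
      rw [← hg₁, memconj]
      have : g₁⁻¹ * (g₂ * y * g₂⁻¹) * g₁ = (g₂⁻¹ * g₁)⁻¹ * y * (g₂⁻¹ * g₁) := by group
      rw [this]
    rw [e1, e2]
  · -- backward direction
    rintro ⟨_, hconj⟩
    obtain ⟨M₀, hM₀, hNM₀⟩ := (eq_top_or_exists_le_coatom (Subgroup.normalizer ((R : Subgroup G) : Set G))).resolve_left hNRtop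
    have hRM₀ : (R : Subgroup G) ≤ M₀ := Subgroup.le_normalizer.trans hNM₀
    refine ⟨M₀, ⟨hM₀, hRM₀⟩, ?_⟩
    rintro M₁ ⟨hM₁, hRM₁⟩
    have hi0 := helper19.index_not_dvd_of_sylow_le R M₀ hRM₀
    have hi1 := helper19.index_not_dvd_of_sylow_le R M₁ hRM₁
    obtain ⟨g, hg⟩ := hconj M₁ M₀ hM₁ hi1 hM₀ hi0
    -- g • R ≤ M₀
    have hgR : ((g • R : Sylow r G) : Subgroup G) ≤ M₀ := by
      intro y hy
      rw [Sylow.coe_subgroup_smul, helper19.memsmul] at hy
      rw [hg, memconj]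
      exact hRM₁ hy
    obtain ⟨m, hmM, hm⟩ := helper19.sylow_conj_in_subgroup (g • R) R M₀ hgR hRM₀
    rw [← mul_smul] at hm
    have hn : m * g ∈ Subgroup.normalizer ((R : Subgroup G) : Set G) :=
      Sylow.smul_eq_iff_mem_normalizer.mp hm
    have hnM : m * g ∈ M₀ := hNM₀ hn
    have hgM : g ∈ M₀ := by
      have e : g = m⁻¹ * (m * g) := by group
      rw [e]
      exact M₀.mul_mem (M₀.inv_mem hmM) hnM
    -- M₁ = g⁻¹ M₀ g = M₀
    ext y
    constructor
    · intro hy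
      have : g * y * g⁻¹ ∈ M₀ := by
        rw [hg, memconj]
        have e : g⁻¹ * (g * y * g⁻¹) * g = y := by group
        rw [e]; exact hy
      have e : y = g⁻¹ * (g * y * g⁻¹) * g := by group
      rw [e]
      exact M₀.mul_mem (M₀.mul_mem (M₀.inv_mem hgM) this) hgM
    · intro hy
      have : g * y * g⁻¹ ∈ M₀ := M₀.mul_mem (M₀.mul_mem hgM hy) (M₀.inv_mem hgM)
      rw [hg, memconj] at this
      have e : g⁻¹ * (g * y * g⁻¹) * g = y := by group
      rwa [e] at this

end Cfsg.Agent.S3858
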