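import Cfsg.Statements.S3859
-- import your own Cfsg.Agent.* helpers here
import Cfsg.Agent.Lib_helper19_Sylow

set_option autoImplicit false
open Cfsg

namespace Cfsg.Agent.S3859

/-- Let G be a finite group with a normal non-abelian simple subgroup T whose centralizer is trivial (G almost simple with socle T), r a prime and R a Sylow r-subgroup of G meeting T nontrivially. If R lies in exactly one maximal subgroup of G, then G/T is an r-group. -/
theorem result {G : Type*} [Group G] [Finite G] (T : Subgroup G) [T.Normal] (hT : IsSimpleGroup T) (hna : ¬ IsMulCommutative T)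
    (hC : Subgroup.centralizer (T : Set G) = ⊥) {r : ℕ} [Fact r.Prime] (R : Sylow r G) (hR0 : (R : Subgroup G) ⊓ T ≠ ⊥)
    (huniq : ∃! M : Subgroup G, IsCoatom M ∧ (R : Subgroup G) ≤ M) : IsPGroup r (G ⧸ T) := by
  classical
  obtain ⟨M, ⟨hMco, hRM⟩, hMuniq⟩ := huniq
  set Q : Subgroup G := (R : Subgroup G) ⊓ T with hQ
  have hfr : Subgroup.normalizer (Q : Set G) ⊔ T = ⊤ := helper19.frattini_inf R T
  -- R normalizes Q
  have hRN : (R : Subgroup G) ≤ Subgroup.normalizer (Q : Set G) := by
    intro g hg
    rw [Subgroup.mem_normalizer_iff]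
    intro h
    constructor
    · rintro ⟨h1, h2⟩
      exact ⟨(R : Subgroup G).mul_mem ((R : Subgroup G).mul_mem hg h1) ((R : Subgroup G).inv_mem hg),
        ‹T.Normal›.conj_mem h h2 g⟩
    · rintro ⟨h1, h2⟩
      have e : h = g⁻¹ * (g * h * g⁻¹) * g := by group
      rw [e]
      refine ⟨(R : Subgroup G).mul_mem ((R : Subgroup G).mul_mem ((R : Subgroup G).inv_mem hg) h1) hg, ?_⟩
      have := ‹T.Normal›.conj_mem _ h2 g⁻¹
      simpa using this
  -- normalizer of Q is proper
  have hNtop : Subgroup.normalizer (Q : Set G) ≠ ⊤ := by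
    intro h
    have hQn : Q.Normal := Subgroup.normalizer_eq_top_iff.mp h
    have hQTn : (Q.subgroupOf T).Normal := hQn.subgroupOf T
    rcases hQTn.eq_bot_or_eq_top with h1 | h1
    · rw [Subgroup.subgroupOf_eq_bot, disjoint_iff, inf_eq_left.mpr (inf_le_right : Q ≤ T)] at h1
      exact hR0 h1
    · rw [Subgroup.subgroupOf_eq_top] at h1
      have hTR : T ≤ (R : Subgroup G) := h1.trans inf_le_left
      have hTp : IsPGroup r ↥T := R.isPGroup'.to_le hTR
      exact helper19.not_isPGroup_of_simple_nonabelian hna r hTp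
  -- so normalizer of Q lies in M
  have hNM : Subgroup.normalizer (Q : Set G) ≤ M := by
    rcases eq_top_or_exists_le_coatom (Subgroup.normalizer (Q : Set G)) with h | ⟨M', hM', hle⟩
    · exact absurd h hNtop
    · have := hMuniq M' ⟨hM', hRN.trans hle⟩
      rw [← this]; exact hle
  -- R ⊔ T = ⊤
  have hRT : (R : Subgroup G) ⊔ T = ⊤ := by
    by_contra hne
    rcases eq_top_or_exists_le_coatom ((R : Subgroup G) ⊔ T) with h | ⟨M', hM', hle⟩
    · exact hne h
    · have := hMuniq M' ⟨hM', le_sup_left.trans hle⟩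
      have hTM : T ≤ M := by rw [← this]; exact le_sup_right.trans hle
      have : (⊤ : Subgroup G) ≤ M := by rw [← hfr]; exact sup_le hNM hTM
      exact hMco.1 (top_le_iff.mp this)
  -- conclusion
  intro q
  induction q using QuotientGroup.induction_on with
  | H g =>
    have hg : g ∈ (R : Subgroup G) ⊔ T := by rw [hRT]; trivial
    obtain ⟨y, hy, z, hz, rfl⟩ := Subgroup.mem_sup_of_normal_right.mp hg
    obtain ⟨k, hk⟩ := R.isPGroup' ⟨y, hy⟩
    refine ⟨k, ?_⟩
    have hyk : y ^ r ^ k = 1 := by
      have := congrArg Subtype.val hk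
      simpa using this
    have hmk : (QuotientGroup.mk (y * z) : G ⧸ T) = QuotientGroup.mk y := by
      rw [QuotientGroup.eq]
      have e : (y * z)⁻¹ * y = z⁻¹ := by group
      rw [e]
      exact T.inv_mem hz
    rw [hmk, ← QuotientGroup.mk_pow, hyk]
    rfl

end Cfsg.Agent.S3859
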