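import Cfsg.Statements.S3861
-- import your own Cfsg.Agent.* helpers here
import Mathlib
import Cfsg.Agent.Lib_helper19_RealOdd

set_option autoImplicit false
open Cfsg

namespace Cfsg.Agent.S3861

/-- A finite group G has no non-identity element of odd order that is conjugate to its inverse if and only if the Sylow 2-subgroups of G are normal. -/
theorem result {G : Type*} [Group G] [Finite G] (P : Sylow 2 G) : (∀ x : G, x ≠ 1 → Odd (orderOf x) → ¬ IsConj x x⁻¹) ↔ (P : Subgroup G).Normal := by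
  have : Fact (Nat.Prime 2) := ⟨Nat.prime_two⟩
  constructor
  · intro hyp
    exact Cfsg.Agent.helper19.sylow_two_normal_of_no_real_odd _ G rfl hyp P
  · intro hPn x hx1 hodd hconj
    obtain ⟨g, hg⟩ := isConj_iff.1 hconj
    obtain ⟨a, m, hm, ham⟩ := Nat.exists_eq_two_pow_mul_odd (orderOf_pos g).ne'
    set h := g ^ m with hh
    have hh2 : h ^ (2 ^ a) = 1 := by
      rw [hh, ← pow_mul, mul_comm, ← ham, pow_orderOf_eq_one]
    have hinv : h * x * h⁻¹ = x⁻¹ := Cfsg.Agent.helper19.pow_inverts hg hm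
    have hpg : IsPGroup 2 (Subgroup.zpowers h) := by
      intro y
      refine ⟨a, ?_⟩
      obtain ⟨y, hy⟩ := y
      obtain ⟨j, rfl⟩ := Subgroup.mem_zpowers_iff.1 hy
      apply Subtype.ext
      simp only [Subgroup.coe_pow, Subgroup.coe_one]
      rw [← zpow_natCast, ← zpow_mul, mul_comm, zpow_mul, zpow_natCast, hh2, one_zpow]
    obtain ⟨Q, hQ⟩ := hpg.exists_le_sylow
    have hQP : Q = P := by
      have := Sylow.unique_of_normal P hPn
      exact Subsingleton.elim _ _
    have hhP : h ∈ (P : Subgroup G) := by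
      rw [← hQP]; exact hQ (Subgroup.mem_zpowers h)
    have hx2 : x ^ 2 ∈ (P : Subgroup G) := by
      have h1 : x * h * x⁻¹ ∈ (P : Subgroup G) := hPn.conj_mem h hhP x
      have h2 : x * h * x⁻¹ * h⁻¹ ∈ (P : Subgroup G) := (P : Subgroup G).mul_mem h1 ((P : Subgroup G).inv_mem hhP)
      have h3 : x * h * x⁻¹ * h⁻¹ = x ^ 2 := by
        have : x * h * x⁻¹ * h⁻¹ = x * (h * x * h⁻¹)⁻¹ := by group
        rw [this, hinv, inv_inv, pow_two]
      rwa [h3] at h2
    obtain ⟨k, hk⟩ := (P.isPGroup') ⟨x ^ 2, hx2⟩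
    have hk' : (x ^ 2) ^ (2 ^ k) = 1 := by
      have := congrArg Subtype.val hk
      simpa using this
    rw [← pow_mul, ← pow_succ'] at hk'
    have hd := orderOf_dvd_of_pow_eq_one hk'
    obtain ⟨j, -, hj⟩ := (Nat.dvd_prime_pow Nat.prime_two).1 hd
    rw [hj] at hodd
    have hj0 : j = 0 := by
      by_contra hj0
      have : Even (2 ^ j) := (Nat.even_pow.2 ⟨even_two, hj0⟩)
      exact (Nat.not_even_iff_odd.2 hodd) this
    rw [hj0, pow_zero, orderOf_eq_one_iff] at hj
    exact hx1 hj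

end Cfsg.Agent.S3861
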