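import Mathlib
import Cfsg.Statements.S3862
import Cfsg.Agent.Lib_helper21_Special2
import Cfsg.Agent.Lib_helper19_HH2
import Cfsg.Agent.Lib_helper7_FStar
import Cfsg.Agent.S0071

set_option autoImplicit false
set_option linter.style.haveILetI false
open Cfsg

namespace Cfsg.Agent.S3862

open scoped commutatorElement

/-- If all real 2-elements of a finite group G lie in Z(G), then G has a normal 2-complement. -/
theorem result {G : Type*} [Group G] [Finite G] (h : ∀ x : G, (∃ j : ℕ, orderOf x = 2 ^ j) → IsConj x x⁻¹ → x ∈ Subgroup.center G) : Cfsg.HasNormalPComplement 2 G := by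
  haveI : Fact (Nat.Prime 2) := ⟨Nat.prime_two⟩
  obtain ⟨P⟩ : Nonempty (Sylow 2 G) := inferInstance
  suffices hcrit : ∀ Q : Subgroup G, Q ≤ (P : Subgroup G) →
      ∀ g ∈ Subgroup.normalizer (Q : Set G), Nat.Coprime (orderOf g) 2 →
        g ∈ Subgroup.centralizer (Q : Set G) by
    obtain ⟨N, hN, hc⟩ := (Cfsg.Agent.S0071.result P).mpr hcrit
    exact ⟨P, N, hN, hc⟩
  intro Q hQP g hgN hgcop
  by_contra hgC
  set A : Subgroup G := Subgroup.zpowers g with hA
  have hAcard : (Nat.card A).Coprime 2 := by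
    rw [hA, Nat.card_zpowers]; exact hgcop
  let S : Subgroup G → Prop := fun U =>
    U ≤ Q ∧ A ≤ Subgroup.normalizer (U : Set G) ∧ ⁅U, A⁆ ≠ ⊥
  have hQS : S Q := by
    refine ⟨le_rfl, ?_, ?_⟩
    · rw [hA, Subgroup.zpowers_le]; exact hgN
    · intro hbot
      rw [Subgroup.commutator_eq_bot_iff_le_centralizer] at hbot
      apply hgC
      have : A ≤ Subgroup.centralizer (Q : Set G) := Subgroup.le_centralizer_iff.mp hbot
      exact this (Subgroup.mem_zpowers g)
  obtain ⟨R, hR⟩ := exists_minimal_of_wellFoundedLT S ⟨Q, hQS⟩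
  obtain ⟨⟨hRQ, hAR, hRA⟩, hRmin⟩ := hR
  have hRP : R ≤ (P : Subgroup G) := hRQ.trans hQP
  have hRp : IsPGroup 2 R := P.isPGroup'.to_le hRP
  have hmin : ∀ U : Subgroup G, U < R → A ≤ Subgroup.normalizer (U : Set G) → ⁅U, A⁆ = ⊥ := by
    intro U hU hAU
    by_contra hne
    have hUS : S U := ⟨hU.le.trans hRQ, hAU, hne⟩
    exact absurd (hRmin hUS hU.le) (not_le_of_gt hU)
  obtain ⟨hcomm, hstruct, hirr0, _⟩ :=
    Cfsg.Agent.helper19.hall_higman_reduction A A R hRp hAR le_rfl Subgroup.le_normalizer hAcard hRA hmin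
  -- 2-elements of R
  have h2elt : ∀ x ∈ R, ∃ j : ℕ, orderOf x = 2 ^ j := by
    intro x hx
    obtain ⟨k, hk⟩ := hRp ⟨x, hx⟩
    have h1 : x ^ 2 ^ k = 1 := by
      have := congrArg (fun w : R => (w : G)) hk
      simpa using this
    obtain ⟨j, _, hj⟩ := (Nat.dvd_prime_pow Nat.prime_two).mp (orderOf_dvd_of_pow_eq_one h1)
    exact ⟨j, hj⟩
  -- central elements of G in R are centralized by A; this yields the contradiction
  have hfinal : (∀ x ∈ R, x ∈ Subgroup.center G) → False := by
    intro hall
    apply hRA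
    rw [Subgroup.commutator_eq_bot_iff_le_centralizer]
    intro x hx
    exact Subgroup.center_le_centralizer _ (hall x hx)
  rcases hstruct with hel | hsp
  · apply hfinal
    intro x hx
    have hx2 : x ^ 2 = 1 := hel.2 x hx
    have hinv : x⁻¹ = x := by
      rw [inv_eq_iff_mul_eq_one, ← pow_two]; exact hx2
    apply h x (h2elt x hx)
    rw [hinv]
  · -- special case
    have hnc : ∃ x ∈ R, ¬ ∀ r ∈ R, r * x = x * r := by
      by_contra hcon
      push Not at hcon
      apply hRA
      obtain ⟨_, _, hco⟩ := hsp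
      have hbot : commutator ↥R = ⊥ := by
        rw [commutator_def, Subgroup.commutator_eq_bot_iff_le_centralizer]
        intro a _
        rw [Subgroup.mem_centralizer_iff]
        intro b _
        exact Subtype.ext (hcon (a : G) a.2 (b : G) b.2)
      have htop : Subgroup.center ↥R = ⊤ := by
        rw [eq_top_iff]
        intro a _
        rw [Subgroup.mem_center_iff]
        intro b
        exact Subtype.ext (hcon (a : G) a.2 (b : G) b.2)
      rw [hbot, htop] at hco
      have hRbot : R = ⊥ := by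
        rw [eq_bot_iff]
        intro x hx
        have : (⟨x, hx⟩ : R) ∈ (⊤ : Subgroup ↥R) := Subgroup.mem_top _
        rw [← hco, Subgroup.mem_bot] at this
        rw [Subgroup.mem_bot]
        exact congrArg Subtype.val this
      rw [hRbot]
      exact Subgroup.commutator_bot_left _
    obtain ⟨x0, hx0R, hx0⟩ := hnc
    -- Z(R)
    set ZR : Subgroup G := R ⊓ Subgroup.centralizer (R : Set G) with hZR
    have hZRmem : ∀ c, c ∈ ZR ↔ c ∈ R ∧ ∀ r ∈ R, r * c = c * r := by
      intro c
      rw [hZR, Subgroup.mem_inf, Subgroup.mem_centralizer_iff]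
      exact Iff.rfl
    have hZRlt : ZR < R := by
      refine lt_of_le_of_ne inf_le_left ?_
      intro heq
      apply hx0
      have : x0 ∈ ZR := by rw [heq]; exact hx0R
      exact ((hZRmem x0).mp this).2
    have hAZR : A ≤ Subgroup.normalizer (ZR : Set G) := by
      intro a ha
      apply Subgroup.inf_normalizer_le_normalizer_inf
      exact ⟨hAR ha, Cfsg.Agent.helper7.normalizer_le_normalizer_centralizer R (hAR ha)⟩
    have hZA : ⁅ZR, A⁆ = ⊥ := hmin ZR hZRlt hAZR
    have hcent : ∀ c ∈ R, (∀ r ∈ R, r * c = c * r) → ∀ a ∈ A, a * c * a⁻¹ = c := by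
      intro c hc hcc a ha
      have hcZ : c ∈ ZR := (hZRmem c).mpr ⟨hc, hcc⟩
      rw [Subgroup.commutator_eq_bot_iff_le_centralizer] at hZA
      have := hZA hcZ
      rw [Subgroup.mem_centralizer_iff] at this
      have h1 := this a ha
      -- h1 : a * c = c * a
      calc a * c * a⁻¹ = (c * a) * a⁻¹ := by rw [h1]
        _ = c := by group
    -- Frattini image = Z(R)
    have hΦ : (frattini ↥R).map R.subtype = ZR := by
      rw [hsp.2.1]
      ext c
      rw [hZRmem, Subgroup.mem_map]
      constructor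
      · rintro ⟨y, hy, rfl⟩
        refine ⟨y.2, fun r hr => ?_⟩
        have := Subgroup.mem_center_iff.mp hy ⟨r, hr⟩
        exact congrArg Subtype.val this
      · rintro ⟨hc, hcc⟩
        refine ⟨⟨c, hc⟩, ?_, rfl⟩
        rw [Subgroup.mem_center_iff]
        intro r
        exact Subtype.ext (hcc (r : G) r.2)
    have hirr : ∀ U : Subgroup G, (∀ c ∈ R, (∀ r ∈ R, r * c = c * r) → c ∈ U) → U ≤ R →
        (∀ a ∈ A, ∀ u ∈ U, a * u * a⁻¹ ∈ U) → (∀ u ∈ U, ∀ r ∈ R, r * u = u * r) ∨ U = R := by
      intro U hZU hUR hAU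
      have h1 : (frattini ↥R).map R.subtype ≤ U := by
        rw [hΦ]
        intro c hc
        exact hZU c ((hZRmem c).mp hc).1 ((hZRmem c).mp hc).2
      have h2 : A ≤ Subgroup.normalizer (U : Set G) := by
        intro a ha
        rw [Subgroup.mem_normalizer_iff]
        intro u
        constructor
        · exact hAU a ha u
        · intro hu
          have := hAU a⁻¹ (A.inv_mem ha) _ hu
          simpa [mul_assoc] using this
      rcases hirr0 U h1 hUR h2 with h3 | h3
      · left
        intro u hu r hr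
        rw [h3, hΦ] at hu
        exact ((hZRmem u).mp hu).2 r hr
      · right; exact h3
    obtain ⟨r, hr, hrx⟩ :=
      Cfsg.Agent.helper21.exists_inverting_of_special R A hsp hAR hcent hirr x0 hx0R hx0
    have hx0c : x0 ∈ Subgroup.center G := by
      apply h x0 (h2elt x0 hx0R)
      rw [isConj_iff]
      exact ⟨r, hrx⟩
    apply hx0
    intro s _
    exact (Subgroup.mem_center_iff.mp hx0c s)

end Cfsg.Agent.S3862
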