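import Cfsg.Statements.S3863
-- import your own Cfsg.Agent.* helpers here
import Mathlib

set_option autoImplicit false
open Cfsg

namespace Cfsg.Agent.S3863

theorem mem_of_pow_two_of_odd_index {G : Type*} [Group G] [Finite G] (N : Subgroup G) [N.Normal]
    (hN : Odd N.index) (g : G) (j : ℕ) (hg : g ^ 2 ^ j = 1) : g ∈ N := by
  have h1 : orderOf (QuotientGroup.mk g : G ⧸ N) ∣ 2 ^ j := by
    apply orderOf_dvd_of_pow_eq_one
    rw [← QuotientGroup.mk_pow, hg]; rfl
  have h2 : orderOf (QuotientGroup.mk g : G ⧸ N) ∣ N.index := by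
    rw [Subgroup.index_eq_card]
    exact orderOf_dvd_natCard _
  have hcop : Nat.Coprime (2 ^ j) N.index := by
    apply Nat.Coprime.pow_left
    exact Nat.coprime_two_left.mpr hN
  have h3 : orderOf (QuotientGroup.mk g : G ⧸ N) = 1 := Nat.eq_one_of_dvd_coprimes hcop h1 h2
  rw [orderOf_eq_one_iff] at h3
  exact (QuotientGroup.eq_one_iff g).mp h3


/-- Let x be an element of the finite group G that is conjugate to its inverse. Then some 2-element conjugates x to its inverse; if the conjugacy class of x has odd size then x ^ 2 = 1; and x lies in, and is conjugate to its inverse inside, every normal subgroup of odd index. -/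
theorem result {G : Type*} [Group G] [Finite G] (x : G) (hx : IsConj x x⁻¹) : (∃ t : G, (∃ j : ℕ, orderOf t = 2 ^ j) ∧ t * x * t⁻¹ = x⁻¹) ∧ (Odd (Subgroup.centralizer ({x} : Set G)).index → x ^ 2 = 1) ∧ ∀ (N : Subgroup G) [N.Normal], Odd N.index → ∃ hxN : x ∈ N, IsConj (⟨x, hxN⟩ : N) (⟨x, hxN⟩ : N)⁻¹ := by
  classical
  obtain ⟨c, hc⟩ := isConj_iff.mp hx
  -- part 1
  have part1 : ∃ t : G, (∃ j : ℕ, orderOf t = 2 ^ j) ∧ t * x * t⁻¹ = x⁻¹ := by
    have hn0 : orderOf c ≠ 0 := (orderOf_pos c).ne'
    obtain ⟨j, m, hm, hjm⟩ := Nat.exists_eq_two_pow_mul_odd hn0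
    refine ⟨c ^ m, ⟨j, ?_⟩, ?_⟩
    · rw [orderOf_pow, hjm, Nat.gcd_eq_right (Dvd.intro_left _ rfl),
        Nat.mul_div_cancel _ hm.pos]
    · obtain ⟨i, rfl⟩ := hm
      have hc2 : Commute (c ^ 2) x := by
        show c ^ 2 * x = x * c ^ 2
        have h1 : c * x = x⁻¹ * c := by rw [← hc]; group
        have h2 : c * x⁻¹ = x * c := by
          have : c * x⁻¹ * c⁻¹ = x := by
            have := congrArg (·⁻¹) hc
            simp only [mul_inv_rev, inv_inv] at this
            rw [← mul_assoc] at this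
            exact this
          calc c * x⁻¹ = (c * x⁻¹ * c⁻¹) * c := by group
            _ = x * c := by rw [this]
        rw [sq, mul_assoc, h1, ← mul_assoc, h2, mul_assoc]
      have hci : Commute ((c ^ 2) ^ i) x := hc2.pow_left i
      have e : c ^ (2 * i + 1) = (c ^ 2) ^ i * c := by rw [pow_succ, pow_mul]
      rw [e]
      calc (c ^ 2) ^ i * c * x * ((c ^ 2) ^ i * c)⁻¹
          = (c ^ 2) ^ i * (c * x * c⁻¹) * ((c ^ 2) ^ i)⁻¹ := by group
        _ = (c ^ 2) ^ i * x⁻¹ * ((c ^ 2) ^ i)⁻¹ := by rw [hc]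
        _ = x⁻¹ := by
          have := hci.inv_right
          rw [this.eq, mul_assoc, mul_inv_cancel, mul_one]
  obtain ⟨t, ⟨j, htj⟩, htx⟩ := part1
  refine ⟨⟨t, ⟨j, htj⟩, htx⟩, ?_, ?_⟩
  · -- part 2
    intro hodd
    set C : Subgroup G := Subgroup.centralizer ({x} : Set G) with hC
    have memC : ∀ g : G, g ∈ C ↔ g * x = x * g := by
      intro g
      rw [hC, Subgroup.mem_centralizer_iff]
      constructor
      · intro h; exact (h x rfl).symm
      · intro h y hy
        rw [Set.mem_singleton_iff] at hy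
        rw [hy]; exact h.symm
    have htx' : t * x = x⁻¹ * t := by rw [← htx]; group
    have htxi : t * x⁻¹ = x * t := by
      have : t * x⁻¹ * t⁻¹ = x := by
        have := congrArg (·⁻¹) htx
        simp only [mul_inv_rev, inv_inv] at this
        rw [← mul_assoc] at this
        exact this
      calc t * x⁻¹ = (t * x⁻¹ * t⁻¹) * t := by group
        _ = x * t := by rw [this]
    have htxinv' : t⁻¹ * x = x⁻¹ * t⁻¹ := by
      have : x * t = t * x⁻¹ := htxi.symm
      calc t⁻¹ * x = t⁻¹ * (x * t) * t⁻¹ := by group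
        _ = t⁻¹ * (t * x⁻¹) * t⁻¹ := by rw [this]
        _ = x⁻¹ * t⁻¹ := by group
    have htxinv'' : t⁻¹ * x⁻¹ = x * t⁻¹ := by
      have : x⁻¹ * t = t * x := htx'.symm
      calc t⁻¹ * x⁻¹ = t⁻¹ * (x⁻¹ * t) * t⁻¹ := by group
        _ = t⁻¹ * (t * x) * t⁻¹ := by rw [this]
        _ = x * t⁻¹ := by group
    -- conjugation by t preserves C
    have hconjC : ∀ g : G, g ∈ C → t⁻¹ * g * t ∈ C := by
      intro g hg
      rw [memC] at hg ⊢
      calc t⁻¹ * g * t * x = t⁻¹ * g * (t * x) := by group
        _ = t⁻¹ * g * (x⁻¹ * t) := by rw [htx']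
        _ = t⁻¹ * (g * x⁻¹) * t := by group
        _ = t⁻¹ * (x⁻¹ * g) * t := by
            have : g * x⁻¹ = x⁻¹ * g := by
              calc g * x⁻¹ = x⁻¹ * (x * g) * x⁻¹ := by group
                _ = x⁻¹ * (g * x) * x⁻¹ := by rw [hg]
                _ = x⁻¹ * g := by group
            rw [this]
        _ = (t⁻¹ * x⁻¹) * g * t := by group
        _ = (x * t⁻¹) * g * t := by rw [htxinv'']
        _ = x * (t⁻¹ * g * t) := by group
    have ht2 : t * t ∈ C := by
      rw [memC]
      calc t * t * x = t * (t * x) := by group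
        _ = t * (x⁻¹ * t) := by rw [htx']
        _ = (t * x⁻¹) * t := by group
        _ = x * t * t := by rw [htxi]
        _ = x * (t * t) := by group
    let f : G ⧸ C → G ⧸ C := Quotient.map' (fun g => g * t) (by
      intro a b hab
      rw [QuotientGroup.leftRel_apply] at hab ⊢
      have := hconjC _ hab
      have e : (a * t)⁻¹ * (b * t) = t⁻¹ * (a⁻¹ * b) * t := by group
      rw [e]; exact this)
    have hf : Function.Involutive f := by
      intro q
      induction q using Quotient.inductionOn' with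
      | h g =>
        show Quotient.mk'' (g * t * t) = Quotient.mk'' g
        rw [Quotient.eq'', QuotientGroup.leftRel_apply]
        have e : (g * t * t)⁻¹ * g = (t * t)⁻¹ := by group
        rw [e]; exact C.inv_mem ht2
    let _ : Fintype (G ⧸ C) := Fintype.ofFinite _
    have hcard : ¬ 2 ∣ Fintype.card (G ⧸ C) := by
      rw [← Nat.card_eq_fintype_card, ← Subgroup.index_eq_card]
      exact hodd.not_two_dvd_nat
    have hσ : (hf.toPerm f) ^ 2 ^ 1 = 1 := by
      ext q
      simp [sq, hf q]
    have : Fact (Nat.Prime 2) := ⟨Nat.prime_two⟩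
    obtain ⟨q, hq⟩ := Equiv.Perm.exists_fixed_point_of_prime (p := 2) (n := 1) hcard hσ
    have hq' : f q = q := hq
    induction q using Quotient.inductionOn' with
    | h g =>
      have h1 : (Quotient.mk'' (g * t) : G ⧸ C) = Quotient.mk'' g := hq'
      rw [Quotient.eq'', QuotientGroup.leftRel_apply] at h1
      have e : (g * t)⁻¹ * g = t⁻¹ := by group
      rw [e] at h1
      have htC : t ∈ C := by simpa using C.inv_mem h1
      rw [memC] at htC
      have : x = x⁻¹ := by
        calc x = t * x * t⁻¹ := by rw [htC]; group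
          _ = x⁻¹ := htx
      calc x ^ 2 = x * x := sq x
        _ = x * x⁻¹ := by rw [← this]
        _ = 1 := mul_inv_cancel x
  · -- part 3
    intro N hNn hNodd
    have htN : t ∈ N := mem_of_pow_two_of_odd_index N hNodd t j (by rw [← htj, pow_orderOf_eq_one])
    have hx2 : x ^ 2 ∈ N := by
      have : x ^ 2 = x * (t * x * t⁻¹)⁻¹ := by rw [htx, inv_inv, sq]
      rw [this]
      have e : x * (t * x * t⁻¹)⁻¹ = (x * t * x⁻¹) * t⁻¹ := by group
      rw [e]
      exact N.mul_mem (hNn.conj_mem t htN x) (N.inv_mem htN)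
    have hxN : x ∈ N := by
      -- order of image of x divides 2 and the odd index
      have h1 : orderOf (QuotientGroup.mk x : G ⧸ N) ∣ 2 := by
        apply orderOf_dvd_of_pow_eq_one
        rw [← QuotientGroup.mk_pow]
        exact (QuotientGroup.eq_one_iff _).mpr hx2
      have h2 : orderOf (QuotientGroup.mk x : G ⧸ N) ∣ N.index := by
        rw [Subgroup.index_eq_card]
        exact orderOf_dvd_natCard _
      have hcop : Nat.Coprime 2 N.index := by
        exact Nat.coprime_two_left.mpr hNodd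
      have h3 : orderOf (QuotientGroup.mk x : G ⧸ N) = 1 := Nat.eq_one_of_dvd_coprimes hcop h1 h2
      rw [orderOf_eq_one_iff] at h3
      exact (QuotientGroup.eq_one_iff x).mp h3
    refine ⟨hxN, ?_⟩
    rw [isConj_iff]
    refine ⟨⟨t, htN⟩, ?_⟩
    apply Subtype.ext
    simp only [Subgroup.coe_mul, Subgroup.coe_inv]
    exact htx

end Cfsg.Agent.S3863
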