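import Cfsg.Statements.S3864
import Mathlib
import Cfsg.Agent.Lib_helper6_DihSyl3
import Cfsg.Agent.S1254
-- import your own Cfsg.Agent.* helpers here

set_option autoImplicit false
open Cfsg

namespace Cfsg.Agent.S3864

open DihedralGroup Cfsg.Agent.helper6.DihSyl Cfsg.Agent.helper6.Dih Cfsg.Agent.helper6.TwoPow

/-- Let G be a finite group whose Sylow 2-subgroups are dihedral of order 2 ^ n with n ≥ 3, and count the conjugacy classes of involutions of G. Then exactly one of the following holds: there is one class of involutions and no normal subgroup of index 2; there are two classes of involutions, a normal subgroup of index 2 and none of index 4; there are three classes of involutions and G has a normal 2-complement. -/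
theorem result {G : Type*} [Group G] [Finite G] (P : Sylow 2 G) (n : ℕ) (hn : 3 ≤ n) (hdih : Nonempty (↥(P : Subgroup G) ≃* DihedralGroup (2 ^ (n - 1)))) : (Nat.card {C : ConjClasses G // ∃ g : G, ConjClasses.mk g = C ∧ orderOf g = 2} = 1 ∧ ∀ N : Subgroup G, N.Normal → N.index ≠ 2) ∨ (Nat.card {C : ConjClasses G // ∃ g : G, ConjClasses.mk g = C ∧ orderOf g = 2} = 2 ∧ (∃ N : Subgroup G, N.Normal ∧ N.index = 2) ∧ ∀ N : Subgroup G, N.Normal → N.index ≠ 4) ∨ (Nat.card {C : ConjClasses G // ∃ g : G, ConjClasses.mk g = C ∧ orderOf g = 2} = 3 ∧ Cfsg.HasNormalPComplement 2 G) := by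
  classical
  obtain ⟨k, rfl⟩ : ∃ k, n = k + 1 := ⟨n - 1, by omega⟩
  rw [Nat.add_sub_cancel] at hdih
  obtain ⟨e⟩ := hdih
  have hk : 2 ≤ k := by omega
  have hk1 : 1 ≤ k := by omega
  obtain ⟨z, hzdef⟩ : ∃ z, z = zG e := ⟨_, rfl⟩
  obtain ⟨a, hadef⟩ : ∃ a, a = toG e (sr 0) := ⟨_, rfl⟩
  obtain ⟨b, hbdef⟩ : ∃ b, b = toG e (sr 1) := ⟨_, rfl⟩
  have hoz : orderOf z = 2 := by rw [hzdef]; exact orderOf_zG e hk1
  have hoa : orderOf a = 2 := by rw [hadef]; exact orderOf_sr' e 0
  have hob : orderOf b = 2 := by rw [hbdef]; exact orderOf_sr' e 1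
  have haP : a ∈ (P : Subgroup G) := by rw [hadef]; exact toG_mem e _
  have hbP : b ∈ (P : Subgroup G) := by rw [hbdef]; exact toG_mem e _
  have haa : a * a = 1 := by rw [← pow_two, ← hoa]; exact pow_orderOf_eq_one a
  have hbb : b * b = 1 := by rw [← pow_two, ← hob]; exact pow_orderOf_eq_one b
  have heT : ∀ d, e ⟨toG e d, toG_mem e d⟩ = d := fun d => e.apply_symm_apply d
  -- the set of involution classes
  have hS : {C : ConjClasses G | ∃ g : G, ConjClasses.mk g = C ∧ orderOf g = 2}
      = {ConjClasses.mk z, ConjClasses.mk a, ConjClasses.mk b} := by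
    ext C
    simp only [Set.mem_ofPred_eq, Set.mem_insert_iff, Set.mem_singleton_iff]
    constructor
    · rintro ⟨g, rfl, hg⟩
      rcases invol_conj e hk1 g hg with h | h | h
      · left; rw [hzdef]; exact ConjClasses.mk_eq_mk_iff_isConj.mpr h
      · right; left; rw [hadef]; exact ConjClasses.mk_eq_mk_iff_isConj.mpr h
      · right; right; rw [hbdef]; exact ConjClasses.mk_eq_mk_iff_isConj.mpr h
    · rintro (h | h | h)
      · exact ⟨z, h.symm, hoz⟩
      · exact ⟨a, h.symm, hoa⟩
      · exact ⟨b, h.symm, hob⟩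
  have hcard : Nat.card {C : ConjClasses G // ∃ g : G, ConjClasses.mk g = C ∧ orderOf g = 2}
      = ({ConjClasses.mk z, ConjClasses.mk a, ConjClasses.mk b} : Set (ConjClasses G)).ncard := by
    rw [← hS]
    exact Nat.card_coe_set_eq _
  rw [hcard]
  have hPle : ∀ H : Subgroup G, a ∈ H → b ∈ H → (P : Subgroup G) ≤ H := by
    intro H ha hb
    exact le_of_mem e H (hadef ▸ ha) (hbdef ▸ hb)
  by_cases hA : IsConj a z <;> by_cases hB : IsConj b z
  · -- one class
    left
    have h1 : ConjClasses.mk a = ConjClasses.mk z := ConjClasses.mk_eq_mk_iff_isConj.mpr hA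
    have h2 : ConjClasses.mk b = ConjClasses.mk z := ConjClasses.mk_eq_mk_iff_isConj.mpr hB
    refine ⟨by rw [h1, h2]; simp, ?_⟩
    intro N hN hN2
    obtain ⟨ca, hca⟩ := isConj_iff.mp hA
    obtain ⟨cb, hcb⟩ := isConj_iff.mp hB
    by_cases hz : z ∈ N
    · have haN : a ∈ N := by
        have : a = ca⁻¹ * z * ca⁻¹⁻¹ := by rw [← hca]; group
        rw [this]; exact hN.conj_mem z hz _
      have hbN : b ∈ N := by
        have : b = cb⁻¹ * z * cb⁻¹⁻¹ := by rw [← hcb]; group
        rw [this]; exact hN.conj_mem z hz _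
      have := Subgroup.index_dvd_of_le (hPle N haN hbN)
      rw [hN2] at this
      exact P.not_dvd_index this
    · have haN : a ∉ N := fun h => hz (hca ▸ hN.conj_mem a h ca)
      have hbN : b ∉ N := fun h => hz (hcb ▸ hN.conj_mem b h cb)
      have hab : a * b ∈ N := by
        rw [Subgroup.mul_mem_iff_of_index_two hN2]
        exact ⟨fun h => absurd h haN, fun h => absurd h hbN⟩
      apply hz
      rw [hzdef, zG_eq_pow, ← hadef, ← hbdef]
      exact Subgroup.pow_mem _ hab _
  · -- two classes: a ~ z, b not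
    right; left
    have h1 : ConjClasses.mk a = ConjClasses.mk z := ConjClasses.mk_eq_mk_iff_isConj.mpr hA
    have h2 : ConjClasses.mk z ≠ ConjClasses.mk b := fun h =>
      hB (ConjClasses.mk_eq_mk_iff_isConj.mp h).symm
    refine ⟨by rw [h1, Set.insert_eq_of_mem (Set.mem_insert _ _)]; exact Set.ncard_pair h2, ?_, ?_⟩
    · obtain ⟨M, hM, hM2, -⟩ := exists_index_two e hk1 1 0 (Or.inl one_ne_zero) b hbP hob
        (by
          have : (⟨b, hbP⟩ : ↥(P : Subgroup G)) = ⟨toG e (sr 1), toG_mem e _⟩ := Subtype.ext hbdef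
          rw [this, heT, chi_sr, map_one]
          decide)
        (by
          intro t ht ht2 hχ hbt
          rcases invol_cases_G e hk1 ht ht2 with h | ⟨i, h⟩
          · rw [h, ← hzdef] at hbt; exact hB hbt
          · have : (⟨t, ht⟩ : ↥(P : Subgroup G)) = ⟨toG e (sr i), toG_mem e _⟩ := Subtype.ext h
            rw [this, heT, chi_sr, one_mul, add_zero] at hχ
            have hp : par k hk1 i = 0 := hχ
            obtain ⟨c, -, hc⟩ := (sr_isConj e hk1 i).1 hp
            have h3 : IsConj a t := by rw [hadef, h]; exact isConj_iff.mpr ⟨c, hc⟩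
            exact hB ((hbt.trans h3.symm).trans hA))
      exact ⟨M, hM, hM2⟩
    · intro N hN
      have := hN
      exact no_index_four e hk b a (fun H hb ha => hPle H ha hb) hbb (hzdef ▸ hA) N
  · -- two classes: b ~ z, a not
    right; left
    have h1 : ConjClasses.mk b = ConjClasses.mk z := ConjClasses.mk_eq_mk_iff_isConj.mpr hB
    have h2 : ConjClasses.mk z ≠ ConjClasses.mk a := fun h =>
      hA (ConjClasses.mk_eq_mk_iff_isConj.mp h).symm
    refine ⟨?_, ?_, ?_⟩
    · rw [h1]
      have : ({ConjClasses.mk z, ConjClasses.mk a, ConjClasses.mk z} : Set (ConjClasses G))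
          = {ConjClasses.mk z, ConjClasses.mk a} := by
        ext C; simp only [Set.mem_insert_iff, Set.mem_singleton_iff]; tauto
      rw [this]; exact Set.ncard_pair h2
    · obtain ⟨M, hM, hM2, -⟩ := exists_index_two e hk1 1 1 (Or.inl one_ne_zero) a haP hoa
        (by
          have : (⟨a, haP⟩ : ↥(P : Subgroup G)) = ⟨toG e (sr 0), toG_mem e _⟩ := Subtype.ext hadef
          rw [this, heT, chi_sr, map_zero]
          decide)
        (by
          intro t ht ht2 hχ hat
          rcases invol_cases_G e hk1 ht ht2 with h | ⟨i, h⟩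
          · rw [h, ← hzdef] at hat; exact hA hat
          · have : (⟨t, ht⟩ : ↥(P : Subgroup G)) = ⟨toG e (sr i), toG_mem e _⟩ := Subtype.ext h
            rw [this, heT, chi_sr, one_mul] at hχ
            have hp : par k hk1 i = 1 := by
              have h0 : par k hk1 i + 1 = 0 := hχ
              rcases zmod2_cases (par k hk1 i) with h5 | h5
              · rw [h5] at h0; exact absurd h0 (by decide)
              · exact h5
            obtain ⟨c, -, hc⟩ := (sr_isConj e hk1 i).2 hp
            have h3 : IsConj b t := by rw [hbdef, h]; exact isConj_iff.mpr ⟨c, hc⟩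
            exact hA ((hat.trans h3.symm).trans hB))
      exact ⟨M, hM, hM2⟩
    · intro N hN
      have := hN
      exact no_index_four e hk a b hPle haa (hzdef ▸ hB) N
  · -- three classes and a normal 2-complement
    right; right
    have hnpc : Cfsg.HasNormalPComplement 2 G := by
      apply (Cfsg.Agent.S1254.result P (2 ^ k) (by
        calc 2 = 2 ^ 1 := by norm_num
          _ ≤ 2 ^ k := Nat.pow_le_pow_right (by norm_num) hk1) e).mpr
      intro U hUP hU
      exact normalizer_klein e hk (by rw [← hadef, ← hzdef]; exact hA)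
        (by rw [← hbdef, ← hzdef]; exact hB) U hUP hU
    refine ⟨?_, hnpc⟩
    rw [Set.ncard_eq_three]
    refine ⟨_, _, _, ?_, ?_, ?_, rfl⟩
    · exact fun h => hA (ConjClasses.mk_eq_mk_iff_isConj.mp h).symm
    · exact fun h => hB (ConjClasses.mk_eq_mk_iff_isConj.mp h).symm
    · intro h
      have := ConjClasses.mk_eq_mk_iff_isConj.mp h
      rw [hadef, hbdef] at this
      exact not_conj_of_npc e hk1 hnpc this

end Cfsg.Agent.S3864
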