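import Cfsg.Statements.S3866
-- import your own Cfsg.Agent.* helpers here
import Mathlib

set_option autoImplicit false
open Cfsg

namespace Cfsg.Agent.S3866

open scoped commutatorElement


/-- Let A be a commutative normal subgroup of the finite group G with G generated by A and an element x. Then a ↦ x a x⁻¹ a⁻¹ is a surjective homomorphism from A onto the commutator subgroup of G whose kernel is the centralizer of x in A; in particular the commutator subgroup has order equal to the index in A of that centralizer. -/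
theorem result {G : Type*} [Group G] [Finite G] (A : Subgroup G) [A.Normal] (hA : IsMulCommutative A) (x : G) (hgen : A ⊔ Subgroup.zpowers x = ⊤) : (∀ a ∈ A, x * a * x⁻¹ * a⁻¹ ∈ commutator G) ∧ (∀ c ∈ commutator G, ∃ a ∈ A, x * a * x⁻¹ * a⁻¹ = c) ∧ (∀ a ∈ A, ∀ b ∈ A, x * (a * b) * x⁻¹ * (a * b)⁻¹ = (x * a * x⁻¹ * a⁻¹) * (x * b * x⁻¹ * b⁻¹)) ∧ Nat.card (commutator G) * Nat.card ↥(A ⊓ Subgroup.centralizer ({x} : Set G)) = Nat.card A := by
  classical
  have hAn : A.Normal := inferInstance
  have hcomm : ∀ a ∈ A, ∀ b ∈ A, a * b = b * a := fun a ha b hb => setLike_mul_comm (s := A) ha hb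
  have hxA : ∀ a ∈ A, x * a * x⁻¹ ∈ A := fun a ha => hAn.conj_mem a ha x
  have hcA : ∀ a ∈ A, x * a * x⁻¹ * a⁻¹ ∈ A := fun a ha => A.mul_mem (hxA a ha) (A.inv_mem ha)
  have part1 : ∀ a ∈ A, x * a * x⁻¹ * a⁻¹ ∈ commutator G := by
    intro a _
    rw [commutator_def, ← commutatorElement_def]
    exact Subgroup.commutator_mem_commutator (Subgroup.mem_top x) (Subgroup.mem_top a)
  have part3 : ∀ a ∈ A, ∀ b ∈ A, x * (a * b) * x⁻¹ * (a * b)⁻¹ = (x * a * x⁻¹ * a⁻¹) * (x * b * x⁻¹ * b⁻¹) := by
    intro a ha b hb
    have h1 := hcomm _ (A.inv_mem ha) _ (hcA b hb)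
    calc x * (a * b) * x⁻¹ * (a * b)⁻¹ = (x * a * x⁻¹) * ((x * b * x⁻¹ * b⁻¹) * a⁻¹) := by group
      _ = (x * a * x⁻¹) * (a⁻¹ * (x * b * x⁻¹ * b⁻¹)) := by rw [h1]
      _ = (x * a * x⁻¹ * a⁻¹) * (x * b * x⁻¹ * b⁻¹) := by group
  -- the homomorphism
  let φ : ↥A →* G := MonoidHom.mk' (fun a => x * (a : G) * x⁻¹ * (a : G)⁻¹) (by
    intro a b
    simpa using part3 a a.2 b b.2)
  have hφ : ∀ a : ↥A, φ a = x * (a : G) * x⁻¹ * (a : G)⁻¹ := fun a => rfl
  set D : Subgroup G := φ.range with hD
  have hDmem : ∀ d, d ∈ D ↔ ∃ a ∈ A, x * a * x⁻¹ * a⁻¹ = d := by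
    intro d
    constructor
    · rintro ⟨a, rfl⟩; exact ⟨a, a.2, rfl⟩
    · rintro ⟨a, ha, rfl⟩; exact ⟨⟨a, ha⟩, rfl⟩
  have hDA : D ≤ A := by
    intro d hd
    obtain ⟨a, ha, rfl⟩ := (hDmem d).mp hd
    exact hcA a ha
  have top_of : ∀ K : Subgroup G, A ≤ K → x ∈ K → K = ⊤ := by
    intro K hAK hxK
    rw [eq_top_iff, ← hgen]
    exact sup_le hAK (by rw [Subgroup.zpowers_le]; exact hxK)
  have hDn : D.Normal := by
    rw [← Subgroup.normalizer_eq_top_iff]
    apply top_of
    · intro a ha
      rw [Subgroup.mem_normalizer_iff]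
      intro d
      constructor
      · intro hd
        have : a * d * a⁻¹ = d := by
          rw [hcomm a ha d (hDA hd)]; group
        rw [this]; exact hd
      · intro hd
        have hdA : d ∈ A := by
          have : d = a⁻¹ * (a * d * a⁻¹) * a := by group
          rw [this]
          exact A.mul_mem (A.mul_mem (A.inv_mem ha) (hDA hd)) ha
        have : a * d * a⁻¹ = d := by
          rw [hcomm a ha d hdA]; group
        rw [this] at hd; exact hd
    · rw [Subgroup.mem_normalizer_iff]
      intro d
      constructor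
      · intro hd
        obtain ⟨a, ha, rfl⟩ := (hDmem d).mp hd
        rw [hDmem]
        exact ⟨x * a * x⁻¹, hxA a ha, by group⟩
      · intro hd
        obtain ⟨a, ha, hda⟩ := (hDmem _).mp hd
        rw [hDmem]
        refine ⟨x⁻¹ * a * x, hAn.conj_mem' a ha x, ?_⟩
        have : d = x⁻¹ * (x * d * x⁻¹) * x := by group
        rw [this, ← hda]; group
  -- quotient is commutative
  let π : G →* G ⧸ D := QuotientGroup.mk' D
  have hπ : ∀ g h : G, π g = π h ↔ g⁻¹ * h ∈ D := fun g h => QuotientGroup.eq
  have stage1 : ∀ g : G, π g * π x = π x * π g := by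
    have : (Subgroup.centralizer {π x}).comap π = ⊤ := by
      apply top_of
      · intro a ha
        rw [Subgroup.mem_comap, Subgroup.mem_centralizer_iff]
        intro z hz
        rw [Set.mem_singleton_iff] at hz
        rw [hz, ← map_mul, ← map_mul, hπ]
        have : (x * a)⁻¹ * (a * x) = x * (x⁻¹ * a⁻¹ * x) * x⁻¹ * (x⁻¹ * a⁻¹ * x)⁻¹ := by group
        rw [this, hDmem]
        exact ⟨x⁻¹ * a⁻¹ * x, hAn.conj_mem' a⁻¹ (A.inv_mem ha) x, rfl⟩
      · rw [Subgroup.mem_comap, Subgroup.mem_centralizer_iff]
        intro z hz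
        rw [Set.mem_singleton_iff] at hz
        rw [hz]
    intro g
    have hg : g ∈ (Subgroup.centralizer {π x}).comap π := by rw [this]; trivial
    rw [Subgroup.mem_comap, Subgroup.mem_centralizer_iff] at hg
    exact (hg (π x) rfl).symm
  have stage2 : ∀ a ∈ A, ∀ g : G, π g * π a = π a * π g := by
    intro a ha
    have : (Subgroup.centralizer {π a}).comap π = ⊤ := by
      apply top_of
      · intro b hb
        rw [Subgroup.mem_comap, Subgroup.mem_centralizer_iff]
        intro z hz
        rw [Set.mem_singleton_iff] at hz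
        rw [hz, ← map_mul, ← map_mul, hcomm a ha b hb]
      · rw [Subgroup.mem_comap, Subgroup.mem_centralizer_iff]
        intro z hz
        rw [Set.mem_singleton_iff] at hz
        rw [hz]
        exact stage1 a
    intro g
    have hg : g ∈ (Subgroup.centralizer {π a}).comap π := by rw [this]; trivial
    rw [Subgroup.mem_comap, Subgroup.mem_centralizer_iff] at hg
    exact (hg (π a) rfl).symm
  have stage3 : ∀ h g : G, π g * π h = π h * π g := by
    intro h
    have : (Subgroup.centralizer {π h}).comap π = ⊤ := by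
      apply top_of
      · intro b hb
        rw [Subgroup.mem_comap, Subgroup.mem_centralizer_iff]
        intro z hz
        rw [Set.mem_singleton_iff] at hz
        rw [hz]
        exact stage2 b hb h
      · rw [Subgroup.mem_comap, Subgroup.mem_centralizer_iff]
        intro z hz
        rw [Set.mem_singleton_iff] at hz
        rw [hz]
        exact stage1 h
    intro g
    have hg : g ∈ (Subgroup.centralizer {π h}).comap π := by rw [this]; trivial
    rw [Subgroup.mem_comap, Subgroup.mem_centralizer_iff] at hg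
    exact (hg (π h) rfl).symm
  have hcommD : commutator G ≤ D := by
    rw [commutator_def, Subgroup.commutator_le]
    intro g _ h _
    have : π ⁅g, h⁆ = 1 := by
      rw [map_commutatorElement, commutatorElement_eq_one_iff_mul_comm]
      exact stage3 h g
    exact (QuotientGroup.eq_one_iff _).mp this
  have hDeq : D = commutator G := by
    apply le_antisymm _ hcommD
    intro d hd
    obtain ⟨a, ha, rfl⟩ := (hDmem d).mp hd
    exact part1 a ha
  refine ⟨part1, ?_, part3, ?_⟩
  · intro c hc
    rw [← hDeq] at hc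
    exact (hDmem c).mp hc
  · have h1 : Nat.card φ.ker * φ.ker.index = Nat.card ↥A := Subgroup.card_mul_index _
    rw [Subgroup.index_ker] at h1
    have h2 : Nat.card ↥φ.range = Nat.card ↥(commutator G) := by
      rw [← hDeq]
    have h3 : Nat.card ↥φ.ker = Nat.card ↥(A ⊓ Subgroup.centralizer ({x} : Set G)) := by
      have hmap : φ.ker.map A.subtype = A ⊓ Subgroup.centralizer ({x} : Set G) := by
        ext g
        rw [Subgroup.mem_map, Subgroup.mem_inf, Subgroup.mem_centralizer_iff]
        constructor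
        · rintro ⟨a, ha, rfl⟩
          refine ⟨a.2, ?_⟩
          intro z hz
          rw [Set.mem_singleton_iff] at hz
          rw [hz]
          have h0 : x * (a : G) * x⁻¹ * (a : G)⁻¹ = 1 := ha
          have h00 : x * (a : G) = (x * (a : G) * x⁻¹ * (a : G)⁻¹) * (a : G) * x := by group
          show x * (a : G) = (a : G) * x
          rw [h00, h0, one_mul]
        · rintro ⟨hgA, hgC⟩
          refine ⟨⟨g, hgA⟩, ?_, rfl⟩
          rw [MonoidHom.mem_ker, hφ]
          have := hgC x rfl
          show x * g * x⁻¹ * g⁻¹ = 1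
          rw [this]; group
      rw [← hmap]
      exact (Subgroup.card_map_of_injective A.subtype_injective).symm
    rw [← h2, ← h3, mul_comm]
    exact h1

end Cfsg.Agent.S3866
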