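import Cfsg.Statements.S3870
-- import your own Cfsg.Agent.* helpers here
import Cfsg.Agent.Lib_helper19_Basic

set_option autoImplicit false
open Cfsg

namespace Cfsg.Agent.S3870

/-- Let G be a finite simple group whose Sylow p-subgroups are not normal but such that every proper subgroup of G has a normal Sylow p-subgroup. Then any two distinct Sylow p-subgroups of G intersect trivially, and for every Sylow p-subgroup P the normalizer of every non-identity subgroup of P lies in the normalizer of P. -/
theorem result {G : Type*} [Group G] [Finite G] [IsSimpleGroup G] {p : ℕ} [Fact p.Prime]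
    (hnc : ¬ Cfsg.IsPClosed p G) (hsub : ∀ H : Subgroup G, H ≠ ⊤ → Cfsg.IsPClosed p ↥H) :
    (∀ P Q : Sylow p G, P ≠ Q → (P : Subgroup G) ⊓ (Q : Subgroup G) = ⊥) ∧
      ∀ (P : Sylow p G) (R : Subgroup G), R ≤ P → R ≠ ⊥ →
        Subgroup.normalizer (R : Set G) ≤ Subgroup.normalizer ((P : Subgroup G) : Set G) := by
  classical
  have hpp : p.Prime := Fact.out
  -- TI property
  have hTI : ∀ (n : ℕ) (P Q : Sylow p G), Nat.card G - Nat.card ↥((P : Subgroup G) ⊓ (Q : Subgroup G)) = n →
      P ≠ Q → (P : Subgroup G) ⊓ (Q : Subgroup G) = ⊥ := by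
    intro n
    induction n using Nat.strong_induction_on with
    | _ n ih =>
    intro P Q hn hPQ
    by_contra hD
    set D : Subgroup G := (P : Subgroup G) ⊓ (Q : Subgroup G) with hDdef
    have hcardle : ∀ K : Subgroup G, Nat.card K ≤ Nat.card G := fun K => Subgroup.card_le_card_group K
    -- D < P and D < Q
    have hDP : D < (P : Subgroup G) := by
      refine lt_of_le_of_ne inf_le_left ?_
      intro h
      have hPQ' : (P : Subgroup G) ≤ Q := by rw [← h]; exact inf_le_right
      exact hPQ (Sylow.ext (P.is_maximal' Q.isPGroup' hPQ').symm)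
    have hDQ : D < (Q : Subgroup G) := by
      refine lt_of_le_of_ne inf_le_right ?_
      intro h
      have hQP' : (Q : Subgroup G) ≤ P := by rw [← h]; exact inf_le_left
      exact hPQ (Sylow.ext (Q.is_maximal' P.isPGroup' hQP'))
    -- normalizer of D is proper
    set N : Subgroup G := Subgroup.normalizer (D : Set G) with hNdef
    have hNtop : N ≠ ⊤ := by
      intro h
      have hDn : D.Normal := Subgroup.normalizer_eq_top_iff.mp h
      rcases hDn.eq_bot_or_eq_top with h1 | h1
      · exact hD h1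
      · have : (P : Subgroup G) = ⊤ := top_le_iff.mp (h1 ▸ hDP.le)
        exact absurd (h1 ▸ hDP) (by rw [this]; exact lt_irrefl _)
    have hNcl := hsub N hNtop
    obtain ⟨S⟩ : Nonempty (Sylow p ↥N) := inferInstance
    have hSn : (S : Subgroup ↥N).Normal := hNcl S
    -- the image of S in G
    set SG : Subgroup G := (S : Subgroup ↥N).map N.subtype with hSG
    have hSGp : IsPGroup p SG := S.isPGroup'.map _
    obtain ⟨P₁, hP₁⟩ := hSGp.exists_le_sylow
    have hcontain : ∀ (R : Sylow p G), D < (R : Subgroup G) → ∃ x, x ∈ (R : Subgroup G) ∧ x ∈ (P₁ : Subgroup G) ∧ x ∉ D := by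
      intro R hDR
      obtain ⟨x, hxR, hxN, hxD⟩ := helper19.pgroup_normalizer_lt (R : Subgroup G) D R.isPGroup' hDR
      refine ⟨x, hxR, ?_, hxD⟩
      apply hP₁
      -- x ∈ SG : the subgroup (R ⊓ N).subgroupOf N is a p-subgroup of N
      have hK : IsPGroup p ↥(((R : Subgroup G) ⊓ N).subgroupOf N) := by
        apply IsPGroup.comap_subtype
        exact R.isPGroup'.to_inf_left
      have hle := helper19.le_normal_sylow S hSn _ hK
      have hxmem : (⟨x, hxN⟩ : ↥N) ∈ ((R : Subgroup G) ⊓ N).subgroupOf N := by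
        rw [Subgroup.mem_subgroupOf]
        exact ⟨hxR, hxN⟩
      exact ⟨⟨x, hxN⟩, hle hxmem, rfl⟩
    have hDP₁ : D ≤ (P₁ : Subgroup G) := by
      intro d hd
      apply hP₁
      have hdN : d ∈ N := Subgroup.le_normalizer hd
      have hK : IsPGroup p ↥(D.subgroupOf N) := by
        apply IsPGroup.comap_subtype
        exact P.isPGroup'.to_le hDP.le
      have hle := helper19.le_normal_sylow S hSn _ hK
      exact ⟨⟨d, hdN⟩, hle (Subgroup.mem_subgroupOf.mpr hd), rfl⟩
    have heq : ∀ (R : Sylow p G), D < (R : Subgroup G) → D = (R : Subgroup G) ⊓ (Q : Subgroup G) ∨ D = (P : Subgroup G) ⊓ (R : Subgroup G) → P₁ = R := by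
      intro R hDR _
      by_contra hne
      obtain ⟨x, hxR, hxP₁, hxD⟩ := hcontain R hDR
      have hlt : D < (P₁ : Subgroup G) ⊓ (R : Subgroup G) := by
        refine lt_of_le_of_ne (le_inf hDP₁ hDR.le) ?_
        intro h
        exact hxD (h ▸ ⟨hxP₁, hxR⟩)
      have hcardlt : Nat.card D < Nat.card ↥((P₁ : Subgroup G) ⊓ (R : Subgroup G)) :=
        Set.Finite.card_lt_card (Set.toFinite _) hlt
      have hne' : (P₁ : Subgroup G) ⊓ (R : Subgroup G) ≠ ⊥ := by
        intro h
        rw [h] at hlt
        exact absurd hlt (not_lt_bot)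
      have := ih (Nat.card G - Nat.card ↥((P₁ : Subgroup G) ⊓ (R : Subgroup G))) (by
        have h1 := hcardle ((P₁ : Subgroup G) ⊓ (R : Subgroup G))
        have h2 := hcardle D
        omega) P₁ R rfl hne
      exact hne' this
    have h1 := heq P hDP (Or.inl rfl)
    have h2 := heq Q hDQ (Or.inr rfl)
    exact hPQ (h1.symm.trans h2)
  have hTI' : ∀ P Q : Sylow p G, P ≠ Q → (P : Subgroup G) ⊓ (Q : Subgroup G) = ⊥ :=
    fun P Q h => hTI _ P Q rfl h
  refine ⟨hTI', ?_⟩
  intro P R hRP hR g hg
  suffices hsuff : g • P = P from Sylow.smul_eq_iff_mem_normalizer.mp hsuff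
  by_contra hne
  have := hTI' (g • P) P hne
  apply hR
  rw [eq_bot_iff, ← this]
  refine le_inf ?_ hRP
  intro r hr
  rw [Sylow.coe_subgroup_smul, helper19.memsmul]
  apply hRP
  rw [Subgroup.mem_normalizer_iff''] at hg
  exact (hg r).mp hr

end Cfsg.Agent.S3870
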