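import Cfsg.Statements.S4209
-- import your own Cfsg.Agent.* helpers here
import Cfsg.Agent.Lib_helper19_HP2
import Cfsg.Agent.Lib_helper19_Regular

set_option autoImplicit false
open Cfsg

namespace Cfsg.Agent.S4209

open scoped commutatorElement


/-- A finite `p`-group of nilpotency class less than `p` (the term of index `p - 1` of the lower central series of the whole group, indexed from `0`, is trivial) is a regular `p`-group. -/
theorem result {G : Type*} [Group G] [Finite G] {p : ℕ} [Fact p.Prime] (hG : IsPGroup p G) (hcl : (⊤ : Subgroup G).lowerCentralSeries (p - 1) = ⊥) : Cfsg.IsRegularPGroup p G := by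
  have hp : p.Prime := Fact.out
  have hD1 : Cfsg.Agent.helper19.RegD p 1 G := by
    intro a b
    obtain ⟨H, hHdef⟩ : ∃ H : Subgroup G, H = Subgroup.closure ({a, b} : Set G) := ⟨_, rfl⟩
    rw [← hHdef]
    have haH : a ∈ H := by rw [hHdef]; exact Subgroup.subset_closure (by simp)
    have hbH : b ∈ H := by rw [hHdef]; exact Subgroup.subset_closure (by simp)
    have hH'H : ⁅H, H⁆ ≤ H :=
      Subgroup.commutator_le.2 (fun x hx y hy =>
        H.mul_mem (H.mul_mem (H.mul_mem hx hy) (H.inv_mem hx)) (H.inv_mem hy))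
    have hL : ∀ h ∈ H, ∀ u ∈ ⁅H, H⁆, h * u * h⁻¹ ∈ ⁅H, H⁆ := by
      intro h hh u hu
      have e : h * u * h⁻¹ = ⁅h, u⁆ * u := by rw [commutatorElement_def]; group
      rw [e]
      exact Subgroup.mul_mem _ (Subgroup.commutator_mem_commutator hh (hH'H hu)) hu
    obtain ⟨L, hLdef⟩ : ∃ L : Subgroup G, L = Cfsg.powerClosure p 1 ⁅H, H⁆ := ⟨_, rfl⟩
    rw [← hLdef]
    have hLn : (L.subgroupOf H).Normal := by
      constructor
      intro n hn g
      rw [Subgroup.mem_subgroupOf] at hn ⊢
      have h1 := Cfsg.Agent.helper19.powerClosure_conj_mem p 1 hL g.1 g.2 n.1 (hLdef ▸ hn)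
      rw [hLdef]
      simpa using h1
    have hcc := Cfsg.Agent.helper19.cc_all p (p - 1) le_rfl
    have hHcl : (⊤ : Subgroup H).lowerCentralSeries (p - 1) = ⊥ := by
      have h0 := Subgroup.top_subtype_lowerCentralSeries H (p - 1)
      have h1 : H.lowerCentralSeries (p - 1) = ⊥ :=
        le_bot_iff.1 (hcl ▸ Subgroup.lowerCentralSeries_mono (p - 1) le_top)
      rw [h1, Subgroup.map_eq_bot_iff_of_injective _ H.subtype_injective] at h0
      exact h0
    have hexp : ∀ u ∈ commutator H, u ^ p ∈ L.subgroupOf H := by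
      intro u hu
      rw [Subgroup.mem_subgroupOf]
      have hu' : (u : G) ∈ ⁅H, H⁆ := by
        have e : ⁅H, H⁆ = (commutator H).map H.subtype := by
          rw [commutator_def, Subgroup.map_commutator, ← MonoidHom.range_eq_map,
            Subgroup.range_subtype]
        rw [e]; exact Subgroup.mem_map_of_mem H.subtype hu
      have h1 := Cfsg.Agent.helper19.pow_mem_powerClosure p 1 hu'
      rw [pow_one] at h1
      rw [hLdef]
      simpa using h1
    have h1 := Cfsg.Agent.helper19.cc_quot hcc (L.subgroupOf H) (by rw [hHcl]; exact bot_le) hexp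
      ⟨a, haH⟩ ⟨b, hbH⟩
    rw [Subgroup.mem_subgroupOf] at h1
    refine ⟨(b ^ p)⁻¹ * (a ^ p)⁻¹ * (a * b) ^ p, ?_, ?_⟩
    · simpa using h1
    · rw [pow_one]; group
  exact ⟨hG, fun a b n => Cfsg.Agent.helper19.regD_all hG hD1 n a b⟩

end Cfsg.Agent.S4209
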