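import Cfsg.Statements.S3872
-- import your own Cfsg.Agent.* helpers here
import Cfsg.Agent.Lib_helper19_MinExp
import Cfsg.Agent.Lib_helper19_HP2
import Cfsg.Agent.Lib_helper19_Regular
import Cfsg.Agent.Lib_helper21_Regular
import Cfsg.Agent.S4209

set_option autoImplicit false
open Cfsg

namespace Cfsg.Agent.S3872

open scoped commutatorElement


/-- Say that a finite group is p-exponent closed when its elements of order dividing p form a subgroup. Let G be a finite p-group that is not p-exponent closed, but all of whose proper subgroups and proper quotients are. Then G is generated by two elements, has nilpotency class at least p, has exponent p², has cyclic center, and has order at least p^(p+1). -/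
theorem result {G : Type*} [Group G] [Finite G] {p : ℕ} [Fact p.Prime] (hG : IsPGroup p G)
    (hnc : ¬ (∃ H : Subgroup G, (H : Set G) = {g : G | g ^ p = 1})) (hsub : ∀ K : Subgroup G, K ≠ ⊤ → (∃ H : Subgroup ↥K, (H : Set ↥K) = {g : ↥K | g ^ p = 1}))
    (hquo : ∀ (N : Subgroup G) [N.Normal], N ≠ ⊥ → (∃ H : Subgroup (G ⧸ N), (H : Set (G ⧸ N)) = {g : (G ⧸ N) | g ^ p = 1})) :
    (∃ x y : G, Subgroup.closure ({x, y} : Set G) = ⊤) ∧ (⊤ : Subgroup G).lowerCentralSeries (p - 1) ≠ ⊥ ∧
      Monoid.exponent G = p ^ 2 ∧ IsCyclic ↥(Subgroup.center G) ∧ p ^ (p + 1) ≤ Nat.card G := by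
  have hp : p.Prime := Fact.out
  -- Step 1
  have h1 : ∃ x y : G, x ^ p = 1 ∧ y ^ p = 1 ∧ (x * y) ^ p ≠ 1 := by
    by_contra hcon
    push Not at hcon
    exact hnc (Cfsg.Agent.helper19.subgroup_of_closed (fun a b ha hb => hcon a b ha hb))
  obtain ⟨x, y, hx, hy, hxy⟩ := h1
  -- Step 2
  have hgen : Subgroup.closure ({x, y} : Set G) = ⊤ := by
    by_contra hne
    have hxK : x ∈ Subgroup.closure ({x, y} : Set G) := Subgroup.subset_closure (by simp)
    have hyK : y ∈ Subgroup.closure ({x, y} : Set G) := Subgroup.subset_closure (by simp)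
    have h2 := Cfsg.Agent.helper19.closed_of_subgroup (hsub _ hne)
      (a := ⟨x, hxK⟩) (b := ⟨y, hyK⟩) (Subtype.ext (by simpa using hx))
      (Subtype.ext (by simpa using hy))
    apply hxy
    have h3 := congrArg Subtype.val h2
    simpa using h3
  -- Step 3
  have hclass : (⊤ : Subgroup G).lowerCentralSeries (p - 1) ≠ ⊥ := by
    intro hcl
    have hreg := Cfsg.Agent.S4209.result hG hcl
    have h2 := (Cfsg.Agent.helper21.reg_pow_eq_iff hreg x y⁻¹ 1).1
      (by rw [pow_one, hx, inv_pow, hy, inv_one])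
    rw [inv_inv, pow_one] at h2
    exact hxy h2
  -- lemma A
  have hA : ∀ (N : Subgroup G) [N.Normal], N ≠ ⊥ → ∀ g : G, g ^ p ∈ N := by
    intro N _ hN g
    obtain ⟨H, hH⟩ := hquo N hN
    have hxH : x ∈ H.comap (QuotientGroup.mk' N) := by
      rw [Subgroup.mem_comap, ← SetLike.mem_coe, hH]
      show (QuotientGroup.mk' N x) ^ p = 1
      rw [← map_pow, hx, map_one]
    have hyH : y ∈ H.comap (QuotientGroup.mk' N) := by
      rw [Subgroup.mem_comap, ← SetLike.mem_coe, hH]
      show (QuotientGroup.mk' N y) ^ p = 1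
      rw [← map_pow, hy, map_one]
    have hle : Subgroup.closure ({x, y} : Set G) ≤ H.comap (QuotientGroup.mk' N) :=
      Cfsg.Agent.helper19.closure_pair_le hxH hyH
    have hg : g ∈ H.comap (QuotientGroup.mk' N) := hle (hgen ▸ Subgroup.mem_top g)
    rw [Subgroup.mem_comap, ← SetLike.mem_coe, hH] at hg
    have hg' : (QuotientGroup.mk' N g) ^ p = 1 := hg
    rw [← map_pow] at hg'
    exact (QuotientGroup.eq_one_iff _).1 hg'
  -- central elements of order p
  have hAz : ∀ z ∈ Subgroup.center G, z ≠ 1 → ∀ g : G, g ^ p ∈ Subgroup.zpowers z := by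
    intro z hz hz1 g
    have hn : (Subgroup.zpowers z).Normal := by
      constructor
      intro n hn t
      obtain ⟨i, rfl⟩ := Subgroup.mem_zpowers_iff.1 hn
      have hc : z ^ i ∈ Subgroup.center G := Subgroup.zpow_mem _ hz i
      have e : t * z ^ i * t⁻¹ = z ^ i := by
        rw [Subgroup.mem_center_iff.1 hc t]; group
      rw [e]; exact Subgroup.zpow_mem _ (Subgroup.mem_zpowers z) i
    apply hA (Subgroup.zpowers z)
    intro h0
    apply hz1
    have := Subgroup.mem_zpowers z
    rw [h0, Subgroup.mem_bot] at this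
    exact this
  have hxy1 : x * y ≠ 1 := by
    intro h0
    apply hxy; rw [h0, one_pow]
  have : Nontrivial G := ⟨⟨x * y, 1, hxy1⟩⟩
  have hcen := IsPGroup.bot_lt_center hG
  -- Step 4: exponent
  have hexp : Monoid.exponent G = p ^ 2 := by
    obtain ⟨z, hzc, hz1⟩ := SetLike.exists_of_lt hcen
    rw [Subgroup.mem_bot] at hz1
    -- pick an element of order p in zpowers z
    obtain ⟨k, hk⟩ := hG z
    -- find z' of order p
    have hex : ∃ z' ∈ Subgroup.center G, z' ≠ 1 ∧ z' ^ p = 1 := by
      have hord : orderOf z ∣ p ^ k := orderOf_dvd_of_pow_eq_one hk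
      obtain ⟨m, _, hm⟩ := (Nat.dvd_prime_pow hp).1 hord
      have hm0 : m ≠ 0 := by
        rintro rfl
        rw [pow_zero, orderOf_eq_one_iff] at hm
        exact hz1 hm
      obtain ⟨m', rfl⟩ : ∃ m', m = m' + 1 := ⟨m - 1, by omega⟩
      refine ⟨z ^ (p ^ m'), Subgroup.pow_mem _ hzc _, ?_, ?_⟩
      · intro h0
        have h3 := orderOf_dvd_of_pow_eq_one h0
        rw [hm] at h3
        have h4 := Nat.le_of_dvd (pow_pos hp.pos _) h3
        have h5 : p ^ m' < p ^ (m' + 1) := Nat.pow_lt_pow_right hp.one_lt (Nat.lt_succ_self _)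
        omega
      · rw [← pow_mul, ← pow_succ, ← hm, pow_orderOf_eq_one]
    obtain ⟨z', hz'c, hz'1, hz'p⟩ := hex
    have hall : ∀ g : G, g ^ (p ^ 2) = 1 := by
      intro g
      obtain ⟨i, hi⟩ := Subgroup.mem_zpowers_iff.1 (hAz z' hz'c hz'1 g)
      rw [pow_two, pow_mul, ← hi, ← zpow_natCast, ← zpow_mul, mul_comm, zpow_mul, zpow_natCast, hz'p,
        one_zpow]
    have hdvd : Monoid.exponent G ∣ p ^ 2 := Monoid.exponent_dvd_of_forall_pow_eq_one hall
    obtain ⟨m, hm2, hm⟩ := (Nat.dvd_prime_pow hp).1 hdvd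
    have hm2' : m = 2 := by
      by_contra hne
      have hm1 : m ≤ 1 := by omega
      apply hxy
      have h3 : Monoid.exponent G ∣ p := by
        rw [hm]
        calc p ^ m ∣ p ^ 1 := Nat.pow_dvd_pow p hm1
          _ = p := pow_one p
      obtain ⟨q, hq⟩ := h3
      rw [hq, pow_mul, Monoid.pow_exponent_eq_one, one_pow]
    rw [hm, hm2']
  -- Step 5: cyclic centre
  have hcyc : IsCyclic ↥(Subgroup.center G) := by
    obtain ⟨t, htdef⟩ : ∃ t : G, t = (x * y) ^ p := ⟨_, rfl⟩
    have ht1 : t ≠ 1 := htdef ▸ hxy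
    have hcard_zp : ∀ z : G, z ≠ 1 → z ^ p = 1 → Nat.card (Subgroup.zpowers z) = p := by
      intro z hz1 hzp
      rw [Nat.card_zpowers]
      exact orderOf_eq_prime hzp hz1
    have hkey : ∀ z ∈ Subgroup.center G, z ^ p = 1 → z ∈ Subgroup.zpowers t := by
      intro z hzc hzp
      by_cases hz1 : z = 1
      · rw [hz1]; exact Subgroup.one_mem _
      have htz : t ∈ Subgroup.zpowers z := htdef ▸ hAz z hzc hz1 (x * y)
      have htp : t ^ p = 1 := by
        obtain ⟨i, hi⟩ := Subgroup.mem_zpowers_iff.1 htz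
        rw [← hi, ← zpow_natCast, ← zpow_mul, mul_comm, zpow_mul, zpow_natCast, hzp, one_zpow]
      have hle : Subgroup.zpowers t ≤ Subgroup.zpowers z := by
        rw [Subgroup.zpowers_le]; exact htz
      have heq : Subgroup.zpowers t = Subgroup.zpowers z :=
        Subgroup.eq_of_le_of_card_ge hle (by rw [hcard_zp z hz1 hzp, hcard_zp t ht1 htp])
      rw [heq]; exact Subgroup.mem_zpowers z
    have htp : t ^ p = 1 := by
      obtain ⟨z, hzc, hz1⟩ := SetLike.exists_of_lt hcen
      rw [Subgroup.mem_bot] at hz1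
      have htz : t ∈ Subgroup.zpowers z := htdef ▸ hAz z hzc hz1 (x * y)
      have h2 := hexp
      -- t ∈ zpowers z is central; t = (xy)^p so t^p = (xy)^(p^2) = 1
      rw [htdef, ← pow_mul, ← pow_two, ← hexp, Monoid.pow_exponent_eq_one]
    apply Cfsg.Agent.helper7.isCyclic_of_card_omega_le (p := p)
    · intro a b
      exact Subtype.ext (by
        rw [Subgroup.coe_mul, Subgroup.coe_mul]
        exact (Subgroup.mem_center_iff.1 b.2 a.1))
    · exact hG.to_subgroup _
    · have hcz := hcard_zp t ht1 htp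
      refine le_of_le_of_eq ?_ hcz
      let f : {a : Subgroup.center G // a ^ p = 1} → Subgroup.zpowers t :=
        fun a => ⟨a.1.1, hkey a.1.1 a.1.2 (by
          have h2 := congrArg Subtype.val a.2
          simpa using h2)⟩
      apply Nat.card_le_card_of_injective f
      intro a b hab
      have h2 := congrArg Subtype.val hab
      exact Subtype.ext (Subtype.ext h2)
  exact ⟨⟨x, y, hgen⟩, hclass, hexp, hcyc, Cfsg.Agent.helper19.card_ge_of_class_ge hG hclass⟩

end Cfsg.Agent.S3872
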