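import Cfsg.Statements.S3878
import Cfsg.Agent.Lib_helper18_HallSym

set_option autoImplicit false
open Cfsg

namespace Cfsg.Agent.S3878

open Equiv

theorem epi_of_le_one (π : Set ℕ)
    (h : ∀ p q : ℕ, p.Prime → q.Prime → p ∈ π → q ∈ π → p = q)
    (G : Type) [Group G] [Finite G] : Cfsg.IsEPiGroup π G := by
  unfold Cfsg.IsEPiGroup Cfsg.IsPiHall
  by_cases hex : ∃ p, p.Prime ∧ p ∈ π
  · obtain ⟨p, hp, hpπ⟩ := hex
    haveI : Fact p.Prime := ⟨hp⟩
    obtain ⟨P⟩ : Nonempty (Sylow p G) := inferInstance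
    refine ⟨P, ?_, ?_⟩
    · intro l hl hdvd
      obtain ⟨k, hk⟩ := IsPGroup.iff_card.mp P.isPGroup'
      rw [hk] at hdvd
      have := (Nat.prime_dvd_prime_iff_eq hl hp).mp (hl.dvd_of_dvd_pow hdvd)
      rw [this]; exact hpπ
    · intro l hl hlπ
      have := h l p hl hp hlπ hpπ
      rw [this]; exact P.not_dvd_index
  · push Not at hex
    refine ⟨⊥, ?_, ?_⟩
    · intro l hl hdvd
      rw [Subgroup.card_bot] at hdvd
      exact absurd hdvd hl.not_dvd_one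
    · intro l hl hlπ
      exact absurd hlπ (hex l hl)

theorem epi_of_all (π : Set ℕ) (h : ∀ p : ℕ, p.Prime → p ∈ π)
    (G : Type) [Group G] [Finite G] : Cfsg.IsEPiGroup π G := by
  unfold Cfsg.IsEPiGroup Cfsg.IsPiHall
  refine ⟨⊤, fun l hl _ => h l hl, fun l hl _ => ?_⟩
  rw [Subgroup.index_top]
  exact hl.not_dvd_one

theorem dpi_of_le_one (π : Set ℕ)
    (h : ∀ p q : ℕ, p.Prime → q.Prime → p ∈ π → q ∈ π → p = q)
    (G : Type) [Group G] [Finite G] : Cfsg.IsDPiGroup π G := by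
  unfold Cfsg.IsDPiGroup
  intro H K hH hK
  by_cases hex : ∃ p, p.Prime ∧ p ∈ π
  · obtain ⟨p, hp, hpπ⟩ := hex
    haveI : Fact p.Prime := ⟨hp⟩
    have key : ∀ L : Subgroup G, Cfsg.IsPiSubgroup π L ↔ IsPGroup p L := by
      intro L
      constructor
      · intro hL
        have hne : Nat.card L ≠ 0 := Nat.card_pos.ne'
        have := Nat.eq_prime_pow_of_unique_prime_dvd hne (p := p)
          (fun {d} hd hdvd => h d p hd hp (hL d hd hdvd) hpπ)
        exact IsPGroup.of_card this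
      · intro hL l hl hdvd
        obtain ⟨k, hk⟩ := IsPGroup.iff_card.mp hL
        rw [hk] at hdvd
        have := (Nat.prime_dvd_prime_iff_eq hl hp).mp (hl.dvd_of_dvd_pow hdvd)
        rw [this]; exact hpπ
    have mk : ∀ L : Subgroup G, Maximal (Cfsg.IsPiSubgroup π) L →
        ∃ P : Sylow p G, (P : Subgroup G) = L := by
      intro L hL
      refine ⟨⟨L, (key L).mp hL.prop, ?_⟩, rfl⟩
      intro Q hQ hLQ
      exact le_antisymm (hL.le_of_ge ((key Q).mpr hQ) hLQ) hLQ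
    obtain ⟨P, rfl⟩ := mk H hH
    obtain ⟨Q, rfl⟩ := mk K hK
    obtain ⟨g, hg⟩ := MulAction.exists_smul_eq G P Q
    refine ⟨g, ?_⟩
    rw [← hg, Sylow.smul_def, Sylow.pointwise_smul_def]
    rfl
  · push Not at hex
    have triv : ∀ L : Subgroup G, Cfsg.IsPiSubgroup π L → L = ⊥ := by
      intro L hL
      apply Subgroup.card_eq_one.mp
      by_contra hne
      obtain ⟨l, hl, hdvd⟩ := Nat.exists_prime_and_dvd hne
      exact hex l hl (hL l hl hdvd)
    refine ⟨1, ?_⟩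
    rw [triv H hH.prop, triv K hK.prop, Subgroup.map_bot]

theorem dpi_of_all (π : Set ℕ) (h : ∀ p : ℕ, p.Prime → p ∈ π)
    (G : Type) [Group G] [Finite G] : Cfsg.IsDPiGroup π G := by
  unfold Cfsg.IsDPiGroup
  intro H K hH hK
  have top : ∀ L : Subgroup G, Maximal (Cfsg.IsPiSubgroup π) L → L = ⊤ := fun L hL =>
    top_le_iff.mp (hL.le_of_ge (fun l hl _ => h l hl) le_top)
  refine ⟨1, ?_⟩
  rw [top H hH, top K hK]
  exact (Subgroup.map_top_of_surjective _ (MulEquiv.surjective _)).symm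

theorem r_le (p r : ℕ) (hp : p.Prime) : r ≤ p ^ (r + 2) := by
  have h1 : r < 2 ^ r := Nat.lt_two_pow_self
  have h2 : 2 ^ r ≤ p ^ r := Nat.pow_le_pow_left hp.two_le r
  have h3 : p ^ r ≤ p ^ (r + 2) := Nat.pow_le_pow_right hp.pos (by omega)
  omega

theorem no_epi (π : Set ℕ) {p q r : ℕ} (hp : p.Prime) (hq : q.Prime) (hr : r.Prime)
    (hpπ : p ∈ π) (hqπ : q ∈ π) (hrπ : r ∉ π) (hqp : q < p) :
    ¬ Cfsg.IsEPiGroup π (Perm (Fin (p ^ (r + 2)))) := by
  rintro ⟨H, h1, h2⟩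
  have := Cfsg.Agent.helper18.HallSym.core (α := Fin (p ^ (r + 2))) hp hq hr hqp (by omega)
    (r_le p r hp) (Fintype.card_fin _) H (h2 p hp hpπ) (h2 q hq hqπ)
  exact hrπ (h1 r hr this)

theorem no_dpi (π : Set ℕ) {p q r : ℕ} (hp : p.Prime) (hq : q.Prime) (hr : r.Prime)
    (hpπ : p ∈ π) (hqπ : q ∈ π) (hrπ : r ∉ π) (hqp : q < p) :
    ¬ Cfsg.IsDPiGroup π (Perm (Fin (p ^ (r + 2)))) := by
  intro hD
  haveI : Fact p.Prime := ⟨hp⟩
  haveI : Fact q.Prime := ⟨hq⟩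
  have sylpi : ∀ (l : ℕ) [Fact l.Prime], l ∈ π → ∀ P : Sylow l (Perm (Fin (p ^ (r + 2)))),
      Cfsg.IsPiSubgroup π (P : Subgroup (Perm (Fin (p ^ (r + 2))))) := by
    intro l _ hlπ P l' hl' hdvd
    obtain ⟨k, hk⟩ := IsPGroup.iff_card.mp P.isPGroup'
    rw [hk] at hdvd
    have := (Nat.prime_dvd_prime_iff_eq hl' Fact.out).mp (hl'.dvd_of_dvd_pow hdvd)
    rw [this]; exact hlπ
  obtain ⟨P⟩ : Nonempty (Sylow p (Perm (Fin (p ^ (r + 2))))) := inferInstance
  obtain ⟨Q⟩ : Nonempty (Sylow q (Perm (Fin (p ^ (r + 2))))) := inferInstance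
  obtain ⟨Mp, hPM, hMp⟩ := Finite.exists_le_maximal (p := Cfsg.IsPiSubgroup π) (sylpi p hpπ P)
  obtain ⟨Mq, hQM, hMq⟩ := Finite.exists_le_maximal (p := Cfsg.IsPiSubgroup π) (sylpi q hqπ Q)
  obtain ⟨g, hg⟩ := hD Mp Mq hMp hMq
  have hpi : ¬ p ∣ Mp.index := fun hdvd =>
    P.not_dvd_index (dvd_trans hdvd (Subgroup.index_dvd_of_le hPM))
  have hqi' : ¬ q ∣ Mq.index := fun hdvd =>
    Q.not_dvd_index (dvd_trans hdvd (Subgroup.index_dvd_of_le hQM))
  have hidx : Mq.index = Mp.index := by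
    rw [hg]
    exact Subgroup.index_map_equiv Mp (MulAut.conj g)
  rw [hidx] at hqi'
  have := Cfsg.Agent.helper18.HallSym.core (α := Fin (p ^ (r + 2))) hp hq hr hqp (by omega)
    (r_le p r hp) (Fintype.card_fin _) Mp hpi hqi'
  exact hrπ (hMp.prop r hr this)

/-- For a set of primes π the following are equivalent: every finite group has a Hall π-subgroup; in every finite group the maximal π-subgroups are pairwise conjugate; π contains at most one prime or contains every prime. -/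
theorem result (π : Set ℕ) :
    ((∀ (G : Type) [Group G] [Finite G], Cfsg.IsEPiGroup π G) ↔
      ((∀ p q : ℕ, p.Prime → q.Prime → p ∈ π → q ∈ π → p = q) ∨ ∀ p : ℕ, p.Prime → p ∈ π)) ∧
    ((∀ (G : Type) [Group G] [Finite G], Cfsg.IsDPiGroup π G) ↔
      ((∀ p q : ℕ, p.Prime → q.Prime → p ∈ π → q ∈ π → p = q) ∨ ∀ p : ℕ, p.Prime → p ∈ π)) := by
  have neg : ¬ ((∀ p q : ℕ, p.Prime → q.Prime → p ∈ π → q ∈ π → p = q) ∨
      ∀ p : ℕ, p.Prime → p ∈ π) →
      ∃ p q r : ℕ, p.Prime ∧ q.Prime ∧ r.Prime ∧ p ∈ π ∧ q ∈ π ∧ r ∉ π ∧ q < p := by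
    intro h
    push Not at h
    obtain ⟨⟨p, q, hp, hq, hpπ, hqπ, hne⟩, ⟨r, hr, hrπ⟩⟩ := h
    rcases lt_or_gt_of_ne hne with h | h
    · exact ⟨q, p, r, hq, hp, hr, hqπ, hpπ, hrπ, h⟩
    · exact ⟨p, q, r, hp, hq, hr, hpπ, hqπ, hrπ, h⟩
  constructor
  · constructor
    · intro hall
      by_contra hcon
      obtain ⟨p, q, r, hp, hq, hr, hpπ, hqπ, hrπ, hqp⟩ := neg hcon
      exact no_epi π hp hq hr hpπ hqπ hrπ hqp (hall _)
    · rintro (h | h) G _ _
      · exact epi_of_le_one π h G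
      · exact epi_of_all π h G
  · constructor
    · intro hall
      by_contra hcon
      obtain ⟨p, q, r, hp, hq, hr, hpπ, hqπ, hrπ, hqp⟩ := neg hcon
      exact no_dpi π hp hq hr hpπ hqπ hrπ hqp (hall _)
    · rintro (h | h) G _ _
      · exact dpi_of_le_one π h G
      · exact dpi_of_all π h G

end Cfsg.Agent.S3878
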