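import Cfsg.Statements.S3881
-- import your own Cfsg.Agent.* helpers here
import Mathlib
import Cfsg.Agent.Lib_helper19_Meta2

set_option autoImplicit false
open Cfsg

namespace Cfsg.Agent.S3881

/-- Let p be an odd prime and G a finite metacyclic p-group (G has a cyclic normal subgroup with cyclic quotient). Suppose G is non-abelian with |G'| = p^n. Then for 1 ≤ i ≤ n the number of elements of G whose conjugacy class has exactly p^i elements is |Z(G)| · (p^(2i) − p^(2i−2)). -/
theorem result {G : Type*} [Group G] [Finite G] {p : ℕ} [Fact p.Prime] (hp : p ≠ 2) (hG : IsPGroup p G) (hmc : Cfsg.IsMetacyclic G) (n : ℕ) (hn : n ≠ 0) (hGn : Nat.card ↥(commutator G) = p ^ n) (i : ℕ) (hi : 1 ≤ i) (hin : i ≤ n) :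
    Nat.card {g : G // (Subgroup.centralizer ({g} : Set G)).index = p ^ i} =
      Nat.card ↥(Subgroup.center G) * (p ^ (2 * i) - p ^ (2 * i - 2)) := by
  have hpp : p.Prime := Fact.out
  obtain ⟨hM1, -, -, -⟩ := Cfsg.Agent.helper19.meta_main hp hG hmc
  obtain ⟨K1, hK1i, hK1c, -⟩ := Cfsg.Agent.helper19.meta_K hp hG hmc n hGn (n - i) (Nat.sub_le n i)
  obtain ⟨K2, hK2i, hK2c, -⟩ := Cfsg.Agent.helper19.meta_K hp hG hmc n hGn (n - i + 1) (by omega)
  have e1 : n - (n - i) = i := by omega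
  have e2 : n - (n - i + 1) = i - 1 := by omega
  rw [e1] at hK1c
  rw [e2] at hK2c
  have hZ := Subgroup.card_mul_index (Subgroup.center G)
  rw [hM1, hGn] at hZ
  have hc1 := Subgroup.card_mul_index K1
  have hc2 := Subgroup.card_mul_index K2
  rw [hK1i] at hc1
  rw [hK2i] at hc2
  have hcardK1 : Nat.card K1 = Nat.card (Subgroup.center G) * p ^ (2 * i) := by
    apply Nat.eq_of_mul_eq_mul_right (pow_pos hpp.pos (2 * (n - i)))
    rw [hc1, ← hZ, mul_assoc, ← pow_add, ← pow_mul]
    congr 2; omega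
  have hcardK2 : Nat.card K2 = Nat.card (Subgroup.center G) * p ^ (2 * i - 2) := by
    apply Nat.eq_of_mul_eq_mul_right (pow_pos hpp.pos (2 * (n - i + 1)))
    rw [hc2, ← hZ, mul_assoc, ← pow_add, ← pow_mul]
    congr 2; omega
  have hset : {g : G | (Subgroup.centralizer ({g} : Set G)).index = p ^ i} =
      (K1 : Set G) \ (K2 : Set G) := by
    ext g
    simp only [Set.mem_ofPred_eq, Set.mem_sdiff, SetLike.mem_coe, hK1c, hK2c]
    obtain ⟨e, he⟩ := hG.index (Subgroup.centralizer ({g} : Set G))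
    rw [he, Nat.pow_le_pow_iff_right hpp.one_lt, Nat.pow_le_pow_iff_right hpp.one_lt,
      Nat.pow_right_injective hpp.two_le |>.eq_iff]
    omega
  have hK21 : (K2 : Set G) ⊆ K1 := by
    intro g hg
    rw [SetLike.mem_coe, hK2c] at hg
    rw [SetLike.mem_coe, hK1c]
    exact le_trans hg (Nat.pow_le_pow_right hpp.pos (by omega))
  calc Nat.card {g : G // (Subgroup.centralizer ({g} : Set G)).index = p ^ i}
      = Nat.card ↥((K1 : Set G) \ (K2 : Set G)) := by rw [← hset]; rfl
    _ = ((K1 : Set G) \ (K2 : Set G)).ncard := Nat.card_coe_set_eq _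
    _ = (K1 : Set G).ncard - (K2 : Set G).ncard := Set.ncard_sdiff hK21 (Set.toFinite _)
    _ = Nat.card K1 - Nat.card K2 := by
      rw [← Nat.card_coe_set_eq, ← Nat.card_coe_set_eq]; rfl
    _ = _ := by rw [hcardK1, hcardK2, Nat.mul_sub]

end Cfsg.Agent.S3881
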