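import Cfsg.Statements.S3882
-- import your own Cfsg.Agent.* helpers here
import Mathlib
import Cfsg.Agent.Lib_helper19_Meta2

set_option autoImplicit false
open Cfsg

namespace Cfsg.Agent.S3882

/-- Let p be an odd prime and G a finite metacyclic p-group (G has a cyclic normal subgroup with cyclic quotient). Suppose |G'| = p^n and 0 ≤ s ≤ n. Then an element g lies in the subgroup generated by the p^s-th powers if and only if its conjugacy class has at most p^(n−s) elements; in particular the subgroup generated by the p^n-th powers is the center of G. -/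
theorem result {G : Type*} [Group G] [Finite G] {p : ℕ} [Fact p.Prime] (hp : p ≠ 2) (hG : IsPGroup p G) (hmc : Cfsg.IsMetacyclic G) (n : ℕ) (hGn : Nat.card ↥(commutator G) = p ^ n) (s : ℕ) (hs : s ≤ n) (g : G) :
    (g ∈ Subgroup.closure {x : G | ∃ y : G, y ^ p ^ s = x} ↔ (Subgroup.centralizer ({g} : Set G)).index ≤ p ^ (n - s)) ∧
      Subgroup.closure {x : G | ∃ y : G, y ^ p ^ n = x} = Subgroup.center G := by
  obtain ⟨K, -, hKc, hKe⟩ := Cfsg.Agent.helper19.meta_K hp hG hmc n hGn s hs
  obtain ⟨K', -, hKc', hKe'⟩ := Cfsg.Agent.helper19.meta_K hp hG hmc n hGn n le_rfl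
  refine ⟨?_, ?_⟩
  · rw [← hKe]; exact hKc g
  · rw [← hKe']
    ext u
    rw [hKc', Nat.sub_self, pow_zero, Subgroup.mem_center_iff]
    constructor
    · intro h
      have h1 : (Subgroup.centralizer ({u} : Set G)).index = 1 := by
        have := Subgroup.index_ne_zero_of_finite (H := Subgroup.centralizer ({u} : Set G))
        omega
      rw [Subgroup.index_eq_one] at h1
      intro w
      have : w ∈ Subgroup.centralizer ({u} : Set G) := by rw [h1]; trivial
      rw [Subgroup.mem_centralizer_iff] at this
      exact (this u (Set.mem_singleton u)).symm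
    · intro h
      have : Subgroup.centralizer ({u} : Set G) = ⊤ := by
        rw [eq_top_iff]
        intro w _
        rw [Subgroup.mem_centralizer_iff]
        intro v hv
        rw [Set.mem_singleton_iff] at hv
        subst hv
        exact (h w).symm
      rw [this, Subgroup.index_top]

end Cfsg.Agent.S3882
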