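import Cfsg.Statements.S3883
-- import your own Cfsg.Agent.* helpers here
import Mathlib
import Cfsg.Agent.Lib_helper19_Meta3
import Cfsg.Agent.Lib_helper1_ElemAb

set_option autoImplicit false
open Cfsg

namespace Cfsg.Agent.S3883

/-- Let p be an odd prime and G a finite metacyclic p-group (G has a cyclic normal subgroup with cyclic quotient). Suppose G is non-abelian. Then an element g of G lies outside the Frattini subgroup if and only if its centralizer C_G(g) is abelian. -/
theorem result {G : Type*} [Group G] [Finite G] {p : ℕ} [Fact p.Prime] (hp : p ≠ 2) (hG : IsPGroup p G) (hmc : Cfsg.IsMetacyclic G) (hna : ¬ IsMulCommutative G) (g : G) :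
    g ∉ frattini G ↔ IsMulCommutative ↥(Subgroup.centralizer ({g} : Set G)) := by
  have hpp : p.Prime := Fact.out
  obtain ⟨n, hn⟩ := (hG.to_subgroup (commutator G)).exists_card_eq
  have hn0 : n ≠ 0 := by
    intro h0
    rw [h0, pow_zero] at hn
    exact hna (Cfsg.Agent.helper19.not_isMulCommutative_iff_card_commutator.mpr hn)
  obtain ⟨K, hKi, hKc, hKe⟩ := Cfsg.Agent.helper19.meta_K hp hG hmc n hn 1 (by omega)
  -- frattini G = K
  have hKn : K.Normal := by
    rw [hKe]
    apply Cfsg.Agent.helper19.closure_normal_of_conj_mem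
    rintro _ ⟨y, rfl⟩ g
    exact ⟨g * y * g⁻¹, by rw [conj_pow]⟩
  have hfr : frattini G = K := by
    apply le_antisymm
    · have := hKn
      apply Cfsg.Agent.helper1.frattini_le_of_elemAb_quot (p := p) K
      · rw [← Subgroup.Normal.quotient_commutative_iff_commutator_le]
        have hcard : Nat.card (G ⧸ K) = p ^ 2 := by
          rw [← Subgroup.index_eq_card, hKi, mul_one]
        exact IsPGroup.isMulCommutative_of_card_eq_prime_sq hcard
      · intro x
        rw [hKe]
        exact Subgroup.subset_closure ⟨x, by rw [pow_one]⟩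
    · rw [hKe, Subgroup.closure_le]
      rintro _ ⟨y, rfl⟩
      rw [pow_one]
      exact Cfsg.Agent.helper1.pow_mem_frattini_of_isPGroup hG y
  rw [hfr, hKc, (Cfsg.Agent.helper19.meta_abelian_iff hp hG hmc _).1]
  set C := Subgroup.centralizer ({g} : Set G) with hC
  obtain ⟨e, he⟩ := hG.index C
  have h1 := Cfsg.Agent.helper19.index_centralizer_le_card_commutator g
  rw [← hC, hn, he] at h1
  have hen : e ≤ n := (Nat.pow_le_pow_iff_right hpp.one_lt).mp h1
  have hCG := Subgroup.card_mul_index C
  have hidx := Subgroup.card_mul_index (commutator G)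
  rw [he] at hCG
  rw [hn] at hidx
  rw [he, Nat.pow_le_pow_iff_right hpp.one_lt]
  have hcard : Nat.card C = p ^ (n - e) * (commutator G).index := by
    apply Nat.eq_of_mul_eq_mul_right (pow_pos hpp.pos e)
    rw [hCG, ← hidx, mul_assoc, mul_comm _ (p ^ e), ← mul_assoc, ← pow_add, Nat.sub_add_cancel hen]
  rw [hcard]
  have hipos : 0 < (commutator G).index := Nat.pos_of_ne_zero Subgroup.index_ne_zero_of_finite
  constructor
  · intro h
    have : e = n := by omega
    rw [this, Nat.sub_self, pow_zero, one_mul]
  · intro h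
    have h2 : p ^ (n - e) * (commutator G).index ≤ 1 * (commutator G).index := by rw [one_mul]; exact h
    have h3 := Nat.le_of_mul_le_mul_right h2 hipos
    by_contra hcon
    have h4 : 1 ≤ n - e := by omega
    have h5 : p ^ 1 ≤ p ^ (n - e) := Nat.pow_le_pow_right hpp.pos h4
    have := hpp.one_lt
    rw [pow_one] at h5
    omega

end Cfsg.Agent.S3883
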