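import Cfsg.Statements.S3885
-- import your own Cfsg.Agent.* helpers here
import Mathlib
import Cfsg.Agent.Lib_helper19_Meta4

set_option autoImplicit false
open Cfsg

namespace Cfsg.Agent.S3885

/-- Let p be an odd prime and G a finite metacyclic p-group (G has a cyclic normal subgroup with cyclic quotient). Then every abelian subgroup K of G containing the center of G is the center of its own centralizer: K = Z(C_G(K)). -/
theorem result {G : Type*} [Group G] [Finite G] {p : ℕ} [Fact p.Prime] (hp : p ≠ 2) (hG : IsPGroup p G) (hmc : Cfsg.IsMetacyclic G) (K : Subgroup G) (hK : IsMulCommutative ↥K) (hZ : Subgroup.center G ≤ K) :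
    K = Subgroup.centralizer (K : Set G) ⊓ Subgroup.centralizer (Subgroup.centralizer (K : Set G) : Set G) := by
  set C := Subgroup.centralizer (K : Set G) with hC
  have h1 := Cfsg.Agent.helper19.meta_cdm_of_center_le hp hG hmc K hZ
  have h2 := Cfsg.Agent.helper19.meta_cdm_le hp hG hmc C
  unfold Cfsg.Agent.helper19.cdm at h1 h2
  rw [← h1, ← hC] at h2
  have h3 : Nat.card ↥(Subgroup.centralizer (C : Set G)) ≤ Nat.card K := by
    rw [mul_comm (Nat.card K)] at h2
    exact Nat.le_of_mul_le_mul_left h2 Nat.card_pos
  have h4 : K = Subgroup.centralizer (C : Set G) :=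
    Subgroup.eq_of_le_of_card_ge (Cfsg.Agent.helper19.le_centralizer_centralizer' K) h3
  have hKC : K ≤ C := by
    intro x hx
    rw [hC, Subgroup.mem_centralizer_iff]
    intro y hy
    exact congrArg Subtype.val (hK.is_comm.comm ⟨y, hy⟩ ⟨x, hx⟩)
  rw [← h4]
  exact (inf_eq_right.mpr hKC).symm

end Cfsg.Agent.S3885
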