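import Cfsg.Statements.S3886
-- import your own Cfsg.Agent.* helpers here
import Mathlib
import Cfsg.Agent.Lib_helper19_Meta3

set_option autoImplicit false
open Cfsg

namespace Cfsg.Agent.S3886

/-- Let p be an odd prime and G a finite metacyclic p-group (G has a cyclic normal subgroup with cyclic quotient). Then the largest value of |R| · |Z(R)| over subgroups R of G is |G : G'|², and the subgroups attaining it (the centrally large subgroups) are exactly the non-abelian subgroups together with the maximal abelian subgroups of G. -/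
theorem result {G : Type*} [Group G] [Finite G] {p : ℕ} [Fact p.Prime] (hp : p ≠ 2) (hG : IsPGroup p G) (hmc : Cfsg.IsMetacyclic G) : Cfsg.maxCentralProduct G = (commutator G).index ^ 2 ∧
    ∀ R : Subgroup G, Cfsg.IsCentrallyLarge R ↔ (¬ IsMulCommutative ↥R ∨ Maximal (fun K : Subgroup G => IsMulCommutative ↥K) R) := by
  have hpp : p.Prime := Fact.out
  have hidx := Subgroup.card_mul_index (commutator G)
  have hcpos : 0 < Nat.card ↥(commutator G) := Nat.card_pos
  -- the key claim
  have key : ∀ R : Subgroup G,
      Nat.card ↥R * Nat.card ↥(Subgroup.center ↥R) ≤ (commutator G).index ^ 2 ∧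
      (Nat.card ↥R * Nat.card ↥(Subgroup.center ↥R) = (commutator G).index ^ 2 ↔
        (¬ IsMulCommutative ↥R ∨ Maximal (fun K : Subgroup G => IsMulCommutative ↥K) R)) := by
    intro R
    obtain ⟨hab1, hab2⟩ := Cfsg.Agent.helper19.meta_abelian_iff hp hG hmc R
    by_cases hR : IsMulCommutative ↥R
    · have hcen : Subgroup.center ↥R = ⊤ := by
        rw [eq_top_iff]
        intro z _
        rw [Subgroup.mem_center_iff]
        intro w
        exact hR.is_comm.comm w z
      rw [hcen, Subgroup.card_top, ← pow_two]
      have hle := hab1.mp hR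
      refine ⟨Nat.pow_le_pow_left hle 2, ?_⟩
      rw [hab2]
      constructor
      · intro h
        right
        exact Nat.pow_left_injective (by norm_num : 2 ≠ 0) h
      · rintro (h | h)
        · exact absurd hR h
        · rw [h]
    · obtain ⟨hna, -⟩ := Cfsg.Agent.helper19.meta_M3 hp hG hmc R
      have h2 := hna hR
      rw [← hidx] at h2
      have h3 : Nat.card R = Nat.card ↥(commutator ↥R) * (commutator G).index := by
        apply Nat.eq_of_mul_eq_mul_right hcpos
        rw [h2]; ring
      obtain ⟨hM1, -, -, -⟩ := Cfsg.Agent.helper19.meta_main hp (hG.to_subgroup R)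
        (Cfsg.Agent.helper19.isMetacyclic_subgroup hmc R)
      have hZ := Subgroup.card_mul_index (Subgroup.center ↥R)
      rw [hM1] at hZ
      have hpos : 0 < Nat.card ↥(commutator ↥R) ^ 2 := pow_pos Nat.card_pos 2
      have heq : Nat.card ↥R * Nat.card ↥(Subgroup.center ↥R) = (commutator G).index ^ 2 := by
        apply Nat.eq_of_mul_eq_mul_right hpos
        calc Nat.card ↥R * Nat.card ↥(Subgroup.center ↥R) * Nat.card ↥(commutator ↥R) ^ 2
            = Nat.card ↥R * (Nat.card ↥(Subgroup.center ↥R) * Nat.card ↥(commutator ↥R) ^ 2) := by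
              ring
          _ = Nat.card ↥R * Nat.card ↥R := by rw [hZ]
          _ = (commutator G).index ^ 2 * Nat.card ↥(commutator ↥R) ^ 2 := by rw [h3]; ring
      refine ⟨heq.le, ?_⟩
      constructor
      · intro _; left; exact hR
      · intro _; exact heq
  have htop : ¬ IsMulCommutative ↥(⊤ : Subgroup G) ∨
      Maximal (fun K : Subgroup G => IsMulCommutative ↥K) (⊤ : Subgroup G) := by
    by_cases h : IsMulCommutative ↥(⊤ : Subgroup G)
    · right
      exact ⟨h, fun K _ _ => le_top⟩
    · left; exact h
  have hmax : Cfsg.maxCentralProduct G = (commutator G).index ^ 2 := by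
    unfold Cfsg.maxCentralProduct
    apply IsGreatest.csSup_eq
    constructor
    · exact ⟨⊤, (key ⊤).2.mpr htop⟩
    · rintro k ⟨R, rfl⟩
      exact (key R).1
  refine ⟨hmax, ?_⟩
  intro R
  unfold Cfsg.IsCentrallyLarge
  rw [hmax]
  exact (key R).2

end Cfsg.Agent.S3886
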