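import Cfsg.Statements.S3889
-- import your own Cfsg.Agent.* helpers here

set_option autoImplicit false
open Cfsg

namespace Cfsg.Agent.S3889

/-- A finite abelian group that is the union of a family of proper subgroups any two of which intersect trivially is elementary abelian: its exponent is a prime. -/
theorem result {G : Type*} [CommGroup G] [Finite G] (𝓑 : Set (Subgroup G)) (hprop : ∀ B ∈ 𝓑, B ≠ ⊤)
    (hcov : ∀ g : G, ∃ B ∈ 𝓑, g ∈ B) (hdisj : ∀ B ∈ 𝓑, ∀ C ∈ 𝓑, B ≠ C → B ⊓ C = ⊥) :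
    (Monoid.exponent G).Prime := by
  classical
  -- key lemma
  have key : ∀ (B : Subgroup G), B ∈ 𝓑 → ∀ x y : G, x ≠ 1 → x ∈ B → y ∉ B → orderOf y ∣ orderOf x := by
    intro B hB x y hx1 hxB hyB
    obtain ⟨C, hC, hyC⟩ := hcov y
    obtain ⟨D, hD, hxyD⟩ := hcov (x * y)
    have hCB : B ≠ C := fun h => hyB (h ▸ hyC)
    have hDC : D ≠ C := by
      intro h
      have hxC : x ∈ C := by
        have : x = (x * y) * y⁻¹ := by group
        rw [this]
        exact C.mul_mem (h ▸ hxyD) (C.inv_mem hyC)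
      have : x ∈ B ⊓ C := ⟨hxB, hxC⟩
      rw [hdisj B hB C hC hCB] at this
      exact hx1 (Subgroup.mem_bot.mp this)
    have h1 : y ^ orderOf x ∈ D := by
      have : (x * y) ^ orderOf x = y ^ orderOf x := by
        rw [mul_pow, pow_orderOf_eq_one, one_mul]
      rw [← this]
      exact D.pow_mem hxyD _
    have h2 : y ^ orderOf x ∈ C := C.pow_mem hyC _
    have : y ^ orderOf x ∈ D ⊓ C := ⟨h1, h2⟩
    rw [hdisj D hD C hC hDC] at this
    exact orderOf_dvd_of_pow_eq_one (Subgroup.mem_bot.mp this)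
  have key2 : ∀ (B : Subgroup G), B ∈ 𝓑 → ∀ x y : G, x ≠ 1 → y ≠ 1 → x ∈ B → y ∉ B → orderOf x = orderOf y := by
    intro B hB x y hx1 hy1 hxB hyB
    obtain ⟨C, hC, hyC⟩ := hcov y
    have hCB : B ≠ C := fun h => hyB (h ▸ hyC)
    have hxC : x ∉ C := by
      intro hxC
      have : x ∈ B ⊓ C := ⟨hxB, hxC⟩
      rw [hdisj B hB C hC hCB] at this
      exact hx1 (Subgroup.mem_bot.mp this)
    exact Nat.dvd_antisymm (key C hC y x hy1 hyC hxC) (key B hB x y hx1 hxB hyB)
  have exists_not_mem : ∀ (B : Subgroup G), B ∈ 𝓑 → ∃ y : G, y ∉ B := by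
    intro B hB
    by_contra hcon
    push Not at hcon
    exact hprop B hB (eq_top_iff.mpr fun y _ => hcon y)
  have same : ∀ x x' : G, x ≠ 1 → x' ≠ 1 → orderOf x = orderOf x' := by
    intro x x' hx hx'
    obtain ⟨B, hB, hxB⟩ := hcov x
    by_cases hx'B : x' ∈ B
    · obtain ⟨y, hy⟩ := exists_not_mem B hB
      have hy1 : y ≠ 1 := fun h => hy (h ▸ B.one_mem)
      rw [key2 B hB x y hx hy1 hxB hy, key2 B hB x' y hx' hy1 hx'B hy]
    · exact key2 B hB x x' hx hx' hxB hx'B
  obtain ⟨B0, hB0, _⟩ := hcov 1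
  obtain ⟨z, hz⟩ := exists_not_mem B0 hB0
  have hz1 : z ≠ 1 := fun h => hz (h ▸ B0.one_mem)
  set n := orderOf z with hn
  have hn1 : n ≠ 1 := by
    intro h
    exact hz1 (orderOf_eq_one_iff.mp h)
  have hnpos : 0 < n := orderOf_pos z
  have hnprime : n.Prime := by
    have hq : (n.minFac).Prime := Nat.minFac_prime hn1
    have hqdvd : n.minFac ∣ n := Nat.minFac_dvd n
    have hord : orderOf (z ^ (n / n.minFac)) = n.minFac := by
      rw [orderOf_pow' z (by
        intro h0
        have := Nat.div_eq_zero_iff.mp h0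
        rcases this with h | h
        · exact hq.ne_zero h
        · exact absurd (Nat.le_of_dvd hnpos hqdvd) (not_le.mpr h))]
      rw [← hn, Nat.gcd_eq_right (Nat.div_dvd_of_dvd hqdvd)]
      exact Nat.div_div_self hqdvd hnpos.ne'
    have hne1 : z ^ (n / n.minFac) ≠ 1 := by
      intro h
      rw [h, orderOf_one] at hord
      exact hq.one_lt.ne hord
    have := same _ z hne1 hz1
    rw [hord] at this
    rw [← hn] at this
    rw [← this]; exact hq
  have hexp : Monoid.exponent G = n := by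
    apply Nat.dvd_antisymm
    · apply Monoid.exponent_dvd_of_forall_pow_eq_one
      intro g
      by_cases hg : g = 1
      · rw [hg, one_pow]
      · rw [hn, ← same g z hg hz1, pow_orderOf_eq_one]
    · exact Monoid.order_dvd_exponent z
  rw [hexp]; exact hnprime

end Cfsg.Agent.S3889
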