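-- Statement S3891: nilpotent minimal cover, cyclic / non-elementary abelian Sylow subgroup.
import Mathlib
import Cfsg.Statements.S3891
import Cfsg.Agent.S3890

set_option autoImplicit false
set_option linter.style.haveILetI false
open Cfsg

namespace Cfsg.Agent.S3891

open Cfsg.Agent.S3890

/-- A cover of a group is a finite set of proper subgroups whose union is the whole group; it is minimal when no cover has fewer members, and nilpotent when all its members are nilpotent. Let G be a finite group with trivial center admitting a nilpotent minimal cover, and let P be a non-normal Sylow p-subgroup of G that is cyclic, or abelian but not elementary abelian. Then the centralizer of P is nilpotent and the normalizer of P is the unique maximal subgroup of G containing the centralizer of P. -/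
theorem result {G : Type*} [Group G] [Finite G] (hZ : Subgroup.center G = ⊥) (𝓐 : Finset (Subgroup G))
    (h𝓐 : ((∀ A ∈ 𝓐, A ≠ ⊤) ∧ (∀ g : G, ∃ A ∈ 𝓐, g ∈ A)) ∧ (∀ 𝓑 : Finset (Subgroup G), (∀ A ∈ 𝓑, A ≠ ⊤) ∧ (∀ g : G, ∃ A ∈ 𝓑, g ∈ A) → 𝓐.card ≤ 𝓑.card) ∧ (∀ A ∈ 𝓐, Group.IsNilpotent ↥A)) {p : ℕ} [Fact p.Prime] (P : Sylow p G)
    (hP : IsCyclic ↥(P : Subgroup G) ∨ (IsMulCommutative ↥(P : Subgroup G) ∧ ¬ Cfsg.IsElementaryAbelian p (P : Subgroup G)))
    (hnn : ¬ (P : Subgroup G).Normal) :
    Group.IsNilpotent ↥(Subgroup.centralizer ((P : Subgroup G) : Set G)) ∧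
      IsCoatom (Subgroup.normalizer ((P : Subgroup G) : Set G)) ∧
      ∀ M : Subgroup G, IsCoatom M → Subgroup.centralizer ((P : Subgroup G) : Set G) ≤ M →
        M = Subgroup.normalizer ((P : Subgroup G) : Set G) := by
  have h𝓐' : IsMinNilCover 𝓐 := h𝓐
  have hab : IsMulCommutative ↥(P : Subgroup G) := by
    rcases hP with h | h
    · exact IsCyclic.isMulCommutative
    · exact h.1
  have h1 : ¬ ((∀ x ∈ (P : Subgroup G), x ^ p = 1) ∧ p < Nat.card ↥(P : Subgroup G)) := by
    rintro ⟨h1, h2⟩
    rcases hP with h | h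
    · obtain ⟨g, hg⟩ := h.exists_generator
      have ho : orderOf g = Nat.card ↥(P : Subgroup G) := orderOf_eq_card_of_forall_mem_zpowers hg
      have hgp : g ^ p = 1 := Subtype.ext (by simpa using h1 g.1 g.2)
      have hd := orderOf_dvd_of_pow_eq_one hgp
      have hle := Nat.le_of_dvd (Fact.out : p.Prime).pos hd
      omega
    · exact h.2 ⟨hab, h1⟩
  have habQ := all_abelian P hab
  have hall := all_mem hZ h𝓐' P hab hnn h1
  have hCN := Subgroup.centralizer_le_normalizer ((P : Subgroup G) : Set G)
  have hNtop : Subgroup.normalizer ((P : Subgroup G) : Set G) ≠ ⊤ :=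
    fun h => hnn (Subgroup.normalizer_eq_top_iff.mp h)
  refine ⟨h𝓐'.2.2 _ (hall P), ⟨hNtop, fun M hM => ?_⟩, ?_⟩
  · by_contra hMtop
    have := le_normalizer_of h𝓐' P hall habQ hMtop (le_trans hCN hM.le)
    exact absurd hM (not_lt_of_ge this)
  · intro M hM hCM
    have hMN := le_normalizer_of h𝓐' P hall habQ hM.1 hCM
    by_contra hne
    exact hNtop (hM.2 _ (lt_of_le_of_ne hMN hne))

end Cfsg.Agent.S3891
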