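import Cfsg.Statements.S3897
-- import your own Cfsg.Agent.* helpers here
import Cfsg.Agent.Lib_helper19_KP

set_option autoImplicit false
open Cfsg

namespace Cfsg.Agent.S3897

/-- Let p be an odd prime and G a finite group with Sylow p-subgroup P, and write k_p(G) for the number of conjugacy classes of G consisting of p-elements (elements of p-power order, the identity included). Then k_p(G) > (p + 1)|P|/(2p) if and only if G has a normal p-complement and P is abelian. -/
theorem result {G : Type*} [Group G] [Finite G] {p : ℕ} [Fact p.Prime] (hp : p ≠ 2) (P : Sylow p G) :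
    (p + 1) * Nat.card ↥(P : Subgroup G) < 2 * p * Nat.card {c : ConjClasses G // ∀ x ∈ c.carrier, ∃ k : ℕ, orderOf x = p ^ k} ↔
      Cfsg.HasNormalPComplement p G ∧ IsMulCommutative ↥(P : Subgroup G) := by
  have hpp : p.Prime := Fact.out
  constructor
  · intro hyp
    by_cases hNC : Subgroup.normalizer ((P : Subgroup G) : Set G) ≤ Subgroup.centralizer ((P : Subgroup G) : Set G)
    · refine ⟨⟨P, (MonoidHom.transferSylow P hNC).ker, inferInstance,
        MonoidHom.ker_transferSylow_isComplement' P hNC⟩, ⟨⟨fun a b => ?_⟩⟩⟩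
      exact Subtype.ext ((hNC (Subgroup.le_normalizer b.2)) a a.2)
    · exfalso
      have := Cfsg.Agent.helper19.kp_bound P hNC
      have e : Nat.card (Cfsg.Agent.helper19.PClasses p G) =
          Nat.card {c : ConjClasses G // ∀ x ∈ c.carrier, ∃ k : ℕ, orderOf x = p ^ k} := rfl
      rw [e] at this
      omega
  · rintro ⟨⟨P', K, hKn, hc⟩, hab⟩
    -- K is also a complement of P
    have hcardP : Nat.card (P' : Subgroup G) = Nat.card (P : Subgroup G) := by
      rw [Sylow.card_eq_multiplicity, Sylow.card_eq_multiplicity]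
    have hcK : K.IsComplement' (P : Subgroup G) := by
      apply Subgroup.isComplement'_of_coprime
      · rw [← hcardP]; exact hc.card_mul_card
      · have h1 : Nat.card K = (P' : Subgroup G).index := hc.index_eq_card.symm
        obtain ⟨n, hn⟩ := P.isPGroup'.exists_card_eq
        rw [h1, hn]
        apply Nat.Coprime.pow_right
        exact ((Nat.Prime.coprime_iff_not_dvd hpp).2 P'.not_dvd_index).symm
    have hKP : K ⊓ (P : Subgroup G) = ⊥ := hcK.disjoint.eq_bot
    have hinj : Function.Injective (fun x : ↥(P : Subgroup G) =>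
        (⟨ConjClasses.mk (x : G), Cfsg.Agent.helper19.mk_mem_pclasses P x x.2⟩ :
          {c : ConjClasses G // ∀ x ∈ c.carrier, ∃ k : ℕ, orderOf x = p ^ k})) := by
      intro x y hxy
      have h1 := congrArg Subtype.val hxy
      simp only at h1
      rw [ConjClasses.mk_eq_mk_iff_isConj, isConj_iff] at h1
      obtain ⟨g, hg⟩ := h1
      obtain ⟨⟨k, u⟩, hku, -⟩ := (Subgroup.isComplement_iff_existsUnique.1 hcK) g
      simp only at hku
      have hux : (u : G) * (x : G) * (u : G)⁻¹ = (x : G) := by
        have hcomm := hab.is_comm.comm ⟨(u : G), u.2⟩ x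
        have h2 : (u : G) * (x : G) = (x : G) * (u : G) := congrArg Subtype.val hcomm
        rw [h2]; group
      have hy : (y : G) = (k : G) * (x : G) * (k : G)⁻¹ := by
        rw [← hg, ← hku]
        calc (k : G) * (u : G) * (x : G) * ((k : G) * (u : G))⁻¹
            = (k : G) * ((u : G) * (x : G) * (u : G)⁻¹) * (k : G)⁻¹ := by group
          _ = (k : G) * (x : G) * (k : G)⁻¹ := by rw [hux]
      have hmem : (y : G) * (x : G)⁻¹ ∈ K ⊓ (P : Subgroup G) := by
        refine Subgroup.mem_inf.2 ⟨?_, (P : Subgroup G).mul_mem y.2 ((P : Subgroup G).inv_mem x.2)⟩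
        rw [hy]
        have h3 : (k : G) * (x : G) * (k : G)⁻¹ * (x : G)⁻¹ = (k : G) * ((x : G) * (k : G)⁻¹ * (x : G)⁻¹) := by
          group
        rw [h3]
        exact K.mul_mem k.2 (hKn.conj_mem _ (K.inv_mem k.2) _)
      rw [hKP, Subgroup.mem_bot] at hmem
      apply Subtype.ext
      exact (mul_inv_eq_one.1 hmem).symm
    have hle := Nat.card_le_card_of_injective _ hinj
    have hpos : 0 < Nat.card ↥(P : Subgroup G) := Nat.card_pos
    have h2 := hpp.two_le
    nlinarith

end Cfsg.Agent.S3897
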