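import Mathlib
import Cfsg.Statements.S3903
import Cfsg.Agent.Lib_helper21_SylowNum

set_option autoImplicit false
set_option linter.style.haveILetI false
set_option linter.unusedSectionVars false
set_option linter.unusedVariables false
open Cfsg
open scoped Pointwise

namespace Cfsg.Agent.S3903

variable {G : Type*} [Group G]

/-- centralizer of an element -/
abbrev Cz (x : G) : Subgroup G := Subgroup.centralizer ({x} : Set G)

lemma mem_Cz {x g : G} : g ∈ Cz x ↔ g * x = x * g := Subgroup.mem_centralizer_singleton_iff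

lemma self_mem_Cz (x : G) : x ∈ Cz x := mem_Cz.mpr rfl

/-- a product of two distinct prime powers is not a prime power -/
lemma not_isPrimePow_mul {r s b c : ℕ} (hr : r.Prime) (hs : s.Prime) (hrs : r ≠ s) (hb : b ≠ 0)
    (hc : c ≠ 0) : ¬ IsPrimePow (r ^ b * s ^ c) := by
  intro h
  obtain ⟨q, k, hq, hk, hqk⟩ := (isPrimePow_nat_iff _).mp h
  have h1 : r ∣ q ^ k := by rw [hqk]; exact Dvd.dvd.mul_right (dvd_pow_self r hb) _
  have h2 : s ∣ q ^ k := by rw [hqk]; exact Dvd.dvd.mul_left (dvd_pow_self s hc) _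
  have e1 := (Nat.prime_dvd_prime_iff_eq hr hq).mp (hr.dvd_of_dvd_pow h1)
  have e2 := (Nat.prime_dvd_prime_iff_eq hs hq).mp (hs.dvd_of_dvd_pow h2)
  exact hrs (e1.trans e2.symm)

lemma mem_of_pow_mem_of_coprime {N : Subgroup G} {y : G} {n : ℕ} (hn : n.Coprime (orderOf y))
    (h : y ^ n ∈ N) : y ∈ N := by
  obtain ⟨m, hm⟩ := exists_pow_eq_self_of_coprime hn
  rw [← hm]; exact N.pow_mem h m

section main
variable [Finite G] (N : Subgroup G) [N.Normal]
  (hpp : ∀ x : G, x ∉ N → IsPrimePow (orderOf x))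

include hpp

/-- Step 1: the centralizer of an element outside `N` is a group of prime power order. -/
lemma isPGroup_Cz {y : G} (hy : y ∉ N) {r b : ℕ} (hr : r.Prime) (hyo : orderOf y = r ^ b) :
    IsPGroup r (Cz y) := by
  have hb : b ≠ 0 := by
    rintro rfl
    rw [pow_zero, orderOf_eq_one_iff] at hyo
    exact hy (hyo ▸ N.one_mem)
  have hyb : y ^ r ^ b = 1 := by rw [← hyo]; exact pow_orderOf_eq_one y
  rintro ⟨g, hg⟩
  have hgy : Commute y g := (mem_Cz.mp hg).symm
  suffices h : ∃ k : ℕ, g ^ r ^ k = 1 by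
    obtain ⟨k, hk⟩ := h
    exact ⟨k, Subtype.ext (by simpa using hk)⟩
  by_cases hgN : g ∈ N
  · have hygN : y * g ∉ N := fun h => hy (by
      have := N.mul_mem h (N.inv_mem hgN)
      simpa using this)
    obtain ⟨s, c, hs, hc, hsc⟩ := (isPrimePow_nat_iff _).mp (hpp _ hygN)
    by_cases hsr : s = r
    · subst hsr
      refine ⟨b + c, ?_⟩
      have h1 : (y * g) ^ s ^ (b + c) = 1 := by
        rw [pow_add, mul_comm, pow_mul, hsc, pow_orderOf_eq_one, one_pow]
      rw [hgy.mul_pow, pow_add, pow_mul, hyb, one_pow, one_mul, ← pow_add] at h1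
      exact h1
    · exfalso
      have h1 : (y * g) ^ s ^ c = 1 := by rw [hsc]; exact pow_orderOf_eq_one _
      rw [hgy.mul_pow] at h1
      have h2 : y ^ s ^ c = (g ^ s ^ c)⁻¹ := eq_inv_of_mul_eq_one_left h1
      have h3 : y ^ s ^ c ∈ N := by rw [h2]; exact N.inv_mem (N.pow_mem hgN _)
      apply hy
      apply mem_of_pow_mem_of_coprime _ h3
      rw [hyo]
      exact Nat.Coprime.pow _ _ ((Nat.coprime_primes hs hr).mpr hsr)
  · obtain ⟨s, c, hs, hc, hsc⟩ := (isPrimePow_nat_iff _).mp (hpp _ hgN)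
    by_cases hsr : s = r
    · subst hsr
      exact ⟨c, by rw [hsc]; exact pow_orderOf_eq_one g⟩
    · exfalso
      have hcop : (orderOf y).Coprime (orderOf g) := by
        rw [hyo, ← hsc]
        exact Nat.Coprime.pow _ _ ((Nat.coprime_primes hr hs).mpr (Ne.symm hsr))
      have hygN : y * g ∉ N := by
        intro h
        have h1 : (y * g) ^ s ^ c ∈ N := N.pow_mem h _
        rw [hgy.mul_pow, hsc, pow_orderOf_eq_one, mul_one] at h1
        apply hy
        exact mem_of_pow_mem_of_coprime hcop.symm h1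
      have h2 := hpp _ hygN
      rw [hgy.orderOf_mul_eq_mul_orderOf_of_coprime hcop, hyo, ← hsc] at h2
      exact not_isPrimePow_mul hr hs (Ne.symm hsr) hb hc.ne' h2

end main

section count
variable [Finite G] (N : Subgroup G) [N.Normal]

lemma sylow_le_of_index_pow {p t : ℕ} [Fact p.Prime] [Fact t.Prime] (htp : t ≠ p)
    (K : Subgroup G) [K.Normal] {v : ℕ} (hK : K.index = p ^ v) (T : Sylow t G) :
    (T : Subgroup G) ≤ K := by
  intro u hu
  rw [← QuotientGroup.eq_one_iff (N := K)]
  have h1 : orderOf ((u : G) : G ⧸ K) ∣ orderOf u := orderOf_map_dvd (QuotientGroup.mk' K) u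
  have h2 : orderOf ((u : G) : G ⧸ K) ∣ K.index := by
    rw [Subgroup.index_eq_card]; exact orderOf_dvd_natCard _
  obtain ⟨k, hk⟩ := (IsPGroup.iff_orderOf.mp T.isPGroup') ⟨u, hu⟩
  have hk' : orderOf u = t ^ k := by rw [← hk]; exact (Subgroup.orderOf_mk u hu).symm
  rw [hk'] at h1
  rw [hK] at h2
  have hcop : Nat.Coprime (t ^ k) (p ^ v) :=
    Nat.Coprime.pow _ _ ((Nat.coprime_primes Fact.out Fact.out).mpr htp)
  have h3 := Nat.dvd_gcd h1 h2
  rw [hcop.gcd_eq_one, Nat.dvd_one, orderOf_eq_one_iff] at h3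
  exact h3

/-- the counting lemma -/
lemma card_le_sum_center (p : ℕ) [Fact p.Prime] [Fintype (Sylow p G)] (hN : N ≠ ⊤)
    (hS : ∀ y : G, y ∉ N → ∃ P' : Sylow p G, (P' : Subgroup G) = Cz y) :
    Nat.card G ≤ ∑ P' : Sylow p G,
      Nat.card ↥((P' : Subgroup G) ⊓ Subgroup.centralizer ((P' : Subgroup G) : Set G)) := by
  classical
  haveI : Fintype G := Fintype.ofFinite G
  obtain ⟨m, hm⟩ : ∃ m, m = N.index := ⟨_, rfl⟩
  obtain ⟨n, hn⟩ : ∃ n, n = Nat.card N := ⟨_, rfl⟩
  have hmn : Nat.card G = n * m := by rw [hm, hn]; exact (N.card_mul_index).symm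
  have hm2 : 2 ≤ m := by
    have h0 : m ≠ 0 := by rw [hm]; exact Subgroup.index_ne_zero_of_finite
    have h1 : m ≠ 1 := fun h => hN (Subgroup.index_eq_one.mp (hm ▸ h))
    omega
  obtain ⟨Zc, hZc⟩ : ∃ Zc : Sylow p G → Subgroup G, Zc = fun P' : Sylow p G =>
    (P' : Subgroup G) ⊓ Subgroup.centralizer ((P' : Subgroup G) : Set G) := ⟨_, rfl⟩
  have hZc' : ∀ P' : Sylow p G,
      (P' : Subgroup G) ⊓ Subgroup.centralizer ((P' : Subgroup G) : Set G) = Zc P' := by
    intro P'; rw [hZc]
  simp_rw [hZc']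
  obtain ⟨U, hU'⟩ : ∃ U : Finset G, U = Finset.univ.filter (fun y => y ∉ N) := ⟨_, rfl⟩
  obtain ⟨V, hV'⟩ : ∃ V : Sylow p G → Finset G, V = fun P' =>
    Finset.univ.filter (fun y => y ∈ Zc P' ∧ y ∉ N) := ⟨_, rfl⟩
  obtain ⟨W, hW'⟩ : ∃ W : Sylow p G → Finset G, W = fun P' =>
    Finset.univ.filter (fun y => y ∈ Zc P' ∧ y ∈ N) := ⟨_, rfl⟩
  have hU : U.card + n = Nat.card G := by
    have h1 : (Finset.univ.filter (fun y : G => y ∈ N)).card = n := by
      rw [hn, Nat.card_eq_fintype_card, Fintype.card_subtype]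
    have h2 := Finset.card_filter_add_card_filter_not (s := (Finset.univ : Finset G))
      (fun y : G => y ∈ N)
    rw [Finset.card_univ, ← Nat.card_eq_fintype_card] at h2
    rw [hU']
    omega
  have hsub : U ⊆ Finset.univ.biUnion V := by
    intro y hy
    rw [hU'] at hy
    have hyN : y ∉ N := (Finset.mem_filter.mp hy).2
    obtain ⟨P', hP'⟩ := hS y hyN
    rw [Finset.mem_biUnion]
    refine ⟨P', Finset.mem_univ _, ?_⟩
    rw [hV', Finset.mem_filter]
    refine ⟨Finset.mem_univ _, ?_, hyN⟩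
    rw [hZc]
    refine Subgroup.mem_inf.mpr ⟨?_, ?_⟩
    · rw [hP']; exact self_mem_Cz y
    · rw [hP', Subgroup.mem_centralizer_iff]; intro g hg; exact mem_Cz.mp hg
  have hUle : U.card ≤ ∑ P' : Sylow p G, (V P').card :=
    (Finset.card_le_card hsub).trans Finset.card_biUnion_le
  have hVW : ∀ P', (V P').card + (W P').card = Nat.card (Zc P') := by
    intro P'
    have h1 : (Finset.univ.filter (fun y : G => y ∈ Zc P')).card = Nat.card (Zc P') := by
      rw [Nat.card_eq_fintype_card, Fintype.card_subtype]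
    rw [← h1, add_comm, hV', hW']
    have := Finset.card_filter_add_card_filter_not
      (s := Finset.univ.filter (fun y : G => y ∈ Zc P')) (fun y : G => y ∈ N)
    rw [Finset.filter_filter, Finset.filter_filter] at this
    exact this
  have hWcard : ∀ P', (W P').card = Nat.card ↥(N ⊓ Zc P') := by
    intro P'
    rw [Nat.card_eq_fintype_card, Fintype.card_subtype, hW']
    congr 1
    ext y
    simp only [Finset.mem_filter, Finset.mem_univ, true_and, Subgroup.mem_inf]
    exact and_comm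
  have hZW : ∀ P', Nat.card (Zc P') ≤ m * (W P').card := by
    intro P'
    rw [hWcard]
    have h1 := Subgroup.relIndex_mul_relIndex ⊥ (N ⊓ Zc P') (Zc P') bot_le inf_le_right
    rw [Subgroup.relIndex_bot_left, Subgroup.relIndex_bot_left, Subgroup.inf_relIndex_right] at h1
    have h2 : N.relIndex (Zc P') ≤ m := by
      rw [hm]
      exact Nat.le_of_dvd (Nat.pos_of_ne_zero Subgroup.index_ne_zero_of_finite)
        (Subgroup.relIndex_dvd_index_of_normal N (Zc P'))
    rw [← h1, mul_comm]
    exact Nat.mul_le_mul_right _ h2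
  have hterm : ∀ P', m * (V P').card + Nat.card (Zc P') ≤ m * Nat.card (Zc P') := by
    intro P'
    have h1 := hVW P'
    have h2 := hZW P'
    calc m * (V P').card + Nat.card (Zc P') ≤ m * (V P').card + m * (W P').card := by omega
      _ = m * Nat.card (Zc P') := by rw [← mul_add, h1]
  have hsum : m * (∑ P' : Sylow p G, (V P').card) + ∑ P' : Sylow p G, Nat.card (Zc P') ≤
      m * ∑ P' : Sylow p G, Nat.card (Zc P') := by
    rw [Finset.mul_sum, Finset.mul_sum, ← Finset.sum_add_distrib]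
    exact Finset.sum_le_sum (fun P' _ => hterm P')
  obtain ⟨Z, hZ⟩ : ∃ Z, Z = ∑ P' : Sylow p G, Nat.card (Zc P') := ⟨_, rfl⟩
  obtain ⟨A, hA⟩ : ∃ A, A = ∑ P' : Sylow p G, (V P').card := ⟨_, rfl⟩
  rw [← hZ, ← hA] at hsum
  rw [← hA] at hUle
  rw [← hZ, hmn]
  obtain ⟨k, rfl⟩ : ∃ k, m = k + 1 := ⟨m - 1, by omega⟩
  have hUk : U.card = n * k := by
    have := hU; rw [hmn] at this
    nlinarith
  have h3 : (k + 1) * (n * k) + Z ≤ (k + 1) * Z := by
    calc (k + 1) * (n * k) + Z = (k + 1) * U.card + Z := by rw [hUk]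
      _ ≤ (k + 1) * A + Z := by gcongr
      _ ≤ (k + 1) * Z := hsum
  have hk : 0 < k := by omega
  have h4 : k * (n * (k + 1)) ≤ k * Z := by nlinarith
  exact Nat.le_of_mul_le_mul_left h4 hk

end count

section final
variable [Finite G] (N : Subgroup G) [N.Normal]

theorem main (hN : N ≠ ⊤)
    (h : ∀ x : G, x ∉ N → IsPrimePow (orderOf x) ∧ IsCoatom (Cz x)) : Group.IsSolvable N := by
  have hpp : ∀ x : G, x ∉ N → IsPrimePow (orderOf x) := fun x hx => (h x hx).1
  have hco : ∀ x : G, x ∉ N → IsCoatom (Cz x) := fun x hx => (h x hx).2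
  obtain ⟨x₀, hx₀⟩ : ∃ x₀ : G, x₀ ∉ N := by
    by_contra hall; push Not at hall
    exact hN (top_le_iff.mp (fun x _ => hall x))
  obtain ⟨p, a, hp, ha, hpa⟩ := (isPrimePow_nat_iff _).mp (hpp x₀ hx₀)
  haveI : Fact p.Prime := ⟨hp⟩
  have hP₀ : IsPGroup p (Cz x₀) := isPGroup_Cz N hpp hx₀ hp hpa.symm
  by_cases hNle : N ≤ Cz x₀
  · haveI := (hP₀.to_le hNle).isNilpotent
    exact IsNilpotent.to_isSolvable
  have hsup : Cz x₀ ⊔ N = ⊤ := by
    apply (hco x₀ hx₀).2
    apply lt_of_le_of_ne le_sup_left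
    intro heq
    apply hNle
    rw [heq]; exact le_sup_right
  have hpel : ∀ y : G, y ∉ N → ∃ b : ℕ, orderOf y = p ^ b := by
    intro y hy
    have hy' : y ∈ ((Cz x₀ ⊔ N : Subgroup G) : Set G) := by rw [hsup]; exact Set.mem_univ y
    rw [Subgroup.mul_normal] at hy'
    obtain ⟨u, hu, n, hn, rfl⟩ := Set.mem_mul.mp hy'
    obtain ⟨k, hk⟩ := hP₀ ⟨u, hu⟩
    have hk' : u ^ p ^ k = 1 := by simpa using congrArg Subtype.val hk
    have h1 : (u * n) ^ p ^ k ∈ N := by
      rw [← QuotientGroup.eq_one_iff, QuotientGroup.mk_pow, QuotientGroup.mk_mul,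
        (QuotientGroup.eq_one_iff n).mpr hn, mul_one, ← QuotientGroup.mk_pow, hk',
        QuotientGroup.mk_one]
    obtain ⟨q, b, hq, hb, hqb⟩ := (isPrimePow_nat_iff _).mp (hpp _ hy)
    by_cases hqp : q = p
    · exact ⟨b, by rw [← hqb, hqp]⟩
    · exfalso
      apply hy
      apply mem_of_pow_mem_of_coprime _ h1
      rw [← hqb]
      exact Nat.Coprime.pow _ _ ((Nat.coprime_primes hp hq).mpr (Ne.symm hqp))
  by_cases hGp : IsPGroup p G
  · haveI := (hGp.to_subgroup N).isNilpotent
    exact IsNilpotent.to_isSolvable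
  have hS : ∀ y : G, y ∉ N → ∃ P' : Sylow p G, (P' : Subgroup G) = Cz y := by
    intro y hy
    obtain ⟨b, hb⟩ := hpel y hy
    have hpg : IsPGroup p (Cz y) := isPGroup_Cz N hpp hy hp hb
    obtain ⟨Q, hQ⟩ := hpg.exists_le_sylow
    have hQtop : (Q : Subgroup G) ≠ ⊤ := by
      intro htop
      apply hGp
      intro g
      obtain ⟨k, hk⟩ := Q.isPGroup' ⟨g, by rw [htop]; exact Subgroup.mem_top g⟩
      exact ⟨k, by simpa using congrArg Subtype.val hk⟩
    refine ⟨Q, ?_⟩
    rcases (hco y hy).le_iff.mp hQ with h1 | h1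
    · exact absurd h1 hQtop
    · exact h1
  obtain ⟨P₀, hP₀eq⟩ := hS x₀ hx₀
  haveI : Fintype (Sylow p G) := Fintype.ofFinite _
  have hcount := card_le_sum_center N p hN hS
  have hle : ∀ P' : Sylow p G,
      Nat.card ↥((P' : Subgroup G) ⊓ Subgroup.centralizer ((P' : Subgroup G) : Set G)) ≤
        Nat.card (P₀ : Subgroup G) := by
    intro P'
    rw [P₀.card_eq_multiplicity, ← P'.card_eq_multiplicity]
    exact Subgroup.card_le_of_le inf_le_left
  have hconst : ∑ _P' : Sylow p G, Nat.card (P₀ : Subgroup G) =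
      Nat.card (Sylow p G) * Nat.card (P₀ : Subgroup G) := by
    rw [Finset.sum_const, Finset.card_univ, smul_eq_mul, ← Nat.card_eq_fintype_card]
  have hsumle : ∑ P' : Sylow p G,
      Nat.card ↥((P' : Subgroup G) ⊓ Subgroup.centralizer ((P' : Subgroup G) : Set G)) ≤
        Nat.card (Sylow p G) * Nat.card (P₀ : Subgroup G) := by
    rw [← hconst]
    exact Finset.sum_le_sum (fun P' _ => hle P')
  have hnidx : Nat.card (Sylow p G) =
      (Subgroup.normalizer ((P₀ : Subgroup G) : Set G)).index := P₀.card_eq_index_normalizer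
  have hnorm : Subgroup.normalizer ((P₀ : Subgroup G) : Set G) = P₀ := by
    have h1 : Nat.card G ≤ (Subgroup.normalizer ((P₀ : Subgroup G) : Set G)).index *
        Nat.card (P₀ : Subgroup G) := by
      rw [← hnidx]; exact hcount.trans hsumle
    have h2 := (Subgroup.normalizer ((P₀ : Subgroup G) : Set G)).card_mul_index
    have h3 : Nat.card (Subgroup.normalizer ((P₀ : Subgroup G) : Set G)) ≤
        Nat.card (P₀ : Subgroup G) := by
      have hpos : 0 < (Subgroup.normalizer ((P₀ : Subgroup G) : Set G)).index :=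
        Nat.pos_of_ne_zero Subgroup.index_ne_zero_of_finite
      rw [← h2, mul_comm] at h1
      exact Nat.le_of_mul_le_mul_left h1 hpos
    exact (Subgroup.eq_of_le_of_card_ge Subgroup.le_normalizer h3).symm
  have hab : (P₀ : Subgroup G) ≤ Subgroup.centralizer ((P₀ : Subgroup G) : Set G) := by
    by_contra hnot
    have hlt : Nat.card ↥((P₀ : Subgroup G) ⊓ Subgroup.centralizer ((P₀ : Subgroup G) : Set G)) <
        Nat.card (P₀ : Subgroup G) := by
      by_contra hge; push Not at hge
      have := Subgroup.eq_of_le_of_card_ge (inf_le_left : (P₀ : Subgroup G) ⊓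
        Subgroup.centralizer ((P₀ : Subgroup G) : Set G) ≤ P₀) hge
      exact hnot (this.symm.le.trans inf_le_right)
    have hsumlt : ∑ P' : Sylow p G,
        Nat.card ↥((P' : Subgroup G) ⊓ Subgroup.centralizer ((P' : Subgroup G) : Set G)) <
          Nat.card (Sylow p G) * Nat.card (P₀ : Subgroup G) := by
      rw [← hconst]
      exact Finset.sum_lt_sum (fun P' _ => hle P') ⟨P₀, Finset.mem_univ _, hlt⟩
    rw [hnidx, hnorm] at hsumlt
    have := (P₀ : Subgroup G).card_mul_index
    rw [mul_comm] at this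
    omega
  have hNC : Subgroup.normalizer ((P₀ : Subgroup G) : Set G) ≤
      Subgroup.centralizer ((P₀ : Subgroup G) : Set G) := by
    rw [hnorm]; exact hab
  obtain ⟨K, hKn, hKc⟩ : ∃ K : Subgroup G, K.Normal ∧ K.IsComplement' (P₀ : Subgroup G) :=
    ⟨_, inferInstance, MonoidHom.ker_transferSylow_isComplement' P₀ hNC⟩
  haveI := hKn
  have hcardK : Nat.card K * Nat.card (P₀ : Subgroup G) = Nat.card G := hKc.card_mul_card
  have hKidx : K.index = Nat.card (P₀ : Subgroup G) := by
    have := K.card_mul_index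
    exact Nat.eq_of_mul_eq_mul_left Nat.card_pos (this.trans hcardK.symm)
  have hKcop : (Nat.card K).Coprime p := by
    have h1 := P₀.card_coprime_index
    have h2 : (P₀ : Subgroup G).index = Nat.card K := by
      have := (P₀ : Subgroup G).card_mul_index
      have h3 : Nat.card (P₀ : Subgroup G) * (P₀ : Subgroup G).index =
          Nat.card (P₀ : Subgroup G) * Nat.card K := by rw [this, ← hcardK, mul_comm]
      exact Nat.eq_of_mul_eq_mul_left Nat.card_pos h3
    rw [h2] at h1
    have hp_dvd : p ∣ Nat.card (P₀ : Subgroup G) := by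
      have : orderOf x₀ ∣ Nat.card (P₀ : Subgroup G) := by
        rw [hP₀eq]; exact Subgroup.orderOf_dvd_natCard _ (self_mem_Cz x₀)
      rw [← hpa] at this
      exact (dvd_pow_self p ha.ne').trans this
    exact (Nat.Coprime.coprime_dvd_left hp_dvd h1).symm
  have hpK : ¬ p ∣ Nat.card K := (Nat.Prime.coprime_iff_not_dvd hp).mp hKcop.symm
  have hQsol : Group.IsSolvable (G ⧸ K) := by
    have : IsPGroup p (G ⧸ K) := by
      apply IsPGroup.of_card (n := (Nat.card G).factorization p)
      rw [← Subgroup.index_eq_card, hKidx, P₀.card_eq_multiplicity]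
    haveI := this.isNilpotent
    exact IsNilpotent.to_isSolvable
  have hKsol : Group.IsSolvable K := by
    by_cases hK1 : Nat.card K = 1
    · haveI : Subsingleton K := (Nat.card_eq_one_iff_unique.mp hK1).1
      infer_instance
    obtain ⟨t, ht, htK⟩ := Nat.exists_prime_and_dvd hK1
    haveI : Fact t.Prime := ⟨ht⟩
    have htp : t ≠ p := by
      rintro rfl
      exact hpK htK
    have htG : t ∣ Nat.card G := htK.trans (Subgroup.card_subgroup_dvd_card K)
    have hKidx' : K.index = p ^ (Nat.card G).factorization p := by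
      rw [hKidx, P₀.card_eq_multiplicity]
    have hTK : ∀ T : Sylow t G, (T : Subgroup G) ≤ K :=
      fun T => sylow_le_of_index_pow htp K hKidx' T
    have hnt : ¬ p ∣ Nat.card (Sylow t G) := by
      obtain ⟨T₁⟩ : Nonempty (Sylow t G) := inferInstance
      have hT₁idx : Nat.card (Sylow t G) =
          (Subgroup.normalizer ((T₁ : Subgroup G) : Set G)).index := T₁.card_eq_index_normalizer
      rw [hT₁idx]
      have hFr : Subgroup.normalizer ((T₁ : Subgroup G) : Set G) ⊔ K = ⊤ :=
        Sylow.normalizer_sup_eq_top' T₁ (hTK T₁)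
      have h1 := Cfsg.Agent.helper21.relIndex_sup_normal K
        (Subgroup.normalizer ((T₁ : Subgroup G) : Set G))
      rw [sup_comm, hFr, Subgroup.relIndex_top_right] at h1
      rw [h1]
      intro hdvd
      exact hpK (hdvd.trans (Subgroup.relIndex_dvd_card _ K))
    obtain ⟨T, hT⟩ := P₀.isPGroup'.nonempty_fixed_point_of_prime_not_dvd_card (Sylow t G) hnt
    have hPT : (P₀ : Subgroup G) ≤ Subgroup.normalizer ((T : Subgroup G) : Set G) := by
      intro g hg
      have := hT ⟨g, hg⟩
      rw [Subgroup.smul_def] at this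
      exact Sylow.smul_eq_iff_mem_normalizer.mp this
    have hTne : (T : Subgroup G) ≠ ⊥ := T.ne_bot_of_dvd_card htG
    have hTsup : (P₀ : Subgroup G) ⊔ T = ⊤ := by
      rw [hP₀eq]
      apply (hco x₀ hx₀).2
      apply lt_of_le_of_ne le_sup_left
      intro heq
      have hTle : (T : Subgroup G) ≤ Cz x₀ := by rw [heq]; exact le_sup_right
      rw [← hP₀eq] at hTle
      have : (T : Subgroup G) ≤ K ⊓ P₀ := le_inf (hTK T) hTle
      rw [hKc.disjoint.eq_bot] at this
      exact hTne (le_bot_iff.mp this)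
    have hTn : (T : Subgroup G).Normal := by
      rw [← Subgroup.normalizer_eq_top_iff]
      apply top_le_iff.mp
      rw [← hTsup]
      exact sup_le hPT Subgroup.le_normalizer
    haveI := hTn
    have hTidx : (T : Subgroup G).index ∣ Nat.card (P₀ : Subgroup G) := by
      have h1 := Subgroup.relIndex_sup_right (P₀ : Subgroup G) (T : Subgroup G)
      rw [hTsup, Subgroup.relIndex_top_right] at h1
      rw [h1]; exact Subgroup.relIndex_dvd_card _ _
    have hKT : K ≤ T := by
      intro k hk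
      rw [← QuotientGroup.eq_one_iff (N := (T : Subgroup G))]
      have h1 : orderOf ((k : G) : G ⧸ (T : Subgroup G)) ∣ Nat.card K :=
        (orderOf_map_dvd (QuotientGroup.mk' (T : Subgroup G)) k).trans
          (Subgroup.orderOf_dvd_natCard K hk)
      have h2 : orderOf ((k : G) : G ⧸ (T : Subgroup G)) ∣ Nat.card (P₀ : Subgroup G) := by
        refine (orderOf_dvd_natCard _).trans ?_
        rw [← Subgroup.index_eq_card]; exact hTidx
      rw [P₀.card_eq_multiplicity] at h2
      have h3 := Nat.dvd_gcd h1 h2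
      rw [(Nat.Coprime.pow_right _ hKcop).gcd_eq_one, Nat.dvd_one, orderOf_eq_one_iff] at h3
      exact h3
    haveI := (T.isPGroup'.to_le hKT).isNilpotent
    exact IsNilpotent.to_isSolvable
  haveI := hKsol
  haveI := hQsol
  haveI : Group.IsSolvable G :=
    Group.isSolvable_of_ker_le_range K.subtype (QuotientGroup.mk' K) (by simp)
  infer_instance

end final

theorem result {G : Type*} [Group G] [Finite G] (N : Subgroup G) [N.Normal] (hN : N ≠ ⊤)
    (h : ∀ x : G, x ∉ N → IsPrimePow (orderOf x) ∧ IsCoatom (Subgroup.centralizer ({x} : Set G))) : Group.IsSolvable ↥N := by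
  exact main N hN h

end Cfsg.Agent.S3903
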