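import Mathlib
import Cfsg.Statements.S4262
import Cfsg.Agent.Lib_helper3_ZJFunctor

set_option autoImplicit false
set_option linter.style.haveILetI false
set_option linter.unusedSectionVars false
set_option linter.unusedVariables false
open Cfsg
open scoped Pointwise

namespace Cfsg.Agent.S4262

universe u

section basics
variable {G : Type*} [Group G]

/-- centralizer of an element -/
abbrev Cz (x : G) : Subgroup G := Subgroup.centralizer ({x} : Set G)

lemma mem_Cz {x g : G} : g ∈ Cz x ↔ g * x = x * g := Subgroup.mem_centralizer_singleton_iff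

lemma self_mem_Cz (x : G) : x ∈ Cz x := mem_Cz.mpr rfl

lemma mem_Cz_comm {x y : G} : x ∈ Cz y ↔ y ∈ Cz x := by
  rw [mem_Cz, mem_Cz]; exact eq_comm

lemma conj_mem_Cz {x g h : G} : g * h * g⁻¹ ∈ Cz (g * x * g⁻¹) ↔ h ∈ Cz x := by
  rw [mem_Cz, mem_Cz]
  have e1 : g * h * g⁻¹ * (g * x * g⁻¹) = g * (h * x) * g⁻¹ := by group
  have e2 : g * x * g⁻¹ * (g * h * g⁻¹) = g * (x * h) * g⁻¹ := by group
  rw [e1, e2]
  constructor
  · intro H; exact mul_left_cancel (mul_right_cancel H)
  · intro H; rw [H]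

lemma Cz_le_Cz_pow (x : G) (n : ℕ) : Cz x ≤ Cz (x ^ n) := by
  intro g hg
  rw [mem_Cz] at hg ⊢
  exact ((show Commute g x from hg).pow_right n).eq

lemma orderOf_conj' (g x : G) : orderOf (g * x * g⁻¹) = orderOf x := by
  have := (MulAut.conj g).orderOf_eq x
  simpa [MulAut.conj_apply] using this

/-- the standing hypotheses of the minimal situation -/
structure Hyp (G : Type*) [Group G] : Prop where
  coatom : ∀ x : G, x ≠ 1 → IsCoatom (Cz x)
  nonorm : ∀ N : Subgroup G, N.Normal → Group.IsSolvable N → N = ⊥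

/-- abelian type -/
def AbT (x : G) : Prop := ∀ y ∈ Cz x, y ≠ 1 → Cz y = Cz x

lemma abT_comm {x : G} (hab : AbT x) {a b : G} (ha : a ∈ Cz x) (hb : b ∈ Cz x) :
    a * b = b * a := by
  by_cases ha1 : a = 1
  · simp [ha1]
  have h1 : Cz a = Cz x := hab a ha ha1
  have : b ∈ Cz a := by rw [h1]; exact hb
  exact (mem_Cz.mp this).symm

lemma abT_of_mem {x a : G} (hab : AbT x) (ha : a ∈ Cz x) (ha1 : a ≠ 1) : AbT a := by
  have h1 : Cz a = Cz x := hab a ha ha1
  intro y hy hy1
  rw [h1] at hy ⊢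
  exact hab y hy hy1

variable [Finite G] (H : Hyp G)
include H

lemma Hyp.Cz_ne_top {x : G} (hx : x ≠ 1) : Cz x ≠ ⊤ := (H.coatom x hx).1

lemma Hyp.Cz_eq_of_le {x y : G} (hx : x ≠ 1) (hy : y ≠ 1) (h : Cz x ≤ Cz y) : Cz x = Cz y := by
  rcases (H.coatom x hx).le_iff.mp h with h1 | h1
  · exact absurd h1 (H.Cz_ne_top hy)
  · exact h1.symm

lemma Hyp.Cz_pow {x : G} {n : ℕ} (hn : x ^ n ≠ 1) : Cz (x ^ n) = Cz x := by
  have hx : x ≠ 1 := by rintro rfl; simp at hn
  exact (H.Cz_eq_of_le hx hn (Cz_le_Cz_pow x n)).symm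

lemma Hyp.center_eq_bot : Subgroup.center G = ⊥ := by
  apply H.nonorm _ inferInstance
  exact Group.isSolvable_of_comm
    (fun a b => Subtype.ext (Subgroup.mem_center_iff.mp b.2 (a : G)))

lemma Hyp.not_normal {x : G} (hx : x ≠ 1) : ¬ (Cz x).Normal := by
  intro hn
  haveI := hn
  set A := Subgroup.centralizer ((Cz x : Subgroup G) : Set G) with hA
  have hAn : A.Normal := Subgroup.normal_centralizer
  have hAle : A ≤ Cz x := by
    intro a ha
    rw [mem_Cz]
    exact (Subgroup.mem_centralizer_iff.mp ha x (self_mem_Cz x)).symm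
  have hAc : ∀ a b : A, a * b = b * a := by
    intro a b
    apply Subtype.ext
    have := Subgroup.mem_centralizer_iff.mp a.2 b.1 (hAle b.2)
    simpa using this.symm
  have hsol : Group.IsSolvable A := Group.isSolvable_of_comm hAc
  have hbot := H.nonorm A hAn hsol
  have hxA : x ∈ A := by
    rw [hA, Subgroup.mem_centralizer_iff]
    intro g hg
    exact mem_Cz.mp hg
  rw [hbot, Subgroup.mem_bot] at hxA
  exact hx hxA

lemma Hyp.normalizer_Cz {x : G} (hx : x ≠ 1) :
    Subgroup.normalizer ((Cz x : Subgroup G) : Set G) = Cz x := by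
  rcases (H.coatom x hx).le_iff.mp Subgroup.le_normalizer with h1 | h1
  · exact absurd (Subgroup.normalizer_eq_top_iff.mp h1) (H.not_normal hx)
  · exact h1

lemma Hyp.pow_orderOf_eq_one_of_comm {x y : G} (hx : x ≠ 1) (hy : y ≠ 1) (hc : x * y = y * x)
    (hne : Cz x ≠ Cz y) : x ^ orderOf y = 1 := by
  by_contra hxn
  have hxy1 : x * y ≠ 1 := by
    intro h
    apply hne
    apply H.Cz_eq_of_le hx hy
    intro g hg
    rw [mem_Cz] at hg ⊢
    have hy' : y = x⁻¹ := eq_inv_of_mul_eq_one_right h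
    rw [hy']
    exact ((show Commute g x from hg).inv_right).eq
  have h1 : Cz (x * y) ≠ Cz x := by
    intro h
    apply hne
    apply H.Cz_eq_of_le hx hy
    intro g hg
    have hg2 : g ∈ Cz (x * y) := by rw [h]; exact hg
    rw [mem_Cz] at hg hg2 ⊢
    have : x * (g * y) = x * (y * g) := by
      calc x * (g * y) = (x * g) * y := by rw [mul_assoc]
        _ = (g * x) * y := by rw [hg]
        _ = g * (x * y) := by rw [mul_assoc]
        _ = (x * y) * g := hg2
        _ = x * (y * g) := by rw [mul_assoc]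
    exact mul_left_cancel this
  have h2 : (x * y) ^ orderOf y = x ^ orderOf y := by
    rw [(show Commute x y from hc).mul_pow, pow_orderOf_eq_one, mul_one]
  have h3 : Cz (x ^ orderOf y) = Cz x := H.Cz_pow hxn
  have h4 : Cz ((x * y) ^ orderOf y) = Cz (x * y) := H.Cz_pow (by rw [h2]; exact hxn)
  rw [h2, h3] at h4
  exact h1 h4.symm

lemma Hyp.orderOf_eq_of_comm {x y : G} (hx : x ≠ 1) (hy : y ≠ 1) (hc : x * y = y * x)
    (hne : Cz x ≠ Cz y) : orderOf x = orderOf y :=
  Nat.dvd_antisymm (orderOf_dvd_of_pow_eq_one (H.pow_orderOf_eq_one_of_comm hx hy hc hne))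
    (orderOf_dvd_of_pow_eq_one (H.pow_orderOf_eq_one_of_comm hy hx hc.symm hne.symm))

lemma Hyp.prime_orderOf_of_comm {x y : G} (hx : x ≠ 1) (hy : y ≠ 1) (hc : x * y = y * x)
    (hne : Cz x ≠ Cz y) : (orderOf x).Prime := by
  have hn1 : orderOf x ≠ 1 := by rw [Ne, orderOf_eq_one_iff]; exact hx
  have hn0 : 0 < orderOf x := orderOf_pos x
  have hsp : (orderOf x).minFac.Prime := Nat.minFac_prime hn1
  have hsn : (orderOf x).minFac ∣ orderOf x := Nat.minFac_dvd _
  by_cases hsn' : (orderOf x).minFac = orderOf x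
  · rw [← hsn']; exact hsp
  exfalso
  obtain ⟨s, hs⟩ : ∃ s, s = (orderOf x).minFac := ⟨_, rfl⟩
  rw [← hs] at hsp hsn hsn'
  have hx' : x ^ s ≠ 1 := by
    intro h
    have h1 : orderOf x ∣ s := orderOf_dvd_of_pow_eq_one h
    exact hsn' (Nat.dvd_antisymm hsn h1)
  have hCz : Cz (x ^ s) = Cz x := H.Cz_pow hx'
  have hc' : x ^ s * y = y * x ^ s := ((show Commute x y from hc).pow_left s).eq
  have hne' : Cz (x ^ s) ≠ Cz y := by rw [hCz]; exact hne
  have h1 : orderOf (x ^ s) = orderOf y := H.orderOf_eq_of_comm hx' hy hc' hne'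
  have h2 : orderOf x = orderOf y := H.orderOf_eq_of_comm hx hy hc hne
  have h3 : orderOf (x ^ s) = orderOf x := by rw [h1, ← h2]
  have h4 : (x ^ s) ^ (orderOf x / s) = 1 := by
    rw [← pow_mul, Nat.mul_div_cancel' hsn, pow_orderOf_eq_one]
  have h5 : orderOf x ∣ orderOf x / s := by
    conv_lhs => rw [← h3]
    exact orderOf_dvd_of_pow_eq_one h4
  have h6 : orderOf x / s < orderOf x := Nat.div_lt_self hn0 hsp.one_lt
  have h7 : 0 < orderOf x / s := Nat.div_pos (Nat.le_of_dvd hn0 hsn) hsp.pos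
  exact absurd (Nat.le_of_dvd h7 h5) (not_le.mpr h6)

lemma Hyp.abT_conj_mem {x a g : G} (hx : x ≠ 1) (hab : AbT x) (ha : a ∈ Cz x) (ha1 : a ≠ 1)
    (hga : g * a * g⁻¹ ∈ Cz x) : g ∈ Cz x := by
  rw [← H.normalizer_Cz hx, Subgroup.mem_normalizer_iff]
  intro h
  have h1 : Cz a = Cz x := hab a ha ha1
  have hga1 : g * a * g⁻¹ ≠ 1 := by rw [Ne, conj_eq_one_iff]; exact ha1
  have h2 : Cz (g * a * g⁻¹) = Cz x := hab _ hga hga1
  constructor
  · intro hh
    rw [← h2]; exact conj_mem_Cz.mpr (by rw [h1]; exact hh)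
  · intro hh
    rw [← h1]; exact conj_mem_Cz.mp (by rw [h2]; exact hh)

lemma Hyp.not_abT {x : G} (hx : x ≠ 1) (hab : ¬ AbT x) :
    (orderOf x).Prime ∧ (∀ u ∈ Cz x, u ≠ 1 → orderOf u = orderOf x) ∧
      ∃ a ∈ Cz x, ∃ b ∈ Cz x, a * b ≠ b * a := by
  unfold AbT at hab
  push Not at hab
  obtain ⟨y, hy, hy1, hyne⟩ := hab
  have hc : x * y = y * x := (mem_Cz.mp hy).symm
  have hne : Cz x ≠ Cz y := fun h => hyne h.symm
  have hp := H.prime_orderOf_of_comm hx hy1 hc hne
  have hxy := H.orderOf_eq_of_comm hx hy1 hc hne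
  refine ⟨hp, ?_, ?_⟩
  · intro u hu hu1
    by_cases h : Cz u = Cz x
    · have hc' : u * y = y * u := by
        have : y ∈ Cz u := by rw [h]; exact hy
        exact (mem_Cz.mp this).symm
      have hne' : Cz u ≠ Cz y := by rw [h]; exact hne
      rw [H.orderOf_eq_of_comm hu1 hy1 hc' hne', hxy]
    · have hc' : x * u = u * x := (mem_Cz.mp hu).symm
      exact (H.orderOf_eq_of_comm hx hu1 hc' (fun h' => h h'.symm)).symm
  · by_contra hall
    push Not at hall
    apply hne
    apply H.Cz_eq_of_le hx hy1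
    intro g hg
    rw [mem_Cz]
    exact hall g hg y hy


lemma Hyp.not_abT_sylow [Nontrivial G] {x : G} (hx : x ≠ 1) (hab : ¬ AbT x) :
    ∃ (s : ℕ) (_ : Fact s.Prime) (P : Sylow s G), (P : Subgroup G) = Cz x ∧ s ≠ 2 ∧
      ∃ a ∈ Cz x, ∃ b ∈ Cz x, a * b ≠ b * a := by
  obtain ⟨hp, hord, a, ha, b, hb, hnc⟩ := H.not_abT hx hab
  obtain ⟨s, hs⟩ : ∃ s, s = orderOf x := ⟨_, rfl⟩
  rw [← hs] at hp hord
  haveI : Fact s.Prime := ⟨hp⟩
  have hpg : IsPGroup s (Cz x) := by
    intro g
    by_cases hg : g = 1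
    · exact ⟨0, by simp [hg]⟩
    · refine ⟨1, ?_⟩
      have hg' : (g : G) ≠ 1 := fun h => hg (Subtype.ext h)
      have := hord g g.2 hg'
      apply Subtype.ext
      rw [pow_one, Subgroup.coe_pow, Subgroup.coe_one, ← this, pow_orderOf_eq_one]
  obtain ⟨Q, hQ⟩ := hpg.exists_le_sylow
  have hQtop : (Q : Subgroup G) ≠ ⊤ := by
    intro h
    have hG : IsPGroup s G := by
      intro g
      obtain ⟨k, hk⟩ := Q.isPGroup' ⟨g, by rw [h]; exact Subgroup.mem_top g⟩
      exact ⟨k, by simpa using congrArg Subtype.val hk⟩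
    haveI := hG.center_nontrivial
    obtain ⟨z, hz⟩ := exists_ne (1 : Subgroup.center G)
    have hz' : (z : G) ∈ (⊥ : Subgroup G) := by rw [← H.center_eq_bot]; exact z.2
    exact hz (Subtype.ext (Subgroup.mem_bot.mp hz'))
  have hEq : Cz x = Q := by
    rcases (H.coatom x hx).le_iff.mp hQ with h1 | h1
    · exact absurd h1 hQtop
    · exact h1.symm
  refine ⟨s, ⟨hp⟩, Q, hEq.symm, ?_, a, ha, b, hb, hnc⟩
  intro h2
  apply hnc
  have hsq : ∀ u ∈ Cz x, u * u = 1 := by
    intro u hu
    by_cases hu1 : u = 1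
    · simp [hu1]
    · have := hord u hu hu1
      rw [h2] at this
      rw [← pow_two, ← this, pow_orderOf_eq_one]
  have hab' := hsq (a * b) (mul_mem ha hb)
  have ha' : a⁻¹ = a := inv_eq_of_mul_eq_one_right (hsq a ha)
  have hb' : b⁻¹ = b := inv_eq_of_mul_eq_one_right (hsq b hb)
  have hab'' : (a * b)⁻¹ = a * b := inv_eq_of_mul_eq_one_right hab'
  rw [← hab'', mul_inv_rev, ha', hb']

lemma Hyp.abT_sylow_le {x : G} (hx : x ≠ 1) (hab : AbT x) {q : ℕ} [Fact q.Prime]
    (hq : q ∣ Nat.card (Cz x)) :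
    ∃ Q : Sylow q G, (Q : Subgroup G) ≤ Cz x ∧ (Q : Subgroup G) ≠ ⊥ := by
  obtain ⟨a, ha⟩ := exists_prime_orderOf_dvd_card' q hq
  have ha1 : (a : G) ≠ 1 := by
    intro h
    have : a = 1 := Subtype.ext h
    rw [this, orderOf_one] at ha
    exact (Fact.out : q.Prime).one_lt.ne ha
  have hpz : IsPGroup q (Subgroup.zpowers (a : G)) := by
    apply IsPGroup.of_card (n := 1)
    rw [Nat.card_zpowers, Subgroup.orderOf_coe, ha, pow_one]
  obtain ⟨Q, hQ⟩ := hpz.exists_le_sylow
  have haQ : (a : G) ∈ (Q : Subgroup G) := hQ (Subgroup.mem_zpowers _)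
  have hQne : (Q : Subgroup G) ≠ ⊥ := by
    intro h; rw [h, Subgroup.mem_bot] at haQ; exact ha1 haQ
  haveI : Nontrivial (Q : Subgroup G) := (Subgroup.nontrivial_iff_ne_bot _).mpr hQne
  haveI := Q.isPGroup'.center_nontrivial
  obtain ⟨z, hz⟩ := exists_ne (1 : Subgroup.center (Q : Subgroup G))
  have hzc : ∀ g : (Q : Subgroup G), g * (z : (Q : Subgroup G)) = (z : (Q : Subgroup G)) * g :=
    fun g => Subgroup.mem_center_iff.mp z.2 g
  obtain ⟨z', hz'⟩ : ∃ z' : G, z' = ((z : (Q : Subgroup G)) : G) := ⟨_, rfl⟩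
  have hz'1 : z' ≠ 1 := by
    intro h; apply hz; apply Subtype.ext; apply Subtype.ext; rw [← hz']; exact h
  have hQz : (Q : Subgroup G) ≤ Cz z' := by
    intro g hg
    rw [mem_Cz, hz']
    exact congrArg Subtype.val (hzc ⟨g, hg⟩)
  have hz'a : z' ∈ Cz (a : G) := by
    rw [mem_Cz_comm]; exact hQz haQ
  have hCa : Cz (a : G) = Cz x := hab a a.2 ha1
  have hz'x : z' ∈ Cz x := by rw [← hCa]; exact hz'a
  have hCz' : Cz z' = Cz x := hab z' hz'x hz'1
  exact ⟨Q, by rw [← hCz']; exact hQz, hQne⟩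

omit H in
lemma hasNPC_of_isPGroup {K : Type*} [Group K] [Finite K] {p : ℕ} [Fact p.Prime]
    (hK : IsPGroup p K) : Cfsg.HasNormalPComplement p K := by
  obtain ⟨Q⟩ : Nonempty (Sylow p K) := inferInstance
  have hQ : (Q : Subgroup K) = ⊤ := (Q.is_maximal' (hK.to_subgroup ⊤) le_top).symm
  exact ⟨Q, ⊥, inferInstance, by rw [hQ]; exact Subgroup.isComplement'_bot_top⟩

omit H in
lemma center_mem_zjI {S : Subgroup G} {z : G} (hz : z ∈ S) (hzc : ∀ g ∈ S, g * z = z * g) :
    z ∈ Cfsg.centerThompsonAOf S := by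
  rw [Cfsg.Agent.helper3.centerThompsonAOf_eq_zjI]
  have key : Subgroup.zpowers z ≤ Cfsg.Agent.helper3.zjI Cfsg.Agent.helper3.famAb S := by
    apply Cfsg.Agent.helper3.le_zjI
    intro A hA
    obtain ⟨hAS, hAc, hAmax⟩ := hA
    have hzp : IsMulCommutative (Subgroup.zpowers z) := inferInstance
    have hcomm : ∀ a ∈ A, ∀ c ∈ Subgroup.zpowers z, a * c = c * a := by
      intro a ha c hc
      obtain ⟨k, rfl⟩ := Subgroup.mem_zpowers_iff.mp hc
      exact ((show Commute a z from hzc a (hAS ha)).zpow_right k).eq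
    have hsup := Cfsg.Agent.helper3.isMulCommutative_sup' hAc hzp hcomm
    have hle : A ⊔ Subgroup.zpowers z ≤ S := sup_le hAS (by
      rw [Subgroup.zpowers_le]; exact hz)
    have hcard := hAmax _ hle hsup
    have heq : A = A ⊔ Subgroup.zpowers z := Subgroup.eq_of_le_of_card_ge le_sup_left hcard
    rw [heq]; exact le_sup_right
  exact key (Subgroup.mem_zpowers z)

lemma Hyp.exists_npc [Nontrivial G] {x : G} (hx : x ≠ 1) :
    ∃ (r : ℕ) (_ : Fact r.Prime) (P₀ : Sylow r G), (P₀ : Subgroup G) ≤ Cz x ∧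
      (P₀ : Subgroup G) ≠ ⊥ ∧ Cfsg.HasNormalPComplement r G ∧
      ∀ t : ℕ, t.Prime → t ∣ (Cz x).index → ¬ t ∣ Nat.card (Cz x) := by
  by_cases hab : AbT x
  · have hcard1 : Nat.card (Cz x) ≠ 1 := by
      intro h
      have : (Cz x) = ⊥ := Subgroup.card_eq_one.mp h
      have hxm := self_mem_Cz x
      rw [this, Subgroup.mem_bot] at hxm
      exact hx hxm
    obtain ⟨r, hrp, hrd⟩ := Nat.exists_prime_and_dvd hcard1
    haveI : Fact r.Prime := ⟨hrp⟩
    obtain ⟨P, hP, hPne⟩ := H.abT_sylow_le hx hab hrd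
    have hN : Subgroup.normalizer ((P : Subgroup G) : Set G) ≤
        Subgroup.centralizer ((P : Subgroup G) : Set G) := by
      intro g hg
      obtain ⟨⟨a, haP⟩, ha1⟩ := (Subgroup.ne_bot_iff_exists_ne_one).mp hPne
      have ha1' : a ≠ 1 := fun h => ha1 (Subtype.ext h)
      have hga : g * a * g⁻¹ ∈ (P : Subgroup G) := (Subgroup.mem_normalizer_iff.mp hg a).mp haP
      have hgC : g ∈ Cz x := H.abT_conj_mem hx hab (hP haP) ha1' (hP hga)
      rw [Subgroup.mem_centralizer_iff]
      intro h hh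
      exact abT_comm hab (hP hh) hgC
    refine ⟨r, ⟨hrp⟩, P, hP, hPne,
      ⟨P, _, inferInstance, MonoidHom.ker_transferSylow_isComplement' P hN⟩, ?_⟩
    intro t ht htidx htcard
    haveI : Fact t.Prime := ⟨ht⟩
    obtain ⟨Q, hQ, -⟩ := H.abT_sylow_le hx hab htcard
    have := Subgroup.index_dvd_of_le hQ
    exact Q.not_dvd_index (htidx.trans this)
  · obtain ⟨s, hs, P, hP, hs2, -⟩ := H.not_abT_sylow hx hab
    haveI := hs
    have hPne : (P : Subgroup G) ≠ ⊥ := by
      rw [hP]; intro h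
      have := self_mem_Cz x
      rw [h, Subgroup.mem_bot] at this
      exact hx this
    refine ⟨s, hs, P, hP.le, hPne, ?_, ?_⟩
    · apply Cfsg.Agent.helper3.glauberman_npc hs2 P
      obtain ⟨W, hW⟩ : ∃ W, W = Cfsg.centerThompsonAOf (P : Subgroup G) := ⟨_, rfl⟩
      rw [← hW]
      have hWle : W ≤ P := by
        rw [hW, Cfsg.Agent.helper3.centerThompsonAOf_eq_zjI]
        exact Cfsg.Agent.helper3.zjI_le Cfsg.Agent.helper3.zjFamily_famAb _
      have hPN : (P : Subgroup G) ≤ Subgroup.normalizer (W : Set G) := by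
        rw [hW, Cfsg.Agent.helper3.centerThompsonAOf_eq_zjI]
        exact Subgroup.le_normalizer.trans
          (Cfsg.Agent.helper3.normalizer_le_normalizer_zjI Cfsg.Agent.helper3.zjFamily_famAb _)
      have hWne : W ≠ ⊥ := by
        haveI : Nontrivial (P : Subgroup G) := (Subgroup.nontrivial_iff_ne_bot _).mpr hPne
        haveI := P.isPGroup'.center_nontrivial
        obtain ⟨z, hz⟩ := exists_ne (1 : Subgroup.center (P : Subgroup G))
        have hzc : ∀ g : (P : Subgroup G), g * (z : (P : Subgroup G)) = (z : (P : Subgroup G)) * g :=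
          fun g => Subgroup.mem_center_iff.mp z.2 g
        have hzW : ((z : (P : Subgroup G)) : G) ∈ W := by
          rw [hW]
          apply center_mem_zjI (z : (P : Subgroup G)).2
          intro g hg
          exact congrArg Subtype.val (hzc ⟨g, hg⟩)
        intro hbot
        rw [hbot, Subgroup.mem_bot] at hzW
        apply hz; apply Subtype.ext; apply Subtype.ext; exact hzW
      have hNtop : Subgroup.normalizer (W : Set G) ≠ ⊤ := by
        intro h
        have hWn : W.Normal := Subgroup.normalizer_eq_top_iff.mp h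
        have hWp : IsPGroup s W := P.isPGroup'.to_le hWle
        have : Group.IsSolvable W := by
          haveI := hWp.isNilpotent
          exact IsNilpotent.to_isSolvable
        exact hWne (H.nonorm W hWn this)
      have hNeq : Subgroup.normalizer (W : Set G) = Cz x := by
        rcases (H.coatom x hx).le_iff.mp (hP ▸ hPN) with h1 | h1
        · exact absurd h1 hNtop
        · exact h1
      have hNp : IsPGroup s (Subgroup.normalizer (W : Set G)) := by
        rw [hNeq, ← hP]; exact P.isPGroup'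
      exact hasNPC_of_isPGroup hNp
    · intro t ht htidx htcard
      rw [← hP] at htidx htcard
      rw [P.card_eq_multiplicity] at htcard
      have : t = s := (Nat.prime_dvd_prime_iff_eq ht hs.out).mp (ht.dvd_of_dvd_pow htcard)
      subst this
      exact P.not_dvd_index htidx

theorem Hyp.false [Nontrivial G] : False := by
  obtain ⟨x₀, hx₀⟩ := exists_ne (1 : G)
  obtain ⟨r, hr, P₀, hP₀, hP₀ne, ⟨P', L, hLn, hLc⟩, hHall⟩ := H.exists_npc hx₀
  haveI := hr
  haveI := hLn
  have hcard : Nat.card L * Nat.card (P' : Subgroup G) = Nat.card G := hLc.card_mul_card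
  have hLidx : L.index = Nat.card (P' : Subgroup G) := by
    have := L.card_mul_index
    exact Nat.eq_of_mul_eq_mul_left Nat.card_pos (this.trans hcard.symm)
  have hP'card : Nat.card (P' : Subgroup G) = r ^ (Nat.card G).factorization r :=
    P'.card_eq_multiplicity
  have hidx1 : (Cz x₀).index ≠ 1 := by
    intro h; exact H.Cz_ne_top hx₀ (Subgroup.index_eq_one.mp h)
  obtain ⟨t, htp, htidx⟩ := Nat.exists_prime_and_dvd hidx1
  haveI : Fact t.Prime := ⟨htp⟩
  have htM : ¬ t ∣ Nat.card (Cz x₀) := hHall t htp htidx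
  have hrM : r ∣ Nat.card (Cz x₀) := by
    have h1 : Nat.card (P₀ : Subgroup G) ∣ Nat.card (Cz x₀) := Subgroup.card_dvd_of_le hP₀
    have h2 : r ∣ Nat.card (P₀ : Subgroup G) := by
      obtain ⟨n, hn⟩ := IsPGroup.iff_card.mp P₀.isPGroup'
      have hn0 : n ≠ 0 := by
        rintro rfl
        rw [pow_zero] at hn
        exact hP₀ne (Subgroup.card_eq_one.mp hn)
      rw [hn]; exact dvd_pow_self r hn0
    exact h2.trans h1
  have hrG : r ∣ Nat.card G := hrM.trans (Subgroup.card_subgroup_dvd_card _)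
  have hk0 : (Nat.card G).factorization r ≠ 0 :=
    (hr.out.factorization_pos_of_dvd Nat.card_pos.ne' hrG).ne'
  have hrL : r ∣ L.index := by rw [hLidx, hP'card]; exact dvd_pow_self r hk0
  have htr : t ≠ r := fun h => htM (h ▸ hrM)
  have htG : t ∣ Nat.card G := htidx.trans (Subgroup.index_dvd_card _)
  obtain ⟨T⟩ : Nonempty (Sylow t G) := inferInstance
  have hTne : (T : Subgroup G) ≠ ⊥ := T.ne_bot_of_dvd_card htG
  have hTL : (T : Subgroup G) ≤ L := by
    intro u hu
    rw [← QuotientGroup.eq_one_iff (N := L)]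
    have h1 : orderOf ((u : G) : G ⧸ L) ∣ orderOf u := orderOf_map_dvd (QuotientGroup.mk' L) u
    have h2 : orderOf ((u : G) : G ⧸ L) ∣ L.index := by
      rw [Subgroup.index_eq_card]; exact orderOf_dvd_natCard _
    obtain ⟨k, hk⟩ := (IsPGroup.iff_orderOf.mp T.isPGroup') ⟨u, hu⟩
    have hk' : orderOf u = t ^ k := by rw [← hk]; exact (Subgroup.orderOf_mk u hu).symm
    rw [hk'] at h1
    rw [hLidx, hP'card] at h2
    have hcop : Nat.Coprime (t ^ k) (r ^ (Nat.card G).factorization r) :=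
      Nat.Coprime.pow _ _ ((Nat.coprime_primes htp hr.out).mpr htr)
    have h3 := Nat.dvd_gcd h1 h2
    rw [hcop.gcd_eq_one, Nat.dvd_one, orderOf_eq_one_iff] at h3
    exact h3
  have hFr := Sylow.normalizer_sup_eq_top' T hTL
  haveI : Nontrivial (T : Subgroup G) := (Subgroup.nontrivial_iff_ne_bot _).mpr hTne
  haveI := T.isPGroup'.center_nontrivial
  obtain ⟨z, hz⟩ := exists_ne (1 : Subgroup.center (T : Subgroup G))
  have hzc : ∀ g : (T : Subgroup G), g * (z : (T : Subgroup G)) = (z : (T : Subgroup G)) * g :=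
    fun g => Subgroup.mem_center_iff.mp z.2 g
  obtain ⟨u, hu⟩ : ∃ u : G, u = ((z : (T : Subgroup G)) : G) := ⟨_, rfl⟩
  have hu1 : u ≠ 1 := by
    intro h; apply hz; apply Subtype.ext; apply Subtype.ext; rw [← hu]; exact h
  have huT : u ∈ (T : Subgroup G) := by rw [hu]; exact (z : (T : Subgroup G)).2
  have hTu : (T : Subgroup G) ≤ Cz u := by
    intro g hg
    rw [mem_Cz, hu]
    exact congrArg Subtype.val (hzc ⟨g, hg⟩)
  -- `t ∣ orderOf u`
  have htu : t ∣ orderOf u := by
    obtain ⟨k, hk⟩ := (IsPGroup.iff_orderOf.mp T.isPGroup') ⟨u, huT⟩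
    have hk' : orderOf u = t ^ k := by rw [← hk]; exact (Subgroup.orderOf_mk u huT).symm
    have hk0 : k ≠ 0 := by
      rintro rfl
      rw [pow_zero, orderOf_eq_one_iff] at hk'
      exact hu1 hk'
    rw [hk']; exact dvd_pow_self t hk0
  by_cases habu : AbT u
  · have hNT : Subgroup.normalizer ((T : Subgroup G) : Set G) ≤ Cz u := by
      intro g hg
      have hgu : g * u * g⁻¹ ∈ (T : Subgroup G) := (Subgroup.mem_normalizer_iff.mp hg u).mp huT
      exact H.abT_conj_mem hu1 habu (self_mem_Cz u) hu1 (hTu hgu)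
    have hsup : Cz u ⊔ L = ⊤ := by
      apply top_le_iff.mp; rw [← hFr]; exact sup_le_sup_right hNT L
    have hrdvd : r ∣ Nat.card (Cz u) := by
      have h1 := Subgroup.relIndex_sup_right (Cz u) L
      rw [hsup, Subgroup.relIndex_top_right] at h1
      have h2 : L.relIndex (Cz u) ∣ Nat.card (Cz u) := Subgroup.index_dvd_card _
      rw [h1] at hrL
      exact hrL.trans h2
    obtain ⟨b, hb⟩ := exists_prime_orderOf_dvd_card' r hrdvd
    have hb1 : (b : G) ≠ 1 := by
      intro h
      have : b = 1 := Subtype.ext h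
      rw [this, orderOf_one] at hb
      exact hr.out.one_lt.ne hb
    have hpz : IsPGroup r (Subgroup.zpowers (b : G)) := by
      apply IsPGroup.of_card (n := 1)
      rw [Nat.card_zpowers, Subgroup.orderOf_coe, hb, pow_one]
    obtain ⟨P'', hP''⟩ := hpz.exists_le_sylow
    obtain ⟨g, hg⟩ := MulAction.exists_smul_eq G P₀ P''
    have hb' : g⁻¹ * (b : G) * g ∈ (P₀ : Subgroup G) := by
      have : (b : G) ∈ ((g • P₀ : Sylow r G) : Subgroup G) := by
        rw [hg]; exact hP'' (Subgroup.mem_zpowers _)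
      rw [Sylow.coe_subgroup_smul, Subgroup.mem_pointwise_smul_iff_inv_smul_mem] at this
      simpa [MulAut.smul_def, MulAut.conj_apply] using this
    have hb'x : g⁻¹ * (b : G) * g ∈ Cz x₀ := hP₀ hb'
    have hx₀b' : x₀ ∈ Cz (g⁻¹ * (b : G) * g) := mem_Cz_comm.mp hb'x
    have hgb : g * (g⁻¹ * (b : G) * g) * g⁻¹ = (b : G) := by group
    have hz₀ : g * x₀ * g⁻¹ ∈ Cz (b : G) := by
      rw [← hgb]; exact conj_mem_Cz.mpr hx₀b'
    have hCb : Cz (b : G) = Cz u := habu b b.2 hb1
    have hz₀u : g * x₀ * g⁻¹ ∈ Cz u := by rw [← hCb]; exact hz₀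
    have hz₀1 : g * x₀ * g⁻¹ ≠ 1 := by rw [Ne, conj_eq_one_iff]; exact hx₀
    have hCz₀ : Cz (g * x₀ * g⁻¹) = Cz u := habu _ hz₀u hz₀1
    have hu' : g⁻¹ * u * g ∈ Cz x₀ := by
      have h1 : u ∈ Cz (g * x₀ * g⁻¹) := by rw [hCz₀]; exact self_mem_Cz u
      have h2 : g * (g⁻¹ * u * g) * g⁻¹ = u := by group
      rw [← h2] at h1
      exact conj_mem_Cz.mp h1
    have hord : orderOf (g⁻¹ * u * g) = orderOf u := by
      have := orderOf_conj' g⁻¹ u; simpa using this
    exact htM ((hord ▸ htu).trans (Subgroup.orderOf_dvd_natCard _ hu'))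
  · obtain ⟨s, hs, Q, hQ, -, -⟩ := H.not_abT_sylow hu1 habu
    haveI := hs
    have hst : s = t := by
      have h1 : orderOf u ∣ Nat.card (Q : Subgroup G) := by
        rw [hQ]; exact Subgroup.orderOf_dvd_natCard _ (self_mem_Cz u)
      rw [Q.card_eq_multiplicity] at h1
      exact ((Nat.prime_dvd_prime_iff_eq htp hs.out).mp (htp.dvd_of_dvd_pow (htu.trans h1))).symm
    subst hst
    have hQT : (Q : Subgroup G) = T := T.is_maximal' Q.isPGroup' (by rw [hQ]; exact hTu)
    have hNT : Subgroup.normalizer ((T : Subgroup G) : Set G) = T := by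
      rw [← hQT, hQ]; exact H.normalizer_Cz hu1
    have hFr' : Subgroup.normalizer ((T : Subgroup G) : Set G) ⊔ L = ⊤ := hFr
    rw [hNT] at hFr'
    have hLtop : L = ⊤ := by rw [← hFr']; exact (sup_eq_right.mpr hTL).symm
    rw [hLtop, Subgroup.index_top] at hrL
    exact hr.out.one_lt.ne' (Nat.dvd_one.mp hrL)

end basics

section wrap

lemma coatom_quotient {G : Type*} [Group G] (N : Subgroup G) [N.Normal]
    (h : ∀ g : G, g ∉ Subgroup.center G → IsCoatom (Subgroup.centralizer ({g} : Set G))) :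
    ∀ q : G ⧸ N, q ∉ Subgroup.center (G ⧸ N) →
      IsCoatom (Subgroup.centralizer ({q} : Set (G ⧸ N))) := by
  intro q hq
  obtain ⟨g, rfl⟩ := QuotientGroup.mk_surjective q
  have hg : g ∉ Subgroup.center G := by
    intro hg
    apply hq
    rw [Subgroup.mem_center_iff]
    intro q'
    obtain ⟨g', rfl⟩ := QuotientGroup.mk_surjective q'
    rw [← QuotientGroup.mk_mul, ← QuotientGroup.mk_mul, Subgroup.mem_center_iff.mp hg g']
  have hco := h g hg
  obtain ⟨D, hD⟩ : ∃ D, D = (Subgroup.centralizer ({(g : G ⧸ N)} : Set (G ⧸ N))).comap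
      (QuotientGroup.mk' N) := ⟨_, rfl⟩
  have hle : Cz g ≤ D := by
    intro a ha
    rw [hD, Subgroup.mem_comap, Subgroup.mem_centralizer_singleton_iff]
    show (a : G ⧸ N) * (g : G ⧸ N) = (g : G ⧸ N) * (a : G ⧸ N)
    rw [← QuotientGroup.mk_mul, ← QuotientGroup.mk_mul, mem_Cz.mp ha]
  have hDtop : D ≠ ⊤ := by
    intro hD'
    apply hq
    rw [Subgroup.mem_center_iff]
    intro q'
    obtain ⟨g', rfl⟩ := QuotientGroup.mk_surjective q'
    have : g' ∈ D := by rw [hD']; exact Subgroup.mem_top g'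
    rw [hD, Subgroup.mem_comap, Subgroup.mem_centralizer_singleton_iff] at this
    exact this
  have hDeq : D = Cz g := by
    rcases hco.le_iff.mp hle with h1 | h1
    · exact absurd h1 hDtop
    · exact h1
  constructor
  · intro htop
    apply hDtop
    rw [hD, htop, Subgroup.comap_top]
  · intro E hE
    have h1 : D < E.comap (QuotientGroup.mk' N) := by
      rw [hD]
      exact (Subgroup.comap_lt_comap_of_surjective (QuotientGroup.mk'_surjective N)).mpr hE
    rw [hDeq] at h1
    have h2 := hco.2 _ h1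
    apply top_le_iff.mp
    intro q' _
    obtain ⟨g', rfl⟩ := QuotientGroup.mk_surjective q'
    have : g' ∈ E.comap (QuotientGroup.mk' N) := by rw [h2]; exact Subgroup.mem_top g'
    exact this

theorem main_aux : ∀ (n : ℕ) (G : Type u) [Group G] [Finite G], Nat.card G = n →
    (∀ g : G, g ∉ Subgroup.center G → IsCoatom (Subgroup.centralizer ({g} : Set G))) →
    Group.IsSolvable G := by
  intro n
  induction n using Nat.strong_induction_on with
  | _ n ih =>
    intro G _ _ hn h
    by_cases hN : ∃ N : Subgroup G, N.Normal ∧ N ≠ ⊥ ∧ Group.IsSolvable N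
    · obtain ⟨N, hNn, hNb, hNs⟩ := hN
      haveI := hNn
      haveI := hNs
      have hlt : Nat.card (G ⧸ N) < n := by
        rw [← hn, ← Subgroup.index_eq_card, ← N.card_mul_index]
        have h1 : 1 < Nat.card N := (Subgroup.one_lt_card_iff_ne_bot N).mpr hNb
        have h2 : 0 < N.index := Nat.pos_of_ne_zero N.index_ne_zero_of_finite
        nlinarith
      haveI : Group.IsSolvable (G ⧸ N) := ih _ hlt (G ⧸ N) rfl (coatom_quotient N h)
      exact Group.isSolvable_of_ker_le_range N.subtype (QuotientGroup.mk' N) (by simp)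
    · by_cases hG : Subsingleton G
      · exact inferInstance
      · exfalso
        rw [not_subsingleton_iff_nontrivial] at hG
        haveI := hG
        push Not at hN
        have hnn : ∀ N : Subgroup G, N.Normal → Group.IsSolvable N → N = ⊥ := by
          intro N hNn hNs
          by_contra hb
          exact hN N hNn hb hNs
        have hcen : Subgroup.center G = ⊥ := by
          apply hnn _ inferInstance
          exact Group.isSolvable_of_comm
            (fun a b => Subtype.ext (Subgroup.mem_center_iff.mp b.2 (a : G)))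
        have hyp : Hyp G := ⟨fun x hx => h x (by
          intro hxc
          rw [hcen, Subgroup.mem_bot] at hxc
          exact hx hxc), hnn⟩
        exact hyp.false

end wrap

theorem result {G : Type*} [Group G] [Finite G]
    (h : ∀ g : G, g ∉ Subgroup.center G → IsCoatom (Subgroup.centralizer ({g} : Set G))) :
    Group.IsSolvable G := main_aux _ G rfl h

end Cfsg.Agent.S4262
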