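import Cfsg.Statements.S3904
import Cfsg.Agent.S4262
import Cfsg.Agent.S0041
import Cfsg.Agent.Lib_helper1_FrobThm
import Cfsg.Agent.Lib_helper1_PGroup
import Cfsg.Agent.Lib_helper21_FrobCount
import Cfsg.Agent.Lib_helper23_AbelMax
import Mathlib

set_option autoImplicit false
set_option linter.style.haveILetI false
set_option linter.unusedSectionVars false
open Cfsg
open scoped commutatorElement Pointwise

namespace Cfsg.Agent.S3904

variable {G : Type*} [Group G]

/-- centraliser of one element -/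
abbrev Cz (x : G) : Subgroup G := Subgroup.centralizer ({x} : Set G)

lemma mem_Cz {x g : G} : g ∈ Cz x ↔ g * x = x * g := Subgroup.mem_centralizer_singleton_iff

lemma self_mem_Cz (x : G) : x ∈ Cz x := mem_Cz.2 rfl

lemma mem_Cz_comm {x y : G} : x ∈ Cz y ↔ y ∈ Cz x := by
  rw [mem_Cz, mem_Cz]; exact eq_comm

lemma center_le_Cz (x : G) : Subgroup.center G ≤ Cz x := by
  intro z hz
  rw [mem_Cz]
  exact (Subgroup.mem_center_iff.1 hz x).symm

lemma Cz_le_Cz_pow (x : G) (n : ℕ) : Cz x ≤ Cz (x ^ n) := by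
  intro g hg
  rw [mem_Cz] at hg ⊢
  exact (Commute.pow_right (show Commute g x from hg) n).eq

lemma Cz_le_Cz_zpow (x : G) (n : ℤ) : Cz x ≤ Cz (x ^ n) := by
  intro g hg
  rw [mem_Cz] at hg ⊢
  exact (Commute.zpow_right (show Commute g x from hg) n).eq

lemma Cz_eq_top_iff {x : G} : Cz x = ⊤ ↔ x ∈ Subgroup.center G := by
  constructor
  · intro h
    rw [Subgroup.mem_center_iff]
    intro g
    have : g ∈ Cz x := by rw [h]; trivial
    exact mem_Cz.1 this
  · intro h
    rw [eq_top_iff]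
    intro g _
    rw [mem_Cz]
    exact Subgroup.mem_center_iff.1 h g

lemma Cz_mul_center (x z : G) (hz : z ∈ Subgroup.center G) : Cz (x * z) = Cz x := by
  ext g
  rw [mem_Cz, mem_Cz]
  have hgz : g * z = z * g := Subgroup.mem_center_iff.1 hz g
  constructor
  · intro h
    have h1 : g * x * z = x * g * z := by
      calc g * x * z = g * (x * z) := by group
        _ = x * z * g := h
        _ = x * (z * g) := by group
        _ = x * (g * z) := by rw [hgz]
        _ = x * g * z := by group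
    exact mul_right_cancel h1
  · intro h
    calc g * (x * z) = g * x * z := by group
      _ = x * g * z := by rw [h]
      _ = x * (g * z) := by group
      _ = x * (z * g) := by rw [hgz]
      _ = x * z * g := by group

lemma mem_Cz_conj {g x h : G} : h ∈ Cz (g * x * g⁻¹) ↔ g⁻¹ * h * g ∈ Cz x := by
  rw [mem_Cz, mem_Cz]
  constructor
  · intro e
    calc g⁻¹ * h * g * x = g⁻¹ * (h * (g * x * g⁻¹)) * g := by group
      _ = g⁻¹ * (g * x * g⁻¹ * h) * g := by rw [e]
      _ = x * (g⁻¹ * h * g) := by group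
  · intro e
    calc h * (g * x * g⁻¹) = g * (g⁻¹ * h * g * x) * g⁻¹ := by group
      _ = g * (x * (g⁻¹ * h * g)) * g⁻¹ := by rw [e]
      _ = g * x * g⁻¹ * h := by group

lemma conj_mem_center_iff {g x : G} : g * x * g⁻¹ ∈ Subgroup.center G ↔ x ∈ Subgroup.center G := by
  constructor
  · intro h
    have := (Subgroup.center G).normal_of_characteristic.conj_mem _ h g⁻¹
    simpa [mul_assoc] using this
  · intro h
    exact (Subgroup.center G).normal_of_characteristic.conj_mem _ h g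

/-! ### number theory of powers -/

/-- decomposition into a `p`-part and a `p'`-part, both powers -/
lemma pdecomp [Finite G] (p : ℕ) [hp : Fact p.Prime] (g : G) :
    ∃ a b : ℕ, g ^ a * g ^ b = g ∧ (∃ k : ℕ, (g ^ a) ^ (p ^ k) = 1) ∧ ¬ p ∣ orderOf (g ^ b) := by
  have hn0 : orderOf g ≠ 0 := (orderOf_pos g).ne'
  obtain ⟨k, m, hm, hnm⟩ := Nat.exists_eq_pow_mul_and_not_dvd hn0 p hp.out.ne_one
  have hcop : Nat.Coprime (p ^ k) m := by
    apply Nat.Coprime.pow_left
    exact (Nat.Prime.coprime_iff_not_dvd hp.out).2 hm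
  let e := Nat.chineseRemainder hcop 1 0
  let f := Nat.chineseRemainder hcop 0 1
  have he1 : (e : ℕ) ≡ 1 [MOD p ^ k] := e.2.1
  have he2 : (e : ℕ) ≡ 0 [MOD m] := e.2.2
  have hf1 : (f : ℕ) ≡ 0 [MOD p ^ k] := f.2.1
  have hf2 : (f : ℕ) ≡ 1 [MOD m] := f.2.2
  refine ⟨e, f, ?_, ⟨k, ?_⟩, ?_⟩
  · rw [← pow_add]
    conv_rhs => rw [← pow_one g]
    rw [pow_eq_pow_iff_modEq, hnm]
    rw [← Nat.modEq_and_modEq_iff_modEq_mul hcop]
    constructor
    · have := Nat.ModEq.add he1 hf1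
      simpa using this
    · have := Nat.ModEq.add he2 hf2
      simpa using this
  · rw [← pow_mul]
    apply orderOf_dvd_iff_pow_eq_one.1
    rw [hnm]
    have hme : m ∣ (e : ℕ) := (Nat.modEq_zero_iff_dvd).1 he2
    rw [mul_comm (e : ℕ)]
    exact Nat.mul_dvd_mul_left _ hme
  · have hdvd : orderOf (g ^ (f : ℕ)) ∣ m := by
      apply orderOf_dvd_of_pow_eq_one
      rw [← pow_mul]
      apply orderOf_dvd_iff_pow_eq_one.1
      rw [hnm]
      have hpf : p ^ k ∣ (f : ℕ) := (Nat.modEq_zero_iff_dvd).1 hf1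
      exact Nat.mul_dvd_mul hpf (dvd_refl m)
    intro h
    exact hm (h.trans hdvd)

/-- if `x`, `y` commute and have coprime orders then `x` is a power of `x * y` -/
lemma exists_pow_eq_left [Finite G] {x y : G} (hc : Commute x y)
    (hcop : (orderOf x).Coprime (orderOf y)) : ∃ n : ℕ, (x * y) ^ n = x := by
  let e := Nat.chineseRemainder hcop 1 0
  have he1 : (e : ℕ) ≡ 1 [MOD orderOf x] := e.2.1
  have he2 : (e : ℕ) ≡ 0 [MOD orderOf y] := e.2.2
  refine ⟨e, ?_⟩
  rw [hc.mul_pow]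
  have h1 : x ^ (e : ℕ) = x := by
    conv_rhs => rw [← pow_one x]
    rw [pow_eq_pow_iff_modEq]
    exact he1
  have h2 : y ^ (e : ℕ) = 1 := by
    apply orderOf_dvd_iff_pow_eq_one.1
    exact (Nat.modEq_zero_iff_dvd).1 he2
  rw [h1, h2, mul_one]

lemma coprime_of_pelt {p : ℕ} [hp : Fact p.Prime] {x y : G} (hx : ∃ k : ℕ, x ^ (p ^ k) = 1)
    (hy : ¬ p ∣ orderOf y) : (orderOf x).Coprime (orderOf y) := by
  obtain ⟨k, hk⟩ := hx
  have h1 : orderOf x ∣ p ^ k := orderOf_dvd_of_pow_eq_one hk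
  have h2 : Nat.Coprime (p ^ k) (orderOf y) := by
    apply Nat.Coprime.pow_left
    exact (Nat.Prime.coprime_iff_not_dvd hp.out).2 hy
  exact Nat.Coprime.coprime_dvd_left h1 h2

/-! ### the hypothesis -/

def Hyp (G : Type*) [Group G] : Prop :=
  ∀ x : G, x ∉ Subgroup.center G → IsCoatom (Cz x)

lemma Hyp.eq_of_le (H : Hyp G) {x y : G} (hx : x ∉ Subgroup.center G)
    (hy : y ∉ Subgroup.center G) (h : Cz x ≤ Cz y) : Cz x = Cz y := by
  by_contra hne
  exact (H y hy).1 ((H x hx).2 _ (lt_of_le_of_ne h hne))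

lemma Hyp.eq_of_le' (H : Hyp G) {x : G} {K : Subgroup G} (hx : x ∉ Subgroup.center G)
    (hK : K ≠ ⊤) (h : Cz x ≤ K) : K = Cz x := by
  by_contra hne
  exact hK ((H x hx).2 _ (lt_of_le_of_ne h (Ne.symm hne)))

lemma Hyp.Cz_pow (H : Hyp G) {x : G} {n : ℕ} (hn : x ^ n ∉ Subgroup.center G) :
    Cz (x ^ n) = Cz x := by
  have hx : x ∉ Subgroup.center G := fun h => hn ((Subgroup.center G).pow_mem h n)
  exact (H.eq_of_le hx hn (Cz_le_Cz_pow x n)).symm

/-- Lemma A -/
lemma Hyp.lemmaA [Finite G] (H : Hyp G) {x y : G} (hx : x ∉ Subgroup.center G)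
    (hy : y ∉ Subgroup.center G) (hc : Commute x y)
    (hcop : (orderOf x).Coprime (orderOf y)) : Cz x = Cz y := by
  obtain ⟨n, hn⟩ := exists_pow_eq_left hc hcop
  obtain ⟨m, hm⟩ := exists_pow_eq_left hc.symm hcop.symm
  rw [← hc.eq] at hm
  have hxy : x * y ∉ Subgroup.center G := by
    intro h
    apply hx
    rw [← hn]
    exact (Subgroup.center G).pow_mem h n
  have h1 : Cz (x * y) = Cz x := by
    apply H.eq_of_le hxy hx
    conv_rhs => rw [← hn]
    exact Cz_le_Cz_pow _ _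
  have h2 : Cz (x * y) = Cz y := by
    apply H.eq_of_le hxy hy
    conv_rhs => rw [← hm]
    exact Cz_le_Cz_pow _ _
  rw [← h1, h2]

/-- Lemma B -/
lemma Hyp.lemmaB [Finite G] (H : Hyp G) (p : ℕ) [hp : Fact p.Prime] {x : G}
    (hx : x ∉ Subgroup.center G) (hxp : ∃ k : ℕ, x ^ (p ^ k) = 1) :
    (∀ a ∈ Cz x, ∀ b ∈ Cz x, a * b = b * a) ∨
      (∀ u ∈ Cz x, ¬ p ∣ orderOf u → u ∈ Subgroup.center G) := by
  by_cases h : ∀ u ∈ Cz x, ¬ p ∣ orderOf u → u ∈ Subgroup.center G
  · exact Or.inr h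
  left
  push Not at h
  obtain ⟨u, huM, hup, huZ⟩ := h
  have hxu : Commute x u := (mem_Cz.1 huM).symm
  have hM : Cz x = Cz u := H.lemmaA hx huZ hxu (coprime_of_pelt hxp hup)
  have claim1 : ∀ v ∈ Cz x, ¬ p ∣ orderOf v → ∀ b ∈ Cz x, v * b = b * v := by
    intro v hv hvp b hb
    by_cases hvZ : v ∈ Subgroup.center G
    · exact (Subgroup.mem_center_iff.1 hvZ b).symm
    · have hxv : Commute x v := (mem_Cz.1 hv).symm
      have h1 : Cz x = Cz v := H.lemmaA hx hvZ hxv (coprime_of_pelt hxp hvp)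
      rw [h1] at hb
      exact (mem_Cz.1 hb).symm
  have claim2 : ∀ w ∈ Cz x, (∃ k : ℕ, w ^ (p ^ k) = 1) → ∀ b ∈ Cz x, w * b = b * w := by
    intro w hw hwp b hb
    by_cases hwZ : w ∈ Subgroup.center G
    · exact (Subgroup.mem_center_iff.1 hwZ b).symm
    · have hwu : Commute w u := by
        rw [hM] at hw
        exact mem_Cz.1 hw
      have h1 : Cz w = Cz u := H.lemmaA hwZ huZ hwu (coprime_of_pelt hwp hup)
      rw [hM, ← h1] at hb
      exact (mem_Cz.1 hb).symm
  intro a ha b hb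
  obtain ⟨e, f, hef, hep, hfp⟩ := pdecomp p a
  have h1 := claim2 (a ^ e) ((Cz x).pow_mem ha e) hep b hb
  have h2 := claim1 (a ^ f) ((Cz x).pow_mem ha f) hfp b hb
  calc a * b = a ^ e * a ^ f * b := by rw [hef]
    _ = a ^ e * (a ^ f * b) := by group
    _ = a ^ e * (b * a ^ f) := by rw [h2]
    _ = (a ^ e * b) * a ^ f := by group
    _ = (b * a ^ e) * a ^ f := by rw [h1]
    _ = b * (a ^ e * a ^ f) := by group
    _ = b * a := by rw [hef]

/-- every noncentral element has a noncentral power of prime power order -/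
lemma exists_prime_pow_power [Finite G] : ∀ (N : ℕ) (g : G), orderOf g = N →
    g ∉ Subgroup.center G →
    ∃ (n p : ℕ) (_ : p.Prime) (k : ℕ), g ^ n ∉ Subgroup.center G ∧ (g ^ n) ^ (p ^ k) = 1 := by
  intro N
  induction N using Nat.strong_induction_on with
  | _ N ih =>
    intro g hN hg
    have hN1 : N ≠ 1 := by
      intro h
      rw [h] at hN
      rw [orderOf_eq_one_iff] at hN
      exact hg (hN ▸ (Subgroup.center G).one_mem)
    have hpp : N.minFac.Prime := Nat.minFac_prime hN1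
    haveI : Fact N.minFac.Prime := ⟨hpp⟩
    obtain ⟨a, b, hab, ⟨k, hk⟩, hb⟩ := pdecomp N.minFac g
    by_cases ha : g ^ a ∈ Subgroup.center G
    · have hbZ : g ^ b ∉ Subgroup.center G := by
        intro h
        apply hg
        rw [← hab]
        exact (Subgroup.center G).mul_mem ha h
      have hdvd : orderOf (g ^ b) ∣ N := by rw [← hN]; exact orderOf_pow_dvd b
      have hne : orderOf (g ^ b) ≠ N := by
        intro h
        apply hb
        rw [h]
        exact Nat.minFac_dvd N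
      have hN0 : 0 < N := by rw [← hN]; exact orderOf_pos g
      have hlt : orderOf (g ^ b) < N := lt_of_le_of_ne (Nat.le_of_dvd hN0 hdvd) hne
      obtain ⟨n', p', hp', k', h1, h2⟩ := ih _ hlt (g ^ b) rfl hbZ
      refine ⟨b * n', p', hp', k', ?_, ?_⟩
      · rw [pow_mul]; exact h1
      · rw [pow_mul]; exact h2
    · exact ⟨a, N.minFac, hpp, k, ha, hk⟩

/-- coprime commutator lemma -/
lemma commute_of_comm_center [Finite G] {u w : G}
    (hc : u * w * u⁻¹ * w⁻¹ ∈ Subgroup.center G)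
    (hcop : (orderOf u).Coprime (orderOf w)) : Commute u w := by
  obtain ⟨c, hcdef⟩ : ∃ c, c = u * w * u⁻¹ * w⁻¹ := ⟨_, rfl⟩
  rw [← hcdef] at hc
  have hcc : ∀ g : G, Commute c g := fun g => (Subgroup.mem_center_iff.1 hc g).symm
  have h1 : u * w * u⁻¹ = c * w := by rw [hcdef]; group
  have h2 : c ^ orderOf w = 1 := by
    have e1 : (u * w * u⁻¹) ^ orderOf w = 1 := by
      rw [conj_pow, pow_orderOf_eq_one]; group
    rw [h1, (hcc w).mul_pow, pow_orderOf_eq_one, mul_one] at e1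
    exact e1
  have h3 : w * u * w⁻¹ = c⁻¹ * u := by
    have : c⁻¹ = w * u * w⁻¹ * u⁻¹ := by rw [hcdef]; group
    rw [this]; group
  have h4 : c ^ orderOf u = 1 := by
    have e1 : (w * u * w⁻¹) ^ orderOf u = 1 := by
      rw [conj_pow, pow_orderOf_eq_one]; group
    have hcu : Commute c⁻¹ u := (hcc u).inv_left
    rw [h3, hcu.mul_pow, pow_orderOf_eq_one, mul_one, inv_pow, inv_eq_one] at e1
    exact e1
  have h5 : orderOf c = 1 :=
    Nat.eq_one_of_dvd_coprimes hcop (orderOf_dvd_of_pow_eq_one h4) (orderOf_dvd_of_pow_eq_one h2)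
  rw [orderOf_eq_one_iff] at h5
  show u * w = w * u
  have : u * w * u⁻¹ * w⁻¹ = 1 := by rw [← hcdef]; exact h5
  calc u * w = (u * w * u⁻¹ * w⁻¹) * w * u := by group
    _ = w * u := by rw [this, one_mul]

/-! ### the quotient by the centre -/

lemma comap_map_mk (N : Subgroup G) [N.Normal] {M : Subgroup G} (hNM : N ≤ M) :
    (M.map (QuotientGroup.mk' N)).comap (QuotientGroup.mk' N) = M := by
  rw [Subgroup.comap_map_eq, QuotientGroup.ker_mk']
  exact sup_eq_left.2 hNM

lemma coatom_map_mk (N : Subgroup G) [N.Normal] {M : Subgroup G} (hM : IsCoatom M)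
    (hNM : N ≤ M) : IsCoatom (M.map (QuotientGroup.mk' N)) := by
  constructor
  · intro h
    apply hM.1
    rw [← comap_map_mk N hNM, h, Subgroup.comap_top]
  · intro E hE
    have h1 : (M.map (QuotientGroup.mk' N)).comap (QuotientGroup.mk' N) <
        E.comap (QuotientGroup.mk' N) :=
      (Subgroup.comap_lt_comap_of_surjective (QuotientGroup.mk'_surjective N)).2 hE
    rw [comap_map_mk N hNM] at h1
    have h2 := hM.2 _ h1
    rw [eq_top_iff]
    intro q _
    obtain ⟨g, rfl⟩ := QuotientGroup.mk_surjective q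
    have : g ∈ E.comap (QuotientGroup.mk' N) := by rw [h2]; trivial
    exact this

lemma mem_of_mk_mem_map (N : Subgroup G) [N.Normal] {M : Subgroup G} (hNM : N ≤ M) {g : G}
    (h : (g : G ⧸ N) ∈ M.map (QuotientGroup.mk' N)) : g ∈ M := by
  have : g ∈ (M.map (QuotientGroup.mk' N)).comap (QuotientGroup.mk' N) := h
  rwa [comap_map_mk N hNM] at this

lemma mk_mem_map (N : Subgroup G) [N.Normal] {M : Subgroup G} {g : G} (h : g ∈ M) :
    (g : G ⧸ N) ∈ M.map (QuotientGroup.mk' N) := Subgroup.mem_map_of_mem _ h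

theorem partI [Finite G] (H : Hyp G) (p : ℕ) [hp : Fact p.Prime]
    (hP : IsPGroup p (G ⧸ Subgroup.center G)) :
    Cfsg.IsElementaryAbelian p (⊤ : Subgroup (G ⧸ Subgroup.center G)) := by
  have key : ∀ t : G, (∀ x : G, x ∉ Subgroup.center G →
      (t : G ⧸ Subgroup.center G) ∈ (Cz x).map (QuotientGroup.mk' (Subgroup.center G))) →
      t ∈ Subgroup.center G := by
    intro t ht
    rw [Subgroup.mem_center_iff]
    intro x
    by_cases hx : x ∈ Subgroup.center G
    · exact (Subgroup.mem_center_iff.1 hx t).symm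
    · have := mem_of_mk_mem_map _ (center_le_Cz x) (ht x hx)
      exact (mem_Cz.1 this).symm
  have hcomm : ∀ a b : G, a⁻¹ * b⁻¹ * a * b ∈ Subgroup.center G := by
    intro a b
    apply key
    intro x hx
    have hco := coatom_map_mk (Subgroup.center G) (H x hx) (center_le_Cz x)
    have h1 := Cfsg.Agent.helper1.commutator_le_coatom_of_isPGroup hP hco
    apply h1
    have h2 : ⁅((a⁻¹ : G) : G ⧸ Subgroup.center G), ((b⁻¹ : G) : G ⧸ Subgroup.center G)⁆ ∈
        commutator (G ⧸ Subgroup.center G) := by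
      rw [commutator_def]
      exact Subgroup.commutator_mem_commutator (Subgroup.mem_top _) (Subgroup.mem_top _)
    have h3 : ((a⁻¹ * b⁻¹ * a * b : G) : G ⧸ Subgroup.center G) =
        ⁅((a⁻¹ : G) : G ⧸ Subgroup.center G), ((b⁻¹ : G) : G ⧸ Subgroup.center G)⁆ := by
      rw [commutatorElement_def]
      simp
    rw [h3]
    exact h2
  have hpow : ∀ a : G, a ^ p ∈ Subgroup.center G := by
    intro a
    apply key
    intro x hx
    have hco := coatom_map_mk (Subgroup.center G) (H x hx) (center_le_Cz x)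
    have h1 := Cfsg.Agent.helper1.pow_mem_coatom_of_isPGroup hP hco (a : G ⧸ Subgroup.center G)
    rw [← QuotientGroup.mk_pow] at h1
    exact h1
  constructor
  · refine ⟨⟨?_⟩⟩
    rintro ⟨a, _⟩ ⟨b, _⟩
    apply Subtype.ext
    obtain ⟨a, rfl⟩ := QuotientGroup.mk_surjective a
    obtain ⟨b, rfl⟩ := QuotientGroup.mk_surjective b
    show (a : G ⧸ Subgroup.center G) * (b : G ⧸ Subgroup.center G) = b * a
    rw [← QuotientGroup.mk_mul, ← QuotientGroup.mk_mul, eq_comm, QuotientGroup.eq]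
    have := hcomm a b
    have e : (b * a)⁻¹ * (a * b) = a⁻¹ * b⁻¹ * a * b := by group
    rw [e]
    exact this
  · intro a _
    obtain ⟨a, rfl⟩ := QuotientGroup.mk_surjective a
    rw [← QuotientGroup.mk_pow, QuotientGroup.eq_one_iff]
    exact hpow a

/-! ### lifting lemmas -/

lemma lift_pelt [Finite G] (p : ℕ) [hp : Fact p.Prime] (q : G ⧸ Subgroup.center G)
    (hq : ∃ k : ℕ, q ^ (p ^ k) = 1) :
    ∃ g : G, (g : G ⧸ Subgroup.center G) = q ∧ ∃ k : ℕ, g ^ (p ^ k) = 1 := by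
  obtain ⟨g₀, rfl⟩ := QuotientGroup.mk_surjective q
  obtain ⟨a, b, hab, hap, hbp⟩ := pdecomp p g₀
  obtain ⟨k, hk⟩ := hq
  have h1 : ((g₀ ^ b : G) : G ⧸ Subgroup.center G) = 1 := by
    have hd1 : orderOf ((g₀ ^ b : G) : G ⧸ Subgroup.center G) ∣ p ^ k := by
      apply orderOf_dvd_of_pow_eq_one
      rw [QuotientGroup.mk_pow, ← pow_mul, mul_comm, pow_mul, hk, one_pow]
    have hd2 : orderOf ((g₀ ^ b : G) : G ⧸ Subgroup.center G) ∣ orderOf (g₀ ^ b) :=
      orderOf_map_dvd (QuotientGroup.mk' (Subgroup.center G)) _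
    obtain ⟨j, _, hj'⟩ := (Nat.dvd_prime_pow hp.out).1 hd1
    cases j with
    | zero => rw [pow_zero] at hj'; exact orderOf_eq_one_iff.1 hj'
    | succ j =>
      exfalso
      apply hbp
      refine dvd_trans ?_ hd2
      rw [hj']
      exact dvd_pow_self p (Nat.succ_ne_zero j)
  refine ⟨g₀ ^ a, ?_, hap⟩
  calc ((g₀ ^ a : G) : G ⧸ Subgroup.center G)
      = ((g₀ ^ a : G) : G ⧸ Subgroup.center G) * ((g₀ ^ b : G) : G ⧸ Subgroup.center G) := by
        rw [h1, mul_one]
    _ = ((g₀ ^ a * g₀ ^ b : G) : G ⧸ Subgroup.center G) := (QuotientGroup.mk_mul _ _ _).symm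
    _ = (g₀ : G ⧸ Subgroup.center G) := by rw [hab]

lemma lift_pprime [Finite G] (p : ℕ) [hp : Fact p.Prime] (q : G ⧸ Subgroup.center G)
    (hq : ¬ p ∣ orderOf q) :
    ∃ g : G, (g : G ⧸ Subgroup.center G) = q ∧ ¬ p ∣ orderOf g := by
  obtain ⟨g₀, rfl⟩ := QuotientGroup.mk_surjective q
  obtain ⟨a, b, hab, ⟨k, hk⟩, hbp⟩ := pdecomp p g₀
  have h1 : ((g₀ ^ a : G) : G ⧸ Subgroup.center G) = 1 := by
    have hd1 : orderOf ((g₀ ^ a : G) : G ⧸ Subgroup.center G) ∣ p ^ k := by
      apply orderOf_dvd_of_pow_eq_one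
      rw [← QuotientGroup.mk_pow, hk]; rfl
    have hd2 : orderOf ((g₀ ^ a : G) : G ⧸ Subgroup.center G) ∣
        orderOf (g₀ : G ⧸ Subgroup.center G) := by
      rw [QuotientGroup.mk_pow]; exact orderOf_pow_dvd a
    obtain ⟨j, _, hj'⟩ := (Nat.dvd_prime_pow hp.out).1 hd1
    cases j with
    | zero => rw [pow_zero] at hj'; exact orderOf_eq_one_iff.1 hj'
    | succ j =>
      exfalso
      apply hq
      refine dvd_trans ?_ hd2
      rw [hj']
      exact dvd_pow_self p (Nat.succ_ne_zero j)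
  refine ⟨g₀ ^ b, ?_, hbp⟩
  calc ((g₀ ^ b : G) : G ⧸ Subgroup.center G)
      = ((g₀ ^ a : G) : G ⧸ Subgroup.center G) * ((g₀ ^ b : G) : G ⧸ Subgroup.center G) := by
        rw [h1, one_mul]
    _ = ((g₀ ^ a * g₀ ^ b : G) : G ⧸ Subgroup.center G) := (QuotientGroup.mk_mul _ _ _).symm
    _ = (g₀ : G ⧸ Subgroup.center G) := by rw [hab]

/-! ### Sylow lemmas in elementwise form -/

lemma sylow_conj_mem {K : Type*} [Group K] [Finite K] (p : ℕ) [Fact p.Prime] (P : Sylow p K)
    (u : K) (hu : ∃ k : ℕ, u ^ (p ^ k) = 1) : ∃ h : K, h * u * h⁻¹ ∈ (P : Subgroup K) := by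
  obtain ⟨k, hk⟩ := hu
  have hz : IsPGroup p (Subgroup.zpowers u) := by
    rintro ⟨g, hg⟩
    obtain ⟨n, rfl⟩ := Subgroup.mem_zpowers_iff.1 hg
    refine ⟨k, ?_⟩
    apply Subtype.ext
    show (u ^ n) ^ (p ^ k) = 1
    rw [← zpow_natCast, ← zpow_mul, mul_comm, zpow_mul, zpow_natCast, hk, one_zpow]
  obtain ⟨Q, hQ⟩ := hz.exists_le_sylow
  obtain ⟨g, hg⟩ := MulAction.exists_smul_eq K Q P
  refine ⟨g, ?_⟩
  have h1 : u ∈ (Q : Subgroup K) := hQ (Subgroup.mem_zpowers u)
  have h2 : MulAut.conj g • u ∈ MulAut.conj g • (Q : Subgroup K) :=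
    Subgroup.smul_mem_pointwise_smul _ _ _ h1
  rw [← Sylow.coe_subgroup_smul, hg] at h2
  simpa [MulAut.smul_def] using h2

lemma normal_pgroup_le_sylow {K : Type*} [Group K] [Finite K] (p : ℕ) [Fact p.Prime]
    (V : Subgroup K) [hVn : V.Normal] (hV : ∀ v ∈ V, ∃ k : ℕ, v ^ (p ^ k) = 1) (P : Sylow p K) :
    V ≤ P := by
  have hz : IsPGroup p V := by
    rintro ⟨g, hg⟩
    obtain ⟨k, hk⟩ := hV g hg
    exact ⟨k, Subtype.ext hk⟩
  obtain ⟨Q, hQ⟩ := hz.exists_le_sylow
  obtain ⟨g, hg⟩ := MulAction.exists_smul_eq K Q P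
  intro v hv
  have h1 : g⁻¹ * v * g ∈ (Q : Subgroup K) := by
    apply hQ
    have := hVn.conj_mem v hv g⁻¹
    simpa using this
  have h2 : MulAut.conj g • (g⁻¹ * v * g) ∈ MulAut.conj g • (Q : Subgroup K) :=
    Subgroup.smul_mem_pointwise_smul _ _ _ h1
  rw [← Sylow.coe_subgroup_smul, hg] at h2
  have e : MulAut.conj g • (g⁻¹ * v * g) = v := by
    simp [MulAut.smul_def, mul_assoc]
  rwa [e] at h2

/-- nontrivial finite solvable group: nontrivial normal abelian subgroup of prime exponent -/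
theorem exists_normal_elemAb {K : Type*} [Group K] [Finite K] [hs : Group.IsSolvable K] [Nontrivial K] :
    ∃ (r : ℕ) (_ : r.Prime) (M : Subgroup K), M.Normal ∧ M ≠ ⊥ ∧
      (∀ a ∈ M, ∀ b ∈ M, a * b = b * a) ∧ ∀ m ∈ M, m ^ r = 1 := by
  classical
  have hex : ∃ n, derivedSeries K n = ⊥ := hs.solvable
  have h0 : Nat.find hex ≠ 0 := by
    intro h
    have h1 := Nat.find_spec hex
    rw [h, derivedSeries_zero] at h1
    exact top_ne_bot h1
  obtain ⟨m, hm⟩ := Nat.exists_eq_succ_of_ne_zero h0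
  have hDne : derivedSeries K m ≠ ⊥ := Nat.find_min hex (by omega)
  have hDD : ⁅derivedSeries K m, derivedSeries K m⁆ = ⊥ := by
    have h1 := Nat.find_spec hex
    rw [hm] at h1
    exact h1
  obtain ⟨D, hD⟩ : ∃ D : Subgroup K, D = derivedSeries K m := ⟨_, rfl⟩
  rw [← hD] at hDne hDD
  haveI hDn : D.Normal := by rw [hD]; infer_instance
  have hDc : ∀ a ∈ D, ∀ b ∈ D, a * b = b * a := by
    intro a ha b hb
    have h1 : ⁅a, b⁆ ∈ ⁅D, D⁆ := Subgroup.commutator_mem_commutator ha hb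
    rw [hDD, Subgroup.mem_bot] at h1
    exact commutatorElement_eq_one_iff_mul_comm.mp h1
  have hcard : Nat.card D ≠ 1 := fun h => hDne (Subgroup.card_eq_one.mp h)
  obtain ⟨p, hp⟩ : ∃ p : ℕ, p = (Nat.card D).minFac := ⟨_, rfl⟩
  have hpp : p.Prime := by rw [hp]; exact Nat.minFac_prime hcard
  haveI : Fact p.Prime := ⟨hpp⟩
  obtain ⟨x0, hx0⟩ := exists_prime_orderOf_dvd_card' (G := D) p (by rw [hp]; exact Nat.minFac_dvd _)
  let M : Subgroup K :=
    { carrier := {m | m ∈ D ∧ m ^ p = 1}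
      mul_mem' := by
        rintro a b ⟨ha, ha'⟩ ⟨hb, hb'⟩
        refine ⟨D.mul_mem ha hb, ?_⟩
        have hc : Commute a b := hDc a ha b hb
        rw [hc.mul_pow, ha', hb', one_mul]
      one_mem' := ⟨D.one_mem, one_pow p⟩
      inv_mem' := by
        rintro a ⟨ha, ha'⟩
        exact ⟨D.inv_mem ha, by rw [inv_pow, ha', inv_one]⟩ }
  refine ⟨p, hpp, M, ?_, ?_, fun a ha b hb => hDc a ha.1 b hb.1, fun m hm => hm.2⟩
  · refine ⟨fun a ha g => ?_⟩
    refine ⟨hDn.conj_mem a ha.1 g, ?_⟩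
    rw [conj_pow, ha.2]; group
  · intro hbot
    have h1 : (x0 : K) ∈ M := by
      refine ⟨x0.2, ?_⟩
      have h2 : x0 ^ p = 1 := by rw [← hx0]; exact pow_orderOf_eq_one x0
      have h3 := congrArg Subtype.val h2
      simpa using h3
    rw [hbot, Subgroup.mem_bot] at h1
    have h4 : x0 = 1 := Subtype.ext h1
    rw [h4, orderOf_one] at hx0
    exact hpp.one_lt.ne hx0

section caseB

variable [Finite G]

/-- (S): a noncentral element whose centraliser has only central `p'`-elements: the image of the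
centraliser is a Sylow `p`-subgroup of the central quotient. -/
lemma sylow_of_central (H : Hyp G) (p : ℕ) [hp : Fact p.Prime]
    (hnp : ¬ IsPGroup p (G ⧸ Subgroup.center G)) {u : G} (hu : u ∉ Subgroup.center G)
    (hcen : ∀ v ∈ Cz u, ¬ p ∣ orderOf v → v ∈ Subgroup.center G) :
    (∀ q ∈ (Cz u).map (QuotientGroup.mk' (Subgroup.center G)), ∃ k : ℕ, q ^ (p ^ k) = 1) ∧
    ∃ P : Sylow p (G ⧸ Subgroup.center G),
      (P : Subgroup (G ⧸ Subgroup.center G)) =
        (Cz u).map (QuotientGroup.mk' (Subgroup.center G)) := by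
  have hpg : ∀ q ∈ (Cz u).map (QuotientGroup.mk' (Subgroup.center G)),
      ∃ k : ℕ, q ^ (p ^ k) = 1 := by
    rintro q ⟨m, hm, rfl⟩
    obtain ⟨a, b, hab, ⟨k, hk⟩, hb⟩ := pdecomp p m
    have hbZ : m ^ b ∈ Subgroup.center G := hcen _ ((Cz u).pow_mem hm b) hb
    refine ⟨k, ?_⟩
    have e : (QuotientGroup.mk' (Subgroup.center G)) m =
        ((m ^ a : G) : G ⧸ Subgroup.center G) := by
      show (m : G ⧸ Subgroup.center G) = _
      conv_lhs => rw [← hab]
      rw [QuotientGroup.mk_mul, (QuotientGroup.eq_one_iff _).2 hbZ, mul_one]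
    rw [e, ← QuotientGroup.mk_pow, hk]; rfl
  refine ⟨hpg, ?_⟩
  have hz : IsPGroup p ((Cz u).map (QuotientGroup.mk' (Subgroup.center G))) := by
    rintro ⟨g, hg⟩
    obtain ⟨k, hk⟩ := hpg g hg
    exact ⟨k, Subtype.ext hk⟩
  obtain ⟨Q, hQ⟩ := hz.exists_le_sylow
  refine ⟨Q, ?_⟩
  have hco := coatom_map_mk (Subgroup.center G) (H u hu) (center_le_Cz u)
  by_contra hne
  have hlt : (Cz u).map (QuotientGroup.mk' (Subgroup.center G)) <
      (Q : Subgroup (G ⧸ Subgroup.center G)) := lt_of_le_of_ne hQ (Ne.symm hne)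
  have htop := hco.2 _ hlt
  apply hnp
  intro g
  have hg : g ∈ (Q : Subgroup (G ⧸ Subgroup.center G)) := by rw [htop]; trivial
  obtain ⟨k, hk⟩ := Q.2 ⟨g, hg⟩
  exact ⟨k, congrArg Subtype.val hk⟩

/-- (a): noncentral `p`-elements never commute with noncentral `p'`-elements -/
lemma no_comm (H : Hyp G) (p : ℕ) [hp : Fact p.Prime]
    (hnp : ¬ IsPGroup p (G ⧸ Subgroup.center G)) {x : G} (hx : x ∉ Subgroup.center G)
    (hcen : ∀ v ∈ Cz x, ¬ p ∣ orderOf v → v ∈ Subgroup.center G)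
    {u w : G} (hu : u ∉ Subgroup.center G) (hup : ∃ k : ℕ, u ^ (p ^ k) = 1)
    (hw : w ∉ Subgroup.center G) (hwp : ¬ p ∣ orderOf w) (hc : Commute u w) : False := by
  obtain ⟨_, P, hP⟩ := sylow_of_central H p hnp hx hcen
  have hubar : ∃ k : ℕ, (u : G ⧸ Subgroup.center G) ^ (p ^ k) = 1 := by
    obtain ⟨k, hk⟩ := hup
    exact ⟨k, by rw [← QuotientGroup.mk_pow, hk]; rfl⟩
  obtain ⟨h, hh⟩ := sylow_conj_mem p P (u : G ⧸ Subgroup.center G) hubar
  obtain ⟨g, rfl⟩ := QuotientGroup.mk_surjective h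
  rw [hP] at hh
  have hu' : g * u * g⁻¹ ∈ Cz x := by
    apply mem_of_mk_mem_map _ (center_le_Cz x)
    simpa using hh
  obtain ⟨u', hu'def⟩ : ∃ u', u' = g * u * g⁻¹ := ⟨_, rfl⟩
  obtain ⟨w', hw'def⟩ : ∃ w', w' = g * w * g⁻¹ := ⟨_, rfl⟩
  rw [← hu'def] at hu'
  have hu'Z : u' ∉ Subgroup.center G := fun h => hu (conj_mem_center_iff.1 (hu'def ▸ h))
  have hw'Z : w' ∉ Subgroup.center G := fun h => hw (conj_mem_center_iff.1 (hw'def ▸ h))
  have hu'p : ∃ k : ℕ, u' ^ (p ^ k) = 1 := by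
    obtain ⟨k, hk⟩ := hup
    exact ⟨k, by rw [hu'def, conj_pow, hk]; group⟩
  have hw'p : ¬ p ∣ orderOf w' := by
    have e : orderOf w' = orderOf w := by
      have := MulEquiv.orderOf_eq (MulAut.conj g) w
      rw [MulAut.conj_apply] at this
      rw [hw'def]; exact this
    rwa [e]
  have hc' : Commute u' w' := by
    show u' * w' = w' * u'
    rw [hu'def, hw'def]
    calc g * u * g⁻¹ * (g * w * g⁻¹) = g * (u * w) * g⁻¹ := by group
      _ = g * (w * u) * g⁻¹ := by rw [hc.eq]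
      _ = g * w * g⁻¹ * (g * u * g⁻¹) := by group
  have hA : Cz u' = Cz w' := H.lemmaA hu'Z hw'Z hc' (coprime_of_pelt hu'p hw'p)
  have h1 : x ∈ Cz u' := mem_Cz_comm.1 hu'
  rw [hA] at h1
  have h2 : w' ∈ Cz x := mem_Cz_comm.1 h1
  exact hw'Z (hcen w' h2 hw'p)

theorem caseB (H : Hyp G) (p : ℕ) [hp : Fact p.Prime]
    (hnp : ¬ IsPGroup p (G ⧸ Subgroup.center G)) {x : G} (hx : x ∉ Subgroup.center G) (hxp : ∃ k : ℕ, x ^ (p ^ k) = 1)
    (hnab : ¬ ∀ a ∈ Cz x, ∀ b ∈ Cz x, a * b = b * a) : False := by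
  have hcen : ∀ v ∈ Cz x, ¬ p ∣ orderOf v → v ∈ Subgroup.center G :=
    (H.lemmaB p hx hxp).resolve_left hnab
  push Not at hnab
  obtain ⟨a, ha, b, hb, hab⟩ := hnab
  obtain ⟨e, f, hef, hep, hfp⟩ := pdecomp p a
  have hfZ : a ^ f ∈ Subgroup.center G := hcen _ ((Cz x).pow_mem ha f) hfp
  obtain ⟨y, hy⟩ : ∃ y, y = a ^ e := ⟨_, rfl⟩
  rw [← hy] at hef hep
  have hyM : y ∈ Cz x := by rw [hy]; exact (Cz x).pow_mem ha e
  have hyb : y * b ≠ b * y := by
    intro h
    apply hab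
    have h2 : a ^ f * b = b * a ^ f := (Subgroup.mem_center_iff.1 hfZ b).symm
    calc a * b = y * a ^ f * b := by rw [hef]
      _ = y * (a ^ f * b) := by group
      _ = y * (b * a ^ f) := by rw [h2]
      _ = (y * b) * a ^ f := by group
      _ = (b * y) * a ^ f := by rw [h]
      _ = b * (y * a ^ f) := by group
      _ = b * a := by rw [hef]
  have hyZ : y ∉ Subgroup.center G := fun h => hyb ((Subgroup.mem_center_iff.1 h b).symm)
  have hne : Cz x ≠ Cz y := by
    intro h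
    rw [h] at hb
    exact hyb (mem_Cz.1 hb).symm
  have hcent : ∀ t : G, t ∉ Subgroup.center G → (∃ k : ℕ, t ^ (p ^ k) = 1) →
      ∀ v ∈ Cz t, ¬ p ∣ orderOf v → v ∈ Subgroup.center G := by
    intro t ht htp v hv hvp
    by_contra hvZ
    exact no_comm H p hnp hx hcen ht htp hvZ hvp (mem_Cz.1 hv).symm
  obtain ⟨hMp, P, hP⟩ := sylow_of_central H p hnp hx hcen
  haveI : Group.IsSolvable G := Cfsg.Agent.S4262.result H
  haveI : Nontrivial (G ⧸ Subgroup.center G) := by
    refine ⟨⟨(x : G ⧸ Subgroup.center G), 1, ?_⟩⟩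
    intro h
    exact hx ((QuotientGroup.eq_one_iff x).1 h)
  obtain ⟨r, hr, V, hVn, hVne, hVc, hVr⟩ := exists_normal_elemAb (K := G ⧸ Subgroup.center G)
  haveI := hVn
  obtain ⟨vb, hvbV, hvb1⟩ : ∃ v ∈ V, v ≠ 1 := by
    by_contra hcon
    push Not at hcon
    apply hVne
    rw [eq_bot_iff]
    intro v hv
    exact Subgroup.mem_bot.2 (hcon v hv)
  by_cases hrp : r = p
  · -- the normal subgroup is a `p`-group
    rw [hrp] at hVr
    have hVp : ∀ v ∈ V, ∃ k : ℕ, v ^ (p ^ k) = 1 :=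
      fun v hv => ⟨1, by rw [pow_one]; exact hVr v hv⟩
    obtain ⟨v, hv, hvp⟩ := lift_pelt p vb (hVp vb hvbV)
    have hvZ : v ∉ Subgroup.center G := by
      intro h
      apply hvb1
      rw [← hv]
      exact (QuotientGroup.eq_one_iff v).2 h
    have hall : ∀ t : G, (∃ k : ℕ, t ^ (p ^ k) = 1) → t * v = v * t := by
      intro t htp
      by_cases ht : t ∈ Subgroup.center G
      · exact (Subgroup.mem_center_iff.1 ht v).symm
      · obtain ⟨_, Pt, hPt⟩ := sylow_of_central H p hnp ht (hcent t ht htp)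
        have hle := normal_pgroup_le_sylow p V hVp Pt
        have h1 : vb ∈ (Pt : Subgroup (G ⧸ Subgroup.center G)) := hle hvbV
        rw [hPt, ← hv] at h1
        have hvt : v ∈ Cz t := mem_of_mk_mem_map _ (center_le_Cz t) h1
        exact (mem_Cz.1 hvt).symm
    have hle1 : ∀ t : G, t ∉ Subgroup.center G → (∃ k : ℕ, t ^ (p ^ k) = 1) →
        Cz t ≤ Cz v := by
      intro t ht htp m hm
      obtain ⟨e', f', hef', hep', hfp'⟩ := pdecomp p m
      have h1 := hall (m ^ e') hep'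
      have h2 : m ^ f' ∈ Subgroup.center G :=
        hcent t ht htp _ ((Cz t).pow_mem hm f') hfp'
      have h3 : m ^ f' * v = v * m ^ f' := (Subgroup.mem_center_iff.1 h2 v).symm
      rw [mem_Cz, ← hef']
      calc m ^ e' * m ^ f' * v = m ^ e' * (m ^ f' * v) := by group
        _ = m ^ e' * (v * m ^ f') := by rw [h3]
        _ = (m ^ e' * v) * m ^ f' := by group
        _ = (v * m ^ e') * m ^ f' := by rw [h1]
        _ = v * (m ^ e' * m ^ f') := by group
    have hvtop : Cz v ≠ ⊤ := fun h => hvZ (Cz_eq_top_iff.1 h)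
    have e1 := H.eq_of_le' hx hvtop (hle1 x hx hxp)
    have e2 := H.eq_of_le' hyZ hvtop (hle1 y hyZ hep)
    exact hne (e1.symm.trans e2)
  · -- the normal subgroup is an `r`-group, `r ≠ p`
    haveI : IsMulCommutative V := ⟨⟨fun a b => Subtype.ext (hVc a.1 a.2 b.1 b.2)⟩⟩
    have hxybar : (x : G ⧸ Subgroup.center G) * (y : G ⧸ Subgroup.center G) =
        (y : G ⧸ Subgroup.center G) * (x : G ⧸ Subgroup.center G) := by
      rw [← QuotientGroup.mk_mul, ← QuotientGroup.mk_mul, ← mem_Cz.1 hyM]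
    obtain ⟨A, hAdef⟩ : ∃ A : Subgroup (G ⧸ Subgroup.center G),
        A = Subgroup.closure {(x : G ⧸ Subgroup.center G), (y : G ⧸ Subgroup.center G)} :=
      ⟨_, rfl⟩
    have hAc : IsMulCommutative A := by
      rw [hAdef]
      apply Subgroup.isMulCommutative_closure
      intro a ha b hb
      simp only [Set.mem_insert_iff, Set.mem_singleton_iff] at ha hb
      rcases ha with rfl | rfl <;> rcases hb with rfl | rfl
      · rfl
      · exact hxybar
      · exact hxybar.symm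
      · rfl
    have hAM : A ≤ (Cz x).map (QuotientGroup.mk' (Subgroup.center G)) := by
      rw [hAdef, Subgroup.closure_le]
      intro q hq
      simp only [Set.mem_insert_iff, Set.mem_singleton_iff] at hq
      rcases hq with rfl | rfl
      · exact mk_mem_map _ (self_mem_Cz x)
      · exact mk_mem_map _ hyM
    have hAV : A ≤ Subgroup.normalizer (V : Set (G ⧸ Subgroup.center G)) := by
      rw [Subgroup.normalizer_eq_top]; exact le_top
    have hfpf : ∀ a ∈ A, a ≠ 1 → V ⊓ Subgroup.centralizer {a} = ⊥ := by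
      intro ab hab' hab1
      rw [eq_bot_iff]
      rintro wb ⟨hwV, hwc⟩
      rw [Subgroup.mem_bot]
      by_contra hw1
      obtain ⟨a', ha', hap'⟩ := lift_pelt p ab (hMp ab (hAM hab'))
      have haZ : a' ∉ Subgroup.center G := by
        intro h
        apply hab1
        rw [← ha']
        exact (QuotientGroup.eq_one_iff a').2 h
      have hwp : ¬ p ∣ orderOf wb := by
        intro hdvd
        have h1 : orderOf wb ∣ r := orderOf_dvd_of_pow_eq_one (hVr wb hwV)
        have h2 : p ∣ r := hdvd.trans h1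
        exact hrp ((Nat.prime_dvd_prime_iff_eq hp.out hr).1 h2).symm
      obtain ⟨w, hw, hwp'⟩ := lift_pprime p wb hwp
      have hwZ : w ∉ Subgroup.center G := by
        intro h
        apply hw1
        rw [← hw]
        exact (QuotientGroup.eq_one_iff w).2 h
      have hcomm : a' * w * a'⁻¹ * w⁻¹ ∈ Subgroup.center G := by
        rw [← QuotientGroup.eq_one_iff]
        have h3 : wb * ab = ab * wb := Subgroup.mem_centralizer_singleton_iff.1 hwc
        simp only [QuotientGroup.mk_mul, QuotientGroup.mk_inv, ha', hw]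
        rw [← h3]; group
      have hc := commute_of_comm_center hcomm (coprime_of_pelt hap' hwp')
      exact no_comm H p hnp hx hcen haZ hap' hwZ hwp' hc
    have hcyc := Cfsg.Agent.S0041.result A V hVne hAV hfpf (Or.inl hAc)
    obtain ⟨⟨cb, hcbA⟩, hgen⟩ := hcyc.exists_generator
    obtain ⟨c, rfl⟩ := QuotientGroup.mk_surjective cb
    have key : ∀ t : G, t ∉ Subgroup.center G → (t : G ⧸ Subgroup.center G) ∈ A →
        Cz c = Cz t := by
      intro t ht htA
      obtain ⟨n, hn⟩ := Subgroup.mem_zpowers_iff.1 (hgen ⟨(t : G ⧸ Subgroup.center G), htA⟩)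
      have hn' : (c : G ⧸ Subgroup.center G) ^ n = (t : G ⧸ Subgroup.center G) := by
        have := congrArg Subtype.val hn
        simpa using this
      have hcZ : c ∉ Subgroup.center G := by
        intro h
        apply ht
        rw [← QuotientGroup.eq_one_iff, ← hn', (QuotientGroup.eq_one_iff c).2 h, one_zpow]
      have hz : (c ^ n)⁻¹ * t ∈ Subgroup.center G := by
        rw [← QuotientGroup.eq, QuotientGroup.mk_zpow]; exact hn'
      have e : t = c ^ n * ((c ^ n)⁻¹ * t) := by group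
      apply H.eq_of_le hcZ ht
      rw [e, Cz_mul_center _ _ hz]
      exact Cz_le_Cz_zpow c n
    have e1 := key x hx (by rw [hAdef]; exact Subgroup.subset_closure (by simp))
    have e2 := key y hyZ (by rw [hAdef]; exact Subgroup.subset_closure (by simp))
    exact hne (e1.symm.trans e2)

end caseB

/-! ### abstract structure lemma -/

lemma index_prime_of_normal_coatom {X : Type*} [Group X] [Finite X] (N : Subgroup X)
    [hNn : N.Normal] (hN : IsCoatom N) : N.index.Prime := by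
  have hidx1 : N.index ≠ 1 := fun h => hN.1 (Subgroup.index_eq_one.1 h)
  have hcard : Nat.card (X ⧸ N) = N.index := (Subgroup.index_eq_card N).symm
  obtain ⟨r, hr⟩ : ∃ r, r = (Nat.card (X ⧸ N)).minFac := ⟨_, rfl⟩
  have hrp : r.Prime := by rw [hr]; exact Nat.minFac_prime (by rw [hcard]; exact hidx1)
  haveI : Fact r.Prime := ⟨hrp⟩
  obtain ⟨qb, hqb⟩ := exists_prime_orderOf_dvd_card' (G := X ⧸ N) r
    (by rw [hr]; exact Nat.minFac_dvd _)
  obtain ⟨g, rfl⟩ := QuotientGroup.mk_surjective qb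
  have hgN : g ∉ N := by
    intro h
    rw [(QuotientGroup.eq_one_iff g).2 h, orderOf_one] at hqb
    exact hrp.one_lt.ne hqb
  have hlt : N < (Subgroup.zpowers (g : X ⧸ N)).comap (QuotientGroup.mk' N) := by
    refine lt_of_le_of_ne ?_ ?_
    · intro n hn
      rw [Subgroup.mem_comap]
      have : (QuotientGroup.mk' N) n = 1 := (QuotientGroup.eq_one_iff n).2 hn
      rw [this]
      exact Subgroup.one_mem _
    · intro h
      apply hgN
      rw [h, Subgroup.mem_comap]
      exact Subgroup.mem_zpowers _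
  have htop := hN.2 _ hlt
  have hz : Subgroup.zpowers (g : X ⧸ N) = ⊤ := by
    rw [eq_top_iff]
    intro q _
    obtain ⟨g', rfl⟩ := QuotientGroup.mk_surjective q
    have : g' ∈ (Subgroup.zpowers (g : X ⧸ N)).comap (QuotientGroup.mk' N) := by
      rw [htop]; trivial
    exact this
  have : Nat.card (X ⧸ N) = r := by
    rw [← Subgroup.card_top (G := X ⧸ N), ← hz, Nat.card_zpowers, hqb]
  rw [← hcard, this]
  exact hrp

theorem structure_of_frob {X : Type*} [Group X] [Finite X] (A K : Subgroup X) [hKn : K.Normal]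
    (hA : IsCoatom A) (hK : IsCoatom K) (hKA : K ⊓ A = ⊥)
    (hKc : ∀ a ∈ K, ∀ b ∈ K, a * b = b * a) (hAnn : ¬ A.Normal)
    (hnp : ∀ p : ℕ, p.Prime → ¬ IsPGroup p X) :
    (¬ IsMulCommutative X ∧ (∀ H : Subgroup X, H ≠ ⊤ → IsMulCommutative ↥H) ∧
      ∃ p q a : ℕ, p.Prime ∧ q.Prime ∧ p ≠ q ∧ Nat.card X = p ^ a * q ∧
        ∀ P : Subgroup X, Nat.card ↥P = p ^ a → P.Normal) := by
  have hAbot : A ≠ ⊥ := by
    intro h
    apply hAnn
    rw [h]
    infer_instance
  have hsup : A ⊔ K = ⊤ := by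
    by_contra hne
    have hle : K ≤ A ⊔ K := le_sup_right
    have : A ⊔ K = K := by
      by_contra hne2
      exact hne (hK.2 _ (lt_of_le_of_ne hle (Ne.symm hne2)))
    have hAK : A ≤ K := by rw [← this]; exact le_sup_left
    apply hAbot
    rw [eq_bot_iff, ← hKA]
    exact le_inf hAK le_rfl
  have hcard : Nat.card X = Nat.card A * Nat.card K := by
    have h1 := Cfsg.Agent.helper23.card_sup_mul_card_inf A K
    rw [hKA, Subgroup.card_bot, mul_one, hsup, Subgroup.card_top] at h1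
    exact h1
  have hqprime : K.index.Prime := index_prime_of_normal_coatom K hK
  have hAq : Nat.card A = K.index := by
    have h1 := K.card_mul_index
    rw [hcard, mul_comm (Nat.card A)] at h1
    exact (Nat.eq_of_mul_eq_mul_left Nat.card_pos h1).symm
  have hKbot : K ≠ ⊥ := by
    intro h
    rw [h] at hK
    have : A = ⊥ := by
      by_contra hne
      exact hA.1 (hK.2 A (bot_lt_iff_ne_bot.2 hne))
    exact hAbot this
  have hK1 : Nat.card K ≠ 1 := fun h => hKbot (Subgroup.card_eq_one.1 h)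
  obtain ⟨p, hp, hpK⟩ := Nat.exists_prime_and_dvd hK1
  haveI : Fact p.Prime := ⟨hp⟩
  -- the `p`-torsion of `K`
  let L : Subgroup X :=
    { carrier := {m | m ∈ K ∧ m ^ p = 1}
      mul_mem' := by
        rintro a b ⟨ha, ha'⟩ ⟨hb, hb'⟩
        refine ⟨K.mul_mem ha hb, ?_⟩
        have hc : Commute a b := hKc a ha b hb
        rw [hc.mul_pow, ha', hb', one_mul]
      one_mem' := ⟨K.one_mem, one_pow p⟩
      inv_mem' := by
        rintro a ⟨ha, ha'⟩
        exact ⟨K.inv_mem ha, by rw [inv_pow, ha', inv_one]⟩ }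
  have hLK : L ≤ K := fun m hm => hm.1
  have hLn : L.Normal := by
    refine ⟨fun a ha g => ?_⟩
    refine ⟨hKn.conj_mem a ha.1 g, ?_⟩
    rw [conj_pow, ha.2]; group
  have hLbot : L ≠ ⊥ := by
    obtain ⟨x0, hx0⟩ := exists_prime_orderOf_dvd_card' (G := K) p hpK
    intro hbot
    have h1 : (x0 : X) ∈ L := by
      refine ⟨x0.2, ?_⟩
      have h2 : x0 ^ p = 1 := by rw [← hx0]; exact pow_orderOf_eq_one x0
      have h3 := congrArg Subtype.val h2
      simpa using h3
    rw [hbot, Subgroup.mem_bot] at h1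
    have h4 : x0 = 1 := Subtype.ext h1
    rw [h4, orderOf_one] at hx0
    exact hp.one_lt.ne hx0
  have hinv : ∀ M : Subgroup X, M ≤ K → M.Normal → M = ⊥ ∨ M = K := by
    intro M hMK hMn
    apply Cfsg.Agent.helper23.invariant_eq_bot_or_of_coatom A K M hA hKA hMK
    rw [Subgroup.normalizer_eq_top]; exact le_top
  have hLeq : L = K := (hinv L hLK hLn).resolve_left hLbot
  have hKexp : ∀ k ∈ K, k ^ p = 1 := by
    intro k hk
    have : k ∈ L := by rw [hLeq]; exact hk
    exact this.2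
  have hKp : IsPGroup p K := by
    rintro ⟨k, hk⟩
    exact ⟨1, by rw [pow_one]; exact Subtype.ext (by simpa using hKexp k hk)⟩
  obtain ⟨a, ha⟩ := IsPGroup.iff_card.1 hKp
  have hpq : p ≠ K.index := by
    intro h
    apply hnp p hp
    apply IsPGroup.of_card (n := a + 1)
    rw [hcard, hAq, ha, ← h, pow_succ, mul_comm]
  have hnc : ¬ IsMulCommutative X := by
    intro hc
    apply hAnn
    refine ⟨fun n hn g => ?_⟩
    have : g * n * g⁻¹ = n := by
      rw [hc.is_comm.comm g n]; group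
    rw [this]; exact hn
  refine ⟨hnc, ?_, p, K.index, a, hp, hqprime, hpq, ?_, ?_⟩
  · -- proper subgroups are commutative
    intro Hs hHs
    by_cases hle : Hs ≤ K
    · exact ⟨⟨fun x y => Subtype.ext (hKc x.1 (hle x.2) y.1 (hle y.2))⟩⟩
    · have hsupH : Hs ⊔ K = ⊤ := by
        apply hK.2
        refine lt_of_le_of_ne le_sup_right ?_
        intro h
        apply hle
        rw [h]; exact le_sup_left
      have hDn : (K ⊓ Hs).Normal := by
        refine ⟨fun n hn g => ?_⟩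
        have hg : g ∈ ((Hs ⊔ K : Subgroup X) : Set X) := by rw [hsupH]; trivial
        rw [Subgroup.mul_normal Hs K] at hg
        obtain ⟨h, hh, k, hk, hg'⟩ := hg
        have hg'' : h * k = g := hg'
        subst hg''
        have h1 : k * n * k⁻¹ = n := by
          rw [hKc k hk n hn.1]; group
        have h2 : h * k * n * (h * k)⁻¹ = h * (k * n * k⁻¹) * h⁻¹ := by group
        rw [h2, h1]
        exact ⟨hKn.conj_mem n hn.1 h, Hs.mul_mem (Hs.mul_mem hh hn.2) (Hs.inv_mem hh)⟩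
      rcases hinv _ inf_le_left hDn with hD | hD
      · have h1 := Cfsg.Agent.helper23.card_sup_mul_card_inf Hs K
        rw [hD, Subgroup.card_bot, mul_one, hsupH, Subgroup.card_top, hcard, hAq] at h1
        have h2 : Nat.card Hs = K.index :=
          (Nat.eq_of_mul_eq_mul_right Nat.card_pos h1).symm
        haveI : Fact (K.index).Prime := ⟨hqprime⟩
        haveI : IsCyclic Hs := isCyclic_of_prime_card h2
        exact IsCyclic.isMulCommutative
      · exfalso
        apply hHs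
        have hKH : K ≤ Hs := by rw [← hD]; exact inf_le_right
        apply hK.2
        exact lt_of_le_of_ne hKH (fun h => hle (h ▸ le_rfl))
  · rw [hcard, hAq, ha, mul_comm]
  · intro P hP
    have hPK : P ≤ K := by
      intro g hg
      rw [← QuotientGroup.eq_one_iff (N := K)]
      have h1 : g ^ (p ^ a) = 1 := by
        have := pow_card_eq_one' (G := P) (x := ⟨g, hg⟩)
        rw [hP] at this
        have h3 := congrArg Subtype.val this
        simpa using h3
      have h2 : (g : X ⧸ K) ^ (p ^ a) = 1 := by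
        rw [← QuotientGroup.mk_pow, h1]; rfl
      have h3 : (g : X ⧸ K) ^ K.index = 1 := by
        rw [Subgroup.index_eq_card]; exact pow_card_eq_one'
      have hcop : Nat.Coprime (p ^ a) K.index :=
        Nat.Coprime.pow_left _ ((Nat.coprime_primes hp hqprime).2 hpq)
      have h4 : orderOf (g : X ⧸ K) = 1 :=
        Nat.eq_one_of_dvd_coprimes hcop (orderOf_dvd_of_pow_eq_one h2)
          (orderOf_dvd_of_pow_eq_one h3)
      exact orderOf_eq_one_iff.1 h4
    have : P = K := Subgroup.eq_of_le_of_card_ge hPK (by rw [hP, ha])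
    rw [this]; exact hKn

lemma mem_Cz_conj' {g x h : G} : h ∈ Cz (g⁻¹ * x * g) ↔ g * h * g⁻¹ ∈ Cz x := by
  have := mem_Cz_conj (g := g⁻¹) (x := x) (h := h)
  simpa using this

section caseA

variable [Finite G]

lemma caseA_eq (H : Hyp G)
    (hab : ∀ x : G, x ∉ Subgroup.center G → ∀ a ∈ Cz x, ∀ b ∈ Cz x, a * b = b * a)
    {x w : G} (hx : x ∉ Subgroup.center G) (hw : w ∉ Subgroup.center G) (hwx : w ∈ Cz x) :
    Cz x = Cz w := by
  apply H.eq_of_le hx hw
  intro g hg
  rw [mem_Cz]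
  exact hab x hx g hg w hwx

lemma exists_two_primes
    (hnp : ∀ p : ℕ, p.Prime → ¬ IsPGroup p (G ⧸ Subgroup.center G)) :
    ∃ (p : ℕ) (_ : Fact p.Prime) (u w : G), u ∉ Subgroup.center G ∧
      (∃ k : ℕ, u ^ (p ^ k) = 1) ∧ w ∉ Subgroup.center G ∧ ¬ p ∣ orderOf w := by
  have hc1 : Nat.card (G ⧸ Subgroup.center G) ≠ 1 := by
    intro h
    apply hnp 2 Nat.prime_two
    apply IsPGroup.of_card (n := 0)
    rw [h, pow_zero]
  have hc0 : Nat.card (G ⧸ Subgroup.center G) ≠ 0 := Nat.card_pos.ne'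
  obtain ⟨p, hp, hpd⟩ := Nat.exists_prime_and_dvd hc1
  haveI hpf : Fact p.Prime := ⟨hp⟩
  obtain ⟨q, hq, hqd, hqp⟩ : ∃ q : ℕ, q.Prime ∧ q ∣ Nat.card (G ⧸ Subgroup.center G) ∧ q ≠ p := by
    by_contra hcon
    push Not at hcon
    apply hnp p hp
    apply IsPGroup.of_card (n := (Nat.card (G ⧸ Subgroup.center G)).primeFactorsList.length)
    exact Nat.eq_prime_pow_of_unique_prime_dvd hc0 (fun {d} hd hdvd => hcon d hd hdvd)
  haveI : Fact q.Prime := ⟨hq⟩
  obtain ⟨ub, hub⟩ := exists_prime_orderOf_dvd_card' (G := G ⧸ Subgroup.center G) p hpd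
  obtain ⟨wb, hwb⟩ := exists_prime_orderOf_dvd_card' (G := G ⧸ Subgroup.center G) q hqd
  have hubp : ∃ k : ℕ, ub ^ (p ^ k) = 1 := ⟨1, by rw [pow_one, ← hub]; exact pow_orderOf_eq_one ub⟩
  obtain ⟨u, hu, hup⟩ := lift_pelt p ub hubp
  have hwbp : ¬ p ∣ orderOf wb := by
    rw [hwb]
    intro h
    exact hqp ((Nat.prime_dvd_prime_iff_eq hp hq).1 h).symm
  obtain ⟨w, hw, hwp⟩ := lift_pprime p wb hwbp
  refine ⟨p, hpf, u, w, ?_, hup, ?_, hwp⟩
  · intro h
    have : ub = 1 := by rw [← hu]; exact (QuotientGroup.eq_one_iff u).2 h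
    rw [this, orderOf_one] at hub
    exact hp.one_lt.ne hub
  · intro h
    have : wb = 1 := by rw [← hw]; exact (QuotientGroup.eq_one_iff w).2 h
    rw [this, orderOf_one] at hwb
    exact hq.one_lt.ne hwb

theorem caseA2 (H : Hyp G)
    (hab : ∀ x : G, x ∉ Subgroup.center G → ∀ a ∈ Cz x, ∀ b ∈ Cz x, a * b = b * a)
    (hnp : ∀ p : ℕ, p.Prime → ¬ IsPGroup p (G ⧸ Subgroup.center G))
    (hnorm : ∀ x : G, x ∉ Subgroup.center G → (Cz x).Normal) : False := by
  obtain ⟨p, hpf, u₀, w₀, hu₀, hu₀p, hw₀, hw₀p⟩ := exists_two_primes hnp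
  haveI := hpf
  have key : ∀ u w : G, u ∉ Subgroup.center G → (∃ k : ℕ, u ^ (p ^ k) = 1) →
      w ∉ Subgroup.center G → ¬ p ∣ orderOf w → Cz u = Cz w := by
    intro u w hu hup hw hwp
    by_contra hne
    have hun := hnorm u hu
    have hwn := hnorm w hw
    have hc1 : u * w * u⁻¹ * w⁻¹ ∈ Cz u := by
      have h1 : w * u⁻¹ * w⁻¹ ∈ Cz u := hun.conj_mem _ ((Cz u).inv_mem (self_mem_Cz u)) w
      have e : u * w * u⁻¹ * w⁻¹ = u * (w * u⁻¹ * w⁻¹) := by group
      rw [e]; exact (Cz u).mul_mem (self_mem_Cz u) h1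
    have hc2 : u * w * u⁻¹ * w⁻¹ ∈ Cz w := by
      have h1 : u * w * u⁻¹ ∈ Cz w := hwn.conj_mem _ (self_mem_Cz w) u
      exact (Cz w).mul_mem h1 ((Cz w).inv_mem (self_mem_Cz w))
    by_cases hcZ : u * w * u⁻¹ * w⁻¹ ∈ Subgroup.center G
    · have hc := commute_of_comm_center hcZ (coprime_of_pelt hup hwp)
      exact hne (H.lemmaA hu hw hc (coprime_of_pelt hup hwp))
    · have e1 := caseA_eq H hab hu hcZ hc1
      have e2 := caseA_eq H hab hw hcZ hc2
      exact hne (e1.trans e2.symm)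
  have hL : Cz u₀ = Cz w₀ := key u₀ w₀ hu₀ hu₀p hw₀ hw₀p
  apply (H u₀ hu₀).1
  rw [eq_top_iff]
  intro g _
  obtain ⟨e, f, hef, hep, hfp⟩ := pdecomp p g
  have h1 : g ^ e ∈ Cz u₀ := by
    by_cases h : g ^ e ∈ Subgroup.center G
    · exact center_le_Cz _ h
    · rw [hL, ← key (g ^ e) w₀ h hep hw₀ hw₀p]; exact self_mem_Cz _
  have h2 : g ^ f ∈ Cz u₀ := by
    by_cases h : g ^ f ∈ Subgroup.center G
    · exact center_le_Cz _ h
    · rw [key u₀ (g ^ f) hu₀ hu₀p h hfp]; exact self_mem_Cz _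
  rw [← hef]; exact (Cz u₀).mul_mem h1 h2

theorem caseA1 (H : Hyp G)
    (hab : ∀ x : G, x ∉ Subgroup.center G → ∀ a ∈ Cz x, ∀ b ∈ Cz x, a * b = b * a)
    (hnp : ∀ p : ℕ, p.Prime → ¬ IsPGroup p (G ⧸ Subgroup.center G))
    {x : G} (hx : x ∉ Subgroup.center G) (hxn : ¬ (Cz x).Normal) :
    (¬ IsMulCommutative (G ⧸ Subgroup.center G) ∧
      (∀ Hs : Subgroup (G ⧸ Subgroup.center G), Hs ≠ ⊤ → IsMulCommutative ↥Hs) ∧
      ∃ p q a : ℕ, p.Prime ∧ q.Prime ∧ p ≠ q ∧
        Nat.card (G ⧸ Subgroup.center G) = p ^ a * q ∧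
        ∀ P : Subgroup (G ⧸ Subgroup.center G), Nat.card ↥P = p ^ a → P.Normal) := by
  obtain ⟨Mb, hMb⟩ : ∃ Mb, Mb = (Cz x).map (QuotientGroup.mk' (Subgroup.center G)) := ⟨_, rfl⟩
  have hco : IsCoatom Mb := by
    rw [hMb]; exact coatom_map_mk _ (H x hx) (center_le_Cz x)
  have hMbbot : Mb ≠ ⊥ := by
    intro h
    have h1 : (x : G ⧸ Subgroup.center G) ∈ Mb := by
      rw [hMb]; exact mk_mem_map _ (self_mem_Cz x)
    rw [h, Subgroup.mem_bot] at h1
    exact hx ((QuotientGroup.eq_one_iff x).1 h1)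
  have hMbn : ¬ Mb.Normal := by
    intro hn
    apply hxn
    have := hn.comap (QuotientGroup.mk' (Subgroup.center G))
    rwa [hMb, comap_map_mk _ (center_le_Cz x)] at this
  have hnorm : Subgroup.normalizer ((Cz x : Subgroup G) : Set G) = Cz x := by
    have hle : Cz x ≤ Subgroup.normalizer ((Cz x : Subgroup G) : Set G) := Subgroup.le_normalizer
    by_contra hne
    have htop := (H x hx).2 _ (lt_of_le_of_ne hle (Ne.symm hne))
    exact hxn (Subgroup.normalizer_eq_top_iff.1 htop)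
  have hTI : ∀ g : G ⧸ Subgroup.center G, g ∉ Mb → ∀ t ∈ Mb, g * t * g⁻¹ ∈ Mb → t = 1 := by
    intro gb hgb tb htb hconj
    obtain ⟨g, rfl⟩ := QuotientGroup.mk_surjective gb
    obtain ⟨t, rfl⟩ := QuotientGroup.mk_surjective tb
    rw [hMb] at hgb htb hconj
    have hg : g ∉ Cz x := fun h => hgb (mk_mem_map _ h)
    have ht : t ∈ Cz x := mem_of_mk_mem_map _ (center_le_Cz x) htb
    have hgt : g * t * g⁻¹ ∈ Cz x :=
      mem_of_mk_mem_map _ (center_le_Cz x) (by simpa using hconj)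
    by_contra ht1
    have htZ : t ∉ Subgroup.center G := fun h => ht1 ((QuotientGroup.eq_one_iff t).2 h)
    have hgtZ : g * t * g⁻¹ ∉ Subgroup.center G := fun h => htZ (conj_mem_center_iff.1 h)
    have e1 : Cz x = Cz t := caseA_eq H hab hx htZ ht
    have e2 : Cz x = Cz (g * t * g⁻¹) := caseA_eq H hab hx hgtZ hgt
    apply hg
    rw [← hnorm, Subgroup.mem_normalizer_iff]
    intro h
    have e : g⁻¹ * (g * h * g⁻¹) * g = h := by group
    constructor
    · intro hh
      rw [e2, mem_Cz_conj, e, ← e1]; exact hh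
    · intro hh
      rw [e2, mem_Cz_conj, e, ← e1] at hh; exact hh
  obtain ⟨K, hKn, hKM, hKmem⟩ := Cfsg.Agent.helper1.frobenius_kernel_exists Mb hTI
  haveI := hKn
  have hFC : Cfsg.IsFrobeniusComplement Mb := by
    refine ⟨hMbbot, hco.1, ?_⟩
    intro g hg
    rw [eq_bot_iff]
    intro t ht
    rw [Subgroup.mem_bot]
    rw [Subgroup.mem_inf] at ht
    obtain ⟨ht1, ht2⟩ := ht
    rw [Cfsg.Agent.helper21.frobc_mem_conj] at ht2
    apply hTI g⁻¹ (fun h => hg (by simpa using Mb.inv_mem h)) t ht1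
    simpa using ht2
  have hKcard : Nat.card K = Mb.index := by
    rw [← Cfsg.Agent.helper21.frobc_kernel_card Mb hFC]
    exact Nat.card_congr (Equiv.subtypeEquivRight hKmem)
  have hKb : K ≠ ⊥ := by
    intro h
    rw [h, Subgroup.card_bot] at hKcard
    exact hco.1 (Subgroup.index_eq_one.mp hKcard.symm)
  obtain ⟨kb, hkbK, hkb1⟩ : ∃ v ∈ K, v ≠ 1 := by
    by_contra hcon
    push Not at hcon
    apply hKb
    rw [eq_bot_iff]
    intro v hv
    exact Subgroup.mem_bot.2 (hcon v hv)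
  obtain ⟨k, rfl⟩ := QuotientGroup.mk_surjective kb
  have hkZ : k ∉ Subgroup.center G := fun h => hkb1 ((QuotientGroup.eq_one_iff k).2 h)
  have hkall : ∀ g : G ⧸ Subgroup.center G, g⁻¹ * (k : G ⧸ Subgroup.center G) * g ∉ Mb :=
    ((hKmem _).1 hkbK).resolve_left hkb1
  have hM'K : (Cz k).map (QuotientGroup.mk' (Subgroup.center G)) ≤ K := by
    rintro q ⟨m, hm, rfl⟩
    rw [hKmem]
    by_cases hmZ : m ∈ Subgroup.center G
    · left
      exact (QuotientGroup.eq_one_iff m).2 hmZ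
    · right
      intro gb hmem
      obtain ⟨g, rfl⟩ := QuotientGroup.mk_surjective gb
      rw [hMb] at hmem
      have hmem' : g⁻¹ * m * g ∈ Cz x :=
        mem_of_mk_mem_map _ (center_le_Cz x) (by simpa using hmem)
      have hgmZ : g⁻¹ * m * g ∉ Subgroup.center G := by
        intro h
        apply hmZ
        have := (conj_mem_center_iff (g := g⁻¹) (x := m)).1 (by simpa using h)
        exact this
      have e1 : Cz x = Cz (g⁻¹ * m * g) := caseA_eq H hab hx hgmZ hmem'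
      have e2 : Cz k = Cz m := caseA_eq H hab hkZ hmZ hm
      have h3 : g⁻¹ * k * g ∈ Cz x := by
        rw [e1, mem_Cz_conj']
        have e : g * (g⁻¹ * k * g) * g⁻¹ = k := by group
        rw [e, ← e2]; exact self_mem_Cz k
      apply hkall (g : G ⧸ Subgroup.center G)
      rw [hMb]
      have := mk_mem_map (Subgroup.center G) h3
      simpa using this
  have hKtop : K ≠ ⊤ := by
    intro h
    rw [h, top_inf_eq] at hKM
    exact hMbbot hKM
  have hco' := coatom_map_mk (Subgroup.center G) (H k hkZ) (center_le_Cz k)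
  have hKeq : K = (Cz k).map (QuotientGroup.mk' (Subgroup.center G)) := by
    by_contra hne
    exact hKtop (hco'.2 _ (lt_of_le_of_ne hM'K (Ne.symm hne)))
  have hKco : IsCoatom K := by rw [hKeq]; exact hco'
  have hKc : ∀ a ∈ K, ∀ b ∈ K, a * b = b * a := by
    intro a ha b hb
    rw [hKeq] at ha hb
    obtain ⟨a', ha', rfl⟩ := ha
    obtain ⟨b', hb', rfl⟩ := hb
    rw [← map_mul, ← map_mul, hab k hkZ a' ha' b' hb']
  exact structure_of_frob Mb K hco hKco hKM hKc hMbn hnp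

end caseA

theorem result {G : Type*} [Group G] [Finite G] (hna : ¬ IsMulCommutative G)
    (h : ∀ x : G, x ∉ Subgroup.center G → IsCoatom (Subgroup.centralizer ({x} : Set G))) :
    (∃ p : ℕ, p.Prime ∧ Cfsg.IsElementaryAbelian p (⊤ : Subgroup (G ⧸ Subgroup.center G))) ∨
    (¬ IsMulCommutative (G ⧸ Subgroup.center G) ∧ (∀ H : Subgroup (G ⧸ Subgroup.center G), H ≠ ⊤ → IsMulCommutative ↥H) ∧
      ∃ p q a : ℕ, p.Prime ∧ q.Prime ∧ p ≠ q ∧ Nat.card (G ⧸ Subgroup.center G) = p ^ a * q ∧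
        ∀ P : Subgroup (G ⧸ Subgroup.center G), Nat.card ↥P = p ^ a → P.Normal) := by
  have H : Hyp G := h
  by_cases hP : ∃ p : ℕ, p.Prime ∧ IsPGroup p (G ⧸ Subgroup.center G)
  · obtain ⟨p, hp, hPG⟩ := hP
    haveI : Fact p.Prime := ⟨hp⟩
    exact Or.inl ⟨p, hp, partI H p hPG⟩
  · push Not at hP
    right
    by_cases hab : ∀ x : G, x ∉ Subgroup.center G → ∀ a ∈ Cz x, ∀ b ∈ Cz x, a * b = b * a
    · by_cases hnorm : ∀ x : G, x ∉ Subgroup.center G → (Cz x).Normal
      · exact (caseA2 H hab hP hnorm).elim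
      · push Not at hnorm
        obtain ⟨x, hx, hxn⟩ := hnorm
        exact caseA1 H hab hP hx hxn
    · exfalso
      push Not at hab
      obtain ⟨x, hx, a, ha, b, hb, hne⟩ := hab
      obtain ⟨n, p, hp, k, hn, hk⟩ := exists_prime_pow_power _ x rfl hx
      haveI : Fact p.Prime := ⟨hp⟩
      have e : Cz (x ^ n) = Cz x := H.Cz_pow hn
      apply caseB H p (hP p hp) hn ⟨k, hk⟩
      rw [e]
      intro hall
      exact hne (hall a ha b hb)

end Cfsg.Agent.S3904
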