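import Cfsg.Statements.S3909
-- import your own Cfsg.Agent.* helpers here

set_option autoImplicit false
open Cfsg

namespace Cfsg.Agent.S3909

/-- Let G be a finite group in which any two abelian subgroups of the same order are conjugate. Let M be a normal subgroup of G. If M contains an element of the same order as a ∈ G, then a ∈ M; and if M is elementary abelian of order p^t with p prime and t ≥ 2, then M is the unique Sylow p-subgroup of G. -/
theorem result {G : Type*} [Group G] [Finite G] (hB : ∀ A B : Subgroup G, IsMulCommutative ↥A → IsMulCommutative ↥B → Nat.card ↥A = Nat.card ↥B → ∃ g : G, B = A.map (MulAut.conj g).toMonoidHom) (M : Subgroup G) [M.Normal] :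
    (∀ a : G, (∃ m ∈ M, orderOf m = orderOf a) → a ∈ M) ∧
    ∀ (p t : ℕ) [Fact p.Prime], 2 ≤ t → Nat.card ↥M = p ^ t → Cfsg.IsElementaryAbelian p M → ∀ P : Sylow p G, (P : Subgroup G) = M := by
  have memconj : ∀ (K : Subgroup G) (g y : G), y ∈ K.map (MulAut.conj g).toMonoidHom ↔ g⁻¹ * y * g ∈ K := by
    intro K g y
    constructor
    · rintro ⟨k, hk, rfl⟩
      simpa [MulAut.conj_apply, mul_assoc] using hk
    · intro h
      exact ⟨g⁻¹ * y * g, h, by simp [MulAut.conj_apply, mul_assoc]⟩
  have conjM : ∀ (K : Subgroup G) (g : G), K ≤ M → K.map (MulAut.conj g).toMonoidHom ≤ M := by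
    intro K g hK y hy
    rw [memconj] at hy
    have e : y = g * (g⁻¹ * y * g) * g⁻¹ := by group
    rw [e]
    exact ‹M.Normal›.conj_mem _ (hK hy) g
  have part1 : ∀ a : G, (∃ m ∈ M, orderOf m = orderOf a) → a ∈ M := by
    rintro a ⟨m, hm, hord⟩
    have hcard : Nat.card ↥(Subgroup.zpowers m) = Nat.card ↥(Subgroup.zpowers a) := by
      rw [Nat.card_zpowers, Nat.card_zpowers, hord]
    obtain ⟨g, hg⟩ := hB (Subgroup.zpowers m) (Subgroup.zpowers a) inferInstance inferInstance hcard
    have : Subgroup.zpowers a ≤ M := by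
      rw [hg]
      apply conjM
      rw [Subgroup.zpowers_le]; exact hm
    exact this (Subgroup.mem_zpowers a)
  refine ⟨part1, ?_⟩
  intro p t hp ht hcard hel P
  have hpp : p.Prime := hp.out
  have hMp : IsPGroup p M := IsPGroup.of_card hcard
  have hMP : M ≤ (P : Subgroup G) := hMp.le_sylow_of_normal P
  apply le_antisymm _ hMP
  intro x hxP
  by_contra hxM
  -- order of x is a power of p
  obtain ⟨k, hk⟩ := (IsPGroup.iff_orderOf.mp P.isPGroup') ⟨x, hxP⟩
  rw [Subgroup.orderOf_mk] at hk
  -- M has an element of order p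
  have hpM : p ∣ Nat.card M := by
    rw [hcard]; exact dvd_pow_self p (by omega)
  obtain ⟨m0, hm0⟩ := exists_prime_orderOf_dvd_card' p hpM
  have hm0' : orderOf (m0 : G) = p := by rw [Subgroup.orderOf_coe]; exact hm0
  have hk2 : 2 ≤ k := by
    by_contra hlt
    have hk01 : k = 0 ∨ k = 1 := by omega
    rcases hk01 with rfl | rfl
    · rw [pow_zero, orderOf_eq_one_iff] at hk
      exact hxM (hk ▸ M.one_mem)
    · rw [pow_one] at hk
      exact hxM (part1 x ⟨m0, m0.2, by rw [hm0', hk]⟩)
  set y := x ^ (p ^ (k - 2)) with hy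
  have hyord : orderOf y = p ^ 2 := by
    have h1 : orderOf y = orderOf x / Nat.gcd (orderOf x) (p ^ (k - 2)) := orderOf_pow x
    rw [h1, hk]
    have hdvd : p ^ (k - 2) ∣ p ^ k := pow_dvd_pow p (by omega)
    rw [Nat.gcd_eq_right hdvd]
    have : p ^ k = p ^ 2 * p ^ (k - 2) := by rw [← pow_add]; congr 1; omega
    rw [this, Nat.mul_div_cancel _ (pow_pos hpp.pos _)]
  -- subgroup of M of order p^2
  have hle : p ^ 2 ≤ Nat.card M := by
    rw [hcard]; exact Nat.pow_le_pow_right hpp.pos ht
  obtain ⟨E', hE'⟩ := Sylow.exists_subgroup_card_pow_prime_of_le_card hpp hMp hle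
  set E : Subgroup G := E'.map M.subtype with hE
  have hEM : E ≤ M := Subgroup.map_subtype_le _
  have hEcard : Nat.card E = p ^ 2 := by
    rw [← hE']
    exact Nat.card_congr (E'.equivMapOfInjective (Subgroup.subtype M) M.subtype_injective).symm.toEquiv
  have hMcomm := hel.1
  have hEcomm : IsMulCommutative ↥E := by
    rw [isMulCommutative_iff]
    intro a b
    have := setLike_mul_comm (s := M) (hEM a.2) (hEM b.2)
    exact Subtype.ext this
  have hcard2 : Nat.card ↥E = Nat.card ↥(Subgroup.zpowers y) := by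
    rw [Nat.card_zpowers, hyord, hEcard]
  obtain ⟨g, hg⟩ := hB E (Subgroup.zpowers y) hEcomm inferInstance hcard2
  have hyM : y ∈ M := by
    have : Subgroup.zpowers y ≤ M := by
      rw [hg]; exact conjM E g hEM
    exact this (Subgroup.mem_zpowers y)
  have hyp : y ^ p = 1 := hel.2 y hyM
  have := orderOf_dvd_of_pow_eq_one hyp
  rw [hyord] at this
  have h2 : p ^ 2 ≤ p := Nat.le_of_dvd hpp.pos this
  have : p * p ≤ p * 1 := by rw [← sq]; simpa using h2
  have := Nat.le_of_mul_le_mul_left this hpp.pos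
  exact absurd hpp.one_lt (by omega)

end Cfsg.Agent.S3909
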