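import Cfsg.Statements.S3917
-- import your own Cfsg.Agent.* helpers here
import Cfsg.Agent.Lib_helper19_SelfCent

set_option autoImplicit false
open Cfsg

namespace Cfsg.Agent.S3917

/-- Say that a group has self-centralizing non-cyclic subgroups when every non-cyclic subgroup H satisfies C_G(H) ≤ H. A finite abelian group with self-centralizing non-cyclic subgroups is cyclic or elementary abelian of order p² for a prime p. -/
theorem result {G : Type*} [CommGroup G] [Finite G] (hX : (∀ H : Subgroup G, ¬ IsCyclic ↥H → Subgroup.centralizer (H : Set G) ≤ H)) :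
    IsCyclic G ∨ ∃ p : ℕ, p.Prime ∧ Nat.card G = p ^ 2 ∧ Monoid.exponent G = p := by
  apply Cfsg.Agent.helper19.cyclic_or_sq_of_proper_cyclic
  intro H hH
  rw [eq_top_iff]
  refine le_trans ?_ (hX H hH)
  intro g _
  rw [Subgroup.mem_centralizer_iff]
  intro h _
  exact mul_comm h g

end Cfsg.Agent.S3917
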