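import Cfsg.Statements.S3918
-- import your own Cfsg.Agent.* helpers here
import Mathlib
import Cfsg.Agent.S0636

set_option autoImplicit false
open Cfsg

namespace Cfsg.Agent.S3918

set_option linter.style.haveILetI false

theorem card_class_mul {G : Type*} [Group G] [Finite G] (g : G) :
    Nat.card (ConjClasses.mk g).carrier * Nat.card (Subgroup.centralizer ({g} : Set G)) = Nat.card G := by
  have h1 : Nat.card (ConjClasses.mk g).carrier = (MulAction.stabilizer (ConjAct G) g).index := by
    rw [MulAction.index_stabilizer, ConjAct.orbit_eq_carrier_conjClasses, Nat.card_coe_set_eq]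
  have h2 : Nat.card (Subgroup.centralizer ({g} : Set G)) = Nat.card (MulAction.stabilizer (ConjAct G) g) := by
    rw [Subgroup.centralizer_eq_comap_stabilizer]
    refine Nat.card_congr ⟨fun x => ⟨ConjAct.toConjAct x.1, x.2⟩, fun y => ⟨ConjAct.ofConjAct y.1, ?_⟩, fun x => rfl, fun y => rfl⟩
    exact y.2
  rw [h1, h2, mul_comm, Subgroup.card_mul_index]
  rfl

/-- a group of exponent dividing `p` that is cyclic has order dividing `p`. -/
theorem card_dvd_of_cyclic_of_exp {G : Type*} [Group G] {p : ℕ} (H : Subgroup G) (hc : IsCyclic ↥H)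
    (he : ∀ a ∈ H, a ^ p = 1) : Nat.card H ∣ p := by
  rw [← IsCyclic.exponent_eq_card]
  apply Monoid.exponent_dvd_of_forall_pow_eq_one
  intro g
  apply Subtype.ext
  simpa using he g.1 g.2

theorem not_comm_card_ge {G : Type*} [Group G] [Finite G] {p : ℕ} [Fact p.Prime] (hG : IsPGroup p G)
    (hna : ¬ IsMulCommutative G) : ∃ n, 3 ≤ n ∧ Nat.card G = p ^ n := by
  obtain ⟨n, hn⟩ := hG.exists_card_eq
  refine ⟨n, ?_, hn⟩
  by_contra hlt
  apply hna
  have : n = 0 ∨ n = 1 ∨ n = 2 := by omega
  rcases this with rfl | rfl | rfl
  · rw [pow_zero] at hn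
    have : Subsingleton G := (Nat.card_eq_one_iff_unique.mp hn).1
    exact ⟨⟨fun a b => Subsingleton.elim _ _⟩⟩
  · rw [pow_one] at hn
    have : IsCyclic G := isCyclic_of_prime_card hn
    exact ⟨⟨fun a b => IsCyclic.commGroup.mul_comm a b⟩⟩
  · exact IsPGroup.isMulCommutative_of_card_eq_prime_sq hn


/-- Say that a group has self-centralizing non-cyclic subgroups when every non-cyclic subgroup H satisfies C_G(H) ≤ H. For an odd prime p, a finite non-abelian p-group has self-centralizing non-cyclic subgroups if and only if it has order p³. -/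
theorem result {G : Type*} [Group G] [Finite G] {p : ℕ} [Fact p.Prime] (hp : p ≠ 2) (hG : IsPGroup p G) (hna : ¬ IsMulCommutative G) :
    (∀ H : Subgroup G, ¬ IsCyclic ↥H → Subgroup.centralizer (H : Set G) ≤ H) ↔ Nat.card G = p ^ 3 := by
  have hpp : p.Prime := Fact.out
  constructor
  · intro h
    have hnc : ¬ IsCyclic (⊤ : Subgroup G) := by
      intro hc
      apply hna
      have : IsCyclic G := isCyclic_of_surjective (Subgroup.topEquiv : (⊤ : Subgroup G) ≃* G)
        Subgroup.topEquiv.surjective
      exact ⟨⟨fun a b => IsCyclic.commGroup.mul_comm a b⟩⟩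
    obtain ⟨A, -, hAn, ⟨hAc, hAe⟩, hAcard⟩ := Cfsg.Agent.S0636.result hp hG ⊤ hnc
    have hAnc : ¬ IsCyclic ↥A := by
      intro hc
      have := card_dvd_of_cyclic_of_exp A hc hAe
      rw [hAcard] at this
      have h2 := Nat.le_of_dvd hpp.pos this
      have : p < p ^ 2 := by
        calc p = p ^ 1 := (pow_one p).symm
          _ < p ^ 2 := Nat.pow_lt_pow_right hpp.one_lt (by norm_num)
      omega
    have hCA := h A hAnc
    have hAne : A ≠ ⊥ := by
      intro hb
      rw [hb, Subgroup.card_bot] at hAcard
      have : 1 < p ^ 2 := Nat.one_lt_pow (by norm_num) hpp.one_lt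
      omega
    obtain ⟨z, hzA, hzo, hzc⟩ := Cfsg.Agent.S0636.exists_central hG A hAne
    -- a non-central element of A
    have hex : ∃ a ∈ A, ∃ u : G, u * a ≠ a * u := by
      by_contra hcon
      push Not at hcon
      apply hna
      have htop : (⊤ : Subgroup G) ≤ A := by
        intro x _
        apply hCA
        rw [Subgroup.mem_centralizer_iff]
        intro y hy
        exact (hcon y hy x).symm
      refine ⟨⟨fun x y => ?_⟩⟩
      have := hAc.is_comm.comm ⟨x, htop (Subgroup.mem_top x)⟩ ⟨y, htop (Subgroup.mem_top y)⟩
      exact congrArg Subtype.val this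
    obtain ⟨a, haA, u, hu⟩ := hex
    set H : Subgroup G := Subgroup.zpowers z ⊔ Subgroup.zpowers a with hH
    have hHA : H ≤ A := sup_le (Subgroup.zpowers_le.2 hzA) (Subgroup.zpowers_le.2 haA)
    have hHnc : ¬ IsCyclic ↥H := by
      intro hc
      have hd := card_dvd_of_cyclic_of_exp H hc (fun x hx => hAe x (hHA hx))
      have hle : Subgroup.zpowers z ≤ H := le_sup_left
      have hcz : Nat.card (Subgroup.zpowers z) = p := by rw [Nat.card_zpowers, hzo]
      have heq : Subgroup.zpowers z = H := by
        apply Subgroup.eq_of_le_of_card_ge hle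
        rw [hcz]
        exact Nat.le_of_dvd hpp.pos hd
      have : a ∈ Subgroup.zpowers z := by
        rw [heq]
        exact (le_sup_right : Subgroup.zpowers a ≤ H) (Subgroup.mem_zpowers a)
      obtain ⟨k, rfl⟩ := Subgroup.mem_zpowers_iff.1 this
      apply hu
      have hcomm : Commute u z := hzc u
      exact (hcomm.zpow_right k)
    have hCH := h H hHnc
    have hCa : Subgroup.centralizer ({a} : Set G) ≤ A := by
      intro x hx
      apply hHA
      apply hCH
      rw [Subgroup.mem_centralizer_iff]
      intro y hy
      have hle : H ≤ Subgroup.centralizer ({x} : Set G) := by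
        apply sup_le
        · rw [Subgroup.zpowers_le, Subgroup.mem_centralizer_iff]
          intro w hw
          rw [Set.mem_singleton_iff] at hw
          subst hw
          exact hzc w
        · rw [Subgroup.zpowers_le, Subgroup.mem_centralizer_iff]
          intro w hw
          rw [Set.mem_singleton_iff] at hw
          subst hw
          rw [Subgroup.mem_centralizer_iff] at hx
          exact (hx a rfl).symm
      have := hle hy
      rw [Subgroup.mem_centralizer_iff] at this
      exact (this x rfl).symm
    -- class of a inside A \ {1}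
    have hcls : Nat.card (ConjClasses.mk a).carrier < p ^ 2 := by
      have hsub : (ConjClasses.mk a).carrier ⊆ ((A : Set G) \ {1}) := by
        intro x hx
        rw [ConjClasses.mem_carrier_iff_mk_eq, ConjClasses.mk_eq_mk_iff_isConj] at hx
        obtain ⟨c, hc⟩ := isConj_iff.1 hx
        have hxa : a = c * x * c⁻¹ := hc.symm
        constructor
        · have : x = c⁻¹ * a * c⁻¹⁻¹ := by rw [hxa]; group
          rw [this]
          exact hAn.conj_mem a haA c⁻¹
        · intro hx1
          rw [Set.mem_singleton_iff] at hx1
          rw [hx1] at hxa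
          apply hu
          rw [hxa]; group
      have h1 : Nat.card (ConjClasses.mk a).carrier ≤ Nat.card ((A : Set G) \ {1} : Set G) :=
        Nat.card_mono (Set.toFinite _) hsub
      have h2 : Nat.card ((A : Set G) \ {1} : Set G) < Nat.card (A : Set G) := by
        rw [Nat.card_coe_set_eq, Nat.card_coe_set_eq]
        apply Set.ncard_lt_ncard _ (Set.toFinite _)
        refine ⟨Set.sdiff_subset, ?_⟩
        intro hh
        have := hh (A.one_mem)
        exact this.2 rfl
      have h3 : Nat.card (A : Set G) = p ^ 2 := hAcard
      omega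
    have hmul := card_class_mul a
    obtain ⟨n, hn3, hn⟩ := not_comm_card_ge hG hna
    have hcd : Nat.card (ConjClasses.mk a).carrier ∣ p ^ n := by
      rw [← hn, ← hmul]; exact dvd_mul_right _ _
    obtain ⟨k, hkn, hk⟩ := (Nat.dvd_prime_pow hpp).1 hcd
    have hk1 : k ≤ 1 := by
      by_contra hk2
      have : p ^ 2 ≤ p ^ k := Nat.pow_le_pow_right hpp.pos (by omega)
      omega
    have hCd : Nat.card (Subgroup.centralizer ({a} : Set G)) ∣ p ^ 2 := by
      rw [← hAcard]
      exact Subgroup.card_dvd_of_le hCa
    obtain ⟨m, hm2, hm⟩ := (Nat.dvd_prime_pow hpp).1 hCd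
    rw [hk, hm, hn, ← pow_add] at hmul
    have := Nat.pow_right_injective hpp.two_le hmul
    have hn' : n = 3 := by omega
    rw [hn, hn']
  · intro hcard H hH
    obtain ⟨k, hk⟩ := (hG.to_subgroup H).exists_card_eq
    have hk3 : k ≤ 3 := by
      have : Nat.card H ∣ Nat.card G := Subgroup.card_subgroup_dvd_card H
      rw [hk, hcard] at this
      exact (Nat.pow_dvd_pow_iff_le_right hpp.one_lt).1 this
    have hk2 : 2 ≤ k := by
      by_contra hlt
      apply hH
      have : k = 0 ∨ k = 1 := by omega
      rcases this with rfl | rfl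
      · rw [pow_zero] at hk
        have : Subsingleton H := (Nat.card_eq_one_iff_unique.mp hk).1
        infer_instance
      · rw [pow_one] at hk
        exact isCyclic_of_prime_card hk
    rcases (by omega : k = 2 ∨ k = 3) with rfl | rfl
    · -- H abelian of order p^2
      have hHc : ∀ x y : H, x * y = y * x := (IsPGroup.isMulCommutative_of_card_eq_prime_sq hk).is_comm.comm
      have hHC : H ≤ Subgroup.centralizer (H : Set G) := by
        intro x hx
        rw [Subgroup.mem_centralizer_iff]
        intro y hy
        exact congrArg Subtype.val (hHc ⟨y, hy⟩ ⟨x, hx⟩)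
      obtain ⟨m, hm⟩ := (hG.to_subgroup (Subgroup.centralizer (H : Set G))).exists_card_eq
      have hm3 : m ≤ 3 := by
        have : Nat.card (Subgroup.centralizer (H : Set G)) ∣ Nat.card G :=
          Subgroup.card_subgroup_dvd_card _
        rw [hm, hcard] at this
        exact (Nat.pow_dvd_pow_iff_le_right hpp.one_lt).1 this
      have hm2 : 2 ≤ m := by
        have := Subgroup.card_dvd_of_le hHC
        rw [hm, hk] at this
        exact (Nat.pow_dvd_pow_iff_le_right hpp.one_lt).1 this
      rcases (by omega : m = 2 ∨ m = 3) with rfl | rfl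
      · have := Subgroup.eq_of_le_of_card_ge hHC (by rw [hm, hk])
        rw [← this]
      · exfalso
        apply hna
        have hCtop : Subgroup.centralizer (H : Set G) = ⊤ := by
          apply Subgroup.eq_top_of_card_eq
          rw [hm, hcard]
        have hHZ : H ≤ Subgroup.center G := by
          intro x hx
          rw [Subgroup.mem_center_iff]
          intro g
          have : g ∈ Subgroup.centralizer (H : Set G) := by rw [hCtop]; trivial
          rw [Subgroup.mem_centralizer_iff] at this
          exact (this x hx).symm
        have hZd : p ^ 2 ∣ Nat.card (Subgroup.center G) := by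
          rw [← hk]; exact Subgroup.card_dvd_of_le hHZ
        have hcyc : IsCyclic (G ⧸ Subgroup.center G) := by
          apply isCyclic_of_card_dvd_prime (p := p)
          have h1 := (Subgroup.center G).card_mul_index
          rw [hcard] at h1
          obtain ⟨c, hc⟩ := hZd
          rw [hc] at h1
          have : p ^ 2 * (c * (Subgroup.center G).index) = p ^ 2 * p := by
            rw [← mul_assoc, h1]; ring
          have h2 := Nat.eq_of_mul_eq_mul_left (pow_pos hpp.pos 2) this
          rw [← Subgroup.index_eq_card] 
          exact Dvd.intro_left _ h2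
        exact MonoidHom.isMulCommutative_of_isCyclic_of_ker_le_center (QuotientGroup.mk' (Subgroup.center G))
          (by rw [QuotientGroup.ker_mk'])
    · have : H = ⊤ := by
        apply Subgroup.eq_top_of_card_eq
        rw [hk, hcard]
      rw [this]
      exact le_top

end Cfsg.Agent.S3918
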