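import Mathlib
import Cfsg.Statements.S3919
import Cfsg.Agent.Lib_helper17_MaxClass2
import Cfsg.Agent.H16UniqueInvol
import Cfsg.Agent.S0112

set_option autoImplicit false

open Cfsg

namespace Cfsg.Agent.S3919

open Cfsg.Agent.helper17.MC2

open scoped commutatorElement

universe u

theorem mul_inv_mem_of_index_two {P : Type*} [Group P] (H : Subgroup P) (hidx : H.index = 2)
    {x b : P} (hx : x ∉ H) (hb : b ∉ H) : x * b⁻¹ ∈ H := by
  rw [Subgroup.mul_mem_iff_of_index_two hidx]
  constructor
  · intro h; exact absurd h hx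
  · intro h; exact absurd ((Subgroup.inv_mem_iff _).1 h) hb

/-- the derived subgroup has index 4 as soon as it is large enough. -/
theorem index_eq_four {X : Type*} [Group X] [Finite X] (n : ℕ) (hn : 2 ≤ n)
    (hX : Nat.card X = 2 ^ n) (h1 : 2 ^ (n - 2) ≤ Nat.card (commutator X))
    (hncyc : ¬ IsCyclic (X ⧸ commutator X)) : (commutator X).index = 4 := by
  have h2 := (commutator X).card_mul_index
  rw [hX] at h2
  have hidx_dvd : (commutator X).index ∣ 2 ^ n := ⟨_, by rw [mul_comm]; exact h2.symm⟩
  obtain ⟨e2, he2, hidx⟩ := (Nat.dvd_prime_pow Nat.prime_two).1 hidx_dvd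
  have hpow : 2 ^ n = 2 ^ (n - 2) * 4 := by
    have : n = (n - 2) + 2 := by omega
    conv_lhs => rw [this, pow_add]
    norm_num
  have he22 : e2 ≤ 2 := by
    by_contra hgt
    have h8 : 2 ^ 3 ≤ 2 ^ e2 := Nat.pow_le_pow_right (by norm_num) (by omega)
    rw [hidx] at h2
    have h3 : 2 ^ (n - 2) * 8 ≤ Nat.card (commutator X) * 2 ^ e2 :=
      Nat.mul_le_mul h1 (by norm_num at h8; exact h8)
    have hp : 0 < 2 ^ (n - 2) := by positivity
    omega
  have hQcard : Nat.card (X ⧸ commutator X) = 2 ^ e2 := by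
    rw [← Subgroup.index_eq_card, hidx]
  interval_cases e2
  · exfalso
    apply hncyc
    rw [pow_zero] at hQcard
    haveI : Subsingleton (X ⧸ commutator X) :=
      (Nat.card_eq_one_iff_unique.1 hQcard).1
    exact isCyclic_of_subsingleton
  · exfalso
    apply hncyc
    rw [pow_one] at hQcard
    haveI : Fact (Nat.Prime 2) := ⟨Nat.prime_two⟩
    exact isCyclic_of_prime_card hQcard
  · rw [hidx]; norm_num

/-- the four-group generated by two commuting involutions -/
def kleinSub {G : Type*} [Group G] (g z : G) (hg : g * g = 1) (hz : z * z = 1)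
    (hc : z * g = g * z) : Subgroup G where
  carrier := {v | v = 1 ∨ v = g ∨ v = z ∨ v = g * z}
  one_mem' := Or.inl rfl
  mul_mem' := by
    have hg' : ∀ w, g * (g * w) = w := fun w => by rw [← mul_assoc, hg, one_mul]
    have hz' : ∀ w, z * (z * w) = w := fun w => by rw [← mul_assoc, hz, one_mul]
    have hc' : ∀ w, z * (g * w) = g * (z * w) := fun w => by rw [← mul_assoc, hc, mul_assoc]
    rintro a b (rfl | rfl | rfl | rfl) (rfl | rfl | rfl | rfl) <;>
      simp [mul_assoc, hg, hz, hc, hg', hz', hc']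
  inv_mem' := by
    have hgi : g⁻¹ = g := inv_eq_of_mul_eq_one_right hg
    have hzi : z⁻¹ = z := inv_eq_of_mul_eq_one_right hz
    rintro a (rfl | rfl | rfl | rfl)
    · left; simp
    · right; left; exact hgi
    · right; right; left; exact hzi
    · right; right; right; rw [mul_inv_rev, hgi, hzi, hc]

theorem mem_kleinSub {G : Type*} [Group G] (g z : G) (hg : g * g = 1) (hz : z * z = 1)
    (hc : z * g = g * z) (v : G) :
    v ∈ kleinSub g z hg hz hc ↔ v = 1 ∨ v = g ∨ v = z ∨ v = g * z := Iff.rfl

theorem kleinSub_card {G : Type*} [Group G] (g z : G) (hg : g * g = 1) (hz : z * z = 1)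
    (hc : z * g = g * z) (hg1 : g ≠ 1) (hz1 : z ≠ 1) (hgz : g ≠ z) :
    Nat.card (kleinSub g z hg hz hc) = 4 := by
  have hset : ((kleinSub g z hg hz hc : Subgroup G) : Set G) = {1, g, z, g * z} := by
    ext v
    simp only [Set.mem_insert_iff, Set.mem_singleton_iff]
    rfl
  have hgi : g⁻¹ = g := inv_eq_of_mul_eq_one_right hg
  have h2 : ({1, g, z, g * z} : Set G).ncard = 4 := by
    rw [Set.ncard_insert_of_notMem, Set.ncard_insert_of_notMem, Set.ncard_pair]
    · intro h
      apply hg1
      have : g * z = 1 * z := by rw [one_mul]; exact h.symm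
      exact mul_right_cancel this
    · simp only [Set.mem_insert_iff, Set.mem_singleton_iff, not_or]
      refine ⟨hgz, ?_⟩
      intro h
      apply hz1
      have : g * 1 = g * z := by rw [mul_one]; exact h
      exact (mul_left_cancel this).symm
    · simp only [Set.mem_insert_iff, Set.mem_singleton_iff, not_or]
      refine ⟨fun h => hg1 h.symm, fun h => hz1 h.symm, ?_⟩
      intro h
      apply hgz
      have h3 : g⁻¹ = z := by
        rw [inv_eq_iff_mul_eq_one]
        exact h.symm
      rw [← h3, hgi]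
  calc Nat.card (kleinSub g z hg hz hc)
      = ((kleinSub g z hg hz hc : Subgroup G) : Set G).ncard := Nat.card_coe_set_eq _
    _ = ({1, g, z, g * z} : Set G).ncard := by rw [hset]
    _ = 4 := h2

theorem kleinSub_not_cyclic {G : Type*} [Group G] (g z : G) (hg : g * g = 1) (hz : z * z = 1)
    (hc : z * g = g * z) (hg1 : g ≠ 1) (hz1 : z ≠ 1) (hgz : g ≠ z) :
    ¬ IsCyclic (kleinSub g z hg hz hc) := by
  intro hcyc
  obtain ⟨v, hv⟩ := hcyc.exists_generator
  have hord : orderOf v = Nat.card (kleinSub g z hg hz hc) :=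
    orderOf_eq_card_of_forall_mem_zpowers hv
  rw [kleinSub_card g z hg hz hc hg1 hz1 hgz] at hord
  have hv2 : v ^ 2 = 1 := by
    apply Subtype.ext
    rw [Subgroup.coe_pow, pow_two, Subgroup.coe_one]
    rcases (mem_kleinSub g z hg hz hc v.1).1 v.2 with h | h | h | h
    · rw [h, one_mul]
    · rw [h, hg]
    · rw [h, hz]
    · rw [h, mul_assoc, ← mul_assoc z g z, hc, mul_assoc, hz, mul_one, hg]
  have h3 := orderOf_dvd_of_pow_eq_one hv2
  rw [hord] at h3
  norm_num at h3

theorem exists_central_invol {G : Type*} [Group G] [Finite G] (hP : IsPGroup 2 G) [Nontrivial G] :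
    ∃ z : G, z ∈ Subgroup.center G ∧ z ≠ 1 ∧ z * z = 1 := by
  haveI : Fact (Nat.Prime 2) := ⟨Nat.prime_two⟩
  have h1 : Nontrivial (Subgroup.center G) := hP.center_nontrivial
  obtain ⟨k, hk, hcard⟩ :=
    (IsPGroup.nontrivial_iff_card (hP.to_subgroup (Subgroup.center G))).1 h1
  have hdvd : 2 ∣ Nat.card (Subgroup.center G) := by rw [hcard]; exact dvd_pow_self 2 hk.ne'
  obtain ⟨x, hx⟩ := exists_prime_orderOf_dvd_card' 2 hdvd
  refine ⟨x.1, x.2, ?_, ?_⟩
  · intro h
    have h2 : x = 1 := Subtype.ext h
    rw [h2, orderOf_one] at hx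
    norm_num at hx
  · have h2 := pow_orderOf_eq_one x
    rw [hx, pow_two] at h2
    exact congrArg Subtype.val h2

theorem commutator_ne_bot {G : Type*} [Group G] (hna : ¬ IsMulCommutative G) :
    commutator G ≠ ⊥ := by
  intro h3
  apply hna
  refine ⟨⟨fun x y => ?_⟩⟩
  have h5 : ⁅x, y⁆ ∈ commutator G := by
    rw [commutator_def]
    exact Subgroup.commutator_mem_commutator (Subgroup.mem_top x) (Subgroup.mem_top y)
  rw [h3, Subgroup.mem_bot] at h5
  exact commutatorElement_eq_one_iff_mul_comm.1 h5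

theorem forward {G : Type u} [Group G] [Finite G] (hna : ¬ IsMulCommutative G) (n : ℕ)
    (hn : 3 ≤ n) (hG : Nat.card G = 2 ^ n)
    (hsc : ∀ H : Subgroup G, ¬ IsCyclic ↥H → Subgroup.centralizer (H : Set G) ≤ H) :
    Group.nilpotencyClass G = n - 1 := by
  haveI : Fact (Nat.Prime 2) := ⟨Nat.prime_two⟩
  have hP : IsPGroup 2 G := IsPGroup.of_card hG
  by_cases hV : ∃ V : Subgroup G, Nat.card V = 4 ∧ ¬ IsCyclic V
  · obtain ⟨V, hV4, hVnc⟩ := hV
    have h1 := hsc V hVnc
    have hVc : IsMulCommutative V :=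
      IsPGroup.isMulCommutative_of_card_eq_prime_sq (p := 2) (by rw [hV4]; norm_num)
    have h2 : V ≤ Subgroup.centralizer (V : Set G) := by
      intro v hv w hw
      have h3 := hVc.is_comm.comm ⟨w, hw⟩ ⟨v, hv⟩
      exact congrArg Subtype.val h3
    exact Cfsg.Agent.S0112.result n hG V (by rw [hV4]; norm_num) (le_antisymm h1 h2)
  · push Not at hV
    haveI : Nontrivial G := by
      rw [← Finite.one_lt_card_iff_nontrivial, hG]
      exact Nat.one_lt_two_pow (by omega)
    obtain ⟨z, hzc, hz1, hzz⟩ := exists_central_invol hP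
    have hz : Cfsg.Agent.H16UniqueInvol.UInv z := by
      refine ⟨hz1, hzz, ?_⟩
      intro g hgg
      by_contra hcon
      push Not at hcon
      obtain ⟨hg1, hgz⟩ := hcon
      have hc : z * g = g * z := (Subgroup.mem_center_iff.1 hzc g).symm
      exact kleinSub_not_cyclic g z hgg hzz hc hg1 hz1 hgz
        (hV _ (kleinSub_card g z hgg hzz hc hg1 hz1 hgz))
    have hna' : ∃ g h : G, g * h ≠ h * g := Cfsg.Agent.H16UniqueInvol.exists_noncomm hna
    obtain ⟨x, y, k, hk, hord, hy, hidx, hinv, hyy, hxz⟩ :=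
      Cfsg.Agent.H16UniqueInvol.structure_thm hP hz hna'
    have hindex : (Subgroup.zpowers x).index = 2 := by
      rw [Subgroup.index_eq_two_iff']
      refine ⟨y⁻¹, fun b => ?_⟩
      by_cases hb : b ∈ Subgroup.zpowers x
      · right
        refine ⟨hb, fun h => hy ?_⟩
        have h1 : y⁻¹ * b * b⁻¹ ∈ Subgroup.zpowers x :=
          Subgroup.mul_mem _ h (Subgroup.inv_mem _ hb)
        rw [mul_inv_cancel_right] at h1
        exact (Subgroup.inv_mem_iff _).1 h1
      · left
        refine ⟨?_, hb⟩
        rcases hidx b with h | h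
        · exact absurd h hb
        · exact h
    have hcardx : Nat.card (Subgroup.zpowers x) = 2 ^ k := by rw [Nat.card_zpowers, hord]
    have hnk : n = k + 1 := by
      have h1 := (Subgroup.zpowers x).card_mul_index
      rw [hindex, hcardx, hG, ← pow_succ] at h1
      exact (Nat.pow_right_injective (le_refl 2) h1).symm
    have hcomm_mem : x ^ 2 ∈ commutator G := by
      have h1 : ⁅y, x⁆ ∈ commutator G := by
        rw [commutator_def]
        exact Subgroup.commutator_mem_commutator (Subgroup.mem_top y) (Subgroup.mem_top x)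
      have h2 : ⁅y, x⁆ = (x ^ 2)⁻¹ := by
        rw [commutatorElement_def, hinv, pow_two, mul_inv_rev]
      rw [h2] at h1
      exact (Subgroup.inv_mem_iff _).1 h1
    have hle : Subgroup.zpowers (x ^ 2) ≤ commutator G := by
      rw [Subgroup.zpowers_le]; exact hcomm_mem
    have hk1 : 2 ^ k = 2 ^ (k - 1) * 2 := by
      conv_lhs => rw [show k = (k - 1) + 1 by omega, pow_succ]
    have hcard2 : Nat.card (Subgroup.zpowers (x ^ 2)) = 2 ^ (k - 1) := by
      rw [Nat.card_zpowers, orderOf_pow_of_dvd (by norm_num)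
        (by rw [hord]; exact dvd_pow_self 2 (by omega)), hord, hk1]
      exact Nat.mul_div_cancel _ (by norm_num)
    have h1 : 2 ^ (n - 2) ≤ Nat.card (commutator G) := by
      calc 2 ^ (n - 2) = 2 ^ (k - 1) := by congr 1; omega
        _ = Nat.card (Subgroup.zpowers (x ^ 2)) := hcard2.symm
        _ ≤ _ := Subgroup.card_le_of_le hle
    have hncyc := not_isCyclic_abelianization hP (commutator_ne_bot hna)
    have hidx4 := index_eq_four n (by omega) hG h1 hncyc
    exact class_eq n G (by omega) hG hidx4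

theorem backward {G : Type u} [Group G] [Finite G] (n : ℕ) (hn : 3 ≤ n)
    (hG : Nat.card G = 2 ^ n) (hidx : (commutator G).index = 4)
    (H : Subgroup G) (hH : ¬ IsCyclic H) : Subgroup.centralizer (H : Set G) ≤ H := by
  obtain ⟨a, b, ha, hb, -⟩ := taussky n G hn hG hidx
  have hAidx := index_zpowers_eq_two n (by omega) hG a ha
  obtain ⟨hZcard, -⟩ := card_center_eq_two n G hn hG hidx
  have h8 : 2 ^ n ≥ 8 := by
    calc 2 ^ n ≥ 2 ^ 3 := Nat.pow_le_pow_right (by norm_num) hn
      _ = 8 := by norm_num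
  have hXne : commutator G ≠ ⊥ := by
    intro h
    rw [h, Subgroup.index_bot, hG] at hidx
    omega
  have hZA : Subgroup.center G ≤ Subgroup.zpowers a :=
    center_le_of_index_two _ hAidx (comm_zpowers a) hXne
  have ha1 : a ^ (2 ^ (n - 1)) = 1 := by rw [← ha]; exact pow_orderOf_eq_one a
  have hHA : ¬ H ≤ Subgroup.zpowers a := fun h => hH (Subgroup.isCyclic_of_le h)
  obtain ⟨x, hxH, hxA⟩ := SetLike.not_le_iff_exists.1 hHA
  have hcentral : ∀ u ∈ Subgroup.zpowers a, x * u = u * x → u ∈ Subgroup.center G := by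
    intro u hu hux
    rw [Subgroup.mem_center_iff]
    intro w
    by_cases hw : w ∈ Subgroup.zpowers a
    · exact comm_zpowers a w hw u hu
    · have hwx : w * x⁻¹ ∈ Subgroup.zpowers a := mul_inv_mem_of_index_two _ hAidx hw hxA
      have h1 : (w * x⁻¹) * u = u * (w * x⁻¹) := comm_zpowers a _ hwx u hu
      calc w * u = (w * x⁻¹) * (x * u) := by group
        _ = (w * x⁻¹) * (u * x) := by rw [hux]
        _ = ((w * x⁻¹) * u) * x := by simp only [mul_assoc]
        _ = (u * (w * x⁻¹)) * x := by rw [h1]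
        _ = u * w := by group
  have hZH : Subgroup.center G ≤ H := by
    have hex : ∃ t ∈ H, t ∈ Subgroup.zpowers a ∧ t ≠ 1 := by
      by_contra hcon
      push Not at hcon
      apply hH
      have hle : H ≤ Subgroup.zpowers x := by
        intro h hh
        by_cases hhA : h ∈ Subgroup.zpowers a
        · rw [hcon h hh hhA]; exact Subgroup.one_mem _
        · have h1 := mul_inv_mem_of_index_two _ hAidx hhA hxA
          have h2 := hcon _ (H.mul_mem hh (H.inv_mem hxH)) h1
          rw [mul_inv_eq_one] at h2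
          rw [h2]; exact Subgroup.mem_zpowers x
      exact Subgroup.isCyclic_of_le hle
    obtain ⟨t, htH, htA, ht1⟩ := hex
    intro c hc
    have hcA := hZA hc
    have hcc : c * c = 1 := by
      have h1 : (⟨c, hc⟩ : Subgroup.center G) ^ 2 = 1 := by
        rw [← hZcard]; exact pow_card_eq_one'
      have h2 := congrArg Subtype.val h1
      rw [Subgroup.coe_pow, pow_two] at h2
      exact h2
    rcases Cfsg.Agent.H16UniqueInvol.chain (n - 1) a ha1 c hcA t htA with h | h
    · exact (Subgroup.zpowers_le.2 htH) h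
    · exfalso
      rw [hcc, Subgroup.zpowers_one_eq_bot, Subgroup.mem_bot] at h
      exact ht1 h
  intro g hg
  have hgx : x * g = g * x := Subgroup.mem_centralizer_iff.1 hg x hxH
  by_cases hgA : g ∈ Subgroup.zpowers a
  · exact hZH (hcentral g hgA hgx)
  · have h1 := mul_inv_mem_of_index_two _ hAidx hgA hxA
    have h2 : x * (g * x⁻¹) = (g * x⁻¹) * x := by
      rw [← mul_assoc, hgx]; group
    have h3 := hZH (hcentral _ h1 h2)
    have h4 : g = (g * x⁻¹) * x := by group
    rw [h4]; exact H.mul_mem h3 hxH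

theorem result {G : Type*} [Group G] [Finite G] (hna : ¬ IsMulCommutative G) (n : ℕ) (hG : Nat.card G = 2 ^ n) :
    (∀ H : Subgroup G, ¬ IsCyclic ↥H → Subgroup.centralizer (H : Set G) ≤ H) ↔ (⊤ : Subgroup G).lowerCentralSeries (n - 2) ≠ ⊥ := by
  haveI : Fact (Nat.Prime 2) := ⟨Nat.prime_two⟩
  have hP : IsPGroup 2 G := IsPGroup.of_card hG
  haveI : Group.IsNilpotent G := hP.isNilpotent
  have hn : 3 ≤ n := by
    by_contra hlt
    apply hna
    have hn2 : n ≤ 2 := by omega
    interval_cases n
    · rw [pow_zero] at hG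
      haveI : Subsingleton G := (Nat.card_eq_one_iff_unique.1 hG).1
      exact ⟨⟨fun a b => Subsingleton.elim _ _⟩⟩
    · rw [pow_one] at hG
      haveI : IsCyclic G := isCyclic_of_prime_card hG
      exact IsCyclic.isMulCommutative
    · exact IsPGroup.isMulCommutative_of_card_eq_prime_sq (p := 2) hG
  constructor
  · intro hsc
    have hc := forward hna n hn hG hsc
    intro hbot
    rw [Subgroup.lowerCentralSeries_eq_bot_iff_nilpotencyClass_le] at hbot
    omega
  · intro hl H hH
    have hc : n - 1 ≤ Group.nilpotencyClass G := by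
      by_contra h
      apply hl
      rw [Subgroup.lowerCentralSeries_eq_bot_iff_nilpotencyClass_le]
      omega
    have hL1 : (⊤ : Subgroup G).lowerCentralSeries 1 = commutator G := by
      show (⊤ : Subgroup G).lowerCentralSeries (0 + 1) = commutator G
      rw [Subgroup.lowerCentralSeries_succ, Subgroup.lowerCentralSeries_zero, ← commutator_def]
    have h1 := lcs_card (X := G) (Group.nilpotencyClass G - 1) (by omega)
    have e : Group.nilpotencyClass G - (Group.nilpotencyClass G - 1) = 1 := by omega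
    rw [e, hL1] at h1
    have h2 : 2 ^ (n - 2) ≤ 2 ^ (Group.nilpotencyClass G - 1) :=
      Nat.pow_le_pow_right (by norm_num) (by omega)
    have hncyc := not_isCyclic_abelianization hP (commutator_ne_bot hna)
    have hidx4 := index_eq_four n (by omega) hG (h2.trans h1) hncyc
    exact backward n hn hG hidx4 H hH

end Cfsg.Agent.S3919
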