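import Mathlib
import Cfsg.Statements.S3937
import Cfsg.Agent.Lib_helper20_Zipper

set_option autoImplicit false
open Cfsg
open scoped commutatorElement

namespace Cfsg.Agent.S3937

open Cfsg.Agent.helper7 Cfsg.Agent.helper20

variable {G : Type*} [Group G]

/-- the iterated commutator `[x, g, …, g]` -/
def engel (g : G) : ℕ → G → G
  | 0, x => x
  | n + 1, x => engel g n (x * g * x⁻¹ * g⁻¹)

theorem foldl_eq (g : G) (n : ℕ) (x : G) :
    (List.replicate n g).foldl (fun a b => a * b * a⁻¹ * b⁻¹) x = engel g n x := by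
  induction n generalizing x with
  | zero => rfl
  | succ n ih =>
    rw [List.replicate_succ, List.foldl_cons, ih]
    rfl

theorem engel_succ' (g : G) (n : ℕ) (x : G) :
    engel g (n + 1) x = engel g n x * g * (engel g n x)⁻¹ * g⁻¹ := by
  induction n generalizing x with
  | zero => rfl
  | succ n ih =>
    show engel g (n + 1) (x * g * x⁻¹ * g⁻¹) = _
    rw [ih]
    rfl

theorem engel_conj (k g : G) (n : ℕ) (x : G) :
    engel (k * g * k⁻¹) n (k * x * k⁻¹) = k * engel g n x * k⁻¹ := by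
  induction n generalizing x with
  | zero => rfl
  | succ n ih =>
    show engel (k * g * k⁻¹) n ((k * x * k⁻¹) * (k * g * k⁻¹) * (k * x * k⁻¹)⁻¹ * (k * g * k⁻¹)⁻¹) =
      k * engel g n (x * g * x⁻¹ * g⁻¹) * k⁻¹
    rw [← ih]
    congr 1
    group

theorem engel_mem (K : Subgroup G) (g : G) (hg : g ∈ K) (n : ℕ) (x : G) (hx : x ∈ K) :
    engel g n x ∈ K := by
  induction n generalizing x with
  | zero => exact hx
  | succ n ih =>
    exact ih _ (K.mul_mem (K.mul_mem (K.mul_mem hx hg) (K.inv_mem hx)) (K.inv_mem hg))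

theorem engel_one (g : G) (n : ℕ) : engel g n 1 = 1 := by
  induction n with
  | zero => rfl
  | succ n ih =>
    show engel g n (1 * g * 1⁻¹ * g⁻¹) = 1
    simp [ih]

theorem engel_eq_one_of_le (g x : G) (m n : ℕ) (hmn : m ≤ n) (h : engel g m x = 1) :
    engel g n x = 1 := by
  induction n, hmn using Nat.le_induction with
  | base => exact h
  | succ n _ ih =>
    rw [engel_succ', ih]
    simp

theorem nilpotent_of_comm {H : Type*} [Group H] (h : ∀ a b : H, a * b = b * a) :
    Group.IsNilpotent H := by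
  let _ : CommGroup H := { (inferInstance : Group H) with mul_comm := h }
  exact CommGroup.isNilpotent

theorem main [Finite G] : ∀ (n : ℕ) (K : Subgroup G), Nat.card K = n → ∀ g ∈ K,
    (∀ x ∈ K, ∃ m, engel g m x = 1) → g ∈ fitOf K := by
  intro n
  induction n using Nat.strong_induction_on with
  | _ n IH =>
  intro K hn g hgK hE
  by_contra hnot
  obtain ⟨S, hS⟩ : ∃ S : Subgroup G, S = Subgroup.zpowers g := ⟨_, rfl⟩
  have hgS : g ∈ S := hS ▸ Subgroup.mem_zpowers g
  have hSK : S ≤ K := by rw [hS]; exact Subgroup.zpowers_le.mpr hgK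
  have hSnot : ¬ S ≤ fitOf K := fun h => hnot (h hgS)
  have hSnil : Group.IsNilpotent ↥S := by
    rw [hS]
    apply nilpotent_of_comm
    intro a b
    exact (inferInstance : IsMulCommutative (Subgroup.zpowers g)).is_comm.comm a b
  have hSne : S ≠ K := by
    intro h
    apply hSnot
    rw [← h]
    exact nilpotent_sn_le_fitOf (SN.refl S) hSnil
  -- conjugates of g are Engel
  have hEconj : ∀ k ∈ K, ∀ x ∈ K, ∃ m, engel (k * g * k⁻¹) m x = 1 := by
    intro k hk x hx
    obtain ⟨m, hm⟩ := hE (k⁻¹ * x * k) (K.mul_mem (K.mul_mem (K.inv_mem hk) hx) hk)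
    refine ⟨m, ?_⟩
    have := engel_conj k g m (k⁻¹ * x * k)
    rw [hm] at this
    have e : k * (k⁻¹ * x * k) * k⁻¹ = x := by group
    rw [e] at this
    rw [this]; group
  have hcjS : ∀ k : G, cj k S = Subgroup.zpowers (k * g * k⁻¹) := by
    intro k
    rw [hS]
    show (Subgroup.zpowers g).map (MulAut.conj k).toMonoidHom = _
    rw [MonoidHom.map_zpowers]
    rfl
  have hyp : ∀ H : Subgroup G, H ≤ K → H ≠ K → ∀ k ∈ K, cj k S ≤ H → cj k S ≤ fitOf H := by
    intro H hHK hHne k hk hkS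
    rw [hcjS] at hkS ⊢
    have hgH : k * g * k⁻¹ ∈ H := hkS (Subgroup.mem_zpowers _)
    rw [Subgroup.zpowers_le]
    have hlt : Nat.card H < n := by
      rw [← hn]
      exact card_lt_of_lt' (lt_of_le_of_ne hHK hHne)
    exact IH _ hlt H rfl _ hgH (fun x hx => hEconj k hk x (hHK hx))
  obtain ⟨M, hM, hSM, huniq⟩ := lemmaZ K _ S rfl hSK hSne hyp hSnot
  have hgM : g ∈ M := hSM hgS
  -- M is not normal in K
  have hMnn : ¬ K ≤ Subgroup.normalizer (M : Set G) := by
    intro hKN
    apply hnot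
    have h1 : g ∈ fitOf M := by
      have := hyp M hM.1 hM.2.1 1 (Subgroup.one_mem _) (by rw [cj_one]; exact hSM)
      rw [cj_one] at this
      exact this hgS
    have h2 : SN (fitOf M) K := by
      apply SN.of_normal ((fitOf_le M).trans hM.1)
      exact hKN.trans (normalizer_le_normalizer_fitOf M)
    exact nilpotent_sn_le_fitOf h2 (fitOf_nilpotent M) h1
  have hNM : Subgroup.normalizer (M : Set G) ⊓ K = M := by
    rcases hM.2.2 (Subgroup.normalizer (M : Set G) ⊓ K) (le_inf Subgroup.le_normalizer hM.1)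
      inf_le_right with h | h
    · exact h
    · exfalso
      apply hMnn
      rw [← h]; exact inf_le_left
  -- pick x outside M
  obtain ⟨x, hxK, hxM⟩ := SetLike.not_le_iff_exists.mp (fun h : K ≤ M => hM.2.1 (le_antisymm hM.1 h))
  obtain ⟨m, hm⟩ := hE x hxK
  -- find the last index outside M
  have hex : ∃ j, engel g j x ∈ M := ⟨m, by rw [hm]; exact M.one_mem⟩
  classical
  set j := Nat.find hex with hj
  have hjM : engel g j x ∈ M := Nat.find_spec hex
  have hj0 : j ≠ 0 := by
    intro h0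
    rw [h0] at hjM
    exact hxM hjM
  obtain ⟨i, hi⟩ := Nat.exists_eq_succ_of_ne_zero hj0
  have hiM : engel g i x ∉ M := Nat.find_min hex (by rw [← hj, hi]; exact Nat.lt_succ_self i)
  set y := engel g i x with hy
  have hyK : y ∈ K := engel_mem K g hgK i x hxK
  rw [hi, engel_succ', ← hy] at hjM
  have hconj : y * g * y⁻¹ ∈ M := by
    have : y * g * y⁻¹ = (y * g * y⁻¹ * g⁻¹) * g := by group
    rw [this]
    exact M.mul_mem hjM hgM
  -- g ∈ cj y⁻¹ M
  have hgc : g ∈ cj y⁻¹ M := by
    rw [mem_cj, inv_inv]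
    exact hconj
  have hmax' : MaxIn K (cj y⁻¹ M) := maxIn_cj hM y⁻¹ (K.inv_mem hyK)
  have hSc : S ≤ cj y⁻¹ M := by
    rw [hS, Subgroup.zpowers_le]; exact hgc
  have heq := huniq _ hmax' hSc
  have hyN : y⁻¹ ∈ Subgroup.normalizer (M : Set G) := mem_normalizer_of_cj_eq heq
  have hyN' : y ∈ Subgroup.normalizer (M : Set G) := by
    have := Subgroup.inv_mem _ hyN
    rwa [inv_inv] at this
  apply hiM
  rw [← hNM]
  exact ⟨hyN', hyK⟩

theorem engel_of_mem [Finite G] (g : G) (hg : g ∈ fitOf (⊤ : Subgroup G)) (x : G) :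
    ∃ n, engel g n x = 1 := by
  set F := fitOf (⊤ : Subgroup G) with hF
  have hFnil : Group.IsNilpotent ↥F := fitOf_nilpotent ⊤
  have hFnorm : ∀ k : G, ∀ f ∈ F, k * f * k⁻¹ ∈ F := by
    intro k f hf
    have hk : k ∈ Subgroup.normalizer (F : Set G) := fitOf_normal ⊤ (Subgroup.mem_top k)
    exact (Subgroup.mem_normalizer_iff.mp hk f).mp hf
  obtain ⟨c, hc⟩ := (Subgroup.isNilpotent_iff_lowerCentralSeries F).mp hFnil
  -- y₁ = [x, g] ∈ F
  have hy1 : x * g * x⁻¹ * g⁻¹ ∈ F := F.mul_mem (hFnorm x g hg) (F.inv_mem hg)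
  have key : ∀ (i : ℕ) (y : G), y ∈ F → engel g i y ∈ F.lowerCentralSeries i := by
    intro i
    induction i with
    | zero =>
      intro y hy
      exact hy
    | succ i ih =>
      intro y hy
      rw [engel_succ', Subgroup.lowerCentralSeries_succ]
      have := Subgroup.commutator_mem_commutator (ih y hy) hg
      rwa [commutatorElement_def] at this
  have h1 := key c _ hy1
  rw [hc, Subgroup.mem_bot] at h1
  exact ⟨c + 1, h1⟩

theorem result {G : Type*} [Group G] [Finite G] (g : G) :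
    g ∈ Cfsg.fittingSubgroup G ↔ ∀ x : G, ∃ n : ℕ, (List.replicate n g).foldl (fun a b => a * b * a⁻¹ * b⁻¹) x = 1 := by
  rw [fittingSubgroup_eq]
  constructor
  · intro hg x
    obtain ⟨n, hn⟩ := engel_of_mem g hg x
    exact ⟨n, by rw [foldl_eq]; exact hn⟩
  · intro h
    apply main _ ⊤ rfl g (Subgroup.mem_top g)
    intro x _
    obtain ⟨n, hn⟩ := h x
    exact ⟨n, by rw [← foldl_eq]; exact hn⟩

end Cfsg.Agent.S3937
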