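import Mathlib
import Cfsg.Statements.S3939
import Cfsg.Agent.Lib_helper20_Hyper
import Cfsg.Agent.Lib_helper15_BaerSuzuki
import Cfsg.Agent.Lib_helper10_PGroup
import Cfsg.Agent.S4108

set_option autoImplicit false
open Cfsg
open scoped commutatorElement

namespace Cfsg.Agent.S3939

open Cfsg.Agent.helper20

universe u

theorem nilpotent_of_le {G : Type*} [Group G] (A B : Subgroup G) (hAB : A ≤ B)
    (hB : Group.IsNilpotent ↥B) : Group.IsNilpotent ↥A := by
  have h1 : Group.IsNilpotent ↥(A.subgroupOf B) := inferInstance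
  exact Group.nilpotent_of_mulEquiv (Subgroup.subgroupOfEquivOfLe hAB)

theorem prop_pow {G : Type*} [Group G] (g : G) (k : ℕ)
    (h : ∀ x : G, Group.IsNilpotent ↥(Subgroup.closure ({x, g} : Set G))) :
    ∀ x : G, Group.IsNilpotent ↥(Subgroup.closure ({x, g ^ k} : Set G)) := by
  intro x
  apply nilpotent_of_le _ _ _ (h x)
  rw [Subgroup.closure_le]
  intro w hw
  rcases hw with rfl | hw
  · exact Subgroup.subset_closure (by simp)
  · rw [Set.mem_singleton_iff] at hw
    rw [hw]
    exact Subgroup.pow_mem _ (Subgroup.subset_closure (by simp)) k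

theorem prop_quot {G : Type*} [Group G] (N : Subgroup G) [N.Normal] (g : G)
    (h : ∀ x : G, Group.IsNilpotent ↥(Subgroup.closure ({x, g} : Set G))) :
    ∀ x : G ⧸ N, Group.IsNilpotent ↥(Subgroup.closure ({x, (g : G ⧸ N)} : Set (G ⧸ N))) := by
  intro x
  obtain ⟨x, rfl⟩ := QuotientGroup.mk_surjective x
  have heq : (Subgroup.closure ({x, g} : Set G)).map (QuotientGroup.mk' N) =
      Subgroup.closure ({(x : G ⧸ N), (g : G ⧸ N)} : Set (G ⧸ N)) := by
    rw [MonoidHom.map_closure, Set.image_pair]
    rfl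
  have := h x
  have h1 : Group.IsNilpotent ↥((Subgroup.closure ({x, g} : Set G)).map (QuotientGroup.mk' N)) :=
    Group.nilpotent_of_surjective ((QuotientGroup.mk' N).subgroupMap _)
      ((QuotientGroup.mk' N).subgroupMap_surjective _)
  exact Group.nilpotent_of_mulEquiv (MulEquiv.subgroupCongr heq)

theorem triv_of_center_bot {G : Type*} [Group G] [Finite G] (hZ : Subgroup.center G = ⊥) (q : ℕ)
    [hq : Fact q.Prime] (h : G) (b : ℕ) (hord : orderOf h = q ^ b)
    (hP : ∀ x : G, Group.IsNilpotent ↥(Subgroup.closure ({x, h} : Set G))) : h = 1 := by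
  by_contra hne
  -- Baer-Suzuki
  have hBS : ∀ u : G, IsPGroup q ↥(Subgroup.closure ({h, u * h * u⁻¹} : Set G)) := by
    intro u
    have hK : Group.IsNilpotent ↥(Subgroup.closure ({u, h} : Set G)) := hP u
    have huK : u ∈ Subgroup.closure ({u, h} : Set G) := Subgroup.subset_closure (by simp)
    have hhK : h ∈ Subgroup.closure ({u, h} : Set G) := Subgroup.subset_closure (by simp)
    have hcK : u * h * u⁻¹ ∈ Subgroup.closure ({u, h} : Set G) :=
      Subgroup.mul_mem _ (Subgroup.mul_mem _ huK hhK) (Subgroup.inv_mem _ huK)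
    have ha : orderOf (⟨h, hhK⟩ : ↥(Subgroup.closure ({u, h} : Set G))) = q ^ b := by
      rw [Subgroup.orderOf_mk, hord]
    have hc : orderOf (⟨u * h * u⁻¹, hcK⟩ : ↥(Subgroup.closure ({u, h} : Set G))) = q ^ b := by
      rw [Subgroup.orderOf_mk]
      have := MulEquiv.orderOf_eq (MulAut.conj u) h
      rw [← hord, ← this]; rfl
    obtain ⟨Q⟩ : Nonempty (Sylow q ↥(Subgroup.closure ({u, h} : Set G))) := inferInstance
    have hle := closure_pair_le_sylow q _ _ b b ha hc Q
    have hQm : IsPGroup q ↥((Q : Subgroup ↥(Subgroup.closure ({u, h} : Set G))).map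
        (Subgroup.closure ({u, h} : Set G)).subtype) := Q.isPGroup'.map _
    apply hQm.to_le
    rw [Subgroup.closure_le]
    intro w hw
    rcases hw with rfl | hw
    · exact ⟨⟨_, hhK⟩, hle (Subgroup.subset_closure (by simp)), rfl⟩
    · rw [Set.mem_singleton_iff] at hw
      rw [hw]
      exact ⟨⟨_, hcK⟩, hle (Subgroup.subset_closure (by simp)), rfl⟩
  have hSyl : ∀ P : Sylow q G, h ∈ (P : Subgroup G) :=
    fun P => Cfsg.Agent.helper15.mem_sylow_of_baer_suzuki h hBS P
  -- commutes with q'-elements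
  have hcop : ∀ y : G, (orderOf y).Coprime q → h * y = y * h := by
    intro y hy
    have hK : Group.IsNilpotent ↥(Subgroup.closure ({y, h} : Set G)) := hP y
    have hyK : y ∈ Subgroup.closure ({y, h} : Set G) := Subgroup.subset_closure (by simp)
    have hhK : h ∈ Subgroup.closure ({y, h} : Set G) := Subgroup.subset_closure (by simp)
    have := commute_of_coprime_order q (⟨h, hhK⟩ : ↥(Subgroup.closure ({y, h} : Set G))) ⟨y, hyK⟩ b
      (by rw [Subgroup.orderOf_mk, hord]) (by rw [Subgroup.orderOf_mk]; exact hy)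
    exact congrArg Subtype.val this
  -- the normal subgroup E
  let E : Subgroup G := (⨅ P : Sylow q G, (P : Subgroup G)) ⊓
    Subgroup.centralizer {y : G | (orderOf y).Coprime q}
  have hEdef : ∀ x : G, x ∈ E ↔ (∀ P : Sylow q G, x ∈ (P : Subgroup G)) ∧
      ∀ y : G, (orderOf y).Coprime q → y * x = x * y := by
    intro x
    show x ∈ (⨅ P : Sylow q G, (P : Subgroup G)) ⊓
      Subgroup.centralizer {y : G | (orderOf y).Coprime q} ↔ _
    rw [Subgroup.mem_inf, Subgroup.mem_iInf, Subgroup.mem_centralizer_iff]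
    rfl
  have hhE : h ∈ E := by
    rw [hEdef]
    refine ⟨hSyl, ?_⟩
    intro y hy
    exact (hcop y hy).symm
  have hEn : E.Normal := by
    constructor
    intro x hx u
    rw [hEdef] at hx ⊢
    refine ⟨?_, ?_⟩
    · intro P
      have h1 : x ∈ ((u⁻¹ • P : Sylow q G) : Subgroup G) := hx.1 _
      rw [Sylow.coe_subgroup_smul, Cfsg.Agent.S4108.mem_conj_smul_iff] at h1
      simpa using h1
    · intro y hy
      have hy' : (orderOf (u⁻¹ * y * u)).Coprime q := by
        have := MulEquiv.orderOf_eq (MulAut.conj u⁻¹) y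
        have h2 : orderOf (u⁻¹ * y * u) = orderOf y := by
          rw [← this]; simp
        rw [h2]; exact hy
      have h3 := hx.2 _ hy'
      calc y * (u * x * u⁻¹) = u * ((u⁻¹ * y * u) * x) * u⁻¹ := by group
        _ = u * (x * (u⁻¹ * y * u)) * u⁻¹ := by rw [h3]
        _ = u * x * u⁻¹ * y := by group
  obtain ⟨P⟩ : Nonempty (Sylow q G) := inferInstance
  have hPnil : Group.IsNilpotent ↥(P : Subgroup G) := P.isPGroup'.isNilpotent
  have hDn : (E.subgroupOf (P : Subgroup G)).Normal := inferInstance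
  have hDC : ¬ (E.subgroupOf (P : Subgroup G)) ≤ ⊥ := by
    intro hle
    have : (⟨h, hSyl P⟩ : ↥(P : Subgroup G)) ∈ (⊥ : Subgroup ↥(P : Subgroup G)) :=
      hle (by rw [Subgroup.mem_subgroupOf]; exact hhE)
    rw [Subgroup.mem_bot] at this
    exact hne (congrArg Subtype.val this)
  have hQD : (⊤ : Subgroup ↥(P : Subgroup G)) ≤
      Subgroup.normalizer ((E.subgroupOf (P : Subgroup G) : Subgroup ↥(P : Subgroup G)) : Set ↥(P : Subgroup G)) := by
    intro w _
    rw [Subgroup.mem_normalizer_iff]
    intro n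
    constructor
    · intro hn; exact hDn.conj_mem n hn w
    · intro hn
      have := hDn.conj_mem _ hn w⁻¹
      simpa [mul_assoc] using this
  obtain ⟨x, hxD, hx1, hxc⟩ := Cfsg.Agent.helper10.exists_mem_not_mem_comm_mem
    (E.subgroupOf (P : Subgroup G)) ⊤ ⊥ hQD hDC
  have hzE : (x : G) ∈ E := by rwa [Subgroup.mem_subgroupOf] at hxD
  have hz1 : (x : G) ≠ 1 := by
    intro h1
    apply hx1
    rw [Subgroup.mem_bot]
    exact Subtype.ext h1
  have hzP : ∀ w ∈ (P : Subgroup G), w * (x : G) = (x : G) * w := by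
    intro w hw
    have h1 := hxc ⟨w, hw⟩ (Subgroup.mem_top _)
    rw [Subgroup.mem_bot, commutatorElement_eq_one_iff_commute] at h1
    exact (congrArg Subtype.val h1.eq).symm
  have htop : Subgroup.centralizer ({(x : G)} : Set G) = ⊤ := by
    apply Cfsg.Agent.S3986.eq_top_of_forall_sylow_le
    intro r hr
    by_cases hrq : r = q
    · subst hrq
      refine ⟨P, ?_⟩
      intro w hw
      rw [Subgroup.mem_centralizer_singleton_iff]
      exact hzP w hw
    · obtain ⟨R⟩ : Nonempty (Sylow r G) := inferInstance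
      refine ⟨R, ?_⟩
      intro w hw
      rw [Subgroup.mem_centralizer_singleton_iff]
      obtain ⟨c, hc⟩ := (IsPGroup.iff_orderOf.mp R.isPGroup') ⟨w, hw⟩
      rw [Subgroup.orderOf_mk] at hc
      have hwcop : (orderOf w).Coprime q := by
        rw [hc]
        exact Nat.Coprime.pow_left _ ((Nat.coprime_primes hr.out hq.out).mpr hrq)
      exact ((hEdef _).mp hzE).2 w hwcop
  have hzc : (x : G) ∈ Subgroup.center G := by
    rw [Subgroup.mem_center_iff]
    intro w
    have : w ∈ Subgroup.centralizer ({(x : G)} : Set G) := by rw [htop]; trivial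
    exact Subgroup.mem_centralizer_singleton_iff.mp this
  rw [hZ, Subgroup.mem_bot] at hzc
  exact hz1 hzc

theorem main_aux : ∀ (n : ℕ) (G : Type u) [Group G] [Finite G], Nat.card G = n → ∀ g : G,
    (∀ x : G, Group.IsNilpotent ↥(Subgroup.closure ({x, g} : Set G))) →
    g ∈ ⨆ n : ℕ, Subgroup.upperCentralSeries G n := by
  intro n
  induction n using Nat.strong_induction_on with
  | _ n IH =>
  intro G _ _ hn g hP
  by_cases hZ : Subgroup.center G = ⊥
  · have hg1 : g ∈ (⊥ : Subgroup G) := by
      apply Cfsg.Agent.S3986.mem_of_primePow_powers (⊥ : Subgroup G) (orderOf g) g rfl (orderOf_pos g).ne'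
      intro k hk
      obtain ⟨q, b, hq, hqb⟩ := hk
      have : Fact q.Prime := ⟨hq⟩
      rw [Subgroup.mem_bot]
      exact triv_of_center_bot hZ q (g ^ k) b hqb (prop_pow g k hP)
    rw [Subgroup.mem_bot] at hg1
    rw [hg1]
    exact Subgroup.one_mem _
  · have hlt : Nat.card (G ⧸ Subgroup.center G) < n := by
      rw [← hn, ← Subgroup.index_eq_card]
      have h1 := Subgroup.card_mul_index (Subgroup.center G)
      have h2 : 1 < Nat.card (Subgroup.center G) := by
        rw [Subgroup.one_lt_card_iff_ne_bot]; exact hZ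
      have h3 : 0 < (Subgroup.center G).index := Nat.pos_of_ne_zero Subgroup.index_ne_zero_of_finite
      rw [← h1]
      nlinarith
    have h1 := IH _ hlt (G ⧸ Subgroup.center G) rfl (g : G ⧸ Subgroup.center G)
      (prop_quot (Subgroup.center G) g hP)
    have hdir : Directed (· ≤ ·) (fun n : ℕ => Subgroup.upperCentralSeries (G ⧸ Subgroup.center G) n) :=
      (Subgroup.upperCentralSeries_mono _).directed_le
    obtain ⟨m, hm⟩ := (Subgroup.mem_iSup_of_directed hdir).mp h1
    have h2 : g ∈ Subgroup.comap (QuotientGroup.mk' (Subgroup.center G))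
        (Subgroup.upperCentralSeries (G ⧸ Subgroup.center G) m) := hm
    rw [Subgroup.comap_upperCentralSeries_quotient_center] at h2
    exact Subgroup.mem_iSup_of_mem (m + 1) h2

theorem result {G : Type*} [Group G] [Finite G] (g : G) :
    (∀ x : G, Group.IsNilpotent ↥(Subgroup.closure ({x, g} : Set G))) ↔ g ∈ ⨆ n : ℕ, Subgroup.upperCentralSeries G n := by
  constructor
  · intro h
    exact main_aux (Nat.card G) G rfl g h
  · intro h x
    have hdir : Directed (· ≤ ·) (fun n : ℕ => Subgroup.upperCentralSeries G n) :=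
      (Subgroup.upperCentralSeries_mono _).directed_le
    obtain ⟨m, hm⟩ := (Subgroup.mem_iSup_of_directed hdir).mp h
    exact isNilpotent_closure_pair_of_mem_upperCentralSeries x g m hm

end Cfsg.Agent.S3939
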