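import Mathlib
import Cfsg.Statements.S3941
import Cfsg.Agent.S3986

set_option autoImplicit false
open Cfsg

namespace Cfsg.Agent.S3941

open Equiv

theorem sign_via {m k : ℕ} (ι : Fin m ↪ Fin k) (e : Perm (Fin m)) :
    Perm.sign (Perm.viaEmbeddingHom ι e) = Perm.sign e := by
  simp [Perm.viaEmbeddingHom, Perm.extendDomainHom]

/-- the embedding of `A_m` into `A_{m+1}` -/
noncomputable def emb (m : ℕ) : alternatingGroup (Fin m) →* alternatingGroup (Fin (m + 1)) :=
  ((Perm.viaEmbeddingHom (Fin.castSuccEmb : Fin m ↪ Fin (m + 1))).comp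
    (alternatingGroup (Fin m)).subtype).codRestrict (alternatingGroup (Fin (m + 1))) (fun e => by
      rw [Perm.mem_alternatingGroup]
      show Perm.sign (Perm.viaEmbeddingHom _ (e : Perm (Fin m))) = 1
      rw [sign_via]
      exact Perm.mem_alternatingGroup.mp e.2)

theorem emb_injective (m : ℕ) : Function.Injective (emb m) := by
  unfold emb
  rw [MonoidHom.injective_codRestrict]
  exact (Perm.viaEmbeddingHom_injective _).comp Subtype.val_injective

def c1 : alternatingGroup (Fin 4) := ⟨c[0, 1, 2], Perm.mem_alternatingGroup.2 (by decide)⟩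
def c2 : alternatingGroup (Fin 4) := ⟨c[0, 1, 3], Perm.mem_alternatingGroup.2 (by decide)⟩

theorem c1_order : orderOf c1 = 3 := by
  apply orderOf_eq_prime
  · apply Subtype.ext; decide
  · intro h; have := congrArg Subtype.val h; revert this; decide

theorem c2_order : orderOf c2 = 3 := by
  apply orderOf_eq_prime
  · apply Subtype.ext; decide
  · intro h; have := congrArg Subtype.val h; revert this; decide

theorem c12_order : orderOf (c1 * c2) = 2 := by
  apply orderOf_eq_prime
  · apply Subtype.ext; decide
  · intro h; have := congrArg Subtype.val h; revert this; decide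

theorem result (n p : ℕ) (hn : 5 ≤ n) [Fact p.Prime] (hp : p ≠ 2) (hpn : p ≤ n)
    (h : ∀ H : Subgroup ↥(alternatingGroup (Fin n)), H ≠ ⊤ → p ∣ Nat.card ↥H → Cfsg.IsPClosed p ↥H) : n = p := by
  have hpp : p.Prime := Fact.out
  by_contra hne
  have hlt : p < n := lt_of_le_of_ne hpn (Ne.symm hne)
  obtain ⟨m, rfl⟩ : ∃ m, n = m + 1 := ⟨n - 1, by omega⟩
  have hpm : p ≤ m := by omega
  have hm4 : 4 ≤ m := by omega
  have hntm : Nontrivial (Fin m) := Fin.nontrivial_iff_two_le.mpr (by omega)
  have hntm1 : Nontrivial (Fin (m + 1)) := Fin.nontrivial_iff_two_le.mpr (by omega)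
  set φ := emb m with hφ
  have hφinj := emb_injective m
  set H := φ.range with hH
  let e : alternatingGroup (Fin m) ≃* H := MonoidHom.ofInjective hφinj
  have hcardH : Nat.card H = Nat.card (alternatingGroup (Fin m)) := Nat.card_congr e.symm.toEquiv
  have h2m : 2 * Nat.card (alternatingGroup (Fin m)) = m.factorial := by
    rw [two_mul_nat_card_alternatingGroup, Nat.card_perm, Nat.card_eq_fintype_card, Fintype.card_fin]
  have h2m1 : 2 * Nat.card (alternatingGroup (Fin (m + 1))) = (m + 1).factorial := by
    rw [two_mul_nat_card_alternatingGroup, Nat.card_perm, Nat.card_eq_fintype_card, Fintype.card_fin]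
  have hHtop : H ≠ ⊤ := by
    intro htop
    have h1 : Nat.card H = Nat.card (alternatingGroup (Fin (m + 1))) := by
      rw [htop]; exact Subgroup.card_top
    rw [hcardH] at h1
    have h3 : m.factorial < (m + 1).factorial := by
      rw [Nat.factorial_succ]
      have : 0 < m.factorial := Nat.factorial_pos m
      nlinarith
    omega
  have hpH : p ∣ Nat.card H := by
    rw [hcardH]
    have h1 : p ∣ 2 * Nat.card (alternatingGroup (Fin m)) := by
      rw [h2m]; exact (Nat.Prime.dvd_factorial hpp).mpr hpm
    have hcop : Nat.Coprime p 2 := (Nat.coprime_primes hpp Nat.prime_two).mpr hp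
    exact hcop.dvd_of_dvd_mul_left h1
  have hclosed := h H hHtop hpH
  obtain ⟨P⟩ : Nonempty (Sylow p H) := inferInstance
  have hPn : (P : Subgroup H).Normal := hclosed P
  have hPcard : p ∣ Nat.card (P : Subgroup H) := by
    rw [P.card_eq_multiplicity]
    have hpos : 0 < (Nat.card H).factorization p :=
      Nat.Prime.factorization_pos_of_dvd hpp Nat.card_pos.ne' hpH
    exact dvd_pow_self p hpos.ne'
  rcases Nat.lt_or_ge m 5 with hm5 | hm5
  · -- m = 4, p = 3
    have hm : m = 4 := by omega
    subst hm
    have hp3 : p = 3 := by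
      have h1 : p ≤ 4 := hpm
      have h2 : 2 ≤ p := hpp.two_le
      interval_cases p
      · exact absurd rfl hp
      · rfl
      · exact absurd hpp (by decide)
    subst hp3
    have ho1 : orderOf (e c1) = 3 ^ 1 := by rw [MulEquiv.orderOf_eq, c1_order, pow_one]
    have ho2 : orderOf (e c2) = 3 ^ 1 := by rw [MulEquiv.orderOf_eq, c2_order, pow_one]
    have hm1 := Cfsg.Agent.S3986.mem_normal_sylow 3 P hPn (e c1) 1 ho1
    have hm2 := Cfsg.Agent.S3986.mem_normal_sylow 3 P hPn (e c2) 1 ho2
    have hm12 : e (c1 * c2) ∈ (P : Subgroup H) := by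
      rw [map_mul]; exact Subgroup.mul_mem _ hm1 hm2
    obtain ⟨k, hk⟩ := (IsPGroup.iff_orderOf.mp P.isPGroup') ⟨e (c1 * c2), hm12⟩
    rw [Subgroup.orderOf_mk, MulEquiv.orderOf_eq, c12_order] at hk
    have h3 : 3 ∣ 2 := by
      rcases Nat.eq_zero_or_pos k with h0 | h0
      · rw [h0, pow_zero] at hk; omega
      · rw [hk]; exact dvd_pow_self 3 h0.ne'
    omega
  · -- m ≥ 5: simple
    have hsimple : IsSimpleGroup (alternatingGroup (Fin m)) :=
      alternatingGroup.isSimpleGroup (by rw [Nat.card_eq_fintype_card, Fintype.card_fin]; exact hm5)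
    have hHsimple : IsSimpleGroup H := by
      have hnt : Nontrivial H := by
        rw [← Finite.one_lt_card_iff_nontrivial]
        exact lt_of_lt_of_le hpp.one_lt (Nat.le_of_dvd Nat.card_pos hpH)
      exact e.symm.isSimpleGroup
    rcases hPn.eq_bot_or_eq_top with hbot | htop
    · rw [hbot, Subgroup.card_bot] at hPcard
      exact hpp.one_lt.ne' (Nat.dvd_one.mp hPcard)
    · have h1 : Nat.card (P : Subgroup H) = Nat.card H := by rw [htop]; exact Subgroup.card_top
      obtain ⟨k, hk⟩ := IsPGroup.iff_card.mp P.isPGroup'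
      rw [h1, hcardH] at hk
      have h4 : 4 ∣ m.factorial := by
        have : (4 : ℕ) ∣ Nat.factorial 4 := by decide
        exact this.trans (Nat.factorial_dvd_factorial hm4)
      have h2 : 2 ∣ Nat.card (alternatingGroup (Fin m)) := by
        rw [← h2m] at h4
        omega
      rw [hk] at h2
      have := (Nat.Prime.dvd_of_dvd_pow Nat.prime_two h2)
      have := (Nat.prime_dvd_prime_iff_eq Nat.prime_two hpp).mp this
      exact hp this.symm

end Cfsg.Agent.S3941
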