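import Mathlib
import Cfsg.Statements.S3947
import Cfsg.Agent.Lib_helper9_WZc

set_option autoImplicit false
open Cfsg

namespace Cfsg.Agent.S3947

/-- Let G be a finite group and A a proper subgroup of G whose normal closure is G. Let Y be the join of all proper subgroups H of G that contain A and are generated by their own conjugates of A (the normal closure of A in H is H). Then either Y = G, or A is contained in exactly one maximal subgroup of G. -/
theorem result {G : Type*} [Group G] [Finite G] (A : Subgroup G) (hA : Subgroup.normalClosure (A : Set G) = ⊤) (hAG : A ≠ ⊤) :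
    sSup {H : Subgroup G | A ≤ H ∧ H ≠ ⊤ ∧ Subgroup.normalClosure ((A.subgroupOf H : Subgroup ↥H) : Set ↥H) = ⊤} = ⊤ ∨
      ∃! M : Subgroup G, IsCoatom M ∧ A ≤ M := by
  by_cases hY : Cfsg.Agent.helper9.WZ.YY A = ⊤
  · left
    rw [eq_top_iff]
    refine le_trans hY.ge ?_
    apply sSup_le_sSup
    rintro H ⟨h1, h2, h3⟩
    exact ⟨h1, h2, Cfsg.Agent.helper9.WZ.normalClosure_subgroupOf_eq_top h1 h3⟩
  · right
    have hncl : ∀ N : Subgroup G, A ≤ N →
        (⊤ : Subgroup G) ≤ Subgroup.normalizer (N : Set G) → N = ⊤ := by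
      intro N hAN hn
      have : N.Normal := Subgroup.normalizer_eq_top_iff.mp (top_le_iff.mp hn)
      rw [eq_top_iff, ← hA]
      exact Subgroup.normalClosure_le_normal hAN
    obtain ⟨M, hM, hU⟩ := Cfsg.Agent.helper9.WZ.main_aux _ A rfl hncl hAG hY
    have hAM : A ≤ M := hU A le_rfl hAG
    have hco : IsCoatom M := by
      refine ⟨hM, fun b hb => ?_⟩
      by_contra hbt
      exact absurd (hU b (hAM.trans hb.le) hbt) (not_le_of_gt hb)
    refine ⟨M, ⟨hco, hAM⟩, ?_⟩
    rintro M' ⟨hco', hAM'⟩
    have hle : M' ≤ M := hU M' hAM' hco'.1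
    by_contra hne
    exact hM (hco'.2 M (lt_of_le_of_ne hle hne))

end Cfsg.Agent.S3947
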