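import Mathlib
import Cfsg.Statements.S3949

set_option autoImplicit false
open Cfsg

namespace Cfsg.Agent.S3949

/-- Let G be a finite group and α an automorphism of G of order 2 such that the elements g·α(g)⁻¹ generate G. Let j be a positive integer such that 2^j divides the order of no element inverted by α. Then the set of values of the j-th iterate of the map c ↦ c·α(c)⁻¹ is exactly the set of elements of odd order inverted by α. -/
theorem result {G : Type*} [Group G] [Finite G] (α : MulAut G) (hα : orderOf α = 2) (hG : Subgroup.closure (Set.range (fun c : G => c * (α c)⁻¹)) = ⊤)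
    (j : ℕ) (hj : ∀ g : G, α g = g⁻¹ → ¬ 2 ^ j ∣ orderOf g) :
    Set.range ((fun c : G => c * (α c)⁻¹)^[j]) = {g : G | Odd (orderOf g) ∧ α g = g⁻¹} := by
  set f : G → G := fun c => c * (α c)⁻¹ with hf
  have hαα : ∀ c, α (α c) = c := by
    intro c
    have h1 : α ^ 2 = 1 := by rw [← hα]; exact pow_orderOf_eq_one α
    have h2 : (α ^ 2) c = c := by rw [h1]; rfl
    simpa [pow_two] using h2
  have hinv : ∀ c, α (f c) = (f c)⁻¹ := by
    intro c
    simp only [hf, map_mul, map_inv, hαα, mul_inv_rev, inv_inv]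
  have hsq : ∀ g, α g = g⁻¹ → f g = g ^ 2 := by
    intro g hg
    simp only [hf, hg, inv_inv, pow_two]
  have hpowinv : ∀ g, α g = g⁻¹ → ∀ n : ℕ, α (g ^ n) = (g ^ n)⁻¹ := by
    intro g hg n
    rw [map_pow, hg, inv_pow]
  have hiter : ∀ g, α g = g⁻¹ → ∀ n : ℕ, f^[n] g = g ^ (2 ^ n) := by
    intro g hg n
    induction n with
    | zero => simp
    | succ n ih =>
      rw [Function.iterate_succ_apply', ih, hsq _ (hpowinv g hg _), ← pow_mul, pow_succ]
  have hj0 : j ≠ 0 := by
    rintro rfl
    exact hj 1 (by simp) (by simp)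
  obtain ⟨n, rfl⟩ := Nat.exists_eq_succ_of_ne_zero hj0
  ext x
  constructor
  · rintro ⟨c, rfl⟩
    rw [Function.iterate_succ_apply]
    have hd := hinv c
    set d := f c with hd'
    rw [hiter d hd n]
    refine ⟨?_, hpowinv d hd _⟩
    have ho : orderOf d ≠ 0 := (orderOf_pos d).ne'
    obtain ⟨v, m, hm, hvm⟩ := Nat.exists_eq_two_pow_mul_odd ho
    have hv : v ≤ n := by
      by_contra hlt0
      have hlt : n < v := not_le.mp hlt0
      apply hj d hd
      rw [hvm]
      exact Dvd.dvd.mul_right (pow_dvd_pow 2 hlt) m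
    have h1 : (d ^ 2 ^ n) ^ m = 1 := by
      rw [← pow_mul]
      apply orderOf_dvd_iff_pow_eq_one.mp
      rw [hvm]
      exact Nat.mul_dvd_mul_right (pow_dvd_pow 2 hv) m
    exact Odd.of_dvd_nat hm (orderOf_dvd_of_pow_eq_one h1)
  · rintro ⟨hodd, hg⟩
    have hcop : Nat.Coprime (2 ^ (n+1)) (orderOf x) := by
      apply Nat.Coprime.pow_left
      exact Nat.coprime_two_left.mpr hodd
    obtain ⟨k, hk⟩ := exists_pow_eq_self_of_coprime hcop
    refine ⟨x ^ k, ?_⟩
    rw [hiter _ (hpowinv x hg k), ← pow_mul, mul_comm, pow_mul, hk]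

end Cfsg.Agent.S3949
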