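import Mathlib
import Cfsg.Statements.S3951
import Cfsg.Agent.Lib_helper20_Stem

set_option autoImplicit false
open Cfsg
open scoped commutatorElement

namespace Cfsg.Agent.S3951

open Cfsg.Agent.helper20

/-- A Heisenberg-type central extension of `ZMod m × ZMod n` by `ZMod n`. -/
@[ext] structure Heis (m n : ℕ) (h : n ∣ m) : Type where
  x : ZMod m
  y : ZMod n
  z : ZMod n

namespace Heis

variable {m n : ℕ} {h : n ∣ m}

noncomputable instance : Mul (Heis m n h) :=
  ⟨fun a b => ⟨a.x + b.x, a.y + b.y, a.z + b.z + ZMod.castHom h (ZMod n) a.x * b.y⟩⟩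
noncomputable instance : One (Heis m n h) := ⟨⟨0, 0, 0⟩⟩
noncomputable instance : Inv (Heis m n h) :=
  ⟨fun a => ⟨-a.x, -a.y, -a.z + ZMod.castHom h (ZMod n) a.x * a.y⟩⟩

@[simp] theorem mul_x (a b : Heis m n h) : (a * b).x = a.x + b.x := rfl
@[simp] theorem mul_y (a b : Heis m n h) : (a * b).y = a.y + b.y := rfl
@[simp] theorem mul_z (a b : Heis m n h) :
    (a * b).z = a.z + b.z + ZMod.castHom h (ZMod n) a.x * b.y := rfl
@[simp] theorem one_x : (1 : Heis m n h).x = 0 := rfl
@[simp] theorem one_y : (1 : Heis m n h).y = 0 := rfl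
@[simp] theorem one_z : (1 : Heis m n h).z = 0 := rfl
@[simp] theorem inv_x (a : Heis m n h) : (a⁻¹).x = -a.x := rfl
@[simp] theorem inv_y (a : Heis m n h) : (a⁻¹).y = -a.y := rfl
@[simp] theorem inv_z (a : Heis m n h) :
    (a⁻¹).z = -a.z + ZMod.castHom h (ZMod n) a.x * a.y := rfl

noncomputable instance : Group (Heis m n h) :=
  Group.ofLeftAxioms
    (by intro a b c; ext <;> simp [map_add] <;> ring)
    (by intro a; ext <;> simp)
    (by intro a; ext <;> simp [map_neg])

instance [NeZero m] [NeZero n] : Finite (Heis m n h) :=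
  Finite.of_injective (fun a : Heis m n h => (a.x, a.y, a.z)) (by
    intro a b hab
    simp only [Prod.mk.injEq] at hab
    exact Heis.ext hab.1 hab.2.1 hab.2.2)

/-- the projection -/
noncomputable def proj (m n : ℕ) (h : n ∣ m) : Heis m n h →* Multiplicative (ZMod m × ZMod n) :=
  MonoidHom.mk' (fun a => Multiplicative.ofAdd (a.x, a.y)) (by intro a b; rfl)

theorem mem_ker_proj (a : Heis m n h) : a ∈ (proj m n h).ker ↔ a.x = 0 ∧ a.y = 0 := by
  rw [MonoidHom.mem_ker]
  show Multiplicative.ofAdd (a.x, a.y) = 1 ↔ _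
  rw [← ofAdd_zero, Multiplicative.ofAdd.injective.eq_iff, Prod.mk_eq_zero]

end Heis

/-- the homomorphism from `ZMod n` (multiplicative) sending the generator to an element of order
dividing `n` -/
noncomputable def ofPowOne {K : Type*} [Group K] (n : ℕ) [NeZero n] (u : K) (hu : u ^ n = 1) :
    Multiplicative (ZMod n) →* K :=
  MonoidHom.mk' (fun x => u ^ (Multiplicative.toAdd x).val) (by
    intro a b
    rw [toAdd_mul, ZMod.val_add, ← pow_eq_pow_mod _ hu, pow_add])

theorem prod_gen (m n : ℕ) :
    Subgroup.closure ({Multiplicative.ofAdd ((1 : ZMod m), (0 : ZMod n)),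
      Multiplicative.ofAdd ((0 : ZMod m), (1 : ZMod n))} : Set (Multiplicative (ZMod m × ZMod n))) = ⊤ := by
  rw [eq_top_iff]
  intro x _
  obtain ⟨i, hi⟩ := ZMod.intCast_surjective (Multiplicative.toAdd x).1
  obtain ⟨j, hj⟩ := ZMod.intCast_surjective (Multiplicative.toAdd x).2
  have : x = (Multiplicative.ofAdd ((1 : ZMod m), (0 : ZMod n))) ^ i *
      (Multiplicative.ofAdd ((0 : ZMod m), (1 : ZMod n))) ^ j := by
    rw [← ofAdd_zsmul, ← ofAdd_zsmul, ← ofAdd_add]
    apply Multiplicative.toAdd.injective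
    rw [toAdd_ofAdd]
    ext
    · simp [hi]
    · simp [hj]
  rw [this]
  exact Subgroup.mul_mem _ (Subgroup.zpow_mem _ (Subgroup.subset_closure (by simp)) _)
    (Subgroup.zpow_mem _ (Subgroup.subset_closure (by simp)) _)

/-- For positive integers `m` and `n` with `n` dividing `m`, the Schur multiplier of the abelian group `ZMod m × ZMod n` (written multiplicatively) is cyclic of order `n`. In particular the elementary abelian group of order `p ^ 2` has multiplier of order `p`. -/
theorem result (m n : ℕ) [NeZero m] [NeZero n] (hnm : n ∣ m) : Cfsg.HasCyclicSchurMultiplier (Multiplicative (ZMod m × ZMod n)) n := by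
  constructor
  · refine ⟨Heis m n hnm, inferInstance, inferInstance, Heis.proj m n hnm, ⟨?_, ?_, ?_⟩, ?_⟩
    · intro y
      exact ⟨⟨(Multiplicative.toAdd y).1, (Multiplicative.toAdd y).2, 0⟩, rfl⟩
    · intro a ha
      rw [Heis.mem_ker_proj] at ha
      rw [Subgroup.mem_center_iff]
      intro b
      ext <;> simp [ha.1, ha.2] <;> ring
    · intro a ha
      rw [Heis.mem_ker_proj] at ha
      have : a = ⁅(⟨1, 0, 0⟩ : Heis m n hnm), ⟨0, a.z, 0⟩⁆ := by
        rw [commutatorElement_def]
        ext <;> simp [ha.1, ha.2, ZMod.cast_one hnm]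
      rw [this]
      exact Subgroup.commutator_mem_commutator (Subgroup.mem_top _) (Subgroup.mem_top _)
    · refine ⟨{ toFun := fun a => Multiplicative.ofAdd a.1.z
                invFun := fun k => ⟨⟨0, 0, Multiplicative.toAdd k⟩, by rw [Heis.mem_ker_proj]; exact ⟨rfl, rfl⟩⟩
                left_inv := ?_
                right_inv := ?_
                map_mul' := ?_ }⟩
      · rintro ⟨a, ha⟩
        rw [Heis.mem_ker_proj] at ha
        apply Subtype.ext
        ext
        · exact ha.1.symm
        · exact ha.2.symm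
        · rfl
      · intro k; rfl
      · rintro ⟨a, ha⟩ ⟨b, hb⟩
        rw [Heis.mem_ker_proj] at ha hb
        show Multiplicative.ofAdd (a * b).z = Multiplicative.ofAdd a.z * Multiplicative.ofAdd b.z
        rw [← ofAdd_add]
        simp [ha.1]
  · intro Γ _ _ σ hσ
    obtain ⟨α, hα⟩ := hσ.1 (Multiplicative.ofAdd ((1 : ZMod m), (0 : ZMod n)))
    obtain ⟨β, hβ⟩ := hσ.1 (Multiplicative.ofAdd ((0 : ZMod m), (1 : ZMod n)))
    set c := α * β * α⁻¹ * β⁻¹ with hc
    have hcker : c ∈ σ.ker := by
      rw [MonoidHom.mem_ker, hc, map_mul, map_mul, map_mul, map_inv, map_inv]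
      rw [mul_comm (σ α) (σ β)]
      group
    have hcc : ∀ g : Γ, g * c = c * g := Subgroup.mem_center_iff.mp (hσ.2.1 hcker)
    have hN : (Subgroup.zpowers c).Normal := by
      constructor
      intro x hx g
      obtain ⟨k, rfl⟩ := Subgroup.mem_zpowers_iff.mp hx
      have : g * c ^ k * g⁻¹ = c ^ k := by
        rw [← conj_zpow]
        have : g * c * g⁻¹ = c := by rw [hcc g]; group
        rw [this]
      rw [this]
      exact Subgroup.zpow_mem_zpowers c k
    have hSgen : Subgroup.closure (σ '' ({α, β} : Set Γ)) = ⊤ := by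
      rw [Set.image_pair, hα, hβ]; exact prod_gen m n
    have hcomm : commutator Γ ≤ Subgroup.zpowers c := by
      apply commutator_le_of_lifts σ hσ.2.1 ({α, β} : Set Γ) hSgen
      intro a ha b hb
      rcases ha with ha | ha <;> rcases hb with hb | hb
      · rw [ha, hb]
        have : α * α * α⁻¹ * α⁻¹ = 1 := by group
        rw [this]; exact Subgroup.one_mem _
      · have hb : b = β := hb
        rw [ha, hb]
        exact Subgroup.mem_zpowers c
      · have ha : a = β := ha
        rw [ha, hb]
        have : β * α * β⁻¹ * α⁻¹ = c⁻¹ := by rw [hc]; group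
        rw [this]; exact Subgroup.inv_mem _ (Subgroup.mem_zpowers c)
      · have ha : a = β := ha
        have hb : b = β := hb
        rw [ha, hb]
        have : β * β * β⁻¹ * β⁻¹ = 1 := by group
        rw [this]; exact Subgroup.one_mem _
    -- c ^ n = 1
    have hβn : β ^ n ∈ σ.ker := by
      rw [MonoidHom.mem_ker, map_pow, hβ, ← ofAdd_nsmul, ← ofAdd_zero]
      congr 1
      ext
      · simp
      · simp
    have hcn : c ^ n = 1 := by
      have h1 : α * β * α⁻¹ = c * β := by rw [hc]; group
      have h2 : α * β ^ n * α⁻¹ = β ^ n := by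
        have := Subgroup.mem_center_iff.mp (hσ.2.1 hβn) α
        rw [this]; group
      have h3 : (α * β * α⁻¹) ^ n = β ^ n := by rw [conj_pow, h2]
      rw [h1, (show Commute c β from (hcc β).symm).mul_pow] at h3
      exact mul_eq_right.mp h3
    let u : σ.ker := ⟨c, hcker⟩
    have hu : u ^ n = 1 := Subtype.ext hcn
    refine ⟨ofPowOne n u hu, ?_⟩
    rintro ⟨w, hw⟩
    have hwc : w ∈ Subgroup.zpowers c := hcomm (hσ.2.2 hw)
    obtain ⟨k, hk⟩ := Subgroup.mem_zpowers_iff.mp hwc
    refine ⟨Multiplicative.ofAdd (k : ZMod n), ?_⟩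
    apply Subtype.ext
    show ((u ^ ((k : ZMod n)).val : σ.ker) : Γ) = w
    rw [Subgroup.coe_pow, ← hk]
    show c ^ ((k : ZMod n)).val = c ^ k
    rw [← zpow_natCast, ZMod.val_intCast]
    conv_rhs => rw [← Int.emod_add_mul_ediv k n]
    rw [zpow_add, zpow_mul, zpow_natCast, hcn, one_zpow, mul_one]

end Cfsg.Agent.S3951
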