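import Mathlib
import Cfsg.Statements.S3950
import Cfsg.Agent.S3951
import Cfsg.Agent.S3979

set_option autoImplicit false
open Cfsg
open scoped commutatorElement

namespace Cfsg.Agent.S3950

open Cfsg.Agent.S3951

universe u

/-- a non-cyclic finite abelian group maps onto `ZMod p × ZMod p` for some prime `p` -/
theorem exists_surj_of_not_cyclic {G : Type u} [CommGroup G] [Finite G] (hG : ¬ IsCyclic G) :
    ∃ (p : ℕ) (_ : p.Prime) (φ : G →* Multiplicative (ZMod p × ZMod p)), Function.Surjective φ := by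
  classical
  obtain ⟨ι, _, n, hn, ⟨e⟩⟩ := CommGroup.equiv_prod_multiplicative_zmod_of_finite G
  by_cases h : ∃ i j : ι, i ≠ j ∧ ¬ Nat.Coprime (n i) (n j)
  · obtain ⟨i, j, hij, hnc⟩ := h
    obtain ⟨p, hp, hpi, hpj⟩ := Nat.Prime.not_coprime_iff_dvd.mp hnc
    have : NeZero (n i) := ⟨by have := hn i; omega⟩
    have : NeZero (n j) := ⟨by have := hn j; omega⟩
    have : NeZero p := ⟨hp.ne_zero⟩
    refine ⟨p, hp, ?_, ?_⟩
    · exact
        { toFun := fun g => Multiplicative.ofAdd
            (ZMod.castHom hpi (ZMod p) (Multiplicative.toAdd (e g i)),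
             ZMod.castHom hpj (ZMod p) (Multiplicative.toAdd (e g j)))
          map_one' := by simp
          map_mul' := by
            intro a b
            simp only [map_mul, Pi.mul_apply, toAdd_mul, map_add]
            rfl }
    · intro y
      obtain ⟨a, ha⟩ := ZMod.castHom_surjective hpi (Multiplicative.toAdd y).1
      obtain ⟨b, hb⟩ := ZMod.castHom_surjective hpj (Multiplicative.toAdd y).2
      let f : (k : ι) → Multiplicative (ZMod (n k)) :=
        Function.update (Function.update 1 i (Multiplicative.ofAdd a)) j (Multiplicative.ofAdd b)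
      refine ⟨e.symm f, ?_⟩
      show Multiplicative.ofAdd
            (ZMod.castHom hpi (ZMod p) (Multiplicative.toAdd (e (e.symm f) i)),
             ZMod.castHom hpj (ZMod p) (Multiplicative.toAdd (e (e.symm f) j))) = y
      rw [MulEquiv.apply_symm_apply]
      have hfi : f i = Multiplicative.ofAdd a := by
        simp only [f]
        rw [Function.update_of_ne hij, Function.update_self]
      have hfj : f j = Multiplicative.ofAdd b := by
        simp only [f]
        rw [Function.update_self]
      rw [hfi, hfj, toAdd_ofAdd, toAdd_ofAdd, ha, hb]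
      rfl
  · exfalso
    apply hG
    push Not at h
    have hcop : Pairwise (Function.onFun Nat.Coprime n) := by
      intro i j hij
      exact h i j hij
    have hpos : ∀ i, NeZero (n i) := fun i => ⟨by have := hn i; omega⟩
    have : NeZero (∏ i, n i) := ⟨Finset.prod_ne_zero_iff.mpr (fun i _ => (hpos i).out)⟩
    let e2 : Multiplicative (ZMod (∏ i, n i)) ≃* G :=
      ((AddEquiv.toMultiplicative (ZMod.prodEquivPi n hcop).toAddEquiv).trans
        (MulEquiv.piMultiplicative (fun i => ZMod (n i)))).trans e.symm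
    exact isCyclic_of_surjective e2 e2.surjective

theorem heis_central {p : ℕ} (a b : Heis p p (dvd_refl p)) (hx : a.x = 0) (hy : a.y = 0) :
    a * b = b * a := by
  ext <;> simp [hx, hy]
  ring

theorem result {G : Type*} [CommGroup G] [Finite G] : Cfsg.HasCyclicSchurMultiplier G 1 ↔ IsCyclic G := by
  constructor
  · intro hM
    by_contra hG
    obtain ⟨p, hp, φ, hφ⟩ := exists_surj_of_not_cyclic hG
    have : NeZero p := ⟨hp.ne_zero⟩
    have : Fact (1 < p) := ⟨hp.one_lt⟩
    -- the pullback
    let Γ : Subgroup (G × Heis p p (dvd_refl p)) :=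
      (φ.comp (MonoidHom.fst G (Heis p p (dvd_refl p)))).eqLocus
        ((Heis.proj p p (dvd_refl p)).comp (MonoidHom.snd G (Heis p p (dvd_refl p))))
    have hmemΓ : ∀ x : G × Heis p p (dvd_refl p), x ∈ Γ ↔ φ x.1 = Heis.proj p p (dvd_refl p) x.2 := by
      intro x; rfl
    let σ : ↥Γ →* G := (MonoidHom.fst G (Heis p p (dvd_refl p))).comp Γ.subtype
    have hprojsurj : Function.Surjective (Heis.proj p p (dvd_refl p)) := by
      intro y
      exact ⟨⟨(Multiplicative.toAdd y).1, (Multiplicative.toAdd y).2, 0⟩, rfl⟩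
    have hker : ∀ x : ↥Γ, x ∈ σ.ker ↔ (x : G × Heis p p (dvd_refl p)).1 = 1 := by
      intro x; rw [MonoidHom.mem_ker]; rfl
    have hstem : Cfsg.IsStemExtension σ := by
      refine ⟨?_, ?_, ?_⟩
      · intro g
        obtain ⟨h, hh⟩ := hprojsurj (φ g)
        exact ⟨⟨(g, h), (hmemΓ _).mpr hh.symm⟩, rfl⟩
      · intro x hx
        rw [hker] at hx
        have hx2 : x.1.2 ∈ (Heis.proj p p (dvd_refl p)).ker := by
          rw [MonoidHom.mem_ker, ← (hmemΓ x.1).mp x.2, hx, map_one]
        rw [Heis.mem_ker_proj] at hx2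
        rw [Subgroup.mem_center_iff]
        intro y
        apply Subtype.ext
        apply Prod.ext
        · exact mul_comm _ _
        · exact (heis_central x.1.2 y.1.2 hx2.1 hx2.2).symm
      · intro x hx
        rw [hker] at hx
        have hx2 : x.1.2 ∈ (Heis.proj p p (dvd_refl p)).ker := by
          rw [MonoidHom.mem_ker, ← (hmemΓ x.1).mp x.2, hx, map_one]
        rw [Heis.mem_ker_proj] at hx2
        obtain ⟨g1, hg1⟩ := hφ (Heis.proj p p (dvd_refl p) ⟨1, 0, 0⟩)
        obtain ⟨g2, hg2⟩ := hφ (Heis.proj p p (dvd_refl p) ⟨0, x.1.2.z, 0⟩)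
        let x1 : ↥Γ := ⟨(g1, ⟨1, 0, 0⟩), (hmemΓ _).mpr hg1⟩
        let x2 : ↥Γ := ⟨(g2, ⟨0, x.1.2.z, 0⟩), (hmemΓ _).mpr hg2⟩
        have hxeq : x = ⁅x1, x2⁆ := by
          apply Subtype.ext
          apply Prod.ext
          · rw [hx]
            show (1 : G) = ⁅g1, g2⁆
            rw [commutatorElement_def]
            rw [mul_comm g1 g2]; group
          · show x.1.2 = ⁅(⟨1, 0, 0⟩ : Heis p p (dvd_refl p)), ⟨0, x.1.2.z, 0⟩⁆
            rw [commutatorElement_def]
            ext <;> simp [hx2.1, hx2.2]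
        rw [hxeq]
        exact Subgroup.commutator_mem_commutator (Subgroup.mem_top _) (Subgroup.mem_top _)
    obtain ⟨π, hπ⟩ := hM.2 ↥Γ σ hstem
    -- a nontrivial element of the kernel
    have hz : ((1 : G), (⟨0, 0, 1⟩ : Heis p p (dvd_refl p))) ∈ Γ := by
      rw [hmemΓ]
      rw [map_one]
      rfl
    have hzker : (⟨_, hz⟩ : ↥Γ) ∈ σ.ker := by rw [hker]
    obtain ⟨t, ht⟩ := hπ ⟨⟨_, hz⟩, hzker⟩
    have ht1 : t = 1 := Subsingleton.elim _ _
    rw [ht1, map_one] at ht
    have h1 := congrArg (fun w : σ.ker => ((w : ↥Γ) : G × Heis p p (dvd_refl p)).2.z) ht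
    simp only [Subgroup.coe_one, Prod.snd_one, Heis.one_z] at h1
    exact zero_ne_one h1
  · intro h
    exact Cfsg.Agent.S3979.result

end Cfsg.Agent.S3950
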