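import Mathlib
import Cfsg.Statements.S3952
import Cfsg.Agent.Lib_helper24_CharCount
import Cfsg.Agent.Lib_helper23_Schur

set_option autoImplicit false
set_option linter.style.haveILetI false
open Cfsg
open scoped ComplexConjugate

namespace Cfsg.Agent.S3952

open Cfsg.Agent.helper24 Cfsg.Agent.helper23

/-- sum over a finite group of a function vanishing off a subgroup. -/
theorem sum_eq_sum_subgroup {Γ : Type*} [Group Γ] [Fintype Γ] (K : Subgroup Γ)
    [DecidablePred (· ∈ K)] [Fintype K] (F : Γ → ℂ) (hF : ∀ g, g ∉ K → F g = 0) :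
    ∑ g : Γ, F g = ∑ z : K, F z := by
  rw [← Finset.sum_filter_of_ne (p := (· ∈ K)) (fun x _ hx => by
    by_contra h
    exact hx (hF x h))]
  exact Finset.sum_subtype _ (by simp) _

/-- The contribution of one irreducible character. -/
theorem term_eq {Γ : Type*} [Group Γ] [Fintype Γ] (K : Subgroup Γ)
    (hKc : K ≤ Subgroup.center Γ) (hKd : K ≤ commutator Γ) (lam : K →* ℂˣ) (e : ℕ)
    (he : ∀ n : ℕ, (∀ z : K, (lam z) ^ n = 1) → e ∣ n)
    (θ : Γ → ℂ) (hθ1 : ∀ z : K, θ z = ((lam z : ℂˣ) : ℂ)) (hθ0 : ∀ g, g ∉ K → θ g = 0)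
    (χ : Γ → ℂ) (hχ : IsIrrCharacter Γ χ) :
    ∃ m : ℕ, classInner θ χ * χ 1 =
      ((e ^ 2 * m : ℕ) : ℂ) * (Nat.card K : ℂ) / (Nat.card Γ : ℂ) := by
  classical
  haveI : Fintype K := Fintype.ofFinite K
  obtain ⟨n, ρ, hirr, hchar⟩ := hχ
  have hn : 0 < n := pos_of_irreducible ρ hirr
  have hn0 : (n : ℂ) ≠ 0 := by exact_mod_cast hn.ne'
  have hex : ∀ z : K, ∃ c : ℂ, ρ (z : Γ) = c • LinearMap.id := fun z =>
    exists_scalar_of_commute ρ hirr z (fun g => Subgroup.mem_center_iff.mp (hKc z.2) g)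
  choose c hc using hex
  have hcmul : ∀ a b : K, c (a * b) = c a * c b := by
    intro a b
    have h1 := scalar_mul ρ (hc a) (hc b)
    have h2 := hc (a * b)
    rw [Subgroup.coe_mul, h1] at h2
    exact (smul_id_injective hn h2).symm
  have hc1 : c 1 = 1 := by
    have h1 := hc 1
    rw [Subgroup.coe_one, scalar_one ρ] at h1
    exact (smul_id_injective hn h1).symm
  have hχz : ∀ z : K, χ z = c z * n := fun z => by rw [← hchar]; exact char_of_scalar ρ (hc z)
  have hχ1 : χ 1 = n := by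
    have := hχz 1
    rw [Subgroup.coe_one, hc1, one_mul] at this
    exact this
  have hisc : IsCharacter Γ χ := ⟨n, ρ, hchar⟩
  have hconj : ∀ z : K, conj (c z) = c z⁻¹ := by
    intro z
    have h1 := char_inv hisc (z : Γ)
    have h2 := hχz z⁻¹
    rw [Subgroup.coe_inv] at h2
    rw [h2, hχz z, map_mul, Complex.conj_natCast] at h1
    exact (mul_right_cancel₀ hn0 h1).symm
  have hcinv : ∀ z : K, c z⁻¹ * c z = 1 := by
    intro z
    rw [← hcmul, inv_mul_cancel, hc1]
  -- η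
  let η : K → ℂ := fun z => ((lam z : ℂˣ) : ℂ) * c z⁻¹
  have hηmul : ∀ a b, η (a * b) = η a * η b := by
    intro a b
    simp only [η]
    rw [map_mul, Units.val_mul, mul_inv_rev, hcmul, mul_comm (c b⁻¹) (c a⁻¹)]
    ring
  have hinner : classInner θ χ = (Nat.card Γ : ℂ)⁻¹ * ((n : ℂ) * ∑ z : K, η z) := by
    unfold classInner
    congr 1
    rw [sum_eq_sum_subgroup K (fun g => θ g * conj (χ g)) (fun g hg => by
      simp only [hθ0 g hg, zero_mul]), Finset.mul_sum]
    apply Finset.sum_congr rfl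
    intro z _
    simp only [η]
    rw [hθ1, hχz, map_mul, Complex.conj_natCast, hconj]
    ring
  by_cases hη : ∀ z, η z = 1
  · -- character over lam
    have hcl : ∀ z : K, c z = ((lam z : ℂˣ) : ℂ) := by
      intro z
      have h1 := hη z
      simp only [η] at h1
      have h2 := hcinv z
      calc c z = (((lam z : ℂˣ) : ℂ) * c z⁻¹) * c z := by rw [h1, one_mul]
        _ = ((lam z : ℂˣ) : ℂ) * (c z⁻¹ * c z) := by ring
        _ = ((lam z : ℂˣ) : ℂ) := by rw [h2, mul_one]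
    -- determinant
    have hdet : ∀ z : K, (lam z) ^ n = 1 := by
      intro z
      let d : Γ →* ℂˣ := (LinearMap.det.comp ρ).toHomUnits
      have h1 : d (z : Γ) = 1 := Abelianization.commutator_subset_ker d (hKd z.2)
      have h2 : ((d (z : Γ) : ℂˣ) : ℂ) = LinearMap.det (ρ (z : Γ)) := rfl
      rw [h1, hc z, LinearMap.det_smul, Module.finrank_fin_fun] at h2
      have h3 : LinearMap.det (LinearMap.id : (Fin n → ℂ) →ₗ[ℂ] (Fin n → ℂ)) = 1 :=
        LinearMap.det_id
      rw [h3, mul_one, hcl z] at h2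
      apply Units.ext
      rw [Units.val_pow_eq_pow_val]
      exact h2.symm
    obtain ⟨k, hk⟩ := he n hdet
    refine ⟨k ^ 2, ?_⟩
    rw [hinner, hχ1, Finset.sum_congr rfl (fun z _ => hη z)]
    simp only [Finset.sum_const, Finset.card_univ, nsmul_eq_mul, mul_one]
    rw [← Nat.card_eq_fintype_card, hk]
    push_cast
    ring
  · -- orthogonal
    obtain ⟨z₀, hz₀⟩ := not_forall.mp hη
    have hsum := sum_eq_zero_of_mul_of_ne_one η hηmul z₀ hz₀
    refine ⟨0, ?_⟩
    rw [hinner, hsum]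
    simp

theorem result {Q : Type*} [Group Q] [Finite Q] {A : Type*} [CommGroup A] (hA : Cfsg.HasSchurMultiplier Q A) : Monoid.exponent A ^ 2 ∣ Nat.card Q := by
  classical
  obtain ⟨Γ, _, _, σ, ⟨hs, hc, hd⟩, ⟨eA⟩⟩ := hA.1
  haveI : Finite A := Finite.of_equiv _ eA.toEquiv
  haveI : NeZero (Monoid.exponent A) := ⟨Monoid.exponent_ne_zero_of_finite⟩
  obtain ⟨φ⟩ := CommGroup.monoidHom_mulEquiv_of_hasEnoughRootsOfUnity A ℂ
  haveI : Finite (A →* ℂˣ) := Finite.of_equiv _ φ.symm.toEquiv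
  obtain ⟨lam0, hlam0⟩ := Monoid.exists_orderOf_eq_exponent
    (Monoid.ExponentExists.of_finite (G := A →* ℂˣ))
  rw [Monoid.exponent_eq_of_mulEquiv φ] at hlam0
  set e := Monoid.exponent A with he_def
  haveI : Fintype Γ := Fintype.ofFinite Γ
  haveI : Fintype (IrrCharacter Γ) := Fintype.ofFinite _
  set K : Subgroup Γ := σ.ker with hK
  let lam : K →* ℂˣ := lam0.comp eA.toMonoidHom
  have he : ∀ n : ℕ, (∀ z : K, (lam z) ^ n = 1) → e ∣ n := by
    intro n hn
    rw [← hlam0]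
    apply orderOf_dvd_of_pow_eq_one
    apply MonoidHom.ext
    intro a
    have := hn (eA.symm a)
    simp only [lam, MonoidHom.comp_apply, MulEquiv.coe_toMonoidHom, MulEquiv.apply_symm_apply]
      at this
    rw [MonoidHom.pow_apply, this]; rfl
  let θ : Γ → ℂ := fun g => if h : g ∈ K then ((lam ⟨g, h⟩ : ℂˣ) : ℂ) else 0
  have hθ1 : ∀ z : K, θ z = ((lam z : ℂˣ) : ℂ) := by
    intro z
    simp only [θ, dif_pos z.2]
  have hθ0 : ∀ g, g ∉ K → θ g = 0 := by
    intro g hg
    simp only [θ, dif_neg hg]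
  have hθcf : IsClassFunction Γ θ := by
    intro g x
    by_cases hg : g ∈ K
    · have h1 : x * g * x⁻¹ = g := by
        have := Subgroup.mem_center_iff.mp (hc hg) x
        rw [this, mul_inv_cancel_right]
      rw [h1]
    · have h1 : x * g * x⁻¹ ∉ K := by
        intro h
        apply hg
        have h2 : (MonoidHom.ker σ).Normal := inferInstance
        have := h2.conj_mem _ h x⁻¹
        have h3 : x⁻¹ * (x * g * x⁻¹) * x⁻¹⁻¹ = g := by group
        rw [h3] at this
        exact this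
      rw [hθ0 g hg, hθ0 _ h1]
  have hexp := classFunction_expansion hθcf
  have h1 := congrFun hexp 1
  rw [Finset.sum_apply] at h1
  have hθone : θ 1 = 1 := by
    have := hθ1 1
    rw [Subgroup.coe_one, map_one, Units.val_one] at this
    exact this
  have hterm : ∀ χ : IrrCharacter Γ, ∃ m : ℕ, classInner θ (χ : Γ → ℂ) * (χ : Γ → ℂ) 1 =
      ((e ^ 2 * m : ℕ) : ℂ) * (Nat.card K : ℂ) / (Nat.card Γ : ℂ) :=
    fun χ => term_eq K hc hd lam e he θ hθ1 hθ0 χ χ.2
  choose m hm using hterm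
  have h2 : (1 : ℂ) = ∑ χ : IrrCharacter Γ,
      ((e ^ 2 * m χ : ℕ) : ℂ) * (Nat.card K : ℂ) / (Nat.card Γ : ℂ) := by
    rw [← hθone, h1]
    apply Finset.sum_congr rfl
    intro χ _
    rw [← hm χ]; rfl
  have hΓ0 : (Nat.card Γ : ℂ) ≠ 0 := by exact_mod_cast Nat.card_pos.ne'
  have h3 : (Nat.card Γ : ℂ) = ((e ^ 2 * (∑ χ : IrrCharacter Γ, m χ) * Nat.card K : ℕ) : ℂ) := by
    have h4 : (1 : ℂ) * (Nat.card Γ : ℂ) = (∑ χ : IrrCharacter Γ,
      ((e ^ 2 * m χ : ℕ) : ℂ) * (Nat.card K : ℂ) / (Nat.card Γ : ℂ)) * (Nat.card Γ : ℂ) := by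
      rw [← h2]
    rw [one_mul, Finset.sum_mul] at h4
    rw [h4]
    push_cast
    rw [Finset.mul_sum, Finset.sum_mul]
    apply Finset.sum_congr rfl
    intro χ _
    field_simp
  have h5 : Nat.card Γ = e ^ 2 * (∑ χ : IrrCharacter Γ, m χ) * Nat.card K := by
    exact_mod_cast h3
  have h6 : Nat.card Γ = Nat.card K * Nat.card Q := by
    rw [← Subgroup.card_mul_index K, hK, Subgroup.index_ker,
      MonoidHom.range_eq_top.mpr hs]
    congr 1
    exact Nat.card_congr Subgroup.topEquiv.toEquiv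
  have hK0 : 0 < Nat.card K := Nat.card_pos
  have h7 : Nat.card Q = e ^ 2 * (∑ χ : IrrCharacter Γ, m χ) := by
    have : Nat.card K * Nat.card Q = Nat.card K * (e ^ 2 * (∑ χ : IrrCharacter Γ, m χ)) := by
      rw [← h6, h5]; ring
    exact Nat.eq_of_mul_eq_mul_left hK0 this
  exact ⟨_, h7⟩

end Cfsg.Agent.S3952
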