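import Mathlib
import Cfsg.Statements.S3953
import Cfsg.Agent.Lib_helper20_SchurSyl2

set_option autoImplicit false
set_option linter.style.haveILetI false
open Cfsg

namespace Cfsg.Agent.S3953

open Cfsg.Agent.helper20.Schur

/-- Let `P` be a Sylow `p`-subgroup of the finite group `G`, let `A` be the Schur multiplier of `G` and `B` that of `P`. Then the `p`-primary component of `A` is isomorphic to a direct factor of `B`: there are subgroups `C` and `D` of `B` meeting trivially and generating `B`, with `C` isomorphic to the `p`-primary component of `A`. -/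
theorem result {G : Type*} [Group G] [Finite G] (p : ℕ) [Fact p.Prime] (P : Sylow p G) {A B : Type*} [CommGroup A] [CommGroup B] (hA : Cfsg.HasSchurMultiplier G A) (hB : Cfsg.HasSchurMultiplier P B) : ∃ C D : Subgroup B, C ⊓ D = ⊥ ∧ C ⊔ D = ⊤ ∧ Nonempty (CommGroup.primaryComponent A p ≃* C) := by
  obtain ⟨eA⟩ := (hasSchurMultiplier_iff (canPi G) (canPi_surjective G)).mp hA
  haveI hfS : IsFreeGroup ↥(SS (P : Subgroup G)) := subgroupIsFreeOfIsFree _
  let e : ↥(SS (P : Subgroup G)) ≃* FreeGroup (IsFreeGroup.Generators ↥(SS (P : Subgroup G))) :=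
    IsFreeGroup.toFreeGroup ↥(SS (P : Subgroup G))
  haveI hfgF : Group.FG (FreeGroup G) := inferInstance
  haveI hfgS : Group.FG ↥(SS (P : Subgroup G)) :=
    Subgroup.fg_of_index_ne_zero (SS (P : Subgroup G))
  haveI hfb : Finite (IsFreeGroup.Generators ↥(SS (P : Subgroup G))) :=
    finite_of_fg_freeGroup (Group.fg_of_surjective (f := e.toMonoidHom) e.surjective)
  obtain ⟨eB⟩ := (hasSchurMultiplier_iff (piP (P : Subgroup G) e)
    (piP_surjective (P : Subgroup G) e)).mp hB
  haveI := finite_MM (canPi G)
  haveI : Finite A := Finite.of_injective eA eA.injective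
  let i : A →* B := eB.symm.toMonoidHom.comp ((trHom (P : Subgroup G) e).comp eA.toMonoidHom)
  let r : B →* A := eA.symm.toMonoidHom.comp ((corHom (P : Subgroup G) e).comp eB.toMonoidHom)
  have hri : ∀ a, r (i a) = a ^ (P : Subgroup G).index := by
    intro a
    show eA.symm (corHom (P : Subgroup G) e (eB (eB.symm (trHom (P : Subgroup G) e (eA a))))) = _
    rw [MulEquiv.apply_symm_apply, cor_tr, map_pow, MulEquiv.symm_apply_apply]
  exact exists_direct_factor p (P : Subgroup G).index P.not_dvd_index i r hri

end Cfsg.Agent.S3953
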