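import Mathlib
import Cfsg.Statements.S3955
import Cfsg.Agent.Lib_helper20_Schur3
import Cfsg.Agent.Lib_helper20_ProjRep1

set_option autoImplicit false
set_option linter.style.haveILetI false
open Cfsg

namespace Cfsg.Agent.S3955

open Cfsg.Agent.helper20.Schur Cfsg.Agent.helper20.PR

theorem result {Q : Type*} [Group Q] [Finite Q] {A : Type*} [CommGroup A] (hA : Cfsg.HasSchurMultiplier Q A) {Γ : Type*} [Group Γ] [Finite Γ] (σ : Γ →* Q) (hσ : Cfsg.IsStemExtension σ) (hk : Nonempty (σ.ker ≃* A)) (n : ℕ) (γ : Q →* (GL (Fin n) ℂ ⧸ Subgroup.center (GL (Fin n) ℂ))) : ∃ ρ : Γ →* GL (Fin n) ℂ, (QuotientGroup.mk' (Subgroup.center (GL (Fin n) ℂ))).comp ρ = γ.comp σ := by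
  obtain ⟨hs, hc, hd⟩ := hσ
  obtain ⟨ek⟩ := hk
  set π := canPi Q with hπdef
  have hπ : Function.Surjective π := canPi_surjective Q
  obtain ⟨eA⟩ := (hasSchurMultiplier_iff π hπ).mp hA
  haveI := finite_MM π
  obtain ⟨f, hf⟩ := exists_lift π σ hs hc
  have hf' : ∀ x, σ (f x) = eps π x := fun x => by rw [← hf]; rfl
  have hfs : Function.Surjective f := surjective_of_stem π σ f hπ hc hd hf
  have hker : σ.ker = (MM π).map f := ker_eq_map_of_stem π σ f hπ hc hd hf
  have hcard : Nat.card (MM π) = Nat.card ((MM π).map f) := by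
    rw [← Nat.card_congr eA.toEquiv, ← Nat.card_congr ek.toEquiv,
      Nat.card_congr (MulEquiv.subgroupCongr hker).toEquiv]
  have hgs : Function.Surjective (f.subgroupMap (MM π)) := f.subgroupMap_surjective _
  have hgb : Function.Bijective (f.subgroupMap (MM π)) :=
    hgs.bijective_of_nat_card_le (le_of_eq hcard)
  have hC1 : f.ker ≤ (eps π).ker := by
    intro x hx
    rw [MonoidHom.mem_ker, ← hf', MonoidHom.mem_ker.mp hx, map_one]
  have hC2 : f.ker ⊓ commutator (EE π) = ⊥ := by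
    rw [eq_bot_iff]
    intro x hx
    obtain ⟨hx1, hx2⟩ := Subgroup.mem_inf.mp hx
    have hxM : x ∈ MM π := Subgroup.mem_inf.mpr ⟨hC1 hx1, hx2⟩
    have h1 : f.subgroupMap (MM π) ⟨x, hxM⟩ = f.subgroupMap (MM π) 1 := by
      apply Subtype.ext
      rw [map_one]
      exact MonoidHom.mem_ker.mp hx1
    have h2 := hgb.1 h1
    rw [Subgroup.mem_bot]
    exact congrArg Subtype.val h2
  obtain ⟨θ, hθ1, hθ2⟩ := exists_lift_GL_ker π f.ker hC1 hC2 n γ
  refine ⟨f.liftOfSurjective hfs ⟨θ, hθ2⟩, ?_⟩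
  apply MonoidHom.ext
  intro y
  obtain ⟨x, rfl⟩ := hfs y
  rw [MonoidHom.comp_apply, MonoidHom.comp_apply, MonoidHom.liftOfRightInverse_comp_apply,
    hf']
  exact hθ1 x

end Cfsg.Agent.S3955
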