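import Mathlib
import Cfsg.Statements.S3956
import Cfsg.Agent.Lib_helper20_ProjRep2

set_option autoImplicit false
set_option linter.style.haveILetI false
open Cfsg

namespace Cfsg.Agent.S3956

open Cfsg.Agent.helper20.Schur Cfsg.Agent.helper20.PR

universe u v

theorem result {Q : Type u} [Group Q] [Finite Q] {Γ : Type v} [Group Γ] [Finite Γ] (σ : Γ →* Q) (hσ : Cfsg.IsStemExtension σ) (hlift : ∀ (n : ℕ) (γ : Q →* (GL (Fin n) ℂ ⧸ Subgroup.center (GL (Fin n) ℂ))), ∃ ρ : Γ →* GL (Fin n) ℂ, (QuotientGroup.mk' (Subgroup.center (GL (Fin n) ℂ))).comp ρ = γ.comp σ) (Δ : Type u) [Group Δ] [Finite Δ] (τ : Δ →* Q) (hτ : Cfsg.IsStemExtension τ) : ∃ π : σ.ker →* τ.ker, Function.Surjective π := by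
  obtain ⟨hs, hc, hd⟩ := hσ
  obtain ⟨hts, htc, htd⟩ := hτ
  have hπ : Function.Surjective (canPi Q) := canPi_surjective Q
  obtain ⟨f, hf⟩ := exists_lift (canPi Q) σ hs hc
  obtain ⟨g, hg⟩ := exists_lift (canPi Q) τ hts htc
  have h1 := MM_inf_ker_eq_bot σ hlift (canPi Q) hπ f hf
  have hkσ : σ.ker = (MM (canPi Q)).map f := ker_eq_map_of_stem _ σ f hπ hc hd hf
  have hkτ : τ.ker = (MM (canPi Q)).map g := ker_eq_map_of_stem _ τ g hπ htc htd hg
  let fM : MM (canPi Q) →* σ.ker :=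
    (MulEquiv.subgroupCongr hkσ.symm).toMonoidHom.comp (f.subgroupMap (MM (canPi Q)))
  let gM : MM (canPi Q) →* τ.ker :=
    (MulEquiv.subgroupCongr hkτ.symm).toMonoidHom.comp (g.subgroupMap (MM (canPi Q)))
  have hfMs : Function.Surjective fM := by
    show Function.Surjective ((MulEquiv.subgroupCongr hkσ.symm) ∘ (f.subgroupMap (MM (canPi Q))))
    exact (MulEquiv.subgroupCongr hkσ.symm).surjective.comp (f.subgroupMap_surjective _)
  have hgMs : Function.Surjective gM := by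
    show Function.Surjective ((MulEquiv.subgroupCongr hkτ.symm) ∘ (g.subgroupMap (MM (canPi Q))))
    exact (MulEquiv.subgroupCongr hkτ.symm).surjective.comp (g.subgroupMap_surjective _)
  have hfMi : Function.Injective fM := by
    rw [injective_iff_map_eq_one]
    intro m hm
    have h2 : f (m : EE (canPi Q)) = 1 := congrArg Subtype.val hm
    have h3 : (m : EE (canPi Q)) ∈ MM (canPi Q) ⊓ f.ker :=
      Subgroup.mem_inf.mpr ⟨m.2, MonoidHom.mem_ker.mpr h2⟩
    rw [h1, Subgroup.mem_bot] at h3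
    exact Subtype.ext h3
  let e : MM (canPi Q) ≃* σ.ker := MulEquiv.ofBijective fM ⟨hfMi, hfMs⟩
  exact ⟨gM.comp e.symm.toMonoidHom, hgMs.comp e.symm.surjective⟩

end Cfsg.Agent.S3956
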