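import Mathlib
import Cfsg.Statements.S3957
import Cfsg.Agent.Lib_helper20_Schur5

set_option autoImplicit false
set_option linter.style.haveILetI false
universe u v
open Cfsg

namespace Cfsg.Agent.S3957

open Cfsg.Agent.helper20.Schur
open scoped commutatorElement

/-- Let `Q` be a finite group with Schur multiplier `A` and let `τ : Δ →* Q` be a finite stem extension, `Δ` in the universe of `Q`. Then there is a finite stem extension `σ : Γ →* Q` with kernel isomorphic to `A` (a Schur covering group) and a surjective homomorphism `β : Γ →* Δ` with `τ ∘ β = σ`. -/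
theorem result {Q : Type u} [Group Q] [Finite Q] {A : Type v} [CommGroup A] (hA : Cfsg.HasSchurMultiplier Q A) {Δ : Type u} [Group Δ] [Finite Δ] (τ : Δ →* Q) (hτ : Cfsg.IsStemExtension τ) : ∃ (Γ : Type u) (_ : Group Γ) (_ : Finite Γ) (σ : Γ →* Q), Cfsg.IsStemExtension σ ∧ Nonempty (σ.ker ≃* A) ∧ ∃ β : Γ →* Δ, Function.Surjective β ∧ τ.comp β = σ := by
  have hπ := canPi_surjective Q
  obtain ⟨eA⟩ := (hasSchurMultiplier_iff (canPi Q) hπ).mp hA
  obtain ⟨f, hf⟩ := exists_lift (canPi Q) τ hτ.1 hτ.2.1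
  have hf' : ∀ e, τ (f e) = eps (canPi Q) e := fun e => DFunLike.congr_fun hf e
  have hfs := surjective_of_stem (canPi Q) τ f hπ hτ.2.1 hτ.2.2 hf
  have hker := ker_eq_map_of_stem (canPi Q) τ f hπ hτ.2.1 hτ.2.2 hf
  haveI : f.ker.FiniteIndex := Subgroup.finiteIndex_ker _
  haveI : (eps (canPi Q)).ker.FiniteIndex := Subgroup.finiteIndex_ker _
  haveI : (f.ker ⊓ (eps (canPi Q)).ker).FiniteIndex := inferInstance
  obtain ⟨S, hS0, hS2, hS3⟩ := exists_compl_in (canPi Q) (f.ker ⊓ (eps (canPi Q)).ker)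
    inf_le_right (by
      intro x hx
      have h1 : f x ∈ τ.ker := by
        rw [MonoidHom.mem_ker, hf']; exact hx
      rw [hker] at h1
      obtain ⟨m, hm, hmx⟩ := h1
      have hm' : m ∈ (eps (canPi Q)).ker := (inf_le_left : MM (canPi Q) ≤ _) hm
      refine ⟨x * m⁻¹, Subgroup.mem_inf.mpr ⟨?_, ?_⟩, m, hm, by group⟩
      · rw [MonoidHom.mem_ker, map_mul, map_inv, hmx, mul_inv_cancel]
      · exact Subgroup.mul_mem _ hx (Subgroup.inv_mem _ hm'))
  have hSk : S ≤ (eps (canPi Q)).ker := hS0.trans inf_le_right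
  have hSf : S ≤ f.ker := hS0.trans inf_le_left
  haveI := normal_of_le_ker (canPi Q) S hSk
  obtain ⟨e⟩ := ker_covHom_equiv (canPi Q) S hSk hS2 hS3
  refine ⟨EE (canPi Q) ⧸ S, inferInstance, finite_cover (canPi Q) S hSk hS2 hS3,
    covHom (canPi Q) S hSk, covHom_stem (canPi Q) S hπ hSk hS3, ⟨e.symm.trans eA.symm⟩,
    QuotientGroup.lift S f hSf, ?_, ?_⟩
  · intro d
    obtain ⟨x, rfl⟩ := hfs d
    exact ⟨QuotientGroup.mk x, rfl⟩
  · apply MonoidHom.ext
    intro y
    obtain ⟨x, rfl⟩ := QuotientGroup.mk_surjective y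
    exact hf' x

end Cfsg.Agent.S3957
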