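import Mathlib
import Cfsg.Statements.S3960
import Cfsg.Agent.Lib_helper20_Schur4

set_option autoImplicit false
set_option linter.style.haveILetI false
universe u
open Cfsg

namespace Cfsg.Agent.S3960

open Cfsg.Agent.helper20.Schur

/-- A finite perfect group `Q` has a universal central extension: a finite perfect group `G` in the universe of `Q` and a surjective homomorphism `π : G →* Q` with central kernel such that for every group `X` in that universe and every surjective homomorphism `ξ : X →* Q` with central kernel there is exactly one homomorphism `η : G →* X` with `ξ ∘ η = π`. -/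
theorem result {Q : Type u} [Group Q] [Finite Q] (hQ : Group.IsPerfect Q) : ∃ (G : Type u) (_ : Group G) (_ : Finite G) (π : G →* Q), Group.IsPerfect G ∧ Function.Surjective π ∧ π.ker ≤ Subgroup.center G ∧ ∀ (X : Type u) [Group X] (ξ : X →* Q), Function.Surjective ξ → ξ.ker ≤ Subgroup.center X → ∃! η : G →* X, ξ.comp η = π := by
  have hπ := canPi_surjective Q
  haveI : (eps (canPi Q)).ker.FiniteIndex := Subgroup.finiteIndex_ker _
  haveI : (Subgroup.center (EE (canPi Q))).FiniteIndex :=
    Subgroup.finiteIndex_of_le (ker_eps_le_center (canPi Q))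
  have hfin : Finite (commutator (EE (canPi Q))) :=
    finite_commutator_of_finiteIndex_center (G := EE (canPi Q))
  have hperf : Group.IsPerfect (commutator (EE (canPi Q))) :=
    isPerfect_commutator_EE (canPi Q) hπ
  refine ⟨commutator (EE (canPi Q)), inferInstance, hfin,
    (eps (canPi Q)).comp (commutator (EE (canPi Q))).subtype, hperf, ?_, ?_, ?_⟩
  · intro q
    obtain ⟨c, hc, hcq⟩ := exists_commutator_eps (canPi Q) hπ q
    exact ⟨⟨c, hc⟩, hcq⟩
  · intro g hg
    rw [Subgroup.mem_center_iff]
    intro h
    have h1 : (g : EE (canPi Q)) ∈ (eps (canPi Q)).ker := by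
      rw [MonoidHom.mem_ker] at hg ⊢
      exact hg
    have h2 := Subgroup.mem_center_iff.mp (ker_eps_le_center (canPi Q) h1) (h : EE (canPi Q))
    exact Subtype.ext h2
  · intro X _ ξ hξ hξc
    obtain ⟨f, hf⟩ := exists_lift (canPi Q) ξ hξ hξc
    refine ⟨f.comp (commutator (EE (canPi Q))).subtype, ?_, ?_⟩
    · show ξ.comp (f.comp _) = _
      rw [← MonoidHom.comp_assoc, hf]
    · intro η hη
      haveI := hperf
      apply hom_eq_of_perfect
      intro g
      apply hξc
      rw [MonoidHom.mem_ker, map_mul, map_inv]
      have h1 : ξ (η g) = (eps (canPi Q)) (g : EE (canPi Q)) := by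
        have := DFunLike.congr_fun hη g
        simpa using this
      have h2 : ξ ((f.comp (commutator (EE (canPi Q))).subtype) g) =
          (eps (canPi Q)) (g : EE (canPi Q)) := by
        have := DFunLike.congr_fun hf (g : EE (canPi Q))
        simpa using this
      rw [h1, h2, mul_inv_cancel]

end Cfsg.Agent.S3960
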