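import Mathlib
import Cfsg.Statements.S3961
import Cfsg.Agent.Lib_helper20_Schur4

set_option autoImplicit false
set_option linter.style.haveILetI false
universe u v
open Cfsg

namespace Cfsg.Agent.S3961

open Cfsg.Agent.helper20.Schur
open scoped commutatorElement

/-- a stem extension of a perfect group is perfect. -/
theorem perfect_of_stem {Γ G : Type*} [Group Γ] [Group G] [hG : Group.IsPerfect G]
    (σ : Γ →* G) (hσ : Cfsg.IsStemExtension σ) : Group.IsPerfect Γ := by
  constructor
  rw [eq_top_iff]
  intro γ _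
  have h1 : (commutator Γ).map σ = commutator G := by
    rw [commutator_def, commutator_def, Subgroup.map_commutator, ← MonoidHom.range_eq_map,
      MonoidHom.range_eq_top.mpr hσ.1]
  have h2 : σ γ ∈ (commutator Γ).map σ := by
    rw [h1, hG.commutator_eq_top]; exact Subgroup.mem_top _
  obtain ⟨c, hc, hcγ⟩ := h2
  have h3 : c⁻¹ * γ ∈ σ.ker := by
    rw [MonoidHom.mem_ker, map_mul, map_inv, hcγ, inv_mul_cancel]
  have h4 := Subgroup.mul_mem _ hc (hσ.2.2 h3)
  simpa using h4

/-- if `Γ` is perfect and `σ k` is central modulo a central kernel, then `k` is central. -/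
theorem central_of_central_image {Γ G : Type*} [Group Γ] [Group G] [hΓ : Group.IsPerfect Γ]
    (σ : Γ →* G) (hσc : σ.ker ≤ Subgroup.center Γ) (k : Γ) (hk : σ k ∈ Subgroup.center G) :
    k ∈ Subgroup.center Γ := by
  have hcomm : ∀ g : Γ, ⁅k, g⁆ ∈ Subgroup.center Γ := by
    intro g
    apply hσc
    rw [MonoidHom.mem_ker, map_commutatorElement, commutatorElement_def,
      ← Subgroup.mem_center_iff.mp hk (σ g)]
    group
  let d : Γ →* Γ :=
    { toFun := fun g => ⁅k, g⁆
      map_one' := by simp
      map_mul' := fun a b => by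
        have hb := Subgroup.mem_center_iff.mp (hcomm b)
        calc ⁅k, a * b⁆ = k * a * k⁻¹ * (k * b * k⁻¹ * b⁻¹) * a⁻¹ := by
              rw [commutatorElement_def]; group
          _ = k * a * k⁻¹ * (⁅k, b⁆ * a⁻¹) := by rw [commutatorElement_def]; group
          _ = k * a * k⁻¹ * (a⁻¹ * ⁅k, b⁆) := by rw [hb a⁻¹]
          _ = ⁅k, a⁆ * ⁅k, b⁆ := by rw [commutatorElement_def k a]; group }
  have hd : d = 1 := by
    apply hom_eq_of_perfect
    intro g
    have h0 : d g * ((1 : Γ →* Γ) g)⁻¹ = ⁅k, g⁆ := by
      show ⁅k, g⁆ * ((1 : Γ →* Γ) g)⁻¹ = ⁅k, g⁆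
      simp
    rw [h0]
    exact hcomm g
  rw [Subgroup.mem_center_iff]
  intro g
  have h1 : ⁅k, g⁆ = 1 := DFunLike.congr_fun hd g
  rw [commutatorElement_def] at h1
  have h2 := congrArg (· * (g * k)) h1
  simp only [one_mul] at h2
  rw [← h2]; group

/-- Let `π : G →* Q` be a surjective homomorphism with central kernel from a finite perfect group `G` (a perfect cover of `Q`). Then `π` is universal, in the sense that every surjective homomorphism `ξ : X →* Q` with central kernel from a group `X` in the universe of `G` admits a homomorphism `η : G →* X` with `ξ ∘ η = π`, if and only if `G` has trivial Schur multiplier. -/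
theorem result {G : Type u} {Q : Type v} [Group G] [Group Q] [Finite G] (hG : Group.IsPerfect G) (π : G →* Q) (hπ : Function.Surjective π) (hker : π.ker ≤ Subgroup.center G) : (∀ (X : Type u) [Group X] (ξ : X →* Q), Function.Surjective ξ → ξ.ker ≤ Subgroup.center X → ∃ η : G →* X, ξ.comp η = π) ↔ Cfsg.HasCyclicSchurMultiplier G 1 := by
  constructor
  · intro huniv
    show Cfsg.HasSchurMultiplier G (Multiplicative (ZMod 1))
    rw [hasSchurMultiplier_iff (canPi G) (canPi_surjective G)]
    obtain ⟨Γ₀, _, _, σ₀, hσ₀, ⟨e₀⟩⟩ := exists_cover (canPi G) (canPi_surjective G)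
    haveI := hG
    haveI hΓ : Group.IsPerfect Γ₀ := perfect_of_stem σ₀ hσ₀
    have hc : (π.comp σ₀).ker ≤ Subgroup.center Γ₀ := by
      intro k hk
      apply central_of_central_image σ₀ hσ₀.2.1 k
      apply hker
      rw [MonoidHom.mem_ker] at hk ⊢
      exact hk
    obtain ⟨η, hη⟩ := huniv Γ₀ (π.comp σ₀) (hπ.comp hσ₀.1) hc
    have hη' : ∀ g, π (σ₀ (η g)) = π g := fun g => DFunLike.congr_fun hη g
    have hsec : σ₀.comp η = MonoidHom.id G := by
      apply hom_eq_of_perfect
      intro g
      apply hker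
      rw [MonoidHom.mem_ker, map_mul, map_inv]
      simp only [MonoidHom.comp_apply, MonoidHom.id_apply]
      rw [hη', mul_inv_cancel]
    have hsec' : ∀ g, σ₀ (η g) = g := fun g => DFunLike.congr_fun hsec g
    have hle : commutator Γ₀ ≤ η.range := by
      rw [commutator_def, Subgroup.commutator_le]
      intro a _ b _
      have hza : (η (σ₀ a))⁻¹ * a ∈ Subgroup.center Γ₀ := by
        apply hσ₀.2.1
        rw [MonoidHom.mem_ker, map_mul, map_inv, hsec', inv_mul_cancel]
      have hzb : (η (σ₀ b))⁻¹ * b ∈ Subgroup.center Γ₀ := by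
        apply hσ₀.2.1
        rw [MonoidHom.mem_ker, map_mul, map_inv, hsec', inv_mul_cancel]
      have h1 := comm_mul_central (η (σ₀ a)) (η (σ₀ b)) _ _ hza hzb
      rw [mul_inv_cancel_left, mul_inv_cancel_left] at h1
      rw [h1, ← map_commutatorElement]
      exact ⟨_, rfl⟩
    have hbot : ∀ z ∈ σ₀.ker, z = 1 := by
      intro z hz
      obtain ⟨g, rfl⟩ := hle (hσ₀.2.2 hz)
      rw [MonoidHom.mem_ker, hsec'] at hz
      rw [hz, map_one]
    haveI : Unique (MM (canPi G)) :=
      { default := 1
        uniq := fun m => by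
          have h1 : e₀.symm m = 1 := Subtype.ext (hbot _ (e₀.symm m).2)
          have := congrArg e₀ h1
          simpa using this }
    exact ⟨MulEquiv.ofUnique⟩
  · intro hM X _ ξ hξ hξc
    let P : Subgroup (G × X) :=
      (π.comp (MonoidHom.fst G X)).eqLocus (ξ.comp (MonoidHom.snd G X))
    have hP : ∀ p : G × X, p ∈ P ↔ π p.1 = ξ p.2 := fun p => Iff.rfl
    let p₁ : P →* G := (MonoidHom.fst G X).comp P.subtype
    have hp₁ : Function.Surjective p₁ := by
      intro g
      obtain ⟨x, hx⟩ := hξ (π g)
      exact ⟨⟨(g, x), (hP _).mpr hx.symm⟩, rfl⟩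
    have hp₁c : p₁.ker ≤ Subgroup.center P := by
      intro p hp
      rw [MonoidHom.mem_ker] at hp
      have h1 : (p : G × X).1 = 1 := hp
      have h2 : (p : G × X).2 ∈ ξ.ker := by
        rw [MonoidHom.mem_ker, ← (hP _).mp p.2, h1, map_one]
      rw [Subgroup.mem_center_iff]
      intro r
      apply Subtype.ext
      apply Prod.ext
      · show (r : G × X).1 * (p : G × X).1 = (p : G × X).1 * (r : G × X).1
        rw [h1, one_mul, mul_one]
      · exact Subgroup.mem_center_iff.mp (hξc h2) (r : G × X).2
    have hbot := ker_inf_commutator_eq_bot hM p₁ hp₁ hp₁c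
    let p₁' : commutator P →* G := p₁.comp (commutator P).subtype
    have hinj : Function.Injective p₁' := by
      rw [injective_iff_map_eq_one]
      intro c hc
      have h1 : (c : P) ∈ p₁.ker ⊓ commutator P := Subgroup.mem_inf.mpr ⟨hc, c.2⟩
      rw [hbot, Subgroup.mem_bot] at h1
      exact Subtype.ext h1
    have hsurj : Function.Surjective p₁' := by
      intro g
      have h1 : (commutator P).map p₁ = commutator G := by
        rw [commutator_def, commutator_def, Subgroup.map_commutator, ← MonoidHom.range_eq_map,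
          MonoidHom.range_eq_top.mpr hp₁]
      have h2 : g ∈ (commutator P).map p₁ := by
        rw [h1, hG.commutator_eq_top]; exact Subgroup.mem_top g
      obtain ⟨c, hc, rfl⟩ := h2
      exact ⟨⟨c, hc⟩, rfl⟩
    let e := MulEquiv.ofBijective p₁' ⟨hinj, hsurj⟩
    refine ⟨(MonoidHom.snd G X).comp (P.subtype.comp
      ((commutator P).subtype.comp e.symm.toMonoidHom)), ?_⟩
    ext g
    have h1 : p₁' (e.symm g) = g := e.apply_symm_apply g
    have h2 := (hP _).mp ((e.symm g : commutator P) : P).2
    have h3 : (((e.symm g : commutator P) : P) : G × X).1 = g := h1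
    rw [h3] at h2
    exact h2.symm

end Cfsg.Agent.S3961
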