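import Mathlib
import Cfsg.Statements.S3962

set_option autoImplicit false
open Cfsg

namespace Cfsg.Agent.S3962

/-- Let `G` be a perfect group and `π : G →* Q` a surjective homomorphism whose kernel is central. Then `π` maps the centre of `G` onto the centre of `Q`. Taking `π` to be the map to `G ⧸ Z(G)` shows that the central quotient of a perfect group has trivial centre. -/
theorem result {G Q : Type*} [Group G] [Group Q] (hG : Group.IsPerfect G) (π : G →* Q) (hπ : Function.Surjective π) (hker : π.ker ≤ Subgroup.center G) : (Subgroup.center G).map π = Subgroup.center Q := by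
  apply le_antisymm
  · rintro _ ⟨z, hz, rfl⟩
    rw [Subgroup.mem_center_iff]
    intro q
    obtain ⟨h, rfl⟩ := hπ q
    rw [← map_mul, ← map_mul]
    congr 1
    exact (Subgroup.mem_center_iff.mp hz h)
  · intro q hq
    obtain ⟨g, rfl⟩ := hπ q
    refine ⟨g, ?_, rfl⟩
    have hc : ∀ h : G, g * h * g⁻¹ * h⁻¹ ∈ Subgroup.center G := by
      intro h
      apply hker
      rw [MonoidHom.mem_ker]
      simp only [map_mul, map_inv]
      have := Subgroup.mem_center_iff.mp hq (π h)
      rw [← this]; group
    let φ : G →* Subgroup.center G :=
      { toFun := fun h => ⟨g * h * g⁻¹ * h⁻¹, hc h⟩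
        map_one' := by ext; simp
        map_mul' := by
          intro a b
          ext
          simp only [Subgroup.coe_mul]
          have hb := Subgroup.mem_center_iff.mp (hc b) a
          calc g * (a * b) * g⁻¹ * (a * b)⁻¹
              = (g * a * g⁻¹ * a⁻¹) * (a * (g * b * g⁻¹ * b⁻¹)) * a⁻¹ := by group
            _ = (g * a * g⁻¹ * a⁻¹) * ((g * b * g⁻¹ * b⁻¹) * a) * a⁻¹ := by rw [hb]
            _ = _ := by group }
    have hle : commutator G ≤ φ.ker := by
      rw [commutator_def, Subgroup.commutator_le]
      intro a _ b _
      rw [MonoidHom.mem_ker, map_commutatorElement, commutatorElement_eq_one_iff_commute]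
      apply Subtype.ext
      have := Subgroup.mem_center_iff.mp (φ a).2 (φ b)
      simpa using this.symm
    rw [hG.commutator_eq_top] at hle
    rw [SetLike.mem_coe, Subgroup.mem_center_iff]
    intro h
    have h1 : φ h = 1 := by
      have : h ∈ φ.ker := hle (Subgroup.mem_top h)
      exact this
    have h2 : g * h * g⁻¹ * h⁻¹ = 1 := congrArg Subtype.val h1
    have h3 : g * h = h * g := by
      have : g * h = (g * h * g⁻¹ * h⁻¹) * (h * g) := by group
      rw [this, h2, one_mul]
    exact h3.symm

end Cfsg.Agent.S3962
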