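import Mathlib
import Cfsg.Statements.S3964
import Cfsg.Agent.Lib_helper20_Stem

set_option autoImplicit false
open Cfsg

namespace Cfsg.Agent.S3964

open Cfsg.Agent.helper20

theorem dihedral_gen (n : ℕ) :
    Subgroup.closure ({DihedralGroup.r 1, DihedralGroup.sr 0} : Set (DihedralGroup n)) = ⊤ := by
  rw [eq_top_iff]
  intro x _
  have hr : ∀ i : ZMod n, DihedralGroup.r i ∈
      Subgroup.closure ({DihedralGroup.r 1, DihedralGroup.sr 0} : Set (DihedralGroup n)) := by
    intro i
    obtain ⟨k, rfl⟩ := ZMod.intCast_surjective i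
    rw [← DihedralGroup.r_one_zpow]
    exact Subgroup.zpow_mem _ (Subgroup.subset_closure (by simp)) k
  cases x with
  | r i => exact hr i
  | sr i =>
    have : DihedralGroup.sr i = DihedralGroup.sr 0 * DihedralGroup.r i := by
      rw [DihedralGroup.sr_mul_r, zero_add]
    rw [this]
    exact Subgroup.mul_mem _ (Subgroup.subset_closure (by simp)) (hr i)

theorem dihedral_rel (n : ℕ) :
    (DihedralGroup.sr 0 : DihedralGroup n) * DihedralGroup.r 1 * (DihedralGroup.sr 0)⁻¹ *
      DihedralGroup.r 1 = 1 := by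
  rw [DihedralGroup.inv_sr, DihedralGroup.sr_mul_r, DihedralGroup.sr_mul_sr, DihedralGroup.r_mul_r,
    DihedralGroup.one_def]
  congr 1
  ring

/-- For odd `n` the dihedral group of order `2 n` has trivial Schur multiplier. -/
theorem result (n : ℕ) (hn : Odd n) : Cfsg.HasCyclicSchurMultiplier (DihedralGroup n) 1 := by
  have hn0 : n ≠ 0 := by
    rintro rfl
    simp at hn
  have : NeZero n := ⟨hn0⟩
  refine ⟨⟨DihedralGroup n, inferInstance, inferInstance, MonoidHom.id _,
    ⟨Function.surjective_id, ?_, ?_⟩, ?_⟩, ?_⟩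
  · rw [MonoidHom.ker_id]; exact bot_le
  · rw [MonoidHom.ker_id]; exact bot_le
  · rw [MonoidHom.ker_id]
    have : Unique (Multiplicative (ZMod 1)) := inferInstanceAs (Unique (ZMod 1))
    exact ⟨MulEquiv.ofUnique⟩
  · intro Γ _ _ σ hσ
    have hker : σ.ker = ⊥ := by
      rw [eq_bot_iff]
      intro w hw
      obtain ⟨ρ, hρ⟩ := hσ.1 (DihedralGroup.r 1)
      obtain ⟨τ, hτ⟩ := hσ.1 (DihedralGroup.sr 0)
      have hgen : Subgroup.closure ({σ ρ, σ τ} : Set (DihedralGroup n)) = ⊤ := by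
        rw [hρ, hτ]; exact dihedral_gen n
      have hrel : σ τ * σ ρ * (σ τ)⁻¹ * σ ρ = 1 := by
        rw [hρ, hτ]; exact dihedral_rel n
      obtain ⟨k, hk, _⟩ := dihedral_like_key σ hσ ρ τ hgen hrel w hw
      have hzker : τ * ρ * τ⁻¹ * ρ ∈ σ.ker := by
        rw [MonoidHom.mem_ker, map_mul, map_mul, map_mul, map_inv]; exact hrel
      have hρn : ρ ^ n ∈ σ.ker := by
        rw [MonoidHom.mem_ker, map_pow, hρ, DihedralGroup.r_one_pow_n]
      have hd : τ * ρ ^ n * τ⁻¹ = ρ ^ n := by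
        have := Subgroup.mem_center_iff.mp (hσ.2.1 hρn) τ
        rw [this]; group
      have hβn := beta_pow_eq_one σ hσ.2.1 ρ τ hzker n hd
      set β := ρ⁻¹ * ρ⁻¹ * (τ * ρ * τ⁻¹ * ρ) with hβ
      have hσβ : σ β = DihedralGroup.r (-2) := by
        rw [hβ, map_mul, map_mul, map_inv, MonoidHom.mem_ker.mp hzker, mul_one, hρ,
          DihedralGroup.inv_r, DihedralGroup.r_mul_r]
        congr 1
        ring
      have h1 : σ (β ^ k) = 1 := by rw [← hk]; exact hw
      rw [map_zpow, hσβ, DihedralGroup.r_zpow, DihedralGroup.one_def] at h1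
      have h2 : (-2 : ZMod n) * (k : ZMod n) = 0 := by
        injection h1
      have h3 : (((-2 * k : ℤ)) : ZMod n) = 0 := by
        push_cast; exact h2
      rw [ZMod.intCast_zmod_eq_zero_iff_dvd] at h3
      obtain ⟨m, hm⟩ := hn
      have h4 : (n : ℤ) ∣ k := by
        have hk' : (k : ℤ) = n * k + m * (-2 * k) := by
          rw [hm]; push_cast; ring
        rw [hk']
        exact dvd_add (dvd_mul_right _ _) (Dvd.dvd.mul_left h3 _)
      obtain ⟨l, hl⟩ := h4
      rw [Subgroup.mem_bot, hk, hl, zpow_mul, zpow_natCast, hβn, one_zpow]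
    refine ⟨1, ?_⟩
    intro ⟨x, hx⟩
    refine ⟨1, ?_⟩
    rw [hker, Subgroup.mem_bot] at hx
    subst hx
    rfl

end Cfsg.Agent.S3964
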