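import Mathlib
import Cfsg.Statements.S3966

set_option autoImplicit false
open Cfsg
open scoped commutatorElement

namespace Cfsg.Agent.S3966

/-- the cast `ZMod (2n) → ZMod n` -/
noncomputable def cst (n : ℕ) : ZMod (2 * n) →+* ZMod n := ZMod.castHom (dvd_mul_left n 2) (ZMod n)

theorem cst_n (n : ℕ) : cst n (n : ZMod (2 * n)) = 0 := by
  rw [map_natCast]; exact ZMod.natCast_self n

noncomputable def sigmaFun (n : ℕ) : QuaternionGroup n → DihedralGroup n
  | .a i => .r (cst n i)
  | .xa i => .sr (cst n i)

noncomputable def sigma (n : ℕ) : QuaternionGroup n →* DihedralGroup n :=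
  MonoidHom.mk' (sigmaFun n) (by
    intro x y
    cases x <;> cases y <;>
      simp [sigmaFun, QuaternionGroup.a_mul_a, QuaternionGroup.a_mul_xa, QuaternionGroup.xa_mul_a,
        QuaternionGroup.xa_mul_xa, DihedralGroup.r_mul_r, DihedralGroup.r_mul_sr,
        DihedralGroup.sr_mul_r, DihedralGroup.sr_mul_sr, map_add, map_sub])

theorem sigma_surj (n : ℕ) : Function.Surjective (sigma n) := by
  intro y
  cases y with
  | r i =>
    obtain ⟨j, rfl⟩ := ZMod.ringHom_surjective (cst n) i
    exact ⟨.a j, rfl⟩
  | sr i =>
    obtain ⟨j, rfl⟩ := ZMod.ringHom_surjective (cst n) i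
    exact ⟨.xa j, rfl⟩

theorem card_ker (n : ℕ) [NeZero n] : Nat.card (sigma n).ker = 2 := by
  have h1 := Subgroup.card_mul_index (sigma n).ker
  rw [Subgroup.index_ker, MonoidHom.range_eq_top_of_surjective _ (sigma_surj n), Subgroup.card_top,
    DihedralGroup.nat_card, Nat.card_eq_fintype_card (α := QuaternionGroup n), QuaternionGroup.card] at h1
  have hn : 0 < n := Nat.pos_of_ne_zero (NeZero.ne n)
  have : Nat.card (sigma n).ker * (2 * n) = 2 * (2 * n) := by rw [h1]; ring
  exact Nat.eq_of_mul_eq_mul_right (by omega) this

theorem ker_eq (n : ℕ) [NeZero n] (x : QuaternionGroup n) (hx : x ∈ (sigma n).ker) :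
    x = 1 ∨ x = .a (n : ZMod (2 * n)) := by
  -- the kernel has two elements, 1 and a n
  have han : (QuaternionGroup.a (n : ZMod (2 * n)) : QuaternionGroup n) ∈ (sigma n).ker := by
    rw [MonoidHom.mem_ker]
    show sigmaFun n (.a n) = 1
    simp [sigmaFun]
  have hne : (QuaternionGroup.a (n : ZMod (2 * n)) : QuaternionGroup n) ≠ 1 := by
    rw [QuaternionGroup.one_def]
    intro h
    have h2 : (n : ZMod (2 * n)) = 0 := by
      injection h
    rw [ZMod.natCast_eq_zero_iff] at h2
    have hn : 0 < n := Nat.pos_of_ne_zero (NeZero.ne n)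
    have := Nat.le_of_dvd hn h2
    omega
  by_contra hcon
  push Not at hcon
  have hcard := card_ker n
  -- three distinct elements in the kernel
  have : 3 ≤ Nat.card (sigma n).ker := by
    have hfin : Finite (sigma n).ker := inferInstance
    let s : Finset (sigma n).ker := {⟨1, Subgroup.one_mem _⟩, ⟨.a n, han⟩, ⟨x, hx⟩}
    have hs : s.card = 3 := by
      rw [Finset.card_eq_three]
      refine ⟨_, _, _, ?_, ?_, ?_, rfl⟩
      · intro h; exact hne (congrArg Subtype.val h).symm
      · intro h; exact hcon.1 (congrArg Subtype.val h).symm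
      · intro h; exact hcon.2 (congrArg Subtype.val h).symm
    rw [← hs, Nat.card_eq_fintype_card]
    exact Finset.card_le_univ s
  omega

/-- For even `n ≥ 2` the dicyclic group of order `4 n` is a stem extension of the dihedral group of order `2 n` with kernel of order `2`: there is a surjective homomorphism `QuaternionGroup n →* DihedralGroup n` whose kernel is central, lies in the commutator subgroup and has two elements. Together with the order of the multiplier this exhibits the dicyclic group as a Schur covering group of the dihedral group. -/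
theorem result (n : ℕ) [NeZero n] (hn : Even n) : ∃ σ : QuaternionGroup n →* DihedralGroup n, Cfsg.IsStemExtension σ ∧ Nat.card σ.ker = 2 := by
  refine ⟨sigma n, ⟨sigma_surj n, ?_, ?_⟩, card_ker n⟩
  · intro x hx
    rcases ker_eq n x hx with rfl | rfl
    · exact Subgroup.one_mem _
    · rw [Subgroup.mem_center_iff]
      intro y
      have h2 : (n : ZMod (2 * n)) + n = 0 := by
        have : ((2 * n : ℕ) : ZMod (2 * n)) = 0 := ZMod.natCast_self _
        push_cast at this
        rw [← this]; ring
      cases y with
      | a j => simp [QuaternionGroup.a_mul_a, add_comm]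
      | xa j =>
        simp only [QuaternionGroup.a_mul_xa, QuaternionGroup.xa_mul_a]
        congr 1
        have : -(n : ZMod (2 * n)) = n := by
          rw [neg_eq_iff_add_eq_zero]; exact h2
        rw [sub_eq_add_neg, this]
  · intro x hx
    rcases ker_eq n x hx with rfl | rfl
    · exact Subgroup.one_mem _
    · obtain ⟨m, hm⟩ := hn
      have hcomm : (QuaternionGroup.a (n : ZMod (2 * n)) : QuaternionGroup n) =
          ⁅(QuaternionGroup.a (m : ZMod (2 * n)) : QuaternionGroup n), QuaternionGroup.xa 0⁆ := by
        rw [commutatorElement_def]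
        have hinv : (QuaternionGroup.xa (0 : ZMod (2 * n)) : QuaternionGroup n)⁻¹ = .xa (n : ZMod (2 * n)) := by
          apply inv_eq_of_mul_eq_one_right
          rw [QuaternionGroup.xa_mul_xa, QuaternionGroup.one_def]
          congr 1
          have : ((2 * n : ℕ) : ZMod (2 * n)) = 0 := ZMod.natCast_self _
          push_cast at this
          linear_combination this
        have hinva : (QuaternionGroup.a (m : ZMod (2 * n)) : QuaternionGroup n)⁻¹ = .a (-(m : ZMod (2 * n))) := by
          apply inv_eq_of_mul_eq_one_right
          rw [QuaternionGroup.a_mul_a, QuaternionGroup.one_def, add_neg_cancel]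
        rw [hinv, hinva]
        simp only [QuaternionGroup.a_mul_xa, QuaternionGroup.xa_mul_a, QuaternionGroup.xa_mul_xa]
        congr 1
        have h2n : ((2 * n : ℕ) : ZMod (2 * n)) = 0 := ZMod.natCast_self _
        push_cast at h2n
        have hnm : (n : ZMod (2 * n)) = m + m := by
          rw [hm]; push_cast; ring
        rw [hnm] at h2n ⊢
        linear_combination (-1 : ZMod (2 * n)) * h2n
      rw [hcomm]
      exact Subgroup.commutator_mem_commutator (Subgroup.mem_top _) (Subgroup.mem_top _)

end Cfsg.Agent.S3966
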