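import Mathlib
import Cfsg.Statements.S3965
import Cfsg.Agent.Lib_helper20_Stem
import Cfsg.Agent.S3964
import Cfsg.Agent.S3966

set_option autoImplicit false
open Cfsg

namespace Cfsg.Agent.S3965

open Cfsg.Agent.helper20

/-- a homomorphism from the cyclic group of order two determined by an element of square one -/
noncomputable def ofSqOne {K : Type*} [Group K] (u : K) (hu : u ^ 2 = 1) : Multiplicative (ZMod 2) →* K :=
  MonoidHom.mk' (fun x => u ^ (Multiplicative.toAdd x).val) (by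
    intro a b
    rw [toAdd_mul, ZMod.val_add, ← pow_eq_pow_mod _ hu, pow_add])

/-- For even `n ≥ 2` the dihedral group of order `2 n` has Schur multiplier cyclic of order `2`. -/
theorem result (n : ℕ) [NeZero n] (hn : Even n) : Cfsg.HasCyclicSchurMultiplier (DihedralGroup n) 2 := by
  have hn0 : n ≠ 0 := NeZero.ne n
  constructor
  · obtain ⟨σ, hσ, hcard⟩ := Cfsg.Agent.S3966.result n hn
    refine ⟨QuaternionGroup n, inferInstance, inferInstance, σ, hσ, ?_⟩
    have : Fact (Nat.Prime 2) := ⟨Nat.prime_two⟩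
    have hcyc : IsCyclic σ.ker := isCyclic_of_prime_card hcard
    have e := (zmodCyclicMulEquiv hcyc).symm
    rw [hcard] at e
    exact ⟨e⟩
  · intro Γ _ _ σ hσ
    obtain ⟨ρ, hρ⟩ := hσ.1 (DihedralGroup.r 1)
    obtain ⟨τ, hτ⟩ := hσ.1 (DihedralGroup.sr 0)
    have hgen : Subgroup.closure ({σ ρ, σ τ} : Set (DihedralGroup n)) = ⊤ := by
      rw [hρ, hτ]; exact Cfsg.Agent.S3964.dihedral_gen n
    have hrel : σ τ * σ ρ * (σ τ)⁻¹ * σ ρ = 1 := by
      rw [hρ, hτ]; exact Cfsg.Agent.S3964.dihedral_rel n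
    have hzker : τ * ρ * τ⁻¹ * ρ ∈ σ.ker := by
      rw [MonoidHom.mem_ker, map_mul, map_mul, map_mul, map_inv]; exact hrel
    have hρn : ρ ^ n ∈ σ.ker := by
      rw [MonoidHom.mem_ker, map_pow, hρ, DihedralGroup.r_one_pow_n]
    have hd : τ * ρ ^ n * τ⁻¹ = ρ ^ n := by
      have := Subgroup.mem_center_iff.mp (hσ.2.1 hρn) τ
      rw [this]; group
    have hβn := beta_pow_eq_one σ hσ.2.1 ρ τ hzker n hd
    have hkey := dihedral_like_key σ hσ ρ τ hgen hrel
    set β := ρ⁻¹ * ρ⁻¹ * (τ * ρ * τ⁻¹ * ρ) with hβ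
    have hσβ : σ β = (DihedralGroup.r 1 : DihedralGroup n) ^ (-2 : ℤ) := by
      rw [hβ, map_mul, map_mul, map_inv, MonoidHom.mem_ker.mp hzker, mul_one, hρ]
      group
    obtain ⟨m, hm⟩ := hn
    have hm2 : n = 2 * m := by omega
    -- the candidate generator of the kernel
    have hu2 : (β ^ m) ^ 2 = 1 := by
      rw [← pow_mul, mul_comm, ← hm2, hβn]
    have huker : β ^ m ∈ σ.ker := by
      rw [MonoidHom.mem_ker, map_pow, hσβ, ← zpow_natCast, ← zpow_mul,
        ← orderOf_dvd_iff_zpow_eq_one, DihedralGroup.orderOf_r_one]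
      refine ⟨-1, ?_⟩
      rw [hm2]; push_cast; ring
    let u : σ.ker := ⟨β ^ m, huker⟩
    have hu : u ^ 2 = 1 := by
      apply Subtype.ext
      exact hu2
    refine ⟨ofSqOne u hu, ?_⟩
    rintro ⟨w, hw⟩
    obtain ⟨k, hk, _⟩ := hkey w hw
    have h1 : σ (β ^ k) = 1 := by rw [← hk]; exact hw
    rw [map_zpow, hσβ, ← zpow_mul, ← orderOf_dvd_iff_zpow_eq_one, DihedralGroup.orderOf_r_one] at h1
    have h4 : (m : ℤ) ∣ k := by
      obtain ⟨c, hc⟩ := h1
      refine ⟨-c, ?_⟩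
      rw [hm2] at hc
      push_cast at hc
      have h2 : (2 : ℤ) * k = 2 * (m * -c) := by linear_combination -hc
      exact mul_left_cancel₀ (by norm_num) h2
    obtain ⟨l, hl⟩ := h4
    have hwl : w = (β ^ m) ^ l := by
      rw [hk, hl, zpow_mul, zpow_natCast]
    rcases Int.even_or_odd l with ⟨c, hc⟩ | ⟨c, hc⟩
    · refine ⟨Multiplicative.ofAdd 0, ?_⟩
      apply Subtype.ext
      show ((u ^ (0 : ZMod 2).val : σ.ker) : Γ) = w
      have hc' : l = 2 * c := by omega
      rw [ZMod.val_zero, pow_zero, hwl, hc', zpow_mul, zpow_ofNat, hu2, one_zpow]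
      rfl
    · refine ⟨Multiplicative.ofAdd 1, ?_⟩
      apply Subtype.ext
      show ((u ^ (1 : ZMod 2).val : σ.ker) : Γ) = w
      have h1v : (1 : ZMod 2).val = 1 := rfl
      rw [h1v, pow_one, hwl, hc, zpow_add, zpow_one, zpow_mul, zpow_ofNat, hu2, one_zpow, one_mul]

end Cfsg.Agent.S3965
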