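import Cfsg.Statements.S3968
import Mathlib
import Cfsg.Agent.Lib_helper1_PrimeDeg
import Cfsg.Agent.Lib_helper1_RepEquiv
import Cfsg.Agent.Lib_helper1_CharKer
import Cfsg.Agent.S0142

set_option autoImplicit false
set_option linter.style.haveILetI false
set_option linter.unusedVariables false
open Cfsg

namespace Cfsg.Agent.S3968

/-- Let `p` be a prime and `G` a finite group with a faithful irreducible complex character of degree `p` (so `G` is an irreducible linear group in `p` variables). If `p ^ 2` divides the order of `G`, then the centre of `G` is nontrivial. -/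
theorem result {G : Type*} [Group G] [Finite G] (p : ℕ) (hp : p.Prime) (χ : Cfsg.IrrCharacter G) (hdeg : χ.1 1 = p) (hfaith : ∀ g : G, χ.1 g = χ.1 1 → g = 1) (hdiv : p ^ 2 ∣ Nat.card G) : Subgroup.center G ≠ ⊥ := by
  classical
  intro hZ
  haveI := Fintype.ofFinite G
  obtain ⟨n, ρ, hρ, hχ⟩ := χ.2
  have hn : n = p := by
    have : (n : ℂ) = p := by rw [← hdeg, ← hχ]; simp
    exact_mod_cast this
  subst hn
  haveI := hρ
  have hinj : Function.Injective ρ := by
    intro g h hgh
    have h1 : ρ (g * h⁻¹) = LinearMap.id := by
      rw [map_mul, hgh, ← map_mul, mul_inv_cancel, map_one]; rfl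
    have h2 := (Cfsg.Agent.helper1.char_eq_finrank_iff ρ (g * h⁻¹)).mpr h1
    have h3 : χ.1 (g * h⁻¹) = χ.1 1 := by
      rw [← hχ, h2, Representation.char_one]
    have := hfaith _ h3
    exact mul_inv_eq_one.mp this
  have hvanish : ∀ x : G, x ≠ 1 → Nat.Coprime n (Subgroup.centralizer ({x} : Set G)).index →
      χ.1 x = 0 := by
    intro x hx hcop
    have h142 := Cfsg.Agent.S0142.result ρ x (by rwa [Module.finrank_fin_fun])
    rcases h142 with h0 | hnorm
    · rw [← hχ]; exact h0
    · exfalso
      rw [Module.finrank_fin_fun] at hnorm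
      obtain ⟨ω, hω⟩ := Cfsg.Agent.helper1.rep_scalar_of_norm_char_eq ρ x (by exact_mod_cast hnorm)
      have hxc := Cfsg.Agent.helper1.mem_center_of_scalar ρ hinj x ω hω
      rw [hZ] at hxc
      exact hx (Subgroup.mem_bot.mp hxc)
  haveI : Fact n.Prime := ⟨hp⟩
  obtain ⟨P⟩ : Nonempty (Sylow n G) := inferInstance
  have hcardP : Nat.card P = n ^ (Nat.card G).factorization n := Sylow.card_eq_multiplicity P
  set a := (Nat.card G).factorization n with ha_def
  have ha : 2 ≤ a := (hp.pow_dvd_iff_le_factorization (Nat.card_pos.ne')).mp hdiv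
  have hidx : ¬ n ∣ (P : Subgroup G).index := Sylow.not_dvd_index P
  let ρP : Representation ℂ (P : Subgroup G) (Fin n → ℂ) := ρ.comp (P : Subgroup G).subtype
  have hρP : ∀ x : (P : Subgroup G), ρP x = ρ (x : G) := fun x => rfl
  have hPnt : Nontrivial (P : Subgroup G) := by
    rw [← Finite.one_lt_card_iff_nontrivial, hcardP]
    exact Nat.one_lt_pow (by omega) hp.one_lt
  by_cases hirr : ρP.IsIrreducible
  · haveI := hirr
    have hPp : IsPGroup n (P : Subgroup G) := P.isPGroup'
    haveI := hPp.center_nontrivial
    obtain ⟨⟨z, hzc⟩, hz1⟩ := exists_ne (1 : Subgroup.center (P : Subgroup G))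
    have hz1' : z ≠ 1 := fun h => hz1 (Subtype.ext h)
    let f : Representation.IntertwiningMap ρP ρP :=
      ⟨ρP z, fun g => by
        rw [← Module.End.mul_eq_comp, ← Module.End.mul_eq_comp, ← map_mul, ← map_mul,
          Subgroup.mem_center_iff.mp hzc g]⟩
    obtain ⟨c, hc⟩ :=
      (Representation.IsIrreducible.algebraMap_intertwiningMap_bijective_of_isAlgClosed
        (ρ := ρP)).2 f
    have hscal : ρ (z : G) = c • LinearMap.id := by
      have := congrArg Representation.IntertwiningMap.toLinearMap hc
      rw [← hρP]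
      show f.toLinearMap = _
      rw [← this]
      rfl
    have hzc' := Cfsg.Agent.helper1.mem_center_of_scalar ρ hinj (z : G) c hscal
    rw [hZ] at hzc'
    exact hz1' (Subtype.ext (Subgroup.mem_bot.mp hzc'))
  · have hntV : Nontrivial (Fin n → ℂ) := by
      haveI : Nonempty (Fin n) := ⟨⟨0, hp.pos⟩⟩
      infer_instance
    obtain ⟨W, hW0, hW1⟩ : ∃ W : Subrepresentation ρP, W ≠ ⊥ ∧ W ≠ ⊤ := by
      by_contra hcon
      push Not at hcon
      apply hirr
      haveI : Nontrivial (Subrepresentation ρP) := ⟨⟨⊥, ⊤, fun h => by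
        have h' := congrArg Subrepresentation.toSubmodule h
        exact bot_ne_top h'⟩⟩
      exact ⟨fun W => by
        by_cases h : W = ⊥
        · exact Or.inl h
        · exact Or.inr (hcon W h)⟩
    obtain ⟨W', hcompl⟩ := Cfsg.Agent.helper1.exists_subrep_isCompl ρP W
    have hadd := Cfsg.Agent.helper1.character_eq_add_of_isCompl ρP W W' hcompl
    have hdim : Module.finrank ℂ W.toSubmodule + Module.finrank ℂ W'.toSubmodule = n := by
      rw [Submodule.finrank_add_eq_of_isCompl hcompl, Module.finrank_fin_fun]
    have hWs0 : W.toSubmodule ≠ ⊥ := fun h => hW0 (Subrepresentation.toSubmodule_injective h)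
    have hWs1 : W.toSubmodule ≠ ⊤ := fun h => hW1 (Subrepresentation.toSubmodule_injective h)
    have hd1 : Module.finrank ℂ W.toSubmodule ≠ 0 := by
      intro h
      exact hWs0 (Submodule.finrank_eq_zero.mp h)
    have hd2 : Module.finrank ℂ W'.toSubmodule ≠ 0 := by
      intro h
      have h' : W'.toSubmodule = ⊥ := Submodule.finrank_eq_zero.mp h
      apply hWs1
      have := hcompl.sup_eq_top
      rw [h', sup_bot_eq] at this
      exact this
    have hcomm : ∀ c ∈ commutator (P : Subgroup G), c = 1 := by
      intro c hc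
      have h1 := Cfsg.Agent.helper1.pgroup_small_char_commutator n a hp hcardP
        (Cfsg.Agent.helper1.isCharacter_character W.toRepresentation)
        (Module.finrank ℂ W.toSubmodule) (Representation.char_one _) (by omega) c hc
      have h2 := Cfsg.Agent.helper1.pgroup_small_char_commutator n a hp hcardP
        (Cfsg.Agent.helper1.isCharacter_character W'.toRepresentation)
        (Module.finrank ℂ W'.toSubmodule) (Representation.char_one _) (by omega) c hc
      have h3 : χ.1 (c : G) = χ.1 1 := by
        rw [← hχ]
        have e1 := hadd c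
        have e2 := hadd 1
        have e3 : ρP.character c = ρ.character (c : G) := rfl
        have e4 : ρP.character 1 = ρ.character (1 : G) := rfl
        rw [← e3, ← e4, e1, e2, h1, h2]
      exact Subtype.ext (hfaith _ h3)
    have hab : ∀ x y : (P : Subgroup G), x * y = y * x := by
      intro x y
      have hmem : x * y * x⁻¹ * y⁻¹ ∈ commutator (P : Subgroup G) := by
        have := Subgroup.commutator_mem_commutator (H₁ := (⊤ : Subgroup (P : Subgroup G)))
          (H₂ := (⊤ : Subgroup (P : Subgroup G))) (Subgroup.mem_top x) (Subgroup.mem_top y)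
        rw [commutatorElement_def] at this
        exact this
      have h1 := hcomm _ hmem
      have : x * y = (x * y * x⁻¹ * y⁻¹) * (y * x) := by group
      rw [this, h1, one_mul]
    have hvP : ∀ x : (P : Subgroup G), x ≠ 1 → χ.1 (x : G) = 0 := by
      intro x hx
      apply hvanish _ (fun h => hx (Subtype.ext h))
      have hle : (P : Subgroup G) ≤ Subgroup.centralizer {(x : G)} := by
        intro y hy
        rw [Subgroup.mem_centralizer_singleton_iff]
        have := hab ⟨y, hy⟩ x
        exact congrArg Subtype.val this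
      have hdvd := Subgroup.index_dvd_of_le hle
      exact (Nat.Prime.coprime_iff_not_dvd hp).mpr (fun h => hidx (h.trans hdvd))
    haveI : Fintype (P : Subgroup G) := Fintype.ofFinite _
    have hsum : ∑ x : (P : Subgroup G), χ.1 (x : G) = n := by
      rw [Finset.sum_eq_single (1 : (P : Subgroup G))]
      · exact hdeg
      · intro x _ hx; exact hvP x hx
      · simp
    obtain ⟨m, hm⟩ := Cfsg.Agent.helper12.classInner_char_nat (G := (P : Subgroup G))
      (Cfsg.Agent.helper12.isCharacter_restrict (P : Subgroup G)
        (Cfsg.Agent.helper24.irr_isCharacter χ.2))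
      (Cfsg.Agent.helper24.irr_isCharacter
        (Cfsg.Agent.helper24.isIrrCharacter_one (G := (P : Subgroup G))))
    unfold classInner at hm
    simp only [map_one, mul_one] at hm
    rw [hsum, hcardP] at hm
    have hna : ((n ^ a : ℕ) : ℂ) ≠ 0 := by
      exact_mod_cast (pow_pos hp.pos a).ne'
    have hm' : (n : ℂ) = ((m * n ^ a : ℕ) : ℂ) := by
      push_cast
      push_cast at hm hna
      field_simp at hm
      linear_combination hm
    have hm'' : n = m * n ^ a := by exact_mod_cast hm'
    rcases Nat.eq_zero_or_pos m with h0 | hpos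
    · rw [h0, zero_mul] at hm''
      exact hp.ne_zero hm''
    · have h1 : n ^ 2 ≤ n ^ a := Nat.pow_le_pow_right hp.pos ha
      have h2 : n ^ a ≤ m * n ^ a := Nat.le_mul_of_pos_left _ hpos
      have h3 : n < n ^ 2 := by
        have := hp.one_lt
        nlinarith
      omega

end Cfsg.Agent.S3968
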