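import Mathlib
import Cfsg.Statements.S3969
import Cfsg.Agent.Lib_helper20_AutAbelian

set_option autoImplicit false
open Cfsg

namespace Cfsg.Agent.S3969

open Cfsg.Agent.helper20

/-- no automorphism of prime order `q ≠ p` when `q` is coprime to `∏ (p^i - 1)` -/
theorem no_aut {G : Type*} [Group G] [Finite G] (p : ℕ) [Fact p.Prime] (P : Sylow p G)
    (hcomm : ∀ a b : P, a * b = b * a) (q : ℕ) (hq : q.Prime) (hqp : q ≠ p)
    (hcop : Nat.Coprime q (∏ i ∈ Finset.Icc 1 (Group.rank (P : Subgroup G)), (p ^ i - 1)))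
    (φ : MulAut P) : orderOf φ ≠ q := by
  intro hφ
  let _ : CommGroup ↥(P : Subgroup G) := { (inferInstance : Group ↥(P : Subgroup G)) with mul_comm := hcomm }
  obtain ⟨i, hi1, hir, hdvd⟩ := exists_dvd_pow_sub_one p q hq hqp P.isPGroup' φ hφ
  have h1 : q ∣ ∏ i ∈ Finset.Icc 1 (Group.rank (P : Subgroup G)), (p ^ i - 1) :=
    dvd_trans hdvd (Finset.dvd_prod_of_mem _ (Finset.mem_Icc.mpr ⟨hi1, hir⟩))
  have h2 := Nat.dvd_gcd (dvd_refl q) h1
  rw [hcop.gcd_eq_one] at h2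
  exact hq.one_lt.ne' (Nat.dvd_one.mp h2)

theorem result {G : Type*} [Group G] [Finite G] (p : ℕ) [Fact p.Prime] (P : Sylow p G) (hab : IsMulCommutative (P : Subgroup G)) (hcop : Nat.Coprime (Nat.card G) (∏ i ∈ Finset.Icc 1 (Group.rank (P : Subgroup G)), (p ^ i - 1))) : Cfsg.HasNormalPComplement p G := by
  have hcomm : ∀ a b : P, a * b = b * a := fun a b => hab.is_comm.comm a b
  have h : ∀ q : ℕ, q.Prime → q ∣ Nat.card G → q ≠ p → ∀ φ : MulAut P, orderOf φ ≠ q := by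
    intro q hq hqG hqp φ
    exact no_aut p P hcomm q hq hqp (Nat.Coprime.coprime_dvd_left hqG hcop) φ
  obtain ⟨N, hN, hNc⟩ := Cfsg.Agent.lead.exists_normal_complement_of_aut P hcomm h
  exact ⟨P, N, hN, hNc⟩

end Cfsg.Agent.S3969
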