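import Mathlib
import Cfsg.Statements.S3970
import Cfsg.Agent.Lib_helper20_AutAbelian

set_option autoImplicit false
open Cfsg

namespace Cfsg.Agent.S3970

open Cfsg.Agent.helper20

universe u

/-- Sylow subgroups of a subgroup of the right order are isomorphic to Sylow subgroups of the group. -/
theorem sylow_of_hall {G : Type u} [Group G] [Finite G] (N : Subgroup G) (r : ℕ) [Fact r.Prime]
    (hr : (Nat.card G).factorization r = (Nat.card N).factorization r) (R : Sylow r N) :
    ∃ R' : Sylow r G, Nonempty (R ≃* R') := by
  have hinj : Function.Injective N.subtype := N.subtype_injective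
  have hRm : IsPGroup r ((R : Subgroup N).map N.subtype) := R.isPGroup'.map N.subtype
  obtain ⟨R', hR'⟩ := hRm.exists_le_sylow
  have hcard : Nat.card ((R : Subgroup N).map N.subtype) = Nat.card (R : Subgroup N) :=
    (Nat.card_congr ((R : Subgroup N).equivMapOfInjective N.subtype hinj).toEquiv).symm
  have heq : (R : Subgroup N).map N.subtype = (R' : Subgroup G) := by
    apply Subgroup.eq_of_le_of_card_ge hR'
    rw [hcard, Sylow.card_eq_multiplicity, Sylow.card_eq_multiplicity, hr]
  exact ⟨R', ⟨((R : Subgroup N).equivMapOfInjective N.subtype hinj).trans (MulEquiv.subgroupCongr heq)⟩⟩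

theorem solv_aux : ∀ (n : ℕ) (G : Type u) [Group G] [Finite G], Nat.card G = n →
    (∀ p : ℕ, p.Prime → p ∣ Nat.card G → (∃ q : ℕ, q.Prime ∧ q ∣ Nat.card G ∧ p < q) →
      ∀ P : Sylow p G, IsMulCommutative (P : Subgroup G) ∧ Group.rank (P : Subgroup G) ≤ 2) →
    ¬ 12 ∣ n → Group.IsSolvable G := by
  intro n
  induction n using Nat.strong_induction_on with
  | _ n IH =>
  intro G _ _ hn h h12
  have hn0 : n ≠ 0 := hn ▸ Nat.card_pos.ne'
  by_cases hn1 : n = 1
  · have : Subsingleton G := by
      rw [← Finite.card_le_one_iff_subsingleton, hn, hn1]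
    infer_instance
  have hp : n.minFac.Prime := Nat.minFac_prime hn1
  set p := n.minFac with hpdef
  have : Fact p.Prime := ⟨hp⟩
  have hpn : p ∣ n := Nat.minFac_dvd n
  by_cases hbig : ∃ q : ℕ, q.Prime ∧ q ∣ n ∧ p < q
  · -- abelian Sylow of rank ≤ 2
    obtain ⟨P⟩ : Nonempty (Sylow p G) := inferInstance
    obtain ⟨hab, hrank⟩ := h p hp (hn ▸ hpn) (hn ▸ hbig) P
    have hcomm : ∀ a b : P, a * b = b * a := fun a b => hab.is_comm.comm a b
    have hPcard : Nat.card P ∣ n := hn ▸ Subgroup.card_subgroup_dvd_card _
    have hno : ∀ q : ℕ, q.Prime → q ∣ Nat.card G → q ≠ p → ∀ φ : MulAut P, orderOf φ ≠ q := by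
      intro q hq hqG hqp φ hφ
      rw [hn] at hqG
      have hpq : p < q := lt_of_le_of_ne (Nat.minFac_le_of_dvd hq.two_le hqG) (Ne.symm hqp)
      let _ : CommGroup ↥(P : Subgroup G) := { (inferInstance : Group ↥(P : Subgroup G)) with mul_comm := hcomm }
      obtain ⟨i, hi1, hir, hdvd, hpi⟩ := exists_dvd_pow_sub_one_strong p q hq hqp P.isPGroup' φ hφ
      have hi2 : i ≤ 2 := le_trans hir hrank
      have hp2 := hp.two_le
      have hnot1 : ¬ q ∣ p - 1 := by
        intro hd
        have := Nat.le_of_dvd (by omega) hd
        omega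
      interval_cases i
      · rw [pow_one] at hdvd
        exact hnot1 hdvd
      · have hfac : p ^ 2 - 1 = (p - 1) * (p + 1) := by
          have h1 : 1 ≤ p := by omega
          zify [h1, Nat.one_le_pow 2 p (by omega)]
          ring
        rw [hfac] at hdvd
        rcases (Nat.Prime.dvd_mul hq).mp hdvd with hd | hd
        · exact hnot1 hd
        · have hle := Nat.le_of_dvd (by omega) hd
          have hqeq : q = p + 1 := by omega
          have hp2' : p = 2 := by
            rcases hp.eq_two_or_odd with h2 | hodd
            · exact h2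
            · exfalso
              have heven : 2 ∣ q := by rw [hqeq]; omega
              have := (Nat.prime_dvd_prime_iff_eq Nat.prime_two hq).mp heven
              omega
          apply h12
          have h4 : 4 ∣ n := by
            have : p ^ 2 = 4 := by rw [hp2']; norm_num
            rw [← this]
            exact dvd_trans hpi hPcard
          have h3 : 3 ∣ n := by
            have : q = 3 := by omega
            rw [← this]; exact hqG
          have : 4 * 3 ∣ n := Nat.Coprime.mul_dvd_of_dvd_of_dvd (by norm_num) h4 h3
          simpa using this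
    obtain ⟨N, hN, hNc⟩ := Cfsg.Agent.lead.exists_normal_complement_of_aut P hcomm hno
    have hcardmul : Nat.card N * Nat.card P = n := by rw [← hn]; exact hNc.card_mul_card
    have hPcardeq : Nat.card P = p ^ n.factorization p := by rw [← hn]; exact Sylow.card_eq_multiplicity P
    have hfacpos : 0 < n.factorization p := (Nat.Prime.factorization_pos_of_dvd hp hn0 hpn)
    have hP2 : 2 ≤ Nat.card P := by
      rw [hPcardeq]
      calc 2 ≤ p := hp.two_le
        _ = p ^ 1 := (pow_one p).symm
        _ ≤ p ^ n.factorization p := Nat.pow_le_pow_right hp.pos hfacpos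
    have hNpos : 0 < Nat.card N := Nat.card_pos
    have hNlt : Nat.card N < n := by
      rw [← hcardmul]
      nlinarith
    have hNdvd : Nat.card N ∣ n := Dvd.intro _ hcardmul
    have hpN : ¬ p ∣ Nat.card N := by
      have h2 : Nat.card N = n / p ^ n.factorization p := by
        have := hcardmul
        rw [hPcardeq] at this
        exact (Nat.div_eq_of_eq_mul_left (pow_pos hp.pos _) this.symm).symm
      rw [h2]
      exact Nat.not_dvd_ordCompl hp hn0
    -- N is solvable by induction
    have hNsolv : Group.IsSolvable N := by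
      apply IH (Nat.card N) hNlt N rfl
      · intro r hr hrN hex R
        have hrp : r ≠ p := by
          rintro rfl
          exact hpN hrN
        have : Fact r.Prime := ⟨hr⟩
        have hfac : (Nat.card G).factorization r = (Nat.card N).factorization r := by
          rw [hn, ← hcardmul, Nat.factorization_mul hNpos.ne' (by omega), hPcardeq]
          simp only [Finsupp.coe_add, Pi.add_apply, Nat.factorization_pow, Finsupp.coe_smul, Pi.smul_apply, smul_eq_mul]
          rw [Nat.Prime.factorization hp]
          simp [hrp.symm]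
        obtain ⟨R', ⟨e⟩⟩ := sylow_of_hall N r hfac R
        obtain ⟨q', hq', hq'N, hrq'⟩ := hex
        obtain ⟨hab', hrank'⟩ := h r hr (hn ▸ dvd_trans hrN hNdvd) ⟨q', hq', hn ▸ dvd_trans hq'N hNdvd, hrq'⟩ R'
        refine ⟨⟨⟨?_⟩⟩, ?_⟩
        · intro a b
          apply e.injective
          rw [map_mul, map_mul]
          exact hab'.is_comm.comm _ _
        · rw [Group.rank_congr e]
          exact hrank'
      · intro h12'
        exact h12 (dvd_trans h12' hNdvd)
    have hQsolv : Group.IsSolvable (G ⧸ N) := by
      have hQp : IsPGroup p (G ⧸ N) := by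
        apply IsPGroup.of_card (n := n.factorization p)
        rw [← Subgroup.index_eq_card, hNc.symm.index_eq_card, hPcardeq]
      have := hQp.isNilpotent
      infer_instance
    exact Group.isSolvable_of_ker_le_range N.subtype (QuotientGroup.mk' N) (by simp)
  · -- G is a p-group
    have hpow : n = p ^ n.primeFactorsList.length := by
      apply Nat.eq_prime_pow_of_unique_prime_dvd hn0
      intro d hd hdn
      by_contra hne
      apply hbig
      refine ⟨d, hd, hdn, lt_of_le_of_ne (Nat.minFac_le_of_dvd hd.two_le hdn) (Ne.symm hne)⟩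
    have hGp : IsPGroup p G := IsPGroup.of_card (n := n.primeFactorsList.length) (by rw [hn]; exact hpow)
    have := hGp.isNilpotent
    infer_instance

theorem result {G : Type*} [Group G] [Finite G] (h : ∀ p : ℕ, p.Prime → p ∣ Nat.card G → (∃ q : ℕ, q.Prime ∧ q ∣ Nat.card G ∧ p < q) → ∀ P : Sylow p G, IsMulCommutative (P : Subgroup G) ∧ Group.rank (P : Subgroup G) ≤ 2) (h12 : ¬ 12 ∣ Nat.card G) : Group.IsSolvable G :=
  solv_aux (Nat.card G) G rfl h h12

end Cfsg.Agent.S3970
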