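import Mathlib
import Cfsg.Statements.S3971
import Cfsg.Agent.Lib_helper20_Cyc2
import Cfsg.Agent.S0071
import Cfsg.Agent.S3986

set_option autoImplicit false
open Cfsg

namespace Cfsg.Agent.S3971

open Cfsg.Agent.helper20

theorem card_pattern : Fintype.card {b : Bool × Bool // b ≠ (true, true)} = 3 := by decide

/-- a subgroup `M ≤ Q` meets a cyclic subgroup of index ≤ 2 of `Q` in a cyclic subgroup of index ≤ 2 -/
theorem exists_cyc2_of_le {G : Type*} [Group G] [Finite G] (Q M : Subgroup G) (hMQ : M ≤ Q)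
    (c : G) (hc : c ∈ Q) (k : ℕ) (hcard : Nat.card Q * k ≤ 2 * k * orderOf c) (hk : 0 < k) :
    ∃ c' : G, c' ∈ M ∧ Nat.card M ≤ 2 * orderOf c' := by
  have hcyc : IsCyclic ↥(M ⊓ Subgroup.zpowers c) := Subgroup.isCyclic_of_le inf_le_right
  obtain ⟨c', hc'⟩ := (Subgroup.isCyclic_iff_exists_zpowers_eq_top _).mp hcyc
  have hc'M : c' ∈ M := by
    have : c' ∈ M ⊓ Subgroup.zpowers c := by rw [← hc']; exact Subgroup.mem_zpowers c'
    exact this.1
  refine ⟨c', hc'M, ?_⟩
  have h1 := Cfsg.Agent.S0606.card_mul_card_le M (Subgroup.zpowers c)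
  have h2 : Nat.card (M ⊔ Subgroup.zpowers c : Subgroup G) ≤ Nat.card Q :=
    Subgroup.card_le_of_le (sup_le hMQ (by rw [Subgroup.zpowers_le]; exact hc))
  have h3 : Nat.card (M ⊓ Subgroup.zpowers c : Subgroup G) = orderOf c' := by
    rw [← hc', Nat.card_zpowers]
  rw [Nat.card_zpowers, h3] at h1
  have hpos : 0 < orderOf c := orderOf_pos c
  have h4 : Nat.card M * orderOf c ≤ Nat.card Q * orderOf c' :=
    le_trans h1 (Nat.mul_le_mul_right _ h2)
  -- multiply by k
  have h5 : Nat.card M * (orderOf c * k) ≤ (2 * orderOf c') * (orderOf c * k) := by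
    calc Nat.card M * (orderOf c * k) = (Nat.card M * orderOf c) * k := by ring
      _ ≤ (Nat.card Q * orderOf c') * k := Nat.mul_le_mul_right _ h4
      _ = (Nat.card Q * k) * orderOf c' := by ring
      _ ≤ (2 * k * orderOf c) * orderOf c' := Nat.mul_le_mul_right _ hcard
      _ = (2 * orderOf c') * (orderOf c * k) := by ring
  exact Nat.le_of_mul_le_mul_right h5 (Nat.mul_pos hpos hk)

theorem commute_of_cyc2 {G : Type*} [Group G] [Finite G] (g : G) (r b : ℕ) (hr : r.Prime) (hr5 : 5 ≤ r)
    (hg : orderOf g = r ^ b) :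
    ∀ (n : ℕ) (Q : Subgroup G), Nat.card Q = n → IsPGroup 2 Q →
      (∃ c : G, c ∈ Q ∧ Nat.card Q ≤ 2 * orderOf c) → g ∈ Subgroup.normalizer (Q : Set G) →
      ∀ y ∈ Q, g * y = y * g := by
  classical
  have h2r : Nat.Coprime 2 r := (Nat.coprime_primes Nat.prime_two hr).mpr (by omega)
  intro n
  induction n using Nat.strong_induction_on with
  | _ n IH =>
  intro Q hn hQ2 hcyc2 hgN y hy
  obtain ⟨c, hcQ, hcard⟩ := hcyc2
  have hgpow : ∀ j : ℕ, g ^ j ∈ Subgroup.normalizer (Q : Set G) := fun j => Subgroup.pow_mem _ hgN j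
  by_cases hcyc : ∃ z ∈ Q, Subgroup.zpowers z = Q
  · obtain ⟨z, hzQ, hz⟩ := hcyc
    have hzN : g * z * g⁻¹ ∈ Subgroup.zpowers z := by
      rw [hz]
      exact (Subgroup.mem_normalizer_iff.mp hgN z).mp hzQ
    obtain ⟨k, hk⟩ := IsPGroup.iff_card.mp hQ2
    have hoz : orderOf z = 2 ^ k := by
      rw [← Nat.card_zpowers, hz, hk]
    have hco : Nat.Coprime (Nat.totient (orderOf z)) (orderOf g) := by
      rw [hoz, hg]
      cases k with
      | zero => simp
      | succ k =>
        rw [Nat.totient_prime_pow_succ Nat.prime_two]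
        simp only [Nat.add_one_sub_one, mul_one]
        exact Nat.Coprime.pow _ _ h2r
    have hcomm : Commute g z := commute_of_normalizes_zpowers g z hzN hco
    have hyz : y ∈ Subgroup.zpowers z := by rw [hz]; exact hy
    obtain ⟨i, rfl⟩ := Subgroup.mem_zpowers_iff.mp hyz
    exact (hcomm.zpow_right i).eq
  · push Not at hcyc
    have hczQ : Subgroup.zpowers c ≤ Q := by rw [Subgroup.zpowers_le]; exact hcQ
    have hcne : Subgroup.zpowers c ≠ Q := hcyc c hcQ
    have hclt : Subgroup.zpowers c < Q := lt_of_le_of_ne hczQ hcne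
    obtain ⟨d, hdQ, hdc⟩ := SetLike.exists_of_lt hclt
    have hoc_pos : 0 < orderOf c := orderOf_pos c
    have hoc_dvd : orderOf c ∣ Nat.card Q := by
      rw [← Nat.card_zpowers]; exact Subgroup.card_dvd_of_le hczQ
    have hoc_lt : orderOf c < Nat.card Q := by
      rw [← Nat.card_zpowers]
      by_contra hle
      push Not at hle
      exact hcne (Subgroup.eq_of_le_of_card_ge hczQ hle)
    have hcardQ : Nat.card Q = 2 * orderOf c := by
      obtain ⟨k, hk⟩ := hoc_dvd
      rw [hk] at hoc_lt hcard ⊢
      have hk2 : k = 2 := by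
        have h1 : 1 < k := by
          by_contra h
          push Not at h
          have : orderOf c * k ≤ orderOf c * 1 := Nat.mul_le_mul_left _ h
          omega
        have h2 : k ≤ 2 := by
          have : orderOf c * k ≤ orderOf c * 2 := by rw [mul_comm _ 2]; exact hcard
          exact Nat.le_of_mul_le_mul_left this hoc_pos
        omega
      rw [hk2, mul_comm]
    -- Q is generated by c, d
    have hgen : Q ≤ Subgroup.closure {c, d} := by
      have hKQ : Subgroup.closure {c, d} ≤ Q := by
        rw [Subgroup.closure_le]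
        intro w hw
        rcases hw with rfl | hw
        · exact hcQ
        · rw [Set.mem_singleton_iff] at hw; rw [hw]; exact hdQ
      have hcK : Subgroup.zpowers c ≤ Subgroup.closure {c, d} := by
        rw [Subgroup.zpowers_le]; exact Subgroup.subset_closure (by simp)
      have hdK : d ∈ Subgroup.closure {c, d} := Subgroup.subset_closure (by simp)
      have h1 : orderOf c ∣ Nat.card (Subgroup.closure {c, d} : Subgroup G) := by
        rw [← Nat.card_zpowers]; exact Subgroup.card_dvd_of_le hcK
      have h2 : Nat.card (Subgroup.closure {c, d} : Subgroup G) ∣ 2 * orderOf c := by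
        rw [← hcardQ]; exact Subgroup.card_dvd_of_le hKQ
      have h3 : orderOf c < Nat.card (Subgroup.closure {c, d} : Subgroup G) := by
        rw [← Nat.card_zpowers]
        by_contra hle
        push Not at hle
        have := Subgroup.eq_of_le_of_card_ge hcK hle
        rw [← this] at hdK
        exact hdc hdK
      obtain ⟨k, hk⟩ := h1
      rw [hk] at h2 h3
      have hk2 : k = 2 := by
        have hk1 : 1 < k := by
          by_contra h
          push Not at h
          have : orderOf c * k ≤ orderOf c * 1 := Nat.mul_le_mul_left _ h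
          omega
        have hkd : k ∣ 2 := by
          rw [mul_comm 2] at h2
          exact (Nat.mul_dvd_mul_iff_left hoc_pos).mp h2
        have := Nat.le_of_dvd (by norm_num) hkd
        omega
      have hcardK : Nat.card Q ≤ Nat.card (Subgroup.closure {c, d} : Subgroup G) := by
        rw [hk, hk2, hcardQ, mul_comm]
      rw [Subgroup.eq_of_le_of_card_ge hKQ hcardK]
    have hyne : Subgroup.zpowers y ≠ Q := hcyc y hy
    obtain ⟨M, hMQ, hyM, hMcard⟩ := exists_idx2_containing Q hQ2 y hy hyne
    have hMpos : 0 < Nat.card M := Nat.card_pos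
    -- the conjugates of M
    have hMj_le : ∀ j : ℕ, M.map (MulAut.conj (g ^ j)).toMonoidHom ≤ Q := by
      intro j w hw
      obtain ⟨x, hx, rfl⟩ := hw
      simp only [MulEquiv.coe_toMonoidHom, MulAut.conj_apply]
      exact (Subgroup.mem_normalizer_iff.mp (hgpow j) x).mp (hMQ hx)
    have hMj_card : ∀ j : ℕ, Nat.card (M.map (MulAut.conj (g ^ j)).toMonoidHom) * 2 = Nat.card Q := by
      intro j
      have : Nat.card (M.map (MulAut.conj (g ^ j)).toMonoidHom) = Nat.card M :=
        (Nat.card_congr (M.equivMapOfInjective _ (MulAut.conj (g ^ j)).injective).toEquiv).symm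
      rw [this, hMcard]
    have hpat_ne : ∀ j : ℕ, ((decide (c ∈ M.map (MulAut.conj (g ^ j)).toMonoidHom),
        decide (d ∈ M.map (MulAut.conj (g ^ j)).toMonoidHom)) : Bool × Bool) ≠ (true, true) := by
      intro j hpat
      simp only [Prod.mk.injEq, decide_eq_true_eq] at hpat
      have hle : Subgroup.closure {c, d} ≤ M.map (MulAut.conj (g ^ j)).toMonoidHom := by
        rw [Subgroup.closure_le]
        intro w hw
        rcases hw with rfl | hw
        · exact hpat.1
        · rw [Set.mem_singleton_iff] at hw; rw [hw]; exact hpat.2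
      have := Subgroup.card_le_of_le (le_trans hgen hle)
      have h2 := hMj_card j
      omega
    let f : Fin 4 → {b : Bool × Bool // b ≠ (true, true)} := fun j =>
      ⟨(decide (c ∈ M.map (MulAut.conj (g ^ (j : ℕ))).toMonoidHom),
        decide (d ∈ M.map (MulAut.conj (g ^ (j : ℕ))).toMonoidHom)), hpat_ne j⟩
    obtain ⟨i, j, hij, hfij⟩ := Fintype.exists_ne_map_eq_of_card_lt f (by rw [card_pattern]; simp)
    have hpat : ∀ i j : Fin 4, f i = f j →
        M.map (MulAut.conj (g ^ (i : ℕ))).toMonoidHom = M.map (MulAut.conj (g ^ (j : ℕ))).toMonoidHom := by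
      intro i j hfij
      have h1 := congrArg Subtype.val hfij
      simp only [f, Prod.mk.injEq, decide_eq_decide] at h1
      exact idx2_eq_of_pattern Q _ _ (hMj_le i) (hMj_le j) (hMj_card i) (hMj_card j) c d hcQ hdQ hgen h1.1 h1.2
    -- from equality of conjugates get a small power normalizing M
    have hsmall : ∀ i j : ℕ, i < j → j < 4 →
        M.map (MulAut.conj (g ^ i)).toMonoidHom = M.map (MulAut.conj (g ^ j)).toMonoidHom →
        g ∈ Subgroup.normalizer (M : Set G) := by
      intro i j hij hj4 heq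
      apply mem_normalizer_of_pow_mem M g (j - i)
      · rw [hg]
        apply Nat.Coprime.pow_right
        exact ((Nat.Prime.coprime_iff_not_dvd hr).mpr
          (Nat.not_dvd_of_pos_of_lt (by omega) (by omega))).symm
      · apply Cfsg.Agent.S3982.mem_normalizer_of_finite
        intro x hx
        have h1 : g ^ j * x * (g ^ j)⁻¹ ∈ M.map (MulAut.conj (g ^ j)).toMonoidHom :=
          ⟨x, hx, rfl⟩
        rw [← heq] at h1
        obtain ⟨x', hx', hxx'⟩ := h1
        simp only [MulEquiv.coe_toMonoidHom, MulAut.conj_apply] at hxx'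
        have h2 : g ^ (j - i) * x * (g ^ (j - i))⁻¹ = x' := by
          have hji : g ^ j = g ^ i * g ^ (j - i) := by rw [← pow_add]; congr 1; omega
          rw [hji] at hxx'
          have := congrArg (fun t => (g ^ i)⁻¹ * t * g ^ i) hxx'
          simp only [mul_assoc, mul_inv_rev, inv_mul_cancel_left, inv_mul_cancel, mul_one] at this
          rw [← mul_assoc] at this
          simpa [mul_assoc] using this.symm
        rw [h2]; exact hx'
    have hgM : g ∈ Subgroup.normalizer (M : Set G) := by
      rcases lt_or_gt_of_ne (fun h => hij (Fin.ext h) : (i : ℕ) ≠ (j : ℕ)) with hlt | hlt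
      · exact hsmall i j hlt j.2 (hpat i j hfij)
      · exact hsmall j i hlt i.2 (hpat j i hfij.symm)
    -- apply induction to M
    have hMlt : Nat.card M < n := by rw [← hn]; omega
    have hM2 : IsPGroup 2 M := hQ2.to_le hMQ
    have hMcyc := exists_cyc2_of_le Q M hMQ c hcQ 1 (by rw [hcardQ]; omega) one_pos
    exact IH (Nat.card M) hMlt M rfl hM2 hMcyc hgM y hyM

theorem result {G : Type*} [Group G] [Finite G] (a n : ℕ) (hG : Nat.card G = 2 ^ a * n) (hn : Odd n) (h3 : ¬ 3 ∣ n) (hx : ∃ x : G, orderOf x = 2 ^ (a - 1)) : ∃ N : Subgroup G, N.Normal ∧ Nat.card N = n := by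
  have : Fact (Nat.Prime 2) := ⟨Nat.prime_two⟩
  obtain ⟨x, hx⟩ := hx
  have hn0 : n ≠ 0 := by rintro rfl; simp at hn
  have h2n : ¬ 2 ∣ n := by
    rw [← even_iff_two_dvd, Nat.not_even_iff_odd]; exact hn
  have hZ : IsPGroup 2 (Subgroup.zpowers x) :=
    IsPGroup.of_card (n := a - 1) (by rw [Nat.card_zpowers, hx])
  obtain ⟨P, hP⟩ := hZ.exists_le_sylow
  have hPcard : Nat.card P = 2 ^ a := by
    rw [Sylow.card_eq_multiplicity, hG, Nat.factorization_mul (by positivity) hn0]
    simp [Nat.Prime.factorization_pow Nat.prime_two, Nat.factorization_eq_zero_of_not_dvd h2n]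
  have hxP : x ∈ (P : Subgroup G) := hP (Subgroup.mem_zpowers x)
  have hmain : ∀ Q : Subgroup G, Q ≤ (P : Subgroup G) → ∀ g ∈ Subgroup.normalizer (Q : Set G),
      Nat.Coprime (orderOf g) 2 → g ∈ Subgroup.centralizer (Q : Set G) := by
    intro Q hQP g hgN hcop
    have hQ2 : IsPGroup 2 Q := P.isPGroup'.to_le hQP
    have hcyc2 : ∃ c : G, c ∈ Q ∧ Nat.card Q ≤ 2 * orderOf c := by
      apply exists_cyc2_of_le (P : Subgroup G) Q hQP x hxP (2 ^ (a - 1)) _ (by positivity)
      rw [hPcard, hx]
      cases a with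
      | zero => simp
      | succ a =>
        simp only [Nat.add_one_sub_one]
        rw [pow_succ]
        nlinarith [Nat.pos_of_ne_zero (pow_ne_zero a (two_ne_zero : (2 : ℕ) ≠ 0))]
    apply Cfsg.Agent.S3986.mem_of_primePow_powers (Subgroup.centralizer (Q : Set G)) (orderOf g) g rfl
      (orderOf_pos g).ne'
    intro k hk
    obtain ⟨q, b, hq, hqb⟩ := hk
    have hgkN : g ^ k ∈ Subgroup.normalizer (Q : Set G) := Subgroup.pow_mem _ hgN k
    rcases Nat.eq_zero_or_pos b with hb0 | hbpos
    · rw [hb0, pow_zero, orderOf_eq_one_iff] at hqb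
      rw [hqb]; exact Subgroup.one_mem _
    · have hqdvd : q ∣ orderOf g :=
        dvd_trans (hqb ▸ dvd_pow_self q hbpos.ne') (orderOf_pow_dvd k)
      have hq2 : q ≠ 2 := by
        rintro rfl
        have := Nat.dvd_gcd hqdvd (dvd_refl 2)
        rw [hcop.gcd_eq_one] at this
        omega
      have hqG : q ∣ 2 ^ a * n := hG ▸ dvd_trans hqdvd (orderOf_dvd_natCard g)
      have hqn : q ∣ n := by
        have hco : Nat.Coprime q (2 ^ a) :=
          Nat.Coprime.pow_right _ ((Nat.coprime_primes hq Nat.prime_two).mpr hq2)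
        exact hco.dvd_of_dvd_mul_left hqG
      have hq3 : q ≠ 3 := by rintro rfl; exact h3 hqn
      have hq5 : 5 ≤ q := by
        have h2le := hq.two_le
        by_contra hlt
        push Not at hlt
        interval_cases q
        · exact hq2 rfl
        · exact hq3 rfl
        · exact absurd hq (by decide)
      have hcomm := commute_of_cyc2 (g ^ k) q b hq hq5 hqb (Nat.card Q) Q rfl hQ2 hcyc2 hgkN
      rw [Subgroup.mem_centralizer_iff]
      intro y hy
      exact (hcomm y hy).symm
  obtain ⟨N, hN, hNc⟩ := (Cfsg.Agent.S0071.result P).mpr hmain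
  refine ⟨N, hN, ?_⟩
  have h1 := hNc.card_mul_card
  rw [hPcard, hG, mul_comm] at h1
  exact Nat.eq_of_mul_eq_mul_left (by positivity) h1

end Cfsg.Agent.S3971
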