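import Mathlib
import Cfsg.Statements.S3972
import Cfsg.Agent.Lib_helper20_SchG

set_option autoImplicit false
set_option linter.style.haveILetI false
open Cfsg

namespace Cfsg.Agent.S3972

open Cfsg.Agent.helper20.Sch
open scoped Pointwise

/-- Let `p` be a prime, `m ≥ 2`, and `G` a transitive but not doubly transitive permutation group on `p ^ m` points containing a permutation of order `p ^ m` (necessarily a full cycle). Then `G` is imprimitive, and the normal closure in `G` of the `p ^ (m - 1)`-th power of that permutation is an intransitive normal subgroup. -/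
theorem result {Ω : Type*} [Fintype Ω] [DecidableEq Ω] (p m : ℕ) (hp : p.Prime) (hm : 2 ≤ m) (hΩ : Fintype.card Ω = p ^ m) (G : Subgroup (Equiv.Perm Ω)) (htr : MulAction.IsPretransitive G Ω) (h2 : ¬ MulAction.IsMultiplyPretransitive G Ω 2) (g : G) (hg : orderOf g = p ^ m) : ¬ MulAction.IsPreprimitive G Ω ∧ ¬ MulAction.IsPretransitive (Subgroup.normalClosure ({g ^ (p ^ (m - 1))} : Set G)) Ω := by
  have hcard : Nat.card Ω = p ^ m := by rw [Nat.card_eq_fintype_card, hΩ]
  have hgm : g ^ (p ^ m) = 1 := by rw [← hg]; exact pow_orderOf_eq_one g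
  obtain ⟨ω₀, hinj⟩ := exists_free_point (Ω := Ω) g p m hp (by omega) hg
  have hn2 : 2 ≤ p ^ m := by
    calc 2 ≤ p := hp.two_le
      _ = p ^ 1 := (pow_one p).symm
      _ ≤ p ^ m := Nat.pow_le_pow_right hp.pos (by omega)
  have hcomp : ¬ (p ^ m).Prime := Nat.Prime.not_prime_pow hm
  have hnprim : ¬ MulAction.IsPreprimitive G Ω := by
    intro hprim
    exact h2 (cyclic_two_trans g (p ^ m) hcard hgm ω₀ hinj hn2 hcomp hprim)
  refine ⟨hnprim, ?_⟩
  -- a nontrivial block
  have hexB : ∃ B : Set Ω, MulAction.IsBlock G B ∧ ¬ MulAction.IsTrivialBlock B := by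
    by_contra hcon
    push Not at hcon
    exact hnprim ⟨fun {B} hB => hcon B hB⟩
  obtain ⟨B, hB, hBt⟩ := hexB
  have hBn : ¬ B.Subsingleton := fun h => hBt (Or.inl h)
  have hBu : B ≠ Set.univ := fun h => hBt (Or.inr h)
  -- regularity of ⟨g⟩
  haveI : NeZero (p ^ m) := ⟨by omega⟩
  obtain ⟨e, he⟩ := exists_equiv_zmod g (p ^ m) hcard hgm ω₀ hinj
  have hreg : ∀ a b : Ω, a ≠ b → ∃ j, 0 < j ∧ j < p ^ m ∧ g ^ j • a = b := by
    intro a b hab
    have hj : g ^ (e b - e a).val • a = b := by
      apply e.injective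
      rw [he, ZMod.natCast_zmod_val, add_sub_cancel]
    refine ⟨(e b - e a).val, ?_, ZMod.val_lt _, hj⟩
    rcases Nat.eq_zero_or_pos (e b - e a).val with h0 | h0
    · exfalso
      rw [h0, pow_zero, one_smul] at hj
      exact hab hj
    · exact h0
  have hk := pow_pred_mem_blockKer g p m hp hgm hreg B hB hBn
  apply not_pretransitive_of_le_blockKer B hBn hBu
  apply Subgroup.normalClosure_le_normal
  intro x hx
  rw [Set.mem_singleton_iff] at hx
  rw [hx]
  exact hk

end Cfsg.Agent.S3972
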