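import Mathlib
import Cfsg.Statements.S3973
import Cfsg.Agent.Lib_helper20_Schur3
import Cfsg.Agent.Lib_helper20_AbRank

set_option autoImplicit false
set_option linter.style.haveILetI false
open Cfsg

namespace Cfsg.Agent.S3973

open Cfsg.Agent.helper20.Schur Cfsg.Agent.helper20.AbRank

/-- the `i`-th exponent-sum character of the free group. -/
def ee (n : ℕ) (i : Fin n) : FreeGroup (Fin n) →* Multiplicative ℤ :=
  FreeGroup.lift (fun j => if j = i then Multiplicative.ofAdd (1 : ℤ) else 1)

theorem ee_of (n : ℕ) (i j : Fin n) :
    ee n i (FreeGroup.of j) = if j = i then Multiplicative.ofAdd (1 : ℤ) else 1 := by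
  simp [ee]

theorem abOf_eq_prod (n : ℕ) (w : FreeGroup (Fin n)) :
    Abelianization.of w =
      ∏ i, (Abelianization.of (FreeGroup.of i)) ^ (Multiplicative.toAdd (ee n i w)) := by
  induction w using FreeGroup.induction_on with
  | C1 => simp
  | of j =>
    rw [Finset.prod_eq_single j]
    · simp [ee_of]
    · intro i _ hi
      rw [ee_of, if_neg (Ne.symm hi)]; simp
    · intro h; exact absurd (Finset.mem_univ _) h
  | inv_of j ih =>
    rw [map_inv, ih, ← Finset.prod_inv_distrib]
    apply Finset.prod_congr rfl
    intro i _
    rw [map_inv, toAdd_inv, zpow_neg]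
  | mul x y ihx ihy =>
    rw [map_mul, ihx, ihy, ← Finset.prod_mul_distrib]
    apply Finset.prod_congr rfl
    intro i _
    rw [map_mul, toAdd_mul, zpow_add]

theorem mem_commutator_of_ee (n : ℕ) (w : FreeGroup (Fin n)) (h : ∀ i, ee n i w = 1) :
    w ∈ commutator (FreeGroup (Fin n)) := by
  rw [← Abelianization.ker_of, MonoidHom.mem_ker, abOf_eq_prod]
  apply Finset.prod_eq_one
  intro i _
  rw [h i]; simp

theorem result (n : ℕ) (rels : Finset (FreeGroup (Fin n))) [Finite (PresentedGroup (rels : Set (FreeGroup (Fin n))))] {A : Type*} [CommGroup A] [Finite A] (hA : Cfsg.HasSchurMultiplier (PresentedGroup (rels : Set (FreeGroup (Fin n)))) A) : Group.rank A ≤ rels.card - n := by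
  classical
  set π : FreeGroup (Fin n) →* PresentedGroup (rels : Set (FreeGroup (Fin n))) :=
    PresentedGroup.mk _ with hπdef
  have hπ : Function.Surjective π := PresentedGroup.mk_surjective _
  obtain ⟨e⟩ := (hasSchurMultiplier_iff π hπ).mp hA
  haveI := finite_MM π
  -- characters on E
  have hle : ∀ i, relComm π ≤ (ee n i).ker := by
    intro i
    refine le_trans ?_ (Abelianization.commutator_subset_ker (ee n i))
    rw [commutator_def]
    exact Subgroup.commutator_mono le_top le_rfl
  let χ : Fin n → (EE π →* Multiplicative ℤ) := fun i =>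
    QuotientGroup.lift (relComm π) (ee n i) (hle i)
  have hχ : ∀ i (w : FreeGroup (Fin n)), χ i (QuotientGroup.mk w) = ee n i w := fun i w => rfl
  have hvalχ : ∀ i (w : FreeGroup (Fin n)),
      val (χ i) (QuotientGroup.mk w) = Multiplicative.toAdd (ee n i w) := fun i w => rfl
  -- commutator of E
  have hcomm : commutator (EE π) = ⨅ i, (χ i).ker := by
    apply le_antisymm
    · refine le_iInf (fun i => Abelianization.commutator_subset_ker (χ i))
    · intro x hx
      obtain ⟨w, rfl⟩ := QuotientGroup.mk_surjective x
      rw [Subgroup.mem_iInf] at hx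
      have hw : w ∈ commutator (FreeGroup (Fin n)) := by
        apply mem_commutator_of_ee
        intro i
        have := hx i
        rw [MonoidHom.mem_ker, hχ] at this
        exact this
      have hmap : (commutator (FreeGroup (Fin n))).map (QuotientGroup.mk' (relComm π)) ≤
          commutator (EE π) := by
        rw [commutator_def, commutator_def, Subgroup.map_commutator]
        exact Subgroup.commutator_mono le_top le_top
      exact hmap ⟨w, hw, rfl⟩
  -- generators of the kernel
  set S : Finset (EE π) := rels.image (fun w => (QuotientGroup.mk w : EE π)) with hSdef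
  have hScard : S.card ≤ rels.card := Finset.card_image_le
  have hSker : ∀ s ∈ S, s ∈ (eps π).ker := by
    intro s hs
    rw [hSdef, Finset.mem_image] at hs
    obtain ⟨w, hw, rfl⟩ := hs
    rw [MonoidHom.mem_ker, eps_mk]
    exact PresentedGroup.one_of_mem (Finset.mem_coe.mpr hw)
  have hScen : ∀ s ∈ S, s ∈ Subgroup.center (EE π) := fun s hs =>
    ker_eps_le_center π (hSker s hs)
  have hclS : Subgroup.closure (S : Set (EE π)) = (eps π).ker := by
    apply le_antisymm
    · rw [Subgroup.closure_le]
      intro s hs
      exact hSker s hs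
    · intro z hz
      obtain ⟨x, rfl⟩ := QuotientGroup.mk_surjective z
      rw [MonoidHom.mem_ker, eps_mk] at hz
      have hx : x ∈ Subgroup.normalClosure (rels : Set (FreeGroup (Fin n))) :=
        PresentedGroup.mk_eq_one_iff.mp hz
      haveI : (Subgroup.closure (S : Set (EE π))).Normal :=
        normal_of_le_ker π _ ((Subgroup.closure_le _).mpr (fun s hs => hSker s hs))
      have h1 : Subgroup.normalClosure (rels : Set (FreeGroup (Fin n))) ≤
          (Subgroup.closure (S : Set (EE π))).comap (QuotientGroup.mk' (relComm π)) := by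
        apply Subgroup.normalClosure_le_normal
        intro w hw
        rw [SetLike.mem_coe, Subgroup.mem_comap]
        apply Subgroup.subset_closure
        rw [hSdef, Finset.coe_image]
        exact ⟨w, hw, rfl⟩
      exact h1 hx
  -- independence
  have hind : ∀ c : Fin n → ℤ,
      (∀ b ∈ Subgroup.closure (S : Set (EE π)), ∑ i, c i * val (χ i) b = 0) →
      ∀ i, c i = 0 := by
    intro c hc j
    set m := Nat.card (PresentedGroup (rels : Set (FreeGroup (Fin n)))) with hm
    have hm0 : (m : ℤ) ≠ 0 := by
      rw [hm]; exact_mod_cast Nat.card_pos.ne'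
    have hmem : (QuotientGroup.mk ((FreeGroup.of j) ^ m) : EE π) ∈
        Subgroup.closure (S : Set (EE π)) := by
      rw [hclS, MonoidHom.mem_ker, eps_mk, map_pow, hm]
      exact pow_card_eq_one'
    have h1 := hc _ hmem
    have h2 : ∀ i : Fin n, c i * val (χ i) (QuotientGroup.mk ((FreeGroup.of j) ^ m) : EE π) =
        (m : ℤ) * (if j = i then c i else 0) := by
      intro i
      rw [hvalχ, map_pow, ee_of, toAdd_pow]
      split_ifs <;> simp [mul_comm]
    rw [Finset.sum_congr rfl (fun i _ => h2 i), ← Finset.mul_sum] at h1
    rcases mul_eq_zero.mp h1 with h | h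
    · exact absurd h hm0
    · simpa using h
  obtain ⟨T, hTc, hT⟩ := exists_gens_iInf_ker n χ S hScen hind
  rw [hclS, ← hcomm] at hT
  have hMM : MM π = Subgroup.closure (T : Set (EE π)) := hT.symm
  have h1 : Group.rank A = Group.rank (MM π) := Group.rank_congr e
  have h2 : Group.rank (MM π) = Group.rank (Subgroup.closure (T : Set (EE π))) :=
    Subgroup.rank_congr hMM
  have h3 := Subgroup.rank_closure_finset_le_card T
  omega

end Cfsg.Agent.S3973
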