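import Mathlib
import Cfsg.Statements.S3976
import Cfsg.Agent.Lib_helper20_Wielandt

set_option autoImplicit false
open Cfsg

namespace Cfsg.Agent.S3976

theorem map_conj_eq_of_normal {G : Type*} [Group G] (H : Subgroup G) [hH : H.Normal] (g : G) :
    H.map (MulAut.conj g).toMonoidHom = H := by
  ext x
  rw [Subgroup.mem_map]
  constructor
  · rintro ⟨y, hy, rfl⟩
    exact hH.conj_mem y hy g
  · intro hx
    refine ⟨g⁻¹ * x * g, ?_, ?_⟩
    · have := hH.conj_mem x hx g⁻¹
      rw [inv_inv] at this; exact this
    · simp [MulAut.conj_apply, mul_assoc]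

theorem result {G : Type*} [Group G] [Finite G] (p m s : ℕ) (hp : p.Prime) (hG : Nat.card G = p ^ m) (hs : s ≤ m) : Nat.card {H : Subgroup G // H.Normal ∧ Nat.card H = p ^ s} ≡ 1 [MOD p] := by
  have : Fact p.Prime := ⟨hp⟩
  have hPG : IsPGroup p G := IsPGroup.of_card hG
  have hdiv : p ^ s ∣ Nat.card G := by rw [hG]; exact pow_dvd_pow p hs
  have hall := Cfsg.Agent.helper20.card_subgroups_modEq_one (G := G) p s hp hdiv
  let X := {H : Subgroup G // Nat.card H = p ^ s}
  let act : MulAction G X :=
    { smul := fun g H => ⟨H.1.map (MulAut.conj g).toMonoidHom, by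
        rw [Subgroup.card_map_of_injective (MulAut.conj g).injective]; exact H.2⟩
      one_smul := fun H => Subtype.ext (by
        show H.1.map (MulAut.conj (1 : G)).toMonoidHom = H.1
        ext x
        simp [Subgroup.mem_map])
      mul_smul := fun g h H => Subtype.ext (by
        show H.1.map (MulAut.conj (g * h)).toMonoidHom =
          (H.1.map (MulAut.conj h).toMonoidHom).map (MulAut.conj g).toMonoidHom
        ext x
        simp [Subgroup.mem_map, mul_assoc]) }
  have hsmul : ∀ (g : G) (H : X), ((g • H : X) : Subgroup G) =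
      (H : Subgroup G).map (MulAut.conj g).toMonoidHom := fun g H => rfl
  have hfix := hPG.card_modEq_card_fixedPoints X
  have hequiv : Nat.card (MulAction.fixedPoints G X) =
      Nat.card {H : Subgroup G // H.Normal ∧ Nat.card H = p ^ s} := by
    apply Nat.card_congr
    refine
      { toFun := fun H => ⟨H.1.1, ?_, H.1.2⟩
        invFun := fun H => ⟨⟨H.1, H.2.2⟩, ?_⟩
        left_inv := fun H => rfl
        right_inv := fun H => rfl }
    · have hH := H.2
      constructor
      intro n hn g
      have h1 : g • H.1 = H.1 := hH g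
      have h2 : ((g • H.1 : X) : Subgroup G) = H.1.1 := congrArg Subtype.val h1
      rw [hsmul] at h2
      rw [← h2]
      exact Subgroup.mem_map.mpr ⟨n, hn, rfl⟩
    · intro g
      apply Subtype.ext
      rw [hsmul]
      have : H.1.Normal := H.2.1
      exact map_conj_eq_of_normal H.1 g
  rw [← hequiv]
  exact hfix.symm.trans hall

end Cfsg.Agent.S3976
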