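import Mathlib
import Cfsg.Statements.S3977
import Cfsg.Agent.Lib_helper1_PGroup

set_option autoImplicit false
open Cfsg

namespace Cfsg.Agent.S3977

universe u

theorem conj_pow_aux {G : Type*} [Group G] (b w e : G) (he : b * w = e * w * b) (_heb : Commute e b)
    (hew : Commute e w) (n : ℕ) : e ^ n * w ^ n * b = b * w ^ n := by
  induction n with
  | zero => simp
  | succ n ih =>
    calc e ^ (n + 1) * w ^ (n + 1) * b = e ^ n * e * (w ^ n * w) * b := by rw [pow_succ, pow_succ]
      _ = e ^ n * (e * w ^ n) * w * b := by group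
      _ = e ^ n * (w ^ n * e) * w * b := by rw [(hew.pow_right n).eq]
      _ = e ^ n * w ^ n * (e * w * b) := by group
      _ = e ^ n * w ^ n * (b * w) := by rw [he]
      _ = (e ^ n * w ^ n * b) * w := by group
      _ = b * w ^ n * w := by rw [ih]
      _ = b * w ^ (n + 1) := by rw [pow_succ, mul_assoc]

theorem mul_pow_aux {G : Type*} [Group G] (b w e : G) (he : b * w = e * w * b) (heb : Commute e b)
    (hew : Commute e w) (n : ℕ) : ∃ t : ℕ, 2 * t + n = n * n ∧ (b * w) ^ n * e ^ t = b ^ n * w ^ n := by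
  induction n with
  | zero => exact ⟨0, by simp⟩
  | succ n ih =>
    obtain ⟨t, ht, hpow⟩ := ih
    refine ⟨t + n, by ring_nf; ring_nf at ht; omega, ?_⟩
    have hebw : Commute e (b * w) := heb.mul_right hew
    have h1 : Commute (e ^ t) (b * w) := hebw.pow_left t
    have h2 : Commute (e ^ n) (w ^ n) := (hew.pow_right n).pow_left n
    have h3 : Commute (e ^ n) b := heb.pow_left n
    have h4 : Commute (e ^ n) w := hew.pow_left n
    calc (b * w) ^ (n + 1) * e ^ (t + n) = (b * w) ^ n * ((b * w) * e ^ t) * e ^ n := by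
          rw [pow_succ, pow_add]; group
      _ = (b * w) ^ n * (e ^ t * (b * w)) * e ^ n := by rw [h1.eq]
      _ = ((b * w) ^ n * e ^ t) * (b * w) * e ^ n := by group
      _ = b ^ n * w ^ n * (b * w) * e ^ n := by rw [hpow]
      _ = b ^ n * w ^ n * (b * (w * e ^ n)) := by group
      _ = b ^ n * w ^ n * (b * (e ^ n * w)) := by rw [h4.eq]
      _ = b ^ n * w ^ n * ((b * e ^ n) * w) := by group
      _ = b ^ n * w ^ n * ((e ^ n * b) * w) := by rw [h3.eq]
      _ = b ^ n * ((w ^ n * e ^ n) * b) * w := by group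
      _ = b ^ n * ((e ^ n * w ^ n) * b) * w := by rw [h2.eq]
      _ = b ^ n * (e ^ n * w ^ n * b) * w := by group
      _ = b ^ n * (b * w ^ n) * w := by rw [conj_pow_aux b w e he heb hew n]
      _ = b ^ (n + 1) * w ^ (n + 1) := by rw [pow_succ, pow_succ]; group

theorem conj_iter_aux {G : Type*} [Group G] (b w e : G) (he : b * w = e * w * b) (heb : Commute e b)
    (n : ℕ) : b ^ n * w = e ^ n * w * b ^ n := by
  induction n with
  | zero => simp
  | succ n ih =>
    calc b ^ (n + 1) * w = b * (b ^ n * w) := by rw [pow_succ']; group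
      _ = b * (e ^ n * w * b ^ n) := by rw [ih]
      _ = (b * e ^ n) * w * b ^ n := by group
      _ = (e ^ n * b) * w * b ^ n := by rw [(heb.pow_left n).eq]
      _ = e ^ n * (b * w) * b ^ n := by group
      _ = e ^ n * (e * w * b) * b ^ n := by rw [he]
      _ = e ^ (n + 1) * w * b ^ (n + 1) := by rw [pow_succ, pow_succ']; group

/-- two distinct cyclic maximal subgroups of a `p`-group produce an element of small order outside one
of them -/
theorem exists_small_order {G : Type u} [Group G] [Finite G] (p : ℕ) [hp : Fact p.Prime]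
    (hG : IsPGroup p G) (A B : Subgroup G) (hA : IsCoatom A) (hB : IsCoatom B) (hAB : A ≠ B)
    (a b : G) (ha : Subgroup.zpowers a = A) (hb : Subgroup.zpowers b = B) :
    ∃ y : G, y ∉ A ∧ ((p ≠ 2 ∧ y ^ p = 1) ∨ (p = 2 ∧ y ^ 4 = 1)) := by
  have hAn : A.Normal := Cfsg.Agent.helper1.coatom_normal_of_isPGroup hG hA
  have hBn : B.Normal := Cfsg.Agent.helper1.coatom_normal_of_isPGroup hG hB
  have haA : a ∈ A := ha ▸ Subgroup.mem_zpowers a
  have hbB : b ∈ B := hb ▸ Subgroup.mem_zpowers b
  have hbA : b ∉ A := by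
    intro h
    have hle : B ≤ A := by rw [← hb, Subgroup.zpowers_le]; exact h
    exact hAB (hB.le_iff_eq hA.1 |>.mp hle)
  have hbpA : b ^ p ∈ A := Cfsg.Agent.helper1.pow_mem_coatom_of_isPGroup hG hA b
  -- b^p = a^j with p ∣ j
  have hbp' : b ^ p ∈ Subgroup.zpowers a := ha ▸ hbpA
  rw [← mem_powers_iff_mem_zpowers, Submonoid.mem_powers_iff] at hbp'
  obtain ⟨j, hj⟩ := hbp'
  have hpj : p ∣ j := by
    by_contra hnd
    obtain ⟨n, hn⟩ := IsPGroup.iff_orderOf.mp hG a
    have hco : Nat.Coprime j (orderOf a) := by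
      rw [hn]
      exact Nat.Coprime.pow_right _ ((Nat.Prime.coprime_iff_not_dvd hp.out).mpr hnd).symm
    obtain ⟨t, ht⟩ := exists_pow_eq_self_of_coprime hco
    have haB : a ∈ B := by
      rw [← ht, hj]
      exact B.pow_mem (B.pow_mem hbB p) t
    have hle : A ≤ B := by rw [← ha, Subgroup.zpowers_le]; exact haB
    exact hAB (hA.le_iff_eq hB.1 |>.mp hle).symm
  obtain ⟨k, rfl⟩ := hpj
  set w := (a ^ k)⁻¹ with hw
  have hwA : w ∈ A := A.inv_mem (A.pow_mem haA k)
  have hwp : w ^ p = (b ^ p)⁻¹ := by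
    rw [hw, inv_pow, ← pow_mul, mul_comm k p, hj]
  set e := b * w * b⁻¹ * w⁻¹ with he
  have heA : e ∈ A := A.mul_mem (hAn.conj_mem w hwA b) (A.inv_mem hwA)
  have heB : e ∈ B := by
    have : e = b * (w * b⁻¹ * w⁻¹) := by rw [he]; group
    rw [this]
    exact B.mul_mem hbB (hBn.conj_mem b⁻¹ (B.inv_mem hbB) w)
  -- commutation inside the cyclic groups
  have hcommA : ∀ x y : G, x ∈ A → y ∈ A → Commute x y := by
    intro x y hx hy
    rw [← ha] at hx hy
    obtain ⟨i, rfl⟩ := Subgroup.mem_zpowers_iff.mp hx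
    obtain ⟨i', rfl⟩ := Subgroup.mem_zpowers_iff.mp hy
    exact (Commute.refl a).zpow_zpow i i'
  have hcommB : ∀ x y : G, x ∈ B → y ∈ B → Commute x y := by
    intro x y hx hy
    rw [← hb] at hx hy
    obtain ⟨i, rfl⟩ := Subgroup.mem_zpowers_iff.mp hx
    obtain ⟨i', rfl⟩ := Subgroup.mem_zpowers_iff.mp hy
    exact (Commute.refl b).zpow_zpow i i'
  have heb : Commute e b := hcommB e b heB hbB
  have hew : Commute e w := hcommA e w heA hwA
  have hbw : b * w = e * w * b := by rw [he]; group
  -- e^p = 1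
  have hep : e ^ p = 1 := by
    have h1 := conj_iter_aux b w e hbw heb p
    have h2 : Commute (b ^ p) w := hcommA _ _ hbpA hwA
    rw [h2.eq] at h1
    have h4 : e ^ p * (w * b ^ p) = 1 * (w * b ^ p) := by
      rw [one_mul, ← mul_assoc]; exact h1.symm
    exact mul_right_cancel h4
  refine ⟨b * w, ?_, ?_⟩
  · intro h
    apply hbA
    have : b = (b * w) * w⁻¹ := by group
    rw [this]
    exact A.mul_mem h (A.inv_mem hwA)
  · by_cases hp2 : p = 2
    · right
      refine ⟨hp2, ?_⟩
      obtain ⟨t, ht, hpow⟩ := mul_pow_aux b w e hbw heb hew 4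
      have ht6 : t = 6 := by omega
      rw [ht6] at hpow
      have he6 : e ^ 6 = 1 := by
        rw [hp2] at hep
        rw [show 6 = 2 * 3 by norm_num, pow_mul, hep, one_pow]
      rw [he6, mul_one] at hpow
      rw [hpow]
      rw [hp2] at hwp
      rw [show 4 = 2 * 2 by norm_num, pow_mul, pow_mul, hwp, inv_pow, mul_inv_cancel]
    · left
      refine ⟨hp2, ?_⟩
      obtain ⟨t, ht, hpow⟩ := mul_pow_aux b w e hbw heb hew p
      have hpt : p ∣ t := by
        have h1 : p ∣ 2 * t := by
          have : 2 * t = p * p - p := by omega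
          rw [this]
          exact Nat.dvd_sub (Dvd.intro _ rfl) (dvd_refl p)
        have hco : Nat.Coprime p 2 := (Nat.coprime_primes hp.out Nat.prime_two).mpr hp2
        exact hco.dvd_of_dvd_mul_left h1
      obtain ⟨t', rfl⟩ := hpt
      rw [pow_mul, hep, one_pow, mul_one] at hpow
      rw [hpow, hwp, mul_inv_cancel]

theorem main_aux (p : ℕ) [hp : Fact p.Prime] : ∀ (m : ℕ) (G : Type u) [Group G] [Finite G] (s : ℕ),
    Nat.card G = p ^ m → 1 ≤ s → s < m → (p ≠ 2 ∨ 2 ≤ s) →
    (∀ H K : Subgroup G, Nat.card H = p ^ s → Nat.card K = p ^ s → H = K) → IsCyclic G := by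
  intro m
  induction m using Nat.strong_induction_on with
  | _ m IH =>
  intro G _ _ s hG hs hsm h2 huniq
  have hGp : IsPGroup p G := IsPGroup.of_card hG
  have hnt : (⊥ : Subgroup G) ≠ ⊤ := by
    intro h
    have := congrArg (fun K : Subgroup G => Nat.card K) h
    simp only [Subgroup.card_bot, Subgroup.card_top, hG] at this
    have : 1 < p ^ m := Nat.one_lt_pow (by omega) hp.out.one_lt
    omega
  obtain ⟨M, hM, -⟩ := (eq_top_or_exists_le_coatom (⊥ : Subgroup G)).resolve_left hnt
  by_cases hun : ∀ A B : Subgroup G, IsCoatom A → IsCoatom B → A = B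
  · -- unique maximal subgroup: cyclic
    obtain ⟨y, -, hyM⟩ := SetLike.exists_of_lt (lt_top_iff_ne_top.mpr hM.1)
    rw [isCyclic_iff_exists_zpowers_eq_top]
    refine ⟨y, ?_⟩
    rcases eq_top_or_exists_le_coatom (Subgroup.zpowers y) with h | ⟨M', hM', hle⟩
    · exact h
    · exfalso
      rw [hun M' M hM' hM] at hle
      exact hyM (hle (Subgroup.mem_zpowers y))
  · exfalso
    push Not at hun
    obtain ⟨A, B, hA, hB, hAB⟩ := hun
    have hcardco : ∀ C : Subgroup G, IsCoatom C → Nat.card C = p ^ (m - 1) := by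
      intro C hC
      have hidx := Cfsg.Agent.helper1.coatom_index_of_isPGroup hGp hC
      have := Subgroup.card_mul_index C
      rw [hidx, hG] at this
      have hm1 : m = (m - 1) + 1 := by omega
      rw [hm1, pow_succ] at this
      exact Nat.eq_of_mul_eq_mul_right hp.out.pos this
    have hsm1 : s < m - 1 := by
      by_contra hge
      have : s = m - 1 := by omega
      apply hAB
      apply huniq
      · rw [hcardco A hA, this]
      · rw [hcardco B hB, this]
    -- coatoms are cyclic by induction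
    have hcyc : ∀ C : Subgroup G, IsCoatom C → IsCyclic C := by
      intro C hC
      apply IH (m - 1) (by omega) C s (hcardco C hC) hs hsm1 h2
      intro H K hH hK
      have hinj : Function.Injective C.subtype := C.subtype_injective
      have h1 : Nat.card (H.map C.subtype) = p ^ s := by
        rw [← hH]; exact (Nat.card_congr (H.equivMapOfInjective _ hinj).toEquiv).symm
      have h2' : Nat.card (K.map C.subtype) = p ^ s := by
        rw [← hK]; exact (Nat.card_congr (K.equivMapOfInjective _ hinj).toEquiv).symm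
      exact Subgroup.map_injective hinj (huniq _ _ h1 h2')
    obtain ⟨a, ha⟩ := (Subgroup.isCyclic_iff_exists_zpowers_eq_top A).mp (hcyc A hA)
    obtain ⟨b, hb⟩ := (Subgroup.isCyclic_iff_exists_zpowers_eq_top B).mp (hcyc B hB)
    obtain ⟨y, hyA, hy⟩ := exists_small_order p hGp A B hA hB hAB a b ha hb
    -- y ^ (p ^ s) = 1
    have hyps : y ^ (p ^ s) = 1 := by
      rcases hy with ⟨_, hy⟩ | ⟨hp2, hy⟩
      · obtain ⟨s', rfl⟩ : ∃ s', s = s' + 1 := ⟨s - 1, by omega⟩
        rw [pow_succ', pow_mul, hy, one_pow]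
      · have hs2 : 2 ≤ s := by
          rcases h2 with h | h
          · exact absurd hp2 h
          · exact h
        obtain ⟨s', rfl⟩ : ∃ s', s = s' + 2 := ⟨s - 2, by omega⟩
        rw [hp2, pow_add, show (2 : ℕ) ^ 2 = 4 by norm_num, mul_comm, pow_mul, hy, one_pow]
    -- the subgroup of order p^s inside A
    have hdvdG : p ^ s ∣ Nat.card G := by rw [hG]; exact pow_dvd_pow p hsm.le
    have hyz : ∃ j, Nat.card (Subgroup.zpowers y) = p ^ j ∧ j ≤ s := by
      obtain ⟨j, hj, hj'⟩ := (Nat.dvd_prime_pow hp.out).mp (orderOf_dvd_of_pow_eq_one hyps)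
      exact ⟨j, by rw [Nat.card_zpowers, hj'], hj⟩
    obtain ⟨j, hj, hjs⟩ := hyz
    obtain ⟨K, hK, hyK⟩ := Sylow.exists_subgroup_card_pow_prime_le p hdvdG (Subgroup.zpowers y) hj hjs
    -- a subgroup of order p^s inside A
    have hoa : orderOf a = p ^ (m - 1) := by
      rw [← Nat.card_zpowers, ha, hcardco A hA]
    have hH : Nat.card (Subgroup.zpowers (a ^ (p ^ (m - 1 - s)))) = p ^ s := by
      rw [Nat.card_zpowers, orderOf_pow_of_dvd (pow_ne_zero _ hp.out.ne_zero)
        (by rw [hoa]; exact pow_dvd_pow p (Nat.sub_le _ _)), hoa]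
      rw [Nat.pow_div (Nat.sub_le _ _) hp.out.pos]
      congr 1; omega
    have hKeq := huniq K _ hK hH
    have hyA' : y ∈ A := by
      have h1 : y ∈ K := hyK (Subgroup.mem_zpowers y)
      rw [hKeq] at h1
      have h2 : Subgroup.zpowers (a ^ (p ^ (m - 1 - s))) ≤ A := by
        rw [Subgroup.zpowers_le, ← ha]
        exact Subgroup.pow_mem _ (Subgroup.mem_zpowers a) _
      exact h2 h1
    exact hyA hyA'

theorem result {G : Type*} [Group G] [Finite G] (p m s : ℕ) (hp : p.Prime) (hG : Nat.card G = p ^ m) (hs : 1 ≤ s) (hsm : s < m) (h2 : p ≠ 2 ∨ 2 ≤ s) (huniq : ∀ H K : Subgroup G, Nat.card H = p ^ s → Nat.card K = p ^ s → H = K) : IsCyclic G := by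
  have : Fact p.Prime := ⟨hp⟩
  exact main_aux p m G s hG hs hsm h2 huniq

end Cfsg.Agent.S3977
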