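import Mathlib
import Cfsg.Statements.S3978
import Cfsg.Agent.S3955
import Cfsg.Agent.S3956

set_option autoImplicit false
set_option linter.style.haveILetI false
open Cfsg

namespace Cfsg.Agent.S3978

theorem result {Q : Type*} [Group Q] [Finite Q] : Cfsg.HasCyclicSchurMultiplier Q 1 ↔ ∀ (n : ℕ) (γ : Q →* (GL (Fin n) ℂ ⧸ Subgroup.center (GL (Fin n) ℂ))), ∃ ρ : Q →* GL (Fin n) ℂ, (QuotientGroup.mk' (Subgroup.center (GL (Fin n) ℂ))).comp ρ = γ := by
  have hid : Cfsg.IsStemExtension (MonoidHom.id Q) :=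
    ⟨Function.surjective_id, by rw [MonoidHom.ker_id]; exact bot_le,
      by rw [MonoidHom.ker_id]; exact bot_le⟩
  have hkb : ∀ y : (MonoidHom.id Q).ker, y = 1 := by
    intro y
    apply Subtype.ext
    show (y : Q) = 1
    exact MonoidHom.mem_ker.mp y.2
  have hk : Nonempty ((MonoidHom.id Q).ker ≃* Multiplicative (ZMod 1)) := by
    haveI : Unique (MonoidHom.id Q).ker := ⟨⟨1⟩, hkb⟩
    haveI : Unique (Multiplicative (ZMod 1)) :=
      ⟨⟨1⟩, fun a => Subsingleton.elim (α := Fin 1) _ _⟩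
    exact ⟨MulEquiv.ofUnique⟩
  constructor
  · intro h n γ
    obtain ⟨ρ, hρ⟩ := Cfsg.Agent.S3955.result h (MonoidHom.id Q) hid hk n γ
    exact ⟨ρ, by rw [hρ, MonoidHom.comp_id]⟩
  · intro h
    refine ⟨⟨Q, inferInstance, inferInstance, MonoidHom.id Q, hid, hk⟩, ?_⟩
    intro Δ _ _ τ hτ
    obtain ⟨p, hp⟩ := Cfsg.Agent.S3956.result (MonoidHom.id Q) hid (by
      intro n γ
      obtain ⟨ρ, hρ⟩ := h n γ
      exact ⟨ρ, by rw [hρ, MonoidHom.comp_id]⟩) Δ τ hτ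
    refine ⟨1, ?_⟩
    intro z
    obtain ⟨y, rfl⟩ := hp z
    exact ⟨1, by rw [hkb y, map_one, map_one]⟩

end Cfsg.Agent.S3978
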