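import Mathlib
import Cfsg.Statements.S3980
import Cfsg.Agent.Lib_helper20_Schur7

set_option autoImplicit false
set_option linter.style.haveILetI false
open Cfsg
open scoped commutatorElement

namespace Cfsg.Agent.S3980

open Cfsg.Agent.helper20.Schur

universe u v w

theorem result {Q₁ : Type u} {Q₂ : Type v} [Group Q₁] [Group Q₂] [Finite Q₁] [Finite Q₂] {A B : Type w} [CommGroup A] [CommGroup B] (hA : Cfsg.HasSchurMultiplier Q₁ A) (hB : Cfsg.HasSchurMultiplier Q₂ B) (hcop : Nat.Coprime (Nat.card (Abelianization Q₁)) (Nat.card (Abelianization Q₂))) : Cfsg.HasSchurMultiplier (Q₁ × Q₂) (A × B) := by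
  constructor
  · obtain ⟨Γ₁, _, _, σ₁, ⟨hs1, hc1, hd1⟩, ⟨e1⟩⟩ := hA.1
    obtain ⟨Γ₂, _, _, σ₂, ⟨hs2, hc2, hd2⟩, ⟨e2⟩⟩ := hB.1
    refine ⟨Γ₁ × Γ₂, inferInstance, inferInstance, MonoidHom.prodMap σ₁ σ₂, ⟨?_, ?_, ?_⟩, ?_⟩
    · exact Prod.map_surjective.mpr ⟨hs1, hs2⟩
    · rw [MonoidHom.ker_prodMap, Subgroup.center_prod]
      exact Subgroup.prod_mono hc1 hc2
    · rw [MonoidHom.ker_prodMap, _root_.commutator_def, ← Subgroup.top_prod_top,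
        Subgroup.commutator_prod_prod]
      exact Subgroup.prod_mono hd1 hd2
    · exact ⟨(MulEquiv.subgroupCongr (MonoidHom.ker_prodMap σ₁ σ₂)).trans
        ((Subgroup.prodEquiv _ _).trans (MulEquiv.prodCongr e1 e2))⟩
  · intro Γ _ _ σ hσ
    obtain ⟨hs, hc, hd⟩ := hσ
    obtain ⟨g₁, hg₁⟩ := exists_surj_ker_inf_commutator hA (t1 σ) (t1_surjective σ hs)
      (t1_ker_central σ hc)
    obtain ⟨g₂, hg₂⟩ := exists_surj_ker_inf_commutator hB (t2 σ) (t2_surjective σ hs)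
      (t2_ker_central σ hc)
    have hm1 : ∀ a : A, ((D1 σ).subtype.comp ((Subgroup.subtype _).comp g₁)) a ∈ σ.ker :=
      fun a => (mem_ker_t1 σ _).mp (Subgroup.mem_inf.mp (g₁ a).2).1
    have hm2 : ∀ b : B, ((D2 σ).subtype.comp ((Subgroup.subtype _).comp g₂)) b ∈ σ.ker :=
      fun b => (mem_ker_t2 σ _).mp (Subgroup.mem_inf.mp (g₂ b).2).1
    let f₁ : A →* σ.ker := MonoidHom.codRestrict _ σ.ker hm1
    let f₂ : B →* σ.ker := MonoidHom.codRestrict _ σ.ker hm2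
    have hf₁ : ∀ a, ((f₁ a : σ.ker) : Γ) = (((g₁ a : _) : D1 σ) : Γ) := fun a => rfl
    have hf₂ : ∀ b, ((f₂ b : σ.ker) : Γ) = (((g₂ b : _) : D2 σ) : Γ) := fun b => rfl
    have hcomm : ∀ a b, Commute (f₁ a) (f₂ b) := by
      intro a b
      show f₁ a * f₂ b = f₂ b * f₁ a
      apply Subtype.ext
      simp only [Subgroup.coe_mul]
      exact (Subgroup.mem_center_iff.mp (hc (f₁ a).2) _).symm
    refine ⟨MonoidHom.noncommCoprod f₁ f₂ hcomm, ?_⟩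
    intro z
    have hz : (z : Γ) ∈ σ.ker ⊓ commutator Γ := Subgroup.mem_inf.mpr ⟨z.2, hd z.2⟩
    obtain ⟨c₁, hc₁, c₂, hc₂, c₁₂, hc₁₂, hzz⟩ := ker_inf_commutator_decomp σ hs _ hz
    rw [C12_eq_bot σ hs hc hcop, Subgroup.mem_bot] at hc₁₂
    rw [hc₁₂, mul_one] at hzz
    rw [Subgroup.mem_inf] at hc₁ hc₂
    obtain ⟨hk₁, hcc₁⟩ := hc₁
    obtain ⟨hk₂, hcc₂⟩ := hc₂
    rw [← Subgroup.map_subtype_commutator] at hcc₁ hcc₂
    obtain ⟨x₁, hx₁, hxc₁⟩ := hcc₁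
    obtain ⟨x₂, hx₂, hxc₂⟩ := hcc₂
    have hx₁' : x₁ ∈ (t1 σ).ker ⊓ commutator (D1 σ) := by
      refine Subgroup.mem_inf.mpr ⟨(mem_ker_t1 σ x₁).mpr ?_, hx₁⟩
      have : (x₁ : Γ) = c₁ := hxc₁
      rw [this]; exact hk₁
    have hx₂' : x₂ ∈ (t2 σ).ker ⊓ commutator (D2 σ) := by
      refine Subgroup.mem_inf.mpr ⟨(mem_ker_t2 σ x₂).mpr ?_, hx₂⟩
      have : (x₂ : Γ) = c₂ := hxc₂
      rw [this]; exact hk₂
    obtain ⟨a, ha⟩ := hg₁ ⟨x₁, hx₁'⟩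
    obtain ⟨b, hb⟩ := hg₂ ⟨x₂, hx₂'⟩
    refine ⟨(a, b), ?_⟩
    apply Subtype.ext
    rw [MonoidHom.noncommCoprod_apply, Subgroup.coe_mul, hf₁, hf₂, ha, hb, hzz]
    have e1 : (x₁ : Γ) = c₁ := hxc₁
    have e2 : (x₂ : Γ) = c₂ := hxc₂
    simp only [e1, e2]

end Cfsg.Agent.S3980
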