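import Mathlib
import Cfsg.Statements.S3981
import Cfsg.Agent.S3982

set_option autoImplicit false
open Cfsg
open scoped Pointwise

namespace Cfsg.Agent.S3981

theorem result {G : Type*} [Group G] [Finite G] (p : ℕ) [Fact p.Prime] (hp2 : p ≠ 2) (Q : Subgroup G) (hQ : IsPGroup p ↥Q) (y : G) (hy : orderOf y = 2) (hyQ : y ∈ Subgroup.normalizer (Q : Set G)) : (∀ R : Subgroup G, IsPGroup p ↥R → Q ≤ R → y ∈ Subgroup.normalizer (R : Set G) → R = Q) ↔ ∀ x : G, x ∈ Subgroup.normalizer (Q : Set G) → x ∉ Q → x ^ p ∈ Q → (y * x * y⁻¹ * x ∉ Q ∧ y * x * y⁻¹ * x⁻¹ ∉ Q) := by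
  have hpp : p.Prime := Fact.out
  have hyy : y * y = 1 := by
    have := pow_orderOf_eq_one y
    rw [hy, sq] at this; exact this
  constructor
  · -- (⇒)
    intro hmax x hxN hxQ hxp
    set R := Q ⊔ Subgroup.zpowers x with hRdef
    have hQR : Q ≤ R := le_sup_left
    have hxR : x ∈ R := (le_sup_right : Subgroup.zpowers x ≤ R) (Subgroup.mem_zpowers x)
    have hZp : IsPGroup p (Subgroup.zpowers x) := by
      obtain ⟨k, hk⟩ := hQ ⟨x ^ p, hxp⟩
      have hk' : (x ^ p) ^ (p ^ k) = 1 := by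
        have := congrArg Subtype.val hk
        simpa using this
      have h1 : x ^ (p ^ (k + 1)) = 1 := by
        rw [pow_succ', pow_mul]; exact hk'
      obtain ⟨j, -, hj⟩ := (Nat.dvd_prime_pow hpp).mp (orderOf_dvd_of_pow_eq_one h1)
      exact IsPGroup.of_card (n := j) (by rw [Nat.card_zpowers, hj])
    have hRp : IsPGroup p R := by
      rw [hRdef, sup_comm]
      apply hZp.to_sup_of_normal_right' hQ
      rw [Subgroup.zpowers_le]; exact hxN
    have hfinish : y * x * y⁻¹ ∈ R → False := by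
      intro hyxR
      have hyR : y ∈ Subgroup.normalizer (R : Set G) := by
        apply Cfsg.Agent.S3982.mem_normalizer_of_finite
        have hmap : R.map (MulAut.conj y).toMonoidHom ≤ R := by
          rw [hRdef, Subgroup.map_sup]
          apply sup_le
          · intro g hg
            obtain ⟨q, hq, rfl⟩ := Subgroup.mem_map.mp hg
            apply hQR
            simp only [MulEquiv.coe_toMonoidHom, MulAut.conj_apply]
            exact (Subgroup.mem_normalizer_iff.mp hyQ q).mp hq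
          · rw [MonoidHom.map_zpowers, Subgroup.zpowers_le]
            simp only [MulEquiv.coe_toMonoidHom, MulAut.conj_apply]
            exact hyxR
        intro r hr
        apply hmap
        exact Subgroup.mem_map.mpr ⟨r, hr, by simp⟩
      have := hmax R hRp hQR hyR
      exact hxQ (this ▸ hxR)
    refine ⟨fun h => ?_, fun h => ?_⟩
    · apply hfinish
      have : y * x * y⁻¹ = (y * x * y⁻¹ * x) * x⁻¹ := by group
      rw [this]
      exact R.mul_mem (hQR h) (R.inv_mem hxR)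
    · apply hfinish
      have : y * x * y⁻¹ = (y * x * y⁻¹ * x⁻¹) * x := by group
      rw [this]
      exact R.mul_mem (hQR h) hxR
  · -- (⇐)
    intro hcond R hRp hQR hyR
    by_contra hne
    have hlt : Q < R := lt_of_le_of_ne hQR (Ne.symm hne)
    obtain ⟨t₀, ht₀R, ht₀Q, ht₀N⟩ :=
      Cfsg.Agent.helper5.exists_mem_normalizer_not_mem p R Q hRp hlt
    set NQ := Subgroup.normalizer (Q : Set G) with hNQ
    set Q' : Subgroup NQ := Q.subgroupOf NQ with hQ'
    have hQ'n : Q'.Normal := Subgroup.normal_in_normalizer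
    let mk : NQ →* NQ ⧸ Q' := QuotientGroup.mk' Q'
    have hmk1 : ∀ (a : G) (ha : a ∈ NQ), mk ⟨a, ha⟩ = 1 ↔ a ∈ Q := by
      intro a ha
      show ((⟨a, ha⟩ : NQ) : NQ ⧸ Q') = 1 ↔ _
      rw [QuotientGroup.eq_one_iff, hQ', Subgroup.mem_subgroupOf]
    set yb := mk ⟨y, hyQ⟩ with hyb
    have hybyb : yb * yb = 1 := by
      rw [hyb, ← map_mul]
      have : (⟨y, hyQ⟩ : NQ) * ⟨y, hyQ⟩ = 1 := Subtype.ext hyy
      rw [this, map_one]
    have hybinv : yb⁻¹ = yb := inv_eq_of_mul_eq_one_right hybyb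
    -- the condition in the quotient
    have hcondb : ∀ xb : NQ ⧸ Q', orderOf xb = p →
        yb * xb * yb⁻¹ * xb ≠ 1 ∧ yb * xb * yb⁻¹ * xb⁻¹ ≠ 1 := by
      intro xb hxb
      obtain ⟨⟨x, hx⟩, rfl⟩ := QuotientGroup.mk'_surjective Q' xb
      have hxQ : x ∉ Q := by
        intro h
        have h1 : mk ⟨x, hx⟩ = 1 := (hmk1 x hx).mpr h
        have h1' : (QuotientGroup.mk' Q') ⟨x, hx⟩ = 1 := h1
        rw [h1', orderOf_one] at hxb
        exact hpp.one_lt.ne hxb
      have hxp : x ^ p ∈ Q := by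
        have h1 : mk (⟨x, hx⟩ ^ p) = 1 := by
          rw [map_pow]
          have := pow_orderOf_eq_one ((QuotientGroup.mk' Q') ⟨x, hx⟩)
          rw [hxb] at this; exact this
        have h2 : (⟨x, hx⟩ : NQ) ^ p = ⟨x ^ p, Subgroup.pow_mem _ hx p⟩ := Subtype.ext (by simp)
        rw [h2] at h1
        exact (hmk1 _ _).mp h1
      obtain ⟨c1, c2⟩ := hcond x hx hxQ hxp
      constructor
      · intro h
        apply c1
        have hmem : y * x * y⁻¹ * x ∈ NQ :=
          Subgroup.mul_mem _ (Subgroup.mul_mem _ (Subgroup.mul_mem _ hyQ hx) (Subgroup.inv_mem _ hyQ)) hx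
        apply (hmk1 _ hmem).mp
        have : (⟨y * x * y⁻¹ * x, hmem⟩ : NQ) = ⟨y, hyQ⟩ * ⟨x, hx⟩ * ⟨y, hyQ⟩⁻¹ * ⟨x, hx⟩ :=
          Subtype.ext (by simp)
        rw [this, map_mul, map_mul, map_mul, map_inv]
        exact h
      · intro h
        apply c2
        have hmem : y * x * y⁻¹ * x⁻¹ ∈ NQ :=
          Subgroup.mul_mem _ (Subgroup.mul_mem _ (Subgroup.mul_mem _ hyQ hx) (Subgroup.inv_mem _ hyQ))
            (Subgroup.inv_mem _ hx)
        apply (hmk1 _ hmem).mp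
        have : (⟨y * x * y⁻¹ * x⁻¹, hmem⟩ : NQ) = ⟨y, hyQ⟩ * ⟨x, hx⟩ * ⟨y, hyQ⟩⁻¹ * ⟨x, hx⟩⁻¹ :=
          Subtype.ext (by simp)
        rw [this, map_mul, map_mul, map_mul, map_inv, map_inv]
        exact h
    -- the subgroup Tb
    set T := R ⊓ NQ with hT
    set Tb : Subgroup (NQ ⧸ Q') := (T.subgroupOf NQ).map mk with hTb
    have hTp : IsPGroup p T := hRp.to_le inf_le_left
    have hTbp : IsPGroup p Tb := (hTp.comap_subtype (K := NQ)).map mk
    have ht₀T : t₀ ∈ T := Subgroup.mem_inf.mpr ⟨ht₀R, ht₀N⟩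
    have hTb1 : Tb ≠ ⊥ := by
      intro h
      have h1 : mk ⟨t₀, ht₀N⟩ ∈ Tb :=
        Subgroup.mem_map.mpr ⟨⟨t₀, ht₀N⟩, Subgroup.mem_subgroupOf.mpr ht₀T, rfl⟩
      rw [h, Subgroup.mem_bot] at h1
      exact ht₀Q ((hmk1 _ _).mp h1)
    have hTbN : ∀ g ∈ Tb, yb * g * yb⁻¹ ∈ Tb := by
      intro g hg
      obtain ⟨⟨t, htN⟩, ht, rfl⟩ := Subgroup.mem_map.mp hg
      have htT : t ∈ T := Subgroup.mem_subgroupOf.mp ht
      have h1 : y * t * y⁻¹ ∈ T := by
        apply Subgroup.mem_inf.mpr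
        constructor
        · exact (Subgroup.mem_normalizer_iff.mp hyR t).mp (Subgroup.mem_inf.mp htT).1
        · exact Subgroup.mul_mem _ (Subgroup.mul_mem _ hyQ htN) (Subgroup.inv_mem _ hyQ)
      have h1N : y * t * y⁻¹ ∈ NQ := (Subgroup.mem_inf.mp h1).2
      refine Subgroup.mem_map.mpr ⟨⟨y * t * y⁻¹, h1N⟩, Subgroup.mem_subgroupOf.mpr h1, ?_⟩
      have : (⟨y * t * y⁻¹, h1N⟩ : NQ) = ⟨y, hyQ⟩ * ⟨t, htN⟩ * ⟨y, hyQ⟩⁻¹ := Subtype.ext (by simp)
      rw [this, map_mul, map_mul, map_inv]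
    -- a nontrivial p-group has an element of order p
    have hcauchy : ∀ S : Subgroup (NQ ⧸ Q'), IsPGroup p S → S ≠ ⊥ → ∃ s ∈ S, orderOf s = p := by
      intro S hSp hS1
      have hnt : Nontrivial S := (Subgroup.nontrivial_iff_ne_bot S).mpr hS1
      obtain ⟨k, hk0, hk⟩ := (hSp.nontrivial_iff_card).mp hnt
      have hdvd : p ∣ Nat.card S := by rw [hk]; exact dvd_pow_self p hk0.ne'
      obtain ⟨s, hs⟩ := exists_prime_orderOf_dvd_card' p hdvd
      exact ⟨s, s.2, by rw [← hs, Subgroup.orderOf_coe]⟩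
    by_cases hfix : ∃ c ∈ Tb, c ≠ 1 ∧ yb * c = c * yb
    · obtain ⟨c, hcT, hc1, hcy⟩ := hfix
      set Cb := Tb ⊓ Subgroup.centralizer ({yb} : Set (NQ ⧸ Q')) with hCb
      have hCbp : IsPGroup p Cb := hTbp.to_le inf_le_left
      have hCb1 : Cb ≠ ⊥ := by
        intro h
        have : c ∈ Cb := Subgroup.mem_inf.mpr ⟨hcT, by
          rw [Subgroup.mem_centralizer_singleton_iff]; exact hcy.symm⟩
        rw [h, Subgroup.mem_bot] at this
        exact hc1 this
      obtain ⟨s, hs, hsp⟩ := hcauchy Cb hCbp hCb1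
      have hsy := (Subgroup.mem_inf.mp hs).2
      rw [Subgroup.mem_centralizer_singleton_iff] at hsy
      apply (hcondb s hsp).2
      calc yb * s * yb⁻¹ * s⁻¹ = (yb * s) * yb⁻¹ * s⁻¹ := by group
        _ = (s * yb) * yb⁻¹ * s⁻¹ := by rw [hsy]
        _ = 1 := by group
    · push Not at hfix
      have hfpf : ∀ g ∈ Tb, yb * g = g * yb → g = 1 := by
        intro g hg hcomm
        by_contra hg1
        exact hfix g hg hg1 hcomm
      have hinv := Cfsg.Agent.S3982.inverts_of_fpf Tb yb hybyb hTbN hfpf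
      obtain ⟨s, hs, hsp⟩ := hcauchy Tb hTbp hTb1
      apply (hcondb s hsp).1
      rw [hinv s hs]; group

end Cfsg.Agent.S3981
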