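import Mathlib
import Cfsg.Statements.S3983

set_option autoImplicit false
open Cfsg
open scoped Pointwise

namespace Cfsg.Agent.S3983

/-- TI for one Sylow subgroup gives trivial intersection of any two distinct Sylow subgroups -/
theorem sylow_TI_all {G : Type*} [Group G] [Finite G] (p : ℕ) [Fact p.Prime] (P : Sylow p G)
    (hTI : ∀ g : G, g ∉ Subgroup.normalizer ((P : Subgroup G) : Set G) →
      (P : Subgroup G) ⊓ (MulAut.conj g • (P : Subgroup G)) = ⊥) :
    ∀ P1 P2 : Sylow p G, P1 ≠ P2 → (P1 : Subgroup G) ⊓ (P2 : Subgroup G) = ⊥ := by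
  intro P1 P2 hne
  obtain ⟨a, ha⟩ := MulAction.exists_smul_eq G P P1
  obtain ⟨b, hb⟩ := MulAction.exists_smul_eq G P P2
  have hg : a⁻¹ * b ∉ Subgroup.normalizer ((P : Subgroup G) : Set G) := by
    intro h
    have h1 : (a⁻¹ * b) • P = P := Sylow.smul_eq_iff_mem_normalizer.mpr h
    apply hne
    rw [← ha, ← hb]
    have : b • P = a • ((a⁻¹ * b) • P) := by
      rw [smul_smul, mul_inv_cancel_left]
    rw [this, h1]
  have h2 := hTI _ hg
  have h3 : MulAut.conj a • ((P : Subgroup G) ⊓ (MulAut.conj (a⁻¹ * b) • (P : Subgroup G))) =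
      MulAut.conj a • (⊥ : Subgroup G) := by rw [h2]
  rw [Subgroup.smul_inf, Subgroup.smul_bot, smul_smul, ← map_mul, mul_inv_cancel_left] at h3
  rw [← ha, ← hb]
  exact h3

/-- Let P be a Sylow p-subgroup of the finite group G that meets each conjugate g P g⁻¹ with g outside N_G(P) trivially, and let U be a subgroup of G of order divisible by p. Then a Sylow p-subgroup Q of U has the same property inside U: Q meets each conjugate u Q u⁻¹ with u ∈ U outside N_U(Q) trivially. -/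
theorem result {G : Type*} [Group G] [Finite G] (p : ℕ) [Fact p.Prime] (P : Sylow p G) (hTI : ∀ g : G, g ∉ Subgroup.normalizer ((P : Subgroup G) : Set G) → (P : Subgroup G) ⊓ (MulAut.conj g • (P : Subgroup G)) = ⊥) (U : Subgroup G) (hU : p ∣ Nat.card ↥U) (Q : Sylow p ↥U) : ∀ u : ↥U, u ∉ Subgroup.normalizer ((Q : Subgroup ↥U) : Set ↥U) → (Q : Subgroup ↥U) ⊓ (MulAut.conj u • (Q : Subgroup ↥U)) = ⊥ := by
  intro u hu
  rw [eq_bot_iff]
  intro y hy
  rw [Subgroup.mem_bot]
  by_contra hy1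
  obtain ⟨P1, hP1⟩ := (Q.2.map U.subtype).exists_le_sylow
  have hQP1 : ∀ q : ↥U, q ∈ (Q : Subgroup ↥U) → (q : G) ∈ (P1 : Subgroup G) := by
    intro q hq
    exact hP1 (Subgroup.mem_map_of_mem U.subtype hq)
  have hyQ : y ∈ (Q : Subgroup ↥U) := hy.1
  have hyuQ : y ∈ MulAut.conj u • (Q : Subgroup ↥U) := hy.2
  have heq : (u : G) • P1 = P1 := by
    by_contra hne
    have h1 := sylow_TI_all p P hTI P1 ((u : G) • P1) (Ne.symm hne)
    have hy' : (y : G) ∈ (P1 : Subgroup G) ⊓ (((u : G) • P1 : Sylow p G) : Subgroup G) := by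
      refine ⟨hQP1 y hyQ, ?_⟩
      show (y : G) ∈ MulAut.conj (u : G) • (P1 : Subgroup G)
      obtain ⟨q, hq, hqy⟩ := hyuQ
      have : (y : G) = MulAut.conj (u : G) (q : G) := by
        rw [← hqy]
        simp [MulAut.conj_apply]
      rw [this]
      exact Subgroup.smul_mem_pointwise_smul _ _ _ (hQP1 q hq)
    rw [h1, Subgroup.mem_bot] at hy'
    exact hy1 (Subtype.ext hy')
  let R : Subgroup ↥U := (P1 : Subgroup G).subgroupOf U
  have hR : IsPGroup p ↥R := P1.2.comap_subtype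
  have hQR : (Q : Subgroup ↥U) ≤ R := by
    intro q hq
    exact hQP1 q hq
  have hRQ : R = (Q : Subgroup ↥U) := Q.3 hR hQR
  have huQ : ((u • Q : Sylow p ↥U) : Subgroup ↥U) ≤ (Q : Subgroup ↥U) := by
    rw [← hRQ]
    show MulAut.conj u • (Q : Subgroup ↥U) ≤ R
    rintro _ ⟨q, hq, rfl⟩
    show ((MulAut.conj u q : ↥U) : G) ∈ (P1 : Subgroup G)
    have h2 : ((MulAut.conj u q : ↥U) : G) = MulAut.conj (u : G) (q : G) := by
      simp [MulAut.conj_apply]
    rw [h2]
    have h3 : MulAut.conj (u : G) (q : G) ∈ MulAut.conj (u : G) • (P1 : Subgroup G) :=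
      Subgroup.smul_mem_pointwise_smul _ _ _ (hQP1 q hq)
    have h5 : MulAut.conj (u : G) • (P1 : Subgroup G) = (((u : G) • P1 : Sylow p G) : Subgroup G) := rfl
    rw [h5, heq] at h3
    exact h3
  have h4 : (Q : Subgroup ↥U) = ((u • Q : Sylow p ↥U) : Subgroup ↥U) := (u • Q).3 Q.2 huQ
  apply hu
  apply Sylow.smul_eq_iff_mem_normalizer.mp
  exact Sylow.ext h4.symm

end Cfsg.Agent.S3983
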