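import Mathlib
import Cfsg.Statements.S3984
import Cfsg.Agent.S3983

set_option autoImplicit false
open Cfsg
open scoped Pointwise

namespace Cfsg.Agent.S3984

open Cfsg.Agent.S3983

theorem quot_TI_all {G : Type*} [Group G] [Finite G] (p : ℕ) [Fact p.Prime]
    (hall : ∀ P1 P2 : Sylow p G, P1 ≠ P2 → (P1 : Subgroup G) ⊓ (P2 : Subgroup G) = ⊥)
    (N : Subgroup G) [N.Normal] (Q1 Q2 : Sylow p (G ⧸ N))
    (ybar : G ⧸ N) (hy1 : ybar ∈ (Q1 : Subgroup (G ⧸ N))) (hy2 : ybar ∈ (Q2 : Subgroup (G ⧸ N)))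
    (hyne : ybar ≠ 1) : Q1 = Q2 := by
  set π := QuotientGroup.mk' N with hπ
  have hsurj : Function.Surjective π := QuotientGroup.mk'_surjective N
  obtain ⟨P1, hP1⟩ := Sylow.mapSurjective_surjective hsurj p Q1
  obtain ⟨P2, hP2⟩ := Sylow.mapSurjective_surjective hsurj p Q2
  have hQ1 : (Q1 : Subgroup (G ⧸ N)) = (P1 : Subgroup G).map π := by rw [← hP1]; rfl
  have hQ2 : (Q2 : Subgroup (G ⧸ N)) = (P2 : Subgroup G).map π := by rw [← hP2]; rfl
  rw [hQ1] at hy1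
  rw [hQ2] at hy2
  obtain ⟨y1, hy1P, hy1y⟩ := hy1
  obtain ⟨y2, hy2P, hy2y⟩ := hy2
  have hy1ne : y1 ≠ 1 := by
    rintro rfl
    rw [map_one] at hy1y
    exact hyne hy1y.symm
  have hy2ne : y2 ≠ 1 := by
    rintro rfl
    rw [map_one] at hy2y
    exact hyne hy2y.symm
  set D : Subgroup G := (Subgroup.zpowers ybar).comap π with hD
  have hy1D : y1 ∈ D := by
    rw [hD, Subgroup.mem_comap, hy1y]; exact Subgroup.mem_zpowers _
  have hy2D : y2 ∈ D := by
    rw [hD, Subgroup.mem_comap, hy2y]; exact Subgroup.mem_zpowers _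
  -- Sylow subgroups of D containing y1, y2
  have hA1 : IsPGroup p ↥(Subgroup.zpowers (⟨y1, hy1D⟩ : ↥D)) := by
    have h1 : IsPGroup p ↥(Subgroup.zpowers y1) :=
      P1.2.to_le (by rw [Subgroup.zpowers_le]; exact hy1P)
    obtain ⟨k, hk⟩ := IsPGroup.iff_card.mp h1
    apply IsPGroup.of_card (n := k)
    rw [Nat.card_zpowers] at hk ⊢
    rw [← hk]
    exact (Subgroup.orderOf_mk y1 hy1D)
  have hA2 : IsPGroup p ↥(Subgroup.zpowers (⟨y2, hy2D⟩ : ↥D)) := by
    have h1 : IsPGroup p ↥(Subgroup.zpowers y2) :=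
      P2.2.to_le (by rw [Subgroup.zpowers_le]; exact hy2P)
    obtain ⟨k, hk⟩ := IsPGroup.iff_card.mp h1
    apply IsPGroup.of_card (n := k)
    rw [Nat.card_zpowers] at hk ⊢
    rw [← hk]
    exact (Subgroup.orderOf_mk y2 hy2D)
  obtain ⟨S1, hS1⟩ := hA1.exists_le_sylow
  obtain ⟨S2, hS2⟩ := hA2.exists_le_sylow
  have hy1S : (⟨y1, hy1D⟩ : ↥D) ∈ (S1 : Subgroup ↥D) := hS1 (Subgroup.mem_zpowers _)
  have hy2S : (⟨y2, hy2D⟩ : ↥D) ∈ (S2 : Subgroup ↥D) := hS2 (Subgroup.mem_zpowers _)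
  obtain ⟨d, hd⟩ := MulAction.exists_smul_eq ↥D S1 S2
  -- S1 lies in P1, S2 in P2
  have hS1P : ∀ s : ↥D, s ∈ (S1 : Subgroup ↥D) → (s : G) ∈ (P1 : Subgroup G) := by
    obtain ⟨P1', hP1'⟩ := (S1.2.map D.subtype).exists_le_sylow
    have hy1' : y1 ∈ (P1' : Subgroup G) := hP1' (Subgroup.mem_map_of_mem D.subtype hy1S)
    have heq : P1' = P1 := by
      by_contra hne
      have := hall P1' P1 hne
      have hmem : y1 ∈ (P1' : Subgroup G) ⊓ (P1 : Subgroup G) := ⟨hy1', hy1P⟩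
      rw [this, Subgroup.mem_bot] at hmem
      exact hy1ne hmem
    intro s hs
    rw [← heq]
    exact hP1' (Subgroup.mem_map_of_mem D.subtype hs)
  have hS2P : ∀ s : ↥D, s ∈ (S2 : Subgroup ↥D) → (s : G) ∈ (P2 : Subgroup G) := by
    obtain ⟨P2', hP2'⟩ := (S2.2.map D.subtype).exists_le_sylow
    have hy2' : y2 ∈ (P2' : Subgroup G) := hP2' (Subgroup.mem_map_of_mem D.subtype hy2S)
    have heq : P2' = P2 := by
      by_contra hne
      have := hall P2' P2 hne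
      have hmem : y2 ∈ (P2' : Subgroup G) ⊓ (P2 : Subgroup G) := ⟨hy2', hy2P⟩
      rw [this, Subgroup.mem_bot] at hmem
      exact hy2ne hmem
    intro s hs
    rw [← heq]
    exact hP2' (Subgroup.mem_map_of_mem D.subtype hs)
  -- P2 = d • P1
  have hP21 : (d : G) • P1 = P2 := by
    by_contra hne
    have h1 := hall _ _ hne
    have hy2S' : (⟨y2, hy2D⟩ : ↥D) ∈ ((d • S1 : Sylow p ↥D) : Subgroup ↥D) := by rw [hd]; exact hy2S
    have hy2S'' : (⟨y2, hy2D⟩ : ↥D) ∈ MulAut.conj d • (S1 : Subgroup ↥D) := hy2S'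
    obtain ⟨s, hs, hsy⟩ := hy2S''
    have hmem : y2 ∈ (((d : G) • P1 : Sylow p G) : Subgroup G) ⊓ (P2 : Subgroup G) := by
      refine ⟨?_, hy2P⟩
      show y2 ∈ MulAut.conj (d : G) • (P1 : Subgroup G)
      have : y2 = MulAut.conj (d : G) (s : G) := by
        have := congrArg Subtype.val hsy
        simp only [MulAut.conj_apply] at this ⊢
        rw [← this]
        simp [MulAut.conj_apply]
      rw [this]
      exact Subgroup.smul_mem_pointwise_smul _ _ _ (hS1P s hs)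
    rw [h1, Subgroup.mem_bot] at hmem
    exact hy2ne hmem
  -- conclude
  apply Sylow.ext
  rw [hQ1, hQ2, ← hP21]
  show (P1 : Subgroup G).map π = (MulAut.conj (d : G) • (P1 : Subgroup G)).map π
  have hdQ : π (d : G) ∈ (P1 : Subgroup G).map π := by
    have h1 : π (d : G) ∈ Subgroup.zpowers ybar := d.2
    have h2 : Subgroup.zpowers ybar ≤ (P1 : Subgroup G).map π := by
      rw [Subgroup.zpowers_le, ← hy1y]
      exact Subgroup.mem_map_of_mem π hy1P
    exact h2 h1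
  apply le_antisymm
  · rintro _ ⟨a, ha, rfl⟩
    obtain ⟨d', hd'P, hd'⟩ := hdQ
    -- a = d (d⁻¹ a d) d⁻¹ where π(d⁻¹ a d) ∈ π(P1)
    have hmem : π ((d : G)⁻¹ * a * (d : G)) ∈ (P1 : Subgroup G).map π := by
      rw [map_mul, map_mul, map_inv, ← hd']
      exact Subgroup.mul_mem _ (Subgroup.mul_mem _ (Subgroup.inv_mem _ (Subgroup.mem_map_of_mem π hd'P))
        (Subgroup.mem_map_of_mem π ha)) (Subgroup.mem_map_of_mem π hd'P)
    obtain ⟨b, hb, hbe⟩ := hmem
    refine ⟨MulAut.conj (d : G) b, Subgroup.smul_mem_pointwise_smul _ _ _ hb, ?_⟩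
    rw [MulAut.conj_apply, map_mul, map_mul, hbe, map_mul, map_mul, map_inv]
    group
  · rintro _ ⟨a, ha, rfl⟩
    obtain ⟨b, hb, rfl⟩ := ha
    obtain ⟨d', hd'P, hd'⟩ := hdQ
    show π (MulAut.conj (d : G) b) ∈ _
    rw [MulAut.conj_apply, map_mul, map_mul, map_inv, ← hd']
    exact Subgroup.mul_mem _ (Subgroup.mul_mem _ (Subgroup.mem_map_of_mem π hd'P)
      (Subgroup.mem_map_of_mem π hb)) (Subgroup.inv_mem _ (Subgroup.mem_map_of_mem π hd'P))

/-- Let P be a Sylow p-subgroup of the finite group G that meets each conjugate g P g⁻¹ with g outside N_G(P) trivially, and let N be a normal subgroup of G of order prime to p. Then every Sylow p-subgroup Q of G ⧸ N meets each conjugate x Q x⁻¹ with x outside its normalizer trivially. -/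
theorem result {G : Type*} [Group G] [Finite G] (p : ℕ) [Fact p.Prime] (P : Sylow p G) (hTI : ∀ g : G, g ∉ Subgroup.normalizer ((P : Subgroup G) : Set G) → (P : Subgroup G) ⊓ (MulAut.conj g • (P : Subgroup G)) = ⊥) (N : Subgroup G) [N.Normal] (hN : (Nat.card ↥N).Coprime p) (Q : Sylow p (G ⧸ N)) : ∀ x : G ⧸ N, x ∉ Subgroup.normalizer ((Q : Subgroup (G ⧸ N)) : Set (G ⧸ N)) → (Q : Subgroup (G ⧸ N)) ⊓ (MulAut.conj x • (Q : Subgroup (G ⧸ N))) = ⊥ := by
  intro x hx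
  have hall := sylow_TI_all p P hTI
  rw [eq_bot_iff]
  intro y hy
  rw [Subgroup.mem_bot]
  by_contra hyne
  have h1 : Q = x • Q := quot_TI_all p hall N Q (x • Q) y hy.1 hy.2 hyne
  exact hx (Sylow.smul_eq_iff_mem_normalizer.mp h1.symm)

end Cfsg.Agent.S3984
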