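import Mathlib
import Cfsg.Statements.S3985
import Cfsg.Agent.Lib_helper20_Cyc

set_option autoImplicit false
open Cfsg
open scoped Pointwise

namespace Cfsg.Agent.S3985

open Cfsg.Agent.helper20

/-- Let P be a cyclic Sylow p-subgroup of the finite group G. Then P meets each conjugate g P g⁻¹ with g outside N_G(P) trivially if and only if P is weakly self-centralizing: C_G(x) = C_G(P) for every non-identity x ∈ P. -/
theorem result {G : Type*} [Group G] [Finite G] (p : ℕ) [Fact p.Prime] (P : Sylow p G) (hcyc : IsCyclic ↥(P : Subgroup G)) : (∀ g : G, g ∉ Subgroup.normalizer ((P : Subgroup G) : Set G) → (P : Subgroup G) ⊓ (MulAut.conj g • (P : Subgroup G)) = ⊥) ↔ ∀ x : G, x ∈ (P : Subgroup G) → x ≠ 1 → Subgroup.centralizer ({x} : Set G) = Subgroup.centralizer ((P : Subgroup G) : Set G) := by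
  have hp : p.Prime := Fact.out
  obtain ⟨z', hz'⟩ := hcyc.exists_generator
  set z : G := (z' : G) with hzdef
  have hzP : z ∈ (P : Subgroup G) := z'.2
  have hgen : ∀ y : G, y ∈ (P : Subgroup G) → ∃ n : ℕ, z ^ n = y := by
    intro y hy
    have h1 := hz' ⟨y, hy⟩
    have h2 : y ∈ Subgroup.zpowers z := by
      obtain ⟨k, hk⟩ := Subgroup.mem_zpowers_iff.mp h1
      refine Subgroup.mem_zpowers_iff.mpr ⟨k, ?_⟩
      have := congrArg Subtype.val hk
      simpa using this
    have h3 : y ∈ Submonoid.powers z := (mem_powers_iff_mem_zpowers).mpr h2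
    exact (Submonoid.mem_powers_iff _ _).mp h3
  have hPcomm : ∀ a ∈ (P : Subgroup G), ∀ b ∈ (P : Subgroup G), a * b = b * a := by
    intro a ha b hb
    obtain ⟨i, rfl⟩ := hgen a ha
    obtain ⟨j, rfl⟩ := hgen b hb
    rw [← pow_add, ← pow_add, add_comm]
  obtain ⟨a, ha⟩ : ∃ a, orderOf z = p ^ a := by
    obtain ⟨k, hk⟩ := (IsPGroup.iff_orderOf.mp P.2) z'
    exact ⟨k, by rw [← hk, hzdef, Subgroup.orderOf_coe]⟩
  -- p-elements in the normalizer lie in P
  have hpN : ∀ y : G, (∃ k, orderOf y = p ^ k) →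
      y ∈ Subgroup.normalizer ((P : Subgroup G) : Set G) → y ∈ (P : Subgroup G) := by
    rintro y ⟨k, hk⟩ hyN
    have hpg : IsPGroup p (Subgroup.zpowers y) := by
      apply IsPGroup.of_card (n := k)
      rw [Nat.card_zpowers, hk]
    have h1 : y ∈ Subgroup.zpowers y ⊓ Subgroup.normalizer ((P : Subgroup G) : Set G) :=
      ⟨Subgroup.mem_zpowers y, hyN⟩
    have h2 : y ∈ Subgroup.zpowers y ⊓ (P : Subgroup G) := by
      rw [← hpg.inf_normalizer_sylow P]; exact h1
    exact h2.2
  constructor
  · intro hTI x hxP hx1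
    apply le_antisymm
    · intro c hc
      have hcx : x * c = c * x := Subgroup.mem_centralizer_iff.mp hc x (Set.mem_singleton x)
      have hcxc : c * x * c⁻¹ = x := by rw [← hcx]; group
      -- c normalizes P
      have hcN : c ∈ Subgroup.normalizer ((P : Subgroup G) : Set G) := by
        by_contra hcN
        have h1 := hTI c hcN
        have h2 : x ∈ (P : Subgroup G) ⊓ (MulAut.conj c • (P : Subgroup G)) := by
          refine ⟨hxP, ?_⟩
          have : x = MulAut.conj c x := by rw [MulAut.conj_apply, hcxc]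
          rw [this]
          exact Subgroup.smul_mem_pointwise_smul _ _ _ hxP
        rw [h1, Subgroup.mem_bot] at h2
        exact hx1 h2
      -- it suffices to show c commutes with z
      suffices hcz : c * z = z * c by
        rw [Subgroup.mem_centralizer_iff]
        intro y hy
        obtain ⟨n, rfl⟩ := hgen y hy
        exact ((show Commute c z from hcz).pow_right n).eq.symm
      have ho : orderOf c ≠ 0 := (orderOf_pos c).ne'
      obtain ⟨v, m, hpm, hvm⟩ := Nat.exists_eq_pow_mul_and_not_dvd ho p hp.ne_one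
      have hm0 : m ≠ 0 := by
        rintro rfl
        rw [mul_zero] at hvm
        exact ho hvm
      have hpv0 : p ^ v ≠ 0 := pow_ne_zero _ hp.ne_zero
      -- the p-part c1 = c^m
      have hc1o : orderOf (c ^ m) = p ^ v := by
        rw [orderOf_pow_of_dvd hm0 ⟨p ^ v, by rw [hvm, mul_comm]⟩, hvm,
          Nat.mul_div_cancel _ (Nat.pos_of_ne_zero hm0)]
      have hc1N : c ^ m ∈ Subgroup.normalizer ((P : Subgroup G) : Set G) := Subgroup.pow_mem _ hcN m
      have hc1P : c ^ m ∈ (P : Subgroup G) := hpN _ ⟨v, hc1o⟩ hc1N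
      have hc1z : Commute (c ^ m) z := hPcomm _ hc1P _ hzP
      -- the p'-part c2 = c^(p^v)
      have hc2m : (c ^ (p ^ v)) ^ m = 1 := by
        rw [← pow_mul, ← hvm, pow_orderOf_eq_one]
      have hc2N : c ^ (p ^ v) ∈ Subgroup.normalizer ((P : Subgroup G) : Set G) :=
        Subgroup.pow_mem _ hcN _
      have hc2zP : c ^ (p ^ v) * z * (c ^ (p ^ v))⁻¹ ∈ (P : Subgroup G) :=
        (Subgroup.mem_normalizer_iff.mp hc2N z).mp hzP
      obtain ⟨r, hr⟩ := hgen _ hc2zP
      obtain ⟨j, hj⟩ := hgen x hxP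
      have hc2x : c ^ (p ^ v) * z ^ j * (c ^ (p ^ v))⁻¹ = z ^ j := by
        rw [hj]
        have : Commute c x := hcx.symm
        have h3 := (this.pow_left (p ^ v)).eq
        rw [h3]; group
      have hr1 : r ≡ 1 [MOD p] :=
        modEq_one_of_fix z (c ^ (p ^ v)) p a r j ha hr.symm (by rw [hj]; exact hx1) hc2x
      have hmcop : Nat.Coprime m p := (Nat.Prime.coprime_iff_not_dvd hp).mpr hpm |>.symm
      have hc2z' := conj_eq_self_of_coprime z (c ^ (p ^ v)) p a m r ha hc2m hmcop hr.symm hr1
      have hc2z : Commute (c ^ (p ^ v)) z := by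
        have : c ^ (p ^ v) * z = z * c ^ (p ^ v) := by
          calc c ^ (p ^ v) * z = (c ^ (p ^ v) * z * (c ^ (p ^ v))⁻¹) * c ^ (p ^ v) := by group
            _ = z * c ^ (p ^ v) := by rw [hc2z']
        exact this
      -- combine
      have hcop : Nat.Coprime (p ^ v) m := Nat.Coprime.pow_left _ ((Nat.Prime.coprime_iff_not_dvd hp).mpr hpm)
      have hb := Nat.gcd_eq_gcd_ab (p ^ v) m
      rw [hcop.gcd_eq_one] at hb
      have hcdec : c = (c ^ (p ^ v)) ^ (Nat.gcdA (p ^ v) m) * (c ^ m) ^ (Nat.gcdB (p ^ v) m) := by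
        rw [← zpow_natCast, ← zpow_natCast, ← zpow_mul, ← zpow_mul, ← zpow_add, ← hb]
        simp
      have hcomm : Commute c z := by
        rw [hcdec]
        exact (hc2z.zpow_left _).mul_left (hc1z.zpow_left _)
      exact hcomm.eq
    · intro c hc
      rw [Subgroup.mem_centralizer_iff]
      intro y hy
      rw [Set.mem_singleton_iff] at hy
      rw [hy]
      exact Subgroup.mem_centralizer_iff.mp hc x hxP
  · intro hC g hg
    rw [eq_bot_iff]
    intro x hx
    rw [Subgroup.mem_bot]
    by_contra hx1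
    apply hg
    have hxP : x ∈ (P : Subgroup G) := hx.1
    have hxgP : x ∈ MulAut.conj g • (P : Subgroup G) := hx.2
    have hCx := hC x hxP hx1
    -- g • P ≤ P
    have hle : ((g • P : Sylow p G) : Subgroup G) ≤ (P : Subgroup G) := by
      show MulAut.conj g • (P : Subgroup G) ≤ (P : Subgroup G)
      intro y hy
      -- y and x lie in the abelian group g • P
      obtain ⟨q, hq, hqy⟩ := hy
      obtain ⟨q', hq', hq'x⟩ := hxgP
      have hyx : x * y = y * x := by
        rw [← hqy, ← hq'x]
        show MulAut.conj g q' * MulAut.conj g q = MulAut.conj g q * MulAut.conj g q'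
        rw [← map_mul, ← map_mul, hPcomm q' hq' q hq]
      have hyC : y ∈ Subgroup.centralizer ({x} : Set G) := by
        rw [Subgroup.mem_centralizer_iff]
        intro w hw
        rw [Set.mem_singleton_iff] at hw
        rw [hw]; exact hyx
      rw [hCx] at hyC
      have hyN : y ∈ Subgroup.normalizer ((P : Subgroup G) : Set G) :=
        Subgroup.centralizer_le_normalizer _ hyC
      apply hpN y _ hyN
      obtain ⟨k, hk⟩ := (IsPGroup.iff_orderOf.mp P.2) ⟨q, hq⟩
      refine ⟨k, ?_⟩
      rw [← hqy]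
      have : orderOf (MulAut.conj g q) = orderOf q := MulEquiv.orderOf_eq (MulAut.conj g) q
      show orderOf (MulAut.conj g q) = p ^ k
      rw [this, ← hk, Subgroup.orderOf_mk]
    have heq : (P : Subgroup G) = ((g • P : Sylow p G) : Subgroup G) := (g • P).3 P.2 hle
    exact Sylow.smul_eq_iff_mem_normalizer.mp (Sylow.ext heq.symm)

end Cfsg.Agent.S3985
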