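import Mathlib
import Cfsg.Statements.S3987
import Cfsg.Agent.S3986

set_option autoImplicit false
open Cfsg

namespace Cfsg.Agent.S3987

theorem inf_le_centralizer_mul {G : Type*} [Group G] (x y : G) :
    Subgroup.centralizer ({x} : Set G) ⊓ Subgroup.centralizer ({y} : Set G) ≤
      Subgroup.centralizer ({x * y} : Set G) := by
  intro g hg
  obtain ⟨h1, h2⟩ := Subgroup.mem_inf.mp hg
  rw [Subgroup.mem_centralizer_singleton_iff] at h1 h2 ⊢
  calc g * (x * y) = (g * x) * y := by group
    _ = (x * g) * y := by rw [h1]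
    _ = x * (g * y) := by group
    _ = x * (y * g) := by rw [h2]
    _ = x * y * g := by group

theorem result {G : Type*} [Group G] [Finite G] (p : ℕ) [Fact p.Prime] : (∃ (P : Sylow p G) (K : Subgroup G), (P : Subgroup G).Normal ∧ K.Normal ∧ (P : Subgroup G) ⊓ K = ⊥ ∧ (P : Subgroup G) ⊔ K = ⊤) ↔ ∀ x y : G, (∃ a : ℕ, orderOf x = p ^ a) → (∃ q b : ℕ, q.Prime ∧ q ≠ p ∧ orderOf y = q ^ b) → (Subgroup.centralizer ({x * y} : Set G)).index = (Subgroup.centralizer ({x} : Set G)).index * (Subgroup.centralizer ({y} : Set G)).index := by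
  have hpp : p.Prime := Fact.out
  constructor
  · rintro ⟨P, K, hPn, hKn, hdisj, hsup⟩ x y ⟨a, hxa⟩ ⟨q, b, hq, hqp, hyb⟩
    have hxP : x ∈ (P : Subgroup G) := Cfsg.Agent.S3986.mem_normal_sylow p P hPn x a hxa
    have hd : Disjoint (P : Subgroup G) K := disjoint_iff.mpr hdisj
    have hcompl : Subgroup.IsComplement' (P : Subgroup G) K := by
      apply Subgroup.isComplement'_of_disjoint_and_mul_eq_univ hd
      rw [← Subgroup.normal_mul, hsup, Subgroup.coe_top]
    have hidx : K.index = Nat.card (P : Subgroup G) := hcompl.index_eq_card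
    obtain ⟨n, hn⟩ := IsPGroup.iff_card.mp P.isPGroup'
    have hyK : y ∈ K := by
      apply Cfsg.Agent.S3986.mem_of_coprime_index K y (q ^ b)
        (by rw [← hyb]; exact pow_orderOf_eq_one y)
      rw [hidx, hn]
      apply Nat.Coprime.pow
      exact (Nat.coprime_primes hq hpp).mpr hqp
    have hcomm : ∀ u ∈ (P : Subgroup G), ∀ v ∈ K, u * v = v * u := fun u hu v hv =>
      (Subgroup.commute_of_normal_of_disjoint _ _ hPn hKn hd u v hu hv).eq
    have hKx : K ≤ Subgroup.centralizer ({x} : Set G) := by
      intro v hv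
      rw [Subgroup.mem_centralizer_singleton_iff]
      exact (hcomm x hxP v hv).symm
    have hPy : (P : Subgroup G) ≤ Subgroup.centralizer ({y} : Set G) := by
      intro u hu
      rw [Subgroup.mem_centralizer_singleton_iff]
      exact hcomm u hu y hyK
    have h1 : (Subgroup.centralizer ({x} : Set G)).index ∣ p ^ n := by
      rw [← hn, ← hidx]; exact Subgroup.index_dvd_of_le hKx
    have h2 : (Subgroup.centralizer ({y} : Set G)).index ∣ (P : Subgroup G).index :=
      Subgroup.index_dvd_of_le hPy
    have hcop : Nat.Coprime (Subgroup.centralizer ({x} : Set G)).index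
        (Subgroup.centralizer ({y} : Set G)).index := by
      apply Nat.Coprime.coprime_dvd_left h1
      apply Nat.Coprime.coprime_dvd_right h2
      exact Nat.Coprime.pow_left n ((Nat.Prime.coprime_iff_not_dvd hpp).mpr P.not_dvd_index)
    have hC : Subgroup.centralizer ({x * y} : Set G) =
        Subgroup.centralizer ({x} : Set G) ⊓ Subgroup.centralizer ({y} : Set G) := by
      apply le_antisymm _ (inf_le_centralizer_mul x y)
      intro g hg
      rw [Subgroup.mem_centralizer_singleton_iff] at hg
      rw [Subgroup.mem_inf, Subgroup.mem_centralizer_singleton_iff,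
        Subgroup.mem_centralizer_singleton_iff]
      have hgx : g * x * g⁻¹ ∈ (P : Subgroup G) := hPn.conj_mem x hxP g
      have hgy : g * y * g⁻¹ ∈ K := hKn.conj_mem y hyK g
      have hprod : (g * x * g⁻¹) * (g * y * g⁻¹) = x * y := by
        calc (g * x * g⁻¹) * (g * y * g⁻¹) = (g * (x * y)) * g⁻¹ := by group
          _ = ((x * y) * g) * g⁻¹ := by rw [hg]
          _ = x * y := by group
      have e : x⁻¹ * (g * x * g⁻¹) = y * (g * y * g⁻¹)⁻¹ := by
        calc x⁻¹ * (g * x * g⁻¹)
            = x⁻¹ * ((g * x * g⁻¹) * (g * y * g⁻¹)) * (g * y * g⁻¹)⁻¹ := by group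
          _ = x⁻¹ * (x * y) * (g * y * g⁻¹)⁻¹ := by rw [hprod]
          _ = y * (g * y * g⁻¹)⁻¹ := by group
      have hmemP : x⁻¹ * (g * x * g⁻¹) ∈ (P : Subgroup G) :=
        Subgroup.mul_mem _ (Subgroup.inv_mem _ hxP) hgx
      have hmemK : x⁻¹ * (g * x * g⁻¹) ∈ K := by
        rw [e]; exact Subgroup.mul_mem _ hyK (Subgroup.inv_mem _ hgy)
      have hone : x⁻¹ * (g * x * g⁻¹) = 1 := by
        have : x⁻¹ * (g * x * g⁻¹) ∈ (P : Subgroup G) ⊓ K := Subgroup.mem_inf.mpr ⟨hmemP, hmemK⟩
        rw [hdisj] at this; exact Subgroup.mem_bot.mp this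
      have hone' : y * (g * y * g⁻¹)⁻¹ = 1 := by rw [← e]; exact hone
      constructor
      · have h3 : g * x * g⁻¹ = x := by
          calc g * x * g⁻¹ = x * (x⁻¹ * (g * x * g⁻¹)) := by group
            _ = x := by rw [hone, mul_one]
        calc g * x = (g * x * g⁻¹) * g := by group
          _ = x * g := by rw [h3]
      · have h3 : y = g * y * g⁻¹ := by
          calc y = (y * (g * y * g⁻¹)⁻¹) * (g * y * g⁻¹) := by group
            _ = g * y * g⁻¹ := by rw [hone', one_mul]
        calc g * y = (g * y * g⁻¹) * g := by group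
          _ = y * g := by rw [← h3]
    rw [hC]
    apply le_antisymm Subgroup.index_inf_le
    apply Nat.le_of_dvd (Nat.pos_of_ne_zero Subgroup.index_ne_zero_of_finite)
    exact Nat.Coprime.mul_dvd_of_dvd_of_dvd hcop (Subgroup.index_dvd_of_le inf_le_left)
      (Subgroup.index_dvd_of_le inf_le_right)
  · intro hidx
    rw [Cfsg.Agent.S3986.result]
    intro x y hx hy
    have h := hidx x y hx hy
    have hle := inf_le_centralizer_mul x y
    have h1 : (Subgroup.centralizer ({x} : Set G) ⊓ Subgroup.centralizer ({y} : Set G)).index ≤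
        (Subgroup.centralizer ({x} : Set G)).index * (Subgroup.centralizer ({y} : Set G)).index :=
      Subgroup.index_inf_le
    have h2 := Subgroup.relIndex_mul_index hle
    have hD0 : (Subgroup.centralizer ({x * y} : Set G)).index ≠ 0 :=
      Subgroup.index_ne_zero_of_finite
    have h3 : (Subgroup.centralizer ({x} : Set G) ⊓ Subgroup.centralizer ({y} : Set G)).relIndex
        (Subgroup.centralizer ({x * y} : Set G)) = 1 := by
      rw [← h] at h1
      rw [← h2] at h1
      have hpos : 0 < (Subgroup.centralizer ({x * y} : Set G)).index := Nat.pos_of_ne_zero hD0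
      have h4 : (Subgroup.centralizer ({x} : Set G) ⊓ Subgroup.centralizer ({y} : Set G)).relIndex
          (Subgroup.centralizer ({x * y} : Set G)) ≤ 1 := by
        by_contra hcon
        push Not at hcon
        nlinarith
      have h5 : (Subgroup.centralizer ({x} : Set G) ⊓ Subgroup.centralizer ({y} : Set G)).relIndex
          (Subgroup.centralizer ({x * y} : Set G)) ≠ 0 := by
        intro h0
        rw [h0, zero_mul] at h2
        have : (Subgroup.centralizer ({x} : Set G) ⊓
          Subgroup.centralizer ({y} : Set G)).index ≠ 0 := Subgroup.index_ne_zero_of_finite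
        exact this h2.symm
      omega
    have h4 : Subgroup.centralizer ({x * y} : Set G) ≤
        Subgroup.centralizer ({x} : Set G) ⊓ Subgroup.centralizer ({y} : Set G) :=
      Subgroup.relIndex_eq_one.mp h3
    have h5 : x * y ∈ Subgroup.centralizer ({x * y} : Set G) := by
      rw [Subgroup.mem_centralizer_singleton_iff]
    have h6 := (Subgroup.mem_inf.mp (h4 h5)).1
    rw [Subgroup.mem_centralizer_singleton_iff] at h6
    -- h6 : x * y * x = x * (x * y)
    have : y * x = x * y := by
      calc y * x = x⁻¹ * (x * y * x) := by group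
        _ = x⁻¹ * (x * (x * y)) := by rw [h6]
        _ = x * y := by group
    exact this.symm

end Cfsg.Agent.S3987
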