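import Mathlib
import Cfsg.Statements.S3994
import Cfsg.Agent.S3993

set_option autoImplicit false
open Cfsg

namespace Cfsg.Agent.S3994

open Cfsg.Agent.helper20 Finset

universe u

/-- coprime decomposition count: elements `x` with `P x` correspond to commuting pairs `(y, z)`,
`y ^ A = 1`, `z ^ m = 1`, with `Q y`. -/
theorem card_decomp_gen {G : Type*} [Group G] [Fintype G] [DecidableEq G] (A m : ℕ)
    (co : Nat.Coprime A m) (hG : ∀ g : G, g ^ (A * m) = 1)
    (P : G → Prop) [DecidablePred P] (Q : G → Prop) [DecidablePred Q]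
    (hPQ : ∀ y z : G, y ^ A = 1 → z ^ m = 1 → y * z = z * y → (P (y * z) ↔ Q y)) :
    (univ.filter (fun x : G => P x)).card =
      ∑ y ∈ univ.filter (fun y : G => y ^ A = 1 ∧ Q y),
        (univ.filter (fun z : G => z * y = y * z ∧ z ^ m = 1)).card := by
  obtain ⟨u, hu1, hu0⟩ := Nat.chineseRemainder co 1 0
  obtain ⟨v, hv0, hv1⟩ := Nat.chineseRemainder co 0 1
  have hsu : m ∣ u := (Nat.modEq_zero_iff_dvd).mp hu0
  have hPv : A ∣ v := (Nat.modEq_zero_iff_dvd).mp hv0
  have huv : u + v ≡ 1 [MOD A * m] := by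
    rw [← Nat.modEq_and_modEq_iff_modEq_mul co]
    exact ⟨by simpa using hu1.add hv0, by simpa using hu0.add hv1⟩
  rw [← Finset.card_sigma]
  apply Finset.card_nbij' (fun x => (⟨x ^ u, x ^ v⟩ : Σ _ : G, G)) (fun yz => yz.1 * yz.2)
  · intro x hx
    simp only [coe_filter, mem_univ, true_and, Set.mem_ofPred_eq] at hx
    simp only [coe_sigma, Set.mem_sigma_iff, coe_filter, mem_univ, true_and, Set.mem_ofPred_eq]
    have hx1 := hG x
    have hyA : (x ^ u) ^ A = 1 := by
      rw [← pow_mul]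
      apply pow_eq_one_of_dvd' hx1
      obtain ⟨k, rfl⟩ := hsu
      exact ⟨k, by ring⟩
    have hzm : (x ^ v) ^ m = 1 := by
      rw [← pow_mul]
      apply pow_eq_one_of_dvd' hx1
      obtain ⟨k, rfl⟩ := hPv
      exact ⟨k, by ring⟩
    have hcomm : x ^ u * x ^ v = x ^ v * x ^ u := ((Commute.refl x).pow_pow u v).eq
    have hprod : x ^ u * x ^ v = x := by
      rw [← pow_add]
      have := pow_eq_of_modEq hx1 huv
      rw [this, pow_one]
    refine ⟨⟨hyA, ?_⟩, hcomm.symm, hzm⟩
    rw [← hPQ _ _ hyA hzm hcomm, hprod]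
    exact hx
  · rintro ⟨y, z⟩ hyz
    simp only [coe_sigma, Set.mem_sigma_iff, coe_filter, mem_univ, true_and, Set.mem_ofPred_eq] at hyz
    obtain ⟨⟨hy, hQ⟩, hc, hz⟩ := hyz
    simp only [coe_filter, mem_univ, true_and, Set.mem_ofPred_eq]
    exact (hPQ y z hy hz hc.symm).mpr hQ
  · intro x hx
    show x ^ u * x ^ v = x
    rw [← pow_add]
    have := pow_eq_of_modEq (hG x) huv
    rw [this, pow_one]
  · rintro ⟨y, z⟩ hyz
    simp only [coe_sigma, Set.mem_sigma_iff, coe_filter, mem_univ, true_and, Set.mem_ofPred_eq] at hyz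
    obtain ⟨⟨hy, hQ⟩, hc, hz⟩ := hyz
    have hcomm : Commute y z := hc.symm
    show (⟨(y * z) ^ u, (y * z) ^ v⟩ : Σ _ : G, G) = ⟨y, z⟩
    have h1 : (y * z) ^ u = y := by
      rw [hcomm.mul_pow, pow_eq_one_of_dvd' hz hsu, mul_one]
      have := pow_eq_of_modEq hy hu1
      rw [this, pow_one]
    have h2 : (y * z) ^ v = z := by
      rw [hcomm.mul_pow, pow_eq_one_of_dvd' hy hPv, one_mul]
      have := pow_eq_of_modEq hz hv1
      rw [this, pow_one]
    rw [h1, h2]

/-- the `n`-prime part `N / gcd N (n ^ N)` of `N` is coprime to `n` -/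
theorem coprime_part (N n : ℕ) (hN : 0 < N) :
    Nat.Coprime (N / Nat.gcd N (n ^ N)) n := by
  rw [Nat.coprime_iff_gcd_eq_one]
  by_contra hne
  obtain ⟨p, hp, hpd⟩ := Nat.exists_prime_and_dvd hne
  have hpm : p ∣ N / Nat.gcd N (n ^ N) := dvd_trans hpd (Nat.gcd_dvd_left _ _)
  have hpn : p ∣ n := dvd_trans hpd (Nat.gcd_dvd_right _ _)
  set k := N.factorization p with hk
  have h1 : p ^ k ∣ N := Nat.ordProj_dvd N p
  have hkN : k ≤ N := by
    have : p ^ k ≤ N := Nat.le_of_dvd hN h1
    exact le_trans (Nat.lt_pow_self hp.one_lt).le this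
  have h2 : p ^ k ∣ n ^ N := dvd_trans (pow_dvd_pow p hkN) (pow_dvd_pow_of_dvd hpn N)
  have h3 : p ^ k ∣ Nat.gcd N (n ^ N) := Nat.dvd_gcd h1 h2
  have h4 : p ^ (k + 1) ∣ N := by
    have : N = N / Nat.gcd N (n ^ N) * Nat.gcd N (n ^ N) :=
      (Nat.div_mul_cancel (Nat.gcd_dvd_left _ _)).symm
    rw [this, pow_succ, mul_comm]
    exact Nat.mul_dvd_mul hpm h3
  exact Nat.pow_succ_factorization_not_dvd hN.ne' hp h4

theorem coprime_parts (N n : ℕ) (hN : 0 < N) :
    Nat.Coprime (Nat.gcd N (n ^ N)) (N / Nat.gcd N (n ^ N)) := by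
  have h := coprime_part N n hN
  have h2 : Nat.Coprime (n ^ N) (N / Nat.gcd N (n ^ N)) := (Nat.Coprime.pow_right N h).symm
  exact Nat.Coprime.coprime_dvd_left (Nat.gcd_dvd_right _ _) h2

theorem dvd_mul_gcd (m a b : ℕ) (h : m ∣ a * b) : m ∣ a * Nat.gcd m b := by
  have h2 : m ∣ a * m := Dvd.intro_left _ rfl
  have h3 : m ∣ Nat.gcd (a * m) (a * b) := Nat.dvd_gcd h2 h
  rwa [Nat.gcd_mul_left] at h3

theorem main {G : Type u} [Group G] [Finite G] (n : ℕ) (_hn : 0 < n) :
    (Nat.card G / Nat.gcd (Nat.card G) (n ^ Nat.card G)) ∣ Nat.card {g : G // n ∣ orderOf g} := by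
  classical
  have := Fintype.ofFinite G
  set N := Nat.card G with hN
  have hNpos : 0 < N := Nat.card_pos
  set A := Nat.gcd N (n ^ N) with hA
  set m := N / A with hm
  have hAm : A * m = N := Nat.mul_div_cancel' (Nat.gcd_dvd_left _ _)
  have co : Nat.Coprime A m := coprime_parts N n hNpos
  have comn : Nat.Coprime m n := coprime_part N n hNpos
  have hG : ∀ g : G, g ^ (A * m) = 1 := by
    intro g; rw [hAm]; exact pow_card_eq_one'
  have hcard : Nat.card {g : G // n ∣ orderOf g} = (univ.filter (fun x : G => n ∣ orderOf x)).card := by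
    rw [Nat.card_eq_fintype_card, Fintype.card_subtype]
  rw [hcard, card_decomp_gen A m co hG (fun x => n ∣ orderOf x) (fun y => n ∣ orderOf y)]
  · -- the sum
    have hsum : ∑ y ∈ univ.filter (fun y : G => y ^ A = 1 ∧ n ∣ orderOf y),
        (univ.filter (fun z : G => z * y = y * z ∧ z ^ m = 1)).card =
        ∑ y : G, (if y ^ A = 1 ∧ n ∣ orderOf y then
          (univ.filter (fun z : G => z * y = y * z ∧ z ^ m = 1)).card else 0) := by
      rw [Finset.sum_filter]
    rw [hsum]
    apply class_sum_dvd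
    · intro g y
      have hord : orderOf (g * y * g⁻¹) = orderOf y := by
        have := MulEquiv.orderOf_eq (MulAut.conj g) y
        rw [← this]; rfl
      have hpow : (g * y * g⁻¹) ^ A = 1 ↔ y ^ A = 1 := by
        rw [← orderOf_dvd_iff_pow_eq_one, ← orderOf_dvd_iff_pow_eq_one, hord]
      have hc : (univ.filter (fun z : G => z * (g * y * g⁻¹) = (g * y * g⁻¹) * z ∧ z ^ m = 1)).card =
          (univ.filter (fun z : G => z * y = y * z ∧ z ^ m = 1)).card := by
        apply Finset.card_nbij' (fun z => g⁻¹ * z * g) (fun z => g * z * g⁻¹)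
        · intro z hz
          simp only [coe_filter, mem_univ, true_and, Set.mem_ofPred_eq] at hz ⊢
          refine ⟨?_, ?_⟩
          · have h1 := hz.1
            calc g⁻¹ * z * g * y = g⁻¹ * (z * (g * y * g⁻¹)) * g := by group
              _ = g⁻¹ * ((g * y * g⁻¹) * z) * g := by rw [h1]
              _ = y * (g⁻¹ * z * g) := by group
          · have : g⁻¹ * z * g = g⁻¹ * z * g⁻¹⁻¹ := by rw [inv_inv]
            rw [this, conj_pow, hz.2]; group
        · intro z hz
          simp only [coe_filter, mem_univ, true_and, Set.mem_ofPred_eq] at hz ⊢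
          refine ⟨?_, ?_⟩
          · have h1 := hz.1
            calc g * z * g⁻¹ * (g * y * g⁻¹) = g * (z * y) * g⁻¹ := by group
              _ = g * (y * z) * g⁻¹ := by rw [h1]
              _ = g * y * g⁻¹ * (g * z * g⁻¹) := by group
          · rw [conj_pow, hz.2]; group
        · intro z _; group
        · intro z _; group
      rw [hord, hc]
      simp only [hpow]
    · intro y
      by_cases hy : y ^ A = 1 ∧ n ∣ orderOf y
      · rw [if_pos hy, Cfsg.Agent.S3993.card_comm_eq]
        have hfrob := Cfsg.Agent.S3993.frobenius_aux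
          (Nat.card ↥(Subgroup.centralizer ({y} : Set G))) ↥(Subgroup.centralizer ({y} : Set G)) rfl m
        have h1 : m ∣ (Subgroup.centralizer ({y} : Set G)).index *
            Nat.card ↥(Subgroup.centralizer ({y} : Set G)) := by
          rw [mul_comm, Subgroup.card_mul_index]
          exact Dvd.intro_left _ hAm
        exact dvd_trans (dvd_mul_gcd _ _ _ h1) (Nat.mul_dvd_mul_left _ hfrob)
      · rw [if_neg hy, mul_zero]; exact dvd_zero _
  · intro y z hy hz hc
    have hoy : orderOf y ∣ A := orderOf_dvd_of_pow_eq_one hy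
    have hoz : orderOf z ∣ m := orderOf_dvd_of_pow_eq_one hz
    have hcop : Nat.Coprime (orderOf y) (orderOf z) :=
      Nat.Coprime.coprime_dvd_left hoy (Nat.Coprime.coprime_dvd_right hoz co)
    have hcomm : Commute y z := hc
    rw [hcomm.orderOf_mul_eq_mul_orderOf_of_coprime hcop]
    constructor
    · intro h
      have hnz : Nat.Coprime n (orderOf z) := (Nat.Coprime.coprime_dvd_left hoz comn).symm
      exact hnz.dvd_of_dvd_mul_right h
    · intro h
      exact dvd_mul_of_dvd_left h _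

theorem result {G : Type*} [Group G] [Finite G] (n : ℕ) (hn : 0 < n) :
    Nat.card {g : G // n ∣ orderOf g} = 0 ∨
      (Nat.card G / Nat.gcd (Nat.card G) (n ^ Nat.card G)) ∣ Nat.card {g : G // n ∣ orderOf g} :=
  Or.inr (main n hn)

end Cfsg.Agent.S3994
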