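import Mathlib
import Cfsg.Statements.S3995
import Cfsg.Agent.Lib_helper20_OrdCount

set_option autoImplicit false
set_option linter.style.haveILetI false
open Cfsg

namespace Cfsg.Agent.S3995

open Cfsg.Agent.helper20.OrdCount

/-- Let G be a finite group such that the numbers of elements of each order that occurs in G (the numbers #{g : o(g) = m}, m ranging over the element orders of G) take exactly two values, 1 and some n ≠ 1. Then either G is a p-group of exponent p and order at least 3 for some prime p, or G is the quaternion group of order 8, or G is cyclic of order 4, or G ≅ Z₂ × P for a p-group P of exponent p with p an odd prime. -/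
theorem result {G : Type*} [Group G] [Finite G] (n : ℕ) (hn : n ≠ 1) (h : ((fun m : ℕ => Nat.card {g : G // orderOf g = m}) '' Set.range (orderOf : G → ℕ)) = {1, n}) :
    (∃ p : ℕ, p.Prime ∧ IsPGroup p G ∧ 3 ≤ Nat.card G ∧ Monoid.exponent G = p) ∨
      Nonempty (G ≃* QuaternionGroup 2) ∨ (IsCyclic G ∧ Nat.card G = 4) ∨
      (∃ (p : ℕ) (P : Type) (_ : Group P) (_ : Finite P), p.Prime ∧ p ≠ 2 ∧ IsPGroup p P ∧ Monoid.exponent P = p ∧
        Nonempty (G ≃* Multiplicative (ZMod 2) × P)) := by
  have hmem : ∀ g : G, cnt G (orderOf g) = 1 ∨ cnt G (orderOf g) = n := by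
    intro g
    have h1 : (fun m : ℕ => Nat.card {g : G // orderOf g = m}) (orderOf g) ∈
        ((fun m : ℕ => Nat.card {g : G // orderOf g = m}) '' Set.range (orderOf : G → ℕ)) :=
      Set.mem_image_of_mem _ (Set.mem_range_self g)
    rw [h] at h1
    exact h1
  have hex : ∃ g : G, cnt G (orderOf g) = n := by
    have h1 : n ∈ ((fun m : ℕ => Nat.card {g : G // orderOf g = m}) ''
        Set.range (orderOf : G → ℕ)) := by
      rw [h]; exact Set.mem_insert_of_mem _ rfl
    obtain ⟨m, ⟨g, rfl⟩, hm⟩ := h1
    exact ⟨g, hm⟩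
  have hc : ∀ g : G, 3 ≤ orderOf g → cnt G (orderOf g) = n := by
    intro g hg
    rcases hmem g with h1 | h1
    · have := le_two_of_cnt_eq_one g h1
      omega
    · exact h1
  obtain ⟨g₀, hg₀⟩ := hex
  have hg₀1 : orderOf g₀ ≠ 1 := by
    intro h1
    rw [h1, cnt_one] at hg₀
    exact hn hg₀.symm
  have hg₀pos := orderOf_pos g₀
  by_cases h2 : cnt G 2 = 1
  · -- unique involution
    have hg₀2 : orderOf g₀ ≠ 2 := by
      intro h1
      rw [h1, h2] at hg₀
      exact hn hg₀.symm
    have hex3 : ∃ g : G, 3 ≤ orderOf g := ⟨g₀, by omega⟩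
    by_cases h4 : ∃ x : G, orderOf x = 4
    · obtain ⟨x, hx⟩ := h4
      rcases quat_or_cyclic n h2 hc x hx with h5 | h5
      · right; left; exact h5
      · right; right; left; exact h5
    · push Not at h4
      right; right; right
      exact prod_of_no_four n h2 hc hex3 h4
  · left
    have hg₀ne : g₀ ≠ 1 := fun h1 => hg₀1 (by rw [h1, orderOf_one])
    haveI : Nontrivial G := ⟨⟨g₀, 1, hg₀ne⟩⟩
    have hconst : ∀ g : G, g ≠ 1 → cnt G (orderOf g) = n := by
      intro g hg
      have h1 : orderOf g ≠ 1 := fun h1 => hg (orderOf_eq_one_iff.mp h1)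
      have hpos := orderOf_pos g
      by_cases h3 : 3 ≤ orderOf g
      · exact hc g h3
      · have h5 : orderOf g = 2 := by omega
        rcases hmem g with h6 | h6
        · rw [h5] at h6
          exact absurd h6 h2
        · exact h6
    obtain ⟨p, hp, hpG, hexp⟩ := pgroup_of_const n hconst
    refine ⟨p, hp, hpG, ?_, hexp⟩
    -- at least three elements
    have hn0 : 0 < n := by
      rw [← hg₀]; exact cnt_pos g₀
    have hlt : n < Nat.card G := by
      classical
      haveI : Fintype G := Fintype.ofFinite G
      rw [← hg₀, cnt_def, Nat.card_eq_fintype_card, Nat.card_eq_fintype_card]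
      exact Fintype.card_subtype_lt (x := (1 : G)) (by rw [orderOf_one]; exact fun h1 => hg₀1 h1.symm)
    omega

end Cfsg.Agent.S3995
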