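import Mathlib
import Cfsg.Statements.S3997

set_option autoImplicit false
open Cfsg

namespace Cfsg.Agent.S3997

theorem exists_equiv {G H : Type*} [Group G] [Finite G] [Group H] [Finite H]
    (hT : ∀ m : ℕ, Nat.card {g : G // orderOf g = m} = Nat.card {h : H // orderOf h = m}) :
    ∃ e : G ≃ H, ∀ g, orderOf (e g) = orderOf g := by
  have hne : ∀ m : ℕ, Nonempty ({g : G // orderOf g = m} ≃ {h : H // orderOf h = m}) :=
    fun m => Finite.card_eq.mp (hT m)
  let em : ∀ m : ℕ, {g : G // orderOf g = m} ≃ {h : H // orderOf h = m} := fun m => (hne m).some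
  let e : G ≃ H := (Equiv.sigmaFiberEquiv (orderOf : G → ℕ)).symm.trans
    ((Equiv.sigmaCongrRight em).trans (Equiv.sigmaFiberEquiv (orderOf : H → ℕ)))
  refine ⟨e, fun g => ?_⟩
  exact (em (orderOf g) ⟨g, rfl⟩).2

theorem pElements_eq_sylow {G : Type*} [Group G] [Finite G] (p : ℕ) [Fact p.Prime]
    (P : Sylow p G) (hP : (P : Subgroup G).Normal) :
    {g : G | ∃ k : ℕ, orderOf g = p ^ k} = ((P : Subgroup G) : Set G) := by
  ext g
  constructor
  · rintro ⟨k, hk⟩
    have hpg : IsPGroup p (Subgroup.zpowers g) := by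
      apply IsPGroup.of_card (n := k)
      rw [Nat.card_zpowers, hk]
    obtain ⟨P', hP'⟩ := hpg.exists_le_sylow
    have := Sylow.unique_of_normal P hP
    have hPP : P' = P := Subsingleton.elim _ _
    rw [hPP] at hP'
    exact hP' (Subgroup.mem_zpowers g)
  · intro hg
    obtain ⟨k, hk⟩ := (IsPGroup.iff_orderOf.mp P.2) ⟨g, hg⟩
    exact ⟨k, by rw [← hk, Subgroup.orderOf_mk]⟩

/-- Let G and H be finite groups with the same order type: for every m they have the same number of elements of order m. If G is nilpotent then so is H. -/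
theorem result {G H : Type*} [Group G] [Finite G] [Group H] [Finite H] (hT : (∀ m : ℕ, Nat.card {g : G // orderOf g = m} = Nat.card {h : H // orderOf h = m})) (hG : Group.IsNilpotent G) :
    Group.IsNilpotent H := by
  obtain ⟨e, he⟩ := exists_equiv hT
  have hcard : Nat.card G = Nat.card H := Nat.card_congr e
  apply ((Group.isNilpotent_of_finite_tfae (G := H)).out 3 0).mp
  intro p _ Q
  have hGn := ((Group.isNilpotent_of_finite_tfae (G := G)).out 0 3).mp hG
  obtain ⟨P⟩ : Nonempty (Sylow p G) := inferInstance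
  have hPn : (P : Subgroup G).Normal := hGn p inferInstance P
  have hA := pElements_eq_sylow p P hPn
  -- the set of p-elements of H
  have hB : ((Q : Subgroup H) : Set H) ⊆ {h : H | ∃ k : ℕ, orderOf h = p ^ k} := by
    intro h hh
    obtain ⟨k, hk⟩ := (IsPGroup.iff_orderOf.mp Q.2) ⟨h, hh⟩
    exact ⟨k, by rw [← hk, Subgroup.orderOf_mk]⟩
  have hBA : {h : H | ∃ k : ℕ, orderOf h = p ^ k}.ncard = {g : G | ∃ k : ℕ, orderOf g = p ^ k}.ncard := by
    rw [← Nat.card_coe_set_eq, ← Nat.card_coe_set_eq]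
    symm
    apply Nat.card_congr
    exact e.subtypeEquiv (fun g => by simp only [Set.mem_ofPred_eq, he])
  have hQB : ((Q : Subgroup H) : Set H) = {h : H | ∃ k : ℕ, orderOf h = p ^ k} := by
    apply Set.eq_of_subset_of_ncard_le hB _ (Set.toFinite _)
    rw [hBA, hA, ← Nat.card_coe_set_eq, ← Nat.card_coe_set_eq]
    show Nat.card (P : Subgroup G) ≤ Nat.card (Q : Subgroup H)
    rw [Sylow.card_eq_multiplicity, Sylow.card_eq_multiplicity, hcard]
  constructor
  intro h hh x
  have : h ∈ ((Q : Subgroup H) : Set H) := hh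
  rw [hQB] at this
  obtain ⟨k, hk⟩ := this
  have h2 : x * h * x⁻¹ ∈ ((Q : Subgroup H) : Set H) := by
    rw [hQB]
    refine ⟨k, ?_⟩
    rw [← hk]
    exact MulEquiv.orderOf_eq (MulAut.conj x) h
  exact h2

end Cfsg.Agent.S3997
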