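import Cfsg.Statements.S4003
import Cfsg.Agent.Lib_helper20_Miller2
import Cfsg.Agent.Lib_helper23_BG5a

set_option autoImplicit false
set_option linter.style.haveILetI false
open Cfsg

namespace Cfsg.Agent.S4003

open Cfsg.Agent.helper20.Miller

/-- decomposition of an element of order `q * m` (coprime) into its two parts, as powers -/
theorem decomp {G : Type*} [Group G] {q m a b : ℕ} (hcop : q.Coprime m)
    (ha1 : a ≡ 0 [MOD q]) (ha2 : a ≡ 1 [MOD m]) (hb1 : b ≡ 1 [MOD q]) (hb2 : b ≡ 0 [MOD m])
    (h : G) (hh : orderOf h = q * m) :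
    h ^ b * h ^ a = h ∧ Commute (h ^ b) (h ^ a) ∧ orderOf (h ^ b) = q ∧ orderOf (h ^ a) = m := by
  have hab : b + a ≡ 1 [MOD q * m] := by
    apply (Nat.modEq_and_modEq_iff_modEq_mul hcop).mp
    exact ⟨by simpa using hb1.add ha1, by simpa using hb2.add ha2⟩
  have e1 : h ^ b * h ^ a = h := by
    rw [← pow_add]
    have := (pow_eq_pow_iff_modEq (x := h) (n := b + a) (m := 1)).mpr (by rw [hh]; exact hab)
    rwa [pow_one] at this
  have hc : Commute (h ^ b) (h ^ a) := (Commute.refl h).pow_pow b a
  have hd1 : orderOf (h ^ b) ∣ q := by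
    rw [orderOf_dvd_iff_pow_eq_one, ← pow_mul, ← orderOf_dvd_iff_pow_eq_one, hh]
    obtain ⟨c, hc'⟩ := (Nat.modEq_zero_iff_dvd).mp hb2
    rw [hc']
    exact ⟨c, by ring⟩
  have hd2 : orderOf (h ^ a) ∣ m := by
    rw [orderOf_dvd_iff_pow_eq_one, ← pow_mul, ← orderOf_dvd_iff_pow_eq_one, hh]
    obtain ⟨c, hc'⟩ := (Nat.modEq_zero_iff_dvd).mp ha1
    rw [hc']
    exact ⟨c, by ring⟩
  have hcop' : (orderOf (h ^ b)).Coprime (orderOf (h ^ a)) :=
    Nat.Coprime.coprime_dvd_left hd1 (Nat.Coprime.coprime_dvd_right hd2 hcop)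
  have hmul := hc.orderOf_mul_eq_mul_orderOf_of_coprime hcop'
  rw [e1, hh] at hmul
  refine ⟨e1, hc, ?_, ?_⟩
  · apply Nat.dvd_antisymm hd1
    have h1 : q ∣ orderOf (h ^ b) * orderOf (h ^ a) := by rw [← hmul]; exact dvd_mul_right _ _
    exact (Nat.Coprime.coprime_dvd_right hd2 hcop).dvd_of_dvd_mul_right h1
  · apply Nat.dvd_antisymm hd2
    have h1 : m ∣ orderOf (h ^ b) * orderOf (h ^ a) := by rw [← hmul]; exact dvd_mul_left _ _
    exact (Nat.Coprime.coprime_dvd_right hd1 hcop.symm).dvd_of_dvd_mul_left h1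

/-- Let G be a finite group, p an odd prime dividing the order of G whose Sylow p-subgroups are not cyclic, and n = p^s·m with s > 1 and m coprime to p. Then the number of elements of G of order n is a multiple of p^s. -/
theorem result {G : Type*} [Group G] [Finite G] (p : ℕ) [Fact p.Prime] (hodd : p ≠ 2) (hpG : p ∣ Nat.card G)
    (P : Sylow p G) (hP : ¬ IsCyclic ↥(P : Subgroup G)) (s m : ℕ) (hs : 1 < s) (hm : Nat.Coprime p m) :
    p ^ s ∣ Nat.card {g : G // orderOf g = p ^ s * m} := by
  classical
  have hp : p.Prime := Fact.out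
  have hm0 : 0 < m := by
    rcases Nat.eq_zero_or_pos m with h | h
    · subst h
      rw [Nat.coprime_zero_right] at hm
      exact absurd hm hp.ne_one
    · exact h
  have hcop : (p ^ s).Coprime m := Nat.Coprime.pow_left s hm
  obtain ⟨a, ha1, ha2⟩ := Nat.chineseRemainder hcop 0 1
  obtain ⟨b, hb1, hb2⟩ := Nat.chineseRemainder hcop 1 0
  have hdec := fun (h : G) (hh : orderOf h = p ^ s * m) => decomp hcop ha1 ha2 hb1 hb2 h hh
  show p ^ s ∣ Nat.card ↥{g : G | orderOf g = p ^ s * m}
  rw [Nat.card_coe_set_eq]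
  refine dvd_ncard_of_blocks (p ^ s)
    (fun g : G => {h | orderOf h = p ^ s * m ∧ IsConj (g ^ a) (h ^ a)}) _
    {g : G | orderOf g = p ^ s * m} (Set.toFinite _) rfl ?_ ?_ ?_ ?_
  · intro g _ h hh
    exact hh.1
  · intro g hg
    exact ⟨hg, IsConj.refl _⟩
  · intro g _ h hh
    ext h'
    constructor
    · rintro ⟨h1, h2⟩
      exact ⟨h1, hh.2.trans h2⟩
    · rintro ⟨h1, h2⟩
      exact ⟨h1, hh.2.symm.trans h2⟩
  · intro g hg
    have hg' : orderOf g = p ^ s * m := hg
    show p ^ s ∣ {h : G | orderOf h = p ^ s * m ∧ IsConj (g ^ a) (h ^ a)}.ncard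
    have C1 : ∀ w : G, orderOf w = m → {h : G | orderOf h = p ^ s * m ∧ h ^ a = w} =
        (fun u => u * w) '' {u : G | Commute u w ∧ orderOf u = p ^ s} := by
      intro w hw
      ext h
      constructor
      · rintro ⟨hh, rfl⟩
        obtain ⟨e1, e2, e3, _⟩ := hdec h hh
        exact ⟨h ^ b, ⟨e2, e3⟩, e1⟩
      · rintro ⟨u, ⟨hc, hu⟩, rfl⟩
        refine ⟨?_, ?_⟩
        · rw [hc.orderOf_mul_eq_mul_orderOf_of_coprime (by rw [hu, hw]; exact hcop), hu, hw]
        · show (u * w) ^ a = w
          rw [hc.mul_pow]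
          have h1 : u ^ a = 1 := by
            rw [← orderOf_dvd_iff_pow_eq_one, hu]
            exact (Nat.modEq_zero_iff_dvd).mp ha1
          have h2 : w ^ a = w := by
            have := (pow_eq_pow_iff_modEq (x := w) (n := a) (m := 1)).mpr (by rw [hw]; exact ha2)
            rwa [pow_one] at this
          rw [h1, h2, one_mul]
    have C2 : ∀ w t : G, {u : G | Commute u (t * w * t⁻¹) ∧ orderOf u = p ^ s}.ncard =
        {u : G | Commute u w ∧ orderOf u = p ^ s}.ncard := by
      intro w t
      have hset : {u : G | Commute u (t * w * t⁻¹) ∧ orderOf u = p ^ s} =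
          (fun u => t * u * t⁻¹) '' {u : G | Commute u w ∧ orderOf u = p ^ s} := by
        ext u
        constructor
        · rintro ⟨hc, hu⟩
          refine ⟨t⁻¹ * u * t, ⟨?_, ?_⟩, by group⟩
          · have := hc.eq
            show t⁻¹ * u * t * w = w * (t⁻¹ * u * t)
            have e1 : t⁻¹ * u * t * w = t⁻¹ * (u * (t * w * t⁻¹)) * t := by group
            have e2 : w * (t⁻¹ * u * t) = t⁻¹ * ((t * w * t⁻¹) * u) * t := by group
            rw [e1, e2, this]
          · have := orderOf_conj' t⁻¹ u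
            rw [inv_inv] at this
            show orderOf (t⁻¹ * u * t) = p ^ s
            rw [this]
            exact hu
        · rintro ⟨u, ⟨hc, hu⟩, rfl⟩
          refine ⟨?_, ?_⟩
          · show t * u * t⁻¹ * (t * w * t⁻¹) = t * w * t⁻¹ * (t * u * t⁻¹)
            have e1 : t * u * t⁻¹ * (t * w * t⁻¹) = t * (u * w) * t⁻¹ := by group
            have e2 : t * w * t⁻¹ * (t * u * t⁻¹) = t * (w * u) * t⁻¹ := by group
            rw [e1, e2, hc.eq]
          · show orderOf (t * u * t⁻¹) = p ^ s
            rw [orderOf_conj']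
            exact hu
      rw [hset]
      exact Set.ncard_image_of_injective _ (fun x y hxy => by simpa using hxy)
    have hvo : orderOf (g ^ a) = m := (hdec g hg').2.2.2
    have hfib := ncard_eq_mul_of_fibers (fun h : G => h ^ a)
      ({u : G | Commute u (g ^ a) ∧ orderOf u = p ^ s}.ncard) _
      {h : G | orderOf h = p ^ s * m ∧ IsConj (g ^ a) (h ^ a)} (Set.toFinite _) rfl ?_
    · have himg : (fun h : G => h ^ a) '' {h : G | orderOf h = p ^ s * m ∧ IsConj (g ^ a) (h ^ a)} =
          {w | ∃ t : G, t * (g ^ a) * t⁻¹ = w} := by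
        ext w
        constructor
        · rintro ⟨h, ⟨_, hc⟩, rfl⟩
          exact isConj_iff.mp hc
        · rintro ⟨t, rfl⟩
          refine ⟨t * g * t⁻¹, ⟨?_, ?_⟩, ?_⟩
          · show orderOf (t * g * t⁻¹) = p ^ s * m
            rw [orderOf_conj']
            exact hg'
          · show IsConj (g ^ a) ((t * g * t⁻¹) ^ a)
            rw [conj_pow]
            exact isConj_iff.mpr ⟨t, rfl⟩
          · show (t * g * t⁻¹) ^ a = t * g ^ a * t⁻¹
            rw [conj_pow]
      rw [himg, Cfsg.Agent.helper23.ncard_conjSet] at hfib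
      rw [hfib]
      have hU : {u : G | Commute u (g ^ a) ∧ orderOf u = p ^ s} =
          XR (p ^ s) (Subgroup.centralizer ({g ^ a} : Set G)) := by
        ext u
        simp only [XR, Set.mem_ofPred_eq, Subgroup.mem_centralizer_singleton_iff]
        constructor
        · rintro ⟨hc, hu⟩
          exact ⟨hc.eq, hu⟩
        · rintro ⟨hc, hu⟩
          exact ⟨hc, hu⟩
      rw [hU, ncard_XR_eq]
      let Qv : Sylow p ↥(Subgroup.centralizer ({g ^ a} : Set G)) := default
      by_cases hcyc : IsCyclic ↥(Qv : Subgroup ↥(Subgroup.centralizer ({g ^ a} : Set G)))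
      · have h1 := pow_pred_dvd_ncard (C := ↥(Subgroup.centralizer ({g ^ a} : Set G))) (p := p) s
          (by omega)
        have h2 : p ∣ (Subgroup.centralizer ({g ^ a} : Set G)).index := by
          by_contra hnd
          apply hP
          have hinj : Function.Injective (Subgroup.centralizer ({g ^ a} : Set G)).subtype :=
            Subgroup.subtype_injective _
          have hQp : IsPGroup p ↥((Qv : Subgroup ↥(Subgroup.centralizer ({g ^ a} : Set G))).map
              (Subgroup.centralizer ({g ^ a} : Set G)).subtype) := Qv.isPGroup'.map _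
          obtain ⟨P', hP'⟩ := hQp.exists_le_sylow
          have hcard : Nat.card ↥(P' : Subgroup G) ≤
              Nat.card ↥((Qv : Subgroup ↥(Subgroup.centralizer ({g ^ a} : Set G))).map
              (Subgroup.centralizer ({g ^ a} : Set G)).subtype) := by
            rw [Subgroup.card_map_of_injective hinj, Sylow.card_eq_multiplicity,
              Sylow.card_eq_multiplicity,
              ← Subgroup.card_mul_index (Subgroup.centralizer ({g ^ a} : Set G)),
              Nat.factorization_mul Nat.card_pos.ne'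
                (Subgroup.index_ne_zero_of_finite),
              Finsupp.add_apply, Nat.factorization_eq_zero_of_not_dvd hnd, add_zero]
          have heq := Subgroup.eq_of_le_of_card_ge hP' hcard
          have hc1 : IsCyclic ↥((Qv : Subgroup ↥(Subgroup.centralizer ({g ^ a} : Set G))).map
              (Subgroup.centralizer ({g ^ a} : Set G)).subtype) :=
            (Subgroup.equivMapOfInjective _ _ hinj).isCyclic.mp hcyc
          rw [heq] at hc1
          exact (Sylow.equiv P' P).isCyclic.mp hc1
        have hps : p ^ s = p ^ (s - 1) * p := by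
          rw [← pow_succ]
          congr 1
          omega
        have h3 := mul_dvd_mul h1 h2
        rw [← hps] at h3
        exact h3
      · have h1 := pow_dvd_ncard_of_sylow Qv s (by omega)
          (pgroup_count hodd Qv.isPGroup' hcyc s hs)
        exact Dvd.dvd.mul_right h1 _
    · rintro h₀ ⟨hh₀, hconj⟩
      have hw₀ : orderOf (h₀ ^ a) = m := (hdec h₀ hh₀).2.2.2
      have hset : {x | x ∈ {h : G | orderOf h = p ^ s * m ∧ IsConj (g ^ a) (h ^ a)} ∧
          (fun h : G => h ^ a) x = (fun h : G => h ^ a) h₀} =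
          {h : G | orderOf h = p ^ s * m ∧ h ^ a = h₀ ^ a} := by
        ext x
        constructor
        · rintro ⟨⟨h1, _⟩, h2⟩
          exact ⟨h1, h2⟩
        · rintro ⟨h1, h2⟩
          have h2' : x ^ a = h₀ ^ a := h2
          refine ⟨⟨h1, ?_⟩, h2⟩
          show IsConj (g ^ a) (x ^ a)
          rw [h2']
          exact hconj
      rw [hset, C1 _ hw₀, Set.ncard_image_of_injective _ (mul_left_injective _)]
      obtain ⟨t, ht⟩ := isConj_iff.mp hconj
      rw [← ht]
      exact C2 (g ^ a) t

end Cfsg.Agent.S4003
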