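import Mathlib
import Cfsg.Statements.S4005
import Cfsg.Agent.S0144
import Cfsg.Agent.S0040
import Cfsg.Agent.Lib_helper23_PSolv3
import Cfsg.Agent.Lib_helper15_Gen5

set_option autoImplicit false
open Cfsg

namespace Cfsg.Agent.S4005

/-- element orders all in `{1,2,3}` -/
def Ord3 (G : Type*) [Group G] : Prop := ∀ g : G, orderOf g = 1 ∨ orderOf g = 2 ∨ orderOf g = 3

theorem no6 {G : Type*} [Group G] (h : Ord3 G) (a b : G) (ha : orderOf a = 2) (hb : orderOf b = 3)
    (hc : Commute a b) : False := by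
  have h6 : orderOf (a * b) = 6 := by
    rw [hc.orderOf_mul_eq_mul_orderOf_of_coprime (by rw [ha, hb]; decide), ha, hb]
  rcases h (a * b) with h1 | h1 | h1 <;> omega

/-- a `2`-element has order dividing 2 -/
theorem sq_eq_one {G : Type*} [Group G] (h : Ord3 G) {S : Subgroup G} (hS : IsPGroup 2 S) {g : G}
    (hg : g ∈ S) : g ^ 2 = 1 := by
  obtain ⟨k, hk⟩ := hS ⟨g, hg⟩
  have hk' : g ^ 2 ^ k = 1 := by
    have := congrArg Subtype.val hk
    simpa using this
  have hd : orderOf g ∣ 2 ^ k := orderOf_dvd_of_pow_eq_one hk'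
  rcases h g with h1 | h1 | h1
  · rw [orderOf_eq_one_iff.1 h1]; simp
  · rw [← h1]; exact pow_orderOf_eq_one g
  · exfalso
    rw [h1] at hd
    have := (Nat.Prime.dvd_of_dvd_pow Nat.prime_three hd)
    omega

theorem cube_eq_one {G : Type*} [Group G] (h : Ord3 G) {S : Subgroup G} (hS : IsPGroup 3 S) {g : G}
    (hg : g ∈ S) : g ^ 3 = 1 := by
  obtain ⟨k, hk⟩ := hS ⟨g, hg⟩
  have hk' : g ^ 3 ^ k = 1 := by
    have := congrArg Subtype.val hk
    simpa using this
  have hd : orderOf g ∣ 3 ^ k := orderOf_dvd_of_pow_eq_one hk'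
  rcases h g with h1 | h1 | h1
  · rw [orderOf_eq_one_iff.1 h1]; simp
  · exfalso
    rw [h1] at hd
    have := (Nat.Prime.dvd_of_dvd_pow Nat.prime_two hd)
    omega
  · rw [← h1]; exact pow_orderOf_eq_one g

theorem comm_of_sq {G : Type*} [Group G] {S : Subgroup G} (hS : ∀ g ∈ S, g ^ 2 = 1) :
    IsMulCommutative S := by
  refine ⟨⟨fun a b => ?_⟩⟩
  apply Subtype.ext
  have ha := hS a a.2
  have hb := hS b b.2
  have hab := hS (a * b) (S.mul_mem a.2 b.2)
  show (a : G) * b = b * a
  have h1 : (a : G) * b = ((a : G) * b)⁻¹ := by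
    rw [eq_inv_iff_mul_eq_one, ← pow_two]; exact hab
  have h2 : (a : G)⁻¹ = a := by rw [inv_eq_iff_mul_eq_one, ← pow_two]; exact ha
  have h3 : (b : G)⁻¹ = b := by rw [inv_eq_iff_mul_eq_one, ← pow_two]; exact hb
  rw [h1, mul_inv_rev, h2, h3]

theorem card_eq {G : Type*} [Group G] [Finite G] (h : Ord3 G) :
    Nat.card G = 2 ^ (Nat.card G).factorization 2 * 3 ^ (Nat.card G).factorization 3 := by
  have hn : Nat.card G ≠ 0 := Nat.card_pos.ne'
  have hpr : ∀ p : ℕ, p.Prime → p ∣ Nat.card G → p = 2 ∨ p = 3 := by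
    intro p hp hd
    have : Fact p.Prime := ⟨hp⟩
    obtain ⟨g, hg⟩ := exists_prime_orderOf_dvd_card' p hd
    rcases h g with h1 | h1 | h1
    · rw [h1] at hg; exact absurd hg.symm hp.one_lt.ne'
    · left; omega
    · right; omega
  have h2 : Nat.card G = ordProj[2] (Nat.card G) * ordCompl[2] (Nat.card G) :=
    (Nat.ordProj_mul_ordCompl_eq_self _ 2).symm
  have h3 : ordCompl[2] (Nat.card G) = 3 ^ (ordCompl[2] (Nat.card G)).factorization 3 := by
    have hne : ordCompl[2] (Nat.card G) ≠ 0 := (Nat.ordCompl_pos 2 hn).ne'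
    obtain ⟨m, hm⟩ : ∃ m, ordCompl[2] (Nat.card G) = 3 ^ m := by
      refine ⟨_, Nat.eq_prime_pow_of_unique_prime_dvd hne ?_⟩
      intro d hd hdd
      rcases hpr d hd (hdd.trans (Nat.ordCompl_dvd _ 2)) with h1 | h1
      · exfalso
        subst h1
        exact Nat.not_dvd_ordCompl Nat.prime_two hn hdd
      · exact h1
    rw [hm, Nat.Prime.factorization_pow Nat.prime_three]
    simp
  have h4 : (ordCompl[2] (Nat.card G)).factorization 3 = (Nat.card G).factorization 3 := by
    rw [Nat.factorization_ordCompl]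
    simp
  rw [h4] at h3
  conv_lhs => rw [h2, h3]

theorem result {G : Type*} [Group G] [Finite G] (h : Set.range (orderOf : G → ℕ) = {k : ℕ | 1 ≤ k ∧ k ≤ 3}) :
    (∃ N : Subgroup G, N.Normal ∧ Cfsg.IsElementaryAbelian 3 N ∧ N.index = 2) ∨
      (∃ N : Subgroup G, N.Normal ∧ Cfsg.IsElementaryAbelian 2 N ∧ N.index = 3) := by
  classical
  have hord : Ord3 G := by
    intro g
    have : orderOf g ∈ Set.range (orderOf : G → ℕ) := ⟨g, rfl⟩
    rw [h] at this
    obtain ⟨h1, h2⟩ := this
    omega
  obtain ⟨t, ht⟩ : ∃ t : G, orderOf t = 2 := by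
    have : (2 : ℕ) ∈ Set.range (orderOf : G → ℕ) := by rw [h]; constructor <;> norm_num
    exact this
  obtain ⟨x, hx⟩ : ∃ x : G, orderOf x = 3 := by
    have : (3 : ℕ) ∈ Set.range (orderOf : G → ℕ) := by rw [h]; constructor <;> norm_num
    exact this
  have hcard := card_eq hord
  set a := (Nat.card G).factorization 2 with ha
  set b := (Nat.card G).factorization 3 with hb
  have : Fact (Nat.Prime 2) := ⟨Nat.prime_two⟩
  have : Fact (Nat.Prime 3) := ⟨Nat.prime_three⟩
  have hsolv : Group.IsSolvable G := S0144.result 2 3 a b Nat.prime_two Nat.prime_three hcard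
  have : Nontrivial G := ⟨⟨t, 1, fun h1 => by rw [h1, orderOf_one] at ht; omega⟩⟩
  obtain ⟨q, hq⟩ := helper23.exists_pCore_ne_bot_of_solvable G
  have : Fact (q : ℕ).Prime := ⟨q.2⟩
  have hKn : (Cfsg.pCore (q : ℕ) G).Normal := helper1.pCore_normal _
  have hKp : IsPGroup (q : ℕ) (Cfsg.pCore (q : ℕ) G) := helper1.pCore_isPGroup _
  obtain ⟨K, hK⟩ : ∃ K : Subgroup G, K = Cfsg.pCore (q : ℕ) G := ⟨_, rfl⟩
  rw [← hK] at hq hKn hKp
  -- a nonidentity element of K
  obtain ⟨k, hkK, hk1⟩ : ∃ k ∈ K, k ≠ 1 := by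
    by_contra hcon
    push Not at hcon
    exact hq ((Subgroup.eq_bot_iff_forall _).2 hcon)
  have hP2 : ∀ P : Sylow 2 G, ∀ g ∈ (P : Subgroup G), g ^ 2 = 1 := fun P g hg =>
    sq_eq_one hord P.2 hg
  have hQ3 : ∀ Q : Sylow 3 G, ∀ g ∈ (Q : Subgroup G), g ^ 3 = 1 := fun Q g hg =>
    cube_eq_one hord Q.2 hg
  have hcardP : ∀ P : Sylow 2 G, Nat.card (P : Subgroup G) = 2 ^ a := fun P =>
    P.card_eq_multiplicity
  have hcardQ : ∀ Q : Sylow 3 G, Nat.card (Q : Subgroup G) = 3 ^ b := fun Q =>
    Q.card_eq_multiplicity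
  have hq23 : (q : ℕ) = 2 ∨ (q : ℕ) = 3 := by
    obtain ⟨m, hm⟩ := hKp ⟨k, hkK⟩
    have hm' : k ^ (q : ℕ) ^ m = 1 := by
      have := congrArg Subtype.val hm
      simpa using this
    have hd : orderOf k ∣ (q : ℕ) ^ m := orderOf_dvd_of_pow_eq_one hm'
    rcases hord k with h1 | h1 | h1
    · exact absurd (orderOf_eq_one_iff.1 h1) hk1
    · left
      rw [h1] at hd
      exact ((Nat.prime_dvd_prime_iff_eq Nat.prime_two q.2).1
        (Nat.Prime.dvd_of_dvd_pow Nat.prime_two hd)).symm
    · right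
      rw [h1] at hd
      exact ((Nat.prime_dvd_prime_iff_eq Nat.prime_three q.2).1
        (Nat.Prime.dvd_of_dvd_pow Nat.prime_three hd)).symm
  have hcop : Nat.Coprime (2 ^ a) (3 ^ b) := Nat.Coprime.pow _ _ (by decide)
  rcases hq23 with hq2 | hq3
  · -- `K` a normal 2-subgroup
    right
    rw [hq2] at hKp
    have hk2 : orderOf k = 2 := by
      have := sq_eq_one hord hKp hkK
      exact orderOf_eq_prime this hk1
    obtain ⟨P, hKP⟩ := hKp.exists_le_sylow
    have hPc : IsMulCommutative (P : Subgroup G) := comm_of_sq (hP2 P)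
    have := hKn
    have hCn : (Subgroup.centralizer (K : Set G)).Normal := Subgroup.normal_centralizer
    have hC2 : IsPGroup 2 (Subgroup.centralizer (K : Set G)) := by
      rintro ⟨g, hg⟩
      have hgk : Commute k g := (hg k hkK)
      rcases hord g with h1 | h1 | h1
      · exact ⟨0, by apply Subtype.ext; simpa using orderOf_eq_one_iff.1 h1⟩
      · refine ⟨1, ?_⟩
        apply Subtype.ext
        simp only [pow_one, SubmonoidClass.coe_pow, OneMemClass.coe_one]
        rw [← h1]; exact pow_orderOf_eq_one g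
      · exact (no6 hord k g hk2 h1 hgk).elim
    have hPC : (P : Subgroup G) ≤ Subgroup.centralizer (K : Set G) := by
      intro g hg k' hk'
      have := hPc.is_comm.comm ⟨k', hKP hk'⟩ ⟨g, hg⟩
      exact congrArg Subtype.val this
    have hCP : Subgroup.centralizer (K : Set G) = P := P.is_maximal' hC2 hPC
    have hPn : (P : Subgroup G).Normal := hCP ▸ hCn
    have := hPn
    have hPne : (P : Subgroup G) ≠ ⊥ := fun hb' => hk1 ((Subgroup.mem_bot).1 (hb' ▸ hKP hkK))
    obtain ⟨Q⟩ : Nonempty (Sylow 3 G) := inferInstance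
    have hcompl : Subgroup.IsComplement' (P : Subgroup G) (Q : Subgroup G) := by
      apply Subgroup.isComplement'_of_coprime
      · rw [hcardP, hcardQ]; exact hcard.symm
      · rw [hcardP, hcardQ]; exact hcop
    have hfpf : ∀ y ∈ (Q : Subgroup G), y ≠ 1 → (P : Subgroup G) ⊓ Subgroup.centralizer {y} = ⊥ := by
      intro y hy hy1
      have hy3 : orderOf y = 3 := orderOf_eq_prime (hQ3 Q y hy) hy1
      rw [Subgroup.eq_bot_iff_forall]
      rintro g ⟨hgP, hgC⟩
      by_contra hg1
      have hg2 : orderOf g = 2 := orderOf_eq_prime (hP2 P g hgP) hg1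
      have hgy : Commute g y := Subgroup.mem_centralizer_singleton_iff.1 hgC
      exact no6 hord g y hg2 hy3 hgy
    obtain ⟨R⟩ : Nonempty (Sylow 3 (Q : Subgroup G)) := inferInstance
    have hRcard : Nat.card (R : Subgroup (Q : Subgroup G)) = 3 ^ b := by
      rw [R.card_eq_multiplicity, hcardQ, Nat.Prime.factorization_pow Nat.prime_three]
      simp
    have hb1 : 1 ≤ b := by
      have : 3 ∣ Nat.card G := hx ▸ orderOf_dvd_natCard x
      have := (Nat.Prime.factorization_pos_of_dvd Nat.prime_three Nat.card_pos.ne' this)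
      exact this
    have hR := S0040.result (P : Subgroup G) (Q : Subgroup G) hcompl hPne hfpf 3 R
    have hb' : b = 1 := by
      rcases hR with hcyc | ⟨n, ⟨e⟩⟩
      · obtain ⟨g, hg⟩ := hcyc.exists_generator
        have hog : orderOf g = 3 ^ b := by
          rw [orderOf_eq_card_of_forall_mem_zpowers hg, hRcard]
        have hg3 : g ^ 3 = 1 := by
          apply Subtype.ext
          apply Subtype.ext
          have := hQ3 Q ((g : (Q : Subgroup G)) : G) (g : (Q : Subgroup G)).2
          simpa using this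
        have hd : 3 ^ b ∣ 3 := hog ▸ orderOf_dvd_of_pow_eq_one hg3
        have : b ≤ 1 := by
          by_contra hlt
          push Not at hlt
          have h9 : 3 ^ 2 ∣ 3 ^ b := pow_dvd_pow 3 hlt
          have := Nat.le_of_dvd (by norm_num) (h9.trans hd)
          omega
        omega
      · exfalso
        have hc := Nat.card_congr e.toEquiv
        rw [hRcard, Nat.card_eq_fintype_card, QuaternionGroup.card] at hc
        have h2 : 2 ∣ 3 ^ b := hc ▸ (⟨2 * 2 ^ n, by ring⟩ : 2 ∣ 4 * 2 ^ n)
        have := Nat.Prime.dvd_of_dvd_pow Nat.prime_two h2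
        omega
    refine ⟨P, hPn, ⟨hPc, hP2 P⟩, ?_⟩
    have h1 := Subgroup.card_mul_index (P : Subgroup G)
    rw [hcardP, hcard, hb'] at h1
    have h2a : 0 < 2 ^ a := by positivity
    have := Nat.eq_of_mul_eq_mul_left h2a h1
    simpa using this
  · -- `K` a normal 3-subgroup
    left
    rw [hq3] at hKp
    have hk3 : orderOf k = 3 := by
      have := cube_eq_one hord hKp hkK
      exact orderOf_eq_prime this hk1
    obtain ⟨P⟩ : Nonempty (Sylow 2 G) := inferInstance
    have hPc : IsMulCommutative (P : Subgroup G) := comm_of_sq (hP2 P)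
    have h2G : 2 ∣ Nat.card G := ht ▸ orderOf_dvd_natCard t
    have hPne : (P : Subgroup G) ≠ ⊥ := P.ne_bot_of_dvd_card h2G
    have hcyc : IsCyclic (P : Subgroup G) := by
      by_contra hnc
      have hPK : (P : Subgroup G) ≤ Subgroup.normalizer (K : Set G) := by
        rw [Subgroup.normalizer_eq_top_iff.2 hKn]; exact le_top
      have hcop' : (Nat.card (P : Subgroup G)).Coprime (Nat.card K) := by
        obtain ⟨m, hm⟩ := IsPGroup.iff_card.1 hKp
        rw [hcardP, hm]
        exact Nat.Coprime.pow _ _ (by decide)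
      have hgen := helper15.iSup_centralizer_eq_of_not_isCyclic (P : Subgroup G) K hnc hPK hcop'
      have hbot : (⨆ a ∈ {a : G | a ∈ (P : Subgroup G) ∧ a ≠ 1}, K ⊓ Subgroup.centralizer {a}) = ⊥ := by
        rw [eq_bot_iff]
        apply iSup₂_le
        rintro y ⟨hyP, hy1⟩
        have hy2 : orderOf y = 2 := orderOf_eq_prime (hP2 P y hyP) hy1
        rintro g ⟨hgK, hgC⟩
        by_contra hg1
        have hg3 : orderOf g = 3 := orderOf_eq_prime (cube_eq_one hord hKp hgK) hg1
        have hgy : Commute y g :=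
          (Subgroup.mem_centralizer_singleton_iff.1 (show g ∈ Subgroup.centralizer {y} from hgC)).symm
        exact no6 hord y g hy2 hg3 hgy
      rw [hbot] at hgen
      exact hq hgen.symm
    have ha1 : a = 1 := by
      obtain ⟨g, hg⟩ := hcyc.exists_generator
      have hog : orderOf g = 2 ^ a := by
        rw [orderOf_eq_card_of_forall_mem_zpowers hg, hcardP]
      have hg2 : g ^ 2 = 1 := by
        apply Subtype.ext
        have := hP2 P (g : G) g.2
        simpa using this
      have hd : 2 ^ a ∣ 2 := hog ▸ orderOf_dvd_of_pow_eq_one hg2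
      have h1 : a ≤ 1 := by
        by_contra hlt
        push Not at hlt
        have h4 : 2 ^ 2 ∣ 2 ^ a := pow_dvd_pow 2 hlt
        have := Nat.le_of_dvd (by norm_num) (h4.trans hd)
        omega
      have h2 : 1 ≤ a := Nat.Prime.factorization_pos_of_dvd Nat.prime_two Nat.card_pos.ne' h2G
      omega
    obtain ⟨Q⟩ : Nonempty (Sylow 3 G) := inferInstance
    have hQidx : (Q : Subgroup G).index = 2 := by
      have h1 := Subgroup.card_mul_index (Q : Subgroup G)
      rw [hcardQ, hcard, ha1, mul_comm (2 ^ 1)] at h1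
      have h3b : 0 < 3 ^ b := by positivity
      have := Nat.eq_of_mul_eq_mul_left h3b h1
      simpa using this
    have hQn : (Q : Subgroup G).Normal := Subgroup.normal_of_index_eq_two hQidx
    have htQ : t ∉ (Q : Subgroup G) := by
      intro htQ
      have h3 := hQ3 Q t htQ
      have : orderOf t ∣ 3 := orderOf_dvd_of_pow_eq_one h3
      rw [ht] at this
      omega
    have ht2 : t * t = 1 := by rw [← pow_two, ← ht]; exact pow_orderOf_eq_one t
    have hinv : ∀ y ∈ (Q : Subgroup G), t * y * t⁻¹ = y⁻¹ := by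
      intro y hy
      have hty : t * y ∉ (Q : Subgroup G) := fun hm =>
        htQ (by simpa using (Q : Subgroup G).mul_mem hm ((Q : Subgroup G).inv_mem hy))
      have hsq : (t * y) ^ 2 = 1 := by
        rcases hord (t * y) with h1 | h1 | h1
        · rw [orderOf_eq_one_iff.1 h1]; simp
        · rw [← h1]; exact pow_orderOf_eq_one _
        · exfalso
          apply hty
          have h3 : (t * y) ^ 3 = 1 := by rw [← h1]; exact pow_orderOf_eq_one _
          have h2 := Subgroup.sq_mem_of_index_two hQidx (t * y)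
          have : t * y = ((t * y) ^ 2)⁻¹ := by
            rw [eq_inv_iff_mul_eq_one, ← pow_succ']
            exact h3
          rw [this]
          exact (Q : Subgroup G).inv_mem h2
      have htinv : t⁻¹ = t := by rw [inv_eq_iff_mul_eq_one]; exact ht2
      rw [htinv, eq_inv_iff_mul_eq_one]
      rw [pow_two] at hsq
      calc t * y * t * y = (t * y) * (t * y) := by group
        _ = 1 := hsq
    have hQc : IsMulCommutative (Q : Subgroup G) := by
      refine ⟨⟨fun u v => ?_⟩⟩
      apply Subtype.ext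
      show (u : G) * v = v * u
      have h1 := hinv u u.2
      have h2 := hinv v v.2
      have h3 := hinv (u * v) ((Q : Subgroup G).mul_mem u.2 v.2)
      have h4 : t * ((u : G) * v) * t⁻¹ = (t * u * t⁻¹) * (t * v * t⁻¹) := by group
      rw [h4, h1, h2, mul_inv_rev] at h3
      have := congrArg Inv.inv h3
      have h5 : (v : G) * u = u * v := by simpa using this
      exact h5.symm
    exact ⟨Q, hQn, ⟨hQc, hQ3 Q⟩, hQidx⟩

end Cfsg.Agent.S4005
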