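import Mathlib
import Cfsg.Statements.S4006
import Cfsg.Agent.Lib_helper17_E4e
import Cfsg.Agent.Lib_helper17_E4h

set_option autoImplicit false
open Cfsg

namespace Cfsg.Agent.S4006

open Cfsg.Agent.helper17.E4

theorem prime_two_or_three {G : Type*} [Group G] (hle : LE4 G) {p : ℕ} (hp : p.Prime)
    {D : Subgroup G} (hDp : IsPGroup p D) (hDne : D ≠ ⊥) : p = 2 ∨ p = 3 := by
  obtain ⟨x, hxD, hx1⟩ : ∃ x : G, x ∈ D ∧ x ≠ 1 := by
    by_contra hcon
    push Not at hcon
    apply hDne
    rw [eq_bot_iff]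
    intro y hy
    rw [Subgroup.mem_bot]
    exact hcon y hy
  obtain ⟨k, hk⟩ := hDp ⟨x, hxD⟩
  have hk' : x ^ (p ^ k) = 1 := by
    have := congrArg Subtype.val hk
    simpa using this
  have hd : orderOf x ∣ p ^ k := orderOf_dvd_of_pow_eq_one hk'
  have hox1 : orderOf x ≠ 1 := fun e => hx1 (orderOf_eq_one_iff.mp e)
  rcases hle.cases x with e | e | e | e
  · exact absurd e hox1
  · left
    rw [e] at hd
    exact ((Nat.prime_dvd_prime_iff_eq Nat.prime_two hp).mp
      (Nat.Prime.dvd_of_dvd_pow Nat.prime_two hd)).symm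
  · right
    rw [e] at hd
    exact ((Nat.prime_dvd_prime_iff_eq Nat.prime_three hp).mp
      (Nat.Prime.dvd_of_dvd_pow Nat.prime_three hd)).symm
  · left
    rw [e] at hd
    have h2 : 2 ∣ p ^ k := dvd_trans (by norm_num) hd
    exact ((Nat.prime_dvd_prime_iff_eq Nat.prime_two hp).mp
      (Nat.Prime.dvd_of_dvd_pow Nat.prime_two h2)).symm

/-- A finite group whose set of element orders is exactly {1, 2, 3, 4} has a normal subgroup N such that either N is a 2-group of exponent 4 and nilpotency class at most 2 with G/N of order 3, or N is an elementary abelian 2-group with G/N isomorphic to the symmetric group of degree 3, or N is an elementary abelian 3-group with G/N cyclic of order 4 or quaternion of order 8. -/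
theorem result {G : Type*} [Group G] [Finite G] (h : Set.range (orderOf : G → ℕ) = {k : ℕ | 1 ≤ k ∧ k ≤ 4}) :
    ∃ (N : Subgroup G) (_ : N.Normal),
      (IsPGroup 2 ↥N ∧ Monoid.exponent ↥N = 4 ∧ Group.nilpotencyClass ↥N ≤ 2 ∧ N.index = 3) ∨
      (Cfsg.IsElementaryAbelian 2 N ∧ Nonempty (G ⧸ N ≃* Equiv.Perm (Fin 3))) ∨
      (Cfsg.IsElementaryAbelian 3 N ∧ ((IsCyclic (G ⧸ N) ∧ N.index = 4) ∨ Nonempty (G ⧸ N ≃* QuaternionGroup 2))) := by
  classical
  have hle : LE4 G := by
    intro g
    have : orderOf g ∈ Set.range (orderOf : G → ℕ) := ⟨g, rfl⟩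
    rw [h] at this
    exact this
  have hex : ∀ k, 1 ≤ k → k ≤ 4 → ∃ g : G, orderOf g = k := by
    intro k h1 h4
    have : k ∈ {k : ℕ | 1 ≤ k ∧ k ≤ 4} := ⟨h1, h4⟩
    rw [← h] at this
    exact this
  obtain ⟨z, hz⟩ := hex 2 (by norm_num) (by norm_num)
  obtain ⟨s, hs⟩ := hex 3 (by norm_num) (by norm_num)
  obtain ⟨w, hw⟩ := hex 4 (by norm_num) (by norm_num)
  have hs3 : s ^ 3 = 1 := by rw [← hs]; exact pow_orderOf_eq_one s
  have hs1 : s ≠ 1 := by intro e; rw [e, orderOf_one] at hs; omega
  haveI : Fact (Nat.Prime 3) := ⟨Nat.prime_three⟩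
  haveI : Fact (Nat.Prime 2) := ⟨Nat.prime_two⟩
  obtain ⟨N3, hN3n, hN3p, hN3max⟩ := exists_max_normal_pgroup (G := G) 3
  by_cases hN3ne : N3 = ⊥
  · -- Case B
    obtain ⟨N, hNn, hN2, hNmax⟩ := exists_max_normal_pgroup (G := G) 2
    have hsol := hle.solvable
    have hNne : N ≠ ⊥ := by
      have htop : (⊤ : Subgroup G) ≠ ⊥ := by
        intro e
        apply hs1
        have : s ∈ (⊤ : Subgroup G) := Subgroup.mem_top _
        rw [e, Subgroup.mem_bot] at this
        exact this
      have hsolT : Group.IsSolvable ↥(⊤ : Subgroup G) := inferInstance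
      obtain ⟨p, hp, D, hDn, -, hDne, -, hDp⟩ :=
        Cfsg.Agent.helper8.CN.exists_normal_abelian_pgroup (⊤ : Subgroup G) hsolT htop
      rcases prime_two_or_three hle hp hDp hDne with rfl | rfl
      · intro e
        apply hDne
        have := hNmax D hDn hDp
        rw [e] at this
        exact eq_bot_iff.mpr this
      · exfalso
        apply hDne
        have := hN3max D hDn hDp
        rw [hN3ne] at this
        exact eq_bot_iff.mpr this
    haveI := hNn
    rcases caseB_index hle hsol N hN2 hNne hNmax s hs with h3 | h6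
    · refine ⟨N, hNn, Or.inl ⟨hN2, ?_, ?_, ?_⟩⟩
      · -- exponent
        have hwN : w ∈ N := by
          apply (QuotientGroup.eq_one_iff w).mp
          rw [← orderOf_eq_one_iff]
          have d1 : orderOf (w : G ⧸ N) ∣ 4 := by
            rw [← hw]; exact orderOf_map_dvd (QuotientGroup.mk' N) w
          have d2 : orderOf (w : G ⧸ N) ∣ 3 := by
            rw [← h3]; exact orderOf_dvd_natCard _
          have hg := Nat.dvd_gcd d1 d2
          have e43 : Nat.gcd 4 3 = 1 := by norm_num
          rw [e43] at hg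
          exact Nat.dvd_one.mp hg
        apply Nat.dvd_antisymm
        · apply Monoid.exponent_dvd_of_forall_pow_eq_one
          intro x
          apply Subtype.ext
          rw [Subgroup.coe_pow]
          exact hle.pow_four_of_two_group hN2 x.2
        · have : orderOf (⟨w, hwN⟩ : ↥N) = 4 := by
            rw [← hw]
            exact Subgroup.orderOf_mk w hwN
          rw [← this]
          exact Monoid.order_dvd_exponent _
      · haveI : Group.IsNilpotent ↥N := hN2.isNilpotent
        exact nilpotencyClass_le_two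
          (class_two_of_engel2 hN2 (engel2_of_cubes N s (cubes_hyp hle N hN2 hs3 hs1)))
      · rw [Subgroup.index_eq_card]; exact h3
    · obtain ⟨⟨u, huN, huu, hus⟩, hiso⟩ := caseB_S3_iso hle N hN2 h6 s hs
      obtain ⟨t, htt, htN, hts⟩ := caseB_S3_t hle N hN2 hs3 hs1 huN huu hus
      exact ⟨N, hNn, Or.inr (Or.inl ⟨caseB_S3_elem hle N hN2 hs3 hs1 htt htN hts, hiso⟩)⟩
  · -- Case A
    haveI := hN3n
    exact ⟨N3, hN3n, Or.inr (Or.inr (caseA hle N3 hN3p hN3ne hN3max z hz w hw))⟩

end Cfsg.Agent.S4006
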