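import Mathlib
import Cfsg.Statements.S4010
import Cfsg.Agent.Lib_helper20_LinDL3

set_option autoImplicit false
set_option linter.style.haveILetI false
set_option linter.unusedVariables false
open Cfsg

namespace Cfsg.Agent.S4010

open Cfsg.Agent.helper20.LinDL Cfsg.Agent.helper20.DerLen

/-- Let F be a field, n ≥ 1, and P a finite p-group (p a prime) admitting an injective homomorphism into the general linear group of degree n over F. Then the derived length of P is at most ⌊log₂ n⌋ + 1: that term of the derived series of P is trivial. -/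
theorem result {P : Type*} [Group P] [Finite P] (p : ℕ) [Fact p.Prime] (hP : IsPGroup p P) (F : Type*) [Field F] (n : ℕ) (hn : 1 ≤ n) (ρ : P →* Matrix.GeneralLinearGroup (Fin n) F) (hρ : Function.Injective ρ) : derivedSeries P (Nat.log 2 n + 1) = ⊥ := by
  obtain ⟨ι, hι⟩ : ∃ ι : F →+* AlgebraicClosure F, ι = algebraMap F (AlgebraicClosure F) := ⟨_, rfl⟩
  have hιinj : Function.Injective ι := ι.injective
  let σ : P →* Module.End (AlgebraicClosure F) (Fin n → AlgebraicClosure F) :=
    { toFun := fun g => Matrix.toLin' (((ρ g : Matrix.GeneralLinearGroup (Fin n) F) :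
        Matrix (Fin n) (Fin n) F).map ι)
      map_one' := by
        rw [map_one, Units.val_one, Matrix.map_one ι (map_zero ι) (map_one ι), Matrix.toLin'_one]
        rfl
      map_mul' := by
        intro a b
        rw [map_mul, Units.val_mul, Matrix.map_mul, Matrix.toLin'_mul]
        rfl }
  have hσ : ∀ g : P, σ g = Matrix.toLin' (((ρ g : Matrix.GeneralLinearGroup (Fin n) F) :
        Matrix (Fin n) (Fin n) F).map ι) := fun g => rfl
  have key := claim σ hP n ⊤ ⊤ (fun _ _ _ _ => trivial) (by
    rw [finrank_top, Module.finrank_fin_fun])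
  rw [eq_bot_iff]
  intro g hg
  rw [Subgroup.mem_bot]
  apply hρ
  rw [map_one]
  have h1 : σ g = LinearMap.id := by
    apply LinearMap.ext
    intro v
    exact key g (by rw [dser_top]; exact hg) v trivial
  rw [hσ, ← Matrix.toLin'_one] at h1
  have h2 := Matrix.toLin'.injective h1
  have h3 : ((ρ g : Matrix.GeneralLinearGroup (Fin n) F) : Matrix (Fin n) (Fin n) F).map ι =
      (1 : Matrix (Fin n) (Fin n) F).map ι := by
    rw [h2, Matrix.map_one ι (map_zero ι) (map_one ι)]
  have h4 := Matrix.map_injective hιinj h3
  exact Units.ext h4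

end Cfsg.Agent.S4010
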