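import Mathlib
import Cfsg.Statements.S4013

set_option autoImplicit false
open Cfsg

namespace Cfsg.Agent.S4013

/-- Let G be a finite p-group (p prime) and N < M normal subgroups of G such that for some g ∈ M ∖ N the conjugacy class of g is exactly M ∖ N. Then p = 2 and N has index 2 in M. -/
theorem result {G : Type*} [Group G] [Finite G] (p : ℕ) [Fact p.Prime] (hG : IsPGroup p G) (N M : Subgroup G) [N.Normal] [M.Normal] (hNM : N < M) (g : G) (hgM : g ∈ M) (hgN : g ∉ N) (hcl : {h : G | IsConj g h} = (M : Set G) \ (N : Set G)) : p = 2 ∧ N.relIndex M = 2 := by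
  have hp : p.Prime := Fact.out
  have horb : {h : G | IsConj g h} = MulAction.orbit (ConjAct G) g := by
    ext h
    rw [Set.mem_ofPred_eq, ConjAct.mem_orbit_conjAct, isConj_comm]
  have hcard : ((M : Set G) \ (N : Set G)).ncard = (MulAction.stabilizer (ConjAct G) g).index := by
    rw [MulAction.index_stabilizer, ← horb, hcl]
  obtain ⟨k, hk⟩ : ∃ k, (MulAction.stabilizer (ConjAct G) g).index = p ^ k := by
    have hG' : IsPGroup p (ConjAct G) := hG
    have : Finite (ConjAct G) := ‹Finite G›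
    exact hG'.index _
  have hsub : (N : Set G) ⊆ (M : Set G) := fun x hx => hNM.le hx
  have hdiff : ((M : Set G) \ (N : Set G)).ncard = Nat.card M - Nat.card N := by
    rw [Set.ncard_sdiff hsub (Set.toFinite _)]
    rw [← Nat.card_coe_set_eq, ← Nat.card_coe_set_eq]
    rfl
  obtain ⟨a, ha⟩ := IsPGroup.iff_card.mp (hG.to_subgroup N)
  obtain ⟨b, hb⟩ : ∃ b, N.relIndex M = p ^ b := (hG.to_subgroup M).index (N.subgroupOf M)
  have hMN : Nat.card N * N.relIndex M = Nat.card M := by
    have := Subgroup.relIndex_mul_relIndex (⊥ : Subgroup G) N M bot_le hNM.le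
    rwa [Subgroup.relIndex_bot_left, Subgroup.relIndex_bot_left] at this
  have hb1 : b ≠ 0 := by
    rintro rfl
    rw [pow_zero, Subgroup.relIndex_eq_one] at hb
    exact (not_le_of_gt hNM) hb
  -- p^k = p^a * (p^b - 1)
  have heq : p ^ k = p ^ a * (p ^ b - 1) := by
    rw [← hk, ← hcard, hdiff, ← hMN, ha, hb, Nat.mul_sub, mul_one]
  have hdvd : (p ^ b - 1) ∣ p ^ k := ⟨p ^ a, by rw [heq, mul_comm]⟩
  have hcop : Nat.Coprime (p ^ b - 1) (p ^ k) := by
    apply Nat.Coprime.pow_right
    have hpb : p ∣ p ^ b := dvd_pow_self p hb1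
    have h1 : 1 ≤ p ^ b := Nat.one_le_pow _ _ hp.pos
    rw [Nat.coprime_comm, Nat.Prime.coprime_iff_not_dvd hp]
    intro hd
    have : p ∣ 1 := by
      have h2 : p ∣ p ^ b - (p ^ b - 1) := Nat.dvd_sub hpb hd
      rwa [Nat.sub_sub_self h1] at h2
    exact hp.one_lt.ne' (Nat.dvd_one.mp this)
  have h1 : p ^ b - 1 = 1 := Nat.Coprime.eq_one_of_dvd hcop hdvd
  have h2 : p ^ b = 2 := by
    have : 1 ≤ p ^ b := Nat.one_le_pow _ _ hp.pos
    omega
  have hp2 : p = 2 := by
    have : p ∣ 2 := by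
      rw [← h2]; exact dvd_pow_self p hb1
    exact (Nat.prime_dvd_prime_iff_eq hp Nat.prime_two).mp this
  exact ⟨hp2, by rw [hb, h2]⟩

end Cfsg.Agent.S4013
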