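import Mathlib
import Cfsg.Statements.S4015
import Cfsg.Agent.Lib_helper20_LinDL5
import Cfsg.Agent.Lib_helper20_LinDL6

set_option autoImplicit false
set_option linter.style.haveILetI false
set_option linter.unusedVariables false
open Cfsg

namespace Cfsg.Agent.S4015

open Cfsg.Agent.helper20.LinDL Cfsg.Agent.helper20.DerLen Cfsg.Agent.helper20.WrEmb

theorem upper {F : Type*} [Field F] [Fintype F] (q : ℕ) (hF : Fintype.card F = q) (p : ℕ)
    [Fact p.Prime] (hpq : ¬ p ∣ q) (n : ℕ)
    (P : Subgroup (GL (Fin n) F)) (hP : IsPGroup p P) :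
    derivedSeries ↥P (Nat.log p (n / orderOf (q : ZMod p)) + 1) = ⊥ := by
  classical
  obtain ⟨ι, hι⟩ : ∃ ι : F →+* AlgebraicClosure F, ι = algebraMap F (AlgebraicClosure F) := ⟨_, rfl⟩
  have hιinj : Function.Injective ι := ι.injective
  -- characteristic
  obtain ⟨l, hl⟩ : ∃ l : ℕ, l = ringChar F := ⟨_, rfl⟩
  haveI hcF : CharP F l := by rw [hl]; exact ringChar.charP F
  obtain ⟨f, hlp, hcard⟩ := FiniteField.card F l
  haveI : Fact l.Prime := ⟨hlp⟩
  haveI hcK : CharP (AlgebraicClosure F) l := charP_of_injective_algebraMap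
    (algebraMap F (AlgebraicClosure F)).injective l
  haveI : ExpChar (AlgebraicClosure F) l := ExpChar.prime hlp
  have hqf : q = l ^ (f : ℕ) := by rw [← hF, hcard]
  have hqpos : 0 < q := by rw [hqf]; exact pow_pos hlp.pos _
  obtain ⟨φ, hφdef⟩ : ∃ φ : AlgebraicClosure F →+* AlgebraicClosure F,
      φ = iterateFrobenius (AlgebraicClosure F) l (f : ℕ) := ⟨_, rfl⟩
  have hφ : ∀ x, φ x = x ^ q := by
    intro x
    rw [hφdef, iterateFrobenius_def, hqf]
  have hφs : Function.Surjective φ := by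
    intro x
    obtain ⟨z, hz⟩ := IsAlgClosed.exists_pow_nat_eq x hqpos
    exact ⟨z, by rw [hφ, hz]⟩
  have hφι : ∀ a : F, φ (ι a) = ι a := by
    intro a
    rw [hφ, ← map_pow, ← hF, FiniteField.pow_card]
  have hpK : ((p : ℕ) : AlgebraicClosure F) ≠ 0 := by
    intro h0
    have h1 := (CharP.cast_eq_zero_iff (AlgebraicClosure F) l p).mp h0
    have h2 := (Nat.prime_dvd_prime_iff_eq hlp (Fact.out : p.Prime)).mp h1
    apply hpq
    rw [hqf, ← h2]
    exact dvd_pow_self l (PNat.ne_zero f)
  -- the Frobenius map on vectors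
  obtain ⟨Φ, hΦdef⟩ : ∃ Φ : (Fin n → AlgebraicClosure F) →+ (Fin n → AlgebraicClosure F),
      ∀ v i, Φ v i = φ (v i) :=
    ⟨(φ : AlgebraicClosure F →+ AlgebraicClosure F).compLeft (Fin n), fun v i => rfl⟩
  have hΦi : Function.Injective Φ := by
    intro v w h
    funext i
    have := congrFun h i
    rw [hΦdef, hΦdef] at this
    exact φ.injective this
  have hΦs : ∀ (c : AlgebraicClosure F) (v : Fin n → AlgebraicClosure F),
      Φ (c • v) = φ c • Φ v := by
    intro c v
    funext i
    rw [hΦdef, Pi.smul_apply, Pi.smul_apply, hΦdef, smul_eq_mul, smul_eq_mul, map_mul]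
  haveI : Finite (GL (Fin n) F) := inferInstance
  let σ : ↥P →* Module.End (AlgebraicClosure F) (Fin n → AlgebraicClosure F) :=
    { toFun := fun g => Matrix.toLin' ((((g : GL (Fin n) F)) :
        Matrix (Fin n) (Fin n) F).map ι)
      map_one' := by
        rw [Subgroup.coe_one, Units.val_one, Matrix.map_one ι (map_zero ι) (map_one ι),
          Matrix.toLin'_one]
        rfl
      map_mul' := by
        intro a b
        rw [Subgroup.coe_mul, Units.val_mul, Matrix.map_mul, Matrix.toLin'_mul]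
        rfl }
  have hσ : ∀ g : ↥P, σ g = Matrix.toLin' ((((g : GL (Fin n) F)) :
        Matrix (Fin n) (Fin n) F).map ι) := fun g => rfl
  have hΦσ : ∀ (g : ↥P) (v : Fin n → AlgebraicClosure F), σ g (Φ v) = Φ (σ g v) := by
    intro g v
    funext i
    rw [hΦdef, hσ, Matrix.toLin'_apply, Matrix.toLin'_apply, Matrix.mulVec, Matrix.mulVec,
      dotProduct, dotProduct, map_sum]
    apply Finset.sum_congr rfl
    intro j _
    rw [map_mul, hΦdef, Matrix.map_apply, hφι]
  have key := claim2B σ hP hpK p (Fact.out : p.Prime).two_le le_rfl q hpq φ hφ hφs Φ hΦi hΦs hΦσ n ⊤ ⊤ (fun _ _ _ _ => trivial)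
    (fun _ _ => trivial) (by rw [finrank_top, Module.finrank_fin_fun])
  rw [eq_bot_iff]
  intro g hg
  rw [Subgroup.mem_bot]
  have h1 : σ g = LinearMap.id := by
    apply LinearMap.ext
    intro v
    exact key g (by rw [dser_top]; exact hg) v trivial
  rw [hσ, ← Matrix.toLin'_one] at h1
  have h2 := Matrix.toLin'.injective h1
  have h3 : (((g : GL (Fin n) F)) : Matrix (Fin n) (Fin n) F).map ι =
      (1 : Matrix (Fin n) (Fin n) F).map ι := by
    rw [h2, Matrix.map_one ι (map_zero ι) (map_one ι)]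
  have h4 := Matrix.map_injective hιinj h3
  apply Subtype.ext
  rw [Subgroup.coe_one]
  exact Units.ext h4


/-- Let p be an odd prime, F a finite field with q elements where p does not divide q, and e the multiplicative order of q modulo p. Let n ≥ e and write w = ⌊n/e⌋ and k = ⌊log_p w⌋. Then a Sylow p-subgroup of GL(n, F) has derived length exactly k + 1: its (k+1)-st derived subgroup is trivial and its k-th is not. -/
theorem result (p : ℕ) [Fact p.Prime] (hp : p ≠ 2) (F : Type*) [Field F] [Fintype F] (q : ℕ) (hq : Fintype.card F = q) (hpq : ¬ p ∣ q) (n : ℕ) (hn : orderOf (q : ZMod p) ≤ n) (P : Sylow p (Matrix.GeneralLinearGroup (Fin n) F)) : derivedSeries ↥(P : Subgroup (Matrix.GeneralLinearGroup (Fin n) F)) (Nat.log p (n / orderOf (q : ZMod p)) + 1) = ⊥ ∧ derivedSeries ↥(P : Subgroup (Matrix.GeneralLinearGroup (Fin n) F)) (Nat.log p (n / orderOf (q : ZMod p))) ≠ ⊥ := by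
  classical
  refine ⟨upper q hq p hpq n _ P.isPGroup', ?_⟩
  have hbase : Good F p (orderOf (q : ZMod p)) 0 :=
    Good.base q (by rw [Nat.card_eq_fintype_card, hq]) hpq
  have hepos : 0 < orderOf (q : ZMod p) := orderOf_natCast_pos q hpq
  obtain ⟨k, hk⟩ : ∃ k : ℕ, k = Nat.log p (n / orderOf (q : ZMod p)) := ⟨_, rfl⟩
  rw [← hk]
  have hiter := hbase.iter k
  have hle : p ^ k * orderOf (q : ZMod p) ≤ n := by
    have h1 : p ^ k ≤ n / orderOf (q : ZMod p) := by
      rw [hk]
      apply Nat.pow_log_le_self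
      exact (Nat.div_pos hn hepos).ne'
    calc p ^ k * orderOf (q : ZMod p) ≤ (n / orderOf (q : ZMod p)) * orderOf (q : ZMod p) :=
          Nat.mul_le_mul_right _ h1
      _ ≤ n := Nat.div_mul_le_self _ _
  obtain ⟨Q, iG, iF, ψ, hQp, hder, hψ⟩ := hiter.exists_hom hle
  exact sylow_derivedSeries_ne_bot P ψ hψ hQp k hder

end Cfsg.Agent.S4015
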