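import Cfsg.Statements.S4018
import Cfsg.Agent.Lib_helper8_AB3

set_option autoImplicit false
open Cfsg

namespace Cfsg.Agent.S4018

/-- Let G be a finite group with an abelian Sylow 3-subgroup P such that the normalizer of P has order 4·#P, the centralizer C of P has order 2·#P, C meets each of its conjugates by elements outside its normalizer trivially, and every proper subgroup of G of even order has order dividing 4·#P. Then G is not simple. -/
theorem result {G : Type*} [Group G] [Finite G]
    (P : Sylow 3 G) (hab : IsMulCommutative P)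
    (hN : Nat.card (Subgroup.normalizer ((P : Subgroup G) : Set G)) = 4 * Nat.card P)
    (hC : Nat.card (Subgroup.centralizer (P : Set G)) = 2 * Nat.card P)
    (hTI : Cfsg.IsTISubset (Subgroup.centralizer (P : Set G) : Set G))
    (heven : ∀ H : Subgroup G, H ≠ ⊤ → 2 ∣ Nat.card H → Nat.card H ∣ 4 * Nat.card P) :
    ¬ IsSimpleGroup G := by
  intro hs
  haveI := hs
  haveI : Fact (Nat.Prime 2) := ⟨Nat.prime_two⟩
  have h2C : 2 ∣ Nat.card (Subgroup.centralizer ((P : Subgroup G) : Set G)) := ⟨Nat.card P, hC⟩
  obtain ⟨y', hy'⟩ := exists_prime_orderOf_dvd_card'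
    (G := ↥(Subgroup.centralizer ((P : Subgroup G) : Set G))) 2 h2C
  have hyo : orderOf (y' : G) = 2 := by rw [Subgroup.orderOf_coe]; exact hy'
  have hy1 : (y' : G) ≠ 1 := by
    intro h
    rw [h, orderOf_one] at hyo
    omega
  have hyy : (y' : G) * (y' : G) = 1 := by
    rw [← pow_two, ← hyo]; exact pow_orderOf_eq_one _
  have hcomm : ∀ a ∈ (P : Subgroup G), ∀ b ∈ (P : Subgroup G), a * b = b * a := by
    intro a ha b hb
    exact congrArg Subtype.val (hab.is_comm.comm (⟨a, ha⟩ : ↥P) ⟨b, hb⟩)
  let A : helper8ab.ACtx G :=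
    { P := P, hcomm := hcomm, hN := hN, hC := hC,
      hTI := fun g hg x hx h => hTI g hg x hx h,
      heven := heven,
      hsimple := fun M hM => hM.eq_bot_or_eq_top,
      y := (y' : G), hyC := y'.2, hy1 := hy1, hyy := hyy }
  obtain ⟨B⟩ := A.nonempty_bctx
  exact B.false_of_bctx

end Cfsg.Agent.S4018
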