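import Cfsg.Statements.S4024
import Cfsg.Agent.S3977
import Cfsg.Agent.Lib_helper19_Sylow
import Cfsg.Agent.Lib_helper10_PPrimeP
import Cfsg.Agent.Lib_helper15_AG2
import Cfsg.Agent.Lib_helper23_PSolv2
import Cfsg.Agent.Lib_helper9_Cores
import Cfsg.Agent.Lib_helper1_Core
import Mathlib

set_option autoImplicit false
open Cfsg

namespace Cfsg.Agent.S4024

variable {G : Type*} [Group G]

theorem mem_conj_iff (H : Subgroup G) (g y : G) :
    y ∈ H.map (MulAut.conj g).toMonoidHom ↔ g⁻¹ * y * g ∈ H := by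
  constructor
  · rintro ⟨x, hx, rfl⟩
    simp only [MulEquiv.coe_toMonoidHom, MulAut.conj_apply]
    have e : g⁻¹ * (g * x * g⁻¹) * g = x := by group
    rw [e]; exact hx
  · intro h
    refine ⟨g⁻¹ * y * g, h, ?_⟩
    simp only [MulEquiv.coe_toMonoidHom, MulAut.conj_apply]
    group

theorem zpowers_eq_of_card_prime [Finite G] {p : ℕ} (hp : p.Prime) (A : Subgroup G)
    (hA : Nat.card ↥A = p) (x : G) (hx : x ∈ A) (hx1 : x ≠ 1) :
    Subgroup.zpowers x = A ∧ orderOf x = p := by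
  have hd : orderOf x ∣ p := hA ▸ Subgroup.orderOf_dvd_natCard A hx
  have ho : orderOf x = p := by
    rcases (Nat.dvd_prime hp).1 hd with h1 | h1
    · exact absurd (orderOf_eq_one_iff.1 h1) hx1
    · exact h1
  refine ⟨Subgroup.eq_of_le_of_card_ge ((Subgroup.zpowers_le).2 hx) ?_, ho⟩
  rw [Nat.card_zpowers, ho, hA]

theorem exists_ne_one_of_card_prime {p : ℕ} (hp : p.Prime) (A : Subgroup G)
    (hA : Nat.card ↥A = p) : ∃ x ∈ A, x ≠ 1 := by
  by_contra hcon
  push Not at hcon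
  have h1 : A = ⊥ := (Subgroup.eq_bot_iff_forall A).2 hcon
  rw [h1, Subgroup.card_bot] at hA
  exact hp.one_lt.ne hA

theorem orderOf_eq_pow_of_mem {p : ℕ} [hp : Fact p.Prime] (P : Subgroup G) (hP : IsPGroup p ↥P)
    (y : G) (hy : y ∈ P) : ∃ b, orderOf y = p ^ b := by
  obtain ⟨k, hk⟩ := hP ⟨y, hy⟩
  have h1 : y ^ (p ^ k) = 1 := by
    have := congrArg Subtype.val hk
    simpa using this
  obtain ⟨b, _, hb⟩ := (Nat.dvd_prime_pow hp.out).1 (orderOf_dvd_of_pow_eq_one h1)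
  exact ⟨b, hb⟩

theorem isMulCommutative_of_isCyclic {A : Type*} [Group A] (h : IsCyclic A) :
    IsMulCommutative A := by
  obtain ⟨g, hg⟩ := h.exists_generator
  refine ⟨⟨fun a b => ?_⟩⟩
  obtain ⟨i, rfl⟩ := Subgroup.mem_zpowers_iff.1 (hg a)
  obtain ⟨j, rfl⟩ := Subgroup.mem_zpowers_iff.1 (hg b)
  exact zpow_mul_comm g i j

theorem isCyclic_of_unique_order_p [Finite G] {p : ℕ} [hp : Fact p.Prime] (hp2 : p ≠ 2)
    (P : Subgroup G) (hP : IsPGroup p ↥P)
    (huniq : ∀ x y : G, x ∈ P → y ∈ P → orderOf x = p → orderOf y = p →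
      y ∈ Subgroup.zpowers x) : IsCyclic ↥P := by
  obtain ⟨m, hm⟩ := IsPGroup.iff_card.1 hP
  rcases Nat.lt_or_ge m 2 with hlt | hge
  · interval_cases m
    · rw [pow_zero] at hm
      haveI : Subsingleton ↥P := (Nat.card_eq_one_iff_unique.1 hm).1
      exact isCyclic_of_subsingleton
    · rw [pow_one] at hm
      exact isCyclic_of_prime_card hm
  · apply Cfsg.Agent.S3977.result p m 1 hp.out hm le_rfl (by omega) (Or.inl hp2)
    intro A B hA hB
    rw [pow_one] at hA hB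
    obtain ⟨a, haA, ha1⟩ := exists_ne_one_of_card_prime hp.out A hA
    obtain ⟨b, hbB, hb1⟩ := exists_ne_one_of_card_prime hp.out B hB
    obtain ⟨hzA, hao⟩ := zpowers_eq_of_card_prime hp.out A hA a haA ha1
    obtain ⟨hzB, hbo⟩ := zpowers_eq_of_card_prime hp.out B hB b hbB hb1
    have hmem := huniq (a : G) (b : G) a.2 b.2 (by rw [Subgroup.orderOf_coe]; exact hao)
      (by rw [Subgroup.orderOf_coe]; exact hbo)
    obtain ⟨k, hk⟩ := Subgroup.mem_zpowers_iff.1 hmem
    have hbA : b ∈ A := by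
      rw [← hzA]
      exact Subgroup.mem_zpowers_iff.2 ⟨k, Subtype.ext (by rw [Subgroup.coe_zpow]; exact hk)⟩
    have hle : Subgroup.zpowers b ≤ A := (Subgroup.zpowers_le).2 hbA
    have h3 := Subgroup.eq_of_le_of_card_ge hle (by rw [Nat.card_zpowers, hbo, hA])
    rw [← h3, hzB]

/-- small subgroups of `P` lie in the normal subgroup `W` -/
theorem le_of_card_le [Finite G] {p : ℕ} [hp : Fact p.Prime]
    (hC : ∀ H K : Subgroup G, IsPGroup p H → IsPGroup p K → Nat.card H = Nat.card K →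
      ∃ g : G, K = H.map (MulAut.conj g).toMonoidHom)
    (P : Sylow p G) (W : Subgroup G) [hW : W.Normal] (R : Subgroup G)
    (hRP : R ≤ (P : Subgroup G))
    (hcard : Nat.card ↥R ≤ Nat.card ↥((P : Subgroup G) ⊓ W)) : R ≤ W := by
  have hRp : IsPGroup p ↥R := P.isPGroup'.to_le hRP
  have hQp : IsPGroup p ↥((P : Subgroup G) ⊓ W) := P.isPGroup'.to_le inf_le_left
  obtain ⟨j, hj⟩ := IsPGroup.iff_card.1 hRp
  obtain ⟨a, ha⟩ := IsPGroup.iff_card.1 hQp
  have hja : j ≤ a := by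
    rw [hj, ha] at hcard
    exact (Nat.pow_le_pow_iff_right hp.out.one_lt).1 hcard
  obtain ⟨R1', hR1'⟩ := Sylow.exists_subgroup_card_pow_prime (G := ↥((P : Subgroup G) ⊓ W)) p
    (show p ^ j ∣ Nat.card ↥((P : Subgroup G) ⊓ W) by rw [ha]; exact pow_dvd_pow p hja)
  have hR1c : Nat.card ↥(R1'.map ((P : Subgroup G) ⊓ W).subtype) = p ^ j := by
    rw [Subgroup.card_map_of_injective (Subgroup.subtype_injective _), hR1']
  obtain ⟨g, hg⟩ := hC _ R (IsPGroup.of_card hR1c) hRp (by rw [hR1c, hj])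
  intro y hy
  rw [hg, mem_conj_iff] at hy
  obtain ⟨z, _, hz⟩ := Subgroup.mem_map.1 hy
  have hzW : g⁻¹ * y * g ∈ W := by rw [← hz]; exact (Subgroup.mem_inf.1 z.2).2
  have e : y = g * (g⁻¹ * y * g) * g⁻¹ := by group
  rw [e]; exact hW.conj_mem _ hzW g

theorem cyclic_of_not_le [Finite G] {p : ℕ} [hp : Fact p.Prime] (hp2 : p ≠ 2)
    (hC : ∀ H K : Subgroup G, IsPGroup p H → IsPGroup p K → Nat.card H = Nat.card K →
      ∃ g : G, K = H.map (MulAut.conj g).toMonoidHom)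
    (P : Sylow p G) (W : Subgroup G) [hW : W.Normal] (hpW : p ∣ Nat.card ↥W)
    (hPW : ¬ (P : Subgroup G) ≤ W) : IsCyclic ↥(P : Subgroup G) := by
  classical
  have hQp : IsPGroup p ↥((P : Subgroup G) ⊓ W) := P.isPGroup'.to_le inf_le_left
  obtain ⟨a, ha⟩ := IsPGroup.iff_card.1 hQp
  have ha1 : 1 ≤ a := by
    have hnd := helper19.sylow_inf_normal_not_dvd P W
    have hmul : Nat.card ↥((P : Subgroup G) ⊓ W) * ((P : Subgroup G) ⊓ W).relIndex W =
        Nat.card ↥W := by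
      rw [← Subgroup.relIndex_bot_left, Subgroup.relIndex_mul_relIndex _ _ _ bot_le inf_le_right,
        Subgroup.relIndex_bot_left]
    rw [← hmul, ha] at hpW
    rcases Nat.eq_zero_or_pos a with h0 | h0
    · exfalso; rw [h0, pow_zero, one_mul] at hpW; exact hnd hpW
    · exact h0
  obtain ⟨y0, hy0P, hy0W⟩ : ∃ y, y ∈ (P : Subgroup G) ∧ y ∉ W := by
    by_contra hcon; push Not at hcon; exact hPW (fun y hy => hcon y hy)
  obtain ⟨y, ⟨hyP, hyW⟩, hymin⟩ := Set.exists_min_image {y : G | y ∈ (P : Subgroup G) ∧ y ∉ W}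
    orderOf (Set.toFinite _) ⟨y0, hy0P, hy0W⟩
  obtain ⟨b, hb⟩ := orderOf_eq_pow_of_mem (P : Subgroup G) P.isPGroup' y hyP
  have hb1 : 1 ≤ b := by
    rcases Nat.eq_zero_or_pos b with h0 | h0
    · exfalso; rw [h0, pow_zero, orderOf_eq_one_iff] at hb; exact hyW (hb ▸ W.one_mem)
    · exact h0
  have hpd : p ∣ orderOf y := by rw [hb]; exact dvd_pow_self p (by omega)
  have hyp_o : orderOf (y ^ p) = p ^ (b - 1) := by
    rw [orderOf_pow_of_dvd hp.out.ne_zero hpd, hb]
    have e : p ^ b = p ^ (b - 1) * p := by rw [← pow_succ]; congr 1; omega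
    rw [e]; exact Nat.mul_div_cancel _ hp.out.pos
  have hypW : y ^ p ∈ W := by
    by_contra hnot
    have h1 := hymin (y ^ p) ⟨Subgroup.pow_mem _ hyP p, hnot⟩
    rw [hyp_o, hb] at h1
    have h2 : b ≤ b - 1 := (Nat.pow_le_pow_iff_right hp.out.one_lt).1 h1
    omega
  have hlt : a < b := by
    by_contra hnot; push Not at hnot
    have hle := le_of_card_le hC P W (Subgroup.zpowers y) ((Subgroup.zpowers_le).2 hyP)
      (by rw [Nat.card_zpowers, hb, ha]; exact Nat.pow_le_pow_right hp.out.pos hnot)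
    exact hyW (hle (Subgroup.mem_zpowers y))
  have hypQ : y ^ p ∈ (P : Subgroup G) ⊓ W :=
    Subgroup.mem_inf.2 ⟨Subgroup.pow_mem _ hyP p, hypW⟩
  have hdvd : p ^ (b - 1) ∣ p ^ a := by
    rw [← hyp_o, ← ha]; exact Subgroup.orderOf_dvd_natCard _ hypQ
  have hba : b - 1 ≤ a := (Nat.pow_dvd_pow_iff_le_right hp.out.one_lt).1 hdvd
  have hab : a = b - 1 := by omega
  have hQeq : Subgroup.zpowers (y ^ p) = (P : Subgroup G) ⊓ W :=
    Subgroup.eq_of_le_of_card_ge ((Subgroup.zpowers_le).2 hypQ)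
      (by rw [Nat.card_zpowers, hyp_o, ha, hab])
  -- c := y ^ p has order p ^ a, d := c ^ (p ^ (a - 1))
  have hco : orderOf (y ^ p) = p ^ a := by rw [hyp_o, hab]
  have hdp : ((y ^ p) ^ (p ^ (a - 1))) ^ p = 1 := by
    rw [← pow_mul, ← pow_succ, show a - 1 + 1 = a by omega, ← hco]
    exact pow_orderOf_eq_one _
  have hkey : ∀ z : G, z ∈ (P : Subgroup G) → orderOf z = p →
      z ∈ Subgroup.zpowers ((y ^ p) ^ (p ^ (a - 1))) := by
    intro z hzP hzo
    have hzW : z ∈ W := by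
      have hle := le_of_card_le hC P W (Subgroup.zpowers z) ((Subgroup.zpowers_le).2 hzP)
        (by rw [Nat.card_zpowers, hzo, ha]
            calc p = p ^ 1 := (pow_one p).symm
              _ ≤ p ^ a := Nat.pow_le_pow_right hp.out.pos ha1)
      exact hle (Subgroup.mem_zpowers z)
    have hzQ : z ∈ Subgroup.zpowers (y ^ p) := by
      rw [hQeq]; exact Subgroup.mem_inf.2 ⟨hzP, hzW⟩
    rw [← mem_powers_iff_mem_zpowers] at hzQ
    obtain ⟨k, hk⟩ := (Submonoid.mem_powers_iff _ _).1 hzQ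
    have hzp : z ^ p = 1 := by rw [← hzo]; exact pow_orderOf_eq_one z
    rw [← hk, ← pow_mul] at hzp
    have hd1 : p ^ a ∣ k * p := by rw [← hco]; exact orderOf_dvd_of_pow_eq_one hzp
    have hd2 : p ^ (a - 1) ∣ k := by
      have e : p ^ a = p ^ (a - 1) * p := by rw [← pow_succ]; congr 1; omega
      rw [e] at hd1
      exact Nat.dvd_of_mul_dvd_mul_right hp.out.pos hd1
    obtain ⟨k', hk'⟩ := hd2
    rw [← hk, hk', pow_mul]
    exact Subgroup.pow_mem _ (Subgroup.mem_zpowers _) k'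
  apply isCyclic_of_unique_order_p hp2 (P : Subgroup G) P.isPGroup'
  intro x x' hxP hx'P hxo hx'o
  have h1 := hkey x hxP hxo
  have h2 := hkey x' hx'P hx'o
  have hle : Subgroup.zpowers x ≤ Subgroup.zpowers ((y ^ p) ^ (p ^ (a - 1))) :=
    (Subgroup.zpowers_le).2 h1
  have hcardle : Nat.card ↥(Subgroup.zpowers ((y ^ p) ^ (p ^ (a - 1)))) ≤
      Nat.card ↥(Subgroup.zpowers x) := by
    rw [Nat.card_zpowers, Nat.card_zpowers, hxo]
    exact Nat.le_of_dvd hp.out.pos (orderOf_dvd_of_pow_eq_one hdp)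
  rw [Subgroup.eq_of_le_of_card_ge hle hcardle]
  exact h2

theorem comm_of_le [Finite G] {p : ℕ} [hp : Fact p.Prime] (hp2 : p ≠ 2)
    (hC : ∀ H K : Subgroup G, IsPGroup p H → IsPGroup p K → Nat.card H = Nat.card K →
      ∃ g : G, K = H.map (MulAut.conj g).toMonoidHom)
    (P : Sylow p G) (W K : Subgroup G) [hW : W.Normal] [hK : K.Normal] (hKW : K ≤ W)
    (hKcop : (Nat.card ↥K).Coprime p) (m : ℕ) (hWK : K.relIndex W = p ^ m)
    (hpW : p ∣ Nat.card ↥W) (hPW : (P : Subgroup G) ≤ W) :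
    IsMulCommutative ↥(P : Subgroup G) := by
  classical
  obtain ⟨e, he⟩ := IsPGroup.iff_card.1 P.isPGroup'
  have hPKcop : Nat.Coprime (Nat.card ↥(P : Subgroup G)) (Nat.card ↥K) := by
    rw [he]; exact Nat.Coprime.pow_left e hKcop.symm
  have hPK : (P : Subgroup G) ⊓ K = ⊥ := Subgroup.inf_eq_bot_of_coprime hPKcop
  have hcardW : Nat.card ↥K * p ^ m = Nat.card ↥W := by
    rw [← hWK, ← Subgroup.relIndex_bot_left, Subgroup.relIndex_mul_relIndex _ _ _ bot_le hKW,
      Subgroup.relIndex_bot_left]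
  have hpmP : p ^ m ∣ Nat.card ↥(P : Subgroup G) := by
    apply P.pow_dvd_card_of_pow_dvd_card
    exact (Dvd.intro_left _ hcardW).trans (Subgroup.card_subgroup_dvd_card W)
  have hsup : (P : Subgroup G) ⊔ K = W := by
    apply Subgroup.eq_of_le_of_card_ge (sup_le hPW hKW)
    have h1 : Nat.card ↥(P : Subgroup G) ∣ Nat.card ↥((P : Subgroup G) ⊔ K) :=
      Subgroup.card_dvd_of_le le_sup_left
    have h2 : Nat.card ↥K ∣ Nat.card ↥((P : Subgroup G) ⊔ K) := Subgroup.card_dvd_of_le le_sup_right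
    have h3 := Nat.Coprime.mul_dvd_of_dvd_of_dvd hPKcop h1 h2
    have h4 : Nat.card ↥W ∣ Nat.card ↥(P : Subgroup G) * Nat.card ↥K := by
      rw [← hcardW, mul_comm]
      exact Nat.mul_dvd_mul_right hpmP _
    exact Nat.le_of_dvd Nat.card_pos (h4.trans h3)
  have hFr := helper19.frattini_inf P W
  rw [inf_eq_left.2 hPW] at hFr
  -- (T)
  have hT : ∀ R1 R2 : Subgroup G, R1 ≤ (P : Subgroup G) → R2 ≤ (P : Subgroup G) →
      Nat.card ↥R1 = Nat.card ↥R2 →
      ∃ n ∈ Subgroup.normalizer ((P : Subgroup G) : Set G), ∀ y ∈ R2, n⁻¹ * y * n ∈ R1 := by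
    intro R1 R2 hR1 hR2 hcard
    obtain ⟨g, hg⟩ := hC R1 R2 (P.isPGroup'.to_le hR1) (P.isPGroup'.to_le hR2) hcard
    have hgtop : g ∈ Subgroup.normalizer ((P : Subgroup G) : Set G) ⊔ W := by
      rw [hFr]; exact Subgroup.mem_top g
    obtain ⟨n, hn, w, hw, hnw⟩ := Subgroup.mem_sup_of_normal_right.1 hgtop
    rw [← hsup] at hw
    obtain ⟨s, hs, k, hk, hsk⟩ := Subgroup.mem_sup_of_normal_right.1 hw
    have hns : n * s ∈ Subgroup.normalizer ((P : Subgroup G) : Set G) :=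
      Subgroup.mul_mem _ hn (Subgroup.le_normalizer hs)
    refine ⟨n * s, hns, fun y hy => ?_⟩
    have hyP : y ∈ (P : Subgroup G) := hR2 hy
    have huP : (n * s)⁻¹ * y * (n * s) ∈ (P : Subgroup G) := by
      have := (Subgroup.mem_normalizer_iff.1 (Subgroup.inv_mem _ hns) y).1 hyP
      rwa [inv_inv] at this
    have hy1 : g⁻¹ * y * g ∈ R1 := by
      rw [hg, mem_conj_iff] at hy; exact hy
    have hgeq : g⁻¹ * y * g = k⁻¹ * ((n * s)⁻¹ * y * (n * s)) * k := by
      rw [← hnw, ← hsk]; group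
    rw [hgeq] at hy1
    have hcP : k⁻¹ * ((n * s)⁻¹ * y * (n * s)) * k * ((n * s)⁻¹ * y * (n * s))⁻¹ ∈
        (P : Subgroup G) := Subgroup.mul_mem _ (hR1 hy1) (Subgroup.inv_mem _ huP)
    have hcK : k⁻¹ * ((n * s)⁻¹ * y * (n * s)) * k * ((n * s)⁻¹ * y * (n * s))⁻¹ ∈ K := by
      have h1 : ((n * s)⁻¹ * y * (n * s)) * k * ((n * s)⁻¹ * y * (n * s))⁻¹ ∈ K :=
        hK.conj_mem k hk _
      have h2 := K.mul_mem (K.inv_mem hk) h1
      have e2 : k⁻¹ * (((n * s)⁻¹ * y * (n * s)) * k * ((n * s)⁻¹ * y * (n * s))⁻¹) =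
          k⁻¹ * ((n * s)⁻¹ * y * (n * s)) * k * ((n * s)⁻¹ * y * (n * s))⁻¹ := by group
      rw [e2] at h2; exact h2
    have hc1 : k⁻¹ * ((n * s)⁻¹ * y * (n * s)) * k * ((n * s)⁻¹ * y * (n * s))⁻¹ = 1 := by
      have : k⁻¹ * ((n * s)⁻¹ * y * (n * s)) * k * ((n * s)⁻¹ * y * (n * s))⁻¹ ∈
          (P : Subgroup G) ⊓ K := Subgroup.mem_inf.2 ⟨hcP, hcK⟩
      rw [hPK] at this; exact Subgroup.mem_bot.1 this
    have hceq : k⁻¹ * ((n * s)⁻¹ * y * (n * s)) * k = (n * s)⁻¹ * y * (n * s) :=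
      mul_inv_eq_one.1 hc1
    rw [hceq] at hy1; exact hy1
  -- P is nontrivial
  have hm1 : 1 ≤ m := by
    rcases Nat.eq_zero_or_pos m with h0 | h0
    · exfalso
      rw [h0, pow_zero, mul_one] at hcardW
      rw [← hcardW] at hpW
      exact (Nat.Prime.coprime_iff_not_dvd hp.out).1 hKcop.symm hpW
    · exact h0
  have hpP : p ∣ Nat.card ↥(P : Subgroup G) := (dvd_pow_self p (by omega)).trans hpmP
  haveI : Nontrivial ↥(P : Subgroup G) := by
    rw [← Finite.one_lt_card_iff_nontrivial]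
    exact lt_of_lt_of_le hp.out.one_lt (Nat.le_of_dvd Nat.card_pos hpP)
  haveI hZnt : Nontrivial ↥(Subgroup.center ↥(P : Subgroup G)) := P.isPGroup'.center_nontrivial
  have hZp : IsPGroup p ↥(Subgroup.center ↥(P : Subgroup G)) := P.isPGroup'.to_subgroup _
  have hpZ : p ∣ Nat.card ↥(Subgroup.center ↥(P : Subgroup G)) := by
    rcases hZp.card_eq_or_dvd with h1 | h1
    · exfalso
      have := Finite.one_lt_card_iff_nontrivial.2 hZnt
      omega
    · exact h1
  obtain ⟨z', hz'⟩ := exists_prime_orderOf_dvd_card' p hpZ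
  have hzP : ((z' : ↥(P : Subgroup G)) : G) ∈ (P : Subgroup G) := (z' : ↥(P : Subgroup G)).2
  have hzo : orderOf ((z' : ↥(P : Subgroup G)) : G) = p := by
    rw [Subgroup.orderOf_coe, Subgroup.orderOf_coe]; exact hz'
  have hzc : ∀ y ∈ (P : Subgroup G), y * ((z' : ↥(P : Subgroup G)) : G) =
      ((z' : ↥(P : Subgroup G)) : G) * y := by
    intro y hy
    have h1 := Subgroup.mem_center_iff.1 z'.2 ⟨y, hy⟩
    exact congrArg Subtype.val h1
  generalize ((z' : ↥(P : Subgroup G)) : G) = z at hzP hzo hzc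
  -- elements of order p are central in P
  have hcentral : ∀ x ∈ (P : Subgroup G), orderOf x = p → ∀ y ∈ (P : Subgroup G),
      y * x = x * y := by
    intro x hx hxo y hy
    obtain ⟨n, hn, hnR⟩ := hT (Subgroup.zpowers z) (Subgroup.zpowers x)
      ((Subgroup.zpowers_le).2 hzP) ((Subgroup.zpowers_le).2 hx)
      (by rw [Nat.card_zpowers, Nat.card_zpowers, hzo, hxo])
    obtain ⟨i, hi⟩ := Subgroup.mem_zpowers_iff.1 (hnR x (Subgroup.mem_zpowers x))
    have hy'P : n⁻¹ * y * n ∈ (P : Subgroup G) := by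
      have := (Subgroup.mem_normalizer_iff.1 (Subgroup.inv_mem _ hn) y).1 hy
      rwa [inv_inv] at this
    have hcomm : (n⁻¹ * y * n) * (n⁻¹ * x * n) = (n⁻¹ * x * n) * (n⁻¹ * y * n) := by
      rw [← hi]
      exact ((Commute.zpow_right (hzc _ hy'P) i) : Commute (n⁻¹ * y * n) (z ^ i)).eq
    calc y * x = n * ((n⁻¹ * y * n) * (n⁻¹ * x * n)) * n⁻¹ := by group
      _ = n * ((n⁻¹ * x * n) * (n⁻¹ * y * n)) * n⁻¹ := by rw [hcomm]
      _ = x * y := by group
  have hcentral' : ∀ v ∈ (P : Subgroup G), v ^ p = 1 → ∀ w ∈ (P : Subgroup G),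
      w * v = v * w := by
    intro v hv hvp w hw
    rcases (Nat.dvd_prime hp.out).1 (orderOf_dvd_of_pow_eq_one hvp) with h1 | h1
    · rw [orderOf_eq_one_iff.1 h1, mul_one, one_mul]
    · exact hcentral v hv h1 w hw
  by_cases hex : ∃ y ∈ (P : Subgroup G), orderOf y = p ^ 2
  · -- cyclic case
    obtain ⟨y, hyP, hyo⟩ := hex
    apply isMulCommutative_of_isCyclic
    apply isCyclic_of_unique_order_p hp2 (P : Subgroup G) P.isPGroup'
    intro x x' hxP hx'P hxo hx'o
    by_contra hnot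
    -- the subgroup E of elements of P with v ^ p = 1
    let E : Subgroup G :=
      { carrier := {v | v ∈ (P : Subgroup G) ∧ v ^ p = 1}
        one_mem' := ⟨Subgroup.one_mem _, one_pow p⟩
        mul_mem' := by
          rintro v w ⟨hv, hvp⟩ ⟨hw, hwp⟩
          refine ⟨Subgroup.mul_mem _ hv hw, ?_⟩
          have hc : Commute v w := (hcentral' v hv hvp w hw).symm
          rw [hc.mul_pow, hvp, hwp, one_mul]
        inv_mem' := by
          rintro v ⟨hv, hvp⟩
          exact ⟨Subgroup.inv_mem _ hv, by rw [inv_pow, hvp, inv_one]⟩ }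
    have hEP : E ≤ (P : Subgroup G) := fun v hv => hv.1
    have hxE : x ∈ E := ⟨hxP, by rw [← hxo]; exact pow_orderOf_eq_one x⟩
    have hx'E : x' ∈ E := ⟨hx'P, by rw [← hx'o]; exact pow_orderOf_eq_one x'⟩
    have hEp : IsPGroup p ↥E := P.isPGroup'.to_le hEP
    obtain ⟨f, hf⟩ := IsPGroup.iff_card.1 hEp
    have hf2 : 2 ≤ f := by
      by_contra hlt
      have hf1 : f ≤ 1 := by omega
      have hle : Subgroup.zpowers x ≤ E := (Subgroup.zpowers_le).2 hxE
      have hcle : Nat.card ↥E ≤ Nat.card ↥(Subgroup.zpowers x) := by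
        rw [hf, Nat.card_zpowers, hxo]
        calc p ^ f ≤ p ^ 1 := Nat.pow_le_pow_right hp.out.pos hf1
          _ = p := pow_one p
      have heq := Subgroup.eq_of_le_of_card_ge hle hcle
      exact hnot (heq ▸ hx'E)
    obtain ⟨R1', hR1'⟩ := Sylow.exists_subgroup_card_pow_prime (G := ↥E) p
      (show p ^ 2 ∣ Nat.card ↥E by rw [hf]; exact pow_dvd_pow p hf2)
    have hR1c : Nat.card ↥(R1'.map E.subtype) = p ^ 2 := by
      rw [Subgroup.card_map_of_injective (Subgroup.subtype_injective _), hR1']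
    have hR1E : R1'.map E.subtype ≤ E := Subgroup.map_subtype_le _
    obtain ⟨n, hn, hnR⟩ := hT (R1'.map E.subtype) (Subgroup.zpowers y) (hR1E.trans hEP)
      ((Subgroup.zpowers_le).2 hyP) (by rw [hR1c, Nat.card_zpowers, hyo])
    have h1 : (n⁻¹ * y * n) ^ p = 1 := (hR1E (hnR y (Subgroup.mem_zpowers y))).2
    have h2 : y ^ p = 1 := by
      have e1 : (n⁻¹ * y * n) ^ p = n⁻¹ * y ^ p * n := by
        have := conj_pow (i := p) (a := n⁻¹) (b := y)
        rwa [inv_inv] at this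
      rw [e1] at h1
      have e2 : y ^ p = n * (n⁻¹ * y ^ p * n) * n⁻¹ := by group
      rw [e2, h1]; group
    have h3 := orderOf_dvd_of_pow_eq_one h2
    rw [hyo] at h3
    have h4 : p ^ 2 ≤ p := Nat.le_of_dvd hp.out.pos h3
    have h5 : p * 2 ≤ p ^ 2 := by rw [pow_two]; exact Nat.mul_le_mul_left p hp.out.two_le
    have := hp.out.pos
    omega
  · -- exponent p
    push Not at hex
    have hexp : ∀ y ∈ (P : Subgroup G), y ^ p = 1 := by
      intro y hy
      obtain ⟨b, hb⟩ := orderOf_eq_pow_of_mem (P : Subgroup G) P.isPGroup' y hy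
      rcases Nat.lt_or_ge b 2 with hlt | hge
      · have hd : orderOf y ∣ p := by
          rw [hb]
          calc p ^ b ∣ p ^ 1 := pow_dvd_pow p (by omega)
            _ = p := pow_one p
        exact orderOf_dvd_iff_pow_eq_one.1 hd
      · exfalso
        have hd : p ^ (b - 2) ∣ orderOf y := by rw [hb]; exact pow_dvd_pow p (Nat.sub_le b 2)
        have ho : orderOf (y ^ (p ^ (b - 2))) = p ^ 2 := by
          rw [orderOf_pow_of_dvd (pow_pos hp.out.pos _).ne' hd, hb,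
            Nat.pow_div (Nat.sub_le b 2) hp.out.pos]
          congr 1; omega
        exact hex _ (Subgroup.pow_mem _ hy _) ho
    refine ⟨⟨fun a b => Subtype.ext ?_⟩⟩
    exact (hcentral' b.1 b.2 (hexp b.1 b.2) a.1 a.2)

theorem normal_map_subtype_of_invariant (H : Subgroup G) [hH : H.Normal] (X : Subgroup ↥H)
    (hX : ∀ e : ↥H ≃* ↥H, X.map e.toMonoidHom = X) : (X.map H.subtype).Normal := by
  constructor
  intro n hn g
  obtain ⟨x, hx, rfl⟩ := Subgroup.mem_map.1 hn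
  have h1 : (MulAut.conjNormal g : ↥H ≃* ↥H) x ∈ X := by
    have h0 : (MulAut.conjNormal g : ↥H ≃* ↥H) x ∈
        X.map (MulAut.conjNormal g : ↥H ≃* ↥H).toMonoidHom := Subgroup.mem_map_of_mem _ hx
    rwa [hX] at h0
  have h2 : (((MulAut.conjNormal g : ↥H ≃* ↥H) x : ↥H) : G) = g * x * g⁻¹ :=
    MulAut.conjNormal_apply g x
  have h3 := Subgroup.mem_map_of_mem H.subtype h1
  rw [Subgroup.coe_subtype, h2] at h3
  exact h3

theorem relIndex_comap_mk {A : Type*} [Group A] (N : Subgroup A) [N.Normal]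
    (X : Subgroup (A ⧸ N)) :
    N.relIndex (X.comap (QuotientGroup.mk' N)) = Nat.card ↥X := by
  calc N.relIndex (X.comap (QuotientGroup.mk' N))
      = ((⊥ : Subgroup (A ⧸ N)).comap (QuotientGroup.mk' N)).relIndex
          (X.comap (QuotientGroup.mk' N)) := by
        rw [MonoidHom.comap_bot, QuotientGroup.ker_mk']
    _ = Nat.card ↥X := by
        rw [Subgroup.relIndex_comap,
          Subgroup.map_comap_eq_self_of_surjective (QuotientGroup.mk'_surjective N),
          Subgroup.relIndex_bot_left]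

theorem exists_W [Finite G] {p : ℕ} [hp : Fact p.Prime] (H : Subgroup G) [hH : H.Normal]
    (hsolv : Cfsg.IsPSolvable p ↥H) (hdiv : p ∣ Nat.card ↥H) :
    ∃ W K : Subgroup G, W.Normal ∧ K.Normal ∧ K ≤ W ∧ W ≤ H ∧ (Nat.card ↥K).Coprime p ∧
      (∃ m, K.relIndex W = p ^ m) ∧ p ∣ Nat.card ↥W := by
  have hB : Cfsg.pCore p (↥H ⧸ Cfsg.pPrimeCore p ↥H) ≠ ⊥ := by
    intro hbot
    have hps := helper23.psreach_top_quotient hp.out hsolv (Cfsg.pPrimeCore p ↥H)
    have hO := helper9.pPrimeCore_quotient_eq_bot (G := ↥H) p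
    have hHH := helper23.hall_higman_123 hps hO
    rw [hbot] at hHH
    have hall : ∀ x : ↥H, x ∈ Cfsg.pPrimeCore p ↥H := by
      intro x
      have h1 : QuotientGroup.mk' (Cfsg.pPrimeCore p ↥H) x ∈
          (⊥ : Subgroup (↥H ⧸ Cfsg.pPrimeCore p ↥H)) := by
        apply hHH
        rw [Subgroup.mem_centralizer_iff]
        intro y hy
        have hy1 : y = 1 := by simpa using hy
        rw [hy1, one_mul, mul_one]
      rw [Subgroup.mem_bot] at h1
      rwa [← MonoidHom.mem_ker, QuotientGroup.ker_mk'] at h1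
    have heq : Cfsg.pPrimeCore p ↥H = ⊤ := eq_top_iff.2 (fun x _ => hall x)
    have hcop := helper1.pPrimeCore_coprime (G := ↥H) p
    rw [heq, Subgroup.card_top] at hcop
    exact (Nat.Prime.coprime_iff_not_dvd hp.out).1 hcop.symm hdiv
  have hrel : (Cfsg.pPrimeCore p ↥H).relIndex (Cfsg.pPrimePCore p ↥H) =
      Nat.card ↥(Cfsg.pCore p (↥H ⧸ Cfsg.pPrimeCore p ↥H)) :=
    relIndex_comap_mk (Cfsg.pPrimeCore p ↥H) (Cfsg.pCore p (↥H ⧸ Cfsg.pPrimeCore p ↥H))
  have hpc : IsPGroup p ↥(Cfsg.pCore p (↥H ⧸ Cfsg.pPrimeCore p ↥H)) := helper1.pCore_isPGroup p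
  refine ⟨(Cfsg.pPrimePCore p ↥H).map H.subtype, (Cfsg.pPrimeCore p ↥H).map H.subtype,
    ?_, ?_, ?_, ?_, ?_, ?_, ?_⟩
  · exact normal_map_subtype_of_invariant H _ (fun e => helper15.pPrimePCore_map_equiv p e)
  · exact normal_map_subtype_of_invariant H _ (fun e => helper15.pPrimeCore_map_equiv p e)
  · exact Subgroup.map_mono (helper10.pPrimeCore_le_pPrimePCore p)
  · exact Subgroup.map_subtype_le _
  · rw [Subgroup.card_map_of_injective H.subtype_injective]
    exact helper1.pPrimeCore_coprime p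
  · rw [Subgroup.relIndex_map_map_of_injective _ _ H.subtype_injective, hrel]
    exact IsPGroup.iff_card.1 hpc
  · rw [Subgroup.card_map_of_injective H.subtype_injective]
    have h1 : (Cfsg.pPrimeCore p ↥H).relIndex (Cfsg.pPrimePCore p ↥H) ∣
        Nat.card ↥(Cfsg.pPrimePCore p ↥H) := Subgroup.relIndex_dvd_card _ _
    rw [hrel] at h1
    refine dvd_trans ?_ h1
    rcases hpc.card_eq_or_dvd with h2 | h2
    · exfalso
      exact hB (Subgroup.eq_bot_of_card_eq _ h2)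
    · exact h2

/-- Let p be an odd prime and G a finite group in which any two p-subgroups of the same order are conjugate, with Sylow p-subgroup P. If H is a normal p-solvable subgroup of G whose order is divisible by p, then P is abelian, and either P ≤ H or P is cyclic. -/
theorem result {G : Type*} [Group G] [Finite G]
    {p : ℕ} [Fact p.Prime] (hp : p ≠ 2) (hC : ∀ H K : Subgroup G, IsPGroup p H → IsPGroup p K → Nat.card H = Nat.card K →
      ∃ g : G, K = H.map (MulAut.conj g).toMonoidHom) (P : Sylow p G)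
    (H : Subgroup G) [H.Normal] (hsolv : Cfsg.IsPSolvable p H) (hdiv : p ∣ Nat.card H) :
    IsMulCommutative P ∧ ((P : Subgroup G) ≤ H ∨ IsCyclic P) := by
  obtain ⟨W, K, hWn, hKn, hKW, hWH, hKcop, ⟨m, hWK⟩, hpW⟩ := exists_W H hsolv hdiv
  haveI := hWn
  haveI := hKn
  by_cases hPW : (P : Subgroup G) ≤ W
  · exact ⟨comm_of_le hp hC P W K hKW hKcop m hWK hpW hPW, Or.inl (hPW.trans hWH)⟩
  · have hcyc := cyclic_of_not_le hp hC P W hpW hPW
    exact ⟨isMulCommutative_of_isCyclic hcyc, Or.inr hcyc⟩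

end Cfsg.Agent.S4024
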