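import Mathlib
import Cfsg.Statements.S4027
import Cfsg.Agent.Lib_helper21_RealOdd

set_option autoImplicit false
open Cfsg

namespace Cfsg.Agent.S4027

/-- Let G be a finite group in which every element x of odd order satisfies N_G(⟨x⟩) = C_G(x). Then the Sylow 2-subgroups of G are normal. -/
theorem result {G : Type*} [Group G] [Finite G]
    (hirr : ∀ x : G, (∀ r : ℕ, r.Prime → r ∣ orderOf x → r ≠ 2) →
      Subgroup.normalizer ((Subgroup.zpowers x : Subgroup G) : Set G) ≤ Subgroup.centralizer {x}) (P : Sylow 2 G) :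
    (P : Subgroup G).Normal := by
  refine Cfsg.Agent.helper19.sylow_two_normal_of_no_real_odd (Nat.card G) G rfl ?_ P
  intro x hx1 hodd hconj
  obtain ⟨c, hc⟩ := isConj_iff.mp hconj
  have hN := Cfsg.Agent.helper21.mem_normalizer_zpowers_of_inverts hc
  have hC := hirr x (by
    intro r hr hdvd h2
    rw [h2] at hdvd
    exact (Nat.not_even_iff_odd.mpr hodd) (even_iff_two_dvd.mpr hdvd)) hN
  rw [Subgroup.mem_centralizer_singleton_iff] at hC
  have hxx : x = x⁻¹ := by
    rw [← hc, hC]; group
  exact hx1 (Cfsg.Agent.helper21.eq_one_of_odd_of_eq_inv hodd hxx)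

end Cfsg.Agent.S4027
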