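import Mathlib
import Cfsg.Statements.S4028
import Cfsg.Agent.Lib_helper20_Cyc

set_option autoImplicit false
open Cfsg
open scoped Pointwise

namespace Cfsg.Agent.S4028

open Cfsg.Agent.helper20

theorem mem_normalizer_of_finite {G : Type*} [Group G] (H : Subgroup G) [Finite H] (g : G)
    (h : ∀ x ∈ H, g * x * g⁻¹ ∈ H) : g ∈ Subgroup.normalizer (H : Set G) := by
  let φ : H → H := fun x => ⟨g * x * g⁻¹, h x x.2⟩
  have hinj : Function.Injective φ := by
    intro a b hab
    have := congrArg Subtype.val hab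
    simp only [φ] at this
    apply Subtype.ext
    have h2 : (a : G) = g⁻¹ * (g * a * g⁻¹) * g := by group
    rw [h2, this]; group
  have hsurj : Function.Surjective φ := Finite.surjective_of_injective hinj
  rw [Subgroup.mem_normalizer_iff]
  intro x
  constructor
  · exact h x
  · intro hx
    obtain ⟨s, hs⟩ := hsurj ⟨g * x * g⁻¹, hx⟩
    have := congrArg Subtype.val hs
    simp only [φ] at this
    have h2 : x = g⁻¹ * (g * x * g⁻¹) * g := by group
    rw [h2, ← this]
    have h3 : g⁻¹ * (g * (s : G) * g⁻¹) * g = s := by group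
    rw [h3]; exact s.2

/-- the key step: a 2-element `g1` normalizing `⟨x⟩` for a 2-element `x` centralizes `x`,
given the property inside the Sylow 2-subgroup `P`. -/
theorem two_part {G : Type*} [Group G] [Finite G] (P : Sylow 2 G)
    (hP : ∀ y : ↥(P : Subgroup G), Subgroup.normalizer ((Subgroup.zpowers y : Subgroup ↥(P : Subgroup G)) : Set ↥(P : Subgroup G)) ≤
        Subgroup.centralizer {y})
    (x g1 : G) (k v : ℕ) (hx : orderOf x = 2 ^ k) (hg1 : orderOf g1 = 2 ^ v)
    (hN : g1 ∈ Subgroup.normalizer ((Subgroup.zpowers x : Subgroup G) : Set G)) : g1 * x = x * g1 := by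
  have : Fact (Nat.Prime 2) := ⟨Nat.prime_two⟩
  have hX : IsPGroup 2 (Subgroup.zpowers x) := by
    apply IsPGroup.of_card (n := k); rw [Nat.card_zpowers, hx]
  have hG1 : IsPGroup 2 (Subgroup.zpowers g1) := by
    apply IsPGroup.of_card (n := v); rw [Nat.card_zpowers, hg1]
  have hle : Subgroup.zpowers g1 ≤ Subgroup.normalizer ((Subgroup.zpowers x : Subgroup G) : Set G) := by
    rw [Subgroup.zpowers_le]; exact hN
  have hT : IsPGroup 2 ↥(Subgroup.zpowers g1 ⊔ Subgroup.zpowers x) :=
    hG1.to_sup_of_normal_right' hX hle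
  obtain ⟨P', hP'⟩ := hT.exists_le_sylow
  obtain ⟨h, hh⟩ := MulAction.exists_smul_eq G P P'
  have hxP' : x ∈ (P' : Subgroup G) := hP' ((le_sup_right : Subgroup.zpowers x ≤ _) (Subgroup.mem_zpowers x))
  have hgP' : g1 ∈ (P' : Subgroup G) := hP' ((le_sup_left : Subgroup.zpowers g1 ≤ _) (Subgroup.mem_zpowers g1))
  rw [← hh] at hxP' hgP'
  have hxP'' : x ∈ MulAut.conj h • (P : Subgroup G) := hxP'
  have hgP'' : g1 ∈ MulAut.conj h • (P : Subgroup G) := hgP'
  obtain ⟨y, hy, hyx⟩ := hxP''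
  obtain ⟨γ, hγ, hγg⟩ := hgP''
  have hyx' : h * y * h⁻¹ = x := hyx
  have hγg' : h * γ * h⁻¹ = g1 := hγg
  -- g1 x g1⁻¹ = x^r
  have hconj : g1 * x * g1⁻¹ ∈ Subgroup.zpowers x :=
    (Subgroup.mem_normalizer_iff.mp hN x).mp (Subgroup.mem_zpowers x)
  obtain ⟨r, hr⟩ := (Submonoid.mem_powers_iff _ _).mp ((mem_powers_iff_mem_zpowers).mpr hconj)
  have hγy : γ * y * γ⁻¹ = y ^ r := by
    have h1 : h * (γ * y * γ⁻¹) * h⁻¹ = h * (y ^ r) * h⁻¹ := by
      calc h * (γ * y * γ⁻¹) * h⁻¹ = (h * γ * h⁻¹) * (h * y * h⁻¹) * (h * γ * h⁻¹)⁻¹ := by group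
        _ = x ^ r := by rw [hyx', hγg', hr]
        _ = (h * y * h⁻¹) ^ r := by rw [hyx']
        _ = h * y ^ r * h⁻¹ := by rw [conj_pow]
    have h2 := mul_left_cancel (mul_right_cancel h1)
    exact h2
  let y' : ↥(P : Subgroup G) := ⟨y, hy⟩
  let γ' : ↥(P : Subgroup G) := ⟨γ, hγ⟩
  have hγN : γ' ∈ Subgroup.normalizer ((Subgroup.zpowers y' : Subgroup ↥(P : Subgroup G)) : Set ↥(P : Subgroup G)) := by
    apply mem_normalizer_of_finite
    intro w hw
    obtain ⟨j, rfl⟩ := Subgroup.mem_zpowers_iff.mp hw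
    have h1 : γ' * y' ^ j * γ'⁻¹ = (γ' * y' * γ'⁻¹) ^ j := by rw [conj_zpow]
    rw [h1]
    have h2 : γ' * y' * γ'⁻¹ = y' ^ r := Subtype.ext hγy
    rw [h2]
    exact Subgroup.zpow_mem _ (Subgroup.pow_mem _ (Subgroup.mem_zpowers y') r) j
  have hγC := hP y' hγN
  have h3 : y' * γ' = γ' * y' := Subgroup.mem_centralizer_iff.mp hγC y' (Set.mem_singleton _)
  have h4 : y * γ = γ * y := congrArg Subtype.val h3
  rw [← hyx', ← hγg']
  calc h * γ * h⁻¹ * (h * y * h⁻¹) = h * (γ * y) * h⁻¹ := by group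
    _ = h * (y * γ) * h⁻¹ := by rw [h4]
    _ = _ := by group

/-- Let G be a finite group with Sylow 2-subgroup P. Then N_G(⟨x⟩) = C_G(x) holds for every 2-element x of G if and only if N_P(⟨y⟩) = C_P(y) holds for every y ∈ P (computed inside P). -/
theorem result {G : Type*} [Group G] [Finite G] (P : Sylow 2 G) :
    (∀ x : G, (∀ r : ℕ, r.Prime → r ∣ orderOf x → r = 2) →
      Subgroup.normalizer ((Subgroup.zpowers x : Subgroup G) : Set G) ≤ Subgroup.centralizer {x}) ↔
    (∀ y : ↥(P : Subgroup G), Subgroup.normalizer ((Subgroup.zpowers y : Subgroup ↥(P : Subgroup G)) : Set ↥(P : Subgroup G)) ≤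
        Subgroup.centralizer {y}) := by
  have : Fact (Nat.Prime 2) := ⟨Nat.prime_two⟩
  constructor
  · intro h y g hg
    obtain ⟨k, hk⟩ := (IsPGroup.iff_orderOf.mp P.2) y
    have h2 : ∀ r : ℕ, r.Prime → r ∣ orderOf (y : G) → r = 2 := by
      intro r hr hrd
      rw [Subgroup.orderOf_coe, hk] at hrd
      exact (Nat.prime_dvd_prime_iff_eq hr Nat.prime_two).mp (hr.dvd_of_dvd_pow hrd)
    have hgN : (g : G) ∈ Subgroup.normalizer ((Subgroup.zpowers (y : G) : Subgroup G) : Set G) := by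
      apply mem_normalizer_of_finite
      intro w hw
      obtain ⟨j, rfl⟩ := Subgroup.mem_zpowers_iff.mp hw
      have h3 : g * y ^ j * g⁻¹ ∈ Subgroup.zpowers y :=
        (Subgroup.mem_normalizer_iff.mp hg (y ^ j)).mp (Subgroup.zpow_mem _ (Subgroup.mem_zpowers y) j)
      obtain ⟨i, hi⟩ := Subgroup.mem_zpowers_iff.mp h3
      refine Subgroup.mem_zpowers_iff.mpr ⟨i, ?_⟩
      have := congrArg Subtype.val hi
      simpa using this
    have hgC := h (y : G) h2 hgN
    rw [Subgroup.mem_centralizer_iff]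
    intro w hw
    rw [Set.mem_singleton_iff] at hw
    rw [hw]
    apply Subtype.ext
    exact Subgroup.mem_centralizer_iff.mp hgC (y : G) (Set.mem_singleton _)
  · intro hP x hx g hg
    rw [Subgroup.mem_centralizer_iff]
    intro w hw
    rw [Set.mem_singleton_iff] at hw
    rw [hw]
    -- x is a 2-element
    have hxo : orderOf x ≠ 0 := (orderOf_pos x).ne'
    have hxk : orderOf x = 2 ^ (orderOf x).primeFactorsList.length :=
      Nat.eq_prime_pow_of_unique_prime_dvd hxo (fun {d} hd hdx => hx d hd hdx)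
    set k := (orderOf x).primeFactorsList.length with hk
    -- decompose g
    have ho : orderOf g ≠ 0 := (orderOf_pos g).ne'
    obtain ⟨v, m, hm, hvm⟩ := Nat.exists_eq_two_pow_mul_odd ho
    have hm0 : m ≠ 0 := by
      rintro rfl
      simp at hm
    have hpv0 : 2 ^ v ≠ 0 := pow_ne_zero _ (by norm_num)
    have hg1o : orderOf (g ^ m) = 2 ^ v := by
      rw [orderOf_pow_of_dvd hm0 ⟨2 ^ v, by rw [hvm, mul_comm]⟩, hvm,
        Nat.mul_div_cancel _ (Nat.pos_of_ne_zero hm0)]
    have hg1N : g ^ m ∈ Subgroup.normalizer ((Subgroup.zpowers x : Subgroup G) : Set G) :=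
      Subgroup.pow_mem _ hg m
    have hg1x : Commute (g ^ m) x := two_part P hP x (g ^ m) k v hxk hg1o hg1N
    -- odd part
    have hg2m : (g ^ (2 ^ v)) ^ m = 1 := by
      rw [← pow_mul, ← hvm, pow_orderOf_eq_one]
    have hg2N : g ^ (2 ^ v) ∈ Subgroup.normalizer ((Subgroup.zpowers x : Subgroup G) : Set G) :=
      Subgroup.pow_mem _ hg _
    have hconj : g ^ (2 ^ v) * x * (g ^ (2 ^ v))⁻¹ ∈ Subgroup.zpowers x :=
      (Subgroup.mem_normalizer_iff.mp hg2N x).mp (Subgroup.mem_zpowers x)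
    obtain ⟨r, hr⟩ := (Submonoid.mem_powers_iff _ _).mp ((mem_powers_iff_mem_zpowers).mpr hconj)
    have hg2x : Commute (g ^ (2 ^ v)) x := by
      rcases Nat.eq_zero_or_pos k with hk0 | hk0
      · have : x = 1 := by
          rw [← orderOf_eq_one_iff, hxk, hk0, pow_zero]
        rw [this]; exact Commute.one_right _
      · have hr1 : r ≡ 1 [MOD 2] := by
          -- r is odd, since x^r has the same order as x
          have h1 : orderOf (x ^ r) = orderOf x := by
            rw [hr]; exact MulEquiv.orderOf_eq (MulAut.conj (g ^ (2 ^ v))) x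
          rw [orderOf_pow] at h1
          have hgcd : Nat.gcd (orderOf x) r = 1 := by
            have hpos : 0 < orderOf x := orderOf_pos x
            have hd : Nat.gcd (orderOf x) r ∣ orderOf x := Nat.gcd_dvd_left _ _
            have h2 : orderOf x / Nat.gcd (orderOf x) r * Nat.gcd (orderOf x) r = orderOf x :=
              Nat.div_mul_cancel hd
            rw [h1] at h2
            have h3 : orderOf x * Nat.gcd (orderOf x) r = orderOf x * 1 := by rw [h2, mul_one]
            exact Nat.eq_of_mul_eq_mul_left hpos h3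
          have hodd : ¬ 2 ∣ r := by
            intro h2
            have : 2 ∣ Nat.gcd (orderOf x) r := by
              apply Nat.dvd_gcd _ h2
              rw [hxk]; exact dvd_pow_self 2 hk0.ne'
            rw [hgcd] at this
            omega
          rw [Nat.ModEq]
          omega
        have hmc : Nat.Coprime m 2 := (Nat.coprime_two_left.mpr hm).symm
        have h5 := conj_eq_self_of_coprime x (g ^ (2 ^ v)) 2 k m r hxk hg2m hmc hr.symm hr1
        have : g ^ (2 ^ v) * x = x * g ^ (2 ^ v) := by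
          calc g ^ (2 ^ v) * x = (g ^ (2 ^ v) * x * (g ^ (2 ^ v))⁻¹) * g ^ (2 ^ v) := by group
            _ = x * g ^ (2 ^ v) := by rw [h5]
        exact this
    have hcop : Nat.Coprime (2 ^ v) m := Nat.Coprime.pow_left _ (Nat.coprime_two_left.mpr hm)
    have hb := Nat.gcd_eq_gcd_ab (2 ^ v) m
    rw [hcop.gcd_eq_one] at hb
    have hgdec : g = (g ^ (2 ^ v)) ^ (Nat.gcdA (2 ^ v) m) * (g ^ m) ^ (Nat.gcdB (2 ^ v) m) := by
      rw [← zpow_natCast, ← zpow_natCast, ← zpow_mul, ← zpow_mul, ← zpow_add, ← hb]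
      simp
    have hcomm : Commute g x := by
      rw [hgdec]
      exact (hg2x.zpow_left _).mul_left (hg1x.zpow_left _)
    exact hcomm.eq.symm

end Cfsg.Agent.S4028
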