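import Mathlib
import Cfsg.Statements.S4032
import Cfsg.Agent.S3986
import Cfsg.Agent.S3982

set_option autoImplicit false
open Cfsg
open scoped Pointwise

namespace Cfsg.Agent.S4032

/-- the prime-power case -/
theorem key {G : Type*} [Group G] [Finite G] (π : Set ℕ)
    (hirr : ∀ x : G, (∀ r : ℕ, r.Prime → r ∣ orderOf x → r ∈ π) →
      Subgroup.normalizer ((Subgroup.zpowers x : Subgroup G) : Set G) ≤ Subgroup.centralizer {x})
    (N : Subgroup G) [hNn : N.Normal] (hN : ∀ r : ℕ, r.Prime → r ∣ Nat.card N → r ∉ π)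
    (q : ℕ) [hqF : Fact q.Prime] (hqπ : q ∈ π) (zb gb : G ⧸ N) (b : ℕ) (hzb : orderOf zb = q ^ b)
    (hnorm : gb * zb * gb⁻¹ ∈ Subgroup.zpowers zb) : gb * zb = zb * gb := by
  have hq : q.Prime := hqF.out
  have hqN : ¬ q ∣ Nat.card N := fun h => hN q hq h hqπ
  have hsurj : Function.Surjective (QuotientGroup.mk' N) := QuotientGroup.mk'_surjective N
  -- lift zb to a q-element
  have hZb : IsPGroup q (Subgroup.zpowers zb) :=
    IsPGroup.of_card (n := b) (by rw [Nat.card_zpowers, hzb])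
  obtain ⟨Qb, hQb⟩ := hZb.exists_le_sylow
  obtain ⟨P, hP⟩ := Sylow.mapSurjective_surjective hsurj q Qb
  have hzQ : zb ∈ (Qb : Subgroup (G ⧸ N)) := hQb (Subgroup.mem_zpowers zb)
  rw [← hP, Sylow.coe_mapSurjective] at hzQ
  obtain ⟨z, hzP, hz⟩ := Subgroup.mem_map.mp hzQ
  have hz' : (z : G ⧸ N) = zb := hz
  obtain ⟨c, hc⟩ := (IsPGroup.iff_orderOf.mp P.isPGroup') ⟨z, hzP⟩
  have hzc : orderOf z = q ^ c := by rw [← hc, Subgroup.orderOf_mk]
  obtain ⟨g, hg⟩ := hsurj gb
  have hg' : (g : G ⧸ N) = gb := hg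
  -- z is a π-element
  have hzπ : ∀ r : ℕ, r.Prime → r ∣ orderOf z → r ∈ π := by
    intro r hr hrz
    rw [hzc] at hrz
    have := (Nat.prime_dvd_prime_iff_eq hr hq).mp (hr.dvd_of_dvd_pow hrz)
    rw [this]; exact hqπ
  have hirrz := hirr z hzπ
  -- subgroups
  set Z := Subgroup.zpowers z with hZdef
  set K := N ⊔ Z with hKdef
  have hNK : N ≤ K := le_sup_left
  have hZK : Z ≤ K := le_sup_right
  have hZq : IsPGroup q Z := IsPGroup.of_card (n := c) (by rw [Nat.card_zpowers, hzc])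
  have hKmem : ∀ k ∈ K, ∃ n ∈ N, ∃ w ∈ Z, n * w = k := by
    intro k hk
    have : k ∈ ((N ⊔ Z : Subgroup G) : Set G) := hk
    rw [Subgroup.normal_mul] at this
    exact Set.mem_mul.mp this
  -- card K = card N * card Z
  have hdisj : Disjoint (N.subgroupOf K) (Z.subgroupOf K) := by
    apply Subgroup.disjoint_of_coprime_natCard
    rw [Cfsg.Agent.helper5.card_subgroupOf_of_le hNK, Cfsg.Agent.helper5.card_subgroupOf_of_le hZK,
      Nat.card_zpowers, hzc]
    exact Nat.Coprime.pow_right c ((Nat.Prime.coprime_iff_not_dvd hq).mpr hqN).symm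
  have hcompl : Subgroup.IsComplement' (N.subgroupOf K) (Z.subgroupOf K) := by
    apply Subgroup.isComplement'_of_disjoint_and_mul_eq_univ hdisj
    rw [Set.eq_univ_iff_forall]
    intro k
    obtain ⟨n, hn, w, hw, hnw⟩ := hKmem k k.2
    refine Set.mem_mul.mpr ⟨⟨n, hNK hn⟩, ?_, ⟨w, hZK hw⟩, ?_, ?_⟩
    · exact Subgroup.mem_subgroupOf.mpr hn
    · exact Subgroup.mem_subgroupOf.mpr hw
    · exact Subtype.ext hnw
  have hKcard : Nat.card K = Nat.card N * q ^ c := by
    rw [← hcompl.card_mul_card, Cfsg.Agent.helper5.card_subgroupOf_of_le hNK,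
      Cfsg.Agent.helper5.card_subgroupOf_of_le hZK, Nat.card_zpowers, hzc]
  have hZcard : Nat.card Z = q ^ (Nat.card K).factorization q := by
    rw [hKcard, Nat.factorization_mul Nat.card_pos.ne' (pow_pos hq.pos c).ne',
      Finsupp.add_apply, Nat.factorization_eq_zero_of_not_dvd hqN, zero_add,
      hq.factorization_pow, Finsupp.single_eq_same, Nat.card_zpowers, hzc]
  -- conjugate of z by g lies in K
  obtain ⟨j, hj⟩ := (Submonoid.mem_powers_iff _ _).mp ((mem_powers_iff_mem_zpowers).mpr hnorm)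
  have hgz : g * z * g⁻¹ ∈ K := by
    have h1 : ((z ^ j : G) : G ⧸ N) = ((g * z * g⁻¹ : G) : G ⧸ N) := by
      rw [QuotientGroup.mk_pow, hz', hj, QuotientGroup.mk_mul, QuotientGroup.mk_mul,
        QuotientGroup.mk_inv, hz', hg']
    have h2 := QuotientGroup.eq.mp h1
    have h3 : g * z * g⁻¹ = z ^ j * ((z ^ j)⁻¹ * (g * z * g⁻¹)) := by group
    rw [h3]
    exact Subgroup.mul_mem _ (hZK (Subgroup.pow_mem _ (Subgroup.mem_zpowers z) j)) (hNK h2)
  set T : Subgroup G := Z.map (MulAut.conj g).toMonoidHom with hTdef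
  have hTq : IsPGroup q T := hZq.map _
  have hTK : T ≤ K := by
    intro x hx
    obtain ⟨w, hw, rfl⟩ := Subgroup.mem_map.mp hx
    obtain ⟨i, rfl⟩ := Subgroup.mem_zpowers_iff.mp hw
    simp only [MulEquiv.coe_toMonoidHom, MulAut.conj_apply]
    have : g * z ^ i * g⁻¹ = (g * z * g⁻¹) ^ i := by rw [conj_zpow]
    rw [this]
    exact Subgroup.zpow_mem _ hgz i
  obtain ⟨u, huK, hu⟩ := Cfsg.Agent.helper5.exists_conj_le_of_card q K Z hZK hZcard T hTq hTK
  set w := u⁻¹ * g with hwdef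
  have hwN : w ∈ Subgroup.normalizer ((Z : Subgroup G) : Set G) := by
    apply Cfsg.Agent.S3982.mem_normalizer_of_finite
    intro x hx
    have h1 : g * x * g⁻¹ ∈ T := Subgroup.mem_map.mpr ⟨x, hx, by simp⟩
    have h2 := hu _ h1
    have h3 : w * x * w⁻¹ = u⁻¹ * (g * x * g⁻¹) * u := by rw [hwdef]; group
    rw [h3]; exact h2
  have hwz := hirrz hwN
  rw [Subgroup.mem_centralizer_singleton_iff] at hwz
  -- in the quotient
  have hwq : ((w : G) : G ⧸ N) * zb = zb * ((w : G) : G ⧸ N) := by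
    rw [← hz', ← QuotientGroup.mk_mul, ← QuotientGroup.mk_mul, hwz]
  obtain ⟨n, hn, v, hv, hnv⟩ := hKmem u huK
  obtain ⟨i, hi⟩ := Subgroup.mem_zpowers_iff.mp hv
  have huq : ((u : G) : G ⧸ N) = zb ^ i := by
    rw [← hnv, QuotientGroup.mk_mul, (QuotientGroup.eq_one_iff n).mpr hn, one_mul, ← hi,
      QuotientGroup.mk_zpow, hz']
  have hgq : gb = zb ^ i * ((w : G) : G ⧸ N) := by
    rw [← huq, ← QuotientGroup.mk_mul, hwdef, ← hg']
    congr 1; group
  rw [hgq]
  have hcz : Commute (zb ^ i) zb := (Commute.refl zb).zpow_left i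
  calc zb ^ i * ((w : G) : G ⧸ N) * zb = zb ^ i * (((w : G) : G ⧸ N) * zb) := by group
    _ = zb ^ i * (zb * ((w : G) : G ⧸ N)) := by rw [hwq]
    _ = (zb ^ i * zb) * ((w : G) : G ⧸ N) := by group
    _ = (zb * zb ^ i) * ((w : G) : G ⧸ N) := by rw [hcz.eq]
    _ = zb * (zb ^ i * ((w : G) : G ⧸ N)) := by group

theorem result {G : Type*} [Group G] [Finite G] (π : Set ℕ)
    (hirr : ∀ x : G, (∀ r : ℕ, r.Prime → r ∣ orderOf x → r ∈ π) →
      Subgroup.normalizer ((Subgroup.zpowers x : Subgroup G) : Set G) ≤ Subgroup.centralizer {x})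
    (N : Subgroup G) [N.Normal] (hN : ∀ r : ℕ, r.Prime → r ∣ Nat.card N → r ∉ π) :
    ∀ y : G ⧸ N, (∀ r : ℕ, r.Prime → r ∣ orderOf y → r ∈ π) →
      Subgroup.normalizer ((Subgroup.zpowers y : Subgroup (G ⧸ N)) : Set (G ⧸ N)) ≤ Subgroup.centralizer {y} := by
  intro y hy gb hgb
  rw [Subgroup.mem_centralizer_singleton_iff]
  have hmem : y ∈ Subgroup.centralizer ({gb} : Set (G ⧸ N)) := by
    apply Cfsg.Agent.S3986.mem_of_primePow_powers _ (orderOf y) y rfl (orderOf_pos y).ne'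
    rintro k ⟨q, b, hq, hqb⟩
    rw [Subgroup.mem_centralizer_singleton_iff]
    by_cases hb0 : b = 0
    · have : y ^ k = 1 := by rw [← orderOf_eq_one_iff, hqb, hb0, pow_zero]
      rw [this]; simp
    · have : Fact q.Prime := ⟨hq⟩
      have hqy : q ∣ orderOf y := by
        have h1 : q ∣ orderOf (y ^ k) := by rw [hqb]; exact dvd_pow_self q hb0
        exact h1.trans (orderOf_pow_dvd k)
      have hqπ : q ∈ π := hy q hq hqy
      have hnorm : gb * y ^ k * gb⁻¹ ∈ Subgroup.zpowers (y ^ k) := by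
        have h1 : gb * y * gb⁻¹ ∈ Subgroup.zpowers y :=
          (Subgroup.mem_normalizer_iff.mp hgb y).mp (Subgroup.mem_zpowers y)
        obtain ⟨i, hi⟩ := Subgroup.mem_zpowers_iff.mp h1
        have h2 : gb * y ^ k * gb⁻¹ = (y ^ k) ^ i := by
          rw [← conj_pow, ← hi, ← zpow_natCast, ← zpow_natCast, ← zpow_mul, ← zpow_mul, mul_comm]
        rw [h2]; exact Subgroup.zpow_mem _ (Subgroup.mem_zpowers _) i
      exact (key π hirr N hN q hqπ (y ^ k) gb b hqb hnorm).symm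
  rw [Subgroup.mem_centralizer_singleton_iff] at hmem
  exact hmem.symm

end Cfsg.Agent.S4032
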