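import Mathlib
import Cfsg.Statements.S4034
import Cfsg.Agent.S0143
import Cfsg.Agent.S0144
import Cfsg.Agent.S0044
import Cfsg.Agent.Lib_helper23_Hall
import Cfsg.Agent.Lib_helper23_Wielandt
import Cfsg.Agent.Lib_helper20_Class
import Cfsg.Agent.Lib_helper20_PiElts
import Cfsg.Agent.Lib_helper7_Fitting

set_option autoImplicit false
open Cfsg
open scoped Pointwise

namespace Cfsg.Agent.S4034

universe u

/-- The hypothesis in centralizer-index form. -/
def Hyp (p : ℕ) (G : Type u) [Group G] : Prop :=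
  ∀ x : G, (orderOf x).Coprime p →
    ∃ k : ℕ, (Subgroup.centralizer ({x} : Set G)).index = p ^ k

theorem card_mul_relIndex_le {G : Type u} [Group G] {H K : Subgroup G} (h : H ≤ K) :
    Nat.card ↥H * H.relIndex K = Nat.card ↥K := by
  have := Subgroup.relIndex_mul_relIndex (H := (⊥ : Subgroup G)) (K := H) (L := K) bot_le h
  rwa [Subgroup.relIndex_bot_left, Subgroup.relIndex_bot_left] at this

/-- For `N` normal, `|N : N ∩ C|` divides `|G : C|`. -/
theorem relIndex_dvd_index_normal {G : Type u} [Group G] [Finite G] (N C : Subgroup G)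
    [N.Normal] : C.relIndex N ∣ C.index := by
  have e1 : Nat.card ↥(N ⊓ C) * C.relIndex N = Nat.card N := by
    have := card_mul_relIndex_le (inf_le_left : N ⊓ C ≤ N)
    rwa [Subgroup.inf_relIndex_left] at this
  have e2 : Nat.card ↥(N ⊓ C) * N.relIndex C = Nat.card C := by
    have := card_mul_relIndex_le (inf_le_right : N ⊓ C ≤ C)
    rwa [Subgroup.inf_relIndex_right] at this
  have e3 : Nat.card N * N.relIndex C = Nat.card ↥(C ⊔ N) := by
    have := card_mul_relIndex_le (le_sup_right : N ≤ C ⊔ N)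
    rwa [Subgroup.relIndex_sup_right] at this
  have e4 : Nat.card C * C.relIndex (C ⊔ N) = Nat.card ↥(C ⊔ N) :=
    card_mul_relIndex_le (le_sup_left : C ≤ C ⊔ N)
  have hpos : 0 < Nat.card ↥(N ⊓ C) * N.relIndex C := by
    rw [e2]; exact Nat.card_pos
  have heq : C.relIndex N = C.relIndex (C ⊔ N) := by
    apply Nat.eq_of_mul_eq_mul_left hpos
    calc Nat.card ↥(N ⊓ C) * N.relIndex C * C.relIndex N
        = (Nat.card ↥(N ⊓ C) * C.relIndex N) * N.relIndex C := by ring
      _ = Nat.card ↥(C ⊔ N) := by rw [e1, e3]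
      _ = Nat.card ↥(N ⊓ C) * N.relIndex C * C.relIndex (C ⊔ N) := by rw [e2, e4]
  rw [heq]
  exact Subgroup.relIndex_dvd_index_of_le le_sup_left

theorem index_centralizer_quot_dvd {G : Type u} [Group G] [Finite G] (N : Subgroup G)
    [N.Normal] (x : G) :
    (Subgroup.centralizer ({(x : G ⧸ N)} : Set (G ⧸ N))).index ∣
      (Subgroup.centralizer ({x} : Set G)).index := by
  have h1 : (Subgroup.centralizer ({x} : Set G)).map (QuotientGroup.mk' N) ≤
      Subgroup.centralizer ({(x : G ⧸ N)} : Set (G ⧸ N)) := by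
    rintro _ ⟨c, hc, rfl⟩
    rw [Subgroup.mem_centralizer_iff]
    intro y hy
    rw [Set.mem_singleton_iff] at hy
    subst hy
    have := Subgroup.mem_centralizer_iff.mp hc x rfl
    show (x : G ⧸ N) * (c : G ⧸ N) = (c : G ⧸ N) * (x : G ⧸ N)
    rw [← QuotientGroup.mk_mul, ← QuotientGroup.mk_mul, this]
  exact (Subgroup.index_dvd_of_le h1).trans
    (Subgroup.index_map_dvd _ (QuotientGroup.mk'_surjective N))

theorem exists_lift_coprime {G : Type u} [Group G] [Finite G] (p : ℕ) (hp : p.Prime)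
    (N : Subgroup G) [N.Normal] (y : G ⧸ N) (hy : (orderOf y).Coprime p) :
    ∃ x : G, (x : G ⧸ N) = y ∧ (orderOf x).Coprime p := by
  obtain ⟨x0, rfl⟩ := QuotientGroup.mk_surjective y
  obtain ⟨n, hn⟩ : ∃ n, n = orderOf x0 := ⟨_, rfl⟩
  have hnpos : 0 < n := hn ▸ orderOf_pos x0
  obtain ⟨a, ha⟩ : ∃ a, a = n.factorization p := ⟨_, rfl⟩
  have hm : p ^ a * (n / p ^ a) = n := by
    rw [ha]; exact Nat.ordProj_mul_ordCompl_eq_self n p
  have hcop : (n / p ^ a).Coprime p := by
    rw [ha]; exact (Nat.coprime_ordCompl hp hnpos.ne').symm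
  obtain ⟨d, hd⟩ : ∃ d, d = orderOf (x0 : G ⧸ N) := ⟨_, rfl⟩
  have hdpos : 0 < d := hd ▸ orderOf_pos _
  have hpd : (p ^ a).Coprime d := by
    rw [hd]; exact Nat.Coprime.pow_left a hy.symm
  obtain ⟨j, hj⟩ := Cfsg.Agent.helper20.exists_mul_modEq_one (p ^ a) d hdpos hpd
  refine ⟨x0 ^ (p ^ a * j), ?_, ?_⟩
  · rw [QuotientGroup.mk_pow]
    have h1 : (x0 : G ⧸ N) ^ (p ^ a * j) = (x0 : G ⧸ N) ^ 1 := by
      rw [pow_eq_pow_iff_modEq, ← hd]
      exact hj
    rw [h1, pow_one]
  · have h1 : (x0 ^ (p ^ a * j)) ^ (n / p ^ a) = 1 := by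
      rw [← pow_mul]
      have : p ^ a * j * (n / p ^ a) = n * j := by
        calc p ^ a * j * (n / p ^ a) = (p ^ a * (n / p ^ a)) * j := by ring
          _ = n * j := by rw [hm]
      rw [this, pow_mul, hn, pow_orderOf_eq_one, one_pow]
    exact Nat.Coprime.coprime_dvd_left (orderOf_dvd_of_pow_eq_one h1) hcop

theorem hyp_quot {G : Type u} [Group G] [Finite G] (p : ℕ) (hp : p.Prime)
    (N : Subgroup G) [N.Normal] (h : Hyp p G) : Hyp p (G ⧸ N) := by
  intro y hy
  obtain ⟨x, rfl, hx⟩ := exists_lift_coprime p hp N y hy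
  obtain ⟨k, hk⟩ := h x hx
  have := index_centralizer_quot_dvd N x
  rw [hk] at this
  obtain ⟨j, _, hj⟩ := (Nat.dvd_prime_pow hp).1 this
  exact ⟨j, hj⟩

theorem hyp_normal {G : Type u} [Group G] [Finite G] (p : ℕ) (hp : p.Prime)
    (N : Subgroup G) [N.Normal] (h : Hyp p G) : Hyp p ↥N := by
  intro x hx
  have hx' : (orderOf (x : G)).Coprime p := by rwa [Subgroup.orderOf_coe]
  obtain ⟨k, hk⟩ := h x hx'
  have heq : Subgroup.centralizer ({x} : Set ↥N) =
      (Subgroup.centralizer ({(x : G)} : Set G)).subgroupOf N := by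
    ext c
    rw [Subgroup.mem_subgroupOf, Subgroup.mem_centralizer_iff, Subgroup.mem_centralizer_iff]
    constructor
    · intro hc y hy
      rw [Set.mem_singleton_iff] at hy; subst hy
      have := hc x rfl
      exact_mod_cast congrArg Subtype.val this
    · intro hc y hy
      rw [Set.mem_singleton_iff] at hy; subst hy
      exact Subtype.ext (hc _ rfl)
  have hd : (Subgroup.centralizer ({x} : Set ↥N)).index ∣ p ^ k := by
    rw [heq, ← hk]; exact relIndex_dvd_index_normal N _
  obtain ⟨j, _, hj⟩ := (Nat.dvd_prime_pow hp).1 hd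
  exact ⟨j, hj⟩


theorem solvable_of_hyp (p : ℕ) (hp : p.Prime) : ∀ (n : ℕ) (G : Type u) [Group G] [Finite G],
    Nat.card G = n → Hyp p G → Group.IsSolvable G := by
  intro n
  induction n using Nat.strong_induction_on with
  | _ n ih =>
  intro G _ _ hn h
  by_cases hsimple : ∀ N : Subgroup G, N.Normal → N = ⊥ ∨ N = ⊤
  · by_cases hnt : Nontrivial G
    · have hS : IsSimpleGroup G := IsSimpleGroup.mk hsimple
      by_cases hpg : ∃ a, Nat.card G = p ^ a
      · obtain ⟨a, ha⟩ := hpg
        exact Cfsg.Agent.S0144.isSolvable_of_prime_pow_card hp ha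
      · have hq : ∃ q, q.Prime ∧ q ∣ Nat.card G ∧ q ≠ p := by
          by_contra hcon
          push Not at hcon
          apply hpg
          exact ⟨_, Nat.eq_prime_pow_of_unique_prime_dvd (Nat.card_pos).ne'
            (fun {q} hq hqd => hcon q hq hqd)⟩
        obtain ⟨q, hq, hqd, hqp⟩ := hq
        have hqf : Fact q.Prime := ⟨hq⟩
        obtain ⟨x, hx⟩ := exists_prime_orderOf_dvd_card' q hqd
        have hx1 : x ≠ 1 := by
          intro h1
          rw [h1, orderOf_one] at hx
          exact hq.one_lt.ne hx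
        obtain ⟨k, hk⟩ := h x (by rw [hx]; exact (Nat.coprime_primes hq hp).2 hqp)
        have hprime := Cfsg.Agent.S0143.result p k hp x hx1 hk
        have hfact : Fact (Nat.card G).Prime := ⟨hprime⟩
        have hcyc : IsCyclic G := isCyclic_of_prime_card rfl
        let _ : CommGroup G := IsCyclic.commGroup
        infer_instance
    · rw [not_nontrivial_iff_subsingleton] at hnt
      infer_instance
  · push Not at hsimple
    obtain ⟨N, hN, hbot, htop⟩ := hsimple
    have hc1 : Nat.card N < n := by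
      rw [← hn]
      have h1 := Subgroup.card_mul_index N
      have h2 : N.index ≠ 1 := fun h => htop (Subgroup.index_eq_one.mp h)
      have h3 : 0 < N.index := Nat.pos_of_ne_zero Subgroup.index_ne_zero_of_finite
      have h4 : 0 < Nat.card N := Nat.card_pos
      have h5 : 2 ≤ N.index := by omega
      have h6 : Nat.card N * 2 ≤ Nat.card N * N.index := Nat.mul_le_mul_left _ h5
      omega
    have hc2 : Nat.card (G ⧸ N) < n := by
      rw [← hn]
      have h1 := Subgroup.card_mul_index N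
      rw [Subgroup.index_eq_card] at h1
      have h2 : Nat.card N ≠ 1 := fun h => hbot (Subgroup.card_eq_one.mp h)
      have h3 : 0 < Nat.card (G ⧸ N) := Nat.card_pos
      have h4 : 0 < Nat.card N := Nat.card_pos
      have h5 : 2 ≤ Nat.card N := by omega
      have h6 : 2 * Nat.card (G ⧸ N) ≤ Nat.card N * Nat.card (G ⧸ N) := Nat.mul_le_mul_right _ h5
      omega
    have h1 : Group.IsSolvable ↥N := ih _ hc1 ↥N rfl (hyp_normal p hp N h)
    have h2 : Group.IsSolvable (G ⧸ N) := ih _ hc2 (G ⧸ N) rfl (hyp_quot p hp N h)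
    exact Group.isSolvable_of_ker_le_range N.subtype (QuotientGroup.mk' N) (by simp)


theorem mem_conj_smul_iff {G : Type u} [Group G] (g x : G) (H : Subgroup G) :
    x ∈ MulAut.conj g • H ↔ g⁻¹ * x * g ∈ H := by
  rw [Subgroup.mem_pointwise_smul_iff_inv_smul_mem]
  simp [MulAut.smul_def]

theorem exists_abelian_compl (p : ℕ) (hp : p.Prime) :
    ∀ (n : ℕ) (G : Type u) [Group G] [Finite G], Nat.card G = n → Hyp p G →
    ∃ H : Subgroup G, (∀ a ∈ H, ∀ b ∈ H, a * b = b * a) ∧ ¬ p ∣ Nat.card H ∧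
      ∃ k : ℕ, H.index = p ^ k := by
  intro n
  induction n using Nat.strong_induction_on with
  | _ n ih =>
  intro G _ _ hn h
  have hsolv : Group.IsSolvable G := solvable_of_hyp p hp _ G rfl h
  obtain ⟨a, ha⟩ : ∃ a, a = (Nat.card G).factorization p := ⟨_, rfl⟩
  have hcard : Nat.card G = (Nat.card G / p ^ a) * p ^ a := by
    rw [ha, mul_comm]; exact (Nat.ordProj_mul_ordCompl_eq_self _ p).symm
  have hcop : (Nat.card G / p ^ a).Coprime (p ^ a) := by
    rw [ha]
    exact (Nat.Coprime.pow_left _ (Nat.coprime_ordCompl hp Nat.card_pos.ne')).symm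
  obtain ⟨H, hH⟩ := Cfsg.Agent.helper23.hall_exists _ _ hcard hcop
  have hHp : ¬ p ∣ Nat.card H := by
    rw [hH, ha]; exact Nat.not_dvd_ordCompl hp Nat.card_pos.ne'
  have hHidx : H.index = p ^ a := by
    have h1 := Subgroup.card_mul_index H
    rw [hH] at h1
    have hpos : 0 < Nat.card G / p ^ a := by
      rcases Nat.eq_zero_or_pos (Nat.card G / p ^ a) with h0 | h0
      · rw [h0, zero_mul] at hcard; exact absurd hcard Nat.card_pos.ne'
      · exact h0
    exact Nat.eq_of_mul_eq_mul_left hpos (h1.trans hcard)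
  have hHcop : (Nat.card H).Coprime p := ((Nat.Prime.coprime_iff_not_dvd hp).2 hHp).symm
  refine ⟨H, ?_, hHp, a, hHidx⟩
  by_cases hN : ∃ N : Subgroup G, N.Normal ∧ IsPGroup p N ∧ N ≠ ⊥
  · obtain ⟨N, hNn, hNp, hNbot⟩ := hN
    have hc2 : Nat.card (G ⧸ N) < n := by
      rw [← hn]
      have h1 := Subgroup.card_mul_index N
      rw [Subgroup.index_eq_card] at h1
      have h2 : Nat.card N ≠ 1 := fun h => hNbot (Subgroup.card_eq_one.mp h)
      have h3 : 0 < Nat.card (G ⧸ N) := Nat.card_pos
      have h4 : 0 < Nat.card N := Nat.card_pos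
      have h5 : 2 ≤ Nat.card N := by omega
      have h6 : 2 * Nat.card (G ⧸ N) ≤ Nat.card N * Nat.card (G ⧸ N) :=
        Nat.mul_le_mul_right _ h5
      omega
    obtain ⟨Hb, hHbc, hHbp, k, hHbk⟩ := ih _ hc2 (G ⧸ N) rfl (hyp_quot p hp N h)
    have hsolvq : Group.IsSolvable (G ⧸ N) := inferInstance
    have hcardq : Nat.card (G ⧸ N) = Nat.card Hb * p ^ k := by
      rw [← hHbk]; exact (Subgroup.card_mul_index Hb).symm
    have hcopq : (Nat.card Hb).Coprime (p ^ k) :=
      Nat.Coprime.pow_right k ((Nat.Prime.coprime_iff_not_dvd hp).2 hHbp).symm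
    have hK : (Nat.card (H.map (QuotientGroup.mk' N))).Coprime (p ^ k) := by
      apply Nat.Coprime.pow_right
      exact Nat.Coprime.coprime_dvd_left (Subgroup.card_map_dvd _ _) hHcop
    obtain ⟨g, hg⟩ := Cfsg.Agent.helper23.hall_le_conj _ _ hcardq hcopq Hb
      (H.map (QuotientGroup.mk' N)) rfl hK
    intro x hx y hy
    have hx' : (x : G ⧸ N) ∈ MulAut.conj g • Hb := hg (Subgroup.mem_map_of_mem _ hx)
    have hy' : (y : G ⧸ N) ∈ MulAut.conj g • Hb := hg (Subgroup.mem_map_of_mem _ hy)
    rw [mem_conj_smul_iff] at hx' hy'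
    have hcomm := hHbc _ hx' _ hy'
    have hq : ((x * y : G) : G ⧸ N) = ((y * x : G) : G ⧸ N) := by
      rw [QuotientGroup.mk_mul, QuotientGroup.mk_mul]
      have : g⁻¹ * ((x : G ⧸ N) * y) * g = g⁻¹ * ((y : G ⧸ N) * x) * g := by
        calc g⁻¹ * ((x : G ⧸ N) * y) * g = (g⁻¹ * x * g) * (g⁻¹ * y * g) := by group
          _ = (g⁻¹ * y * g) * (g⁻¹ * x * g) := hcomm
          _ = g⁻¹ * ((y : G ⧸ N) * x) * g := by group
      exact mul_left_cancel (mul_right_cancel this)
    have hz : (x * y)⁻¹ * (y * x) ∈ N := QuotientGroup.eq.mp hq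
    have hzH : (x * y)⁻¹ * (y * x) ∈ H :=
      H.mul_mem (H.inv_mem (H.mul_mem hx hy)) (H.mul_mem hy hx)
    have hz1 : (x * y)⁻¹ * (y * x) = 1 := by
      have hpf : Fact p.Prime := ⟨hp⟩
      obtain ⟨j, hj⟩ := (IsPGroup.iff_orderOf.mp hNp) ⟨_, hz⟩
      rw [Subgroup.orderOf_mk] at hj
      have hdvd : orderOf ((x * y)⁻¹ * (y * x)) ∣ Nat.card H := by
        have := orderOf_dvd_natCard (⟨_, hzH⟩ : H)
        rwa [Subgroup.orderOf_mk] at this
      rw [hj] at hdvd
      rcases Nat.eq_zero_or_pos j with h0 | h0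
      · rw [h0, pow_zero] at hj; exact orderOf_eq_one_iff.mp hj
      · exact absurd ((dvd_pow_self p h0.ne').trans hdvd) hHp
    exact inv_mul_eq_one.mp hz1
  · push Not at hN
    obtain ⟨F, hF⟩ : ∃ F, F = Cfsg.fittingSubgroup G := ⟨_, rfl⟩
    have hFeq : F = Cfsg.Agent.helper7.fitOf (⊤ : Subgroup G) :=
      hF.trans Cfsg.Agent.helper7.fittingSubgroup_eq
    have hFn : F.Normal := by
      rw [hFeq]
      exact Subgroup.normalizer_eq_top_iff.mp
        (top_le_iff.mp (Cfsg.Agent.helper7.fitOf_normal ⊤))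
    have hFnil : Group.IsNilpotent ↥F := by
      rw [hFeq]; exact Cfsg.Agent.helper7.fitOf_nilpotent ⊤
    have hpF : ¬ p ∣ Nat.card F := by
      intro hdvd
      have hpf : Fact p.Prime := ⟨hp⟩
      obtain ⟨P⟩ : Nonempty (Sylow p ↥F) := inferInstance
      have htfae := (Group.isNilpotent_of_finite_tfae (G := ↥F)).out 0 3
      have hPn : (P : Subgroup ↥F).Normal := htfae.mp hFnil p hpf P
      have hPc : (P : Subgroup ↥F).Characteristic := Sylow.characteristic_of_normal P hPn
      have hmapn : ((P : Subgroup ↥F).map F.subtype).Normal :=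
        ConjAct.normal_of_characteristic_of_normal
      have hmapp : IsPGroup p ((P : Subgroup ↥F).map F.subtype) := P.isPGroup'.map _
      have hbot := hN _ hmapn hmapp
      have hPbot : (P : Subgroup ↥F) = ⊥ := by
        rw [Subgroup.map_eq_bot_iff_of_injective _ F.subtype_injective] at hbot
        exact hbot
      exact P.ne_bot_of_dvd_card hdvd hPbot
    have hFC : ∀ x ∈ H, F ≤ Subgroup.centralizer ({x} : Set G) := by
      intro x hx
      have hxo : (orderOf x).Coprime p := by
        have hdvd : orderOf x ∣ Nat.card H := by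
          have := orderOf_dvd_natCard (⟨x, hx⟩ : H)
          rwa [Subgroup.orderOf_mk] at this
        exact Nat.Coprime.coprime_dvd_left hdvd hHcop
      obtain ⟨k, hk⟩ := h x hxo
      have h1 : (Subgroup.centralizer ({x} : Set G)).relIndex F ∣ p ^ k :=
        hk ▸ relIndex_dvd_index_normal F _
      have h2 : (Subgroup.centralizer ({x} : Set G)).relIndex F ∣ Nat.card F :=
        Subgroup.relIndex_dvd_card _ _
      have h3 : (Subgroup.centralizer ({x} : Set G)).relIndex F = 1 := by
        have := Nat.dvd_gcd h1 h2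
        have hg : Nat.gcd (p ^ k) (Nat.card F) = 1 :=
          Nat.Coprime.pow_left k ((Nat.Prime.coprime_iff_not_dvd hp).2 hpF)
        rw [hg] at this
        exact Nat.dvd_one.mp this
      exact Subgroup.relIndex_eq_one.mp h3
    have hHF : H ≤ F := by
      have h1 : H ≤ Subgroup.centralizer (F : Set G) := by
        intro x hx
        rw [Subgroup.mem_centralizer_iff]
        intro f hf
        have := hFC x hx hf
        exact (Subgroup.mem_centralizer_iff.mp this x rfl).symm
      have h2 := Cfsg.Agent.S0044.result (G := G)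
      rw [← hF] at h2
      exact h1.trans h2
    intro x hx y hy
    have := hFC x hx (hHF hy)
    exact Subgroup.mem_centralizer_iff.mp this x rfl

/-- Let G be a finite group and p a prime. Every conjugacy class of p-regular elements of G (elements of order prime to p) has p-power size if and only if G has an abelian p-complement, i.e. an abelian subgroup of order prime to p and p-power index. -/
theorem result {G : Type*} [Group G] [Finite G] {p : ℕ} (hp : p.Prime) :
    (∀ x : G, (orderOf x).Coprime p → ∃ k : ℕ, (ConjClasses.mk x).carrier.ncard = p ^ k) ↔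
    (∃ H : Subgroup G, IsMulCommutative H ∧ ¬ p ∣ Nat.card H ∧ ∃ k : ℕ, H.index = p ^ k) := by
  constructor
  · intro h
    have hyp : Hyp p G := by
      intro x hx
      obtain ⟨k, hk⟩ := h x hx
      rw [Cfsg.Agent.helper20.ncard_carrier_eq_index] at hk
      exact ⟨k, hk⟩
    obtain ⟨H, hc, hpH, k, hk⟩ := exists_abelian_compl p hp _ G rfl hyp
    exact ⟨H, ⟨⟨fun a b => Subtype.ext (hc a a.2 b b.2)⟩⟩, hpH, k, hk⟩
  · rintro ⟨H, hc, hpH, k, hk⟩ x hx
    have hHcop : (Nat.card H).Coprime p := ((Nat.Prime.coprime_iff_not_dvd hp).2 hpH).symm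
    have hnil : Group.IsNilpotent ↥H := by
      let _ : CommGroup ↥H :=
        { (inferInstance : Group ↥H) with mul_comm := fun a b => hc.is_comm.comm a b }
      infer_instance
    have hHall : (Nat.card H).Coprime H.index := by
      rw [hk]; exact Nat.Coprime.pow_right k hHcop
    have hK : ∀ q : ℕ, q.Prime → q ∣ Nat.card (Subgroup.zpowers x) → q ∣ Nat.card H := by
      intro q hq hqd
      rw [Nat.card_zpowers] at hqd
      have hqG : q ∣ Nat.card G := hqd.trans (orderOf_dvd_natCard x)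
      rw [← Subgroup.card_mul_index H, hk] at hqG
      rcases (Nat.Prime.dvd_mul hq).mp hqG with h1 | h1
      · exact h1
      · exfalso
        have hqp : q = p := (Nat.prime_dvd_prime_iff_eq hq hp).mp (hq.dvd_of_dvd_pow h1)
        rw [hqp] at hqd
        have := Nat.dvd_gcd hqd (dvd_refl p)
        rw [Nat.Coprime.gcd_eq_one hx] at this
        exact hp.one_lt.ne' (Nat.dvd_one.mp this)
    obtain ⟨g, hg⟩ := Cfsg.Agent.helper23.wielandt H (Subgroup.zpowers x) hnil hHall hK
    have hxg : g⁻¹ * x * g ∈ H := by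
      rw [← mem_conj_smul_iff]
      exact hg (Subgroup.mem_zpowers x)
    have hle : H ≤ Subgroup.centralizer ({g⁻¹ * x * g} : Set G) := by
      intro y hy
      rw [Subgroup.mem_centralizer_iff]
      intro z hz
      rw [Set.mem_singleton_iff] at hz
      subst hz
      have := hc.is_comm.comm (⟨g⁻¹ * x * g, hxg⟩ : H) ⟨y, hy⟩
      exact congrArg Subtype.val this
    have hcl : ConjClasses.mk x = ConjClasses.mk (g⁻¹ * x * g) := by
      rw [ConjClasses.mk_eq_mk_iff_isConj, isConj_iff]
      exact ⟨g⁻¹, by simp⟩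
    rw [hcl, Cfsg.Agent.helper20.ncard_carrier_eq_index]
    have hd : (Subgroup.centralizer ({g⁻¹ * x * g} : Set G)).index ∣ p ^ k := by
      rw [← hk]; exact Subgroup.index_dvd_of_le hle
    obtain ⟨j, _, hj⟩ := (Nat.dvd_prime_pow hp).1 hd
    exact ⟨j, hj⟩

end Cfsg.Agent.S4034
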