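import Mathlib
import Cfsg.Statements.S4036

set_option autoImplicit false
open Cfsg

namespace Cfsg.Agent.S4036

/-- Let P be a finite abelian p-group and K a group of automorphisms of P (a subgroup of Aut P) whose order is divisible by p. If all non-identity elements of K have the same fixed-point subgroup on P, then K has no non-trivial normal subgroup of order prime to p. -/
theorem result {P : Type*} [CommGroup P] [Finite P] {p : ℕ}
    [Fact p.Prime] (hP : IsPGroup p P) (K : Subgroup (MulAut P)) (hK : p ∣ Nat.card K)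
    (hfix : ∀ x y : MulAut P, x ∈ K → y ∈ K → x ≠ 1 → y ≠ 1 → ∀ v : P, x v = v ↔ y v = v) :
    ∀ N : Subgroup ↥K, N.Normal → ¬ p ∣ Nat.card N → N = ⊥ := by
  classical
  intro N hNn hNp
  by_contra hNbot
  have hp : p.Prime := Fact.out
  have : Fintype ↥N := Fintype.ofFinite ↥N
  obtain ⟨n0, hn0⟩ : ∃ n0 : ↥N, n0 ≠ 1 := by
    by_contra h
    push Not at h
    apply hNbot
    rw [eq_bot_iff]
    intro g hg
    have := h ⟨g, hg⟩
    rw [Subgroup.mem_bot]
    exact congrArg Subtype.val this
  have hn0' : ((n0 : ↥K) : MulAut P) ≠ 1 := by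
    intro h
    apply hn0
    apply Subtype.ext
    apply Subtype.ext
    exact h
  obtain ⟨x, hx⟩ := exists_prime_orderOf_dvd_card' (G := ↥K) p hK
  have hx1 : (x : MulAut P) ≠ 1 := by
    intro h
    have : x = 1 := Subtype.ext h
    rw [this, orderOf_one] at hx
    exact hp.one_lt.ne hx
  let θ : P →* P := ∏ n : ↥N, ((n : ↥K) : MulAut P).toMonoidHom
  have hθ : ∀ v, θ v = ∏ n : ↥N, ((n : ↥K) : MulAut P) v := by
    intro v
    simp only [θ, MonoidHom.finsetProd_apply]
    rfl
  -- equivariance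
  have hequi : ∀ (k : ↥K) (v : P), θ ((k : MulAut P) v) = (k : MulAut P) (θ v) := by
    intro k v
    rw [hθ, hθ, map_prod]
    rw [← Equiv.prod_comp (MulAut.conjNormal k : ↥N ≃* ↥N).toEquiv]
    apply Finset.prod_congr rfl
    intro n _
    have h1 : (((MulAut.conjNormal k : ↥N ≃* ↥N) n : ↥N) : ↥K) = k * (n : ↥K) * k⁻¹ :=
      MulAut.conjNormal_apply k n
    show ((((MulAut.conjNormal k : ↥N ≃* ↥N) n : ↥N) : ↥K) : MulAut P) ((k : MulAut P) v) = _
    rw [h1]
    simp only [Subgroup.coe_mul, Subgroup.coe_inv, MulAut.mul_apply, MulAut.inv_apply,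
      MulEquiv.symm_apply_apply]
  -- image of theta is fixed by N
  have hfixed : ∀ (m : ↥N) (v : P), ((m : ↥K) : MulAut P) (θ v) = θ v := by
    intro m v
    rw [hθ, map_prod]
    rw [← Equiv.prod_comp (Equiv.mulLeft m) (fun n : ↥N => ((n : ↥K) : MulAut P) v)]
    apply Finset.prod_congr rfl
    intro n _
    simp only [Equiv.coe_mulLeft, Subgroup.coe_mul, MulAut.mul_apply]
  -- W = ker θ meets the fixed points trivially
  have hWF : ∀ v : P, θ v = 1 → ((n0 : ↥K) : MulAut P) v = v → v = 1 := by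
    intro v hv hfv
    have hall : ∀ n : ↥N, ((n : ↥K) : MulAut P) v = v := by
      intro n
      by_cases hn : ((n : ↥K) : MulAut P) = 1
      · rw [hn]; rfl
      · exact (hfix _ _ (n : ↥K).2 (n0 : ↥K).2 hn hn0' v).mpr hfv
    rw [hθ] at hv
    simp only [hall, Finset.prod_const, Finset.card_univ] at hv
    obtain ⟨k, hk⟩ := (IsPGroup.iff_orderOf.mp hP) v
    have hdvd : orderOf v ∣ Fintype.card ↥N := orderOf_dvd_of_pow_eq_one hv
    rw [← Nat.card_eq_fintype_card] at hdvd
    rw [hk] at hdvd
    have hk0 : k = 0 := by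
      by_contra hk0
      exact hNp ((dvd_pow_self p hk0).trans hdvd)
    rw [hk0, pow_zero, orderOf_eq_one_iff] at hk
    exact hk
  -- W is nontrivial
  have hWne : ∃ w : P, θ w = 1 ∧ w ≠ 1 := by
    by_contra h
    push Not at h
    have hinj : Function.Injective θ := by
      rw [injective_iff_map_eq_one]
      exact h
    have hsurj : Function.Surjective θ := Finite.surjective_of_injective hinj
    apply hn0'
    ext v
    obtain ⟨u, rfl⟩ := hsurj v
    rw [hfixed n0 u]
    rfl
  -- the action of ⟨x⟩ on W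
  let X : Subgroup (MulAut P) := Subgroup.zpowers (x : MulAut P)
  have hXK : X ≤ K := by
    rw [Subgroup.zpowers_le]; exact x.2
  let Wsub : SubMulAction ↥X P :=
    { carrier := {v | θ v = 1}
      smul_mem' := by
        intro c v hv
        have hcK : (c : MulAut P) ∈ K := hXK c.2
        have := hequi ⟨(c : MulAut P), hcK⟩ v
        show θ ((c : MulAut P) v) = 1
        rw [this, show θ v = 1 from hv, map_one] }
  have hXp : IsPGroup p ↥X := by
    apply IsPGroup.of_card (n := 1)
    rw [Nat.card_zpowers, pow_one, Subgroup.orderOf_coe, hx]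
  -- card of W
  have hWcard : p ∣ Nat.card ↥Wsub := by
    let Wg : Subgroup P := θ.ker
    have hcard : Nat.card ↥Wsub = Nat.card ↥Wg := by
      apply Nat.card_congr
      exact Equiv.subtypeEquivRight (fun v => by
        show θ v = 1 ↔ v ∈ θ.ker
        rw [MonoidHom.mem_ker])
    rw [hcard]
    obtain ⟨k, hk⟩ := IsPGroup.iff_card.mp (hP.to_subgroup Wg)
    rw [hk]
    have hk0 : k ≠ 0 := by
      rintro rfl
      rw [pow_zero] at hk
      obtain ⟨w, hw, hw1⟩ := hWne
      have hsub : Subsingleton ↥Wg := (Nat.card_eq_one_iff_unique.mp hk).1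
      have := Subsingleton.elim (⟨w, MonoidHom.mem_ker.mpr hw⟩ : ↥Wg) 1
      exact hw1 (congrArg Subtype.val this)
    exact dvd_pow_self p hk0
  have h1fix : (⟨1, by show θ 1 = 1; exact map_one θ⟩ : ↥Wsub) ∈ MulAction.fixedPoints ↥X ↥Wsub := by
    intro c
    apply Subtype.ext
    show (c : MulAut P) 1 = 1
    exact map_one _
  obtain ⟨b, hb, hb1⟩ := hXp.exists_fixed_point_of_prime_dvd_card_of_fixed_point ↥Wsub hWcard h1fix
  apply hb1
  apply Subtype.ext
  show (1 : P) = (b : P)
  have hbW : θ (b : P) = 1 := b.2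
  have hxb : (x : MulAut P) (b : P) = (b : P) := by
    have := hb ⟨(x : MulAut P), Subgroup.mem_zpowers _⟩
    exact congrArg Subtype.val this
  have hn0b : ((n0 : ↥K) : MulAut P) (b : P) = (b : P) :=
    (hfix _ _ x.2 (n0 : ↥K).2 hx1 hn0' (b : P)).mp hxb
  exact (hWF (b : P) hbW hn0b).symm

end Cfsg.Agent.S4036
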