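import Mathlib
import Cfsg.Statements.S4043
import Cfsg.Agent.Lib_lead_Coprime
import Cfsg.Agent.Lib_helper7_ExtLayer
import Cfsg.Agent.S0636

set_option autoImplicit false
open Cfsg

namespace Cfsg.Agent.S4043

open Cfsg.Agent.helper7 Cfsg.Agent.lead

/-- data extracted from a normal `p`-complement of a subgroup -/
theorem complement_data {G : Type*} [Group G] [Finite G] {p : ℕ} [hp : Fact p.Prime]
    (A : Subgroup G) (hAp : Cfsg.HasNormalPComplement p A) :
    ∃ K Q : Subgroup G, K ≤ A ∧ Q ≤ A ∧ IsPGroup p Q ∧ ¬ p ∣ Nat.card K ∧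
      (∀ a ∈ A, cj a K = K) ∧ (∀ a ∈ A, ∃ k ∈ K, ∃ q ∈ Q, a = k * q) ∧
      Nat.card K * p ^ (Nat.card A).factorization p = Nat.card A ∧
      K.index = p ^ (Nat.card A).factorization p * A.index := by
  obtain ⟨P, K, hKn, hKc⟩ := hAp
  have hKA : K.map A.subtype ≤ A := by
    rintro _ ⟨k, _, rfl⟩
    exact k.2
  have hcardK : Nat.card (K.map A.subtype) = Nat.card K :=
    Subgroup.card_map_of_injective A.subtype_injective
  refine ⟨K.map A.subtype, (P : Subgroup ↥A).map A.subtype, hKA, ?_, P.2.map _, ?_, ?_, ?_, ?_, ?_⟩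
  · rintro _ ⟨k, _, rfl⟩
    exact k.2
  · rw [hcardK, ← hKc.index_eq_card]
    exact P.not_dvd_index
  · intro a ha
    apply Subgroup.eq_of_le_of_card_ge
    · intro x hx
      rw [mem_cj] at hx
      obtain ⟨k, hk, hkx⟩ := hx
      have h1 := hKn.conj_mem k hk ⟨a, ha⟩
      refine ⟨⟨a, ha⟩ * k * ⟨a, ha⟩⁻¹, h1, ?_⟩
      have h2 : (A.subtype k : G) = a⁻¹ * x * a := hkx
      simp only [Subgroup.coe_subtype, Subgroup.coe_mul, Subgroup.coe_inv] at h2 ⊢
      rw [h2]; group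
    · rw [card_cj]
  · intro a ha
    obtain ⟨⟨k, q⟩, hkq⟩ := hKc.2 ⟨a, ha⟩
    refine ⟨(k : ↥A), ⟨k, k.2, rfl⟩, (q : ↥A), ⟨q, q.2, rfl⟩, ?_⟩
    have h1 := congrArg (fun z : ↥A => (z : G)) hkq
    simpa using h1.symm
  · rw [hcardK, ← P.card_eq_multiplicity]
    exact hKc.card_mul_card
  · rw [Subgroup.index_map_subtype, hKc.symm.index_eq_card, P.card_eq_multiplicity]

/-- Let G be a finite group that is the semidirect product of a normal p-subgroup N by a subgroup A, and also of N by a subgroup A₁, where p is a prime and A and A₁ both have normal p-complements. If C_N(A) = C_N(A₁) = 1, then A₁ is conjugate to A by an element of N. -/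
theorem result {G : Type*} [Group G] [Finite G] {p : ℕ}
    [Fact p.Prime] (N : Subgroup G) [N.Normal] (hN : IsPGroup p N) (A A₁ : Subgroup G)
    (hA : A.IsComplement' N) (hA₁ : A₁.IsComplement' N)
    (hAp : Cfsg.HasNormalPComplement p A) (hA₁p : Cfsg.HasNormalPComplement p A₁)
    (hC : ∀ n : G, n ∈ N → (∀ a : G, a ∈ A → a * n * a⁻¹ = n) → n = 1)
    (hC₁ : ∀ n : G, n ∈ N → (∀ a : G, a ∈ A₁ → a * n * a⁻¹ = n) → n = 1) :
    ∃ n : G, n ∈ N ∧ A₁ = A.map (MulAut.conj n).toMonoidHom := by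
  have hp : p.Prime := Fact.out
  obtain ⟨K, Q, hKA, hQA, hQp, hKcard, hKnorm, hKQ, hKc1, hKidx⟩ := complement_data A hAp
  obtain ⟨K₁, Q₁, hK₁A, _, _, hK₁card, hK₁norm, _, hK₁c1, _⟩ := complement_data A₁ hA₁p
  have hcardA : Nat.card A = Nat.card A₁ := by
    have h1 := hA.card_mul_card
    have h2 := hA₁.card_mul_card
    exact Nat.eq_of_mul_eq_mul_right Nat.card_pos (h1.trans h2.symm)
  have hcardK : Nat.card K₁ = Nat.card K := by
    rw [← hcardA] at hK₁c1
    exact Nat.eq_of_mul_eq_mul_right (pow_pos hp.pos _) (hK₁c1.trans hKc1.symm)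
  have hAN : A ⊓ N = ⊥ := disjoint_iff.mp hA.disjoint
  -- `M = N ⊔ K` is normal
  obtain ⟨M, hM⟩ : ∃ M : Subgroup G, M = N ⊔ K := ⟨_, rfl⟩
  have hNM : N ≤ M := hM ▸ le_sup_left
  have hKM : K ≤ M := hM ▸ le_sup_right
  haveI hMn : M.Normal := by
    rw [← Subgroup.normalizer_eq_top_iff, eq_top_iff]
    intro g _
    obtain ⟨⟨a, n⟩, han⟩ := hA.2 g
    have han' : (a : G) * (n : G) = g := han
    rw [← han']
    apply Subgroup.mul_mem
    · apply mem_normalizer_of_cj_eq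
      rw [hM]
      show (N ⊔ K).map _ = N ⊔ K
      rw [Subgroup.map_sup]
      have e1 : N.map (MulAut.conj (a : G)).toMonoidHom = N := cj_eq_of_normal (a : G)
      have e2 : K.map (MulAut.conj (a : G)).toMonoidHom = K := hKnorm (a : G) a.2
      rw [e1, e2]
    · exact Subgroup.le_normalizer (hNM n.2)
  -- the index of `M` is a power of `p`
  have hMidx : M.index ∣ p ^ (Nat.card A).factorization p * A.index := by
    rw [← hKidx]; exact Subgroup.index_dvd_of_le hKM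
  have hAidx : A.index = Nat.card N := hA.symm.index_eq_card
  obtain ⟨j, hj⟩ := hN.exists_card_eq
  rw [hAidx, hj, ← pow_add] at hMidx
  obtain ⟨s, _, hs⟩ := (Nat.dvd_prime_pow hp).mp hMidx
  have hK₁M : K₁ ≤ M := by
    rw [← Subgroup.relIndex_eq_one]
    have h1 : M.relIndex K₁ ∣ M.index := Subgroup.relIndex_dvd_index_of_normal M K₁
    have h2 : M.relIndex K₁ ∣ Nat.card K₁ := Subgroup.relIndex_dvd_card M K₁
    rw [hs] at h1
    have h3 : Nat.Coprime (Nat.card K₁) (p ^ s) :=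
      Nat.Coprime.pow_right s ((Nat.Prime.coprime_iff_not_dvd hp).mpr hK₁card).symm
    exact Nat.eq_one_of_dvd_coprimes h3 h2 h1
  have hcop : (Nat.card K).Coprime (Nat.card N) := by
    rw [hj]
    exact Nat.Coprime.pow_right j ((Nat.Prime.coprime_iff_not_dvd hp).mpr hKcard).symm
  haveI : Group.IsNilpotent ↥N := hN.isNilpotent
  obtain ⟨d, hdN, hd⟩ := sz_conj_semidirect K N
    (by rw [Subgroup.normalizer_eq_top]; exact le_top) hcop (Or.inr inferInstance) K₁
    (hM ▸ hK₁M) hcardK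
  -- the conjugate `A₃ = d A₁ d⁻¹`
  obtain ⟨L, hL⟩ : ∃ L : Subgroup G, L = Subgroup.normalizer (K : Set G) := ⟨_, rfl⟩
  have hAL : A ≤ L := by
    intro a ha
    rw [hL]
    exact mem_normalizer_of_cj_eq (hKnorm a ha)
  have hA₃L : cj d A₁ ≤ L := by
    intro x hx
    rw [mem_cj] at hx
    rw [hL]
    apply mem_normalizer_of_cj_eq
    have h1 : x = d * (d⁻¹ * x * d) * d⁻¹ := by group
    rw [h1, ← hd, cj_cj]
    have h2 : d * (d⁻¹ * x * d) * d⁻¹ * d = d * (d⁻¹ * x * d) := by group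
    rw [h2, ← cj_cj, hK₁norm _ hx]
  -- `L ⊓ N` centralizes `K`
  have hLNcent : ∀ x ∈ L ⊓ N, ∀ k ∈ K, x * k = k * x := by
    intro x hx k hk
    have hxL : x ∈ Subgroup.normalizer (K : Set G) := hL ▸ (Subgroup.mem_inf.mp hx).1
    have hxN := (Subgroup.mem_inf.mp hx).2
    have h1 : x * k * x⁻¹ ∈ K := (Subgroup.mem_normalizer_iff.mp hxL k).mp hk
    have h2 : x * k * x⁻¹ * k⁻¹ ∈ A := hKA (K.mul_mem h1 (K.inv_mem hk))
    have h3 : x * k * x⁻¹ * k⁻¹ ∈ N := by
      have h4 : k * x⁻¹ * k⁻¹ ∈ N := (inferInstance : N.Normal).conj_mem _ (N.inv_mem hxN) k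
      have h5 := N.mul_mem hxN h4
      have h6 : x * k * x⁻¹ * k⁻¹ = x * (k * x⁻¹ * k⁻¹) := by group
      rw [h6]; exact h5
    have h7 : x * k * x⁻¹ * k⁻¹ ∈ A ⊓ N := Subgroup.mem_inf.mpr ⟨h2, h3⟩
    rw [hAN, Subgroup.mem_bot] at h7
    calc x * k = (x * k * x⁻¹ * k⁻¹) * (k * x) := by group
      _ = k * x := by rw [h7, one_mul]
  -- `L ⊓ N` is trivial
  have hLN : L ⊓ N = ⊥ := by
    by_contra hne
    have hQnorm : Q ≤ Subgroup.normalizer ((L ⊓ N : Subgroup G) : Set G) := by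
      intro q hq
      have hqL : q ∈ L := hAL (hQA hq)
      apply mem_normalizer_of_cj_eq
      show (L ⊓ N).map _ = L ⊓ N
      have e1 : cj q L = L := cj_eq_of_mem_normalizer (Subgroup.le_normalizer hqL)
      have e2 : cj q N = N := cj_eq_of_normal q
      have := cj_inf q L N
      rw [e1, e2] at this
      exact this
    have hLNp : IsPGroup p ↥(L ⊓ N) := hN.to_le inf_le_right
    have hUp : IsPGroup p ↥(Q ⊔ (L ⊓ N)) := IsPGroup.to_sup_of_normal_right' hQp hLNp hQnorm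
    obtain ⟨U, hU⟩ : ∃ U : Subgroup G, U = Q ⊔ (L ⊓ N) := ⟨_, rfl⟩
    rw [← hU] at hUp
    have hLNU : L ⊓ N ≤ U := hU ▸ le_sup_right
    have hQU : Q ≤ U := hU ▸ le_sup_left
    haveI : ((L ⊓ N).subgroupOf U).Normal := by
      rw [Subgroup.normal_subgroupOf_iff_le_normalizer hLNU, hU]
      exact sup_le hQnorm Subgroup.le_normalizer
    have hVne : (L ⊓ N).subgroupOf U ≠ ⊥ := by
      intro h
      apply hne
      rw [eq_bot_iff]
      intro x hx
      have : (⟨x, hLNU hx⟩ : ↥U) ∈ (L ⊓ N).subgroupOf U := Subgroup.mem_subgroupOf.mpr hx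
      rw [h, Subgroup.mem_bot] at this
      rw [Subgroup.mem_bot]
      exact congrArg Subtype.val this
    obtain ⟨b, hbV, hbo, hbc⟩ := Cfsg.Agent.S0636.exists_central hUp ((L ⊓ N).subgroupOf U) hVne
    have hbLN : (b : G) ∈ L ⊓ N := Subgroup.mem_subgroupOf.mp hbV
    have hb1 : (b : G) ≠ 1 := by
      intro h
      have : b = 1 := Subtype.ext h
      rw [this, orderOf_one] at hbo
      exact hp.one_lt.ne hbo
    apply hb1
    apply hC _ (Subgroup.mem_inf.mp hbLN).2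
    intro a ha
    obtain ⟨k, hk, q, hq, rfl⟩ := hKQ a ha
    have h1 : (b : G) * k = k * (b : G) := hLNcent _ hbLN k hk
    have h2 : q * (b : G) = (b : G) * q := by
      have := hbc ⟨q, hQU hq⟩
      exact congrArg Subtype.val this
    calc k * q * (b : G) * (k * q)⁻¹ = k * (q * (b : G)) * q⁻¹ * k⁻¹ := by group
      _ = k * ((b : G) * q) * q⁻¹ * k⁻¹ := by rw [h2]
      _ = (k * (b : G)) * k⁻¹ := by group
      _ = ((b : G) * k) * k⁻¹ := by rw [h1]
      _ = (b : G) := by group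
  -- `L = A`
  have hLA : L ≤ A := by
    intro l hl
    obtain ⟨⟨a, n⟩, han⟩ := hA.2 l
    have han' : (a : G) * (n : G) = l := han
    have h1 : (n : G) ∈ L ⊓ N := by
      refine Subgroup.mem_inf.mpr ⟨?_, n.2⟩
      have : (n : G) = (a : G)⁻¹ * l := by rw [← han']; group
      rw [this]
      exact L.mul_mem (L.inv_mem (hAL a.2)) hl
    rw [hLN, Subgroup.mem_bot] at h1
    rw [← han', h1, mul_one]
    exact a.2
  have hA₃ : cj d A₁ = A :=
    Subgroup.eq_of_le_of_card_ge (hA₃L.trans hLA) (by rw [card_cj, hcardA])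
  refine ⟨d⁻¹, N.inv_mem hdN, ?_⟩
  show A₁ = cj d⁻¹ A
  rw [← hA₃, cj_inv_cj]

end Cfsg.Agent.S4043
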