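import Mathlib
import Cfsg.Statements.S4049
import Cfsg.Agent.Lib_helper21_RealOdd

set_option autoImplicit false
open Cfsg

namespace Cfsg.Agent.S4049

/-- If N_G(H)/C_G(H) has odd order for every nontrivial subgroup H of odd order, then G has a normal Sylow 2-subgroup. -/
theorem result {G : Type*} [Group G] [Finite G]
    (hhom : ∀ H : Subgroup G, H ≠ ⊥ → ¬ 2 ∣ Nat.card ↥H →
        ¬ 2 ∣ (Subgroup.centralizer (H : Set G)).relIndex (Subgroup.normalizer (H : Set G))) (P : Sylow 2 G) :
    (P : Subgroup G).Normal := by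
  refine Cfsg.Agent.helper19.sylow_two_normal_of_no_real_odd (Nat.card G) G rfl ?_ P
  intro x hx1 hodd hconj
  obtain ⟨c, hc⟩ := isConj_iff.mp hconj
  have hN := Cfsg.Agent.helper21.mem_normalizer_zpowers_of_inverts hc
  set H : Subgroup G := Subgroup.zpowers x with hH
  have hHne : H ≠ ⊥ := by
    intro h
    rw [hH, Subgroup.zpowers_eq_bot] at h
    exact hx1 h
  have hcard : ¬ 2 ∣ Nat.card ↥H := by
    rw [hH, Nat.card_zpowers]
    intro h2
    exact (Nat.not_even_iff_odd.mpr hodd) (even_iff_two_dvd.mpr h2)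
  apply hhom H hHne hcard
  -- the element c of N(H) has order 2 modulo C(H)
  have hcentx : Subgroup.centralizer (H : Set G) = Subgroup.centralizer {x} := by
    rw [hH, Subgroup.zpowers_eq_closure, Subgroup.centralizer_closure]
  have hcnot : c ∉ Subgroup.centralizer (H : Set G) := by
    rw [hcentx, Subgroup.mem_centralizer_singleton_iff]
    intro hC
    have hxx : x = x⁻¹ := by
      rw [← hc, hC]; group
    exact hx1 (Cfsg.Agent.helper21.eq_one_of_odd_of_eq_inv hodd hxx)
  have hc2 : c ^ 2 ∈ Subgroup.centralizer (H : Set G) := by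
    rw [hcentx, Subgroup.mem_centralizer_singleton_iff]
    have h1 : c * x = x⁻¹ * c := by
      rw [← hc]; group
    have h2 : c * x⁻¹ = x * c := by
      have : c * x⁻¹ * c⁻¹ = x := by
        have : c * x⁻¹ * c⁻¹ = (c * x * c⁻¹)⁻¹ := by group
        rw [this, hc, inv_inv]
      calc c * x⁻¹ = (c * x⁻¹ * c⁻¹) * c := by group
        _ = x * c := by rw [this]
    symm
    calc x * c ^ 2 = (x * c) * c := by rw [pow_two, mul_assoc]
      _ = (c * x⁻¹) * c := by rw [h2]
      _ = c * (x⁻¹ * c) := by rw [mul_assoc]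
      _ = c * (c * x) := by rw [h1]
      _ = c ^ 2 * x := by rw [pow_two, mul_assoc]
  set N : Subgroup G := Subgroup.normalizer (H : Set G) with hNdef
  set C : Subgroup N := (Subgroup.centralizer (H : Set G)).subgroupOf N with hCdef
  have : C.Normal := Subgroup.normal_subgroupOf_centralizer_normalizer _
  have hrel : (Subgroup.centralizer (H : Set G)).relIndex N = Nat.card (N ⧸ C) := by
    rw [Subgroup.relIndex, Subgroup.index_eq_card]
  rw [hrel]
  set cb : N ⧸ C := QuotientGroup.mk' C ⟨c, hN⟩ with hcb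
  have hcb2 : cb ^ 2 = 1 := by
    rw [hcb, ← map_pow, QuotientGroup.mk'_apply, QuotientGroup.eq_one_iff]
    rw [hCdef, Subgroup.mem_subgroupOf]
    simpa using hc2
  have hcb1 : cb ≠ 1 := by
    rw [hcb, QuotientGroup.mk'_apply, Ne, QuotientGroup.eq_one_iff]
    rw [hCdef, Subgroup.mem_subgroupOf]
    simpa using hcnot
  have hord : orderOf cb = 2 := orderOf_eq_prime hcb2 hcb1
  rw [← hord]
  exact orderOf_dvd_natCard cb

end Cfsg.Agent.S4049
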