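import Mathlib
import Cfsg.Statements.S4051
import Cfsg.Agent.Lib_helper20_PiElts

set_option autoImplicit false
open Cfsg

namespace Cfsg.Agent.S4051

open Cfsg.Agent.helper20

/-- the relative-index form of homogeneity implies the elementwise form -/
theorem hom4_of_relIndex {G : Type*} [Group G] [Finite G] (π : Set ℕ)
    (hhom : ∀ H : Subgroup G, H ≠ ⊥ → (∀ p : ℕ, p.Prime → p ∣ Nat.card ↥H → p ∉ π) →
        ∀ p : ℕ, p.Prime → p ∣ (Subgroup.centralizer (H : Set G)).relIndex (Subgroup.normalizer (H : Set G)) → p ∉ π) :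
    Hom4 π G := by
  intro Q hQ hQπ n hn
  refine ⟨(Subgroup.centralizer (Q : Set G)).relIndex (Subgroup.normalizer (Q : Set G)),
    hhom Q hQ hQπ, ?_⟩
  have hnorm : ((Subgroup.centralizer (Q : Set G)).subgroupOf (Subgroup.normalizer (Q : Set G))).Normal := by
    constructor
    intro c hc g
    rw [Subgroup.mem_subgroupOf, Subgroup.mem_centralizer_iff] at hc ⊢
    intro u hu
    have hg := g.2
    rw [Subgroup.mem_normalizer_iff] at hg
    have hu' : (g : G)⁻¹ * u * (g : G) ∈ Q := by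
      have := (hg ((g : G)⁻¹ * u * (g : G)))
      rw [this]
      have e : (g : G) * ((g : G)⁻¹ * u * (g : G)) * (g : G)⁻¹ = u := by group
      rw [e]; exact hu
    have h1 := hc _ hu'
    simp only [Subgroup.coe_mul, Subgroup.coe_inv]
    calc u * ((g : G) * (c : G) * (g : G)⁻¹) = (g : G) * (((g : G)⁻¹ * u * (g : G)) * (c : G)) * (g : G)⁻¹ := by group
      _ = (g : G) * ((c : G) * ((g : G)⁻¹ * u * (g : G))) * (g : G)⁻¹ := by rw [h1]
      _ = (g : G) * (c : G) * (g : G)⁻¹ * u := by group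
  have := Subgroup.pow_index_mem ((Subgroup.centralizer (Q : Set G)).subgroupOf (Subgroup.normalizer (Q : Set G)))
    (⟨n, hn⟩ : ↥(Subgroup.normalizer (Q : Set G)))
  rw [Subgroup.mem_subgroupOf] at this
  exact this

theorem result {G : Type*} [Group G] [Finite G] (π : Set ℕ)
    (_hπ : ∀ p ∈ π, p.Prime) (hhom : (∀ H : Subgroup G, H ≠ ⊥ → (∀ p : ℕ, p.Prime → p ∣ Nat.card ↥H → p ∉ π) →
        ∀ p : ℕ, p.Prime → p ∣ (Subgroup.centralizer (H : Set G)).relIndex (Subgroup.normalizer (H : Set G)) → p ∉ π))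
    (K : Subgroup G) [K.Normal]
    (hK : ∃ L : Subgroup ↥K, ∀ x : ↥K, x ∈ L ↔ ∀ p : ℕ, p.Prime → p ∣ orderOf x → p ∈ π)
    (hQ : ∃ L : Subgroup (G ⧸ K), ∀ x : G ⧸ K, x ∈ L ↔ ∀ p : ℕ, p.Prime → p ∣ orderOf x → p ∈ π) :
    (∃ K : Subgroup G, ∀ x : G, x ∈ K ↔ ∀ p : ℕ, p.Prime → p ∣ orderOf x → p ∈ π) :=
  pi_elements_subgroup (hom4_of_relIndex π hhom) K hK hQ

end Cfsg.Agent.S4051
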