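import Mathlib
import Cfsg.Statements.S4050
import Cfsg.Agent.S4051

set_option autoImplicit false
open Cfsg

namespace Cfsg.Agent.S4050

open Cfsg.Agent.helper20

theorem hom4_subgroup {G : Type*} [Group G] (π : Set ℕ) (hhom : Hom4 π G) (B : Subgroup G) :
    Hom4 π ↥B := by
  intro Q' hQ' hQ'π n hn
  have hQne : Q'.map B.subtype ≠ ⊥ := by
    intro h
    apply hQ'
    rw [eq_bot_iff]
    intro y hy
    have : (y : G) ∈ Q'.map B.subtype := ⟨y, hy, rfl⟩
    rw [h, Subgroup.mem_bot] at this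
    rw [Subgroup.mem_bot]
    exact Subtype.ext this
  have hcard : Nat.card (Q'.map B.subtype) = Nat.card Q' :=
    Subgroup.card_map_of_injective B.subtype_injective
  have hnn : (n : G) ∈ Subgroup.normalizer ((Q'.map B.subtype : Subgroup G) : Set G) :=
    Subgroup.le_normalizer_map B.subtype ⟨n, hn, rfl⟩
  obtain ⟨e, he, hec⟩ := hhom _ hQne (by rw [hcard]; exact hQ'π) _ hnn
  refine ⟨e, he, ?_⟩
  rw [Subgroup.mem_centralizer_iff] at hec ⊢
  intro y hy
  apply Subtype.ext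
  have := hec (y : G) ⟨y, hy, rfl⟩
  simpa using this

theorem step {G : Type*} [Group G] [Finite G] (π : Set ℕ) (hhom : Hom4 π G) (A B : Subgroup G)
    (hAB : A ≤ B) [hAn : A.Normal]
    (hfac : (∀ q : ℕ, q.Prime → q ∣ A.relIndex B → q ∈ π) ∨
      (∀ q : ℕ, q.Prime → q ∣ A.relIndex B → q ∉ π))
    (hA : ∃ L : Subgroup ↥A, ∀ x : ↥A, x ∈ L ↔ IsPi π x) :
    ∃ L : Subgroup ↥B, ∀ x : ↥B, x ∈ L ↔ IsPi π x := by
  have hKn : (A.subgroupOf B).Normal := inferInstance
  apply pi_elements_subgroup (hom4_subgroup π hhom B) (A.subgroupOf B)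
  · obtain ⟨L, hL⟩ := hA
    let e := Subgroup.subgroupOfEquivOfLe hAB
    refine ⟨L.comap e.toMonoidHom, fun x => ?_⟩
    rw [Subgroup.mem_comap, hL]
    have : orderOf (e.toMonoidHom x) = orderOf x := MulEquiv.orderOf_eq e x
    unfold IsPi
    rw [this]
  · have hcard : Nat.card (↥B ⧸ A.subgroupOf B) = A.relIndex B := by
      rw [← Subgroup.index_eq_card]; rfl
    rcases hfac with h | h
    · refine ⟨⊤, fun x => ⟨fun _ => ?_, fun _ => Subgroup.mem_top _⟩⟩
      intro q hq hd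
      apply h q hq
      rw [← hcard]
      exact hd.trans (orderOf_dvd_natCard x)
    · refine ⟨⊥, fun x => ⟨fun hx => ?_, fun hx => ?_⟩⟩
      · rw [Subgroup.mem_bot] at hx
        rw [hx]; exact isPi_one
      · rw [Subgroup.mem_bot]
        apply eq_one_of_isPi_of_not hx
        intro q hq hd
        apply h q hq
        rw [← hcard]
        exact hd.trans (orderOf_dvd_natCard x)

theorem backward {G : Type*} [Group G] [Finite G] (π : Set ℕ)
    (n : ℕ) (H : Fin (n + 1) → Subgroup G) (h0 : H 0 = ⊥) (hlast : H (Fin.last n) = ⊤)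
    (hmono : Monotone H) (hnorm : ∀ i, (H i).Normal)
    (hfac : ∀ i : Fin n, (∀ q : ℕ, q.Prime → q ∣ (H i.castSucc).relIndex (H i.succ) → q ∈ π) ∨
        (∀ q : ℕ, q.Prime → q ∣ (H i.castSucc).relIndex (H i.succ) → q ∉ π))
    (hhom : Hom4 π G) :
    ∃ K : Subgroup G, ∀ x : G, x ∈ K ↔ IsPi π x := by
  have key : ∀ k : ℕ, ∀ hk : k < n + 1,
      ∃ L : Subgroup ↥(H ⟨k, hk⟩), ∀ x : ↥(H ⟨k, hk⟩), x ∈ L ↔ IsPi π x := by
    intro k
    induction k with
    | zero =>
      intro hk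
      refine ⟨⊤, fun x => ⟨fun _ => ?_, fun _ => Subgroup.mem_top _⟩⟩
      have hx : (x : G) ∈ H 0 := x.2
      rw [h0, Subgroup.mem_bot] at hx
      have : x = 1 := Subtype.ext hx
      rw [this]; exact isPi_one
    | succ k ih =>
      intro hk
      have hk' : k < n := by omega
      have hk2 : k < n + 1 := by omega
      have := hnorm ⟨k, hk2⟩
      have hle : H ⟨k, hk2⟩ ≤ H ⟨k + 1, hk⟩ := hmono (Fin.mk_le_mk.mpr (Nat.le_succ k))
      exact step π hhom (H ⟨k, hk2⟩) (H ⟨k + 1, hk⟩) hle (hfac ⟨k, hk'⟩) (ih hk2)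
  have hn2 : n < n + 1 := Nat.lt_succ_self n
  obtain ⟨L, hL⟩ := key n hn2
  have hl : H ⟨n, hn2⟩ = ⊤ := hlast
  refine ⟨L.map (H ⟨n, hn2⟩).subtype, fun x => ⟨?_, fun hx => ?_⟩⟩
  · rintro ⟨y, hy, rfl⟩
    exact ((hL y).mp hy).of_orderOf_dvd (by rw [Subgroup.coe_subtype, Subgroup.orderOf_coe])
  · have hxm : x ∈ H ⟨n, hn2⟩ := by rw [hl]; exact Subgroup.mem_top x
    exact ⟨⟨x, hxm⟩, (hL _).mpr (hx.of_orderOf_dvd (by rw [Subgroup.orderOf_mk])), rfl⟩

theorem centralizer_normal_in_normalizer {G : Type*} [Group G] (Q : Subgroup G) :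
    ((Subgroup.centralizer (Q : Set G)).subgroupOf (Subgroup.normalizer (Q : Set G))).Normal := by
  constructor
  intro c hc g
  rw [Subgroup.mem_subgroupOf, Subgroup.mem_centralizer_iff] at hc ⊢
  intro u hu
  have hg := g.2
  rw [Subgroup.mem_normalizer_iff] at hg
  have hu' : (g : G)⁻¹ * u * (g : G) ∈ Q := by
    have := (hg ((g : G)⁻¹ * u * (g : G)))
    rw [this]
    have e : (g : G) * ((g : G)⁻¹ * u * (g : G)) * (g : G)⁻¹ = u := by group
    rw [e]; exact hu
  have h1 := hc _ hu'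
  simp only [Subgroup.coe_mul, Subgroup.coe_inv]
  calc u * ((g : G) * (c : G) * (g : G)⁻¹) = (g : G) * (((g : G)⁻¹ * u * (g : G)) * (c : G)) * (g : G)⁻¹ := by group
    _ = (g : G) * ((c : G) * ((g : G)⁻¹ * u * (g : G))) * (g : G)⁻¹ := by rw [h1]
    _ = (g : G) * (c : G) * (g : G)⁻¹ * u := by group

theorem forward {G : Type*} [Group G] [Finite G] (π : Set ℕ) (S : Subgroup G)
    (hS : ∀ x : G, x ∈ S ↔ IsPi π x) :
    (∃ (n : ℕ) (H : Fin (n + 1) → Subgroup G), H 0 = ⊥ ∧ H (Fin.last n) = ⊤ ∧ Monotone H ∧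
      (∀ i, (H i).Normal) ∧
      ∀ i : Fin n, (∀ q : ℕ, q.Prime → q ∣ (H i.castSucc).relIndex (H i.succ) → q ∈ π) ∨
        (∀ q : ℕ, q.Prime → q ∣ (H i.castSucc).relIndex (H i.succ) → q ∉ π)) ∧
     (∀ H : Subgroup G, H ≠ ⊥ → (∀ p : ℕ, p.Prime → p ∣ Nat.card ↥H → p ∉ π) →
        ∀ p : ℕ, p.Prime → p ∣ (Subgroup.centralizer (H : Set G)).relIndex (Subgroup.normalizer (H : Set G)) → p ∉ π) := by
  have hSn : S.Normal := by
    constructor
    intro x hx g
    rw [hS] at hx ⊢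
    exact hx.conj g
  have hScard : ∀ q : ℕ, q.Prime → q ∣ Nat.card S → q ∈ π := by
    intro q hq hd
    have : Fact q.Prime := ⟨hq⟩
    obtain ⟨y, hy⟩ := exists_prime_orderOf_dvd_card' q hd
    have h1 : IsPi π (y : G) := (hS _).mp y.2
    apply h1 q hq
    rw [Subgroup.orderOf_coe, hy]
  have hSidx : ∀ q : ℕ, q.Prime → q ∣ S.index → q ∉ π := by
    intro q hq hd hqπ
    have : Fact q.Prime := ⟨hq⟩
    rw [Subgroup.index_eq_card] at hd
    obtain ⟨y, hy⟩ := exists_prime_orderOf_dvd_card' q hd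
    obtain ⟨g, rfl⟩ := QuotientGroup.mk_surjective y
    have h1 : IsPi π ((g : G) : G ⧸ S) := by
      intro r hr hd'
      rw [hy] at hd'
      rw [(Nat.prime_dvd_prime_iff_eq hr hq).mp hd']
      exact hqπ
    have h2 : IsPi π g := IsPi.of_quotient S (fun n hn => (hS n).mp hn) h1
    have h3 : ((g : G) : G ⧸ S) = 1 := by
      rw [QuotientGroup.eq_one_iff, hS]; exact h2
    rw [h3, orderOf_one] at hy
    exact hq.one_lt.ne hy
  refine ⟨⟨2, ![⊥, S, ⊤], rfl, rfl, ?_, ?_, ?_⟩, ?_⟩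
  · rw [Fin.monotone_iff_le_succ]
    intro i
    fin_cases i
    · exact bot_le
    · exact le_top
  · intro i
    fin_cases i
    · exact (inferInstance : (⊥ : Subgroup G).Normal)
    · exact hSn
    · exact (inferInstance : (⊤ : Subgroup G).Normal)
  · intro i
    fin_cases i
    · left
      intro q hq hd
      apply hScard q hq
      have : (⊥ : Subgroup G).relIndex S = Nat.card S := Subgroup.relIndex_bot_left S
      rw [← this]; exact hd
    · right
      intro q hq hd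
      apply hSidx q hq
      have : S.relIndex ⊤ = S.index := Subgroup.relIndex_top_right S
      rw [← this]; exact hd
  · intro H hH hHπ p hp hd hpπ
    have : Fact p.Prime := ⟨hp⟩
    have hCn := centralizer_normal_in_normalizer H
    have hd' : p ∣ Nat.card (↥(Subgroup.normalizer (H : Set G)) ⧸
        (Subgroup.centralizer (H : Set G)).subgroupOf (Subgroup.normalizer (H : Set G))) := by
      rw [← Subgroup.index_eq_card]; exact hd
    obtain ⟨y, hy⟩ := exists_prime_orderOf_dvd_card' p hd'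
    obtain ⟨n, rfl⟩ := QuotientGroup.mk_surjective y
    obtain ⟨b, m, hpm, ho⟩ := Nat.exists_eq_pow_mul_and_not_dvd (orderOf_pos n).ne' p hp.ne_one
    have h1 : (n ^ m) ^ (p ^ b) = 1 := by
      rw [← pow_mul, mul_comm, ← ho]; exact pow_orderOf_eq_one n
    have h2 : IsPi π (n ^ m) := by
      apply IsPi.of_pow_eq_one (p ^ b) _ h1
      intro r hr hd''
      rw [(Nat.prime_dvd_prime_iff_eq hr hp).mp (hr.dvd_of_dvd_pow hd'')]
      exact hpπ
    have h3 : ((n ^ m : ↥(Subgroup.normalizer (H : Set G))) : G) ∈ S := by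
      rw [hS]; exact h2.of_orderOf_dvd (by rw [Subgroup.orderOf_coe])
    have h4 : ((n ^ m : ↥(Subgroup.normalizer (H : Set G))) : G) ∈ Subgroup.centralizer (H : Set G) := by
      rw [Subgroup.mem_centralizer_iff]
      intro h hh
      set w := ((n ^ m : ↥(Subgroup.normalizer (H : Set G))) : G) with hw
      have hwN : w ∈ Subgroup.normalizer (H : Set G) := (n ^ m).2
      have hc1 : w * h * w⁻¹ * h⁻¹ ∈ H :=
        H.mul_mem ((Subgroup.mem_normalizer_iff.mp hwN h).mp hh) (H.inv_mem hh)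
      have hc2 : w * h * w⁻¹ * h⁻¹ ∈ S := by
        have : w * h * w⁻¹ * h⁻¹ = w * (h * w⁻¹ * h⁻¹) := by group
        rw [this]
        exact S.mul_mem h3 (hSn.conj_mem _ (S.inv_mem h3) h)
      have hc3 : w * h * w⁻¹ * h⁻¹ = 1 := by
        apply eq_one_of_isPi_of_not ((hS _).mp hc2)
        intro r hr hd''
        apply hHπ r hr
        have := orderOf_dvd_natCard (⟨_, hc1⟩ : H)
        rw [Subgroup.orderOf_mk] at this
        exact hd''.trans this
      calc h * w = (w * h * w⁻¹ * h⁻¹)⁻¹ * w * h := by group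
        _ = w * h := by rw [hc3]; group
    have h5 : (((n ^ m : ↥(Subgroup.normalizer (H : Set G))) :
        ↥(Subgroup.normalizer (H : Set G)) ⧸
          (Subgroup.centralizer (H : Set G)).subgroupOf (Subgroup.normalizer (H : Set G)))) = 1 := by
      rw [QuotientGroup.eq_one_iff, Subgroup.mem_subgroupOf]; exact h4
    rw [QuotientGroup.mk_pow] at h5
    have h6 := orderOf_dvd_of_pow_eq_one h5
    rw [hy] at h6
    exact hpm h6

theorem result {G : Type*} [Group G] [Finite G] (π : Set ℕ)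
    (_hπ : ∀ p ∈ π, p.Prime) :
    (∃ K : Subgroup G, ∀ x : G, x ∈ K ↔ ∀ p : ℕ, p.Prime → p ∣ orderOf x → p ∈ π) ↔
    ((∃ (n : ℕ) (H : Fin (n + 1) → Subgroup G), H 0 = ⊥ ∧ H (Fin.last n) = ⊤ ∧ Monotone H ∧ (∀ i, (H i).Normal) ∧
      ∀ i : Fin n, (∀ q : ℕ, q.Prime → q ∣ (H i.castSucc).relIndex (H i.succ) → q ∈ π) ∨
        (∀ q : ℕ, q.Prime → q ∣ (H i.castSucc).relIndex (H i.succ) → q ∉ π)) ∧
     (∀ H : Subgroup G, H ≠ ⊥ → (∀ p : ℕ, p.Prime → p ∣ Nat.card ↥H → p ∉ π) →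
        ∀ p : ℕ, p.Prime → p ∣ (Subgroup.centralizer (H : Set G)).relIndex (Subgroup.normalizer (H : Set G)) → p ∉ π)) := by
  constructor
  · rintro ⟨S, hS⟩
    exact forward π S hS
  · rintro ⟨⟨n, H, h0, hlast, hmono, hnorm, hfac⟩, hhom⟩
    exact backward π n H h0 hlast hmono hnorm hfac (Cfsg.Agent.S4051.hom4_of_relIndex π hhom)

end Cfsg.Agent.S4050
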