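import Mathlib
import Cfsg.Statements.S4056

set_option autoImplicit false
open Cfsg
open scoped commutatorElement

namespace Cfsg.Agent.S4056

theorem frattini_eq_bot_of_exp_two (V : Type*) [Group V] [Finite V] (h2 : ∀ v : V, v ^ 2 = 1) :
    frattini V = ⊥ := by
  have hinv : ∀ v : V, v⁻¹ = v := by
    intro v
    have := h2 v
    rw [pow_two] at this
    exact inv_eq_of_mul_eq_one_left this
  have hcomm : ∀ a b : V, a * b = b * a := by
    intro a b
    have h := h2 (a * b)
    rw [pow_two] at h
    have h3 : a * b = (a * b)⁻¹ := (hinv (a * b)).symm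
    rw [h3, mul_inv_rev, hinv, hinv]
  rw [eq_bot_iff]
  intro v hv
  rw [Subgroup.mem_bot]
  by_contra hv1
  have hfin : {M : Subgroup V | v ∉ M}.Finite := Set.toFinite _
  have hne : {M : Subgroup V | v ∉ M}.Nonempty := ⟨⊥, by simpa [Subgroup.mem_bot] using hv1⟩
  obtain ⟨M, hM⟩ := hfin.exists_maximal hne
  have hvM : v ∉ M := hM.1
  have hco : IsCoatom M := by
    refine ⟨?_, ?_⟩
    · intro h
      apply hvM
      rw [h]; exact Subgroup.mem_top v
    · intro K hMK
      have hvK : v ∈ K := by
        by_contra hvK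
        exact (not_le_of_gt hMK) (hM.2 hvK hMK.le)
      rw [eq_top_iff]
      intro h _
      by_cases hhM : h ∈ M
      · exact hMK.le hhM
      · -- M ⊔ zpowers h contains v
        have hlt : M < M ⊔ Subgroup.zpowers h := by
          refine lt_of_le_of_ne le_sup_left ?_
          intro heq
          apply hhM
          rw [heq]
          exact (le_sup_right : Subgroup.zpowers h ≤ _) (Subgroup.mem_zpowers h)
        have hvs : v ∈ M ⊔ Subgroup.zpowers h := by
          by_contra hvs
          exact (not_le_of_gt hlt) (hM.2 hvs hlt.le)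
        let _ : CommGroup V := { (inferInstance : Group V) with mul_comm := hcomm }
        obtain ⟨y, hy, z, hz, hyz⟩ := Subgroup.mem_sup.mp hvs
        obtain ⟨k, hk⟩ := Subgroup.mem_zpowers_iff.mp hz
        rcases Int.even_or_odd k with ⟨c, hc⟩ | ⟨c, hc⟩
        · exfalso
          apply hvM
          have hz1 : z = 1 := by
            have hc' : k = 2 * c := by omega
            rw [← hk, hc', zpow_mul, zpow_ofNat, h2, one_zpow]
          rw [← hyz, hz1, mul_one]
          exact hy
        · have hzh : z = h := by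
            rw [← hk, hc, zpow_add, zpow_one, zpow_mul, zpow_ofNat, h2, one_zpow, one_mul]
          have : h = y⁻¹ * v := by
            rw [← hyz, hzh]; group
          rw [this]
          exact Subgroup.mul_mem _ (Subgroup.inv_mem _ (hMK.le hy)) hvK
  exact hvM (frattini_le_coatom hco hv)

/-- In a finite 2-group of nilpotency class at most 2 and exponent dividing 4, the Frattini subgroup lies in the centre and is elementary abelian. -/
theorem result {P : Type*} [Group P] [Finite P] (hP : IsPGroup 2 P)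
    (hcl : Group.nilpotencyClass P ≤ 2) (hexp : Monoid.exponent P ∣ 4) :
    frattini P ≤ Subgroup.center P ∧ Cfsg.IsElementaryAbelian 2 (frattini P) := by
  have : Fact (Nat.Prime 2) := ⟨Nat.prime_two⟩
  have hnil : Group.IsNilpotent P := hP.isNilpotent
  have h4 : ∀ x : P, x ^ 4 = 1 := Monoid.exponent_dvd_iff_forall_pow_eq_one.mp hexp
  have hucs : Subgroup.upperCentralSeries P 2 = ⊤ :=
    Subgroup.upperCentralSeries_eq_top_iff_nilpotencyClass_le.mpr hcl
  have hcc : ∀ x y : P, x * y * x⁻¹ * y⁻¹ ∈ Subgroup.center P := by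
    intro x y
    have hx : x ∈ Subgroup.upperCentralSeries P (1 + 1) := by
      rw [show (1 + 1 : ℕ) = 2 from rfl, hucs]; exact Subgroup.mem_top x
    have := Subgroup.mem_upperCentralSeries_succ_iff.mp hx y
    rw [Subgroup.upperCentralSeries_one, commutatorElement_def] at this
    exact this
  -- commutators have order at most two
  have hc2 : ∀ x y : P, (x * y * x⁻¹ * y⁻¹) ^ 2 = 1 := by
    intro x y
    set c := y * x * y⁻¹ * x⁻¹ with hc
    have hcz : ∀ g : P, g * c = c * g := Subgroup.mem_center_iff.mp (hcc y x)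
    have hyx : y * x = c * (x * y) := by rw [hc]; group
    have hcomm_c : ∀ g : P, Commute c g := fun g => (hcz g).symm
    -- (x y)^2 = c x^2 y^2
    have e1 : (x * y) ^ 2 = c * (x ^ 2 * y ^ 2) := by
      calc (x * y) ^ 2 = x * (y * x) * y := by rw [pow_two]; group
        _ = x * (c * (x * y)) * y := by rw [hyx]
        _ = (x * c) * (x * y * y) := by group
        _ = (c * x) * (x * y * y) := by rw [hcz x]
        _ = c * (x ^ 2 * y ^ 2) := by rw [pow_two, pow_two]; group
    have e2 : y * x ^ 2 = c ^ 2 * (x ^ 2 * y) := by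
      calc y * x ^ 2 = (y * x) * x := by rw [pow_two]; group
        _ = c * (x * y) * x := by rw [hyx]
        _ = c * x * (y * x) := by group
        _ = c * x * (c * (x * y)) := by rw [hyx]
        _ = c * (x * c) * (x * y) := by group
        _ = c * (c * x) * (x * y) := by rw [hcz x]
        _ = c ^ 2 * (x ^ 2 * y) := by rw [pow_two, pow_two]; group
    have hc2z : ∀ g : P, g * c ^ 2 = c ^ 2 * g := fun g => ((hcomm_c g).pow_left 2).eq.symm
    have e3 : y ^ 2 * x ^ 2 = c ^ 4 * (x ^ 2 * y ^ 2) := by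
      calc y ^ 2 * x ^ 2 = y * (y * x ^ 2) := by rw [pow_two y]; group
        _ = y * (c ^ 2 * (x ^ 2 * y)) := by rw [e2]
        _ = (y * c ^ 2) * (x ^ 2 * y) := by group
        _ = (c ^ 2 * y) * (x ^ 2 * y) := by rw [hc2z y]
        _ = c ^ 2 * (y * x ^ 2) * y := by group
        _ = c ^ 2 * (c ^ 2 * (x ^ 2 * y)) * y := by rw [e2]
        _ = c ^ 4 * (x ^ 2 * y ^ 2) := by
          rw [show (4 : ℕ) = 2 + 2 from rfl, pow_add, pow_two y]; group
    have e4 : (x * y) ^ 4 = c ^ 2 := by
      have hcs : ∀ g : P, g * c ^ 4 = c ^ 4 * g := fun g => ((hcomm_c g).pow_left 4).eq.symm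
      calc (x * y) ^ 4 = ((x * y) ^ 2) ^ 2 := by rw [← pow_mul]
        _ = (c * (x ^ 2 * y ^ 2)) * (c * (x ^ 2 * y ^ 2)) := by rw [e1, pow_two]
        _ = c * ((x ^ 2 * y ^ 2) * c) * (x ^ 2 * y ^ 2) := by group
        _ = c * (c * (x ^ 2 * y ^ 2)) * (x ^ 2 * y ^ 2) := by rw [hcz]
        _ = c ^ 2 * (x ^ 2 * (y ^ 2 * x ^ 2) * y ^ 2) := by rw [pow_two c]; group
        _ = c ^ 2 * (x ^ 2 * (c ^ 4 * (x ^ 2 * y ^ 2)) * y ^ 2) := by rw [e3]
        _ = c ^ 2 * ((x ^ 2 * c ^ 4) * (x ^ 2 * y ^ 2) * y ^ 2) := by group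
        _ = c ^ 2 * ((c ^ 4 * x ^ 2) * (x ^ 2 * y ^ 2) * y ^ 2) := by rw [hcs]
        _ = c ^ 2 * (c ^ 4 * (x ^ 4 * y ^ 4)) := by
          rw [show (4 : ℕ) = 2 + 2 from rfl, pow_add x, pow_add y]; group
        _ = c ^ 2 := by rw [h4 x, h4 y, h4 c]; group
    have hcsq : c ^ 2 = 1 := by rw [← e4, h4]
    have : x * y * x⁻¹ * y⁻¹ = c⁻¹ := by rw [hc]; group
    rw [this, inv_pow, hcsq, inv_one]
  -- squares are central
  have hsqc : ∀ x : P, x ^ 2 ∈ Subgroup.center P := by
    intro x
    rw [Subgroup.mem_center_iff]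
    intro y
    set c := y * x * y⁻¹ * x⁻¹ with hc
    have hcz : ∀ g : P, g * c = c * g := Subgroup.mem_center_iff.mp (hcc y x)
    have hyx : y * x = c * (x * y) := by rw [hc]; group
    have hcsq : c ^ 2 = 1 := hc2 y x
    calc y * x ^ 2 = (y * x) * x := by rw [pow_two]; group
      _ = c * (x * y) * x := by rw [hyx]
      _ = c * x * (y * x) := by group
      _ = c * x * (c * (x * y)) := by rw [hyx]
      _ = c * (x * c) * (x * y) := by group
      _ = c * (c * x) * (x * y) := by rw [hcz x]
      _ = c ^ 2 * (x ^ 2 * y) := by rw [pow_two, pow_two]; group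
      _ = x ^ 2 * y := by rw [hcsq, one_mul]
  set Q : Subgroup P := Subgroup.closure {y : P | ∃ x : P, y = x ^ 2} with hQ
  have hQc : Q ≤ Subgroup.center P := by
    rw [hQ, Subgroup.closure_le]
    rintro _ ⟨x, rfl⟩
    exact hsqc x
  have hQn : Q.Normal := by
    constructor
    intro n hn g
    have := Subgroup.mem_center_iff.mp (hQc hn) g
    have h1 : g * n * g⁻¹ = n := by rw [this]; group
    rw [h1]; exact hn
  have hV2 : ∀ v : P ⧸ Q, v ^ 2 = 1 := by
    intro v
    obtain ⟨x, rfl⟩ := QuotientGroup.mk_surjective v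
    rw [← QuotientGroup.mk_pow, QuotientGroup.eq_one_iff]
    exact Subgroup.subset_closure ⟨x, rfl⟩
  have hfr : frattini P ≤ Q := by
    have h1 := frattini_le_comap_frattini_of_surjective (QuotientGroup.mk'_surjective Q)
    rw [frattini_eq_bot_of_exp_two (P ⧸ Q) hV2, MonoidHom.comap_bot, QuotientGroup.ker_mk'] at h1
    exact h1
  -- every element of Q has square one
  have hQ2 : ∀ q ∈ Q, q ^ 2 = 1 := by
    intro q hq
    induction hq using Subgroup.closure_induction with
    | mem y hy =>
      obtain ⟨x, rfl⟩ := hy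
      rw [← pow_mul]; exact h4 x
    | one => simp
    | mul a b ha hb iha ihb =>
      have hab : Commute a b := (Subgroup.mem_center_iff.mp (hQc hb) a)
      rw [hab.mul_pow, iha, ihb, one_mul]
    | inv a ha iha => rw [inv_pow, iha, inv_one]
  refine ⟨hfr.trans hQc, ⟨⟨fun a b => ?_⟩⟩, ?_⟩
  · apply Subtype.ext
    have := Subgroup.mem_center_iff.mp (hQc (hfr b.2)) (a : P)
    exact this
  · intro a ha
    exact hQ2 a (hfr ha)

end Cfsg.Agent.S4056
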