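import Mathlib
import Cfsg.Statements.S4058
import Cfsg.Agent.Lib_helper22_FS
import Cfsg.Agent.Lib_helper22_LinChar
import Cfsg.Agent.Lib_helper24_CharIntegral
import Cfsg.Agent.Lib_helper8_AbQuot
import Cfsg.Agent.Lib_helper1_PGroup

set_option autoImplicit false
open Cfsg

namespace Cfsg.Agent.S4058

open Cfsg.Agent.helper24 Cfsg.Agent.helper1 Cfsg.Agent.helper8 Cfsg.Agent.helper22
open scoped ComplexConjugate commutatorElement

theorem dvd_sum_of_orbits {Λ X : Type*} [Group Λ] [MulAction Λ X] [Fintype X]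
    (F : X → ℤ) (hinv : ∀ (l : Λ) (x : X), F (l • x) = F x) (m : ℤ)
    (h : ∀ x : X, m ∣ ((MulAction.orbit Λ x).ncard : ℤ) * F x) : m ∣ ∑ x, F x := by
  classical
  rw [Finset.sum_partition (MulAction.orbitRel Λ X)]
  apply Finset.dvd_sum
  intro xbar hx
  obtain ⟨x, _, rfl⟩ := Finset.mem_image.mp hx
  have hmem : ∀ y : X, (Quotient.mk (MulAction.orbitRel Λ X) y = Quotient.mk (MulAction.orbitRel Λ X) x) ↔
      y ∈ MulAction.orbit Λ x := by
    intro y
    rw [Quotient.eq]
    exact MulAction.orbitRel_apply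
  have key : ∑ y ∈ Finset.univ with Quotient.mk (MulAction.orbitRel Λ X) y =
      Quotient.mk (MulAction.orbitRel Λ X) x, F y =
      ((MulAction.orbit Λ x).ncard : ℤ) * F x := by
    rw [Finset.sum_congr rfl (g := fun _ => F x)]
    · rw [Finset.sum_const, nsmul_eq_mul]
      congr 2
      rw [← Set.ncard_coe_finset]
      congr 1
      ext y
      simp only [Finset.coe_filter, Finset.mem_univ, true_and, Set.mem_setOf_eq]
      exact hmem y
    · intro y hy
      rw [Finset.mem_filter] at hy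
      obtain ⟨l, rfl⟩ := (hmem y).mp hy.2
      exact hinv l x
  rw [key]
  exact h x


/-- Let G be a finite 2-group with #(G/Φ(G)) ≥ 2^(2k+1). Then the number of elements x of G with x² = 1 is divisible by 2^(k+1). -/
theorem result {G : Type*} [Group G] [Finite G] (hG : IsPGroup 2 G) (k : ℕ)
    (hgen : 2 ^ (2 * k + 1) ≤ Nat.card (G ⧸ frattini G)) :
    2 ^ (k + 1) ∣ Nat.card {x : G // x ^ 2 = 1} := by
  classical
  have hp2 : Fact (Nat.Prime 2) := ⟨Nat.prime_two⟩
  have hFG := Fintype.ofFinite G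
  have hfinHom : Finite (G →* ℂˣ) := by
    apply Nat.finite_of_card_ne_zero
    rw [card_hom_eq_index]
    exact Subgroup.index_ne_zero_of_finite
  obtain ⟨Λ, hΛdef⟩ : ∃ Λ : Subgroup (G →* ℂˣ),
      Λ = (powMonoidHom 2 : (G →* ℂˣ) →* (G →* ℂˣ)).ker := ⟨_, rfl⟩
  have hΛmem : ∀ l : G →* ℂˣ, l ∈ Λ ↔ l ^ 2 = 1 := by
    intro l
    rw [hΛdef, MonoidHom.mem_ker, powMonoidHom_apply]
  have hΛ : ∀ l : Λ, ∀ g : G, (((l : G →* ℂˣ) g : ℂˣ) : ℂ) ^ 2 = 1 := by
    intro l g
    have h1 : (l : G →* ℂˣ) ^ 2 = 1 := (hΛmem _).mp l.2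
    have h2 := DFunLike.congr_fun h1 g
    rw [MonoidHom.pow_apply, MonoidHom.one_apply] at h2
    have := congrArg (fun u : ℂˣ => (u : ℂ)) h2
    simpa using this
  -- cardinality of Λ
  have hΛp : IsPGroup 2 Λ := by
    intro l
    refine ⟨1, ?_⟩
    apply Subtype.ext
    rw [pow_one, Subgroup.coe_pow, Subgroup.coe_one]
    exact (hΛmem _).mp l.2
  obtain ⟨e, he⟩ := IsPGroup.iff_card.mp hΛp
  have hab : ∀ x y : G, x * y * x⁻¹ * y⁻¹ ∈ frattini G := by
    intro x y
    apply commutator_le_frattini_of_isPGroup hG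
    rw [commutator_def]
    have : x * y * x⁻¹ * y⁻¹ = ⁅x, y⁆ := rfl
    rw [this]
    exact Subgroup.commutator_mem_commutator (Subgroup.mem_top x) (Subgroup.mem_top y)
  have hle : Nat.card (G ⧸ frattini G) ≤ Nat.card Λ := by
    let _ : CommGroup (G ⧸ frattini G) := commGroupQuot (frattini G) hab
    have hne : Monoid.exponent (G ⧸ frattini G) ≠ 0 := Monoid.exponent_ne_zero_of_finite
    have : NeZero ((Monoid.exponent (G ⧸ frattini G) : ℕ) : ℂ) := ⟨by exact_mod_cast hne⟩
    have hcard : Nat.card ((G ⧸ frattini G) →* ℂˣ) = Nat.card (G ⧸ frattini G) :=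
      CommGroup.card_monoidHom_of_hasEnoughRootsOfUnity (G ⧸ frattini G) ℂ
    rw [← hcard]
    let f : ((G ⧸ frattini G) →* ℂˣ) → Λ := fun φ =>
      ⟨φ.comp (QuotientGroup.mk' (frattini G)), by
        rw [hΛmem]
        ext x
        rw [MonoidHom.pow_apply, MonoidHom.one_apply, MonoidHom.comp_apply, ← map_pow]
        have h1 : (QuotientGroup.mk' (frattini G) x) ^ 2 = 1 := by
          rw [← map_pow]
          exact (QuotientGroup.eq_one_iff _).mpr (pow_mem_frattini_of_isPGroup hG x)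
        rw [h1, map_one]⟩
    apply Nat.card_le_card_of_injective f
    intro φ ψ h
    have h2 : φ.comp (QuotientGroup.mk' (frattini G)) = ψ.comp (QuotientGroup.mk' (frattini G)) :=
      congrArg Subtype.val h
    apply MonoidHom.ext
    intro a
    induction a using QuotientGroup.induction_on with
    | _ x => exact DFunLike.congr_fun h2 x
  have hek : 2 * k + 1 ≤ e := by
    have h1 : 2 ^ (2 * k + 1) ≤ 2 ^ e := he ▸ (hgen.trans hle)
    exact (Nat.pow_le_pow_iff_right (by norm_num : 1 < 2)).mp h1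
  -- characters
  have hFI := Fintype.ofFinite (IrrCharacter G)
  obtain ⟨n, hn⟩ := IsPGroup.iff_card.mp hG
  -- the integer valued function
  let F : IrrCharacter G → ℤ := fun χ =>
    if fsInd (χ : G → ℂ) = 1 then (charDegree (χ : G → ℂ) : ℤ)
    else if fsInd (χ : G → ℂ) = -1 then -(charDegree (χ : G → ℂ) : ℤ) else 0
  have hFval : ∀ χ : IrrCharacter G, ((F χ : ℤ) : ℂ) = fsInd (χ : G → ℂ) * (χ : G → ℂ) 1 := by
    intro χ
    have hdeg : (charDegree (χ : G → ℂ) : ℂ) = (χ : G → ℂ) 1 :=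
      char_charDegree_cast (irr_isCharacter χ.2)
    rcases fsInd_cases χ.2 with h | h | h
    · have h1 : ¬ fsInd (χ : G → ℂ) = 1 := by rw [h]; norm_num
      have h2 : ¬ fsInd (χ : G → ℂ) = -1 := by rw [h]; norm_num
      simp only [F, if_neg h1, if_neg h2, h]
      simp
    · simp only [F, if_pos h, h]
      rw [one_mul, ← hdeg]
      simp
    · have h1 : ¬ fsInd (χ : G → ℂ) = 1 := by rw [h]; norm_num
      simp only [F, if_neg h1, if_pos h, h]
      rw [← hdeg]
      simp
  have hsum : ((∑ χ : IrrCharacter G, F χ : ℤ) : ℂ) = (Nat.card {s : G // s * s = 1} : ℂ) := by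
    rw [← sum_fsInd_mul_degree, Int.cast_sum]
    exact Finset.sum_congr rfl (fun χ _ => hFval χ)
  -- invariance
  have hfsinv : ∀ (l : Λ) (χ : IrrCharacter G),
      fsInd (((l • χ : IrrCharacter G)) : G → ℂ) = fsInd (χ : G → ℂ) := by
    intro l χ
    unfold fsInd
    congr 1
    apply Finset.sum_congr rfl
    intro s _
    have h1 : ((l • χ : IrrCharacter G) : G → ℂ) (s * s) =
        (((l : G →* ℂˣ) (s * s) : ℂˣ) : ℂ) * (χ : G → ℂ) (s * s) := rfl
    rw [h1, map_mul, Units.val_mul, ← pow_two, hΛ l s, one_mul]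
  have hdeginv : ∀ (l : Λ) (χ : IrrCharacter G),
      charDegree (((l • χ : IrrCharacter G)) : G → ℂ) = charDegree (χ : G → ℂ) := by
    intro l χ
    exact twist_degree (l : G →* ℂˣ) χ
  have hFinv : ∀ (l : Λ) (χ : IrrCharacter G), F (l • χ) = F χ := by
    intro l χ
    simp only [F, hfsinv l χ, hdeginv l χ]
  -- main divisibility
  have hmain : ((2 : ℤ) ^ (k + 1)) ∣ ∑ χ : IrrCharacter G, F χ := by
    apply dvd_sum_of_orbits (Λ := Λ) F hFinv
    intro χ
    by_cases hF0 : F χ = 0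
    · rw [hF0, mul_zero]; exact dvd_zero _
    -- degree is a power of two
    have hdd : charDegree (χ : G → ℂ) ∣ 2 ^ n := hn ▸ irr_degree_dvd_card χ.2
    obtain ⟨a, _, ha⟩ := (Nat.dvd_prime_pow Nat.prime_two).1 hdd
    have hFabs : F χ = (2 : ℤ) ^ a ∨ F χ = -(2 : ℤ) ^ a := by
      by_cases h1 : fsInd (χ : G → ℂ) = 1
      · left; simp only [F, if_pos h1, ha]; norm_num
      · by_cases h2 : fsInd (χ : G → ℂ) = -1
        · right; simp only [F, if_neg h1, if_pos h2, ha]; norm_num
        · exfalso; apply hF0; simp only [F, if_neg h1, if_neg h2]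
    -- stabilizer
    obtain ⟨St, hSt⟩ : ∃ St : Subgroup Λ, St = MulAction.stabilizer Λ χ := ⟨_, rfl⟩
    have hidx : St.index = (MulAction.orbit Λ χ).ncard := by
      rw [hSt]; exact MulAction.index_stabilizer _ _
    have hmul : Nat.card St * St.index = 2 ^ e := he ▸ Subgroup.card_mul_index St
    have hSd : Nat.card St ∣ 2 ^ e := Dvd.intro _ hmul
    obtain ⟨s, hse, hs⟩ := (Nat.dvd_prime_pow Nat.prime_two).1 hSd
    have hidx2 : St.index = 2 ^ (e - s) := by
      rw [hs] at hmul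
      have h2 : (2 : ℕ) ^ s * 2 ^ (e - s) = 2 ^ e := by
        rw [← pow_add]; congr 1; omega
      exact Nat.eq_of_mul_eq_mul_left (by positivity) (hmul.trans h2.symm)
    have hSle : Nat.card St ≤ (charDegree (χ : G → ℂ)) ^ 2 := by
      refine le_trans ?_ (card_stabilizer_le χ)
      let f : St → MulAction.stabilizer (G →* ℂˣ) χ := fun l =>
        ⟨((l : Λ) : G →* ℂˣ), by
          have h1 : (l : Λ) ∈ MulAction.stabilizer Λ χ := hSt ▸ l.2
          rw [MulAction.mem_stabilizer_iff] at h1 ⊢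
          exact h1⟩
      apply Nat.card_le_card_of_injective f
      intro l l' h
      have h1 : ((l : Λ) : G →* ℂˣ) = ((l' : Λ) : G →* ℂˣ) :=
        congrArg (fun z : MulAction.stabilizer (G →* ℂˣ) χ => (z : G →* ℂˣ)) h
      exact Subtype.ext (Subtype.ext h1)
    have hs2a : s ≤ 2 * a := by
      rw [hs, ha, ← pow_mul] at hSle
      have := (Nat.pow_le_pow_iff_right (by norm_num : 1 < 2)).mp hSle
      omega
    have hexp : k + 1 ≤ (e - s) + a := by omega
    rw [← hidx, hidx2]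
    rcases hFabs with h | h
    · rw [h]
      push_cast
      rw [← pow_add]
      exact pow_dvd_pow 2 hexp
    · rw [h]
      push_cast
      rw [mul_neg, ← pow_add, dvd_neg]
      exact pow_dvd_pow 2 hexp
  -- conclude
  have hsumZ : (∑ χ : IrrCharacter G, F χ : ℤ) = (Nat.card {s : G // s * s = 1} : ℤ) := by
    have : ((∑ χ : IrrCharacter G, F χ : ℤ) : ℂ) = (((Nat.card {s : G // s * s = 1} : ℕ) : ℤ) : ℂ) := by
      rw [hsum]; simp
    exact_mod_cast this
  rw [hsumZ] at hmain
  have hfin : (2 : ℕ) ^ (k + 1) ∣ Nat.card {s : G // s * s = 1} := by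
    exact_mod_cast hmain
  have hcongr : Nat.card {x : G // x ^ 2 = 1} = Nat.card {s : G // s * s = 1} := by
    apply Nat.card_congr
    exact Equiv.subtypeEquivRight (fun x => by rw [pow_two])
  rw [hcongr]
  exact hfin

end Cfsg.Agent.S4058
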