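import Mathlib
import Cfsg.Statements.S4059

set_option autoImplicit false
open Cfsg
open scoped commutatorElement

namespace Cfsg.Agent.S4059

/-- if `c` inverts `x` then some `2`-element power of `c` inverts `x` -/
theorem exists_two_elt_inverting {G : Type*} [Group G] [Finite G] (x c : G)
    (h : c * x * c⁻¹ = x⁻¹) :
    ∃ c' : G, (∃ k : ℕ, orderOf c' = 2 ^ k) ∧ c' * x * c'⁻¹ = x⁻¹ ∧ c' ∈ Subgroup.zpowers c := by
  have ho : orderOf c ≠ 0 := (orderOf_pos c).ne'
  obtain ⟨v, m, hm, hvm⟩ := Nat.exists_eq_two_pow_mul_odd ho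
  have hm0 : m ≠ 0 := by
    rintro rfl
    simp at hm
  refine ⟨c ^ m, ⟨v, ?_⟩, ?_, Subgroup.pow_mem _ (Subgroup.mem_zpowers c) m⟩
  · rw [orderOf_pow_of_dvd hm0 ⟨2 ^ v, by rw [hvm, mul_comm]⟩, hvm,
      Nat.mul_div_cancel _ (Nat.pos_of_ne_zero hm0)]
  · obtain ⟨i, hi⟩ := hm
    have h2 : (c * c) * x * (c * c)⁻¹ = x := by
      calc (c * c) * x * (c * c)⁻¹ = c * (c * x * c⁻¹) * c⁻¹ := by group
        _ = c * x⁻¹ * c⁻¹ := by rw [h]
        _ = (c * x * c⁻¹)⁻¹ := by group
        _ = x := by rw [h, inv_inv]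
    have h3 : (c * c) ^ i * x * ((c * c) ^ i)⁻¹ = x := by
      have hc : Commute (c * c) x := by
        have : (c * c) * x = x * (c * c) := by
          calc (c * c) * x = ((c * c) * x * (c * c)⁻¹) * (c * c) := by group
            _ = x * (c * c) := by rw [h2]
        exact this
      have := (hc.pow_left i).eq
      rw [this]; group
    have h4 : c ^ m = (c * c) ^ i * c := by
      rw [hi, pow_succ, pow_mul, pow_two]
    rw [h4]
    calc (c * c) ^ i * c * x * ((c * c) ^ i * c)⁻¹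
        = (c * c) ^ i * (c * x * c⁻¹) * ((c * c) ^ i)⁻¹ := by group
      _ = ((c * c) ^ i * x * ((c * c) ^ i)⁻¹)⁻¹ := by rw [h]; group
      _ = x⁻¹ := by rw [h3]

/-- Let G be a finite group in which every element is conjugate to its inverse. Then: every non-identity element commuting with all elements of some Sylow 2-subgroup is an involution; the centre of G is an elementary abelian 2-group; the commutator quotient G/G' is an elementary abelian 2-group; and G is generated by its 2-elements. -/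
theorem result {G : Type*} [Group G] [Finite G] (hamb : ∀ x : G, IsConj x x⁻¹) :
    (∀ (S : Sylow 2 G) (x : G), x ∈ Subgroup.centralizer ((S : Subgroup G) : Set G) → x ≠ 1 → orderOf x = 2) ∧
    (∀ z : G, z ∈ Subgroup.center G → z ^ 2 = 1) ∧
    (∀ x : G, x ^ 2 ∈ commutator G) ∧
    Subgroup.closure {x : G | ∃ k : ℕ, orderOf x = 2 ^ k} = ⊤ := by
  have hc : ∀ x : G, ∃ c : G, c * x * c⁻¹ = x⁻¹ := fun x => isConj_iff.mp (hamb x)
  have : Fact (Nat.Prime 2) := ⟨Nat.prime_two⟩
  refine ⟨?_, ?_, ?_, ?_⟩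
  · intro S x hx hx1
    obtain ⟨g, hg⟩ := hc x
    have hy : g⁻¹⁻¹ * x * g⁻¹ ∈ Subgroup.centralizer ((S : Subgroup G) : Set G) := by
      rw [inv_inv, hg]; exact Subgroup.inv_mem _ hx
    obtain ⟨n, hn, hnx⟩ := Sylow.conj_eq_normalizer_conj_of_mem_centralizer S x g⁻¹ hx hy
    rw [inv_inv, hg] at hnx
    -- n⁻¹ inverts x and lies in the normalizer
    have hninv : n⁻¹ * x * n⁻¹⁻¹ = x⁻¹ := by rw [inv_inv]; exact hnx.symm
    obtain ⟨c', ⟨k, hk⟩, hc'x, hc'n⟩ := exists_two_elt_inverting x n⁻¹ hninv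
    have hc'N : c' ∈ Subgroup.normalizer ((S : Subgroup G) : Set G) := by
      have : Subgroup.zpowers n⁻¹ ≤ Subgroup.normalizer ((S : Subgroup G) : Set G) := by
        rw [Subgroup.zpowers_le]; exact Subgroup.inv_mem _ hn
      exact this hc'n
    have hpg : IsPGroup 2 (Subgroup.zpowers c') := by
      apply IsPGroup.of_card (n := k)
      rw [Nat.card_zpowers, hk]
    have hc'S : c' ∈ (S : Subgroup G) := by
      have h1 : c' ∈ Subgroup.zpowers c' ⊓ Subgroup.normalizer ((S : Subgroup G) : Set G) :=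
        ⟨Subgroup.mem_zpowers c', hc'N⟩
      have h2 : c' ∈ Subgroup.zpowers c' ⊓ (S : Subgroup G) := by
        rw [← hpg.inf_normalizer_sylow S]; exact h1
      exact h2.2
    have hcomm := (Subgroup.mem_centralizer_iff.mp hx) c' hc'S
    have hxx : x = x⁻¹ := by
      rw [← hc'x, hcomm]; group
    have hx2 : x ^ 2 = 1 := by
      rw [pow_two]
      nth_rewrite 1 [hxx]
      exact inv_mul_cancel x
    exact orderOf_eq_prime hx2 hx1
  · intro z hz
    obtain ⟨c, hc⟩ := hc z
    have := Subgroup.mem_center_iff.mp hz c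
    have hzz : z = z⁻¹ := by
      rw [← hc, this]; group
    rw [pow_two]
    nth_rewrite 1 [hzz]
    exact inv_mul_cancel z
  · intro x
    obtain ⟨c, hc⟩ := hc x
    have h1 : c * x⁻¹ * c⁻¹ = x := by
      calc c * x⁻¹ * c⁻¹ = (c * x * c⁻¹)⁻¹ := by group
        _ = x := by rw [hc, inv_inv]
    have : x ^ 2 = ⁅x, c⁆ := by
      rw [commutatorElement_def, pow_two]
      nth_rewrite 2 [← h1]
      group
    rw [this]
    exact Subgroup.commutator_mem_commutator (Subgroup.mem_top _) (Subgroup.mem_top _)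
  · rw [eq_top_iff]
    intro x _
    set K := Subgroup.closure {x : G | ∃ k : ℕ, orderOf x = 2 ^ k} with hK
    have hK2 : ∀ y : G, (∃ k : ℕ, orderOf y = 2 ^ k) → y ∈ K := fun y hy => Subgroup.subset_closure hy
    -- odd order elements lie in K
    have hodd : ∀ u : G, Odd (orderOf u) → u ∈ K := by
      intro u hu
      obtain ⟨c, hc⟩ := hc u
      obtain ⟨c', ⟨k, hk⟩, hc'u, _⟩ := exists_two_elt_inverting u c hc
      have h1 : c' * u⁻¹ * c'⁻¹ = u := by
        calc c' * u⁻¹ * c'⁻¹ = (c' * u * c'⁻¹)⁻¹ := by group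
          _ = u := by rw [hc'u, inv_inv]
      have hu2 : u * u = (u * c' * u⁻¹) * c'⁻¹ := by
        nth_rewrite 2 [← h1]
        group
      have h2 : u * u ∈ K := by
        rw [hu2]
        apply Subgroup.mul_mem
        · apply hK2
          refine ⟨k, ?_⟩
          rw [← hk]
          exact MulEquiv.orderOf_eq (MulAut.conj u) c'
        · apply hK2
          exact ⟨k, by rw [orderOf_inv, hk]⟩
      obtain ⟨i, hi⟩ := hu
      have h3 : u = (u * u) ^ (i + 1) := by
        rw [← pow_two, ← pow_mul]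
        have : 2 * (i + 1) = orderOf u + 1 := by omega
        rw [this, pow_succ, pow_orderOf_eq_one, one_mul]
      rw [h3]
      exact Subgroup.pow_mem _ h2 _
    have ho : orderOf x ≠ 0 := (orderOf_pos x).ne'
    obtain ⟨v, m, hm, hvm⟩ := Nat.exists_eq_two_pow_mul_odd ho
    have hm0 : m ≠ 0 := by
      rintro rfl
      simp at hm
    have hcop : Nat.Coprime (2 ^ v) m := Nat.Coprime.pow_left _ (Nat.coprime_two_left.mpr hm)
    have h1 : x ^ m ∈ K := by
      apply hK2
      refine ⟨v, ?_⟩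
      rw [orderOf_pow_of_dvd hm0 ⟨2 ^ v, by rw [hvm, mul_comm]⟩, hvm,
        Nat.mul_div_cancel _ (Nat.pos_of_ne_zero hm0)]
    have h2 : x ^ (2 ^ v) ∈ K := by
      apply hodd
      have hpv0 : 2 ^ v ≠ 0 := pow_ne_zero _ (by norm_num)
      rw [orderOf_pow_of_dvd hpv0 ⟨m, hvm⟩, hvm, Nat.mul_div_cancel_left _ (Nat.pos_of_ne_zero hpv0)]
      exact hm
    have hb := Nat.gcd_eq_gcd_ab (2 ^ v) m
    rw [hcop.gcd_eq_one] at hb
    have hx : x = (x ^ (2 ^ v)) ^ (Nat.gcdA (2 ^ v) m) * (x ^ m) ^ (Nat.gcdB (2 ^ v) m) := by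
      rw [← zpow_natCast, ← zpow_natCast, ← zpow_mul, ← zpow_mul, ← zpow_add, ← hb]
      simp
    rw [hx]
    exact Subgroup.mul_mem _ (Subgroup.zpow_mem _ h2 _) (Subgroup.zpow_mem _ h1 _)

end Cfsg.Agent.S4059
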