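import Mathlib
import Cfsg.Statements.S4060
import Cfsg.Agent.S4059

set_option autoImplicit false
open Cfsg
open scoped commutatorElement

namespace Cfsg.Agent.S4060

/-- a real element centralizing a Sylow 2-subgroup has square one -/
theorem sq_eq_one_of_real_centralizer {G : Type*} [Group G] [Finite G] (S : Sylow 2 G) (x : G)
    (hx : x ∈ Subgroup.centralizer ((S : Subgroup G) : Set G)) (hreal : IsConj x x⁻¹) : x ^ 2 = 1 := by
  have : Fact (Nat.Prime 2) := ⟨Nat.prime_two⟩
  obtain ⟨g, hg⟩ := isConj_iff.mp hreal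
  have hy : g⁻¹⁻¹ * x * g⁻¹ ∈ Subgroup.centralizer ((S : Subgroup G) : Set G) := by
    rw [inv_inv, hg]; exact Subgroup.inv_mem _ hx
  obtain ⟨n, hn, hnx⟩ := Sylow.conj_eq_normalizer_conj_of_mem_centralizer S x g⁻¹ hx hy
  rw [inv_inv, hg] at hnx
  have hninv : n⁻¹ * x * n⁻¹⁻¹ = x⁻¹ := by rw [inv_inv]; exact hnx.symm
  obtain ⟨c', ⟨k, hk⟩, hc'x, hc'n⟩ := Cfsg.Agent.S4059.exists_two_elt_inverting x n⁻¹ hninv
  have hc'N : c' ∈ Subgroup.normalizer ((S : Subgroup G) : Set G) := by
    have : Subgroup.zpowers n⁻¹ ≤ Subgroup.normalizer ((S : Subgroup G) : Set G) := by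
      rw [Subgroup.zpowers_le]; exact Subgroup.inv_mem _ hn
    exact this hc'n
  have hpg : IsPGroup 2 (Subgroup.zpowers c') := by
    apply IsPGroup.of_card (n := k)
    rw [Nat.card_zpowers, hk]
  have hc'S : c' ∈ (S : Subgroup G) := by
    have h1 : c' ∈ Subgroup.zpowers c' ⊓ Subgroup.normalizer ((S : Subgroup G) : Set G) :=
      ⟨Subgroup.mem_zpowers c', hc'N⟩
    have h2 : c' ∈ Subgroup.zpowers c' ⊓ (S : Subgroup G) := by
      rw [← hpg.inf_normalizer_sylow S]; exact h1
    exact h2.2
  have hcomm := (Subgroup.mem_centralizer_iff.mp hx) c' hc'S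
  have hxx : x = x⁻¹ := by
    rw [← hc'x, hcomm]; group
  rw [pow_two]
  nth_rewrite 1 [hxx]
  exact inv_mul_cancel x

theorem main : ∀ (n : ℕ) (G : Type*) [Group G] [Finite G], derivedSeries G n = ⊥ →
    ∀ (S : Sylow 2 G) (x : G), Odd (orderOf x) →
      x ∈ Subgroup.normalizer ((S : Subgroup G) : Set G) → IsConj x x⁻¹ → x = 1 := by
  intro n
  induction n with
  | zero =>
    intro G _ _ h S x _ _ _
    rw [derivedSeries_zero] at h
    have : x ∈ (⊤ : Subgroup G) := Subgroup.mem_top x
    rw [h] at this
    exact Subgroup.mem_bot.mp this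
  | succ n ih =>
    intro G _ _ h S x hodd hnorm hreal
    have : Fact (Nat.Prime 2) := ⟨Nat.prime_two⟩
    set A := derivedSeries G n with hA
    have hAab : ∀ a ∈ A, ∀ b ∈ A, a * b = b * a := by
      rw [derivedSeries_succ, Subgroup.commutator_eq_bot_iff_le_centralizer] at h
      intro a ha b hb
      exact ((Subgroup.mem_centralizer_iff.mp (h ha)) b hb).symm
    -- pass to the quotient
    have hsurj := QuotientGroup.mk'_surjective A
    have hQ : derivedSeries (G ⧸ A) n = ⊥ := by
      rw [← map_derivedSeries_eq hsurj n, ← hA, QuotientGroup.map_mk'_self]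
    have hxA : x ∈ A := by
      have hx1 := ih (G ⧸ A) hQ (S.mapSurjective hsurj) (QuotientGroup.mk' A x) ?_ ?_ ?_
      · rwa [QuotientGroup.mk'_apply, QuotientGroup.eq_one_iff] at hx1
      · exact Odd.of_dvd_nat hodd (orderOf_map_dvd _ x)
      · rw [Sylow.coe_mapSurjective]
        exact Subgroup.le_normalizer_map _ (Subgroup.mem_map_of_mem _ hnorm)
      · rw [← map_inv]
        exact (QuotientGroup.mk' A).map_isConj hreal
    -- x centralizes S
    have hxS : x ∈ Subgroup.centralizer ((S : Subgroup G) : Set G) := by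
      rw [Subgroup.mem_centralizer_iff]
      intro s hs
      have hs' : s ∈ (S : Subgroup G) := hs
      set a := x * s * x⁻¹ * s⁻¹ with ha
      have haS : a ∈ (S : Subgroup G) := by
        have h1 : x * s * x⁻¹ ∈ (S : Subgroup G) := (Subgroup.mem_normalizer_iff.mp hnorm s).mp hs'
        exact Subgroup.mul_mem _ h1 (Subgroup.inv_mem _ hs')
      have haA : a ∈ A := by
        have h1 : s * x⁻¹ * s⁻¹ ∈ A := by
          have := (inferInstance : A.Normal).conj_mem x⁻¹ (Subgroup.inv_mem _ hxA) s
          exact this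
        have : a = x * (s * x⁻¹ * s⁻¹) := by rw [ha]; group
        rw [this]
        exact Subgroup.mul_mem _ hxA h1
      have hxa : x * a = a * x := hAab x hxA a haA
      have hconj : ∀ k : ℕ, x ^ k * s * (x ^ k)⁻¹ = a ^ k * s := by
        intro k
        induction k with
        | zero => simp
        | succ k ihk =>
          have hxak : x * a ^ k = a ^ k * x := ((show Commute x a from hxa).pow_right k).eq
          calc x ^ (k + 1) * s * (x ^ (k + 1))⁻¹ = x * (x ^ k * s * (x ^ k)⁻¹) * x⁻¹ := by
                rw [pow_succ']; group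
            _ = x * (a ^ k * s) * x⁻¹ := by rw [ihk]
            _ = (x * a ^ k) * s * x⁻¹ := by group
            _ = a ^ k * (x * s * x⁻¹ * s⁻¹) * s := by rw [hxak]; group
            _ = a ^ (k + 1) * s := by rw [← ha, pow_succ]
      have ham : a ^ orderOf x = 1 := by
        have := hconj (orderOf x)
        rw [pow_orderOf_eq_one, one_mul, inv_one, mul_one] at this
        exact (mul_eq_right.mp this.symm)
      obtain ⟨j, hj⟩ := (IsPGroup.iff_orderOf.mp S.2) ⟨a, haS⟩
      have hoa : orderOf a = 2 ^ j := by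
        rw [← hj, Subgroup.orderOf_mk]
      have hdvd : orderOf a ∣ orderOf x := orderOf_dvd_of_pow_eq_one ham
      have hodda : Odd (orderOf a) := Odd.of_dvd_nat hodd hdvd
      have ha1 : a = 1 := by
        rw [← orderOf_eq_one_iff, hoa]
        rw [hoa] at hodda
        rcases Nat.eq_zero_or_pos j with hj0 | hj0
        · rw [hj0, pow_zero]
        · exfalso
          have : Even (2 ^ j) := (Nat.even_pow.mpr ⟨even_two, hj0.ne'⟩)
          exact (Nat.not_even_iff_odd.mpr hodda) this
      have : x * s * x⁻¹ * s⁻¹ = 1 := by rw [← ha, ha1]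
      have h5 : x * s = s * x := by
        calc x * s = (x * s * x⁻¹ * s⁻¹) * (s * x) := by group
          _ = s * x := by rw [this, one_mul]
      exact h5.symm
    have hx2 := sq_eq_one_of_real_centralizer S x hxS hreal
    have hdvd : orderOf x ∣ 2 := orderOf_dvd_of_pow_eq_one hx2
    have : orderOf x = 1 := by
      rcases (Nat.dvd_prime Nat.prime_two).mp hdvd with h1 | h2
      · exact h1
      · rw [h2] at hodd
        exact absurd hodd (by decide)
    exact orderOf_eq_one_iff.mp this

/-- Let G be a finite solvable group with Sylow 2-subgroup S, and let x ≠ 1 be an element of odd order normalizing S. Then x is not conjugate to its inverse in G. -/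
theorem result {G : Type*} [Group G] [Finite G] [Group.IsSolvable G]
    (S : Sylow 2 G) (x : G) (hx : x ≠ 1) (hodd : Odd (orderOf x))
    (hnorm : x ∈ Subgroup.normalizer ((S : Subgroup G) : Set G)) : ¬ IsConj x x⁻¹ := by
  intro hreal
  obtain ⟨n, hn⟩ := (Group.isSolvable_def G).mp inferInstance
  exact hx (main n G hn S x hodd hnorm hreal)

end Cfsg.Agent.S4060
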