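import Cfsg.Statements.S4061
import Mathlib
import Cfsg.Agent.Lib_helper6_RealSolv

set_option autoImplicit false
open Cfsg

namespace Cfsg.Agent.S4061

/-- Let G be a finite solvable group of even order in which every element is conjugate to its inverse and all involutions are conjugate. Then a Sylow 2-subgroup S of G has order 2 or is a generalized quaternion group (of order at least 8). Moreover, if S has order 2, then G is the semidirect product of its largest normal subgroup of odd order O(G) by S, O(G) equals the derived subgroup of G, and the involution of S inverts every element of O(G). -/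
theorem result {G : Type*} [Group G] [Finite G] [Group.IsSolvable G]
    (hamb : ∀ x : G, IsConj x x⁻¹) (heven : 2 ∣ Nat.card G) (hone : ∀ s t : G, orderOf s = 2 → orderOf t = 2 → IsConj s t) (S : Sylow 2 G) :
    (Nat.card S = 2 ∨ ∃ n : ℕ, Nonempty ((S : Subgroup G) ≃* QuaternionGroup (2 ^ (n + 1)))) ∧
    (Nat.card S = 2 → (S : Subgroup G).IsComplement' (Cfsg.oddCore G) ∧ Cfsg.oddCore G = commutator G ∧
        ∀ t : G, t ∈ S → t ≠ 1 → ∀ x : G, x ∈ Cfsg.oddCore G → t * x * t⁻¹ = x⁻¹) := by
  classical
  haveI : Fact (Nat.Prime 2) := ⟨Nat.prime_two⟩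
  have hK := Cfsg.Agent.helper6.RealSolv.comm_invol_eq hamb hone
  constructor
  · rcases Cfsg.Agent.helper6.RealSolv.sylow_structure' heven hK S with hc | ⟨m, ⟨e⟩⟩
    · left
      have hsq := Cfsg.Agent.helper6.RealSolv.sq_eq_one_of_cyclic hamb heven S hc
      obtain ⟨c, hcgen⟩ := hc.exists_generator
      have hcard : orderOf c = Nat.card ↥(S : Subgroup G) :=
        orderOf_eq_card_of_forall_mem_zpowers hcgen
      have hd : orderOf c ∣ 2 := by
        apply orderOf_dvd_of_pow_eq_one
        rw [pow_two]
        exact Subtype.ext (hsq c c.2)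
      have hne : (S : Subgroup G) ≠ ⊥ := S.ne_bot_of_dvd_card heven
      have hne1 : Nat.card ↥(S : Subgroup G) ≠ 1 := by
        intro h1
        exact hne (Subgroup.card_eq_one.mp h1)
      rw [hcard] at hd
      rcases (Nat.dvd_prime Nat.prime_two).mp hd with h | h
      · exact absurd h hne1
      · exact h
    · right
      exact ⟨m, ⟨e⟩⟩
  · intro h2
    exact Cfsg.Agent.helper6.RealSolv.order_two_case hamb S h2

end Cfsg.Agent.S4061
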