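import Cfsg.Statements.S4062
import Cfsg.Agent.Lib_helper2_PermIso
import Mathlib

set_option autoImplicit false
open Cfsg
open scoped commutatorElement

namespace Cfsg.Agent.S4062

theorem mem_of_pow_mem_of_coprime {G : Type*} [Group G] (L : Subgroup G) (y : G) (a b : ℕ)
    (hab : Nat.Coprime a b) (ha : y ^ a ∈ L) (hb : y ^ b ∈ L) : y ∈ L := by
  have h0 := Nat.gcd_eq_gcd_ab a b
  rw [Nat.Coprime.gcd_eq_one hab] at h0
  have h1 : y ^ ((a : ℤ) * Nat.gcdA a b + (b : ℤ) * Nat.gcdB a b) = y := by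
    rw [← h0]; simp
  rw [← h1, zpow_add, zpow_mul, zpow_mul, zpow_natCast, zpow_natCast]
  exact L.mul_mem (L.zpow_mem ha _) (L.zpow_mem hb _)

theorem p_part {G : Type*} [Group G] [Finite G] (p : ℕ) (hp : p.Prime) (Y : Subgroup G) (a : G)
    (haY : a ∉ Y) (hap : a ^ p ∈ Y) :
    ∃ (m e : ℕ), ¬ p ∣ m ∧ orderOf (a ^ m) = p ^ e ∧ a ^ m ∉ Y := by
  have hn0 : orderOf a ≠ 0 := (orderOf_pos a).ne'
  obtain ⟨e, m, hpm, hn⟩ := Nat.exists_eq_pow_mul_and_not_dvd hn0 p hp.ne_one
  have hm0 : m ≠ 0 := fun h0 => hpm (h0 ▸ dvd_zero p)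
  refine ⟨m, e, hpm, ?_, ?_⟩
  · rw [orderOf_pow_of_dvd hm0 ⟨p ^ e, by rw [hn, mul_comm]⟩, hn,
      Nat.mul_div_cancel _ (Nat.pos_of_ne_zero hm0)]
  · intro hmem
    exact haY (mem_of_pow_mem_of_coprime Y a m p ((hp.coprime_iff_not_dvd.2 hpm).symm) hmem hap)

theorem key_lt {G : Type*} [Group G] [Finite G]
    (h : ∀ x y : G, orderOf x = orderOf y → IsConj x y)
    (N : Subgroup G) [hN : N.Normal] (p : ℕ) (hp : p.Prime) (u v : G) (i j : ℕ)
    (hu : orderOf u = p ^ i) (hv : orderOf v = p ^ j) (hu1 : u ∉ N) (hvp : v ^ p ∈ N)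
    (hij : i < j) : False := by
  have hpos : 0 < p := hp.pos
  have hd : p ^ (j - i) ∣ orderOf v := by rw [hv]; exact pow_dvd_pow p (Nat.sub_le j i)
  have ho : orderOf (v ^ (p ^ (j - i))) = p ^ i := by
    rw [orderOf_pow_of_dvd (pow_pos hpos _).ne' hd, hv, Nat.pow_div (Nat.sub_le j i) hpos]
    congr 1; omega
  obtain ⟨c, hc⟩ := isConj_iff.1 (h u _ (hu.trans ho.symm))
  have hmem : v ^ (p ^ (j - i)) ∈ N := by
    have e1 : p ^ (j - i) = p * p ^ (j - i - 1) := by
      rw [← pow_succ']; congr 1; omega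
    rw [e1, pow_mul]; exact N.pow_mem hvp _
  apply hu1
  have e2 : u = c⁻¹ * (v ^ (p ^ (j - i))) * c⁻¹⁻¹ := by rw [← hc]; group
  rw [e2]; exact hN.conj_mem _ hmem _

theorem key_conj {G : Type*} [Group G] [Finite G]
    (h : ∀ x y : G, orderOf x = orderOf y → IsConj x y)
    (N : Subgroup G) [hN : N.Normal] (p : ℕ) (hp : p.Prime) (u v : G) (i j : ℕ)
    (hu : orderOf u = p ^ i) (hv : orderOf v = p ^ j) (hu1 : u ∉ N) (hv1 : v ∉ N)
    (hup : u ^ p ∈ N) (hvp : v ^ p ∈ N) : IsConj u v := by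
  rcases lt_trichotomy i j with hij | hij | hij
  · exact (key_lt h N p hp u v i j hu hv hu1 hvp hij).elim
  · exact h u v (by rw [hu, hv, hij])
  · exact (key_lt h N p hp v u j i hv hu hv1 hup hij).elim

theorem sq_mem {G : Type*} [Group G] (h : ∀ x y : G, orderOf x = orderOf y → IsConj x y) (g : G) :
    g ^ 2 ∈ commutator G := by
  obtain ⟨c, hc⟩ := isConj_iff.1 (h g g⁻¹ (orderOf_inv g).symm)
  have h1 : (g ^ 2)⁻¹ = ⁅c, g⁆ := by
    rw [commutatorElement_def, hc]; group
  have h2 : ⁅c, g⁆ ∈ commutator G := by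
    show ⁅c, g⁆ ∈ ⁅(⊤ : Subgroup G), ⊤⁆
    exact Subgroup.commutator_mem_commutator (Subgroup.mem_top c) (Subgroup.mem_top g)
  rw [← h1] at h2
  exact (Subgroup.inv_mem_iff _).1 h2

theorem mk_eq_one_iff {G : Type*} [Group G] (L : Subgroup G) [L.Normal] (g : G) :
    QuotientGroup.mk' L g = 1 ↔ g ∈ L := by
  rw [← MonoidHom.mem_ker, QuotientGroup.ker_mk']

theorem mk_eq_iff {G : Type*} [Group G] (L : Subgroup G) [L.Normal] (a b : G) :
    QuotientGroup.mk' L a = QuotientGroup.mk' L b ↔ a⁻¹ * b ∈ L := by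
  rw [← mk_eq_one_iff, map_mul, map_inv, inv_mul_eq_one]

theorem two_part {G : Type*} [Group G] [Finite G]
    (h : ∀ x y : G, orderOf x = orderOf y → IsConj x y) (g : G) (hg : g ∉ commutator G) :
    ∃ (u : G) (i : ℕ), orderOf u = 2 ^ i ∧ u ∉ commutator G ∧ g⁻¹ * u ∈ commutator G := by
  obtain ⟨m, e, hpm, ho, hY⟩ := p_part 2 Nat.prime_two (commutator G) g hg (sq_mem h g)
  refine ⟨g ^ m, e, ho, hY, ?_⟩
  have hodd : m % 2 = 1 := by omega
  have hm : m = 2 * (m / 2) + 1 := by omega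
  have e1 : g⁻¹ * g ^ m = (g ^ 2) ^ (m / 2) := by
    conv_lhs => rw [hm]
    rw [pow_succ', inv_mul_cancel_left, pow_mul]
  rw [e1]
  exact Subgroup.pow_mem _ (sq_mem h g) _

theorem mul_mem_commutator_of_not_mem {G : Type*} [Group G] [Finite G]
    (h : ∀ x y : G, orderOf x = orderOf y → IsConj x y) (x y : G)
    (hx : x ∉ commutator G) (hy : y ∉ commutator G) : x * y ∈ commutator G := by
  obtain ⟨u, i, hu, huH, hux⟩ := two_part h x hx
  obtain ⟨v, j, hv, hvH, hvy⟩ := two_part h y hy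
  have huv : IsConj u v := key_conj h (commutator G) 2 Nat.prime_two u v i j hu hv huH hvH
    (sq_mem h u) (sq_mem h v)
  obtain ⟨c, hc⟩ := isConj_iff.1 huv
  have e1 : QuotientGroup.mk' (commutator G) x = QuotientGroup.mk' (commutator G) u :=
    (mk_eq_iff _ _ _).2 hux
  have e2 : QuotientGroup.mk' (commutator G) y = QuotientGroup.mk' (commutator G) v :=
    (mk_eq_iff _ _ _).2 hvy
  have e3 : QuotientGroup.mk' (commutator G) u = QuotientGroup.mk' (commutator G) v := by
    apply (mk_eq_iff _ _ _).2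
    rw [← hc]
    have e : u⁻¹ * (c * u * c⁻¹) = ⁅u⁻¹, c⁆ := by rw [commutatorElement_def, inv_inv]; group
    rw [e]
    show ⁅u⁻¹, c⁆ ∈ ⁅(⊤ : Subgroup G), ⊤⁆
    exact Subgroup.commutator_mem_commutator (Subgroup.mem_top _) (Subgroup.mem_top _)
  have e4 : QuotientGroup.mk' (commutator G) (u ^ 2) = 1 := (mk_eq_one_iff _ _).2 (sq_mem h u)
  apply (mk_eq_one_iff (commutator G) (x * y)).1
  rw [map_mul, e1, e2, ← e3, ← map_mul, ← pow_two]; exact e4

theorem index_commutator {G : Type*} [Group G] [Finite G]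
    (h : ∀ x y : G, orderOf x = orderOf y → IsConj x y) (hne : commutator G ≠ ⊤) :
    (commutator G).index = 2 := by
  rw [Subgroup.index_eq_two_iff]
  obtain ⟨a, ha⟩ : ∃ a, a ∉ commutator G := by
    by_contra hcon; push Not at hcon; exact hne (eq_top_iff.2 (fun x _ => hcon x))
  refine ⟨a, fun b => ?_⟩
  by_cases hb : b ∈ commutator G
  · refine Or.inr ⟨hb, fun hba => ha ?_⟩
    have := (commutator G).mul_mem ((commutator G).inv_mem hb) hba
    simpa using this
  · exact Or.inl ⟨mul_mem_commutator_of_not_mem h b a hb ha, hb⟩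

theorem lift_pelt {G : Type*} [Group G] [Finite G] (L : Subgroup G) [L.Normal] (p : ℕ)
    (hp : p.Prime) (q : G ⧸ L) (k : ℕ) (hq : orderOf q = p ^ k) :
    ∃ (g : G) (j : ℕ), (QuotientGroup.mk' L) g = q ∧ orderOf g = p ^ j := by
  obtain ⟨g0, rfl⟩ := QuotientGroup.mk'_surjective L q
  have hn0 : orderOf g0 ≠ 0 := (orderOf_pos g0).ne'
  obtain ⟨e, m, hpm, hn⟩ := Nat.exists_eq_pow_mul_and_not_dvd hn0 p hp.ne_one
  have hcop : Nat.Coprime m (orderOf ((QuotientGroup.mk' L) g0)) := by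
    rw [hq]; exact Nat.Coprime.pow_right k ((hp.coprime_iff_not_dvd.2 hpm).symm)
  obtain ⟨m', hm'⟩ := exists_pow_eq_self_of_coprime hcop
  have h1 : ((g0 ^ m) ^ m') ^ (p ^ e) = 1 := by
    rw [← pow_mul, ← pow_mul]
    have e1 : m * (m' * p ^ e) = orderOf g0 * m' := by rw [hn]; ring
    rw [e1, pow_mul, pow_orderOf_eq_one, one_pow]
  obtain ⟨j, _, hj⟩ := (Nat.dvd_prime_pow hp).1 (orderOf_dvd_of_pow_eq_one h1)
  refine ⟨(g0 ^ m) ^ m', j, ?_, hj⟩
  rw [map_pow, map_pow]; exact hm'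

theorem class_count {Q : Type*} [Group Q] [Finite Q] (X Y : Subgroup Q) (x : Q)
    (hconj : ∀ d ∈ X, d ∉ Y → IsConj x d) :
    (Nat.card ↥X - Nat.card ↥Y) * Nat.card ↥(Subgroup.centralizer ({x} : Set Q)) ≤ Nat.card Q := by
  classical
  let D : Set Q := {d | d ∈ X ∧ d ∉ Y}
  have hD : Nat.card ↥D ≤ (Subgroup.centralizer ({x} : Set Q)).index := by
    rw [Subgroup.index_eq_card]
    have hch : ∀ d : ↥D, ∃ c : Q, c * x * c⁻¹ = (d : Q) :=
      fun d => isConj_iff.1 (hconj d.1 d.2.1 d.2.2)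
    choose f hf using hch
    apply Nat.card_le_card_of_injective
      (fun d => (QuotientGroup.mk (f d) : Q ⧸ Subgroup.centralizer ({x} : Set Q)))
    intro d1 d2 h12
    have hmem := QuotientGroup.eq.1 h12
    have hc := (Subgroup.mem_centralizer_iff.1 hmem) x (Set.mem_singleton x)
    have e1 : (f d1)⁻¹ * f d2 * x * ((f d1)⁻¹ * f d2)⁻¹ = x := by
      rw [← hc, mul_inv_cancel_right]
    apply Subtype.ext
    rw [← hf d1, ← hf d2]
    calc f d1 * x * (f d1)⁻¹
        = f d1 * ((f d1)⁻¹ * f d2 * x * ((f d1)⁻¹ * f d2)⁻¹) * (f d1)⁻¹ := by rw [e1]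
      _ = f d2 * x * (f d2)⁻¹ := by group
  have hXY : Nat.card ↥X ≤ Nat.card ↥Y + Nat.card ↥D := by
    have hsub : (X : Set Q) ⊆ (Y : Set Q) ∪ D := by
      intro z hz
      by_cases hzY : z ∈ Y
      · exact Or.inl hzY
      · exact Or.inr ⟨hz, hzY⟩
    have h1 := Set.ncard_le_ncard hsub (Set.toFinite _)
    have h2 := Set.ncard_union_le (Y : Set Q) D
    have e1 : Nat.card ↥X = (X : Set Q).ncard := Nat.card_coe_set_eq _
    have e2 : Nat.card ↥Y = (Y : Set Q).ncard := Nat.card_coe_set_eq _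
    have e3 : Nat.card ↥D = D.ncard := Nat.card_coe_set_eq _
    omega
  have hci := (Subgroup.centralizer ({x} : Set Q)).card_mul_index
  calc (Nat.card ↥X - Nat.card ↥Y) * Nat.card ↥(Subgroup.centralizer ({x} : Set Q))
      ≤ (Subgroup.centralizer ({x} : Set Q)).index *
          Nat.card ↥(Subgroup.centralizer ({x} : Set Q)) :=
        Nat.mul_le_mul_right _ (by omega)
    _ = Nat.card Q := by rw [mul_comm]; exact hci

theorem card_map_mk {G : Type*} [Group G] [Finite G] (L X : Subgroup G) [L.Normal]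
    (hLX : L ≤ X) : Nat.card ↥(X.map (QuotientGroup.mk' L)) = L.relIndex X := by
  have hidx : (X.map (QuotientGroup.mk' L)).index = X.index := by
    rw [← Subgroup.index_comap_of_surjective _ (QuotientGroup.mk'_surjective L),
      Subgroup.comap_map_eq, QuotientGroup.ker_mk', sup_eq_left.2 hLX]
  have h1 := (X.map (QuotientGroup.mk' L)).card_mul_index
  rw [hidx, ← Subgroup.index_eq_card, ← Subgroup.relIndex_mul_index hLX] at h1
  exact Nat.eq_of_mul_eq_mul_right (Nat.pos_of_ne_zero Subgroup.index_ne_zero_of_finite) h1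

theorem count_bound {G : Type*} [Group G] [Finite G]
    (h : ∀ x y : G, orderOf x = orderOf y → IsConj x y) (p : ℕ) (hp : p.Prime)
    (L Y X : Subgroup G) [hL : L.Normal] [hY : Y.Normal] (hLY : L ≤ Y) (hYX : Y ≤ X)
    (hpow : ∀ d ∈ X, d ^ p ∈ Y) (hpow2 : ∀ d ∈ X, d ∉ Y → d ^ (p ^ 2) ∈ L)
    (x : G) (hxY : x ∉ Y) (i : ℕ) (hxo : orderOf x = p ^ i) (hxX : x ∈ X) :
    (L.relIndex X - L.relIndex Y) *
      Nat.card ↥(Subgroup.centralizer ({QuotientGroup.mk' L x} : Set (G ⧸ L))) ≤ L.index := by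
  have hLX : L ≤ X := hLY.trans hYX
  have hconj : ∀ d ∈ X.map (QuotientGroup.mk' L), d ∉ Y.map (QuotientGroup.mk' L) →
      IsConj (QuotientGroup.mk' L x) d := by
    intro d hdX hdY
    obtain ⟨d0, hd0X, rfl⟩ := Subgroup.mem_map.1 hdX
    have hd0Y : d0 ∉ Y := fun hh => hdY (Subgroup.mem_map_of_mem _ hh)
    have hord : (QuotientGroup.mk' L d0) ^ (p ^ 2) = 1 := by
      rw [← map_pow, mk_eq_one_iff]; exact hpow2 d0 hd0X hd0Y
    obtain ⟨k, _, hk⟩ := (Nat.dvd_prime_pow hp).1 (orderOf_dvd_of_pow_eq_one hord)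
    obtain ⟨d, j, hd, hdo⟩ := lift_pelt L p hp _ k hk
    have hdX' : d ∈ X := by
      have h1 : d0⁻¹ * d ∈ L := (mk_eq_iff L d0 d).1 hd.symm
      have h2 := X.mul_mem hd0X (hLX h1)
      simpa using h2
    have hdY' : d ∉ Y := fun hh => hdY (hd ▸ Subgroup.mem_map_of_mem _ hh)
    have hc : IsConj x d := key_conj h Y p hp x d i j hxo hdo hxY hdY' (hpow x hxX) (hpow d hdX')
    rw [← hd]
    exact (QuotientGroup.mk' L).map_isConj hc
  have key := class_count (X.map (QuotientGroup.mk' L)) (Y.map (QuotientGroup.mk' L))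
    (QuotientGroup.mk' L x) hconj
  rwa [card_map_mk L X hLX, card_map_mk L Y hLY, ← Subgroup.index_eq_card] at key

theorem card_centralizer_ge {Q : Type*} [Group Q] [Finite Q] (p : ℕ) [hp : Fact p.Prime]
    (P : Subgroup Q) (hP : IsPGroup p ↥P) (x : Q) (hx : x ∈ P) (hcard : p < Nat.card ↥P) :
    p ^ 2 ≤ Nat.card ↥(Subgroup.centralizer ({x} : Set Q)) := by
  have hp1 : 1 < p := hp.out.one_lt
  have hCle : Nat.card ↥(Subgroup.centralizer ({(⟨x, hx⟩ : ↥P)} : Set ↥P)) ≤
      Nat.card ↥(Subgroup.centralizer ({x} : Set Q)) := by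
    rw [← Subgroup.card_map_of_injective P.subtype_injective]
    apply Subgroup.card_le_of_le
    intro z hz
    obtain ⟨z0, hz0, rfl⟩ := Subgroup.mem_map.1 hz
    rw [Subgroup.mem_centralizer_iff] at hz0 ⊢
    intro w hw
    rw [Set.mem_singleton_iff] at hw
    subst hw
    have := hz0 ⟨w, hx⟩ (Set.mem_singleton _)
    exact congrArg Subtype.val this
  have hC'p : IsPGroup p ↥(Subgroup.centralizer ({(⟨x, hx⟩ : ↥P)} : Set ↥P)) := hP.to_subgroup _
  obtain ⟨a, ha⟩ := IsPGroup.iff_card.1 hC'p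
  haveI : Nontrivial ↥P := by
    rw [← Finite.one_lt_card_iff_nontrivial]; omega
  haveI hZnt : Nontrivial ↥(Subgroup.center ↥P) := hP.center_nontrivial
  have hZp : IsPGroup p ↥(Subgroup.center ↥P) := hP.to_subgroup _
  obtain ⟨b, hb⟩ := IsPGroup.iff_card.1 hZp
  have hb1 : 1 ≤ b := by
    rcases Nat.eq_zero_or_pos b with h0 | h0
    · rw [h0, pow_zero] at hb
      have := Finite.one_lt_card_iff_nontrivial.2 hZnt
      omega
    · exact h0
  have hZC : Subgroup.center ↥P ≤ Subgroup.centralizer ({(⟨x, hx⟩ : ↥P)} : Set ↥P) :=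
    Subgroup.center_le_centralizer _
  have ha2 : 2 ≤ a := by
    by_contra hlt
    have ha1 : a ≤ 1 := by omega
    have hle : Nat.card ↥(Subgroup.centralizer ({(⟨x, hx⟩ : ↥P)} : Set ↥P)) ≤
        Nat.card ↥(Subgroup.center ↥P) := by
      rw [ha, hb]
      exact le_trans (Nat.pow_le_pow_right hp.out.pos ha1) (Nat.pow_le_pow_right hp.out.pos hb1)
    have heq := Subgroup.eq_of_le_of_card_ge hZC hle
    have hxC : (⟨x, hx⟩ : ↥P) ∈ Subgroup.centralizer ({(⟨x, hx⟩ : ↥P)} : Set ↥P) := by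
      rw [Subgroup.mem_centralizer_iff]
      intro w hw
      rw [Set.mem_singleton_iff] at hw
      rw [hw]
    rw [← heq] at hxC
    have htop : Subgroup.centralizer ({(⟨x, hx⟩ : ↥P)} : Set ↥P) = ⊤ := by
      rw [Subgroup.centralizer_eq_top_iff_subset]
      intro w hw
      rw [Set.mem_singleton_iff] at hw
      rw [hw]; exact hxC
    have hcc : Nat.card ↥(Subgroup.centralizer ({(⟨x, hx⟩ : ↥P)} : Set ↥P)) = Nat.card ↥P := by
      rw [htop, Subgroup.card_top]
    rw [ha] at hcc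
    have : p ^ a ≤ p ^ 1 := Nat.pow_le_pow_right hp.out.pos ha1
    rw [pow_one] at this
    omega
  calc p ^ 2 ≤ p ^ a := Nat.pow_le_pow_right hp.out.pos ha2
    _ = _ := ha.symm
    _ ≤ _ := hCle

theorem isPGroup_map_of_pow {G : Type*} [Group G] (p n : ℕ) (L X : Subgroup G) [L.Normal]
    (hX : ∀ d ∈ X, d ^ (p ^ n) ∈ L) : IsPGroup p ↥(X.map (QuotientGroup.mk' L)) := by
  rintro ⟨b, hb⟩
  obtain ⟨b1, hb1, rfl⟩ := Subgroup.mem_map.1 hb
  refine ⟨n, Subtype.ext ?_⟩
  rw [Subgroup.coe_pow, Subgroup.coe_one]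
  show (QuotientGroup.mk' L b1) ^ (p ^ n) = 1
  rw [← map_pow, mk_eq_one_iff]; exact hX b1 hb1

theorem commutator_le_of_comm {G : Type*} [Group G] (M : Subgroup G) [M.Normal]
    (hc : ∀ a b : G ⧸ M, a * b = b * a) : commutator G ≤ M := by
  show ⁅(⊤ : Subgroup G), ⊤⁆ ≤ M
  rw [Subgroup.commutator_le]
  intro a _ b _
  rw [← mk_eq_one_iff, map_commutatorElement]
  exact commutatorElement_eq_one_iff_mul_comm.2 (hc _ _)

theorem sq_or_cube_of_card_six {Q : Type*} [Group Q] (h6 : Nat.card Q = 6)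
    (hnc : ∃ a b : Q, a * b ≠ b * a) (q : Q) : q ^ 2 = 1 ∨ q ^ 3 = 1 := by
  haveI : Finite Q := Nat.finite_of_card_ne_zero (by omega)
  have hd : orderOf q ∣ 6 := h6 ▸ orderOf_dvd_natCard q
  have hne6 : orderOf q ≠ 6 := by
    intro h
    have hc : IsCyclic Q := isCyclic_of_orderOf_eq_card q (by rw [h, h6])
    obtain ⟨a, b, hab⟩ := hnc
    obtain ⟨g, hg⟩ := hc.exists_generator
    obtain ⟨i, rfl⟩ := Subgroup.mem_zpowers_iff.1 (hg a)
    obtain ⟨j, rfl⟩ := Subgroup.mem_zpowers_iff.1 (hg b)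
    exact hab (zpow_mul_comm g i j)
  have hpow := pow_orderOf_eq_one q
  have hle : orderOf q ≤ 6 := Nat.le_of_dvd (by norm_num) hd
  have hpos := orderOf_pos q
  obtain ⟨n, hn⟩ : ∃ n, n = orderOf q := ⟨_, rfl⟩
  rw [← hn] at hd hne6 hpow hle hpos
  interval_cases n
  · left; rw [pow_one] at hpow; rw [hpow, one_pow]
  · left; exact hpow
  · right; exact hpow
  · omega
  · omega
  · exact absurd rfl hne6

theorem exists_chief_like {G : Type*} [Group G] [Finite G] [Group.IsSolvable G]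
    (N : Subgroup G) [hNn : N.Normal] (hN : N ≠ ⊥) :
    ∃ (p : ℕ) (L : Subgroup G), p.Prime ∧ L.Normal ∧ L ≤ N ∧ (∃ a ∈ N, a ∉ L) ∧
      (∀ a ∈ N, ∀ b ∈ N, a * b * a⁻¹ * b⁻¹ ∈ L) ∧ (∀ a ∈ N, a ^ p ∈ L) := by
  classical
  haveI : Nontrivial ↥N := (Subgroup.nontrivial_iff_ne_bot N).2 hN
  have hlt : commutator ↥N < ⊤ := Group.IsSolvable.commutator_lt_top_of_nontrivial ↥N
  haveI : Finite (Abelianization ↥N) := by
    show Finite (↥N ⧸ commutator ↥N); infer_instance
  haveI : Nontrivial (Abelianization ↥N) := by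
    by_contra hnt
    rw [not_nontrivial_iff_subsingleton] at hnt
    exact hlt.ne (QuotientGroup.subgroup_eq_top_of_subsingleton _ hnt)
  have h1lt : 1 < Nat.card (Abelianization ↥N) := Finite.one_lt_card_iff_nontrivial.2 inferInstance
  have hp : (Nat.card (Abelianization ↥N)).minFac.Prime := Nat.minFac_prime (ne_of_gt h1lt)
  have hpd : (Nat.card (Abelianization ↥N)).minFac ∣ Nat.card (Abelianization ↥N) :=
    Nat.minFac_dvd _
  generalize (Nat.card (Abelianization ↥N)).minFac = p at hp hpd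
  haveI : Fact p.Prime := ⟨hp⟩
  obtain ⟨z, hz⟩ := exists_prime_orderOf_dvd_card' p hpd
  have hninj : ¬ Function.Injective (fun w : Abelianization ↥N => w ^ p) := by
    intro hinj
    have hz1 : z = 1 := hinj (by simp only [one_pow]; rw [← hz]; exact pow_orderOf_eq_one z)
    rw [hz1, orderOf_one] at hz
    exact hp.one_lt.ne hz
  have hnsurj : ¬ Function.Surjective (fun w : Abelianization ↥N => w ^ p) :=
    fun hs => hninj (Finite.injective_iff_surjective.2 hs)
  obtain ⟨y, hy⟩ : ∃ y : Abelianization ↥N, ∀ w : Abelianization ↥N, w ^ p ≠ y := by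
    by_contra hcon; push Not at hcon; exact hnsurj (fun y => hcon y)
  obtain ⟨a', ha'⟩ : ∃ a' : ↥N, Abelianization.of a' = y := QuotientGroup.mk_surjective y
  -- the comparison subgroup
  let S : Subgroup G :=
    (((powMonoidHom p : Abelianization ↥N →* Abelianization ↥N).range).comap
      Abelianization.of).map N.subtype
  have hS : ∀ b : ↥N, (∃ w : Abelianization ↥N, w ^ p = Abelianization.of b) → (b : G) ∈ S := by
    intro b hb
    obtain ⟨w, hw⟩ := hb
    exact Subgroup.mem_map.2 ⟨b, Subgroup.mem_comap.2 (MonoidHom.mem_range.2 ⟨w, hw⟩), rfl⟩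
  have hS' : ∀ g ∈ S, ∃ b : ↥N, (∃ w : Abelianization ↥N, w ^ p = Abelianization.of b) ∧
      (b : G) = g := by
    intro g hg
    obtain ⟨b, hb, hbg⟩ := Subgroup.mem_map.1 hg
    obtain ⟨w, hw⟩ := MonoidHom.mem_range.1 (Subgroup.mem_comap.1 hb)
    exact ⟨b, ⟨w, hw⟩, hbg⟩
  have hKS : ⁅N, N⁆ ≤ S := by
    rw [Subgroup.commutator_le]
    intro a ha b hb
    have := hS ⁅(⟨a, ha⟩ : ↥N), ⟨b, hb⟩⁆ ⟨1, by
      rw [one_pow, map_commutatorElement]
      exact (commutatorElement_eq_one_iff_mul_comm.2 (mul_comm _ _)).symm⟩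
    exact this
  have hPS : Subgroup.normalClosure {x : G | ∃ a ∈ N, a ^ p = x} ≤ S := by
    show Subgroup.closure (Group.conjugatesOfSet {x : G | ∃ a ∈ N, a ^ p = x}) ≤ S
    rw [Subgroup.closure_le]
    intro g hg
    obtain ⟨x, ⟨a, ha, rfl⟩, hconj⟩ := Group.mem_conjugatesOfSet_iff.1 hg
    obtain ⟨c, rfl⟩ := isConj_iff.1 hconj
    rw [← conj_pow]
    have hca : c * a * c⁻¹ ∈ N := hNn.conj_mem a ha c
    exact hS ((⟨c * a * c⁻¹, hca⟩ : ↥N) ^ p)
      ⟨Abelianization.of (⟨c * a * c⁻¹, hca⟩ : ↥N), (map_pow _ _ _).symm⟩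
  have hLS : ⁅N, N⁆ ⊔ Subgroup.normalClosure {x : G | ∃ a ∈ N, a ^ p = x} ≤ S := sup_le hKS hPS
  refine ⟨p, ⁅N, N⁆ ⊔ Subgroup.normalClosure {x : G | ∃ a ∈ N, a ^ p = x}, hp, inferInstance,
    ?_, ?_, ?_, ?_⟩
  · apply sup_le (Subgroup.commutator_le_left N N)
    apply Subgroup.normalClosure_le_normal
    rintro x ⟨a, ha, rfl⟩
    exact N.pow_mem ha p
  · refine ⟨a', a'.2, fun hmem => ?_⟩
    obtain ⟨b, ⟨w, hw⟩, hb⟩ := hS' _ (hLS hmem)
    have hba : b = a' := Subtype.ext hb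
    rw [hba] at hw
    exact hy w (hw.trans ha')
  · intro a ha b hb
    rw [← commutatorElement_def]
    exact (le_sup_left : ⁅N, N⁆ ≤ _) (Subgroup.commutator_mem_commutator ha hb)
  · intro a ha
    exact (le_sup_right : Subgroup.normalClosure {x : G | ∃ a ∈ N, a ^ p = x} ≤ _)
      (Subgroup.subset_normalClosure ⟨a, ha, rfl⟩)

/-- A finite solvable group in which any two elements of the same order are conjugate has order 1 or 2 or is isomorphic to the symmetric group of degree 3. -/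
theorem result {G : Type*} [Group G] [Finite G] [Group.IsSolvable G]
    (h : ∀ x y : G, orderOf x = orderOf y → IsConj x y) :
    Nat.card G = 1 ∨ Nat.card G = 2 ∨ Nonempty (G ≃* Equiv.Perm (Fin 3)) := by
  classical
  by_cases hG1 : Nat.card G = 1
  · exact Or.inl hG1
  haveI : Nontrivial G := by
    rw [← Finite.one_lt_card_iff_nontrivial]
    have : Nat.card G ≠ 0 := Nat.card_pos.ne'
    omega
  have hHtop : commutator G ≠ ⊤ := (Group.IsSolvable.commutator_lt_top_of_nontrivial G).ne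
  have hHidx : (commutator G).index = 2 := index_commutator h hHtop
  by_cases hHbot : commutator G = ⊥
  · right; left
    have := (commutator G).card_mul_index
    rw [hHidx, hHbot, Subgroup.card_bot] at this
    omega
  right; right
  -- Step 2
  obtain ⟨p, M, hp, hMn, hMH, ⟨a0, ha0H, ha0M⟩, hMc, hMp⟩ :=
    exists_chief_like (commutator G) hHbot
  haveI := hMn
  obtain ⟨m0, e0, hpm0, hx0o, hx0M⟩ := p_part p hp M a0 ha0M (hMp a0 ha0H)
  have hx0H : a0 ^ m0 ∈ commutator G := Subgroup.pow_mem _ ha0H _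
  have hA := count_bound h p hp M M (commutator G) le_rfl hMH hMp
    (fun d hd _ => by rw [pow_two, pow_mul]; exact Subgroup.pow_mem _ (hMp d hd) _)
    (a0 ^ m0) hx0M e0 hx0o hx0H
  rw [Subgroup.relIndex_self] at hA
  have hcen : M.relIndex (commutator G) ≤
      Nat.card ↥(Subgroup.centralizer ({QuotientGroup.mk' M (a0 ^ m0)} : Set (G ⧸ M))) := by
    rw [← card_map_mk M (commutator G) hMH]
    apply Subgroup.card_le_of_le
    intro z hz
    obtain ⟨z0, hz0, rfl⟩ := Subgroup.mem_map.1 hz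
    rw [Subgroup.mem_centralizer_iff]
    intro w hw
    rw [Set.mem_singleton_iff] at hw
    subst hw
    rw [← map_mul, ← map_mul, mk_eq_iff]
    have h1 := hMc z0⁻¹ (inv_mem hz0) (a0 ^ m0)⁻¹ (inv_mem hx0H)
    rw [inv_inv, inv_inv] at h1
    have e : (a0 ^ m0 * z0)⁻¹ * (z0 * a0 ^ m0) = z0⁻¹ * (a0 ^ m0)⁻¹ * z0 * a0 ^ m0 := by group
    rw [e]; exact h1
  have hidxM : M.index = M.relIndex (commutator G) * 2 := by
    rw [← Subgroup.relIndex_mul_index hMH, hHidx]
  have hMidx0 : M.index ≠ 0 := Subgroup.index_ne_zero_of_finite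
  have hr1 : M.relIndex (commutator G) ≠ 1 := by
    intro h1
    exact ha0M (Subgroup.relIndex_eq_one.1 h1 ha0H)
  have hr3 : M.relIndex (commutator G) = 3 := by
    generalize M.relIndex (commutator G) = r at *
    generalize Nat.card ↥(Subgroup.centralizer ({QuotientGroup.mk' M (a0 ^ m0)} : Set (G ⧸ M)))
      = c at *
    have hr0 : 0 < r := by omega
    have h1 : (r - 1) * r ≤ 2 * r := by
      calc (r - 1) * r ≤ (r - 1) * c := Nat.mul_le_mul_left _ hcen
        _ ≤ M.index := hA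
        _ = 2 * r := by rw [hidxM, mul_comm]
    have h2 : r - 1 ≤ 2 := Nat.le_of_mul_le_mul_right h1 hr0
    have hr2 : r ≠ 2 := by
      intro hr2
      have h4 : Nat.card (G ⧸ M) = 2 ^ 2 := by
        rw [← Subgroup.index_eq_card, hidxM, hr2]; norm_num
      haveI : Fact (Nat.Prime 2) := ⟨Nat.prime_two⟩
      have hcomm := IsPGroup.commutative_of_card_eq_prime_sq h4
      exact ha0M (commutator_le_of_comm M hcomm ha0H)
    omega
  have hM6 : M.index = 6 := by rw [hidxM, hr3]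
  have hS6 : ∀ g : G, g ^ 2 ∈ M ∨ g ^ 3 ∈ M := by
    intro g
    have hcard : Nat.card (G ⧸ M) = 6 := by rw [← Subgroup.index_eq_card]; exact hM6
    have hnc : ∃ a b : G ⧸ M, a * b ≠ b * a := by
      by_contra hcon; push Not at hcon
      exact ha0M (commutator_le_of_comm M hcon ha0H)
    rcases sq_or_cube_of_card_six hcard hnc (QuotientGroup.mk' M g) with h2 | h3
    · left; rw [← mk_eq_one_iff, map_pow]; exact h2
    · right; rw [← mk_eq_one_iff, map_pow]; exact h3
  have hcube : ∀ a ∈ commutator G, a ^ 3 ∈ M := by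
    intro a ha
    have := Subgroup.pow_relIndex_mem M ha
    rwa [hr3] at this
  have hsqM : ∀ g : G, g ∉ commutator G → g ^ 2 ∈ M := by
    intro g hg
    rcases hS6 g with h2 | h3
    · exact h2
    · exfalso; apply hg
      have e : g = g ^ 3 * (g ^ 2)⁻¹ := by group
      rw [e]; exact mul_mem (hMH h3) (inv_mem (sq_mem h g))
  by_cases hMbot : M = ⊥
  · -- G has order 6 and is not commutative
    have hcardG : Nat.card G = 6 := by rw [← Subgroup.index_bot, ← hMbot]; exact hM6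
    have hS6' : ∀ g : G, g ^ 2 = 1 ∨ g ^ 3 = 1 := by
      intro g
      rcases hS6 g with h2 | h3
      · left; rw [hMbot] at h2; exact Subgroup.mem_bot.1 h2
      · right; rw [hMbot] at h3; exact Subgroup.mem_bot.1 h3
    haveI : Fact (Nat.Prime 2) := ⟨Nat.prime_two⟩
    obtain ⟨T, hT⟩ := Sylow.exists_subgroup_card_pow_prime 2
      (show 2 ^ 1 ∣ Nat.card G by rw [hcardG]; norm_num)
    rw [pow_one] at hT
    have hTidx : T.index = 3 := by
      have := T.card_mul_index; rw [hT, hcardG] at this; omega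
    have hinj : Function.Injective (MulAction.toPermHom G (G ⧸ T)) := by
      rw [← MonoidHom.ker_eq_bot_iff, ← Subgroup.normalCore_eq_ker, Subgroup.eq_bot_iff_forall]
      intro g hg
      by_contra hg1
      have hconjT : ∀ a : G, a * g * a⁻¹ ∈ T := fun a =>
        T.normalCore_le ((T.normalCore_normal).conj_mem g hg a)
      have hgT : g ∈ T := T.normalCore_le hg
      obtain ⟨y0, hy0, huniq⟩ := (Nat.card_eq_two_iff' (1 : ↥T)).1 hT
      have hcentral : ∀ a : G, a * g * a⁻¹ = g := by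
        intro a
        have h1 : (⟨a * g * a⁻¹, hconjT a⟩ : ↥T) = y0 := huniq _ (by
          intro hh
          apply hg1
          have h2 : a * g * a⁻¹ = 1 := congrArg Subtype.val hh
          have e : g = a⁻¹ * (a * g * a⁻¹) * a := by group
          rw [e, h2]; group)
        have h2 : (⟨g, hgT⟩ : ↥T) = y0 := huniq _ (by
          intro hh; exact hg1 (congrArg Subtype.val hh))
        exact congrArg Subtype.val (h1.trans h2.symm)
      have hg2 : orderOf g = 2 := by
        have hd : orderOf g ∣ 2 := by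
          have := Subgroup.orderOf_dvd_natCard T hgT
          rwa [hT] at this
        rcases (Nat.dvd_prime Nat.prime_two).1 hd with h1 | h2
        · exact absurd (orderOf_eq_one_iff.1 h1) hg1
        · exact h2
      haveI : Fact (Nat.Prime 3) := ⟨Nat.prime_three⟩
      obtain ⟨x3, hx3⟩ := exists_prime_orderOf_dvd_card' (G := G) 3 (by rw [hcardG]; norm_num)
      have hcomm : Commute g x3 := (mul_inv_eq_iff_eq_mul.1 (hcentral x3)).symm
      have ho : orderOf (g * x3) = 6 := by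
        rw [hcomm.orderOf_mul_eq_mul_orderOf_of_coprime (by rw [hg2, hx3]; norm_num), hg2, hx3]
      rcases hS6' (g * x3) with h2 | h3
      · have := orderOf_dvd_of_pow_eq_one h2; rw [ho] at this; omega
      · have := orderOf_dvd_of_pow_eq_one h3; rw [ho] at this; omega
    haveI : Fintype (G ⧸ T) := Fintype.ofFinite _
    exact helper2.mulEquiv_perm_of_injective 3
      (by rw [← Nat.card_eq_fintype_card, ← Subgroup.index_eq_card]; exact hTidx)
      (MulAction.toPermHom G (G ⧸ T)) hinj (by rw [hcardG]; rfl)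
  · -- Step 3: M ≠ ⊥ is impossible
    exfalso
    obtain ⟨q, L, hq, hLn, hLM, ⟨b0, hb0M, hb0L⟩, hLc, hLq⟩ := exists_chief_like M hMbot
    haveI := hLn
    have hLH : L ≤ commutator G := hLM.trans hMH
    have hk1 : L.relIndex M ≠ 1 := fun h1 => hb0L (Subgroup.relIndex_eq_one.1 h1 hb0M)
    have hLidx : L.index = L.relIndex M * 6 := by
      rw [← Subgroup.relIndex_mul_index hLM, hM6]
    have hLidx0 : L.index ≠ 0 := Subgroup.index_ne_zero_of_finite
    have hLrelH : L.relIndex (commutator G) = L.relIndex M * 3 := by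
      rw [← Subgroup.relIndex_mul_relIndex L M (commutator G) hLM hMH, hr3]
    by_cases hq2 : q = 2
    · subst hq2
      obtain ⟨g0, hg0⟩ : ∃ g0, g0 ∉ commutator G := by
        by_contra hcon; push Not at hcon; exact hHtop (eq_top_iff.2 (fun x _ => hcon x))
      obtain ⟨m1, e1, _, ht_o, ht_H⟩ :=
        p_part 2 Nat.prime_two (commutator G) g0 hg0 (sq_mem h g0)
      have hB := count_bound h 2 Nat.prime_two L (commutator G) ⊤ hLH le_top
        (fun d _ => sq_mem h d)
        (fun d _ hd => by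
          have := hLq (d ^ 2) (hsqM d hd); rwa [← pow_mul] at this)
        (g0 ^ m1) ht_H e1 ht_o (Subgroup.mem_top _)
      rw [Subgroup.relIndex_top_right] at hB
      haveI : Fact (Nat.Prime 2) := ⟨Nat.prime_two⟩
      -- 2 ∣ k
      have h2k : 2 ∣ L.relIndex M := by
        have hpg : IsPGroup 2 ↥(M.map (QuotientGroup.mk' L)) :=
          isPGroup_map_of_pow 2 1 L M (fun d hd => by rw [pow_one]; exact hLq d hd)
        rcases hpg.card_eq_or_dvd with h1 | h1
        · rw [card_map_mk L M hLM] at h1; exact absurd h1 hk1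
        · rwa [card_map_mk L M hLM] at h1
      have h4 : 2 ^ 2 ≤ Nat.card ↥(Subgroup.centralizer
          ({QuotientGroup.mk' L (g0 ^ m1)} : Set (G ⧸ L))) := by
        have hto : ∃ j, orderOf (QuotientGroup.mk' L (g0 ^ m1)) = 2 ^ j := by
          have := orderOf_map_dvd (QuotientGroup.mk' L) (g0 ^ m1)
          rw [ht_o] at this
          obtain ⟨j, _, hj⟩ := (Nat.dvd_prime_pow Nat.prime_two).1 this
          exact ⟨j, hj⟩
        obtain ⟨j, hj⟩ := hto
        have hpz : IsPGroup 2 ↥(Subgroup.zpowers (QuotientGroup.mk' L (g0 ^ m1))) :=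
          IsPGroup.of_card (n := j) (by rw [Nat.card_zpowers, hj])
        obtain ⟨P, hP⟩ := hpz.exists_le_sylow
        apply card_centralizer_ge 2 (P : Subgroup (G ⧸ L)) P.isPGroup' _
          (hP (Subgroup.mem_zpowers _))
        obtain ⟨n, hn⟩ := IsPGroup.iff_card.1 P.isPGroup'
        have hidx := P.not_dvd_index
        have hmul := (P : Subgroup (G ⧸ L)).card_mul_index
        rw [← Subgroup.index_eq_card, hLidx, hn] at hmul
        obtain ⟨k', hk'⟩ := h2k
        rw [hk'] at hmul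
        rw [hn]
        rcases n with _ | _ | n
        · exfalso; apply hidx
          rw [pow_zero, one_mul] at hmul
          exact ⟨k' * 6, by rw [hmul]; ring⟩
        · exfalso; apply hidx
          rw [zero_add, pow_one] at hmul
          exact ⟨k' * 3, by omega⟩
        · have e : 2 ^ (n + 1 + 1) = 4 * 2 ^ n := by ring
          have := Nat.one_le_two_pow (n := n)
          omega
      generalize Nat.card ↥(Subgroup.centralizer
          ({QuotientGroup.mk' L (g0 ^ m1)} : Set (G ⧸ L))) = c at hB h4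
      rw [hLidx, hLrelH] at hB
      generalize L.relIndex M = k at *
      have hk0 : 0 < k := by omega
      have h5 : (k * 6 - k * 3) * 4 ≤ k * 6 := le_trans (Nat.mul_le_mul_left _ h4) hB
      omega
    by_cases hq3 : q = 3
    · subst hq3
      obtain ⟨m3, e3, _, hx_o, hx_M⟩ := p_part 3 Nat.prime_three M a0 ha0M (hcube a0 ha0H)
      have hxH : a0 ^ m3 ∈ commutator G := Subgroup.pow_mem _ ha0H _
      have h9 : ∀ d ∈ commutator G, d ^ (3 ^ 2) ∈ L := by
        intro d hd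
        have := hLq (d ^ 3) (hcube d hd); rwa [← pow_mul] at this
      have hB := count_bound h 3 Nat.prime_three L M (commutator G) hLM hMH hcube
        (fun d hd _ => h9 d hd) (a0 ^ m3) hx_M e3 hx_o hxH
      haveI : Fact (Nat.Prime 3) := ⟨Nat.prime_three⟩
      have hc9 : 3 ^ 2 ≤ Nat.card ↥(Subgroup.centralizer
          ({QuotientGroup.mk' L (a0 ^ m3)} : Set (G ⧸ L))) := by
        apply card_centralizer_ge 3 ((commutator G).map (QuotientGroup.mk' L))
          (isPGroup_map_of_pow 3 2 L (commutator G) h9) _ (Subgroup.mem_map_of_mem _ hxH)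
        rw [card_map_mk L (commutator G) hLH, hLrelH]
        have : L.relIndex M ≠ 0 := by
          intro h0; rw [h0] at hLidx; omega
        omega
      generalize Nat.card ↥(Subgroup.centralizer
          ({QuotientGroup.mk' L (a0 ^ m3)} : Set (G ⧸ L))) = c at hB hc9
      rw [hLidx, hLrelH] at hB
      generalize L.relIndex M = k at *
      have hk0 : 0 < k := by omega
      have h5 : (k * 3 - k) * 9 ≤ k * 6 := le_trans (Nat.mul_le_mul_left _ hc9) hB
      omega
    -- q ≠ 2, 3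
    obtain ⟨m5, e5, _, hy_o, hy_L⟩ := p_part q hq L b0 hb0L (hLq b0 hb0M)
    have hyM : b0 ^ m5 ∈ M := Subgroup.pow_mem _ hb0M _
    generalize b0 ^ m5 = y at hy_o hy_L hyM
    have hq2c : Nat.Coprime q 2 := (Nat.coprime_primes hq Nat.prime_two).2 hq2
    have hq3c : Nat.Coprime q 3 := (Nat.coprime_primes hq Nat.prime_three).2 hq3
    have hy2 : orderOf (y ^ 2) = orderOf y := by
      apply Nat.Coprime.orderOf_pow
      rw [hy_o]; exact Nat.Coprime.pow_left e5 hq2c
    obtain ⟨c, hc⟩ := isConj_iff.1 (h y (y ^ 2)⁻¹ (by rw [orderOf_inv, hy2]))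
    have hyq : y ^ q ∈ L := hLq y hyM
    have h2 : c ^ 2 * y * (c ^ 2)⁻¹ = y ^ 4 := by
      calc c ^ 2 * y * (c ^ 2)⁻¹ = c * (c * y * c⁻¹) * c⁻¹ := by
            rw [pow_two, mul_inv_rev]; simp only [mul_assoc]
        _ = c * (y ^ 2)⁻¹ * c⁻¹ := by rw [hc]
        _ = ((c * y * c⁻¹) ^ 2)⁻¹ := by rw [conj_pow]; group
        _ = (((y ^ 2)⁻¹) ^ 2)⁻¹ := by rw [hc]
        _ = y ^ 4 := by group
    have h3 : c ^ 3 * y * (c ^ 3)⁻¹ = (y ^ 8)⁻¹ := by
      calc c ^ 3 * y * (c ^ 3)⁻¹ = c * (c ^ 2 * y * (c ^ 2)⁻¹) * c⁻¹ := by group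
        _ = c * y ^ 4 * c⁻¹ := by rw [h2]
        _ = (c * y * c⁻¹) ^ 4 := by rw [conj_pow]
        _ = ((y ^ 2)⁻¹) ^ 4 := by rw [hc]
        _ = (y ^ 8)⁻¹ := by group
    rcases hS6 c with hc2 | hc3
    · have h4 := hLc (c ^ 2) hc2 y hyM
      rw [h2] at h4
      have e : y ^ 4 * y⁻¹ = y ^ 3 := by group
      rw [e] at h4
      exact hy_L (mem_of_pow_mem_of_coprime L y 3 q hq3c.symm h4 hyq)
    · have h4 := hLc (c ^ 3) hc3 y hyM
      rw [h3] at h4
      have e : (y ^ 8)⁻¹ * y⁻¹ = (y ^ (3 ^ 2))⁻¹ := by group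
      rw [e] at h4
      have h5 : y ^ (3 ^ 2) ∈ L := (Subgroup.inv_mem_iff _).1 h4
      exact hy_L (mem_of_pow_mem_of_coprime L y (3 ^ 2) q
        (Nat.Coprime.pow_left 2 hq3c.symm) h5 hyq)

end Cfsg.Agent.S4062
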