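import Mathlib
import Cfsg.Statements.S4066
import Cfsg.Agent.Lib_helper5_Sylow

set_option autoImplicit false
open Cfsg
open scoped Pointwise

namespace Cfsg.Agent.S4066

theorem mem_normalizer_of_finite' {G : Type*} [Group G] (H : Subgroup G) [Finite H] (g : G)
    (h : ∀ x ∈ H, g * x * g⁻¹ ∈ H) : g ∈ Subgroup.normalizer (H : Set G) := by
  let φ : H → H := fun x => ⟨g * x * g⁻¹, h x x.2⟩
  have hinj : Function.Injective φ := by
    intro a b hab
    have := congrArg Subtype.val hab
    simp only [φ] at this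
    apply Subtype.ext
    have h2 : (a : G) = g⁻¹ * (g * a * g⁻¹) * g := by group
    rw [h2, this]; group
  have hsurj : Function.Surjective φ := Finite.surjective_of_injective hinj
  rw [Subgroup.mem_normalizer_iff]
  intro x
  constructor
  · exact h x
  · intro hx
    obtain ⟨s, hs⟩ := hsurj ⟨g * x * g⁻¹, hx⟩
    have := congrArg Subtype.val hs
    simp only [φ] at this
    have h2 : x = g⁻¹ * (g * x * g⁻¹) * g := by group
    rw [h2, ← this]
    have h3 : g⁻¹ * (g * (s : G) * g⁻¹) * g = s := by group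
    rw [h3]; exact s.2

/-- The closure of a set of pairwise commuting elements of exponent dividing `n` has exponent
dividing `n`, and is commutative. -/
theorem closure_comm_pow {G : Type*} [Group G] (T : Set G) (n : ℕ)
    (hcomm : ∀ s ∈ T, ∀ t ∈ T, s * t = t * s) (hpow : ∀ t ∈ T, t ^ n = 1) :
    ∀ g ∈ Subgroup.closure T, g ^ n = 1 := by
  have h1 : Subgroup.closure T ≤ Subgroup.centralizer T := by
    rw [Subgroup.closure_le]
    intro t ht
    rw [SetLike.mem_coe, Subgroup.mem_centralizer_iff]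
    intro s hs
    exact hcomm s hs t ht
  have h2 : Subgroup.closure T ≤ Subgroup.centralizer (Subgroup.closure T : Set G) := by
    rw [Subgroup.closure_le]
    intro t ht
    rw [SetLike.mem_coe, Subgroup.mem_centralizer_iff]
    intro g hg
    have := Subgroup.mem_centralizer_iff.mp (h1 hg) t ht
    exact this.symm
  intro g hg
  induction hg using Subgroup.closure_induction with
  | mem x hx => exact hpow x hx
  | one => exact one_pow n
  | mul x y hx hy ihx ihy =>
    have hc : Commute x y := by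
      have := Subgroup.mem_centralizer_iff.mp (h2 hy) x hx
      exact this
    rw [hc.mul_pow, ihx, ihy, one_mul]
  | inv x hx ih => rw [inv_pow, ih, inv_one]

theorem result {G : Type*} [Group G] [Finite G] (hTI : ∀ x : G, Cfsg.IsTISubset (Subgroup.centralizer ({x} : Set G) : Set G))
    {p : ℕ} [Fact p.Prime] (P Q : Sylow p G) (hPQ : P ≠ Q) : (P : Subgroup G) ⊓ (Q : Subgroup G) = ⊥ := by
  by_contra hne
  obtain ⟨d, hd, hd1⟩ : ∃ d ∈ (P : Subgroup G) ⊓ (Q : Subgroup G), d ≠ 1 := by
    by_contra hcon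
    push Not at hcon
    exact hne ((Subgroup.eq_bot_iff_forall _).mpr hcon)
  obtain ⟨hdP, hdQ⟩ := Subgroup.mem_inf.mp hd
  have hN : ∀ (x g c : G), c ∈ Subgroup.centralizer ({x} : Set G) → c ≠ 1 →
      g * c * g⁻¹ ∈ Subgroup.centralizer ({x} : Set G) →
      g ∈ Subgroup.normalizer ((Subgroup.centralizer ({x} : Set G) : Subgroup G) : Set G) := by
    intro x g c hc hc1 hgc
    by_contra hg
    exact hc1 (hTI x g hg c hc hgc)
  -- nontrivial central element of P
  have hnt : Nontrivial (P : Subgroup G) :=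
    ⟨⟨⟨d, hdP⟩, 1, fun h => hd1 (congrArg Subtype.val h)⟩⟩
  have hcen := P.isPGroup'.center_nontrivial
  obtain ⟨⟨z₀, hz₀⟩, hz₀1⟩ := exists_ne (1 : Subgroup.center (P : Subgroup G))
  set z : G := (z₀ : G) with hzdef
  have hz1 : z ≠ 1 := fun h => hz₀1 (Subtype.ext (Subtype.ext h))
  have hzP : ∀ x ∈ (P : Subgroup G), x * z = z * x := by
    intro x hx
    have := (Subgroup.mem_center_iff.mp hz₀) ⟨x, hx⟩
    exact congrArg Subtype.val this
  set A := Subgroup.centralizer ({z} : Set G) with hAdef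
  have hPA : (P : Subgroup G) ≤ A := by
    intro x hx
    rw [hAdef, Subgroup.mem_centralizer_singleton_iff]; exact hzP x hx
  -- Q ≤ A
  obtain ⟨m, hm⟩ := MulAction.exists_smul_eq G P Q
  have hQmem : ∀ y : G, y ∈ (Q : Subgroup G) ↔ m⁻¹ * y * m ∈ (P : Subgroup G) := by
    intro y
    rw [← hm]; exact Cfsg.Agent.helper5.mem_smul_sylow_iff m y P
  have hmN : m ∈ Subgroup.normalizer (A : Set G) := by
    have h1 : m⁻¹ * d * m⁻¹⁻¹ ∈ A := by
      rw [inv_inv]; exact hPA ((hQmem d).mp hdQ)
    have h2 := hN z m⁻¹ d (hPA hdP) hd1 h1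
    exact (Subgroup.inv_mem_iff _).mp h2
  have hQA : (Q : Subgroup G) ≤ A := by
    intro y hy
    have h1 : m⁻¹ * y * m ∈ A := hPA ((hQmem y).mp hy)
    have h2 := (Subgroup.mem_normalizer_iff.mp hmN _).mp h1
    have h3 : m * (m⁻¹ * y * m) * m⁻¹ = y := by group
    rw [h3] at h2; exact h2
  -- conjugates commute
  have hcc : ∀ x ∈ A, ∀ a ∈ A, x * (a * x * a⁻¹) = (a * x * a⁻¹) * x := by
    intro x hx a ha
    rw [hAdef, Subgroup.mem_centralizer_singleton_iff] at hx ha
    have hzx : z ∈ Subgroup.centralizer ({x} : Set G) := by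
      rw [Subgroup.mem_centralizer_singleton_iff]; exact hx.symm
    have haz : a * z * a⁻¹ = z := by rw [ha]; group
    have haN := hN x a z hzx hz1 (by rw [haz]; exact hzx)
    have hxx : x ∈ Subgroup.centralizer ({x} : Set G) := by
      rw [Subgroup.mem_centralizer_singleton_iff]
    have h1 := (Subgroup.mem_normalizer_iff.mp haN x).mp hxx
    rw [Subgroup.mem_centralizer_singleton_iff] at h1
    exact h1.symm
  -- P ≤ Q
  have hPleQ : (P : Subgroup G) ≤ Q := by
    intro x hxP
    obtain ⟨k, hk⟩ := P.isPGroup' ⟨x, hxP⟩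
    have hxk : x ^ (p ^ k) = 1 := by
      have := congrArg Subtype.val hk
      simpa using this
    let T : Set G := {t | ∃ y ∈ (Q : Subgroup G), t = y * x * y⁻¹}
    have hTcomm : ∀ s ∈ T, ∀ t ∈ T, s * t = t * s := by
      rintro s ⟨y₁, hy₁, rfl⟩ t ⟨y₂, hy₂, rfl⟩
      have ha : y₁⁻¹ * y₂ ∈ A := hQA (Subgroup.mul_mem _ (Subgroup.inv_mem _ hy₁) hy₂)
      have h1 := hcc x (hPA hxP) _ ha
      calc y₁ * x * y₁⁻¹ * (y₂ * x * y₂⁻¹)
          = y₁ * (x * ((y₁⁻¹ * y₂) * x * (y₁⁻¹ * y₂)⁻¹)) * y₁⁻¹ := by group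
        _ = y₁ * (((y₁⁻¹ * y₂) * x * (y₁⁻¹ * y₂)⁻¹) * x) * y₁⁻¹ := by rw [h1]
        _ = y₂ * x * y₂⁻¹ * (y₁ * x * y₁⁻¹) := by group
    have hTpow : ∀ t ∈ T, t ^ (p ^ k) = 1 := by
      rintro t ⟨y, hy, rfl⟩
      rw [conj_pow, hxk]; group
    have hYpow := closure_comm_pow T (p ^ k) hTcomm hTpow
    set Y := Subgroup.closure T with hYdef
    have hYp : IsPGroup p Y := by
      intro g
      exact ⟨k, Subtype.ext (by simpa using hYpow g g.2)⟩
    have hQN : (Q : Subgroup G) ≤ Subgroup.normalizer (Y : Set G) := by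
      intro y hy
      apply Cfsg.Agent.S4066.mem_normalizer_of_finite'
      intro g hg
      induction hg using Subgroup.closure_induction with
      | mem t ht =>
        obtain ⟨y', hy', rfl⟩ := ht
        apply Subgroup.subset_closure
        exact ⟨y * y', Subgroup.mul_mem _ hy hy', by group⟩
      | one => simp
      | mul a b ha hb iha ihb =>
        have : y * (a * b) * y⁻¹ = (y * a * y⁻¹) * (y * b * y⁻¹) := by group
        rw [this]; exact Subgroup.mul_mem _ iha ihb
      | inv a ha iha =>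
        have : y * a⁻¹ * y⁻¹ = (y * a * y⁻¹)⁻¹ := by group
        rw [this]; exact Subgroup.inv_mem _ iha
    have hsup : IsPGroup p ((Q : Subgroup G) ⊔ Y : Subgroup G) :=
      Q.isPGroup'.to_sup_of_normal_right' hYp hQN
    have heq := Q.is_maximal' hsup le_sup_left
    have hYQ : Y ≤ (Q : Subgroup G) := by
      rw [← heq]; exact le_sup_right
    apply hYQ
    apply Subgroup.subset_closure
    exact ⟨1, Subgroup.one_mem _, by group⟩
  have : (P : Subgroup G) = Q :=
    Subgroup.eq_of_le_of_card_ge hPleQ (by rw [P.card_eq_multiplicity, Q.card_eq_multiplicity])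
  exact hPQ (Sylow.ext this)

end Cfsg.Agent.S4066
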