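import Cfsg.Statements.S4072
import Mathlib
import Cfsg.Agent.Lib_helper1_PGroup
import Cfsg.Agent.S3773

set_option autoImplicit false
set_option linter.style.haveILetI false
set_option linter.unusedSectionVars false
open Cfsg
open scoped commutatorElement

namespace Cfsg.Agent.S4072

/-- Burnside's transfer theorem applied to an (almost) simple quotient. -/
theorem burnside_contra {S : Type*} [Group S] [Finite S]
    (hS1 : ∀ M : Subgroup S, M.Normal → M = ⊥ ∨ M = ⊤)
    (hS2 : ¬ ∀ a b : S, a * b = b * a)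
    {p : ℕ} [Fact p.Prime] (P : Sylow p S) (hPne : (P : Subgroup S) ≠ ⊥)
    (hPc : ∀ a ∈ (P : Subgroup S), ∀ b ∈ (P : Subgroup S), a * b = b * a)
    (hPn : Subgroup.normalizer ((P : Subgroup S) : Set S) = P) : False := by
  have hP : Subgroup.normalizer (P : Set S) ≤ Subgroup.centralizer (P : Set S) := by
    intro a ha b hb
    have ha' : a ∈ (P : Subgroup S) := by rw [← hPn]; exact ha
    exact hPc b hb a ha'
  have hcomp := MonoidHom.ker_transferSylow_isComplement' P hP
  rcases hS1 _ (inferInstance : (MonoidHom.transferSylow P hP).ker.Normal) with h | h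
  · rw [h] at hcomp
    have hT : (P : Subgroup S) = ⊤ := Subgroup.isComplement'_bot_left.mp hcomp
    apply hS2
    intro a b
    exact hPc a (hT ▸ Subgroup.mem_top a) b (hT ▸ Subgroup.mem_top b)
  · rw [h] at hcomp
    exact hPne (Subgroup.isComplement'_top_left.mp hcomp)

/-- Structure of a minimal non-abelian `p`-group: the derived subgroup lies in a central subgroup
of order `p`. -/
theorem min_nonabelian {Q : Type*} [Group Q] [Finite Q] {p : ℕ} [hp : Fact p.Prime]
    (hQ : IsPGroup p Q) (hnc : ¬ ∀ a b : Q, a * b = b * a)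
    (hprop : ∀ R : Subgroup Q, R ≠ ⊤ → ∀ a ∈ R, ∀ b ∈ R, a * b = b * a) :
    ∃ T : Subgroup Q, T ≤ Subgroup.center Q ∧ Nat.card T = p ∧ commutator Q ≤ T := by
  classical
  -- the Frattini subgroup is central
  have hΦZ : frattini Q ≤ Subgroup.center Q := by
    intro g hg
    rw [Subgroup.mem_center_iff]
    intro x
    by_cases hR : Subgroup.zpowers x ⊔ Subgroup.zpowers g = ⊤
    · exfalso
      have h1 : Subgroup.zpowers x ⊔ frattini Q = ⊤ := by
        apply top_le_iff.mp
        rw [← hR]
        exact sup_le_sup_left (Subgroup.zpowers_le.mpr hg) _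
      have h2 := frattini_nongenerating h1
      apply hnc
      intro a b
      have ha : a ∈ Subgroup.zpowers x := h2 ▸ Subgroup.mem_top a
      have hb : b ∈ Subgroup.zpowers x := h2 ▸ Subgroup.mem_top b
      obtain ⟨i, rfl⟩ := Subgroup.mem_zpowers_iff.mp ha
      obtain ⟨j, rfl⟩ := Subgroup.mem_zpowers_iff.mp hb
      exact Commute.zpow_zpow_self _ i j
    · have hx : x ∈ Subgroup.zpowers x ⊔ Subgroup.zpowers g :=
        (le_sup_left : Subgroup.zpowers x ≤ _) (Subgroup.mem_zpowers x)
      have hg' : g ∈ Subgroup.zpowers x ⊔ Subgroup.zpowers g :=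
        (le_sup_right : Subgroup.zpowers g ≤ _) (Subgroup.mem_zpowers g)
      exact hprop _ hR x hx g hg'
  have hDZ : commutator Q ≤ Subgroup.center Q :=
    (Cfsg.Agent.helper1.commutator_le_frattini_of_isPGroup hQ).trans hΦZ
  have hpow : ∀ x : Q, x ^ p ∈ Subgroup.center Q :=
    fun x => hΦZ (Cfsg.Agent.helper1.pow_mem_frattini_of_isPGroup hQ x)
  have hc : ∀ a b c : Q, ⁅a, b⁆ * c = c * ⁅a, b⁆ := by
    intro a b c
    have h1 : ⁅a, b⁆ ∈ commutator Q := by
      rw [commutator_def]
      exact Subgroup.commutator_mem_commutator (Subgroup.mem_top a) (Subgroup.mem_top b)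
    exact (Subgroup.mem_center_iff.mp (hDZ h1) c).symm
  push Not at hnc
  obtain ⟨a, b, hab⟩ := hnc
  have hcne : ⁅a, b⁆ ≠ 1 := by
    intro h
    exact hab (commutatorElement_eq_one_iff_mul_comm.mp h)
  have hpowc : ∀ n : ℕ, ⁅a ^ n, b⁆ = ⁅a, b⁆ ^ n := by
    intro n
    induction n with
    | zero => simp
    | succ n ih =>
      rw [pow_succ, Cfsg.Agent.S3773.comm_mul_left' hc, ih, pow_succ]
  have hcp : ⁅a, b⁆ ^ p = 1 := by
    rw [← hpowc]
    exact commutatorElement_eq_one_iff_mul_comm.mpr
      ((Subgroup.mem_center_iff.mp (hpow a) b).symm)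
  obtain ⟨T, hT⟩ : ∃ T : Subgroup Q, T = Subgroup.zpowers ⁅a, b⁆ := ⟨_, rfl⟩
  have hTcard : Nat.card T = p := by
    rw [hT, Nat.card_zpowers]
    exact orderOf_eq_prime hcp hcne
  have hTZ : T ≤ Subgroup.center Q := by
    rw [hT, Subgroup.zpowers_le, Subgroup.mem_center_iff]
    intro g
    exact (hc a b g).symm
  have habT : ⁅a, b⁆ ∈ T := by rw [hT]; exact Subgroup.mem_zpowers _
  refine ⟨T, hTZ, hTcard, ?_⟩
  -- the subgroup generated by a and b is everything
  have hgen : Subgroup.closure {a, b} = ⊤ := by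
    by_contra hne
    apply hab
    exact hprop _ hne a (Subgroup.subset_closure (by simp)) b (Subgroup.subset_closure (by simp))
  have hinv : ∀ x y : Q, ⁅x⁻¹, y⁆ = ⁅x, y⁆⁻¹ := by
    intro x y
    have h1 := Cfsg.Agent.S3773.comm_mul_left' hc x x⁻¹ y
    rw [mul_inv_cancel, commutatorElement_one_left] at h1
    exact (inv_eq_of_mul_eq_one_right h1.symm).symm
  -- left kernel modulo T
  let X : Q → Subgroup Q := fun y =>
    { carrier := {x | ⁅x, y⁆ ∈ T}
      mul_mem' := fun {u v} hu hv => by
        change ⁅u * v, y⁆ ∈ T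
        rw [Cfsg.Agent.S3773.comm_mul_left' hc]
        exact T.mul_mem hu hv
      one_mem' := by
        change ⁅(1 : Q), y⁆ ∈ T
        rw [commutatorElement_one_left]; exact T.one_mem
      inv_mem' := fun {u} hu => by
        change ⁅u⁻¹, y⁆ ∈ T
        rw [hinv]; exact T.inv_mem hu }
  have hXmem : ∀ x y, x ∈ X y ↔ ⁅x, y⁆ ∈ T := fun x y => Iff.rfl
  have hswap : ∀ x y : Q, ⁅x, y⁆ ∈ T → ⁅y, x⁆ ∈ T := by
    intro x y h
    rw [← commutatorElement_inv]; exact T.inv_mem h
  have hXa : X a = ⊤ := by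
    apply top_le_iff.mp
    rw [← hgen, Subgroup.closure_le]
    intro u hu
    rcases hu with rfl | rfl
    · change ⁅u, u⁆ ∈ T
      rw [commutatorElement_self]; exact T.one_mem
    · exact hswap _ _ habT
  have hXb : X b = ⊤ := by
    apply top_le_iff.mp
    rw [← hgen, Subgroup.closure_le]
    intro u hu
    rcases hu with rfl | rfl
    · exact habT
    · change ⁅u, u⁆ ∈ T
      rw [commutatorElement_self]; exact T.one_mem
  let Y : Subgroup Q :=
    { carrier := {y | ∀ x, ⁅y, x⁆ ∈ T}
      mul_mem' := fun {u v} hu hv x => by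
        rw [Cfsg.Agent.S3773.comm_mul_left' hc]
        exact T.mul_mem (hu x) (hv x)
      one_mem' := fun x => by
        rw [commutatorElement_one_left]; exact T.one_mem
      inv_mem' := fun {u} hu x => by
        rw [hinv]; exact T.inv_mem (hu x) }
  have hY : Y = ⊤ := by
    apply top_le_iff.mp
    rw [← hgen, Subgroup.closure_le]
    intro u hu
    rcases hu with rfl | rfl
    · intro x
      apply hswap
      rw [← hXmem, hXa]; exact Subgroup.mem_top x
    · intro x
      apply hswap
      rw [← hXmem, hXb]; exact Subgroup.mem_top x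
  rw [commutator_def, Subgroup.commutator_le]
  intro x _ y _
  have hx : x ∈ Y := hY ▸ Subgroup.mem_top x
  exact hx y

/-- A finite group in which every non-abelian subgroup is self-normalizing is solvable or simple. -/
theorem result {G : Type*} [Group G] [Finite G] (hS : ∀ H : Subgroup G, ¬ IsMulCommutative H → Subgroup.normalizer (H : Set G) = H) :
    Group.IsSolvable G ∨ IsSimpleGroup G := by
  classical
  by_contra hcon
  push Not at hcon
  obtain ⟨hns, hnsimp⟩ := hcon
  -- proper normal subgroups are commutative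
  have factA : ∀ H : Subgroup G, H.Normal → H ≠ ⊤ → IsMulCommutative H := by
    intro H hH hne
    by_contra hc
    have h1 := hS H hc
    rw [Subgroup.normalizer_eq_top] at h1
    exact hne h1.symm
  haveI hnt : Nontrivial G := by
    by_contra h
    rw [not_nontrivial_iff_subsingleton] at h
    exact hns inferInstance
  obtain ⟨N₀, hN₀n, hN₀b, hN₀t⟩ : ∃ N₀ : Subgroup G, N₀.Normal ∧ N₀ ≠ ⊥ ∧ N₀ ≠ ⊤ := by
    by_contra h
    push Not at h
    apply hnsimp
    exact { exists_pair_ne := hnt.exists_pair_ne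
            eq_bot_or_eq_top_of_normal := fun H hH => by
              by_cases hb : H = ⊥
              · exact Or.inl hb
              · exact Or.inr (h H hH hb) }
  -- a proper normal subgroup of largest order
  haveI : Nonempty {H : Subgroup G // H.Normal ∧ H ≠ ⊤} := ⟨⟨N₀, hN₀n, hN₀t⟩⟩
  obtain ⟨⟨N, hNn, hNt⟩, hNmax⟩ := Finite.exists_max
    (fun H : {H : Subgroup G // H.Normal ∧ H ≠ ⊤} => Nat.card (H : Subgroup G))
  have hmax : ∀ M : Subgroup G, M.Normal → M ≠ ⊤ → Nat.card M ≤ Nat.card N :=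
    fun M hM hMt => hNmax ⟨M, hM, hMt⟩
  haveI := hNn
  have hNb : N ≠ ⊥ := by
    intro h
    have h1 := hmax N₀ hN₀n hN₀t
    rw [h, Subgroup.card_bot] at h1
    exact hN₀b (Subgroup.eq_bot_of_card_le N₀ h1)
  have hNc : ∀ a ∈ N, ∀ b ∈ N, a * b = b * a := by
    intro a ha b hb
    have := factA N hNn hNt
    have h1 := this.is_comm.comm (⟨a, ha⟩ : N) ⟨b, hb⟩
    exact congrArg Subtype.val h1
  have hmaxeq : ∀ M : Subgroup G, M.Normal → N ≤ M → M = N ∨ M = ⊤ := by
    intro M hM hle
    by_cases hMt : M = ⊤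
    · exact Or.inr hMt
    · exact Or.inl (Subgroup.eq_of_le_of_card_ge hle (hmax M hM hMt)).symm
  -- the quotient
  have hS1 : ∀ M : Subgroup (G ⧸ N), M.Normal → M = ⊥ ∨ M = ⊤ := by
    intro M hM
    have hsurj := QuotientGroup.mk'_surjective N
    have hle : N ≤ M.comap (QuotientGroup.mk' N) := by
      intro x hx
      rw [Subgroup.mem_comap, QuotientGroup.mk'_apply, (QuotientGroup.eq_one_iff x).mpr hx]
      exact M.one_mem
    rcases hmaxeq (M.comap (QuotientGroup.mk' N)) inferInstance hle with h | h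
    · left
      rw [← Subgroup.map_comap_eq_self_of_surjective hsurj M, h, QuotientGroup.map_mk'_self]
    · right
      rw [← Subgroup.map_comap_eq_self_of_surjective hsurj M, h, ← MonoidHom.range_eq_map,
        MonoidHom.range_eq_top.mpr hsurj]
  have hS2 : ¬ ∀ a b : G ⧸ N, a * b = b * a := by
    intro h
    apply hns
    rw [Group.isSolvable_iff_subgroup_quotient N]
    exact ⟨Group.isSolvable_of_comm (fun a b => Subtype.ext (hNc a a.2 b b.2)),
      Group.isSolvable_of_comm h⟩
  have hsurj := QuotientGroup.mk'_surjective N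
  have hker : (QuotientGroup.mk' N).ker = N := QuotientGroup.ker_mk' N
  -- N is central
  have hCtop : Subgroup.centralizer (N : Set G) = ⊤ := by
    have hle : N ≤ Subgroup.centralizer (N : Set G) := by
      intro a ha b hb
      exact hNc b hb a ha
    rcases hmaxeq _ inferInstance hle with hC | hC
    swap
    · exact hC
    exfalso
    have hidx : Nat.card (G ⧸ N) ≠ 1 := by
      intro h
      exact hNt (Subgroup.index_eq_one.mp h)
    obtain ⟨p, hp, hpd⟩ := Nat.exists_prime_and_dvd hidx
    haveI : Fact p.Prime := ⟨hp⟩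
    obtain ⟨y, hy⟩ := exists_prime_orderOf_dvd_card' p hpd
    obtain ⟨x, rfl⟩ := QuotientGroup.mk_surjective y
    obtain ⟨K, hK⟩ : ∃ K : Subgroup G, K = N ⊔ Subgroup.zpowers x := ⟨_, rfl⟩
    have hNK : N ≤ K := by rw [hK]; exact le_sup_left
    have hxK : x ∈ K := by
      rw [hK]
      exact (le_sup_right : Subgroup.zpowers x ≤ N ⊔ Subgroup.zpowers x) (Subgroup.mem_zpowers x)
    have hKnc : ¬ IsMulCommutative K := by
      intro hc
      have hxC : x ∈ Subgroup.centralizer (N : Set G) := by
        intro n hn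
        have h1 := hc.is_comm.comm (⟨n, hNK hn⟩ : K) ⟨x, hxK⟩
        exact congrArg Subtype.val h1
      rw [hC] at hxC
      have : (QuotientGroup.mk x : G ⧸ N) = 1 := (QuotientGroup.eq_one_iff x).mpr hxC
      rw [this, orderOf_one] at hy
      exact hp.one_lt.ne hy
    have hKn := hS K hKnc
    obtain ⟨Z, hZ⟩ : ∃ Z : Subgroup (G ⧸ N), Z = Subgroup.zpowers (QuotientGroup.mk x : G ⧸ N) :=
      ⟨_, rfl⟩
    have hKmap : K.map (QuotientGroup.mk' N) = Z := by
      rw [hK, Subgroup.map_sup, QuotientGroup.map_mk'_self, bot_sup_eq, MonoidHom.map_zpowers, hZ]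
      rfl
    have hKcomap : Z.comap (QuotientGroup.mk' N) = K := by
      rw [← hKmap, Subgroup.comap_map_eq, hker]
      exact sup_eq_left.mpr hNK
    have hZn : Subgroup.normalizer (Z : Set (G ⧸ N)) = Z := by
      have h1 := Subgroup.comap_normalizer_eq_of_surjective Z hsurj
      rw [hKcomap, hKn] at h1
      rw [← Subgroup.map_comap_eq_self_of_surjective hsurj (Subgroup.normalizer (Z : Set (G ⧸ N))),
        h1, hKmap]
    have hZcard : Nat.card Z = p ^ 1 := by rw [hZ, Nat.card_zpowers, hy, pow_one]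
    have hnp2 : ¬ p ^ 2 ∣ Nat.card (G ⧸ N) := by
      intro h2
      have h3 := Sylow.card_normalizer_modEq_card hZcard
      rw [hZn, hZcard] at h3
      have h4 : p ^ 2 ∣ p ^ 1 := (Nat.modEq_zero_iff_dvd.mp (h3.trans (Nat.modEq_zero_iff_dvd.mpr h2)))
      have h5 := Nat.le_of_dvd (pow_pos hp.pos 1) h4
      have := hp.one_lt
      nlinarith
    obtain ⟨P, hZP⟩ := (IsPGroup.of_card hZcard).exists_le_sylow
    obtain ⟨k, hk⟩ := IsPGroup.iff_card.1 P.2
    have hk1 : k ≤ 1 := by
      by_contra hk2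
      push Not at hk2
      apply hnp2
      have h1 : p ^ 2 ∣ p ^ k := pow_dvd_pow p hk2
      have h2 : Nat.card (P : Subgroup (G ⧸ N)) ∣ Nat.card (G ⧸ N) :=
        Subgroup.card_subgroup_dvd_card _
      rw [hk] at h2
      exact h1.trans h2
    have hZeq : Z = (P : Subgroup (G ⧸ N)) := by
      apply Subgroup.eq_of_le_of_card_ge hZP
      rw [hZcard, hk]
      exact Nat.pow_le_pow_right hp.pos hk1
    apply burnside_contra hS1 hS2 P
    · rw [← hZeq]
      intro h
      rw [h, Subgroup.card_bot, pow_one] at hZcard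
      exact hp.one_lt.ne hZcard
    · rw [← hZeq, hZ]
      intro a ha b hb
      obtain ⟨i, rfl⟩ := Subgroup.mem_zpowers_iff.mp ha
      obtain ⟨j, rfl⟩ := Subgroup.mem_zpowers_iff.mp hb
      exact (Commute.zpow_zpow_self _ i j)
    · rw [← hZeq]
      exact hZn
  have hNcen : ∀ n ∈ N, ∀ g : G, n * g = g * n := by
    intro n hn g
    have hg : g ∈ Subgroup.centralizer (N : Set G) := by rw [hCtop]; exact Subgroup.mem_top g
    exact hg n hn
  -- G is perfect
  have hperf : commutator G = ⊤ := by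
    by_contra hne
    have hcD := factA (commutator G) inferInstance hne
    apply hns
    rw [Group.isSolvable_iff_subgroup_quotient (commutator G)]
    refine ⟨Group.isSolvable_of_comm (fun a b => hcD.is_comm.comm a b), ?_⟩
    exact (inferInstance : Group.IsSolvable (Abelianization G))
  -- a central element of prime order
  have hNcard : Nat.card N ≠ 1 := fun h => hNb (Subgroup.eq_bot_of_card_eq N h)
  obtain ⟨p, hp, hpd⟩ := Nat.exists_prime_and_dvd hNcard
  haveI : Fact p.Prime := ⟨hp⟩
  obtain ⟨z', hz'⟩ := exists_prime_orderOf_dvd_card' p hpd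
  obtain ⟨z, hzdef⟩ : ∃ z : G, z = (z' : G) := ⟨_, rfl⟩
  have hzN : z ∈ N := hzdef ▸ z'.2
  have hzord : orderOf z = p := by rw [hzdef, Subgroup.orderOf_coe]; exact hz'
  have hzne : z ≠ 1 := by
    intro h
    rw [h, orderOf_one] at hzord
    exact hp.one_lt.ne hzord
  have hzcard : Nat.card (Subgroup.zpowers z) = p ^ 1 := by
    rw [Nat.card_zpowers, hzord, pow_one]
  obtain ⟨P, hzP'⟩ := (IsPGroup.of_card hzcard).exists_le_sylow
  have hzP : z ∈ (P : Subgroup G) := hzP' (Subgroup.mem_zpowers z)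
  -- transfer: z lies in the derived subgroup of P
  have hzD : (⟨z, hzP⟩ : (P : Subgroup G)) ∈ commutator (P : Subgroup G) := by
    let φ : (P : Subgroup G) →* Abelianization (P : Subgroup G) := Abelianization.of
    have hkey : ∀ (k : ℕ) (g₀ : G), g₀⁻¹ * z ^ k * g₀ ∈ (P : Subgroup G) →
        g₀⁻¹ * z ^ k * g₀ = z ^ k := by
      intro k g₀ _
      have h1 : z ^ k * g₀ = g₀ * z ^ k := hNcen _ (N.pow_mem hzN k) g₀
      rw [mul_assoc, h1, inv_mul_cancel_left]
    have h1 := MonoidHom.transfer_eq_pow φ z hkey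
    have h2 : MonoidHom.transfer φ z = 1 := by
      have h3 := Abelianization.commutator_subset_ker (MonoidHom.transfer φ)
      rw [hperf] at h3
      exact h3 (Subgroup.mem_top z)
    rw [h2] at h1
    have h4 : (⟨z ^ (P : Subgroup G).index, MonoidHom.transfer_eq_pow_aux z hkey⟩ :
        (P : Subgroup G)) ∈ commutator (P : Subgroup G) := by
      rw [← Abelianization.ker_of (P : Subgroup G)]
      exact h1.symm
    have hcop : Nat.Coprime (P : Subgroup G).index p :=
      ((Nat.Prime.coprime_iff_not_dvd hp).mpr P.not_dvd_index).symm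
    obtain ⟨m, -, hm⟩ := Nat.exists_mul_mod_eq_one_of_coprime hcop hp.one_lt
    have h5 : (⟨z, hzP⟩ : (P : Subgroup G)) =
        (⟨z ^ (P : Subgroup G).index, MonoidHom.transfer_eq_pow_aux z hkey⟩ :
          (P : Subgroup G)) ^ m := by
      apply Subtype.ext
      rw [Subgroup.coe_pow]
      change z = (z ^ (P : Subgroup G).index) ^ m
      rw [← pow_mul, ← pow_mod_orderOf, hzord, hm, pow_one]
    rw [h5]
    exact Subgroup.pow_mem _ h4 m
  -- P is not commutative, hence self-normalizing
  have hPnc : ¬ IsMulCommutative (P : Subgroup G) := by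
    intro hc
    have h1 : commutator (P : Subgroup G) ≤ ⊥ := by
      rw [commutator_def, Subgroup.commutator_le]
      intro a _ b _
      rw [Subgroup.mem_bot]
      exact commutatorElement_eq_one_iff_mul_comm.mpr (hc.is_comm.comm a b)
    have h2 := h1 hzD
    rw [Subgroup.mem_bot] at h2
    exact hzne (congrArg Subtype.val h2)
  have hPn := hS P hPnc
  have hNP : N ≤ (P : Subgroup G) := by
    intro n hn
    rw [← hPn, Subgroup.mem_normalizer_iff]
    intro h
    have : n * h * n⁻¹ = h := by rw [hNcen n hn h, mul_inv_cancel_right]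
    rw [this]
  -- proper subgroups of P are commutative
  have hprop : ∀ R : Subgroup (P : Subgroup G), R ≠ ⊤ → ∀ a ∈ R, ∀ b ∈ R, a * b = b * a := by
    intro R hR
    by_contra hnc'
    push Not at hnc'
    obtain ⟨a, ha, b, hb, hab⟩ := hnc'
    obtain ⟨R', hR'⟩ : ∃ R' : Subgroup G, R' = R.map (P : Subgroup G).subtype := ⟨_, rfl⟩
    have hR'nc : ¬ IsMulCommutative R' := by
      intro hc
      have ha' : (a : G) ∈ R' := by rw [hR']; exact ⟨a, ha, rfl⟩
      have hb' : (b : G) ∈ R' := by rw [hR']; exact ⟨b, hb, rfl⟩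
      have h1 := hc.is_comm.comm (⟨a, ha'⟩ : R') ⟨b, hb'⟩
      apply hab
      have h2 : (a : G) * b = b * a := congrArg Subtype.val h1
      exact Subtype.ext h2
    have hR'n := hS R' hR'nc
    haveI : Group.IsNilpotent (P : Subgroup G) := P.2.isNilpotent
    have hlt : R < ⊤ := lt_top_iff_ne_top.mpr hR
    have hlt2 := Group.normalizerCondition_of_isNilpotent R hlt
    obtain ⟨g, hgn, hgR⟩ := SetLike.exists_of_lt hlt2
    have hg' : (g : G) ∈ Subgroup.normalizer (R' : Set G) := by
      rw [Subgroup.mem_normalizer_iff]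
      intro h
      rw [hR']
      constructor
      · rintro ⟨r, hr, rfl⟩
        exact ⟨g * r * g⁻¹, (Subgroup.mem_normalizer_iff.mp hgn r).mp hr, rfl⟩
      · rintro ⟨r, hr, hreq⟩
        refine ⟨g⁻¹ * r * g, ?_, ?_⟩
        · apply (Subgroup.mem_normalizer_iff.mp hgn (g⁻¹ * r * g)).mpr
          have : g * (g⁻¹ * r * g) * g⁻¹ = r := by group
          rw [this]; exact hr
        · change ((g⁻¹ * r * g : (P : Subgroup G)) : G) = h
          rw [Subgroup.coe_mul, Subgroup.coe_mul, Subgroup.coe_inv]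
          change (g : G)⁻¹ * (r : G) * g = h
          have hreq' : (r : G) = g * h * (g : G)⁻¹ := hreq
          rw [hreq']; group
    rw [hR'n, hR'] at hg'
    obtain ⟨r, hr, hreq⟩ := hg'
    have : r = g := Subtype.ext hreq
    exact hgR (this ▸ hr)
  have hncP : ¬ ∀ a b : (P : Subgroup G), a * b = b * a := by
    intro h
    exact hPnc ⟨⟨h⟩⟩
  obtain ⟨T, hTZ, hTcard, hDT⟩ := min_nonabelian P.2 hncP hprop
  have hzT : (⟨z, hzP⟩ : (P : Subgroup G)) ∈ T := hDT hzD
  have hTeq : Subgroup.zpowers (⟨z, hzP⟩ : (P : Subgroup G)) = T := by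
    apply Subgroup.eq_of_le_of_card_ge (Subgroup.zpowers_le.mpr hzT)
    rw [hTcard, Nat.card_zpowers]
    have : orderOf (⟨z, hzP⟩ : (P : Subgroup G)) = p :=
      (Subgroup.orderOf_coe (⟨z, hzP⟩ : (P : Subgroup G))).symm.trans hzord
    rw [this]
  have hcommN : ∀ a ∈ (P : Subgroup G), ∀ b ∈ (P : Subgroup G), ⁅a, b⁆ ∈ N := by
    intro a ha b hb
    have h1 : ⁅(⟨a, ha⟩ : (P : Subgroup G)), ⟨b, hb⟩⁆ ∈ commutator (P : Subgroup G) := by
      rw [commutator_def]
      exact Subgroup.commutator_mem_commutator (Subgroup.mem_top _) (Subgroup.mem_top _)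
    have h2 := hDT h1
    rw [← hTeq, Subgroup.mem_zpowers_iff] at h2
    obtain ⟨k, hk⟩ := h2
    have h3 := congrArg Subtype.val hk
    have h4 : ⁅a, b⁆ = z ^ k := by
      rw [Subgroup.coe_zpow] at h3
      exact h3.symm
    rw [h4]
    exact N.zpow_mem hzN k
  -- the image of P in the quotient
  apply burnside_contra hS1 hS2 (P.mapSurjective hsurj)
  · rw [Sylow.coe_mapSurjective]
    intro h
    have h1 : (P : Subgroup G) ≤ N := by
      rw [← hker]; exact (Subgroup.map_eq_bot_iff _).mp h
    apply hPnc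
    exact ⟨⟨fun a b => Subtype.ext (hNc a (h1 a.2) b (h1 b.2))⟩⟩
  · rw [Sylow.coe_mapSurjective]
    rintro _ ⟨a, ha, rfl⟩ _ ⟨b, hb, rfl⟩
    rw [← map_mul, ← map_mul]
    have h1 : a * b = ⁅a, b⁆ * (b * a) := by rw [commutatorElement_def]; group
    rw [h1, map_mul]
    have h2 : (QuotientGroup.mk' N) ⁅a, b⁆ = 1 :=
      (QuotientGroup.eq_one_iff _).mpr (hcommN a ha b hb)
    rw [h2, one_mul]
  · rw [Sylow.coe_mapSurjective]
    have h1 := Subgroup.comap_normalizer_eq_of_surjective
      ((P : Subgroup G).map (QuotientGroup.mk' N)) hsurj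
    rw [Subgroup.comap_map_eq, hker, sup_eq_left.mpr hNP, hPn] at h1
    rw [← Subgroup.map_comap_eq_self_of_surjective hsurj
      (Subgroup.normalizer (((P : Subgroup G).map (QuotientGroup.mk' N) : Subgroup (G ⧸ N)) :
        Set (G ⧸ N))), h1]

end Cfsg.Agent.S4072
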