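import Mathlib
import Cfsg.Statements.S4074

set_option autoImplicit false
open Cfsg

namespace Cfsg.Agent.S4074

open DihedralGroup

theorem neg2 (a : ZMod 2) : -a = a := by revert a; decide

/-- the parity map for even `n` -/
noncomputable def parFun (n : ℕ) (h : 2 ∣ n) : DihedralGroup n → Multiplicative (ZMod 2)
  | r i => Multiplicative.ofAdd (ZMod.castHom h (ZMod 2) i)
  | sr i => Multiplicative.ofAdd (ZMod.castHom h (ZMod 2) i)

theorem parFun_mul (n : ℕ) (h : 2 ∣ n) (a b : DihedralGroup n) :
    parFun n h (a * b) = parFun n h a * parFun n h b := by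
  rcases a with i | i <;> rcases b with j | j
  · show Multiplicative.ofAdd (ZMod.castHom h (ZMod 2) (i + j)) = _
    rw [map_add]; rfl
  · show Multiplicative.ofAdd (ZMod.castHom h (ZMod 2) (j - i)) =
      Multiplicative.ofAdd (ZMod.castHom h (ZMod 2) i) *
        Multiplicative.ofAdd (ZMod.castHom h (ZMod 2) j)
    rw [map_sub, sub_eq_add_neg, neg2, add_comm]; rfl
  · show Multiplicative.ofAdd (ZMod.castHom h (ZMod 2) (i + j)) = _
    rw [map_add]; rfl
  · show Multiplicative.ofAdd (ZMod.castHom h (ZMod 2) (j - i)) =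
      Multiplicative.ofAdd (ZMod.castHom h (ZMod 2) i) *
        Multiplicative.ofAdd (ZMod.castHom h (ZMod 2) j)
    rw [map_sub, sub_eq_add_neg, neg2, add_comm]; rfl

noncomputable def par (n : ℕ) (h : 2 ∣ n) : DihedralGroup n →* Multiplicative (ZMod 2) :=
  MonoidHom.mk' (parFun n h) (parFun_mul n h)

theorem r_pow' (n : ℕ) (i : ZMod n) (m : ℕ) : (r i) ^ m = r ((m : ZMod n) * i) := by
  induction m with
  | zero => rw [pow_zero, Nat.cast_zero, zero_mul]; rfl
  | succ m ih =>
    rw [pow_succ, ih, r_mul_r]
    congr 1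
    push_cast; ring

theorem d4_gen : ∀ a b g : DihedralGroup 4, a * b ≠ b * a →
    (g = 1 ∨ g = a ∨ g = b ∨ g = a * a ∨ g = a * a * a ∨ g = b * b ∨ g = b * b * b ∨ g = a * b ∨
      g = b * a ∨ g = a * a * b ∨ g = a * a * a * b ∨ g = b * b * a ∨ g = b * b * b * a ∨
      g = a * b * a ∨ g = b * a * b ∨ g = a * b * a * b) := by
  decide

theorem result (n : ℕ) (hn : 2 < n) :
    (∀ H : Subgroup (DihedralGroup n), ¬ IsMulCommutative H → Subgroup.normalizer (H : Set (DihedralGroup n)) = H) ↔
    (n = 4 ∨ Odd n) := by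
  constructor
  · intro hall
    by_contra hcon
    push Not at hcon
    obtain ⟨hn4, hodd⟩ := hcon
    have heven : 2 ∣ n := by
      rcases Nat.even_or_odd n with h | h
      · exact even_iff_two_dvd.mp h
      · exact absurd h hodd
    set H := (par n heven).ker with hH
    have hmem : ∀ g : DihedralGroup n, g ∈ H ↔ parFun n heven g = 1 := by
      intro g; rw [hH, MonoidHom.mem_ker]; rfl
    have hr2 : (r 2 : DihedralGroup n) ∈ H := by
      rw [hmem]
      show Multiplicative.ofAdd (ZMod.castHom heven (ZMod 2) 2) = 1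
      rw [map_ofNat]
      rfl
    have hs0 : (sr 0 : DihedralGroup n) ∈ H := by
      rw [hmem]
      show Multiplicative.ofAdd (ZMod.castHom heven (ZMod 2) 0) = 1
      rw [map_zero]; rfl
    have hr1 : (r 1 : DihedralGroup n) ∉ H := by
      rw [hmem]
      show ¬ Multiplicative.ofAdd (ZMod.castHom heven (ZMod 2) 1) = 1
      rw [map_one]
      decide
    have hnc : ¬ IsMulCommutative H := by
      intro hc
      have h1 : (⟨r 2, hr2⟩ : H) * ⟨sr 0, hs0⟩ = ⟨sr 0, hs0⟩ * ⟨r 2, hr2⟩ := hc.is_comm.comm _ _
      have h2 := congrArg Subtype.val h1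
      simp only [Subgroup.coe_mul, r_mul_sr, sr_mul_r] at h2
      have h3 : (0 : ZMod n) - 2 = 0 + 2 := sr.inj h2
      have h4 : ((4 : ℕ) : ZMod n) = 0 := by
        have : (4 : ZMod n) = (0 + 2) - (0 - 2) := by ring
        push_cast
        rw [this, h3]; ring
      have h5 : n ∣ 4 := (ZMod.natCast_eq_zero_iff 4 n).mp h4
      have h6 : n ≤ 4 := Nat.le_of_dvd (by norm_num) h5
      interval_cases n
      · omega
      · exact hn4 rfl
    have h1 := hall H hnc
    have h2 : Subgroup.normalizer (H : Set (DihedralGroup n)) = ⊤ :=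
      Subgroup.normalizer_eq_top_iff.mpr inferInstance
    rw [h2] at h1
    exact hr1 (h1 ▸ Subgroup.mem_top _)
  · intro hcase H hnc
    apply le_antisymm _ Subgroup.le_normalizer
    -- a noncommuting pair
    have hex : ∃ a ∈ H, ∃ b ∈ H, a * b ≠ b * a := by
      by_contra hcon
      push Not at hcon
      exact hnc ⟨⟨fun a b => Subtype.ext (hcon a a.2 b b.2)⟩⟩
    obtain ⟨a, ha, b, hb, hab⟩ := hex
    rcases hcase with h4 | hodd
    · subst h4
      have htop : H = ⊤ := by
        rw [Subgroup.eq_top_iff']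
        intro g
        rcases d4_gen a b g hab with h | h | h | h | h | h | h | h | h | h | h | h | h | h | h | h <;>
          rw [h] <;> apply_rules [Subgroup.mul_mem, ha, hb, Subgroup.one_mem]
      rw [htop]; exact le_top
    · -- n odd
      have hrefl : ∃ i : ZMod n, sr i ∈ H := by
        rcases a with i | i
        · rcases b with j | j
          · exfalso; apply hab; simp [add_comm]
          · exact ⟨j, hb⟩
        · exact ⟨i, ha⟩
      obtain ⟨i, hi⟩ := hrefl
      obtain ⟨m, hm⟩ := hodd
      have hhalf : ∀ k : ZMod n, r (2 * k) ∈ H → r k ∈ H := by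
        intro k hk
        have h1 := Subgroup.pow_mem H hk (m + 1)
        rw [r_pow'] at h1
        have h2 : ((m + 1 : ℕ) : ZMod n) * (2 * k) = k := by
          have h3 : ((2 * m + 1 : ℕ) : ZMod n) = 0 := by rw [← hm]; exact ZMod.natCast_self n
          have h4 : ((m + 1 : ℕ) : ZMod n) * (2 * k) = ((2 * m + 1 : ℕ) : ZMod n) * k + k := by
            push_cast; ring
          rw [h4, h3, zero_mul, zero_add]
        rw [h2] at h1; exact h1
      have hrot : ∀ k : ZMod n, r k ∈ Subgroup.normalizer (H : Set (DihedralGroup n)) → r k ∈ H := by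
        intro k hk
        have h1 := (Subgroup.mem_normalizer_iff.mp hk (sr i)).mp hi
        have h2 : r k * sr i * (r k)⁻¹ = sr (i - k - k) := by
          rw [inv_r, r_mul_sr, sr_mul_r]; congr 1; ring
        rw [h2] at h1
        have h3 := H.mul_mem hi h1
        rw [sr_mul_sr] at h3
        have h4 := H.inv_mem h3
        rw [inv_r] at h4
        apply hhalf
        have : -(i - k - k - i) = 2 * k := by ring
        rw [this] at h4; exact h4
      intro g hg
      rcases g with k | k
      · exact hrot k hg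
      · have h1 : sr k * sr i ∈ Subgroup.normalizer (H : Set (DihedralGroup n)) :=
          Subgroup.mul_mem _ hg (Subgroup.le_normalizer hi)
        rw [sr_mul_sr] at h1
        have h2 := hrot _ h1
        have h3 : sr k = r (i - k) * (sr i)⁻¹ := by
          rw [inv_sr, r_mul_sr]; congr 1; ring
        rw [h3]
        exact H.mul_mem h2 (H.inv_mem hi)

end Cfsg.Agent.S4074
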