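import Mathlib
import Cfsg.Statements.S4075

set_option autoImplicit false
open Cfsg

namespace Cfsg.Agent.S4075

/-- Let G be a finite nilpotent group. Every non-abelian subgroup of G is self-normalizing if and only if G is abelian or G is a minimal non-abelian p-group for some prime p (non-abelian of prime-power order with every proper subgroup abelian). -/
theorem result {G : Type*} [Group G] [Finite G]
    [Group.IsNilpotent G] :
    (∀ H : Subgroup G, ¬ IsMulCommutative H → Subgroup.normalizer (H : Set G) = H) ↔
    (IsMulCommutative G ∨ (IsPrimePow (Nat.card G) ∧ ¬ IsMulCommutative G ∧ ∀ H : Subgroup G, H ≠ ⊤ → IsMulCommutative H)) := by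
  constructor
  · intro h
    by_cases hc : IsMulCommutative G
    · exact Or.inl hc
    · right
      have hprop : ∀ H : Subgroup G, H ≠ ⊤ → IsMulCommutative H := by
        intro H hH
        by_contra hHc
        have h1 := h H hHc
        have h2 := Group.normalizerCondition_of_isNilpotent (G := G) H (lt_top_iff_ne_top.mpr hH)
        rw [h1] at h2
        exact lt_irrefl _ h2
      refine ⟨?_, hc, hprop⟩
      by_contra hnpp
      apply hc
      obtain ⟨e⟩ := ((Group.isNilpotent_of_finite_tfae (G := G)).out 0 4).mp ‹Group.IsNilpotent G›
      have hS : ∀ (p : (Nat.card G).primeFactors) (P : Sylow p G), IsMulCommutative (P : Subgroup G) := by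
        intro p P
        apply hprop
        intro htop
        apply hnpp
        have : Fact (Nat.Prime (p : ℕ)) := ⟨Nat.prime_of_mem_primeFactors p.2⟩
        obtain ⟨k, hk⟩ := IsPGroup.iff_card.mp P.2
        have hcard : Nat.card G = (p : ℕ) ^ k := by
          rw [← hk, htop, Subgroup.card_top]
        rw [hcard]
        have hk0 : k ≠ 0 := by
          rintro rfl
          rw [pow_zero] at hcard
          have : Subsingleton G := (Nat.card_eq_one_iff_unique.mp hcard).1
          exact hc ⟨⟨fun a b => Subsingleton.elim _ _⟩⟩
        exact (Nat.prime_of_mem_primeFactors p.2).isPrimePow.pow hk0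
      refine ⟨⟨fun x y => ?_⟩⟩
      obtain ⟨a, rfl⟩ := e.surjective x
      obtain ⟨b, rfl⟩ := e.surjective y
      rw [← map_mul, ← map_mul]
      congr 1
      funext p P
      exact (hS p P).is_comm.comm (a p P) (b p P)
  · rintro (hc | ⟨_, _, hprop⟩) H hH
    · exfalso
      apply hH
      exact ⟨⟨fun a b => Subtype.ext (hc.is_comm.comm (a : G) (b : G))⟩⟩
    · have : H = ⊤ := by
        by_contra hne
        exact hH (hprop H hne)
      subst this
      rw [eq_top_iff]
      intro x _
      rw [Subgroup.mem_normalizer_iff]
      intro y
      simp

end Cfsg.Agent.S4075
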