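import Mathlib
import Cfsg.Statements.S4080

set_option autoImplicit false
set_option linter.style.haveILetI false
open Cfsg

namespace Cfsg.Agent.S4080

open Multiplicative Matrix

section Mat

variable {n : ℕ} [NeZero n]

/-- the matrix of an automorphism of `(ℤ/n)²`. -/
def mat (g : MulAut (Multiplicative (ZMod n × ZMod n))) : Matrix (Fin 2) (Fin 2) (ZMod n) :=
  !![(g (ofAdd ((1 : ZMod n), (0 : ZMod n)))).toAdd.1,
     (g (ofAdd ((0 : ZMod n), (1 : ZMod n)))).toAdd.1;
     (g (ofAdd ((1 : ZMod n), (0 : ZMod n)))).toAdd.2,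
     (g (ofAdd ((0 : ZMod n), (1 : ZMod n)))).toAdd.2]

theorem apply_eq (g : MulAut (Multiplicative (ZMod n × ZMod n))) (v : ZMod n × ZMod n) :
    (g (ofAdd v)).toAdd =
      (mat g 0 0 * v.1 + mat g 0 1 * v.2, mat g 1 0 * v.1 + mat g 1 1 * v.2) := by
  have hv : ofAdd v = (ofAdd ((1 : ZMod n), (0 : ZMod n))) ^ v.1.val *
      (ofAdd ((0 : ZMod n), (1 : ZMod n))) ^ v.2.val := by
    rw [← ofAdd_nsmul, ← ofAdd_nsmul, ← ofAdd_add]
    congr 1
    ext <;> simp
  rw [hv, map_mul, map_pow, map_pow, toAdd_mul, toAdd_pow, toAdd_pow]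
  ext
  · simp [mat, mul_comm]
  · simp [mat, mul_comm]

theorem mat_mul (g h : MulAut (Multiplicative (ZMod n × ZMod n))) :
    mat (g * h) = mat g * mat h := by
  have h1 := apply_eq g (h (ofAdd ((1 : ZMod n), (0 : ZMod n)))).toAdd
  have h2 := apply_eq g (h (ofAdd ((0 : ZMod n), (1 : ZMod n)))).toAdd
  rw [ofAdd_toAdd] at h1 h2
  have e1 := congrArg Prod.fst h1
  have e2 := congrArg Prod.snd h1
  have e3 := congrArg Prod.fst h2
  have e4 := congrArg Prod.snd h2
  simp only at e1 e2 e3 e4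
  ext i j
  fin_cases i <;> fin_cases j
  · simp only [Fin.zero_eta, Fin.isValue, Matrix.mul_apply, Fin.sum_univ_two]
    rw [show mat (g * h) 0 0 = (g (h (ofAdd ((1 : ZMod n), (0 : ZMod n))))).toAdd.1 from rfl, e1]
    rfl
  · simp only [Fin.zero_eta, Fin.mk_one, Fin.isValue, Matrix.mul_apply, Fin.sum_univ_two]
    rw [show mat (g * h) 0 1 = (g (h (ofAdd ((0 : ZMod n), (1 : ZMod n))))).toAdd.1 from rfl, e3]
    rfl
  · simp only [Fin.zero_eta, Fin.mk_one, Fin.isValue, Matrix.mul_apply, Fin.sum_univ_two]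
    rw [show mat (g * h) 1 0 = (g (h (ofAdd ((1 : ZMod n), (0 : ZMod n))))).toAdd.2 from rfl, e2]
    rfl
  · simp only [Fin.mk_one, Fin.isValue, Matrix.mul_apply, Fin.sum_univ_two]
    rw [show mat (g * h) 1 1 = (g (h (ofAdd ((0 : ZMod n), (1 : ZMod n))))).toAdd.2 from rfl, e4]
    rfl

theorem mat_one : mat (1 : MulAut (Multiplicative (ZMod n × ZMod n))) = 1 := by
  ext i j
  fin_cases i <;> fin_cases j <;> simp [mat]

theorem mat_pow (g : MulAut (Multiplicative (ZMod n × ZMod n))) (k : ℕ) :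
    mat (g ^ k) = mat g ^ k := by
  induction k with
  | zero => rw [pow_zero, pow_zero, mat_one]
  | succ k ih => rw [pow_succ, pow_succ, mat_mul, ih]

end Mat

section TwoByTwo

variable {R : Type*} [CommRing R]

/-- Cayley–Hamilton for `2 × 2` matrices. -/
theorem cayley_two (N : Matrix (Fin 2) (Fin 2) R) :
    N * N = N.trace • N - N.det • (1 : Matrix (Fin 2) (Fin 2) R) := by
  ext i j
  fin_cases i <;> fin_cases j <;>
    simp [Matrix.mul_apply, Fin.sum_univ_two, Matrix.trace_fin_two, Matrix.det_fin_two] <;> ring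

/-- if `N ^ 4 = 0` then `(1 + N)^k = 1 + k N + C(k,2) N² + C(k,3) N³`. -/
theorem one_add_pow_of_pow_four {S : Type*} [Ring S] (N : S) (h4 : N ^ 4 = 0) (k : ℕ) :
    (1 + N) ^ k = 1 + (k : S) * N + (k.choose 2 : S) * N ^ 2 + (k.choose 3 : S) * N ^ 3 := by
  induction k with
  | zero => simp
  | succ k ih =>
    rw [pow_succ, ih]
    have e2 : (k + 1).choose 2 = k.choose 1 + k.choose 2 := Nat.choose_succ_succ k 1
    have e3 : (k + 1).choose 3 = k.choose 2 + k.choose 3 := Nat.choose_succ_succ k 2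
    rw [e2, e3, Nat.choose_one_right]
    push_cast
    have hk : ∀ m : ℕ, (m : S) * N = N * (m : S) := fun m => (Nat.cast_commute m N).eq
    have h4' : N ^ 3 * N = 0 := by rw [← pow_succ]; exact h4
    have : ((1 : S) + (k : S) * N + (k.choose 2 : S) * N ^ 2 + (k.choose 3 : S) * N ^ 3) * (1 + N)
        = 1 + ((k : S) + 1) * N + ((k : S) + (k.choose 2 : S)) * N ^ 2
          + ((k.choose 2 : S) + (k.choose 3 : S)) * N ^ 3 + (k.choose 3 : S) * (N ^ 3 * N) := by
      noncomm_ring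
    rw [this, h4', mul_zero, add_zero]

end TwoByTwo

theorem result {p : ℕ} [Fact p.Prime] (hp : 3 < p)
    (a : MulAut (Multiplicative (ZMod (p ^ 2) × ZMod (p ^ 2)))) (ha : orderOf a = p)
    (x : Multiplicative (ZMod (p ^ 2) × ZMod (p ^ 2))) (hx : orderOf x = p) : a x = x := by
  have hpp : p.Prime := Fact.out
  haveI : NeZero (p ^ 2) := ⟨pow_ne_zero 2 hpp.ne_zero⟩
  set M := mat a with hM
  clear_value M
  have hap : a ^ p = 1 := by
    have := pow_orderOf_eq_one a
    rwa [ha] at this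
  have hMp : M ^ p = 1 := by
    rw [hM, ← mat_pow, hap, mat_one]
  set N := M - 1 with hN
  clear_value N
  have hMN : M = 1 + N := by rw [hN]; abel
  -- reduction mod p
  let φ : ZMod (p ^ 2) →+* ZMod p := ZMod.castHom (dvd_pow_self p two_ne_zero) (ZMod p)
  have hker : ∀ r : ZMod (p ^ 2), φ r = 0 → ∃ s : ZMod (p ^ 2), r = (p : ZMod (p ^ 2)) * s := by
    intro r hr
    have h1 : ((r.val : ℕ) : ZMod p) = 0 := by
      have : φ r = ((r.val : ℕ) : ZMod p) := by
        conv_lhs => rw [← ZMod.natCast_zmod_val r]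
        rw [map_natCast]
      rw [← this]; exact hr
    rw [ZMod.natCast_eq_zero_iff] at h1
    obtain ⟨s, hs⟩ := h1
    refine ⟨(s : ZMod (p ^ 2)), ?_⟩
    rw [← ZMod.natCast_zmod_val r, hs]
    push_cast; rfl
  have hNbar : (φ.mapMatrix N) ^ p = 0 := by
    have h1 : φ.mapMatrix N = φ.mapMatrix M - 1 := by rw [hN, map_sub, map_one]
    rw [h1, sub_pow_char_of_commute p (Commute.one_right _), one_pow, ← map_pow, hMp, map_one,
      sub_self]
  have hnil : IsNilpotent (φ.mapMatrix N) := ⟨p, hNbar⟩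
  have htr : φ N.trace = 0 := by
    have h1 := Matrix.isNilpotent_trace_of_isNilpotent hnil
    have h2 : (φ.mapMatrix N).trace = φ N.trace := by
      simp [Matrix.trace_fin_two]
    rw [h2] at h1
    exact h1.eq_zero
  have hdet : φ N.det = 0 := by
    have h1 : (φ.mapMatrix N).det ^ p = 0 := by rw [← Matrix.det_pow, hNbar, Matrix.det_zero]
    have h2 : (φ.mapMatrix N).det = φ N.det := (RingHom.map_det φ N).symm
    rw [h2] at h1
    exact pow_eq_zero_iff (hpp.ne_zero) |>.mp h1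
  obtain ⟨t, ht⟩ := hker _ htr
  obtain ⟨δ, hδ⟩ := hker _ hdet
  have hpp0 : (p : ZMod (p ^ 2)) * (p : ZMod (p ^ 2)) = 0 := by
    rw [← Nat.cast_mul, ← pow_two]; exact ZMod.natCast_self _
  -- N² = p • E
  set E := t • N - δ • (1 : Matrix (Fin 2) (Fin 2) (ZMod (p ^ 2))) with hE
  clear_value E
  have hN2 : N ^ 2 = (p : ZMod (p ^ 2)) • E := by
    rw [pow_two N, cayley_two, ht, hδ, hE, smul_sub, smul_smul, smul_smul]
  have hN4 : N ^ 4 = 0 := by
    have : N ^ 4 = N ^ 2 * N ^ 2 := by rw [← pow_add]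
    rw [this, hN2, Matrix.smul_mul, Matrix.mul_smul, smul_smul, hpp0, zero_smul]
  have hpN2 : (p : Matrix (Fin 2) (Fin 2) (ZMod (p ^ 2))) * N ^ 2 = 0 := by
    rw [hN2]
    ext i j
    simp only [Matrix.mul_apply, Matrix.smul_apply, smul_eq_mul, Matrix.zero_apply]
    apply Finset.sum_eq_zero
    intro k _
    rw [show (p : Matrix (Fin 2) (Fin 2) (ZMod (p ^ 2))) = (p : ZMod (p ^ 2)) • 1 by
      ext i j; simp [Matrix.natCast_apply, Matrix.one_apply]]
    simp only [Matrix.smul_apply, smul_eq_mul]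
    rw [mul_assoc, mul_left_comm ((1 : Matrix (Fin 2) (Fin 2) (ZMod (p ^ 2))) i k), ← mul_assoc,
      hpp0, zero_mul]
  have hpN3 : (p : Matrix (Fin 2) (Fin 2) (ZMod (p ^ 2))) * N ^ 3 = 0 := by
    rw [pow_succ N 2, ← mul_assoc, hpN2, zero_mul]
  have hbin := one_add_pow_of_pow_four N hN4 p
  rw [← hMN, hMp] at hbin
  obtain ⟨c2, hc2⟩ := hpp.dvd_choose_self (k := 2) (by norm_num) (by omega)
  obtain ⟨c3, hc3⟩ := hpp.dvd_choose_self (k := 3) (by norm_num) (by omega)
  rw [hc2, hc3] at hbin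
  have h2 : ((p * c2 : ℕ) : Matrix (Fin 2) (Fin 2) (ZMod (p ^ 2))) * N ^ 2 = 0 := by
    rw [mul_comm p c2, Nat.cast_mul, mul_assoc, hpN2, mul_zero]
  have h3 : ((p * c3 : ℕ) : Matrix (Fin 2) (Fin 2) (ZMod (p ^ 2))) * N ^ 3 = 0 := by
    rw [mul_comm p c3, Nat.cast_mul, mul_assoc, hpN3, mul_zero]
  rw [h2, h3, add_zero, add_zero] at hbin
  have hpN : (p : Matrix (Fin 2) (Fin 2) (ZMod (p ^ 2))) * N = 0 := by
    have := congrArg (fun z => z - 1) hbin
    simpa using this.symm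
  have hent : ∀ i j, (p : ZMod (p ^ 2)) * N i j = 0 := by
    intro i j
    have := congrFun (congrFun hpN i) j
    rw [show (p : Matrix (Fin 2) (Fin 2) (ZMod (p ^ 2))) = (p : ZMod (p ^ 2)) • 1 by
      ext i j; simp [Matrix.natCast_apply, Matrix.one_apply]] at this
    simpa using this
  -- the element x
  have hxp : x ^ p = 1 := by
    have := pow_orderOf_eq_one x
    rwa [hx] at this
  have hx0 : p • x.toAdd = 0 := by
    have := congrArg Multiplicative.toAdd hxp
    simpa using this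
  have hx1 : (p : ZMod (p ^ 2)) * x.toAdd.1 = 0 := by
    have := congrArg Prod.fst hx0
    simpa using this
  have hx2 : (p : ZMod (p ^ 2)) * x.toAdd.2 = 0 := by
    have := congrArg Prod.snd hx0
    simpa using this
  have hdiv : ∀ r : ZMod (p ^ 2), (p : ZMod (p ^ 2)) * r = 0 →
      ∃ s : ZMod (p ^ 2), r = (p : ZMod (p ^ 2)) * s := by
    intro r hr
    apply hker
    have h1 : ((p * r.val : ℕ) : ZMod (p ^ 2)) = 0 := by
      rw [Nat.cast_mul, ZMod.natCast_zmod_val]; exact hr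
    have h1' : p * p ∣ p * r.val :=
      (dvd_of_eq (pow_two p).symm).trans ((ZMod.natCast_eq_zero_iff _ _).mp h1)
    have h2 : p ∣ r.val := Nat.dvd_of_mul_dvd_mul_left hpp.pos h1'
    have : φ r = ((r.val : ℕ) : ZMod p) := by
      conv_lhs => rw [← ZMod.natCast_zmod_val r]
      rw [map_natCast]
    rw [this, ZMod.natCast_eq_zero_iff]
    exact h2
  obtain ⟨y1, hy1⟩ := hdiv _ hx1
  obtain ⟨y2, hy2⟩ := hdiv _ hx2
  have key := apply_eq a x.toAdd
  rw [ofAdd_toAdd] at key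
  apply Multiplicative.toAdd.injective
  rw [key]
  have hM00 : M 0 0 = 1 + N 0 0 := by rw [hMN]; simp
  have hM01 : M 0 1 = N 0 1 := by rw [hMN]; simp
  have hM10 : M 1 0 = N 1 0 := by rw [hMN]; simp
  have hM11 : M 1 1 = 1 + N 1 1 := by rw [hMN]; simp
  rw [← hM, hM00, hM01, hM10, hM11]
  apply Prod.ext
  · simp only
    rw [hy1, hy2]
    have e1 := hent 0 0
    have e2 := hent 0 1
    linear_combination y1 * e1 + y2 * e2
  · simp only
    rw [hy1, hy2]
    have e1 := hent 1 0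
    have e2 := hent 1 1
    linear_combination y1 * e1 + y2 * e2

end Cfsg.Agent.S4080
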