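import Mathlib
import Cfsg.Statements.S4081
import Cfsg.Agent.Lib_helper20_LM1
import Cfsg.Agent.Lib_helper20_LM2
import Cfsg.Agent.Lib_helper20_LM3
import Cfsg.Agent.S0041
import Cfsg.Agent.S0144
import Cfsg.Agent.Lib_helper23_PSolv3

set_option autoImplicit false
set_option linter.style.haveILetI false

namespace Cfsg.Agent.S4081

open Cfsg Cfsg.Agent.helper20.LM

theorem mk_eq_iff {G : Type*} [Group G] (u v : G) :
    (Quotient.mk'' u : MulAction.orbitRel.Quotient (MulAut G) G) = Quotient.mk'' v ↔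
      ∃ φ : MulAut G, φ v = u := by
  rw [Quotient.eq'', MulAction.orbitRel_apply, MulAction.mem_orbit_iff]
  simp [MulAut.smul_def]

theorem three_elements {α : Type*} [Finite α] (h : Nat.card α = 3) (a b c : α) (hab : a ≠ b)
    (hac : a ≠ c) (hbc : b ≠ c) (t : α) : t = a ∨ t = b ∨ t = c := by
  classical
  haveI := Fintype.ofFinite α
  have h1 : ({a, b, c} : Finset α).card = 3 := by
    rw [Finset.card_insert_of_notMem, Finset.card_insert_of_notMem, Finset.card_singleton]
    · simp [hbc]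
    · simp [hab, hac]
  have h2 : ({a, b, c} : Finset α) = Finset.univ :=
    Finset.eq_univ_of_card _ (by rw [h1, ← Nat.card_eq_fintype_card, h])
  have := Finset.mem_univ t
  rw [← h2] at this
  simpa using this

theorem card_eq_three_of {α : Type*} [Finite α] (a b c : α) (hab : a ≠ b)
    (hac : a ≠ c) (hbc : b ≠ c) (h : ∀ t, t = a ∨ t = b ∨ t = c) : Nat.card α = 3 := by
  classical
  haveI := Fintype.ofFinite α
  have h2 : (Finset.univ : Finset α) = {a, b, c} := by
    ext t; simp [h t]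
  rw [Nat.card_eq_fintype_card, ← Finset.card_univ, h2]
  rw [Finset.card_insert_of_notMem, Finset.card_insert_of_notMem, Finset.card_singleton]
  · simp [hbc]
  · simp [hab, hac]

/-- powers of an element of prime order `q` which are not `1` have order `q`. -/
theorem orderOf_pow_of_ne_one {G : Type*} [Group G] {q : ℕ} [hq : Fact q.Prime] (x : G)
    (hx : orderOf x = q) (i : ℕ) (hi : x ^ i ≠ 1) : orderOf (x ^ i) = q := by
  refine orderOf_eq_prime ?_ hi
  rw [← pow_mul, mul_comm, pow_mul, ← hx, pow_orderOf_eq_one, one_pow]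

section Forward

variable {G : Type*} [Group G] [Finite G]

/-- structural consequences (i)-(vii). -/
theorem forward_struct (p q : ℕ) [hp : Fact p.Prime] [hq : Fact q.Prime] (hpq : p ≠ q)
    (hord : ∀ g : G, orderOf g = 1 ∨ orderOf g = p ∨ orderOf g = q)
    (htp : ∀ g h : G, orderOf g = p → orderOf h = p → ∃ φ : MulAut G, φ g = h)
    (N : Subgroup G) (hN : N.Normal) (hNp : IsPGroup p N) (hN1 : N ≠ ⊥) :
    (∀ (P : Sylow p G) (g : G), g ∈ (P : Subgroup G) ↔ g ^ p = 1) ∧
    (∀ P : Sylow p G, (P : Subgroup G).Normal) ∧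
    (∀ P : Sylow p G, ∀ y ∈ (P : Subgroup G), ∀ w ∈ (P : Subgroup G), y * w = w * y) ∧
    (∀ x y : G, orderOf x = q → orderOf y = p → x * y * x⁻¹ ≠ y) := by
  have hp1 : p ≠ 1 := hp.out.ne_one
  have hq1 : q ≠ 1 := hq.out.ne_one
  -- p-elements have order dividing p
  have hpel : ∀ g : G, (∃ k : ℕ, g ^ (p ^ k) = 1) → g ^ p = 1 := by
    rintro g ⟨k, hk⟩
    rcases hord g with h | h | h
    · rw [orderOf_eq_one_iff.mp h, one_pow]
    · rw [← h, pow_orderOf_eq_one]
    · exfalso
      have h1 : q ∣ p ^ k := h ▸ orderOf_dvd_of_pow_eq_one hk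
      have h2 := hq.out.dvd_of_dvd_pow h1
      exact hpq ((Nat.prime_dvd_prime_iff_eq hq.out hp.out).mp h2).symm
  have hordp : ∀ g : G, g ^ p = 1 → g ≠ 1 → orderOf g = p := fun g h1 h2 =>
    orderOf_eq_prime h1 h2
  -- (i)
  obtain ⟨⟨z, hzN⟩, hz1⟩ := (Subgroup.ne_bot_iff_exists_ne_one).mp hN1
  have hz1' : z ≠ 1 := fun h => hz1 (Subtype.ext h)
  have hzp : orderOf z = p := by
    refine hordp z (hpel z ?_) hz1'
    obtain ⟨k, hk⟩ := hNp ⟨z, hzN⟩
    exact ⟨k, by simpa using congrArg Subtype.val hk⟩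
  -- (ii)
  have hmemP : ∀ y : G, orderOf y = p → ∀ P : Sylow p G, y ∈ (P : Subgroup G) := by
    intro y hy P
    obtain ⟨ψ, hψ⟩ := htp z y hzp hy
    haveI : (N.map ψ.toMonoidHom).Normal := hN.map _ ψ.surjective
    have hle := IsPGroup.le_sylow_of_normal (hNp.map ψ.toMonoidHom) P
    apply hle
    rw [← hψ]
    exact Subgroup.mem_map_of_mem _ hzN
  -- (iii)
  have hP_iff : ∀ (P : Sylow p G) (g : G), g ∈ (P : Subgroup G) ↔ g ^ p = 1 := by
    intro P g
    constructor
    · intro hg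
      apply hpel
      obtain ⟨k, hk⟩ := P.isPGroup' ⟨g, hg⟩
      exact ⟨k, by simpa using congrArg Subtype.val hk⟩
    · intro hg
      by_cases h1 : g = 1
      · rw [h1]; exact Subgroup.one_mem _
      · exact hmemP g (hordp g hg h1) P
  -- (iv)
  have huniq : ∀ P Q : Sylow p G, P = Q := by
    intro P Q
    apply Sylow.ext
    ext g
    rw [hP_iff, hP_iff]
  haveI : Subsingleton (Sylow p G) := ⟨huniq⟩
  have hnormal : ∀ P : Sylow p G, (P : Subgroup G).Normal := fun P =>
    Sylow.normal_of_subsingleton P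
  -- (v)
  have hcomm : ∀ P : Sylow p G, ∀ y ∈ (P : Subgroup G), ∀ w ∈ (P : Subgroup G),
      y * w = w * y := by
    intro P y hy w hw
    by_cases hy1 : y = 1
    · rw [hy1, one_mul, mul_one]
    haveI : Nontrivial (P : Subgroup G) := ⟨⟨⟨y, hy⟩, 1, fun h => hy1 (congrArg Subtype.val h)⟩⟩
    haveI := IsPGroup.center_nontrivial P.isPGroup'
    obtain ⟨c, hc⟩ := exists_ne (1 : Subgroup.center (P : Subgroup G))
    have hc1 : ((c : (P : Subgroup G)) : G) ≠ 1 := fun h => hc (Subtype.ext (Subtype.ext h))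
    have hcp : orderOf ((c : (P : Subgroup G)) : G) = p :=
      hordp _ ((hP_iff P _).mp (c : (P : Subgroup G)).2) hc1
    have hyp : orderOf y = p := hordp y ((hP_iff P y).mp hy) hy1
    obtain ⟨ψ, hψ⟩ := htp _ y hcp hyp
    have hw' : ψ.symm w ∈ (P : Subgroup G) := by
      rw [hP_iff, ← map_pow, (hP_iff P w).mp hw, map_one]
    have h1 := Subgroup.mem_center_iff.mp c.2 ⟨ψ.symm w, hw'⟩
    have h2 : ψ.symm w * ((c : (P : Subgroup G)) : G) = ((c : (P : Subgroup G)) : G) * ψ.symm w :=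
      congrArg Subtype.val h1
    have h3 := congrArg ψ h2
    rw [map_mul, map_mul, hψ, MulEquiv.apply_symm_apply] at h3
    exact h3.symm
  -- (vii)
  have hfpf : ∀ x y : G, orderOf x = q → orderOf y = p → x * y * x⁻¹ ≠ y := by
    intro x y hx hy hxy
    have hc : Commute x y := by
      show x * y = y * x
      have := congrArg (· * x) hxy
      simpa using this
    have hcop : (orderOf x).Coprime (orderOf y) := by
      rw [hx, hy]; exact (Nat.coprime_primes hq.out hp.out).mpr (Ne.symm hpq)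
    have h1 := hc.orderOf_mul_eq_mul_orderOf_of_coprime hcop
    rw [hx, hy] at h1
    have hp2 := hp.out.two_le
    have hq2 := hq.out.two_le
    rcases hord (x * y) with h | h | h
    · rw [h] at h1; nlinarith
    · rw [h] at h1; nlinarith
    · rw [h] at h1; nlinarith
  exact ⟨hP_iff, hnormal, hcomm, hfpf⟩

/-- (viii): the Sylow `q`-subgroup has order `q`. -/
theorem forward_sq (p q : ℕ) [hp : Fact p.Prime] [hq : Fact q.Prime] (hpq : p ≠ q)
    (hord : ∀ g : G, orderOf g = 1 ∨ orderOf g = p ∨ orderOf g = q)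
    (P : Sylow p G) (hPn : (P : Subgroup G).Normal)
    (hcomm : ∀ y ∈ (P : Subgroup G), ∀ w ∈ (P : Subgroup G), y * w = w * y)
    (hP1 : (P : Subgroup G) ≠ ⊥)
    (hPiff : ∀ g : G, g ∈ (P : Subgroup G) ↔ g ^ p = 1)
    (hfpf : ∀ x y : G, orderOf x = q → orderOf y = p → x * y * x⁻¹ ≠ y) :
    ¬ q ^ 2 ∣ Nat.card G := by
  intro hdvd
  have hp2 := hp.out.two_le
  have hq2 := hq.out.two_le
  obtain ⟨E, hE⟩ := Sylow.exists_subgroup_card_pow_prime q hdvd
  haveI : IsMulCommutative (P : Subgroup G) :=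
    ⟨⟨fun a b => Subtype.ext (hcomm a a.2 b b.2)⟩⟩
  haveI := hPn
  have hcyc := S0041.result E (P : Subgroup G) hP1
    (by rw [Subgroup.normalizer_eq_top]; exact le_top) ?_
    (Or.inr ⟨q, q, hq.out, hq.out, by rw [hE, sq]⟩)
  · obtain ⟨g, hg⟩ := hcyc.exists_generator
    have h1 : orderOf g = Nat.card E := orderOf_eq_card_of_forall_mem_zpowers hg
    have h2 : orderOf (g : G) = q ^ 2 := by rw [Subgroup.orderOf_coe, h1, hE]
    rcases hord (g : G) with h | h | h
    · rw [h] at h2; nlinarith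
    · rw [h] at h2
      have : q ∣ p := by rw [h2]; exact dvd_pow_self q (by norm_num)
      exact hpq ((Nat.prime_dvd_prime_iff_eq hq.out hp.out).mp this).symm
    · rw [h] at h2; nlinarith
  · intro a ha ha1
    have haq : orderOf a = q := by
      have hd : orderOf a ∣ q ^ 2 := by
        have := Subgroup.orderOf_dvd_natCard E ha
        rwa [hE] at this
      rcases hord a with h | h | h
      · exact absurd (orderOf_eq_one_iff.mp h) ha1
      · exfalso
        rw [h] at hd
        have := hp.out.dvd_of_dvd_pow hd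
        exact hpq ((Nat.prime_dvd_prime_iff_eq hp.out hq.out).mp this)
      · exact h
    rw [eq_bot_iff]
    intro y hy
    rw [Subgroup.mem_inf] at hy
    rw [Subgroup.mem_bot]
    by_contra hy1
    have hyp : orderOf y = p := orderOf_eq_prime ((hPiff y).mp hy.1) hy1
    have h3 := Subgroup.mem_centralizer_iff.mp hy.2 a (Set.mem_singleton a)
    apply hfpf a y haq hyp
    rw [h3]; group

/-- (x): the primitive root condition. -/
theorem forward_prim (p q : ℕ) [hp : Fact p.Prime] [hq : Fact q.Prime] (hpq : p ≠ q)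
    (htp : ∀ g h : G, orderOf g = p → orderOf h = p → ∃ φ : MulAut G, φ g = h)
    (htq : ∀ g h : G, orderOf g = q → orderOf h = q → ∃ φ : MulAut G, φ g = h)
    (P : Sylow p G) (hPn : (P : Subgroup G).Normal)
    (hcomm : ∀ y ∈ (P : Subgroup G), ∀ w ∈ (P : Subgroup G), y * w = w * y)
    (hP1 : (P : Subgroup G) ≠ ⊥)
    (hPiff : ∀ g : G, g ∈ (P : Subgroup G) ↔ g ^ p = 1)
    (hfpf : ∀ x y : G, orderOf x = q → orderOf y = p → x * y * x⁻¹ ≠ y)
    (x : G) (hx : orderOf x = q) (hc : (P : Subgroup G).IsComplement' (Subgroup.zpowers x)) :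
    orderOf (p : ZMod q) = q - 1 := by
  haveI := hPn
  letI : CommGroup (P : Subgroup G) :=
    { (inferInstance : Group (P : Subgroup G)) with
      mul_comm := fun a b => Subtype.ext (hcomm a a.2 b b.2) }
  haveI : Nontrivial (P : Subgroup G) := (Subgroup.nontrivial_iff_ne_bot _).mpr hP1
  have hexp : ∀ a : (P : Subgroup G), a ^ p = 1 := fun a =>
    Subtype.ext (by simpa using (hPiff a).mp a.2)
  have hinvP : ∀ (φ : MulAut G) (u : G), u ∈ (P : Subgroup G) ↔ φ u ∈ (P : Subgroup G) := by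
    intro φ u
    rw [hPiff, hPiff, ← map_pow]
    exact (MulEquiv.map_eq_one_iff φ).symm
  have hfix : ∀ k : G, orderOf k = q → ∀ y ∈ (P : Subgroup G), k * y * k⁻¹ = y → y = 1 := by
    intro k hk y hy hky
    by_contra hy1
    exact hfpf k y hk (orderOf_eq_prime ((hPiff y).mp hy) hy1) hky
  have hint : ∀ (φ : MulAut G) (i : ℕ), φ x = x ^ i →
      restrAut φ _ (hinvP φ) * MulAut.conjNormal x =
        (MulAut.conjNormal x) ^ i * restrAut φ _ (hinvP φ) := by
    intro φ i hφ
    ext u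
    rw [← map_pow]
    simp only [MulAut.mul_apply, restrAut_apply, MulAut.conjNormal_apply, map_mul, map_inv, hφ]
  refine primitive_root_mul hpq hexp (MulAut.conjNormal x) ?_ ?_ ?_ ?_
  · rw [← map_pow, ← hx, pow_orderOf_eq_one, map_one]
  · intro a ha
    have h1 : x * (a : G) * x⁻¹ = a := by
      have := congrArg Subtype.val ha
      rwa [MulAut.conjNormal_apply] at this
    exact Subtype.ext (hfix x hx a a.2 h1)
  · intro v w hv hw
    have hvp : orderOf (v : G) = p :=
      orderOf_eq_prime ((hPiff v).mp v.2) (fun h => hv (Subtype.ext h))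
    have hwp : orderOf (w : G) = p :=
      orderOf_eq_prime ((hPiff w).mp w.2) (fun h => hw (Subtype.ext h))
    obtain ⟨φ, hφ⟩ := htp v w hvp hwp
    have hφx : orderOf (φ x) = q := by rw [MulEquiv.orderOf_eq, hx]
    obtain ⟨u, hu, i, hi⟩ := decomp_of_complement _ x hc (φ x)
    have hxi1 : x ^ i ≠ 1 := by
      intro h
      rw [h, mul_one] at hi
      have h1 : (φ x) ^ p = 1 := by rw [hi]; exact (hPiff u).mp hu
      have h2 : q ∣ p := hφx ▸ orderOf_dvd_of_pow_eq_one h1
      exact hpq ((Nat.prime_dvd_prime_iff_eq hq.out hp.out).mp h2).symm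
    have hxiq := orderOf_pow_of_ne_one x hx i hxi1
    obtain ⟨y, hy, hyu⟩ := conj_of_fpf (P : Subgroup G) (x ^ i) (hfix _ hxiq) u hu
    obtain ⟨φ', hφ'⟩ : ∃ φ' : MulAut G, φ' = MulAut.conj y⁻¹ * φ := ⟨_, rfl⟩
    have hφ'x : φ' x = x ^ i := by
      rw [hφ', MulAut.mul_apply, MulAut.conj_apply, hi, hyu]; group
    have hφ'v : φ' v = w := by
      rw [hφ', MulAut.mul_apply, MulAut.conj_apply, hφ, inv_inv,
        hcomm _ (inv_mem hy) _ w.2]; group
    exact ⟨restrAut φ' _ (hinvP φ'), i, Subtype.ext hφ'v, hint φ' i hφ'x⟩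
  · intro j hj0 hjq
    have hxj1 : x ^ j ≠ 1 := by
      intro h
      have := orderOf_dvd_of_pow_eq_one h
      rw [hx] at this
      exact absurd (Nat.le_of_dvd hj0 this) (by omega)
    obtain ⟨φ, hφ⟩ := htq x (x ^ j) hx (orderOf_pow_of_ne_one x hx j hxj1)
    exact ⟨restrAut φ _ (hinvP φ), hint φ j hφ⟩

theorem forward_main (p q : ℕ) [hp : Fact p.Prime] [hq : Fact q.Prime] (hpq : p ≠ q)
    (hord : ∀ g : G, orderOf g = 1 ∨ orderOf g = p ∨ orderOf g = q)
    (htp : ∀ g h : G, orderOf g = p → orderOf h = p → ∃ φ : MulAut G, φ g = h)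
    (htq : ∀ g h : G, orderOf g = q → orderOf h = q → ∃ φ : MulAut G, φ g = h)
    (a b : ℕ) (hcard : Nat.card G = p ^ a * q ^ b) (hb : 1 ≤ b)
    (N : Subgroup G) (hN : N.Normal) (hNp : IsPGroup p N) (hN1 : N ≠ ⊥) :
    ∃ n, 1 ≤ n ∧ Nat.card G = p ^ n * q ∧
      (∀ P : Sylow p G, (P : Subgroup G).Normal ∧
        Cfsg.IsElementaryAbelian p (P : Subgroup G)) ∧
      orderOf (p : ZMod q) = q - 1 ∧
      ∀ x y : G, orderOf x = q → orderOf y = p → x * y * x⁻¹ ≠ y := by
  obtain ⟨hPiff, hnormal, hcomm, hfpf⟩ := forward_struct p q hpq hord htp N hN hNp hN1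
  obtain ⟨P⟩ : Nonempty (Sylow p G) := inferInstance
  have hP1 : (P : Subgroup G) ≠ ⊥ := by
    haveI := hN
    have hle := IsPGroup.le_sylow_of_normal hNp P
    intro h
    apply hN1
    rw [eq_bot_iff, ← h]
    exact hle
  have hsq := forward_sq p q hpq hord P (hnormal P) (hcomm P) hP1 (hPiff P) hfpf
  have hb1 : b = 1 := by
    by_contra hne
    have h2 : 2 ≤ b := by omega
    apply hsq
    rw [hcard]
    exact Dvd.dvd.mul_left (pow_dvd_pow q h2) _
  subst hb1
  rw [pow_one] at hcard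
  have hnd : ¬ p ∣ q := fun h => hpq ((Nat.prime_dvd_prime_iff_eq hp.out hq.out).mp h)
  have ha : 1 ≤ a := by
    by_contra h
    have h0 : a = 0 := by omega
    subst h0
    rw [pow_zero, one_mul] at hcard
    obtain ⟨⟨y, hyP⟩, hy1⟩ := (Subgroup.ne_bot_iff_exists_ne_one).mp hP1
    have hy1' : y ≠ 1 := fun h => hy1 (Subtype.ext h)
    have hyp : orderOf y = p := orderOf_eq_prime ((hPiff P y).mp hyP) hy1'
    have := orderOf_dvd_natCard y
    rw [hyp, hcard] at this
    exact hnd this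
  have hfac : (p ^ a * q).factorization p = a := by
    rw [Nat.factorization_mul (pow_ne_zero _ hp.out.ne_zero) hq.out.ne_zero, Finsupp.add_apply,
      Nat.factorization_pow, Finsupp.smul_apply, hp.out.factorization_self,
      Nat.factorization_eq_zero_of_not_dvd hnd]
    simp
  have hPcard : Nat.card (P : Subgroup G) = p ^ a := by
    rw [Sylow.card_eq_multiplicity, hcard, hfac]
  obtain ⟨x, hx⟩ := exists_prime_orderOf_dvd_card' (G := G) q
    (by rw [hcard]; exact dvd_mul_left q _)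
  have hc := complement_of_card (P : Subgroup G) x q hx (by rw [hPcard, hcard])
    (by rw [hPcard]; exact Nat.Coprime.pow_left a ((Nat.coprime_primes hp.out hq.out).mpr hpq))
  have hprim := forward_prim p q hpq htp htq P (hnormal P) (hcomm P) hP1 (hPiff P) hfpf x hx hc
  exact ⟨a, ha, hcard, fun P' => ⟨hnormal P',
    ⟨⟨⟨fun a b => Subtype.ext (hcomm P' a a.2 b b.2)⟩⟩, fun a ha => (hPiff P' a).mp ha⟩⟩,
    hprim, hfpf⟩

theorem forward (hnpp : ¬ IsPrimePow (Nat.card G)) (hnt : Nat.card G ≠ 1)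
    (h3 : Nat.card (MulAction.orbitRel.Quotient (MulAut G) G) = 3) :
    ∃ (p q n : ℕ) (_ : Fact p.Prime) (_ : Fact q.Prime), p ≠ q ∧ 1 ≤ n ∧
      Nat.card G = p ^ n * q ∧
      (∀ P : Sylow p G, (P : Subgroup G).Normal ∧
        Cfsg.IsElementaryAbelian p (P : Subgroup G)) ∧
      orderOf (p : ZMod q) = q - 1 ∧
      ∀ x y : G, orderOf x = q → orderOf y = p → x * y * x⁻¹ ≠ y := by
  have hG0 : Nat.card G ≠ 0 := Nat.card_pos.ne'
  obtain ⟨p, hp, hpd⟩ := Nat.exists_prime_and_dvd hnt
  obtain ⟨q, hq, hqd, hqp⟩ : ∃ q, q.Prime ∧ q ∣ Nat.card G ∧ q ≠ p := by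
    by_contra hcon
    push Not at hcon
    have h1 := Nat.eq_prime_pow_of_unique_prime_dvd hG0 (fun {d} hd hdd => hcon d hd hdd)
    apply hnpp
    rw [h1]
    refine hp.isPrimePow.pow ?_
    intro h0
    rw [h0, pow_zero] at h1
    exact hnt h1
  haveI : Fact p.Prime := ⟨hp⟩
  haveI : Fact q.Prime := ⟨hq⟩
  have hpq : p ≠ q := Ne.symm hqp
  obtain ⟨xp, hxp⟩ := exists_prime_orderOf_dvd_card' (G := G) p hpd
  obtain ⟨xq, hxq⟩ := exists_prime_orderOf_dvd_card' (G := G) q hqd
  have hinv : ∀ u v : G, (Quotient.mk'' u : MulAction.orbitRel.Quotient (MulAut G) G) =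
      Quotient.mk'' v → orderOf u = orderOf v := by
    intro u v h
    obtain ⟨φ, rfl⟩ := (mk_eq_iff u v).mp h
    exact MulEquiv.orderOf_eq φ v
  haveI : Finite (MulAction.orbitRel.Quotient (MulAut G) G) := by
    unfold MulAction.orbitRel.Quotient; infer_instance
  have htri : ∀ g : G, g = 1 ∨ (∃ φ : MulAut G, φ xp = g) ∨ (∃ φ : MulAut G, φ xq = g) := by
    intro g
    have h1p : (Quotient.mk'' 1 : MulAction.orbitRel.Quotient (MulAut G) G) ≠
        Quotient.mk'' xp := by
      intro h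
      have := hinv _ _ h
      rw [orderOf_one, hxp] at this
      exact hp.ne_one this.symm
    have h1q : (Quotient.mk'' 1 : MulAction.orbitRel.Quotient (MulAut G) G) ≠
        Quotient.mk'' xq := by
      intro h
      have := hinv _ _ h
      rw [orderOf_one, hxq] at this
      exact hq.ne_one this.symm
    have hpq' : (Quotient.mk'' xp : MulAction.orbitRel.Quotient (MulAut G) G) ≠
        Quotient.mk'' xq := by
      intro h
      have := hinv _ _ h
      rw [hxp, hxq] at this
      exact hpq this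
    rcases three_elements h3 _ _ _ h1p h1q hpq' (Quotient.mk'' g) with h | h | h
    · left
      obtain ⟨φ, hφ⟩ := (mk_eq_iff _ _).mp h
      rw [← hφ, map_one]
    · right; left
      exact (mk_eq_iff _ _).mp h
    · right; right
      exact (mk_eq_iff _ _).mp h
  have hord : ∀ g : G, orderOf g = 1 ∨ orderOf g = p ∨ orderOf g = q := by
    intro g
    rcases htri g with h | ⟨φ, h⟩ | ⟨φ, h⟩
    · left; rw [h, orderOf_one]
    · right; left; rw [← h, MulEquiv.orderOf_eq, hxp]
    · right; right; rw [← h, MulEquiv.orderOf_eq, hxq]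
  have htp : ∀ g h : G, orderOf g = p → orderOf h = p → ∃ φ : MulAut G, φ g = h := by
    have key : ∀ g : G, orderOf g = p → ∃ φ : MulAut G, φ xp = g := by
      intro g hg
      rcases htri g with h | h | ⟨φ, h⟩
      · rw [h, orderOf_one] at hg; exact absurd hg.symm hp.ne_one
      · exact h
      · rw [← h, MulEquiv.orderOf_eq, hxq] at hg; exact absurd hg.symm hpq
    intro g h hg hh
    obtain ⟨φ₁, h1⟩ := key g hg
    obtain ⟨φ₂, h2⟩ := key h hh
    refine ⟨φ₂ * φ₁⁻¹, ?_⟩
    rw [MulAut.mul_apply, ← h1, MulAut.inv_apply_self, h2]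
  have htq : ∀ g h : G, orderOf g = q → orderOf h = q → ∃ φ : MulAut G, φ g = h := by
    have key : ∀ g : G, orderOf g = q → ∃ φ : MulAut G, φ xq = g := by
      intro g hg
      rcases htri g with h | ⟨φ, h⟩ | h
      · rw [h, orderOf_one] at hg; exact absurd hg.symm hq.ne_one
      · rw [← h, MulEquiv.orderOf_eq, hxp] at hg; exact absurd hg hpq
      · exact h
    intro g h hg hh
    obtain ⟨φ₁, h1⟩ := key g hg
    obtain ⟨φ₂, h2⟩ := key h hh
    refine ⟨φ₂ * φ₁⁻¹, ?_⟩
    rw [MulAut.mul_apply, ← h1, MulAut.inv_apply_self, h2]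
  -- the order of G
  have hprimes : ∀ r : ℕ, r.Prime → r ∣ Nat.card G → r = p ∨ r = q := by
    intro r hr hrd
    haveI : Fact r.Prime := ⟨hr⟩
    obtain ⟨y, hy⟩ := exists_prime_orderOf_dvd_card' (G := G) r hrd
    rcases hord y with h | h | h
    · rw [hy] at h; exact absurd h hr.ne_one
    · left; rw [← hy, h]
    · right; rw [← hy, h]
  obtain ⟨a, m, hpm, hGm⟩ := Nat.exists_eq_pow_mul_and_not_dvd hG0 p hp.ne_one
  have hm0 : m ≠ 0 := by
    intro h; rw [h, mul_zero] at hGm; exact hG0 hGm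
  have hmq : m = q ^ m.primeFactorsList.length := by
    apply Nat.eq_prime_pow_of_unique_prime_dvd hm0
    intro d hd hdm
    rcases hprimes d hd (hGm ▸ Dvd.dvd.mul_left hdm _) with h | h
    · rw [h] at hdm; exact absurd hdm hpm
    · exact h
  obtain ⟨b, hb⟩ : ∃ b, b = m.primeFactorsList.length := ⟨_, rfl⟩
  rw [← hb] at hmq
  have hcard : Nat.card G = p ^ a * q ^ b := by rw [hGm, ← hmq]
  have ha1 : 1 ≤ a := by
    by_contra h
    have h0 : a = 0 := by omega
    rw [hcard, h0, pow_zero, one_mul] at hpd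
    have := hp.dvd_of_dvd_pow hpd
    exact hpq ((Nat.prime_dvd_prime_iff_eq hp hq).mp this)
  have hb1 : 1 ≤ b := by
    by_contra h
    have h0 : b = 0 := by omega
    rw [hcard, h0, pow_zero, mul_one] at hqd
    have := hq.dvd_of_dvd_pow hqd
    exact hpq ((Nat.prime_dvd_prime_iff_eq hq hp).mp this).symm
  haveI : Group.IsSolvable G := S0144.result p q a b hp hq hcard
  haveI : Nontrivial G := by
    rw [← Finite.one_lt_card_iff_nontrivial]
    have := Nat.card_pos (α := G)
    omega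
  obtain ⟨r, hr⟩ := helper23.exists_pCore_ne_bot_of_solvable G
  haveI : Fact (r : ℕ).Prime := ⟨r.2⟩
  have hrN := helper1.pCore_normal (G := G) (r : ℕ)
  have hrP := helper1.pCore_isPGroup (G := G) (r : ℕ)
  -- r = p or r = q
  have hrpq : (r : ℕ) = p ∨ (r : ℕ) = q := by
    obtain ⟨⟨z, hzN⟩, hz1⟩ := (Subgroup.ne_bot_iff_exists_ne_one).mp hr
    have hz1' : z ≠ 1 := fun h => hz1 (Subtype.ext h)
    obtain ⟨k, hk⟩ := hrP ⟨z, hzN⟩
    have hk' : z ^ ((r : ℕ) ^ k) = 1 := by simpa using congrArg Subtype.val hk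
    have hd := orderOf_dvd_of_pow_eq_one hk'
    rcases hord z with h | h | h
    · exact absurd (orderOf_eq_one_iff.mp h) hz1'
    · left
      rw [h] at hd
      exact ((Nat.prime_dvd_prime_iff_eq hp r.2).mp (hp.dvd_of_dvd_pow hd)).symm
    · right
      rw [h] at hd
      exact ((Nat.prime_dvd_prime_iff_eq hq r.2).mp (hq.dvd_of_dvd_pow hd)).symm
  rcases hrpq with h | h
  · rw [h] at hr hrN hrP
    obtain ⟨n, hn, h1, h2, h3, h4⟩ := forward_main p q hpq hord htp htq a b hcard hb1
      _ hrN hrP hr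
    exact ⟨p, q, n, ⟨hp⟩, ⟨hq⟩, hpq, hn, h1, h2, h3, h4⟩
  · rw [h] at hr hrN hrP
    have hord' : ∀ g : G, orderOf g = 1 ∨ orderOf g = q ∨ orderOf g = p := by
      intro g
      rcases hord g with h | h | h
      · exact Or.inl h
      · exact Or.inr (Or.inr h)
      · exact Or.inr (Or.inl h)
    obtain ⟨n, hn, h1, h2, h3, h4⟩ := forward_main q p hqp hord' htq htp b a
      (by rw [hcard, mul_comm]) ha1 _ hrN hrP hr
    exact ⟨q, p, n, ⟨hq⟩, ⟨hp⟩, hqp, hn, h1, h2, h3, h4⟩

end Forward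

section Backward

variable {G : Type*} [Group G] [Finite G]

theorem backward (p q n : ℕ) [hp : Fact p.Prime] [hq : Fact q.Prime] (hpq : p ≠ q) (hn : 1 ≤ n)
    (hcard : Nat.card G = p ^ n * q)
    (hSyl : ∀ P : Sylow p G, (P : Subgroup G).Normal ∧
      Cfsg.IsElementaryAbelian p (P : Subgroup G))
    (hprim : orderOf (p : ZMod q) = q - 1)
    (hfpf : ∀ x y : G, orderOf x = q → orderOf y = p → x * y * x⁻¹ ≠ y) :
    Nat.card (MulAction.orbitRel.Quotient (MulAut G) G) = 3 := by
  obtain ⟨P⟩ : Nonempty (Sylow p G) := inferInstance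
  obtain ⟨hPn, hPc, hPe⟩ := hSyl P
  haveI := hPn
  have hnd : ¬ p ∣ q := fun h => hpq ((Nat.prime_dvd_prime_iff_eq hp.out hq.out).mp h)
  have hfac : (p ^ n * q).factorization p = n := by
    rw [Nat.factorization_mul (pow_ne_zero _ hp.out.ne_zero) hq.out.ne_zero, Finsupp.add_apply,
      Nat.factorization_pow, Finsupp.smul_apply, hp.out.factorization_self,
      Nat.factorization_eq_zero_of_not_dvd hnd]
    simp
  have hPcard : Nat.card (P : Subgroup G) = p ^ n := by
    rw [Sylow.card_eq_multiplicity, hcard, hfac]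
  have hirr : Irreducible (Polynomial.cyclotomic q (ZMod p)) := by
    apply ZMod.irreducible_of_dvd_cyclotomic_of_natDegree (n := q) hnd (dvd_refl _)
    rw [Polynomial.natDegree_cyclotomic, Nat.totient_prime hq.out, ← hprim, ← orderOf_units,
      ZMod.coe_unitOfCoprime]
  obtain ⟨x, hx⟩ := exists_prime_orderOf_dvd_card' (G := G) q
    (by rw [hcard]; exact dvd_mul_left q _)
  have hc := complement_of_card (P : Subgroup G) x q hx (by rw [hPcard, hcard])
    (by rw [hPcard]; exact Nat.Coprime.pow_left n ((Nat.coprime_primes hp.out hq.out).mpr hpq))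
  letI : CommGroup (P : Subgroup G) :=
    { (inferInstance : Group (P : Subgroup G)) with
      mul_comm := fun a b => hPc.is_comm.comm a b }
  have hexp : ∀ a : (P : Subgroup G), a ^ p = 1 := fun a =>
    Subtype.ext (by simpa using hPe a a.2)
  have hfix : ∀ k : G, orderOf k = q → ∀ y ∈ (P : Subgroup G), k * y * k⁻¹ = y → y = 1 := by
    intro k hk y hy hky
    by_contra hy1
    exact hfpf k y hk (orderOf_eq_prime (hPe y hy) hy1) hky
  have hTq : ∀ i : ℕ, (MulAut.conjNormal (x ^ i) : MulAut (P : Subgroup G)) ^ q = 1 := by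
    intro i
    rw [← map_pow, ← pow_mul, mul_comm, pow_mul, ← hx, pow_orderOf_eq_one, one_pow, map_one]
  have hTq1 : (MulAut.conjNormal x : MulAut (P : Subgroup G)) ^ q = 1 := by
    have := hTq 1
    rwa [pow_one] at this
  have hTf : ∀ k : G, orderOf k = q → ∀ a : (P : Subgroup G),
      (MulAut.conjNormal k : MulAut (P : Subgroup G)) a = a → a = 1 := by
    intro k hk a ha
    have h1 : k * (a : G) * k⁻¹ = a := by
      have := congrArg Subtype.val ha
      rwa [MulAut.conjNormal_apply] at this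
    exact Subtype.ext (hfix k hk a a.2 h1)
  -- (B)
  have hB : ∀ i, 0 < i → i < q → ∃ φ : MulAut G, φ x = x ^ i := by
    intro i hi0 hiq
    have hnd' : ¬ q ∣ i := fun h => absurd (Nat.le_of_dvd hi0 h) (by omega)
    have hxi1 : x ^ i ≠ 1 := by
      intro h
      have := orderOf_dvd_of_pow_eq_one h
      rw [hx] at this
      exact hnd' this
    have hxiq := orderOf_pow_of_ne_one x hx i hxi1
    obtain ⟨θ, hθ⟩ := twist_mul hirr hexp (MulAut.conjNormal x) (MulAut.conjNormal (x ^ i))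
      hTq1 (hTf x hx) (hTq i) (hTf _ hxiq)
    have hcop : (orderOf x).Coprime i := by
      rw [hx]; exact (Nat.Prime.coprime_iff_not_dvd hq.out).mpr hnd'
    obtain ⟨φ, hφ1, -⟩ := extend_aut (P : Subgroup G) x hc θ i hcop
      (by rw [← map_pow]; exact hθ)
    exact ⟨φ, hφ1⟩
  -- (A)
  have hA : ∀ v w : G, v ∈ (P : Subgroup G) → w ∈ (P : Subgroup G) → v ≠ 1 → w ≠ 1 →
      ∃ φ : MulAut G, φ v = w := by
    intro v w hv hw hv1 hw1
    obtain ⟨θ, hθ1, hθ2⟩ := trans_mul hirr hexp (MulAut.conjNormal x) hTq1 (hTf x hx)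
      ⟨v, hv⟩ ⟨w, hw⟩ (fun h => hv1 (congrArg Subtype.val h))
      (fun h => hw1 (congrArg Subtype.val h))
    obtain ⟨φ, -, hφ2⟩ := extend_aut (P : Subgroup G) x hc θ 1 (Nat.coprime_one_right _)
      (by rw [pow_one]; exact hθ2)
    refine ⟨φ, ?_⟩
    have := hφ2 ⟨v, hv⟩
    rw [hθ1] at this
    exact this
  -- elements outside P
  have hout : ∀ g : G, g ∉ (P : Subgroup G) → ∃ φ : MulAut G, φ x = g := by
    intro g hg
    obtain ⟨u, hu, i, hi⟩ := decomp_of_complement _ x hc g
    have hxi1 : x ^ i ≠ 1 := by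
      intro h
      rw [h, mul_one] at hi
      exact hg (hi ▸ hu)
    have hxiq := orderOf_pow_of_ne_one x hx i hxi1
    obtain ⟨y, hy, hyu⟩ := conj_of_fpf (P : Subgroup G) (x ^ i) (hfix _ hxiq) u hu
    have hmod : x ^ i = x ^ (i % q) := by rw [← hx, pow_mod_orderOf]
    have hi0 : 0 < i % q := by
      by_contra h
      have h0 : i % q = 0 := by omega
      rw [h0, pow_zero] at hmod
      exact hxi1 hmod
    obtain ⟨φ, hφ⟩ := hB (i % q) hi0 (Nat.mod_lt _ hq.out.pos)
    refine ⟨MulAut.conj y * φ, ?_⟩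
    rw [MulAut.mul_apply, hφ, MulAut.conj_apply, ← hmod, hi, hyu]
  -- an element of order p in P
  obtain ⟨y₀, hy₀⟩ : ∃ y₀ : (P : Subgroup G), orderOf y₀ = p :=
    exists_prime_orderOf_dvd_card' p (by rw [hPcard]; exact dvd_pow_self p (by omega))
  have hy₀' : orderOf (y₀ : G) = p := by rw [Subgroup.orderOf_coe]; exact hy₀
  have hy₀1 : (y₀ : G) ≠ 1 := by
    intro h
    rw [h, orderOf_one] at hy₀'
    exact hp.out.ne_one hy₀'.symm
  have hinv : ∀ u v : G, (Quotient.mk'' u : MulAction.orbitRel.Quotient (MulAut G) G) =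
      Quotient.mk'' v → orderOf u = orderOf v := by
    intro u v h
    obtain ⟨φ, rfl⟩ := (mk_eq_iff u v).mp h
    exact MulEquiv.orderOf_eq φ v
  haveI : Finite (MulAction.orbitRel.Quotient (MulAut G) G) := by
    unfold MulAction.orbitRel.Quotient; infer_instance
  apply card_eq_three_of (Quotient.mk'' 1) (Quotient.mk'' (y₀ : G)) (Quotient.mk'' x)
  · intro h
    have := hinv _ _ h
    rw [orderOf_one, hy₀'] at this
    exact hp.out.ne_one this.symm
  · intro h
    have := hinv _ _ h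
    rw [orderOf_one, hx] at this
    exact hq.out.ne_one this.symm
  · intro h
    have := hinv _ _ h
    rw [hy₀', hx] at this
    exact hpq this
  · intro t
    induction t using Quotient.inductionOn' with
    | h g =>
      by_cases hgP : g ∈ (P : Subgroup G)
      · by_cases hg1 : g = 1
        · left; rw [hg1]
        · right; left
          rw [mk_eq_iff]
          exact hA y₀ g y₀.2 hgP hy₀1 hg1
      · right; right
        rw [mk_eq_iff]
        exact hout g hgP

end Backward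

theorem result {G : Type*} [Group G] [Finite G] (hnpp : ¬ IsPrimePow (Nat.card G)) (hnt : Nat.card G ≠ 1) :
    Nat.card (MulAction.orbitRel.Quotient (MulAut G) G) = 3 ↔
    ∃ (p q n : ℕ) (_ : Fact p.Prime) (_ : Fact q.Prime), p ≠ q ∧ 1 ≤ n ∧ Nat.card G = p ^ n * q ∧
      (∀ P : Sylow p G, (P : Subgroup G).Normal ∧ Cfsg.IsElementaryAbelian p (P : Subgroup G)) ∧
      orderOf (p : ZMod q) = q - 1 ∧
      ∀ x y : G, orderOf x = q → orderOf y = p → x * y * x⁻¹ ≠ y := by
  constructor
  · exact forward hnpp hnt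
  · rintro ⟨p, q, n, hp, hq, hpq, hn, hcard, hSyl, hprim, hfpf⟩
    exact backward p q n hpq hn hcard hSyl hprim hfpf

end Cfsg.Agent.S4081
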