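import Mathlib
import Cfsg.Statements.S4082
import Cfsg.Agent.Lib_helper1_Dihedral

set_option autoImplicit false
set_option linter.style.haveILetI false
open Cfsg

namespace Cfsg.Agent.S4082

open DihedralGroup

/-! ### dihedral dichotomy -/

theorem dih_dichotomy {m : ℕ} (A : Subgroup (DihedralGroup m)) (hA : Odd (Nat.card A))
    (d : DihedralGroup m) :
    (∀ a ∈ A, d * a * d⁻¹ = a) ∨ (d * d = 1 ∧ ∀ a ∈ A, d * a * d⁻¹ = a⁻¹) := by
  have hrot : ∀ a ∈ A, ∃ j, a = r j := by
    intro a ha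
    rcases a with j | j
    · exact ⟨j, rfl⟩
    · exfalso
      have h1 := Subgroup.orderOf_dvd_natCard A ha
      rw [orderOf_sr] at h1
      exact (Nat.not_even_iff_odd.mpr hA) (even_iff_two_dvd.mpr h1)
  rcases d with i | i
  · left
    intro a ha
    obtain ⟨j, rfl⟩ := hrot a ha
    simp
  · right
    refine ⟨by simp, ?_⟩
    intro a ha
    obtain ⟨j, rfl⟩ := hrot a ha
    simp

theorem dichotomy_of_equiv {H : Type*} [Group H] {m : ℕ} (e : H ≃* DihedralGroup m)
    (A : Subgroup H) (hA : Odd (Nat.card A)) (x : H) :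
    (∀ a ∈ A, x * a * x⁻¹ = a) ∨ (x * x = 1 ∧ ∀ a ∈ A, x * a * x⁻¹ = a⁻¹) := by
  have hcard : Nat.card (A.map e.toMonoidHom) = Nat.card A :=
    Subgroup.card_map_of_injective e.injective
  have hA' : Odd (Nat.card (A.map e.toMonoidHom)) := by rw [hcard]; exact hA
  have hmem : ∀ a ∈ A, e a ∈ A.map e.toMonoidHom := fun a ha =>
    Subgroup.mem_map_of_mem e.toMonoidHom ha
  rcases dih_dichotomy (A.map e.toMonoidHom) hA' (e x) with h | ⟨h1, h2⟩
  · left
    intro a ha
    apply e.injective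
    have := h (e a) (hmem a ha)
    rw [map_mul, map_mul, map_inv]
    exact this
  · right
    refine ⟨e.injective (by rw [map_mul, map_one]; exact h1), ?_⟩
    intro a ha
    apply e.injective
    have := h2 (e a) (hmem a ha)
    rw [map_mul, map_mul, map_inv, map_inv]
    exact this

section Gen

variable {G : Type*} [Group G]

theorem mem_cent_iff_conj (R : Subgroup G) (x : G) :
    x ∈ Subgroup.centralizer (R : Set G) ↔ ∀ y ∈ R, x * y * x⁻¹ = y := by
  rw [Subgroup.mem_centralizer_iff]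
  constructor
  · intro h y hy
    rw [← h y hy, mul_inv_cancel_right]
  · intro h y hy
    have := h y hy
    rw [mul_inv_eq_iff_eq_mul] at this
    exact this.symm

/-- elements of `R ⊔ zpowers x` when `x` normalizes `R`. -/
theorem mem_sup_zpowers {R : Subgroup G} {x : G} (hx : x ∈ Subgroup.normalizer (R : Set G)) {h : G}
    (hh : h ∈ R ⊔ Subgroup.zpowers x) : ∃ y ∈ R, ∃ k : ℤ, h = y * x ^ k := by
  have hxk : ∀ k : ℤ, ∀ y ∈ R, x ^ k * y * (x ^ k)⁻¹ ∈ R := fun k y hy =>
    (Subgroup.mem_normalizer_iff.mp (Subgroup.zpow_mem _ hx k) y).mp hy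
  let T : Subgroup G :=
    { carrier := {h | ∃ y ∈ R, ∃ k : ℤ, h = y * x ^ k}
      one_mem' := ⟨1, R.one_mem, 0, by simp⟩
      mul_mem' := by
        rintro a b ⟨y, hy, k, rfl⟩ ⟨y', hy', k', rfl⟩
        refine ⟨y * (x ^ k * y' * (x ^ k)⁻¹), R.mul_mem hy (hxk k y' hy'), k + k', ?_⟩
        rw [zpow_add]; group
      inv_mem' := by
        rintro a ⟨y, hy, k, rfl⟩
        refine ⟨x ^ (-k) * y⁻¹ * (x ^ (-k))⁻¹, hxk (-k) _ (R.inv_mem hy), -k, ?_⟩
        group }
  have hle : R ⊔ Subgroup.zpowers x ≤ T := by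
    apply sup_le
    · intro y hy
      exact ⟨y, hy, 0, by simp⟩
    · rw [Subgroup.zpowers_le]
      exact ⟨1, R.one_mem, 1, by simp⟩
  exact hle hh

variable [Finite G] {p : ℕ} [Fact p.Prime]

theorem hyps_of_normalizes (R : Subgroup G) (hR : IsPGroup p R) (x : G)
    (hx : x ∈ Subgroup.normalizer (R : Set G)) (H : Subgroup G)
    (hH : H = R ⊔ Subgroup.zpowers x) :
    (∀ S : Sylow p ↥H, (S : Subgroup ↥H).Normal) ∧
    (∀ (S : Sylow p ↥H) [(S : Subgroup ↥H).Normal], IsCyclic (↥H ⧸ (S : Subgroup ↥H))) := by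
  subst hH
  set H := R ⊔ Subgroup.zpowers x with hHdef
  have hHN : H ≤ Subgroup.normalizer (R : Set G) :=
    sup_le Subgroup.le_normalizer (Subgroup.zpowers_le.mpr hx)
  haveI hn : (R.subgroupOf H).Normal := Subgroup.normal_subgroupOf_of_le_normalizer hHN
  have hR' : IsPGroup p (R.subgroupOf H) := hR.comap_subtype
  have hxH : x ∈ H := (le_sup_right : Subgroup.zpowers x ≤ H) (Subgroup.mem_zpowers x)
  let x' : ↥H := ⟨x, hxH⟩
  have hdec : ∀ h : ↥H, ∃ y ∈ R.subgroupOf H, ∃ k : ℤ, h = y * x' ^ k := by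
    intro h
    obtain ⟨y, hy, k, hk⟩ := mem_sup_zpowers hx h.2
    refine ⟨⟨y, (le_sup_left : R ≤ H) hy⟩, ?_, k, ?_⟩
    · rw [Subgroup.mem_subgroupOf]; exact hy
    · apply Subtype.ext
      rw [Subgroup.coe_mul, Subgroup.coe_zpow]
      exact hk
  have hmk : ∀ (N : Subgroup ↥H) [N.Normal], R.subgroupOf H ≤ N → ∀ h : ↥H, ∃ k : ℤ,
      (QuotientGroup.mk h : ↥H ⧸ N) = (QuotientGroup.mk x' : ↥H ⧸ N) ^ k := by
    intro N _ hN h
    obtain ⟨y, hy, k, hk⟩ := hdec h
    refine ⟨k, ?_⟩
    rw [hk, QuotientGroup.mk_mul, QuotientGroup.mk_zpow, (QuotientGroup.eq_one_iff y).mpr (hN hy),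
      one_mul]
  have hcomm : ∀ a b : ↥H, a * b * a⁻¹ * b⁻¹ ∈ R.subgroupOf H := by
    intro a b
    obtain ⟨k, hk⟩ := hmk (R.subgroupOf H) le_rfl a
    obtain ⟨l, hl⟩ := hmk (R.subgroupOf H) le_rfl b
    rw [← QuotientGroup.eq_one_iff, QuotientGroup.mk_mul, QuotientGroup.mk_mul,
      QuotientGroup.mk_mul, QuotientGroup.mk_inv, QuotientGroup.mk_inv, hk, hl]
    rw [← zpow_add, ← zpow_neg, ← zpow_add, ← zpow_neg, ← zpow_add]
    have : k + l + -k + -l = 0 := by ring
    rw [this, zpow_zero]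
  have hle : ∀ S : Sylow p ↥H, R.subgroupOf H ≤ (S : Subgroup ↥H) := fun S =>
    hR'.le_sylow_of_normal S
  constructor
  · intro S
    constructor
    intro s hs h
    have : h * s * h⁻¹ = (h * s * h⁻¹ * s⁻¹) * s := by group
    rw [this]
    exact Subgroup.mul_mem _ (hle S (hcomm h s)) hs
  · intro S hSn
    refine ⟨⟨(QuotientGroup.mk x' : ↥H ⧸ (S : Subgroup ↥H)), ?_⟩⟩
    intro q
    obtain ⟨h, rfl⟩ := QuotientGroup.mk_surjective q
    obtain ⟨k, hk⟩ := hmk (S : Subgroup ↥H) (hle S) h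
    exact ⟨k, hk.symm⟩


/-- the hypothesis of the theorem ("restricted p-by-cyclic subgroups") -/
def Restricted (G : Type*) [Group G] (p : ℕ) : Prop :=
  ∀ H : Subgroup G, (∀ S : Sylow p ↥H, (S : Subgroup ↥H).Normal) →
    (∀ (S : Sylow p ↥H) [(S : Subgroup ↥H).Normal], IsCyclic (↥H ⧸ (S : Subgroup ↥H))) →
    IsCyclic H ∨ (∃ n : ℕ, Nonempty (H ≃* DihedralGroup (p ^ n)))

theorem odd_card_of_pgroup (hp : p ≠ 2) (R : Subgroup G) (hR : IsPGroup p R) :
    Odd (Nat.card R) := by
  obtain ⟨n, hn⟩ := IsPGroup.iff_card.mp hR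
  rw [hn]
  exact ((Fact.out : p.Prime).eq_two_or_odd'.resolve_left hp).pow

theorem act_dichotomy (hp : p ≠ 2) (hyp : Restricted G p) (R : Subgroup G) (hR : IsPGroup p R)
    (x : G) (hx : x ∈ Subgroup.normalizer (R : Set G)) :
    (∀ y ∈ R, x * y * x⁻¹ = y) ∨ (x * x = 1 ∧ ∀ y ∈ R, x * y * x⁻¹ = y⁻¹) := by
  obtain ⟨h1, h2⟩ := hyps_of_normalizes (p := p) R hR x hx (R ⊔ Subgroup.zpowers x) rfl
  have hxH : x ∈ R ⊔ Subgroup.zpowers x :=
    (le_sup_right : Subgroup.zpowers x ≤ _) (Subgroup.mem_zpowers x)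
  have hRH : R ≤ R ⊔ Subgroup.zpowers x := le_sup_left
  rcases hyp _ h1 h2 with hc | ⟨n, ⟨e⟩⟩
  · left
    intro y hy
    obtain ⟨g, hg⟩ := hc.exists_generator
    have hcm : ∀ a b : ↥(R ⊔ Subgroup.zpowers x), a * b = b * a := by
      intro a b
      obtain ⟨k, rfl⟩ := Subgroup.mem_zpowers_iff.mp (hg a)
      obtain ⟨l, rfl⟩ := Subgroup.mem_zpowers_iff.mp (hg b)
      rw [← zpow_add, ← zpow_add, add_comm]
    have := congrArg Subtype.val (hcm ⟨x, hxH⟩ ⟨y, hRH hy⟩)
    rw [Subgroup.coe_mul, Subgroup.coe_mul] at this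
    rw [this, mul_inv_cancel_right]
  · have hodd : Odd (Nat.card (R.subgroupOf (R ⊔ Subgroup.zpowers x))) := by
      rw [Nat.card_congr (Subgroup.subgroupOfEquivOfLe hRH).toEquiv]
      exact odd_card_of_pgroup hp R hR
    rcases dichotomy_of_equiv e (R.subgroupOf (R ⊔ Subgroup.zpowers x)) hodd ⟨x, hxH⟩ with h | ⟨h3, h4⟩
    · left
      intro y hy
      have := congrArg Subtype.val (h ⟨y, hRH hy⟩ (by rw [Subgroup.mem_subgroupOf]; exact hy))
      simpa using this
    · right
      constructor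
      · have := congrArg Subtype.val h3
        simpa using this
      · intro y hy
        have := congrArg Subtype.val (h4 ⟨y, hRH hy⟩ (by rw [Subgroup.mem_subgroupOf]; exact hy))
        simpa using this

theorem forward (hp : p ≠ 2) (P : Sylow p G) (hyp : Restricted G p) :
    (IsCyclic P ∧
      (Subgroup.normalizer ((P : Subgroup G) : Set G) = Subgroup.centralizer ((P : Subgroup G) : Set G) ∨
       ((Subgroup.centralizer ((P : Subgroup G) : Set G)).relIndex (Subgroup.normalizer ((P : Subgroup G) : Set G)) = 2 ∧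
        ∀ Q : Subgroup G, Q ≤ P → Nat.card Q = p →
          IsMulCommutative ↥(Subgroup.centralizer (Q : Set G)) ∧
          ∀ x : G, x ∈ Subgroup.normalizer (Q : Set G) → x ∉ Subgroup.centralizer (Q : Set G) →
            orderOf x = 2 ∧ ∀ c : G, c ∈ Subgroup.centralizer (Q : Set G) → x * c * x⁻¹ = c⁻¹))) := by
  have hpp : p.Prime := Fact.out
  constructor
  · -- P cyclic
    obtain ⟨h1, h2⟩ := hyps_of_normalizes (p := p) (P : Subgroup G) P.2 1 (Subgroup.one_mem _)
      (P : Subgroup G) (by simp)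
    rcases hyp _ h1 h2 with hc | ⟨n, ⟨e⟩⟩
    · exact hc
    · exfalso
      have hodd := odd_card_of_pgroup hp (P : Subgroup G) P.2
      rw [Nat.card_congr e.toEquiv, DihedralGroup.nat_card] at hodd
      exact (Nat.not_even_iff_odd.mpr hodd) (even_two_mul _)
  · set N := Subgroup.normalizer ((P : Subgroup G) : Set G) with hN
    set C := Subgroup.centralizer ((P : Subgroup G) : Set G) with hC
    have hCN : C ≤ N := Subgroup.centralizer_le_normalizer _
    by_cases hNC : N = C
    · left; exact hNC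
    right
    have hnle : ¬ N ≤ C := fun h => hNC (le_antisymm h hCN)
    obtain ⟨x₀, hx₀N, hx₀C⟩ := SetLike.not_le_iff_exists.mp hnle
    have hdich := act_dichotomy hp hyp (P : Subgroup G) P.2
    have hx₀ : x₀ * x₀ = 1 ∧ ∀ y ∈ (P : Subgroup G), x₀ * y * x₀⁻¹ = y⁻¹ := by
      rcases hdich x₀ hx₀N with h | h
      · exact absurd ((mem_cent_iff_conj _ _).mpr h) hx₀C
      · exact h
    -- generalities on inverting elements
    have hinv_not_cent : ∀ (R : Subgroup G), IsPGroup p R → R ≠ ⊥ → ∀ x : G,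
        (∀ y ∈ R, x * y * x⁻¹ = y⁻¹) → ¬ (∀ y ∈ R, x * y * x⁻¹ = y) := by
      intro R hR hRbot x hxi hxc
      apply hRbot
      rw [eq_bot_iff]
      intro y hy
      rw [Subgroup.mem_bot]
      have h1 : y = y⁻¹ := (hxc y hy).symm.trans (hxi y hy)
      have h2 : y ^ 2 = 1 := by
        rw [pow_two]
        nth_rewrite 1 [h1]
        exact inv_mul_cancel y
      have h3 : orderOf y ∣ 2 := orderOf_dvd_of_pow_eq_one h2
      have h4 : orderOf y ∣ Nat.card R := Subgroup.orderOf_dvd_natCard R hy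
      have h5 : Odd (Nat.card R) := odd_card_of_pgroup hp R hR
      have h6 : (Nat.card R).Coprime 2 := (Nat.coprime_two_left.mpr h5).symm
      have h7 : orderOf y ∣ 1 := by
        have := Nat.dvd_gcd h4 h3
        rwa [Nat.Coprime.gcd_eq_one h6] at this
      exact orderOf_eq_one_iff.mp (Nat.dvd_one.mp h7)
    have hPbot : (P : Subgroup G) ≠ ⊥ := by
      intro h
      apply hx₀C
      rw [mem_cent_iff_conj]
      intro y hy
      rw [h, Subgroup.mem_bot] at hy
      subst hy
      simp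
    constructor
    · -- index two
      show (C.subgroupOf N).index = 2
      rw [Subgroup.index_eq_two_iff]
      refine ⟨⟨x₀, hx₀N⟩, ?_⟩
      intro b
      rw [Subgroup.mem_subgroupOf, Subgroup.mem_subgroupOf, Subgroup.coe_mul]
      rcases hdich b.1 b.2 with hb | ⟨_, hb⟩
      · right
        refine ⟨(mem_cent_iff_conj _ _).mpr hb, ?_⟩
        intro hbx
        apply hx₀C
        have hbC : (b : G) ∈ C := (mem_cent_iff_conj _ _).mpr hb
        have := C.mul_mem (C.inv_mem hbC) hbx
        rwa [inv_mul_cancel_left] at this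
      · left
        constructor
        · rw [hC, mem_cent_iff_conj]
          intro y hy
          have h1 : (b : G) * x₀ * y * ((b : G) * x₀)⁻¹ = (b : G) * (x₀ * y * x₀⁻¹) * (b : G)⁻¹ := by
            group
          rw [h1, hx₀.2 y hy, hb _ ((P : Subgroup G).inv_mem hy), inv_inv]
        · intro hbC
          exact hinv_not_cent (P : Subgroup G) P.2 hPbot b.1 hb ((mem_cent_iff_conj _ _).mp hbC)
    · intro Q hQP hQcard
      have hQp : IsPGroup p Q := P.2.to_le hQP
      have hQbot : Q ≠ ⊥ := by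
        intro h
        rw [h, Subgroup.card_bot] at hQcard
        exact hpp.one_lt.ne hQcard
      -- x₀ normalizes Q, does not centralize
      have hx₀inv : x₀⁻¹ = x₀ := inv_eq_of_mul_eq_one_left hx₀.1
      have hx₀NQ : x₀ ∈ Subgroup.normalizer (Q : Set G) := by
        rw [Subgroup.mem_normalizer_iff]
        intro h
        constructor
        · intro hh
          rw [hx₀.2 h (hQP hh)]
          exact Q.inv_mem hh
        · intro hh
          have h1 := hx₀.2 _ (hQP hh)
          have h2 : x₀ * (x₀ * h * x₀⁻¹) * x₀⁻¹ = h := by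
            rw [hx₀inv]
            calc x₀ * (x₀ * h * x₀) * x₀ = (x₀ * x₀) * h * (x₀ * x₀) := by group
              _ = h := by rw [hx₀.1, one_mul, mul_one]
          rw [h2] at h1
          rw [h1]
          exact Q.inv_mem hh
      have hx₀CQ : x₀ ∉ Subgroup.centralizer (Q : Set G) := by
        intro h
        exact hinv_not_cent Q hQp hQbot x₀ (fun y hy => hx₀.2 y (hQP hy))
          ((mem_cent_iff_conj _ _).mp h)
      have hCNQ : Subgroup.centralizer (Q : Set G) ≤ Subgroup.normalizer (Q : Set G) :=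
        Subgroup.centralizer_le_normalizer _
      -- general claim
      have hgen : ∀ x : G, x ∈ Subgroup.normalizer (Q : Set G) → x ∉ Subgroup.centralizer (Q : Set G) →
          x * x = 1 ∧ ∀ c : G, c ∈ Subgroup.centralizer (Q : Set G) → x * c * x⁻¹ = c⁻¹ := by
        have hsq : ∀ x : G, x ∈ Subgroup.normalizer (Q : Set G) →
            x ∉ Subgroup.centralizer (Q : Set G) → x * x = 1 := by
          intro x hxN hxC
          rcases act_dichotomy hp hyp Q hQp x hxN with h | h
          · exact absurd ((mem_cent_iff_conj _ _).mpr h) hxC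
          · exact h.1
        intro x hxN hxC
        refine ⟨hsq x hxN hxC, ?_⟩
        intro c hc
        have hxcN : x * c ∈ Subgroup.normalizer (Q : Set G) :=
          Subgroup.mul_mem _ hxN (hCNQ hc)
        have hxcC : x * c ∉ Subgroup.centralizer (Q : Set G) := by
          intro h
          apply hxC
          have := Subgroup.mul_mem _ h (Subgroup.inv_mem _ hc)
          rwa [mul_inv_cancel_right] at this
        have h1 := hsq (x * c) hxcN hxcC
        have hxinv : x⁻¹ = x := inv_eq_of_mul_eq_one_left (hsq x hxN hxC)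
        rw [hxinv]
        apply eq_inv_of_mul_eq_one_left
        calc x * c * x * c = x * c * (x * c) := by group
          _ = 1 := h1
      constructor
      · -- commutative
        obtain ⟨_, hx₀c⟩ := hgen x₀ hx₀NQ hx₀CQ
        refine ⟨⟨fun a b => ?_⟩⟩
        apply Subtype.ext
        rw [Subgroup.coe_mul, Subgroup.coe_mul]
        have ha := hx₀c a.1 a.2
        have hb := hx₀c b.1 b.2
        have hab := hx₀c (a.1 * b.1) (Subgroup.mul_mem _ a.2 b.2)
        have h1 : x₀ * (a.1 * b.1) * x₀⁻¹ = (x₀ * a.1 * x₀⁻¹) * (x₀ * b.1 * x₀⁻¹) := by group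
        rw [h1, ha, hb, mul_inv_rev] at hab
        have h2 : (b.1 * a.1)⁻¹ = (a.1 * b.1)⁻¹ := by
          rw [mul_inv_rev, mul_inv_rev]; exact hab
        exact (inv_injective h2).symm
      · intro x hxN hxC
        obtain ⟨h1, h2⟩ := hgen x hxN hxC
        refine ⟨?_, h2⟩
        haveI : Fact (Nat.Prime 2) := ⟨Nat.prime_two⟩
        apply orderOf_eq_prime
        · rw [pow_two]; exact h1
        · rintro rfl
          exact hxC (Subgroup.one_mem _)

end Gen


section Abs

theorem mem_zpowers_of_pow_prime {C : Type*} [Group C] [Finite C] [hC : IsCyclic C] {p : ℕ}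
    (hp : p.Prime) (y a : C) (hy : orderOf y = p) (ha : a ^ p = 1) : a ∈ Subgroup.zpowers y := by
  have hcomm : ∀ a b : C, a * b = b * a := by
    obtain ⟨g, hg⟩ := hC.exists_generator
    intro a b
    obtain ⟨k, rfl⟩ := Subgroup.mem_zpowers_iff.mp (hg a)
    obtain ⟨l, rfl⟩ := Subgroup.mem_zpowers_iff.mp (hg b)
    rw [← zpow_add, ← zpow_add, add_comm]
  let K : Subgroup C :=
    { carrier := {z | z ^ p = 1}
      one_mem' := one_pow p
      mul_mem' := by
        intro u v hu hv
        show (u * v) ^ p = 1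
        rw [(show Commute u v from hcomm u v).mul_pow, hu, hv, one_mul]
      inv_mem' := by
        intro u hu
        show u⁻¹ ^ p = 1
        rw [inv_pow, hu, inv_one] }
  have hyK : Subgroup.zpowers y ≤ K := by
    rw [Subgroup.zpowers_le]
    show y ^ p = 1
    rw [← hy]; exact pow_orderOf_eq_one y
  have hKc : IsCyclic ↥K := inferInstance
  obtain ⟨k, hk⟩ := hKc.exists_generator
  have hkp : k ^ p = 1 := by
    apply Subtype.ext
    rw [Subgroup.coe_pow, Subgroup.coe_one]
    exact k.2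
  have hKcard : Nat.card ↥K ≤ p := by
    rw [← orderOf_eq_card_of_forall_mem_zpowers hk]
    exact Nat.le_of_dvd hp.pos (orderOf_dvd_of_pow_eq_one hkp)
  have heq : Subgroup.zpowers y = K :=
    Subgroup.eq_of_le_of_card_ge hyK (by rw [Nat.card_zpowers, hy]; exact hKcard)
  rw [heq]
  exact ha

variable {H : Type*} [Group H] [Finite H]

theorem cyclic_criterion (S : Subgroup H) [S.Normal] (hSc : IsCyclic S)
    (hQc : IsCyclic (H ⧸ S)) (hcop : (Nat.card S).Coprime S.index)
    (hcomm : ∀ h : H, h ^ S.index = 1 → ∀ s ∈ S, h * s = s * h) : IsCyclic H := by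
  obtain ⟨s, hs⟩ := hSc.exists_generator
  obtain ⟨ā, hā⟩ := hQc.exists_generator
  obtain ⟨a, rfl⟩ := QuotientGroup.mk_surjective ā
  set q := Nat.card S with hq
  set m := S.index with hm
  have hcardQ : Nat.card (H ⧸ S) = m := (Subgroup.index_eq_card S).symm
  have hos : orderOf (s : H) = q := by
    rw [Subgroup.orderOf_coe, orderOf_eq_card_of_forall_mem_zpowers hs]
  have hoa : orderOf (QuotientGroup.mk a : H ⧸ S) = m := by
    rw [orderOf_eq_card_of_forall_mem_zpowers hā, hcardQ]
  have ham : a ^ m ∈ S := by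
    rw [← QuotientGroup.eq_one_iff, QuotientGroup.mk_pow, ← hcardQ]
    exact pow_card_eq_one'
  have haqm : a ^ (q * m) = 1 := by
    have h1 : (⟨a ^ m, ham⟩ : ↥S) ^ q = 1 := pow_card_eq_one'
    have h2 := congrArg Subtype.val h1
    rw [Subgroup.coe_pow, Subgroup.coe_one] at h2
    rw [mul_comm, pow_mul]; exact h2
  set a₀ := a ^ q with ha₀
  have ha₀m : a₀ ^ m = 1 := by rw [ha₀, ← pow_mul]; exact haqm
  have h1 : orderOf a₀ ∣ m := orderOf_dvd_of_pow_eq_one ha₀m
  have h2 : m ∣ orderOf a₀ := by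
    have h3 : orderOf (QuotientGroup.mk a₀ : H ⧸ S) = m := by
      rw [ha₀, QuotientGroup.mk_pow, orderOf_pow, hoa, Nat.Coprime.gcd_eq_one hcop.symm, Nat.div_one]
    rw [← h3]
    apply orderOf_dvd_of_pow_eq_one
    rw [← QuotientGroup.mk_pow, pow_orderOf_eq_one, QuotientGroup.mk_one]
  have hoa₀ : orderOf a₀ = m := Nat.dvd_antisymm h1 h2
  have hcm : Commute (s : H) a₀ := (hcomm a₀ ha₀m s s.2).symm
  have hord : orderOf ((s : H) * a₀) = q * m := by
    rw [hcm.orderOf_mul_eq_mul_orderOf_of_coprime (by rw [hos, hoa₀]; exact hcop), hos, hoa₀]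
  exact isCyclic_of_orderOf_eq_card ((s : H) * a₀) (by rw [hord, hq, hm, Subgroup.card_mul_index])

theorem dihedral_case {p : ℕ} [Fact p.Prime] (S : Subgroup H) [hSn : S.Normal] (hSc : IsCyclic S)
    (hSp : IsPGroup p S) (hQc : IsCyclic (H ⧸ S)) (hcop : (Nat.card S).Coprime S.index)
    (y : H) (hyS : y ∈ S) (hy : orderOf y = p)
    (h2a : ∀ c d : H, c * y = y * c → d * y = y * d → c * d = d * c)
    (h2b : ∀ x : H, x * y * x⁻¹ ∈ Subgroup.zpowers y → x * y ≠ y * x →
      (x * x = 1 ∧ ∀ c : H, c * y = y * c → x * c * x⁻¹ = c⁻¹)) :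
    IsCyclic H ∨ ∃ n : ℕ, Nonempty (H ≃* DihedralGroup (p ^ n)) := by
  have hpp : p.Prime := Fact.out
  have hstar : ∀ a ∈ S, a ^ p = 1 → a ∈ Subgroup.zpowers y := by
    intro a haS hap
    haveI := hSc
    have h1 := mem_zpowers_of_pow_prime hpp (⟨y, hyS⟩ : ↥S) ⟨a, haS⟩
      (by rw [← Subgroup.orderOf_coe]; exact hy)
      (by apply Subtype.ext; rw [Subgroup.coe_pow, Subgroup.coe_one]; exact hap)
    obtain ⟨k, hk⟩ := Subgroup.mem_zpowers_iff.mp h1
    refine Subgroup.mem_zpowers_iff.mpr ⟨k, ?_⟩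
    have := congrArg Subtype.val hk
    rwa [Subgroup.coe_zpow] at this
  have hScomm : ∀ a ∈ S, ∀ b ∈ S, a * b = b * a := by
    intro a ha b hb
    obtain ⟨s, hs⟩ := hSc.exists_generator
    obtain ⟨k, hk⟩ := Subgroup.mem_zpowers_iff.mp (hs ⟨a, ha⟩)
    obtain ⟨l, hl⟩ := Subgroup.mem_zpowers_iff.mp (hs ⟨b, hb⟩)
    have ha' : a = (s : H) ^ k := by rw [← Subgroup.coe_zpow, hk]
    have hb' : b = (s : H) ^ l := by rw [← Subgroup.coe_zpow, hl]
    rw [ha', hb', ← zpow_add, ← zpow_add, add_comm]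
  have hnorm : ∀ x : H, x * y * x⁻¹ ∈ Subgroup.zpowers y := by
    intro x
    apply hstar _ (hSn.conj_mem y hyS x)
    rw [conj_pow, ← hy, pow_orderOf_eq_one, mul_one, mul_inv_cancel]
  by_cases hall : ∀ x : H, x * y = y * x
  · left
    apply cyclic_criterion S hSc hQc hcop
    intro h _ s _
    exact h2a h s (hall h) (hall s)
  right
  obtain ⟨t, ht⟩ := not_forall.mp hall
  obtain ⟨htt, htinv⟩ := h2b t (hnorm t) ht
  have htinv' : t⁻¹ = t := inv_eq_of_mul_eq_one_left htt
  have hSC : ∀ s ∈ S, s * y = y * s := fun s hs => hScomm s hs y hyS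
  have htS : t ∉ S := fun h => ht (hSC t h)
  have hQcomm : ∀ a b : H ⧸ S, a * b = b * a := by
    obtain ⟨g, hg⟩ := hQc.exists_generator
    intro a b
    obtain ⟨k, rfl⟩ := Subgroup.mem_zpowers_iff.mp (hg a)
    obtain ⟨l, rfl⟩ := Subgroup.mem_zpowers_iff.mp (hg b)
    rw [← zpow_add, ← zpow_add, add_comm]
  have ht1' : (QuotientGroup.mk t : H ⧸ S) ≠ 1 := fun h => htS ((QuotientGroup.eq_one_iff t).mp h)
  have ht2' : (QuotientGroup.mk t : H ⧸ S) ^ 2 = 1 := by
    rw [← QuotientGroup.mk_pow, pow_two, htt, QuotientGroup.mk_one]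
  have hot : orderOf (QuotientGroup.mk t : H ⧸ S) = 2 := by
    haveI : Fact (Nat.Prime 2) := ⟨Nat.prime_two⟩
    exact orderOf_eq_prime ht2' ht1'
  have hCS : ∀ c : H, c * y = y * c → c ∈ S := by
    intro c hc
    have h1 : t * c * t⁻¹ = c⁻¹ := htinv c hc
    have h2 : (QuotientGroup.mk c : H ⧸ S) ^ 2 = 1 := by
      have h3 := congrArg (QuotientGroup.mk : H → H ⧸ S) h1
      rw [QuotientGroup.mk_mul, QuotientGroup.mk_mul, QuotientGroup.mk_inv, QuotientGroup.mk_inv,
        hQcomm (QuotientGroup.mk t), mul_inv_cancel_right] at h3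
      rw [pow_two]
      nth_rewrite 1 [h3]
      exact inv_mul_cancel _
    by_contra hcS
    have hc1 : (QuotientGroup.mk c : H ⧸ S) ≠ 1 := fun h => hcS ((QuotientGroup.eq_one_iff c).mp h)
    haveI := hQc
    have h4 := mem_zpowers_of_pow_prime Nat.prime_two (QuotientGroup.mk t : H ⧸ S)
      (QuotientGroup.mk c) hot h2
    obtain ⟨k, hk⟩ := Subgroup.mem_zpowers_iff.mp h4
    have heq : (QuotientGroup.mk c : H ⧸ S) = QuotientGroup.mk t := by
      rcases Int.even_or_odd' k with ⟨j, hj | hj⟩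
      · exfalso
        apply hc1
        rw [← hk, hj, zpow_mul, zpow_ofNat, ht2', one_zpow]
      · rw [← hk, hj, zpow_add, zpow_mul, zpow_ofNat, ht2', one_zpow, one_mul, zpow_one]
    have h5 : t⁻¹ * c ∈ S := QuotientGroup.eq.mp heq.symm
    have h6 := hSC _ h5
    apply ht
    have h7 : t = c * (t⁻¹ * c)⁻¹ := by group
    rw [h7]
    have h8 : (t⁻¹ * c)⁻¹ * y = y * (t⁻¹ * c)⁻¹ := by
      have := (show Commute (t⁻¹ * c) y from h6).inv_left
      exact this.eq
    calc c * (t⁻¹ * c)⁻¹ * y = c * ((t⁻¹ * c)⁻¹ * y) := by group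
      _ = c * (y * (t⁻¹ * c)⁻¹) := by rw [h8]
      _ = (c * y) * (t⁻¹ * c)⁻¹ := by group
      _ = (y * c) * (t⁻¹ * c)⁻¹ := by rw [hc]
      _ = y * (c * (t⁻¹ * c)⁻¹) := by group
  have hcos : ∀ h : H, h ∈ S ∨ h * t ∈ S := by
    intro h
    by_cases hh : h * y = y * h
    · left; exact hCS h hh
    · right
      obtain ⟨_, hhinv⟩ := h2b h (hnorm h) hh
      apply hCS
      have h1 : t * y * t⁻¹ = y⁻¹ := htinv y rfl
      have h2 : h * y⁻¹ * h⁻¹ = y := by
        have := hhinv y⁻¹ (by rw [inv_mul_cancel, mul_inv_cancel])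
        rw [this, inv_inv]
      calc h * t * y = h * (t * y * t⁻¹) * t := by group
        _ = h * y⁻¹ * t := by rw [h1]
        _ = (h * y⁻¹ * h⁻¹) * (h * t) := by group
        _ = y * (h * t) := by rw [h2]
  obtain ⟨s₀', hs₀'⟩ := hSc.exists_generator
  have hs₀S : (s₀' : H) ∈ S := s₀'.2
  have hs₀gen : ∀ s ∈ S, s ∈ Subgroup.zpowers (s₀' : H) := by
    intro s hs
    obtain ⟨k, hk⟩ := Subgroup.mem_zpowers_iff.mp (hs₀' ⟨s, hs⟩)
    refine Subgroup.mem_zpowers_iff.mpr ⟨k, ?_⟩
    have := congrArg Subtype.val hk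
    rwa [Subgroup.coe_zpow] at this
  have hts₀ : t * (s₀' : H) * t⁻¹ = (s₀' : H)⁻¹ := htinv _ (hSC _ hs₀S)
  have hy'y' : (t * (s₀' : H)) * (t * (s₀' : H)) = 1 := by
    calc t * (s₀' : H) * (t * (s₀' : H)) = (t * (s₀' : H) * t⁻¹) * (t * t) * (s₀' : H) := by group
      _ = 1 := by rw [hts₀, htt, mul_one, inv_mul_cancel]
  have ht1 : t ≠ 1 := by
    rintro rfl
    exact ht (by simp)
  have hts1 : t * (s₀' : H) ≠ 1 := by
    intro h
    apply htS
    have : t = (s₀' : H)⁻¹ := eq_inv_of_mul_eq_one_left h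
    rw [this]; exact S.inv_mem hs₀S
  have hclos : Subgroup.closure ({t, t * (s₀' : H)} : Set H) = ⊤ := by
    rw [eq_top_iff]
    intro h _
    have htm : t ∈ Subgroup.closure ({t, t * (s₀' : H)} : Set H) :=
      Subgroup.subset_closure (by simp)
    have htsm : t * (s₀' : H) ∈ Subgroup.closure ({t, t * (s₀' : H)} : Set H) :=
      Subgroup.subset_closure (by simp)
    have hs₀m : (s₀' : H) ∈ Subgroup.closure ({t, t * (s₀' : H)} : Set H) := by
      have := Subgroup.mul_mem _ (Subgroup.inv_mem _ htm) htsm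
      rwa [inv_mul_cancel_left] at this
    have hSm : ∀ s ∈ S, s ∈ Subgroup.closure ({t, t * (s₀' : H)} : Set H) := fun s hs =>
      (Subgroup.zpowers_le.mpr hs₀m) (hs₀gen s hs)
    rcases hcos h with hh | hh
    · exact hSm h hh
    · have := Subgroup.mul_mem _ (hSm _ hh) (Subgroup.inv_mem _ htm)
      rwa [mul_inv_cancel_right] at this
  have hord : orderOf (t * (t * (s₀' : H))) = Nat.card S := by
    rw [← mul_assoc, htt, one_mul, Subgroup.orderOf_coe,
      orderOf_eq_card_of_forall_mem_zpowers hs₀']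
  obtain ⟨n, hn⟩ := IsPGroup.iff_card.mp hSp
  refine ⟨n, ?_⟩
  have e := helper1.dihedralEquiv t (t * (s₀' : H)) htt hy'y' ht1 hts1
  have key : ∀ m : ℕ, m = orderOf (t * (t * (s₀' : H))) → Nonempty (H ≃* DihedralGroup m) := by
    rintro m rfl
    exact ⟨(Subgroup.topEquiv.symm.trans ((MulEquiv.subgroupCongr hclos).symm)).trans e.symm⟩
  exact key _ (by rw [hord, hn])

end Abs


section Back

open scoped Pointwise

variable {G : Type*} [Group G] [Finite G] {p : ℕ} [Fact p.Prime]

theorem eq_one_of_pow_coprime {X : Type*} [Group X] (x : X) (a b : ℕ) (hab : a.Coprime b)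
    (ha : x ^ a = 1) (hb : x ^ b = 1) : x = 1 := by
  have h1 := orderOf_dvd_of_pow_eq_one ha
  have h2 := orderOf_dvd_of_pow_eq_one hb
  have h3 := Nat.dvd_gcd h1 h2
  rw [Nat.Coprime.gcd_eq_one hab] at h3
  exact orderOf_eq_one_iff.mp (Nat.dvd_one.mp h3)

theorem backward (P : Sylow p G) (hcycP : IsCyclic P)
    (hcase : Subgroup.normalizer ((P : Subgroup G) : Set G) = Subgroup.centralizer ((P : Subgroup G) : Set G) ∨
       ((Subgroup.centralizer ((P : Subgroup G) : Set G)).relIndex (Subgroup.normalizer ((P : Subgroup G) : Set G)) = 2 ∧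
        ∀ Q : Subgroup G, Q ≤ P → Nat.card Q = p →
          IsMulCommutative ↥(Subgroup.centralizer (Q : Set G)) ∧
          ∀ x : G, x ∈ Subgroup.normalizer (Q : Set G) → x ∉ Subgroup.centralizer (Q : Set G) →
            orderOf x = 2 ∧ ∀ c : G, c ∈ Subgroup.centralizer (Q : Set G) → x * c * x⁻¹ = c⁻¹)) :
    Restricted G p := by
  have hpp : p.Prime := Fact.out
  intro H hS hcyc
  obtain ⟨S⟩ := (inferInstance : Nonempty (Sylow p ↥H))
  haveI hSn : (S : Subgroup ↥H).Normal := hS S
  have hQc := hcyc S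
  have hSp : IsPGroup p (S : Subgroup ↥H) := S.2
  have hndvd : ¬ p ∣ (S : Subgroup ↥H).index := S.not_dvd_index
  have hcop : (Nat.card (S : Subgroup ↥H)).Coprime (S : Subgroup ↥H).index := by
    obtain ⟨n, hn⟩ := IsPGroup.iff_card.mp hSp
    rw [hn]
    exact Nat.Coprime.pow_left n ((Nat.Prime.coprime_iff_not_dvd hpp).mpr hndvd)
  have hSG : IsPGroup p ((S : Subgroup ↥H).map H.subtype) := hSp.map _
  obtain ⟨P', hP'⟩ := hSG.exists_le_sylow
  obtain ⟨g, hg⟩ := MulAction.exists_smul_eq G P' P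
  have hφ : ∀ z ∈ (P' : Subgroup G), g * z * g⁻¹ ∈ (P : Subgroup G) := by
    intro z hz
    have h1 : MulAut.conj g • z ∈ MulAut.conj g • (P' : Subgroup G) :=
      Subgroup.smul_mem_pointwise_smul _ _ _ hz
    rw [← Sylow.coe_subgroup_smul, hg] at h1
    exact h1
  have hSP' : ∀ s : ↥H, s ∈ (S : Subgroup ↥H) → (s : G) ∈ (P' : Subgroup G) := fun s hs =>
    hP' ⟨s, hs, rfl⟩
  -- S is cyclic
  have hSc : IsCyclic (S : Subgroup ↥H) := by
    let ψ : ↥(S : Subgroup ↥H) →* ↥(P : Subgroup G) :=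
      { toFun := fun s => ⟨g * (s.1.1) * g⁻¹, hφ _ (hSP' s.1 s.2)⟩
        map_one' := by
          apply Subtype.ext
          simp
        map_mul' := by
          intro a b
          apply Subtype.ext
          simp only [Subgroup.coe_mul]
          group }
    have hψ : Function.Injective ψ := by
      intro a b hab
      have h1 := congrArg Subtype.val hab
      have h2 : g * (a.1.1) * g⁻¹ = g * (b.1.1) * g⁻¹ := h1
      have h3 : a.1.1 = b.1.1 := mul_left_cancel (mul_right_cancel h2)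
      exact Subtype.ext (Subtype.ext h3)
    haveI := hcycP
    exact isCyclic_of_injective ψ hψ
  rcases hcase with h1 | ⟨_, h2⟩
  · -- normal p-complement
    left
    have hle : Subgroup.normalizer ((P : Subgroup G) : Set G) ≤
        Subgroup.centralizer ((P : Subgroup G) : Set G) := h1.le
    set K := (MonoidHom.transferSylow P hle).ker with hK
    have hcompl : K.IsComplement' P := MonoidHom.ker_transferSylow_isComplement' P hle
    have hKcard : Nat.card K = (P : Subgroup G).index := hcompl.index_eq_card.symm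
    have hKcop : (Nat.card K).Coprime p := by
      rw [hKcard]
      exact ((Nat.Prime.coprime_iff_not_dvd hpp).mpr P.not_dvd_index).symm
    have hidxK : K.index = Nat.card P := hcompl.symm.index_eq_card
    apply cyclic_criterion (S : Subgroup ↥H) hSc hQc hcop
    intro h hh s hs
    have hhK : (h : G) ∈ K := by
      rw [← QuotientGroup.eq_one_iff]
      have e1 : (QuotientGroup.mk (h : G) : G ⧸ K) ^ (S : Subgroup ↥H).index = 1 := by
        rw [← QuotientGroup.mk_pow, ← Subgroup.coe_pow, hh, Subgroup.coe_one, QuotientGroup.mk_one]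
      have e2 : (QuotientGroup.mk (h : G) : G ⧸ K) ^ Nat.card P = 1 := by
        rw [← hidxK, Subgroup.index_eq_card]
        exact pow_card_eq_one'
      have hc : ((S : Subgroup ↥H).index).Coprime (Nat.card P) := by
        obtain ⟨n, hn⟩ := IsPGroup.iff_card.mp P.2
        rw [hn]
        exact Nat.Coprime.pow_right n ((Nat.Prime.coprime_iff_not_dvd hpp).mpr hndvd).symm
      exact eq_one_of_pow_coprime _ _ _ hc e1 e2
    have hz_S : h * s * h⁻¹ * s⁻¹ ∈ (S : Subgroup ↥H) :=
      Subgroup.mul_mem _ (hSn.conj_mem s hs h) (Subgroup.inv_mem _ hs)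
    have hz_K : ((h * s * h⁻¹ * s⁻¹ : ↥H) : G) ∈ K := by
      have hKn : K.Normal := by rw [hK]; infer_instance
      have h3 : (s : G) * (h : G)⁻¹ * (s : G)⁻¹ ∈ K := hKn.conj_mem _ (K.inv_mem hhK) _
      have h4 := K.mul_mem hhK h3
      have h5 : ((h * s * h⁻¹ * s⁻¹ : ↥H) : G) = (h : G) * ((s : G) * (h : G)⁻¹ * (s : G)⁻¹) := by
        simp only [Subgroup.coe_mul, Subgroup.coe_inv]
        group
      rw [h5]; exact h4
    have hz1 : h * s * h⁻¹ * s⁻¹ = 1 := by
      obtain ⟨k, hk⟩ := hSp ⟨_, hz_S⟩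
      have hk' : (h * s * h⁻¹ * s⁻¹) ^ (p ^ k) = 1 := by
        have := congrArg Subtype.val hk
        rwa [Subgroup.coe_pow, Subgroup.coe_one] at this
      have hk2 : (h * s * h⁻¹ * s⁻¹) ^ (Nat.card K) = 1 := by
        apply Subtype.ext
        rw [Subgroup.coe_pow, Subgroup.coe_one]
        have : (⟨_, hz_K⟩ : ↥K) ^ Nat.card K = 1 := pow_card_eq_one'
        have := congrArg Subtype.val this
        rwa [Subgroup.coe_pow, Subgroup.coe_one] at this
      exact eq_one_of_pow_coprime _ _ _ (Nat.Coprime.pow_left k hKcop.symm) hk' hk2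
    have : h * s = (h * s * h⁻¹ * s⁻¹) * (s * h) := by group
    rw [this, hz1, one_mul]
  · -- the dihedral case
    by_cases hSbot : (S : Subgroup ↥H) = ⊥
    · left
      apply cyclic_criterion (S : Subgroup ↥H) hSc hQc hcop
      intro h _ s hs
      rw [hSbot, Subgroup.mem_bot] at hs
      subst hs
      simp
    have hdvd : p ∣ Nat.card (S : Subgroup ↥H) :=
      (hSp.card_eq_or_dvd).resolve_left (fun h => hSbot (Subgroup.card_eq_one.mp h))
    obtain ⟨y', hy'⟩ := exists_prime_orderOf_dvd_card' p hdvd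
    have hyS : (y' : ↥H) ∈ (S : Subgroup ↥H) := y'.2
    have hy : orderOf (y' : ↥H) = p := by rw [Subgroup.orderOf_coe]; exact hy'
    apply dihedral_case (S : Subgroup ↥H) hSc hSp hQc hcop (y' : ↥H) hyS hy
    all_goals
      set y : ↥H := (y' : ↥H) with hydef
      set w : G := g * (y : G) * g⁻¹ with hw
      have hwP : w ∈ (P : Subgroup G) := hφ _ (hSP' y hyS)
      have hwo : orderOf w = p := by
        have : w = MulAut.conj g (y : G) := rfl
        rw [this, MulEquiv.orderOf_eq, Subgroup.orderOf_coe, hy]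
      have hQP : Subgroup.zpowers w ≤ (P : Subgroup G) := Subgroup.zpowers_le.mpr hwP
      have hQcard : Nat.card (Subgroup.zpowers w) = p := by rw [Nat.card_zpowers, hwo]
      obtain ⟨hQcomm, hQinv⟩ := h2 (Subgroup.zpowers w) hQP hQcard
      have hmemC : ∀ c : G, c * w = w * c →
          c ∈ Subgroup.centralizer ((Subgroup.zpowers w : Subgroup G) : Set G) := by
        intro c hc
        rw [Subgroup.mem_centralizer_iff]
        intro h hh
        obtain ⟨k, rfl⟩ := Subgroup.mem_zpowers_iff.mp hh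
        exact ((show Commute c w from hc).zpow_right k).eq.symm
      have hconj : ∀ a : ↥H, (a * y = y * a) ↔
          (g * (a : G) * g⁻¹) * w = w * (g * (a : G) * g⁻¹) := by
        intro a
        rw [hw]
        constructor
        · intro h
          have h' : (a : G) * (y : G) = (y : G) * (a : G) := by
            have := congrArg Subtype.val h
            rwa [Subgroup.coe_mul, Subgroup.coe_mul] at this
          calc g * (a : G) * g⁻¹ * (g * (y : G) * g⁻¹) = g * ((a : G) * (y : G)) * g⁻¹ := by group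
            _ = g * ((y : G) * (a : G)) * g⁻¹ := by rw [h']
            _ = g * (y : G) * g⁻¹ * (g * (a : G) * g⁻¹) := by group
        · intro h
          apply Subtype.ext
          rw [Subgroup.coe_mul, Subgroup.coe_mul]
          have e1 : g⁻¹ * (g * (a : G) * g⁻¹ * (g * (y : G) * g⁻¹)) * g = (a : G) * (y : G) := by
            group
          have e2 : g⁻¹ * (g * (y : G) * g⁻¹ * (g * (a : G) * g⁻¹)) * g = (y : G) * (a : G) := by
            group
          rw [← e1, ← e2, h]
    · -- h2a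
      intro c d hc hd
      have hc' := hmemC _ ((hconj c).mp hc)
      have hd' := hmemC _ ((hconj d).mp hd)
      have h3 := hQcomm.is_comm.comm ⟨_, hc'⟩ ⟨_, hd'⟩
      have h4 := congrArg Subtype.val h3
      have h5 : g * (c : G) * g⁻¹ * (g * (d : G) * g⁻¹) = g * (d : G) * g⁻¹ * (g * (c : G) * g⁻¹) := h4
      apply Subtype.ext
      rw [Subgroup.coe_mul, Subgroup.coe_mul]
      have e1 : g⁻¹ * (g * (c : G) * g⁻¹ * (g * (d : G) * g⁻¹)) * g = (c : G) * (d : G) := by group
      have e2 : g⁻¹ * (g * (d : G) * g⁻¹ * (g * (c : G) * g⁻¹)) * g = (d : G) * (c : G) := by group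
      rw [← e1, ← e2, h5]
    · -- h2b
      intro x hxn hxy
      have hx'C : g * (x : G) * g⁻¹ ∉
          Subgroup.centralizer ((Subgroup.zpowers w : Subgroup G) : Set G) := by
        intro h
        apply hxy
        rw [hconj x]
        exact ((Subgroup.mem_centralizer_iff.mp h) w (Subgroup.mem_zpowers w)).symm
      have hx'N : g * (x : G) * g⁻¹ ∈
          Subgroup.normalizer ((Subgroup.zpowers w : Subgroup G) : Set G) := by
        have h1 : (g * (x : G) * g⁻¹) * w * (g * (x : G) * g⁻¹)⁻¹ ∈ Subgroup.zpowers w := by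
          obtain ⟨k, hk⟩ := Subgroup.mem_zpowers_iff.mp hxn
          refine Subgroup.mem_zpowers_iff.mpr ⟨k, ?_⟩
          have hk' : (y : G) ^ k = (x : G) * (y : G) * (x : G)⁻¹ := by
            have := congrArg Subtype.val hk
            simpa using this
          rw [hw, conj_zpow, hk']
          group
        apply Subgroup.mem_normalizer_fintype
        intro n hn
        obtain ⟨k, rfl⟩ := Subgroup.mem_zpowers_iff.mp hn
        have h2 : (g * (x : G) * g⁻¹) * w ^ k * (g * (x : G) * g⁻¹)⁻¹ =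
            ((g * (x : G) * g⁻¹) * w * (g * (x : G) * g⁻¹)⁻¹) ^ k := conj_zpow.symm
        rw [h2]
        exact Subgroup.zpow_mem _ h1 k
      obtain ⟨hx'ord, hx'inv⟩ := hQinv _ hx'N hx'C
      constructor
      · have h3 : (g * (x : G) * g⁻¹) * (g * (x : G) * g⁻¹) = 1 := by
          rw [← pow_two, ← hx'ord]; exact pow_orderOf_eq_one _
        have e1 : (g * (x : G) * g⁻¹) * (g * (x : G) * g⁻¹) = g * ((x : G) * (x : G)) * g⁻¹ := by
          group
        rw [e1] at h3
        apply Subtype.ext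
        rw [Subgroup.coe_mul, Subgroup.coe_one]
        exact conj_eq_one_iff.mp h3
      · intro c hc
        have hc' := hmemC _ ((hconj c).mp hc)
        have h3 := hx'inv _ hc'
        have e1 : (g * (x : G) * g⁻¹) * (g * (c : G) * g⁻¹) * (g * (x : G) * g⁻¹)⁻¹ =
            g * ((x : G) * (c : G) * (x : G)⁻¹) * g⁻¹ := by group
        have e2 : (g * (c : G) * g⁻¹)⁻¹ = g * (c : G)⁻¹ * g⁻¹ := by group
        rw [e1, e2] at h3
        apply Subtype.ext
        simp only [Subgroup.coe_mul, Subgroup.coe_inv]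
        exact mul_left_cancel (mul_right_cancel h3)

end Back

/-- Let p be an odd prime and G a finite group with Sylow p-subgroup P. Say that G has restricted p-by-cyclic subgroups when every subgroup H of G whose Sylow p-subgroup is normal in H with cyclic quotient is itself cyclic or dihedral of order 2pⁿ for some n. Then G has restricted p-by-cyclic subgroups if and only if P is cyclic and one of the following holds: (1) N_G(P) = C_G(P); or (2) N_G(P)/C_G(P) has order 2 and, for the subgroup Q of order p of P, the centralizer C_G(Q) is abelian and every element of N_G(Q) outside C_G(Q) is an involution inverting every element of C_G(Q). -/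
theorem result {G : Type*} [Group G] [Finite G] {p : ℕ}
    [Fact p.Prime] (hp : p ≠ 2) (P : Sylow p G) :
    (∀ H : Subgroup G, (∀ S : Sylow p ↥H, (S : Subgroup ↥H).Normal) →
        (∀ (S : Sylow p ↥H) [(S : Subgroup ↥H).Normal], IsCyclic (↥H ⧸ (S : Subgroup ↥H))) →
        IsCyclic H ∨ (∃ n : ℕ, Nonempty (H ≃* DihedralGroup (p ^ n)))) ↔
    (IsCyclic P ∧
      (Subgroup.normalizer ((P : Subgroup G) : Set G) = Subgroup.centralizer ((P : Subgroup G) : Set G) ∨
       ((Subgroup.centralizer ((P : Subgroup G) : Set G)).relIndex (Subgroup.normalizer ((P : Subgroup G) : Set G)) = 2 ∧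
        ∀ Q : Subgroup G, Q ≤ P → Nat.card Q = p →
          IsMulCommutative ↥(Subgroup.centralizer (Q : Set G)) ∧
          ∀ x : G, x ∈ Subgroup.normalizer (Q : Set G) → x ∉ Subgroup.centralizer (Q : Set G) →
            orderOf x = 2 ∧ ∀ c : G, c ∈ Subgroup.centralizer (Q : Set G) → x * c * x⁻¹ = c⁻¹))) := by
  constructor
  · intro h
    exact forward hp P h
  · rintro ⟨h1, h2⟩
    exact backward P h1 h2

end Cfsg.Agent.S4082
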