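import Mathlib
import Cfsg.Statements.S4084

set_option autoImplicit false
open Cfsg

namespace Cfsg.Agent.S4084

theorem one_dir {G H : Type*} [Group G] [Finite G] [Group H] [Finite H] (e : G ≃ H)
    (he : ∀ x y : G, Commute x y ↔ Commute (e x) (e y))
    {p q : ℕ} (hp : p.Prime) (hq : q.Prime) (hpq : p ≠ q) :
    (∃ g : G, orderOf g = p * q) → (∃ h : H, orderOf h = p * q) := by
  rintro ⟨g, hg⟩
  set A : Subgroup G := Subgroup.centralizer (Subgroup.centralizer {g} : Set G) with hA
  set B : Subgroup H := Subgroup.centralizer (Subgroup.centralizer {e g} : Set H) with hB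
  have memA : ∀ x : G, x ∈ A ↔ ∀ y : G, Commute y g → Commute y x := by
    intro x
    rw [hA, Subgroup.mem_centralizer_iff]
    constructor
    · intro h y hy
      apply h
      rw [SetLike.mem_coe, Subgroup.mem_centralizer_iff]
      intro z hz
      rw [Set.mem_singleton_iff] at hz
      subst hz
      exact hy.symm.eq
    · intro h y hy
      rw [SetLike.mem_coe, Subgroup.mem_centralizer_iff] at hy
      have := hy g (Set.mem_singleton g)
      exact (h y this.symm).eq
  have memB : ∀ x : H, x ∈ B ↔ ∀ y : H, Commute y (e g) → Commute y x := by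
    intro x
    rw [hB, Subgroup.mem_centralizer_iff]
    constructor
    · intro h y hy
      apply h
      rw [SetLike.mem_coe, Subgroup.mem_centralizer_iff]
      intro z hz
      rw [Set.mem_singleton_iff] at hz
      subst hz
      exact hy.symm.eq
    · intro h y hy
      rw [SetLike.mem_coe, Subgroup.mem_centralizer_iff] at hy
      have := hy (e g) (Set.mem_singleton _)
      exact (h y this.symm).eq
  have hAB : ∀ x : G, x ∈ A ↔ e x ∈ B := by
    intro x
    rw [memA, memB]
    constructor
    · intro h y hy
      obtain ⟨y, rfl⟩ := e.surjective y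
      exact (he _ _).mp (h y ((he _ _).mpr hy))
    · intro h y hy
      exact (he _ _).mpr (h (e y) ((he _ _).mp hy))
  have hcard : Nat.card A = Nat.card B := Nat.card_congr (e.subtypeEquiv hAB)
  have hgA : g ∈ A := by
    rw [memA]
    intro y hy
    exact hy
  have hdvd : p * q ∣ Nat.card B := by
    rw [← hcard, ← hg]
    have := Subgroup.orderOf_dvd_natCard A hgA
    exact this
  have : Fact p.Prime := ⟨hp⟩
  have : Fact q.Prime := ⟨hq⟩
  obtain ⟨a, ha⟩ := exists_prime_orderOf_dvd_card' (G := B) p ((dvd_mul_right p q).trans hdvd)
  obtain ⟨b, hb⟩ := exists_prime_orderOf_dvd_card' (G := B) q ((dvd_mul_left q p).trans hdvd)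
  have hegB : e g ∈ B := by
    rw [memB]
    intro y hy
    exact hy
  have hcomm : Commute (a : H) (b : H) := by
    have h1 := (memB a).mp a.2
    have h2 : Commute (b : H) (e g) := by
      have := (memB (e g)).mp hegB
      -- b ∈ B commutes with everything commuting with e g; e g commutes with itself
      have h3 := (memB b).mp b.2 (e g) (Commute.refl _)
      exact h3.symm
    exact (h1 b h2).symm
  refine ⟨(a : H) * (b : H), ?_⟩
  rw [hcomm.orderOf_mul_eq_mul_orderOf_of_coprime, Subgroup.orderOf_coe, Subgroup.orderOf_coe, ha, hb]
  rw [Subgroup.orderOf_coe, Subgroup.orderOf_coe, ha, hb]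
  exact (Nat.coprime_primes hp hq).mpr hpq

/-- Let G and H be finite groups whose commuting graphs are isomorphic: there is a bijection e : G → H with x, y commuting exactly when e(x), e(y) commute. Then G and H have the same prime graph: for distinct primes p, q, G has an element of order pq if and only if H does (and #G = #H, so the prime divisors agree). -/
theorem result {G H : Type*} [Group G] [Finite G] [Group H] [Finite H] (e : G ≃ H)
    (he : ∀ x y : G, Commute x y ↔ Commute (e x) (e y))
    {p q : ℕ} (hp : p.Prime) (hq : q.Prime) (hpq : p ≠ q) :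
    (∃ g : G, orderOf g = p * q) ↔ (∃ h : H, orderOf h = p * q) := by
  constructor
  · exact one_dir e he hp hq hpq
  · apply one_dir e.symm _ hp hq hpq
    intro x y
    rw [he (e.symm x) (e.symm y), Equiv.apply_symm_apply, Equiv.apply_symm_apply]

end Cfsg.Agent.S4084
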