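import Mathlib
import Cfsg.Statements.S4086

set_option autoImplicit false
open Cfsg

namespace Cfsg.Agent.S4086

theorem pow_gcd_mem_zpowers {G : Type*} [Group G] (z : G) (a : ℕ) :
    z ^ (Nat.gcd a (orderOf z)) ∈ Subgroup.zpowers (z ^ a) := by
  have h := Nat.gcd_eq_gcd_ab a (orderOf z)
  have h2 : z ^ ((Nat.gcd a (orderOf z) : ℕ) : ℤ) = (z ^ a) ^ (Nat.gcdA a (orderOf z)) := by
    rw [h, zpow_add, zpow_mul, zpow_mul, zpow_natCast, zpow_natCast, pow_orderOf_eq_one, one_zpow,
      mul_one]
  rw [zpow_natCast] at h2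
  rw [h2]
  exact Subgroup.zpow_mem_zpowers _ _

theorem chain_of_prime_pow {G : Type*} [Group G] (z : G) (p k : ℕ) (hp : p.Prime)
    (hz : orderOf z = p ^ k) (a b : ℕ) :
    z ^ a ∈ Subgroup.zpowers (z ^ b) ∨ z ^ b ∈ Subgroup.zpowers (z ^ a) := by
  obtain ⟨i, _, hi⟩ := (Nat.dvd_prime_pow hp).mp (hz ▸ Nat.gcd_dvd_right a (orderOf z))
  obtain ⟨j, _, hj⟩ := (Nat.dvd_prime_pow hp).mp (hz ▸ Nat.gcd_dvd_right b (orderOf z))
  have key : ∀ (a b : ℕ), Nat.gcd a (orderOf z) ∣ Nat.gcd b (orderOf z) →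
      z ^ b ∈ Subgroup.zpowers (z ^ a) := by
    intro a b hdvd
    have hb : Nat.gcd a (orderOf z) ∣ b := hdvd.trans (Nat.gcd_dvd_left b (orderOf z))
    obtain ⟨c, hc⟩ := hb
    rw [hc, pow_mul]
    exact Subgroup.pow_mem _ (pow_gcd_mem_zpowers z a) c
  rcases le_total i j with hij | hij
  · right
    apply key
    rw [hz, hi, hj]
    exact pow_dvd_pow p hij
  · left
    apply key
    rw [hz, hi, hj]
    exact pow_dvd_pow p hij

/-- For a finite group G the following are equivalent: every non-identity element has prime-power order; whenever two elements generate a cyclic subgroup, one of them is a power of the other (the enhanced power graph of G coincides with its power graph). -/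
theorem result {G : Type*} [Group G] [Finite G] :
    (∀ g : G, g ≠ 1 → IsPrimePow (orderOf g)) ↔
    (∀ x y : G, IsCyclic ↥(Subgroup.closure ({x, y} : Set G)) → (x ∈ Subgroup.zpowers y ∨ y ∈ Subgroup.zpowers x)) := by
  constructor
  · intro h x y hcyc
    obtain ⟨z', hz'⟩ := hcyc.exists_generator
    have hmem : ∀ w : G, w ∈ Subgroup.closure ({x, y} : Set G) → ∃ n : ℕ, (z' : G) ^ n = w := by
      intro w hw
      have h1 := hz' ⟨w, hw⟩
      have h2 : w ∈ Subgroup.zpowers (z' : G) := by
        obtain ⟨k, hk⟩ := Subgroup.mem_zpowers_iff.mp h1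
        refine Subgroup.mem_zpowers_iff.mpr ⟨k, ?_⟩
        have := congrArg Subtype.val hk
        simpa using this
      have h3 : w ∈ Submonoid.powers (z' : G) := (mem_powers_iff_mem_zpowers).mpr h2
      exact (Submonoid.mem_powers_iff _ _).mp h3
    obtain ⟨a, ha⟩ := hmem x (Subgroup.subset_closure (by simp))
    obtain ⟨b, hb⟩ := hmem y (Subgroup.subset_closure (by simp))
    by_cases hz1 : (z' : G) = 1
    · left
      have hx1 : x = 1 := by rw [← ha, hz1, one_pow]
      rw [hx1]
      exact Subgroup.one_mem _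
    · obtain ⟨p, k, hp, _, hpk⟩ := (isPrimePow_nat_iff _).mp (h _ hz1)
      have hch := chain_of_prime_pow (z' : G) p k hp hpk.symm a b
      rw [ha, hb] at hch
      exact hch
  · intro h g hg
    by_contra hnpp
    have hn0 : orderOf g ≠ 0 := (orderOf_pos g).ne'
    have hn1 : orderOf g ≠ 1 := by
      rw [Ne, orderOf_eq_one_iff]; exact hg
    set p := (orderOf g).minFac with hpdef
    have hp : p.Prime := Nat.minFac_prime hn1
    obtain ⟨v, m, hpm, hvm⟩ := Nat.exists_eq_pow_mul_and_not_dvd hn0 p hp.ne_one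
    have hv0 : v ≠ 0 := by
      rintro rfl
      apply hpm
      have : p ∣ orderOf g := Nat.minFac_dvd _
      rwa [hvm, pow_zero, one_mul] at this
    have hm1 : m ≠ 1 := by
      rintro rfl
      apply hnpp
      rw [hvm, mul_one]
      exact hp.isPrimePow.pow hv0
    have hm0 : m ≠ 0 := by
      rintro rfl
      rw [mul_zero] at hvm
      exact hn0 hvm
    have hpv0 : p ^ v ≠ 0 := pow_ne_zero _ hp.ne_zero
    have hox : orderOf (g ^ (p ^ v)) = m := by
      rw [orderOf_pow_of_dvd hpv0 ⟨m, hvm⟩, hvm, Nat.mul_div_cancel_left _ (Nat.pos_of_ne_zero hpv0)]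
    have hoy : orderOf (g ^ m) = p ^ v := by
      rw [orderOf_pow_of_dvd hm0 ⟨p ^ v, by rw [hvm, mul_comm]⟩, hvm,
        Nat.mul_div_cancel _ (Nat.pos_of_ne_zero hm0)]
    have hle : Subgroup.closure ({g ^ (p ^ v), g ^ m} : Set G) ≤ Subgroup.zpowers g := by
      rw [Subgroup.closure_le]
      intro w hw
      rcases hw with rfl | rfl
      · exact Subgroup.pow_mem _ (Subgroup.mem_zpowers g) _
      · exact Subgroup.pow_mem _ (Subgroup.mem_zpowers g) _
    have hcyc : IsCyclic ↥(Subgroup.closure ({g ^ (p ^ v), g ^ m} : Set G)) :=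
      isCyclic_of_injective (Subgroup.inclusion hle) (Subgroup.inclusion_injective hle)
    rcases h _ _ hcyc with h1 | h1
    · have hd : m ∣ p ^ v := by
        have := orderOf_dvd_of_mem_zpowers h1
        rwa [hox, hoy] at this
      have hcop : Nat.Coprime m (p ^ v) :=
        Nat.Coprime.pow_right _ ((Nat.Prime.coprime_iff_not_dvd hp).mpr hpm).symm
      exact hm1 (Nat.Coprime.eq_one_of_dvd hcop hd)
    · have hd : p ^ v ∣ m := by
        have := orderOf_dvd_of_mem_zpowers h1
        rwa [hox, hoy] at this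
      exact hpm ((dvd_pow_self p hv0).trans hd)

end Cfsg.Agent.S4086
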