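import Mathlib
import Cfsg.Statements.S4089
import Cfsg.Agent.Lib_helper7_Subnormalizer

set_option autoImplicit false
open Cfsg

namespace Cfsg.Agent.S4089

open Cfsg.Agent.helper7 in
theorem key {G : Type*} [Group G] [Finite G] (p : ℕ) [hp : Fact p.Prime]
    (H : Subgroup G) (hH : IsPGroup p H) (g : G) :
    ((H).subgroupOf (H ⊔ Subgroup.zpowers g)).IsSubnormal ↔
      ∃ R : Subgroup G, H ≤ R ∧ piCoreIn {p} (Subgroup.normalizer (R : Set G)) = R ∧
        g ∈ Subgroup.normalizer (R : Set G) := by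
  constructor
  · intro h
    have hsn : SN H (H ⊔ Subgroup.zpowers g) := sn_iff.2 ⟨le_sup_left, h⟩
    have hle := (sn_iff_le_piCoreIn hp.out hH).1 hsn
    have hg : g ∈ Subgroup.normalizer ((piCoreIn {p} (H ⊔ Subgroup.zpowers g) : Subgroup G) : Set G) :=
      piCoreIn_normal _ _ (Subgroup.mem_sup_right (Subgroup.mem_zpowers g))
    obtain ⟨R, h1, h2, h3⟩ := exists_radical hp.out (piCoreIn_isPGroup hp.out _) g hg
    exact ⟨R, hle.trans h1, h2, h3⟩
  · rintro ⟨R, hHR, hR, hg⟩
    have hRp : IsPGroup p ↥R := by rw [← hR]; exact piCoreIn_isPGroup hp.out _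
    have hLN : H ⊔ Subgroup.zpowers g ≤ Subgroup.normalizer (R : Set G) :=
      sup_le (hHR.trans Subgroup.le_normalizer) ((Subgroup.zpowers_le).2 hg)
    have hN : R ⊓ (H ⊔ Subgroup.zpowers g) ≤ piCoreIn {p} (H ⊔ Subgroup.zpowers g) := by
      apply le_piCoreIn_of_normal hp.out (hRp.to_le inf_le_left) inf_le_right
      intro a ha
      apply Subgroup.inf_normalizer_le_normalizer_inf
      exact ⟨hLN ha, Subgroup.le_normalizer ha⟩
    have hle : H ≤ piCoreIn {p} (H ⊔ Subgroup.zpowers g) :=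
      (le_inf hHR le_sup_left).trans hN
    exact (sn_iff.1 ((sn_iff_le_piCoreIn hp.out hH).2 hle)).2

/-- Let G be a finite group, p a prime and H a p-subgroup of G. Then the set of elements g of G such that H is subnormal in the subgroup generated by H and g is the union of the normalizers N_G(R) over the subgroups R of G containing H with R = O_p(N_G(R)); and this set does not change when H is replaced by the intersection of all Sylow p-subgroups of G containing H. -/
theorem result {G : Type*} [Group G] [Finite G] (p : ℕ) [Fact p.Prime]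
    (H : Subgroup G) (hH : IsPGroup p H) :
    {g : G | ((H).subgroupOf (H ⊔ Subgroup.zpowers g)).IsSubnormal} =
      {g : G | ∃ R : Subgroup G, H ≤ R ∧ (Cfsg.pCore p (Subgroup.normalizer (R : Set G))).map (Subgroup.normalizer (R : Set G)).subtype = R ∧ g ∈ Subgroup.normalizer (R : Set G)} ∧
    ∀ g : G, (((H).subgroupOf (H ⊔ Subgroup.zpowers g)).IsSubnormal ↔
      (((sInf {K : Subgroup G | ∃ Q : Sylow p G, H ≤ (Q : Subgroup G) ∧ K = (Q : Subgroup G)})).subgroupOf ((sInf {K : Subgroup G | ∃ Q : Sylow p G, H ≤ (Q : Subgroup G) ∧ K = (Q : Subgroup G)}) ⊔ Subgroup.zpowers g)).IsSubnormal) := by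
  have hp : p.Prime := Fact.out
  constructor
  · ext g
    show ((H).subgroupOf (H ⊔ Subgroup.zpowers g)).IsSubnormal ↔
      ∃ R : Subgroup G, H ≤ R ∧ (Cfsg.pCore p (Subgroup.normalizer (R : Set G))).map (Subgroup.normalizer (R : Set G)).subtype = R ∧ g ∈ Subgroup.normalizer (R : Set G)
    rw [key p H hH g]
    constructor
    · rintro ⟨R, h1, h2, h3⟩
      exact ⟨R, h1, by rw [Cfsg.Agent.helper7.map_pCore_eq hp]; exact h2, h3⟩
    · rintro ⟨R, h1, h2, h3⟩
      exact ⟨R, h1, by rw [Cfsg.Agent.helper7.map_pCore_eq hp] at h2; exact h2, h3⟩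
  · intro g
    obtain ⟨Hs, hHs⟩ : ∃ Hs : Subgroup G, Hs =
        sInf {K : Subgroup G | ∃ Q : Sylow p G, H ≤ (Q : Subgroup G) ∧ K = (Q : Subgroup G)} :=
      ⟨_, rfl⟩
    rw [← hHs]
    have hHHs : H ≤ Hs := by
      rw [hHs]
      apply le_sInf
      rintro K ⟨Q, hQ, rfl⟩
      exact hQ
    obtain ⟨Q₀, hQ₀⟩ := hH.exists_le_sylow
    have hHsQ₀ : Hs ≤ (Q₀ : Subgroup G) := by
      rw [hHs]; exact sInf_le ⟨Q₀, hQ₀, rfl⟩
    have hHsp : IsPGroup p ↥Hs := Q₀.2.to_le hHsQ₀
    rw [key p H hH g, key p Hs hHsp g]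
    constructor
    · rintro ⟨R, h1, h2, h3⟩
      refine ⟨R, ?_, h2, h3⟩
      intro x hx
      apply Cfsg.Agent.helper7.mem_radical_of_forall_sylow h2 x
      intro Q hQ
      rw [hHs, Subgroup.mem_sInf] at hx
      exact hx _ ⟨Q, h1.trans hQ, rfl⟩
    · rintro ⟨R, h1, h2, h3⟩
      exact ⟨R, hHHs.trans h1, h2, h3⟩

end Cfsg.Agent.S4089
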