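import Mathlib
import Cfsg.Statements.S4092
import Cfsg.Agent.Lib_helper5_Sylow

set_option autoImplicit false
open Cfsg
open scoped Pointwise

namespace Cfsg.Agent.S4092

open Cfsg.Agent.helper5

theorem result {G : Type*} [Group G] [Finite G] (p : ℕ) [Fact p.Prime]
    (P : Sylow p G) (hP : ¬ (P : Subgroup G).Normal) :
    p * Nat.card (P : Subgroup G) ≤ Nat.card {g : G // ∃ k : ℕ, orderOf g = p ^ k} := by
  have hpp : p.Prime := Fact.out
  -- two distinct Sylow subgroups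
  have hex : ∃ S T : Sylow p G, S ≠ T := by
    by_contra hcon
    push Not at hcon
    have : Subsingleton (Sylow p G) := ⟨hcon⟩
    exact hP (Sylow.normal_of_subsingleton P)
  obtain ⟨S₀, T₀, hST₀⟩ := hex
  have hne : Nonempty {st : Sylow p G × Sylow p G // st.1 ≠ st.2} := ⟨⟨(S₀, T₀), hST₀⟩⟩
  obtain ⟨⟨⟨S, Q⟩, hSQ⟩, hmax0⟩ := Finite.exists_max
    (fun st : {st : Sylow p G × Sylow p G // st.1 ≠ st.2} =>
      Nat.card ((st.1.1 : Subgroup G) ⊓ (st.1.2 : Subgroup G) : Subgroup G))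
  simp only at hSQ hmax0
  set D : Subgroup G := (S : Subgroup G) ⊓ (Q : Subgroup G) with hDdef
  have hmax : ∀ S' T' : Sylow p G, S' ≠ T' →
      Nat.card ((S' : Subgroup G) ⊓ (T' : Subgroup G) : Subgroup G) ≤ Nat.card D :=
    fun S' T' h => hmax0 ⟨(S', T'), h⟩
  have hcardS : Nat.card (S : Subgroup G) = Nat.card (P : Subgroup G) := by
    rw [S.card_eq_multiplicity, P.card_eq_multiplicity]
  have hcardQ : Nat.card (Q : Subgroup G) = Nat.card (P : Subgroup G) := by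
    rw [Q.card_eq_multiplicity, P.card_eq_multiplicity]
  -- D < S
  have hDS : D < (S : Subgroup G) := by
    refine lt_of_le_of_ne inf_le_left ?_
    intro h
    have h1 : (S : Subgroup G) ≤ Q := by rw [← h]; exact inf_le_right
    have h2 : (S : Subgroup G) = Q :=
      Subgroup.eq_of_le_of_card_ge h1 (by rw [hcardS, hcardQ])
    exact hSQ (Sylow.ext h2)
  obtain ⟨u, huS, huD, huN⟩ := exists_mem_normalizer_not_mem p (S : Subgroup G) D S.isPGroup' hDS
  -- powers of u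
  obtain ⟨m, hm⟩ := S.isPGroup' ⟨u, huS⟩
  have hum : u ^ (p ^ m) = 1 := by
    have := congrArg Subtype.val hm
    simpa using this
  have hpow : ∀ k : ℕ, 0 < k → k < p → u ^ k ∉ D := by
    intro k hk0 hkp hmem
    have hcop : k.Coprime (orderOf u) := by
      have h1 : orderOf u ∣ p ^ m := orderOf_dvd_of_pow_eq_one hum
      apply Nat.Coprime.coprime_dvd_right h1
      exact (Nat.coprime_of_lt_prime hk0.ne' hkp hpp).symm.pow_right m
    obtain ⟨j, hj⟩ := exists_pow_eq_self_of_coprime hcop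
    exact huD (hj ▸ Subgroup.pow_mem _ hmem j)
  have huiN : ∀ i : ℕ, u ^ i ∈ Subgroup.normalizer (D : Set G) := fun i => Subgroup.pow_mem _ huN i
  have huiS : ∀ i : ℕ, u ^ i ∈ (S : Subgroup G) := fun i => Subgroup.pow_mem _ huS i
  have hconjD : ∀ (i : ℕ) (g : G), g ∈ D ↔ u ^ i * g * (u ^ i)⁻¹ ∈ D :=
    fun i g => Subgroup.mem_normalizer_iff.mp (huiN i) g
  have hconjD' : ∀ (i : ℕ) (g : G), g ∈ D ↔ (u ^ i)⁻¹ * g * (u ^ i) ∈ D :=
    fun i g => Subgroup.mem_normalizer_iff''.mp (huiN i) g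
  let Qi : ℕ → Sylow p G := fun i => (u ^ i) • Q
  have hmemQi : ∀ (i : ℕ) (g : G), g ∈ (Qi i : Subgroup G) ↔ (u ^ i)⁻¹ * g * (u ^ i) ∈ (Q : Subgroup G) :=
    fun i g => mem_smul_sylow_iff (u ^ i) g Q
  -- (a)
  have hSQi : ∀ (i : ℕ) (g : G), g ∈ (S : Subgroup G) → g ∈ (Qi i : Subgroup G) → g ∈ D := by
    intro i g hgS hgQ
    rw [hmemQi] at hgQ
    have h1 : (u ^ i)⁻¹ * g * (u ^ i) ∈ (S : Subgroup G) :=
      Subgroup.mul_mem _ (Subgroup.mul_mem _ (Subgroup.inv_mem _ (huiS i)) hgS) (huiS i)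
    have h2 : (u ^ i)⁻¹ * g * (u ^ i) ∈ D := Subgroup.mem_inf.mpr ⟨h1, hgQ⟩
    exact (hconjD' i g).mpr h2
  -- (b)
  have hneq_lt : ∀ i j : ℕ, i < j → j < p → Qi i ≠ Qi j := by
    intro i j hij hjp heq
    have h1 : ((u ^ i)⁻¹ * u ^ j) • Q = Q := by
      rw [mul_smul]
      show (u ^ i)⁻¹ • Qi j = Q
      rw [← heq]
      show (u ^ i)⁻¹ • ((u ^ i) • Q) = Q
      rw [inv_smul_smul]
    rw [Sylow.smul_eq_iff_mem_normalizer] at h1
    have h2 : (u ^ i)⁻¹ * u ^ j = u ^ (j - i) := by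
      have : u ^ j = u ^ i * u ^ (j - i) := by rw [← pow_add]; congr 1; omega
      rw [this]; group
    rw [h2] at h1
    have h3 : u ^ (j - i) ∈ (S : Subgroup G) ⊓ Subgroup.normalizer ((Q : Subgroup G) : Set G) :=
      Subgroup.mem_inf.mpr ⟨huiS _, h1⟩
    have h3' : u ^ (j - i) ∈ (S : Subgroup G) ⊓ (Q : Subgroup G) := by
      rw [← S.isPGroup'.inf_normalizer_sylow Q]; exact h3
    exact hpow (j - i) (by omega) (by omega) h3'
  have hneq : ∀ i j : ℕ, i < p → j < p → i ≠ j → Qi i ≠ Qi j := by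
    intro i j hip hjp hij
    rcases Nat.lt_or_gt_of_ne hij with h | h
    · exact hneq_lt i j h hjp
    · exact (hneq_lt j i h hip).symm
  -- (c)
  have hDQi : ∀ i : ℕ, D ≤ (Qi i : Subgroup G) := by
    intro i d hd
    rw [hmemQi]
    exact (Subgroup.mem_inf.mp ((hconjD' i d).mp hd)).2
  have hQiQj : ∀ i j : ℕ, i < p → j < p → i ≠ j → ∀ g : G, g ∈ (Qi i : Subgroup G) →
      g ∈ (Qi j : Subgroup G) → g ∈ D := by
    intro i j hip hjp hij g hgi hgj
    have h1 : D ≤ (Qi i : Subgroup G) ⊓ (Qi j : Subgroup G) := le_inf (hDQi i) (hDQi j)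
    have h2 := hmax (Qi i) (Qi j) (hneq i j hip hjp hij)
    have h3 : D = (Qi i : Subgroup G) ⊓ (Qi j : Subgroup G) := Subgroup.eq_of_le_of_card_ge h1 h2
    rw [h3]; exact Subgroup.mem_inf.mpr ⟨hgi, hgj⟩
  -- p-elements
  have hpelS : ∀ x ∈ (S : Subgroup G), ∃ k : ℕ, orderOf x = p ^ k := by
    intro x hx
    obtain ⟨a, ha⟩ := (IsPGroup.iff_orderOf.mp S.isPGroup') ⟨x, hx⟩
    exact ⟨a, by rw [← ha, Subgroup.orderOf_mk]⟩
  have hpelQ : ∀ x ∈ (Q : Subgroup G), ∃ k : ℕ, orderOf x = p ^ k := by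
    intro x hx
    obtain ⟨a, ha⟩ := (IsPGroup.iff_orderOf.mp Q.isPGroup') ⟨x, hx⟩
    exact ⟨a, by rw [← ha, Subgroup.orderOf_mk]⟩
  have hconj_ord : ∀ (g x : G), orderOf (g * x * g⁻¹) = orderOf x := fun g x =>
    MulEquiv.orderOf_eq (MulAut.conj g) x
  -- the injection
  let X := {g : G // ∃ k : ℕ, orderOf g = p ^ k}
  let Y := {q : (Q : Subgroup G) // (q : G) ∉ D}
  let f : (S : Subgroup G) ⊕ (Fin p × Y) → X := fun z =>
    match z with
    | Sum.inl x => ⟨(x : G), hpelS x x.2⟩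
    | Sum.inr (i, q) => ⟨u ^ (i : ℕ) * (q.1 : G) * (u ^ (i : ℕ))⁻¹, by
        rw [hconj_ord]; exact hpelQ _ q.1.2⟩
  have hconjQi : ∀ (i : ℕ) (q : G), q ∈ (Q : Subgroup G) →
      u ^ i * q * (u ^ i)⁻¹ ∈ (Qi i : Subgroup G) := by
    intro i q hq
    rw [hmemQi]
    have : (u ^ i)⁻¹ * (u ^ i * q * (u ^ i)⁻¹) * u ^ i = q := by group
    rw [this]; exact hq
  have hnotD : ∀ (i : ℕ) (q : G), q ∉ D → u ^ i * q * (u ^ i)⁻¹ ∉ D :=
    fun i q hq h => hq ((hconjD i q).mpr h)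
  have hf : Function.Injective f := by
    intro z z' hzz
    have hval := congrArg Subtype.val hzz
    rcases z with x | ⟨i, q⟩ <;> rcases z' with x' | ⟨j, q'⟩
    · simp only [f] at hval
      congr 1
      exact Subtype.ext hval
    · exfalso
      simp only [f] at hval
      have h1 : u ^ (j : ℕ) * (q'.1 : G) * (u ^ (j : ℕ))⁻¹ ∈ (S : Subgroup G) := by
        rw [← hval]; exact x.2
      have h2 := hSQi j _ h1 (hconjQi j _ q'.1.2)
      exact hnotD j _ q'.2 h2
    · exfalso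
      simp only [f] at hval
      have h1 : u ^ (i : ℕ) * (q.1 : G) * (u ^ (i : ℕ))⁻¹ ∈ (S : Subgroup G) := by
        rw [hval]; exact x'.2
      have h2 := hSQi i _ h1 (hconjQi i _ q.1.2)
      exact hnotD i _ q.2 h2
    · simp only [f] at hval
      by_cases hij : (i : ℕ) = (j : ℕ)
      · have hij' : i = j := Fin.ext hij
        subst hij'
        have h1 : (q.1 : G) = (q'.1 : G) := mul_left_cancel (mul_right_cancel hval)
        have : q = q' := Subtype.ext (Subtype.ext h1)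
        rw [this]
      · exfalso
        have h1 := hconjQi i _ q.1.2
        have h2 := hconjQi j _ q'.1.2
        rw [← hval] at h2
        have h3 := hQiQj i j i.2 j.2 hij _ h1 h2
        exact hnotD i _ q.2 h3
  have hcard := Nat.card_le_card_of_injective f hf
  rw [Nat.card_sum, Nat.card_prod, Nat.card_fin] at hcard
  -- card Y
  have hY : Nat.card Y + Nat.card D = Nat.card (Q : Subgroup G) := by
    classical
    have e : Nat.card ({q : (Q : Subgroup G) // (q : G) ∈ D} ⊕ Y) = Nat.card (Q : Subgroup G) :=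
      Nat.card_congr (Equiv.sumCompl (fun q : (Q : Subgroup G) => (q : G) ∈ D))
    rw [Nat.card_sum] at e
    have e2 : Nat.card {q : (Q : Subgroup G) // (q : G) ∈ D} = Nat.card D := by
      have : Nat.card (D.subgroupOf (Q : Subgroup G)) = Nat.card D :=
        card_subgroupOf_of_le inf_le_right
      rw [← this]
      rfl
    rw [e2] at e
    omega
  -- p * |D| ≤ |P|
  have hpD : p * Nat.card D ≤ Nat.card (S : Subgroup G) := by
    obtain ⟨a, ha⟩ := IsPGroup.iff_card.mp (S.isPGroup'.to_le (inf_le_left : D ≤ S))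
    obtain ⟨n, hn⟩ := IsPGroup.iff_card.mp S.isPGroup'
    have hlt : Nat.card D < Nat.card (S : Subgroup G) := card_lt_of_lt hDS
    rw [ha, hn] at hlt ⊢
    have han : a < n := (Nat.pow_lt_pow_iff_right hpp.one_lt).mp hlt
    calc p * p ^ a = p ^ (a + 1) := by rw [pow_succ, mul_comm]
      _ ≤ p ^ n := Nat.pow_le_pow_right hpp.pos han
  rw [hcardS] at hcard hpD
  rw [hcardQ] at hY
  have h1 : p * Nat.card Y + p * Nat.card D = p * Nat.card (P : Subgroup G) := by
    rw [← mul_add, hY]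
  have hfin : p * Nat.card (P : Subgroup G) ≤ Nat.card X := by linarith
  exact hfin

end Cfsg.Agent.S4092
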