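import Mathlib
import Cfsg.Statements.S4093
import Cfsg.Agent.Lib_helper5_Sylow

set_option autoImplicit false
open Cfsg
open scoped Pointwise

namespace Cfsg.Agent.S4093

theorem key_unique {G : Type*} [Group G] (N P : Subgroup G) [hN : N.Normal]
    (hdisj : N ⊓ P = ⊥) (x x' n n' : G) (hx : x ∈ P) (hx' : x' ∈ P) (hn : n ∈ N) (hn' : n' ∈ N)
    (h : n * x * n⁻¹ = n' * x' * n'⁻¹) : x = x' := by
  have e1 : x' = (n'⁻¹ * n) * x * (n'⁻¹ * n)⁻¹ := by
    calc x' = n'⁻¹ * (n' * x' * n'⁻¹) * n' := by group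
      _ = n'⁻¹ * (n * x * n⁻¹) * n' := by rw [h]
      _ = (n'⁻¹ * n) * x * (n'⁻¹ * n)⁻¹ := by group
  have hm : n'⁻¹ * n ∈ N := N.mul_mem (N.inv_mem hn') hn
  have e2 : x' * x⁻¹ = (n'⁻¹ * n) * (x * (n'⁻¹ * n)⁻¹ * x⁻¹) := by
    rw [e1]; group
  have h1 : x' * x⁻¹ ∈ N := by
    rw [e2]; exact N.mul_mem hm (hN.conj_mem _ (N.inv_mem hm) x)
  have h2 : x' * x⁻¹ ∈ P := P.mul_mem hx' (P.inv_mem hx)
  have h3 : x' * x⁻¹ ∈ N ⊓ P := Subgroup.mem_inf.mpr ⟨h1, h2⟩
  rw [hdisj, Subgroup.mem_bot] at h3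
  exact (mul_inv_eq_one.mp h3).symm

theorem key_exists {G : Type*} [Group G] [Finite G] (p : ℕ) [Fact p.Prime]
    (P : Sylow p G) (N : Subgroup G) (hNP : N.IsComplement' (P : Subgroup G))
    (g : G) (k : ℕ) (hk : orderOf g = p ^ k) :
    ∃ n ∈ N, ∃ x ∈ (P : Subgroup G), n * x * n⁻¹ = g := by
  have h1 : IsPGroup p (Subgroup.zpowers g) :=
    IsPGroup.of_card (n := k) (by rw [Nat.card_zpowers, hk])
  obtain ⟨P', hP'⟩ := h1.exists_le_sylow
  obtain ⟨h, hh⟩ := MulAction.exists_smul_eq G P P'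
  have hg : g ∈ ((h • P : Sylow p G) : Subgroup G) := by
    rw [hh]; exact hP' (Subgroup.mem_zpowers g)
  rw [Cfsg.Agent.helper5.mem_smul_sylow_iff] at hg
  obtain ⟨⟨n, y⟩, hny, -⟩ := (Subgroup.isComplement_iff_existsUnique.mp hNP) h
  simp only at hny
  refine ⟨n, n.2, (n : G)⁻¹ * g * n, ?_, by group⟩
  have : (n : G)⁻¹ * g * n = y * (h⁻¹ * g * h) * (y : G)⁻¹ := by rw [← hny]; group
  rw [this]
  exact Subgroup.mul_mem _ (Subgroup.mul_mem _ y.2 hg) (Subgroup.inv_mem _ y.2)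

theorem result {G : Type*} [Group G] [Finite G] (p : ℕ) [Fact p.Prime]
    (P : Sylow p G) (N : Subgroup G) [N.Normal] (hNP : N.IsComplement' (P : Subgroup G)) :
    Nat.card {g : G // ∃ k : ℕ, orderOf g = p ^ k} =
      ∑ᶠ x : (P : Subgroup G), Nat.card N / Nat.card ↥(N ⊓ Subgroup.centralizer ({(x : G)} : Set G)) := by
  classical
  let act : MulAction N G := MulAction.compHom G ((MulAut.conj : G →* MulAut G).comp N.subtype)
  have hsmul : ∀ (n : N) (g : G), n • g = (n : G) * g * (n : G)⁻¹ := fun n g => rfl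
  have hdisj : N ⊓ (P : Subgroup G) = ⊥ := hNP.disjoint.eq_bot
  have horb : ∀ x : G, Nat.card (MulAction.orbit N x) =
      Nat.card N / Nat.card ↥(N ⊓ Subgroup.centralizer ({x} : Set G)) := by
    intro x
    have h1 : Nat.card (MulAction.orbit N x) = Nat.card (N ⧸ MulAction.stabilizer N x) :=
      Nat.card_congr (MulAction.orbitEquivQuotientStabilizer N x)
    have h2 := Subgroup.card_eq_card_quotient_mul_card_subgroup (MulAction.stabilizer N x)
    have h3 : MulAction.stabilizer N x = (Subgroup.centralizer ({x} : Set G)).subgroupOf N := by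
      ext n
      rw [MulAction.mem_stabilizer_iff, Subgroup.mem_subgroupOf,
        Subgroup.mem_centralizer_singleton_iff, hsmul]
      constructor
      · intro h
        calc (n : G) * x = ((n : G) * x * (n : G)⁻¹) * n := by group
          _ = x * n := by rw [h]
      · intro h
        calc (n : G) * x * (n : G)⁻¹ = (x * n) * (n : G)⁻¹ := by rw [h]
          _ = x := by group
    have h4 : Nat.card (MulAction.stabilizer N x) =
        Nat.card ↥(N ⊓ Subgroup.centralizer ({x} : Set G)) := by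
      rw [h3, Cfsg.Agent.helper5.card_subgroupOf_eq_card_inf, inf_comm]
    rw [h1, ← h4]
    have hpos : 0 < Nat.card (MulAction.stabilizer N x) := Nat.card_pos
    rw [h2, Nat.mul_div_cancel _ hpos]
  have hpelP : ∀ x : (P : Subgroup G), ∃ k : ℕ, orderOf (x : G) = p ^ k := by
    intro x
    obtain ⟨a, ha⟩ := (IsPGroup.iff_orderOf.mp P.isPGroup') x
    exact ⟨a, by rw [← ha, Subgroup.orderOf_coe]⟩
  have : Fintype (P : Subgroup G) := Fintype.ofFinite _
  rw [finsum_eq_sum_of_fintype]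
  simp_rw [← horb]
  rw [← Nat.card_sigma]
  let Φ : (Σ x : (P : Subgroup G), MulAction.orbit N (x : G)) →
      {g : G // ∃ k : ℕ, orderOf g = p ^ k} :=
    fun z => ⟨(z.2 : G), by
      obtain ⟨n, hn⟩ := MulAction.mem_orbit_iff.mp z.2.2
      obtain ⟨k, hk⟩ := hpelP z.1
      refine ⟨k, ?_⟩
      rw [← hn, hsmul, ← hk]
      exact MulEquiv.orderOf_eq (MulAut.conj (n : G)) _⟩
  have hinj : Function.Injective Φ := by
    rintro ⟨x, g, hg⟩ ⟨x', g', hg'⟩ h
    have hgg : g = g' := congrArg Subtype.val h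
    subst hgg
    obtain ⟨n, hn⟩ := MulAction.mem_orbit_iff.mp hg
    obtain ⟨n', hn'⟩ := MulAction.mem_orbit_iff.mp hg'
    rw [hsmul] at hn hn'
    have hxx : (x : G) = (x' : G) :=
      key_unique N (P : Subgroup G) hdisj x x' n n' x.2 x'.2 n.2 n'.2 (hn.trans hn'.symm)
    have hxx' : x = x' := Subtype.ext hxx
    subst hxx'
    rfl
  have hsurj : Function.Surjective Φ := by
    rintro ⟨g, k, hk⟩
    obtain ⟨n, hn, x, hx, hnx⟩ := key_exists p P N hNP g k hk
    refine ⟨⟨⟨x, hx⟩, ⟨g, MulAction.mem_orbit_iff.mpr ⟨⟨n, hn⟩, ?_⟩⟩⟩, rfl⟩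
    rw [hsmul]; exact hnx
  exact (Nat.card_congr (Equiv.ofBijective Φ ⟨hinj, hsurj⟩)).symm

end Cfsg.Agent.S4093
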