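import Mathlib
import Cfsg.Statements.S4107
import Cfsg.Agent.Lib_helper1_Core

set_option autoImplicit false
open Cfsg

namespace Cfsg.Agent.S4107

open Cfsg.Agent.helper1

/-- key lemma: if a normal `q`-subgroup `Q` is not inside `N` then `N` is a `q`-group. -/
theorem key {G : Type*} [Group G] [Finite G] (N : Subgroup G) [hNn : N.Normal]
    (heq : ∀ x : G, x ∉ N → ∀ n ∈ N, orderOf (x * n) = orderOf x)
    (q : ℕ) [hq : Fact q.Prime] (Q : Subgroup G) [hQn : Q.Normal] (hQ : IsPGroup q Q)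
    (x : G) (hxQ : x ∈ Q) (hxN : x ∉ N) : IsPGroup q N := by
  by_contra hnot
  have hexr : ∃ r : ℕ, r.Prime ∧ r ∣ Nat.card N ∧ r ≠ q := by
    by_contra hcon
    push Not at hcon
    apply hnot
    have hcard : Nat.card N = q ^ (Nat.card N).primeFactorsList.length :=
      Nat.eq_prime_pow_of_unique_prime_dvd Nat.card_pos.ne' (fun {d} hd hdN => hcon d hd hdN)
    exact IsPGroup.of_card hcard
  obtain ⟨r, hr, hrN, hrq⟩ := hexr
  have : Fact r.Prime := ⟨hr⟩
  obtain ⟨n₀, hn₀⟩ := exists_prime_orderOf_dvd_card' r hrN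
  set n : G := (n₀ : G) with hndef
  have hn : n ∈ N := n₀.2
  have hno : orderOf n = r := by rw [← hn₀, hndef, Subgroup.orderOf_coe]
  set D := Q ⊓ N with hD
  set Z := Subgroup.zpowers n with hZ
  have hZr : IsPGroup r Z := IsPGroup.of_card (n := 1) (by rw [Nat.card_zpowers, hno, pow_one])
  have hZN : Z ≤ N := (Subgroup.zpowers_le).mpr hn
  have hmem : ∀ (g : Z) (m : D), x⁻¹ * (g : G) * x * (m : G) * (g : G)⁻¹ ∈ D := by
    intro g m
    have hgN : (g : G) ∈ N := hZN g.2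
    have e : x⁻¹ * (g : G) * x * (m : G) * (g : G)⁻¹ =
        (x⁻¹ * ((g : G) * x * (g : G)⁻¹)) * ((g : G) * (m : G) * (g : G)⁻¹) := by group
    rw [e]
    apply D.mul_mem
    · apply Subgroup.mem_inf.mpr
      constructor
      · exact Q.mul_mem (Q.inv_mem hxQ) (hQn.conj_mem x hxQ g)
      · have e2 : x⁻¹ * ((g : G) * x * (g : G)⁻¹) = (x⁻¹ * (g : G) * x⁻¹⁻¹) * (g : G)⁻¹ := by group
        rw [e2]; exact N.mul_mem (hNn.conj_mem _ hgN x⁻¹) (N.inv_mem hgN)
    · apply Subgroup.mem_inf.mpr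
      exact ⟨hQn.conj_mem _ (Subgroup.mem_inf.mp m.2).1 g, hNn.conj_mem _ (Subgroup.mem_inf.mp m.2).2 g⟩
  let act : MulAction Z D :=
    { smul := fun g m => ⟨x⁻¹ * (g : G) * x * (m : G) * (g : G)⁻¹, hmem g m⟩
      one_smul := fun m => Subtype.ext (by
        show x⁻¹ * ((1 : Z) : G) * x * (m : G) * ((1 : Z) : G)⁻¹ = m
        simp)
      mul_smul := fun g h m => Subtype.ext (by
        show x⁻¹ * ((g * h : Z) : G) * x * (m : G) * ((g * h : Z) : G)⁻¹ =
          x⁻¹ * (g : G) * x * (x⁻¹ * (h : G) * x * (m : G) * (h : G)⁻¹) * (g : G)⁻¹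
        simp only [Subgroup.coe_mul]; group) }
  have hDq : IsPGroup q D := hQ.to_le inf_le_left
  obtain ⟨k, hk⟩ := IsPGroup.iff_card.mp hDq
  have hrD : ¬ r ∣ Nat.card D := by
    rw [hk]; intro h
    exact hrq ((Nat.prime_dvd_prime_iff_eq hr hq.out).mp (hr.dvd_of_dvd_pow h))
  obtain ⟨m, hm⟩ := hZr.nonempty_fixed_point_of_prime_not_dvd_card D hrD
  have h1 := hm ⟨n, Subgroup.mem_zpowers n⟩
  have h2 : x⁻¹ * n * x * (m : G) * n⁻¹ = (m : G) := congrArg Subtype.val h1
  set x' := x * (m : G) with hx'def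
  have hcomm : n * x' = x' * n := by
    calc n * x' = x * (x⁻¹ * n * x * (m : G) * n⁻¹) * n := by rw [hx'def]; group
      _ = x * (m : G) * n := by rw [h2]
  have hx'N : x' ∉ N := fun h => hxN (by
    have e : x = x' * (m : G)⁻¹ := by rw [hx'def]; group
    rw [e]; exact N.mul_mem h (N.inv_mem (Subgroup.mem_inf.mp m.2).2))
  have hx'Q : x' ∈ Q := Q.mul_mem hxQ (Subgroup.mem_inf.mp m.2).1
  obtain ⟨j, hj⟩ := (IsPGroup.iff_orderOf.mp hQ) ⟨x', hx'Q⟩
  have hx'o : orderOf x' = q ^ j := by rw [← hj, Subgroup.orderOf_mk]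
  have h3 := heq x' hx'N n hn
  have hco : (orderOf x').Coprime (orderOf n) := by
    rw [hx'o, hno]
    exact Nat.Coprime.pow_left j ((Nat.coprime_primes hq.out hr).mpr (Ne.symm hrq))
  have hc : Commute x' n := hcomm.symm
  rw [hc.orderOf_mul_eq_mul_orderOf_of_coprime hco, hno] at h3
  have hpos : 0 < orderOf x' := orderOf_pos x'
  have hr1 : r = 1 := by
    have h4 : orderOf x' * r = orderOf x' * 1 := by rw [h3, mul_one]
    exact Nat.eq_of_mul_eq_mul_left hpos h4
  exact hr.ne_one hr1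

theorem result {G : Type*} [Group G] [Finite G] (N : Subgroup G) [N.Normal] (hN1 : N ≠ ⊥) (hN2 : N ≠ ⊤)
    (heq : ∀ x : G, x ∉ N → ∀ n ∈ N, orderOf (x * n) = orderOf x) :
    (N ≤ Cfsg.fittingSubgroup G ∨ Cfsg.fittingSubgroup G ≤ N) ∧
    (N < Cfsg.fittingSubgroup G → IsPrimePow (Nat.card (Cfsg.fittingSubgroup G))) := by
  have hF := fitting_eq_iSup_pCore (G := G)
  have hex : ¬ fittingSubgroup G ≤ N → ∃ q : Nat.Primes, ¬ pCore (q : ℕ) G ≤ N := by
    intro h
    by_contra hcon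
    push Not at hcon
    apply h
    rw [hF]; exact iSup_le hcon
  have hkey : ∀ q : Nat.Primes, ¬ pCore (q : ℕ) G ≤ N → IsPGroup (q : ℕ) N := by
    intro q hq
    have : Fact (q : ℕ).Prime := ⟨q.2⟩
    obtain ⟨x, hxQ, hxN⟩ := SetLike.not_le_iff_exists.mp hq
    have := pCore_normal (G := G) (q : ℕ)
    exact key N heq q (pCore q G) (pCore_isPGroup q) x hxQ hxN
  constructor
  · by_cases h : fittingSubgroup G ≤ N
    · right; exact h
    · left
      obtain ⟨q, hq⟩ := hex h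
      have : Fact (q : ℕ).Prime := ⟨q.2⟩
      exact (le_pCore inferInstance (hkey q hq)).trans (pCore_le_fitting q)
  · intro hlt
    have h : ¬ fittingSubgroup G ≤ N := not_le_of_gt hlt
    obtain ⟨q, hq⟩ := hex h
    have hNq := hkey q hq
    have : Fact (q : ℕ).Prime := ⟨q.2⟩
    have hother : ∀ r : Nat.Primes, r ≠ q → pCore (r : ℕ) G = ⊥ := by
      intro r hrq
      have : Fact (r : ℕ).Prime := ⟨r.2⟩
      have hne : (r : ℕ) ≠ (q : ℕ) := fun h => hrq (Subtype.ext h)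
      by_cases hr : pCore (r : ℕ) G ≤ N
      · have h1 : IsPGroup (r : ℕ) (pCore (r : ℕ) G) := pCore_isPGroup r
        have h2 : IsPGroup (q : ℕ) (pCore (r : ℕ) G) := hNq.to_le hr
        exact disjoint_self.mp (IsPGroup.disjoint_of_ne (r : ℕ) (q : ℕ) hne _ _ h1 h2)
      · have hNr := hkey r hr
        exfalso
        apply hN1
        exact disjoint_self.mp (IsPGroup.disjoint_of_ne (r : ℕ) (q : ℕ) hne _ _ hNr hNq)
    have hFq : fittingSubgroup G = pCore (q : ℕ) G := by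
      rw [hF]
      apply le_antisymm
      · apply iSup_le
        intro r
        by_cases hrq : r = q
        · rw [hrq]
        · rw [hother r hrq]; exact bot_le
      · exact le_iSup (fun p : Nat.Primes => pCore (p : ℕ) G) q
    have hFp : IsPGroup (q : ℕ) (fittingSubgroup G) := by rw [hFq]; exact pCore_isPGroup q
    obtain ⟨k, hk⟩ := IsPGroup.iff_card.mp hFp
    rw [isPrimePow_nat_iff]
    refine ⟨q, k, q.2, ?_, hk.symm⟩
    rcases Nat.eq_zero_or_pos k with h0 | h0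
    · exfalso
      rw [h0, pow_zero] at hk
      have hbot : fittingSubgroup G = ⊥ := Subgroup.card_eq_one.mp hk
      rw [hbot] at hlt
      exact (not_lt_bot hlt)
    · exact h0

end Cfsg.Agent.S4107
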