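import Mathlib
import Cfsg.Statements.S4112
import Cfsg.Agent.S3986

set_option autoImplicit false
open Cfsg
open scoped Pointwise

namespace Cfsg.Agent.S4112

/-- If a power `y ^ n` lies in a normal subgroup `K` with `n` coprime to the index, so does `y`. -/
theorem mem_of_pow_mem_coprime {G : Type*} [Group G] [Finite G] (K : Subgroup G) [K.Normal]
    (y : G) (n : ℕ) (hy : y ^ n ∈ K) (hcop : n.Coprime K.index) : y ∈ K := by
  rw [← QuotientGroup.eq_one_iff]
  have h1 : (y : G ⧸ K) ^ n = 1 := by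
    rw [← QuotientGroup.mk_pow]; exact (QuotientGroup.eq_one_iff _).mpr hy
  have h2 : (y : G ⧸ K) ^ K.index = 1 := by
    rw [Subgroup.index_eq_card]; exact pow_card_eq_one'
  have h3 : (y : G ⧸ K) ^ Nat.gcd n K.index = 1 := pow_gcd_eq_one.mpr ⟨h1, h2⟩
  rw [hcop.gcd_eq_one, pow_one] at h3
  exact h3

/-- (1) ⇒ (2) -/
theorem one_imp_two {G : Type*} [Group G] [Finite G] (N M : Subgroup G) [N.Normal] [hMn : M.Normal]
    (h1 : ∀ x ∈ M, x ≠ 1 → Subgroup.centralizer ({x} : Set G) ≤ N) :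
    N.index.Coprime (Nat.card M) := by
  apply Nat.coprime_of_dvd
  intro q hq hqN hqM
  have : Fact q.Prime := ⟨hq⟩
  obtain ⟨Q⟩ : Nonempty (Sylow q G) := inferInstance
  let act : MulAction (Q : Subgroup G) M :=
    MulAction.compHom M ((MulAut.conjNormal : G →* MulAut M).comp (Q : Subgroup G).subtype)
  have hsmul : ∀ (u : (Q : Subgroup G)) (b : M), ((u • b : M) : G) = (u : G) * (b : G) * (u : G)⁻¹ :=
    fun u b => MulAut.conjNormal_apply (u : G) b
  have hfix1 : (1 : M) ∈ MulAction.fixedPoints (Q : Subgroup G) M := by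
    intro u
    apply Subtype.ext
    rw [hsmul]; simp
  obtain ⟨b, hb, hb1⟩ := Q.isPGroup'.exists_fixed_point_of_prime_dvd_card_of_fixed_point M hqM hfix1
  have hb1' : (b : G) ≠ 1 := fun h => hb1 (Subtype.ext h.symm)
  have hQC : (Q : Subgroup G) ≤ Subgroup.centralizer ({(b : G)} : Set G) := by
    intro u hu
    rw [Subgroup.mem_centralizer_singleton_iff]
    have h2 := congrArg Subtype.val (hb ⟨u, hu⟩)
    rw [hsmul] at h2
    calc u * (b : G) = (u * (b : G) * u⁻¹) * u := by group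
      _ = (b : G) * u := by rw [h2]
  have hQN : (Q : Subgroup G) ≤ N := hQC.trans (h1 b b.2 hb1')
  exact Q.not_dvd_index (hqN.trans (Subgroup.index_dvd_of_le hQN))

/-- (2) ⇒ (1) -/
theorem two_imp_one {G : Type*} [Group G] [Finite G] (N M : Subgroup G) [N.Normal] [M.Normal]
    (hcam : ∀ g : G, g ∉ N → ∀ m ∈ M, ∃ x : G, x * g * x⁻¹ = g * m)
    (h2 : N.index.Coprime (Nat.card M)) :
    ∀ x ∈ M, x ≠ 1 → Subgroup.centralizer ({x} : Set G) ≤ N := by
  intro x hxM hx1 g hg
  by_contra hgN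
  rw [Subgroup.mem_centralizer_singleton_iff] at hg
  have hox1 : orderOf x ≠ 1 := fun h => hx1 (orderOf_eq_one_iff.mp h)
  have hq : (Nat.minFac (orderOf x)).Prime := Nat.minFac_prime hox1
  set q := Nat.minFac (orderOf x) with hqdef
  have hqx : q ∣ orderOf x := Nat.minFac_dvd _
  set x' := x ^ (orderOf x / q) with hx'def
  have hox' : orderOf x' = q := orderOf_pow_orderOf_div (orderOf_pos x).ne' hqx
  have hx'M : x' ∈ M := Subgroup.pow_mem _ hxM _
  have hqM : q ∣ Nat.card M := by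
    rw [← hox']; exact Subgroup.orderOf_dvd_natCard _ hx'M
  have hqN : ¬ q ∣ N.index := by
    intro h
    have := Nat.dvd_gcd h hqM
    rw [h2.gcd_eq_one] at this
    exact hq.one_lt.ne' (Nat.dvd_one.mp this)
  obtain ⟨e, b, hqb, hgb⟩ := Nat.exists_eq_pow_mul_and_not_dvd (orderOf_pos g).ne' q hq.ne_one
  have hb0 : b ≠ 0 := by
    rintro rfl; rw [mul_zero] at hgb; exact (orderOf_pos g).ne' hgb
  have hqe0 : q ^ e ≠ 0 := pow_ne_zero _ hq.ne_zero
  set g' := g ^ (q ^ e) with hg'def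
  have hog' : orderOf g' = b := by
    rw [orderOf_pow_of_dvd hqe0 (by rw [hgb]; exact dvd_mul_right _ _), hgb,
      Nat.mul_div_cancel_left _ (Nat.pos_of_ne_zero hqe0)]
  have hg'N : g' ∉ N := by
    intro h
    apply hgN
    apply mem_of_pow_mem_coprime N g (q ^ e) h
    exact Nat.Coprime.pow_left e ((Nat.Prime.coprime_iff_not_dvd hq).mpr hqN)
  obtain ⟨y, hy⟩ := hcam g' hg'N x' hx'M
  have hord : orderOf (g' * x') = orderOf g' := by
    rw [← hy]; exact MulEquiv.orderOf_eq (MulAut.conj y) g'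
  have hcomm : Commute g' x' := by
    have h0 : Commute g x := hg
    exact (h0.pow_left _).pow_right _
  have hcop : (orderOf g').Coprime (orderOf x') := by
    rw [hog', hox']; exact ((Nat.Prime.coprime_iff_not_dvd hq).mpr hqb).symm
  rw [hcomm.orderOf_mul_eq_mul_orderOf_of_coprime hcop, hog', hox'] at hord
  have hbpos : 0 < b := Nat.pos_of_ne_zero hb0
  have : q = 1 := by
    have h3 : b * q = b * 1 := by rw [hord, mul_one]
    exact Nat.eq_of_mul_eq_mul_left hbpos h3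
  exact hq.ne_one this

/-- (2) ⇒ (3): a supplement of `N` of order prime to `#M`. -/
theorem exists_supplement {G : Type*} [Group G] [Finite G] (N M : Subgroup G) [hNn : N.Normal]
    (h2 : N.index.Coprime (Nat.card M)) :
    ∃ H : Subgroup G, H ⊔ N = ⊤ ∧ H ⊓ M = ⊥ := by
  have hne : Nonempty {H : Subgroup G // H ⊔ N = ⊤} := ⟨⟨⊤, top_sup_eq _⟩⟩
  obtain ⟨⟨H₀, hH₀⟩, hmin⟩ := Finite.exists_min (fun H : {H : Subgroup G // H ⊔ N = ⊤} =>
    Nat.card (H : Subgroup G))
  have hmin' : ∀ L : Subgroup G, L ⊔ N = ⊤ → Nat.card H₀ ≤ Nat.card L := fun L hL => hmin ⟨L, hL⟩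
  refine ⟨H₀, hH₀, ?_⟩
  apply (Subgroup.disjoint_of_coprime_natCard ?_).eq_bot
  apply Nat.coprime_of_dvd
  intro q hq hqH hqM
  have : Fact q.Prime := ⟨hq⟩
  have hqN : ¬ q ∣ N.index := by
    intro h
    have := Nat.dvd_gcd h hqM
    rw [h2.gcd_eq_one] at this
    exact hq.one_lt.ne' (Nat.dvd_one.mp this)
  -- work inside H₀
  set D : Subgroup H₀ := N.subgroupOf H₀ with hDdef
  have hDn : D.Normal := Subgroup.Normal.subgroupOf hNn H₀
  have hDidx : D.index = N.index := by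
    have h1 : N.relIndex (H₀ ⊔ N) = N.relIndex H₀ := Subgroup.relIndex_sup_right H₀ N
    rw [hH₀, Subgroup.relIndex_top_right] at h1
    exact h1.symm
  obtain ⟨Q⟩ : Nonempty (Sylow q H₀) := inferInstance
  have hQD : (Q : Subgroup H₀) ≤ D := by
    intro u hu
    obtain ⟨k, hk⟩ := Q.isPGroup' ⟨u, hu⟩
    have hk' : u ^ (q ^ k) = 1 := by
      have := congrArg Subtype.val hk
      simpa using this
    apply Cfsg.Agent.S3986.mem_of_coprime_index D u (q ^ k) hk'
    rw [hDidx]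
    exact Nat.Coprime.pow_left k ((Nat.Prime.coprime_iff_not_dvd hq).mpr hqN)
  -- Frattini
  have hfrat : Subgroup.normalizer ((Q : Subgroup H₀) : Set H₀) ⊔ D = ⊤ :=
    Sylow.normalizer_sup_eq_top' Q hQD
  -- helper: a subgroup L' of H₀ with L' ⊔ D = ⊤ maps to a supplement of N
  have hsupp : ∀ L' : Subgroup H₀, L' ⊔ D = ⊤ → (L'.map H₀.subtype) ⊔ N = ⊤ := by
    intro L' hL'
    rw [eq_top_iff, ← hH₀]
    apply sup_le _ le_sup_right
    intro h hh
    have h1 : (⟨h, hh⟩ : H₀) ∈ ((L' ⊔ D : Subgroup H₀) : Set H₀) := by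
      rw [hL']; exact Subgroup.mem_top _
    rw [Subgroup.mul_normal] at h1
    obtain ⟨l, hl, d, hd, hld⟩ := Set.mem_mul.mp h1
    have h2 : h = (l : G) * (d : G) := by
      have := congrArg Subtype.val hld
      simpa using this.symm
    rw [h2]
    apply Subgroup.mul_mem
    · exact Subgroup.mem_sup_left (Subgroup.mem_map.mpr ⟨l, hl, rfl⟩)
    · apply Subgroup.mem_sup_right
      exact Subgroup.mem_subgroupOf.mp hd
  have hcardmap : ∀ L' : Subgroup H₀, Nat.card (L'.map H₀.subtype) = Nat.card L' :=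
    fun L' => Subgroup.card_map_of_injective H₀.subtype_injective
  -- Q is normal in H₀
  have hQn : (Q : Subgroup H₀).Normal := by
    rw [← Subgroup.normalizer_eq_top_iff]
    have h1 := hmin' _ (hsupp _ hfrat)
    rw [hcardmap] at h1
    apply Subgroup.eq_top_of_card_eq
    apply le_antisymm (Subgroup.card_le_card_group _)
    exact h1
  -- Schur–Zassenhaus
  obtain ⟨C', hC'⟩ := Subgroup.exists_right_complement'_of_coprime (N := (Q : Subgroup H₀))
    Q.card_coprime_index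
  have hC'D : C' ⊔ D = ⊤ := by
    rw [eq_top_iff, ← hC'.sup_eq_top]
    apply sup_le _ le_sup_left
    exact hQD.trans le_sup_right
  have h3 := hmin' _ (hsupp _ hC'D)
  rw [hcardmap] at h3
  have h4 := hC'.card_mul_card
  -- card Q ≥ q
  have hQcard : q ∣ Nat.card (Q : Subgroup H₀) := by
    rw [Q.card_eq_multiplicity]
    have hpos : 0 < (Nat.card H₀).factorization q :=
      Nat.Prime.factorization_pos_of_dvd hq Nat.card_pos.ne' hqH
    exact dvd_pow_self q hpos.ne'
  have hQ2 : 2 ≤ Nat.card (Q : Subgroup H₀) :=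
    le_trans hq.two_le (Nat.le_of_dvd Nat.card_pos hQcard)
  have hCpos : 0 < Nat.card C' := Nat.card_pos
  nlinarith

theorem result {G : Type*} [Group G] [Finite G] (N M : Subgroup G) [N.Normal] [M.Normal] (hMN : M ≤ N) (hM1 : M ≠ ⊥) (hN2 : N ≠ ⊤)
    (hcam : ∀ g : G, g ∉ N → ∀ m ∈ M, ∃ x : G, x * g * x⁻¹ = g * m) :
    ((∀ x ∈ M, x ≠ 1 → Subgroup.centralizer ({x} : Set G) ≤ N) ↔ N.index.Coprime (Nat.card M)) ∧
    ((∀ x ∈ M, x ≠ 1 → Subgroup.centralizer ({x} : Set G) ≤ N) → ∃ H : Subgroup G, H ⊔ N = ⊤ ∧ H ⊓ M = ⊥) := by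
  refine ⟨⟨one_imp_two N M, two_imp_one N M hcam⟩, ?_⟩
  intro h1
  exact exists_supplement N M (one_imp_two N M h1)

end Cfsg.Agent.S4112
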