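import Mathlib
import Cfsg.Statements.S4113

set_option autoImplicit false
open Cfsg

namespace Cfsg.Agent.S4113

theorem decomp_left {G : Type*} [Group G] (H M : Subgroup G) [M.Normal] (hHM : H ⊔ M = ⊤) (g : G) :
    ∃ h ∈ H, ∃ m ∈ M, g = h * m := by
  have hg : g ∈ ((H ⊔ M : Subgroup G) : Set G) := by rw [hHM]; trivial
  rw [Subgroup.mul_normal] at hg
  obtain ⟨h, hh, m, hm, rfl⟩ := Set.mem_mul.mp hg
  exact ⟨h, hh, m, hm, rfl⟩

theorem decomp_right {G : Type*} [Group G] (H M : Subgroup G) [M.Normal] (hHM : H ⊔ M = ⊤) (g : G) :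
    ∃ m ∈ M, ∃ h ∈ H, g = m * h := by
  have hg : g ∈ ((M ⊔ H : Subgroup G) : Set G) := by rw [sup_comm, hHM]; trivial
  rw [Subgroup.normal_mul] at hg
  obtain ⟨m, hm, h, hh, rfl⟩ := Set.mem_mul.mp hg
  exact ⟨m, hm, h, hh, rfl⟩

theorem result {G : Type*} [Group G] [Finite G] (N M : Subgroup G) [N.Normal] [M.Normal] (hMN : M ≤ N) (hM1 : M ≠ ⊥) (hN2 : N ≠ ⊤)
    (H : Subgroup G) (hHM : H ⊔ M = ⊤) (hHM' : H ⊓ M = ⊥) :
    (∀ x ∈ M, x ≠ 1 → Subgroup.centralizer ({x} : Set G) ≤ N) ↔
      (H ≠ ⊥ ∧ H ≠ ⊤ ∧ H ⊓ N < H ∧ ∀ g : G, g ∉ H → H ⊓ H.map (MulAut.conj g).toMonoidHom ≤ N) := by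
  have hdisj : ∀ z : G, z ∈ H → z ∈ M → z = 1 := by
    intro z hz1 hz2
    have : z ∈ H ⊓ M := ⟨hz1, hz2⟩
    rw [hHM'] at this
    exact Subgroup.mem_bot.mp this
  constructor
  · intro hC
    refine ⟨?_, ?_, ?_, ?_⟩
    · intro hH
      rw [hH, bot_sup_eq] at hHM
      exact hN2 (top_le_iff.mp (hHM ▸ hMN))
    · intro hH
      rw [hH, top_inf_eq] at hHM'
      exact hM1 hHM'
    · refine lt_of_le_of_ne inf_le_left ?_
      intro hEq
      have hHN : H ≤ N := by
        intro z hz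
        have : z ∈ H ⊓ N := by rw [hEq]; exact hz
        exact this.2
      apply hN2
      rw [eq_top_iff, ← hHM]
      exact sup_le hHN hMN
    · intro g hg y hy
      obtain ⟨hy1, hy2⟩ := hy
      obtain ⟨k, hk, hky⟩ := hy2
      obtain ⟨m, hm, h, hh, rfl⟩ := decomp_right H M hHM g
      have hm1 : m ≠ 1 := by
        rintro rfl
        apply hg
        simpa using hh
      -- y = m (h k h⁻¹) m⁻¹
      have hky' : m * (h * k * h⁻¹) * m⁻¹ = y := by
        rw [← hky]
        simp [MulAut.conj_apply, mul_assoc]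
      set k' := h * k * h⁻¹ with hk'def
      have hk' : k' ∈ H := H.mul_mem (H.mul_mem hh hk) (H.inv_mem hh)
      -- y⁻¹ * k' ∈ M ∩ H
      have hk'eq : k' = m⁻¹ * y * m := by
        rw [← hky']; group
      have h1 : y⁻¹ * k' ∈ M := by
        have : y⁻¹ * k' = (y⁻¹ * m⁻¹ * y⁻¹⁻¹) * m := by
          rw [hk'eq]; group
        rw [this]
        exact M.mul_mem (Subgroup.Normal.conj_mem inferInstance _ (M.inv_mem hm) _) hm
      have h2 : y⁻¹ * k' ∈ H := H.mul_mem (H.inv_mem hy1) hk'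
      have h3 : y⁻¹ * k' = 1 := hdisj _ h2 h1
      have h4 : k' = y := by
        have := congrArg (fun t => y * t) h3
        simpa using this
      have hcomm : m * y = y * m := by
        have : y = m⁻¹ * y * m := by rw [← hk'eq, h4]
        calc m * y = m * (m⁻¹ * y * m) := by rw [← this]
          _ = y * m := by group
      have : y ∈ Subgroup.centralizer ({m} : Set G) := by
        rw [Subgroup.mem_centralizer_iff]
        intro z hz
        rw [Set.mem_singleton_iff] at hz
        rw [hz]; exact hcomm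
      exact hC m hm hm1 this
  · rintro ⟨_, _, hlt, hF⟩ x hx hx1 c hc
    obtain ⟨h, hh, m', hm', rfl⟩ := decomp_left H M hHM c
    by_contra hcN
    have hhN : h ∉ N := by
      intro hhN
      exact hcN (N.mul_mem hhN (hMN hm'))
    -- C_M(h) = 1
    have hfpf : ∀ m ∈ M, m * h = h * m → m = 1 := by
      intro m hm hcm
      by_contra hm1
      have hmH : m ∉ H := fun hmH => hm1 (hdisj m hmH hm)
      have : h ∈ H ⊓ H.map (MulAut.conj m).toMonoidHom := by
        refine ⟨hh, h, hh, ?_⟩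
        simp only [MulEquiv.coe_toMonoidHom, MulAut.conj_apply]
        rw [hcm]; group
      exact hhN (hF m hmH this)
    -- the map φ
    let φ : ↥M → ↥M := fun m => ⟨(m : G)⁻¹ * (h * m * h⁻¹),
      M.mul_mem (M.inv_mem m.2) (Subgroup.Normal.conj_mem inferInstance _ m.2 _)⟩
    have hφinj : Function.Injective φ := by
      intro m1 m2 h12
      have h12' : (m1 : G)⁻¹ * (h * m1 * h⁻¹) = (m2 : G)⁻¹ * (h * m2 * h⁻¹) := congrArg Subtype.val h12
      have h5 : ((m2 : G) * (m1 : G)⁻¹) * h = h * ((m2 : G) * (m1 : G)⁻¹) := by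
        have h6 : (m1 : G)⁻¹ * h * m1 = (m2 : G)⁻¹ * h * m2 := by
          have := congrArg (fun t => t * h) h12'
          simpa [mul_assoc] using this
        calc ((m2 : G) * (m1 : G)⁻¹) * h = m2 * ((m1 : G)⁻¹ * h * m1) * (m1 : G)⁻¹ := by group
          _ = m2 * ((m2 : G)⁻¹ * h * m2) * (m1 : G)⁻¹ := by rw [h6]
          _ = h * ((m2 : G) * (m1 : G)⁻¹) := by group
      have h7 := hfpf _ (M.mul_mem m2.2 (M.inv_mem m1.2)) h5
      apply Subtype.ext
      have : (m2 : G) = m1 := by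
        have := congrArg (fun t => t * (m1 : G)) h7
        simpa using this
      exact this.symm
    have hφsurj : Function.Surjective φ := Finite.injective_iff_surjective.mp hφinj
    obtain ⟨m, hm⟩ := hφsurj ⟨h * m' * h⁻¹, Subgroup.Normal.conj_mem inferInstance _ hm' _⟩
    have hm_eq : (m : G)⁻¹ * (h * m * h⁻¹) = h * m' * h⁻¹ := congrArg Subtype.val hm
    have hc_eq : h * m' = (m : G)⁻¹ * h * m := by
      have := congrArg (fun t => t * h) hm_eq
      simp only [mul_assoc, inv_mul_cancel, mul_one] at this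
      rw [← mul_assoc] at this
      simpa [mul_assoc] using this.symm
    -- x' = m x m⁻¹ commutes with h
    have hcx : x * (h * m') = (h * m') * x := by
      rw [Subgroup.mem_centralizer_iff] at hc
      exact hc x rfl
    have h8 : ((m : G) * x * (m : G)⁻¹) * h = h * ((m : G) * x * (m : G)⁻¹) := by
      rw [hc_eq] at hcx
      calc ((m : G) * x * (m : G)⁻¹) * h = m * (x * ((m : G)⁻¹ * h * m)) * (m : G)⁻¹ := by group
        _ = m * (((m : G)⁻¹ * h * m) * x) * (m : G)⁻¹ := by rw [hcx]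
        _ = h * ((m : G) * x * (m : G)⁻¹) := by group
    have h9 := hfpf _ (Subgroup.Normal.conj_mem inferInstance _ hx _) h8
    apply hx1
    have := congrArg (fun t => (m : G)⁻¹ * t * m) h9
    simpa [mul_assoc] using this

end Cfsg.Agent.S4113
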