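import Mathlib
import Cfsg.Statements.S4115
import Cfsg.Agent.Lib_helper20_WielandtTI3

set_option autoImplicit false
set_option linter.style.haveILetI false
set_option linter.unusedVariables false
universe u
open Cfsg

namespace Cfsg.Agent.S4115

open Cfsg.Agent.helper20.WTI
open scoped Pointwise

/-- Let G be a finite group and H a subgroup that meets each of its conjugates by elements outside N_G(H) trivially and whose order is coprime to its index in N_G(H). Then H has a normal complement in N_G(H) if and only if H has a normal complement in G. Moreover, if H is not normal in G and has a normal complement in N_G(H), then H is isomorphic to a Frobenius complement of some finite Frobenius group. -/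
theorem result {G : Type u} [Group G] [Finite G] (H : Subgroup G)
    (hTI : Cfsg.IsTISubset (H : Set G)) (hHall : (Nat.card H).Coprime (H.subgroupOf (Subgroup.normalizer (H : Set G))).index) :
    ((∃ K : Subgroup (Subgroup.normalizer (H : Set G)), K.Normal ∧ K.IsComplement' (H.subgroupOf (Subgroup.normalizer (H : Set G)))) ↔
      (∃ N : Subgroup G, N.Normal ∧ N.IsComplement' H)) ∧
    (¬ H.Normal → (∃ K : Subgroup (Subgroup.normalizer (H : Set G)), K.Normal ∧ K.IsComplement' (H.subgroupOf (Subgroup.normalizer (H : Set G)))) →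
      ∃ (F : Type u) (_ : Group F) (_ : Finite F) (C : Subgroup F), Cfsg.IsFrobeniusComplement C ∧ Nonempty (H ≃* C)) := by
  refine ⟨⟨?_, ?_⟩, ?_⟩
  · rintro ⟨K', hK'n, hK'c⟩
    have hs := split_of_complement H (Subgroup.normalizer (H : Set G)) rfl hHall K' hK'n hK'c
    obtain ⟨M, hMn, _, hMc, _⟩ := exists_normal_complement hs hTI
    exact ⟨M, hMn, hMc⟩
  · rintro ⟨Nc, hNn, hNc⟩
    haveI := hNn
    refine ⟨Nc.subgroupOf (Subgroup.normalizer (H : Set G)),
      Subgroup.Normal.subgroupOf inferInstance _, ?_⟩
    apply Subgroup.isComplement'_of_disjoint_and_mul_eq_univ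
    · rw [Subgroup.disjoint_def]
      intro x hx1 hx2
      have h1 : (x : G) ∈ Nc ⊓ H :=
        Subgroup.mem_inf.mpr ⟨Subgroup.mem_subgroupOf.mp hx1, Subgroup.mem_subgroupOf.mp hx2⟩
      rw [hNc.disjoint.eq_bot, Subgroup.mem_bot] at h1
      exact Subtype.ext h1
    · rw [Set.eq_univ_iff_forall]
      intro n
      obtain ⟨⟨c, h⟩, hch⟩ := hNc.2 (n : G)
      have hch' : (c : G) * (h : G) = (n : G) := hch
      have hhN : (h : G) ∈ Subgroup.normalizer (H : Set G) := Subgroup.le_normalizer h.2
      have hcN : (c : G) ∈ Subgroup.normalizer (H : Set G) := by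
        have e : (c : G) = (n : G) * (h : G)⁻¹ := by rw [← hch']; group
        rw [e]
        exact Subgroup.mul_mem _ n.2 (Subgroup.inv_mem _ hhN)
      refine ⟨⟨(c : G), hcN⟩, Subgroup.mem_subgroupOf.mpr c.2, ⟨(h : G), hhN⟩,
        Subgroup.mem_subgroupOf.mpr h.2, ?_⟩
      exact Subtype.ext hch'
  · rintro hnn ⟨K', hK'n, hK'c⟩
    have hs := split_of_complement H (Subgroup.normalizer (H : Set G)) rfl hHall K' hK'n hK'c
    exact frobenius_complement_of_split hs hTI hnn

end Cfsg.Agent.S4115
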