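import Mathlib
import Cfsg.Statements.S4117

set_option autoImplicit false
open Cfsg
open scoped Pointwise

namespace Cfsg.Agent.S4117

section general

variable {G A : Type*} [Group G] [Group A] [MulDistribMulAction A G]

/-- the subgroup `[G, A]` -/
def KK (G A : Type*) [Group G] [Group A] [MulDistribMulAction A G] : Subgroup G :=
  Subgroup.closure {y : G | ∃ (a : A) (g : G), y = g⁻¹ * a • g}

theorem gen_mem (a : A) (g : G) : g⁻¹ * a • g ∈ KK G A :=
  Subgroup.subset_closure ⟨a, g, rfl⟩

theorem conj_mem_KK (h : G) (x : G) (hx : x ∈ KK G A) : h * x * h⁻¹ ∈ KK G A := by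
  induction hx using Subgroup.closure_induction with
  | mem x hx =>
    obtain ⟨a, g, rfl⟩ := hx
    have h1 : h * (g⁻¹ * a • g) * h⁻¹ =
        ((g * h⁻¹)⁻¹ * a • (g * h⁻¹)) * ((h⁻¹)⁻¹ * a • (h⁻¹))⁻¹ := by
      simp only [smul_mul', smul_inv']
      group
    rw [h1]
    exact Subgroup.mul_mem _ (gen_mem a _) (Subgroup.inv_mem _ (gen_mem a _))
  | one => simp
  | mul x y _ _ hx hy =>
    have : h * (x * y) * h⁻¹ = (h * x * h⁻¹) * (h * y * h⁻¹) := by group
    rw [this]; exact Subgroup.mul_mem _ hx hy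
  | inv x _ hx =>
    have : h * x⁻¹ * h⁻¹ = (h * x * h⁻¹)⁻¹ := by group
    rw [this]; exact Subgroup.inv_mem _ hx

theorem KK_normal : (KK G A).Normal := ⟨fun x hx h => conj_mem_KK h x hx⟩

theorem smul_mem_KK (b : A) (x : G) (hx : x ∈ KK G A) : b • x ∈ KK G A := by
  induction hx using Subgroup.closure_induction with
  | mem x hx =>
    obtain ⟨a, g, rfl⟩ := hx
    have h1 : b • (g⁻¹ * a • g) = (b • g)⁻¹ * (b * a * b⁻¹) • (b • g) := by
      simp only [smul_mul', smul_inv', mul_smul, inv_smul_smul]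
    rw [h1]
    exact gen_mem _ _
  | one => simp
  | mul x y _ _ hx hy =>
    rw [smul_mul']; exact Subgroup.mul_mem _ hx hy
  | inv x _ hx =>
    rw [smul_inv']; exact Subgroup.inv_mem _ hx

theorem smul_mem_commutator (a : A) (d : G) (hd : d ∈ commutator G) : a • d ∈ commutator G := by
  have hchar : (commutator G).Characteristic := inferInstance
  have h := hchar.fixed (MulDistribMulAction.toMulAut A G a)
  have h2 : d ∈ (commutator G).comap (MulDistribMulAction.toMulAut A G a).toMonoidHom := by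
    rw [h]; exact hd
  exact h2

theorem gen_centralizes [IsCyclic (commutator G)] (a : A) (g d : G) (hd : d ∈ commutator G) :
    (g⁻¹ * a • g) * d = d * (g⁻¹ * a • g) := by
  have hN : (commutator G).Normal := inferInstance
  obtain ⟨m, hm⟩ := MonoidHom.map_cyclic (MulAut.conjNormal (a • g) : MulAut (commutator G)).toMonoidHom
  have hm' : ∀ e : G, e ∈ commutator G → (a • g) * e * (a • g)⁻¹ = e ^ m := by
    intro e he
    have := congrArg Subtype.val (hm ⟨e, he⟩)
    simpa using this
  have h1 := hm' (a • d) (smul_mem_commutator a d hd)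
  have h2 : a • (g * d * g⁻¹) = a • (d ^ m) := by
    rw [smul_zpow', ← h1]
    simp only [smul_mul', smul_inv']
  have h3 : g * d * g⁻¹ = d ^ m := MulAction.injective a h2
  have h4 := hm' d hd
  have h5 : g * d * g⁻¹ = (a • g) * d * (a • g)⁻¹ := by rw [h3, h4]
  calc (g⁻¹ * a • g) * d = g⁻¹ * ((a • g) * d * (a • g)⁻¹) * (a • g) := by group
    _ = g⁻¹ * (g * d * g⁻¹) * (a • g) := by rw [h5]
    _ = d * (g⁻¹ * a • g) := by group

theorem KK_le_centralizer [IsCyclic (commutator G)] :
    KK G A ≤ Subgroup.centralizer (commutator G : Set G) := by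
  unfold KK
  rw [Subgroup.closure_le]
  rintro x ⟨a, g, rfl⟩
  rw [SetLike.mem_coe, Subgroup.mem_centralizer_iff]
  intro d hd
  exact (gen_centralizes a g d hd).symm

theorem KK_comm [IsCyclic (commutator G)] [IsCyclic (Abelianization G)] (x y : KK G A) :
    x * y = y * x := by
  have hc : IsMulCommutative (KK G A) := by
    apply MonoidHom.isMulCommutative_of_isCyclic_of_ker_le_center
      ((Abelianization.of).comp (KK G A).subtype)
    intro z hz
    rw [MonoidHom.mem_ker, MonoidHom.comp_apply, ← MonoidHom.mem_ker, Abelianization.ker_of] at hz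
    rw [Subgroup.mem_center_iff]
    intro k
    have hk := KK_le_centralizer (G := G) (A := A) k.2
    rw [Subgroup.mem_centralizer_iff] at hk
    exact Subtype.ext (hk _ hz).symm
  exact hc.is_comm.comm x y

end general

section abstract

variable {K A : Type*} [CommGroup K] [Group A] [Fintype A] [MulDistribMulAction A K]

theorem norm_cocycle (c : A → K) (hc : ∀ a b, a • c b = (c a)⁻¹ * c (a * b)) (a : A) :
    ∏ b : A, b • c a = 1 := by
  simp_rw [hc]
  rw [Finset.prod_mul_distrib, Finset.prod_inv_distrib]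
  have : ∏ b : A, c (b * a) = ∏ b : A, c b :=
    Fintype.prod_equiv (Equiv.mulRight a) _ _ (fun b => rfl)
  rw [this, inv_mul_cancel]

theorem smul_prod_cocycle (c : A → K) (hc : ∀ a b, a • c b = (c a)⁻¹ * c (a * b)) (a : A) :
    a • ∏ b : A, c b = ((c a)⁻¹) ^ (Fintype.card A) * ∏ b : A, c b := by
  rw [Finset.smul_prod']
  simp_rw [hc]
  rw [Finset.prod_mul_distrib, Finset.prod_const, Finset.card_univ]
  congr 1
  exact Fintype.prod_equiv (Equiv.mulLeft a) _ _ (fun b => rfl)

/-- the norm map -/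
theorem norm_mul (x y : K) : ∏ b : A, b • (x * y) = (∏ b : A, b • x) * ∏ b : A, b • y := by
  simp_rw [smul_mul']
  rw [Finset.prod_mul_distrib]

theorem norm_inv (x : K) : ∏ b : A, b • x⁻¹ = (∏ b : A, b • x)⁻¹ := by
  simp_rw [smul_inv']
  rw [Finset.prod_inv_distrib]

end abstract

theorem mem_zpowers_of_orderOf_eq {P : Type*} [Group P] [Finite P] [IsCyclic P] (u v : P)
    (h : orderOf v = orderOf u) : v ∈ Subgroup.zpowers u := by
  classical
  have := Fintype.ofFinite P
  have hn : 0 < orderOf u := orderOf_pos u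
  have hS := IsCyclic.card_pow_eq_one_le (α := P) hn
  have hsub : (Subgroup.zpowers u : Set P) ⊆ {a : P | a ^ orderOf u = 1} := by
    intro a ha
    obtain ⟨k, rfl⟩ := ha
    show (u ^ k) ^ orderOf u = 1
    rw [← zpow_natCast, ← zpow_mul, mul_comm, zpow_mul, zpow_natCast, pow_orderOf_eq_one, one_zpow]
  have hcard : ({a : P | a ^ orderOf u = 1} : Set P).ncard ≤ (Subgroup.zpowers u : Set P).ncard := by
    have h1 : (Subgroup.zpowers u : Set P).ncard = orderOf u := by
      rw [← Nat.card_zpowers]; rfl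
    rw [h1]
    have h2 : ({a : P | a ^ orderOf u = 1} : Set P).ncard =
        (Finset.univ.filter (fun a : P => a ^ orderOf u = 1)).card := by
      rw [← Set.ncard_coe_finset]
      congr 1
      ext a
      simp
    rw [h2]
    exact hS
  have heq := Set.eq_of_subset_of_ncard_le hsub hcard (Set.toFinite _)
  have hv : v ∈ ({a : P | a ^ orderOf u = 1} : Set P) := by
    show v ^ orderOf u = 1
    rw [← h]; exact pow_orderOf_eq_one v
  rw [← heq] at hv
  exact hv

section main

variable {G A : Type*} [Group G] [Finite G] [Group A] [Finite A] [MulDistribMulAction A G]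

theorem main (hcop : (Nat.card A).Coprime (Nat.card G))
    (hcyc : ∀ (p : ℕ) [Fact p.Prime] (P : Sylow p G), IsCyclic (P : Subgroup G)) :
    IsCyclic (KK G A) ∧ (∀ x ∈ KK G A, x ∈ MulAction.fixedPoints A G → x = 1) ∧
    ∀ g : G, ∃ k ∈ KK G A, g * k ∈ MulAction.fixedPoints A G := by
  classical
  have := Fintype.ofFinite A
  have hZ : IsZGroup G := ⟨fun p hp P => by have := Fact.mk hp; exact hcyc p P⟩
  have hD : IsCyclic (commutator G) := IsZGroup.isCyclic_commutator G
  have hAb : IsCyclic (Abelianization G) := inferInstance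
  have hcomm : ∀ x y : KK G A, x * y = y * x := KK_comm
  let instCG : CommGroup (KK G A) := { (inferInstance : Group (KK G A)) with mul_comm := hcomm }
  have hcycK : IsCyclic (KK G A) := by
    have : Group.IsNilpotent (KK G A) := CommGroup.isNilpotent
    infer_instance
  let instAct : MulDistribMulAction A (KK G A) :=
    { smul := fun a k => ⟨a • (k : G), smul_mem_KK a (k : G) k.2⟩
      one_smul := fun k => Subtype.ext (one_smul A (k : G))
      mul_smul := fun a b k => Subtype.ext (mul_smul a b (k : G))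
      smul_mul := fun a k l => Subtype.ext (smul_mul' a (k : G) (l : G))
      smul_one := fun a => Subtype.ext (smul_one a) }
  have hcopA : Nat.Coprime (Fintype.card A) (Nat.card G) := by
    rw [← Nat.card_eq_fintype_card]; exact hcop
  have key : ∀ g : G, ∃ c : A → KK G A, (∀ b, (c b : G) = g⁻¹ * b • g) ∧
      ∀ a b, a • c b = (c a)⁻¹ * c (a * b) := by
    intro g
    refine ⟨fun b => ⟨g⁻¹ * b • g, gen_mem b g⟩, fun b => rfl, ?_⟩
    intro a b
    apply Subtype.ext
    show a • (g⁻¹ * b • g) = (g⁻¹ * a • g)⁻¹ * (g⁻¹ * (a * b) • g)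
    simp only [smul_mul', smul_inv', mul_smul]
    group
  have hnorm : ∀ x : G, ∀ hx : x ∈ KK G A, ∏ b : A, b • (⟨x, hx⟩ : KK G A) = 1 := by
    intro x hx
    induction hx using Subgroup.closure_induction with
    | mem x hx =>
      obtain ⟨a, g, rfl⟩ := hx
      obtain ⟨c, hc1, hc2⟩ := key g
      have : (⟨g⁻¹ * a • g, gen_mem a g⟩ : KK G A) = c a := Subtype.ext (hc1 a).symm
      rw [this]; exact norm_cocycle c hc2 a
    | one =>
      have : (⟨1, Subgroup.one_mem _⟩ : KK G A) = 1 := rfl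
      rw [this]
      simp
    | mul x y hx hy ihx ihy =>
      have : (⟨x * y, Subgroup.mul_mem _ hx hy⟩ : KK G A) = ⟨x, hx⟩ * ⟨y, hy⟩ := rfl
      rw [this, norm_mul, ihx, ihy, one_mul]
    | inv x hx ih =>
      have : (⟨x⁻¹, Subgroup.inv_mem _ hx⟩ : KK G A) = (⟨x, hx⟩ : KK G A)⁻¹ := rfl
      rw [this, norm_inv, ih, inv_one]
  refine ⟨hcycK, ?_, ?_⟩
  · intro x hxK hxC
    have h1 := hnorm x hxK
    have h2 : ∀ b : A, b • (⟨x, hxK⟩ : KK G A) = ⟨x, hxK⟩ := fun b => Subtype.ext (hxC b)
    simp_rw [h2] at h1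
    rw [Finset.prod_const, Finset.card_univ] at h1
    have h3 : x ^ Fintype.card A = 1 := by
      have := congrArg Subtype.val h1
      simpa using this
    have h4 : orderOf x ∣ Fintype.card A := orderOf_dvd_of_pow_eq_one h3
    have h5 : orderOf x ∣ Nat.card G := orderOf_dvd_natCard x
    have h6 := Nat.dvd_gcd h4 h5
    rw [hcopA.gcd_eq_one, Nat.dvd_one, orderOf_eq_one_iff] at h6
    exact h6
  · intro g
    obtain ⟨c, hc1, hc2⟩ := key g
    have hNpos : 0 < Nat.card G := Nat.card_pos
    have hphi : 0 < Nat.totient (Nat.card G) := Nat.totient_pos.mpr hNpos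
    have hmod : Fintype.card A * (Fintype.card A) ^ (Nat.totient (Nat.card G) - 1) ≡ 1
        [MOD Nat.card G] := by
      rw [← pow_succ', Nat.sub_add_cancel hphi]
      exact Nat.ModEq.pow_totient hcopA
    set n' := (Fintype.card A) ^ (Nat.totient (Nat.card G) - 1) with hn'
    set k0 : KK G A := ∏ b : A, c b with hk0
    refine ⟨((k0 ^ n' : KK G A) : G), (k0 ^ n').2, ?_⟩
    intro a
    have h1 := smul_prod_cocycle c hc2 a
    have hpowN : ∀ y : KK G A, y ^ Nat.card G = 1 := by
      intro y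
      apply Subtype.ext
      rw [Subgroup.coe_pow]
      exact pow_card_eq_one'
    have h2 : a • (k0 ^ n') = (c a)⁻¹ * k0 ^ n' := by
      rw [smul_pow', h1, mul_pow, ← pow_mul]
      congr 1
      have hord : orderOf (c a)⁻¹ ∣ Nat.card G := orderOf_dvd_of_pow_eq_one (hpowN _)
      have := (pow_eq_pow_iff_modEq (x := (c a)⁻¹)).mpr (hmod.of_dvd hord)
      rw [this, pow_one]
    have h3 : a • ((k0 ^ n' : KK G A) : G) = (((c a)⁻¹ * k0 ^ n' : KK G A) : G) :=
      congrArg Subtype.val h2
    rw [smul_mul', h3, Subgroup.coe_mul, Subgroup.coe_inv, hc1]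
    group

theorem hall_aux (hcyc : ∀ (p : ℕ) [Fact p.Prime] (P : Sylow p G), IsCyclic (P : Subgroup G))
    (K C : Subgroup G) [K.Normal] (hKC : ∀ x ∈ K, x ∈ C → x = 1) :
    (Nat.card C).Coprime (Nat.card K) := by
  rw [Nat.coprime_iff_gcd_eq_one]
  by_contra hne
  obtain ⟨p, hp, hpd⟩ := Nat.exists_prime_and_dvd hne
  have hpC : p ∣ Nat.card C := dvd_trans hpd (Nat.gcd_dvd_left _ _)
  have hpK : p ∣ Nat.card K := dvd_trans hpd (Nat.gcd_dvd_right _ _)
  have : Fact p.Prime := ⟨hp⟩
  obtain ⟨y, hy⟩ := exists_prime_orderOf_dvd_card' p hpC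
  obtain ⟨x, hx⟩ := exists_prime_orderOf_dvd_card' p hpK
  have hyo : orderOf (y : G) = p := by rw [Subgroup.orderOf_coe, hy]
  have hxo : orderOf (x : G) = p := by rw [Subgroup.orderOf_coe, hx]
  have hyP : IsPGroup p (Subgroup.zpowers (y : G)) := by
    apply IsPGroup.of_card (n := 1); rw [Nat.card_zpowers, hyo, pow_one]
  have hxP : IsPGroup p (Subgroup.zpowers (x : G)) := by
    apply IsPGroup.of_card (n := 1); rw [Nat.card_zpowers, hxo, pow_one]
  obtain ⟨P, hP⟩ := hyP.exists_le_sylow
  obtain ⟨P', hP'⟩ := hxP.exists_le_sylow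
  obtain ⟨g, hg⟩ := MulAction.exists_smul_eq G P' P
  have hx'P : g * (x : G) * g⁻¹ ∈ (P : Subgroup G) := by
    rw [← hg, Sylow.coe_subgroup_smul, Subgroup.mem_pointwise_smul_iff_inv_smul_mem]
    have : (MulAut.conj g)⁻¹ • (g * (x : G) * g⁻¹) = (x : G) := by
      simp [MulAut.smul_def]
      group
    rw [this]
    exact hP' (Subgroup.mem_zpowers _)
  have hyP' : (y : G) ∈ (P : Subgroup G) := hP (Subgroup.mem_zpowers _)
  have hx'K : g * (x : G) * g⁻¹ ∈ K := ‹K.Normal›.conj_mem _ x.2 g
  have hx'o : orderOf (g * (x : G) * g⁻¹) = p := by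
    have := MulEquiv.orderOf_eq (MulAut.conj g) (x : G)
    rw [← hxo, ← this]; rfl
  have hPc : IsCyclic (P : Subgroup G) := hcyc p P
  have hmem := mem_zpowers_of_orderOf_eq (P := (P : Subgroup G)) ⟨_, hx'P⟩ ⟨_, hyP'⟩
    (by rw [Subgroup.orderOf_mk, Subgroup.orderOf_mk, hyo, hx'o])
  obtain ⟨k, hk⟩ := hmem
  have hk' : (g * (x : G) * g⁻¹) ^ k = (y : G) := by
    have := congrArg Subtype.val hk
    simpa using this
  have hyK : (y : G) ∈ K := by rw [← hk']; exact Subgroup.zpow_mem _ hx'K k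
  have hy1 : (y : G) = 1 := hKC _ hyK y.2
  rw [hy1, orderOf_one] at hyo
  exact hp.one_lt.ne hyo

end main

theorem result {G A : Type*} [Group G] [Finite G] [Group A] [Finite A]
    [MulDistribMulAction A G] (hcop : (Nat.card A).Coprime (Nat.card G))
    (hcyc : ∀ (p : ℕ) [Fact p.Prime] (P : Sylow p G), IsCyclic (P : Subgroup G)) :
    (Nat.card (MulAction.fixedPoints A G : Set G)).Coprime (Nat.card G / Nat.card (MulAction.fixedPoints A G : Set G)) ∧
    IsCyclic (Subgroup.closure {y : G | ∃ (a : A) (g : G), y = g⁻¹ * a • g}) ∧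
    (Subgroup.closure {y : G | ∃ (a : A) (g : G), y = g⁻¹ * a • g}).Normal ∧
    (Subgroup.closure {y : G | ∃ (a : A) (g : G), y = g⁻¹ * a • g} : Set G) ∩ MulAction.fixedPoints A G = {1} ∧
    Subgroup.closure {y : G | ∃ (a : A) (g : G), y = g⁻¹ * a • g} ⊔ Subgroup.closure (MulAction.fixedPoints A G) = ⊤ := by
  obtain ⟨hcycK, h4, h5⟩ := main hcop hcyc
  have hK : KK G A = Subgroup.closure {y : G | ∃ (a : A) (g : G), y = g⁻¹ * a • g} := rfl
  rw [← hK]
  have hKn : (KK G A).Normal := KK_normal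
  have hCset : (FixedPoints.subgroup A G : Set G) = MulAction.fixedPoints A G := rfl
  have hcardC : Nat.card (MulAction.fixedPoints A G : Set G) = Nat.card (FixedPoints.subgroup A G) := rfl
  have hdisj : Disjoint (KK G A) (FixedPoints.subgroup A G) := by
    rw [Subgroup.disjoint_def]
    intro x hxK hxC
    exact h4 x hxK hxC
  have hmul : ((KK G A : Subgroup G) : Set G) * ((FixedPoints.subgroup A G : Subgroup G) : Set G) =
      Set.univ := by
    rw [Set.eq_univ_iff_forall]
    intro g
    obtain ⟨k, hk, hgk⟩ := h5 g⁻¹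
    refine ⟨k, hk, (g⁻¹ * k)⁻¹, ?_, by group⟩
    exact Subgroup.inv_mem (FixedPoints.subgroup A G) hgk
  have hcompl := Subgroup.isComplement'_of_disjoint_and_mul_eq_univ hdisj hmul
  have hcm := hcompl.card_mul_card
  refine ⟨?_, hcycK, hKn, ?_, ?_⟩
  · rw [hcardC]
    have hdiv : Nat.card G / Nat.card (FixedPoints.subgroup A G) = Nat.card (KK G A) := by
      rw [← hcm]; exact Nat.mul_div_cancel _ Nat.card_pos
    rw [hdiv]
    exact hall_aux hcyc (KK G A) (FixedPoints.subgroup A G) h4
  · ext x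
    simp only [Set.mem_inter_iff, SetLike.mem_coe, Set.mem_singleton_iff]
    constructor
    · rintro ⟨hxK, hxC⟩
      exact h4 x hxK hxC
    · rintro rfl
      exact ⟨Subgroup.one_mem _, fun b => smul_one b⟩
  · rw [← hCset, Subgroup.closure_eq]
    rw [eq_top_iff]
    intro g _
    have : g ∈ ((KK G A ⊔ FixedPoints.subgroup A G : Subgroup G) : Set G) := by
      rw [Subgroup.normal_mul, hmul]; trivial
    exact this

end Cfsg.Agent.S4117
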