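import Mathlib
import Cfsg.Statements.S4126
import Cfsg.Agent.Lib_helper21_PPowerClass
import Cfsg.Agent.Lib_helper19_HH2
import Cfsg.Agent.Lib_helper3_NilAct
import Cfsg.Agent.S0071

set_option autoImplicit false
open Cfsg

namespace Cfsg.Agent.S4126

open scoped commutatorElement

/-- If every element of order p (and of order 4 when p = 2) has conjugacy class size a power of p, then G has a normal p-complement. -/
theorem result {G : Type*} [Group G] [Finite G] (p : ℕ) [Fact p.Prime]
    (h : ∀ x : G, (orderOf x = p ∨ (p = 2 ∧ orderOf x = 4)) → ∃ a : ℕ, (Subgroup.centralizer ({x} : Set G)).index = p ^ a) :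
    Cfsg.HasNormalPComplement p G := by
  have hp : p.Prime := Fact.out
  obtain ⟨P⟩ : Nonempty (Sylow p G) := inferInstance
  suffices hcrit : ∀ Q : Subgroup G, Q ≤ (P : Subgroup G) →
      ∀ g ∈ Subgroup.normalizer (Q : Set G), Nat.Coprime (orderOf g) p →
        g ∈ Subgroup.centralizer (Q : Set G) by
    obtain ⟨N, hN, hc⟩ := (Cfsg.Agent.S0071.result P).mpr hcrit
    exact ⟨P, N, hN, hc⟩
  intro Q hQP g hgN hgcop
  by_contra hgC
  set A : Subgroup G := Subgroup.zpowers g with hA
  have hAcard : (Nat.card A).Coprime p := by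
    rw [hA, Nat.card_zpowers]; exact hgcop
  -- the family of counterexamples
  let S : Subgroup G → Prop := fun U =>
    U ≤ Q ∧ A ≤ Subgroup.normalizer (U : Set G) ∧ ⁅U, A⁆ ≠ ⊥
  have hQS : S Q := by
    refine ⟨le_rfl, ?_, ?_⟩
    · rw [hA, Subgroup.zpowers_le]; exact hgN
    · intro hbot
      rw [Subgroup.commutator_eq_bot_iff_le_centralizer] at hbot
      apply hgC
      have : A ≤ Subgroup.centralizer (Q : Set G) := Subgroup.le_centralizer_iff.mp hbot
      exact this (Subgroup.mem_zpowers g)
  obtain ⟨R, hR⟩ := exists_minimal_of_wellFoundedLT S ⟨Q, hQS⟩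
  obtain ⟨⟨hRQ, hAR, hRA⟩, hRmin⟩ := hR
  have hRP : R ≤ (P : Subgroup G) := hRQ.trans hQP
  have hRp : IsPGroup p R := P.isPGroup'.to_le hRP
  have hmin : ∀ U : Subgroup G, U < R → A ≤ Subgroup.normalizer (U : Set G) → ⁅U, A⁆ = ⊥ := by
    intro U hU hAU
    by_contra hne
    have hUS : S U := ⟨hU.le.trans hRQ, hAU, hne⟩
    exact absurd (hRmin hUS hU.le) (not_le_of_gt hU)
  obtain ⟨hcomm, hstruct, _, hexp⟩ :=
    Cfsg.Agent.helper19.hall_higman_reduction A A R hRp hAR le_rfl Subgroup.le_normalizer hAcard hRA hmin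
  -- every nontrivial element of R has order p, or order 4 with p = 2
  have hord : ∀ x ∈ R, x ≠ 1 → (orderOf x = p ∨ (p = 2 ∧ orderOf x = 4)) := by
    intro x hx hx1
    by_cases hp2 : p = 2
    · have hx4 : x ^ 4 = 1 := by
        rcases hstruct with hel | hsp
        · have := hel.2 x hx
          rw [hp2] at this
          calc x ^ 4 = (x ^ 2) ^ 2 := by rw [← pow_mul]
            _ = 1 := by rw [this, one_pow]
        · obtain ⟨hT, hfr, hco⟩ := hsp
          rw [hp2] at hT
          have := Cfsg.Agent.helper21.pow_four_eq_one_of_special hT hfr hco ⟨x, hx⟩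
          have h2 := congrArg Subtype.val this
          simpa using h2
      have hdvd : orderOf x ∣ 2 ^ 2 := orderOf_dvd_of_pow_eq_one (by norm_num; exact hx4)
      obtain ⟨k, hk, hko⟩ := (Nat.dvd_prime_pow Nat.prime_two).mp hdvd
      have hk0 : k ≠ 0 := by
        intro h0
        rw [h0, pow_zero, orderOf_eq_one_iff] at hko
        exact hx1 hko
      have : k = 1 ∨ k = 2 := by omega
      rcases this with rfl | rfl
      · left; rw [hko, hp2]; norm_num
      · right; exact ⟨hp2, by rw [hko]; norm_num⟩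
    · left
      exact orderOf_eq_prime (hexp hp2 x hx) hx1
  -- hence R ≤ ⁅R, P⁆
  have hle : R ≤ ⁅R, (P : Subgroup G)⁆ := by
    have h1 : ⁅R, A⁆ ≤ ⁅R, (P : Subgroup G)⁆ := by
      rw [Subgroup.commutator_le]
      intro r hr y _
      by_cases hr1 : r = 1
      · rw [hr1, commutatorElement_one_left]; exact Subgroup.one_mem _
      · obtain ⟨a, ha⟩ := h r (hord r hr hr1)
        obtain ⟨u, hu, huy⟩ :=
          Cfsg.Agent.helper21.exists_conj_eq_of_index_centralizer P r ha y
        have : ⁅r, y⁆ = ⁅r, u⁆ := by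
          rw [commutatorElement_def, commutatorElement_def]
          calc r * y * r⁻¹ * y⁻¹ = r * (y * r * y⁻¹)⁻¹ := by group
            _ = r * (u * r * u⁻¹)⁻¹ := by rw [huy]
            _ = r * u * r⁻¹ * u⁻¹ := by group
        rw [this]
        exact Subgroup.commutator_mem_commutator hr hu
    rw [hcomm] at h1
    exact h1
  have hnil : Group.IsNilpotent ↥(P : Subgroup G) := P.isPGroup'.isNilpotent
  have hbot : R = ⊥ := Cfsg.Agent.helper3.eq_bot_of_le_commutator_nilpotent hnil hRP hle
  apply hRA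
  rw [hbot]
  exact Subgroup.commutator_bot_left _

end Cfsg.Agent.S4126
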