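import Mathlib
import Cfsg.Statements.S4127
import Cfsg.Agent.Lib_helper21_Camina
import Cfsg.Agent.Lib_helper21_PPowerClass
import Cfsg.Agent.Lib_helper7_PQ
import Cfsg.Agent.Lib_helper1_Core

set_option autoImplicit false
open Cfsg

namespace Cfsg.Agent.S4127

open scoped Pointwise

/-- commuting elements of coprime order: the centralizer of the product lies in both
centralizers. -/
theorem centralizer_mul_le {G : Type*} [Group G] [Finite G] {x y : G} (hxy : x * y = y * x)
    (hcop : (orderOf x).Coprime (orderOf y)) :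
    Subgroup.centralizer ({x * y} : Set G) ≤
      Subgroup.centralizer ({x} : Set G) ⊓ Subgroup.centralizer ({y} : Set G) := by
  have hc : Commute x y := hxy
  intro g hg
  rw [Subgroup.mem_centralizer_singleton_iff] at hg
  have hgw : Commute g (x * y) := hg
  have hpow : ∀ n : ℕ, Commute g ((x * y) ^ n) := fun n => hgw.pow_right n
  rw [Subgroup.mem_inf]
  refine ⟨?_, ?_⟩
  · rw [Subgroup.mem_centralizer_singleton_iff]
    obtain ⟨m, hm⟩ := exists_pow_eq_self_of_coprime (x := x) (n := orderOf y) hcop.symm
    have h1 : (x * y) ^ (orderOf y) = x ^ (orderOf y) := by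
      rw [hc.mul_pow, pow_orderOf_eq_one, mul_one]
    have := (hpow (orderOf y)).pow_right m
    rw [h1, hm] at this
    exact this
  · rw [Subgroup.mem_centralizer_singleton_iff]
    obtain ⟨m, hm⟩ := exists_pow_eq_self_of_coprime (x := y) (n := orderOf x) hcop
    have h1 : (x * y) ^ (orderOf x) = y ^ (orderOf x) := by
      rw [hc.mul_pow, pow_orderOf_eq_one, one_mul]
    have := (hpow (orderOf x)).pow_right m
    rw [h1, hm] at this
    exact this

/-- If p^a is the largest power of p dividing a class size and some p-element has class size exactly p^a, then G has a normal p-complement. -/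
theorem result {G : Type*} [Group G] [Finite G] (p : ℕ) [Fact p.Prime]
    (a : ℕ) (hmax : ∀ y : G, ¬ p ^ (a + 1) ∣ (Subgroup.centralizer ({y} : Set G)).index)
    (hx : ∃ x : G, (∃ k : ℕ, orderOf x = p ^ k) ∧ (Subgroup.centralizer ({x} : Set G)).index = p ^ a) :
    Cfsg.HasNormalPComplement p G := by
  have hp : p.Prime := Fact.out
  obtain ⟨x, ⟨kx, hxk⟩, hxa⟩ := hx
  set C : Subgroup G := Subgroup.centralizer ({x} : Set G) with hC
  -- Step 1: Camina's hypothesis in `C`
  have hyp : ∀ y : C, (orderOf y).Coprime p →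
      ¬ p ∣ (Subgroup.centralizer ({y} : Set C)).index := by
    intro y hy hdvd
    have hcy : Subgroup.centralizer ({y} : Set C)
        = (Subgroup.centralizer ({(y : G)} : Set G)).subgroupOf C := by
      ext z
      rw [Subgroup.mem_subgroupOf, Subgroup.mem_centralizer_singleton_iff,
        Subgroup.mem_centralizer_singleton_iff]
      constructor
      · intro h; exact_mod_cast congrArg Subtype.val h
      · intro h; exact Subtype.ext (by exact_mod_cast h)
    have hrel : (Subgroup.centralizer ({y} : Set C)).index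
        = (Subgroup.centralizer ({(y : G)} : Set G)).relIndex C := by
      rw [hcy]; rfl
    rw [hrel] at hdvd
    have hyC : (y : G) ∈ C := y.2
    have hxy : x * (y : G) = (y : G) * x :=
      ((Subgroup.mem_centralizer_singleton_iff).mp y.2).symm
    have hcop : (orderOf x).Coprime (orderOf (y : G)) := by
      rw [hxk, Subgroup.orderOf_coe]
      exact Nat.Coprime.pow_left kx ((Nat.coprime_comm).mp hy)
    have hle := centralizer_mul_le hxy hcop
    have hidx : (C ⊓ Subgroup.centralizer ({(y : G)} : Set G)).index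
        ∣ (Subgroup.centralizer ({x * (y : G)} : Set G)).index :=
      Subgroup.index_dvd_of_le hle
    have hprod : (C ⊓ Subgroup.centralizer ({(y : G)} : Set G)).index
        = (Subgroup.centralizer ({(y : G)} : Set G)).relIndex C * p ^ a := by
      rw [← Subgroup.relIndex_mul_index (inf_le_left : C ⊓ _ ≤ C), Subgroup.inf_relIndex_left,
        hxa]
    apply hmax (x * (y : G))
    refine dvd_trans ?_ hidx
    rw [hprod, pow_succ, mul_comm]
    exact Nat.mul_dvd_mul_right hdvd _
  obtain ⟨H', hH'n, hH'cop, ⟨k', hH'idx⟩, hH'p, hH'q⟩ :=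
    Cfsg.Agent.helper21.camina_direct_factor p hyp
  set H : Subgroup G := H'.map C.subtype with hH
  have hHC : H ≤ C := Subgroup.map_subtype_le _
  have hHcard : Nat.card H = Nat.card H' :=
    Nat.card_congr (H'.equivMapOfInjective C.subtype C.subtype_injective).toEquiv.symm
  have hHcop : (Nat.card H).Coprime p := by rw [hHcard]; exact hH'cop
  have hHidx : H.index = p ^ (k' + a) := by
    rw [hH, Subgroup.index_map_subtype, hH'idx, hxa, pow_add]
  have hHp : ∀ t ∈ C, (∃ k, orderOf t = p ^ k) → t ∈ Subgroup.centralizer (H : Set G) := by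
    intro t ht hto
    have h1 := hH'p ⟨t, ht⟩ (by rw [Subgroup.orderOf_mk]; exact hto)
    rw [Subgroup.mem_centralizer_iff] at h1 ⊢
    intro h hh
    obtain ⟨h', hh', rfl⟩ := Subgroup.mem_map.mp hh
    have h2 := congrArg (fun w : C => (w : G)) (h1 h' hh')
    simpa using h2
  have hHq : ∀ y ∈ C, (orderOf y).Coprime p → y ∈ H := by
    intro y hy hyo
    have := hH'q ⟨y, hy⟩ (by rw [Subgroup.orderOf_mk]; exact hyo)
    exact Subgroup.mem_map.mpr ⟨⟨y, hy⟩, this, rfl⟩
  -- Step 3: x ∈ O_p(G)
  set U : Subgroup G := ⨅ P : Sylow p G, (P : Subgroup G) with hU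
  have hUn : U.Normal := Cfsg.Agent.helper1.iInf_sylow_normal p
  have hUp : IsPGroup p U := Cfsg.Agent.helper1.iInf_sylow_isPGroup p
  have hxU : x ∈ U := by
    rw [hU, Subgroup.mem_iInf]
    intro P
    have hZ : IsPGroup p (Subgroup.zpowers x) := by
      rw [IsPGroup.iff_card, Nat.card_zpowers]; exact ⟨kx, hxk⟩
    obtain ⟨P1, hP1⟩ := hZ.exists_le_sylow
    have hx1 : x ∈ P1 := hP1 (Subgroup.mem_zpowers x)
    obtain ⟨c, hc⟩ := MulAction.exists_smul_eq G P1 P
    rw [← hc, Sylow.coe_subgroup_smul, Subgroup.mem_pointwise_smul_iff_inv_smul_mem,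
      MulAut.smul_def, MulAut.conj_inv_apply]
    obtain ⟨u, hu, huc⟩ :=
      Cfsg.Agent.helper21.exists_conj_eq_of_index_centralizer P1 x hxa c⁻¹
    rw [inv_inv] at huc
    rw [huc]
    exact (P1 : Subgroup G).mul_mem ((P1 : Subgroup G).mul_mem hu hx1) ((P1 : Subgroup G).inv_mem hu)
  -- Step 4: Thompson's lemma
  have hnormU : Subgroup.normalizer (U : Set G) = ⊤ := Subgroup.normalizer_eq_top_iff.mpr hUn
  have hHU : H ≤ Subgroup.centralizer (U : Set G) := by
    apply Cfsg.Agent.helper7.thompson_PxQ (p := p) (P := Subgroup.zpowers x) (Q := H) (U := U)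
    · rw [IsPGroup.iff_card, Nat.card_zpowers]; exact ⟨kx, hxk⟩
    · exact hHcop
    · exact hUp
    · rw [Subgroup.zpowers_le, Subgroup.mem_centralizer_iff]
      intro h hh
      have := hHC hh
      rw [hC, Subgroup.mem_centralizer_singleton_iff] at this
      exact this
    · rw [hnormU]; exact le_top
    · rw [hnormU]; exact le_top
    · intro z hz
      rw [Subgroup.mem_inf] at hz
      obtain ⟨hzU, hzx⟩ := hz
      have hzC : z ∈ C := by
        rw [hC, Subgroup.mem_centralizer_singleton_iff]
        rw [Subgroup.mem_centralizer_iff] at hzx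
        exact (hzx x (Subgroup.mem_zpowers x)).symm
      have hzo : ∃ k, orderOf z = p ^ k := by
        obtain ⟨k, hk⟩ := hUp ⟨z, hzU⟩
        have h1 : z ^ p ^ k = 1 := by
          have := congrArg (fun w : U => (w : G)) hk
          simpa using this
        obtain ⟨j, _, hj⟩ := (Nat.dvd_prime_pow hp).mp (orderOf_dvd_of_pow_eq_one h1)
        exact ⟨j, hj⟩
      exact hHp z hzC hzo
  -- Step 5: H is normal
  have hHn : H.Normal := by
    constructor
    intro h hh g
    have hcn : (Subgroup.centralizer (U : Set G)).Normal := inferInstance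
    have h1 : g * h * g⁻¹ ∈ Subgroup.centralizer (U : Set G) := hcn.conj_mem h (hHU hh) g
    have h2 : g * h * g⁻¹ ∈ C := by
      rw [hC, Subgroup.mem_centralizer_singleton_iff]
      rw [Subgroup.mem_centralizer_iff] at h1
      exact (h1 x hxU).symm
    apply hHq _ h2
    have ho : orderOf (g * h * g⁻¹) = orderOf h := by
      have := orderOf_injective (MulAut.conj g).toMonoidHom (MulAut.conj g).injective h
      simpa using this
    rw [ho]
    have : orderOf h ∣ Nat.card H := by
      have := orderOf_dvd_natCard (⟨h, hh⟩ : H)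
      rwa [Subgroup.orderOf_mk] at this
    exact Nat.Coprime.coprime_dvd_left this hHcop
  -- Step 6: conclusion
  obtain ⟨P⟩ : Nonempty (Sylow p G) := inferInstance
  refine ⟨P, H, hHn, ?_⟩
  have hcardG : Nat.card G = Nat.card H * p ^ (k' + a) := by
    rw [← hHidx]; exact (Subgroup.card_mul_index H).symm
  have hndvd : ¬ p ∣ Nat.card H := by
    intro h
    have := Nat.Coprime.eq_one_of_dvd (Nat.coprime_comm.mp hHcop) h
    exact hp.one_lt.ne' this
  have hfac : (Nat.card G).factorization p = k' + a := by
    rw [hcardG, Nat.factorization_mul Nat.card_pos.ne' (pow_pos hp.pos _).ne']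
    simp [Nat.factorization_eq_zero_of_not_dvd hndvd, hp.factorization_self]
  have hPcard : Nat.card (P : Subgroup G) = p ^ (k' + a) := by
    rw [P.card_eq_multiplicity, hfac]
  apply Subgroup.isComplement'_of_coprime
  · rw [hPcard, hcardG]
  · rw [hPcard]; exact Nat.Coprime.pow_right _ hHcop

end Cfsg.Agent.S4127
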