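import Mathlib
import Cfsg.Statements.S4134
import Cfsg.Agent.Lib_helper21_Ito

set_option autoImplicit false
set_option linter.style.haveILetI false
open Cfsg

namespace Cfsg.Agent.S4134

/-- Let G be a finite group in which every conjugacy class has size 1 or n, where n > 1 and some class has size n. Then n = pᵃ for a prime p, and G = P × N where P is a Sylow p-subgroup of G and N is abelian (in particular G is nilpotent); moreover P has an abelian normal subgroup A with P/A of exponent dividing p. -/
theorem result {G : Type*} [Group G] [Finite G] (n : ℕ) (hn : 1 < n)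
    (h : ∀ x : G, (Subgroup.centralizer ({x} : Set G)).index = 1 ∨ (Subgroup.centralizer ({x} : Set G)).index = n) (hex : ∃ x : G, (Subgroup.centralizer ({x} : Set G)).index = n) :
    ∃ (p : ℕ) (_ : Fact p.Prime) (a : ℕ), n = p ^ a ∧ ∀ P : Sylow p G, (P : Subgroup G).Normal ∧
      (∃ N : Subgroup G, N.Normal ∧ N.IsComplement' (P : Subgroup G) ∧ IsMulCommutative N ∧
        ∀ x ∈ N, ∀ y ∈ (P : Subgroup G), x * y = y * x) ∧
      ∃ A : Subgroup (P : Subgroup G), A.Normal ∧ IsMulCommutative A ∧ ∀ y : (P : Subgroup G), y ^ p ∈ A := by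
  classical
  obtain ⟨x0, hx0⟩ := hex
  have hcen : ∀ x : G, x ∉ Subgroup.center G → (Subgroup.centralizer ({x} : Set G)).index = n := by
    intro x hx
    rcases h x with h1 | h1
    · exfalso
      apply hx
      rw [Subgroup.index_eq_one] at h1
      rw [Subgroup.mem_center_iff]
      intro g
      have : g ∈ Subgroup.centralizer ({x} : Set G) := by rw [h1]; exact Subgroup.mem_top g
      rw [Subgroup.mem_centralizer_singleton_iff] at this
      exact this
    · exact h1
  have hx0Z : x0 ∉ Subgroup.center G := by
    intro hh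
    have : Subgroup.centralizer ({x0} : Set G) = ⊤ := by
      rw [eq_top_iff]
      intro c _
      rw [Subgroup.mem_centralizer_singleton_iff]
      exact Subgroup.mem_center_iff.mp hh c
    rw [this, Subgroup.index_top] at hx0
    omega
  obtain ⟨p, hp, hpq⟩ := Cfsg.Agent.helper21.ito_isPGroup_quotient n hcen ⟨x0, hx0Z⟩
  haveI := Fact.mk hp
  obtain ⟨b, hb⟩ := IsPGroup.iff_card.mp hpq
  have hnd : n ∣ p ^ b := by
    rw [← hb, ← hx0]
    exact Subgroup.index_dvd_of_le (Subgroup.center_le_centralizer _)
  obtain ⟨a, _, ha⟩ := (Nat.dvd_prime_pow hp).mp hnd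
  refine ⟨p, ⟨hp⟩, a, ha, ?_⟩
  intro P
  haveI : Group.IsNilpotent G := by
    haveI : Group.IsNilpotent (G ⧸ Subgroup.center G) := hpq.isNilpotent
    exact Subgroup.isNilpotent_of_ker_le_center (QuotientGroup.mk' (Subgroup.center G))
      (by rw [QuotientGroup.ker_mk'])
  have hPn : (P : Subgroup G).Normal := inferInstance
  refine ⟨hPn, ?_, ?_⟩
  · obtain ⟨H, hH⟩ := Subgroup.exists_right_complement'_of_coprime (N := (P : Subgroup G))
      P.card_coprime_index
    have hHcard : (P : Subgroup G).index = Nat.card H := hH.symm.index_eq_card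
    have hHZ : H ≤ Subgroup.center G := by
      intro hh hhH
      obtain ⟨k, hk⟩ := hpq (hh : G ⧸ Subgroup.center G)
      have hk' : hh ^ (p ^ k) ∈ Subgroup.center G := by
        rw [← QuotientGroup.eq_one_iff, QuotientGroup.mk_pow]
        exact hk
      have hod : orderOf hh ∣ Nat.card H := Subgroup.orderOf_dvd_natCard H hhH
      have hco : Nat.Coprime p (orderOf hh) := by
        rw [Nat.Prime.coprime_iff_not_dvd hp]
        intro hd
        exact P.not_dvd_index (hHcard ▸ hd.trans hod)
      exact Cfsg.Agent.helper21.ito_mem_of_pow_mem_of_coprime _ hh (p ^ k) (orderOf hh)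
        (hco.pow_left k) hk' (by rw [pow_orderOf_eq_one]; exact Subgroup.one_mem _)
    refine ⟨H, ?_, hH.symm, ?_, ?_⟩
    · refine ⟨fun m hm g => ?_⟩
      have : g * m * g⁻¹ = m := by
        rw [Subgroup.mem_center_iff.mp (hHZ hm) g, mul_inv_cancel_right]
      rw [this]; exact hm
    · refine ⟨⟨fun a b => Subtype.ext ?_⟩⟩
      exact Subgroup.mem_center_iff.mp (hHZ b.2) a
    · intro x hx y _
      exact (Subgroup.mem_center_iff.mp (hHZ hx) y).symm
  · refine ⟨Subgroup.center ↥(P : Subgroup G), inferInstance, inferInstance, ?_⟩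
    intro y
    have hy := Cfsg.Agent.helper21.pow_mem_center_of_two_class_sizes' p hpq n hcen (y : G)
    rw [Subgroup.mem_center_iff]
    intro g
    apply Subtype.ext
    have := Subgroup.mem_center_iff.mp hy (g : G)
    simpa using this

end Cfsg.Agent.S4134
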