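import Cfsg.Statements.S4135
import Mathlib
import Cfsg.Agent.Lib_helper10_TwoClsD

set_option autoImplicit false
open Cfsg

namespace Cfsg.Agent.S4135

open Cfsg.Agent.helper10 in
/-- Let G be a finite group, r a prime and R a Sylow r-subgroup of G that is not central, N a normal subgroup of G containing R, and m a natural number such that every element of N has a conjugacy class in G of size 1 or m. Then N is nilpotent. -/
theorem result {G : Type*} [Group G] [Finite G] (r : ℕ) [Fact r.Prime]
    (R : Sylow r G) (hR : ¬ (R : Subgroup G) ≤ Subgroup.center G) (N : Subgroup G) [N.Normal] (hRN : (R : Subgroup G) ≤ N)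
    (m : ℕ) (h : ∀ x ∈ N, (Subgroup.centralizer ({x} : Set G)).index = 1 ∨ (Subgroup.centralizer ({x} : Set G)).index = m) : Group.IsNilpotent N := by
  have hrp : r.Prime := Fact.out
  have hnc : ∃ z₁ : G, z₁ ∉ Subgroup.center G ∧ tc_PE r z₁ := by
    obtain ⟨z₁, hz₁R, hz₁Z⟩ := SetLike.not_le_iff_exists.mp hR
    exact ⟨z₁, hz₁Z, tc_PE_of_mem R.isPGroup' hz₁R⟩
  have hrsub : ∀ x : G, tc_PE r x → x ∈ N := by
    intro x hx
    obtain ⟨a, ha⟩ := pgroup_conj_into_sylow R (Subgroup.zpowers x) (tc_isPGroup_zpowers hx)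
    have h1 : a * x * a⁻¹ ∈ (R : Subgroup G) :=
      ha (conj_mem_map_conj _ a x (Subgroup.mem_zpowers x))
    have h2 := ‹N.Normal›.conj_mem _ (hRN h1) a⁻¹
    have e : a⁻¹ * (a * x * a⁻¹) * a⁻¹⁻¹ = x := by group
    rwa [e] at h2
  have hcop : (N.index).Coprime r := by
    have h1 : N.index ∣ (R : Subgroup G).index := Subgroup.index_dvd_of_le hRN
    have h2 : ¬ r ∣ (R : Subgroup G).index := R.not_dvd_index
    have h3 : ¬ r ∣ N.index := fun h => h2 (h.trans h1)
    exact ((Nat.Prime.coprime_iff_not_dvd hrp).mpr h3).symm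
  have hhyp : ∀ x ∈ N, x ∉ Subgroup.center G →
      (Subgroup.centralizer ({x} : Set G)).index = m := by
    intro x hx hxZ
    rcases h x hx with h1 | h1
    · exfalso
      apply hxZ
      have htop : Subgroup.centralizer ({x} : Set G) = ⊤ := Subgroup.index_eq_one.mp h1
      rw [Subgroup.mem_center_iff]
      intro g
      have : g ∈ Subgroup.centralizer ({x} : Set G) := htop ▸ Subgroup.mem_top g
      exact Subgroup.mem_centralizer_singleton_iff.mp this
    · exact h1
  have C : TCtx r N m := ⟨inferInstance, hrsub, hcop, hhyp, hnc⟩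
  exact tc_main C

end Cfsg.Agent.S4135
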