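import Mathlib
import Cfsg.Statements.S4142

set_option autoImplicit false
open Cfsg

namespace Cfsg.Agent.S4142

variable {G : Type*} [Group G]

/-- the preimage of the centralizer of the image of `g` -/
def TT (N : Subgroup G) [N.Normal] (g : G) : Subgroup G :=
  (Subgroup.centralizer ({(QuotientGroup.mk g : G ⧸ N)} : Set (G ⧸ N))).comap (QuotientGroup.mk' N)

theorem mem_TT (N : Subgroup G) [N.Normal] (g x : G) : x ∈ TT N g ↔ g⁻¹ * x * g * x⁻¹ ∈ N := by
  unfold TT
  rw [Subgroup.mem_comap, Subgroup.mem_centralizer_iff]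
  simp only [Set.mem_singleton_iff, forall_eq, QuotientGroup.mk'_apply]
  rw [← QuotientGroup.eq_one_iff]
  simp only [QuotientGroup.mk_mul, QuotientGroup.mk_inv]
  constructor
  · intro h
    calc (QuotientGroup.mk g : G ⧸ N)⁻¹ * QuotientGroup.mk x * QuotientGroup.mk g * (QuotientGroup.mk x)⁻¹
        = (QuotientGroup.mk g : G ⧸ N)⁻¹ * (QuotientGroup.mk x * QuotientGroup.mk g) * (QuotientGroup.mk x)⁻¹ := by group
      _ = (QuotientGroup.mk g : G ⧸ N)⁻¹ * (QuotientGroup.mk g * QuotientGroup.mk x) * (QuotientGroup.mk x)⁻¹ := by rw [h]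
      _ = 1 := by group
  · intro h
    calc (QuotientGroup.mk g : G ⧸ N) * QuotientGroup.mk x
        = QuotientGroup.mk g * ((QuotientGroup.mk g)⁻¹ * QuotientGroup.mk x * QuotientGroup.mk g * (QuotientGroup.mk x)⁻¹) * QuotientGroup.mk x * (QuotientGroup.mk g)⁻¹ * QuotientGroup.mk g := by rw [h]; group
      _ = QuotientGroup.mk x * QuotientGroup.mk g := by group

theorem cent_le_TT (N : Subgroup G) [N.Normal] (g : G) : Subgroup.centralizer ({g} : Set G) ≤ TT N g := by
  intro x hx
  rw [mem_TT]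
  rw [Subgroup.mem_centralizer_iff] at hx
  have := hx g rfl
  have e : g⁻¹ * x * g * x⁻¹ = g⁻¹ * (x * g) * x⁻¹ := by group
  rw [e, ← this]
  simp

theorem card_TT [Finite G] (N : Subgroup G) [N.Normal] (g : G) :
    Nat.card (TT N g) = Nat.card (Subgroup.centralizer ({(QuotientGroup.mk g : G ⧸ N)} : Set (G ⧸ N))) * Nat.card N := by
  have h1 : (TT N g).index = (Subgroup.centralizer ({(QuotientGroup.mk g : G ⧸ N)} : Set (G ⧸ N))).index :=
    Subgroup.index_comap_of_surjective _ (QuotientGroup.mk'_surjective N)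
  have h2 := Subgroup.card_mul_index (TT N g)
  have h3 := Subgroup.card_mul_index (Subgroup.centralizer ({(QuotientGroup.mk g : G ⧸ N)} : Set (G ⧸ N)))
  have h4 : Nat.card G = Nat.card (G ⧸ N) * Nat.card N := Subgroup.card_eq_card_quotient_mul_card_subgroup N
  rw [h1] at h2
  have hpos : 0 < (Subgroup.centralizer ({(QuotientGroup.mk g : G ⧸ N)} : Set (G ⧸ N))).index :=
    Nat.pos_of_ne_zero Subgroup.index_ne_zero_of_finite
  apply Nat.eq_of_mul_eq_mul_right hpos
  rw [h2, h4, ← h3]; ring

/-- the commutator map on cosets -/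
noncomputable def θ (N : Subgroup G) [N.Normal] (g : G) :
    (TT N g) ⧸ (Subgroup.centralizer ({g} : Set G)).subgroupOf (TT N g) → N :=
  Quotient.lift (fun x : TT N g => (⟨g⁻¹ * x * g * (x : G)⁻¹, (mem_TT N g x).mp x.2⟩ : N)) (by
    intro x y hxy
    replace hxy : QuotientGroup.leftRel _ x y := hxy
    rw [QuotientGroup.leftRel_apply, Subgroup.mem_subgroupOf, Subgroup.mem_centralizer_iff] at hxy
    have h := hxy g rfl
    simp only [Subgroup.coe_mul, Subgroup.coe_inv] at h
    apply Subtype.ext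
    simp only
    -- h : g * (x⁻¹ * y) = x⁻¹ * y * g
    have : (y : G) * g * (y : G)⁻¹ = x * g * (x : G)⁻¹ := by
      calc (y : G) * g * (y : G)⁻¹ = x * ((x : G)⁻¹ * y * g) * (y : G)⁻¹ := by group
        _ = x * (g * ((x : G)⁻¹ * y)) * (y : G)⁻¹ := by rw [h]
        _ = x * g * (x : G)⁻¹ := by group
    calc g⁻¹ * x * g * (x : G)⁻¹ = g⁻¹ * (x * g * (x : G)⁻¹) := by group
      _ = g⁻¹ * (y * g * (y : G)⁻¹) := by rw [this]
      _ = g⁻¹ * y * g * (y : G)⁻¹ := by group)

theorem θ_mk (N : Subgroup G) [N.Normal] (g : G) (x : TT N g) :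
    ((θ N g (QuotientGroup.mk x) : N) : G) = g⁻¹ * x * g * (x : G)⁻¹ := rfl

theorem θ_injective (N : Subgroup G) [N.Normal] (g : G) : Function.Injective (θ N g) := by
  intro a b
  induction a using QuotientGroup.induction_on with
  | H x =>
  induction b using QuotientGroup.induction_on with
  | H y =>
  intro h
  have h' := congrArg Subtype.val h
  rw [θ_mk, θ_mk] at h'
  rw [QuotientGroup.eq, Subgroup.mem_subgroupOf, Subgroup.mem_centralizer_iff]
  intro z hz
  rw [Set.mem_singleton_iff] at hz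
  subst hz
  simp only [Subgroup.coe_mul, Subgroup.coe_inv]
  have h2 : (x : G) * z * (x : G)⁻¹ = y * z * (y : G)⁻¹ := by
    calc (x : G) * z * (x : G)⁻¹ = z * (z⁻¹ * x * z * (x : G)⁻¹) := by group
      _ = z * (z⁻¹ * y * z * (y : G)⁻¹) := by rw [h']
      _ = y * z * (y : G)⁻¹ := by group
  calc z * ((x : G)⁻¹ * y) = (x : G)⁻¹ * (x * z * (x : G)⁻¹) * y := by group
    _ = (x : G)⁻¹ * (y * z * (y : G)⁻¹) * y := by rw [h2]
    _ = (x : G)⁻¹ * y * z := by group

theorem camina_iff [Finite G] (N : Subgroup G) [N.Normal] (g : G) :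
    (∀ n ∈ N, ∃ x : G, x * g * x⁻¹ = g * n) ↔
      Nat.card (Subgroup.centralizer ({g} : Set G)) =
        Nat.card (Subgroup.centralizer ({(QuotientGroup.mk g : G ⧸ N)} : Set (G ⧸ N))) := by
  have hsurj_iff : (∀ n ∈ N, ∃ x : G, x * g * x⁻¹ = g * n) ↔ Function.Surjective (θ N g) := by
    constructor
    · rintro h ⟨n, hn⟩
      obtain ⟨x, hx⟩ := h n hn
      have hxT : x ∈ TT N g := by
        rw [mem_TT]
        have : g⁻¹ * x * g * x⁻¹ = n := by
          calc g⁻¹ * x * g * x⁻¹ = g⁻¹ * (x * g * x⁻¹) := by group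
            _ = n := by rw [hx]; group
        rw [this]; exact hn
      refine ⟨QuotientGroup.mk ⟨x, hxT⟩, ?_⟩
      apply Subtype.ext
      rw [θ_mk]
      simp only
      calc g⁻¹ * x * g * x⁻¹ = g⁻¹ * (x * g * x⁻¹) := by group
        _ = n := by rw [hx]; group
    · intro h n hn
      obtain ⟨q, hq⟩ := h ⟨n, hn⟩
      induction q using QuotientGroup.induction_on with
      | H x =>
      refine ⟨x, ?_⟩
      have := congrArg Subtype.val hq
      rw [θ_mk] at this
      simp only at this
      rw [← this]; group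
  rw [hsurj_iff]
  have hidx : Nat.card ((TT N g) ⧸ (Subgroup.centralizer ({g} : Set G)).subgroupOf (TT N g)) *
      Nat.card (Subgroup.centralizer ({g} : Set G)) = Nat.card (TT N g) := by
    have h1 := Subgroup.index_mul_card ((Subgroup.centralizer ({g} : Set G)).subgroupOf (TT N g))
    have h2 : Nat.card ((Subgroup.centralizer ({g} : Set G)).subgroupOf (TT N g)) =
        Nat.card (Subgroup.centralizer ({g} : Set G)) :=
      Nat.card_congr (Subgroup.subgroupOfEquivOfLe (cent_le_TT N g)).toEquiv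
    rw [h2, Subgroup.index_eq_card] at h1
    exact h1
  rw [card_TT] at hidx
  have hNpos : 0 < Nat.card N := Nat.card_pos
  have hCpos : 0 < Nat.card (Subgroup.centralizer ({g} : Set G)) := Nat.card_pos
  constructor
  · intro hs
    have hb : Function.Bijective (θ N g) := ⟨θ_injective N g, hs⟩
    have hc := Nat.card_eq_of_bijective _ hb
    rw [hc] at hidx
    have : Nat.card N * Nat.card (Subgroup.centralizer ({g} : Set G)) =
        Nat.card N * Nat.card (Subgroup.centralizer ({(QuotientGroup.mk g : G ⧸ N)} : Set (G ⧸ N))) := by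
      rw [hidx]; ring
    exact Nat.eq_of_mul_eq_mul_left hNpos this
  · intro hc
    rw [← hc] at hidx
    have hcard : Nat.card ((TT N g) ⧸ (Subgroup.centralizer ({g} : Set G)).subgroupOf (TT N g)) = Nat.card N := by
      apply Nat.eq_of_mul_eq_mul_right hCpos
      rw [hidx]; ring
    exact ((θ_injective N g).bijective_of_nat_card_le (le_of_eq hcard.symm)).2

theorem result {G : Type*} [Group G] [Finite G] (N : Subgroup G) [N.Normal] :
    (∀ g : G, g ∉ N → ∀ n ∈ N, ∃ x : G, x * g * x⁻¹ = g * n) ↔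
      ∀ g : G, g ∉ N → Nat.card (Subgroup.centralizer ({g} : Set G)) =
        Nat.card (Subgroup.centralizer ({(QuotientGroup.mk g : G ⧸ N)} : Set (G ⧸ N))) := by
  constructor
  · intro h g hg
    exact (camina_iff N g).mp (h g hg)
  · intro h g hg
    exact (camina_iff N g).mpr (h g hg)

end Cfsg.Agent.S4142
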