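import Mathlib
import Cfsg.Agent.Lib_helper21_CyclicSylow
import Cfsg.Agent.Lib_helper23_PSolv3
import Cfsg.Statements.S4145

set_option autoImplicit false
open Cfsg

namespace Cfsg.Agent.S4145

open Cfsg.Agent.helper21 Cfsg.Agent.helper23

/-- Let G be a finite group with a cyclic Sylow p-subgroup and H a normal subgroup such that p divides both the order of H and the index of H. Then H has a normal p-complement and G is p-solvable. -/
theorem result {G : Type*} [Group G] [Finite G] (p : ℕ) [Fact p.Prime]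
    (P : Sylow p G) (hP : IsCyclic (P : Subgroup G)) (H : Subgroup G) [H.Normal] (h1 : p ∣ Nat.card H) (h2 : p ∣ H.index) :
    Cfsg.HasNormalPComplement p H ∧ Cfsg.IsPSolvable p G := by
  have hp : p.Prime := Fact.out
  have hPH : ¬ (P : Subgroup G) ≤ H := by
    intro hle
    exact P.not_dvd_index (h2.trans (Subgroup.index_dvd_of_le hle))
  have hPcomm : IsMulCommutative (P : Subgroup G) := inferInstance
  -- Step 1: normal p-complement K of L = H ⊔ P
  obtain ⟨K, hKL, hLK, hKp, hKi⟩ := exists_pcomplement_in P hP (H ⊔ (P : Subgroup G)) le_sup_right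
    (fun x hxL hxN => exists_fixed_of_mem_normalizer P hPcomm H hPH x hxL hxN)
  obtain ⟨n, hn⟩ := P.isPGroup'.exists_card_eq
  -- Step 2: K ≤ H
  have hKH : K ≤ H := by
    intro k hk
    have hmem : (QuotientGroup.mk' H) k ∈ (P : Subgroup G).map (QuotientGroup.mk' H) := by
      have : (H ⊔ (P : Subgroup G)).map (QuotientGroup.mk' H) =
          (P : Subgroup G).map (QuotientGroup.mk' H) := by
        rw [Subgroup.map_sup, QuotientGroup.map_mk'_self, bot_sup_eq]
      rw [← this]
      exact Subgroup.mem_map_of_mem _ (hKL hk)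
    have hpg : IsPGroup p ((P : Subgroup G).map (QuotientGroup.mk' H)) := P.isPGroup'.map _
    obtain ⟨a, ha⟩ := hpg ⟨_, hmem⟩
    have ha' : ((QuotientGroup.mk' H) k) ^ (p ^ a) = 1 := congrArg Subtype.val ha
    have hb : ((QuotientGroup.mk' H) k) ^ (Nat.card K) = 1 := by
      rw [← map_pow]
      have : (⟨k, hk⟩ : K) ^ Nat.card K = 1 := pow_card_eq_one'
      have hk' : k ^ Nat.card K = 1 := congrArg Subtype.val this
      rw [hk', map_one]
    have h1' : (QuotientGroup.mk' H) k ∈ (⊥ : Subgroup (G ⧸ H)) := by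
      apply mem_of_pow_mem_of_coprime ⊥ _ (p ^ a) (Nat.card K)
      · exact Nat.Coprime.pow_left a hKp.symm
      · rw [ha']; exact Subgroup.one_mem _
      · rw [hb]; exact Subgroup.one_mem _
    rw [Subgroup.mem_bot] at h1'
    exact (QuotientGroup.eq_one_iff k).mp h1'
  -- Step 3: relIndex p-power
  obtain ⟨j, hj⟩ : ∃ j, K.relIndex H = p ^ j := by
    have := Subgroup.relIndex_mul_relIndex K H (H ⊔ (P : Subgroup G)) hKH le_sup_left
    rw [hKi, hn] at this
    obtain ⟨j, -, hj⟩ := (Nat.dvd_prime_pow hp).mp (Dvd.intro _ this)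
    exact ⟨j, hj⟩
  -- Step 4: K normal in G
  have hKn : K.Normal :=
    normal_of_pcomplement_of_normal H K hKH (le_sup_left.trans hLK) hKp j hj
  -- card H
  have hcardH : Nat.card H = Nat.card K * p ^ j := by
    have := Subgroup.card_mul_index (K.subgroupOf H)
    rw [← this]
    congr 1
    exact Nat.card_congr (Subgroup.subgroupOfEquivOfLe hKH).toEquiv
  have hj0 : j ≠ 0 := by
    rintro rfl
    rw [pow_zero, mul_one] at hcardH
    rw [hcardH] at h1
    exact (Nat.Prime.coprime_iff_not_dvd hp).mp hKp.symm h1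
  refine ⟨?_, ?_⟩
  · -- HasNormalPComplement p H
    obtain ⟨PH⟩ : Nonempty (Sylow p H) := inferInstance
    refine ⟨PH, K.subgroupOf H, hKn.subgroupOf H, ?_⟩
    have hcK : Nat.card (K.subgroupOf H) = Nat.card K :=
      Nat.card_congr (Subgroup.subgroupOfEquivOfLe hKH).toEquiv
    have hcP : Nat.card (PH : Subgroup H) = p ^ j := by
      rw [Sylow.card_eq_multiplicity, hcardH]
      congr 1
      have hK0 : Nat.card K ≠ 0 := Nat.card_pos.ne'
      rw [Nat.factorization_mul hK0 (pow_ne_zero _ hp.ne_zero), Finsupp.add_apply,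
        Nat.factorization_eq_zero_of_not_dvd ((Nat.Prime.coprime_iff_not_dvd hp).mp hKp.symm),
        Nat.Prime.factorization_pow hp, Finsupp.single_eq_same, zero_add]
    apply Subgroup.isComplement'_of_coprime
    · rw [hcK, hcP, hcardH]
    · rw [hcK, hcP]
      exact Nat.Coprime.pow_right j hKp
  · -- p-solvable
    rw [isPSolvable_iff_psreach]
    have hsurj := QuotientGroup.mk'_surjective K
    -- PSReach p K
    have hK1 : PSReach p K :=
      PSReach.step ⊥ K PSReach.bot bot_le hKn (Or.inr (by rw [Subgroup.relIndex_bot_left]; exact hKp))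
    suffices hq : PSReach p (⊤ : Subgroup (G ⧸ K)) by
      have := PSReach.comap (QuotientGroup.mk' K) hsurj (by rw [QuotientGroup.ker_mk']; exact hK1) hq
      rwa [Subgroup.comap_top] at this
    -- work in G ⧸ K
    set Hb : Subgroup (G ⧸ K) := H.map (QuotientGroup.mk' K) with hHb
    have hHbn : Hb.Normal := Subgroup.Normal.map inferInstance _ hsurj
    have hHbp : IsPGroup p Hb := by
      rintro ⟨y, hy⟩
      obtain ⟨h, hh, rfl⟩ := Subgroup.mem_map.mp hy
      refine ⟨j, ?_⟩
      apply Subtype.ext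
      have hnorm : (K.subgroupOf H).Normal := hKn.subgroupOf H
      have h3 := Subgroup.pow_index_mem (K.subgroupOf H) (⟨h, hh⟩ : H)
      rw [Subgroup.mem_subgroupOf] at h3
      have h3' : h ^ (p ^ j) ∈ K := by rw [← hj]; exact h3
      change ((QuotientGroup.mk' K) h) ^ (p ^ j) = 1
      rw [← map_pow]
      exact (QuotientGroup.eq_one_iff _).mpr h3'
    have hHbne : Hb ≠ ⊥ := by
      intro hbot
      have hHK : H ≤ K := by
        intro h hh
        have : (QuotientGroup.mk' K) h ∈ Hb := Subgroup.mem_map_of_mem _ hh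
        rw [hbot, Subgroup.mem_bot] at this
        exact (QuotientGroup.eq_one_iff _).mp this
      have : Nat.card H ∣ Nat.card K := Subgroup.card_dvd_of_le hHK
      exact (Nat.Prime.coprime_iff_not_dvd hp).mp hKp.symm (h1.trans this)
    set Pb : Sylow p (G ⧸ K) := P.mapSurjective hsurj with hPb
    have hPbcoe : (Pb : Subgroup (G ⧸ K)) = (P : Subgroup G).map (QuotientGroup.mk' K) :=
      Sylow.coe_mapSurjective hsurj P
    have hPbcyc : IsCyclic (Pb : Subgroup (G ⧸ K)) := by
      rw [hPbcoe]
      exact isCyclic_of_surjective _ ((QuotientGroup.mk' K).subgroupMap_surjective (P : Subgroup G))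
    have hHbPb : Hb ≤ (Pb : Subgroup (G ⧸ K)) := hHbp.le_sylow_of_normal Pb
    have hPbcomm : IsMulCommutative (Pb : Subgroup (G ⧸ K)) := inferInstance
    have hPbC : (Pb : Subgroup (G ⧸ K)) ≤ Subgroup.centralizer (Hb : Set (G ⧸ K)) := by
      intro x hx
      rw [Subgroup.mem_centralizer_iff]
      intro y hy
      exact congrArg Subtype.val (hPbcomm.is_comm.comm ⟨y, hHbPb hy⟩ ⟨x, hx⟩)
    obtain ⟨⟨t, htH⟩, ht1⟩ := (Subgroup.ne_bot_iff_exists_ne_one).mp hHbne
    have ht1' : t ≠ 1 := fun h => ht1 (Subtype.ext h)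
    set Cb : Subgroup (G ⧸ K) := Subgroup.centralizer (Hb : Set (G ⧸ K)) with hCb
    have hCbn : Cb.Normal := Subgroup.normal_centralizer
    obtain ⟨M, hMC, hCM, hMp, hMi⟩ := exists_pcomplement_in Pb hPbcyc Cb hPbC
      (fun x hxC _ => by
        refine ⟨t, hHbPb htH, ht1', ?_⟩
        have := (Subgroup.mem_centralizer_iff.mp hxC) t htH
        rw [← this]; group)
    obtain ⟨n', hn'⟩ := Pb.isPGroup'.exists_card_eq
    rw [hn'] at hMi
    have hMn : M.Normal := normal_of_pcomplement_of_normal Cb M hMC hCM hMp n' hMi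
    have hM1 : PSReach p M :=
      PSReach.step ⊥ M PSReach.bot bot_le hMn (Or.inr (by rw [Subgroup.relIndex_bot_left]; exact hMp))
    have hC1 : PSReach p Cb := PSReach.step M Cb hM1 hMC hCbn (Or.inl ⟨n', hMi⟩)
    have hHbcyc : IsCyclic Hb := by
      have : IsCyclic (Hb.subgroupOf (Pb : Subgroup (G ⧸ K))) := inferInstance
      exact isCyclic_of_surjective (Subgroup.subgroupOfEquivOfLe hHbPb)
        (Subgroup.subgroupOfEquivOfLe hHbPb).surjective
    have hcommq := comm_quotient_centralizer_of_cyclic Hb hHbcyc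
    have hsolv : Group.IsSolvable ((G ⧸ K) ⧸ Cb) := Group.isSolvable_of_comm hcommq
    have htop := psreach_top_of_solvable p _ ((G ⧸ K) ⧸ Cb) rfl
    have := PSReach.comap (QuotientGroup.mk' Cb) (QuotientGroup.mk'_surjective Cb)
      (by rw [QuotientGroup.ker_mk']; exact hC1) htop
    rwa [Subgroup.comap_top] at this

end Cfsg.Agent.S4145
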