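import Mathlib
import Cfsg.Statements.S4153

set_option autoImplicit false
open Cfsg

namespace Cfsg.Agent.S4153

open scoped Pointwise

variable {G : Type*} [Group G]

theorem card_sylow_eq [Finite G] {p : ℕ} [Fact p.Prime] (P Q : Sylow p G) :
    Nat.card (P : Subgroup G) = Nat.card (Q : Subgroup G) := by
  rw [P.card_eq_multiplicity, Q.card_eq_multiplicity]

theorem card_eq_map_mul [Finite G] (N : Subgroup G) [N.Normal] (K : Subgroup G) :
    Nat.card K = Nat.card (K.map (QuotientGroup.mk' N)) * Nat.card (N ⊓ K : Subgroup G) := by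
  have h1 := Subgroup.relIndex_ker (QuotientGroup.mk' N) (K := K)
  rw [QuotientGroup.ker_mk'] at h1
  have h2 := Subgroup.index_mul_card (N.subgroupOf K)
  have h3 : Nat.card (N.subgroupOf K) = Nat.card (N ⊓ K : Subgroup G) := by
    rw [← Subgroup.inf_subgroupOf_right]
    exact Nat.card_congr (Subgroup.subgroupOfEquivOfLe inf_le_right).toEquiv
  rw [← h2, h3, ← h1, Subgroup.relIndex]

theorem isPElt_of_mem_sylow {p : ℕ} [Fact p.Prime] (P : Sylow p G) (y : G) (hy : y ∈ P) :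
    ∃ k : ℕ, orderOf y = p ^ k := by
  obtain ⟨k, hk⟩ := (IsPGroup.iff_orderOf.mp P.isPGroup') ⟨y, hy⟩
  exact ⟨k, by rw [← hk, Subgroup.orderOf_mk]⟩

theorem exists_sylow_of_pElt [Finite G] {p : ℕ} [Fact p.Prime] (y : G) (hy : ∃ k : ℕ, orderOf y = p ^ k) :
    ∃ P : Sylow p G, y ∈ P := by
  obtain ⟨k, hk⟩ := hy
  have hpg : IsPGroup p (Subgroup.zpowers y) := by
    apply IsPGroup.of_card (n := k)
    rw [Nat.card_zpowers, hk]
  obtain ⟨P, hP⟩ := hpg.exists_le_sylow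
  exact ⟨P, hP (Subgroup.mem_zpowers y)⟩

theorem exists_lift [Finite G] {p : ℕ} [Fact p.Prime] (N : Subgroup G) [N.Normal]
    (x : G ⧸ N) (hx : ∃ k : ℕ, orderOf x = p ^ k) :
    ∃ P : Sylow p G, ∃ s : G, s ∈ P ∧ (QuotientGroup.mk s : G ⧸ N) = x := by
  obtain ⟨Q, hQ⟩ := exists_sylow_of_pElt x hx
  obtain ⟨P, hP⟩ := Sylow.mapSurjective_surjective (QuotientGroup.mk'_surjective N) p Q
  have hx' : x ∈ (P.mapSurjective (QuotientGroup.mk'_surjective N) : Sylow p (G ⧸ N)) := by rw [hP]; exact hQ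
  have hx'' : x ∈ (P : Subgroup G).map (QuotientGroup.mk' N) := by
    rw [← Sylow.coe_mapSurjective]; exact hx'
  obtain ⟨s, hs, hsx⟩ := hx''
  exact ⟨P, s, hs, hsx⟩

theorem central_pElt_mem_sylow [Finite G] {p : ℕ} [Fact p.Prime] (n : G) (hn : n ∈ Subgroup.center G)
    (hp : ∃ k : ℕ, orderOf n = p ^ k) (P : Sylow p G) : n ∈ P := by
  obtain ⟨Q, hQ⟩ := exists_sylow_of_pElt n hp
  obtain ⟨g, hg⟩ := MulAction.exists_smul_eq G Q P
  rw [← hg]
  change n ∈ MulAut.conj g • (Q : Subgroup G)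
  rw [Subgroup.mem_pointwise_smul_iff_inv_smul_mem]
  simp only [MulAut.smul_def, ← map_inv, MulAut.conj_apply, inv_inv]
  have : g⁻¹ * n * g = n := by
    rw [Subgroup.mem_center_iff] at hn
    rw [mul_assoc, ← hn g]; group
  rw [this]; exact hQ

theorem result {G : Type*} [Group G] [Finite G] (p : ℕ) [Fact p.Prime] (N : Subgroup G) [N.Normal]
    (P : Sylow p G) (Pbar : Sylow p (G ⧸ N)) :
    Nat.card {g : (G ⧸ N) // ∃ k : ℕ, orderOf g = p ^ k} * Nat.card (P : Subgroup G) ≤ Nat.card {g : G // ∃ k : ℕ, orderOf g = p ^ k} * Nat.card (Pbar : Subgroup (G ⧸ N)) ∧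
    (N ≤ Subgroup.center G → Nat.card {g : (G ⧸ N) // ∃ k : ℕ, orderOf g = p ^ k} * Nat.card (P : Subgroup G) = Nat.card {g : G // ∃ k : ℕ, orderOf g = p ^ k} * Nat.card (Pbar : Subgroup (G ⧸ N))) := by
  classical
  set a := Nat.card (N ⊓ (P : Subgroup G) : Subgroup G) with ha
  have hPbarpos : 0 < Nat.card (Pbar : Subgroup (G ⧸ N)) := Nat.card_pos
  have hmapcard : ∀ P' : Sylow p G, Nat.card ((P' : Subgroup G).map (QuotientGroup.mk' N)) = Nat.card (Pbar : Subgroup (G ⧸ N)) := by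
    intro P'
    rw [← Sylow.coe_mapSurjective (QuotientGroup.mk'_surjective N)]
    exact card_sylow_eq _ _
  have hPa : Nat.card (P : Subgroup G) = Nat.card (Pbar : Subgroup (G ⧸ N)) * a := by
    rw [card_eq_map_mul N (P : Subgroup G), hmapcard P]
  have hcardinf : ∀ P' : Sylow p G, Nat.card (N ⊓ (P' : Subgroup G) : Subgroup G) = a := by
    intro P'
    have h1 := card_eq_map_mul N (P' : Subgroup G)
    rw [hmapcard P', card_sylow_eq P' P, hPa] at h1
    exact (Nat.eq_of_mul_eq_mul_left hPbarpos h1).symm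
  -- choices
  have hch : ∀ x : {g : (G ⧸ N) // ∃ k : ℕ, orderOf g = p ^ k},
      ∃ Ps : Sylow p G × G, Ps.2 ∈ Ps.1 ∧ (QuotientGroup.mk Ps.2 : G ⧸ N) = x.1 := by
    intro x
    obtain ⟨P', s, hs, hsx⟩ := exists_lift N x.1 x.2
    exact ⟨(P', s), hs, hsx⟩
  choose Ps hPs1 hPs2 using hch
  let e : ∀ x : {g : (G ⧸ N) // ∃ k : ℕ, orderOf g = p ^ k},
      (N ⊓ ((Ps x).1 : Subgroup G) : Subgroup G) ≃ Fin a := fun x =>
    Finite.equivFinOfCardEq (hcardinf (Ps x).1)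
  let Ψ : {g : (G ⧸ N) // ∃ k : ℕ, orderOf g = p ^ k} × Fin a → {g : G // ∃ k : ℕ, orderOf g = p ^ k} :=
    fun xi => ⟨(Ps xi.1).2 * (((e xi.1).symm xi.2 : (N ⊓ ((Ps xi.1).1 : Subgroup G) : Subgroup G)) : G),
      isPElt_of_mem_sylow (Ps xi.1).1 _ (Subgroup.mul_mem _ (hPs1 xi.1) ((e xi.1).symm xi.2).2.2)⟩
  have hΨπ : ∀ xi, (QuotientGroup.mk (Ψ xi).1 : G ⧸ N) = xi.1.1 := by
    intro xi
    simp only [Ψ, QuotientGroup.mk_mul]
    rw [hPs2, (QuotientGroup.eq_one_iff _).mpr ((e xi.1).symm xi.2).2.1, mul_one]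
  have hΨinj : Function.Injective Ψ := by
    rintro ⟨x, i⟩ ⟨y, j⟩ h
    have hxy : x = y := by
      apply Subtype.ext
      rw [← hΨπ (x, i), ← hΨπ (y, j), h]
    subst hxy
    have h' := congrArg Subtype.val h
    simp only [Ψ] at h'
    have h'' := mul_left_cancel h'
    have := (e x).symm.injective (Subtype.ext h'')
    rw [this]
  have hle : Nat.card {g : (G ⧸ N) // ∃ k : ℕ, orderOf g = p ^ k} * a ≤ Nat.card {g : G // ∃ k : ℕ, orderOf g = p ^ k} := by
    have := Nat.card_le_card_of_injective Ψ hΨinj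
    rwa [Nat.card_prod, Nat.card_fin] at this
  constructor
  · rw [hPa]
    calc Nat.card {g : (G ⧸ N) // ∃ k : ℕ, orderOf g = p ^ k} * (Nat.card (Pbar : Subgroup (G ⧸ N)) * a)
        = (Nat.card {g : (G ⧸ N) // ∃ k : ℕ, orderOf g = p ^ k} * a) * Nat.card (Pbar : Subgroup (G ⧸ N)) := by ring
      _ ≤ _ := Nat.mul_le_mul_right _ hle
  · intro hcent
    have hΨsurj : Function.Surjective Ψ := by
      rintro ⟨y, hy⟩
      have hybar : ∃ k : ℕ, orderOf (QuotientGroup.mk y : G ⧸ N) = p ^ k := by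
        rw [exists_orderOf_eq_prime_pow_iff] at hy ⊢
        obtain ⟨m, hm⟩ := hy
        exact ⟨m, by rw [← QuotientGroup.mk_pow, hm]; rfl⟩
      set x : {g : (G ⧸ N) // ∃ k : ℕ, orderOf g = p ^ k} := ⟨QuotientGroup.mk y, hybar⟩ with hx
      have hs := hPs2 x
      -- n = s⁻¹ * y ∈ N
      have hnN : (Ps x).2⁻¹ * y ∈ N := QuotientGroup.eq.mp hs
      have hncent : (Ps x).2⁻¹ * y ∈ Subgroup.center G := hcent hnN
      have hnp : ∃ k : ℕ, orderOf ((Ps x).2⁻¹ * y) = p ^ k := by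
        rw [exists_orderOf_eq_prime_pow_iff] at hy ⊢
        obtain ⟨m1, hm1⟩ := hy
        obtain ⟨m2, hm2⟩ := exists_orderOf_eq_prime_pow_iff.mp (isPElt_of_mem_sylow (Ps x).1 _ (hPs1 x))
        refine ⟨m1 + m2, ?_⟩
        have hcomm : Commute ((Ps x).2⁻¹) y := by
          have h1 : Commute ((Ps x).2⁻¹ * y) (Ps x).2 := (Subgroup.mem_center_iff.mp hncent (Ps x).2).symm
          have h2 : Commute y (Ps x).2 := by
            have : y = (Ps x).2 * ((Ps x).2⁻¹ * y) := by group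
            rw [this]
            exact (Commute.refl _).mul_left h1
          exact h2.symm.inv_left
        have e1 : (Ps x).2 ^ (p ^ (m1 + m2)) = 1 := by
          rw [pow_add, mul_comm, pow_mul, hm2, one_pow]
        have e2 : y ^ (p ^ (m1 + m2)) = 1 := by
          rw [pow_add, pow_mul, hm1, one_pow]
        rw [hcomm.mul_pow, inv_pow, e1, e2, inv_one, one_mul]
      have hnP : (Ps x).2⁻¹ * y ∈ (Ps x).1 := central_pElt_mem_sylow _ hncent hnp _
      refine ⟨(x, e x ⟨(Ps x).2⁻¹ * y, hnN, hnP⟩), ?_⟩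
      apply Subtype.ext
      simp only [Ψ, Equiv.symm_apply_apply]
      group
    have hbij : Function.Bijective Ψ := ⟨hΨinj, hΨsurj⟩
    have heq := Nat.card_eq_of_bijective Ψ hbij
    rw [Nat.card_prod, Nat.card_fin] at heq
    rw [hPa, ← heq]; ring

end Cfsg.Agent.S4153
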