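import Cfsg.Statements.S4154

set_option autoImplicit false
open Cfsg

namespace Cfsg.Agent.S4154

/-- fixed points of an automorphism -/
def fixedSub {H : Type*} [Group H] (β : MulAut H) : Subgroup H where
  carrier := {g | β g = g}
  one_mem' := map_one β
  mul_mem' := by
    intro a b ha hb
    simp only [Set.mem_ofPred_eq] at *
    rw [map_mul, ha, hb]
  inv_mem' := by
    intro a ha
    simp only [Set.mem_ofPred_eq] at *
    rw [map_inv, ha]

theorem key {H : Type*} [Group H] [Finite H] (β : MulAut H) (C' : Subgroup H)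
    (hC' : ∀ c ∈ C', β c = c)
    (hsurj : ∀ x : H, ∃ c ∈ C', ∃ g : H, x = c * (g⁻¹ * β g)) :
    ∀ x : H, β x = x → x ∈ C' := by
  classical
  have hle : C' ≤ fixedSub β := fun c hc => hC' c hc
  -- the map g ↦ β g * g⁻¹ is constant on left cosets of the fixed subgroup
  let φ : H ⧸ fixedSub β → H := Quotient.lift (fun g : H => β g * g⁻¹) (by
    intro a b hab
    have hab' : a⁻¹ * b ∈ fixedSub β := QuotientGroup.leftRel_apply.mp hab
    have h1 : β (a⁻¹ * b) = a⁻¹ * b := hab'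
    rw [map_mul, map_inv] at h1
    -- (β a)⁻¹ * β b = a⁻¹ * b
    have h2 : β b = β a * (a⁻¹ * b) := by rw [← h1]; group
    show β a * a⁻¹ = β b * b⁻¹
    rw [h2]; group)
  have hφ : ∀ g : H, φ (QuotientGroup.mk g) = β g * g⁻¹ := fun g => rfl
  let Φ : (H ⧸ fixedSub β) × C' → H := fun q => φ q.1 * (q.2 : H)
  have hΦ : Function.Surjective Φ := by
    intro x
    obtain ⟨c, hc, g, hg⟩ := hsurj x⁻¹
    refine ⟨(QuotientGroup.mk g⁻¹, ⟨c⁻¹, C'.inv_mem hc⟩), ?_⟩
    show φ (QuotientGroup.mk g⁻¹) * c⁻¹ = x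
    rw [hφ, map_inv, inv_inv]
    have : x = (c * (g⁻¹ * β g))⁻¹ := by rw [← hg, inv_inv]
    rw [this]; group
  have hcard := Nat.card_le_card_of_surjective Φ hΦ
  rw [Nat.card_prod] at hcard
  have h2 : Nat.card H = (fixedSub β).index * Nat.card (fixedSub β) := (Subgroup.index_mul_card _).symm
  rw [h2, ← Subgroup.index_eq_card] at hcard
  have hpos : 0 < (fixedSub β).index := Nat.pos_of_ne_zero (Subgroup.index_ne_zero_of_finite)
  have h3 : Nat.card (fixedSub β) ≤ Nat.card C' := Nat.le_of_mul_le_mul_left hcard hpos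
  have h4 : C' = fixedSub β := Subgroup.eq_of_le_of_card_ge hle h3
  intro x hx
  rw [h4]
  exact hx

theorem result {G : Type*} [Group G] [Finite G] (α : MulAut G)
    (hccp : ∀ x : G, ∃ c g : G, α c = c ∧ x = c * (g⁻¹ * α g))
    (N : Subgroup G) [N.Normal] (hN : ∀ n ∈ N, α n ∈ N) :
    (∀ x : G, ∃ c g : G, c⁻¹ * α c ∈ N ∧ x⁻¹ * (c * (g⁻¹ * α g)) ∈ N) ∧
    (∀ x : G, x⁻¹ * α x ∈ N → ∃ c : G, α c = c ∧ c⁻¹ * x ∈ N) := by
  constructor
  · intro x
    obtain ⟨c, g, hc, hx⟩ := hccp x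
    refine ⟨c, g, ?_, ?_⟩
    · rw [hc, inv_mul_cancel]; exact N.one_mem
    · rw [← hx, inv_mul_cancel]; exact N.one_mem
  · have hmap : N.map (α : G ≃* G) = N := by
      apply Subgroup.eq_of_le_of_card_ge
      · rintro _ ⟨n, hn, rfl⟩
        exact hN n hn
      · rw [Subgroup.card_map_of_injective (α : G ≃* G).injective]
    let β : MulAut (G ⧸ N) := QuotientGroup.congr N N α hmap
    have hβ : ∀ g : G, β (QuotientGroup.mk g) = QuotientGroup.mk (α g) := fun g => rfl
    have hkey := key β ((fixedSub α).map (QuotientGroup.mk' N)) (by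
      rintro _ ⟨c, hc, rfl⟩
      have hc' : α c = c := hc
      rw [QuotientGroup.mk'_apply, hβ, hc']) (by
      intro x
      induction x using QuotientGroup.induction_on with
      | H x =>
      obtain ⟨c, g, hc, hx⟩ := hccp x
      refine ⟨QuotientGroup.mk c, ⟨c, hc, rfl⟩, QuotientGroup.mk g, ?_⟩
      rw [hβ, hx]
      rfl)
    intro x hx
    have h1 : β (QuotientGroup.mk x) = QuotientGroup.mk x := by
      rw [hβ]
      exact (QuotientGroup.eq.mpr hx).symm
    obtain ⟨c, hc, hcx⟩ := hkey _ h1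
    refine ⟨c, hc, ?_⟩
    exact QuotientGroup.eq.mp hcx

end Cfsg.Agent.S4154
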