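-- Statement S4155: cosets of a nilpotent normal subgroup with constant element orders.
import Mathlib
import Cfsg.Statements.S4155
import Cfsg.Agent.S0040
import Cfsg.Agent.Lib_helper1_Core

set_option autoImplicit false
set_option linter.style.haveILetI false
set_option linter.unusedSectionVars false
set_option linter.unusedVariables false
open Cfsg

namespace Cfsg.Agent.S4155

lemma exists_prime_ne (n : ℕ) (hn1 : n ≠ 1) (hn0 : n ≠ 0) (hnpp : ¬ IsPrimePow n) (q : ℕ) :
    ∃ s : ℕ, s.Prime ∧ s ∣ n ∧ s ≠ q := by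
  by_contra hcon
  have hall : ∀ s : ℕ, s.Prime → s ∣ n → s = q := by
    intro s hs hd
    by_contra hne
    exact hcon ⟨s, hs, hd, hne⟩
  obtain ⟨p, hp, hpn⟩ := Nat.exists_prime_and_dvd hn1
  have hpq := hall p hp hpn
  subst hpq
  apply hnpp
  have h := Nat.eq_prime_pow_of_unique_prime_dvd hn0 (fun {s} hs hd => hall s hs hd)
  rw [h]
  apply hp.isPrimePow.pow
  intro h0
  rw [h0, pow_zero] at h
  exact hn1 h

section

variable {G : Type*} [Group G] [Finite G]

lemma exists_orderOf_eq_mem_pCore (N : Subgroup G) [N.Normal] (hnil : Group.IsNilpotent N)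
    (s : ℕ) [hs : Fact s.Prime] (hsN : s ∣ Nat.card N) :
    ∃ n ∈ N, orderOf n = s ∧ n ∈ Cfsg.pCore s G := by
  haveI := hnil
  obtain ⟨P⟩ : Nonempty (Sylow s N) := inferInstance
  haveI hPn : (P : Subgroup N).Normal := inferInstance
  haveI : (P : Subgroup N).Characteristic := P.characteristic_of_normal hPn
  have hTn : ((P : Subgroup N).map N.subtype).Normal := inferInstance
  have hTp : IsPGroup s ((P : Subgroup N).map N.subtype) := P.isPGroup'.map N.subtype
  have hTle := helper1.le_pCore hTn hTp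
  have hsP : s ∣ Nat.card (P : Subgroup N) := by
    rw [P.card_eq_multiplicity]
    apply dvd_pow_self
    intro h0
    have := (hs.out.dvd_iff_one_le_factorization Nat.card_pos.ne').mp hsN
    omega
  obtain ⟨x, hx⟩ := exists_prime_orderOf_dvd_card' s hsP
  refine ⟨((x : N) : G), (x : N).2, ?_, hTle ⟨(x : N), x.2, rfl⟩⟩
  rw [Subgroup.orderOf_coe, Subgroup.orderOf_coe]
  exact hx

lemma orderOf_mem_pCore {r : ℕ} [Fact r.Prime] {y : G} (hy : y ∈ Cfsg.pCore r G) :
    ∃ k : ℕ, orderOf y = r ^ k := by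
  obtain ⟨k, hk⟩ := (IsPGroup.iff_orderOf.mp (helper1.pCore_isPGroup (G := G) r)) ⟨y, hy⟩
  exact ⟨k, by rw [← hk, Subgroup.orderOf_mk]⟩

theorem pCore_le (N : Subgroup G) [N.Normal] (hN1 : N ≠ ⊥)
    (heq : ∀ x : G, x ∉ N → ∀ n ∈ N, orderOf (x * n) = orderOf x)
    (hnil : Group.IsNilpotent N) (hnpp : ¬ IsPrimePow (Nat.card N)) (r : ℕ) [hr : Fact r.Prime] :
    Cfsg.pCore r G ≤ N := by
  intro y hy
  by_contra hyN
  have hc1 : Nat.card N ≠ 1 := by
    intro h
    exact hN1 (Subgroup.card_eq_one.mp h)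
  obtain ⟨s, hs, hsN, hsr⟩ := exists_prime_ne (Nat.card N) hc1 Nat.card_pos.ne' hnpp r
  haveI := Fact.mk hs
  obtain ⟨n, hnN, hno, hnc⟩ := exists_orderOf_eq_mem_pCore N hnil s hsN
  have hdisj : Disjoint (Cfsg.pCore r G) (Cfsg.pCore s G) :=
    IsPGroup.disjoint_of_ne r s (Ne.symm hsr) _ _ (helper1.pCore_isPGroup r)
      (helper1.pCore_isPGroup s)
  have hcomm : Commute y n :=
    Subgroup.commute_of_normal_of_disjoint _ _ (helper1.pCore_normal r) (helper1.pCore_normal s)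
      hdisj y n hy hnc
  obtain ⟨k, hk⟩ := orderOf_mem_pCore hy
  have hcop : (orderOf y).Coprime (orderOf n) := by
    rw [hk, hno]
    exact Nat.Coprime.pow_left k ((Nat.coprime_primes hr.out hs).mpr (Ne.symm hsr))
  have h1 := hcomm.orderOf_mul_eq_mul_orderOf_of_coprime hcop
  rw [heq y hyN n hnN, hno] at h1
  have hpos : 0 < orderOf y := orderOf_pos y
  have h2 : orderOf y * 1 = orderOf y * s := by rw [mul_one]; exact h1
  have h3 := Nat.eq_of_mul_eq_mul_left hpos h2
  exact hs.one_lt.ne h3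

theorem eq_fitting (N : Subgroup G) [N.Normal] (hN1 : N ≠ ⊥)
    (heq : ∀ x : G, x ∉ N → ∀ n ∈ N, orderOf (x * n) = orderOf x)
    (hnil : Group.IsNilpotent N) (hnpp : ¬ IsPrimePow (Nat.card N)) :
    N = Cfsg.fittingSubgroup G := by
  apply le_antisymm (helper1.le_fitting inferInstance hnil)
  rw [helper1.fitting_eq_iSup_pCore]
  apply iSup_le
  intro p
  haveI : Fact (p : ℕ).Prime := ⟨p.2⟩
  exact pCore_le N hN1 heq hnil hnpp p

theorem sylow_quot (N : Subgroup G) [N.Normal] (hN1 : N ≠ ⊥)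
    (heq : ∀ x : G, x ∉ N → ∀ n ∈ N, orderOf (x * n) = orderOf x)
    (hnil : Group.IsNilpotent N) (hnpp : ¬ IsPrimePow (Nat.card N))
    (hFit : N = Cfsg.fittingSubgroup G) (q : ℕ) [hq : Fact q.Prime] (Q : Sylow q (G ⧸ N)) :
    IsCyclic (Q : Subgroup (G ⧸ N)) ∨
      ∃ n : ℕ, Nonempty ((Q : Subgroup (G ⧸ N)) ≃* QuaternionGroup (2 ^ n)) := by
  have hc1 : Nat.card N ≠ 1 := by
    intro h
    exact hN1 (Subgroup.card_eq_one.mp h)
  obtain ⟨s, hs, hsN, hsq⟩ := exists_prime_ne (Nat.card N) hc1 Nat.card_pos.ne' hnpp q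
  haveI := Fact.mk hs
  obtain ⟨n₀, hn₀N, hn₀o, hn₀c⟩ := exists_orderOf_eq_mem_pCore N hnil s hsN
  obtain ⟨Os, hOs⟩ : ∃ Os : Subgroup G, Os = Cfsg.pCore s G := ⟨_, rfl⟩
  haveI hOsn : Os.Normal := by rw [hOs]; exact helper1.pCore_normal s
  have hOsp : IsPGroup s Os := by rw [hOs]; exact helper1.pCore_isPGroup s
  have hOsN : Os ≤ N := by rw [hOs, hFit]; exact helper1.pCore_le_fitting s
  haveI : Nontrivial Os := by
    refine ⟨⟨⟨n₀, hOs ▸ hn₀c⟩, 1, ?_⟩⟩
    intro h
    have h1 : n₀ = 1 := congrArg Subtype.val h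
    rw [h1, orderOf_one] at hn₀o
    exact hs.one_lt.ne hn₀o
  obtain ⟨M, hM⟩ : ∃ M : Subgroup G, M = (Subgroup.center Os).map Os.subtype := ⟨_, rfl⟩
  haveI hMn : M.Normal := by rw [hM]; infer_instance
  have hMOs : M ≤ Os := by rw [hM]; exact Subgroup.map_subtype_le _
  have hMp : IsPGroup s M := hOsp.to_le hMOs
  have hMne : M ≠ ⊥ := by
    haveI := hOsp.center_nontrivial
    obtain ⟨z, hz⟩ := exists_ne (1 : Subgroup.center Os)
    intro hbot
    have hzM : ((z : Os) : G) ∈ M := by rw [hM]; exact ⟨(z : Os), z.2, rfl⟩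
    rw [hbot, Subgroup.mem_bot] at hzM
    apply hz
    apply Subtype.ext
    apply Subtype.ext
    exact hzM
  have hNM : N ≤ Subgroup.centralizer (M : Set G) := by
    rw [hFit, helper1.fitting_eq_iSup_pCore]
    apply iSup_le
    intro p
    haveI : Fact (p : ℕ).Prime := ⟨p.2⟩
    intro x hx
    rw [Subgroup.mem_centralizer_iff]
    intro m hm
    by_cases hps : (p : ℕ) = s
    · rw [hps, ← hOs] at hx
      rw [hM] at hm
      obtain ⟨z, hz, rfl⟩ := hm
      have := Subgroup.mem_center_iff.mp hz ⟨x, hx⟩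
      exact (congrArg Subtype.val this).symm
    · have hdisj : Disjoint Os (Cfsg.pCore p G) := by
        rw [hOs]
        exact IsPGroup.disjoint_of_ne s p (Ne.symm hps) _ _ (helper1.pCore_isPGroup s)
          (helper1.pCore_isPGroup p)
      exact Subgroup.commute_of_normal_of_disjoint _ _ hOsn (helper1.pCore_normal p) hdisj m x
        (hMOs hm) hx
  -- the action of `G / N` on `M`
  obtain ⟨κ, hκdef⟩ : ∃ κ : G →* MulAut ↥M, κ = MulAut.conjNormal (H := M) := ⟨_, rfl⟩
  have hκ : ∀ g (m : ↥M), ((κ g m : ↥M) : G) = g * m * g⁻¹ := by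
    intro g m
    rw [hκdef]
    exact MulAut.conjNormal_apply _ _
  have hker : N ≤ κ.ker := by
    intro n hn
    rw [MonoidHom.mem_ker]
    apply MulEquiv.ext
    intro m
    apply Subtype.ext
    rw [MulAut.one_apply, hκ]
    have := (Subgroup.mem_centralizer_iff.mp (hNM hn)) m m.2
    rw [← this, mul_assoc, mul_inv_cancel, mul_one]
  obtain ⟨κb, hκbdef⟩ : ∃ κb : G ⧸ N →* MulAut ↥M, κb = QuotientGroup.lift N κ hker := ⟨_, rfl⟩
  have hκb : ∀ g, κb (QuotientGroup.mk' N g) = κ g := by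
    intro g
    rw [hκbdef]
    rfl
  obtain ⟨φ, hφdef⟩ : ∃ φ : ↥(Q : Subgroup (G ⧸ N)) →* MulAut ↥M,
      φ = κb.comp (Q : Subgroup (G ⧸ N)).subtype := ⟨_, rfl⟩
  have hφ : ∀ x : ↥(Q : Subgroup (G ⧸ N)), φ x = κb x.1 := by
    intro x
    rw [hφdef]
    rfl
  -- the semidirect product
  haveI : Finite (↥M ⋊[φ] ↥(Q : Subgroup (G ⧸ N))) :=
    Finite.of_equiv _ SemidirectProduct.equivProd.symm
  obtain ⟨K, hK⟩ : ∃ K : Subgroup (↥M ⋊[φ] ↥(Q : Subgroup (G ⧸ N))),
      K = (SemidirectProduct.inl : ↥M →* ↥M ⋊[φ] ↥(Q : Subgroup (G ⧸ N))).range := ⟨_, rfl⟩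
  obtain ⟨H, hH⟩ : ∃ H : Subgroup (↥M ⋊[φ] ↥(Q : Subgroup (G ⧸ N))),
      H = (SemidirectProduct.inr :
        ↥(Q : Subgroup (G ⧸ N)) →* ↥M ⋊[φ] ↥(Q : Subgroup (G ⧸ N))).range := ⟨_, rfl⟩
  haveI hKn : K.Normal := by
    rw [hK, SemidirectProduct.range_inl_eq_ker_rightHom]
    exact MonoidHom.normal_ker _
  have hKcard : Nat.card K = Nat.card ↥M := by
    rw [hK]
    exact (Nat.card_congr (MonoidHom.ofInjective SemidirectProduct.inl_injective).toEquiv).symm
  have hHcard : Nat.card H = Nat.card ↥(Q : Subgroup (G ⧸ N)) := by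
    rw [hH]
    exact (Nat.card_congr (MonoidHom.ofInjective SemidirectProduct.inr_injective).toEquiv).symm
  obtain ⟨a, ha⟩ := IsPGroup.iff_card.mp hMp
  obtain ⟨b, hb⟩ := IsPGroup.iff_card.mp Q.isPGroup'
  have hc : Subgroup.IsComplement' K H := by
    apply Subgroup.isComplement'_of_coprime
    · rw [hKcard, hHcard, SemidirectProduct.card]
    · rw [hKcard, hHcard, ha, hb]
      exact Nat.Coprime.pow _ _ ((Nat.coprime_primes hs hq.out).mpr hsq)
  have hKne : K ≠ ⊥ := by
    intro hbot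
    apply hMne
    rw [eq_bot_iff]
    intro m hm
    rw [Subgroup.mem_bot]
    have h0 : (SemidirectProduct.inl (⟨m, hm⟩ : ↥M) : ↥M ⋊[φ] ↥(Q : Subgroup (G ⧸ N))) ∈ K := by
      rw [hK]; exact ⟨_, rfl⟩
    rw [hbot, Subgroup.mem_bot] at h0
    have h1 : (⟨m, hm⟩ : ↥M) = 1 := SemidirectProduct.inl_injective (by rw [h0, map_one])
    exact congrArg Subtype.val h1
  have hfpf : ∀ h ∈ H, h ≠ 1 → K ⊓ Subgroup.centralizer {h} = ⊥ := by
    intro h hh hh1
    rw [hH] at hh
    obtain ⟨x, rfl⟩ := hh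
    rw [eq_bot_iff]
    intro k hk
    obtain ⟨hkK, hkc⟩ := Subgroup.mem_inf.mp hk
    rw [hK] at hkK
    obtain ⟨m, rfl⟩ := hkK
    rw [Subgroup.mem_bot]
    rw [Subgroup.mem_centralizer_singleton_iff] at hkc
    have hfix : φ x m = m := by
      apply SemidirectProduct.inl_injective (φ := φ)
      rw [SemidirectProduct.inl_aut, ← hkc, mul_assoc, ← map_mul, mul_inv_cancel, map_one,
        mul_one]
    have hx1 : x ≠ 1 := by
      intro h
      apply hh1
      rw [h, map_one]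
    suffices hm1 : m = 1 by rw [hm1, map_one]
    obtain ⟨g₀, hg₀⟩ := QuotientGroup.mk'_surjective N x.1
    have hcomm₀ : g₀ * (m : G) * g₀⁻¹ = m := by
      have := congrArg Subtype.val hfix
      rw [hφ, ← hg₀, hκb, hκ] at this
      exact this
    obtain ⟨e, he⟩ : ∃ e, e = (orderOf g₀).factorization s := ⟨_, rfl⟩
    obtain ⟨g, hgdef⟩ : ∃ g, g = g₀ ^ (s ^ e) := ⟨_, rfl⟩
    have hg₀pos : orderOf g₀ ≠ 0 := (orderOf_pos g₀).ne'
    have hgo : Nat.Coprime s (orderOf g) := by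
      rw [hgdef, orderOf_pow' _ (pow_ne_zero e hs.ne_zero), he,
        Nat.gcd_eq_right (Nat.ordProj_dvd _ _)]
      exact Nat.coprime_ordCompl hs hg₀pos
    have hgN : g ∉ N := by
      intro hgN
      have h1 : x.1 ^ (s ^ e) = 1 := by
        rw [← hg₀, ← map_pow, ← hgdef]
        exact (QuotientGroup.eq_one_iff g).mpr hgN
      have h2 : x ^ (s ^ e) = 1 := by
        apply Subtype.ext
        rw [Subgroup.coe_pow]
        exact h1
      obtain ⟨j, hj⟩ := (IsPGroup.iff_orderOf.mp Q.isPGroup') x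
      have hj0 : j ≠ 0 := by
        intro h0
        rw [h0, pow_zero, orderOf_eq_one_iff] at hj
        exact hx1 hj
      have h3 : q ∣ s ^ e := by
        have h4 : orderOf x ∣ s ^ e := orderOf_dvd_of_pow_eq_one h2
        rw [hj] at h4
        exact (dvd_pow_self q hj0).trans h4
      have h5 : q ∣ s := hq.out.dvd_of_dvd_pow h3
      exact hsq ((Nat.prime_dvd_prime_iff_eq hq.out hs).mp h5).symm
    have hcomm : Commute g (m : G) := by
      rw [hgdef]
      apply Commute.pow_left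
      show g₀ * (m : G) = (m : G) * g₀
      calc g₀ * (m : G) = g₀ * (m : G) * g₀⁻¹ * g₀ := by group
        _ = (m : G) * g₀ := by rw [hcomm₀]
    obtain ⟨j, hj⟩ := (IsPGroup.iff_orderOf.mp hMp) m
    have hmo : orderOf (m : G) = s ^ j := by rw [Subgroup.orderOf_coe]; exact hj
    have hcop : (orderOf g).Coprime (orderOf (m : G)) := by
      rw [hmo]
      exact (Nat.Coprime.pow_right j hgo.symm)
    have h1 := hcomm.orderOf_mul_eq_mul_orderOf_of_coprime hcop
    rw [heq g hgN m (hOsN (hMOs m.2))] at h1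
    have hpos : 0 < orderOf g := orderOf_pos g
    have h2 : orderOf g * 1 = orderOf g * orderOf (m : G) := by rw [mul_one]; exact h1
    have h3 := Nat.eq_of_mul_eq_mul_left hpos h2
    apply Subtype.ext
    exact orderOf_eq_one_iff.mp h3.symm
  obtain ⟨P⟩ : Nonempty (Sylow q H) := inferInstance
  have hres := S0040.result K H hc hKne hfpf q P
  have hHp : IsPGroup q H := IsPGroup.of_card (n := b) (by rw [hHcard, hb])
  have hPtop : (P : Subgroup H) = ⊤ := (P.is_maximal' (hHp.to_subgroup ⊤) le_top).symm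
  subst hH
  let e : ↥(Q : Subgroup (G ⧸ N)) ≃* ↥(P : Subgroup _) :=
    ((MonoidHom.ofInjective (SemidirectProduct.inr_injective (φ := φ))).trans
      Subgroup.topEquiv.symm).trans (MulEquiv.subgroupCongr hPtop.symm)
  rcases hres with hcyc | ⟨n, ⟨f⟩⟩
  · left
    haveI := hcyc
    exact isCyclic_of_surjective e.symm e.symm.surjective
  · right
    exact ⟨n, ⟨e.trans f⟩⟩

end

/-- Let G be a finite group and N a proper non-trivial normal nilpotent subgroup whose order is not a prime power, such that for every x outside N all elements of the coset xN have the same order as x. Then N is the Fitting subgroup of G, and for every prime q every Sylow q-subgroup of G/N is cyclic or generalized quaternion. -/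
theorem result {G : Type*} [Group G] [Finite G] (N : Subgroup G) [N.Normal] (hN1 : N ≠ ⊥) (hN2 : N ≠ ⊤)
    (heq : ∀ x : G, x ∉ N → ∀ n ∈ N, orderOf (x * n) = orderOf x)
    (hnil : Group.IsNilpotent N) (hnpp : ¬ IsPrimePow (Nat.card N)) :
    N = Cfsg.fittingSubgroup G ∧
    ∀ (q : ℕ) [Fact q.Prime] (Q : Sylow q (G ⧸ N)), IsCyclic (Q : Subgroup (G ⧸ N)) ∨ ∃ n : ℕ, Nonempty ((Q : Subgroup (G ⧸ N)) ≃* QuaternionGroup (2 ^ n)) := by
  have hFit := eq_fitting N hN1 heq hnil hnpp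
  refine ⟨hFit, ?_⟩
  intro q hq Q
  exact sylow_quot N hN1 heq hnil hnpp hFit q Q

end Cfsg.Agent.S4155
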