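-- Statement S4156: alternating group of degree n+1 embeds in PSL_n(F) (deleted permutation module).
import Mathlib
import Cfsg.Statements.S4156

set_option autoImplicit false
set_option linter.style.haveILetI false
open Cfsg

namespace Cfsg.Agent.S4156

open Equiv

section aux

variable {n : ℕ} {F : Type*} [Field F]

/-- extension of a vector to a sum-zero vector of length `n + 1`. -/
def ext0 (w : Fin n → F) : Fin (n + 1) → F := Fin.snoc w (-∑ j, w j)

lemma ext0_castSucc (w : Fin n → F) (i : Fin n) : ext0 w i.castSucc = w i := by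
  simp [ext0]

lemma ext0_last (w : Fin n → F) : ext0 w (Fin.last n) = -∑ j, w j := by
  simp [ext0]

lemma ext0_add (w w' : Fin n → F) : ext0 (w + w') = ext0 w + ext0 w' := by
  funext a
  refine Fin.lastCases ?_ (fun i => ?_) a
  · simp only [Pi.add_apply, ext0_last, Finset.sum_add_distrib]; ring
  · simp only [Pi.add_apply, ext0_castSucc]

lemma ext0_smul (c : F) (w : Fin n → F) : ext0 (c • w) = c • ext0 w := by
  funext a
  refine Fin.lastCases ?_ (fun i => ?_) a
  · simp only [Pi.smul_apply, ext0_last, smul_eq_mul, ← Finset.mul_sum]; ring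
  · simp only [Pi.smul_apply, ext0_castSucc]

lemma ext0_restrict (v : Fin (n + 1) → F) (hv : ∑ a, v a = 0) :
    ext0 (fun i : Fin n => v i.castSucc) = v := by
  funext a
  refine Fin.lastCases ?_ (fun i => ?_) a
  · rw [ext0_last]
    rw [Fin.sum_univ_castSucc] at hv
    linear_combination (-1 : F) * hv
  · rw [ext0_castSucc]

lemma sum_ext0 (w : Fin n → F) : ∑ a, ext0 w a = 0 := by
  rw [Fin.sum_univ_castSucc]
  simp only [ext0_castSucc, ext0_last]
  ring

/-- the deleted permutation representation -/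
def T (σ : Perm (Fin (n + 1))) : Module.End F (Fin n → F) where
  toFun w i := ext0 w (σ⁻¹ i.castSucc)
  map_add' w w' := by funext i; simp only [ext0_add, Pi.add_apply]
  map_smul' c w := by funext i; simp only [ext0_smul, Pi.smul_apply, RingHom.id_apply]

lemma T_apply (σ : Perm (Fin (n + 1))) (w : Fin n → F) (i : Fin n) :
    (T σ : Module.End F (Fin n → F)) w i = ext0 w (σ⁻¹ i.castSucc) := rfl

lemma T_mul (σ τ : Perm (Fin (n + 1))) :
    (T (σ * τ) : Module.End F (Fin n → F)) = T σ * T τ := by
  apply LinearMap.ext; intro w; funext i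
  rw [Module.End.mul_apply, T_apply, T_apply]
  have h : ext0 ((T τ : Module.End F (Fin n → F)) w) = fun a => ext0 w (τ⁻¹ a) := by
    have := ext0_restrict (fun a => ext0 w (τ⁻¹ a)) (by
      rw [Equiv.sum_comp τ⁻¹ (ext0 w)]
      exact sum_ext0 w)
    exact this
  rw [h, mul_inv_rev, Perm.mul_apply]

lemma T_one : (T (1 : Perm (Fin (n + 1))) : Module.End F (Fin n → F)) = 1 := by
  apply LinearMap.ext; intro w; funext i
  rw [T_apply, inv_one, Perm.one_apply, ext0_castSucc]; rfl

/-- the matrix representation -/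
noncomputable def Mhom : Perm (Fin (n + 1)) →* Matrix (Fin n) (Fin n) F where
  toFun σ := LinearMap.toMatrix' (T σ : Module.End F (Fin n → F))
  map_one' := by rw [T_one]; exact LinearMap.toMatrix'_one
  map_mul' σ τ := by rw [T_mul]; exact LinearMap.toMatrix'_mul _ _

lemma Mhom_apply (σ : Perm (Fin (n + 1))) (i j : Fin n) :
    (Mhom σ : Matrix (Fin n) (Fin n) F) i j
      = ext0 (fun j' => if j' = j then (1 : F) else 0) (σ⁻¹ i.castSucc) := by
  show LinearMap.toMatrix' (T σ : Module.End F (Fin n → F)) i j = _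
  rw [LinearMap.toMatrix'_apply, T_apply]
  congr 1
  funext j'
  rw [Pi.single_apply]

lemma hom_swap_eq {M : Type*} [CommMonoid M] (d : Perm (Fin (n + 1)) →* M)
    {x y z w : Fin (n + 1)} (hxy : x ≠ y) (hzw : z ≠ w) : d (swap x y) = d (swap z w) := by
  obtain ⟨g, hg⟩ := isConj_iff.mp (Equiv.Perm.isConj_swap hxy hzw)
  rw [← hg, map_mul, map_mul, mul_comm (d g), mul_assoc, ← map_mul, mul_inv_cancel, map_one,
    mul_one]

lemma hom_sign {M : Type*} [CommMonoid M] (d : Perm (Fin (n + 1)) →* M)
    {a b : Fin (n + 1)} (hab : a ≠ b) (σ : Perm (Fin (n + 1))) :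
    (Perm.sign σ = 1 → d σ = 1) ∧ (Perm.sign σ = -1 → d σ = d (swap a b)) := by
  have hcc : d (swap a b) * d (swap a b) = 1 := by
    rw [← map_mul, Equiv.swap_mul_self, map_one]
  induction σ using Equiv.Perm.swap_induction_on with
  | one =>
    refine ⟨fun _ => map_one d, fun h => ?_⟩
    rw [Perm.sign_one] at h
    exact absurd h (by decide)
  | swap_mul f x y hxy ih =>
    have hs : Perm.sign (swap x y * f) = - Perm.sign f := by
      rw [Perm.sign_mul, Perm.sign_swap hxy, neg_one_mul]
    rcases Int.units_eq_one_or (Perm.sign f) with h1 | h1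
    · refine ⟨fun h => ?_, fun _ => ?_⟩
      · rw [hs, h1] at h; exact absurd h (by decide)
      · rw [map_mul, ih.1 h1, mul_one]; exact hom_swap_eq d hxy hab
    · refine ⟨fun _ => ?_, fun h => ?_⟩
      · rw [map_mul, ih.2 h1, hom_swap_eq d hxy hab]; exact hcc
      · rw [hs, h1] at h; exact absurd h (by decide)

lemma det_Mhom_of_mem (hn : 1 ≤ n) (σ : Perm (Fin (n + 1))) (hσ : σ ∈ alternatingGroup (Fin (n + 1))) :
    (Mhom σ : Matrix (Fin n) (Fin n) F).det = 1 := by
  have hab : (Fin.last n : Fin (n + 1)) ≠ 0 := by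
    intro h
    have := congrArg Fin.val h
    simp at this
    omega
  have := (hom_sign ((Matrix.detMonoidHom (n := Fin n) (R := F)).comp Mhom) hab σ).1
    (Equiv.Perm.mem_alternatingGroup.mp hσ)
  exact this

/-- the special linear representation of the alternating group -/
noncomputable def fSL (hn : 1 ≤ n) :
    alternatingGroup (Fin (n + 1)) →* Matrix.SpecialLinearGroup (Fin n) F :=
  MonoidHom.mk' (fun σ => ⟨Mhom σ.1, det_Mhom_of_mem hn σ.1 σ.2⟩)
    (fun σ τ => Subtype.ext
      (show Mhom ((σ * τ : alternatingGroup (Fin (n + 1))) : Perm (Fin (n + 1)))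
        = Mhom σ.1 * Mhom τ.1 from map_mul Mhom σ.1 τ.1))

lemma fSL_coe (hn : 1 ≤ n) (σ : alternatingGroup (Fin (n + 1))) :
    ((fSL hn σ : Matrix.SpecialLinearGroup (Fin n) F) : Matrix (Fin n) (Fin n) F) = Mhom σ.1 := rfl

lemma eq_one_of_scalar (hn : 2 ≤ n) (ρ : Perm (Fin (n + 1))) (r : F)
    (key : ∀ i j : Fin n, ext0 (fun j' => if j' = j then (1 : F) else 0) (ρ i.castSucc)
      = if i = j then r else 0) : ρ = 1 := by
  have h1 : ∀ i : Fin n, ρ i.castSucc = i.castSucc := by
    intro i
    rcases Fin.eq_castSucc_or_eq_last (ρ i.castSucc) with ⟨k, hk⟩ | hl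
    · have := key i k
      rw [hk, ext0_castSucc, if_pos rfl] at this
      by_cases hik : i = k
      · rw [hk, hik]
      · rw [if_neg hik] at this
        exact absurd this one_ne_zero
    · exfalso
      obtain ⟨j, hj⟩ : ∃ j : Fin n, i ≠ j := by
        by_cases h0 : i = ⟨0, by omega⟩
        · exact ⟨⟨1, by omega⟩, by rw [h0]; intro h; simpa using congrArg Fin.val h⟩
        · exact ⟨⟨0, by omega⟩, h0⟩
      have := key i j
      rw [hl, ext0_last, if_neg hj, Finset.sum_ite_eq' Finset.univ j (fun _ => (1 : F))] at this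
      simp at this
  have h2 : ρ (Fin.last n) = Fin.last n := by
    rcases Fin.eq_castSucc_or_eq_last (ρ (Fin.last n)) with ⟨k, hk⟩ | hl
    · exfalso
      rw [← h1 k] at hk
      have := ρ.injective hk
      exact absurd this.symm (Fin.castSucc_lt_last k).ne
    · exact hl
  apply Equiv.ext
  intro a
  refine Fin.lastCases ?_ (fun i => ?_) a
  · rw [h2]; rfl
  · rw [h1]; rfl

end aux

/-- Let n ≥ 5 and F a finite field. Then the projective special linear group PSL_n(F) contains a subgroup isomorphic to the alternating group of degree n + 1. -/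
theorem result (n : ℕ) (hn : 5 ≤ n) (F : Type*) [Field F] [Finite F] :
    ∃ f : alternatingGroup (Fin (n + 1)) →* Matrix.ProjectiveSpecialLinearGroup (Fin n) F, Function.Injective f := by
  have hn1 : 1 ≤ n := by omega
  refine ⟨(QuotientGroup.mk' (Subgroup.center (Matrix.SpecialLinearGroup (Fin n) F))).comp
    (fSL hn1), ?_⟩
  rw [injective_iff_map_eq_one]
  intro σ hσ
  have hc : fSL hn1 σ ∈ Subgroup.center (Matrix.SpecialLinearGroup (Fin n) F) :=
    (QuotientGroup.eq_one_iff _).mp hσ
  obtain ⟨r, -, hr⟩ := Matrix.SpecialLinearGroup.mem_center_iff.mp hc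
  rw [fSL_coe] at hr
  have key : ∀ i j : Fin n, ext0 (fun j' => if j' = j then (1 : F) else 0) (σ.1⁻¹ i.castSucc)
      = if i = j then r else 0 := by
    intro i j
    rw [← Mhom_apply, ← hr, Matrix.scalar_apply, Matrix.diagonal_apply]
  have h1 : σ.1⁻¹ = 1 := eq_one_of_scalar (by omega) σ.1⁻¹ r key
  apply Subtype.ext
  rw [inv_eq_one] at h1
  exact h1

end Cfsg.Agent.S4156
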