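import Mathlib
import Cfsg.Statements.S4157
import Cfsg.Agent.Lib_helper17_N4f

set_option autoImplicit false
set_option maxHeartbeats 1000000

open Cfsg

namespace Cfsg.Agent.S4157

open Cfsg.Agent.helper17.SC Cfsg.Agent.helper17.N4

/-- Let G be a finite p-group of order p^m that is not cyclic and, when p = 2, not of maximal class (nilpotency class m − 1). Then for every 1 ≤ k < m the number of subgroups of G of order p^k is congruent to 1 + p modulo p². -/
theorem result {G : Type*} [Group G] [Finite G] {p : ℕ} [Fact p.Prime] (m : ℕ)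
    (hG : Nat.card G = p ^ m) (hnc : ¬ IsCyclic G) (h2 : p = 2 → Group.nilpotencyClass G ≠ m - 1)
    (k : ℕ) (hk1 : 1 ≤ k) (hk2 : k < m) :
    Nat.card {H : Subgroup G // Nat.card H = p ^ k} ≡ 1 + p [MOD p ^ 2] := by
  have hP : IsPGroup p G := IsPGroup.of_card hG
  by_cases hp2 : p = 2
  · subst hp2
    have hcl := h2 rfl
    -- a normal four-subgroup
    obtain ⟨z, a, hnf⟩ : ∃ z a : G, NF z a := by
      rcases exists_nf_aux m G hG hnc with h | ⟨h3, hidx⟩
      · exact h
      · exact absurd (Cfsg.Agent.helper17.MC2.class_eq m G (by omega) hG hidx) hcl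
    by_cases hk : k = 1
    · subst hk
      have h4 := four_dvd_invol m hG hcl hnf
      rw [card_order_two] at h4
      rw [pow_one]
      obtain ⟨c, hc⟩ := h4
      have hc1 : 1 ≤ c := by
        rcases Nat.eq_zero_or_pos c with h | h
        · rw [h] at hc; omega
        · exact h
      show Nat.card {H : Subgroup G // Nat.card H = 2} ≡ 1 + 2 [MOD 2 ^ 2]
      have e : Nat.card {H : Subgroup G // Nat.card H = 2} = 3 + 4 * (c - 1) := by omega
      rw [e]
      show (3 + 4 * (c - 1)) % 2 ^ 2 = (1 + 2) % 2 ^ 2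
      norm_num
    · apply kulakoff_of_cyclic_count 2 m hG hnc k hk2
      intro _
      obtain ⟨c, hc⟩ := two_dvd_cyclic hP hnf (k + 1) (by omega)
      exact ⟨c, by rw [hc]; push_cast; ring⟩
  · apply kulakoff_of_cyclic_count p m hG hnc k hk2
    intro _
    obtain ⟨c, hc⟩ := miller p hp2 hP hnc (k + 1) (by omega)
    exact ⟨c, by rw [hc]; push_cast; ring⟩

end Cfsg.Agent.S4157
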