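import Cfsg.Statements.S4160
import Cfsg.Agent.Lib_helper23_HallConv

set_option autoImplicit false
open Cfsg

namespace Cfsg.Agent.S4160


theorem card_conj_union_le {G : Type*} [Group G] [Finite G] (A : Subgroup G) :
    ({x : G | x ≠ 1 ∧ ∃ g : G, g⁻¹ * x * g ∈ A} : Set G).ncard
      + (Subgroup.normalizer (A : Set G)).index
      ≤ (Subgroup.normalizer (A : Set G)).index * Nat.card A := by
  classical
  set N := Subgroup.normalizer (A : Set G) with hN
  have hsurj : Function.Surjective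
      (fun ca : (G ⧸ N) × {a : A // a ≠ 1} =>
        (⟨ca.1.out * (ca.2.1 : G) * ca.1.out⁻¹, by
          refine ⟨?_, ca.1.out, ?_⟩
          · intro h
            apply ca.2.2
            apply Subtype.ext
            have h2 : (ca.2.1 : G) = ca.1.out⁻¹ * (ca.1.out * (ca.2.1 : G) * ca.1.out⁻¹) * ca.1.out := by
              group
            rw [h2, h]; simp
          · have h2 : ca.1.out⁻¹ * (ca.1.out * (ca.2.1 : G) * ca.1.out⁻¹) * ca.1.out = (ca.2.1 : G) := by
              group
            rw [h2]; exact ca.2.1.2⟩ : {x : G // x ≠ 1 ∧ ∃ g : G, g⁻¹ * x * g ∈ A})) := by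
    rintro ⟨x, hx1, g, hg⟩
    -- g = out * n
    set c : G ⧸ N := (g : G ⧸ N) with hc
    have hn : c.out⁻¹ * g ∈ N := by
      have : ((c.out : G) : G ⧸ N) = (g : G ⧸ N) := Quotient.out_eq' c
      exact QuotientGroup.eq.mp this
    set n := c.out⁻¹ * g with hn'
    have hga : n * (g⁻¹ * x * g) * n⁻¹ ∈ A :=
      (Subgroup.mem_normalizer_iff.mp hn _).mp hg
    have hne : (⟨n * (g⁻¹ * x * g) * n⁻¹, hga⟩ : A) ≠ 1 := by
      intro h
      have h2 : n * (g⁻¹ * x * g) * n⁻¹ = 1 := congrArg Subtype.val h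
      apply hx1
      have h3 : x = g * (n⁻¹ * (n * (g⁻¹ * x * g) * n⁻¹) * n) * g⁻¹ := by group
      rw [h3, h2]; group
    refine ⟨(c, ⟨⟨n * (g⁻¹ * x * g) * n⁻¹, hga⟩, hne⟩), ?_⟩
    apply Subtype.ext
    show c.out * (n * (g⁻¹ * x * g) * n⁻¹) * c.out⁻¹ = x
    rw [hn']; group
  have h1 := Nat.card_le_card_of_surjective _ hsurj
  rw [Nat.card_prod] at h1
  have h2 : Nat.card {a : A // a ≠ 1} + 1 = Nat.card A := by
    have := Fintype.ofFinite A
    rw [Nat.card_eq_fintype_card, Nat.card_eq_fintype_card, Fintype.card_subtype_compl,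
      Fintype.card_subtype_eq]
    have : 0 < Fintype.card A := Fintype.card_pos
    omega
  have h3 : Nat.card (G ⧸ N) = N.index := rfl
  rw [h3] at h1
  rw [← Nat.card_coe_set_eq]
  have h4 : Nat.card ({x : G | x ≠ 1 ∧ ∃ g : G, g⁻¹ * x * g ∈ A} : Set G)
      ≤ N.index * Nat.card {a : A // a ≠ 1} := h1
  rw [← h2, Nat.mul_add, mul_one]
  omega

theorem normalizer_le_normalizer_centralizer {G : Type*} [Group G] (P : Subgroup G) :
    Subgroup.normalizer (P : Set G)
      ≤ Subgroup.normalizer ((Subgroup.centralizer (P : Set G) : Subgroup G) : Set G) := by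
  intro n hn
  have key : ∀ m ∈ Subgroup.normalizer (P : Set G), ∀ c ∈ Subgroup.centralizer (P : Set G),
      m * c * m⁻¹ ∈ Subgroup.centralizer (P : Set G) := by
    intro m hm c hc
    rw [Subgroup.mem_centralizer_iff] at hc ⊢
    intro y hy
    have hy' : m⁻¹ * y * m ∈ P := by
      have := (Subgroup.mem_normalizer_iff.mp (Subgroup.inv_mem _ hm) y).mp hy
      simpa using this
    have h1 := hc _ hy'
    calc y * (m * c * m⁻¹) = m * ((m⁻¹ * y * m) * c) * m⁻¹ := by group
      _ = m * (c * (m⁻¹ * y * m)) * m⁻¹ := by rw [h1]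
      _ = m * c * m⁻¹ * y := by group
  rw [Subgroup.mem_normalizer_iff]
  intro c
  constructor
  · exact key n hn c
  · intro h
    have := key n⁻¹ (Subgroup.inv_mem _ hn) _ h
    have h2 : n⁻¹ * (n * c * n⁻¹) * n⁻¹⁻¹ = c := by group
    rwa [h2] at this

theorem npc_of_normalizer_centralizer {G : Type*} [Group G] [Finite G] (p : ℕ) [Fact p.Prime]
    (P : Sylow p G)
    (h : Subgroup.normalizer ((Subgroup.centralizer ((P : Subgroup G) : Set G) : Subgroup G) : Set G)
      ≤ Subgroup.centralizer ((P : Subgroup G) : Set G)) :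
    Cfsg.HasNormalPComplement p G := by
  have hNC : Subgroup.normalizer ((P : Subgroup G) : Set G)
      ≤ Subgroup.centralizer ((P : Subgroup G) : Set G) :=
    (normalizer_le_normalizer_centralizer (P : Subgroup G)).trans h
  exact ⟨P, (MonoidHom.transferSylow P hNC).ker, inferInstance,
    MonoidHom.ker_transferSylow_isComplement' P hNC⟩

theorem cover_of_not_dvd {G : Type*} [Group G] [Finite G] (p : ℕ) [Fact p.Prime] (P : Sylow p G)
    (x : G) (h : ¬ p ∣ (Subgroup.centralizer ({x} : Set G)).index) :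
    ∃ g : G, g⁻¹ * x * g ∈ Subgroup.centralizer ((P : Subgroup G) : Set G) := by
  obtain ⟨S, hS⟩ := Cfsg.Agent.helper23.exists_sylow_le_of_not_dvd_index _ h
  obtain ⟨g, hg⟩ := MulAction.exists_smul_eq G P S
  refine ⟨g, ?_⟩
  rw [Subgroup.mem_centralizer_iff]
  intro y hy
  have h1 : g * y * g⁻¹ ∈ (S : Subgroup G) := by
    rw [← hg, Sylow.coe_subgroup_smul]
    have := Subgroup.smul_mem_pointwise_smul y (MulAut.conj g) (P : Subgroup G) hy
    simpa [MulAut.smul_def, MulAut.conj_apply] using this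
  have h2 := hS h1
  rw [Subgroup.mem_centralizer_singleton_iff] at h2
  -- h2 : g y g⁻¹ * x = x * g y g⁻¹
  calc y * (g⁻¹ * x * g) = g⁻¹ * ((g * y * g⁻¹) * x) * g := by group
    _ = g⁻¹ * (x * (g * y * g⁻¹)) * g := by rw [h2]
    _ = g⁻¹ * x * g * y := by group

theorem two_mul_card_le {G : Type*} [Group G] [Finite G] (A : Subgroup G)
    (h : ¬ Subgroup.normalizer (A : Set G) ≤ A) :
    2 * ((Subgroup.normalizer (A : Set G)).index * Nat.card A) ≤ Nat.card G := by
  set N := Subgroup.normalizer (A : Set G) with hN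
  have hAN : A ≤ N := Subgroup.le_normalizer
  obtain ⟨k, hk⟩ := Subgroup.card_dvd_of_le hAN
  have hk1 : k ≠ 1 := by
    intro h1
    rw [h1, mul_one] at hk
    exact h (Subgroup.eq_of_le_of_card_ge hAN (le_of_eq hk)).ge
  have hk0 : k ≠ 0 := by
    intro h0
    rw [h0, mul_zero] at hk
    exact Nat.card_pos.ne' hk
  have hk2 : 2 ≤ k := by omega
  have h1 : N.index * Nat.card N = Nat.card G := Subgroup.index_mul_card N
  rw [← h1, hk]
  calc 2 * (N.index * Nat.card A) ≤ k * (N.index * Nat.card A) :=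
        Nat.mul_le_mul_right _ hk2
    _ = N.index * (Nat.card A * k) := by ring

/-- Let G be a finite group and p ≠ q primes each dividing the size of some conjugacy class of G, such that no conjugacy class size is divisible by pq. Then G has a normal p-complement or a normal q-complement. -/
theorem result {G : Type*} [Group G] [Finite G] (p q : ℕ) (hp : p.Prime) (hq : q.Prime) (hpq : p ≠ q)
    (hp' : ∃ x : G, p ∣ (Subgroup.centralizer ({x} : Set G)).index) (hq' : ∃ x : G, q ∣ (Subgroup.centralizer ({x} : Set G)).index) (h : ∀ x : G, ¬ p * q ∣ (Subgroup.centralizer ({x} : Set G)).index) :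
    Cfsg.HasNormalPComplement p G ∨ Cfsg.HasNormalPComplement q G := by
  haveI : Fact p.Prime := ⟨hp⟩
  haveI : Fact q.Prime := ⟨hq⟩
  obtain ⟨P⟩ : Nonempty (Sylow p G) := inferInstance
  obtain ⟨Q⟩ : Nonempty (Sylow q G) := inferInstance
  set A : Subgroup G := Subgroup.centralizer ((P : Subgroup G) : Set G) with hA
  set B : Subgroup G := Subgroup.centralizer ((Q : Subgroup G) : Set G) with hB
  by_cases hAn : Subgroup.normalizer (A : Set G) ≤ A
  · exact Or.inl (npc_of_normalizer_centralizer p P hAn)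
  by_cases hBn : Subgroup.normalizer (B : Set G) ≤ B
  · exact Or.inr (npc_of_normalizer_centralizer q Q hBn)
  exfalso
  have cA := card_conj_union_le A
  have cB := card_conj_union_le B
  have dA := two_mul_card_le A hAn
  have dB := two_mul_card_le B hBn
  have hcover : (Set.univ : Set G) ⊆ ({1} ∪ {x : G | x ≠ 1 ∧ ∃ g : G, g⁻¹ * x * g ∈ A})
      ∪ {x : G | x ≠ 1 ∧ ∃ g : G, g⁻¹ * x * g ∈ B} := by
    intro x _
    by_cases hx1 : x = 1
    · exact Or.inl (Or.inl hx1)
    have hx := h x
    by_cases hpx : p ∣ (Subgroup.centralizer ({x} : Set G)).index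
    · have hqx : ¬ q ∣ (Subgroup.centralizer ({x} : Set G)).index := by
        intro hqx
        exact hx (Nat.Coprime.mul_dvd_of_dvd_of_dvd ((Nat.coprime_primes hp hq).mpr hpq) hpx hqx)
      exact Or.inr ⟨hx1, cover_of_not_dvd q Q x hqx⟩
    · exact Or.inl (Or.inr ⟨hx1, cover_of_not_dvd p P x hpx⟩)
  have h1 := Set.ncard_le_ncard hcover (Set.toFinite _)
  rw [Set.ncard_univ] at h1
  have h2 := Set.ncard_union_le (({1} : Set G) ∪ {x : G | x ≠ 1 ∧ ∃ g : G, g⁻¹ * x * g ∈ A})
    {x : G | x ≠ 1 ∧ ∃ g : G, g⁻¹ * x * g ∈ B}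
  have h3 := Set.ncard_union_le ({1} : Set G) {x : G | x ≠ 1 ∧ ∃ g : G, g⁻¹ * x * g ∈ A}
  rw [Set.ncard_singleton] at h3
  have iA : 0 < (Subgroup.normalizer (A : Set G)).index :=
    Nat.pos_of_ne_zero Subgroup.index_ne_zero_of_finite
  have iB : 0 < (Subgroup.normalizer (B : Set G)).index :=
    Nat.pos_of_ne_zero Subgroup.index_ne_zero_of_finite
  omega

end Cfsg.Agent.S4160
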