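import Cfsg.Statements.S4168

set_option autoImplicit false
open Cfsg

namespace Cfsg.Agent.S4168

theorem result {L : Type*} [Group L] [Finite L] (hL : Cfsg.IsQuasisimple L)
    (p : ℕ) (hp : p.Prime) (hdiv : p ∣ Nat.card (Subgroup.center L)) : p ∣ (Subgroup.center L).index := by
  by_contra hnd
  have : Fact p.Prime := ⟨hp⟩
  obtain ⟨Q⟩ : Nonempty (Sylow p (Subgroup.center L)) := inferInstance
  set H : Subgroup L := (Q : Subgroup (Subgroup.center L)).map (Subgroup.center L).subtype with hH
  have hHle : H ≤ Subgroup.center L := by
    rintro _ ⟨x, _, rfl⟩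
    exact x.2
  have hfac : (Nat.card L).factorization p = (Nat.card (Subgroup.center L)).factorization p := by
    rw [← Subgroup.card_mul_index (Subgroup.center L),
      Nat.factorization_mul Nat.card_pos.ne' Subgroup.index_ne_zero_of_finite]
    simp [Nat.factorization_eq_zero_of_not_dvd hnd]
  have hcard : Nat.card H = p ^ (Nat.card L).factorization p := by
    rw [hH, Subgroup.card_map_of_injective (Subgroup.subtype_injective _), hfac]
    exact Q.card_eq_multiplicity
  let P : Sylow p L := Sylow.ofCard H hcard
  have hPH : (P : Subgroup L) = H := Sylow.coe_ofCard H hcard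
  have hP : Subgroup.normalizer (P : Set L) ≤ Subgroup.centralizer (P : Set L) := by
    intro x _
    rw [Subgroup.mem_centralizer_iff]
    intro y hy
    have hy' : y ∈ H := by rw [← hPH]; exact hy
    exact (Subgroup.mem_center_iff.mp (hHle hy') x).symm
  have hker : (MonoidHom.transferSylow P hP).ker = ⊤ := by
    rw [eq_top_iff, ← Group.isPerfect_def.mp hL.1, commutator_eq_closure, Subgroup.closure_le]
    rintro _ ⟨a, b, rfl⟩
    rw [SetLike.mem_coe, MonoidHom.mem_ker, map_commutatorElement]
    rw [commutatorElement_eq_one_iff_mul_comm]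
    apply Subtype.ext
    simp only [Subgroup.coe_mul]
    have h1 : ((MonoidHom.transferSylow P hP a : P) : L) ∈ H := by
      rw [← hPH]; exact (MonoidHom.transferSylow P hP a).2
    exact (Subgroup.mem_center_iff.mp (hHle h1) _).symm
  have h3 := MonoidHom.not_dvd_card_ker_transferSylow P hP
  rw [hker, Subgroup.card_top] at h3
  apply h3
  exact hdiv.trans (Subgroup.card_subgroup_dvd_card _)

end Cfsg.Agent.S4168
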