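import Mathlib
import Cfsg.Statements.S4169
import Cfsg.Agent.Lib_helper21_SmallClass
import Cfsg.Agent.S0129

set_option autoImplicit false
set_option linter.style.haveILetI false
open Cfsg
open scoped commutatorElement

namespace Cfsg.Agent.S4169

/-- Let P be a finite p-group whose conjugacy classes have exactly two sizes (1 and one other value). Then P has nilpotency class at most 3. -/
theorem result {P : Type*} [Group P] [Finite P] {p : ℕ} [Fact p.Prime] (hP : IsPGroup p P)
    (m : ℕ) (hm : 1 < m) (h : ∀ x : P, (Subgroup.centralizer ({x} : Set P)).index = 1 ∨ (Subgroup.centralizer ({x} : Set P)).index = m) :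
    upperCentralSeries P 3 = ⊤ := by
  obtain ⟨A, hAn, hAc, hmax⟩ : ∃ A : Subgroup P, A.Normal ∧ IsMulCommutative A ∧
      ∀ B : Subgroup P, B.Normal → IsMulCommutative B → A ≤ B → B = A := by
    haveI : Nonempty {B : Subgroup P // B.Normal ∧ IsMulCommutative B} :=
      ⟨⟨⊥, inferInstance, ⟨⟨fun a b => by rw [Subsingleton.elim a b]⟩⟩⟩⟩
    obtain ⟨A, hA⟩ := Finite.exists_max
      (fun B : {B : Subgroup P // B.Normal ∧ IsMulCommutative B} => Nat.card B.1)
    refine ⟨A.1, A.2.1, A.2.2, fun B hBn hBc hAB => ?_⟩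
    exact (Subgroup.eq_of_le_of_card_ge hAB (hA ⟨B, hBn, hBc⟩)).symm
  haveI := hAn
  have hCA := Cfsg.Agent.S0129.centralizer_eq hP A hAc hmax
  apply Cfsg.Agent.helper21.SmallClass.ucs3_top
  intro x y z w
  refine Cfsg.Agent.helper21.SmallClass.core A hAc hCA m
    (fun x hx => by rcases h x with h1 | h1 <;> omega) ⊤ ?_ x y z w
    (Subgroup.mem_top _) (Subgroup.mem_top _) (Subgroup.mem_top _) (Subgroup.mem_top _)
  symm
  rw [eq_top_iff]
  intro x _
  exact Subgroup.subset_closure (h x)

end Cfsg.Agent.S4169
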