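import Mathlib
import Cfsg.Statements.S4170

set_option autoImplicit false
set_option linter.style.haveILetI false
open scoped Pointwise
open Cfsg

namespace Cfsg.Agent.S4170

theorem mem_orb {Γ Ω : Type*} [Group Γ] [MulAction Γ Ω] (H : Subgroup Γ) (a z : Ω) :
    z ∈ MulAction.orbit H a ↔ ∃ q ∈ H, q • a = z := by
  constructor
  · rintro ⟨q, rfl⟩; exact ⟨q.1, q.2, rfl⟩
  · rintro ⟨q, hq, rfl⟩; exact ⟨⟨q, hq⟩, rfl⟩

theorem key {Γ Ω : Type*} [Group Γ] [Finite Γ] [MulAction Γ Ω] (p : ℕ) [Fact p.Prime]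
    (P : Sylow p Γ) (a : Ω) (x0 : Γ) (hx0 : x0 ∈ (P : Subgroup Γ)) (hx0a : x0 • a ≠ a) :
    p ∣ (MulAction.stabilizer Γ ({a} : Set Ω) ⊓
      MulAction.stabilizer Γ (MulAction.orbit (P : Subgroup Γ) a \ {a})).index := by
  by_contra hnd
  have haO : a ∈ MulAction.orbit (P : Subgroup Γ) a := MulAction.mem_orbit_self a
  -- Step A: a Sylow subgroup inside the joint stabilizer
  obtain ⟨Q0⟩ : Nonempty (Sylow p ↥(MulAction.stabilizer Γ ({a} : Set Ω) ⊓
      MulAction.stabilizer Γ (MulAction.orbit (P : Subgroup Γ) a \ {a}))) := inferInstance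
  have hQ1p : IsPGroup p ((Q0 : Subgroup _).map (MulAction.stabilizer Γ ({a} : Set Ω) ⊓
      MulAction.stabilizer Γ (MulAction.orbit (P : Subgroup Γ) a \ {a})).subtype) :=
    Q0.isPGroup'.map _
  have hQ1i : ¬ p ∣ ((Q0 : Subgroup _).map (MulAction.stabilizer Γ ({a} : Set Ω) ⊓
      MulAction.stabilizer Γ (MulAction.orbit (P : Subgroup Γ) a \ {a})).subtype).index := by
    rw [Subgroup.index_map_subtype]
    exact Nat.Prime.not_dvd_mul Fact.out Q0.not_dvd_index hnd
  have hQS : ∀ q ∈ (hQ1p.toSylow hQ1i : Subgroup Γ), q • ({a} : Set Ω) = {a} ∧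
      q • (MulAction.orbit (P : Subgroup Γ) a \ {a}) = MulAction.orbit (P : Subgroup Γ) a \ {a} := by
    intro q hq
    obtain ⟨q', -, rfl⟩ := Subgroup.mem_map.mp hq
    have h2 := q'.2
    rw [Subgroup.mem_inf, MulAction.mem_stabilizer_iff, MulAction.mem_stabilizer_iff] at h2
    exact h2
  -- Step B: both Sylow subgroups stabilize the orbit
  have hPK : (P : Subgroup Γ) ≤ MulAction.stabilizer Γ (MulAction.orbit (P : Subgroup Γ) a) := by
    intro x hx
    rw [MulAction.mem_stabilizer_iff]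
    ext y
    rw [Set.mem_smul_set_iff_inv_smul_mem, mem_orb, mem_orb]
    constructor
    · rintro ⟨q, hq, h⟩
      exact ⟨x * q, mul_mem hx hq, by rw [mul_smul, h, smul_inv_smul]⟩
    · rintro ⟨q, hq, rfl⟩
      exact ⟨x⁻¹ * q, mul_mem (inv_mem hx) hq, by rw [mul_smul]⟩
  have hQK : (hQ1p.toSylow hQ1i : Subgroup Γ) ≤
      MulAction.stabilizer Γ (MulAction.orbit (P : Subgroup Γ) a) := by
    intro q hq
    obtain ⟨h1, h2⟩ := hQS q hq
    rw [MulAction.mem_stabilizer_iff]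
    have hU : ({a} : Set Ω) ∪ (MulAction.orbit (P : Subgroup Γ) a \ {a}) =
        MulAction.orbit (P : Subgroup Γ) a :=
      Set.union_sdiff_cancel (Set.singleton_subset_iff.mpr haO)
    calc q • MulAction.orbit (P : Subgroup Γ) a
        = q • (({a} : Set Ω) ∪ (MulAction.orbit (P : Subgroup Γ) a \ {a})) := by rw [hU]
      _ = q • ({a} : Set Ω) ∪ q • (MulAction.orbit (P : Subgroup Γ) a \ {a}) :=
          Set.smul_set_union
      _ = MulAction.orbit (P : Subgroup Γ) a := by rw [h1, h2, hU]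
  -- Step C: conjugacy inside the stabilizer of the orbit
  obtain ⟨k, hk⟩ := MulAction.exists_smul_eq
    ↥(MulAction.stabilizer Γ (MulAction.orbit (P : Subgroup Γ) a))
    (P.subtype hPK) ((hQ1p.toSylow hQ1i).subtype hQK)
  have hconj : ∀ x ∈ (P : Subgroup Γ), (k : Γ) * x * (k : Γ)⁻¹ ∈
      (hQ1p.toSylow hQ1i : Subgroup Γ) := by
    intro x hx
    have hx' : (⟨x, hPK hx⟩ : ↥(MulAction.stabilizer Γ (MulAction.orbit (P : Subgroup Γ) a))) ∈
        ((P.subtype hPK : Sylow p _) : Subgroup _) := by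
      rw [Sylow.coe_subtype, Subgroup.mem_subgroupOf]
      exact hx
    have h1 := Subgroup.smul_mem_pointwise_smul _ (MulAut.conj k) _ hx'
    rw [← Sylow.coe_subgroup_smul, hk, Sylow.coe_subtype, Subgroup.mem_subgroupOf] at h1
    simpa [MulAut.smul_def] using h1
  -- Step D: the contradiction
  have hkinv : (k : Γ)⁻¹ • a ∈ MulAction.orbit (P : Subgroup Γ) a := by
    have hk2 : (k : Γ)⁻¹ ∈ MulAction.stabilizer Γ (MulAction.orbit (P : Subgroup Γ) a) :=
      inv_mem k.2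
    rw [MulAction.mem_stabilizer_iff] at hk2
    have := Set.smul_mem_smul_set (a := (k : Γ)⁻¹) haO
    rw [hk2] at this
    exact this
  obtain ⟨q, hq, hqa⟩ := (mem_orb _ _ _).mp hkinv
  have hxP : q * x0 * q⁻¹ ∈ (P : Subgroup Γ) := mul_mem (mul_mem hq hx0) (inv_mem hq)
  have hfix := (hQS _ (hconj _ hxP)).1
  rw [Set.smul_set_singleton, Set.singleton_eq_singleton_iff] at hfix
  apply hx0a
  have h3 : (q * x0 * q⁻¹) • ((k : Γ)⁻¹ • a) = (k : Γ)⁻¹ • a := by
    have h4 := congrArg (fun z => (k : Γ)⁻¹ • z) hfix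
    simp only [mul_smul, inv_smul_smul] at h4
    simpa [mul_smul] using h4
  rw [← hqa] at h3
  simp only [mul_smul, inv_smul_smul] at h3
  exact (MulAction.injective q) h3

/-- Let p be an odd prime and G a nontrivial group of permutations of a finite set Ω that is generated by its elements of p-power order. Then Ω has two disjoint nonempty subsets Δ₁ and Δ₂ such that the index in G of the subgroup of elements mapping Δ₁ onto Δ₁ and Δ₂ onto Δ₂ (and hence also the complement of their union onto itself) is divisible by p. -/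
theorem result {Ω : Type*} [Fintype Ω] (p : ℕ) [Fact p.Prime] (hp : p ≠ 2) (G : Subgroup (Equiv.Perm Ω)) (hG : G ≠ ⊥) (hgen : Subgroup.closure {g : G | ∃ k : ℕ, orderOf g = p ^ k} = ⊤) :
    ∃ Δ₁ Δ₂ : Set Ω, Δ₁.Nonempty ∧ Δ₂.Nonempty ∧ Disjoint Δ₁ Δ₂ ∧ p ∣ (MulAction.stabilizer G Δ₁ ⊓ MulAction.stabilizer G Δ₂).index := by
  haveI : Finite ↥G := inferInstance
  -- a nontrivial element of `p`-power order
  have hex : ∃ g0 : ↥G, g0 ≠ 1 ∧ ∃ k : ℕ, orderOf g0 = p ^ k := by
    by_contra hno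
    push Not at hno
    apply hG
    have hle : Subgroup.closure {g : ↥G | ∃ k : ℕ, orderOf g = p ^ k} ≤ ⊥ := by
      rw [Subgroup.closure_le]
      intro g hg
      obtain ⟨k, hk⟩ := hg
      by_contra hg1
      exact hno g (fun h => hg1 (by rw [h]; exact Subgroup.mem_bot.mpr rfl)) k hk
    rw [hgen] at hle
    rw [Subgroup.eq_bot_iff_forall]
    intro g hg
    have h1 : (⟨g, hg⟩ : ↥G) ∈ (⊥ : Subgroup ↥G) := hle (Subgroup.mem_top _)
    have h2 := Subgroup.mem_bot.mp h1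
    exact congrArg Subtype.val h2
  obtain ⟨g0, hg01, k, hk⟩ := hex
  have hpg : IsPGroup p (Subgroup.zpowers g0) :=
    IsPGroup.of_card (n := k) (by rw [Nat.card_zpowers, hk])
  obtain ⟨P, hP⟩ := hpg.exists_le_sylow
  have hg0P : g0 ∈ (P : Subgroup ↥G) := hP (Subgroup.mem_zpowers g0)
  have hmove : ∃ a : Ω, g0 • a ≠ a := by
    by_contra hno
    push Not at hno
    apply hg01
    apply Subtype.ext
    apply Equiv.ext
    intro a
    exact hno a
  obtain ⟨a, ha⟩ := hmove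
  refine ⟨{a}, MulAction.orbit (P : Subgroup ↥G) a \ {a}, Set.singleton_nonempty a, ?_,
    Set.disjoint_sdiff_right, key p P a g0 hg0P ha⟩
  exact ⟨g0 • a, (mem_orb _ _ _).mpr ⟨g0, hg0P, rfl⟩, ha⟩

end Cfsg.Agent.S4170
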