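import Cfsg.Statements.S4172
import Cfsg.Agent.Lib_helper23_TwoGen4

set_option autoImplicit false
open Cfsg

namespace Cfsg.Agent.S4172

/-- Let p be a prime and G a finite group with a non-commutative Sylow p-subgroup P whose Frattini subgroup has index p² in P (P is generated by two elements). Suppose G has no nontrivial normal subgroup of order prime to p and the Frattini subgroup of P contains no nontrivial normal subgroup of G. Then the generalized Fitting subgroup F*(G) is the unique minimal normal subgroup of G, the image of P in G/F*(G) is cyclic, and if F*(G) is not commutative then P permutes the components of G transitively by conjugation. -/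
theorem result {G : Type*} [Group G] [Finite G] (p : ℕ) [Fact p.Prime] (P : Sylow p G) (hna : ¬ IsMulCommutative (P : Subgroup G)) (hgen : (frattini ↥(P : Subgroup G)).index = p ^ 2) (hcore : Cfsg.pPrimeCore p G = ⊥) (hfrat : ((frattini ↥(P : Subgroup G)).map (P : Subgroup G).subtype).normalCore = ⊥) [hFn : (Cfsg.generalizedFittingSubgroup G).Normal] :
    (Cfsg.generalizedFittingSubgroup G ≠ ⊥ ∧ ∀ K : Subgroup G, K.Normal → K ≠ ⊥ → Cfsg.generalizedFittingSubgroup G ≤ K) ∧
      IsCyclic ↥((P : Subgroup G).map (QuotientGroup.mk' (Cfsg.generalizedFittingSubgroup G))) ∧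
      (¬ IsMulCommutative (Cfsg.generalizedFittingSubgroup G) → ∀ K L : Subgroup G, Cfsg.IsComponent K → Cfsg.IsComponent L → ∃ x ∈ (P : Subgroup G), L = K.map (MulAut.conj x).toMonoidHom) := by
  classical
  have H : Cfsg.Agent.helper23.TwoGen.Hyp p P := ⟨hna, hgen, hcore, hfrat⟩
  obtain ⟨N, hNn, hN0, hmin, hF, hnab⟩ := Cfsg.Agent.helper23.TwoGen.main_struct H
  subst hF
  refine ⟨⟨hN0, fun K hK hK0 => hmin K hK hK0⟩, ?_, ?_⟩
  · obtain ⟨x, hxP, hx⟩ := H.gen_mod (Cfsg.generalizedFittingSubgroup G) hN0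
    refine ⟨⟨⟨QuotientGroup.mk' (Cfsg.generalizedFittingSubgroup G) x,
      Subgroup.mem_map_of_mem _ hxP⟩, fun z => ?_⟩⟩
    obtain ⟨q, hq⟩ := z
    obtain ⟨y, hy, rfl⟩ := hq
    obtain ⟨k, n, hn, hyk⟩ := hx y hy
    refine Subgroup.mem_zpowers_iff.2 ⟨k, Subtype.ext ?_⟩
    rw [Subgroup.coe_zpow]
    show (QuotientGroup.mk' (Cfsg.generalizedFittingSubgroup G) x) ^ k =
      QuotientGroup.mk' (Cfsg.generalizedFittingSubgroup G) y
    rw [hyk, map_mul, map_zpow]
    have h1 : QuotientGroup.mk' (Cfsg.generalizedFittingSubgroup G) n = 1 :=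
      (QuotientGroup.eq_one_iff n).2 hn
    rw [h1, mul_one]
  · intro hnc K L hK hL
    have hnab' : ¬ ∀ a ∈ Cfsg.generalizedFittingSubgroup G,
        ∀ b ∈ Cfsg.generalizedFittingSubgroup G, a * b = b * a := by
      intro hab
      apply hnc
      exact ⟨⟨fun a b => Subtype.ext (hab a a.2 b b.2)⟩⟩
    obtain ⟨hC, hlay⟩ := hnab hnab'
    exact Cfsg.Agent.helper23.TwoGen.transitive_comp H _ hlay hC K L hK hL

end Cfsg.Agent.S4172
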