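import Mathlib
import Cfsg.Statements.S4176
import Cfsg.Agent.Lib_helper21_CopOrb

set_option autoImplicit false
open Cfsg

namespace Cfsg.Agent.S4176

open Cfsg.Agent.helper21.CopOrb in
/-- Let k be a field of prime characteristic p, H a finite p-soluble group and ρ a k-linear representation of H on V. Let a be a vector that is fixed by some Sylow p-subgroup of H and whose H-orbit spans V. Then the space of H-fixed vectors has dimension at most 1, and every vector b whose H-orbit has size coprime to the size of the orbit of a is fixed by H. -/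
theorem result {k V H : Type*} [Field k] (p : ℕ) [Fact p.Prime] [CharP k p] [AddCommGroup V] [Module k V]
    [Group H] [Finite H] (hsol : Cfsg.IsPSolvable p H) (ρ : Representation k H V) (a : V)
    (hfix : ∃ P : Sylow p H, ∀ x : H, x ∈ (P : Subgroup H) → ρ x a = a)
    (hspan : Submodule.span k {u : V | ∃ h : H, ρ h a = u} = ⊤) :
    Module.finrank k ρ.invariants ≤ 1 ∧
    ∀ b : V, (Nat.card {u : V | ∃ h : H, ρ h a = u}).Coprime (Nat.card {u : V | ∃ h : H, ρ h b = u}) → ∀ h : H, ρ h b = b := by
  obtain ⟨⟨v0, hv0, hall⟩, h2⟩ := main p (Nat.card H) H V ρ a rfl hsol hfix hspan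
  refine ⟨?_, h2⟩
  apply finrank_le_one (⟨v0, hv0⟩ : ρ.invariants)
  rintro ⟨w, hw⟩
  obtain ⟨c, hc⟩ := hall w hw
  exact ⟨c, Subtype.ext hc⟩

end Cfsg.Agent.S4176
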