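import Cfsg.Statements.S4177
import Cfsg.Agent.Lib_helper21_Basic

set_option autoImplicit false
open Cfsg

namespace Cfsg.Agent.S4177

open Cfsg.Agent.helper21

theorem result {k V H : Type*} [Field k] [AddCommGroup V] [Module k V] [Group H] [Finite H]
    (hchar : ¬ ringChar k ∣ Nat.card H) (ρ : Representation k H V) (a : V)
    (hspan : Submodule.span k {u : V | ∃ h : H, ρ h a = u} = ⊤) :
    Module.finrank k ρ.invariants ≤ 1 ∧
    ∀ b : V, (Nat.card {u : V | ∃ h : H, ρ h a = u}).Coprime (Nat.card {u : V | ∃ h : H, ρ h b = u}) → ∀ h : H, ρ h b = b := by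
  classical
  let _ : Fintype H := Fintype.ofFinite H
  have hN : (Nat.card H : k) ≠ 0 := by
    rw [Ne, ringChar.spec]; exact hchar
  -- the sum operator over a subgroup
  let E : Subgroup H → V →ₗ[k] V := fun B => ∑ β : B, ρ (β : H)
  have hE : ∀ (B : Subgroup H) (v : V), E B v = ∑ β : B, ρ (β : H) v := by
    intro B v
    simp [E, LinearMap.sum_apply]
  have hEfix : ∀ (B : Subgroup H) (v : V), (∀ β ∈ B, ρ β v = v) → E B v = (Nat.card B : k) • v := by
    intro B v hv
    rw [hE]
    rw [Finset.sum_congr rfl (fun (β : B) _ => hv β.1 β.2)]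
    simp [Finset.sum_const, Finset.card_univ, Nat.card_eq_fintype_card, Nat.cast_smul_eq_nsmul]
  have hEinv : ∀ (B : Subgroup H) (v : V) (β₀ : H), β₀ ∈ B → ρ β₀ (E B v) = E B v := by
    intro B v β₀ hβ₀
    rw [hE, map_sum]
    have : ∀ β : B, ρ β₀ (ρ (β : H) v) = ρ ((⟨β₀, hβ₀⟩ * β : B) : H) v := by
      intro β
      simp [map_mul]
    simp_rw [this]
    exact Fintype.sum_bijective (fun β : B => ⟨β₀, hβ₀⟩ * β) (Group.mulLeft_bijective _) _ _ (fun _ => rfl)
  have hEright : ∀ (B : Subgroup H) (v : V) (β₀ : H), β₀ ∈ B → E B (ρ β₀ v) = E B v := by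
    intro B v β₀ hβ₀
    rw [hE, hE]
    have : ∀ β : B, ρ (β : H) (ρ β₀ v) = ρ ((β * ⟨β₀, hβ₀⟩ : B) : H) v := by
      intro β
      simp [map_mul]
    simp_rw [this]
    exact Fintype.sum_bijective (fun β : B => β * ⟨β₀, hβ₀⟩) (Group.mulRight_bijective _) _ _ (fun _ => rfl)
  have hcardB : ∀ B : Subgroup H, (Nat.card B : k) ≠ 0 := by
    intro B hB
    apply hN
    rw [← Subgroup.card_mul_index B, Nat.cast_mul, hB, zero_mul]
  -- E ⊤ a is invariant
  have hEtop : ∀ v : V, ∀ h : H, ρ h (E ⊤ v) = E ⊤ v := fun v h => hEinv ⊤ v h (Subgroup.mem_top h)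
  constructor
  · -- invariants ≤ span {E ⊤ a}
    have hle : ρ.invariants ≤ Submodule.span k {E ⊤ a} := by
      intro v hv
      have hv' : ∀ β ∈ (⊤ : Subgroup H), ρ β v = v := fun β _ => hv β
      have h1 := hEfix ⊤ v hv'
      have h2 : E ⊤ v ∈ Submodule.span k {E ⊤ a} := by
        have hmem : v ∈ Submodule.span k {u : V | ∃ h : H, ρ h a = u} := by rw [hspan]; trivial
        refine Submodule.span_induction (p := fun x _ => E ⊤ x ∈ Submodule.span k {E ⊤ a}) ?_ ?_ ?_ ?_ hmem
        · rintro x ⟨h, rfl⟩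
          rw [hEright ⊤ a h (Subgroup.mem_top h)]
          exact Submodule.subset_span rfl
        · simp
        · intro x y _ _ hx hy
          rw [map_add]; exact Submodule.add_mem _ hx hy
        · intro c x _ hx
          rw [map_smul]; exact Submodule.smul_mem _ c hx
      have h3 : v = (Nat.card (⊤ : Subgroup H) : k)⁻¹ • E ⊤ v := by
        rw [h1, smul_smul, inv_mul_cancel₀ (hcardB ⊤), one_smul]
      rw [h3]
      exact Submodule.smul_mem _ _ h2
    calc Module.finrank k ρ.invariants ≤ Module.finrank k (Submodule.span k {E ⊤ a}) :=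
          Submodule.finrank_mono hle
      _ ≤ 1 := by
          by_cases h0 : E ⊤ a = 0
          · rw [h0, Submodule.span_zero_singleton, finrank_bot]; exact Nat.zero_le 1
          · rw [finrank_span_singleton h0]
  · intro b hcop h
    let _ : MulAction H V := MulAction.compHom V (ρ : H →* Module.End k V)
    have hsmul : ∀ (x : H) (v : V), x • v = ρ x v := fun x v => rfl
    set A := MulAction.stabilizer H a with hA
    set B := MulAction.stabilizer H b with hB
    have hAidx : A.index = Nat.card {u : V | ∃ h : H, ρ h a = u} := by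
      rw [hA, MulAction.index_stabilizer, ← Nat.card_coe_set_eq]
      rfl
    have hBidx : B.index = Nat.card {u : V | ∃ h : H, ρ h b = u} := by
      rw [hB, MulAction.index_stabilizer, ← Nat.card_coe_set_eq]
      rfl
    rw [← hAidx, ← hBidx] at hcop
    have hAfix : ∀ α ∈ A, ρ α a = a := fun α hα => hα
    have hBfix : ∀ β ∈ B, ρ β b = b := fun β hβ => hβ
    -- E B is constant on the orbit of a
    have hconst : ∀ x : H, E B (ρ x a) = E B a := by
      intro x
      obtain ⟨β, hβ, α, hα, rfl⟩ := exists_mul_of_coprime_index A B hcop x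
      rw [map_mul, Module.End.mul_apply, hAfix α hα, hEright B a β hβ]
    -- E B (E ⊤ a) in two ways
    have h1 : E B (E ⊤ a) = (Nat.card H : k) • E B a := by
      rw [hE ⊤ a, map_sum]
      have : ∀ x : (⊤ : Subgroup H), E B (ρ (x : H) a) = E B a := fun x => hconst x
      rw [Finset.sum_congr rfl (fun x _ => this x)]
      simp [Finset.sum_const, Finset.card_univ, Nat.cast_smul_eq_nsmul, Nat.card_eq_fintype_card]
    have h2 : E B (E ⊤ a) = (Nat.card B : k) • E ⊤ a := hEfix B _ (fun β _ => hEtop a β)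
    have hw : ∀ x : H, ρ x (E B a) = E B a := by
      intro x
      have : E B a = (Nat.card H : k)⁻¹ • ((Nat.card B : k) • E ⊤ a) := by
        rw [← h2, h1, smul_smul, inv_mul_cancel₀ hN, one_smul]
      rw [this, map_smul, map_smul, hEtop]
    -- E B b is invariant
    have hb1 : ∀ x : H, ρ x (E B b) = E B b := by
      have hmem : b ∈ Submodule.span k {u : V | ∃ h : H, ρ h a = u} := by rw [hspan]; trivial
      refine Submodule.span_induction (p := fun v _ => ∀ x : H, ρ x (E B v) = E B v) ?_ ?_ ?_ ?_ hmem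
      · rintro v ⟨y, rfl⟩ x
        rw [hconst y, hw x]
      · intro x; simp
      · intro v w _ _ hv hw' x
        rw [map_add, map_add, hv x, hw' x]
      · intro c v _ hv x
        rw [map_smul, map_smul, hv x]
    have hb2 : E B b = (Nat.card B : k) • b := hEfix B b hBfix
    have hb3 : b = (Nat.card B : k)⁻¹ • E B b := by
      rw [hb2, smul_smul, inv_mul_cancel₀ (hcardB B), one_smul]
    rw [hb3, map_smul, hb1 h]

end Cfsg.Agent.S4177
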