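import Mathlib
import Cfsg.Statements.S4178

set_option autoImplicit false
open Cfsg

namespace Cfsg.Agent.S4178

section
variable {F V : Type*} [Field F] [Fintype F] [AddCommGroup V] [Module F V] [FiniteDimensional F V]

/-- number of nonzero elements of a finite-dimensional space over a finite field -/
theorem card_ne_zero (U : Type*) [AddCommGroup U] [Module F U] [FiniteDimensional F U] :
    Nat.card {u : U // u ≠ 0} = Fintype.card F ^ Module.finrank F U - 1 := by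
  classical
  have hfin : Finite U := Module.finite_of_finite F
  have h1 : Nat.card U = Fintype.card F ^ Module.finrank F U := by
    rw [Module.natCard_eq_pow_finrank (K := F) (V := U), Nat.card_eq_fintype_card]
  have h2 : Nat.card (Option {u : U // u ≠ 0}) = Nat.card U :=
    Nat.card_congr (Equiv.optionSubtypeNe (0 : U))
  rw [Finite.card_option] at h2
  omega

variable (H : Subgroup (V ≃ₗ[F] V))

theorem index_le_of_invariant (W : Submodule F V) (hW : ∀ h ∈ H, ∀ w ∈ W, h w ∈ W) (hne : W ≠ ⊥) :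
    (Subgroup.closure {h : ↥H | ∃ v : V, v ≠ 0 ∧ (h : V ≃ₗ[F] V) v = v}).index ≤
      Fintype.card F ^ Module.finrank F W - 1 := by
  have hfin : Finite V := Module.finite_of_finite F
  obtain ⟨v₀, hv₀W, hv₀⟩ := (Submodule.ne_bot_iff W).mp hne
  rw [← card_ne_zero (F := F) W, Subgroup.index_eq_card]
  set R := Subgroup.closure {h : ↥H | ∃ v : V, v ≠ 0 ∧ (h : V ≃ₗ[F] V) v = v} with hR
  have hmemW : ∀ h : ↥H, ((h⁻¹ : ↥H) : V ≃ₗ[F] V) v₀ ∈ W := fun h => hW _ (h⁻¹).2 _ hv₀W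
  have hne0 : ∀ h : ↥H, (⟨((h⁻¹ : ↥H) : V ≃ₗ[F] V) v₀, hmemW h⟩ : W) ≠ 0 := by
    intro h h0
    have : ((h⁻¹ : ↥H) : V ≃ₗ[F] V) v₀ = 0 := congrArg Subtype.val h0
    exact hv₀ ((LinearEquiv.map_eq_zero_iff _).mp this)
  apply Nat.card_le_card_of_injective
    (fun c : ↥H ⧸ R => (⟨⟨((c.out⁻¹ : ↥H) : V ≃ₗ[F] V) v₀, hmemW c.out⟩, hne0 c.out⟩ : {w : W // w ≠ 0}))
  intro c1 c2 h12
  have h12' : ((c1.out⁻¹ : ↥H) : V ≃ₗ[F] V) v₀ = ((c2.out⁻¹ : ↥H) : V ≃ₗ[F] V) v₀ := by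
    have := congrArg (fun x : {w : W // w ≠ 0} => ((x : W) : V)) h12
    exact this
  rw [← QuotientGroup.out_eq' c1, ← QuotientGroup.out_eq' c2, QuotientGroup.eq]
  apply Subgroup.subset_closure
  refine ⟨((c2.out⁻¹ : ↥H) : V ≃ₗ[F] V) v₀, ?_, ?_⟩
  · intro h0
    exact hv₀ ((LinearEquiv.map_eq_zero_iff _).mp h0)
  · have e1 : ((c1.out⁻¹ * c2.out : ↥H) : V ≃ₗ[F] V) (((c2.out⁻¹ : ↥H) : V ≃ₗ[F] V) v₀) =
        ((c1.out⁻¹ : ↥H) : V ≃ₗ[F] V) v₀ := by
      rw [Subgroup.coe_mul, LinearEquiv.mul_apply]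
      congr 1
      rw [← LinearEquiv.mul_apply, ← Subgroup.coe_mul, mul_inv_cancel]
      rfl
    rw [e1, h12']

omit [Fintype F] in
theorem exists_fixed_of_quot_fixed (g : V ≃ₗ[F] V) (W : Submodule F V) (hgW : ∀ w ∈ W, g w ∈ W)
    (u : V) (hu : u ∉ W) (hgu : g u - u ∈ W) : ∃ v : V, v ≠ 0 ∧ g v = v := by
  by_contra hno
  push Not at hno
  set f : V →ₗ[F] V := (g : V →ₗ[F] V) - LinearMap.id with hf
  have hfapp : ∀ v, f v = g v - v := fun v => by simp [hf]
  have hinj : Function.Injective f := by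
    rw [← LinearMap.ker_eq_bot, LinearMap.ker_eq_bot']
    intro v hv
    rw [hfapp, sub_eq_zero] at hv
    by_contra hv0
    exact hno v hv0 hv
  have hfW : ∀ w ∈ W, f w ∈ W := fun w hw => by
    rw [hfapp]; exact W.sub_mem (hgW w hw) hw
  have hinjW : Function.Injective (f.restrict hfW) := by
    intro a b hab
    have : f a = f b := by
      have := congrArg Subtype.val hab
      simpa using this
    exact Subtype.ext (hinj this)
  have hsurjW : Function.Surjective (f.restrict hfW) := LinearMap.injective_iff_surjective.mp hinjW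
  have hfu : f u ∈ W := by rw [hfapp]; exact hgu
  obtain ⟨w, hw⟩ := hsurjW ⟨f u, hfu⟩
  have : f w = f u := by
    have := congrArg Subtype.val hw
    simpa using this
  have hwu : (w : V) = u := hinj this
  exact hu (hwu ▸ w.2)

theorem index_le_of_invariant_quot (W : Submodule F V) (hW : ∀ h ∈ H, ∀ w ∈ W, h w ∈ W) (hne : W ≠ ⊤) :
    (Subgroup.closure {h : ↥H | ∃ v : V, v ≠ 0 ∧ (h : V ≃ₗ[F] V) v = v}).index ≤
      Fintype.card F ^ Module.finrank F (V ⧸ W) - 1 := by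
  have hfin : Finite V := Module.finite_of_finite F
  have hfinQ : Finite (V ⧸ W) := Module.finite_of_finite F
  obtain ⟨v₀, -, hv₀⟩ := SetLike.exists_of_lt (lt_top_iff_ne_top.mpr hne)
  rw [← card_ne_zero (F := F) (V ⧸ W), Subgroup.index_eq_card]
  set R := Subgroup.closure {h : ↥H | ∃ v : V, v ≠ 0 ∧ (h : V ≃ₗ[F] V) v = v} with hR
  have hnotW : ∀ h : ↥H, ((h⁻¹ : ↥H) : V ≃ₗ[F] V) v₀ ∉ W := by
    intro h hmem
    have := hW _ h.2 _ hmem
    have e : (h : V ≃ₗ[F] V) (((h⁻¹ : ↥H) : V ≃ₗ[F] V) v₀) = v₀ := by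
      rw [← LinearEquiv.mul_apply, ← Subgroup.coe_mul, mul_inv_cancel]
      rfl
    rw [e] at this
    exact hv₀ this
  have hne0 : ∀ h : ↥H, W.mkQ (((h⁻¹ : ↥H) : V ≃ₗ[F] V) v₀) ≠ 0 := by
    intro h h0
    rw [Submodule.mkQ_apply, Submodule.Quotient.mk_eq_zero] at h0
    exact hnotW h h0
  apply Nat.card_le_card_of_injective
    (fun c : ↥H ⧸ R => (⟨W.mkQ (((c.out⁻¹ : ↥H) : V ≃ₗ[F] V) v₀), hne0 c.out⟩ : {x : V ⧸ W // x ≠ 0}))
  intro c1 c2 h12
  have h12' : W.mkQ (((c1.out⁻¹ : ↥H) : V ≃ₗ[F] V) v₀) = W.mkQ (((c2.out⁻¹ : ↥H) : V ≃ₗ[F] V) v₀) :=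
    congrArg Subtype.val h12
  rw [Submodule.mkQ_apply, Submodule.mkQ_apply, Submodule.Quotient.eq] at h12'
  rw [← QuotientGroup.out_eq' c1, ← QuotientGroup.out_eq' c2, QuotientGroup.eq]
  apply Subgroup.subset_closure
  have e1 : ((c1.out⁻¹ * c2.out : ↥H) : V ≃ₗ[F] V) (((c2.out⁻¹ : ↥H) : V ≃ₗ[F] V) v₀) =
      ((c1.out⁻¹ : ↥H) : V ≃ₗ[F] V) v₀ := by
    rw [Subgroup.coe_mul, LinearEquiv.mul_apply]
    congr 1
    rw [← LinearEquiv.mul_apply, ← Subgroup.coe_mul, mul_inv_cancel]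
    rfl
  apply exists_fixed_of_quot_fixed _ W (fun w hw => hW _ (c1.out⁻¹ * c2.out).2 w hw)
    (((c2.out⁻¹ : ↥H) : V ≃ₗ[F] V) v₀) (hnotW c2.out)
  rw [e1]
  exact h12'

end

theorem real_bound (q d k m idx : ℕ) (hq : 1 ≤ q) (hd : m + k = d) (hkm : k ≤ m) (h : idx ≤ q ^ k - 1) :
    (idx : ℝ) ≤ Real.sqrt ((q : ℝ) ^ d) - 1 := by
  have h1 : 1 ≤ q ^ k := Nat.one_le_pow _ _ hq
  have h2 : idx + 1 ≤ q ^ k := by omega
  have h3 : ((idx : ℝ) + 1) ≤ (q : ℝ) ^ k := by exact_mod_cast h2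
  have h4 : (q : ℝ) ^ k ≤ Real.sqrt ((q : ℝ) ^ d) := by
    apply Real.le_sqrt_of_sq_le
    rw [← pow_mul]
    apply pow_le_pow_right₀ (by exact_mod_cast hq)
    omega
  linarith

/-- Let F be a finite field with q elements, V a non-zero finite-dimensional F-space of dimension d, H a group of invertible linear maps of V, and R the subgroup of H generated by the elements of H that fix some non-zero vector (have eigenvalue 1). Then the index of R in H is at most q^d − 1; and if H leaves invariant some proper non-zero subspace, the index is at most q^(d/2) − 1. -/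
theorem result {F V : Type*} [Field F] [Fintype F] [AddCommGroup V] [Module F V] [FiniteDimensional F V] [Nontrivial V]
    (H : Subgroup (V ≃ₗ[F] V)) :
    (Subgroup.closure {h : ↥H | ∃ v : V, v ≠ 0 ∧ (h : V ≃ₗ[F] V) v = v}).index ≤ Fintype.card F ^ Module.finrank F V - 1 ∧
    ((∃ W : Submodule F V, W ≠ ⊥ ∧ W ≠ ⊤ ∧ ∀ h ∈ H, ∀ w ∈ W, h w ∈ W) →
      ((Subgroup.closure {h : ↥H | ∃ v : V, v ≠ 0 ∧ (h : V ≃ₗ[F] V) v = v}).index : ℝ) ≤ Real.sqrt ((Fintype.card F : ℝ) ^ Module.finrank F V) - 1) := by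
  constructor
  · have := index_le_of_invariant H ⊤ (fun _ _ _ _ => Submodule.mem_top) top_ne_bot
    rw [finrank_top] at this
    exact this
  · rintro ⟨W, hW0, hW1, hW⟩
    have hA := index_le_of_invariant H W hW hW0
    have hB := index_le_of_invariant_quot H W hW hW1
    have hd := Submodule.finrank_quotient_add_finrank W
    have hq : 1 ≤ Fintype.card F := Fintype.card_pos
    rcases le_total (Module.finrank F W) (Module.finrank F (V ⧸ W)) with hkm | hkm
    · exact real_bound _ _ _ _ _ hq hd hkm hA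
    · exact real_bound _ _ _ _ _ hq (by rw [add_comm]; exact hd) hkm hB

end Cfsg.Agent.S4178
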