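import Cfsg.Statements.S4186

set_option autoImplicit false
open Cfsg

namespace Cfsg.Agent.S4186

theorem result {G : Type*} [Group G] (T X : Subgroup G) [Finite ↥T] (hT : IsPGroup 2 ↥T) (hTN : T ≤ Subgroup.normalizer (X : Set G)) (hTC : ¬ T ≤ Subgroup.centralizer (X : Set G)) : ∃ t ∈ T, ∃ x ∈ X, x ≠ 1 ∧ t * x * t⁻¹ = x⁻¹ := by
  classical
  obtain ⟨t0, ht0T, ht0C⟩ := SetLike.not_le_iff_exists.mp hTC
  obtain ⟨k, hk⟩ := hT ⟨t0, ht0T⟩
  have hk' : t0 ^ 2 ^ k = 1 := by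
    have := congrArg Subtype.val hk
    simpa using this
  have hex : ∃ i, t0 ^ 2 ^ i ∈ Subgroup.centralizer (X : Set G) := ⟨k, by rw [hk']; exact Subgroup.one_mem _⟩
  have hi0 : Nat.find hex ≠ 0 := by
    intro h0
    have := Nat.find_spec hex
    rw [h0] at this
    simp at this
    exact ht0C this
  obtain ⟨j, hj⟩ := Nat.exists_eq_succ_of_ne_zero hi0
  set t := t0 ^ 2 ^ j with ht
  have htT : t ∈ T := T.pow_mem ht0T _
  have htC : t ∉ Subgroup.centralizer (X : Set G) := Nat.find_min hex (by omega)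
  have ht2 : t ^ 2 ∈ Subgroup.centralizer (X : Set G) := by
    have := Nat.find_spec hex
    rw [hj, pow_succ, pow_mul] at this
    exact this
  rw [Subgroup.mem_centralizer_iff] at htC
  push Not at htC
  obtain ⟨x, hxX, hxt⟩ := htC
  have htx : t * x * t⁻¹ ∈ X := ((Subgroup.mem_normalizer_iff.mp (hTN htT)) x).mp hxX
  refine ⟨t, htT, x⁻¹ * (t * x * t⁻¹), X.mul_mem (X.inv_mem hxX) htx, ?_, ?_⟩
  · intro h
    apply hxt
    have : t * x * t⁻¹ = x := by
      calc t * x * t⁻¹ = x * (x⁻¹ * (t * x * t⁻¹)) := by group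
        _ = x := by rw [h, mul_one]
    calc x * t = (t * x * t⁻¹) * t := by rw [this]
      _ = t * x := by group
  · have h2 := (Subgroup.mem_centralizer_iff.mp ht2) x hxX
    -- h2 : x * t^2 = t^2 * x
    have h3 : t ^ 2 * x * (t ^ 2)⁻¹ = x := by
      rw [← h2]; group
    calc t * (x⁻¹ * (t * x * t⁻¹)) * t⁻¹ = (t * x * t⁻¹)⁻¹ * (t ^ 2 * x * (t ^ 2)⁻¹) := by group
      _ = (t * x * t⁻¹)⁻¹ * x := by rw [h3]
      _ = (x⁻¹ * (t * x * t⁻¹))⁻¹ := by group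

end Cfsg.Agent.S4186
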