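import Mathlib
import Cfsg.Statements.S4189
import Cfsg.Agent.Lib_helper17_MaxClass2
import Cfsg.Agent.Lib_helper11_QuatPres

set_option autoImplicit false

open Cfsg

namespace Cfsg.Agent.S4189

open Cfsg.Agent.helper17.MC2

open scoped commutatorElement

theorem two_pow_dvd_odd_pow_sub_one (k : ℤ) (hk : Odd k) (j : ℕ) :
    (2 : ℤ) ^ (j + 1) ∣ k ^ (2 ^ j) - 1 := by
  induction j with
  | zero =>
    obtain ⟨t, rfl⟩ := hk
    simp only [zero_add, pow_zero, pow_one]
    exact ⟨t, by ring⟩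
  | succ j ih =>
    have h1 : k ^ (2 ^ (j + 1)) - 1 = (k ^ (2 ^ j) - 1) * (k ^ (2 ^ j) + 1) := by
      rw [pow_succ 2 j, pow_mul]; ring
    rw [h1, pow_succ (2 : ℤ) (j + 1)]
    apply mul_dvd_mul ih
    obtain ⟨t, ht⟩ := (hk.pow : Odd (k ^ (2 ^ j)))
    exact ⟨t + 1, by rw [ht]; ring⟩

theorem mul_inv_mem_of_index_two {P : Type*} [Group P] (H : Subgroup P) (hidx : H.index = 2)
    {x b : P} (hx : x ∉ H) (hb : b ∉ H) : x * b⁻¹ ∈ H := by
  rw [Subgroup.mul_mem_iff_of_index_two hidx]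
  constructor
  · intro h; exact absurd h hx
  · intro h; exact absurd ((Subgroup.inv_mem_iff _).1 h) hb

/-- an automorphism preserving a cyclic subgroup `⟨a⟩` of index 2 and order `2^m` has 2-power
order -/
theorem aut_pow_eq_one {P : Type*} [Group P] (m : ℕ) (hm : 1 ≤ m) (a b : P)
    (ha : orderOf a = 2 ^ m) (hidx : (Subgroup.zpowers a).index = 2)
    (hb : b ∉ Subgroup.zpowers a)
    (σ : MulAut P) (hσ : σ a ∈ Subgroup.zpowers a) : σ ^ (2 ^ (m - 1) * 2 ^ m) = 1 := by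
  have ha1 : a ^ (2 ^ m) = 1 := by rw [← ha]; exact pow_orderOf_eq_one a
  have hpow : 2 ^ m = 2 ^ (m - 1) * 2 := by
    conv_lhs => rw [show m = (m - 1) + 1 by omega, pow_succ]
  obtain ⟨k, hk⟩ := Subgroup.mem_zpowers_iff.1 hσ
  have hiter : ∀ r : ℕ, (σ ^ r) a = a ^ (k ^ r) := by
    intro r
    induction r with
    | zero => simp
    | succ r ih =>
      rw [pow_succ, MulAut.mul_apply, ← hk, map_zpow, ih, ← zpow_mul, pow_succ]
  have hkodd : Odd k := by
    rcases Int.even_or_odd k with he | ho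
    · exfalso
      obtain ⟨t, ht⟩ := he
      have h1 : (σ a) ^ (2 ^ (m - 1)) = 1 := by
        rw [← hk, ht, ← zpow_natCast, ← zpow_mul]
        have h2 : (t + t) * ((2 ^ (m - 1) : ℕ) : ℤ) = ((2 ^ m : ℕ) : ℤ) * t := by
          rw [hpow]; push_cast; ring
        rw [h2, zpow_mul, zpow_natCast, ha1, one_zpow]
      have h2 := orderOf_dvd_of_pow_eq_one h1
      rw [MulEquiv.orderOf_eq, ha] at h2
      have h3 := Nat.le_of_dvd (by positivity) h2
      have h5 : 0 < 2 ^ (m - 1) := by positivity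
      omega
    · exact ho
  set τ := σ ^ (2 ^ (m - 1)) with hτ
  have hτa : τ a = a := by
    rw [hτ, hiter]
    obtain ⟨s, hs⟩ := two_pow_dvd_odd_pow_sub_one k hkodd (m - 1)
    have h1 : k ^ (2 ^ (m - 1)) = 1 + ((2 ^ m : ℕ) : ℤ) * s := by
      have h2 : m - 1 + 1 = m := by omega
      rw [h2] at hs
      push_cast
      linarith
    rw [h1, zpow_add, zpow_one, zpow_mul, zpow_natCast, ha1, one_zpow, mul_one]
  have hτfix : ∀ u ∈ Subgroup.zpowers a, τ u = u := by
    intro u hu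
    obtain ⟨j, rfl⟩ := Subgroup.mem_zpowers_iff.1 hu
    rw [map_zpow, hτa]
  have hτb : τ b ∉ Subgroup.zpowers a := by
    intro h
    apply hb
    have h1 := hτfix _ h
    have h2 : τ b = b := τ.injective h1
    rw [← h2]; exact h
  have hcmem : τ b * b⁻¹ ∈ Subgroup.zpowers a :=
    mul_inv_mem_of_index_two _ hidx hτb hb
  obtain ⟨c, hc⟩ : ∃ c, c = τ b * b⁻¹ := ⟨_, rfl⟩
  rw [← hc] at hcmem
  have hτb' : τ b = c * b := by rw [hc]; group
  have hiterb : ∀ r : ℕ, (τ ^ r) b = c ^ r * b := by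
    intro r
    induction r with
    | zero => simp
    | succ r ih =>
      rw [pow_succ', MulAut.mul_apply, ih, map_mul, hτfix _ (pow_mem hcmem r), hτb', pow_succ,
        mul_assoc]
  have hitera : ∀ r : ℕ, (τ ^ r) a = a := by
    intro r
    induction r with
    | zero => simp
    | succ r ih => rw [pow_succ', MulAut.mul_apply, ih, hτa]
  have hc1 : c ^ (2 ^ m) = 1 := by
    obtain ⟨j, hj⟩ := Subgroup.mem_zpowers_iff.1 hcmem
    rw [← hj, ← zpow_natCast, ← zpow_mul, mul_comm, zpow_mul, zpow_natCast, ha1, one_zpow]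
  have hρ : τ ^ (2 ^ m) = 1 := by
    apply MulEquiv.ext
    intro x
    rw [MulAut.one_apply]
    by_cases hx : x ∈ Subgroup.zpowers a
    · obtain ⟨j, rfl⟩ := Subgroup.mem_zpowers_iff.1 hx
      rw [map_zpow, hitera]
    · have hxb : x * b⁻¹ ∈ Subgroup.zpowers a := mul_inv_mem_of_index_two _ hidx hx hb
      obtain ⟨j, hj⟩ := Subgroup.mem_zpowers_iff.1 hxb
      calc (τ ^ (2 ^ m)) x = (τ ^ (2 ^ m)) ((x * b⁻¹) * b) := by rw [inv_mul_cancel_right]
        _ = (τ ^ (2 ^ m)) (x * b⁻¹) * (τ ^ (2 ^ m)) b := map_mul _ _ _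
        _ = (x * b⁻¹) * b := by
            rw [hiterb, hc1, one_mul]
            congr 1
            rw [← hj, map_zpow, hitera]
        _ = x := inv_mul_cancel_right _ _
  rw [pow_mul]
  exact hρ

theorem sq_of_not_mem_inv {P : Type*} [Group P] (a b : P)
    (hidx : (Subgroup.zpowers a).index = 2)
    (hb : b ∉ Subgroup.zpowers a) (hba : b * a * b⁻¹ = a⁻¹) (x : P)
    (hx : x ∉ Subgroup.zpowers a) : x ^ 2 = b ^ 2 := by
  have hxb : x * b⁻¹ ∈ Subgroup.zpowers a := mul_inv_mem_of_index_two _ hidx hx hb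
  obtain ⟨j, hj⟩ := Subgroup.mem_zpowers_iff.1 hxb
  have hx' : x = a ^ j * b := by rw [hj]; group
  have hconj : b * a ^ j * b⁻¹ = (a ^ j)⁻¹ := by
    rw [← conj_zpow, hba, inv_zpow]
  rw [hx', pow_two, pow_two]
  calc a ^ j * b * (a ^ j * b) = a ^ j * (b * a ^ j * b⁻¹) * b * b := by group
    _ = b * b := by rw [hconj]; group

theorem sq_of_not_mem_sd {P : Type*} [Group P] (a b : P) (e : ℕ)
    (hidx : (Subgroup.zpowers a).index = 2)
    (hb : b ∉ Subgroup.zpowers a) (hb2 : b ^ 2 = 1) (hba : b * a * b⁻¹ = a ^ e) (x : P)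
    (hx : x ∉ Subgroup.zpowers a) : ∃ j : ℤ, x ^ 2 = (a ^ (e + 1)) ^ j := by
  have hxb : x * b⁻¹ ∈ Subgroup.zpowers a := mul_inv_mem_of_index_two _ hidx hx hb
  obtain ⟨j, hj⟩ := Subgroup.mem_zpowers_iff.1 hxb
  refine ⟨j, ?_⟩
  have hx' : x = a ^ j * b := by rw [hj]; group
  have hconj : b * a ^ j * b⁻¹ = (a ^ e) ^ j := by
    rw [← conj_zpow, hba]
  have hbb : b * b = 1 := by rw [← pow_two]; exact hb2
  rw [hx', pow_two]
  calc a ^ j * b * (a ^ j * b) = a ^ j * (b * a ^ j * b⁻¹) * (b * b) := by group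
    _ = (a ^ (e + 1)) ^ j := by
      rw [hconj, hbb, mul_one, ← zpow_natCast a e, ← zpow_mul, ← zpow_add,
        ← zpow_natCast a (e + 1), ← zpow_mul]
      congr 1
      push_cast
      ring

theorem result {P : Type*} [Group P] [Finite P] (hP : IsPGroup 2 P) (hna : ¬ IsMulCommutative P) (h4 : (commutator P).index = 4) (haut : ¬ IsPGroup 2 (MulAut P)) : Nonempty (P ≃* QuaternionGroup 2) := by
  haveI : Fact (Nat.Prime 2) := ⟨Nat.prime_two⟩
  obtain ⟨n, hS⟩ := IsPGroup.iff_card.1 hP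
  have hcm := (commutator P).card_mul_index
  rw [h4, hS] at hcm
  have hpos : 0 < Nat.card (commutator P) := Nat.card_pos
  have hn3 : 3 ≤ n := by
    by_contra hlt
    have hn2 : n ≤ 2 := by omega
    have h1 : 2 ^ n ≤ 2 ^ 2 := Nat.pow_le_pow_right (by norm_num) hn2
    have h2 : Nat.card (commutator P) = 1 := by omega
    have h3 : commutator P = ⊥ := Subgroup.card_eq_one.1 h2
    apply hna
    refine ⟨⟨fun x y => ?_⟩⟩
    have h5 : ⁅x, y⁆ ∈ commutator P := by
      rw [commutator_def]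
      exact Subgroup.commutator_mem_commutator (Subgroup.mem_top x) (Subgroup.mem_top y)
    rw [h3, Subgroup.mem_bot] at h5
    exact commutatorElement_eq_one_iff_mul_comm.1 h5
  obtain ⟨a, b, ha, hb, hcases⟩ := taussky n P hn3 hS h4
  have hidx := index_zpowers_eq_two n (by omega) hS a ha
  have hpow : 2 ^ (n - 1) = 2 ^ (n - 2) * 2 := by
    conv_lhs => rw [show n - 1 = (n - 2) + 1 by omega, pow_succ]
  have ha1 : a ^ (2 ^ (n - 1)) = 1 := by rw [← ha]; exact pow_orderOf_eq_one a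
  have hfour : ∀ x : P, x ∉ Subgroup.zpowers a → x ^ 4 = 1 := by
    intro x hx
    rcases hcases with ⟨hb2, hba⟩ | ⟨hb2, hba⟩ | ⟨h4n, hb2, hba⟩
    · have h1 := sq_of_not_mem_inv a b hidx hb hba x hx
      rw [show 4 = 2 * 2 by norm_num, pow_mul, h1, hb2, one_pow]
    · have h1 := sq_of_not_mem_inv a b hidx hb hba x hx
      rw [show 4 = 2 * 2 by norm_num, pow_mul, h1, hb2, ← pow_mul, ← hpow, ha1]
    · obtain ⟨j, hj⟩ := sq_of_not_mem_sd a b _ hidx hb hb2 hba x hx
      have he : 2 ^ (n - 2) - 1 + 1 = 2 ^ (n - 2) := Nat.sub_add_cancel Nat.one_le_two_pow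
      rw [he] at hj
      have h5 : ((a ^ 2 ^ (n - 2)) ^ j) ^ 2 = ((a ^ 2 ^ (n - 2)) ^ 2) ^ j := by
        rw [← zpow_natCast ((a ^ 2 ^ (n - 2)) ^ j) 2, ← zpow_mul, mul_comm, zpow_mul,
          zpow_natCast]
      rw [show 4 = 2 * 2 by norm_num, pow_mul, hj, h5, ← pow_mul, ← hpow, ha1, one_zpow]
  by_cases hchar : ∀ σ : MulAut P, σ a ∈ Subgroup.zpowers a
  · exfalso
    apply haut
    intro σ
    refine ⟨n - 2 + (n - 1), ?_⟩
    have h1 := aut_pow_eq_one (n - 1) (by omega) a b ha hidx hb σ (hchar σ)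
    rw [show n - 1 - 1 = n - 2 by omega, ← pow_add] at h1
    exact h1
  · push Not at hchar
    obtain ⟨σ, hσ⟩ := hchar
    have h1 := hfour _ hσ
    have h2 := orderOf_dvd_of_pow_eq_one h1
    rw [MulEquiv.orderOf_eq, ha] at h2
    have hn : n = 3 := by
      have h3 := Nat.le_of_dvd (by norm_num) h2
      by_contra hne
      have h6 : 2 ^ 3 ≤ 2 ^ (n - 1) := Nat.pow_le_pow_right (by norm_num) (by omega)
      omega
    subst hn
    rcases hcases with ⟨hb2, hba⟩ | ⟨hb2, hba⟩ | ⟨h4n, hb2, hba⟩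
    · exfalso
      have h3 := sq_of_not_mem_inv a b hidx hb hba _ hσ
      rw [hb2] at h3
      have h4' := orderOf_dvd_of_pow_eq_one h3
      rw [MulEquiv.orderOf_eq, ha] at h4'
      norm_num at h4'
    · have hord : orderOf a = 2 * 2 := by rw [ha]; norm_num
      have hb2' : b ^ 2 = a ^ 2 := by rw [hb2]; norm_num
      have hinj := Cfsg.Agent.helper11.QuatPres.quatHom_injective (n := 2) le_rfl hord hb2' hba
      have hbij := hinj.bijective_of_nat_card_le (by
        rw [Nat.card_eq_fintype_card (α := QuaternionGroup 2), QuaternionGroup.card, hS]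
        norm_num)
      exact ⟨(MulEquiv.ofBijective _ hbij).symm⟩
    · omega

end Cfsg.Agent.S4189
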