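import Cfsg.Statements.S4195

set_option autoImplicit false
open Cfsg

namespace Cfsg.Agent.S4195

/-- the extended centralizer of `x`: elements conjugating `x` to `x` or `x⁻¹` -/
def extCent {G : Type*} [Group G] (x : G) : Subgroup G where
  carrier := {g | g * x * g⁻¹ = x ∨ g * x * g⁻¹ = x⁻¹}
  one_mem' := by left; group
  mul_mem' := by
    intro a b ha hb
    have h : a * b * x * (a * b)⁻¹ = a * (b * x * b⁻¹) * a⁻¹ := by group
    rcases ha with ha | ha <;> rcases hb with hb | hb
    · left; rw [h, hb, ha]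
    · right; rw [h, hb]
      have : a * x⁻¹ * a⁻¹ = (a * x * a⁻¹)⁻¹ := by group
      rw [this, ha]
    · right; rw [h, hb, ha]
    · left; rw [h, hb]
      have : a * x⁻¹ * a⁻¹ = (a * x * a⁻¹)⁻¹ := by group
      rw [this, ha, inv_inv]
  inv_mem' := by
    intro a ha
    rcases ha with ha | ha
    · left
      calc a⁻¹ * x * a⁻¹⁻¹ = a⁻¹ * (a * x * a⁻¹) * a := by rw [ha]; group
        _ = x := by group
    · right
      have h2 : a * x⁻¹ * a⁻¹ = x := by
        have : a * x⁻¹ * a⁻¹ = (a * x * a⁻¹)⁻¹ := by group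
        rw [this, ha, inv_inv]
      calc a⁻¹ * x * a⁻¹⁻¹ = a⁻¹ * (a * x⁻¹ * a⁻¹) * a := by rw [h2]; group
        _ = x⁻¹ := by group

theorem mem_extCent {G : Type*} [Group G] (x g : G) :
    g ∈ extCent x ↔ (g * x * g⁻¹ = x ∨ g * x * g⁻¹ = x⁻¹) := Iff.rfl

theorem mem_cent_iff {G : Type*} [Group G] (x g : G) :
    g ∈ Subgroup.centralizer ({x} : Set G) ↔ g * x * g⁻¹ = x := by
  rw [Subgroup.mem_centralizer_iff]
  constructor
  · intro h
    have := h x rfl
    rw [← this]; group
  · intro h y hy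
    rw [Set.mem_singleton_iff] at hy
    subst hy
    conv_lhs => rw [← h]
    group

theorem cent_le_extCent {G : Type*} [Group G] (x : G) :
    Subgroup.centralizer ({x} : Set G) ≤ extCent x := by
  intro g hg
  rw [mem_cent_iff] at hg
  exact Or.inl hg

theorem two_dvd_index_of_real {G : Type*} [Group G] (x : G) (hne : x ≠ x⁻¹)
    (hreal : IsConj x x⁻¹) : 2 ∣ (Subgroup.centralizer ({x} : Set G)).index := by
  obtain ⟨g, hg⟩ := isConj_iff.mp hreal
  have hgN : g ∈ extCent x := Or.inr hg
  have h2 : ((Subgroup.centralizer ({x} : Set G)).subgroupOf (extCent x)).index = 2 := by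
    rw [Subgroup.index_eq_two_iff]
    refine ⟨⟨g, hgN⟩, ?_⟩
    rintro ⟨b, hb⟩
    simp only [Subgroup.mem_subgroupOf, Subgroup.coe_mul, mem_cent_iff]
    have h : b * g * x * (b * g)⁻¹ = b * (g * x * g⁻¹) * b⁻¹ := by group
    have h' : b * x⁻¹ * b⁻¹ = (b * x * b⁻¹)⁻¹ := by group
    rw [h, hg, h']
    rcases hb with hb | hb
    · right
      rw [hb]
      exact ⟨rfl, fun h => hne h.symm⟩
    · left
      rw [hb]
      exact ⟨inv_inv x, fun h => hne h.symm⟩
  have := Subgroup.relIndex_mul_index (cent_le_extCent x)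
  rw [Subgroup.relIndex, h2] at this
  exact Dvd.intro _ this

theorem result {G : Type*} [Group G] [Finite G] (x : G) (hx : x ≠ 1) (P : Sylow 2 G) (hP : (P : Subgroup G) ≤ Subgroup.centralizer ({x} : Set G)) (hreal : IsConj x x⁻¹) : orderOf x = 2 := by
  by_cases hne : x = x⁻¹
  · apply orderOf_eq_prime
    · have h : x * x = x * x⁻¹ := by rw [← hne]
      rw [pow_two, h, mul_inv_cancel]
    · exact hx
  · exfalso
    have h1 := two_dvd_index_of_real x hne hreal
    have h2 := Subgroup.index_dvd_of_le hP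
    exact P.not_dvd_index (h1.trans h2)

end Cfsg.Agent.S4195
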