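import Cfsg.Statements.S4196
import Cfsg.Agent.S4195

set_option autoImplicit false
open Cfsg

namespace Cfsg.Agent.S4196

open scoped Pointwise

theorem result {G : Type*} [Group G] [Finite G] (P : Sylow 2 G) :
    (IsMulCommutative (P : Subgroup G) ∧ ∀ x ∈ (P : Subgroup G), x ^ 2 = 1) ↔
      ∀ x : G, (∃ k : ℕ, orderOf x = 2 ^ k) → (∃ Q : Sylow 2 G, (Q : Subgroup G) ≤ Subgroup.centralizer ({x} : Set G)) ∧ IsConj x x⁻¹ := by
  constructor
  · rintro ⟨hcomm, hexp⟩ x ⟨k, hk⟩
    have hpg : IsPGroup 2 (Subgroup.zpowers x) := by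
      apply IsPGroup.of_card (n := k)
      rw [Nat.card_zpowers, hk]
    obtain ⟨Q, hQ⟩ := hpg.exists_le_sylow
    have hxQ : x ∈ Q := hQ (Subgroup.mem_zpowers x)
    obtain ⟨g, hg⟩ := MulAction.exists_smul_eq G P Q
    have hxQ' : x ∈ MulAut.conj g • (P : Subgroup G) := by
      rw [← hg] at hxQ; exact hxQ
    rw [Subgroup.mem_pointwise_smul_iff_inv_smul_mem] at hxQ'
    simp only [MulAut.smul_def, ← map_inv, MulAut.conj_apply, inv_inv] at hxQ'
    -- hxQ' : g⁻¹ * x * g ∈ P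
    have hcomm' := isMulCommutative_iff.mp hcomm
    constructor
    · refine ⟨g • P, ?_⟩
      intro z hz
      change z ∈ MulAut.conj g • (P : Subgroup G) at hz
      rw [Subgroup.mem_pointwise_smul_iff_inv_smul_mem] at hz
      simp only [MulAut.smul_def, ← map_inv, MulAut.conj_apply, inv_inv] at hz
      rw [Subgroup.mem_centralizer_iff]
      intro y hy
      rw [Set.mem_singleton_iff] at hy
      subst hy
      have := congrArg Subtype.val (hcomm' ⟨_, hz⟩ ⟨_, hxQ'⟩)
      simp only [Subgroup.coe_mul] at this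
      calc y * z = g * ((g⁻¹ * y * g) * (g⁻¹ * z * g)) * g⁻¹ := by group
        _ = g * ((g⁻¹ * z * g) * (g⁻¹ * y * g)) * g⁻¹ := by rw [this]
        _ = z * y := by group
    · have h2 := hexp _ hxQ'
      have hx2 : x ^ 2 = 1 := by
        calc x ^ 2 = g * (g⁻¹ * x * g) ^ 2 * g⁻¹ := by rw [pow_two, pow_two]; group
          _ = 1 := by rw [h2]; group
      have : x⁻¹ = x := by
        rw [inv_eq_iff_mul_eq_one, ← pow_two, hx2]
      rw [this]
  · intro h
    have hexp : ∀ x ∈ (P : Subgroup G), x ^ 2 = 1 := by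
      intro x hx
      by_cases hx1 : x = 1
      · rw [hx1, one_pow]
      · obtain ⟨k, hk⟩ := (IsPGroup.iff_orderOf.mp P.isPGroup') ⟨x, hx⟩
        rw [Subgroup.orderOf_mk] at hk
        obtain ⟨⟨Q, hQ⟩, hreal⟩ := h x ⟨k, hk⟩
        have := Cfsg.Agent.S4195.result x hx1 Q hQ hreal
        rw [← this, pow_orderOf_eq_one]
    refine ⟨isMulCommutative_iff.mpr ?_, hexp⟩
    rintro ⟨a, ha⟩ ⟨b, hb⟩
    apply Subtype.ext
    simp only [Subgroup.coe_mul]
    have h1 := hexp a ha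
    have h2 := hexp b hb
    have h3 := hexp (a * b) (Subgroup.mul_mem _ ha hb)
    rw [pow_two] at h1 h2 h3
    have ha' : a⁻¹ = a := inv_eq_of_mul_eq_one_right h1
    have hb' : b⁻¹ = b := inv_eq_of_mul_eq_one_right h2
    have hab' : (a * b)⁻¹ = a * b := inv_eq_of_mul_eq_one_right h3
    calc a * b = (a * b)⁻¹ := hab'.symm
      _ = b⁻¹ * a⁻¹ := mul_inv_rev a b
      _ = b * a := by rw [ha', hb']

end Cfsg.Agent.S4196
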