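import Mathlib
import Cfsg.Statements.S4198

set_option autoImplicit false
set_option linter.style.haveILetI false
open Cfsg

namespace Cfsg.Agent.S4198

open Equiv Equiv.Perm

/-! ### Partitions: `p(n) ≤ 2^(n-2)` for `n ≥ 5` -/

lemma exists_min_part (s : Multiset ℕ) (h : s ≠ 0) : ∃ a ∈ s, ∀ b ∈ s, a ≤ b := by
  have hne : s.toFinset.Nonempty := by
    obtain ⟨a, ha⟩ := Multiset.exists_mem_of_ne_zero h
    exact ⟨a, Multiset.mem_toFinset.mpr ha⟩
  refine ⟨s.toFinset.min' hne, Multiset.mem_toFinset.mp (Finset.min'_mem _ hne), fun b hb => ?_⟩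
  exact Finset.min'_le _ b (Multiset.mem_toFinset.mpr hb)

noncomputable def minPart (s : Multiset ℕ) : ℕ :=
  if h : s = 0 then 0 else Classical.choose (exists_min_part s h)

lemma minPart_mem {s : Multiset ℕ} (h : s ≠ 0) : minPart s ∈ s := by
  unfold minPart; rw [dif_neg h]; exact (Classical.choose_spec (exists_min_part s h)).1

lemma minPart_le {s : Multiset ℕ} (h : s ≠ 0) {b : ℕ} (hb : b ∈ s) : minPart s ≤ b := by
  unfold minPart; rw [dif_neg h]; exact (Classical.choose_spec (exists_min_part s h)).2 b hb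

noncomputable def stepM (s : Multiset ℕ) : Multiset ℕ :=
  if 1 ∈ s then s.erase 1 else s.erase (minPart s) + {minPart s - 1}

lemma stepM_pos {s : Multiset ℕ} (hs : ∀ a ∈ s, 0 < a) (h0 : s ≠ 0) :
    ∀ a ∈ stepM s, 0 < a := by
  intro a ha
  unfold stepM at ha
  split_ifs at ha with h1
  · exact hs a (Multiset.mem_of_mem_erase ha)
  · rcases Multiset.mem_add.mp ha with h | h
    · exact hs a (Multiset.mem_of_mem_erase h)
    · rw [Multiset.mem_singleton] at h
      have hm := minPart_mem h0
      have h3 := hs _ hm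
      have h4 : minPart s ≠ 1 := fun e => h1 (e ▸ hm)
      omega

lemma stepM_sum {s : Multiset ℕ} (hs : ∀ a ∈ s, 0 < a) (h0 : s ≠ 0) :
    (stepM s).sum + 1 = s.sum := by
  unfold stepM
  split_ifs with h1
  · have := Multiset.sum_erase h1; omega
  · have hm := minPart_mem h0
    have h2 := Multiset.sum_erase hm
    have h3 := hs _ hm
    rw [Multiset.sum_add, Multiset.sum_singleton]; omega

lemma stepM_inj {s t : Multiset ℕ} (hs : ∀ a ∈ s, 0 < a) (ht : ∀ a ∈ t, 0 < a)
    (hs0 : s ≠ 0) (ht0 : t ≠ 0) (h1 : 1 ∈ s ↔ 1 ∈ t) (h : stepM s = stepM t) : s = t := by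
  unfold stepM at h
  by_cases hs1 : 1 ∈ s
  · have ht1 := h1.mp hs1
    rw [if_pos hs1, if_pos ht1] at h
    calc s = 1 ::ₘ s.erase 1 := (Multiset.cons_erase hs1).symm
      _ = 1 ::ₘ t.erase 1 := by rw [h]
      _ = t := Multiset.cons_erase ht1
  · have ht1 : 1 ∉ t := fun e => hs1 (h1.mpr e)
    rw [if_neg hs1, if_neg ht1] at h
    have hma := minPart_mem hs0
    have hmb := minPart_mem ht0
    have ha2 : 2 ≤ minPart s := by
      have h3 := hs _ hma
      have h4 : minPart s ≠ 1 := fun e => hs1 (e ▸ hma)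
      omega
    have hb2 : 2 ≤ minPart t := by
      have h3 := ht _ hmb
      have h4 : minPart t ≠ 1 := fun e => ht1 (e ▸ hmb)
      omega
    have key1 : minPart s - 1 ≤ minPart t - 1 := by
      have h5 : minPart t - 1 ∈ s.erase (minPart s) + {minPart s - 1} := by
        rw [h]; exact Multiset.mem_add.mpr (Or.inr (Multiset.mem_singleton_self _))
      rcases Multiset.mem_add.mp h5 with h' | h'
      · have := minPart_le hs0 (Multiset.mem_of_mem_erase h'); omega
      · rw [Multiset.mem_singleton] at h'; omega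
    have key2 : minPart t - 1 ≤ minPart s - 1 := by
      have h5 : minPart s - 1 ∈ t.erase (minPart t) + {minPart t - 1} := by
        rw [← h]; exact Multiset.mem_add.mpr (Or.inr (Multiset.mem_singleton_self _))
      rcases Multiset.mem_add.mp h5 with h' | h'
      · have := minPart_le ht0 (Multiset.mem_of_mem_erase h'); omega
      · rw [Multiset.mem_singleton] at h'; omega
    have hab : minPart s = minPart t := by omega
    rw [hab] at h
    have h6 := add_right_cancel h
    rw [hab] at hma
    calc s = minPart t ::ₘ s.erase (minPart t) := (Multiset.cons_erase hma).symm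
      _ = minPart t ::ₘ t.erase (minPart t) := by rw [h6]
      _ = t := Multiset.cons_erase hmb

lemma parts_ne_zero {n : ℕ} (p : Nat.Partition (n + 1)) : p.parts ≠ 0 := by
  intro h
  have := p.parts_sum
  rw [h] at this
  simp at this

noncomputable def stepP (n : ℕ) (p : Nat.Partition (n + 1)) : Bool × Nat.Partition n :=
  (decide (1 ∈ p.parts),
   { parts := stepM p.parts
     parts_pos := fun {i} hi =>
      stepM_pos (fun a ha => p.parts_pos ha) (parts_ne_zero p) i hi
     parts_sum := by
      have h1 := stepM_sum (fun a ha => p.parts_pos ha) (parts_ne_zero p)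
      have h2 := p.parts_sum
      omega })

lemma stepP_injective (n : ℕ) : Function.Injective (stepP n) := by
  intro p q h
  have h1 : decide (1 ∈ p.parts) = decide (1 ∈ q.parts) := congrArg Prod.fst h
  have h2 : stepM p.parts = stepM q.parts := congrArg (fun z => z.2.parts) h
  apply Nat.Partition.ext
  apply stepM_inj (fun a ha => p.parts_pos ha) (fun a ha => q.parts_pos ha)
    (parts_ne_zero p) (parts_ne_zero q) _ h2
  simpa using h1

lemma card_partition_succ_le (n : ℕ) :
    Fintype.card (Nat.Partition (n + 1)) ≤ 2 * Fintype.card (Nat.Partition n) := by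
  have := Fintype.card_le_of_injective _ (stepP_injective n)
  simpa [Fintype.card_prod] using this

lemma sum_eq_counts (s : Multiset ℕ) (hs : ∀ a ∈ s, a < 6) :
    s.sum = s.count 1 + 2 * s.count 2 + 3 * s.count 3 + 4 * s.count 4 + 5 * s.count 5 := by
  have h := Finset.sum_multiset_count_of_subset s (Finset.range 6)
    (fun a ha => Finset.mem_range.mpr (hs a (Multiset.mem_toFinset.mp ha)))
  rw [h]
  simp [Finset.sum_range_succ]
  ring

lemma card_partition_five : Fintype.card (Nat.Partition 5) ≤ 8 := by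
  classical
  let T : Finset (ℕ × ℕ × ℕ × ℕ) :=
    ((Finset.range 3) ×ˢ (Finset.range 2) ×ˢ (Finset.range 2) ×ˢ (Finset.range 2)).filter
      (fun t => 2 * t.1 + 3 * t.2.1 + 4 * t.2.2.1 + 5 * t.2.2.2 ≤ 5)
  have hT : T.card ≤ 8 := by decide
  let f : Nat.Partition 5 → ℕ × ℕ × ℕ × ℕ := fun p =>
    (p.parts.count 2, p.parts.count 3, p.parts.count 4, p.parts.count 5)
  have hlt : ∀ p : Nat.Partition 5, ∀ a ∈ p.parts, a < 6 := by
    intro p a ha
    have h1 := Multiset.le_sum_of_mem ha
    have h2 := p.parts_sum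
    omega
  have hsum : ∀ p : Nat.Partition 5, p.parts.count 1 + 2 * p.parts.count 2 + 3 * p.parts.count 3
      + 4 * p.parts.count 4 + 5 * p.parts.count 5 = 5 := by
    intro p
    rw [← sum_eq_counts p.parts (hlt p)]; exact p.parts_sum
  have hf : ∀ p ∈ (Finset.univ : Finset (Nat.Partition 5)), f p ∈ T := by
    intro p _
    have := hsum p
    simp only [T, f, Finset.mem_filter, Finset.mem_product, Finset.mem_range]
    omega
  have hinj : Set.InjOn f (Finset.univ : Finset (Nat.Partition 5)) := by
    intro p _ q _ h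
    simp only [f, Prod.mk.injEq] at h
    obtain ⟨h2, h3, h4, h5⟩ := h
    have hp := hsum p
    have hq := hsum q
    apply Nat.Partition.ext
    ext a
    by_cases ha : a < 6
    · interval_cases a
      · rw [Multiset.count_eq_zero_of_notMem (fun h0 => absurd (p.parts_pos h0) (lt_irrefl 0)),
          Multiset.count_eq_zero_of_notMem (fun h0 => absurd (q.parts_pos h0) (lt_irrefl 0))]
      · omega
      · exact h2
      · exact h3
      · exact h4
      · exact h5
    · rw [Multiset.count_eq_zero_of_notMem (fun h0 => ha (hlt p a h0)),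
        Multiset.count_eq_zero_of_notMem (fun h0 => ha (hlt q a h0))]
  have := Finset.card_le_card_of_injOn f hf hinj
  rw [Finset.card_univ] at this
  exact this.trans hT

lemma card_partition_le (m : ℕ) (hm : 5 ≤ m) : Fintype.card (Nat.Partition m) ≤ 2 ^ (m - 2) := by
  induction m, hm using Nat.le_induction with
  | base => exact card_partition_five
  | succ m hm ih =>
    have h1 := card_partition_succ_le m
    have h2 : 2 ^ (m + 1 - 2) = 2 * 2 ^ (m - 2) := by
      rw [← pow_succ']; congr 1; omega
    rw [h2]; omega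

/-! ### Conjugacy classes of `Perm α` and of the alternating group -/

section alt
variable {α : Type*} [Fintype α] [DecidableEq α]

noncomputable def ctype : ConjClasses (Perm α) → Multiset ℕ :=
  Quotient.lift (fun g : Perm α => g.cycleType)
    (fun _ _ (h : IsConj _ _) => isConj_iff_cycleType_eq.mp h)

lemma ctype_mk (g : Perm α) : ctype (ConjClasses.mk g) = g.cycleType := rfl

lemma ctype_injective : Function.Injective (ctype (α := α)) := by
  intro x y h
  obtain ⟨g, rfl⟩ := ConjClasses.mk_surjective x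
  obtain ⟨g', rfl⟩ := ConjClasses.mk_surjective y
  rw [ctype_mk, ctype_mk] at h
  exact ConjClasses.mk_eq_mk_iff_isConj.mpr (isConj_iff_cycleType_eq.mpr h)

lemma sign_conj' (c a : Perm α) : Perm.sign (c * a * c⁻¹) = Perm.sign a := by
  rw [map_mul, map_mul, map_inv, mul_comm, ← mul_assoc, inv_mul_cancel, one_mul]

noncomputable def sgn : ConjClasses (Perm α) → ℤˣ :=
  Quotient.lift (fun g : Perm α => Perm.sign g) (fun a b (h : IsConj a b) => by
    obtain ⟨c, hc⟩ := isConj_iff.mp h
    rw [← hc]; exact (sign_conj' c a).symm)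

lemma sgn_mk (g : Perm α) : sgn (ConjClasses.mk g) = Perm.sign g := rfl

noncomputable def ptn : ConjClasses (Perm α) → (Fintype.card α).Partition :=
  Quotient.lift (fun g : Perm α => g.partition)
    (fun _ _ (h : IsConj _ _) => partition_eq_of_isConj.mp h)

lemma ptn_injective : Function.Injective (ptn (α := α)) := by
  intro x y h
  obtain ⟨g, rfl⟩ := ConjClasses.mk_surjective x
  obtain ⟨g', rfl⟩ := ConjClasses.mk_surjective y
  exact ConjClasses.mk_eq_mk_iff_isConj.mpr (partition_eq_of_isConj.mpr h)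

lemma card_classes_le_partition :
    Nat.card (ConjClasses (Perm α)) ≤ Fintype.card ((Fintype.card α).Partition) := by
  rw [← Nat.card_eq_fintype_card]
  exact Nat.card_le_card_of_injective _ ptn_injective

def SplM (N : ℕ) (m : Multiset ℕ) : Prop :=
  (∀ c ∈ m, Odd c) ∧ N ≤ m.sum + 1 ∧ ∀ i, m.count i ≤ 1

noncomputable def phi : ConjClasses (alternatingGroup α) → ConjClasses (Perm α) :=
  ConjClasses.map (alternatingGroup α).subtype

lemma phi_mk (a : alternatingGroup α) :
    phi (ConjClasses.mk a) = ConjClasses.mk (a : Perm α) := rfl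

lemma conj_of_sign_one (a b : alternatingGroup α) (c : Perm α) (hs : Perm.sign c = 1)
    (hc : c * a * c⁻¹ = b) : IsConj a b := by
  refine isConj_iff.mpr ⟨⟨c, mem_alternatingGroup.mpr hs⟩, ?_⟩
  apply Subtype.ext
  simpa using hc

lemma conj_or (a b : alternatingGroup α) (h : IsConj (a : Perm α) (b : Perm α)) :
    IsConj a b ∨ ∃ c : Perm α, Perm.sign c = -1 ∧ c * a * c⁻¹ = b := by
  obtain ⟨c, hc⟩ := isConj_iff.mp h
  rcases Int.units_eq_one_or (Perm.sign c) with h1 | h1
  · left; exact conj_of_sign_one a b c h1 hc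
  · right; exact ⟨c, h1, hc⟩

lemma conj_in_alt (a b : alternatingGroup α) (c : Perm α) (hc : c * a * c⁻¹ = b)
    (d : Perm α) (hd : d * a = a * d) (hds : Perm.sign d ≠ 1) : IsConj a b := by
  rcases Int.units_eq_one_or (Perm.sign c) with h1 | h1
  · exact conj_of_sign_one a b c h1 hc
  · have hd1 : Perm.sign d = -1 := (Int.units_eq_one_or _).resolve_left hds
    apply conj_of_sign_one a b (c * d) (by rw [map_mul, h1, hd1]; simp)
    rw [← hc, mul_inv_rev]
    calc c * d * ↑a * (d⁻¹ * c⁻¹) = c * (d * ↑a) * d⁻¹ * c⁻¹ := by group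
      _ = c * (↑a * d) * d⁻¹ * c⁻¹ := by rw [hd]
      _ = c * ↑a * c⁻¹ := by group

open scoped Classical in
lemma fiber_card_le (x : ConjClasses (Perm α)) :
    Nat.card {y : ConjClasses (alternatingGroup α) // phi y = x} ≤
      (if sgn x = 1 then 1 else 0) + (if SplM (Fintype.card α) (ctype x) then 1 else 0) := by
  obtain ⟨g, rfl⟩ := ConjClasses.mk_surjective x
  by_cases hs : sgn (ConjClasses.mk g) = 1
  swap
  · have : IsEmpty {y : ConjClasses (alternatingGroup α) // phi y = ConjClasses.mk g} := by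
      refine ⟨fun ⟨y, hy⟩ => hs ?_⟩
      obtain ⟨a, rfl⟩ := ConjClasses.mk_surjective y
      rw [← hy, phi_mk, sgn_mk]
      exact mem_alternatingGroup.mp a.2
    rw [Nat.card_of_isEmpty]; exact Nat.zero_le _
  rw [if_pos hs]
  by_cases hsp : SplM (Fintype.card α) (ctype (ConjClasses.mk g))
  · rw [if_pos hsp]
    by_contra hlt
    push Not at hlt
    haveI : Fintype {y : ConjClasses (alternatingGroup α) // phi y = ConjClasses.mk g} :=
      Fintype.ofFinite _
    rw [Nat.card_eq_fintype_card] at hlt
    obtain ⟨⟨y1, h1⟩, ⟨y2, h2⟩, ⟨y3, h3⟩, h12, h13, h23⟩ := Fintype.two_lt_card_iff.mp hlt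
    obtain ⟨a1, rfl⟩ := ConjClasses.mk_surjective y1
    obtain ⟨a2, rfl⟩ := ConjClasses.mk_surjective y2
    obtain ⟨a3, rfl⟩ := ConjClasses.mk_surjective y3
    have c12 : IsConj (a1 : Perm α) a2 := ConjClasses.mk_eq_mk_iff_isConj.mp (h1.trans h2.symm)
    have c13 : IsConj (a1 : Perm α) a3 := ConjClasses.mk_eq_mk_iff_isConj.mp (h1.trans h3.symm)
    rcases conj_or a1 a2 c12 with h | ⟨c, hc, hca⟩
    · exact h12 (Subtype.ext (ConjClasses.mk_eq_mk_iff_isConj.mpr h))
    rcases conj_or a1 a3 c13 with h | ⟨c', hc', hca'⟩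
    · exact h13 (Subtype.ext (ConjClasses.mk_eq_mk_iff_isConj.mpr h))
    apply h23
    apply Subtype.ext
    apply ConjClasses.mk_eq_mk_iff_isConj.mpr
    apply conj_of_sign_one a2 a3 (c' * c⁻¹) (by rw [map_mul, map_inv, hc, hc']; simp)
    rw [← hca, ← hca']; group
  · rw [if_neg hsp, add_zero, Finite.card_le_one_iff_subsingleton]
    refine ⟨fun ⟨y1, h1⟩ ⟨y2, h2⟩ => Subtype.ext ?_⟩
    obtain ⟨a1, rfl⟩ := ConjClasses.mk_surjective y1
    obtain ⟨a2, rfl⟩ := ConjClasses.mk_surjective y2
    have c12 : IsConj (a1 : Perm α) a2 := ConjClasses.mk_eq_mk_iff_isConj.mp (h1.trans h2.symm)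
    have hct : ctype (ConjClasses.mk g) = (a1 : Perm α).cycleType := by rw [← h1]; rfl
    rw [hct] at hsp
    have hnle : ¬ Subgroup.centralizer {(a1 : Perm α)} ≤ alternatingGroup α := by
      rw [centralizer_le_alternating_iff]; exact hsp
    obtain ⟨d, hd, hdn⟩ := SetLike.not_le_iff_exists.mp hnle
    rw [Subgroup.mem_centralizer_singleton_iff] at hd
    rw [mem_alternatingGroup] at hdn
    obtain ⟨c, hc⟩ := isConj_iff.mp c12
    exact ConjClasses.mk_eq_mk_iff_isConj.mpr (conj_in_alt a1 a2 c hc d hd hdn)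

lemma card_alt_classes_le :
    Nat.card (ConjClasses (alternatingGroup α)) ≤
      Nat.card {x : ConjClasses (Perm α) // sgn x = 1} +
      Nat.card {x : ConjClasses (Perm α) // SplM (Fintype.card α) (ctype x)} := by
  classical
  haveI : Fintype (ConjClasses (Perm α)) := Fintype.ofFinite _
  rw [Nat.card_congr (Equiv.sigmaFiberEquiv (phi (α := α))).symm, Nat.card_sigma]
  refine (Finset.sum_le_sum (fun x _ => fiber_card_le x)).trans ?_
  rw [Finset.sum_add_distrib, Finset.sum_boole, Finset.sum_boole]
  simp only [Nat.cast_id]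
  rw [Nat.card_eq_fintype_card, Nat.card_eq_fintype_card, Fintype.card_subtype,
    Fintype.card_subtype]

lemma card_classes_eq :
    Nat.card (ConjClasses (Perm α)) =
      Nat.card {x : ConjClasses (Perm α) // sgn x = 1} +
      Nat.card {x : ConjClasses (Perm α) // ¬ sgn x = 1} := by
  rw [← Nat.card_sum]
  exact Nat.card_congr (Equiv.sumCompl (fun x : ConjClasses (Perm α) => sgn x = 1)).symm

lemma even_sum_add_card (m : Multiset ℕ) (h : ∀ c ∈ m, Odd c) :
    Even (m.sum + Multiset.card m) := by
  induction m using Multiset.induction_on with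
  | empty => simp
  | cons a m ih =>
    have ha : Odd a := h a (Multiset.mem_cons_self a m)
    have h1 := ih (fun c hc => h c (Multiset.mem_cons_of_mem hc))
    rw [Multiset.sum_cons, Multiset.card_cons]
    have h2 : Even (a + 1) := ha.add_one
    have e : a + m.sum + (Multiset.card m + 1) = (a + 1) + (m.sum + Multiset.card m) := by ring
    rw [e]; exact Even.add h2 h1

noncomputable def pick (m : Multiset ℕ) : ℕ :=
  if h : m = 0 then 0 else Classical.choose (Multiset.exists_mem_of_ne_zero h)

lemma pick_mem {m : Multiset ℕ} (h : m ≠ 0) : pick m ∈ m := by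
  unfold pick; rw [dif_neg h]; exact Classical.choose_spec (Multiset.exists_mem_of_ne_zero h)

noncomputable def fS (m : Multiset ℕ) : Multiset ℕ := m.erase (pick m) + {pick m - 1}

lemma fS_sum {m : Multiset ℕ} (h0 : m ≠ 0) (hpos : ∀ c ∈ m, 2 ≤ c) : (fS m).sum + 1 = m.sum := by
  unfold fS
  have hm := pick_mem h0
  have h2 := Multiset.sum_erase hm
  have h3 := hpos _ hm
  rw [Multiset.sum_add, Multiset.sum_singleton]; omega

lemma fS_card {m : Multiset ℕ} (h0 : m ≠ 0) : Multiset.card (fS m) = Multiset.card m := by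
  unfold fS
  have hm := pick_mem h0
  rw [Multiset.card_add, Multiset.card_singleton, Multiset.card_erase_add_one hm]

lemma fS_filter {m : Multiset ℕ} (h0 : m ≠ 0) (hodd : ∀ c ∈ m, Odd c) :
    (fS m).filter (fun c => Even c) = {pick m - 1} := by
  unfold fS
  have hm := pick_mem h0
  have ho := hodd _ hm
  rw [Multiset.filter_add]
  have h1 : (m.erase (pick m)).filter (fun c => Even c) = 0 := by
    rw [Multiset.filter_eq_nil]
    intro a ha
    exact Nat.not_even_iff_odd.mpr (hodd a (Multiset.mem_of_mem_erase ha))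
  have h2 : Even (pick m - 1) := by
    obtain ⟨k, hk⟩ := ho
    exact ⟨k, by omega⟩
  rw [h1, zero_add, Multiset.filter_singleton, if_pos h2]

lemma fS_inj {m m' : Multiset ℕ} (h0 : m ≠ 0) (h0' : m' ≠ 0) (hodd : ∀ c ∈ m, Odd c)
    (hodd' : ∀ c ∈ m', Odd c) (h : fS m = fS m') : m = m' := by
  have h1 := fS_filter h0 hodd
  have h2 := fS_filter h0' hodd'
  rw [h, h2] at h1
  have h3 : pick m' - 1 = pick m - 1 := Multiset.singleton_inj.mp h1
  have hm := pick_mem h0
  have hm' := pick_mem h0'
  have hp : 0 < pick m := (hodd _ hm).pos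
  have hp' : 0 < pick m' := (hodd' _ hm').pos
  have hpp : pick m = pick m' := by omega
  unfold fS at h
  rw [hpp] at h
  have h6 := add_right_cancel h
  rw [hpp] at hm
  calc m = pick m' ::ₘ m.erase (pick m') := (Multiset.cons_erase hm).symm
    _ = pick m' ::ₘ m'.erase (pick m') := by rw [h6]
    _ = m' := Multiset.cons_erase hm'

omit [DecidableEq α] in
lemma spl_ne_zero (hα : 5 ≤ Fintype.card α) {m : Multiset ℕ}
    (hm : SplM (Fintype.card α) m) : m ≠ 0 := by
  intro h
  have := hm.2.1
  rw [h] at this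
  simp at this
  omega

lemma exists_target (hα : 5 ≤ Fintype.card α) (x : ConjClasses (Perm α))
    (hx : SplM (Fintype.card α) (ctype x)) :
    ∃ x' : ConjClasses (Perm α), ¬ sgn x' = 1 ∧ ctype x' = fS (ctype x) := by
  have h0 := spl_ne_zero hα hx
  obtain ⟨g, rfl⟩ := ConjClasses.mk_surjective x
  rw [ctype_mk] at hx h0 ⊢
  obtain ⟨hodd, hN, hcount⟩ := hx
  have h2 : ∀ c ∈ g.cycleType, 2 ≤ c := fun c hc => two_le_of_mem_cycleType hc
  have hsum := fS_sum h0 h2
  have hcard := fS_card h0
  have hle := g.sum_cycleType_le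
  have h2' : ∀ c ∈ fS g.cycleType, 2 ≤ c := by
    intro c hc
    unfold fS at hc
    rcases Multiset.mem_add.mp hc with h | h
    · exact h2 c (Multiset.mem_of_mem_erase h)
    · rw [Multiset.mem_singleton] at h
      have hm := pick_mem h0
      have h3 := h2 _ hm
      obtain ⟨k, hk⟩ := hodd _ hm
      omega
  obtain ⟨g', hg'⟩ := (exists_with_cycleType_iff α).mpr
    ⟨(by omega : (fS g.cycleType).sum ≤ Fintype.card α), h2'⟩
  refine ⟨ConjClasses.mk g', ?_, by rw [ctype_mk, hg']⟩
  rw [sgn_mk, sign_of_cycleType, hg', hcard]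
  have he := even_sum_add_card _ hodd
  have hodd' : Odd ((fS g.cycleType).sum + Multiset.card g.cycleType) := by
    rw [← Nat.not_even_iff_odd]
    intro h
    have h5 : Even ((fS g.cycleType).sum + Multiset.card g.cycleType + 1) := by
      have e : (fS g.cycleType).sum + Multiset.card g.cycleType + 1
          = g.cycleType.sum + Multiset.card g.cycleType := by omega
      rw [e]; exact he
    exact (Nat.even_add_one.mp h5) h
  rw [hodd'.neg_one_pow]
  decide

lemma card_spl_lt (hα : 5 ≤ Fintype.card α) :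
    Nat.card {x : ConjClasses (Perm α) // SplM (Fintype.card α) (ctype x)} <
      Nat.card {x : ConjClasses (Perm α) // ¬ sgn x = 1} := by
  classical
  haveI : Fintype (ConjClasses (Perm α)) := Fintype.ofFinite _
  rw [Nat.card_eq_fintype_card, Nat.card_eq_fintype_card]
  let F : {x : ConjClasses (Perm α) // SplM (Fintype.card α) (ctype x)} →
      {x : ConjClasses (Perm α) // ¬ sgn x = 1} := fun x =>
    ⟨Classical.choose (exists_target hα x.1 x.2), (Classical.choose_spec (exists_target hα x.1 x.2)).1⟩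
  have hF : ∀ x, ctype (F x).1 = fS (ctype x.1) := fun x =>
    (Classical.choose_spec (exists_target hα x.1 x.2)).2
  have hinj : Function.Injective F := by
    intro x y h
    have h1 : fS (ctype x.1) = fS (ctype y.1) := by rw [← hF, ← hF, h]
    apply Subtype.ext
    apply ctype_injective
    exact fS_inj (spl_ne_zero hα x.2) (spl_ne_zero hα y.2) x.2.1 y.2.1 h1
  obtain ⟨a, b, hab⟩ := Fintype.exists_pair_of_one_lt_card (by omega : 1 < Fintype.card α)
  have hsw : ¬ sgn (ConjClasses.mk (swap a b)) = 1 := by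
    rw [sgn_mk, sign_swap hab]; decide
  apply Fintype.card_lt_of_injective_of_notMem F hinj (b := ⟨ConjClasses.mk (swap a b), hsw⟩)
  rintro ⟨x, hx⟩
  have h1 : ctype (F x).1 = ({2} : Multiset ℕ) := by
    rw [hx]
    show ctype (ConjClasses.mk (swap a b)) = _
    rw [ctype_mk, (isCycle_swap hab).cycleType, card_support_swap hab]
  rw [hF] at h1
  have h0 := spl_ne_zero hα x.2
  have h2 : ∀ c ∈ ctype x.1, 2 ≤ c := by
    obtain ⟨g, hg⟩ := ConjClasses.mk_surjective x.1
    rw [← hg, ctype_mk]
    exact fun c hc => two_le_of_mem_cycleType hc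
  have h3 := fS_sum h0 h2
  rw [h1, Multiset.sum_singleton] at h3
  have h4 := x.2.2.1
  omega

lemma card_alt_lt (hα : 5 ≤ Fintype.card α) :
    Nat.card (ConjClasses (alternatingGroup α)) < Nat.card (ConjClasses (Perm α)) := by
  have h1 := card_alt_classes_le (α := α)
  have h2 := card_classes_eq (α := α)
  have h3 := card_spl_lt hα
  omega

end alt

/-- For n ≥ 5 the alternating group of degree n has strictly fewer conjugacy classes than the symmetric group of degree n, and the symmetric group of degree n (whose classes correspond to the partitions of n) has at most 2^(n−2) conjugacy classes. -/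
theorem result (n : ℕ) (hn : 5 ≤ n) : Nat.card (ConjClasses (alternatingGroup (Fin n))) < Nat.card (ConjClasses (Equiv.Perm (Fin n))) ∧ Nat.card (ConjClasses (Equiv.Perm (Fin n))) ≤ 2 ^ (n - 2) := by
  have hc : Fintype.card (Fin n) = n := Fintype.card_fin n
  refine ⟨card_alt_lt (by rw [hc]; exact hn), ?_⟩
  have h1 := card_classes_le_partition (α := Fin n)
  have h2 := card_partition_le (Fintype.card (Fin n)) (by rw [hc]; exact hn)
  have h3 : 2 ^ (Fintype.card (Fin n) - 2) = 2 ^ (n - 2) := by rw [hc]
  exact h1.trans (h2.trans_eq h3)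

end Cfsg.Agent.S4198
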