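import Mathlib
import Cfsg.Statements.S4201

set_option autoImplicit false
open Cfsg

namespace Cfsg.Agent.S4201

open Classical in
/-- a chosen element of the coset `r` commuting with `a` (if any) -/
noncomputable def pick {X : Type*} [Group X] (N : Subgroup X) (r : X ⧸ N) (a : X) : X :=
  if h : ∃ b : X, (QuotientGroup.mk b : X ⧸ N) = r ∧ Commute a b then h.choose else 1

theorem pick_spec {X : Type*} [Group X] (N : Subgroup X) (r : X ⧸ N) (a : X)
    (h : ∃ b : X, (QuotientGroup.mk b : X ⧸ N) = r ∧ Commute a b) :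
    (QuotientGroup.mk (pick N r a) : X ⧸ N) = r ∧ Commute a (pick N r a) := by
  unfold pick
  rw [dif_pos h]
  exact h.choose_spec

theorem comm_count {X : Type*} [Group X] [Finite X] (N : Subgroup X) [N.Normal] :
    Nat.card {p : X × X // Commute p.1 p.2} ≤
      Nat.card {p : (X ⧸ N) × (X ⧸ N) // Commute p.1 p.2} * Nat.card {p : N × N // Commute p.1 p.2} := by
  rw [← Nat.card_prod]
  -- the data attached to a commuting pair
  have key : ∀ p : {p : X × X // Commute p.1 p.2},
      let a := p.1.1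
      let b := p.1.2
      let m := (pick N (QuotientGroup.mk b) a)⁻¹ * b
      let n := (pick N (QuotientGroup.mk a) m)⁻¹ * a
      m ∈ N ∧ n ∈ N ∧ Commute n m ∧ Commute a m := by
    rintro ⟨⟨a, b⟩, hab⟩
    simp only
    have h1 := pick_spec N (QuotientGroup.mk b) a ⟨b, rfl, hab⟩
    have hm : (pick N (QuotientGroup.mk b) a)⁻¹ * b ∈ N := QuotientGroup.eq.mp h1.1
    have ham : Commute a ((pick N (QuotientGroup.mk b) a)⁻¹ * b) := h1.2.inv_right.mul_right hab
    have h2 := pick_spec N (QuotientGroup.mk a) ((pick N (QuotientGroup.mk b) a)⁻¹ * b) ⟨a, rfl, ham.symm⟩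
    refine ⟨hm, QuotientGroup.eq.mp h2.1, ?_, ham⟩
    exact (h2.2.symm.inv_left).mul_left ham
  let Ψ : {p : X × X // Commute p.1 p.2} →
      {p : (X ⧸ N) × (X ⧸ N) // Commute p.1 p.2} × {p : N × N // Commute p.1 p.2} := fun p =>
    (⟨(QuotientGroup.mk p.1.1, QuotientGroup.mk p.1.2), by
        have := p.2
        show Commute (QuotientGroup.mk p.1.1 : X ⧸ N) (QuotientGroup.mk p.1.2)
        exact this.map (QuotientGroup.mk' N)⟩,
     ⟨(⟨_, (key p).2.1⟩, ⟨_, (key p).1⟩), by
        have := (key p).2.2.1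
        show Commute (⟨_, (key p).2.1⟩ : N) ⟨_, (key p).1⟩
        exact Subtype.ext this⟩)
  apply Nat.card_le_card_of_injective Ψ
  rintro ⟨⟨a, b⟩, hab⟩ ⟨⟨a', b'⟩, hab'⟩ h
  simp only [Ψ, Prod.mk.injEq, Subtype.mk.injEq] at h
  obtain ⟨⟨hq, hr⟩, hn, hm⟩ := h
  have ha : a = a' := by
    have e1 : a = pick N (QuotientGroup.mk a) ((pick N (QuotientGroup.mk b) a)⁻¹ * b) *
        ((pick N (QuotientGroup.mk a) ((pick N (QuotientGroup.mk b) a)⁻¹ * b))⁻¹ * a) := by group
    have e2 : a' = pick N (QuotientGroup.mk a') ((pick N (QuotientGroup.mk b') a')⁻¹ * b') *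
        ((pick N (QuotientGroup.mk a') ((pick N (QuotientGroup.mk b') a')⁻¹ * b'))⁻¹ * a') := by group
    rw [e1, e2, hn, hm, hq]
  subst ha
  have hb : b = b' := by
    have e1 : b = pick N (QuotientGroup.mk b) a * ((pick N (QuotientGroup.mk b) a)⁻¹ * b) := by group
    have e2 : b' = pick N (QuotientGroup.mk b') a * ((pick N (QuotientGroup.mk b') a)⁻¹ * b') := by group
    rw [e1, e2, hm, hr]
  subst hb
  rfl

theorem result {X : Type*} [Group X] [Finite X] (N : Subgroup X) [N.Normal] : Nat.card (ConjClasses X) ≤ Nat.card (ConjClasses N) * Nat.card (ConjClasses (X ⧸ N)) := by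
  have h := comm_count N
  rw [card_comm_eq_card_conjClasses_mul_card, card_comm_eq_card_conjClasses_mul_card,
    card_comm_eq_card_conjClasses_mul_card] at h
  have hX : Nat.card X = Nat.card (X ⧸ N) * Nat.card N := Subgroup.card_eq_card_quotient_mul_card_subgroup N
  rw [hX] at h
  have hpos : 0 < Nat.card (X ⧸ N) * Nat.card N := Nat.mul_pos Nat.card_pos Nat.card_pos
  have h' : Nat.card (ConjClasses X) * (Nat.card (X ⧸ N) * Nat.card N) ≤
      (Nat.card (ConjClasses N) * Nat.card (ConjClasses (X ⧸ N))) * (Nat.card (X ⧸ N) * Nat.card N) := by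
    calc _ ≤ _ := h
      _ = _ := by ring
  exact Nat.le_of_mul_le_mul_right h' hpos

end Cfsg.Agent.S4201
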