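import Mathlib
import Cfsg.Statements.S4200
import Cfsg.Agent.S4201

set_option autoImplicit false
open Cfsg

namespace Cfsg.Agent.S4200

open Cfsg.Agent.S4201

theorem key {X : Type*} [Group X] (Y : Subgroup X) (p : {p : X × X // Commute p.1 p.2}) :
    let a := p.1.1
    let b := p.1.2
    let m := (pick Y (QuotientGroup.mk b) a)⁻¹ * b
    let n := (pick Y (QuotientGroup.mk a) m)⁻¹ * a
    m ∈ Y ∧ n ∈ Y ∧ Commute n m ∧ Commute a m := by
  obtain ⟨⟨a, b⟩, hab⟩ := p
  simp only
  have h1 := pick_spec Y (QuotientGroup.mk b) a ⟨b, rfl, hab⟩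
  have hm : (pick Y (QuotientGroup.mk b) a)⁻¹ * b ∈ Y := QuotientGroup.eq.mp h1.1
  have ham : Commute a ((pick Y (QuotientGroup.mk b) a)⁻¹ * b) := h1.2.inv_right.mul_right hab
  have h2 := pick_spec Y (QuotientGroup.mk a) ((pick Y (QuotientGroup.mk b) a)⁻¹ * b) ⟨a, rfl, ham.symm⟩
  refine ⟨hm, QuotientGroup.eq.mp h2.1, ?_, ham⟩
  exact (h2.2.symm.inv_left).mul_left ham

/-- the injection of commuting pairs -/
noncomputable def Ψ {X : Type*} [Group X] (Y : Subgroup X) (p : {p : X × X // Commute p.1 p.2}) :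
    ((X ⧸ Y) × (X ⧸ Y)) × {p : Y × Y // Commute p.1 p.2} :=
  ((QuotientGroup.mk p.1.1, QuotientGroup.mk p.1.2),
     ⟨(⟨_, (key Y p).2.1⟩, ⟨_, (key Y p).1⟩), by
        have := (key Y p).2.2.1
        show Commute (⟨_, (key Y p).2.1⟩ : Y) ⟨_, (key Y p).1⟩
        exact Subtype.ext this⟩)

theorem Ψ_injective {X : Type*} [Group X] (Y : Subgroup X) : Function.Injective (Ψ Y) := by
  rintro ⟨⟨a, b⟩, hab⟩ ⟨⟨a', b'⟩, hab'⟩ h
  simp only [Ψ, Prod.mk.injEq, Subtype.mk.injEq] at h
  obtain ⟨⟨hq, hr⟩, hn, hm⟩ := h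
  have ha : a = a' := by
    have e1 : a = pick Y (QuotientGroup.mk a) ((pick Y (QuotientGroup.mk b) a)⁻¹ * b) *
        ((pick Y (QuotientGroup.mk a) ((pick Y (QuotientGroup.mk b) a)⁻¹ * b))⁻¹ * a) := by group
    have e2 : a' = pick Y (QuotientGroup.mk a') ((pick Y (QuotientGroup.mk b') a')⁻¹ * b') *
        ((pick Y (QuotientGroup.mk a') ((pick Y (QuotientGroup.mk b') a')⁻¹ * b'))⁻¹ * a') := by group
    rw [e1, e2, hn, hm, hq]
  subst ha
  have hb : b = b' := by
    have e1 : b = pick Y (QuotientGroup.mk b) a * ((pick Y (QuotientGroup.mk b) a)⁻¹ * b) := by group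
    have e2 : b' = pick Y (QuotientGroup.mk b') a * ((pick Y (QuotientGroup.mk b') a)⁻¹ * b') := by group
    rw [e1, e2, hm, hr]
  subst hb
  rfl

theorem Ψ_not_surjective {X : Type*} [Group X] (Y : Subgroup X) (hY : ¬ Y.Normal) :
    ¬ Function.Surjective (Ψ Y) := by
  intro hsurj
  apply hY
  constructor
  intro y hy x
  by_contra hcon
  obtain ⟨⟨⟨a, b⟩, hab⟩, hp⟩ := hsurj ((QuotientGroup.mk x⁻¹, QuotientGroup.mk 1),
    ⟨(1, ⟨y, hy⟩), Commute.one_left _⟩)
  have hk := key Y ⟨(a, b), hab⟩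
  simp only [Ψ, Prod.mk.injEq, Subtype.mk.injEq] at hp
  obtain ⟨⟨hq, hr⟩, hn, hm⟩ := hp
  simp only at hk
  have hm' : (pick Y (QuotientGroup.mk b) a)⁻¹ * b = y := hm
  rw [hm'] at hk
  have hcomm : Commute a y := hk.2.2.2
  have hmem : x * a ∈ Y := by
    have := QuotientGroup.eq.mp hq.symm
    simpa using this
  apply hcon
  have : x * y * x⁻¹ = (x * a) * y * (x * a)⁻¹ := by
    have h1 : a * y * a⁻¹ = y := by rw [hcomm.eq]; group
    calc x * y * x⁻¹ = x * (a * y * a⁻¹) * x⁻¹ := by rw [h1]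
      _ = (x * a) * y * (x * a)⁻¹ := by group
  rw [this]
  exact Y.mul_mem (Y.mul_mem hmem hy) (Y.inv_mem hmem)

theorem result {X : Type*} [Group X] [Finite X] (Y : Subgroup X) : Nat.card (ConjClasses Y) ≤ Y.index * Nat.card (ConjClasses X) ∧ Nat.card (ConjClasses X) ≤ Y.index * Nat.card (ConjClasses Y) ∧ (¬ Y.Normal → Nat.card (ConjClasses X) < Y.index * Nat.card (ConjClasses Y)) := by
  have hXY : Nat.card X = Y.index * Nat.card Y := (Subgroup.index_mul_card Y).symm
  have hYpos : 0 < Nat.card Y := Nat.card_pos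
  have hipos : 0 < Y.index := Nat.pos_of_ne_zero Subgroup.index_ne_zero_of_finite
  have hcY := card_comm_eq_card_conjClasses_mul_card Y
  have hcX := card_comm_eq_card_conjClasses_mul_card X
  refine ⟨?_, ?_, ?_⟩
  · -- commuting pairs of Y inject into commuting pairs of X
    let ι : {p : Y × Y // Commute p.1 p.2} → {p : X × X // Commute p.1 p.2} := fun p =>
      ⟨((p.1.1 : X), (p.1.2 : X)), by
        have := p.2
        exact congrArg Subtype.val this⟩
    have hι : Function.Injective ι := by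
      rintro ⟨⟨a, b⟩, hab⟩ ⟨⟨a', b'⟩, hab'⟩ h
      have h1 : (a : X) = a' := congrArg (fun q : {p : X × X // Commute p.1 p.2} => q.1.1) h
      have h2 : (b : X) = b' := congrArg (fun q : {p : X × X // Commute p.1 p.2} => q.1.2) h
      exact Subtype.ext (Prod.ext (Subtype.ext h1) (Subtype.ext h2))
    have hle := Nat.card_le_card_of_injective ι hι
    rw [hcY, hcX, hXY] at hle
    have : Nat.card (ConjClasses Y) * Nat.card Y ≤ (Y.index * Nat.card (ConjClasses X)) * Nat.card Y := by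
      calc _ ≤ _ := hle
        _ = _ := by ring
    exact Nat.le_of_mul_le_mul_right this hYpos
  · have hle := Nat.card_le_card_of_injective (Ψ Y) (Ψ_injective Y)
    rw [Nat.card_prod, Nat.card_prod, hcX, hcY, ← Subgroup.index_eq_card, hXY] at hle
    have : Nat.card (ConjClasses X) * (Y.index * Nat.card Y) ≤ (Y.index * Nat.card (ConjClasses Y)) * (Y.index * Nat.card Y) := by
      calc _ ≤ _ := hle
        _ = _ := by ring
    exact Nat.le_of_mul_le_mul_right this (Nat.mul_pos hipos hYpos)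
  · intro hY
    have hlt : Nat.card {p : X × X // Commute p.1 p.2} <
        Nat.card (((X ⧸ Y) × (X ⧸ Y)) × {p : Y × Y // Commute p.1 p.2}) := by
      by_contra hge
      exact Ψ_not_surjective Y hY ((Ψ_injective Y).bijective_of_nat_card_le (not_lt.mp hge)).2
    rw [Nat.card_prod, Nat.card_prod, hcX, hcY, ← Subgroup.index_eq_card, hXY] at hlt
    have : Nat.card (ConjClasses X) * (Y.index * Nat.card Y) < (Y.index * Nat.card (ConjClasses Y)) * (Y.index * Nat.card Y) := by
      calc _ < _ := hlt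
        _ = _ := by ring
    exact Nat.lt_of_mul_lt_mul_right this

end Cfsg.Agent.S4200
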