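import Mathlib
import Cfsg.Agent.S0144
import Cfsg.Statements.S4203

set_option autoImplicit false
open Cfsg

namespace Cfsg.Agent.S4203

universe u

theorem isCoatom_comap_mk {G : Type*} [Group G] (N : Subgroup G) [N.Normal]
    (M : Subgroup (G ⧸ N)) (hM : IsCoatom M) :
    IsCoatom (M.comap (QuotientGroup.mk' N)) := by
  have hsurj : Function.Surjective (QuotientGroup.mk' N) := QuotientGroup.mk'_surjective N
  constructor
  · intro h
    apply hM.1
    rw [← Subgroup.map_comap_eq_self_of_surjective hsurj M, h]
    exact Subgroup.map_top_of_surjective _ hsurj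
  · intro K hK
    have hNK : N ≤ K := by
      refine le_trans ?_ hK.le
      intro x hx
      rw [Subgroup.mem_comap]
      have : (QuotientGroup.mk' N) x = 1 := by
        rw [← MonoidHom.mem_ker, QuotientGroup.ker_mk']; exact hx
      rw [this]; exact M.one_mem
    have hcm : (K.map (QuotientGroup.mk' N)).comap (QuotientGroup.mk' N) = K := by
      rw [Subgroup.comap_map_eq, QuotientGroup.ker_mk', sup_eq_left.mpr hNK]
    have hle : M ≤ K.map (QuotientGroup.mk' N) := by
      rw [← Subgroup.map_comap_eq_self_of_surjective hsurj M]
      exact Subgroup.map_mono hK.le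
    rcases eq_or_lt_of_le hle with heq | hlt
    · exfalso
      rw [heq, hcm] at hK
      exact lt_irrefl _ hK
    · have := hM.2 _ hlt
      rw [← hcm, this]
      exact Subgroup.comap_top _

theorem two_three_smooth (n : ℕ) (hn : n ≠ 0) (h : ∀ r : ℕ, r.Prime → r ∣ n → r ≤ 3) :
    ∃ a b : ℕ, n = 2 ^ a * 3 ^ b := by
  obtain ⟨a, m, hm, hnm⟩ := Nat.exists_eq_pow_mul_and_not_dvd hn 2 (by norm_num)
  have hm0 : m ≠ 0 := by rintro rfl; simp at hnm; exact hn hnm
  obtain ⟨b, m', hm', hmm'⟩ := Nat.exists_eq_pow_mul_and_not_dvd hm0 3 (by norm_num)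
  refine ⟨a, b, ?_⟩
  have hm'1 : m' = 1 := by
    by_contra hne
    obtain ⟨r, hr, hrm⟩ := Nat.exists_prime_and_dvd hne
    have hrn : r ∣ n := by
      rw [hnm, hmm']
      exact Dvd.dvd.mul_left (Dvd.dvd.mul_left hrm _) _
    have hr3 := h r hr hrn
    have hr2 := hr.two_le
    have : r = 2 ∨ r = 3 := by omega
    rcases this with rfl | rfl
    · apply hm
      rw [hmm']
      exact Dvd.dvd.mul_left hrm _
    · exact hm' hrm
  rw [hnm, hmm', hm'1, mul_one]

theorem main : ∀ (n : ℕ) (G : Type u) [Group G] [Finite G], Nat.card G = n →
    (∀ M : Subgroup G, IsCoatom M → ∃ p : ℕ, p.Prime ∧ (M.index = p ∨ M.index = p ^ 2)) →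
    Group.IsSolvable G := by
  intro n
  induction n using Nat.strong_induction_on with
  | _ n ih =>
    intro G _ _ hn h
    by_cases hn1 : n = 1
    · have : Subsingleton G := by
        rw [← Finite.card_le_one_iff_subsingleton, hn, hn1]
      infer_instance
    have hn0 : n ≠ 0 := by rw [← hn]; exact Nat.card_pos.ne'
    -- p = largest prime factor
    have hne : n.primeFactors.Nonempty := by
      obtain ⟨r, hr, hrn⟩ := Nat.exists_prime_and_dvd hn1
      exact ⟨r, Nat.mem_primeFactors.mpr ⟨hr, hrn, hn0⟩⟩
    set p := n.primeFactors.max' hne with hp_def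
    have hpmem : p ∈ n.primeFactors := Finset.max'_mem _ hne
    have hp : p.Prime := (Nat.mem_primeFactors.mp hpmem).1
    have hpn : p ∣ n := (Nat.mem_primeFactors.mp hpmem).2.1
    have hpmax : ∀ r : ℕ, r.Prime → r ∣ n → r ≤ p := by
      intro r hr hrn
      exact Finset.le_max' _ r (Nat.mem_primeFactors.mpr ⟨hr, hrn, hn0⟩)
    have : Fact p.Prime := ⟨hp⟩
    obtain ⟨P⟩ : Nonempty (Sylow p G) := inferInstance
    by_cases hPn : (P : Subgroup G).Normal
    · -- quotient
      have hPne : (P : Subgroup G) ≠ ⊥ := by
        intro hbot
        have hcard := P.card_eq_multiplicity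
        rw [hbot, Subgroup.card_bot] at hcard
        have : (Nat.card G).factorization p = 0 := by
          by_contra h0
          have : 1 < p ^ (Nat.card G).factorization p := Nat.one_lt_pow h0 hp.one_lt
          omega
        rw [hn] at this
        rcases (Nat.factorization_eq_zero_iff n p).mp this with h1 | h1 | h1
        · exact h1 hp
        · exact h1 hpn
        · exact hn0 h1
      have hlt : Nat.card (G ⧸ (P : Subgroup G)) < n := by
        rw [← hn, ← Subgroup.index_eq_card, ← Subgroup.card_mul_index (P : Subgroup G)]
        have h1 : 1 < Nat.card (P : Subgroup G) := by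
          rw [Subgroup.one_lt_card_iff_ne_bot]; exact hPne
        have h2 : 0 < (P : Subgroup G).index := Nat.pos_of_ne_zero Subgroup.index_ne_zero_of_finite
        nlinarith
      have hq : Group.IsSolvable (G ⧸ (P : Subgroup G)) := by
        apply ih _ hlt (G ⧸ (P : Subgroup G)) rfl
        intro M hM
        have hM' := isCoatom_comap_mk (P : Subgroup G) M hM
        obtain ⟨q, hq, hqi⟩ := h _ hM'
        refine ⟨q, hq, ?_⟩
        rw [Subgroup.index_comap_of_surjective _ (QuotientGroup.mk'_surjective _)] at hqi
        exact hqi
      have hPs : Group.IsSolvable (P : Subgroup G) := by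
        have : Group.IsNilpotent (P : Subgroup G) := P.isPGroup'.isNilpotent
        infer_instance
      exact Group.isSolvable_of_ker_le_range (P : Subgroup G).subtype
        (QuotientGroup.mk' (P : Subgroup G)) (by simp)
    · -- non-normal
      have hp3 : p = 3 := by
       have hNtop : Subgroup.normalizer ((P : Subgroup G) : Set G) ≠ ⊤ := by
         intro htop
         exact hPn (Subgroup.normalizer_eq_top_iff.mp htop)
       obtain ⟨M, hM, hNM⟩ := (IsCoatomic.eq_top_or_exists_le_coatom
         (Subgroup.normalizer ((P : Subgroup G) : Set G))).resolve_left hNtop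
       have hPM : (P : Subgroup G) ≤ M := le_trans Subgroup.le_normalizer hNM
       -- Sylow counts
       have h1 : Nat.card (Sylow p G) ≡ 1 [MOD p] := card_sylow_modEq_one p G
       have h2 : Nat.card (Sylow p M) ≡ 1 [MOD p] := card_sylow_modEq_one p M
       rw [Sylow.card_eq_index_normalizer P] at h1
       rw [Sylow.card_eq_index_normalizer (P.subtype hPM)] at h2
       have h3 : (Subgroup.normalizer (((P.subtype hPM : Sylow p M) : Subgroup M) : Set M)).index
           = (Subgroup.normalizer ((P : Subgroup G) : Set G)).relIndex M := by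
         rw [Subgroup.relIndex]
         congr 1
         rw [Subgroup.subgroupOf_normalizer_eq hPM]
         rfl
       have h2' : (Subgroup.normalizer ((P : Subgroup G) : Set G)).relIndex M ≡ 1 [MOD p] := by
         rw [← h3]; exact h2
       have hmul := Subgroup.relIndex_mul_index hNM
       have hMi : M.index ≡ 1 [MOD p] := by
         have : (Subgroup.normalizer ((P : Subgroup G) : Set G)).relIndex M * M.index ≡
             1 * M.index [MOD p] := Nat.ModEq.mul_right _ h2'
         rw [hmul, one_mul] at this
         exact this.symm.trans h1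
       obtain ⟨q, hq, hqi⟩ := h M hM
       have hqn : q ∣ n := by
         rw [← hn]
         refine dvd_trans ?_ (Subgroup.index_dvd_card M)
         rcases hqi with hqi | hqi
         · rw [hqi]
         · rw [hqi]; exact dvd_pow_self _ (by norm_num)
       have hqp : q ≤ p := hpmax q hq hqn
       have hq2 := hq.two_le
       have hp2 := hp.two_le
       have hqnep : q ≠ p := by
         intro hqp'
         rw [hqp'] at hqi
         rcases hqi with hqi | hqi
         · rw [hqi] at hMi
           have : p % p = 1 % p := hMi
           rw [Nat.mod_self, Nat.mod_eq_of_lt (by omega)] at this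
           omega
         · rw [hqi] at hMi
           have : p ^ 2 % p = 1 % p := hMi
           rw [Nat.mod_eq_of_lt (show 1 < p by omega)] at this
           have h0 : p ^ 2 % p = 0 := Nat.mod_eq_zero_of_dvd (dvd_pow_self _ (by norm_num))
           omega
       have hqltp : q < p := lt_of_le_of_ne hqp hqnep
       rcases hqi with hqi | hqi
       · rw [hqi] at hMi
         have : q % p = 1 % p := hMi
         rw [Nat.mod_eq_of_lt hqltp, Nat.mod_eq_of_lt (by omega)] at this
         omega
       · rw [hqi] at hMi
         -- p ∣ q^2 - 1
         have hdvd : p ∣ q ^ 2 - 1 := by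
           have := (Nat.modEq_iff_dvd' (Nat.one_le_pow _ _ (by omega))).mp hMi.symm
           exact this
         have hfac : q ^ 2 - 1 = (q - 1) * (q + 1) := by
           have : q ^ 2 = (q - 1) * (q + 1) + 1 := by
             obtain ⟨k, rfl⟩ : ∃ k, q = k + 1 := ⟨q - 1, by omega⟩
             simp; ring
           omega
         rw [hfac] at hdvd
         rcases (Nat.Prime.dvd_mul hp).mp hdvd with hd | hd
         · have := Nat.le_of_dvd (by omega) hd
           omega
         · have hle := Nat.le_of_dvd (by omega) hd
           have hpq1 : p = q + 1 := by omega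
           -- q, q+1 both prime → q = 2, p = 3
           have hq2' : q = 2 := by
             rcases Nat.Prime.eq_two_or_odd hq with h2 | hodd
             · exact h2
             · exfalso
               rcases Nat.Prime.eq_two_or_odd hp with h2' | hodd'
               · omega
               · omega
           omega
      obtain ⟨a, b, hab⟩ := two_three_smooth n hn0 (by
        intro r hr hrn
        have := hpmax r hr hrn
        omega)
      exact Cfsg.Agent.S0144.result 2 3 a b (by norm_num) (by norm_num) (by rw [hn, hab])

theorem result {G : Type*} [Group G] [Finite G] (h : ∀ M : Subgroup G, IsCoatom M → ∃ p : ℕ, p.Prime ∧ (M.index = p ∨ M.index = p ^ 2)) : Group.IsSolvable G :=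
  main _ G rfl h

end Cfsg.Agent.S4203
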