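import Cfsg.Statements.S4204

set_option autoImplicit false
open Cfsg

namespace Cfsg.Agent.S4204

variable {G : Type*} [Group G]

theorem le_iff_map_eq_bot (T : Subgroup G) [T.Normal] (X : Subgroup G) :
    X ≤ T ↔ X.map (QuotientGroup.mk' T) = ⊥ := by
  rw [← le_bot_iff, Subgroup.map_le_iff_le_comap, MonoidHom.comap_bot, QuotientGroup.ker_mk']

/-- commutator into normal subgroup as a containment -/
theorem comm_le_iff (T : Subgroup G) [T.Normal] (X C : Subgroup G) :
    ⁅X, C⁆ ≤ T ↔ X ≤ (Subgroup.centralizer ((C.map (QuotientGroup.mk' T) : Subgroup (G ⧸ T)) : Set (G ⧸ T))).comap (QuotientGroup.mk' T) := by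
  rw [le_iff_map_eq_bot, Subgroup.map_commutator, Subgroup.commutator_eq_bot_iff_le_centralizer,
    Subgroup.map_le_iff_le_comap]

theorem iSup_comm_le {ι : Sort*} (T : Subgroup G) [T.Normal] (X : ι → Subgroup G) (C : Subgroup G)
    (h : ∀ i, ⁅X i, C⁆ ≤ T) : ⁅⨆ i, X i, C⁆ ≤ T := by
  rw [comm_le_iff]
  apply iSup_le
  intro i
  rw [← comm_le_iff]
  exact h i

theorem comm_sup_le (T : Subgroup G) [T.Normal] (X A B : Subgroup G)
    (h1 : ⁅X, A⁆ ≤ T) (h2 : ⁅X, B⁆ ≤ T) : ⁅X, A ⊔ B⁆ ≤ T := by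
  rw [Subgroup.commutator_comm] at h1 h2 ⊢
  rw [comm_le_iff] at h1 h2 ⊢
  exact sup_le h1 h2

/-- `hh H 0 = ⊤`, `hh H (a+1) = γ_a(H)` -/
def hh (H : Subgroup G) : ℕ → Subgroup G
  | 0 => ⊤
  | a + 1 => H.lowerCentralSeries a

instance lcs_normal (H : Subgroup G) [H.Normal] (n : ℕ) : (H.lowerCentralSeries n).Normal := by
  induction n with
  | zero => simpa
  | succ d ih => rw [Subgroup.lowerCentralSeries_succ]; infer_instance

instance hh_normal (H : Subgroup G) [H.Normal] (a : ℕ) : (hh H a).Normal := by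
  cases a with
  | zero => exact Subgroup.normal_top
  | succ a => exact lcs_normal H a

theorem comm_hh_le (H : Subgroup G) [H.Normal] (a : ℕ) : ⁅hh H a, H⁆ ≤ hh H (a + 1) := by
  cases a with
  | zero => exact Subgroup.commutator_le_right _ _
  | succ a => exact le_rfl

/-- the bounding subgroup -/
def TT (H K : Subgroup G) (n : ℕ) : Subgroup G :=
  ⨆ a : Fin (n + 2), hh H a ⊓ hh K (n + 1 - a)

instance TT_normal (H K : Subgroup G) [H.Normal] [K.Normal] (n : ℕ) : (TT H K n).Normal := by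
  unfold TT
  infer_instance

theorem term_le_TT (H K : Subgroup G) (n a b : ℕ) (hab : a + b = n + 1) :
    hh H a ⊓ hh K b ≤ TT H K n := by
  have ha : a < n + 2 := by omega
  have hb : b = n + 1 - a := by omega
  subst hb
  exact le_iSup (fun a : Fin (n + 2) => hh H a ⊓ hh K (n + 1 - a)) ⟨a, ha⟩

theorem lcs_le_TT (H K : Subgroup G) [H.Normal] [K.Normal] (n : ℕ) :
    (H ⊔ K).lowerCentralSeries n ≤ TT H K n := by
  induction n with
  | zero =>
    rw [Subgroup.lowerCentralSeries_zero]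
    apply sup_le
    · have := term_le_TT H K 0 1 0 rfl
      simpa [hh] using this
    · have := term_le_TT H K 0 0 1 rfl
      simpa [hh] using this
  | succ n ih =>
    rw [Subgroup.lowerCentralSeries_succ]
    refine (Subgroup.commutator_mono ih le_rfl).trans ?_
    have key : ∀ a : Fin (n + 2), ⁅hh H a ⊓ hh K (n + 1 - a), H ⊔ K⁆ ≤ TT H K (n + 1) := by
      intro a
      have ha : (a : ℕ) < n + 2 := a.2
      apply comm_sup_le
      · have h1 : ⁅hh H a ⊓ hh K (n + 1 - a), H⁆ ≤ hh H (a + 1) :=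
          (Subgroup.commutator_mono inf_le_left le_rfl).trans (comm_hh_le H a)
        have h2 : ⁅hh H a ⊓ hh K (n + 1 - a), H⁆ ≤ hh K (n + 1 - a) :=
          (Subgroup.commutator_mono inf_le_right le_rfl).trans (Subgroup.commutator_le_left _ _)
        exact (le_inf h1 h2).trans (term_le_TT H K (n + 1) (a + 1) (n + 1 - a) (by omega))
      · have h1 : ⁅hh H a ⊓ hh K (n + 1 - a), K⁆ ≤ hh H a :=
          (Subgroup.commutator_mono inf_le_left le_rfl).trans (Subgroup.commutator_le_left _ _)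
        have h2 : ⁅hh H a ⊓ hh K (n + 1 - a), K⁆ ≤ hh K (n + 1 - a + 1) :=
          (Subgroup.commutator_mono inf_le_right le_rfl).trans (comm_hh_le K _)
        exact (le_inf h1 h2).trans (term_le_TT H K (n + 1) a (n + 1 - a + 1) (by omega))
    exact iSup_comm_le (TT H K (n + 1)) (fun a : Fin (n + 2) => hh H a ⊓ hh K (n + 1 - a)) (H ⊔ K) key

theorem result {G : Type*} [Group G] [Finite G] (H K : Subgroup G) [H.Normal] [K.Normal] (c d : ℕ) (hH : H.lowerCentralSeries c = ⊥) (hK : K.lowerCentralSeries d = ⊥) : (H ⊔ K).lowerCentralSeries (c + d) = ⊥ := by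
  rw [eq_bot_iff]
  refine (lcs_le_TT H K (c + d)).trans ?_
  unfold TT
  apply iSup_le
  intro a
  by_cases hac : c + 1 ≤ (a : ℕ)
  · refine inf_le_left.trans ?_
    obtain ⟨a', ha'⟩ : ∃ a', (a : ℕ) = a' + 1 := ⟨(a : ℕ) - 1, by omega⟩
    rw [ha']
    show H.lowerCentralSeries a' ≤ ⊥
    rw [← hH]
    exact H.lowerCentralSeries_antitone (by omega)
  · refine inf_le_right.trans ?_
    obtain ⟨b', hb'⟩ : ∃ b', c + d + 1 - (a : ℕ) = b' + 1 := ⟨c + d + 1 - (a : ℕ) - 1, by omega⟩
    rw [hb']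
    show K.lowerCentralSeries b' ≤ ⊥
    rw [← hK]
    exact K.lowerCentralSeries_antitone (by omega)

end Cfsg.Agent.S4204
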