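import Cfsg.Statements.S4205

set_option autoImplicit false
open Cfsg

namespace Cfsg.Agent.S4205

theorem ucs_le_iter {G : Type*} [Group G] (H : Subgroup G) (n : ℕ) :
    Subgroup.upperCentralSeries G n ≤ (fun K : Subgroup G => Subgroup.normalizer (K : Set G))^[n] H := by
  induction n with
  | zero => simp
  | succ n ih =>
    rw [Function.iterate_succ_apply']
    intro z hz
    rw [Subgroup.mem_upperCentralSeries_succ_iff] at hz
    rw [Subgroup.mem_normalizer_iff]
    intro k
    have h1 : z * k * z⁻¹ * k⁻¹ ∈ (fun K : Subgroup G => Subgroup.normalizer (K : Set G))^[n] H := ih (hz k)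
    constructor
    · intro hk
      have := Subgroup.mul_mem _ h1 hk
      simpa using this
    · intro hk
      have := Subgroup.mul_mem _ (Subgroup.inv_mem _ h1) hk
      simpa [mul_assoc] using this

/-- In a finite group whose upper central series reaches the whole group at step `c` (nilpotent of class at most `c`), starting from any subgroup and taking normalizers `c` times reaches the whole group. -/
theorem result {G : Type*} [Group G] [Finite G] (c : ℕ) (hG : Subgroup.upperCentralSeries G c = ⊤) (H : Subgroup G) : (fun K : Subgroup G => Subgroup.normalizer (K : Set G))^[c] H = ⊤ := by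
  exact top_le_iff.mp (hG ▸ ucs_le_iter H c)

end Cfsg.Agent.S4205
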