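import Mathlib
import Cfsg.Statements.S4211
import Cfsg.Agent.Lib_helper17_Dedekind
import Cfsg.Agent.Lib_helper11_QuatPres

set_option autoImplicit false

open Cfsg

namespace Cfsg.Agent.S4211

open Cfsg.Agent.helper17.Ded

variable {G : Type*} [Group G]

theorem quat_conj {x y : G} (hy2 : y ^ 2 = x ^ 2) (hyx : y * x * y⁻¹ = x⁻¹) :
    x * y * x⁻¹ = y⁻¹ := by
  have h1 : y * x = x⁻¹ * y := mul_inv_eq_iff_eq_mul.mp hyx
  have h2 : x * y = y * x⁻¹ := by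
    have h3 : x * y * x = y := by rw [mul_assoc, h1, mul_inv_cancel_left]
    exact eq_mul_inv_of_mul_eq h3
  rw [h2, mul_assoc, ← mul_inv_rev, ← pow_two, ← hy2, pow_two, mul_inv_rev, ← mul_assoc,
    mul_inv_cancel, one_mul]

theorem not_comm {x y : G} (hx4 : orderOf x = 4) (hyx : y * x * y⁻¹ = x⁻¹) : x * y ≠ y * x := by
  intro h
  have h1 : y * x * y⁻¹ = x := by rw [← h, mul_inv_cancel_right]
  rw [h1] at hyx
  have h2 : x ^ 2 = 1 := by rw [pow_two]; nth_rewrite 2 [hyx]; exact mul_inv_cancel x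
  have := orderOf_dvd_of_pow_eq_one h2
  rw [hx4] at this
  norm_num at this

theorem conj_eq_or_inv [Finite G] (hn : ∀ H : Subgroup G, H.Normal) {x : G}
    (hx4 : orderOf x = 4) (g : G) : g * x * g⁻¹ = x ∨ g * x * g⁻¹ = x⁻¹ := by
  have hmem : g * x * g⁻¹ ∈ Subgroup.zpowers x :=
    (hn _).conj_mem _ (Subgroup.mem_zpowers x) g
  obtain ⟨k, hk, hkx⟩ := exists_pow_lt_of_mem_zpowers hmem
  rw [hx4] at hk
  have hx4' : x ^ 4 = 1 := by rw [← hx4]; exact pow_orderOf_eq_one x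
  have hx2 : x ^ 2 ≠ 1 := by
    intro h
    have := orderOf_dvd_of_pow_eq_one h
    rw [hx4] at this
    norm_num at this
  have hsq : g * x ^ 2 * g⁻¹ = x ^ (k * 2) := by rw [← conj_pow, ← hkx, ← pow_mul]
  interval_cases k
  · exfalso
    rw [pow_zero] at hkx
    have h1 : x = 1 := by
      have h := hkx.symm
      rwa [conj_eq_one_iff] at h
    apply hx2; rw [h1, one_pow]
  · left; rw [← hkx, pow_one]
  · exfalso
    rw [show 2 * 2 = 4 by norm_num, hx4'] at hsq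
    rw [conj_eq_one_iff] at hsq
    exact hx2 hsq
  · right
    rw [← hkx]
    exact eq_inv_of_mul_eq_one_left (by rw [← pow_succ, hx4'])

theorem sq_eq_one_of_pow_four [Finite G] (hn : ∀ H : Subgroup G, H.Normal) {x y : G}
    (hx4 : orderOf x = 4) (hyx : y * x * y⁻¹ = x⁻¹) {g : G} (hgx : x * g = g * x)
    (hgy : y * g = g * y) (hg4 : g ^ 4 = 1) : g ^ 2 = 1 := by
  have hx4' : x ^ 4 = 1 := by rw [← hx4]; exact pow_orderOf_eq_one x
  have hnc := not_comm hx4 hyx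
  have hcomm : Commute g x := hgx.symm
  have hw4 : (g * x) ^ 4 = 1 := by rw [hcomm.mul_pow, hg4, hx4', one_mul]
  have hconj : y * (g * x) * y⁻¹ = g * x⁻¹ := by
    calc y * (g * x) * y⁻¹ = (y * g) * x * y⁻¹ := by simp only [mul_assoc]
      _ = g * (y * x * y⁻¹) := by rw [hgy]; simp only [mul_assoc]
      _ = g * x⁻¹ := by rw [hyx]
  have hmem : g * x⁻¹ ∈ Subgroup.zpowers (g * x) := by
    rw [← hconj]; exact (hn _).conj_mem _ (Subgroup.mem_zpowers _) y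
  obtain ⟨k, hk, hkw⟩ := exists_pow_lt_of_mem_zpowers hmem
  have hle : orderOf (g * x) ≤ 4 :=
    Nat.le_of_dvd (by norm_num) (orderOf_dvd_of_pow_eq_one hw4)
  have hk4 : k < 4 := lt_of_lt_of_le hk hle
  rw [hcomm.mul_pow] at hkw
  have hgne : g ≠ x := by
    intro h; rw [h] at hgy; exact hnc hgy.symm
  interval_cases k
  · exfalso
    rw [pow_zero, pow_zero, one_mul] at hkw
    exact hgne (mul_inv_eq_one.mp hkw.symm)
  · exfalso
    rw [pow_one, pow_one] at hkw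
    have h1 : x = x⁻¹ := mul_left_cancel hkw
    have h2 : x ^ 2 = 1 := by rw [pow_two]; nth_rewrite 2 [h1]; exact mul_inv_cancel x
    have := orderOf_dvd_of_pow_eq_one h2
    rw [hx4] at this
    norm_num at this
  · exfalso
    rw [pow_two g, mul_assoc] at hkw
    have h1 : g * x ^ 2 = x⁻¹ := mul_left_cancel hkw
    apply hgne
    have h2 : g * x ^ 2 * x ^ 2 = x⁻¹ * x ^ 2 := by rw [h1]
    rw [mul_assoc, ← pow_add, hx4', mul_one] at h2
    rw [h2]; group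
  · have hx3 : x ^ 3 = x⁻¹ := eq_inv_of_mul_eq_one_left (by rw [← pow_succ, hx4'])
    rw [hx3] at hkw
    have h1 : g ^ 3 = g := mul_right_cancel hkw
    have h2 : g ^ 2 * g = 1 * g := by rw [← pow_succ, one_mul]; exact h1
    exact mul_right_cancel h2

theorem sq_eq_one_of_two_pow (C : Subgroup G) (h4 : ∀ g ∈ C, g ^ 4 = 1 → g ^ 2 = 1) :
    ∀ j : ℕ, ∀ h ∈ C, h ^ (2 ^ j) = 1 → h ^ 2 = 1 := by
  intro j
  induction j with
  | zero => intro h _ hh; rw [pow_zero, pow_one] at hh; rw [hh, one_pow]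
  | succ j ih =>
    intro h hh hpow
    rcases Nat.eq_zero_or_pos j with rfl | hj
    · simpa using hpow
    · obtain ⟨j', rfl⟩ : ∃ j', j = j' + 1 := ⟨j - 1, by omega⟩
      apply ih h hh
      have h1 : (h ^ (2 ^ j')) ^ 4 = 1 := by
        rw [← pow_mul, show 2 ^ j' * 4 = 2 ^ (j' + 1 + 1) by ring]; exact hpow
      have h2 := h4 _ (pow_mem hh _) h1
      rw [← pow_mul, show 2 ^ j' * 2 = 2 ^ (j' + 1) by ring] at h2
      exact h2

/-- elements of an abelian subgroup killed by `n` -/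
def powKer (C : Subgroup G) (hab : ∀ a ∈ C, ∀ b ∈ C, a * b = b * a) (n : ℕ) : Subgroup G where
  carrier := {g | g ∈ C ∧ g ^ n = 1}
  mul_mem' := by
    rintro a b ⟨ha, ha'⟩ ⟨hb, hb'⟩
    refine ⟨mul_mem ha hb, ?_⟩
    have h1 : Commute a b := hab a ha b hb
    rw [h1.mul_pow, ha', hb', one_mul]
  one_mem' := ⟨one_mem C, one_pow n⟩
  inv_mem' := by
    rintro a ⟨ha, ha'⟩
    exact ⟨inv_mem ha, by rw [inv_pow, ha', inv_one]⟩

theorem main [Finite G] (hna : ¬ IsMulCommutative G) (hn : ∀ H : Subgroup G, H.Normal) :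
    ∃ Q E A : Subgroup G, Nonempty (Q ≃* QuaternionGroup 2) ∧ Cfsg.IsElementaryAbelian 2 E ∧
      IsMulCommutative A ∧ Odd (Nat.card A) ∧ E ⊓ A = ⊥ ∧ Q ⊓ (E ⊔ A) = ⊥ ∧
      Q ⊔ (E ⊔ A) = ⊤ := by
  classical
  have hex : ∃ x ∈ (⊤ : Subgroup G), ∃ y ∈ (⊤ : Subgroup G), x * y ≠ y * x := by
    by_contra h
    push Not at h
    exact hna ⟨⟨fun a b => h a (Subgroup.mem_top a) b (Subgroup.mem_top b)⟩⟩
  obtain ⟨x, -, y, -, hx4, hy2, hyx⟩ := exists_quat_pair hn ⊤ hex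
  have hx4' : x ^ 4 = 1 := by rw [← hx4]; exact pow_orderOf_eq_one x
  have hx2 : x ^ 2 ≠ 1 := by
    intro h
    have := orderOf_dvd_of_pow_eq_one h
    rw [hx4] at this
    norm_num at this
  have hy4' : y ^ 4 = 1 := by
    rw [show 4 = 2 * 2 by norm_num, pow_mul, hy2, ← pow_mul]; exact hx4'
  have hy4 : orderOf y = 4 := by
    have h1 := orderOf_eq_prime_pow (p := 2) (n := 1) (x := y)
      (by rw [pow_one, hy2]; exact hx2) (by norm_num; exact hy4')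
    rw [h1]; norm_num
  have hnc := not_comm hx4 hyx
  have hxyx := quat_conj hy2 hyx
  have hord : orderOf x = 2 * 2 := by rw [hx4]
  have hinj := Cfsg.Agent.helper11.QuatPres.quatHom_injective (n := 2) le_rfl hord hy2 hyx
  obtain ⟨f, hf_inj, hfa, hfxa⟩ : ∃ f : QuaternionGroup 2 →* G, Function.Injective f ∧
      (∀ i, f (QuaternionGroup.a i) = x ^ i.val) ∧
      (∀ i, f (QuaternionGroup.xa i) = y * x ^ i.val) := ⟨_, hinj, fun i => rfl, fun i => rfl⟩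
  obtain ⟨Q, hQ⟩ : ∃ Q : Subgroup G, Q = f.range := ⟨_, rfl⟩
  have hxQ : x ∈ Q := by
    rw [hQ]
    refine ⟨QuaternionGroup.a 1, ?_⟩
    rw [hfa]
    have : (1 : ZMod (2 * 2)).val = 1 := by decide
    rw [this, pow_one]
  have hyQ : y ∈ Q := by
    rw [hQ]
    refine ⟨QuaternionGroup.xa 0, ?_⟩
    rw [hfxa, ZMod.val_zero, pow_zero, mul_one]
  obtain ⟨C, hC⟩ : ∃ C : Subgroup G, C = Subgroup.centralizer ({x, y} : Set G) := ⟨_, rfl⟩
  have hCmem : ∀ g, g ∈ C ↔ x * g = g * x ∧ y * g = g * y := by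
    intro g; rw [hC]; simp [Subgroup.mem_centralizer_iff]
  have hC4 : ∀ g ∈ C, g ^ 4 = 1 → g ^ 2 = 1 := by
    intro g hg h4
    obtain ⟨h1, h2⟩ := (hCmem g).mp hg
    exact sq_eq_one_of_pow_four hn hx4 hyx h1 h2 h4
  have hCab : ∀ a ∈ C, ∀ b ∈ C, a * b = b * a := by
    by_contra h
    push Not at h
    obtain ⟨a, ha, b, hb, hab⟩ := h
    obtain ⟨x', hx', y', hy', hx'4, -, -⟩ := exists_quat_pair hn C ⟨a, ha, b, hb, hab⟩
    have h1 : x' ^ 4 = 1 := by rw [← hx'4]; exact pow_orderOf_eq_one x'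
    have h2 := hC4 x' hx' h1
    have := orderOf_dvd_of_pow_eq_one h2
    rw [hx'4] at this
    norm_num at this
  have hQC : ∀ g : G, ∃ q ∈ Q, q⁻¹ * g ∈ C := by
    intro g
    have key : ∀ q : G, g * x * g⁻¹ = q * x * q⁻¹ → g * y * g⁻¹ = q * y * q⁻¹ →
        q⁻¹ * g ∈ C := by
      intro q h1 h2
      rw [hCmem]
      constructor
      · have h3 : g * x = q * x * q⁻¹ * g := mul_inv_eq_iff_eq_mul.mp h1
        rw [mul_assoc q⁻¹ g x, h3]; group
      · have h3 : g * y = q * y * q⁻¹ * g := mul_inv_eq_iff_eq_mul.mp h2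
        rw [mul_assoc q⁻¹ g y, h3]; group
    rcases conj_eq_or_inv hn hx4 g with hgx | hgx <;>
      rcases conj_eq_or_inv hn hy4 g with hgy | hgy
    · refine ⟨1, one_mem _, key 1 ?_ ?_⟩
      · rw [hgx]; group
      · rw [hgy]; group
    · refine ⟨x, hxQ, key x ?_ ?_⟩
      · rw [hgx]; group
      · rw [hgy, hxyx]
    · refine ⟨y, hyQ, key y ?_ ?_⟩
      · rw [hgx, hyx]
      · rw [hgy]; group
    · refine ⟨x * y, mul_mem hxQ hyQ, key (x * y) ?_ ?_⟩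
      · rw [hgx]
        have h1 : x * y * x * (x * y)⁻¹ = x * (y * x * y⁻¹) * x⁻¹ := by group
        rw [h1, hyx]; group
      · rw [hgy]
        have h1 : x * y * y * (x * y)⁻¹ = x * y * x⁻¹ := by group
        rw [h1, hxyx]
  have hQC_inf : ∀ g ∈ Q, g ∈ C → g = 1 ∨ g = x ^ 2 := by
    intro g hgQ hgC
    rw [hQ] at hgQ
    obtain ⟨u, rfl⟩ := hgQ
    obtain ⟨h1, h2⟩ := (hCmem _).mp hgC
    rcases u with i | i
    · rw [hfa] at h1 h2 ⊢
      have hi : i.val < 2 * 2 := ZMod.val_lt i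
      obtain ⟨k, hk⟩ : ∃ k, k = i.val := ⟨_, rfl⟩
      rw [← hk] at h1 h2 hi ⊢
      interval_cases k
      · left; rw [pow_zero]
      · exfalso; rw [pow_one] at h2; exact hnc h2.symm
      · right; rfl
      · exfalso
        have hx3 : x ^ 3 = x⁻¹ := eq_inv_of_mul_eq_one_left (by rw [← pow_succ, hx4'])
        rw [hx3] at h2
        have h3 : Commute y x⁻¹ := h2
        exact hnc (Commute.inv_right_iff.mp h3).eq.symm
    · exfalso
      rw [hfxa] at h1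
      apply hnc
      have h3 : x * y * x ^ i.val = y * x * x ^ i.val := by
        rw [mul_assoc, h1, mul_assoc, mul_assoc, ← pow_succ, ← pow_succ']
      exact mul_right_cancel h3
  obtain ⟨k, m, hm, hcard⟩ := Nat.exists_eq_two_pow_mul_odd (Nat.card_pos (α := G)).ne'
  have hpowcard : ∀ g : G, g ^ (2 ^ k * m) = 1 := by
    intro g; rw [← hcard]; exact pow_card_eq_one'
  have h2pow := sq_eq_one_of_two_pow C hC4
  have hCm : ∀ g ∈ C, (g ^ m) ^ 2 = 1 := by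
    intro g hg
    apply h2pow k _ (pow_mem hg m)
    rw [← pow_mul, mul_comm]; exact hpowcard g
  obtain ⟨A, hA⟩ : ∃ A : Subgroup G, A = powKer C hCab m := ⟨_, rfl⟩
  obtain ⟨E0, hE0⟩ : ∃ E0 : Subgroup G, E0 = powKer C hCab 2 := ⟨_, rfl⟩
  have hAmem : ∀ g, g ∈ A ↔ g ∈ C ∧ g ^ m = 1 := fun g => by rw [hA]; exact Iff.rfl
  have hE0mem : ∀ g, g ∈ E0 ↔ g ∈ C ∧ g ^ 2 = 1 := fun g => by rw [hE0]; exact Iff.rfl
  have hAC : A ≤ C := fun g hg => ((hAmem g).mp hg).1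
  have hE0C : E0 ≤ C := fun g hg => ((hE0mem g).mp hg).1
  have hE0A : ∀ g : G, g ^ 2 = 1 → g ^ m = 1 → g = 1 := by
    intro g h2 hgm
    obtain ⟨r, hr⟩ := hm
    rw [hr, pow_succ, pow_mul, h2, one_pow, one_mul] at hgm
    exact hgm
  have hCdecomp : ∀ g ∈ C, ∃ e ∈ E0, ∃ a ∈ A, g = e * a := by
    intro g hg
    obtain ⟨r, hr⟩ := hm
    refine ⟨g ^ m, (hE0mem _).mpr ⟨pow_mem hg m, hCm g hg⟩, ((g ^ 2) ^ r)⁻¹,
      (hAmem _).mpr ⟨inv_mem (pow_mem (pow_mem hg 2) r), ?_⟩, ?_⟩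
    · rw [inv_pow, inv_eq_one, ← pow_mul, mul_comm r m, pow_mul, ← pow_mul g 2 m, mul_comm 2 m,
        pow_mul g m 2, hCm g hg, one_pow]
    · rw [← pow_mul, hr, pow_succ', mul_inv_cancel_right]
  have hAodd : Odd (Nat.card A) := by
    by_contra h
    rw [Nat.not_odd_iff_even] at h
    have h2 : 2 ∣ Nat.card A := h.two_dvd
    obtain ⟨a, ha⟩ := exists_prime_orderOf_dvd_card' (G := A) 2 h2
    have h3 : (a : G) ^ 2 = 1 := by
      have h4 : a ^ 2 = 1 := by rw [← ha]; exact pow_orderOf_eq_one a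
      rw [← Subgroup.coe_pow, h4, Subgroup.coe_one]
    have h4 := hE0A (a : G) h3 ((hAmem _).mp a.2).2
    have h5 : a = 1 := Subtype.ext h4
    rw [h5, orderOf_one] at ha
    norm_num at ha
  have hzC : x ^ 2 ∈ C := by
    rw [hCmem]; constructor
    · exact ((Commute.refl x).pow_right 2).eq
    · rw [← hy2]; exact ((Commute.refl y).pow_right 2).eq
  have hzE0 : x ^ 2 ∈ E0 := (hE0mem _).mpr ⟨hzC, by rw [← pow_mul]; exact hx4'⟩
  have hzQ : x ^ 2 ∈ Q := pow_mem hxQ 2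
  obtain ⟨E, -, hEmax⟩ := Finite.exists_le_maximal (α := Subgroup G)
    (p := fun E => E ≤ E0 ∧ x ^ 2 ∉ E) (a := ⊥)
    ⟨bot_le, by rw [Subgroup.mem_bot]; exact hx2⟩
  obtain ⟨⟨hEE0, hzE⟩, hEmax'⟩ := hEmax
  have hE0decomp : ∀ g ∈ E0, g ∈ E ∨ g * x ^ 2 ∈ E := by
    intro g hg
    by_contra hcon
    push Not at hcon
    obtain ⟨hgE, hgzE⟩ := hcon
    have hE' : ¬ (E ⊔ Subgroup.zpowers g ≤ E0 ∧ x ^ 2 ∉ E ⊔ Subgroup.zpowers g) := by
      intro hp
      have h1 := hEmax' hp le_sup_left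
      exact hgE (h1 (Subgroup.mem_sup_right (Subgroup.mem_zpowers g)))
    apply hE'
    refine ⟨sup_le hEE0 (Subgroup.zpowers_le.mpr hg), ?_⟩
    intro hz
    haveI := hn (Subgroup.zpowers g)
    have hz' : x ^ 2 ∈ ((E ⊔ Subgroup.zpowers g : Subgroup G) : Set G) := hz
    rw [Subgroup.mul_normal] at hz'
    obtain ⟨e, he, w, hw, hew⟩ := Set.mem_mul.mp hz'
    have hg2 : g ^ 2 = 1 := ((hE0mem g).mp hg).2
    obtain ⟨j, hj, hjw⟩ := exists_pow_lt_of_mem_zpowers hw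
    have hle : orderOf g ≤ 2 := Nat.le_of_dvd (by norm_num) (orderOf_dvd_of_pow_eq_one hg2)
    have hj2 : j < 2 := lt_of_lt_of_le hj hle
    interval_cases j
    · rw [pow_zero] at hjw
      rw [← hjw, mul_one] at hew
      exact hzE (hew ▸ he)
    · rw [pow_one] at hjw
      rw [← hjw] at hew
      have h1 : g * x ^ 2 = e := by
        rw [← hew, ← mul_assoc, hCab g (hE0C hg) e (hE0C (hEE0 he)), mul_assoc, ← pow_two, hg2,
          mul_one]
      exact hgzE (h1 ▸ he)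
  refine ⟨Q, E, A, ⟨hQ ▸ (MonoidHom.ofInjective hf_inj).symm⟩, ?_, ?_, hAodd, ?_, ?_, ?_⟩
  · exact ⟨⟨⟨fun a b => Subtype.ext (hCab a (hE0C (hEE0 a.2)) b (hE0C (hEE0 b.2)))⟩⟩,
      fun a ha => ((hE0mem a).mp (hEE0 ha)).2⟩
  · exact ⟨⟨fun a b => Subtype.ext (hCab a (hAC a.2) b (hAC b.2))⟩⟩
  · rw [Subgroup.eq_bot_iff_forall]
    intro g hg
    obtain ⟨h1, h2⟩ := Subgroup.mem_inf.mp hg
    exact hE0A g ((hE0mem g).mp (hEE0 h1)).2 ((hAmem g).mp h2).2
  · rw [Subgroup.eq_bot_iff_forall]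
    intro g hg
    obtain ⟨h1, h2⟩ := Subgroup.mem_inf.mp hg
    have hEAC : E ⊔ A ≤ C := sup_le (hEE0.trans hE0C) hAC
    rcases hQC_inf g h1 (hEAC h2) with h | h
    · exact h
    · exfalso
      rw [h] at h2
      haveI := hn A
      have h2' : x ^ 2 ∈ ((E ⊔ A : Subgroup G) : Set G) := h2
      rw [Subgroup.mul_normal] at h2'
      obtain ⟨e, he, a, ha, hea⟩ := Set.mem_mul.mp h2'
      have ha2 : a = e⁻¹ * x ^ 2 := by rw [← hea, inv_mul_cancel_left]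
      have haE0 : a ∈ E0 := by rw [ha2]; exact mul_mem (inv_mem (hEE0 he)) hzE0
      have ha1 : a = 1 := hE0A a ((hE0mem a).mp haE0).2 ((hAmem a).mp ha).2
      rw [ha1, mul_one] at hea
      exact hzE (hea ▸ he)
  · rw [eq_top_iff]
    intro g _
    obtain ⟨q, hq, hqc⟩ := hQC g
    obtain ⟨e0, he0, a, ha, hc⟩ := hCdecomp _ hqc
    have hg : g = q * (e0 * a) := by rw [← hc, mul_inv_cancel_left]
    rw [hg]
    have he0' : e0 ∈ Q ⊔ (E ⊔ A) := by
      rcases hE0decomp e0 he0 with h | h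
      · exact Subgroup.mem_sup_right (Subgroup.mem_sup_left h)
      · have h1 : e0 = e0 * x ^ 2 * (x ^ 2)⁻¹ := by rw [mul_inv_cancel_right]
        rw [h1]
        exact mul_mem (Subgroup.mem_sup_right (Subgroup.mem_sup_left h))
          (Subgroup.mem_sup_left (inv_mem hzQ))
    exact mul_mem (Subgroup.mem_sup_left hq)
      (mul_mem he0' (Subgroup.mem_sup_right (Subgroup.mem_sup_right ha)))

theorem result {G : Type*} [Group G] [Finite G] (hna : ¬ IsMulCommutative G) (hn : ∀ H : Subgroup G, H.Normal) : ∃ Q E A : Subgroup G, Nonempty (Q ≃* QuaternionGroup 2) ∧ Cfsg.IsElementaryAbelian 2 E ∧ IsMulCommutative A ∧ Odd (Nat.card A) ∧ E ⊓ A = ⊥ ∧ Q ⊓ (E ⊔ A) = ⊥ ∧ Q ⊔ (E ⊔ A) = ⊤ :=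
  main hna hn

end Cfsg.Agent.S4211
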