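import Cfsg.Statements.S4212
import Mathlib
import Cfsg.Agent.S3993

set_option autoImplicit false
set_option linter.style.haveILetI false
set_option linter.unusedSectionVars false
open Cfsg

namespace Cfsg.Agent.S4212

open Subgroup

universe u

/-- number of solutions of `x ^ n = y` -/
noncomputable def sol (G : Type u) [Group G] (n : ℕ) (y : G) : ℕ := Nat.card {x : G // x ^ n = y}

section
variable {G : Type u} [Group G]

theorem sol_conj (n : ℕ) (g y : G) : sol G n (g * y * g⁻¹) = sol G n y := by
  unfold sol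
  apply Nat.card_congr
  refine ⟨fun x => ⟨g⁻¹ * x.1 * g, ?_⟩, fun x => ⟨g * x.1 * g⁻¹, ?_⟩, ?_, ?_⟩
  · have h1 : (g⁻¹ * x.1 * g) ^ n = g⁻¹ * x.1 ^ n * g := by
      have := conj_pow (i := n) (a := g⁻¹) (b := x.1)
      rwa [inv_inv] at this
    rw [h1, x.2]; group
  · rw [conj_pow, x.2]
  · intro x; apply Subtype.ext; simp only; group
  · intro x; apply Subtype.ext; simp only; group

theorem mem_centralizer_of_pow {n : ℕ} {x y : G} (h : x ^ n = y) :
    x ∈ centralizer ({y} : Set G) := by
  rw [mem_centralizer_singleton_iff, ← h]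
  exact (pow_mul_comm' x n).symm

theorem sol_centralizer (n : ℕ) (y : G) :
    sol G n y = sol ↥(centralizer ({y} : Set G)) n
      ⟨y, mem_centralizer_singleton_iff.mpr rfl⟩ := by
  unfold sol
  apply Nat.card_congr
  refine ⟨fun x => ⟨⟨x.1, mem_centralizer_of_pow x.2⟩, ?_⟩, fun x => ⟨x.1.1, ?_⟩, ?_, ?_⟩
  · apply Subtype.ext
    simp only [SubmonoidClass.coe_pow]
    exact x.2
  · have := congrArg Subtype.val x.2
    simpa using this
  · intro x; rfl
  · intro x; rfl

/-- fibre decomposition over all of `G` -/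
theorem sol_mul [Finite G] (k l : ℕ) (y : G) :
    sol G (k * l) y = ∑ᶠ z : G, Nat.card {x : G // x ^ k = z ∧ z ^ l = y} := by
  classical
  haveI := Fintype.ofFinite G
  rw [finsum_eq_sum_of_fintype, ← Nat.card_sigma]
  unfold sol
  apply Nat.card_congr
  refine ⟨fun x => ⟨x.1 ^ k, ⟨x.1, rfl, ?_⟩⟩, fun s => ⟨s.2.1, ?_⟩, ?_, ?_⟩
  · rw [← pow_mul]; exact x.2
  · rw [pow_mul, s.2.2.1]; exact s.2.2.2
  · intro x; rfl
  · rintro ⟨z, x, hx1, hx2⟩
    subst hx1
    rfl

end

/-- weighted orbit divisibility -/
theorem dvd_sum_of_orbit {α X : Type*} [Group α] [MulAction α X] [Fintype X] [Finite α]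
    (w : X → ℕ) (hw : ∀ (a : α) (x : X), w (a • x) = w x) (d : ℕ)
    (hd : ∀ x, d ∣ Nat.card (MulAction.orbit α x) * w x) : d ∣ ∑ x, w x := by
  classical
  rw [Finset.sum_partition (MulAction.orbitRel α X)]
  apply Finset.dvd_sum
  intro xbar _
  induction xbar using Quotient.inductionOn with
  | _ x =>
  have h1 : ∀ y ∈ Finset.univ.filter (fun y : X => (⟦y⟧ : Quotient (MulAction.orbitRel α X)) = ⟦x⟧),
      w y = w x := by
    intro y hy
    rw [Finset.mem_filter] at hy
    have h2 : y ∈ MulAction.orbit α x := by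
      have := Quotient.exact hy.2
      exact this
    obtain ⟨a, rfl⟩ := h2
    exact hw a x
  rw [Finset.sum_congr rfl h1, Finset.sum_const, smul_eq_mul]
  have h3 : (Finset.univ.filter (fun y : X => (⟦y⟧ : Quotient (MulAction.orbitRel α X)) = ⟦x⟧)).card
      = Nat.card (MulAction.orbit α x) := by
    rw [Nat.card_eq_fintype_card, ← Set.toFinset_card]
    congr 1
    ext y
    simp only [Finset.mem_filter, Finset.mem_univ, true_and, Set.mem_toFinset]
    constructor
    · intro h; exact Quotient.exact h
    · intro h; exact Quotient.sound h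
  rw [h3]
  exact hd x

section
variable {G : Type u} [Group G] [Finite G]

theorem card_orbit_mul_card_centralizer (z : G) :
    Nat.card (MulAction.orbit (ConjAct G) z) * Nat.card (centralizer ({z} : Set G)) = Nat.card G := by
  classical
  haveI := Fintype.ofFinite G
  haveI : Fintype (ConjAct G) := inferInstanceAs (Fintype G)
  have h1 := MulAction.card_orbit_mul_card_stabilizer_eq_card_group (ConjAct G) z
  simp only [← Nat.card_eq_fintype_card] at h1
  have h2 : Nat.card (MulAction.stabilizer (ConjAct G) z) = Nat.card (centralizer ({z} : Set G)) := by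
    apply Nat.card_congr
    refine ⟨fun a => ⟨ConjAct.ofConjAct a.1, ?_⟩, fun c => ⟨ConjAct.toConjAct c.1, ?_⟩, ?_, ?_⟩
    · have h3 := a.2
      rw [MulAction.mem_stabilizer_iff, ConjAct.smul_def] at h3
      rw [mem_centralizer_singleton_iff]
      calc ConjAct.ofConjAct a.1 * z = (ConjAct.ofConjAct a.1 * z * (ConjAct.ofConjAct a.1)⁻¹) *
            ConjAct.ofConjAct a.1 := by group
        _ = z * ConjAct.ofConjAct a.1 := by rw [h3]
    · have h3 := mem_centralizer_singleton_iff.mp c.2
      rw [MulAction.mem_stabilizer_iff, ConjAct.smul_def, ConjAct.ofConjAct_toConjAct, h3]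
      group
    · intro a; rfl
    · intro c; rfl
  rw [h2] at h1
  have h4 : Nat.card (ConjAct G) = Nat.card G := rfl
  rw [h4] at h1
  exact h1

end

section
variable {G : Type u} [Group G] [Finite G]

theorem orderOf_of_pow_eq {p a : ℕ} (hp : p.Prime) {x y : G} (hxy : x ^ (p ^ a) = y)
    (hpy : p ∣ orderOf y) : orderOf x = p ^ a * orderOf y := by
  have h1 := orderOf_pow (n := p ^ a) x
  rw [hxy] at h1
  have ho : 0 < orderOf x := orderOf_pos x
  obtain ⟨j, hja, hj⟩ := (Nat.dvd_prime_pow hp).mp (Nat.gcd_dvd_right (orderOf x) (p ^ a))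
  rw [hj] at h1
  have hdvd : p ^ j ∣ orderOf x := hj ▸ Nat.gcd_dvd_left (orderOf x) (p ^ a)
  have h2 : orderOf x = p ^ j * orderOf y := by
    rw [h1, Nat.mul_div_cancel' hdvd]
  rcases Nat.lt_or_ge j a with hlt | hge
  · exfalso
    have h3 : p ^ (j + 1) ∣ orderOf x := by
      rw [h2, pow_succ]
      exact Nat.mul_dvd_mul_left _ hpy
    have h4 : p ^ (j + 1) ∣ p ^ a := Nat.pow_dvd_pow p hlt
    have h5 : p ^ (j + 1) ∣ p ^ j := hj ▸ Nat.dvd_gcd h3 h4
    have h6 := Nat.le_of_dvd (pow_pos hp.pos j) h5
    have h7 : p ^ j < p ^ (j + 1) := Nat.pow_lt_pow_right hp.one_lt (Nat.lt_succ_self j)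
    omega
  · have : j = a := le_antisymm hja hge
    rw [h2, this]

/-- prime power case, `p` divides the order of `y` -/
theorem pp_caseB {p a : ℕ} (hp : p.Prime) (y : G) (hpy : p ∣ orderOf y) :
    p ^ a ∣ sol G (p ^ a) y := by
  classical
  unfold sol
  haveI := Fintype.ofFinite G
  rw [Nat.card_eq_fintype_card, ← Finset.card_univ]
  rw [Finset.card_eq_sum_card_fiberwise (f := fun x : {x : G // x ^ (p ^ a) = y} => zpowers x.1)
    (t := Finset.univ.image (fun x : {x : G // x ^ (p ^ a) = y} => zpowers x.1))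
    (fun x _ => by simp)]
  apply Finset.dvd_sum
  intro H hH
  rw [Finset.mem_image] at hH
  obtain ⟨x₀, -, rfl⟩ := hH
  have hord : orderOf x₀.1 = p ^ a * orderOf y := orderOf_of_pow_eq hp x₀.2 hpy
  have hfrob : p ^ a ∣ Nat.card {z : ↥(zpowers x₀.1) // z ^ (p ^ a) = 1} := by
    apply Cfsg.Agent.S3993.result
    rw [Nat.card_zpowers, hord]
    exact Dvd.intro _ rfl
  have heq : (Finset.univ.filter (fun x : {x : G // x ^ (p ^ a) = y} => zpowers x.1 = zpowers x₀.1)).card
      = Nat.card {z : ↥(zpowers x₀.1) // z ^ (p ^ a) = 1} := by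
    rw [← Fintype.card_subtype, ← Nat.card_eq_fintype_card]
    apply Nat.card_congr
    have hcomm : ∀ z ∈ zpowers x₀.1, Commute z x₀.1 := by
      intro z hz
      obtain ⟨i, rfl⟩ := mem_zpowers_iff.mp hz
      exact (Commute.refl x₀.1).zpow_left i
    refine ⟨fun x => ⟨⟨x.1.1 * x₀.1⁻¹, ?_⟩, ?_⟩, fun z => ⟨⟨z.1.1 * x₀.1, ?_⟩, ?_⟩, ?_, ?_⟩
    · have h1 : x.1.1 ∈ zpowers x₀.1 := by
        have h0 : zpowers x.1.1 = zpowers x₀.1 := x.2
        have h00 : x.1.1 ∈ zpowers x.1.1 := mem_zpowers _
        rwa [h0] at h00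
      exact (zpowers x₀.1).mul_mem h1 ((zpowers x₀.1).inv_mem (mem_zpowers _))
    · apply Subtype.ext
      have h1 : x.1.1 ∈ zpowers x₀.1 := by
        have h0 : zpowers x.1.1 = zpowers x₀.1 := x.2
        have h00 : x.1.1 ∈ zpowers x.1.1 := mem_zpowers _
        rwa [h0] at h00
      have h2 : Commute x.1.1 x₀.1⁻¹ := (hcomm _ h1).inv_right
      show (x.1.1 * x₀.1⁻¹) ^ (p ^ a) = 1
      rw [h2.mul_pow, inv_pow, x.1.2, x₀.2, mul_inv_cancel]
    · have h2 : Commute z.1.1 x₀.1 := hcomm _ z.1.2
      rw [h2.mul_pow, x₀.2]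
      have := congrArg Subtype.val z.2
      simp only [SubmonoidClass.coe_pow, OneMemClass.coe_one] at this
      rw [this, one_mul]
    · have h2 : Commute z.1.1 x₀.1 := hcomm _ z.1.2
      have hsol : (z.1.1 * x₀.1) ^ (p ^ a) = y := by
        rw [h2.mul_pow, x₀.2]
        have := congrArg Subtype.val z.2
        simp only [SubmonoidClass.coe_pow, OneMemClass.coe_one] at this
        rw [this, one_mul]
      have hord' : orderOf (z.1.1 * x₀.1) = p ^ a * orderOf y := orderOf_of_pow_eq hp hsol hpy
      have hle : zpowers (z.1.1 * x₀.1) ≤ zpowers x₀.1 := by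
        rw [zpowers_le]
        exact (zpowers x₀.1).mul_mem z.1.2 (mem_zpowers _)
      apply Subgroup.eq_of_le_of_card_ge hle
      rw [Nat.card_zpowers, Nat.card_zpowers, hord, hord']
    · intro x
      apply Subtype.ext; apply Subtype.ext
      simp
    · intro z
      apply Subtype.ext; apply Subtype.ext
      simp
  rw [heq]
  exact hfrob

/-- prime power case, `p` does not divide the order of the central element `y` -/
theorem pp_caseA {p a : ℕ} (hp : p.Prime) (y : G) (hy : y ∈ center G) (hpy : ¬ p ∣ orderOf y) :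
    Nat.gcd (p ^ a) (Nat.card G) ∣ sol G (p ^ a) y := by
  have hcop : (Nat.card ↥(zpowers y)).Coprime (p ^ a) := by
    rw [Nat.card_zpowers]
    exact Nat.Coprime.pow_right a ((Nat.Prime.coprime_iff_not_dvd hp).mpr hpy).symm
  obtain ⟨d, hd⟩ := (powCoprime hcop).surjective ⟨y, mem_zpowers y⟩
  have hd' : d.1 ^ (p ^ a) = y := by
    have := congrArg Subtype.val hd
    simpa using this
  have hdc : d.1 ∈ center G := (zpowers_le.mpr hy) d.2
  have hcomm : ∀ x : G, Commute x d.1⁻¹ := by
    intro x
    have : Commute x d.1 := (mem_center_iff.mp hdc x)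
    exact this.inv_right
  have heq : sol G (p ^ a) y = Nat.card {g : G // g ^ (p ^ a) = 1} := by
    unfold sol
    apply Nat.card_congr
    refine ⟨fun x => ⟨x.1 * d.1⁻¹, ?_⟩, fun g => ⟨g.1 * d.1, ?_⟩, ?_, ?_⟩
    · rw [(hcomm x.1).mul_pow, inv_pow, x.2, hd', mul_inv_cancel]
    · have h1 : Commute g.1 d.1 := (mem_center_iff.mp hdc g.1)
      rw [h1.mul_pow, g.2, hd', one_mul]
    · intro x; apply Subtype.ext; simp
    · intro g; apply Subtype.ext; simp
  rw [heq]
  exact Cfsg.Agent.S3993.frobenius_aux (Nat.card G) G rfl (p ^ a)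

theorem pp {p a : ℕ} (hp : p.Prime) (y : G) (hy : y ∈ center G) :
    Nat.gcd (p ^ a) (Nat.card G) ∣ sol G (p ^ a) y := by
  by_cases hpy : p ∣ orderOf y
  · exact (Nat.gcd_dvd_left _ _).trans (pp_caseB hp y hpy)
  · exact pp_caseA hp y hy hpy

end

theorem gcd_dvd_mul_gcd (k o c : ℕ) : Nat.gcd k (o * c) ∣ o * Nat.gcd k c := by
  rw [← Nat.gcd_mul_left]
  exact Nat.dvd_gcd ((Nat.gcd_dvd_left _ _).trans (Dvd.intro_left _ rfl)) (Nat.gcd_dvd_right _ _)

theorem main : ∀ (N : ℕ) (G : Type u) [Group G] [Finite G], Nat.card G = N →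
    ∀ (n : ℕ) (y : G), Nat.gcd n (Nat.card (centralizer ({y} : Set G))) ∣ sol G n y := by
  intro N
  induction N using Nat.strong_induction_on with
  | _ N IH =>
  intro G _ _ hN
  classical
  haveI := Fintype.ofFinite G
  -- non-central elements
  have hnc : ∀ (n : ℕ) (y : G), y ∉ center G →
      Nat.gcd n (Nat.card (centralizer ({y} : Set G))) ∣ sol G n y := by
    intro n y hy
    have hlt : Nat.card (centralizer ({y} : Set G)) < N := by
      rw [← hN]
      have hne : centralizer ({y} : Set G) ≠ ⊤ := by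
        intro h
        rw [centralizer_eq_top_iff_subset] at h
        exact hy (h rfl)
      have hle := Subgroup.card_le_card_group (centralizer ({y} : Set G))
      rcases Nat.lt_or_ge (Nat.card (centralizer ({y} : Set G))) (Nat.card G) with h | h
      · exact h
      · exact absurd ((Subgroup.card_eq_iff_eq_top _).mp (le_antisymm hle h)) hne
    have h1 := IH _ hlt ↥(centralizer ({y} : Set G)) rfl n
      ⟨y, mem_centralizer_singleton_iff.mpr rfl⟩
    have h2 : centralizer ({(⟨y, mem_centralizer_singleton_iff.mpr rfl⟩ :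
        ↥(centralizer ({y} : Set G)))} : Set ↥(centralizer ({y} : Set G))) = ⊤ := by
      rw [eq_top_iff]
      intro c _
      rw [mem_centralizer_singleton_iff]
      apply Subtype.ext
      exact mem_centralizer_singleton_iff.mp c.2
    rw [h2, Subgroup.card_top, ← sol_centralizer] at h1
    exact h1
  have hcent : ∀ y : G, y ∈ center G → Nat.card (centralizer ({y} : Set G)) = N := by
    intro y hy
    have : centralizer ({y} : Set G) = ⊤ := by
      rw [centralizer_eq_top_iff_subset]
      intro z hz
      rw [Set.mem_singleton_iff.mp hz]; exact hy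
    rw [this, Subgroup.card_top, hN]
  -- central elements: induction on n
  have hc : ∀ (n : ℕ) (y : G), y ∈ center G → Nat.gcd n N ∣ sol G n y := by
    intro n
    induction n using Nat.strong_induction_on with
    | _ n IHn =>
    intro y hy
    -- splitting lemma
    have split : ∀ k l : ℕ, k < n → n = k * l → Nat.gcd k N ∣ sol G n y := by
      intro k l hk hkl
      rw [hkl, sol_mul, finsum_eq_sum_of_fintype]
      apply dvd_sum_of_orbit (α := ConjAct G)
      · intro g z
        rw [ConjAct.smul_def]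
        apply Nat.card_congr
        set g' := ConjAct.ofConjAct g with hg'
        have hyc : g' * y * g'⁻¹ = y := by
          have := mem_center_iff.mp hy g'
          rw [this]; group
        have hyc' : g'⁻¹ * y * g' = y := by
          have := mem_center_iff.mp hy g'
          rw [mul_assoc, ← this]; group
        refine ⟨fun x => ⟨g'⁻¹ * x.1 * g', ?_, ?_⟩, fun x => ⟨g' * x.1 * g'⁻¹, ?_, ?_⟩, ?_, ?_⟩
        · have h1 : (g'⁻¹ * x.1 * g') ^ k = g'⁻¹ * x.1 ^ k * g' := by
            have := conj_pow (i := k) (a := g'⁻¹) (b := x.1)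
            rwa [inv_inv] at this
          rw [h1, x.2.1]; group
        · have h1 := x.2.2
          rw [conj_pow] at h1
          rw [← hyc', ← h1]; group
        · rw [conj_pow, x.2.1]
        · rw [conj_pow, x.2.2, hyc]
        · intro x; apply Subtype.ext; simp only; group
        · intro x; apply Subtype.ext; simp only; group
      · intro z
        by_cases hz : z ^ l = y
        · have h1 : Nat.card {x : G // x ^ k = z ∧ z ^ l = y} = sol G k z := by
            unfold sol
            apply Nat.card_congr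
            exact ⟨fun x => ⟨x.1, x.2.1⟩, fun x => ⟨x.1, x.2, hz⟩, fun _ => rfl, fun _ => rfl⟩
          rw [h1]
          have h2 : Nat.gcd k (Nat.card (centralizer ({z} : Set G))) ∣ sol G k z := by
            by_cases hzc : z ∈ center G
            · rw [hcent z hzc]
              exact IHn k hk z hzc
            · exact hnc k z hzc
          have h3 := card_orbit_mul_card_centralizer z
          rw [hN] at h3
          rw [← h3]
          exact (gcd_dvd_mul_gcd _ _ _).trans (Nat.mul_dvd_mul_left _ h2)
        · have h1 : Nat.card {x : G // x ^ k = z ∧ z ^ l = y} = 0 := by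
            rw [Nat.card_eq_zero]
            left
            exact ⟨fun x => hz x.2.2⟩
          rw [h1, mul_zero]
          exact dvd_zero _
    rcases Nat.eq_zero_or_pos n with hn0 | hnpos
    · -- n = 0
      subst hn0
      rw [Nat.gcd_zero_left]
      unfold sol
      by_cases hy1 : y = 1
      · have : Nat.card {x : G // x ^ 0 = y} = N := by
          rw [← hN]
          apply Nat.card_congr
          exact ⟨fun x => x.1, fun x => ⟨x, by rw [pow_zero, hy1]⟩, fun _ => rfl, fun _ => rfl⟩
        rw [this]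
      · have : Nat.card {x : G // x ^ 0 = y} = 0 := by
          rw [Nat.card_eq_zero]
          left
          exact ⟨fun x => hy1 (by rw [← x.2, pow_zero])⟩
        rw [this]; exact dvd_zero _
    rcases Nat.eq_or_lt_of_le (Nat.succ_le_of_lt hnpos) with hn1 | hn2
    · -- n = 1
      rw [← hn1]
      simp
    -- n ≥ 2
    have hn2' : 2 ≤ n := hn2
    set p := n.minFac with hp
    have hpp : p.Prime := Nat.minFac_prime (by omega)
    obtain ⟨a, m, hpm, hnam⟩ := Nat.exists_eq_pow_mul_and_not_dvd (n := n) (by omega) p hpp.ne_one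
    have ha : 1 ≤ a := by
      rcases Nat.eq_zero_or_pos a with h0 | h0
      · exfalso
        rw [h0, pow_zero, one_mul] at hnam
        exact hpm (hnam ▸ Nat.minFac_dvd n)
      · exact h0
    have hmpos : 0 < m := by
      rcases Nat.eq_zero_or_pos m with h0 | h0
      · rw [h0, mul_zero] at hnam; omega
      · exact h0
    rcases Nat.eq_or_lt_of_le (Nat.succ_le_of_lt hmpos) with hm1 | hm2
    · -- prime power
      have hm1' : m = 1 := hm1.symm
      rw [hm1', mul_one] at hnam
      rw [hnam, ← hN]
      exact pp hpp y hy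
    · -- composite
      have hpa2 : 2 ≤ p ^ a := by
        calc 2 ≤ p := hpp.two_le
          _ = p ^ 1 := (pow_one p).symm
          _ ≤ p ^ a := Nat.pow_le_pow_right hpp.pos ha
      have hk1 : p ^ a < n := by
        rw [hnam]
        have hm2' : 2 ≤ m := hm2
        nlinarith
      have hk2 : m < n := by
        rw [hnam]
        have hm2' : 2 ≤ m := hm2
        nlinarith
      have h1 := split (p ^ a) m hk1 hnam
      have h2 := split m (p ^ a) hk2 (by rw [hnam, mul_comm])
      have hcop : Nat.Coprime (p ^ a) m :=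
        Nat.Coprime.pow_left a ((Nat.Prime.coprime_iff_not_dvd hpp).mpr hpm)
      have hcop' : Nat.Coprime (Nat.gcd (p ^ a) N) (Nat.gcd m N) :=
        Nat.Coprime.coprime_dvd_left (Nat.gcd_dvd_left _ _)
          (Nat.Coprime.coprime_dvd_right (Nat.gcd_dvd_left _ _) hcop)
      have h3 := hcop'.mul_dvd_of_dvd_of_dvd h1 h2
      have h4 : Nat.gcd n N = Nat.gcd (p ^ a) N * Nat.gcd m N := by
        rw [hnam, Nat.gcd_comm, Nat.Coprime.gcd_mul N hcop, Nat.gcd_comm N, Nat.gcd_comm N]
      rw [h4]
      exact h3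
  intro n y
  by_cases hy : y ∈ center G
  · rw [hcent y hy]
    exact hc n y hy
  · exact hnc n y hy

/-- Let `G` be a finite group of order `g`, `c` an element whose conjugacy class has `h` elements, and `n` a natural number. Then the number of elements `x` of `G` with `x^n` conjugate to `c` is a multiple of `gcd(hn, g)`. -/
theorem result {G : Type*} [Group G] [Finite G] (c : G) (n : ℕ) : Nat.gcd (Nat.card {y : G // IsConj c y} * n) (Nat.card G) ∣ Nat.card {x : G // IsConj c (x ^ n)} := by
  classical
  haveI := Fintype.ofFinite G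
  have horb : Nat.card {y : G // IsConj c y} = Nat.card (MulAction.orbit (ConjAct G) c) := by
    apply Nat.card_congr
    apply Equiv.subtypeEquivRight
    intro y
    rw [MulAction.mem_orbit_iff, isConj_iff]
    constructor
    · rintro ⟨g, hg⟩
      exact ⟨ConjAct.toConjAct g, by rw [ConjAct.smul_def, ConjAct.ofConjAct_toConjAct]; exact hg⟩
    · rintro ⟨g, hg⟩
      rw [ConjAct.smul_def] at hg
      exact ⟨ConjAct.ofConjAct g, hg⟩
  have hcard : Nat.card {y : G // IsConj c y} * Nat.card (centralizer ({c} : Set G)) = Nat.card G := by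
    rw [horb]; exact card_orbit_mul_card_centralizer c
  have hcount : Nat.card {x : G // IsConj c (x ^ n)} = Nat.card {y : G // IsConj c y} * sol G n c := by
    have h1 : Nat.card {x : G // IsConj c (x ^ n)} =
        Nat.card (Σ y : {y : G // IsConj c y}, {x : G // x ^ n = y.1}) := by
      let f : {x : G // IsConj c (x ^ n)} → {y : G // IsConj c y} := fun x => ⟨x.1 ^ n, x.2⟩
      rw [← Nat.card_congr (Equiv.sigmaFiberEquiv f)]
      apply Nat.card_congr
      apply Equiv.sigmaCongrRight
      intro y
      refine ⟨fun x => ⟨x.1.1, ?_⟩, fun x => ⟨⟨x.1, ?_⟩, ?_⟩, ?_, ?_⟩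
      · have := congrArg Subtype.val x.2
        exact this
      · rw [x.2]; exact y.2
      · apply Subtype.ext
        exact x.2
      · intro x; rfl
      · intro x; rfl
    rw [h1, Nat.card_sigma]
    have h2 : ∀ y : {y : G // IsConj c y}, Nat.card {x : G // x ^ n = y.1} = sol G n c := by
      intro y
      obtain ⟨g, hg⟩ := isConj_iff.mp y.2
      have := sol_conj n g c
      rw [hg] at this
      exact this
    rw [Finset.sum_congr rfl (fun y _ => h2 y), Finset.sum_const, smul_eq_mul, Finset.card_univ,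
      Nat.card_eq_fintype_card]
  rw [hcount, ← hcard, Nat.gcd_mul_left]
  exact Nat.mul_dvd_mul_left _ (main _ G rfl n c)

end Cfsg.Agent.S4212
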