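import Cfsg.Statements.S4213
import Mathlib
import Cfsg.Agent.S3993

set_option autoImplicit false
set_option linter.style.haveILetI false
set_option linter.unusedSectionVars false
open Cfsg
open scoped commutatorElement

namespace Cfsg.Agent.S4213

universe u

section
variable {G : Type*} [Group G]

/-- In a nontrivial finite solvable group there is a nontrivial normal subgroup of prime exponent. -/
theorem exists_normal_exp [Finite G] [hs : Group.IsSolvable G] [Nontrivial G] :
    ∃ (p : ℕ) (_ : p.Prime) (M : Subgroup G), M.Normal ∧ M ≠ ⊥ ∧ ∀ m ∈ M, m ^ p = 1 := by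
  classical
  have hex : ∃ n, derivedSeries G n = ⊥ := hs.solvable
  have h0 : Nat.find hex ≠ 0 := by
    intro h
    have h1 := Nat.find_spec hex
    rw [h, derivedSeries_zero] at h1
    exact top_ne_bot h1
  obtain ⟨m, hm⟩ := Nat.exists_eq_succ_of_ne_zero h0
  have hDne : derivedSeries G m ≠ ⊥ := Nat.find_min hex (by omega)
  have hDD : ⁅derivedSeries G m, derivedSeries G m⁆ = ⊥ := by
    have h1 := Nat.find_spec hex
    rw [hm] at h1
    exact h1
  obtain ⟨D, hD⟩ : ∃ D : Subgroup G, D = derivedSeries G m := ⟨_, rfl⟩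
  rw [← hD] at hDne hDD
  haveI hDn : D.Normal := by rw [hD]; infer_instance
  have hDc : ∀ a ∈ D, ∀ b ∈ D, a * b = b * a := by
    intro a ha b hb
    have h1 : ⁅a, b⁆ ∈ ⁅D, D⁆ := Subgroup.commutator_mem_commutator ha hb
    rw [hDD, Subgroup.mem_bot] at h1
    exact commutatorElement_eq_one_iff_mul_comm.mp h1
  have hcard : Nat.card D ≠ 1 := fun h => hDne (Subgroup.card_eq_one.mp h)
  obtain ⟨p, hp⟩ : ∃ p : ℕ, p = (Nat.card D).minFac := ⟨_, rfl⟩
  have hpp : p.Prime := by rw [hp]; exact Nat.minFac_prime hcard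
  haveI : Fact p.Prime := ⟨hpp⟩
  obtain ⟨x0, hx0⟩ := exists_prime_orderOf_dvd_card' (G := D) p (by rw [hp]; exact Nat.minFac_dvd _)
  let M : Subgroup G :=
    { carrier := {m | m ∈ D ∧ m ^ p = 1}
      mul_mem' := by
        rintro a b ⟨ha, ha'⟩ ⟨hb, hb'⟩
        refine ⟨D.mul_mem ha hb, ?_⟩
        have hc : Commute a b := hDc a ha b hb
        rw [hc.mul_pow, ha', hb', one_mul]
      one_mem' := ⟨D.one_mem, one_pow p⟩
      inv_mem' := by
        rintro a ⟨ha, ha'⟩
        exact ⟨D.inv_mem ha, by rw [inv_pow, ha', inv_one]⟩ }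
  refine ⟨p, hpp, M, ?_, ?_, fun m hm => hm.2⟩
  · refine ⟨fun a ha g => ?_⟩
    refine ⟨hDn.conj_mem a ha.1 g, ?_⟩
    rw [conj_pow, ha.2]; group
  · intro hbot
    have h1 : (x0 : G) ∈ M := by
      refine ⟨x0.2, ?_⟩
      have h2 : x0 ^ p = 1 := by rw [← hx0]; exact pow_orderOf_eq_one x0
      have h3 := congrArg Subtype.val h2
      simpa using h3
    rw [hbot, Subgroup.mem_bot] at h1
    have h4 : x0 = 1 := Subtype.ext h1
    rw [h4, orderOf_one] at hx0
    exact hpp.one_lt.ne hx0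

/-- Counting preimages under the quotient map. -/
theorem card_preimage (M : Subgroup G) [M.Normal] (S : Set (G ⧸ M)) :
    Nat.card {x : G // (QuotientGroup.mk x : G ⧸ M) ∈ S} = Nat.card S * Nat.card M := by
  rw [← Nat.card_prod]
  apply Nat.card_congr
  refine
    { toFun := fun x => (⟨QuotientGroup.mk x.1, x.2⟩,
        ⟨(QuotientGroup.mk x.1 : G ⧸ M).out⁻¹ * x.1, ?_⟩)
      invFun := fun y => ⟨y.1.1.out * y.2.1, ?_⟩
      left_inv := ?_
      right_inv := ?_ }
  · rw [← QuotientGroup.eq, QuotientGroup.out_eq']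
  · rw [QuotientGroup.mk_mul_of_mem _ y.2.2, QuotientGroup.out_eq']
    exact y.1.2
  · intro x
    apply Subtype.ext
    show (QuotientGroup.mk x.1 : G ⧸ M).out * ((QuotientGroup.mk x.1 : G ⧸ M).out⁻¹ * x.1) = x.1
    group
  · rintro ⟨⟨y, hy⟩, ⟨m, hm⟩⟩
    have h1 : (QuotientGroup.mk (y.out * m) : G ⧸ M) = y := by
      rw [QuotientGroup.mk_mul_of_mem _ hm, QuotientGroup.out_eq']
    apply Prod.ext
    · apply Subtype.ext
      exact h1
    · apply Subtype.ext
      show (QuotientGroup.mk (y.out * m) : G ⧸ M).out⁻¹ * (y.out * m) = m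
      rw [h1]; group

theorem pow_eq_pow_of_modEq {x : G} {n a b : ℕ} (hx : x ^ n = 1) (h : a ≡ b [MOD n]) :
    x ^ a = x ^ b :=
  pow_eq_pow_iff_modEq.mpr (h.of_dvd (orderOf_dvd_of_pow_eq_one hx))

/-- Lifting solutions of `y ^ n = 1` through a quotient by a subgroup of exponent `p ∤ n`. -/
theorem exists_lift (M : Subgroup G) [M.Normal] {p n : ℕ} (hp : p.Prime) (hn : 1 < n)
    (hpn : ¬ p ∣ n) (hM : ∀ m ∈ M, m ^ p = 1) (y : G)
    (hy : (QuotientGroup.mk y : G ⧸ M) ^ n = 1) :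
    ∃ y' : G, (QuotientGroup.mk y' : G ⧸ M) = QuotientGroup.mk y ∧ y' ^ n = 1 := by
  have hco : Nat.Coprime p n := (Nat.Prime.coprime_iff_not_dvd hp).mpr hpn
  obtain ⟨u, -, hu⟩ := Nat.exists_mul_mod_eq_one_of_coprime hco hn
  have hmod : p * u ≡ 1 [MOD n] := by
    show p * u % n = 1 % n
    rw [hu, Nat.mod_eq_of_lt hn]
  have hyM : y ^ n ∈ M := by
    rw [← QuotientGroup.eq_one_iff, QuotientGroup.mk_pow]; exact hy
  refine ⟨y ^ (p * u), ?_, ?_⟩
  · rw [QuotientGroup.mk_pow, pow_eq_pow_of_modEq hy hmod, pow_one]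
  · rw [← pow_mul, mul_comm, pow_mul, pow_mul, hM _ hyM, one_pow]

end

theorem key : ∀ (N : ℕ) (G : Type u) [Group G] [Finite G] [Group.IsSolvable G], Nat.card G = N →
    ∀ n : ℕ, n ∣ N → Nat.card {x : G // x ^ n = 1} = n →
    ∃ H : Subgroup G, (H : Set G) = {x : G | x ^ n = 1} := by
  intro N
  induction N using Nat.strong_induction_on with
  | _ N ih =>
  intro G _ _ _ hN n hnN hcount
  by_cases hn1 : n = 1
  · refine ⟨⊥, ?_⟩
    ext x
    simp [hn1]
  have hNpos : 0 < N := hN ▸ Nat.card_pos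
  have hn0 : n ≠ 0 := by rintro rfl; exact hNpos.ne' (Nat.eq_zero_of_zero_dvd hnN)
  have hn2 : 1 < n := by omega
  haveI : Nontrivial G := by
    rw [← Finite.one_lt_card_iff_nontrivial, hN]
    exact lt_of_lt_of_le hn2 (Nat.le_of_dvd hNpos hnN)
  obtain ⟨p, hpp, M, hMn, hMne, hMexp⟩ := exists_normal_exp (G := G)
  haveI := hMn
  haveI : Fact p.Prime := ⟨hpp⟩
  have hMp : IsPGroup p M := by
    intro m
    refine ⟨1, ?_⟩
    rw [pow_one]
    apply Subtype.ext
    simpa using hMexp m.1 m.2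
  obtain ⟨i, hi⟩ := IsPGroup.iff_card.mp hMp
  have hi0 : i ≠ 0 := by
    rintro rfl
    rw [pow_zero] at hi
    exact hMne (Subgroup.card_eq_one.mp hi)
  have hqpos : 0 < p ^ i := pow_pos hpp.pos i
  have hcardQ : Nat.card (G ⧸ M) * p ^ i = N := by
    rw [← hN, ← hi]; exact (Subgroup.card_eq_card_quotient_mul_card_subgroup M).symm
  have hQlt : Nat.card (G ⧸ M) < N := by
    have h1 : 1 < p ^ i := Nat.one_lt_pow hi0 hpp.one_lt
    have hQpos : 0 < Nat.card (G ⧸ M) := Nat.card_pos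
    nlinarith
  have hLset : Set.ncard {x : G | x ^ n = 1} = n :=
    (Nat.card_coe_set_eq {x : G | x ^ n = 1}).symm.trans hcount
  have hfin : ∀ H : Subgroup G, (∀ x ∈ H, x ^ n = 1) → Nat.card H = n →
      (H : Set G) = {x : G | x ^ n = 1} := by
    intro H hH hHc
    have h1 : (H : Set G) ⊆ {x : G | x ^ n = 1} := fun x hx => hH x hx
    have h2 : Set.ncard {x : G | x ^ n = 1} ≤ Set.ncard (H : Set G) := by
      rw [hLset, ← hHc]
      exact (Nat.card_coe_set_eq (H : Set G)).le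
    exact Set.eq_of_subset_of_ncard_le h1 h2 (Set.toFinite _)
  have hfrob : ∀ m : ℕ, m ∣ Nat.card (G ⧸ M) → m ≤ Nat.card {y : G ⧸ M // y ^ m = 1} := by
    intro m hm
    have h1 := Cfsg.Agent.S3993.result (G := G ⧸ M) m hm
    have h2 : 0 < Nat.card {y : G ⧸ M // y ^ m = 1} := by
      haveI : Nonempty {y : G ⧸ M // y ^ m = 1} := ⟨⟨1, one_pow m⟩⟩
      exact Nat.card_pos
    exact Nat.le_of_dvd h2 h1
  have hfiber : ∀ m : ℕ, (∀ x : G, (QuotientGroup.mk x : G ⧸ M) ^ m = 1 → x ^ n = 1) →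
      Nat.card {y : G ⧸ M // y ^ m = 1} * p ^ i ≤ n := by
    intro m hm
    have h1 := card_preimage M {y : G ⧸ M | y ^ m = 1}
    have h2 : Nat.card {x : G // (QuotientGroup.mk x : G ⧸ M) ∈ {y : G ⧸ M | y ^ m = 1}} ≤
        Nat.card {x : G // x ^ n = 1} := by
      apply Nat.card_le_card_of_injective
        (fun x => (⟨x.1, hm x.1 x.2⟩ : {x : G // x ^ n = 1}))
      intro a b hab
      apply Subtype.ext
      have h3 := congrArg Subtype.val hab
      exact h3
    rw [hcount, h1, hi] at h2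
    exact h2
  have hcomap : ∀ Hb : Subgroup (G ⧸ M),
      Nat.card (Hb.comap (QuotientGroup.mk' M)) = Nat.card Hb * p ^ i := by
    intro Hb
    have h1 := card_preimage M (Hb : Set (G ⧸ M))
    rw [hi] at h1
    have h2 : Nat.card ↥(Hb.comap (QuotientGroup.mk' M)) =
        Nat.card {x : G // (QuotientGroup.mk x : G ⧸ M) ∈ (Hb : Set (G ⧸ M))} :=
      Nat.card_congr (Equiv.subtypeEquivRight (fun x => Iff.rfl))
    rw [h2, h1]
    rfl
  have hsub_of_set : ∀ (m : ℕ) (Hb : Subgroup (G ⧸ M)),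
      (Hb : Set (G ⧸ M)) = {y : G ⧸ M | y ^ m = 1} →
      Nat.card Hb = Nat.card {y : G ⧸ M // y ^ m = 1} := by
    intro m Hb h
    apply Nat.card_congr
    exact Equiv.subtypeEquivRight (fun y => by
      have : y ∈ (Hb : Set (G ⧸ M)) ↔ y ∈ {y : G ⧸ M | y ^ m = 1} := by rw [h]
      exact this)
  have hpowH : ∀ H : Subgroup G, Nat.card H = n → ∀ x ∈ H, x ^ n = 1 := by
    intro H hH x hx
    have h1 : (⟨x, hx⟩ : ↥H) ^ Nat.card ↥H = 1 := pow_card_eq_one'
    rw [hH] at h1
    exact congrArg Subtype.val h1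
  by_cases hpn : p ∣ n
  · by_cases hqn : p ^ i ∣ n
    · -- the whole of M fits
      obtain ⟨n'', hn''⟩ := hqn
      have hn''Q : n'' ∣ Nat.card (G ⧸ M) := by
        rw [← hcardQ, hn'', mul_comm (p ^ i) n''] at hnN
        exact Nat.dvd_of_mul_dvd_mul_right hqpos hnN
      have hfib := hfiber n'' (by
        intro x hx
        have hxM : x ^ n'' ∈ M := by
          rw [← QuotientGroup.eq_one_iff, QuotientGroup.mk_pow]; exact hx
        rw [hn'', mul_comm, pow_mul]
        obtain ⟨i', rfl⟩ := Nat.exists_eq_succ_of_ne_zero hi0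
        rw [pow_succ', pow_mul, hMexp _ hxM, one_pow])
      have hle : Nat.card {y : G ⧸ M // y ^ n'' = 1} ≤ n'' := by
        rw [hn'', mul_comm] at hfib
        exact Nat.le_of_mul_le_mul_left hfib hqpos
      have heq : Nat.card {y : G ⧸ M // y ^ n'' = 1} = n'' := le_antisymm hle (hfrob n'' hn''Q)
      obtain ⟨Hb, hHb⟩ := ih _ hQlt (G ⧸ M) rfl n'' hn''Q heq
      have hHbc : Nat.card Hb = n'' := by rw [hsub_of_set n'' Hb hHb, heq]
      have hHc : Nat.card (Hb.comap (QuotientGroup.mk' M)) = n := by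
        rw [hcomap, hHbc, hn'', mul_comm]
      exact ⟨Hb.comap (QuotientGroup.mk' M), hfin _ (hpowH _ hHc) hHc⟩
    · -- impossible
      exfalso
      obtain ⟨j, n₁, hpn₁, hnj⟩ := Nat.exists_eq_pow_mul_and_not_dvd hn0 p hpp.ne_one
      have hj0 : j ≠ 0 := by
        rintro rfl
        rw [pow_zero, one_mul] at hnj
        exact hpn₁ (hnj ▸ hpn)
      have hji : j < i := by
        by_contra h
        push Not at h
        apply hqn
        rw [hnj]
        exact dvd_mul_of_dvd_left (pow_dvd_pow p h) n₁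
      have hn₁Q : n₁ ∣ Nat.card (G ⧸ M) := by
        have h1 : n₁ ∣ Nat.card (G ⧸ M) * p ^ i := by
          rw [hcardQ]; exact dvd_trans (Dvd.intro_left _ hnj.symm) hnN
        have hco : Nat.Coprime n₁ (p ^ i) :=
          Nat.Coprime.pow_right i ((Nat.Prime.coprime_iff_not_dvd hpp).mpr hpn₁).symm
        exact hco.dvd_of_dvd_mul_right h1
      have hfib := hfiber n₁ (by
        intro x hx
        have hxM : x ^ n₁ ∈ M := by
          rw [← QuotientGroup.eq_one_iff, QuotientGroup.mk_pow]; exact hx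
        obtain ⟨j', rfl⟩ := Nat.exists_eq_succ_of_ne_zero hj0
        rw [hnj, mul_comm, pow_mul, pow_succ', pow_mul, hMexp _ hxM, one_pow])
      have h1 := hfrob n₁ hn₁Q
      have hn₁pos : 0 < n₁ := by
        rcases Nat.eq_zero_or_pos n₁ with h | h
        · rw [h, mul_zero] at hnj; exact absurd hnj hn0
        · exact h
      have h2 : n₁ * p ^ i ≤ p ^ j * n₁ := by
        calc n₁ * p ^ i ≤ Nat.card {y : G ⧸ M // y ^ n₁ = 1} * p ^ i :=
              Nat.mul_le_mul_right _ h1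
          _ ≤ n := hfib
          _ = p ^ j * n₁ := hnj
      rw [mul_comm (p ^ j) n₁] at h2
      have h3 : p ^ i ≤ p ^ j := Nat.le_of_mul_le_mul_left h2 hn₁pos
      have h4 : i ≤ j := (Nat.pow_le_pow_iff_right hpp.one_lt).mp h3
      omega
  · -- coprime case
    have hco : Nat.Coprime n (p ^ i) :=
      Nat.Coprime.pow_right i ((Nat.Prime.coprime_iff_not_dvd hpp).mpr hpn).symm
    have hnQ : n ∣ Nat.card (G ⧸ M) := by
      have h1 : n ∣ Nat.card (G ⧸ M) * p ^ i := by rw [hcardQ]; exact hnN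
      exact hco.dvd_of_dvd_mul_right h1
    have hle : Nat.card {y : G ⧸ M // y ^ n = 1} ≤ n := by
      refine le_trans ?_ hcount.le
      apply Nat.card_le_card_of_surjective
        (fun x : {x : G // x ^ n = 1} => (⟨QuotientGroup.mk x.1, by
          rw [← QuotientGroup.mk_pow, x.2]; rfl⟩ : {y : G ⧸ M // y ^ n = 1}))
      rintro ⟨y, hy⟩
      obtain ⟨g, rfl⟩ := QuotientGroup.mk_surjective y
      obtain ⟨g', hg', hg'n⟩ := exists_lift M hpp hn2 hpn hMexp g hy
      exact ⟨⟨g', hg'n⟩, Subtype.ext hg'⟩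
    have heq : Nat.card {y : G ⧸ M // y ^ n = 1} = n := le_antisymm hle (hfrob n hnQ)
    obtain ⟨Hb, hHb⟩ := ih _ hQlt (G ⧸ M) rfl n hnQ heq
    have hHbc : Nat.card Hb = n := by rw [hsub_of_set n Hb hHb, heq]
    obtain ⟨H, hH⟩ : ∃ H : Subgroup G, H = Hb.comap (QuotientGroup.mk' M) := ⟨_, rfl⟩
    have hHc : Nat.card H = n * p ^ i := by rw [hH, hcomap, hHbc]
    have hMH : M ≤ H := by
      intro m hm
      rw [hH, Subgroup.mem_comap]
      have : QuotientGroup.mk' M m = 1 := (QuotientGroup.eq_one_iff m).mpr hm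
      rw [this]; exact Hb.one_mem
    haveI hN'n : (M.subgroupOf H).Normal := inferInstance
    have hN'c : Nat.card (M.subgroupOf H) = p ^ i := by
      rw [← hi]
      exact Nat.card_congr (Subgroup.subgroupOfEquivOfLe hMH).toEquiv
    have hN'i : (M.subgroupOf H).index = n := by
      have h1 := Subgroup.card_mul_index (M.subgroupOf H)
      rw [hN'c, hHc, mul_comm n] at h1
      exact Nat.eq_of_mul_eq_mul_left hqpos h1
    obtain ⟨K', hK'⟩ := Subgroup.exists_left_complement'_of_coprime (N := M.subgroupOf H)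
      (by rw [hN'c, hN'i]; exact hco.symm)
    have hK'c : Nat.card K' = n := by rw [← hK'.index_eq_card, hN'i]
    have hKc : Nat.card (K'.map H.subtype) = n := by
      rw [Subgroup.card_map_of_injective (Subgroup.subtype_injective H), hK'c]
    exact ⟨K'.map H.subtype, hfin _ (hpowH _ hKc) hKc⟩

/-- If `G` is a finite solvable group and `n` divides the order of `G` and exactly `n` elements `x` of `G` satisfy `x^n = 1`, then these elements form a normal subgroup. -/
theorem result {G : Type*} [Group G] [Finite G] [Group.IsSolvable G] (n : ℕ) (hn : n ∣ Nat.card G) (hcount : Nat.card {x : G // x ^ n = 1} = n) : ∃ H : Subgroup G, H.Normal ∧ (H : Set G) = {x : G | x ^ n = 1} := by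
  obtain ⟨H, hH⟩ := key (Nat.card G) G rfl n hn hcount
  refine ⟨H, ⟨fun x hx g => ?_⟩, hH⟩
  have h1 : x ∈ (H : Set G) := hx
  rw [hH] at h1
  have h2 : g * x * g⁻¹ ∈ (H : Set G) := by
    rw [hH]
    show (g * x * g⁻¹) ^ n = 1
    rw [conj_pow, h1]; group
  exact h2

end Cfsg.Agent.S4213
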