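import Cfsg.Statements.S4303
import Mathlib
import Cfsg.Agent.Lib_helper21_SylowNum
import Cfsg.Agent.Lib_helper7_CoprimeSylow

set_option autoImplicit false
set_option linter.style.haveILetI false
set_option linter.unusedSectionVars false
universe u
open Cfsg

namespace Cfsg.Agent.S4303

open Subgroup

/-- an admissible factor -/
def Good (p : ℕ) (m : ℕ) : Prop :=
  (IsPrimePow m ∧ m % p = 1) ∨
    ∃ (S : Type u) (_ : Group S) (_ : Finite S), IsSimpleGroup S ∧ m = Nat.card (Sylow p S)

/-- a product of admissible factors -/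
def GoodProd (p n : ℕ) : Prop := ∃ l : List ℕ, l.prod = n ∧ ∀ m ∈ l, Good.{u} p m

theorem goodProd_one (p : ℕ) : GoodProd.{u} p 1 := ⟨[], rfl, by simp⟩

theorem goodProd_mul {p a b : ℕ} (ha : GoodProd.{u} p a) (hb : GoodProd.{u} p b) :
    GoodProd.{u} p (a * b) := by
  obtain ⟨l₁, h1, h1'⟩ := ha
  obtain ⟨l₂, h2, h2'⟩ := hb
  refine ⟨l₁ ++ l₂, by rw [List.prod_append, h1, h2], ?_⟩
  intro m hm
  rcases List.mem_append.mp hm with h | h
  · exact h1' m h
  · exact h2' m h

theorem goodProd_of_parts {p n : ℕ} (hn : n ≠ 0)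
    (h : ∀ q : ℕ, q.Prime → q ∣ n → (q ^ n.factorization q) % p = 1) : GoodProd.{u} p n := by
  refine ⟨n.primeFactors.toList.map (fun q => q ^ n.factorization q), ?_, ?_⟩
  · rw [Finset.prod_map_toList]
    have := Nat.factorization_prod_pow_eq_self hn
    rw [Finsupp.prod, Nat.support_factorization] at this
    exact this
  · intro m hm
    rw [List.mem_map] at hm
    obtain ⟨q, hq, rfl⟩ := hm
    rw [Finset.mem_toList, Nat.mem_primeFactors] at hq
    left
    refine ⟨?_, h q hq.1 hq.2.1⟩
    refine ⟨q, n.factorization q, hq.1.prime, ?_, rfl⟩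
    exact Nat.pos_of_ne_zero (fun h0 => by
      have := (Nat.Prime.factorization_pos_of_dvd hq.1 hn hq.2.1)
      omega)

/-- conjugation action of a subgroup on a subgroup it normalizes -/
def conjMulAction {G : Type*} [Group G] (A S : Subgroup G) (h : A ≤ normalizer (S : Set G)) :
    MulAction A S where
  smul a x := ⟨a.1 * x.1 * a.1⁻¹, (mem_normalizer_iff.mp (h a.2) x.1).mp x.2⟩
  one_smul x := by
    apply Subtype.ext
    show (1 : A).1 * x.1 * (1 : A).1⁻¹ = x.1
    simp
  mul_smul a b x := by
    apply Subtype.ext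
    show (a * b).1 * x.1 * (a * b).1⁻¹ = a.1 * (b.1 * x.1 * b.1⁻¹) * a.1⁻¹
    simp only [Subgroup.coe_mul]
    group

theorem card_modEq_card_inf_centralizer {G : Type*} [Group G] [Finite G] {p : ℕ} [Fact p.Prime]
    (A S : Subgroup G) (hA : IsPGroup p A) (h : A ≤ normalizer (S : Set G)) :
    Nat.card S ≡ Nat.card (S ⊓ centralizer (A : Set G) : Subgroup G) [MOD p] := by
  letI := conjMulAction A S h
  have h1 := hA.card_modEq_card_fixedPoints (α := ↥S)
  have h2 : Nat.card (MulAction.fixedPoints A S) =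
      Nat.card (S ⊓ centralizer (A : Set G) : Subgroup G) := by
    apply Nat.card_congr
    refine ⟨fun x => ⟨x.1.1, x.1.2, ?_⟩, fun y => ⟨⟨y.1, y.2.1⟩, ?_⟩, ?_, ?_⟩
    · show x.1.1 ∈ centralizer (A : Set G)
      rw [mem_centralizer_iff]
      intro a ha
      have h3 := x.2 ⟨a, ha⟩
      have h4 : a * x.1.1 * a⁻¹ = x.1.1 := congrArg Subtype.val h3
      calc a * x.1.1 = (a * x.1.1 * a⁻¹) * a := by group
        _ = x.1.1 * a := by rw [h4]
    · intro a
      apply Subtype.ext
      show a.1 * y.1 * a.1⁻¹ = y.1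
      have := (mem_centralizer_iff.mp y.2.2) a.1 a.2
      rw [this]; group
    · intro x; rfl
    · intro y; rfl
  rw [h2] at h1
  exact h1

section
variable {G : Type u} [Group G] [Finite G] {p : ℕ} [Fact p.Prime]

theorem not_dvd_card_of_inf_eq_bot (P : Sylow p G) (K : Subgroup G) [K.Normal]
    (hPK : (P : Subgroup G) ⊓ K = ⊥) : ¬ p ∣ Nat.card K := by
  have hp : p.Prime := Fact.out
  intro hdvd
  -- |P ⊔ K| = |K| |P|
  have h1 := Subgroup.relIndex_mul_relIndex ⊥ K ((P : Subgroup G) ⊔ K) bot_le le_sup_right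
  rw [Subgroup.relIndex_bot_left, Subgroup.relIndex_bot_left, Subgroup.relIndex_sup_right,
    ← Subgroup.inf_relIndex_right, inf_comm, hPK, Subgroup.relIndex_bot_left] at h1
  have h2 : Nat.card K * Nat.card (P : Subgroup G) ∣ Nat.card G := by
    rw [h1]; exact Subgroup.card_subgroup_dvd_card _
  rw [Sylow.card_eq_multiplicity] at h2
  obtain ⟨t, ht⟩ := hdvd
  have h3 : p ^ ((Nat.card G).factorization p + 1) ∣ Nat.card G := by
    refine dvd_trans ?_ h2
    rw [ht, pow_succ]
    exact ⟨t, by ring⟩
  have h4 := (Nat.Prime.pow_dvd_iff_le_factorization hp Nat.card_pos.ne').mp h3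
  omega

theorem coprime_part (P : Sylow p G) (K : Subgroup G) [K.Normal]
    (hPK : (P : Subgroup G) ⊓ K = ⊥) (q : ℕ) (hq : q.Prime)
    (hqn : q ∣ (normalizer ((P : Subgroup G) : Set G)).relIndex K) :
    (q ^ ((normalizer ((P : Subgroup G) : Set G)).relIndex K).factorization q) % p = 1 := by
  have hp : p.Prime := Fact.out
  haveI : Fact q.Prime := ⟨hq⟩
  have hpK : ¬ p ∣ Nat.card K := not_dvd_card_of_inf_eq_bot P K hPK
  obtain ⟨C, hC⟩ : ∃ C, C = normalizer ((P : Subgroup G) : Set G) ⊓ K := ⟨_, rfl⟩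
  obtain ⟨n, hn⟩ : ∃ n, n = (normalizer ((P : Subgroup G) : Set G)).relIndex K := ⟨_, rfl⟩
  rw [← hn] at hqn ⊢
  have hCK : C ≤ K := hC ▸ inf_le_right
  have hcard : Nat.card C * n = Nat.card K := by
    have h1 := Subgroup.relIndex_mul_relIndex ⊥ C K bot_le hCK
    rw [Subgroup.relIndex_bot_left, Subgroup.relIndex_bot_left, hC, Subgroup.inf_relIndex_right,
      ← hn, ← hC] at h1
    exact h1
  have hnpos : n ≠ 0 := by
    intro h0
    rw [h0, mul_zero] at hcard
    exact Nat.card_pos.ne' hcard.symm
  have hqK : q ∣ Nat.card K := hcard ▸ (hqn.trans (Dvd.intro_left _ rfl))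
  have hqp : q ≠ p := fun h => hpK (h ▸ hqK)
  -- elements of C centralize P
  have hCcent : C ≤ centralizer ((P : Subgroup G) : Set G) := by
    intro c hc
    rw [hC] at hc
    rw [mem_centralizer_iff]
    intro a ha
    have h1 : c * a * c⁻¹ * a⁻¹ ∈ (P : Subgroup G) ⊓ K := by
      refine ⟨?_, ?_⟩
      · have := (mem_normalizer_iff.mp hc.1 a).mp ha
        exact (P : Subgroup G).mul_mem this ((P : Subgroup G).inv_mem ha)
      · have h2 : a * c⁻¹ * a⁻¹ ∈ K := (inferInstance : K.Normal).conj_mem _ (K.inv_mem hc.2) a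
        have h3 : c * a * c⁻¹ * a⁻¹ = c * (a * c⁻¹ * a⁻¹) := by group
        rw [h3]
        exact K.mul_mem hc.2 h2
    rw [hPK, mem_bot] at h1
    calc a * c = (c * a * c⁻¹ * a⁻¹)⁻¹ * (c * a) := by group
      _ = c * a := by rw [h1, inv_one, one_mul]
  -- a Sylow q-subgroup of C
  obtain ⟨R, -, hRC, hRq, hRcard⟩ :=
    Cfsg.Agent.helper7.exists_sylow_ge_in (q := q) (R := ⊥) (K := C) bot_le IsPGroup.of_bot
  have hPR : (P : Subgroup G) ≤ normalizer (R : Set G) := by
    intro a ha
    have h1 : a ∈ centralizer (R : Set G) := by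
      rw [mem_centralizer_iff]
      intro r hr
      exact ((mem_centralizer_iff.mp (hCcent (hRC hr))) a ha).symm
    exact Subgroup.centralizer_le_normalizer _ h1
  have hPKn : (P : Subgroup G) ≤ normalizer (K : Set G) := by
    rw [Subgroup.normalizer_eq_top]; exact le_top
  obtain ⟨S, hRS, hSK, hSq, hScard, hPS⟩ :=
    Cfsg.Agent.helper7.exists_invariant_sylow_ge (p := p) (q := q) P.isPGroup' hpK hPKn
      (hRC.trans hCK) hRq hPR
  -- S ⊓ centralizer P = R
  have hinf : S ⊓ centralizer ((P : Subgroup G) : Set G) ≤ C := by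
    intro x hx
    rw [hC]
    exact ⟨Subgroup.centralizer_le_normalizer _ hx.2, hSK hx.1⟩
  have hcardinf : Nat.card (S ⊓ centralizer ((P : Subgroup G) : Set G) : Subgroup G) =
      q ^ (Nat.card C).factorization q := by
    apply le_antisymm
    · exact Cfsg.Agent.helper7.card_le_sylow hinf (hSq.to_le inf_le_left)
    · rw [← hRcard]
      exact Subgroup.card_le_of_le (le_inf hRS (hRC.trans hCcent))
  have hmod := card_modEq_card_inf_centralizer (P : Subgroup G) S P.isPGroup' hPS
  rw [hScard, hcardinf] at hmod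
  -- factorization
  have hfac : (Nat.card K).factorization q = (Nat.card C).factorization q + n.factorization q := by
    rw [← hcard, Nat.factorization_mul Nat.card_pos.ne' hnpos]
    rfl
  rw [hfac, pow_add] at hmod
  have hcop : Nat.gcd p (q ^ (Nat.card C).factorization q) = 1 := by
    apply Nat.Coprime.pow_right
    exact (Nat.coprime_primes hp hq).mpr (Ne.symm hqp)
  have h5 : q ^ n.factorization q ≡ 1 [MOD p] := by
    apply Nat.ModEq.cancel_left_of_coprime hcop
    rw [mul_one]
    exact hmod
  have h6 := h5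
  unfold Nat.ModEq at h6
  rw [h6]
  exact Nat.mod_eq_of_lt hp.one_lt

end

theorem card_lt_of_ne_top {G : Type*} [Group G] [Finite G] {M : Subgroup G} (h : M ≠ ⊤) :
    Nat.card M < Nat.card G := by
  have hle := Subgroup.card_le_card_group M
  rcases Nat.lt_or_ge (Nat.card M) (Nat.card G) with h1 | h1
  · exact h1
  · exact absurd ((Subgroup.card_eq_iff_eq_top _).mp (le_antisymm hle h1)) h

theorem card_quot_lt {G : Type*} [Group G] [Finite G] (M Q : Subgroup G)
    (hQle : Q ≤ M ⊓ normalizer (Q : Set G))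
    [hn : (Q.subgroupOf (M ⊓ normalizer (Q : Set G))).Normal] (hcase : ¬ (Q = ⊥ ∧ M = ⊤)) :
    Nat.card (↥(M ⊓ normalizer (Q : Set G)) ⧸ Q.subgroupOf (M ⊓ normalizer (Q : Set G))) <
      Nat.card G := by
  have h1 := Subgroup.card_eq_card_quotient_mul_card_subgroup
    (Q.subgroupOf (M ⊓ normalizer (Q : Set G)))
  have h2 : Nat.card (Q.subgroupOf (M ⊓ normalizer (Q : Set G))) = Nat.card Q :=
    Nat.card_congr (Subgroup.subgroupOfEquivOfLe hQle).toEquiv
  rw [h2] at h1
  have h3 : Nat.card (M ⊓ normalizer (Q : Set G) : Subgroup G) ≤ Nat.card M :=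
    Subgroup.card_le_of_le inf_le_left
  have h4 : Nat.card M ≤ Nat.card G := Subgroup.card_le_card_group M
  have h5 : 0 < Nat.card (↥(M ⊓ normalizer (Q : Set G)) ⧸ Q.subgroupOf (M ⊓ normalizer (Q : Set G))) :=
    Nat.card_pos
  by_cases hQbot : Q = ⊥
  · have hMtop : M ≠ ⊤ := fun h => hcase ⟨hQbot, h⟩
    have h6 : Nat.card M < Nat.card G := card_lt_of_ne_top hMtop
    have h7 : Nat.card Q = 1 := by rw [hQbot]; exact Subgroup.card_bot
    rw [h7, mul_one] at h1
    omega
  · have h6 : 2 ≤ Nat.card Q := by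
      rcases Nat.lt_or_ge (Nat.card Q) 2 with h | h
      · exfalso
        have h7 : Nat.card Q = 1 := by
          have := Nat.card_pos (α := Q); omega
        exact hQbot (Subgroup.card_eq_one.mp h7)
      · exact h
    nlinarith

theorem main (p : ℕ) [Fact p.Prime] : ∀ (N : ℕ) (G : Type u) [Group G] [Finite G],
    Nat.card G = N → GoodProd.{u} p (Nat.card (Sylow p G)) := by
  intro N
  induction N using Nat.strong_induction_on with
  | _ N IH =>
  intro G _ _ hN
  by_cases hsub : Subsingleton G
  · have : Nat.card (Sylow p G) = 1 := by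
      obtain ⟨P⟩ : Nonempty (Sylow p G) := inferInstance
      rw [Sylow.card_eq_index_normalizer P, Subgroup.index_eq_one]
      exact Subsingleton.elim _ _
    rw [this]; exact goodProd_one p
  haveI : Nontrivial G := not_subsingleton_iff_nontrivial.mp hsub
  by_cases hsimple : IsSimpleGroup G
  · refine ⟨[Nat.card (Sylow p G)], by simp, fun m hm => ?_⟩
    rw [List.mem_singleton] at hm
    right
    exact ⟨G, inferInstance, inferInstance, hsimple, hm⟩
  · have hex : ∃ K : Subgroup G, K.Normal ∧ K ≠ ⊥ ∧ K ≠ ⊤ := by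
      by_contra hcon
      push Not at hcon
      apply hsimple
      exact { exists_pair_ne := exists_pair_ne G
              eq_bot_or_eq_top_of_normal := fun K hK => by
                by_cases h : K = ⊥
                · left; exact h
                · right; exact hcon K hK h }
    obtain ⟨K, hKn, hKbot, hKtop⟩ := hex
    haveI := hKn
    obtain ⟨P⟩ : Nonempty (Sylow p G) := inferInstance
    have hcardK : Nat.card K < N := hN ▸ card_lt_of_ne_top hKtop
    have hcardQ : Nat.card (G ⧸ K) < N := by
      have h1 := Subgroup.card_eq_card_quotient_mul_card_subgroup K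
      have h2 : 2 ≤ Nat.card K := by
        rcases Nat.lt_or_ge (Nat.card K) 2 with h | h
        · exfalso
          have h3 : Nat.card K = 1 := by
            have := Nat.card_pos (α := K); omega
          exact hKbot (Subgroup.card_eq_one.mp h3)
        · exact h
      have h3 : 0 < Nat.card (G ⧸ K) := Nat.card_pos
      rw [← hN, h1]
      nlinarith
    have hGK : GoodProd.{u} p (Nat.card (Sylow p (G ⧸ K))) := IH _ hcardQ (G ⧸ K) rfl
    have hK : GoodProd.{u} p (Nat.card (Sylow p K)) := IH _ hcardK K rfl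
    by_cases hcase : (P : Subgroup G) ⊓ K = ⊥ ∧ (P : Subgroup G) ⊔ K = ⊤
    · -- coprime case
      rw [Cfsg.Agent.helper21.card_sylow_eq_quot_mul P K,
        Cfsg.Agent.helper21.relIndex_normalizer_sup_eq P K]
      apply goodProd_mul hGK
      apply goodProd_of_parts
      · intro h0
        have h1 := Subgroup.relIndex_mul_relIndex ⊥
          (normalizer ((P : Subgroup G) : Set G) ⊓ K) K bot_le inf_le_right
        rw [Subgroup.inf_relIndex_right, h0, mul_zero, Subgroup.relIndex_bot_left] at h1
        exact Nat.card_pos.ne' h1.symm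
      · intro q hq hqn
        exact coprime_part P K hcase.1 q hq hqn
    · -- general case
      have hQle : (P : Subgroup G) ⊓ K ≤ ((P : Subgroup G) ⊔ K) ⊓
          normalizer (((P : Subgroup G) ⊓ K : Subgroup G) : Set G) :=
        le_inf (inf_le_left.trans le_sup_left) Subgroup.le_normalizer
      haveI hn : (((P : Subgroup G) ⊓ K).subgroupOf (((P : Subgroup G) ⊔ K) ⊓
          normalizer (((P : Subgroup G) ⊓ K : Subgroup G) : Set G))).Normal :=
        Subgroup.normal_subgroupOf_of_le_normalizer inf_le_right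
      rw [Cfsg.Agent.helper21.card_sylow_product_formula P K]
      refine goodProd_mul (goodProd_mul hGK hK) ?_
      have hT := card_quot_lt ((P : Subgroup G) ⊔ K) ((P : Subgroup G) ⊓ K) hQle hcase
      rw [hN] at hT
      exact IH _ hT _ rfl

/-- For a finite group `G` and a prime `p`, the number of Sylow `p`-subgroups of `G` is a product of natural numbers each of which is either a prime power congruent to 1 modulo `p` or the number of Sylow `p`-subgroups of some finite simple group. -/
theorem result {G : Type u} [Group G] [Finite G]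
    (p : ℕ) [Fact p.Prime] :
    ∃ l : List ℕ, l.prod = Nat.card (Sylow p G) ∧
      ∀ m ∈ l, (IsPrimePow m ∧ m % p = 1) ∨
        ∃ (S : Type u) (_ : Group S) (_ : Finite S), IsSimpleGroup S ∧ m = Nat.card (Sylow p S) :=
  main p (Nat.card G) G rfl

end Cfsg.Agent.S4303
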