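import Cfsg.Statements.S4214
import Mathlib
import Cfsg.Agent.Lib_helper23_Hall
import Cfsg.Agent.Lib_helper17_MinNonNil
import Cfsg.Agent.S4303

set_option autoImplicit false
set_option linter.style.haveILetI false
set_option linter.unusedSectionVars false
open Cfsg
open scoped Pointwise

namespace Cfsg.Agent.S4214

universe u

open Subgroup

/-- products of numbers satisfying `P` -/
def GP (P : ℕ → Prop) (x : ℕ) : Prop := ∃ l : List ℕ, l.prod = x ∧ ∀ y ∈ l, P y

theorem gp_one (P : ℕ → Prop) : GP P 1 := ⟨[], rfl, by simp⟩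

theorem gp_single {P : ℕ → Prop} {x : ℕ} (h : P x) : GP P x :=
  ⟨[x], by simp, by simpa using h⟩

theorem gp_mul {P : ℕ → Prop} {a b : ℕ} (ha : GP P a) (hb : GP P b) : GP P (a * b) := by
  obtain ⟨l₁, h1, h1'⟩ := ha
  obtain ⟨l₂, h2, h2'⟩ := hb
  refine ⟨l₁ ++ l₂, by rw [List.prod_append, h1, h2], ?_⟩
  intro y hy
  rcases List.mem_append.mp hy with h | h
  · exact h1' y h
  · exact h2' y h

theorem gp_mono {P Q : ℕ → Prop} (h : ∀ y, P y → Q y) {x : ℕ} (hx : GP P x) : GP Q x := by
  obtain ⟨l, h1, h2⟩ := hx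
  exact ⟨l, h1, fun y hy => h y (h2 y hy)⟩

/-- the admissible factors -/
def Fac (G : Type u) [Group G] (m y : ℕ) : Prop :=
  (∃ q e : ℕ, q.Prime ∧ y = q ^ e) ∧
  (∃ K L : Subgroup G, K.Normal ∧ L.Normal ∧ K < L ∧
    (∀ M : Subgroup G, M.Normal → K ≤ M → M ≤ L → M = K ∨ M = L) ∧ y ∣ K.relIndex L) ∧
  (∃ q : ℕ, q.Prime ∧ q ∣ m ∧ y ≡ 1 [MOD q])

theorem fac_lift {G : Type u} [Group G] (N : Subgroup G) [N.Normal] {m' m y : ℕ} (hm : m' ∣ m)
    (h : Fac (G ⧸ N) m' y) : Fac G m y := by
  obtain ⟨h1, ⟨K, L, hK, hL, hKL, hmax, hdvd⟩, ⟨q, hq, hqm, hmod⟩⟩ := h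
  refine ⟨h1, ?_, ⟨q, hq, hqm.trans hm, hmod⟩⟩
  have hsurj : Function.Surjective (QuotientGroup.mk' N) := QuotientGroup.mk'_surjective N
  refine ⟨K.comap (QuotientGroup.mk' N), L.comap (QuotientGroup.mk' N), hK.comap _, hL.comap _,
    ?_, ?_, ?_⟩
  · exact (Subgroup.comap_lt_comap_of_surjective hsurj).mpr hKL
  · intro M hM hKM hML
    have hNM : N ≤ M := by
      have : N ≤ K.comap (QuotientGroup.mk' N) := by
        intro x hx
        rw [Subgroup.mem_comap]
        have : QuotientGroup.mk' N x = 1 := (QuotientGroup.eq_one_iff x).mpr hx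
        rw [this]; exact K.one_mem
      exact this.trans hKM
    have hMn : (M.map (QuotientGroup.mk' N)).Normal := Subgroup.Normal.map hM _ hsurj
    have h1 : K ≤ M.map (QuotientGroup.mk' N) := by
      have := Subgroup.map_mono (f := QuotientGroup.mk' N) hKM
      rwa [Subgroup.map_comap_eq_self_of_surjective hsurj] at this
    have h2 : M.map (QuotientGroup.mk' N) ≤ L := by
      have := Subgroup.map_mono (f := QuotientGroup.mk' N) hML
      rwa [Subgroup.map_comap_eq_self_of_surjective hsurj] at this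
    have hcm : (M.map (QuotientGroup.mk' N)).comap (QuotientGroup.mk' N) = M := by
      rw [Subgroup.comap_map_eq, QuotientGroup.ker_mk', sup_eq_left.mpr hNM]
    rcases hmax _ hMn h1 h2 with h | h
    · left; rw [← hcm, h]
    · right; rw [← hcm, h]
  · rw [Subgroup.relIndex_comap, Subgroup.map_comap_eq_self_of_surjective hsurj]
    exact hdvd

theorem card_mul_relIndex {G : Type u} [Group G] {H K : Subgroup G} (h : H ≤ K) :
    Nat.card H * H.relIndex K = Nat.card K := by
  have h2 := Subgroup.relIndex_mul_relIndex ⊥ H K bot_le h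
  rwa [Subgroup.relIndex_bot_left, Subgroup.relIndex_bot_left] at h2

theorem card_eq_index_normalizer {G : Type u} [Group G] [Finite G] (H : Subgroup G) (m : ℕ)
    (hH : Nat.card H = m)
    (hconj : ∀ K : Subgroup G, Nat.card K = m → ∃ g : G, MulAut.conj g • H = K) :
    Nat.card {K : Subgroup G // Nat.card K = m} = (normalizer (H : Set G)).index := by
  letI : MulAction G (Subgroup G) :=
    MulAction.compHom (Subgroup G) (MulAut.conj : G →* MulAut G)
  have hsmul : ∀ (g : G) (K : Subgroup G), g • K = MulAut.conj g • K := fun _ _ => rfl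
  have hstab : MulAction.stabilizer G H = normalizer (H : Set G) := by
    ext g
    rw [MulAction.mem_stabilizer_iff, hsmul, Subgroup.mem_normalizer_iff]
    constructor
    · intro h x
      constructor
      · intro hx
        have := helper3.conj_mem_conj_smul g x H hx
        rwa [h] at this
      · intro hx
        have h2 : g * x * g⁻¹ ∈ MulAut.conj g • H := by rw [h]; exact hx
        rw [helper3.mem_conj_smul_iff] at h2
        have e : g⁻¹ * (g * x * g⁻¹) * g = x := by group
        rwa [e] at h2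
    · intro h
      ext x
      rw [helper3.mem_conj_smul_iff, h (g⁻¹ * x * g)]
      have e : g * (g⁻¹ * x * g) * g⁻¹ = x := by group
      rw [e]
  have horb : MulAction.orbit G H = {K : Subgroup G | Nat.card K = m} := by
    ext K
    rw [MulAction.mem_orbit_iff, Set.mem_setOf_eq]
    constructor
    · rintro ⟨g, rfl⟩
      rw [hsmul, helper3.card_conj_smul, hH]
    · intro hK
      obtain ⟨g, hg⟩ := hconj K hK
      exact ⟨g, hg⟩
  rw [← hstab, MulAction.index_stabilizer, horb]
  exact Nat.card_coe_set_eq _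

theorem conj_by_N {G : Type u} [Group G] [Finite G] (N : Subgroup G) [N.Normal]
    (hNab : ∀ a ∈ N, ∀ b ∈ N, a * b = b * a) (H K : Subgroup G)
    (hcop : (Nat.card H).Coprime (Nat.card N)) (hK : K ≤ H ⊔ N)
    (hcard : Nat.card K = Nat.card H) :
    ∃ a ∈ N, MulAut.conj a • H = K := by
  obtain ⟨Y, hY⟩ : ∃ Y : Subgroup G, Y = H ⊔ N := ⟨_, rfl⟩
  have hNY : N ≤ Y := by rw [hY]; exact le_sup_right
  have hHY : H ≤ Y := by rw [hY]; exact le_sup_left
  have hKY : K ≤ Y := by rw [hY]; exact hK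
  haveI hAn : (N.subgroupOf Y).Normal := Subgroup.Normal.subgroupOf inferInstance Y
  haveI hAc : IsMulCommutative (N.subgroupOf Y) :=
    ⟨⟨fun x y => Subtype.ext (Subtype.ext
      (hNab _ (Subgroup.mem_subgroupOf.1 x.2) _ (Subgroup.mem_subgroupOf.1 y.2)))⟩⟩
  have hNH : N ⊓ H = ⊥ := (Subgroup.disjoint_of_coprime_natCard hcop.symm).eq_bot
  have hcY : Nat.card Y = Nat.card H * Nat.card N := by
    have := helper23.card_sup_mul_card_inf H N
    rw [hNH, Subgroup.card_bot, mul_one, ← hY] at this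
    exact this
  have hcA : Nat.card (N.subgroupOf Y) = Nat.card N :=
    Nat.card_congr (Subgroup.subgroupOfEquivOfLe hNY).toEquiv
  have hcH : Nat.card (H.subgroupOf Y) = Nat.card H :=
    Nat.card_congr (Subgroup.subgroupOfEquivOfLe hHY).toEquiv
  have hcK : Nat.card (K.subgroupOf Y) = Nat.card K :=
    Nat.card_congr (Subgroup.subgroupOfEquivOfLe hKY).toEquiv
  have hidx : (N.subgroupOf Y).index = Nat.card H := by
    have h1 := Subgroup.card_mul_index (N.subgroupOf Y)
    rw [hcA, hcY, mul_comm] at h1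
    exact Nat.eq_of_mul_eq_mul_right Nat.card_pos h1
  have hA : (Nat.card (N.subgroupOf Y)).Coprime (N.subgroupOf Y).index := by
    rw [hcA, hidx]; exact hcop.symm
  have hC₁ : Subgroup.IsComplement' (N.subgroupOf Y) (H.subgroupOf Y) := by
    apply Subgroup.isComplement'_of_card_mul_and_disjoint
    · rw [hcA, hcH, hcY, mul_comm]
    · apply Subgroup.disjoint_of_coprime_natCard; rw [hcA, hcH]; exact hcop.symm
  have hC₂ : Subgroup.IsComplement' (N.subgroupOf Y) (K.subgroupOf Y) := by
    apply Subgroup.isComplement'_of_card_mul_and_disjoint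
    · rw [hcA, hcK, hcard, hcY, mul_comm]
    · apply Subgroup.disjoint_of_coprime_natCard; rw [hcA, hcK, hcard]; exact hcop.symm
  obtain ⟨a, ha, hconj⟩ := helper23.sz_conj_abelian (N.subgroupOf Y) hA _ _ hC₁ hC₂
  refine ⟨(a : G), Subgroup.mem_subgroupOf.1 ha, ?_⟩
  symm
  apply Subgroup.eq_of_le_of_card_ge
  · intro k hk
    have h1 : (⟨k, hKY hk⟩ : Y) ∈ MulAut.conj a • H.subgroupOf Y := by
      rw [hconj]; exact Subgroup.mem_subgroupOf.2 hk
    rw [helper3.mem_conj_smul_iff] at h1 ⊢
    exact Subgroup.mem_subgroupOf.1 h1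
  · rw [helper3.card_conj_smul, hcard]

theorem frattini {G : Type u} [Group G] [Finite G] (N : Subgroup G) [N.Normal]
    (hNab : ∀ a ∈ N, ∀ b ∈ N, a * b = b * a) (H : Subgroup G)
    (hcop : (Nat.card H).Coprime (Nat.card N)) :
    (normalizer ((H.map (QuotientGroup.mk' N) : Subgroup (G ⧸ N)) : Set (G ⧸ N))).comap
      (QuotientGroup.mk' N) = normalizer (H : Set G) ⊔ N := by
  apply le_antisymm
  · intro g hg
    rw [Subgroup.mem_comap] at hg
    have hK : MulAut.conj g • H ≤ H ⊔ N := by
      intro k hk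
      rw [helper3.mem_conj_smul_iff] at hk
      apply helper23.mem_sup_of_map_mem N H
      have h1 : QuotientGroup.mk' N (g⁻¹ * k * g) ∈ H.map (QuotientGroup.mk' N) := ⟨_, hk, rfl⟩
      have h2 := (Subgroup.mem_normalizer_iff.mp hg _).mp h1
      have e : QuotientGroup.mk' N g * QuotientGroup.mk' N (g⁻¹ * k * g) *
          (QuotientGroup.mk' N g)⁻¹ = QuotientGroup.mk' N k := by
        rw [← map_inv, ← map_mul, ← map_mul]; congr 1; group
      rwa [e] at h2
    obtain ⟨a, ha, hconj⟩ := conj_by_N N hNab H (MulAut.conj g • H) hcop hK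
      (helper3.card_conj_smul g H)
    have h3 : a⁻¹ * g ∈ normalizer (H : Set G) := by
      rw [Subgroup.mem_normalizer_iff]
      intro x
      have key : (g * x * g⁻¹) ∈ MulAut.conj a • H ↔ (g * x * g⁻¹) ∈ MulAut.conj g • H := by
        rw [hconj]
      rw [helper3.mem_conj_smul_iff, helper3.mem_conj_smul_iff] at key
      have e1 : g⁻¹ * (g * x * g⁻¹) * g = x := by group
      have e2 : a⁻¹ * (g * x * g⁻¹) * a = a⁻¹ * g * x * (a⁻¹ * g)⁻¹ := by group
      rw [e1, e2] at key
      exact key.symm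
    have e : g = a * (a⁻¹ * g) := by group
    rw [e, sup_comm]
    exact Subgroup.mul_mem_sup ha h3
  · apply sup_le
    · exact Subgroup.map_le_iff_le_comap.mp (Subgroup.le_normalizer_map _)
    · intro x hx
      rw [Subgroup.mem_comap]
      have : QuotientGroup.mk' N x = 1 := (QuotientGroup.eq_one_iff x).mpr hx
      rw [this]; exact Subgroup.one_mem _

theorem inf_normalizer_eq {G : Type u} [Group G] (N H : Subgroup G) [N.Normal]
    (hNH : N ⊓ H = ⊥) : N ⊓ normalizer (H : Set G) = N ⊓ centralizer (H : Set G) := by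
  ext x
  simp only [Subgroup.mem_inf]
  constructor
  · rintro ⟨hxN, hxn⟩
    refine ⟨hxN, ?_⟩
    rw [Subgroup.mem_centralizer_iff]
    intro h hh
    have h1 : x * h * x⁻¹ ∈ H := (Subgroup.mem_normalizer_iff.mp hxn h).mp hh
    have h2 : x * h * x⁻¹ * h⁻¹ ∈ H := H.mul_mem h1 (H.inv_mem hh)
    have h3 : x * h * x⁻¹ * h⁻¹ ∈ N := by
      have h4 : h * x⁻¹ * h⁻¹ ∈ N := Subgroup.Normal.conj_mem inferInstance x⁻¹ (N.inv_mem hxN) h
      have e : x * h * x⁻¹ * h⁻¹ = x * (h * x⁻¹ * h⁻¹) := by group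
      rw [e]; exact N.mul_mem hxN h4
    have h4 : x * h * x⁻¹ * h⁻¹ ∈ N ⊓ H := ⟨h3, h2⟩
    rw [hNH, Subgroup.mem_bot] at h4
    have h5 : x * h * x⁻¹ = h := mul_inv_eq_one.mp h4
    have h6 : x * h = h * x := mul_inv_eq_iff_eq_mul.mp h5
    exact h6.symm
  · rintro ⟨hxN, hxc⟩
    exact ⟨hxN, Subgroup.centralizer_le_normalizer _ hxc⟩

theorem count_case2 {G : Type u} [Group G] [Finite G] [Group.IsSolvable G] (N : Subgroup G)
    [N.Normal] (hNab : ∀ a ∈ N, ∀ b ∈ N, a * b = b * a) (m n n' : ℕ)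
    (hG : Nat.card G = m * n) (hmn : m.Coprime n)
    (hQ : Nat.card (G ⧸ N) = m * n') (hmn' : m.Coprime n')
    (hcop : m.Coprime (Nat.card N))
    (H₀ : Subgroup G) (hH₀ : Nat.card H₀ = m) :
    Nat.card {H : Subgroup G // Nat.card H = m} =
      Nat.card {K : Subgroup (G ⧸ N) // Nat.card K = m} *
        (N ⊓ centralizer (H₀ : Set G)).relIndex N := by
  have hcop' : (Nat.card H₀).Coprime (Nat.card N) := by rw [hH₀]; exact hcop
  have hNH : N ⊓ H₀ = ⊥ := (Subgroup.disjoint_of_coprime_natCard hcop'.symm).eq_bot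
  have hconjG : ∀ K : Subgroup G, Nat.card K = m → ∃ g : G, MulAut.conj g • H₀ = K :=
    fun K hK => helper23.hall_conj m n hG hmn H₀ K hH₀ hK
  have hH₀bar : Nat.card (H₀.map (QuotientGroup.mk' N)) = m := by
    have := helper23.card_map_mk'_mul N H₀
    rw [hNH, Subgroup.card_bot, mul_one, hH₀] at this
    exact this
  have hconjQ : ∀ K : Subgroup (G ⧸ N), Nat.card K = m →
      ∃ g : G ⧸ N, MulAut.conj g • H₀.map (QuotientGroup.mk' N) = K :=
    fun K hK => helper23.hall_conj m n' hQ hmn' _ K hH₀bar hK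
  have c1 := card_eq_index_normalizer H₀ m hH₀ hconjG
  have c2 := card_eq_index_normalizer (H₀.map (QuotientGroup.mk' N)) m hH₀bar hconjQ
  have c2' : Nat.card {K : Subgroup (G ⧸ N) // Nat.card K = m} =
      (normalizer (H₀ : Set G) ⊔ N).index := by
    rw [c2, ← frattini N hNab H₀ hcop',
      Subgroup.index_comap_of_surjective _ (QuotientGroup.mk'_surjective N)]
  have c3 := helper23.card_sup_mul_card_inf (normalizer (H₀ : Set G)) N
  rw [inf_normalizer_eq N H₀ hNH] at c3
  have c4 := card_mul_relIndex (inf_le_left : N ⊓ centralizer (H₀ : Set G) ≤ N)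
  rw [c1, c2']
  have e1 : Nat.card (normalizer (H₀ : Set G)) * (normalizer (H₀ : Set G)).index =
      Nat.card (normalizer (H₀ : Set G) ⊔ N : Subgroup G) *
        (normalizer (H₀ : Set G) ⊔ N).index := by
    rw [Subgroup.card_mul_index, Subgroup.card_mul_index]
  have hApos : 0 < Nat.card (normalizer (H₀ : Set G)) := Nat.card_pos
  have hCpos : 0 < Nat.card (N ⊓ centralizer (H₀ : Set G) : Subgroup G) := Nat.card_pos
  apply Nat.eq_of_mul_eq_mul_left (Nat.mul_pos hApos hCpos)
  calc Nat.card (normalizer (H₀ : Set G)) * Nat.card (N ⊓ centralizer (H₀ : Set G) : Subgroup G) *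
        (normalizer (H₀ : Set G)).index
      = Nat.card (normalizer (H₀ : Set G)) * (normalizer (H₀ : Set G)).index *
        Nat.card (N ⊓ centralizer (H₀ : Set G) : Subgroup G) := by ring
    _ = Nat.card (normalizer (H₀ : Set G) ⊔ N : Subgroup G) *
        (normalizer (H₀ : Set G) ⊔ N).index *
        Nat.card (N ⊓ centralizer (H₀ : Set G) : Subgroup G) := by rw [e1]
    _ = Nat.card (normalizer (H₀ : Set G) ⊔ N : Subgroup G) *
        Nat.card (N ⊓ centralizer (H₀ : Set G) : Subgroup G) *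
        (normalizer (H₀ : Set G) ⊔ N).index := by ring
    _ = Nat.card (normalizer (H₀ : Set G)) * Nat.card N *
        (normalizer (H₀ : Set G) ⊔ N).index := by rw [c3]
    _ = Nat.card (normalizer (H₀ : Set G)) *
        (Nat.card (N ⊓ centralizer (H₀ : Set G) : Subgroup G) *
          (N ⊓ centralizer (H₀ : Set G)).relIndex N) *
        (normalizer (H₀ : Set G) ⊔ N).index := by rw [c4]
    _ = Nat.card (normalizer (H₀ : Set G)) *
        Nat.card (N ⊓ centralizer (H₀ : Set G) : Subgroup G) *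
        ((normalizer (H₀ : Set G) ⊔ N).index * (N ⊓ centralizer (H₀ : Set G)).relIndex N) := by
      ring

theorem centralizer_sup_eq {G : Type u} [Group G] (A B : Subgroup G) :
    centralizer ((A ⊔ B : Subgroup G) : Set G) =
      centralizer (A : Set G) ⊓ centralizer (B : Set G) := by
  apply le_antisymm
  · apply le_inf
    · apply Subgroup.centralizer_le
      exact_mod_cast (le_sup_left : A ≤ A ⊔ B)
    · apply Subgroup.centralizer_le
      exact_mod_cast (le_sup_right : B ≤ A ⊔ B)
  · intro x hx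
    rw [Subgroup.mem_inf] at hx
    have hA : A ≤ centralizer ({x} : Set G) := by
      intro y hy
      rw [Subgroup.mem_centralizer_iff]
      intro z hz
      rw [Set.mem_singleton_iff] at hz
      subst hz
      exact ((Subgroup.mem_centralizer_iff.mp hx.1) y hy).symm
    have hB : B ≤ centralizer ({x} : Set G) := by
      intro y hy
      rw [Subgroup.mem_centralizer_iff]
      intro z hz
      rw [Set.mem_singleton_iff] at hz
      subst hz
      exact ((Subgroup.mem_centralizer_iff.mp hx.2) y hy).symm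
    rw [Subgroup.mem_centralizer_iff]
    intro h hh
    have h1 := (sup_le hA hB) hh
    rw [Subgroup.mem_centralizer_iff] at h1
    exact (h1 x rfl).symm

theorem fixed_index_gp {G : Type u} [Group G] [Finite G] [Group.IsSolvable G] (N : Subgroup G)
    [N.Normal] (q : ℕ) (hq : q.Prime) (hN : IsPGroup q N) :
    ∀ (d : ℕ) (H : Subgroup G), Nat.card H = d → (Nat.card H).Coprime q →
      GP (fun y => (∃ e : ℕ, y = q ^ e) ∧ y ∣ Nat.card N ∧
        ∃ r : ℕ, r.Prime ∧ r ∣ Nat.card H ∧ y ≡ 1 [MOD r])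
        ((N ⊓ centralizer (H : Set G)).relIndex N) := by
  haveI : Fact q.Prime := ⟨hq⟩
  obtain ⟨a, ha⟩ := IsPGroup.iff_card.1 hN
  intro d
  induction d using Nat.strong_induction_on with
  | _ d ih =>
  intro H hd hcop
  by_cases hH : H = ⊥
  · subst hH
    have : N ⊓ centralizer (((⊥ : Subgroup G) : Subgroup G) : Set G) = N := by
      rw [inf_eq_left]
      intro x _
      rw [Subgroup.mem_centralizer_iff]
      intro h hh
      rw [SetLike.mem_coe, Subgroup.mem_bot] at hh
      subst hh; simp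
    rw [this, Subgroup.relIndex_self]
    exact gp_one _
  · haveI : Nontrivial H := (Subgroup.nontrivial_iff_ne_bot H).mpr hH
    obtain ⟨M, hMn, hMidx⟩ := helper17.MNN.exists_normal_prime_index
      (G := H) (Group.IsSolvable.commutator_lt_top_of_nontrivial H).ne
    haveI := hMn
    obtain ⟨r, hr⟩ : ∃ r, r = M.index := ⟨_, rfl⟩
    rw [← hr] at hMidx
    have hMi : M.index = r := hr.symm
    haveI : Fact r.Prime := ⟨hMidx⟩
    obtain ⟨R⟩ : Nonempty (Sylow r H) := inferInstance
    obtain ⟨H₁, hH₁⟩ : ∃ H₁ : Subgroup G, H₁ = M.map H.subtype := ⟨_, rfl⟩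
    obtain ⟨R', hR'⟩ : ∃ R' : Subgroup G, R' = (R : Subgroup H).map H.subtype := ⟨_, rfl⟩
    have hcard1 : Nat.card H₁ = Nat.card M := by
      rw [hH₁]; exact Subgroup.card_map_of_injective (Subgroup.subtype_injective H)
    have hMr : Nat.card M * r = Nat.card H := by rw [← hMi]; exact M.card_mul_index
    have hH₁H : H₁ ≤ H := by rw [hH₁]; exact Subgroup.map_subtype_le M
    have hR'H : R' ≤ H := by rw [hR']; exact Subgroup.map_subtype_le _
    have hR'p : IsPGroup r R' := by rw [hR']; exact R.2.map H.subtype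
    have hrH : r ∣ Nat.card H := Dvd.intro_left _ hMr
    have hdvd1 : Nat.card H₁ ∣ Nat.card H := Subgroup.card_dvd_of_le hH₁H
    have hlt1 : Nat.card H₁ < Nat.card H := by
      rw [hcard1, ← hMr]
      have : 0 < Nat.card M := Nat.card_pos
      have := hMidx.one_lt
      nlinarith
    have hsupM : M ⊔ (R : Subgroup H) = ⊤ := by
      by_contra hne
      have hJidx : (M ⊔ (R : Subgroup H)).index ∣ r := by
        have := Subgroup.index_dvd_of_le (le_sup_left : M ≤ M ⊔ (R : Subgroup H))
        rwa [hMi] at this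
      rcases (Nat.dvd_prime hMidx).mp hJidx with h | h
      · exact hne (Subgroup.index_eq_one.mp h)
      · have h2 : M.relIndex (M ⊔ (R : Subgroup H)) = 1 := by
          have h3 := Subgroup.relIndex_mul_index (le_sup_left : M ≤ M ⊔ (R : Subgroup H))
          rw [h, hMi] at h3
          exact Nat.eq_of_mul_eq_mul_right hMidx.pos (by rw [h3, one_mul])
        have h3 : M ⊔ (R : Subgroup H) ≤ M := Subgroup.relIndex_eq_one.mp h2
        have h4 : (R : Subgroup H) ≤ M := le_sup_right.trans h3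
        have h5 : r ∣ (R : Subgroup H).index := by
          have := Subgroup.index_dvd_of_le h4
          rwa [hMi] at this
        exact R.not_dvd_index h5
    have hsup : H₁ ⊔ R' = H := by
      rw [hH₁, hR', ← Subgroup.map_sup, hsupM, ← MonoidHom.range_eq_map, Subgroup.range_subtype]
    have hnorm : ∀ x ∈ H, ∀ y ∈ H₁, x * y * x⁻¹ ∈ H₁ := by
      intro x hx y hy
      rw [hH₁] at hy ⊢
      obtain ⟨m', hm', rfl⟩ := hy
      exact ⟨⟨x, hx⟩ * m' * ⟨x, hx⟩⁻¹, hMn.conj_mem m' hm' ⟨x, hx⟩, rfl⟩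
    obtain ⟨V, hV⟩ : ∃ V : Subgroup G, V = N ⊓ centralizer (H₁ : Set G) := ⟨_, rfl⟩
    have hRV : R' ≤ normalizer (V : Set G) := by
      have key : ∀ x ∈ R', ∀ v ∈ V, x * v * x⁻¹ ∈ V := by
        intro x hx v hv
        rw [hV, Subgroup.mem_inf] at hv ⊢
        refine ⟨Subgroup.Normal.conj_mem inferInstance v hv.1 x, ?_⟩
        rw [Subgroup.mem_centralizer_iff]
        intro h hh
        have hh' : x⁻¹ * h * x ∈ H₁ := by
          have := hnorm x⁻¹ (H.inv_mem (hR'H hx)) h hh
          rwa [inv_inv] at this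
        have e := (Subgroup.mem_centralizer_iff.mp hv.2) _ hh'
        calc h * (x * v * x⁻¹) = x * (x⁻¹ * h * x * v) * x⁻¹ := by group
          _ = x * (v * (x⁻¹ * h * x)) * x⁻¹ := by rw [e]
          _ = x * v * x⁻¹ * h := by group
      intro x hx
      rw [Subgroup.mem_normalizer_iff]
      intro v
      constructor
      · exact key x hx v
      · intro hv
        have := key x⁻¹ (R'.inv_mem hx) _ hv
        have e : x⁻¹ * (x * v * x⁻¹) * x⁻¹⁻¹ = v := by group
        rwa [e] at this
    have hmod := S4303.card_modEq_card_inf_centralizer R' V hR'p hRV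
    have hVC : V ⊓ centralizer (R' : Set G) = N ⊓ centralizer (H : Set G) := by
      rw [hV, inf_assoc, ← centralizer_sup_eq, hsup]
    rw [hVC] at hmod
    have hCV : N ⊓ centralizer (H : Set G) ≤ V := by
      rw [hV]
      apply inf_le_inf_left
      apply Subgroup.centralizer_le
      exact_mod_cast hH₁H
    have hVN : V ≤ N := by rw [hV]; exact inf_le_left
    have ht1 := card_mul_relIndex hCV
    have hmul := Subgroup.relIndex_mul_relIndex _ _ _ hCV hVN
    have htN : (N ⊓ centralizer (H : Set G)).relIndex V ∣ Nat.card N :=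
      (Subgroup.relIndex_dvd_card _ _).trans (Subgroup.card_dvd_of_le hVN)
    have hCN : Nat.card (N ⊓ centralizer (H : Set G) : Subgroup G) ∣ q ^ a := by
      rw [← ha]; exact Subgroup.card_dvd_of_le inf_le_left
    have hrq : r ≠ q := by
      intro h
      rw [h] at hrH
      have := Nat.Coprime.eq_one_of_dvd hcop.symm hrH
      exact hq.one_lt.ne' this
    have hcopC : Nat.Coprime r (Nat.card (N ⊓ centralizer (H : Set G) : Subgroup G)) := by
      apply Nat.Coprime.coprime_dvd_right hCN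
      exact Nat.Coprime.pow_right a ((Nat.coprime_primes hMidx hq).mpr hrq)
    have htmod : (N ⊓ centralizer (H : Set G)).relIndex V ≡ 1 [MOD r] := by
      apply Nat.ModEq.cancel_left_of_coprime hcopC
      rw [ht1, mul_one]
      exact hmod
    have hte : ∃ e : ℕ, (N ⊓ centralizer (H : Set G)).relIndex V = q ^ e := by
      rw [ha] at htN
      obtain ⟨e, _, he⟩ := (Nat.dvd_prime_pow hq).mp htN
      exact ⟨e, he⟩
    have IH := ih (Nat.card H₁) (by rw [← hd]; exact hlt1) H₁ rfl
      (Nat.Coprime.coprime_dvd_left hdvd1 hcop)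
    rw [← hV] at IH
    rw [← hmul]
    refine gp_mul (gp_single ⟨hte, htN, r, hMidx, hrH, htmod⟩) (gp_mono ?_ IH)
    rintro y ⟨h1, h2, r', hr', hr'd, hr'm⟩
    exact ⟨h1, h2, r', hr', hr'd.trans hdvd1, hr'm⟩

theorem main : ∀ (d : ℕ) (G : Type u) [Group G] [Finite G] [Group.IsSolvable G],
    Nat.card G = d → ∀ m n : ℕ, d = m * n → m.Coprime n →
    GP (Fac G m) (Nat.card {H : Subgroup G // Nat.card H = m}) := by
  intro d
  induction d using Nat.strong_induction_on with
  | _ d ih =>
  intro G _ _ _ hd m n hmn hcop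
  by_cases hG : Subsingleton G
  · haveI := hG
    have hd1 : d = 1 := by rw [← hd]; exact Nat.card_of_subsingleton (1 : G)
    have hm1 : m = 1 := Nat.dvd_one.1 ⟨n, by rw [← hmn, hd1]⟩
    have : Nat.card {H : Subgroup G // Nat.card H = m} = 1 := by
      rw [Nat.card_eq_one_iff_unique]
      refine ⟨⟨fun a b => Subtype.ext (Subsingleton.elim _ _)⟩,
        ⟨⟨⊥, by rw [Subgroup.card_bot, hm1]⟩⟩⟩
    rw [this]; exact gp_one _
  · haveI : Nontrivial G := not_subsingleton_iff_nontrivial.1 hG
    obtain ⟨q, hq, N₁, hN₁n, hN₁ne, hN₁p, hN₁ab⟩ := helper23.exists_abelian_normal_pgroup G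
    obtain ⟨N, hNN₁, hNmin⟩ := exists_minimal_le_of_wellFoundedLT
      (fun K : Subgroup G => K.Normal ∧ K ≠ ⊥) N₁ ⟨hN₁n, hN₁ne⟩
    obtain ⟨⟨hNn, hNne⟩, hNmin'⟩ := hNmin
    haveI := hNn
    have hNp : IsPGroup q N := hN₁p.to_le hNN₁
    have hNab : ∀ a ∈ N, ∀ b ∈ N, a * b = b * a :=
      fun a ha b hb => hN₁ab a (hNN₁ ha) b (hNN₁ hb)
    haveI : Fact q.Prime := ⟨hq⟩
    obtain ⟨a, ha⟩ := IsPGroup.iff_card.1 hNp
    have hchief : ∀ M : Subgroup G, M.Normal → ⊥ ≤ M → M ≤ N → M = ⊥ ∨ M = N := by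
      intro M hM _ hMN
      by_cases h : M = ⊥
      · left; exact h
      · right; exact le_antisymm hMN (hNmin' ⟨hM, h⟩ hMN)
    have hcardQ : Nat.card G = Nat.card (G ⧸ N) * Nat.card N :=
      Subgroup.card_eq_card_quotient_mul_card_subgroup N
    have hNpos : 0 < Nat.card N := Nat.card_pos
    have hN1 : 1 < Nat.card N := N.one_lt_card_iff_ne_bot.2 hNne
    have hlt : Nat.card (G ⧸ N) < d := by
      rw [← hd, hcardQ]
      have : 0 < Nat.card (G ⧸ N) := Nat.card_pos
      nlinarith
    obtain ⟨H₀, hH₀⟩ := helper23.hall_exists m n (hd.trans hmn) hcop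
    by_cases hqm : q ∣ m
    · -- every subgroup of order `m` contains `N`
      have hNle : ∀ H : Subgroup G, Nat.card H = m → N ≤ H := by
        intro H hH
        have h1 := helper23.card_sup_mul_card_inf H N
        have h2 := card_mul_relIndex (inf_le_left : N ⊓ H ≤ N)
        have h3 : Nat.card (H ⊔ N : Subgroup G) = m * (N ⊓ H).relIndex N := by
          have hpos : 0 < Nat.card (N ⊓ H : Subgroup G) := Nat.card_pos
          apply Nat.eq_of_mul_eq_mul_right hpos
          rw [h1, hH, ← h2]; ring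
        have h4 : m * (N ⊓ H).relIndex N ∣ m * n := by
          rw [← h3, ← hmn, ← hd]; exact Subgroup.card_subgroup_dvd_card _
        have hmpos : 0 < m := by rw [← hH]; exact Nat.card_pos
        have h5 : (N ⊓ H).relIndex N ∣ n := Nat.dvd_of_mul_dvd_mul_left hmpos h4
        have h6 : (N ⊓ H).relIndex N ∣ q ^ a := by
          rw [← ha]; exact Subgroup.relIndex_dvd_card _ _
        have h7 : Nat.Coprime (q ^ a) n :=
          Nat.Coprime.pow_left a (Nat.Coprime.coprime_dvd_left hqm hcop)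
        have h8 : (N ⊓ H).relIndex N = 1 := Nat.eq_one_of_dvd_coprimes h7 h6 h5
        exact (Subgroup.relIndex_eq_one.mp h8).trans inf_le_right
      have hNm : Nat.card N ∣ m := by
        rw [← hH₀]; exact Subgroup.card_dvd_of_le (hNle H₀ hH₀)
      obtain ⟨m', hm'⟩ := hNm
      have hQ : Nat.card (G ⧸ N) = m' * n := by
        apply Nat.eq_of_mul_eq_mul_right hNpos
        rw [← hcardQ, hd, hmn, hm']; ring
      have hcop' : m'.Coprime n :=
        Nat.Coprime.coprime_dvd_left ⟨Nat.card N, by rw [hm', mul_comm]⟩ hcop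
      let e : {H : Subgroup G // Nat.card H = m} ≃
          {K : Subgroup (G ⧸ N) // Nat.card K = m'} :=
        { toFun := fun H => ⟨H.1.map (QuotientGroup.mk' N), by
            have h1 := helper23.card_map_mk'_mul N H.1
            have hH2 : Nat.card H.1 = Nat.card N * m' := H.2.trans hm'
            rw [inf_eq_left.mpr (hNle H.1 H.2), hH2, mul_comm] at h1
            exact Nat.eq_of_mul_eq_mul_left hNpos h1⟩
          invFun := fun K => ⟨K.1.comap (QuotientGroup.mk' N), by
            rw [helper23.card_comap_mk', K.2]; exact hm'.symm⟩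
          left_inv := by
            intro H
            apply Subtype.ext
            show (H.1.map (QuotientGroup.mk' N)).comap (QuotientGroup.mk' N) = H.1
            rw [Subgroup.comap_map_eq, QuotientGroup.ker_mk', sup_eq_left.mpr (hNle H.1 H.2)]
          right_inv := by
            intro K
            apply Subtype.ext
            show (K.1.comap (QuotientGroup.mk' N)).map (QuotientGroup.mk' N) = K.1
            exact Subgroup.map_comap_eq_self_of_surjective (QuotientGroup.mk'_surjective N) _ }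
      rw [Nat.card_congr e]
      have IH := ih _ hlt (G ⧸ N) rfl m' n hQ hcop'
      exact gp_mono (fun y hy => fac_lift N ⟨Nat.card N, by rw [hm', mul_comm]⟩ hy) IH
    · have hcopN : m.Coprime (Nat.card N) := by
        rw [ha]
        exact Nat.Coprime.pow_right a ((Nat.Prime.coprime_iff_not_dvd hq).mpr hqm).symm
      have hNn' : Nat.card N ∣ n := by
        apply Nat.Coprime.dvd_of_dvd_mul_left hcopN.symm
        rw [← hmn, ← hd]; exact Subgroup.card_subgroup_dvd_card N
      obtain ⟨n', hn'⟩ := hNn'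
      have hQ : Nat.card (G ⧸ N) = m * n' := by
        apply Nat.eq_of_mul_eq_mul_right hNpos
        rw [← hcardQ, hd, hmn, hn']; ring
      have hcop' : m.Coprime n' :=
        Nat.Coprime.coprime_dvd_right ⟨Nat.card N, by rw [hn', mul_comm]⟩ hcop
      rw [count_case2 N hNab m n n' (hd.trans hmn) hcop hQ hcop' hcopN H₀ hH₀]
      have IH := ih _ hlt (G ⧸ N) rfl m n' hQ hcop'
      have h1 := gp_mono (fun y hy => fac_lift N (dvd_refl m) hy) IH
      have h2 := fixed_index_gp N q hq hNp _ H₀ rfl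
        (by rw [hH₀]; exact ((Nat.Prime.coprime_iff_not_dvd hq).mpr hqm).symm)
      refine gp_mul h1 (gp_mono ?_ h2)
      rintro y ⟨⟨e, he⟩, hyN, r, hr, hrd, hrm⟩
      refine ⟨⟨q, e, hq, he⟩, ⟨⊥, N, inferInstance, hNn, bot_lt_iff_ne_bot.mpr hNne, hchief, ?_⟩,
        ⟨r, hr, hH₀ ▸ hrd, hrm⟩⟩
      rw [Subgroup.relIndex_bot_left]; exact hyN

theorem result {G : Type*} [Group G] [Finite G] [Group.IsSolvable G] (m n : ℕ) (hG : Nat.card G = m * n) (hmn : Nat.Coprime m n) : ∃ (k : ℕ) (f : Fin k → ℕ), Nat.card {H : Subgroup G // Nat.card H = m} = ∏ i, f i ∧ ∀ i, (∃ q e : ℕ, q.Prime ∧ f i = q ^ e) ∧ (∃ K L : Subgroup G, K.Normal ∧ L.Normal ∧ K < L ∧ (∀ M : Subgroup G, M.Normal → K ≤ M → M ≤ L → M = K ∨ M = L) ∧ f i ∣ K.relIndex L) ∧ (∃ q : ℕ, q.Prime ∧ q ∣ m ∧ f i ≡ 1 [MOD q]) := by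
  obtain ⟨l, hl, hl'⟩ := main _ G rfl m n hG hmn
  refine ⟨l.length, fun i => l[i.1], ?_, ?_⟩
  · rw [← hl]
    exact (Fin.prod_univ_getElem l).symm
  · intro i
    exact hl' _ (List.getElem_mem _)

end Cfsg.Agent.S4214
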