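import Cfsg.Statements.S4216
import Mathlib
import Cfsg.Agent.S3203

set_option autoImplicit false
set_option linter.style.haveILetI false
set_option linter.unusedSectionVars false
open Cfsg
open scoped commutatorElement

namespace Cfsg.Agent.S4216

open MulAction

section fixedcount
variable {R X : Type*} [Group R] [Finite R] [MulAction R X] [Fintype X] [DecidableEq X]

theorem dvd_card_orbit_fixed {p : ℕ} [Fact p.Prime] (hR : IsPGroup p R) (z : R) (x : X)
    (hx : x ∉ fixedPoints R X) [DecidablePred fun a : X => a ∈ orbit R x ∧ z • a = a] :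
    p ∣ (Finset.univ.filter (fun a : X => a ∈ orbit R x ∧ z • a = a)).card := by
  have hZ : IsPGroup p ↥(Subgroup.zpowers z) := hR.to_subgroup _
  have h2 := hZ.card_modEq_card_fixedPoints ↥(orbit R x)
  obtain ⟨n, hn⟩ := hR.card_orbit x
  have hn0 : n ≠ 0 := by
    rintro rfl
    rw [pow_zero, Nat.card_eq_one_iff_unique] at hn
    obtain ⟨hsub, -⟩ := hn
    apply hx
    intro r
    have h1 : (⟨r • x, mem_orbit x r⟩ : ↥(orbit R x)) = ⟨x, mem_orbit_self x⟩ :=
      Subsingleton.elim _ _
    exact congrArg Subtype.val h1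
  have hdvd : p ∣ Nat.card ↥(orbit R x) := by
    rw [hn]; exact dvd_pow_self p hn0
  have hdvd2 : p ∣ Nat.card ↥(fixedPoints ↥(Subgroup.zpowers z) ↥(orbit R x)) :=
    (Nat.ModEq.dvd_iff h2 (dvd_refl p)).mp hdvd
  have hcard : Nat.card ↥(fixedPoints ↥(Subgroup.zpowers z) ↥(orbit R x)) =
      (Finset.univ.filter (fun a : X => a ∈ orbit R x ∧ z • a = a)).card := by
    rw [← Fintype.card_subtype, ← Nat.card_eq_fintype_card]
    apply Nat.card_congr
    refine
      { toFun := fun a => ⟨a.1.1, a.1.2, ?_⟩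
        invFun := fun a => ⟨⟨a.1, a.2.1⟩, ?_⟩
        left_inv := fun a => rfl
        right_inv := fun a => rfl }
    · have h3 := a.2 ⟨z, Subgroup.mem_zpowers z⟩
      exact congrArg Subtype.val h3
    · rintro ⟨z', hz'⟩
      apply Subtype.ext
      show z' • a.1 = a.1
      have h4 : z ∈ stabilizer R a.1 := a.2.2
      have h5 : z' ∈ stabilizer R a.1 := by
        obtain ⟨k, rfl⟩ := Subgroup.mem_zpowers_iff.mp hz'
        exact Subgroup.zpow_mem _ h4 k
      exact h5
  rw [← hcard]; exact hdvd2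

end fixedcount

section core
variable {G : Type*} [Group G] [Finite G] {p : ℕ} [hp : Fact p.Prime] (P : Sylow p G)
  {A : Type*} [CommGroup A] (ϕ : ↥(P : Subgroup G) →* A)

open Classical in
/-- extension of `ϕ` by `1` outside `P` -/
noncomputable def psi (g : G) : A := if h : g ∈ (P : Subgroup G) then ϕ ⟨g, h⟩ else 1

theorem psi_of_mem {g : G} (h : g ∈ (P : Subgroup G)) : psi P ϕ g = ϕ ⟨g, h⟩ := dif_pos h

theorem psi_one : psi P ϕ 1 = 1 := by
  rw [psi_of_mem P ϕ (one_mem _)]; exact map_one ϕ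

theorem psi_mul {a b : G} (ha : a ∈ (P : Subgroup G)) (hb : b ∈ (P : Subgroup G)) :
    psi P ϕ (a * b) = psi P ϕ a * psi P ϕ b := by
  rw [psi_of_mem P ϕ ha, psi_of_mem P ϕ hb, psi_of_mem P ϕ (mul_mem ha hb), ← map_mul]
  rfl

theorem psi_inv {a : G} (ha : a ∈ (P : Subgroup G)) : psi P ϕ a⁻¹ = (psi P ϕ a)⁻¹ := by
  rw [psi_of_mem P ϕ ha, psi_of_mem P ϕ (inv_mem ha), ← map_inv]
  rfl

theorem psi_pow {a : G} (ha : a ∈ (P : Subgroup G)) (n : ℕ) :
    psi P ϕ (a ^ n) = psi P ϕ a ^ n := by
  rw [psi_of_mem P ϕ ha, psi_of_mem P ϕ (pow_mem ha n), ← map_pow]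
  rfl

theorem psi_conj {g h : G} (hg : g ∈ (P : Subgroup G)) (hh : h ∈ (P : Subgroup G)) :
    psi P ϕ (h * g * h⁻¹) = psi P ϕ g := by
  rw [psi_mul P ϕ (mul_mem hh hg) (inv_mem hh), psi_mul P ϕ hh hg, psi_inv P ϕ hh]
  rw [mul_comm (psi P ϕ h), mul_assoc, mul_inv_cancel, mul_one]

theorem core
    (h2 : ∀ (k : G) (x : G), x ∈ (P : Subgroup G) →
      x ∈ (⁅(P : Subgroup G), (P : Subgroup G)⁆).map (MulAut.conj k).toMonoidHom → psi P ϕ x = 1)
    (h3 : ∀ x : G, x ∈ (P : Subgroup G) →
      x ∈ ⁅Subgroup.normalizer ((P : Subgroup G) : Set G),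
        Subgroup.normalizer ((P : Subgroup G) : Set G)⁆ → psi P ϕ x = 1) :
    ∀ (n : ℕ) (u : G), orderOf u = n → u ∈ (P : Subgroup G) → u ∈ commutator G →
      psi P ϕ u = 1 := by
  classical
  intro n
  induction n using Nat.strong_induction_on with
  | _ n ih =>
  intro u hun huP huG
  by_cases hu1 : u = 1
  · rw [hu1]; exact psi_one P ϕ
  have hn0 : n ≠ 0 := by rw [← hun]; exact (orderOf_pos u).ne'
  have hn1 : n ≠ 1 := by rw [← hun]; intro h; exact hu1 (orderOf_eq_one_iff.mp h)
  have hpp : p.Prime := hp.out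
  obtain ⟨e, he⟩ : ∃ e : ℕ, n = p ^ e := by
    obtain ⟨k, hk⟩ := (IsPGroup.iff_orderOf.mp P.isPGroup') ⟨u, huP⟩
    refine ⟨k, ?_⟩
    rw [← hun, ← hk]
    exact (Subgroup.orderOf_mk u huP).symm
  have hpn : p ∣ n := by
    rw [he]
    apply dvd_pow_self
    rintro rfl
    exact hn1 (by rw [he, pow_zero])
  have hIH : ∀ v : G, v ∈ (P : Subgroup G) → v ∈ commutator G → orderOf v < n → psi P ϕ v = 1 :=
    fun v hv hvG hlt => ih _ hlt v rfl hv hvG
  have hconjG : ∀ k v : G, v ∈ commutator G → k⁻¹ * v * k ∈ commutator G := by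
    intro k v hv
    have h1 := (inferInstance : (commutator G).Normal).conj_mem v hv k⁻¹
    rwa [inv_inv] at h1
  have hord : ∀ k v : G, orderOf (k⁻¹ * v * k) = orderOf v := by
    intro k v
    have e1 : k⁻¹ * v * k = MulAut.conj k⁻¹ v := by simp
    rw [e1]; exact MulEquiv.orderOf_eq _ v
  -- powers of u conjugated into P have trivial image when the exponent is a proper divisor
  have hpow : ∀ (k : G) (m : ℕ), m ∣ n → m ≠ 1 → k⁻¹ * u ^ m * k ∈ (P : Subgroup G) →
      psi P ϕ (k⁻¹ * u ^ m * k) = 1 := by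
    intro k m hmn hm1 hmem
    have hm0 : m ≠ 0 := by rintro rfl; exact hn0 (Nat.eq_zero_of_zero_dvd hmn)
    apply hIH _ hmem (hconjG k _ (pow_mem huG m))
    rw [hord, orderOf_pow_of_dvd hm0 (hun ▸ hmn), hun]
    apply Nat.div_lt_self (Nat.pos_of_ne_zero hn0)
    omega
  have hT : MonoidHom.transfer ϕ u = 1 := by
    have h1 := Abelianization.commutator_subset_ker (MonoidHom.transfer ϕ) huG
    exact h1
  haveI : Fintype (G ⧸ (P : Subgroup G)) := Fintype.ofFinite _
  haveI : Fintype (Quotient (MulAction.orbitRel (Subgroup.zpowers u) (G ⧸ (P : Subgroup G)))) :=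
    Fintype.ofFinite _
  have hfix_iff : ∀ g : G, u • (QuotientGroup.mk g : G ⧸ (P : Subgroup G)) = QuotientGroup.mk g ↔
      g⁻¹ * u * g ∈ (P : Subgroup G) := by
    intro g
    rw [MulAction.Quotient.smul_mk, smul_eq_mul, QuotientGroup.eq]
    have e1 : (u * g)⁻¹ * g = (g⁻¹ * u * g)⁻¹ := by group
    rw [e1, inv_mem_iff]
  have hfix_out : ∀ x : G ⧸ (P : Subgroup G), u • x = x ↔ x.out⁻¹ * u * x.out ∈ (P : Subgroup G) := by
    intro x
    have h1 := hfix_iff x.out
    rwa [QuotientGroup.out_eq'] at h1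
  -- the weight function
  obtain ⟨t, ht⟩ : ∃ t : G ⧸ (P : Subgroup G) → A,
      t = fun x => if u • x = x then psi P ϕ (x.out⁻¹ * u * x.out) else 1 := ⟨_, rfl⟩
  have ht_fix : ∀ x, u • x = x → t x = psi P ϕ (x.out⁻¹ * u * x.out) := by
    intro x hx; rw [ht]; exact if_pos hx
  have ht_nfix : ∀ x, ¬ u • x = x → t x = 1 := by
    intro x hx; rw [ht]; exact if_neg hx
  have hterm : ∀ (x : G ⧸ (P : Subgroup G))
      (hmem : x.out⁻¹ * u ^ Function.minimalPeriod (u • ·) x * x.out ∈ (P : Subgroup G)),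
      ϕ ⟨x.out⁻¹ * u ^ Function.minimalPeriod (u • ·) x * x.out, hmem⟩ = t x := by
    intro x hmem
    rw [← psi_of_mem P ϕ hmem]
    by_cases hfx : u • x = x
    · have h1 : Function.minimalPeriod (u • ·) x = 1 :=
        Function.minimalPeriod_eq_one_iff_isFixedPt.mpr hfx
      rw [ht_fix x hfx]
      congr 1
      rw [h1, pow_one]
    · rw [ht_nfix x hfx]
      have hper : Function.IsPeriodicPt (u • ·) n x := by
        show (u • ·)^[n] x = x
        rw [smul_iterate, ← hun, pow_orderOf_eq_one]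
        exact one_smul _ x
      have hdvd := hper.minimalPeriod_dvd
      have hne1 : Function.minimalPeriod (u • ·) x ≠ 1 := by
        intro h
        exact hfx (Function.minimalPeriod_eq_one_iff_isFixedPt.mp h)
      exact hpow x.out _ hdvd hne1 hmem
  -- Step A
  have hA : MonoidHom.transfer ϕ u = ∏ x : G ⧸ (P : Subgroup G), t x := by
    rw [MonoidHom.transfer_eq_prod_quotient_orbitRel_zpowers_quot]
    apply Finset.prod_bij_ne_one (fun q _ _ => q.out)
    · intro q _ _; exact Finset.mem_univ _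
    · intro q₁ _ _ q₂ _ _ h; exact Quotient.out_injective h
    · intro x _ hx
      have hxfix : u • x = x := by
        by_contra h; exact hx (ht_nfix x h)
      have hout : (Quotient.mk'' x :
          Quotient (MulAction.orbitRel (Subgroup.zpowers u) (G ⧸ (P : Subgroup G)))).out = x := by
        have h1 := Quotient.exact (Quotient.out_eq
          (Quotient.mk'' x : Quotient (MulAction.orbitRel (Subgroup.zpowers u) (G ⧸ (P : Subgroup G)))))
        have h2 : (Quotient.mk'' x :
            Quotient (MulAction.orbitRel (Subgroup.zpowers u) (G ⧸ (P : Subgroup G)))).out ∈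
            MulAction.orbit (Subgroup.zpowers u) x := MulAction.orbitRel_apply.mp h1
        obtain ⟨k, hk⟩ := h2
        have hst : Subgroup.zpowers u ≤ MulAction.stabilizer G x :=
          Subgroup.zpowers_le.mpr (MulAction.mem_stabilizer_iff.mpr hxfix)
        have h3 := MulAction.mem_stabilizer_iff.mp (hst k.2)
        rw [← hk]
        show (k : G) • x = x
        exact h3
      refine ⟨Quotient.mk'' x, Finset.mem_univ _, ?_, hout⟩
      rw [hterm, hout]; exact hx
    · intro q _ _
      exact hterm q.out _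
  -- Step B, part 1: P-fixed cosets
  have hPfix : ∀ x : G ⧸ (P : Subgroup G), x ∈ fixedPoints ↥(P : Subgroup G) (G ⧸ (P : Subgroup G)) →
      t x = psi P ϕ u := by
    intro x hx
    have hxu : u • x = x := hx ⟨u, huP⟩
    rw [ht_fix x hxu]
    -- x.out normalizes P
    have hnorm : x.out⁻¹ ∈ Subgroup.normalizer ((P : Subgroup G) : Set G) := by
      apply Cfsg.Agent.S3203.mem_normalizer_of_forall
      intro y hy
      have h1 : (⟨y, hy⟩ : ↥(P : Subgroup G)) • x = x := hx ⟨y, hy⟩
      have h2 : y • (QuotientGroup.mk x.out : G ⧸ (P : Subgroup G)) = QuotientGroup.mk x.out := by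
        rw [QuotientGroup.out_eq']; exact h1
      rw [MulAction.Quotient.smul_mk, smul_eq_mul, QuotientGroup.eq] at h2
      have e1 : x.out⁻¹ * y * x.out⁻¹⁻¹ = ((y * x.out)⁻¹ * x.out)⁻¹ := by group
      rw [e1]; exact inv_mem h2
    have hmem : x.out⁻¹ * u * x.out ∈ (P : Subgroup G) := (hfix_out x).mp hxu
    have e2 : x.out⁻¹ * u * x.out = u * ⁅u⁻¹, x.out⁻¹⁆ := by
      rw [commutatorElement_def]; group
    have hc : ⁅u⁻¹, x.out⁻¹⁆ ∈ (P : Subgroup G) := by
      have h1 : ⁅u⁻¹, x.out⁻¹⁆ = u⁻¹ * (x.out⁻¹ * u * x.out) := by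
        rw [commutatorElement_def]; group
      rw [h1]; exact mul_mem (inv_mem huP) hmem
    rw [e2, psi_mul P ϕ huP hc]
    rw [h3 _ hc (Subgroup.commutator_mem_commutator
      (Subgroup.le_normalizer (inv_mem huP)) hnorm), mul_one]
  -- Step B, part 2: value is constant on fixed cosets in a P-orbit
  have hconst : ∀ x x' : G ⧸ (P : Subgroup G), u • x = x → u • x' = x' →
      x' ∈ orbit ↥(P : Subgroup G) x → t x' = t x := by
    intro x x' hx hx' horb
    rw [ht_fix x hx, ht_fix x' hx']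
    obtain ⟨⟨y, hy⟩, hyx⟩ := horb
    have h1 : y • (QuotientGroup.mk x.out : G ⧸ (P : Subgroup G)) = QuotientGroup.mk x'.out := by
      rw [QuotientGroup.out_eq', QuotientGroup.out_eq']; exact hyx
    rw [MulAction.Quotient.smul_mk, smul_eq_mul, QuotientGroup.eq] at h1
    -- h := (y * x.out)⁻¹ * x'.out ∈ P
    obtain ⟨h, hh⟩ : ∃ h : G, h = (y * x.out)⁻¹ * x'.out := ⟨_, rfl⟩
    have hhP : h ∈ (P : Subgroup G) := by rw [hh]; exact h1
    have hk' : x'.out = y * x.out * h := by rw [hh]; group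
    have hv : x.out⁻¹ * u * x.out ∈ (P : Subgroup G) := (hfix_out x).mp hx
    have hv' : x'.out⁻¹ * u * x'.out ∈ (P : Subgroup G) := (hfix_out x').mp hx'
    obtain ⟨w, hw⟩ : ∃ w : G, w = x.out⁻¹ * (y⁻¹ * u * y) * x.out := ⟨_, rfl⟩
    have hw' : w = h * (x'.out⁻¹ * u * x'.out) * h⁻¹ := by rw [hw, hk']; group
    have hwP : w ∈ (P : Subgroup G) := by
      rw [hw']; exact mul_mem (mul_mem hhP hv') (inv_mem hhP)
    have e1 : psi P ϕ w = psi P ϕ (x'.out⁻¹ * u * x'.out) := by
      rw [hw']; exact psi_conj P ϕ hv' hhP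
    have hd : (x.out⁻¹ * u * x.out)⁻¹ * w ∈ (P : Subgroup G) := mul_mem (inv_mem hv) hwP
    have hd2 : (x.out⁻¹ * u * x.out)⁻¹ * w ∈
        (⁅(P : Subgroup G), (P : Subgroup G)⁆).map (MulAut.conj x.out⁻¹).toMonoidHom := by
      refine ⟨⁅u⁻¹, y⁻¹⁆, Subgroup.commutator_mem_commutator (inv_mem huP) (inv_mem hy), ?_⟩
      show MulAut.conj x.out⁻¹ ⁅u⁻¹, y⁻¹⁆ = _
      rw [MulAut.conj_apply, hw, commutatorElement_def]; group
    have e2 : w = (x.out⁻¹ * u * x.out) * ((x.out⁻¹ * u * x.out)⁻¹ * w) := by group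
    rw [← e1, e2, psi_mul P ϕ hv hd, h2 _ _ hd hd2, mul_one]
  -- p-th powers die
  have hppow : ∀ x : G ⧸ (P : Subgroup G), u • x = x → t x ^ p = 1 := by
    intro x hx
    rw [ht_fix x hx]
    have hv : x.out⁻¹ * u * x.out ∈ (P : Subgroup G) := (hfix_out x).mp hx
    rw [← psi_pow P ϕ hv]
    have e1 : (x.out⁻¹ * u * x.out) ^ p = x.out⁻¹ * u ^ p * x.out := by
      have h := @conj_pow _ _ p x.out⁻¹ u
      rw [inv_inv] at h
      exact h
    rw [e1]
    apply hpow x.out p hpn hpp.one_lt.ne'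
    rw [← e1]; exact pow_mem hv p
  -- Step B: the product over non-P-fixed cosets is trivial
  have hB2 : ∏ x ∈ Finset.univ.filter
      (fun x : G ⧸ (P : Subgroup G) => x ∉ fixedPoints ↥(P : Subgroup G) (G ⧸ (P : Subgroup G))),
      t x = 1 := by
    apply Finset.prod_cancels_of_partition_cancels (MulAction.orbitRel ↥(P : Subgroup G) (G ⧸ (P : Subgroup G)))
    intro x hx
    have hxnf : x ∉ fixedPoints ↥(P : Subgroup G) (G ⧸ (P : Subgroup G)) := (Finset.mem_filter.mp hx).2
    -- the set over which we multiply is the P-orbit of x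
    have hset : ∀ a : G ⧸ (P : Subgroup G),
        a ∈ (Finset.univ.filter (fun x : G ⧸ (P : Subgroup G) =>
          x ∉ fixedPoints ↥(P : Subgroup G) (G ⧸ (P : Subgroup G)))).filter
          (fun a => (MulAction.orbitRel ↥(P : Subgroup G) (G ⧸ (P : Subgroup G))) a x) ↔
        a ∈ orbit ↥(P : Subgroup G) x := by
      intro a
      rw [Finset.mem_filter, Finset.mem_filter]
      constructor
      · rintro ⟨-, h⟩; exact MulAction.orbitRel_apply.mp h
      · intro h
        refine ⟨⟨Finset.mem_univ _, ?_⟩, MulAction.orbitRel_apply.mpr h⟩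
        intro hafix
        apply hxnf
        obtain ⟨y, hy⟩ := h
        -- a = y • x fixed by P => x fixed
        intro z
        have h5 : x = y⁻¹ • a := by rw [← hy, inv_smul_smul]
        have h6 := hafix (y * z * y⁻¹)
        rw [h5, smul_smul]
        have e : z * y⁻¹ = y⁻¹ * (y * z * y⁻¹) := by group
        rw [e, ← smul_smul, h6]
    by_cases hex : ∃ a₀ ∈ orbit ↥(P : Subgroup G) x, u • a₀ = a₀
    · obtain ⟨a₀, ha₀, ha₀u⟩ := hex
      have hval : ∀ a ∈ (Finset.univ.filter (fun x : G ⧸ (P : Subgroup G) =>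
          x ∉ fixedPoints ↥(P : Subgroup G) (G ⧸ (P : Subgroup G)))).filter
          (fun a => (MulAction.orbitRel ↥(P : Subgroup G) (G ⧸ (P : Subgroup G))) a x),
          t a = if u • a = a then t a₀ else 1 := by
        intro a ha
        have haorb := (hset a).mp ha
        by_cases hau : u • a = a
        · rw [if_pos hau]
          apply hconst a₀ a ha₀u hau
          -- a ∈ orbit of a₀
          have h7 : orbit ↥(P : Subgroup G) a₀ = orbit ↥(P : Subgroup G) x :=
            MulAction.orbit_eq_iff.mpr ha₀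
          rw [h7]; exact haorb
        · rw [if_neg hau]; exact ht_nfix a hau
      rw [Finset.prod_congr rfl hval, Finset.prod_ite, Finset.prod_const_one, mul_one,
        Finset.prod_const]
      have hcard : p ∣ (((Finset.univ.filter (fun x : G ⧸ (P : Subgroup G) =>
          x ∉ fixedPoints ↥(P : Subgroup G) (G ⧸ (P : Subgroup G)))).filter
          (fun a => (MulAction.orbitRel ↥(P : Subgroup G) (G ⧸ (P : Subgroup G))) a x)).filter
          (fun a => u • a = a)).card := by
        have h8 := dvd_card_orbit_fixed (R := ↥(P : Subgroup G)) (X := G ⧸ (P : Subgroup G))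
          P.isPGroup' ⟨u, huP⟩ x hxnf
        convert h8 using 2
        ext a
        rw [Finset.mem_filter, hset a, Finset.mem_filter]
        constructor
        · rintro ⟨h9, h10⟩; exact ⟨Finset.mem_univ _, h9, h10⟩
        · rintro ⟨-, h9, h10⟩; exact ⟨h9, h10⟩
      obtain ⟨m, hm⟩ := hcard
      rw [hm, pow_mul, hppow a₀ ha₀u, one_pow]
    · push Not at hex
      apply Finset.prod_eq_one
      intro a ha
      exact ht_nfix a (hex a ((hset a).mp ha))
  -- Step B assembled
  have hB : ∏ x : G ⧸ (P : Subgroup G), t x = psi P ϕ u ^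
      (Finset.univ.filter (fun x : G ⧸ (P : Subgroup G) =>
        x ∈ fixedPoints ↥(P : Subgroup G) (G ⧸ (P : Subgroup G)))).card := by
    rw [← Finset.prod_filter_mul_prod_filter_not Finset.univ
      (fun x : G ⧸ (P : Subgroup G) => x ∈ fixedPoints ↥(P : Subgroup G) (G ⧸ (P : Subgroup G)))]
    rw [hB2, mul_one, Finset.prod_congr rfl (fun x hx => hPfix x (Finset.mem_filter.mp hx).2),
      Finset.prod_const]
  -- count of P-fixed cosets is prime to p
  have hcop : ¬ p ∣ (Finset.univ.filter (fun x : G ⧸ (P : Subgroup G) =>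
      x ∈ fixedPoints ↥(P : Subgroup G) (G ⧸ (P : Subgroup G)))).card := by
    have h1 := P.isPGroup'.card_modEq_card_fixedPoints (G ⧸ (P : Subgroup G))
    have h2 : Nat.card ↥(fixedPoints ↥(P : Subgroup G) (G ⧸ (P : Subgroup G))) =
        (Finset.univ.filter (fun x : G ⧸ (P : Subgroup G) =>
          x ∈ fixedPoints ↥(P : Subgroup G) (G ⧸ (P : Subgroup G)))).card := by
      rw [← Fintype.card_subtype, ← Nat.card_eq_fintype_card]
    rw [← h2]
    intro hdvd
    have h3 : p ∣ Nat.card (G ⧸ (P : Subgroup G)) := (Nat.ModEq.dvd_iff h1 (dvd_refl p)).mpr hdvd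
    rw [← Subgroup.index_eq_card] at h3
    exact P.not_dvd_index h3
  -- conclusion
  rw [hA, hB] at hT
  have h4 : psi P ϕ u ^ n = 1 := by
    rw [← psi_pow P ϕ huP, ← hun, pow_orderOf_eq_one]; exact psi_one P ϕ
  have h5 := orderOf_dvd_of_pow_eq_one hT
  have h6 := orderOf_dvd_of_pow_eq_one h4
  rw [he] at h6
  have h7 : Nat.Coprime (p ^ e) (Finset.univ.filter (fun x : G ⧸ (P : Subgroup G) =>
      x ∈ fixedPoints ↥(P : Subgroup G) (G ⧸ (P : Subgroup G)))).card :=
    Nat.Coprime.pow_left e ((Nat.Prime.coprime_iff_not_dvd hpp).mpr hcop)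
  have h8 : orderOf (psi P ϕ u) = 1 := Nat.eq_one_of_dvd_coprimes h7 h6 h5
  exact orderOf_eq_one_iff.mp h8

end core

/-- Grün's first Theorem: if `P` is a Sylow `p`-subgroup of the finite group `G`, then `P ∩ G'` is the subgroup generated by `P ∩ N_G(P)'` together with the subgroups `P ∩ z P' z⁻¹` for all `z ∈ G`, where `'` denotes the derived subgroup and `N_G(P)` the normalizer of `P`. -/
theorem result {G : Type*} [Group G] [Finite G] {p : ℕ} [Fact p.Prime] (P : Sylow p G) : (P : Subgroup G) ⊓ commutator G = ((P : Subgroup G) ⊓ ⁅Subgroup.normalizer ((P : Subgroup G) : Set G), Subgroup.normalizer ((P : Subgroup G) : Set G)⁆) ⊔ ⨆ z : G, (P : Subgroup G) ⊓ (⁅(P : Subgroup G), (P : Subgroup G)⁆).map (MulAut.conj z).toMonoidHom := by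
  apply le_antisymm
  · obtain ⟨Q, hQ⟩ : ∃ Q : Subgroup G, Q = ((P : Subgroup G) ⊓ ⁅Subgroup.normalizer ((P : Subgroup G) : Set G), Subgroup.normalizer ((P : Subgroup G) : Set G)⁆) ⊔ ⨆ z : G, (P : Subgroup G) ⊓ (⁅(P : Subgroup G), (P : Subgroup G)⁆).map (MulAut.conj z).toMonoidHom := ⟨_, rfl⟩
    rw [← hQ]
    have hQ3 : (P : Subgroup G) ⊓ ⁅Subgroup.normalizer ((P : Subgroup G) : Set G), Subgroup.normalizer ((P : Subgroup G) : Set G)⁆ ≤ Q := by
      rw [hQ]; exact le_sup_left
    have hQ2 : ∀ z : G, (P : Subgroup G) ⊓ (⁅(P : Subgroup G), (P : Subgroup G)⁆).map (MulAut.conj z).toMonoidHom ≤ Q := by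
      intro z
      rw [hQ]
      exact le_sup_of_le_right (le_iSup (fun z : G => (P : Subgroup G) ⊓ (⁅(P : Subgroup G), (P : Subgroup G)⁆).map (MulAut.conj z).toMonoidHom) z)
    have hPP : ⁅(P : Subgroup G), (P : Subgroup G)⁆ ≤ Q := by
      refine le_trans ?_ (hQ2 1)
      apply le_inf
      · rw [Subgroup.commutator_le]
        intro a ha b hb
        exact mul_mem (mul_mem (mul_mem ha hb) (inv_mem ha)) (inv_mem hb)
      · intro x hx
        exact ⟨x, hx, by simp⟩
    obtain ⟨Q', hQ'⟩ : ∃ Q' : Subgroup ↥(P : Subgroup G), Q' = Q.subgroupOf (P : Subgroup G) := ⟨_, rfl⟩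
    have hcomQ' : commutator ↥(P : Subgroup G) ≤ Q' := by
      intro x hx
      rw [hQ', Subgroup.mem_subgroupOf]
      apply hPP
      rw [← Subgroup.map_subtype_commutator]
      exact ⟨x, hx, rfl⟩
    haveI hQ'n : Q'.Normal := by
      refine ⟨fun h hh g => ?_⟩
      have e : g * h * g⁻¹ = ⁅g, h⁆ * h := by rw [commutatorElement_def]; group
      rw [e]
      apply mul_mem _ hh
      apply hcomQ'
      rw [commutator_def]
      exact Subgroup.commutator_mem_commutator (Subgroup.mem_top g) (Subgroup.mem_top h)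
    letI : CommGroup (↥(P : Subgroup G) ⧸ Q') :=
      { (inferInstance : Group (↥(P : Subgroup G) ⧸ Q')) with
        mul_comm := by
          intro a b
          induction a using QuotientGroup.induction_on with
          | H a =>
            induction b using QuotientGroup.induction_on with
            | H b =>
              rw [← QuotientGroup.mk_mul, ← QuotientGroup.mk_mul, QuotientGroup.eq]
              apply hcomQ'
              have e : (a * b)⁻¹ * (b * a) = ⁅b⁻¹, a⁻¹⁆ := by rw [commutatorElement_def]; group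
              rw [e, commutator_def]
              exact Subgroup.commutator_mem_commutator (Subgroup.mem_top _) (Subgroup.mem_top _) }
    let ϕ : ↥(P : Subgroup G) →* ↥(P : Subgroup G) ⧸ Q' := QuotientGroup.mk' Q'
    have hϕ : ∀ (x : G) (hx : x ∈ (P : Subgroup G)), x ∈ Q → psi P ϕ x = 1 := by
      intro x hx hxQ
      rw [psi_of_mem P ϕ hx]
      apply (QuotientGroup.eq_one_iff _).mpr
      rw [hQ', Subgroup.mem_subgroupOf]
      exact hxQ
    have hcore := core P ϕ
      (fun k x hx hx2 => hϕ x hx (hQ2 k (Subgroup.mem_inf.mpr ⟨hx, hx2⟩)))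
      (fun x hx hx3 => hϕ x hx (hQ3 (Subgroup.mem_inf.mpr ⟨hx, hx3⟩)))
    intro u hu
    have hu' := Subgroup.mem_inf.mp hu
    have h1 := hcore _ u rfl hu'.1 hu'.2
    rw [psi_of_mem P ϕ hu'.1] at h1
    have h2 : (⟨u, hu'.1⟩ : ↥(P : Subgroup G)) ∈ Q' := (QuotientGroup.eq_one_iff _).mp h1
    rw [hQ', Subgroup.mem_subgroupOf] at h2
    exact h2
  · apply sup_le
    · apply le_inf inf_le_left
      refine inf_le_right.trans ?_
      rw [commutator_def]
      exact Subgroup.commutator_mono le_top le_top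
    · apply iSup_le
      intro z
      apply le_inf inf_le_left
      refine inf_le_right.trans ?_
      rintro _ ⟨x, hx, rfl⟩
      have hx' : x ∈ commutator G := by
        rw [commutator_def]
        exact Subgroup.commutator_mono le_top le_top hx
      show MulAut.conj z x ∈ commutator G
      rw [MulAut.conj_apply]
      exact (inferInstance : (commutator G).Normal).conj_mem x hx' z

end Cfsg.Agent.S4216
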