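import Mathlib
import Cfsg.Statements.S4217
import Cfsg.Agent.Lib_lead_Gaschutz

set_option autoImplicit false

namespace Cfsg.Agent.S4217

universe u

section tors

variable {G : Type u} [Group G]

/-- the `n`-torsion of a commutative subgroup -/
def tors (A : Subgroup G) (hA : ∀ a ∈ A, ∀ b ∈ A, a * b = b * a) (n : ℕ) : Subgroup G where
  carrier := {a | a ∈ A ∧ a ^ n = 1}
  one_mem' := ⟨A.one_mem, one_pow n⟩
  mul_mem' := by
    rintro a b ⟨ha, ha'⟩ ⟨hb, hb'⟩
    refine ⟨A.mul_mem ha hb, ?_⟩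
    have hc : Commute a b := hA a ha b hb
    rw [hc.mul_pow, ha', hb', one_mul]
  inv_mem' := by
    rintro a ⟨ha, ha'⟩
    exact ⟨A.inv_mem ha, by rw [inv_pow, ha', inv_one]⟩

theorem mem_tors (A : Subgroup G) (hA : ∀ a ∈ A, ∀ b ∈ A, a * b = b * a) (n : ℕ) (x : G) :
    x ∈ tors A hA n ↔ x ∈ A ∧ x ^ n = 1 := Iff.rfl

theorem tors_le (A : Subgroup G) (hA : ∀ a ∈ A, ∀ b ∈ A, a * b = b * a) (n : ℕ) :
    tors A hA n ≤ A := fun _ hx => hx.1

theorem tors_normal (A : Subgroup G) [hAn : A.Normal] (hA : ∀ a ∈ A, ∀ b ∈ A, a * b = b * a)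
    (n : ℕ) : (tors A hA n).Normal := by
  constructor
  intro a ha g
  rw [mem_tors] at ha ⊢
  refine ⟨hAn.conj_mem a ha.1 g, ?_⟩
  rw [conj_pow, ha.2]
  group

theorem tors_inf (A : Subgroup G) (hA : ∀ a ∈ A, ∀ b ∈ A, a * b = b * a) {n m : ℕ}
    (h : Nat.Coprime n m) : tors A hA n ⊓ tors A hA m = ⊥ := by
  rw [eq_bot_iff]
  intro x hx
  obtain ⟨hx1, hx2⟩ := Subgroup.mem_inf.mp hx
  rw [mem_tors] at hx1 hx2
  have := pow_gcd_eq_one.mpr ⟨hx1.2, hx2.2⟩
  rw [Nat.Coprime] at h
  rw [h, pow_one] at this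
  exact Subgroup.mem_bot.mpr this

theorem tors_sup (A : Subgroup G) (hA : ∀ a ∈ A, ∀ b ∈ A, a * b = b * a) {n m : ℕ}
    (h : Nat.Coprime n m) (hpow : ∀ a ∈ A, a ^ (n * m) = 1) :
    tors A hA n ⊔ tors A hA m = A := by
  apply le_antisymm (sup_le (tors_le A hA n) (tors_le A hA m))
  intro a ha
  have h1 : a ^ m ∈ tors A hA n := by
    rw [mem_tors]
    refine ⟨A.pow_mem ha m, ?_⟩
    rw [← pow_mul, mul_comm]; exact hpow a ha
  have h2 : a ^ n ∈ tors A hA m := by
    rw [mem_tors]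
    refine ⟨A.pow_mem ha n, ?_⟩
    rw [← pow_mul]; exact hpow a ha
  have hb : ((Nat.gcd n m : ℕ) : ℤ) = (n : ℤ) * Nat.gcdA n m + (m : ℤ) * Nat.gcdB n m :=
    Nat.gcd_eq_gcd_ab n m
  rw [Nat.Coprime] at h
  rw [h] at hb
  have ha' : a = (a ^ n) ^ (Nat.gcdA n m) * (a ^ m) ^ (Nat.gcdB n m) := by
    rw [← zpow_natCast a n, ← zpow_natCast a m, ← zpow_mul, ← zpow_mul, ← zpow_add, ← hb]
    simp
  rw [ha']
  exact Subgroup.mul_mem _ (Subgroup.mem_sup_right (Subgroup.zpow_mem _ h2 _))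
    (Subgroup.mem_sup_left (Subgroup.zpow_mem _ h1 _))

theorem tors_isPGroup (A : Subgroup G) (hA : ∀ a ∈ A, ∀ b ∈ A, a * b = b * a) (p k : ℕ) :
    IsPGroup p ↥(tors A hA (p ^ k)) := by
  intro g
  refine ⟨k, ?_⟩
  apply Subtype.ext
  have := g.2
  rw [mem_tors] at this
  simpa using this.2

theorem relIndex_eq_index_of_prod (U H : Subgroup G)
    (hUH : ∀ g : G, ∃ h ∈ H, ∃ u ∈ U, g = h * u) : U.relIndex H = U.index := by
  unfold Subgroup.relIndex Subgroup.index
  refine Nat.card_congr (Equiv.ofBijective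
    (Quotient.map' (fun h : ↥H => (h : G)) ?_) ⟨?_, ?_⟩)
  · intro a b hab
    rw [QuotientGroup.leftRel_apply] at hab ⊢
    rw [Subgroup.mem_subgroupOf] at hab
    simpa using hab
  · intro x y
    induction x using Quotient.inductionOn' with | _ a => ?_
    induction y using Quotient.inductionOn' with | _ b => ?_
    intro hxy
    simp only [Quotient.map'_mk''] at hxy
    rw [Quotient.eq''] at hxy ⊢
    rw [QuotientGroup.leftRel_apply] at hxy ⊢
    rw [Subgroup.mem_subgroupOf]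
    simpa using hxy
  · intro x
    induction x using Quotient.inductionOn' with | _ g => ?_
    obtain ⟨h, hh, u, hu, rfl⟩ := hUH g
    refine ⟨Quotient.mk'' ⟨h, hh⟩, ?_⟩
    simp only [Quotient.map'_mk'']
    rw [Quotient.eq'', QuotientGroup.leftRel_apply]
    simpa using hu

end tors

theorem core (n : ℕ) : ∀ (G : Type u) [Group G] [Finite G] (A : Subgroup G) [A.Normal],
    (∀ a ∈ A, ∀ b ∈ A, a * b = b * a) → Nat.card A = n →
    (∀ p : ℕ, p.Prime → ∃ U K : Subgroup G, A ≤ U ∧ ¬ p ∣ U.index ∧ K ⊓ A = ⊥ ∧ K ⊔ A = U) →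
    ∃ K : Subgroup G, K ⊓ A = ⊥ ∧ K ⊔ A = ⊤ := by
  induction n using Nat.strong_induction_on with
  | _ n ih =>
    intro G _ _ A _ hA hn hyp
    by_cases hA1 : A = ⊥
    · exact ⟨⊤, by rw [hA1]; simp, by simp⟩
    have hn1 : n ≠ 1 := by
      intro h1
      apply hA1
      rw [← hn] at h1
      exact Subgroup.card_eq_one.mp h1
    obtain ⟨p, hp, hpn⟩ := Nat.exists_prime_and_dvd hn1
    have : Fact p.Prime := ⟨hp⟩
    have hn0 : n ≠ 0 := by rw [← hn]; exact Nat.card_pos.ne'
    obtain ⟨k, hk⟩ : ∃ k, k = n.factorization p := ⟨_, rfl⟩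
    obtain ⟨m, hm⟩ : ∃ m, m = n / p ^ k := ⟨_, rfl⟩
    have hkm : p ^ k * m = n := by rw [hm, hk]; exact Nat.ordProj_mul_ordCompl_eq_self n p
    have hk0 : k ≠ 0 := by rw [hk]; exact (hp.factorization_pos_of_dvd hn0 hpn).ne'
    have hcop : Nat.Coprime (p ^ k) m := by
      rw [hm, hk]; exact (Nat.coprime_ordCompl hp hn0).pow_left _
    have hpowA : ∀ a ∈ A, a ^ (p ^ k * m) = 1 := by
      intro a ha
      rw [hkm, ← hn]
      have h1 := pow_card_eq_one' (G := ↥A) (x := ⟨a, ha⟩)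
      have h2 : (((⟨a, ha⟩ : ↥A) ^ Nat.card ↥A : ↥A) : G) = ((1 : ↥A) : G) :=
        congrArg Subtype.val h1
      rw [Subgroup.coe_pow, Subgroup.coe_one] at h2
      exact h2
    obtain ⟨P, hPdef⟩ : ∃ P, P = tors A hA (p ^ k) := ⟨_, rfl⟩
    obtain ⟨B, hBdef⟩ : ∃ B, B = tors A hA m := ⟨_, rfl⟩
    have hPn : P.Normal := by rw [hPdef]; exact tors_normal A hA _
    have hBn : B.Normal := by rw [hBdef]; exact tors_normal A hA _
    have hPA : P ≤ A := by rw [hPdef]; exact tors_le A hA _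
    have hBA : B ≤ A := by rw [hBdef]; exact tors_le A hA _
    have hPB : P ⊓ B = ⊥ := by rw [hPdef, hBdef]; exact tors_inf A hA hcop
    have hPBA : P ⊔ B = A := by rw [hPdef, hBdef]; exact tors_sup A hA hcop hpowA
    have hPp : IsPGroup p ↥P := by rw [hPdef]; exact tors_isPGroup A hA p k
    have hPne : P ≠ ⊥ := by
      have hpA : p ∣ Nat.card ↥A := by rw [hn]; exact hpn
      obtain ⟨x, hx⟩ := exists_prime_orderOf_dvd_card' p hpA
      intro hPbot
      have hxP : (x : G) ∈ P := by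
        rw [hPdef, mem_tors]
        refine ⟨x.2, ?_⟩
        have h1 : x ^ p = 1 := by rw [← hx]; exact pow_orderOf_eq_one x
        have h2 : (x : G) ^ p = 1 := by
          have := congrArg (fun z : ↥A => (z : G)) h1
          simpa using this
        obtain ⟨j, hj⟩ := dvd_pow_self p hk0
        rw [hj, pow_mul, h2, one_pow]
      rw [hPbot, Subgroup.mem_bot] at hxP
      have hx1 : x = 1 := Subtype.ext hxP
      rw [hx1, orderOf_one] at hx
      exact hp.one_lt.ne hx
    obtain ⟨U, K, hAU, hpU, hKA, hKAU⟩ := hyp p hp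
    have hC1 : (K ⊔ B) ⊓ P = ⊥ := by
      rw [eq_bot_iff]
      intro x hx
      obtain ⟨hx1, hx2⟩ := Subgroup.mem_inf.mp hx
      rw [Subgroup.mem_sup_of_normal_right] at hx1
      obtain ⟨c, hc, b, hb, hcb⟩ := hx1
      have hcA : c ∈ A := by
        have : c = x * b⁻¹ := by rw [← hcb]; group
        rw [this]; exact A.mul_mem (hPA hx2) (A.inv_mem (hBA hb))
      have hc1 : c = 1 := by
        have : c ∈ K ⊓ A := ⟨hc, hcA⟩
        rw [hKA] at this; exact Subgroup.mem_bot.mp this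
      rw [hc1, one_mul] at hcb
      have : x ∈ P ⊓ B := ⟨hx2, hcb ▸ hb⟩
      rw [hPB] at this; exact this
    have hC2 : P ⊔ (K ⊔ B) = U := by
      rw [← hKAU, ← hPBA]
      exact sup_left_comm P K B
    have hcopPU : (Nat.card ↥P).Coprime U.index := by
      obtain ⟨j, hj⟩ := IsPGroup.iff_card.mp hPp
      rw [hj]
      exact Nat.Coprime.pow_left j ((Nat.Prime.coprime_iff_not_dvd hp).mpr hpU)
    obtain ⟨H, hH⟩ := Cfsg.Agent.lead.gaschutz_exists P U (K ⊔ B)
      (fun a ha b hb => hA a (hPA ha) b (hPA hb)) (hPA.trans hAU) hcopPU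
      (by rw [← hKAU]; exact sup_le_sup_left hBA K) hC1 hC2
    have hPH : P ⊓ H = ⊥ := hH.disjoint.eq_bot
    have hPHtop : P ⊔ H = ⊤ := hH.sup_eq_top
    have hdecomp : ∀ g : G, ∃ y ∈ P, ∃ h ∈ H, g = y * h := by
      intro g
      have : g ∈ P ⊔ H := by rw [hPHtop]; trivial
      rw [Subgroup.mem_sup_of_normal_left] at this
      obtain ⟨y, hy, h, hh, rfl⟩ := this
      exact ⟨y, hy, h, hh, rfl⟩
    have hlt : Nat.card ↥(A.subgroupOf H) < n := by
      rw [← hn]
      have h1 : Nat.card ↥(A.subgroupOf H) = Nat.card ↥(A ⊓ H) := by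
        rw [← Subgroup.inf_subgroupOf_right A H]
        exact Nat.card_congr (Subgroup.subgroupOfEquivOfLe inf_le_right).toEquiv
      rw [h1]
      by_contra hge
      push Not at hge
      have hAH' : A ⊓ H = A := Subgroup.eq_of_le_of_card_ge inf_le_left hge
      have hAH : A ≤ H := by rw [← hAH']; exact inf_le_right
      apply hPne
      rw [eq_bot_iff, ← hPH]
      exact le_inf le_rfl (hPA.trans hAH)
    have hA' : ∀ a ∈ A.subgroupOf H, ∀ b ∈ A.subgroupOf H, a * b = b * a := by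
      intro a ha b hb
      rw [Subgroup.mem_subgroupOf] at ha hb
      exact Subtype.ext (hA _ ha _ hb)
    have hyp' : ∀ q : ℕ, q.Prime → ∃ U' K' : Subgroup ↥H, A.subgroupOf H ≤ U' ∧ ¬ q ∣ U'.index ∧
        K' ⊓ A.subgroupOf H = ⊥ ∧ K' ⊔ A.subgroupOf H = U' := by
      intro q hq
      obtain ⟨Uq, Kq, hAUq, hqU, hKqA, hKqAU⟩ := hyp q hq
      refine ⟨Uq.subgroupOf H, (Kq ⊔ P).subgroupOf H, ?_, ?_, ?_, ?_⟩
      · exact Subgroup.comap_mono hAUq
      · have hidx : (Uq.subgroupOf H).index = Uq.index := by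
          change Uq.relIndex H = Uq.index
          apply relIndex_eq_index_of_prod
          intro g
          obtain ⟨y, hy, h, hh, rfl⟩ := hdecomp g
          refine ⟨h, hh, h⁻¹ * y * h, ?_, by group⟩
          apply hAUq; apply hPA
          have := hPn.conj_mem y hy h⁻¹
          simpa using this
        rw [hidx]; exact hqU
      · rw [eq_bot_iff]
        intro x hx
        obtain ⟨hx1, hx2⟩ := Subgroup.mem_inf.mp hx
        rw [Subgroup.mem_subgroupOf] at hx1 hx2
        rw [Subgroup.mem_sup_of_normal_right] at hx1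
        obtain ⟨c, hc, y, hy, hcy⟩ := hx1
        have hcA : c ∈ A := by
          have : c = (x : G) * y⁻¹ := by rw [← hcy]; group
          rw [this]; exact A.mul_mem hx2 (A.inv_mem (hPA hy))
        have hc1 : c = 1 := by
          have : c ∈ Kq ⊓ A := ⟨hc, hcA⟩
          rw [hKqA] at this; exact Subgroup.mem_bot.mp this
        rw [hc1, one_mul] at hcy
        have hxPH : (x : G) ∈ P ⊓ H := ⟨hcy ▸ hy, x.2⟩
        rw [hPH, Subgroup.mem_bot] at hxPH
        rw [Subgroup.mem_bot]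
        exact Subtype.ext hxPH
      · apply le_antisymm
        · apply sup_le
          · apply Subgroup.comap_mono; rw [← hKqAU]; exact sup_le_sup_left hPA Kq
          · exact Subgroup.comap_mono hAUq
        · intro x hx
          rw [Subgroup.mem_subgroupOf] at hx
          rw [← hKqAU, Subgroup.mem_sup_of_normal_right] at hx
          obtain ⟨c, hc, a, ha, hca⟩ := hx
          obtain ⟨y, hy, h, hh, hcyh⟩ := hdecomp c
          have hh2 : h ∈ Kq ⊔ P := by
            have : h = y⁻¹ * c := by rw [hcyh]; group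
            rw [this]
            exact Subgroup.mul_mem _ (Subgroup.mem_sup_right (P.inv_mem hy))
              (Subgroup.mem_sup_left hc)
          have h3 : h⁻¹ * (x : G) ∈ A := by
            have : h⁻¹ * (x : G) = (h⁻¹ * y * h) * a := by rw [← hca, hcyh]; group
            rw [this]
            refine A.mul_mem (hPA ?_) ha
            have := hPn.conj_mem y hy h⁻¹
            simpa using this
          have hx' : x = (⟨h, hh⟩ : ↥H) * ((⟨h, hh⟩ : ↥H)⁻¹ * x) := by group
          rw [hx']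
          refine Subgroup.mul_mem _ (Subgroup.mem_sup_left ?_) (Subgroup.mem_sup_right ?_)
          · rw [Subgroup.mem_subgroupOf]; exact hh2
          · rw [Subgroup.mem_subgroupOf]; simpa using h3
    obtain ⟨K', hK'1, hK'2⟩ := ih _ hlt ↥H (A.subgroupOf H) hA' rfl hyp'
    refine ⟨K'.map H.subtype, ?_, ?_⟩
    · rw [eq_bot_iff]
      intro x hx
      obtain ⟨hx1, hx2⟩ := Subgroup.mem_inf.mp hx
      obtain ⟨k', hk', rfl⟩ := Subgroup.mem_map.mp hx1
      have hk'' : k' ∈ K' ⊓ A.subgroupOf H :=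
        Subgroup.mem_inf.mpr ⟨hk', Subgroup.mem_subgroupOf.mpr hx2⟩
      rw [hK'1, Subgroup.mem_bot] at hk''
      rw [hk'']; simp
    · rw [eq_top_iff]
      intro g _
      obtain ⟨y, hy, h, hh, rfl⟩ := hdecomp g
      have hh' : (⟨h, hh⟩ : ↥H) ∈ K' ⊔ A.subgroupOf H := by rw [hK'2]; trivial
      rw [Subgroup.mem_sup_of_normal_right] at hh'
      obtain ⟨k', hk', a', ha', hka⟩ := hh'
      have hh2 : h = (k' : G) * (a' : G) := by
        have := congrArg (fun z : ↥H => (z : G)) hka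
        simpa using this.symm
      rw [hh2]
      refine Subgroup.mul_mem _ (Subgroup.mem_sup_right (hPA hy))
        (Subgroup.mul_mem _ (Subgroup.mem_sup_left ?_) (Subgroup.mem_sup_right ?_))
      · exact Subgroup.mem_map.mpr ⟨k', hk', rfl⟩
      · exact Subgroup.mem_subgroupOf.mp ha'

/-- Let `A` be an abelian normal subgroup of the finite group `G`. Then `A` has a complement in `G` if and only if, for every prime `p` dividing the index of `A`, there are a Sylow `p`-subgroup `S` of `G/A` and a subgroup `K` of `G` with `K ∩ A = 1` and `KA` equal to the preimage of `S` (that is, `A` has a complement in the preimage of a Sylow `p`-subgroup of `G/A`). -/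
theorem result {G : Type*} [Group G] [Finite G] (A : Subgroup G) [A.Normal] (hA : IsMulCommutative A) : (∃ K : Subgroup G, K.IsComplement' A) ↔ ∀ p : ℕ, p.Prime → p ∣ A.index → ∃ (S : Sylow p (G ⧸ A)) (K : Subgroup G), K ⊓ A = ⊥ ∧ K ⊔ A = (S : Subgroup (G ⧸ A)).comap (QuotientGroup.mk' A) := by
  have hAc : ∀ a ∈ A, ∀ b ∈ A, a * b = b * a := by
    intro a ha b hb
    have := hA.is_comm.comm (⟨a, ha⟩ : ↥A) ⟨b, hb⟩
    exact congrArg Subtype.val this
  have hAM : ∀ M : Subgroup (G ⧸ A), A ≤ M.comap (QuotientGroup.mk' A) := by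
    intro M a ha
    rw [Subgroup.mem_comap]
    have : QuotientGroup.mk' A a = 1 := by
      rw [QuotientGroup.mk'_apply, QuotientGroup.eq_one_iff]; exact ha
    rw [this]; exact Subgroup.one_mem _
  constructor
  · rintro ⟨K, hK⟩ p hp _
    haveI : Fact p.Prime := ⟨hp⟩
    obtain ⟨S⟩ : Nonempty (Sylow p (G ⧸ A)) := inferInstance
    refine ⟨S, K ⊓ (S : Subgroup (G ⧸ A)).comap (QuotientGroup.mk' A), ?_, ?_⟩
    · rw [eq_bot_iff, ← hK.disjoint.eq_bot]
      exact inf_le_inf_right A inf_le_left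
    · apply le_antisymm (sup_le inf_le_right (hAM _))
      intro x hx
      have hxx : x ∈ K ⊔ A := by rw [hK.sup_eq_top]; trivial
      rw [Subgroup.mem_sup_of_normal_right] at hxx
      obtain ⟨c, hc, a, ha, rfl⟩ := hxx
      refine Subgroup.mul_mem _ (Subgroup.mem_sup_left ⟨hc, ?_⟩) (Subgroup.mem_sup_right ha)
      have hca : c = (c * a) * a⁻¹ := by group
      rw [hca]
      exact Subgroup.mul_mem _ hx (Subgroup.inv_mem _ (hAM _ ha))
  · intro hyp
    have hyp' : ∀ p : ℕ, p.Prime → ∃ U K : Subgroup G, A ≤ U ∧ ¬ p ∣ U.index ∧ K ⊓ A = ⊥ ∧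
        K ⊔ A = U := by
      intro p hp
      haveI : Fact p.Prime := ⟨hp⟩
      by_cases hpA : p ∣ A.index
      · obtain ⟨S, K, hK1, hK2⟩ := hyp p hp hpA
        refine ⟨_, K, hAM _, ?_, hK1, hK2⟩
        rw [Subgroup.index_comap_of_surjective _ (QuotientGroup.mk'_surjective A)]
        exact S.not_dvd_index
      · exact ⟨A, ⊥, le_rfl, hpA, by simp, by simp⟩
    obtain ⟨K, hK1, hK2⟩ := core _ G A hAc rfl hyp'
    refine ⟨K, Subgroup.isComplement'_of_disjoint_and_mul_eq_univ (disjoint_iff.mpr hK1) ?_⟩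
    rw [← Subgroup.mul_normal K A, hK2]; rfl

end Cfsg.Agent.S4217
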