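import Mathlib
import Cfsg.Statements.S4218
import Cfsg.Agent.Lib_helper7_HH123

set_option autoImplicit false
open Cfsg
open scoped commutatorElement

namespace Cfsg.Agent.S4218

theorem aux {G : Type*} [Group G] [Finite G] {p : ℕ} [Fact p.Prime] (N : Subgroup G) [N.Normal]
    (T : Subgroup G) (hYsolv : Cfsg.IsPSolvable p (G ⧸ N)) (hYO : Cfsg.pPrimeCore p (G ⧸ N) = ⊥)
    (hTV0 : T = (Cfsg.pCore p (G ⧸ N)).comap (QuotientGroup.mk' N)) (g : G) :
    (∀ x ∈ T, g * x * g⁻¹ * x⁻¹ ∈ ((frattini (↥T ⧸ N.subgroupOf T)).comap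
      (QuotientGroup.mk' (N.subgroupOf T))).map T.subtype) ↔ g ∈ T := by
  have hp : p.Prime := Fact.out
  obtain ⟨V, hV⟩ : ∃ V : Subgroup (G ⧸ N), V = Cfsg.pCore p (G ⧸ N) := ⟨_, rfl⟩
  have hTV : T = V.comap (QuotientGroup.mk' N) := by rw [hTV0, hV]
  have hVp : IsPGroup p ↥V := by rw [hV]; exact Cfsg.Agent.helper1.pCore_isPGroup p
  -- the map `T → V`
  have hmemT : ∀ x : G, x ∈ T ↔ QuotientGroup.mk' N x ∈ V := fun x => by
    rw [hTV]; exact Subgroup.mem_comap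
  let φ : ↥T →* ↥V :=
    ((QuotientGroup.mk' N).comp T.subtype).codRestrict V (fun t => (hmemT _).1 t.2)
  have hφ : ∀ t : ↥T, ((φ t : ↥V) : G ⧸ N) = QuotientGroup.mk' N (t : G) := fun t => rfl
  have hφsurj : Function.Surjective φ := by
    rintro ⟨v, hv⟩
    obtain ⟨x, rfl⟩ := QuotientGroup.mk'_surjective N v
    have hx : x ∈ T := (hmemT x).2 hv
    exact ⟨⟨x, hx⟩, Subtype.ext rfl⟩
  have hker : N.subgroupOf T ≤ φ.ker := by
    intro t ht
    rw [Subgroup.mem_subgroupOf] at ht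
    rw [MonoidHom.mem_ker]
    apply Subtype.ext
    rw [hφ, Subgroup.coe_one]
    exact (QuotientGroup.eq_one_iff _).2 ht
  let ψ : ↥T ⧸ N.subgroupOf T →* ↥V := QuotientGroup.lift (N.subgroupOf T) φ hker
  have hψ : ∀ t : ↥T, ψ (QuotientGroup.mk' (N.subgroupOf T) t) = φ t := fun t => rfl
  have hψsurj : Function.Surjective ψ := by
    intro v
    obtain ⟨t, rfl⟩ := hφsurj v
    exact ⟨QuotientGroup.mk' (N.subgroupOf T) t, hψ t⟩
  have hψinj : Function.Injective ψ := by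
    rw [injective_iff_map_eq_one]
    intro y hy
    obtain ⟨t, rfl⟩ := QuotientGroup.mk'_surjective (N.subgroupOf T) y
    rw [hψ] at hy
    have h1 : QuotientGroup.mk' N (t : G) = 1 := by
      rw [← hφ, hy, Subgroup.coe_one]
    have h2 : (t : G) ∈ N := (QuotientGroup.eq_one_iff _).1 h1
    exact (QuotientGroup.eq_one_iff _).2 (Subgroup.mem_subgroupOf.2 h2)
  have hQp : IsPGroup p (↥T ⧸ N.subgroupOf T) := hVp.of_injective ψ hψinj
  constructor
  · intro hyp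
    rw [hmemT, hV]
    apply Cfsg.Agent.helper7.mem_pCore_of_trivial_on_frattini_quotient hYsolv hYO
    rw [← hV]
    intro v hv
    obtain ⟨x, rfl⟩ := QuotientGroup.mk'_surjective N v
    have hx : x ∈ T := (hmemT x).2 hv
    obtain ⟨t, ht, htx⟩ := hyp x hx
    have ht' : QuotientGroup.mk' (N.subgroupOf T) t ∈ frattini (↥T ⧸ N.subgroupOf T) := ht
    have h1 := frattini_le_comap_frattini_of_surjective hψsurj ht'
    rw [Subgroup.mem_comap, hψ] at h1
    refine ⟨φ t, h1, ?_⟩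
    rw [Subgroup.coe_subtype, hφ]
    have htx' : (t : G) = g * x * g⁻¹ * x⁻¹ := htx
    rw [htx']
    simp only [map_mul, map_inv]
  · intro hgT x hx
    have hc : g * x * g⁻¹ * x⁻¹ ∈ T :=
      T.mul_mem (T.mul_mem (T.mul_mem hgT hx) (T.inv_mem hgT)) (T.inv_mem hx)
    refine ⟨⟨g * x * g⁻¹ * x⁻¹, hc⟩, ?_, rfl⟩
    rw [SetLike.mem_coe, Subgroup.mem_comap]
    have e : (⟨g * x * g⁻¹ * x⁻¹, hc⟩ : ↥T) = ⁅(⟨g, hgT⟩ : ↥T), ⟨x, hx⟩⁆ := by
      rw [commutatorElement_def]; rfl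
    rw [e, map_commutatorElement]
    apply Cfsg.Agent.helper1.commutator_le_frattini_of_isPGroup hQp
    exact Subgroup.commutator_mem_commutator (Subgroup.mem_top _) (Subgroup.mem_top _)


/-- Let `G` be a finite `p`-solvable group, `N₀ = O_{p'}(G)`, `P₁ = O_{p',p}(G)`, and let `F ≤ P₁` be the preimage of the Frattini subgroup of `P₁/N₀`. Then an element `g` of `G` induces the identity on `P₁/F` by conjugation (that is, `g x g⁻¹ x⁻¹ ∈ F` for all `x ∈ P₁`) if and only if `g ∈ P₁`: the group `G/P₁` acts faithfully on `P₁/F`. -/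
theorem result {G : Type*} [Group G] [Finite G] {p : ℕ} [Fact p.Prime] (hG : Cfsg.IsPSolvable p G) (g : G) : (∀ x ∈ Cfsg.pPrimePCore p G, g * x * g⁻¹ * x⁻¹ ∈ ((frattini (↥(Cfsg.pPrimePCore p G) ⧸ (Cfsg.pPrimeCore p G).subgroupOf (Cfsg.pPrimePCore p G))).comap (QuotientGroup.mk' ((Cfsg.pPrimeCore p G).subgroupOf (Cfsg.pPrimePCore p G)))).map (Cfsg.pPrimePCore p G).subtype) ↔ g ∈ Cfsg.pPrimePCore p G := by
  have hp : p.Prime := Fact.out
  exact aux (Cfsg.pPrimeCore p G) (Cfsg.pPrimePCore p G)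
    (Cfsg.Agent.helper23.isPSolvable_of_surjective hp (QuotientGroup.mk' _)
      (QuotientGroup.mk'_surjective _) hG)
    (Cfsg.Agent.helper7.pPrimeCore_quotient_eq_bot hp) rfl g

end Cfsg.Agent.S4218
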