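import Mathlib
import Cfsg.Agent.Lib_helper5_Sylow
import Cfsg.Statements.S4219

set_option autoImplicit false
open Cfsg

namespace Cfsg.Agent.S4219

theorem core {G : Type*} [Group G] [Finite G] {β : Type*} [MulAction G β]
    [MulAction.IsPretransitive G β]
    (x : β) {p : ℕ} [Fact p.Prime] (P' : Subgroup G)
    (hP'card : Nat.card P' = p ^ (Nat.card (MulAction.stabilizer G x)).factorization p)
    (hP'p : IsPGroup p P')
    (a b : β) (ha : P' ≤ MulAction.stabilizer G a) (hb : P' ≤ MulAction.stabilizer G b) :
    ∃ g ∈ Subgroup.normalizer (P' : Set G), g • a = b := by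
  obtain ⟨h, hh⟩ := MulAction.exists_smul_eq G a b
  obtain ⟨gb, hgb⟩ := MulAction.exists_smul_eq G x b
  have hcardb : Nat.card (MulAction.stabilizer G b) = Nat.card (MulAction.stabilizer G x) :=
    (Nat.card_congr (MulAction.stabilizerEquivStabilizer hgb.symm).toEquiv).symm
  have hHp : IsPGroup p (P'.map (MulAut.conj h).toMonoidHom) := hP'p.map _
  have hHb : P'.map (MulAut.conj h).toMonoidHom ≤ MulAction.stabilizer G b := by
    rintro _ ⟨y, hy, rfl⟩
    rw [MulAction.mem_stabilizer_iff]
    simp only [MulEquiv.coe_toMonoidHom, MulAut.conj_apply]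
    rw [← hh, mul_smul, mul_smul, inv_smul_smul, (MulAction.mem_stabilizer_iff.mp (ha hy))]
  obtain ⟨z, hz, hzH⟩ := helper5.exists_conj_le_of_card p (MulAction.stabilizer G b) P' hb
    (by rw [hP'card, hcardb]) _ hHp hHb
  refine ⟨z⁻¹ * h, ?_, ?_⟩
  · have hmap : ∀ n ∈ P', (z⁻¹ * h) * n * (z⁻¹ * h)⁻¹ ∈ P' := by
      intro n hn
      have := hzH (h * n * h⁻¹) ⟨n, hn, by simp [MulAut.conj_apply]⟩
      convert this using 1
      group
    rw [Subgroup.mem_normalizer_iff]
    intro n
    constructor
    · exact hmap n
    · intro hn
      let f : P' → P' := fun n => ⟨_, hmap n.1 n.2⟩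
      have hf : Function.Injective f := by
        intro n1 n2 h12
        have := congrArg Subtype.val h12
        simp only [f] at this
        apply Subtype.ext
        exact mul_left_cancel (mul_right_cancel this)
      have hs : Function.Surjective f := Finite.surjective_of_injective hf
      obtain ⟨m, hm⟩ := hs ⟨_, hn⟩
      have := congrArg Subtype.val hm
      simp only [f] at this
      have : m.1 = n := mul_left_cancel (mul_right_cancel this)
      rw [← this]; exact m.2
  · rw [mul_smul, hh]
    have := MulAction.mem_stabilizer_iff.mp hz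
    rw [inv_smul_eq_iff, this]

/-- Let a finite group `G` act `t`-fold transitively on a finite set, let `H` be the stabilizer of `t` distinct points and `P` a Sylow `p`-subgroup of `H`. Then the normalizer of `P` in `G` is `t`-fold transitive on the fixed points of `P`: any `t` distinct fixed points of `P` can be carried to any other `t` distinct fixed points of `P` by an element normalizing `P`. -/
theorem result {G : Type*} [Group G] [Finite G] {α : Type*} [Fintype α] [MulAction G α] {t : ℕ} (hG : MulAction.IsMultiplyPretransitive G α t) (x : Fin t ↪ α) {p : ℕ} [Fact p.Prime] (P : Sylow p (MulAction.stabilizer G x)) (a b : Fin t ↪ α) (ha : ∀ i, a i ∈ MulAction.fixedPoints ((P : Subgroup (MulAction.stabilizer G x)).map (MulAction.stabilizer G x).subtype) α) (hb : ∀ i, b i ∈ MulAction.fixedPoints ((P : Subgroup (MulAction.stabilizer G x)).map (MulAction.stabilizer G x).subtype) α) : ∃ g ∈ Subgroup.normalizer ((((P : Subgroup (MulAction.stabilizer G x)).map (MulAction.stabilizer G x).subtype) : Subgroup G) : Set G), g • a = b := by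
  have hG' : MulAction.IsPretransitive G (Fin t ↪ α) := hG
  apply core x (p := p)
  · rw [← P.card_eq_multiplicity]
    exact Nat.card_congr (Subgroup.equivMapOfInjective _ _ (Subgroup.subtype_injective _)).symm.toEquiv
  · exact P.isPGroup'.map _
  · intro y hy
    rw [MulAction.mem_stabilizer_iff]
    ext i
    exact ha i ⟨y, hy⟩
  · intro y hy
    rw [MulAction.mem_stabilizer_iff]
    ext i
    exact hb i ⟨y, hy⟩

end Cfsg.Agent.S4219
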