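import Cfsg.Statements.S4223
import Mathlib

set_option autoImplicit false
set_option linter.style.haveILetI false
set_option linter.unusedSectionVars false
open Cfsg

namespace Cfsg.Agent.S4223

universe u v w

/-- nontrivial and directly indecomposable -/
def Indec (H : Type u) [Group H] : Prop :=
  Nontrivial H ∧ ∀ M K : Subgroup H, M.Normal → K.Normal → M ⊓ K = ⊥ → M ⊔ K = ⊤ →
    M = ⊥ ∨ K = ⊥

/-- normal endomorphism -/
def NEndo {H : Type u} [Group H] (θ : H →* H) : Prop :=
  ∀ g x, θ (g * x * g⁻¹) = g * θ x * g⁻¹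

section endo
variable {H : Type u} [Group H]

lemma NEndo.iterate {θ : H →* H} (hθ : NEndo θ) (n : ℕ) (g x : H) :
    θ^[n] (g * x * g⁻¹) = g * θ^[n] x * g⁻¹ := by
  induction n generalizing x with
  | zero => simp
  | succ n ih => rw [Function.iterate_succ_apply, hθ, ih, ← Function.iterate_succ_apply]

lemma exists_idem_iterate [Finite H] (θ : H → H) :
    ∃ n, 0 < n ∧ ∀ x, θ^[n] (θ^[n] x) = θ^[n] x := by
  obtain ⟨i, j, hij, he⟩ : ∃ i j : ℕ, i < j ∧ θ^[i] = θ^[j] := by
    obtain ⟨i, j, hne, he⟩ := Finite.exists_ne_map_eq_of_infinite (fun k : ℕ => θ^[k])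
    rcases Nat.lt_or_gt_of_ne hne with h | h
    · exact ⟨i, j, h, he⟩
    · exact ⟨j, i, h, he.symm⟩
  obtain ⟨p, rfl⟩ : ∃ p, j = i + p := ⟨j - i, by omega⟩
  have hp : 0 < p := by omega
  have h1 : ∀ k : ℕ, θ^[i + k * p] = θ^[i] := by
    intro k
    induction k with
    | zero => simp
    | succ k ih =>
      have : i + (k + 1) * p = k * p + (i + p) := by ring
      rw [this, Function.iterate_add, ← he, ← Function.iterate_add]
      have : k * p + i = i + k * p := by ring
      rw [this, ih]
  have h2 : ∀ m k : ℕ, i ≤ m → θ^[m + k * p] = θ^[m] := by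
    intro m k hm
    obtain ⟨d, rfl⟩ : ∃ d, m = d + i := ⟨m - i, by omega⟩
    rw [add_assoc, Function.iterate_add, h1, ← Function.iterate_add]
  refine ⟨(i + 1) * p, Nat.mul_pos (Nat.succ_pos _) hp, ?_⟩
  intro x
  have hge : i ≤ (i + 1) * p := by nlinarith
  have := h2 ((i + 1) * p) (i + 1) hge
  rw [Function.iterate_add] at this
  exact congrFun this x

/-- Fitting dichotomy -/
lemma fitting [Finite H] (hH : Indec H) {θ : H →* H} (hθ : NEndo θ) :
    Function.Bijective θ ∨ ∃ n, ∀ x, θ^[n] x = 1 := by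
  obtain ⟨n, hn, hidem⟩ := exists_idem_iterate (θ : H → H)
  let ε : H →* H :=
    { toFun := θ^[n]
      map_one' := iterate_map_one θ n
      map_mul' := iterate_map_mul θ n }
  have hε : ∀ x, ε x = θ^[n] x := fun _ => rfl
  have hRn : ε.range.Normal := by
    constructor
    rintro _ ⟨y, rfl⟩ g
    exact ⟨g * y * g⁻¹, by rw [hε, hε, hθ.iterate]⟩
  have hinf : ε.ker ⊓ ε.range = ⊥ := by
    rw [eq_bot_iff]
    rintro x ⟨hx1, ⟨y, rfl⟩⟩
    replace hx1 : ε (ε y) = 1 := MonoidHom.mem_ker.mp hx1
    rw [Subgroup.mem_bot]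
    rw [hε, hε, hidem] at hx1
    rw [hε, hx1]
  have hsup : ε.ker ⊔ ε.range = ⊤ := by
    rw [eq_top_iff]
    intro x _
    have h1 : x * (ε x)⁻¹ ∈ ε.ker := by
      rw [MonoidHom.mem_ker, map_mul, map_inv]
      rw [hε (ε x), hε x, hidem]
      simp
    have h2 : ε x ∈ ε.range := ⟨x, rfl⟩
    have := Subgroup.mul_mem_sup h1 h2
    simpa using this
  rcases hH.2 ε.ker ε.range inferInstance hRn hinf hsup with h | h
  · left
    have hinj : Function.Injective (θ^[n]) := by
      have := (MonoidHom.ker_eq_bot_iff ε).mp h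
      exact this
    have hinj' : Function.Injective θ := by
      obtain ⟨k, rfl⟩ : ∃ k, n = k + 1 := ⟨n - 1, by omega⟩
      rw [Function.iterate_succ] at hinj
      exact Function.Injective.of_comp hinj
    exact ⟨hinj', Finite.injective_iff_surjective.mp hinj'⟩
  · right
    refine ⟨n, fun x => ?_⟩
    have : ε x ∈ ε.range := ⟨x, rfl⟩
    rw [h, Subgroup.mem_bot] at this
    exact this

/-- two-term lemma -/
lemma two_term [Finite H] (hH : Indec H) {φ ψ α : H →* H} (hφ : NEndo φ)
    (hα : NEndo α) (hbij : Function.Bijective α) (hsum : ∀ x, φ x * ψ x = α x) :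
    Function.Bijective φ ∨ Function.Bijective ψ := by
  let β : H ≃* H := MulEquiv.ofBijective α hbij
  have hβ : ∀ x, β x = α x := fun _ => rfl
  have hβs : NEndo β.symm.toMonoidHom := by
    intro g x
    apply β.injective
    change β (β.symm _) = β (g * β.symm x * g⁻¹)
    rw [MulEquiv.apply_symm_apply, hβ, hα, ← hβ, MulEquiv.apply_symm_apply]
  let φ' : H →* H := β.symm.toMonoidHom.comp φ
  have hφ' : NEndo φ' := by
    intro g x
    change β.symm.toMonoidHom (φ _) = g * β.symm.toMonoidHom (φ x) * g⁻¹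
    rw [hφ, hβs]
  rcases fitting hH hφ' with h | ⟨n, hn⟩
  · left
    have : (φ : H → H) = β ∘ φ' := by
      funext x
      change φ x = β (β.symm (φ x))
      rw [MulEquiv.apply_symm_apply]
    rw [this]
    exact β.bijective.comp h
  · right
    have hinj : Function.Injective ψ := by
      rw [injective_iff_map_eq_one]
      intro x hx
      have h1 : φ x = α x := by rw [← hsum x, hx, mul_one]
      have h2 : φ' x = x := by
        change β.symm (φ x) = x
        rw [h1, ← hβ, MulEquiv.symm_apply_apply]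
      have h3 : φ'^[n] x = x := Function.iterate_fixed h2 n
      rw [← h3, hn]
    exact ⟨hinj, Finite.injective_iff_surjective.mp hinj⟩

end endo

section exchange

variable {H : Type u} {X : Type v} {κ : Type} [Fintype κ] [DecidableEq κ] {B : κ → Type w}
  [Group H] [Group X] [∀ j, Group (B j)]

/-- projection of a product onto the coordinates in `s` -/
def projS (B : κ → Type w) [∀ j, Group (B j)] (s : Finset κ) :
    ((j : κ) → B j) →* ((j : κ) → B j) where
  toFun f := fun j => if j ∈ s then f j else 1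
  map_one' := by funext j; simp
  map_mul' := by intro f g; funext j; by_cases h : j ∈ s <;> simp [h]

lemma projS_apply (s : Finset κ) (f : (j : κ) → B j) (j : κ) :
    projS B s f j = if j ∈ s then f j else 1 := rfl

lemma projS_conj (s : Finset κ) (u y : (j : κ) → B j) :
    projS B s (u * y * u⁻¹) = u * projS B s y * u⁻¹ := by
  funext j
  by_cases h : j ∈ s <;> simp [projS_apply, h]

lemma projS_univ (f : (j : κ) → B j) : projS B Finset.univ f = f := by
  funext j; simp [projS_apply]

lemma projS_empty (f : (j : κ) → B j) : projS B ∅ f = 1 := by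
  funext j; simp [projS_apply]

lemma projS_insert {s : Finset κ} {j : κ} (hj : j ∉ s) (f : (j : κ) → B j) :
    projS B (insert j s) f = projS B s f * projS B {j} f := by
  funext k
  by_cases hk : k = j
  · subst hk; simp [projS_apply, hj]
  · by_cases hks : k ∈ s <;> simp [projS_apply, hk, hks]

lemma projS_single (j : κ) (f : (j : κ) → B j) :
    projS B {j} f = Pi.mulSingle j (f j) := by
  funext k
  by_cases hk : k = j
  · subst hk; simp [projS_apply]
  · simp [projS_apply, hk]

/-- the endomorphism of `H` induced by the coordinates in `s` -/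
def Th (e : H × X ≃* ((j : κ) → B j)) (s : Finset κ) : H →* H :=
  (MonoidHom.fst H X).comp (e.symm.toMonoidHom.comp ((projS B s).comp
    (e.toMonoidHom.comp (MonoidHom.inl H X))))

lemma Th_apply (e : H × X ≃* ((j : κ) → B j)) (s : Finset κ) (h : H) :
    Th e s h = (e.symm (projS B s (e (h, 1)))).1 := rfl

lemma e_conj (e : H × X ≃* ((j : κ) → B j)) (g h : H) :
    e (g * h * g⁻¹, 1) = e (g, 1) * e (h, 1) * (e (g, 1))⁻¹ := by
  rw [← map_inv, ← map_mul, ← map_mul]
  congr 1
  ext <;> simp

lemma Th_nendo (e : H × X ≃* ((j : κ) → B j)) (s : Finset κ) : NEndo (Th e s) := by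
  intro g h
  rw [Th_apply, Th_apply, e_conj, projS_conj, map_mul, map_mul, map_inv,
    MulEquiv.symm_apply_apply]
  simp

lemma Th_univ (e : H × X ≃* ((j : κ) → B j)) (h : H) : Th e Finset.univ h = h := by
  rw [Th_apply, projS_univ, MulEquiv.symm_apply_apply]

lemma Th_empty (e : H × X ≃* ((j : κ) → B j)) (h : H) : Th e ∅ h = 1 := by
  rw [Th_apply, projS_empty, map_one]; rfl

lemma Th_insert (e : H × X ≃* ((j : κ) → B j)) {s : Finset κ} {j : κ} (hj : j ∉ s) (h : H) :
    Th e s h * Th e {j} h = Th e (insert j s) h := by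
  rw [Th_apply, Th_apply, Th_apply, projS_insert hj, map_mul]; rfl

lemma exists_bij [Finite H] (hH : Indec H) (e : H × X ≃* ((j : κ) → B j)) :
    ∃ j₀, Function.Bijective (Th e {j₀}) := by
  have key : ∀ s : Finset κ, Function.Bijective (Th e s) →
      ∃ j ∈ s, Function.Bijective (Th e {j}) := by
    intro s
    induction s using Finset.induction_on with
    | empty =>
      intro hb
      exfalso
      haveI := hH.1
      obtain ⟨a, ha⟩ := exists_ne (1 : H)
      apply ha
      apply hb.1
      rw [Th_empty, Th_empty]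
    | insert j s hj ih =>
      intro hb
      rcases two_term hH (Th_nendo e s) (Th_nendo e (insert j s)) hb
        (fun x => Th_insert e hj x) with h | h
      · obtain ⟨j', hj', hb'⟩ := ih h
        exact ⟨j', Finset.mem_insert_of_mem hj', hb'⟩
      · exact ⟨j, Finset.mem_insert_self j s, h⟩
  have hu : Function.Bijective (Th e Finset.univ) := by
    have : (Th e Finset.univ : H → H) = id := by
      funext h; exact Th_univ e h
    rw [this]; exact Function.bijective_id
  obtain ⟨j, _, hb⟩ := key Finset.univ hu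
  exact ⟨j, hb⟩

theorem exchange [Finite H] [Finite X] [∀ j, Finite (B j)] (hH : Indec H)
    (hB : ∀ j, Indec (B j)) (e : H × X ≃* ((j : κ) → B j)) :
    ∃ j₀ : κ, Nonempty (H ≃* B j₀) ∧
      Nonempty (X ≃* ((j : {j // j ≠ j₀}) → B j.1)) := by
  obtain ⟨j₀, hb⟩ := exists_bij hH e
  refine ⟨j₀, ?_⟩
  let f : H →* B j₀ :=
    (Pi.evalMonoidHom B j₀).comp (e.toMonoidHom.comp (MonoidHom.inl H X))
  let g : B j₀ →* H :=
    (MonoidHom.fst H X).comp (e.symm.toMonoidHom.comp (MonoidHom.mulSingle B j₀))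
  have hf : ∀ h, f h = e (h, 1) j₀ := fun _ => rfl
  have hg : ∀ k, g k = (e.symm (Pi.mulSingle j₀ k)).1 := fun _ => rfl
  have hgf : ∀ h, g (f h) = Th e {j₀} h := by
    intro h
    rw [hg, hf, Th_apply, projS_single]
  have hfinj : Function.Injective f := by
    intro a b hab
    apply hb.1
    rw [← hgf, ← hgf, hab]
  have hgsurj : Function.Surjective g := by
    intro h
    obtain ⟨a, ha⟩ := hb.2 h
    exact ⟨f a, by rw [hgf, ha]⟩
  -- range f is normal
  have hRn : f.range.Normal := by
    constructor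
    rintro _ ⟨h, rfl⟩ k
    let p : H × X := e.symm (Pi.mulSingle j₀ k)
    refine ⟨p.1 * h * p.1⁻¹, ?_⟩
    rw [hf, hf]
    have h1 : ((p.1 * h * p.1⁻¹, 1) : H × X) = p * (h, 1) * p⁻¹ := by
      ext <;> simp
    rw [h1, map_mul, map_mul, map_inv]
    have h2 : e p = Pi.mulSingle j₀ k := e.apply_symm_apply _
    rw [h2]
    simp
  have hinf : f.range ⊓ g.ker = ⊥ := by
    rw [eq_bot_iff]
    rintro _ ⟨⟨h, rfl⟩, hk⟩
    replace hk : g (f h) = 1 := MonoidHom.mem_ker.mp hk
    rw [hgf] at hk
    have : h = 1 := by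
      apply hb.1
      rw [hk, ← hgf, map_one, map_one]
    rw [Subgroup.mem_bot, this, map_one]
  have hsup : f.range ⊔ g.ker = ⊤ := by
    rw [eq_top_iff]
    intro k _
    obtain ⟨h, hh⟩ := hb.2 (g k)
    have h1 : f h ∈ f.range := ⟨h, rfl⟩
    have h2 : (f h)⁻¹ * k ∈ g.ker := by
      rw [MonoidHom.mem_ker, map_mul, map_inv, hgf, hh]
      simp
    have := Subgroup.mul_mem_sup h1 h2
    simpa using this
  have hker : g.ker = ⊥ := by
    rcases (hB j₀).2 f.range g.ker hRn inferInstance hinf hsup with h | h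
    · exfalso
      haveI := hH.1
      obtain ⟨a, ha⟩ := exists_ne (1 : H)
      apply ha
      apply hfinj
      have : f a ∈ f.range := ⟨a, rfl⟩
      rw [h, Subgroup.mem_bot] at this
      rw [this, map_one]
    · exact h
  have hginj : Function.Injective g := (MonoidHom.ker_eq_bot_iff g).mp hker
  let E : B j₀ ≃* H := MulEquiv.ofBijective g ⟨hginj, hgsurj⟩
  refine ⟨⟨E.symm⟩, ?_⟩
  -- the complement
  let r : X →* ((j : {j // j ≠ j₀}) → B j.1) :=
    { toFun := fun x j => e (1, x) j.1
      map_one' := by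
        funext j
        have : ((1, 1) : H × X) = 1 := rfl
        rw [this, map_one]; rfl
      map_mul' := by
        intro x y
        funext j
        have : ((1, x * y) : H × X) = (1, x) * (1, y) := by ext <;> simp
        rw [this, map_mul]; rfl }
  have hr : ∀ x (j : {j // j ≠ j₀}), r x j = e (1, x) j.1 := fun _ _ => rfl
  have hrinj : Function.Injective r := by
    rw [injective_iff_map_eq_one]
    intro x hx
    have h1 : e (1, x) = Pi.mulSingle j₀ (e (1, x) j₀) := by
      funext k
      by_cases hk : k = j₀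
      · subst hk; simp
      · rw [Pi.mulSingle_eq_of_ne hk]
        have := congrFun hx ⟨k, hk⟩
        rw [hr] at this
        exact this
    have h2 : g (e (1, x) j₀) = 1 := by
      rw [hg, ← h1, MulEquiv.symm_apply_apply]
    have h3 : e (1, x) j₀ = 1 := by
      apply hginj; rw [h2, map_one]
    rw [h3, Pi.mulSingle_one] at h1
    have h4 : ((1, x) : H × X) = 1 := by
      apply e.injective; rw [h1, map_one]
    exact (Prod.ext_iff.mp h4).2
  have hcard : Nat.card X = Nat.card ((j : {j // j ≠ j₀}) → B j.1) := by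
    have h1 : Nat.card (H × X) = Nat.card ((j : κ) → B j) := Nat.card_congr e.toEquiv
    have h2 : Nat.card ((j : κ) → B j) =
        Nat.card (B j₀ × ((j : {j // j ≠ j₀}) → B j.1)) :=
      Nat.card_congr (Equiv.piSplitAt j₀ B)
    have h3 : Nat.card (B j₀) = Nat.card H := Nat.card_congr E.toEquiv
    rw [h2, Nat.card_prod, Nat.card_prod, h3] at h1
    exact Nat.eq_of_mul_eq_mul_left Nat.card_pos h1
  have hrbij : Function.Bijective r :=
    (Nat.bijective_iff_injective_and_card r).mpr ⟨hrinj, hcard⟩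
  exact ⟨MulEquiv.ofBijective r hrbij⟩

end exchange

/-- splitting off a coordinate -/
def splitAt {ι : Type} [DecidableEq ι] (A : ι → Type u) [∀ i, Group (A i)] (i₀ : ι) :
    ((i : ι) → A i) ≃* A i₀ × ((i : {i // i ≠ i₀}) → A i.1) :=
  { Equiv.piSplitAt i₀ A with
    map_mul' := fun _ _ => rfl }

theorem main : ∀ (n : ℕ) (ι κ : Type) [Fintype ι] [Fintype κ] [DecidableEq ι] [DecidableEq κ]
    (A : ι → Type u) (B : κ → Type v) [∀ i, Group (A i)] [∀ j, Group (B j)]
    [∀ i, Finite (A i)] [∀ j, Finite (B j)],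
    Fintype.card ι = n → (∀ i, Indec (A i)) → (∀ j, Indec (B j)) →
    (((i : ι) → A i) ≃* ((j : κ) → B j)) →
    ∃ σ : ι ≃ κ, ∀ i, Nonempty (A i ≃* B (σ i)) := by
  intro n
  induction n with
  | zero =>
    intro ι κ _ _ _ _ A B _ _ _ _ hcard hA hB e
    haveI : IsEmpty ι := Fintype.card_eq_zero_iff.mp hcard
    haveI : IsEmpty κ := by
      by_contra hne
      rw [not_isEmpty_iff] at hne
      obtain ⟨j⟩ := hne
      haveI := (hB j).1
      obtain ⟨a, ha⟩ := exists_ne (1 : B j)
      apply ha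
      have h1 : e.symm (Pi.mulSingle j a) = e.symm 1 := Subsingleton.elim _ _
      have h2 := e.symm.injective h1
      have := congrFun h2 j
      simpa using this
    exact ⟨Equiv.equivOfIsEmpty ι κ, fun i => isEmptyElim i⟩
  | succ n ih =>
    intro ι κ _ _ _ _ A B _ _ _ _ hcard hA hB e
    haveI : Nonempty ι := by
      rw [← Fintype.card_pos_iff]; omega
    obtain ⟨i₀⟩ := ‹Nonempty ι›
    let e' : A i₀ × ((i : {i // i ≠ i₀}) → A i.1) ≃* ((j : κ) → B j) :=
      (splitAt A i₀).symm.trans e
    obtain ⟨j₀, ⟨E₀⟩, ⟨E₁⟩⟩ := exchange (hA i₀) hB e'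
    have hcard' : Fintype.card {i // i ≠ i₀} = n := by
      rw [Fintype.card_subtype_compl, Fintype.card_subtype_eq, hcard]; rfl
    obtain ⟨σ', hσ'⟩ := ih {i // i ≠ i₀} {j // j ≠ j₀} (fun i => A i.1) (fun j => B j.1)
      hcard' (fun i => hA i.1) (fun j => hB j.1) E₁
    let σ : ι ≃ κ :=
      { toFun := fun i => if h : i = i₀ then j₀ else (σ' ⟨i, h⟩).1
        invFun := fun j => if h : j = j₀ then i₀ else (σ'.symm ⟨j, h⟩).1
        left_inv := by
          intro i
          by_cases h : i = i₀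
          · simp [h]
          · have h2 : (σ' ⟨i, h⟩).1 ≠ j₀ := (σ' ⟨i, h⟩).2
            simp [h, h2]
        right_inv := by
          intro j
          by_cases h : j = j₀
          · simp [h]
          · have h2 : (σ'.symm ⟨j, h⟩).1 ≠ i₀ := (σ'.symm ⟨j, h⟩).2
            simp [h, h2] }
    refine ⟨σ, fun i => ?_⟩
    by_cases h : i = i₀
    · subst h
      have : σ i = j₀ := by simp [σ]
      rw [this]
      exact ⟨E₀⟩
    · have : σ i = (σ' ⟨i, h⟩).1 := by simp [σ, h]
      rw [this]
      exact hσ' ⟨i, h⟩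

theorem result {m n : ℕ} {A : Fin m → Type*} {B : Fin n → Type*} [∀ i, Group (A i)] [∀ j, Group (B j)] [∀ i, Finite (A i)] [∀ j, Finite (B j)] (hA : ∀ i, Nontrivial (A i) ∧ ∀ H K : Subgroup (A i), H.Normal → K.Normal → H ⊓ K = ⊥ → H ⊔ K = ⊤ → H = ⊥ ∨ K = ⊥) (hB : ∀ j, Nontrivial (B j) ∧ ∀ H K : Subgroup (B j), H.Normal → K.Normal → H ⊓ K = ⊥ → H ⊔ K = ⊤ → H = ⊥ ∨ K = ⊥) (e : ((i : Fin m) → A i) ≃* ((j : Fin n) → B j)) : ∃ σ : Fin m ≃ Fin n, ∀ i, Nonempty (A i ≃* B (σ i)) :=
  main m (Fin m) (Fin n) A B (Fintype.card_fin m) hA hB e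

end Cfsg.Agent.S4223
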