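-- Statement S4227: exponent dividing 6 implies 2-length and 3-length at most one.
import Mathlib
import Cfsg.Statements.S4227
import Cfsg.Agent.S0144
import Cfsg.Agent.S0635
import Cfsg.Agent.Lib_helper7_HH123
import Cfsg.Agent.Lib_helper23_PSolv3
import Cfsg.Agent.Lib_helper14_PIrr3
import Cfsg.Agent.Lib_lead_PLength
import Cfsg.Agent.Lib_helper1_PGroup
import Cfsg.Agent.Lib_helper1_Core
import Cfsg.Agent.Lib_helper21_Exp6

set_option autoImplicit false
set_option linter.style.haveILetI false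
open Cfsg

namespace Cfsg.Agent.S4227

universe u

open scoped commutatorElement

section

variable {Y : Type u} [Group Y]

lemma eq_one_of_pow_two_of_pow_three {z : Y} (k : ℕ) (h2 : z ^ 2 = 1) (h3 : z ^ 3 ^ k = 1) :
    z = 1 := by
  have h : z ^ Nat.gcd 2 (3 ^ k) = 1 := pow_gcd_eq_one.mpr ⟨h2, h3⟩
  have hc : Nat.gcd 2 (3 ^ k) = 1 := Nat.Coprime.pow_right k (by norm_num)
  rw [hc, pow_one] at h
  exact h

lemma sq_eq_one_of_pow_six {q : Y} (k : ℕ) (h6 : q ^ 6 = 1) (h2 : q ^ 2 ^ k = 1) : q ^ 2 = 1 := by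
  have h3 : (q ^ 2) ^ 3 = 1 := by rw [← pow_mul]; exact h6
  have h4 : (q ^ 2) ^ 2 ^ k = 1 := by rw [← pow_mul, mul_comm, pow_mul, h2, one_pow]
  have h : (q ^ 2) ^ Nat.gcd 3 (2 ^ k) = 1 := pow_gcd_eq_one.mpr ⟨h3, h4⟩
  have hc : Nat.gcd 3 (2 ^ k) = 1 := Nat.Coprime.pow_right k (by norm_num)
  rw [hc, pow_one] at h
  exact h

lemma mem_pow {Q : Subgroup Y} {p : ℕ} (hQ : IsPGroup p Q) {q : Y} (hq : q ∈ Q) :
    ∃ k : ℕ, q ^ p ^ k = 1 := by
  obtain ⟨k, hk⟩ := hQ ⟨q, hq⟩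
  exact ⟨k, by simpa using congrArg Subtype.val hk⟩

theorem a4_lemma' {W : Type*} [Group W] (hcomm : ∀ a b : W, a * b = b * a)
    (hodd : ∀ w : W, w * w = 1 → w = 1) (X B C D : MulAut W)
    (hstar : ∀ w, w * X w * X (X w) = 1)
    (hB2 : B * B = 1) (hC2 : C * C = 1) (hBC : B * C = D) (hCB : C * B = D)
    (hCX : C * X = X * B) (hDX : D * X = X * C) (hBX : B * X = X * D) : B = 1 := by
  letI : CommGroup W := { (inferInstance : Group W) with mul_comm := hcomm }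
  exact helper21.a4_lemma hodd X B C D hstar hB2 hC2 hBC hCB hCX hDX hBX

end

section

variable {Y : Type u} [Group Y] [Finite Y]

theorem index_pCore_coprime (h6 : ∀ y : Y, y ^ 6 = 1) [hsolv : Group.IsSolvable Y]
    (hO : Cfsg.pPrimeCore 3 Y = ⊥) : ((Cfsg.pCore 3 Y).index).Coprime 3 := by
  haveI : Fact (Nat.Prime 3) := ⟨Nat.prime_three⟩
  haveI : Fact (Nat.Prime 2) := ⟨Nat.prime_two⟩
  obtain ⟨V, hV⟩ : ∃ V : Subgroup Y, V = Cfsg.pCore 3 Y := ⟨_, rfl⟩
  rw [← hV]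
  haveI hVn : V.Normal := by rw [hV]; exact helper1.pCore_normal 3
  have hVp : IsPGroup 3 V := by rw [hV]; exact helper1.pCore_isPGroup 3
  by_contra hcop
  have h3 : 3 ∣ Nat.card (Y ⧸ V) := by
    rw [← Subgroup.index_eq_card]
    by_contra h
    exact hcop ((Nat.Prime.coprime_iff_not_dvd Nat.prime_three).mpr h).symm
  -- exponent 6 in the quotient
  have h6' : ∀ y : Y ⧸ V, y ^ 6 = 1 := by
    intro y
    obtain ⟨y, rfl⟩ := QuotientGroup.mk'_surjective V y
    rw [← map_pow, h6, map_one]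
  -- O_3(Y/V) = 1
  have hO3 : Cfsg.pCore 3 (Y ⧸ V) = ⊥ := by
    have hc := helper14.pCore_comap_quot V hVp
    rw [eq_bot_iff]
    intro z hz
    obtain ⟨y, rfl⟩ := QuotientGroup.mk'_surjective V z
    have hy : y ∈ (Cfsg.pCore 3 (Y ⧸ V)).comap (QuotientGroup.mk' V) := hz
    rw [hc, ← hV] at hy
    rw [Subgroup.mem_bot]
    exact (QuotientGroup.eq_one_iff y).mpr hy
  -- O_{2'}(Y/V) = 1
  have hO2' : Cfsg.pPrimeCore 2 (Y ⧸ V) = ⊥ := by
    have hn : (Cfsg.pPrimeCore 2 (Y ⧸ V)).Normal := helper1.pPrimeCore_normal 2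
    have hc : (Nat.card (Cfsg.pPrimeCore 2 (Y ⧸ V))).Coprime 2 := helper1.pPrimeCore_coprime 2
    have hp : IsPGroup 3 (Cfsg.pPrimeCore 2 (Y ⧸ V)) := by
      intro g
      refine ⟨1, ?_⟩
      rw [pow_one]
      have h1 : (g ^ 3) ^ 2 = 1 := by
        rw [← pow_mul]
        apply Subtype.ext
        rw [Subgroup.coe_pow]
        exact h6' g.1
      have h2 : (g ^ 3) ^ Nat.card (Cfsg.pPrimeCore 2 (Y ⧸ V)) = 1 := pow_card_eq_one'
      have h : (g ^ 3) ^ Nat.gcd 2 (Nat.card (Cfsg.pPrimeCore 2 (Y ⧸ V))) = 1 :=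
        pow_gcd_eq_one.mpr ⟨h1, h2⟩
      have hc' : Nat.gcd 2 (Nat.card (Cfsg.pPrimeCore 2 (Y ⧸ V))) = 1 := hc.symm
      rw [hc', pow_one] at h
      exact h
    have := helper1.le_pCore hn hp
    rw [hO3] at this
    exact eq_bot_iff.mpr this
  -- Hall–Higman for `Y/V` and the prime 2
  have hHH := helper23.hall_higman_123
    ((helper23.isPSolvable_iff_psreach).1 (helper23.isPSolvable_of_solvable 2 (Y ⧸ V))) hO2'
  obtain ⟨Q, hQ⟩ : ∃ Q : Subgroup (Y ⧸ V), Q = Cfsg.pCore 2 (Y ⧸ V) := ⟨_, rfl⟩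
  rw [← hQ] at hHH
  haveI hQn : Q.Normal := by rw [hQ]; exact helper1.pCore_normal 2
  have hQp : IsPGroup 2 Q := by rw [hQ]; exact helper1.pCore_isPGroup 2
  have hQsq : ∀ q ∈ Q, q * q = 1 := by
    intro q hq
    obtain ⟨k, hk⟩ := mem_pow hQp hq
    have := sq_eq_one_of_pow_six k (h6' q) hk
    rwa [pow_two] at this
  have hQinv : ∀ q ∈ Q, q⁻¹ = q := fun q hq => inv_eq_of_mul_eq_one_left (hQsq q hq)
  have hQcomm : ∀ q ∈ Q, ∀ r ∈ Q, q * r = r * q := by
    intro q hq r hr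
    have h1 := hQinv (q * r) (Q.mul_mem hq hr)
    rw [mul_inv_rev, hQinv q hq, hQinv r hr] at h1
    exact h1.symm
  -- an element of order 3
  obtain ⟨xb, hxb⟩ := exists_prime_orderOf_dvd_card' 3 h3
  have hxb3 : xb ^ 3 = 1 := by rw [← hxb]; exact pow_orderOf_eq_one xb
  have hxbQ : xb ∉ Q := by
    intro hx
    have h1 : xb ^ 2 = 1 := by rw [pow_two]; exact hQsq xb hx
    have h2 : orderOf xb ∣ 2 := orderOf_dvd_of_pow_eq_one h1
    rw [hxb] at h2
    omega
  obtain ⟨ab, habQ, hab⟩ : ∃ a ∈ Q, a * xb ≠ xb * a := by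
    by_contra hh
    apply hxbQ
    apply hHH
    rw [Subgroup.mem_centralizer_iff]
    intro a ha
    by_contra h'
    exact hh ⟨a, ha, h'⟩
  -- the four-group
  have hxb3' : xb * xb * xb = 1 := by rw [← pow_three']; exact hxb3
  obtain ⟨φ, hφ⟩ : ∃ φ : MulAut (Y ⧸ V), φ = MulAut.conj xb := ⟨_, rfl⟩
  have hφa : ∀ g, φ g = xb * g * xb⁻¹ := fun g => by rw [hφ, MulAut.conj_apply]
  obtain ⟨ax, hax⟩ : ∃ ax, ax = φ ab := ⟨_, rfl⟩
  obtain ⟨axx, haxx⟩ : ∃ axx, axx = φ ax := ⟨_, rfl⟩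
  have haxQ : ax ∈ Q := by rw [hax, hφa]; exact hQn.conj_mem ab habQ xb
  have haxxQ : axx ∈ Q := by rw [haxx, hφa]; exact hQn.conj_mem ax haxQ xb
  have haxxx : φ axx = ab := by
    rw [haxx, hax, hφa, hφa, hφa]
    have : xb * (xb * (xb * ab * xb⁻¹) * xb⁻¹) * xb⁻¹
        = (xb * xb * xb) * ab * (xb * xb * xb)⁻¹ := by group
    rw [this, hxb3', one_mul, inv_one, mul_one]
  obtain ⟨bb, hbb⟩ : ∃ bb, bb = ab * ax := ⟨_, rfl⟩
  obtain ⟨cb, hcb⟩ : ∃ cb, cb = ax * axx := ⟨_, rfl⟩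
  obtain ⟨db, hdb⟩ : ∃ db, db = axx * ab := ⟨_, rfl⟩
  have hbbQ : bb ∈ Q := by rw [hbb]; exact Q.mul_mem habQ haxQ
  have hcbQ : cb ∈ Q := by rw [hcb]; exact Q.mul_mem haxQ haxxQ
  have hbb1 : bb ≠ 1 := by
    intro h
    apply hab
    rw [hbb] at h
    have h1 : ax = ab := by
      have := eq_inv_of_mul_eq_one_right h
      rw [hQinv ab habQ] at this
      exact this
    rw [hax, hφa] at h1
    calc ab * xb = xb * ab * xb⁻¹ * xb := by rw [h1]
      _ = xb * ab := by group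
  have hcb' : cb = φ bb := by rw [hcb, hbb, map_mul, ← hax, ← haxx]
  have hdb' : db = φ cb := by rw [hdb, hcb, map_mul, ← haxx, haxxx]
  have hbb' : bb = φ db := by rw [hdb, hbb, map_mul, haxxx, ← hax]
  have hcx : cb * xb = xb * bb := by rw [hcb', hφa]; group
  have hdx : db * xb = xb * cb := by rw [hdb', hφa]; group
  have hbx : bb * xb = xb * db := by rw [hbb', hφa]; group
  have hbc : bb * cb = db := by
    calc bb * cb = ab * (ax * ax) * axx := by rw [hbb, hcb]; group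
      _ = ab * axx := by rw [hQsq ax haxQ, mul_one]
      _ = axx * ab := hQcomm ab habQ axx haxxQ
      _ = db := hdb.symm
  have hcbb : cb * bb = db := by rw [← hbc]; exact hQcomm cb hcbQ bb hbbQ
  have hb2 : bb * bb = 1 := hQsq bb hbbQ
  have hc2 : cb * cb = 1 := hQsq cb hcbQ
  -- lifts
  obtain ⟨x0, hx0⟩ := QuotientGroup.mk'_surjective V xb
  obtain ⟨x, hxdef⟩ : ∃ x, x = x0 ^ 4 := ⟨_, rfl⟩
  have hx : QuotientGroup.mk' V x = xb := by
    rw [hxdef, map_pow, hx0, pow_succ, hxb3, one_mul]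
  have hx3 : x ^ 3 = 1 := by
    rw [hxdef, ← pow_mul, show 4 * 3 = 6 * 2 from rfl, pow_mul, h6, one_pow]
  obtain ⟨b, hb⟩ := QuotientGroup.mk'_surjective V bb
  -- the identity (★) in `Y`
  have hstarY : ∀ u ∈ V, u * (x * u * x⁻¹) * (x * (x * u * x⁻¹) * x⁻¹) = 1 := by
    intro u hu
    have hz : u * (x * u * x⁻¹) * (x * (x * u * x⁻¹) * x⁻¹) ∈ V :=
      V.mul_mem (V.mul_mem hu (hVn.conj_mem u hu x))
        (hVn.conj_mem _ (hVn.conj_mem u hu x) x)
    have hx3' : x * x * x = 1 := by rw [← pow_three']; exact hx3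
    have he : u * (x * u * x⁻¹) * (x * (x * u * x⁻¹) * x⁻¹)
        = (u * x) * (u * x) * (u * x) * (x * x * x)⁻¹ := by
      group
    rw [hx3', inv_one, mul_one, ← pow_three'] at he
    obtain ⟨k, hk⟩ := mem_pow hVp hz
    apply eq_one_of_pow_two_of_pow_three k _ hk
    rw [he, ← pow_mul]
    exact h6 _
  -- the Frattini quotient
  obtain ⟨Φ, hΦ⟩ : ∃ Φ : Subgroup Y, Φ = (frattini ↥V).map V.subtype := ⟨_, rfl⟩
  haveI hΦn : Φ.Normal := by rw [hΦ]; infer_instance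
  obtain ⟨W, hW⟩ : ∃ W : Subgroup (Y ⧸ Φ), W = V.map (QuotientGroup.mk' Φ) := ⟨_, rfl⟩
  haveI hWn : W.Normal := by
    rw [hW]; exact Subgroup.Normal.map hVn _ (QuotientGroup.mk'_surjective Φ)
  have hWmem : ∀ w ∈ W, ∃ u ∈ V, QuotientGroup.mk' Φ u = w := by
    intro w hw
    rw [hW] at hw
    exact Subgroup.mem_map.mp hw
  have hmemW : ∀ u ∈ V, QuotientGroup.mk' Φ u ∈ W := by
    intro u hu
    rw [hW]
    exact Subgroup.mem_map_of_mem _ hu
  have hcommW : ∀ a c : ↥W, a * c = c * a := by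
    rintro ⟨a, ha⟩ ⟨c, hc⟩
    obtain ⟨u, hu, rfl⟩ := hWmem a ha
    obtain ⟨v, hv, rfl⟩ := hWmem c hc
    apply Subtype.ext
    show QuotientGroup.mk' Φ u * QuotientGroup.mk' Φ v
      = QuotientGroup.mk' Φ v * QuotientGroup.mk' Φ u
    rw [← map_mul, ← map_mul, QuotientGroup.mk'_apply, QuotientGroup.mk'_apply, QuotientGroup.eq]
    have hc1 : ⁅(⟨v⁻¹, V.inv_mem hv⟩ : ↥V), ⟨u⁻¹, V.inv_mem hu⟩⁆ ∈ commutator ↥V := by
      rw [commutator_def]
      exact Subgroup.commutator_mem_commutator (Subgroup.mem_top _) (Subgroup.mem_top _)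
    have hc2 := helper1.commutator_le_frattini_of_isPGroup hVp hc1
    have hc3 := Subgroup.mem_map_of_mem V.subtype hc2
    rw [← hΦ] at hc3
    have he : (u * v)⁻¹ * (v * u)
        = V.subtype ⁅(⟨v⁻¹, V.inv_mem hv⟩ : ↥V), ⟨u⁻¹, V.inv_mem hu⟩⁆ := by
      simp [commutatorElement_def, mul_assoc]
    rw [he]
    exact hc3
  have hoddW : ∀ w : ↥W, w * w = 1 → w = 1 := by
    rintro ⟨w, hw⟩ hww
    obtain ⟨u, hu, rfl⟩ := hWmem w hw
    obtain ⟨k, hk⟩ := mem_pow hVp hu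
    apply Subtype.ext
    show QuotientGroup.mk' Φ u = 1
    apply eq_one_of_pow_two_of_pow_three k
    · rw [pow_two]; exact congrArg Subtype.val hww
    · rw [← map_pow, hk, map_one]
  -- the action
  obtain ⟨κ, hκdef⟩ : ∃ κ : Y →* MulAut ↥W,
      κ = (MulAut.conjNormal (H := W)).comp (QuotientGroup.mk' Φ) := ⟨_, rfl⟩
  have hκ : ∀ g (w : ↥W), ((κ g w : ↥W) : Y ⧸ Φ)
      = QuotientGroup.mk' Φ g * w * (QuotientGroup.mk' Φ g)⁻¹ := by
    intro g w
    rw [hκdef]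
    exact MulAut.conjNormal_apply _ _
  have hker : V ≤ κ.ker := by
    intro g hg
    rw [MonoidHom.mem_ker]
    ext w
    rw [MulAut.one_apply, hκ]
    have h1 := congrArg Subtype.val (hcommW ⟨QuotientGroup.mk' Φ g, hmemW g hg⟩ w)
    rw [Subgroup.coe_mul, Subgroup.coe_mul] at h1
    rw [h1, mul_assoc, mul_inv_cancel, mul_one]
  obtain ⟨κb, hκbdef⟩ : ∃ κb : Y ⧸ V →* MulAut ↥W, κb = QuotientGroup.lift V κ hker := ⟨_, rfl⟩
  have hκb : ∀ g, κb (QuotientGroup.mk' V g) = κ g := by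
    intro g
    rw [hκbdef]
    rfl
  have hstar : ∀ w : ↥W, w * κb xb w * κb xb (κb xb w) = 1 := by
    rintro ⟨w, hw⟩
    obtain ⟨u, hu, rfl⟩ := hWmem w hw
    apply Subtype.ext
    rw [← hx, hκb, Subgroup.coe_mul, Subgroup.coe_mul, hκ, hκ, hκ, Subgroup.coe_one]
    have := congrArg (QuotientGroup.mk' Φ) (hstarY u hu)
    simp only [map_mul, map_inv, map_one] at this
    exact this
  have hB : κb bb = 1 := by
    apply a4_lemma' hcommW hoddW (κb xb) (κb bb) (κb cb) (κb db) hstar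
    · rw [← map_mul, hb2, map_one]
    · rw [← map_mul, hc2, map_one]
    · rw [← map_mul, hbc]
    · rw [← map_mul, hcbb]
    · rw [← map_mul, ← map_mul, hcx]
    · rw [← map_mul, ← map_mul, hdx]
    · rw [← map_mul, ← map_mul, hbx]
  have hκb1 : κ b = 1 := by rw [← hκb, hb, hB]
  have hh : ∀ v ∈ V, b * v * b⁻¹ * v⁻¹ ∈ Φ := by
    intro v hv
    have h1 := DFunLike.congr_fun hκb1 ⟨QuotientGroup.mk' Φ v, hmemW v hv⟩
    have h2 := congrArg Subtype.val h1
    rw [hκ, MulAut.one_apply] at h2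
    apply (QuotientGroup.eq_one_iff _).mp
    have h3 : QuotientGroup.mk' Φ (b * v * b⁻¹ * v⁻¹) = 1 := by
      rw [map_mul, map_mul, map_mul, map_inv, map_inv]
      rw [h2]
      exact mul_inv_cancel _
    exact h3
  have hbV : b ∈ V := by
    subst hV
    subst hΦ
    exact helper7.mem_pCore_of_trivial_on_frattini_quotient
      (helper23.isPSolvable_of_solvable 3 Y) hO b hh
  apply hbb1
  rw [← hb]
  exact (QuotientGroup.eq_one_iff b).mpr hbV

end

section final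

lemma card_eq {G : Type*} [Group G] [Finite G] (h : ∀ x : G, x ^ 6 = 1) :
    ∃ a b : ℕ, Nat.card G = 2 ^ a * 3 ^ b := by
  have hpr : ∀ r : ℕ, r.Prime → r ∣ Nat.card G → r = 2 ∨ r = 3 := by
    intro r hr hd
    haveI := Fact.mk hr
    obtain ⟨x, hx⟩ := exists_prime_orderOf_dvd_card' r hd
    have h6 : r ∣ 2 * 3 := hx ▸ orderOf_dvd_of_pow_eq_one (h x)
    rcases (Nat.Prime.dvd_mul hr).mp h6 with h2 | h3
    · left; exact (Nat.prime_dvd_prime_iff_eq hr Nat.prime_two).mp h2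
    · right; exact (Nat.prime_dvd_prime_iff_eq hr Nat.prime_three).mp h3
  obtain ⟨n, hn⟩ : ∃ n, n = Nat.card G := ⟨_, rfl⟩
  rw [← hn] at hpr ⊢
  have hn0 : n ≠ 0 := by rw [hn]; exact Nat.card_pos.ne'
  refine ⟨n.factorization 2, n.factorization 3, ?_⟩
  have hsupp : n.factorization.support ⊆ ({2, 3} : Finset ℕ) := by
    intro r hr
    rw [Nat.support_factorization] at hr
    have := hpr r (Nat.prime_of_mem_primeFactors hr) (Nat.dvd_of_mem_primeFactors hr)
    simp only [Finset.mem_insert, Finset.mem_singleton]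
    exact this
  have h1 := Nat.prod_factorization_pow_eq_self hn0
  rw [Finsupp.prod_of_support_subset _ hsupp _ (fun i _ => pow_zero i),
    Finset.prod_pair (by norm_num)] at h1
  exact h1.symm

/-- A finite group in which every element has order dividing `6` has `2`-length at most `1` and `3`-length at most `1`. -/
theorem result {G : Type*} [Group G] [Finite G] (h : ∀ x : G, x ^ 6 = 1) : Cfsg.PLengthLE 2 1 G ∧ Cfsg.PLengthLE 3 1 G := by
  obtain ⟨a, b, hab⟩ := card_eq h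
  haveI hsolv : Group.IsSolvable G := S0144.result 2 3 a b Nat.prime_two Nat.prime_three hab
  haveI : Fact (Nat.Prime 2) := ⟨Nat.prime_two⟩
  haveI : Fact (Nat.Prime 3) := ⟨Nat.prime_three⟩
  constructor
  · obtain ⟨S⟩ : Nonempty (Sylow 2 G) := inferInstance
    have h1 := S0635.result (helper23.isPSolvable_of_solvable 2 G) S
    haveI : Group.IsNilpotent (S : Subgroup G) := S.isPGroup'.isNilpotent
    have hsq : ∀ g : (S : Subgroup G), g * g = 1 := by
      intro g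
      obtain ⟨k, hk⟩ := S.isPGroup' g
      have h6 : g ^ 6 = 1 := by
        apply Subtype.ext
        rw [Subgroup.coe_pow]
        exact h g.1
      have := sq_eq_one_of_pow_six k h6 hk
      rwa [pow_two] at this
    have hinv : ∀ g : (S : Subgroup G), g⁻¹ = g := fun g => inv_eq_of_mul_eq_one_left (hsq g)
    have hc : Group.nilpotencyClass (S : Subgroup G) ≤ 1 := by
      rw [← Subgroup.upperCentralSeries_eq_top_iff_nilpotencyClass_le, Subgroup.upperCentralSeries_one, eq_top_iff]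
      intro z _
      rw [Subgroup.mem_center_iff]
      intro g
      have h2 := hinv (g * z)
      rw [mul_inv_rev, hinv g, hinv z] at h2
      exact h2.symm
    show (upperPSeries 2 G (2 * 1 + 1)).1 = ⊤
    have h2 : (upperPSeries 2 G (2 * Group.nilpotencyClass (S : Subgroup G) + 1)).1 = ⊤ := h1
    have h3 : (upperPSeries 2 G (2 * Group.nilpotencyClass (S : Subgroup G) + 1)).1
        ≤ (upperPSeries 2 G (2 * 1 + 1)).1 :=
      lead.upperPSeries_mono (G := G) 2 (by omega)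
    rw [h2] at h3
    exact top_le_iff.mp h3
  · obtain ⟨U₁, hU₁⟩ : ∃ U : Subgroup G, U = (upperPSeries 3 G 1).1 := ⟨_, rfl⟩
    haveI hU₁n : U₁.Normal := by rw [hU₁]; infer_instance
    have hU₁eq : U₁ = (pPrimeCore 3 (G ⧸ (upperPSeries 3 G 0).1)).comap (QuotientGroup.mk' _) := by
      rw [hU₁]; exact helper23.upperPSeries_succ_of_even 3 0 (by decide)
    have hO : pPrimeCore 3 (G ⧸ U₁) = ⊥ :=
      helper23.pPrimeCore_quotient_comap_eq_bot 3 (upperPSeries 3 G 0).1 U₁ hU₁eq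
    have hU₂eq : (upperPSeries 3 G 2).1 = (pCore 3 (G ⧸ U₁)).comap (QuotientGroup.mk' U₁) := by
      have := helper23.upperPSeries_succ_of_not_even (G := G) 3 1 (by decide)
      rw [show (1 + 1 : ℕ) = 2 from rfl] at this
      rw [this]
      subst hU₁
      rfl
    have h6' : ∀ y : G ⧸ U₁, y ^ 6 = 1 := by
      intro y
      obtain ⟨y, rfl⟩ := QuotientGroup.mk'_surjective U₁ y
      rw [← map_pow, h, map_one]
    have hcop := index_pCore_coprime h6' hO
    have hidx : (upperPSeries 3 G 2).1.index = (pCore 3 (G ⧸ U₁)).index := by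
      rw [hU₂eq]
      exact Subgroup.index_comap_of_surjective _ (QuotientGroup.mk'_surjective U₁)
    show (upperPSeries 3 G (2 * 1 + 1)).1 = ⊤
    have h3 := lead.le_upperPSeries_succ_of_even 3 2 (by decide) (upperPSeries 3 G 2).1 ⊤ le_rfl
      (by rw [Subgroup.relIndex_top_right, hidx]; exact hcop)
    exact top_le_iff.mp h3

end final

end Cfsg.Agent.S4227
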