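import Cfsg.Statements.S4230

set_option autoImplicit false
open Cfsg

namespace Cfsg.Agent.S4230

open Polynomial

theorem result (p q f : ℕ) (hp : p.Prime) (hp2 : p ≠ 2) (hpq : ¬ p ∣ q) :
    ((p : ℤ) ∣ (Polynomial.cyclotomic f ℤ).eval (q : ℤ)) ↔ ∃ j : ℕ, f = orderOf (q : ZMod p) * p ^ j := by
  have : Fact p.Prime := ⟨hp⟩
  set x : ZMod p := (q : ZMod p) with hx
  have hx0 : x ≠ 0 := by
    rw [hx, Ne, ZMod.natCast_eq_zero_iff]; exact hpq
  have hxpow : x ^ (p - 1) = 1 := ZMod.pow_card_sub_one_eq_one hx0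
  have hp1 : 0 < p - 1 := by have := hp.two_le; omega
  set e := orderOf x with he
  have hedvd : e ∣ p - 1 := orderOf_dvd_of_pow_eq_one hxpow
  have hepos : 0 < e := Nat.pos_of_dvd_of_pos hedvd hp1
  have hpe : ¬ p ∣ e := by
    intro h
    have := Nat.le_of_dvd hp1 (h.trans hedvd)
    omega
  -- step 1: reduce to ZMod p
  have h1 : ((p : ℤ) ∣ (cyclotomic f ℤ).eval (q : ℤ)) ↔ (cyclotomic f (ZMod p)).eval x = 0 := by
    rw [← ZMod.intCast_zmod_eq_zero_iff_dvd, ← map_cyclotomic_int f (ZMod p), hx]
    rw [show ((q : ZMod p)) = Int.castRingHom (ZMod p) (q : ℤ) by simp]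
    rw [eval_map, eval₂_hom]
    simp
  rw [h1]
  rcases Nat.eq_zero_or_pos f with hf0 | hfpos
  · subst hf0
    simp only [cyclotomic_zero, eval_one, one_ne_zero, false_iff]
    rintro ⟨j, hj⟩
    have : 0 < e * p ^ j := Nat.mul_pos hepos (pow_pos hp.pos j)
    omega
  · obtain ⟨j, m, hpm, hfm⟩ := Nat.exists_eq_pow_mul_and_not_dvd hfpos.ne' p hp.ne_one
    have hmpos : 0 < m := by
      rcases Nat.eq_zero_or_pos m with h | h
      · exfalso; apply hpm; rw [h]; exact dvd_zero p
      · exact h
    have hmne : NeZero (m : ZMod p) := ⟨by rw [Ne, ZMod.natCast_eq_zero_iff]; exact hpm⟩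
    have h2 : (cyclotomic f (ZMod p)).eval x = 0 ↔ (cyclotomic m (ZMod p)).eval x = 0 := by
      rcases Nat.eq_zero_or_pos j with hj0 | hjpos
      · subst hj0
        rw [hfm, pow_zero, one_mul]
      · rw [hfm, cyclotomic_mul_prime_pow_eq (ZMod p) hpm hjpos, eval_pow]
        have hexp : p ^ j - p ^ (j - 1) ≠ 0 := by
          have : p ^ (j - 1) < p ^ j := Nat.pow_lt_pow_right hp.one_lt (by omega)
          omega
        exact pow_eq_zero_iff hexp
    rw [h2, ← IsRoot.def, isRoot_cyclotomic_iff]
    constructor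
    · intro hprim
      refine ⟨j, ?_⟩
      rw [hfm, he, ← hprim.eq_orderOf, mul_comm]
    · rintro ⟨j', hj'⟩
      have hme : m = e := by
        have h3 : p ^ j * m = e * p ^ j' := by rw [← hfm, hj']
        -- compare p-adic valuations
        have hjj : j = j' := by
          have := congrArg (fun n => n.factorization p) h3
          simp only [Nat.factorization_mul (pow_pos hp.pos j).ne' hmpos.ne',
            Nat.factorization_mul hepos.ne' (pow_pos hp.pos j').ne', Finsupp.coe_add, Pi.add_apply,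
            Nat.factorization_pow, Finsupp.coe_smul, Pi.smul_apply, smul_eq_mul,
            hp.factorization_self, mul_one, Nat.factorization_eq_zero_of_not_dvd hpm,
            Nat.factorization_eq_zero_of_not_dvd hpe, add_zero, zero_add] at this
          exact this
        subst hjj
        rw [mul_comm] at h3
        exact Nat.eq_of_mul_eq_mul_right (pow_pos hp.pos j) h3
      rw [hme]
      exact IsPrimitiveRoot.orderOf x

end Cfsg.Agent.S4230
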