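import Mathlib
import Cfsg.Statements.S4237
import Cfsg.Agent.Lib_helper17_SCi

set_option autoImplicit false
set_option maxHeartbeats 1000000

open Cfsg

namespace Cfsg.Agent.S4237

open Cfsg.Agent.helper17.SC

theorem nc_cases {G : Type*} [Group G] [Finite G] (p a : ℕ) [hp : Fact p.Prime]
    (hdvd : p ^ (a + 1) ∣ Nat.card G) :
    (∃ t : ℤ, (Nat.card {T : Subgroup G // Nat.card T = p ^ (a + 1) ∧ ¬ IsCyclic T} : ℤ)
        = (p : ℤ) * t) ∨
    (∃ t : ℤ, (Nat.card {T : Subgroup G // Nat.card T = p ^ (a + 1) ∧ ¬ IsCyclic T} : ℤ)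
        = 1 + (p : ℤ) * t) := by
  set nc := Nat.card {T : Subgroup G // Nat.card T = p ^ (a + 1) ∧ ¬ IsCyclic T} with hnc
  by_cases hp2 : p = 2
  · rcases Nat.even_or_odd' nc with ⟨t, ht | ht⟩
    · left; exact ⟨t, by rw [ht, hp2]; push_cast; ring⟩
    · right; exact ⟨t, by rw [ht, hp2]; push_cast; ring⟩
  · -- a criterion for `nc = 0`
    have hzero : (∀ T : Subgroup G, Nat.card T = p ^ (a + 1) → IsCyclic T) →
        ∃ t : ℤ, (nc : ℤ) = (p : ℤ) * t := by
      intro h
      refine ⟨0, ?_⟩
      have : nc = 0 := by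
        rw [hnc, Nat.card_eq_zero]
        left
        constructor
        rintro ⟨T, hT1, hT2⟩
        exact hT2 (h T hT1)
      rw [this]; simp
    by_cases ha : a = 0
    · left
      apply hzero
      intro T hT
      rw [ha, zero_add, pow_one] at hT
      exact isCyclic_of_prime_card hT
    · obtain ⟨R₀⟩ : Nonempty (Sylow p G) := inferInstance
      by_cases hc : IsCyclic R₀.1
      · left
        apply hzero
        intro T hT
        obtain ⟨Q, hQ⟩ := (IsPGroup.of_card hT).exists_le_sylow
        haveI := sylow_cyclic_of_cyclic p R₀ Q hc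
        exact Subgroup.isCyclic_of_le hQ
      · right
        have hall : ∀ R : Sylow p G, ¬ IsCyclic R.1 := by
          intro R hR
          exact hc (sylow_cyclic_of_cyclic p R R₀ hR)
        obtain ⟨c, hcdvd⟩ := card_cyclic_dvd p hp2 (a + 1) (by omega) hall
        obtain ⟨k, hk⟩ := card_subgroups_modp (G := G) p (a + 1) hdvd
        have hsplit := card_split (G := G) (p ^ (a + 1))
        rw [hsplit, hcdvd] at hk
        refine ⟨k - c, ?_⟩
        push_cast at hk
        linear_combination hk

/-- Let G be a finite group, p a prime and a a natural number such that p^(a+1) divides the order of G. Then the number of subgroups of G of order p^a is congruent to 1 or to 1 + p modulo p². -/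
theorem result {G : Type*} [Group G] [Finite G] (p a : ℕ) (hp : p.Prime) (hdvd : p ^ (a + 1) ∣ Nat.card G) :
    Nat.card {H : Subgroup G // Nat.card H = p ^ a} ≡ 1 [MOD p ^ 2] ∨
      Nat.card {H : Subgroup G // Nat.card H = p ^ a} ≡ 1 + p [MOD p ^ 2] := by
  haveI : Fact p.Prime := ⟨hp⟩
  obtain ⟨k, hk⟩ := card_subgroups_mod_sq (G := G) p a hdvd
  rcases nc_cases (G := G) p a hdvd with ⟨t, ht⟩ | ⟨t, ht⟩
  · left
    rw [ht] at hk
    rw [← Int.natCast_modEq_iff]
    apply Int.ModEq.symm
    rw [Int.modEq_iff_dvd]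
    refine ⟨t + k, ?_⟩
    rw [hk]
    push_cast
    ring
  · right
    rw [ht] at hk
    rw [← Int.natCast_modEq_iff]
    apply Int.ModEq.symm
    rw [Int.modEq_iff_dvd]
    refine ⟨t + k, ?_⟩
    rw [hk]
    push_cast
    ring

end Cfsg.Agent.S4237
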