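import Mathlib
import Cfsg.Statements.S4238
import Cfsg.Agent.S0071

set_option autoImplicit false
open Cfsg
open scoped commutatorElement

namespace Cfsg.Agent.S4238

open Cfsg.Agent.lead Cfsg.Agent.S0071

/-- A finite `p`-group has an element whose order is the exponent. -/
theorem pgroup_exists_order_eq_exponent {K : Type*} [Group K] [Finite K] {p : ℕ} [hp : Fact p.Prime]
    (hK : IsPGroup p K) : ∃ k : K, orderOf k = Monoid.exponent K := by
  obtain ⟨n, hn⟩ := (IsPGroup.iff_card).mp hK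
  have hdvd : Monoid.exponent K ∣ p ^ n := by
    rw [← hn]; exact Monoid.exponent_dvd_of_forall_pow_eq_one (fun g => pow_card_eq_one')
  obtain ⟨m, hmn, hm⟩ := (Nat.dvd_prime_pow hp.out).mp hdvd
  by_contra hcon
  push Not at hcon
  rcases Nat.eq_zero_or_pos m with h0 | hpos
  · apply hcon 1
    rw [orderOf_one, hm, h0, pow_zero]
  · have : Monoid.exponent K ∣ p ^ (m - 1) := by
      apply Monoid.exponent_dvd_of_forall_pow_eq_one
      intro k
      have h1 : orderOf k ∣ p ^ m := by rw [← hm]; exact Monoid.order_dvd_exponent k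
      obtain ⟨j, hjm, hj⟩ := (Nat.dvd_prime_pow hp.out).mp h1
      have hjne : j ≠ m := by
        intro h; apply hcon k; rw [hj, hm, h]
      have hj' : j ≤ m - 1 := by omega
      apply orderOf_dvd_iff_pow_eq_one.mp
      rw [hj]; exact pow_dvd_pow p hj'
    rw [hm] at this
    have h2 := (Nat.pow_dvd_pow_iff_le_right hp.out.one_lt).mp this
    omega

/-- The abstract Frobenius-like section. -/
theorem sectionX {K : Type*} [Group K] [Finite K] {p r : ℕ} [hp : Fact p.Prime] [hr : Fact r.Prime]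
    (hpr : r ≠ p) (V : Subgroup K) [hVn : V.Normal] (hV : IsPGroup p V) (hVne : V ≠ ⊥)
    (hVab : ∀ a ∈ V, ∀ b ∈ V, a * b = b * a) (y : K) (hy : orderOf y = r)
    (htop : V ⊔ Subgroup.zpowers y = ⊤)
    (hfpf : ∀ v ∈ V, y * v = v * y → v = 1) :
    Cfsg.pPrimeCore p K = ⊥ ∧ ∀ k : K, orderOf k ≠ Monoid.exponent K := by
  -- decomposition
  have hdec : ∀ x : K, ∃ v ∈ V, ∃ i : ℤ, x = v * y ^ i := by
    intro x
    have hx : x ∈ V ⊔ Subgroup.zpowers y := by rw [htop]; trivial
    obtain ⟨v, hv, z, hz, rfl⟩ := Subgroup.mem_sup_of_normal_left.mp hx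
    obtain ⟨i, rfl⟩ := Subgroup.mem_zpowers_iff.mp hz
    exact ⟨v, hv, i, rfl⟩
  -- an element of V of order dividing a power of r is trivial
  have hVr : ∀ v ∈ V, v ^ r = 1 → v = 1 := by
    intro v hv hvr
    obtain ⟨j, hj⟩ := hV ⟨v, hv⟩
    have hj' : v ^ (p ^ j) = 1 := by
      have := congrArg Subtype.val hj
      rwa [Subgroup.coe_pow, Subgroup.coe_one] at this
    have h1 : orderOf v ∣ r := orderOf_dvd_of_pow_eq_one hvr
    have h2 : orderOf v ∣ p ^ j := orderOf_dvd_of_pow_eq_one hj'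
    have h3 : Nat.Coprime r (p ^ j) := by
      apply Nat.Coprime.pow_right
      exact (Nat.coprime_primes hr.out hp.out).mpr hpr
    have h4 : orderOf v ∣ Nat.gcd r (p ^ j) := Nat.dvd_gcd h1 h2
    rw [h3] at h4
    exact orderOf_eq_one_iff.mp (Nat.dvd_one.mp h4)
  -- if y^i commutes with a nontrivial a ∈ V then y^i = 1
  have hyi : ∀ i : ℤ, ∀ a ∈ V, a ≠ 1 → y ^ i * a = a * y ^ i → y ^ i = 1 := by
    intro i a ha hane hcomm
    by_contra hne
    apply hane
    apply hfpf a ha
    -- y is a power of y^i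
    have hord : orderOf (y ^ i) = r := by
      have h1 : (y ^ i) ^ r = 1 := by
        rw [← zpow_natCast, ← zpow_mul, mul_comm, zpow_mul, zpow_natCast, ← hy, pow_orderOf_eq_one,
          one_zpow]
      exact orderOf_eq_prime h1 hne
    have hmem : y ∈ Subgroup.zpowers (y ^ i) := by
      have hle : Subgroup.zpowers (y ^ i) ≤ Subgroup.zpowers y :=
        Subgroup.zpowers_le.mpr (Subgroup.zpow_mem_zpowers y i)
      have hcard : Nat.card (Subgroup.zpowers y) ≤ Nat.card (Subgroup.zpowers (y ^ i)) := by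
        rw [Nat.card_zpowers, Nat.card_zpowers, hord, hy]
      have := Subgroup.eq_of_le_of_card_ge hle hcard
      rw [this]; exact Subgroup.mem_zpowers y
    obtain ⟨j, hj⟩ := Subgroup.mem_zpowers_iff.mp hmem
    rw [← hj]
    have hc : Commute (y ^ i) a := hcomm
    exact (hc.zpow_left j).eq
  -- V is nontrivial: pick a ≠ 1
  obtain ⟨a0, ha0, ha0ne⟩ : ∃ a ∈ V, a ≠ 1 := by
    by_contra hcon
    push Not at hcon
    apply hVne
    rw [Subgroup.eq_bot_iff_forall]
    exact hcon
  -- every r-th power is in V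
  have hpowV : ∀ x : K, x ^ r ∈ V := by
    intro x
    obtain ⟨v, hv, i, rfl⟩ := hdec x
    rw [← QuotientGroup.eq_one_iff]
    rw [QuotientGroup.mk_pow, QuotientGroup.mk_mul, (QuotientGroup.eq_one_iff v).mpr hv, one_mul,
      QuotientGroup.mk_zpow, ← zpow_natCast, ← zpow_mul, mul_comm, zpow_mul, zpow_natCast,
      ← QuotientGroup.mk_pow, ← hy, pow_orderOf_eq_one, QuotientGroup.mk_one, one_zpow]
  constructor
  · -- O_{p'}(K) = ⊥
    rw [Cfsg.pPrimeCore, eq_bot_iff]
    apply sSup_le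
    rintro M ⟨hMn, hMcop⟩
    intro w hw
    rw [Subgroup.mem_bot]
    -- M ⊓ V = ⊥
    have hMV : ∀ x ∈ M, x ∈ V → x = 1 := by
      intro x hxM hxV
      obtain ⟨j, hj⟩ := hV ⟨x, hxV⟩
      have hj' : x ^ (p ^ j) = 1 := by
        have := congrArg Subtype.val hj
        rwa [Subgroup.coe_pow, Subgroup.coe_one] at this
      have h1 : orderOf x ∣ Nat.card M := by
        have := orderOf_dvd_natCard (⟨x, hxM⟩ : M)
        rwa [Subgroup.orderOf_mk] at this
      have h2 : orderOf x ∣ p ^ j := orderOf_dvd_of_pow_eq_one hj'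
      have h3 : Nat.Coprime (Nat.card M) (p ^ j) := Nat.Coprime.pow_right _ hMcop
      have h4 : orderOf x ∣ Nat.gcd (Nat.card M) (p ^ j) := Nat.dvd_gcd h1 h2
      rw [h3] at h4
      exact orderOf_eq_one_iff.mp (Nat.dvd_one.mp h4)
    -- w centralizes V
    have hwc : ∀ a ∈ V, w * a = a * w := by
      intro a ha
      have h1 : w * a * w⁻¹ * a⁻¹ ∈ M := by
        have : w * a * w⁻¹ * a⁻¹ = w * (a * w⁻¹ * a⁻¹) := by group
        rw [this]
        exact M.mul_mem hw (hMn.conj_mem _ (M.inv_mem hw) a)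
      have h2 : w * a * w⁻¹ * a⁻¹ ∈ V :=
        V.mul_mem (hVn.conj_mem _ ha w) (V.inv_mem ha)
      have h3 := hMV _ h1 h2
      calc w * a = (w * a * w⁻¹ * a⁻¹) * (a * w) := by group
        _ = a * w := by rw [h3, one_mul]
    obtain ⟨v, hv, i, rfl⟩ := hdec w
    have h1 : y ^ i * a0 = a0 * y ^ i := by
      have := hwc a0 ha0
      have h2 : v * a0 = a0 * v := hVab v hv a0 ha0
      calc y ^ i * a0 = v⁻¹ * (v * y ^ i * a0) := by group
        _ = v⁻¹ * (a0 * (v * y ^ i)) := by rw [this]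
        _ = v⁻¹ * (a0 * v) * y ^ i := by group
        _ = v⁻¹ * (v * a0) * y ^ i := by rw [h2]
        _ = a0 * y ^ i := by group
    have h2 := hyi i a0 ha0 ha0ne h1
    rw [h2, mul_one] at hw ⊢
    exact hMV v hw hv
  · intro k hk
    have hpe : p ∣ orderOf k := by
      rw [hk]
      have h1 : orderOf a0 ∣ Monoid.exponent K := Monoid.order_dvd_exponent a0
      obtain ⟨j, hj⟩ := hV ⟨a0, ha0⟩
      have hj' : a0 ^ (p ^ j) = 1 := by
        have := congrArg Subtype.val hj
        rwa [Subgroup.coe_pow, Subgroup.coe_one] at this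
      have h2 : orderOf a0 ∣ p ^ j := orderOf_dvd_of_pow_eq_one hj'
      obtain ⟨l, hl, hl'⟩ := (Nat.dvd_prime_pow hp.out).mp h2
      have hl0 : l ≠ 0 := by
        intro h0
        rw [h0, pow_zero] at hl'
        exact ha0ne (orderOf_eq_one_iff.mp hl')
      have : p ∣ orderOf a0 := by rw [hl']; exact dvd_pow_self p hl0
      exact this.trans h1
    have hre : r ∣ orderOf k := by
      rw [hk, ← hy]; exact Monoid.order_dvd_exponent y
    have hprd : p * r ∣ orderOf k :=
      Nat.Coprime.mul_dvd_of_dvd_of_dvd ((Nat.coprime_primes hp.out hr.out).mpr (Ne.symm hpr)) hpe hre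
    obtain ⟨m, hm⟩ := hprd
    have hkpos : 0 < orderOf k := orderOf_pos k
    have hm0 : m ≠ 0 := by
      intro h0; rw [h0, mul_zero] at hm; omega
    -- x = k^m has order p*r
    have hx : orderOf (k ^ m) = p * r := by
      rw [orderOf_pow_of_dvd hm0 ⟨p * r, by rw [hm]; ring⟩, hm]
      exact Nat.mul_div_cancel _ (Nat.pos_of_ne_zero hm0)
    obtain ⟨x, hxdef⟩ : ∃ x, x = k ^ m := ⟨_, rfl⟩
    rw [← hxdef] at hx
    have ha : x ^ r ∈ V := hpowV x
    have hane : x ^ r ≠ 1 := by
      intro h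
      have := orderOf_dvd_of_pow_eq_one h
      rw [hx] at this
      have h2 : p * r ≤ r := Nat.le_of_dvd hr.out.pos this
      have := hp.out.two_le
      nlinarith [hr.out.pos]
    have hbne : x ^ p ≠ 1 := by
      intro h
      have := orderOf_dvd_of_pow_eq_one h
      rw [hx] at this
      have h2 : p * r ≤ p := Nat.le_of_dvd hp.out.pos this
      have := hr.out.two_le
      nlinarith [hp.out.pos]
    have hbr : (x ^ p) ^ r = 1 := by
      rw [← pow_mul, ← hx, pow_orderOf_eq_one]
    obtain ⟨v, hv, i, hb⟩ := hdec (x ^ p)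
    have hcomm : (x ^ p) * (x ^ r) = (x ^ r) * (x ^ p) := by
      rw [← pow_add, ← pow_add, add_comm]
    have h1 : y ^ i * (x ^ r) = (x ^ r) * y ^ i := by
      have h2 : v * (x ^ r) = (x ^ r) * v := hVab v hv _ ha
      rw [hb] at hcomm
      calc y ^ i * (x ^ r) = v⁻¹ * (v * y ^ i * (x ^ r)) := by group
        _ = v⁻¹ * ((x ^ r) * (v * y ^ i)) := by rw [hcomm]
        _ = v⁻¹ * ((x ^ r) * v) * y ^ i := by group
        _ = v⁻¹ * (v * (x ^ r)) * y ^ i := by rw [h2]
        _ = (x ^ r) * y ^ i := by group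
    have h2 := hyi i _ ha hane h1
    rw [h2, mul_one] at hb
    apply hbne
    apply hVr _ (hb ▸ hv) hbr


/-- The type-level construction of the bad section. -/
theorem sectionY {H : Type*} [Group H] [Finite H] {p r : ℕ} [hp : Fact p.Prime] [hr : Fact r.Prime]
    (Q : Subgroup H) [hQn : Q.Normal] (hQ : IsPGroup p Q) (g : H)
    (hcop : (orderOf g).Coprime p) (htop : Q ⊔ Subgroup.zpowers g = ⊤)
    (hnc : g ∉ Subgroup.centralizer (Q : Set H)) (hrg : r ∣ orderOf g)
    (hz : g ^ r ∈ Subgroup.centralizer (Q : Set H))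
    (hmin : ∀ R : Subgroup H, R.Normal → R ≤ Q → R ≠ Q → g ∈ Subgroup.centralizer (R : Set H)) :
    ∃ (N : Subgroup H) (_ : N.Normal), Cfsg.pPrimeCore p (H ⧸ N) = ⊥ ∧
      ∀ k : H ⧸ N, orderOf k ≠ Monoid.exponent (H ⧸ N) := by
  have hpr : r ≠ p := by
    intro h
    rw [h] at hrg
    have : p ∣ Nat.gcd (orderOf g) p := Nat.dvd_gcd hrg dvd_rfl
    rw [hcop] at this
    exact hp.out.one_lt.ne' (Nat.dvd_one.mp this)
  -- p-elements of zpowers g are trivial
  have hF0 : ∀ w ∈ Q, w ∈ Subgroup.zpowers g → w = 1 := by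
    intro w hwQ hwg
    obtain ⟨j, hj⟩ := hQ ⟨w, hwQ⟩
    have hj' : w ^ (p ^ j) = 1 := by
      have := congrArg Subtype.val hj
      rwa [Subgroup.coe_pow, Subgroup.coe_one] at this
    have h1 : orderOf w ∣ orderOf g := by
      have := orderOf_dvd_natCard (⟨w, hwg⟩ : Subgroup.zpowers g)
      rwa [Subgroup.orderOf_mk, Nat.card_zpowers] at this
    have h2 : orderOf w ∣ p ^ j := orderOf_dvd_of_pow_eq_one hj'
    have h3 : Nat.Coprime (orderOf g) (p ^ j) := Nat.Coprime.pow_right _ hcop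
    have h4 : orderOf w ∣ Nat.gcd (orderOf g) (p ^ j) := Nat.dvd_gcd h1 h2
    rw [h3] at h4
    exact orderOf_eq_one_iff.mp (Nat.dvd_one.mp h4)
  -- Q is nontrivial
  have hQne : Q ≠ ⊥ := by
    intro h
    apply hnc
    rw [h, Subgroup.mem_centralizer_iff]
    intro x hx
    have : x = 1 := hx
    rw [this, one_mul, mul_one]
  -- derived subgroup proper
  have hder : ⁅Q, Q⁆ ≠ Q := by
    intro h
    haveI : Nontrivial Q := (Subgroup.nontrivial_iff_ne_bot Q).mpr hQne
    haveI : Group.IsNilpotent Q := hQ.isNilpotent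
    haveI : Group.IsSolvable Q := IsNilpotent.to_isSolvable
    have h1 := Group.IsSolvable.commutator_lt_top_of_nontrivial Q
    have h2 : (_root_.commutator Q).map Q.subtype = (⊤ : Subgroup Q).map Q.subtype := by
      rw [Subgroup.map_subtype_commutator, h, ← MonoidHom.range_eq_map, Subgroup.range_subtype]
    have h3 := Subgroup.map_injective Q.subtype_injective h2
    exact h1.ne h3
  haveI hderN : (⁅Q, Q⁆ : Subgroup H).Normal := Subgroup.commutator_normal Q Q
  have hderle : ⁅Q, Q⁆ ≤ Q := Subgroup.commutator_le_left Q Q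
  -- maximal R
  obtain ⟨R, -, hRmax⟩ := Finite.exists_le_maximal
    (p := fun R : Subgroup H => R.Normal ∧ R ≤ Q ∧ R ≠ Q ∧ ⁅Q, Q⁆ ≤ R)
    (a := ⁅Q, Q⁆) ⟨hderN, hderle, hder, le_rfl⟩
  obtain ⟨⟨hRn, hRQ, hRne, hRder⟩, hRm⟩ := hRmax
  haveI := hRn
  have hgR : g ∈ Subgroup.centralizer (R : Set H) := hmin R hRn hRQ hRne
  -- the subgroup D
  let D : Subgroup H :=
    { carrier := {q | q ∈ Q ∧ g * q * g⁻¹ * q⁻¹ ∈ R}
      one_mem' := ⟨Q.one_mem, by simp⟩
      mul_mem' := by
        rintro a b ⟨ha, ha'⟩ ⟨hb, hb'⟩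
        refine ⟨Q.mul_mem ha hb, ?_⟩
        have : g * (a * b) * g⁻¹ * (a * b)⁻¹ = (g * a * g⁻¹ * a⁻¹) * (a * (g * b * g⁻¹ * b⁻¹) * a⁻¹) := by
          group
        rw [this]
        exact R.mul_mem ha' (hRn.conj_mem _ hb' a)
      inv_mem' := by
        rintro a ⟨ha, ha'⟩
        refine ⟨Q.inv_mem ha, ?_⟩
        have : g * a⁻¹ * g⁻¹ * a⁻¹⁻¹ = a⁻¹ * (g * a * g⁻¹ * a⁻¹)⁻¹ * a⁻¹⁻¹ := by group
        rw [this]
        exact hRn.conj_mem _ (R.inv_mem ha') a⁻¹ }
  have hDmem : ∀ q, q ∈ D ↔ q ∈ Q ∧ g * q * g⁻¹ * q⁻¹ ∈ R := fun q => Iff.rfl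
  have hRD : R ≤ D := by
    intro ρ hρ
    rw [hDmem]
    refine ⟨hRQ hρ, ?_⟩
    exact R.mul_mem (hRn.conj_mem _ hρ g) (R.inv_mem hρ)
  have hDQ : D ≤ Q := fun q hq => ((hDmem q).mp hq).1
  have hDn : D.Normal := by
    rw [← Subgroup.normalizer_eq_top_iff, eq_top_iff, ← htop]
    apply sup_le
    · intro h hh
      apply Subgroup.mem_normalizer_fintype
      intro q hq
      have hq' : q ∈ D := hq
      have hqQ : q ∈ Q := hDQ hq'
      have hc : q⁻¹ * (h * q * h⁻¹) ∈ D := by
        apply hRD; apply hRder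
        have : q⁻¹ * (h * q * h⁻¹) = ⁅q⁻¹, h⁆ := by
          rw [commutatorElement_def]; group
        rw [this]
        exact Subgroup.commutator_mem_commutator (Q.inv_mem hqQ) hh
      have : h * q * h⁻¹ = q * (q⁻¹ * (h * q * h⁻¹)) := by group
      show h * q * h⁻¹ ∈ D
      rw [this]
      exact D.mul_mem hq' hc
    · rw [Subgroup.zpowers_le]
      apply Subgroup.mem_normalizer_fintype
      intro q hq
      have hq' : q ∈ D := hq
      obtain ⟨hqQ, hqR⟩ := (hDmem q).mp hq'
      show g * q * g⁻¹ ∈ D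
      rw [hDmem]
      refine ⟨hQn.conj_mem _ hqQ g, ?_⟩
      have : g * (g * q * g⁻¹) * g⁻¹ * (g * q * g⁻¹)⁻¹ = g * (g * q * g⁻¹ * q⁻¹) * g⁻¹ := by group
      rw [this]
      exact hRn.conj_mem _ hqR g
  -- D ≠ Q
  have hDneQ : D ≠ Q := by
    intro hDQeq
    apply hnc
    rw [Subgroup.mem_centralizer_iff]
    intro x hx
    have hxD : x ∈ D := by rw [hDQeq]; exact hx
    obtain ⟨-, hc⟩ := (hDmem x).mp hxD
    obtain ⟨c, hcdef⟩ : ∃ c, c = g * x * g⁻¹ * x⁻¹ := ⟨_, rfl⟩
    rw [← hcdef] at hc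
    have hgc : c * g = g * c := (Subgroup.mem_centralizer_iff.mp hgR) c hc
    have hgx : g * x * g⁻¹ = c * x := by rw [hcdef]; group
    have hpow : ∀ n : ℕ, g ^ n * x * (g ^ n)⁻¹ = c ^ n * x := by
      intro n
      induction n with
      | zero => simp
      | succ n ih =>
        have hcn : g * c ^ n = c ^ n * g := by
          have hcm : Commute g c := hgc.symm
          exact (hcm.pow_right n).eq
        calc g ^ (n + 1) * x * (g ^ (n + 1))⁻¹ = g * (g ^ n * x * (g ^ n)⁻¹) * g⁻¹ := by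
              rw [pow_succ']; group
          _ = g * (c ^ n * x) * g⁻¹ := by rw [ih]
          _ = (g * c ^ n) * x * g⁻¹ := by group
          _ = (c ^ n * g) * x * g⁻¹ := by rw [hcn]
          _ = c ^ n * (g * x * g⁻¹) := by group
          _ = c ^ n * (c * x) := by rw [hgx]
          _ = c ^ (n + 1) * x := by rw [pow_succ]; group
    have h1 := hpow (orderOf g)
    rw [pow_orderOf_eq_one, inv_one, mul_one, one_mul] at h1
    have h2 : c ^ orderOf g = 1 := by
      have : c ^ orderOf g * x = 1 * x := by rw [one_mul]; exact h1.symm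
      exact mul_right_cancel this
    have hcQ : c ∈ Q := hRQ hc
    obtain ⟨j, hj⟩ := hQ ⟨c, hcQ⟩
    have hj' : c ^ (p ^ j) = 1 := by
      have := congrArg Subtype.val hj
      rwa [Subgroup.coe_pow, Subgroup.coe_one] at this
    have h3 : orderOf c ∣ Nat.gcd (orderOf g) (p ^ j) :=
      Nat.dvd_gcd (orderOf_dvd_of_pow_eq_one h2) (orderOf_dvd_of_pow_eq_one hj')
    rw [Nat.Coprime.pow_right _ hcop] at h3
    have hc1 : c = 1 := orderOf_eq_one_iff.mp (Nat.dvd_one.mp h3)
    rw [hc1, one_mul] at hgx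
    calc x * g = (g * x * g⁻¹) * g := by rw [hgx]
      _ = g * x := by group
  have hDR : D ≤ R := hRm ⟨hDn, hDQ, hDneQ, hRder.trans hRD⟩ hRD
  -- z central
  obtain ⟨z, hzdef⟩ : ∃ z, z = g ^ r := ⟨_, rfl⟩
  rw [← hzdef] at hz
  have hzc : ∀ h : H, h * z = z * h := by
    intro h
    have hh : h ∈ Q ⊔ Subgroup.zpowers g := by rw [htop]; trivial
    have hle : Q ⊔ Subgroup.zpowers g ≤ Subgroup.centralizer ({z} : Set H) := by
      apply sup_le
      · intro q hq
        rw [Subgroup.mem_centralizer_singleton_iff]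
        exact ((Subgroup.mem_centralizer_iff.mp hz) q hq)
      · rw [Subgroup.zpowers_le, Subgroup.mem_centralizer_singleton_iff, hzdef, ← pow_succ, ← pow_succ']
    exact Subgroup.mem_centralizer_singleton_iff.mp (hle hh)
  haveI hZn : (Subgroup.zpowers z).Normal := by
    constructor
    intro n hn h
    obtain ⟨i, rfl⟩ := Subgroup.mem_zpowers_iff.mp hn
    have hc : Commute h z := hzc h
    have : h * z ^ i * h⁻¹ = z ^ i := by
      rw [(hc.zpow_right i).eq]; group
    rw [this]; exact Subgroup.zpow_mem_zpowers z i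
  have hzg : Subgroup.zpowers z ≤ Subgroup.zpowers g := by
    rw [Subgroup.zpowers_le, hzdef]; exact Subgroup.npow_mem_zpowers g r
  have hzcent : Subgroup.zpowers z ≤ Subgroup.centralizer (Q : Set H) := by
    rw [Subgroup.zpowers_le]; exact hz
  obtain ⟨N, hNdef⟩ : ∃ N, N = R ⊔ Subgroup.zpowers z := ⟨_, rfl⟩
  haveI hNn : N.Normal := by rw [hNdef]; exact Subgroup.sup_normal R (Subgroup.zpowers z)
  have hRN : R ≤ N := by rw [hNdef]; exact le_sup_left
  have hzN : z ∈ N := by rw [hNdef]; exact le_sup_right (α := Subgroup H) (Subgroup.mem_zpowers z)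
  have hN1 : ∀ x ∈ Q, x ∈ N → x ∈ R := by
    intro x hxQ hxN
    rw [hNdef] at hxN
    obtain ⟨ρ, hρ, w, hw, rfl⟩ := Subgroup.mem_sup_of_normal_left.mp hxN
    have hwQ : w ∈ Q := by
      have : w = ρ⁻¹ * (ρ * w) := by group
      rw [this]; exact Q.mul_mem (Q.inv_mem (hRQ hρ)) hxQ
    have := hF0 w hwQ (hzg hw)
    rw [this, mul_one]; exact hρ
  have hN2 : g ∉ N := by
    intro hgN
    rw [hNdef] at hgN
    obtain ⟨ρ, hρ, w, hw, hρw⟩ := Subgroup.mem_sup_of_normal_left.mp hgN
    have hρg : ρ ∈ Subgroup.zpowers g := by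
      have : ρ = g * w⁻¹ := by rw [← hρw]; group
      rw [this]
      exact (Subgroup.zpowers g).mul_mem (Subgroup.mem_zpowers g)
        ((Subgroup.zpowers g).inv_mem (hzg hw))
    have := hF0 ρ (hRQ hρ) hρg
    rw [this, one_mul] at hρw
    apply hnc
    rw [← hρw]; exact hzcent hw
  -- apply sectionX
  refine ⟨N, hNn, ?_⟩
  have hsurj := QuotientGroup.mk'_surjective N
  haveI hVn : (Q.map (QuotientGroup.mk' N)).Normal := Subgroup.Normal.map hQn _ hsurj
  apply sectionX hpr (Q.map (QuotientGroup.mk' N)) (hQ.map _) ?_ ?_ (QuotientGroup.mk' N g) ?_ ?_ ?_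
  · -- V ≠ ⊥
    intro hbot
    have : ∃ q ∈ Q, q ∉ R := by
      by_contra hcon
      push Not at hcon
      exact hRne (le_antisymm hRQ hcon)
    obtain ⟨q, hqQ, hqR⟩ := this
    have h1 : QuotientGroup.mk' N q ∈ Q.map (QuotientGroup.mk' N) := Subgroup.mem_map_of_mem _ hqQ
    rw [hbot, Subgroup.mem_bot, QuotientGroup.mk'_apply, QuotientGroup.eq_one_iff] at h1
    exact hqR (hN1 q hqQ h1)
  · -- abelian
    rintro a ⟨q1, hq1, rfl⟩ b ⟨q2, hq2, rfl⟩
    rw [← map_mul, ← map_mul, QuotientGroup.mk'_apply, QuotientGroup.mk'_apply, QuotientGroup.eq]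
    apply hRN; apply hRder
    have : (q1 * q2)⁻¹ * (q2 * q1) = ⁅q2⁻¹, q1⁻¹⁆ := by
      rw [commutatorElement_def]; group
    rw [this]
    exact Subgroup.commutator_mem_commutator (Q.inv_mem hq2) (Q.inv_mem hq1)
  · -- order of y
    apply orderOf_eq_prime
    · rw [← map_pow, ← hzdef, QuotientGroup.mk'_apply, QuotientGroup.eq_one_iff]; exact hzN
    · rw [QuotientGroup.mk'_apply, Ne, QuotientGroup.eq_one_iff]; exact hN2
  · -- top
    rw [← MonoidHom.map_zpowers, ← Subgroup.map_sup, htop, Subgroup.map_top_of_surjective _ hsurj]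
  · -- fpf
    rintro v ⟨q, hq, rfl⟩ hcomm
    have h1 : QuotientGroup.mk' N (g * q * g⁻¹ * q⁻¹) = 1 := by
      rw [map_mul, map_mul, map_mul, map_inv, map_inv, hcomm]; group
    rw [QuotientGroup.mk'_apply, QuotientGroup.eq_one_iff] at h1
    have h2 : g * q * g⁻¹ * q⁻¹ ∈ Q := Q.mul_mem (hQn.conj_mem _ hq g) (Q.inv_mem hq)
    have h3 := hN1 _ h2 h1
    have h4 : q ∈ D := (hDmem q).mpr ⟨hq, h3⟩
    rw [QuotientGroup.mk'_apply, QuotientGroup.eq_one_iff]
    exact hRN (hDR h4)


/-- Forward direction: sections of a `p`-nilpotent group with trivial `p'`-core are `p`-groups. -/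
theorem section_isPGroup {G : Type*} [Group G] [Finite G] (p : ℕ) [hp : Fact p.Prime]
    (hG : Cfsg.HasNormalPComplement p G) (H : Subgroup G) (N : Subgroup H) [hN : N.Normal]
    (hcore : Cfsg.pPrimeCore p (H ⧸ N) = ⊥) : IsPGroup p (H ⧸ N) := by
  obtain ⟨P, M, hMn, hMP⟩ := hG
  haveI := hMn
  have hidx : M.index = Nat.card P := by
    have := hMP.symm.index_eq_card
    exact this
  obtain ⟨n, hn⟩ := (IsPGroup.iff_card).mp P.isPGroup'
  have hMcard : (Nat.card M).Coprime p := by
    have h1 : Nat.card M = (P : Subgroup G).index := (hMP.index_eq_card).symm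
    rw [h1, Nat.coprime_comm, hp.out.coprime_iff_not_dvd]
    exact P.not_dvd_index
  -- every element's p^n-th power is in M
  have hpow : ∀ x : G, x ^ (p ^ n) ∈ M := by
    intro x
    rw [← QuotientGroup.eq_one_iff, QuotientGroup.mk_pow]
    have h1 : Nat.card (G ⧸ M) = p ^ n := by
      rw [← hn, ← hidx]; rfl
    rw [← h1]; exact pow_card_eq_one'
  -- image of M ∩ H in H/N is trivial
  have hMH : (M.subgroupOf H) ≤ N := by
    have h1 : (M.subgroupOf H).map (QuotientGroup.mk' N) ≤ Cfsg.pPrimeCore p (H ⧸ N) := by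
      apply le_sSup
      refine ⟨Subgroup.Normal.map inferInstance _ (QuotientGroup.mk'_surjective N), ?_⟩
      have h2 : Nat.card ((M.subgroupOf H).map (QuotientGroup.mk' N)) ∣ Nat.card (M.subgroupOf H) :=
        Subgroup.card_map_dvd _ _
      have h3 : Nat.card (M.subgroupOf H) ∣ Nat.card M := by
        have h4 : Nat.card (M.subgroupOf H) = Nat.card ((M.subgroupOf H).map H.subtype) :=
          (Subgroup.card_map_of_injective H.subtype_injective).symm
        rw [h4]
        apply Subgroup.card_dvd_of_le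
        rintro _ ⟨y, hy, rfl⟩
        exact hy
      exact Nat.Coprime.coprime_dvd_left (h2.trans h3) hMcard
    rw [hcore, le_bot_iff] at h1
    intro x hx
    have h5 : QuotientGroup.mk' N x ∈ (M.subgroupOf H).map (QuotientGroup.mk' N) :=
      Subgroup.mem_map_of_mem _ hx
    rw [h1, Subgroup.mem_bot, QuotientGroup.mk'_apply, QuotientGroup.eq_one_iff] at h5
    exact h5
  intro k
  obtain ⟨h, rfl⟩ := QuotientGroup.mk_surjective k
  refine ⟨n, ?_⟩
  rw [← QuotientGroup.mk_pow, QuotientGroup.eq_one_iff]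
  apply hMH
  rw [Subgroup.mem_subgroupOf, Subgroup.coe_pow]
  exact hpow _

/-- The theorem. -/
theorem result {G : Type*} [Group G] [Finite G] (p : ℕ) [Fact p.Prime] :
    Cfsg.HasNormalPComplement p G ↔
      ∀ (H : Subgroup G) (N : Subgroup H) [N.Normal], Cfsg.pPrimeCore p (H ⧸ N) = ⊥ →
        ∃ k : H ⧸ N, orderOf k = Monoid.exponent (H ⧸ N) := by
  constructor
  · intro hG H N hN hcore
    exact pgroup_exists_order_eq_exponent (section_isPGroup p hG H N hcore)
  · intro hsec
    by_contra hnot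
    have hnF : ¬ FrobCond p G := by
      intro hF
      apply hnot
      have P : Sylow p G := default
      exact ⟨P, _, (complement_of_frobCond hF P).1, (complement_of_frobCond hF P).2⟩
    -- minimal pair
    have hex : ∃ n : ℕ, ∃ (Q : Subgroup G) (g : G), IsPGroup p Q ∧
        g ∈ Subgroup.normalizer (Q : Set G) ∧ (orderOf g).Coprime p ∧
        g ∉ Subgroup.centralizer (Q : Set G) ∧ Nat.card Q + orderOf g = n := by
      unfold FrobCond at hnF
      push Not at hnF
      obtain ⟨Q, hQ, g, hg, hcop, hnc⟩ := hnF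
      exact ⟨_, Q, g, hQ, hg, hcop, hnc, rfl⟩
    obtain ⟨n, ⟨Q, g, hQ, hgN, hcop, hnc, hn⟩, hnmin⟩ :
        ∃ n : ℕ, (∃ (Q : Subgroup G) (g : G), IsPGroup p Q ∧
        g ∈ Subgroup.normalizer (Q : Set G) ∧ (orderOf g).Coprime p ∧
        g ∉ Subgroup.centralizer (Q : Set G) ∧ Nat.card Q + orderOf g = n) ∧
        ∀ m : ℕ, (∃ (Q : Subgroup G) (g : G), IsPGroup p Q ∧
        g ∈ Subgroup.normalizer (Q : Set G) ∧ (orderOf g).Coprime p ∧
        g ∉ Subgroup.centralizer (Q : Set G) ∧ Nat.card Q + orderOf g = m) → n ≤ m := by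
      classical
      exact ⟨Nat.find hex, Nat.find_spec hex, fun m hm => Nat.find_min' hex hm⟩
    have hmin : ∀ (Q' : Subgroup G) (g' : G), IsPGroup p Q' →
        g' ∈ Subgroup.normalizer (Q' : Set G) → (orderOf g').Coprime p →
        g' ∉ Subgroup.centralizer (Q' : Set G) →
        Nat.card Q + orderOf g ≤ Nat.card Q' + orderOf g' := by
      intro Q' g' h1 h2 h3 h4
      rw [hn]
      exact hnmin _ ⟨Q', g', h1, h2, h3, h4, rfl⟩
    -- a prime divisor of the order of g
    have hg1 : orderOf g ≠ 1 := by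
      intro h
      rw [orderOf_eq_one_iff] at h
      apply hnc
      rw [h]; exact Subgroup.one_mem _
    obtain ⟨r, hrp, hrg⟩ := Nat.exists_prime_and_dvd hg1
    haveI : Fact r.Prime := ⟨hrp⟩
    have hgr : g ^ r ∈ Subgroup.centralizer (Q : Set G) := by
      by_contra hcon
      have h1 : orderOf (g ^ r) = orderOf g / r := orderOf_pow_of_dvd hrp.ne_zero hrg
      have h2 : orderOf (g ^ r) < orderOf g := by
        rw [h1]; exact Nat.div_lt_self (orderOf_pos g) hrp.one_lt
      have h3 : (orderOf (g ^ r)).Coprime p :=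
        Nat.Coprime.coprime_dvd_left (orderOf_pow_dvd r) hcop
      have := hmin Q (g ^ r) hQ (Subgroup.pow_mem _ hgN r) h3 hcon
      omega
    -- the subgroup H
    obtain ⟨H, hHdef⟩ : ∃ H : Subgroup G, H = Q ⊔ Subgroup.zpowers g := ⟨_, rfl⟩
    have hQH : Q ≤ H := by rw [hHdef]; exact le_sup_left
    have hgH : g ∈ H := by
      rw [hHdef]; exact le_sup_right (α := Subgroup G) (Subgroup.mem_zpowers g)
    have hHnorm : H ≤ Subgroup.normalizer (Q : Set G) := by
      rw [hHdef]
      apply sup_le Subgroup.le_normalizer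
      rw [Subgroup.zpowers_le]; exact hgN
    haveI hQ'n : (Q.subgroupOf H).Normal :=
      (Subgroup.normal_subgroupOf_iff_le_normalizer hQH).mpr hHnorm
    have hQ'p : IsPGroup p (Q.subgroupOf H) := hQ.comap_subtype
    have hord : orderOf (⟨g, hgH⟩ : H) = orderOf g := Subgroup.orderOf_mk g hgH
    have htop : Q.subgroupOf H ⊔ Subgroup.zpowers (⟨g, hgH⟩ : H) = ⊤ := by
      apply Subgroup.map_injective H.subtype_injective
      rw [Subgroup.map_sup, Subgroup.map_subgroupOf_eq_of_le hQH, MonoidHom.map_zpowers,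
        ← MonoidHom.range_eq_map, Subgroup.range_subtype, Subgroup.coe_subtype]
      exact hHdef.symm
    have hcent_iff : ∀ (R : Subgroup H) (x : H), x ∈ Subgroup.centralizer (R : Set H) ↔
        (x : G) ∈ Subgroup.centralizer ((R.map H.subtype : Subgroup G) : Set G) := by
      intro R x
      rw [Subgroup.mem_centralizer_iff, Subgroup.mem_centralizer_iff]
      constructor
      · rintro h _ ⟨y, hy, rfl⟩
        have := h y hy
        have h2 := congrArg Subtype.val this
        simpa using h2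
      · intro h y hy
        have := h (y : G) ⟨y, hy, rfl⟩
        apply Subtype.ext
        simpa using this
    have hQmap : (Q.subgroupOf H).map H.subtype = Q := Subgroup.map_subgroupOf_eq_of_le hQH
    obtain ⟨N, hNn, hcore, hno⟩ := sectionY (p := p) (r := r) (Q.subgroupOf H) hQ'p ⟨g, hgH⟩
      (by rw [hord]; exact hcop) htop
      (by rw [hcent_iff, hQmap]; exact hnc)
      (by rw [hord]; exact hrg)
      (by rw [hcent_iff, hQmap]; exact hgr)
      (by
        intro R hRn hRQ hRne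
        rw [hcent_iff]
        by_contra hcon
        have hR'p : IsPGroup p (R.map H.subtype) := by
          apply hQ.to_le
          rw [← hQmap]; exact Subgroup.map_mono hRQ
        have hR'n : g ∈ Subgroup.normalizer ((R.map H.subtype : Subgroup G) : Set G) := by
          apply Subgroup.mem_normalizer_fintype
          rintro _ ⟨y, hy, rfl⟩
          refine ⟨⟨g, hgH⟩ * y * ⟨g, hgH⟩⁻¹, hRn.conj_mem _ hy _, ?_⟩
          simp
        have h1 := hmin _ g hR'p hR'n hcop hcon
        have h2 : Nat.card (R.map H.subtype) = Nat.card R :=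
          Subgroup.card_map_of_injective H.subtype_injective
        have h3 : Nat.card (Q.subgroupOf H) = Nat.card Q := by
          rw [← Subgroup.card_map_of_injective H.subtype_injective, hQmap]
        have h4 : Nat.card R < Nat.card (Q.subgroupOf H) := by
          have hle : Nat.card R ≤ Nat.card (Q.subgroupOf H) :=
            Nat.le_of_dvd Nat.card_pos (Subgroup.card_dvd_of_le hRQ)
          rcases hle.lt_or_eq with h | h
          · exact h
          · exact absurd (Subgroup.eq_of_le_of_card_ge hRQ h.ge) hRne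
        omega)
    obtain ⟨k, hk⟩ := @hsec H N hNn hcore
    exact hno k hk

end Cfsg.Agent.S4238
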