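import Mathlib
import Cfsg.Statements.S4242
import Cfsg.Agent.Lib_helper17_MinNonNil
import Cfsg.Agent.Lib_helper7_CoprimeSylow
import Cfsg.Agent.Lib_helper7_Fitting
import Cfsg.Agent.S0071

set_option autoImplicit false

open Cfsg

namespace Cfsg.Agent.S4242

open Cfsg.Agent.helper17.MNN
open scoped Pointwise

variable {G : Type*} [Group G]

/-- an element of `p`-power order in a subgroup of order prime to `p` is trivial -/
theorem eq_one_of_pow_of_not_dvd {p : ℕ} (hp : p.Prime) (M : Subgroup G)
    (hM : ¬ p ∣ Nat.card M) {m : G} (hm : m ∈ M) {j : ℕ} (hmj : m ^ (p ^ j) = 1) : m = 1 := by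
  have h1 : orderOf m ∣ p ^ j := orderOf_dvd_of_pow_eq_one hmj
  have h2 : orderOf m ∣ Nat.card M := Subgroup.orderOf_dvd_natCard M hm
  have hcop : Nat.Coprime (p ^ j) (Nat.card M) :=
    Nat.Coprime.pow_left j ((Nat.Prime.coprime_iff_not_dvd hp).2 hM)
  have h3 := Nat.dvd_gcd h1 h2
  rw [hcop.gcd_eq_one] at h3
  exact orderOf_eq_one_iff.1 (Nat.dvd_one.1 h3)

/-- In a finite nilpotent group a `p`-element commutes with every element of order prime to `p`. -/
theorem commute_of_nilpotent_coprime {K : Type*} [Group K] [Finite K] (hK : Group.IsNilpotent K)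
    {p : ℕ} [Fact p.Prime] (x y : K) (hx : ∃ k, x ^ (p ^ k) = 1)
    (hy : Nat.Coprime (orderOf y) p) : x * y = y * x := by
  have hpp : p.Prime := Fact.out
  have htop : (Subgroup.centralizer ({x} : Set K)).subgroupOf (Subgroup.zpowers y) = ⊤ := by
    rw [eq_top_iff, ← Cfsg.Agent.helper7.iSup_sylow_eq_top (Subgroup.zpowers y)]
    refine iSup_le fun q => iSup_le fun Q => ?_
    intro u hu
    haveI : Fact q.1.Prime := ⟨q.2⟩
    rw [Subgroup.mem_subgroupOf, Subgroup.mem_centralizer_iff]
    intro h hh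
    rw [Set.mem_singleton_iff] at hh
    rw [hh]
    obtain ⟨j, hj⟩ := Q.isPGroup' ⟨u, hu⟩
    have huj : (u : K) ^ (q.1 ^ j) = 1 := by
      have h1 := congrArg Subtype.val hj
      have h2 := congrArg Subtype.val h1
      simpa using h2
    by_cases hqp : q.1 = p
    · have hu1 : (u : K) = 1 := by
        rw [hqp] at huj
        refine eq_one_of_pow_of_not_dvd hpp (Subgroup.zpowers y) ?_ u.2 huj
        rw [Nat.card_zpowers]
        exact fun hdvd => (Nat.Prime.coprime_iff_not_dvd hpp).1 hy.symm hdvd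
      rw [hu1, mul_one, one_mul]
    · exact commute_of_nilpotent hK (Ne.symm hqp) x (u : K) hx ⟨j, huj⟩
  have hy' : (⟨y, Subgroup.mem_zpowers y⟩ : Subgroup.zpowers y) ∈
      (⊤ : Subgroup (Subgroup.zpowers y)) := Subgroup.mem_top _
  rw [← htop, Subgroup.mem_subgroupOf, Subgroup.mem_centralizer_iff] at hy'
  exact hy' x rfl

theorem commute_of_nilpotent_coprime_subgroup [Finite G] (Y : Subgroup G)
    (hY : Group.IsNilpotent Y) {p : ℕ} [Fact p.Prime] {x y : G} (hxY : x ∈ Y) (hyY : y ∈ Y)
    (hx : ∃ k, x ^ (p ^ k) = 1) (hy : Nat.Coprime (orderOf y) p) : x * y = y * x := by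
  have h := commute_of_nilpotent_coprime hY (⟨x, hxY⟩ : Y) ⟨y, hyY⟩
    (by obtain ⟨k, hk⟩ := hx; exact ⟨k, Subtype.ext (by simpa using hk)⟩)
    (by rw [Subgroup.orderOf_mk]; exact hy)
  exact congrArg Subtype.val h

theorem exists_central_order_p {H : Type*} [Group H] [Finite H] {p : ℕ} [Fact p.Prime]
    (hP : IsPGroup p H) [Nontrivial H] :
    ∃ z : H, z ∈ Subgroup.center H ∧ orderOf z = p := by
  have h1 : Nontrivial (Subgroup.center H) := hP.center_nontrivial
  obtain ⟨k, hk, hcard⟩ :=
    (IsPGroup.nontrivial_iff_card (hP.to_subgroup (Subgroup.center H))).1 h1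
  have hdvd : p ∣ Nat.card (Subgroup.center H) := by rw [hcard]; exact dvd_pow_self p hk.ne'
  obtain ⟨x, hx⟩ := exists_prime_orderOf_dvd_card' p hdvd
  exact ⟨x.1, x.2, by rw [← hx]; exact Subgroup.orderOf_coe x⟩

theorem le_of_sup_eq_top {A B M : Subgroup G}
    (hset : ((A ⊔ B : Subgroup G) : Set G) = (A : Set G) * (B : Set G))
    (hBM : B ≤ M) (hAM : A ⊓ M = ⊥) (htop : A ⊔ B = ⊤) : M ≤ B := by
  intro m hm
  have h1 : m ∈ ((A ⊔ B : Subgroup G) : Set G) := by rw [htop]; exact Subgroup.mem_top m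
  rw [hset] at h1
  obtain ⟨a, ha, b, hb, rfl⟩ := h1
  beta_reduce at hm ⊢
  have ha' : a ∈ M := by
    have h2 := M.mul_mem hm (M.inv_mem (hBM hb))
    rwa [mul_inv_cancel_right] at h2
  have h3 : a ∈ A ⊓ M := Subgroup.mem_inf.2 ⟨ha, ha'⟩
  rw [hAM, Subgroup.mem_bot] at h3
  rw [h3, one_mul]; exact hb

theorem forward [Finite G] (p : ℕ) [Fact p.Prime] (hpG : p ∣ Nat.card G)
    (hyp : ∀ M : Subgroup G, IsCoatom M → p ∣ Nat.card M → Group.IsNilpotent M)
    (hnil : ¬ Group.IsNilpotent G) (hmnn : ¬ Cfsg.IsMinimalNonNilpotent G) :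
    ∃ Z K : Subgroup G, Z.Normal ∧ K.Normal ∧ Z ⊓ K = ⊥ ∧ Z ⊔ K = ⊤ ∧ Nat.card Z = p ∧
          Cfsg.IsMinimalNonNilpotent K ∧ ¬ p ∣ Nat.card K := by
  have hpp : p.Prime := Fact.out
  have hkey : ∀ L : Subgroup G, L ≠ ⊤ → p ∣ Nat.card L → Group.IsNilpotent L := by
    intro L hL hpL
    rcases eq_top_or_exists_le_coatom L with h | ⟨M, hM, hLM⟩
    · exact absurd h hL
    · haveI := hyp M hM (hpL.trans (Subgroup.card_dvd_of_le hLM))
      exact Group.nilpotent_of_mulEquiv (Subgroup.subgroupOfEquivOfLe hLM)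
  obtain ⟨M0, hM0, hM0n⟩ : ∃ M0 : Subgroup G, IsCoatom M0 ∧ ¬ Group.IsNilpotent M0 := by
    by_contra hcon
    push Not at hcon
    apply hmnn
    refine ⟨hnil, fun L hL => ?_⟩
    rcases eq_top_or_exists_le_coatom L with h | ⟨M, hM, hLM⟩
    · exact absurd h hL
    · haveI := hcon M hM
      exact Group.nilpotent_of_mulEquiv (Subgroup.subgroupOfEquivOfLe hLM)
  have hpM0 : ¬ p ∣ Nat.card M0 := fun h => hM0n (hyp M0 hM0 h)
  have hcopM0 : Nat.Coprime p (Nat.card M0) := (Nat.Prime.coprime_iff_not_dvd hpp).2 hpM0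
  -- a `p`-subgroup meets `M0` trivially
  have hinf : ∀ A : Subgroup G, IsPGroup p A → A ⊓ M0 = ⊥ := by
    intro A hA
    obtain ⟨k, hk⟩ := IsPGroup.iff_card.1 hA
    apply Subgroup.inf_eq_bot_of_coprime
    rw [hk]
    exact Nat.Coprime.pow_left k hcopM0
  -- a subgroup properly containing `M0` is everything
  have hM0top : ∀ A : Subgroup G, ¬ A ≤ M0 → A ⊔ M0 = ⊤ := by
    intro A hA
    by_contra hne
    have hlt : M0 < A ⊔ M0 := by
      refine lt_of_le_of_ne le_sup_right ?_
      intro heq
      apply hA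
      rw [heq]; exact le_sup_left
    exact hne (hM0.2 _ hlt)
  -- a nontrivial `p`-subgroup is not inside `M0`
  have hnotle : ∀ A : Subgroup G, IsPGroup p A → A ≠ ⊥ → ¬ A ≤ M0 := by
    intro A hA hne hle
    apply hne
    rw [← hinf A hA]
    exact (inf_of_le_left hle).symm
  -- a nontrivial `p`-subgroup has order divisible by `p`
  have hpdvd : ∀ A : Subgroup G, IsPGroup p A → A ≠ ⊥ → p ∣ Nat.card A := by
    intro A hA hne
    obtain ⟨k, hk⟩ := IsPGroup.iff_card.1 hA
    rcases k with _ | k
    · rw [pow_zero] at hk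
      exact absurd (Subgroup.card_eq_one.1 hk) hne
    · rw [hk]; exact dvd_pow_self p (Nat.succ_ne_zero k)
  -- Step 3: a nontrivial normal `p`-subgroup exists
  have hexH : ∃ H : Subgroup G, H.Normal ∧ IsPGroup p H ∧ H ≠ ⊥ := by
    by_contra hno
    push Not at hno
    have hF : Cfsg.Agent.lead.FrobCond p G := by
      intro Q hQ g hg hcop
      rw [Subgroup.mem_centralizer_iff]
      intro h hh
      by_cases hQb : Q = ⊥
      · rw [hQb] at hh
        have : h = 1 := by simpa using hh
        rw [this, one_mul, mul_one]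
      · have hNne : Subgroup.normalizer (Q : Set G) ≠ ⊤ := by
          intro htop
          have hQn : Q.Normal := Subgroup.normalizer_eq_top_iff.1 htop
          exact hQb (hno Q hQn hQ)
        have hpN : p ∣ Nat.card (Subgroup.normalizer (Q : Set G)) :=
          (hpdvd Q hQ hQb).trans (Subgroup.card_dvd_of_le Subgroup.le_normalizer)
        have hNnil := hkey _ hNne hpN
        obtain ⟨k, hk⟩ := hQ ⟨h, hh⟩
        have hk' : h ^ (p ^ k) = 1 := by simpa using congrArg Subtype.val hk
        exact commute_of_nilpotent_coprime_subgroup _ hNnil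
          (Subgroup.le_normalizer hh) hg ⟨k, hk'⟩ hcop
    obtain ⟨P⟩ : Nonempty (Sylow p G) := inferInstance
    obtain ⟨hKn, hKc⟩ := Cfsg.Agent.S0071.complement_of_frobCond hF P
    set K := Cfsg.pResidual p G with hKdef
    have hcardK : Nat.card K = (P : Subgroup G).index := by
      have h1 := hKc.card_mul
      have h2 := (P : Subgroup G).card_mul_index
      have hpos : 0 < Nat.card (P : Subgroup G) := Nat.card_pos
      rw [← h2, mul_comm] at h1
      exact Nat.eq_of_mul_eq_mul_left hpos h1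
    have hpK : ¬ p ∣ Nat.card K := by
      rw [hcardK]; exact P.not_dvd_index
    have hM0K : M0 ≤ K := by
      intro m hm
      rw [hKdef, Cfsg.pResidual]
      apply Subgroup.subset_closure
      show Nat.Coprime (orderOf m) p
      have h1 : orderOf m ∣ Nat.card M0 := Subgroup.orderOf_dvd_natCard M0 hm
      exact (Nat.Coprime.coprime_dvd_right h1 hcopM0).symm
    have hKne : K ≠ ⊤ := by
      intro htop
      apply hpK
      rw [htop, Subgroup.card_top]; exact hpG
    have hKM0 : K = M0 := by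
      by_contra hne
      have hlt : M0 < K := lt_of_le_of_ne hM0K (Ne.symm hne)
      exact hKne (hM0.2 _ hlt)
    haveI hM0normal : M0.Normal := hKM0 ▸ hKn
    obtain ⟨x, hx⟩ := exists_prime_orderOf_dvd_card' p hpG
    have hXcard : Nat.card (Subgroup.zpowers x) = p := by rw [Nat.card_zpowers, hx]
    have hXp : IsPGroup p (Subgroup.zpowers x) :=
      IsPGroup.of_card (n := 1) (by rw [hXcard, pow_one])
    have hx1 : x ≠ 1 := by
      intro h
      rw [h, orderOf_one] at hx
      exact hpp.one_lt.ne hx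
    have hXne : Subgroup.zpowers x ≠ ⊥ := by
      intro h
      rw [Subgroup.zpowers_eq_bot] at h
      exact hx1 h
    have hxp : x ^ (p ^ 1) = 1 := by rw [pow_one, ← hx]; exact pow_orderOf_eq_one x
    have hXM0 : Subgroup.zpowers x ≤ Subgroup.normalizer (M0 : Set G) := by
      rw [Subgroup.normalizer_eq_top_iff.2 hM0normal]; exact le_top
    -- x centralizes an invariant Sylow subgroup for each prime
    have hcent : M0 ≤ Subgroup.centralizer ((Subgroup.zpowers x : Subgroup G) : Set G) := by
      have hD : Subgroup.centralizer ((Subgroup.zpowers x : Subgroup G) : Set G) ⊓ M0 = M0 := by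
        apply Subgroup.eq_of_le_of_card_ge inf_le_right
        apply Nat.le_of_dvd Nat.card_pos
        rw [Nat.dvd_iff_prime_pow_dvd_dvd]
        intro q k hq hqk
        haveI : Fact q.Prime := ⟨hq⟩
        obtain ⟨S, -, hSM0, hSq, hScard, hXS⟩ :=
          Cfsg.Agent.helper7.exists_invariant_sylow_ge (A := Subgroup.zpowers x) (K := M0)
            (R := ⊥) (q := q) hXp hpM0 hXM0 bot_le IsPGroup.of_bot
            (by rw [Subgroup.normalizer_eq_top_iff.2 Subgroup.normal_bot]; exact le_top)
        have hSle : S ≤ Subgroup.centralizer ((Subgroup.zpowers x : Subgroup G) : Set G) ⊓ M0 := by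
          refine le_inf ?_ hSM0
          intro s hs
          rw [Subgroup.mem_centralizer_iff]
          intro h hh
          obtain ⟨j, hj⟩ := hSq ⟨s, hs⟩
          have hj' : s ^ (q ^ j) = 1 := by simpa using congrArg Subtype.val hj
          -- the subgroup ⟨x⟩ S
          have hYne : Subgroup.zpowers x ⊔ S ≠ ⊤ := by
            intro htop
            have hle := le_of_sup_eq_top
              (Subgroup.coe_mul_of_left_le_normalizer_right (Subgroup.zpowers x) S hXS)
              hSM0 (hinf _ hXp) htop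
            have hSeq : S = M0 := le_antisymm hSM0 hle
            apply hM0n
            rw [← hSeq]
            exact hSq.isNilpotent
          have hYp : p ∣ Nat.card ((Subgroup.zpowers x ⊔ S : Subgroup G)) := by
            rw [← hXcard]; exact Subgroup.card_dvd_of_le le_sup_left
          have hYnil := hkey _ hYne hYp
          obtain ⟨i, rfl⟩ := Subgroup.mem_zpowers_iff.1 hh
          have hxs : x * s = s * x := by
            by_cases hqp : q = p
            · have : s = 1 := by
                rw [hqp] at hj'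
                exact eq_one_of_pow_of_not_dvd hpp M0 hpM0 (hSM0 hs) hj'
              rw [this, mul_one, one_mul]
            · exact commute_of_nilpotent_subgroup _ hYnil (Ne.symm hqp)
                (le_sup_left (a := Subgroup.zpowers x) (b := S) (Subgroup.mem_zpowers x))
                (le_sup_right (a := Subgroup.zpowers x) (b := S) hs) ⟨1, hxp⟩ ⟨j, hj'⟩
          exact ((Commute.zpow_left hxs i).eq)
        have h1 : q ^ k ∣ Nat.card S := by
          rw [hScard]
          exact pow_dvd_pow q ((hq.pow_dvd_iff_le_factorization Nat.card_pos.ne').1 hqk)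
        exact h1.trans (Subgroup.card_dvd_of_le hSle)
      rw [← hD]; exact inf_le_left
    -- hence ⟨x⟩ is central, a contradiction
    have hXcentral : Subgroup.centralizer ((Subgroup.zpowers x : Subgroup G) : Set G) = ⊤ := by
      rw [eq_top_iff, ← hM0top (Subgroup.zpowers x) (hnotle _ hXp hXne)]
      refine sup_le ?_ hcent
      intro u hu
      rw [Subgroup.mem_centralizer_iff]
      intro h hh
      obtain ⟨i, rfl⟩ := Subgroup.mem_zpowers_iff.1 hh
      obtain ⟨j, rfl⟩ := Subgroup.mem_zpowers_iff.1 hu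
      exact ((Commute.refl x).zpow_zpow i j).eq
    have hXn : (Subgroup.zpowers x).Normal := by
      constructor
      intro n hn g
      have h1 : g⁻¹ ∈ Subgroup.centralizer ((Subgroup.zpowers x : Subgroup G) : Set G) := by
        rw [hXcentral]; exact Subgroup.mem_top _
      have h2 := Subgroup.mem_centralizer_iff.1 h1 n hn
      have h3 : g * n * g⁻¹ = n := by
        rw [mul_assoc, h2, ← mul_assoc, mul_inv_cancel, one_mul]
      rw [h3]; exact hn
    exact hXne (hno _ hXn hXp)
  -- Step 4
  obtain ⟨H, hHn, hHp, hHne⟩ := hexH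
  have hHM0 : H ⊓ M0 = ⊥ := hinf H hHp
  have hHtop : H ⊔ M0 = ⊤ := hM0top H (hnotle H hHp hHne)
  -- M0 centralizes H
  have hM0cent : M0 ≤ Subgroup.centralizer (H : Set G) := by
    have htop : (Subgroup.centralizer (H : Set G)).subgroupOf M0 = ⊤ := by
      rw [eq_top_iff, ← Cfsg.Agent.helper7.iSup_sylow_eq_top M0]
      refine iSup_le fun q => iSup_le fun Q => ?_
      intro u hu
      haveI : Fact q.1.Prime := ⟨q.2⟩
      rw [Subgroup.mem_subgroupOf, Subgroup.mem_centralizer_iff]
      intro h hh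
      obtain ⟨j, hj⟩ := Q.isPGroup' ⟨u, hu⟩
      have huj : (u : G) ^ (q.1 ^ j) = 1 := by
        have h1 := congrArg Subtype.val hj
        have h2 := congrArg Subtype.val h1
        simpa using h2
      by_cases hqp : q.1 = p
      · have hu1 : (u : G) = 1 := by
          rw [hqp] at huj
          exact eq_one_of_pow_of_not_dvd hpp M0 hpM0 u.2 huj
        rw [hu1, mul_one, one_mul]
      · have hzq : IsPGroup q.1 (Subgroup.zpowers (u : G)) := by
          obtain ⟨i, _, hi⟩ := (Nat.dvd_prime_pow q.2).1 (orderOf_dvd_of_pow_eq_one huj)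
          exact IsPGroup.of_card (n := i) (by rw [Nat.card_zpowers, hi])
        have hYne : H ⊔ Subgroup.zpowers (u : G) ≠ ⊤ := by
          intro htop
          have hle := le_of_sup_eq_top (Subgroup.normal_mul H (Subgroup.zpowers (u : G)))
            (by rw [Subgroup.zpowers_le]; exact u.2) hHM0 htop
          have hSeq : Subgroup.zpowers (u : G) = M0 :=
            le_antisymm (by rw [Subgroup.zpowers_le]; exact u.2) hle
          apply hM0n
          rw [← hSeq]
          exact hzq.isNilpotent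
        have hYp : p ∣ Nat.card ((H ⊔ Subgroup.zpowers (u : G) : Subgroup G)) :=
          (hpdvd H hHp hHne).trans (Subgroup.card_dvd_of_le le_sup_left)
        have hYnil := hkey _ hYne hYp
        obtain ⟨k, hk⟩ := hHp ⟨h, hh⟩
        have hk' : h ^ (p ^ k) = 1 := by simpa using congrArg Subtype.val hk
        exact commute_of_nilpotent_subgroup _ hYnil (Ne.symm hqp)
          (le_sup_left (a := H) (b := Subgroup.zpowers (u : G)) hh)
          (le_sup_right (a := H) (b := Subgroup.zpowers (u : G)) (Subgroup.mem_zpowers _))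
          ⟨k, hk'⟩ ⟨j, huj⟩
    intro m hm
    have h1 : (⟨m, hm⟩ : M0) ∈ (⊤ : Subgroup M0) := Subgroup.mem_top _
    rw [← htop, Subgroup.mem_subgroupOf] at h1
    exact h1
  -- a central element of order p
  haveI : Nontrivial H := by
    rw [← Subgroup.nontrivial_iff_ne_bot] at hHne
    exact hHne
  obtain ⟨z, hzc, hzo⟩ := exists_central_order_p hHp
  have hz1 : (z : G) ≠ 1 := by
    intro h
    have : z = 1 := Subtype.ext h
    rw [this, orderOf_one] at hzo
    exact hpp.one_lt.ne hzo
  have hzo' : orderOf (z : G) = p := by rw [Subgroup.orderOf_coe]; exact hzo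
  have hzcentral : ∀ g : G, g * (z : G) = (z : G) * g := by
    have hC : Subgroup.centralizer ({(z : G)} : Set G) = ⊤ := by
      rw [eq_top_iff, ← hHtop]
      refine sup_le ?_ ?_
      · intro h hh
        rw [Subgroup.mem_centralizer_iff]
        intro t ht
        rw [Set.mem_singleton_iff] at ht
        rw [ht]
        have h1 := Subgroup.mem_center_iff.1 hzc ⟨h, hh⟩
        exact (congrArg Subtype.val h1).symm
      · intro m hm
        rw [Subgroup.mem_centralizer_iff]
        intro t ht
        rw [Set.mem_singleton_iff] at ht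
        rw [ht]
        exact Subgroup.mem_centralizer_iff.1 (hM0cent hm) z z.2
    intro g
    have h1 : g ∈ Subgroup.centralizer ({(z : G)} : Set G) := by rw [hC]; exact Subgroup.mem_top g
    exact (Subgroup.mem_centralizer_iff.1 h1 z rfl).symm
  set Z := Subgroup.zpowers (z : G) with hZdef
  have hZcard : Nat.card Z = p := by rw [Nat.card_zpowers, hzo']
  have hZp : IsPGroup p Z := IsPGroup.of_card (n := 1) (by rw [hZcard, pow_one])
  have hZne : Z ≠ ⊥ := by
    intro h
    rw [hZdef, Subgroup.zpowers_eq_bot] at h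
    exact hz1 h
  have hZcentral : ∀ t ∈ Z, ∀ g : G, g * t = t * g := by
    intro t ht g
    obtain ⟨i, rfl⟩ := Subgroup.mem_zpowers_iff.1 ht
    exact ((Commute.zpow_right (hzcentral g) i).eq)
  have hZn : Z.Normal := by
    constructor
    intro n hn g
    have h3 : g * n * g⁻¹ = n := by
      rw [hZcentral n hn g, mul_assoc, mul_inv_cancel, mul_one]
    rw [h3]; exact hn
  have hZM0 : Z ⊓ M0 = ⊥ := hinf Z hZp
  have hZtop : Z ⊔ M0 = ⊤ := hM0top Z (hnotle Z hZp hZne)
  have hM0n' : M0.Normal := by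
    rw [← Subgroup.normalizer_eq_top_iff, eq_top_iff, ← hZtop]
    refine sup_le ?_ Subgroup.le_normalizer
    intro t ht
    rw [Subgroup.mem_normalizer_iff]
    intro m
    have h3 : t * m * t⁻¹ = m := by
      rw [← hZcentral t ht m, mul_assoc, mul_inv_cancel, mul_one]
    rw [h3]
  refine ⟨Z, M0, hZn, hM0n', hZM0, hZtop, hZcard, ⟨hM0n, ?_⟩, hpM0⟩
  intro L' hL'
  -- L' proper in M0
  set L := L'.map M0.subtype with hLdef
  have hLM0 : L ≤ M0 := Subgroup.map_subtype_le L'
  have hLne : L ≠ M0 := by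
    intro heq
    apply hL'
    have h1 : L'.map M0.subtype = (⊤ : Subgroup M0).map M0.subtype := by
      rw [← hLdef, heq, ← MonoidHom.range_eq_map, Subgroup.range_subtype]
    exact Subgroup.map_injective (Subgroup.subtype_injective M0) h1
  have hYne : Z ⊔ L ≠ ⊤ := by
    intro htop
    have hle := le_of_sup_eq_top (Subgroup.normal_mul Z L) hLM0 hZM0 htop
    exact hLne (le_antisymm hLM0 hle)
  have hYp : p ∣ Nat.card ((Z ⊔ L : Subgroup G)) := by
    rw [← hZcard]; exact Subgroup.card_dvd_of_le le_sup_left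
  haveI hYnil := hkey _ hYne hYp
  haveI : Group.IsNilpotent L :=
    Group.nilpotent_of_mulEquiv (Subgroup.subgroupOfEquivOfLe (le_sup_right : L ≤ Z ⊔ L))
  exact Group.nilpotent_of_mulEquiv
    (Subgroup.equivMapOfInjective L' M0.subtype (Subgroup.subtype_injective M0)).symm

theorem backward [Finite G] (p : ℕ) [Fact p.Prime]
    (Z K : Subgroup G) (hZn : Z.Normal) (hKn : K.Normal) (hZK : Z ⊓ K = ⊥) (hZKtop : Z ⊔ K = ⊤)
    (hZcard : Nat.card Z = p) (hK : Cfsg.IsMinimalNonNilpotent K) (hpK : ¬ p ∣ Nat.card K)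
    (M : Subgroup G) (hM : IsCoatom M) (hpM : p ∣ Nat.card M) : Group.IsNilpotent M := by
  have hpp : p.Prime := Fact.out
  have hZp : IsPGroup p Z := IsPGroup.of_card (n := 1) (by rw [hZcard, pow_one])
  have hdisj : Disjoint Z K := disjoint_iff.2 hZK
  -- every element is a product
  have hprod : ∀ g : G, ∃ z ∈ Z, ∃ k ∈ K, g = z * k := by
    intro g
    have h1 : g ∈ ((Z ⊔ K : Subgroup G) : Set G) := by rw [hZKtop]; exact Subgroup.mem_top g
    rw [Subgroup.normal_mul Z K] at h1
    obtain ⟨z, hz, k, hk, rfl⟩ := h1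
    exact ⟨z, hz, k, hk, rfl⟩
  haveI : IsCyclic Z := isCyclic_of_prime_card hZcard
  -- Z is central
  have hZcentral : ∀ t ∈ Z, ∀ g : G, g * t = t * g := by
    intro t ht g
    obtain ⟨z, hz, k, hk, rfl⟩ := hprod g
    have h1 : z * t = t * z := by
      have h2 := (IsCyclic.isMulCommutative (α := Z)).is_comm.comm ⟨z, hz⟩ ⟨t, ht⟩
      exact congrArg Subtype.val h2
    have h2 : t * k = k * t := (Subgroup.commute_of_normal_of_disjoint Z K hZn hKn hdisj t k ht hk).eq
    calc z * k * t = z * (k * t) := mul_assoc _ _ _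
      _ = z * (t * k) := by rw [h2]
      _ = (z * t) * k := (mul_assoc _ _ _).symm
      _ = (t * z) * k := by rw [h1]
      _ = t * (z * k) := mul_assoc _ _ _
  -- Z ≤ M
  have hZM : Z ≤ M := by
    obtain ⟨y, hy⟩ := exists_prime_orderOf_dvd_card' p hpM
    have hy' : orderOf (y : G) = p := by rw [Subgroup.orderOf_coe]; exact hy
    obtain ⟨z, hz, k, hk, hyzk⟩ := hprod (y : G)
    have hzk : z * k = k * z := (hZcentral z hz k).symm
    have hyp1 : (y : G) ^ p = 1 := by rw [← hy']; exact pow_orderOf_eq_one _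
    have hzp : z ^ p = 1 := by
      have h1 : (⟨z, hz⟩ : Z) ^ p = 1 := by rw [← hZcard]; exact pow_card_eq_one'
      simpa using congrArg Subtype.val h1
    have hkp : k ^ (p ^ 1) = 1 := by
      rw [pow_one]
      have h1 : (z * k) ^ p = z ^ p * k ^ p := (Commute.mul_pow hzk p)
      rw [← hyzk, hyp1, hzp, one_mul] at h1
      exact h1.symm
    have hk1 : k = 1 := eq_one_of_pow_of_not_dvd hpp K hpK hk hkp
    rw [hk1, mul_one] at hyzk
    have hle : Subgroup.zpowers (y : G) ≤ Z := by
      rw [Subgroup.zpowers_le, hyzk]; exact hz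
    have heq : Subgroup.zpowers (y : G) = Z := by
      apply Subgroup.eq_of_le_of_card_ge hle
      rw [Nat.card_zpowers, hy', hZcard]
    rw [← heq, Subgroup.zpowers_le]
    exact y.2
  -- D = M ⊓ K is proper in K, hence nilpotent
  have hDne : M ⊓ K ≠ K := by
    intro heq
    have hKM : K ≤ M := by rw [← heq]; exact inf_le_left
    apply hM.1
    rw [eq_top_iff, ← hZKtop]
    exact sup_le hZM hKM
  haveI hDnil : Group.IsNilpotent (M ⊓ K : Subgroup G) := by
    have h1 : (M ⊓ K).subgroupOf K ≠ ⊤ := by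
      intro h
      rw [Subgroup.subgroupOf_eq_top] at h
      exact hDne (le_antisymm inf_le_right (le_inf (h.trans inf_le_left) le_rfl))
    haveI := hK.2 _ h1
    exact Group.nilpotent_of_mulEquiv (Subgroup.subgroupOfEquivOfLe (inf_le_right : M ⊓ K ≤ K))
  haveI hZnil : Group.IsNilpotent Z := hZp.isNilpotent
  -- the product map
  let φ : ↥Z × ↥(M ⊓ K : Subgroup G) →* ↥M :=
    { toFun := fun zd => ⟨zd.1.1 * zd.2.1, M.mul_mem (hZM zd.1.2) zd.2.2.1⟩
      map_one' := by
        apply Subtype.ext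
        simp
      map_mul' := by
        rintro ⟨z1, d1⟩ ⟨z2, d2⟩
        apply Subtype.ext
        have h1 : (d1 : G) * (z2 : G) = (z2 : G) * (d1 : G) := hZcentral z2 z2.2 d1
        show (z1 : G) * (z2 : G) * ((d1 : G) * (d2 : G)) = (z1 : G) * (d1 : G) * ((z2 : G) * (d2 : G))
        calc (z1 : G) * (z2 : G) * ((d1 : G) * (d2 : G))
            = (z1 : G) * ((z2 : G) * (d1 : G)) * (d2 : G) := by simp only [mul_assoc]
          _ = (z1 : G) * ((d1 : G) * (z2 : G)) * (d2 : G) := by rw [h1]
          _ = (z1 : G) * (d1 : G) * ((z2 : G) * (d2 : G)) := by simp only [mul_assoc] }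
  have hφ : Function.Surjective φ := by
    rintro ⟨m, hm⟩
    obtain ⟨z, hz, k, hk, rfl⟩ := hprod m
    have hkM : k ∈ M := by
      have h1 := M.mul_mem (M.inv_mem (hZM hz)) hm
      rwa [inv_mul_cancel_left] at h1
    exact ⟨(⟨z, hz⟩, ⟨k, Subgroup.mem_inf.2 ⟨hkM, hk⟩⟩), rfl⟩
  exact Group.nilpotent_of_surjective φ hφ

theorem result {G : Type*} [Group G] [Finite G] (p : ℕ) (hp : p.Prime) (hpG : p ∣ Nat.card G) :
    (∀ M : Subgroup G, IsCoatom M → p ∣ Nat.card M → Group.IsNilpotent M) ↔
      (Group.IsNilpotent G ∨ Cfsg.IsMinimalNonNilpotent G ∨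
        ∃ Z K : Subgroup G, Z.Normal ∧ K.Normal ∧ Z ⊓ K = ⊥ ∧ Z ⊔ K = ⊤ ∧ Nat.card Z = p ∧
          Cfsg.IsMinimalNonNilpotent K ∧ ¬ p ∣ Nat.card K) := by
  haveI : Fact p.Prime := ⟨hp⟩
  constructor
  · intro hyp
    by_cases hnil : Group.IsNilpotent G
    · exact Or.inl hnil
    by_cases hmnn : Cfsg.IsMinimalNonNilpotent G
    · exact Or.inr (Or.inl hmnn)
    exact Or.inr (Or.inr (forward p hpG hyp hnil hmnn))
  · rintro (hnil | hmnn | ⟨Z, K, hZn, hKn, hZK, hZKtop, hZcard, hK, hpK⟩) M hM hpM
    · haveI := hnil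
      infer_instance
    · exact hmnn.2 M hM.1
    · exact backward p Z K hZn hKn hZK hZKtop hZcard hK hpK M hM hpM

end Cfsg.Agent.S4242
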