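import Cfsg.Statements.S4244

set_option autoImplicit false
open Cfsg

namespace Cfsg.Agent.S4244

theorem normal_case {M : Type*} [Group M] [Finite M] (N K : Subgroup M) [N.Normal] :
    K.relIndex N ∣ K.index := by
  have h1 : N.relIndex K * K.index = (N ⊓ K).index := by
    simpa using Subgroup.relIndex_inf_mul_relIndex N K ⊤
  have h2 : K.relIndex N * N.index = (K ⊓ N).index := by
    simpa using Subgroup.relIndex_inf_mul_relIndex K N ⊤
  obtain ⟨m, hm⟩ := Subgroup.relIndex_dvd_index_of_normal N K
  rw [inf_comm, ← h1, hm] at h2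
  have hpos : 0 < N.relIndex K := Nat.pos_of_ne_zero Subgroup.index_ne_zero_of_finite
  refine ⟨m, ?_⟩
  apply Nat.eq_of_mul_eq_mul_left hpos
  rw [← h2]; ring

theorem result {G : Type*} [Group G] [Finite G] (H : Subgroup G) (hH : H.IsSubnormal) (K : Subgroup G) :
    (H ⊓ K).relIndex H ∣ K.index := by
  induction hH generalizing K with
  | top => simp
  | step H M hle hM hN ih =>
    rw [Subgroup.inf_relIndex_left]
    have h1 : (K.subgroupOf M).relIndex (H.subgroupOf M) = K.relIndex H := Subgroup.relIndex_subgroupOf hle
    rw [← h1]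
    have := hN
    refine (normal_case (H.subgroupOf M) (K.subgroupOf M)).trans ?_
    have := ih K
    rw [inf_comm, Subgroup.inf_relIndex_right] at this
    exact this

end Cfsg.Agent.S4244
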