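import Cfsg.Statements.S4249
import Cfsg.Agent.S3946
import Mathlib

set_option autoImplicit false
set_option linter.style.haveILetI false
set_option linter.unusedSectionVars false
open Cfsg

namespace Cfsg.Agent.S4249

variable {G : Type*} [Group G]

theorem hughes_normal (p : ℕ) : (Subgroup.closure {g : G | g ^ p ≠ 1}).Normal := by
  constructor
  intro n hn g
  have hle : Subgroup.closure {g : G | g ^ p ≠ 1} ≤
      (Subgroup.closure {g : G | g ^ p ≠ 1}).comap (MulAut.conj g).toMonoidHom := by
    rw [Subgroup.closure_le]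
    intro s hs
    show g * s * g⁻¹ ∈ Subgroup.closure {g : G | g ^ p ≠ 1}
    apply Subgroup.subset_closure
    show (g * s * g⁻¹) ^ p ≠ 1
    rw [conj_pow]
    intro h
    exact hs (conj_eq_one_iff.1 h)
  have := hle hn
  simpa [MulAut.conj_apply] using this

theorem list_prod_conj (x h : G) : ∀ n : ℕ,
    ((List.range n).map (fun i : ℕ => x ^ i * h * (x ^ i)⁻¹)).prod = (h * x) ^ n * (x ^ n)⁻¹ := by
  intro n
  induction n with
  | zero => simp
  | succ n ih =>
    rw [List.range_succ, List.map_append, List.prod_append, ih, List.map_singleton,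
      List.prod_singleton, pow_succ (h * x), pow_succ x]
    group

/-- centre element of order a power of `q` in a finite nilpotent group -/
theorem exists_center_elt (K : Type*) [Group K] [Finite K] (hnil : Group.IsNilpotent K) (q : ℕ)
    [hq : Fact q.Prime] (hqK : q ∣ Nat.card K) :
    ∃ c ∈ Subgroup.center K, c ≠ 1 ∧ ∃ m : ℕ, c ^ (q ^ m) = 1 := by
  let Q : Sylow q K := default
  have hQn : (Q : Subgroup K).Normal := inferInstance
  have hQne : (Q : Subgroup K) ≠ ⊥ := Sylow.ne_bot_of_dvd_card Q hqK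
  haveI : Nontrivial (Q : Subgroup K) := (Subgroup.nontrivial_iff_ne_bot _).2 hQne
  have hQp : IsPGroup q (Q : Subgroup K) := Q.2
  haveI := IsPGroup.center_nontrivial hQp
  obtain ⟨⟨c, hc⟩, hc1⟩ := exists_ne (1 : Subgroup.center (Q : Subgroup K))
  refine ⟨(c : K), ?_, ?_, ?_⟩
  · -- central
    have hCtop : Subgroup.centralizer ({(c : K)} : Set K) = ⊤ := by
      rw [← Subgroup.index_eq_one, Nat.eq_one_iff_not_exists_prime_dvd]
      intro r hr hdvd
      haveI : Fact r.Prime := ⟨hr⟩
      by_cases hrq : r = q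
      · subst hrq
        have hle : (Q : Subgroup K) ≤ Subgroup.centralizer ({(c : K)} : Set K) := by
          intro k hk
          rw [Subgroup.mem_centralizer_singleton_iff]
          have := Subgroup.mem_center_iff.1 hc ⟨k, hk⟩
          have h2 := congrArg Subtype.val this
          simpa using h2
        exact Q.not_dvd_index (hdvd.trans (Subgroup.index_dvd_of_le hle))
      · let R : Sylow r K := default
        have hRn : (R : Subgroup K).Normal := inferInstance
        have hdis : Disjoint (R : Subgroup K) (Q : Subgroup K) :=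
          IsPGroup.disjoint_of_ne r q hrq _ _ R.2 Q.2
        have hle : (R : Subgroup K) ≤ Subgroup.centralizer ({(c : K)} : Set K) := by
          intro k hk
          rw [Subgroup.mem_centralizer_singleton_iff]
          have := Subgroup.commute_of_normal_of_disjoint _ _ hRn hQn hdis k (c : K) hk c.2
          exact this.eq
        exact R.not_dvd_index (hdvd.trans (Subgroup.index_dvd_of_le hle))
    rw [Subgroup.mem_center_iff]
    intro k
    have hk : k ∈ Subgroup.centralizer ({(c : K)} : Set K) := by rw [hCtop]; trivial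
    rw [Subgroup.mem_centralizer_singleton_iff] at hk
    exact hk
  · intro h
    apply hc1
    apply Subtype.ext
    apply Subtype.ext
    simpa using h
  · obtain ⟨m, hm⟩ := hQp c
    refine ⟨m, ?_⟩
    have := congrArg Subtype.val hm
    simpa using this


section Main

open scoped IsMulCommutative

variable (H : Subgroup G) [hHn : H.Normal]

/-- conjugation by `g` on the centre of `H` -/
def cen (g : G) : Subgroup.center ↥H →* Subgroup.center ↥H where
  toFun c := ⟨MulAut.conjNormal g (c : ↥H), by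
    rw [Subgroup.mem_center_iff]
    intro h
    have hc := Subgroup.mem_center_iff.1 c.2 ((MulAut.conjNormal g)⁻¹ h)
    have := congrArg (MulAut.conjNormal g) hc
    simpa using this⟩
  map_one' := by ext; simp
  map_mul' a b := by ext; simp

theorem cen_val (g : G) (c : Subgroup.center ↥H) :
    (((cen H g c : Subgroup.center ↥H) : ↥H) : G) = g * ((c : ↥H) : G) * g⁻¹ := by
  simp [cen]

/-- the same as an additive endomorphism -/
def Fr (g : G) : AddMonoid.End (Additive (Subgroup.center ↥H)) :=
  show Additive (Subgroup.center ↥H) →+ Additive (Subgroup.center ↥H) from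
    MonoidHom.toAdditive (cen H g)

theorem Fr_apply (g : G) (a : Additive (Subgroup.center ↥H)) :
    Fr H g a = Additive.ofMul (cen H g (Additive.toMul a)) := rfl

theorem Fr_val (g : G) (a : Additive (Subgroup.center ↥H)) :
    (((Additive.toMul (Fr H g a) : Subgroup.center ↥H) : ↥H) : G) =
      g * (((Additive.toMul a : Subgroup.center ↥H) : ↥H) : G) * g⁻¹ := by
  rw [Fr_apply, toMul_ofMul, cen_val]

theorem val_inj (a b : Additive (Subgroup.center ↥H))
    (h : (((Additive.toMul a : Subgroup.center ↥H) : ↥H) : G) =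
      (((Additive.toMul b : Subgroup.center ↥H) : ↥H) : G)) : a = b := by
  apply Additive.toMul.injective
  apply Subtype.ext
  apply Subtype.ext
  exact h

def F : G →* AddMonoid.End (Additive (Subgroup.center ↥H)) where
  toFun g := Fr H g
  map_one' := by
    apply AddMonoid.End.ext
    intro a
    apply val_inj
    rw [Fr_val]
    simp
  map_mul' g g' := by
    apply AddMonoid.End.ext
    intro a
    apply val_inj
    rw [AddMonoid.End.coe_mul, Function.comp_apply, Fr_val, Fr_val, Fr_val]
    group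

theorem F_val (g : G) (a : Additive (Subgroup.center ↥H)) :
    (((Additive.toMul (F H g a) : Subgroup.center ↥H) : ↥H) : G) =
      g * (((Additive.toMul a : Subgroup.center ↥H) : ↥H) : G) * g⁻¹ := Fr_val H g a

theorem F_of_mem (h : G) (hh : h ∈ H) : F H h = 1 := by
  apply AddMonoid.End.ext
  intro a
  apply val_inj
  rw [F_val, AddMonoid.End.coe_one, id]
  have hc := Subgroup.mem_center_iff.1 (Additive.toMul a).2 ⟨h, hh⟩
  have h2 := congrArg Subtype.val hc
  simp only [Subgroup.coe_mul] at h2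
  rw [h2]
  simp

theorem key (p : ℕ) (hout : ∀ x : G, x ∉ H → x ^ p = 1) (x : G) (hx : x ∉ H) :
    ((p : ℕ) : AddMonoid.End (Additive (Subgroup.center ↥H))) *
      ∑ i ∈ Finset.range p, (F H x) ^ i = 0 := by
  have hXp : (F H x) ^ p = 1 := by rw [← map_pow, hout x hx, map_one]
  have hgs := mul_geom_sum (F H x) p
  rw [hXp, sub_self, sub_mul, one_mul, sub_eq_zero] at hgs
  apply AddMonoid.End.ext
  intro a
  rw [AddMonoid.End.coe_mul, Function.comp_apply, AddMonoid.End.natCast_apply]
  have hfix : F H x ((∑ i ∈ Finset.range p, (F H x) ^ i) a) =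
      (∑ i ∈ Finset.range p, (F H x) ^ i) a := by
    conv_rhs => rw [← hgs]
    rfl
  generalize (∑ i ∈ Finset.range p, (F H x) ^ i) a = b at hfix
  have hv := F_val H x b
  rw [hfix] at hv
  set u : G := (((Additive.toMul b : Subgroup.center ↥H) : ↥H) : G) with hu
  have huH : u ∈ H := (Additive.toMul b : Subgroup.center ↥H).1.2
  have hcomm : Commute u x := by
    show u * x = x * u
    conv_lhs => rw [hv]
    group
  have hux : u * x ∉ H := by
    intro h
    apply hx
    have := H.mul_mem (H.inv_mem huH) h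
    simpa using this
  have h1 := hout _ hux
  rw [hcomm.mul_pow, hout x hx, mul_one] at h1
  apply val_inj
  show (((Additive.toMul (p • b) : Subgroup.center ↥H) : ↥H) : G) = _
  rw [toMul_nsmul]
  simp only [Subgroup.coe_pow, toMul_zero, Subgroup.coe_one]
  exact h1

theorem psq_zero (p : ℕ) (hp : p.Prime) (hout : ∀ x : G, x ∉ H → x ^ p = 1)
    (y z : G) (hz : z ∉ H) (hyz : ∀ k : ℕ, y * z ^ k ∉ H)
    (hc : ∃ c₀ ∈ H, y * z = z * y * c₀) :
    ((p : ℕ) : AddMonoid.End (Additive (Subgroup.center ↥H))) * ((p : ℕ) :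
      AddMonoid.End (Additive (Subgroup.center ↥H))) = 0 := by
  have hYZ : Commute (F H y) (F H z) := by
    obtain ⟨c₀, hc₀, hyzc⟩ := hc
    show F H y * F H z = F H z * F H y
    rw [← map_mul, hyzc, map_mul, map_mul, F_of_mem H c₀ hc₀, mul_one]
  have hzj : ∀ j, 0 < j → j < p → z ^ j ∉ H := by
    intro j hj0 hjp hmem
    have hcop : Nat.Coprime j p :=
      Nat.Coprime.symm ((Nat.Prime.coprime_iff_not_dvd hp).2 (Nat.not_dvd_of_pos_of_lt hj0 hjp))
    obtain ⟨m, _, hm⟩ := Nat.exists_mul_mod_eq_one_of_coprime hcop hp.one_lt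
    apply hz
    have : z = (z ^ j) ^ m := by
      rw [← pow_mul, pow_eq_pow_mod (j * m) (hout z hz), hm, pow_one]
    rw [this]
    exact H.pow_mem hmem m
  have hk : ∀ k, ((p : ℕ) : AddMonoid.End (Additive (Subgroup.center ↥H))) *
      ∑ j ∈ Finset.range p, (F H y * F H z ^ k) ^ j = 0 := by
    intro k
    have := key H p hout (y * z ^ k) (hyz k)
    rwa [map_mul, map_pow] at this
  have hsum : ∑ k ∈ Finset.range p, ((p : ℕ) : AddMonoid.End (Additive (Subgroup.center ↥H))) *
      ∑ j ∈ Finset.range p, (F H y * F H z ^ k) ^ j = 0 :=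
    Finset.sum_eq_zero (fun k _ => hk k)
  have hrew : ∑ k ∈ Finset.range p, ((p : ℕ) : AddMonoid.End (Additive (Subgroup.center ↥H))) *
      ∑ j ∈ Finset.range p, (F H y * F H z ^ k) ^ j
      = ((p : ℕ) : AddMonoid.End (Additive (Subgroup.center ↥H))) *
        ∑ j ∈ Finset.range p, F H y ^ j * ∑ k ∈ Finset.range p, (F H z ^ j) ^ k := by
    rw [← Finset.mul_sum, Finset.sum_comm]
    congr 1
    apply Finset.sum_congr rfl
    intro j _
    rw [Finset.mul_sum]
    apply Finset.sum_congr rfl
    intro k _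
    rw [(hYZ.pow_right k).mul_pow, ← pow_mul, ← pow_mul, mul_comm k j]
  rw [hrew] at hsum
  obtain ⟨m, hpm⟩ : ∃ m, p = m + 1 := ⟨p - 1, by have := hp.pos; omega⟩
  have hsplit : ∀ f : ℕ → AddMonoid.End (Additive (Subgroup.center ↥H)),
      ∑ j ∈ Finset.range p, f j = ∑ j ∈ Finset.range m, f (j + 1) + f 0 := by
    intro f
    rw [hpm, Finset.sum_range_succ']
  rw [hsplit, mul_add, Finset.mul_sum] at hsum
  have hzero : ∑ j ∈ Finset.range m, ((p : ℕ) : AddMonoid.End (Additive (Subgroup.center ↥H))) *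
      (F H y ^ (j + 1) * ∑ k ∈ Finset.range p, (F H z ^ (j + 1)) ^ k) = 0 := by
    apply Finset.sum_eq_zero
    intro j hj
    rw [Finset.mem_range] at hj
    have hjH : z ^ (j + 1) ∉ H := hzj (j + 1) (Nat.succ_pos j) (by omega)
    have hkey := key H p hout (z ^ (j + 1)) hjH
    rw [map_pow] at hkey
    rw [← mul_assoc, (Nat.cast_commute p (F H y ^ (j + 1))).eq, mul_assoc, hkey, mul_zero]
  rw [hzero, zero_add] at hsum
  simpa using hsum

theorem center_pow_psq (p : ℕ) (hp : p.Prime) (hout : ∀ x : G, x ∉ H → x ^ p = 1)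
    (y z : G) (hz : z ∉ H) (hyz : ∀ k : ℕ, y * z ^ k ∉ H)
    (hc : ∃ c₀ ∈ H, y * z = z * y * c₀) (c : Subgroup.center ↥H) : c ^ (p * p) = 1 := by
  have h := psq_zero H p hp hout y z hz hyz hc
  have h2 := congrArg (fun f => f (Additive.ofMul c)) h
  simp only [AddMonoid.End.coe_mul, Function.comp_apply, AddMonoid.End.natCast_apply] at h2
  rw [← mul_nsmul] at h2
  have h3 := congrArg Additive.toMul h2
  rw [toMul_nsmul, toMul_ofMul] at h3
  simpa using h3

theorem main_lemma [Finite G] (p : ℕ) (hp : p.Prime) (hG : ¬ IsPGroup p G)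
    (hH : H ≠ ⊤) (hout : ∀ x : G, x ∉ H → x ^ p = 1) :
    Group.IsNilpotent ↥H ∧ H.index = p := by
  haveI : Fact p.Prime := ⟨hp⟩
  obtain ⟨x, hx⟩ : ∃ x, x ∉ H := by
    by_contra hcon
    push Not at hcon
    exact hH (eq_top_iff.2 (fun g _ => hcon g))
  have hnil : Group.IsNilpotent ↥H := by
    let α : MulAut ↥H := MulAut.conjNormal x
    have hαp : α ^ p = 1 := by
      show (MulAut.conjNormal x : MulAut ↥H) ^ p = 1
      rw [← map_pow, hout x hx, map_one]
    have hαi : ∀ (i : ℕ) (h : ↥H), (((α ^ i) h : ↥H) : G) = x ^ i * (h : G) * (x ^ i)⁻¹ := by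
      intro i h
      show ((((MulAut.conjNormal x : MulAut ↥H) ^ i) h : ↥H) : G) = _
      rw [← map_pow, MulAut.conjNormal_apply]
    have hord : orderOf α = 1 ∨ orderOf α = p :=
      (Nat.dvd_prime hp).1 (orderOf_dvd_of_pow_eq_one hαp)
    rcases hord with h1 | hpo
    · exfalso
      apply hG
      rw [orderOf_eq_one_iff] at h1
      have hcomm : ∀ h : ↥H, x * (h : G) * x⁻¹ = h := by
        intro h
        have := hαi 1 h
        rw [h1] at this
        simpa using this.symm
      intro g
      refine ⟨1, ?_⟩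
      rw [pow_one]
      by_cases hg : g ∈ H
      · have hc : Commute g x := by
          show g * x = x * g
          have h3 := hcomm ⟨g, hg⟩
          simp only at h3
          calc g * x = (x * g * x⁻¹) * x := by rw [h3]
            _ = x * g := by group
        have hgx : g * x ∉ H := fun h => hx (by simpa using H.mul_mem (H.inv_mem hg) h)
        have := hout _ hgx
        rwa [hc.mul_pow, hout x hx, mul_one] at this
      · exact hout g hg
    · have hp' : (orderOf α).Prime := by rw [hpo]; exact hp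
      apply Cfsg.Agent.S3946.result α hp'
      intro h
      rw [hpo]
      apply Subtype.ext
      rw [Subgroup.val_list_prod, List.map_map]
      have : (Subtype.val ∘ fun i : ℕ => (α ^ i) h) =
          fun i : ℕ => x ^ i * (h : G) * (x ^ i)⁻¹ := by
        funext i
        exact hαi i h
      rw [this, list_prod_conj]
      have hhx : (h : G) * x ∉ H := fun hh => hx (by simpa using H.mul_mem (H.inv_mem h.2) hh)
      rw [hout _ hhx, hout x hx]
      simp
  refine ⟨hnil, ?_⟩
  have hQp : IsPGroup p (G ⧸ H) := by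
    intro g
    obtain ⟨g, rfl⟩ := QuotientGroup.mk_surjective g
    refine ⟨1, ?_⟩
    rw [pow_one, ← QuotientGroup.mk_pow, QuotientGroup.eq_one_iff]
    by_cases hg : g ∈ H
    · exact H.pow_mem hg p
    · rw [hout g hg]; exact H.one_mem
  obtain ⟨n, hn⟩ := IsPGroup.iff_card.1 hQp
  rw [Subgroup.index_eq_card]
  have hn0 : n ≠ 0 := by
    rintro rfl
    apply hH
    rw [← Subgroup.index_eq_one, Subgroup.index_eq_card, hn, pow_zero]
  by_cases hn1 : n = 1
  · rw [hn, hn1, pow_one]
  exfalso
  have hn2 : 2 ≤ n := by omega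
  haveI : Nontrivial (G ⧸ H) := by
    rw [← Finite.one_lt_card_iff_nontrivial, hn]
    exact Nat.one_lt_pow hn0 hp.one_lt
  haveI := IsPGroup.center_nontrivial hQp
  obtain ⟨⟨c, hc⟩, hc1⟩ := exists_ne (1 : Subgroup.center (G ⧸ H))
  have hc1' : c ≠ 1 := fun h => hc1 (Subtype.ext h)
  obtain ⟨z, rfl⟩ := QuotientGroup.mk_surjective c
  have hz : z ∉ H := fun h => hc1' ((QuotientGroup.eq_one_iff z).2 h)
  have hcp : (z : G ⧸ H) ^ p = 1 := by
    rw [← QuotientGroup.mk_pow, hout z hz]; rfl
  have hordc : orderOf (z : G ⧸ H) = p := orderOf_eq_prime hcp hc1'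
  have hzne : Subgroup.zpowers (z : G ⧸ H) ≠ ⊤ := by
    intro htop
    have h1 : Nat.card (Subgroup.zpowers (z : G ⧸ H)) = p := by rw [Nat.card_zpowers, hordc]
    rw [htop, Subgroup.card_top, hn] at h1
    have : p ^ n = p ^ 1 := by rw [h1, pow_one]
    exact hn1 (Nat.pow_right_injective hp.two_le this)
  obtain ⟨d, hd⟩ : ∃ d, d ∉ Subgroup.zpowers (z : G ⧸ H) := by
    by_contra hcon
    push Not at hcon
    exact hzne (eq_top_iff.2 (fun g _ => hcon g))
  obtain ⟨y, rfl⟩ := QuotientGroup.mk_surjective d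
  have hyz : ∀ k : ℕ, y * z ^ k ∉ H := by
    intro k hk
    apply hd
    have h1 : ((y * z ^ k : G) : G ⧸ H) = 1 := (QuotientGroup.eq_one_iff _).2 hk
    rw [QuotientGroup.mk_mul, QuotientGroup.mk_pow] at h1
    have h2 : (y : G ⧸ H) = ((z : G ⧸ H) ^ k)⁻¹ := eq_inv_of_mul_eq_one_left h1
    rw [h2]
    exact (Subgroup.zpowers _).inv_mem (Subgroup.npow_mem_zpowers _ _)
  have hcc : ∃ c₀ ∈ H, y * z = z * y * c₀ := by
    refine ⟨(z * y)⁻¹ * (y * z), ?_, by group⟩
    rw [← QuotientGroup.eq, QuotientGroup.mk_mul, QuotientGroup.mk_mul]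
    exact (Subgroup.mem_center_iff.1 hc (y : G ⧸ H)).symm
  have hcard0 : Nat.card G ≠ 0 := Nat.card_pos.ne'
  obtain ⟨q, hq, hqdvd, hqp⟩ : ∃ q, q.Prime ∧ q ∣ Nat.card G ∧ q ≠ p := by
    by_contra hcon
    push Not at hcon
    apply hG
    apply IsPGroup.of_card (n := (Nat.card G).primeFactorsList.length)
    exact Nat.eq_prime_pow_of_unique_prime_dvd hcard0 (fun {d} hd hdvd => hcon d hd hdvd)
  haveI : Fact q.Prime := ⟨hq⟩
  obtain ⟨v₀, hv₀⟩ := exists_prime_orderOf_dvd_card' q hqdvd
  have hv₀H : v₀ ∈ H := by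
    by_contra hv
    have h1 := hout v₀ hv
    have hdvd : q ∣ p := by rw [← hv₀]; exact orderOf_dvd_of_pow_eq_one h1
    exact hqp ((Nat.prime_dvd_prime_iff_eq hq hp).1 hdvd)
  have hqH : q ∣ Nat.card ↥H := by
    have h1 : orderOf (⟨v₀, hv₀H⟩ : ↥H) = q := by
      rw [← hv₀]; exact Subgroup.orderOf_mk v₀ hv₀H
    rw [← h1]
    exact orderOf_dvd_natCard _
  obtain ⟨c', hc', hc'1, m, hm⟩ := exists_center_elt ↥H hnil q hqH
  have h2 := center_pow_psq H p hp hout y z hz hyz hcc ⟨c', hc'⟩
  have h2' : c' ^ (p * p) = 1 := by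
    have := congrArg Subtype.val h2
    simpa using this
  apply hc'1
  have hd1 : orderOf c' ∣ q ^ m := orderOf_dvd_of_pow_eq_one hm
  have hd2 : orderOf c' ∣ p * p := orderOf_dvd_of_pow_eq_one h2'
  have hcop : Nat.Coprime (q ^ m) (p * p) := by
    apply Nat.Coprime.pow_left
    apply Nat.Coprime.mul_right <;> exact (Nat.coprime_primes hq hp).2 hqp
  have := Nat.eq_one_of_dvd_coprimes hcop hd1 hd2
  exact orderOf_eq_one_iff.1 this

end Main

theorem result {G : Type*} [Group G] [Finite G] (p : ℕ) (hp : p.Prime) (hG : ¬ IsPGroup p G)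
    (hH : Subgroup.closure {g : G | g ^ p ≠ 1} ≠ ⊤) :
    Group.IsNilpotent (Subgroup.closure {g : G | g ^ p ≠ 1}) ∧ (Subgroup.closure {g : G | g ^ p ≠ 1}).index = p := by
  haveI := hughes_normal (G := G) p
  apply main_lemma _ p hp hG hH
  intro x hx
  by_contra hne
  exact hx (Subgroup.subset_closure hne)

end Cfsg.Agent.S4249
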