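import Cfsg.Statements.S4250
import Mathlib
import Cfsg.Agent.Lib_helper10_TameCtl

set_option autoImplicit false
open Cfsg

namespace Cfsg.Agent.S4250

open Cfsg.Agent.helper10
open scoped commutatorElement

/-- Let P be a Sylow p-subgroup of a finite group G. Call an intersection H = P ∩ Q with a Sylow p-subgroup Q tame when N_P(H) and N_Q(H) are Sylow p-subgroups of N_G(H). Then P ∩ G′ is generated by [P, N_G(P)] together with the commutator subgroups [P ∩ Q, ⟨x⟩] for all tame intersections P ∩ Q and all p-elements x of N_G(P ∩ Q). -/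
theorem result {G : Type*} [Group G] [Finite G] (p : ℕ) [Fact p.Prime] (P : Sylow p G) :
    (P : Subgroup G) ⊓ commutator G =
      ⁅(P : Subgroup G), Subgroup.normalizer ((P : Subgroup G) : Set G)⁆ ⊔
        ⨆ (Q : Sylow p G) (_ : (¬ p ∣ ((P : Subgroup G) ⊓ Subgroup.normalizer (((P : Subgroup G) ⊓ (Q : Subgroup G) : Subgroup G) : Set G)).relIndex (Subgroup.normalizer (((P : Subgroup G) ⊓ (Q : Subgroup G) : Subgroup G) : Set G)) ∧ ¬ p ∣ ((Q : Subgroup G) ⊓ Subgroup.normalizer (((P : Subgroup G) ⊓ (Q : Subgroup G) : Subgroup G) : Set G)).relIndex (Subgroup.normalizer (((P : Subgroup G) ⊓ (Q : Subgroup G) : Subgroup G) : Set G))))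
          (x : G) (_ : x ∈ Subgroup.normalizer (((P : Subgroup G) ⊓ (Q : Subgroup G) : Subgroup G) : Set G) ∧ ∃ k : ℕ, orderOf x = p ^ k),
          ⁅(P : Subgroup G) ⊓ (Q : Subgroup G), Subgroup.zpowers x⁆ := by
  have hp : p.Prime := Fact.out
  -- a general fact: `⁅H, K⁆ ≤ H` when `K ≤ N(H)`
  have hcommle : ∀ H K : Subgroup G, K ≤ Subgroup.normalizer (H : Set G) → ⁅H, K⁆ ≤ H := by
    intro H K hK
    rw [Subgroup.commutator_le]
    intro a ha z hz
    have h1 : z * a⁻¹ * z⁻¹ ∈ H :=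
      (Subgroup.mem_normalizer_iff.mp (hK hz) a⁻¹).mp (H.inv_mem ha)
    have : ⁅a, z⁆ = a * (z * a⁻¹ * z⁻¹) := by rw [commutatorElement_def]; group
    rw [this]
    exact H.mul_mem ha h1
  have hcomm : ∀ H K : Subgroup G, ⁅H, K⁆ ≤ commutator G := by
    intro H K
    rw [commutator_def]
    exact Subgroup.commutator_mono le_top le_top
  obtain ⟨R, hR⟩ : ∃ R : Subgroup G, R = ⁅(P : Subgroup G), Subgroup.normalizer ((P : Subgroup G) : Set G)⁆ ⊔
        ⨆ (Q : Sylow p G) (_ : (¬ p ∣ ((P : Subgroup G) ⊓ Subgroup.normalizer (((P : Subgroup G) ⊓ (Q : Subgroup G) : Subgroup G) : Set G)).relIndex (Subgroup.normalizer (((P : Subgroup G) ⊓ (Q : Subgroup G) : Subgroup G) : Set G)) ∧ ¬ p ∣ ((Q : Subgroup G) ⊓ Subgroup.normalizer (((P : Subgroup G) ⊓ (Q : Subgroup G) : Subgroup G) : Set G)).relIndex (Subgroup.normalizer (((P : Subgroup G) ⊓ (Q : Subgroup G) : Subgroup G) : Set G))))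
          (x : G) (_ : x ∈ Subgroup.normalizer (((P : Subgroup G) ⊓ (Q : Subgroup G) : Subgroup G) : Set G) ∧ ∃ k : ℕ, orderOf x = p ^ k),
          ⁅(P : Subgroup G) ⊓ (Q : Subgroup G), Subgroup.zpowers x⁆ := ⟨_, rfl⟩
  rw [← hR]
  have hR1 : ⁅(P : Subgroup G), Subgroup.normalizer ((P : Subgroup G) : Set G)⁆ ≤ R := by
    rw [hR]; exact le_sup_left
  have hR2 : ∀ (Q : Sylow p G), Tame p P Q → ∀ x : G,
      x ∈ Subgroup.normalizer (((P : Subgroup G) ⊓ (Q : Subgroup G) : Subgroup G) : Set G) →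
      (∃ k : ℕ, orderOf x = p ^ k) →
      ⁅(P : Subgroup G) ⊓ (Q : Subgroup G), Subgroup.zpowers x⁆ ≤ R := by
    intro Q hQ x hx hxp
    rw [hR]
    refine le_sup_of_le_right ?_
    exact le_iSup_of_le Q (le_iSup_of_le hQ (le_iSup_of_le x (le_iSup_of_le ⟨hx, hxp⟩ le_rfl)))
  apply le_antisymm
  · -- focal subgroup theorem
    rw [inf_comm, Subgroup.commutator_inf_eq_focalSubgroup, Subgroup.focalSubgroup_def,
      Subgroup.closure_le]
    rintro c ⟨hcP, a, ha, u, rfl⟩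
    have huau : u * a * u⁻¹ ∈ (P : Subgroup G) := by
      have h2 : (a⁻¹ * ⁅a, u⁆)⁻¹ ∈ (P : Subgroup G) :=
        Subgroup.inv_mem _ (Subgroup.mul_mem _ (Subgroup.inv_mem _ ha) hcP)
      have h3 : (a⁻¹ * ⁅a, u⁆)⁻¹ = u * a * u⁻¹ := by
        rw [commutatorElement_def]; group
      rwa [h3] at h2
    obtain ⟨y, l, hl1, hl2, hl3, hl4⟩ := exists_related P _ (u⁻¹ • P) rfl
    have haQ : a ∈ (P : Subgroup G) ⊓ ((u⁻¹ • P : Sylow p G) : Subgroup G) := by
      refine Subgroup.mem_inf.2 ⟨ha, ?_⟩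
      rw [sylow_smul_eq_map_conj, mem_map_conj_iff, inv_inv]
      exact huau
    have hsteps : ∀ q ∈ toPairs P l, ∀ t ∈ q.1, t * (q.2⁻¹ * t * q.2)⁻¹ ∈ R := by
      intro q hq t ht
      unfold toPairs at hq
      rw [List.mem_map] at hq
      obtain ⟨q', hq', rfl⟩ := hq
      obtain ⟨h1, h2, h3⟩ := hl2 q' hq'
      have heq : t * (q'.2⁻¹ * t * q'.2)⁻¹ = ⁅t, q'.2⁻¹⁆ := by
        rw [commutatorElement_def]; group
      simp only at ht ⊢
      rw [heq]
      rcases h3 with h3 | h3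
      · apply hR1
        rw [h3, inf_idem] at ht h1
        exact Subgroup.commutator_mem_commutator ht (Subgroup.inv_mem _ h1)
      · apply hR2 q'.1 h2 q'.2 h1 h3
        exact Subgroup.commutator_mem_commutator ht
          (Subgroup.inv_mem _ (Subgroup.mem_zpowers _))
    have hfoc := chain_focal R (toPairs P l) _ hsteps hl3 a haQ
    rw [toPairs_snd, hl1] at hfoc
    have hn : y⁻¹ * u⁻¹ ∈ Subgroup.normalizer (((P : Subgroup G)) : Set G) := by
      rw [mem_normalizer_iff_map_conj, map_conj_mul, ← sylow_smul_eq_map_conj]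
      exact hl4
    have ha' : y⁻¹ * a * y ∈ (P : Subgroup G) := by
      rw [← hl4, mem_map_conj_iff, inv_inv]
      have : y * (y⁻¹ * a * y) * y⁻¹ = a := by group
      rw [this]
      exact haQ.2
    have h5 : ⁅y⁻¹ * a * y, (y⁻¹ * u⁻¹)⁻¹⁆ ∈ R :=
      hR1 (Subgroup.commutator_mem_commutator ha' (Subgroup.inv_mem _ hn))
    have h6 := R.mul_mem hfoc h5
    have h7 : a * (y⁻¹ * a * y)⁻¹ * ⁅y⁻¹ * a * y, (y⁻¹ * u⁻¹)⁻¹⁆ = ⁅a, u⁆ := by
      rw [commutatorElement_def, commutatorElement_def]; group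
    rw [h7] at h6
    exact h6
  · rw [hR]
    refine sup_le ?_ ?_
    · exact le_inf (hcommle _ _ le_rfl) (hcomm _ _)
    · refine iSup_le fun Q => iSup_le fun hQ => iSup_le fun x => iSup_le fun hx => ?_
      refine le_inf ?_ (hcomm _ _)
      refine (hcommle _ _ ?_).trans inf_le_left
      rw [Subgroup.zpowers_le]
      exact hx.1

end Cfsg.Agent.S4250
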