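import Cfsg.Statements.S4251
import Mathlib
import Cfsg.Agent.Lib_helper10_TameCtl
import Cfsg.Agent.S0071

set_option autoImplicit false
open Cfsg

namespace Cfsg.Agent.S4251

open Cfsg.Agent.helper10

/-- Let P be a Sylow p-subgroup of a finite group G. Call an intersection H = P ∩ Q with a Sylow p-subgroup Q tame when N_P(H) and N_Q(H) are Sylow p-subgroups of N_G(H). If N_G(H)/C_G(H) is a p-group for every nontrivial tame intersection H = P ∩ Q, then G has a normal p-complement. -/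
theorem result {G : Type*} [Group G] [Finite G] (p : ℕ) [Fact p.Prime] (P : Sylow p G)
    (h : ∀ Q : Sylow p G, (P : Subgroup G) ⊓ (Q : Subgroup G) ≠ ⊥ → (¬ p ∣ ((P : Subgroup G) ⊓ Subgroup.normalizer (((P : Subgroup G) ⊓ (Q : Subgroup G) : Subgroup G) : Set G)).relIndex (Subgroup.normalizer (((P : Subgroup G) ⊓ (Q : Subgroup G) : Subgroup G) : Set G)) ∧ ¬ p ∣ ((Q : Subgroup G) ⊓ Subgroup.normalizer (((P : Subgroup G) ⊓ (Q : Subgroup G) : Subgroup G) : Set G)).relIndex (Subgroup.normalizer (((P : Subgroup G) ⊓ (Q : Subgroup G) : Subgroup G) : Set G))) →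
      IsPGroup p (Subgroup.normalizer (((P : Subgroup G) ⊓ (Q : Subgroup G) : Subgroup G) : Set G) ⧸
        (Subgroup.centralizer (((P : Subgroup G) ⊓ (Q : Subgroup G) : Subgroup G) : Set G)).subgroupOf
          (Subgroup.normalizer (((P : Subgroup G) ⊓ (Q : Subgroup G) : Subgroup G) : Set G)))) :
    Cfsg.HasNormalPComplement p G := by
  have hp : p.Prime := Fact.out
  suffices hfrob : ∀ Q : Subgroup G, Q ≤ (P : Subgroup G) → ∀ g ∈ Subgroup.normalizer (Q : Set G),
      Nat.Coprime (orderOf g) p → g ∈ Subgroup.centralizer (Q : Set G) by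
    obtain ⟨N, hN, hNP⟩ := (Cfsg.Agent.S0071.result P).mpr hfrob
    exact ⟨P, N, hN, hNP⟩
  intro Q₀ hQ₀ g hg hcop
  have key : ∀ Q : Sylow p G, Tame p P Q →
      ∀ x ∈ Subgroup.normalizer ((((P : Subgroup G) ⊓ (Q : Subgroup G)) : Subgroup G) : Set G),
      ∃ y ∈ (P : Subgroup G), ∀ t ∈ (P : Subgroup G) ⊓ (Q : Subgroup G),
        y * t * y⁻¹ = x * t * x⁻¹ := by
    intro Q hQ x hx
    by_cases hbot : (P : Subgroup G) ⊓ (Q : Subgroup G) = ⊥
    · refine ⟨1, one_mem _, ?_⟩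
      intro t ht
      rw [hbot, Subgroup.mem_bot] at ht
      subst ht
      simp
    · exact local_control_of_pgroup_automizer P _ hQ.1 (h Q hbot hQ) x hx
  have hgQ : Q₀.map (MulAut.conj g).toMonoidHom ≤ (P : Subgroup G) := by
    rw [(mem_normalizer_iff_map_conj Q₀ g).1 hg]
    exact hQ₀
  obtain ⟨u, hu, hut⟩ := tame_control P key Q₀ hQ₀ g hgQ
  -- powers
  have hpow : ∀ j : ℕ, ∀ t ∈ Q₀, u ^ j * t * (u ^ j)⁻¹ = g ^ j * t * (g ^ j)⁻¹ := by
    intro j
    induction j with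
    | zero => intro t _; simp
    | succ j ih =>
      intro t ht
      have h1 : g * t * g⁻¹ ∈ Q₀ := (Subgroup.mem_normalizer_iff.mp hg t).mp ht
      have h2 := ih _ h1
      calc u ^ (j + 1) * t * (u ^ (j + 1))⁻¹ = u ^ j * (u * t * u⁻¹) * (u ^ j)⁻¹ := by
            rw [pow_succ]; group
        _ = u ^ j * (g * t * g⁻¹) * (u ^ j)⁻¹ := by rw [hut t ht]
        _ = g ^ j * (g * t * g⁻¹) * (g ^ j)⁻¹ := h2
        _ = g ^ (j + 1) * t * (g ^ (j + 1))⁻¹ := by rw [pow_succ]; group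
  obtain ⟨k, hk⟩ := P.isPGroup' ⟨u, hu⟩
  have huk : u ^ p ^ k = 1 := by
    have := congrArg Subtype.val hk
    simpa using this
  have hgk : g ^ p ^ k ∈ Subgroup.centralizer (Q₀ : Set G) := by
    rw [Subgroup.mem_centralizer_iff]
    intro t ht
    have h1 := hpow (p ^ k) t ht
    rw [huk] at h1
    have h2 : g ^ p ^ k * t * (g ^ p ^ k)⁻¹ = t := by rw [← h1]; simp
    calc t * g ^ p ^ k = (g ^ p ^ k * t * (g ^ p ^ k)⁻¹) * g ^ p ^ k := by rw [h2]
      _ = g ^ p ^ k * t := by group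
  have hcop' : Nat.Coprime (orderOf g) (p ^ k) := Nat.Coprime.pow_right k hcop
  have hz : g ∈ Subgroup.zpowers (g ^ p ^ k) := by
    have h1 : Subgroup.zpowers (g ^ p ^ k) = Subgroup.zpowers g := by
      apply le_antisymm
      · rw [Subgroup.zpowers_le]
        exact Subgroup.pow_mem _ (Subgroup.mem_zpowers g) _
      · obtain ⟨m, hm⟩ := exists_pow_eq_self_of_coprime (x := g) hcop'.symm
        rw [Subgroup.zpowers_le]
        have h3 : (g ^ p ^ k) ^ m ∈ Subgroup.zpowers (g ^ p ^ k) :=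
          Subgroup.pow_mem _ (Subgroup.mem_zpowers _) _
        rwa [hm] at h3
    rw [h1]
    exact Subgroup.mem_zpowers g
  exact (Subgroup.zpowers_le.2 hgk) hz

end Cfsg.Agent.S4251
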