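import Cfsg.Statements.S4253

set_option autoImplicit false
open Cfsg

namespace Cfsg.Agent.S4253

open scoped Pointwise

theorem result {G : Type*} [Group G] [Finite G] (H : Subgroup G) (hH : Cfsg.IsFrobeniusComplement H)
    (g : G) (hg : g ≠ 1) (a b : G ⧸ H) (ha : g • a = a) (hb : g • b = b) : a = b := by
  induction a using QuotientGroup.induction_on with
  | H x =>
  induction b using QuotientGroup.induction_on with
  | H y =>
  rw [MulAction.Quotient.smul_mk, QuotientGroup.eq] at ha hb
  rw [QuotientGroup.eq]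
  by_contra hc
  have h3 := hH.2.2 (x⁻¹ * y) hc
  have hmem : (g * x)⁻¹ * x ∈ H ⊓ (MulAut.conj (x⁻¹ * y) • H) := by
    rw [Subgroup.mem_inf]
    refine ⟨ha, ?_⟩
    rw [Subgroup.mem_pointwise_smul_iff_inv_smul_mem]
    simp only [MulAut.smul_def, ← map_inv, MulAut.conj_apply]
    convert hb using 1
    simp only [smul_eq_mul]
    group
  rw [h3, Subgroup.mem_bot] at hmem
  apply hg
  have : g⁻¹ = 1 := by
    have h4 : (g * x)⁻¹ * x = x⁻¹ * g⁻¹ * x := by group
    rw [h4] at hmem
    calc g⁻¹ = x * (x⁻¹ * g⁻¹ * x) * x⁻¹ := by group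
      _ = 1 := by rw [hmem]; group
  simpa using this

end Cfsg.Agent.S4253
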