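import Cfsg.Statements.S4257
import Cfsg.Agent.Lib_helper15_CSD2

set_option autoImplicit false
open Cfsg

namespace Cfsg.Agent.S4257

/-- Let G be a finite group. Call a prime a vertex if it divides some conjugacy class size of G, and two distinct vertices adjacent if their product divides some class size. If this graph is connected, then its diameter is at most 3: any two distinct vertices p and q are adjacent, or joined through one or two intermediate vertices. -/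
theorem result {G : Type*} [Group G] [Finite G]
    (hconn : ∀ S : Set ℕ, (∃ p ∈ S, (p.Prime ∧ ∃ g : G, p ∣ (Subgroup.centralizer ({g} : Set G)).index)) → (∃ q ∉ S, (q.Prime ∧ ∃ g : G, q ∣ (Subgroup.centralizer ({g} : Set G)).index)) →
      ∃ p q : ℕ, (p.Prime ∧ ∃ g : G, p ∣ (Subgroup.centralizer ({g} : Set G)).index) ∧ (q.Prime ∧ ∃ g : G, q ∣ (Subgroup.centralizer ({g} : Set G)).index) ∧ p ∈ S ∧ q ∉ S ∧ (∃ g : G, p * q ∣ (Subgroup.centralizer ({g} : Set G)).index))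
    (p q : ℕ) (hp : (p.Prime ∧ ∃ g : G, p ∣ (Subgroup.centralizer ({g} : Set G)).index)) (hq : (q.Prime ∧ ∃ g : G, q ∣ (Subgroup.centralizer ({g} : Set G)).index)) (hpq : p ≠ q) :
    (∃ g : G, p * q ∣ (Subgroup.centralizer ({g} : Set G)).index) ∨ (∃ r : ℕ, (r.Prime ∧ ∃ g : G, r ∣ (Subgroup.centralizer ({g} : Set G)).index) ∧ r ≠ p ∧ r ≠ q ∧ (∃ g : G, p * r ∣ (Subgroup.centralizer ({g} : Set G)).index) ∧ (∃ g : G, r * q ∣ (Subgroup.centralizer ({g} : Set G)).index)) ∨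
      (∃ r s : ℕ, (r.Prime ∧ ∃ g : G, r ∣ (Subgroup.centralizer ({g} : Set G)).index) ∧ (s.Prime ∧ ∃ g : G, s ∣ (Subgroup.centralizer ({g} : Set G)).index) ∧ r ≠ p ∧ s ≠ q ∧ r ≠ s ∧ r ≠ q ∧ s ≠ p ∧
        (∃ g : G, p * r ∣ (Subgroup.centralizer ({g} : Set G)).index) ∧ (∃ g : G, r * s ∣ (Subgroup.centralizer ({g} : Set G)).index) ∧ (∃ g : G, s * q ∣ (Subgroup.centralizer ({g} : Set G)).index)) := by
  classical
  have mulDvd : ∀ (a b : ℕ), a.Prime → b.Prime → a ≠ b → ∀ z : G,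
      a ∣ (Subgroup.centralizer ({z} : Set G)).index → b ∣ (Subgroup.centralizer ({z} : Set G)).index →
      a * b ∣ (Subgroup.centralizer ({z} : Set G)).index := by
    intro a b ha hb hab z h1 h2
    exact ((Nat.coprime_primes ha hb).mpr hab).mul_dvd_of_dvd_of_dvd h1 h2
  by_contra hneg
  obtain ⟨hn1, hneg'⟩ := not_or.mp hneg
  obtain ⟨hn2, hn3⟩ := not_or.mp hneg'
  have h0 : ∀ (g : G) (r s : ℕ), Cfsg.Agent.helper15.CSD.Nb G p r → Cfsg.Agent.helper15.CSD.Nb G q s →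
      r ∣ Cfsg.Agent.helper18.CG.idx g → s ∣ Cfsg.Agent.helper18.CG.idx g → False := by
    intro g r s hr hs hrg hsg
    have hrg' : r ∣ (Subgroup.centralizer ({g} : Set G)).index := hrg
    have hsg' : s ∣ (Subgroup.centralizer ({g} : Set G)).index := hsg
    by_cases hrp : r = p
    · have hpg : p ∣ (Subgroup.centralizer ({g} : Set G)).index := by rw [← hrp]; exact hrg'
      by_cases hsq : s = q
      · have hqg : q ∣ (Subgroup.centralizer ({g} : Set G)).index := by rw [← hsq]; exact hsg'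
        exact hn1 ⟨g, mulDvd p q hp.1 hq.1 hpq g hpg hqg⟩
      · obtain ⟨g₂, h21, h22⟩ : ∃ g₂ : G, q ∣ (Subgroup.centralizer ({g₂} : Set G)).index ∧
            s ∣ (Subgroup.centralizer ({g₂} : Set G)).index := hs.2.resolve_left hsq
        by_cases hsp : s = p
        · have : p ∣ (Subgroup.centralizer ({g₂} : Set G)).index := by rw [← hsp]; exact h22
          exact hn1 ⟨g₂, mulDvd p q hp.1 hq.1 hpq g₂ this h21⟩
        · exact hn2 ⟨s, ⟨hs.1, g, hsg'⟩, hsp, hsq,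
            ⟨g, mulDvd p s hp.1 hs.1 (Ne.symm hsp) g hpg hsg'⟩,
            ⟨g₂, mulDvd s q hs.1 hq.1 hsq g₂ h22 h21⟩⟩
    · obtain ⟨g₁, h11, h12⟩ : ∃ g₁ : G, p ∣ (Subgroup.centralizer ({g₁} : Set G)).index ∧
          r ∣ (Subgroup.centralizer ({g₁} : Set G)).index := hr.2.resolve_left hrp
      by_cases hrq : r = q
      · have : q ∣ (Subgroup.centralizer ({g₁} : Set G)).index := by rw [← hrq]; exact h12
        exact hn1 ⟨g₁, mulDvd p q hp.1 hq.1 hpq g₁ h11 this⟩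
      · by_cases hsq : s = q
        · have hqg : q ∣ (Subgroup.centralizer ({g} : Set G)).index := by rw [← hsq]; exact hsg'
          exact hn2 ⟨r, ⟨hr.1, g, hrg'⟩, hrp, hrq,
            ⟨g₁, mulDvd p r hp.1 hr.1 (Ne.symm hrp) g₁ h11 h12⟩,
            ⟨g, mulDvd r q hr.1 hq.1 hrq g hrg' hqg⟩⟩
        · obtain ⟨g₂, h21, h22⟩ : ∃ g₂ : G, q ∣ (Subgroup.centralizer ({g₂} : Set G)).index ∧
              s ∣ (Subgroup.centralizer ({g₂} : Set G)).index := hs.2.resolve_left hsq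
          by_cases hsp : s = p
          · have : p ∣ (Subgroup.centralizer ({g₂} : Set G)).index := by rw [← hsp]; exact h22
            exact hn1 ⟨g₂, mulDvd p q hp.1 hq.1 hpq g₂ this h21⟩
          · by_cases hrs : r = s
            · have : r ∣ (Subgroup.centralizer ({g₂} : Set G)).index := by rw [hrs]; exact h22
              exact hn2 ⟨r, ⟨hr.1, g, hrg'⟩, hrp, hrq,
                ⟨g₁, mulDvd p r hp.1 hr.1 (Ne.symm hrp) g₁ h11 h12⟩,
                ⟨g₂, mulDvd r q hr.1 hq.1 hrq g₂ this h21⟩⟩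
            · exact hn3 ⟨r, s, ⟨hr.1, g, hrg'⟩, ⟨hs.1, g, hsg'⟩, hrp, hsq, hrs, hrq, hsp,
                ⟨g₁, mulDvd p r hp.1 hr.1 (Ne.symm hrp) g₁ h11 h12⟩,
                ⟨g, mulDvd r s hr.1 hs.1 hrs g hrg' hsg'⟩,
                ⟨g₂, mulDvd s q hs.1 hq.1 hsq g₂ h22 h21⟩⟩
  have H : Cfsg.Agent.helper15.CSD.Hyp G p q := ⟨hp.1, hq.1, hp.2, hq.2, h0⟩
  rcases Cfsg.Agent.helper15.CSD.caseA_or H with hA | hB
  · obtain ⟨a, b, _, hVb, haS, hbS, g, hg⟩ :=
      hconn {s | Cfsg.Agent.helper15.CSD.Nb G q s}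
        ⟨q, Cfsg.Agent.helper15.CSD.Nb_self hq.1, hq⟩
        ⟨p, fun h => H.disj (Cfsg.Agent.helper15.CSD.Nb_self hp.1) h, hp⟩
    have hag : a ∣ Cfsg.Agent.helper18.CG.idx g := (dvd_mul_right a b).trans hg
    have hbg : b ∣ Cfsg.Agent.helper18.CG.idx g := (dvd_mul_left b a).trans hg
    have hqg : q ∣ Cfsg.Agent.helper18.CG.idx g :=
      Cfsg.Agent.helper15.CSD.caseA_main H hA haS hag
    exact hbS ⟨hVb.1, Or.inr ⟨g, hqg, hbg⟩⟩
  · obtain ⟨a, b, _, hVb, haS, hbS, g, hg⟩ :=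
      hconn {s | Cfsg.Agent.helper15.CSD.Nb G p s}
        ⟨p, Cfsg.Agent.helper15.CSD.Nb_self hp.1, hp⟩
        ⟨q, fun h => H.disj h (Cfsg.Agent.helper15.CSD.Nb_self hq.1), hq⟩
    have hag : a ∣ Cfsg.Agent.helper18.CG.idx g := (dvd_mul_right a b).trans hg
    have hbg : b ∣ Cfsg.Agent.helper18.CG.idx g := (dvd_mul_left b a).trans hg
    have hpg : p ∣ Cfsg.Agent.helper18.CG.idx g :=
      Cfsg.Agent.helper15.CSD.caseA_main H.symm hB haS hag
    exact hbS ⟨hVb.1, Or.inr ⟨g, hpg, hbg⟩⟩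

end Cfsg.Agent.S4257
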