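import Cfsg.Statements.S4260

set_option autoImplicit false
open Cfsg

namespace Cfsg.Agent.S4260

theorem result {G : Type*} [Group G] [Finite G] (H : Subgroup G) (hHall : (Nat.card H).Coprime H.index)
    (hexp : ∀ x : G, x ^ H.index ∈ H) : H.Normal := by
  have key : ∀ x : G, x ∈ H ↔ x ^ (Nat.card H) = 1 := by
    intro x
    constructor
    · intro hx
      have := pow_card_eq_one' (G := H) (x := ⟨x, hx⟩)
      exact congrArg Subtype.val this
    · intro hx
      have hb := Nat.gcd_eq_gcd_ab (Nat.card H) H.index
      rw [Nat.Coprime] at hHall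
      rw [hHall] at hb
      have : x = (x ^ H.index) ^ (Nat.gcdB (Nat.card H) H.index) := by
        have h1 : x ^ (1 : ℤ) = x := zpow_one x
        rw [← h1]
        conv_lhs => rw [show ((1 : ℤ)) = ((1 : ℕ) : ℤ) by simp, hb]
        rw [zpow_add, zpow_mul, zpow_mul, zpow_natCast, zpow_natCast, hx, one_zpow, one_mul, zpow_one]
      rw [this]
      exact H.zpow_mem (hexp x) _
  constructor
  intro h hh g
  rw [key] at hh ⊢
  rw [conj_pow, hh]
  group

end Cfsg.Agent.S4260
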