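import Mathlib
import Cfsg.Statements.S4261

set_option autoImplicit false
open Cfsg

namespace Cfsg.Agent.S4261

universe u

open scoped commutatorElement

theorem exists_normal_pgroup {G : Type*} [Group G] [Finite G] [Nontrivial G]
    (hG : Group.IsSolvable G) :
    ∃ p : ℕ, p.Prime ∧ ∃ C : Subgroup G, C.Normal ∧ IsPGroup p C ∧ C ≠ ⊥ := by
  classical
  have hex : ∃ n, derivedSeries G n = ⊥ := hG.solvable
  have hm_spec : derivedSeries G (Nat.find hex) = ⊥ := Nat.find_spec hex
  have hm0 : Nat.find hex ≠ 0 := by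
    intro h0
    rw [h0, derivedSeries_zero] at hm_spec
    exact top_ne_bot hm_spec
  obtain ⟨k, hk⟩ := Nat.exists_eq_succ_of_ne_zero hm0
  have hA_ne : derivedSeries G k ≠ ⊥ := by
    intro h
    have := Nat.find_min' hex h
    omega
  have hAcomm : ⁅derivedSeries G k, derivedSeries G k⁆ = ⊥ := by
    rw [← derivedSeries_succ, ← Nat.succ_eq_add_one, ← hk]; exact hm_spec
  have hAn : (derivedSeries G k).Normal := derivedSeries_normal G k
  have hcomm : ∀ x ∈ derivedSeries G k, ∀ y ∈ derivedSeries G k, x * y = y * x := by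
    intro x hx y hy
    have : ⁅x, y⁆ ∈ ⁅derivedSeries G k, derivedSeries G k⁆ :=
      Subgroup.commutator_mem_commutator hx hy
    rw [hAcomm, Subgroup.mem_bot] at this
    exact commutatorElement_eq_one_iff_mul_comm.mp this
  have hAcard : Nat.card (derivedSeries G k) ≠ 1 := by
    rw [Ne, Subgroup.card_eq_one]; exact hA_ne
  obtain ⟨p, hp, hpd⟩ := Nat.exists_prime_and_dvd hAcard
  have hpf : Fact p.Prime := ⟨hp⟩
  obtain ⟨a, ha⟩ := exists_prime_orderOf_dvd_card' p hpd
  let C : Subgroup G :=
    { carrier := {x | x ∈ derivedSeries G k ∧ ∃ j : ℕ, x ^ (p ^ j) = 1}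
      one_mem' := ⟨Subgroup.one_mem _, 0, by simp⟩
      mul_mem' := by
        rintro x y ⟨hx, j1, hj1⟩ ⟨hy, j2, hj2⟩
        refine ⟨Subgroup.mul_mem _ hx hy, j1 + j2, ?_⟩
        have hc : Commute x y := hcomm x hx y hy
        have e1 : x ^ (p ^ (j1 + j2)) = 1 := by rw [pow_add, pow_mul, hj1, one_pow]
        have e2 : y ^ (p ^ (j1 + j2)) = 1 := by rw [pow_add, mul_comm, pow_mul, hj2, one_pow]
        rw [hc.mul_pow, e1, e2, mul_one]
      inv_mem' := by
        rintro x ⟨hx, j, hj⟩
        exact ⟨Subgroup.inv_mem _ hx, j, by rw [inv_pow, hj, inv_one]⟩ }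
  refine ⟨p, hp, C, ?_, ?_, ?_⟩
  · constructor
    rintro x ⟨hx, j, hj⟩ g
    refine ⟨hAn.conj_mem x hx g, j, ?_⟩
    rw [conj_pow, hj]; simp
  · rintro ⟨x, hx, j, hj⟩
    exact ⟨j, Subtype.ext hj⟩
  · intro hbot
    have hmem : (a : G) ∈ C := by
      refine ⟨a.2, 1, ?_⟩
      rw [pow_one, ← ha, ← Subgroup.orderOf_coe]
      exact pow_orderOf_eq_one _
    rw [hbot, Subgroup.mem_bot] at hmem
    have : orderOf a = 1 := by
      rw [orderOf_eq_one_iff]; exact Subtype.ext hmem
    rw [ha] at this
    exact hp.one_lt.ne' this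

theorem isCoatom_map_mk {G : Type*} [Group G] (C : Subgroup G) [C.Normal] (M : Subgroup G)
    (hM : IsCoatom M) (hCM : C ≤ M) :
    IsCoatom (M.map (QuotientGroup.mk' C)) := by
  have hcm : (M.map (QuotientGroup.mk' C)).comap (QuotientGroup.mk' C) = M := by
    rw [Subgroup.comap_map_eq, QuotientGroup.ker_mk', sup_eq_left.mpr hCM]
  constructor
  · intro h
    rw [h, Subgroup.comap_top] at hcm
    exact hM.1 hcm.symm
  · intro K hK
    have h1 : M < K.comap (QuotientGroup.mk' C) := by
      rw [← hcm]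
      exact (Subgroup.comap_lt_comap_of_surjective (QuotientGroup.mk'_surjective C)).mpr hK
    have h2 := hM.2 _ h1
    rw [← Subgroup.map_comap_eq_self_of_surjective (QuotientGroup.mk'_surjective C) K, h2,
      ← MonoidHom.range_eq_map, MonoidHom.range_eq_top]
    exact QuotientGroup.mk'_surjective C

theorem index_prime_pow : ∀ (n : ℕ) (G : Type u) [Group G] [Finite G], Nat.card G = n →
    Group.IsSolvable G → ∀ M : Subgroup G, IsCoatom M → ∃ p k : ℕ, p.Prime ∧ M.index = p ^ k := by
  intro n
  induction n using Nat.strong_induction_on with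
  | _ n ih =>
    intro G _ _ hn hG M hM
    have hnt : Nontrivial G := by
      by_contra h
      rw [not_nontrivial_iff_subsingleton] at h
      exact hM.1 (Subsingleton.elim _ _)
    obtain ⟨p, hp, C, hCn, hCp, hCne⟩ := exists_normal_pgroup hG
    have hposC : 0 < C.index := Nat.pos_of_ne_zero Subgroup.index_ne_zero_of_finite
    by_cases hCM : C ≤ M
    · have hcard : Nat.card (G ⧸ C) < n := by
        rw [← hn, ← Subgroup.index_eq_card, ← Subgroup.index_mul_card C]
        have : 1 < Nat.card C := by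
          rw [Subgroup.one_lt_card_iff_ne_bot]; exact hCne
        nlinarith
      obtain ⟨q, k, hq, hk⟩ := ih _ hcard (G ⧸ C) rfl inferInstance _
        (isCoatom_map_mk C M hM hCM)
      refine ⟨q, k, hq, ?_⟩
      rw [← hk, Subgroup.index_map_eq _ (QuotientGroup.mk'_surjective C)
        (by rw [QuotientGroup.ker_mk']; exact hCM)]
    · have hlt : M < M ⊔ C :=
        lt_of_le_of_ne le_sup_left (fun h => hCM (sup_eq_left.mp h.symm))
      have hsup : M ⊔ C = ⊤ := hM.2 _ hlt
      have h1 : C.relIndex (M ⊔ C) = C.relIndex M := Subgroup.relIndex_sup_right M C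
      rw [hsup, Subgroup.relIndex_top_right] at h1
      have h2 := Subgroup.index_mul_card C
      have h3 := Subgroup.index_mul_card M
      have h4 : C.relIndex M * Nat.card (C.subgroupOf M) = Nat.card M :=
        Subgroup.index_mul_card (C.subgroupOf M)
      rw [← h1] at h4
      have hpf : Fact p.Prime := ⟨hp⟩
      obtain ⟨j, hj⟩ := hCp.exists_card_eq
      have hdvd : M.index ∣ p ^ j := by
        rw [← hj]
        refine ⟨Nat.card (C.subgroupOf M), ?_⟩
        apply Nat.eq_of_mul_eq_mul_left hposC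
        rw [h2, ← h3, ← h4]; ring
      obtain ⟨m, -, hm⟩ := (Nat.dvd_prime_pow hp).mp hdvd
      exact ⟨p, m, hp, hm⟩

/-- Let M be a maximal subgroup of a finite solvable group G such that x^[G : M] lies in M for every x in G. Then M is normal in G. -/
theorem result {G : Type*} [Group G] [Finite G] (hG : Group.IsSolvable G) (M : Subgroup G) (hM : IsCoatom M)
    (hexp : ∀ x : G, x ^ M.index ∈ M) : M.Normal := by
  obtain ⟨p, k, hp, hk⟩ := index_prime_pow _ G rfl hG M hM
  have hpf : Fact p.Prime := ⟨hp⟩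
  rw [hk] at hexp
  -- p'-elements lie in M
  have hp' : ∀ y : G, Nat.Coprime (orderOf y) p → y ∈ M := by
    intro y hy
    have hc : Nat.Coprime (p ^ k) (orderOf y) := (Nat.Coprime.pow_left k hy.symm)
    obtain ⟨m, hm⟩ := exists_pow_eq_self_of_coprime hc
    rw [← hm]
    exact Subgroup.pow_mem _ (hexp y) m
  set S : Set G := {y | Nat.Coprime (orderOf y) p} with hS
  have hKM : Subgroup.normalClosure S ≤ M := by
    rw [Subgroup.normalClosure, Subgroup.closure_le]
    intro y hy
    rw [Group.mem_conjugatesOfSet_iff] at hy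
    obtain ⟨s, hs, hsy⟩ := hy
    obtain ⟨c, rfl⟩ := isConj_iff.mp hsy
    apply hp'
    have : orderOf (c * s * c⁻¹) = orderOf s := (MulAut.conj c).orderOf_eq s
    rw [this]
    exact hs
  have hKn : (Subgroup.normalClosure S).Normal := Subgroup.normalClosure_normal
  -- quotient is a p-group
  have hQ : IsPGroup p (G ⧸ Subgroup.normalClosure S) := by
    intro x
    obtain ⟨g, rfl⟩ := QuotientGroup.mk_surjective x
    have hord : orderOf g ≠ 0 := (orderOf_pos g).ne'
    obtain ⟨j, m, hm, hjm⟩ := Nat.exists_eq_pow_mul_and_not_dvd hord p hp.ne_one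
    refine ⟨j, ?_⟩
    rw [← QuotientGroup.mk_pow, QuotientGroup.eq_one_iff]
    apply Subgroup.subset_normalClosure
    change Nat.Coprime (orderOf (g ^ (p ^ j))) p
    rw [orderOf_pow_of_dvd (pow_ne_zero _ hp.ne_zero) (by rw [hjm]; exact dvd_mul_right _ _), hjm,
      Nat.mul_div_cancel_left _ (pow_pos hp.pos _)]
    exact ((Nat.Prime.coprime_iff_not_dvd hp).mpr hm).symm
  have hnil : Group.IsNilpotent (G ⧸ Subgroup.normalClosure S) := hQ.isNilpotent
  have hnc := Group.normalizerCondition_of_isNilpotent (G := G ⧸ Subgroup.normalClosure S)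
  have hcoatom := isCoatom_map_mk (Subgroup.normalClosure S) M hM hKM
  have hnormal : (M.map (QuotientGroup.mk' (Subgroup.normalClosure S))).Normal :=
    Subgroup.NormalizerCondition.normal_of_coatom _ hnc hcoatom
  have hcm : (M.map (QuotientGroup.mk' (Subgroup.normalClosure S))).comap
      (QuotientGroup.mk' (Subgroup.normalClosure S)) = M := by
    rw [Subgroup.comap_map_eq, QuotientGroup.ker_mk', sup_eq_left.mpr hKM]
  rw [← hcm]
  exact hnormal.comap _

end Cfsg.Agent.S4261
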