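import Mathlib
import Cfsg.Agent.Lib_helper1_Core
import Cfsg.Agent.S4244
import Cfsg.Statements.S4263

set_option autoImplicit false
open Cfsg

namespace Cfsg.Agent.S4263

/-- In a finite group with the normalizer condition, `y ^ [N : D] ∈ D` for every subgroup `D`. -/
theorem pow_index_mem_of_nc {N : Type*} [Group N] [Finite N] (hnc : NormalizerCondition N) :
    ∀ (n : ℕ) (D : Subgroup N), D.index = n → ∀ y : N, y ^ D.index ∈ D := by
  intro n
  induction n using Nat.strong_induction_on with
  | _ n ih =>
    intro D hD y
    by_cases htop : D = ⊤
    · rw [htop]; exact Subgroup.mem_top _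
    · have hlt : D < Subgroup.normalizer (D : Set N) := hnc D (lt_top_iff_ne_top.mpr htop)
      have hle : D ≤ Subgroup.normalizer (D : Set N) := hlt.le
      have hmul := Subgroup.relIndex_mul_index hle
      have hrel : 1 < D.relIndex (Subgroup.normalizer (D : Set N)) := by
        have h0 : D.relIndex (Subgroup.normalizer (D : Set N)) ≠ 0 := by
          intro h
          rw [h, zero_mul] at hmul
          exact Subgroup.index_ne_zero_of_finite hmul.symm
        have h1 : D.relIndex (Subgroup.normalizer (D : Set N)) ≠ 1 := by
          intro h
          rw [Subgroup.relIndex_eq_one] at h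
          exact absurd (le_antisymm hle h) hlt.ne
        omega
      have hpos : 0 < (Subgroup.normalizer (D : Set N)).index :=
        Nat.pos_of_ne_zero Subgroup.index_ne_zero_of_finite
      have hsmall : (Subgroup.normalizer (D : Set N)).index < n := by
        rw [← hD, ← hmul]
        nlinarith
      have h1 := ih _ hsmall (Subgroup.normalizer (D : Set N)) rfl y
      have hnormal : (D.subgroupOf (Subgroup.normalizer (D : Set N))).Normal :=
        Subgroup.normal_in_normalizer
      have h2 := Subgroup.pow_index_mem (D.subgroupOf (Subgroup.normalizer (D : Set N)))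
        ⟨y ^ (Subgroup.normalizer (D : Set N)).index, h1⟩
      rw [Subgroup.mem_subgroupOf] at h2
      have h3 : y ^ D.index = (y ^ (Subgroup.normalizer (D : Set N)).index) ^
          D.relIndex (Subgroup.normalizer (D : Set N)) := by
        rw [← pow_mul, mul_comm, hmul]
      rw [h3]
      exact h2

theorem mem_of_pow_mem_coprime {G : Type*} [Group G] (F : Subgroup G) (y : G) (a b : ℕ)
    (hab : Nat.Coprime a b) (ha : y ^ a ∈ F) (hb : y ^ b ∈ F) : y ∈ F := by
  have h := Nat.gcd_eq_gcd_ab a b
  rw [hab] at h
  have : y = (y ^ a) ^ (Nat.gcdA a b) * (y ^ b) ^ (Nat.gcdB a b) := by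
    rw [← zpow_natCast y a, ← zpow_natCast y b, ← zpow_mul, ← zpow_mul, ← zpow_add, ← h]
    simp
  rw [this]
  exact F.mul_mem (F.zpow_mem ha _) (F.zpow_mem hb _)

/-- Let G be a finite group. An element x lies in the Fitting subgroup F(G) if and only if, for every subgroup H of G, the power x^[G : H] lies in H. -/
theorem result {G : Type*} [Group G] [Finite G] (x : G) :
    x ∈ Cfsg.fittingSubgroup G ↔ ∀ H : Subgroup G, x ^ H.index ∈ H := by
  constructor
  · intro hx H
    have hFn : (Cfsg.fittingSubgroup G).Normal := helper1.fitting_normal
    have hnil : Group.IsNilpotent (Cfsg.fittingSubgroup G) := helper1.fitting_isNilpotent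
    have hnc := Group.normalizerCondition_of_isNilpotent (G := Cfsg.fittingSubgroup G)
    have h1 := pow_index_mem_of_nc hnc _ (H.subgroupOf (Cfsg.fittingSubgroup G)) rfl ⟨x, hx⟩
    rw [Subgroup.mem_subgroupOf] at h1
    have h2 : x ^ H.relIndex (Cfsg.fittingSubgroup G) ∈ H := h1
    obtain ⟨k, hk⟩ := Cfsg.Agent.S4244.normal_case (Cfsg.fittingSubgroup G) H
    rw [hk, pow_mul]
    exact H.pow_mem h2 k
  · intro hx
    -- strong induction on the order of y, for all y with the property
    have key : ∀ (n : ℕ) (y : G), orderOf y = n → (∀ H : Subgroup G, y ^ H.index ∈ H) →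
        y ∈ Cfsg.fittingSubgroup G := by
      intro n
      induction n using Nat.strong_induction_on with
      | _ n ih =>
        intro y hy hP
        by_cases h1 : n = 1
        · rw [h1, orderOf_eq_one_iff] at hy
          rw [hy]; exact Subgroup.one_mem _
        · have hn0 : n ≠ 0 := by rw [← hy]; exact (orderOf_pos y).ne'
          obtain ⟨p, hp, hpn⟩ := Nat.exists_prime_and_dvd h1
          have hpf : Fact p.Prime := ⟨hp⟩
          obtain ⟨a, m, hm, hnm⟩ := Nat.exists_eq_pow_mul_and_not_dvd hn0 p hp.ne_one
          have ha0 : a ≠ 0 := by
            rintro rfl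
            rw [pow_zero, one_mul] at hnm
            rw [hnm] at hpn
            exact hm hpn
          have hm0 : m ≠ 0 := by
            rintro rfl
            rw [mul_zero] at hnm
            exact hn0 hnm
          -- y ^ (p^a) has order m < n
          have ho1 : orderOf (y ^ (p ^ a)) = m := by
            rw [orderOf_pow_of_dvd (pow_ne_zero _ hp.ne_zero)
              (by rw [hy, hnm]; exact dvd_mul_right _ _), hy, hnm,
              Nat.mul_div_cancel_left _ (pow_pos hp.pos _)]
          have hmn : m < n := by
            rw [hnm]
            have : 1 < p ^ a := Nat.one_lt_pow ha0 hp.one_lt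
            have : 0 < m := Nat.pos_of_ne_zero hm0
            nlinarith
          have h2 : y ^ (p ^ a) ∈ Cfsg.fittingSubgroup G := by
            apply ih m hmn _ ho1
            intro H
            rw [← pow_mul, mul_comm, pow_mul]
            exact H.pow_mem (hP H) _
          -- y ^ m is a p-element lying in every Sylow p-subgroup
          have ho2 : orderOf (y ^ m) = p ^ a := by
            rw [orderOf_pow_of_dvd hm0 (by rw [hy, hnm]; exact dvd_mul_left _ _), hy, hnm,
              Nat.mul_div_cancel _ (Nat.pos_of_ne_zero hm0)]
          have h3 : y ^ m ∈ Cfsg.fittingSubgroup G := by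
            apply helper1.pCore_le_fitting p
            rw [helper1.pCore_eq_iInf_sylow, Subgroup.mem_iInf]
            intro P
            have hmem : (y ^ m) ^ (P : Subgroup G).index ∈ (P : Subgroup G) := by
              rw [← pow_mul, mul_comm, pow_mul]
              exact (P : Subgroup G).pow_mem (hP P) _
            have hcop : Nat.Coprime ((P : Subgroup G).index) (orderOf (y ^ m)) := by
              rw [ho2]
              apply Nat.Coprime.pow_right
              exact ((Nat.Prime.coprime_iff_not_dvd hp).mpr P.not_dvd_index).symm
            obtain ⟨k, hk⟩ := exists_pow_eq_self_of_coprime hcop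
            rw [← hk]
            exact (P : Subgroup G).pow_mem hmem k
          have hcop2 : Nat.Coprime (p ^ a) m :=
            Nat.Coprime.pow_left _ ((Nat.Prime.coprime_iff_not_dvd hp).mpr hm)
          exact mem_of_pow_mem_coprime _ y _ _ hcop2 h2 h3
    exact key _ x rfl hx

end Cfsg.Agent.S4263
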