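import Mathlib
import Cfsg.Statements.S4269

set_option autoImplicit false
open Cfsg
open scoped Pointwise commutatorElement

namespace Cfsg.Agent.S4269

variable {G : Type*} [Group G]

theorem mem_cj {H : Subgroup G} {g y : G} :
    y ∈ H.map (MulAut.conj g).toMonoidHom ↔ ∃ h ∈ H, g * h * g⁻¹ = y := by
  rw [Subgroup.mem_map]
  rfl

theorem cj_mul (H : Subgroup G) (a b : G) :
    H.map (MulAut.conj (a * b)).toMonoidHom =
      (H.map (MulAut.conj b).toMonoidHom).map (MulAut.conj a).toMonoidHom := by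
  rw [Subgroup.map_map]
  congr 1
  ext x
  simp [mul_assoc]

theorem cj_of_mem {H : Subgroup G} {h : G} (hh : h ∈ H) :
    H.map (MulAut.conj h).toMonoidHom = H := by
  ext y
  rw [mem_cj]
  constructor
  · rintro ⟨k, hk, rfl⟩
    exact H.mul_mem (H.mul_mem hh hk) (H.inv_mem hh)
  · intro hy
    exact ⟨h⁻¹ * y * h, H.mul_mem (H.mul_mem (H.inv_mem hh) hy) hh, by group⟩

theorem cj_of_mem_normalizer {H : Subgroup G} {n : G}
    (hn : n ∈ Subgroup.normalizer (H : Set G)) :
    H.map (MulAut.conj n).toMonoidHom = H := by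
  ext y
  rw [mem_cj]
  constructor
  · rintro ⟨k, hk, rfl⟩
    exact (Subgroup.mem_normalizer_iff.mp hn k).mp hk
  · intro hy
    refine ⟨n⁻¹ * y * n, ?_, by group⟩
    rw [Subgroup.mem_normalizer_iff.mp hn]
    have : n * (n⁻¹ * y * n) * n⁻¹ = y := by group
    rw [this]; exact hy

theorem mem_normalizer_of_cj {H : Subgroup G} {n : G}
    (hn : H.map (MulAut.conj n).toMonoidHom = H) :
    n ∈ Subgroup.normalizer (H : Set G) := by
  rw [Subgroup.mem_normalizer_iff]
  intro h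
  constructor
  · intro hh
    rw [← hn]
    exact mem_cj.mpr ⟨h, hh, rfl⟩
  · intro hh
    rw [← hn] at hh
    obtain ⟨k, hk, hkk⟩ := mem_cj.mp hh
    have : k = h := by
      exact mul_left_cancel (mul_right_cancel hkk)
    rw [← this]; exact hk

/-- `H` normalizes `⁅H, U⁆` when `U` is `H`-invariant. -/
theorem le_normalizer_comm (H U : Subgroup G)
    (hU : ∀ h ∈ H, U.map (MulAut.conj h).toMonoidHom = U) :
    H ≤ Subgroup.normalizer ((⁅H, U⁆ : Subgroup G) : Set G) := by
  intro h hh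
  apply mem_normalizer_of_cj
  rw [Subgroup.map_commutator, cj_of_mem hh, hU h hh]

theorem comm_le_of_invariant (H U : Subgroup G)
    (hU : ∀ h ∈ H, U.map (MulAut.conj h).toMonoidHom = U) : ⁅H, U⁆ ≤ U := by
  rw [Subgroup.commutator_le]
  intro h hh u hu
  rw [commutatorElement_def]
  have h1 : h * u * h⁻¹ ∈ U := by
    rw [← hU h hh]
    exact mem_cj.mpr ⟨u, hu, rfl⟩
  exact U.mul_mem h1 (U.inv_mem hu)

theorem forward (V : Subgroup G) [V.Normal] (H : Subgroup G)
    (hP : Cfsg.IsPronormal H) (U : Subgroup G) (hUV : U ≤ V)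
    (hU : ∀ h ∈ H, U.map (MulAut.conj h).toMonoidHom = U) :
    U = (U ⊓ Subgroup.normalizer (H : Set G)) ⊔ ⁅H, U⁆ := by
  apply le_antisymm
  · intro u hu
    obtain ⟨x, hx, hxe⟩ := hP u
    -- H ⊔ uHu⁻¹ ≤ ⁅H,U⁆ ⊔ H
    have hle : H ⊔ H.map (MulAut.conj u).toMonoidHom ≤ ⁅H, U⁆ ⊔ H := by
      apply sup_le le_sup_right
      intro y hy
      obtain ⟨h, hh, rfl⟩ := mem_cj.mp hy
      have : u * h * u⁻¹ = ⁅u, h⁆ * h := by rw [commutatorElement_def]; group
      rw [this]
      apply Subgroup.mul_mem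
      · apply Subgroup.mem_sup_left
        rw [Subgroup.commutator_comm]
        exact Subgroup.commutator_mem_commutator hu hh
      · exact Subgroup.mem_sup_right hh
    have hx' : x ∈ ((⁅H, U⁆ ⊔ H : Subgroup G) : Set G) := hle hx
    rw [Subgroup.coe_mul_of_right_le_normalizer_left _ _ (le_normalizer_comm H U hU)] at hx'
    obtain ⟨w, hw, h, hh, rfl⟩ := Set.mem_mul.mp hx'
    rw [cj_mul, cj_of_mem hh] at hxe
    -- uHu⁻¹ = wHw⁻¹
    have hwU : w ∈ U := comm_le_of_invariant H U hU hw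
    have hn : w⁻¹ * u ∈ Subgroup.normalizer (H : Set G) := by
      apply mem_normalizer_of_cj
      rw [cj_mul, hxe, ← cj_mul, inv_mul_cancel]
      ext y
      rw [mem_cj]
      simp
    have hu' : u = w * (w⁻¹ * u) := by group
    rw [hu']
    exact Subgroup.mul_mem _ (Subgroup.mem_sup_right hw)
      (Subgroup.mem_sup_left ⟨U.mul_mem (U.inv_mem hwU) hu, hn⟩)
  · apply sup_le inf_le_left (comm_le_of_invariant H U hU)

theorem comm_of_mem (V : Subgroup G) (hV : IsMulCommutative ↥V) {a b : G} (ha : a ∈ V) (hb : b ∈ V) :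
    a * b = b * a := by
  have := hV.is_comm.comm ⟨a, ha⟩ ⟨b, hb⟩
  exact congrArg Subtype.val this

theorem mem_normalizer_of_abelian (V : Subgroup G) [V.Normal] (hV : IsMulCommutative ↥V)
    (B : Subgroup G) (hB : B ≤ V) {n : G} (hn : n ∈ V) :
    n ∈ Subgroup.normalizer (B : Set G) := by
  rw [Subgroup.mem_normalizer_iff]
  intro y
  constructor
  · intro hy
    have : n * y * n⁻¹ = y := by
      rw [comm_of_mem V hV hn (hB hy)]; group
    rw [this]; exact hy
  · intro hy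
    have hyV : y ∈ V := by
      have h1 : n⁻¹ * (n * y * n⁻¹) * n⁻¹⁻¹ ∈ V :=
        Subgroup.Normal.conj_mem inferInstance _ (hB hy) _
      have h2 : n⁻¹ * (n * y * n⁻¹) * n⁻¹⁻¹ = y := by group
      rw [h2] at h1; exact h1
    have : n * y * n⁻¹ = y := by
      rw [comm_of_mem V hV hn hyV]; group
    rw [this] at hy; exact hy

theorem comm_mem_V (V : Subgroup G) [V.Normal] {k u : G} (hu : u ∈ V) : ⁅k, u⁆ ∈ V := by
  rw [commutatorElement_def]
  exact V.mul_mem (Subgroup.Normal.conj_mem inferInstance _ hu _) (V.inv_mem hu)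

theorem backward (V : Subgroup G) [V.Normal] (hV : IsMulCommutative ↥V) (H : Subgroup G)
    (hHV : H ⊔ V = ⊤)
    (hc : ∀ U : Subgroup G, U ≤ V → (∀ h ∈ H, U.map (MulAut.conj h).toMonoidHom = U) →
        U = (U ⊓ Subgroup.normalizer (H : Set G)) ⊔ ⁅H, U⁆) : Cfsg.IsPronormal H := by
  intro g
  have hg : g ∈ ((V ⊔ H : Subgroup G) : Set G) := by rw [sup_comm, hHV]; trivial
  rw [Subgroup.normal_mul] at hg
  obtain ⟨v, hv, h, hh, rfl⟩ := Set.mem_mul.mp hg
  rw [cj_mul, cj_of_mem hh]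
  have hvV : v ∈ V := hv
  set S : Set G := {y | ∃ k ∈ H, y = k * v * k⁻¹} with hS
  set U := Subgroup.closure S with hUdef
  have hSV : S ⊆ V := by
    rintro y ⟨k, _, rfl⟩
    exact Subgroup.Normal.conj_mem inferInstance _ hvV _
  have hUV : U ≤ V := (Subgroup.closure_le _).mpr hSV
  have hUinv : ∀ k ∈ H, U.map (MulAut.conj k).toMonoidHom = U := by
    intro k hk
    rw [hUdef, MonoidHom.map_closure]
    congr 1
    ext y
    constructor
    · rintro ⟨_, ⟨k', hk', rfl⟩, rfl⟩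
      refine ⟨k * k', H.mul_mem hk hk', ?_⟩
      simp [mul_assoc]
    · rintro ⟨k', hk', rfl⟩
      refine ⟨(k⁻¹ * k') * v * (k⁻¹ * k')⁻¹, ⟨k⁻¹ * k', H.mul_mem (H.inv_mem hk) hk', rfl⟩, ?_⟩
      simp [mul_assoc]
  have hvU : v ∈ U := Subgroup.subset_closure ⟨1, H.one_mem, by simp⟩
  have hdec := hc U hUV hUinv
  have hWU : ⁅H, U⁆ ≤ U := comm_le_of_invariant H U hUinv
  have hnorm : U ⊓ Subgroup.normalizer (H : Set G) ≤
      Subgroup.normalizer ((⁅H, U⁆ : Subgroup G) : Set G) := by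
    intro n hn
    exact mem_normalizer_of_abelian V hV _ (hWU.trans hUV) (hUV hn.1)
  have hvmem : v ∈ (((U ⊓ Subgroup.normalizer (H : Set G)) ⊔ ⁅H, U⁆ : Subgroup G) : Set G) := by
    rw [← hdec]; exact hvU
  rw [Subgroup.coe_mul_of_left_le_normalizer_right _ _ hnorm] at hvmem
  obtain ⟨n, hn, w, hw, hnw⟩ := Set.mem_mul.mp hvmem
  have hnV : n ∈ V := hUV hn.1
  have hwV : w ∈ V := hUV (hWU hw)
  have hv' : v = w * n := by rw [← hnw]; exact comm_of_mem V hV hnV hwV
  -- key claim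
  have key : ∀ u ∈ U, ∀ k ∈ H, ⁅k, u⁆ ∈ H ⊔ H.map (MulAut.conj v).toMonoidHom := by
    intro u hu
    induction hu using Subgroup.closure_induction with
    | mem y hy =>
      obtain ⟨k', hk', rfl⟩ := hy
      intro k hk
      have e : ⁅k, k' * v * k'⁻¹⁆ = k' * ⁅k'⁻¹ * k * k', v⁆ * k'⁻¹ := by
        rw [conjugate_commutatorElement]
        congr 1
        group
      rw [e]
      have hk'J : k' ∈ H ⊔ H.map (MulAut.conj v).toMonoidHom := Subgroup.mem_sup_left hk'
      refine Subgroup.mul_mem _ (Subgroup.mul_mem _ hk'J ?_) (Subgroup.inv_mem _ hk'J)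
      have ha : k'⁻¹ * k * k' ∈ H := H.mul_mem (H.mul_mem (H.inv_mem hk') hk) hk'
      have e2 : ⁅k'⁻¹ * k * k', v⁆ = (k'⁻¹ * k * k') * (v * (k'⁻¹ * k * k')⁻¹ * v⁻¹) := by
        rw [commutatorElement_def]; group
      rw [e2]
      exact Subgroup.mul_mem _ (Subgroup.mem_sup_left ha)
        (Subgroup.mem_sup_right (mem_cj.mpr ⟨_, H.inv_mem ha, rfl⟩))
    | one =>
      intro k _
      rw [commutatorElement_one_right]
      exact Subgroup.one_mem _
    | mul u1 u2 hu1 hu2 ih1 ih2 =>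
      intro k hk
      have hu1V : u1 ∈ V := hUV hu1
      have hu2V : u2 ∈ V := hUV hu2
      have e : ⁅k, u1 * u2⁆ = ⁅k, u1⁆ * (u1 * ⁅k, u2⁆ * u1⁻¹) := by
        simp only [commutatorElement_def]; group
      have e2 : u1 * ⁅k, u2⁆ * u1⁻¹ = ⁅k, u2⁆ := by
        rw [comm_of_mem V hV hu1V (comm_mem_V V hu2V)]; group
      rw [e, e2]
      exact Subgroup.mul_mem _ (ih1 k hk) (ih2 k hk)
    | inv u hu ih =>
      intro k hk
      have huV : u ∈ V := hUV hu
      have e : ⁅k, u⁻¹⁆ = u⁻¹ * ⁅k, u⁆⁻¹ * u := by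
        simp only [commutatorElement_def]; group
      have e2 : u⁻¹ * ⁅k, u⁆⁻¹ * u = ⁅k, u⁆⁻¹ := by
        rw [comm_of_mem V hV (V.inv_mem huV) (V.inv_mem (comm_mem_V V huV))]; group
      rw [e, e2]
      exact Subgroup.inv_mem _ (ih k hk)
  have hWJ : ⁅H, U⁆ ≤ H ⊔ H.map (MulAut.conj v).toMonoidHom := by
    rw [Subgroup.commutator_le]
    intro k hk u hu
    exact key u hu k hk
  refine ⟨w, hWJ hw, ?_⟩
  rw [hv', cj_mul, cj_of_mem_normalizer hn.2]

/-- Let G be a finite group, V an abelian normal subgroup and H a subgroup with HV = G. Then H is pronormal in G (H and gHg⁻¹ are conjugate inside the subgroup they generate, for every g) if and only if every H-invariant subgroup U of V satisfies U = N_U(H)·[H, U], that is, U is the join of U ∩ N_G(H) and the commutator subgroup [H, U]. -/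
theorem result {G : Type*} [Group G] [Finite G]
    (V : Subgroup G) [V.Normal] (hV : IsMulCommutative ↥V) (H : Subgroup G) (hHV : H ⊔ V = ⊤) :
    Cfsg.IsPronormal H ↔
      ∀ U : Subgroup G, U ≤ V → (∀ h ∈ H, U.map (MulAut.conj h).toMonoidHom = U) →
        U = (U ⊓ Subgroup.normalizer (H : Set G)) ⊔ ⁅H, U⁆ := by
  constructor
  · intro hP U hUV hU
    exact forward V H hP U hUV hU
  · intro hc
    exact backward V hV H hHV hc

end Cfsg.Agent.S4269
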