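import Mathlib
import Cfsg.Statements.S4270
import Cfsg.Agent.Lib_helper21_Prn2

set_option autoImplicit false
set_option linter.style.haveILetI false
open Cfsg

namespace Cfsg.Agent.S4270

open Cfsg.Agent.helper21.Prn in
/-- Let p be a prime and G a finite group with a normal subgroup A such that, both in A and in G/A, every subgroup containing a Sylow p-subgroup of that group is pronormal in that group. Let T be a Sylow p-subgroup of A. Then every subgroup of G containing a Sylow p-subgroup of G is pronormal in G if and only if (i) every subgroup of N_G(T)/T containing a Sylow p-subgroup of N_G(T)/T is pronormal there, and (ii) for every subgroup H of G containing a Sylow p-subgroup of G, the image of N_G(H) in G/A is the full normalizer of the image of H. (Pronormal: H and gHg⁻¹ are conjugate inside the subgroup they generate, for every g.) -/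
theorem result {G : Type*} [Group G] [Finite G] {p : ℕ} [Fact p.Prime]
    (A : Subgroup G) [A.Normal] (hA : (∀ K : Subgroup ↥A, (∃ P : Sylow p ↥A, (P : Subgroup ↥A) ≤ K) → Cfsg.IsPronormal K)) (hQ : (∀ K : Subgroup (G ⧸ A), (∃ P : Sylow p (G ⧸ A), (P : Subgroup (G ⧸ A)) ≤ K) → Cfsg.IsPronormal K))
    (T : Subgroup G) (hT : ∃ P : Sylow p ↥A, (P : Subgroup ↥A).map A.subtype = T) [(T.subgroupOf (Subgroup.normalizer (T : Set G))).Normal] :
    (∀ K : Subgroup G, (∃ P : Sylow p G, (P : Subgroup G) ≤ K) → Cfsg.IsPronormal K) ↔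
      ((∀ K : Subgroup (↥(Subgroup.normalizer (T : Set G)) ⧸ T.subgroupOf (Subgroup.normalizer (T : Set G))), (∃ P : Sylow p (↥(Subgroup.normalizer (T : Set G)) ⧸ T.subgroupOf (Subgroup.normalizer (T : Set G))), (P : Subgroup (↥(Subgroup.normalizer (T : Set G)) ⧸ T.subgroupOf (Subgroup.normalizer (T : Set G)))) ≤ K) → Cfsg.IsPronormal K) ∧
        ∀ K : Subgroup G, (∃ P : Sylow p G, (P : Subgroup G) ≤ K) →
          (Subgroup.normalizer (K : Set G)).map (QuotientGroup.mk' A) = Subgroup.normalizer ((K.map (QuotientGroup.mk' A) : Subgroup (G ⧸ A)) : Set (G ⧸ A))) := by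
  obtain ⟨hTA, hTp, hTi⟩ := hT_facts A T hT
  have hA' := hA_amb A T hT hA
  constructor
  · intro hG
    refine ⟨hN_quot A T hTA hTp hTi hG, ?_⟩
    intro K hK
    apply le_antisymm (Subgroup.le_normalizer_map _)
    intro gb hgb
    obtain ⟨g, rfl⟩ := QuotientGroup.mk'_surjective A gb
    have hKp := (isPronormal_iff K).mp (hG K hK)
    obtain ⟨x, hx, hxe⟩ := hKp g (Subgroup.mem_top _)
    have h1 : (cj g K).map (QuotientGroup.mk' A) = K.map (QuotientGroup.mk' A) := by
      rw [map_cj]; exact cj_eq_iff_mem_normalizer.mpr hgb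
    have h2 : cj g K ≤ K ⊔ A := by
      have := Subgroup.le_comap_map (QuotientGroup.mk' A) (cj g K)
      rw [h1, Subgroup.comap_map_eq, QuotientGroup.ker_mk'] at this
      exact this
    have hxKA : x ∈ K ⊔ A := (sup_le le_sup_left h2) hx
    have h3 : x⁻¹ * g ∈ Subgroup.normalizer (K : Set G) := by
      rw [← cj_eq_iff_mem_normalizer, cj_mul, hxe, cj_inv_cj]
    have h4 : QuotientGroup.mk' A x ∈ K.map (QuotientGroup.mk' A) := by
      have : QuotientGroup.mk' A x ∈ (K ⊔ A).map (QuotientGroup.mk' A) := ⟨x, hxKA, rfl⟩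
      rw [Subgroup.map_sup, QuotientGroup.map_mk'_self, sup_bot_eq] at this
      exact this
    have h5 : QuotientGroup.mk' A g = QuotientGroup.mk' A x * QuotientGroup.mk' A (x⁻¹ * g) := by
      rw [← map_mul]; congr 1; group
    rw [h5]
    exact Subgroup.mul_mem _ (Subgroup.map_mono Subgroup.le_normalizer h4) ⟨x⁻¹ * g, h3, rfl⟩
  · rintro ⟨hN, hii⟩ K ⟨P0, hP0⟩
    have hN' := hN_amb T hN
    exact reduce T hTp
      (fun H P1 h1 h2 => main2 A T hTA hTp hTi hA' hN' hQ hii H P1 h1 h2) K P0 hP0

end Cfsg.Agent.S4270
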