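import Cfsg.Statements.S4277
import Mathlib
import Cfsg.Agent.S0675
import Cfsg.Agent.Lib_helper10_PrimeDegOut2

set_option autoImplicit false
open Cfsg

namespace Cfsg.Agent.S4277

open Cfsg.Agent.helper10 in
/-- A case of the Schreier conjecture: if a finite simple group G has a subgroup of prime index, then the outer automorphism group of G is solvable. -/
theorem result {G : Type*} [Group G] [Finite G] [IsSimpleGroup G] (H : Subgroup G) (hH : H.index.Prime) : Group.IsSolvable (Cfsg.Out G) := by
  classical
  by_cases hsolv : Group.IsSolvable G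
  · -- abelian simple group: cyclic, automorphism group abelian
    have hcomm : ∀ a b : G, a * b = b * a := IsSimpleGroup.comm_iff_isSolvable.mpr hsolv
    haveI hcyc : IsCyclic G := by
      haveI : Nontrivial G := IsSimpleGroup.toNontrivial
      obtain ⟨g, hg⟩ := exists_ne (1 : G)
      haveI : (Subgroup.zpowers g).Normal := ⟨fun n hn x => by
        rw [hcomm x n, mul_inv_cancel_right]; exact hn⟩
      have : Subgroup.zpowers g = ⊤ :=
        (IsSimpleGroup.eq_bot_or_eq_top_of_normal (Subgroup.zpowers g) inferInstance).resolve_left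
          (Subgroup.zpowers_ne_bot.2 hg)
      exact ⟨⟨g, (Subgroup.eq_top_iff' _).1 this⟩⟩
    haveI : Group.IsSolvable (MulAut G) :=
      Group.isSolvable_of_isSolvable_injective (f := (IsCyclic.mulAutMulEquiv G).toMonoidHom)
        (IsCyclic.mulAutMulEquiv G).injective
    exact Group.isSolvable_of_surjective (QuotientGroup.mk'_surjective (Cfsg.Inn G))
  · -- nonabelian: permutation representation on the cosets of H
    set p := H.index with hp
    haveI : Fintype (G ⧸ H) := Fintype.ofFinite _
    have hΩ : Fintype.card (G ⧸ H) = p := by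
      rw [← Nat.card_eq_fintype_card]; rfl
    set φ : G →* Equiv.Perm (G ⧸ H) := MulAction.toPermHom G (G ⧸ H) with hφ
    have hinj : Function.Injective φ := by
      rw [← MonoidHom.ker_eq_bot_iff]
      rcases IsSimpleGroup.eq_bot_or_eq_top_of_normal φ.ker inferInstance with h | h
      · exact h
      · exfalso
        have hHtop : H = ⊤ := by
          rw [eq_top_iff]
          intro g _
          have hg : g ∈ φ.ker := by rw [h]; trivial
          rw [MonoidHom.mem_ker] at hg
          have h1 : φ g ((1 : G) : G ⧸ H) = ((1 : G) : G ⧸ H) := by rw [hg]; rfl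
          rw [hφ, MulAction.toPermHom_apply, MulAction.toPerm_apply] at h1
          have h2 : ((g * 1 : G) : G ⧸ H) = ((1 : G) : G ⧸ H) := h1
          rw [mul_one, QuotientGroup.eq] at h2
          simpa using h2
        have hp1 : p = 1 := by rw [hp, hHtop, Subgroup.index_top]
        rw [hp1] at hH
        exact Nat.not_prime_one hH
    set Gh : Subgroup (Equiv.Perm (G ⧸ H)) := φ.range with hGh
    let e : G ≃* ↥Gh := MonoidHom.ofInjective hinj
    haveI htr : MulAction.IsPretransitive ↥Gh (G ⧸ H) := by
      constructor
      intro a b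
      obtain ⟨g, hg⟩ := MulAction.exists_smul_eq G a b
      exact ⟨⟨φ g, ⟨g, rfl⟩⟩, hg⟩
    rcases Cfsg.Agent.S0675.result (hΩ ▸ hH) Gh with hs | h2
    · exfalso
      apply hsolv
      exact Group.isSolvable_of_isSolvable_injective (f := e.toMonoidHom) e.injective
    · haveI hOut : Group.IsSolvable (Cfsg.Out ↥Gh) := pdo_main p hH hΩ Gh h2
      -- transfer along e
      let Θ : MulAut ↥Gh →* Cfsg.Out G :=
        (QuotientGroup.mk' (Cfsg.Inn G)).comp (MulAut.congr e).symm.toMonoidHom
      have hΘ : Cfsg.Inn ↥Gh ≤ Θ.ker := by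
        rintro _ ⟨g, rfl⟩
        rw [MonoidHom.mem_ker]
        simp only [Θ, MonoidHom.comp_apply, QuotientGroup.mk'_apply, QuotientGroup.eq_one_iff]
        refine ⟨e.symm g, ?_⟩
        apply MulEquiv.ext
        intro x
        simp [MulAut.conj_apply, MulAut.congr]
      let Λ : Cfsg.Out ↥Gh →* Cfsg.Out G := QuotientGroup.lift (Cfsg.Inn ↥Gh) Θ hΘ
      have hsurj : Function.Surjective Λ := by
        intro y
        obtain ⟨a, rfl⟩ := QuotientGroup.mk'_surjective (Cfsg.Inn G) y
        refine ⟨QuotientGroup.mk' (Cfsg.Inn ↥Gh) (MulAut.congr e a), ?_⟩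
        have h1 : (MulAut.congr e).symm (MulAut.congr e a) = a := (MulAut.congr e).symm_apply_apply a
        simp only [Λ, Θ, QuotientGroup.mk'_apply, QuotientGroup.lift_mk, MonoidHom.comp_apply,
          MulEquiv.coe_toMonoidHom, h1]
      exact Group.isSolvable_of_surjective hsurj

end Cfsg.Agent.S4277
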