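import Mathlib
import Cfsg.Agent.Lib_helper21_FrobCount
import Cfsg.Statements.S4283

set_option autoImplicit false
open Cfsg

namespace Cfsg.Agent.S4283

open scoped Pointwise
open Cfsg.Agent.helper21

theorem mk_mem_map_iff {G : Type*} [Group G] (N : Subgroup G) [N.Normal] (K : Subgroup G)
    (hNK : N ≤ K) (x : G) :
    (QuotientGroup.mk' N x) ∈ K.map (QuotientGroup.mk' N) ↔ x ∈ K := by
  rw [← Subgroup.mem_comap, Subgroup.comap_map_eq, QuotientGroup.ker_mk', sup_eq_left.mpr hNK]

/-- Let G be a finite group with centre Z and let K, H be abelian subgroups of G containing Z such that G/Z is a Frobenius group with complement H/Z and kernel K/Z. Then the conjugacy class sizes of G are exactly 1, [G : K] and [G : H], and these two indices are coprime. (This is the converse half of the characterization of finite groups whose conjugacy class sizes are exactly 1, m and n with m and n coprime.) -/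
theorem result {G : Type*} [Group G] [Finite G] (K H : Subgroup G) (hZK : Subgroup.center G ≤ K) (hZH : Subgroup.center G ≤ H) (hK : IsMulCommutative K) (hH : IsMulCommutative H) (hFrob : Cfsg.IsFrobeniusComplement (H.map (QuotientGroup.mk' (Subgroup.center G)))) (hker : Cfsg.frobeniusKernel (H.map (QuotientGroup.mk' (Subgroup.center G))) = (K.map (QuotientGroup.mk' (Subgroup.center G)) : Set (G ⧸ Subgroup.center G))) : Set.range (fun x : G => (Subgroup.centralizer ({x} : Set G)).index) = ({1, K.index, H.index} : Set ℕ) ∧ K.index.Coprime H.index := by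
  classical
  have hmemK : ∀ x : G, (QuotientGroup.mk' (Subgroup.center G) x) ∈
      K.map (QuotientGroup.mk' (Subgroup.center G)) ↔ x ∈ K := mk_mem_map_iff _ K hZK
  have hmemH : ∀ x : G, (QuotientGroup.mk' (Subgroup.center G) x) ∈
      H.map (QuotientGroup.mk' (Subgroup.center G)) ↔ x ∈ H := mk_mem_map_iff _ H hZH
  have hπ1 : ∀ x : G, QuotientGroup.mk' (Subgroup.center G) x = 1 ↔ x ∈ Subgroup.center G :=
    fun x => QuotientGroup.eq_one_iff x
  have hkerchar : ∀ x : G, x ∈ K ↔
      (QuotientGroup.mk' (Subgroup.center G) x = 1 ∨ ∀ g : G, g⁻¹ * x * g ∉ H) := by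
    intro x
    rw [← hmemK x, ← SetLike.mem_coe, ← hker]
    simp only [Cfsg.frobeniusKernel, Set.mem_ofPred_eq]
    constructor
    · rintro (h | h)
      · exact Or.inl h
      · right; intro g hg
        apply h (QuotientGroup.mk' (Subgroup.center G) g)
        rw [frobc_mem_conj, ← map_inv, ← map_mul, ← map_mul, hmemH]; exact hg
    · rintro (h | h)
      · exact Or.inl h
      · right; intro gb hgb
        obtain ⟨g, rfl⟩ := QuotientGroup.mk'_surjective _ gb
        rw [frobc_mem_conj, ← map_inv, ← map_mul, ← map_mul, hmemH] at hgb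
        exact h g hgb
  have hcommH : ∀ u v : G, u ∈ H → u ∉ Subgroup.center G → v * u = u * v → v ∈ H := by
    intro u v hu huZ hvu
    rw [← hmemH v]
    apply frobc_comm _ hFrob (QuotientGroup.mk' (Subgroup.center G) u)
      (QuotientGroup.mk' (Subgroup.center G) v) ((hmemH u).mpr hu)
    · rw [Ne, hπ1]; exact huZ
    · rw [← map_inv, ← map_mul, ← map_mul, hmemH]
      have : v⁻¹ * u * v = u := by rw [mul_assoc, ← hvu]; group
      rw [this]; exact hu
  have hKc : ∀ a ∈ K, ∀ b ∈ K, a * b = b * a := by
    intro a ha b hb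
    have := (isMulCommutative_iff.mp hK) ⟨a, ha⟩ ⟨b, hb⟩
    exact congrArg Subtype.val this
  have hHc : ∀ a ∈ H, ∀ b ∈ H, a * b = b * a := by
    intro a ha b hb
    have := (isMulCommutative_iff.mp hH) ⟨a, ha⟩ ⟨b, hb⟩
    exact congrArg Subtype.val this
  have hconjZ : ∀ y g : G, QuotientGroup.mk' (Subgroup.center G) y ≠ 1 →
      g⁻¹ * y * g ∉ Subgroup.center G := by
    intro y g hy1 h
    apply hy1
    rw [hπ1]
    have h2 := (inferInstance : (Subgroup.center G).Normal).conj_mem _ h g
    convert h2 using 1; group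
  have hcentK : ∀ x : G, x ∈ K → x ∉ Subgroup.center G →
      Subgroup.centralizer ({x} : Set G) = K := by
    intro x hxK hxZ
    ext y
    rw [Subgroup.mem_centralizer_singleton_iff]
    constructor
    · intro hy
      by_contra hyK
      rw [hkerchar y] at hyK
      push Not at hyK
      obtain ⟨hy1, g, hg⟩ := hyK
      have huZ := hconjZ y g hy1
      have hv : g⁻¹ * x * g ∈ H := by
        apply hcommH (g⁻¹ * y * g) (g⁻¹ * x * g) hg huZ
        calc g⁻¹ * x * g * (g⁻¹ * y * g) = g⁻¹ * (x * y) * g := by group
          _ = g⁻¹ * (y * x) * g := by rw [hy]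
          _ = g⁻¹ * y * g * (g⁻¹ * x * g) := by group
      rcases (hkerchar x).mp hxK with h | h
      · exact hxZ ((hπ1 x).mp h)
      · exact h g hv
    · intro hy; exact hKc y hy x hxK
  have hcentH : ∀ x : G, x ∉ K → (Subgroup.centralizer ({x} : Set G)).index = H.index := by
    intro x hxK
    rw [hkerchar x] at hxK
    push Not at hxK
    obtain ⟨hx1, g, hg⟩ := hxK
    have hxZ' := hconjZ x g hx1
    have : Subgroup.centralizer ({x} : Set G) = H.map ((MulAut.conj g : G ≃* G) : G →* G) := by
      ext y
      rw [Subgroup.mem_centralizer_singleton_iff, Subgroup.mem_map]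
      constructor
      · intro hy
        refine ⟨g⁻¹ * y * g, ?_, ?_⟩
        · apply hcommH (g⁻¹ * x * g) _ hg hxZ'
          calc g⁻¹ * y * g * (g⁻¹ * x * g) = g⁻¹ * (y * x) * g := by group
            _ = g⁻¹ * (x * y) * g := by rw [hy]
            _ = g⁻¹ * x * g * (g⁻¹ * y * g) := by group
        · simp only [MonoidHom.coe_coe, MulAut.conj_apply]; group
      · rintro ⟨w, hw, rfl⟩
        have := hHc w hw (g⁻¹ * x * g) hg
        simp only [MonoidHom.coe_coe, MulAut.conj_apply]
        calc g * w * g⁻¹ * x = g * (w * (g⁻¹ * x * g)) * g⁻¹ := by group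
          _ = g * ((g⁻¹ * x * g) * w) * g⁻¹ := by rw [this]
          _ = x * (g * w * g⁻¹) := by group
    rw [this]
    exact Subgroup.index_map_equiv H (MulAut.conj g)
  have hKbcard : Nat.card (K.map (QuotientGroup.mk' (Subgroup.center G)))
      = (H.map (QuotientGroup.mk' (Subgroup.center G))).index := by
    rw [← frobc_kernel_card (H.map (QuotientGroup.mk' (Subgroup.center G))) hFrob]
    apply Nat.card_congr
    apply Equiv.subtypeEquivRight
    intro xb
    rw [← SetLike.mem_coe, ← hker]
    simp only [Cfsg.frobeniusKernel, Set.mem_ofPred_eq, frobc_mem_conj]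
  have hdvd := frobc_card_dvd (H.map (QuotientGroup.mk' (Subgroup.center G))) hFrob
  have hidxK : K.index = (K.map (QuotientGroup.mk' (Subgroup.center G))).index :=
    (Subgroup.index_map_eq K (QuotientGroup.mk'_surjective _)
      (by rw [QuotientGroup.ker_mk']; exact hZK)).symm
  have hidxH : H.index = (H.map (QuotientGroup.mk' (Subgroup.center G))).index :=
    (Subgroup.index_map_eq H (QuotientGroup.mk'_surjective _)
      (by rw [QuotientGroup.ker_mk']; exact hZH)).symm
  have hposH : 0 < (H.map (QuotientGroup.mk' (Subgroup.center G))).index :=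
    Nat.pos_of_ne_zero Subgroup.index_ne_zero_of_finite
  have hKbidx : (K.map (QuotientGroup.mk' (Subgroup.center G))).index
      = Nat.card (H.map (QuotientGroup.mk' (Subgroup.center G))) := by
    have e1 := Subgroup.index_mul_card (K.map (QuotientGroup.mk' (Subgroup.center G)))
    have e2 := Subgroup.index_mul_card (H.map (QuotientGroup.mk' (Subgroup.center G)))
    rw [hKbcard] at e1
    apply Nat.eq_of_mul_eq_mul_left hposH
    rw [e2, ← e1, mul_comm]
  have hexK : ∃ x : G, x ∈ K ∧ x ∉ Subgroup.center G := by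
    have h1 : (H.map (QuotientGroup.mk' (Subgroup.center G))).index ≠ 1 := by
      rw [Ne, Subgroup.index_eq_one]; exact hFrob.2.1
    have h2 : 1 < Nat.card (K.map (QuotientGroup.mk' (Subgroup.center G))) := by
      rw [hKbcard]; omega
    rw [Subgroup.one_lt_card_iff_ne_bot, Subgroup.ne_bot_iff_exists_ne_one] at h2
    obtain ⟨⟨xb, hxb⟩, hne⟩ := h2
    obtain ⟨x, hxK, rfl⟩ := hxb
    refine ⟨x, hxK, ?_⟩
    intro hxZ
    apply hne
    apply Subtype.ext
    exact (hπ1 x).mpr hxZ
  have hexH : ∃ x : G, x ∉ K := by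
    have h2 := hFrob.1
    rw [Subgroup.ne_bot_iff_exists_ne_one] at h2
    obtain ⟨⟨xb, hxb⟩, hne⟩ := h2
    obtain ⟨x, hxH, rfl⟩ := hxb
    refine ⟨x, ?_⟩
    intro hxK
    rcases (hkerchar x).mp hxK with h | h
    · exact hne (Subtype.ext h)
    · exact h 1 (by simpa using hxH)
  constructor
  · ext n
    simp only [Set.mem_range, Set.mem_insert_iff, Set.mem_singleton_iff]
    constructor
    · rintro ⟨x, rfl⟩
      by_cases hxZ : x ∈ Subgroup.center G
      · left
        rw [Subgroup.index_eq_one, Subgroup.centralizer_eq_top_iff_subset]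
        simpa using hxZ
      · by_cases hxK : x ∈ K
        · right; left; rw [hcentK x hxK hxZ]
        · right; right; exact hcentH x hxK
    · rintro (rfl | rfl | rfl)
      · refine ⟨1, ?_⟩
        rw [Subgroup.index_eq_one, Subgroup.centralizer_eq_top_iff_subset]
        simp
      · obtain ⟨x, hxK, hxZ⟩ := hexK
        exact ⟨x, by rw [hcentK x hxK hxZ]⟩
      · obtain ⟨x, hxK⟩ := hexH
        exact ⟨x, hcentH x hxK⟩
  · rw [hidxK, hidxH, hKbidx]
    obtain ⟨c, hc⟩ := hdvd
    have : (H.map (QuotientGroup.mk' (Subgroup.center G))).index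
        = Nat.card (H.map (QuotientGroup.mk' (Subgroup.center G))) * c + 1 := by omega
    rw [this, Nat.coprime_mul_left_add_right]
    exact Nat.coprime_one_right _

end Cfsg.Agent.S4283
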