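import Mathlib
import Cfsg.Statements.S4293

set_option autoImplicit false
open Cfsg
open Pointwise

namespace Cfsg.Agent.S4293

/-- Frobenius complements are transported by isomorphisms. -/
theorem frob_map {L₀ L₁ : Type*} [Group L₀] [Group L₁] (E : L₀ ≃* L₁) (C : Subgroup L₀)
    (h : Cfsg.IsFrobeniusComplement C) : Cfsg.IsFrobeniusComplement (C.map E.toMonoidHom) := by
  obtain ⟨h1, h2, h3⟩ := h
  refine ⟨?_, ?_, ?_⟩
  · intro hbot
    apply h1
    rw [eq_bot_iff]
    intro c hc
    have : E c ∈ C.map E.toMonoidHom := ⟨c, hc, rfl⟩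
    rw [hbot, Subgroup.mem_bot] at this
    rw [Subgroup.mem_bot]
    exact E.injective (by rw [this, map_one])
  · intro htop
    apply h2
    rw [eq_top_iff]
    intro x _
    have : E x ∈ C.map E.toMonoidHom := by rw [htop]; trivial
    obtain ⟨c, hc, hcx⟩ := this
    have : c = x := E.injective hcx
    rw [← this]; exact hc
  · intro g hg
    obtain ⟨g₀, rfl⟩ := E.surjective g
    have hg₀ : g₀ ∉ C := fun hc => hg ⟨g₀, hc, rfl⟩
    rw [eq_bot_iff]
    intro y hy
    obtain ⟨hy1, hy2⟩ := Subgroup.mem_inf.mp hy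
    obtain ⟨c, hc, rfl⟩ := hy1
    obtain ⟨z, hz, hzy⟩ := Subgroup.mem_smul_pointwise_iff_exists _ _ _ |>.mp hy2
    obtain ⟨c', hc', rfl⟩ := hz
    rw [MulAut.smul_def, MulAut.conj_apply] at hzy
    have h4 : c = g₀ * c' * g₀⁻¹ := by
      apply E.injective
      have : E.toMonoidHom c = E c := rfl
      rw [← this, ← hzy]
      simp
    have h5 : c ∈ C ⊓ (MulAut.conj g₀ • C) := by
      refine Subgroup.mem_inf.mpr ⟨hc, ?_⟩
      rw [Subgroup.mem_smul_pointwise_iff_exists]
      exact ⟨c', hc', by rw [MulAut.smul_def, MulAut.conj_apply, h4]⟩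
    rw [h3 g₀ hg₀, Subgroup.mem_bot] at h5
    rw [Subgroup.mem_bot, h5]
    exact map_one _

/-- The semidirect product construction of a Frobenius group. -/
theorem frob_of_fpf {N H : Type*} [Group N] [Finite N] [Nontrivial N] [Group H] [Finite H]
    [Nontrivial H] (φ : H →* MulAut N) (hfpf : ∀ h : H, h ≠ 1 → ∀ n : N, φ h n = n → n = 1) :
    ∃ (L : Type) (_ : Group L) (_ : Finite L) (C : Subgroup L),
      Cfsg.IsFrobeniusComplement C ∧ Nonempty (H ≃* C) := by
  obtain ⟨C₀, hC₀⟩ : ∃ C₀ : Subgroup (N ⋊[φ] H), C₀ = (SemidirectProduct.inr : H →* N ⋊[φ] H).range :=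
    ⟨_, rfl⟩
  have hmem : ∀ g : N ⋊[φ] H, g ∈ C₀ ↔ g.left = 1 := by
    intro g
    rw [hC₀, MonoidHom.mem_range]
    constructor
    · rintro ⟨h, rfl⟩; exact SemidirectProduct.left_inr h
    · intro hg
      refine ⟨g.right, ?_⟩
      apply SemidirectProduct.ext
      · rw [SemidirectProduct.left_inr, hg]
      · rw [SemidirectProduct.right_inr]
  have hF : Cfsg.IsFrobeniusComplement C₀ := by
    refine ⟨?_, ?_, ?_⟩
    · intro hbot
      obtain ⟨h, hh⟩ := exists_ne (1 : H)
      have : (SemidirectProduct.inr h : N ⋊[φ] H) ∈ C₀ := by rw [hC₀]; exact ⟨h, rfl⟩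
      rw [hbot, Subgroup.mem_bot] at this
      apply hh
      apply SemidirectProduct.inr_injective (φ := φ)
      rw [this, map_one]
    · intro htop
      obtain ⟨n, hn⟩ := exists_ne (1 : N)
      have : (SemidirectProduct.inl n : N ⋊[φ] H) ∈ C₀ := by rw [htop]; trivial
      rw [hmem, SemidirectProduct.left_inl] at this
      exact hn this
    · intro g hg
      rw [hmem] at hg
      rw [eq_bot_iff]
      intro y hy
      obtain ⟨hy1, hy2⟩ := Subgroup.mem_inf.mp hy
      obtain ⟨z, hz, hzy⟩ := Subgroup.mem_smul_pointwise_iff_exists _ _ _ |>.mp hy2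
      rw [MulAut.smul_def, MulAut.conj_apply] at hzy
      rw [hmem] at hy1 hz
      -- compute left and right of y
      have hr : y.right = g.right * z.right * g.right⁻¹ := by
        rw [← hzy]; simp
      have hl : y.left = g.left * φ y.right g.left⁻¹ := by
        rw [hr, ← hzy]
        simp [hz]
      rw [hy1] at hl
      have h5 : φ y.right g.left⁻¹ = g.left⁻¹ := by
        have := hl
        calc φ y.right g.left⁻¹ = g.left⁻¹ * (g.left * φ y.right g.left⁻¹) := by group
          _ = g.left⁻¹ := by rw [← this, mul_one]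
      have h6 : y.right = 1 := by
        by_contra hne
        have := hfpf _ hne _ h5
        exact hg (inv_eq_one.mp this)
      rw [Subgroup.mem_bot]
      apply SemidirectProduct.ext
      · rw [hy1, SemidirectProduct.one_left]
      · rw [h6, SemidirectProduct.one_right]
  -- transport to `Type`
  haveI : Finite (N ⋊[φ] H) :=
    Finite.of_injective (fun g : N ⋊[φ] H => (g.left, g.right))
      (fun a b hab => SemidirectProduct.ext (congrArg Prod.fst hab) (congrArg Prod.snd hab))
  obtain ⟨T, hT⟩ : ∃ T : Type, T = {i : ℕ // i < Nat.card (N ⋊[φ] H)} := ⟨_, rfl⟩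
  have e0 : T ≃ (N ⋊[φ] H) := by
    rw [hT]
    exact (Fin.equivSubtype).symm.trans (Finite.equivFin _).symm
  letI : Group T := e0.group
  let E : (N ⋊[φ] H) ≃* T := (Equiv.mulEquiv e0).symm
  haveI : Finite T := Finite.of_equiv _ e0.symm
  refine ⟨T, inferInstance, inferInstance, C₀.map E.toMonoidHom,
    frob_map E C₀ hF, ⟨?_⟩⟩
  have e1 : H ≃* C₀ := by
    rw [hC₀]
    exact MonoidHom.ofInjective (SemidirectProduct.inr_injective (φ := φ))
  exact e1.trans (E.subgroupMap C₀)


/-- Frobenius group from a finite quotient module of a subring on which the group acts freely. -/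
theorem frob_of_ring {D : Type*} [DivisionRing D] {H : Type*} [Group H] [Finite H] [Nontrivial H]
    (R : Subring D) (f : H →* R) (I : Submodule R R) [Finite (R ⧸ I)] (h1 : (1 : R) ∉ I)
    (hfpf : ∀ h : H, h ≠ 1 → ∀ x : R, f h * x - x ∈ I → x ∈ I) :
    ∃ (L : Type) (_ : Group L) (_ : Finite L) (C : Subgroup L),
      Cfsg.IsFrobeniusComplement C ∧ Nonempty (H ≃* C) := by
  let φ : H →* MulAut (Multiplicative (R ⧸ I)) :=
    ((MulAutMultiplicative (R ⧸ I)).symm.toMonoidHom.comp
      (DistribMulAction.toAddAut Rˣ (R ⧸ I))).comp f.toHomUnits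
  have hφ : ∀ (h : H) (x : R), φ h (Multiplicative.ofAdd (Submodule.Quotient.mk x)) =
      Multiplicative.ofAdd (Submodule.Quotient.mk (f h * x)) := fun h x => rfl
  haveI : Nontrivial (Multiplicative (R ⧸ I)) := by
    refine ⟨⟨Multiplicative.ofAdd (Submodule.Quotient.mk 1), 1, ?_⟩⟩
    intro h
    apply h1
    have h2 : (Submodule.Quotient.mk (1 : R) : R ⧸ I) = 0 := h
    exact (Submodule.Quotient.mk_eq_zero I).mp h2
  haveI : Finite (Multiplicative (R ⧸ I)) := Finite.of_equiv _ Multiplicative.ofAdd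
  apply frob_of_fpf φ
  intro h hh n hn
  obtain ⟨x, hx⟩ := Submodule.Quotient.mk_surjective I (Multiplicative.toAdd n)
  have hn' : n = Multiplicative.ofAdd (Submodule.Quotient.mk x) := by rw [hx]; rfl
  rw [hn', hφ] at hn
  have h2 : (Submodule.Quotient.mk (f h * x) : R ⧸ I) = Submodule.Quotient.mk x :=
    Multiplicative.ofAdd.injective hn
  rw [Submodule.Quotient.eq] at h2
  have h3 := hfpf h hh x h2
  rw [hn']
  have h4 : (Submodule.Quotient.mk x : R ⧸ I) = 0 := (Submodule.Quotient.mk_eq_zero I).mpr h3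
  rw [h4]; rfl

variable {D : Type*} [DivisionRing D]

/-- The additive closure of a multiplicative subgroup is closed under multiplication. -/
theorem mul_mem_closure (H : Subgroup Dˣ) (a b : D)
    (ha : a ∈ AddSubgroup.closure (Set.range (fun h : H => ((h : Dˣ) : D))))
    (hb : b ∈ AddSubgroup.closure (Set.range (fun h : H => ((h : Dˣ) : D)))) :
    a * b ∈ AddSubgroup.closure (Set.range (fun h : H => ((h : Dˣ) : D))) := by
  induction ha using AddSubgroup.closure_induction with
  | mem x hx =>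
    obtain ⟨h, rfl⟩ := hx
    induction hb using AddSubgroup.closure_induction with
    | mem y hy =>
      obtain ⟨h', rfl⟩ := hy
      apply AddSubgroup.subset_closure
      exact ⟨h * h', by simp⟩
    | zero => rw [mul_zero]; exact AddSubgroup.zero_mem _
    | add y z _ _ hy hz => rw [mul_add]; exact AddSubgroup.add_mem _ hy hz
    | neg y _ hy => rw [mul_neg]; exact AddSubgroup.neg_mem _ hy
  | zero => rw [zero_mul]; exact AddSubgroup.zero_mem _
  | add y z _ _ hy hz => rw [add_mul]; exact AddSubgroup.add_mem _ hy hz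
  | neg y _ hy => rw [neg_mul]; exact AddSubgroup.neg_mem _ hy

/-- The subring `ℤ[H]`. -/
def ringOf (H : Subgroup Dˣ) : Subring D where
  carrier := AddSubgroup.closure (Set.range (fun h : H => ((h : Dˣ) : D)))
  mul_mem' := fun ha hb => mul_mem_closure H _ _ ha hb
  one_mem' := AddSubgroup.subset_closure ⟨1, by simp⟩
  add_mem' := fun ha hb => AddSubgroup.add_mem _ ha hb
  zero_mem' := AddSubgroup.zero_mem _
  neg_mem' := fun ha => AddSubgroup.neg_mem _ ha

theorem mem_ringOf (H : Subgroup Dˣ) (x : D) :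
    x ∈ ringOf H ↔ x ∈ AddSubgroup.closure (Set.range (fun h : H => ((h : Dˣ) : D))) := Iff.rfl

/-- The inclusion of `H` into `ℤ[H]`. -/
def incl (H : Subgroup Dˣ) : H →* ringOf H where
  toFun h := ⟨((h : Dˣ) : D), AddSubgroup.subset_closure ⟨h, rfl⟩⟩
  map_one' := by apply Subtype.ext; simp
  map_mul' a b := by apply Subtype.ext; simp

theorem incl_val (H : Subgroup Dˣ) (h : H) : ((incl H h : ringOf H) : D) = ((h : Dˣ) : D) := rfl

theorem incl_ne_one (H : Subgroup Dˣ) (h : H) (hh : h ≠ 1) : ((h : Dˣ) : D) ≠ 1 := by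
  intro h1
  apply hh
  apply Subtype.ext
  apply Units.ext
  simpa using h1

/-- `ℤ[H]` is finitely generated as an abelian group. -/
theorem finite_ringOf (H : Subgroup Dˣ) [Finite H] : Module.Finite ℤ (ringOf H) := by
  rw [Module.finite_def, Submodule.fg_def]
  refine ⟨Set.range (fun h : H => incl H h), Set.finite_range _, ?_⟩
  rw [eq_top_iff]
  rintro ⟨x, hx⟩ -
  rw [mem_ringOf] at hx
  induction hx using AddSubgroup.closure_induction with
  | mem y hy =>
    obtain ⟨h, rfl⟩ := hy
    exact Submodule.subset_span ⟨h, rfl⟩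
  | zero => exact Submodule.zero_mem _
  | add y z hy hz hy' hz' =>
    have : (⟨y + z, AddSubgroup.add_mem _ hy hz⟩ : ringOf H) = ⟨y, hy⟩ + ⟨z, hz⟩ := rfl
    rw [this]; exact Submodule.add_mem _ (hy' hy) (hz' hz)
  | neg y hy hy' =>
    have : (⟨-y, AddSubgroup.neg_mem _ hy⟩ : ringOf H) = -⟨y, hy⟩ := rfl
    rw [this]; exact Submodule.neg_mem _ (hy' hy)


/-- Positive characteristic. -/
theorem result_pos (H : Subgroup Dˣ) [Finite H] [Nontrivial H] (p : ℕ) (hpp : p.Prime)
    [hp : CharP D p] :
    ∃ (L : Type) (_ : Group L) (_ : Finite L) (C : Subgroup L),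
      Cfsg.IsFrobeniusComplement C ∧ Nonempty (H ≃* C) := by
  haveI hfin : Module.Finite ℤ (ringOf H) := finite_ringOf H
  haveI : AddGroup.FG (ringOf H) := Module.Finite.iff_addGroup_fg.mp hfin
  haveI : Finite (ringOf H) := by
    apply AddCommGroup.finite_of_fg_isAddTorsion
    intro x
    rw [isOfFinAddOrder_iff_nsmul_eq_zero]
    refine ⟨p, hpp.pos, ?_⟩
    apply Subtype.ext
    have h1 : ((p • x : ringOf H) : D) = (p : D) * (x : D) := by
      rw [nsmul_eq_mul]; simp
    rw [h1, CharP.cast_eq_zero, zero_mul]; rfl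
  haveI : Finite (ringOf H ⧸ (⊥ : Submodule (ringOf H) (ringOf H))) :=
    Finite.of_surjective _ (Submodule.Quotient.mk_surjective _)
  apply frob_of_ring (ringOf H) (incl H) ⊥
  · intro h
    rw [Submodule.mem_bot] at h
    exact one_ne_zero h
  · intro h hh x hx
    rw [Submodule.mem_bot] at hx ⊢
    have h2 : (((h : Dˣ) : D) - 1) * (x : D) = 0 := by
      have := congrArg Subtype.val hx
      rw [sub_mul, one_mul]
      simpa [incl_val] using this
    rcases mul_eq_zero.mp h2 with h3 | h3
    · exact absurd (sub_eq_zero.mp h3) (incl_ne_one H h hh)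
    · exact Subtype.ext h3

/-- Characteristic zero. -/
theorem result_zero (H : Subgroup Dˣ) [Finite H] [Nontrivial H] [CharZero D] :
    ∃ (L : Type) (_ : Group L) (_ : Finite L) (C : Subgroup L),
      Cfsg.IsFrobeniusComplement C ∧ Nonempty (H ≃* C) := by
  haveI hfin : Module.Finite ℤ (ringOf H) := finite_ringOf H
  haveI : Module.Free ℤ (ringOf H) := Module.free_of_finite_type_torsion_free'
  obtain ⟨b, -⟩ : ∃ b : Module.Basis (Module.Free.ChooseBasisIndex ℤ (ringOf H)) ℤ (ringOf H),
      True := ⟨Module.Free.chooseBasis ℤ (ringOf H), trivial⟩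
  have hne : b.repr 1 ≠ 0 := by
    intro h
    have := b.repr.injective (h.trans (map_zero _).symm)
    exact one_ne_zero this
  obtain ⟨i, hi⟩ := Finsupp.ne_iff.mp hne
  rw [Finsupp.zero_apply] at hi
  obtain ⟨q, hq, hqp⟩ := Nat.exists_infinite_primes (Nat.card H + ((b.repr 1) i).natAbs + 1)
  obtain ⟨I, hI⟩ : ∃ I : Submodule (ringOf H) (ringOf H), I = Ideal.span {((q : ℕ) : ringOf H)} :=
    ⟨_, rfl⟩
  have hImem : ∀ x : ringOf H, x ∈ I ↔ ∃ a : ringOf H, a * (q : ringOf H) = x := by
    intro x; rw [hI]; exact Ideal.mem_span_singleton'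
  have hqI : ∀ x : ringOf H, (q : ringOf H) * x ∈ I := by
    intro x
    rw [hImem]
    exact ⟨x, (Nat.cast_comm q x).symm⟩
  -- finiteness of the quotient
  haveI : Module.Finite ℤ (ringOf H ⧸ I) :=
    Module.Finite.of_surjective (I.mkQ.restrictScalars ℤ) (Submodule.Quotient.mk_surjective I)
  haveI : AddGroup.FG (ringOf H ⧸ I) := Module.Finite.iff_addGroup_fg.mp inferInstance
  haveI : Finite (ringOf H ⧸ I) := by
    apply AddCommGroup.finite_of_fg_isAddTorsion
    intro m
    rw [isOfFinAddOrder_iff_nsmul_eq_zero]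
    refine ⟨q, hqp.pos, ?_⟩
    obtain ⟨x, rfl⟩ := Submodule.Quotient.mk_surjective I m
    rw [← Submodule.Quotient.mk_smul, Submodule.Quotient.mk_eq_zero, nsmul_eq_mul]
    exact hqI x
  apply frob_of_ring (ringOf H) (incl H) I
  · -- 1 ∉ I
    intro h1
    obtain ⟨a, ha⟩ := (hImem 1).mp h1
    have h2 : b.repr 1 = q • b.repr a := by
      rw [← map_nsmul, nsmul_eq_mul, Nat.cast_comm, ha]
    have h3 : (b.repr 1) i = (q : ℤ) * (b.repr a) i := by
      rw [h2, Finsupp.smul_apply, nsmul_eq_mul]
    have h4 : (q : ℤ) ∣ (b.repr 1) i := ⟨_, h3⟩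
    have h5 : |(b.repr 1) i| < (q : ℤ) := by
      rw [Int.abs_eq_natAbs]
      exact_mod_cast (by omega : ((b.repr 1) i).natAbs < q)
    exact hi (Int.eq_zero_of_abs_lt_dvd h4 h5)
  · -- fixed-point-freeness
    intro h hh x hx
    obtain ⟨u, hu⟩ : ∃ u : ringOf H, u = incl H h := ⟨_, rfl⟩
    rw [← hu] at hx
    have hpow : ∀ k : ℕ, u ^ k * x - x ∈ I := by
      intro k
      induction k with
      | zero => rw [pow_zero, one_mul, sub_self]; exact I.zero_mem
      | succ k ih =>
        have : u ^ (k + 1) * x - x = u • (u ^ k * x - x) + (u * x - x) := by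
          rw [pow_succ', smul_eq_mul]; noncomm_ring
        rw [this]
        exact I.add_mem (I.smul_mem u ih) hx
    obtain ⟨n, hn⟩ : ∃ n, n = orderOf h := ⟨_, rfl⟩
    have hnpos : 0 < n := by rw [hn]; exact orderOf_pos h
    have hnH : n ≤ Nat.card H := by
      rw [hn]; exact Nat.le_of_dvd Nat.card_pos (orderOf_dvd_natCard h)
    have hun : u ^ n = 1 := by
      rw [hu, ← map_pow, hn, pow_orderOf_eq_one, map_one]
    have hsum0 : ∑ k ∈ Finset.range n, u ^ k = 0 := by
      have h1 := geom_sum_mul u n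
      rw [hun, sub_self] at h1
      have h2 : u - 1 ≠ 0 := by
        intro h3
        have h4 : ((incl H h : ringOf H) : D) = 1 := by
          rw [← hu, sub_eq_zero.mp h3]; rfl
        exact incl_ne_one H h hh h4
      have h5 := congrArg Subtype.val h1
      rw [Subring.coe_mul, Subring.coe_zero] at h5
      rcases mul_eq_zero.mp h5 with h6 | h6
      · exact Subtype.ext h6
      · exact absurd (Subtype.ext h6) h2
    have hnx : (n : ringOf H) * x ∈ I := by
      have h1 : ∑ k ∈ Finset.range n, (u ^ k * x - x) ∈ I :=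
        Submodule.sum_mem I (fun k _ => hpow k)
      rw [Finset.sum_sub_distrib, ← Finset.sum_mul, hsum0, zero_mul, zero_sub, Finset.sum_const,
        Finset.card_range, nsmul_eq_mul] at h1
      have := I.neg_mem h1
      rwa [neg_neg] at this
    -- Bezout
    have hcop : Nat.Coprime n q := by
      rw [Nat.coprime_comm, hqp.coprime_iff_not_dvd]
      intro hdvd
      have := Nat.le_of_dvd hnpos hdvd
      omega
    have hbez : (n : ℤ) * Nat.gcdA n q + (q : ℤ) * Nat.gcdB n q = 1 := by
      have := Nat.gcd_eq_gcd_ab n q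
      rw [hcop] at this
      exact_mod_cast this.symm
    have hx1 : x = ((Nat.gcdA n q : ℤ) : ringOf H) • ((n : ringOf H) * x) +
        ((Nat.gcdB n q : ℤ) : ringOf H) • ((q : ringOf H) * x) := by
      have h1 : ((n : ℤ) : ringOf H) * ((Nat.gcdA n q : ℤ) : ringOf H) +
          ((q : ℤ) : ringOf H) * ((Nat.gcdB n q : ℤ) : ringOf H) = 1 := by
        exact_mod_cast congrArg (fun z : ℤ => (z : ringOf H)) hbez
      rw [smul_eq_mul, smul_eq_mul, ← mul_assoc, ← mul_assoc, ← add_mul]
      have h2 : ((Nat.gcdA n q : ℤ) : ringOf H) * (n : ringOf H) +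
          ((Nat.gcdB n q : ℤ) : ringOf H) * (q : ringOf H) = 1 := by
        rw [← h1]
        rw [Int.cast_natCast, Int.cast_natCast, Nat.cast_comm n, Nat.cast_comm q]
      rw [h2, one_mul]
    rw [hx1]
    exact I.add_mem (I.smul_mem _ hnx) (I.smul_mem _ (hqI x))

/-- A nontrivial finite subgroup of the multiplicative group of a division ring occurs as a Frobenius complement of some finite Frobenius group. -/
theorem result {D : Type*} [DivisionRing D] (H : Subgroup Dˣ) [Finite H] (hH : H ≠ ⊥) :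
    ∃ (L : Type) (_ : Group L) (_ : Finite L) (C : Subgroup L), Cfsg.IsFrobeniusComplement C ∧ Nonempty (H ≃* C) := by
  haveI : Nontrivial H := (Subgroup.nontrivial_iff_ne_bot H).mpr hH
  obtain ⟨p, hp⟩ := CharP.exists D
  rcases CharP.char_is_prime_or_zero D p with hpp | hp0
  · exact result_pos H p hpp
  · subst hp0
    haveI : CharZero D := CharP.charP_to_charZero D
    exact result_zero H

end Cfsg.Agent.S4293
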