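import Mathlib
import Cfsg.Statements.S4296
import Cfsg.Agent.S0035
import Cfsg.Agent.S0039
import Cfsg.Agent.S0040
import Cfsg.Agent.Lib_helper9_QuatSq

set_option autoImplicit false
open Cfsg

namespace Cfsg.Agent.S4296

open Cfsg.Agent.helper9.QuatSq

/-- A Frobenius complement containing a quaternion-type pair has a kernel of odd square order. -/
theorem core {L : Type*} [Group L] [Finite L] (H : Subgroup L) (hF : Cfsg.IsFrobeniusComplement H)
    (x y z : L) (hxH : x ∈ H) (hx : x * x = z) (hy : y * y = z) (hxyx : x * y * x = y)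
    (hz1 : z ≠ 1) (hz2 : z * z = 1) :
    Odd (Nat.card (Cfsg.frobeniusKernel H)) ∧ IsSquare (Nat.card (Cfsg.frobeniusKernel H)) ∧
      1 < Nat.card (Cfsg.frobeniusKernel H) := by
  obtain ⟨K, hKset, hKn, hc⟩ := Cfsg.Agent.S0035.result H hF
  haveI := hKn
  have hKne : K ≠ ⊥ := by
    intro hb
    rw [hb, Subgroup.isComplement'_bot_left] at hc
    exact hF.2.1 hc
  have hfpf := (Cfsg.Agent.S0039.result K H hc hKne hF.1).mp hF
  have hzH : z ∈ H := by rw [← hx]; exact H.mul_mem hxH hxH
  have hfix : ∀ k ∈ K, z * k = k * z → k = 1 := by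
    intro k hk hzk
    have h1 : k ∈ K ⊓ Subgroup.centralizer {z} := by
      refine Subgroup.mem_inf.mpr ⟨hk, ?_⟩
      rw [Subgroup.mem_centralizer_iff]
      intro h hh
      rw [Set.mem_singleton_iff] at hh
      rw [hh]
      exact hzk
    rw [hfpf z hzH hz1, Subgroup.mem_bot] at h1
    exact h1
  obtain ⟨hinv, hodd⟩ := inverts_of_fpf_involution K z hz2 hfix
  have hyx : y * x * y⁻¹ = x⁻¹ := by
    calc y * x * y⁻¹ = x⁻¹ * (x * y * x) * y⁻¹ := by group
      _ = x⁻¹ := by rw [hxyx]; group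
  have hsq := card_sq_of_quat K x y z hx hy hyx hinv hodd
  have hcard : Nat.card (Cfsg.frobeniusKernel H) = Nat.card K := by
    rw [← hKset]
    rfl
  rw [hcard]
  exact ⟨hodd, hsq, K.one_lt_card_iff_ne_bot.mpr hKne⟩

/-- Let H be a Frobenius complement in a finite group, and suppose some Sylow subgroup of H is not cyclic. Then the number of elements of the Frobenius kernel (the identity together with the elements lying in no conjugate of H) is an odd perfect square. -/
theorem result {L : Type*} [Group L] [Finite L] (H : Subgroup L) (hF : Cfsg.IsFrobeniusComplement H)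
    (hZ : ∃ (p : ℕ) (_ : Fact p.Prime) (P : Sylow p H), ¬ IsCyclic P) :
    Odd (Nat.card (Cfsg.frobeniusKernel H)) ∧ IsSquare (Nat.card (Cfsg.frobeniusKernel H)) := by
  obtain ⟨p, hp, P, hP⟩ := hZ
  obtain ⟨K, hKset, hKn, hc⟩ := Cfsg.Agent.S0035.result H hF
  haveI := hKn
  have hKne : K ≠ ⊥ := by
    intro hb
    rw [hb, Subgroup.isComplement'_bot_left] at hc
    exact hF.2.1 hc
  have hfpf := (Cfsg.Agent.S0039.result K H hc hKne hF.1).mp hF
  rcases Cfsg.Agent.S0040.result K H hc hKne hfpf p P with hcyc | ⟨n, ⟨e⟩⟩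
  · exact absurd hcyc hP
  · rcases n with _ | n'
    · exfalso
      apply hP
      haveI : IsCyclic (QuaternionGroup (2 ^ 0)) := by
        rw [pow_zero]
        exact QuaternionGroup.quaternionGroup_one_isCyclic
      exact isCyclic_of_surjective e.symm e.symm.surjective
    · obtain ⟨ψ, hψ⟩ : ∃ ψ : QuaternionGroup (2 ^ (n' + 1)) →* L,
          ψ = (H.subtype.comp (P : Subgroup H).subtype).comp e.symm.toMonoidHom := ⟨_, rfl⟩
      have hψinj : Function.Injective ψ := by
        rw [hψ]
        intro u v huv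
        have h1 : ((e.symm u : H) : L) = ((e.symm v : H) : L) := huv
        exact e.symm.injective (Subtype.ext (Subtype.ext h1))
      have hψH : ∀ u, ψ u ∈ H := by
        intro u
        rw [hψ]
        exact ((e.symm u : P) : H).2
      have hNZ : NeZero (2 * 2 ^ (n' + 1)) := ⟨by positivity⟩
      have e1 : QuaternionGroup.a ((2 ^ n' : ℕ) : ZMod (2 * 2 ^ (n' + 1))) *
          QuaternionGroup.a ((2 ^ n' : ℕ) : ZMod (2 * 2 ^ (n' + 1))) =
          QuaternionGroup.a ((2 ^ (n' + 1) : ℕ) : ZMod (2 * 2 ^ (n' + 1))) := by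
        rw [QuaternionGroup.a_mul_a]
        congr 1
        push_cast
        ring
      have e2 : QuaternionGroup.xa (0 : ZMod (2 * 2 ^ (n' + 1))) * QuaternionGroup.xa 0 =
          QuaternionGroup.a ((2 ^ (n' + 1) : ℕ) : ZMod (2 * 2 ^ (n' + 1))) := by
        rw [QuaternionGroup.xa_mul_xa]
        congr 1
        push_cast
        ring
      have e3 : QuaternionGroup.a ((2 ^ n' : ℕ) : ZMod (2 * 2 ^ (n' + 1))) *
          QuaternionGroup.xa 0 * QuaternionGroup.a ((2 ^ n' : ℕ) : ZMod (2 * 2 ^ (n' + 1))) =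
          QuaternionGroup.xa 0 := by
        rw [QuaternionGroup.a_mul_xa, QuaternionGroup.xa_mul_a]
        congr 1
        ring
      have e4 : QuaternionGroup.a ((2 ^ (n' + 1) : ℕ) : ZMod (2 * 2 ^ (n' + 1))) ≠ 1 := by
        intro h1
        rw [QuaternionGroup.one_def] at h1
        have h2 : ((2 ^ (n' + 1) : ℕ) : ZMod (2 * 2 ^ (n' + 1))) = 0 := by
          injection h1
        rw [ZMod.natCast_eq_zero_iff] at h2
        have h3 := Nat.le_of_dvd (by positivity) h2
        have h4 : 0 < 2 ^ (n' + 1) := by positivity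
        omega
      have e5 : QuaternionGroup.a ((2 ^ (n' + 1) : ℕ) : ZMod (2 * 2 ^ (n' + 1))) *
          QuaternionGroup.a ((2 ^ (n' + 1) : ℕ) : ZMod (2 * 2 ^ (n' + 1))) = 1 := by
        rw [QuaternionGroup.a_mul_a, QuaternionGroup.one_def]
        congr 1
        rw [← Nat.cast_add, ZMod.natCast_eq_zero_iff]
        exact ⟨1, by ring⟩
      have hcore := core H hF (ψ (QuaternionGroup.a ((2 ^ n' : ℕ) : ZMod (2 * 2 ^ (n' + 1)))))
        (ψ (QuaternionGroup.xa 0)) (ψ (QuaternionGroup.a ((2 ^ (n' + 1) : ℕ) : ZMod (2 * 2 ^ (n' + 1)))))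
        (hψH _) (by rw [← map_mul, e1]) (by rw [← map_mul, e2]) (by rw [← map_mul, ← map_mul, e3])
        (fun h1 => e4 (hψinj (h1.trans (map_one ψ).symm))) (by rw [← map_mul, e5, map_one])
      exact ⟨hcore.1, hcore.2.1⟩

end Cfsg.Agent.S4296
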