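import Mathlib
import Cfsg.Statements.S4295
import Cfsg.Agent.S4296
import Cfsg.Agent.Lib_helper11_QuatPres

set_option autoImplicit false
open Cfsg
open Pointwise

namespace Cfsg.Agent.S4295

/-- The complement in a semidirect product with fixed-point-free action is a Frobenius
complement. -/
theorem frob_semidirect {N H : Type*} [Group N] [Nontrivial N] [Group H] [Nontrivial H]
    (φ : H →* MulAut N) (hfpf : ∀ h : H, h ≠ 1 → ∀ n : N, φ h n = n → n = 1) :
    Cfsg.IsFrobeniusComplement ((SemidirectProduct.inr : H →* N ⋊[φ] H).range) := by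
  obtain ⟨C₀, hC₀⟩ : ∃ C₀ : Subgroup (N ⋊[φ] H), C₀ = (SemidirectProduct.inr : H →* N ⋊[φ] H).range :=
    ⟨_, rfl⟩
  rw [← hC₀]
  have hmem : ∀ g : N ⋊[φ] H, g ∈ C₀ ↔ g.left = 1 := by
    intro g
    rw [hC₀, MonoidHom.mem_range]
    constructor
    · rintro ⟨h, rfl⟩; exact SemidirectProduct.left_inr h
    · intro hg
      refine ⟨g.right, ?_⟩
      apply SemidirectProduct.ext
      · rw [SemidirectProduct.left_inr, hg]
      · rw [SemidirectProduct.right_inr]
  refine ⟨?_, ?_, ?_⟩
  · intro hbot
    obtain ⟨h, hh⟩ := exists_ne (1 : H)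
    have : (SemidirectProduct.inr h : N ⋊[φ] H) ∈ C₀ := by rw [hC₀]; exact ⟨h, rfl⟩
    rw [hbot, Subgroup.mem_bot] at this
    apply hh
    apply SemidirectProduct.inr_injective (φ := φ)
    rw [this, map_one]
  · intro htop
    obtain ⟨n, hn⟩ := exists_ne (1 : N)
    have : (SemidirectProduct.inl n : N ⋊[φ] H) ∈ C₀ := by rw [htop]; trivial
    rw [hmem, SemidirectProduct.left_inl] at this
    exact hn this
  · intro g hg
    rw [hmem] at hg
    rw [eq_bot_iff]
    intro y hy
    obtain ⟨hy1, hy2⟩ := Subgroup.mem_inf.mp hy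
    obtain ⟨z, hz, hzy⟩ := Subgroup.mem_smul_pointwise_iff_exists _ _ _ |>.mp hy2
    rw [MulAut.smul_def, MulAut.conj_apply] at hzy
    rw [hmem] at hy1 hz
    have hr : y.right = g.right * z.right * g.right⁻¹ := by
      rw [← hzy]; simp
    have hl : y.left = g.left * φ y.right g.left⁻¹ := by
      rw [hr, ← hzy]
      simp [hz]
    rw [hy1] at hl
    have h5 : φ y.right g.left⁻¹ = g.left⁻¹ := by
      have := hl
      calc φ y.right g.left⁻¹ = g.left⁻¹ * (g.left * φ y.right g.left⁻¹) := by group
        _ = g.left⁻¹ := by rw [← this, mul_one]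
    have h6 : y.right = 1 := by
      by_contra hne
      have := hfpf _ hne _ h5
      exact hg (inv_eq_one.mp this)
    rw [Subgroup.mem_bot]
    apply SemidirectProduct.ext
    · rw [hy1, SemidirectProduct.one_left]
    · rw [h6, SemidirectProduct.one_right]

/-- Finite commutative rings of every odd order without 2-torsion in which `-1` is a sum of two
squares. -/
theorem exists_ring : ∀ k : ℕ, Odd k → ∃ (R : Type) (_ : CommRing R) (_ : Finite R),
    Nat.card R = k ∧ (∀ r : R, r + r = 0 → r = 0) ∧ ∃ a b : R, a * a + b * b = -1 := by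
  intro k
  induction k using Nat.strong_induction_on with
  | _ k ih =>
    intro hk
    by_cases hk1 : k = 1
    · subst hk1
      refine ⟨PUnit, inferInstance, inferInstance, Nat.card_unique, fun r _ => Subsingleton.elim _ _,
        0, 0, Subsingleton.elim _ _⟩
    · have hp : k.minFac.Prime := Nat.minFac_prime hk1
      obtain ⟨k', hk'⟩ := Nat.minFac_dvd k
      haveI : Fact k.minFac.Prime := ⟨hp⟩
      have hkpos : 0 < k := hk.pos
      have hk'pos : 0 < k' := by
        rcases Nat.eq_zero_or_pos k' with h0 | h0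
        · rw [h0, mul_zero] at hk'; omega
        · exact h0
      have hk'odd : Odd k' := by
        rw [hk'] at hk
        exact (Nat.odd_mul.mp hk).2
      have hpodd : Odd k.minFac := by
        rw [hk'] at hk
        exact (Nat.odd_mul.mp hk).1
      have hk'lt : k' < k := by
        have h2 := hp.two_le
        rw [hk']
        nlinarith
      obtain ⟨R', iR', fR', hcard', htor', a', b', hab'⟩ := ih k' hk'lt hk'odd
      obtain ⟨a0, b0, hab0⟩ := ZMod.sq_add_sq k.minFac (-1 : ZMod k.minFac)
      have h2ne : (2 : ZMod k.minFac) ≠ 0 := by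
        intro h2
        have h3 : ((2 : ℕ) : ZMod k.minFac) = 0 := by exact_mod_cast h2
        rw [ZMod.natCast_eq_zero_iff] at h3
        have h4 := (Nat.prime_dvd_prime_iff_eq hp Nat.prime_two).mp h3
        rw [h4] at hpodd
        exact absurd hpodd (by decide)
      refine ⟨ZMod k.minFac × R', inferInstance, inferInstance, ?_, ?_, (a0, a'), (b0, b'), ?_⟩
      · rw [Nat.card_prod, Nat.card_zmod, hcard', ← hk']
      · intro r hr
        have h1 : r.1 + r.1 = 0 := congrArg Prod.fst hr
        have h2 : r.2 + r.2 = 0 := congrArg Prod.snd hr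
        apply Prod.ext
        · have h3 : (2 : ZMod k.minFac) * r.1 = 0 := by rw [two_mul]; exact h1
          rcases mul_eq_zero.mp h3 with h4 | h4
          · exact absurd h4 h2ne
          · exact h4
        · exact htor' _ h2
      · apply Prod.ext
        · show a0 * a0 + b0 * b0 = -1
          rw [← hab0]; ring
        · show a' * a' + b' * b' = -1
          exact hab'

section action

variable (R : Type) [CommRing R]

/-- rotation by a quarter turn -/
def xA : (R × R) ≃+ (R × R) where
  toFun v := (-v.2, v.1)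
  invFun v := (v.2, -v.1)
  left_inv v := by
    apply Prod.ext
    · show v.1 = v.1
      rfl
    · show - -v.2 = v.2
      exact neg_neg _
  right_inv v := by
    apply Prod.ext
    · show - -v.1 = v.1
      exact neg_neg _
    · show v.2 = v.2
      rfl
  map_add' u v := by
    apply Prod.ext
    · show -(u.2 + v.2) = -u.2 + -v.2
      ring
    · show u.1 + v.1 = u.1 + v.1
      rfl

variable {R}

/-- a reflection-like element of order four -/
def yA (a b : R) (hab : a * a + b * b = -1) : (R × R) ≃+ (R × R) where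
  toFun v := (a * v.1 + b * v.2, b * v.1 - a * v.2)
  invFun v := (-(a * v.1 + b * v.2), -(b * v.1 - a * v.2))
  left_inv v := by
    apply Prod.ext
    · show -(a * (a * v.1 + b * v.2) + b * (b * v.1 - a * v.2)) = v.1
      linear_combination (-v.1) * hab
    · show -(b * (a * v.1 + b * v.2) - a * (b * v.1 - a * v.2)) = v.2
      linear_combination (-v.2) * hab
  right_inv v := by
    apply Prod.ext
    · show a * (-(a * v.1 + b * v.2)) + b * (-(b * v.1 - a * v.2)) = v.1
      linear_combination (-v.1) * hab
    · show b * (-(a * v.1 + b * v.2)) - a * (-(b * v.1 - a * v.2)) = v.2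
      linear_combination (-v.2) * hab
  map_add' u v := by
    apply Prod.ext
    · show a * (u.1 + v.1) + b * (u.2 + v.2) = (a * u.1 + b * u.2) + (a * v.1 + b * v.2)
      ring
    · show b * (u.1 + v.1) - a * (u.2 + v.2) = (b * u.1 - a * u.2) + (b * v.1 - a * v.2)
      ring

theorem xA_sq_apply (v : R × R) : xA R (xA R v) = -v := by
  apply Prod.ext
  · show -v.1 = -v.1
    rfl
  · show -v.2 = -v.2
    rfl

theorem yA_sq_apply (a b : R) (hab : a * a + b * b = -1) (v : R × R) :
    yA a b hab (yA a b hab v) = -v := by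
  apply Prod.ext
  · show a * (a * v.1 + b * v.2) + b * (b * v.1 - a * v.2) = -v.1
    linear_combination v.1 * hab
  · show b * (a * v.1 + b * v.2) - a * (b * v.1 - a * v.2) = -v.2
    linear_combination v.2 * hab

theorem xyx_apply (a b : R) (hab : a * a + b * b = -1) (v : R × R) :
    xA R (yA a b hab (xA R v)) = yA a b hab v := by
  apply Prod.ext
  · show -(b * (-v.2) - a * v.1) = a * v.1 + b * v.2
    ring
  · show a * (-v.2) + b * v.1 = b * v.1 - a * v.2
    ring

variable (R) in
/-- multiplicative version of `xA` -/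
def xM : MulAut (Multiplicative (R × R)) := AddEquiv.toMultiplicative (xA R)

/-- multiplicative version of `yA` -/
def yM (a b : R) (hab : a * a + b * b = -1) : MulAut (Multiplicative (R × R)) :=
  AddEquiv.toMultiplicative (yA a b hab)

theorem xM_apply (n : Multiplicative (R × R)) :
    xM R n = Multiplicative.ofAdd (xA R n.toAdd) := rfl

theorem yM_apply (a b : R) (hab : a * a + b * b = -1) (n : Multiplicative (R × R)) :
    yM a b hab n = Multiplicative.ofAdd (yA a b hab n.toAdd) := rfl

theorem xM_sq_apply (n : Multiplicative (R × R)) :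
    (xM R * xM R) n = Multiplicative.ofAdd (-n.toAdd) := by
  rw [MulAut.mul_apply, xM_apply, xM_apply, toAdd_ofAdd, xA_sq_apply]

theorem hx4 : xM R ^ (2 * 2) = 1 := by
  rw [pow_mul, pow_two, pow_two]
  apply MulEquiv.ext
  intro n
  rw [MulAut.mul_apply, xM_sq_apply, xM_sq_apply, toAdd_ofAdd, neg_neg]
  rfl

theorem hy2 (a b : R) (hab : a * a + b * b = -1) : yM a b hab ^ 2 = xM R ^ 2 := by
  rw [pow_two, pow_two]
  apply MulEquiv.ext
  intro n
  rw [xM_sq_apply, MulAut.mul_apply, yM_apply, yM_apply, toAdd_ofAdd, yA_sq_apply]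

theorem hyxy (a b : R) (hab : a * a + b * b = -1) :
    yM a b hab * xM R * (yM a b hab)⁻¹ = (xM R)⁻¹ := by
  have h1 : xM R * yM a b hab * xM R = yM a b hab := by
    apply MulEquiv.ext
    intro n
    rw [MulAut.mul_apply, MulAut.mul_apply, xM_apply, yM_apply, xM_apply, toAdd_ofAdd, toAdd_ofAdd,
      xyx_apply, yM_apply]
  calc yM a b hab * xM R * (yM a b hab)⁻¹
      = (xM R)⁻¹ * (xM R * yM a b hab * xM R) * (yM a b hab)⁻¹ := by group
    _ = (xM R)⁻¹ := by rw [h1]; group

/-- the action of the quaternion group of order eight -/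
noncomputable def psiA (a b : R) (hab : a * a + b * b = -1) :
    QuaternionGroup 2 →* MulAut (Multiplicative (R × R)) :=
  Cfsg.Agent.helper11.QuatPres.quatHom (n := 2) (xM R) (yM a b hab) hx4 (hy2 a b hab) (hyxy a b hab)

theorem psiA_centre (a b : R) (hab : a * a + b * b = -1) (n : Multiplicative (R × R)) :
    psiA a b hab (QuaternionGroup.a 2) n = Multiplicative.ofAdd (-n.toAdd) := by
  have h1 : psiA a b hab (QuaternionGroup.a 2) = xM R ^ 2 := rfl
  rw [h1, pow_two, xM_sq_apply]

theorem quat_cases (c : QuaternionGroup 2) (hc : c ≠ 1) :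
    c = QuaternionGroup.a 2 ∨ c * c = QuaternionGroup.a 2 := by
  rcases c with i | i
  · have hi : i ≠ 0 := by
      intro h0
      apply hc
      rw [h0]
      rfl
    have h2 : ∀ j : ZMod (2 * 2), j ≠ 0 → j = 2 ∨ j + j = 2 := by decide
    rcases h2 i hi with h3 | h3
    · left; rw [h3]
    · right; rw [QuaternionGroup.a_mul_a, h3]
  · right
    rw [QuaternionGroup.xa_mul_xa, add_sub_cancel_right]
    rfl

theorem psiA_fpf (htor : ∀ r : R, r + r = 0 → r = 0) (a b : R) (hab : a * a + b * b = -1)
    (c : QuaternionGroup 2) (hc : c ≠ 1) (n : Multiplicative (R × R))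
    (hn : psiA a b hab c n = n) : n = 1 := by
  have h1 : psiA a b hab (QuaternionGroup.a 2) n = n := by
    rcases quat_cases c hc with h2 | h2
    · rw [← h2]; exact hn
    · rw [← h2, map_mul, MulAut.mul_apply, hn, hn]
  rw [psiA_centre] at h1
  have h2 : -n.toAdd = n.toAdd := congrArg Multiplicative.toAdd h1
  have h3 : n.toAdd + n.toAdd = 0 := by
    nth_rewrite 1 [← h2]
    exact neg_add_cancel _
  have h4 : n.toAdd = 0 := by
    apply Prod.ext
    · exact htor _ (congrArg Prod.fst h3)
    · exact htor _ (congrArg Prod.snd h3)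
  exact congrArg Multiplicative.ofAdd h4

end action

/-- For a natural number m the following are equivalent: (a) some finite group has a Frobenius complement isomorphic to the quaternion group of order 8 whose Frobenius kernel (the identity together with the elements lying in no conjugate of the complement) has exactly m elements; (b) m is an odd perfect square greater than 1. -/
theorem result (m : ℕ) :
    (∃ (L : Type) (_ : Group L) (_ : Finite L) (H : Subgroup L), Cfsg.IsFrobeniusComplement H ∧
        Nonempty (H ≃* QuaternionGroup 2) ∧ Nat.card (Cfsg.frobeniusKernel H) = m) ↔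
    (Odd m ∧ IsSquare m ∧ 1 < m) := by
  constructor
  · rintro ⟨L, iG, iF, H, hF, ⟨e⟩, hm⟩
    obtain ⟨ψ, hψ⟩ : ∃ ψ : QuaternionGroup 2 →* L, ψ = H.subtype.comp e.symm.toMonoidHom :=
      ⟨_, rfl⟩
    have hψinj : Function.Injective ψ := by
      rw [hψ]
      intro u v huv
      have h1 : ((e.symm u : H) : L) = ((e.symm v : H) : L) := huv
      exact e.symm.injective (Subtype.ext h1)
    have hψH : ∀ u, ψ u ∈ H := by
      intro u
      rw [hψ]
      exact (e.symm u : H).2
    have e1 : QuaternionGroup.a (1 : ZMod (2 * 2)) * QuaternionGroup.a 1 = QuaternionGroup.a 2 := by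
      decide
    have e2 : QuaternionGroup.xa (0 : ZMod (2 * 2)) * QuaternionGroup.xa 0 = QuaternionGroup.a 2 := by
      decide
    have e3 : QuaternionGroup.a (1 : ZMod (2 * 2)) * QuaternionGroup.xa 0 * QuaternionGroup.a 1 =
        QuaternionGroup.xa 0 := by
      decide
    have e4 : QuaternionGroup.a (2 : ZMod (2 * 2)) ≠ 1 := by
      decide
    have e5 : QuaternionGroup.a (2 : ZMod (2 * 2)) * QuaternionGroup.a 2 = 1 := by
      decide
    have hcore := Cfsg.Agent.S4296.core H hF (ψ (QuaternionGroup.a 1)) (ψ (QuaternionGroup.xa 0))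
      (ψ (QuaternionGroup.a 2)) (hψH _) (by rw [← map_mul, e1]) (by rw [← map_mul, e2])
      (by rw [← map_mul, ← map_mul, e3])
      (fun h1 => e4 (hψinj (h1.trans (map_one ψ).symm))) (by rw [← map_mul, e5, map_one])
    rw [hm] at hcore
    exact hcore
  · rintro ⟨hodd, ⟨k, rfl⟩, hgt⟩
    have hkodd : Odd k := (Nat.odd_mul.mp hodd).1
    obtain ⟨R, iR, fR, hcardR, htor, a, b, hab⟩ := exists_ring k hkodd
    obtain ⟨φ, hφ⟩ : ∃ φ : QuaternionGroup 2 →* MulAut (Multiplicative (R × R)),
        φ = psiA a b hab := ⟨_, rfl⟩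
    have hfpf : ∀ c : QuaternionGroup 2, c ≠ 1 → ∀ n : Multiplicative (R × R), φ c n = n → n = 1 := by
      intro c hc n hn
      rw [hφ] at hn
      exact psiA_fpf htor a b hab c hc n hn
    have hcardN : Nat.card (Multiplicative (R × R)) = k * k := by
      rw [Nat.card_congr Multiplicative.toAdd, Nat.card_prod, hcardR]
    haveI : Nontrivial (Multiplicative (R × R)) := by
      apply Finite.one_lt_card_iff_nontrivial.mp
      rw [hcardN]
      exact hgt
    haveI : Nontrivial (QuaternionGroup 2) := ⟨⟨QuaternionGroup.a 2, 1, by decide⟩⟩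
    have hF := frob_semidirect φ hfpf
    haveI : Finite (Multiplicative (R × R) ⋊[φ] QuaternionGroup 2) :=
      Finite.of_equiv _ SemidirectProduct.equivProd.symm
    refine ⟨Multiplicative (R × R) ⋊[φ] QuaternionGroup 2, inferInstance, inferInstance,
      (SemidirectProduct.inr : QuaternionGroup 2 →* Multiplicative (R × R) ⋊[φ] QuaternionGroup 2).range,
      hF, ⟨(MonoidHom.ofInjective SemidirectProduct.inr_injective).symm⟩, ?_⟩
    obtain ⟨K, hKset, hKn, hc⟩ := Cfsg.Agent.S0035.result _ hF
    have h1 := hc.card_mul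
    rw [SemidirectProduct.card, ← hcardN] at *
    have h2 : Nat.card ((SemidirectProduct.inr :
        QuaternionGroup 2 →* Multiplicative (R × R) ⋊[φ] QuaternionGroup 2).range) =
        Nat.card (QuaternionGroup 2) :=
      (Nat.card_congr (MonoidHom.ofInjective SemidirectProduct.inr_injective).toEquiv).symm
    rw [h2] at h1
    have h3 : 0 < Nat.card (QuaternionGroup 2) := Nat.card_pos
    have h4 := Nat.eq_of_mul_eq_mul_right h3 h1
    rw [← h4, ← hKset]
    rfl

end Cfsg.Agent.S4295
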