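import Mathlib
import Cfsg.Agent.Lib_helper21_Frobenius
import Cfsg.Statements.S4297

set_option autoImplicit false
open Cfsg

namespace Cfsg.Agent.S4297

open Matrix

section
variable {n : ℕ} {F : Type*} [Field F]

def psi (z : ZMod (2 * n) → F) : QuaternionGroup n → Matrix (Fin 2) (Fin 2) F
  | .a i => !![z i, 0; 0, z (-i)]
  | .xa i => !![0, -z (-i); z i, 0]

theorem psi_mul (z : ZMod (2 * n) → F) (hz_add : ∀ i j, z (i + j) = z i * z j)
    (hzn : z (n : ZMod (2 * n)) = -1) (hznn : z (-(n : ZMod (2 * n))) = -1)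
    (c d : QuaternionGroup n) : psi z (c * d) = psi z c * psi z d := by
  rcases c with i | i <;> rcases d with j | j
  · simp only [QuaternionGroup.a_mul_a, psi]
    rw [neg_add, hz_add, hz_add, Matrix.mul_fin_two]
    simp
  · simp only [QuaternionGroup.a_mul_xa, psi]
    rw [neg_sub, sub_eq_add_neg, sub_eq_add_neg, hz_add, hz_add, Matrix.mul_fin_two]
    simp [mul_comm]
  · simp only [QuaternionGroup.xa_mul_a, psi]
    rw [neg_add, hz_add, hz_add, Matrix.mul_fin_two]
    simp
  · simp only [QuaternionGroup.xa_mul_xa, psi]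
    have e1 : (n : ZMod (2 * n)) + j - i = n + j + -i := by ring
    have e2 : -((n : ZMod (2 * n)) + j + -i) = -n + -j + i := by ring
    rw [e1, e2, hz_add, hz_add, hz_add, hz_add, hzn, hznn, Matrix.mul_fin_two]
    simp [mul_comm]

theorem psi_one (z : ZMod (2 * n) → F) (hz0 : z 0 = 1) : psi z 1 = 1 := by
  rw [QuaternionGroup.one_def]
  simp only [psi, neg_zero, hz0]
  exact Matrix.one_fin_two.symm

theorem psi_fpf (z : ZMod (2 * n) → F) (hz_add : ∀ i j, z (i + j) = z i * z j)
    (hz0 : z 0 = 1) (hzinj : ∀ i, z i = 1 → i = 0) (h2 : (2 : F) ≠ 0)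
    (c : QuaternionGroup n) (hc : c ≠ 1) (m : Matrix (Fin 2) (Fin 2) F)
    (hm : psi z c * m = m) : m = 0 := by
  rcases c with i | i
  · have hi : i ≠ 0 := by
      intro h; apply hc; rw [h]; rfl
    have h1 : z i ≠ 1 := fun h => hi (hzinj i h)
    have h1' : z (-i) ≠ 1 := fun h => hi (neg_eq_zero.mp (hzinj (-i) h))
    have e0 : ∀ s, z i * m 0 s = m 0 s := by
      intro s
      have e := congrFun (congrFun hm 0) s
      have e' : (psi z (QuaternionGroup.a i) * m) 0 s = z i * m 0 s := by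
        simp [psi, Matrix.mul_apply, Fin.sum_univ_two]
      exact e'.symm.trans e
    have e1 : ∀ s, z (-i) * m 1 s = m 1 s := by
      intro s
      have e := congrFun (congrFun hm 1) s
      have e' : (psi z (QuaternionGroup.a i) * m) 1 s = z (-i) * m 1 s := by
        simp [psi, Matrix.mul_apply, Fin.sum_univ_two]
      exact e'.symm.trans e
    have key : ∀ (a x : F), a ≠ 1 → a * x = x → x = 0 := by
      intro a x ha h
      have : (a - 1) * x = 0 := by linear_combination h
      rcases mul_eq_zero.mp this with h' | h'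
      · exact absurd (sub_eq_zero.mp h') ha
      · exact h'
    ext r s
    fin_cases r
    · exact key _ _ h1 (e0 s)
    · exact key _ _ h1' (e1 s)
  · have hzz : z (-i) * z i = 1 := by rw [← hz_add, neg_add_cancel, hz0]
    have e0 : ∀ s, -(z (-i) * m 1 s) = m 0 s := by
      intro s
      have e := congrFun (congrFun hm 0) s
      have e' : (psi z (QuaternionGroup.xa i) * m) 0 s = -(z (-i) * m 1 s) := by
        simp [psi, Matrix.mul_apply, Fin.sum_univ_two]
      exact e'.symm.trans e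
    have e1 : ∀ s, z i * m 0 s = m 1 s := by
      intro s
      have e := congrFun (congrFun hm 1) s
      have e' : (psi z (QuaternionGroup.xa i) * m) 1 s = z i * m 0 s := by
        simp [psi, Matrix.mul_apply, Fin.sum_univ_two]
      exact e'.symm.trans e
    have hm0 : ∀ s, m 0 s = 0 := by
      intro s
      have : 2 * m 0 s = 0 := by
        have h := e0 s
        rw [← e1 s, ← mul_assoc, hzz, one_mul] at h
        linear_combination -h
      rcases mul_eq_zero.mp this with h | h
      · exact absurd h h2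
      · exact h
    ext r s
    fin_cases r
    · exact hm0 s
    · change m 1 s = 0
      rw [← e1 s, hm0 s, mul_zero]

end

theorem exists_z (n : ℕ) (hn : 2 ≤ n) : ∃ (p : ℕ) (_ : Fact p.Prime) (z : ZMod (2 * n) → ZMod p),
    (∀ i j, z (i + j) = z i * z j) ∧ z 0 = 1 ∧ (∀ i, z i = 1 → i = 0) ∧
      z (n : ZMod (2 * n)) = -1 := by
  have hk0 : 2 * n ≠ 0 := by omega
  have hne : NeZero (2 * n) := ⟨hk0⟩
  obtain ⟨p, hp, -, hmod⟩ := Nat.exists_prime_gt_modEq_one (k := 2 * n) 0 hk0
  have hpf : Fact p.Prime := ⟨hp⟩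
  have hdvd : 2 * n ∣ p - 1 := (Nat.modEq_iff_dvd' hp.one_lt.le).mp hmod.symm
  obtain ⟨g, hg⟩ := IsCyclic.exists_ofOrder_eq_natCard (α := (ZMod p)ˣ)
  rw [Nat.card_eq_fintype_card, ZMod.card_units] at hg
  obtain ⟨d, hd⟩ := hdvd
  have hd0 : d ≠ 0 := by
    rintro rfl
    have : 1 < p := hp.one_lt
    omega
  have hζ : orderOf (g ^ d) = 2 * n := by
    rw [orderOf_pow_of_dvd hd0 (by rw [hg, hd]; exact dvd_mul_left _ _), hg, hd,
      Nat.mul_div_cancel _ (Nat.pos_of_ne_zero hd0)]
  set ζ := g ^ d with hζdef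
  have hz_add : ∀ i j : ZMod (2 * n), ζ ^ (i + j).val = ζ ^ i.val * ζ ^ j.val := by
    intro i j
    rw [ZMod.val_add, ← pow_add]
    have := pow_mod_orderOf ζ (i.val + j.val)
    rw [hζ] at this
    exact this
  have hinj : ∀ i : ZMod (2 * n), ζ ^ i.val = 1 → i = 0 := by
    intro i hi
    have h1 : orderOf ζ ∣ i.val := orderOf_dvd_of_pow_eq_one hi
    rw [hζ] at h1
    have h2 : i.val < 2 * n := ZMod.val_lt i
    have h3 : i.val = 0 := Nat.eq_zero_of_dvd_of_lt h1 h2
    exact (ZMod.val_eq_zero i).mp h3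
  refine ⟨p, hpf, fun i => ((ζ ^ i.val : (ZMod p)ˣ) : ZMod p), ?_, ?_, ?_, ?_⟩
  · intro i j
    change ((ζ ^ (i + j).val : (ZMod p)ˣ) : ZMod p) = _ * _
    rw [hz_add, Units.val_mul]
  · simp
  · intro i hi
    exact hinj i (Units.val_eq_one.mp hi)
  · have hval : ((n : ℕ) : ZMod (2 * n)).val = n := ZMod.val_natCast_of_lt (by omega)
    change ((ζ ^ ((n : ℕ) : ZMod (2 * n)).val : (ZMod p)ˣ) : ZMod p) = -1
    rw [hval]
    have hsq : ((ζ ^ n : (ZMod p)ˣ) : ZMod p) * ((ζ ^ n : (ZMod p)ˣ) : ZMod p) = 1 := by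
      rw [← Units.val_mul, ← pow_add, ← two_mul, ← hζ, pow_orderOf_eq_one, Units.val_one]
    rcases mul_self_eq_one_iff.mp hsq with h | h
    · exfalso
      have h1 : ζ ^ n = 1 := Units.val_eq_one.mp h
      have h2 : orderOf ζ ∣ n := orderOf_dvd_of_pow_eq_one h1
      rw [hζ] at h2
      have := Nat.le_of_dvd (by omega) h2
      omega
    · exact h

/-- For every n ≥ 2 the dicyclic group of order 4n (generated by an element a of order 2n and an element x with x² = aⁿ and x a x⁻¹ = a⁻¹) occurs as a Frobenius complement of some finite Frobenius group. -/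
theorem result (n : ℕ) (hn : 2 ≤ n) :
    ∃ (L : Type) (_ : Group L) (_ : Finite L) (H : Subgroup L), Cfsg.IsFrobeniusComplement H ∧ Nonempty (H ≃* QuaternionGroup n) := by
  obtain ⟨p, hpf, z, hz_add, hz0, hzinj, hzn⟩ := exists_z n hn
  have hne : NeZero (2 * n) := ⟨by omega⟩
  have hne' : NeZero n := ⟨by omega⟩
  have hznn : z (-(n : ZMod (2 * n))) = -1 := by
    have h := hz_add (n : ZMod (2 * n)) (-(n : ZMod (2 * n)))
    rw [add_neg_cancel, hz0, hzn] at h
    have : z (-(n : ZMod (2 * n))) = -(-1 * z (-(n : ZMod (2 * n)))) := by ring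
    rw [this, ← h]
  have hn0 : (n : ZMod (2 * n)) ≠ 0 := by
    rw [Ne, ZMod.natCast_eq_zero_iff]
    intro h
    have := Nat.le_of_dvd (by omega) h
    omega
  have h2 : (2 : ZMod p) ≠ 0 := by
    intro h
    apply hn0
    apply hzinj
    rw [hzn]
    linear_combination -h
  let ψ : QuaternionGroup n →* Matrix (Fin 2) (Fin 2) (ZMod p) :=
    { toFun := psi z
      map_one' := psi_one z hz0
      map_mul' := psi_mul z hz_add hzn hznn }
  let φ : QuaternionGroup n →* MulAut (Multiplicative (Matrix (Fin 2) (Fin 2) (ZMod p))) :=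
    ((MulAutMultiplicative (Matrix (Fin 2) (Fin 2) (ZMod p))).symm.toMonoidHom.comp
      AddAut.mulLeft).comp ψ.toHomUnits
  have hfpf : ∀ c : QuaternionGroup n, c ≠ 1 →
      ∀ k : Multiplicative (Matrix (Fin 2) (Fin 2) (ZMod p)), φ c k = k → k = 1 := by
    intro c hc k hk
    have hk' : psi z c * k.toAdd = k.toAdd := congrArg Multiplicative.toAdd hk
    have := psi_fpf z hz_add hz0 hzinj h2 c hc _ hk'
    exact congrArg Multiplicative.ofAdd this
  obtain ⟨L, hL, hLf, H, hH, ⟨e⟩⟩ := helper21.frobenius_of_fpf φ hfpf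
  exact ⟨L, hL, hLf, H, hH, ⟨e.symm⟩⟩

end Cfsg.Agent.S4297
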