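import Mathlib
import Cfsg.Agent.Lib_helper21_Frobenius
import Cfsg.Statements.S4298

set_option autoImplicit false
open Cfsg

namespace Cfsg.Agent.S4298

open Matrix

def lift (t : ZMod 3) : ZMod 5 := if t = 0 then 0 else if t = 1 then 1 else -1

def f (M : SpecialLinearGroup (Fin 2) (ZMod 3)) : Matrix (Fin 2) (Fin 2) (ZMod 5) :=
  let w := M.1 0 0
  let x := M.1 0 1
  let y := M.1 1 0
  let z := M.1 1 1
  let a := -(w + z)
  let b := x - y
  let c := w - z + x + y
  let d := x + y + z - w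
  let s : ZMod 5 := if a ≠ 0 ∧ b ≠ 0 ∧ c ≠ 0 ∧ d ≠ 0 then 2 else 1
  !![s * lift a + 2 * (s * lift b), s * lift c + 2 * (s * lift d);
     -(s * lift c) + 2 * (s * lift d), s * lift a - 2 * (s * lift b)]

theorem f_one : f 1 = 1 := by decide +kernel

theorem f_mul : ∀ A B : SpecialLinearGroup (Fin 2) (ZMod 3), f (A * B) = f A * f B := by
  decide +kernel

theorem f_fpf : ∀ A : SpecialLinearGroup (Fin 2) (ZMod 3), A ≠ 1 →
    (f A 0 0 - 1) * (f A 1 1 - 1) - f A 0 1 * f A 1 0 ≠ 0 := by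
  decide +kernel

theorem card_sl : Fintype.card (SpecialLinearGroup (Fin 2) (ZMod 3)) = 24 := by decide +kernel

/-- The group SL(2,3) of order 24 (the binary tetrahedral group) occurs as a Frobenius complement of some finite Frobenius group. -/
theorem result :
    ∃ (L : Type) (_ : Group L) (_ : Finite L) (H : Subgroup L), Cfsg.IsFrobeniusComplement H ∧ Nonempty (H ≃* Matrix.SpecialLinearGroup (Fin 2) (ZMod 3)) := by
  have hnt : Nontrivial (SpecialLinearGroup (Fin 2) (ZMod 3)) :=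
    Fintype.one_lt_card_iff_nontrivial.mp (by rw [card_sl]; norm_num)
  have hp5 : Fact (Nat.Prime 5) := ⟨by norm_num⟩
  let ψ : SpecialLinearGroup (Fin 2) (ZMod 3) →* Matrix (Fin 2) (Fin 2) (ZMod 5) :=
    { toFun := f
      map_one' := f_one
      map_mul' := f_mul }
  let φ : SpecialLinearGroup (Fin 2) (ZMod 3) →*
      MulAut (Multiplicative (Matrix (Fin 2) (Fin 2) (ZMod 5))) :=
    ((MulAutMultiplicative (Matrix (Fin 2) (Fin 2) (ZMod 5))).symm.toMonoidHom.comp
      AddAut.mulLeft).comp ψ.toHomUnits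
  have hfpf : ∀ c : SpecialLinearGroup (Fin 2) (ZMod 3), c ≠ 1 →
      ∀ k : Multiplicative (Matrix (Fin 2) (Fin 2) (ZMod 5)), φ c k = k → k = 1 := by
    intro c hc k hk
    have hk' : f c * k.toAdd = k.toAdd := congrArg Multiplicative.toAdd hk
    have hdet : (f c - 1).det ≠ 0 := by
      rw [Matrix.det_fin_two]
      simpa using f_fpf c hc
    have hu : IsUnit (f c - 1) := (Matrix.isUnit_iff_isUnit_det _).mpr (IsUnit.mk0 _ hdet)
    have h0 : (f c - 1) * k.toAdd = 0 := by
      rw [sub_mul, one_mul, hk', sub_self]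
    have := hu.mul_right_eq_zero.mp h0
    exact congrArg Multiplicative.ofAdd this
  obtain ⟨L, hL, hLf, H, hH, ⟨e⟩⟩ := helper21.frobenius_of_fpf φ hfpf
  exact ⟨L, hL, hLf, H, hH, ⟨e.symm⟩⟩

end Cfsg.Agent.S4298
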