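import Cfsg.Statements.S4299
import Cfsg.Agent.Lib_helper21_Frobenius

set_option autoImplicit false
open Cfsg

namespace Cfsg.Agent.S4299

open Cfsg.Agent.helper21

/-- units of `ZMod p` acting on the additive group of `ZMod p` -/
def unitsAct (p : ℕ) : (ZMod p)ˣ →* MulAut (Multiplicative (ZMod p)) where
  toFun u :=
    { toFun := fun k => Multiplicative.ofAdd ((u : ZMod p) * Multiplicative.toAdd k)
      invFun := fun k => Multiplicative.ofAdd (((u⁻¹ : (ZMod p)ˣ) : ZMod p) * Multiplicative.toAdd k)
      left_inv := by intro k; simp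
      right_inv := by intro k; simp
      map_mul' := by
        intro a b
        simp [mul_add] }
  map_one' := by
    ext k
    simp
  map_mul' := by
    intro u v
    ext k
    simp [mul_assoc]

theorem unitsAct_apply (p : ℕ) (u : (ZMod p)ˣ) (k : Multiplicative (ZMod p)) :
    unitsAct p u k = Multiplicative.ofAdd ((u : ZMod p) * Multiplicative.toAdd k) := rfl

theorem result {C : Type*} [Group C] [Finite C] [IsCyclic C] [Nontrivial C] :
    ∃ (L : Type) (_ : Group L) (_ : Finite L) (H : Subgroup L), Cfsg.IsFrobeniusComplement H ∧ Nonempty (C ≃* H) := by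
  classical
  set n := Nat.card C with hn
  have hn2 : 1 < n := Finite.one_lt_card
  obtain ⟨p, hp, hpgt, hpmod⟩ := Nat.exists_prime_gt_modEq_one (k := n) 1 (by omega)
  have : Fact p.Prime := ⟨hp⟩
  have hdvd : n ∣ p - 1 := (Nat.modEq_iff_dvd' hp.one_lt.le).mp hpmod.symm
  let C' : Subgroup (ZMod p)ˣ := (powMonoidHom n : (ZMod p)ˣ →* (ZMod p)ˣ).ker
  have hcardC' : Nat.card C' = n := by
    have := IsCyclic.card_powMonoidHom_ker (G := (ZMod p)ˣ) n
    rw [Nat.card_eq_fintype_card (α := (ZMod p)ˣ), ZMod.card_units] at this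
    rw [this]
    exact Nat.gcd_eq_right hdvd
  have : Nontrivial C' := by
    rw [← Finite.one_lt_card_iff_nontrivial, hcardC']; exact hn2
  have : Nontrivial (Multiplicative (ZMod p)) := by
    have : Nontrivial (ZMod p) := ZMod.nontrivial_iff.mpr hp.ne_one
    exact Multiplicative.ofAdd.injective.nontrivial
  let φ : C' →* MulAut (Multiplicative (ZMod p)) := (unitsAct p).comp C'.subtype
  have hfpf : ∀ c : C', c ≠ 1 → ∀ k : Multiplicative (ZMod p), φ c k = k → k = 1 := by
    intro c hc k hk
    have hk' : Multiplicative.ofAdd (((c : (ZMod p)ˣ) : ZMod p) * Multiplicative.toAdd k) = k := hk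
    have h1 : ((c : (ZMod p)ˣ) : ZMod p) * Multiplicative.toAdd k = Multiplicative.toAdd k := by
      conv_rhs => rw [← hk']
      rfl
    have h2 : (((c : (ZMod p)ˣ) : ZMod p) - 1) * Multiplicative.toAdd k = 0 := by
      rw [sub_mul, h1, one_mul, sub_self]
    rcases mul_eq_zero.mp h2 with h3 | h3
    · exfalso
      apply hc
      apply Subtype.ext
      apply Units.ext
      rw [sub_eq_zero] at h3
      simpa using h3
    · have : k = Multiplicative.ofAdd 0 := by rw [← h3]; rfl
      rw [this]; rfl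
  obtain ⟨L, hL1, hL2, H, hH, ⟨e⟩⟩ := frobenius_of_fpf φ hfpf
  refine ⟨L, hL1, hL2, H, hH, ⟨?_⟩⟩
  have e2 : C ≃* C' := mulEquivOfCyclicCardEq (by rw [hcardC'])
  exact e2.trans e

end Cfsg.Agent.S4299
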