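import Cfsg.Statements.S4300

set_option autoImplicit false
open Cfsg

namespace Cfsg.Agent.S4300

theorem result {G : Type*} [Group G] {X : Type*} [MulAction G X] [FaithfulSMul G X]
    (hprim : MulAction.IsPreprimitive G X) (x : X) (hsimple : IsSimpleGroup (MulAction.stabilizer G x)) :
    IsSimpleGroup G ∨ ∃ N : Subgroup G, N.Normal ∧ N ≠ ⊥ ∧ N ≠ ⊤ ∧
      MulAction.IsPretransitive N X ∧ ∀ y : X, MulAction.stabilizer N y = ⊥ := by
  by_cases h : ∃ N : Subgroup G, N.Normal ∧ N ≠ ⊥ ∧ N ≠ ⊤
  · right
    obtain ⟨N, hNn, hNbot, hNtop⟩ := h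
    have hfix : MulAction.fixedPoints N X ≠ Set.univ := by
      intro hfix
      apply hNbot
      rw [Subgroup.eq_bot_iff_forall]
      intro n hn
      apply FaithfulSMul.eq_of_smul_eq_smul (α := X)
      intro y
      have hy : y ∈ MulAction.fixedPoints N X := by rw [hfix]; trivial
      have := hy ⟨n, hn⟩
      rw [one_smul]
      exact this
    have htrans : MulAction.IsPretransitive N X :=
      MulAction.IsQuasiPreprimitive.isPretransitive_of_normal hfix
    have hcases := (Subgroup.Normal.subgroupOf hNn (MulAction.stabilizer G x)).eq_bot_or_eq_top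
    rcases hcases with hbot | htop
    · refine ⟨N, hNn, hNbot, hNtop, htrans, ?_⟩
      intro y
      rw [Subgroup.eq_bot_iff_forall]
      intro m hm
      obtain ⟨n, hn⟩ := htrans.exists_smul_eq x y
      have hm' : (m : G) • y = y := hm
      have hn' : (n : G) • x = y := hn
      have h1 : ((n : G)⁻¹ * m * n) ∈ MulAction.stabilizer G x := by
        rw [MulAction.mem_stabilizer_iff, mul_smul, mul_smul, hn', hm', ← hn', inv_smul_smul]
      have h2 : (⟨(n : G)⁻¹ * m * n, h1⟩ : MulAction.stabilizer G x) ∈ N.subgroupOf (MulAction.stabilizer G x) := by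
        rw [Subgroup.mem_subgroupOf]
        exact N.mul_mem (N.mul_mem (N.inv_mem n.2) m.2) n.2
      rw [hbot, Subgroup.mem_bot] at h2
      have h3 : (n : G)⁻¹ * m * n = 1 := congrArg Subtype.val h2
      apply Subtype.ext
      have : (m : G) = n * ((n : G)⁻¹ * m * n) * (n : G)⁻¹ := by group
      rw [this, h3]; simp
    · exfalso
      apply hNtop
      rw [Subgroup.subgroupOf_eq_top] at htop
      rw [eq_top_iff]
      intro g _
      obtain ⟨n, hn⟩ := htrans.exists_smul_eq x (g • x)
      have hn' : (n : G) • x = g • x := hn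
      have h1 : (n : G)⁻¹ * g ∈ MulAction.stabilizer G x := by
        rw [MulAction.mem_stabilizer_iff, mul_smul, ← hn', inv_smul_smul]
      have h2 := htop h1
      have : g = n * ((n : G)⁻¹ * g) := by group
      rw [this]
      exact N.mul_mem n.2 h2
  · left
    push Not at h
    have : Nontrivial G := by
      obtain ⟨a, b, hab⟩ := hsimple.toNontrivial
      exact ⟨a, b, fun h => hab (Subtype.ext h)⟩
    refine ⟨fun N hN => ?_⟩
    by_contra hcon
    push Not at hcon
    exact hcon.2 (h N hN hcon.1)

end Cfsg.Agent.S4300
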