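import Cfsg.Statements.S4301
import Mathlib

set_option autoImplicit false
open Cfsg

namespace Cfsg.Agent.S4301

open MulAction

theorem result {X : Type*} (G : Subgroup (Equiv.Perm (Option X))) (hfix : ∀ f ∈ G, f none = none)
    (k : ℕ) (hk : 2 ≤ k) (hkX : Nonempty (Fin k ↪ X))
    (htrans : ∀ a b : Fin k ↪ X, ∃ f ∈ G, ∀ i, f (some (a i)) = some (b i))
    (h g : Equiv.Perm (Option X)) (hg : g ∈ G) (x y : X)
    (h1 : h none = some x) (h2 : h (some x) = none) (h3 : h (some y) = some y)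
    (h4 : g (some x) = some y) (h5 : g (some y) = some x)
    (h6 : (g * h) ^ 3 ∈ G) (h7 : h ^ 2 ∈ G)
    (h8 : ∀ f ∈ G, f (some x) = some x → h * f * h ∈ G ∧ (h * f * h) (some x) = some x) :
    (∀ f ∈ Subgroup.closure ((G : Set (Equiv.Perm (Option X))) ∪ {h}), f none = none ↔ f ∈ G) ∧
      MulAction.IsMultiplyPretransitive (Subgroup.closure ((G : Set (Equiv.Perm (Option X))) ∪ {h})) (Option X) (k + 1) := by
  classical
  have hxy : x ≠ y := by
    intro hxy
    rw [hxy, h3] at h2
    exact Option.some_ne_none y h2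
  -- transitivity on shorter tuples
  have hcard : (k : ℕ∞) ≤ ENat.card X := by
    obtain ⟨e⟩ := hkX
    have := ENat.card_le_card_of_injective e.injective
    rwa [ENat.card_eq_coe_fintype_card, Fintype.card_fin] at this
  have hle : ∀ (m : ℕ) (hm : m ≤ k) (a b : Fin m ↪ X),
      ∃ f ∈ G, ∀ i, f (some (a i)) = some (b i) := by
    intro m hm a b
    obtain ⟨a', ha'⟩ := Fin.Embedding.restrictSurjective_of_le_ENatCard hm hcard a
    obtain ⟨b', hb'⟩ := Fin.Embedding.restrictSurjective_of_le_ENatCard hm hcard b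
    obtain ⟨f, hf, hfab⟩ := htrans a' b'
    refine ⟨f, hf, fun i => ?_⟩
    have h1' : a i = a' (Fin.castLE hm i) := by rw [← ha']; rfl
    have h2' : b i = b' (Fin.castLE hm i) := by rw [← hb']; rfl
    rw [h1', h2']
    exact hfab _
  have htr1 : ∀ u v : X, ∃ f ∈ G, f (some u) = some v := by
    intro u v
    obtain ⟨f, hf, hfab⟩ := hle 1 (by omega) ⟨fun _ => u, fun _ _ _ => Subsingleton.elim _ _⟩
      ⟨fun _ => v, fun _ _ _ => Subsingleton.elim _ _⟩
    exact ⟨f, hf, hfab 0⟩
  have htr2 : ∀ z : X, z ≠ x → ∃ f ∈ G, f (some x) = some x ∧ f (some y) = some z := by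
    intro z hz
    have hinj2 : ∀ u v : X, u ≠ v → Function.Injective ![u, v] := by
      intro u v huv i j hij
      fin_cases i <;> fin_cases j
      · rfl
      · simp at hij
        exact absurd hij huv
      · simp at hij
        exact absurd hij.symm huv
      · rfl
    let a : Fin 2 ↪ X := ⟨![x, y], hinj2 x y hxy⟩
    let b : Fin 2 ↪ X := ⟨![x, z], hinj2 x z (Ne.symm hz)⟩
    obtain ⟨f, hf, hfab⟩ := hle 2 hk a b
    exact ⟨f, hf, hfab 0, hfab 1⟩
  have hsome : ∀ f ∈ G, ∀ u : X, ∃ v : X, f (some u) = some v := by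
    intro f hf u
    rcases hfu : f (some u) with _ | v
    · exfalso
      have := f.injective (hfu.trans (hfix f hf).symm)
      exact Option.some_ne_none u this
    · exact ⟨v, rfl⟩
  -- decomposition of elements of `G` moving `x`
  have hdec : ∀ f ∈ G, f (some x) ≠ some x → ∃ f₁ ∈ G, ∃ f₂ ∈ G, f₁ (some x) = some x ∧
      f₂ (some x) = some x ∧ f = f₁ * g * f₂ := by
    intro f hf hfx
    obtain ⟨z, hz⟩ := hsome f hf x
    have hzx : z ≠ x := by
      intro h
      apply hfx
      rw [hz, h]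
    obtain ⟨f₁, hf₁, hf₁x, hf₁y⟩ := htr2 z hzx
    refine ⟨f₁, hf₁, (f₁ * g)⁻¹ * f, G.mul_mem (G.inv_mem (G.mul_mem hf₁ hg)) hf, hf₁x, ?_, by group⟩
    rw [Equiv.Perm.mul_apply, hz, Equiv.Perm.inv_eq_iff_eq, Equiv.Perm.mul_apply, h4, hf₁y]
  -- the set `G ∪ G h G`
  let S : Set (Equiv.Perm (Option X)) := {s | s ∈ G ∨ ∃ a ∈ G, ∃ b ∈ G, s = a * h * b}
  have hv : (h ^ 2)⁻¹ ∈ G := G.inv_mem h7
  have hkey : ∀ f ∈ G, h * f * h ∈ S := by
    intro f hf
    by_cases hfx : f (some x) = some x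
    · exact Or.inl (h8 f hf hfx).1
    · obtain ⟨f₁, hf₁, f₂, hf₂, hf₁x, hf₂x, rfl⟩ := hdec f hf hfx
      right
      refine ⟨(h * f₁ * h) * (h ^ 2)⁻¹ * g⁻¹ * (g * h) ^ 3 * (h ^ 2)⁻¹, ?_,
        g⁻¹ * (h ^ 2)⁻¹ * (h * f₂ * h), ?_, by
          rw [show (g * h) ^ 3 = g * h * (g * h) * (g * h) by rw [pow_succ, pow_succ, pow_one]]
          group⟩
      · exact G.mul_mem (G.mul_mem (G.mul_mem (G.mul_mem (h8 f₁ hf₁ hf₁x).1 hv) (G.inv_mem hg)) h6) hv
      · exact G.mul_mem (G.mul_mem (G.inv_mem hg) hv) (h8 f₂ hf₂ hf₂x).1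
  let L : Subgroup (Equiv.Perm (Option X)) :=
    { carrier := S
      one_mem' := Or.inl G.one_mem
      mul_mem' := by
        rintro s t (hs | ⟨a, ha, b, hb, rfl⟩) (ht | ⟨c, hc, d, hd, rfl⟩)
        · exact Or.inl (G.mul_mem hs ht)
        · exact Or.inr ⟨s * c, G.mul_mem hs hc, d, hd, by group⟩
        · exact Or.inr ⟨a, ha, b * t, G.mul_mem hb ht, by group⟩
        · rcases hkey (b * c) (G.mul_mem hb hc) with hbc | ⟨e, he, e', he', hbc⟩
          · left
            have : a * h * b * (c * h * d) = a * (h * (b * c) * h) * d := by group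
            rw [this]
            exact G.mul_mem (G.mul_mem ha hbc) hd
          · right
            refine ⟨a * e, G.mul_mem ha he, e' * d, G.mul_mem he' hd, ?_⟩
            have : a * h * b * (c * h * d) = a * (h * (b * c) * h) * d := by group
            rw [this, hbc]
            group
      inv_mem' := by
        rintro s (hs | ⟨a, ha, b, hb, rfl⟩)
        · exact Or.inl (G.inv_mem hs)
        · right
          exact ⟨b⁻¹ * (h ^ 2)⁻¹, G.mul_mem (G.inv_mem hb) hv, a⁻¹, G.inv_mem ha, by group⟩ }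
  have hLmem : ∀ s, s ∈ L ↔ s ∈ G ∨ ∃ a ∈ G, ∃ b ∈ G, s = a * h * b := fun s => Iff.rfl
  have hcl : Subgroup.closure ((G : Set (Equiv.Perm (Option X))) ∪ {h}) = L := by
    apply le_antisymm
    · rw [Subgroup.closure_le]
      rintro s (hs | hs)
      · exact Or.inl hs
      · rw [Set.mem_singleton_iff] at hs
        exact Or.inr ⟨1, G.one_mem, 1, G.one_mem, by rw [hs]; group⟩
    · rintro s (hs | ⟨a, ha, b, hb, rfl⟩)
      · exact Subgroup.subset_closure (Or.inl hs)
      · exact Subgroup.mul_mem _ (Subgroup.mul_mem _ (Subgroup.subset_closure (Or.inl ha))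
          (Subgroup.subset_closure (Or.inr rfl))) (Subgroup.subset_closure (Or.inl hb))
  have hfirst : ∀ f ∈ L, f none = none ↔ f ∈ G := by
    intro f hf
    constructor
    · intro hfn
      rcases hf with hf | ⟨a, ha, b, hb, rfl⟩
      · exact hf
      · exfalso
        rw [Equiv.Perm.mul_apply, Equiv.Perm.mul_apply, hfix b hb, h1] at hfn
        obtain ⟨v, hv'⟩ := hsome a ha x
        rw [hv'] at hfn
        exact Option.some_ne_none v hfn
    · exact hfix f
  rw [hcl]
  refine ⟨hfirst, ?_⟩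
  -- transitivity
  have hGL : G ≤ L := fun s hs => Or.inl hs
  have hhL : h ∈ L := Or.inr ⟨1, G.one_mem, 1, G.one_mem, by group⟩
  have hreach : ∀ p : Option X, ∃ l : L, l • (some x : Option X) = p := by
    intro p
    rcases p with _ | v
    · exact ⟨⟨h, hhL⟩, h2⟩
    · obtain ⟨f, hf, hfx⟩ := htr1 x v
      exact ⟨⟨f, hGL hf⟩, hfx⟩
  haveI : IsPretransitive L (Option X) := by
    refine ⟨fun p q => ?_⟩
    obtain ⟨lp, hlp⟩ := hreach p
    obtain ⟨lq, hlq⟩ := hreach q
    refine ⟨lq * lp⁻¹, ?_⟩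
    rw [mul_smul, ← hlp, inv_smul_smul, hlq]
  rw [SubMulAction.ofStabilizer.isMultiplyPretransitive (a := (none : Option X))]
  refine ⟨fun x' y' => ?_⟩
  have hne : ∀ (w : Fin k ↪ SubMulAction.ofStabilizer L (none : Option X)) (i : Fin k),
      ∃ u : X, ((w i : SubMulAction.ofStabilizer L (none : Option X)) : Option X) = some u := by
    intro w i
    have := SubMulAction.neq_of_mem_ofStabilizer (G := L) (none : Option X) (x := w i)
    rcases hw : ((w i : SubMulAction.ofStabilizer L (none : Option X)) : Option X) with _ | u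
    · exact absurd hw this
    · exact ⟨u, rfl⟩
  choose ax hax using hne x'
  choose ay hay using hne y'
  have haxinj : Function.Injective ax := by
    intro i j hij
    apply x'.injective
    apply Subtype.ext
    rw [hax i, hax j, hij]
  have hayinj : Function.Injective ay := by
    intro i j hij
    apply y'.injective
    apply Subtype.ext
    rw [hay i, hay j, hij]
  obtain ⟨f, hf, hfab⟩ := htrans ⟨ax, haxinj⟩ ⟨ay, hayinj⟩
  have hfstab : (⟨f, hGL hf⟩ : L) ∈ stabilizer L (none : Option X) := hfix f hf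
  refine ⟨⟨⟨f, hGL hf⟩, hfstab⟩, ?_⟩
  apply DFunLike.ext
  intro i
  apply Subtype.ext
  change f ((x' i : SubMulAction.ofStabilizer L (none : Option X)) : Option X) = _
  rw [hax i, hay i]
  exact hfab i

end Cfsg.Agent.S4301
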