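import Cfsg.Statements.S4314
import Mathlib

set_option autoImplicit false
set_option linter.style.haveILetI false
set_option linter.unusedSectionVars false
open Cfsg
open scoped commutatorElement

namespace Cfsg.Agent.S4314

open Subgroup

section
variable {G : Type*} [Group G] [Finite G]

/-- a subgroup of prime index is maximal -/
theorem eq_or_eq_top_of_prime_index {M N : Subgroup G} (hp : M.index.Prime) (hMN : M ≤ N) :
    N = M ∨ N = ⊤ := by
  have h1 := Subgroup.relIndex_mul_index hMN
  have h2 : N.index ∣ M.index := Dvd.intro_left _ h1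
  rcases (Nat.dvd_prime hp).mp h2 with h3 | h3
  · right; exact Subgroup.index_eq_one.mp h3
  · left
    rw [h3] at h1
    have h4 : M.relIndex N = 1 := by
      have := hp.pos
      exact Nat.eq_of_mul_eq_mul_right this (by rw [h1, one_mul])
    exact le_antisymm (Subgroup.relIndex_eq_one.mp h4) hMN

theorem comm_mem_of_normal_index {N : Subgroup G} [hN : N.Normal]
    (h : N.index = 1 ∨ N.index.Prime) (a b : G) : ⁅a, b⁆ ∈ N := by
  rcases h with h | h
  · rw [Subgroup.index_eq_one.mp h]; exact Subgroup.mem_top _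
  · have hQc : Nat.card (G ⧸ N) = N.index := by rw [← Subgroup.index_eq_card]
    haveI : Fact N.index.Prime := ⟨h⟩
    haveI : IsCyclic (G ⧸ N) := isCyclic_of_prime_card hQc
    letI : CommGroup (G ⧸ N) := IsCyclic.commGroup
    have h2 : (QuotientGroup.mk' N) ⁅a, b⁆ = 1 := by
      rw [map_commutatorElement]
      exact commutatorElement_eq_one_iff_mul_comm.mpr (mul_comm _ _)
    exact (QuotientGroup.eq_one_iff _).mp h2

theorem class_two_of_all_normal
    (h : ∀ x : G, (centralizer ({x} : Set G)).index = 1 ∨ ((centralizer ({x} : Set G)).index).Prime)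
    (hall : ∀ x : G, (centralizer ({x} : Set G)).Normal) : Subgroup.upperCentralSeries G 2 = ⊤ := by
  rw [eq_top_iff]
  intro x _
  rw [show (2 : ℕ) = 1 + 1 from rfl, Subgroup.mem_upperCentralSeries_succ_iff]
  intro y
  rw [Subgroup.upperCentralSeries_one, mem_center_iff]
  intro z
  haveI := hall z
  have := comm_mem_of_normal_index (h z) x y
  rw [mem_centralizer_singleton_iff] at this
  exact this.symm

theorem normal_of_quotient_comm (K M : Subgroup G) [K.Normal] (hKM : K ≤ M)
    (hc : ∀ a b : G ⧸ K, a * b = b * a) : M.Normal := by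
  constructor
  intro n hn g
  have h1 : g * n * g⁻¹ * n⁻¹ ∈ K := by
    apply (QuotientGroup.eq_one_iff _).mp
    have : ((g * n * g⁻¹ * n⁻¹ : G) : G ⧸ K) = (g : G ⧸ K) * n * (g : G ⧸ K)⁻¹ * (n : G ⧸ K)⁻¹ := by
      simp
    rw [this, hc (g : G ⧸ K) n]
    group
  have h2 : g * n * g⁻¹ = (g * n * g⁻¹ * n⁻¹) * n := by group
  rw [h2]
  exact M.mul_mem (hKM h1) hn

/-- the `p`-cycle lemma -/
theorem relIndex_core
    (h : ∀ x : G, (centralizer ({x} : Set G)).index = 1 ∨ ((centralizer ({x} : Set G)).index).Prime)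
    (M : Subgroup G) (hMp : M.index.Prime) :
    M.normalCore.relIndex M = 1 ∨ (M.normalCore.relIndex M).Prime := by
  classical
  haveI : Fact M.index.Prime := ⟨hMp⟩
  obtain ⟨K, hK⟩ : ∃ K, K = M.normalCore := ⟨_, rfl⟩
  rw [← hK]
  have hKM : K ≤ M := hK ▸ Subgroup.normalCore_le M
  haveI hKn : K.Normal := hK ▸ Subgroup.normalCore_normal M
  have hidx : K.relIndex M * M.index = K.index := Subgroup.relIndex_mul_index hKM
  have hdvd : M.index ∣ Nat.card (G ⧸ K) := by
    rw [← Subgroup.index_eq_card, ← hidx]; exact Dvd.intro_left _ rfl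
  obtain ⟨ubar, hubar⟩ := exists_prime_orderOf_dvd_card' M.index hdvd
  obtain ⟨u, rfl⟩ := QuotientGroup.mk_surjective ubar
  haveI : Fintype (G ⧸ M) := Fintype.ofFinite _
  let φ : G →* Equiv.Perm (G ⧸ M) := MulAction.toPermHom G (G ⧸ M)
  have hker : φ.ker = K := by rw [hK]; exact (Subgroup.normalCore_eq_ker M).symm
  have hupK : u ^ M.index ∈ K := by
    apply (QuotientGroup.eq_one_iff _).mp
    have : ((u ^ M.index : G) : G ⧸ K) = (u : G ⧸ K) ^ M.index := rfl
    rw [this, ← hubar]
    exact pow_orderOf_eq_one _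
  have huK : u ∉ K := by
    intro hu
    have h1 : (u : G ⧸ K) = 1 := (QuotientGroup.eq_one_iff _).mpr hu
    rw [h1, orderOf_one] at hubar
    exact hMp.one_lt.ne hubar
  obtain ⟨σ, hσ⟩ : ∃ σ, σ = φ u := ⟨_, rfl⟩
  have hσp : σ ^ M.index = 1 := by
    rw [hσ, ← map_pow]
    have : u ^ M.index ∈ φ.ker := hker ▸ hupK
    exact this
  have hσ1 : σ ≠ 1 := by
    intro h1
    apply huK
    rw [← hker]
    rw [hσ] at h1
    exact h1
  have hord : orderOf σ = M.index := orderOf_eq_prime hσp hσ1
  have hcard : Fintype.card (G ⧸ M) = M.index := by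
    rw [Subgroup.index_eq_card, Nat.card_eq_fintype_card]
  have hcyc : σ.IsCycle := Equiv.Perm.isCycle_of_prime_order'' (hcard ▸ hMp) (hord.trans hcard.symm)
  have hsupp : σ.support = Finset.univ := by
    rw [← Finset.card_eq_iff_eq_univ, ← hcyc.orderOf, hord, hcard]
  have hmove : ∀ ω : G ⧸ M, σ ω ≠ ω := by
    intro ω
    rw [← Equiv.Perm.mem_support, hsupp]
    exact Finset.mem_univ _
  have htrans : ∀ ω ω' : G ⧸ M, ∃ i : ℤ, (σ ^ i) ω = ω' := fun ω ω' =>
    hcyc.exists_zpow_eq (hmove ω) (hmove ω')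
  -- centralizer of u
  set U : Subgroup G := (zpowers (u : G ⧸ K)).comap (QuotientGroup.mk' K) with hU
  have hCU : centralizer ({u} : Set G) ≤ U := by
    intro c hc
    rw [mem_centralizer_singleton_iff] at hc
    have hcomm : Commute (φ c) σ := by
      rw [hσ]
      show φ c * φ u = φ u * φ c
      rw [← map_mul, ← map_mul, hc]
    obtain ⟨i, hi⟩ := htrans ((1 : G) : G ⧸ M) (φ c ((1 : G) : G ⧸ M))
    have heq : φ c = σ ^ i := by
      ext ω
      obtain ⟨j, hj⟩ := htrans ((1 : G) : G ⧸ M) ω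
      rw [← hj]
      have h1 : φ c ((σ ^ j) ((1 : G) : G ⧸ M)) = (φ c * σ ^ j) ((1 : G) : G ⧸ M) := rfl
      rw [h1, (hcomm.zpow_right j).eq, Equiv.Perm.mul_apply, ← hi, ← Equiv.Perm.mul_apply,
        ← Equiv.Perm.mul_apply, ← zpow_add, ← zpow_add, add_comm]
    have h2 : c * (u ^ i)⁻¹ ∈ K := by
      rw [← hker, MonoidHom.mem_ker, map_mul, map_inv, map_zpow, ← hσ, heq]
      group
    rw [hU, Subgroup.mem_comap]
    have h3 : ((c * (u ^ i)⁻¹ : G) : G ⧸ K) = 1 := (QuotientGroup.eq_one_iff _).mpr h2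
    have h4 : ((c * (u ^ i)⁻¹ : G) : G ⧸ K) = (c : G ⧸ K) * ((u : G ⧸ K) ^ i)⁻¹ := rfl
    rw [h4, mul_inv_eq_one] at h3
    show (c : G ⧸ K) ∈ zpowers (u : G ⧸ K)
    rw [h3]
    exact zpow_mem (mem_zpowers _) i
  have hUidx : U.index = (zpowers (u : G ⧸ K)).index :=
    Subgroup.index_comap_of_surjective _ (QuotientGroup.mk'_surjective K)
  have hmul : (zpowers (u : G ⧸ K)).index * Nat.card (zpowers (u : G ⧸ K)) = Nat.card (G ⧸ K) :=
    Subgroup.index_mul_card _
  rw [Nat.card_zpowers, hubar, ← Subgroup.index_eq_card, ← hidx, ← hUidx] at hmul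
  have hUeq : U.index = K.relIndex M := Nat.eq_of_mul_eq_mul_right hMp.pos hmul
  have hdvd2 : U.index ∣ (centralizer ({u} : Set G)).index := Subgroup.index_dvd_of_le hCU
  rw [hUeq] at hdvd2
  rcases h u with h1 | h1
  · rw [h1] at hdvd2
    left
    exact Nat.dvd_one.mp hdvd2
  · rcases (Nat.dvd_prime h1).mp hdvd2 with h2 | h2
    · left; exact h2
    · right; rw [h2]; exact h1

theorem le_of_relIndex_prime' {B K D : Subgroup G} (hBK : B ≤ K)
    (hrel : (B.relIndex K).Prime) (hBD : B ≤ D) {s : G} (hsD : s ∈ D) (hsK : s ∈ K) (hsB : s ∉ B) :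
    K ≤ D := by
  have h1 := Subgroup.relIndex_mul_relIndex B (D ⊓ K) K (le_inf hBD hBK) inf_le_right
  have h2 : B.relIndex (D ⊓ K) ∣ B.relIndex K := Dvd.intro _ h1
  rcases (Nat.dvd_prime hrel).mp h2 with h3 | h3
  · exfalso
    exact hsB ((Subgroup.relIndex_eq_one.mp h3) ⟨hsD, hsK⟩)
  · rw [h3] at h1
    have h4 : (D ⊓ K).relIndex K = 1 := by
      exact Nat.eq_of_mul_eq_mul_left hrel.pos (by rw [h1, mul_one])
    exact (Subgroup.relIndex_eq_one.mp h4).trans inf_le_left

theorem main
    (h : ∀ x : G, (centralizer ({x} : Set G)).index = 1 ∨ ((centralizer ({x} : Set G)).index).Prime)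
    (x : G) (hx : ¬ (centralizer ({x} : Set G)).Normal) :
    ∃ p q : ℕ, p.Prime ∧ q.Prime ∧ p ≠ q ∧ Nat.card (G ⧸ center G) = p * q ∧
      ¬ IsMulCommutative (G ⧸ center G) := by
  classical
  obtain ⟨M, hM⟩ : ∃ M, M = centralizer ({x} : Set G) := ⟨_, rfl⟩
  rw [← hM] at hx
  have hMp : M.index.Prime := by
    rcases h x with h1 | h1
    · exfalso; apply hx
      rw [hM, Subgroup.index_eq_one.mp h1]; infer_instance
    · rw [hM]; exact h1
  haveI : Fact M.index.Prime := ⟨hMp⟩
  have hMtop : M ≠ ⊤ := by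
    intro h1; apply hx; rw [h1]; infer_instance
  obtain ⟨K, hK⟩ : ∃ K, K = M.normalCore := ⟨_, rfl⟩
  have hKM : K ≤ M := hK ▸ Subgroup.normalCore_le M
  haveI hKn : K.Normal := hK ▸ Subgroup.normalCore_normal M
  have hidx : K.relIndex M * M.index = K.index := Subgroup.relIndex_mul_index hKM
  have hMK : ¬ M ≤ K := by
    intro hle
    apply hx
    have : M = K := le_antisymm hle hKM
    rw [this]; exact hKn
  have hq : (K.relIndex M).Prime := by
    rcases relIndex_core h M hMp with h1 | h1
    · exfalso; rw [← hK] at h1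
      exact hMK (Subgroup.relIndex_eq_one.mp h1)
    · rw [← hK] at h1; exact h1
  have hqp : K.relIndex M ≠ M.index := by
    intro heq
    apply hx
    have hc : Nat.card (G ⧸ K) = M.index ^ 2 := by
      rw [← Subgroup.index_eq_card, ← hidx, heq, sq]
    exact normal_of_quotient_comm K M hKM (IsPGroup.commutative_of_card_eq_prime_sq hc)
  -- the normalizer of M is M
  have hnorm : ∀ c : G, (∀ m ∈ M, c * m * c⁻¹ ∈ M) → (∀ m ∈ M, c⁻¹ * m * c ∈ M) → c ∈ M := by
    intro c hc hc'
    by_contra hcM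
    apply hx
    have hNM : M ≤ normalizer (M : Set G) := Subgroup.le_normalizer
    have hcN : c ∈ normalizer (M : Set G) := by
      rw [Subgroup.mem_normalizer_iff]
      intro m
      refine ⟨hc m, fun hm => ?_⟩
      have h1 := hc' _ hm
      have h2 : c⁻¹ * (c * m * c⁻¹) * c = m := by group
      rw [h2] at h1
      exact h1
    rcases eq_or_eq_top_of_prime_index hMp hNM with h1 | h1
    · rw [h1] at hcN; exact absurd hcN hcM
    · exact Subgroup.normalizer_eq_top_iff.mp h1
  -- elements of M outside K are central in M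
  have hcent : ∀ a ∈ M, a ∉ K → M ≤ centralizer ({a} : Set G) := by
    intro a haM haK
    have hV : M ≤ K ⊔ zpowers a :=
      le_of_relIndex_prime' hKM hq le_sup_left
        (Subgroup.mem_sup_right (mem_zpowers a)) haM haK
    have hconj : ∀ c : G, c * a = a * c → ∀ m ∈ M, c * m * c⁻¹ ∈ M := by
      intro c hc m hm
      have hm' : m ∈ ((K ⊔ zpowers a : Subgroup G) : Set G) := hV hm
      rw [Subgroup.normal_mul, Set.mem_mul] at hm'
      obtain ⟨k, hk, b, hb, rfl⟩ := hm'
      obtain ⟨i, rfl⟩ := mem_zpowers_iff.mp hb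
      have h1 : c * (k * a ^ i) * c⁻¹ = (c * k * c⁻¹) * (c * a ^ i * c⁻¹) := by group
      have h2 : c * a ^ i * c⁻¹ = a ^ i := by
        have : Commute c (a ^ i) := (show Commute c a from hc).zpow_right i
        rw [this.eq]; group
      rw [h1, h2]
      exact M.mul_mem (hKM (hKn.conj_mem k hk c)) (M.zpow_mem haM i)
    have hCM : centralizer ({a} : Set G) ≤ M := by
      intro c hc
      rw [mem_centralizer_singleton_iff] at hc
      apply hnorm c (hconj c hc)
      have hc' : c⁻¹ * a = a * c⁻¹ := by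
        have : Commute c⁻¹ a := (show Commute c a from hc).inv_left
        exact this.eq
      intro m hm
      have := hconj c⁻¹ hc' m hm
      rwa [inv_inv] at this
    rcases h a with h1 | h1
    · rw [Subgroup.index_eq_one.mp h1]; exact le_top
    · rcases eq_or_eq_top_of_prime_index h1 hCM with h2 | h2
      · exact h2.le
      · exact absurd h2 hMtop
  -- M is abelian
  obtain ⟨a₀, ha₀M, ha₀K⟩ : ∃ a ∈ M, a ∉ K := by
    by_contra hcon
    push Not at hcon
    exact hMK hcon
  have hab : ∀ m₁ ∈ M, ∀ m₂ ∈ M, m₂ * m₁ = m₁ * m₂ := by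
    intro m₁ h1 m₂ h2
    by_cases hm1 : m₁ ∈ K
    · have h3 : a₀ * m₁ ∉ K := by
        intro h4
        apply ha₀K
        have : a₀ = (a₀ * m₁) * m₁⁻¹ := by group
        rw [this]
        exact K.mul_mem h4 (K.inv_mem hm1)
      have h5 := mem_centralizer_singleton_iff.mp (hcent a₀ ha₀M ha₀K h2)
      have h6 := mem_centralizer_singleton_iff.mp (hcent (a₀ * m₁) (M.mul_mem ha₀M h1) h3 h2)
      -- m₂ * a₀ = a₀ * m₂, m₂ * (a₀ * m₁) = a₀ * m₁ * m₂
      have h7 : a₀ * (m₂ * m₁) = a₀ * (m₁ * m₂) := by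
        rw [← mul_assoc, ← h5, mul_assoc, h6, mul_assoc]
      exact mul_left_cancel h7
    · exact mem_centralizer_singleton_iff.mp (hcent m₁ h1 hm1 h2)
  -- K is central
  have hKZ : K ≤ center G := by
    intro k hk
    have hMC : M ≤ centralizer ({k} : Set G) := by
      intro m hm
      rw [mem_centralizer_singleton_iff]
      exact hab k (hKM hk) m hm
    rcases eq_or_eq_top_of_prime_index hMp hMC with h1 | h1
    · exfalso
      apply hx
      constructor
      intro n hn g
      rw [← h1, mem_centralizer_singleton_iff]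
      have h2 : g⁻¹ * k * g ∈ K := by
        have := hKn.conj_mem k hk g⁻¹
        simpa using this
      have h3 := hab (g⁻¹ * k * g) (hKM h2) n hn
      -- n * (g⁻¹ k g) = (g⁻¹ k g) * n
      calc g * n * g⁻¹ * k = g * (n * (g⁻¹ * k * g)) * g⁻¹ := by group
        _ = g * ((g⁻¹ * k * g) * n) * g⁻¹ := by rw [h3]
        _ = k * (g * n * g⁻¹) := by group
    · rw [mem_center_iff]
      intro g
      have : g ∈ centralizer ({k} : Set G) := h1 ▸ Subgroup.mem_top g
      exact mem_centralizer_singleton_iff.mp this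
  have hZM : center G ≤ M := by
    intro z hz
    rw [hM, mem_centralizer_singleton_iff]
    exact ((mem_center_iff.mp hz) x).symm
  have hZK : center G = K := by
    apply le_antisymm _ hKZ
    rw [hK, Subgroup.normal_le_normalCore]
    exact hZM
  refine ⟨K.relIndex M, M.index, hq, hMp, hqp, ?_, ?_⟩
  · rw [← Subgroup.index_eq_card, hZK, hidx]
  · intro hc
    apply hx
    exact normal_of_quotient_comm (center G) M hZM (fun a b => hc.is_comm.comm a b)

end

/-- Let `G` be a finite group every conjugacy class of which has size 1 or a prime. Then either `G` is nilpotent of class at most 2, or `G/Z(G)` is a non-abelian group of order `pq` for distinct primes `p, q` (a Frobenius group of order `pq`). -/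
theorem result {G : Type*} [Group G] [Finite G]
    (h : ∀ x : G, (Subgroup.centralizer ({x} : Set G)).index = 1 ∨ ((Subgroup.centralizer ({x} : Set G)).index).Prime) :
    Subgroup.upperCentralSeries G 2 = ⊤ ∨
      ∃ p q : ℕ, p.Prime ∧ q.Prime ∧ p ≠ q ∧ Nat.card (G ⧸ Subgroup.center G) = p * q ∧ ¬ IsMulCommutative (G ⧸ Subgroup.center G) := by
  by_cases hall : ∀ x : G, (centralizer ({x} : Set G)).Normal
  · left
    exact class_two_of_all_normal h hall
  · right
    push Not at hall
    obtain ⟨x, hx⟩ := hall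
    exact main h x hx

end Cfsg.Agent.S4314
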