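import Cfsg.Statements.S4321
import Mathlib
import Cfsg.Agent.Lib_helper10_PSc

set_option autoImplicit false
open Cfsg

namespace Cfsg.Agent.S4321

/-- Let `G` be a finite group and `p` a prime not dividing the order of the centre of `G`. Consider the primes dividing the size of some conjugacy class of a `p`-singular element (an element of order divisible by `p`), two of them adjacent when their product divides such a class size. Then any two distinct such primes are joined by a path with at most 3 edges (the graph is connected of diameter at most 3). -/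
theorem result {G : Type*} [Group G] [Finite G] (p : ℕ) [Fact p.Prime]
    (hZ : ¬ p ∣ Nat.card ↥(Subgroup.center G)) (r s : ℕ) (hr : (r.Prime ∧ ∃ x : G, p ∣ orderOf x ∧ r ∣ (Subgroup.centralizer ({x} : Set G)).index)) (hs : (s.Prime ∧ ∃ x : G, p ∣ orderOf x ∧ s ∣ (Subgroup.centralizer ({x} : Set G)).index)) (hrs : r ≠ s) :
    (∃ x : G, p ∣ orderOf x ∧ r * s ∣ (Subgroup.centralizer ({x} : Set G)).index) ∨ (∃ t : ℕ, (t.Prime ∧ ∃ x : G, p ∣ orderOf x ∧ t ∣ (Subgroup.centralizer ({x} : Set G)).index) ∧ t ≠ r ∧ t ≠ s ∧ (∃ x : G, p ∣ orderOf x ∧ r * t ∣ (Subgroup.centralizer ({x} : Set G)).index) ∧ (∃ x : G, p ∣ orderOf x ∧ t * s ∣ (Subgroup.centralizer ({x} : Set G)).index)) ∨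
      (∃ t u : ℕ, (t.Prime ∧ ∃ x : G, p ∣ orderOf x ∧ t ∣ (Subgroup.centralizer ({x} : Set G)).index) ∧ (u.Prime ∧ ∃ x : G, p ∣ orderOf x ∧ u ∣ (Subgroup.centralizer ({x} : Set G)).index) ∧ t ≠ r ∧ u ≠ s ∧ t ≠ u ∧ (∃ x : G, p ∣ orderOf x ∧ r * t ∣ (Subgroup.centralizer ({x} : Set G)).index) ∧ (∃ x : G, p ∣ orderOf x ∧ t * u ∣ (Subgroup.centralizer ({x} : Set G)).index) ∧ (∃ x : G, p ∣ orderOf x ∧ u * s ∣ (Subgroup.centralizer ({x} : Set G)).index)) := by
  classical
  obtain ⟨hrp, x, hxo, hxr⟩ := hr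
  obtain ⟨hsp, y, hyo, hys⟩ := hs
  obtain ⟨u, hu, hu1, hux⟩ := Cfsg.Agent.helper10.PSing.exists_ppart p x hxo
  obtain ⟨v, hv, hv1, hvy⟩ := Cfsg.Agent.helper10.PSing.exists_ppart p y hyo
  obtain ⟨t, t', ht, ht', htu, htv, hdisj⟩ := Cfsg.Agent.helper10.PSing.kl_pelem p hZ u v hu hu1 hv hv1
  have htx : t ∣ (Subgroup.centralizer ({x} : Set G)).index := htu.trans hux
  have hty : t' ∣ (Subgroup.centralizer ({y} : Set G)).index := htv.trans hvy
  have hmul : ∀ (a b : ℕ), a.Prime → b.Prime → a ≠ b → ∀ z : G,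
      a ∣ (Subgroup.centralizer ({z} : Set G)).index → b ∣ (Subgroup.centralizer ({z} : Set G)).index →
      a * b ∣ (Subgroup.centralizer ({z} : Set G)).index := by
    intro a b ha hb hab z h1 h2
    exact ((Nat.coprime_primes ha hb).mpr hab).mul_dvd_of_dvd_of_dvd h1 h2
  have hVt : t.Prime ∧ ∃ x : G, p ∣ orderOf x ∧ t ∣ (Subgroup.centralizer ({x} : Set G)).index :=
    ⟨ht, x, hxo, htx⟩
  have hVt' : t'.Prime ∧ ∃ x : G, p ∣ orderOf x ∧ t' ∣ (Subgroup.centralizer ({x} : Set G)).index :=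
    ⟨ht', y, hyo, hty⟩
  by_cases hee : t = t'
  · subst hee
    by_cases h1 : t = r
    · subst h1
      left
      exact ⟨y, hyo, hmul t s hrp hsp hrs y hty hys⟩
    · by_cases h2 : t = s
      · subst h2
        left
        exact ⟨x, hxo, hmul r t hrp hsp hrs x hxr htx⟩
      · right; left
        exact ⟨t, hVt, h1, h2, ⟨x, hxo, hmul r t hrp ht (Ne.symm h1) x hxr htx⟩,
          ⟨y, hyo, hmul t s ht hsp h2 y hty hys⟩⟩
  · rcases hdisj with h | ⟨w, hwo, hw⟩
    · exact absurd h hee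
    · by_cases h1 : t = r
      · by_cases h2 : t' = s
        · left
          subst h1; subst h2
          exact ⟨w, hwo, hw⟩
        · right; left
          subst h1
          exact ⟨t', hVt', Ne.symm hee, h2, ⟨w, hwo, hw⟩, ⟨y, hyo, hmul t' s ht' hsp h2 y hty hys⟩⟩
      · by_cases h2 : t' = s
        · right; left
          subst h2
          exact ⟨t, hVt, h1, hee, ⟨x, hxo, hmul r t hrp ht (Ne.symm h1) x hxr htx⟩, ⟨w, hwo, hw⟩⟩
        · right; right
          exact ⟨t, t', hVt, hVt', h1, h2, hee,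
            ⟨x, hxo, hmul r t hrp ht (Ne.symm h1) x hxr htx⟩, ⟨w, hwo, hw⟩,
            ⟨y, hyo, hmul t' s ht' hsp h2 y hty hys⟩⟩

end Cfsg.Agent.S4321
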