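import Mathlib
import Cfsg.Statements.S4325

set_option autoImplicit false
open Cfsg

namespace Cfsg.Agent.S4325

open Equiv

theorem sym2_of_swap_eq {α : Type*} [DecidableEq α] {x y x' y' : α} (hxy : x ≠ y)
    (h : swap x y = swap x' y') : s(x, y) = s(x', y') := by
  have h1 : swap x' y' x = y := by rw [← h, swap_apply_left]
  by_cases hx : x = x'
  · subst hx; rw [swap_apply_left] at h1; rw [h1]
  · by_cases hx' : x = y'
    · subst hx'; rw [swap_apply_right] at h1; rw [← h1]; exact Sym2.eq_swap
    · rw [swap_apply_of_ne_of_ne hx hx'] at h1; exact absurd h1 hxy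

theorem piCore_eq_bot (r : ℕ) (hr : r.Prime) (π : Set ℕ) (hrπ : r ∉ π) :
    Cfsg.piCore π (Equiv.Perm (Fin r)) = ⊥ := by
  unfold Cfsg.piCore
  rw [sSup_eq_bot]
  rintro N ⟨hNn, hNπ⟩
  by_contra hne
  have hfix : MulAction.fixedPoints N (Fin r) ≠ Set.univ := by
    intro h
    apply hne
    rw [Subgroup.eq_bot_iff_forall]
    intro σ hσ
    ext x
    have hx : x ∈ MulAction.fixedPoints N (Fin r) := by rw [h]; trivial
    have := hx ⟨σ, hσ⟩
    exact congrArg Fin.val this
  have htr : MulAction.IsPretransitive N (Fin r) :=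
    MulAction.IsQuasiPreprimitive.isPretransitive_of_normal hfix
  have hne0 : NeZero r := ⟨hr.ne_zero⟩
  have horb : MulAction.orbit N (0 : Fin r) = Set.univ := MulAction.orbit_eq_univ N (0 : Fin r)
  have hidx := MulAction.index_stabilizer N (0 : Fin r)
  rw [horb, Set.ncard_univ, Nat.card_fin] at hidx
  have hdvd : r ∣ Nat.card N := by
    have h := Subgroup.index_dvd_card (MulAction.stabilizer N (0 : Fin r))
    rw [hidx] at h
    exact h
  exact hrπ (hNπ r hr hdvd)

theorem not_dvd_card (r m : ℕ) (hr : r.Prime) (hm : m + 1 < r)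
    (t : Fin m → Equiv.Perm (Fin r)) (ht : ∀ i, (t i).IsSwap) :
    ¬ r ∣ Nat.card (Subgroup.closure (Set.range t)) := by
  intro hdvd
  have hrf : Fact r.Prime := ⟨hr⟩
  obtain ⟨σ, hσ⟩ := exists_prime_orderOf_dvd_card' r hdvd
  have hσ' : orderOf (σ : Equiv.Perm (Fin r)) = r := by rw [Subgroup.orderOf_coe]; exact hσ
  have hcyc : (σ : Equiv.Perm (Fin r)).IsCycle := by
    apply Equiv.Perm.isCycle_of_prime_order''
    · rw [Fintype.card_fin]; exact hr
    · rw [Fintype.card_fin]; exact hσ'
  have hsupp : (σ : Equiv.Perm (Fin r)).support = Finset.univ := by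
    apply Finset.eq_univ_of_card
    rw [← hcyc.orderOf, hσ', Fintype.card_fin]
  let Γ : SimpleGraph (Fin r) :=
    { Adj := fun x y => x ≠ y ∧ ∃ i, t i = Equiv.swap x y
      symm := ⟨by
        rintro x y ⟨hxy, i, hi⟩
        exact ⟨hxy.symm, i, by rw [hi, Equiv.swap_comm]⟩⟩
      loopless := ⟨fun x h => h.1 rfl⟩ }
  have hreach : ∀ g ∈ Subgroup.closure (Set.range t), ∀ x, Γ.Reachable x (g x) := by
    intro g hg
    induction hg using Subgroup.closure_induction with
    | mem g hg =>
      obtain ⟨i, rfl⟩ := hg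
      obtain ⟨a, b, hab, hi⟩ := ht i
      intro x
      rw [hi]
      by_cases hxa : x = a
      · subst hxa
        rw [Equiv.swap_apply_left]
        exact SimpleGraph.Adj.reachable ⟨hab, i, hi⟩
      · by_cases hxb : x = b
        · subst hxb
          rw [Equiv.swap_apply_right]
          exact SimpleGraph.Adj.reachable ⟨hab.symm, i, by rw [hi, Equiv.swap_comm]⟩
        · rw [Equiv.swap_apply_of_ne_of_ne hxa hxb]
    | one => intro x; exact SimpleGraph.Reachable.refl x
    | mul g h _ _ ihg ihh =>
      intro x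
      exact (ihh x).trans (ihg (h x))
    | inv g _ ihg =>
      intro x
      have := ihg (g⁻¹ x)
      have e : g (g⁻¹ x) = x := by
        rw [← Equiv.Perm.mul_apply, mul_inv_cancel, Equiv.Perm.one_apply]
      rw [e] at this
      exact this.symm
  have hconn : Γ.Connected := by
    have hne0 : NeZero r := ⟨hr.ne_zero⟩
    have hnonempty : Nonempty (Fin r) := ⟨0⟩
    rw [SimpleGraph.connected_iff]
    refine ⟨?_, hnonempty⟩
    intro x y
    have hx : (σ : Equiv.Perm (Fin r)) x ≠ x := by
      rw [← Equiv.Perm.mem_support, hsupp]; exact Finset.mem_univ x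
    have hy : (σ : Equiv.Perm (Fin r)) y ≠ y := by
      rw [← Equiv.Perm.mem_support, hsupp]; exact Finset.mem_univ y
    obtain ⟨i, hi⟩ := hcyc.sameCycle hx hy
    rw [← hi]
    exact hreach _ (Subgroup.zpow_mem _ σ.2 i) x
  have hedges : Nat.card Γ.edgeSet ≤ m := by
    have hex : ∀ e : Γ.edgeSet, ∃ i : Fin m, ∃ x y : Fin r,
        (e : Sym2 (Fin r)) = s(x, y) ∧ x ≠ y ∧ t i = Equiv.swap x y := by
      rintro ⟨e, he⟩
      induction e using Sym2.ind with
      | _ x y =>
        rw [SimpleGraph.mem_edgeSet] at he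
        obtain ⟨hxy, i, hi⟩ := he
        exact ⟨i, x, y, rfl, hxy, hi⟩
    choose f hf using hex
    have hinj : Function.Injective f := by
      intro e e' hee'
      obtain ⟨x, y, he, hxy, hi⟩ := hf e
      obtain ⟨x', y', he', _, hi'⟩ := hf e'
      apply Subtype.ext
      rw [he, he']
      apply sym2_of_swap_eq hxy
      rw [← hi, ← hi', hee']
    have := Nat.card_le_card_of_injective f hinj
    rwa [Nat.card_fin] at this
  have hbound := hconn.card_vert_le_card_edgeSet_add_one
  rw [Nat.card_fin] at hbound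
  omega

/-- Let r be a prime and m a natural number with m + 1 < r, and let π be a set of primes containing every prime below r but not r itself. Then in the symmetric group of degree r any m transpositions generate a π-subgroup, while O_π of the symmetric group is trivial. (So no bound on the number of conjugates that works for all π exists in the π-radical analogue of the Baer–Suzuki Theorem.) -/
theorem result (r m : ℕ) (hr : r.Prime)
    (hm : m + 1 < r) (π : Set ℕ) (hπ : ∀ q : ℕ, q.Prime → q < r → q ∈ π) (hrπ : r ∉ π)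
    (t : Fin m → Equiv.Perm (Fin r)) (ht : ∀ i, (t i).IsSwap) :
    Cfsg.IsPiSubgroup π (Subgroup.closure (Set.range t)) ∧ Cfsg.piCore π (Equiv.Perm (Fin r)) = ⊥ := by
  refine ⟨?_, piCore_eq_bot r hr π hrπ⟩
  intro p hp hpd
  have h1 : p ∣ r.factorial := by
    have := Subgroup.card_subgroup_dvd_card (Subgroup.closure (Set.range t))
    rw [Nat.card_eq_fintype_card (α := Equiv.Perm (Fin r)), Fintype.card_perm,
      Fintype.card_fin] at this
    exact hpd.trans this
  have h2 : p ≤ r := (Nat.Prime.dvd_factorial hp).mp h1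
  rcases lt_or_eq_of_le h2 with h | h
  · exact hπ p hp h
  · exfalso
    subst h
    exact not_dvd_card p m hr hm t ht hpd

end Cfsg.Agent.S4325
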