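import Mathlib
import Cfsg.Statements.S4326

set_option autoImplicit false
open Cfsg

namespace Cfsg.Agent.S4326

open scoped Pointwise

theorem exists_fixed_coset {G : Type*} [Group G] [Finite G] (p : ℕ) [Fact p.Prime] (x : MulAut G)
    (k : ℕ) (hx : x ^ (p ^ k) = 1) (M : Subgroup G) (hM : ∀ g ∈ M, x g = g) (hp : p ∣ M.index) :
    ∃ g : G, g ∉ M ∧ g⁻¹ * x g ∈ M := by
  classical
  have hrel : ∀ a b : G, QuotientGroup.leftRel M a b → QuotientGroup.leftRel M (x a) (x b) := by
    intro a b hab
    rw [QuotientGroup.leftRel_apply] at hab ⊢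
    rw [← map_inv, ← map_mul, hM _ hab]; exact hab
  let f : Function.End (G ⧸ M) := Quotient.map' x hrel
  have hf : ∀ g : G, f (QuotientGroup.mk g) = QuotientGroup.mk (x g) := fun g => rfl
  have hfn : ∀ n : ℕ, ∀ g : G, (f ^ n) (QuotientGroup.mk g) = QuotientGroup.mk ((x ^ n) g) := by
    intro n
    induction n with
    | zero => intro g; rfl
    | succ n ih =>
      intro g
      rw [pow_succ', pow_succ']
      change f ((f ^ n) (QuotientGroup.mk g)) = _
      rw [ih, hf]
      rfl
  have hfpk : f ^ (p ^ k) = 1 := by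
    funext a
    obtain ⟨g, rfl⟩ := QuotientGroup.mk_surjective a
    rw [hfn, hx]; rfl
  have hFin : Fintype (G ⧸ M) := Fintype.ofFinite _
  have hcong := Equiv.Perm.card_fixedPoints_modEq (f := f) hfpk
  have h0 : Fintype.card (G ⧸ M) ≡ 0 [MOD p] := by
    rw [Nat.modEq_zero_iff_dvd, ← Nat.card_eq_fintype_card, ← Subgroup.index_eq_card]; exact hp
  have h1 : p ∣ Fintype.card (Function.fixedPoints f) :=
    (Nat.modEq_zero_iff_dvd).mp (hcong.symm.trans h0)
  have hfix1 : (QuotientGroup.mk 1 : G ⧸ M) ∈ Function.fixedPoints f := by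
    change f _ = _; rw [hf, map_one]
  have h2 : 1 < Fintype.card (Function.fixedPoints f) := by
    have hpos : 0 < Fintype.card (Function.fixedPoints f) := Fintype.card_pos_iff.mpr ⟨⟨_, hfix1⟩⟩
    exact lt_of_lt_of_le (Fact.out : p.Prime).one_lt (Nat.le_of_dvd hpos h1)
  obtain ⟨⟨a, ha⟩, hne⟩ := Fintype.exists_ne_of_one_lt_card h2 ⟨_, hfix1⟩
  obtain ⟨g, rfl⟩ := QuotientGroup.mk_surjective a
  refine ⟨g, ?_, ?_⟩
  · intro hg
    apply hne
    apply Subtype.ext
    change (QuotientGroup.mk g : G ⧸ M) = QuotientGroup.mk 1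
    rw [QuotientGroup.eq]; simpa using hg
  · have : f (QuotientGroup.mk g) = QuotientGroup.mk g := ha
    rw [hf, QuotientGroup.eq] at this
    have := M.inv_mem this
    simpa using this

/-- Let G be a finite group, p a prime, x an automorphism of G of p-power order and M the subgroup of fixed points of x. Suppose that p divides the index of M and that either M is self-normalizing or M has trivial center. Then some conjugate of M is mapped onto itself by x but is not fixed elementwise by x. -/
theorem result {G : Type*} [Group G] [Finite G]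
    (p : ℕ) [Fact p.Prime] (x : MulAut G) (hx : ∃ k : ℕ, orderOf x = p ^ k) (M : Subgroup G)
    (hM : ∀ g : G, g ∈ M ↔ x g = g) (hp : p ∣ M.index)
    (hself : Subgroup.normalizer (M : Set G) = M ∨ Subgroup.center M = ⊥) :
    ∃ g : G, (∀ y ∈ MulAut.conj g • M, x y ∈ MulAut.conj g • M) ∧ ∃ y ∈ MulAut.conj g • M, x y ≠ y := by
  obtain ⟨k, hk⟩ := hx
  have hxk : x ^ (p ^ k) = 1 := by rw [← hk]; exact pow_orderOf_eq_one x
  obtain ⟨g, hgM, hg⟩ := exists_fixed_coset p x k hxk M (fun g hg => (hM g).mp hg) hp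
  have hmem : ∀ y : G, y ∈ MulAut.conj g • M ↔ g⁻¹ * y * g ∈ M := by
    intro y
    rw [Subgroup.mem_pointwise_smul_iff_inv_smul_mem]
    simp [MulAut.smul_def, ← map_inv, MulAut.conj_apply]
  have hxconj : ∀ n ∈ M, x (g * n * g⁻¹) = x g * n * (x g)⁻¹ := by
    intro n hn
    rw [map_mul, map_mul, (hM n).mp hn, map_inv]
  refine ⟨g, ?_, ?_⟩
  · intro y hy
    rw [hmem] at hy ⊢
    have e : y = g * (g⁻¹ * y * g) * g⁻¹ := by group
    have hxy : x y = x g * (g⁻¹ * y * g) * (x g)⁻¹ := by
      conv_lhs => rw [e]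
      exact hxconj _ hy
    have : g⁻¹ * x y * g = (g⁻¹ * x g) * (g⁻¹ * y * g) * (g⁻¹ * x g)⁻¹ := by
      rw [hxy]; group
    rw [this]
    exact M.mul_mem (M.mul_mem hg hy) (M.inv_mem hg)
  · by_contra hcon
    push Not at hcon
    have hfixed : ∀ n ∈ M, x (g * n * g⁻¹) = g * n * g⁻¹ := by
      intro n hn
      apply hcon
      rw [hmem]
      have : g⁻¹ * (g * n * g⁻¹) * g = n := by group
      rw [this]; exact hn
    rcases hself with hN | hZ
    · -- conj g • M ≤ M, so equal, so g normalizes M
      have hle : MulAut.conj g • M ≤ M := fun y hy => (hM y).mpr (hcon y hy)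
      have heq : MulAut.conj g • M = M := by
        apply Subgroup.eq_of_le_of_card_ge hle
        exact (Nat.card_congr (Subgroup.equivSMul (MulAut.conj g) M).toEquiv).le
      have hgN : g ∈ Subgroup.normalizer (M : Set G) := by
        rw [Subgroup.mem_normalizer_iff]
        intro h
        rw [← Subgroup.smul_mem_pointwise_smul_iff (a := MulAut.conj g), heq]
        rfl
      rw [hN] at hgN
      exact hgM hgN
    · have hcen : (⟨g⁻¹ * x g, hg⟩ : M) ∈ Subgroup.center M := by
        rw [Subgroup.mem_center_iff]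
        rintro ⟨n, hn⟩
        apply Subtype.ext
        change n * (g⁻¹ * x g) = (g⁻¹ * x g) * n
        have h1 := hfixed n hn
        rw [hxconj n hn] at h1
        -- x g * n * (x g)⁻¹ = g * n * g⁻¹
        have h2 : g⁻¹ * x g * n = n * (g⁻¹ * x g) := by
          have : x g * n = g * n * g⁻¹ * x g := by
            rw [← h1]; group
          calc g⁻¹ * x g * n = g⁻¹ * (x g * n) := by group
            _ = g⁻¹ * (g * n * g⁻¹ * x g) := by rw [this]
            _ = n * (g⁻¹ * x g) := by group
        exact h2.symm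
      rw [hZ, Subgroup.mem_bot] at hcen
      have h1 : g⁻¹ * x g = 1 := congrArg Subtype.val hcen
      have h2 : x g = g := by
        have := congrArg (fun t => g * t) h1
        simpa using this
      exact hgM ((hM g).mpr h2)

end Cfsg.Agent.S4326
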