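import Mathlib
import Cfsg.Statements.S4331
import Cfsg.Agent.Lib_helper14_OpSub2

set_option autoImplicit false
open Cfsg

namespace Cfsg.Agent.S4331

section field

variable {F : Type} [Field F] [CharP F 3]

/-- identity or Frobenius -/
noncomputable def fr (s : Bool) : F →+* F := if s then frobenius F 3 else RingHom.id F

theorem fr_true (x : F) : fr true x = x ^ 3 := rfl

theorem fr_false (x : F) : fr false x = x := rfl

theorem fr_fr (h9 : ∀ x : F, x ^ 9 = x) (s : Bool) (x : F) : fr s (fr s x) = x := by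
  cases s
  · rfl
  · rw [fr_true, fr_true, ← pow_mul]
    exact h9 x

theorem fr_comp (h9 : ∀ x : F, x ^ 9 = x) (s t : Bool) (x : F) :
    fr s (fr t x) = fr (xor s t) x := by
  cases s <;> cases t
  · rfl
  · rfl
  · rfl
  · rw [fr_fr h9]; rfl

/-- the induced map on units -/
noncomputable def frU (s : Bool) : Fˣ →* Fˣ := Units.map ((fr s : F →+* F) : F →* F)

theorem frU_val (s : Bool) (u : Fˣ) : ((frU s u : Fˣ) : F) = fr s (u : F) := rfl

/-- the semilinear map `x ↦ u σ^s(x)` as an automorphism of the additive group -/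
noncomputable def mk (h9 : ∀ x : F, x ^ 9 = x) (u : Fˣ) (s : Bool) : MulAut (Multiplicative F) :=
  AddEquiv.toMultiplicative
    { toFun := fun x => u * fr s x
      invFun := fun y => fr s (((u⁻¹ : Fˣ) : F) * y)
      left_inv := fun x => by
        show fr s (((u⁻¹ : Fˣ) : F) * ((u : F) * fr s x)) = x
        rw [← mul_assoc, Units.inv_mul, one_mul, fr_fr h9]
      right_inv := fun y => by
        show (u : F) * fr s (fr s (((u⁻¹ : Fˣ) : F) * y)) = y
        rw [fr_fr h9, ← mul_assoc, Units.mul_inv, one_mul]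
      map_add' := fun x y => by
        show (u : F) * fr s (x + y) = (u : F) * fr s x + (u : F) * fr s y
        rw [map_add, mul_add] }

theorem mk_apply (h9 : ∀ x : F, x ^ 9 = x) (u : Fˣ) (s : Bool) (x : F) :
    mk h9 u s (Multiplicative.ofAdd x) = Multiplicative.ofAdd ((u : F) * fr s x) := rfl

theorem mk_mul (h9 : ∀ x : F, x ^ 9 = x) (u u' : Fˣ) (s s' : Bool) :
    mk h9 u s * mk h9 u' s' = mk h9 (u * frU s u') (xor s s') := by
  apply MulEquiv.ext
  intro n
  obtain ⟨x, rfl⟩ := Multiplicative.ofAdd.surjective n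
  rw [MulAut.mul_apply, mk_apply, mk_apply, mk_apply, RingHom.map_mul, fr_comp h9, Units.val_mul,
    mul_assoc, frU_val]

theorem mk_one (h9 : ∀ x : F, x ^ 9 = x) : mk h9 1 false = 1 := by
  apply MulEquiv.ext
  intro n
  obtain ⟨x, rfl⟩ := Multiplicative.ofAdd.surjective n
  rw [mk_apply, Units.val_one, one_mul]
  rfl

theorem mk_inv (h9 : ∀ x : F, x ^ 9 = x) (u : Fˣ) (s : Bool) :
    (mk h9 u s)⁻¹ = mk h9 (frU s u⁻¹) s := by
  apply inv_eq_of_mul_eq_one_right
  rw [mk_mul, Bool.xor_self]
  have : u * frU s (frU s u⁻¹) = 1 := by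
    apply Units.ext
    rw [Units.val_mul, frU_val, frU_val, fr_fr h9, Units.mul_inv, Units.val_one]
  rw [this, mk_one]

/-- the group `ΓL₁(9)` acting on the additive group of the field -/
noncomputable def Hsub (h9 : ∀ x : F, x ^ 9 = x) : Subgroup (MulAut (Multiplicative F)) where
  carrier := Set.range (fun p : Fˣ × Bool => mk h9 p.1 p.2)
  mul_mem' := by
    rintro _ _ ⟨⟨u, s⟩, rfl⟩ ⟨⟨u', s'⟩, rfl⟩
    exact ⟨(u * frU s u', xor s s'), (mk_mul h9 u u' s s').symm⟩
  one_mem' := ⟨(1, false), mk_one h9⟩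
  inv_mem' := by
    rintro _ ⟨⟨u, s⟩, rfl⟩
    exact ⟨(frU s u⁻¹, s), (mk_inv h9 u s).symm⟩

theorem mk_mem (h9 : ∀ x : F, x ^ 9 = x) (u : Fˣ) (s : Bool) : mk h9 u s ∈ Hsub h9 :=
  ⟨(u, s), rfl⟩

theorem units_pow8 (h9 : ∀ x : F, x ^ 9 = x) (v : Fˣ) : v ^ 8 = 1 := by
  apply Units.ext
  rw [Units.val_pow_eq_pow_val, Units.val_one]
  have h1 : (v : F) ^ 8 * v = 1 * v := by
    rw [← pow_succ, one_mul]
    exact h9 _
  exact mul_right_cancel₀ v.ne_zero h1

theorem mk_false_pow (h9 : ∀ x : F, x ^ 9 = x) (v : Fˣ) (k : ℕ) :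
    (mk h9 v false) ^ k = mk h9 (v ^ k) false := by
  induction k with
  | zero => rw [pow_zero, pow_zero, mk_one]
  | succ k ih =>
    rw [pow_succ, ih, mk_mul, pow_succ]
    congr 1

theorem mk_pow16 (h9 : ∀ x : F, x ^ 9 = x) (u : Fˣ) (s : Bool) : (mk h9 u s) ^ 2 ^ 4 = 1 := by
  have h1 : (mk h9 u s) ^ 2 = mk h9 (u * frU s u) false := by
    rw [pow_two, mk_mul, Bool.xor_self]
  have h2 : (2 : ℕ) ^ 4 = 2 * 8 := by norm_num
  rw [h2, pow_mul, h1, mk_false_pow, units_pow8 h9, mk_one]

end field

section general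

theorem sn_of_commute {G : Type*} [Group G] (t g : G) (h : t * g = g * t) :
    ((Subgroup.zpowers t).subgroupOf (Subgroup.zpowers t ⊔ Subgroup.zpowers g)).IsSubnormal := by
  apply Subgroup.Normal.isSubnormal
  rw [Subgroup.normal_subgroupOf_iff_le_normalizer le_sup_left]
  apply sup_le Subgroup.le_normalizer
  rw [Subgroup.zpowers_le]
  have hcomm : ∀ y ∈ Subgroup.zpowers t, g * y * g⁻¹ = y := by
    intro y hy
    obtain ⟨k, rfl⟩ := Subgroup.mem_zpowers_iff.mp hy
    have hc : Commute g t := h.symm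
    rw [(hc.zpow_right k).eq, mul_inv_cancel_right]
  rw [Subgroup.mem_normalizer_iff]
  intro x
  constructor
  · intro hx
    rw [hcomm x hx]
    exact hx
  · intro hx
    have h1 := hcomm _ hx
    have h2 : g * x * g⁻¹ = x := by
      have h3 : g * (g * x * g⁻¹) * g⁻¹ = g * x * g⁻¹ := h1
      have h4 : g⁻¹ * (g * (g * x * g⁻¹) * g⁻¹) * g = g⁻¹ * (g * x * g⁻¹) * g := by rw [h3]
      have h5 : g⁻¹ * (g * (g * x * g⁻¹) * g⁻¹) * g = g * x * g⁻¹ := by group
      have h6 : g⁻¹ * (g * x * g⁻¹) * g = x := by group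
      rw [h5, h6] at h4
      exact h4
    rw [← h2]
    exact hx

theorem sn_of_pow {G : Type*} [Group G] [Finite G] (A K : Subgroup G) (hAK : A ≤ K)
    (hK : ∀ k ∈ K, k ^ 2 ^ 4 = 1) : (A.subgroupOf K).IsSubnormal := by
  haveI : Fact (Nat.Prime 2) := ⟨Nat.prime_two⟩
  have hn : K ≤ Subgroup.normalizer ((⊥ : Subgroup G) : Set G) := by
    intro x _
    rw [Subgroup.mem_normalizer_iff]
    intro y
    rw [Subgroup.mem_bot, Subgroup.mem_bot]
    constructor
    · intro hy
      rw [hy, mul_one, mul_inv_cancel]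
    · intro hy
      have : y = x⁻¹ * (x * y * x⁻¹) * x := by group
      rw [this, hy, mul_one, inv_mul_cancel]
  have h := Cfsg.Agent.helper14.sn_of_pquot (p := 2) ⊥ A K bot_le hAK hn
    (fun g hg => ⟨4, by rw [hK g hg]; exact Subgroup.one_mem _⟩)
  exact (Cfsg.Agent.helper7.sn_iff.mp h).2

end general

section group

variable {F : Type} [Field F] [CharP F 3] [Finite F] (h9 : ∀ x : F, x ^ 9 = x)

/-- the affine semilinear group `AΓL₁(9)` -/
abbrev Gp := Multiplicative F ⋊[(Hsub h9).subtype] (Hsub h9)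

/-- the Frobenius as an element of `H` -/
noncomputable def aEl : Hsub h9 := ⟨mk h9 1 true, mk_mem h9 1 true⟩

omit [Finite F] in
theorem three_zero : (3 : F) = 0 := by
  have := CharP.cast_eq_zero F 3
  exact_mod_cast this

omit [Finite F] in
theorem H_pow16 (h' : Hsub h9) : h' ^ 2 ^ 4 = 1 := by
  obtain ⟨f, hf⟩ := h'
  obtain ⟨⟨u, s⟩, rfl⟩ := hf
  apply Subtype.ext
  rw [Subgroup.coe_pow]
  exact mk_pow16 h9 u s

theorem main (h9 : ∀ x : F, x ^ 9 = x) (hζ : ∃ ζ : F, ζ ^ 3 ≠ ζ) :
    ∃ (G : Type) (_ : Group G) (_ : Finite G) (A : Subgroup G), Group.IsSolvable G ∧ Nat.card A = 2 ∧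
      (∀ c : G, ∃ g : G, IsConj c g ∧ (A.subgroupOf (A ⊔ Subgroup.zpowers g)).IsSubnormal) ∧
      ¬ A ≤ Cfsg.pCore 2 G := by
  obtain ⟨ζ, hζ⟩ := hζ
  haveI : Fact (Nat.Prime 2) := ⟨Nat.prime_two⟩
  haveI : Finite (MulAut (Multiplicative F)) :=
    Finite.of_injective (fun f => (f : Multiplicative F → Multiplicative F)) DFunLike.coe_injective
  haveI : Finite (Gp h9) := Finite.of_equiv _ SemidirectProduct.equivProd.symm
  have hHp : IsPGroup 2 (Hsub h9) := fun h' => ⟨4, H_pow16 h9 h'⟩
  have ha_ne : mk h9 1 true ≠ 1 := by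
    intro h1
    have h2 : mk h9 1 true (Multiplicative.ofAdd ζ) = Multiplicative.ofAdd ζ := by rw [h1]; rfl
    rw [mk_apply, fr_true, Units.val_one, one_mul] at h2
    exact hζ (Multiplicative.ofAdd.injective h2)
  have ha_sq : aEl h9 * aEl h9 = 1 := by
    apply Subtype.ext
    show mk h9 1 true * mk h9 1 true = 1
    rw [mk_mul, Bool.xor_self, map_one, mul_one, mk_one]
  refine ⟨Gp h9, inferInstance, inferInstance,
    Subgroup.zpowers (SemidirectProduct.inr (aEl h9)), ?_, ?_, ?_, ?_⟩
  · haveI : Group.IsNilpotent (Hsub h9) := hHp.isNilpotent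
    exact solvable_of_ker_le_range (SemidirectProduct.inl : Multiplicative F →* Gp h9)
      SemidirectProduct.rightHom (le_of_eq SemidirectProduct.range_inl_eq_ker_rightHom.symm)
  · rw [Nat.card_zpowers]
    apply orderOf_eq_prime
    · rw [pow_two, ← map_mul, ha_sq, map_one]
    · intro h1
      have h2 : aEl h9 = 1 := SemidirectProduct.inr_injective (h1.trans (map_one _).symm)
      exact ha_ne (congrArg Subtype.val h2)
  · rintro ⟨n, ⟨f, hf⟩⟩
    obtain ⟨⟨u, s⟩, rfl⟩ := hf
    obtain ⟨x, rfl⟩ := Multiplicative.ofAdd.surjective n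
    by_cases hfpf : ∀ m : Multiplicative F, mk h9 u s m = m → m = 1
    · have hinj : Function.Injective (fun m : Multiplicative F => m⁻¹ * mk h9 u s m) := by
        intro m m' hmm
        have h1 : m⁻¹ * mk h9 u s m = m'⁻¹ * mk h9 u s m' := hmm
        have h2 : mk h9 u s (m * m'⁻¹) = m * m'⁻¹ := by
          rw [map_mul, map_inv]
          have h3 : mk h9 u s m = m * (m'⁻¹ * mk h9 u s m') := by rw [← h1, mul_inv_cancel_left]
          rw [h3, mul_assoc, mul_assoc, mul_inv_cancel, mul_one]
        have h3 := hfpf _ h2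
        exact mul_inv_eq_one.mp h3
      obtain ⟨m, hm⟩ := Finite.surjective_of_injective hinj (Multiplicative.ofAdd x)
      have hm' : m⁻¹ * mk h9 u s m = Multiplicative.ofAdd x := hm
      refine ⟨SemidirectProduct.inr ⟨mk h9 u s, mk_mem h9 u s⟩, ?_, ?_⟩
      · rw [isConj_iff]
        refine ⟨SemidirectProduct.inl m, ?_⟩
        rw [mul_inv_eq_iff_eq_mul]
        apply SemidirectProduct.ext
        · show m * (1 : MulAut (Multiplicative F)) (Multiplicative.ofAdd x) =
            (1 : Multiplicative F) * mk h9 u s m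
          rw [← hm', one_mul, MulAut.one_apply, mul_inv_cancel_left]
        · show (1 : Hsub h9) * ⟨mk h9 u s, mk_mem h9 u s⟩ = ⟨mk h9 u s, mk_mem h9 u s⟩ * 1
          rw [one_mul, mul_one]
      · apply sn_of_pow _ _ le_sup_left
        have hrange : Subgroup.zpowers (SemidirectProduct.inr (aEl h9) : Gp h9) ⊔
            Subgroup.zpowers (SemidirectProduct.inr ⟨mk h9 u s, mk_mem h9 u s⟩) ≤
            (SemidirectProduct.inr : Hsub h9 →* Gp h9).range := by
          apply sup_le <;> rw [Subgroup.zpowers_le] <;> exact ⟨_, rfl⟩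
        intro k hk
        obtain ⟨h', rfl⟩ := hrange hk
        rw [← map_pow, H_pow16, map_one]
    · push Not at hfpf
      obtain ⟨m₀, hm₀, hm₀1⟩ := hfpf
      obtain ⟨y, rfl⟩ := Multiplicative.ofAdd.surjective m₀
      have hy : y ≠ 0 := fun h0 => hm₀1 (by rw [h0]; rfl)
      have hfix : (u : F) * fr s y = y := by
        have h1 := hm₀
        rw [mk_apply] at h1
        exact Multiplicative.ofAdd.injective h1
      cases s
      · have hu : u = 1 := by
          apply Units.ext
          rw [fr_false] at hfix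
          have h1 : (u : F) * y = 1 * y := by rw [hfix, one_mul]
          exact mul_right_cancel₀ hy h1
        subst hu
        by_cases hx : x = 0
        · subst hx
          refine ⟨_, IsConj.refl _, ?_⟩
          apply sn_of_commute
          have h1 : (⟨Multiplicative.ofAdd 0, ⟨mk h9 1 false, mk_mem h9 1 false⟩⟩ : Gp h9) = 1 := by
            apply SemidirectProduct.ext
            · rfl
            · apply Subtype.ext
              exact mk_one h9
          rw [h1, mul_one, one_mul]
        · refine ⟨SemidirectProduct.inl (Multiplicative.ofAdd 1), ?_, ?_⟩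
          · rw [isConj_iff]
            refine ⟨SemidirectProduct.inr ⟨mk h9 (Units.mk0 x hx)⁻¹ false, mk_mem _ _ _⟩, ?_⟩
            rw [mul_inv_eq_iff_eq_mul]
            apply SemidirectProduct.ext
            · show (1 : Multiplicative F) * mk h9 (Units.mk0 x hx)⁻¹ false (Multiplicative.ofAdd x) =
                Multiplicative.ofAdd 1 * (1 : MulAut (Multiplicative F)) 1
              rw [mk_apply, fr_false, one_mul, MulAut.one_apply, mul_one, Units.val_inv_eq_inv_val,
                Units.val_mk0, inv_mul_cancel₀ hx]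
            · show (⟨mk h9 (Units.mk0 x hx)⁻¹ false, mk_mem _ _ _⟩ : Hsub h9) *
                ⟨mk h9 1 false, mk_mem h9 1 false⟩ = 1 * ⟨mk h9 (Units.mk0 x hx)⁻¹ false, mk_mem _ _ _⟩
              apply Subtype.ext
              show mk h9 (Units.mk0 x hx)⁻¹ false * mk h9 1 false = 1 * mk h9 (Units.mk0 x hx)⁻¹ false
              rw [mk_one, mul_one, one_mul]
          · apply sn_of_commute
            apply SemidirectProduct.ext
            · show (1 : Multiplicative F) * mk h9 1 true (Multiplicative.ofAdd 1) =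
                Multiplicative.ofAdd 1 * (1 : MulAut (Multiplicative F)) 1
              rw [mk_apply, fr_true, one_mul, MulAut.one_apply, mul_one, Units.val_one, one_mul,
                one_pow]
            · show aEl h9 * 1 = 1 * aEl h9
              rw [one_mul, mul_one]
      · rw [fr_true] at hfix
        obtain ⟨t, ht⟩ : ∃ t : Fˣ, t = (Units.mk0 y hy)⁻¹ := ⟨_, rfl⟩
        have hty : (t : F) * y = 1 := by
          rw [ht, Units.val_inv_eq_inv_val, Units.val_mk0, inv_mul_cancel₀ hy]
        have hut : (t : F) * u = (t : F) ^ 3 := by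
          have h1 : (u : F) = (t : F) ^ 2 := by
            calc (u : F) = u * ((t : F) * y) ^ 3 := by rw [hty, one_pow, mul_one]
              _ = (t : F) ^ 3 * (u * y ^ 3) := by ring
              _ = (t : F) ^ 3 * y := by rw [hfix]
              _ = (t : F) ^ 2 * (t * y) := by ring
              _ = (t : F) ^ 2 := by rw [hty, mul_one]
          rw [h1]; ring
        obtain ⟨x', hx'⟩ : ∃ x' : F, x' = t * x := ⟨_, rfl⟩
        obtain ⟨z, hz⟩ : ∃ z : F, z = -x' - x' ^ 3 := ⟨_, rfl⟩
        have hz3 : z ^ 3 = z := by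
          rw [hz]
          have h1 : (-x' - x' ^ 3) ^ 3 = fr true (-x' - fr true x') := rfl
          rw [h1, map_sub, map_neg, fr_fr h9, fr_true]
          ring
        refine ⟨⟨Multiplicative.ofAdd z, aEl h9⟩, ?_, ?_⟩
        · rw [isConj_iff]
          refine ⟨⟨Multiplicative.ofAdd x', ⟨mk h9 t false, mk_mem _ _ _⟩⟩, ?_⟩
          rw [mul_inv_eq_iff_eq_mul]
          apply SemidirectProduct.ext
          · show Multiplicative.ofAdd x' * mk h9 t false (Multiplicative.ofAdd x) =
              Multiplicative.ofAdd z * mk h9 1 true (Multiplicative.ofAdd x')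
            rw [mk_apply, mk_apply, ← ofAdd_add, ← ofAdd_add, fr_false, fr_true, Units.val_one,
              one_mul, ← hx', hz]
            congr 1
            linear_combination x' * (three_zero (F := F))
          · apply Subtype.ext
            show mk h9 t false * mk h9 u true = mk h9 1 true * mk h9 t false
            rw [mk_mul, mk_mul]
            congr 1
            apply Units.ext
            rw [Units.val_mul, Units.val_mul, frU_val, frU_val, fr_false, fr_true, Units.val_one,
              one_mul, hut]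
        · apply sn_of_commute
          apply SemidirectProduct.ext
          · show (1 : Multiplicative F) * mk h9 1 true (Multiplicative.ofAdd z) =
              Multiplicative.ofAdd z * mk h9 1 true 1
            rw [mk_apply, fr_true, one_mul, map_one, mul_one, Units.val_one, one_mul, hz3]
          · show aEl h9 * aEl h9 = aEl h9 * aEl h9
            rfl
  · intro hle
    have ht : (SemidirectProduct.inr (aEl h9) : Gp h9) ∈ Cfsg.pCore 2 (Gp h9) :=
      hle (Subgroup.mem_zpowers _)
    have hQn : (Cfsg.pCore 2 (Gp h9)).Normal := Subgroup.sSup_normal _ (fun _ h => h.1)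
    have hQp : IsPGroup 2 (Cfsg.pCore 2 (Gp h9)) :=
      Sylow.sSup_of_normal _ (fun _ h => h.2) (fun _ h => h.1)
    obtain ⟨w, hw⟩ : ∃ w : Gp h9, w = SemidirectProduct.inl (Multiplicative.ofAdd (ζ ^ 3 - ζ)) :=
      ⟨_, rfl⟩
    have hwQ : w ∈ Cfsg.pCore 2 (Gp h9) := by
      have h1 : w = SemidirectProduct.inr (aEl h9) *
          (SemidirectProduct.inl (Multiplicative.ofAdd ζ) * (SemidirectProduct.inr (aEl h9))⁻¹ *
            (SemidirectProduct.inl (Multiplicative.ofAdd ζ))⁻¹) := by
        have h2 : (SemidirectProduct.inr (aEl h9) : Gp h9) *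
            (SemidirectProduct.inl (Multiplicative.ofAdd ζ) * (SemidirectProduct.inr (aEl h9))⁻¹ *
            (SemidirectProduct.inl (Multiplicative.ofAdd ζ))⁻¹) =
            (SemidirectProduct.inr (aEl h9) * SemidirectProduct.inl (Multiplicative.ofAdd ζ) *
              SemidirectProduct.inr (aEl h9)⁻¹) * (SemidirectProduct.inl (Multiplicative.ofAdd ζ))⁻¹ := by
          rw [map_inv]; group
        rw [h2, ← SemidirectProduct.inl_aut, ← map_inv, ← map_mul, hw]
        congr 1
        show Multiplicative.ofAdd (ζ ^ 3 - ζ) =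
          mk h9 1 true (Multiplicative.ofAdd ζ) * (Multiplicative.ofAdd ζ)⁻¹
        rw [mk_apply, fr_true, Units.val_one, one_mul, ← ofAdd_neg, ← ofAdd_add, sub_eq_add_neg]
      rw [h1]
      exact (Cfsg.pCore 2 (Gp h9)).mul_mem ht (hQn.conj_mem _ ((Cfsg.pCore 2 (Gp h9)).inv_mem ht) _)
    obtain ⟨k, hk⟩ := hQp ⟨w, hwQ⟩
    have hk' : w ^ 2 ^ k = 1 := by
      have := congrArg Subtype.val hk
      simpa using this
    have hw3 : w ^ 3 = 1 := by
      rw [hw, ← map_pow, ← ofAdd_nsmul]
      have : (3 : ℕ) • (ζ ^ 3 - ζ) = 0 := by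
        rw [nsmul_eq_mul]
        have := three_zero (F := F)
        push_cast
        rw [this, zero_mul]
      rw [this]
      rfl
    have hw1 : w = 1 := by
      have h1 : orderOf w ∣ 2 ^ k := orderOf_dvd_of_pow_eq_one hk'
      have h2 : orderOf w ∣ 3 := orderOf_dvd_of_pow_eq_one hw3
      have h3 : Nat.Coprime (2 ^ k) 3 := Nat.Coprime.pow_left k (by norm_num)
      have h4 := Nat.dvd_gcd h1 h2
      rw [h3] at h4
      exact orderOf_eq_one_iff.mp (Nat.dvd_one.mp h4)
    rw [hw] at hw1
    have h5 : Multiplicative.ofAdd (ζ ^ 3 - ζ) = 1 :=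
      SemidirectProduct.inl_injective (hw1.trans (map_one _).symm)
    have h6 : ζ ^ 3 - ζ = 0 := Multiplicative.ofAdd.injective h5
    exact hζ (sub_eq_zero.mp h6)

end group

/-- There is a finite solvable group G with a subgroup A of order 2 such that every conjugacy class of G contains an element g for which A is subnormal in the subgroup generated by A and g, and yet A is not contained in O_2(G). (So the corresponding criteria for odd primes fail at the prime 2, even for solvable groups.) -/
theorem result :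
    ∃ (G : Type) (_ : Group G) (_ : Finite G) (A : Subgroup G), Group.IsSolvable G ∧ Nat.card A = 2 ∧
      (∀ c : G, ∃ g : G, IsConj c g ∧ (A.subgroupOf (A ⊔ Subgroup.zpowers g)).IsSubnormal) ∧
      ¬ A ≤ Cfsg.pCore 2 G := by
  haveI : Fact (Nat.Prime 3) := ⟨Nat.prime_three⟩
  letI : Fintype (GaloisField 3 2) := Fintype.ofFinite _
  have hcard : Fintype.card (GaloisField 3 2) = 9 := by
    rw [← Nat.card_eq_fintype_card, GaloisField.card 3 2 (by norm_num)]
    norm_num
  have h9 : ∀ x : GaloisField 3 2, x ^ 9 = x := by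
    intro x
    have h1 := FiniteField.pow_card x
    rwa [hcard] at h1
  have hζ : ∃ ζ : GaloisField 3 2, ζ ^ 3 ≠ ζ := by
    by_contra hcon
    push Not at hcon
    obtain ⟨g, hg⟩ := IsCyclic.exists_generator (α := (GaloisField 3 2)ˣ)
    have hord : orderOf g = Nat.card (GaloisField 3 2)ˣ := orderOf_eq_card_of_forall_mem_zpowers hg
    have hcu : Nat.card (GaloisField 3 2)ˣ = 8 := by
      rw [Nat.card_units, Nat.card_eq_fintype_card, hcard]
    have h1 : (g : GaloisField 3 2) ^ 3 = g := hcon g
    have h2 : g ^ 2 = 1 := by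
      apply Units.ext
      rw [Units.val_pow_eq_pow_val, Units.val_one]
      have h3 : (g : GaloisField 3 2) ^ 2 * g = 1 * g := by
        rw [← pow_succ, one_mul]
        exact h1
      exact mul_right_cancel₀ g.ne_zero h3
    have h3 := orderOf_dvd_of_pow_eq_one h2
    rw [hord, hcu] at h3
    have h4 := Nat.le_of_dvd (by norm_num) h3
    omega
  exact main h9 hζ

end Cfsg.Agent.S4331
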