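import Mathlib
import Cfsg.Statements.S4332
import Cfsg.Agent.Lib_helper1_Core

set_option autoImplicit false
set_option linter.style.haveILetI false
open Pointwise
open Cfsg

namespace Cfsg.Agent.S4332

open Equiv

theorem exists_perm3 {α : Type*} [DecidableEq α] [Fintype α] (x y z a b c : α) (hxy : x ≠ y)
    (hxz : x ≠ z) (hyz : y ≠ z) (hab : a ≠ b) (hac : a ≠ c) (hbc : b ≠ c) :
    ∃ h : Perm α, h x = a ∧ h y = b ∧ h z = c := by
  have hu : Function.Injective ![x, y, z] := by
    intro i j hij
    fin_cases i <;> fin_cases j <;> simp_all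
  have hv : Function.Injective ![a, b, c] := by
    intro i j hij
    fin_cases i <;> fin_cases j <;> simp_all
  have := Equiv.Perm.isMultiplyPretransitive α 3
  obtain ⟨g, hg⟩ := MulAction.isMultiplyPretransitive_iff.mp this ⟨![x, y, z], hu⟩ ⟨![a, b, c], hv⟩
  refine ⟨g, ?_, ?_, ?_⟩
  · have := congrArg (fun e => e 0) hg
    simpa using this
  · have := congrArg (fun e => e 1) hg
    simpa using this
  · have := congrArg (fun e => e 2) hg
    simpa using this

/-- The combinatorial core: every permutation of 8 points has a 3-set which is moved off itself,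
fixed pointwise, or cycled. -/
theorem exists_triple (c : Perm (Fin 8)) :
    ∃ x y z : Fin 8, x ≠ y ∧ x ≠ z ∧ y ≠ z ∧
      ((c x ≠ x ∧ c x ≠ y ∧ c x ≠ z ∧ c y ≠ x ∧ c y ≠ y ∧ c y ≠ z ∧ c z ≠ x ∧ c z ≠ y ∧ c z ≠ z) ∨
       (c x = x ∧ c y = y ∧ c z = z) ∨ (c x = y ∧ c y = z ∧ c z = x)) := by
  by_cases hF : 2 < (c.supportᶜ).card
  · obtain ⟨x, y, z, hx, hy, hz, hxy, hxz, hyz⟩ := Finset.two_lt_card_iff.mp hF
    rw [Finset.mem_compl, Equiv.Perm.notMem_support] at hx hy hz
    exact ⟨x, y, z, hxy, hxz, hyz, Or.inr (Or.inl ⟨hx, hy, hz⟩)⟩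
  · have hS : 6 ≤ c.support.card := by
      have := Finset.card_add_card_compl c.support
      rw [Fintype.card_fin] at this
      omega
    by_cases h3 : ∃ x, c x ≠ x ∧ c (c (c x)) = x
    · obtain ⟨x, hx, hx3⟩ := h3
      refine ⟨x, c x, c (c x), fun h => hx h.symm, ?_, ?_, Or.inr (Or.inr ⟨rfl, rfl, hx3⟩)⟩
      · intro h
        apply hx
        have : c (c (c x)) = c x := by rw [← h]
        rw [hx3] at this
        exact this.symm
      · intro h
        exact hx (c.injective h).symm
    · push Not at h3
      by_cases h2 : ∃ x, c x ≠ x ∧ c (c x) ≠ x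
      · obtain ⟨x, hx, hx2⟩ := h2
        have hx3 := h3 x hx
        have hcard : ({c⁻¹ x, x, c x, c (c x), c (c (c x))} : Finset (Fin 8)).card < c.support.card :=
          lt_of_le_of_lt Finset.card_le_five (by omega)
        obtain ⟨w, hwS, hwB⟩ := Finset.exists_mem_notMem_of_card_lt_card hcard
        simp only [Finset.mem_insert, Finset.mem_singleton, not_or] at hwB
        obtain ⟨hw1, hw2, hw3, hw4, hw5⟩ := hwB
        rw [Equiv.Perm.mem_support] at hwS
        refine ⟨x, c (c x), w, fun h => hx2 h.symm, fun h => hw2 h.symm, fun h => hw4 h.symm,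
          Or.inl ⟨hx, ?_, fun h => hw3 h.symm, hx3, ?_, fun h => hw5 h.symm, ?_, ?_, hwS⟩⟩
        · intro h
          exact hx (c.injective h).symm
        · intro h
          exact hx (c.injective (c.injective h))
        · intro h
          apply hw1
          rw [← h]; simp
        · intro h
          exact hw3 (c.injective h)
      · push Not at h2
        -- c is an involution on its support
        have hne : c.support.Nonempty := Finset.card_pos.mp (by omega)
        obtain ⟨x, hxS⟩ := hne
        have hx : c x ≠ x := Equiv.Perm.mem_support.mp hxS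
        have hcard1 : ({x, c x} : Finset (Fin 8)).card < c.support.card :=
          lt_of_le_of_lt Finset.card_le_two (by omega)
        obtain ⟨y, hyS, hyB⟩ := Finset.exists_mem_notMem_of_card_lt_card hcard1
        simp only [Finset.mem_insert, Finset.mem_singleton, not_or] at hyB
        obtain ⟨hy1, hy2⟩ := hyB
        have hy : c y ≠ y := Equiv.Perm.mem_support.mp hyS
        have hcard2 : ({x, c x, y, c y} : Finset (Fin 8)).card < c.support.card :=
          lt_of_le_of_lt Finset.card_le_four (by omega)
        obtain ⟨z, hzS, hzB⟩ := Finset.exists_mem_notMem_of_card_lt_card hcard2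
        simp only [Finset.mem_insert, Finset.mem_singleton, not_or] at hzB
        obtain ⟨hz1, hz2, hz3, hz4⟩ := hzB
        have hz : c z ≠ z := Equiv.Perm.mem_support.mp hzS
        refine ⟨x, y, z, fun h => hy1 h.symm, fun h => hz1 h.symm, fun h => hz3 h.symm,
          Or.inl ⟨hx, fun h => hy2 h.symm, fun h => hz2 h.symm, ?_, hy, fun h => hz4 h.symm,
            ?_, ?_, hz⟩⟩
        · intro h
          apply hy2
          have := h2 y hy
          rw [h] at this
          exact this.symm
        · intro h
          apply hz2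
          have := h2 z hz
          rw [h] at this
          exact this.symm
        · intro h
          apply hz4
          have := h2 z hz
          rw [h] at this
          exact this.symm

/-- Support of a three-cycle. -/
theorem threeCycle_support {σ : Perm (Fin 8)} (hσ : σ.IsThreeCycle) :
    ∃ a : Fin 8, σ a ≠ a ∧ σ (σ a) ≠ a ∧ σ (σ (σ a)) = a ∧
      ∀ w, σ w ≠ w → (w = a ∨ w = σ a ∨ w = σ (σ a)) := by
  have hcard := hσ.card_support
  have hne : σ.support.Nonempty := Finset.card_pos.mp (by omega)
  obtain ⟨a, haS⟩ := hne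
  have ha : σ a ≠ a := Equiv.Perm.mem_support.mp haS
  have h3 : σ (σ (σ a)) = a := by
    have := hσ.orderOf
    have h := pow_orderOf_eq_one σ
    rw [this] at h
    have := congrArg (fun f : Perm (Fin 8) => f a) h
    simpa [pow_succ, Equiv.Perm.mul_apply] using this
  have ha2 : σ (σ a) ≠ a := by
    intro h
    apply ha
    rw [h] at h3
    exact h3
  have hsub : ({a, σ a, σ (σ a)} : Finset (Fin 8)) ⊆ σ.support := by
    intro w hw
    simp only [Finset.mem_insert, Finset.mem_singleton] at hw
    rw [Equiv.Perm.mem_support]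
    rcases hw with rfl | rfl | rfl
    · exact ha
    · exact fun h => ha (σ.injective h)
    · exact fun h => ha (σ.injective (σ.injective h))
  have hc3 : ({a, σ a, σ (σ a)} : Finset (Fin 8)).card = 3 := by
    rw [Finset.card_eq_three]
    exact ⟨a, σ a, σ (σ a), fun h => ha h.symm, fun h => ha2 h.symm,
      fun h => ha (σ.injective h).symm, rfl⟩
  have heq : ({a, σ a, σ (σ a)} : Finset (Fin 8)) = σ.support :=
    Finset.eq_of_subset_of_card_le hsub (by rw [hc3, hcard])
  refine ⟨a, ha, ha2, h3, fun w hw => ?_⟩
  have : w ∈ σ.support := Equiv.Perm.mem_support.mpr hw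
  rw [← heq] at this
  simpa using this

/-- Subnormality from commuting. -/
theorem subnormal_of_commute (σ g : Perm (Fin 8)) (h : Commute (g * σ * g⁻¹) σ) :
    ((Subgroup.zpowers σ).subgroupOf
      (Subgroup.zpowers σ ⊔ MulAut.conj g • Subgroup.zpowers σ)).IsSubnormal := by
  apply Subgroup.Normal.isSubnormal
  rw [Subgroup.normal_subgroupOf_iff_le_normalizer le_sup_left]
  apply sup_le Subgroup.le_normalizer
  intro t ht
  rw [Subgroup.mem_pointwise_smul_iff_inv_smul_mem] at ht
  rw [Subgroup.mem_zpowers_iff] at ht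
  obtain ⟨k, hk⟩ := ht
  have ht' : t = (g * σ * g⁻¹) ^ k := by
    have : t = g * σ ^ k * g⁻¹ := by
      rw [hk]; simp only [MulAut.smul_def, MulAut.inv_apply, MulAut.conj_symm_apply]; group
    rw [this, conj_zpow]
  have hcomm : Commute t σ := by
    rw [ht']; exact h.zpow_left k
  rw [Subgroup.mem_normalizer_iff]
  intro s
  constructor
  · intro hs
    rw [Subgroup.mem_zpowers_iff] at hs
    obtain ⟨j, rfl⟩ := hs
    have : t * σ ^ j * t⁻¹ = σ ^ j := by
      have := (hcomm.zpow_right j).eq
      rw [this, mul_inv_cancel_right]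
    rw [this]
    exact Subgroup.zpow_mem_zpowers σ j
  · intro hs
    rw [Subgroup.mem_zpowers_iff] at hs
    obtain ⟨j, hj⟩ := hs
    have hs' : s = t⁻¹ * σ ^ j * t := by
      rw [hj]; group
    have : t⁻¹ * σ ^ j * t = σ ^ j := by
      have := (hcomm.zpow_right j).eq
      rw [mul_assoc, ← this, inv_mul_cancel_left]
    rw [hs', this]
    exact Subgroup.zpow_mem_zpowers σ j

/-- Each class contains `g` with `g σ g⁻¹` commuting with `σ`. -/
theorem exists_conj_commute {σ : Perm (Fin 8)} (hσ : σ.IsThreeCycle) (c : Perm (Fin 8)) :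
    ∃ g : Perm (Fin 8), IsConj c g ∧ Commute (g * σ * g⁻¹) σ := by
  obtain ⟨a, ha, ha2, ha3, hsupp⟩ := threeCycle_support hσ
  obtain ⟨x, y, z, hxy, hxz, hyz, hcase⟩ := exists_triple c
  have hab : a ≠ σ a := fun h => ha h.symm
  have hac : a ≠ σ (σ a) := fun h => ha2 h.symm
  have hbc : σ a ≠ σ (σ a) := fun h => ha (σ.injective h).symm
  obtain ⟨h, hx, hy, hz⟩ := exists_perm3 x y z a (σ a) (σ (σ a)) hxy hxz hyz hab hac hbc
  refine ⟨h * c * h⁻¹, isConj_iff.mpr ⟨h, rfl⟩, ?_⟩
  set g := h * c * h⁻¹ with hg
  have hgx : g a = h (c x) := by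
    rw [hg, ← hx]; simp
  have hgy : g (σ a) = h (c y) := by
    rw [hg, ← hy]; simp
  have hgz : g (σ (σ a)) = h (c z) := by
    rw [hg, ← hz]; simp
  rcases hcase with hc | hc | hc
  · -- disjoint supports
    obtain ⟨h1, h2, h3, h4, h5, h6, h7, h8, h9⟩ := hc
    have hdis : Equiv.Perm.Disjoint (g * σ * g⁻¹) σ := by
      intro w
      by_cases hw : σ w = w
      · exact Or.inr hw
      · left
        -- w in support of σ; g⁻¹ w is not in the support of σ
        have hgw : σ (g⁻¹ w) = g⁻¹ w := by
          by_contra hne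
          have hw' := hsupp w hw
          have hv' := hsupp (g⁻¹ w) hne
          have hgv : g (g⁻¹ w) = w := by simp
          rcases hv' with hv | hv | hv
          · rw [hv, hgx] at hgv
            rcases hw' with e | e | e
            · rw [e, ← hx] at hgv; exact h1 (h.injective hgv)
            · rw [e, ← hy] at hgv; exact h2 (h.injective hgv)
            · rw [e, ← hz] at hgv; exact h3 (h.injective hgv)
          · rw [hv, hgy] at hgv
            rcases hw' with e | e | e
            · rw [e, ← hx] at hgv; exact h4 (h.injective hgv)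
            · rw [e, ← hy] at hgv; exact h5 (h.injective hgv)
            · rw [e, ← hz] at hgv; exact h6 (h.injective hgv)
          · rw [hv, hgz] at hgv
            rcases hw' with e | e | e
            · rw [e, ← hx] at hgv; exact h7 (h.injective hgv)
            · rw [e, ← hy] at hgv; exact h8 (h.injective hgv)
            · rw [e, ← hz] at hgv; exact h9 (h.injective hgv)
        simp only [Equiv.Perm.mul_apply]
        rw [hgw]; simp
    exact hdis.commute
  · -- g fixes the support pointwise
    obtain ⟨h1, h2, h3⟩ := hc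
    have hdis : Equiv.Perm.Disjoint g σ := by
      intro w
      by_cases hw : σ w = w
      · exact Or.inr hw
      · left
        rcases hsupp w hw with e | e | e
        · rw [e, hgx, h1, hx]
        · rw [e, hgy, h2, hy]
        · rw [e, hgz, h3, hz]
    have hcomm : Commute g σ := hdis.commute
    have : g * σ * g⁻¹ = σ := by rw [hcomm.eq, mul_inv_cancel_right]
    rw [this]
  · -- g agrees with σ on the support
    obtain ⟨h1, h2, h3⟩ := hc
    have hdis : Equiv.Perm.Disjoint (σ⁻¹ * g) σ := by
      intro w
      by_cases hw : σ w = w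
      · exact Or.inr hw
      · left
        simp only [Equiv.Perm.mul_apply]
        rw [Equiv.Perm.inv_eq_iff_eq]
        rcases hsupp w hw with e | e | e
        · rw [e, hgx, h1, hy]
        · rw [e, hgy, h2, hz]
        · rw [e, hgz, h3, hx, ha3]
    have hcomm' : Commute (σ⁻¹ * g) σ := hdis.commute
    have hcomm : Commute g σ := by
      have h1 : Commute (σ * (σ⁻¹ * g)) σ := (Commute.refl σ).mul_left hcomm'
      simpa using h1
    have : g * σ * g⁻¹ = σ := by rw [hcomm.eq, mul_inv_cancel_right]
    rw [this]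

theorem pCore_three_perm8 : Cfsg.pCore 3 (Perm (Fin 8)) = ⊥ := by
  haveI : Fact (Nat.Prime 3) := ⟨by norm_num⟩
  set N := Cfsg.pCore 3 (Perm (Fin 8)) with hN
  have hNn : N.Normal := Cfsg.Agent.helper1.pCore_normal 3
  have hNp : IsPGroup 3 N := Cfsg.Agent.helper1.pCore_isPGroup 3
  -- N ≤ A_8
  have hle : N ≤ alternatingGroup (Fin 8) := by
    intro x hx
    rw [Equiv.Perm.mem_alternatingGroup]
    obtain ⟨k, hk⟩ := hNp ⟨x, hx⟩
    have hk' : x ^ (3 ^ k) = 1 := by
      have := congrArg Subtype.val hk
      simpa using this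
    have hs : (Equiv.Perm.sign x) ^ (3 ^ k) = 1 := by
      rw [← map_pow, hk', map_one]
    rcases Int.units_eq_one_or (Equiv.Perm.sign x) with h1 | h1
    · exact h1
    · exfalso
      rw [h1] at hs
      have hodd : Odd (3 ^ k) := Odd.pow (by decide)
      rw [Odd.neg_one_pow hodd] at hs
      exact absurd hs (by decide)
  haveI : (N.subgroupOf (alternatingGroup (Fin 8))).Normal := hNn.subgroupOf _
  have hcard : 5 ≤ Nat.card (Fin 8) := by simp
  rcases alternatingGroup.normal_subgroup_eq_bot_or_eq_top hcard
      (N := N.subgroupOf (alternatingGroup (Fin 8))) with h1 | h1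
  · rw [Subgroup.subgroupOf_eq_bot] at h1
    rw [disjoint_iff, inf_eq_left.mpr hle] at h1
    exact h1
  · exfalso
    rw [Subgroup.subgroupOf_eq_top] at h1
    -- an element of order two in A_8
    have hmem : (swap (0 : Fin 8) 1 * swap (2 : Fin 8) 3) ∈ alternatingGroup (Fin 8) := by
      rw [Equiv.Perm.mem_alternatingGroup]
      simp
    have hxN := h1 hmem
    obtain ⟨k, hk⟩ := hNp ⟨_, hxN⟩
    have hk' : (swap (0 : Fin 8) 1 * swap (2 : Fin 8) 3) ^ (3 ^ k) = 1 := by
      have := congrArg Subtype.val hk
      simpa using this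
    have h2 : (swap (0 : Fin 8) 1 * swap (2 : Fin 8) 3) ^ 2 = 1 := by decide
    have hodd : Odd (3 ^ k) := Odd.pow (by decide)
    obtain ⟨m, hm⟩ := hodd
    rw [hm, pow_succ, pow_mul, h2, one_pow, one_mul] at hk'
    exact absurd hk' (by decide)

/-- In the symmetric group of degree 8, let A be the subgroup generated by a 3-cycle. Then every conjugacy class contains an element g for which A is subnormal in the subgroup generated by A and its conjugate by g, although O_3 of the symmetric group of degree 8 is trivial. -/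
theorem result
    (σ : Equiv.Perm (Fin 8)) (hσ : σ.IsThreeCycle) :
    (∀ c : Equiv.Perm (Fin 8), ∃ g : Equiv.Perm (Fin 8), IsConj c g ∧
      ((Subgroup.zpowers σ).subgroupOf (Subgroup.zpowers σ ⊔ MulAut.conj g • Subgroup.zpowers σ)).IsSubnormal) ∧
    Cfsg.pCore 3 (Equiv.Perm (Fin 8)) = ⊥ := by
  refine ⟨fun c => ?_, pCore_three_perm8⟩
  obtain ⟨g, hg1, hg2⟩ := exists_conj_commute hσ c
  exact ⟨g, hg1, subnormal_of_commute σ g hg2⟩

end Cfsg.Agent.S4332
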