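import Cfsg.Statements.S4333
import Cfsg.Agent.Lib_lead_Wielandt
import Cfsg.Agent.Lib_lead_SZ

set_option autoImplicit false
open Pointwise
open Cfsg

namespace Cfsg.Agent.S4333

open Cfsg.Agent.helper7 Cfsg.Agent.lead

theorem crit2 {G : Type*} [Group G] [Finite G] (A : Subgroup G) : ∀ (n : ℕ) (K : Subgroup G),
    Nat.card K = n → A ≤ K →
    (∀ a ∈ A, ∀ g ∈ K, SN A (A ⊔ cj (g⁻¹ * a * g) A)) → SN A K := by
  intro n
  induction n using Nat.strong_induction_on with
  | _ n IH =>
    intro K hn hAK hyp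
    by_contra hnot
    have hprop : ∀ H : Subgroup G, A ≤ H → H < K → SN A H := by
      intro H hAH hHK
      have hlt : Nat.card H < n := by
        rw [← hn]
        refine lt_of_le_of_ne (Subgroup.card_le_of_le hHK.le) ?_
        intro h
        exact hHK.ne (Subgroup.eq_of_le_of_card_ge hHK.le h.ge)
      exact IH _ hlt H rfl hAH (fun a ha g hg => hyp a ha g (hHK.le hg))
    obtain ⟨M, hMK, hAM, hMmax⟩ := zipper _ K A rfl hAK hprop hnot
    let X : Set G := {x | ∃ a ∈ A, ∃ g ∈ K, x = g⁻¹ * a * g}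
    have hXK : ∀ x ∈ X, x ∈ K := by
      rintro x ⟨a, ha, g, hg, rfl⟩
      exact K.mul_mem (K.mul_mem (K.inv_mem hg) (hAK ha)) hg
    have hXM : ∀ x ∈ X, x ∈ Subgroup.normalizer (M : Set G) := by
      intro x hx
      obtain ⟨a, ha, g, hg, rfl⟩ := hx
      set x := g⁻¹ * a * g with hxdef
      have hxK : x ∈ K := hXK x ⟨a, ha, g, hg, rfl⟩
      have hcK : cj x K = K := cj_eq_of_mem_normalizer (Subgroup.le_normalizer hxK)
      have hcK' : cj x⁻¹ K = K :=
        cj_eq_of_mem_normalizer (Subgroup.le_normalizer (K.inv_mem hxK))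
      have hle : A ⊔ cj x A ≤ K := sup_le hAK ((cj_mono hAK).trans hcK.le)
      have hlt : A ⊔ cj x A < K := by
        refine lt_of_le_of_ne hle ?_
        intro h
        apply hnot
        have := hyp a ha g hg
        rwa [h] at this
      have h1 : cj x A ≤ M := le_sup_right.trans (hMmax _ le_sup_left hlt)
      have h2 : A ≤ cj x⁻¹ M := by rw [← cj_le_iff]; exact h1
      have h3 : cj x⁻¹ M < K := by
        refine lt_of_le_of_ne ((cj_mono hMK.le).trans hcK'.le) ?_
        intro h
        have h5 : Nat.card M = Nat.card K := by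
          have := card_cj x⁻¹ M
          rw [h] at this
          exact this.symm
        exact hMK.ne (Subgroup.eq_of_le_of_card_ge hMK.le h5.ge)
      have h4 : cj x⁻¹ M ≤ M := hMmax _ h2 h3
      have h5 : cj x⁻¹ M = M := Subgroup.eq_of_le_of_card_ge h4 (by rw [card_cj])
      have h6 := mem_normalizer_of_cj_eq h5
      have h7 := Subgroup.inv_mem _ h6
      rwa [inv_inv] at h7
    set N := Subgroup.closure X with hN
    have hNK : N ≤ K := (Subgroup.closure_le K).mpr hXK
    have hNM : N ≤ Subgroup.normalizer (M : Set G) := (Subgroup.closure_le _).mpr hXM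
    have hAN : A ≤ N := by
      intro a ha
      apply Subgroup.subset_closure
      exact ⟨a, ha, 1, K.one_mem, by group⟩
    have hKN : K ≤ Subgroup.normalizer (N : Set G) := by
      intro k hk
      apply mem_normalizer_of_cj_eq
      apply Subgroup.eq_of_le_of_card_ge _ (by rw [card_cj])
      show N.map (MulAut.conj k).toMonoidHom ≤ N
      rw [hN, MonoidHom.map_closure, Subgroup.closure_le]
      rintro _ ⟨x, ⟨a, ha, g, hg, rfl⟩, rfl⟩
      apply Subgroup.subset_closure
      refine ⟨a, ha, g * k⁻¹, K.mul_mem hg (K.inv_mem hk), ?_⟩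
      simp only [MulEquiv.coe_toMonoidHom, MulAut.conj_apply]
      group
    by_cases hNeq : N = K
    · have hKM : K ≤ Subgroup.normalizer (M : Set G) := by rw [← hNeq]; exact hNM
      exact hnot ((hprop M hAM hMK).trans (SN.of_normal hMK.le hKM))
    · have hNlt : N < K := lt_of_le_of_ne hNK hNeq
      exact hnot ((hprop N hAN hNlt).trans (SN.of_normal hNK hKN))

theorem result {G : Type*} [Group G] [Finite G]
    (A : Subgroup G)
    (h : ∀ a ∈ A, ∀ g : G, (A.subgroupOf (A ⊔ MulAut.conj (g⁻¹ * a * g) • A)).IsSubnormal) :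
    A.IsSubnormal := by
  rw [← sn_top_iff]
  apply crit2 A _ ⊤ rfl le_top
  intro a ha g _
  rw [sn_iff]
  refine ⟨le_sup_left, ?_⟩
  have := h a ha g
  rwa [smul_eq_cj] at this

end Cfsg.Agent.S4333
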