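import Mathlib
import Cfsg.Statements.S4334
import Cfsg.Agent.S0581
import Cfsg.Agent.S0071
import Cfsg.Agent.S0086
import Cfsg.Agent.Lib_helper14_PMin

set_option autoImplicit false
set_option linter.style.haveILetI false
open Pointwise
open Cfsg

namespace Cfsg.Agent.S4334

variable {G : Type*} [Group G]

theorem centralizes_of_coprime_index [Finite G] (U : Subgroup G) (g : G)
    (hg : ∀ h ∈ U, g * h * g⁻¹ ∈ U)
    (hcop : (orderOf g).Coprime (Subgroup.centralizer (U : Set G)).index) :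
    g ∈ Subgroup.centralizer (U : Set G) := by
  set C := Subgroup.centralizer (U : Set G) with hC
  have hgN : g ∈ Subgroup.normalizer (U : Set G) :=
    Subgroup.mem_normalizer_fintype (S := (U : Set G)) (fun n hn => hg n hn)
  have hgC : g ∈ Subgroup.normalizer (C : Set G) := by
    apply Subgroup.mem_normalizer_fintype (S := (C : Set G))
    intro c hc
    have hc' : c ∈ Subgroup.centralizer (U : Set G) := hc
    show g * c * g⁻¹ ∈ Subgroup.centralizer (U : Set G)
    rw [Subgroup.mem_centralizer_iff] at hc' ⊢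
    intro h hh
    have hh' : g⁻¹ * h * g ∈ (U : Set G) := (Subgroup.mem_normalizer_iff''.mp hgN h).mp hh
    have key := hc' _ hh'
    have e1 : h * (g * c * g⁻¹) = g * ((g⁻¹ * h * g) * c) * g⁻¹ := by group
    have e2 : (g * c * g⁻¹) * h = g * (c * (g⁻¹ * h * g)) * g⁻¹ := by group
    rw [e1, e2, key]
  have hZ : Subgroup.zpowers g ≤ Subgroup.normalizer (C : Set G) :=
    Subgroup.zpowers_le.mpr hgC
  have h1 := helper14.relIndex_sup_of_le_normalizer C (Subgroup.zpowers g) hZ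
  have h2 : (C ⊓ Subgroup.zpowers g).relIndex (Subgroup.zpowers g) ∣ orderOf g := by
    rw [← Nat.card_zpowers]; exact Subgroup.relIndex_dvd_card _ _
  have h3 : C.relIndex (C ⊔ Subgroup.zpowers g) ∣ C.index :=
    Subgroup.relIndex_dvd_index_of_le le_sup_left
  have h4 : C.relIndex (C ⊔ Subgroup.zpowers g) = 1 :=
    Nat.Coprime.eq_one_of_dvd (Nat.Coprime.coprime_dvd_left (h1 ▸ h2) hcop) h3
  have h5 : C ⊔ Subgroup.zpowers g ≤ C := Subgroup.relIndex_eq_one.mp h4
  exact h5 (Subgroup.mem_sup_right (Subgroup.mem_zpowers g))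

structure Setup (σ τ : Set ℕ) (Hs Ht : Subgroup G) : Prop where
  nil : Group.IsNilpotent Hs
  hs : ∀ r : ℕ, r.Prime → r ∣ Nat.card Hs → r ∈ σ
  is : ∀ r : ℕ, r.Prime → r ∈ σ → ¬ r ∣ Hs.index
  it : ∀ r : ℕ, r.Prime → r ∈ τ → ¬ r ∣ Ht.index
  comm : ∀ a ∈ Hs, ∀ b ∈ Ht, a * b = b * a

theorem index_conj_smul (x : G) (K : Subgroup G) : (MulAut.conj x • K).index = K.index := by
  rw [Subgroup.pointwise_smul_def]
  exact Subgroup.index_map_of_bijective (MulAction.bijective (MulAut.conj x)) K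

theorem card_conj_smul (x : G) (K : Subgroup G) : Nat.card ↥(MulAut.conj x • K) = Nat.card K :=
  (Nat.card_congr (Subgroup.equivSMul (MulAut.conj x) K).toEquiv).symm

theorem mem_conj_smul {x g : G} {K : Subgroup G} : g ∈ MulAut.conj x • K ↔ x⁻¹ * g * x ∈ K := by
  rw [Subgroup.mem_pointwise_smul_iff_inv_smul_mem]
  simp [MulAut.smul_def]

theorem Setup.conj {σ τ : Set ℕ} {Hs Ht : Subgroup G} (h : Setup σ τ Hs Ht) (x : G) :
    Setup σ τ (MulAut.conj x • Hs) (MulAut.conj x • Ht) where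
  nil := by
    haveI := h.nil
    exact Group.nilpotent_of_mulEquiv (Subgroup.equivSMul (MulAut.conj x) Hs)
  hs := by
    intro r hr hdvd
    rw [card_conj_smul] at hdvd
    exact h.hs r hr hdvd
  is := by
    intro r hr hrσ
    rw [index_conj_smul]
    exact h.is r hr hrσ
  it := by
    intro r hr hrτ
    rw [index_conj_smul]
    exact h.it r hr hrτ
  comm := by
    intro a ha b hb
    rw [mem_conj_smul] at ha hb
    have := h.comm _ ha _ hb
    have e1 : a * b = x * ((x⁻¹ * a * x) * (x⁻¹ * b * x)) * x⁻¹ := by group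
    have e2 : b * a = x * ((x⁻¹ * b * x) * (x⁻¹ * a * x)) * x⁻¹ := by group
    rw [e1, e2, this]

theorem Setup.coprime [Finite G] {σ τ : Set ℕ} {Hs Ht : Subgroup G} (h : Setup σ τ Hs Ht) :
    (Nat.card Hs).Coprime Hs.index :=
  Nat.coprime_of_dvd fun r hr h1 h2 => h.is r hr (h.hs r hr h1) h2

theorem Setup.dvd_card [Finite G] {σ τ : Set ℕ} {Hs Ht : Subgroup G} (h : Setup σ τ Hs Ht)
    (r : ℕ) (hr : r.Prime) (hrσ : r ∈ σ) (hrG : r ∣ Nat.card G) : r ∣ Nat.card Hs := by
  rw [← Subgroup.card_mul_index Hs] at hrG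
  rcases hr.dvd_mul.mp hrG with h1 | h1
  · exact h1
  · exact absurd h1 (h.is r hr hrσ)

/-- Index of the centraliser of a `p`-subgroup of `Hs` is prime to all other primes of `σ ∪ τ`. -/
theorem Setup.not_dvd_index_centralizer [Finite G] {σ τ : Set ℕ} {Hs Ht : Subgroup G}
    (hS : Setup σ τ Hs Ht) {p : ℕ} [Fact p.Prime] (Q : Subgroup G) (hQle : Q ≤ Hs)
    (hQ : IsPGroup p Q) (r : ℕ) (hr : r.Prime) (hrπ : r ∈ σ ∪ τ) (hrp : r ≠ p) :
    ¬ r ∣ (Subgroup.centralizer (Q : Set G)).index := by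
  rcases hrπ with hrσ | hrτ
  · haveI := hS.nil
    haveI : Fact r.Prime := ⟨hr⟩
    obtain ⟨R⟩ := (inferInstance : Nonempty (Sylow r Hs))
    obtain ⟨P, hP⟩ := (hQ.comap_subtype (K := Hs)).exists_le_sylow
    have hdis : Disjoint (R : Subgroup Hs) (P : Subgroup Hs) :=
      IsPGroup.disjoint_of_ne r p hrp _ _ R.2 P.2
    have hle : (R : Subgroup Hs).map Hs.subtype ≤ Subgroup.centralizer (Q : Set G) := by
      rintro _ ⟨u, hu, rfl⟩
      rw [Subgroup.mem_centralizer_iff]
      intro h hh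
      have hhs : h ∈ Hs := hQle hh
      have hhP : (⟨h, hhs⟩ : Hs) ∈ (P : Subgroup Hs) := hP (by
        show (⟨h, hhs⟩ : Hs) ∈ Q.subgroupOf Hs
        rw [Subgroup.mem_subgroupOf]; exact hh)
      have hc := Subgroup.commute_of_normal_of_disjoint (R : Subgroup Hs) (P : Subgroup Hs)
        inferInstance inferInstance hdis u ⟨h, hhs⟩ hu hhP
      have := congrArg Subtype.val hc.eq
      simpa using this.symm
    have h1 := Subgroup.index_dvd_of_le hle
    rw [Subgroup.index_map_subtype] at h1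
    intro h2
    rcases hr.dvd_mul.mp (h2.trans h1) with h3 | h3
    · exact R.not_dvd_index h3
    · exact hS.is r hr hrσ h3
  · have hle : Ht ≤ Subgroup.centralizer (Q : Set G) := by
      intro b hb
      rw [Subgroup.mem_centralizer_iff]
      intro h hh
      exact hS.comm h (hQle hh) b hb
    intro h2
    exact hS.it r hr hrτ (h2.trans (Subgroup.index_dvd_of_le hle))

/-- Lemma Y. -/
theorem Setup.centralizes_pgroup [Finite G] {σ τ : Set ℕ} {Hs Ht : Subgroup G}
    (hS : Setup σ τ Hs Ht) {p : ℕ} [Fact p.Prime] (hpσ : p ∈ σ) (Q : Subgroup G)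
    (hQ : IsPGroup p Q) (g : G) (hg : ∀ h ∈ Q, g * h * g⁻¹ ∈ Q)
    (hgo : ∀ r : ℕ, r.Prime → r ∣ orderOf g → r ∈ σ ∪ τ ∧ r ≠ p) :
    g ∈ Subgroup.centralizer (Q : Set G) := by
  have hK : ∀ r : ℕ, r.Prime → r ∣ Nat.card Q → r ∣ Nat.card Hs := by
    intro r hr hrQ
    obtain ⟨n, hn⟩ := IsPGroup.iff_card.mp hQ
    have hrp : r = p := by
      rw [hn] at hrQ
      exact (Nat.prime_dvd_prime_iff_eq hr Fact.out).mp (hr.dvd_of_dvd_pow hrQ)
    subst hrp
    exact hS.dvd_card r hr hpσ (hrQ.trans (Subgroup.card_subgroup_dvd_card Q))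
  obtain ⟨x, hx⟩ := Cfsg.Agent.S0581.result Hs Q hS.nil hS.coprime hK
  have hS' := hS.conj x
  apply centralizes_of_coprime_index Q g hg
  apply Nat.coprime_of_dvd
  intro r hr h1
  obtain ⟨h2, h3⟩ := hgo r hr h1
  exact hS'.not_dvd_index_centralizer Q hx hQ r hr h2 h3

/-- Lemma X0. -/
theorem Setup.centralizes_tau [Finite G] {σ τ : Set ℕ} {Hs Ht : Subgroup G}
    (hS : Setup σ τ Hs Ht) (T : Subgroup G) (hT : T ≤ Ht) (g : G)
    (hg : ∀ h ∈ T, g * h * g⁻¹ ∈ T)
    (hgo : ∀ r : ℕ, r.Prime → r ∣ orderOf g → r ∈ σ) :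
    g ∈ Subgroup.centralizer (T : Set G) := by
  have hle : Hs ≤ Subgroup.centralizer (T : Set G) := by
    intro a ha
    rw [Subgroup.mem_centralizer_iff]
    intro h hh
    exact (hS.comm a ha h (hT hh)).symm
  apply centralizes_of_coprime_index T g hg
  apply Nat.coprime_of_dvd
  intro r hr h1 h2
  exact hS.is r hr (hgo r hr h1) (h2.trans (Subgroup.index_dvd_of_le hle))

/-- From `D_τ`: every `τ`-subgroup lies in a conjugate of `Ht`. -/
theorem Setup.exists_conj_tau [Finite G] {σ τ : Set ℕ} {Hs Ht : Subgroup G}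
    (hS : Setup σ τ Hs Ht) (ht : Cfsg.IsPiSubgroup τ Ht) (hD : Cfsg.IsDPiGroup τ G)
    (T : Subgroup G) (hT : Cfsg.IsPiSubgroup τ T) :
    ∃ y : G, T ≤ MulAut.conj y • Ht := by
  have hmax : Maximal (Cfsg.IsPiSubgroup τ) Ht := by
    refine ⟨ht, fun T' hT' hle => ?_⟩
    rw [← Subgroup.relIndex_eq_one]
    rw [Nat.eq_one_iff_not_exists_prime_dvd]
    intro r hr hdvd
    have h1 : r ∈ τ := hT' r hr (hdvd.trans (Subgroup.relIndex_dvd_card _ _))
    exact hS.it r hr h1 (hdvd.trans (Subgroup.relIndex_dvd_index_of_le hle))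
  obtain ⟨T', hle, hT'⟩ := Finite.exists_le_maximal (p := Cfsg.IsPiSubgroup τ) hT
  obtain ⟨g, hg⟩ := hD Ht T' hmax hT'
  refine ⟨g, ?_⟩
  rw [hg] at hle
  exact hle

/-- Structure of a `π`-subgroup. -/
theorem Setup.structure_pi [Finite G] {σ τ : Set ℕ} {Hs Ht : Subgroup G}
    (hS : Setup σ τ Hs Ht) (hd : Disjoint σ τ) (K : Subgroup G)
    (hK : ∀ r : ℕ, r.Prime → r ∣ Nat.card K → r ∈ σ ∪ τ) :
    ∃ T S : Subgroup G, Cfsg.IsPiSubgroup τ T ∧ Cfsg.IsPiSubgroup σ S ∧ K ≤ T ⊔ S ∧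
      ∀ s ∈ S, ∀ t ∈ T, s * t * s⁻¹ ∈ T := by
  have hdis : ∀ r : ℕ, r ∈ σ → r ∈ τ → False := fun r h1 h2 =>
    Set.disjoint_left.mp hd h1 h2
  -- normal p-complements for p ∈ σ
  have hN : ∀ p : ℕ, p.Prime → p ∈ σ → ∃ N : Subgroup K, N.Normal ∧
      ∀ x : K, x ∈ N ↔ (orderOf x).Coprime p := by
    intro p hp hpσ
    haveI : Fact p.Prime := ⟨hp⟩
    obtain ⟨P⟩ := (inferInstance : Nonempty (Sylow p K))
    have hcrit : ∀ Q : Subgroup K, Q ≤ (P : Subgroup K) →
        ∀ g ∈ Subgroup.normalizer (Q : Set K), Nat.Coprime (orderOf g) p →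
        g ∈ Subgroup.centralizer (Q : Set K) := by
      intro Q hQP g hgN hgo
      have hQ' : IsPGroup p (Q.map K.subtype) := (P.2.to_le hQP).map _
      have hmem : (g : G) ∈ Subgroup.centralizer ((Q.map K.subtype : Subgroup G) : Set G) := by
        apply hS.centralizes_pgroup hpσ (Q.map K.subtype) hQ' (g : G)
        · rintro _ ⟨h, hh, rfl⟩
          exact ⟨g * h * g⁻¹, (Subgroup.mem_normalizer_iff.mp hgN h).mp hh, by simp⟩
        · intro r hr hdvd
          rw [Subgroup.orderOf_coe] at hdvd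
          refine ⟨hK r hr (hdvd.trans (orderOf_dvd_natCard g)), ?_⟩
          rintro rfl
          have := Nat.Coprime.eq_one_of_dvd (hgo.symm.coprime_dvd_right hdvd) dvd_rfl
          exact hr.one_lt.ne' this
      rw [Subgroup.mem_centralizer_iff] at hmem ⊢
      intro h hh
      have := hmem (h : G) ⟨h, hh, rfl⟩
      exact Subtype.ext this
    obtain ⟨N, hNn, hNc⟩ := (Cfsg.Agent.S0071.result P).mpr hcrit
    haveI := hNn
    exact ⟨N, hNn, fun x => Cfsg.Agent.S0086.result P N hNc x⟩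
  -- the τ-part
  obtain ⟨T₀, hT₀⟩ : ∃ T₀ : Subgroup K, ∀ x : K, x ∈ T₀ ↔
      ∀ p : ℕ, p.Prime → p ∈ σ → (orderOf x).Coprime p := by
    refine ⟨{ carrier := {x | ∀ p : ℕ, p.Prime → p ∈ σ → (orderOf x).Coprime p}
              mul_mem' := ?_
              one_mem' := ?_
              inv_mem' := ?_ }, fun x => Iff.rfl⟩
    · intro a b ha hb p hp hpσ
      obtain ⟨N, _, hNc⟩ := hN p hp hpσ
      exact (hNc _).mp (N.mul_mem ((hNc a).mpr (ha p hp hpσ)) ((hNc b).mpr (hb p hp hpσ)))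
    · intro p hp hpσ
      simp
    · intro a ha p hp hpσ
      show (orderOf a⁻¹).Coprime p
      rw [orderOf_inv]
      exact ha p hp hpσ
  have hT₀n : T₀.Normal := by
    constructor
    intro t ht g
    rw [hT₀] at ht ⊢
    intro p hp hpσ
    obtain ⟨N, hNn, hNc⟩ := hN p hp hpσ
    exact (hNc _).mp (hNn.conj_mem t ((hNc t).mpr (ht p hp hpσ)) g)
  have hT₀τ : ∀ r : ℕ, r.Prime → r ∣ Nat.card T₀ → r ∈ τ := by
    intro r hr hdvd
    haveI : Fact r.Prime := ⟨hr⟩
    obtain ⟨x, hx⟩ := exists_prime_orderOf_dvd_card' r hdvd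
    have hxT : (x : K) ∈ T₀ := x.2
    have hrK : r ∣ Nat.card K := hdvd.trans (Subgroup.card_subgroup_dvd_card T₀)
    rcases hK r hr hrK with h1 | h1
    · exfalso
      have := (hT₀ _).mp hxT r hr h1
      rw [Subgroup.orderOf_coe, hx] at this
      exact hr.one_lt.ne' ((Nat.coprime_self r).mp this)
    · exact h1
  have hT₀σ : ∀ r : ℕ, r.Prime → r ∣ T₀.index → r ∈ σ := by
    intro r hr hdvd
    have hrK : r ∣ Nat.card K := hdvd.trans (Subgroup.index_dvd_card T₀)
    rcases hK r hr hrK with h1 | h1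
    · exact h1
    · exfalso
      haveI : Fact r.Prime := ⟨hr⟩
      obtain ⟨R⟩ := (inferInstance : Nonempty (Sylow r K))
      have hle : (R : Subgroup K) ≤ T₀ := by
        intro x hx
        rw [hT₀]
        intro p hp hpσ
        obtain ⟨k, hk⟩ := (IsPGroup.iff_orderOf.mp R.2) ⟨x, hx⟩
        rw [Subgroup.orderOf_mk] at hk
        rw [hk]
        apply Nat.Coprime.pow_left
        rw [Nat.coprime_primes hr hp]
        rintro rfl
        exact hdis r hpσ h1
      exact R.not_dvd_index (hdvd.trans (Subgroup.index_dvd_of_le hle))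
  have hcop : (Nat.card T₀).Coprime T₀.index :=
    Nat.coprime_of_dvd fun r hr h1 h2 => hdis r (hT₀σ r hr h2) (hT₀τ r hr h1)
  haveI := hT₀n
  obtain ⟨S₀, hS₀⟩ := Subgroup.exists_right_complement'_of_coprime hcop
  have hcardS : Nat.card S₀ = T₀.index := hS₀.symm.index_eq_card.symm
  refine ⟨T₀.map K.subtype, S₀.map K.subtype, ?_, ?_, ?_, ?_⟩
  · intro r hr hdvd
    rw [Subgroup.card_subtype] at hdvd
    exact hT₀τ r hr hdvd
  · intro r hr hdvd
    rw [Subgroup.card_subtype, hcardS] at hdvd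
    exact hT₀σ r hr hdvd
  · rw [← Subgroup.map_sup, hS₀.sup_eq_top, ← MonoidHom.range_eq_map, Subgroup.range_subtype]
  · rintro _ ⟨s, _, rfl⟩ _ ⟨t, ht, rfl⟩
    exact ⟨s * t * s⁻¹, hT₀n.conj_mem t ht s, by simp⟩

/-- Every `π`-subgroup lies in a conjugate of `Hs ⊔ Ht`. -/
theorem Setup.exists_conj [Finite G] {σ τ : Set ℕ} {Hs Ht : Subgroup G}
    (hS : Setup σ τ Hs Ht) (hd : Disjoint σ τ) (ht : Cfsg.IsPiSubgroup τ Ht)
    (hD : Cfsg.IsDPiGroup τ G) (K : Subgroup G)
    (hK : ∀ r : ℕ, r.Prime → r ∣ Nat.card K → r ∈ σ ∪ τ) :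
    ∃ x : G, K ≤ MulAut.conj x • (Hs ⊔ Ht) := by
  obtain ⟨T, S, hTτ, hSσ, hKle, hnorm⟩ := hS.structure_pi hd K hK
  obtain ⟨y, hy⟩ := hS.exists_conj_tau ht hD T hTτ
  have hS' := hS.conj y
  set Hs' := MulAut.conj y • Hs with hHs'
  set Ht' := MulAut.conj y • Ht with hHt'
  set C := Subgroup.centralizer (T : Set G) with hC
  have hSC : S ≤ C := by
    intro s hs
    apply hS'.centralizes_tau T hy s (hnorm s hs)
    intro r hr hdvd
    exact hSσ r hr (hdvd.trans (Subgroup.orderOf_dvd_natCard S hs))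
  have hHsC : Hs' ≤ C := by
    intro a ha
    rw [hC, Subgroup.mem_centralizer_iff]
    intro h hh
    exact (hS'.comm a ha h (hy hh)).symm
  -- Wielandt inside C
  have hnil : Group.IsNilpotent (Hs'.subgroupOf C) := by
    haveI := hS'.nil
    exact Group.nilpotent_of_mulEquiv (Subgroup.subgroupOfEquivOfLe hHsC).symm
  have hcardA : Nat.card (Hs'.subgroupOf C) = Nat.card Hs' :=
    Nat.card_congr (Subgroup.subgroupOfEquivOfLe hHsC).toEquiv
  have hcardB : Nat.card (S.subgroupOf C) = Nat.card S :=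
    Nat.card_congr (Subgroup.subgroupOfEquivOfLe hSC).toEquiv
  have hidx : (Hs'.subgroupOf C).index ∣ Hs'.index :=
    Subgroup.relIndex_dvd_index_of_le hHsC
  have hcop : (Nat.card (Hs'.subgroupOf C)).Coprime (Hs'.subgroupOf C).index := by
    rw [hcardA]
    exact Nat.Coprime.coprime_dvd_right hidx hS'.coprime
  have hKB : ∀ p : ℕ, p.Prime → p ∣ Nat.card (S.subgroupOf C) →
      p ∣ Nat.card (Hs'.subgroupOf C) := by
    intro p hp hdvd
    rw [hcardB] at hdvd
    rw [hcardA]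
    exact hS'.dvd_card p hp (hSσ p hp hdvd) (hdvd.trans (Subgroup.card_subgroup_dvd_card S))
  obtain ⟨c, hc⟩ := Cfsg.Agent.S0581.result (Hs'.subgroupOf C) (S.subgroupOf C) hnil hcop hKB
  refine ⟨(c : G) * y, ?_⟩
  have hcT : (c : G) ∈ Subgroup.centralizer (T : Set G) := c.2
  rw [Subgroup.mem_centralizer_iff] at hcT
  have hST : T ⊔ S ≤ MulAut.conj ((c : G) * y) • (Hs ⊔ Ht) := by
    rw [map_mul, mul_smul, Subgroup.smul_sup, Subgroup.smul_sup]
    apply sup_le
    · -- T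
      refine le_trans ?_ le_sup_right
      intro t htT
      rw [mem_conj_smul]
      have h1 := hcT t htT
      have h2 : (c : G)⁻¹ * t * c = t := by
        rw [mul_assoc, h1, ← mul_assoc, inv_mul_cancel, one_mul]
      rw [h2]
      exact hy htT
    · -- S
      refine le_trans ?_ le_sup_left
      intro s hsS
      rw [mem_conj_smul]
      have h1 : (⟨s, hSC hsS⟩ : C) ∈ S.subgroupOf C := by
        rw [Subgroup.mem_subgroupOf]; exact hsS
      have h2 := hc h1
      rw [mem_conj_smul, Subgroup.mem_subgroupOf] at h2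
      simpa using h2
  exact hKle.trans hST

theorem le_normalizer_of_comm {A B : Subgroup G} [Finite G]
    (hcomm : ∀ a ∈ A, ∀ b ∈ B, a * b = b * a) : B ≤ Subgroup.normalizer (A : Set G) := by
  intro b hb
  apply Subgroup.mem_normalizer_fintype (S := (A : Set G))
  intro a ha
  have := hcomm a ha b hb
  have e : b * a * b⁻¹ = a := by rw [← this, mul_assoc, mul_inv_cancel, mul_one]
  rw [e]; exact ha

/-- Let σ and τ be disjoint sets of primes with union π. Suppose a finite group G has a Hall π-subgroup H which is the direct product of a nilpotent σ-subgroup and a τ-subgroup (two elementwise-commuting subgroups generating H), and that the maximal τ-subgroups of G are pairwise conjugate. Then the maximal π-subgroups of G are pairwise conjugate. -/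
theorem result {G : Type*} [Group G] [Finite G]
    (σ τ π : Set ℕ) (hπ : π = σ ∪ τ) (hd : Disjoint σ τ) (H Hs Ht : Subgroup G) (hH : Cfsg.IsPiHall π H)
    (hs : Cfsg.IsPiSubgroup σ Hs) (ht : Cfsg.IsPiSubgroup τ Ht) (hsn : Group.IsNilpotent Hs)
    (hjoin : Hs ⊔ Ht = H) (hcomm : ∀ a ∈ Hs, ∀ b ∈ Ht, a * b = b * a) (hD : Cfsg.IsDPiGroup τ G) :
    Cfsg.IsDPiGroup π G := by
  subst hπ
  have hdis : ∀ r : ℕ, r ∈ σ → r ∈ τ → False := fun r h1 h2 =>
    Set.disjoint_left.mp hd h1 h2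
  have hHsH : Hs ≤ H := hjoin ▸ le_sup_left
  have hHtH : Ht ≤ H := hjoin ▸ le_sup_right
  have hS : Setup σ τ Hs Ht := by
    refine ⟨hsn, hs, ?_, ?_, hcomm⟩
    · intro r hr hrσ hdvd
      rw [← Subgroup.relIndex_mul_index hHsH] at hdvd
      rcases hr.dvd_mul.mp hdvd with h1 | h1
      · have h2 := helper14.relIndex_sup_of_le_normalizer Hs Ht (le_normalizer_of_comm hcomm)
        rw [hjoin] at h2
        rw [h2] at h1
        exact hdis r hrσ (ht r hr (h1.trans (Subgroup.relIndex_dvd_card _ _)))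
      · exact hH.2 r hr (Or.inl hrσ) h1
    · intro r hr hrτ hdvd
      rw [← Subgroup.relIndex_mul_index hHtH] at hdvd
      rcases hr.dvd_mul.mp hdvd with h1 | h1
      · have h2 := helper14.relIndex_sup_of_le_normalizer Ht Hs
          (le_normalizer_of_comm (fun b hb a ha => (hcomm a ha b hb).symm))
        rw [sup_comm, hjoin] at h2
        rw [h2] at h1
        exact hdis r (hs r hr (h1.trans (Subgroup.relIndex_dvd_card _ _))) hrτ
      · exact hH.2 r hr (Or.inr hrτ) h1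
  -- every maximal π-subgroup is a conjugate of H
  have hmaxconj : ∀ M : Subgroup G, Maximal (Cfsg.IsPiSubgroup (σ ∪ τ)) M →
      ∃ x : G, M = MulAut.conj x • H := by
    intro M hM
    obtain ⟨x, hx⟩ := hS.exists_conj hd ht hD M hM.1
    rw [hjoin] at hx
    refine ⟨x, le_antisymm hx (hM.2 ?_ hx)⟩
    intro r hr hdvd
    rw [card_conj_smul] at hdvd
    exact hH.1 r hr hdvd
  intro M1 M2 h1 h2
  obtain ⟨x1, rfl⟩ := hmaxconj M1 h1
  obtain ⟨x2, rfl⟩ := hmaxconj M2 h2
  refine ⟨x2 * x1⁻¹, ?_⟩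
  show MulAut.conj x2 • H = MulAut.conj (x2 * x1⁻¹) • (MulAut.conj x1 • H)
  rw [← mul_smul, ← map_mul, inv_mul_cancel_right]

end Cfsg.Agent.S4334
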