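import Mathlib
import Cfsg.Statements.S4337

set_option autoImplicit false
open Cfsg

namespace Cfsg.Agent.S4337

open Equiv
open scoped commutatorElement

def V4 : Subgroup (Perm (Fin 4)) where
  carrier := {σ | σ * σ = 1 ∧ Perm.sign σ = 1}
  one_mem' := by decide
  mul_mem' := by
    intro a b ha hb
    revert a b
    decide +kernel
  inv_mem' := by
    intro a ha
    revert a
    decide +kernel

theorem comm_le_V4 : ∀ g h : Perm (Fin 4), Perm.sign g = 1 → Perm.sign h = 1 →
    (g * h * g⁻¹ * h⁻¹) * (g * h * g⁻¹ * h⁻¹) = 1 ∧ Perm.sign (g * h * g⁻¹ * h⁻¹) = 1 := by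
  decide +kernel

theorem V4_comm : ∀ g h : Perm (Fin 4), (g * g = 1 ∧ Perm.sign g = 1) →
    (h * h = 1 ∧ Perm.sign h = 1) → g * h * g⁻¹ * h⁻¹ = 1 := by
  decide +kernel

theorem solvable_S4 : Group.IsSolvable (Perm (Fin 4)) := by
  rw [Group.isSolvable_def]
  refine ⟨3, ?_⟩
  have h1 : derivedSeries (Perm (Fin 4)) 1 ≤ (Perm.sign : Perm (Fin 4) →* ℤˣ).ker := by
    rw [derivedSeries_succ, derivedSeries_zero, Subgroup.commutator_le]
    intro g _ h _
    rw [MonoidHom.mem_ker, commutatorElement_def, map_mul, map_mul, map_mul, map_inv, map_inv,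
      mul_right_comm (Perm.sign g) (Perm.sign h) (Perm.sign g)⁻¹, mul_inv_cancel, one_mul,
      mul_inv_cancel]
  have h2 : derivedSeries (Perm (Fin 4)) 2 ≤ V4 := by
    rw [derivedSeries_succ]
    refine (Subgroup.commutator_mono h1 h1).trans ?_
    rw [Subgroup.commutator_le]
    intro g hg h hh
    rw [MonoidHom.mem_ker] at hg hh
    rw [commutatorElement_def]
    exact comm_le_V4 g h hg hh
  have h3 : derivedSeries (Perm (Fin 4)) 3 ≤ ⊥ := by
    rw [derivedSeries_succ]
    refine (Subgroup.commutator_mono h2 h2).trans ?_
    rw [Subgroup.commutator_le]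
    intro g hg h hh
    rw [Subgroup.mem_bot, commutatorElement_def]
    exact V4_comm g h hg hh
  exact le_bot_iff.mp h3

theorem solvable_of_small_support {n : ℕ} (T : Finset (Fin n)) (hT : T.card ≤ 4)
    (S : Set (Perm (Fin n))) (hS : ∀ g ∈ S, ∀ x, x ∉ T → g x = x) :
    Group.IsSolvable (Subgroup.closure S) := by
  classical
  have hcard : Fintype.card {x // x ∈ T} ≤ Fintype.card (Fin 4) := by
    rw [Fintype.card_coe, Fintype.card_fin]; exact hT
  obtain ⟨e⟩ := Function.Embedding.nonempty_of_card_le hcard
  have hS4 := solvable_S4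
  have hsolvT : Group.IsSolvable (Perm {x // x ∈ T}) :=
    Group.isSolvable_of_isSolvable_injective (Equiv.Perm.viaEmbeddingHom_injective e)
  have hle : Subgroup.closure S ≤
      (Equiv.Perm.ofSubtype : Perm {x // x ∈ T} →* Perm (Fin n)).range := by
    rw [Subgroup.closure_le]
    intro g hg
    have h1 : ∀ x, (g x ∈ T) ↔ x ∈ T := by
      intro x
      constructor
      · intro hgx
        by_contra hx
        rw [hS g hg x hx] at hgx
        exact hx hgx
      · intro hx
        by_contra hgx
        have := hS g hg (g x) hgx
        exact hgx (by rw [g.injective this]; exact hx)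
    refine ⟨g.subtypePerm h1, ?_⟩
    apply Equiv.Perm.ofSubtype_subtypePerm h1
    intro x hx
    by_contra hxT
    exact hx (hS g hg x hxT)
  have hsolvR : Group.IsSolvable
      (Equiv.Perm.ofSubtype : Perm {x // x ∈ T} →* Perm (Fin n)).range :=
    Group.isSolvable_of_surjective
      (f := (Equiv.Perm.ofSubtype : Perm {x // x ∈ T} →* Perm (Fin n)).rangeRestrict)
      (MonoidHom.rangeRestrict_surjective _)
  exact Group.isSolvable_of_isSolvable_injective (Subgroup.inclusion_injective hle)

theorem solvable_insert_central {G : Type*} [Group G] (S : Set G) (z : G)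
    (hz : ∀ g ∈ S, z * g = g * z)
    (hS : Group.IsSolvable (Subgroup.closure S)) :
    Group.IsSolvable (Subgroup.closure (insert z S)) := by
  have hcent : Subgroup.closure S ≤ Subgroup.centralizer ({z} : Set G) := by
    rw [Subgroup.closure_le]
    intro g hg
    rw [SetLike.mem_coe, Subgroup.mem_centralizer_singleton_iff]
    exact (hz g hg).symm
  have hcomm : ∀ (d : Subgroup.closure S) (w : Subgroup.zpowers z),
      Commute ((Subgroup.closure S).subtype d) ((Subgroup.zpowers z).subtype w) := by
    rintro ⟨d, hd⟩ ⟨w, hw⟩
    obtain ⟨k, rfl⟩ := Subgroup.mem_zpowers_iff.mp hw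
    have h1 : d * z = z * d := Subgroup.mem_centralizer_singleton_iff.mp (hcent hd)
    exact (Commute.zpow_right h1 k)
  have hrange : (MonoidHom.noncommCoprod (Subgroup.closure S).subtype
      (Subgroup.zpowers z).subtype hcomm).range = Subgroup.closure (insert z S) := by
    rw [MonoidHom.noncommCoprod_range, Subgroup.range_subtype, Subgroup.range_subtype,
      Set.insert_eq, Subgroup.closure_union, Subgroup.zpowers_eq_closure, sup_comm]
  rw [← hrange]
  have hS' : Group.IsSolvable (Subgroup.closure S) := hS
  have hz' : Group.IsSolvable (Subgroup.zpowers z) := by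
    apply Group.isSolvable_of_comm
    rintro ⟨a, ha⟩ ⟨b, hb⟩
    obtain ⟨i, rfl⟩ := Subgroup.mem_zpowers_iff.mp ha
    obtain ⟨j, rfl⟩ := Subgroup.mem_zpowers_iff.mp hb
    apply Subtype.ext
    change z ^ i * z ^ j = z ^ j * z ^ i
    rw [← zpow_add, ← zpow_add, add_comm]
  exact Group.isSolvable_of_surjective
    (f := (MonoidHom.noncommCoprod (Subgroup.closure S).subtype
      (Subgroup.zpowers z).subtype hcomm).rangeRestrict)
    (MonoidHom.rangeRestrict_surjective _)

/-- In a finite symmetric group, any three transpositions generate a solvable subgroup. -/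
theorem result (n : ℕ) (a b c : Equiv.Perm (Fin n))
    (ha : a.IsSwap) (hb : b.IsSwap) (hc : c.IsSwap) :
    Group.IsSolvable (Subgroup.closure ({a, b, c} : Set (Equiv.Perm (Fin n)))) := by
  classical
  have hca : a.support.card = 2 := Equiv.Perm.card_support_eq_two.mpr ha
  have hcb : b.support.card = 2 := Equiv.Perm.card_support_eq_two.mpr hb
  have hcc : c.support.card = 2 := Equiv.Perm.card_support_eq_two.mpr hc
  have hfix : ∀ (g : Perm (Fin n)) (T : Finset (Fin n)), g.support ⊆ T →
      ∀ x, x ∉ T → g x = x := by
    intro g T hgT x hx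
    by_contra h
    exact hx (hgT (Equiv.Perm.mem_support.mpr h))
  have hcommute : ∀ g h : Perm (Fin n), Disjoint g.support h.support → g * h = h * g := by
    intro g h hd
    exact (Equiv.Perm.disjoint_iff_disjoint_support.mpr hd).commute.eq
  have hcard_union : ∀ X Y : Finset (Fin n), (X ∩ Y).Nonempty →
      (X ∪ Y).card + 1 ≤ X.card + Y.card := by
    intro X Y h
    have h1 := Finset.card_union_add_card_inter X Y
    have h2 : 1 ≤ (X ∩ Y).card := Finset.card_pos.mpr h
    omega
  have hpair : ∀ g h : Perm (Fin n), g.support.card = 2 → h.support.card = 2 →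
      Group.IsSolvable (Subgroup.closure ({g, h} : Set (Perm (Fin n)))) := by
    intro g h hg hh
    apply solvable_of_small_support (g.support ∪ h.support)
    · have := Finset.card_union_le g.support h.support; omega
    · intro k hk
      rcases hk with hk | hk
      · rw [hk]; exact hfix _ _ Finset.subset_union_left
      · rw [Set.mem_singleton_iff] at hk
        rw [hk]; exact hfix _ _ Finset.subset_union_right
  have hcentral : ∀ z g h : Perm (Fin n), g.support.card = 2 → h.support.card = 2 →
      Disjoint z.support (g.support ∪ h.support) →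
      Group.IsSolvable (Subgroup.closure (insert z ({g, h} : Set (Perm (Fin n))))) := by
    intro z g h hg hh hd
    apply solvable_insert_central _ z _ (hpair g h hg hh)
    intro k hk
    rcases hk with hk | hk
    · rw [hk]; exact hcommute z g (hd.mono_right Finset.subset_union_left)
    · rw [Set.mem_singleton_iff] at hk
      rw [hk]; exact hcommute z h (hd.mono_right Finset.subset_union_right)
  by_cases h1 : Disjoint a.support (b.support ∪ c.support)
  · exact hcentral a b c hcb hcc h1
  by_cases h2 : Disjoint b.support (a.support ∪ c.support)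
  · have e : ({a, b, c} : Set (Perm (Fin n))) = insert b {a, c} := Set.insert_comm a b {c}
    rw [e]
    exact hcentral b a c hca hcc h2
  by_cases h3 : Disjoint c.support (a.support ∪ b.support)
  · have e : ({a, b, c} : Set (Perm (Fin n))) = insert c {a, b} := by
      ext x
      simp only [Set.mem_insert_iff, Set.mem_singleton_iff]
      tauto
    rw [e]
    exact hcentral c a b hca hcb h3
  apply solvable_of_small_support (a.support ∪ b.support ∪ c.support)
  · rw [Finset.not_disjoint_iff_nonempty_inter] at h1 h2 h3
    by_cases hab : (a.support ∩ b.support).Nonempty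
    · have e1 := hcard_union _ _ hab
      have h3' : ((a.support ∪ b.support) ∩ c.support).Nonempty := by
        rwa [Finset.inter_comm] at h3
      have e2 := hcard_union _ _ h3'
      omega
    · have hac : (a.support ∩ c.support).Nonempty := by
        obtain ⟨x, hx⟩ := h1
        rw [Finset.mem_inter, Finset.mem_union] at hx
        rcases hx.2 with hxb | hxc
        · exact absurd ⟨x, Finset.mem_inter.mpr ⟨hx.1, hxb⟩⟩ hab
        · exact ⟨x, Finset.mem_inter.mpr ⟨hx.1, hxc⟩⟩
      have e1 := hcard_union _ _ hac
      have hb' : ((a.support ∪ c.support) ∩ b.support).Nonempty := by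
        rwa [Finset.inter_comm] at h2
      have e2 := hcard_union _ _ hb'
      have e3 : a.support ∪ b.support ∪ c.support = a.support ∪ c.support ∪ b.support := by
        rw [Finset.union_right_comm]
      rw [e3]; omega
  · intro g hg x hx
    rcases hg with hg | hg | hg
    · rw [hg]
      exact hfix a _ (Finset.subset_union_left.trans Finset.subset_union_left) x hx
    · rw [hg]
      exact hfix b _ (Finset.subset_union_right.trans Finset.subset_union_left) x hx
    · rw [Set.mem_singleton_iff] at hg
      rw [hg]
      exact hfix c _ Finset.subset_union_right x hx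

end Cfsg.Agent.S4337
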