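import Mathlib
import Cfsg.Statements.S4342

set_option autoImplicit false
open Cfsg

namespace Cfsg.Agent.S4342

theorem sylow_le_of_normal {G : Type*} [Group G] [Finite G] (p : ℕ) [Fact p.Prime] (H : Subgroup G) [H.Normal]
    (hp : ¬ p ∣ H.index) (P : Sylow p G) : (P : Subgroup G) ≤ H := by
  intro x hx
  have h1 : orderOf (QuotientGroup.mk x : G ⧸ H) ∣ orderOf x :=
    orderOf_dvd_of_pow_eq_one (by rw [← QuotientGroup.mk_pow, pow_orderOf_eq_one]; rfl)
  obtain ⟨k, hk⟩ := (IsPGroup.iff_orderOf.mp P.isPGroup') ⟨x, hx⟩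
  rw [Subgroup.orderOf_mk] at hk
  have h2 : orderOf (QuotientGroup.mk x : G ⧸ H) ∣ Nat.card (G ⧸ H) := orderOf_dvd_natCard _
  have h3 : Nat.Coprime (p ^ k) H.index :=
    Nat.Coprime.pow_left _ ((Nat.Prime.coprime_iff_not_dvd Fact.out).mpr hp)
  have h4 : orderOf (QuotientGroup.mk x : G ⧸ H) = 1 := by
    apply Nat.eq_one_of_dvd_coprimes h3 (hk ▸ h1)
    rwa [Subgroup.index_eq_card]
  rw [orderOf_eq_one_iff, QuotientGroup.eq_one_iff] at h4
  exact h4

theorem card_sylow_normal {G : Type*} [Group G] [Finite G] (p : ℕ) [Fact p.Prime] (H : Subgroup G) [H.Normal]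
    (hp : ¬ p ∣ H.index) :
    Nat.card (Sylow p H) = Nat.card (Sylow p G) := by
  symm
  apply Nat.card_eq_of_bijective
    (fun P : Sylow p G => P.subtype (sylow_le_of_normal p H hp P))
  constructor
  · intro P Q h; exact Sylow.subtype_injective h
  · intro Q
    obtain ⟨P, hP⟩ := Sylow.exists_comap_subtype_eq Q
    refine ⟨P, ?_⟩
    apply Sylow.ext
    rw [Sylow.coe_subtype, ← hP]
    rfl

theorem card_sylow_center_quot {H : Type*} [Group H] [Finite H] (p : ℕ) [Fact p.Prime] :
    Nat.card (Sylow p (H ⧸ Subgroup.center H)) = Nat.card (Sylow p H) := by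
  symm
  apply Nat.card_eq_of_bijective
    (fun P : Sylow p H => P.mapSurjective (QuotientGroup.mk'_surjective (Subgroup.center H)))
  refine ⟨?_, Sylow.mapSurjective_surjective (QuotientGroup.mk'_surjective _) p⟩
  intro P Q h
  have h1 : (P : Subgroup H).map (QuotientGroup.mk' (Subgroup.center H))
      = (Q : Subgroup H).map (QuotientGroup.mk' (Subgroup.center H)) := by
    have := congrArg (fun S : Sylow p (H ⧸ Subgroup.center H) =>
      (S : Subgroup (H ⧸ Subgroup.center H))) h
    simpa [Sylow.coe_mapSurjective] using this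
  have h2 : (Q : Subgroup H) ≤ (P : Subgroup H) ⊔ Subgroup.center H := by
    have := Subgroup.comap_map_eq (QuotientGroup.mk' (Subgroup.center H)) (P : Subgroup H)
    rw [QuotientGroup.ker_mk'] at this
    rw [← this, h1]
    exact Subgroup.le_comap_map _ _
  have h3 : (P : Subgroup H) ⊔ Subgroup.center H ≤ Subgroup.normalizer (P : Set H) :=
    sup_le Subgroup.le_normalizer (Subgroup.center_le_normalizer _)
  have h4 : (Q : Subgroup H) ≤ P := by
    apply (Q.isPGroup'.sylow_mem_fixedPoints_iff (Q := P)).mp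
    intro q
    rw [Subgroup.smul_def, Sylow.smul_eq_iff_mem_normalizer]
    exact h3 (h2 q.2)
  have h5 := Q.is_maximal' P.isPGroup' h4
  exact Sylow.ext h5

theorem result {G : Type*} [Group G] [Finite G]
    (p : ℕ) [Fact p.Prime] (H : Subgroup G) [H.Normal] (hp : ¬ p ∣ H.index) :
    Nat.card (Sylow p (H ⧸ Subgroup.center H)) = Nat.card (Sylow p G) := by
  rw [card_sylow_center_quot p, card_sylow_normal p H hp]

end Cfsg.Agent.S4342
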