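import Cfsg.Statements.S4343
import Mathlib

set_option autoImplicit false
set_option linter.style.haveILetI false
open Cfsg
open scoped commutatorElement Pointwise

namespace Cfsg.Agent.S4343

open Subgroup

section
variable {S : Type*} [Group S] [Finite S] {p : ℕ} [hp : Fact p.Prime]

theorem mem_smul_sylow (g x : S) (R : Sylow p S) :
    x ∈ ((g • R : Sylow p S) : Subgroup S) ↔ g⁻¹ * x * g ∈ (R : Subgroup S) := by
  rw [Sylow.smul_def, Sylow.pointwise_smul_def, Subgroup.mem_pointwise_smul_iff_inv_smul_mem,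
    ← map_inv, MulAut.smul_def, MulAut.conj_apply, inv_inv]

/-- distinct Sylow subgroups meet in a subgroup of index `p`, when there are few of them. -/
theorem card_eq_of_ne (hn : Nat.card (Sylow p S) < p ^ 2) (P Q : Sylow p S) (hPQ : P ≠ Q) :
    Nat.card (P : Subgroup S) = p * Nat.card ((P : Subgroup S) ⊓ Q : Subgroup S) := by
  have hpp : p.Prime := hp.out
  -- stabilizer
  have hstab : MulAction.stabilizer (↥(P : Subgroup S)) Q =
      (normalizer (Q : Set S)).subgroupOf (P : Subgroup S) := by
    ext x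
    rw [MulAction.mem_stabilizer_iff, mem_subgroupOf, ← Sylow.smul_eq_iff_mem_normalizer]
    rfl
  have h1 : (MulAction.stabilizer (↥(P : Subgroup S)) Q).index ≤ Nat.card (Sylow p S) := by
    rw [MulAction.index_stabilizer]
    exact Set.ncard_le_card _
  have h2 : (MulAction.stabilizer (↥(P : Subgroup S)) Q).index =
      ((P : Subgroup S) ⊓ Q).relIndex (P : Subgroup S) := by
    rw [hstab]
    show (normalizer (Q : Set S)).relIndex (P : Subgroup S) = _
    rw [← Subgroup.inf_relIndex_right, inf_comm, P.isPGroup'.inf_normalizer_sylow Q]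
  have h3 : Nat.card ((P : Subgroup S) ⊓ Q : Subgroup S) *
      ((P : Subgroup S) ⊓ Q).relIndex (P : Subgroup S) = Nat.card (P : Subgroup S) := by
    have := Subgroup.relIndex_mul_relIndex ⊥ ((P : Subgroup S) ⊓ Q) (P : Subgroup S) bot_le
      inf_le_left
    rw [Subgroup.relIndex_bot_left, Subgroup.relIndex_bot_left] at this
    exact this
  set r := ((P : Subgroup S) ⊓ Q).relIndex (P : Subgroup S) with hr
  have hr_lt : r < p ^ 2 := by rw [← h2]; exact lt_of_le_of_lt h1 hn
  obtain ⟨k, hk⟩ := IsPGroup.iff_card.mp P.isPGroup'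
  have hr_dvd : r ∣ p ^ k := by rw [← hk, ← h3]; exact dvd_mul_left _ _
  obtain ⟨j, -, hj⟩ := (Nat.dvd_prime_pow hpp).mp hr_dvd
  have hj1 : j < 2 := by
    rw [hj] at hr_lt
    exact (Nat.pow_lt_pow_iff_right hpp.one_lt).mp hr_lt
  have hj0 : j ≠ 0 := by
    rintro rfl
    rw [pow_zero] at hj
    rw [hj, mul_one] at h3
    apply hPQ
    have hle : (P : Subgroup S) ≤ Q := by
      have : (P : Subgroup S) ⊓ Q = P :=
        Subgroup.eq_of_le_of_card_ge inf_le_left (le_of_eq h3.symm)
      rw [← this]; exact inf_le_right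
    apply Sylow.ext
    apply Subgroup.eq_of_le_of_card_ge hle
    rw [Sylow.card_eq_multiplicity, Sylow.card_eq_multiplicity]
  have hj' : j = 1 := by omega
  rw [hj', pow_one] at hj
  rw [← h3, hj, mul_comm]

theorem sylow_comm (hn : Nat.card (Sylow p S) < p ^ 2)
    (hK : (⨅ R : Sylow p S, (R : Subgroup S)) = ⊥) (P : Sylow p S) :
    ∀ a ∈ (P : Subgroup S), ∀ b ∈ (P : Subgroup S), a * b = b * a := by
  have hpp : p.Prime := hp.out
  intro a ha b hb
  have hmem : ⁅a, b⁆ ∈ (⨅ R : Sylow p S, (R : Subgroup S)) := by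
    rw [Subgroup.mem_iInf]
    intro Q
    by_cases hPQ : P = Q
    · rw [← hPQ]
      exact (P : Subgroup S).mul_mem ((P : Subgroup S).mul_mem ((P : Subgroup S).mul_mem ha hb)
        ((P : Subgroup S).inv_mem ha)) ((P : Subgroup S).inv_mem hb)
    · have hc := card_eq_of_ne hn P Q hPQ
      set D : Subgroup ↥(P : Subgroup S) := ((P : Subgroup S) ⊓ Q).subgroupOf (P : Subgroup S)
        with hD
      have hDcard : Nat.card D = Nat.card ((P : Subgroup S) ⊓ Q : Subgroup S) :=
        Nat.card_congr (Subgroup.subgroupOfEquivOfLe inf_le_left).toEquiv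
      have hDidx : D.index = p := by
        have h1 := Subgroup.card_mul_index D
        rw [hDcard, hc] at h1
        have hpos : 0 < Nat.card ((P : Subgroup S) ⊓ Q : Subgroup S) := Nat.card_pos
        have : Nat.card ((P : Subgroup S) ⊓ Q : Subgroup S) * D.index =
            Nat.card ((P : Subgroup S) ⊓ Q : Subgroup S) * p := by rw [h1, mul_comm]
        exact Nat.eq_of_mul_eq_mul_left hpos this
      haveI hDn : D.Normal := by
        obtain ⟨k, hk⟩ := IsPGroup.iff_card.mp P.isPGroup'
        apply Subgroup.normal_of_index_eq_minFac_card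
        rw [hDidx, hk]
        have hk0 : k ≠ 0 := by
          rintro rfl
          have : D.index ∣ Nat.card ↥(P : Subgroup S) := Subgroup.index_dvd_card D
          rw [hk, hDidx, pow_zero] at this
          exact hpp.one_lt.ne' (Nat.dvd_one.mp this)
        exact (hpp.pow_minFac hk0).symm
      have hQc : Nat.card (↥(P : Subgroup S) ⧸ D) = p := by
        rw [← Subgroup.index_eq_card]; exact hDidx
      haveI : IsCyclic (↥(P : Subgroup S) ⧸ D) := isCyclic_of_prime_card hQc
      letI : CommGroup (↥(P : Subgroup S) ⧸ D) := IsCyclic.commGroup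
      have h2 : (QuotientGroup.mk' D) ⁅(⟨a, ha⟩ : ↥(P : Subgroup S)), ⟨b, hb⟩⁆ = 1 := by
        rw [map_commutatorElement]
        exact commutatorElement_eq_one_iff_mul_comm.mpr (mul_comm _ _)
      have h3 : ⁅(⟨a, ha⟩ : ↥(P : Subgroup S)), ⟨b, hb⟩⁆ ∈ D := (QuotientGroup.eq_one_iff _).mp h2
      rw [hD, mem_subgroupOf] at h3
      exact h3.2
  rw [hK, mem_bot] at hmem
  exact commutatorElement_eq_one_iff_mul_comm.mp hmem

end

/-- Let S be a finite non-abelian simple group and p a prime dividing its order. If S has fewer than p² Sylow p-subgroups, then its Sylow p-subgroups have order p. -/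
theorem result {S : Type*} [Group S] [Finite S]
    [IsSimpleGroup S] (hS : ¬ IsMulCommutative S) (p : ℕ) [Fact p.Prime] (hp : p ∣ Nat.card S)
    (hn : Nat.card (Sylow p S) < p ^ 2) (P : Sylow p S) : Nat.card P = p := by
  have hpp : p.Prime := Fact.out
  -- the intersection of all Sylow subgroups is trivial
  have hK : (⨅ R : Sylow p S, (R : Subgroup S)) = ⊥ := by
    have hnorm : (⨅ R : Sylow p S, (R : Subgroup S)).Normal := by
      refine ⟨fun k hk g => ?_⟩
      rw [Subgroup.mem_iInf] at hk ⊢
      intro R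
      have := hk (g⁻¹ • R)
      rw [mem_smul_sylow, inv_inv] at this
      exact this
    rcases IsSimpleGroup.eq_bot_or_eq_top_of_normal _ hnorm with h | h
    · exact h
    · exfalso
      have hPtop : (P : Subgroup S) = ⊤ := by
        rw [eq_top_iff, ← h]
        exact iInf_le _ P
      have hSp : IsPGroup p S := by
        have := P.isPGroup'
        rw [hPtop] at this
        exact IsPGroup.of_equiv this Subgroup.topEquiv
      haveI : Nontrivial S := IsSimpleGroup.toNontrivial
      haveI := hSp.center_nontrivial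
      have hcn : (center S).Normal := inferInstance
      rcases IsSimpleGroup.eq_bot_or_eq_top_of_normal _ hcn with hc | hc
      · exact (Subgroup.nontrivial_iff_ne_bot _).mp inferInstance hc
      · exact hS (Subgroup.center_eq_top_iff.mp hc)
  have hcomm := sylow_comm hn hK
  -- Brodkey: a pair of Sylow subgroups with minimal intersection
  obtain ⟨⟨P₁, Q₁⟩, hmin⟩ := Finite.exists_min
    (fun x : Sylow p S × Sylow p S => Nat.card ((x.1 : Subgroup S) ⊓ x.2 : Subgroup S))
  set D : Subgroup S := (P₁ : Subgroup S) ⊓ Q₁ with hD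
  have hP₁N : (P₁ : Subgroup S) ≤ normalizer (D : Set S) := by
    refine le_trans ?_ (centralizer_le_normalizer _)
    intro x hx
    rw [mem_centralizer_iff]
    intro d hd
    exact hcomm P₁ d hd.1 x hx
  have hQ₁N : (Q₁ : Subgroup S) ≤ normalizer (D : Set S) := by
    refine le_trans ?_ (centralizer_le_normalizer _)
    intro x hx
    rw [mem_centralizer_iff]
    intro d hd
    exact hcomm Q₁ d hd.2 x hx
  have hDle : ∀ R : Sylow p S, D ≤ R := by
    intro R
    -- Sylow theory inside the normalizer of D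
    have hRN : IsPGroup p (((R : Subgroup S) ⊓ normalizer (D : Set S)).subgroupOf
        (normalizer (D : Set S))) := by
      apply IsPGroup.of_injective (R.isPGroup'.to_le inf_le_left)
        (Subgroup.subgroupOfEquivOfLe inf_le_right).toMonoidHom
      exact (Subgroup.subgroupOfEquivOfLe inf_le_right).injective
    obtain ⟨T₀, hT₀⟩ := hRN.exists_le_sylow
    obtain ⟨n, hn'⟩ := MulAction.exists_smul_eq (↥(normalizer (D : Set S))) (P₁.subtype hP₁N) T₀
    -- elements of R ⊓ N are conjugate into P₁ by n
    have hconj : ∀ x ∈ (R : Subgroup S), x ∈ normalizer (D : Set S) →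
        (n : S)⁻¹ * x * (n : S) ∈ (P₁ : Subgroup S) := by
      intro x hxR hxN
      have h1 : (⟨x, hxN⟩ : ↥(normalizer (D : Set S))) ∈ (T₀ : Subgroup _) := by
        apply hT₀
        rw [mem_subgroupOf]
        exact ⟨hxR, hxN⟩
      rw [← hn', mem_smul_sylow, Sylow.coe_subtype, mem_subgroupOf] at h1
      exact h1
    -- T' = n Q₁ n⁻¹
    have hsub : (R : Subgroup S) ⊓ (((n : S) • Q₁ : Sylow p S) : Subgroup S) ≤ D := by
      intro x hx
      have hxQ : (n : S)⁻¹ * x * (n : S) ∈ (Q₁ : Subgroup S) := (mem_smul_sylow _ _ _).mp hx.2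
      have hxN : x ∈ normalizer (D : Set S) := by
        have h1 := hQ₁N hxQ
        have h2 : x = (n : S) * ((n : S)⁻¹ * x * (n : S)) * (n : S)⁻¹ := by group
        rw [h2]
        exact (normalizer (D : Set S)).mul_mem ((normalizer (D : Set S)).mul_mem n.2 h1)
          ((normalizer (D : Set S)).inv_mem n.2)
      have hxP := hconj x hx.1 hxN
      have hxD : (n : S)⁻¹ * x * (n : S) ∈ D := ⟨hxP, hxQ⟩
      have h3 := (mem_normalizer_iff.mp n.2 ((n : S)⁻¹ * x * (n : S))).mp hxD
      have h4 : (n : S) * ((n : S)⁻¹ * x * (n : S)) * (n : S)⁻¹ = x := by group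
      rw [h4] at h3
      exact h3
    have hcard := hmin (R, (n : S) • Q₁)
    have heq : (R : Subgroup S) ⊓ (((n : S) • Q₁ : Sylow p S) : Subgroup S) = D :=
      Subgroup.eq_of_le_of_card_ge hsub hcard
    rw [← heq]
    exact inf_le_left
  have hDbot : D = ⊥ := by
    rw [eq_bot_iff, ← hK]
    exact le_iInf hDle
  have hne : P₁ ≠ Q₁ := by
    intro h
    rw [hD, h, inf_idem] at hDbot
    exact Sylow.ne_bot_of_dvd_card Q₁ hp hDbot
  have h1 := card_eq_of_ne hn P₁ Q₁ hne
  rw [← hD, hDbot, Subgroup.card_bot, mul_one] at h1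
  rw [Sylow.card_eq_multiplicity, ← Sylow.card_eq_multiplicity P₁]
  exact h1

end Cfsg.Agent.S4343
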