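import Cfsg.Statements.S4344

set_option autoImplicit false
open Cfsg

namespace Cfsg.Agent.S4344

open scoped Pointwise

theorem sylow_eq_of_comm {C : Type*} [Group C] [Finite C] [IsMulCommutative C] {p : ℕ} [Fact p.Prime]
    (P Q : Sylow p C) : P = Q := by
  obtain ⟨c, hc⟩ := MulAction.exists_smul_eq C P Q
  have hn : (P : Subgroup C).Normal := by
    constructor
    intro n hn g
    have : g * n * g⁻¹ = n := by
      rw [mul_comm' g n, mul_inv_cancel_right]
    rwa [this]
  rw [← hc, Sylow.smul_eq_of_normal]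

theorem result {S : Type*} [Group S] [Finite S]
    [IsSimpleGroup S] (hS : ¬ IsMulCommutative S) (p : ℕ) [Fact p.Prime] (hp : p ∣ Nat.card S)
    (M : Subgroup S) (hM : IsCoatom M) (C : Subgroup S) (hCM : C ≤ M) (hCn : (C.subgroupOf M).Normal)
    (hC : IsCyclic C) (P : Sylow p S) (hP : (P : Subgroup S) ≤ C) :
    Nat.card (Sylow p S) = M.index := by
  have hMN : M ≤ Subgroup.normalizer (P : Set S) := by
    intro m hm
    rw [← Sylow.smul_eq_iff_mem_normalizer]
    have hQ : ((m • P : Sylow p S) : Subgroup S) ≤ C := by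
      intro x hx
      change x ∈ MulAut.conj m • (P : Subgroup S) at hx
      rw [Subgroup.mem_pointwise_smul_iff_inv_smul_mem] at hx
      simp only [MulAut.smul_def, ← map_inv, MulAut.conj_apply, inv_inv] at hx
      have hy : m⁻¹ * x * m ∈ C := hP hx
      have h1 := hCn.conj_mem ⟨m⁻¹ * x * m, hCM hy⟩ (Subgroup.mem_subgroupOf.mpr hy) ⟨m, hm⟩
      rw [Subgroup.mem_subgroupOf] at h1
      simp only [Subgroup.coe_mul, Subgroup.coe_inv] at h1
      convert h1 using 1
      group
    have := sylow_eq_of_comm (P.subtype hP) ((m • P).subtype hQ)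
    exact (Sylow.subtype_injective this).symm
  have hNtop : Subgroup.normalizer (P : Set S) ≠ ⊤ := by
    intro htop
    have hn : (P : Subgroup S).Normal := Subgroup.normalizer_eq_top_iff.mp htop
    rcases hn.eq_bot_or_eq_top with hb | ht
    · exact P.ne_bot_of_dvd_card hp hb
    · apply hS
      rw [isMulCommutative_iff]
      intro a b
      have ha : a ∈ C := hP (ht ▸ Subgroup.mem_top a)
      have hb : b ∈ C := hP (ht ▸ Subgroup.mem_top b)
      have := mul_comm' (⟨a, ha⟩ : C) ⟨b, hb⟩
      exact congrArg Subtype.val this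
  have hNM : Subgroup.normalizer (P : Set S) = M := (hM.le_iff_eq hNtop).mp hMN
  rw [P.card_eq_index_normalizer, hNM]

end Cfsg.Agent.S4344
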