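import Mathlib
import Cfsg.Agent.Lib_helper21_SylowNum
import Cfsg.Agent.S4261
import Cfsg.Statements.S4345

set_option autoImplicit false
open Cfsg

namespace Cfsg.Agent.S4345

universe u

theorem main (p : ℕ) [Fact p.Prime] : ∀ (n : ℕ) (G : Type u) [Group G] [Finite G], Nat.card G = n →
    Group.IsSolvable G → ∀ ℓ : ℕ, ℓ.Prime →
    ℓ ^ (Nat.card (Sylow p G)).factorization ℓ ≡ 1 [MOD p] := by
  intro n
  induction n using Nat.strong_induction_on with
  | _ n ih =>
    intro G _ _ hn hG ℓ hℓ
    rcases subsingleton_or_nontrivial G with hss | hnt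
    · have : Nat.card (Sylow p G) = 1 := by
        have : Subsingleton (Sylow p G) := by
          constructor
          intro a b
          apply Sylow.ext
          exact Subsingleton.elim _ _
        exact Nat.card_unique
      rw [this]
      simp [Nat.ModEq]
    · obtain ⟨q, hq, K, hKn, hKq, hKne⟩ := Cfsg.Agent.S4261.exists_normal_pgroup hG
      obtain ⟨P⟩ : Nonempty (Sylow p G) := inferInstance
      have hformula := Cfsg.Agent.helper21.card_sylow_eq_quot_mul P K
      set b := (Subgroup.normalizer ((P : Subgroup G) : Set G)).relIndex ((P : Subgroup G) ⊔ K)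
        with hb
      have hb1 : b ≡ 1 [MOD p] := by
        rw [hb, Cfsg.Agent.helper21.relIndex_normalizer_eq_card_sylow P _ le_sup_left]
        exact card_sylow_modEq_one p _
      have hbK : b ∣ Nat.card K := by
        rw [hb, Cfsg.Agent.helper21.relIndex_normalizer_sup_eq P K]
        exact Subgroup.relIndex_dvd_card _ _
      have hqf : Fact q.Prime := ⟨hq⟩
      obtain ⟨j, hj⟩ := hKq.exists_card_eq
      rw [hj] at hbK
      obtain ⟨t, -, ht⟩ := (Nat.dvd_prime_pow hq).mp hbK
      have hcard : Nat.card (G ⧸ K) < n := by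
        rw [← hn, ← Subgroup.index_eq_card, ← Subgroup.index_mul_card K]
        have h1 : 1 < Nat.card K := by
          rw [Subgroup.one_lt_card_iff_ne_bot]; exact hKne
        have h2 : 0 < K.index := Nat.pos_of_ne_zero Subgroup.index_ne_zero_of_finite
        nlinarith
      have hIH := ih _ hcard (G ⧸ K) rfl inferInstance ℓ hℓ
      set a := Nat.card (Sylow p (G ⧸ K)) with ha
      have ha0 : a ≠ 0 := Nat.card_pos.ne'
      have hb0 : b ≠ 0 := by
        rw [ht]; exact pow_ne_zero _ hq.ne_zero
      rw [hformula, Nat.factorization_mul ha0 hb0, Finsupp.add_apply, pow_add]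
      have hbl : ℓ ^ (b.factorization ℓ) ≡ 1 [MOD p] := by
        rw [ht, Nat.Prime.factorization_pow hq]
        by_cases hlq : ℓ = q
        · rw [hlq, Finsupp.single_eq_same, ← ht]
          exact hb1
        · rw [Finsupp.single_eq_of_ne (by exact fun h => hlq h), pow_zero]
      calc ℓ ^ (a.factorization ℓ) * ℓ ^ (b.factorization ℓ) ≡ 1 * 1 [MOD p] :=
            Nat.ModEq.mul hIH hbl
        _ = 1 := by norm_num

/-- Let G be a finite solvable group and p, ℓ primes. Then the largest power of ℓ dividing the number of Sylow p-subgroups of G is congruent to 1 modulo p. -/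
theorem result {G : Type*} [Group G] [Finite G]
    (hG : Group.IsSolvable G) (p ℓ : ℕ) [Fact p.Prime] (hℓ : ℓ.Prime) :
    ℓ ^ (Nat.card (Sylow p G)).factorization ℓ ≡ 1 [MOD p] :=
  main p _ G rfl hG ℓ hℓ

end Cfsg.Agent.S4345
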