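import Cfsg.Statements.S4347

set_option autoImplicit false
open Cfsg

namespace Cfsg.Agent.S4347

open scoped Pointwise

theorem mem_smul_sylow {G : Type*} [Group G] {p : ℕ} (g x : G) (P : Sylow p G) :
    g * x * g⁻¹ ∈ g • P ↔ x ∈ P := by
  change g * x * g⁻¹ ∈ MulAut.conj g • (P : Subgroup G) ↔ x ∈ (P : Subgroup G)
  rw [Subgroup.mem_pointwise_smul_iff_inv_smul_mem]
  simp [MulAut.smul_def, mul_assoc]

theorem orderOf_conj' {G : Type*} [Group G] (g x : G) : orderOf (g * x * g⁻¹) = orderOf x := by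
  have h : SemiconjBy g x (g * x * g⁻¹) := by
    unfold SemiconjBy; group
  exact (h.orderOf_eq g).symm

theorem result {G : Type*} [Group G] [Finite G]
    (p : ℕ) [Fact p.Prime] :
    (¬ ∃ Q : Sylow p G, ∀ x : G, (∃ k : ℕ, orderOf x = p ^ k) → ∃ P : Sylow p G, P ≠ Q ∧ x ∈ P) ↔
      ∃ x : G, (∃ k : ℕ, orderOf x = p ^ k) ∧ ∃! P : Sylow p G, x ∈ P := by
  constructor
  · intro h
    by_contra hne
    apply h
    obtain ⟨Q⟩ : Nonempty (Sylow p G) := inferInstance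
    refine ⟨Q, fun x hx => ?_⟩
    obtain ⟨k, hk⟩ := hx
    have hpg : IsPGroup p (Subgroup.zpowers x) := by
      apply IsPGroup.of_card (n := k)
      rw [Nat.card_zpowers, hk]
    obtain ⟨P, hP⟩ := hpg.exists_le_sylow
    have hxP : x ∈ P := hP (Subgroup.mem_zpowers x)
    by_cases hPQ : P = Q
    · by_contra hcon
      apply hne
      refine ⟨x, ⟨k, hk⟩, Q, hPQ ▸ hxP, fun P' hP' => ?_⟩
      by_contra hne'
      exact hcon ⟨P', hne', hP'⟩
    · exact ⟨P, hPQ, hxP⟩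
  · rintro ⟨x, ⟨k, hk⟩, P0, hxP0, huniq⟩ ⟨Q, hQ⟩
    obtain ⟨g, hg⟩ := MulAction.exists_smul_eq G P0 Q
    obtain ⟨P, hPQ, hP⟩ := hQ (g * x * g⁻¹) ⟨k, by rw [← hk]; exact orderOf_conj' g x ⟩
    apply hPQ
    have h1 : x ∈ g⁻¹ • P := by
      have := (mem_smul_sylow g⁻¹ (g * x * g⁻¹) P).2 hP
      simpa [mul_assoc] using this
    have h2 := huniq _ h1
    rw [← hg, ← h2, smul_inv_smul]

end Cfsg.Agent.S4347
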