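import Cfsg.Statements.S4348

set_option autoImplicit false
open Cfsg

namespace Cfsg.Agent.S4348

theorem pCore_le_sylow {G : Type*} [Group G] (p : ℕ) (Q : Sylow p G) :
    Cfsg.pCore p G ≤ (Q : Subgroup G) := by
  unfold Cfsg.pCore
  refine sSup_le ?_
  rintro N ⟨hN1, hN2⟩
  have := hN1
  exact hN2.le_sylow_of_normal Q

theorem result {G : Type*} [Group G] [Finite G]
    (p : ℕ) [Fact p.Prime] (P : Sylow p G)
    [hn : ((Cfsg.pCore p G).subgroupOf (P : Subgroup G)).Normal]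
    (hc : IsCyclic ((P : Subgroup G) ⧸ (Cfsg.pCore p G).subgroupOf (P : Subgroup G))) :
    ∃ x : G, (∃ k : ℕ, orderOf x = p ^ k) ∧ ∃! Q : Sylow p G, x ∈ Q := by
  obtain ⟨gbar, hgbar⟩ := hc.exists_generator
  obtain ⟨x, rfl⟩ := QuotientGroup.mk_surjective gbar
  refine ⟨(x : G), ?_, P, x.2, ?_⟩
  · obtain ⟨k, hk⟩ := P.isPGroup' x
    have : (x : G) ^ p ^ k = 1 := by
      have := congrArg (Subtype.val) hk
      simpa using this
    obtain ⟨j, _, hj⟩ := (Nat.dvd_prime_pow Fact.out).1 (orderOf_dvd_of_pow_eq_one this)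
    exact ⟨j, hj⟩
  · intro Q hxQ
    have hle : (P : Subgroup G) ≤ (Q : Subgroup G) := by
      intro y hy
      have hy' := hgbar (QuotientGroup.mk ⟨y, hy⟩)
      rw [Subgroup.mem_zpowers_iff] at hy'
      obtain ⟨k, hk⟩ := hy'
      rw [← QuotientGroup.mk_zpow, QuotientGroup.eq] at hk
      rw [Subgroup.mem_subgroupOf] at hk
      have h1 : ((x ^ k)⁻¹ * ⟨y, hy⟩ : (P : Subgroup G)).1 ∈ (Q : Subgroup G) :=
        pCore_le_sylow p Q hk
      have h2 : (x : G) ^ k ∈ (Q : Subgroup G) := Subgroup.zpow_mem _ hxQ k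
      have h3 : ((x ^ k)⁻¹ * ⟨y, hy⟩ : (P : Subgroup G)).1 = ((x : G) ^ k)⁻¹ * y := by
        simp
      rw [h3] at h1
      have := (Q : Subgroup G).mul_mem h2 h1
      simpa using this
    exact Sylow.ext (P.is_maximal' Q.isPGroup' hle)

end Cfsg.Agent.S4348
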