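import Mathlib
import Cfsg.Statements.S4354
import Cfsg.Agent.Lib_helper21_SylowNum

set_option autoImplicit false
set_option linter.style.haveILetI false
open Cfsg

namespace Cfsg.Agent.S4354

/-- every `p`-element has `p'`-class size -/
def PCl (p : ℕ) (X : Type*) [Group X] : Prop :=
  ∀ x : X, (∃ k : ℕ, orderOf x = p ^ k) → ¬ p ∣ (Subgroup.centralizer ({x} : Set X)).index

theorem pcl_normal {G : Type*} [Group G] [Finite G] (p : ℕ) (N : Subgroup G) [N.Normal]
    (h : PCl p G) : PCl p N := by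
  intro x hx hdvd
  have hx' : ∃ k, orderOf (x : G) = p ^ k := by
    obtain ⟨k, hk⟩ := hx
    exact ⟨k, by rw [Subgroup.orderOf_coe, hk]⟩
  apply h (x : G) hx'
  have e : Subgroup.centralizer ({x} : Set N) =
      (Subgroup.centralizer ({(x : G)} : Set G)).subgroupOf N := by
    ext y
    simp only [Subgroup.mem_centralizer_singleton_iff, Subgroup.mem_subgroupOf]
    constructor
    · intro h; exact_mod_cast congrArg Subtype.val h
    · intro h; exact Subtype.ext (by exact_mod_cast h)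
  rw [e] at hdvd
  change p ∣ (Subgroup.centralizer ({(x : G)} : Set G)).relIndex N at hdvd
  rw [← Cfsg.Agent.helper21.relIndex_sup_normal N] at hdvd
  exact hdvd.trans (Dvd.intro _ (Subgroup.relIndex_mul_index le_sup_right))

theorem pcl_quot {G : Type*} [Group G] [Finite G] (p : ℕ) [hp : Fact p.Prime] (N : Subgroup G)
    [N.Normal] (h : PCl p G) : PCl p (G ⧸ N) := by
  intro y hy hdvd
  obtain ⟨k, hk⟩ := hy
  obtain ⟨g, rfl⟩ := QuotientGroup.mk_surjective y
  obtain ⟨a, m, hm, hgm⟩ := Nat.exists_eq_pow_mul_and_not_dvd (orderOf_pos g).ne' p hp.out.ne_one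
  have hcop : m.Coprime (orderOf (g : G ⧸ N)) := by
    rw [hk]
    exact Nat.Coprime.pow_right k ((Nat.Prime.coprime_iff_not_dvd hp.out).2 hm).symm
  obtain ⟨m', hm'⟩ := exists_pow_eq_self_of_coprime hcop
  set x : G := (g ^ m) ^ m' with hxdef
  have hxy : (x : G ⧸ N) = (g : G ⧸ N) := by
    rw [hxdef]
    simpa using hm'
  have hxo : orderOf x ∣ p ^ a := by
    apply orderOf_dvd_of_pow_eq_one
    rw [hxdef, ← pow_mul, ← pow_mul]
    have e : m * (m' * p ^ a) = orderOf g * m' := by rw [hgm]; ring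
    rw [e, pow_mul, pow_orderOf_eq_one, one_pow]
  obtain ⟨j, -, hj⟩ := (Nat.dvd_prime_pow hp.out).1 hxo
  apply h x ⟨j, hj⟩
  have hle : (Subgroup.centralizer ({x} : Set G)).map (QuotientGroup.mk' N) ≤
      Subgroup.centralizer ({(g : G ⧸ N)} : Set (G ⧸ N)) := by
    rintro _ ⟨c, hc, rfl⟩
    have hc : c ∈ Subgroup.centralizer ({x} : Set G) := hc
    rw [Subgroup.mem_centralizer_singleton_iff] at hc ⊢
    rw [← hxy]
    change ((c * x : G) : G ⧸ N) = ((x * c : G) : G ⧸ N)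
    rw [hc]
  exact (hdvd.trans (Subgroup.index_dvd_of_le hle)).trans
    (Subgroup.index_map_dvd _ (QuotientGroup.mk'_surjective N))

theorem exists_conj_le_of_not_dvd_index {H : Type*} [Group H] [Finite H] {p : ℕ} [Fact p.Prime]
    (Q C : Subgroup H) (hQ : IsPGroup p Q) (hC : ¬ p ∣ C.index) :
    ∃ t : H, ∀ u ∈ Q, t⁻¹ * u * t ∈ C := by
  obtain ⟨q, hq⟩ := hQ.nonempty_fixed_point_of_prime_not_dvd_card (H ⧸ C)
    (by rwa [← Subgroup.index_eq_card])
  obtain ⟨t, rfl⟩ := QuotientGroup.mk_surjective q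
  refine ⟨t, fun u hu => ?_⟩
  have h1 := hq ⟨u, hu⟩
  have h2 : ((u * t : H) : H ⧸ C) = (t : H ⧸ C) := h1
  rw [QuotientGroup.eq] at h2
  have h3 := C.inv_mem h2
  have e : ((u * t)⁻¹ * t)⁻¹ = t⁻¹ * u * t := by group
  rwa [e] at h3

theorem key {G : Type*} [Group G] [Finite G] (p : ℕ) [hp : Fact p.Prime] (P : Sylow p G)
    (N : Subgroup G) [N.Normal] (hcl : PCl p G)
    (hcomm : ∀ a ∈ P, ∀ b ∈ P, (a : G ⧸ N) * (b : G ⧸ N) = (b : G ⧸ N) * (a : G ⧸ N))
    (x : G) (hx : x ∈ P) :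
    ∃ z ∈ P, (∀ u ∈ P, Commute z u) ∧ z * x⁻¹ ∈ N := by
  obtain ⟨k, hk⟩ : ∃ k, orderOf x = p ^ k := by
    obtain ⟨k, hk⟩ := (IsPGroup.iff_orderOf.1 P.isPGroup') ⟨x, hx⟩
    exact ⟨k, by rw [← hk]; exact (Subgroup.orderOf_coe (⟨x, hx⟩ : (P : Subgroup G)))⟩
  have hidx := hcl x ⟨k, hk⟩
  set C := Subgroup.centralizer ({x} : Set G) with hCdef
  set T : Subgroup G := (Subgroup.centralizer ({(x : G ⧸ N)} : Set (G ⧸ N))).comap
    (QuotientGroup.mk' N) with hTdef
  have hmemT : ∀ g : G, g ∈ T ↔ (g : G ⧸ N) * (x : G ⧸ N) = (x : G ⧸ N) * (g : G ⧸ N) := by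
    intro g
    rw [hTdef, Subgroup.mem_comap, Subgroup.mem_centralizer_singleton_iff]
    rfl
  have hPT : (P : Subgroup G) ≤ T := by
    intro u hu
    rw [hmemT]
    exact hcomm u hu x hx
  have hCT : C ≤ T := by
    intro c hc
    rw [hmemT]
    rw [hCdef, Subgroup.mem_centralizer_singleton_iff] at hc
    change ((c * x : G) : G ⧸ N) = ((x * c : G) : G ⧸ N)
    rw [hc]
  have hidx' : ¬ p ∣ (C.subgroupOf T).index := by
    intro hd
    apply hidx
    change p ∣ C.relIndex T at hd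
    exact hd.trans (Dvd.intro _ (Subgroup.relIndex_mul_index hCT))
  have hPp : IsPGroup p ((P : Subgroup G).subgroupOf T) := P.isPGroup'.comap_subtype
  obtain ⟨t, ht⟩ := exists_conj_le_of_not_dvd_index _ _ hPp hidx'
  have ht' : ∀ u ∈ P, (t : G)⁻¹ * u * t ∈ C := by
    intro u hu
    have := ht ⟨u, hPT hu⟩ (by rw [Subgroup.mem_subgroupOf]; exact hu)
    rw [Subgroup.mem_subgroupOf] at this
    simpa using this
  set z : G := (t : G) * x * (t : G)⁻¹ with hzdef
  have hzc : ∀ u ∈ P, Commute z u := by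
    intro u hu
    have h1 := ht' u hu
    rw [hCdef, Subgroup.mem_centralizer_singleton_iff] at h1
    change z * u = u * z
    calc z * u = (t : G) * (x * ((t : G)⁻¹ * u * t)) * (t : G)⁻¹ := by rw [hzdef]; group
      _ = (t : G) * (((t : G)⁻¹ * u * t) * x) * (t : G)⁻¹ := by rw [h1]
      _ = u * z := by rw [hzdef]; group
  have hzN : z * x⁻¹ ∈ N := by
    rw [← QuotientGroup.eq_one_iff]
    have h1 := (hmemT t).1 t.2
    rw [hzdef]
    change (((t : G) : G ⧸ N) * (x : G ⧸ N) * ((t : G) : G ⧸ N)⁻¹ * (x : G ⧸ N)⁻¹) = 1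
    rw [h1]
    group
  have hzP : z ∈ P := by
    have hzp : IsPGroup p (Subgroup.zpowers z) := by
      rintro ⟨w, hw⟩
      obtain ⟨i, rfl⟩ := Subgroup.mem_zpowers_iff.1 hw
      refine ⟨k, Subtype.ext ?_⟩
      have hzk : z ^ (p ^ k) = 1 := by
        rw [hzdef, conj_pow, ← hk, pow_orderOf_eq_one]
        group
      simp only [Subgroup.coe_pow, Subgroup.coe_one]
      rw [← zpow_natCast, ← zpow_mul, mul_comm, zpow_mul, zpow_natCast, hzk, one_zpow]
    have h1 := IsPGroup.inf_normalizer_sylow hzp P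
    have h2 : z ∈ Subgroup.zpowers z ⊓ Subgroup.normalizer ((P : Subgroup G) : Set G) := by
      refine ⟨Subgroup.mem_zpowers z, ?_⟩
      apply Subgroup.centralizer_le_normalizer
      rw [Subgroup.mem_centralizer_iff]
      intro u hu
      exact ((hzc u hu).eq).symm
    have h3 : z ∈ Subgroup.zpowers z ⊓ (P : Subgroup G) := by
      rw [← h1]; exact h2
    exact h3.2
  exact ⟨z, hzP, hzc, hzN⟩

theorem result {G : Type*} [Group G] [Finite G]
    (p : ℕ) [Fact p.Prime] (h : ((∃ P : Sylow p G, ¬ IsMulCommutative P) ∧ ∀ x : G, (∃ k : ℕ, orderOf x = p ^ k) → ¬ p ∣ (Subgroup.centralizer ({x} : Set G)).index))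
    (hmin : ∀ (N : Subgroup G) [N.Normal], N ≠ ⊥ → N ≠ ⊤ →
      ¬ ((∃ P : Sylow p N, ¬ IsMulCommutative P) ∧ ∀ x : N, (∃ k : ℕ, orderOf x = p ^ k) → ¬ p ∣ (Subgroup.centralizer ({x} : Set N)).index) ∧
      ¬ ((∃ P : Sylow p (G ⧸ N), ¬ IsMulCommutative P) ∧ ∀ x : (G ⧸ N), (∃ k : ℕ, orderOf x = p ^ k) → ¬ p ∣ (Subgroup.centralizer ({x} : Set (G ⧸ N))).index)) :
    IsSimpleGroup G := by
  obtain ⟨⟨P, hP⟩, hcl⟩ := h
  have hcl' : PCl p G := hcl
  by_contra hns
  have hnt : Nontrivial G := by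
    by_contra hnt
    rw [not_nontrivial_iff_subsingleton] at hnt
    exact hP ⟨⟨fun a b => Subsingleton.elim _ _⟩⟩
  have hex : ∃ N : Subgroup G, N.Normal ∧ N ≠ ⊥ ∧ N ≠ ⊤ := by
    by_contra hno
    push Not at hno
    apply hns
    exact { exists_pair_ne := hnt.exists_pair_ne
            eq_bot_or_eq_top_of_normal := fun N hN => by
              by_contra hc
              push Not at hc
              exact hc.2 (hno N hN hc.1) }
  obtain ⟨N, hNn, hNb, hNt⟩ := hex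
  haveI := hNn
  obtain ⟨h1, h2⟩ := hmin N hNb hNt
  have hN_ab : ∀ S : Sylow p N, IsMulCommutative S := by
    intro S
    by_contra hS
    exact h1 ⟨⟨S, hS⟩, pcl_normal p N hcl'⟩
  have hQ_ab : ∀ S : Sylow p (G ⧸ N), IsMulCommutative S := by
    intro S
    by_contra hS
    exact h2 ⟨⟨S, hS⟩, pcl_quot p N hcl'⟩
  -- (A) P ∩ N abelian
  have hA : ∀ a ∈ P, a ∈ N → ∀ b ∈ P, b ∈ N → Commute a b := by
    intro a haP haN b hbP hbN
    have hpg : IsPGroup p (((P : Subgroup G) ⊓ N).subgroupOf N) :=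
      (P.isPGroup'.to_le inf_le_left).comap_subtype
    obtain ⟨S, hS⟩ := hpg.exists_le_sylow
    have ha' : (⟨a, haN⟩ : N) ∈ S := hS (by rw [Subgroup.mem_subgroupOf]; exact ⟨haP, haN⟩)
    have hb' : (⟨b, hbN⟩ : N) ∈ S := hS (by rw [Subgroup.mem_subgroupOf]; exact ⟨hbP, hbN⟩)
    have := (hN_ab S).is_comm.comm ⟨_, ha'⟩ ⟨_, hb'⟩
    have h3 := congrArg (fun w : S => ((w : N) : G)) this
    exact h3
  -- (B) image of P abelian
  have hB : ∀ a ∈ P, ∀ b ∈ P, (a : G ⧸ N) * (b : G ⧸ N) = (b : G ⧸ N) * (a : G ⧸ N) := by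
    intro a ha b hb
    have hpg : IsPGroup p ((P : Subgroup G).map (QuotientGroup.mk' N)) :=
      P.isPGroup'.map (QuotientGroup.mk' N)
    obtain ⟨S, hS⟩ := hpg.exists_le_sylow
    have ha' : (a : G ⧸ N) ∈ S := hS (Subgroup.mem_map_of_mem (QuotientGroup.mk' N) ha)
    have hb' : (b : G ⧸ N) ∈ S := hS (Subgroup.mem_map_of_mem (QuotientGroup.mk' N) hb)
    have := (hQ_ab S).is_comm.comm ⟨_, ha'⟩ ⟨_, hb'⟩
    exact congrArg (fun w : S => (w : G ⧸ N)) this
  apply hP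
  refine ⟨⟨fun a b => Subtype.ext ?_⟩⟩
  obtain ⟨za, hzaP, hzac, hzaN⟩ := key p P N hcl' hB a a.2
  obtain ⟨zb, hzbP, hzbc, hzbN⟩ := key p P N hcl' hB b b.2
  -- na = a * za⁻¹ ∈ P ∩ N
  have hnaN : (a : G) * za⁻¹ ∈ N := by
    have := N.inv_mem hzaN
    simpa using this
  have hnbN : (b : G) * zb⁻¹ ∈ N := by
    have := N.inv_mem hzbN
    simpa using this
  have hnaP : (a : G) * za⁻¹ ∈ P := (P : Subgroup G).mul_mem a.2 ((P : Subgroup G).inv_mem hzaP)
  have hnbP : (b : G) * zb⁻¹ ∈ P := (P : Subgroup G).mul_mem b.2 ((P : Subgroup G).inv_mem hzbP)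
  have ea : (a : G) = ((a : G) * za⁻¹) * za := by group
  have eb : (b : G) = ((b : G) * zb⁻¹) * zb := by group
  have hcab : Commute (((a : G) * za⁻¹) * za) (((b : G) * zb⁻¹) * zb) := by
    apply Commute.mul_left
    · apply Commute.mul_right
      · exact hA _ hnaP hnaN _ hnbP hnbN
      · exact (hzbc _ hnaP).symm
    · apply Commute.mul_right
      · exact hzac _ hnbP
      · exact hzac _ hzbP
  change (a : G) * (b : G) = (b : G) * (a : G)
  rw [ea, eb]
  exact hcab.eq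

end Cfsg.Agent.S4354
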