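import Mathlib
import Cfsg.Statements.S4370
import Cfsg.Agent.Lib_helper21_NilpCyc
import Cfsg.Agent.Lib_helper21_QuatCent
import Cfsg.Agent.Lib_helper7_Fitting
import Cfsg.Agent.S0016

set_option autoImplicit false
set_option linter.style.haveILetI false
open Cfsg

namespace Cfsg.Agent.S4370

open Cfsg.Agent.helper21

theorem forward {G : Type*} [Group G] [Finite G] (hG : Group.IsNilpotent G)
    (hna : ¬ IsMulCommutative G)
    (hcyc : ∀ x : G, x ∉ Subgroup.center G → IsCyclic (Subgroup.centralizer ({x} : Set G))) :
    ∃ (k m : ℕ), 1 ≤ k ∧ Odd m ∧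
      Nonempty (G ≃* QuaternionGroup (2 ^ k) × Multiplicative (ZMod m)) := by
  -- (1) a non-central Sylow subgroup
  have h1 : ∃ p : ℕ, p.Prime ∧ ∃ P : Sylow p G, ¬ (P : Subgroup G) ≤ Subgroup.center G := by
    by_contra hcon
    push Not at hcon
    apply hna
    have htop : (⊤ : Subgroup G) ≤ Subgroup.center G := by
      rw [← Cfsg.Agent.helper7.iSup_sylow_eq_top G]
      exact iSup_le fun p => iSup_le fun P => hcon p.1 p.2 P
    refine ⟨⟨fun a b => ?_⟩⟩
    have ha : a ∈ Subgroup.center G := htop (Subgroup.mem_top a)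
    exact (Subgroup.mem_center_iff.mp ha b).symm
  obtain ⟨p, hp, P, hPZ⟩ := h1
  haveI : Fact p.Prime := ⟨hp⟩
  obtain ⟨x, hxP, hxZ⟩ := SetLike.not_le_iff_exists.mp hPZ
  have hPn : (P : Subgroup G).Normal := inferInstance
  -- (2) the complement
  obtain ⟨K, hK⟩ := Subgroup.exists_left_complement'_of_coprime (N := (P : Subgroup G))
    P.card_coprime_index
  have hKcard : Nat.card K = (P : Subgroup G).index := hK.index_eq_card.symm
  have hKcop : (Nat.card K).Coprime p := by
    rw [hKcard]
    exact ((Nat.Prime.coprime_iff_not_dvd hp).mpr P.not_dvd_index).symm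
  have hKord : ∀ h ∈ K, (orderOf h).Coprime p := by
    intro h hh
    have : orderOf h ∣ Nat.card K := by
      have := orderOf_dvd_natCard (⟨h, hh⟩ : K)
      rwa [Subgroup.orderOf_mk] at this
    exact Nat.Coprime.coprime_dvd_left this hKcop
  have hKP : ∀ z ∈ (P : Subgroup G), ∀ k ∈ K, z * k = k * z := by
    intro z hz k hk
    have := coprime_mem_centralizer_sylow P k (hKord k hk)
    rw [Subgroup.mem_centralizer_iff] at this
    exact this z hz
  have hKx : K ≤ Subgroup.centralizer ({x} : Set G) := by
    intro k hk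
    rw [Subgroup.mem_centralizer_singleton_iff]
    exact (hKP x hxP k hk).symm
  haveI hcx : IsCyclic (Subgroup.centralizer ({x} : Set G)) := hcyc x hxZ
  have hKcyc : IsCyclic K := Subgroup.isCyclic_of_le hKx
  have hdecomp : ∀ g : G, ∃ k ∈ K, ∃ z ∈ (P : Subgroup G), g = k * z := by
    intro g
    obtain ⟨⟨⟨k, hk⟩, ⟨z, hz⟩⟩, hg⟩ := (hK.existsUnique g).exists
    exact ⟨k, hk, z, hz, hg.symm⟩
  -- (3) P is not commutative
  have hPnc : ¬ IsMulCommutative ↥(P : Subgroup G) := by
    intro hc
    apply hxZ
    rw [Subgroup.mem_center_iff]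
    intro g
    obtain ⟨k, hk, z, hz, rfl⟩ := hdecomp g
    have e1 : z * x = x * z := by
      have := hc.is_comm.comm (⟨z, hz⟩ : (P : Subgroup G)) ⟨x, hxP⟩
      exact congrArg Subtype.val this
    calc k * z * x = k * (x * z) := by rw [mul_assoc, e1]
      _ = (k * x) * z := by rw [mul_assoc]
      _ = (x * k) * z := by rw [hKP x hxP k hk]
      _ = x * (k * z) := by rw [mul_assoc]
  -- a non-central element of P (as an element of ↥P)
  have hw0 : ∃ w0 : ↥(P : Subgroup G), w0 ∉ Subgroup.center ↥(P : Subgroup G) := by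
    by_contra hcon
    push Not at hcon
    apply hPnc
    refine ⟨⟨fun a b => ?_⟩⟩
    exact (Subgroup.mem_center_iff.mp (hcon a) b).symm
  obtain ⟨w0, hw0⟩ := hw0
  -- centralizers of non-central elements of ↥P are cyclic
  have hPcyc : ∀ w : ↥(P : Subgroup G), w ∉ Subgroup.center ↥(P : Subgroup G) →
      IsCyclic (Subgroup.centralizer ({w} : Set ↥(P : Subgroup G))) := by
    intro w hw
    have hwG : (w : G) ∉ Subgroup.center G := by
      intro hcon
      apply hw
      rw [Subgroup.mem_center_iff] at hcon ⊢
      intro g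
      exact Subtype.ext (hcon (g : G))
    haveI := hcyc (w : G) hwG
    let f : Subgroup.centralizer ({w} : Set ↥(P : Subgroup G)) →*
        Subgroup.centralizer ({(w : G)} : Set G) :=
      (((P : Subgroup G).subtype).comp (Subgroup.centralizer ({w} : Set ↥(P : Subgroup G))).subtype).codRestrict _
        (by
          intro t
          rw [Subgroup.mem_centralizer_singleton_iff]
          have := (Subgroup.mem_centralizer_singleton_iff).mp t.2
          exact congrArg Subtype.val this)
    have hf : Function.Injective f := by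
      intro s t hst
      have := congrArg Subtype.val hst
      exact Subtype.ext (Subtype.ext this)
    exact isCyclic_of_injective f hf
  -- (4) a central element of order p
  have hPp : IsPGroup p ↥(P : Subgroup G) := P.isPGroup'
  haveI hPnt : Nontrivial ↥(P : Subgroup G) := by
    refine ⟨⟨w0, 1, ?_⟩⟩
    intro h
    apply hw0
    rw [h]; exact Subgroup.one_mem _
  haveI := hPp.center_nontrivial
  have hpdvd : p ∣ Nat.card (Subgroup.center ↥(P : Subgroup G)) := by
    obtain ⟨n, hn⟩ := IsPGroup.iff_card.mp (hPp.to_subgroup (Subgroup.center _))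
    have hn0 : n ≠ 0 := by
      intro h0
      rw [h0, pow_zero] at hn
      have := Finite.one_lt_card (α := Subgroup.center ↥(P : Subgroup G))
      omega
    rw [hn]; exact dvd_pow_self p hn0
  obtain ⟨z0', hz0'⟩ := exists_prime_orderOf_dvd_card' p hpdvd
  set z0 : ↥(P : Subgroup G) := (z0' : ↥(P : Subgroup G)) with hz0def
  have hz0 : orderOf z0 = p := by rw [hz0def, Subgroup.orderOf_coe]; exact hz0'
  have hz0c : z0 ∈ Subgroup.center ↥(P : Subgroup G) := z0'.2
  have hkey : ∀ u : ↥(P : Subgroup G), u ^ p = 1 → u ∈ Subgroup.zpowers z0 := by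
    intro u hu
    -- choose w non-central with u ∈ C(w)
    obtain ⟨w, hw, huw⟩ : ∃ w : ↥(P : Subgroup G), w ∉ Subgroup.center ↥(P : Subgroup G) ∧
        u * w = w * u := by
      by_cases huc : u ∈ Subgroup.center ↥(P : Subgroup G)
      · exact ⟨w0, hw0, (Subgroup.mem_center_iff.mp huc w0).symm⟩
      · exact ⟨u, huc, rfl⟩
    haveI := hPcyc w hw
    set T := Subgroup.centralizer ({w} : Set ↥(P : Subgroup G)) with hT
    have huT : u ∈ T := by rw [hT, Subgroup.mem_centralizer_singleton_iff]; exact huw
    have hzT : z0 ∈ T := by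
      rw [hT, Subgroup.mem_centralizer_singleton_iff]
      exact (Subgroup.mem_center_iff.mp hz0c w).symm
    have := mem_zpowers_of_isCyclic_of_pow_eq_one (T := T) hp ⟨z0, hzT⟩ ⟨u, huT⟩
      (by rw [Subgroup.orderOf_mk]; exact hz0) (by ext; simpa using congrArg Subtype.val hu)
    obtain ⟨j, hj⟩ := Subgroup.mem_zpowers_iff.mp this
    rw [Subgroup.mem_zpowers_iff]
    refine ⟨j, ?_⟩
    have := congrArg Subtype.val hj
    simpa using this
  have huniq0 : ∀ H : Subgroup ↥(P : Subgroup G), Nat.card H = p → H = Subgroup.zpowers z0 := by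
    intro H hH
    have hHne : H ≠ ⊥ := by
      intro h
      rw [h, Subgroup.card_bot] at hH
      exact hp.one_lt.ne hH
    obtain ⟨u', hu'⟩ := (Subgroup.ne_bot_iff_exists_ne_one).mp hHne
    set u : ↥(P : Subgroup G) := (u' : ↥(P : Subgroup G)) with hudef
    have huH : u ∈ H := u'.2
    have hu1 : u ≠ 1 := fun h => hu' (Subtype.ext h)
    have hou : orderOf u = p := by
      have hd : orderOf u ∣ p := by
        have hd' := Subgroup.orderOf_dvd_natCard H huH
        rw [hH] at hd'
        exact hd'
      rcases (Nat.dvd_prime hp).mp hd with h | h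
      · exact absurd (orderOf_eq_one_iff.mp h) hu1
      · exact h
    have hup : u ^ p = 1 := by
      have h' := pow_orderOf_eq_one u
      rw [hou] at h'
      exact h'
    have h1 : Subgroup.zpowers u ≤ H := Subgroup.zpowers_le.mpr huH
    have h2 : Subgroup.zpowers u ≤ Subgroup.zpowers z0 := Subgroup.zpowers_le.mpr (hkey u hup)
    have e1 : Subgroup.zpowers u = H := by
      apply Subgroup.eq_of_le_of_card_ge h1
      rw [hH, Nat.card_zpowers, hou]
    have e2 : Subgroup.zpowers u = Subgroup.zpowers z0 := by
      apply Subgroup.eq_of_le_of_card_ge h2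
      rw [Nat.card_zpowers, Nat.card_zpowers, hou, hz0]
    rw [← e1, e2]
  have huniq : ∀ H K : Subgroup ↥(P : Subgroup G), Nat.card H = p → Nat.card K = p → H = K := by
    intro H K hH hK'
    rw [huniq0 H hH, huniq0 K hK']
  -- (5) apply the classification
  rcases Cfsg.Agent.S0016.result p hPp huniq with hc | ⟨hp2, n, ⟨e1⟩⟩
  · exfalso
    apply hPnc
    exact ⟨⟨fun a b => (IsCyclic.commGroup (α := ↥(P : Subgroup G))).mul_comm a b⟩⟩
  · have hn1 : 1 ≤ n := by
      by_contra hn0
      have hn0' : n = 0 := by omega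
      rw [hn0', pow_zero] at e1
      apply hPnc
      haveI : IsCyclic (QuaternionGroup 1) := QuaternionGroup.quaternionGroup_one_isCyclic
      haveI : IsCyclic ↥(P : Subgroup G) := isCyclic_of_injective e1.toMonoidHom e1.injective
      exact ⟨⟨fun a b => (IsCyclic.commGroup (α := ↥(P : Subgroup G))).mul_comm a b⟩⟩
    set m := Nat.card K with hm
    have hmodd : Odd m := by
      rw [hp2] at hKcop
      exact Nat.coprime_two_right.mp hKcop
    have e2 : ↥K ≃* Multiplicative (ZMod m) := (zmodCyclicMulEquiv hKcyc).symm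
    have e3 : ↥(P : Subgroup G) × ↥K ≃* G := mulEquivProdOfComplement (P : Subgroup G) K hK hKP
    exact ⟨n, m, hn1, hmodd, ⟨e3.symm.trans (MulEquiv.prodCongr e1 e2)⟩⟩

/-- A non-abelian finite nilpotent group has all centralizers of non-central elements cyclic iff it is Q_{2^n} × C_m with m odd. -/
theorem result {G : Type*} [Group G] [Finite G] (hG : Group.IsNilpotent G)
    (hna : ¬ IsMulCommutative G) :
    (∀ x : G, x ∉ Subgroup.center G → IsCyclic (Subgroup.centralizer ({x} : Set G))) ↔
      ∃ (k m : ℕ), 1 ≤ k ∧ Odd m ∧ Nonempty (G ≃* QuaternionGroup (2 ^ k) × Multiplicative (ZMod m)) := by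
  constructor
  · exact forward hG hna
  · rintro ⟨k, m, _, hm, ⟨e⟩⟩ x hx
    haveI : NeZero m := ⟨by rintro rfl; simp at hm⟩
    have hcop : (Nat.card (Multiplicative (ZMod m))).Coprime 2 := by
      have : Nat.card (Multiplicative (ZMod m)) = m := by
        rw [Nat.card_eq_fintype_card, Fintype.card_multiplicative, ZMod.card]
      rw [this]
      exact Nat.coprime_two_right.mpr hm
    have hex : e x ∉ Subgroup.center (QuaternionGroup (2 ^ k) × Multiplicative (ZMod m)) := by
      intro hcon
      apply hx
      rw [Subgroup.mem_center_iff] at hcon ⊢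
      intro g
      apply e.injective
      rw [map_mul, map_mul]
      exact hcon (e g)
    haveI := isCyclic_centralizer_quat_prod (n := 2 ^ k) ⟨k, rfl⟩ hcop (e x) hex
    let f : Subgroup.centralizer ({x} : Set G) →*
        Subgroup.centralizer ({e x} : Set (QuaternionGroup (2 ^ k) × Multiplicative (ZMod m))) :=
      (e.toMonoidHom.comp (Subgroup.centralizer ({x} : Set G)).subtype).codRestrict _
        (by
          intro t
          rw [Subgroup.mem_centralizer_singleton_iff]
          have := (Subgroup.mem_centralizer_singleton_iff).mp t.2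
          have h2 := congrArg e this
          simpa using h2)
    have hf : Function.Injective f := by
      intro s t hst
      have := congrArg Subtype.val hst
      exact Subtype.ext (e.injective this)
    exact isCyclic_of_injective f hf

end Cfsg.Agent.S4370
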