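import Cfsg.Statements.S4376
import Cfsg.Agent.Lib_helper28_OTX
import Cfsg.Agent.Lib_helper28_OTg1
import Cfsg.Agent.Lib_helper28_OTg2
import Cfsg.Agent.Lib_helper28_OTg3
import Cfsg.Agent.Lib_helper28_OTg4
import Cfsg.Agent.Lib_helper28_OTg5
import Cfsg.Agent.Lib_helper28_OTg6
import Cfsg.Agent.Lib_helper28_OTg7
import Cfsg.Agent.Lib_helper28_OTg8
import Cfsg.Agent.Lib_helper28_OTg9
import Cfsg.Agent.Lib_helper28_OTg10
import Cfsg.Agent.Lib_helper28_OTg11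
import Cfsg.Agent.Lib_helper28_OTg12
import Cfsg.Agent.Lib_helper28_OTg13
import Cfsg.Agent.Lib_helper28_OTg14
import Cfsg.Agent.Lib_helper28_OTg15
import Cfsg.Agent.Lib_helper28_OTg16
import Cfsg.Agent.Lib_helper28_OTg17
import Cfsg.Agent.Lib_helper28_OTg18
import Cfsg.Agent.Lib_helper28_OTg19
import Cfsg.Agent.Lib_helper28_OTg20
import Cfsg.Agent.Lib_helper28_OTg21
import Cfsg.Agent.Lib_helper28_OTg22
import Cfsg.Agent.Lib_helper28_OTg23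
import Cfsg.Agent.Lib_helper28_OTg24
import Cfsg.Agent.Lib_helper28_OTg25

set_option autoImplicit false
set_option synthInstance.maxHeartbeats 8000000
set_option synthInstance.maxSize 8192
set_option maxHeartbeats 16000000
open Cfsg

namespace Cfsg.Agent.S4376

open Cfsg.Agent.helper28.OT

theorem FvX_1 : F X 1 = 1 := by rw [F_eq_Fc]; exact fvX.1.1
theorem FvX_2 : F X 2 = 22 := by rw [F_eq_Fc]; exact fvX.1.2.1
theorem FvX_3 : F X 3 = 57 := by rw [F_eq_Fc]; exact fvX.1.2.2.1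
theorem FvX_4 : F X 4 = 64 := by rw [F_eq_Fc]; exact fvX.1.2.2.2.1
theorem FvX_6 : F X 6 = 78 := by rw [F_eq_Fc]; exact fvX.1.2.2.2.2.1
theorem FvX_7 : F X 7 = 49 := by rw [F_eq_Fc]; exact fvX.1.2.2.2.2.2.1
theorem FvX_12 : F X 12 = 120 := by rw [F_eq_Fc]; exact fvX.1.2.2.2.2.2.2.1
theorem FvX_14 : F X 14 = 70 := by rw [F_eq_Fc]; exact fvX.1.2.2.2.2.2.2.2.1
theorem FvX_21 : F X 21 = 105 := by rw [F_eq_Fc]; exact fvX.1.2.2.2.2.2.2.2.2.1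
theorem FvX_28 : F X 28 = 112 := by rw [F_eq_Fc]; exact fvX.1.2.2.2.2.2.2.2.2.2.1
theorem FvX_42 : F X 42 = 126 := by rw [F_eq_Fc]; exact fvX.1.2.2.2.2.2.2.2.2.2.2.1
theorem FvX_84 : F X 84 = 168 := by rw [F_eq_Fc]; exact fvX.1.2.2.2.2.2.2.2.2.2.2.2
theorem exX : ∀ x : X, x ^ 84 = 1 := fvX.2

/-- the solvable group -/
abbrev GG := (Fin 2 → G5) × (Fin 12 → G7) × (Fin 6 → G9) × (Fin 36 → G12) × (Fin 6 → G13) × (Fin 21 → G14) × (Fin 12 → G15) × (Fin 6 → G16) × (Fin 4 → G18) × (Fin 3 → G21) × (Fin 15 → G22) × (Fin 6 → G23)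

/-- the solvable part of the second group -/
abbrev HR := (Fin 8 → G1) × (Fin 6 → G2) × (Fin 3 → G3) × (Fin 12 → G4) × (Fin 18 → G6) × (Fin 21 → G8) × (Fin 12 → G10) × (Fin 17 → G11) × (Fin 3 → G17) × (Fin 12 → G19) × (Fin 19 → G20) × (Fin 9 → G24) × (Fin 6 → G25)

/-- the non-solvable group -/
abbrev HH := (Fin 6 → X) × HR

theorem exGG : ∀ x : GG, x ^ 84 = 1 :=
  pow_prod 84 (pow_pi 84 ex5) (pow_prod 84 (pow_pi 84 ex7) (pow_prod 84 (pow_pi 84 ex9) (pow_prod 84 (pow_pi 84 ex12) (pow_prod 84 (pow_pi 84 ex13) (pow_prod 84 (pow_pi 84 ex14) (pow_prod 84 (pow_pi 84 ex15) (pow_prod 84 (pow_pi 84 ex16) (pow_prod 84 (pow_pi 84 ex18) (pow_prod 84 (pow_pi 84 ex21) (pow_prod 84 (pow_pi 84 ex22) (pow_pi 84 ex23)))))))))))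

theorem exHH : ∀ x : HH, x ^ 84 = 1 :=
  pow_prod 84 (pow_pi 84 exX) (pow_prod 84 (pow_pi 84 ex1) (pow_prod 84 (pow_pi 84 ex2) (pow_prod 84 (pow_pi 84 ex3) (pow_prod 84 (pow_pi 84 ex4) (pow_prod 84 (pow_pi 84 ex6) (pow_prod 84 (pow_pi 84 ex8) (pow_prod 84 (pow_pi 84 ex10) (pow_prod 84 (pow_pi 84 ex11) (pow_prod 84 (pow_pi 84 ex17) (pow_prod 84 (pow_pi 84 ex19) (pow_prod 84 (pow_pi 84 ex20) (pow_prod 84 (pow_pi 84 ex24) (pow_pi 84 ex25)))))))))))))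

theorem FGH_1 : F GG 1 = F HH 1 := by
  delta GG HH HR
  simp only [F_prod, F_pi, Nat.card_eq_fintype_card, Fintype.card_fin, FvX_1, Fv1_1, Fv2_1, Fv3_1, Fv4_1, Fv5_1, Fv6_1, Fv7_1, Fv8_1, Fv9_1, Fv10_1, Fv11_1, Fv12_1, Fv13_1, Fv14_1, Fv15_1, Fv16_1, Fv17_1, Fv18_1, Fv19_1, Fv20_1, Fv21_1, Fv22_1, Fv23_1, Fv24_1, Fv25_1]
  norm_num

theorem FGH_2 : F GG 2 = F HH 2 := by
  delta GG HH HR
  simp only [F_prod, F_pi, Nat.card_eq_fintype_card, Fintype.card_fin, FvX_2, Fv1_2, Fv2_2, Fv3_2, Fv4_2, Fv5_2, Fv6_2, Fv7_2, Fv8_2, Fv9_2, Fv10_2, Fv11_2, Fv12_2, Fv13_2, Fv14_2, Fv15_2, Fv16_2, Fv17_2, Fv18_2, Fv19_2, Fv20_2, Fv21_2, Fv22_2, Fv23_2, Fv24_2, Fv25_2]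
  norm_num

theorem FGH_3 : F GG 3 = F HH 3 := by
  delta GG HH HR
  simp only [F_prod, F_pi, Nat.card_eq_fintype_card, Fintype.card_fin, FvX_3, Fv1_3, Fv2_3, Fv3_3, Fv4_3, Fv5_3, Fv6_3, Fv7_3, Fv8_3, Fv9_3, Fv10_3, Fv11_3, Fv12_3, Fv13_3, Fv14_3, Fv15_3, Fv16_3, Fv17_3, Fv18_3, Fv19_3, Fv20_3, Fv21_3, Fv22_3, Fv23_3, Fv24_3, Fv25_3]
  norm_num

theorem FGH_4 : F GG 4 = F HH 4 := by
  delta GG HH HR
  simp only [F_prod, F_pi, Nat.card_eq_fintype_card, Fintype.card_fin, FvX_4, Fv1_4, Fv2_4, Fv3_4, Fv4_4, Fv5_4, Fv6_4, Fv7_4, Fv8_4, Fv9_4, Fv10_4, Fv11_4, Fv12_4, Fv13_4, Fv14_4, Fv15_4, Fv16_4, Fv17_4, Fv18_4, Fv19_4, Fv20_4, Fv21_4, Fv22_4, Fv23_4, Fv24_4, Fv25_4]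
  norm_num

theorem FGH_6 : F GG 6 = F HH 6 := by
  delta GG HH HR
  simp only [F_prod, F_pi, Nat.card_eq_fintype_card, Fintype.card_fin, FvX_6, Fv1_6, Fv2_6, Fv3_6, Fv4_6, Fv5_6, Fv6_6, Fv7_6, Fv8_6, Fv9_6, Fv10_6, Fv11_6, Fv12_6, Fv13_6, Fv14_6, Fv15_6, Fv16_6, Fv17_6, Fv18_6, Fv19_6, Fv20_6, Fv21_6, Fv22_6, Fv23_6, Fv24_6, Fv25_6]
  norm_num

theorem FGH_7 : F GG 7 = F HH 7 := by
  delta GG HH HR
  simp only [F_prod, F_pi, Nat.card_eq_fintype_card, Fintype.card_fin, FvX_7, Fv1_7, Fv2_7, Fv3_7, Fv4_7, Fv5_7, Fv6_7, Fv7_7, Fv8_7, Fv9_7, Fv10_7, Fv11_7, Fv12_7, Fv13_7, Fv14_7, Fv15_7, Fv16_7, Fv17_7, Fv18_7, Fv19_7, Fv20_7, Fv21_7, Fv22_7, Fv23_7, Fv24_7, Fv25_7]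
  norm_num

theorem FGH_12 : F GG 12 = F HH 12 := by
  delta GG HH HR
  simp only [F_prod, F_pi, Nat.card_eq_fintype_card, Fintype.card_fin, FvX_12, Fv1_12, Fv2_12, Fv3_12, Fv4_12, Fv5_12, Fv6_12, Fv7_12, Fv8_12, Fv9_12, Fv10_12, Fv11_12, Fv12_12, Fv13_12, Fv14_12, Fv15_12, Fv16_12, Fv17_12, Fv18_12, Fv19_12, Fv20_12, Fv21_12, Fv22_12, Fv23_12, Fv24_12, Fv25_12]
  norm_num

theorem FGH_14 : F GG 14 = F HH 14 := by
  delta GG HH HR
  simp only [F_prod, F_pi, Nat.card_eq_fintype_card, Fintype.card_fin, FvX_14, Fv1_14, Fv2_14, Fv3_14, Fv4_14, Fv5_14, Fv6_14, Fv7_14, Fv8_14, Fv9_14, Fv10_14, Fv11_14, Fv12_14, Fv13_14, Fv14_14, Fv15_14, Fv16_14, Fv17_14, Fv18_14, Fv19_14, Fv20_14, Fv21_14, Fv22_14, Fv23_14, Fv24_14, Fv25_14]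
  norm_num

theorem FGH_21 : F GG 21 = F HH 21 := by
  delta GG HH HR
  simp only [F_prod, F_pi, Nat.card_eq_fintype_card, Fintype.card_fin, FvX_21, Fv1_21, Fv2_21, Fv3_21, Fv4_21, Fv5_21, Fv6_21, Fv7_21, Fv8_21, Fv9_21, Fv10_21, Fv11_21, Fv12_21, Fv13_21, Fv14_21, Fv15_21, Fv16_21, Fv17_21, Fv18_21, Fv19_21, Fv20_21, Fv21_21, Fv22_21, Fv23_21, Fv24_21, Fv25_21]
  norm_num

theorem FGH_28 : F GG 28 = F HH 28 := by
  delta GG HH HR
  simp only [F_prod, F_pi, Nat.card_eq_fintype_card, Fintype.card_fin, FvX_28, Fv1_28, Fv2_28, Fv3_28, Fv4_28, Fv5_28, Fv6_28, Fv7_28, Fv8_28, Fv9_28, Fv10_28, Fv11_28, Fv12_28, Fv13_28, Fv14_28, Fv15_28, Fv16_28, Fv17_28, Fv18_28, Fv19_28, Fv20_28, Fv21_28, Fv22_28, Fv23_28, Fv24_28, Fv25_28]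
  norm_num

theorem FGH_42 : F GG 42 = F HH 42 := by
  delta GG HH HR
  simp only [F_prod, F_pi, Nat.card_eq_fintype_card, Fintype.card_fin, FvX_42, Fv1_42, Fv2_42, Fv3_42, Fv4_42, Fv5_42, Fv6_42, Fv7_42, Fv8_42, Fv9_42, Fv10_42, Fv11_42, Fv12_42, Fv13_42, Fv14_42, Fv15_42, Fv16_42, Fv17_42, Fv18_42, Fv19_42, Fv20_42, Fv21_42, Fv22_42, Fv23_42, Fv24_42, Fv25_42]
  norm_num

theorem FGH_84 : F GG 84 = F HH 84 := by
  delta GG HH HR
  simp only [F_prod, F_pi, Nat.card_eq_fintype_card, Fintype.card_fin, FvX_84, Fv1_84, Fv2_84, Fv3_84, Fv4_84, Fv5_84, Fv6_84, Fv7_84, Fv8_84, Fv9_84, Fv10_84, Fv11_84, Fv12_84, Fv13_84, Fv14_84, Fv15_84, Fv16_84, Fv17_84, Fv18_84, Fv19_84, Fv20_84, Fv21_84, Fv22_84, Fv23_84, Fv24_84, Fv25_84]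
  norm_num

theorem card_X : Nat.card X = 168 := by
  have h := FvX_84
  unfold F at h
  rw [← h]
  exact (Nat.card_congr (Equiv.subtypeUnivEquiv (fun x => exX x))).symm

theorem X_not_solvable : ¬ Group.IsSolvable X := by
  haveI : Nontrivial X := by
    apply (Finite.one_lt_card_iff_nontrivial).mp
    rw [card_X]
    norm_num
  apply not_solvable_of_counts
  intro p hp hdvd
  rw [card_X] at hdvd ⊢
  have hdvd' : p ∣ 2 ^ 3 * (3 * 7) := by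
    norm_num
    exact hdvd
  rcases (Nat.Prime.dvd_mul hp).mp hdvd' with h | h
  · have := (Nat.prime_dvd_prime_iff_eq hp Nat.prime_two).mp (hp.dvd_of_dvd_pow h)
    subst this
    exact ⟨21, by norm_num, by rw [FvX_21]; norm_num⟩
  · rcases (Nat.Prime.dvd_mul hp).mp h with h | h
    · have := (Nat.prime_dvd_prime_iff_eq hp Nat.prime_three).mp h
      subst this
      exact ⟨28, by norm_num, by rw [FvX_28]; norm_num⟩
    · have := (Nat.prime_dvd_prime_iff_eq hp (by norm_num : Nat.Prime 7)).mp h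
      subst this
      exact ⟨12, by norm_num, by rw [FvX_12]; norm_num⟩

/-- There are finite groups G and H having the same number of elements of each order (the same order type) with G solvable and H not solvable. -/
theorem result :
    ∃ (G : Type) (_ : Group G) (_ : Finite G) (H : Type) (_ : Group H) (_ : Finite H),
      Group.IsSolvable G ∧ ¬ Group.IsSolvable H ∧ ∀ n : ℕ, Nat.card {g : G // orderOf g = n} = Nat.card {h : H // orderOf h = n} := by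
  refine ⟨GG, inferInstance, inferInstance, HH, inferInstance, inferInstance, inferInstance, ?_, ?_⟩
  · intro hs
    apply X_not_solvable
    exact Group.isSolvable_of_surjective
      (f := (Pi.evalMonoidHom (fun _ : Fin 6 => X) 0).comp (MonoidHom.fst (Fin 6 → X) HR))
      (fun x => ⟨((fun _ => x), (1 : HR)), rfl⟩)
  · refine count_eq_of_F_eq GG HH (fun n => ?_)
    rw [F_gcd GG 84 exGG n, F_gcd HH 84 exHH n]
    have hmem : Nat.gcd n 84 ∈ Nat.divisors 84 :=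
      Nat.mem_divisors.mpr ⟨Nat.gcd_dvd_right n 84, by norm_num⟩
    have hdivs : Nat.divisors 84 = {1, 2, 3, 4, 6, 7, 12, 14, 21, 28, 42, 84} := by decide
    rw [hdivs] at hmem
    simp only [Finset.mem_insert, Finset.mem_singleton] at hmem
    rcases hmem with h | h | h | h | h | h | h | h | h | h | h | h <;> rw [h]

    · exact FGH_1
    · exact FGH_2
    · exact FGH_3
    · exact FGH_4
    · exact FGH_6
    · exact FGH_7
    · exact FGH_12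
    · exact FGH_14
    · exact FGH_21
    · exact FGH_28
    · exact FGH_42
    · exact FGH_84

end Cfsg.Agent.S4376
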