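import Mathlib
import Cfsg.Statements.S4399
import Cfsg.Agent.Lib_helper17_MaxClass2
import Cfsg.Agent.Lib_helper11_DihPres
import Cfsg.Agent.Lib_helper11_QuatPres

set_option autoImplicit false

open Cfsg

namespace Cfsg.Agent.S4399

open Cfsg.Agent.helper17.MC2

theorem result {S : Type*} [Group S] [Finite S] (h2 : IsPGroup 2 S) (hab : Nat.card (Abelianization S) = 4)
    (hexp : ∀ x : Abelianization S, x ^ 2 = 1) :
    Nat.card S = 4 ∨
    ((∃ k : ℕ, Nonempty (S ≃* DihedralGroup (2 ^ (k + 2)))) ∨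
      (∃ k : ℕ, Nat.card S = 2 ^ (k + 4) ∧ ∃ a b : S, orderOf a = 2 ^ (k + 3) ∧ orderOf b = 2 ∧ b * a * b⁻¹ = a ^ (2 ^ (k + 2) - 1)) ∨
      (∃ k : ℕ, Nonempty (S ≃* QuaternionGroup (2 ^ (k + 1))))) := by
  haveI : Fact (Nat.Prime 2) := ⟨Nat.prime_two⟩
  obtain ⟨n, hS⟩ := IsPGroup.iff_card.1 h2
  have hidx : (commutator S).index = 4 := by
    rw [Subgroup.index_eq_card]; exact hab
  have hcm := (commutator S).card_mul_index
  rw [hidx, hS] at hcm
  have hpos : 0 < Nat.card (commutator S) := Nat.card_pos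
  have hn2 : 2 ≤ n := by
    by_contra hlt
    have hn1 : n ≤ 1 := by omega
    have : 2 ^ n ≤ 2 ^ 1 := Nat.pow_le_pow_right (by norm_num) hn1
    omega
  rcases Nat.lt_or_ge n 3 with hn3 | hn3
  · left
    have : n = 2 := by omega
    rw [hS, this]; norm_num
  right
  obtain ⟨a, b, ha, hb, hcases⟩ := taussky n S hn3 hS hidx
  have hb1 : b ≠ 1 := fun h => hb (h ▸ Subgroup.one_mem _)
  rcases hcases with ⟨hb2, hba⟩ | ⟨hb2, hba⟩ | ⟨h4, hb2, hba⟩
  · -- dihedral
    left
    refine ⟨n - 3, ?_⟩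
    have hm : n - 3 + 2 = n - 1 := by omega
    rw [hm]
    haveI : NeZero (2 ^ (n - 1)) := ⟨by positivity⟩
    have hx : a ^ (2 ^ (n - 1)) = 1 := by rw [← ha]; exact pow_orderOf_eq_one a
    have hy : b * b = 1 := by rw [← pow_two]; exact hb2
    have hinj := Cfsg.Agent.helper11.DihPres.dihHom_injective (n := 2 ^ (n - 1)) hx ha hy hba hb
    have hbij : Function.Bijective (Cfsg.Agent.helper11.DihPres.dihHom a b hx hy hba) := by
      apply hinj.bijective_of_nat_card_le
      rw [DihedralGroup.nat_card, hS]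
      have : 2 ^ n = 2 * 2 ^ (n - 1) := by
        conv_lhs => rw [show n = (n - 1) + 1 by omega, pow_succ']
      omega
    exact ⟨(MulEquiv.ofBijective _ hbij).symm⟩
  · -- quaternion
    right; right
    refine ⟨n - 3, ?_⟩
    have hm : n - 3 + 1 = n - 2 := by omega
    rw [hm]
    haveI : NeZero (2 ^ (n - 2)) := ⟨by positivity⟩
    have hord : orderOf a = 2 * 2 ^ (n - 2) := by
      rw [ha]
      conv_lhs => rw [show n - 1 = (n - 2) + 1 by omega, pow_succ']
    have h2le : 2 ≤ 2 ^ (n - 2) := by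
      calc 2 = 2 ^ 1 := by norm_num
        _ ≤ 2 ^ (n - 2) := Nat.pow_le_pow_right (by norm_num) (by omega)
    have hinj := Cfsg.Agent.helper11.QuatPres.quatHom_injective (n := 2 ^ (n - 2)) h2le hord hb2 hba
    have hbij := hinj.bijective_of_nat_card_le (by
      rw [Nat.card_eq_fintype_card (α := QuaternionGroup (2 ^ (n - 2))), QuaternionGroup.card, hS]
      have : 2 ^ n = 4 * 2 ^ (n - 2) := by
        conv_lhs => rw [show n = (n - 2) + 2 by omega, pow_add]
        ring
      omega)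
    exact ⟨(MulEquiv.ofBijective _ hbij).symm⟩
  · -- semidihedral
    right; left
    refine ⟨n - 4, ?_, a, b, ?_, ?_, ?_⟩
    · rw [hS]; congr 1; omega
    · rw [ha]; congr 1; omega
    · exact orderOf_eq_prime hb2 hb1
    · rw [hba]; congr 2; congr 1; omega

end Cfsg.Agent.S4399
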