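import Mathlib
import Cfsg.Statements.S4398
import Cfsg.Agent.S4399
import Cfsg.Agent.Lib_helper9_SecRank3

set_option autoImplicit false
open Cfsg

namespace Cfsg.Agent.S4398

open Cfsg.Agent.helper9.SecRank

theorem dihedral_four_noncomm : ¬ IsMulCommutative (DihedralGroup 4) := by
  intro hc
  have := hc.is_comm.comm (DihedralGroup.r (1 : ZMod 4)) (DihedralGroup.sr 0)
  revert this
  decide

theorem quaternion_two_noncomm : ¬ IsMulCommutative (QuaternionGroup 2) := by
  intro hc
  have := hc.is_comm.comm (QuaternionGroup.a (1 : ZMod (2 * 2))) (QuaternionGroup.xa 0)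
  revert this
  decide

/-- Let S be a finite 2-group of sectional 2-rank at most 2 that contains a subgroup isomorphic to the dihedral group of order 8 or to the quaternion group of order 8. Then S is dihedral of order at least 8, semidihedral of order at least 16 (order 2^(k+4) with an element a of order 2^(k+3) and an involution b with b a b⁻¹ = a^(2^(k+2)−1)), or generalized quaternion of order at least 8. -/
theorem result {S : Type*} [Group S] [Finite S] (h2 : IsPGroup 2 S) (hr : Cfsg.SectionalPRankLE 2 2 S)
    (hsub : ∃ H : Subgroup S, Nonempty (↥H ≃* DihedralGroup 4) ∨ Nonempty (↥H ≃* QuaternionGroup 2)) :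
    ((∃ k : ℕ, Nonempty (S ≃* DihedralGroup (2 ^ (k + 2)))) ∨
      (∃ k : ℕ, Nat.card S = 2 ^ (k + 4) ∧ ∃ a b : S, orderOf a = 2 ^ (k + 3) ∧ orderOf b = 2 ∧ b * a * b⁻¹ = a ^ (2 ^ (k + 2) - 1)) ∨
      (∃ k : ℕ, Nonempty (S ≃* QuaternionGroup (2 ^ (k + 1))))) := by
  obtain ⟨H, hH⟩ := hsub
  have hH' : Nat.card ↥H = 8 ∧ ¬ IsMulCommutative ↥H := by
    rcases hH with ⟨⟨e⟩⟩ | ⟨⟨e⟩⟩
    · refine ⟨by rw [Nat.card_congr e.toEquiv, DihedralGroup.nat_card], ?_⟩
      intro hc
      apply dihedral_four_noncomm
      refine ⟨⟨fun a b => ?_⟩⟩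
      have h1 := hc.is_comm.comm (e.symm a) (e.symm b)
      have h2' := congrArg e h1
      simpa using h2'
    · refine ⟨by rw [Nat.card_congr e.toEquiv, Nat.card_eq_fintype_card, QuaternionGroup.card], ?_⟩
      intro hc
      apply quaternion_two_noncomm
      refine ⟨⟨fun a b => ?_⟩⟩
      have h1 := hc.is_comm.comm (e.symm a) (e.symm b)
      have h2' := congrArg e h1
      simpa using h2'
  have hidx : (commutator S).index = 4 :=
    commutator_index_four _ S rfl h2 hr ⟨H, hH'.1, hH'.2⟩
  have hab : Nat.card (Abelianization S) = 4 := by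
    rw [← hidx]; exact (Subgroup.index_eq_card _).symm
  have hna : ¬ IsMulCommutative S := by
    intro hc
    apply hH'.2
    exact ⟨⟨fun a b => Subtype.ext (hc.is_comm.comm a.1 b.1)⟩⟩
  have hexp : ∀ x : Abelianization S, x ^ 2 = 1 := by
    obtain ⟨D, hDn, hDsq, hDi⟩ := exists_sq_subgroup h2 hna
    have hXD : commutator S ≤ D := commutator_le_of_sq_mem D hDsq
    have h1 := Subgroup.index_dvd_of_le hXD
    rw [hidx] at h1
    have h4 : D.index = 4 := by
      have := Nat.le_of_dvd (by norm_num) h1
      omega
    have hDeq : commutator S = D := by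
      apply Subgroup.eq_of_le_of_card_ge hXD
      have e1 := (commutator S).card_mul_index
      have e2 := D.card_mul_index
      rw [hidx] at e1
      rw [h4] at e2
      omega
    have hexp' : ∀ x : S ⧸ commutator S, x ^ 2 = 1 := by
      intro x
      induction x using QuotientGroup.induction_on with
      | H s =>
        rw [← QuotientGroup.mk_pow, QuotientGroup.eq_one_iff, hDeq]
        exact hDsq s
    exact hexp'
  rcases Cfsg.Agent.S4399.result h2 hab hexp with h | h
  · exfalso
    have := Subgroup.card_le_card_group H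
    rw [hH'.1, h] at this
    omega
  · exact h

end Cfsg.Agent.S4398
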