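import Mathlib
import Cfsg.Statements.S4401
import Cfsg.Agent.Lib_helper9_SecRank2

set_option autoImplicit false
open Cfsg

namespace Cfsg.Agent.S4401

open Cfsg.Agent.helper9 Cfsg.Agent.helper9.SecRank

/-- Let S be a finite 2-group of sectional 2-rank at most 4 and P a proper non-abelian subgroup whose centre has order 2. Let S₀ be the centralizer in S of Z(P) and suppose P is normal in S₀. Then either S₀ = S, or P has sectional 2-rank at most 2 and S₀ has index 2 in S. -/
theorem result {S : Type*} [Group S] [Finite S] (h2 : IsPGroup 2 S) (hr : Cfsg.SectionalPRankLE 2 4 S)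
    (P : Subgroup S) (hPlt : P ≠ ⊤) (hP : ¬ IsMulCommutative ↥P) (hZP : Nat.card ↥(Subgroup.center ↥P) = 2)
    (S₀ : Subgroup S) (hS₀ : S₀ = Subgroup.centralizer (((Subgroup.center ↥P).map P.subtype : Subgroup S) : Set S))
    (hPn : ∀ s ∈ S₀, ∀ x ∈ P, s * x * s⁻¹ ∈ P) :
    S₀ = ⊤ ∨ (Cfsg.SectionalPRankLE 2 2 ↥P ∧ S₀.index = 2) := by
  haveI : Fact (Nat.Prime 2) := ⟨Nat.prime_two⟩
  obtain ⟨z, hg, hmap⟩ := good_of_hyps P hP hZP
  have hS₀mem : ∀ s, s ∈ S₀ ↔ s * z = z * s := by
    intro s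
    rw [hS₀, Subgroup.mem_centralizer_iff]
    constructor
    · intro h
      exact (h z ((hmap z).2 (Or.inr rfl))).symm
    · intro h u hu
      rcases (hmap u).1 hu with h1 | h1
      · rw [h1, one_mul, mul_one]
      · rw [h1]; exact h.symm
  by_cases hS : S₀ = ⊤
  · left; exact hS
  right
  -- basic facts on z
  have hzz : z * z = 1 := by
    have h1 : z * z ∈ P := P.mul_mem hg.mem hg.mem
    rcases hg.only (z * z) h1 (fun p hp => by
      rw [mul_assoc, ← hg.comm p hp, ← mul_assoc, ← hg.comm p hp, mul_assoc]) with h | h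
    · exact h
    · exfalso; apply hg.ne_one
      have : z * z = z * 1 := by rw [h, mul_one]
      exact mul_left_cancel this
  have hzinv : z⁻¹ = z := inv_eq_of_mul_eq_one_right hzz
  have hPS : P ≤ S₀ := fun p hp => (hS₀mem p).2 (hg.comm p hp)
  have hzS₀ : z ∈ S₀ := hPS hg.mem
  -- normalizer
  haveI : Group.IsNilpotent S := h2.isNilpotent
  have hnc : NormalizerCondition S := normalizerCondition_of_isNilpotent
  have hlt := hnc S₀ (lt_top_iff_ne_top.2 hS)
  obtain ⟨x, hxT, hxS⟩ := SetLike.exists_of_lt hlt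
  set T := Subgroup.normalizer (S₀ : Set S) with hT
  have hS₀T : S₀ ≤ T := Subgroup.le_normalizer
  have hTn : ∀ t ∈ T, ∀ s ∈ S₀, t * s * t⁻¹ ∈ S₀ := fun t ht s hs =>
    (Subgroup.mem_normalizer_iff.1 ht s).1 hs
  have hTn' : ∀ t ∈ T, ∀ s ∈ S₀, t⁻¹ * s * t ∈ S₀ := fun t ht s hs =>
    (Subgroup.mem_normalizer_iff''.1 ht s).1 hs
  -- conjugates of P under T
  have hconjle : ∀ t ∈ T, P.map (MulAut.conj t).toMonoidHom ≤ S₀ := by
    intro t ht u hu
    obtain ⟨p, hp, rfl⟩ := Subgroup.mem_map.1 hu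
    exact hTn t ht p (hPS hp)
  have hconjn : ∀ t ∈ T, ∀ s ∈ S₀, ∀ u ∈ P.map (MulAut.conj t).toMonoidHom,
      s * u * s⁻¹ ∈ P.map (MulAut.conj t).toMonoidHom := by
    intro t ht s hs u hu
    obtain ⟨p, hp, rfl⟩ := Subgroup.mem_map.1 hu
    refine Subgroup.mem_map.2 ⟨(t⁻¹ * s * t) * p * (t⁻¹ * s * t)⁻¹,
      hPn _ (hTn' t ht s hs) p hp, ?_⟩
    show t * ((t⁻¹ * s * t) * p * (t⁻¹ * s * t)⁻¹) * t⁻¹ = s * (t * p * t⁻¹) * s⁻¹
    group
  -- conjugates of z under T are central in S₀
  have hzt : ∀ t ∈ T, ∀ s ∈ S₀, (t * z * t⁻¹) * s = s * (t * z * t⁻¹) := by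
    intro t ht s hs
    have h1 := (hS₀mem _).1 (hTn' t ht s hs)
    calc t * z * t⁻¹ * s = t * (z * (t⁻¹ * s * t)) * t⁻¹ := by group
      _ = t * ((t⁻¹ * s * t) * z) * t⁻¹ := by rw [h1]
      _ = s * (t * z * t⁻¹) := by group
  have hztS₀ : ∀ t ∈ T, t * z * t⁻¹ ∈ S₀ := fun t ht => hTn t ht z hzS₀
  have hzt1 : ∀ t : S, t * z * t⁻¹ ≠ 1 := by
    intro t h
    apply hg.ne_one
    have : z = t⁻¹ * (t * z * t⁻¹) * t := by group
    rw [this, h]; group
  set z2 := x * z * x⁻¹ with hz2
  set P2 := P.map (MulAut.conj x).toMonoidHom with hP2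
  have hg2 : Good P2 z2 := hg.conj x
  have hne12 : z ≠ z2 := by
    intro h
    apply hxS
    rw [hS₀mem]
    calc x * z = x * z * x⁻¹ * x := by group
      _ = z * x := by rw [← hz2, ← h]
  obtain ⟨hc12, hinf12, hcent12⟩ := rel4400 h2 hr S₀ P P2 hPS (hconjle x hxT) hPn
    (hconjn x hxT) hg hg2 hne12
  have hzz2 : z * z2 = z2 * z := ((hS₀mem z2).1 (hztS₀ x hxT)).symm
  -- (C)
  have hC : ∀ t ∈ T, t * z * t⁻¹ = z ∨ t * z * t⁻¹ = z2 := by
    intro t ht
    have h1 := hcent12 _ (hztS₀ t ht) (fun p hp => hzt t ht p (hPS hp))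
      (fun q hq => hzt t ht q (hconjle x hxT hq))
    rcases h1 with h1 | h1 | h1 | h1
    · exact absurd h1 (hzt1 t)
    · left; exact h1
    · right; exact h1
    · exfalso
      have hgt : Good (P.map (MulAut.conj t).toMonoidHom) (t * z * t⁻¹) := hg.conj t
      have hne1 : z ≠ t * z * t⁻¹ := by
        rw [h1]; intro h
        apply hzt1 x
        have : z * 1 = z * z2 := by rw [mul_one]; exact h
        exact (mul_left_cancel this).symm
      have hne2 : z2 ≠ t * z * t⁻¹ := by
        rw [h1]; intro h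
        apply hg.ne_one
        have : 1 * z2 = z * z2 := by rw [one_mul]; exact h
        exact (mul_right_cancel this).symm
      obtain ⟨hca, -, -⟩ := rel4400 h2 hr S₀ P _ hPS (hconjle t ht) hPn
        (hconjn t ht) hg hgt hne1
      obtain ⟨hcb, -, -⟩ := rel4400 h2 hr S₀ P2 _ (hconjle x hxT) (hconjle t ht)
        (hconjn x hxT) (hconjn t ht) hg2 hgt hne2
      obtain ⟨a, ha, b, hb, hab⟩ := hgt.nonab
      apply hab
      have hacent := hcent12 a (hconjle t ht ha) (fun p hp => (hca p hp a ha).symm)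
        (fun q hq => (hcb q hq a ha).symm)
      have hbS : b ∈ S₀ := hconjle t ht hb
      have e1 : z * b = b * z := ((hS₀mem b).1 hbS).symm
      have e2 : z2 * b = b * z2 := hzt x hxT b hbS
      rcases hacent with h | h | h | h <;> rw [h]
      · rw [one_mul, mul_one]
      · exact e1
      · exact e2
      · rw [mul_assoc, e2, ← mul_assoc, e1, mul_assoc]
  -- x z2 x⁻¹ = z
  have hxz2 : x * z2 * x⁻¹ = z := by
    have h1 : x * z2 * x⁻¹ = (x * x) * z * (x * x)⁻¹ := by rw [hz2]; group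
    rcases hC (x * x) (T.mul_mem hxT hxT) with h | h
    · rw [h1, h]
    · exfalso
      apply hne12
      rw [← h1, hz2] at h
      have h3 := mul_left_cancel (mul_right_cancel h)
      rw [← h3]
  have hz2z2 : z2 * z2 = 1 := by
    rw [hz2]
    calc x * z * x⁻¹ * (x * z * x⁻¹) = x * (z * z) * x⁻¹ := by group
      _ = 1 := by rw [hzz]; group
  set w := z * z2 with hw
  have hw1 : w ≠ 1 := by
    intro h
    apply hne12
    have : z * z2 = z * z := by rw [← hw, h, hzz]
    exact (mul_left_cancel this).symm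
  have hzw : z * w = z2 := by rw [hw, ← mul_assoc, hzz, one_mul]
  -- w is central in T
  have hCz2 : ∀ t ∈ T, t * z2 * t⁻¹ = z ∨ t * z2 * t⁻¹ = z2 := by
    intro t ht
    have h1 : t * z2 * t⁻¹ = (t * x) * z * (t * x)⁻¹ := by rw [hz2]; group
    rw [h1]
    exact hC _ (T.mul_mem ht hxT)
  have hwT : ∀ t ∈ T, t * w * t⁻¹ = w := by
    intro t ht
    have h1 : t * w * t⁻¹ = (t * z * t⁻¹) * (t * z2 * t⁻¹) := by rw [hw]; group
    have hinj : t * z * t⁻¹ ≠ t * z2 * t⁻¹ := fun h =>
      hne12 (mul_left_cancel (mul_right_cancel h))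
    rw [h1]
    rcases hC t ht with h | h <;> rcases hCz2 t ht with h' | h'
    · exact absurd (h.trans h'.symm) hinj
    · rw [h, h']
    · rw [h, h']; exact hzz2.symm
    · exact absurd (h.trans h'.symm) hinj
  -- central elements of T
  have hZT : ∀ c ∈ T, (∀ t ∈ T, c * t = t * c) → c = 1 ∨ c = w := by
    intro c hc hcc
    have hcS : c ∈ S₀ := (hS₀mem c).2 (hcc z (hS₀T hzS₀))
    rcases hcent12 c hcS (fun p hp => hcc p (hS₀T (hPS hp)))
      (fun q hq => hcc q (hS₀T (hconjle x hxT hq))) with h | h | h | h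
    · left; exact h
    · exfalso
      apply hne12
      have := hcc x hxT
      rw [h] at this
      rw [hz2, ← this]; group
    · exfalso
      apply hne12
      have := hcc x hxT
      rw [h] at this
      rw [← hxz2, ← this]; group
    · right; exact h
  -- T = ⊤
  have hTtop : T = ⊤ := by
    by_contra hTne
    have hlt2 := hnc T (lt_top_iff_ne_top.2 hTne)
    obtain ⟨y, hyN, hyT⟩ := SetLike.exists_of_lt hlt2
    have hyn : ∀ t ∈ T, y * t * y⁻¹ ∈ T := fun t ht =>
      (Subgroup.mem_normalizer_iff.1 hyN t).1 ht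
    have hyn' : ∀ t ∈ T, y⁻¹ * t * y ∈ T := fun t ht =>
      (Subgroup.mem_normalizer_iff''.1 hyN t).1 ht
    set z3 := y * z * y⁻¹ with hz3
    have hz3T : z3 ∈ T := hyn z (hS₀T hzS₀)
    have hwTm : w ∈ T := T.mul_mem (hS₀T hzS₀) (hS₀T (hztS₀ x hxT))
    have hyw : y * w * y⁻¹ = w := by
      rcases hZT (y * w * y⁻¹) (hyn w hwTm) (fun t ht => by
        have h1 := hwT _ (hyn' t ht)
        have h2 : w * (y⁻¹ * t * y) = (y⁻¹ * t * y) * w := by
          calc w * (y⁻¹ * t * y) = (y⁻¹ * t * y) * w * (y⁻¹ * t * y)⁻¹ * (y⁻¹ * t * y) := by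
                rw [h1]
            _ = (y⁻¹ * t * y) * w := by group
        calc y * w * y⁻¹ * t = y * (w * (y⁻¹ * t * y)) * y⁻¹ := by group
          _ = y * ((y⁻¹ * t * y) * w) * y⁻¹ := by rw [h2]
          _ = t * (y * w * y⁻¹) := by group) with h | h
      · exfalso; apply hw1
        have : w = y⁻¹ * (y * w * y⁻¹) * y := by group
        rw [this, h]; group
      · exact h
    have hwcomm : ∀ t ∈ T, w * t = t * w := by
      intro t ht
      have h1 := hwT t ht
      calc w * t = t * w * t⁻¹ * t := by rw [h1]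
        _ = t * w := by group
    -- (i)
    have hi : ∀ t ∈ T, t * z3 * t⁻¹ = z3 ∨ t * z3 * t⁻¹ = z3 * w := by
      intro t ht
      have h1 : t * z3 * t⁻¹ = y * ((y⁻¹ * t * y) * z * (y⁻¹ * t * y)⁻¹) * y⁻¹ := by
        rw [hz3]; group
      rcases hC _ (hyn' t ht) with h | h
      · left; rw [h1, h]
      · right
        rw [h1, h]
        calc y * z2 * y⁻¹ = y * (z * w) * y⁻¹ := by rw [hzw]
          _ = (y * z * y⁻¹) * (y * w * y⁻¹) := by group
          _ = z3 * w := by rw [hyw]
    have hcommw : ∀ p ∈ T, p⁻¹ * z3 * p * z3⁻¹ = 1 ∨ p⁻¹ * z3 * p * z3⁻¹ = w := by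
      intro p hp
      rcases hi p⁻¹ (T.inv_mem hp) with h | h
      · left
        rw [inv_inv] at h
        rw [h, mul_inv_cancel]
      · right
        rw [inv_inv] at h
        rw [h, mul_assoc, hwcomm _ (T.inv_mem hz3T), ← mul_assoc, mul_inv_cancel, one_mul]
    -- (ii) z3 ∈ S₀
    have hz3S : z3 ∈ S₀ := by
      by_contra hz3S
      have h1 : z3 * z * z3⁻¹ = z2 := by
        rcases hC z3 hz3T with h | h
        · exfalso; apply hz3S
          rw [hS₀mem]
          calc z3 * z = z3 * z * z3⁻¹ * z3 := by group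
            _ = z * z3 := by rw [h]
        · exact h
      have h2 : x⁻¹ * z3 ∈ S₀ := by
        rw [hS₀mem]
        have : z3 * z = z2 * z3 := by
          calc z3 * z = z3 * z * z3⁻¹ * z3 := by group
            _ = z2 * z3 := by rw [h1]
        calc x⁻¹ * z3 * z = x⁻¹ * (z3 * z) := mul_assoc _ _ _
          _ = x⁻¹ * (x * z * x⁻¹ * z3) := by rw [this]
          _ = z * (x⁻¹ * z3) := by group
      have hall : ∀ p ∈ P, p = 1 ∨ p = z := by
        intro p hp
        have hq : z3 * p * z3⁻¹ ∈ P2 := by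
          have h3 := hPn _ h2 p hp
          refine Subgroup.mem_map.2 ⟨_, h3, ?_⟩
          show x * (x⁻¹ * z3 * p * (x⁻¹ * z3)⁻¹) * x⁻¹ = z3 * p * z3⁻¹
          group
        rcases hcommw p (hS₀T (hPS hp)) with h | h
        · left
          have h4 : z3 * p * z3⁻¹ = p := by
            calc z3 * p * z3⁻¹ = p * (p⁻¹ * z3 * p * z3⁻¹) := by group
              _ = p := by rw [h, mul_one]
          have h5 : p ∈ P ⊓ P2 := Subgroup.mem_inf.2 ⟨hp, h4 ▸ hq⟩
          rw [hinf12, Subgroup.mem_bot] at h5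
          exact h5
        · right
          have h4 : z⁻¹ * p⁻¹ = z2 * (z3 * p * z3⁻¹)⁻¹ := by
            have : p⁻¹ * (z3 * p * z3⁻¹) = z * z2 := by
              rw [← hw, ← h]; group
            calc z⁻¹ * p⁻¹ = z⁻¹ * (p⁻¹ * (z3 * p * z3⁻¹)) * (z3 * p * z3⁻¹)⁻¹ := by group
              _ = z2 * (z3 * p * z3⁻¹)⁻¹ := by rw [this]; group
          have h5 : z⁻¹ * p⁻¹ ∈ P ⊓ P2 := by
            refine Subgroup.mem_inf.2 ⟨P.mul_mem (P.inv_mem hg.mem) (P.inv_mem hp), ?_⟩
            rw [h4]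
            exact P2.mul_mem hg2.mem (P2.inv_mem hq)
          rw [hinf12, Subgroup.mem_bot] at h5
          have h6 : p = z⁻¹ := by
            have : p = (z⁻¹ * p⁻¹)⁻¹ * z⁻¹ := by group
            rw [this, h5]; group
          rw [h6, hzinv]
      obtain ⟨a, ha, b, hb, hab⟩ := hg.nonab
      apply hab
      rcases hall a ha with h | h <;> rcases hall b hb with h' | h' <;> rw [h, h'] <;> simp
    -- (iii) z3 centralizes P and P2
    have hz3P : ∀ p ∈ P, z3 * p = p * z3 := by
      intro p hp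
      have hq : z3 * p * z3⁻¹ ∈ P := hPn _ hz3S p hp
      rcases hcommw p (hS₀T (hPS hp)) with h | h
      · calc z3 * p = p * (p⁻¹ * z3 * p * z3⁻¹) * z3 := by group
          _ = p * z3 := by rw [h, mul_one]
      · exfalso
        have h4 : w ∈ P := by
          rw [← h]
          have : p⁻¹ * z3 * p * z3⁻¹ = p⁻¹ * (z3 * p * z3⁻¹) := by group
          rw [this]
          exact P.mul_mem (P.inv_mem hp) hq
        have h5 : z2 ∈ P ⊓ P2 := by
          refine Subgroup.mem_inf.2 ⟨?_, hg2.mem⟩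
          rw [← hzw]
          exact P.mul_mem hg.mem h4
        rw [hinf12, Subgroup.mem_bot] at h5
        exact hzt1 x h5
    have hz3P2 : ∀ q ∈ P2, z3 * q = q * z3 := by
      intro q hq
      have hq' : z3 * q * z3⁻¹ ∈ P2 := hconjn x hxT _ hz3S q hq
      rcases hcommw q (hS₀T (hconjle x hxT hq)) with h | h
      · calc z3 * q = q * (q⁻¹ * z3 * q * z3⁻¹) * z3 := by group
          _ = q * z3 := by rw [h, mul_one]
      · exfalso
        have h4 : w ∈ P2 := by
          rw [← h]
          have : q⁻¹ * z3 * q * z3⁻¹ = q⁻¹ * (z3 * q * z3⁻¹) := by group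
          rw [this]
          exact P2.mul_mem (P2.inv_mem hq) hq'
        have h5 : z ∈ P ⊓ P2 := by
          refine Subgroup.mem_inf.2 ⟨hg.mem, ?_⟩
          have : z = w * z2 := by
            rw [hw, mul_assoc, hz2z2, mul_one]
          rw [this]
          exact P2.mul_mem h4 hg2.mem
        rw [hinf12, Subgroup.mem_bot] at h5
        exact hg.ne_one h5
    -- (iv)
    rcases hcent12 z3 hz3S hz3P hz3P2 with h | h | h | h
    · exact hzt1 y h
    · apply hyT
      apply hS₀T
      rw [hS₀mem]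
      calc y * z = y * z * y⁻¹ * y := by group
        _ = z * y := by rw [← hz3, h]
    · apply hyT
      have h5 : x⁻¹ * y ∈ S₀ := by
        rw [hS₀mem]
        calc x⁻¹ * y * z = x⁻¹ * (y * z * y⁻¹) * y := by group
          _ = x⁻¹ * (x * z * x⁻¹) * y := by rw [← hz3, h]
          _ = z * (x⁻¹ * y) := by group
      have : y = x * (x⁻¹ * y) := by group
      rw [this]
      exact T.mul_mem hxT (hS₀T h5)
    · apply hne12
      have h5 : y * z * y⁻¹ = y * w * y⁻¹ := by rw [← hz3, h, hyw]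
      have h6 : z = w := mul_left_cancel (mul_right_cancel h5)
      exfalso
      apply hzt1 x
      have : z * 1 = z * z2 := by rw [mul_one, ← hw]; exact h6
      exact (mul_left_cancel this).symm
  refine ⟨?_, ?_⟩
  · -- sectional rank of P
    let ι2 : P →* S := (MulAut.conj x).toMonoidHom.comp P.subtype
    have hι2 : ∀ v : P, ι2 v ∈ P2 := fun v => Subgroup.mem_map.2 ⟨v.1, v.2, rfl⟩
    let ι : P × P →* S := MonoidHom.noncommCoprod P.subtype ι2
      (fun u v => hc12 u.1 u.2 (ι2 v) (hι2 v))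
    have hι : Function.Injective ι := by
      rw [injective_iff_map_eq_one]
      rintro ⟨u, v⟩ huv
      have h1 : (u : S) * ι2 v = 1 := huv
      have h2 : (u : S) ∈ P ⊓ P2 := by
        refine Subgroup.mem_inf.2 ⟨u.2, ?_⟩
        rw [eq_inv_of_mul_eq_one_left h1]
        exact P2.inv_mem (hι2 v)
      rw [hinf12, Subgroup.mem_bot] at h2
      rw [h2, one_mul] at h1
      have h3 : (v : S) = 1 := by
        have h4 : x * (v : S) * x⁻¹ = 1 := h1
        have : (v : S) = x⁻¹ * (x * (v : S) * x⁻¹) * x := by group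
        rw [this, h4]; group
      exact Prod.ext (Subtype.ext h2) (Subtype.ext h3)
    exact sectional_half hr ι hι
  · rw [Subgroup.index_eq_two_iff]
    refine ⟨x, fun b => ?_⟩
    have hbT : b ∈ T := by rw [hTtop]; exact Subgroup.mem_top b
    by_cases hb : b ∈ S₀
    · refine Or.inr ⟨hb, fun h => hxS ?_⟩
      have : x = b⁻¹ * (b * x) := by group
      rw [this]
      exact S₀.mul_mem (S₀.inv_mem hb) h
    · refine Or.inl ⟨?_, hb⟩
      have h1 : b * z * b⁻¹ = z2 := by
        rcases hC b hbT with h | h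
        · exfalso; apply hb
          rw [hS₀mem]
          calc b * z = b * z * b⁻¹ * b := by group
            _ = z * b := by rw [h]
        · exact h
      have h2 : b * z2 * b⁻¹ = z := by
        rcases hCz2 b hbT with h | h
        · exact h
        · exfalso
          apply hne12
          exact mul_left_cancel (mul_right_cancel (h1.trans h.symm))
      rw [hS₀mem]
      calc b * x * z = b * (x * z * x⁻¹) * b⁻¹ * (b * x) := by group
        _ = z * (b * x) := by rw [← hz2, h2]

end Cfsg.Agent.S4401
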