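import Mathlib
import Cfsg.Statements.S4403
import Cfsg.Agent.Lib_helper21_CycSyl2
import Cfsg.Agent.Lib_helper21_CyclicSylow
import Cfsg.Agent.Lib_helper21_SylowNum

set_option autoImplicit false
set_option linter.style.haveILetI false
open Cfsg

namespace Cfsg.Agent.S4403

open Cfsg.Agent.helper7 Cfsg.Agent.helper21
open scoped commutatorElement

/-- Case with a component. -/
theorem caseA {K : Type*} [Group K] [Finite K] (p : ℕ) [hpf : Fact p.Prime]
    (hO : Cfsg.pPrimeCore p K = ⊥)
    (P : Sylow p K) (hP : IsCyclic ↥(P : Subgroup K)) (L : Subgroup K) (hL : Comp L ⊤) :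
    fstarOf (⊤ : Subgroup K) = L ∧ IsSimpleGroup ↥L ∧ ¬ IsMulCommutative ↥L ∧ ¬ p ∣ L.index := by
  have hp : p.Prime := hpf.out
  obtain ⟨hLsn, hqs⟩ := hL
  have hLne : L ≠ ⊥ := hqs.2.1
  have hpL : p ∣ Nat.card L := dvd_card_of_sn_of_pPrimeCore_eq_bot hp hO hLsn hLne
  -- A2: trivial centre
  have hZ : L ⊓ Subgroup.centralizer (L : Set K) = ⊥ := by
    by_contra hZne
    set Z := L ⊓ Subgroup.centralizer (L : Set K) with hZdef
    have hZsn : SN Z ⊤ := by
      refine (SN.of_normal inf_le_left ?_).trans hLsn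
      intro l hl
      apply Subgroup.inf_normalizer_le_normalizer_inf
      exact ⟨Subgroup.le_normalizer hl,
        normalizer_le_normalizer_centralizer L (Subgroup.le_normalizer hl)⟩
    have hpZ : p ∣ Nat.card Z := dvd_card_of_sn_of_pPrimeCore_eq_bot hp hO hZsn hZne
    obtain ⟨z', hz'⟩ := exists_prime_orderOf_dvd_card' p hpZ
    have hzL : (z' : K) ∈ L := z'.2.1
    have hzC : (z' : K) ∈ Subgroup.centralizer (L : Set K) := z'.2.2
    -- perfect
    have hperf : commutator ↥L = ⊤ := by
      have : Group.IsPerfect ↥L := (Subgroup.isPerfect_iff).mpr hqs.1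
      exact Group.isPerfect_def.mp this
    obtain ⟨Q⟩ : Nonempty (Sylow p ↥L) := inferInstance
    have hQc : IsMulCommutative ↥(Q : Subgroup ↥L) := by
      have hQp : IsPGroup p ((Q : Subgroup ↥L).map L.subtype) := Q.isPGroup'.map _
      obtain ⟨R, hR⟩ := hQp.exists_le_sylow
      have hRcyc : IsCyclic (R : Subgroup K) :=
        isCyclic_of_surjective (Sylow.equiv P R).toMonoidHom (Sylow.equiv P R).surjective
      have hRc : IsMulCommutative (R : Subgroup K) := inferInstance
      refine ⟨⟨fun a b => ?_⟩⟩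
      have ha : ((a : ↥L) : K) ∈ (R : Subgroup K) := hR (Subgroup.mem_map_of_mem _ a.2)
      have hb : ((b : ↥L) : K) ∈ (R : Subgroup K) := hR (Subgroup.mem_map_of_mem _ b.2)
      have := hRc.is_comm.comm (⟨_, ha⟩ : (R : Subgroup K)) ⟨_, hb⟩
      have h2 := congrArg Subtype.val this
      apply Subtype.ext
      apply Subtype.ext
      simpa using h2
    have hnot := not_dvd_card_center_of_isPerfect hperf Q hQc
    apply hnot
    have hzc : (⟨(z' : K), hzL⟩ : ↥L) ∈ Subgroup.center ↥L := by
      rw [Subgroup.mem_center_iff]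
      intro g
      rw [Subgroup.mem_centralizer_iff] at hzC
      exact Subtype.ext (hzC (g : K) g.2)
    have ho : orderOf (⟨(z' : K), hzL⟩ : ↥L) = p := by
      rw [Subgroup.orderOf_mk, Subgroup.orderOf_coe]; exact hz'
    have := Subgroup.orderOf_dvd_natCard (Subgroup.center ↥L) hzc
    rwa [ho] at this
  -- A3: simplicity in internal form
  have hsimp : ∀ N : Subgroup K, N ≤ L → L ≤ Subgroup.normalizer (N : Set K) → N = L ∨ N = ⊥ := by
    intro N hN hn
    rcases hqs.2.2 N hN hn with h | h
    · left; exact h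
    · right
      rw [eq_bot_iff, ← hZ]
      exact le_inf hN h
  -- commuting subgroups of order divisible by p meet L trivially
  have hcomm_bot : ∀ B : Subgroup K, ⁅L, B⁆ = ⊥ → p ∣ Nat.card B → False := by
    intro B hLB hpB
    have hBC : B ≤ Subgroup.centralizer (L : Set K) := le_centralizer_of_comm_eq_bot hLB
    have hne := inf_ne_bot_of_commute_of_dvd P hP L B
      (fun a ha b hb => by
        have := hBC hb
        rw [Subgroup.mem_centralizer_iff] at this
        exact this a ha) hpL hpB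
    apply hne
    rw [eq_bot_iff, ← hZ]
    exact le_inf inf_le_left (inf_le_right.trans hBC)
  -- A4: uniqueness
  have huniq : ∀ L' : Subgroup K, Comp L' ⊤ → L' = L := by
    intro L' hL'
    by_contra hne
    have hc : ⁅L, L'⁆ = ⊥ := Comp.comm_of_ne ⟨hLsn, hqs⟩ hL' (Ne.symm hne)
    exact hcomm_bot L' hc (dvd_card_of_sn_of_pPrimeCore_eq_bot hp hO hL'.1 hL'.2.2.1)
  -- A5: F = ⊥
  have hF : fitOf (⊤ : Subgroup K) = ⊥ := by
    by_contra hne
    have hc : ⁅L, fitOf (⊤ : Subgroup K)⁆ = ⊥ := Comp.comm_fitOf ⟨hLsn, hqs⟩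
    exact hcomm_bot _ hc (dvd_card_of_sn_of_pPrimeCore_eq_bot hp hO (fitOf_sn ⊤) hne)
  -- A6
  have hE : layerOf (⊤ : Subgroup K) = L := by
    apply le_antisymm
    · apply sSup_le
      intro L' hL'
      rw [huniq L' hL']
    · exact comp_le_layerOf ⟨hLsn, hqs⟩
  have hFs : fstarOf (⊤ : Subgroup K) = L := by
    unfold fstarOf
    rw [hE, hF, sup_bot_eq]
  -- A7: normal
  have hLn : L.Normal := by
    rw [← Subgroup.normalizer_eq_top_iff, eq_top_iff, ← hFs]
    exact fstarOf_normal ⊤
  -- not commutative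
  have hnc : ¬ IsMulCommutative ↥L := by
    intro hc
    apply hqs.not_abelian
    intro x hx
    rw [Subgroup.mem_centralizer_iff]
    intro y hy
    exact congrArg Subtype.val (hc.is_comm.comm (⟨y, hy⟩ : L) ⟨x, hx⟩)
  -- simple
  have hsg : IsSimpleGroup ↥L := by
    haveI : Nontrivial ↥L := (Subgroup.nontrivial_iff_ne_bot L).mpr hLne
    refine ⟨fun N' hN' => ?_⟩
    have h1 : N'.map L.subtype ≤ L := Subgroup.map_subtype_le _
    have h2 : L ≤ Subgroup.normalizer ((N'.map L.subtype : Subgroup K) : Set K) := by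
      intro l hl
      rw [Subgroup.mem_normalizer_iff]
      intro x
      constructor
      · rintro ⟨y, hy, rfl⟩
        exact ⟨⟨l, hl⟩ * y * ⟨l, hl⟩⁻¹, hN'.conj_mem y hy ⟨l, hl⟩, by simp⟩
      · rintro ⟨y, hy, hyx⟩
        refine ⟨⟨l, hl⟩⁻¹ * y * ⟨l, hl⟩, ?_, ?_⟩
        · have := hN'.conj_mem y hy ⟨l, hl⟩⁻¹
          simpa using this
        · simp only [Subgroup.subtype_apply, Subgroup.coe_mul, Subgroup.coe_inv]
          have : (y : K) = l * x * l⁻¹ := hyx
          rw [this]; group
    rcases hsimp _ h1 h2 with h | h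
    · right
      rw [eq_top_iff]
      intro y _
      have : (y : K) ∈ N'.map L.subtype := by rw [h]; exact y.2
      obtain ⟨w, hw, hwy⟩ := this
      have : w = y := Subtype.ext hwy
      rwa [← this]
    · left
      rw [eq_bot_iff]
      intro y hy
      have : (y : K) ∈ N'.map L.subtype := Subgroup.mem_map_of_mem _ hy
      rw [h, Subgroup.mem_bot] at this
      rw [Subgroup.mem_bot]
      exact Subtype.ext this
  refine ⟨hFs, hsg, hnc, ?_⟩
  -- A8
  intro hpidx
  have hPL : ¬ (P : Subgroup K) ≤ L := by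
    intro hle
    have := Subgroup.index_dvd_of_le hle
    exact P.not_dvd_index (dvd_trans hpidx this)
  have hPc : IsMulCommutative (P : Subgroup K) := inferInstance
  obtain ⟨T, hT1, hT2, hT3, hT4⟩ := exists_pcomplement_in P hP (L ⊔ (P : Subgroup K)) le_sup_right
    (fun x hx hxN => exists_fixed_of_mem_normalizer P hPc L hPL x hx hxN)
  have hN1 : L ⊓ T ≤ L := inf_le_left
  have hN2 : L ≤ Subgroup.normalizer ((L ⊓ T : Subgroup K) : Set K) := by
    intro l hl
    apply Subgroup.inf_normalizer_le_normalizer_inf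
    exact ⟨Subgroup.le_normalizer hl, hT2 (Subgroup.mem_sup_left hl)⟩
  rcases hsimp _ hN1 hN2 with h | h
  · have hLT : L ≤ T := by rw [← h]; exact inf_le_right
    have := Subgroup.card_dvd_of_le hLT
    have hpT : p ∣ Nat.card T := dvd_trans hpL this
    have := Nat.Coprime.eq_one_of_dvd (Nat.coprime_comm.mp hT3) hpT
    exact hp.one_lt.ne' this
  · -- L ∩ T = 1 : then L is a p-group
    have hrel1 : T.relIndex L = Nat.card L := by
      rw [← Subgroup.inf_relIndex_left, h, Subgroup.relIndex_bot_left]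
    have hrel2 : T.relIndex (L ⊔ T) = T.relIndex L := relIndex_sup_normal L T
    have hLTle : L ⊔ T ≤ L ⊔ (P : Subgroup K) := sup_le le_sup_left hT1
    have hrel3 : T.relIndex (L ⊔ T) ∣ T.relIndex (L ⊔ (P : Subgroup K)) := by
      rw [← Subgroup.relIndex_mul_relIndex T (L ⊔ T) (L ⊔ (P : Subgroup K)) le_sup_right hLTle]
      exact dvd_mul_right _ _
    obtain ⟨n, hn⟩ := IsPGroup.iff_card.mp P.isPGroup'
    rw [hrel2, hrel1, hT4, hn] at hrel3
    obtain ⟨k, _, hk⟩ := (Nat.dvd_prime_pow hp).mp hrel3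
    have hLp : IsPGroup p ↥L := IsPGroup.of_card hk
    have hsol : Group.IsSolvable ↥L := by
      haveI := hLp.isNilpotent
      infer_instance
    exact hqs.not_le_solvable hsol le_rfl

/-- Let K be a finite group with a cyclic Sylow p-subgroup P and O_{p'}(K) = 1, with p dividing #K. Then either P is normal in K with C_K(P) = P and K/P cyclic of order dividing p - 1, or F*(K) is a non-abelian simple group and [K : F*(K)] is prime to p. -/
theorem result {K : Type*} [Group K] [Finite K] (p : ℕ) [Fact p.Prime] (hp : p ∣ Nat.card K) (hO : Cfsg.pPrimeCore p K = ⊥)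
    (P : Sylow p K) (hP : IsCyclic ↥(P : Subgroup K)) :
    ((P : Subgroup K).Normal ∧ Subgroup.centralizer ((P : Subgroup K) : Set K) = (P : Subgroup K) ∧
      (∀ (_ : (P : Subgroup K).Normal), IsCyclic (K ⧸ (P : Subgroup K))) ∧ (P : Subgroup K).index ∣ p - 1) ∨
    (IsSimpleGroup ↥(Cfsg.generalizedFittingSubgroup K) ∧ ¬ IsMulCommutative ↥(Cfsg.generalizedFittingSubgroup K) ∧
      ¬ p ∣ (Cfsg.generalizedFittingSubgroup K).index) := by
  have hpp : p.Prime := Fact.out
  by_cases hcomp : ∃ L : Subgroup K, Comp L ⊤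
  · right
    obtain ⟨L, hL⟩ := hcomp
    obtain ⟨hFs, h1, h2, h3⟩ := caseA p hO P hP L hL
    rw [generalizedFittingSubgroup_eq, hFs]
    exact ⟨h1, h2, h3⟩
  · left
    push Not at hcomp
    have hE : layerOf (⊤ : Subgroup K) = ⊥ := by
      rw [eq_bot_iff]
      apply sSup_le
      intro L hL
      exact absurd hL (hcomp L)
    have hFs : fstarOf (⊤ : Subgroup K) = fitOf ⊤ := by
      unfold fstarOf
      rw [hE, bot_sup_eq]
    -- F is a p-group
    have hFle : fitOf (⊤ : Subgroup K) ≤ piCoreIn {p} ⊤ := by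
      rw [fitOf_eq_iSup]
      apply iSup_le
      rintro ⟨q, hq⟩
      by_cases hqp : q = p
      · subst hqp
        exact le_rfl
      · have hsn : SN (piCoreIn {q} (⊤ : Subgroup K)) ⊤ :=
          SN.of_normal (piCoreIn_le _ _) (piCoreIn_normal _ _)
        have hpi : PiGrp {q} (piCoreIn {q} (⊤ : Subgroup K)) := piCoreIn_piGrp _ _
        have hnd : ¬ p ∣ Nat.card (piCoreIn {q} (⊤ : Subgroup K)) := by
          intro hd
          have := (piGrp_iff_card.mp hpi) p hpp hd
          exact hqp (Set.mem_singleton_iff.mp this).symm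
        have : piCoreIn {q} (⊤ : Subgroup K) = ⊥ := by
          by_contra hne
          exact hnd (dvd_card_of_sn_of_pPrimeCore_eq_bot hpp hO hsn hne)
        rw [this]; exact bot_le
    have hFp : IsPGroup p ↥(fitOf (⊤ : Subgroup K)) :=
      (isPGroup_iff_piGrp hpp).mpr ((piCoreIn_piGrp {p} ⊤).mono hFle)
    have hFn : (fitOf (⊤ : Subgroup K)).Normal := by
      rw [← Subgroup.normalizer_eq_top_iff, eq_top_iff]
      exact fitOf_normal ⊤
    have hFP : fitOf (⊤ : Subgroup K) ≤ (P : Subgroup K) := hFp.le_sylow_of_normal P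
    have hPc : IsMulCommutative (P : Subgroup K) := inferInstance
    have hPcent : (P : Subgroup K) ≤ Subgroup.centralizer ((P : Subgroup K) : Set K) := by
      intro x hx
      rw [Subgroup.mem_centralizer_iff]
      intro y hy
      exact congrArg Subtype.val (hPc.is_comm.comm (⟨y, hy⟩ : (P : Subgroup K)) ⟨x, hx⟩)
    have hbender : Subgroup.centralizer ((fitOf (⊤ : Subgroup K) : Subgroup K) : Set K)
        ≤ fitOf (⊤ : Subgroup K) := by
      have := centralizer_fstarOf_le (⊤ : Subgroup K)
      rw [hFs, top_inf_eq] at this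
      exact this
    have hPF : (P : Subgroup K) ≤ fitOf (⊤ : Subgroup K) :=
      (hPcent.trans (Subgroup.centralizer_le hFP)).trans hbender
    have hPeq : (P : Subgroup K) = fitOf (⊤ : Subgroup K) := le_antisymm hPF hFP
    have hPn : (P : Subgroup K).Normal := by rw [hPeq]; exact hFn
    have hCP : Subgroup.centralizer ((P : Subgroup K) : Set K) = (P : Subgroup K) := by
      apply le_antisymm
      · calc Subgroup.centralizer ((P : Subgroup K) : Set K)
            ≤ Subgroup.centralizer ((fitOf (⊤ : Subgroup K) : Subgroup K) : Set K) :=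
              Subgroup.centralizer_le hFP
          _ ≤ fitOf (⊤ : Subgroup K) := hbender
          _ = (P : Subgroup K) := hPeq.symm
      · exact hPcent
    haveI := hPn
    obtain ⟨h1, h2⟩ := cyclic_quotient_of_self_centralizing P hP hCP
    exact ⟨hPn, hCP, fun _ => h1, h2⟩

end Cfsg.Agent.S4403
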