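import Cfsg.Statements.S4405
import Mathlib
import Cfsg.Agent.H16ES6
import Cfsg.Agent.Lib_helper1_Core
import Cfsg.Agent.Lib_helper1_PGroup
import Cfsg.Agent.Lib_helper23_Solv
import Cfsg.Agent.Lib_helper9_Extraspecial
-- import your own Cfsg.Agent.* helpers here

set_option autoImplicit false
open Cfsg
open scoped commutatorElement

namespace Cfsg.Agent.S4405

/-- Let G be a finite group of order 320 = 64·5 whose largest normal 2-subgroup H = O₂(G) equals the Fitting subgroup F(G) and is extraspecial of order 32 containing no elementary abelian subgroup of order 8 (so H is the central product of a quaternion group and a dihedral group of order 8). If T is an involution of G outside H whose centralizer in H contains an elementary abelian subgroup of order 4, then C_H(T) itself is elementary abelian of order 4. -/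
theorem result {G : Type*} [Group G] [Finite G]
    (hG : Nat.card G = 320) (hHF : Cfsg.pCore 2 G = Cfsg.fittingSubgroup G)
    (hex : Cfsg.IsExtraspecial 2 ↥(Cfsg.pCore 2 G)) (h32 : Nat.card ↥(Cfsg.pCore 2 G) = 32)
    (hminus : ∀ A : Subgroup G, A ≤ Cfsg.pCore 2 G → Cfsg.IsElementaryAbelian 2 A → Nat.card ↥A ≤ 4)
    (T : G) (hT : orderOf T = 2) (hTH : T ∉ Cfsg.pCore 2 G)
    (V : Subgroup G) (hV : V ≤ Cfsg.pCore 2 G ⊓ Subgroup.centralizer ({T} : Set G)) (hV4 : Nat.card ↥V = 4) (hVe : Cfsg.IsElementaryAbelian 2 V) :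
    Nat.card ↥(Cfsg.pCore 2 G ⊓ Subgroup.centralizer ({T} : Set G)) = 4 ∧
      Cfsg.IsElementaryAbelian 2 (Cfsg.pCore 2 G ⊓ Subgroup.centralizer ({T} : Set G)) := by
  classical
  haveI : Fact (Nat.Prime 2) := ⟨Nat.prime_two⟩
  haveI : Fact (Nat.Prime 5) := ⟨by norm_num⟩
  have hnH0 : (Cfsg.pCore 2 G).Normal := Cfsg.Agent.helper1.pCore_normal 2
  have hmax0 : ∀ D : Subgroup G, D.Normal → IsPGroup 2 D → D ≤ Cfsg.pCore 2 G :=
    fun D hD hp => Cfsg.Agent.helper1.le_pCore hD hp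
  generalize hHdef : Cfsg.pCore 2 G = H at *
  haveI hnH : H.Normal := hnH0
  obtain ⟨⟨hP, hfr, hcm⟩, hZ2⟩ := hex
  obtain ⟨Z, hZdef⟩ : ∃ Z : Subgroup G, Z = (Subgroup.center ↥H).map H.subtype := ⟨_, rfl⟩
  have hcardZ : Nat.card Z = 2 := by
    rw [hZdef, Subgroup.card_map_of_injective (Subgroup.subtype_injective H)]; exact hZ2
  have hZH : Z ≤ H := by rw [hZdef]; exact Subgroup.map_subtype_le _
  have hZn : Z.Normal := by
    rw [hZdef]; exact ConjAct.normal_of_characteristic_of_normal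
  have hmemZ : ∀ x : G, x ∈ Z ↔ ∃ hx : x ∈ H, (⟨x, hx⟩ : ↥H) ∈ Subgroup.center ↥H := by
    intro x
    rw [hZdef, Subgroup.mem_map]
    constructor
    · rintro ⟨y, hy, rfl⟩; exact ⟨y.2, hy⟩
    · rintro ⟨hx, hc⟩; exact ⟨⟨x, hx⟩, hc, rfl⟩
  have hZc : ∀ z ∈ Z, ∀ g : G, g * z = z * g := by
    intro z hz g
    by_cases hz1 : z = 1
    · rw [hz1]; simp
    · have hconj : g * z * g⁻¹ ∈ Z := hZn.conj_mem z hz g
      have hne : g * z * g⁻¹ ≠ 1 := by
        intro h0
        apply hz1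
        have e : z = g⁻¹ * (g * z * g⁻¹) * g := by group
        rw [e, h0]; group
      have h1 := Cfsg.Agent.helper9.eq_of_ne_one_of_card_two hcardZ
        (a := (⟨g * z * g⁻¹, hconj⟩ : Z)) (b := ⟨z, hz⟩)
        (fun h0 => hne (congrArg Subtype.val h0)) (fun h0 => hz1 (congrArg Subtype.val h0))
      have h2 : g * z * g⁻¹ = z := congrArg Subtype.val h1
      calc g * z = (g * z * g⁻¹) * g := by group
        _ = z * g := by rw [h2]
  have hcomm : ∀ h ∈ H, ∀ k ∈ H, h * k * h⁻¹ * k⁻¹ ∈ Z := by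
    intro h hh k hk
    rw [hmemZ]
    refine ⟨H.mul_mem (H.mul_mem (H.mul_mem hh hk) (H.inv_mem hh)) (H.inv_mem hk), ?_⟩
    have h1 : ⁅(⟨h, hh⟩ : ↥H), ⟨k, hk⟩⁆ ∈ commutator ↥H := by
      rw [commutator_def]
      exact Subgroup.commutator_mem_commutator (Subgroup.mem_top _) (Subgroup.mem_top _)
    rw [hcm] at h1
    have e : (⟨h * k * h⁻¹ * k⁻¹,
        H.mul_mem (H.mul_mem (H.mul_mem hh hk) (H.inv_mem hh)) (H.inv_mem hk)⟩ : ↥H) =
        ⁅(⟨h, hh⟩ : ↥H), ⟨k, hk⟩⁆ := by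
      apply Subtype.ext
      simp [commutatorElement_def]
    rw [e]; exact h1
  have hsq : ∀ h ∈ H, h * h ∈ Z := by
    intro h hh
    rw [hmemZ]
    refine ⟨H.mul_mem hh hh, ?_⟩
    have h1 := Cfsg.Agent.helper1.pow_mem_frattini_of_isPGroup (p := 2) hP (⟨h, hh⟩ : ↥H)
    rw [hfr] at h1
    have e : (⟨h * h, H.mul_mem hh hh⟩ : ↥H) = (⟨h, hh⟩ : ↥H) ^ 2 := by
      apply Subtype.ext
      simp [pow_two]
    rw [e]; exact h1
  have d : Cfsg.Agent.H16ES.ESD H Z := ⟨hnH, h32, hZH, hcardZ, hZc, hcomm, hsq⟩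
  have hT2 : T * T = 1 := by rw [← pow_two, ← hT]; exact pow_orderOf_eq_one T
  obtain ⟨f, hf5⟩ := exists_prime_orderOf_dvd_card' (G := G) 5 (by rw [hG]; norm_num)
  have hcQ : Nat.card (G ⧸ H) = 10 := by
    have := Subgroup.card_eq_card_quotient_mul_card_subgroup H
    rw [hG, h32] at this; omega
  haveI hHs : Group.IsSolvable ↥H := by
    haveI := hP.isNilpotent
    infer_instance
  haveI hQs : Group.IsSolvable (G ⧸ H) := Cfsg.Agent.H16ES.solvable_of_card_ten hcQ
  haveI hsolv : Group.IsSolvable G :=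
    Group.isSolvable_of_ker_le_range H.subtype (QuotientGroup.mk' H)
      (by rw [QuotientGroup.ker_mk', Subgroup.range_subtype])
  have hCF : Subgroup.centralizer (H : Set G) ≤ H := by
    have h1 := Cfsg.Agent.helper23.fitting_self_centralizing
      (Cfsg.Agent.helper23.ppreach_top_of_solvable _ G rfl)
    rw [← hHF] at h1; exact h1
  have hnc : ¬ ∀ h ∈ H, f * h = h * f := by
    intro hall
    have hfC : f ∈ Subgroup.centralizer (H : Set G) := by
      rw [Subgroup.mem_centralizer_iff]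
      intro h hh
      exact (hall h hh).symm
    have hfH := hCF hfC
    have h1 : orderOf (⟨f, hfH⟩ : H) ∣ Nat.card H := orderOf_dvd_natCard _
    rw [Subgroup.orderOf_mk, hf5, h32] at h1
    omega
  have hfT := Cfsg.Agent.H16ES.hfT_of H hG h32 T f hT2 hTH hf5 hmax0
  have hnoE8 : ∀ A : Subgroup G, A ≤ H → (∀ a ∈ A, a * a = 1) → Nat.card A ≤ 4 := by
    intro A hA hexp
    apply hminus A hA
    refine ⟨⟨⟨fun a b => ?_⟩⟩, fun a ha => by rw [pow_two]; exact hexp a ha⟩
    apply Subtype.ext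
    exact Cfsg.Agent.H16ES.comm_of_exp_two (hexp a a.2) (hexp b b.2)
      (hexp (a * b) (A.mul_mem a.2 b.2))
  have dd : Cfsg.Agent.H16ES.ESD2 H Z T f := ⟨d, hT2, d.hf_of f hf5 hnc, hfT, hnoE8⟩
  have hVeq : Cfsg.Agent.H16ES.CH H T = V := dd.main V hV hV4
  show Nat.card ↥(Cfsg.Agent.H16ES.CH H T) = 4 ∧
    Cfsg.IsElementaryAbelian 2 (Cfsg.Agent.H16ES.CH H T)
  rw [hVeq]
  exact ⟨hV4, hVe⟩

end Cfsg.Agent.S4405
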