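import Mathlib
import Cfsg.Statements.S4406

set_option autoImplicit false
open Cfsg
open scoped Pointwise

namespace Cfsg.Agent.S4406

abbrev A4 := ↥(alternatingGroup (Fin 4))

set_option maxRecDepth 1000000 in
theorem pow12 : ∀ a : A4, a ^ 12 = 1 := by decide

set_option maxRecDepth 1000000 in
theorem sq_of_pow4 : ∀ a : A4, a ^ 4 = 1 → a ^ 2 = 1 := by decide

set_option maxRecDepth 1000000 in
theorem exists_three : ∃ a : A4, a ^ 3 = 1 ∧ a ≠ 1 := by decide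

set_option maxRecDepth 1000000 in
theorem card_A4 : Fintype.card A4 = 12 := by decide

set_option maxRecDepth 1000000 in
set_option synthInstance.maxHeartbeats 0 in
set_option synthInstance.maxSize 100000 in
theorem L2 : ∀ b w₁ w₂ : A4, (b ^ 3 = 1 ∧ b ≠ 1 ∧ w₁ ^ 2 = 1 ∧ w₂ ^ 2 = 1 ∧
    w₁ ≠ 1 ∧ w₂ ≠ 1 ∧ w₁ ≠ w₂) →
    ((b * w₁ * b⁻¹ = w₂ ∧ b * w₂ * b⁻¹ = w₁ * w₂ ∧ b⁻¹ * w₁ * b = w₁ * w₂ ∧ b⁻¹ * w₂ * b = w₁) ∨
    (b * w₁ * b⁻¹ = w₁ * w₂ ∧ b * w₂ * b⁻¹ = w₁ ∧ b⁻¹ * w₁ * b = w₂ ∧ b⁻¹ * w₂ * b = w₁ * w₂)) := by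
  decide

set_option maxRecDepth 1000000 in
set_option synthInstance.maxHeartbeats 0 in
set_option synthInstance.maxSize 100000 in
theorem V4 : ∀ v₁ v₂ x : A4, (v₁ ^ 2 = 1 ∧ v₂ ^ 2 = 1 ∧ x ^ 2 = 1 ∧ v₁ ≠ 1 ∧ v₂ ≠ 1 ∧ v₁ ≠ v₂) →
    (x = 1 ∨ x = v₁ ∨ x = v₂ ∨ x = v₁ * v₂) := by
  decide

theorem sq_of_mem_sylow2 (X : Sylow 2 (A4 × A4)) (g : A4 × A4) (hg : g ∈ X) :
    g.1 ^ 2 = 1 ∧ g.2 ^ 2 = 1 := by
  obtain ⟨k, hk⟩ := X.isPGroup' ⟨g, hg⟩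
  have hk' : g ^ 2 ^ k = 1 := by
    have := congrArg Subtype.val hk
    simpa using this
  have h12 : g ^ 12 = 1 := by
    apply Prod.ext
    · simpa using pow12 g.1
    · simpa using pow12 g.2
  have h1 : orderOf g ∣ 2 ^ k := orderOf_dvd_of_pow_eq_one hk'
  have h2 : orderOf g ∣ 12 := orderOf_dvd_of_pow_eq_one h12
  obtain ⟨j, _, hj⟩ := (Nat.dvd_prime_pow Nat.prime_two).1 h1
  have hj2 : j ≤ 2 := by
    by_contra hcon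
    push Not at hcon
    have h8 : 2 ^ 3 ∣ 2 ^ j := pow_dvd_pow 2 hcon
    rw [← hj] at h8
    have := dvd_trans h8 h2
    omega
  have h4 : g ^ 4 = 1 := by
    have : orderOf g ∣ 4 := by
      rw [hj]
      exact pow_dvd_pow 2 hj2
    exact orderOf_dvd_iff_pow_eq_one.1 this
  constructor
  · apply sq_of_pow4
    have := congrArg Prod.fst h4
    simpa using this
  · apply sq_of_pow4
    have := congrArg Prod.snd h4
    simpa using this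

theorem mem_normalizer_of_conj_mem {G : Type*} [Group G] (B : Subgroup G) (c : G) (hc : c ^ 3 = 1)
    (h : ∀ x ∈ B, c * x * c⁻¹ ∈ B) : c ∈ Subgroup.normalizer (B : Set G) := by
  rw [Subgroup.mem_normalizer_iff]
  intro x
  refine ⟨h x, fun hx => ?_⟩
  have h3 : c * c * c = 1 := by rw [← hc, pow_succ, pow_two]
  have h1 := h _ (h _ hx)
  have h2 : c * (c * (c * x * c⁻¹) * c⁻¹) * c⁻¹ = x := by
    have : c * (c * (c * x * c⁻¹) * c⁻¹) * c⁻¹ = (c * c * c) * x * (c * c * c)⁻¹ := by group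
    rw [this, h3]; group
  rw [← h2]
  exact h1

theorem exists_sylow3_elements (Q : Sylow 3 (A4 × A4)) :
    ∃ a b : A4, a ^ 3 = 1 ∧ a ≠ 1 ∧ b ^ 3 = 1 ∧ b ≠ 1 ∧
      ((a, 1) : A4 × A4) ∈ (Q : Subgroup (A4 × A4)) ∧ ((1, b) : A4 × A4) ∈ (Q : Subgroup (A4 × A4)) := by
  obtain ⟨a₀, ha₀, ha₀1⟩ := exists_three
  haveI : Fact (Nat.Prime 3) := ⟨Nat.prime_three⟩
  have hord : orderOf a₀ = 3 := orderOf_eq_prime ha₀ ha₀1
  set Q₀ : Subgroup (A4 × A4) := Subgroup.prod (Subgroup.zpowers a₀) (Subgroup.zpowers a₀) with hQ₀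
  have hcardQ₀ : Nat.card Q₀ = 3 ^ 2 := by
    rw [Nat.card_congr (Subgroup.prodEquiv _ _).toEquiv, Nat.card_prod, Nat.card_zpowers, hord]
    norm_num
  have hcardG : Nat.card (A4 × A4) = 144 := by
    rw [Nat.card_prod, Nat.card_eq_fintype_card, card_A4]
  have hidx : Q₀.index = 16 := by
    have := Q₀.card_mul_index
    rw [hcardQ₀, hcardG] at this
    omega
  let P₀ : Sylow 3 (A4 × A4) := (IsPGroup.of_card hcardQ₀).toSylow (by rw [hidx]; norm_num)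
  obtain ⟨g, hg⟩ := MulAction.exists_smul_eq (A4 × A4) P₀ Q
  have hmem : ∀ y : A4 × A4, y ∈ Q₀ → g * y * g⁻¹ ∈ (Q : Subgroup (A4 × A4)) := by
    intro y hy
    rw [← hg]
    rw [Sylow.coe_subgroup_smul, Subgroup.mem_pointwise_smul_iff_inv_smul_mem, MulAut.smul_def,
      MulAut.conj_inv_apply]
    have : g⁻¹ * (g * y * g⁻¹) * g = y := by group
    rw [this]
    exact hy
  have h1 : ((a₀, 1) : A4 × A4) ∈ Q₀ := by
    rw [hQ₀, Subgroup.mem_prod]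
    exact ⟨Subgroup.mem_zpowers a₀, Subgroup.one_mem _⟩
  have h2 : ((1, a₀) : A4 × A4) ∈ Q₀ := by
    rw [hQ₀, Subgroup.mem_prod]
    exact ⟨Subgroup.one_mem _, Subgroup.mem_zpowers a₀⟩
  refine ⟨g.1 * a₀ * g.1⁻¹, g.2 * a₀ * g.2⁻¹, ?_, ?_, ?_, ?_, ?_, ?_⟩
  · rw [conj_pow, ha₀]; group
  · intro h
    apply ha₀1
    have := congrArg (fun t => g.1⁻¹ * t * g.1) h
    simpa [mul_assoc] using this
  · rw [conj_pow, ha₀]; group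
  · intro h
    apply ha₀1
    have := congrArg (fun t => g.2⁻¹ * t * g.2) h
    simpa [mul_assoc] using this
  · have := hmem _ h1
    have e : g * ((a₀, 1) : A4 × A4) * g⁻¹ = (g.1 * a₀ * g.1⁻¹, 1) := by
      apply Prod.ext <;> simp
    rwa [e] at this
  · have := hmem _ h2
    have e : g * ((1, a₀) : A4 × A4) * g⁻¹ = (1, g.2 * a₀ * g.2⁻¹) := by
      apply Prod.ext <;> simp
    rwa [e] at this

theorem exists_two_ne_one {B : Type*} [Group B] [Finite B] (h : Nat.card B = 4) :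
    ∃ u₁ u₂ : B, u₁ ≠ 1 ∧ u₂ ≠ 1 ∧ u₁ ≠ u₂ := by
  haveI := Fintype.ofFinite B
  have h2 : 2 < Fintype.card B := by rw [← Nat.card_eq_fintype_card, h]; norm_num
  obtain ⟨a, b, c, hab, hac, hbc⟩ := Fintype.two_lt_card_iff.1 h2
  by_cases ha : a = 1
  · refine ⟨b, c, ?_, ?_, hbc⟩
    · rw [← ha]; exact fun h => hab h.symm
    · rw [← ha]; exact fun h => hac h.symm
  · by_cases hb : b = 1
    · refine ⟨a, c, ha, ?_, hac⟩
      rw [← hb]; exact fun h => hbc h.symm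
    · exact ⟨a, b, ha, hb, hab⟩

theorem result
    (X : Sylow 2 (↥(alternatingGroup (Fin 4)) × ↥(alternatingGroup (Fin 4))))
    (Q : Sylow 3 (↥(alternatingGroup (Fin 4)) × ↥(alternatingGroup (Fin 4))))
    (B : Subgroup (↥(alternatingGroup (Fin 4)) × ↥(alternatingGroup (Fin 4)))) (hBX : B ≤ (X : Subgroup _)) (hB4 : Nat.card ↥B = 4) :
    B ⊓ ((X : Subgroup _) ⊓ Subgroup.prod ⊤ ⊥) ≠ ⊥ ∨ B ⊓ ((X : Subgroup _) ⊓ Subgroup.prod ⊥ ⊤) ≠ ⊥ ∨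
      ∃ R : Subgroup (↥(alternatingGroup (Fin 4)) × ↥(alternatingGroup (Fin 4))), R ≤ (Q : Subgroup _) ∧ Nat.card ↥R = 3 ∧
        R ≠ (Q : Subgroup _) ⊓ Subgroup.prod ⊤ ⊥ ∧ R ≠ (Q : Subgroup _) ⊓ Subgroup.prod ⊥ ⊤ ∧ R ≤ Subgroup.normalizer (B : Set _) := by
  by_cases h₁ : B ⊓ ((X : Subgroup _) ⊓ Subgroup.prod ⊤ ⊥) = ⊥
  swap
  · exact Or.inl h₁
  by_cases h₂ : B ⊓ ((X : Subgroup _) ⊓ Subgroup.prod ⊥ ⊤) = ⊥
  swap
  · exact Or.inr (Or.inl h₂)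
  refine Or.inr (Or.inr ?_)
  haveI : Fact (Nat.Prime 3) := ⟨Nat.prime_three⟩
  -- trivial intersections
  have hsnd : ∀ g ∈ B, g.2 = 1 → g = 1 := by
    intro g hg h2
    have : g ∈ B ⊓ ((X : Subgroup _) ⊓ Subgroup.prod ⊤ ⊥) :=
      Subgroup.mem_inf.2 ⟨hg, Subgroup.mem_inf.2 ⟨hBX hg,
        Subgroup.mem_prod.2 ⟨Subgroup.mem_top _, Subgroup.mem_bot.2 h2⟩⟩⟩
    rw [h₁] at this
    exact Subgroup.mem_bot.1 this
  have hfst : ∀ g ∈ B, g.1 = 1 → g = 1 := by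
    intro g hg h2
    have : g ∈ B ⊓ ((X : Subgroup _) ⊓ Subgroup.prod ⊥ ⊤) :=
      Subgroup.mem_inf.2 ⟨hg, Subgroup.mem_inf.2 ⟨hBX hg,
        Subgroup.mem_prod.2 ⟨Subgroup.mem_bot.2 h2, Subgroup.mem_top _⟩⟩⟩
    rw [h₂] at this
    exact Subgroup.mem_bot.1 this
  have hinj1 : ∀ g ∈ B, ∀ g' ∈ B, g.1 = g'.1 → g = g' := by
    intro g hg g' hg' h
    have h1 : (g⁻¹ * g').1 = 1 := by simp [h]
    have := hfst _ (B.mul_mem (B.inv_mem hg) hg') h1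
    exact inv_mul_eq_one.1 this
  have hinj2 : ∀ g ∈ B, ∀ g' ∈ B, g.2 = g'.2 → g = g' := by
    intro g hg g' hg' h
    have h1 : (g⁻¹ * g').2 = 1 := by simp [h]
    have := hsnd _ (B.mul_mem (B.inv_mem hg) hg') h1
    exact inv_mul_eq_one.1 this
  have hsq : ∀ g ∈ B, g.1 ^ 2 = 1 ∧ g.2 ^ 2 = 1 := fun g hg => sq_of_mem_sylow2 X g (hBX hg)
  -- two generators
  obtain ⟨u₁, u₂, hu₁, hu₂, hu₁₂⟩ := exists_two_ne_one hB4
  obtain ⟨⟨v₁, w₁⟩, hu₁B⟩ := u₁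
  obtain ⟨⟨v₂, w₂⟩, hu₂B⟩ := u₂
  have hu₁' : ((v₁, w₁) : A4 × A4) ≠ 1 := fun h => hu₁ (Subtype.ext h)
  have hu₂' : ((v₂, w₂) : A4 × A4) ≠ 1 := fun h => hu₂ (Subtype.ext h)
  have hu₁₂' : ((v₁, w₁) : A4 × A4) ≠ (v₂, w₂) := fun h => hu₁₂ (Subtype.ext h)
  have hv₁ : v₁ ≠ 1 := fun h => hu₁' (hfst _ hu₁B h)
  have hv₂ : v₂ ≠ 1 := fun h => hu₂' (hfst _ hu₂B h)
  have hw₁ : w₁ ≠ 1 := fun h => hu₁' (hsnd _ hu₁B h)
  have hw₂ : w₂ ≠ 1 := fun h => hu₂' (hsnd _ hu₂B h)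
  have hv₁₂ : v₁ ≠ v₂ := fun h => hu₁₂' (hinj1 _ hu₁B _ hu₂B h)
  have hw₁₂ : w₁ ≠ w₂ := fun h => hu₁₂' (hinj2 _ hu₁B _ hu₂B h)
  obtain ⟨hv₁s, hw₁s⟩ := hsq _ hu₁B
  obtain ⟨hv₂s, hw₂s⟩ := hsq _ hu₂B
  simp only at hv₁s hw₁s hv₂s hw₂s
  have hu₁₂B : ((v₁ * v₂, w₁ * w₂) : A4 × A4) ∈ B := by
    have := B.mul_mem hu₁B hu₂B
    simpa using this
  -- all elements of B
  have hall : ∀ h ∈ B, h = 1 ∨ h = (v₁, w₁) ∨ h = (v₂, w₂) ∨ h = (v₁ * v₂, w₁ * w₂) := by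
    intro h hh
    have hh2 := (hsq h hh).1
    rcases V4 v₁ v₂ h.1 ⟨hv₁s, hv₂s, hh2, hv₁, hv₂, hv₁₂⟩ with e | e | e | e
    · exact Or.inl (hfst h hh e)
    · exact Or.inr (Or.inl (hinj1 _ hh _ hu₁B e))
    · exact Or.inr (Or.inr (Or.inl (hinj1 _ hh _ hu₂B e)))
    · exact Or.inr (Or.inr (Or.inr (hinj1 _ hh _ hu₁₂B e)))
  -- elements of Q
  obtain ⟨a, b, ha3, ha1, hb3, hb1, haQ, hbQ⟩ := exists_sylow3_elements Q
  have hbi3 : b⁻¹ ^ 3 = 1 := by rw [inv_pow, hb3, inv_one]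
  have hbi1 : b⁻¹ ≠ 1 := fun h => hb1 (inv_eq_one.1 h)
  -- key claim: some c = (a, b') with b' = b or b⁻¹ normalizes B
  have key : ∃ b' : A4, b' ^ 3 = 1 ∧ b' ≠ 1 ∧ ((1, b') : A4 × A4) ∈ (Q : Subgroup _) ∧
      ∀ h ∈ B, ((a, b') : A4 × A4) * h * ((a, b') : A4 × A4)⁻¹ ∈ B := by
    have conj_closed : ∀ b' : A4,
        ((a * v₁ * a⁻¹, b' * w₁ * b'⁻¹) : A4 × A4) ∈ B →
        ((a * v₂ * a⁻¹, b' * w₂ * b'⁻¹) : A4 × A4) ∈ B →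
        ∀ h ∈ B, ((a, b') : A4 × A4) * h * ((a, b') : A4 × A4)⁻¹ ∈ B := by
      intro b' e₁ e₂ h hh
      rcases hall h hh with rfl | rfl | rfl | rfl
      · rw [mul_one, mul_inv_cancel]; exact B.one_mem
      · have : ((a, b') : A4 × A4) * (v₁, w₁) * ((a, b') : A4 × A4)⁻¹ = (a * v₁ * a⁻¹, b' * w₁ * b'⁻¹) := by
          apply Prod.ext <;> simp
        rw [this]; exact e₁
      · have : ((a, b') : A4 × A4) * (v₂, w₂) * ((a, b') : A4 × A4)⁻¹ = (a * v₂ * a⁻¹, b' * w₂ * b'⁻¹) := by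
          apply Prod.ext <;> simp
        rw [this]; exact e₂
      · have : ((a, b') : A4 × A4) * (v₁ * v₂, w₁ * w₂) * ((a, b') : A4 × A4)⁻¹ =
            (a * v₁ * a⁻¹, b' * w₁ * b'⁻¹) * (a * v₂ * a⁻¹, b' * w₂ * b'⁻¹) := by
          apply Prod.ext <;> simp [mul_assoc]
        rw [this]; exact B.mul_mem e₁ e₂
    have hbiQ : ((1, b⁻¹) : A4 × A4) ∈ (Q : Subgroup _) := by
      have := inv_mem hbQ
      simpa using this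
    rcases L2 a v₁ v₂ ⟨ha3, ha1, hv₁s, hv₂s, hv₁, hv₂, hv₁₂⟩ with ⟨a1, a2, -, -⟩ | ⟨a1, a2, -, -⟩ <;>
    rcases L2 b w₁ w₂ ⟨hb3, hb1, hw₁s, hw₂s, hw₁, hw₂, hw₁₂⟩ with ⟨b1, b2, b3, b4⟩ | ⟨b1, b2, b3, b4⟩
    · refine ⟨b, hb3, hb1, hbQ, conj_closed b ?_ ?_⟩
      · rw [a1, b1]; exact hu₂B
      · rw [a2, b2]; exact hu₁₂B
    · refine ⟨b⁻¹, hbi3, hbi1, hbiQ, conj_closed b⁻¹ ?_ ?_⟩
      · rw [a1, inv_inv, b3]; exact hu₂B
      · rw [a2, inv_inv, b4]; exact hu₁₂B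
    · refine ⟨b⁻¹, hbi3, hbi1, hbiQ, conj_closed b⁻¹ ?_ ?_⟩
      · rw [a1, inv_inv, b3]; exact hu₁₂B
      · rw [a2, inv_inv, b4]; exact hu₁B
    · refine ⟨b, hb3, hb1, hbQ, conj_closed b ?_ ?_⟩
      · rw [a1, b1]; exact hu₁₂B
      · rw [a2, b2]; exact hu₁B
  obtain ⟨b', hb'3, hb'1, hb'Q, hnorm⟩ := key
  set c : A4 × A4 := (a, b') with hc
  have hc3 : c ^ 3 = 1 := by
    apply Prod.ext
    · simpa [hc] using ha3
    · simpa [hc] using hb'3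
  have hc1 : c ≠ 1 := by
    intro h
    apply ha1
    have := congrArg Prod.fst h
    simpa [hc] using this
  have hcQ : c ∈ (Q : Subgroup _) := by
    have := mul_mem haQ hb'Q
    simpa [hc] using this
  refine ⟨Subgroup.zpowers c, Subgroup.zpowers_le.2 hcQ, ?_, ?_, ?_, ?_⟩
  · rw [Nat.card_zpowers]; exact orderOf_eq_prime hc3 hc1
  · intro h
    have hmem : c ∈ Subgroup.zpowers c := Subgroup.mem_zpowers c
    rw [h] at hmem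
    have h2 := Subgroup.mem_prod.1 (Subgroup.mem_inf.1 hmem).2
    exact hb'1 (Subgroup.mem_bot.1 h2.2)
  · intro h
    have hmem : c ∈ Subgroup.zpowers c := Subgroup.mem_zpowers c
    rw [h] at hmem
    have h2 := Subgroup.mem_prod.1 (Subgroup.mem_inf.1 hmem).2
    exact ha1 (Subgroup.mem_bot.1 h2.1)
  · exact Subgroup.zpowers_le.2 (mem_normalizer_of_conj_mem B c hc3 hnorm)

end Cfsg.Agent.S4406
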