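import Mathlib
import Cfsg.Statements.S4408
import Cfsg.Agent.Lib_helper7_Eigen3
import Cfsg.Agent.Lib_helper7_Fitting
import Cfsg.Agent.S0044

set_option autoImplicit false
open Cfsg

namespace Cfsg.Agent.helper7

theorem card_iSup_of_indep {G : Type*} [Group G] {ι : Type*} [Fintype ι] {H : ι → Subgroup G}
    (hcomm : Pairwise fun i j : ι => ∀ x y : G, x ∈ H i → y ∈ H j → Commute x y)
    (hind : iSupIndep H) : Nat.card ↥(⨆ i, H i) = ∏ i, Nat.card ↥(H i) := by
  rw [← Subgroup.noncommPiCoprod_range (hcomm := hcomm)]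
  have e := MonoidHom.ofInjective
    (Subgroup.injective_noncommPiCoprod_of_iSupIndep (hcomm := hcomm) hind)
  rw [← Nat.card_congr e.toEquiv, Nat.card_pi]

end Cfsg.Agent.helper7

namespace Cfsg.Agent.S4408

open Cfsg.Agent.helper7 in
/-- Let S be a finite solvable group whose Fitting subgroup F(S) has odd order, and let I be an elementary abelian 2-subgroup of S of order 2ⁿ with n ≥ 1. Then F(S) contains subgroups A₁, …, Aₙ of prime order, each normalized by I, pairwise commuting and generating a subgroup A of order |A₁|⋯|Aₙ| (their internal direct product), such that no non-identity element of I centralizes A. -/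
theorem result {S : Type*} [Group S] [Finite S]
    [Group.IsSolvable S] (hF : Odd (Nat.card ↥(Cfsg.fittingSubgroup S)))
    (I : Subgroup S) (hI : Cfsg.IsElementaryAbelian 2 I) (n : ℕ) (hn : 1 ≤ n) (hIn : Nat.card ↥I = 2 ^ n) :
    ∃ f : Fin n → Subgroup S, (∀ i, (Nat.card ↥(f i)).Prime) ∧ (∀ i, f i ≤ Cfsg.fittingSubgroup S) ∧
      (∀ i, I ≤ Subgroup.normalizer ((f i) : Set S)) ∧ (∀ i j, i ≠ j → ∀ a ∈ f i, ∀ b ∈ f j, a * b = b * a) ∧
      Nat.card ↥(⨆ i, f i) = ∏ i, Nat.card ↥(f i) ∧ I ⊓ Subgroup.centralizer ((⨆ i, f i : Subgroup S) : Set S) = ⊥ := by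
  classical
  have hFnil : Group.IsNilpotent ↥(Cfsg.fittingSubgroup S) := by
    rw [fittingSubgroup_eq]
    exact fitOf_nilpotent _
  have hIF : I ≤ Subgroup.normalizer ((Cfsg.fittingSubgroup S : Subgroup S) : Set S) := by
    rw [fittingSubgroup_eq]
    exact le_top.trans (fitOf_normal (⊤ : Subgroup S))
  have hI2 : ∀ a ∈ I, a * a = 1 := by
    intro a ha
    have := helper3.ea_pow hI ha
    rwa [pow_two] at this
  have hfaith : ∀ t ∈ I, (∀ g ∈ Cfsg.fittingSubgroup S, t * g * t⁻¹ = g) → t = 1 := by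
    intro t htI ht
    have h1 : t ∈ Subgroup.centralizer ((Cfsg.fittingSubgroup S : Subgroup S) : Set S) := by
      rw [Subgroup.mem_centralizer_iff]
      intro g hg
      have := ht g hg
      calc g * t = (t * g * t⁻¹) * t := by rw [this]
        _ = t * g := by group
    have h2 : t ∈ Cfsg.fittingSubgroup S := Cfsg.Agent.S0044.result h1
    apply eq_one_of_inv_eq_self_of_odd (orderOf_odd_of_mem hF h2)
    exact (inv_eq_of_mul_eq_one_left (hI2 t htI)).symm
  obtain ⟨b, x, hb, hx, hxp, hxE, hinv, hcen, hxx, hclo, hfa⟩ :=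
    eigen_decomp_nilpotent hI hFnil hF hIF hfaith n hIn
  have hcomm' : ∀ i j, ∀ a ∈ Subgroup.zpowers (x i), ∀ c ∈ Subgroup.zpowers (x j), a * c = c * a := by
    intro i j a ha c hc
    obtain ⟨m, rfl⟩ := Subgroup.mem_zpowers_iff.mp ha
    obtain ⟨l, rfl⟩ := Subgroup.mem_zpowers_iff.mp hc
    exact ((show Commute (x i) (x j) from hxx i j).zpow_zpow m l)
  have hcomm : Pairwise fun i j : Fin n => ∀ a c : S, a ∈ Subgroup.zpowers (x i) →
      c ∈ Subgroup.zpowers (x j) → Commute a c := by
    intro i j _ a c ha hc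
    exact hcomm' i j a ha c hc
  have hodd : ∀ i, Odd (orderOf (x i)) := fun i => orderOf_odd_of_mem hF (hx i)
  have hind := iSupIndep_zpowers_of_eigen hodd hinv hcen
  refine ⟨fun i => Subgroup.zpowers (x i), ?_, ?_, ?_, ?_, ?_, ?_⟩
  · intro i
    rw [Nat.card_zpowers]
    exact hxp i
  · intro i
    rw [Subgroup.zpowers_le]
    exact hx i
  · intro i
    exact (hxE i).le_normalizer_zpowers
  · intro i j _ a ha c hc
    exact hcomm' i j a ha c hc
  · exact card_iSup_of_indep hcomm hind
  · rw [eq_bot_iff]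
    rintro t ⟨htI, htC⟩
    rw [Subgroup.mem_bot]
    apply hfa t htI
    intro i
    have hmem : x i ∈ (⨆ i, Subgroup.zpowers (x i) : Subgroup S) :=
      (le_iSup (fun i => Subgroup.zpowers (x i)) i) (Subgroup.mem_zpowers (x i))
    have := Subgroup.mem_centralizer_iff.mp htC (x i) hmem
    rw [← this]; group

end Cfsg.Agent.S4408
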