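import Cfsg.Statements.S4410
import Mathlib
import Cfsg.Agent.Lib_helper26_Tv
import Cfsg.Agent.Lib_helper23_Solv
import Cfsg.Agent.Lib_helper1_Core

set_option autoImplicit false
open Cfsg

namespace Cfsg.Agent.S4410

/-- Let V be a finite-dimensional vector space over the field with two elements and S a solvable group of linear automorphisms of V with O₂(S) = 1. If P ∈ S has order 4 and (P − 1)³ = 0 on V, then the image of (P − 1)² has at least 4 elements; equivalently, in the decomposition of V into indecomposable modules for the cyclic group generated by P, at least two summands have dimension 3. -/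
theorem result
    {V : Type*} [AddCommGroup V] [Module (ZMod 2) V] [Finite V]
    (S : Subgroup (V ≃ₗ[ZMod 2] V)) (hS : Group.IsSolvable ↥S) (hO2 : Cfsg.pCore 2 ↥S = ⊥)
    (P : V ≃ₗ[ZMod 2] V) (hPS : P ∈ S) (hP4 : orderOf P = 4)
    (hcub : ((P : V →ₗ[ZMod 2] V) - LinearMap.id) ^ 3 = 0) :
    4 ≤ Nat.card ↥(LinearMap.range (((P : V →ₗ[ZMod 2] V) - LinearMap.id) ^ 2)) := by
  classical
  by_contra hlt
  push Not at hlt
  obtain ⟨L, hL⟩ : ∃ L : V →ₗ[ZMod 2] V, L = ((P : V →ₗ[ZMod 2] V) - LinearMap.id) ^ 2 :=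
    ⟨_, rfl⟩
  rw [← hL] at hlt
  have h2 : ∀ v : V, v + v = 0 := by
    intro v
    have h : (2 : ZMod 2) • v = 0 := by
      have h0 : (2 : ZMod 2) = 0 := by decide
      rw [h0, zero_smul]
    rwa [two_smul] at h
  have hadd : ∀ a b : V, a + b = 0 → a = b := by
    intro a b hab
    have h1 : a = -b := eq_neg_of_add_eq_zero_left hab
    have h3 : -b = b := neg_eq_of_add_eq_zero_right (h2 b)
    rw [h1, h3]
  have hLv : ∀ v : V, L v = P (P v) + v := by
    intro v
    rw [hL, pow_two]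
    simp only [Module.End.mul_apply, LinearMap.sub_apply, LinearMap.id_apply, LinearEquiv.coe_coe,
      map_sub]
    have e : P (P v) - P v - (P v - v) = P (P v) + v - (P v + P v) := by abel
    rw [e, h2, sub_zero]
  have huniq : ∀ u₁ u₂ : V, u₁ ∈ LinearMap.range L → u₂ ∈ LinearMap.range L → u₁ ≠ 0 → u₂ ≠ 0 →
      u₁ = u₂ := by
    intro u₁ u₂ h1 h2' hn1 hn2
    by_contra hne
    have e0 : (0 : V) ≠ u₁ := fun h => hn1 h.symm
    have e1 : (0 : V) ≠ u₂ := fun h => hn2 h.symm
    have e2 : u₁ + u₂ ≠ 0 := fun h => hne (hadd _ _ h)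
    have e3 : u₁ ≠ u₁ + u₂ := by
      intro h
      apply hn2
      have : u₁ + u₂ = u₁ + 0 := by rw [add_zero]; exact h.symm
      exact add_left_cancel this
    have e4 : u₂ ≠ u₁ + u₂ := by
      intro h
      apply hn1
      have : u₁ + u₂ = 0 + u₂ := by rw [zero_add]; exact h.symm
      exact add_right_cancel this
    have hs : ({0, u₁, u₂, u₁ + u₂} : Finset V).card = 4 := by
      rw [Finset.card_insert_of_notMem (by simp [e0, e1, e2.symm]),
        Finset.card_insert_of_notMem (by simp [hne, e3]),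
        Finset.card_insert_of_notMem (by simp [e4]), Finset.card_singleton]
    have hsub : (({0, u₁, u₂, u₁ + u₂} : Finset V) : Set V) ⊆ (LinearMap.range L : Set V) := by
      intro z hz
      simp only [Finset.coe_insert, Finset.coe_singleton, Set.mem_insert_iff,
        Set.mem_singleton_iff] at hz
      rcases hz with rfl | rfl | rfl | rfl
      · exact (LinearMap.range L).zero_mem
      · exact h1
      · exact h2'
      · exact (LinearMap.range L).add_mem h1 h2'
    have hle := Set.ncard_le_ncard hsub (Set.toFinite _)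
    rw [Set.ncard_coe_finset, hs] at hle
    have hcc : Nat.card ↥(LinearMap.range L) = (LinearMap.range L : Set V).ncard := rfl
    omega
  -- P has order 4
  have hP4' : P * P * (P * P) = 1 := by
    have h := pow_orderOf_eq_one P
    rw [hP4] at h
    have e : P ^ 4 = P * P * (P * P) := by
      rw [show (4 : ℕ) = 2 + 2 from rfl, pow_add, pow_two]
    rw [← e]
    exact h
  have hP2 : P * P ≠ 1 := by
    intro h
    have hd : orderOf P ∣ 2 := orderOf_dvd_of_pow_eq_one (by rw [pow_two]; exact h)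
    rw [hP4] at hd
    omega
  obtain ⟨v₀, hv₀⟩ : ∃ v₀ : V, P (P v₀) ≠ v₀ := by
    by_contra hcon
    push Not at hcon
    apply hP2
    apply LinearEquiv.ext
    intro v
    exact hcon v
  obtain ⟨c₀, hc₀def⟩ : ∃ c₀ : V, c₀ = L v₀ := ⟨_, rfl⟩
  have hc₀ : c₀ ≠ 0 := by
    intro h
    apply hv₀
    rw [hc₀def, hLv] at h
    exact hadd _ _ h
  have hPPv : ∀ v : V, P (P v) = v ∨ P (P v) = v + c₀ := by
    intro v
    by_cases hz : L v = 0
    · left
      rw [hLv] at hz
      exact hadd _ _ hz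
    · right
      have := huniq (L v) c₀ ⟨v, rfl⟩ ⟨v₀, hc₀def.symm⟩ hz hc₀
      rw [hLv] at this
      have e : P (P v) = c₀ - v := eq_sub_of_add_eq this
      have hneg : -v = v := neg_eq_of_add_eq_zero_right (h2 v)
      rw [e, sub_eq_add_neg, hneg, add_comm]
  have hPPc : P (P c₀) = c₀ := by
    have h1 : P (P v₀) = v₀ + c₀ := (hPPv v₀).resolve_left hv₀
    have h3 : P (P (P (P v₀))) = v₀ := by
      have := congrArg (fun f : V ≃ₗ[ZMod 2] V => f v₀) hP4'
      exact this
    rw [h1, map_add, map_add, h1] at h3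
    have h4 : c₀ + P (P c₀) = 0 := by
      have : v₀ + (c₀ + P (P c₀)) = v₀ + 0 := by rw [add_zero, ← add_assoc]; exact h3
      exact add_left_cancel this
    exact (hadd _ _ h4).symm
  -- the group
  haveI : Finite (V ≃ₗ[ZMod 2] V) :=
    Finite.of_injective (fun f : V ≃ₗ[ZMod 2] V => (f : V → V)) DFunLike.coe_injective
  haveI : Finite ↥S := inferInstance
  obtain ⟨Pe, hPe⟩ : ∃ Pe : ↥S, Pe = ⟨P, hPS⟩ := ⟨_, rfl⟩
  have hsm : ∀ (g : ↥S) (v : V), g • v = (g : V ≃ₗ[ZMod 2] V) v := fun g v => rfl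
  have hf : ∀ g h : ↥S, (∀ v : V, g • v = h • v) → g = h := by
    intro g h hv
    apply Subtype.ext
    apply LinearEquiv.ext
    intro v
    exact hv v
  have httv : Cfsg.Agent.helper26.Tv.IsTv (Pe * Pe) c₀ := by
    refine ⟨?_, ?_, ?_⟩
    · apply Subtype.ext
      rw [hPe]
      exact hP4'
    · intro v
      rw [hsm, hPe]
      exact hPPv v
    · rw [hsm, hPe]
      exact hPPc
  have htne : Pe * Pe ≠ 1 := by
    intro h
    apply hP2
    have := congrArg (fun g : ↥S => (g : V ≃ₗ[ZMod 2] V)) h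
    rw [hPe] at this
    exact this
  -- R = O_{2'}(S)
  haveI hRn : (Cfsg.pPrimeCore 2 ↥S).Normal := Cfsg.Agent.helper1.pPrimeCore_normal 2
  have hRc : (Nat.card (Cfsg.pPrimeCore 2 ↥S)).Coprime 2 := Cfsg.Agent.helper1.pPrimeCore_coprime 2
  have hR : ∀ g ∈ Cfsg.pPrimeCore 2 ↥S, g * g = 1 → g = 1 := by
    intro g hg hgg
    have h1 : orderOf (⟨g, hg⟩ : ↥(Cfsg.pPrimeCore 2 ↥S)) ∣ 2 := by
      apply orderOf_dvd_of_pow_eq_one
      rw [pow_two]
      exact Subtype.ext hgg
    have h3 : orderOf (⟨g, hg⟩ : ↥(Cfsg.pPrimeCore 2 ↥S)) ∣ Nat.card (Cfsg.pPrimeCore 2 ↥S) :=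
      orderOf_dvd_natCard _
    have h4 : orderOf (⟨g, hg⟩ : ↥(Cfsg.pPrimeCore 2 ↥S)) = 1 :=
      Nat.Coprime.eq_one_of_dvd (Nat.Coprime.coprime_dvd_left h3 hRc) h1
    have h5 := orderOf_eq_one_iff.1 h4
    exact congrArg Subtype.val h5
  have hFR : Cfsg.fittingSubgroup ↥S ≤ Cfsg.pPrimeCore 2 ↥S := by
    rw [Cfsg.Agent.helper1.fitting_eq_iSup_pCore]
    apply iSup_le
    intro p
    by_cases hp2 : (p : ℕ) = 2
    · rw [hp2, hO2]; exact bot_le
    · exact Cfsg.Agent.helper1.le_pPrimeCore (Cfsg.Agent.helper1.pCore_normal _)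
        (Cfsg.Agent.helper1.coprime_card_of_isPGroup_ne Nat.prime_two p.2 hp2
          (Cfsg.Agent.helper1.pCore_isPGroup _))
  obtain ⟨x, hxR, hxt⟩ : ∃ x ∈ Cfsg.pPrimeCore 2 ↥S, x * (Pe * Pe) ≠ (Pe * Pe) * x := by
    by_contra hcon
    push Not at hcon
    have hcent : Pe * Pe ∈ Subgroup.centralizer ((Cfsg.fittingSubgroup ↥S : Subgroup ↥S) : Set ↥S) := by
      rw [Subgroup.mem_centralizer_iff]
      intro h hh
      exact hcon h (hFR hh)
    have hsc := Cfsg.Agent.helper23.fitting_self_centralizing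
      (Cfsg.Agent.helper23.ppreach_top_of_solvable _ ↥S rfl)
    exact htne (hR _ (hFR (hsc hcent)) httv.1)
  exact Cfsg.Agent.helper26.Tv.no_sqrt_transvection hf h2 (Cfsg.pPrimeCore 2 ↥S) hR (Pe * Pe) Pe rfl
    c₀ httv x hxR hxt

end Cfsg.Agent.S4410
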