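import Mathlib
import Cfsg.Statements.S4412

set_option autoImplicit false
open Cfsg

namespace Cfsg.Agent.S4412

section Basic
variable {P : Type*} [Group P] [Finite P]

/-- non-broad: the fixed points form a cyclic subgroup -/
def NB (T : MulAut P) : Prop := ∃ g : P, ∀ x : P, (T x = x ↔ x ∈ Subgroup.zpowers g)

theorem odd_sq (hodd : Odd (Nat.card P)) (x : P) (h : x * x = 1) : x = 1 := by
  obtain ⟨m, hm⟩ := hodd
  have h3 : x ^ (2 * m + 1) = 1 := by rw [← hm]; exact pow_card_eq_one'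
  have h2 : x ^ 2 = 1 := by rw [pow_two]; exact h
  rw [pow_succ, pow_mul, h2, one_pow, one_mul] at h3
  exact h3

theorem dec (hodd : Odd (Nat.card P)) (T : MulAut P) (hT : ∀ x, T (T x) = x) (x : P) :
    ∃ c i : P, x = c * i ∧ T c = c ∧ T i = i⁻¹ ∧ i ∈ Subgroup.zpowers ((T x)⁻¹ * x) := by
  obtain ⟨m, hm⟩ := hodd
  obtain ⟨u, hu⟩ : ∃ u, u = (T x)⁻¹ * x := ⟨_, rfl⟩
  have hTu : T u = u⁻¹ := by
    rw [hu, map_mul, map_inv, hT, mul_inv_rev, inv_inv]
  have hun : u ^ (2 * m + 1) = 1 := by rw [← hm]; exact pow_card_eq_one'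
  obtain ⟨i, hi⟩ : ∃ i, i = u ^ (m + 1) := ⟨_, rfl⟩
  have hii : i * i = u := by
    rw [hi, ← pow_add]
    have e : m + 1 + (m + 1) = (2 * m + 1) + 1 := by ring
    rw [e, pow_succ, hun, one_mul]
  have hTi : T i = i⁻¹ := by rw [hi, map_pow, hTu, inv_pow]
  refine ⟨x * i⁻¹, i, by group, ?_, hTi, ?_⟩
  · rw [map_mul, map_inv, hTi, inv_inv]
    have hx : x = T x * (i * i) := by rw [hii, hu]; group
    calc T x * i = T x * (i * i) * i⁻¹ := by group
      _ = x * i⁻¹ := by rw [← hx]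
  · rw [← hu, hi]; exact Subgroup.pow_mem _ (Subgroup.mem_zpowers u) _

theorem fixq (hodd : Odd (Nat.card P)) (T : MulAut P) (hT : ∀ x, T (T x) = x) (Q : Subgroup P)
    (hQ : ∀ y, T y = y → y ∈ Q) (x : P) (hx : (T x)⁻¹ * x ∈ Q) : x ∈ Q := by
  obtain ⟨c, i, hxc, hc, -, hi⟩ := dec hodd T hT x
  have hiQ : i ∈ Q := (Subgroup.zpowers_le.mpr hx) hi
  rw [hxc]
  exact Q.mul_mem (hQ c hc) hiQ

theorem invm (hodd : Odd (Nat.card P)) (T : MulAut P) (hT : ∀ x, T (T x) = x) (M : Subgroup P)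
    (hM : ∀ x ∈ M, T x ∈ M) (hfix : ∀ x ∈ M, T x = x → x = 1) : ∀ x ∈ M, T x = x⁻¹ := by
  intro x hx
  obtain ⟨c, i, hxc, hc, hi, hiz⟩ := dec hodd T hT x
  have hiM : i ∈ M := (Subgroup.zpowers_le.mpr (M.mul_mem (M.inv_mem (hM x hx)) hx)) hiz
  have hcM : c ∈ M := by
    have e : c = x * i⁻¹ := by rw [hxc]; group
    rw [e]; exact M.mul_mem hx (M.inv_mem hiM)
  have hc1 : c = 1 := hfix c hcM hc
  have e2 : x = i := by rw [hxc, hc1, one_mul]
  rw [e2]; exact hi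

theorem g4 {p : ℕ} [Fact p.Prime] (hP : IsPGroup p P) (hodd : Odd (Nat.card P))
    (a b : MulAut P) (ha : ∀ x, a (a x) = x) (hb : ∀ x, b (b x) = x)
    (hab : ∀ x, a (b x) = b (a x))
    (Q : Subgroup P) (hQa : ∀ x, a x = x → x ∈ Q) (hQb : ∀ x, b x = x → x ∈ Q)
    (hQab : ∀ x, a (b x) = x → x ∈ Q) (hinv : ∀ x ∈ Q, a x ∈ Q) : Q = ⊤ := by
  by_contra hne
  haveI : Group.IsNilpotent P := hP.isNilpotent
  have hnc : NormalizerCondition P := Group.normalizerCondition_of_isNilpotent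
  have hlt : Q < Subgroup.normalizer (Q : Set P) := hnc Q (lt_top_iff_ne_top.mpr hne)
  obtain ⟨x, hxN, hxQ⟩ := SetLike.exists_of_lt hlt
  obtain ⟨c, i, hxc, hc, hi, -⟩ := dec hodd a ha x
  have hcQ : c ∈ Q := hQa c hc
  have hiQ : i ∉ Q := fun h => hxQ (by rw [hxc]; exact Q.mul_mem hcQ h)
  have hiN : i ∈ Subgroup.normalizer (Q : Set P) := by
    have e : i = c⁻¹ * x := by rw [hxc]; group
    rw [e]; exact Subgroup.mul_mem _ (Subgroup.inv_mem _ (hlt.le hcQ)) hxN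
  obtain ⟨c', i', hic, hc', hi', -⟩ := dec hodd b hb i
  have hc'Q : c' ∈ Q := hQb c' hc'
  have hi'Q : i' ∉ Q := fun h => hiQ (by rw [hic]; exact Q.mul_mem hc'Q h)
  apply hi'Q
  have hT : ∀ y, (a * b) ((a * b) y) = y := by
    intro y
    show a (b (a (b y))) = y
    rw [← hab (b y), hb, ha]
  apply fixq hodd (a * b) hT Q (fun y hy => hQab y hy) i'
  have hi'eq : i' = c'⁻¹ * i := by rw [hic]; group
  have h1 : (a * b) i' = (a i')⁻¹ := by
    show a (b i') = (a i')⁻¹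
    rw [hi', map_inv]
  have h2 : a i' = (a c')⁻¹ * i⁻¹ := by
    rw [hi'eq, map_mul, map_inv, hi]
  have h3 : ((a * b) i')⁻¹ * i' = (a c')⁻¹ * (i⁻¹ * c'⁻¹ * (i⁻¹)⁻¹) := by
    rw [h1, inv_inv, h2, hi'eq]; group
  rw [h3]
  refine Q.mul_mem (Q.inv_mem (hinv c' hc'Q)) ?_
  have hinvN : i⁻¹ ∈ Subgroup.normalizer (Q : Set P) := Subgroup.inv_mem _ hiN
  exact (Subgroup.mem_normalizer_iff.mp hinvN c'⁻¹).mp (Q.inv_mem hc'Q)

theorem sign_lemma {p : ℕ} (hp : p.Prime) (hp2 : p ≠ 2) (hP : IsPGroup p P) (s : MulAut P)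
    (hs : ∀ x, s (s x) = x) (g : P) (hg : s g ∈ Subgroup.zpowers g) : s g = g ∨ s g = g⁻¹ := by
  haveI : Fact p.Prime := ⟨hp⟩
  obtain ⟨n, hn⟩ := (IsPGroup.iff_orderOf.mp hP) g
  have hg' := mem_powers_iff_mem_zpowers.mpr hg
  obtain ⟨k, hk⟩ := (Submonoid.mem_powers_iff _ _).mp hg'
  have hkk : g ^ (k * k) = g ^ 1 := by
    rw [pow_one, pow_mul, hk, ← map_pow s g k, hk, hs]
  have hmod : k * k ≡ 1 [MOD p ^ n] := by
    rw [← hn]; exact pow_eq_pow_iff_modEq.mp hkk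
  rcases Nat.eq_zero_or_pos k with hk0 | hkpos
  · left
    rw [hk0, pow_zero] at hk
    have e : g = 1 := by
      have h1 : s g = s 1 := by rw [← hk, map_one]
      exact s.injective h1
    rw [e, map_one]
  · have h1le : 1 ≤ k * k := Nat.mul_pos hkpos hkpos
    have hdvd : p ^ n ∣ k * k - 1 := (Nat.modEq_iff_dvd' h1le).mp hmod.symm
    have hfac : k * k - 1 = (k - 1) * (k + 1) := by
      obtain ⟨j, rfl⟩ : ∃ j, k = j + 1 := ⟨k - 1, by omega⟩
      have e : (j + 1) * (j + 1) = j * (j + 1 + 1) + 1 := by ring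
      rw [e, Nat.add_sub_cancel, Nat.add_sub_cancel]
    rw [hfac] at hdvd
    by_cases hd : p ∣ k - 1
    · left
      have hnd : ¬ p ∣ k + 1 := by
        intro h
        have h2 : p ∣ (k + 1) - (k - 1) := Nat.dvd_sub h hd
        have h3 : (k + 1) - (k - 1) = 2 := by omega
        rw [h3] at h2
        have h4 := Nat.le_of_dvd (by norm_num) h2
        have h5 := hp.two_le
        omega
      have hcop : Nat.Coprime (p ^ n) (k + 1) :=
        Nat.Coprime.pow_left n ((Nat.Prime.coprime_iff_not_dvd hp).mpr hnd)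
      have h4 : p ^ n ∣ k - 1 := Nat.Coprime.dvd_of_dvd_mul_right hcop hdvd
      rw [← hn] at h4
      have h5 : g ^ (k - 1) = 1 := orderOf_dvd_iff_pow_eq_one.mp h4
      rw [← hk]
      calc g ^ k = g ^ (k - 1 + 1) := by rw [Nat.sub_add_cancel hkpos]
        _ = g := by rw [pow_succ, h5, one_mul]
    · right
      have hcop : Nat.Coprime (p ^ n) (k - 1) :=
        Nat.Coprime.pow_left n ((Nat.Prime.coprime_iff_not_dvd hp).mpr hd)
      have h4 : p ^ n ∣ k + 1 := Nat.Coprime.dvd_of_dvd_mul_left hcop hdvd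
      rw [← hn] at h4
      have h5 : g ^ (k + 1) = 1 := orderOf_dvd_iff_pow_eq_one.mp h4
      rw [← hk]
      rw [pow_succ] at h5
      exact eq_inv_of_mul_eq_one_left h5

omit [Finite P] in
theorem fix_zpowers (s : MulAut P) (g : P) (h : s g = g) :
    ∀ x ∈ Subgroup.zpowers g, s x = x := by
  intro x hx
  obtain ⟨k, rfl⟩ := Subgroup.mem_zpowers_iff.mp hx
  rw [map_zpow, h]

omit [Finite P] in
theorem inv_zpowers (s : MulAut P) (g : P) (h : s g = g⁻¹) :
    ∀ x ∈ Subgroup.zpowers g, s x = x⁻¹ := by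
  intro x hx
  obtain ⟨k, rfl⟩ := Subgroup.mem_zpowers_iff.mp hx
  rw [map_zpow, h, inv_zpow]

/-- fixed subgroup -/
def FixS (T : MulAut P) : Subgroup P where
  carrier := {x | T x = x}
  one_mem' := map_one T
  mul_mem' := by
    intro x y hx hy
    show T (x * y) = x * y
    rw [map_mul, show T x = x from hx, show T y = y from hy]
  inv_mem' := by
    intro x hx
    show T x⁻¹ = x⁻¹
    rw [map_inv, show T x = x from hx]

theorem broad_lemma {p : ℕ} (hp : p.Prime) (hp2 : p ≠ 2) (hP : IsPGroup p P) (s u : MulAut P)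
    (hu : ∀ x, u (u x) = x) (hsu : ∀ x, s (u x) = u (s x))
    (x y : P) (hsx : s x = x) (hsy : s y = y) (hux : u x = x⁻¹) (hxx : x ≠ x⁻¹)
    (huy : u y = y) (hyy : y ≠ y⁻¹) : ¬ NB s := by
  rintro ⟨g, hg⟩
  have hxg : x ∈ Subgroup.zpowers g := (hg x).mp hsx
  have hyg : y ∈ Subgroup.zpowers g := (hg y).mp hsy
  have hsg : s g = g := (hg g).mpr (Subgroup.mem_zpowers g)
  have hug : u g ∈ Subgroup.zpowers g := (hg (u g)).mp (by rw [hsu, hsg])
  rcases sign_lemma hp hp2 hP u hu g hug with h | h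
  · have e := fix_zpowers u g h x hxg
    rw [hux] at e
    exact hxx e.symm
  · have e := inv_zpowers u g h y hyg
    rw [huy] at e
    exact hyy e

theorem comm_lemma (hodd : Odd (Nat.card P)) (c s : MulAut P) (hc : ∀ x, c (c x) = x)
    (hcs : ∀ x, c (s x) = s (c x)) (hfix : ∀ x, c x = x → s x = x → x = 1)
    (x y : P) (hx : s x = x) (hy : s y = y) : x * y = y * x := by
  have hM : ∀ z ∈ FixS s, c z ∈ FixS s := by
    intro z hz
    show s (c z) = c z
    rw [← hcs, show s z = z from hz]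
  have hinvM := invm hodd c hc (FixS s) hM (fun z hz hcz => hfix z hcz hz)
  have h1 : c x = x⁻¹ := hinvM x hx
  have h2 : c y = y⁻¹ := hinvM y hy
  have h3 : c (x * y) = (x * y)⁻¹ := hinvM (x * y) ((FixS s).mul_mem hx hy)
  rw [map_mul, h1, h2] at h3
  have h4 : (x⁻¹ * y⁻¹)⁻¹ = ((x * y)⁻¹)⁻¹ := by rw [h3]
  rw [mul_inv_rev, inv_inv, inv_inv, inv_inv] at h4
  exact h4.symm

theorem exists_omega {p : ℕ} (hp : p.Prime) (hP : IsPGroup p P) (g : P) (hg : g ≠ 1) :
    ∃ w ∈ Subgroup.zpowers g, orderOf w = p := by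
  haveI : Fact p.Prime := ⟨hp⟩
  obtain ⟨n, hn⟩ := (IsPGroup.iff_orderOf.mp hP) g
  have hn0 : n ≠ 0 := by
    rintro rfl
    rw [pow_zero, orderOf_eq_one_iff] at hn
    exact hg hn
  obtain ⟨m, rfl⟩ : ∃ m, n = m + 1 := ⟨n - 1, by omega⟩
  refine ⟨g ^ (p ^ m), Subgroup.pow_mem _ (Subgroup.mem_zpowers g) _, ?_⟩
  apply orderOf_eq_prime
  · rw [← pow_mul, ← pow_succ, ← hn]; exact pow_orderOf_eq_one g
  · apply pow_ne_one_of_lt_orderOf (pow_ne_zero _ hp.ne_zero)
    rw [hn]; exact Nat.pow_lt_pow_right hp.one_lt (Nat.lt_succ_self m)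

/-- elements of `I` fixing `g` -/
def Kof (I : Subgroup (MulAut P)) (g : P) : Subgroup ↥I where
  carrier := {s | (s : MulAut P) g = g}
  one_mem' := rfl
  mul_mem' := by
    intro s t hs ht
    show ((s * t : ↥I) : MulAut P) g = g
    rw [Subgroup.coe_mul, MulAut.mul_apply, show (t : MulAut P) g = g from ht]
    exact hs
  inv_mem' := by
    intro s hs
    show ((s⁻¹ : ↥I) : MulAut P) g = g
    have hs' : (s : MulAut P) g = g := hs
    rw [Subgroup.coe_inv]
    calc (s : MulAut P)⁻¹ g = (s : MulAut P)⁻¹ ((s : MulAut P) g) := by rw [hs']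
      _ = g := MulAut.inv_apply_self _ _ _

theorem pick (I : Subgroup (MulAut P)) (hI8 : Nat.card ↥I = 8) (F : Finset (MulAut P))
    (hF : F.card < 8) : ∃ b ∈ I, b ∉ F := by
  by_contra h
  simp only [not_exists, not_and, not_not] at h
  have hsub : (I : Set (MulAut P)) ⊆ (↑F : Set (MulAut P)) :=
    fun b hb => Finset.mem_coe.mpr (h b hb)
  have h1 : (I : Set (MulAut P)).ncard ≤ (↑F : Set (MulAut P)).ncard :=
    Set.ncard_le_ncard hsub F.finite_toSet
  rw [Set.ncard_coe_finset] at h1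
  have h2 : Nat.card ↥I = (I : Set (MulAut P)).ncard := Nat.card_coe_set_eq (I : Set (MulAut P))
  omega

theorem exists_line (I I₀ : Subgroup (MulAut P)) (hI : Cfsg.IsElementaryAbelian 2 I)
    (hI8 : Nat.card ↥I = 8) (hI₀ : I₀ ≤ I)
    (hdisj : ∀ T ∈ I₀, T ≠ 1 → NB T)
    (hprod : ∀ T ∈ I, ∀ T' ∈ I, T ≠ 1 → T' ≠ 1 → ¬ NB T → ¬ NB T' → T * T' ∈ I₀) :
    ∃ a ∈ I, ∃ b ∈ I, a ≠ 1 ∧ b ≠ 1 ∧ a ≠ b ∧ NB a ∧ NB b ∧ NB (a * b) := by
  classical
  have hsqI : ∀ S ∈ I, S * S = 1 := by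
    intro S hS
    have h := hI.2 S hS
    rwa [pow_two] at h
  have heq_of_mul : ∀ S T : MulAut P, T ∈ I → S * T = 1 → S = T := by
    intro S T hT h
    have h1 : S = T⁻¹ := eq_inv_of_mul_eq_one_left h
    have h2 : T⁻¹ = T := inv_eq_of_mul_eq_one_left (hsqI T hT)
    rw [h1, h2]
  by_cases h3 : ∃ T1 ∈ I, ∃ T2 ∈ I, ∃ T3 ∈ I, (T1 ≠ 1 ∧ ¬ NB T1) ∧ (T2 ≠ 1 ∧ ¬ NB T2) ∧
      (T3 ≠ 1 ∧ ¬ NB T3) ∧ T1 ≠ T2 ∧ T1 ≠ T3 ∧ T2 ≠ T3
  · obtain ⟨T1, hT1, T2, hT2, T3, hT3, ⟨n1, b1⟩, ⟨n2, b2⟩, ⟨n3, b3⟩, d12, d13, d23⟩ := h3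
    have m12 : T1 * T2 ∈ I₀ := hprod T1 hT1 T2 hT2 n1 n2 b1 b2
    have m13 : T1 * T3 ∈ I₀ := hprod T1 hT1 T3 hT3 n1 n3 b1 b3
    have ne12 : T1 * T2 ≠ 1 := fun h => d12 (heq_of_mul T1 T2 hT2 h)
    have ne13 : T1 * T3 ≠ 1 := fun h => d13 (heq_of_mul T1 T3 hT3 h)
    have neq : T1 * T2 ≠ T1 * T3 := fun h => d23 (mul_left_cancel h)
    have mprod : (T1 * T2) * (T1 * T3) ∈ I₀ := I₀.mul_mem m12 m13
    have neprod : (T1 * T2) * (T1 * T3) ≠ 1 := fun h => neq (heq_of_mul _ _ (hI₀ m13) h)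
    exact ⟨T1 * T2, hI₀ m12, T1 * T3, hI₀ m13, ne12, ne13, neq, hdisj _ m12 ne12,
      hdisj _ m13 ne13, hdisj _ mprod neprod⟩
  · have hXY : ∃ X Y : MulAut P, ∀ T ∈ I, T ≠ 1 → ¬ NB T → T = X ∨ T = Y := by
      by_cases hB : ∃ X ∈ I, X ≠ 1 ∧ ¬ NB X
      · obtain ⟨X, hX, nX, bX⟩ := hB
        by_cases hB2 : ∃ Y ∈ I, (Y ≠ 1 ∧ ¬ NB Y) ∧ Y ≠ X
        · obtain ⟨Y, hY, ⟨nY, bY⟩, dYX⟩ := hB2
          refine ⟨X, Y, fun T hT nT bT => ?_⟩
          by_contra hcon
          simp only [not_or] at hcon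
          exact h3 ⟨X, hX, Y, hY, T, hT, ⟨nX, bX⟩, ⟨nY, bY⟩, ⟨nT, bT⟩, fun h => dYX h.symm,
            fun h => hcon.1 h.symm, fun h => hcon.2 h.symm⟩
        · refine ⟨X, X, fun T hT nT bT => ?_⟩
          left
          by_contra hne
          exact hB2 ⟨T, hT, ⟨nT, bT⟩, hne⟩
      · exact ⟨1, 1, fun T hT nT bT => absurd ⟨T, hT, nT, bT⟩ hB⟩
    obtain ⟨X, Y, hXY⟩ := hXY
    obtain ⟨a, haI, haF⟩ := pick I hI8 {1, X, Y}
      (lt_of_le_of_lt Finset.card_le_three (by norm_num))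
    obtain ⟨b, hbI, hbF⟩ := pick I hI8 {1, a, X, Y, a * X, a * Y}
      (lt_of_le_of_lt Finset.card_le_six (by norm_num))
    simp only [Finset.mem_insert, Finset.mem_singleton, not_or] at haF hbF
    obtain ⟨ha1, haX, haY⟩ := haF
    obtain ⟨hb1, hba, hbX, hbY, hbaX, hbaY⟩ := hbF
    have hNBa : NB a := by
      by_contra h
      rcases hXY a haI ha1 h with h' | h'
      · exact haX h'
      · exact haY h'
    have hNBb : NB b := by
      by_contra h
      rcases hXY b hbI hb1 h with h' | h'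
      · exact hbX h'
      · exact hbY h'
    have hab1 : a * b ≠ 1 := fun h => hba (heq_of_mul a b hbI h).symm
    have hNBab : NB (a * b) := by
      by_contra h
      have key : ∀ Z : MulAut P, a * b = Z → b = a * Z := by
        intro Z hZ
        rw [← hZ, ← mul_assoc, hsqI a haI, one_mul]
      rcases hXY (a * b) (I.mul_mem haI hbI) hab1 h with h' | h'
      · exact hbaX (key X h')
      · exact hbaY (key Y h')
    exact ⟨a, haI, b, hbI, ha1, hb1, fun h => hba h.symm, hNBa, hNBb, hNBab⟩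

end Basic

theorem idx_lemma {G : Type*} [Group G] [Finite G] (h8 : Nat.card G = 8) (K1 K2 : Subgroup G)
    (h1 : ∀ x y, x ∉ K1 → y ∉ K1 → x * y ∈ K1) (h2 : ∀ x y, x ∉ K2 → y ∉ K2 → x * y ∈ K2) :
    ∃ t : G, t ∈ K1 ∧ t ∈ K2 ∧ t ≠ 1 := by
  have hi : ∀ K : Subgroup G, (∀ x y, x ∉ K → y ∉ K → x * y ∈ K) → K.index ≤ 2 := by
    intro K hK
    by_cases htop : K = ⊤
    · rw [htop, Subgroup.index_top]; norm_num
    · have hex : ∃ x, x ∉ K := by
        by_contra h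
        simp only [not_exists, not_not] at h
        exact htop ((Subgroup.eq_top_iff' K).mpr h)
      obtain ⟨x, hx⟩ := hex
      have h2 : K.index = 2 := by
        rw [Subgroup.index_eq_two_iff]
        refine ⟨x, fun b => ?_⟩
        by_cases hb : b ∈ K
        · right
          refine ⟨hb, fun h => hx ?_⟩
          have h3 := K.mul_mem (K.inv_mem hb) h
          rwa [inv_mul_cancel_left] at h3
        · left
          exact ⟨hK b x hb hx, hb⟩
      rw [h2]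
  by_contra hno
  simp only [not_exists, not_and, not_not] at hno
  have hbot : K1 ⊓ K2 = ⊥ := by
    rw [eq_bot_iff]
    intro t ht
    rw [Subgroup.mem_bot]
    exact hno t ht.1 ht.2
  have h3 : (K1 ⊓ K2).index ≤ K1.index * K2.index := Subgroup.index_inf_le
  rw [hbot, Subgroup.index_bot, h8] at h3
  have h4 := hi K1 h1
  have h5 := hi K2 h2
  have h6 : K1.index * K2.index ≤ 2 * 2 := Nat.mul_le_mul h4 h5
  omega

theorem hinj_core {A : Type*} [CommGroup A] (p : ℕ) (hp : p.Prime) (hp2 : p ≠ 2) (s : A →* A)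
    (w u v : A) (hw : orderOf w = p) (hsw : s w = w⁻¹) (hsu : s u = u) (hsv : s v = v)
    (i j k i' j' k' : ℕ) (hi : i < p) (hi' : i' < p)
    (e : w ^ i * u ^ j * v ^ k = w ^ i' * u ^ j' * v ^ k') : i = i' := by
  have key : ∀ a b c : A, (a * b * c) * (a⁻¹ * b * c)⁻¹ = a * a := by
    intro a b c
    rw [mul_assoc a b c, mul_assoc a⁻¹ b c, mul_inv, inv_inv, mul_mul_mul_comm, mul_inv_cancel,
      mul_one]
  have hs : ∀ (i j k : ℕ), s (w ^ i * u ^ j * v ^ k) = (w ^ i)⁻¹ * u ^ j * v ^ k := by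
    intro i j k
    rw [map_mul, map_mul, map_pow, map_pow, map_pow, hsw, hsu, hsv, inv_pow]
  have e2 : (w ^ i * u ^ j * v ^ k) * (s (w ^ i * u ^ j * v ^ k))⁻¹
      = (w ^ i' * u ^ j' * v ^ k') * (s (w ^ i' * u ^ j' * v ^ k'))⁻¹ := by rw [e]
  rw [hs, hs, key, key, ← pow_add, ← pow_add] at e2
  have h3 : i + i ≡ i' + i' [MOD p] := by rw [← hw]; exact pow_eq_pow_iff_modEq.mp e2
  have h4 : 2 * i ≡ 2 * i' [MOD p] := by rwa [two_mul, two_mul]
  have hcop : Nat.gcd p 2 = 1 := (Nat.coprime_primes hp Nat.prime_two).mpr hp2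
  exact (Nat.ModEq.cancel_left_of_coprime hcop h4).eq_of_lt_of_lt hi hi'

theorem hinj_all {A : Type*} [CommGroup A] (p : ℕ) (hp : p.Prime) (hp2 : p ≠ 2)
    (s1 s2 s3 : A →* A) (w1 w2 w3 : A)
    (ho1 : orderOf w1 = p) (ho2 : orderOf w2 = p) (ho3 : orderOf w3 = p)
    (h11 : s1 w1 = w1⁻¹) (h12 : s1 w2 = w2) (h13 : s1 w3 = w3)
    (h21 : s2 w1 = w1) (h22 : s2 w2 = w2⁻¹) (h23 : s2 w3 = w3)
    (h31 : s3 w1 = w1) (h32 : s3 w2 = w2) (h33 : s3 w3 = w3⁻¹) :
    ∀ i j k i' j' k' : ℕ, i < p → j < p → k < p → i' < p → j' < p → k' < p →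
      w1 ^ i * w2 ^ j * w3 ^ k = w1 ^ i' * w2 ^ j' * w3 ^ k' → i = i' ∧ j = j' ∧ k = k' := by
  intro i j k i' j' k' hi hj hk hi' hj' hk' e
  refine ⟨hinj_core p hp hp2 s1 w1 w2 w3 ho1 h11 h12 h13 i j k i' j' k' hi hi' e, ?_, ?_⟩
  · have e' : w2 ^ j * w1 ^ i * w3 ^ k = w2 ^ j' * w1 ^ i' * w3 ^ k' := by
      rw [mul_comm (w2 ^ j) (w1 ^ i), mul_comm (w2 ^ j') (w1 ^ i')]; exact e
    exact hinj_core p hp hp2 s2 w2 w1 w3 ho2 h22 h21 h23 j i k j' i' k' hj hj' e'
  · have e' : w3 ^ k * w1 ^ i * w2 ^ j = w3 ^ k' * w1 ^ i' * w2 ^ j' := by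
      rw [mul_assoc, mul_assoc, mul_comm (w3 ^ k), mul_comm (w3 ^ k')]; exact e
    exact hinj_core p hp hp2 s3 w3 w1 w2 ho3 h33 h31 h32 k i j k' i' j' hk hk' e'

theorem not_two_gen {A : Type*} [CommGroup A] [Finite A] (p : ℕ) (hp : p.Prime)
    (w1 w2 w3 : A) (h1 : w1 ^ p = 1) (h2 : w2 ^ p = 1) (h3 : w3 ^ p = 1)
    (hinj : ∀ i j k i' j' k' : ℕ, i < p → j < p → k < p → i' < p → j' < p → k' < p →
      w1 ^ i * w2 ^ j * w3 ^ k = w1 ^ i' * w2 ^ j' * w3 ^ k' → i = i' ∧ j = j' ∧ k = k') :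
    ¬ ∃ x y : A, Subgroup.closure ({x, y} : Set A) = ⊤ := by
  rintro ⟨x, y, hxy⟩
  have hp0 : 0 < p := hp.pos
  obtain ⟨f, hf⟩ : ∃ f : A →* A, f = powMonoidHom p := ⟨_, rfl⟩
  have hfa : ∀ z : A, f z = z ^ p := by intro z; rw [hf]; rfl
  have hcard : Nat.card f.ker * Nat.card f.range = Nat.card A := by
    rw [← Subgroup.index_ker f]; exact Subgroup.card_mul_index f.ker
  have hpZ : (p : ℤ) ≠ 0 := by exact_mod_cast hp.ne_zero
  have hpZpos : (0 : ℤ) < p := by exact_mod_cast hp0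
  have key : ∀ (v : A) (m : ℤ), v ^ m = v ^ ((m % (p : ℤ)).toNat) * (v ^ (m / (p : ℤ))) ^ p := by
    intro v m
    have e1 : ((m % (p : ℤ)).toNat : ℤ) = m % (p : ℤ) :=
      Int.toNat_of_nonneg (Int.emod_nonneg m hpZ)
    have e2 : v ^ (m % (p : ℤ)) = v ^ ((m % (p : ℤ)).toNat) := by rw [← zpow_natCast, e1]
    calc v ^ m = v ^ (m % (p : ℤ) + (p : ℤ) * (m / (p : ℤ))) := by rw [Int.emod_add_mul_ediv]
      _ = v ^ (m % (p : ℤ)) * v ^ ((p : ℤ) * (m / (p : ℤ))) := zpow_add v _ _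
      _ = v ^ ((m % (p : ℤ)).toNat) * (v ^ (m / (p : ℤ))) ^ p := by
          rw [zpow_mul', zpow_natCast, e2]
  have hlt : ∀ m : ℤ, (m % (p : ℤ)).toNat < p := by
    intro m
    have h1 := Int.emod_lt_of_pos m hpZpos
    have h2 := Int.emod_nonneg m hpZ
    omega
  have hsurj : Nat.card A ≤ p * p * Nat.card f.range := by
    let g : Fin p × Fin p × f.range → A :=
      fun t => x ^ (t.1 : ℕ) * y ^ (t.2.1 : ℕ) * (t.2.2 : A)
    have hg : Function.Surjective g := by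
      intro z
      have hz : z ∈ Subgroup.closure ({x, y} : Set A) := by rw [hxy]; exact Subgroup.mem_top z
      obtain ⟨m, n, rfl⟩ := Subgroup.mem_closure_pair.mp hz
      refine ⟨(⟨(m % (p : ℤ)).toNat, hlt m⟩, ⟨(n % (p : ℤ)).toNat, hlt n⟩,
        ⟨(x ^ (m / (p : ℤ)) * y ^ (n / (p : ℤ))) ^ p,
          ⟨x ^ (m / (p : ℤ)) * y ^ (n / (p : ℤ)), hfa _⟩⟩), ?_⟩
      show x ^ ((m % (p : ℤ)).toNat) * y ^ ((n % (p : ℤ)).toNat)
        * (x ^ (m / (p : ℤ)) * y ^ (n / (p : ℤ))) ^ p = x ^ m * y ^ n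
      rw [key x m, key y n, mul_pow]
      exact mul_mul_mul_comm _ _ _ _
    have h := Nat.card_le_card_of_surjective g hg
    rw [Nat.card_prod, Nat.card_prod, Nat.card_fin] at h
    calc Nat.card A ≤ p * (p * Nat.card f.range) := h
      _ = p * p * Nat.card f.range := by ring
  have hinj' : p * p * p ≤ Nat.card f.ker := by
    let h : Fin p × Fin p × Fin p → f.ker := fun t =>
      ⟨w1 ^ (t.1 : ℕ) * w2 ^ (t.2.1 : ℕ) * w3 ^ (t.2.2 : ℕ), by
        rw [MonoidHom.mem_ker, hfa, mul_pow, mul_pow, pow_right_comm w1, pow_right_comm w2,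
          pow_right_comm w3, h1, h2, h3, one_pow, one_pow, one_pow, mul_one, mul_one]⟩
    have hh : Function.Injective h := by
      intro s t hst
      have e : w1 ^ (s.1 : ℕ) * w2 ^ (s.2.1 : ℕ) * w3 ^ (s.2.2 : ℕ)
          = w1 ^ (t.1 : ℕ) * w2 ^ (t.2.1 : ℕ) * w3 ^ (t.2.2 : ℕ) := congrArg Subtype.val hst
      obtain ⟨e1, e2, e3⟩ := hinj _ _ _ _ _ _ s.1.isLt s.2.1.isLt s.2.2.isLt t.1.isLt t.2.1.isLt
        t.2.2.isLt e
      exact Prod.ext (Fin.ext e1) (Prod.ext (Fin.ext e2) (Fin.ext e3))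
    have h9 := Nat.card_le_card_of_injective h hh
    rw [Nat.card_prod, Nat.card_prod, Nat.card_fin] at h9
    calc p * p * p = p * (p * p) := by ring
      _ ≤ _ := h9
  have hrpos : 0 < Nat.card f.range := Nat.card_pos
  have h5 : Nat.card f.ker * Nat.card f.range ≤ p * p * Nat.card f.range := by
    rw [hcard]; exact hsurj
  have h6 : Nat.card f.ker ≤ p * p := Nat.le_of_mul_le_mul_right h5 hrpos
  have h7 : p * p < p * p * p := by
    have h8 := hp.one_lt
    have h9 : 0 < p * p := Nat.mul_pos hp0 hp0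
    nlinarith
  omega

/-- Let p be an odd prime, P a finite p-group and I an elementary abelian subgroup of order 8 of Aut(P). Call T ∈ I, T ≠ 1, broad when its fixed-point subgroup C_P(T) is not cyclic. Suppose I has a proper subgroup I₀ containing no broad element such that the product of any two broad elements lies in I₀. Then P is abelian of rank exactly 3 (generated by three elements but not by two), there are exactly three broad elements and they generate I, and I₀ is exactly the set of products of two broad elements. -/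
theorem result
    {P : Type*} [Group P] [Finite P] (p : ℕ) (hp : p.Prime) (hp2 : p ≠ 2) (hP : IsPGroup p P)
    (I : Subgroup (MulAut P)) (hI : Cfsg.IsElementaryAbelian 2 I) (hI8 : Nat.card ↥I = 8)
    (I₀ : Subgroup (MulAut P)) (hI₀ : I₀ < I)
    (hdisj : ∀ T ∈ I₀, T ≠ 1 → ∃ g : P, ∀ x : P, (T x = x ↔ x ∈ Subgroup.zpowers g))
    (hprod : ∀ T ∈ I, ∀ T' ∈ I, T ≠ 1 → T' ≠ 1 → (¬ ∃ g : P, ∀ x : P, (T x = x ↔ x ∈ Subgroup.zpowers g)) →
      (¬ ∃ g : P, ∀ x : P, (T' x = x ↔ x ∈ Subgroup.zpowers g)) → T * T' ∈ I₀) :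
    IsMulCommutative P ∧ (∃ a b c : P, Subgroup.closure {a, b, c} = ⊤) ∧ (¬ ∃ a b : P, Subgroup.closure {a, b} = ⊤) ∧
      Nat.card {T : MulAut P // T ∈ I ∧ T ≠ 1 ∧ ¬ ∃ g : P, ∀ x : P, (T x = x ↔ x ∈ Subgroup.zpowers g)} = 3 ∧
      Subgroup.closure {T : MulAut P | T ∈ I ∧ T ≠ 1 ∧ ¬ ∃ g : P, ∀ x : P, (T x = x ↔ x ∈ Subgroup.zpowers g)} = I ∧
      (I₀ : Set (MulAut P)) = {S : MulAut P | ∃ T T' : MulAut P, T ∈ I ∧ T' ∈ I ∧ T ≠ 1 ∧ T' ≠ 1 ∧
        (¬ ∃ g : P, ∀ x : P, (T x = x ↔ x ∈ Subgroup.zpowers g)) ∧ (¬ ∃ g : P, ∀ x : P, (T' x = x ↔ x ∈ Subgroup.zpowers g)) ∧ S = T * T'} := by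
  classical
  haveI : Fact p.Prime := ⟨hp⟩
  haveI : Finite ↥I := Nat.finite_of_card_ne_zero (by rw [hI8]; norm_num)
  have hodd : Odd (Nat.card P) := by
    obtain ⟨n, hn⟩ := IsPGroup.iff_card.mp hP
    rw [hn]; exact Odd.pow (hp.odd_of_ne_two hp2)
  have hsqI : ∀ S ∈ I, S * S = 1 := by
    intro S hS
    have h := hI.2 S hS
    rwa [pow_two] at h
  have hinvI : ∀ S ∈ I, S⁻¹ = S := fun S hS => inv_eq_of_mul_eq_one_left (hsqI S hS)
  have hcommI : ∀ S ∈ I, ∀ T ∈ I, S * T = T * S := fun S hS T hT =>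
    congrArg Subtype.val (hI.1.is_comm.comm ⟨S, hS⟩ ⟨T, hT⟩)
  have hsq : ∀ T ∈ I, ∀ x : P, T (T x) = x := by
    intro T hT x
    have h := hsqI T hT
    have h2 : (T * T) x = x := by rw [h]; rfl
    exact h2
  have hcomm : ∀ S ∈ I, ∀ T ∈ I, ∀ x : P, S (T x) = T (S x) := by
    intro S hS T hT x
    have h := hcommI S hS T hT
    have h2 : (S * T) x = (T * S) x := by rw [h]
    exact h2
  have hinv_fix : ∀ (s : MulAut P) (x : P), s x = x⁻¹ → s x = x → x = 1 := by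
    intro s x h1 h2
    apply odd_sq hodd
    have e : x⁻¹ = x := h1.symm.trans h2
    calc x * x = x * x⁻¹ := by rw [e]
      _ = 1 := mul_inv_cancel x
  obtain ⟨a, haI, b, hbI, ha1, hb1, hab, ⟨ga, hga⟩, ⟨gb, hgb⟩, ⟨gc, hgc⟩⟩ :=
    exists_line I I₀ hI hI8 hI₀.le hdisj hprod
  have hcI : a * b ∈ I := I.mul_mem haI hbI
  have hgc' : ∀ x : P, a (b x) = x ↔ x ∈ Subgroup.zpowers gc := hgc
  have hinv_a : ∀ s ∈ I, s ga ∈ Subgroup.zpowers ga := by
    intro s hs
    rw [← hga, hcomm a haI s hs, (hga ga).mpr (Subgroup.mem_zpowers ga)]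
  have hinv_b : ∀ s ∈ I, s gb ∈ Subgroup.zpowers gb := by
    intro s hs
    rw [← hgb, hcomm b hbI s hs, (hgb gb).mpr (Subgroup.mem_zpowers gb)]
  have hinv_c : ∀ s ∈ I, s gc ∈ Subgroup.zpowers gc := by
    intro s hs
    rw [← hgc', hcomm b hbI s hs, hcomm a haI s hs, (hgc' gc).mpr (Subgroup.mem_zpowers gc)]
  have sgn_a : ∀ s ∈ I, s ga = ga ∨ s ga = ga⁻¹ := fun s hs =>
    sign_lemma hp hp2 hP s (hsq s hs) ga (hinv_a s hs)
  have sgn_b : ∀ s ∈ I, s gb = gb ∨ s gb = gb⁻¹ := fun s hs =>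
    sign_lemma hp hp2 hP s (hsq s hs) gb (hinv_b s hs)
  have sgn_c : ∀ s ∈ I, s gc = gc ∨ s gc = gc⁻¹ := fun s hs =>
    sign_lemma hp hp2 hP s (hsq s hs) gc (hinv_c s hs)
  obtain ⟨S3, hS3⟩ : ∃ S3 : Set P, S3 = {ga, gb, gc} := ⟨_, rfl⟩
  have hS3mem : ∀ y, y ∈ S3 ↔ (y = ga ∨ y = gb ∨ y = gc) := by
    intro y; rw [hS3]; exact Iff.rfl
  have hmemcl : ∀ g ∈ S3, ∀ s : MulAut P, (s g = g ∨ s g = g⁻¹) → s g ∈ Subgroup.closure S3 := by
    intro g hg s h
    rcases h with e | e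
    · rw [e]; exact Subgroup.subset_closure hg
    · rw [e]; exact Subgroup.inv_mem _ (Subgroup.subset_closure hg)
  have hgen : Subgroup.closure S3 = ⊤ := by
    have hsub : ∀ g ∈ S3, ∀ x ∈ Subgroup.zpowers g, x ∈ Subgroup.closure S3 :=
      fun g hg x hx => (Subgroup.zpowers_le.mpr (Subgroup.subset_closure hg)) hx
    apply g4 hP hodd a b (hsq a haI) (hsq b hbI) (hcomm a haI b hbI)
    · intro x hx; exact hsub ga ((hS3mem ga).mpr (Or.inl rfl)) x ((hga x).mp hx)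
    · intro x hx; exact hsub gb ((hS3mem gb).mpr (Or.inr (Or.inl rfl))) x ((hgb x).mp hx)
    · intro x hx; exact hsub gc ((hS3mem gc).mpr (Or.inr (Or.inr rfl))) x ((hgc' x).mp hx)
    · intro x hx
      have hle : (Subgroup.closure S3).map a.toMonoidHom ≤ Subgroup.closure S3 := by
        rw [MonoidHom.map_closure, Subgroup.closure_le]
        rintro _ ⟨y, hy, rfl⟩
        show a y ∈ Subgroup.closure S3
        rcases (hS3mem y).mp hy with h | h | h
        · rw [h]; exact hmemcl ga ((hS3mem ga).mpr (Or.inl rfl)) a (sgn_a a haI)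
        · rw [h]; exact hmemcl gb ((hS3mem gb).mpr (Or.inr (Or.inl rfl))) a (sgn_b a haI)
        · rw [h]; exact hmemcl gc ((hS3mem gc).mpr (Or.inr (Or.inr rfl))) a (sgn_c a haI)
      exact hle (Subgroup.mem_map_of_mem a.toMonoidHom hx)
  have htriv : ∀ s ∈ I, s ga = ga → s gb = gb → s gc = gc → s = 1 := by
    intro s hs h1 h2 h3
    have hle : Subgroup.closure S3 ≤ FixS s := by
      rw [Subgroup.closure_le]
      intro y hy
      rcases (hS3mem y).mp hy with h | h | h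
      · rw [h]; exact h1
      · rw [h]; exact h2
      · rw [h]; exact h3
    ext x
    have hx : x ∈ FixS s := hle (by rw [hgen]; exact Subgroup.mem_top x)
    exact hx
  have hKidx : ∀ (g : P), (∀ s ∈ I, s g = g ∨ s g = g⁻¹) →
      ∀ x y : ↥I, x ∉ Kof I g → y ∉ Kof I g → x * y ∈ Kof I g := by
    intro g hg x y hx hy
    have hx' : (x : MulAut P) g = g⁻¹ := (hg x x.2).resolve_left hx
    have hy' : (y : MulAut P) g = g⁻¹ := (hg y y.2).resolve_left hy
    show ((x * y : ↥I) : MulAut P) g = g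
    rw [Subgroup.coe_mul, MulAut.mul_apply, hy', map_inv, hx', inv_inv]
  obtain ⟨t3, ht3a, ht3b, ht3ne⟩ := idx_lemma hI8 (Kof I ga) (Kof I gb) (hKidx ga sgn_a)
    (hKidx gb sgn_b)
  obtain ⟨t1, ht1b, ht1c, ht1ne⟩ := idx_lemma hI8 (Kof I gb) (Kof I gc) (hKidx gb sgn_b)
    (hKidx gc sgn_c)
  obtain ⟨t2, ht2a, ht2c, ht2ne⟩ := idx_lemma hI8 (Kof I ga) (Kof I gc) (hKidx ga sgn_a)
    (hKidx gc sgn_c)
  obtain ⟨T1, hT1d⟩ : ∃ T : MulAut P, T = (t1 : MulAut P) := ⟨_, rfl⟩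
  obtain ⟨T2, hT2d⟩ : ∃ T : MulAut P, T = (t2 : MulAut P) := ⟨_, rfl⟩
  obtain ⟨T3, hT3d⟩ : ∃ T : MulAut P, T = (t3 : MulAut P) := ⟨_, rfl⟩
  have hT1I : T1 ∈ I := by rw [hT1d]; exact t1.2
  have hT2I : T2 ∈ I := by rw [hT2d]; exact t2.2
  have hT3I : T3 ∈ I := by rw [hT3d]; exact t3.2
  have hT1ne : T1 ≠ 1 := by
    intro h; apply ht1ne; apply Subtype.ext; rw [← hT1d, h]; rfl
  have hT2ne : T2 ≠ 1 := by
    intro h; apply ht2ne; apply Subtype.ext; rw [← hT2d, h]; rfl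
  have hT3ne : T3 ≠ 1 := by
    intro h; apply ht3ne; apply Subtype.ext; rw [← hT3d, h]; rfl
  have h1b : T1 gb = gb := by rw [hT1d]; exact ht1b
  have h1c : T1 gc = gc := by rw [hT1d]; exact ht1c
  have h2a : T2 ga = ga := by rw [hT2d]; exact ht2a
  have h2c : T2 gc = gc := by rw [hT2d]; exact ht2c
  have h3a : T3 ga = ga := by rw [hT3d]; exact ht3a
  have h3b : T3 gb = gb := by rw [hT3d]; exact ht3b
  have h1a : T1 ga = ga⁻¹ :=
    (sgn_a T1 hT1I).resolve_left (fun h => hT1ne (htriv T1 hT1I h h1b h1c))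
  have h2b : T2 gb = gb⁻¹ :=
    (sgn_b T2 hT2I).resolve_left (fun h => hT2ne (htriv T2 hT2I h2a h h2c))
  have h3c : T3 gc = gc⁻¹ :=
    (sgn_c T3 hT3I).resolve_left (fun h => hT3ne (htriv T3 hT3I h3a h3b h))
  have hga_ne : ga ≠ ga⁻¹ := fun h =>
    hT1ne (htriv T1 hT1I (by rw [h1a]; exact h.symm) h1b h1c)
  have hgb_ne : gb ≠ gb⁻¹ := fun h =>
    hT2ne (htriv T2 hT2I h2a (by rw [h2b]; exact h.symm) h2c)
  have hgc_ne : gc ≠ gc⁻¹ := fun h =>
    hT3ne (htriv T3 hT3I h3a h3b (by rw [h3c]; exact h.symm))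
  have hB3 : ¬ NB T3 := broad_lemma hp hp2 hP T3 T1 (hsq T1 hT1I) (hcomm T3 hT3I T1 hT1I)
    ga gb h3a h3b h1a hga_ne h1b hgb_ne
  have hB1 : ¬ NB T1 := broad_lemma hp hp2 hP T1 T2 (hsq T2 hT2I) (hcomm T1 hT1I T2 hT2I)
    gb gc h1b h1c h2b hgb_ne h2c hgc_ne
  have hB2 : ¬ NB T2 := broad_lemma hp hp2 hP T2 T1 (hsq T1 hT1I) (hcomm T2 hT2I T1 hT1I)
    ga gc h2a h2c h1a hga_ne h1c hgc_ne
  have h12 : T1 ≠ T2 := by
    intro h
    have e : T1 ga = T2 ga := by rw [h]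
    rw [h1a, h2a] at e
    exact hga_ne e.symm
  have h13 : T1 ≠ T3 := by
    intro h
    have e : T1 ga = T3 ga := by rw [h]
    rw [h1a, h3a] at e
    exact hga_ne e.symm
  have h23 : T2 ≠ T3 := by
    intro h
    have e : T2 gb = T3 gb := by rw [h]
    rw [h2b, h3b] at e
    exact hgb_ne e.symm
  have heq_of_mul : ∀ S T : MulAut P, T ∈ I → S * T = 1 → S = T := by
    intro S T hT h
    have e1 : S = T⁻¹ := eq_inv_of_mul_eq_one_left h
    rw [e1, hinvI T hT]
  have m12 : T1 * T2 ∈ I₀ := hprod T1 hT1I T2 hT2I hT1ne hT2ne hB1 hB2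
  have m13 : T1 * T3 ∈ I₀ := hprod T1 hT1I T3 hT3I hT1ne hT3ne hB1 hB3
  have m23 : T2 * T3 ∈ I₀ := hprod T2 hT2I T3 hT3I hT2ne hT3ne hB2 hB3
  have ne12 : T1 * T2 ≠ 1 := fun h => h12 (heq_of_mul T1 T2 hT2I h)
  have ne13 : T1 * T3 ≠ 1 := fun h => h13 (heq_of_mul T1 T3 hT3I h)
  have ne23 : T2 * T3 ≠ 1 := fun h => h23 (heq_of_mul T2 T3 hT3I h)
  have hNB12 : NB (T1 * T2) := hdisj _ m12 ne12
  have hNB13 : NB (T1 * T3) := hdisj _ m13 ne13
  have hNB23 : NB (T2 * T3) := hdisj _ m23 ne23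
  -- commutativity
  have hab_comm : ga * gb = gb * ga :=
    comm_lemma hodd (a * b) T3 (hsq _ hcI) (hcomm (a * b) hcI T3 hT3I)
      (fun x hcx hsx => hinv_fix T3 x (inv_zpowers T3 gc h3c x ((hgc x).mp hcx)) hsx)
      ga gb h3a h3b
  have hbc_comm : gb * gc = gc * gb :=
    comm_lemma hodd a T1 (hsq a haI) (hcomm a haI T1 hT1I)
      (fun x hcx hsx => hinv_fix T1 x (inv_zpowers T1 ga h1a x ((hga x).mp hcx)) hsx)
      gb gc h1b h1c
  have hac_comm : ga * gc = gc * ga :=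
    comm_lemma hodd b T2 (hsq b hbI) (hcomm b hbI T2 hT2I)
      (fun x hcx hsx => hinv_fix T2 x (inv_zpowers T2 gb h2b x ((hgb x).mp hcx)) hsx)
      ga gc h2a h2c
  have hc9 : ∀ g ∈ S3, ∀ y ∈ S3, y * g = g * y := by
    intro g hg y hy
    rcases (hS3mem g).mp hg with h | h | h <;> rcases (hS3mem y).mp hy with h' | h' | h' <;>
      rw [h, h']
    all_goals first
      | exact hab_comm
      | exact hab_comm.symm
      | exact hac_comm
      | exact hac_comm.symm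
      | exact hbc_comm
      | exact hbc_comm.symm
  have hcen : ∀ g ∈ S3, ∀ x : P, x * g = g * x := by
    intro g hg x
    have hle : Subgroup.closure S3 ≤ Subgroup.centralizer ({g} : Set P) := by
      rw [Subgroup.closure_le]
      intro y hy
      exact Subgroup.mem_centralizer_singleton_iff.mpr (hc9 g hg y hy)
    have hx : x ∈ Subgroup.centralizer ({g} : Set P) :=
      hle (by rw [hgen]; exact Subgroup.mem_top x)
    exact Subgroup.mem_centralizer_singleton_iff.mp hx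
  have hPc : ∀ x y : P, x * y = y * x := by
    intro x y
    have hle : Subgroup.closure S3 ≤ Subgroup.center P := by
      rw [Subgroup.closure_le]
      intro g hg
      exact Subgroup.mem_center_iff.mpr (fun x => hcen g hg x)
    have hy : y ∈ Subgroup.center P := hle (by rw [hgen]; exact Subgroup.mem_top y)
    exact Subgroup.mem_center_iff.mp hy x
  -- enumeration of I
  have enum_core : ∀ T ∈ I, ∀ E ∈ I, (T * E) ga = ga → (T * E) gb = gb → (T * E) gc = gc →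
      T = E := by
    intro T hT E hE e1 e2 e3
    have h := htriv (T * E) (I.mul_mem hT hE) e1 e2 e3
    exact heq_of_mul T E hE h
  have enum : ∀ T ∈ I, T = 1 ∨ T = T1 ∨ T = T2 ∨ T = T3 ∨ T = T1 * T2 ∨ T = T1 * T3 ∨
      T = T2 * T3 ∨ T = T1 * T2 * T3 := by
    intro T hT
    rcases sgn_a T hT with ea | ea
    · rcases sgn_b T hT with eb | eb
      · rcases sgn_c T hT with ec | ec
        · left
          exact enum_core T hT 1 I.one_mem
            (by simp only [MulAut.mul_apply, MulAut.one_apply, ea])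
            (by simp only [MulAut.mul_apply, MulAut.one_apply, eb])
            (by simp only [MulAut.mul_apply, MulAut.one_apply, ec])
        · right; right; right; left
          exact enum_core T hT T3 hT3I
            (by simp only [MulAut.mul_apply, h3a, ea])
            (by simp only [MulAut.mul_apply, h3b, eb])
            (by simp only [MulAut.mul_apply, h3c, map_inv, ec, inv_inv])
      · rcases sgn_c T hT with ec | ec
        · right; right; left
          exact enum_core T hT T2 hT2I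
            (by simp only [MulAut.mul_apply, h2a, ea])
            (by simp only [MulAut.mul_apply, h2b, map_inv, eb, inv_inv])
            (by simp only [MulAut.mul_apply, h2c, ec])
        · right; right; right; right; right; right; left
          exact enum_core T hT (T2 * T3) (I.mul_mem hT2I hT3I)
            (by simp only [MulAut.mul_apply, h3a, h2a, ea])
            (by simp only [MulAut.mul_apply, h3b, h2b, map_inv, eb, inv_inv])
            (by simp only [MulAut.mul_apply, h3c, h2c, map_inv, ec, inv_inv])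
    · rcases sgn_b T hT with eb | eb
      · rcases sgn_c T hT with ec | ec
        · right; left
          exact enum_core T hT T1 hT1I
            (by simp only [MulAut.mul_apply, h1a, map_inv, ea, inv_inv])
            (by simp only [MulAut.mul_apply, h1b, eb])
            (by simp only [MulAut.mul_apply, h1c, ec])
        · right; right; right; right; right; left
          exact enum_core T hT (T1 * T3) (I.mul_mem hT1I hT3I)
            (by simp only [MulAut.mul_apply, h3a, h1a, map_inv, ea, inv_inv])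
            (by simp only [MulAut.mul_apply, h3b, h1b, eb])
            (by simp only [MulAut.mul_apply, h3c, h1c, map_inv, ec, inv_inv])
      · rcases sgn_c T hT with ec | ec
        · right; right; right; right; left
          exact enum_core T hT (T1 * T2) (I.mul_mem hT1I hT2I)
            (by simp only [MulAut.mul_apply, h2a, h1a, map_inv, ea, inv_inv])
            (by simp only [MulAut.mul_apply, h2b, h1b, map_inv, eb, inv_inv])
            (by simp only [MulAut.mul_apply, h2c, h1c, ec])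
        · right; right; right; right; right; right; right
          exact enum_core T hT (T1 * T2 * T3) (I.mul_mem (I.mul_mem hT1I hT2I) hT3I)
            (by simp only [MulAut.mul_apply, h3a, h2a, h1a, map_inv, ea, inv_inv])
            (by simp only [MulAut.mul_apply, h3b, h2b, h1b, map_inv, eb, inv_inv])
            (by simp only [MulAut.mul_apply, h3c, h2c, h1c, map_inv, ec, inv_inv])
  -- T1*T2*T3 inverts P
  have hneg : ∀ x : P, (T1 * T2 * T3) x = x⁻¹ := by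
    intro x
    let M : Subgroup P :=
      { carrier := {x | (T1 * T2 * T3) x = x⁻¹}
        one_mem' := by
          show (T1 * T2 * T3) 1 = 1⁻¹
          rw [map_one, inv_one]
        mul_mem' := by
          intro x y hx hy
          show (T1 * T2 * T3) (x * y) = (x * y)⁻¹
          rw [map_mul, show (T1 * T2 * T3) x = x⁻¹ from hx,
            show (T1 * T2 * T3) y = y⁻¹ from hy, mul_inv_rev]
          exact hPc _ _
        inv_mem' := by
          intro x hx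
          show (T1 * T2 * T3) x⁻¹ = x⁻¹⁻¹
          rw [map_inv, show (T1 * T2 * T3) x = x⁻¹ from hx] }
    have hle : Subgroup.closure S3 ≤ M := by
      rw [Subgroup.closure_le]
      intro y hy
      show (T1 * T2 * T3) y = y⁻¹
      rcases (hS3mem y).mp hy with h | h | h
      · rw [h]; simp only [MulAut.mul_apply, h3a, h2a, h1a]
      · rw [h]; simp only [MulAut.mul_apply, h3b, h2b, h1b, map_inv]
      · rw [h]; simp only [MulAut.mul_apply, h3c, h2c, h1c, map_inv]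
    have hx : x ∈ M := hle (by rw [hgen]; exact Subgroup.mem_top x)
    exact hx
  have hNB123 : NB (T1 * T2 * T3) := by
    refine ⟨1, fun x => ⟨fun h => ?_, fun h => ?_⟩⟩
    · have e : x = 1 := hinv_fix (T1 * T2 * T3) x (hneg x) h
      rw [e]; exact Subgroup.one_mem _
    · rw [Subgroup.zpowers_one_eq_bot, Subgroup.mem_bot] at h
      rw [h, map_one]
  have hBset : ∀ T : MulAut P, (T ∈ I ∧ T ≠ 1 ∧ ¬ NB T) ↔ (T = T1 ∨ T = T2 ∨ T = T3) := by
    intro T
    constructor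
    · rintro ⟨hT, hTne, hTB⟩
      rcases enum T hT with h | h | h | h | h | h | h | h
      · exact absurd h hTne
      · left; exact h
      · right; left; exact h
      · right; right; exact h
      · exact absurd (by rw [h]; exact hNB12) hTB
      · exact absurd (by rw [h]; exact hNB13) hTB
      · exact absurd (by rw [h]; exact hNB23) hTB
      · exact absurd (by rw [h]; exact hNB123) hTB
    · rintro (h | h | h)
      · rw [h]; exact ⟨hT1I, hT1ne, hB1⟩
      · rw [h]; exact ⟨hT2I, hT2ne, hB2⟩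
      · rw [h]; exact ⟨hT3I, hT3ne, hB3⟩
  have hset : {T : MulAut P | T ∈ I ∧ T ≠ 1 ∧ ¬ NB T} = {T1, T2, T3} :=
    Set.ext (fun T => hBset T)
  -- omega elements
  have hga1 : ga ≠ 1 := fun h => hga_ne (by rw [h, inv_one])
  have hgb1 : gb ≠ 1 := fun h => hgb_ne (by rw [h, inv_one])
  have hgc1 : gc ≠ 1 := fun h => hgc_ne (by rw [h, inv_one])
  obtain ⟨wa, hwam, hwao⟩ := exists_omega hp hP ga hga1
  obtain ⟨wb, hwbm, hwbo⟩ := exists_omega hp hP gb hgb1
  obtain ⟨wc, hwcm, hwco⟩ := exists_omega hp hP gc hgc1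
  refine ⟨⟨⟨hPc⟩⟩, ⟨ga, gb, gc, by rw [← hS3]; exact hgen⟩, ?_, ?_, ?_, ?_⟩
  · letI instC : CommGroup P := { ‹Group P› with mul_comm := hPc }
    exact @not_two_gen P instC _ p hp wa wb wc
      (by rw [← hwao]; exact pow_orderOf_eq_one wa)
      (by rw [← hwbo]; exact pow_orderOf_eq_one wb)
      (by rw [← hwco]; exact pow_orderOf_eq_one wc)
      (@hinj_all P instC p hp hp2 T1.toMonoidHom T2.toMonoidHom T3.toMonoidHom wa wb wc
        hwao hwbo hwco
        (inv_zpowers T1 ga h1a wa hwam) (fix_zpowers T1 gb h1b wb hwbm)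
        (fix_zpowers T1 gc h1c wc hwcm)
        (fix_zpowers T2 ga h2a wa hwam) (inv_zpowers T2 gb h2b wb hwbm)
        (fix_zpowers T2 gc h2c wc hwcm)
        (fix_zpowers T3 ga h3a wa hwam) (fix_zpowers T3 gb h3b wb hwbm)
        (inv_zpowers T3 gc h3c wc hwcm))
  · show Nat.card ↥({T : MulAut P | T ∈ I ∧ T ≠ 1 ∧ ¬ NB T}) = 3
    rw [hset, Nat.card_coe_set_eq, Set.ncard_eq_three]
    exact ⟨T1, T2, T3, h12, h13, h23, rfl⟩
  · show Subgroup.closure {T : MulAut P | T ∈ I ∧ T ≠ 1 ∧ ¬ NB T} = I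
    rw [hset]
    have hm1 : T1 ∈ Subgroup.closure ({T1, T2, T3} : Set (MulAut P)) :=
      Subgroup.subset_closure (Or.inl rfl)
    have hm2 : T2 ∈ Subgroup.closure ({T1, T2, T3} : Set (MulAut P)) :=
      Subgroup.subset_closure (Or.inr (Or.inl rfl))
    have hm3 : T3 ∈ Subgroup.closure ({T1, T2, T3} : Set (MulAut P)) :=
      Subgroup.subset_closure (Or.inr (Or.inr rfl))
    apply le_antisymm
    · rw [Subgroup.closure_le]
      intro T hT
      rcases hT with h | h | h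
      · rw [h]; exact hT1I
      · rw [h]; exact hT2I
      · rw [h]; exact hT3I
    · intro T hT
      rcases enum T hT with h | h | h | h | h | h | h | h <;> rw [h]
      · exact Subgroup.one_mem _
      · exact hm1
      · exact hm2
      · exact hm3
      · exact Subgroup.mul_mem _ hm1 hm2
      · exact Subgroup.mul_mem _ hm1 hm3
      · exact Subgroup.mul_mem _ hm2 hm3
      · exact Subgroup.mul_mem _ (Subgroup.mul_mem _ hm1 hm2) hm3
  · ext S
    constructor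
    · intro hS
      have hS0 : S ∈ I₀ := hS
      show ∃ T T' : MulAut P, T ∈ I ∧ T' ∈ I ∧ T ≠ 1 ∧ T' ≠ 1 ∧ ¬ NB T ∧ ¬ NB T' ∧ S = T * T'
      rcases enum S (hI₀.le hS0) with h | h | h | h | h | h | h | h
      · exact ⟨T1, T1, hT1I, hT1I, hT1ne, hT1ne, hB1, hB1, by rw [h, hsqI T1 hT1I]⟩
      · exact absurd (hdisj S hS0 (by rw [h]; exact hT1ne)) (by rw [h]; exact hB1)
      · exact absurd (hdisj S hS0 (by rw [h]; exact hT2ne)) (by rw [h]; exact hB2)
      · exact absurd (hdisj S hS0 (by rw [h]; exact hT3ne)) (by rw [h]; exact hB3)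
      · exact ⟨T1, T2, hT1I, hT2I, hT1ne, hT2ne, hB1, hB2, h⟩
      · exact ⟨T1, T3, hT1I, hT3I, hT1ne, hT3ne, hB1, hB3, h⟩
      · exact ⟨T2, T3, hT2I, hT3I, hT2ne, hT3ne, hB2, hB3, h⟩
      · exfalso
        have h3m : T3 ∈ I₀ := by
          have e : T3 = (T1 * T2)⁻¹ * S := by rw [h]; group
          rw [e]; exact I₀.mul_mem (I₀.inv_mem m12) hS0
        exact hB3 (hdisj T3 h3m hT3ne)
    · rintro ⟨T, T', hT, hT', hTne, hT'ne, hTB, hT'B, rfl⟩
      exact hprod T hT T' hT' hTne hT'ne hTB hT'B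

end Cfsg.Agent.S4412
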