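import Cfsg.Statements.S4413
import Cfsg.Agent.Lib_helper28_ES32Aut
import Cfsg.Agent.Lib_helper28_ES32Basis

set_option autoImplicit false
open Cfsg

namespace Cfsg.Agent.S4413

/-- Let P be an extraspecial 2-group of order 32 with no elementary abelian subgroup of order 8 (the central product of a dihedral and a quaternion group of order 8). Then the inner automorphism group of P has order 16 and the outer automorphism group Aut(P)/Inn(P) is isomorphic to the symmetric group of degree 5; in particular Aut(P) has order 1920. -/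
theorem result {P : Type*} [Group P] [Finite P]
    (hex : Cfsg.IsExtraspecial 2 P) (h32 : Nat.card P = 32)
    (hminus : ∀ A : Subgroup P, Cfsg.IsElementaryAbelian 2 A → Nat.card ↥A ≤ 4)
    [(MulAut.conj : P →* MulAut P).range.Normal] :
    Nat.card ↥(MulAut.conj : P →* MulAut P).range = 16 ∧ Nat.card (MulAut P) = 1920 ∧
      Nonempty ((MulAut P ⧸ (MulAut.conj : P →* MulAut P).range) ≃* Equiv.Perm (Fin 5)) := by
  obtain ⟨z, A, B, C, D, hz1, hb⟩ := Cfsg.Agent.helper28.ES32.exists_basis hex h32 hminus
  obtain ⟨φ⟩ := hb.nonempty_equiv hz1 h32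
  refine ⟨?_, ?_, ?_⟩
  · have h := Cfsg.Agent.helper28.ES32.card_inn_mul_card_center P
    rw [hex.2, h32] at h
    omega
  · rw [← Nat.card_congr (MulAut.congr φ).toEquiv, Cfsg.Agent.helper28.ES32.card_aut_P0]
  · haveI := Cfsg.Agent.helper28.ES32.inn_normal Cfsg.Agent.helper28.ES32.P0
    have hconj : ∀ g : Cfsg.Agent.helper28.ES32.P0,
        MulAut.congr φ (MulAut.conj g) = MulAut.conj (φ g) := by
      intro g
      apply MulEquiv.ext
      intro x
      simp [MulAut.congr_apply, MulAut.conj_apply]
    have hmap : Subgroup.map ((MulAut.congr φ : MulAut Cfsg.Agent.helper28.ES32.P0 ≃* MulAut P) :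
          MulAut Cfsg.Agent.helper28.ES32.P0 →* MulAut P)
        (MulAut.conj : Cfsg.Agent.helper28.ES32.P0 →* MulAut Cfsg.Agent.helper28.ES32.P0).range =
        (MulAut.conj : P →* MulAut P).range := by
      ext α
      constructor
      · rintro ⟨β, ⟨g, rfl⟩, rfl⟩
        exact ⟨φ g, (hconj g).symm⟩
      · rintro ⟨h, rfl⟩
        refine ⟨MulAut.conj (φ.symm h), ⟨φ.symm h, rfl⟩, ?_⟩
        have := hconj (φ.symm h)
        rw [MulEquiv.apply_symm_apply] at this
        exact this
    exact ⟨(QuotientGroup.congr _ _ (MulAut.congr φ) hmap).symm.trans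
      Cfsg.Agent.helper28.ES32.outEquivP0⟩

end Cfsg.Agent.S4413
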