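import Cfsg.Statements.S4420

set_option autoImplicit false
open Cfsg

namespace Cfsg.Agent.S4420

theorem comm_of_sq {H : Type*} [Group H] (h : ∀ x : H, x ^ 2 = 1) (a b : H) : a * b = b * a := by
  have ha : a⁻¹ = a := by
    have := h a
    rw [pow_two] at this
    exact inv_eq_of_mul_eq_one_left this
  have hb : b⁻¹ = b := by
    have := h b
    rw [pow_two] at this
    exact inv_eq_of_mul_eq_one_left this
  have hab : (a * b)⁻¹ = a * b := by
    have := h (a * b)
    rw [pow_two] at this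
    exact inv_eq_of_mul_eq_one_left this
  rw [mul_inv_rev, ha, hb] at hab
  exact hab.symm

/-- an element outside `A` inverts `A` -/
theorem inverts {H : Type*} [Group H] (A : Subgroup H) (hD : ∀ x : H, x ∉ A → x ^ 2 = 1)
    (x : H) (hx : x ∉ A) (a : H) (ha : a ∈ A) : x * a * x⁻¹ = a⁻¹ := by
  have hxa : x * a ∉ A := fun h => hx (by
    have := A.mul_mem h (A.inv_mem ha)
    simpa using this)
  have h1 := hD x hx
  have h2 := hD (x * a) hxa
  rw [pow_two] at h1 h2
  have hxi : x⁻¹ = x := inv_eq_of_mul_eq_one_left h1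
  rw [hxi]
  -- x a x a = 1
  have : x * a * x * a = 1 := by rw [← h2]; group
  exact eq_inv_of_mul_eq_one_left this

theorem elemAb_case {H : Type*} [Group H] [Finite H] [Nontrivial H]
    (hc : ∀ a b : H, a * b = b * a) (hsq : ∀ x : H, x ^ 2 = 1) :
    ∃ B : Subgroup H, B.index = 2 := by
  have : Fact (Nat.Prime 2) := ⟨Nat.prime_two⟩
  have hp : IsPGroup 2 H := fun x => ⟨1, by simpa using hsq x⟩
  obtain ⟨n, hn⟩ := IsPGroup.iff_card.1 hp
  have hn1 : n ≠ 0 := by
    rintro rfl
    have : 1 < Nat.card H := Finite.one_lt_card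
    omega
  obtain ⟨m, rfl⟩ : ∃ m, n = m + 1 := ⟨n - 1, by omega⟩
  have hdvd : 2 ^ m ∣ Nat.card H := by rw [hn, pow_succ]; exact dvd_mul_right _ _
  obtain ⟨B, hB⟩ := Sylow.exists_subgroup_card_pow_prime 2 hdvd
  refine ⟨B, ?_⟩
  have := B.index_mul_card
  rw [hB, hn, pow_succ] at this
  have hpos : 0 < 2 ^ m := by positivity
  nlinarith

theorem result {H : Type*} [Group H] [Finite H] (A : Subgroup H) (hA : A ≠ ⊤) (hD : ∀ x : H, x ∉ A → x ^ 2 = 1) :
    ∃ B : Subgroup H, B.Normal ∧ IsMulCommutative ↥B ∧ B.index = 2 ∧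
      (∀ x : H, x ∉ B → x ^ 2 = 1 ∧ ∀ b ∈ B, x * b * x⁻¹ = b⁻¹) ∧
      (¬ (IsMulCommutative H ∧ ∀ x : H, x ^ 2 = 1) →
        ∀ B' : Subgroup H, B'.Normal → IsMulCommutative ↥B' → B'.index = 2 →
          (∀ x : H, x ∉ B' → x ^ 2 = 1 ∧ ∀ b ∈ B', x * b * x⁻¹ = b⁻¹) → B' = B) := by
  by_cases hE : IsMulCommutative H ∧ ∀ x : H, x ^ 2 = 1
  · obtain ⟨hc, hsq⟩ := hE
    have hcomm : ∀ a b : H, a * b = b * a := isMulCommutative_iff.1 hc
    have : Nontrivial H := by
      by_contra hnt
      rw [not_nontrivial_iff_subsingleton] at hnt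
      exact hA (Subsingleton.elim _ _)
    obtain ⟨B, hB⟩ := elemAb_case hcomm hsq
    refine ⟨B, ⟨fun n hn g => by rw [hcomm g n, mul_assoc, mul_inv_cancel, mul_one]; exact hn⟩,
      isMulCommutative_iff.2 (fun a b => Subtype.ext (hcomm a b)), hB, ?_, ?_⟩
    · intro x _
      refine ⟨hsq x, fun b _ => ?_⟩
      rw [hcomm x b, mul_assoc, mul_inv_cancel, mul_one]
      have := hsq b
      rw [pow_two] at this
      exact (inv_eq_of_mul_eq_one_left this).symm
    · intro hneg
      exact absurd ⟨hc, hsq⟩ hneg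
  · -- B = A
    obtain ⟨x₀, hx₀⟩ : ∃ x₀ : H, x₀ ∉ A := by
      by_contra hcon
      push Not at hcon
      exact hA (eq_top_iff.2 (fun y _ => hcon y))
    have hinv := inverts A hD
    have hAcomm : ∀ a ∈ A, ∀ b ∈ A, a * b = b * a := by
      intro a ha b hb
      have h1 := hinv x₀ hx₀ (a * b) (A.mul_mem ha hb)
      have h2 := hinv x₀ hx₀ a ha
      have h3 := hinv x₀ hx₀ b hb
      have h4 : x₀ * (a * b) * x₀⁻¹ = (x₀ * a * x₀⁻¹) * (x₀ * b * x₀⁻¹) := by group
      rw [h4, h2, h3, mul_inv_rev] at h1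
      -- a⁻¹ * b⁻¹ = b⁻¹ * a⁻¹
      have := congrArg (fun t => t⁻¹) h1
      have h5 : b * a = a * b := by simpa using this
      exact h5.symm
    -- all squares trivial gives contradiction
    have hnotsq : ¬ ∀ x : H, x ^ 2 = 1 := fun hsq =>
      hE ⟨isMulCommutative_iff.2 (comm_of_sq hsq), hsq⟩
    have hprod : ∀ x y : H, x ∉ A → y ∉ A → x * y ∈ A := by
      intro x y hx hy
      by_contra hxy
      apply hnotsq
      intro h
      by_cases hh : h ∈ A
      · have h1 := hinv (x * y) hxy h hh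
        have h2 := hinv y hy h hh
        have h3 := hinv x hx h⁻¹ (A.inv_mem hh)
        have h4 : x * y * h * (x * y)⁻¹ = x * (y * h * y⁻¹) * x⁻¹ := by group
        rw [h4, h2, h3, inv_inv] at h1
        rw [pow_two]
        calc h * h = h * h⁻¹ := by rw [← h1]
          _ = 1 := mul_inv_cancel h
      · exact hD h hh
    have hidx : A.index = 2 := by
      rw [Subgroup.index_eq_two_iff]
      refine ⟨x₀, fun b => ?_⟩
      by_cases hb : b ∈ A
      · refine Or.inr ⟨hb, fun h => hx₀ ?_⟩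
        have := A.mul_mem (A.inv_mem hb) h
        simpa using this
      · exact Or.inl ⟨hprod b x₀ hb hx₀, hb⟩
    refine ⟨A, Subgroup.normal_of_index_eq_two hidx,
      isMulCommutative_iff.2 (fun a b => Subtype.ext (hAcomm a a.2 b b.2)), hidx,
      fun x hx => ⟨hD x hx, fun b hb => hinv x hx b hb⟩, ?_⟩
    intro _ B' _ hB'c _ hB'
    by_contra hne
    apply hnotsq
    have hB'comm : ∀ a ∈ B', ∀ b ∈ B', a * b = b * a := by
      intro a ha b hb
      have := (isMulCommutative_iff.1 hB'c) ⟨a, ha⟩ ⟨b, hb⟩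
      exact congrArg Subtype.val this
    -- find an element in the symmetric difference
    have hex : (∃ x, x ∈ A ∧ x ∉ B') ∨ (∃ x, x ∈ B' ∧ x ∉ A) := by
      by_contra hcon
      push Not at hcon
      apply hne
      exact le_antisymm (fun x hx => by_contra (fun h => h (hcon.2 x hx))) (fun x hx => by_contra (fun h => h (hcon.1 x hx)))
    intro h
    by_cases hhA : h ∈ A
    · by_cases hhB : h ∈ B'
      · rcases hex with ⟨x, hxA, hxB⟩ | ⟨x, hxB, hxA⟩
        · have h1 := (hB' x hxB).2 h hhB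
          rw [hAcomm x hxA h hhA, mul_assoc, mul_inv_cancel, mul_one] at h1
          rw [pow_two]
          calc h * h = h * h⁻¹ := by rw [← h1]
            _ = 1 := mul_inv_cancel h
        · have h1 := hinv x hxA h hhA
          rw [hB'comm x hxB h hhB, mul_assoc, mul_inv_cancel, mul_one] at h1
          rw [pow_two]
          calc h * h = h * h⁻¹ := by rw [← h1]
            _ = 1 := mul_inv_cancel h
      · exact (hB' h hhB).1
    · exact hD h hhA

end Cfsg.Agent.S4420
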