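import Cfsg.Statements.S4421

set_option autoImplicit false
open Cfsg

namespace Cfsg.Agent.S4421

theorem conjMap_mul {G : Type*} [Group G] (X : Subgroup G) (a b : G) :
    X.map (MulAut.conj (a * b)).toMonoidHom = (X.map (MulAut.conj b).toMonoidHom).map (MulAut.conj a).toMonoidHom := by
  rw [Subgroup.map_map]
  congr 1
  ext x
  simp [mul_assoc]

theorem conjMap_one {G : Type*} [Group G] (X : Subgroup G) :
    X.map (MulAut.conj (1 : G)).toMonoidHom = X := by
  ext x
  simp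

theorem conjMap_mem {G : Type*} [Group G] (X : Subgroup G) (a : G) (ha : a ∈ X) :
    X.map (MulAut.conj a).toMonoidHom = X := by
  ext x
  simp only [Subgroup.mem_map, MulEquiv.coe_toMonoidHom, MulAut.conj_apply]
  constructor
  · rintro ⟨y, hy, rfl⟩
    exact X.mul_mem (X.mul_mem ha hy) (X.inv_mem ha)
  · intro hx
    exact ⟨a⁻¹ * x * a, X.mul_mem (X.mul_mem (X.inv_mem ha) hx) ha, by group⟩

theorem mem_normalizer_iff_conjMap {G : Type*} [Group G] (X : Subgroup G) (a : G) :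
    a ∈ Subgroup.normalizer (X : Set G) ↔ X.map (MulAut.conj a).toMonoidHom = X :=
  Subgroup.mem_normalizer_iff_map_conj_eq

/-- A factorization of a normalizer from two-step control of fusion. -/
theorem result {G : Type*} [Group G] [Finite G] (A S H : Subgroup G)
    (hAS : A ≤ S) (hSH : S ≤ H)
    (h1 : ∀ g : G, A.map (MulAut.conj g).toMonoidHom ≤ S → ∃ s ∈ S, A.map (MulAut.conj g).toMonoidHom = A.map (MulAut.conj s).toMonoidHom)
    (h2 : ∀ g : G, S.map (MulAut.conj g).toMonoidHom ≤ H → ∃ y ∈ H, S.map (MulAut.conj g).toMonoidHom = S.map (MulAut.conj y).toMonoidHom)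
    (h3 : ∀ x ∈ Subgroup.normalizer (A : Set G), S.map (MulAut.conj x).toMonoidHom ≤ H) :
    ∀ x ∈ Subgroup.normalizer (A : Set G), ∃ y ∈ H ⊓ Subgroup.normalizer (A : Set G),
      ∃ z ∈ Subgroup.normalizer (S : Set G) ⊓ Subgroup.normalizer (A : Set G), x = y * z := by
  intro x hx
  have hxA : A.map (MulAut.conj x).toMonoidHom = A := (mem_normalizer_iff_conjMap A x).1 hx
  obtain ⟨y, hyH, hy⟩ := h2 x (h3 x hx)
  -- A ≤ S^y
  have hA_le : A ≤ S.map (MulAut.conj y).toMonoidHom := by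
    rw [← hy, ← hxA]
    exact Subgroup.map_mono hAS
  -- A^{y⁻¹} ≤ S
  have hA_le' : A.map (MulAut.conj y⁻¹).toMonoidHom ≤ S := by
    have := Subgroup.map_mono (f := (MulAut.conj y⁻¹).toMonoidHom) hA_le
    rwa [← conjMap_mul, inv_mul_cancel, conjMap_one] at this
  obtain ⟨s, hsS, hs⟩ := h1 y⁻¹ hA_le'
  have hysA : A.map (MulAut.conj (y * s)).toMonoidHom = A := by
    rw [conjMap_mul, ← hs, ← conjMap_mul, mul_inv_cancel, conjMap_one]
  have hysN : y * s ∈ Subgroup.normalizer (A : Set G) := (mem_normalizer_iff_conjMap A _).2 hysA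
  refine ⟨y * s, Subgroup.mem_inf.2 ⟨H.mul_mem hyH (hSH hsS), hysN⟩, (y * s)⁻¹ * x,
    Subgroup.mem_inf.2 ⟨?_, ?_⟩, by group⟩
  · rw [mem_normalizer_iff_conjMap]
    have : (y * s)⁻¹ * x = s⁻¹ * (y⁻¹ * x) := by group
    rw [this, conjMap_mul S s⁻¹ (y⁻¹ * x), conjMap_mul S y⁻¹ x, hy, ← conjMap_mul S y⁻¹ y,
      inv_mul_cancel, conjMap_one]
    exact conjMap_mem S _ (S.inv_mem hsS)
  · exact (Subgroup.normalizer (A : Set G)).mul_mem ((Subgroup.normalizer (A : Set G)).inv_mem hysN) hx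

end Cfsg.Agent.S4421
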