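import Cfsg.Statements.S4422

set_option autoImplicit false
open Cfsg

namespace Cfsg.Agent.S4422

theorem modEq_one_of_primes (e : ℕ) :
    ∀ m : ℕ, m ≠ 0 → (∀ p : ℕ, p.Prime → p ∣ m → p ≡ 1 [MOD e]) → m ≡ 1 [MOD e] := by
  intro m
  induction m using Nat.recOnMul with
  | zero => intro h; exact absurd rfl h
  | one => intro _ _; exact Nat.ModEq.refl 1
  | prime p hp => intro _ h; exact h p hp (dvd_refl p)
  | mul a b iha ihb =>
    intro hab h
    have ha : a ≠ 0 := fun h0 => hab (by simp [h0])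
    have hb : b ≠ 0 := fun h0 => hab (by simp [h0])
    have h1 := iha ha (fun p hp hpa => h p hp (dvd_mul_of_dvd_left hpa b))
    have h2 := ihb hb (fun p hp hpb => h p hp (dvd_mul_of_dvd_right hpb a))
    simpa using h1.mul h2

theorem dvd_pow_sub_one_iff (p q d : ℕ) (hq : 1 ≤ q) :
    p ∣ q ^ d - 1 ↔ ((q : ZMod p)) ^ d = 1 := by
  have h1 : 1 ≤ q ^ d := Nat.one_le_pow _ _ hq
  rw [← ZMod.natCast_eq_zero_iff, Nat.cast_sub h1, Nat.cast_pow, Nat.cast_one, sub_eq_zero]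

theorem result (q e m : ℕ) (hq : 2 ≤ q) (he : 1 ≤ e)
    (hm : m ∣ q ^ e - 1) (hcop : ∀ i : ℕ, 1 ≤ i → i < e → Nat.Coprime m (q ^ i - 1)) :
    m % e = 1 % e := by
  have hq1 : 1 ≤ q := by omega
  have hqe : 2 ≤ q ^ e := by
    calc 2 ≤ q := hq
      _ = q ^ 1 := (pow_one q).symm
      _ ≤ q ^ e := Nat.pow_le_pow_right hq1 he
  have hm0 : m ≠ 0 := by
    rintro rfl
    have := Nat.eq_zero_of_zero_dvd hm
    omega
  refine modEq_one_of_primes e m hm0 ?_
  intro p hp hpm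
  haveI : Fact p.Prime := ⟨hp⟩
  have hpq : p ∣ q ^ e - 1 := dvd_trans hpm hm
  have hqe1 : (q : ZMod p) ^ e = 1 := (dvd_pow_sub_one_iff p q e hq1).1 hpq
  have hq0 : (q : ZMod p) ≠ 0 := by
    intro h0
    rw [h0, zero_pow (by omega)] at hqe1
    exact zero_ne_one hqe1
  set d := orderOf (q : ZMod p) with hd
  have hde : d ∣ e := orderOf_dvd_of_pow_eq_one hqe1
  have hdpos : 0 < d := Nat.pos_of_dvd_of_pos hde (by omega)
  have hdle : d ≤ e := Nat.le_of_dvd (by omega) hde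
  have hdeq : d = e := by
    by_contra hne
    have hlt : d < e := lt_of_le_of_ne hdle hne
    have hc := hcop d hdpos hlt
    have hpd : p ∣ q ^ d - 1 := (dvd_pow_sub_one_iff p q d hq1).2 (pow_orderOf_eq_one _)
    have : p ∣ Nat.gcd m (q ^ d - 1) := Nat.dvd_gcd hpm hpd
    rw [hc] at this
    exact hp.one_lt.ne' (Nat.dvd_one.1 this)
  have hdp : d ∣ p - 1 := orderOf_dvd_of_pow_eq_one (ZMod.pow_card_sub_one_eq_one hq0)
  rw [hdeq] at hdp
  have hp1 : 1 ≤ p := hp.one_lt.le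
  exact ((Nat.modEq_iff_dvd' hp1).2 hdp).symm

end Cfsg.Agent.S4422
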