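import Cfsg.Statements.S4423
import Cfsg.Agent.Lib_helper18_Zsig3

set_option autoImplicit false
open Cfsg

namespace Cfsg.Agent.S4423

/-- Size of the primitive part of `q^e - 1`. For a prime power `q` and `e ≥ 3`, call a divisor of `q^e - 1` primitive when it is coprime to `q^i - 1` for every `1 ≤ i < e`; the primitive part is the largest primitive divisor. Apart from thirteen exceptional pairs, the primitive part is at least `3e + 1`: there is a primitive divisor `m ≥ 3e + 1` unless `(q, e)` is `(2, 6)` (where every primitive divisor is 1), one of `(2,4), (2,10), (2,12), (2,18), (3,4), (3,6), (5,6)` (where the primitive part is exactly `e + 1`), or one of `(2,3), (2,8), (2,20), (4,3), (4,6)` (where it is exactly `2e + 1`). The statement asserts the existence of a primitive divisor `m ≥ 3e + 1` outside the thirteen pairs, and that every primitive divisor is at most `2e + 1` for the thirteen pairs. -/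
theorem result (q e : ℕ) (hq : IsPrimePow q) (he : 3 ≤ e) :
    ((q, e) ∉ [(2, 6), (2, 4), (2, 10), (2, 12), (2, 18), (3, 4), (3, 6), (5, 6), (2, 3), (2, 8), (2, 20), (4, 3), (4, 6)] →
      ∃ m : ℕ, m ∣ q ^ e - 1 ∧ (∀ i : ℕ, 1 ≤ i → i < e → Nat.Coprime m (q ^ i - 1)) ∧ 3 * e + 1 ≤ m) ∧
    ((q, e) ∈ [(2, 6), (2, 4), (2, 10), (2, 12), (2, 18), (3, 4), (3, 6), (5, 6), (2, 3), (2, 8), (2, 20), (4, 3), (4, 6)] →
      ∀ m : ℕ, m ∣ q ^ e - 1 → (∀ i : ℕ, 1 ≤ i → i < e → Nat.Coprime m (q ^ i - 1)) → m ≤ 2 * e + 1) := by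
  have hq2 : 2 ≤ q := hq.two_le
  constructor
  · intro hnot
    have hex : ¬ Cfsg.Agent.helper18.Zsig2.Exc13 q e := by
      intro hE
      apply hnot
      unfold Cfsg.Agent.helper18.Zsig2.Exc13 at hE
      rcases hE with ⟨rfl, (rfl | rfl | rfl | rfl | rfl | rfl | rfl | rfl)⟩ |
        ⟨rfl, (rfl | rfl)⟩ | ⟨rfl, (rfl | rfl)⟩ | ⟨rfl, rfl⟩ <;> simp
    obtain ⟨m, hmd, hprim, hsize⟩ :=
      Cfsg.Agent.helper18.Zsig3.prim_part_large q e hq2 he hex
    refine ⟨m, hmd, ?_, hsize⟩
    intro i hi hie
    exact Nat.coprime_of_dvd (fun k hk hkm hki => hprim k hk hkm i hi hie hki)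
  · intro hmem m hmd hcop
    simp only [List.mem_cons, Prod.mk.injEq] at hmem
    rcases hmem with ⟨rfl, rfl⟩ | ⟨rfl, rfl⟩ | ⟨rfl, rfl⟩ | ⟨rfl, rfl⟩ | ⟨rfl, rfl⟩ | ⟨rfl, rfl⟩ |
      ⟨rfl, rfl⟩ | ⟨rfl, rfl⟩ | ⟨rfl, rfl⟩ | ⟨rfl, rfl⟩ | ⟨rfl, rfl⟩ | ⟨rfl, rfl⟩ | ⟨rfl, rfl⟩ | hnil
    · -- (2,6)
      have hA := hcop 3 (by norm_num) (by norm_num)
      have hB := hcop 2 (by norm_num) (by norm_num)
      have hC : Nat.Coprime m 63 :=
        Nat.Coprime.coprime_dvd_right (by norm_num) (hA.mul_right (hB.mul_right hB))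
      have := Cfsg.Agent.helper18.Zsig3.cop_bound m (2 ^ 6 - 1) 63 1 (by norm_num) (by norm_num)
        hmd hC
      omega
    · -- (2,4)
      have hA := hcop 2 (by norm_num) (by norm_num)
      have hC : Nat.Coprime m 3 := Nat.Coprime.coprime_dvd_right (by norm_num) hA
      have := Cfsg.Agent.helper18.Zsig3.cop_bound m (2 ^ 4 - 1) 3 5 (by norm_num) (by norm_num)
        hmd hC
      omega
    · -- (2,10)
      have hA := hcop 2 (by norm_num) (by norm_num)
      have hB := hcop 5 (by norm_num) (by norm_num)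
      have hC : Nat.Coprime m 93 :=
        Nat.Coprime.coprime_dvd_right (by norm_num) (hA.mul_right hB)
      have := Cfsg.Agent.helper18.Zsig3.cop_bound m (2 ^ 10 - 1) 93 11 (by norm_num) (by norm_num)
        hmd hC
      omega
    · -- (2,12)
      have hA := hcop 6 (by norm_num) (by norm_num)
      have hB := hcop 4 (by norm_num) (by norm_num)
      have hC : Nat.Coprime m 315 :=
        Nat.Coprime.coprime_dvd_right (by norm_num) (hA.mul_right hB)
      have := Cfsg.Agent.helper18.Zsig3.cop_bound m (2 ^ 12 - 1) 315 13 (by norm_num)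
        (by norm_num) hmd hC
      omega
    · -- (2,18)
      have hA := hcop 9 (by norm_num) (by norm_num)
      have hB := hcop 6 (by norm_num) (by norm_num)
      have hD := hcop 2 (by norm_num) (by norm_num)
      have hC : Nat.Coprime m 13797 :=
        Nat.Coprime.coprime_dvd_right (by norm_num) (hA.mul_right (hB.mul_right hD))
      have := Cfsg.Agent.helper18.Zsig3.cop_bound m (2 ^ 18 - 1) 13797 19 (by norm_num)
        (by norm_num) hmd hC
      omega
    · -- (3,4)
      have hA := hcop 2 (by norm_num) (by norm_num)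
      have hC : Nat.Coprime m 16 :=
        Nat.Coprime.coprime_dvd_right (by norm_num) (hA.mul_right hA)
      have := Cfsg.Agent.helper18.Zsig3.cop_bound m (3 ^ 4 - 1) 16 5 (by norm_num) (by norm_num)
        hmd hC
      omega
    · -- (3,6)
      have hA := hcop 3 (by norm_num) (by norm_num)
      have hB := hcop 2 (by norm_num) (by norm_num)
      have hC : Nat.Coprime m 104 :=
        Nat.Coprime.coprime_dvd_right (by norm_num) (hA.mul_right hB)
      have := Cfsg.Agent.helper18.Zsig3.cop_bound m (3 ^ 6 - 1) 104 7 (by norm_num) (by norm_num)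
        hmd hC
      omega
    · -- (5,6)
      have hA := hcop 3 (by norm_num) (by norm_num)
      have hB := hcop 2 (by norm_num) (by norm_num)
      have hC : Nat.Coprime m 2232 :=
        Nat.Coprime.coprime_dvd_right (by norm_num) (hA.mul_right (hB.mul_right hB))
      have := Cfsg.Agent.helper18.Zsig3.cop_bound m (5 ^ 6 - 1) 2232 7 (by norm_num)
        (by norm_num) hmd hC
      omega
    · -- (2,3)
      have := Nat.le_of_dvd (by norm_num) hmd
      norm_num at this
      omega
    · -- (2,8)
      have hA := hcop 4 (by norm_num) (by norm_num)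
      have hC : Nat.Coprime m 15 := Nat.Coprime.coprime_dvd_right (by norm_num) hA
      have := Cfsg.Agent.helper18.Zsig3.cop_bound m (2 ^ 8 - 1) 15 17 (by norm_num) (by norm_num)
        hmd hC
      omega
    · -- (2,20)
      have hA := hcop 10 (by norm_num) (by norm_num)
      have hB := hcop 4 (by norm_num) (by norm_num)
      have hC : Nat.Coprime m 25575 :=
        Nat.Coprime.coprime_dvd_right (by norm_num) (hA.mul_right (hB.mul_right hB))
      have := Cfsg.Agent.helper18.Zsig3.cop_bound m (2 ^ 20 - 1) 25575 41 (by norm_num)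
        (by norm_num) hmd hC
      omega
    · -- (4,3)
      have hA := hcop 1 (by norm_num) (by norm_num)
      have hC : Nat.Coprime m 9 :=
        Nat.Coprime.coprime_dvd_right (by norm_num) (hA.mul_right hA)
      have := Cfsg.Agent.helper18.Zsig3.cop_bound m (4 ^ 3 - 1) 9 7 (by norm_num) (by norm_num)
        hmd hC
      omega
    · -- (4,6)
      have hA := hcop 3 (by norm_num) (by norm_num)
      have hB := hcop 2 (by norm_num) (by norm_num)
      have hC : Nat.Coprime m 315 :=
        Nat.Coprime.coprime_dvd_right (by norm_num) (hA.mul_right hB)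
      have := Cfsg.Agent.helper18.Zsig3.cop_bound m (4 ^ 6 - 1) 315 13 (by norm_num)
        (by norm_num) hmd hC
      omega
    · exact absurd hnil (List.not_mem_nil)

end Cfsg.Agent.S4423
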