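import Cfsg.Statements.S4425
import Cfsg.Agent.Lib_helper24_HeightCut

set_option autoImplicit false
open Cfsg

namespace Cfsg.Agent.S4425

/-- Let χ be an irreducible character of the finite group G, p a prime, p^a the p-part of the order of G and p^b the p-part of the degree χ(1). Let χ̃ be the class function equal to p^a · χ on p-regular elements and zero on p-singular elements. Then p^(−b) · χ̃ is a generalized character of G, while p^(−(b+1)) · χ̃ is not. -/
theorem result {G : Type*} [Group G] [Finite G] (p : ℕ) [Fact p.Prime] (χ : Cfsg.IrrCharacter G) : Cfsg.IsGeneralizedCharacter G (fun x : G => if p ∣ orderOf x then (0 : ℂ) else ((p ^ ((Nat.card G).factorization p - (Cfsg.charDegree (χ : G → ℂ)).factorization p) : ℕ) : ℂ) * (χ : G → ℂ) x) ∧ ¬ Cfsg.IsGeneralizedCharacter G (fun x : G => if p ∣ orderOf x then (0 : ℂ) else ((p ^ (Nat.card G).factorization p : ℕ) : ℂ) / ((p ^ ((Cfsg.charDegree (χ : G → ℂ)).factorization p + 1) : ℕ) : ℂ) * (χ : G → ℂ) x) := by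
  classical
  have := Fintype.ofFinite G
  have hpp : p.Prime := Fact.out
  refine ⟨Cfsg.Agent.helper24.isGeneralizedCharacter_height_cut p χ, ?_⟩
  intro hgc
  have hvan : ∀ x : G, p ∣ orderOf x → (fun x : G => if p ∣ orderOf x then (0 : ℂ) else
      ((p ^ (Nat.card G).factorization p : ℕ) : ℂ) /
        ((p ^ ((Cfsg.charDegree (χ : G → ℂ)).factorization p + 1) : ℕ) : ℂ) *
        (χ : G → ℂ) x) x = 0 := by
    intro x hx
    simp only [if_pos hx]
  obtain ⟨z, hz⟩ := Cfsg.Agent.helper24.dvd_degree_of_vanish_psingular p hgc hvan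
  have h1 : ¬ p ∣ orderOf (1 : G) := by
    rw [orderOf_one]
    exact fun h => hpp.one_lt.ne' (Nat.dvd_one.1 h)
  simp only [if_neg h1] at hz
  set d : ℕ := Cfsg.charDegree (χ : G → ℂ) with hd
  have hdcast : ((d : ℕ) : ℂ) = (χ : G → ℂ) 1 :=
    Cfsg.Agent.helper24.char_charDegree_cast (Cfsg.Agent.helper24.irr_isCharacter χ.2)
  have hdpos : 0 < d := Cfsg.Agent.helper24.irr_charDegree_pos χ.2
  have hpa : ((p ^ (Nat.card G).factorization p : ℕ) : ℂ) ≠ 0 := by
    exact_mod_cast (pow_pos hpp.pos _).ne'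
  have hpb : ((p ^ (d.factorization p + 1) : ℕ) : ℂ) ≠ 0 := by
    exact_mod_cast (pow_pos hpp.pos _).ne'
  rw [← hdcast] at hz
  have h2 : ((d : ℤ) : ℂ) = (((p ^ (d.factorization p + 1) : ℕ) : ℤ) : ℂ) * (z : ℂ) := by
    push_cast
    field_simp at hz
    push_cast at hz
    linear_combination hz
  have h3 : (d : ℤ) = ((p ^ (d.factorization p + 1) : ℕ) : ℤ) * z := by exact_mod_cast h2
  have h4 : ((p ^ (d.factorization p + 1) : ℕ) : ℤ) ∣ (d : ℤ) := ⟨z, h3⟩
  have h5 : p ^ (d.factorization p + 1) ∣ d := by exact_mod_cast h4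
  exact Nat.pow_succ_factorization_not_dvd hdpos.ne' hpp h5

end Cfsg.Agent.S4425
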