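import Mathlib
import Cfsg.Agent.Lib_helper22_IndBlk1
import Cfsg.Statements.S4430
-- import your own Cfsg.Agent.* helpers here

set_option autoImplicit false
open Cfsg

namespace Cfsg.Agent.S4430

/-- Let H be a subgroup of the finite group G, b a block of H whose induced block B₀ in G is defined (relative to a maximal ideal M of the algebraic integers containing p), and ξ ∈ b. For a block B of G let n_B be the value at 1 of the B-part of the induced character ξ^G (a natural number: the sum over χ ∈ B of the multiplicity of χ in ξ^G times χ(1)). Then for B = B₀ the exact power of p dividing n_B equals the exact power of p dividing ξ^G(1), while for every other block B either n_B = 0 or n_B is divisible by a strictly higher power of p than ξ^G(1). -/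
theorem result {G : Type*} [Group G] [Fintype G] (p : ℕ) [Fact p.Prime] (M : Ideal Cfsg.AlgInt) (hM : Cfsg.IsPModular p M) (H : Subgroup G) [Fintype H] (b : Set (Cfsg.IrrCharacter H)) (B₀ : Set (Cfsg.IrrCharacter G)) (hind : Cfsg.IsInducedBlock M H b B₀) (ξ : Cfsg.IrrCharacter H) (hξ : ξ ∈ b) : (∃ n : ℕ, Cfsg.blockPart B₀ (Cfsg.indFun H (ξ : H → ℂ)) 1 = (n : ℂ) ∧ n ≠ 0 ∧ n.factorization p = (Cfsg.charDegree (Cfsg.indFun H (ξ : H → ℂ))).factorization p) ∧ ∀ B : Set (Cfsg.IrrCharacter G), Cfsg.IsPBlock M B → B ≠ B₀ → ∃ n : ℕ, Cfsg.blockPart B (Cfsg.indFun H (ξ : H → ℂ)) 1 = (n : ℂ) ∧ (n = 0 ∨ (Cfsg.charDegree (Cfsg.indFun H (ξ : H → ℂ))).factorization p < n.factorization p) := by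
  classical
  haveI hMp : M.IsPrime := hM.2.1.isPrime
  have hξc := Cfsg.Agent.helper24.irr_isCharacter ξ.2
  have hΘ : Cfsg.IsCharacter G (Cfsg.indFun H (ξ : H → ℂ)) :=
    Cfsg.Agent.helper12.isCharacter_indFun H hξc
  have hξ1 := Cfsg.Agent.helper24.irr_apply_one_ne_zero ξ.2
  have hNc := Cfsg.Agent.helper24.char_charDegree_cast hΘ
  have hG : (Nat.card G : ℂ) ≠ 0 := by exact_mod_cast Nat.card_pos.ne'
  have hH : (Nat.card H : ℂ) ≠ 0 := by exact_mod_cast Nat.card_pos.ne'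
  have hN0 : Cfsg.charDegree (Cfsg.indFun H (ξ : H → ℂ)) ≠ 0 := by
    intro h0
    rw [h0, Cfsg.Agent.helper8.indFun_one_eq] at hNc
    have : (Nat.card H : ℂ)⁻¹ * ((Nat.card G : ℂ) * (ξ : H → ℂ) 1) ≠ 0 :=
      mul_ne_zero (inv_ne_zero hH) (mul_ne_zero hG hξ1)
    exact this (by rw [← hNc]; simp)
  have key : ∀ B : Set (Cfsg.IrrCharacter G), Cfsg.IsPBlock M B →
      ∃ n : ℕ, Cfsg.blockPart B (Cfsg.indFun H (ξ : H → ℂ)) 1 = (n : ℂ) ∧
        (B = B₀ → n ≠ 0 ∧ n.factorization p =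
          (Cfsg.charDegree (Cfsg.indFun H (ξ : H → ℂ))).factorization p) ∧
        (B ≠ B₀ → n = 0 ∨
          (Cfsg.charDegree (Cfsg.indFun H (ξ : H → ℂ))).factorization p < n.factorization p) := by
    intro B hB
    obtain ⟨m, hm, hn⟩ := Cfsg.Agent.helper22.blockPart_char_one B hΘ
    obtain ⟨hR, h1, h2⟩ := Cfsg.Agent.helper22.ind_ratio p hM H hind hξ B hB
    have hrel := Cfsg.Agent.helper22.blockPart_ind_one H B (ξ : H → ℂ) hξ1
    rw [hn, ← hNc] at hrel
    obtain ⟨v1, v2⟩ := Cfsg.Agent.helper22.val_of_ratio hM _ _ hN0 _ hrel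
    exact ⟨_, hn, fun hBB => v2 (h1 hBB), fun hBB => v1 (h2 hBB)⟩
  refine ⟨?_, ?_⟩
  · obtain ⟨n, hn, h1, -⟩ := key B₀ hind.2.1
    exact ⟨n, hn, (h1 rfl).1, (h1 rfl).2⟩
  · intro B hB hne
    obtain ⟨n, hn, -, h2⟩ := key B hB
    exact ⟨n, hn, h2 hne⟩

end Cfsg.Agent.S4430
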