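import Cfsg.Statements.S4433
import Mathlib
import Cfsg.Agent.Lib_helper24_MinMax
import Cfsg.Agent.Lib_helper24_NormalP
import Cfsg.Agent.Lib_helper24_Fong1
import Cfsg.Agent.Lib_helper24_DefectOrder
import Cfsg.Agent.Lib_helper1_PrincQuot

set_option autoImplicit false
set_option linter.style.haveILetI false
set_option linter.unusedVariables false
open Cfsg

namespace Cfsg.Agent.S4433

/-- Let N be a normal subgroup of the finite group G and write Ḡ = G/N; fix a maximal ideal M of the algebraic integers containing p. Let B̄ be a block of Ḡ contained in the block B of G, in the sense that the inflation of every member of B̄ lies in B, and let D̄ be a defect group of B̄. Then B has a defect group P whose image in Ḡ contains D̄. -/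
theorem result {G : Type*} [Group G] [Finite G] (p : ℕ) [Fact p.Prime] (M : Ideal Cfsg.AlgInt) (hM : Cfsg.IsPModular p M) (N : Subgroup G) [N.Normal] (Bbar : Set (Cfsg.IrrCharacter (G ⧸ N))) (hBbar : Cfsg.IsPBlock M Bbar) (B : Set (Cfsg.IrrCharacter G)) (hB : Cfsg.IsPBlock M B) (hsub : ∀ χ ∈ Bbar, ∀ ψ : Cfsg.IrrCharacter G, (ψ : G → ℂ) = (χ : G ⧸ N → ℂ) ∘ QuotientGroup.mk → ψ ∈ B) (Dbar : Subgroup (G ⧸ N)) (hDbar : Cfsg.IsDefectGroup p M Bbar Dbar) : ∃ P : Subgroup G, Cfsg.IsDefectGroup p M B P ∧ Dbar ≤ P.map (QuotientGroup.mk' N) := by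
  classical
  have := Fintype.ofFinite G
  have hMp : M.IsPrime := hM.2.1.isPrime
  have hMtop : M ≠ ⊤ := hMp.ne_top
  have hnat : ∀ n : ℕ, IsIntegral ℤ (n : ℂ) := fun n => by
    simpa using (isIntegral_algebraMap (R := ℤ) (A := ℂ) (x := (n : ℤ)))
  obtain ⟨gbar, hgbar, Pbar, rfl⟩ := hDbar
  obtain ⟨χbar0, hχbar0⟩ := hBbar
  have hχb : χbar0 ∈ Bbar := by rw [hχbar0]; exact helper24.sameBlock_refl M hMtop _
  have hχB : helper1.inflIrr N χbar0 ∈ B := hsub χbar0 hχb (helper1.inflIrr N χbar0) rfl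
  obtain ⟨h, hh⟩ := helper24.exists_defectClass p M hM B hB
  have h1 : ¬ MemLocalIdeal M (centralChar (helper1.inflIrr N χbar0 : G → ℂ) h) :=
    hh.2.2 _ hχB
  have h2 := helper24.centralChar_inflation N (χbar0 : G ⧸ N → ℂ) h
  obtain ⟨C, hC⟩ : ∃ C : Subgroup G, C = Subgroup.centralizer ({h} : Set G) := ⟨_, rfl⟩
  set Cbar : Subgroup (G ⧸ N) :=
    Subgroup.centralizer ({(QuotientGroup.mk h : G ⧸ N)} : Set (G ⧸ N)) with hCbar
  obtain ⟨L, hL⟩ : ∃ L : Subgroup G, L = Cbar.comap (QuotientGroup.mk' N) := ⟨_, rfl⟩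
  rw [← hC, ← hL] at h2
  have h3 : ¬ MemLocalIdeal M (((C.relIndex L : ℕ) : ℂ) *
      centralChar (χbar0 : G ⧸ N → ℂ) (QuotientGroup.mk h : G ⧸ N)) := by
    rw [← h2]; exact h1
  have hint : IsIntegral ℤ (centralChar (χbar0 : G ⧸ N → ℂ) (QuotientGroup.mk h : G ⧸ N)) :=
    helper23.irr_centralChar_isIntegral χbar0 _
  have h4 : ¬ MemLocalIdeal M (centralChar (χbar0 : G ⧸ N → ℂ) (QuotientGroup.mk h : G ⧸ N)) :=
    fun hc => h3 (helper24.memLocalIdeal_mul_left
      (helper24.memLocalRing_of_integral hMtop (hnat _)) hc)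
  have h5 : ¬ p ∣ C.relIndex L := by
    intro hd
    apply h3
    obtain ⟨k, hk⟩ := hd
    rw [hk]
    push_cast
    have e : (p : ℂ) * (k : ℂ) * centralChar (χbar0 : G ⧸ N → ℂ) (QuotientGroup.mk h : G ⧸ N) =
        ((k : ℂ) * centralChar (χbar0 : G ⧸ N → ℂ) (QuotientGroup.mk h : G ⧸ N)) * (p : ℂ) := by
      ring
    rw [e]
    exact helper24.memLocalIdeal_mul_left (helper24.memLocalRing_of_integral hMtop
      ((hnat k).mul hint)) (helper24.prime_memLocalIdeal hM)
  have := Fintype.ofFinite (G ⧸ N)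
  obtain ⟨xbar, Qbar, hQ⟩ := helper24.minmax_b p M hM Bbar ⟨χbar0, hχbar0⟩ gbar hgbar Pbar
    (QuotientGroup.mk h : G ⧸ N) ⟨χbar0, hχb, h4⟩
  have hCL : C ≤ L := by
    intro t ht
    rw [hL, Subgroup.mem_comap, hCbar, Subgroup.mem_centralizer_iff]
    intro z hz
    rw [Set.mem_singleton_iff] at hz
    subst hz
    rw [hC] at ht
    have h1 := Subgroup.mem_centralizer_iff.1 ht h (Set.mem_singleton h)
    show (QuotientGroup.mk h : G ⧸ N) * (QuotientGroup.mk t : G ⧸ N) =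
      (QuotientGroup.mk t : G ⧸ N) * (QuotientGroup.mk h : G ⧸ N)
    rw [← QuotientGroup.mk_mul, ← QuotientGroup.mk_mul, h1]
  obtain ⟨S⟩ : Nonempty (Sylow p C) := inferInstance
  obtain ⟨D, hD⟩ : ∃ D : Subgroup G, D = (S : Subgroup C).map C.subtype := ⟨_, rfl⟩
  have hDdef : IsDefectGroup p M B D := by
    subst hC
    exact ⟨h, hh, S, hD⟩
  have hDC : D ≤ C := by
    rw [hD]; exact Subgroup.map_subtype_le _
  have hDp : IsPGroup p D := by
    rw [hD]; exact S.isPGroup'.map _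
  have hDLp : IsPGroup p (D.subgroupOf L) := hDp.comap_of_injective _ (Subgroup.subtype_injective _)
  have hidx : ¬ p ∣ (D.subgroupOf L).index := by
    show ¬ p ∣ D.relIndex L
    rw [← Subgroup.relIndex_mul_relIndex D C L hDC hCL]
    intro hd
    rcases (Nat.Prime.dvd_mul (Fact.out : p.Prime)).1 hd with hd | hd
    · have e : D.subgroupOf C = (S : Subgroup C) := by
        rw [hD]
        exact Subgroup.comap_map_eq_self_of_injective (Subgroup.subtype_injective _) _
      have : D.relIndex C = (S : Subgroup C).index := by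
        show (D.subgroupOf C).index = _
        rw [e]
      rw [this] at hd
      exact S.not_dvd_index hd
    · exact h5 hd
  have hf : Function.Surjective ((QuotientGroup.mk' N).subgroupComap Cbar) :=
    MonoidHom.subgroupComap_surjective_of_surjective _ _ (QuotientGroup.mk'_surjective N)
  obtain ⟨SL, hSL⟩ : ∃ SL : Sylow p (Cbar.comap (QuotientGroup.mk' N)),
      (SL : Subgroup (Cbar.comap (QuotientGroup.mk' N))) =
        D.subgroupOf (Cbar.comap (QuotientGroup.mk' N)) := by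
    rw [← hL]
    exact ⟨hDLp.toSylow hidx, rfl⟩
  obtain ⟨c, hc⟩ := MulAction.exists_smul_eq Cbar (SL.mapSurjective hf) Qbar
  obtain ⟨y, hy⟩ := QuotientGroup.mk'_surjective N (xbar⁻¹ * (c : G ⧸ N))
  refine ⟨D.map (MulAut.conj y).toMonoidHom, helper24.isDefectGroup_conj p M B hDdef y, ?_⟩
  intro d hd
  have hq := hQ ⟨d, hd, rfl⟩
  obtain ⟨q, hqQ, hqe⟩ := hq
  rw [← hc] at hqQ
  rw [SetLike.mem_coe, Sylow.coe_subgroup_smul, Subgroup.mem_pointwise_smul_iff_inv_smul_mem,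
    MulAut.smul_def, MulAut.conj_inv_apply, Sylow.coe_mapSurjective] at hqQ
  obtain ⟨l, hl, hle⟩ := hqQ
  rw [hSL] at hl
  have hl' : ((l : G)) ∈ D := Subgroup.mem_subgroupOf.1 hl
  refine ⟨y * (l : G) * y⁻¹, ⟨(l : G), hl', rfl⟩, ?_⟩
  have e1 : ((QuotientGroup.mk' N) (l : G) : G ⧸ N) = ((c⁻¹ * q * c : Cbar) : G ⧸ N) := by
    rw [← hle]; rfl
  have e2 : ((q : Cbar) : G ⧸ N) = xbar * d * xbar⁻¹ := hqe
  rw [map_mul, map_mul, map_inv, hy, e1]
  push_cast
  rw [e2]
  group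

end Cfsg.Agent.S4433
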