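import Mathlib
import Cfsg.Agent.Lib_helper22_Glaub6
import Cfsg.Statements.S4446
-- import your own Cfsg.Agent.* helpers here

set_option autoImplicit false
open Cfsg

namespace Cfsg.Agent.S4446

/-- Let the finite group Γ be generated by a normal subgroup G and a cyclic subgroup S of coprime orders, C = G ⊓ C(S), and let χ be an S-invariant irreducible character of G with canonical extension χ̂ to Γ (the extension whose determinantal order is coprime to the order of S). Then there are exactly one irreducible character β of C and one sign ε such that χ̂(c s) = ε β(c) for every c ∈ C and every generator s of S; this β is a constituent of the restriction of χ to C; distinct S-invariant χ give distinct β; and every irreducible character of C arises in this way. -/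
theorem result {Γ : Type*} [Group Γ] [Fintype Γ] (G S : Subgroup Γ) [Fintype G] (hnorm : ∀ s ∈ S, ∀ g ∈ G, s * g * s⁻¹ ∈ G) (hcop : (Nat.card G).Coprime (Nat.card S)) (htop : G ⊔ S = ⊤) (hcyc : IsCyclic S) (C : Subgroup Γ) [Fintype C] (hC : C = G ⊓ Subgroup.centralizer (S : Set Γ)) (hCG : C ≤ G) : (∀ (χ : Cfsg.IrrCharacter G) (χh : Cfsg.IrrCharacter Γ), (∀ s ∈ S, ∀ g g' : G, (g' : Γ) = s * g * s⁻¹ → (χ : G → ℂ) g' = (χ : G → ℂ) g) → (∀ g : G, (χh : Γ → ℂ) g = (χ : G → ℂ) g) → (Cfsg.detOrder (χh : Γ → ℂ)).Coprime (Nat.card S) → (∃! βε : Cfsg.IrrCharacter C × ℤ, (βε.2 = 1 ∨ βε.2 = -1) ∧ ∀ c : C, ∀ s : Γ, Subgroup.zpowers s = S → (χh : Γ → ℂ) ((c : Γ) * s) = (βε.2 : ℂ) * (βε.1 : C → ℂ) c) ∧ ∀ β : Cfsg.IrrCharacter C, ∀ ε : ℤ, (ε = 1 ∨ ε = -1) → (∀ c : C, ∀ s : Γ, Subgroup.zpowers s = S → (χh : Γ → ℂ) ((c : Γ) * s) = (ε : ℂ) * (β : C → ℂ) c) → Cfsg.classInner (fun c : C => (χ : G → ℂ) ⟨c, hCG c.2⟩) (β : C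 → ℂ) ≠ 0) ∧ (∀ (χ χ' : Cfsg.IrrCharacter G) (χh χh' : Cfsg.IrrCharacter Γ), (∀ s ∈ S, ∀ g g' : G, (g' : Γ) = s * g * s⁻¹ → (χ : G → ℂ) g' = (χ : G → ℂ) g) → (∀ s ∈ S, ∀ g g' : G, (g' : Γ) = s * g * s⁻¹ → (χ' : G → ℂ) g' = (χ' : G → ℂ) g) → (∀ g : G, (χh : Γ → ℂ) g = (χ : G → ℂ) g) → (∀ g : G, (χh' : Γ → ℂ) g = (χ' : G → ℂ) g) → (Cfsg.detOrder (χh : Γ → ℂ)).Coprime (Nat.card S) → (Cfsg.detOrder (χh' : Γ → ℂ)).Coprime (Nat.card S) → ∀ β : Cfsg.IrrCharacter C, ∀ ε ε' : ℤ, (ε = 1 ∨ ε = -1) → (ε' = 1 ∨ ε' = -1) → (∀ c : C, ∀ s : Γ, Subgroup.zpowers s = S → (χh : Γ → ℂ) ((c : Γ) * s) = (ε : ℂ) * (β : C → ℂ) c) → (∀ c : C, ∀ s : Γ, Subgroup.zpowers s = S → (χh' : Γ → ℂ) ((c : Γ) * s) = (ε' : ℂ) * (β : C → ℂ) c) → χ = χ') ∧ (∀ β : Cfsg.IrrCharacter C, ∃ (χ : Cfsg.IrrCharacter G) (χh : Cfsg.IrrCharacter Γ) (ε : ℤ), (∀ s ∈ S, ∀ g g' : G, (g' : Γ) = s * g * s⁻¹ → (χ : G → ℂ) g' = (χ : G → ℂ) g) ∧ (∀ g : G, (χh :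 Γ → ℂ) g = (χ : G → ℂ) g) ∧ (Cfsg.detOrder (χh : Γ → ℂ)).Coprime (Nat.card S) ∧ (ε = 1 ∨ ε = -1) ∧ ∀ c : C, ∀ s : Γ, Subgroup.zpowers s = S → (χh : Γ → ℂ) ((c : Γ) * s) = (ε : ℂ) * (β : C → ℂ) c) := by
  classical
  -- `G` is normal
  have hGn : G.Normal := by
    apply Subgroup.normalizer_eq_top_iff.mp
    rw [eq_top_iff, ← htop]
    apply sup_le
    · exact Subgroup.le_normalizer_iff.mpr
        (fun h hh k hk => G.mul_mem (G.mul_mem hh hk) (G.inv_mem hh))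
    · exact Subgroup.le_normalizer_iff.mpr hnorm
  -- a generator
  obtain ⟨s₀, hs₀⟩ := hcyc.exists_generator
  obtain ⟨s, hs⟩ : ∃ s : Γ, s = (s₀ : Γ) := ⟨_, rfl⟩
  have hzs : Subgroup.zpowers s = S := by
    ext x
    constructor
    · intro hx
      obtain ⟨i, rfl⟩ := Subgroup.mem_zpowers_iff.mp hx
      rw [hs]
      exact S.zpow_mem s₀.2 i
    · intro hx
      obtain ⟨i, hi⟩ := Subgroup.mem_zpowers_iff.mp (hs₀ ⟨x, hx⟩)
      rw [Subgroup.mem_zpowers_iff]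
      refine ⟨i, ?_⟩
      have := congrArg (Subtype.val : S → Γ) hi
      rw [hs]
      simpa using this
  have hord : orderOf s = Nat.card S := by rw [← Nat.card_zpowers, hzs]
  have hcop' : (Nat.card G).Coprime (orderOf s) := by rw [hord]; exact hcop
  have htop' : G ⊔ Subgroup.zpowers s = ⊤ := by rw [hzs]; exact htop
  have hCeq : C = helper22.fixC G s := by
    rw [hC]
    ext c
    rw [helper22.mem_fixC, Subgroup.mem_inf, Subgroup.mem_centralizer_iff]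
    constructor
    · rintro ⟨h1, h2⟩
      refine ⟨h1, (h2 s ?_).symm⟩
      rw [← hzs]
      exact Subgroup.mem_zpowers s
    · rintro ⟨h1, h2⟩
      refine ⟨h1, fun x hx => ?_⟩
      have hx' : x ∈ Subgroup.zpowers s := by rw [hzs]; exact hx
      obtain ⟨i, rfl⟩ := Subgroup.mem_zpowers_iff.mp hx'
      have h3 : Commute c s := h2
      exact ((h3.zpow_right i).eq).symm
  subst hCeq
  -- generators of `S`
  have hs0 : 0 < orderOf s := by rw [hord]; exact Nat.card_pos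
  have hgen : ∀ s' : Γ, Subgroup.zpowers s' = S →
      ∃ k : ℕ, k.Coprime (orderOf s) ∧ s' = s ^ k := by
    intro s' hs'
    have h1 : s' ∈ Subgroup.zpowers s := by rw [hzs, ← hs']; exact Subgroup.mem_zpowers s'
    obtain ⟨i, hi⟩ := Subgroup.mem_zpowers_iff.mp h1
    have hfin : IsOfFinOrder s := isOfFinOrder_of_finite s
    obtain ⟨k, hk⟩ : ∃ k : ℕ, s ^ k = s' := by
      refine ⟨(i % (orderOf s : ℤ)).toNat, ?_⟩
      rw [← hi, ← zpow_natCast, Int.toNat_of_nonneg (Int.emod_nonneg _ (by exact_mod_cast hs0.ne')),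
        zpow_mod_orderOf]
    refine ⟨k, ?_, hk.symm⟩
    have h2 : orderOf s' = orderOf s := by
      rw [← Nat.card_zpowers, ← Nat.card_zpowers, hs', hzs]
    rw [← hk, orderOf_pow] at h2
    have h3 := (Nat.div_eq_self.mp h2)
    rcases h3 with h3 | h3
    · omega
    · rw [Nat.coprime_comm]; exact h3
  have hred : ∀ (χ : Cfsg.IrrCharacter G) (χh : Cfsg.IrrCharacter Γ),
      (∀ g : G, (χh : Γ → ℂ) g = (χ : G → ℂ) g) →
      (Cfsg.detOrder (χh : Γ → ℂ)).Coprime (Nat.card S) →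
      ∀ c : helper22.fixC G s, ∀ s' : Γ, Subgroup.zpowers s' = S →
        (χh : Γ → ℂ) ((c : Γ) * s') = (χh : Γ → ℂ) ((c : Γ) * s) := by
    intro χ χh hext hdet c s' hs'
    obtain ⟨k, hk, rfl⟩ := hgen s' hs'
    exact helper22.canonical_pow_invariant G s hcop' htop' χ.2 χh.2 hext
      (by rw [hord]; exact hdet) c.2 k hk
  refine ⟨?_, ?_, ?_⟩
  · intro χ χh hinv hext hdet
    obtain ⟨β, ε, hε, hval, hcons⟩ := helper22.cyclic_exists G s hcop' htop' χ.2 χh.2 hext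
      (by rw [hord]; exact hdet)
    have huniq : ∀ (β' : Cfsg.IrrCharacter (helper22.fixC G s)) (ε' : ℤ), (ε' = 1 ∨ ε' = -1) →
        (∀ c : helper22.fixC G s, ∀ s' : Γ, Subgroup.zpowers s' = S →
          (χh : Γ → ℂ) ((c : Γ) * s') = (ε' : ℂ) * (β' : helper22.fixC G s → ℂ) c) →
        β' = β ∧ ε' = ε := by
      intro β' ε' hε' h'
      have := helper22.pair_unique β'.2 β.2 hε' hε (fun c => by rw [← h' c s hzs, hval c])
      exact ⟨Subtype.ext this.1, this.2⟩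
    refine ⟨⟨(β, ε), ⟨hε, fun c s' hs' => ?_⟩, ?_⟩, ?_⟩
    · rw [hred χ χh hext hdet c s' hs', hval c]
    · rintro ⟨β', ε'⟩ ⟨hε', h'⟩
      obtain ⟨h1, h2⟩ := huniq β' ε' hε' h'
      exact Prod.ext h1 h2
    · intro β' ε' hε' h'
      obtain ⟨rfl, rfl⟩ := huniq β' ε' hε' h'
      have e : (fun c : helper22.fixC G s => (χ : G → ℂ) ⟨c, hCG c.2⟩) =
          fun c : helper22.fixC G s => (χh : Γ → ℂ) (c : Γ) :=
        funext (fun c => (hext ⟨c, hCG c.2⟩).symm)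
      rw [e]
      exact hcons
  · intro χ χ' χh χh' hinv hinv' hext hext' hdet hdet' β ε ε' hε hε' h h'
    exact Subtype.ext (helper22.cyclic_injective G s hcop' htop' χ.2 χ'.2 χh.2 χh'.2 hext hext'
      β.2 hε hε' (fun c => h c s hzs) (fun c => h' c s hzs))
  · intro β
    obtain ⟨χ, χh, ε, hinv, hext, hdet, hε, hval⟩ := helper22.cyclic_surjective G s hcop' htop' β
    have hdet' : (Cfsg.detOrder (χh : Γ → ℂ)).Coprime (Nat.card S) := by
      rw [← hord]; exact hdet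
    refine ⟨χ, χh, ε, ?_, hext, hdet', hε, fun c s' hs' => ?_⟩
    · intro t ht g g' hgg'
      have hcf := helper24.char_isClassFunction (helper24.irr_isCharacter χh.2)
      rw [← hext, ← hext, hgg']
      exact hcf _ _
    · rw [hred χ χh hext hdet' c s' hs', hval c]

end Cfsg.Agent.S4446
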