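import Mathlib
import Cfsg.Agent.Lib_helper22_TwoDeg
import Cfsg.Statements.S4458
-- import your own Cfsg.Agent.* helpers here

set_option autoImplicit false
open Cfsg

namespace Cfsg.Agent.S4458

open Cfsg.Agent

/-- If a finite group has exactly two irreducible character degrees, 1 and m with m ≠ 1, then its commutator subgroup is abelian. -/
theorem result {G : Type*} [Group G] [Finite G] (m : ℕ) (hcd : ∀ χ : Cfsg.IrrCharacter G, Cfsg.charDegree (χ : G → ℂ) = 1 ∨ Cfsg.charDegree (χ : G → ℂ) = m) (hm : ∃ χ : Cfsg.IrrCharacter G, Cfsg.charDegree (χ : G → ℂ) = m) (hm1 : m ≠ 1) : ∀ a ∈ commutator G, ∀ b ∈ commutator G, a * b = b * a := by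
  classical
  haveI : Fintype G := Fintype.ofFinite G
  rcases helper22.two_degrees_dichotomy m hm1 hcd hm with ⟨A, hAn, hAab, hAidx, hGA⟩ | hnil
  · intro a ha b hb
    exact hAab a (hGA ha) b (hGA hb)
  · haveI := hnil
    intro a ha b hb
    have h1 : a * b * a⁻¹ * b⁻¹ = 1 := by
      apply helper22.eq_one_of_forall_irr
      intro χ
      obtain ⟨U, lam, hU⟩ := helper22.nilpotent_monomial (Nat.card G) G rfl (χ : G → ℂ) χ.2
      exact helper22.monomial_kernel m hcd χ U lam hU ha hb
    have h2 := congrArg (· * b * a) h1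
    simpa [mul_assoc] using h2

end Cfsg.Agent.S4458
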