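import Mathlib
import Cfsg.Agent.Lib_helper22_FS
import Cfsg.Agent.Lib_helper22_LinChar
import Cfsg.Agent.Lib_helper23_LinChar
import Cfsg.Agent.Lib_helper24_CharIntegral
import Cfsg.Agent.S4476
import Cfsg.Statements.S4477

set_option autoImplicit false
set_option linter.unusedSectionVars false
set_option linter.unusedVariables false
open Cfsg
open scoped ComplexConjugate

namespace Cfsg.Agent.S4477

open Cfsg.Agent.helper22

/-- a non-cyclic finite 2-group has two distinct subgroups of index two -/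
theorem exists_two_index_two {G : Type*} [Group G] [Finite G] (hG : IsPGroup 2 G)
    (hcyc : ¬ IsCyclic G) :
    ∃ K₁ K₂ : Subgroup G, K₁.index = 2 ∧ K₂.index = 2 ∧ K₁ ≠ K₂ := by
  haveI : Fact (Nat.Prime 2) := ⟨Nat.prime_two⟩
  obtain ⟨n, hn⟩ := IsPGroup.iff_card.mp hG
  have hn0 : n ≠ 0 := by
    rintro rfl
    rw [pow_zero] at hn
    haveI : Subsingleton G := (Nat.card_eq_one_iff_unique.mp hn).1
    exact hcyc isCyclic_of_subsingleton
  obtain ⟨m, rfl⟩ : ∃ m, n = m + 1 := ⟨n - 1, by omega⟩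
  have hidx : ∀ K : Subgroup G, Nat.card K = 2 ^ m → K.index = 2 := by
    intro K hK
    have := K.card_mul_index
    rw [hK, hn, pow_succ] at this
    exact Nat.eq_of_mul_eq_mul_left (by positivity) this
  have hdvd : 2 ^ m ∣ Nat.card G := by
    rw [hn]; exact pow_dvd_pow 2 (Nat.le_succ m)
  obtain ⟨K₁, hK₁, -⟩ := Sylow.exists_subgroup_card_pow_prime_le 2 (n := 0) (m := m) hdvd ⊥
    (by simp) (Nat.zero_le _)
  have hK₁top : K₁ ≠ ⊤ := by
    intro h
    rw [h, Subgroup.card_top, hn] at hK₁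
    have := Nat.pow_right_injective (le_refl 2) hK₁
    omega
  obtain ⟨x, hx⟩ : ∃ x, x ∉ K₁ := by
    by_contra hcon
    push Not at hcon
    exact hK₁top (eq_top_iff.mpr fun y _ => hcon y)
  obtain ⟨k, hk⟩ := (IsPGroup.iff_orderOf.mp hG) x
  have hkm : k ≤ m := by
    have h1 : orderOf x ∣ Nat.card G := orderOf_dvd_natCard x
    rw [hk, hn] at h1
    have h2 : k ≤ m + 1 := (Nat.pow_dvd_pow_iff_le_right (by norm_num)).mp h1
    rcases Nat.lt_or_ge k (m + 1) with h | h
    · omega
    · exfalso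
      have : k = m + 1 := le_antisymm h2 h
      apply hcyc
      apply isCyclic_of_orderOf_eq_card x
      rw [hk, hn, this]
  obtain ⟨K₂, hK₂, hle⟩ := Sylow.exists_subgroup_card_pow_prime_le 2 (n := k) (m := m) hdvd
    (Subgroup.zpowers x) (by rw [Nat.card_zpowers, hk]) hkm
  refine ⟨K₁, K₂, hidx K₁ hK₁, hidx K₂ hK₂, ?_⟩
  intro h
  apply hx
  rw [h]
  exact hle (Subgroup.mem_zpowers x)

/-- the Frobenius–Schur count with integer indicators -/
theorem fs_count {G : Type*} [Group G] [Fintype G] [Fintype (IrrCharacter G)] (t : ℕ)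
    (ht : Nat.card {x : G // orderOf x = 2} = t) :
    ∃ e : IrrCharacter G → ℤ, (∀ χ : IrrCharacter G, fsInd (χ : G → ℂ) = (e χ : ℂ)) ∧
      (∀ χ : IrrCharacter G, (∀ x, ((χ : G → ℂ) x).im = 0) → e χ = 1 ∨ e χ = -1) ∧
      (∀ χ : IrrCharacter G, ¬ (∀ x, ((χ : G → ℂ) x).im = 0) → e χ = 0) ∧
      ∑ χ : IrrCharacter G, e χ * (charDegree (χ : G → ℂ) : ℤ) = (t : ℤ) + 1 := by
  classical
  set real : IrrCharacter G → Prop := fun χ => ∀ x, ((χ : G → ℂ) x).im = 0 with hreal
  set e : IrrCharacter G → ℤ :=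
    fun χ => if real χ then (if fsInd (χ : G → ℂ) = 1 then 1 else -1) else 0 with he
  have heC : ∀ χ : IrrCharacter G, fsInd (χ : G → ℂ) = (e χ : ℂ) := by
    intro χ
    simp only [he]
    by_cases h : real χ
    · rw [if_pos h]
      rcases fsInd_of_real χ.2 h with h1 | h1
      · rw [if_pos h1, h1]; simp
      · have : ¬ fsInd (χ : G → ℂ) = 1 := by rw [h1]; norm_num
        rw [if_neg this, h1]; simp
    · rw [if_neg h, fsInd_of_not_real χ.2 h]; simp
  refine ⟨e, heC, ?_, ?_, ?_⟩
  · intro χ h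
    simp only [he]
    rw [if_pos h]
    split_ifs
    · left; rfl
    · right; rfl
  · intro χ h
    simp only [he]
    rw [if_neg h]
  · have hdC : ∀ χ : IrrCharacter G, ((charDegree (χ : G → ℂ) : ℕ) : ℂ) = (χ : G → ℂ) 1 := fun χ =>
      helper24.char_charDegree_cast (helper24.irr_isCharacter χ.2)
    have hsumC : ∑ χ : IrrCharacter G, fsInd (χ : G → ℂ) * (χ : G → ℂ) 1 = ((t + 1 : ℕ) : ℂ) := by
      rw [sum_fsInd_mul_degree, Cfsg.Agent.S4476.card_sq_eq_one, ht]
    have h1 : ((∑ χ : IrrCharacter G, e χ * (charDegree (χ : G → ℂ) : ℤ) : ℤ) : ℂ) =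
        (((t : ℤ) + 1 : ℤ) : ℂ) := by
      push_cast
      rw [show ((t : ℂ) + 1) = ((t + 1 : ℕ) : ℂ) by push_cast; rfl, ← hsumC]
      refine Finset.sum_congr rfl (fun χ _ => ?_)
      rw [heC χ, ← hdC χ]
    exact_mod_cast h1

theorem result {G : Type*} [Group G] [Finite G] (hG : IsPGroup 2 G) (ht : Nat.card {x : G // orderOf x = 2} % 4 = 1) : IsCyclic G ∨ (commutator G).index = 4 := by
  classical
  by_cases hcyc : IsCyclic G
  · exact Or.inl hcyc
  right
  haveI : Fact (Nat.Prime 2) := ⟨Nat.prime_two⟩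
  haveI : Fintype G := Fintype.ofFinite G
  haveI : Fintype (IrrCharacter G) := Fintype.ofFinite _
  obtain ⟨n, hn⟩ := IsPGroup.iff_card.mp hG
  -- the dual group is a 2-group
  have hGhat : IsPGroup 2 (G →* ℂˣ) := by
    have h1 : Nat.card (G →* ℂˣ) ∣ 2 ^ n := by
      rw [card_hom_eq_index, ← hn]; exact Subgroup.index_dvd_card _
    obtain ⟨j, _, hj⟩ := (Nat.dvd_prime_pow Nat.prime_two).mp h1
    exact IsPGroup.of_card hj
  set A : Subgroup (G →* ℂˣ) := (powMonoidHom 2).ker with hA
  set B : Subgroup (G →* ℂˣ) := (powMonoidHom 4).ker with hB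
  have memA : ∀ φ : G →* ℂˣ, φ ∈ A ↔ φ ^ 2 = 1 := fun φ => by
    rw [hA, MonoidHom.mem_ker, powMonoidHom_apply]
  have memB : ∀ φ : G →* ℂˣ, φ ∈ B ↔ φ ^ 4 = 1 := fun φ => by
    rw [hB, MonoidHom.mem_ker, powMonoidHom_apply]
  have hAB : A ≤ B := by
    intro φ hφ
    rw [memA] at hφ
    rw [memB, show 4 = 2 * 2 from rfl, pow_mul, hφ]
    exact one_pow (M := G →* ℂˣ) 2
  have hAp : IsPGroup 2 A := hGhat.to_subgroup A
  have hBp : IsPGroup 2 B := hGhat.to_subgroup B
  haveI : Fintype A := Fintype.ofFinite A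
  -- values of elements of A
  have valA : ∀ φ ∈ A, ∀ g : G, ((φ g : ℂˣ) : ℂ) = 1 ∨ ((φ g : ℂˣ) : ℂ) = -1 := by
    intro φ hφ g
    rw [memA] at hφ
    have h1 : (φ g) ^ 2 = 1 := by rw [← MonoidHom.pow_apply, hφ]; rfl
    have h2 : ((φ g : ℂˣ) : ℂ) ^ 2 = 1 := by rw [← Units.val_pow_eq_pow_val, h1]; rfl
    exact sq_eq_one_iff.mp h2
  have imA : ∀ φ ∈ A, ∀ g : G, (((φ g : ℂˣ) : ℂ)).im = 0 := by
    intro φ hφ g
    rcases valA φ hφ g with h | h <;> rw [h] <;> simp
  -- degrees and reality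
  set d : IrrCharacter G → ℕ := fun χ => charDegree (χ : G → ℂ) with hd
  set real : IrrCharacter G → Prop := fun χ => ∀ x, ((χ : G → ℂ) x).im = 0 with hreal
  have hdC : ∀ χ : IrrCharacter G, (d χ : ℂ) = (χ : G → ℂ) 1 := fun χ =>
    helper24.char_charDegree_cast (helper24.irr_isCharacter χ.2)
  have hdpos : ∀ χ : IrrCharacter G, 0 < d χ := fun χ => helper24.irr_charDegree_pos χ.2
  have hdpow : ∀ χ : IrrCharacter G, ∃ j, d χ = 2 ^ j := by
    intro χ
    have h1 : d χ ∣ 2 ^ n := by rw [← hn]; exact helper24.irr_degree_dvd_card χ.2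
    obtain ⟨j, _, hj⟩ := (Nat.dvd_prime_pow Nat.prime_two).mp h1
    exact ⟨j, hj⟩
  set L : Finset (IrrCharacter G) := Finset.univ.filter (fun χ => d χ = 1 ∧ real χ) with hL
  set S : Finset (IrrCharacter G) := Finset.univ.filter (fun χ => d χ = 2 ∧ real χ) with hS
  -- description of L
  have hLdesc : ∀ χ ∈ L, ∃ lam ∈ A, ∀ g, (χ : G → ℂ) g = ((lam g : ℂˣ) : ℂ) := by
    intro χ hχ
    simp only [hL, Finset.mem_filter, Finset.mem_univ, true_and] at hχ
    obtain ⟨hd1, hre⟩ := hχ
    have h1 : (χ : G → ℂ) 1 = 1 := by rw [← hdC χ, hd1]; simp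
    obtain ⟨lam, hlam⟩ := helper23.exists_hom_of_linear (helper24.irr_isCharacter χ.2) h1
    refine ⟨lam, ?_, hlam⟩
    rw [memA]
    apply MonoidHom.ext
    intro g
    apply Units.ext
    rw [MonoidHom.pow_apply, MonoidHom.one_apply, Units.val_pow_eq_pow_val, Units.val_one]
    have hz_im : (((lam g : ℂˣ) : ℂ)).im = 0 := by rw [← hlam g]; exact hre g
    have hk : 0 < orderOf g := orderOf_pos g
    have hzk : (((lam g : ℂˣ) : ℂ)) ^ orderOf g = 1 := by
      rw [← Units.val_pow_eq_pow_val, ← map_pow, pow_orderOf_eq_one, map_one, Units.val_one]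
    have hzre : (((lam g : ℂˣ) : ℂ)) = (((((lam g : ℂˣ) : ℂ)).re : ℝ) : ℂ) := by
      apply Complex.ext <;> simp [hz_im]
    rw [hzre] at hzk ⊢
    have h2 : ((((lam g : ℂˣ) : ℂ)).re) ^ orderOf g = 1 := by exact_mod_cast hzk
    rcases pow_eq_one_iff_cases.mp h2 with h | h | ⟨h, _⟩
    · omega
    · rw [h]; simp
    · rw [h]; push_cast; norm_num
  -- Frobenius–Schur count
  obtain ⟨e, heC, hereal, henreal, hesum⟩ := fs_count (G := G) _ rfl
  have heL : ∀ χ ∈ L, e χ = 1 := by
    intro χ hχ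
    obtain ⟨lam, hlamA, hlam⟩ := hLdesc χ hχ
    have h1 : fsInd (χ : G → ℂ) = 1 := by
      unfold fsInd
      have : ∀ s ∈ (Finset.univ : Finset G), (χ : G → ℂ) (s * s) = 1 := by
        intro s _
        rw [hlam, map_mul, Units.val_mul]
        rcases valA lam hlamA s with h | h <;> rw [h] <;> norm_num
      rw [Finset.sum_congr rfl this, Finset.sum_const, Finset.card_univ, nsmul_eq_mul, mul_one,
        Nat.card_eq_fintype_card]
      apply inv_mul_cancel₀
      have : 0 < Fintype.card G := Fintype.card_pos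
      exact_mod_cast this.ne'
    have h2 := heC χ
    rw [h1] at h2
    exact_mod_cast h2.symm
  have hLcard : L.card = Nat.card A := by
    rw [Nat.card_eq_fintype_card, ← Finset.card_univ]
    symm
    refine Finset.card_bij (fun a _ => helper23.linIrr a.1) ?_ ?_ ?_
    · intro a _
      simp only [hL, Finset.mem_filter, Finset.mem_univ, true_and]
      constructor
      · apply helper24.charDegree_natCast
        show ((a.1 1 : ℂˣ) : ℂ) = ((1 : ℕ) : ℂ)
        simp
      · intro x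
        exact imA a.1 a.2 x
    · intro a _ b _ hab
      exact Subtype.ext (helper23.linIrr_injective hab)
    · intro χ hχ
      obtain ⟨lam, hlamA, hlam⟩ := hLdesc χ hχ
      refine ⟨⟨lam, hlamA⟩, Finset.mem_univ _, ?_⟩
      apply Subtype.ext
      funext g
      exact (hlam g).symm
  -- `A` has order divisible by four
  obtain ⟨K₁, K₂, hK₁, hK₂, hK12⟩ := exists_two_index_two hG hcyc
  have h4A : 4 ∣ Nat.card A := by
    have hφ₁A : homOfIndexTwo K₁ hK₁ ∈ A := (memA _).2 (homOfIndexTwo_sq K₁ hK₁)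
    have hφ₂A : homOfIndexTwo K₂ hK₂ ∈ A := (memA _).2 (homOfIndexTwo_sq K₂ hK₂)
    have hne : ∀ (K : Subgroup G) (hK : K.index = 2), homOfIndexTwo K hK ≠ 1 := by
      intro K hK h
      have hKtop : K ≠ ⊤ := by
        intro h1
        rw [h1, Subgroup.index_top] at hK
        omega
      apply hKtop
      rw [eq_top_iff]
      intro g _
      rw [← homOfIndexTwo_eq_one_iff K hK, h]
      rfl
    have hφ12 : homOfIndexTwo K₁ hK₁ ≠ homOfIndexTwo K₂ hK₂ := by
      intro h
      apply hK12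
      ext g
      rw [← homOfIndexTwo_eq_one_iff K₁ hK₁, ← homOfIndexTwo_eq_one_iff K₂ hK₂, h]
    have h3 : 3 ≤ Nat.card A := by
      rw [Nat.card_eq_fintype_card]
      have : ({1, ⟨_, hφ₁A⟩, ⟨_, hφ₂A⟩} : Finset A).card = 3 := by
        rw [Finset.card_eq_three]
        refine ⟨1, ⟨_, hφ₁A⟩, ⟨_, hφ₂A⟩, ?_, ?_, ?_, rfl⟩
        · intro h
          exact hne K₁ hK₁ (congrArg Subtype.val h).symm
        · intro h
          exact hne K₂ hK₂ (congrArg Subtype.val h).symm
        · intro h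
          exact hφ12 (congrArg Subtype.val h)
      calc 3 = _ := this.symm
        _ ≤ Fintype.card A := Finset.card_le_univ _
    obtain ⟨k, hk⟩ := IsPGroup.iff_card.mp hAp
    rw [hk] at h3 ⊢
    have hk2 : 2 ≤ k := by
      by_contra hcon
      have : k = 0 ∨ k = 1 := by omega
      rcases this with rfl | rfl <;> norm_num at h3
    exact pow_dvd_pow 2 hk2
  -- counting modulo four
  have hterm : ∀ χ : IrrCharacter G, ((e χ * (d χ : ℤ) : ℤ) : ZMod 4) =
      (if χ ∈ L then 1 else 0) + 2 * (if χ ∈ S then 1 else 0) := by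
    intro χ
    by_cases hr : real χ
    · obtain ⟨j, hj⟩ := hdpow χ
      rcases Nat.lt_or_ge j 2 with hj2 | hj2
      · interval_cases j
        · have hd1 : d χ = 1 := by simpa using hj
          have hχL : χ ∈ L := by
            simp only [hL, Finset.mem_filter, Finset.mem_univ, true_and]
            exact ⟨hd1, hr⟩
          have hχS : χ ∉ S := by
            simp only [hS, Finset.mem_filter, Finset.mem_univ, true_and, not_and]
            intro h; omega
          rw [if_pos hχL, if_neg hχS, heL χ hχL, hd1]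
          simp
        · have hd2 : d χ = 2 := by simpa using hj
          have hχL : χ ∉ L := by
            simp only [hL, Finset.mem_filter, Finset.mem_univ, true_and, not_and]
            intro h; omega
          have hχS : χ ∈ S := by
            simp only [hS, Finset.mem_filter, Finset.mem_univ, true_and]
            exact ⟨hd2, hr⟩
          rw [if_neg hχL, if_pos hχS, hd2]
          rcases hereal χ hr with h | h <;> rw [h] <;> decide
      · have h4 : 4 ∣ d χ := by
          rw [hj]; exact pow_dvd_pow 2 hj2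
        have hd0 : ((d χ : ℕ) : ZMod 4) = 0 := (ZMod.natCast_eq_zero_iff _ _).2 h4
        have hd4 : 4 ≤ d χ := Nat.le_of_dvd (hdpos χ) h4
        have hχL : χ ∉ L := by
          simp only [hL, Finset.mem_filter, Finset.mem_univ, true_and, not_and]
          intro h; omega
        have hχS : χ ∉ S := by
          simp only [hS, Finset.mem_filter, Finset.mem_univ, true_and, not_and]
          intro h; omega
        rw [if_neg hχL, if_neg hχS]
        push_cast
        rw [hd0]
        simp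
    · have hχL : χ ∉ L := by
        simp only [hL, Finset.mem_filter, Finset.mem_univ, true_and, not_and]
        intro _; exact hr
      have hχS : χ ∉ S := by
        simp only [hS, Finset.mem_filter, Finset.mem_univ, true_and, not_and]
        intro _; exact hr
      rw [if_neg hχL, if_neg hχS, henreal χ hr]
      simp
  have hsum4 : ((((Nat.card {x : G // orderOf x = 2} : ℕ) : ℤ) + 1 : ℤ) : ZMod 4) =
      (L.card : ZMod 4) + 2 * (S.card : ZMod 4) := by
    rw [← hesum, Int.cast_sum, Finset.sum_congr rfl (fun χ _ => hterm χ), Finset.sum_add_distrib,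
      ← Finset.mul_sum, Finset.sum_boole, Finset.sum_boole, Finset.filter_mem_eq_inter,
      Finset.filter_mem_eq_inter, Finset.univ_inter, Finset.univ_inter]
  have ht4 : ((Nat.card {x : G // orderOf x = 2} : ℕ) : ZMod 4) = 1 := by
    have := (ZMod.natCast_eq_natCast_iff' (Nat.card {x : G // orderOf x = 2}) 1 4).2 (by rw [ht])
    simpa using this
  have hSodd : Odd S.card := by
    by_contra hcon
    rw [Nat.not_odd_iff_even] at hcon
    obtain ⟨j, hj⟩ := hcon
    have hL0 : (L.card : ZMod 4) = 0 := by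
      rw [hLcard]; exact (ZMod.natCast_eq_zero_iff _ _).2 h4A
    rw [hL0, hj] at hsum4
    push_cast at hsum4
    rw [ht4] at hsum4
    have h5 : (2 : ZMod 4) * ((j : ZMod 4) + j) = 4 * j := by ring
    have h40 : (4 : ZMod 4) = 0 := by decide
    rw [h5, h40] at hsum4
    revert hsum4
    simp
    decide
  -- `A` preserves `S`
  have hAS : ∀ a ∈ A, ∀ χ ∈ S, a • χ ∈ S := by
    intro a ha χ hχ
    simp only [hS, Finset.mem_filter, Finset.mem_univ, true_and] at hχ ⊢
    refine ⟨?_, fun x => ?_⟩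
    · show charDegree _ = 2
      rw [twist_degree]
      exact hχ.1
    · rw [twist_apply, Complex.mul_im, hχ.2 x, imA a ha x]; ring
  have hfp1 := card_filter_fixed_modEq 2 A hAp S hAS
  set S₀ := S.filter (fun s => ∀ h ∈ A, h • s = s) with hS₀
  have hS₀odd : Odd S₀.card := by
    rw [Nat.odd_iff] at hSodd ⊢
    rw [← hfp1]; exact hSodd
  obtain ⟨χ₀, hχ₀⟩ : S₀.Nonempty := by
    rw [← Finset.card_pos]; exact hS₀odd.pos
  have hAcard : Nat.card A ≤ 4 := by
    have hχ₀' := Finset.mem_filter.mp hχ₀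
    have hχ₀S := Finset.mem_filter.mp hχ₀'.1
    have hAle : A ≤ MulAction.stabilizer (G →* ℂˣ) χ₀ :=
      fun a ha => MulAction.mem_stabilizer_iff.mpr (hχ₀'.2 a ha)
    calc Nat.card A ≤ Nat.card (MulAction.stabilizer (G →* ℂˣ) χ₀) := Subgroup.card_le_of_le hAle
      _ ≤ (charDegree (χ₀ : G → ℂ)) ^ 2 := card_stabilizer_le χ₀
      _ = 4 := by rw [show charDegree (χ₀ : G → ℂ) = 2 from hχ₀S.2.1]; norm_num
  -- `B` preserves `S₀`
  have hBS₀ : ∀ b ∈ B, ∀ χ ∈ S₀, b • χ ∈ S₀ := by
    intro b hb χ hχ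
    rw [hS₀, Finset.mem_filter] at hχ ⊢
    obtain ⟨hχS, hχfix⟩ := hχ
    have hb2 : b ^ 2 ∈ A := by
      rw [memA, ← pow_mul]; exact (memB b).1 hb
    refine ⟨?_, ?_⟩
    · simp only [hS, Finset.mem_filter, Finset.mem_univ, true_and] at hχS ⊢
      refine ⟨?_, fun x => ?_⟩
      · show charDegree _ = 2
        rw [twist_degree]
        exact hχS.1
      · rw [twist_apply]
        by_cases hx0 : (χ : G → ℂ) x = 0
        · rw [hx0, mul_zero]; rfl
        · have h1 := congrArg (fun ψ : IrrCharacter G => (ψ : G → ℂ) x) (hχfix (b ^ 2) hb2)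
          simp only [twist_apply] at h1
          have h2 : ((((b ^ 2 : G →* ℂˣ) x : ℂˣ) : ℂ) - 1) * (χ : G → ℂ) x = 0 := by
            rw [sub_mul, h1, one_mul, sub_self]
          have h3 : (((b ^ 2 : G →* ℂˣ) x : ℂˣ) : ℂ) = 1 := by
            rcases mul_eq_zero.mp h2 with h | h
            · exact sub_eq_zero.mp h
            · exact absurd h hx0
          rw [MonoidHom.pow_apply, Units.val_pow_eq_pow_val] at h3
          rcases sq_eq_one_iff.mp h3 with h | h <;> rw [h, Complex.mul_im, hχS.2 x] <;> simp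
    · intro a ha
      have hcomm : a • b • χ = b • a • χ := by
        rw [← mul_smul, ← mul_smul]
        exact congrArg (fun c : G →* ℂˣ => c • χ) (mul_comm a b)
      rw [hcomm, hχfix a ha]
  have hfp2 := card_filter_fixed_modEq 2 B hBp S₀ hBS₀
  obtain ⟨χ₁, hχ₁⟩ : (S₀.filter (fun s => ∀ h ∈ B, h • s = s)).Nonempty := by
    rw [← Finset.card_pos]
    have : Odd (S₀.filter (fun s => ∀ h ∈ B, h • s = s)).card := by
      rw [Nat.odd_iff] at hS₀odd ⊢
      rw [← hfp2]; exact hS₀odd
    exact this.pos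
  have hBcard : Nat.card B ≤ 4 := by
    have hχ₁' := Finset.mem_filter.mp hχ₁
    have hχ₁S₀ := Finset.mem_filter.mp hχ₁'.1
    have hχ₁S := Finset.mem_filter.mp hχ₁S₀.1
    have hBle : B ≤ MulAction.stabilizer (G →* ℂˣ) χ₁ :=
      fun b hb => MulAction.mem_stabilizer_iff.mpr (hχ₁'.2 b hb)
    calc Nat.card B ≤ Nat.card (MulAction.stabilizer (G →* ℂˣ) χ₁) := Subgroup.card_le_of_le hBle
      _ ≤ (charDegree (χ₁ : G → ℂ)) ^ 2 := card_stabilizer_le χ₁
      _ = 4 := by rw [show charDegree (χ₁ : G → ℂ) = 2 from hχ₁S.2.1]; norm_num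
  have h4le : 4 ≤ Nat.card A := Nat.le_of_dvd Nat.card_pos h4A
  have hABeq : A = B := Subgroup.eq_of_le_of_card_ge hAB (by omega)
  -- the dual group has exponent two
  have hexp : ∀ k : ℕ, ∀ φ : G →* ℂˣ, φ ^ (2 ^ k) = 1 → φ ^ 2 = 1 := by
    intro k
    induction k with
    | zero =>
      intro φ h
      rw [pow_zero, pow_one] at h
      rw [h]
      exact one_pow (M := G →* ℂˣ) 2
    | succ k ih =>
      intro φ h
      rcases Nat.eq_zero_or_pos k with hk | hk
      · subst hk
        simpa using h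
      · obtain ⟨m, rfl⟩ : ∃ m, k = m + 1 := ⟨k - 1, by omega⟩
        have h1 : (φ ^ (2 ^ m)) ^ 4 = 1 := by
          rw [← pow_mul, show 2 ^ m * 4 = 2 ^ (m + 1 + 1) by ring]
          exact h
        have h2 : φ ^ (2 ^ m) ∈ A := by
          rw [hABeq, memB]; exact h1
        rw [memA, ← pow_mul, show 2 ^ m * 2 = 2 ^ (m + 1) by ring] at h2
        exact ih φ h2
  have hAtop : A = ⊤ := by
    rw [eq_top_iff]
    intro φ _
    obtain ⟨k, hk⟩ := hGhat φ
    exact (memA φ).2 (hexp k φ hk)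
  rw [← card_hom_eq_index, ← Subgroup.card_top (G := G →* ℂˣ), ← hAtop]
  omega

end Cfsg.Agent.S4477
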