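import Cfsg.Statements.S4478
import Cfsg.Agent.Lib_helper24_DefectZero
import Cfsg.Agent.Lib_helper24_Gagola2
import Cfsg.Agent.Lib_helper22_FS
import Cfsg.Agent.Lib_helper12_Card

set_option autoImplicit false
open Cfsg

namespace Cfsg.Agent.S4478

open Cfsg.Agent.helper24 Cfsg.Agent.helper22 Cfsg.Agent.helper12
open scoped ComplexConjugate

section
variable {G : Type*} [Group G] [Fintype G]

theorem dvd_bad (χ : Cfsg.IrrCharacter G)
    (h2 : 2 ^ (Nat.card G).factorization 2 ∣ Cfsg.charDegree (χ : G → ℂ))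
    (hp : ∀ p : ℕ, p.Prime → p ≠ 2 → (∃ g : G, orderOf g = 2 * p) →
      p ^ (Nat.card G).factorization p ∣ Cfsg.charDegree (χ : G → ℂ))
    {q : ℕ} (hq : q.Prime) (hbad : q = 2 ∨ ∃ g : G, orderOf g = 2 * q) :
    q ^ (Nat.card G).factorization q ∣ Cfsg.charDegree (χ : G → ℂ) := by
  by_cases h : q = 2
  · subst h; exact h2
  · rcases hbad with h' | h'
    · exact absurd h' h
    · exact hp q hq h h'

theorem vanish_of_dvd (χ : Cfsg.IrrCharacter G)
    (h2 : 2 ^ (Nat.card G).factorization 2 ∣ Cfsg.charDegree (χ : G → ℂ))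
    (hp : ∀ p : ℕ, p.Prime → p ≠ 2 → (∃ g : G, orderOf g = 2 * p) →
      p ^ (Nat.card G).factorization p ∣ Cfsg.charDegree (χ : G → ℂ))
    {q : ℕ} (hq : q.Prime) (hbad : q = 2 ∨ ∃ g : G, orderOf g = 2 * q) (x : G)
    (hx : q ∣ orderOf x) : (χ : G → ℂ) x = 0 := by
  haveI : Fact q.Prime := ⟨hq⟩
  exact defect_zero_vanish q χ (dvd_bad χ h2 hp hq hbad) x hx

theorem bad_of_order (s c : G) (hs : orderOf s = 2) (hsc : Commute s c) {q : ℕ} (hq : q.Prime)
    (hqc : q ∣ orderOf c) : q = 2 ∨ ∃ g : G, orderOf g = 2 * q := by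
  by_cases h : q = 2
  · exact Or.inl h
  · right
    have hc0 : orderOf c ≠ 0 := (orderOf_pos c).ne'
    have h1 : orderOf (c ^ (orderOf c / q)) = q := orderOf_pow_orderOf_div hc0 hqc
    have hcomm : Commute s (c ^ (orderOf c / q)) := hsc.pow_right _
    refine ⟨s * c ^ (orderOf c / q), ?_⟩
    rw [hcomm.orderOf_mul_eq_mul_orderOf_of_coprime, hs, h1]
    rw [hs, h1]
    exact (Nat.coprime_primes Nat.prime_two hq).mpr (Ne.symm h)

theorem vanish_cent (χ : Cfsg.IrrCharacter G)
    (h2 : 2 ^ (Nat.card G).factorization 2 ∣ Cfsg.charDegree (χ : G → ℂ))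
    (hp : ∀ p : ℕ, p.Prime → p ≠ 2 → (∃ g : G, orderOf g = 2 * p) →
      p ^ (Nat.card G).factorization p ∣ Cfsg.charDegree (χ : G → ℂ))
    (s : G) (hs : orderOf s = 2) (c : G) (hsc : Commute s c) (hc1 : c ≠ 1) :
    (χ : G → ℂ) c = 0 := by
  have hne : orderOf c ≠ 1 := fun h => hc1 (orderOf_eq_one_iff.mp h)
  obtain ⟨q, hq, hqc⟩ := Nat.exists_prime_and_dvd hne
  exact vanish_of_dvd χ h2 hp hq (bad_of_order s c hs hsc hq hqc) c hqc

theorem sum_char_eq_zero (χ : Cfsg.IrrCharacter G) (hne : (χ : G → ℂ) ≠ fun _ => 1) :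
    ∑ g : G, (χ : G → ℂ) g = 0 := by
  have h := irr_classInner_ne χ.2 (isIrrCharacter_one (G := G)) hne
  unfold classInner at h
  simp only [map_one, mul_one] at h
  have hG : (Nat.card G : ℂ) ≠ 0 := by exact_mod_cast Nat.card_pos.ne'
  rcases mul_eq_zero.mp h with h | h
  · exact absurd (inv_eq_zero.mp h) hG
  · exact h

theorem sq_odd_inv (g : G) (hg : Odd (orderOf g)) :
    (g * g) ^ ((orderOf g + 1) / 2) = g := by
  obtain ⟨k, hk⟩ := hg
  have h1 : (orderOf g + 1) / 2 = k + 1 := by omega
  rw [h1, ← pow_two, ← pow_mul]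
  have h2 : 2 * (k + 1) = orderOf g + 1 := by omega
  rw [h2, pow_succ, pow_orderOf_eq_one, one_mul]

theorem fs_sum (χ : Cfsg.IrrCharacter G)
    (h2 : 2 ^ (Nat.card G).factorization 2 ∣ Cfsg.charDegree (χ : G → ℂ))
    (hp : ∀ p : ℕ, p.Prime → p ≠ 2 → (∃ g : G, orderOf g = 2 * p) →
      p ^ (Nat.card G).factorization p ∣ Cfsg.charDegree (χ : G → ℂ))
    (hne : (χ : G → ℂ) ≠ fun _ => 1) :
    ∑ g : G, (χ : G → ℂ) (g * g) =
      ((Finset.univ.filter (fun g : G => orderOf g = 2)).card : ℂ) * (χ : G → ℂ) 1 := by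
  classical
  have hsplit : ∀ f : G → ℂ, ∑ g : G, f g =
      ∑ g ∈ Finset.univ.filter (fun g : G => Odd (orderOf g)), f g +
      ∑ g ∈ Finset.univ.filter (fun g : G => ¬ Odd (orderOf g)), f g :=
    fun f => (Finset.sum_filter_add_sum_filter_not _ _ _).symm
  have hodd : ∑ g ∈ Finset.univ.filter (fun g : G => Odd (orderOf g)), (χ : G → ℂ) (g * g) =
      ∑ g ∈ Finset.univ.filter (fun g : G => Odd (orderOf g)), (χ : G → ℂ) g := by
    apply Finset.sum_nbij' (fun g => g * g) (fun h => h ^ ((orderOf h + 1) / 2))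
    · intro g hg
      simp only [Finset.mem_filter, Finset.mem_univ, true_and] at hg ⊢
      rw [← pow_two, Nat.Coprime.orderOf_pow (Nat.coprime_two_right.mpr hg)]
      exact hg
    · intro g hg
      simp only [Finset.mem_filter, Finset.mem_univ, true_and] at hg ⊢
      exact Odd.of_dvd_nat hg (orderOf_pow_dvd _)
    · intro g hg
      simp only [Finset.mem_filter, Finset.mem_univ, true_and] at hg
      have ho : orderOf (g * g) = orderOf g := by
        rw [← pow_two, Nat.Coprime.orderOf_pow (Nat.coprime_two_right.mpr hg)]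
      show (g * g) ^ ((orderOf (g * g) + 1) / 2) = g
      rw [ho]
      exact sq_odd_inv g hg
    · intro g hg
      simp only [Finset.mem_filter, Finset.mem_univ, true_and] at hg
      show g ^ ((orderOf g + 1) / 2) * g ^ ((orderOf g + 1) / 2) = g
      rw [← (Commute.refl g).mul_pow]
      exact sq_odd_inv g hg
    · intro g _
      rfl
  have heven1 : ∑ g ∈ Finset.univ.filter (fun g : G => ¬ Odd (orderOf g)), (χ : G → ℂ) g = 0 := by
    apply Finset.sum_eq_zero
    intro g hg
    simp only [Finset.mem_filter, Finset.mem_univ, true_and] at hg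
    have h2g : 2 ∣ orderOf g := (Nat.not_odd_iff_even.mp hg).two_dvd
    exact vanish_of_dvd χ h2 hp Nat.prime_two (Or.inl rfl) g h2g
  have heven2 : ∑ g ∈ Finset.univ.filter (fun g : G => ¬ Odd (orderOf g)), (χ : G → ℂ) (g * g) =
      ∑ g ∈ Finset.univ.filter (fun g : G => ¬ Odd (orderOf g)),
        (if orderOf g = 2 then (χ : G → ℂ) 1 else 0) := by
    apply Finset.sum_congr rfl
    intro g hg
    simp only [Finset.mem_filter, Finset.mem_univ, true_and] at hg
    have h2g : 2 ∣ orderOf g := (Nat.not_odd_iff_even.mp hg).two_dvd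
    by_cases ho : orderOf g = 2
    · rw [if_pos ho]
      have : g * g = 1 := by rw [← pow_two, ← ho, pow_orderOf_eq_one]
      rw [this]
    · rw [if_neg ho]
      have hg0 : orderOf g ≠ 0 := (orderOf_pos g).ne'
      have hs : orderOf (g ^ (orderOf g / 2)) = 2 := orderOf_pow_orderOf_div hg0 h2g
      have hcomm : Commute (g ^ (orderOf g / 2)) (g * g) :=
        ((Commute.refl g).pow_left _).mul_right ((Commute.refl g).pow_left _)
      have hne1 : g * g ≠ 1 := by
        intro h1
        have : orderOf g ∣ 2 := orderOf_dvd_of_pow_eq_one (by rw [pow_two]; exact h1)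
        have hle : orderOf g ≤ 2 := Nat.le_of_dvd (by norm_num) this
        obtain ⟨k, hk⟩ := h2g
        omega
      exact vanish_cent χ h2 hp _ hs _ hcomm hne1
  have hfilt : (Finset.univ.filter (fun g : G => ¬ Odd (orderOf g))).filter
      (fun g => orderOf g = 2) = Finset.univ.filter (fun g : G => orderOf g = 2) := by
    ext g
    simp only [Finset.mem_filter, Finset.mem_univ, true_and]
    constructor
    · exact fun h => h.2
    · intro h
      refine ⟨?_, h⟩
      rw [h]
      decide
  have h0 := sum_char_eq_zero χ hne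
  rw [hsplit (fun g => (χ : G → ℂ) g), heven1, add_zero] at h0
  rw [hsplit (fun g => (χ : G → ℂ) (g * g)), hodd, h0, zero_add, heven2, Finset.sum_ite,
    Finset.sum_const_zero, add_zero, Finset.sum_const, hfilt, nsmul_eq_mul]

end

/-- Let G be a finite group of even order and χ an irreducible character of G whose degree x is divisible by the full power of 2 dividing the order of G and, for every odd prime p such that G has an element of order 2p, by the full power of p dividing the order of G. Then all involutions of G are conjugate, the centralizer of every involution has order exactly x with x coprime to its index, and the Frobenius–Schur indicator of χ equals 1. -/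
theorem result {G : Type*} [Group G] [Fintype G] (heven : Even (Nat.card G)) (χ : Cfsg.IrrCharacter G) (h2 : 2 ^ (Nat.card G).factorization 2 ∣ Cfsg.charDegree (χ : G → ℂ)) (hp : ∀ p : ℕ, p.Prime → p ≠ 2 → (∃ g : G, orderOf g = 2 * p) → p ^ (Nat.card G).factorization p ∣ Cfsg.charDegree (χ : G → ℂ)) : (∀ s t : G, orderOf s = 2 → orderOf t = 2 → IsConj s t) ∧ (∀ s : G, orderOf s = 2 → Nat.card (Subgroup.centralizer ({s} : Set G)) = Cfsg.charDegree (χ : G → ℂ) ∧ (Nat.card (Subgroup.centralizer ({s} : Set G))).Coprime (Subgroup.centralizer ({s} : Set G)).index) ∧ (Nat.card G : ℂ)⁻¹ * ∑ g : G, (χ : G → ℂ) (g * g) = 1 := by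
  classical
  set d : ℕ := Cfsg.charDegree (χ : G → ℂ) with hd_def
  have hχc : IsCharacter G (χ : G → ℂ) := irr_isCharacter χ.2
  have hd : ((d : ℕ) : ℂ) = (χ : G → ℂ) 1 := char_charDegree_cast hχc
  have hdpos : 0 < d := irr_charDegree_pos χ.2
  have h2G : 2 ∣ Nat.card G := heven.two_dvd
  have hGpos : 0 < Nat.card G := Nat.card_pos
  have hne : (χ : G → ℂ) ≠ fun _ => 1 := by
    intro h
    have h1 : ((d : ℕ) : ℂ) = 1 := by rw [hd, h]
    have hd1 : d = 1 := by exact_mod_cast h1
    have hν : 0 < (Nat.card G).factorization 2 :=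
      Nat.Prime.factorization_pos_of_dvd Nat.prime_two hGpos.ne' h2G
    have h2d : 2 ∣ d := dvd_trans (dvd_pow_self 2 hν.ne') h2
    omega
  set Inv : Finset G := Finset.univ.filter (fun g : G => orderOf g = 2) with hInv
  set t : ℕ := Inv.card with ht_def
  have hsum := fs_sum χ h2 hp hne
  have ht : 0 < t := by
    haveI : Fact (Nat.Prime 2) := ⟨Nat.prime_two⟩
    obtain ⟨x, hx⟩ := exists_prime_orderOf_dvd_card' (G := G) 2 h2G
    exact Finset.card_pos.mpr ⟨x, by simp [hInv, hx]⟩
  -- the indicator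
  have hX : (Nat.card G : ℂ)⁻¹ * ∑ g : G, (χ : G → ℂ) (g * g) =
      (((t * d : ℕ) : ℝ) / (Nat.card G : ℝ) : ℝ) := by
    rw [hsum, ← hd]
    push_cast
    ring
  have hpos : (0 : ℝ) < ((t * d : ℕ) : ℝ) / (Nat.card G : ℝ) := by
    have h1 : (0 : ℝ) < ((t * d : ℕ) : ℝ) := by exact_mod_cast Nat.mul_pos ht hdpos
    have h2' : (0 : ℝ) < (Nat.card G : ℝ) := by exact_mod_cast hGpos
    exact div_pos h1 h2'
  have hind : (Nat.card G : ℂ)⁻¹ * ∑ g : G, (χ : G → ℂ) (g * g) = 1 := by
    have hc := fsInd_cases χ.2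
    unfold fsInd at hc
    rw [hX] at hc ⊢
    rcases hc with hc | hc | hc
    · have : ((t * d : ℕ) : ℝ) / (Nat.card G : ℝ) = 0 := by exact_mod_cast hc
      linarith
    · exact hc
    · have : ((t * d : ℕ) : ℝ) / (Nat.card G : ℝ) = -1 := by exact_mod_cast hc
      linarith
  have htd : t * d = Nat.card G := by
    rw [hX] at hind
    have h1 : ((t * d : ℕ) : ℝ) / (Nat.card G : ℝ) = 1 := by exact_mod_cast hind
    have h2' : (Nat.card G : ℝ) ≠ 0 := by exact_mod_cast hGpos.ne'
    have h3 : ((t * d : ℕ) : ℝ) = (Nat.card G : ℝ) := by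
      field_simp at h1
      exact h1
    exact_mod_cast h3
  -- key facts about each involution
  have key : ∀ s : G, orderOf s = 2 →
      Nat.card (Subgroup.centralizer ({s} : Set G)) = d ∧
      Finset.univ.filter (fun g : G => g ∈ (ConjClasses.mk s).carrier) = Inv := by
    intro s hs
    have hCd : Nat.card (Subgroup.centralizer ({s} : Set G)) ∣ d := by
      apply card_dvd_degree_of_vanishing hχc
      intro y hy hy1
      have hsy : Commute s y := (Subgroup.mem_centralizer_iff.mp hy) s (Set.mem_singleton s)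
      exact vanish_cent χ h2 hp s hs y hsy hy1
    have hKC := card_class_mul_card_centralizer s
    have hKcard : Nat.card (ConjClasses.mk s).carrier =
        (Finset.univ.filter (fun g : G => g ∈ (ConjClasses.mk s).carrier)).card := by
      rw [Nat.card_eq_fintype_card, Fintype.card_subtype]
    have hsub : Finset.univ.filter (fun g : G => g ∈ (ConjClasses.mk s).carrier) ⊆ Inv := by
      intro g hg
      simp only [Finset.mem_filter, Finset.mem_univ, true_and, hInv] at hg ⊢
      rw [ConjClasses.mem_carrier_iff_mk_eq, ConjClasses.mk_eq_mk_iff_isConj] at hg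
      obtain ⟨c, hc⟩ := isConj_iff.mp hg
      have : orderOf (c * g * c⁻¹) = orderOf g := by
        have := MulEquiv.orderOf_eq (MulAut.conj c) g
        rwa [MulAut.conj_apply] at this
      rw [← this, hc, hs]
    have hKle : Nat.card (ConjClasses.mk s).carrier ≤ t := by
      rw [hKcard]
      exact Finset.card_le_card hsub
    have hCle : Nat.card (Subgroup.centralizer ({s} : Set G)) ≤ d := Nat.le_of_dvd hdpos hCd
    have hCpos : 0 < Nat.card (Subgroup.centralizer ({s} : Set G)) := Nat.card_pos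
    have hCeq : Nat.card (Subgroup.centralizer ({s} : Set G)) = d := by
      by_contra hne'
      have hlt : Nat.card (Subgroup.centralizer ({s} : Set G)) < d := lt_of_le_of_ne hCle hne'
      have h1 : Nat.card (ConjClasses.mk s).carrier *
          Nat.card (Subgroup.centralizer ({s} : Set G)) ≤
          t * Nat.card (Subgroup.centralizer ({s} : Set G)) := Nat.mul_le_mul_right _ hKle
      have h2' : t * Nat.card (Subgroup.centralizer ({s} : Set G)) < t * d :=
        Nat.mul_lt_mul_of_pos_left hlt ht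
      omega
    refine ⟨hCeq, ?_⟩
    apply Finset.eq_of_subset_of_card_le hsub
    rw [← hKcard]
    rw [hCeq] at hKC
    have : Nat.card (ConjClasses.mk s).carrier = t :=
      Nat.eq_of_mul_eq_mul_right hdpos (hKC.trans htd.symm)
    omega
  refine ⟨?_, ?_, hind⟩
  · intro s u hs hu
    have h1 := (key s hs).2
    have hu' : u ∈ Inv := by simp [hInv, hu]
    rw [← h1] at hu'
    simp only [Finset.mem_filter, Finset.mem_univ, true_and] at hu'
    rw [ConjClasses.mem_carrier_iff_mk_eq, ConjClasses.mk_eq_mk_iff_isConj] at hu'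
    exact hu'.symm
  · intro s hs
    have hCeq := (key s hs).1
    refine ⟨hCeq, ?_⟩
    have hidx : Nat.card (Subgroup.centralizer ({s} : Set G)) *
        (Subgroup.centralizer ({s} : Set G)).index = Nat.card G := Subgroup.card_mul_index _
    rw [hCeq] at hidx ⊢
    have hidx_t : (Subgroup.centralizer ({s} : Set G)).index = t := by
      have : d * (Subgroup.centralizer ({s} : Set G)).index = d * t := by
        rw [hidx, ← htd, mul_comm]
      exact Nat.eq_of_mul_eq_mul_left hdpos this
    rw [hidx_t]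
    by_contra hnc
    obtain ⟨q, hq, hqdvd⟩ := Nat.exists_prime_and_dvd hnc
    have hqd : q ∣ d := dvd_trans hqdvd (Nat.gcd_dvd_left d t)
    have hqt : q ∣ t := dvd_trans hqdvd (Nat.gcd_dvd_right d t)
    haveI : Fact q.Prime := ⟨hq⟩
    have hqC : q ∣ Nat.card (Subgroup.centralizer ({s} : Set G)) := by rw [hCeq]; exact hqd
    obtain ⟨c, hc⟩ := exists_prime_orderOf_dvd_card' (G := Subgroup.centralizer ({s} : Set G)) q hqC
    have hc' : orderOf (c : G) = q := by rw [Subgroup.orderOf_coe]; exact hc
    have hsc : Commute s (c : G) := (Subgroup.mem_centralizer_iff.mp c.2) s (Set.mem_singleton s)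
    have hbad := bad_of_order s (c : G) hs hsc hq (by rw [hc'])
    have hdv := dvd_bad χ h2 hp hq hbad
    have h1 : (Nat.card G).factorization q ≤ d.factorization q :=
      (Nat.Prime.pow_dvd_iff_le_factorization hq hdpos.ne').mp hdv
    have h2' : (Nat.card G).factorization q = t.factorization q + d.factorization q := by
      rw [← htd, Nat.factorization_mul ht.ne' hdpos.ne']
      rfl
    have h3 : 0 < t.factorization q := Nat.Prime.factorization_pos_of_dvd hq ht.ne' hqt
    omega

end Cfsg.Agent.S4478
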