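import Cfsg.Statements.S4512
import Cfsg.Agent.S0948
import Cfsg.Agent.S0942
import Cfsg.Agent.S4667
import Cfsg.Agent.Lib_helper1_Core
import Cfsg.Agent.Lib_helper24_BlockOrth3
import Cfsg.Agent.Lib_helper24_CharOrth

set_option autoImplicit false
open Cfsg

namespace Cfsg.Agent.S4512

open Cfsg.Agent.helper24 Cfsg.Agent.helper12
open scoped ComplexConjugate

universe u

set_option linter.style.haveILetI false
set_option linter.unusedVariables false
set_option linter.unusedSectionVars false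

section
variable {G : Type u} [Group G] [Finite G]

/-- characters of the principal 2-block are constant on the 2-singular elements when the Sylow
2-subgroups are four-groups -/
theorem singular_value (M : Ideal AlgInt) (hM : IsPModular 2 M) (P : Sylow 2 G)
    (hK : IsKleinFour (P : Subgroup G)) (x : G) (hx : 2 ∣ orderOf x) :
    ∃ z' : G, orderOf z' = 2 ∧ ∀ χ ∈ principalBlock M G, (χ : G → ℂ) x = (χ : G → ℂ) z' := by
  classical
  haveI : Fact (Nat.Prime 2) := ⟨Nat.prime_two⟩
  obtain ⟨z', y, hxy, hcomm, ⟨k, hk⟩, hy⟩ := exists_isPPart 2 x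
  have hz'1 : z' ≠ 1 := by
    rintro rfl
    rw [one_mul] at hxy
    rw [← hxy] at hx
    exact hy hx
  have hpg : IsPGroup 2 (Subgroup.zpowers z') := by
    apply IsPGroup.of_card (n := k)
    rw [Nat.card_zpowers, hk]
  obtain ⟨P', hP'⟩ := hpg.exists_le_sylow
  have hz'P' : z' ∈ (P' : Subgroup G) := hP' (Subgroup.mem_zpowers z')
  let e : (P' : Subgroup G) ≃* (P : Subgroup G) := Sylow.equiv P' P
  have hK' : IsKleinFour (P' : Subgroup G) :=
    ⟨by rw [Nat.card_congr e.toEquiv]; exact hK.card_four,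
      by rw [Monoid.exponent_eq_of_mulEquiv e]; exact hK.exponent_two⟩
  have hz'2 : orderOf z' = 2 := Cfsg.Agent.S0948.klein_elems _ hK' z' hz'P' hz'1
  obtain ⟨-, k₀, hk₀⟩ := Cfsg.Agent.S0948.centralizer_core P' hK' z' hz'P' hz'2
  refine ⟨z', hz'2, fun χ hχ => ?_⟩
  have hyH : y ∈ Subgroup.centralizer ({z'} : Set G) := by
    rw [Subgroup.mem_centralizer_iff]
    intro h hh
    rw [Set.mem_singleton_iff.mp hh]
    exact hcomm
  haveI hKn : (pPrimeCore 2 (Subgroup.centralizer ({z'} : Set G))).Normal :=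
    Cfsg.Agent.helper1.pPrimeCore_normal 2
  have hmem : (⟨y, hyH⟩ : Subgroup.centralizer ({z'} : Set G)) ∈
      pPrimeCore 2 (Subgroup.centralizer ({z'} : Set G)) := by
    have h1 := Subgroup.pow_index_mem (pPrimeCore 2 (Subgroup.centralizer ({z'} : Set G)))
      (⟨y, hyH⟩ : Subgroup.centralizer ({z'} : Set G))
    rw [hk₀] at h1
    have hord : orderOf (⟨y, hyH⟩ : Subgroup.centralizer ({z'} : Set G)) = orderOf y := by
      rw [← Subgroup.orderOf_coe]
    have hcop : (2 ^ k₀).Coprime (orderOf (⟨y, hyH⟩ : Subgroup.centralizer ({z'} : Set G))) := by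
      rw [hord]
      apply Nat.Coprime.pow_left
      exact (Nat.Prime.coprime_iff_not_dvd Nat.prime_two).mpr hy
    obtain ⟨m, hm⟩ := exists_pow_eq_self_of_coprime hcop
    rw [← hm]
    exact Subgroup.pow_mem _ h1 m
  have hyv : y ∈ centralizerPPrimeCore 2 z' := ⟨⟨y, hyH⟩, hmem, rfl⟩
  have := Cfsg.Agent.S0942.result 2 M hM z' ⟨1, by rw [hz'2, pow_one]⟩ y hyv χ hχ
  rw [← hxy]
  exact this

end

/-- If G is a finite group with a Sylow 2-subgroup that is a Klein four-group and a single conjugacy class of involutions, then its principal 2-block (relative to a maximal ideal M of the algebraic integers containing 2) has 2-regular rank 3: the restrictions of its irreducible characters to the elements of odd order span a space of dimension 3 (it has three irreducible Brauer characters). -/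
theorem result {G : Type*} [Group G] [Finite G] (M : Ideal Cfsg.AlgInt) (hM : Cfsg.IsPModular 2 M) (P : Sylow 2 G)
    (hP : Nat.card P = 4) (hexp : ∀ x : P, x * x = 1)
    (hone : ∀ s t : G, orderOf s = 2 → orderOf t = 2 → IsConj s t) :
    Cfsg.blockRank 2 (Cfsg.principalBlock M G) = 3 := by
  classical
  haveI := Fintype.ofFinite G
  haveI hMp : M.IsPrime := hM.2.1.isPrime
  haveI : Fact (Nat.Prime 2) := ⟨Nat.prime_two⟩
  haveI : Fintype (IrrCharacter G) := Fintype.ofFinite _
  have hK : IsKleinFour (P : Subgroup G) := by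
    refine ⟨hP, ?_⟩
    have hdvd : Monoid.exponent (P : Subgroup G) ∣ 2 :=
      Monoid.exponent_dvd_of_forall_pow_eq_one (fun x => by rw [pow_two]; exact hexp x)
    rcases (Nat.dvd_prime Nat.prime_two).mp hdvd with h | h
    · exfalso
      rw [Monoid.exp_eq_one_iff] at h
      have : Nat.card (P : Subgroup G) = 1 := Nat.card_of_subsingleton 1
      rw [hP] at this
      norm_num at this
    · exact h
  obtain ⟨ζ₂, ζ₃, ζ₄, ε, hε, hζ₂1, hζ₃1, h23, h24, h34, hB₀, hvals, -, -, -, hrel⟩ :=
    Cfsg.Agent.S0948.result M hM P hK hone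
  set one : IrrCharacter G := ⟨fun _ => 1, isIrrCharacter_one⟩ with hone'
  have h12 : one ≠ ζ₂ := fun h => hζ₂1 (by rw [← h])
  have h13 : one ≠ ζ₃ := fun h => hζ₃1 (by rw [← h])
  -- an involution
  obtain ⟨z, hz2⟩ : ∃ z : G, orderOf z = 2 := by
    have hnt : Nontrivial (P : Subgroup G) := by
      rw [← Finite.one_lt_card_iff_nontrivial, hP]
      norm_num
    obtain ⟨x, hx⟩ := exists_ne (1 : (P : Subgroup G))
    exact ⟨x, Cfsg.Agent.S0948.klein_elems _ hK x x.2 (fun h => hx (Subtype.ext h))⟩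
  have h14 : one ≠ ζ₄ := by
    intro h
    have := (hvals z hz2).2.2
    rw [← h] at this
    have h1 : (one : G → ℂ) z = 1 := rfl
    rw [h1] at this
    norm_num at this
  have hS : Finset.univ.filter (fun χ : IrrCharacter G => χ ∈ principalBlock M G) =
      {one, ζ₂, ζ₃, ζ₄} := by
    ext χ
    rw [Finset.mem_filter, hB₀]
    simp only [Finset.mem_univ, true_and, Set.mem_setOf_eq, Finset.mem_insert,
      Finset.mem_singleton]
    constructor
    · rintro (h | h)
      · left
        exact Subtype.ext h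
      · right
        exact h
    · rintro (h | h)
      · left
        rw [h]
      · right
        exact h
  have hsum4 : ∀ f : IrrCharacter G → ℂ,
      ∑ χ ∈ Finset.univ.filter (fun χ : IrrCharacter G => χ ∈ principalBlock M G), f χ =
        f one + (f ζ₂ + (f ζ₃ + f ζ₄)) := by
    intro f
    rw [hS, Finset.sum_insert (by simp [h12, h13, h14]), Finset.sum_insert (by simp [h23, h24]),
      Finset.sum_pair h34]
  have hmemB : ∀ χ : IrrCharacter G, χ ∈ ({one, ζ₂, ζ₃, ζ₄} : Finset (IrrCharacter G)) →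
      χ ∈ principalBlock M G := by
    intro χ hχ
    rw [← hS, Finset.mem_filter] at hχ
    exact hχ.2
  have h1B : one ∈ principalBlock M G := hmemB one (by simp)
  have h2B : ζ₂ ∈ principalBlock M G := hmemB ζ₂ (by simp)
  have h3B : ζ₃ ∈ principalBlock M G := hmemB ζ₃ (by simp)
  have h4B : ζ₄ ∈ principalBlock M G := hmemB ζ₄ (by simp)
  have hε2 : (ε : ℂ) * (ε : ℂ) = 1 := by
    rcases hε with h | h <;> rw [h] <;> norm_num
  -- values at singular elements
  have hsing : ∀ x : G, 2 ∣ orderOf x → (ζ₂ : G → ℂ) x = 1 ∧ (ζ₃ : G → ℂ) x = (ε : ℂ) ∧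
      (ζ₄ : G → ℂ) x = -1 := by
    intro x hx
    obtain ⟨z', hz', hχ⟩ := singular_value M hM P hK x hx
    obtain ⟨e1, e2, e3⟩ := hvals z' hz'
    exact ⟨by rw [hχ ζ₂ h2B, e1], by rw [hχ ζ₃ h3B, e2], by rw [hχ ζ₄ h4B, e3]⟩
  have hGc : (Nat.card G : ℂ) ≠ 0 := by exact_mod_cast Nat.card_pos.ne'
  -- sums of irreducible characters
  have hsum0 : ∀ ζ : IrrCharacter G, one ≠ ζ → ∑ x : G, (ζ : G → ℂ) x = 0 := by
    intro ζ hne
    have h0 := irr_classInner_ne ζ.2 one.2 (fun h => hne (Subtype.ext h).symm)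
    unfold classInner at h0
    rcases mul_eq_zero.mp h0 with h | h
    · exact absurd (inv_eq_zero.mp h) hGc
    · rw [← h]
      apply Finset.sum_congr rfl
      intro x _
      show _ = (ζ : G → ℂ) x * conj (1 : ℂ)
      rw [map_one, mul_one]
  have hnorm : ∀ χ : IrrCharacter G, ∑ x : G, (χ : G → ℂ) x * (χ : G → ℂ) x⁻¹ =
      (Nat.card G : ℂ) := by
    intro χ
    have h1 := irr_classInner_self χ.2
    unfold classInner at h1
    have h2 : ∑ x : G, (χ : G → ℂ) x * (χ : G → ℂ) x⁻¹ =
        ∑ x : G, (χ : G → ℂ) x * conj ((χ : G → ℂ) x) := by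
      apply Finset.sum_congr rfl
      intro x _
      rw [char_inv (irr_isCharacter χ.2)]
    rw [h2]
    field_simp at h1
    exact h1
  -- the relation as a class function
  have hT : ∑ x : G, (if 2 ∣ orderOf x then (4 : ℂ) else 0) = (Nat.card G : ℂ) := by
    have h1 : ∀ x : G, (if 2 ∣ orderOf x then (4 : ℂ) else 0) =
        1 + (ζ₂ : G → ℂ) x + (ε : ℂ) * (ζ₃ : G → ℂ) x - (ζ₄ : G → ℂ) x := by
      intro x
      by_cases hx : 2 ∣ orderOf x
      · rw [if_pos hx]
        obtain ⟨e1, e2, e3⟩ := hsing x hx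
        rw [e1, e2, e3, hε2]
        norm_num
      · rw [if_neg hx]
        exact (hrel x (Nat.not_even_iff_odd.mp (fun h => hx (even_iff_two_dvd.mp h)))).symm
    rw [Finset.sum_congr rfl (fun x _ => h1 x)]
    rw [Finset.sum_sub_distrib, Finset.sum_add_distrib, Finset.sum_add_distrib, ← Finset.mul_sum,
      hsum0 ζ₂ h12, hsum0 ζ₃ h13, hsum0 ζ₄ h14]
    rw [mul_zero, add_zero, add_zero, sub_zero, Finset.sum_const, Finset.card_univ, nsmul_eq_mul,
      mul_one, Fintype.card_eq_nat_card]
  -- the rank formula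
  have hrank := Cfsg.Agent.S4667.result 2 M hM (principalBlock M G) ⟨one, rfl⟩
  have hpt : ∀ x : G, ∑ᶠ χ ∈ principalBlock M G,
      pRegularPart 2 (χ : G → ℂ) x * (χ : G → ℂ) x⁻¹ =
      (∑ χ ∈ Finset.univ.filter (fun χ : IrrCharacter G => χ ∈ principalBlock M G),
        (χ : G → ℂ) x * (χ : G → ℂ) x⁻¹) - (if 2 ∣ orderOf x then (4 : ℂ) else 0) := by
    intro x
    rw [Cfsg.Agent.S0948.finsum_mem_filter]
    by_cases hx : 2 ∣ orderOf x
    · rw [if_pos hx]
      have hx' : 2 ∣ orderOf x⁻¹ := by rw [orderOf_inv]; exact hx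
      have h0 : ∀ χ ∈ Finset.univ.filter (fun χ : IrrCharacter G => χ ∈ principalBlock M G),
          pRegularPart 2 (χ : G → ℂ) x * (χ : G → ℂ) x⁻¹ = 0 := by
        intro χ _
        have : pRegularPart 2 (χ : G → ℂ) x = 0 := by
          unfold pRegularPart IsPRegular
          rw [if_neg (not_not.mpr hx)]
        rw [this, zero_mul]
      rw [Finset.sum_eq_zero h0, hsum4]
      obtain ⟨e1, e2, e3⟩ := hsing x hx
      obtain ⟨e1', e2', e3'⟩ := hsing x⁻¹ hx'
      rw [e1, e2, e3, e1', e2', e3', hε2]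
      norm_num
    · rw [if_neg hx, sub_zero]
      apply Finset.sum_congr rfl
      intro χ _
      have : pRegularPart 2 (χ : G → ℂ) x = (χ : G → ℂ) x := by
        unfold pRegularPart IsPRegular
        rw [if_pos hx]
      rw [this]
  rw [Finset.sum_congr rfl (fun x _ => hpt x), Finset.sum_sub_distrib, hT, Finset.sum_comm] at hrank
  have hfour : ∑ χ ∈ Finset.univ.filter (fun χ : IrrCharacter G => χ ∈ principalBlock M G),
      ∑ x : G, (χ : G → ℂ) x * (χ : G → ℂ) x⁻¹ = 4 * (Nat.card G : ℂ) := by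
    rw [Finset.sum_congr rfl (fun χ _ => hnorm χ), hsum4]
    ring
  rw [hfour] at hrank
  have h3 : ((blockRank 2 (principalBlock M G) : ℕ) : ℂ) = ((3 : ℕ) : ℂ) := by
    apply mul_left_cancel₀ hGc
    rw [hrank]
    push_cast
    ring
  exact_mod_cast h3

end Cfsg.Agent.S4512
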