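import Cfsg.Statements.S4479
import Cfsg.Agent.Lib_helper8_KleinCount
import Cfsg.Agent.S4512
import Cfsg.Agent.Lib_helper24_ThirdMain
import Cfsg.Agent.Lib_helper24_BlockIdem
import Cfsg.Agent.Lib_helper24_CharBasic

set_option autoImplicit false
open Cfsg

namespace Cfsg.Agent.S4479

open Cfsg.Agent.helper24
open Cfsg.Agent.helper8.KleinCount

universe u

set_option linter.style.haveILetI false
set_option linter.unusedVariables false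
set_option linter.unusedSectionVars false

theorem isKleinFour_of_card_four' {Q : Type*} [Group Q] (h4 : Nat.card Q = 4)
    (hnc : ¬ IsCyclic Q) : IsKleinFour Q := by
  haveI : Finite Q := Nat.finite_of_card_ne_zero (by rw [h4]; norm_num)
  have hsq : ∀ q : Q, q ^ 2 = 1 := by
    intro q
    have hd : orderOf q ∣ 2 ^ 2 := by
      rw [show (2 : ℕ) ^ 2 = 4 by norm_num, ← h4]; exact orderOf_dvd_natCard q
    obtain ⟨k, hk, hqk⟩ := (Nat.dvd_prime_pow Nat.prime_two).1 hd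
    interval_cases k
    · rw [pow_zero, orderOf_eq_one_iff] at hqk; rw [hqk, one_pow]
    · rw [pow_one] at hqk; rw [← hqk]; exact pow_orderOf_eq_one q
    · exfalso; exact hnc (isCyclic_of_orderOf_eq_card q (by rw [hqk, h4]; norm_num))
  refine ⟨h4, ?_⟩
  have h1 : Monoid.exponent Q ∣ 2 := Monoid.exponent_dvd_of_forall_pow_eq_one hsq
  rcases (Nat.dvd_prime Nat.prime_two).1 h1 with h | h
  · exfalso
    rw [Monoid.exp_eq_one_iff] at h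
    have h5 : Nat.card Q ≤ 1 := Finite.card_le_one_iff_subsingleton.2 h
    omega
  · exact h

theorem setup {G : Type u} [Group G] [Finite G] (g₀ : ℕ) (hg₀ : Odd g₀)
    (hG : Nat.card G = 4 * g₀)
    (hnc : ¬ ∃ N : Subgroup G, N.Normal ∧ Nat.card N = g₀) (P : Sylow 2 G) :
    IsKleinFour (P : Subgroup G) ∧
      ∀ s t : G, orderOf s = 2 → orderOf t = 2 → IsConj s t := by
  haveI : Fact (Nat.Prime 2) := ⟨Nat.prime_two⟩
  have hg₀pos : 0 < g₀ := hg₀.pos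
  have hPcard : Nat.card (P : Subgroup G) = 4 := by
    rw [Sylow.card_eq_multiplicity, hG]
    have h4 : (4 : ℕ).factorization 2 = 2 := by
      rw [show (4 : ℕ) = 2 ^ 2 by norm_num, Nat.Prime.factorization_pow Nat.prime_two]
      simp
    have h0 : g₀.factorization 2 = 0 := by
      apply Nat.factorization_eq_zero_of_not_dvd
      rw [← even_iff_two_dvd, Nat.not_even_iff_odd]
      exact hg₀
    have : (4 * g₀).factorization 2 = 2 := by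
      rw [Nat.factorization_mul (by norm_num) hg₀pos.ne']
      simp [h4, h0]
    rw [this]
    norm_num
  have hcompl : ∀ N : Subgroup G, N.Normal →
      Subgroup.IsComplement' N (P : Subgroup G) → False := by
    intro N hN hc
    apply hnc
    refine ⟨N, hN, ?_⟩
    have := hc.card_mul
    rw [hPcard, hG] at this
    omega
  have hncyc : ¬ IsCyclic (P : Subgroup G) := by
    intro hcyc
    have hp : (Nat.card G).minFac = 2 := by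
      rw [Nat.minFac_eq_two_iff, hG]
      exact ⟨2 * g₀, by ring⟩
    exact hcompl _ (MonoidHom.normal_ker _) (IsCyclic.isComplement' hp hcyc)
  have hP : IsKleinFour (P : Subgroup G) := isKleinFour_of_card_four' hPcard hncyc
  refine ⟨hP, ?_⟩
  obtain ⟨e⟩ : Nonempty ((P : Subgroup G) ≃* Multiplicative (ZMod (2 ^ 1) × ZMod (2 ^ 1))) := by
    haveI := hP
    haveI : IsAddKleinFour (ZMod (2 ^ 1) × ZMod (2 ^ 1)) := by
      show IsAddKleinFour (ZMod 2 × ZMod 2)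
      infer_instance
    exact IsKleinFour.nonempty_mulEquiv
  rcases Cfsg.Agent.S0946.result P 1 le_rfl e with ⟨N, hN, hc⟩ | h
  · exact (hcompl N hN hc).elim
  · exact h

theorem sum_block_four {G : Type u} [Group G] [Fintype (IrrCharacter G)]
    (B : Set (IrrCharacter G)) [DecidablePred (· ∈ B)]
    (χ₀ χ₁ χ₂ χ₃ : IrrCharacter G) (h0 : (χ₀ : G → ℂ) = fun _ => 1)
    (hB : B = {χ : IrrCharacter G | (χ : G → ℂ) = (fun _ => 1) ∨ χ = χ₁ ∨ χ = χ₂ ∨ χ = χ₃})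
    (hdist : (χ₁ : G → ℂ) ≠ (fun _ => 1) ∧ (χ₂ : G → ℂ) ≠ (fun _ => 1) ∧
      (χ₃ : G → ℂ) ≠ (fun _ => 1) ∧ χ₁ ≠ χ₂ ∧ χ₁ ≠ χ₃ ∧ χ₂ ≠ χ₃)
    (f : IrrCharacter G → ℂ) :
    ∑ χ ∈ Finset.univ.filter (fun χ : IrrCharacter G => χ ∈ B), f χ =
      f χ₀ + f χ₁ + f χ₂ + f χ₃ := by
  classical
  obtain ⟨h1, h2, h3, h12, h13, h23⟩ := hdist
  have hset : Finset.univ.filter (fun χ : IrrCharacter G => χ ∈ B) =
      insert χ₀ (insert χ₁ (insert χ₂ {χ₃})) := by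
    ext χ
    rw [Finset.mem_filter, hB]
    simp only [Finset.mem_univ, true_and, Set.mem_setOf_eq, Finset.mem_insert,
      Finset.mem_singleton]
    constructor
    · rintro (h | h | h | h)
      · left
        exact Subtype.ext (h.trans h0.symm)
      · right; left; exact h
      · right; right; left; exact h
      · right; right; right; exact h
    · rintro (h | h | h | h)
      · left
        rw [h, h0]
      · right; left; exact h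
      · right; right; left; exact h
      · right; right; right; exact h
  have n01 : χ₀ ≠ χ₁ := fun h => h1 (by rw [← h, h0])
  have n02 : χ₀ ≠ χ₂ := fun h => h2 (by rw [← h, h0])
  have n03 : χ₀ ≠ χ₃ := fun h => h3 (by rw [← h, h0])
  rw [hset, Finset.sum_insert, Finset.sum_insert, Finset.sum_insert, Finset.sum_singleton]
  · ring
  · simp [h23]
  · simp [h12, h13]
  · simp [n01, n02, n03]

theorem class_sum {G : Type u} [Group G] [Fintype G]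
    (hone : ∀ s t : G, orderOf s = 2 → orderOf t = 2 → IsConj s t)
    {J : G} (hJ2 : orderOf J = 2) (χ : G → ℂ) (hχ : IsIrrCharacter G χ) :
    (∑ u ∈ Finset.univ.filter (fun u : G => orderOf u = 2), χ (J * u)) * χ 1 =
      ((Finset.univ.filter (fun u : G => orderOf u = 2)).card : ℂ) * χ J ^ 2 := by
  classical
  obtain ⟨v, hv⟩ : ∃ v : G → ℂ, v = fun y => if orderOf y = 2 then 1 else 0 := ⟨_, rfl⟩
  have hvc : IsClassFunction G v := by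
    intro g h
    rw [hv]
    show (if orderOf (h * g * h⁻¹) = 2 then (1 : ℂ) else 0) = if orderOf g = 2 then 1 else 0
    rw [orderOf_conj_eq]
  have h1 := sum_mul_char_shift hχ hvc J
  have hsum : ∀ f : G → ℂ, ∑ y : G, v y * f y =
      ∑ u ∈ Finset.univ.filter (fun u : G => orderOf u = 2), f u := by
    intro f
    rw [Finset.sum_filter]
    apply Finset.sum_congr rfl
    intro y _
    rw [hv]
    show (if orderOf y = 2 then (1 : ℂ) else 0) * f y = if orderOf y = 2 then f y else 0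
    split_ifs <;> simp
  have h2 := hsum (fun y => χ (J * y))
  have h3 : ∑ h : G, v h * χ h =
      ((Finset.univ.filter (fun u : G => orderOf u = 2)).card : ℂ) * χ J := by
    rw [hsum χ]
    have : ∀ u ∈ Finset.univ.filter (fun u : G => orderOf u = 2), χ u = χ J := by
      intro u hu
      rw [Finset.mem_filter] at hu
      obtain ⟨c, hc⟩ := isConj_iff.1 (hone J u hJ2 hu.2)
      rw [← hc]
      exact char_isClassFunction (irr_isCharacter hχ) J c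
    rw [Finset.sum_congr rfl this, Finset.sum_const, nsmul_eq_mul]
  have hne : χ 1 ≠ 0 := irr_apply_one_ne_zero hχ
  unfold omegaFn at h1
  rw [h3] at h1
  rw [← h2, h1]
  field_simp

theorem phi_val {G : Type u} [Group G] [Fintype G] [Fintype (IrrCharacter G)]
    (M : Ideal AlgInt) (hM : IsPModular 2 M) (P : Sylow 2 G)
    (hP : IsKleinFour (P : Subgroup G))
    (hone : ∀ s t : G, orderOf s = 2 → orderOf t = 2 → IsConj s t)
    (J : G) (hJ2 : orderOf J = 2) [DecidablePred (· ∈ principalBlock M G)] (w : G) :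
    ∑ χ ∈ Finset.univ.filter (fun χ : IrrCharacter G => χ ∈ principalBlock M G),
      (χ : G → ℂ) J * (χ : G → ℂ) w = if 2 ∣ orderOf w then 4 else 0 := by
  obtain ⟨ζ₂, ζ₃, ζ₄, ε, hε, h21, h31, h23, h24, h34, hB, hinv, _, _, _, hrel⟩ :=
    Cfsg.Agent.S0948.result M hM P hP hone
  obtain ⟨hJ2v, hJ3v, hJ4v⟩ := hinv J hJ2
  have h41 : (ζ₄ : G → ℂ) ≠ fun _ => 1 := by
    intro h
    rw [h] at hJ4v
    norm_num at hJ4v
  rw [sum_block_four _ (oneIrr G) ζ₂ ζ₃ ζ₄ rfl hB ⟨h21, h31, h41, h23, h24, h34⟩]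
  show (1 : ℂ) * 1 + (ζ₂ : G → ℂ) J * (ζ₂ : G → ℂ) w + (ζ₃ : G → ℂ) J * (ζ₃ : G → ℂ) w +
    (ζ₄ : G → ℂ) J * (ζ₄ : G → ℂ) w = _
  rw [hJ2v, hJ3v, hJ4v]
  have hε2 : (ε : ℂ) * ε = 1 := by
    rcases hε with rfl | rfl <;> norm_num
  split_ifs with hw
  · obtain ⟨z', hz', hval⟩ := Cfsg.Agent.S4512.singular_value M hM P hP w hw
    have m2 : ζ₂ ∈ principalBlock M G := by
      rw [hB]; exact Or.inr (Or.inl rfl)
    have m3 : ζ₃ ∈ principalBlock M G := by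
      rw [hB]; exact Or.inr (Or.inr (Or.inl rfl))
    have m4 : ζ₄ ∈ principalBlock M G := by
      rw [hB]; exact Or.inr (Or.inr (Or.inr rfl))
    obtain ⟨a, b, c⟩ := hinv z' hz'
    rw [hval ζ₂ m2, hval ζ₃ m3, hval ζ₄ m4, a, b, c, hε2]
    norm_num
  · have := hrel w (by rw [← Nat.not_even_iff_odd, even_iff_two_dvd]; exact hw)
    linear_combination this

/-- An order formula from the principal 2-block. Let G be a finite group of order 4·g₀ with g₀ odd having no normal 2-complement (no normal subgroup of order g₀); let P be a Sylow 2-subgroup, J an involution of P, and fix a maximal ideal M of the algebraic integers containing 2. Suppose the principal 2-block consists of the principal character and three further distinct characters χ₁, χ₂, χ₃ of degrees x₁, x₂, x₃, with χ_i(J) = ε_i = ±1. Then, writing c(J) and c(P) for the orders of the centralizers of J and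 of P, the order of G equals 8·α·c(J)³/c(P)² with α = x₁x₂x₃ / ((x₁ + ε₁)(x₂ + ε₂)(x₃ + ε₃)). -/
theorem result {G : Type*} [Group G] [Finite G] (M : Ideal Cfsg.AlgInt) (hM : Cfsg.IsPModular 2 M) (g₀ : ℕ) (hg₀ : Odd g₀) (hG : Nat.card G = 4 * g₀) (hnc : ¬ ∃ N : Subgroup G, N.Normal ∧ Nat.card N = g₀) (P : Sylow 2 G) (J : G) (hJ : J ∈ (P : Subgroup G)) (hJ2 : orderOf J = 2) (χ₁ χ₂ χ₃ : Cfsg.IrrCharacter G) (ε₁ ε₂ ε₃ : ℤ) (hB : Cfsg.principalBlock M G = {χ : Cfsg.IrrCharacter G | (χ : G → ℂ) = (fun _ => 1) ∨ χ = χ₁ ∨ χ = χ₂ ∨ χ = χ₃}) (hdist : (χ₁ : G → ℂ) ≠ (fun _ => 1) ∧ (χ₂ : G → ℂ) ≠ (fun _ => 1) ∧ (χ₃ : G → ℂ) ≠ (fun _ => 1) ∧ χ₁ ≠ χ₂ ∧ χ₁ ≠ χ₃ ∧ χ₂ ≠ χ₃) (hε : (ε₁ = 1 ∨ ε₁ = -1) ∧ (ε₂ = 1 ∨ ε₂ = -1) ∧ (ε₃ = 1 ∨ ε₃ = -1)) (hval : (χ₁ : G → ℂ) J = ε₁ ∧ (χ₂ : G → ℂ) J = ε₂ ∧ (χ₃ : G → ℂ) J = ε₃) : (Nat.card G : ℚ) = 8 * (((Cfsg.charDegree (χ₁ : G → ℂ) : ℚ) * Cfsg.charDegree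 (χ₂ : G → ℂ) * Cfsg.charDegree (χ₃ : G → ℂ)) / ((Cfsg.charDegree (χ₁ : G → ℂ) + ε₁) * (Cfsg.charDegree (χ₂ : G → ℂ) + ε₂) * (Cfsg.charDegree (χ₃ : G → ℂ) + ε₃))) * (Nat.card (Subgroup.centralizer ({J} : Set G)) : ℚ) ^ 3 / (Nat.card (Subgroup.centralizer ((P : Subgroup G) : Set G)) : ℚ) ^ 2 := by
  classical
  haveI := Fintype.ofFinite G
  haveI : Fintype (IrrCharacter G) := Fintype.ofFinite _
  obtain ⟨hP, hone⟩ := setup g₀ hg₀ hG hnc P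
  obtain ⟨hd1, hd2, hd3, hd12, hd13, hd23⟩ := hdist
  obtain ⟨hv1, hv2, hv3⟩ := hval
  obtain ⟨K, hK⟩ : ∃ K : Finset G, K = Finset.univ.filter (fun u : G => orderOf u = 2) :=
    ⟨_, rfl⟩
  obtain ⟨E, hE⟩ : ∃ E : Finset G,
    E = Finset.univ.filter (fun u : G => orderOf u = 2 ∧ 2 ∣ orderOf (J * u)) := ⟨_, rfl⟩
  have hKc := K_card hone hJ2
  have hEc := E_card P hP hone hJ hJ2
  rw [← hK] at hKc
  rw [← hE] at hEc
  obtain ⟨Bf, hBf⟩ : ∃ Bf : Finset (IrrCharacter G),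
    Bf = Finset.univ.filter (fun χ : IrrCharacter G => χ ∈ principalBlock M G) := ⟨_, rfl⟩
  have hphi : ∀ w : G, ∑ χ ∈ Bf, (χ : G → ℂ) J * (χ : G → ℂ) w =
      if 2 ∣ orderOf w then 4 else 0 := by
    intro w
    rw [hBf]
    exact phi_val M hM P hP hone J hJ2 w
  have hexp : ∀ f : IrrCharacter G → ℂ,
      ∑ χ ∈ Bf, f χ = f (oneIrr G) + f χ₁ + f χ₂ + f χ₃ := by
    intro f
    rw [hBf]
    exact sum_block_four _ (oneIrr G) χ₁ χ₂ χ₃ rfl hB ⟨hd1, hd2, hd3, hd12, hd13, hd23⟩ f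
  obtain ⟨S, hS⟩ : ∃ S : IrrCharacter G → ℂ,
    S = fun χ : IrrCharacter G => ∑ u ∈ K, (χ : G → ℂ) (J * u) := ⟨_, rfl⟩
  have hS0 : S (oneIrr G) = (K.card : ℂ) := by
    rw [hS]
    show ∑ u ∈ K, (1 : ℂ) = _
    rw [Finset.sum_const, nsmul_eq_mul, mul_one]
  have hSχ : ∀ χ : IrrCharacter G,
      S χ * (χ : G → ℂ) 1 = (K.card : ℂ) * (χ : G → ℂ) J ^ 2 := by
    intro χ
    rw [hS, hK]
    exact class_sum hone hJ2 χ.1 χ.2
  have hdouble : ∑ u ∈ K, ∑ χ ∈ Bf, (χ : G → ℂ) J * (χ : G → ℂ) (J * u) =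
      4 * (E.card : ℂ) := by
    rw [Finset.sum_congr rfl (fun u _ => hphi (J * u)), ← Finset.sum_filter, Finset.sum_const,
      nsmul_eq_mul, hK, Finset.filter_filter, ← hE]
    ring
  have hdouble2 : ∑ u ∈ K, ∑ χ ∈ Bf, (χ : G → ℂ) J * (χ : G → ℂ) (J * u) =
      ∑ χ ∈ Bf, (χ : G → ℂ) J * S χ := by
    rw [Finset.sum_comm]
    apply Finset.sum_congr rfl
    intro χ _
    rw [hS, Finset.mul_sum]
  have hmain : (4 : ℂ) * (E.card : ℂ) =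
      (K.card : ℂ) + (ε₁ : ℂ) * S χ₁ + (ε₂ : ℂ) * S χ₂ + (ε₃ : ℂ) * S χ₃ := by
    rw [← hdouble, hdouble2]
    have h := hexp (fun χ => (χ : G → ℂ) J * S χ)
    beta_reduce at h
    rw [h, hS0, hv1, hv2, hv3]
    show (1 : ℂ) * _ + _ + _ + _ = _
    rw [one_mul]
  have hrel : (1 : ℂ) + (ε₁ : ℂ) * (χ₁ : G → ℂ) 1 + (ε₂ : ℂ) * (χ₂ : G → ℂ) 1 +
      (ε₃ : ℂ) * (χ₃ : G → ℂ) 1 = 0 := by
    have h := hexp (fun χ => (χ : G → ℂ) J * (χ : G → ℂ) 1)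
    beta_reduce at h
    rw [hphi 1, orderOf_one, if_neg (by norm_num), hv1, hv2, hv3] at h
    rw [h]
    show _ = (1 : ℂ) * 1 + _ + _ + _
    ring
  -- the degrees
  have hX1 : ((charDegree (χ₁ : G → ℂ) : ℕ) : ℂ) = (χ₁ : G → ℂ) 1 :=
    char_charDegree_cast (irr_isCharacter χ₁.2)
  have hX2 : ((charDegree (χ₂ : G → ℂ) : ℕ) : ℂ) = (χ₂ : G → ℂ) 1 :=
    char_charDegree_cast (irr_isCharacter χ₂.2)
  have hX3 : ((charDegree (χ₃ : G → ℂ) : ℕ) : ℂ) = (χ₃ : G → ℂ) 1 :=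
    char_charDegree_cast (irr_isCharacter χ₃.2)
  have hS1 := hSχ χ₁
  have hS2 := hSχ χ₂
  have hS3 := hSχ χ₃
  rw [hv1, ← hX1] at hS1
  rw [hv2, ← hX2] at hS2
  rw [hv3, ← hX3] at hS3
  rw [← hX1, ← hX2, ← hX3] at hrel
  have hx1 : ((charDegree (χ₁ : G → ℂ) : ℕ) : ℂ) ≠ 0 := by
    rw [hX1]; exact irr_apply_one_ne_zero χ₁.2
  have hx2 : ((charDegree (χ₂ : G → ℂ) : ℕ) : ℂ) ≠ 0 := by
    rw [hX2]; exact irr_apply_one_ne_zero χ₂.2
  have hx3 : ((charDegree (χ₃ : G → ℂ) : ℕ) : ℂ) ≠ 0 := by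
    rw [hX3]; exact irr_apply_one_ne_zero χ₃.2
  obtain ⟨x₁, hx₁⟩ : ∃ x : ℂ, x = ((charDegree (χ₁ : G → ℂ) : ℕ) : ℂ) := ⟨_, rfl⟩
  obtain ⟨x₂, hx₂⟩ : ∃ x : ℂ, x = ((charDegree (χ₂ : G → ℂ) : ℕ) : ℂ) := ⟨_, rfl⟩
  obtain ⟨x₃, hx₃⟩ : ∃ x : ℂ, x = ((charDegree (χ₃ : G → ℂ) : ℕ) : ℂ) := ⟨_, rfl⟩
  obtain ⟨s₁, hs₁⟩ : ∃ x : ℂ, x = S χ₁ := ⟨_, rfl⟩
  obtain ⟨s₂, hs₂⟩ : ∃ x : ℂ, x = S χ₂ := ⟨_, rfl⟩
  obtain ⟨s₃, hs₃⟩ : ∃ x : ℂ, x = S χ₃ := ⟨_, rfl⟩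
  obtain ⟨e₁, he₁⟩ : ∃ x : ℂ, x = (ε₁ : ℂ) := ⟨_, rfl⟩
  obtain ⟨e₂, he₂⟩ : ∃ x : ℂ, x = (ε₂ : ℂ) := ⟨_, rfl⟩
  obtain ⟨e₃, he₃⟩ : ∃ x : ℂ, x = (ε₃ : ℂ) := ⟨_, rfl⟩
  obtain ⟨k, hk⟩ : ∃ x : ℂ, x = (K.card : ℂ) := ⟨_, rfl⟩
  obtain ⟨e, he⟩ : ∃ x : ℂ, x = (E.card : ℂ) := ⟨_, rfl⟩
  obtain ⟨cJ, hcJ⟩ : ∃ x : ℂ, x = (Nat.card (Subgroup.centralizer ({J} : Set G)) : ℂ) :=
    ⟨_, rfl⟩
  obtain ⟨cP, hcP⟩ : ∃ x : ℂ,
    x = (Nat.card (Subgroup.centralizer ((P : Subgroup G) : Set G)) : ℂ) := ⟨_, rfl⟩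
  have q1 : e₁ ^ 2 = 1 := by
    rw [he₁]
    rcases hε.1 with h | h <;> rw [h] <;> norm_num
  have q2 : e₂ ^ 2 = 1 := by
    rw [he₂]
    rcases hε.2.1 with h | h <;> rw [h] <;> norm_num
  have q3 : e₃ ^ 2 = 1 := by
    rw [he₃]
    rcases hε.2.2 with h | h <;> rw [h] <;> norm_num
  rw [← hx₁, ← he₁, ← hs₁, ← hk] at hS1
  rw [← hx₂, ← he₂, ← hs₂, ← hk] at hS2
  rw [← hx₃, ← he₃, ← hs₃, ← hk] at hS3
  rw [← hx₁, ← hx₂, ← hx₃, ← he₁, ← he₂, ← he₃] at hrel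
  rw [← he₁, ← he₂, ← he₃, ← hs₁, ← hs₂, ← hs₃, ← hk, ← he] at hmain
  rw [← hx₁] at hx1
  rw [← hx₂] at hx2
  rw [← hx₃] at hx3
  have hKc' : k * cJ = (Nat.card G : ℂ) := by
    rw [hk, hcJ, ← hKc]
    push_cast
    ring
  have hEc' : e * cP ^ 2 = 2 * cJ ^ 2 := by
    rw [he, hcP, hcJ]
    exact_mod_cast hEc
  have hcJ0 : cJ ≠ 0 := by
    rw [hcJ]
    exact_mod_cast (Nat.card_pos (α := Subgroup.centralizer ({J} : Set G))).ne'
  have hcP0 : cP ≠ 0 := by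
    rw [hcP]
    exact_mod_cast (Nat.card_pos (α := Subgroup.centralizer ((P : Subgroup G) : Set G))).ne'
  have he0 : e ≠ 0 := by
    intro h
    rw [h, zero_mul] at hEc'
    have : cJ ^ 2 = 0 := by linear_combination (-(1 : ℂ) / 2) * hEc'
    exact hcJ0 ((pow_eq_zero_iff (two_ne_zero)).1 this)
  have hD : (x₁ + e₁) * (x₂ + e₂) * (x₃ + e₃) =
      x₁ * x₂ * x₃ + e₁ * x₂ * x₃ + e₂ * x₁ * x₃ + e₃ * x₁ * x₂ := by
    linear_combination (e₁ * e₂ * e₃) * hrel - (e₁ * e₂ * x₃) * q3 - (e₁ * e₃ * x₂) * q2 -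
      (e₂ * e₃ * x₁) * q1
  have hS1' : s₁ * x₁ = k := by rw [hS1, q1, mul_one]
  have hS2' : s₂ * x₂ = k := by rw [hS2, q2, mul_one]
  have hS3' : s₃ * x₃ = k := by rw [hS3, q3, mul_one]
  have key : k * ((x₁ + e₁) * (x₂ + e₂) * (x₃ + e₃)) = 4 * e * (x₁ * x₂ * x₃) := by
    rw [hD]
    linear_combination (-(x₁ * x₂ * x₃)) * hmain - (e₁ * x₂ * x₃) * hS1' -
      (e₂ * x₁ * x₃) * hS2' - (e₃ * x₁ * x₂) * hS3'
  have hD0 : (x₁ + e₁) * (x₂ + e₂) * (x₃ + e₃) ≠ 0 := by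
    intro h
    rw [h, mul_zero] at key
    have h4 : (4 : ℂ) * e * (x₁ * x₂ * x₃) ≠ 0 :=
      mul_ne_zero (mul_ne_zero (by norm_num) he0) (mul_ne_zero (mul_ne_zero hx1 hx2) hx3)
    exact h4 key.symm
  have hfinal : (Nat.card G : ℂ) * ((x₁ + e₁) * (x₂ + e₂) * (x₃ + e₃) * cP ^ 2) =
      8 * (x₁ * x₂ * x₃) * cJ ^ 3 := by
    linear_combination (-((x₁ + e₁) * (x₂ + e₂) * (x₃ + e₃) * cP ^ 2)) * hKc' +
      (cJ * cP ^ 2) * key + (4 * (x₁ * x₂ * x₃) * cJ) * hEc'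
  apply Rat.cast_injective (α := ℂ)
  push_cast
  rw [← hx₁, ← hx₂, ← hx₃, ← he₁, ← he₂, ← he₃, ← hcJ, ← hcP]
  have hcP2 : cP ^ 2 ≠ 0 := pow_ne_zero 2 hcP0
  obtain ⟨D, hDdef⟩ : ∃ D : ℂ, D = (x₁ + e₁) * (x₂ + e₂) * (x₃ + e₃) := ⟨_, rfl⟩
  rw [← hDdef] at hfinal hD0 ⊢
  field_simp
  linear_combination hfinal

end Cfsg.Agent.S4479
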