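import Cfsg.Statements.S4480
import Cfsg.Agent.S4479
import Cfsg.Agent.Lib_helper3_FSB
import Cfsg.Agent.Lib_helper22_HtZero4
import Cfsg.Agent.Lib_helper1_ConjChar

set_option autoImplicit false
open Cfsg

namespace Cfsg.Agent.S4480

open Cfsg.Agent.helper24
open Cfsg.Agent.helper8.KleinCount

set_option linter.style.haveILetI false
set_option linter.unusedVariables false
set_option linter.unusedSectionVars false

theorem not_two_dvd_orderOf_sq {G : Type*} [Group G] [Finite G] (P : Sylow 2 G)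
    (hP : IsKleinFour (P : Subgroup G)) (s : G) : ¬ 2 ∣ orderOf (s * s) := by
  intro h
  have hpos : 0 < orderOf s := orderOf_pos s
  have h1 : orderOf (s * s) = orderOf s / Nat.gcd (orderOf s) 2 := by
    rw [← pow_two]
    exact orderOf_pow s
  have h4 : 4 ∣ orderOf s := by
    rcases Nat.even_or_odd (orderOf s) with he | ho
    · obtain ⟨m, hm⟩ := he
      have hg : Nat.gcd (orderOf s) 2 = 2 := by
        rw [hm, ← two_mul]
        exact Nat.gcd_eq_right (Dvd.intro m rfl)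
      rw [hg, hm, ← two_mul, Nat.mul_div_cancel_left m (by norm_num : 0 < 2)] at h1
      rw [h1] at h
      obtain ⟨c, hc⟩ := h
      exact ⟨c, by rw [hm, hc]; ring⟩
    · exfalso
      have hg : Nat.gcd (orderOf s) 2 = 1 :=
        Nat.Coprime.symm ((Nat.Prime.coprime_iff_not_dvd Nat.prime_two).2
          (fun h' => (Nat.not_even_iff_odd.2 ho) (even_iff_two_dvd.2 h')))
      rw [hg, Nat.div_one] at h1
      rw [h1] at h
      exact (Nat.not_even_iff_odd.2 ho) (even_iff_two_dvd.2 h)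
  obtain ⟨m, hm⟩ := h4
  have hm0 : m ≠ 0 := by
    rintro rfl
    rw [mul_zero] at hm
    omega
  have ht : orderOf (s ^ m) = 4 := by
    rw [orderOf_pow_of_dvd hm0 ⟨4, by rw [hm]; ring⟩, hm]
    exact Nat.mul_div_cancel 4 (Nat.pos_of_ne_zero hm0)
  have h5 := two_elt_sq P hP (s ^ m) ⟨2, by rw [ht]; norm_num⟩
  have h6 : orderOf (s ^ m) ∣ 2 := orderOf_dvd_of_pow_eq_one (by rw [pow_two]; exact h5)
  rw [ht] at h6
  omega

theorem rat_form (g a cJ cP : ℚ) (ha : 0 < a) (hcP : cP ≠ 0)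
    (h : g = 8 * ((a * a * (2 * a + 1)) / ((a + 1) * (a + 1) * ((2 * a + 1) + (-1)))) *
      cJ ^ 3 / cP ^ 2) :
    g * ((a + 1) ^ 2 * cP ^ 2) = 4 * a * (2 * a + 1) * cJ ^ 3 := by
  have h1 : (2 * a + 1) + (-1) = 2 * a := by ring
  rw [h1] at h
  have ha0 : a ≠ 0 := ha.ne'
  have ha1 : a + 1 ≠ 0 := by positivity
  rw [h]
  field_simp
  ring

theorem arith_final (Gc cJ cP x q n k : ℕ) (hx : 0 < x) (hcP : 0 < cP) (hcJ : 0 < cJ)
    (hq : q = 2 * x + 1) (hn : cJ = n * cP) (hk : Gc = k * cJ)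
    (hform : Gc * ((x + 1) ^ 2 * cP ^ 2) = 4 * x * (2 * x + 1) * cJ ^ 3) :
    ∃ m : ℕ, 4 * cJ = m * cP * (q + 1) ∧ 8 * Gc = m ^ 3 * cP * (q ^ 3 - q) := by
  subst hq hk hn
  have hn0 : 0 < n := by
    rcases Nat.eq_zero_or_pos n with h | h
    · rw [h, zero_mul] at hcJ
      omega
    · exact h
  have h1 : k * (x + 1) ^ 2 = 4 * x * (2 * x + 1) * n ^ 2 := by
    have hpos : 0 < n * cP ^ 3 := Nat.mul_pos hn0 (pow_pos hcP 3)
    apply Nat.eq_of_mul_eq_mul_left hpos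
    calc n * cP ^ 3 * (k * (x + 1) ^ 2) = k * (n * cP) * ((x + 1) ^ 2 * cP ^ 2) := by ring
      _ = 4 * x * (2 * x + 1) * (n * cP) ^ 3 := hform
      _ = n * cP ^ 3 * (4 * x * (2 * x + 1) * n ^ 2) := by ring
  have hc1 : Nat.Coprime (x + 1) x := by simp
  have hc2 : Nat.Coprime (x + 1) (2 * x + 1) := by
    have : 2 * x + 1 = x + (x + 1) := by ring
    rw [this]
    simp
  have hc : Nat.Coprime ((x + 1) ^ 2) (x * (2 * x + 1)) :=
    Nat.Coprime.pow_left 2 (Nat.Coprime.mul_right hc1 hc2)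
  have hd : (x + 1) ^ 2 ∣ (x * (2 * x + 1)) * (2 * n) ^ 2 := by
    refine ⟨k, ?_⟩
    calc x * (2 * x + 1) * (2 * n) ^ 2 = 4 * x * (2 * x + 1) * n ^ 2 := by ring
      _ = k * (x + 1) ^ 2 := h1.symm
      _ = (x + 1) ^ 2 * k := by ring
  have hd2 : (x + 1) ^ 2 ∣ (2 * n) ^ 2 := hc.dvd_of_dvd_mul_left hd
  have hd3 : (x + 1) ∣ 2 * n := (Nat.pow_dvd_pow_iff (by norm_num : (2 : ℕ) ≠ 0)).1 hd2
  obtain ⟨m, hm⟩ := hd3
  have hk : k = x * (2 * x + 1) * m ^ 2 := by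
    have hpos : 0 < (x + 1) ^ 2 := by positivity
    apply Nat.eq_of_mul_eq_mul_left hpos
    calc (x + 1) ^ 2 * k = k * (x + 1) ^ 2 := by ring
      _ = 4 * x * (2 * x + 1) * n ^ 2 := h1
      _ = x * (2 * x + 1) * (2 * n) ^ 2 := by ring
      _ = x * (2 * x + 1) * ((x + 1) * m) ^ 2 := by rw [hm]
      _ = (x + 1) ^ 2 * (x * (2 * x + 1) * m ^ 2) := by ring
  refine ⟨m, ?_, ?_⟩
  · calc 4 * (n * cP) = 2 * (2 * n) * cP := by ring
      _ = 2 * ((x + 1) * m) * cP := by rw [hm]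
      _ = m * cP * (2 * x + 1 + 1) := by ring
  · have hq3 : (2 * x + 1) ^ 3 - (2 * x + 1) = 4 * x * (x + 1) * (2 * x + 1) := by
      have : (2 * x + 1) ^ 3 = 4 * x * (x + 1) * (2 * x + 1) + (2 * x + 1) := by ring
      omega
    rw [hq3, hk]
    calc 8 * (x * (2 * x + 1) * m ^ 2 * (n * cP))
        = 4 * (x * (2 * x + 1) * m ^ 2) * (2 * n) * cP := by ring
      _ = 4 * (x * (2 * x + 1) * m ^ 2) * ((x + 1) * m) * cP := by rw [hm]
      _ = m ^ 3 * cP * (4 * x * (x + 1) * (2 * x + 1)) := by ring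


/-- Same setting as the Klein-four order formula: G of order 4·g₀ (g₀ odd) with no normal 2-complement, P a Sylow 2-subgroup, J an involution of P, M over 2, principal 2-block {1, χ₁, χ₂, χ₃} with χ_i(J) = ε_i = ±1. Suppose ε₁ε₂ε₃ = −1 and ε₃ = −1, and put q = x₃ = χ₃(1). Then there is a natural number m with 4·c(J) = m·c(P)·(q + 1), and the order of G equals (m³·c(P)/4)·(q³ − q)/2, that is 8·#G = m³·c(P)·(q³ − q). -/
theorem result {G : Type*} [Group G] [Finite G] (M : Ideal Cfsg.AlgInt) (hM : Cfsg.IsPModular 2 M) (g₀ : ℕ) (hg₀ : Odd g₀) (hG : Nat.card G = 4 * g₀) (hnc : ¬ ∃ N : Subgroup G, N.Normal ∧ Nat.card N = g₀) (P : Sylow 2 G) (J : G) (hJ : J ∈ (P : Subgroup G)) (hJ2 : orderOf J = 2) (χ₁ χ₂ χ₃ : Cfsg.IrrCharacter G) (ε₁ ε₂ ε₃ : ℤ) (hB : Cfsg.principalBlock M G = {χ : Cfsg.IrrCharacter G | (χ : G → ℂ) = (fun _ => 1) ∨ χ = χ₁ ∨ χ = χ₂ ∨ χ = χ₃}) (hdist : (χ₁ : G → ℂ) ≠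 (fun _ => 1) ∧ (χ₂ : G → ℂ) ≠ (fun _ => 1) ∧ (χ₃ : G → ℂ) ≠ (fun _ => 1) ∧ χ₁ ≠ χ₂ ∧ χ₁ ≠ χ₃ ∧ χ₂ ≠ χ₃) (hε : (ε₁ = 1 ∨ ε₁ = -1) ∧ (ε₂ = 1 ∨ ε₂ = -1) ∧ (ε₃ = 1 ∨ ε₃ = -1)) (hval : (χ₁ : G → ℂ) J = ε₁ ∧ (χ₂ : G → ℂ) J = ε₂ ∧ (χ₃ : G → ℂ) J = ε₃) (hprod : ε₁ * ε₂ * ε₃ = -1) (hε₃ : ε₃ = -1) : ∃ m : ℕ, 4 * Nat.card (Subgroup.centralizer ({J} : Set G)) = m * Nat.card (Subgroup.centralizer ((P : Subgroup G) : Set G)) * (Cfsg.charDegree (χ₃ : G → ℂ) + 1) ∧ 8 * Nat.card G = m ^ 3 * Nat.card (Subgroup.centralizer ((P : Subgroup G) : Set G)) * (Cfsg.charDegree (χ₃ : G → ℂ) ^ 3 - Cfsg.charDegree (χ₃ : G → ℂ)) := by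
  classical
  haveI := Fintype.ofFinite G
  haveI : Fintype (IrrCharacter G) := Fintype.ofFinite _
  obtain ⟨hP, hone⟩ := Cfsg.Agent.S4479.setup g₀ hg₀ hG hnc P
  have hform := Cfsg.Agent.S4479.result M hM g₀ hg₀ hG hnc P J hJ hJ2 χ₁ χ₂ χ₃ ε₁ ε₂ ε₃ hB
    hdist hε hval
  obtain ⟨hd1, hd2, hd3, hd12, hd13, hd23⟩ := hdist
  obtain ⟨hv1, hv2, hv3⟩ := hval
  obtain ⟨Bf, hBf⟩ : ∃ Bf : Finset (IrrCharacter G),
    Bf = Finset.univ.filter (fun χ : IrrCharacter G => χ ∈ principalBlock M G) := ⟨_, rfl⟩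
  have hphi : ∀ w : G, ∑ χ ∈ Bf, (χ : G → ℂ) J * (χ : G → ℂ) w =
      if 2 ∣ orderOf w then 4 else 0 := by
    intro w
    rw [hBf]
    exact Cfsg.Agent.S4479.phi_val M hM P hP hone J hJ2 w
  have hexp : ∀ f : IrrCharacter G → ℂ,
      ∑ χ ∈ Bf, f χ = f (oneIrr G) + f χ₁ + f χ₂ + f χ₃ := by
    intro f
    rw [hBf]
    exact Cfsg.Agent.S4479.sum_block_four _ (oneIrr G) χ₁ χ₂ χ₃ rfl hB
      ⟨hd1, hd2, hd3, hd12, hd13, hd23⟩ f
  -- degrees
  have hX1 : ((charDegree (χ₁ : G → ℂ) : ℕ) : ℂ) = (χ₁ : G → ℂ) 1 :=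
    char_charDegree_cast (irr_isCharacter χ₁.2)
  have hX2 : ((charDegree (χ₂ : G → ℂ) : ℕ) : ℂ) = (χ₂ : G → ℂ) 1 :=
    char_charDegree_cast (irr_isCharacter χ₂.2)
  have hX3 : ((charDegree (χ₃ : G → ℂ) : ℕ) : ℂ) = (χ₃ : G → ℂ) 1 :=
    char_charDegree_cast (irr_isCharacter χ₃.2)
  have hp1 : 0 < charDegree (χ₁ : G → ℂ) := irr_charDegree_pos χ₁.2
  have hp2 : 0 < charDegree (χ₂ : G → ℂ) := irr_charDegree_pos χ₂.2
  have hp3 : 0 < charDegree (χ₃ : G → ℂ) := irr_charDegree_pos χ₃.2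
  have hodd1 : Odd (charDegree (χ₁ : G → ℂ)) :=
    Cfsg.Agent.helper3.FSB.odd_degree_of_involution_value (irr_isCharacter χ₁.2) hJ2 ε₁ hε.1 hv1
  have hodd2 : Odd (charDegree (χ₂ : G → ℂ)) :=
    Cfsg.Agent.helper3.FSB.odd_degree_of_involution_value (irr_isCharacter χ₂.2) hJ2 ε₂ hε.2.1
      hv2
  -- the degree relation
  have hrel : (1 : ℂ) + (ε₁ : ℂ) * ((charDegree (χ₁ : G → ℂ) : ℕ) : ℂ) +
      (ε₂ : ℂ) * ((charDegree (χ₂ : G → ℂ) : ℕ) : ℂ) +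
      (ε₃ : ℂ) * ((charDegree (χ₃ : G → ℂ) : ℕ) : ℂ) = 0 := by
    have h := hexp (fun χ => (χ : G → ℂ) J * (χ : G → ℂ) 1)
    beta_reduce at h
    rw [hphi 1, orderOf_one, if_neg (by norm_num), hv1, hv2, hv3] at h
    rw [hX1, hX2, hX3, h]
    show _ = (1 : ℂ) * 1 + _ + _ + _
    ring
  have hrelZ : (1 : ℤ) + ε₁ * (charDegree (χ₁ : G → ℂ) : ℤ) +
      ε₂ * (charDegree (χ₂ : G → ℂ) : ℤ) + ε₃ * (charDegree (χ₃ : G → ℂ) : ℤ) = 0 := by
    exact_mod_cast hrel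
  -- the signs
  have he12 : ε₁ = 1 ∧ ε₂ = 1 := by
    rw [hε₃] at hprod hrelZ
    rcases hε.1 with h1 | h1 <;> rcases hε.2.1 with h2 | h2
    · exact ⟨h1, h2⟩
    · rw [h1, h2] at hprod; norm_num at hprod
    · rw [h1, h2] at hprod; norm_num at hprod
    · rw [h1, h2] at hrelZ; omega
  obtain ⟨he1, he2⟩ := he12
  subst he1 he2 hε₃
  -- the Frobenius–Schur sum
  have hnosq : ∀ s : G, ¬ 2 ∣ orderOf (s * s) := not_two_dvd_orderOf_sq P hP
  have hfs : ∑ χ ∈ Bf, (χ : G → ℂ) J * helper22.fsInd (χ : G → ℂ) = 0 := by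
    unfold helper22.fsInd
    have e1 : ∀ χ : IrrCharacter G, (χ : G → ℂ) J *
        ((Nat.card G : ℂ)⁻¹ * ∑ s : G, (χ : G → ℂ) (s * s)) =
        (Nat.card G : ℂ)⁻¹ * ∑ s : G, (χ : G → ℂ) J * (χ : G → ℂ) (s * s) := by
      intro χ
      rw [Finset.mul_sum, Finset.mul_sum, Finset.mul_sum]
      apply Finset.sum_congr rfl
      intro s _
      ring
    rw [Finset.sum_congr rfl (fun χ _ => e1 χ), ← Finset.mul_sum, Finset.sum_comm]
    have e2 : ∀ s : G, ∑ χ ∈ Bf, (χ : G → ℂ) J * (χ : G → ℂ) (s * s) = 0 := by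
      intro s
      rw [hphi (s * s), if_neg (hnosq s)]
    rw [Finset.sum_congr rfl (fun s _ => e2 s), Finset.sum_const_zero, mul_zero]
  have hone1 : helper22.fsInd ((oneIrr G : IrrCharacter G) : G → ℂ) = 1 := by
    unfold helper22.fsInd
    show (Nat.card G : ℂ)⁻¹ * ∑ s : G, (1 : ℂ) = 1
    rw [Finset.sum_const, Finset.card_univ, nsmul_eq_mul, mul_one, Nat.card_eq_fintype_card,
      inv_mul_cancel₀]
    exact_mod_cast Fintype.card_ne_zero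
  have hfs4 : (1 : ℂ) + helper22.fsInd (χ₁ : G → ℂ) + helper22.fsInd (χ₂ : G → ℂ) -
      helper22.fsInd (χ₃ : G → ℂ) = 0 := by
    have h := hexp (fun χ => (χ : G → ℂ) J * helper22.fsInd (χ : G → ℂ))
    beta_reduce at h
    rw [hfs, hone1, hv1, hv2, hv3] at h
    have h0 : ((oneIrr G : IrrCharacter G) : G → ℂ) J = 1 := rfl
    rw [h0] at h
    push_cast at h
    linear_combination -h
  have hne1 : helper22.fsInd (χ₁ : G → ℂ) ≠ -1 := by
    intro h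
    exact (Nat.not_even_iff_odd.2 hodd1)
      (Cfsg.Agent.helper3.FSB.even_degree_of_fsInd_neg_one χ₁.2 h)
  have hne2 : helper22.fsInd (χ₂ : G → ℂ) ≠ -1 := by
    intro h
    exact (Nat.not_even_iff_odd.2 hodd2)
      (Cfsg.Agent.helper3.FSB.even_degree_of_fsInd_neg_one χ₂.2 h)
  have hν1 : helper22.fsInd (χ₁ : G → ℂ) = 0 := by
    rcases helper22.fsInd_cases χ₁.2 with a | a | a
    · exact a
    · exfalso
      rcases helper22.fsInd_cases χ₂.2 with b | b | b <;>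
        rcases helper22.fsInd_cases χ₃.2 with c | c | c <;>
        first
          | exact hne2 b
          | (rw [a, b, c] at hfs4; norm_num at hfs4)
    · exact absurd a hne1
  -- complex conjugation
  have hnotreal : ¬ ∀ g : G, ((χ₁ : G → ℂ) g).im = 0 := by
    intro h
    exact ((helper22.fsInd_ne_zero_iff χ₁.2).2 h) hν1
  have hmem1 : χ₁ ∈ principalBlock M G := by
    rw [hB]
    exact Or.inr (Or.inl rfl)
  have hconj : helper1.irrConj χ₁ ∈ principalBlock M G :=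
    helper22.principal_conj_closed χ₁ hmem1
  have hdeg : charDegree (χ₂ : G → ℂ) = charDegree (χ₁ : G → ℂ) := by
    rw [hB] at hconj
    rcases hconj with h | h | h | h
    · exfalso
      apply hd1
      funext g
      have := congrFun h g
      rw [helper1.irrConj_apply] at this
      have h2 := congrArg (starRingEnd ℂ) this
      rw [Complex.conj_conj, map_one] at h2
      exact h2
    · exfalso
      exact hnotreal ((helper1.irrConj_eq_self_iff χ₁).1 h)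
    · rw [← h, helper1.charDegree_irrConj]
    · exfalso
      have := congrArg (fun ψ : IrrCharacter G => (ψ : G → ℂ) J) h
      simp only [helper1.irrConj_apply] at this
      rw [hv1, hv3] at this
      norm_num at this
  -- arithmetic
  obtain ⟨x, hx⟩ : ∃ x : ℕ, x = charDegree (χ₁ : G → ℂ) := ⟨_, rfl⟩
  obtain ⟨q, hq⟩ : ∃ q : ℕ, q = charDegree (χ₃ : G → ℂ) := ⟨_, rfl⟩
  rw [hdeg, ← hx, ← hq] at hrelZ
  rw [hdeg, ← hx, ← hq] at hform
  rw [← hx] at hp1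
  rw [← hq]
  have hq2 : q = 2 * x + 1 := by omega
  obtain ⟨cJ, hcJ⟩ : ∃ c : ℕ, c = Nat.card (Subgroup.centralizer ({J} : Set G)) := ⟨_, rfl⟩
  obtain ⟨cP, hcP⟩ : ∃ c : ℕ,
    c = Nat.card (Subgroup.centralizer ((P : Subgroup G) : Set G)) := ⟨_, rfl⟩
  rw [← hcJ, ← hcP] at hform ⊢
  have hcJ0 : 0 < cJ := by rw [hcJ]; exact Nat.card_pos
  have hcP0 : 0 < cP := by rw [hcP]; exact Nat.card_pos
  have hle : Subgroup.centralizer ((P : Subgroup G) : Set G) ≤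
      Subgroup.centralizer ({J} : Set G) :=
    Subgroup.centralizer_le (Set.singleton_subset_iff.2 hJ)
  obtain ⟨n, hn⟩ : cP ∣ cJ := by
    rw [hcJ, hcP]
    exact Subgroup.card_dvd_of_le hle
  obtain ⟨k, hk⟩ : cJ ∣ Nat.card G := by
    rw [hcJ]
    exact Subgroup.card_subgroup_dvd_card _
  have hQ : (Nat.card G : ℚ) * (((x : ℚ) + 1) ^ 2 * (cP : ℚ) ^ 2) =
      4 * (x : ℚ) * (2 * (x : ℚ) + 1) * (cJ : ℚ) ^ 3 := by
    apply rat_form (Nat.card G : ℚ) (x : ℚ) (cJ : ℚ) (cP : ℚ) (by exact_mod_cast hp1)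
      (by exact_mod_cast hcP0.ne')
    rw [hform, hq2]
    push_cast
    ring
  have hN : Nat.card G * ((x + 1) ^ 2 * cP ^ 2) = 4 * x * (2 * x + 1) * cJ ^ 3 := by
    exact_mod_cast hQ
  exact arith_final (Nat.card G) cJ cP x q n k hp1 hcP0 hcJ0 hq2 (by rw [hn]; ring)
    (by rw [hk]; ring) hN

end Cfsg.Agent.S4480
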