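import Cfsg.Statements.S4490
import Cfsg.Agent.Lib_helper8_DefectCount
import Cfsg.Agent.Lib_helper1_ConjChar
import Cfsg.Agent.Lib_helper12_Card
import Cfsg.Agent.Lib_helper24_BlockBasic
import Cfsg.Agent.Lib_helper24_CharIntegral

set_option autoImplicit false
open Cfsg

namespace Cfsg.Agent.S4490

open Cfsg.Agent.helper24 Cfsg.Agent.helper1
open scoped ComplexConjugate

universe u

section
variable {G : Type u} [Group G] [Fintype G] {M : Ideal AlgInt}

omit [Fintype G] in
theorem sum_mem_invol [hMp : M.IsPrime] {ι : Type*} (σ : ι → ι) (hσ : ∀ a, σ (σ a) = a)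
    (F : ι → ℂ) (s : Finset ι) (h1 : ∀ a ∈ s, σ a ∈ s) (h2 : ∀ a ∈ s, σ a ≠ a)
    (h3 : ∀ a ∈ s, MemLocalIdeal M (F a + F (σ a))) : MemLocalIdeal M (∑ a ∈ s, F a) := by
  let A : AddSubgroup ℂ :=
    { carrier := {z | MemLocalIdeal M z}
      zero_mem' := memLocalIdeal_zero hMp.ne_top
      add_mem' := fun ha hb => memLocalIdeal_add ha hb
      neg_mem' := fun ha => memLocalIdeal_neg ha }
  have key : ∑ a ∈ s, (QuotientAddGroup.mk (F a) : ℂ ⧸ A) = 0 := by
    refine Finset.sum_involution (fun a _ => σ a) ?_ ?_ ?_ ?_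
    · intro a ha
      rw [← QuotientAddGroup.mk_add]
      exact (QuotientAddGroup.eq_zero_iff _).mpr (h3 a ha)
    · intro a ha _
      exact h2 a ha
    · intro a ha
      exact h1 a ha
    · intro a ha
      exact hσ a
  have h4 : (QuotientAddGroup.mk (∑ a ∈ s, F a) : ℂ ⧸ A) = 0 := by
    rw [← key]
    exact map_sum (QuotientAddGroup.mk' A) F s
  exact (QuotientAddGroup.eq_zero_iff _).mp h4

omit [Fintype G] in
theorem isConj_inv' {a b : G} (h : IsConj a b) : IsConj a⁻¹ b⁻¹ := by
  obtain ⟨c, hc⟩ := isConj_iff.mp h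
  exact isConj_iff.mpr ⟨c, by rw [← hc]; group⟩

omit [Fintype G] in
theorem centralizer_inv (x : G) :
    Subgroup.centralizer ({x⁻¹} : Set G) = Subgroup.centralizer ({x} : Set G) := by
  ext y
  simp only [Subgroup.mem_centralizer_iff, Set.mem_singleton_iff, forall_eq]
  exact (Commute.inv_left_iff (a := x) (b := y))

theorem real_odd_trivial (x : G) (hodd : Odd (orderOf x)) (hreal : IsConj x x⁻¹)
    (hidx : Odd (Subgroup.centralizer ({x} : Set G)).index) : x = 1 := by
  classical
  by_contra hx1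
  set K : Finset G := Finset.univ.filter (fun g : G => g ∈ (ConjClasses.mk x).carrier) with hK
  have hKcard : K.card = (Subgroup.centralizer ({x} : Set G)).index := by
    have h1 := Cfsg.Agent.helper12.card_class_mul_card_centralizer x
    have h2 := Subgroup.card_mul_index (Subgroup.centralizer ({x} : Set G))
    have h3 : Nat.card (ConjClasses.mk x).carrier = K.card := by
      rw [Nat.card_eq_fintype_card, Fintype.card_subtype]
    have hpos : 0 < Nat.card (Subgroup.centralizer ({x} : Set G)) := Nat.card_pos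
    rw [← h3]
    apply Nat.eq_of_mul_eq_mul_right hpos
    rw [h1, mul_comm, h2]
  have hmem : ∀ y, y ∈ K ↔ IsConj x y := by
    intro y
    simp only [hK, Finset.mem_filter, Finset.mem_univ, true_and]
    rw [ConjClasses.mem_carrier_iff_mk_eq, ConjClasses.mk_eq_mk_iff_isConj]
    exact ⟨IsConj.symm, IsConj.symm⟩
  have hsum : ∑ y ∈ K, (1 : ZMod 2) = 0 := by
    refine Finset.sum_involution (fun y _ => y⁻¹) ?_ ?_ ?_ ?_
    · intro y _
      decide
    · intro y hy _ hfix
      have hy' := (hmem y).mp hy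
      obtain ⟨c, hc⟩ := isConj_iff.mp hy'
      have hord : orderOf y = orderOf x := by
        have := MulEquiv.orderOf_eq (MulAut.conj c) x
        rw [MulAut.conj_apply, hc] at this
        exact this
      have hy2 : y ^ 2 = 1 := by
        rw [pow_two]
        nth_rewrite 1 [← hfix]
        exact inv_mul_cancel y
      have hd : orderOf y ∣ 2 := orderOf_dvd_of_pow_eq_one hy2
      rw [hord] at hd
      have h1 : orderOf x = 1 := by
        have := Nat.le_of_dvd (by norm_num) hd
        obtain ⟨k, hk⟩ := hodd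
        omega
      exact hx1 (orderOf_eq_one_iff.mp h1)
    · intro y hy
      rw [hmem] at hy ⊢
      exact hreal.trans (isConj_inv' hy)
    · intro y _
      exact inv_inv y
  rw [Finset.sum_const, nsmul_one] at hsum
  have h2 : Even K.card := ZMod.natCast_eq_zero_iff_even.mp hsum
  rw [hKcard] at h2
  exact (Nat.not_even_iff_odd.mpr hidx) h2

theorem centralChar_inv (ψ : IrrCharacter G) (x : G) :
    centralChar (ψ : G → ℂ) x⁻¹ = centralChar (irrConj ψ : G → ℂ) x := by
  have hc := irr_isCharacter ψ.2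
  unfold centralChar
  rw [centralizer_inv, char_inv hc x, irrConj_apply, irrConj_apply, ← char_charDegree_cast hc,
    Complex.conj_natCast]

theorem two_memLocalIdeal (hM : IsPModular 2 M) : MemLocalIdeal M (2 : ℂ) := by
  haveI hMp : M.IsPrime := hM.2.1.isPrime
  refine ⟨((2 : ℕ) : AlgInt), 1, ?_, ?_, ?_⟩
  · exact hM.2.2
  · exact fun h => hMp.ne_top ((Ideal.eq_top_iff_one M).mpr h)
  · simp
    rfl

/-- the main congruence -/
theorem omega_congr (hM : IsPModular 2 M) (ψ : IrrCharacter G)
    (hodd : Odd (charDegree (ψ : G → ℂ)))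
    (hψ : ∀ x : G, MemLocalIdeal M (centralChar (ψ : G → ℂ) x⁻¹ - centralChar (ψ : G → ℂ) x))
    (u : G → ℂ) (hu : IsClassFunction G u) (hloc : ∀ g, MemLocalRing M (u g))
    (hinv : ∀ g, u g⁻¹ = u g) (hreg : ∀ g, 2 ∣ orderOf g → u g = 0) :
    MemLocalIdeal M (omegaFn (ψ : G → ℂ) u - u 1) := by
  classical
  haveI hMp : M.IsPrime := hM.2.1.isPrime
  have hc := irr_isCharacter ψ.2
  have h2I := two_memLocalIdeal hM
  have hcl : ∀ {a b : G}, IsConj a b → u a = u b ∧
      centralChar (ψ : G → ℂ) a = centralChar (ψ : G → ℂ) b := by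
    intro a b hab
    obtain ⟨c, hcab⟩ := isConj_iff.mp hab
    rw [← hcab]
    exact ⟨(hu a c).symm, (Cfsg.Agent.helper24.centralChar_conj hc a c).symm⟩
  have hout : ∀ x : G, IsConj (Quotient.out (ConjClasses.mk x)) x := by
    intro x
    rw [← ConjClasses.mk_eq_mk_iff_isConj]
    exact Quotient.out_eq _
  have hwloc : ∀ x : G, MemLocalRing M (centralChar (ψ : G → ℂ) x) := fun x =>
    memLocalRing_of_integral hMp.ne_top (Cfsg.Agent.helper23.irr_centralChar_isIntegral ψ x)
  set σ : ConjClasses G → ConjClasses G := fun C => ConjClasses.mk (Quotient.out C)⁻¹ with hσdef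
  have hσσ : ∀ C, σ (σ C) = C := by
    intro C
    show ConjClasses.mk (Quotient.out (ConjClasses.mk (Quotient.out C)⁻¹))⁻¹ = C
    have h1 := isConj_inv' (hout (Quotient.out C)⁻¹)
    rw [inv_inv] at h1
    rw [ConjClasses.mk_eq_mk_iff_isConj.mpr h1]
    exact Quotient.out_eq C
  have hout1 : Quotient.out (ConjClasses.mk (1 : G)) = 1 := isConj_one_left.mp (hout 1)
  have hσ1 : σ (ConjClasses.mk (1 : G)) = ConjClasses.mk 1 := by
    show ConjClasses.mk (Quotient.out (ConjClasses.mk (1 : G)))⁻¹ = ConjClasses.mk 1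
    rw [hout1, inv_one]
  set F : ConjClasses G → ℂ := fun C => u (Quotient.out C) * centralChar (ψ : G → ℂ) (Quotient.out C)
    with hF
  have hFσ : ∀ C, F (σ C) = u (Quotient.out C) * centralChar (ψ : G → ℂ) (Quotient.out C)⁻¹ := by
    intro C
    have h1 := hcl (hout (Quotient.out C)⁻¹)
    show u (Quotient.out (ConjClasses.mk (Quotient.out C)⁻¹)) *
      centralChar (ψ : G → ℂ) (Quotient.out (ConjClasses.mk (Quotient.out C)⁻¹)) = _
    rw [h1.1, h1.2, hinv]
  have hFloc : ∀ C, MemLocalRing M (F C) := fun C => memLocalRing_mul (hloc _) (hwloc _)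
  have hpair : ∀ C, MemLocalIdeal M (F C + F (σ C)) := by
    intro C
    rw [hFσ]
    have e : F C + u (Quotient.out C) * centralChar (ψ : G → ℂ) (Quotient.out C)⁻¹ =
        F C * 2 + u (Quotient.out C) * (centralChar (ψ : G → ℂ) (Quotient.out C)⁻¹ -
          centralChar (ψ : G → ℂ) (Quotient.out C)) := by
      simp only [hF]
      ring
    rw [e]
    exact memLocalIdeal_add (memLocalIdeal_mul_left (hFloc C) h2I)
      (memLocalIdeal_mul_left (hloc _) (hψ _))
  -- degree is a unit
  have hdinv : MemLocalRing M ((ψ : G → ℂ) 1)⁻¹ := by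
    rw [← char_charDegree_cast hc]
    have h1 : ¬ MemLocalIdeal M ((charDegree (ψ : G → ℂ) : ℕ) : ℂ) :=
      natCast_not_memLocalIdeal hM (by
        intro h
        exact (Nat.not_even_iff_odd.mpr hodd) (even_iff_two_dvd.mpr h))
    have h2 : MemLocalRing M ((charDegree (ψ : G → ℂ) : ℕ) : ℂ) :=
      memLocalRing_of_integral hMp.ne_top (isIntegral_natCast _)
    exact memLocalRing_inv h2 h1
  -- real classes other than the identity
  have hfixed : ∀ C : ConjClasses G, C ≠ ConjClasses.mk 1 → σ C = C → MemLocalIdeal M (F C) := by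
    intro C hC1 hfix
    set x := Quotient.out C with hx
    have hCx : ConjClasses.mk x = C := Quotient.out_eq C
    have hreal : IsConj x x⁻¹ := by
      rw [← ConjClasses.mk_eq_mk_iff_isConj, hCx]
      exact hfix.symm
    have hx1 : x ≠ 1 := by
      intro h
      apply hC1
      rw [← hCx, h]
    by_cases h2x : 2 ∣ orderOf x
    · show MemLocalIdeal M (u x * centralChar (ψ : G → ℂ) x)
      rw [hreg x h2x, zero_mul]
      exact memLocalIdeal_zero hMp.ne_top
    · have hoddx : Odd (orderOf x) := by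
        rw [← Nat.not_even_iff_odd]
        exact fun h => h2x h.two_dvd
      have hev : ¬ Odd (Subgroup.centralizer ({x} : Set G)).index := fun h =>
        hx1 (real_odd_trivial x hoddx hreal h)
      obtain ⟨k, hk⟩ := Nat.not_odd_iff_even.mp hev
      show MemLocalIdeal M (u x * centralChar (ψ : G → ℂ) x)
      apply memLocalIdeal_mul_left (hloc x)
      unfold centralChar
      rw [hk]
      have e : ((k + k : ℕ) : ℂ) * (ψ : G → ℂ) x / (ψ : G → ℂ) 1 =
          (((k : ℕ) : ℂ) * (ψ : G → ℂ) x * ((ψ : G → ℂ) 1)⁻¹) * 2 := by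
        push_cast
        ring
      rw [e]
      apply memLocalIdeal_mul_left _ h2I
      apply memLocalRing_mul _ hdinv
      apply memLocalRing_of_integral hMp.ne_top
      exact (isIntegral_natCast k).mul (char_isIntegral hc x)
  -- assemble
  rw [omegaFn_eq_sum_classes hc hu]
  show MemLocalIdeal M (∑ C : ConjClasses G, F C - u 1)
  have hF1 : F (ConjClasses.mk 1) = u 1 := by
    show u (Quotient.out (ConjClasses.mk (1 : G))) *
      centralChar (ψ : G → ℂ) (Quotient.out (ConjClasses.mk (1 : G))) = u 1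
    rw [hout1]
    unfold centralChar
    have h1 : (Subgroup.centralizer ({(1 : G)} : Set G)) = ⊤ := by
      ext y
      simp [Subgroup.mem_centralizer_iff]
    have hne : (ψ : G → ℂ) 1 ≠ 0 := by
      rw [← char_charDegree_cast hc]
      exact_mod_cast (irr_charDegree_pos ψ.2).ne'
    rw [h1, Subgroup.index_top]
    field_simp
    simp
  rw [← Finset.add_sum_erase _ _ (Finset.mem_univ (ConjClasses.mk (1 : G))), hF1, add_sub_cancel_left,
    ← Finset.sum_filter_add_sum_filter_not _ (fun C => σ C = C)]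
  apply memLocalIdeal_add
  · apply memLocalIdeal_sum
    intro C hC
    rw [Finset.mem_filter, Finset.mem_erase] at hC
    exact hfixed C hC.1.1 hC.2
  · apply sum_mem_invol σ hσσ
    · intro C hC
      rw [Finset.mem_filter, Finset.mem_erase] at hC ⊢
      refine ⟨⟨?_, Finset.mem_univ _⟩, ?_⟩
      · intro h
        apply hC.1.1
        rw [← hσσ C, h, hσ1]
      · rw [hσσ]
        exact fun h => hC.2 h.symm
    · intro C hC
      rw [Finset.mem_filter] at hC
      exact hC.2
    · intro C _
      exact hpair C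

theorem blockCoeff_inv_of_real (B : Set (IrrCharacter G)) (hreal : ∀ χ ∈ B, irrConj χ ∈ B)
    (g : G) : blockCoeff B g⁻¹ = blockCoeff B g := by
  classical
  haveI := Fintype.ofFinite (IrrCharacter G)
  rw [blockCoeff_eq_sum, blockCoeff_eq_sum]
  congr 1
  apply Finset.sum_nbij' irrConj irrConj
  · intro χ hχ
    rw [Finset.mem_filter] at hχ ⊢
    exact ⟨Finset.mem_univ _, hreal χ hχ.2⟩
  · intro χ hχ
    rw [Finset.mem_filter] at hχ ⊢
    exact ⟨Finset.mem_univ _, hreal χ hχ.2⟩
  · intro χ _
    exact irrConj_irrConj χ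
  · intro χ _
    exact irrConj_irrConj χ
  · intro χ _
    have hc := irr_isCharacter χ.2
    rw [irrConj_apply, irrConj_apply, char_inv hc g, Complex.conj_conj,
      ← char_charDegree_cast hc, Complex.conj_natCast]

end

/-- Let G be a finite group and M a maximal ideal of the algebraic integers containing 2. Every 2-block B of G whose defect groups are the Sylow 2-subgroups of G (a block of full defect) and which is not the principal block is different from its complex-conjugate block, the block formed by the complex conjugates of the members of B. -/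
theorem result {G : Type*} [Group G] [Finite G] (M : Ideal Cfsg.AlgInt) (hM : Cfsg.IsPModular 2 M) (B : Set (Cfsg.IrrCharacter G)) (hB : Cfsg.IsPBlock M B) (P : Sylow 2 G) (hfull : Cfsg.IsDefectGroup 2 M B (P : Subgroup G)) (hnp : B ≠ Cfsg.principalBlock M G) : {ψ : Cfsg.IrrCharacter G | ∃ χ ∈ B, (ψ : G → ℂ) = fun g => (starRingEnd ℂ) ((χ : G → ℂ) g)} ≠ B := by
  classical
  haveI := Fintype.ofFinite G
  haveI hMp : M.IsPrime := hM.2.1.isPrime
  haveI : Fact (Nat.Prime 2) := ⟨Nat.prime_two⟩
  intro hreal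
  obtain ⟨χ₀, hχ₀⟩ := hB
  have hB' : IsPBlock M B := ⟨χ₀, hχ₀⟩
  have hχ₀B : χ₀ ∈ B := by
    rw [hχ₀]
    exact sameBlock_refl M hMp.ne_top _
  have hconjB : ∀ χ ∈ B, irrConj χ ∈ B := by
    intro χ hχ
    rw [← hreal]
    exact ⟨χ, hχ, rfl⟩
  -- a member of odd degree
  have hDcard := Cfsg.Agent.S0908.result 2 M hM B hB' (P : Subgroup G) hfull
  have hPcard : Nat.card (P : Subgroup G) = 2 ^ (Nat.card G).factorization 2 :=
    Sylow.card_eq_multiplicity P
  have hdef : blockDefect 2 B = (Nat.card G).factorization 2 :=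
    Nat.pow_right_injective (le_refl 2) (hDcard.symm.trans hPcard)
  obtain ⟨χ₁, hχ₁B, hχ₁odd⟩ : ∃ χ₁ ∈ B, Odd (charDegree (χ₁ : G → ℂ)) := by
    have hne : ((fun χ : IrrCharacter G => (charDegree (χ : G → ℂ)).factorization 2) '' B).Nonempty :=
      ⟨_, χ₀, hχ₀B, rfl⟩
    obtain ⟨χ₁, hχ₁B, hχ₁⟩ := Nat.sInf_mem hne
    refine ⟨χ₁, hχ₁B, ?_⟩
    have hpos : charDegree (χ₁ : G → ℂ) ≠ 0 := (irr_charDegree_pos χ₁.2).ne'
    have hm_le : (charDegree (χ₁ : G → ℂ)).factorization 2 ≤ (Nat.card G).factorization 2 :=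
      (Nat.factorization_le_iff_dvd hpos Nat.card_pos.ne').mpr (irr_degree_dvd_card χ₁.2) 2
    unfold blockDefect at hdef
    rw [← hχ₁] at hdef
    have h0 : (charDegree (χ₁ : G → ℂ)).factorization 2 = 0 := by
      simp only at hdef hm_le ⊢
      omega
    rcases (Nat.factorization_eq_zero_iff _ _).mp h0 with h | h | h
    · exact absurd Nat.prime_two h
    · rw [← Nat.not_even_iff_odd]
      exact fun he => h he.two_dvd
    · exact absurd h hpos
  -- the principal character is not in B
  set ψ₁ : IrrCharacter G := ⟨fun _ => 1, isIrrCharacter_one⟩ with hψ₁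
  have hψ₁B : ψ₁ ∉ B := by
    intro h
    apply hnp
    rw [hχ₀] at h ⊢
    exact (Cfsg.Agent.helper8.DefectCount.blockOf_eq_of_mem h).symm
  -- the idempotent coefficients
  have hu : IsClassFunction G (blockCoeff B) := blockCoeff_isClassFunction B
  have hloc : ∀ g, MemLocalRing M (blockCoeff B g) := fun g =>
    Cfsg.Agent.S0913.result 2 M hM B hB' g
  have hinv : ∀ g, blockCoeff B g⁻¹ = blockCoeff B g := blockCoeff_inv_of_real B hconjB
  have hreg : ∀ g, 2 ∣ orderOf g → blockCoeff B g = 0 := by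
    intro g hg
    rw [hχ₀]
    exact Cfsg.Agent.helper8.Cover.blockCoeff_eq_zero hM χ₀ hg
  -- congruence for the principal character
  have h1 : MemLocalIdeal M (omegaFn (ψ₁ : G → ℂ) (blockCoeff B) - blockCoeff B 1) := by
    apply omega_congr hM ψ₁ _ _ _ hu hloc hinv hreg
    · have : charDegree (ψ₁ : G → ℂ) = 1 := by
        have h := char_charDegree_cast (irr_isCharacter ψ₁.2)
        have h' : ((charDegree (ψ₁ : G → ℂ) : ℕ) : ℂ) = 1 := h
        exact_mod_cast h'
      rw [this]
      exact odd_one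
    · intro x
      have : centralChar (ψ₁ : G → ℂ) x⁻¹ = centralChar (ψ₁ : G → ℂ) x := by
        unfold centralChar
        rw [centralizer_inv]
      rw [this, sub_self]
      exact memLocalIdeal_zero hMp.ne_top
  rw [omegaFn_blockCoeff, if_neg hψ₁B, zero_sub] at h1
  have h1' : MemLocalIdeal M (blockCoeff B 1) := by
    have := memLocalIdeal_neg h1
    rwa [neg_neg] at this
  -- congruence for χ₁
  have h2 : MemLocalIdeal M (omegaFn (χ₁ : G → ℂ) (blockCoeff B) - blockCoeff B 1) := by
    apply omega_congr hM χ₁ hχ₁odd _ _ hu hloc hinv hreg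
    intro x
    rw [centralChar_inv]
    have hs1 : SameBlock M (χ₀ : G → ℂ) (χ₁ : G → ℂ) := by
      have := hχ₁B
      rw [hχ₀] at this
      exact this
    have hs2 : SameBlock M (χ₀ : G → ℂ) (irrConj χ₁ : G → ℂ) := by
      have := hconjB χ₁ hχ₁B
      rw [hχ₀] at this
      exact this
    exact (sameBlock_trans (sameBlock_symm hs2) hs1) x
  rw [omegaFn_blockCoeff, if_pos hχ₁B] at h2
  have h3 := memLocalIdeal_add h2 h1'
  rw [sub_add_cancel] at h3
  exact not_memLocalIdeal_one h3

end Cfsg.Agent.S4490
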