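import Cfsg.Statements.S4492
import Mathlib
import Cfsg.Agent.Lib_helper1_FongPS3
import Cfsg.Agent.Lib_helper7_PSolv
import Cfsg.Agent.Lib_helper10_PPrimeP
import Cfsg.Agent.Lib_helper1_Core
import Cfsg.Agent.Lib_helper7_ExtLayer

set_option autoImplicit false
set_option linter.style.haveILetI false
set_option linter.unusedVariables false
open Cfsg

namespace Cfsg.Agent.S4492

/-- Let G be a finite p-solvable group, N = O_{p'}(G) its largest normal subgroup of order prime to p, and θ an irreducible character of N invariant under conjugation by G; fix a maximal ideal M of the algebraic integers containing p. Then the irreducible characters of G lying over θ (those whose restriction to N contains θ) form a single p-block of G, and the defect groups of that block are exactly the Sylow p-subgroups of G. -/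
theorem result {G : Type*} [Group G] [Fintype G] (p : ℕ) [Fact p.Prime] (M : Ideal Cfsg.AlgInt) (hM : Cfsg.IsPModular p M) (hsolv : Cfsg.IsPSolvable p G) (N : Subgroup G) [hN : N.Normal] [Fintype N] (hNdef : N = Cfsg.pPrimeCore p G) (θ : Cfsg.IrrCharacter N) (hinv : ∀ (g : G) (n : N), (θ : N → ℂ) ⟨g * n * g⁻¹, hN.conj_mem n n.2 g⟩ = (θ : N → ℂ) n) : ∃ B : Set (Cfsg.IrrCharacter G), Cfsg.IsPBlock M B ∧ (∀ χ : Cfsg.IrrCharacter G, χ ∈ B ↔ Cfsg.classInner (fun n : N => (χ : G → ℂ) n) (θ : N → ℂ) ≠ 0) ∧ (∀ P : Sylow p G, Cfsg.IsDefectGroup p M B (P : Subgroup G)) ∧ ∀ D : Subgroup G, Cfsg.IsDefectGroup p M B D → ∃ P : Sylow p G, D = (P : Subgroup G) := by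
  classical
  have hp : p.Prime := Fact.out
  subst hNdef
  haveI hKn : (Cfsg.pPrimePCore p G).Normal := Cfsg.Agent.helper7.pPrimePCore_normal p
  have := Fintype.ofFinite ↥(Cfsg.pPrimePCore p G)
  have hNK : Cfsg.pPrimeCore p G ≤ Cfsg.pPrimePCore p G :=
    Cfsg.Agent.helper10.pPrimeCore_le_pPrimePCore p
  have hcop : (Nat.card ↥(Cfsg.pPrimeCore p G)).Coprime p := Cfsg.Agent.helper1.pPrimeCore_coprime p
  obtain ⟨k, hk⟩ := (Cfsg.Agent.helper1.pCore_isPGroup (G := G ⧸ Cfsg.pPrimeCore p G) p).exists_card_eq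
  have hidx : (Cfsg.pPrimeCore p G).relIndex (Cfsg.pPrimePCore p G) = p ^ k := by
    have h1 := Subgroup.relIndex_ker (QuotientGroup.mk' (Cfsg.pPrimeCore p G))
      (K := Cfsg.pPrimePCore p G)
    rw [QuotientGroup.ker_mk', Cfsg.Agent.helper7.map_pPrimePCore_eq] at h1
    rw [h1]
    exact hk
  have hcon := Cfsg.Agent.helper7.isPConstrained_of_isPSolvable hp hsolv
  have hcen : ∀ Q : Subgroup G, Q ≤ Cfsg.pPrimePCore p G →
      Nat.card Q = p ^ (Nat.card ↥(Cfsg.pPrimePCore p G)).factorization p →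
      Subgroup.centralizer (Q : Set G) ≤ Cfsg.pPrimePCore p G := by
    intro Q hQK hQcard
    have hc : Nat.card (Q.subgroupOf (Cfsg.pPrimePCore p G)) =
        p ^ (Nat.card ↥(Cfsg.pPrimePCore p G)).factorization p := by
      rw [Cfsg.Agent.helper24.card_subgroupOf_of_le hQK]
      exact hQcard
    have h1 := hcon (Sylow.ofCard (Q.subgroupOf (Cfsg.pPrimePCore p G)) hc)
    rw [Sylow.coe_ofCard, Subgroup.subgroupOf_map_subtype, inf_eq_left.2 hQK] at h1
    exact h1
  exact Cfsg.Agent.helper1.fps_final (Cfsg.pPrimeCore p G) (Cfsg.pPrimePCore p G) p hM hNK hidx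
    hcop θ hinv hcen

end Cfsg.Agent.S4492
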