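import Mathlib
import Cfsg.Agent.S4495
import Cfsg.Agent.Lib_helper1_Core
import Cfsg.Statements.S4497

set_option autoImplicit false
set_option linter.style.haveILetI false
set_option linter.unusedSectionVars false
open Cfsg
open scoped Pointwise commutatorElement

namespace Cfsg.Agent.S4497

open Cfsg.Agent.S4496 Cfsg.Agent.S4495 Cfsg.Agent.helper1

section
variable {G : Type*} [Group G] [Finite G] (p : ℕ) (hp : p.Prime) (x : G) (hx : orderOf x = p)
  (hC : Subgroup.centralizer ({x} : Set G) = Subgroup.zpowers x)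

include hp in
theorem not_dvd_pPrimeCore : ¬ p ∣ Nat.card (pPrimeCore p G) :=
  (Nat.Prime.coprime_iff_not_dvd hp).1 (pPrimeCore_coprime p).symm

include hp hx hC in
/-- for a normal `p'`-subgroup `S`, the map `s ↦ x⁻¹ (s x s⁻¹)` is onto `S` -/
theorem exists_conj_eq (S : Subgroup G) [hSn : S.Normal] (hS : ¬ p ∣ Nat.card S) (w : G)
    (hw : w ∈ S) : ∃ s ∈ S, x⁻¹ * (s * x * s⁻¹) = w := by
  let φ : S → S := fun s => ⟨x⁻¹ * ((s : G) * x * (s : G)⁻¹), by
    have h1 : x⁻¹ * (s : G) * x ∈ S := by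
      have := hSn.conj_mem s s.2 x⁻¹
      simpa using this
    have := S.mul_mem h1 (S.inv_mem s.2)
    simpa [mul_assoc] using this⟩
  have hφ : Function.Injective φ := by
    intro s t hst
    have h1 : x⁻¹ * ((s : G) * x * (s : G)⁻¹) = x⁻¹ * ((t : G) * x * (t : G)⁻¹) :=
      congrArg Subtype.val hst
    have h2 : (s : G) * x * (s : G)⁻¹ = (t : G) * x * (t : G)⁻¹ := mul_left_cancel h1
    have h3 : ((t : G)⁻¹ * s) * x = x * ((t : G)⁻¹ * s) := by
      have := congrArg (fun u => (t : G)⁻¹ * u * s) h2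
      simpa [mul_assoc] using this
    have h4 := inter_trivial p hp x hx S hS _ (S.mul_mem (S.inv_mem t.2) s.2)
      (mem_zpowers_of_comm x hC _ h3)
    apply Subtype.ext
    have := congrArg (fun u => (t : G) * u) h4
    simpa using this
  obtain ⟨s, hs⟩ := (Finite.injective_iff_surjective.1 hφ) ⟨w, hw⟩
  exact ⟨s, s.2, congrArg Subtype.val hs⟩

include hp hx hC in
theorem normal_le_commutator (S : Subgroup G) [hSn : S.Normal] (hS : ¬ p ∣ Nat.card S) :
    S ≤ commutator G := by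
  intro w hw
  obtain ⟨s, _, rfl⟩ := exists_conj_eq p hp x hx hC S hS w hw
  have : ⁅x⁻¹, s⁆ ∈ ⁅(⊤ : Subgroup G), ⊤⁆ :=
    Subgroup.commutator_mem_commutator (Subgroup.mem_top _) (Subgroup.mem_top _)
  rw [commutatorElement_def, inv_inv] at this
  rw [commutator_def]
  have e : x⁻¹ * (s * x * s⁻¹) = x⁻¹ * s * x * s⁻¹ := by group
  rw [e]; exact this

theorem map_pPrimeCore_le (D : Subgroup G) [hD : D.Normal] :
    (pPrimeCore p ↥D).map D.subtype ≤ pPrimeCore p G := by
  apply le_pPrimeCore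
  · constructor
    intro n hn g
    obtain ⟨c, hc, rfl⟩ := Subgroup.mem_map.1 hn
    refine Subgroup.mem_map.2 ⟨MulAut.conjNormal g c, ?_, ?_⟩
    · have hle : (pPrimeCore p ↥D).map (MulAut.conjNormal g : ↥D ≃* ↥D).toMonoidHom ≤
          pPrimeCore p ↥D := by
        apply le_pPrimeCore
        · exact (pPrimeCore_normal p).map _ (MulEquiv.surjective _)
        · rw [Subgroup.card_map_of_injective (MulEquiv.injective _)]; exact pPrimeCore_coprime p
      exact hle (Subgroup.mem_map_of_mem _ hc)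
    · simp [MulAut.conjNormal_apply]
  · rw [Subgroup.card_map_of_injective D.subtype_injective]
    exact pPrimeCore_coprime p

include hC in
theorem sub_hC (D : Subgroup G) (hxD : x ∈ D) :
    Subgroup.centralizer ({(⟨x, hxD⟩ : D)} : Set D) = Subgroup.zpowers (⟨x, hxD⟩ : D) := by
  ext d
  rw [Subgroup.mem_centralizer_iff, Subgroup.mem_zpowers_iff]
  constructor
  · intro h
    have h1 := h _ (Set.mem_singleton _)
    have h2 : (d : G) * x = x * d := by
      have := congrArg Subtype.val h1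
      simpa using this.symm
    obtain ⟨k, hk⟩ := Subgroup.mem_zpowers_iff.1 (mem_zpowers_of_comm x hC d h2)
    exact ⟨k, Subtype.ext (by rw [Subgroup.coe_zpow]; exact hk)⟩
  · rintro ⟨k, rfl⟩ h hh
    rw [Set.mem_singleton_iff] at hh
    rw [hh]
    exact ((Commute.refl _).zpow_right k).eq

include hp hx hC in
theorem x_mem_of_dvd' (n₀ : G) (hn₀ : n₀ ∈ Subgroup.normalizer (Subgroup.zpowers x : Set G))
    (hn₀P : n₀ ∉ Subgroup.zpowers x) (M : Subgroup G)
    (hnorm : ∀ d ∈ commutator G, ∀ m ∈ M, d * m * d⁻¹ ∈ M) (hpM : p ∣ Nat.card M) : x ∈ M := by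
  haveI : Fact p.Prime := ⟨hp⟩
  obtain ⟨y, hy⟩ := exists_prime_orderOf_dvd_card' (G := M) p hpM
  have hy' : orderOf (y : G) = p := by rw [← hy]; exact (Subgroup.orderOf_coe y)
  have hpg : IsPGroup p (Subgroup.zpowers (y : G)) :=
    IsPGroup.of_card (n := 1) (by rw [Nat.card_zpowers, hy', pow_one])
  obtain ⟨Q₁, hQ₁⟩ := hpg.exists_le_sylow
  obtain ⟨P, hP⟩ := exists_sylow_eq p hp x hx hC
  obtain ⟨g, hg⟩ := MulAction.exists_smul_eq G P Q₁
  have hyQ : (y : G) ∈ (Q₁ : Subgroup G) := hQ₁ (Subgroup.mem_zpowers _)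
  rw [← hg, Sylow.coe_subgroup_smul, Subgroup.mem_pointwise_smul_iff_inv_smul_mem,
    MulAut.smul_def, MulAut.conj_inv_apply, hP] at hyQ
  have hPG := le_commutator_of_ne p hp x hx hC n₀ hn₀ hn₀P
  have hPS : (P : Subgroup G) ≤ commutator G := by rw [hP]; exact hPG
  have hfr := Sylow.normalizer_sup_eq_top' P hPS
  rw [← Sylow.coe_coe, hP] at hfr
  have hg' : g⁻¹ ∈ ((Subgroup.normalizer (Subgroup.zpowers x : Set G) ⊔ commutator G :
      Subgroup G) : Set G) := by
    rw [hfr]; trivial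
  have hmn := Subgroup.mul_normal (Subgroup.normalizer (Subgroup.zpowers x : Set G))
    (commutator G)
  rw [hmn, Set.mem_mul] at hg'
  obtain ⟨n, hn, d, hd, hnd⟩ := hg'
  have hg2 : g = d⁻¹ * n⁻¹ := by rw [← mul_inv_rev, hnd, inv_inv]
  have hdy : d * (y : G) * d⁻¹ ∈ M := hnorm d hd y y.2
  have hdyP : d * (y : G) * d⁻¹ ∈ Subgroup.zpowers x := by
    have hn' : n⁻¹ ∈ Subgroup.normalizer (Subgroup.zpowers x : Set G) :=
      Subgroup.inv_mem _ hn
    have := (Subgroup.mem_normalizer_iff.1 hn' _).1 hyQ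
    have e : n⁻¹ * (g⁻¹ * (y : G) * g) * n⁻¹⁻¹ = d * (y : G) * d⁻¹ := by
      rw [hg2]; group
    rwa [e] at this
  have hne : d * (y : G) * d⁻¹ ≠ 1 := by
    intro h
    have : (y : G) = 1 := by
      have := congrArg (fun t => d⁻¹ * t * d) h
      simpa [mul_assoc] using this
    rw [this, orderOf_one] at hy'
    exact hp.ne_one hy'.symm
  exact (Subgroup.zpowers_le.2 hdy) (x_mem_zpowers_of_ne_one p hp x hx _ hdyP hne)

theorem subgroupOf_normal_of (M : Subgroup G)
    (hnorm : ∀ d ∈ commutator G, ∀ m ∈ M, d * m * d⁻¹ ∈ M) :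
    (M.subgroupOf (commutator G)).Normal := by
  constructor
  intro m hm d
  rw [Subgroup.mem_subgroupOf] at hm ⊢
  have := hnorm d d.2 m hm
  simpa using this

include hp hx hC in
theorem commutator_le_of_dvd (n₀ : G)
    (hn₀ : n₀ ∈ Subgroup.normalizer (Subgroup.zpowers x : Set G))
    (hn₀P : n₀ ∉ Subgroup.zpowers x) (M : Subgroup G) (hSM : pPrimeCore p G ≤ M)
    (hMD : M ≤ commutator G)
    (hnorm : ∀ d ∈ commutator G, ∀ m ∈ M, d * m * d⁻¹ ∈ M) (hpM : p ∣ Nat.card M) :
    commutator G ≤ M := by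
  haveI : Fact p.Prime := ⟨hp⟩
  have hxM := x_mem_of_dvd' p hp x hx hC n₀ hn₀ hn₀P M hnorm hpM
  have hxD : x ∈ commutator G := hMD hxM
  have hx' : orderOf (⟨x, hxD⟩ : commutator G) = p := by rw [Subgroup.orderOf_mk]; exact hx
  have hC' := sub_hC x hC (commutator G) hxD
  haveI hMn : (M.subgroupOf (commutator G)).Normal := subgroupOf_normal_of M hnorm
  have hpM' : p ∣ Nat.card (M.subgroupOf (commutator G)) := by
    rw [Nat.card_congr (Subgroup.subgroupOfEquivOfLe hMD).toEquiv]; exact hpM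
  have hDD := part_a p hp (⟨x, hxD⟩ : commutator G) hx' hC' (M.subgroupOf (commutator G)) hpM'
  have hcomm : ∀ a ∈ commutator G, ∀ b ∈ commutator G, ⁅a, b⁆ ∈ M := by
    intro a ha b hb
    have h1 : ⁅(⟨a, ha⟩ : commutator G), ⟨b, hb⟩⁆ ∈ commutator (commutator G) := by
      show _ ∈ ⁅(⊤ : Subgroup (commutator G)), ⊤⁆
      exact Subgroup.commutator_mem_commutator (Subgroup.mem_top _) (Subgroup.mem_top _)
    have h2 := hDD h1
    rw [Subgroup.mem_subgroupOf] at h2
    simpa [commutatorElement_def] using h2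
  have hDDM : ⁅commutator G, commutator G⁆ ≤ M := Subgroup.commutator_le.2 hcomm
  by_cases hpDD : p ∣ Nat.card (⁅commutator G, commutator G⁆ : Subgroup G)
  · have := part_a p hp x hx hC ⁅commutator G, commutator G⁆ hpDD
    exact this.trans hDDM
  · have hDDS : ⁅commutator G, commutator G⁆ ≤ pPrimeCore p G :=
      le_pPrimeCore inferInstance ((Nat.Prime.coprime_iff_not_dvd hp).2 hpDD).symm
    intro d hd
    have hw : x⁻¹ * (d * x * d⁻¹) ∈ pPrimeCore p G := by
      apply hDDS
      have : ⁅x⁻¹, d⁆ ∈ ⁅commutator G, commutator G⁆ :=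
        Subgroup.commutator_mem_commutator ((commutator G).inv_mem hxD) hd
      rw [commutatorElement_def, inv_inv] at this
      have e : x⁻¹ * (d * x * d⁻¹) = x⁻¹ * d * x * d⁻¹ := by group
      rw [e]; exact this
    haveI := pPrimeCore_normal (G := G) p
    obtain ⟨s, hs, hsw⟩ := exists_conj_eq p hp x hx hC (pPrimeCore p G)
      (not_dvd_pPrimeCore p hp) _ hw
    have h2 : s * x * s⁻¹ = d * x * d⁻¹ := mul_left_cancel hsw
    have h3 : (s⁻¹ * d) * x = x * (s⁻¹ * d) := by
      have := congrArg (fun u => s⁻¹ * u * d) h2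
      simpa [mul_assoc] using this.symm
    have h4 : s⁻¹ * d ∈ M := (Subgroup.zpowers_le.2 hxM) (mem_zpowers_of_comm x hC _ h3)
    have e : d = s * (s⁻¹ * d) := by group
    rw [e]
    exact M.mul_mem (hSM hs) h4

include hp in
theorem le_pPrimeCore_of_not_dvd (M : Subgroup G) (hMD : M ≤ commutator G)
    (hnorm : ∀ d ∈ commutator G, ∀ m ∈ M, d * m * d⁻¹ ∈ M) (hpM : ¬ p ∣ Nat.card M) :
    M ≤ pPrimeCore p G := by
  have hMn : (M.subgroupOf (commutator G)).Normal := subgroupOf_normal_of M hnorm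
  have h1 : M.subgroupOf (commutator G) ≤ pPrimeCore p (commutator G) := by
    apply le_pPrimeCore hMn
    rw [Nat.card_congr (Subgroup.subgroupOfEquivOfLe hMD).toEquiv]
    exact ((Nat.Prime.coprime_iff_not_dvd hp).2 hpM).symm
  intro m hm
  apply map_pPrimeCore_le p (commutator G)
  exact Subgroup.mem_map.2 ⟨⟨m, hMD hm⟩, h1 (Subgroup.mem_subgroupOf.2 hm), rfl⟩

include hp hx hC in
theorem core_claim (n₀ : G)
    (hn₀ : n₀ ∈ Subgroup.normalizer (Subgroup.zpowers x : Set G))
    (hn₀P : n₀ ∉ Subgroup.zpowers x) (M : Subgroup G) (hSM : pPrimeCore p G ≤ M)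
    (hMD : M ≤ commutator G)
    (hnorm : ∀ d ∈ commutator G, ∀ m ∈ M, d * m * d⁻¹ ∈ M) :
    M = pPrimeCore p G ∨ M = commutator G := by
  by_cases hpM : p ∣ Nat.card M
  · right
    exact le_antisymm hMD (commutator_le_of_dvd p hp x hx hC n₀ hn₀ hn₀P M hSM hMD hnorm hpM)
  · left
    exact le_antisymm (le_pPrimeCore_of_not_dvd p hp M hMD hnorm hpM) hSM

end

theorem result {G : Type*} [Group G] [Finite G] (p : ℕ) (hp : p.Prime) (x : G) (hx : orderOf x = p) (hC : Subgroup.centralizer ({x} : Set G) = Subgroup.zpowers x) (t : ℕ) (ht : Nat.card {C : ConjClasses G // ∃ g ∈ C.carrier, orderOf g = p} = t) : Cfsg.pPrimeCore p G ≤ commutator G ∧ (t ≠ p - 1 → ∀ h : ((Cfsg.pPrimeCore p G).subgroupOf (commutator G)).Normal, IsSimpleGroup (↥(commutator G) ⧸ (Cfsg.pPrimeCore p G).subgroupOf (commutator G))) ∧ (t = p - 1 → commutator G = Cfsg.pPrimeCore p G) := by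
  have hcount := count p hp x hx hC
  rw [ht] at hcount
  have hp1 : 0 < p - 1 := Nat.sub_pos_of_lt hp.one_lt
  haveI hSn := pPrimeCore_normal (G := G) p
  have hSD : pPrimeCore p G ≤ commutator G :=
    normal_le_commutator p hp x hx hC _ (not_dvd_pPrimeCore p hp)
  refine ⟨hSD, ?_, ?_⟩
  · intro hne h
    have hNP : ¬ Subgroup.normalizer (Subgroup.zpowers x : Set G) ≤ Subgroup.zpowers x := by
      intro hNP
      rw [Subgroup.relIndex_eq_one.2 hNP, mul_one] at hcount
      exact hne hcount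
    obtain ⟨n₀, hn₀, hn₀P⟩ := SetLike.not_le_iff_exists.1 hNP
    have hxD : x ∈ commutator G :=
      le_commutator_of_ne p hp x hx hC n₀ hn₀ hn₀P (Subgroup.mem_zpowers x)
    have hxS : x ∉ pPrimeCore p G := by
      intro hxS
      have := inter_trivial p hp x hx (pPrimeCore p G) (not_dvd_pPrimeCore p hp) x hxS
        (Subgroup.mem_zpowers x)
      rw [this, orderOf_one] at hx
      exact hp.ne_one hx.symm
    have hnt : Nontrivial (↥(commutator G) ⧸ (pPrimeCore p G).subgroupOf (commutator G)) := by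
      refine ⟨⟨QuotientGroup.mk ⟨x, hxD⟩, 1, ?_⟩⟩
      intro h1
      rw [QuotientGroup.eq_one_iff, Subgroup.mem_subgroupOf] at h1
      exact hxS h1
    refine { toNontrivial := hnt, eq_bot_or_eq_top_of_normal := ?_ }
    intro H hH
    set M₀ : Subgroup (commutator G) :=
      H.comap (QuotientGroup.mk' ((pPrimeCore p G).subgroupOf (commutator G))) with hM₀
    have hM₀n : M₀.Normal := hH.comap _
    set M : Subgroup G := M₀.map (commutator G).subtype with hM
    have hMD : M ≤ commutator G := Subgroup.map_subtype_le _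
    have hSM : pPrimeCore p G ≤ M := by
      intro s hs
      refine Subgroup.mem_map.2 ⟨⟨s, hSD hs⟩, ?_, rfl⟩
      rw [hM₀, Subgroup.mem_comap]
      have : (QuotientGroup.mk' ((pPrimeCore p G).subgroupOf (commutator G))) ⟨s, hSD hs⟩ = 1 := by
        rw [QuotientGroup.mk'_apply, QuotientGroup.eq_one_iff, Subgroup.mem_subgroupOf]
        exact hs
      rw [this]; exact H.one_mem
    have hnorm : ∀ d ∈ commutator G, ∀ m ∈ M, d * m * d⁻¹ ∈ M := by
      intro d hd m hm
      obtain ⟨m₀, hm₀, rfl⟩ := Subgroup.mem_map.1 hm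
      refine Subgroup.mem_map.2 ⟨⟨d, hd⟩ * m₀ * ⟨d, hd⟩⁻¹, hM₀n.conj_mem m₀ hm₀ ⟨d, hd⟩, ?_⟩
      simp
    rcases core_claim p hp x hx hC n₀ hn₀ hn₀P M hSM hMD hnorm with h1 | h1
    · left
      rw [eq_bot_iff]
      intro q hq
      obtain ⟨d, rfl⟩ := QuotientGroup.mk_surjective q
      have hd : d ∈ M₀ := hq
      have hdM : (d : G) ∈ M := Subgroup.mem_map.2 ⟨d, hd, rfl⟩
      rw [h1] at hdM
      rw [Subgroup.mem_bot, QuotientGroup.eq_one_iff, Subgroup.mem_subgroupOf]
      exact hdM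
    · right
      rw [eq_top_iff]
      intro q _
      obtain ⟨d, rfl⟩ := QuotientGroup.mk_surjective q
      have hdM : (d : G) ∈ M := by rw [h1]; exact d.2
      obtain ⟨m₀, hm₀, hm₀d⟩ := Subgroup.mem_map.1 hdM
      have : m₀ = d := Subtype.ext hm₀d
      rw [this] at hm₀
      exact hm₀
  · intro heq
    rw [heq] at hcount
    have he1 : (Subgroup.zpowers x).relIndex
        (Subgroup.normalizer (Subgroup.zpowers x : Set G)) = 1 :=
      Nat.eq_of_mul_eq_mul_left hp1 (hcount.trans (mul_one _).symm)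
    have hidx := index_eq_of_le p hp x hx hC (Subgroup.relIndex_eq_one.1 he1)
    apply le_antisymm _ hSD
    apply le_pPrimeCore inferInstance
    haveI : Fact p.Prime := ⟨hp⟩
    have hfac := factorization_eq_one p hp x hx hC
    have hmul := (commutator G).card_mul_index
    rw [hidx] at hmul
    apply Nat.Coprime.symm
    rw [Nat.Prime.coprime_iff_not_dvd hp]
    intro hdvd
    have h2 : p ^ 2 ∣ Nat.card G := by
      rw [← hmul, pow_two]; exact Nat.mul_dvd_mul_right hdvd p
    have h3 := (Nat.Prime.pow_dvd_iff_le_factorization hp (Nat.card_pos.ne')).1 h2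
    omega

end Cfsg.Agent.S4497
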