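import Mathlib
import Cfsg.Agent.Lib_helper22_HtZero9
import Cfsg.Statements.S4499
-- import your own Cfsg.Agent.* helpers here

set_option autoImplicit false
open Cfsg

namespace Cfsg.Agent.S4499

/-- Let G be a finite group whose order has p-part p^a (a ≥ 1), and fix a maximal ideal M of the algebraic integers containing p. If the degree of one irreducible character of a p-block B is divisible by p^(a−1), then the degree of every irreducible character in B is divisible by p^(a−1) (so B has defect at most 1). -/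
theorem result {G : Type*} [Group G] [Finite G] (p : ℕ) [Fact p.Prime] (M : Ideal Cfsg.AlgInt) (hM : Cfsg.IsPModular p M) (hpa : p ∣ Nat.card G) (B : Set (Cfsg.IrrCharacter G)) (hB : Cfsg.IsPBlock M B) (χ : Cfsg.IrrCharacter G) (hχ : χ ∈ B) (hdiv : p ^ ((Nat.card G).factorization p - 1) ∣ Cfsg.charDegree (χ : G → ℂ)) (ψ : Cfsg.IrrCharacter G) (hψ : ψ ∈ B) : p ^ ((Nat.card G).factorization p - 1) ∣ Cfsg.charDegree (ψ : G → ℂ) := by
  classical
  haveI := Fintype.ofFinite G
  have hp : p.Prime := Fact.out
  obtain ⟨e₀, ψ₀, hψ₀B, he₀, hh₀, hda, hdec, hlea⟩ := Cfsg.Agent.helper22.block_data p hM B hB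
  have hχpos := Cfsg.Agent.helper24.irr_charDegree_pos χ.2
  have hψpos := Cfsg.Agent.helper24.irr_charDegree_pos ψ.2
  have h1 : (Nat.card G).factorization p - 1 ≤ (Cfsg.charDegree (χ : G → ℂ)).factorization p :=
    (hp.pow_dvd_iff_le_factorization hχpos.ne').mp hdiv
  have h2 := hdec χ hχ
  have key : (Nat.card G).factorization p - 1 ≤ e₀ := by
    by_contra hlt
    have hne : Cfsg.blockHeight p B (χ : G → ℂ) ≠ 0 := by omega
    have h3 := Cfsg.Agent.helper22.pos_height_bound p hM B hB hχ hne
    omega
  have h3 := hdec ψ hψ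
  exact (hp.pow_dvd_iff_le_factorization hψpos.ne').mpr (by omega)

end Cfsg.Agent.S4499
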