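import Mathlib
import Cfsg.Agent.S4497
import Cfsg.Statements.S4509

set_option autoImplicit false
set_option linter.style.haveILetI false
set_option linter.unusedSectionVars false
open Cfsg
open scoped Pointwise commutatorElement

namespace Cfsg.Agent.S4509

open Cfsg.Agent.S4496 Cfsg.Agent.S4495 Cfsg.Agent.S4497 Cfsg.Agent.helper1

section
variable {G : Type*} [Group G] [Finite G] (p : ℕ) (hp : p.Prime) (x : G) (hx : orderOf x = p)
  (hC : Subgroup.centralizer ({x} : Set G) = Subgroup.zpowers x)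

include hp hx hC in
theorem card_subgroups_eq_index :
    Nat.card {H : Subgroup G // Nat.card H = p} =
      (Subgroup.normalizer (Subgroup.zpowers x : Set G)).index := by
  haveI : Fact p.Prime := ⟨hp⟩
  obtain ⟨P, hP⟩ := exists_sylow_eq p hp x hx hC
  rw [card_subgroups_eq p hp x hx hC, Sylow.card_eq_index_normalizer P, ← Sylow.coe_coe, hP]

include hp hx hC in
theorem disjoint_normalizer (S : Subgroup G) [S.Normal] (hS : ¬ p ∣ Nat.card S) :
    Disjoint S (Subgroup.normalizer (Subgroup.zpowers x : Set G)) := by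
  rw [Subgroup.disjoint_def]
  intro s hs hsN
  exact inter_normalizer_trivial p hp x hx hC S hS s hs hsN

include hp hx hC in
theorem mem_mul_of_comm_mem (S : Subgroup G) [S.Normal] (hS : ¬ p ∣ Nat.card S) (d : G)
    (hd : x⁻¹ * (d * x * d⁻¹) ∈ S) : ∃ s ∈ S, ∃ u ∈ Subgroup.zpowers x, d = s * u := by
  obtain ⟨s, hs, hsw⟩ := exists_conj_eq p hp x hx hC S hS _ hd
  have h2 : s * x * s⁻¹ = d * x * d⁻¹ := mul_left_cancel hsw
  have h3 : (s⁻¹ * d) * x = x * (s⁻¹ * d) := by
    have := congrArg (fun u => s⁻¹ * u * d) h2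
    simpa [mul_assoc] using this.symm
  exact ⟨s, hs, s⁻¹ * d, mem_zpowers_of_comm x hC _ h3, by group⟩

include hC in
theorem comm_normalizer_mem (n₁ n₂ : G)
    (h₁ : n₁ ∈ Subgroup.normalizer (Subgroup.zpowers x : Set G))
    (h₂ : n₂ ∈ Subgroup.normalizer (Subgroup.zpowers x : Set G)) :
    ⁅n₁, n₂⁆ ∈ Subgroup.zpowers x := by
  have := normalizer_comm x hC n₁⁻¹ n₂⁻¹ (Subgroup.inv_mem _ h₁) (Subgroup.inv_mem _ h₂)
  have e : (n₂⁻¹ * n₁⁻¹)⁻¹ * (n₁⁻¹ * n₂⁻¹) = ⁅n₁, n₂⁆ := by
    rw [commutatorElement_def]; group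
  rwa [e] at this

theorem comm_mod (S : Subgroup G) [hSn : S.Normal] (g h a b s₁ s₂ : G) (hs₁ : s₁ ∈ S)
    (hs₂ : s₂ ∈ S) (hg : g = s₁ * a) (hh : h = s₂ * b) : (⁅a, b⁆)⁻¹ * ⁅g, h⁆ ∈ S := by
  have e₁ : (QuotientGroup.mk g : G ⧸ S) = QuotientGroup.mk a := by
    rw [hg, QuotientGroup.mk_mul, (QuotientGroup.eq_one_iff s₁).2 hs₁, one_mul]
  have e₂ : (QuotientGroup.mk h : G ⧸ S) = QuotientGroup.mk b := by
    rw [hh, QuotientGroup.mk_mul, (QuotientGroup.eq_one_iff s₂).2 hs₂, one_mul]
  rw [← QuotientGroup.eq]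
  simp only [commutatorElement_def, QuotientGroup.mk_mul, QuotientGroup.mk_inv, e₁, e₂]

include hp hx hC in
theorem card_eq_index_of_sup_eq_top (S : Subgroup G) [S.Normal] (hS : ¬ p ∣ Nat.card S)
    (htop : S ⊔ Subgroup.normalizer (Subgroup.zpowers x : Set G) = ⊤) :
    Nat.card S = (Subgroup.normalizer (Subgroup.zpowers x : Set G)).index := by
  have hdisj := disjoint_normalizer p hp x hx hC S hS
  have hmul : (S : Set G) * (Subgroup.normalizer (Subgroup.zpowers x : Set G) : Set G) =
      Set.univ := by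
    rw [← Subgroup.normal_mul, htop]; rfl
  have hcompl := Subgroup.isComplement'_of_disjoint_and_mul_eq_univ hdisj hmul
  have h1 := hcompl.card_mul_card
  have h2 := (Subgroup.normalizer (Subgroup.zpowers x : Set G)).card_mul_index
  have : Nat.card (Subgroup.normalizer (Subgroup.zpowers x : Set G)) * Nat.card S =
      Nat.card (Subgroup.normalizer (Subgroup.zpowers x : Set G)) *
        (Subgroup.normalizer (Subgroup.zpowers x : Set G)).index := by
    rw [h2, ← h1, mul_comm]
  exact Nat.eq_of_mul_eq_mul_left Nat.card_pos this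

include hp hx in
theorem card_sup_zpowers (S : Subgroup G) [S.Normal] (hS : ¬ p ∣ Nat.card S) :
    Nat.card (S ⊔ Subgroup.zpowers x : Subgroup G) = Nat.card S * p := by
  have hPcard : Nat.card (Subgroup.zpowers x) = p := by rw [Nat.card_zpowers, hx]
  have h1 : Nat.card (S ⊔ Subgroup.zpowers x : Subgroup G) ∣
      Nat.card S * Nat.card (Subgroup.zpowers x) := card_sup_dvd_mul S _
  have h2 : Nat.card S ∣ Nat.card (S ⊔ Subgroup.zpowers x : Subgroup G) :=
    Subgroup.card_dvd_of_le le_sup_left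
  have h3 : Nat.card (Subgroup.zpowers x) ∣ Nat.card (S ⊔ Subgroup.zpowers x : Subgroup G) :=
    Subgroup.card_dvd_of_le le_sup_right
  have hcop : (Nat.card S).Coprime (Nat.card (Subgroup.zpowers x)) := by
    rw [hPcard]; exact ((Nat.Prime.coprime_iff_not_dvd hp).2 hS).symm
  have h4 := Nat.Coprime.mul_dvd_of_dvd_of_dvd hcop h2 h3
  rw [hPcard] at h1 h4
  exact Nat.dvd_antisymm h1 h4

include hp hx hC in
theorem derived_case (n₀ : G) (hn₀ : n₀ ∈ Subgroup.normalizer (Subgroup.zpowers x : Set G))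
    (hn₀P : n₀ ∉ Subgroup.zpowers x)
    (hne : ⁅commutator G, commutator G⁆ ≠ commutator G) :
    Nat.card (⁅commutator G, commutator G⁆ : Subgroup G) =
        (Subgroup.normalizer (Subgroup.zpowers x : Set G)).index ∧
      Nat.card (commutator G) =
        p * (Subgroup.normalizer (Subgroup.zpowers x : Set G)).index := by
  haveI : Fact p.Prime := ⟨hp⟩
  haveI hSn := pPrimeCore_normal (G := G) p
  have hSnd := not_dvd_pPrimeCore (G := G) p hp
  have hPD : Subgroup.zpowers x ≤ commutator G :=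
    le_commutator_of_ne p hp x hx hC n₀ hn₀ hn₀P
  have hxD : x ∈ commutator G := hPD (Subgroup.mem_zpowers x)
  have hSD : pPrimeCore p G ≤ commutator G := normal_le_commutator p hp x hx hC _ hSnd
  have hDDle : ⁅commutator G, commutator G⁆ ≤ commutator G :=
    Subgroup.commutator_le_right _ _
  have hpDD : ¬ p ∣ Nat.card (⁅commutator G, commutator G⁆ : Subgroup G) := by
    intro hdvd
    exact hne (le_antisymm hDDle (part_a p hp x hx hC _ hdvd))
  have hDDS : ⁅commutator G, commutator G⁆ ≤ pPrimeCore p G :=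
    le_pPrimeCore inferInstance ((Nat.Prime.coprime_iff_not_dvd hp).2 hpDD).symm
  have hdec : ∀ d ∈ commutator G, ∃ s ∈ pPrimeCore p G, ∃ u ∈ Subgroup.zpowers x,
      d = s * u := by
    intro d hd
    apply mem_mul_of_comm_mem p hp x hx hC (pPrimeCore p G) hSnd d
    apply hDDS
    have : ⁅x⁻¹, d⁆ ∈ ⁅commutator G, commutator G⁆ :=
      Subgroup.commutator_mem_commutator ((commutator G).inv_mem hxD) hd
    rw [commutatorElement_def, inv_inv] at this
    have e : x⁻¹ * (d * x * d⁻¹) = x⁻¹ * d * x * d⁻¹ := by group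
    rw [e]; exact this
  have hSDD : pPrimeCore p G ≤ ⁅commutator G, commutator G⁆ := by
    intro w hw
    obtain ⟨s, hs, rfl⟩ := exists_conj_eq p hp x hx hC (pPrimeCore p G) hSnd w hw
    have : ⁅x⁻¹, s⁆ ∈ ⁅commutator G, commutator G⁆ :=
      Subgroup.commutator_mem_commutator ((commutator G).inv_mem hxD) (hSD hs)
    rw [commutatorElement_def, inv_inv] at this
    have e : x⁻¹ * (s * x * s⁻¹) = x⁻¹ * s * x * s⁻¹ := by group
    rw [e]; exact this
  have hDDeq : ⁅commutator G, commutator G⁆ = pPrimeCore p G := le_antisymm hDDS hSDD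
  obtain ⟨P, hP⟩ := exists_sylow_eq p hp x hx hC
  have hPS : (P : Subgroup G) ≤ commutator G := by rw [hP]; exact hPD
  have hfr := Sylow.normalizer_sup_eq_top' P hPS
  rw [← Sylow.coe_coe, hP] at hfr
  have hDle : commutator G ≤
      pPrimeCore p G ⊔ Subgroup.normalizer (Subgroup.zpowers x : Set G) := by
    intro d hd
    obtain ⟨s, hs, u, hu, rfl⟩ := hdec d hd
    exact Subgroup.mul_mem _ (Subgroup.mem_sup_left hs)
      (Subgroup.mem_sup_right (Subgroup.le_normalizer hu))
  have htop : pPrimeCore p G ⊔ Subgroup.normalizer (Subgroup.zpowers x : Set G) = ⊤ := by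
    rw [eq_top_iff, ← hfr]
    exact sup_le le_sup_right hDle
  have hScard := card_eq_index_of_sup_eq_top p hp x hx hC (pPrimeCore p G) hSnd htop
  have hDeq : commutator G = pPrimeCore p G ⊔ Subgroup.zpowers x := by
    apply le_antisymm
    · intro d hd
      obtain ⟨s, hs, u, hu, rfl⟩ := hdec d hd
      exact Subgroup.mul_mem _ (Subgroup.mem_sup_left hs) (Subgroup.mem_sup_right hu)
    · exact sup_le hSD hPD
  have hDcard : Nat.card (commutator G) = Nat.card (pPrimeCore p G) * p := by
    have := card_sup_zpowers p hp x hx (pPrimeCore p G) hSnd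
    rw [← hDeq] at this
    exact this
  refine ⟨by rw [hDDeq]; exact hScard, by rw [hDcard, hScard, mul_comm]⟩

include hp hx hC in
theorem derived_le_of_normal (S : Subgroup G) [hSn : S.Normal] (hS : ¬ p ∣ Nat.card S)
    (hcard : Nat.card S = (Subgroup.normalizer (Subgroup.zpowers x : Set G)).index) :
    ⁅commutator G, commutator G⁆ ≤ S := by
  have hdisj := disjoint_normalizer p hp x hx hC S hS
  have hmulcard : Nat.card S * Nat.card (Subgroup.normalizer (Subgroup.zpowers x : Set G)) =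
      Nat.card G := by
    rw [hcard, mul_comm]
    exact (Subgroup.normalizer (Subgroup.zpowers x : Set G)).card_mul_index
  have hcompl := Subgroup.isComplement'_of_card_mul_and_disjoint hmulcard hdisj
  have htop : S ⊔ Subgroup.normalizer (Subgroup.zpowers x : Set G) = ⊤ := hcompl.sup_eq_top
  have hdecomp : ∀ g : G, ∃ s ∈ S, ∃ n ∈ Subgroup.normalizer (Subgroup.zpowers x : Set G),
      g = s * n := by
    intro g
    have hg : g ∈ ((S ⊔ Subgroup.normalizer (Subgroup.zpowers x : Set G) : Subgroup G) :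
        Set G) := by
      rw [htop]; trivial
    rw [Subgroup.normal_mul, Set.mem_mul] at hg
    obtain ⟨s, hs, n, hn, rfl⟩ := hg
    exact ⟨s, hs, n, hn, rfl⟩
  have hR : commutator G ≤ S ⊔ Subgroup.zpowers x := by
    rw [commutator_def, Subgroup.commutator_le]
    intro g _ h _
    obtain ⟨s₁, hs₁, n₁, hn₁, hg⟩ := hdecomp g
    obtain ⟨s₂, hs₂, n₂, hn₂, hh⟩ := hdecomp h
    have h1 := comm_mod S g h n₁ n₂ s₁ s₂ hs₁ hs₂ hg hh
    have h2 := comm_normalizer_mem x hC n₁ n₂ hn₁ hn₂
    have e : ⁅g, h⁆ = ⁅n₁, n₂⁆ * ((⁅n₁, n₂⁆)⁻¹ * ⁅g, h⁆) := by group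
    rw [e]
    exact Subgroup.mul_mem _ (Subgroup.mem_sup_right h2) (Subgroup.mem_sup_left h1)
  have hD : ∀ d ∈ commutator G, ∃ s ∈ S, ∃ u ∈ Subgroup.zpowers x, d = s * u := by
    intro d hd
    have hd' : d ∈ ((S ⊔ Subgroup.zpowers x : Subgroup G) : Set G) := hR hd
    rw [Subgroup.normal_mul, Set.mem_mul] at hd'
    obtain ⟨s, hs, u, hu, rfl⟩ := hd'
    exact ⟨s, hs, u, hu, rfl⟩
  rw [Subgroup.commutator_le]
  intro a ha b hb
  obtain ⟨s₁, hs₁, u₁, hu₁, haeq⟩ := hD a ha
  obtain ⟨s₂, hs₂, u₂, hu₂, hbeq⟩ := hD b hb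
  have h1 := comm_mod S a b u₁ u₂ s₁ s₂ hs₁ hs₂ haeq hbeq
  have h2 : ⁅u₁, u₂⁆ = 1 := by
    rw [commutatorElement_eq_one_iff_commute]; exact comm_of_mem x u₁ u₂ hu₁ hu₂
  rw [h2, inv_one, one_mul] at h1
  exact h1

end

theorem result {G : Type*} [Group G] [Finite G] (p : ℕ) (hp : p.Prime) (x : G) (hx : orderOf x = p) (hC : Subgroup.centralizer ({x} : Set G) = Subgroup.zpowers x) (t : ℕ) (ht : Nat.card {C : ConjClasses G // ∃ g ∈ C.carrier, orderOf g = p} = t) (n : ℕ) (hn : Nat.card {H : Subgroup G // Nat.card H = p} = 1 + n * p) : ((∃ S : Subgroup G, S.Normal ∧ Nat.card S = 1 + n * p) ↔ (t = p - 1 ∨ (t < p - 1 ∧ derivedSeries G 2 ≠ derivedSeries G 1))) ∧ (t = p - 1 → Nat.card (commutator G) = 1 + n * p ∧ IsCyclic (G ⧸ commutator G) ∧ (commutator G).index = p) ∧ (t < p - 1 → derivedSeries G 2 ≠ derivedSeries G 1 → Nat.card (derivedSeries G 2) = 1 + n * p ∧ Nat.card (commutator G) = p * (1 + n * p)) := by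
  haveI : Fact p.Prime := ⟨hp⟩
  have hcount := count p hp x hx hC
  rw [ht] at hcount
  have hp1 : 0 < p - 1 := Nat.sub_pos_of_lt hp.one_lt
  have hm : (Subgroup.normalizer (Subgroup.zpowers x : Set G)).index = 1 + n * p := by
    rw [← card_subgroups_eq_index p hp x hx hC, hn]
  have h2eq : derivedSeries G 2 = ⁅commutator G, commutator G⁆ := rfl
  have h1eq : derivedSeries G 1 = commutator G := rfl
  have hII : t = p - 1 → Nat.card (commutator G) = 1 + n * p ∧
      IsCyclic (G ⧸ commutator G) ∧ (commutator G).index = p := by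
    intro heq
    rw [heq] at hcount
    have he1 : (Subgroup.zpowers x).relIndex
        (Subgroup.normalizer (Subgroup.zpowers x : Set G)) = 1 :=
      Nat.eq_of_mul_eq_mul_left hp1 (hcount.trans (mul_one _).symm)
    have hNP := Subgroup.relIndex_eq_one.1 he1
    have hidx := index_eq_of_le p hp x hx hC hNP
    have hNeq : Subgroup.normalizer (Subgroup.zpowers x : Set G) = Subgroup.zpowers x :=
      le_antisymm hNP Subgroup.le_normalizer
    have hNcard : Nat.card (Subgroup.normalizer (Subgroup.zpowers x : Set G)) = p := by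
      rw [hNeq, Nat.card_zpowers, hx]
    have h1 := (commutator G).card_mul_index
    have h2 := (Subgroup.normalizer (Subgroup.zpowers x : Set G)).card_mul_index
    rw [hidx] at h1
    rw [hNcard, hm] at h2
    have hD : Nat.card (commutator G) = 1 + n * p := by
      have : Nat.card (commutator G) * p = (1 + n * p) * p := by rw [h1, ← h2, mul_comm]
      exact Nat.eq_of_mul_eq_mul_right hp.pos this
    refine ⟨hD, ?_, hidx⟩
    have : Nat.card (G ⧸ commutator G) = p := by rw [← Subgroup.index_eq_card, hidx]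
    exact isCyclic_of_prime_card this
  have hIII : t < p - 1 → derivedSeries G 2 ≠ derivedSeries G 1 →
      Nat.card (derivedSeries G 2) = 1 + n * p ∧
        Nat.card (commutator G) = p * (1 + n * p) := by
    intro hlt hne
    have hNP : ¬ Subgroup.normalizer (Subgroup.zpowers x : Set G) ≤ Subgroup.zpowers x := by
      intro hNP
      rw [Subgroup.relIndex_eq_one.2 hNP, mul_one] at hcount
      omega
    obtain ⟨n₀, hn₀, hn₀P⟩ := SetLike.not_le_iff_exists.1 hNP
    rw [h2eq, h1eq] at hne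
    rw [h2eq, ← hm]
    exact derived_case p hp x hx hC n₀ hn₀ hn₀P hne
  refine ⟨⟨?_, ?_⟩, hII, hIII⟩
  · rintro ⟨S, hSn, hScard⟩
    haveI := hSn
    have hSnd : ¬ p ∣ Nat.card S := by
      rw [hScard]
      intro h
      have h1 : p ∣ 1 := (Nat.dvd_add_left (dvd_mul_left p n)).1 h
      exact hp.one_lt.ne' (Nat.dvd_one.1 h1)
    have hcases : t = p - 1 ∨ t < p - 1 := by
      obtain ⟨e, he⟩ : ∃ e, e = (Subgroup.zpowers x).relIndex
          (Subgroup.normalizer (Subgroup.zpowers x : Set G)) := ⟨_, rfl⟩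
      rw [← he] at hcount
      have hepos : 0 < e := by
        rcases Nat.eq_zero_or_pos e with h | h
        · rw [h, mul_zero] at hcount; omega
        · exact h
      have : t ≤ t * e := Nat.le_mul_of_pos_right t hepos
      omega
    rcases hcases with h | h
    · left; exact h
    · right
      refine ⟨h, ?_⟩
      have hNP : ¬ Subgroup.normalizer (Subgroup.zpowers x : Set G) ≤ Subgroup.zpowers x := by
        intro hNP
        rw [Subgroup.relIndex_eq_one.2 hNP, mul_one] at hcount
        omega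
      obtain ⟨n₀, hn₀, hn₀P⟩ := SetLike.not_le_iff_exists.1 hNP
      have hxD : x ∈ commutator G :=
        le_commutator_of_ne p hp x hx hC n₀ hn₀ hn₀P (Subgroup.mem_zpowers x)
      have hDDS := derived_le_of_normal p hp x hx hC S hSnd (by rw [hScard, hm])
      intro heq
      rw [h2eq, h1eq] at heq
      have hxS : x ∈ S := hDDS (by rw [heq]; exact hxD)
      have := inter_trivial p hp x hx S hSnd x hxS (Subgroup.mem_zpowers x)
      rw [this, orderOf_one] at hx
      exact hp.ne_one hx.symm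
  · rintro (h | ⟨h1, h2⟩)
    · exact ⟨commutator G, inferInstance, (hII h).1⟩
    · exact ⟨derivedSeries G 2, derivedSeries_normal G 2, (hIII h1 h2).1⟩

end Cfsg.Agent.S4509
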