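import Cfsg.Statements.S4510
import Cfsg.Agent.Lib_helper8_DefectCount

set_option autoImplicit false
open Cfsg

namespace Cfsg.Agent.S4510

open Cfsg.Agent.helper24 Cfsg.Agent.helper8.DefectCount

/-- Let G be a finite group, p a prime, M a maximal ideal of the algebraic integers containing p, and call the defect of a conjugacy class the exponent of p in the order of the centralizer of its elements. Two irreducible characters lying in p-blocks of defect exactly d lie in the same block if and only if their central characters (class size times χ(x)/χ(1)) agree modulo the local ideal at M at every p-regular element x whose class has defect exactly d. -/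
theorem result {G : Type*} [Group G] [Finite G] (p : ℕ) [Fact p.Prime] (M : Ideal Cfsg.AlgInt) (hM : Cfsg.IsPModular p M) (d : ℕ) (χ ψ : Cfsg.IrrCharacter G) (hχ : Cfsg.blockDefect p (Cfsg.blockOf M (χ : G → ℂ)) = d) (hψ : Cfsg.blockDefect p (Cfsg.blockOf M (ψ : G → ℂ)) = d) : Cfsg.SameBlock M (χ : G → ℂ) (ψ : G → ℂ) ↔ ∀ x : G, ¬ p ∣ orderOf x → (Nat.card (Subgroup.centralizer ({x} : Set G))).factorization p = d → Cfsg.MemLocalIdeal M (Cfsg.centralChar (χ : G → ℂ) x - Cfsg.centralChar (ψ : G → ℂ) x) := by
  classical
  haveI : Fintype G := Fintype.ofFinite G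
  haveI hMp : M.IsPrime := hM.2.1.isPrime
  constructor
  · intro h x _ _
    exact h x
  · intro h
    set B := blockOf M (χ : G → ℂ) with hBdef
    set B' := blockOf M (ψ : G → ℂ) with hB'def
    have hB : IsPBlock M B := ⟨χ, rfl⟩
    have hB' : IsPBlock M B' := ⟨ψ, rfl⟩
    have hχB : χ ∈ B := sameBlock_refl M hMp.ne_top _
    have hψB' : ψ ∈ B' := sameBlock_refl M hMp.ne_top _
    obtain ⟨hcf, hl, ho, -⟩ := blockCoeff_props (M := M) χ
    have h1 := ho χ
    have h2 := ho ψ
    rw [if_pos hχB, omegaFn_eq_sum_classes (irr_isCharacter χ.2) hcf] at h1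
    rw [omegaFn_eq_sum_classes (irr_isCharacter ψ.2) hcf] at h2
    have hdiff : MemLocalIdeal M
        (∑ C : ConjClasses G, blockCoeff B (Quotient.out C) * centralChar (χ : G → ℂ) (Quotient.out C) -
          ∑ C : ConjClasses G, blockCoeff B (Quotient.out C) * centralChar (ψ : G → ℂ) (Quotient.out C)) := by
      rw [← Finset.sum_sub_distrib]
      refine memLocalIdeal_sum _ _ (fun C _ => ?_)
      set g := Quotient.out C with hg
      by_cases hgood : ¬ p ∣ orderOf g ∧
          (Nat.card (Subgroup.centralizer ({g} : Set G))).factorization p = d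
      · rw [← mul_sub]
        exact memLocalIdeal_mul_left (hl g) (h g hgood.1 hgood.2)
      · have e1 : MemLocalIdeal M (blockCoeff B g * centralChar (χ : G → ℂ) g) := by
          by_contra hnot
          obtain ⟨k1, k2, k3⟩ := key hM hB hB hχB g hnot
          exact hgood ⟨k1, by omega⟩
        have e2 : MemLocalIdeal M (blockCoeff B g * centralChar (ψ : G → ℂ) g) := by
          by_contra hnot
          obtain ⟨k1, k2, k3⟩ := key hM hB hB' hψB' g hnot
          exact hgood ⟨k1, by omega⟩
        exact memLocalIdeal_sub e1 e2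
    rw [h1, h2] at hdiff
    by_contra hcon
    have hψ : ψ ∉ B := hcon
    rw [if_neg hψ, sub_zero] at hdiff
    exact not_memLocalIdeal_one hdiff

end Cfsg.Agent.S4510
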