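import Cfsg.Statements.S4518
import Cfsg.Agent.Lib_helper1_GalChar
import Cfsg.Agent.Lib_helper22_Clifford

set_option autoImplicit false
open Cfsg
open Cfsg.Agent.helper24 Cfsg.Agent.helper22
open scoped ComplexConjugate

namespace Cfsg.Agent.S4518

/-- Let N be a normal subgroup of the finite group G whose index is not divisible by the prime p, and let k be coprime to the order of G with k ^ (p ^ e) ≡ 1 modulo the order of G for some e (so g ↦ g ^ k induces a field automorphism of p-power order on character values). If an irreducible character χ of G satisfies χ (g ^ k) = χ g for all g, then every irreducible constituent θ of the restriction of χ to N satisfies θ (n ^ k) = θ n for all n. -/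
theorem result {G : Type*} [Group G] [Fintype G] (p : ℕ) [Fact p.Prime] (N : Subgroup G) [N.Normal] [Fintype N] (hidx : ¬ p ∣ N.index) (k e : ℕ) (hk : Nat.Coprime k (Nat.card G)) (hke : k ^ (p ^ e) ≡ 1 [MOD Nat.card G]) (χ : Cfsg.IrrCharacter G) (hχ : ∀ g : G, (χ : G → ℂ) (g ^ k) = (χ : G → ℂ) g) (θ : Cfsg.IrrCharacter N) (hθ : Cfsg.classInner (fun n : N => (χ : G → ℂ) n) (θ : N → ℂ) ≠ 0) : ∀ n : N, (θ : N → ℂ) (n ^ k) = (θ : N → ℂ) n := by
  classical
  have := Fintype.ofFinite (IrrCharacter N)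
  have hkN : k.Coprime (Nat.card N) :=
    Nat.Coprime.coprime_dvd_right (Subgroup.card_subgroup_dvd_card N) hk
  have hχcl : IsClassFunction G (χ : G → ℂ) := char_isClassFunction (irr_isCharacter χ.2)
  let σ : IrrCharacter N → IrrCharacter N := fun θ' =>
    ⟨fun n => (θ' : N → ℂ) (n ^ k), Cfsg.Agent.helper1.isIrrCharacter_powMap k hkN θ'.2⟩
  -- σ preserves the multiplicity in χ_N
  have hstep1 : ∀ θ' : IrrCharacter N,
      classInner (fun n : N => (χ : G → ℂ) n) (σ θ' : N → ℂ) =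
        classInner (fun n : N => (χ : G → ℂ) n) (θ' : N → ℂ) := by
    intro θ'
    unfold classInner
    congr 1
    let eq : N ≃ N := powCoprime hkN.symm
    rw [← Equiv.sum_comp eq (fun m => (χ : G → ℂ) m * conj ((θ' : N → ℂ) m))]
    refine Finset.sum_congr rfl (fun n _ => ?_)
    have h1 : eq n = n ^ k := rfl
    show (χ : G → ℂ) n * conj ((θ' : N → ℂ) (n ^ k)) =
      (χ : G → ℂ) ((eq n : N) : G) * conj ((θ' : N → ℂ) (eq n))
    rw [h1, Subgroup.coe_pow, hχ]
  -- the set of constituents is the orbit of θ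
  have hset : {θ' : IrrCharacter N | classInner (fun n : N => (χ : G → ℂ) n) (θ' : N → ℂ) ≠ 0} =
      MulAction.orbit G θ := by
    ext θ'
    constructor
    · intro h
      obtain ⟨g, hg⟩ := Cfsg.Agent.helper5.clifford_conj N χ.2 θ.2 θ'.2 hθ h
      refine ⟨g⁻¹, ?_⟩
      apply Subtype.ext
      rw [conjIrr_smul_coe, inv_inv]
      exact hg.symm
    · rintro ⟨g, rfl⟩
      show classInner (fun n : N => (χ : G → ℂ) n) ((g • θ : IrrCharacter N) : N → ℂ) ≠ 0
      rw [conjIrr_smul_coe]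
      have := Cfsg.Agent.helper5.classInner_res_conjFunN N (χ : G → ℂ) hχcl g⁻¹ (θ : N → ℂ)
      have h2 : Cfsg.Agent.helper5.res N (χ : G → ℂ) = fun n : N => (χ : G → ℂ) n := rfl
      rw [h2] at this
      rw [this]
      exact hθ
  -- cardinality of the set of constituents divides the index
  have hcard : Fintype.card {θ' : IrrCharacter N //
      classInner (fun n : N => (χ : G → ℂ) n) (θ' : N → ℂ) ≠ 0} ∣ N.index := by
    have h1 : Fintype.card {θ' : IrrCharacter N //
        classInner (fun n : N => (χ : G → ℂ) n) (θ' : N → ℂ) ≠ 0} =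
        (MulAction.orbit G θ).ncard := by
      rw [← hset, ← Nat.card_eq_fintype_card]
      exact Nat.card_coe_set_eq _
    rw [h1, ← MulAction.index_stabilizer]
    exact Subgroup.index_dvd_of_le (le_inertia N θ)
  -- the induced map on constituents
  let f : Function.End {θ' : IrrCharacter N //
      classInner (fun n : N => (χ : G → ℂ) n) (θ' : N → ℂ) ≠ 0} :=
    fun x => ⟨σ x.1, by rw [hstep1]; exact x.2⟩
  have hiter : ∀ (m : ℕ) (x : {θ' : IrrCharacter N //
      classInner (fun n : N => (χ : G → ℂ) n) (θ' : N → ℂ) ≠ 0}) (n : N),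
      (((f^[m]) x).1 : N → ℂ) n = (x.1 : N → ℂ) (n ^ (k ^ m)) := by
    intro m
    induction m with
    | zero => intro x n; rw [Function.iterate_zero_apply, pow_zero, pow_one]
    | succ m ih =>
      intro x n
      rw [Function.iterate_succ_apply']
      show (((f^[m]) x).1 : N → ℂ) (n ^ k) = _
      rw [ih, ← pow_mul, pow_succ']
  have hf : f ^ p ^ e = 1 := by
    funext x
    apply Subtype.ext
    apply Subtype.ext
    funext n
    show (((f^[p ^ e]) x).1 : N → ℂ) n = (x.1 : N → ℂ) n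
    rw [hiter]
    have h1 : k ^ p ^ e ≡ 1 [MOD orderOf n] :=
      hke.of_dvd ((orderOf_dvd_natCard n).trans (Subgroup.card_subgroup_dvd_card N))
    have h2 := (pow_eq_pow_iff_modEq (x := n)).2 h1
    rw [h2, pow_one]
  have hmod := Equiv.Perm.card_fixedPoints_modEq (f := f) (p := p) (n := e) hf
  have hne : Fintype.card (Function.fixedPoints f) ≠ 0 := by
    intro h0
    rw [h0] at hmod
    have hdvd : p ∣ Fintype.card {θ' : IrrCharacter N //
        classInner (fun n : N => (χ : G → ℂ) n) (θ' : N → ℂ) ≠ 0} :=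
      (Nat.modEq_zero_iff_dvd).1 hmod
    exact hidx (hdvd.trans hcard)
  obtain ⟨⟨x₀, hx₀⟩⟩ := Fintype.card_pos_iff.1 (Nat.pos_of_ne_zero hne)
  have hfix : σ x₀.1 = x₀.1 := congrArg Subtype.val hx₀
  obtain ⟨g, hg⟩ := Cfsg.Agent.helper5.clifford_conj N χ.2 θ.2 x₀.1.2 hθ x₀.2
  intro m
  have hmem : g⁻¹ * (m : G) * g ∈ N := by
    have := (inferInstance : N.Normal).conj_mem m m.2 g⁻¹
    simpa using this
  have e1 : (x₀.1 : N → ℂ) ⟨g⁻¹ * (m : G) * g, hmem⟩ = (θ : N → ℂ) m := by
    rw [hg, Cfsg.Agent.helper8.conjFunN_apply]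
    exact congrArg (θ : N → ℂ) (Subtype.ext (by simp [mul_assoc]))
  have e2 : (x₀.1 : N → ℂ) (⟨g⁻¹ * (m : G) * g, hmem⟩ ^ k) = (θ : N → ℂ) (m ^ k) := by
    rw [hg, Cfsg.Agent.helper8.conjFunN_apply]
    refine congrArg (θ : N → ℂ) (Subtype.ext ?_)
    show g * ((⟨g⁻¹ * (m : G) * g, hmem⟩ ^ k : N) : G) * g⁻¹ = ((m ^ k : N) : G)
    rw [Subgroup.coe_pow, Subgroup.coe_pow]
    show g * (g⁻¹ * (m : G) * g) ^ k * g⁻¹ = (m : G) ^ k
    have : g⁻¹ * (m : G) * g = g⁻¹ * (m : G) * g⁻¹⁻¹ := by rw [inv_inv]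
    rw [this, conj_pow]
    group
  have e3 : (x₀.1 : N → ℂ) (⟨g⁻¹ * (m : G) * g, hmem⟩ ^ k) =
      (x₀.1 : N → ℂ) ⟨g⁻¹ * (m : G) * g, hmem⟩ := by
    have := congrFun (congrArg Subtype.val hfix) ⟨g⁻¹ * (m : G) * g, hmem⟩
    exact this
  rw [← e2, e3, e1]

end Cfsg.Agent.S4518
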