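import Mathlib
import Cfsg.Agent.Lib_helper22_CentProd
import Cfsg.Agent.Lib_helper1_PrincCover
import Cfsg.Statements.S4521
-- import your own Cfsg.Agent.* helpers here

set_option autoImplicit false
open Cfsg

namespace Cfsg.Agent.S4521

/-- Let the finite group G be generated by subgroups U₁ and U₂ that commute elementwise and whose intersection is a p-group, and let M be a maximal ideal of the algebraic integers containing the prime p. If the irreducible character χ of G has the irreducible constituents ψ₁ on U₁ and ψ₂ on U₂, then χ lies in the principal block of G if and only if ψ₁ and ψ₂ lie in the principal blocks of U₁ and U₂. -/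
theorem result {G : Type*} [Group G] [Fintype G] (p : ℕ) [Fact p.Prime] (M : Ideal Cfsg.AlgInt) (hM : Cfsg.IsPModular p M) (U₁ U₂ : Subgroup G) [Fintype U₁] [Fintype U₂] (hcomm : ∀ u ∈ U₁, ∀ v ∈ U₂, u * v = v * u) (hgen : U₁ ⊔ U₂ = ⊤) (hZ : IsPGroup p ↥(U₁ ⊓ U₂)) (χ : Cfsg.IrrCharacter G) (ψ₁ : Cfsg.IrrCharacter U₁) (ψ₂ : Cfsg.IrrCharacter U₂) (h₁ : Cfsg.classInner (fun u : U₁ => (χ : G → ℂ) u) (ψ₁ : U₁ → ℂ) ≠ 0) (h₂ : Cfsg.classInner (fun u : U₂ => (χ : G → ℂ) u) (ψ₂ : U₂ → ℂ) ≠ 0) : χ ∈ Cfsg.principalBlock M G ↔ (ψ₁ ∈ Cfsg.principalBlock M U₁ ∧ ψ₂ ∈ Cfsg.principalBlock M U₂) := by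
  have hp : p.Prime := Fact.out
  rw [Cfsg.Agent.helper1.mem_principalBlock_iff_sum_ne_zero p M hM,
    Cfsg.Agent.helper1.mem_principalBlock_iff_sum_ne_zero p M hM,
    Cfsg.Agent.helper1.mem_principalBlock_iff_sum_ne_zero p M hM,
    Cfsg.Agent.helper22.preg_sum_centProd p U₁ U₂ hcomm hgen hZ (χ : G → ℂ)]
  have hcomm' : ∀ u ∈ U₂, ∀ v ∈ U₁, u * v = v * u := fun u hu v hv => (hcomm v hv u hu).symm
  have hgen' : U₂ ⊔ U₁ = ⊤ := by rw [sup_comm]; exact hgen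
  have hr1 := Cfsg.Agent.helper22.res_homogeneous_of_centProd U₁ U₂ hcomm hgen χ.2 ψ₁ h₁
  have hr2 := Cfsg.Agent.helper22.res_homogeneous_of_centProd U₂ U₁ hcomm' hgen' χ.2 ψ₂ h₂
  obtain ⟨c₁, hc₁⟩ : ∃ c₁ : ℂ, c₁ = Cfsg.classInner (fun u : U₁ => (χ : G → ℂ) u) (ψ₁ : U₁ → ℂ) :=
    ⟨_, rfl⟩
  obtain ⟨c₂, hc₂⟩ : ∃ c₂ : ℂ, c₂ = Cfsg.classInner (fun u : U₂ => (χ : G → ℂ) u) (ψ₂ : U₂ → ℂ) :=
    ⟨_, rfl⟩
  rw [← hc₁] at hr1 h₁
  rw [← hc₂] at hr2 h₂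
  obtain ⟨d, hd0, hd⟩ := Cfsg.Agent.helper24.irr_apply_one χ.2
  have hχ1 : (χ : G → ℂ) 1 ≠ 0 := by rw [hd]; exact_mod_cast hd0.ne'
  have key : ∀ (a : U₁) (b : U₂), (χ : G → ℂ) ((a : G) * (b : G)) =
      c₁ * c₂ / (χ : G → ℂ) 1 * ((ψ₁ : U₁ → ℂ) a * (ψ₂ : U₂ → ℂ) b) := by
    intro a b
    have h1 := Cfsg.Agent.helper22.char_mul_of_centProd U₁ U₂ hcomm hgen χ.2 a.2 b.2
    have h2 : (χ : G → ℂ) (a : G) = c₁ * (ψ₁ : U₁ → ℂ) a := by
      have := congrFun hr1 a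
      simpa using this
    have h3 : (χ : G → ℂ) (b : G) = c₂ * (ψ₂ : U₂ → ℂ) b := by
      have := congrFun hr2 b
      simpa using this
    rw [h2, h3] at h1
    field_simp
    linear_combination h1
  have hsum : (∑ a ∈ Finset.univ.filter (fun a : U₁ => ¬ p ∣ orderOf a),
      ∑ b ∈ Finset.univ.filter (fun b : U₂ => ¬ p ∣ orderOf b),
        (χ : G → ℂ) ((a : G) * (b : G))) =
      c₁ * c₂ / (χ : G → ℂ) 1 *
        ((∑ a ∈ Finset.univ.filter (fun a : U₁ => ¬ p ∣ orderOf a), (ψ₁ : U₁ → ℂ) a) *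
          (∑ b ∈ Finset.univ.filter (fun b : U₂ => ¬ p ∣ orderOf b), (ψ₂ : U₂ → ℂ) b)) := by
    rw [Finset.sum_mul_sum, Finset.mul_sum]
    refine Finset.sum_congr rfl (fun a _ => ?_)
    rw [Finset.mul_sum]
    refine Finset.sum_congr rfl (fun b _ => ?_)
    exact key a b
  rw [hsum]
  have hK : c₁ * c₂ / (χ : G → ℂ) 1 ≠ 0 := div_ne_zero (mul_ne_zero h₁ h₂) hχ1
  constructor
  · intro h
    have h2 := (mul_ne_zero_iff.mp h).2
    exact mul_ne_zero_iff.mp h2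
  · intro h
    exact mul_ne_zero hK (mul_ne_zero h.1 h.2)

end Cfsg.Agent.S4521
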