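import Cfsg.Statements.S4558
import Cfsg.Agent.Lib_helper23_Eigen

set_option autoImplicit false
open Cfsg

namespace Cfsg.Agent.S4558

/-- Let χ be a character of the finite group G and g an element of p-power order for the prime p. If χ g = 0, then p divides the degree of χ. -/
theorem result {G : Type*} [Group G] [Finite G] (p : ℕ) [Fact p.Prime] (χ : G → ℂ) (hχ : Cfsg.IsCharacter G χ) (g : G) (hg : ∃ j : ℕ, orderOf g = p ^ j) (h0 : χ g = 0) : p ∣ Cfsg.charDegree χ := by
  obtain ⟨n, ρ, rfl⟩ := hχ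
  obtain ⟨j, hj⟩ := hg
  have hm : g ^ (p ^ j) = 1 := by rw [← hj]; exact pow_orderOf_eq_one g
  obtain ⟨s, hcard, hs, hsum⟩ := Cfsg.Agent.helper23.character_eq_sum_roots_of_unity n ρ g (p ^ j) hm
  rw [Cfsg.Agent.helper23.charDegree_character, ← hcard]
  apply Cfsg.Agent.helper23.prime_dvd_card_of_sum_roots_of_unity_eq_zero p j s hs
  rw [← hsum]; exact h0

end Cfsg.Agent.S4558
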