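import Cfsg.Statements.S4565
import Mathlib
import Cfsg.Agent.Lib_helper1_FullRam

set_option autoImplicit false
set_option linter.style.haveILetI false
set_option linter.unusedVariables false
open Cfsg
open scoped ComplexConjugate

namespace Cfsg.Agent.S4565

/-- Let χ be an irreducible character of the finite group H that is fully ramified over the normal subgroup Z: the restriction of χ to Z is e times an irreducible character of Z with e ^ 2 equal to the index of Z. If Z ≠ H, then H/Z has no cyclic subgroup that is its own centralizer. -/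
theorem result {H : Type*} [Group H] [Finite H] (Z : Subgroup H) [Z.Normal] (χ : Cfsg.IrrCharacter H) (hfr : ∃ (θ : Cfsg.IrrCharacter ↥Z) (e : ℕ), e ^ 2 = Z.index ∧ ∀ z : ↥Z, (χ : H → ℂ) z = (e : ℂ) * (θ : ↥Z → ℂ) z) (hZ : Z ≠ ⊤) (C : Subgroup (H ⧸ Z)) (hC : IsCyclic C) : Subgroup.centralizer (C : Set (H ⧸ Z)) ≠ C := by
  classical
  obtain ⟨θ, e, he, hres⟩ := hfr
  intro hcent
  have : Fintype H := Fintype.ofFinite _
  have hχcf := helper24.char_isClassFunction (helper24.irr_isCharacter χ.2)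
  have hene : (e : ℂ) ≠ 0 := by
    have h0 : Z.index ≠ 0 := Subgroup.index_ne_zero_of_finite
    have : e ≠ 0 := by
      rintro rfl
      apply h0
      rw [← he]; norm_num
    exact_mod_cast this
  set K : Subgroup H := C.comap (QuotientGroup.mk' Z) with hK
  have hZK : Z ≤ K := by
    intro z hz
    rw [hK, Subgroup.mem_comap]
    have h1 : (QuotientGroup.mk' Z) z = 1 := (QuotientGroup.eq_one_iff z).mpr hz
    rw [h1]; exact C.one_mem
  obtain ⟨⟨t₀, ht₀⟩, hgen⟩ := hC.exists_generator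
  obtain ⟨c₀, rfl⟩ := QuotientGroup.mk_surjective t₀
  have hc₀K : c₀ ∈ K := ht₀
  have hpow : ∀ y : H ⧸ Z, y ∈ C → ∃ i : ℤ, (c₀ : H ⧸ Z) ^ i = y := by
    intro y hy
    obtain ⟨i, hi⟩ := Subgroup.mem_zpowers_iff.mp (hgen ⟨y, hy⟩)
    refine ⟨i, ?_⟩
    have h1 := congrArg Subtype.val hi
    simpa using h1
  -- c₀ ∉ Z
  have hc₀Z : c₀ ∉ Z := by
    intro hc₀
    have h1 : (c₀ : H ⧸ Z) = 1 := (QuotientGroup.eq_one_iff c₀).mpr hc₀
    have hCbot : ∀ y ∈ C, y = 1 := by
      intro y hy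
      obtain ⟨i, hi⟩ := hpow y hy
      rw [← hi, h1, one_zpow]
    have hall : ∀ y : H ⧸ Z, y ∈ C := by
      intro y
      rw [← hcent, Subgroup.mem_centralizer_iff]
      intro w hw
      rw [hCbot w hw]; simp
    apply hZ
    rw [eq_top_iff]
    intro h _
    exact (QuotientGroup.eq_one_iff h).mp (hCbot _ (hall _))
  -- invariance of θ
  have hθinv : ∀ (h z : H) (hz : z ∈ Z),
      (θ : Z → ℂ) ⟨h * z * h⁻¹, ‹Z.Normal›.conj_mem z hz h⟩ = (θ : Z → ℂ) ⟨z, hz⟩ := by
    intro h z hz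
    have h1 := hres ⟨h * z * h⁻¹, ‹Z.Normal›.conj_mem z hz h⟩
    have h2 := hres ⟨z, hz⟩
    have h3 : (χ : H → ℂ) (h * z * h⁻¹) = (χ : H → ℂ) z := hχcf z h
    have h4 : (e : ℂ) * (θ : Z → ℂ) ⟨h * z * h⁻¹, ‹Z.Normal›.conj_mem z hz h⟩
        = (e : ℂ) * (θ : Z → ℂ) ⟨z, hz⟩ := by
      rw [← h1, ← h2]; exact h3
    exact mul_left_cancel₀ hene h4
  have : Fintype K := Fintype.ofFinite _
  set N : Subgroup K := Z.subgroupOf K with hN
  have : Fintype N := Fintype.ofFinite _
  have : Fintype (IrrCharacter (K ⧸ N)) := Fintype.ofFinite _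
  set θ' : N → ℂ := fun n => (θ : Z → ℂ) ⟨((n : K) : H), Subgroup.mem_subgroupOf.mp n.2⟩ with hθ'
  have hθ'irr : IsIrrCharacter N θ' :=
    helper8.isIrrCharacter_comp_mulEquiv (Subgroup.subgroupOfEquivOfLe hZK) θ.2
  have hinv : ∀ (g : K) (n : N),
      θ' ⟨g * n * g⁻¹, (inferInstance : N.Normal).conj_mem (n : K) n.2 g⟩ = θ' n := by
    intro g n
    exact hθinv g.1 n.1.1 (Subgroup.mem_subgroupOf.mp n.2)
  set γ : K ⧸ N := ((⟨c₀, hc₀K⟩ : K) : K ⧸ N) with hγ
  have hgenK : ∀ x : K, ∃ i : ℤ, γ ^ i = (x : K ⧸ N) := by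
    intro x
    obtain ⟨i, hi⟩ := hpow ((x : H) : H ⧸ Z) x.2
    refine ⟨i, ?_⟩
    rw [hγ, ← QuotientGroup.mk_zpow, QuotientGroup.eq, hN, Subgroup.mem_subgroupOf]
    have h1 : ((c₀ ^ i)⁻¹ * (x : H) : H) ∈ Z := by
      rw [← QuotientGroup.eq, QuotientGroup.mk_zpow]; exact hi
    simpa using h1
  have hcycK : IsCyclic (K ⧸ N) := ⟨⟨γ, fun y => by
      obtain ⟨x, rfl⟩ := QuotientGroup.mk_surjective y
      obtain ⟨i, hi⟩ := hgenK x
      exact Subgroup.mem_zpowers_iff.mpr ⟨i, hi⟩⟩⟩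
  have habK : ∀ a b : K ⧸ N, a * b = b * a := by
    intro a b
    obtain ⟨x, rfl⟩ := QuotientGroup.mk_surjective a
    obtain ⟨y, rfl⟩ := QuotientGroup.mk_surjective b
    obtain ⟨i, hi⟩ := hgenK x
    obtain ⟨j, hj⟩ := hgenK y
    rw [← hi, ← hj]
    exact ((Commute.refl γ).zpow_zpow i j).eq
  obtain ⟨ψ, hψ, hψres⟩ := helper22.exists_char_extension_of_cyclic N hcycK hθ'irr hinv
  have hψcf := helper24.char_isClassFunction (helper24.irr_isCharacter hψ)
  have hresirr : IsIrrCharacter N (helper5.res N ψ) := by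
    have : helper5.res N ψ = θ' := funext hψres
    rw [this]; exact hθ'irr
  obtain ⟨G1, G2, _⟩ := helper22.gallagher N hψ hresirr
  set η : IrrCharacter (K ⧸ N) → K → ℂ := fun β => helper22.infl N (β : K ⧸ N → ℂ) * ψ with hη
  have hηapp : ∀ (β : IrrCharacter (K ⧸ N)) (k : K),
      η β k = (β : K ⧸ N → ℂ) (k : K ⧸ N) * ψ k := fun β k => rfl
  have hvanβ : ∀ (β : IrrCharacter (K ⧸ N)) (c : H), c ∉ Z → indFun K (η β) c = 0 := by
    intro β c hc
    refine helper1.fullram_ind_vanish Z K hZK χ.2 θ.2 e he hres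
      (helper24.irr_isCharacter (G1 β)) (charDegree (β : K ⧸ N → ℂ)) ?_ c hc
    intro z hz
    show (β : K ⧸ N → ℂ) ((⟨z, hZK hz⟩ : K) : K ⧸ N) * ψ ⟨z, hZK hz⟩ = _
    have h1 : (((⟨z, hZK hz⟩ : K)) : K ⧸ N) = 1 :=
      (QuotientGroup.eq_one_iff _).mpr (Subgroup.mem_subgroupOf.mpr hz)
    rw [h1, helper24.char_charDegree_cast (helper24.irr_isCharacter β.2)]
    have h2 := hψres ⟨⟨z, hZK hz⟩, Subgroup.mem_subgroupOf.mpr hz⟩
    rw [show ψ ⟨z, hZK hz⟩ = θ' ⟨⟨z, hZK hz⟩, Subgroup.mem_subgroupOf.mpr hz⟩ from h2]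
  have hKpos : 0 < Nat.card K := Nat.card_pos
  have hKne : (Nat.card K : ℂ) ≠ 0 := by exact_mod_cast hKpos.ne'
  have hidxne : (N.index : ℂ) ≠ 0 := by
    have h0 : N.index ≠ 0 := Subgroup.index_ne_zero_of_finite
    exact_mod_cast h0
  -- key vanishing on the coset of the generator
  have hkey : ∀ c : K, ((c : K) : K ⧸ N) = γ → ψ c = 0 := by
    intro c hcγ
    have hct : (((c : K) : H) : H ⧸ Z) = (c₀ : H ⧸ Z) := by
      have h1 := QuotientGroup.eq.mp hcγ
      have h2 : ((c : H)⁻¹ * c₀) ∈ Z := h1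
      exact QuotientGroup.eq.mpr h2
    have hcZ : (c : H) ∉ Z := by
      intro hc
      apply hc₀Z
      have h1 : (((c : K) : H) : H ⧸ Z) = 1 := (QuotientGroup.eq_one_iff _).mpr hc
      rw [hct] at h1
      exact (QuotientGroup.eq_one_iff _).mp h1
    have hsum0 : ∑ β : IrrCharacter (K ⧸ N),
        conj ((β : K ⧸ N → ℂ) γ) * indFun K (η β) (c : H) = 0 := by
      apply Finset.sum_eq_zero
      intro β _
      rw [hvanβ β _ hcZ, mul_zero]
    have hT : ∀ x : H, ∑ β : IrrCharacter (K ⧸ N),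
        conj ((β : K ⧸ N → ℂ) γ) * extendByZero K (η β) (x⁻¹ * (c : H) * x)
        = if x ∈ K then (N.index : ℂ) * ψ c else 0 := by
      intro x
      by_cases hx : x ∈ K
      · rw [if_pos hx]
        have hy : x⁻¹ * (c : H) * x ∈ K := K.mul_mem (K.mul_mem (K.inv_mem hx) c.2) hx
        have hterm : ∀ β : IrrCharacter (K ⧸ N),
            conj ((β : K ⧸ N → ℂ) γ) * extendByZero K (η β) (x⁻¹ * (c : H) * x)
            = (conj ((β : K ⧸ N → ℂ) γ) * (β : K ⧸ N → ℂ) γ) * ψ c := by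
          intro β
          rw [helper12.extendByZero_of_mem' K (η β) _ hy, hηapp]
          have h0 : (⟨x⁻¹ * (c : H) * x, hy⟩ : K) = (⟨x, hx⟩ : K)⁻¹ * c * ⟨x, hx⟩ := rfl
          have h1 : ((⟨x⁻¹ * (c : H) * x, hy⟩ : K) : K ⧸ N) = γ := by
            rw [h0, QuotientGroup.mk_mul, QuotientGroup.mk_mul, QuotientGroup.mk_inv, hcγ,
              habK _ γ, mul_assoc, inv_mul_cancel, mul_one]
          have h2 : ψ ⟨x⁻¹ * (c : H) * x, hy⟩ = ψ c := by
            rw [h0]
            have h3 := hψcf c (⟨x, hx⟩ : K)⁻¹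
            rw [inv_inv] at h3
            exact h3
          rw [h1, h2]; ring
        rw [Finset.sum_congr rfl (fun β _ => hterm β), ← Finset.sum_mul,
          helper1.coset_orth N habK γ γ, if_pos rfl]
      · rw [if_neg hx]
        by_cases hy : x⁻¹ * (c : H) * x ∈ K
        · have hterm : ∀ β : IrrCharacter (K ⧸ N),
              conj ((β : K ⧸ N → ℂ) γ) * extendByZero K (η β) (x⁻¹ * (c : H) * x)
              = (conj ((β : K ⧸ N → ℂ) γ) * (β : K ⧸ N → ℂ) ((⟨_, hy⟩ : K) : K ⧸ N))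
                * ψ ⟨_, hy⟩ := by
            intro β
            rw [helper12.extendByZero_of_mem' K (η β) _ hy, hηapp]; ring
          rw [Finset.sum_congr rfl (fun β _ => hterm β), ← Finset.sum_mul,
            helper1.coset_orth N habK γ _]
          have hne : ((⟨x⁻¹ * (c : H) * x, hy⟩ : K) : K ⧸ N) ≠ γ := by
            intro hyγ
            apply hx
            rw [← hcγ] at hyγ
            have h1 := QuotientGroup.eq.mp hyγ
            have h2 : ((x⁻¹ * (c : H) * x)⁻¹ * (c : H)) ∈ Z := h1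
            have h3 : ((x⁻¹ * (c : H) * x : H) : H ⧸ Z) = ((c : H) : H ⧸ Z) :=
              QuotientGroup.eq.mpr h2
            rw [QuotientGroup.mk_mul, QuotientGroup.mk_mul, QuotientGroup.mk_inv, hct] at h3
            -- x̄ commutes with c̄₀
            have h4 : (c₀ : H ⧸ Z) * (x : H ⧸ Z) = (x : H ⧸ Z) * (c₀ : H ⧸ Z) := by
              calc (c₀ : H ⧸ Z) * (x : H ⧸ Z)
                  = (x : H ⧸ Z) * ((x : H ⧸ Z)⁻¹ * (c₀ : H ⧸ Z) * (x : H ⧸ Z)) := by group
                _ = (x : H ⧸ Z) * (c₀ : H ⧸ Z) := by rw [h3]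
            have h5 : (x : H ⧸ Z) ∈ Subgroup.centralizer (C : Set (H ⧸ Z)) := by
              rw [Subgroup.mem_centralizer_iff]
              intro w hw
              obtain ⟨i, hi⟩ := hpow w hw
              rw [← hi]
              have hcomm : Commute (c₀ : H ⧸ Z) (x : H ⧸ Z) := h4
              exact (hcomm.zpow_left i).eq
            rw [hcent] at h5
            exact h5
          rw [if_neg hne, zero_mul]
        · apply Finset.sum_eq_zero
          intro β _
          rw [helper12.extendByZero_of_not_mem' K (η β) _ hy, mul_zero]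
    have hexp : ∑ β : IrrCharacter (K ⧸ N),
        conj ((β : K ⧸ N → ℂ) γ) * indFun K (η β) (c : H) = (N.index : ℂ) * ψ c := by
      unfold indFun
      have h1 : ∀ β : IrrCharacter (K ⧸ N),
          conj ((β : K ⧸ N → ℂ) γ) * ((Nat.card K : ℂ)⁻¹ *
            ∑ x : H, extendByZero K (η β) (x⁻¹ * (c : H) * x))
          = (Nat.card K : ℂ)⁻¹ * ∑ x : H,
            conj ((β : K ⧸ N → ℂ) γ) * extendByZero K (η β) (x⁻¹ * (c : H) * x) := by
        intro β
        rw [Finset.mul_sum, Finset.mul_sum, Finset.mul_sum]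
        apply Finset.sum_congr rfl
        intro x _
        ring
      rw [Finset.sum_congr rfl (fun β _ => h1 β), ← Finset.mul_sum, Finset.sum_comm,
        Finset.sum_congr rfl (fun x _ => hT x), ← Finset.sum_filter, Finset.sum_const,
        nsmul_eq_mul]
      have hcard : (Finset.univ.filter (fun x : H => x ∈ K)).card = Nat.card K := by
        rw [Nat.card_eq_fintype_card, Fintype.card_subtype]
      rw [hcard]
      field_simp
    rw [hexp] at hsum0
    rcases mul_eq_zero.mp hsum0 with h | h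
    · exact absurd h hidxne
    · exact h
  -- final contradiction
  set β₁ : IrrCharacter (K ⧸ N) := ⟨fun _ => 1, helper24.isIrrCharacter_one⟩ with hβ₁
  have hη₁ : η β₁ = ψ := by
    funext k
    rw [hηapp]
    show (1 : ℂ) * ψ k = ψ k
    rw [one_mul]
  have hone : ∑ β : IrrCharacter (K ⧸ N),
      conj ((β : K ⧸ N → ℂ) γ) * classInner (η β) ψ = 1 := by
    rw [Finset.sum_eq_single β₁]
    · rw [hη₁, helper24.irr_classInner_self hψ]
      show conj (1 : ℂ) * 1 = 1
      simp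
    · intro β _ hβ
      have hne : η β ≠ ψ := by
        intro h
        apply hβ
        apply G2
        show η β = η β₁
        rw [h, hη₁]
      rw [helper24.irr_classInner_ne (G1 β) hψ hne, mul_zero]
    · intro h; exact absurd (Finset.mem_univ _) h
  have hzero : ∑ β : IrrCharacter (K ⧸ N),
      conj ((β : K ⧸ N → ℂ) γ) * classInner (η β) ψ = 0 := by
    unfold classInner
    have h1 : ∀ β : IrrCharacter (K ⧸ N),
        conj ((β : K ⧸ N → ℂ) γ) * ((Nat.card K : ℂ)⁻¹ * ∑ g : K, η β g * conj (ψ g))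
        = (Nat.card K : ℂ)⁻¹ * ∑ g : K,
          (conj ((β : K ⧸ N → ℂ) γ) * (β : K ⧸ N → ℂ) (g : K ⧸ N)) * (ψ g * conj (ψ g)) := by
      intro β
      rw [Finset.mul_sum, Finset.mul_sum, Finset.mul_sum]
      apply Finset.sum_congr rfl
      intro g _
      rw [hηapp]; ring
    rw [Finset.sum_congr rfl (fun β _ => h1 β), ← Finset.mul_sum, Finset.sum_comm]
    have h2 : ∀ g : K, ∑ β : IrrCharacter (K ⧸ N),
        (conj ((β : K ⧸ N → ℂ) γ) * (β : K ⧸ N → ℂ) (g : K ⧸ N)) * (ψ g * conj (ψ g)) = 0 := by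
      intro g
      rw [← Finset.sum_mul, helper1.coset_orth N habK γ _]
      by_cases hg : ((g : K) : K ⧸ N) = γ
      · rw [hkey g hg, zero_mul, mul_zero]
      · rw [if_neg hg, zero_mul]
    rw [Finset.sum_congr rfl (fun g _ => h2 g), Finset.sum_const_zero, mul_zero]
  rw [hone] at hzero
  exact one_ne_zero hzero

end Cfsg.Agent.S4565
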