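import Cfsg.Statements.S4566
import Cfsg.Agent.Lib_helper23_Schur

set_option autoImplicit false
open Cfsg

namespace Cfsg.Agent.S4566

open Cfsg.Agent.helper23 Representation

/-- Let N be a central subgroup of the finite group G, ψ a faithful irreducible (hence degree-one) character of N, and χ an irreducible character of G whose restriction to N contains ψ. If g ∈ G and some x ∈ G has commutator x⁻¹ g⁻¹ x g in N but different from 1, then χ g = 0. -/
theorem result {G : Type*} [Group G] [Fintype G] (N : Subgroup G) [Fintype N] (hN : N ≤ Subgroup.center G) (ψ : Cfsg.IrrCharacter ↥N) (hfaith : ∀ n : ↥N, (ψ : ↥N → ℂ) n = (ψ : ↥N → ℂ) 1 → n = 1) (χ : Cfsg.IrrCharacter G) (hover : Cfsg.classInner (fun n : ↥N => (χ : G → ℂ) n) (ψ : ↥N → ℂ) ≠ 0) (g x : G) (hcomm : x⁻¹ * g⁻¹ * x * g ∈ N) (hne : x⁻¹ * g⁻¹ * x * g ≠ 1) : (χ : G → ℂ) g = 0 := by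
  classical
  obtain ⟨n, ρ, hρ, hχ⟩ := χ.2
  obtain ⟨m, σ, hσ, hψ⟩ := ψ.2
  have hn : 0 < n := pos_of_irreducible ρ hρ
  have hm : 0 < m := pos_of_irreducible σ hσ
  have hcenG : ∀ z : N, ∀ a : G, a * (z : G) = (z : G) * a := fun z a =>
    Subgroup.mem_center_iff.mp (hN z.2) a
  have hcenN : ∀ z : N, ∀ a : N, a * z = z * a := fun z a => Subtype.ext (hcenG z a)
  choose lam hlam using fun z : N => exists_scalar_of_commute ρ hρ (z : G) (hcenG z)
  choose c hc using fun z : N => exists_scalar_of_commute σ hσ z (hcenN z)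
  have hlam_mul : ∀ a b : N, lam (a * b) = lam a * lam b := by
    intro a b
    apply smul_id_injective hn
    rw [← hlam (a * b)]
    exact scalar_mul ρ (hlam a) (hlam b)
  have hc_mul : ∀ a b : N, c (a * b) = c a * c b := by
    intro a b
    apply smul_id_injective hm
    rw [← hc (a * b)]
    exact scalar_mul σ (hc a) (hc b)
  have hc_one : c 1 = 1 := by
    apply smul_id_injective hm
    rw [← hc 1]
    exact scalar_one σ
  have hc_norm : ∀ z : N, ‖c z‖ = 1 := by
    intro z
    have h1 : c z ^ Fintype.card N = 1 :=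
      scalar_pow_eq_one σ hm (hc z) (Fintype.card N) (pow_card_eq_one)
    exact Complex.norm_eq_one_of_pow_eq_one h1 Fintype.card_ne_zero
  have hc_conj : ∀ z : N, (starRingEnd ℂ) (c z) = (c z)⁻¹ := fun z =>
    (Complex.inv_eq_conj (hc_norm z)).symm
  have hc_ne : ∀ z : N, c z ≠ 0 := by
    intro z hz
    have := hc_norm z
    rw [hz, norm_zero] at this
    exact zero_ne_one this
  have hχN : ∀ z : N, (χ : G → ℂ) z = lam z * n := by
    intro z
    rw [← hχ]
    exact char_of_scalar ρ (hlam z)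
  have hψN : ∀ z : N, (ψ : N → ℂ) z = c z * m := by
    intro z
    rw [← hψ]
    exact char_of_scalar σ (hc z)
  -- the sum of lam * conj c is nonzero
  have hsum : ∑ z : N, lam z * (starRingEnd ℂ) (c z) ≠ 0 := by
    intro h0
    apply hover
    unfold Cfsg.classInner
    have : ∑ z : N, (χ : G → ℂ) z * (starRingEnd ℂ) ((ψ : N → ℂ) z) =
        (n * m : ℂ) * ∑ z : N, lam z * (starRingEnd ℂ) (c z) := by
      rw [Finset.mul_sum]
      apply Finset.sum_congr rfl
      intro z _
      rw [hχN z, hψN z, map_mul, Complex.conj_natCast]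
      ring
    rw [this, h0, mul_zero, mul_zero]
  have hθ : ∀ z : N, lam z * (starRingEnd ℂ) (c z) = 1 := by
    intro z
    by_contra hz
    apply hsum
    apply sum_eq_zero_of_mul_of_ne_one (fun z : N => lam z * (starRingEnd ℂ) (c z)) _ z hz
    intro a b
    simp only [hlam_mul, hc_mul, map_mul]
    ring
  have hlc : ∀ z : N, lam z = c z := by
    intro z
    have h1 := hθ z
    rw [hc_conj z] at h1
    field_simp [hc_ne z] at h1
    exact h1
  set z₀ : N := ⟨x⁻¹ * g⁻¹ * x * g, hcomm⟩ with hz₀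
  have hz₀ne : z₀ ≠ 1 := by
    intro h
    apply hne
    have h2 : (z₀ : G) = ((1 : N) : G) := congrArg Subtype.val h
    exact h2
  have hlam_ne : lam z₀ ≠ 1 := by
    intro h1
    apply hz₀ne
    apply hfaith
    rw [hψN z₀, hψN 1, hc_one, ← hlc z₀, h1]
  have hg : g = (x⁻¹ * g * x⁻¹⁻¹) * (z₀ : G) := by
    rw [hz₀]
    simp only [inv_inv]
    group
  have h1 : (χ : G → ℂ) g = lam z₀ * (χ : G → ℂ) g := by
    conv_lhs => rw [hg]
    rw [← hχ, char_mul_scalar ρ (hlam z₀), Representation.char_conj]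
  have h2 : (1 - lam z₀) * (χ : G → ℂ) g = 0 := by
    rw [sub_mul, one_mul, ← h1, sub_self]
  rcases mul_eq_zero.mp h2 with h | h
  · exact absurd (sub_eq_zero.mp h).symm hlam_ne
  · exact h

end Cfsg.Agent.S4566
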