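import Cfsg.Statements.S4582
import Mathlib

set_option autoImplicit false
open Cfsg

namespace Cfsg.Agent.S4582

section
open MonoidHom MulAction Subgroup

theorem eq_one_of_odd_pow_two_group {A : Type*} [Group A] (a : A) (k j : ℕ) (hk : Odd k)
    (h1 : a ^ k = 1) (h2 : a ^ (2 ^ j) = 1) : a = 1 := by
  have d1 : orderOf a ∣ k := orderOf_dvd_of_pow_eq_one h1
  have d2 : orderOf a ∣ 2 ^ j := orderOf_dvd_of_pow_eq_one h2
  have hc : Nat.Coprime k (2 ^ j) := by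
    apply Nat.Coprime.pow_right
    exact Nat.coprime_two_right.mpr hk   
  have : orderOf a = 1 := Nat.eq_one_of_dvd_coprimes hc d1 d2
  exact orderOf_eq_one_iff.mp this

theorem step1 {G₀ : Type*} [Group G₀] [Finite G₀] (P N : Subgroup G₀) [N.Normal] {A : Type*}
    [CommGroup A] (ϕ : P →* A)
    (hA : ∀ a : A, ∃ k : ℕ, a ^ (2 ^ k) = 1)
    (hidx : Odd P.index)
    (hPN : ∀ g : G₀, ∃ y ∈ P, ∃ n ∈ N, g = y * n)
    (hN : ∀ n ∈ N, ∃ k, Odd k ∧ n ^ k ∈ commutator G₀)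
    (hP : ∀ x ∈ P, ∃ q ∈ N, ∃ c ∈ commutator G₀, x ^ 2 = q * c)
    (hQ : ∀ c (hc : c ∈ P), c ∈ N → ϕ ⟨c, hc⟩ ^ 2 = 1) :
    ∀ x (hx : x ∈ P), ϕ ⟨x, hx⟩ ^ 2 = 1 := by
  classical
  intro x hx
  let V : G₀ →* A := transfer ϕ
  have hcomm : ∀ c ∈ commutator G₀, V c = 1 := fun c hc =>
    (Abelianization.commutator_subset_ker V) hc
  have hVN : ∀ n ∈ N, V n = 1 := by
    intro n hn
    obtain ⟨k, hk, hnk⟩ := hN n hn
    obtain ⟨j, hj⟩ := hA (V n)
    apply eq_one_of_odd_pow_two_group (V n) k j hk _ hj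
    rw [← map_pow]
    exact hcomm _ hnk
  have hVx2 : V x ^ 2 = 1 := by
    obtain ⟨q, hq, c, hc, hxqc⟩ := hP x hx
    rw [← map_pow, hxqc, map_mul, hVN q hq, hcomm c hc, one_mul]
  have key : ∀ (t : G₀) (r : ℕ) (h : t⁻¹ * x ^ r * t ∈ P),
      ϕ ⟨t⁻¹ * x ^ r * t, h⟩ ^ 2 = (ϕ ⟨x, hx⟩ ^ 2) ^ r := by
    intro t r h
    obtain ⟨y, hy, n, hn, rfl⟩ := hPN t
    have hw : y⁻¹ * x ^ r * y ∈ P := P.mul_mem (P.mul_mem (P.inv_mem hy) (P.pow_mem hx r)) hy
    set w := y⁻¹ * x ^ r * y with hwdef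
    have hcP : w⁻¹ * ((y * n)⁻¹ * x ^ r * (y * n)) ∈ P := P.mul_mem (P.inv_mem hw) h
    have hcN : w⁻¹ * ((y * n)⁻¹ * x ^ r * (y * n)) ∈ N := by
      have e : w⁻¹ * ((y * n)⁻¹ * x ^ r * (y * n)) = (w⁻¹ * n⁻¹ * w⁻¹⁻¹) * n := by
        rw [hwdef]; group
      rw [e]
      exact N.mul_mem (‹N.Normal›.conj_mem _ (N.inv_mem hn) _) hn
    have e1 : (⟨(y * n)⁻¹ * x ^ r * (y * n), h⟩ : P) =
        ⟨w, hw⟩ * ⟨w⁻¹ * ((y * n)⁻¹ * x ^ r * (y * n)), hcP⟩ := by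
      apply Subtype.ext
      simp
    have e2 : (⟨w, hw⟩ : P) = (⟨y, hy⟩ : P)⁻¹ * (⟨x, hx⟩ : P) ^ r * ⟨y, hy⟩ := by
      apply Subtype.ext
      simp [hwdef]
    rw [e1, map_mul, mul_pow, hQ _ hcP hcN, mul_one, e2, map_mul, map_mul, map_inv, map_pow]
    rw [mul_comm, ← mul_assoc, mul_inv_cancel, one_mul, ← pow_mul, ← pow_mul, mul_comm]
  have hVx : V x ^ 2 = (ϕ ⟨x, hx⟩ ^ 2) ^ P.index := by
    show (transfer ϕ x) ^ 2 = _
    have : Fintype (Quotient (orbitRel (↥(zpowers x)) (G₀ ⧸ P))) := Fintype.ofFinite _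
    rw [transfer_eq_prod_quotient_orbitRel_zpowers_quot, ← Finset.prod_pow]
    rw [index_eq_sum_minimalPeriod P x, ← Finset.prod_pow_eq_pow_sum]
    apply Finset.prod_congr rfl
    intro q _
    exact key _ _ _
  rw [hVx] at hVx2
  obtain ⟨j, hj⟩ := hA (ϕ ⟨x, hx⟩ ^ 2)
  exact eq_one_of_odd_pow_two_group _ _ j hidx hVx2 hj

theorem mem_commutator_of_mem {G : Type*} [Group G] (H K : Subgroup G) (hHK : H ≤ K) (z : K)
    (hz : (z : G) ∈ ⁅H, H⁆) : z ∈ commutator K := by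
  have h1 : ⁅H, H⁆ ≤ ⁅K, K⁆ := Subgroup.commutator_mono hHK hHK
  rw [← Subgroup.map_subtype_commutator K] at h1
  obtain ⟨c, hc, hcz⟩ := h1 hz
  have : c = z := Subtype.ext hcz
  rwa [this] at hc

theorem of_eq_one_of_mem {G : Type*} [Group G] (P : Subgroup G) (z : P) (hz : (z : G) ∈ ⁅P, P⁆) :
    Abelianization.of z = 1 := by
  have h := mem_commutator_of_mem P P le_rfl z hz
  rw [← Abelianization.ker_of] at h
  exact h

end

/-- Let N be a normal subgroup of the finite group G, P a Sylow 2-subgroup of G and Q = P ∩ N. Suppose that P/QP' and Q/Q' are elementary abelian (every square of an element of P lies in the subgroup generated by Q and the derived subgroup of P, and every square of an element of Q lies in the derived subgroup of Q), and that the commutator factor group N/N' has odd order. Then P/P' is elementary abelian. -/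
theorem result {G : Type*} [Group G] [Finite G] (N : Subgroup G) [N.Normal] (P : Sylow 2 G)
    (hP : ∀ x ∈ (P : Subgroup G), x ^ 2 ∈ ((P : Subgroup G) ⊓ N) ⊔ ⁅(P : Subgroup G), (P : Subgroup G)⁆)
    (hQ : ∀ x ∈ (P : Subgroup G) ⊓ N, x ^ 2 ∈ ⁅(P : Subgroup G) ⊓ N, (P : Subgroup G) ⊓ N⁆)
    (hodd : Odd (Nat.card (Abelianization N))) :
    ∀ x ∈ (P : Subgroup G), x ^ 2 ∈ ⁅(P : Subgroup G), (P : Subgroup G)⁆ := by
  classical
  intro x hx
  set P' : Subgroup G := (P : Subgroup G) with hP'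
  set K : Subgroup G := N ⊔ P' with hK
  have hPK : P' ≤ K := le_sup_right
  have hNK : N ≤ K := le_sup_left
  let e : P'.subgroupOf K ≃* P' := Subgroup.subgroupOfEquivOfLe hPK
  let ϕ : P'.subgroupOf K →* Abelianization P' := Abelianization.of.comp e.toMonoidHom
  have hA : ∀ a : Abelianization P', ∃ k : ℕ, a ^ (2 ^ k) = 1 := by
    intro a
    obtain ⟨y, rfl⟩ : ∃ y, Abelianization.of y = a := QuotientGroup.mk_surjective a
    obtain ⟨k, hk⟩ := P.2 y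
    refine ⟨k, ?_⟩
    rw [← map_pow, hk, map_one]
  have hidx : Odd (P'.subgroupOf K).index := by
    have h1 : P'.relIndex K * K.index = P'.index := Subgroup.relIndex_mul_index hPK
    have h2 : ¬ 2 ∣ P'.index := P.not_dvd_index
    have h3 : Odd P'.index := Nat.odd_iff.mpr (Nat.two_dvd_ne_zero.mp h2)
    rw [← h1] at h3
    exact (Nat.odd_mul.mp h3).1
  have hPN : ∀ g : K, ∃ y ∈ P'.subgroupOf K, ∃ n ∈ N.subgroupOf K, g = y * n := by
    intro g
    have hg : (g : G) ∈ ((P' ⊔ N : Subgroup G) : Set G) := by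
      rw [sup_comm]; exact g.2
    rw [Subgroup.mul_normal] at hg
    obtain ⟨y, hy, n, hn, hyn⟩ := Set.mem_mul.mp hg
    refine ⟨⟨y, hPK hy⟩, ?_, ⟨n, hNK hn⟩, ?_, ?_⟩
    · exact Subgroup.mem_subgroupOf.mpr hy
    · exact Subgroup.mem_subgroupOf.mpr hn
    · exact Subtype.ext hyn.symm
  have hN' : ∀ n ∈ N.subgroupOf K, ∃ k, Odd k ∧ n ^ k ∈ commutator K := by
    intro n hn
    refine ⟨Nat.card (Abelianization N), hodd, ?_⟩
    have hn' : (n : G) ∈ N := Subgroup.mem_subgroupOf.mp hn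
    have h1 : (Abelianization.of (⟨(n : G), hn'⟩ : N)) ^ Nat.card (Abelianization N) = 1 :=
      pow_card_eq_one'
    rw [← map_pow] at h1
    have h2 : (⟨(n : G), hn'⟩ : N) ^ Nat.card (Abelianization N) ∈ commutator N := by
      rw [← Abelianization.ker_of]; exact h1
    have h3 : (n : G) ^ Nat.card (Abelianization N) ∈ ⁅N, N⁆ := by
      rw [← Subgroup.map_subtype_commutator N]
      exact ⟨_, h2, by simp⟩
    apply mem_commutator_of_mem N K hNK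
    simpa using h3
  have hP2 : ∀ x ∈ P'.subgroupOf K, ∃ q ∈ N.subgroupOf K, ∃ c ∈ commutator K, x ^ 2 = q * c := by
    intro x hx
    have hx' : (x : G) ∈ P' := Subgroup.mem_subgroupOf.mp hx
    have h1 := hP (x : G) hx'
    have hle : P' ⊓ N ⊔ ⁅P', P'⁆ ≤ N ⊔ ⁅P', P'⁆ := sup_le_sup_right inf_le_right _
    have h2 : (x : G) ^ 2 ∈ ((N ⊔ ⁅P', P'⁆ : Subgroup G) : Set G) := hle h1
    rw [Subgroup.normal_mul] at h2
    obtain ⟨q, hq, c, hc, hqc⟩ := Set.mem_mul.mp h2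
    have hcK : c ∈ K := hPK (Subgroup.commutator_le_self P' hc)
    refine ⟨⟨q, hNK hq⟩, Subgroup.mem_subgroupOf.mpr hq, ⟨c, hcK⟩, ?_, ?_⟩
    · exact mem_commutator_of_mem P' K hPK ⟨c, hcK⟩ hc
    · apply Subtype.ext
      simpa using hqc.symm
  have hQ2 : ∀ c (hc : c ∈ P'.subgroupOf K), c ∈ N.subgroupOf K → ϕ ⟨c, hc⟩ ^ 2 = 1 := by
    intro c hc hcN
    have hc1 : (c : G) ∈ P' := Subgroup.mem_subgroupOf.mp hc
    have hc2 : (c : G) ∈ N := Subgroup.mem_subgroupOf.mp hcN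
    have h1 := hQ (c : G) ⟨hc1, hc2⟩
    have h2 : (c : G) ^ 2 ∈ ⁅P', P'⁆ := (Subgroup.commutator_mono inf_le_left inf_le_left) h1
    show (Abelianization.of (e ⟨c, hc⟩)) ^ 2 = 1
    rw [← map_pow]
    apply of_eq_one_of_mem
    exact h2
  have hmain := step1 (P'.subgroupOf K) (N.subgroupOf K) ϕ hA hidx hPN hN' hP2 hQ2
    ⟨x, hPK hx⟩ (Subgroup.mem_subgroupOf.mpr hx)
  have h4 : (Abelianization.of (⟨x, hx⟩ : P')) ^ 2 = 1 := hmain
  rw [← map_pow] at h4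
  have h5 : (⟨x, hx⟩ : P') ^ 2 ∈ commutator P' := by
    rw [← Abelianization.ker_of]; exact h4
  rw [← Subgroup.map_subtype_commutator P']
  exact ⟨_, h5, by simp⟩

end Cfsg.Agent.S4582
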