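import Cfsg.Statements.S4585
import Mathlib
import Cfsg.Agent.S4584

set_option autoImplicit false
set_option linter.style.haveILetI false
open Cfsg
open scoped commutatorElement

namespace Cfsg.Agent.S4585

open Subgroup

section
variable {P : Type*} [Group P]

theorem lcs_stable (n : ℕ)
    (h : Subgroup.lowerCentralSeries (⊤ : Subgroup P) (n + 1) = Subgroup.lowerCentralSeries ⊤ n) (k : ℕ) :
    Subgroup.lowerCentralSeries (⊤ : Subgroup P) (n + k) = Subgroup.lowerCentralSeries ⊤ n := by
  induction k with
  | zero => rfl
  | succ k ih =>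
    rw [← add_assoc, Subgroup.lowerCentralSeries_succ, ih, ← Subgroup.lowerCentralSeries_succ, h]

theorem lcs_eq_bot_of_stable [Group.IsNilpotent P] (n : ℕ)
    (h : Subgroup.lowerCentralSeries (⊤ : Subgroup P) (n + 1) = Subgroup.lowerCentralSeries ⊤ n) :
    Subgroup.lowerCentralSeries (⊤ : Subgroup P) n = ⊥ := by
  have h1 := lcs_stable n h (Group.nilpotencyClass P)
  rw [← h1, eq_bot_iff, ← Subgroup.lowerCentralSeries_nilpotencyClass (G := P)]
  exact Subgroup.lowerCentralSeries_antitone _ (Nat.le_add_left _ _)

theorem lcs_lt [Group.IsNilpotent P] (n : ℕ)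
    (h : Subgroup.lowerCentralSeries (⊤ : Subgroup P) n ≠ ⊥) :
    Subgroup.lowerCentralSeries (⊤ : Subgroup P) (n + 1) < Subgroup.lowerCentralSeries ⊤ n :=
  lt_of_le_of_ne (Subgroup.lowerCentralSeries_antitone _ (Nat.le_succ n))
    (fun h' => h (lcs_eq_bot_of_stable n h'))

theorem card_lt [Finite P] {p : ℕ} [hp : Fact p.Prime] (hP : IsPGroup p P) {H K : Subgroup P}
    (h : H < K) : p * Nat.card H ≤ Nat.card K := by
  have hpp : p.Prime := hp.out
  obtain ⟨a, ha⟩ := IsPGroup.iff_card.mp (hP.to_subgroup H)
  obtain ⟨b, hb⟩ := IsPGroup.iff_card.mp (hP.to_subgroup K)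
  have hdvd : Nat.card H ∣ Nat.card K := Subgroup.card_dvd_of_le h.le
  rw [ha, hb] at hdvd ⊢
  have hab : a ≤ b := (Nat.pow_dvd_pow_iff_le_right hpp.one_lt).mp hdvd
  have hne : a ≠ b := by
    rintro rfl
    have : H = K := Subgroup.eq_of_le_of_card_ge h.le (by rw [ha, hb])
    exact h.ne this
  have : a + 1 ≤ b := by omega
  calc p * p ^ a = p ^ (a + 1) := by ring
    _ ≤ p ^ b := Nat.pow_le_pow_right hpp.pos this

/-- If the abelianization is cyclic and the group is nilpotent then the derived subgroup is trivial. -/
theorem commutator_eq_bot_of_cyclic [Group.IsNilpotent P] (hc : IsCyclic (P ⧸ commutator P)) :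
    commutator P = ⊥ := by
  have hl1 : Subgroup.lowerCentralSeries (⊤ : Subgroup P) 1 = commutator P := rfl
  have hle : Subgroup.lowerCentralSeries (⊤ : Subgroup P) 2 ≤ commutator P := by
    rw [← hl1]; exact Subgroup.lowerCentralSeries_antitone _ (by norm_num)
  set L : Subgroup P := Subgroup.lowerCentralSeries (⊤ : Subgroup P) 2 with hL
  haveI hLn : L.Normal := by rw [hL]; infer_instance
  let f : P ⧸ L →* P ⧸ commutator P :=
    QuotientGroup.map L (commutator P) (MonoidHom.id P) hle
  have hker : f.ker ≤ center (P ⧸ L) := by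
    intro q hq
    induction q using QuotientGroup.induction_on with
    | H x =>
      rw [MonoidHom.mem_ker] at hq
      have hx : x ∈ commutator P := by
        have : ((x : P ⧸ commutator P)) = 1 := hq
        exact (QuotientGroup.eq_one_iff x).mp this
      rw [mem_center_iff]
      intro r
      induction r using QuotientGroup.induction_on with
      | H y =>
        have hxy : ⁅x, y⁆ ∈ L := by
          rw [hL, Subgroup.lowerCentralSeries_succ]
          exact Subgroup.commutator_mem_commutator (hl1 ▸ hx) (Subgroup.mem_top y)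
        have h1 : QuotientGroup.mk' L ⁅x, y⁆ = 1 := (QuotientGroup.eq_one_iff _).mpr hxy
        rw [map_commutatorElement] at h1
        exact (commutatorElement_eq_one_iff_mul_comm.mp h1).symm
  have hcomm := f.isMulCommutative_of_isCyclic_of_ker_le_center hker
  have h12 : commutator P ≤ L := by
    rw [_root_.commutator_def, Subgroup.commutator_le]
    intro a _ b _
    have h1 := hcomm.is_comm.comm (QuotientGroup.mk' L a) (QuotientGroup.mk' L b)
    have h2 : QuotientGroup.mk' L ⁅a, b⁆ = 1 := by
      rw [map_commutatorElement]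
      exact commutatorElement_eq_one_iff_mul_comm.mpr h1
    exact (QuotientGroup.eq_one_iff _).mp h2
  have heq : Subgroup.lowerCentralSeries (⊤ : Subgroup P) 2 = Subgroup.lowerCentralSeries (⊤ : Subgroup P) 1 :=
    le_antisymm (hl1 ▸ hle) (hl1 ▸ h12)
  rw [← hl1]
  exact lcs_eq_bot_of_stable 1 heq

end

/-- Let p be a prime and P a group of order p^4. Then P' has index p^2 in P if and only if P has maximal nilpotency class, that is, nilpotency class exactly 3. -/
theorem result {P : Type*} [Group P] [Finite P] (p : ℕ) [Fact p.Prime] (hP : Nat.card P = p ^ 4) :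
    (commutator P).index = p ^ 2 ↔ Group.nilpotencyClass P = 3 := by
  have hpp : p.Prime := Fact.out
  have hPp : IsPGroup p P := IsPGroup.of_card hP
  haveI : Group.IsNilpotent P := hPp.isNilpotent
  have hl1 : Subgroup.lowerCentralSeries (⊤ : Subgroup P) 1 = commutator P := rfl
  have hci := Subgroup.card_mul_index (commutator P)
  rw [hP] at hci
  -- small index forces the derived subgroup to be trivial
  have hsmall : (commutator P).index ∣ p → commutator P = ⊥ := by
    intro hd
    apply commutator_eq_bot_of_cyclic
    apply isCyclic_of_card_dvd_prime (p := p)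
    rw [← Subgroup.index_eq_card]
    exact hd
  constructor
  · intro hidx
    have hc : Nat.card (commutator P) = p ^ 2 := by
      rw [hidx] at hci
      have h1 : Nat.card (commutator P) * p ^ 2 = p ^ 2 * p ^ 2 := by rw [hci]; ring
      exact Nat.eq_of_mul_eq_mul_right (pow_pos hpp.pos 2) h1
    have hp2 : 1 < p ^ 2 := Nat.one_lt_pow (by norm_num) hpp.one_lt
    have h3 : Subgroup.lowerCentralSeries (⊤ : Subgroup P) 3 = ⊥ := by
      have hne1 : Subgroup.lowerCentralSeries (⊤ : Subgroup P) 1 ≠ ⊥ := by
        rw [hl1]; intro h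
        rw [h, Subgroup.card_bot] at hc
        omega
      have hlt := lcs_lt 1 hne1
      have h2 := card_lt hPp hlt
      rw [hl1, hc] at h2
      have h2' : Nat.card (Subgroup.lowerCentralSeries (⊤ : Subgroup P) 2) ≤ p := by
        have : p * Nat.card (Subgroup.lowerCentralSeries (⊤ : Subgroup P) (1 + 1)) ≤ p * p := by
          rw [← sq]; exact h2
        exact Nat.le_of_mul_le_mul_left this hpp.pos
      by_cases hb : Subgroup.lowerCentralSeries (⊤ : Subgroup P) 2 = ⊥
      · rw [eq_bot_iff, ← hb]; exact Subgroup.lowerCentralSeries_antitone _ (by norm_num)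
      · have hlt2 := lcs_lt 2 hb
        have h4 := card_lt hPp hlt2
        have h5 : Nat.card (Subgroup.lowerCentralSeries (⊤ : Subgroup P) (2 + 1)) ≤ 1 := by
          have : p * Nat.card (Subgroup.lowerCentralSeries (⊤ : Subgroup P) (2 + 1)) ≤ p * 1 := by
            rw [mul_one]; exact h4.trans h2'
          exact Nat.le_of_mul_le_mul_left this hpp.pos
        exact Subgroup.card_eq_one.mp (le_antisymm h5 Nat.card_pos)
    have hle3 := Subgroup.lowerCentralSeries_eq_bot_iff_nilpotencyClass_le.mp h3
    have hgt : ¬ Group.nilpotencyClass P ≤ 2 := by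
      intro hle
      have h2 := Subgroup.lowerCentralSeries_eq_bot_iff_nilpotencyClass_le.mpr hle
      have hPZ : commutator P ≤ center P := by
        rw [show (2 : ℕ) = 1 + 1 from rfl, Subgroup.lowerCentralSeries_succ,
          Subgroup.commutator_eq_bot_iff_le_centralizer, Subgroup.coe_top,
          Subgroup.centralizer_univ] at h2
        exact hl1 ▸ h2
      obtain ⟨k, hk⟩ := IsPGroup.iff_card.mp (hPp.to_subgroup (center P))
      have hk2 : 2 ≤ k := by
        have : Nat.card (commutator P) ∣ Nat.card (center P) := Subgroup.card_dvd_of_le hPZ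
        rw [hc, hk] at this
        exact (Nat.pow_dvd_pow_iff_le_right hpp.one_lt).mp this
      have hzi := Subgroup.card_mul_index (center P)
      rw [hP, hk] at hzi
      have hk4 : k ≤ 4 := by
        have : p ^ k ∣ p ^ 4 := Dvd.intro _ hzi
        exact (Nat.pow_dvd_pow_iff_le_right hpp.one_lt).mp this
      have hidxZ : (center P).index = p ^ (4 - k) := by
        have h1 : p ^ k * (center P).index = p ^ k * p ^ (4 - k) := by
          rw [hzi, ← pow_add]; congr 1; omega
        exact Nat.eq_of_mul_eq_mul_left (pow_pos hpp.pos k) h1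
      have hk' : k = 2 ∨ k = 3 ∨ k = 4 := by omega
      rcases hk' with rfl | rfl | rfl
      · have h5 := (Cfsg.Agent.S4584.result p hP).mpr hidxZ
        rw [hc] at h5
        have : p * p = p * 1 := by rw [mul_one, ← sq]; exact h5
        have := Nat.eq_of_mul_eq_mul_left hpp.pos this
        exact hpp.one_lt.ne' this
      · have hcyc : IsCyclic (P ⧸ center P) := by
          apply isCyclic_of_card_dvd_prime (p := p)
          rw [← Subgroup.index_eq_card, hidxZ]
          norm_num
        have hcomm := (QuotientGroup.mk' (center P)).isMulCommutative_of_isCyclic_of_ker_le_center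
          (by simp)
        have : commutator P = ⊥ := by
          rw [_root_.commutator_def, eq_bot_iff, Subgroup.commutator_le]
          intro a _ b _
          rw [mem_bot]
          exact commutatorElement_eq_one_iff_mul_comm.mpr (hcomm.is_comm.comm a b)
        rw [this, Subgroup.card_bot] at hc
        omega
      · have hcyc : IsCyclic (P ⧸ center P) := by
          apply isCyclic_of_card_dvd_prime (p := p)
          rw [← Subgroup.index_eq_card, hidxZ]
          norm_num
        have hcomm := (QuotientGroup.mk' (center P)).isMulCommutative_of_isCyclic_of_ker_le_center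
          (by simp)
        have : commutator P = ⊥ := by
          rw [_root_.commutator_def, eq_bot_iff, Subgroup.commutator_le]
          intro a _ b _
          rw [mem_bot]
          exact commutatorElement_eq_one_iff_mul_comm.mpr (hcomm.is_comm.comm a b)
        rw [this, Subgroup.card_bot] at hc
        omega
    omega
  · intro hcl
    have h2ne : Subgroup.lowerCentralSeries (⊤ : Subgroup P) 2 ≠ ⊥ := by
      intro h
      have := Subgroup.lowerCentralSeries_eq_bot_iff_nilpotencyClass_le.mp h
      omega
    have h1ne : Subgroup.lowerCentralSeries (⊤ : Subgroup P) 1 ≠ ⊥ := by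
      intro h
      apply h2ne
      rw [eq_bot_iff, ← h]
      exact Subgroup.lowerCentralSeries_antitone _ (by norm_num)
    have hlt1 := lcs_lt 1 h1ne
    have hc1 := card_lt hPp hlt1
    have hc2 : p * 1 ≤ Nat.card (Subgroup.lowerCentralSeries (⊤ : Subgroup P) 2) := by
      have := card_lt hPp (bot_lt_iff_ne_bot.mpr h2ne)
      rwa [Subgroup.card_bot] at this
    rw [hl1] at hc1
    have hge : p ^ 2 ≤ Nat.card (commutator P) := by
      calc p ^ 2 = p * (p * 1) := by ring
        _ ≤ p * Nat.card (Subgroup.lowerCentralSeries (⊤ : Subgroup P) 2) :=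
          Nat.mul_le_mul_left p hc2
        _ ≤ _ := hc1
    obtain ⟨k, hk⟩ := IsPGroup.iff_card.mp (hPp.to_subgroup (commutator P))
    rw [hk] at hci hge
    have hk2 : 2 ≤ k := (Nat.pow_le_pow_iff_right hpp.one_lt).mp hge
    have hk4 : k ≤ 4 := by
      have : p ^ k ∣ p ^ 4 := Dvd.intro _ hci
      exact (Nat.pow_dvd_pow_iff_le_right hpp.one_lt).mp this
    have hidx : (commutator P).index = p ^ (4 - k) := by
      have h1 : p ^ k * (commutator P).index = p ^ k * p ^ (4 - k) := by
        rw [hci, ← pow_add]; congr 1; omega
      exact Nat.eq_of_mul_eq_mul_left (pow_pos hpp.pos k) h1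
    have hk' : k = 2 ∨ k = 3 ∨ k = 4 := by omega
    rcases hk' with rfl | rfl | rfl
    · exact hidx
    · exfalso
      apply h1ne
      rw [hl1]
      apply hsmall
      rw [hidx]; norm_num
    · exfalso
      apply h1ne
      rw [hl1]
      apply hsmall
      rw [hidx]; norm_num

end Cfsg.Agent.S4585
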