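import Cfsg.Statements.S4586
import Mathlib
import Cfsg.Agent.S3807

set_option autoImplicit false
set_option linter.style.haveILetI false
open Cfsg
open scoped commutatorElement

namespace Cfsg.Agent.S4586

open Cfsg.Agent.S3807

section
variable {S : Type*} [Group S] [Finite S]

/-- General form: abelian normal `A` of prime index, `s ∉ A`:
`|C_A(s)| * |S'| = |A|`. -/
theorem card_centralizer_mul_commutator {p : ℕ} (hp : p.Prime)
    (A : Subgroup S) [hAn : A.Normal] (hA : IsMulCommutative ↥A) (hAi : A.index = p)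
    {s : S} (hs : s ∉ A) :
    Nat.card ↥(A ⊓ Subgroup.centralizer ({s} : Set S)) * Nat.card (commutator S) = Nat.card A := by
  obtain ⟨φ, hφ⟩ := exists_phi A hA s
  have hker : φ.ker.map A.subtype = A ⊓ Subgroup.centralizer ({s} : Set S) := by
    ext a
    constructor
    · rintro ⟨a, ha0, rfl⟩
      have ha : a ∈ φ.ker := ha0
      rw [MonoidHom.mem_ker] at ha
      have h1 : (a : S) * s * (a : S)⁻¹ * s⁻¹ = 1 := by rw [← hφ a, ha]; rfl
      have h2 : (a : S) * s = s * (a : S) := by
        have : (a : S) * s = ((a : S) * s * (a : S)⁻¹ * s⁻¹) * (s * a) := by group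
        rw [this, h1, one_mul]
      refine Subgroup.mem_inf.mpr ⟨a.2, ?_⟩
      rw [Subgroup.mem_centralizer_singleton_iff]
      exact h2
    · intro ha
      have ha' := Subgroup.mem_inf.mp ha
      refine ⟨⟨a, ha'.1⟩, ?_, rfl⟩
      show _ ∈ φ.ker
      rw [MonoidHom.mem_ker]
      apply Subtype.ext
      rw [hφ]
      have h2 : a * s = s * a := Subgroup.mem_centralizer_singleton_iff.mp ha'.2
      show a * s * a⁻¹ * s⁻¹ = 1
      rw [h2]; group
  set D : Subgroup S := φ.range.map A.subtype with hD
  have hDmem : ∀ a ∈ A, a * s * a⁻¹ * s⁻¹ ∈ D := by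
    intro a ha
    refine ⟨φ ⟨a, ha⟩, ⟨⟨a, ha⟩, rfl⟩, ?_⟩
    exact hφ ⟨a, ha⟩
  have hDform : ∀ d ∈ D, ∃ a ∈ A, d = a * s * a⁻¹ * s⁻¹ := by
    rintro _ ⟨_, ⟨a, rfl⟩, rfl⟩
    exact ⟨a, a.2, hφ a⟩
  have hDA : D ≤ A := by
    rintro _ ⟨x, -, rfl⟩; exact x.2
  have hDle : D ≤ commutator S := by
    intro d hd
    obtain ⟨a, -, rfl⟩ := hDform d hd
    rw [commutator_def, ← commutatorElement_def]
    exact Subgroup.commutator_mem_commutator (Subgroup.mem_top _) (Subgroup.mem_top _)
  haveI hDn : D.Normal := by
    have h1 : Subgroup.normalizer (D : Set S) = ⊤ := by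
      apply eq_top_of_le_of_mem hp hAi _ _ hs
      · intro a ha
        apply Cfsg.Agent.S3203.mem_normalizer_of_forall
        intro d hd
        have hdA : d ∈ A := hDA hd
        have : a * d * a⁻¹ = d := by
          rw [comm_of_mem hA ha hdA]; group
        rw [this]; exact hd
      · apply Cfsg.Agent.S3203.mem_normalizer_of_forall
        intro d hd
        obtain ⟨a, ha, rfl⟩ := hDform d hd
        have h2 : s * a * s⁻¹ ∈ A := hAn.conj_mem _ ha s
        have h3 := hDmem _ h2
        have e : s * (a * s * a⁻¹ * s⁻¹) * s⁻¹ = s * a * s⁻¹ * s * (s * a * s⁻¹)⁻¹ * s⁻¹ := by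
          group
        rw [e]; exact h3
    exact Subgroup.normalizer_eq_top_iff.mp h1
  have hquot : ∀ g h : S, ⁅g, h⁆ ∈ D := by
    let π := QuotientGroup.mk' D
    have hπA : ∀ a ∈ A, π a * π s = π s * π a := by
      intro a ha
      have h1 : π (a * s * a⁻¹ * s⁻¹) = 1 := (QuotientGroup.eq_one_iff _).mpr (hDmem a ha)
      rw [← commutatorElement_def, map_commutatorElement] at h1
      exact commutatorElement_eq_one_iff_mul_comm.mp h1
    have hs_central : ∀ g : S, π g * π s = π s * π g := by
      have h1 : (Subgroup.centralizer ({π s} : Set (S ⧸ D))).comap π = ⊤ := by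
        apply eq_top_of_le_of_mem hp hAi _ _ hs
        · intro a ha
          rw [Subgroup.mem_comap, Subgroup.mem_centralizer_singleton_iff]
          exact hπA a ha
        · rw [Subgroup.mem_comap, Subgroup.mem_centralizer_singleton_iff]
      intro g
      have : g ∈ (Subgroup.centralizer ({π s} : Set (S ⧸ D))).comap π := h1 ▸ Subgroup.mem_top g
      rw [Subgroup.mem_comap, Subgroup.mem_centralizer_singleton_iff] at this
      exact this
    have hA_central : ∀ a ∈ A, ∀ g : S, π g * π a = π a * π g := by
      intro a ha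
      have h1 : (Subgroup.centralizer ({π a} : Set (S ⧸ D))).comap π = ⊤ := by
        apply eq_top_of_le_of_mem hp hAi _ _ hs
        · intro b hb
          rw [Subgroup.mem_comap, Subgroup.mem_centralizer_singleton_iff, ← map_mul, ← map_mul,
            comm_of_mem hA hb ha]
        · rw [Subgroup.mem_comap, Subgroup.mem_centralizer_singleton_iff]
          exact (hs_central a).symm
      intro g
      have : g ∈ (Subgroup.centralizer ({π a} : Set (S ⧸ D))).comap π := h1 ▸ Subgroup.mem_top g
      rw [Subgroup.mem_comap, Subgroup.mem_centralizer_singleton_iff] at this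
      exact this
    have hall : (Subgroup.center (S ⧸ D)).comap π = ⊤ := by
      apply eq_top_of_le_of_mem hp hAi _ _ hs
      · intro a ha
        rw [Subgroup.mem_comap, Subgroup.mem_center_iff]
        intro x
        obtain ⟨g, rfl⟩ := QuotientGroup.mk'_surjective D x
        exact hA_central a ha g
      · rw [Subgroup.mem_comap, Subgroup.mem_center_iff]
        intro x
        obtain ⟨g, rfl⟩ := QuotientGroup.mk'_surjective D x
        exact hs_central g
    intro g h
    have hh : h ∈ (Subgroup.center (S ⧸ D)).comap π := hall ▸ Subgroup.mem_top h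
    rw [Subgroup.mem_comap, Subgroup.mem_center_iff] at hh
    have h1 : π ⁅g, h⁆ = 1 := by
      rw [map_commutatorElement]
      exact commutatorElement_eq_one_iff_mul_comm.mpr (hh (π g))
    exact (QuotientGroup.eq_one_iff _).mp h1
  have hDeq : commutator S = D := by
    apply le_antisymm _ hDle
    rw [commutator_def, Subgroup.commutator_le]
    intro g _ h _
    exact hquot g h
  have hc1 : Nat.card D = Nat.card φ.range :=
    Subgroup.card_map_of_injective (Subgroup.subtype_injective A)
  have hc2 : Nat.card ↥(A ⊓ Subgroup.centralizer ({s} : Set S)) = Nat.card φ.ker := by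
    rw [← hker]
    exact Subgroup.card_map_of_injective (Subgroup.subtype_injective A)
  have hc3 : Nat.card φ.ker * Nat.card φ.range = Nat.card A := by
    rw [← Subgroup.index_ker]
    exact Subgroup.card_mul_index φ.ker
  rw [hDeq, hc1, hc2, hc3]

theorem card_map_mk'_mul (N : Subgroup S) [N.Normal] (H : Subgroup S) (hle : N ≤ H) :
    Nat.card (H.map (QuotientGroup.mk' N)) * Nat.card N = Nat.card H := by
  have h0 := Subgroup.relIndex_ker (QuotientGroup.mk' N) (K := H)
  rw [QuotientGroup.ker_mk'] at h0
  have h2 := Subgroup.relIndex_mul_relIndex ⊥ N H bot_le hle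
  rw [Subgroup.relIndex_bot_left, Subgroup.relIndex_bot_left, h0] at h2
  rw [mul_comm]; exact h2

end

section
variable {P : Type*} [Group P] [Finite P]

theorem key (p : ℕ) [Fact p.Prime] (N : Subgroup P) [hNn : N.Normal]
    (hN : N.index = p) (x : P) (hx : x ∉ N) :
    p * Nat.card {n : N // x * n * x⁻¹ * (n : P)⁻¹ ∈ (commutator N).map N.subtype} =
      Nat.card (commutator N) * (commutator P).index := by
  have hpp : p.Prime := Fact.out
  set D : Subgroup P := (commutator N).map N.subtype with hD
  have hDcard : Nat.card D = Nat.card (commutator N) :=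
    Subgroup.card_map_of_injective (Subgroup.subtype_injective N)
  have hDeq : D = ⁅N, N⁆ := by
    rw [hD, commutator_def, Subgroup.map_commutator, ← MonoidHom.range_eq_map,
      Subgroup.range_subtype]
  haveI hDn : D.Normal := by rw [hDeq]; infer_instance
  have hDN : D ≤ N := by
    rintro _ ⟨n, -, rfl⟩; exact n.2
  have hDP : D ≤ commutator P := by
    rw [hDeq, commutator_def]
    exact Subgroup.commutator_mono le_top le_top
  let π := QuotientGroup.mk' D
  have hπs : Function.Surjective π := QuotientGroup.mk'_surjective D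
  have hkerπ : π.ker = D := QuotientGroup.ker_mk' D
  set A : Subgroup (P ⧸ D) := N.map π with hAdef
  haveI hAn : A.Normal := Subgroup.Normal.map hNn π hπs
  have hA : IsMulCommutative ↥A := by
    refine ⟨⟨fun a b => ?_⟩⟩
    apply Subtype.ext
    obtain ⟨n, hn, hna⟩ := a.2
    obtain ⟨m, hm, hmb⟩ := b.2
    show (a : P ⧸ D) * (b : P ⧸ D) = (b : P ⧸ D) * (a : P ⧸ D)
    rw [← hna, ← hmb]
    have h1 : π ⁅n, m⁆ = 1 := by
      apply (QuotientGroup.eq_one_iff _).mpr
      rw [hDeq]
      exact Subgroup.commutator_mem_commutator hn hm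
    rw [map_commutatorElement] at h1
    exact commutatorElement_eq_one_iff_mul_comm.mp h1
  have hAi : A.index = p := by
    rw [hAdef, Subgroup.index_map_eq N hπs (by rw [hkerπ]; exact hDN), hN]
  have hsA : π x ∉ A := by
    rintro ⟨n, hn, hnx⟩
    have h1 : n⁻¹ * x ∈ D := by
      rw [← hkerπ, MonoidHom.mem_ker, map_mul, map_inv, hnx]; group
    have h2 : x = n * (n⁻¹ * x) := by group
    apply hx
    rw [h2]
    exact N.mul_mem hn (hDN h1)
  have hmain := card_centralizer_mul_commutator hpp A hA hAi hsA
  -- translate the three cardinalities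
  have hc1 : Nat.card A * Nat.card D = Nat.card N := card_map_mk'_mul D N hDN
  have hcomm : commutator (P ⧸ D) = (commutator P).map π := by
    rw [commutator_def, commutator_def, Subgroup.map_commutator,
      ← MonoidHom.range_eq_map, MonoidHom.range_eq_top.mpr hπs]
  have hc2 : Nat.card (commutator (P ⧸ D)) * Nat.card D = Nat.card (commutator P) := by
    rw [hcomm]; exact card_map_mk'_mul D _ hDP
  set K : Subgroup P := N ⊓ (Subgroup.centralizer ({π x} : Set (P ⧸ D))).comap π with hK
  have hDK : D ≤ K := by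
    intro d hd
    refine Subgroup.mem_inf.mpr ⟨hDN hd, ?_⟩
    rw [Subgroup.mem_comap, Subgroup.mem_centralizer_singleton_iff]
    have : π d = 1 := (QuotientGroup.eq_one_iff _).mpr hd
    rw [this]; simp
  have hKmap : K.map π = A ⊓ Subgroup.centralizer ({π x} : Set (P ⧸ D)) := by
    ext y
    constructor
    · rintro ⟨k, hk, rfl⟩
      have hk' := Subgroup.mem_inf.mp hk
      exact Subgroup.mem_inf.mpr ⟨⟨k, hk'.1, rfl⟩, Subgroup.mem_comap.mp hk'.2⟩
    · intro hy
      have hy' := Subgroup.mem_inf.mp hy
      obtain ⟨n, hn, rfl⟩ := hy'.1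
      exact ⟨n, Subgroup.mem_inf.mpr ⟨hn, Subgroup.mem_comap.mpr hy'.2⟩, rfl⟩
  have hc3 : Nat.card ↥(A ⊓ Subgroup.centralizer ({π x} : Set (P ⧸ D))) * Nat.card D =
      Nat.card K := by
    rw [← hKmap]; exact card_map_mk'_mul D K hDK
  have hiff : ∀ n : P, x * n * x⁻¹ * n⁻¹ ∈ D ↔ π n * π x = π x * π n := by
    intro n
    rw [← commutatorElement_def, ← QuotientGroup.eq_one_iff]
    show π ⁅x, n⁆ = 1 ↔ _
    rw [map_commutatorElement, commutatorElement_eq_one_iff_mul_comm]
    exact eq_comm
  have hc4 : Nat.card {n : N // x * n * x⁻¹ * (n : P)⁻¹ ∈ D} = Nat.card K := by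
    apply Nat.card_congr
    refine ⟨fun n => ⟨n.1.1, ?_⟩, fun k => ⟨⟨k.1, ?_⟩, ?_⟩, ?_, ?_⟩
    · refine Subgroup.mem_inf.mpr ⟨n.1.2, ?_⟩
      rw [Subgroup.mem_comap, Subgroup.mem_centralizer_singleton_iff]
      exact (hiff _).mp n.2
    · exact (Subgroup.mem_inf.mp k.2).1
    · have := (Subgroup.mem_inf.mp k.2).2
      rw [Subgroup.mem_comap, Subgroup.mem_centralizer_singleton_iff] at this
      exact (hiff _).mpr this
    · intro n; rfl
    · intro k; rfl
  have hc5 : Nat.card N * p = Nat.card P := by
    rw [← hN]; exact Subgroup.card_mul_index N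
  have hc6 := Subgroup.card_mul_index (commutator P)
  rw [hc4, ← hDcard]
  have hDpos : 0 < Nat.card D := Nat.card_pos
  have hNpos : 0 < Nat.card N := Nat.card_pos
  -- hmain : cA * cQ = |A|; hc1 : |A| * d = |N|; hc2 : cQ * d = |P'|; hc3 : cA * d = |K|
  have e1 : Nat.card K * Nat.card (commutator P) = Nat.card N * Nat.card D := by
    rw [← hc3, ← hc2, ← hc1, ← hmain]; ring
  have e2 : Nat.card N * (p * Nat.card K) = Nat.card N * (Nat.card D * (commutator P).index) := by
    calc Nat.card N * (p * Nat.card K) = Nat.card K * (Nat.card N * p) := by ring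
      _ = Nat.card K * (Nat.card (commutator P) * (commutator P).index) := by rw [hc5, hc6]
      _ = (Nat.card K * Nat.card (commutator P)) * (commutator P).index := by ring
      _ = Nat.card N * (Nat.card D * (commutator P).index) := by rw [e1]; ring
  exact Nat.eq_of_mul_eq_mul_left hNpos e2

end

/-- Let p be a prime, P a finite p-group and N a normal subgroup of P of index p. For x ∈ P write c(x) for the number of elements n of N whose commutator x n x⁻¹ n⁻¹ lies in the derived subgroup N' (so c(x)/#N' is the order of the centralizer of x acting on N/N'). Then [P : P'] = p² if and only if c(x) = p·#N' for every x ∈ P outside N, and also if and only if c(x) = p·#N' for some x ∈ P outside N. -/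
theorem result {P : Type*} [Group P] [Finite P] (p : ℕ) [Fact p.Prime] (hP : IsPGroup p P) (N : Subgroup P) [N.Normal] (hN : N.index = p) :
    ((commutator P).index = p ^ 2 ↔ ∀ x : P, x ∉ N →
        Nat.card {n : N // x * n * x⁻¹ * (n : P)⁻¹ ∈ (commutator N).map N.subtype} = p * Nat.card (commutator N)) ∧
    ((commutator P).index = p ^ 2 ↔ ∃ x : P, x ∉ N ∧
        Nat.card {n : N // x * n * x⁻¹ * (n : P)⁻¹ ∈ (commutator N).map N.subtype} = p * Nat.card (commutator N)) := by
  have hpp : p.Prime := Fact.out
  have hkey := key p N hN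
  have hcpos : 0 < Nat.card (commutator N) := Nat.card_pos
  have hstep : ∀ x : P, x ∉ N → ((commutator P).index = p ^ 2 ↔
      Nat.card {n : N // x * n * x⁻¹ * (n : P)⁻¹ ∈ (commutator N).map N.subtype} =
        p * Nat.card (commutator N)) := by
    intro x hx
    have h := hkey x hx
    constructor
    · intro hidx
      rw [hidx] at h
      apply Nat.eq_of_mul_eq_mul_left hpp.pos
      rw [h]; ring
    · intro hc
      rw [hc] at h
      apply Nat.eq_of_mul_eq_mul_left hcpos
      rw [← h]; ring
  obtain ⟨x₀, hx₀⟩ : ∃ x, x ∉ N := by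
    by_contra hcon
    push Not at hcon
    have : N = ⊤ := (Subgroup.eq_top_iff' N).mpr hcon
    rw [this, Subgroup.index_top] at hN
    exact hpp.one_lt.ne hN
  refine ⟨⟨fun h x hx => (hstep x hx).mp h, fun h => (hstep x₀ hx₀).mpr (h x₀ hx₀)⟩,
    ⟨fun h => ⟨x₀, hx₀, (hstep x₀ hx₀).mp h⟩, fun ⟨x, hx, h⟩ => (hstep x hx).mpr h⟩⟩

end Cfsg.Agent.S4586
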