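import Cfsg.Statements.S4601
-- import your own Cfsg.Agent.* helpers here
import Cfsg.Agent.Lib_helper19_SylNorm

set_option autoImplicit false
open Cfsg

namespace Cfsg.Agent.S4601

/-- Let p and q be primes and G a finite group that is p-solvable or q-solvable, in which no q-element has conjugacy class size divisible by p. Then some Sylow p-subgroup of G normalizes some Sylow q-subgroup of G. -/
theorem result {G : Type*} [Group G] [Finite G] (p q : ℕ) [Fact p.Prime] [Fact q.Prime] (hsolv : Cfsg.IsPSolvable p G ∨ Cfsg.IsPSolvable q G)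
    (h : ∀ y : G, (∃ k : ℕ, orderOf y = q ^ k) → ¬ p ∣ (Subgroup.centralizer ({y} : Set G)).index) :
    ∃ (P : Sylow p G) (Q : Sylow q G), (P : Subgroup G) ≤ Subgroup.normalizer ((Q : Subgroup G) : Set G) := by
  by_cases hpq : p = q
  · subst hpq
    obtain ⟨P⟩ : Nonempty (Sylow p G) := Sylow.nonempty
    exact ⟨P, P, Subgroup.le_normalizer⟩
  · have hnd := Cfsg.Agent.helper19.not_dvd_card_sylow_of_class_sizes hpq _ G rfl hsolv h
    obtain ⟨P⟩ : Nonempty (Sylow p G) := Sylow.nonempty
    obtain ⟨Q, hQ⟩ := P.2.nonempty_fixed_point_of_prime_not_dvd_card (Sylow q G) hnd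
    refine ⟨P, Q, fun g hg => ?_⟩
    rw [MulAction.mem_fixedPoints] at hQ
    have h3 := hQ ⟨g, hg⟩
    rw [Subgroup.smul_def] at h3
    exact Sylow.smul_eq_iff_mem_normalizer.1 h3

end Cfsg.Agent.S4601
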