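import Mathlib
import Cfsg.Agent.Lib_helper22_PSolvB0
import Cfsg.Agent.Lib_helper23_PSolv3
import Cfsg.Agent.Lib_helper24_CharCod
import Cfsg.Statements.S4611
-- import your own Cfsg.Agent.* helpers here

set_option autoImplicit false
open Cfsg

namespace Cfsg.Agent.S4611

/-- Let G be a finite solvable group and π a nonempty set of primes, each dividing the order of G; fix for each p in π a maximal ideal M p of the algebraic integers containing p. Then the only irreducible character lying in the principal p-block for every p in π is the principal character if and only if G is generated by the subgroups O_{p'}(G), p in π (the largest normal subgroups of order prime to p). -/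
theorem result {G : Type*} [Group G] [Finite G] [Group.IsSolvable G] (π : Set ℕ) (hπ : ∀ p ∈ π, p.Prime ∧ p ∣ Nat.card G) (hne : π.Nonempty) (M : ℕ → Ideal Cfsg.AlgInt) (hM : ∀ p ∈ π, Cfsg.IsPModular p (M p)) :
    (∀ χ : Cfsg.IrrCharacter G, (∀ p ∈ π, χ ∈ Cfsg.principalBlock (M p) G) → (χ : G → ℂ) = fun _ => 1) ↔
      ⨆ p ∈ π, Cfsg.pPrimeCore p G = ⊤ := by
  classical
  haveI := Fintype.ofFinite G
  obtain ⟨N, hNdef⟩ : ∃ N : Subgroup G, N = ⨆ p ∈ π, Cfsg.pPrimeCore p G := ⟨_, rfl⟩
  rw [← hNdef]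
  haveI hNn : N.Normal := by
    rw [hNdef]
    exact Subgroup.biSup_normal π (fun p => Cfsg.pPrimeCore p G)
      (fun p _ => Cfsg.Agent.helper1.pPrimeCore_normal p)
  have key : ∀ χ : Cfsg.IrrCharacter G, (∀ p ∈ π, χ ∈ Cfsg.principalBlock (M p) G) ↔
      ∀ n ∈ N, (χ : G → ℂ) n = (χ : G → ℂ) 1 := by
    intro χ
    have hc := Cfsg.Agent.helper24.irr_isCharacter χ.2
    constructor
    · intro h
      have hle : N ≤ Cfsg.Agent.helper24.charKer hc := by
        rw [hNdef]
        apply iSup₂_le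
        intro p hp n hn
        haveI : Fact p.Prime := ⟨(hπ p hp).1⟩
        rw [Cfsg.Agent.helper24.mem_charKer]
        exact (Cfsg.Agent.helper22.mem_principalBlock_iff_of_pSolvable p (M p) (hM p hp)
          (Cfsg.Agent.helper23.isPSolvable_of_solvable p G) χ).mp (h p hp) n hn
      intro n hn
      exact (Cfsg.Agent.helper24.mem_charKer hc n).mp (hle hn)
    · intro h p hp
      haveI : Fact p.Prime := ⟨(hπ p hp).1⟩
      rw [Cfsg.Agent.helper22.mem_principalBlock_iff_of_pSolvable p (M p) (hM p hp)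
        (Cfsg.Agent.helper23.isPSolvable_of_solvable p G) χ]
      intro n hn
      apply h n
      rw [hNdef]
      exact (le_iSup₂ (f := fun p (_ : p ∈ π) => Cfsg.pPrimeCore p G) p hp) hn
  constructor
  · intro h
    by_contra hN
    have hcard : Nat.card (G ⧸ N) ≠ 1 := by
      intro h1
      apply hN
      rw [← Subgroup.index_eq_one]
      exact h1
    obtain ⟨θ, q, hq⟩ := Cfsg.Agent.helper22.exists_irr_ne_one hcard
    obtain ⟨g, rfl⟩ := QuotientGroup.mk_surjective q
    have hχ := Cfsg.Agent.helper24.irr_inflation N θ.2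
    have h1 : ∀ n ∈ N, ((θ : G ⧸ N → ℂ) ∘ (QuotientGroup.mk : G → G ⧸ N)) n =
        ((θ : G ⧸ N → ℂ) ∘ (QuotientGroup.mk : G → G ⧸ N)) 1 := by
      intro n hn
      show (θ : G ⧸ N → ℂ) (n : G ⧸ N) = (θ : G ⧸ N → ℂ) ((1 : G) : G ⧸ N)
      rw [(QuotientGroup.eq_one_iff n).mpr hn]
      rfl
    have h2 := h ⟨_, hχ⟩ ((key ⟨_, hχ⟩).mpr h1)
    apply hq
    have h3 := congrFun h2 g
    exact h3
  · intro hN χ hχ
    have h1 := (key χ).mp hχ
    rw [hN] at h1
    have hconst : ∀ g : G, (χ : G → ℂ) g = (χ : G → ℂ) 1 := fun g => h1 g (Subgroup.mem_top g)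
    obtain ⟨d, hd0, hd⟩ := Cfsg.Agent.helper24.irr_apply_one χ.2
    have e1 : (χ : G → ℂ) = ((d : ℂ)) • (fun _ : G => (1 : ℂ)) := by
      funext g
      rw [Pi.smul_apply, smul_eq_mul, mul_one, hconst g, hd]
    have hself := Cfsg.Agent.helper24.irr_classInner χ.2 χ.2
    rw [if_pos rfl] at hself
    have hone := Cfsg.Agent.helper24.irr_classInner
      (Cfsg.Agent.helper24.isIrrCharacter_one (G := G)) χ.2
    by_contra hne
    have hne' : (fun _ : G => (1 : ℂ)) ≠ (χ : G → ℂ) := fun h => hne h.symm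
    rw [if_neg hne'] at hone
    have h5 : Cfsg.classInner ((d : ℂ) • (fun _ : G => (1 : ℂ))) (χ : G → ℂ) = 0 := by
      rw [Cfsg.Agent.helper24.classInner_smul_left, hone, mul_zero]
    rw [← e1] at h5
    rw [h5] at hself
    exact zero_ne_one hself

end Cfsg.Agent.S4611
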