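import Mathlib
import Cfsg.Statements.S4623
import Cfsg.Agent.Lib_helper9_SylSym

set_option autoImplicit false
open Cfsg

namespace Cfsg.Agent.S4623

/-- For every prime p and every n, a Sylow p-subgroup P of the symmetric group on n letters has P/P' elementary abelian (the p-th power of every element of P lies in the derived subgroup of P), and the same holds for a Sylow p-subgroup of the alternating group on n letters. -/
theorem result (p : ℕ) [Fact p.Prime] (n : ℕ) (P : Sylow p (Equiv.Perm (Fin n))) (Q : Sylow p (alternatingGroup (Fin n))) :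
    (∀ x : (P : Subgroup (Equiv.Perm (Fin n))), x ^ p ∈ commutator (P : Subgroup (Equiv.Perm (Fin n)))) ∧
    (∀ x : (Q : Subgroup (alternatingGroup (Fin n))), x ^ p ∈ commutator (Q : Subgroup (alternatingGroup (Fin n)))) := by
  constructor
  · intro x
    obtain ⟨W, hW, gW, cW⟩ := Cfsg.Agent.helper9.SylSym.good_all p n
    apply Cfsg.Agent.helper9.SylSym.sylow_of_gen p W hW gW _ P x
    rw [Nat.card_eq_fintype_card, Fintype.card_perm, Nat.factorization_def _ Fact.out]
    exact cW
  · intro x
    obtain ⟨W, hWA, hW, gW, cW⟩ := Cfsg.Agent.helper9.SylSym.goodA_all p n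
    apply Cfsg.Agent.helper9.SylSym.sylow_of_gen p (W.subgroupOf (alternatingGroup (Fin n)))
      (hW.comap_subtype) (Cfsg.Agent.helper9.SylSym.gen_subgroupOf p W _ hWA gW) _ Q x
    rw [Nat.card_congr (Subgroup.subgroupOfEquivOfLe hWA).toEquiv]
    exact cW

end Cfsg.Agent.S4623
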