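import Cfsg.Statements.S4626
import Cfsg.Agent.Lib_helper23_Block
import Cfsg.Agent.Lib_helper24_Char
import Cfsg.Agent.Lib_helper24_CharKer
import Cfsg.Agent.Lib_helper24_CharIntegral

set_option autoImplicit false
open Cfsg

namespace Cfsg.Agent.S4626

/-- Let G be a finite group, p a prime, M a maximal ideal of the algebraic integers containing p, P a Sylow p-subgroup of G and N a normal subgroup of index prime to p containing the centralizer C_G(P). Then every irreducible character of G whose kernel contains N lies in the principal p-block of G. -/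
theorem result {G : Type*} [Group G] [Finite G] (p : ℕ) [Fact p.Prime] (M : Ideal Cfsg.AlgInt) (hM : Cfsg.IsPModular p M) (P : Sylow p G) (N : Subgroup G) [N.Normal] (hidx : ¬ p ∣ N.index)
    (hC : Subgroup.centralizer ((P : Subgroup G) : Set G) ≤ N) (χ : Cfsg.IrrCharacter G) (hker : ∀ n ∈ N, (χ : G → ℂ) n = (χ : G → ℂ) 1) :
    χ ∈ Cfsg.principalBlock M G := by
  classical
  have hpp : p.Prime := Fact.out
  obtain ⟨ψ, hψ, hχψ⟩ := Cfsg.Agent.helper24.irr_deflation N χ.2 hker
  have hdeg : Cfsg.charDegree (χ : G → ℂ) = Cfsg.charDegree ψ := by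
    unfold Cfsg.charDegree
    rw [hχψ]
    rfl
  have hdvd : Cfsg.charDegree ψ ∣ N.index := by
    have h1 := Cfsg.Agent.helper24.irr_degree_dvd_card hψ
    rwa [← Subgroup.index_eq_card] at h1
  have hpd : ¬ p ∣ Cfsg.charDegree (χ : G → ℂ) := by
    intro h
    rw [hdeg] at h
    exact hidx (h.trans hdvd)
  obtain ⟨d, hd⟩ : ∃ d : ℕ, d = Cfsg.charDegree (χ : G → ℂ) := ⟨_, rfl⟩
  rw [← hd] at hpd
  have hd1 : (d : ℂ) = (χ : G → ℂ) 1 := by
    rw [hd]
    exact Cfsg.Agent.helper24.char_charDegree_cast (Cfsg.Agent.helper24.irr_isCharacter χ.2)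
  have hd0 : (d : ℂ) ≠ 0 := by
    rw [hd1]; exact Cfsg.Agent.helper24.irr_apply_one_ne_zero χ.2
  have hbM : (d : Cfsg.AlgInt) ∉ M := Cfsg.Agent.helper23.natCast_not_mem_of_not_dvd hM d hpd
  show Cfsg.SameBlock M (fun _ : G => (1 : ℂ)) (χ : G → ℂ)
  intro g
  let y : Cfsg.AlgInt := ⟨(d : ℂ) - (χ : G → ℂ) g,
    (isIntegral_natCast d).sub (Cfsg.Agent.helper23.irr_isIntegral χ g)⟩
  refine ⟨((Subgroup.centralizer ({g} : Set G)).index : Cfsg.AlgInt) * y, (d : Cfsg.AlgInt),
    ?_, hbM, ?_⟩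
  · by_cases hg : g ∈ N
    · have hy0 : y = 0 := by
        apply Subtype.ext
        change (d : ℂ) - (χ : G → ℂ) g = 0
        rw [hker g hg, hd1, sub_self]
      rw [hy0, mul_zero]
      exact M.zero_mem
    · exact Cfsg.Agent.helper23.natCast_mul_mem hM _
        (Cfsg.Agent.helper23.dvd_index_centralizer_of_not_mem p P N hC g hg) y
  · unfold Cfsg.centralChar
    have hy : (y : ℂ) = (d : ℂ) - (χ : G → ℂ) g := rfl
    push_cast
    rw [hy, ← hd1]
    field_simp

end Cfsg.Agent.S4626
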