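import Mathlib
import Cfsg.Statements.S4627
import Cfsg.Agent.Lib_helper17_SylPC13

set_option autoImplicit false
open Cfsg

namespace Cfsg.Agent.S4627

theorem result {F : Type*} [Field F] [Fintype F] (hF : Odd (Fintype.card F)) (m : ℕ) (hm : 1 ≤ m)
    (hq : 4 ∣ Fintype.card F + 1 ∨ (4 ∣ Fintype.card F - 1 ∧ ∃ j : ℕ, m = 2 ^ j)) (P : Sylow 2 (Matrix.SpecialLinearGroup (Fin (2 * m)) F)) :
    ∀ x : (P : Subgroup (Matrix.SpecialLinearGroup (Fin (2 * m)) F)), x ^ 2 ∈ commutator (P : Subgroup (Matrix.SpecialLinearGroup (Fin (2 * m)) F)) := by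
  intro x
  have hq1 : 1 < Fintype.card F := Fintype.one_lt_card
  rcases hq with hq | ⟨hq, j, rfl⟩
  · have hq3 : Fintype.card F % 4 = 3 := by omega
    exact Cfsg.Agent.helper17.SylPC.sylow_SL_three hq3 m 0 (by omega) P x
  · have hq3 : Fintype.card F % 4 = 1 := by omega
    have h1 : 2 * 2 ^ j = 2 ^ (j + 1) := by rw [pow_succ]; ring
    revert P x
    rw [h1]
    intro P x
    exact Cfsg.Agent.helper17.SylPC.sylow_SL_one hq3 (j + 1) P x

end Cfsg.Agent.S4627
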