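import Mathlib
import Cfsg.Statements.S4628
import Cfsg.Agent.Lib_helper17_SylPC8

set_option autoImplicit false
open Cfsg

namespace Cfsg.Agent.S4628

theorem result {F : Type*} [Field F] [Fintype F] (hF : Odd (Fintype.card F)) (hq : 4 ∣ Fintype.card F + 1) (m : ℕ) (hm : 1 ≤ m) (P : Sylow 2 (Matrix.SpecialLinearGroup (Fin (2 * m + 1)) F)) :
    ∀ x : (P : Subgroup (Matrix.SpecialLinearGroup (Fin (2 * m + 1)) F)), x ^ 2 ∈ commutator (P : Subgroup (Matrix.SpecialLinearGroup (Fin (2 * m + 1)) F)) := by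
  intro x
  have hq3 : Fintype.card F % 4 = 3 := by omega
  exact Cfsg.Agent.helper17.SylPC.sylow_SL_three hq3 m 1 le_rfl P x

end Cfsg.Agent.S4628
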