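import Cfsg.Statements.S4636
import Mathlib

set_option autoImplicit false
open scoped Pointwise
open Cfsg

namespace Cfsg.Agent.S4636

theorem mem_conj_smul {G : Type*} [Group G] (g x : G) (Q : Subgroup G) :
    x ∈ MulAut.conj g • Q ↔ g⁻¹ * x * g ∈ Q := by
  rw [Subgroup.mem_pointwise_smul_iff_inv_smul_mem, MulAut.smul_def, MulAut.conj_inv_apply]

theorem cyclic_unique_prime_subgroup {C : Type*} [Group C] [Finite C] [IsCyclic C] (p : ℕ) [hp : Fact p.Prime]
    (A B : Subgroup C) (hA : Nat.card A = p) (hB : Nat.card B = p) : A = B := by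
  let _ : CommGroup C := IsCyclic.commGroup
  have hK : Nat.card (powMonoidHom p : C →* C).ker = Nat.gcd (Nat.card C) p :=
    IsCyclic.card_powMonoidHom_ker (G := C) p
  have hKle : Nat.card (powMonoidHom p : C →* C).ker ≤ p := by
    rw [hK]; exact Nat.le_of_dvd hp.out.pos (Nat.gcd_dvd_right _ _)
  have key : ∀ (A : Subgroup C), Nat.card A = p → A = (powMonoidHom p : C →* C).ker := by
    intro A hA
    apply Subgroup.eq_of_le_of_card_ge
    · intro a ha
      rw [MonoidHom.mem_ker, powMonoidHom_apply]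
      have : (⟨a, ha⟩ : A) ^ p = 1 := by rw [← hA]; exact pow_card_eq_one'
      exact congrArg Subtype.val this
    · rw [hA]; exact hKle
  rw [key A hA, key B hB]

theorem unique_in_cyclic {G : Type*} [Group G] [Finite G] (p : ℕ) [Fact p.Prime] (P : Subgroup G)
    (hcyc : IsCyclic P) (A B : Subgroup G) (hA : A ≤ P) (hB : B ≤ P) (hAc : Nat.card A = p)
    (hBc : Nat.card B = p) : A = B := by
  have h1 : Nat.card (A.subgroupOf P) = p := by
    rw [← hAc]; exact Nat.card_congr (Subgroup.subgroupOfEquivOfLe hA).toEquiv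
  have h2 : Nat.card (B.subgroupOf P) = p := by
    rw [← hBc]; exact Nat.card_congr (Subgroup.subgroupOfEquivOfLe hB).toEquiv
  have := cyclic_unique_prime_subgroup p _ _ h1 h2
  rw [Subgroup.subgroupOf_inj] at this
  rwa [inf_of_le_left hA, inf_of_le_left hB] at this

theorem exists_order_p {G : Type*} [Group G] [Finite G] (p : ℕ) [Fact p.Prime] (Q : Subgroup G)
    (hQ : IsPGroup p Q) (hQ1 : Q ≠ ⊥) : ∃ w ∈ Q, orderOf w = p := by
  have hdvd : p ∣ Nat.card Q := by
    rcases hQ.card_eq_or_dvd with h | h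
    · exact absurd (Subgroup.card_eq_one.mp h) hQ1
    · exact h
  obtain ⟨w, hw⟩ := exists_prime_orderOf_dvd_card' (G := Q) p hdvd
  refine ⟨w, w.2, ?_⟩
  rw [← hw, Subgroup.orderOf_coe]

theorem mem_normalizer_of_zpowers {G : Type*} [Group G] (Z : Subgroup G) (w g : G)
    (h1 : Subgroup.zpowers w = Z) (h2 : Subgroup.zpowers (g * w * g⁻¹) = Z) :
    g ∈ Subgroup.normalizer (Z : Set G) := by
  rw [Subgroup.mem_normalizer_iff]
  intro h
  constructor
  · intro hh
    rw [← h1] at hh
    obtain ⟨k, rfl⟩ := Subgroup.mem_zpowers_iff.mp hh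
    rw [← h2, ← conj_zpow]
    exact Subgroup.zpow_mem_zpowers _ k
  · intro hh
    rw [← h2] at hh
    obtain ⟨k, hk⟩ := Subgroup.mem_zpowers_iff.mp hh
    rw [conj_zpow] at hk
    have : w ^ k = h := by
      have := mul_left_cancel (mul_right_cancel hk)
      exact this
    rw [← h1, ← this]
    exact Subgroup.zpow_mem_zpowers _ k

theorem zpowers_eq_of_order {G : Type*} [Group G] [Finite G] (p : ℕ) [Fact p.Prime] (P : Subgroup G)
    (hcyc : IsCyclic P) (Z : Subgroup G) (hZ : Z ≤ P) (hZcard : Nat.card Z = p) (w : G) (hw : w ∈ P)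
    (hwo : orderOf w = p) : Subgroup.zpowers w = Z := by
  apply unique_in_cyclic p P hcyc _ _ _ hZ _ hZcard
  · rw [Subgroup.zpowers_le]; exact hw
  · rw [Nat.card_zpowers, hwo]

/-- Let P be a nontrivial cyclic p-subgroup of the finite group G and Z its subgroup of order p. For every x outside N_G(Z), P meets its conjugate xPx⁻¹ trivially; consequently N_G(Q) ≤ N_G(Z) for every nontrivial subgroup Q of P. -/
theorem result {G : Type*} [Group G] [Finite G] (p : ℕ) [Fact p.Prime] (P : Subgroup G) (hP : IsPGroup p P) (hP1 : P ≠ ⊥) (hcyc : IsCyclic P) (Z : Subgroup G) (hZ : Z ≤ P) (hZcard : Nat.card Z = p) : (∀ x : G, x ∉ Subgroup.normalizer (Z : Set G) → P ⊓ MulAut.conj x • P = ⊥) ∧ ∀ Q : Subgroup G, Q ≤ P → Q ≠ ⊥ → Subgroup.normalizer (Q : Set G) ≤ Subgroup.normalizer (Z : Set G) := by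
  have hconj : ∀ (g w : G), orderOf (g * w * g⁻¹) = orderOf w := by
    intro g w
    exact orderOf_injective (MulAut.conj g).toMonoidHom (MulAut.conj g).injective w
  constructor
  · intro x hx
    by_contra hne
    have hRp : IsPGroup p (P ⊓ MulAut.conj x • P : Subgroup G) := hP.to_le inf_le_left
    obtain ⟨w, hwR, hwo⟩ := exists_order_p p _ hRp hne
    have hwP : w ∈ P := hwR.1
    have hwP' : x⁻¹ * w * x ∈ P := (mem_conj_smul x w P).mp hwR.2
    have e1 := zpowers_eq_of_order p P hcyc Z hZ hZcard w hwP hwo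
    have hwo' : orderOf (x⁻¹ * w * x⁻¹⁻¹) = p := by rw [hconj, hwo]
    have e2 := zpowers_eq_of_order p P hcyc Z hZ hZcard (x⁻¹ * w * x⁻¹⁻¹) (by simpa using hwP') hwo'
    have := mem_normalizer_of_zpowers Z w x⁻¹ e1 e2
    exact hx (by simpa using inv_mem this)
  · intro Q hQP hQ1 g hg
    have hQp : IsPGroup p Q := hP.to_le hQP
    obtain ⟨w, hwQ, hwo⟩ := exists_order_p p Q hQp hQ1
    have hgw : g * w * g⁻¹ ∈ Q := (Subgroup.mem_normalizer_iff.mp hg w).mp hwQ
    have e1 := zpowers_eq_of_order p P hcyc Z hZ hZcard w (hQP hwQ) hwo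
    have e2 := zpowers_eq_of_order p P hcyc Z hZ hZcard (g * w * g⁻¹) (hQP hgw) (by rw [hconj, hwo])
    exact mem_normalizer_of_zpowers Z w g e1 e2

end Cfsg.Agent.S4636
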