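import Cfsg.Statements.S4637
import Mathlib
import Cfsg.Agent.Lib_helper1_Klein7

set_option autoImplicit false
set_option linter.style.haveILetI false
set_option linter.unusedVariables false
open Cfsg

namespace Cfsg.Agent.S4637

/-- Let B be a block of the finite group G relative to a maximal ideal M of the algebraic integers containing 2, with a Klein four defect group P. Let c be a block of C_G(P) inducing B, T the stabilizer of c in N_G(P) and e the index of C_G(P) in T (the inertial index). Then e is 1 or 3, B contains exactly four irreducible characters, and the 2-regular rank of B (its number of irreducible Brauer characters) equals e. -/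
theorem result {G : Type*} [Group G] [Finite G] (M : Ideal Cfsg.AlgInt) (hM : Cfsg.IsPModular 2 M) (B : Set (Cfsg.IrrCharacter G)) (hB : Cfsg.IsPBlock M B) (P : Subgroup G) (hPD : Cfsg.IsDefectGroup 2 M B P) (hV : IsKleinFour P) (c : Set (Cfsg.IrrCharacter (Subgroup.centralizer (P : Set G)))) (hc : Cfsg.IsInducedBlock M (Subgroup.centralizer (P : Set G)) c B) (T : Subgroup G) (hT : ∀ g : G, g ∈ T ↔ (g ∈ Subgroup.normalizer (P : Set G) ∧ Cfsg.StabilizesBlock (Subgroup.centralizer (P : Set G)) c g)) (e : ℕ) (he : (Subgroup.centralizer (P : Set G)).relIndex T = e) : (e = 1 ∨ e = 3) ∧ Nat.card B = 4 ∧ Cfsg.blockRank 2 B = e := by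
  classical
  have := Fintype.ofFinite G
  haveI := hV
  haveI : Fact (Nat.Prime 2) := ⟨Nat.prime_two⟩
  have hmax := Cfsg.Agent.helper24.maximal_of_induced_defect hM B P hPD c hc
  have hab := Cfsg.Agent.helper1.klein_abelian P
  have hodd := Cfsg.Agent.helper24.maximal_abelian_index hM B hmax hab hT
  obtain ⟨hPT, hTN, -, -⟩ := Cfsg.Agent.helper24.stab_basic hT
  have hodd' : ¬ 2 ∣ (Subgroup.centralizer (P : Set G)).relIndex T := hodd
  have hk : Nat.card B = 4 :=
    Cfsg.Agent.helper1.klein_card_block M hM B hB P hPD IsKleinFour.card_four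
  rcases Cfsg.Agent.helper1.klein_inertial_cases P T hPT hTN hodd' with h1 | h3
  · rw [he] at h1
    refine ⟨Or.inl h1, hk, ?_⟩
    rw [h1]
    apply Cfsg.Agent.helper1.klein_rank_one hM B P hPD c hc T hT
    apply Subgroup.relIndex_eq_one.1
    rw [he, h1]
  · have h3' := h3
    rw [he] at h3
    refine ⟨Or.inr h3, hk, ?_⟩
    rw [h3]
    exact Cfsg.Agent.helper1.klein_rank_three hM B P hPD c hc T hT h3'

end Cfsg.Agent.S4637
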