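import Cfsg.Statements.S4691
import Mathlib
import Cfsg.Agent.Lib_helper1_PrincAut
import Cfsg.Agent.Lib_helper1_PrincBlock
import Cfsg.Agent.Lib_helper24_BrauerMap
import Cfsg.Agent.S0086
import Cfsg.Agent.S0071
import Cfsg.Agent.S4663

set_option autoImplicit false
set_option linter.style.haveILetI false
set_option linter.unusedVariables false
open Cfsg

namespace Cfsg.Agent.S4691

/-- Fix a prime p and a maximal ideal M of the algebraic integers containing p. A finite group G has a normal p-complement if and only if its principal p-block is nilpotent. -/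
theorem result {G : Type*} [Group G] [Fintype G] (p : ℕ) [Fact p.Prime] (M : Ideal Cfsg.AlgInt) (hM : Cfsg.IsPModular p M) : Cfsg.HasNormalPComplement p G ↔ Cfsg.IsNilpotentBlock p M (Cfsg.principalBlock M G) := by
  classical
  have hpp : p.Prime := Fact.out
  constructor
  · rintro ⟨P, K, hKn, hK⟩
    refine ⟨Cfsg.Agent.helper1.isPBlock_principalBlock M, ?_⟩
    intro Q e hpair x hxN _ hxreg
    have hQ : IsPGroup p Q := hpair.1.1
    haveI := hKn
    have hxK : x ∈ K := (Cfsg.Agent.S0086.result P K hK x).2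
      ((Nat.Prime.coprime_iff_not_dvd hpp).2 hxreg).symm
    rw [Subgroup.mem_centralizer_iff]
    intro q hq
    have h1 : x * q * x⁻¹ * q⁻¹ ∈ Q :=
      Q.mul_mem ((Subgroup.mem_normalizer_iff.1 hxN q).1 hq) (Q.inv_mem hq)
    have h2 : x * q * x⁻¹ * q⁻¹ ∈ K := by
      have h : x * (q * x⁻¹ * q⁻¹) ∈ K := K.mul_mem hxK (hKn.conj_mem _ (K.inv_mem hxK) q)
      simpa [mul_assoc] using h
    have h3 : x * q * x⁻¹ * q⁻¹ = 1 := by
      have hc := (Cfsg.Agent.S0086.result P K hK _).1 h2
      obtain ⟨j, hj⟩ := hQ ⟨_, h1⟩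
      have hj' : (x * q * x⁻¹ * q⁻¹) ^ p ^ j = 1 := by
        have := congrArg Subtype.val hj
        simpa using this
      have hdvd : orderOf (x * q * x⁻¹ * q⁻¹) ∣ p ^ j := orderOf_dvd_of_pow_eq_one hj'
      obtain ⟨i, _, hi⟩ := (Nat.dvd_prime_pow hpp).1 hdvd
      rw [hi] at hc
      have hi0 : i = 0 := by
        by_contra hne
        have hdp : p ∣ p ^ i := dvd_pow_self p hne
        have := Nat.Coprime.eq_one_of_dvd hc.symm hdp
        exact hpp.one_lt.ne' this
      rw [hi0, pow_zero] at hi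
      exact orderOf_eq_one_iff.1 hi
    calc q * x = (x * q * x⁻¹ * q⁻¹)⁻¹ * (x * q) := by group
      _ = x * q := by rw [h3]; simp
  · rintro ⟨_, hnil⟩
    obtain ⟨P⟩ : Nonempty (Sylow p G) := inferInstance
    have hmain := (Cfsg.Agent.S0071.result P).2 ?_
    · obtain ⟨N, hN, hc⟩ := hmain
      exact ⟨P, N, hN, hc⟩
    intro Q hQP g hgN hgcop
    have hQ : IsPGroup p Q := P.2.to_le hQP
    letI : Fintype (Subgroup.centralizer (Q : Set G)) := Fintype.ofFinite _
    have hpair : Cfsg.IsBrauerPairOf p M (Cfsg.principalBlock M G) Q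
        (Cfsg.principalBlock M (Subgroup.centralizer (Q : Set G))) :=
      (Cfsg.Agent.S4663.result p M hM Q hQ _ (Cfsg.Agent.helper1.isPBlock_principalBlock M)).2 rfl
    have hgNC : g ∈ Subgroup.normalizer ((Subgroup.centralizer (Q : Set G) : Subgroup G) : Set G) := by
      rw [Subgroup.mem_normalizer_iff]
      intro c
      constructor
      · intro hc
        exact Cfsg.Agent.helper24.conj_mem_centralizer_of_mem_normalizer hgN hc
      · intro hc
        have hg' : g⁻¹ ∈ Subgroup.normalizer (Q : Set G) := inv_mem hgN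
        have h := Cfsg.Agent.helper24.conj_mem_centralizer_of_mem_normalizer hg' hc
        have h4 : g⁻¹ * (g * c * g⁻¹) * g⁻¹⁻¹ = c := by group
        rwa [h4] at h
    refine hnil Q _ hpair g hgN
      (Cfsg.Agent.helper1.stabilizesBlock_principal _ g hgNC p M hM) ?_
    show ¬ p ∣ orderOf g
    intro hd
    have := Nat.Coprime.eq_one_of_dvd hgcop.symm hd
    exact hpp.one_lt.ne' this

end Cfsg.Agent.S4691
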