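import Cfsg.Statements.S4646
import Mathlib
import Cfsg.Agent.Lib_helper1_PrincQuot
import Cfsg.Agent.Lib_helper1_SharePQ
import Cfsg.Agent.Lib_helper1_BlockRank
import Cfsg.Agent.Lib_helper1_PrincBlock
import Cfsg.Agent.Lib_helper10_NPC
import Cfsg.Agent.Lib_helper24_CharKer
import Cfsg.Agent.S4691
import Cfsg.Agent.S0086

set_option autoImplicit false
set_option linter.style.haveILetI false
set_option linter.unusedVariables false
open Cfsg

namespace Cfsg.Agent.S4646

/-- For a finite group G, a prime p and a maximal ideal M of the algebraic integers containing p: the principal block of G is nilpotent if and only if its p-regular rank is 1 (the trivial Brauer character is its only irreducible Brauer character). -/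
theorem result {G : Type*} [Group G] [Finite G] (p : ℕ) [Fact p.Prime] (M : Ideal Cfsg.AlgInt) (hM : Cfsg.IsPModular p M) : Cfsg.IsNilpotentBlock p M (Cfsg.principalBlock M G) ↔ Cfsg.blockRank p (Cfsg.principalBlock M G) = 1 := by
  classical
  letI := Fintype.ofFinite G
  have hpp : p.Prime := Fact.out
  have hMp : M.IsPrime := hM.2.1.isPrime
  have hMtop := hMp.ne_top
  have hreg1 : ¬ p ∣ orderOf (1 : G) := by
    rw [orderOf_one]
    exact hpp.one_lt.ne' ∘ Nat.dvd_one.1
  obtain ⟨v, hv⟩ : ∃ v : G → ℂ, v = Cfsg.pRegularPart p (fun _ : G => (1 : ℂ)) := ⟨_, rfl⟩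
  have hvx : ∀ x : G, ¬ p ∣ orderOf x → v x = 1 := by
    intro x hx
    rw [hv, Cfsg.Agent.helper1.pRegularPart_apply_of_regular p _ x hx]
  have hvne : v ≠ 0 := by
    intro h
    have := hvx 1 hreg1
    rw [h] at this
    simp at this
  have hone : Cfsg.Agent.helper24.oneIrr G ∈ Cfsg.principalBlock M G :=
    Cfsg.Agent.helper24.oneIrr_mem_principalBlock hMtop
  have hvmem : v ∈ Submodule.span ℂ ((fun χ : Cfsg.IrrCharacter G =>
      Cfsg.pRegularPart p (χ : G → ℂ)) '' Cfsg.principalBlock M G) := by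
    apply Submodule.subset_span
    refine ⟨Cfsg.Agent.helper24.oneIrr G, hone, ?_⟩
    rw [hv]
    rfl
  constructor
  · intro hnil
    obtain ⟨P, K, hKn, hK⟩ := (Cfsg.Agent.S4691.result p M hM).2 hnil
    haveI := hKn
    have hKcop : (Nat.card K).Coprime p := Cfsg.Agent.helper10.card_coprime_of_isComplement' P K hK
    letI : Fintype K := Fintype.ofFinite _
    have hker : ∀ χ ∈ Cfsg.principalBlock M G, ∀ x : G, ¬ p ∣ orderOf x →
        (χ : G → ℂ) x = (χ : G → ℂ) 1 := by
      intro χ hχ x hx
      apply Cfsg.Agent.helper1.principal_ker K p M hM hKcop χ hχ x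
      exact (Cfsg.Agent.S0086.result P K hK x).2 ((Nat.Prime.coprime_iff_not_dvd hpp).2 hx).symm
    have hspan : Submodule.span ℂ ((fun χ : Cfsg.IrrCharacter G =>
        Cfsg.pRegularPart p (χ : G → ℂ)) '' Cfsg.principalBlock M G) = Submodule.span ℂ {v} := by
      apply le_antisymm
      · rw [Submodule.span_le]
        rintro _ ⟨χ, hχ, rfl⟩
        rw [SetLike.mem_coe, Submodule.mem_span_singleton]
        refine ⟨(χ : G → ℂ) 1, ?_⟩
        funext x
        show (χ : G → ℂ) 1 • v x = Cfsg.pRegularPart p (χ : G → ℂ) x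
        by_cases hx : p ∣ orderOf x
        · rw [hv, Cfsg.Agent.helper1.pRegularPart_apply_of_singular p _ x hx,
            Cfsg.Agent.helper1.pRegularPart_apply_of_singular p _ x hx]
          simp
        · rw [hvx x hx, Cfsg.Agent.helper1.pRegularPart_apply_of_regular p _ x hx,
            hker χ hχ x hx]
          simp
      · rw [Submodule.span_le]
        intro w hw
        rw [Set.mem_singleton_iff.1 hw]
        exact hvmem
    unfold Cfsg.blockRank
    rw [hspan]
    exact finrank_span_singleton hvne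
  · intro hrank
    apply (Cfsg.Agent.S4691.result p M hM).1
    have hmult : ∀ χ ∈ Cfsg.principalBlock M G, ∀ x : G, ¬ p ∣ orderOf x →
        (χ : G → ℂ) x = (χ : G → ℂ) 1 := by
      intro χ hχ x hx
      unfold Cfsg.blockRank at hrank
      have hne : (⟨v, hvmem⟩ : ↥(Submodule.span ℂ ((fun χ : Cfsg.IrrCharacter G =>
          Cfsg.pRegularPart p (χ : G → ℂ)) '' Cfsg.principalBlock M G))) ≠ 0 := by
        intro h
        exact hvne (congrArg Subtype.val h)
      have h1 := (finrank_eq_one_iff_of_nonzero' _ hne).1 hrank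
        ⟨Cfsg.pRegularPart p (χ : G → ℂ), Submodule.subset_span ⟨χ, hχ, rfl⟩⟩
      obtain ⟨c, hc⟩ := h1
      have hc' : c • v = Cfsg.pRegularPart p (χ : G → ℂ) := congrArg Subtype.val hc
      have e1 := congrFun hc' 1
      have ex := congrFun hc' x
      rw [Pi.smul_apply, hvx 1 hreg1,
        Cfsg.Agent.helper1.pRegularPart_apply_of_regular p _ 1 hreg1] at e1
      rw [Pi.smul_apply, hvx x hx,
        Cfsg.Agent.helper1.pRegularPart_apply_of_regular p _ x hx] at ex
      rw [← ex, ← e1]
    have hK : ∀ χ : Cfsg.IrrCharacter G, ∃ K : Subgroup G, K.Normal ∧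
        ∀ g, g ∈ K ↔ (χ : G → ℂ) g = (χ : G → ℂ) 1 := fun χ =>
      Cfsg.Agent.helper24.char_exists_ker (Cfsg.Agent.helper24.irr_isCharacter χ.2)
    choose Kf hKn hKmem using hK
    obtain ⟨N, hNdef⟩ : ∃ N : Subgroup G,
        N = ⨅ χ : {χ : Cfsg.IrrCharacter G // χ ∈ Cfsg.principalBlock M G}, Kf χ.1 := ⟨_, rfl⟩
    haveI hNn : N.Normal := by
      rw [hNdef]
      exact Subgroup.normal_iInf_normal (fun χ => hKn χ.1)
    have hNmem : ∀ g, g ∈ N ↔ ∀ χ ∈ Cfsg.principalBlock M G,
        (χ : G → ℂ) g = (χ : G → ℂ) 1 := by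
      intro g
      rw [hNdef, Subgroup.mem_iInf]
      constructor
      · intro h χ hχ
        exact (hKmem χ g).1 (h ⟨χ, hχ⟩)
      · intro h χ
        exact (hKmem χ.1 g).2 (h χ.1 χ.2)
    have hreg : ∀ g : G, ¬ p ∣ orderOf g → g ∈ N := fun g hg =>
      (hNmem g).2 (fun χ hχ => hmult χ hχ g hg)
    have hsing : ∀ g ∈ N, ¬ p ∣ orderOf g := by
      intro g hg hd
      have h0 := Cfsg.Agent.helper1.weak_orth_toFinset p M hM _
        (Cfsg.Agent.helper1.isPBlock_principalBlock M) 1 g hreg1 hd
      have h1 : ∑ χ ∈ (Set.toFinite (Cfsg.principalBlock M G)).toFinset,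
          Complex.normSq ((χ : G → ℂ) 1) = 0 := by
        apply Complex.ofReal_injective
        rw [Complex.ofReal_sum, Complex.ofReal_zero, ← h0]
        refine Finset.sum_congr rfl (fun χ hχ => ?_)
        rw [(hNmem g).1 hg χ ((Set.Finite.mem_toFinset _).1 hχ), Complex.mul_conj]
      have h2 := (Finset.sum_eq_zero_iff_of_nonneg (fun χ _ => Complex.normSq_nonneg _)).1 h1
        (Cfsg.Agent.helper24.oneIrr G) ((Set.Finite.mem_toFinset _).2 hone)
      have h3 : Complex.normSq (((Cfsg.Agent.helper24.oneIrr G : Cfsg.IrrCharacter G) : G → ℂ) 1) = 1 := by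
        show Complex.normSq (1 : ℂ) = 1
        simp
      rw [h3] at h2
      exact one_ne_zero h2
    have hNcop : (Nat.card N).Coprime p := by
      rw [Nat.coprime_comm, hpp.coprime_iff_not_dvd]
      intro hd
      obtain ⟨g, hg⟩ := exists_prime_orderOf_dvd_card' p hd
      have h := hsing (g : G) g.2
      rw [Subgroup.orderOf_coe, hg] at h
      exact h dvd_rfl
    have hquot : IsPGroup p (G ⧸ N) := by
      intro q
      obtain ⟨g, rfl⟩ := QuotientGroup.mk_surjective q
      refine ⟨(orderOf g).factorization p, ?_⟩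
      have ho : orderOf g ≠ 0 := (orderOf_pos g).ne'
      have hreg' : ¬ p ∣ orderOf (g ^ (p ^ (orderOf g).factorization p)) := by
        rw [orderOf_pow, Nat.gcd_eq_right (Nat.ordProj_dvd (orderOf g) p)]
        exact Nat.not_dvd_ordCompl hpp ho
      have h := hreg _ hreg'
      rw [← QuotientGroup.mk_pow]
      exact (QuotientGroup.eq_one_iff _).2 h
    exact Cfsg.Agent.helper10.npc_of_quotient_coprime N hNcop
      (Cfsg.Agent.helper10.npc_of_isPGroup hquot)

end Cfsg.Agent.S4646
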