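import Cfsg.Statements.S4654
import Mathlib
import Cfsg.Agent.Lib_helper24_BPair17
import Cfsg.Agent.Lib_helper24_FongRey5
import Cfsg.Agent.Lib_helper1_IdemSupport

set_option autoImplicit false
set_option linter.style.haveILetI false
set_option linter.unusedVariables false
open Cfsg

namespace Cfsg.Agent.S4654

/-- Fix a prime p and a maximal ideal M of the algebraic integers containing p. Let P be a normal p-subgroup of the finite group G, B a p-block of G and e a p-block of C_G(P) such that (P, e) is a Brauer pair of B (as P is normal, this says that e occurs in the idempotent of B, which is supported on C_G(P)). Let T be the stabilizer of e in G under conjugation. Then the idempotent of e is a block idempotent of T: some block E of T has, at every element of T, the same idempotent coefficient as e (zero off C_G(P)); and the idempotent of B is the sum of the distinct G-conjugates of the idempotent of e: its coefficient at g is the sum over all x in G of the coefficient of e at x⁻¹ g x, divided by the order of T.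 -/
theorem result {G : Type*} [Group G] [Fintype G] (p : ℕ) [Fact p.Prime] (M : Ideal Cfsg.AlgInt) (hM : Cfsg.IsPModular p M) (P : Subgroup G) [P.Normal] (hP : IsPGroup p P) (B : Set (Cfsg.IrrCharacter G)) (e : Set (Cfsg.IrrCharacter (Subgroup.centralizer (P : Set G)))) (hBe : Cfsg.IsBrauerPairOf p M B P e) (T : Subgroup G) (hT : ∀ x : G, x ∈ T ↔ Cfsg.StabilizesBlock (Subgroup.centralizer (P : Set G)) e x) : (∃ E : Set (Cfsg.IrrCharacter T), Cfsg.IsPBlock M E ∧ ∀ t : T, Cfsg.blockCoeff E t = Cfsg.subgroupBlockCoeff (Subgroup.centralizer (P : Set G)) e (t : G)) ∧ ∀ g : G, Cfsg.blockCoeff B g = (Nat.card T : ℂ)⁻¹ * ∑ x : G, Cfsg.subgroupBlockCoeff (Subgroup.centralizer (P : Set G)) e (x⁻¹ * g * x) := by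
  classical
  have hMp : M.IsPrime := hM.2.1.isPrime
  have hMtop : M ≠ ⊤ := hMp.ne_top
  obtain ⟨⟨_, he⟩, hB, hbr⟩ := hBe
  obtain ⟨C, hC⟩ : ∃ C : Subgroup G, C = Subgroup.centralizer (P : Set G) := ⟨_, rfl⟩
  have hPn : P.Normal := inferInstance
  haveI hN : (Subgroup.centralizer (P : Set G)).Normal := inferInstance
  haveI : Fintype ↥(Subgroup.centralizer (P : Set G)) := Fintype.ofFinite _
  haveI : Fintype ↥T := Fintype.ofFinite _
  have hPT : P ≤ T := fun q hq => (hT q).2 (helper24.stabilizesBlock_of_mem P e hq)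
  have hCT : Subgroup.centralizer (P : Set G) ≤ T :=
    fun c hc => (hT c).2 (helper24.stabilizesBlock_of_mem_self e hc)
  have hTN : T ≤ Subgroup.normalizer (P : Set G) := by
    intro t _
    rw [Subgroup.normalizer_eq_top_iff.2 hPn]
    exact Subgroup.mem_top t
  have hst : ∀ t ∈ T, StabilizesBlock (Subgroup.centralizer (P : Set G)) e t :=
    fun t ht => (hT t).1 ht
  obtain ⟨E, hE, hcoef⟩ := helper24.stab_exists_block hM hP hPT hTN hCT e he hst
  refine ⟨⟨E, hE, hcoef⟩, ?_⟩
  -- the stabilizer in the form used by the Fong--Reynolds library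
  have hT' : ∀ g : G, g ∈ T ↔ ∀ θ ∈ e, ∀ θ' : IrrCharacter ↥(Subgroup.centralizer (P : Set G)),
      (∀ n : ↥(Subgroup.centralizer (P : Set G)),
        (θ' : ↥(Subgroup.centralizer (P : Set G)) → ℂ) n
          = (θ : ↥(Subgroup.centralizer (P : Set G)) → ℂ)
            ⟨g * n * g⁻¹, hN.conj_mem n n.2 g⟩) → θ' ∈ e := by
    intro g
    constructor
    · intro hg θ hθ θ' h
      obtain ⟨χ', hχ', hconj⟩ := (hst g⁻¹ (T.inv_mem hg)).2 θ hθ
      have : θ' = χ' := by
        apply Subtype.ext
        funext n
        rw [h n]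
        symm
        apply hconj
        simp only [inv_inv]
        group
      rw [this]
      exact hχ'
    · intro hcl
      rw [hT g]
      refine ⟨?_, ?_⟩
      · rw [Subgroup.normalizer_eq_top_iff.2 hN]
        exact Subgroup.mem_top g
      · have hsub : helper24.transportSet (MulAut.conjNormal g :
            ↥(Subgroup.centralizer (P : Set G)) ≃* ↥(Subgroup.centralizer (P : Set G))) e ⊆ e := by
          rintro φ ⟨θ, hθ, hφ⟩
          apply hcl θ hθ φ
          intro n
          rw [hφ]
          show (θ : ↥(Subgroup.centralizer (P : Set G)) → ℂ) ((MulAut.conjNormal g :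
            ↥(Subgroup.centralizer (P : Set G)) ≃* ↥(Subgroup.centralizer (P : Set G))) n) = _
          rw [helper24.fr_conjNormal_eq]
        have hblk := helper24.isPBlock_transportSet (M := M) (MulAut.conjNormal g :
            ↥(Subgroup.centralizer (P : Set G)) ≃* ↥(Subgroup.centralizer (P : Set G))) e he
        obtain ⟨φ, hφ⟩ := helper24.isPBlock_nonempty hblk
        have heq := helper24.isPBlock_eq_of_mem hblk he hφ (hsub hφ)
        intro χ hχ
        rw [← heq] at hχ
        obtain ⟨θ, hθ, hχθ⟩ := hχ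
        refine ⟨θ, hθ, ?_⟩
        intro k k' hk
        have h1 := congrFun hχθ k
        rw [h1]
        apply congrArg
        apply Subtype.ext
        rw [hk, helper24.fr_conjNormal_eq]
  -- `B` covers `e`
  obtain ⟨ξ, hξ⟩ := helper24.isPBlock_nonempty he
  obtain ⟨χf, hχf, hover⟩ := helper12.exists_irr_over (Subgroup.centralizer (P : Set G)) ξ.2
  obtain ⟨χ', hχ'def⟩ : ∃ χ' : IrrCharacter G, (χ' : G → ℂ) = χf := ⟨⟨χf, hχf⟩, rfl⟩
  have hχ'B : χ' ∈ B := by
    by_contra hnot
    have h1 := hbr ξ hξ
    have h2 : brauerOmega P (blockCoeff B) (ξ : ↥(Subgroup.centralizer (P : Set G)) → ℂ)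
        = helper24.omegaFn (ξ : ↥(Subgroup.centralizer (P : Set G)) → ℂ)
          (helper5.res (Subgroup.centralizer (P : Set G)) (blockCoeff B)) := by
      unfold brauerOmega helper24.omegaFn
      rw [finsum_eq_sum_of_fintype, Finset.sum_div]
      rfl
    have h3 := helper8.Cover.omegaFn_of_under (Subgroup.centralizer (P : Set G))
      (helper24.blockCoeff_isClassFunction B)
      (fun g hg => helper1.blockCoeff_eq_zero_of_not_mem_centralizer p M hM P hP B hB g hg)
      χ'.2 ξ.2 (by rw [hχ'def]; exact hover)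
    rw [h2, ← h3, helper24.omegaFn_blockCoeff, if_neg hnot, zero_sub] at h1
    have h4 := helper24.memLocalIdeal_neg h1
    rw [neg_neg] at h4
    exact helper24.not_memLocalIdeal_one h4
  have hcovB : ∃ χ ∈ B, ∃ θ ∈ e, classInner
      (fun n : ↥(Subgroup.centralizer (P : Set G)) => (χ : G → ℂ) n)
      (θ : ↥(Subgroup.centralizer (P : Set G)) → ℂ) ≠ 0 :=
    ⟨χ', hχ'B, ξ, hξ, by rw [hχ'def]; exact hover⟩
  obtain ⟨B'', hB'', hcov'', hind''⟩ := helper24.fr_block_surj (Subgroup.centralizer (P : Set G)) T e
    p hM hCT he hT' B hB hcovB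
  -- the block of `T` is `E`
  have hEext : blockCoeff E = helper24.extT (Subgroup.centralizer (P : Set G)) T (blockCoeff e) := by
    funext t
    rw [hcoef t, helper24.subgroupBlockCoeff_eq]
    rfl
  obtain ⟨ψ, hψ, hψcov⟩ := hcov''
  have hψE : ψ ∈ E := by
    have h1 := helper24.fr_omega_of_cover (Subgroup.centralizer (P : Set G)) T e hCT hT' ψ.2 hψcov
    rw [← hEext, helper24.omegaFn_blockCoeff] at h1
    by_contra hnot
    rw [if_neg hnot] at h1
    exact zero_ne_one h1
  have hBE : B'' = E := helper24.isPBlock_eq_of_mem hB'' hE hψ hψE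
  rw [hBE] at hind''
  have hcovE : ∃ ψ ∈ E, ∃ θ ∈ e, classInner (helper24.resNT (Subgroup.centralizer (P : Set G)) T hCT
      (ψ : ↥T → ℂ)) (θ : ↥(Subgroup.centralizer (P : Set G)) → ℂ) ≠ 0 := ⟨ψ, hψE, hψcov⟩
  have hBS := helper24.fr_induced_eq (Subgroup.centralizer (P : Set G)) T e p hM hCT he hT' E hE
    hcovE B hind''
  have hm := helper24.fr_main (Subgroup.centralizer (P : Set G)) T e p hM hCT he hT' E hE hcovE
  have hcoefS := helper24.fr_blockCoeff_ind (Subgroup.centralizer (P : Set G)) T e hCT he hT' E hm.2.1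
  intro g
  rw [hBS, hcoefS]
  unfold indFun
  congr 1
  refine Finset.sum_congr rfl (fun x _ => ?_)
  rw [helper24.subgroupBlockCoeff_eq]
  by_cases hy : x⁻¹ * g * x ∈ T
  · rw [helper5.extendByZero_of_mem T _ _ hy, hcoef, helper24.subgroupBlockCoeff_eq]
  · rw [helper5.extendByZero_of_not_mem T _ _ hy]
    have hyC : x⁻¹ * g * x ∉ Subgroup.centralizer (P : Set G) := fun h => hy (hCT h)
    rw [helper5.extendByZero_of_not_mem _ _ _ hyC]

end Cfsg.Agent.S4654
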