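import Cfsg.Statements.S4664
import Cfsg.Agent.Lib_helper8_Cover
import Cfsg.Agent.Lib_helper24_CharValues

set_option autoImplicit false
open Cfsg

namespace Cfsg.Agent.S4664

open scoped ComplexConjugate

theorem root_mem (m : ℕ) (hm : m ≠ 0) (μ : ℂ) (hμ : μ ^ m = 1) :
    μ ∈ IntermediateField.adjoin ℚ ({Complex.exp (2 * Real.pi * Complex.I / (m : ℂ))} : Set ℂ) := by
  have hprim := Complex.isPrimitiveRoot_exp m hm
  haveI : NeZero m := ⟨hm⟩
  obtain ⟨k, -, hk⟩ := hprim.eq_pow_of_pow_eq_one hμ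
  rw [← hk]
  exact pow_mem (IntermediateField.subset_adjoin ℚ _ (Set.mem_singleton _)) k

theorem char_mem {G : Type*} [Group G] [Finite G] (m : ℕ) (hm : m ≠ 0) (χ : G → ℂ)
    (hχ : IsCharacter G χ) (g : G) (hg : orderOf g ∣ m) :
    χ g ∈ IntermediateField.adjoin ℚ ({Complex.exp (2 * Real.pi * Complex.I / (m : ℂ))} : Set ℂ) ∧
    conj (χ g) ∈ IntermediateField.adjoin ℚ ({Complex.exp (2 * Real.pi * Complex.I / (m : ℂ))} : Set ℂ) := by
  obtain ⟨n, ρ, rfl⟩ := hχ
  obtain ⟨s, -, hs, hsum⟩ := Cfsg.Agent.helper24.rep_char_eq_sum_roots ρ g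
  have hs' : ∀ μ ∈ s, μ ^ m = 1 := by
    intro μ hμ
    obtain ⟨c, rfl⟩ := hg
    rw [pow_mul, hs μ hμ, one_pow]
  rw [hsum]
  refine ⟨multiset_sum_mem _ (fun μ hμ => root_mem m hm μ (hs' μ hμ)), ?_⟩
  rw [map_multiset_sum]
  refine multiset_sum_mem _ (fun ν hν => ?_)
  obtain ⟨μ, hμ, rfl⟩ := Multiset.mem_map.mp hν
  refine root_mem m hm _ ?_
  rw [← map_pow, hs' μ hμ, map_one]

/-- Fix a prime p and a maximal ideal M of the algebraic integers containing p, and let B be a p-block of the finite group G. Let m be the p'-part of the order of G and η = exp(2πi/m). Then every coefficient of the idempotent of B lies in the cyclotomic field ℚ(η). -/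
theorem result {G : Type*} [Group G] [Fintype G] (p : ℕ) [Fact p.Prime] (M : Ideal Cfsg.AlgInt) (hM : Cfsg.IsPModular p M) (B : Set (Cfsg.IrrCharacter G)) (hB : Cfsg.IsPBlock M B) (g : G) : Cfsg.blockCoeff B g ∈ IntermediateField.adjoin ℚ ({Complex.exp (2 * Real.pi * Complex.I / ((Nat.card G / p ^ (Nat.card G).factorization p : ℕ) : ℂ))} : Set ℂ) := by
  classical
  obtain ⟨χ₀, rfl⟩ := hB
  by_cases hg : p ∣ orderOf g
  · rw [Cfsg.Agent.helper8.Cover.blockCoeff_eq_zero hM χ₀ hg]
    exact zero_mem _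
  · have hp : p.Prime := Fact.out
    set a := (Nat.card G).factorization p with ha
    set m := Nat.card G / p ^ a with hm
    have hcard : Nat.card G = p ^ a * m := by
      rw [hm]; exact (Nat.mul_div_cancel' (Nat.ordProj_dvd _ _)).symm
    have hm0 : m ≠ 0 := by
      intro h0
      rw [h0, mul_zero] at hcard
      exact Nat.card_pos.ne' hcard
    have hgm : orderOf g ∣ m := by
      have h1 : orderOf g ∣ p ^ a * m := hcard ▸ orderOf_dvd_natCard g
      have hcop : (orderOf g).Coprime (p ^ a) :=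
        Nat.Coprime.pow_right _ ((Nat.Prime.coprime_iff_not_dvd hp).mpr hg).symm
      exact hcop.dvd_of_dvd_mul_left h1
    have h1m : orderOf (1 : G) ∣ m := by rw [orderOf_one]; exact one_dvd _
    unfold blockCoeff
    refine mul_mem (inv_mem (natCast_mem _ _)) ?_
    rw [finsum_mem_eq_finite_toFinset_sum _ (Set.toFinite _)]
    refine sum_mem (fun χ _ => mul_mem ?_ ?_)
    · exact (char_mem m hm0 _ (Cfsg.Agent.helper24.irr_isCharacter χ.2) 1 h1m).1
    · exact (char_mem m hm0 _ (Cfsg.Agent.helper24.irr_isCharacter χ.2) g hgm).2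

end Cfsg.Agent.S4664
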