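import Cfsg.Statements.S4665
import Cfsg.Agent.Lib_helper23_Orth

set_option autoImplicit false
open Cfsg

namespace Cfsg.Agent.S4665

open Cfsg.Agent.helper23 Representation

/-- The sum of an irreducible character over a subgroup is `|P|` times a natural number. -/
theorem sum_over_subgroup {G : Type*} [Group G] [Fintype G] (P : Subgroup G) [Fintype P]
    (ψ : Cfsg.IrrCharacter G) : ∃ d : ℕ, ∑ y : P, (ψ : G → ℂ) y = (Nat.card P : ℂ) * d := by
  obtain ⟨n, ρ, _, hψ⟩ := ψ.2
  let ρ' : Representation ℂ P (Fin n → ℂ) := ρ.comp P.subtype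
  letI : Invertible (Nat.card P : ℂ) := invertibleOfNonzero (by
    have : Nat.card P ≠ 0 := Nat.card_pos.ne'
    exact_mod_cast this)
  have h := Representation.card_inv_mul_sum_char_eq_finrank ρ'
  refine ⟨Module.finrank ℂ (Representation.invariants ρ'), ?_⟩
  rw [← h, ← mul_assoc, mul_inv_cancel₀, one_mul]
  · apply Finset.sum_congr rfl
    intro y _
    rw [← hψ]
    rfl
  · have : Nat.card P ≠ 0 := Nat.card_pos.ne'
    exact_mod_cast this

/-- Fix a prime p, a maximal ideal M of the algebraic integers containing p, and a p-block B of the finite group G, and let p^a be the p-part of the order of G. Let χ be an integer combination of the irreducible characters in B. If the function that agrees with χ on p-regular elements and vanishes on p-singular elements is again an integer combination of the irreducible characters in B, then p^a divides χ(1). -/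
theorem result {G : Type*} [Group G] [Fintype G] (p : ℕ) [Fact p.Prime] (M : Ideal Cfsg.AlgInt) (hM : Cfsg.IsPModular p M) (B : Set (Cfsg.IrrCharacter G)) (hB : Cfsg.IsPBlock M B) (χ : G → ℂ) (hχ : (∃ n : Cfsg.IrrCharacter G → ℤ, ∀ g : G, χ g = ∑ᶠ ψ ∈ B, (n ψ : ℂ) * (ψ : G → ℂ) g)) (h0 : (∃ n : Cfsg.IrrCharacter G → ℤ, ∀ g : G, Cfsg.pRegularPart p χ g = ∑ᶠ ψ ∈ B, (n ψ : ℂ) * (ψ : G → ℂ) g)) : ∃ k : ℤ, χ 1 = (p ^ (Nat.card G).factorization p : ℂ) * k := by
  classical
  obtain ⟨m, hm⟩ := h0
  have hfinI : Fintype (Cfsg.IrrCharacter G) := Fintype.ofFinite _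
  obtain ⟨P⟩ : Nonempty (Sylow p G) := inferInstance
  have hPfin : Fintype (P : Subgroup G) := Fintype.ofFinite _
  have hcardP : Nat.card (P : Subgroup G) = p ^ (Nat.card G).factorization p :=
    P.card_eq_multiplicity
  -- the p-regular part vanishes on P away from 1
  have hvanish : ∀ y : (P : Subgroup G), y ≠ 1 → Cfsg.pRegularPart p χ (y : G) = 0 := by
    intro y hy
    unfold Cfsg.pRegularPart
    rw [if_neg]
    unfold Cfsg.IsPRegular
    rw [not_not]
    obtain ⟨k, hk⟩ := P.2 y
    have h1 : orderOf y ∣ p ^ k := orderOf_dvd_of_pow_eq_one hk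
    obtain ⟨j, _, hj⟩ := (Nat.dvd_prime_pow (Fact.out : p.Prime)).mp h1
    rw [← Subgroup.orderOf_coe] at hj
    rw [hj]
    cases j with
    | zero =>
      exfalso
      apply hy
      rw [pow_zero, Subgroup.orderOf_coe, orderOf_eq_one_iff] at hj
      exact hj
    | succ j => exact dvd_pow_self p (Nat.succ_ne_zero j)
  have hone : Cfsg.pRegularPart p χ (1 : G) = χ 1 := by
    unfold Cfsg.pRegularPart
    rw [if_pos]
    unfold Cfsg.IsPRegular
    rw [orderOf_one]
    exact (Fact.out : p.Prime).one_lt.ne' ∘ Nat.dvd_one.mp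
  have hsumP : ∑ y : (P : Subgroup G), Cfsg.pRegularPart p χ (y : G) = χ 1 := by
    rw [Finset.sum_eq_single (1 : (P : Subgroup G))]
    · exact hone
    · intro y _ hy
      exact hvanish y hy
    · intro h
      exact absurd (Finset.mem_univ _) h
  choose d hd using fun ψ : Cfsg.IrrCharacter G => sum_over_subgroup (P : Subgroup G) ψ
  refine ⟨∑ ψ ∈ B.toFinset, m ψ * (d ψ : ℤ), ?_⟩
  rw [← hsumP]
  have h1 : ∀ y : (P : Subgroup G), Cfsg.pRegularPart p χ (y : G) =
      ∑ ψ ∈ B.toFinset, (m ψ : ℂ) * (ψ : G → ℂ) y := by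
    intro y
    rw [hm (y : G), finsum_mem_eq_toFinset_sum]
  simp_rw [h1]
  rw [Finset.sum_comm]
  push_cast
  rw [Finset.mul_sum]
  apply Finset.sum_congr rfl
  intro ψ _
  rw [← Finset.mul_sum, hd ψ, hcardP]
  push_cast
  ring

end Cfsg.Agent.S4665
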