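import Cfsg.Statements.S4671
import Mathlib
import Cfsg.Agent.Lib_helper1_Knorr3

set_option autoImplicit false
set_option linter.style.haveILetI false
set_option linter.unusedVariables false
open Cfsg

namespace Cfsg.Agent.S4671

/-- Fix a prime p and a maximal ideal M of the algebraic integers containing p. Let N be a normal subgroup of the finite group G, B a p-block of G and P a defect group of B. Then there is a p-block c of N, stable under conjugation by P and covered by B (some member of B has a constituent in c on restriction to N), such that P ∩ N is a defect group of c. -/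
theorem result {G : Type*} [Group G] [Fintype G] (p : ℕ) [Fact p.Prime] (M : Ideal Cfsg.AlgInt) (hM : Cfsg.IsPModular p M) (N : Subgroup G) [N.Normal] [Fintype N] (B : Set (Cfsg.IrrCharacter G)) (hB : Cfsg.IsPBlock M B) (P : Subgroup G) (hP : Cfsg.IsDefectGroup p M B P) : ∃ c : Set (Cfsg.IrrCharacter N), Cfsg.IsPBlock M c ∧ (∀ x ∈ P, Cfsg.StabilizesBlock N c x) ∧ (∃ χ ∈ B, ∃ θ ∈ c, Cfsg.classInner (fun n : N => (χ : G → ℂ) n) (θ : N → ℂ) ≠ 0) ∧ Cfsg.IsDefectGroup p M c ((P ⊓ N).subgroupOf N) := by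
  classical
  have hMp : M.IsPrime := hM.2.1.isPrime
  obtain ⟨χ, hχ⟩ := Cfsg.Agent.helper24.isPBlock_nonempty hB
  obtain ⟨θ, hθχ⟩ := Cfsg.Agent.helper8.Cover.exists_under N χ.2
  have hb : Cfsg.IsPBlock M (Cfsg.blockOf M (θ : N → ℂ)) := ⟨θ, rfl⟩
  have hθmem : θ ∈ Cfsg.blockOf M (θ : N → ℂ) :=
    Cfsg.Agent.helper24.sameBlock_refl M hMp.ne_top _
  obtain ⟨P₀, hP₀, hP₀st, hP₀N⟩ := Cfsg.Agent.helper1.kn_main N (Cfsg.blockOf M (θ : N → ℂ)) p hM hb
    B hB ⟨χ, hχ, θ, hθmem, hθχ⟩
  obtain ⟨g, hg⟩ := Cfsg.Agent.helper24.defectGroups_conj p hM B hB hP₀ hP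
  obtain ⟨e, he1, he2⟩ : ∃ e : N ≃* N, (∀ n : N, ((e n : N) : G) = g⁻¹ * (n : G) * g) ∧
      (∀ n : N, ((e.symm n : N) : G) = g * (n : G) * g⁻¹) :=
    ⟨(MulAut.conjNormal g : N ≃* N).symm, MulAut.conjNormal_symm_apply g, fun n => by
      rw [MulEquiv.symm_symm]
      exact MulAut.conjNormal_apply g n⟩
  have hc : Cfsg.IsPBlock M (Cfsg.Agent.helper24.transportSet e (Cfsg.blockOf M (θ : N → ℂ))) :=
    Cfsg.Agent.helper24.isPBlock_transportSet e _ hb
  -- membership in `P` in terms of `P₀`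
  have hPmem : ∀ y : G, y ∈ P ↔ g⁻¹ * y * g ∈ P₀ := by
    intro y
    rw [← hg]
    constructor
    · rintro ⟨s, hs, rfl⟩
      have : g⁻¹ * ((MulAut.conj g).toMonoidHom s) * g = s := by
        show g⁻¹ * (g * s * g⁻¹) * g = s
        group
      rw [this]
      exact hs
    · intro h
      refine ⟨g⁻¹ * y * g, h, ?_⟩
      show g * (g⁻¹ * y * g) * g⁻¹ = y
      group
  refine ⟨Cfsg.Agent.helper24.transportSet e (Cfsg.blockOf M (θ : N → ℂ)), hc, ?_, ?_, ?_⟩
  · -- stability under `P`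
    intro x hx
    rw [Cfsg.Agent.helper24.stabilizes_iff_fr N _ hc x]
    rintro φ ⟨θ₁, hθ₁, hφ⟩ φ' hφ'
    have hx₀ := (Cfsg.Agent.helper24.stabilizes_iff_fr N _ hb (g⁻¹ * x * g)).1
      (hP₀st _ ((hPmem x).1 hx))
    have hθ' : Cfsg.Agent.helper24.irrTransport e.symm φ' ∈ Cfsg.blockOf M (θ : N → ℂ) := by
      apply hx₀ θ₁ hθ₁
      intro m
      rw [Cfsg.Agent.helper24.irrTransport_apply, hφ' (e.symm m), hφ]
      refine congrArg (θ₁ : N → ℂ) (Subtype.ext ?_)
      rw [he1]
      show g⁻¹ * (x * ((e.symm m : N) : G) * x⁻¹) * g = (g⁻¹ * x * g) * (m : G) * (g⁻¹ * x * g)⁻¹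
      rw [he2]
      group
    refine ⟨Cfsg.Agent.helper24.irrTransport e.symm φ', hθ', ?_⟩
    funext n
    rw [Cfsg.Agent.helper24.irrTransport_apply, MulEquiv.symm_apply_apply]
  · -- covered by `B`
    refine ⟨χ, hχ, Cfsg.Agent.helper24.irrTransport e θ,
      (Cfsg.Agent.helper24.mem_transportSet_iff e _ θ).2 hθmem, ?_⟩
    have hcl : Cfsg.IsClassFunction G (χ : G → ℂ) :=
      Cfsg.Agent.helper24.char_isClassFunction (Cfsg.Agent.helper24.irr_isCharacter χ.2)
    have h1 : (fun n : N => (χ : G → ℂ) n) = fun n : N => (fun m : N => (χ : G → ℂ) m) (e n) := by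
      funext n
      show (χ : G → ℂ) n = (χ : G → ℂ) ((e n : N) : G)
      rw [he1]
      have := hcl (n : G) g⁻¹
      rw [inv_inv] at this
      exact this.symm
    have h2 : ((Cfsg.Agent.helper24.irrTransport e θ : Cfsg.IrrCharacter N) : N → ℂ) =
        fun n : N => (θ : N → ℂ) (e n) := by
      funext n
      rw [Cfsg.Agent.helper24.irrTransport_apply]
    have h3 := Cfsg.Agent.helper12.classInner_comp_mulEquiv e (fun m : N => (χ : G → ℂ) m)
      (θ : N → ℂ)
    rw [h1, h2]
    intro h0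
    exact hθχ (h3.symm.trans h0)
  · -- defect group
    have hPp : IsPGroup p P := Cfsg.Agent.helper24.defectGroup_isPGroup p M B P hP
    apply Cfsg.Agent.helper1.kn_isDefectGroup_of_card p hM _ hc
    · exact (hPp.to_le inf_le_left).comap_subtype
    · rw [Cfsg.Agent.helper24.blockDefect_transportSet,
        ← Cfsg.Agent.helper24.card_defectGroup p M hM _ hb _ hP₀N,
        Cfsg.Agent.helper24.card_subgroupOf_of_le inf_le_right,
        Cfsg.Agent.helper24.card_subgroupOf_of_le inf_le_right]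
      have hmap : P ⊓ N = (P₀ ⊓ N).map (MulAut.conj g).toMonoidHom := by
        ext y
        constructor
        · rintro ⟨hyP, hyN⟩
          refine ⟨g⁻¹ * y * g, ⟨(hPmem y).1 hyP, ?_⟩, ?_⟩
          · have := ‹N.Normal›.conj_mem y hyN g⁻¹
            rwa [inv_inv] at this
          · show g * (g⁻¹ * y * g) * g⁻¹ = y
            group
        · rintro ⟨s, ⟨hsP, hsN⟩, rfl⟩
          refine ⟨(hPmem _).2 ?_, ‹N.Normal›.conj_mem s hsN g⟩
          have : g⁻¹ * ((MulAut.conj g).toMonoidHom s) * g = s := by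
            show g⁻¹ * (g * s * g⁻¹) * g = s
            group
          rw [this]
          exact hsP
      rw [hmap, Subgroup.card_map_of_injective (MulAut.conj g).injective]
    · obtain ⟨n₀, hn₀R, hn₀J, c₀, hconj, hc₀⟩ :=
        Cfsg.Agent.helper1.kn_coeff_of_isDefectGroup p hM _ hb _ hP₀N
      refine ⟨e.symm n₀, ?_, ?_, e.symm c₀, e.symm.toMonoidHom.map_isConj hconj, ?_⟩
      · rw [Cfsg.Agent.helper24.blockCoeff_transportSet, MulEquiv.apply_symm_apply]
        exact hn₀R
      · rw [Cfsg.Agent.helper24.blockCoeff_transportSet, MulEquiv.apply_symm_apply]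
        exact hn₀J
      · rw [Subgroup.mem_centralizer_iff]
        intro s hs
        have hsP : (s : G) ∈ P ⊓ N := Subgroup.mem_subgroupOf.1 hs
        have hes : e s ∈ (P₀ ⊓ N).subgroupOf N := by
          rw [Subgroup.mem_subgroupOf]
          refine ⟨?_, (e s).2⟩
          rw [he1]
          exact (hPmem _).1 hsP.1
        have h1 := Subgroup.mem_centralizer_iff.1 hc₀ (e s) hes
        have h2 := congrArg e.symm h1
        rw [map_mul, map_mul, MulEquiv.symm_apply_apply] at h2
        exact h2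

end Cfsg.Agent.S4671
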