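import Cfsg.Statements.S4702
import Mathlib
import Cfsg.Agent.Lib_helper4_Z3E

set_option autoImplicit false
open Cfsg

namespace Cfsg.Agent.S4702

open scoped MatrixGroups in
theorem sq_surj2 (F : Type*) [Field F] [Finite F] [CharP F 2] (r : Fˣ) :
    ∃ k : Fˣ, k ^ Fintype.card (Fin 2) = r := by
  haveI : Fact (Nat.Prime 2) := ⟨Nat.prime_two⟩
  have hinj : Function.Injective (frobenius F 2) := frobenius_inj F 2
  have hsurj : Function.Surjective (frobenius F 2) := Finite.surjective_of_injective hinj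
  obtain ⟨x, hx⟩ := hsurj r.1
  have hx0 : x ≠ 0 := by
    intro h
    rw [h, map_zero] at hx
    exact r.ne_zero hx.symm
  refine ⟨Units.mk0 x hx0, ?_⟩
  apply Units.ext
  rw [Fintype.card_fin, Units.val_pow_eq_pow_val, Units.val_mk0]
  rw [frobenius_def] at hx
  exact hx

theorem sl2_center_bot (F : Type*) [Field F] [CharP F 2] :
    Subgroup.center (Matrix.SpecialLinearGroup (Fin 2) F) = ⊥ := by
  rw [eq_bot_iff]
  intro A hA
  rw [Matrix.SpecialLinearGroup.mem_center_iff] at hA
  obtain ⟨r, hr, hA⟩ := hA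
  rw [Fintype.card_fin] at hr
  have h2 : (2 : F) = 0 := CharTwo.two_eq_zero
  have h : (r - 1) ^ 2 = 0 := by
    have : (r - 1) ^ 2 = r ^ 2 - 2 * r + 1 := by ring
    rw [this, hr, h2]
    have : (1 : F) + 1 = 0 := by rw [one_add_one_eq_two, h2]
    linear_combination this
  have hr1 : r = 1 := by
    have := pow_eq_zero_iff (two_ne_zero) |>.mp h
    exact sub_eq_zero.mp this
  rw [Subgroup.mem_bot]
  apply Matrix.SpecialLinearGroup.ext
  intro i j
  rw [← hA, hr1]
  simp

open scoped MatrixGroups in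
theorem sl2_equiv_pgl2 (F : Type*) [Field F] [Finite F] [CharP F 2] :
    Nonempty (Matrix.SpecialLinearGroup (Fin 2) F ≃* Matrix.ProjGenLinGroup (Fin 2) F) := by
  have hinj : Function.Injective
      (Matrix.SpecialLinearGroup.toPGL : Matrix.SpecialLinearGroup (Fin 2) F →* _) := by
    rw [← MonoidHom.ker_eq_bot_iff, Matrix.SpecialLinearGroup.toPGL_ker, sl2_center_bot]
  have hsurj : Function.Surjective
      (Matrix.SpecialLinearGroup.toPGL : Matrix.SpecialLinearGroup (Fin 2) F →* _) := by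
    intro x
    obtain ⟨y, hy⟩ := Matrix.ProjectiveSpecialLinearGroup.toPGL_surj_of_roots (sq_surj2 F) x
    obtain ⟨g, rfl⟩ := QuotientGroup.mk_surjective y
    exact ⟨g, hy⟩
  exact ⟨MulEquiv.ofBijective _ ⟨hinj, hsurj⟩⟩

/-- Let G be a triply transitive permutation group on a finite set of odd size m ≥ 3 in which only the identity fixes three or more points. Then m = 2^a + 1 for some a ≥ 1 and G is isomorphic to SL(2, 2^a). -/
theorem result {α : Type*} [Fintype α] [DecidableEq α] (hm : 3 ≤ Fintype.card α) (hodd : Odd (Fintype.card α)) (G : Subgroup (Equiv.Perm α)) (h3 : MulAction.IsMultiplyPretransitive G α 3) (hfix : ∀ g : G, 3 ≤ Nat.card (MulAction.fixedBy α g) → g = 1) : ∃ a : ℕ, 1 ≤ a ∧ Fintype.card α = 2 ^ a + 1 ∧ ∃ (F : Type) (_ : Field F) (_ : Fintype F), Fintype.card F = 2 ^ a ∧ Nonempty (G ≃* Matrix.SpecialLinearGroup (Fin 2) F) := by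
  classical
  have hsharp : ∀ x : Fin 3 ↪ α, MulAction.stabilizer G x = ⊥ := by
    intro x
    rw [eq_bot_iff]
    intro g hg
    rw [MulAction.mem_stabilizer_iff] at hg
    rw [Subgroup.mem_bot]
    apply hfix
    have hsub : Set.range x ⊆ MulAction.fixedBy α g := by
      rintro _ ⟨i, rfl⟩
      have := DFunLike.congr_fun hg i
      rw [MulAction.mem_fixedBy]
      exact this
    have h1 : Nat.card (Set.range x) = 3 := by
      rw [Nat.card_range_of_injective x.injective]
      simp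
    have h2 : Nat.card (Set.range x) ≤ Nat.card (MulAction.fixedBy α g) :=
      Nat.card_mono (Set.toFinite _) hsub
    omega
  have T := Cfsg.Agent.helper4.Z3.tri_of_pretransitive G h3 hsharp
  have hodd2 : ¬ 2 ∣ Fintype.card α := by
    intro h
    exact (Nat.not_even_iff_odd.mpr hodd) (even_iff_two_dvd.mpr h)
  have h3card : 2 < Fintype.card α := by omega
  obtain ⟨o, z, u, hoz, hou, hzu⟩ := Fintype.two_lt_card_iff.mp h3card
  let C : Cfsg.Agent.helper4.Z3.Ctx G := ⟨T, hodd2, o, z, u, Ne.symm hoz, Ne.symm hou, hzu⟩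
  obtain ⟨e⟩ := Cfsg.Agent.helper4.Z3.main C
  have hcardK := Cfsg.Agent.helper4.Z3.card_KF C
  set K := Cfsg.Agent.helper4.Z3.KF (Cfsg.Agent.helper4.Z3.fdata C) with hK
  have hc : Fintype.card K + 1 = Fintype.card α := hcardK
  obtain ⟨p, hcp, n, hp, hn⟩ := FiniteField.card' K
  have hp2 : p = 2 := by
    have heven : 2 ∣ Fintype.card K := by
      obtain ⟨k, hk⟩ := hodd
      omega
    rw [hn] at heven
    have := (Nat.Prime.dvd_of_dvd_pow Nat.prime_two heven)
    exact ((Nat.prime_dvd_prime_iff_eq Nat.prime_two hp).mp this).symm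
  subst hp2
  have hn0 : (n : ℕ) ≠ 0 := n.ne_zero
  refine ⟨(n : ℕ), n.pos, by omega, ?_⟩
  let F := GaloisField 2 (n : ℕ)
  letI fF : Fintype F := Fintype.ofFinite F
  have hFcard : Fintype.card F = 2 ^ (n : ℕ) := by
    rw [← Nat.card_eq_fintype_card, GaloisField.card 2 n hn0]
  have hKF : Fintype.card K = Fintype.card F := by rw [hn, hFcard]
  let φ : K ≃+* F := FiniteField.ringEquivOfCardEq hKF
  let e2 : Matrix.ProjGenLinGroup (Fin 2) K ≃* Matrix.ProjGenLinGroup (Fin 2) F :=
    Cfsg.Agent.helper4.Z3.pglCongr φ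
  haveI : CharP F 2 := by
    haveI : Fact (Nat.Prime 2) := ⟨Nat.prime_two⟩
    infer_instance
  obtain ⟨e3⟩ := sl2_equiv_pgl2 F
  exact ⟨F, inferInstance, fF, hFcard, ⟨(e.trans e2).trans e3.symm⟩⟩

end Cfsg.Agent.S4702
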