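import Cfsg.Statements.S4714
import Cfsg.Agent.S0968
import Cfsg.Agent.Lib_helper24_BlockOrth3
import Cfsg.Agent.Lib_helper24_SecondMain2

set_option autoImplicit false
open Cfsg

namespace Cfsg.Agent.S4714

open Cfsg.Agent.helper24 Cfsg.Agent.helper12 Cfsg.Agent.helper8 Cfsg.Agent.helper8.CentProd
  Cfsg.Agent.helper5 Cfsg.Agent.S0968
open scoped ComplexConjugate

universe u

set_option linter.style.haveILetI false
set_option linter.unusedVariables false
set_option linter.unusedSectionVars false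

/-- elements of order prime to `p` centralize `P` when `G = P C_G(P)` -/
theorem preg_mem_centralizer {G : Type u} [Group G] [Finite G] (p : ℕ) [Fact p.Prime]
    (P : Subgroup G) (hP : IsPGroup p P) (hG : P ⊔ Subgroup.centralizer (P : Set G) = ⊤)
    (x : G) (hx : ¬ p ∣ orderOf x) : x ∈ Subgroup.centralizer (P : Set G) := by
  classical
  haveI := Fintype.ofFinite G
  have hp : p.Prime := Fact.out
  set C : Subgroup G := Subgroup.centralizer (P : Set G) with hC
  have hc : CommGen P C := Cfsg.Agent.S0968.commGen_of_sup P hG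
  haveI hCn : C.Normal := hc.normal_right
  have hidx : ∃ j, C.index = p ^ j := by
    have h1 : C.relIndex (C ⊔ P) = C.relIndex P := Subgroup.relIndex_sup_left P C
    rw [sup_comm, hG, Subgroup.relIndex_top_right] at h1
    have h2 : C.relIndex P ∣ Nat.card P := Subgroup.index_dvd_card _
    obtain ⟨k, hk⟩ := IsPGroup.iff_card.mp hP
    rw [hk] at h2
    rw [h1]
    obtain ⟨j, -, hj⟩ := (Nat.dvd_prime_pow hp).mp h2
    exact ⟨j, hj⟩
  obtain ⟨j, hj⟩ := hidx
  have h1 : x ^ C.index ∈ C := Subgroup.pow_index_mem C x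
  have hcop : (C.index).Coprime (orderOf x) := by
    rw [hj]
    exact Nat.Coprime.pow_left j ((Nat.Prime.coprime_iff_not_dvd hp).mpr hx)
  obtain ⟨m, hm⟩ := exists_pow_eq_self_of_coprime hcop
  rw [← hm]
  exact C.pow_mem h1 m

theorem setup {G : Type u} [Group G] [Finite G] (p : ℕ) [Fact p.Prime] (M : Ideal AlgInt)
    (hM : IsPModular p M) (P : Subgroup G) (hP : IsPGroup p P)
    (hG : P ⊔ Subgroup.centralizer (P : Set G) = ⊤) (B : Set (IrrCharacter G))
    (hB : IsPBlock M B) (hD : IsDefectGroup p M B P) :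
    ∃ lam : IrrCharacter G → IrrCharacter P,
      (∀ (θ : IrrCharacter G) (y : P),
        (θ : G → ℂ) y * (lam θ : P → ℂ) 1 = (θ : G → ℂ) 1 * (lam θ : P → ℂ) y) ∧
      (∀ θ ∈ B, ∀ θ' ∈ B, lam θ' = lam θ → θ' = θ) ∧
      (∀ ζ : IrrCharacter P, ∃ θ ∈ B, lam θ = ζ) ∧
      (∀ θ ∈ B, ∀ z : G, (∀ y : G, IsPPart p z y → y ∉ P) → (θ : G → ℂ) z = 0) := by
  classical
  haveI := Fintype.ofFinite G
  haveI hMp : M.IsPrime := hM.2.1.isPrime
  have hp : p.Prime := Fact.out
  haveI : Fintype (IrrCharacter G) := Fintype.ofFinite _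
  have hD' := hD
  set C : Subgroup G := Subgroup.centralizer (P : Set G) with hC
  have hc : CommGen P C := commGen_of_sup P hG
  haveI hPn : P.Normal := hc.normal_left
  haveI hCn : C.Normal := hc.normal_right
  have hactP : InnerAct P := hc.innerAct_left
  have hactC : InnerAct C := hc.innerAct_right
  haveI instP : Fintype P := Fintype.ofFinite _
  haveI instC : Fintype C := Fintype.ofFinite _
  haveI : Fintype (IrrCharacter P) := Fintype.ofFinite _
  choose lam hlam0 hlam using fun χ : IrrCharacter G => homog P hactP χ.2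
  choose psi hpsi0 hpsi using fun χ : IrrCharacter G => homog C hactC χ.2
  obtain ⟨χ₀, hχ₀⟩ := hB
  have hBsame : ∀ χ ∈ B, ∀ χ' ∈ B, SameBlock M (χ : G → ℂ) (χ' : G → ℂ) := by
    intro χ hχ χ' hχ'
    rw [hχ₀] at hχ hχ'
    exact sameBlock_trans (sameBlock_symm hχ) hχ'
  have hχ₀B : χ₀ ∈ B := by
    rw [hχ₀]
    exact sameBlock_refl M hMp.ne_top _
  -- values at one
  have hlam1 : ∀ χ : IrrCharacter G, (χ : G → ℂ) 1 =
      classInner (res P (χ : G → ℂ)) (lam χ : P → ℂ) * (lam χ : P → ℂ) 1 := by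
    intro χ
    have := hlam χ 1
    rwa [Subgroup.coe_one] at this
  have hpsi1 : ∀ χ : IrrCharacter G, (χ : G → ℂ) 1 =
      classInner (res C (χ : G → ℂ)) (psi χ : C → ℂ) * (psi χ : C → ℂ) 1 := by
    intro χ
    have := hpsi χ 1
    rwa [Subgroup.coe_one] at this
  -- the central subgroup `Z = P ∩ C` of `C`
  have hZp : IsPGroup p (P.subgroupOf C) := hP.comap_subtype
  have hZcent : P.subgroupOf C ≤ Subgroup.center C := by
    intro z hz
    rw [Subgroup.mem_subgroupOf] at hz
    rw [Subgroup.mem_center_iff]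
    intro c
    apply Subtype.ext
    rw [Subgroup.coe_mul, Subgroup.coe_mul]
    exact (hc.comm (z : G) hz (c : G) c.2).symm
  have hZab : ∀ a ∈ P.subgroupOf C, ∀ b ∈ P.subgroupOf C, a * b = b * a := by
    intro a ha b hb
    exact (Subgroup.mem_center_iff.mp (hZcent hb) a)
  have hZidx : (P.subgroupOf C).index = P.index := by
    have h1 : P.relIndex (P ⊔ C) = P.relIndex C := Subgroup.relIndex_sup_left C P
    rw [hG, Subgroup.relIndex_top_right] at h1
    exact h1.symm
  -- the defect class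
  obtain ⟨g₀, hg₀, Q, hQ⟩ := hD
  have hg₀C : g₀ ∈ C := by
    rw [hC, Subgroup.mem_centralizer_iff]
    intro x hx
    have hx' : x ∈ Subgroup.centralizer ({g₀} : Set G) := by
      rw [hQ] at hx
      obtain ⟨y, _, rfl⟩ := hx
      exact y.2
    exact (Subgroup.mem_centralizer_iff.mp hx' g₀ (Set.mem_singleton _)).symm
  have hPcard : Nat.card P =
      p ^ (Nat.card (Subgroup.centralizer ({g₀} : Set G))).factorization p := by
    have h1 := congrArg (fun S : Subgroup G => Nat.card S) hQ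
    rw [h1, Subgroup.card_map_of_injective (Subgroup.subtype_injective _)]
    exact Q.card_eq_multiplicity
  have hνidx : (Subgroup.centralizer ({g₀} : Set G)).index.factorization p =
      P.index.factorization p := by
    have h1 := Subgroup.card_mul_index P
    have h2 := Subgroup.card_mul_index (Subgroup.centralizer ({g₀} : Set G))
    have h3 : (Nat.card P).factorization p =
        (Nat.card (Subgroup.centralizer ({g₀} : Set G))).factorization p := by
      rw [hPcard, Nat.factorization_pow, hp.factorization]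
      simp
    have h4 := congrArg (fun n : ℕ => n.factorization p) h1
    have h5 := congrArg (fun n : ℕ => n.factorization p) h2
    rw [Nat.factorization_mul Nat.card_pos.ne' Subgroup.index_ne_zero_of_finite] at h4 h5
    simp only [Finsupp.coe_add, Pi.add_apply] at h4 h5
    omega
  -- degrees of the constituents on `C`
  have hdegψ : ∀ χ ∈ B, (charDegree (psi χ : C → ℂ)).factorization p =
      P.index.factorization p := by
    intro χ hχ
    have hψc : IsCharacter C (psi χ : C → ℂ) := irr_isCharacter (psi χ).2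
    have hdpos : 0 < charDegree (psi χ : C → ℂ) := irr_charDegree_pos (psi χ).2
    have hdcast : ((charDegree (psi χ : C → ℂ) : ℕ) : ℂ) = (psi χ : C → ℂ) 1 :=
      char_charDegree_cast hψc
    apply le_antisymm
    · have hdvd := ito_degree_dvd_index (P.subgroupOf C) hZab (psi χ)
      rw [hZidx] at hdvd
      exact (Nat.factorization_le_iff_dvd hdpos.ne' Subgroup.index_ne_zero_of_finite).mpr hdvd p
    · rw [← hνidx]
      apply fact_le_of_unit p hM _ _ (Nat.pos_of_ne_zero Subgroup.index_ne_zero_of_finite) hdpos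
        ((psi χ : C → ℂ) ⟨g₀, hg₀C⟩) (helper23.irr_isIntegral (psi χ) _)
        (centralChar (χ : G → ℂ) g₀)
        (memLocalRing_of_integral hMp.ne_top (helper23.irr_centralChar_isIntegral χ g₀))
        (hg₀.2.2 χ hχ)
      rw [hdcast]
      unfold centralChar
      have h1 : (χ : G → ℂ) g₀ = _ := hpsi χ ⟨g₀, hg₀C⟩
      rw [h1, hpsi1 χ]
      have hψ1 : (psi χ : C → ℂ) 1 ≠ 0 := irr_apply_one_ne_zero (psi χ).2
      have he := hpsi0 χ
      field_simp
  -- vanishing
  have hvan : ∀ χ ∈ B, ∀ g x : C, IsPPart p g x → x ∉ P.subgroupOf C →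
      (psi χ : C → ℂ) g = 0 := by
    intro χ hχ
    exact (Cfsg.Agent.S0969.result p M hM (P.subgroupOf C) hZp hZcent (psi χ)
      (by rw [hZidx]; exact hdegψ χ hχ)).2
  -- block transfer
  have hsb : ∀ χ χ' : IrrCharacter G, SameBlock M (χ : G → ℂ) (χ' : G → ℂ) →
      SameBlock M (psi χ : C → ℂ) (psi χ' : C → ℂ) := by
    intro χ χ' h c
    rw [← centralChar_res C hactC χ (psi χ) (hpsi0 χ) c,
      ← centralChar_res C hactC χ' (psi χ') (hpsi0 χ') c]
    exact h c
  -- values through the two factors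
  have hval : ∀ (χ : IrrCharacter G) (h k : G) (hh : h ∈ P) (hk : k ∈ C),
      (χ : G → ℂ) (h * k) * (χ : G → ℂ) 1 =
        classInner (res C (χ : G → ℂ)) (psi χ : C → ℂ) * (psi χ : C → ℂ) ⟨k, hk⟩ *
          (classInner (res P (χ : G → ℂ)) (lam χ : P → ℂ) * (lam χ : P → ℂ) ⟨h, hh⟩) := by
    intro χ h k hh hk
    have h1 := hc.prod_formula χ hh hk
    rw [← hc.comm h hh k hk] at h1
    rw [h1]
    have h2 : (χ : G → ℂ) k = _ := hpsi χ ⟨k, hk⟩
    have h3 : (χ : G → ℂ) h = _ := hlam χ ⟨h, hh⟩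
    rw [h2, h3]
  -- injectivity
  have hinj : ∀ χ ∈ B, ∀ χ' ∈ B, lam χ' = lam χ → χ' = χ := by
    intro χ hχ χ' hχ' hl
    have hkey : ∀ (χ₁ : IrrCharacter G) (z : C) (hz : (z : G) ∈ P),
        (psi χ₁ : C → ℂ) z / (psi χ₁ : C → ℂ) 1 =
          (lam χ₁ : P → ℂ) ⟨z, hz⟩ / (lam χ₁ : P → ℂ) 1 := by
      intro χ₁ z hz
      have h1 : (χ₁ : G → ℂ) (z : G) = _ := hpsi χ₁ z
      have h3 : (χ₁ : G → ℂ) (z : G) = _ := hlam χ₁ ⟨z, hz⟩
      have hψ1 : (psi χ₁ : C → ℂ) 1 ≠ 0 := irr_apply_one_ne_zero (psi χ₁).2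
      have hlam1' : (lam χ₁ : P → ℂ) 1 ≠ 0 := irr_apply_one_ne_zero (lam χ₁).2
      have e1 : (psi χ₁ : C → ℂ) z / (psi χ₁ : C → ℂ) 1 =
          (χ₁ : G → ℂ) (z : G) / (χ₁ : G → ℂ) 1 := by
        rw [h1, hpsi1 χ₁]
        have := hpsi0 χ₁
        field_simp
      have e2 : (lam χ₁ : P → ℂ) ⟨z, hz⟩ / (lam χ₁ : P → ℂ) 1 =
          (χ₁ : G → ℂ) (z : G) / (χ₁ : G → ℂ) 1 := by
        rw [h3, hlam1 χ₁]
        have := hlam0 χ₁
        field_simp
      rw [e1, e2]
    have hsame : ∀ z ∈ P.subgroupOf C, (psi χ' : C → ℂ) z / (psi χ' : C → ℂ) 1 =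
        (psi χ : C → ℂ) z / (psi χ : C → ℂ) 1 := by
      intro z hz
      rw [Subgroup.mem_subgroupOf] at hz
      rw [hkey χ' z hz, hkey χ z hz, hl]
    obtain ⟨q, hq, hCq⟩ : ∃ q : ℕ, ¬ p ∣ q ∧
        Nat.card C = Nat.card (P.subgroupOf C) * charDegree (psi χ : C → ℂ) * q := by
      obtain ⟨q, hq⟩ := ito_degree_dvd_index (P.subgroupOf C) hZab (psi χ)
      refine ⟨q, ?_, ?_⟩
      · intro hpq
        have hq0 : q ≠ 0 := by
          rintro rfl
          rw [mul_zero] at hq
          exact Subgroup.index_ne_zero_of_finite hq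
        have hd0 : charDegree (psi χ : C → ℂ) ≠ 0 := (irr_charDegree_pos (psi χ).2).ne'
        have h1 := congrArg (fun n : ℕ => n.factorization p) hq
        rw [Nat.factorization_mul hd0 hq0, hZidx] at h1
        simp only [Finsupp.coe_add, Pi.add_apply] at h1
        rw [hdegψ χ hχ] at h1
        have h2 : 1 ≤ q.factorization p :=
          (Nat.Prime.dvd_iff_one_le_factorization hp hq0).mp hpq
        omega
      · rw [← Subgroup.card_mul_index (P.subgroupOf C), hq, mul_assoc]
    have hψeq : psi χ' = psi χ :=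
      Cfsg.Agent.S4669.unique_over p hM (P.subgroupOf C) hZp hZcent (psi χ) (psi χ')
        (hsb χ' χ (hBsame χ' hχ' χ hχ)) (hvan χ hχ) q hq hCq hsame
    -- now compare values
    by_contra hne
    have h0 : classInner (χ' : G → ℂ) (χ : G → ℂ) = 0 :=
      irr_classInner_ne χ'.2 χ.2 (fun h => hne (Subtype.ext h))
    have hχ1 : (χ : G → ℂ) 1 ≠ 0 := irr_apply_one_ne_zero χ.2
    have hχ'1 : (χ' : G → ℂ) 1 ≠ 0 := irr_apply_one_ne_zero χ'.2
    set A : ℂ := classInner (res C (χ : G → ℂ)) (psi χ : C → ℂ) *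
      classInner (res P (χ : G → ℂ)) (lam χ : P → ℂ) / (χ : G → ℂ) 1 with hA
    set A' : ℂ := classInner (res C (χ' : G → ℂ)) (psi χ' : C → ℂ) *
      classInner (res P (χ' : G → ℂ)) (lam χ' : P → ℂ) / (χ' : G → ℂ) 1 with hA'
    have hA0 : A ≠ 0 := div_ne_zero (mul_ne_zero (hpsi0 χ) (hlam0 χ)) hχ1
    have hA'0 : A' ≠ 0 := div_ne_zero (mul_ne_zero (hpsi0 χ') (hlam0 χ')) hχ'1
    have hfun : (χ' : G → ℂ) = (A' / A) • (χ : G → ℂ) := by
      funext g
      obtain ⟨h, hh, k, hk, rfl⟩ := hc.gen g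
      rw [Pi.smul_apply, smul_eq_mul]
      have h1 := hval χ h k hh hk
      have h2 := hval χ' h k hh hk
      rw [hψeq, hl] at h2
      have e1 : (χ : G → ℂ) (h * k) = A * ((psi χ : C → ℂ) ⟨k, hk⟩ * (lam χ : P → ℂ) ⟨h, hh⟩) := by
        rw [hA]
        field_simp
        linear_combination h1
      have e2 : (χ' : G → ℂ) (h * k) =
          A' * ((psi χ : C → ℂ) ⟨k, hk⟩ * (lam χ : P → ℂ) ⟨h, hh⟩) := by
        rw [hA', hψeq, hl]
        field_simp
        linear_combination h2
      rw [e1, e2]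
      field_simp
    rw [hfun, classInner_smul_left, irr_classInner_self χ.2, mul_one] at h0
    exact div_ne_zero hA'0 hA0 h0
  -- surjectivity
  have hsurj : ∀ l₀ : IrrCharacter P, ∃ χ ∈ B, lam χ = l₀ := by
    intro l₀
    by_contra hcon
    push Not at hcon
    have hB0 : ∀ x : P, x ≠ 1 → ∑ χ ∈ Finset.univ.filter (fun χ : IrrCharacter G => χ ∈ B),
        (χ : G → ℂ) 1 * conj ((χ : G → ℂ) x) = 0 := by
      intro x hx
      have hxp : p ∣ orderOf (x : G) := by
        obtain ⟨k, hk⟩ := (IsPGroup.iff_orderOf.mp hP) x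
        rw [Subgroup.orderOf_coe, hk]
        cases k with
        | zero =>
          exfalso
          rw [pow_zero, orderOf_eq_one_iff] at hk
          exact hx hk
        | succ k => exact dvd_pow_self p (Nat.succ_ne_zero k)
      have := weak_block_orthogonality_finset p M hM χ₀ 1 (x : G)
        (by rw [orderOf_one]; exact fun h => hp.one_lt.ne' (Nat.dvd_one.mp h)) hxp
      rw [← hχ₀] at this
      exact this
    have hS1 : ∑ x : P, (∑ χ ∈ Finset.univ.filter (fun χ : IrrCharacter G => χ ∈ B),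
        (χ : G → ℂ) 1 * conj ((χ : G → ℂ) x)) * (l₀ : P → ℂ) x =
        (∑ χ ∈ Finset.univ.filter (fun χ : IrrCharacter G => χ ∈ B),
          (χ : G → ℂ) 1 * conj ((χ : G → ℂ) 1)) * (l₀ : P → ℂ) 1 := by
      rw [Finset.sum_eq_single (1 : P)]
      · rw [Subgroup.coe_one]
      · intro x _ hx
        rw [hB0 x hx, zero_mul]
      · intro h
        exact absurd (Finset.mem_univ _) h
    have hS2 : ∑ x : P, (∑ χ ∈ Finset.univ.filter (fun χ : IrrCharacter G => χ ∈ B),
        (χ : G → ℂ) 1 * conj ((χ : G → ℂ) x)) * (l₀ : P → ℂ) x = 0 := by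
      simp_rw [Finset.sum_mul]
      rw [Finset.sum_comm]
      apply Finset.sum_eq_zero
      intro χ hχ
      rw [Finset.mem_filter] at hχ
      have h0 : classInner (l₀ : P → ℂ) (lam χ : P → ℂ) = 0 :=
        irr_classInner_ne l₀.2 (lam χ).2 (fun h => hcon χ hχ.2 (Subtype.ext h).symm)
      unfold classInner at h0
      have h1 : ∑ x : P, (l₀ : P → ℂ) x * conj ((lam χ : P → ℂ) x) = 0 := by
        rcases mul_eq_zero.mp h0 with h | h
        · exfalso
          have : (Nat.card P : ℂ) ≠ 0 := by exact_mod_cast Nat.card_pos.ne'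
          exact this (inv_eq_zero.mp h)
        · exact h
      calc ∑ x : P, (χ : G → ℂ) 1 * conj ((χ : G → ℂ) x) * (l₀ : P → ℂ) x
          = (χ : G → ℂ) 1 * conj (classInner (res P (χ : G → ℂ)) (lam χ : P → ℂ)) *
            ∑ x : P, (l₀ : P → ℂ) x * conj ((lam χ : P → ℂ) x) := by
            rw [Finset.mul_sum]
            apply Finset.sum_congr rfl
            intro x _
            rw [hlam χ x, map_mul]
            ring
        _ = 0 := by rw [h1, mul_zero]
    rw [hS1] at hS2
    have hl1 : (l₀ : P → ℂ) 1 ≠ 0 := irr_apply_one_ne_zero l₀.2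
    have hT : ∑ χ ∈ Finset.univ.filter (fun χ : IrrCharacter G => χ ∈ B),
        (χ : G → ℂ) 1 * conj ((χ : G → ℂ) 1) =
        ((∑ χ ∈ Finset.univ.filter (fun χ : IrrCharacter G => χ ∈ B),
          charDegree (χ : G → ℂ) ^ 2 : ℕ) : ℂ) := by
      push_cast
      apply Finset.sum_congr rfl
      intro χ _
      rw [char_charDegree_cast (irr_isCharacter χ.2)]
      have : conj ((χ : G → ℂ) 1) = (χ : G → ℂ) 1 := by
        rw [← char_charDegree_cast (irr_isCharacter χ.2)]
        exact Complex.conj_natCast _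
      rw [this]
      ring
    have hTpos : 0 < ∑ χ ∈ Finset.univ.filter (fun χ : IrrCharacter G => χ ∈ B),
        charDegree (χ : G → ℂ) ^ 2 := by
      apply Finset.sum_pos
      · intro χ _
        exact pow_pos (irr_charDegree_pos χ.2) 2
      · exact ⟨χ₀, by rw [Finset.mem_filter]; exact ⟨Finset.mem_univ _, hχ₀B⟩⟩
    rw [hT] at hS2
    rcases mul_eq_zero.mp hS2 with h | h
    · have : (∑ χ ∈ Finset.univ.filter (fun χ : IrrCharacter G => χ ∈ B),
          charDegree (χ : G → ℂ) ^ 2) = 0 := by exact_mod_cast h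
      omega
    · exact hl1 h
  have hregC : ∀ x : G, ¬ p ∣ orderOf x → x ∈ C := fun x hx =>
    preg_mem_centralizer p P hP hG x hx
  have hF2 : ∀ θ ∈ B, ∀ z : G, (∀ y : G, IsPPart p z y → y ∉ P) → (θ : G → ℂ) z = 0 := by
    intro θ hθ z hz
    obtain ⟨y, hy⟩ := exists_isPPart p z
    have hyP : y ∉ P := hz y hy
    obtain ⟨x, hyx, hcomm, ⟨j, hj⟩, hx⟩ := hy
    have hxC : x ∈ C := hregC x hx
    obtain ⟨h, hh, k, hk, hyhk⟩ := hc.gen y
    have hkP : k ∉ P := by
      intro hkP
      apply hyP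
      rw [hyhk]
      exact P.mul_mem hh hkP
    have hhk : h * k = k * h := hc.comm h hh k hk
    have hk' : k = h⁻¹ * y := by rw [hyhk]; group
    have hcomm' : Commute h⁻¹ y := by
      have h1 : Commute h y := by
        rw [hyhk]
        show h * (h * k) = h * k * h
        rw [mul_assoc, ← hhk]
      exact h1.inv_left
    have hkord : ∃ i, orderOf k = p ^ i := by
      obtain ⟨i, hi⟩ := (IsPGroup.iff_orderOf.mp hP) ⟨h, hh⟩
      have hi' : orderOf h⁻¹ = p ^ i := by
        rw [orderOf_inv, ← hi]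
        exact (Subgroup.orderOf_mk h hh).symm
      have hdvd : orderOf k ∣ p ^ (max i j) := by
        rw [hk']
        apply dvd_trans hcomm'.orderOf_mul_dvd_lcm
        apply Nat.lcm_dvd
        · rw [hi']; exact pow_dvd_pow p (le_max_left i j)
        · rw [hj]; exact pow_dvd_pow p (le_max_right i j)
      obtain ⟨i', -, hi''⟩ := (Nat.dvd_prime_pow hp).mp hdvd
      exact ⟨i', hi''⟩
    have hkx : Commute k x := by
      rw [hk']
      have hhx : Commute h x := hc.comm h hh x hxC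
      exact (hhx.inv_left).mul_left hcomm
    have hzeq : z = (k * x) * h := by
      have hhx : h * x = x * h := hc.comm h hh x hxC
      rw [← hyx, hyhk, hhk, mul_assoc, hhx, ← mul_assoc]
    have hkxC : k * x ∈ C := C.mul_mem hk hxC
    have h1 := hc.prod_formula θ hh hkxC
    have h2 : (θ : G → ℂ) (k * x) = _ := hpsi θ ⟨k * x, hkxC⟩
    have h3 : (psi θ : C → ℂ) ⟨k * x, hkxC⟩ = 0 := by
      apply hvan θ hθ ⟨k * x, hkxC⟩ ⟨k, hk⟩
      · refine ⟨⟨x, hxC⟩, rfl, ?_, ?_, ?_⟩
        · exact Subtype.ext hkx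
        · obtain ⟨i, hi⟩ := hkord
          exact ⟨i, by rw [Subgroup.orderOf_mk]; exact hi⟩
        · rw [Subgroup.orderOf_mk]; exact hx
      · rw [Subgroup.mem_subgroupOf]; exact hkP
    rw [h3, mul_zero] at h2
    rw [h2, zero_mul] at h1
    rw [hzeq]
    exact (mul_eq_zero.mp h1).resolve_right (irr_apply_one_ne_zero θ.2)
  refine ⟨lam, ?_, hinj, hsurj, hF2⟩
  intro θ y
  rw [hlam θ y, hlam1 θ]
  ring

/-- Let p be a prime, M a maximal ideal of the algebraic integers containing p, D a p-subgroup of the finite group G with G = D·C_G(D), and B a p-block with defect group D. Let χ be a member of B having D in its kernel (there is exactly one, the canonical character of B). Then the irreducible characters in B are exactly the functions θ on G for which there is an irreducible character ζ of D such that θ(yx) = ζ(y)χ(x) whenever y ∈ D, x has order prime to p and x commutes with y, and θ(z) = 0 whenever the p-part of z does not lie in D. -/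
theorem result {G : Type*} [Group G] [Finite G] (p : ℕ) [Fact p.Prime] (M : Ideal Cfsg.AlgInt) (hM : Cfsg.IsPModular p M) (D : Subgroup G) (hD : IsPGroup p D) (hG : D ⊔ Subgroup.centralizer (D : Set G) = ⊤) (B : Set (Cfsg.IrrCharacter G)) (hB : Cfsg.IsPBlock M B) (hBD : Cfsg.IsDefectGroup p M B D) (χ : Cfsg.IrrCharacter G) (hχ : χ ∈ B) (hχD : ∀ y ∈ D, (χ : G → ℂ) y = (χ : G → ℂ) 1) : (∀ θ : Cfsg.IrrCharacter G, θ ∈ B ↔ ∃ ζ : Cfsg.IrrCharacter D, (∀ (y : D) (x : G), ¬ p ∣ orderOf x → Commute (y : G) x → (θ : G → ℂ) ((y : G) * x) = (ζ : D → ℂ) y * (χ : G → ℂ) x) ∧ (∀ z : G, (∀ y : G, Cfsg.IsPPart p z y → y ∉ D) → (θ : G → ℂ) z = 0)) ∧ ∀ ζ : Cfsg.IrrCharacter D, ∃ θ ∈ B, (∀ (y : D) (x : G), ¬ p ∣ orderOf x → Commute (y : G) x → (θ : G → ℂ) ((y : G) * x) = (ζ : D → ℂ) y * (χ : G → ℂ) x) ∧ (∀ z : G, (∀ y : G, Cfsg.IsPPart p z y → y ∉ D) → (θ : G → ℂ) z = 0) := by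
  classical
  haveI := Fintype.ofFinite G
  haveI hMp : M.IsPrime := hM.2.1.isPrime
  have hp : p.Prime := Fact.out
  haveI : Fintype (IrrCharacter G) := Fintype.ofFinite _
  haveI instD : Fintype D := Fintype.ofFinite _
  obtain ⟨lam, hlamv, hinj, hsurj, hF2⟩ := setup p M hM D hD hG B hB hBD
  set C : Subgroup G := Subgroup.centralizer (D : Set G) with hC
  have hc : CommGen D C := Cfsg.Agent.S0968.commGen_of_sup D hG
  obtain ⟨χ₀, hχ₀⟩ := hB
  have hDc : (Nat.card D : ℂ) ≠ 0 := by exact_mod_cast Nat.card_pos.ne'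
  have hl1c : ∀ φ : IrrCharacter G, conj ((lam φ : D → ℂ) 1) = (lam φ : D → ℂ) 1 := by
    intro φ
    rw [← char_charDegree_cast (irr_isCharacter (lam φ).2)]
    exact Complex.conj_natCast _
  set A : G → ℂ := fun g => ∑ φ ∈ Finset.univ.filter (fun φ : IrrCharacter G => φ ∈ B),
      (φ : G → ℂ) 1 * conj ((φ : G → ℂ) g) with hA
  have hfour : ∀ θ ∈ B, ∀ y : G, ¬ p ∣ orderOf y →
      ((lam θ : D → ℂ) 1) ^ 2 * A y =
        (Nat.card D : ℂ) * ((θ : G → ℂ) 1 * conj ((θ : G → ℂ) y)) := by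
    intro θ hθ y hy
    have hyC : y ∈ C := preg_mem_centralizer p D hD hG y hy
    have hA0 : ∀ z : D, z ≠ 1 → A ((z : G) * y) = 0 := by
      intro z hz1
      have hzc : Commute (z : G) y := hc.comm (z : G) z.2 y hyC
      obtain ⟨j, hj⟩ := (IsPGroup.iff_orderOf.mp hD) z
      have hj' : orderOf (z : G) = p ^ j := by rw [Subgroup.orderOf_coe]; exact hj
      have hj0 : j ≠ 0 := by
        rintro rfl
        apply hz1
        rw [pow_zero] at hj
        exact orderOf_eq_one_iff.mp hj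
      have hcop : (orderOf (z : G)).Coprime (orderOf y) := by
        rw [hj']
        exact Nat.Coprime.pow_left j ((Nat.Prime.coprime_iff_not_dvd hp).mpr hy)
      have hord : p ∣ orderOf ((z : G) * y) := by
        rw [hzc.orderOf_mul_eq_mul_orderOf_of_coprime hcop, hj']
        exact dvd_mul_of_dvd_left (dvd_pow_self p hj0) _
      have h1 : blockCoeff B ((z : G) * y) = 0 := by
        rw [hχ₀]
        exact Cfsg.Agent.helper8.Cover.blockCoeff_eq_zero hM χ₀ hord
      rw [blockCoeff_eq_sum] at h1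
      have hG' : (Nat.card G : ℂ)⁻¹ ≠ 0 := by
        apply inv_ne_zero
        exact_mod_cast Nat.card_pos.ne'
      rcases mul_eq_zero.mp h1 with h | h
      · exact absurd h hG'
      · exact h
    have hS1 : ∑ h : D, (lam θ : D → ℂ) h * A ((h : G) * y) = (lam θ : D → ℂ) 1 * A y := by
      rw [Finset.sum_eq_single (1 : D)]
      · simp only [Subgroup.coe_one, one_mul]
      · intro h _ hh
        rw [hA0 h hh, mul_zero]
      · intro h
        exact absurd (Finset.mem_univ _) h
    have hval : ∀ (φ : IrrCharacter G) (h : D),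
        (φ : G → ℂ) ((h : G) * y) * (lam φ : D → ℂ) 1 = (lam φ : D → ℂ) h * (φ : G → ℂ) y := by
      intro φ h
      have h1 := hc.prod_formula φ h.2 hyC
      rw [← hc.comm (h : G) h.2 y hyC] at h1
      have h2 := hlamv φ h
      have hφ1 := irr_apply_one_ne_zero φ.2
      apply mul_left_cancel₀ hφ1
      linear_combination ((lam φ : D → ℂ) 1) * h1 + ((φ : G → ℂ) y) * h2
    have hexp : ∀ h : D, (lam θ : D → ℂ) h * A ((h : G) * y) =
        ∑ φ ∈ Finset.univ.filter (fun φ : IrrCharacter G => φ ∈ B),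
          ((φ : G → ℂ) 1 * conj ((φ : G → ℂ) y) / (lam φ : D → ℂ) 1) *
            ((lam θ : D → ℂ) h * conj ((lam φ : D → ℂ) h)) := by
      intro h
      simp only [hA]
      rw [Finset.mul_sum]
      apply Finset.sum_congr rfl
      intro φ _
      have hl1 : (lam φ : D → ℂ) 1 ≠ 0 := irr_apply_one_ne_zero (lam φ).2
      have h3 : conj ((φ : G → ℂ) ((h : G) * y)) =
          conj ((lam φ : D → ℂ) h) * conj ((φ : G → ℂ) y) / (lam φ : D → ℂ) 1 := by
        rw [eq_div_iff hl1]
        have h4 := congrArg conj (hval φ h)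
        rw [map_mul, map_mul, hl1c φ] at h4
        exact h4
      rw [h3]
      field_simp
    have hS2 : ∑ h : D, (lam θ : D → ℂ) h * A ((h : G) * y) =
        (Nat.card D : ℂ) * ((θ : G → ℂ) 1 * conj ((θ : G → ℂ) y)) / (lam θ : D → ℂ) 1 := by
      rw [Finset.sum_congr rfl (fun h _ => hexp h), Finset.sum_comm]
      have hinner : ∀ φ ∈ Finset.univ.filter (fun φ : IrrCharacter G => φ ∈ B),
          ∑ h : D, ((φ : G → ℂ) 1 * conj ((φ : G → ℂ) y) / (lam φ : D → ℂ) 1) *
            ((lam θ : D → ℂ) h * conj ((lam φ : D → ℂ) h)) =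
            if φ = θ then (Nat.card D : ℂ) * ((θ : G → ℂ) 1 * conj ((θ : G → ℂ) y)) /
              (lam θ : D → ℂ) 1 else 0 := by
        intro φ hφ
        rw [Finset.mem_filter] at hφ
        rw [← Finset.mul_sum]
        have hci := irr_classInner (lam θ).2 (lam φ).2
        unfold classInner at hci
        have hsum : ∑ h : D, (lam θ : D → ℂ) h * conj ((lam φ : D → ℂ) h) =
            (Nat.card D : ℂ) * (if (lam θ : D → ℂ) = (lam φ : D → ℂ) then 1 else 0) := by
          rw [← hci, ← mul_assoc, mul_inv_cancel₀ hDc, one_mul]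
        rw [hsum]
        by_cases hφθ : φ = θ
        · rw [if_pos hφθ, hφθ, if_pos rfl]
          ring
        · rw [if_neg hφθ, if_neg, mul_zero, mul_zero]
          intro heq
          exact hφθ (hinj θ hθ φ hφ.2 (Subtype.ext heq.symm))
      rw [Finset.sum_congr rfl hinner, Finset.sum_ite_eq' _ θ,
        if_pos (Finset.mem_filter.mpr ⟨Finset.mem_univ _, hθ⟩)]
    rw [hS1] at hS2
    have hl1 : (lam θ : D → ℂ) 1 ≠ 0 := irr_apply_one_ne_zero (lam θ).2
    rw [eq_div_iff hl1] at hS2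
    rw [← hS2]
    ring
  -- the canonical character restricts trivially
  have hlamχ : (lam χ : D → ℂ) 1 = 1 := by
    have hconst : ∀ x : D, (lam χ : D → ℂ) x = (lam χ : D → ℂ) 1 := by
      intro x
      have h1 := hlamv χ x
      rw [hχD x x.2] at h1
      exact (mul_left_cancel₀ (irr_apply_one_ne_zero χ.2) h1).symm
    have h2 := irr_classInner_self (lam χ).2
    unfold classInner at h2
    have h3 : ∑ x : D, (lam χ : D → ℂ) x * conj ((lam χ : D → ℂ) x) =
        (Nat.card D : ℂ) * ((lam χ : D → ℂ) 1 * (lam χ : D → ℂ) 1) := by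
      have h4 : ∀ x ∈ (Finset.univ : Finset D), (lam χ : D → ℂ) x * conj ((lam χ : D → ℂ) x) =
          (lam χ : D → ℂ) 1 * (lam χ : D → ℂ) 1 := by
        intro x _
        rw [hconst x, hl1c χ]
      rw [Finset.sum_congr rfl h4, Finset.sum_const, Finset.card_univ, nsmul_eq_mul,
        Fintype.card_eq_nat_card]
    rw [h3, ← mul_assoc, inv_mul_cancel₀ hDc, one_mul] at h2
    obtain ⟨n, hn0, hn⟩ := irr_apply_one (lam χ).2
    rw [hn] at h2 ⊢
    have h5 : n * n = 1 := by exact_mod_cast h2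
    have h6 : n = 1 := Nat.eq_one_of_mul_eq_one_left h5
    rw [h6]
    simp
  have hreg : ∀ θ ∈ B, ∀ y : G, ¬ p ∣ orderOf y →
      (θ : G → ℂ) y = (lam θ : D → ℂ) 1 * (χ : G → ℂ) y := by
    intro θ hθ y hy
    have hE : ∀ y : G, ¬ p ∣ orderOf y → (θ : G → ℂ) 1 * conj ((θ : G → ℂ) y) =
        ((lam θ : D → ℂ) 1) ^ 2 * ((χ : G → ℂ) 1 * conj ((χ : G → ℂ) y)) := by
      intro y hy
      have h1 := hfour θ hθ y hy
      have h2 := hfour χ hχ y hy
      rw [hlamχ, one_pow, one_mul] at h2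
      rw [h2] at h1
      apply mul_left_cancel₀ hDc
      rw [← h1]
      ring
    obtain ⟨n, hn0, hn⟩ := irr_apply_one θ.2
    obtain ⟨m, hm0, hm⟩ := irr_apply_one χ.2
    obtain ⟨l, hl0, hl⟩ := irr_apply_one (lam θ).2
    have hdeg : (θ : G → ℂ) 1 = (lam θ : D → ℂ) 1 * (χ : G → ℂ) 1 := by
      have h1 := hE 1 (by rw [orderOf_one]; exact fun h => hp.one_lt.ne' (Nat.dvd_one.mp h))
      rw [hn, hm, hl, Complex.conj_natCast, Complex.conj_natCast] at h1
      rw [hn, hm, hl]
      have h2 : n * n = l ^ 2 * (m * m) := by exact_mod_cast h1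
      have h3 : n = l * m := by
        have h4 : n ^ 2 = (l * m) ^ 2 := by rw [mul_pow]; nlinarith
        exact Nat.pow_left_injective (by norm_num : 2 ≠ 0) h4
      rw [h3]
      push_cast
      ring
    have h4 := hE y hy
    rw [hdeg] at h4
    have hl1 : (lam θ : D → ℂ) 1 ≠ 0 := irr_apply_one_ne_zero (lam θ).2
    have hχ1 : (χ : G → ℂ) 1 ≠ 0 := irr_apply_one_ne_zero χ.2
    have h5 : conj ((θ : G → ℂ) y) = (lam θ : D → ℂ) 1 * conj ((χ : G → ℂ) y) := by
      apply mul_left_cancel₀ (mul_ne_zero hl1 hχ1)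
      rw [h4]
      ring
    have h6 := congrArg conj h5
    rw [map_mul, Complex.conj_conj, Complex.conj_conj, hl1c θ] at h6
    exact h6
  have hF1 : ∀ θ ∈ B, ∀ (y : D) (x : G), ¬ p ∣ orderOf x → Commute (y : G) x →
      (θ : G → ℂ) ((y : G) * x) = (lam θ : D → ℂ) y * (χ : G → ℂ) x := by
    intro θ hθ y x hx hyx
    have hxC := preg_mem_centralizer p D hD hG x hx
    have h1 := hc.prod_formula θ y.2 hxC
    rw [← hyx.eq] at h1
    have h2 := hlamv θ y
    have h3 := hreg θ hθ x hx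
    have hθ1 := irr_apply_one_ne_zero θ.2
    apply mul_right_cancel₀ hθ1
    rw [h1, h3]
    linear_combination ((χ : G → ℂ) x) * h2
  refine ⟨?_, ?_⟩
  · intro θ
    constructor
    · intro hθ
      exact ⟨lam θ, hF1 θ hθ, hF2 θ hθ⟩
    · rintro ⟨ζ, hf1, hf2⟩
      obtain ⟨θ', hθ'B, hθ'⟩ := hsurj ζ
      have heq : θ = θ' := by
        apply Subtype.ext
        funext z
        obtain ⟨y, hy⟩ := exists_isPPart p z
        by_cases hyD : y ∈ D
        · obtain ⟨x, hyx, hcomm, -, hx⟩ := hy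
          rw [← hyx]
          have e1 := hf1 ⟨y, hyD⟩ x hx hcomm
          have e2 := hF1 θ' hθ'B ⟨y, hyD⟩ x hx hcomm
          rw [hθ'] at e2
          simp only at e1 e2
          rw [e1, e2]
        · have hall : ∀ y' : G, IsPPart p z y' → y' ∉ D := by
            intro y' hy'
            rw [← isPPart_unique hp hy hy']
            exact hyD
          rw [hf2 z hall, hF2 θ' hθ'B z hall]
      rw [heq]
      exact hθ'B
  · intro ζ
    obtain ⟨θ, hθB, hθ⟩ := hsurj ζ
    refine ⟨θ, hθB, ?_, hF2 θ hθB⟩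
    intro y x hx hyx
    rw [← hθ]
    exact hF1 θ hθB y x hx hyx

end Cfsg.Agent.S4714
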