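import Cfsg.Statements.S4717
import Cfsg.Agent.S0936
import Cfsg.Agent.Lib_helper24_BrauerCorr2
import Cfsg.Agent.Lib_helper24_DefectOrder
import Cfsg.Agent.Lib_helper24_Induced

set_option autoImplicit false
open Cfsg

namespace Cfsg.Agent.S4717

open Cfsg.Agent.helper24
open scoped ComplexConjugate

universe u

set_option linter.style.haveILetI false
set_option linter.unusedVariables false
set_option linter.unusedSectionVars false

theorem centralizer_zpowers_eq {G : Type u} [Group G] (x : G) :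
    Subgroup.centralizer (Subgroup.zpowers x : Set G) = Subgroup.centralizer ({x} : Set G) := by
  ext c
  rw [Subgroup.mem_centralizer_iff, Subgroup.mem_centralizer_singleton_iff]
  constructor
  · intro h
    exact (h x (Subgroup.mem_zpowers x)).symm
  · intro h g hg
    obtain ⟨n, rfl⟩ := Subgroup.mem_zpowers_iff.1 hg
    have h1 : Commute x c := h.symm
    exact (h1.zpow_left n)

/-- the idempotent of a union of blocks is the sum of the block idempotents -/
theorem blockCoeff_union {K : Type u} [Group K] [Fintype K] [Fintype (IrrCharacter K)]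
    (M : Ideal AlgInt) [hMp : M.IsPrime] (S : Finset (IrrCharacter K))
    (E : Set (IrrCharacter K)) (hE : ∀ ψ, ψ ∈ E ↔ ψ ∈ S)
    (hS : ∀ ψ ∈ S, ∀ ψ' : IrrCharacter K, SameBlock M (ψ : K → ℂ) (ψ' : K → ℂ) → ψ' ∈ S)
    (h : K) :
    blockCoeff E h = ∑ b ∈ S.image (fun ψ : IrrCharacter K => blockOf M (ψ : K → ℂ)),
      blockCoeff b h := by
  classical
  have hMtop := hMp.ne_top
  rw [blockCoeff_eq_sum E]
  have hfil : Finset.univ.filter (fun χ : IrrCharacter K => χ ∈ E) = S := by
    ext ψ
    simp [hE]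
  rw [hfil, ← Finset.sum_fiberwise_of_maps_to
    (g := fun ψ : IrrCharacter K => blockOf M (ψ : K → ℂ))
    (t := S.image (fun ψ : IrrCharacter K => blockOf M (ψ : K → ℂ)))
    (fun ψ hψ => Finset.mem_image_of_mem _ hψ), Finset.mul_sum]
  refine Finset.sum_congr rfl (fun b hb => ?_)
  obtain ⟨ψ₀, hψ₀, rfl⟩ := Finset.mem_image.1 hb
  rw [blockCoeff_eq_sum]
  congr 1
  apply Finset.sum_congr _ (fun _ _ => rfl)
  ext ψ
  simp only [Finset.mem_filter, Finset.mem_univ, true_and]
  constructor
  · rintro ⟨_, h⟩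
    rw [← h]
    exact sameBlock_refl M hMtop _
  · intro h
    exact ⟨hS ψ₀ hψ₀ ψ h, blockOf_eq_of_mem ⟨ψ₀, rfl⟩ h⟩

section Core

variable {G : Type u} [Group G] [Fintype G]

/-- the Brauer map of a block idempotent is the sum of the idempotents of the blocks inducing it -/
theorem brRes_blockCoeff_union (p : ℕ) [Fact p.Prime] (M : Ideal AlgInt) (hM : IsPModular p M)
    {P H : Subgroup G} [Fintype H] (hP : IsPGroup p P) (hPH : P ≤ H)
    (hCH : Subgroup.centralizer (P : Set G) ≤ H) (hHN : H ≤ Subgroup.normalizer (P : Set G))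
    (B : Set (IrrCharacter G)) (hB : IsPBlock M B) (E : Set (IrrCharacter H))
    (hE : ∀ ψ : IrrCharacter H, ψ ∈ E ↔ IsInducedBlock M H (blockOf M (ψ : H → ℂ)) B)
    (hER : ∀ h, MemLocalRing M (blockCoeff E h)) :
    ∀ h : H, MemLocalIdeal M (brRes P H (blockCoeff B) h - blockCoeff E h) := by
  classical
  have hMp : M.IsPrime := hM.2.1.isPrime
  have hMtop := hMp.ne_top
  obtain ⟨χ₀, hχ₀⟩ := hB
  obtain ⟨hcf, hl, -, hidem⟩ := blockCoeff_props (M := M) χ₀
  rw [← hχ₀] at hcf hl hidem
  have hEcf := blockCoeff_isClassFunction E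
  have hEid : cconv (blockCoeff E) (blockCoeff E) = blockCoeff E := by
    apply classFunction_ext_omega (cconv_isClassFunction hEcf hEcf) hEcf
    intro ψ
    rw [omegaFn_cconv ψ.2 _ hEcf, omegaFn_blockCoeff]
    split_ifs <;> simp
  apply idem_congr (brRes_isClassFunction hHN hcf) (fun h => brRes_memLocalRing hMtop P H hl h)
    _ hEcf hER
  · intro h
    rw [hEid, sub_self]
    exact memLocalIdeal_zero hMtop
  · intro ξ
    obtain ⟨χ, hχ1, hχ2⟩ := brauer_block_exists p M hM hP hPH hCH hHN ξ
    have h1 := hχ1 (blockCoeff B) hcf hl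
    unfold brOmega at h1
    rw [omegaFn_blockCoeff]
    rw [omegaFn_blockCoeff] at h1
    have hiff : ξ ∈ E ↔ χ ∈ B := by
      rw [hE]
      constructor
      · intro hξ
        have e2 : blockOf M (χ : G → ℂ) = B := induced_block_unique H hχ2 hξ
        rw [← e2]
        exact sameBlock_refl M hMtop _
      · intro hχ
        have e1 : blockOf M (χ : G → ℂ) = B := blockOf_eq_of_mem ⟨χ₀, hχ₀⟩ hχ
        rw [e1] at hχ2
        exact hχ2
    by_cases hξ : ξ ∈ E
    · rw [if_pos hξ]
      rw [if_pos (hiff.1 hξ)] at h1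
      exact h1
    · rw [if_neg hξ]
      rw [if_neg (fun h => hξ (hiff.2 h))] at h1
      exact h1
  · intro h
    have h1 := brRes_cconv_sub hM hP hCH hcf hl hcf hl h
    rw [hidem] at h1
    have := memLocalIdeal_neg h1
    rwa [neg_sub] at this

/-- facts on the cyclic subgroup generated by a `p`-element and its centralizer -/
theorem zpowers_facts {p : ℕ} (x : G) (hx : ∃ k : ℕ, orderOf x = p ^ k) :
    IsPGroup p (Subgroup.zpowers x) ∧
    Subgroup.zpowers x ≤ Subgroup.centralizer ({x} : Set G) ∧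
    Subgroup.centralizer (Subgroup.zpowers x : Set G) ≤ Subgroup.centralizer ({x} : Set G) ∧
    Subgroup.centralizer ({x} : Set G) ≤ Subgroup.normalizer (Subgroup.zpowers x : Set G) := by
  refine ⟨?_, ?_, ?_, ?_⟩
  · obtain ⟨k, hk⟩ := hx
    apply IsPGroup.of_card (n := k)
    rw [Nat.card_zpowers, hk]
  · apply Subgroup.zpowers_le.2
    rw [Subgroup.mem_centralizer_singleton_iff]
  · rw [centralizer_zpowers_eq]
  · rw [← centralizer_zpowers_eq]
    exact Subgroup.centralizer_le_normalizer _

/-- a block induced from the centralizer of a `p`-element has at least its defect -/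
theorem defect_le_of_induced (p : ℕ) [Fact p.Prime] (M : Ideal AlgInt) (hM : IsPModular p M)
    (H : Subgroup G) [Fintype H] (b : Set (IrrCharacter H)) (B : Set (IrrCharacter G))
    (hind : IsInducedBlock M H b B) : blockDefect p b ≤ blockDefect p B := by
  have hp : p.Prime := Fact.out
  obtain ⟨Db, hDb⟩ := exists_defectGroup p M hM b hind.1
  obtain ⟨E, hE, hle⟩ := defectGroup_induced_le p M hM H b B hind Db hDb
  have h1 := card_defectGroup p M hM b hind.1 Db hDb
  have h2 := card_defectGroup p M hM B hind.2.1 E hE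
  have h3 : Nat.card (Db.map H.subtype) = Nat.card Db :=
    Subgroup.card_map_of_injective (Subgroup.subtype_injective _)
  have h4 : Nat.card (Db.map H.subtype) ≤ Nat.card E := Subgroup.card_le_of_le hle
  rw [h3, h1, h2] at h4
  exact (Nat.pow_le_pow_iff_right hp.one_lt).1 h4

end Core

/-- Let p be a prime, M a maximal ideal of the algebraic integers containing p, and r a natural number; say that a finite group X has deficiency class r when X has no non-principal p-block of defect ≥ r. If G has deficiency class r then so does the centralizer of every p-element of G; conversely, if r > 0 and the centralizer of every element of order p has deficiency class r, then G has deficiency class r. -/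
theorem result {G : Type*} [Group G] [Finite G] (p : ℕ) [Fact p.Prime] (M : Ideal Cfsg.AlgInt) (hM : Cfsg.IsPModular p M) (r : ℕ) : ((∀ B' : Set (Cfsg.IrrCharacter G), Cfsg.IsPBlock M B' → B' ≠ Cfsg.principalBlock M G → Cfsg.blockDefect p B' < r) → ∀ y : G, (∃ k : ℕ, orderOf y = p ^ k) → (∀ B' : Set (Cfsg.IrrCharacter ↥(Subgroup.centralizer ({y} : Set G))), Cfsg.IsPBlock M B' → B' ≠ Cfsg.principalBlock M ↥(Subgroup.centralizer ({y} : Set G)) → Cfsg.blockDefect p B' < r)) ∧ (0 < r → (∀ y : G, orderOf y = p → (∀ B' : Set (Cfsg.IrrCharacter ↥(Subgroup.centralizer ({y} : Set G))), Cfsg.IsPBlock M B' → B' ≠ Cfsg.principalBlock M ↥(Subgroup.centralizer ({y} : Set G)) → Cfsg.blockDefect p B' < r)) → (∀ B' : Set (Cfsg.IrrCharacter G), Cfsg.IsPBlock M B' → B' ≠ Cfsg.principalBlock M G → Cfsg.blockDefect p B' < r)) := by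
  classical
  have hp : p.Prime := Fact.out
  haveI hMp : M.IsPrime := hM.2.1.isPrime
  have hMtop := hMp.ne_top
  haveI := Fintype.ofFinite G
  constructor
  · intro hG y hy b hb hne
    haveI : Fintype (Subgroup.centralizer ({y} : Set G)) := Fintype.ofFinite _
    obtain ⟨hP, hPH, hCH, hHN⟩ := zpowers_facts (p := p) y hy
    obtain ⟨ξ₀, hbeq⟩ := hb
    obtain ⟨χ, -, hχ2⟩ := brauer_block_exists p M hM hP hPH hCH hHN ξ₀
    rw [← hbeq] at hχ2
    have hBne : blockOf M (χ : G → ℂ) ≠ principalBlock M G := by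
      intro heq
      rw [heq] at hχ2
      exact hne ((Cfsg.Agent.S0936.result p M hM _ b ⟨_, hχ2⟩).1 hχ2)
    have h1 := hG _ ⟨χ, rfl⟩ hBne
    exact lt_of_le_of_lt (defect_le_of_induced p M hM _ b _ hχ2) h1
  · intro hr hC B hB hne
    by_contra hcon
    push Not at hcon
    obtain ⟨g₀, hg₀⟩ := exists_defectClass p M hM B hB
    obtain ⟨D₀⟩ : Nonempty (Sylow p (Subgroup.centralizer ({g₀} : Set G))) := inferInstance
    have hDdef : IsDefectGroup p M B ((D₀ : Subgroup (Subgroup.centralizer ({g₀} : Set G))).map (Subgroup.centralizer ({g₀} : Set G)).subtype) :=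
      ⟨g₀, hg₀, D₀, rfl⟩
    have hcardD := card_defectGroup p M hM B hB _ hDdef
    have hcardD₀ : Nat.card (D₀ : Subgroup (Subgroup.centralizer ({g₀} : Set G))) = p ^ blockDefect p B := by
      rw [← hcardD, Subgroup.card_map_of_injective (Subgroup.subtype_injective _)]
    have hD₀p : IsPGroup p (D₀ : Subgroup (Subgroup.centralizer ({g₀} : Set G))) := D₀.isPGroup'
    haveI hnt : Nontrivial (D₀ : Subgroup (Subgroup.centralizer ({g₀} : Set G))) := by
      rw [← Finite.one_lt_card_iff_nontrivial, hcardD₀]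
      exact Nat.one_lt_pow (by omega) hp.one_lt
    haveI hcnt := hD₀p.center_nontrivial
    have hZp : IsPGroup p (Subgroup.center (D₀ : Subgroup (Subgroup.centralizer ({g₀} : Set G)))) := hD₀p.to_subgroup _
    have hdvd : p ∣ Nat.card (Subgroup.center (D₀ : Subgroup (Subgroup.centralizer ({g₀} : Set G)))) := by
      obtain ⟨n, hn⟩ := IsPGroup.iff_card.1 hZp
      rw [hn]
      have hn0 : n ≠ 0 := by
        rintro rfl
        rw [pow_zero] at hn
        have := Finite.one_lt_card_iff_nontrivial.2 hcnt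
        omega
      exact dvd_pow_self p hn0
    obtain ⟨z, hz⟩ := exists_prime_orderOf_dvd_card' p hdvd
    obtain ⟨x, hxdef⟩ : ∃ x : G, x = (((z : (D₀ : Subgroup (Subgroup.centralizer ({g₀} : Set G)))) : (Subgroup.centralizer ({g₀} : Set G))) : G) := ⟨_, rfl⟩
    have hxord : orderOf x = p := by
      rw [hxdef, Subgroup.orderOf_coe, Subgroup.orderOf_coe, Subgroup.orderOf_coe, hz]
    have hxD : ∀ d : (Subgroup.centralizer ({g₀} : Set G)), d ∈ (D₀ : Subgroup (Subgroup.centralizer ({g₀} : Set G))) → (d : G) * x = x * (d : G) := by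
      intro d hd
      have h1 := Subgroup.mem_center_iff.1 z.2 ⟨d, hd⟩
      have h2 := congrArg (fun w : (D₀ : Subgroup (Subgroup.centralizer ({g₀} : Set G))) => ((w : (Subgroup.centralizer ({g₀} : Set G))) : G)) h1
      simp only [Subgroup.coe_mul] at h2
      rw [hxdef]
      exact h2
    have hxg₀ : g₀ * x = x * g₀ := by
      have h1 := ((z : (D₀ : Subgroup (Subgroup.centralizer ({g₀} : Set G)))) : (Subgroup.centralizer ({g₀} : Set G))).2
      rw [Subgroup.mem_centralizer_singleton_iff] at h1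
      rw [hxdef]
      exact h1.symm
    haveI : Fintype (Subgroup.centralizer ({x} : Set G)) := Fintype.ofFinite _
    haveI : Fintype (IrrCharacter (Subgroup.centralizer ({x} : Set G))) := Fintype.ofFinite _
    obtain ⟨hP, hPH, hCH, hHN⟩ := zpowers_facts (p := p) x ⟨1, by rw [hxord, pow_one]⟩
    have hg₀H : g₀ ∈ (Subgroup.centralizer ({x} : Set G)) := by
      rw [Subgroup.mem_centralizer_singleton_iff]
      exact hxg₀
    obtain ⟨E, hEdef⟩ : ∃ E : Set (IrrCharacter (Subgroup.centralizer ({x} : Set G))),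
      E = {ψ : IrrCharacter (Subgroup.centralizer ({x} : Set G)) | IsInducedBlock M (Subgroup.centralizer ({x} : Set G)) (blockOf M (ψ : (Subgroup.centralizer ({x} : Set G)) → ℂ)) B} := ⟨_, rfl⟩
    have hEmem : ∀ ψ : IrrCharacter (Subgroup.centralizer ({x} : Set G)),
        ψ ∈ E ↔ IsInducedBlock M (Subgroup.centralizer ({x} : Set G)) (blockOf M (ψ : (Subgroup.centralizer ({x} : Set G)) → ℂ)) B := by
      intro ψ
      rw [hEdef]
      rfl
    obtain ⟨S, hS⟩ : ∃ S : Finset (IrrCharacter (Subgroup.centralizer ({x} : Set G))),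
      S = Finset.univ.filter (fun ψ => ψ ∈ E) := ⟨_, rfl⟩
    have hSmem : ∀ ψ, ψ ∈ E ↔ ψ ∈ S := by
      intro ψ
      rw [hS, Finset.mem_filter]
      exact ⟨fun h => ⟨Finset.mem_univ _, h⟩, fun h => h.2⟩
    have hSclosed : ∀ ψ ∈ S, ∀ ψ' : IrrCharacter (Subgroup.centralizer ({x} : Set G)),
        SameBlock M (ψ : (Subgroup.centralizer ({x} : Set G)) → ℂ) (ψ' : (Subgroup.centralizer ({x} : Set G)) → ℂ) → ψ' ∈ S := by
      intro ψ hψ ψ' hs
      rw [← hSmem, hEmem] at hψ ⊢
      have : blockOf M (ψ' : (Subgroup.centralizer ({x} : Set G)) → ℂ) = blockOf M (ψ : (Subgroup.centralizer ({x} : Set G)) → ℂ) := blockOf_eq_of_mem ⟨ψ, rfl⟩ hs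
      rw [this]
      exact hψ
    have hadd := blockCoeff_union M S E hSmem hSclosed
    have hER : ∀ h, MemLocalRing M (blockCoeff E h) := by
      intro h
      rw [hadd h]
      apply memLocalRing_sum
      intro b hb
      obtain ⟨ψ₀, -, rfl⟩ := Finset.mem_image.1 hb
      exact (blockCoeff_props (M := M) ψ₀).2.1 h
    have hA := brRes_blockCoeff_union p M hM hP hPH hCH hHN B hB E hEmem hER ⟨g₀, hg₀H⟩
    have hbr : brRes (Subgroup.zpowers x) (Subgroup.centralizer ({x} : Set G)) (blockCoeff B) ⟨g₀, hg₀H⟩ = blockCoeff B g₀ := by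
      unfold brRes
      rw [if_pos]
      rw [centralizer_zpowers_eq]
      exact hg₀H
    have hEy : ¬ MemLocalIdeal M (blockCoeff E ⟨g₀, hg₀H⟩) := by
      intro h
      apply hg₀.2.1
      have e : blockCoeff B g₀ = (brRes (Subgroup.zpowers x) (Subgroup.centralizer ({x} : Set G)) (blockCoeff B) ⟨g₀, hg₀H⟩ -
          blockCoeff E ⟨g₀, hg₀H⟩) + blockCoeff E ⟨g₀, hg₀H⟩ := by
        rw [hbr]
        ring
      rw [e]
      exact memLocalIdeal_add hA h
    rw [hadd] at hEy
    obtain ⟨b, hbS, hby⟩ : ∃ b ∈ S.image (fun ψ : IrrCharacter (Subgroup.centralizer ({x} : Set G)) => blockOf M (ψ : (Subgroup.centralizer ({x} : Set G)) → ℂ)),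
        ¬ MemLocalIdeal M (blockCoeff b ⟨g₀, hg₀H⟩) := by
      by_contra hno
      push Not at hno
      exact hEy (memLocalIdeal_sum _ _ hno)
    obtain ⟨ψ₀, hψ₀, rfl⟩ := Finset.mem_image.1 hbS
    have hind : IsInducedBlock M (Subgroup.centralizer ({x} : Set G)) (blockOf M (ψ₀ : (Subgroup.centralizer ({x} : Set G)) → ℂ)) B := (hEmem ψ₀).1 ((hSmem ψ₀).2 hψ₀)
    have hDH : (D₀ : Subgroup (Subgroup.centralizer ({g₀} : Set G))).map (Subgroup.centralizer ({g₀} : Set G)).subtype ≤ (Subgroup.centralizer ({x} : Set G)) := by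
      rintro _ ⟨d, hd, rfl⟩
      rw [Subgroup.mem_centralizer_singleton_iff]
      exact hxD d hd
    have hS'p : IsPGroup p (((D₀ : Subgroup (Subgroup.centralizer ({g₀} : Set G))).map (Subgroup.centralizer ({g₀} : Set G)).subtype).subgroupOf (Subgroup.centralizer ({x} : Set G))) :=
      (hD₀p.map _).comap_subtype
    have hS'h : ∀ s ∈ ((D₀ : Subgroup (Subgroup.centralizer ({g₀} : Set G))).map (Subgroup.centralizer ({g₀} : Set G)).subtype).subgroupOf (Subgroup.centralizer ({x} : Set G)),
        s * (⟨g₀, hg₀H⟩ : (Subgroup.centralizer ({x} : Set G))) = ⟨g₀, hg₀H⟩ * s := by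
      intro s hs
      obtain ⟨d, hd, hds⟩ := Subgroup.mem_subgroupOf.1 hs
      have h1 := d.2
      rw [Subgroup.mem_centralizer_singleton_iff] at h1
      apply Subtype.ext
      push_cast
      rw [← hds]
      exact h1
    obtain ⟨Eb, hEb, hle⟩ := minmax_a_sub p M hM _ hind.1 ⟨g₀, hg₀H⟩ hby _ hS'p hS'h
    have hc1 := card_subgroupOf_of_le hDH
    have hc2 := card_defectGroup p M hM _ hind.1 Eb hEb
    have hc3 := Subgroup.card_le_of_le hle
    rw [hc1, hcardD, hc2] at hc3
    have hc4 := (Nat.pow_le_pow_iff_right hp.one_lt).1 hc3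
    have hbne : blockOf M (ψ₀ : (Subgroup.centralizer ({x} : Set G)) → ℂ) ≠ principalBlock M (Subgroup.centralizer ({x} : Set G)) := by
      intro heq
      rw [heq] at hind
      have h1 := (Cfsg.Agent.S0936.result p M hM (Subgroup.centralizer ({x} : Set G)) _ ⟨B, hind⟩).2 rfl
      exact hne (induced_block_unique (Subgroup.centralizer ({x} : Set G)) hind h1)
    have hfin := hC x hxord _ ⟨ψ₀, rfl⟩ hbne
    omega

end Cfsg.Agent.S4717
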