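import Cfsg.Statements.S4718
import Cfsg.Agent.Lib_helper24_ThirdMain
import Cfsg.Agent.Lib_helper24_PRegular
import Cfsg.Agent.Lib_helper24_CharCount
import Cfsg.Agent.Lib_helper12_Card
import Cfsg.Agent.Lib_helper12_CharOps
import Cfsg.Agent.Lib_helper1_ConjChar
import Cfsg.Agent.Lib_helper8_Ind

set_option autoImplicit false
universe u
open Cfsg

namespace Cfsg.Agent.S4718

open Cfsg.Agent.helper24
open scoped ComplexConjugate

set_option linter.style.haveILetI false
set_option linter.unusedVariables false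
set_option linter.unusedSectionVars false

/-- a bound for the denominators of an Egyptian fraction with `k` terms -/
theorem egypt_bound : ∀ (k D : ℕ), ∃ N : ℕ, ∀ (ι : Type u) (t : Finset ι) (x : ι → ℕ),
    t.card = k → (∀ i ∈ t, 0 < x i) →
    (∃ c : ℕ, 0 < c ∧ ∑ i ∈ t, (1 : ℚ) / (x i : ℚ) = (c : ℚ) / (D : ℚ)) →
    ∀ i ∈ t, x i ≤ N := by
  intro k
  induction k with
  | zero =>
    intro D
    refine ⟨0, ?_⟩
    intro ι t x ht _ _ i hi
    rw [Finset.card_eq_zero] at ht
    rw [ht] at hi
    exact absurd hi (Finset.notMem_empty i)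
  | succ k ih =>
    intro D
    choose N' hN' using ih
    refine ⟨max ((k + 1) * D) ((Finset.range ((k + 1) * D * D + 1)).sup N'), ?_⟩
    rintro ι t x ht hpos ⟨c, hc, hsum⟩ i hi
    classical
    have hterm : ∀ j ∈ t, (0 : ℚ) < 1 / (x j : ℚ) := by
      intro j hj
      have : (0 : ℚ) < (x j : ℚ) := by exact_mod_cast hpos j hj
      positivity
    have hD : 0 < D := by
      rcases Nat.eq_zero_or_pos D with h0 | h0
      · exfalso
        rw [h0, Nat.cast_zero, div_zero] at hsum
        have : (0 : ℚ) < ∑ j ∈ t, (1 : ℚ) / (x j : ℚ) :=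
          Finset.sum_pos hterm ⟨i, hi⟩
        rw [hsum] at this
        exact lt_irrefl _ this
      · exact h0
    have hDq : (0 : ℚ) < (D : ℚ) := by exact_mod_cast hD
    have hex : ∃ i0 ∈ t, x i0 ≤ (k + 1) * D := by
      by_contra hcon
      have hbig : ∀ j ∈ t, (k + 1) * D < x j := by
        intro j hj
        by_contra hle
        exact hcon ⟨j, hj, not_lt.1 hle⟩
      have h2 : (0 : ℚ) < (((k + 1) * D : ℕ) : ℚ) := by
        have : 0 < (k + 1) * D := Nat.mul_pos (Nat.succ_pos k) hD
        exact_mod_cast this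
      have hlt : ∀ j ∈ t, (1 : ℚ) / (x j : ℚ) < 1 / (((k + 1) * D : ℕ) : ℚ) := by
        intro j hj
        have h1 : (((k + 1) * D : ℕ) : ℚ) < (x j : ℚ) := by exact_mod_cast hbig j hj
        exact one_div_lt_one_div_of_lt h2 h1
      have hs : ∑ j ∈ t, (1 : ℚ) / (x j : ℚ) < ∑ j ∈ t, 1 / (((k + 1) * D : ℕ) : ℚ) :=
        Finset.sum_lt_sum_of_nonempty ⟨i, hi⟩ hlt
      rw [Finset.sum_const, ht, hsum, nsmul_eq_mul] at hs
      have h3 : ((k + 1 : ℕ) : ℚ) * (1 / (((k + 1) * D : ℕ) : ℚ)) = 1 / (D : ℚ) := by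
        have hk1 : ((k + 1 : ℕ) : ℚ) ≠ 0 := by exact_mod_cast (Nat.succ_pos k).ne'
        push_cast
        push_cast at hk1
        field_simp
      rw [h3] at hs
      have h4 : (1 : ℚ) / (D : ℚ) ≤ (c : ℚ) / (D : ℚ) := by
        apply div_le_div_of_nonneg_right _ hDq.le
        exact_mod_cast hc
      exact absurd hs (not_lt.2 h4)
    obtain ⟨i0, hi0, hx0⟩ := hex
    by_cases hii : i = i0
    · rw [hii]
      exact le_trans hx0 (le_max_left _ _)
    · have hi' : i ∈ t.erase i0 := Finset.mem_erase.2 ⟨hii, hi⟩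
      have hcard : (t.erase i0).card = k := by
        rw [Finset.card_erase_of_mem hi0, ht]
        rfl
      have hx0pos : 0 < x i0 := hpos i0 hi0
      have hx0q : (0 : ℚ) < (x i0 : ℚ) := by exact_mod_cast hx0pos
      have hsplit : ∑ j ∈ t.erase i0, (1 : ℚ) / (x j : ℚ)
          = (c : ℚ) / (D : ℚ) - 1 / (x i0 : ℚ) := by
        rw [← hsum, ← Finset.add_sum_erase t _ hi0]
        ring
      have hpos' : (0 : ℚ) < ∑ j ∈ t.erase i0, (1 : ℚ) / (x j : ℚ) :=
        Finset.sum_pos (fun j hj => hterm j (Finset.mem_of_mem_erase hj)) ⟨i, hi'⟩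
      have hrew : (c : ℚ) / (D : ℚ) - 1 / (x i0 : ℚ)
          = ((c : ℚ) * (x i0 : ℚ) - (D : ℚ)) / ((D : ℚ) * (x i0 : ℚ)) := by
        field_simp
      have hnum : (0 : ℚ) < (c : ℚ) * (x i0 : ℚ) - (D : ℚ) := by
        rw [hsplit, hrew] at hpos'
        have hden : (0 : ℚ) < (D : ℚ) * (x i0 : ℚ) := mul_pos hDq hx0q
        exact (div_pos_iff_of_pos_right hden).1 hpos'
      have hlt : D < c * x i0 := by
        have : (D : ℚ) < (c : ℚ) * (x i0 : ℚ) := by linarith
        exact_mod_cast this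
      have hb := hN' (D * x i0) ι (t.erase i0) x hcard
        (fun j hj => hpos j (Finset.mem_of_mem_erase hj))
        ⟨c * x i0 - D, Nat.sub_pos_of_lt hlt, by
          rw [hsplit, hrew, Nat.cast_sub hlt.le]
          push_cast
          rfl⟩ i hi'
      refine le_trans hb (le_trans ?_ (le_max_right _ _))
      apply Finset.le_sup (f := N')
      rw [Finset.mem_range]
      have h5 : D * x i0 ≤ D * ((k + 1) * D) := Nat.mul_le_mul_left D hx0
      have h6 : D * ((k + 1) * D) = (k + 1) * D * D := by ring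
      omega

/-- Landau: the order of a finite group is bounded in terms of its class number -/
theorem landau (k : ℕ) : ∃ N : ℕ, ∀ (G : Type u) [Group G] [Finite G],
    Nat.card (ConjClasses G) ≤ k → Nat.card G ≤ N := by
  classical
  choose N' hN' using fun k' : ℕ => egypt_bound.{u} k' 1
  refine ⟨(Finset.range (k + 1)).sup N', ?_⟩
  intro G _ _ hk
  have := Fintype.ofFinite G
  have := Fintype.ofFinite (ConjClasses G)
  choose rep hrep using (ConjClasses.mk_surjective (α := G))
  obtain ⟨x, hx⟩ : ∃ x : ConjClasses G → ℕ,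
      ∀ K, x K = Nat.card (Subgroup.centralizer ({rep K} : Set G)) := ⟨_, fun _ => rfl⟩
  have hxpos : ∀ K, 0 < x K := fun K => by rw [hx]; exact Nat.card_pos
  have hmul : ∀ K : ConjClasses G, Nat.card K.carrier * x K = Nat.card G := by
    intro K
    have := helper12.card_class_mul_card_centralizer (rep K)
    rw [hrep K] at this
    rw [hx]
    exact this
  have hG0 : (Nat.card G : ℚ) ≠ 0 := by exact_mod_cast (Nat.card_pos (α := G)).ne'
  have hsum : ∑ K : ConjClasses G, (1 : ℚ) / (x K : ℚ) = ((1 : ℕ) : ℚ) / ((1 : ℕ) : ℚ) := by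
    have h1 : ∀ K : ConjClasses G,
        (1 : ℚ) / (x K : ℚ) = (Nat.card K.carrier : ℚ) / (Nat.card G : ℚ) := by
      intro K
      have hx0 : (x K : ℚ) ≠ 0 := by exact_mod_cast (hxpos K).ne'
      rw [div_eq_div_iff hx0 hG0, one_mul]
      exact_mod_cast (hmul K).symm
    rw [Finset.sum_congr rfl (fun K _ => h1 K), ← Finset.sum_div]
    have h2 : ∑ K : ConjClasses G, (Nat.card K.carrier : ℚ) = (Nat.card G : ℚ) := by
      have h3 := Group.sum_card_conj_classes_eq_card G
      rw [finsum_eq_sum_of_fintype] at h3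
      rw [← h3]
      push_cast
      refine Finset.sum_congr rfl (fun K _ => ?_)
      rw [Nat.card_coe_set_eq]
    rw [h2, div_self hG0]
    simp
  have hb := hN' (Nat.card (ConjClasses G)) (ConjClasses G) Finset.univ x
    (by rw [Finset.card_univ, Nat.card_eq_fintype_card]) (fun K _ => hxpos K)
    ⟨1, one_pos, hsum⟩ (ConjClasses.mk 1) (Finset.mem_univ _)
  have hone : x (ConjClasses.mk 1) = Nat.card G := by
    have h3 := hmul (ConjClasses.mk (1 : G))
    have h4 : Nat.card (ConjClasses.mk (1 : G)).carrier = 1 := by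
      have h5 : (ConjClasses.mk (1 : G)).carrier = {1} := by
        ext a
        rw [ConjClasses.mem_carrier_iff_mk_eq, ConjClasses.mk_eq_mk_iff_isConj,
          Set.mem_singleton_iff, isConj_one_left]
      rw [h5]
      simp
    rw [h4, one_mul] at h3
    exact h3
  rw [hone] at hb
  exact le_trans hb (Finset.le_sup (f := N') (Finset.mem_range.2 (by omega)))

/-- if all irreducible characters lie in the principal block, there are at most `|P|^2` of them -/
theorem irr_count_le {G : Type u} [Group G] [Fintype G] (p : ℕ) [Fact p.Prime]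
    (M : Ideal AlgInt) (hM : IsPModular p M)
    (hall : ∀ χ : IrrCharacter G, χ ∈ principalBlock M G) :
    Nat.card (IrrCharacter G) ≤ (p ^ (Nat.card G).factorization p) ^ 2 := by
  classical
  have hp : p.Prime := Fact.out
  haveI hMp : M.IsPrime := hM.2.1.isPrime
  have hMtop : M ≠ ⊤ := hMp.ne_top
  have := Fintype.ofFinite (IrrCharacter G)
  obtain ⟨q, hq⟩ : ∃ q : ℕ, q = p ^ (Nat.card G).factorization p := ⟨_, rfl⟩
  have hqpos : 0 < q := by rw [hq]; exact pow_pos hp.pos _
  have hq0 : (q : ℂ) ≠ 0 := by exact_mod_cast hqpos.ne'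
  obtain ⟨f, hf⟩ : ∃ f : G → ℂ, f = pregInd G p := ⟨_, rfl⟩
  have hfcf : IsClassFunction G f := by rw [hf]; exact pregInd_isClassFunction p
  have hGpos : 0 < Nat.card G := Nat.card_pos
  have hG0 : (Nat.card G : ℂ) ≠ 0 := by exact_mod_cast hGpos.ne'
  have hfreal : ∀ x, conj (f x) = f x := by
    intro x
    rw [hf]; unfold pregInd
    split_ifs <;> simp
  have hfidem : ∀ x, f x * f x = f x := by
    intro x
    rw [hf]; unfold pregInd
    split_ifs <;> simp
  obtain ⟨m, hm⟩ : ∃ m : IrrCharacter G → ℂ, ∀ χ, m χ = classInner f (χ : G → ℂ) :=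
    ⟨_, fun _ => rfl⟩
  -- integrality
  have hint : ∀ χ : IrrCharacter G, ∃ c : ℤ, (q : ℂ) * m χ = (c : ℂ) := by
    intro χ
    have hχc : IsCharacter G (χ : G → ℂ) := irr_isCharacter χ.2
    obtain ⟨α, β, hα, hβ, hαβ⟩ :=
      isGeneralizedCharacter_pregular_cut p (helper1.isCharacter_conj hχc)
    have hone : IsCharacter G (fun _ : G => (1 : ℂ)) := irr_isCharacter isIrrCharacter_one
    obtain ⟨n₁, hn₁⟩ := helper12.classInner_char_nat hα hone
    obtain ⟨n₂, hn₂⟩ := helper12.classInner_char_nat hβ hone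
    refine ⟨(n₁ : ℤ) - (n₂ : ℤ), ?_⟩
    have h1 : classInner (α - β) (fun _ : G => (1 : ℂ)) = (n₁ : ℂ) - (n₂ : ℂ) := by
      rw [classInner_sub_left, hn₁, hn₂]
    rw [← hαβ] at h1
    push_cast
    rw [← h1, hm]
    unfold classInner
    rw [mul_left_comm, Finset.mul_sum]
    congr 1
    refine Finset.sum_congr rfl (fun x _ => ?_)
    rw [map_one, mul_one, hf]
    unfold pregInd
    by_cases hd : p ∣ orderOf x
    · simp only [if_pos hd]
      ring
    · simp only [if_neg hd]
      rw [hq]; push_cast; ring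
  -- non-vanishing
  have hne : ∀ χ : IrrCharacter G, m χ ≠ 0 := by
    intro χ h0
    have h1 := omegaFn_pregInd_not_mem p M hM χ (hall χ)
    apply h1
    have h2 : omegaFn (χ : G → ℂ) (pregInd G p) = 0 := by
      unfold omegaFn
      have h3 : ∑ h : G, pregInd G p h * (χ : G → ℂ) h = 0 := by
        have h4 : conj (m χ) = 0 := by rw [h0, map_zero]
        rw [hm] at h4
        unfold classInner at h4
        rw [map_mul, map_sum] at h4
        have h5 : conj ((Nat.card G : ℂ)⁻¹) ≠ 0 := by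
          rw [map_inv₀, map_natCast]; exact inv_ne_zero hG0
        have h6 := (mul_eq_zero.1 h4).resolve_left h5
        rw [← h6]
        refine Finset.sum_congr rfl (fun x _ => ?_)
        rw [map_mul, Complex.conj_conj, hfreal, hf]
      rw [h3, zero_div]
    rw [h2]
    exact memLocalIdeal_zero hMtop
  -- Parseval
  have hexp : f = ∑ χ : IrrCharacter G, m χ • (χ : G → ℂ) := by
    simp_rw [hm]
    exact classFunction_expansion hfcf
  have hsym : ∀ χ : IrrCharacter G, classInner (χ : G → ℂ) f = conj (m χ) := by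
    intro χ
    rw [hm]
    unfold classInner
    rw [map_mul, map_inv₀, map_natCast, map_sum]
    congr 1
    refine Finset.sum_congr rfl (fun x _ => ?_)
    rw [map_mul, Complex.conj_conj, hfreal, mul_comm]
  have hpars : classInner f f = ∑ χ : IrrCharacter G, m χ * conj (m χ) := by
    have h1 : classInner f f = classInner (∑ χ : IrrCharacter G, m χ • (χ : G → ℂ)) f := by
      rw [← hexp]
    rw [h1, classInner_sum_left]
    refine Finset.sum_congr rfl (fun χ _ => ?_)
    rw [classInner_smul_left, hsym]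
  obtain ⟨N', hN'⟩ : ∃ N' : ℕ,
      N' = (Finset.univ.filter (fun x : G => ¬ p ∣ orderOf x)).card := ⟨_, rfl⟩
  have hff : classInner f f = (N' : ℂ) / (Nat.card G : ℂ) := by
    unfold classInner
    have h1 : ∑ g : G, f g * conj (f g) = ∑ g : G, pregInd G p g * (fun _ : G => (1 : ℂ)) g := by
      refine Finset.sum_congr rfl (fun x _ => ?_)
      rw [hfreal, hfidem, mul_one, hf]
    rw [h1, sum_pregInd_mul, Finset.sum_const, nsmul_eq_mul, mul_one, ← hN', div_eq_inv_mul]
  have hN'le : N' ≤ Nat.card G := by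
    rw [hN', Nat.card_eq_fintype_card]
    exact Finset.card_le_univ _
  choose c hc using hint
  have hcne : ∀ χ, c χ ≠ 0 := by
    intro χ h0
    have h1 := hc χ
    rw [h0, Int.cast_zero] at h1
    exact hne χ ((mul_eq_zero.1 h1).resolve_left hq0)
  have hmc : ∀ χ, m χ = (c χ : ℂ) / (q : ℂ) := by
    intro χ
    rw [← hc χ]
    field_simp
  have hreal : ∀ χ, conj (m χ) = m χ := by
    intro χ
    rw [hmc, map_div₀, map_intCast, map_natCast]
  have hsumsq : (∑ χ : IrrCharacter G, (c χ) ^ 2) * (Nat.card G : ℤ) = (q : ℤ) ^ 2 * (N' : ℤ) := by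
    have h1 : (((∑ χ : IrrCharacter G, (c χ) ^ 2 : ℤ)) : ℂ) * (Nat.card G : ℂ)
        = (q : ℂ) ^ 2 * (N' : ℂ) := by
      push_cast
      have h2 : ∀ χ, ((c χ : ℂ)) ^ 2 = (q : ℂ) ^ 2 * (m χ * conj (m χ)) := by
        intro χ
        rw [hreal, ← hc χ]; ring
      rw [Finset.sum_congr rfl (fun χ _ => h2 χ), ← Finset.mul_sum, ← hpars, hff]
      field_simp
    exact_mod_cast h1
  have hcount : (Fintype.card (IrrCharacter G) : ℤ) ≤ ∑ χ : IrrCharacter G, (c χ) ^ 2 := by
    have h1 : ∀ χ, (1 : ℤ) ≤ (c χ) ^ 2 := by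
      intro χ
      have h2 : 0 < (c χ) ^ 2 := by
        have := hcne χ
        positivity
      linarith
    calc (Fintype.card (IrrCharacter G) : ℤ) = ∑ χ : IrrCharacter G, (1 : ℤ) := by simp
      _ ≤ _ := Finset.sum_le_sum (fun χ _ => h1 χ)
  have hfinal : ∑ χ : IrrCharacter G, (c χ) ^ 2 ≤ (q : ℤ) ^ 2 := by
    have hGposZ : (0 : ℤ) < (Nat.card G : ℤ) := by exact_mod_cast hGpos
    have h1 : (q : ℤ) ^ 2 * (N' : ℤ) ≤ (q : ℤ) ^ 2 * (Nat.card G : ℤ) := by
      apply mul_le_mul_of_nonneg_left _ (by positivity)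
      exact_mod_cast hN'le
    rw [← hsumsq] at h1
    exact le_of_mul_le_mul_right h1 hGposZ
  rw [Nat.card_eq_fintype_card, ← hq]
  have h7 : (Fintype.card (IrrCharacter G) : ℤ) ≤ ((q ^ 2 : ℕ) : ℤ) := by
    push_cast
    exact le_trans hcount hfinal
  exact_mod_cast h7

/-- Let p be a prime and a a natural number. There is a bound N such that every finite group whose Sylow p-subgroups have order p^a and whose only p-block (relative to a maximal ideal of the algebraic integers containing p) is the principal block has order at most N. -/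
theorem result (p : ℕ) [Fact p.Prime] (a : ℕ) : ∃ N : ℕ, ∀ (G : Type u) [Group G] [Finite G] (M : Ideal Cfsg.AlgInt), Cfsg.IsPModular p M → (Nat.card G).factorization p = a → (∀ B : Set (Cfsg.IrrCharacter G), Cfsg.IsPBlock M B → B = Cfsg.principalBlock M G) → Nat.card G ≤ N := by
  obtain ⟨N, hN⟩ := landau.{u} ((p ^ a) ^ 2)
  refine ⟨N, ?_⟩
  intro G _ _ M hM ha hB
  classical
  have := Fintype.ofFinite G
  have hMp : M.IsPrime := hM.2.1.isPrime
  have hall : ∀ χ : IrrCharacter G, χ ∈ principalBlock M G := by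
    intro χ
    have h1 : blockOf M (χ : G → ℂ) = principalBlock M G := hB _ ⟨χ, rfl⟩
    rw [← h1]
    exact sameBlock_refl M hMp.ne_top _
  have h2 := irr_count_le p M hM hall
  rw [ha] at h2
  apply hN G
  rw [← card_irr_eq_card_conjClasses]
  exact h2

end Cfsg.Agent.S4718
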