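import Cfsg.Statements.S4723
import Mathlib
import Cfsg.Agent.Lib_helper1_HtZeroInertia

set_option autoImplicit false
set_option linter.style.haveILetI false
set_option linter.unusedVariables false
open Cfsg

namespace Cfsg.Agent.S4723

/-- Let p be a prime, M a maximal ideal of the algebraic integers containing p, H a normal subgroup of the finite group G and b a p-block of H. Let T be the stabilizer of b in G. Then b contains a character θ of height zero whose own stabilizer in G (the elements g with θ(g h g⁻¹) = θ(h) for all h ∈ H) has index prime to p in T, i.e. contains a Sylow p-subgroup of T. -/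
theorem result {G : Type*} [Group G] [Finite G] (p : ℕ) [Fact p.Prime] (M : Ideal Cfsg.AlgInt) (hM : Cfsg.IsPModular p M) (H : Subgroup G) [H.Normal] (b : Set (Cfsg.IrrCharacter ↥H)) (hb : Cfsg.IsPBlock M b) (T : Subgroup G) (hT : (∀ g : G, g ∈ T ↔ ∀ θ ∈ b, ∀ θ' : Cfsg.IrrCharacter ↥H, (∀ h h' : ↥H, (h' : G) = g * h * g⁻¹ → (θ' : ↥H → ℂ) h' = (θ : ↥H → ℂ) h) → θ' ∈ b)) : ∃ θ ∈ b, Cfsg.blockHeight p b (θ : ↥H → ℂ) = 0 ∧ ∃ S : Subgroup G, S ≤ T ∧ (∀ g : G, g ∈ S ↔ (g ∈ T ∧ ∀ h h' : ↥H, (h' : G) = g * h * g⁻¹ → (θ : ↥H → ℂ) h' = (θ : ↥H → ℂ) h)) ∧ ¬ p ∣ S.relIndex T := by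
  classical
  have := Fintype.ofFinite G
  haveI : Fintype H := Fintype.ofFinite _
  haveI : Fintype T := Fintype.ofFinite _
  haveI hMp : M.IsPrime := hM.2.1.isPrime
  have hHn : H.Normal := inferInstance
  have hT' : ∀ g ∈ T, ∀ θ ∈ b, ∀ θ' : IrrCharacter H,
      (∀ n : H, (θ' : H → ℂ) n = (θ : H → ℂ) ⟨g * n * g⁻¹, hHn.conj_mem n n.2 g⟩) → θ' ∈ b := by
    intro g hg θ hθ θ' h
    have hg' := (hT g⁻¹).1 (T.inv_mem hg)
    apply hg' θ hθ θ'
    intro x x' hx'
    rw [h x']
    refine congrArg (θ : H → ℂ) (Subtype.ext ?_)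
    show g * (x' : G) * g⁻¹ = (x : G)
    rw [hx']; group
  have hHT : H ≤ T := by
    intro h₀ hh₀
    rw [hT]
    intro θ hθ θ' h
    have hcl := helper24.char_isClassFunction (helper24.irr_isCharacter θ.2)
    have : θ' = θ := by
      apply Subtype.ext
      funext x
      have h1 := h ((⟨h₀, hh₀⟩ : H)⁻¹ * x * ⟨h₀, hh₀⟩) x (by
        simp only [Subgroup.coe_mul, Subgroup.coe_inv]
        group)
      rw [h1]
      have := hcl x (⟨h₀, hh₀⟩ : H)⁻¹
      rw [inv_inv] at this
      exact this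
    rw [this]; exact hθ
  have := Fintype.ofFinite ↥(H.subgroupOf T)
  have hN' : (H.subgroupOf T).Normal := Subgroup.normal_subgroupOf
  obtain ⟨e, he⟩ : ∃ e : ↥(H.subgroupOf T) ≃* ↥H, e = Subgroup.subgroupOfEquivOfLe hHT :=
    ⟨_, rfl⟩
  have hecoe : ∀ n : ↥(H.subgroupOf T), ((e n : H) : G) = ((n : T) : G) := by
    intro n
    rw [he]
    rfl
  have hc' := helper24.isPBlock_transportSet (M := M) e b hb
  have hinv' : ∀ g : T, ∀ φ ∈ helper24.transportSet e b, ∀ φ' : IrrCharacter ↥(H.subgroupOf T),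
      (∀ n : ↥(H.subgroupOf T), (φ' : ↥(H.subgroupOf T) → ℂ) n
        = (φ : ↥(H.subgroupOf T) → ℂ) ⟨g * n * g⁻¹, hN'.conj_mem n n.2 g⟩) →
      φ' ∈ helper24.transportSet e b := by
    rintro g φ ⟨θ, hθ, hφ⟩ φ' h
    have hθ' : helper24.irrTransport e.symm φ' ∈ b := by
      apply hT' (g : G) g.2 θ hθ
      intro n
      rw [helper24.irrTransport_apply, h (e.symm n), hφ]
      refine congrArg (θ : H → ℂ) (Subtype.ext ?_)
      rw [hecoe]
      show (g : G) * (((e.symm n : ↥(H.subgroupOf T)) : T) : G) * (g : G)⁻¹ = _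
      rw [← hecoe (e.symm n), MulEquiv.apply_symm_apply]
    refine ⟨helper24.irrTransport e.symm φ', hθ', ?_⟩
    funext x
    rw [helper24.irrTransport_apply, MulEquiv.symm_apply_apply]
  obtain ⟨φ, hφb, hφ0, hφI⟩ :=
    helper1.exists_height_zero_inertia (H.subgroupOf T) (helper24.transportSet e b) p hM hc' hinv'
  obtain ⟨θ, hθ, hφθ⟩ := hφb
  have hφeq : φ = helper24.irrTransport e θ := Subtype.ext hφθ
  refine ⟨θ, hθ, ?_, ?_⟩
  · rw [hφeq, helper1.blockHeight_transportSet] at hφ0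
    exact hφ0
  · obtain ⟨I, hI⟩ : ∃ I : Subgroup T, I = helper22.inertia (H.subgroupOf T) φ := ⟨_, rfl⟩
    rw [← hI] at hφI
    refine ⟨I.map T.subtype, Subgroup.map_subtype_le _, ?_, ?_⟩
    · intro g
      constructor
      · rintro ⟨t, ht, rfl⟩
        refine ⟨t.2, ?_⟩
        intro h h' hh'
        rw [SetLike.mem_coe, hI, helper22.mem_inertia] at ht
        have hhT : (h : G) ∈ T := hHT h.2
        have h1 := congrFun ht ⟨⟨(h : G), hhT⟩, by
          rw [Subgroup.mem_subgroupOf]; exact h.2⟩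
        rw [helper8.conjFunN_apply, hφθ] at h1
        simp only at h1
        convert h1 using 2
        · apply Subtype.ext
          rw [hecoe]
          exact hh'
        · apply Subtype.ext
          rw [hecoe]
      · rintro ⟨hgT, hg⟩
        refine ⟨⟨g, hgT⟩, ?_, rfl⟩
        rw [SetLike.mem_coe, hI, helper22.mem_inertia]
        funext n
        rw [helper8.conjFunN_apply, hφθ]
        simp only
        apply hg
        rw [hecoe, hecoe]
        rfl
    · show ¬ p ∣ ((I.map T.subtype).subgroupOf T).index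
      have : (I.map T.subtype).subgroupOf T = I :=
        Subgroup.comap_map_eq_self_of_injective (Subgroup.subtype_injective _) _
      rw [this]
      exact hφI

end Cfsg.Agent.S4723
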