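import Cfsg.Statements.S4726
import Mathlib
import Cfsg.Agent.Lib_helper1_IndCent

set_option autoImplicit false
set_option linter.style.haveILetI false
set_option linter.unusedVariables false
open Cfsg

namespace Cfsg.Agent.S4726

/-- Let p be a prime, M a maximal ideal of the algebraic integers containing p, H a subgroup of the finite group G and b a p-block of H with defect group D₀ such that C_G(D₀) ≤ H. Then b induces a block of G, and for every block B of G induced by b there is a defect group D of B with Z(D) ≤ Z(D₀) ≤ D₀ ≤ D (as subgroups of G). In particular, if the defect groups of B are abelian then D₀ is a defect group of B. -/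
theorem result {G : Type*} [Group G] [Finite G] (p : ℕ) [Fact p.Prime] (M : Ideal Cfsg.AlgInt) (hM : Cfsg.IsPModular p M) (H : Subgroup G) (b : Set (Cfsg.IrrCharacter ↥H)) (hb : Cfsg.IsPBlock M b) (D₀ : Subgroup ↥H) (hD₀ : Cfsg.IsDefectGroup p M b D₀) (hC : Subgroup.centralizer ((D₀.map H.subtype : Subgroup G) : Set G) ≤ H) : Cfsg.InducedBlockDefined M H b ∧ ∀ B : Set (Cfsg.IrrCharacter G), Cfsg.IsInducedBlock M H b B → (∃ D : Subgroup G, Cfsg.IsDefectGroup p M B D ∧ (Subgroup.center ↥D).map D.subtype ≤ ((Subgroup.center ↥D₀).map D₀.subtype).map H.subtype ∧ ((Subgroup.center ↥D₀).map D₀.subtype).map H.subtype ≤ D₀.map H.subtype ∧ D₀.map H.subtype ≤ D) ∧ (∀ D : Subgroup G, Cfsg.IsDefectGroup p M B D → IsMulCommutative ↥D → Cfsg.IsDefectGroup p M B (D₀.map H.subtype)) := by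
  classical
  haveI : Fintype G := Fintype.ofFinite G
  haveI : Fintype ↥H := Fintype.ofFinite _
  have hMp : M.IsPrime := hM.2.1.isPrime
  obtain ⟨B₁, hindH, P₁, hP₁, hDP₁, hcent⟩ := helper1.induced_cent_main p M hM H b hb D₀ hD₀ hC
  refine ⟨⟨B₁, hindH⟩, ?_⟩
  intro B hBind
  have hBB : B = B₁ := helper24.induced_block_unique H hBind hindH
  rw [hBB]
  refine ⟨⟨P₁, hP₁, ?_, ?_, hDP₁⟩, ?_⟩
  · rintro _ ⟨z', hz', rfl⟩
    have hzc : (P₁.subtype z') ∈ Subgroup.centralizer ((D₀.map H.subtype : Subgroup G) : Set G) := by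
      rw [Subgroup.mem_centralizer_iff]
      intro h hh
      have h1 := Subgroup.mem_center_iff.1 hz' ⟨h, hDP₁ hh⟩
      exact congrArg Subtype.val h1
    have hzD : (P₁.subtype z') ∈ D₀.map H.subtype := hcent ⟨z'.2, hzc⟩
    obtain ⟨d, hd, hdz⟩ := hzD
    refine ⟨d, ⟨⟨d, hd⟩, ?_, rfl⟩, hdz⟩
    show (⟨d, hd⟩ : ↥D₀) ∈ Subgroup.center ↥D₀
    rw [Subgroup.mem_center_iff]
    intro y
    apply Subtype.ext
    apply Subtype.ext
    show (((y : ↥D₀) : ↥H) : G) * (d : G) = (d : G) * (((y : ↥D₀) : ↥H) : G)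
    have hyD : (((y : ↥D₀) : ↥H) : G) ∈ D₀.map H.subtype := ⟨(y : ↥H), y.2, rfl⟩
    have h1 := Subgroup.mem_center_iff.1 hz' ⟨_, hDP₁ hyD⟩
    have h2 := congrArg Subtype.val h1
    have hdz' : (d : G) = (z' : G) := hdz
    rw [hdz']
    exact h2
  · apply Subgroup.map_mono
    rintro _ ⟨y, -, rfl⟩
    exact y.2
  · intro D' hD' hcomm
    obtain ⟨x, hx⟩ := helper24.defectGroups_conj p hM B₁ hindH.2.1 hD' hP₁
    have hP₁comm : ∀ a ∈ P₁, ∀ c ∈ P₁, a * c = c * a := by
      intro a ha c hc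
      rw [← hx] at ha hc
      obtain ⟨a', ha', rfl⟩ := ha
      obtain ⟨c', hc', rfl⟩ := hc
      have h1 := hcomm.is_comm.comm (⟨a', ha'⟩ : ↥D') ⟨c', hc'⟩
      have h2 : a' * c' = c' * a' := congrArg Subtype.val h1
      show (MulAut.conj x) a' * (MulAut.conj x) c' = (MulAut.conj x) c' * (MulAut.conj x) a'
      rw [← map_mul, ← map_mul, h2]
    have hP₁le : P₁ ≤ D₀.map H.subtype := by
      intro a ha
      apply hcent
      refine ⟨ha, ?_⟩
      show a ∈ Subgroup.centralizer ((D₀.map H.subtype : Subgroup G) : Set G)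
      rw [Subgroup.mem_centralizer_iff]
      intro h hh
      exact hP₁comm h (hDP₁ hh) a ha
    have : D₀.map H.subtype = P₁ := le_antisymm hDP₁ hP₁le
    rw [this]
    exact hP₁

end Cfsg.Agent.S4726
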