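import Cfsg.Statements.S4729
import Cfsg.Agent.Lib_helper23_Block
import Cfsg.Agent.Lib_helper24_LocalIdeal
import Cfsg.Agent.Lib_helper24_LocalRing
import Cfsg.Agent.Lib_helper24_BlockBasic
import Cfsg.Agent.Lib_helper24_CharBasic
import Cfsg.Agent.Lib_helper24_CharValues

set_option autoImplicit false
open Cfsg

namespace Cfsg.Agent.S4729

open Cfsg.Agent.helper24

universe u

set_option linter.style.haveILetI false
set_option linter.unusedVariables false
set_option linter.unusedSectionVars false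

theorem pow_apply_eig {V : Type*} [AddCommGroup V] [Module ℂ V]
    (f : Module.End ℂ V) (μ : ℂ) (k : ℕ) {v : V}
    (hv : v ∈ f.eigenspace μ) : (f ^ k) v = μ ^ k • v := by
  induction k with
  | zero => simp
  | succ k ih =>
    rw [pow_succ, Module.End.mul_apply, Module.End.mem_eigenspace_iff.mp hv, map_smul, ih,
      smul_smul, pow_succ, mul_comm]

theorem eig_data {V : Type*} [AddCommGroup V] [Module ℂ V] [FiniteDimensional ℂ V]
    (f : Module.End ℂ V) (N : ℕ) (hN : 0 < N) (hf : f ^ N = 1) :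
    ∃ (S : Finset ℂ) (m : ℂ → ℕ), (∀ μ ∈ S, μ ^ N = 1) ∧
      (∀ k : ℕ, LinearMap.trace ℂ V (f ^ k) = ∑ μ ∈ S, (m μ : ℂ) * μ ^ k) ∧
      LinearMap.det f = ∏ μ ∈ S, μ ^ m μ := by
  classical
  have hsep : (Polynomial.X ^ N - Polynomial.C (1:ℂ)).Separable :=
    Polynomial.separable_X_pow_sub_C (1:ℂ) (by exact_mod_cast hN.ne') one_ne_zero
  have hss : f.IsSemisimple := by
    refine Module.End.isSemisimple_of_squarefree_aeval_eq_zero hsep.squarefree ?_
    simp [hf]
  have htop := hss.iSup_eigenspace_eq_top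
  have hind := f.eigenspaces_iSupIndep
  have hds := DirectSum.isInternal_submodule_of_iSupIndep_of_iSup_eq_top hind htop
  have hfin : {μ | f.eigenspace μ ≠ ⊥}.Finite := WellFoundedGT.finite_ne_bot_of_iSupIndep hind
  have hmaps : ∀ (k : ℕ) (μ : ℂ), Set.MapsTo (f ^ k) (f.eigenspace μ) (f.eigenspace μ) := by
    intro k μ v hv
    have hv' : v ∈ f.eigenspace μ := hv
    show (f ^ k) v ∈ f.eigenspace μ
    rw [pow_apply_eig f μ k hv']
    exact Submodule.smul_mem _ _ hv'
  refine ⟨hfin.toFinset, fun μ => Module.finrank ℂ (f.eigenspace μ), ?_, ?_, ?_⟩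
  · intro μ hμ
    rw [Set.Finite.mem_toFinset] at hμ
    obtain ⟨v, hv, hv0⟩ := (Submodule.ne_bot_iff _).mp hμ
    have h1 := pow_apply_eig f μ N hv
    rw [hf, Module.End.one_apply] at h1
    have h2 : (μ ^ N - 1) • v = 0 := by rw [sub_smul, one_smul, ← h1, sub_self]
    rcases smul_eq_zero.mp h2 with h | h
    · exact sub_eq_zero.mp h
    · exact absurd h hv0
  · intro k
    rw [LinearMap.trace_eq_sum_trace_restrict' hds hfin (hmaps k)]
    refine Finset.sum_congr rfl fun μ _ => ?_
    have : (f ^ k).restrict (hmaps k μ)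
        = (μ ^ k) • (LinearMap.id : f.eigenspace μ →ₗ[ℂ] f.eigenspace μ) := by
      ext v
      exact pow_apply_eig f μ k v.2
    rw [this, map_smul, LinearMap.trace_id, smul_eq_mul, mul_comm]
  · rw [Module.End.det_eq_prod_roots_charpoly_of_splits (IsAlgClosed.splits _)]
    rw [Finset.prod_multiset_count]
    have hS : f.charpoly.roots.toFinset = hfin.toFinset := by
      ext μ
      rw [Multiset.mem_toFinset, Polynomial.mem_roots (LinearMap.charpoly_monic f).ne_zero,
        ← Module.End.hasEigenvalue_iff_isRoot_charpoly, Set.Finite.mem_toFinset,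
        Module.End.hasEigenvalue_iff]
      rfl
    rw [hS]
    refine Finset.prod_congr rfl fun μ _ => ?_
    congr 1
    rw [Polynomial.count_roots, ← LinearMap.finrank_maxGenEigenspace_eq,
      (Module.End.isFinitelySemisimple_iff_isSemisimple.mpr hss).maxGenEigenspace_eq_eigenspace]

theorem power_sum_one {k : Type*} [Field k] {ι : Type*} [DecidableEq ι] (S : Finset ι)
    (v : ι → k) (c : ι → k) (n : k)
    (hinj : ∀ a ∈ S, ∀ b ∈ S, v a = v b → a = b)
    (hsum : ∀ j : ℕ, ∑ a ∈ S, c a * v a ^ j = n) :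
    ∀ a ∈ S, v a ≠ 1 → c a = 0 := by
  classical
  have key : ∀ Q : Polynomial k, ∑ a ∈ S, c a * Q.eval (v a) = n * Q.eval 1 := by
    intro Q
    induction Q using Polynomial.induction_on' with
    | add p q hp hq =>
      simp only [Polynomial.eval_add, mul_add, Finset.sum_add_distrib, hp, hq]
    | monomial j t =>
      simp only [Polynomial.eval_monomial, one_pow, mul_one]
      calc ∑ a ∈ S, c a * (t * v a ^ j) = t * ∑ a ∈ S, c a * v a ^ j := by
            rw [Finset.mul_sum]; apply Finset.sum_congr rfl; intros; ring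
        _ = n * t := by rw [hsum]; ring
  intro a₀ ha₀ hne
  set L : Polynomial k := (Polynomial.X - Polynomial.C 1) *
    ∏ a ∈ S.erase a₀, (Polynomial.X - Polynomial.C (v a)) with hL
  have hk := key L
  have hL1 : L.eval 1 = 0 := by
    rw [hL, Polynomial.eval_mul]; simp
  rw [hL1, mul_zero] at hk
  have hLa : ∀ a ∈ S.erase a₀, L.eval (v a) = 0 := by
    intro a ha
    rw [hL, Polynomial.eval_mul, Polynomial.eval_prod, Finset.prod_eq_zero ha (by simp), mul_zero]
  rw [← Finset.add_sum_erase S _ ha₀, Finset.sum_eq_zero (fun a ha => by rw [hLa a ha, mul_zero]),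
    add_zero] at hk
  have hLa0 : L.eval (v a₀) ≠ 0 := by
    rw [hL, Polynomial.eval_mul, Polynomial.eval_prod]
    apply mul_ne_zero
    · simp only [Polynomial.eval_sub, Polynomial.eval_X, Polynomial.eval_C]
      exact sub_ne_zero.mpr hne
    · apply Finset.prod_ne_zero_iff.mpr
      intro a ha
      simp only [Polynomial.eval_sub, Polynomial.eval_X, Polynomial.eval_C]
      apply sub_ne_zero.mpr
      intro h
      exact (Finset.mem_erase.mp ha).1 (hinj a (Finset.mem_erase.mp ha).2 a₀ ha₀ h.symm)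
  rcases mul_eq_zero.mp hk with h | h
  · exact h
  · exact absurd h hLa0

theorem root_red_inj {p : ℕ} {M : Ideal AlgInt} (hM : IsPModular p M) {N : ℕ} (hN : ¬ p ∣ N)
    {a b : AlgInt} (ha : a ^ N = 1) (hb : b ^ N = 1) (hab : a - b ∈ M) : a = b := by
  by_contra hne
  have hNpos : 0 < N := by
    rcases Nat.eq_zero_or_pos N with h | h
    · exact absurd (h ▸ dvd_zero p) hN
    · exact h
  obtain ⟨N', rfl⟩ : ∃ N', N = N' + 1 := ⟨N - 1, by omega⟩
  set u : AlgInt := a * b ^ N' with hu
  have hbb : b * b ^ N' = 1 := by rw [← pow_succ']; exact hb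
  have hu1 : u - 1 ∈ M := by
    have : u - 1 = (a - b) * b ^ N' := by rw [hu, sub_mul, hbb]
    rw [this]; exact M.mul_mem_right _ hab
  have huN : u ^ (N' + 1) = 1 := by
    rw [hu, mul_pow, ha, one_mul, ← pow_mul, mul_comm, pow_mul, hb, one_pow]
  have hune : u - 1 ≠ 0 := by
    intro h
    apply hne
    have h1 : u = 1 := sub_eq_zero.mp h
    calc a = a * (b ^ N' * b) := by rw [mul_comm (b ^ N') b, hbb, mul_one]
      _ = u * b := by rw [hu, mul_assoc]
      _ = b := by rw [h1, one_mul]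
  have hgs : (∑ i ∈ Finset.range (N' + 1), u ^ i) * (u - 1) = 0 := by
    rw [geom_sum_mul, huN, sub_self]
  have hgs0 : (∑ i ∈ Finset.range (N' + 1), u ^ i) = 0 := by
    rcases mul_eq_zero.mp hgs with h | h
    · exact h
    · exact absurd h hune
  have hπu : Ideal.Quotient.mk M u = 1 := by
    rw [← map_one (Ideal.Quotient.mk M)]
    exact Ideal.Quotient.eq.mpr hu1
  have h3 : Ideal.Quotient.mk M ((N' + 1 : ℕ) : AlgInt) = 0 := by
    have := congrArg (Ideal.Quotient.mk M) hgs0
    rw [map_sum, map_zero] at this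
    simp only [map_pow, hπu, one_pow, Finset.sum_const, Finset.card_range, nsmul_eq_mul,
      mul_one] at this
    rw [map_natCast]
    exact this
  exact Cfsg.Agent.helper23.natCast_not_mem_of_not_dvd hM (N' + 1) hN
    (Ideal.Quotient.eq_zero_iff_mem.mp h3)

theorem key_trivial {G : Type u} [Group G] [Finite G] (p : ℕ) [Fact p.Prime] (M : Ideal AlgInt)
    (hM : IsPModular p M) (hperf : commutator G = ⊤) (P : Sylow p G) (χ : IrrCharacter G)
    (hχ : χ ∈ principalBlock M G)
    (hfaith : ∀ g : G, (χ : G → ℂ) g = (χ : G → ℂ) 1 → g = 1)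
    (hdeg : charDegree (χ : G → ℂ) < 2 * p) (x : G)
    (hx : x ∈ Subgroup.centralizer ((P : Subgroup G) : Set G)) (N : ℕ) (hN : ¬ p ∣ N)
    (hxN : x ^ N = 1) : x = 1 := by
  classical
  have hp : p.Prime := Fact.out
  haveI hMp : M.IsPrime := hM.2.1.isPrime
  have hMtop : M ≠ ⊤ := hMp.ne_top
  have hNpos : 0 < N := by
    rcases Nat.eq_zero_or_pos N with h | h
    · exact absurd (h ▸ dvd_zero p) hN
    · exact h
  have hχ1ne : (χ : G → ℂ) 1 ≠ 0 := irr_apply_one_ne_zero χ.2
  obtain ⟨n, ρ, hirr, hρ⟩ := χ.2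
  have hfin : Module.finrank ℂ (Fin n → ℂ) = n := Module.finrank_fin_fun ℂ
  have h1 : (χ : G → ℂ) 1 = n := by rw [← hρ, Representation.char_one, hfin]
  have hn : n < 2 * p := by rw [← charDegree_natCast _ n h1]; exact hdeg
  have hn0 : (n : ℂ) ≠ 0 := by rw [← h1]; exact hχ1ne
  have hfN : (ρ x) ^ N = 1 := by rw [← map_pow, hxN, map_one]
  obtain ⟨S, m, hS, htr, hdet⟩ := eig_data (ρ x) N hNpos hfN
  have hχk : ∀ k : ℕ, (χ : G → ℂ) (x ^ k) = ∑ μ ∈ S, (m μ : ℂ) * μ ^ k := by
    intro k
    rw [← htr k, ← hρ, ← map_pow]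
    rfl
  have hsum_m : ∑ μ ∈ S, m μ = n := by
    have h0 := hχk 0
    rw [pow_zero, h1] at h0
    simp only [pow_zero, mul_one] at h0
    have : ((∑ μ ∈ S, m μ : ℕ) : ℂ) = (n : ℂ) := by push_cast; exact h0.symm
    exact_mod_cast this
  have hloc : ∀ k : ℕ, MemLocalIdeal M ((n : ℂ) - (χ : G → ℂ) (x ^ k)) := by
    intro k
    have hxk : x ^ k ∈ Subgroup.centralizer ((P : Subgroup G) : Set G) := Subgroup.pow_mem _ hx k
    have hle : (P : Subgroup G) ≤ Subgroup.centralizer ({x ^ k} : Set G) := by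
      intro y hy
      rw [Subgroup.mem_centralizer_iff]
      intro h hh
      rw [Set.mem_singleton_iff] at hh
      subst hh
      exact ((Subgroup.mem_centralizer_iff.mp hxk) y hy).symm
    have hnd : ¬ p ∣ (Subgroup.centralizer ({x ^ k} : Set G)).index := by
      intro hd
      exact P.not_dvd_index (dvd_trans hd (Subgroup.index_dvd_of_le hle))
    have hsb := hχ (x ^ k)
    have hinv := memLocalRing_inv
      (memLocalRing_of_integral hMtop (isIntegral_algebraMap (R := ℤ) (A := ℂ)
        (x := ((Subgroup.centralizer ({x ^ k} : Set G)).index : ℤ))))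
      (by
        have := natCast_not_memLocalIdeal hM hnd
        simpa using this)
    have h6 := memLocalIdeal_mul_left hinv hsb
    have h7 := memLocalIdeal_mul_integral h6 (c := (n : ℂ))
      (by
        have := isIntegral_algebraMap (R := ℤ) (A := ℂ) (x := (n : ℤ))
        simpa using this)
    convert h7 using 1
    unfold centralChar
    rw [h1]
    have hidx : ((Subgroup.centralizer ({x ^ k} : Set G)).index : ℂ) ≠ 0 := by
      exact_mod_cast Subgroup.index_ne_zero_of_finite
    push_cast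
    field_simp
  have hint : ∀ μ ∈ S, IsIntegral ℤ μ := by
    intro μ hμ
    refine ⟨Polynomial.X ^ N - 1, Polynomial.monic_X_pow_sub_C 1 hNpos.ne', ?_⟩
    simp [hS μ hμ]
  let lift : ℂ → AlgInt := fun μ => if h : IsIntegral ℤ μ then ⟨μ, h⟩ else 0
  have hlift : ∀ μ ∈ S, ((lift μ : AlgInt) : ℂ) = μ := by
    intro μ hμ
    simp only [lift, dif_pos (hint μ hμ)]
  have hliftN : ∀ μ ∈ S, (lift μ) ^ N = 1 := by
    intro μ hμ
    apply Subtype.ext
    push_cast
    rw [hlift μ hμ]; exact hS μ hμ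
  have hzM : ∀ k : ℕ, (n : AlgInt) - ∑ μ ∈ S, (m μ : AlgInt) * (lift μ) ^ k ∈ M := by
    intro k
    apply mem_of_memLocalIdeal
    have : (((n : AlgInt) - ∑ μ ∈ S, (m μ : AlgInt) * (lift μ) ^ k : AlgInt) : ℂ)
        = (n : ℂ) - (χ : G → ℂ) (x ^ k) := by
      rw [hχk k]
      push_cast
      congr 1
      apply Finset.sum_congr rfl
      intro μ hμ
      rw [hlift μ hμ]
    rw [this]; exact hloc k
  haveI hMmax : M.IsMaximal := hM.2.1
  letI : Field (AlgInt ⧸ M) := Ideal.Quotient.field M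
  have hπsum : ∀ j : ℕ, ∑ μ ∈ S, ((m μ : ℕ) : AlgInt ⧸ M) * (Ideal.Quotient.mk M (lift μ)) ^ j
      = ((n : ℕ) : AlgInt ⧸ M) := by
    intro j
    have h := Ideal.Quotient.eq.mpr (hzM j)
    rw [map_sum, map_natCast] at h
    rw [h]
    apply Finset.sum_congr rfl
    intro μ _
    rw [map_mul, map_pow, map_natCast]
  have hps := power_sum_one S (fun μ => Ideal.Quotient.mk M (lift μ))
    (fun μ => ((m μ : ℕ) : AlgInt ⧸ M)) ((n : ℕ) : AlgInt ⧸ M)
    (by
      intro a ha b hb hab
      have h2 := Ideal.Quotient.eq.mp hab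
      have h3 := root_red_inj hM hN (hliftN a ha) (hliftN b hb) h2
      rw [← hlift a ha, ← hlift b hb, h3])
    hπsum
  have hpdvd : ∀ μ ∈ S, μ ≠ 1 → p ∣ m μ := by
    intro μ hμ hne
    have hv : Ideal.Quotient.mk M (lift μ) ≠ 1 := by
      intro h
      rw [← map_one (Ideal.Quotient.mk M)] at h
      have h2 := Ideal.Quotient.eq.mp h
      have h3 := root_red_inj hM hN (hliftN μ hμ) (one_pow N) h2
      apply hne
      rw [← hlift μ hμ, h3]; rfl
    have h4 := hps μ hμ hv
    by_contra hnd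
    apply Cfsg.Agent.helper23.natCast_not_mem_of_not_dvd hM (m μ) hnd
    apply Ideal.Quotient.eq_zero_iff_mem.mp
    rw [map_natCast]; exact h4
  have hχx : (χ : G → ℂ) x = n := by
    by_contra hne
    have hex : ∃ μ₀ ∈ S, m μ₀ ≠ 0 ∧ μ₀ ≠ 1 := by
      by_contra hno
      push_neg at hno
      apply hne
      have h5 := hχk 1
      rw [pow_one] at h5
      rw [h5]
      have h6 : ∀ μ ∈ S, (m μ : ℂ) * μ ^ 1 = (m μ : ℂ) := by
        intro μ hμ
        by_cases h0 : m μ = 0
        · rw [h0]; simp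
        · rw [hno μ hμ h0]; simp
      rw [Finset.sum_congr rfl h6, ← hsum_m]; push_cast; rfl
    obtain ⟨μ₀, hμ₀, hm₀, hμ₀1⟩ := hex
    have hpm : p ∣ m μ₀ := hpdvd μ₀ hμ₀ hμ₀1
    have hle : m μ₀ ≤ n := by
      rw [← hsum_m]; exact Finset.single_le_sum (f := m) (fun _ _ => Nat.zero_le _) hμ₀
    have hmp : m μ₀ = p := by
      obtain ⟨t, ht⟩ := hpm
      rcases t with _ | _ | t
      · simp at ht; exact absurd ht hm₀
      · simpa using ht
      · exfalso
        have : 2 * p ≤ m μ₀ := by rw [ht]; nlinarith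
        omega
    have hothers : ∀ μ ∈ S, μ ≠ μ₀ → μ ^ m μ = 1 := by
      intro μ hμ hne'
      by_cases h1' : μ = 1
      · rw [h1', one_pow]
      · have hpμ := hpdvd μ hμ h1'
        have hmμ : m μ = 0 := by
          by_contra hm0
          have hge : p ≤ m μ := Nat.le_of_dvd (Nat.pos_of_ne_zero hm0) hpμ
          have : m μ₀ + m μ ≤ n := by
            rw [← hsum_m, ← Finset.add_sum_erase S m hμ₀]
            apply Nat.add_le_add_left
            exact Finset.single_le_sum (f := m) (fun _ _ => Nat.zero_le _)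
              (Finset.mem_erase.mpr ⟨hne', hμ⟩)
          omega
        rw [hmμ, pow_zero]
    have hdet1 : LinearMap.det (ρ x) = 1 := by
      let ψ : G →* ℂ := (LinearMap.det).comp ρ
      have hker : commutator G ≤ ψ.toHomUnits.ker := Abelianization.commutator_subset_ker _
      have hxk : x ∈ ψ.toHomUnits.ker := hker (by rw [hperf]; trivial)
      have h2 := MonoidHom.mem_ker.mp hxk
      have h3 := congrArg Units.val h2
      rw [MonoidHom.coe_toHomUnits] at h3
      exact h3
    have hprod : ∏ μ ∈ S, μ ^ m μ = μ₀ ^ p := by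
      rw [← Finset.mul_prod_erase S _ hμ₀, hmp,
        Finset.prod_eq_one (fun μ hμ => hothers μ (Finset.mem_of_mem_erase hμ)
          (Finset.ne_of_mem_erase hμ)), mul_one]
    have hμp : μ₀ ^ p = 1 := by rw [← hprod, ← hdet, hdet1]
    have hgcd : μ₀ ^ (Nat.gcd p N) = 1 := pow_gcd_eq_one.mpr ⟨hμp, hS μ₀ hμ₀⟩
    have hg1 : Nat.gcd p N = 1 := (Nat.Prime.coprime_iff_not_dvd hp).mpr hN
    rw [hg1, pow_one] at hgcd
    exact hμ₀1 hgcd
  apply hfaith
  rw [hχx, h1]

/-- Let p be a prime, M a maximal ideal of the algebraic integers containing p, G a finite perfect group and P a Sylow p-subgroup. If the principal p-block of G contains a faithful irreducible character of degree less than 2p, then the centralizer of P is a p-group. -/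
theorem result {G : Type*} [Group G] [Finite G] (p : ℕ) [Fact p.Prime] (M : Ideal Cfsg.AlgInt) (hM : Cfsg.IsPModular p M) (hperf : commutator G = ⊤) (P : Sylow p G) (χ : Cfsg.IrrCharacter G) (hχ : χ ∈ Cfsg.principalBlock M G) (hfaith : ∀ g : G, (χ : G → ℂ) g = (χ : G → ℂ) 1 → g = 1) (hdeg : Cfsg.charDegree (χ : G → ℂ) < 2 * p) : IsPGroup p ↥(Subgroup.centralizer ((P : Subgroup G) : Set G)) := by
  have hp : p.Prime := Fact.out
  intro g
  have hord : orderOf (g : G) ≠ 0 := (orderOf_pos (g : G)).ne'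
  obtain ⟨a, r, hr, hgr⟩ := Nat.exists_eq_pow_mul_and_not_dvd hord p hp.ne_one
  refine ⟨a, ?_⟩
  apply Subtype.ext
  rw [Subgroup.coe_pow, Subgroup.coe_one]
  apply key_trivial p M hM hperf P χ hχ hfaith hdeg ((g : G) ^ (p ^ a))
    (Subgroup.pow_mem _ g.2 _) r hr
  rw [← pow_mul, ← hgr, pow_orderOf_eq_one]

end Cfsg.Agent.S4729
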