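import Cfsg.Statements.S4730
import Cfsg.Agent.S0142
import Cfsg.Agent.S0968
import Cfsg.Agent.Lib_helper1_Scalar
import Cfsg.Agent.Lib_helper12_CharOps
import Cfsg.Agent.Lib_helper24_LocalIdeal
import Cfsg.Agent.Lib_helper24_LocalRing
import Cfsg.Agent.Lib_helper24_BlockBasic
import Cfsg.Agent.Lib_helper24_CharBasic
import Cfsg.Agent.Lib_helper24_CharValues

set_option autoImplicit false
open Cfsg

namespace Cfsg.Agent.S4730

open Cfsg.Agent.helper24
open scoped ComplexConjugate

universe u

set_option linter.style.haveILetI false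
set_option linter.unusedVariables false
set_option linter.unusedSectionVars false

theorem chi_vanish {G : Type u} [Group G] [Finite G] (p : ℕ) [Fact p.Prime]
    (hZ : Subgroup.center G = ⊥) (P : Sylow p G) (χ : IrrCharacter G)
    (hfaith : ∀ g : G, (χ : G → ℂ) g = (χ : G → ℂ) 1 → g = 1) (n : ℕ)
    (hdeg : charDegree (χ : G → ℂ) = p ^ n) (z : ↥(P : Subgroup G))
    (hz : z ∈ Subgroup.center ↥(P : Subgroup G)) (hz1 : z ≠ 1) :
    (χ : G → ℂ) (z : G) = 0 ∧ ¬ p ∣ (Subgroup.centralizer ({(z : G)} : Set G)).index := by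
  classical
  have hp : p.Prime := Fact.out
  obtain ⟨n', ρ, hirr, hρ⟩ := χ.2
  haveI := hirr
  have hfin : Module.finrank ℂ (Fin n' → ℂ) = n' := Module.finrank_fin_fun ℂ
  have h1 : (χ : G → ℂ) 1 = n' := by
    rw [← hρ, Representation.char_one, hfin]
  have hn' : n' = p ^ n := by rw [← hdeg]; exact (charDegree_natCast _ n' h1).symm
  have hle : (P : Subgroup G) ≤ Subgroup.centralizer ({(z : G)} : Set G) := by
    intro x hx
    rw [Subgroup.mem_centralizer_iff]
    intro h hh
    rw [Set.mem_singleton_iff] at hh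
    subst hh
    have h2 := (Subgroup.mem_center_iff.mp hz) ⟨x, hx⟩
    have h3 := congrArg (Subtype.val) h2
    simpa using h3.symm
  have hnd : ¬ p ∣ (Subgroup.centralizer ({(z : G)} : Set G)).index := by
    intro hd
    exact P.not_dvd_index (dvd_trans hd (Subgroup.index_dvd_of_le hle))
  refine ⟨?_, hnd⟩
  have hcop : Nat.Coprime (Module.finrank ℂ (Fin n' → ℂ))
      (Subgroup.centralizer ({(z : G)} : Set G)).index := by
    rw [hfin, hn']
    exact Nat.Coprime.pow_left n ((Nat.Prime.coprime_iff_not_dvd hp).mpr hnd)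
  rcases Cfsg.Agent.S0142.result ρ (z : G) hcop with h0 | hnorm
  · rw [← hρ]; exact h0
  · exfalso
    obtain ⟨ω, hω⟩ := Cfsg.Agent.helper1.rep_scalar_of_norm_char_eq ρ (z : G)
      (by rw [hnorm, hfin])
    have hcomm : ∀ x : G, (z : G) * x = x * (z : G) := by
      intro x
      have hρc : ρ ((z : G) * x) = ρ (x * (z : G)) := by
        rw [map_mul, map_mul, hω]
        ext v
        simp
      have hρ1 : ρ ((z : G) * x * (z : G)⁻¹ * x⁻¹) = ρ 1 := by
        have e1 : (z : G) * x * (z : G)⁻¹ * x⁻¹ = ((z : G) * x) * ((z : G)⁻¹ * x⁻¹) := by group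
        rw [e1, map_mul, hρc, ← map_mul]
        congr 1
        group
      have hχeq : (χ : G → ℂ) ((z : G) * x * (z : G)⁻¹ * x⁻¹) = (χ : G → ℂ) 1 := by
        rw [← hρ]
        show LinearMap.trace ℂ _ (ρ _) = LinearMap.trace ℂ _ (ρ _)
        rw [hρ1]
      have h5 := hfaith _ hχeq
      calc (z : G) * x = ((z : G) * x * (z : G)⁻¹ * x⁻¹) * (x * (z : G)) := by group
        _ = x * (z : G) := by rw [h5, one_mul]
    have hzc : (z : G) ∈ Subgroup.center G := by
      rw [Subgroup.mem_center_iff]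
      intro g
      exact (hcomm g).symm
    rw [hZ, Subgroup.mem_bot] at hzc
    exact hz1 (Subtype.ext hzc)

theorem key_bound {G : Type u} [Group G] [Finite G] (p : ℕ) [Fact p.Prime] (M : Ideal AlgInt)
    (hM : IsPModular p M) (hZ : Subgroup.center G = ⊥) (P : Sylow p G) (b : ℕ)
    (hb : Nat.card (Subgroup.center ↥(P : Subgroup G)) = p ^ b) (χ : IrrCharacter G)
    (hfaith : ∀ g : G, (χ : G → ℂ) g = (χ : G → ℂ) 1 → g = 1) (n : ℕ)
    (hdeg : charDegree (χ : G → ℂ) = p ^ n) (ψ : IrrCharacter G)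
    (hψ : ψ ∈ blockOf M (χ : G → ℂ)) :
    b ≤ (charDegree (ψ : G → ℂ)).factorization p := by
  classical
  have hp : p.Prime := Fact.out
  haveI hMp : M.IsPrime := hM.2.1.isPrime
  have hMtop : M ≠ ⊤ := hMp.ne_top
  have hψchar := irr_isCharacter ψ.2
  have hψ1 : (ψ : G → ℂ) 1 ≠ 0 := irr_apply_one_ne_zero ψ.2
  haveI : Fintype ↥(Subgroup.center ↥(P : Subgroup G)) := Fintype.ofFinite _
  let f : ↥(Subgroup.center ↥(P : Subgroup G)) → ℂ :=
    fun h => (ψ : G → ℂ) ((h : ↥(P : Subgroup G)) : G)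
  have hfchar : IsCharacter ↥(Subgroup.center ↥(P : Subgroup G)) f :=
    Cfsg.Agent.helper12.isCharacter_restrict (Subgroup.center ↥(P : Subgroup G))
      (Cfsg.Agent.helper12.isCharacter_restrict (P : Subgroup G) hψchar)
  have h1char : IsCharacter ↥(Subgroup.center ↥(P : Subgroup G)) (fun _ => (1 : ℂ)) :=
    irr_isCharacter isIrrCharacter_one
  obtain ⟨m, hm⟩ := Cfsg.Agent.helper12.classInner_char_nat hfchar h1char
  have hpb : ((p ^ b : ℕ) : ℂ) ≠ 0 := by exact_mod_cast (pow_pos hp.pos b).ne'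
  have hsum : ∑ h : ↥(Subgroup.center ↥(P : Subgroup G)), f h = ((p ^ b : ℕ) : ℂ) * (m : ℂ) := by
    have e : classInner f (fun _ => (1 : ℂ))
        = (Nat.card ↥(Subgroup.center ↥(P : Subgroup G)) : ℂ)⁻¹
          * ∑ h : ↥(Subgroup.center ↥(P : Subgroup G)), f h := by
      simp [classInner]
    rw [e, hb] at hm
    rw [← hm, ← mul_assoc, mul_inv_cancel₀ hpb, one_mul]
  have hj : ∀ h ∈ (Finset.univ : Finset ↥(Subgroup.center ↥(P : Subgroup G))).erase 1,
      MemLocalIdeal M (f h / (ψ : G → ℂ) 1) := by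
    intro h hh
    have hne : h ≠ 1 := (Finset.mem_erase.mp hh).1
    have hne' : (h : ↥(P : Subgroup G)) ≠ 1 := fun e => hne (Subtype.ext e)
    obtain ⟨hχ0, hnd⟩ := chi_vanish p hZ P χ hfaith n hdeg (h : ↥(P : Subgroup G)) h.2 hne'
    have hsb := hψ ((h : ↥(P : Subgroup G)) : G)
    have hcc : centralChar (χ : G → ℂ) ((h : ↥(P : Subgroup G)) : G) = 0 := by
      unfold centralChar; rw [hχ0]; simp
    rw [hcc, zero_sub] at hsb
    have hsb' := memLocalIdeal_neg hsb
    rw [neg_neg] at hsb'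
    have hinv := memLocalRing_inv
      (memLocalRing_of_integral hMtop (isIntegral_algebraMap (R := ℤ) (A := ℂ)
        (x := ((Subgroup.centralizer ({((h : ↥(P : Subgroup G)) : G)} : Set G)).index : ℤ))))
      (by
        have := natCast_not_memLocalIdeal hM hnd
        simpa using this)
    have h6 := memLocalIdeal_mul_left hinv hsb'
    convert h6 using 1
    unfold centralChar
    have hidx : ((Subgroup.centralizer ({((h : ↥(P : Subgroup G)) : G)} : Set G)).index : ℂ) ≠ 0 := by
      exact_mod_cast Subgroup.index_ne_zero_of_finite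
    simp only [f]
    push_cast
    field_simp
  have hjmem : MemLocalIdeal M
      (∑ h ∈ (Finset.univ : Finset ↥(Subgroup.center ↥(P : Subgroup G))).erase 1,
        f h / (ψ : G → ℂ) 1) := memLocalIdeal_sum _ _ hj
  set j := ∑ h ∈ (Finset.univ : Finset ↥(Subgroup.center ↥(P : Subgroup G))).erase 1,
        f h / (ψ : G → ℂ) 1 with hjdef
  have hsplit : ∑ h : ↥(Subgroup.center ↥(P : Subgroup G)), f h = (ψ : G → ℂ) 1 * (1 + j) := by
    rw [← Finset.add_sum_erase Finset.univ f (Finset.mem_univ (1 : ↥(Subgroup.center ↥(P : Subgroup G))))]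
    rw [hjdef, mul_add, mul_one, Finset.mul_sum]
    congr 1
    apply Finset.sum_congr rfl
    intro h _
    field_simp
  have hωring : MemLocalRing M (1 + j) :=
    memLocalRing_add (memLocalRing_one hMtop) (memLocalRing_of_memLocalIdeal hjmem)
  have hωnot : ¬ MemLocalIdeal M (1 + j) := by
    intro h7
    have h8 := memLocalIdeal_sub h7 hjmem
    rw [add_sub_cancel_right] at h8
    exact not_memLocalIdeal_one h8
  have hd := char_charDegree_cast hψchar
  have heq : (1 + j) * ((charDegree (ψ : G → ℂ) : ℕ) : ℂ) = ((p ^ b : ℕ) : ℂ) * (m : ℂ) := by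
    rw [hd, mul_comm, ← hsplit, hsum]
  have hmint : IsIntegral ℤ (m : ℂ) := by
    have h10 := isIntegral_algebraMap (R := ℤ) (A := ℂ) (x := (m : ℤ))
    simpa using h10
  have h9 := Cfsg.Agent.S0968.fact_le_of_unit p hM (p ^ b) (charDegree (ψ : G → ℂ))
    (pow_pos hp.pos b) (irr_charDegree_pos ψ.2) (m : ℂ)
    hmint
    (1 + j) hωring hωnot heq
  rw [hp.factorization_pow] at h9
  simpa using h9

/-- Let p be a prime, M a maximal ideal of the algebraic integers containing p, and G a finite group with trivial centre, Sylow p-subgroup P of order p^a and centre Z(P) of order p^b. If χ is a faithful irreducible character of G whose degree is a power of p, then the p-block of χ has defect at most a − b; in particular, if P is abelian then χ lies in a block of defect zero. -/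
theorem result {G : Type*} [Group G] [Finite G] (p : ℕ) [Fact p.Prime] (M : Ideal Cfsg.AlgInt) (hM : Cfsg.IsPModular p M) (hZ : Subgroup.center G = ⊥) (P : Sylow p G) (a b : ℕ) (ha : Nat.card P = p ^ a) (hb : Nat.card (Subgroup.center ↥(P : Subgroup G)) = p ^ b) (χ : Cfsg.IrrCharacter G) (hfaith : ∀ g : G, (χ : G → ℂ) g = (χ : G → ℂ) 1 → g = 1) (n : ℕ) (hdeg : Cfsg.charDegree (χ : G → ℂ) = p ^ n) : Cfsg.blockDefect p (Cfsg.blockOf M (χ : G → ℂ)) ≤ a - b ∧ (IsMulCommutative ↥(P : Subgroup G) → Cfsg.blockDefect p (Cfsg.blockOf M (χ : G → ℂ)) = 0) := by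
  classical
  have hp : p.Prime := Fact.out
  haveI hMp : M.IsPrime := hM.2.1.isPrime
  have hMtop : M ≠ ⊤ := hMp.ne_top
  haveI : Fintype G := Fintype.ofFinite G
  have key := key_bound p M hM hZ P b hb χ hfaith n hdeg
  have hcardG : (Nat.card G).factorization p = a := by
    have h1 := P.card_eq_multiplicity
    rw [ha] at h1
    exact (Nat.pow_right_injective hp.two_le h1).symm
  have hle : blockDefect p (blockOf M (χ : G → ℂ)) ≤ a - b := by
    unfold blockDefect
    rw [hcardG]
    apply Nat.sub_le_sub_left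
    apply le_csInf
    · exact ⟨_, χ, sameBlock_refl M hMtop _, rfl⟩
    · rintro x ⟨ψ, hψ, rfl⟩
      exact key ψ hψ
  refine ⟨hle, ?_⟩
  intro hc
  have htop : Subgroup.center ↥(P : Subgroup G) = ⊤ := by
    rw [Subgroup.eq_top_iff']
    intro x
    rw [Subgroup.mem_center_iff]
    intro g
    exact hc.is_comm.comm g x
  rw [htop, Subgroup.card_top, ha] at hb
  have hab : a = b := Nat.pow_right_injective hp.two_le hb
  rw [hab, Nat.sub_self] at hle
  exact Nat.le_zero.mp hle

end Cfsg.Agent.S4730
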