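import Cfsg.Statements.S4731
import Cfsg.Agent.Lib_helper24_BlockOrth
import Cfsg.Agent.Lib_helper24_CharOrth
import Cfsg.Agent.Lib_helper24_CharBasic
import Cfsg.Agent.Lib_helper24_CharValues
import Cfsg.Agent.Lib_helper1_SchurBound
import Cfsg.Agent.Lib_helper12_CharOps

set_option autoImplicit false
open Cfsg

namespace Cfsg.Agent.S4731

open scoped ComplexConjugate
open Cfsg.Agent.helper24

/-- Let p ≠ q be primes, M_p and M_q maximal ideals of the algebraic integers containing p and q respectively, and G a finite group with no element of order pq; let q^b be the q-part of the order of G. For a p-block B_p (relative to M_p), a q-block B_q (relative to M_q) and a p-singular element y, the sum of χ(1)χ(y) over the irreducible characters χ lying in both B_p and B_q is q^b times an algebraic integer. -/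
theorem result {G : Type*} [Group G] [Finite G] (p q : ℕ) [Fact p.Prime] [Fact q.Prime] (hpq : p ≠ q) (Mp Mq : Ideal Cfsg.AlgInt) (hMp : Cfsg.IsPModular p Mp) (hMq : Cfsg.IsPModular q Mq) (hno : ∀ g : G, orderOf g ≠ p * q) (b : ℕ) (hb : (Nat.card G).factorization q = b) (Bp : Set (Cfsg.IrrCharacter G)) (hBp : Cfsg.IsPBlock Mp Bp) (Bq : Set (Cfsg.IrrCharacter G)) (hBq : Cfsg.IsPBlock Mq Bq) (y : G) (hy : p ∣ orderOf y) : ∃ ω : Cfsg.AlgInt, ∑ᶠ χ ∈ Bp ∩ Bq, (Cfsg.charDegree (χ : G → ℂ) : ℂ) * (χ : G → ℂ) y = (q : ℂ) ^ b * (ω : ℂ) := by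
  classical
  haveI : Fintype G := Fintype.ofFinite G
  haveI : Fintype (IrrCharacter G) := Fintype.ofFinite _
  have hp : p.Prime := Fact.out
  have hq : q.Prime := Fact.out
  set BpF : Finset (IrrCharacter G) := (Set.toFinite Bp).toFinset with hBpF
  set BqF : Finset (IrrCharacter G) := (Set.toFinite Bq).toFinset with hBqF
  have hmemp : ∀ χ, χ ∈ BpF ↔ χ ∈ Bp := fun χ => Set.Finite.mem_toFinset _
  have hmemq : ∀ χ, χ ∈ BqF ↔ χ ∈ Bq := fun χ => Set.Finite.mem_toFinset _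
  -- elements of order divisible by q are p-regular
  have hreg : ∀ h : G, q ∣ orderOf h → ¬ p ∣ orderOf h := by
    intro h hqh hph
    have hpq' : p * q ∣ orderOf h :=
      Nat.Coprime.mul_dvd_of_dvd_of_dvd ((Nat.coprime_primes hp hq).mpr hpq) hph hqh
    obtain ⟨c, hc⟩ := hpq'
    have hc0 : c ≠ 0 := by
      intro h0
      rw [h0, mul_zero] at hc
      exact (orderOf_pos h).ne' hc
    have : orderOf (h ^ c) = p * q := by
      rw [orderOf_pow_of_dvd hc0 ⟨p * q, by rw [hc, mul_comm]⟩, hc,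
        Nat.mul_div_cancel _ (Nat.pos_of_ne_zero hc0)]
    exact hno _ this
  set f : G → ℂ := fun h => ∑ χ ∈ BpF, (χ : G → ℂ) y * conj ((χ : G → ℂ) h) with hf
  have hf0 : ∀ h, q ∣ orderOf h → f h = 0 := by
    intro h hqh
    have h0 := weak_block_orthogonality p Mp hMp Bp hBp h y (hreg h hqh) hy
    rw [finsum_mem_eq_finite_toFinset_sum _ (Set.toFinite Bp)] at h0
    have h1 := congrArg conj h0
    rw [map_sum, map_zero] at h1
    show ∑ χ ∈ BpF, (χ : G → ℂ) y * conj ((χ : G → ℂ) h) = 0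
    rw [← h1]
    refine Finset.sum_congr rfl (fun χ _ => ?_)
    rw [map_mul, Complex.conj_conj, mul_comm]
  set g : G → ℂ := fun h => ∑ χ ∈ BpF ∩ BqF, (χ : G → ℂ) y * conj ((χ : G → ℂ) h) with hg
  have key : ∀ ψ : IrrCharacter G, (Nat.card G : ℂ)⁻¹ * ∑ h', f h' * (ψ : G → ℂ) h' =
      if ψ ∈ BpF then (ψ : G → ℂ) y else 0 := by
    intro ψ
    have e1 : (Nat.card G : ℂ)⁻¹ * ∑ h', f h' * (ψ : G → ℂ) h' =
        ∑ χ ∈ BpF, (χ : G → ℂ) y * classInner (ψ : G → ℂ) (χ : G → ℂ) := by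
      unfold classInner
      simp only [hf, Finset.sum_mul, Finset.mul_sum]
      rw [Finset.sum_comm]
      refine Finset.sum_congr rfl (fun χ _ => Finset.sum_congr rfl (fun h' _ => ?_))
      ring
    rw [e1]
    by_cases hψ : ψ ∈ BpF
    · rw [if_pos hψ, Finset.sum_eq_single ψ]
      · rw [irr_classInner_self ψ.2, mul_one]
      · intro χ _ hne
        rw [irr_classInner_ne ψ.2 χ.2 (fun h => hne (Subtype.ext h.symm)), mul_zero]
      · intro h; exact absurd hψ h
    · rw [if_neg hψ]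
      refine Finset.sum_eq_zero (fun χ hχ => ?_)
      have hne : (ψ : G → ℂ) ≠ (χ : G → ℂ) := by
        intro h
        apply hψ
        have : ψ = χ := Subtype.ext h
        rw [this]; exact hχ
      rw [irr_classInner_ne ψ.2 χ.2 hne, mul_zero]
  have hgexp : ∀ h, g h = (Nat.card G : ℂ)⁻¹ *
      ∑ h', f h' * ∑ ψ ∈ BqF, (ψ : G → ℂ) h' * conj ((ψ : G → ℂ) h) := by
    intro h
    have e1 : g h = ∑ ψ ∈ BqF, (if ψ ∈ BpF then (ψ : G → ℂ) y else 0) * conj ((ψ : G → ℂ) h) := by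
      show ∑ χ ∈ BpF ∩ BqF, (χ : G → ℂ) y * conj ((χ : G → ℂ) h) = _
      rw [Finset.inter_comm, ← Finset.filter_mem_eq_inter, Finset.sum_filter]
      refine Finset.sum_congr rfl (fun ψ _ => ?_)
      by_cases hψ : ψ ∈ BpF
      · rw [if_pos hψ, if_pos hψ]
      · rw [if_neg hψ, if_neg hψ, zero_mul]
    rw [e1]
    have e2 : ∑ ψ ∈ BqF, (if ψ ∈ BpF then (ψ : G → ℂ) y else 0) * conj ((ψ : G → ℂ) h) =
        ∑ ψ ∈ BqF, ((Nat.card G : ℂ)⁻¹ * ∑ h', f h' * (ψ : G → ℂ) h') * conj ((ψ : G → ℂ) h) := by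
      refine Finset.sum_congr rfl (fun ψ _ => ?_)
      rw [key ψ]
    rw [e2]
    simp only [Finset.mul_sum, Finset.sum_mul]
    rw [Finset.sum_comm]
    refine Finset.sum_congr rfl (fun h' _ => Finset.sum_congr rfl (fun ψ _ => ?_))
    ring
  have hg0 : ∀ h, q ∣ orderOf h → g h = 0 := by
    intro h hqh
    rw [hgexp h]
    have hterm : ∀ h', f h' * ∑ ψ ∈ BqF, (ψ : G → ℂ) h' * conj ((ψ : G → ℂ) h) = 0 := by
      intro h'
      by_cases hq' : q ∣ orderOf h'
      · rw [hf0 h' hq', zero_mul]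
      · have h0 := weak_block_orthogonality q Mq hMq Bq hBq h' h hq' hqh
        rw [finsum_mem_eq_finite_toFinset_sum _ (Set.toFinite Bq)] at h0
        rw [h0, mul_zero]
    rw [Finset.sum_eq_zero (fun h' _ => hterm h'), mul_zero]
  -- a Sylow q-subgroup
  obtain ⟨Q⟩ : Nonempty (Sylow q G) := inferInstance
  haveI : Fintype (Q : Subgroup G) := Fintype.ofFinite _
  have hQcard : (Nat.card (Q : Subgroup G) : ℂ) = (q : ℂ) ^ b := by
    rw [Sylow.card_eq_multiplicity, hb]; push_cast; rfl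
  have hsumQ : ∑ x : (Q : Subgroup G), g (x : G) = g 1 := by
    rw [Finset.sum_eq_single (1 : (Q : Subgroup G))]
    · simp
    · intro x _ hx1
      apply hg0
      obtain ⟨k, hk⟩ := (IsPGroup.iff_orderOf.mp Q.2) x
      rw [Subgroup.orderOf_coe, hk]
      cases k with
      | zero =>
        exfalso
        rw [pow_zero, orderOf_eq_one_iff] at hk
        exact hx1 hk
      | succ k => exact dvd_pow_self q (Nat.succ_ne_zero k)
    · intro h; exact absurd (Finset.mem_univ _) h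
  have hz : ∀ χ : IrrCharacter G, ∃ z : ℤ,
      ∑ x : (Q : Subgroup G), (χ : G → ℂ) (x : G) = (Nat.card (Q : Subgroup G) : ℂ) * z := by
    intro χ
    obtain ⟨z, hz⟩ := Cfsg.Agent.helper1.sum_aeval_char
      (Cfsg.Agent.helper12.isCharacter_restrict (Q : Subgroup G) (irr_isCharacter χ.2)) Polynomial.X
    refine ⟨z, ?_⟩
    simpa using hz
  choose z hz using hz
  set W : ℂ := ∑ χ ∈ BpF ∩ BqF, (z χ : ℂ) * (χ : G → ℂ) y with hW
  have hWint : IsIntegral ℤ W := by
    refine IsIntegral.sum _ (fun χ _ => IsIntegral.mul ?_ (char_isIntegral (irr_isCharacter χ.2) y))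
    have := isIntegral_algebraMap (R := ℤ) (A := ℂ) (x := z χ)
    simpa using this
  refine ⟨⟨W, hWint⟩, ?_⟩
  show _ = (q : ℂ) ^ b * W
  have hLHS : ∑ᶠ χ ∈ Bp ∩ Bq, (charDegree (χ : G → ℂ) : ℂ) * (χ : G → ℂ) y = g 1 := by
    rw [finsum_mem_eq_finite_toFinset_sum _ (Set.toFinite (Bp ∩ Bq))]
    show _ = ∑ χ ∈ BpF ∩ BqF, (χ : G → ℂ) y * conj ((χ : G → ℂ) 1)
    refine Finset.sum_congr ?_ (fun χ _ => ?_)
    · ext χ
      simp only [Set.Finite.mem_toFinset, Set.mem_inter_iff, Finset.mem_inter, hmemp, hmemq]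
    · rw [char_charDegree_cast (irr_isCharacter χ.2), char_conj_eq (irr_isCharacter χ.2), inv_one,
        mul_comm]
  rw [hLHS, ← hsumQ]
  show ∑ x : (Q : Subgroup G), ∑ χ ∈ BpF ∩ BqF, (χ : G → ℂ) y * conj ((χ : G → ℂ) (x : G)) = _
  rw [Finset.sum_comm, hW, Finset.mul_sum]
  refine Finset.sum_congr rfl (fun χ _ => ?_)
  rw [← Finset.mul_sum, ← map_sum, hz χ, map_mul, map_natCast, map_intCast, hQcard]
  ring

end Cfsg.Agent.S4731
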