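import Mathlib
import Cfsg.Agent.Lib_helper1_PrincQuot
import Cfsg.Agent.Lib_helper1_OneBlock
import Cfsg.Agent.Lib_helper1_Core
import Cfsg.Agent.Lib_helper9_Cores
import Cfsg.Agent.Lib_helper23_PSolv
import Cfsg.Agent.Lib_helper24_ItoMichler
import Cfsg.Agent.Lib_helper24_ThirdMain
import Cfsg.Agent.Lib_helper22_HtZero3
import Cfsg.Statements.S4736
-- import your own Cfsg.Agent.* helpers here

set_option autoImplicit false
open Cfsg

namespace Cfsg.Agent.S4736

/-- Let p be a prime, M a maximal ideal of the algebraic integers containing p, and G a finite p-solvable group with Sylow p-subgroup P. Then P is abelian if and only if every irreducible character in the principal p-block of G has height zero. -/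
theorem result {G : Type*} [Group G] [Finite G] (p : ℕ) [Fact p.Prime] (M : Ideal Cfsg.AlgInt) (hM : Cfsg.IsPModular p M) (hsolv : Cfsg.IsPSolvable p G) (P : Sylow p G) : IsMulCommutative P ↔ ∀ χ ∈ Cfsg.principalBlock M G, Cfsg.blockHeight p (Cfsg.principalBlock M G) (χ : G → ℂ) = 0 := by
  classical
  haveI := Fintype.ofFinite G
  have hp : p.Prime := Fact.out
  have hMp : M.IsPrime := hM.2.1.isPrime
  have hMtop := hMp.ne_top
  obtain ⟨K, hK⟩ : ∃ K : Subgroup G, K = Cfsg.pPrimeCore p G := ⟨_, rfl⟩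
  haveI hKn : K.Normal := by rw [hK]; exact Cfsg.Agent.helper1.pPrimeCore_normal p
  have hKc : (Nat.card K).Coprime p := by rw [hK]; exact Cfsg.Agent.helper1.pPrimeCore_coprime p
  haveI : Fintype K := Fintype.ofFinite _
  haveI : Fintype (G ⧸ K) := Fintype.ofFinite _
  have hsurj : Function.Surjective (QuotientGroup.mk' K) := QuotientGroup.mk'_surjective K
  have hQsolv : Cfsg.IsPSolvable p (G ⧸ K) :=
    Cfsg.Agent.helper23.isPSolvable_of_surjective hp _ hsurj hsolv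
  have hQO : Cfsg.pPrimeCore p (G ⧸ K) = ⊥ := by
    subst hK; exact Cfsg.Agent.helper9.pPrimeCore_quotient_eq_bot p
  have hconstr := Cfsg.Agent.helper23.hall_higman_123
    (Cfsg.Agent.helper23.psreach_of_isPSolvable hQsolv) hQO
  have hall : ∀ ψ : Cfsg.IrrCharacter (G ⧸ K), ψ ∈ Cfsg.principalBlock M (G ⧸ K) := by
    intro ψ
    exact Cfsg.Agent.helper1.single_block_of_constrained p M hM hconstr
      (Cfsg.Agent.helper24.oneIrr _) ψ
  have hdeg1 : Cfsg.charDegree (Cfsg.Agent.helper24.oneIrr G : G → ℂ) = 1 := by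
    apply Cfsg.Agent.helper24.charDegree_natCast _ 1
    show (1 : ℂ) = ((1 : ℕ) : ℂ)
    simp
  have hht : ∀ χ ∈ Cfsg.principalBlock M G,
      (Cfsg.blockHeight p (Cfsg.principalBlock M G) (χ : G → ℂ) = 0 ↔
        ¬ p ∣ Cfsg.charDegree (χ : G → ℂ)) := by
    intro χ hχ
    rw [Cfsg.Agent.helper22.blockHeight_eq_zero_iff p _ χ hχ]
    constructor
    · intro h hdvd
      have h1 := h (Cfsg.Agent.helper24.oneIrr G)
        (Cfsg.Agent.helper24.oneIrr_mem_principalBlock hMtop)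
      rw [hdeg1] at h1
      simp only [Nat.factorization_one, Finsupp.coe_zero, Pi.zero_apply, Nat.le_zero_eq] at h1
      have hpos := Cfsg.Agent.helper24.irr_charDegree_pos χ.2
      have h2 := hp.factorization_pos_of_dvd hpos.ne' hdvd
      omega
    · intro h ψ _
      rw [Nat.factorization_eq_zero_of_not_dvd h]
      exact Nat.zero_le _
  have hdeg : ∀ ψ : Cfsg.IrrCharacter (G ⧸ K),
      Cfsg.charDegree (Cfsg.Agent.helper1.inflIrr K ψ : G → ℂ) =
        Cfsg.charDegree (ψ : G ⧸ K → ℂ) := by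
    intro ψ
    unfold Cfsg.charDegree
    rw [Cfsg.Agent.helper1.inflIrr_apply]
    rfl
  obtain ⟨Pb, hPb⟩ : ∃ Pb : Sylow p (G ⧸ K), Pb = P.mapSurjective hsurj := ⟨_, rfl⟩
  have hPbmem : ∀ a : G ⧸ K, a ∈ Pb ↔ ∃ x ∈ P, (x : G ⧸ K) = a := by
    intro a
    have h1 : (Pb : Subgroup (G ⧸ K)) = Subgroup.map (QuotientGroup.mk' K) ↑P := by
      rw [hPb]; exact Sylow.coe_mapSurjective hsurj P
    show a ∈ (Pb : Subgroup (G ⧸ K)) ↔ _
    rw [h1, Subgroup.mem_map]
    rfl
  constructor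
  · intro hPc
    have hPab : ∀ a ∈ (Pb : Subgroup (G ⧸ K)), ∀ b ∈ (Pb : Subgroup (G ⧸ K)), a * b = b * a := by
      intro a ha b hb
      obtain ⟨x, hx, rfl⟩ := (hPbmem a).mp ha
      obtain ⟨y, hy, rfl⟩ := (hPbmem b).mp hb
      have h1 : (⟨x, hx⟩ : P) * ⟨y, hy⟩ = ⟨y, hy⟩ * ⟨x, hx⟩ := hPc.is_comm.comm _ _
      have h2 : x * y = y * x := congrArg Subtype.val h1
      rw [← QuotientGroup.mk_mul, ← QuotientGroup.mk_mul, h2]
    have hVP : Cfsg.pCore p (G ⧸ K) ≤ Pb := Cfsg.Agent.helper1.pCore_le_sylow Pb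
    have hPV : (Pb : Subgroup (G ⧸ K)) ≤ Cfsg.pCore p (G ⧸ K) := by
      intro a ha
      apply hconstr
      rw [Subgroup.mem_centralizer_iff]
      intro v hv
      exact hPab v (hVP hv) a ha
    have hPeq : (Pb : Subgroup (G ⧸ K)) = Cfsg.pCore p (G ⧸ K) := le_antisymm hPV hVP
    have hPn : (Pb : Subgroup (G ⧸ K)).Normal := by
      rw [hPeq]; exact Cfsg.Agent.helper1.pCore_normal p
    have hdegs := (Cfsg.Agent.helper24.ito_michler_psolvable p hQsolv Pb).mp ⟨hPn, hPab⟩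
    intro χ hχ
    rw [hht χ hχ]
    obtain ⟨ψ, -, hψχ⟩ := Cfsg.Agent.helper1.exists_inflIrr_of_mem K p M hM hKc χ hχ
    rw [← hψχ, hdeg]
    exact hdegs ψ
  · intro h
    have hdegs : ∀ ψ : Cfsg.IrrCharacter (G ⧸ K), ¬ p ∣ Cfsg.charDegree (ψ : G ⧸ K → ℂ) := by
      intro ψ
      have h1 : Cfsg.Agent.helper1.inflIrr K ψ ∈ Cfsg.principalBlock M G :=
        (Cfsg.Agent.helper1.inflIrr_mem_principalBlock_iff K p M hM hKc ψ).mpr (hall ψ)
      have h2 := (hht _ h1).mp (h _ h1)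
      rw [hdeg] at h2
      exact h2
    obtain ⟨-, hPab⟩ := (Cfsg.Agent.helper24.ito_michler_psolvable p hQsolv Pb).mpr hdegs
    obtain ⟨n, hn⟩ := IsPGroup.iff_card.mp P.2
    have hcop : (Nat.card K).Coprime (Nat.card (P : Subgroup G)) := by
      rw [hn]; exact Nat.Coprime.pow_right n hKc
    have hdisj : Disjoint K (P : Subgroup G) := Subgroup.disjoint_of_coprime_natCard hcop
    refine ⟨⟨fun a b => ?_⟩⟩
    apply Subtype.ext
    show (a : G) * (b : G) = (b : G) * (a : G)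
    have h1 := hPab _ ((hPbmem _).mpr ⟨(a : G), a.2, rfl⟩) _ ((hPbmem _).mpr ⟨(b : G), b.2, rfl⟩)
    rw [← QuotientGroup.mk_mul, ← QuotientGroup.mk_mul, QuotientGroup.eq] at h1
    have h2 : ((a : G) * (b : G))⁻¹ * ((b : G) * (a : G)) ∈ (P : Subgroup G) :=
      Subgroup.mul_mem _ (Subgroup.inv_mem _ (Subgroup.mul_mem _ a.2 b.2))
        (Subgroup.mul_mem _ b.2 a.2)
    have h3 : ((a : G) * (b : G))⁻¹ * ((b : G) * (a : G)) ∈ K ⊓ (P : Subgroup G) :=
      Subgroup.mem_inf.mpr ⟨h1, h2⟩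
    rw [hdisj.eq_bot, Subgroup.mem_bot] at h3
    have h4 : (b : G) * (a : G) =
        ((a : G) * (b : G)) * (((a : G) * (b : G))⁻¹ * ((b : G) * (a : G))) := by group
    rw [h4, h3, mul_one]

end Cfsg.Agent.S4736
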