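import Cfsg.Statements.S4742
import Cfsg.Agent.Lib_helper23_DefectZero

set_option autoImplicit false
open Cfsg

namespace Cfsg.Agent.S4742

/-- Let p ≠ q be primes dividing the order of the finite group G, and suppose the centralizer of every non-identity p-element of G has order prime to q. Then either G has an irreducible character of p-defect zero, or for every non-identity q-element z of G there are conjugates g, h of z such that g h⁻¹ is a non-identity p-element. -/
theorem result {G : Type*} [Group G] [Finite G] (p q : ℕ) [Fact p.Prime] [Fact q.Prime] (hppq : p ≠ q) (hpG : p ∣ Nat.card G) (hqG : q ∣ Nat.card G) (hC : ∀ g : G, g ≠ 1 → (∃ k : ℕ, orderOf g = p ^ k) → ¬ q ∣ Nat.card ↥(Subgroup.centralizer ({g} : Set G))) : (∃ χ : Cfsg.IrrCharacter G, (Cfsg.charDegree (χ : G → ℂ)).factorization p = (Nat.card G).factorization p) ∨ ∀ z : G, z ≠ 1 → (∃ k : ℕ, orderOf z = q ^ k) → ∃ g h : G, IsConj z g ∧ IsConj z h ∧ g * h⁻¹ ≠ 1 ∧ ∃ k : ℕ, orderOf (g * h⁻¹) = p ^ k := by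
  classical
  have hpp : p.Prime := Fact.out
  have hqp : q.Prime := Fact.out
  by_contra hcon
  push Not at hcon
  obtain ⟨hnodef, z, hz1, ⟨kz, hkz⟩, hzno⟩ := hcon
  obtain ⟨P⟩ : Nonempty (Sylow p G) := inferInstance
  have hA : ∀ y ∈ (P : Subgroup G), y ≠ 1 → ∀ g h : G,
      ¬ IsConj (g * z * g⁻¹ * (h * z⁻¹ * h⁻¹)) y := by
    intro y hy hy1 g h hc
    obtain ⟨k, hk⟩ := isConj_iff.mp hc
    obtain ⟨g', hg'⟩ : ∃ g' : G, g' = k * (g * z * g⁻¹) * k⁻¹ := ⟨_, rfl⟩
    obtain ⟨h', hh'⟩ : ∃ h' : G, h' = k * (h * z * h⁻¹) * k⁻¹ := ⟨_, rfl⟩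
    have hprod : g' * h'⁻¹ = y := by
      rw [← hk, hg', hh']; group
    have hcg : IsConj z g' := isConj_iff.mpr ⟨k * g, by rw [hg']; group⟩
    have hch : IsConj z h' := isConj_iff.mpr ⟨k * h, by rw [hh']; group⟩
    obtain ⟨j, hj⟩ := (IsPGroup.iff_orderOf.mp P.isPGroup') ⟨y, hy⟩
    have hj' : orderOf y = p ^ j := by
      rw [← hj]; exact (Subgroup.orderOf_mk y hy).symm
    exact hzno g' h' hcg hch (by rw [hprod]; exact hy1) j (by rw [hprod]; exact hj')
  have hB : ¬ p ∣ Nat.card (Subgroup.centralizer ({z} : Set G)) := by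
    intro hdvd
    obtain ⟨y, hy⟩ := exists_prime_orderOf_dvd_card' (G := Subgroup.centralizer ({z} : Set G)) p hdvd
    have hyG : orderOf (y : G) = p := by rw [Subgroup.orderOf_coe]; exact hy
    have hy1 : (y : G) ≠ 1 := by
      intro h
      rw [h, orderOf_one] at hyG
      exact hpp.one_lt.ne hyG
    have hcomm : (y : G) * z = z * (y : G) := by
      have := Subgroup.mem_centralizer_iff.mp y.2 z (Set.mem_singleton z)
      exact this.symm
    have hzmem : z ∈ Subgroup.centralizer ({(y : G)} : Set G) := by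
      rw [Subgroup.mem_centralizer_iff]
      intro w hw
      rw [Set.mem_singleton_iff] at hw
      rw [hw]
      exact hcomm
    apply hC (y : G) hy1 ⟨1, by rw [hyG, pow_one]⟩
    have hkz0 : kz ≠ 0 := by
      intro h0
      rw [h0, pow_zero, orderOf_eq_one_iff] at hkz
      exact hz1 hkz
    have hqz : q ∣ orderOf z := by
      rw [hkz]; exact dvd_pow_self q hkz0
    have hord : orderOf z ∣ Nat.card (Subgroup.centralizer ({(y : G)} : Set G)) := by
      have h1 : orderOf (⟨z, hzmem⟩ : Subgroup.centralizer ({(y : G)} : Set G)) = orderOf z :=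
        Subgroup.orderOf_mk z hzmem
      rw [← h1]
      exact orderOf_dvd_natCard _
    exact hqz.trans hord
  obtain ⟨χ, hχ⟩ := Cfsg.Agent.helper23.exists_defect_zero p z P hA hB
  exact hnodef χ hχ

end Cfsg.Agent.S4742
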