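import Cfsg.Statements.S4743
import Cfsg.Agent.S4742

set_option autoImplicit false
open Cfsg

namespace Cfsg.Agent.S4743


/-- If `x ∈ B` has order coprime to the relative index of `A` in `B` (with `A ≤ B`, `A` normal),
then `x ∈ A`. -/
theorem mem_of_coprime_relIndex {G : Type*} [Group G] [Finite G] (A B : Subgroup G) [A.Normal]
    (x : G) (hxB : x ∈ B) (hcop : (orderOf x).Coprime (A.relIndex B)) : x ∈ A := by
  haveI : (A.subgroupOf B).Normal := Subgroup.normal_subgroupOf
  let xb : B := ⟨x, hxB⟩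
  have h1 : ((xb : B) : B ⧸ A.subgroupOf B) ^ (A.relIndex B) = 1 := by
    have : A.relIndex B = Nat.card (B ⧸ A.subgroupOf B) := by
      rw [Subgroup.relIndex, Subgroup.index_eq_card]
    rw [this]
    exact pow_card_eq_one'
  have h2 : ((xb : B) : B ⧸ A.subgroupOf B) ^ (orderOf x) = 1 := by
    rw [← QuotientGroup.mk_pow]
    have : xb ^ orderOf x = 1 := by
      apply Subtype.ext
      simp [xb, pow_orderOf_eq_one]
    rw [this]
    rfl
  have h3 : ((xb : B) : B ⧸ A.subgroupOf B) ^ Nat.gcd (orderOf x) (A.relIndex B) = 1 :=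
    pow_gcd_eq_one.mpr ⟨h2, h1⟩
  rw [Nat.Coprime.gcd_eq_one hcop, pow_one] at h3
  have h4 : xb ∈ A.subgroupOf B := (QuotientGroup.eq_one_iff xb).mp h3
  rw [Subgroup.mem_subgroupOf] at h4
  exact h4

theorem coprime_pow_pow {p q : ℕ} (hp : p.Prime) (hq : q.Prime) (hpq : p ≠ q) (a b : ℕ) :
    (p ^ a).Coprime (q ^ b) :=
  Nat.Coprime.pow a b ((Nat.coprime_primes hp hq).mpr hpq)

/-- The group-theoretic core of S4743: the two product conditions are incompatible with
`p`-solvability. -/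
theorem no_go {G : Type*} [Group G] [Finite G] (p q : ℕ) (hp : p.Prime) (hq : q.Prime)
    (hpq : p ≠ q) (hpG : p ∣ Nat.card G)
    (hi : ∀ z : G, z ≠ 1 → (∃ k : ℕ, orderOf z = q ^ k) →
      ∃ g h : G, IsConj z g ∧ IsConj z h ∧ g * h⁻¹ ≠ 1 ∧ ∃ k : ℕ, orderOf (g * h⁻¹) = p ^ k)
    (hii : ∀ z : G, z ≠ 1 → (∃ k : ℕ, orderOf z = p ^ k) →
      ∃ g h : G, IsConj z g ∧ IsConj z h ∧ g * h⁻¹ ≠ 1 ∧ ∃ k : ℕ, orderOf (g * h⁻¹) = q ^ k)
    (hsolv : Cfsg.IsPSolvable p G) : False := by
  obtain ⟨n, H, h0, hlast, hmono, hnorm, hfac⟩ := hsolv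
  -- no H i contains a nonidentity p- or q-element
  have key : ∀ i : Fin (n + 1), ∀ x ∈ H i, x ≠ 1 →
      ((∃ k : ℕ, orderOf x = p ^ k) ∨ (∃ k : ℕ, orderOf x = q ^ k)) → False := by
    intro i
    induction i using Fin.induction with
    | zero =>
      intro x hx hx1 _
      rw [h0, Subgroup.mem_bot] at hx
      exact hx1 hx
    | succ i ih =>
      intro x hx hx1 hxord
      haveI : (H i.castSucc).Normal := hnorm _
      haveI : (H i.succ).Normal := hnorm _
      have conj_mem : ∀ a b : G, a ∈ H i.succ → IsConj a b → b ∈ H i.succ := by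
        intro a b ha hab
        obtain ⟨c, hc⟩ := isConj_iff.mp hab
        rw [← hc]
        exact (hnorm i.succ).conj_mem a ha c
      -- a nonidentity p-element y in H i.succ
      have hy : ∃ y ∈ H i.succ, y ≠ 1 ∧ ∃ k : ℕ, orderOf y = p ^ k := by
        rcases hxord with hxp | hxq
        · exact ⟨x, hx, hx1, hxp⟩
        · obtain ⟨g, h, hcg, hch, hne, hord⟩ := hi x hx1 hxq
          exact ⟨g * h⁻¹, (H i.succ).mul_mem (conj_mem x g hx hcg)
            ((H i.succ).inv_mem (conj_mem x h hx hch)), hne, hord⟩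
      obtain ⟨y, hyB, hy1, ky, hky⟩ := hy
      rcases hfac i with ⟨m, hm⟩ | hcop
      · -- p-factor: a q-element lands in H i.castSucc
        obtain ⟨g, h, hcg, hch, hne, kw, hkw⟩ := hii y hy1 ⟨ky, hky⟩
        have hwB : g * h⁻¹ ∈ H i.succ := (H i.succ).mul_mem (conj_mem y g hyB hcg)
            ((H i.succ).inv_mem (conj_mem y h hyB hch))
        have hwA : g * h⁻¹ ∈ H i.castSucc := by
          apply mem_of_coprime_relIndex (H i.castSucc) (H i.succ) _ hwB
          rw [hkw, hm]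
          exact coprime_pow_pow hq hp hpq.symm kw m
        exact ih (g * h⁻¹) hwA hne (Or.inr ⟨kw, hkw⟩)
      · -- p'-factor: y itself lands in H i.castSucc
        have hyA : y ∈ H i.castSucc := by
          apply mem_of_coprime_relIndex (H i.castSucc) (H i.succ) _ hyB
          rw [hky]
          exact (Nat.Coprime.pow_left ky (Nat.Coprime.symm hcop))
        exact ih y hyA hy1 (Or.inl ⟨ky, hky⟩)
  -- but G contains an element of order p
  haveI : Fact p.Prime := ⟨hp⟩
  obtain ⟨y, hy⟩ := exists_prime_orderOf_dvd_card' (G := G) p hpG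
  have hy1 : y ≠ 1 := by
    intro h
    rw [h, orderOf_one] at hy
    exact hp.one_lt.ne hy
  apply key (Fin.last n) y (by rw [hlast]; exact Subgroup.mem_top y) hy1
  exact Or.inl ⟨1, by rw [hy, pow_one]⟩

/-- Symmetry of the centralizer hypothesis. -/
theorem centralizer_symm {G : Type*} [Group G] [Finite G] (p q : ℕ) [Fact p.Prime] [Fact q.Prime]
    (hC : ∀ g : G, g ≠ 1 → (∃ k : ℕ, orderOf g = p ^ k) →
      ¬ q ∣ Nat.card ↥(Subgroup.centralizer ({g} : Set G))) :
    ∀ g : G, g ≠ 1 → (∃ k : ℕ, orderOf g = q ^ k) →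
      ¬ p ∣ Nat.card ↥(Subgroup.centralizer ({g} : Set G)) := by
  have hpp : p.Prime := Fact.out
  intro z hz1 ⟨kz, hkz⟩ hdvd
  obtain ⟨y, hy⟩ := exists_prime_orderOf_dvd_card' (G := Subgroup.centralizer ({z} : Set G)) p hdvd
  have hyG : orderOf (y : G) = p := by rw [Subgroup.orderOf_coe]; exact hy
  have hy1 : (y : G) ≠ 1 := by
    intro h
    rw [h, orderOf_one] at hyG
    exact hpp.one_lt.ne hyG
  have hcomm : (y : G) * z = z * (y : G) := by
    have := Subgroup.mem_centralizer_iff.mp y.2 z (Set.mem_singleton z)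
    exact this.symm
  have hzmem : z ∈ Subgroup.centralizer ({(y : G)} : Set G) := by
    rw [Subgroup.mem_centralizer_iff]
    intro w hw
    rw [Set.mem_singleton_iff] at hw
    rw [hw]
    exact hcomm
  apply hC (y : G) hy1 ⟨1, by rw [hyG, pow_one]⟩
  have hkz0 : kz ≠ 0 := by
    intro h0
    rw [h0, pow_zero, orderOf_eq_one_iff] at hkz
    exact hz1 hkz
  have hqz : q ∣ orderOf z := by
    rw [hkz]; exact dvd_pow_self q hkz0
  have hord : orderOf z ∣ Nat.card (Subgroup.centralizer ({(y : G)} : Set G)) := by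
    have h1 : orderOf (⟨z, hzmem⟩ : Subgroup.centralizer ({(y : G)} : Set G)) = orderOf z :=
      Subgroup.orderOf_mk z hzmem
    rw [← h1]
    exact orderOf_dvd_natCard _
  exact hqz.trans hord

/-- Let p ≠ q be primes dividing the order of the finite group G, suppose the centralizer of every non-identity p-element has order prime to q, and suppose G is p-solvable or q-solvable. Then G has an irreducible character of p-defect zero or an irreducible character of q-defect zero. -/
theorem result {G : Type*} [Group G] [Finite G] (p q : ℕ) [Fact p.Prime] [Fact q.Prime] (hppq : p ≠ q) (hpG : p ∣ Nat.card G) (hqG : q ∣ Nat.card G) (hC : ∀ g : G, g ≠ 1 → (∃ k : ℕ, orderOf g = p ^ k) → ¬ q ∣ Nat.card ↥(Subgroup.centralizer ({g} : Set G))) (hsolv : Cfsg.IsPSolvable p G ∨ Cfsg.IsPSolvable q G) : (∃ χ : Cfsg.IrrCharacter G, (Cfsg.charDegree (χ : G → ℂ)).factorization p = (Nat.card G).factorization p) ∨ (∃ χ : Cfsg.IrrCharacter G, (Cfsg.charDegree (χ : G → ℂ)).factorization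 q = (Nat.card G).factorization q) := by
  have hpp : p.Prime := Fact.out
  have hqp : q.Prime := Fact.out
  by_contra hcon
  push Not at hcon
  obtain ⟨hnp, hnq⟩ := hcon
  have hC' := centralizer_symm p q hC
  have hi : ∀ z : G, z ≠ 1 → (∃ k : ℕ, orderOf z = q ^ k) →
      ∃ g h : G, IsConj z g ∧ IsConj z h ∧ g * h⁻¹ ≠ 1 ∧ ∃ k : ℕ, orderOf (g * h⁻¹) = p ^ k := by
    rcases Cfsg.Agent.S4742.result p q hppq hpG hqG hC with ⟨χ, hχ⟩ | h
    · exact absurd hχ (hnp χ)
    · exact h
  have hii : ∀ z : G, z ≠ 1 → (∃ k : ℕ, orderOf z = p ^ k) →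
      ∃ g h : G, IsConj z g ∧ IsConj z h ∧ g * h⁻¹ ≠ 1 ∧ ∃ k : ℕ, orderOf (g * h⁻¹) = q ^ k := by
    rcases Cfsg.Agent.S4742.result q p hppq.symm hqG hpG hC' with ⟨χ, hχ⟩ | h
    · exact absurd hχ (hnq χ)
    · exact h
  rcases hsolv with hs | hs
  · exact no_go p q hpp hqp hppq hpG hi hii hs
  · exact no_go q p hqp hpp hppq.symm hqG hii hi hs

end Cfsg.Agent.S4743
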