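import Cfsg.Statements.S4744
import Cfsg.Agent.Lib_helper23_Invol
import Cfsg.Agent.Lib_helper5_Sylow
import Cfsg.Agent.S4742

set_option autoImplicit false
open Cfsg

namespace Cfsg.Agent.S4744

open Cfsg.Agent.helper23

theorem invol_orderOf {G : Type*} [Group G] (t : G) (ht : t * t = 1) (ht1 : t ≠ 1) :
    orderOf t = 2 := by
  haveI : Fact (Nat.Prime 2) := ⟨Nat.prime_two⟩
  exact orderOf_eq_prime (by rw [pow_two]; exact ht) ht1

theorem mem_normalizer_of_invol {G : Type*} [Group G] (H : Subgroup G) (s : G) (hs : s * s = 1)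
    (h : ∀ q ∈ H, s * q * s⁻¹ ∈ H) : s ∈ Subgroup.normalizer (H : Set G) := by
  have hsi : s⁻¹ = s := inv_eq_of_mul_eq_one_right hs
  rw [Subgroup.mem_normalizer_iff]
  intro x
  constructor
  · exact h x
  · intro hx
    have h2 := h _ hx
    have h3 : s * (s * x * s⁻¹) * s⁻¹ = x := by
      rw [hsi]
      calc s * (s * x * s) * s = (s * s) * x * (s * s) := by group
        _ = x := by rw [hs]; simp
    rw [h3] at h2
    exact h2

/-- One stage: an involution inverting a non-identity `p`-element `u` inverts a Sylow `p`-subgroup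
of `C_G(u)`. -/
theorem stage {G : Type*} [Group G] [Finite G] (p : ℕ) [Fact p.Prime]
    (hC : ∀ g : G, g ≠ 1 → (∃ k : ℕ, orderOf g = p ^ k) →
      Odd (Nat.card ↥(Subgroup.centralizer ({g} : Set G))))
    (t u : G) (ht : t * t = 1) (ht1 : t ≠ 1) (hu1 : u ≠ 1) (hu : ∃ k : ℕ, orderOf u = p ^ k)
    (hinv : t * u * t⁻¹ = u⁻¹) :
    ∃ Q : Subgroup G, Q ≤ Subgroup.centralizer ({u} : Set G) ∧
      Nat.card Q = p ^ (Nat.card (Subgroup.centralizer ({u} : Set G))).factorization p ∧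
      (∀ q ∈ Q, t * q * t⁻¹ ∈ Q) ∧ (∀ q ∈ Q, t * q * t⁻¹ = q⁻¹) := by
  have hpp : p.Prime := Fact.out
  have hti : t⁻¹ = t := inv_eq_of_mul_eq_one_right ht
  have hb : t * u⁻¹ * t⁻¹ = u := by
    have h1 : t * u⁻¹ * t⁻¹ = (t * u * t⁻¹)⁻¹ := by group
    rw [h1, hinv, inv_inv]
  have hc : u * t = t * u⁻¹ := by
    calc u * t = (t * u⁻¹ * t⁻¹) * t := by rw [hb]
      _ = t * u⁻¹ := by group
  have hX : ∀ x ∈ Subgroup.centralizer ({u} : Set G),
      t * x * t⁻¹ ∈ Subgroup.centralizer ({u} : Set G) := by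
    intro x hx
    rw [Subgroup.mem_centralizer_iff] at hx ⊢
    intro w hw
    rw [Set.mem_singleton_iff] at hw
    subst hw
    have hxu : w * x = x * w := hx w (Set.mem_singleton w)
    have hxu' : w⁻¹ * x = x * w⁻¹ := by
      have : w⁻¹ * (w * x) * w⁻¹ = w⁻¹ * (x * w) * w⁻¹ := by rw [hxu]
      calc w⁻¹ * x = w⁻¹ * (x * w) * w⁻¹ := by group
        _ = w⁻¹ * (w * x) * w⁻¹ := by rw [hxu]
        _ = x * w⁻¹ := by group
    calc w * (t * x * t⁻¹) = (w * t) * x * t⁻¹ := by group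
      _ = (t * w⁻¹) * x * t⁻¹ := by rw [hc]
      _ = t * (w⁻¹ * x) * t⁻¹ := by group
      _ = t * (x * w⁻¹) * t⁻¹ := by rw [hxu']
      _ = (t * x * t⁻¹) * (t * w⁻¹ * t⁻¹) := by group
      _ = t * x * t⁻¹ * w := by rw [hb]
  have hodd := hC u hu1 hu
  obtain ⟨Q, hQX, hQcard, hQt⟩ :=
    exists_invariant_sylow p (Subgroup.centralizer ({u} : Set G)) hodd t ht hX
  have hfpf : ∀ q ∈ Q, t * q = q * t → q = 1 := by
    intro q hq hcomm
    by_contra hq1
    have hqord : ∃ j : ℕ, orderOf q = p ^ j := by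
      have h1 : orderOf q ∣ Nat.card Q := by
        have : orderOf (⟨q, hq⟩ : Q) = orderOf q := Subgroup.orderOf_mk q hq
        rw [← this]
        exact orderOf_dvd_natCard _
      rw [hQcard] at h1
      obtain ⟨j, _, hj⟩ := (Nat.dvd_prime_pow hpp).mp h1
      exact ⟨j, hj⟩
    have hoddq := hC q hq1 hqord
    have htmem : t ∈ Subgroup.centralizer ({q} : Set G) := by
      rw [Subgroup.mem_centralizer_iff]
      intro w hw
      rw [Set.mem_singleton_iff] at hw
      rw [hw]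
      exact hcomm.symm
    have h2 : 2 ∣ Nat.card (Subgroup.centralizer ({q} : Set G)) := by
      have h3 : orderOf (⟨t, htmem⟩ : Subgroup.centralizer ({q} : Set G)) = orderOf t :=
        Subgroup.orderOf_mk t htmem
      rw [← invol_orderOf t ht ht1, ← h3]
      exact orderOf_dvd_natCard _
    exact (Nat.not_even_iff_odd.mpr hoddq) (even_iff_two_dvd.mpr h2)
  exact ⟨Q, hQX, hQcard, hQt, inverts_of_fixedPointFree Q t ht hQt hfpf⟩

/-- Group-theoretic core of S4744. -/
theorem core {G : Type*} [Group G] [Finite G] (p : ℕ) [Fact p.Prime]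
    (hC : ∀ g : G, g ≠ 1 → (∃ k : ℕ, orderOf g = p ^ k) →
      Odd (Nat.card ↥(Subgroup.centralizer ({g} : Set G))))
    (t y : G) (ht : t * t = 1) (ht1 : t ≠ 1) (hy1 : y ≠ 1) (hy : ∃ k : ℕ, orderOf y = p ^ k)
    (hinv : t * y * t⁻¹ = y⁻¹) :
    ∃ (Q : Sylow p G), (∀ q ∈ (Q : Subgroup G), t * q * t⁻¹ ∈ (Q : Subgroup G)) ∧
      ∀ a ∈ (Q : Subgroup G), ∀ b ∈ (Q : Subgroup G), a * b = b * a := by
  have hpp : p.Prime := Fact.out
  obtain ⟨Q₁, hQ₁X, hQ₁card, hQ₁t, hQ₁inv⟩ := stage p hC t y ht ht1 hy1 hy hinv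
  -- a Sylow subgroup containing y
  obtain ⟨ky, hky⟩ := hy
  have hzp : IsPGroup p (Subgroup.zpowers y) := by
    apply IsPGroup.of_card (n := ky)
    rw [Nat.card_zpowers, hky]
  obtain ⟨P, hP⟩ := hzp.exists_le_sylow
  have hyP : y ∈ (P : Subgroup G) := hP (Subgroup.mem_zpowers y)
  haveI : Nontrivial (P : Subgroup G) := ⟨⟨⟨y, hyP⟩, 1, fun h => hy1 (congrArg Subtype.val h)⟩⟩
  haveI := P.isPGroup'.center_nontrivial
  obtain ⟨c, hc1⟩ := exists_ne (1 : Subgroup.center (P : Subgroup G))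
  obtain ⟨u₀, hu₀⟩ : ∃ u₀ : G, u₀ = ((c : (P : Subgroup G)) : G) := ⟨_, rfl⟩
  have hu₀P : u₀ ∈ (P : Subgroup G) := by rw [hu₀]; exact (c : (P : Subgroup G)).2
  have hu₀1 : u₀ ≠ 1 := by
    intro h
    apply hc1
    apply Subtype.ext
    apply Subtype.ext
    rw [← hu₀, h]; rfl
  have hu₀comm : ∀ a ∈ (P : Subgroup G), a * u₀ = u₀ * a := by
    intro a ha
    have h1 := Subgroup.mem_center_iff.mp c.2 ⟨a, ha⟩
    have h2 := congrArg Subtype.val h1
    rw [hu₀]
    exact h2
  -- u₀ lies in C(y)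
  have hu₀X : u₀ ∈ Subgroup.centralizer ({y} : Set G) := by
    rw [Subgroup.mem_centralizer_iff]
    intro w hw
    rw [Set.mem_singleton_iff] at hw
    rw [hw]
    exact hu₀comm y hyP
  have hzu : IsPGroup p (Subgroup.zpowers u₀) := by
    have : Subgroup.zpowers u₀ ≤ (P : Subgroup G) := by
      rw [Subgroup.zpowers_le]; exact hu₀P
    exact P.isPGroup'.to_le this
  obtain ⟨z, hzX, hz⟩ := Cfsg.Agent.helper5.exists_conj_le_of_card p
    (Subgroup.centralizer ({y} : Set G)) Q₁ hQ₁X hQ₁card (Subgroup.zpowers u₀) hzu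
    (by rw [Subgroup.zpowers_le]; exact hu₀X)
  obtain ⟨u', hu'⟩ : ∃ u' : G, u' = z⁻¹ * u₀ * z := ⟨_, rfl⟩
  have hu'Q : u' ∈ Q₁ := by rw [hu']; exact hz u₀ (Subgroup.mem_zpowers u₀)
  have hu'1 : u' ≠ 1 := by
    intro h
    apply hu₀1
    have : u₀ = z * u' * z⁻¹ := by rw [hu']; group
    rw [this, h]; group
  have hu'ord : ∃ j : ℕ, orderOf u' = p ^ j := by
    have h1 : orderOf u' ∣ Nat.card Q₁ := by
      have : orderOf (⟨u', hu'Q⟩ : Q₁) = orderOf u' := Subgroup.orderOf_mk u' hu'Q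
      rw [← this]
      exact orderOf_dvd_natCard _
    rw [hQ₁card] at h1
    obtain ⟨j, _, hj⟩ := (Nat.dvd_prime_pow hpp).mp h1
    exact ⟨j, hj⟩
  have hu'inv : t * u' * t⁻¹ = u'⁻¹ := hQ₁inv u' hu'Q
  -- the p-part of |C(u')| is the p-part of |G|
  have hcardC : (Nat.card (Subgroup.centralizer ({u'} : Set G))).factorization p =
      (Nat.card G).factorization p := by
    have h1 : Nat.card (Subgroup.centralizer ({u'} : Set G)) =
        Nat.card (Subgroup.centralizer ({u₀} : Set G)) := by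
      have := Cfsg.Agent.helper5.card_centralizer_conj u₀ z⁻¹
      rw [inv_inv] at this
      rw [hu']
      exact this
    rw [h1]
    have hPle : (P : Subgroup G) ≤ Subgroup.centralizer ({u₀} : Set G) := by
      intro a ha
      rw [Subgroup.mem_centralizer_iff]
      intro w hw
      rw [Set.mem_singleton_iff] at hw
      rw [hw]
      exact (hu₀comm a ha).symm
    have h2 : Nat.card (P : Subgroup G) ∣ Nat.card (Subgroup.centralizer ({u₀} : Set G)) :=
      Subgroup.card_dvd_of_le hPle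
    rw [Sylow.card_eq_multiplicity P] at h2
    have hne : Nat.card (Subgroup.centralizer ({u₀} : Set G)) ≠ 0 := Nat.card_pos.ne'
    have h3 := (Nat.Prime.pow_dvd_iff_le_factorization hpp hne).mp h2
    have h4 : Nat.card (Subgroup.centralizer ({u₀} : Set G)) ∣ Nat.card G :=
      Subgroup.card_subgroup_dvd_card _
    have h5 := (Nat.factorization_le_iff_dvd hne Nat.card_pos.ne').mpr h4 p
    omega
  obtain ⟨Q₂, hQ₂X, hQ₂card, hQ₂t, hQ₂inv⟩ := stage p hC t u' ht ht1 hu'1 hu'ord hu'inv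
  rw [hcardC] at hQ₂card
  refine ⟨Sylow.ofCard Q₂ hQ₂card, ?_, ?_⟩
  · intro q hq
    rw [Sylow.coe_ofCard] at hq ⊢
    exact hQ₂t q hq
  · intro a ha b hb
    rw [Sylow.coe_ofCard] at ha hb
    exact commute_of_inverts Q₂ t hQ₂inv a ha b hb

/-- Let p be an odd prime and G a finite group of even order divisible by p in which the centralizer of every non-identity p-element has odd order. Then either G has an irreducible character of p-defect zero, or the normalizer of every Sylow p-subgroup P of G has even order and P is abelian. -/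
theorem result {G : Type*} [Group G] [Finite G] (p : ℕ) [Fact p.Prime] (hp2 : p ≠ 2) (hpG : p ∣ Nat.card G) (h2G : 2 ∣ Nat.card G) (hC : ∀ g : G, g ≠ 1 → (∃ k : ℕ, orderOf g = p ^ k) → Odd (Nat.card ↥(Subgroup.centralizer ({g} : Set G)))) : (∃ χ : Cfsg.IrrCharacter G, (Cfsg.charDegree (χ : G → ℂ)).factorization p = (Nat.card G).factorization p) ∨ ∀ P : Sylow p G, Even (Nat.card ↥(Subgroup.normalizer ((P : Subgroup G) : Set G))) ∧ IsMulCommutative ↥(P : Subgroup G) := by
  classical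
  have hpp : p.Prime := Fact.out
  by_cases hdef : ∃ χ : Cfsg.IrrCharacter G,
      (Cfsg.charDegree (χ : G → ℂ)).factorization p = (Nat.card G).factorization p
  · exact Or.inl hdef
  right
  haveI : Fact (Nat.Prime 2) := ⟨Nat.prime_two⟩
  -- an involution
  obtain ⟨z, hz⟩ := exists_prime_orderOf_dvd_card' (G := G) 2 h2G
  have hz1 : z ≠ 1 := by
    intro h
    rw [h, orderOf_one] at hz
    omega
  have hzz : z * z = 1 := by
    rw [← pow_two, ← hz]; exact pow_orderOf_eq_one z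
  have hC2 : ∀ g : G, g ≠ 1 → (∃ k : ℕ, orderOf g = p ^ k) →
      ¬ 2 ∣ Nat.card ↥(Subgroup.centralizer ({g} : Set G)) := by
    intro g hg1 hg h2
    exact (Nat.not_even_iff_odd.mpr (hC g hg1 hg)) (even_iff_two_dvd.mpr h2)
  rcases Cfsg.Agent.S4742.result p 2 hp2 hpG h2G hC2 with h | h
  · exact absurd h hdef
  obtain ⟨g, h', hcg, hch, hne, hord⟩ := h z hz1 ⟨1, by rw [hz, pow_one]⟩
  -- g and h' are involutions
  have hinvol : ∀ w : G, IsConj z w → w * w = 1 ∧ w ≠ 1 := by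
    intro w hw
    obtain ⟨c, hc⟩ := isConj_iff.mp hw
    constructor
    · rw [← hc]
      calc c * z * c⁻¹ * (c * z * c⁻¹) = c * (z * z) * c⁻¹ := by group
        _ = 1 := by rw [hzz]; group
    · intro h1
      apply hz1
      have : z = c⁻¹ * w * c := by rw [← hc]; group
      rw [this, h1]; group
  obtain ⟨hgg, hg1⟩ := hinvol g hcg
  obtain ⟨hhh, hh1⟩ := hinvol h' hch
  have hhi : h'⁻¹ = h' := inv_eq_of_mul_eq_one_right hhh
  have hgi : g⁻¹ = g := inv_eq_of_mul_eq_one_right hgg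
  have hinv : g * (g * h'⁻¹) * g⁻¹ = (g * h'⁻¹)⁻¹ := by
    rw [mul_inv_rev, inv_inv, hhi, hgi]
    calc g * (g * h') * g = (g * g) * h' * g := by group
      _ = h' * g := by rw [hgg, one_mul]
  obtain ⟨Q, hQt, hQab⟩ := core p hC g (g * h'⁻¹) hgg hg1 hne hord hinv
  intro P
  obtain ⟨k, hk⟩ := MulAction.exists_smul_eq G Q P
  have hmem : ∀ x : G, x ∈ (P : Subgroup G) ↔ k⁻¹ * x * k ∈ (Q : Subgroup G) := by
    intro x
    rw [← hk]
    exact Cfsg.Agent.helper5.mem_smul_sylow_iff k x Q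
  constructor
  · -- k g k⁻¹ is an involution in the normalizer of P
    have hs : (k * g * k⁻¹) * (k * g * k⁻¹) = 1 := by
      calc (k * g * k⁻¹) * (k * g * k⁻¹) = k * (g * g) * k⁻¹ := by group
        _ = 1 := by rw [hgg]; group
    have hs1 : k * g * k⁻¹ ≠ 1 := by
      intro h1
      apply hg1
      have : g = k⁻¹ * (k * g * k⁻¹) * k := by group
      rw [this, h1]; group
    have hnorm : k * g * k⁻¹ ∈ Subgroup.normalizer ((P : Subgroup G) : Set G) := by
      apply mem_normalizer_of_invol (P : Subgroup G) _ hs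
      intro q hq
      rw [hmem] at hq ⊢
      have := hQt _ hq
      have h2 : k⁻¹ * (k * g * k⁻¹ * q * (k * g * k⁻¹)⁻¹) * k = g * (k⁻¹ * q * k) * g⁻¹ := by
        group
      rw [h2]
      exact this
    have h3 : orderOf (⟨k * g * k⁻¹, hnorm⟩ : Subgroup.normalizer ((P : Subgroup G) : Set G)) =
        orderOf (k * g * k⁻¹) := Subgroup.orderOf_mk _ hnorm
    rw [even_iff_two_dvd, ← invol_orderOf _ hs hs1, ← h3]
    exact orderOf_dvd_natCard _
  · refine ⟨⟨fun a b => ?_⟩⟩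
    apply Subtype.ext
    have ha := (hmem a).mp a.2
    have hb := (hmem b).mp b.2
    have h1 := hQab _ ha _ hb
    change (a : G) * b = b * a
    calc (a : G) * b = k * ((k⁻¹ * a * k) * (k⁻¹ * b * k)) * k⁻¹ := by group
      _ = k * ((k⁻¹ * b * k) * (k⁻¹ * a * k)) * k⁻¹ := by rw [h1]
      _ = b * a := by group

end Cfsg.Agent.S4744
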