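import Mathlib
import Cfsg.Statements.S4746
import Cfsg.Agent.S4744
import Cfsg.Agent.Lib_helper9_RealOdd

set_option autoImplicit false
open Cfsg

namespace Cfsg.Agent.S4746

/-- Let p be an odd prime and G a finite group of even order divisible by p in which the centralizer of every non-identity p-element has odd order. Then G has an irreducible character of p-defect zero or an irreducible character of even degree. -/
theorem result {G : Type*} [Group G] [Finite G] (p : ℕ) [Fact p.Prime] (hp2 : p ≠ 2) (hpG : p ∣ Nat.card G) (h2G : 2 ∣ Nat.card G) (hC : ∀ g : G, g ≠ 1 → (∃ k : ℕ, orderOf g = p ^ k) → Odd (Nat.card ↥(Subgroup.centralizer ({g} : Set G)))) : (∃ χ : Cfsg.IrrCharacter G, (Cfsg.charDegree (χ : G → ℂ)).factorization p = (Nat.card G).factorization p) ∨ ∃ χ : Cfsg.IrrCharacter G, Even (Cfsg.charDegree (χ : G → ℂ)) := by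
  rcases Cfsg.Agent.S4744.result p hp2 hpG h2G hC with h | h
  · left; exact h
  right
  haveI : Fact (Nat.Prime 2) := ⟨Nat.prime_two⟩
  obtain ⟨P⟩ : Nonempty (Sylow p G) := inferInstance
  obtain ⟨hev, -⟩ := h P
  have hPne : (P : Subgroup G) ≠ ⊥ := Sylow.ne_bot_of_dvd_card P hpG
  obtain ⟨y, hyP, hy1⟩ : ∃ y : G, y ∈ (P : Subgroup G) ∧ y ≠ 1 := by
    obtain ⟨y, hy⟩ := (Subgroup.ne_bot_iff_exists_ne_one).1 hPne
    exact ⟨(y : G), y.2, fun h => hy (Subtype.ext h)⟩
  obtain ⟨t, ht⟩ := exists_prime_orderOf_dvd_card' (G := ↥(Subgroup.normalizer ((P : Subgroup G) : Set G))) 2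
    (even_iff_two_dvd.mp hev)
  have ht2 : (t : G) * t = 1 := by
    have h1 : t ^ 2 = 1 := by rw [← ht]; exact pow_orderOf_eq_one t
    have h2 := congrArg Subtype.val h1
    rw [pow_two] at h2
    exact h2
  have ht1 : (t : G) ≠ 1 := by
    intro h1
    have : t = 1 := Subtype.ext h1
    rw [this, orderOf_one] at ht
    omega
  have hti : (t : G)⁻¹ = t := inv_eq_of_mul_eq_one_right ht2
  have htn : ∀ u ∈ (P : Subgroup G), (t : G) * u * (t : G)⁻¹ ∈ (P : Subgroup G) := fun u hu =>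
    (Subgroup.mem_normalizer_iff.1 t.2 u).1 hu
  have hpel : ∀ u ∈ (P : Subgroup G), ∃ k : ℕ, orderOf u = p ^ k := by
    intro u hu
    obtain ⟨k, hk⟩ := (IsPGroup.iff_orderOf.1 P.isPGroup') ⟨u, hu⟩
    exact ⟨k, by rw [← hk, Subgroup.orderOf_mk]⟩
  set x := y⁻¹ * ((t : G) * y * (t : G)⁻¹) with hx
  have hxP : x ∈ (P : Subgroup G) :=
    (P : Subgroup G).mul_mem ((P : Subgroup G).inv_mem hyP) (htn y hyP)
  have hx1 : x ≠ 1 := by
    intro h1
    have h2 : (t : G) * y * (t : G)⁻¹ = y := by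
      have : (t : G) * y * (t : G)⁻¹ = y * x := by rw [hx]; group
      rw [this, h1, mul_one]
    have h3 : (t : G) ∈ Subgroup.centralizer ({y} : Set G) := by
      rw [Subgroup.mem_centralizer_iff]
      intro u hu
      rw [Set.mem_singleton_iff] at hu
      rw [hu]
      calc y * (t : G) = ((t : G) * y * (t : G)⁻¹) * t := by rw [h2]
        _ = t * y := by group
    have h4 := hC y hy1 (hpel y hyP)
    have h5 : orderOf (⟨(t : G), h3⟩ : Subgroup.centralizer ({y} : Set G)) = 2 := by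
      rw [Subgroup.orderOf_mk]
      rw [← ht, Subgroup.orderOf_coe]
    have h6 : 2 ∣ Nat.card ↥(Subgroup.centralizer ({y} : Set G)) := by
      rw [← h5]; exact orderOf_dvd_natCard _
    rw [Nat.odd_iff] at h4
    omega
  have hreal : IsConj x x⁻¹ := by
    rw [isConj_iff]
    refine ⟨(t : G), ?_⟩
    rw [hx]
    calc (t : G) * (y⁻¹ * ((t : G) * y * (t : G)⁻¹)) * (t : G)⁻¹
        = ((t : G) * y * (t : G)⁻¹)⁻¹ * (((t : G) * t) * y * ((t : G) * t)⁻¹) := by group
      _ = (y⁻¹ * ((t : G) * y * (t : G)⁻¹))⁻¹ := by rw [ht2]; group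
  exact Cfsg.Agent.helper9.RealOdd.exists_even_degree x hx1 hreal (hC x hx1 (hpel x hxP))

end Cfsg.Agent.S4746
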