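import Cfsg.Statements.S4750
import Cfsg.Agent.Lib_helper23_Lat4
import Cfsg.Agent.Lib_helper23_Orth
import Cfsg.Agent.Lib_helper23_Eigen
import Cfsg.Agent.Lib_helper24_CharBasic

set_option autoImplicit false
open scoped Pointwise
open Cfsg

namespace Cfsg.Agent.S4750

open scoped Classical ComplexConjugate in
/-- The norm of a character is the dimension of the invariants of the conjugation representation. -/
theorem norm_eq_finrank {K : Type*} [Group K] [Fintype K] {n : ℕ}
    (ρ : Representation ℂ K (Fin n → ℂ)) :
    Cfsg.classInner ρ.character ρ.character
      = (Module.finrank ℂ (Representation.invariants (Representation.linHom ρ ρ)) : ℂ) := by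
  letI := Cfsg.Agent.helper23.invertibleCard K
  rw [← Representation.card_inv_mul_sum_char_eq_finrank]
  unfold Cfsg.classInner
  congr 1
  apply Finset.sum_congr rfl
  intro g _
  rw [Representation.char_linHom, ← Cfsg.Agent.helper24.rep_char_inv ρ g, mul_comm]

/-- Let P be a Sylow p-subgroup of the finite group G that meets each conjugate g P g⁻¹ with g outside N_G(P) trivially, χ a character of G with χ(1)² ≤ |P|, and H a subgroup of G containing N_G(P). Then the inner product of χ with itself over G equals the inner product over H of the restriction of χ to H. -/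
theorem result {G : Type*} [Group G] [Fintype G] [DecidableEq G] (p : ℕ) [Fact p.Prime] (P : Sylow p G) (hTI : ∀ g : G, g ∉ Subgroup.normalizer ((P : Subgroup G) : Set G) → (P : Subgroup G) ⊓ (MulAut.conj g • (P : Subgroup G)) = ⊥) (χ : G → ℂ) (hχ : Cfsg.IsCharacter G χ) (hdeg : Cfsg.charDegree χ ^ 2 ≤ Nat.card ↥(P : Subgroup G)) (H : Subgroup G) [Fintype ↥H] (hH : Subgroup.normalizer ((P : Subgroup G) : Set G) ≤ H) : Cfsg.classInner χ χ = Cfsg.classInner (fun h : ↥H => χ h) (fun h : ↥H => χ h) := by
  classical
  obtain ⟨n, ρ, rfl⟩ := hχ
  have hn : Cfsg.charDegree ρ.character = n := Cfsg.Agent.helper23.charDegree_character n ρ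
  rw [hn] at hdeg
  -- the restricted representation
  let ρH : Representation ℂ H (Fin n → ℂ) := ρ.comp H.subtype
  have hχH : (fun h : ↥H => ρ.character h) = ρH.character := by
    funext h
    rfl
  rw [hχH, norm_eq_finrank ρ, norm_eq_finrank ρH]
  have hτH : ∀ (h : H) (f : (Fin n → ℂ) →ₗ[ℂ] (Fin n → ℂ)),
      Representation.linHom ρH ρH h f = Representation.linHom ρ ρ (h : G) f := by
    intro h f
    rw [Representation.linHom_apply, Representation.linHom_apply]
    rfl
  have hdimW : Module.finrank ℂ ((Fin n → ℂ) →ₗ[ℂ] (Fin n → ℂ)) = n * n := by
    rw [Module.finrank_linearMap, Module.finrank_fin_fun]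
  have heq : Representation.invariants (Representation.linHom ρ ρ)
      = Representation.invariants (Representation.linHom ρH ρH) := by
    ext f
    rw [Representation.mem_invariants, Representation.mem_invariants]
    constructor
    · intro hf h
      rw [hτH]
      exact hf h
    · intro hf
      rcases Nat.eq_zero_or_pos n with h0 | hpos
      · subst h0
        intro g
        apply LinearMap.ext
        intro z
        exact Subsingleton.elim _ _
      · apply Cfsg.Agent.helper23.Lat.invariant_of_normalizer_invariant P hTI
          (Representation.linHom ρ ρ) (by rw [hdimW, ← sq]; exact hdeg) LinearMap.id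
        · intro g
          rw [Representation.linHom_apply]
          apply LinearMap.ext
          intro z
          simp only [LinearMap.comp_apply, LinearMap.id_apply]
          have : ρ g (ρ g⁻¹ z) = (ρ (g * g⁻¹)) z := by rw [map_mul]; rfl
          rw [this, mul_inv_cancel, map_one]
          rfl
        · intro hid
          have h1 := LinearMap.congr_fun hid (fun _ => (1 : ℂ))
          have h2 := congrFun h1 ⟨0, hpos⟩
          simp at h2
        · intro m hm
          have := hf ⟨m, hH hm⟩
          rw [hτH] at this
          exact this
  rw [heq]

end Cfsg.Agent.S4750
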