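import Cfsg.Statements.S4754
import Cfsg.Agent.Lib_helper23_ClassSum
import Cfsg.Agent.Lib_helper24_Char

set_option autoImplicit false
open Cfsg

namespace Cfsg.Agent.S4754

open Cfsg.Agent.helper23 Cfsg.Agent.helper24
open scoped ComplexConjugate

/-- For elements x, y of a finite group G, the conjugacy class of x y equals the set of all products of a conjugate of x with a conjugate of y if and only if χ(1) χ(a x a⁻¹ b y b⁻¹) = χ(x) χ(y) for all a, b ∈ G and every irreducible character χ. -/
theorem result {G : Type*} [Group G] [Finite G] (x y : G) : (∀ z : G, IsConj (x * y) z ↔ ∃ a b : G, z = a * x * a⁻¹ * (b * y * b⁻¹)) ↔ ∀ (a b : G) (χ : Cfsg.IrrCharacter G), (χ : G → ℂ) 1 * (χ : G → ℂ) (a * x * a⁻¹ * (b * y * b⁻¹)) = (χ : G → ℂ) x * (χ : G → ℂ) y := by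
  classical
  have hfinG := Fintype.ofFinite G
  have hfinI := Fintype.ofFinite (Cfsg.IrrCharacter G)
  have hcard : (Nat.card G : ℂ) ≠ 0 := by
    have : Nat.card G ≠ 0 := Nat.card_pos.ne'
    exact_mod_cast this
  constructor
  · intro hcls a b χ
    have hcf : ∀ u v : G, IsConj u v → (χ : G → ℂ) u = (χ : G → ℂ) v :=
      isClassFunction_iff_isConj.mp (char_isClassFunction (irr_isCharacter χ.2))
    have hval : ∀ a b : G, (χ : G → ℂ) (a * x * a⁻¹ * (b * y * b⁻¹)) = (χ : G → ℂ) (x * y) :=
      fun a b => (hcf _ _ ((hcls _).mpr ⟨a, b, rfl⟩)).symm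
    have hGO := irr_sum_conj_mul χ x y
    have h1 : ∀ g : G, (χ : G → ℂ) (g * x * g⁻¹ * y) = (χ : G → ℂ) (x * y) := by
      intro g
      have := hval g 1
      simpa using this
    simp_rw [h1] at hGO
    rw [Finset.sum_const, Finset.card_univ, nsmul_eq_mul, Fintype.card_eq_nat_card] at hGO
    have h1ne : (χ : G → ℂ) 1 ≠ 0 := irr_apply_one_ne_zero χ.2
    rw [hval a b]
    field_simp at hGO
    rw [mul_comm]
    exact hGO
  · intro hid z
    constructor
    · intro hz
      obtain ⟨c, hc⟩ := isConj_iff.mp hz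
      exact ⟨c, c, by rw [← hc]; group⟩
    · rintro ⟨a, b, rfl⟩
      have hval : ∀ χ : Cfsg.IrrCharacter G,
          (χ : G → ℂ) (x * y) = (χ : G → ℂ) (a * x * a⁻¹ * (b * y * b⁻¹)) := by
        intro χ
        have h1ne : (χ : G → ℂ) 1 ≠ 0 := irr_apply_one_ne_zero χ.2
        have e1 := hid a b χ
        have e2 := hid 1 1 χ
        simp only [one_mul, inv_one, mul_one] at e2
        apply mul_left_cancel₀ h1ne
        rw [e1, e2]
      have hco := irr_column_orthogonality (G := G) (x * y) (a * x * a⁻¹ * (b * y * b⁻¹))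
      have hco2 := irr_column_orthogonality (G := G) (a * x * a⁻¹ * (b * y * b⁻¹))
        (a * x * a⁻¹ * (b * y * b⁻¹))
      rw [if_pos (IsConj.refl _)] at hco2
      simp_rw [hval] at hco
      rw [hco2] at hco
      by_contra hnc
      rw [if_neg hnc] at hco
      have : Nat.card (Subgroup.centralizer ({a * x * a⁻¹ * (b * y * b⁻¹)} : Set G)) ≠ 0 :=
        Nat.card_pos.ne'
      exact this (by exact_mod_cast hco)

end Cfsg.Agent.S4754
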