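import Cfsg.Statements.S4755
import Cfsg.Agent.Lib_helper23_ClassSum
import Cfsg.Agent.Lib_helper23_Linear
import Cfsg.Agent.Lib_helper24_Char

set_option autoImplicit false
open Cfsg

namespace Cfsg.Agent.S4755

open Cfsg.Agent.helper23 Cfsg.Agent.helper24
open scoped ComplexConjugate commutatorElement

/-- If all irreducible characters agree at `u` and `v` (up to the terms where both sides are
handled), then `u` and `v` are conjugate: column orthogonality criterion. -/
theorem isConj_of_sum_eq {G : Type*} [Group G] [Finite G] [Fintype (Cfsg.IrrCharacter G)] (u v : G)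
    (h : ∀ χ : Cfsg.IrrCharacter G,
      (χ : G → ℂ) u * conj ((χ : G → ℂ) v) = (χ : G → ℂ) v * conj ((χ : G → ℂ) v)) :
    IsConj u v := by
  classical
  have hco := irr_column_orthogonality (G := G) u v
  have hco2 := irr_column_orthogonality (G := G) v v
  rw [if_pos (IsConj.refl _)] at hco2
  simp_rw [h] at hco
  rw [hco2] at hco
  by_contra hnc
  rw [if_neg hnc] at hco
  have : Nat.card (Subgroup.centralizer ({v} : Set G)) ≠ 0 := Nat.card_pos.ne'
  exact this (by exact_mod_cast hco)

/-- Let x, y be non-identity elements of the finite group G such that χ(x' y') = χ(x') χ(y') for all conjugates x' of x, y' of y and every irreducible character χ. Then the conjugacy class of x y is the set of all products of a conjugate of x with a conjugate of y; every irreducible character of degree greater than 1 vanishes at x y; and the conjugacy class of x y is the coset of the commutator subgroup containing x y. -/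
theorem result {G : Type*} [Group G] [Finite G] (x y : G) (hx : x ≠ 1) (hy : y ≠ 1) (h : ∀ (a b : G) (χ : Cfsg.IrrCharacter G), (χ : G → ℂ) (a * x * a⁻¹ * (b * y * b⁻¹)) = (χ : G → ℂ) (a * x * a⁻¹) * (χ : G → ℂ) (b * y * b⁻¹)) : (∀ z : G, IsConj (x * y) z ↔ ∃ a b : G, z = a * x * a⁻¹ * (b * y * b⁻¹)) ∧ (∀ χ : Cfsg.IrrCharacter G, (χ : G → ℂ) 1 ≠ 1 → (χ : G → ℂ) (x * y) = 0) ∧ (∀ z : G, IsConj (x * y) z ↔ (x * y)⁻¹ * z ∈ commutator G) := by
  classical
  have hfinG := Fintype.ofFinite G
  have hfinI := Fintype.ofFinite (Cfsg.IrrCharacter G)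
  have hcard : (Nat.card G : ℂ) ≠ 0 := by
    have : Nat.card G ≠ 0 := Nat.card_pos.ne'
    exact_mod_cast this
  have hcf : ∀ (χ : Cfsg.IrrCharacter G) (u v : G), IsConj u v → (χ : G → ℂ) u = (χ : G → ℂ) v :=
    fun χ => isClassFunction_iff_isConj.mp (char_isClassFunction (irr_isCharacter χ.2))
  have hcx : ∀ (χ : Cfsg.IrrCharacter G) (a : G), (χ : G → ℂ) (a * x * a⁻¹) = (χ : G → ℂ) x :=
    fun χ a => char_isClassFunction (irr_isCharacter χ.2) x a
  have hcy : ∀ (χ : Cfsg.IrrCharacter G) (a : G), (χ : G → ℂ) (a * y * a⁻¹) = (χ : G → ℂ) y :=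
    fun χ a => char_isClassFunction (irr_isCharacter χ.2) y a
  -- value at any product of conjugates
  have hval : ∀ (χ : Cfsg.IrrCharacter G) (a b : G),
      (χ : G → ℂ) (a * x * a⁻¹ * (b * y * b⁻¹)) = (χ : G → ℂ) x * (χ : G → ℂ) y := by
    intro χ a b
    rw [h a b χ, hcx, hcy]
  have hxy : ∀ χ : Cfsg.IrrCharacter G, (χ : G → ℂ) (x * y) = (χ : G → ℂ) x * (χ : G → ℂ) y := by
    intro χ
    have := hval χ 1 1
    simpa using this
  -- part 2
  have hvanish : ∀ χ : Cfsg.IrrCharacter G, (χ : G → ℂ) 1 ≠ 1 → (χ : G → ℂ) (x * y) = 0 := by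
    intro χ hχ1
    have hGO := irr_sum_conj_mul χ x y
    have h1 : ∀ g : G, (χ : G → ℂ) (g * x * g⁻¹ * y) = (χ : G → ℂ) x * (χ : G → ℂ) y := by
      intro g
      have := hval χ g 1
      simpa using this
    simp_rw [h1] at hGO
    rw [Finset.sum_const, Finset.card_univ, nsmul_eq_mul, Fintype.card_eq_nat_card] at hGO
    have h1ne : (χ : G → ℂ) 1 ≠ 0 := irr_apply_one_ne_zero χ.2
    rw [hxy χ]
    field_simp at hGO
    have h2 : ((χ : G → ℂ) x * (χ : G → ℂ) y) * ((χ : G → ℂ) 1 - 1) = 0 := by
      linear_combination hGO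
    rcases mul_eq_zero.mp h2 with h3 | h3
    · exact h3
    · exact absurd (sub_eq_zero.mp h3) hχ1
  refine ⟨?_, hvanish, ?_⟩
  · intro z
    constructor
    · intro hz
      obtain ⟨c, hc⟩ := isConj_iff.mp hz
      exact ⟨c, c, by rw [← hc]; group⟩
    · rintro ⟨a, b, rfl⟩
      apply isConj_of_sum_eq
      intro χ
      rw [hval χ a b, hxy χ]
  · intro z
    constructor
    · intro hz
      obtain ⟨c, hc⟩ := isConj_iff.mp hz
      rw [← hc]
      have : (x * y)⁻¹ * (c * (x * y) * c⁻¹) = ⁅(x * y)⁻¹, c⁆ := by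
        rw [commutatorElement_def]; group
      rw [this]
      exact Subgroup.commutator_mem_commutator (Subgroup.mem_top _) (Subgroup.mem_top _)
    · intro hz
      apply IsConj.symm
      apply isConj_of_sum_eq
      intro χ
      by_cases hχ1 : (χ : G → ℂ) 1 = 1
      · have hzz : z = (x * y) * ((x * y)⁻¹ * z) := by group
        have : (χ : G → ℂ) z = (χ : G → ℂ) (x * y) := by
          conv_lhs => rw [hzz]
          exact linear_char_mul_commutator (irr_isCharacter χ.2) hχ1 _ _ hz
        rw [this]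
      · rw [hvanish χ hχ1]
        simp

end Cfsg.Agent.S4755
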