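import Cfsg.Statements.S4757
import Cfsg.Agent.Lib_helper23_LinChar
import Cfsg.Agent.Lib_helper24_Char
import Cfsg.Agent.Lib_helper1_Core
import Cfsg.Agent.Lib_helper5_Sylow

set_option autoImplicit false
open Cfsg

namespace Cfsg.Agent.S4757

open Cfsg.Agent.helper23 Cfsg.Agent.helper24
open scoped ComplexConjugate commutatorElement

section
variable {G : Type*} [Group G] [Finite G]

theorem E1 [Fintype (Cfsg.IrrCharacter G)] (u : G) (hu : u ≠ 1) :
    ∑ χ : Cfsg.IrrCharacter G, (χ : G → ℂ) u * (χ : G → ℂ) 1 = 0 := by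
  have h := irr_column_orthogonality (G := G) u 1
  rw [if_neg (by rw [isConj_one_left]; exact hu)] at h
  rw [← h]
  apply Finset.sum_congr rfl
  intro χ _
  obtain ⟨n, hn⟩ := char_apply_one (irr_isCharacter χ.2)
  rw [hn, Complex.conj_natCast]

theorem E2 [Fintype (Cfsg.IrrCharacter G)] (u : G) :
    ∑ χ : Cfsg.IrrCharacter G, (χ : G → ℂ) u * conj ((χ : G → ℂ) u) =
      (Nat.card (Subgroup.centralizer ({u} : Set G)) : ℂ) := by
  have h := irr_column_orthogonality (G := G) u u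
  rw [if_pos (IsConj.refl u)] at h
  exact h

theorem all_zero_of_nonneg [Fintype (Cfsg.IrrCharacter G)] (f : Cfsg.IrrCharacter G → ℂ)
    (hf : ∀ χ, ∃ r : ℝ, 0 ≤ r ∧ f χ = (r : ℂ)) (h0 : ∑ χ, f χ = 0) : ∀ χ, f χ = 0 := by
  have h2 : (∑ χ, f χ).re = 0 := by rw [h0]; simp
  rw [Complex.re_sum] at h2
  have h3 : ∀ χ ∈ Finset.univ, 0 ≤ (f χ).re := by
    intro χ _
    obtain ⟨r, hr, hfr⟩ := hf χ
    rw [hfr]
    simpa using hr
  intro χ
  have h4 := (Finset.sum_eq_zero_iff_of_nonneg h3).mp h2 χ (Finset.mem_univ _)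
  obtain ⟨r, hr, hfr⟩ := hf χ
  rw [hfr] at h4 ⊢
  simp at h4
  rw [h4]
  simp

theorem sum_ne_zero_of_nonneg [Fintype (Cfsg.IrrCharacter G)] (f : Cfsg.IrrCharacter G → ℂ)
    (hf : ∀ χ, ∃ r : ℝ, 0 ≤ r ∧ f χ = (r : ℂ)) (χ₁ : Cfsg.IrrCharacter G) (h1 : f χ₁ = 1) :
    ∑ χ, f χ ≠ 0 := by
  intro h0
  have := all_zero_of_nonneg f hf h0 χ₁
  rw [h1] at this
  exact one_ne_zero this

theorem eq_one_of_linear_of_perfect (hperf : commutator G = ⊤) (χ : Cfsg.IrrCharacter G)
    (h1 : (χ : G → ℂ) 1 = 1) : (χ : G → ℂ) = fun _ => 1 := by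
  funext g
  have := linear_char_mul_commutator (irr_isCharacter χ.2) h1 1 g (by rw [hperf]; trivial)
  rw [one_mul] at this
  rw [this, h1]

theorem irrOne_apply (g : G) : (irrOne G : G → ℂ) g = 1 := rfl

/-- (c) → (b) -/
theorem not_perfect_of_c_two [Fintype (Cfsg.IrrCharacter G)] (u : G) (hu : u ≠ 1)
    (hyp : ∀ χ : Cfsg.IrrCharacter G, (χ : G → ℂ) ≠ (fun _ => (1 : ℂ)) →
      ((χ : G → ℂ) 1 - (χ : G → ℂ) u = 2 ∨ (χ : G → ℂ) u = 0)) : commutator G ≠ ⊤ := by
  intro hperf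
  apply sum_ne_zero_of_nonneg (fun χ => (χ : G → ℂ) u * (χ : G → ℂ) 1) ?_ (irrOne G)
    (by simp [irrOne_apply]) (E1 u hu)
  intro χ
  obtain ⟨d, hd0, hd⟩ := irr_apply_one χ.2
  by_cases hχ : (χ : G → ℂ) = fun _ => 1
  · exact ⟨1, zero_le_one, by simp only [hχ]; simp⟩
  · have hd2 : 2 ≤ d := by
      by_contra hlt
      have hd1 : d = 1 := by omega
      apply hχ
      apply eq_one_of_linear_of_perfect hperf
      rw [hd, hd1]; simp
    rcases hyp χ hχ with h | h
    · have hu' : (χ : G → ℂ) u = (d : ℂ) - 2 := by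
        rw [← hd]; linear_combination -h
      refine ⟨((d : ℝ) - 2) * d, ?_, ?_⟩
      · have : (2 : ℝ) ≤ d := by exact_mod_cast hd2
        have h1 : (0 : ℝ) ≤ (d : ℝ) - 2 := by linarith
        positivity
      · simp only [hu', hd]; push_cast; ring
    · exact ⟨0, le_refl _, by simp only [h]; simp⟩

theorem hom_val (u : G) (c : ℂ)
    (hyp : ∀ χ : Cfsg.IrrCharacter G, (χ : G → ℂ) ≠ (fun _ => (1 : ℂ)) →
      ((χ : G → ℂ) 1 - (χ : G → ℂ) u = c ∨ (χ : G → ℂ) u = 0)) (lam : G →* ℂˣ) (hlam : lam ≠ 1) :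
    ((lam u : ℂˣ) : ℂ) = 1 - c := by
  have hne : (linIrr lam : G → ℂ) ≠ fun _ => (1 : ℂ) := by
    intro h
    apply hlam
    ext g
    have := congrFun h g
    rw [linIrr_apply] at this
    simpa using this
  rcases hyp (linIrr lam) hne with h | h
  · rw [linIrr_apply, linIrr_apply, map_one, Units.val_one] at h
    linear_combination -h
  · rw [linIrr_apply] at h
    exact absurd h (Units.ne_zero _)

/-- (b) → (c) -/
theorem c_two_of_not_perfect [Fintype (Cfsg.IrrCharacter G)] (u : G) (hu : u ≠ 1) (c : ℂ)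
    (hyp : ∀ χ : Cfsg.IrrCharacter G, (χ : G → ℂ) ≠ (fun _ => (1 : ℂ)) →
      ((χ : G → ℂ) 1 - (χ : G → ℂ) u = c ∨ (χ : G → ℂ) u = 0))
    (hnp : commutator G ≠ ⊤) : c = 2 := by
  obtain ⟨lam, hlam⟩ := exists_nontrivial_hom hnp
  have hval := hom_val u c hyp
  have hc0 : c ≠ 0 := by
    intro hc
    apply sum_ne_zero_of_nonneg (fun χ => (χ : G → ℂ) u * (χ : G → ℂ) 1) ?_ (irrOne G)
      (by simp [irrOne_apply]) (E1 u hu)
    intro χ
    obtain ⟨d, hd0, hd⟩ := irr_apply_one χ.2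
    by_cases hχ : (χ : G → ℂ) = fun _ => 1
    · exact ⟨1, zero_le_one, by simp only [hχ]; simp⟩
    · rcases hyp χ hχ with h | h
      · have hu' : (χ : G → ℂ) u = (d : ℂ) := by
          rw [← hd]; rw [hc] at h; linear_combination -h
        exact ⟨(d : ℝ) * d, by positivity, by simp only [hu', hd]; push_cast; ring⟩
      · exact ⟨0, le_refl _, by simp only [h]; simp⟩
  have h1 : ((lam u : ℂˣ) : ℂ) = 1 - c := hval lam hlam
  by_cases h2 : lam * lam = 1
  · have h3 : ((lam u : ℂˣ) : ℂ) * ((lam u : ℂˣ) : ℂ) = 1 := by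
      have := congrArg (fun φ : G →* ℂˣ => ((φ u : ℂˣ) : ℂ)) h2
      simpa using this
    rw [h1] at h3
    have h4 : c * (c - 2) = 0 := by linear_combination h3
    rcases mul_eq_zero.mp h4 with h | h
    · exact absurd h hc0
    · linear_combination h
  · have h3 := hval (lam * lam) h2
    have h4 : ((lam u : ℂˣ) : ℂ) * ((lam u : ℂˣ) : ℂ) = 1 - c := by simpa using h3
    rw [h1] at h4
    have h5 : (1 - c) * c = 0 := by linear_combination -h4
    rcases mul_eq_zero.mp h5 with h | h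
    · exfalso
      rw [h] at h1
      exact Units.ne_zero _ h1
    · exact absurd h hc0

/-- elements of `zpowers u` when `u` has order two -/
theorem mem_zpowers_order_two (u z : G) (h2 : orderOf u = 2) (hz : z ∈ Subgroup.zpowers u) :
    z = 1 ∨ z = u := by
  obtain ⟨k, rfl⟩ := Subgroup.mem_zpowers_iff.mp hz
  have h := zpow_mod_orderOf u k
  rw [h2] at h
  rcases Int.emod_two_eq_zero_or_one k with h0 | h0
  · left
    rw [← h]
    simp only [Nat.cast_ofNat, h0, zpow_zero]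
  · right
    rw [← h]
    simp only [Nat.cast_ofNat, h0, zpow_one]

/-- group-theoretic part of (b) → (a) -/
theorem group_part (u : G) (hu : u ≠ 1)
    (hcard : Nat.card (Subgroup.centralizer ({u} : Set G)) = 2) (lam₀ : G →* ℂˣ)
    (hl : ((lam₀ u : ℂˣ) : ℂ) = -1)
    (hl2 : ∀ g, ((lam₀ g : ℂˣ) : ℂ) = 1 ∨ ((lam₀ g : ℂˣ) : ℂ) = -1) :
    orderOf u = 2 ∧ Subgroup.zpowers u ⊔ Cfsg.oddCore G = ⊤ ∧
      Subgroup.centralizer ({u} : Set G) = Subgroup.zpowers u := by
  haveI : Fact (Nat.Prime 2) := ⟨Nat.prime_two⟩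
  have hle : Subgroup.zpowers u ≤ Subgroup.centralizer ({u} : Set G) := by
    rw [Subgroup.zpowers_le, Subgroup.mem_centralizer_iff]
    intro w hw
    rw [Set.mem_singleton_iff] at hw
    rw [hw]
  have hord : orderOf u = 2 := by
    have h1 : Nat.card (Subgroup.zpowers u) ∣ 2 := by
      rw [← hcard]; exact Subgroup.card_dvd_of_le hle
    rw [Nat.card_zpowers] at h1
    rcases (Nat.dvd_prime Nat.prime_two).mp h1 with h | h
    · exact absurd (orderOf_eq_one_iff.mp h) hu
    · exact h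
  have heq : Subgroup.centralizer ({u} : Set G) = Subgroup.zpowers u := by
    symm
    apply Subgroup.eq_of_le_of_card_ge hle
    rw [hcard, Nat.card_zpowers, hord]
  refine ⟨hord, ?_, heq⟩
  -- a Sylow 2-subgroup containing u is ⟨u⟩
  have hzp : IsPGroup 2 (Subgroup.zpowers u) := by
    apply IsPGroup.of_card (n := 1)
    rw [Nat.card_zpowers, hord, pow_one]
  obtain ⟨T, hT⟩ := hzp.exists_le_sylow
  have huT : u ∈ (T : Subgroup G) := hT (Subgroup.mem_zpowers u)
  haveI : Nontrivial (T : Subgroup G) := ⟨⟨⟨u, huT⟩, 1, fun h => hu (congrArg Subtype.val h)⟩⟩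
  haveI := T.isPGroup'.center_nontrivial
  obtain ⟨z, hz1⟩ := exists_ne (1 : Subgroup.center (T : Subgroup G))
  have hzcomm : ∀ a ∈ (T : Subgroup G), a * ((z : (T : Subgroup G)) : G) = ((z : (T : Subgroup G)) : G) * a := by
    intro a ha
    have h1 := Subgroup.mem_center_iff.mp z.2 ⟨a, ha⟩
    exact congrArg Subtype.val h1
  have hzG1 : ((z : (T : Subgroup G)) : G) ≠ 1 := by
    intro h
    apply hz1
    apply Subtype.ext
    apply Subtype.ext
    rw [h]; rfl
  have hzu : ((z : (T : Subgroup G)) : G) = u := by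
    have hzmem : ((z : (T : Subgroup G)) : G) ∈ Subgroup.centralizer ({u} : Set G) := by
      rw [Subgroup.mem_centralizer_iff]
      intro w hw
      rw [Set.mem_singleton_iff] at hw
      rw [hw]
      exact hzcomm u huT
    rw [heq] at hzmem
    rcases mem_zpowers_order_two u _ hord hzmem with h | h
    · exact absurd h hzG1
    · exact h
  have hTle : (T : Subgroup G) ≤ Subgroup.zpowers u := by
    rw [← heq]
    intro a ha
    rw [Subgroup.mem_centralizer_iff]
    intro w hw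
    rw [Set.mem_singleton_iff] at hw
    rw [hw, ← hzu]
    exact (hzcomm a ha).symm
  -- the kernel of lam₀ has odd order
  have hKodd : (Nat.card lam₀.ker).Coprime 2 := by
    rw [Nat.coprime_comm, Nat.Prime.coprime_iff_not_dvd Nat.prime_two]
    intro hdvd
    obtain ⟨s, hs⟩ := exists_prime_orderOf_dvd_card' (G := lam₀.ker) 2 hdvd
    have hsG : orderOf (s : G) = 2 := by rw [Subgroup.orderOf_coe]; exact hs
    have hs1 : (s : G) ≠ 1 := by
      intro h
      rw [h, orderOf_one] at hsG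
      omega
    have hzs : IsPGroup 2 (Subgroup.zpowers (s : G)) := by
      apply IsPGroup.of_card (n := 1)
      rw [Nat.card_zpowers, hsG, pow_one]
    obtain ⟨T', hT'⟩ := hzs.exists_le_sylow
    obtain ⟨k, hk⟩ := MulAction.exists_smul_eq G T T'
    have hsT' : (s : G) ∈ ((k • T : Sylow 2 G) : Subgroup G) := by
      rw [hk]; exact hT' (Subgroup.mem_zpowers _)
    rw [Cfsg.Agent.helper5.mem_smul_sylow_iff] at hsT'
    rcases mem_zpowers_order_two u _ hord (hTle hsT') with h | h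
    · apply hs1
      have : (s : G) = k * (k⁻¹ * (s : G) * k) * k⁻¹ := by group
      rw [this, h]; group
    · have h3 : lam₀ (k⁻¹ * (s : G) * k) = lam₀ (s : G) := by
        rw [map_mul, map_mul, map_inv]
        rw [mul_comm ((lam₀ k)⁻¹), mul_assoc, inv_mul_cancel, mul_one]
      have h4 : lam₀ (s : G) = 1 := s.2
      rw [h, h4] at h3
      have h5 := hl
      rw [h3] at h5
      simp at h5
      norm_num at h5
  have hKle : lam₀.ker ≤ Cfsg.oddCore G :=
    Cfsg.Agent.helper1.le_pPrimeCore (MonoidHom.normal_ker lam₀) hKodd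
  rw [eq_top_iff]
  intro g _
  rcases hl2 g with h | h
  · apply Subgroup.mem_sup_right
    apply hKle
    rw [MonoidHom.mem_ker]
    exact Units.ext h
  · have h6 : u⁻¹ * g ∈ lam₀.ker := by
      rw [MonoidHom.mem_ker]
      apply Units.ext
      rw [map_mul, map_inv, Units.val_mul, Units.val_inv_eq_inv_val, hl, h]
      norm_num
    have h7 : g = u * (u⁻¹ * g) := by group
    rw [h7]
    exact Subgroup.mul_mem _ (Subgroup.mem_sup_left (Subgroup.mem_zpowers u))
      (Subgroup.mem_sup_right (hKle h6))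

/-- (a) → (b) -/
theorem not_perfect_of_structure (u : G) (h2 : orderOf u = 2)
    (hsup : Subgroup.zpowers u ⊔ Cfsg.oddCore G = ⊤) : commutator G ≠ ⊤ := by
  intro hperf
  haveI hON : (Cfsg.oddCore G).Normal := Cfsg.Agent.helper1.pPrimeCore_normal 2
  have hOcop : (Nat.card (Cfsg.oddCore G)).Coprime 2 := Cfsg.Agent.helper1.pPrimeCore_coprime 2
  -- every element is u^k * n
  have hdecomp : ∀ g : G, ∃ k : ℤ, ∃ n ∈ Cfsg.oddCore G, g = u ^ k * n := by
    intro g
    have hg : g ∈ ((Subgroup.zpowers u ⊔ Cfsg.oddCore G : Subgroup G) : Set G) := by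
      rw [hsup]; trivial
    rw [Subgroup.mul_normal] at hg
    obtain ⟨a, ha, n, hn, rfl⟩ := Set.mem_mul.mp hg
    obtain ⟨k, rfl⟩ := Subgroup.mem_zpowers_iff.mp ha
    exact ⟨k, n, hn, rfl⟩
  have hcomm : ∀ a b : G, ⁅a, b⁆ ∈ Cfsg.oddCore G := by
    intro a b
    obtain ⟨i, n₁, hn₁, rfl⟩ := hdecomp a
    obtain ⟨j, n₂, hn₂, rfl⟩ := hdecomp b
    rw [← QuotientGroup.eq_one_iff (N := Cfsg.oddCore G)]
    have h1 : ((n₁ : G) : G ⧸ Cfsg.oddCore G) = 1 := (QuotientGroup.eq_one_iff n₁).mpr hn₁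
    have h2' : ((n₂ : G) : G ⧸ Cfsg.oddCore G) = 1 := (QuotientGroup.eq_one_iff n₂).mpr hn₂
    have ha : ((u ^ i * n₁ : G) : G ⧸ Cfsg.oddCore G) = (u : G ⧸ Cfsg.oddCore G) ^ i := by
      rw [QuotientGroup.mk_mul, h1, mul_one, QuotientGroup.mk_zpow]
    have hb : ((u ^ j * n₂ : G) : G ⧸ Cfsg.oddCore G) = (u : G ⧸ Cfsg.oddCore G) ^ j := by
      rw [QuotientGroup.mk_mul, h2', mul_one, QuotientGroup.mk_zpow]
    have h3 : ((⁅u ^ i * n₁, u ^ j * n₂⁆ : G) : G ⧸ Cfsg.oddCore G) =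
        ⁅((u ^ i * n₁ : G) : G ⧸ Cfsg.oddCore G), ((u ^ j * n₂ : G) : G ⧸ Cfsg.oddCore G)⁆ :=
      map_commutatorElement (QuotientGroup.mk' (Cfsg.oddCore G)) _ _
    rw [h3, ha, hb, commutatorElement_eq_one_iff_commute]
    exact (Commute.refl _).zpow_zpow i j
  have hle : commutator G ≤ Cfsg.oddCore G := by
    rw [commutator_def, Subgroup.commutator_le]
    intro a _ b _
    exact hcomm a b
  rw [hperf, top_le_iff] at hle
  have h3 : Nat.card (Cfsg.oddCore G) = Nat.card G := by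
    rw [hle]; exact Subgroup.card_top
  rw [h3] at hOcop
  have h4 : 2 ∣ Nat.card G := by
    rw [← h2]; exact orderOf_dvd_natCard u
  have := Nat.Coprime.eq_one_of_dvd hOcop.symm h4
  omega

/-- (b) → (a), given c = 2 -/
theorem structure_of_not_perfect [Fintype (Cfsg.IrrCharacter G)] (u : G) (hu : u ≠ 1)
    (hyp : ∀ χ : Cfsg.IrrCharacter G, (χ : G → ℂ) ≠ (fun _ => (1 : ℂ)) →
      ((χ : G → ℂ) 1 - (χ : G → ℂ) u = 2 ∨ (χ : G → ℂ) u = 0))
    (hnp : commutator G ≠ ⊤) :
    orderOf u = 2 ∧ Subgroup.zpowers u ⊔ Cfsg.oddCore G = ⊤ ∧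
      Subgroup.centralizer ({u} : Set G) = Subgroup.zpowers u := by
  classical
  obtain ⟨lam₀, hlam₀⟩ := exists_nontrivial_hom hnp
  have hval : ∀ lam : G →* ℂˣ, lam ≠ 1 → ((lam u : ℂˣ) : ℂ) = -1 := by
    intro lam hlam
    have := hom_val u 2 hyp lam hlam
    rw [this]; norm_num
  have huniq : ∀ lam : G →* ℂˣ, lam ≠ 1 → lam = lam₀ := by
    intro lam hlam
    by_contra hne
    have h1 : lam * lam₀⁻¹ ≠ 1 := by
      intro h
      apply hne
      exact mul_inv_eq_one.mp h
    have h2 := hval _ h1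
    rw [MonoidHom.mul_apply, MonoidHom.inv_apply, Units.val_mul, Units.val_inv_eq_inv_val,
      hval lam hlam, hval lam₀ hlam₀] at h2
    norm_num at h2
  have hsq : lam₀ * lam₀ = 1 := by
    by_contra h
    have h2 := hval _ h
    rw [MonoidHom.mul_apply, Units.val_mul, hval lam₀ hlam₀] at h2
    norm_num at h2
  have hl2 : ∀ g, ((lam₀ g : ℂˣ) : ℂ) = 1 ∨ ((lam₀ g : ℂˣ) : ℂ) = -1 := by
    intro g
    have h1 : ((lam₀ g : ℂˣ) : ℂ) * ((lam₀ g : ℂˣ) : ℂ) = 1 := by
      have := congrArg (fun φ : G →* ℂˣ => ((φ g : ℂˣ) : ℂ)) hsq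
      simpa using this
    have h2 : (((lam₀ g : ℂˣ) : ℂ) - 1) * (((lam₀ g : ℂˣ) : ℂ) + 1) = 0 := by
      linear_combination h1
    rcases mul_eq_zero.mp h2 with h | h
    · left; linear_combination h
    · right; linear_combination h
  obtain ⟨one, hone⟩ : ∃ one : Cfsg.IrrCharacter G, one = irrOne G := ⟨_, rfl⟩
  obtain ⟨χ₀, hχ₀⟩ : ∃ χ₀ : Cfsg.IrrCharacter G, χ₀ = linIrr lam₀ := ⟨_, rfl⟩
  have hone_apply : ∀ g, (one : G → ℂ) g = 1 := by intro g; rw [hone]; rfl
  have hχ₀_apply : ∀ g, (χ₀ : G → ℂ) g = ((lam₀ g : ℂˣ) : ℂ) := by intro g; rw [hχ₀]; rfl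
  have hne01 : χ₀ ≠ one := by
    intro h
    have := congrFun (congrArg Subtype.val h) u
    rw [hχ₀_apply, hval lam₀ hlam₀, hone_apply] at this
    norm_num at this
  have hdeg : ∀ χ : Cfsg.IrrCharacter G, χ ≠ one → χ ≠ χ₀ →
      ∃ d : ℕ, 2 ≤ d ∧ (χ : G → ℂ) 1 = d := by
    intro χ h1 h0
    obtain ⟨d, hd0, hd⟩ := irr_apply_one χ.2
    refine ⟨d, ?_, hd⟩
    by_contra hlt
    have hd1 : d = 1 := by omega
    rw [hd1, Nat.cast_one] at hd
    obtain ⟨lam, hlam⟩ := exists_hom_of_linear (irr_isCharacter χ.2) hd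
    have hχlam : χ = linIrr lam := by
      apply Subtype.ext
      funext g
      rw [linIrr_apply]
      exact hlam g
    by_cases hl1 : lam = 1
    · apply h1
      rw [hχlam, hl1]
      apply Subtype.ext
      funext g
      rw [linIrr_apply, hone_apply]
      simp
    · apply h0
      rw [hχlam, huniq lam hl1, hχ₀]
  have hnonprin : ∀ χ : Cfsg.IrrCharacter G, χ ≠ one → (χ : G → ℂ) ≠ fun _ => 1 := by
    intro χ h hf
    apply h
    apply Subtype.ext
    rw [hf]
    funext g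
    rw [hone_apply]
  have hvan : ∀ χ : Cfsg.IrrCharacter G, χ ≠ one → χ ≠ χ₀ → (χ : G → ℂ) u = 0 := by
    have hsum : ∑ χ : Cfsg.IrrCharacter G, ((χ : G → ℂ) u * (χ : G → ℂ) 1 +
        (if χ = χ₀ then (1 : ℂ) else 0) - (if χ = one then (1 : ℂ) else 0)) = 0 := by
      rw [Finset.sum_sub_distrib, Finset.sum_add_distrib, E1 u hu]
      simp
    have hnn : ∀ χ : Cfsg.IrrCharacter G, ∃ r : ℝ, 0 ≤ r ∧
        ((χ : G → ℂ) u * (χ : G → ℂ) 1 +
        (if χ = χ₀ then (1 : ℂ) else 0) - (if χ = one then (1 : ℂ) else 0)) = (r : ℂ) := by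
      intro χ
      by_cases h1 : χ = one
      · refine ⟨0, le_refl _, ?_⟩
        rw [if_pos h1, if_neg (by rw [h1]; exact hne01.symm), h1, hone_apply, hone_apply]
        simp
      · by_cases h0 : χ = χ₀
        · refine ⟨0, le_refl _, ?_⟩
          rw [if_pos h0, if_neg h1, h0, hχ₀_apply, hχ₀_apply, hval lam₀ hlam₀, map_one]
          simp
        · rw [if_neg h0, if_neg h1, add_zero, sub_zero]
          obtain ⟨d, hd2, hd⟩ := hdeg χ h1 h0
          rcases hyp χ (hnonprin χ h1) with h | h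
          · have hu' : (χ : G → ℂ) u = (d : ℂ) - 2 := by
              rw [← hd]; linear_combination -h
            refine ⟨((d : ℝ) - 2) * d, ?_, ?_⟩
            · have : (2 : ℝ) ≤ d := by exact_mod_cast hd2
              have h1 : (0 : ℝ) ≤ (d : ℝ) - 2 := by linarith
              positivity
            · rw [hu', hd]; push_cast; ring
          · exact ⟨0, le_refl _, by rw [h]; simp⟩
    have hall := all_zero_of_nonneg _ hnn hsum
    intro χ h1 h0
    have := hall χ
    rw [if_neg h0, if_neg h1, add_zero, sub_zero] at this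
    obtain ⟨d, hd2, hd⟩ := hdeg χ h1 h0
    rcases mul_eq_zero.mp this with h | h
    · exact h
    · rw [hd] at h
      exfalso
      have : d = 0 := by exact_mod_cast h
      omega
  have hcard : Nat.card (Subgroup.centralizer ({u} : Set G)) = 2 := by
    have h := E2 (G := G) u
    have h2 : ∀ χ : Cfsg.IrrCharacter G, (χ : G → ℂ) u * conj ((χ : G → ℂ) u) =
        (if χ = one then (1 : ℂ) else 0) + (if χ = χ₀ then (1 : ℂ) else 0) := by
      intro χ
      by_cases h1 : χ = one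
      · rw [if_pos h1, if_neg (by rw [h1]; exact hne01.symm), h1, hone_apply]
        simp
      · by_cases h0 : χ = χ₀
        · rw [if_neg h1, if_pos h0, h0, hχ₀_apply, hval lam₀ hlam₀]
          simp
        · rw [if_neg h1, if_neg h0, hvan χ h1 h0]
          simp
    rw [Finset.sum_congr rfl (fun χ _ => h2 χ), Finset.sum_add_distrib] at h
    simp at h
    have h3 : (Nat.card (Subgroup.centralizer ({u} : Set G)) : ℂ) = ((2 : ℕ) : ℂ) := by
      rw [← h]; norm_num
    exact_mod_cast h3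
  exact group_part u hu hcard lam₀ (hval lam₀ hlam₀) hl2

end

/-- Let u ≠ 1 be an element of the finite group G and c a complex number such that every non-principal irreducible character χ satisfies χ(1) − χ(u) = c or χ(u) = 0. Then the following are equivalent: (a) u has order 2, G is generated by u together with O(G), the largest normal subgroup of G of odd order, and the centralizer of u is {1, u}; (b) G is not perfect; (c) c = 2. -/
theorem result {G : Type*} [Group G] [Finite G] (u : G) (hu : u ≠ 1) (c : ℂ) (hyp : ∀ χ : Cfsg.IrrCharacter G, (χ : G → ℂ) ≠ (fun _ => (1 : ℂ)) → ((χ : G → ℂ) 1 - (χ : G → ℂ) u = c ∨ (χ : G → ℂ) u = 0)) : ((orderOf u = 2 ∧ Subgroup.zpowers u ⊔ Cfsg.oddCore G = ⊤ ∧ Subgroup.centralizer ({u} : Set G) = Subgroup.zpowers u) ↔ commutator G ≠ ⊤) ∧ (commutator G ≠ ⊤ ↔ c = 2) := by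
  classical
  have hfinI := Fintype.ofFinite (Cfsg.IrrCharacter G)
  have hbc : commutator G ≠ ⊤ ↔ c = 2 := by
    constructor
    · exact c_two_of_not_perfect u hu c hyp
    · intro hc
      subst hc
      exact not_perfect_of_c_two u hu hyp
  refine ⟨⟨fun h => not_perfect_of_structure u h.1 h.2.1, fun hnp => ?_⟩, hbc⟩
  have hc : c = 2 := hbc.mp hnp
  subst hc
  exact structure_of_not_perfect u hu hyp hnp

end Cfsg.Agent.S4757
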