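import Cfsg.Statements.S4762
import Cfsg.Agent.Lib_helper24_UniqueNonlinear
import Cfsg.Agent.S3986
import Cfsg.Agent.S0187
import Cfsg.Agent.S0169
-- import your own Cfsg.Agent.* helpers here

set_option autoImplicit false
open Cfsg

namespace Cfsg.Agent.S4762

open Cfsg.Agent.helper24 Cfsg.Agent.helper23
open scoped ComplexConjugate
open scoped Pointwise

universe u

theorem sum_normSq_irr' {H : Type u} [Group H] [Fintype H] {ψ : H → ℂ} (hψ : IsIrrCharacter H ψ) :
    ∑ h : H, ‖ψ h‖ ^ 2 = (Nat.card H : ℝ) := by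
  have h1 := irr_classInner_self hψ
  unfold classInner at h1
  have hH : (Nat.card H : ℂ) ≠ 0 := by exact_mod_cast Nat.card_pos.ne'
  have h2 : ∑ h : H, ψ h * conj (ψ h) = (Nat.card H : ℂ) := by
    field_simp at h1
    exact h1
  have h3 : ∀ h : H, ψ h * conj (ψ h) = ((‖ψ h‖ ^ 2 : ℝ) : ℂ) := by
    intro h
    rw [Complex.mul_conj, Complex.normSq_eq_norm_sq]
  rw [Finset.sum_congr rfl (fun h _ => h3 h), ← Complex.ofReal_sum] at h2
  have h4 : ((Nat.card H : ℕ) : ℂ) = (((Nat.card H : ℕ) : ℝ) : ℂ) := by simp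
  rw [h4] at h2
  exact Complex.ofReal_injective h2

/-- degrees of irreducible characters of a `p`-group -/
theorem pgroup_degree {G : Type u} [Group G] [Finite G] (p : ℕ) [hp : Fact p.Prime]
    (hG : IsPGroup p G) (χ : IrrCharacter G) :
    (p ∣ charDegree (χ : G → ℂ)) ↔ (χ : G → ℂ) 1 ≠ 1 := by
  obtain ⟨m, hm⟩ := IsPGroup.iff_card.1 hG
  have h2 := irr_degree_dvd_card χ.2
  rw [hm] at h2
  obtain ⟨t, _, ht⟩ := (Nat.dvd_prime_pow hp.out).1 h2
  have hcast := char_charDegree_cast (irr_isCharacter χ.2)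
  constructor
  · intro h h1
    rw [← hcast] at h1
    have h3 : charDegree (χ : G → ℂ) = 1 := by exact_mod_cast h1
    rw [h3] at h
    exact hp.out.one_lt.ne' (Nat.dvd_one.1 h)
  · intro h
    have ht0 : t ≠ 0 := by
      intro h0
      apply h
      rw [← hcast, ht, h0, pow_zero, Nat.cast_one]
    rw [ht]
    exact dvd_pow_self p ht0

theorem extraspecial_unique {G : Type u} [Group G] [Finite G] (hE : IsExtraspecial 2 G) :
    Nat.card {χ : IrrCharacter G // 2 ∣ charDegree (χ : G → ℂ)} = 1 := by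
  classical
  have := Fintype.ofFinite G
  have := Fintype.ofFinite (IrrCharacter G)
  have : Fact (Nat.Prime 2) := ⟨Nat.prime_two⟩
  obtain ⟨⟨hG, hfr, hcomm⟩, hZcard⟩ := hE
  obtain ⟨z, hz1, hzuniq⟩ := (Nat.card_eq_two_iff' (1 : Subgroup.center G)).1 hZcard
  have htwo : ∀ n ∈ Subgroup.center G, n = 1 ∨ n = (z : G) := by
    intro n hn
    by_cases h : n = 1
    · exact Or.inl h
    · right
      have := hzuniq ⟨n, hn⟩ (fun h' => h (congrArg Subtype.val h'))
      exact congrArg Subtype.val this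
  have hzne : (z : G) ≠ 1 := fun h => hz1 (Subtype.ext h)
  have hzz : (z : G) * z = 1 := by
    rcases htwo _ ((Subgroup.center G).mul_mem z.2 z.2) with h | h
    · exact h
    · exfalso
      apply hzne
      have : (z : G) * z = z * 1 := by rw [h, mul_one]
      exact mul_left_cancel this
  have hNcard : Nat.card (commutator G) = 2 := by rw [hcomm, hZcard]
  have hidx : (commutator G).index * 2 = Nat.card G := by
    rw [← hNcard, mul_comm]
    exact Subgroup.card_mul_index _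
  -- the characters outside S₀
  have hout : ∀ χ : IrrCharacter G,
      (¬ ∀ n ∈ commutator G, (χ : G → ℂ) n = (χ : G → ℂ) 1) →
      (χ : G → ℂ) 1 ≠ 1 ∧ charDegree (χ : G → ℂ) ^ 2 * 2 = Nat.card G := by
    intro χ hχ
    have hχ1 : (χ : G → ℂ) 1 ≠ 1 := fun h => hχ (commutator_le_ker_of_degree_one χ h)
    refine ⟨hχ1, ?_⟩
    have hχz : (χ : G → ℂ) z ≠ (χ : G → ℂ) 1 := by
      intro h
      apply hχ
      intro n hn
      rw [hcomm] at hn
      rcases htwo n hn with h1 | h1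
      · rw [h1]
      · rw [h1, h]
    have h10 := irr_apply_one_ne_zero χ.2
    have hsq : (χ : G → ℂ) z * (χ : G → ℂ) z = (χ : G → ℂ) 1 * (χ : G → ℂ) 1 := by
      have h2 := irr_central_apply χ.2 (z : G) z.2 (z : G)
      rw [hzz] at h2
      field_simp at h2
      rw [pow_two, pow_two] at h2
      exact h2.symm
    have hneg : (χ : G → ℂ) z = -(χ : G → ℂ) 1 := by
      have h3 : ((χ : G → ℂ) z - (χ : G → ℂ) 1) * ((χ : G → ℂ) z + (χ : G → ℂ) 1) = 0 := by
        ring_nf
        rw [pow_two, pow_two, hsq]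
        ring
      rcases mul_eq_zero.1 h3 with h | h
      · exact absurd (sub_eq_zero.1 h) hχz
      · exact eq_neg_of_add_eq_zero_left h
    have hvanish : ∀ g : G, g ∉ Subgroup.center G → (χ : G → ℂ) g = 0 := by
      intro g hg
      rw [Subgroup.mem_center_iff] at hg
      rw [not_forall] at hg
      obtain ⟨x, hx⟩ := hg
      have hc : g⁻¹ * x * g⁻¹⁻¹ * x⁻¹ ∈ commutator G := by
        rw [← commutatorElement_def, commutator_def]
        exact Subgroup.commutator_mem_commutator (Subgroup.mem_top _) (Subgroup.mem_top _)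
      rw [hcomm] at hc
      have hcz : g⁻¹ * x * g⁻¹⁻¹ * x⁻¹ = (z : G) := by
        rcases htwo _ hc with h | h
        · exfalso
          apply hx
          have : x * g = g * (g⁻¹ * x * g⁻¹⁻¹ * x⁻¹) * x := by group
          rw [this, h, mul_one]
        · exact h
      have h4 : (χ : G → ℂ) (x * g * x⁻¹) = (χ : G → ℂ) g :=
        char_isClassFunction (irr_isCharacter χ.2) g x
      have h5 : x * g * x⁻¹ = g * (z : G) := by
        rw [← hcz]
        group
      rw [h5, irr_central_apply χ.2 (z : G) z.2 g, hneg] at h4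
      have h6 : -(χ : G → ℂ) 1 / (χ : G → ℂ) 1 = -1 := by
        field_simp
      rw [h6] at h4
      have h7 : (2 : ℂ) * (χ : G → ℂ) g = 0 := by
        have : (χ : G → ℂ) g + (χ : G → ℂ) g = 0 := by
          nth_rewrite 1 [← h4]
          ring
        rw [two_mul]
        exact this
      rcases mul_eq_zero.1 h7 with h | h
      · norm_num at h
      · exact h
    have hnorm := sum_normSq_irr' χ.2
    have hsub : ∑ g : G, ‖(χ : G → ℂ) g‖ ^ 2 =
        ∑ g ∈ ({1, (z : G)} : Finset G), ‖(χ : G → ℂ) g‖ ^ 2 := by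
      symm
      apply Finset.sum_subset (Finset.subset_univ _)
      intro g _ hg
      have hgc : g ∉ Subgroup.center G := by
        intro h
        apply hg
        rcases htwo g h with h1 | h1
        · rw [h1]; simp
        · rw [h1]; simp
      rw [hvanish g hgc]
      simp
    rw [hsub, Finset.sum_pair (fun h => hzne h.symm), hneg, norm_neg,
      ← char_charDegree_cast (irr_isCharacter χ.2), Complex.norm_natCast] at hnorm
    have : ((charDegree (χ : G → ℂ) ^ 2 * 2 : ℕ) : ℝ) = (Nat.card G : ℝ) := by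
      push_cast
      linarith
    exact_mod_cast this
  -- S₀ characters have degree one
  have hin : ∀ χ : IrrCharacter G,
      (∀ n ∈ commutator G, (χ : G → ℂ) n = (χ : G → ℂ) 1) → ¬ 2 ∣ charDegree (χ : G → ℂ) := by
    intro χ hχ h2
    have h1 := degree_one_of_commutator_le_ker χ hχ
    exact ((pgroup_degree 2 hG χ).1 h2) h1
  have hiff : ∀ χ : IrrCharacter G, 2 ∣ charDegree (χ : G → ℂ) ↔
      ¬ ∀ n ∈ commutator G, (χ : G → ℂ) n = (χ : G → ℂ) 1 := by
    intro χ
    constructor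
    · intro h hχ
      exact hin χ hχ h
    · intro h
      exact (pgroup_degree 2 hG χ).2 (hout χ h).1
  have hcard : Nat.card {χ : IrrCharacter G // 2 ∣ charDegree (χ : G → ℂ)} =
      (Finset.univ.filter (fun χ : IrrCharacter G =>
        ¬ ∀ n ∈ commutator G, (χ : G → ℂ) n = (χ : G → ℂ) 1)).card := by
    rw [Nat.card_eq_fintype_card, Fintype.card_subtype]
    congr 1
    ext χ
    simp only [Finset.mem_filter, Finset.mem_univ, true_and]
    exact hiff χ
  rw [hcard]
  have hsum : ∑ χ : IrrCharacter G, charDegree (χ : G → ℂ) ^ 2 = Nat.card G := sum_irr_degree_sq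
  have hsum0 := sum_degree_sq_ker (G := G) (commutator G)
  rw [← Finset.sum_filter_add_sum_filter_not Finset.univ
    (fun χ : IrrCharacter G => ∀ n ∈ commutator G, (χ : G → ℂ) n = (χ : G → ℂ) 1), hsum0] at hsum
  have hconst : ∑ χ ∈ Finset.univ.filter (fun χ : IrrCharacter G =>
      ¬ ∀ n ∈ commutator G, (χ : G → ℂ) n = (χ : G → ℂ) 1), charDegree (χ : G → ℂ) ^ 2 =
      (Finset.univ.filter (fun χ : IrrCharacter G =>
        ¬ ∀ n ∈ commutator G, (χ : G → ℂ) n = (χ : G → ℂ) 1)).card * (commutator G).index := by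
    rw [Finset.sum_congr rfl (fun χ hχ => ?_), Finset.sum_const, smul_eq_mul]
    have h1 := (hout χ (Finset.mem_filter.1 hχ).2).2
    omega
  rw [hconst] at hsum
  have hipos : 0 < (commutator G).index := Nat.pos_of_ne_zero Subgroup.index_ne_zero_of_finite
  have : (Finset.univ.filter (fun χ : IrrCharacter G =>
        ¬ ∀ n ∈ commutator G, (χ : G → ℂ) n = (χ : G → ℂ) 1)).card * (commutator G).index =
      1 * (commutator G).index := by omega
  exact Nat.eq_of_mul_eq_mul_right hipos this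

theorem isPGroup_of_unique {G : Type u} [Group G] [Finite G] [hnil : Group.IsNilpotent G] (p : ℕ)
    [hp : Fact p.Prime] (χ₀ : IrrCharacter G) (hχ₀ : p ∣ charDegree (χ₀ : G → ℂ))
    (huniq : ∀ χ : IrrCharacter G, p ∣ charDegree (χ : G → ℂ) → χ = χ₀) : IsPGroup p G := by
  classical
  have := Fintype.ofFinite G
  have hpp : p.Prime := hp.out
  have hsyl : ∀ (q : ℕ) [Fact q.Prime] (Q : Sylow q G), (Q : Subgroup G).Normal :=
    ((Group.isNilpotent_of_finite_tfae (G := G)).out 0 3 rfl rfl).mp hnil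
  -- p-elements commute with q-elements
  have hcommute : ∀ x y : G, (∃ a : ℕ, orderOf x = p ^ a) →
      (∃ q b : ℕ, q.Prime ∧ q ≠ p ∧ orderOf y = q ^ b) → x * y = y * x := by
    rintro x y ⟨a, hxa⟩ ⟨q, b, hq, hqp, hyb⟩
    have : Fact q.Prime := ⟨hq⟩
    let P : Sylow p G := default
    let Q : Sylow q G := default
    have hPn := hsyl p P
    have hQn := hsyl q Q
    have hxP : x ∈ (P : Subgroup G) := Cfsg.Agent.S3986.mem_normal_sylow p P hPn x a hxa
    have hyQ : y ∈ (Q : Subgroup G) := Cfsg.Agent.S3986.mem_normal_sylow q Q hQn y b hyb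
    have hdisj : Disjoint (P : Subgroup G) (Q : Subgroup G) :=
      IsPGroup.disjoint_of_ne p q (fun h => hqp h.symm) _ _ P.2 Q.2
    have h1 : x * y * x⁻¹ * y⁻¹ ∈ (P : Subgroup G) := by
      have : x * y * x⁻¹ * y⁻¹ = x * (y * x⁻¹ * y⁻¹) := by group
      rw [this]
      exact (P : Subgroup G).mul_mem hxP (hPn.conj_mem _ ((P : Subgroup G).inv_mem hxP) y)
    have h2 : x * y * x⁻¹ * y⁻¹ ∈ (Q : Subgroup G) :=
      (Q : Subgroup G).mul_mem (hQn.conj_mem _ hyQ x) ((Q : Subgroup G).inv_mem hyQ)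
    have h3 : x * y * x⁻¹ * y⁻¹ = 1 := by
      have : x * y * x⁻¹ * y⁻¹ ∈ (P : Subgroup G) ⊓ (Q : Subgroup G) := ⟨h1, h2⟩
      rw [hdisj.eq_bot] at this
      exact this
    calc x * y = (x * y * x⁻¹ * y⁻¹) * (y * x) := by group
      _ = y * x := by rw [h3, one_mul]
  obtain ⟨P, K, hPn, hKn, hdisj, hsup⟩ := (Cfsg.Agent.S3986.result (G := G) p).2 hcommute
  by_contra hnotp
  have hPtop : (P : Subgroup G) ≠ ⊤ := by
    intro h
    apply hnotp
    intro g
    have hg : g ∈ (P : Subgroup G) := by rw [h]; trivial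
    obtain ⟨k, hk⟩ := P.2 ⟨g, hg⟩
    refine ⟨k, ?_⟩
    have := congrArg Subtype.val hk
    simpa using this
  -- decomposition g = x * k
  have hdecomp : ∀ g : G, ∃ x ∈ (P : Subgroup G), ∃ k ∈ K, g = x * k := by
    intro g
    have hg : g ∈ (P : Subgroup G) ⊔ K := by rw [hsup]; trivial
    have hg' : g ∈ ((P : Subgroup G) : Set G) * (K : Set G) := by
      rw [← Subgroup.mul_normal]
      exact hg
    obtain ⟨x, hx, k, hk, hxk⟩ := Set.mem_mul.1 hg'
    exact ⟨x, hx, k, hk, hxk.symm⟩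
  -- a nontrivial linear character trivial on P
  have hnt : Nontrivial (G ⧸ (P : Subgroup G)) := by
    rw [QuotientGroup.nontrivial_iff]
    exact hPtop
  have hnilq : Group.IsNilpotent (G ⧸ (P : Subgroup G)) := inferInstance
  have hsolv : Group.IsSolvable (G ⧸ (P : Subgroup G)) := inferInstance
  have hcomm_lt : commutator (G ⧸ (P : Subgroup G)) ≠ ⊤ :=
    (Group.IsSolvable.commutator_lt_top_of_nontrivial (G ⧸ (P : Subgroup G))).ne
  obtain ⟨lam', hlam'⟩ := exists_nontrivial_hom hcomm_lt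
  let lam : G →* ℂˣ := lam'.comp (QuotientGroup.mk' (P : Subgroup G))
  have hlamP : ∀ x ∈ (P : Subgroup G), lam x = 1 := by
    intro x hx
    show lam' (QuotientGroup.mk x) = 1
    rw [(QuotientGroup.eq_one_iff x).2 hx, map_one]
  obtain ⟨k, hkK, hk⟩ : ∃ k ∈ K, lam k ≠ 1 := by
    by_contra hcon
    apply hlam'
    apply MonoidHom.ext
    intro q
    obtain ⟨g, rfl⟩ := QuotientGroup.mk_surjective q
    obtain ⟨x, hx, k, hk, rfl⟩ := hdecomp g
    have h1 : lam (x * k) = 1 := by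
      rw [map_mul, hlamP x hx, one_mul]
      by_contra h
      exact hcon ⟨k, hk, h⟩
    have h2 : lam' (QuotientGroup.mk (x * k)) = 1 := h1
    rw [h2]
    rfl
  -- G ⧸ K is a p-group
  have hpq : IsPGroup p (G ⧸ K) := by
    intro q
    obtain ⟨g, rfl⟩ := QuotientGroup.mk_surjective q
    obtain ⟨x, hx, k, hk, rfl⟩ := hdecomp g
    obtain ⟨n, hn⟩ := P.2 ⟨x, hx⟩
    refine ⟨n, ?_⟩
    have h1 : (QuotientGroup.mk (x * k) : G ⧸ K) = QuotientGroup.mk x := by
      rw [QuotientGroup.mk_mul, (QuotientGroup.eq_one_iff k).2 hk, mul_one]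
    rw [h1, ← QuotientGroup.mk_pow]
    have h2 : x ^ p ^ n = 1 := by
      have := congrArg Subtype.val hn
      simpa using this
    rw [h2]
    rfl
  -- G ⧸ K is not commutative
  have hnc : ¬ ∀ a b : G ⧸ K, a * b = b * a := by
    intro hab
    have hPab : ∀ a ∈ (P : Subgroup G), ∀ b ∈ (P : Subgroup G), a * b = b * a := by
      intro a ha b hb
      have h1 : a * b * a⁻¹ * b⁻¹ ∈ K := by
        rw [← QuotientGroup.eq_one_iff]
        simp only [QuotientGroup.mk_mul, QuotientGroup.mk_inv]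
        rw [hab (QuotientGroup.mk a) (QuotientGroup.mk b)]
        group
      have h2 : a * b * a⁻¹ * b⁻¹ ∈ (P : Subgroup G) :=
        (P : Subgroup G).mul_mem ((P : Subgroup G).mul_mem ((P : Subgroup G).mul_mem ha hb)
          ((P : Subgroup G).inv_mem ha)) ((P : Subgroup G).inv_mem hb)
      have h3 : a * b * a⁻¹ * b⁻¹ = 1 := by
        have : a * b * a⁻¹ * b⁻¹ ∈ (P : Subgroup G) ⊓ K := ⟨h2, h1⟩
        rw [hdisj] at this
        exact this
      calc a * b = (a * b * a⁻¹ * b⁻¹) * (b * a) := by group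
        _ = b * a := by rw [h3, one_mul]
    obtain ⟨n, ρ, hρ, hρχ⟩ := χ₀.2
    have hdvd : n ∣ (P : Subgroup G).index := Cfsg.Agent.S0169.ito_coord ρ hρ (P : Subgroup G) hPab
    have hdeg : charDegree (χ₀ : G → ℂ) = n := by
      apply charDegree_natCast
      rw [← hρχ]
      simp
    rw [hdeg] at hχ₀
    exact P.not_dvd_index (hχ₀.trans hdvd)
  have hex : ∃ ψ' : IrrCharacter (G ⧸ K), (ψ' : G ⧸ K → ℂ) 1 ≠ 1 := by
    by_contra hcon
    apply hnc
    apply (Cfsg.Agent.S0187.result (G := G ⧸ K)).2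
    intro χ
    by_contra h
    exact hcon ⟨χ, h⟩
  obtain ⟨ψ', hψ'⟩ := hex
  have hψ'p : p ∣ charDegree (ψ' : G ⧸ K → ℂ) := (pgroup_degree p hpq ψ').2 hψ'
  set ψ := inflEquiv K ψ' with hψdef
  have hψdeg : p ∣ charDegree ((ψ.1 : IrrCharacter G) : G → ℂ) := by
    rw [hψdef, inflEquiv_degree]
    exact hψ'p
  have hψ0 : ψ.1 = χ₀ := huniq ψ.1 hψdeg
  -- the twist
  let τ : IrrCharacter G := ⟨fun g => ((lam g : ℂˣ) : ℂ) * (ψ.1 : G → ℂ) g,
    isIrrCharacter_hom_mul lam ψ.1.2⟩
  have hτdeg : p ∣ charDegree (τ : G → ℂ) := by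
    have h1 : charDegree (τ : G → ℂ) = charDegree ((ψ.1 : IrrCharacter G) : G → ℂ) := by
      unfold charDegree
      show ⌊(((lam 1 : ℂˣ) : ℂ) * (ψ.1 : G → ℂ) 1).re⌋₊ = _
      rw [map_one, Units.val_one, one_mul]
    rw [h1]
    exact hψdeg
  have hτ0 : τ = χ₀ := huniq τ hτdeg
  have heq : τ = ψ.1 := hτ0.trans hψ0.symm
  have hk1 := congrFun (congrArg Subtype.val heq) k
  have hk2 : ((lam k : ℂˣ) : ℂ) * (ψ.1 : G → ℂ) k = (ψ.1 : G → ℂ) k := hk1
  have hψk : (ψ.1 : G → ℂ) k = (ψ.1 : G → ℂ) 1 := ψ.2 k hkK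
  rw [hψk] at hk2
  have h10 := irr_apply_one_ne_zero ψ.1.2
  have hlam1 : ((lam k : ℂˣ) : ℂ) = 1 := by
    have : ((lam k : ℂˣ) : ℂ) * (ψ.1 : G → ℂ) 1 = 1 * (ψ.1 : G → ℂ) 1 := by rw [hk2, one_mul]
    exact mul_right_cancel₀ h10 this
  apply hk
  exact Units.ext hlam1

/-- Let p be a prime and G a finite nilpotent group. Then G has exactly one irreducible complex character of degree divisible by p if and only if p = 2 and G is an extraspecial 2-group. -/
theorem result {G : Type*} [Group G] [Finite G] [Group.IsNilpotent G] (p : ℕ) [Fact p.Prime] : Nat.card {χ : Cfsg.IrrCharacter G // p ∣ Cfsg.charDegree (χ : G → ℂ)} = 1 ↔ (p = 2 ∧ Cfsg.IsExtraspecial 2 G) := by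
  constructor
  · intro h
    rw [Nat.card_eq_one_iff_unique] at h
    obtain ⟨hsub, ⟨⟨χ₀, hχ₀⟩⟩⟩ := h
    have huniq : ∀ χ : IrrCharacter G, p ∣ charDegree (χ : G → ℂ) → χ = χ₀ := by
      intro χ hχ
      have := @Subsingleton.elim _ hsub ⟨χ, hχ⟩ ⟨χ₀, hχ₀⟩
      exact congrArg Subtype.val this
    have hG := isPGroup_of_unique p χ₀ hχ₀ huniq
    have h1 : (χ₀ : G → ℂ) 1 ≠ 1 := (pgroup_degree p hG χ₀).1 hχ₀
    have huniq' : ∀ χ : IrrCharacter G, (χ : G → ℂ) 1 ≠ 1 → χ = χ₀ :=
      fun χ hχ => huniq χ ((pgroup_degree p hG χ).2 hχ)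
    obtain ⟨hp2, hN, hZ⟩ := pgroup_unique_nonlinear p hG χ₀ h1 huniq'
    refine ⟨hp2, ?_⟩
    subst hp2
    exact extraspecial_of_commutator_card_two hG hN hZ
  · rintro ⟨rfl, hE⟩
    exact extraspecial_unique hE

end Cfsg.Agent.S4762
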