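import Mathlib
import Cfsg.Agent.Lib_helper22_PSing2
import Cfsg.Statements.S4763
-- import your own Cfsg.Agent.* helpers here

set_option autoImplicit false
open Cfsg

namespace Cfsg.Agent.S4763

/-- Let p be a prime and G a finite group that is not nilpotent and has a normal p-complement (a normal subgroup of order prime to p and index a power of p). If G has exactly one irreducible complex character of degree divisible by p, then G has exactly one conjugacy class whose size is divisible by p. -/
theorem result {G : Type*} [Group G] [Finite G] (p : ℕ) [Fact p.Prime] (hnil : ¬ Group.IsNilpotent G) (N : Subgroup G) [N.Normal] (hN : (Nat.card N).Coprime p) (hidx : ∃ k : ℕ, N.index = p ^ k) (hone : Nat.card {χ : Cfsg.IrrCharacter G // p ∣ Cfsg.charDegree (χ : G → ℂ)} = 1) : Nat.card {C : ConjClasses G // p ∣ Nat.card C.carrier} = 1 := by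
  classical
  haveI := Fintype.ofFinite G
  have hp : p.Prime := Fact.out
  have hcomm := Cfsg.Agent.helper22.quotient_comm_of_unique_psingular p hnil N hN hidx hone
  obtain ⟨k, hk⟩ := hidx
  have hcopN : Nat.Coprime (Nat.card N) N.index := by
    rw [hk]; exact Nat.Coprime.pow_right k hN
  obtain ⟨H, hH⟩ := Subgroup.exists_right_complement'_of_coprime hcopN
  have hHcard : Nat.card H = p ^ k := by rw [← hk]; exact hH.symm.index_eq_card.symm
  have hKH : N ⊔ H = ⊤ := hH.sup_eq_top
  have hdisj : Disjoint N H := hH.disjoint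
  have hab : ∀ a ∈ H, ∀ b ∈ H, a * b = b * a := by
    intro a ha b hb
    have h1 : ((a * b : G) : G ⧸ N) = ((b * a : G) : G ⧸ N) := by
      rw [QuotientGroup.mk_mul, QuotientGroup.mk_mul]
      exact hcomm _ _
    rw [QuotientGroup.eq] at h1
    have h2 : (a * b)⁻¹ * (b * a) ∈ H :=
      H.mul_mem (H.inv_mem (H.mul_mem ha hb)) (H.mul_mem hb ha)
    have h3 : (a * b)⁻¹ * (b * a) ∈ N ⊓ H := Subgroup.mem_inf.mpr ⟨h1, h2⟩
    rw [hdisj.eq_bot, Subgroup.mem_bot] at h3
    have h4 : b * a = (a * b) * ((a * b)⁻¹ * (b * a)) := by group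
    rw [h4, h3, mul_one]
  have hk0 : k ≠ 0 := by
    intro h0
    obtain ⟨x, -⟩ := Nat.card_eq_one_iff_exists.mp hone
    have hdvd := Cfsg.Agent.helper24.irr_degree_dvd_card x.1.2
    have hG : Nat.card G = Nat.card N := by
      rw [← N.card_mul_index, hk, h0, pow_zero, mul_one]
    rw [hG] at hdvd
    have h2 : p ∣ Nat.card N := x.2.trans hdvd
    exact hp.one_lt.ne' (Nat.Coprime.eq_one_of_dvd hN.symm h2)
  rw [Cfsg.Agent.helper22.card_psingular_classes_eq p N H hKH hN hk0 hHcard hab]
  exact hone

end Cfsg.Agent.S4763
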