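import Cfsg.Statements.S4784
import Cfsg.Agent.Lib_helper24_FS
import Cfsg.Agent.Lib_helper24_KGV
import Cfsg.Agent.Lib_helper5_Perm
import Cfsg.Agent.S0161
-- import your own Cfsg.Agent.* helpers here

set_option autoImplicit false
open Cfsg

namespace Cfsg.Agent.S4784

open Cfsg.Agent.helper24 Cfsg.Agent.helper22 Cfsg.Agent.helper12 Cfsg.Agent.helper5
open scoped ComplexConjugate

theorem sum_conjCount_sq {G : Type*} [Group G] [Fintype G] (H : Subgroup G) :
    ∑ s : G, conjCount H (s * s) = Nat.card G * Nat.card {s : G // s * s ∈ H} := by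
  unfold conjCount
  rw [← card_subtype_prod' (fun s x : G => x⁻¹ * (s * s) * x ∈ H),
    card_subtype_prod (fun s x : G => x⁻¹ * (s * s) * x ∈ H)]
  have : ∀ x : G, Nat.card {s : G // x⁻¹ * (s * s) * x ∈ H} = Nat.card {s : G // s * s ∈ H} := by
    intro x
    apply Nat.card_congr
    refine ⟨fun s => ⟨x⁻¹ * s.1 * x, ?_⟩, fun s => ⟨x * s.1 * x⁻¹, ?_⟩, ?_, ?_⟩
    · have h := s.2
      have e : x⁻¹ * s.1 * x * (x⁻¹ * s.1 * x) = x⁻¹ * (s.1 * s.1) * x := by group
      rw [e]
      exact h
    · have h := s.2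
      have e : x⁻¹ * (x * s.1 * x⁻¹ * (x * s.1 * x⁻¹)) * x = s.1 * s.1 := by group
      rw [e]
      exact h
    · intro s
      apply Subtype.ext
      show x * (x⁻¹ * s.1 * x) * x⁻¹ = s.1
      group
    · intro s
      apply Subtype.ext
      show x⁻¹ * (x * s.1 * x⁻¹) * x = s.1
      group
  rw [Finset.sum_congr rfl (fun x _ => this x), Finset.sum_const, Finset.card_univ, smul_eq_mul,
    Nat.card_eq_fintype_card (α := G)]

theorem fsInd_perm {G : Type*} [Group G] [Fintype G] (H : Subgroup G) :
    fsInd (indFun H (fun _ : H => (1 : ℂ))) =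
      (Nat.card H : ℂ)⁻¹ * (Nat.card {s : G // s * s ∈ H} : ℂ) := by
  unfold fsInd
  simp only [indFun_one_apply]
  rw [← Finset.mul_sum, ← Nat.cast_sum, sum_conjCount_sq, Nat.cast_mul]
  have hG : (Nat.card G : ℂ) ≠ 0 := by exact_mod_cast Nat.card_pos.ne'
  field_simp

theorem inner_perm_one {G : Type*} [Group G] [Fintype G] (H : Subgroup G) :
    classInner (indFun H (fun _ : H => (1 : ℂ))) (fun _ : G => (1 : ℂ)) = 1 := by
  classical
  have : Fintype H := Fintype.ofFinite _
  rw [classInner_indFun_eq_restrict H _ _ (char_isClassFunction (irr_isCharacter isIrrCharacter_one))]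
  unfold classInner
  simp only [map_one, mul_one, Finset.sum_const, Finset.card_univ, nsmul_eq_mul,
    Nat.card_eq_fintype_card]
  have hH : (Fintype.card H : ℂ) ≠ 0 := by exact_mod_cast Fintype.card_ne_zero
  field_simp

theorem core_le_ker {G : Type*} [Group G] [Fintype G] (H : Subgroup G) {χ : G → ℂ}
    (hχ : IsIrrCharacter G χ)
    (hne : classInner (indFun H (fun _ : H => (1 : ℂ))) χ ≠ 0) :
    ∀ n ∈ H.normalCore, χ n = χ 1 := by
  classical
  have : Fintype H := Fintype.ofFinite _
  rcases irr_normal_dichotomy hχ H.normalCore with h | h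
  · exfalso
    apply hne
    rw [classInner_indFun_eq_restrict H _ _ (char_isClassFunction (irr_isCharacter hχ))]
    unfold classInner
    simp only [one_mul]
    rw [← map_sum]
    set T : ℂ := ∑ h : H, χ (h : G) with hT
    have h1 : ∀ k : G, k ∈ H.normalCore → ∑ x : H, χ ((x : G) * k) = T := by
      intro k hk
      have hkH : k ∈ H := Subgroup.normalCore_le H hk
      rw [hT]
      refine Fintype.sum_equiv (Equiv.mulRight (⟨k, hkH⟩ : H)) _ _ (fun x => ?_)
      rfl
    have h2 : ∑ g : G, (if g ∈ H.normalCore then ∑ x : H, χ ((x : G) * g) else 0) =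
        (Nat.card H.normalCore : ℂ) * T := by
      have : ∀ g : G, (if g ∈ H.normalCore then ∑ x : H, χ ((x : G) * g) else 0) =
          if g ∈ H.normalCore then T else 0 := by
        intro g
        split_ifs with hg
        · exact h1 g hg
        · rfl
      rw [Finset.sum_congr rfl (fun g _ => this g), ← Finset.sum_filter, Finset.sum_const,
        nsmul_eq_mul]
      congr 2
      rw [Nat.card_eq_fintype_card, Fintype.card_subtype]
    have h3 : ∑ g : G, (if g ∈ H.normalCore then ∑ x : H, χ ((x : G) * g) else 0) = 0 := by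
      have : ∀ g : G, (if g ∈ H.normalCore then ∑ x : H, χ ((x : G) * g) else 0) =
          ∑ x : H, (if g ∈ H.normalCore then χ ((x : G) * g) else 0) := by
        intro g
        split_ifs with hg
        · rfl
        · simp
      rw [Finset.sum_congr rfl (fun g _ => this g), Finset.sum_comm]
      apply Finset.sum_eq_zero
      intro x _
      exact h (x : G)
    rw [h3] at h2
    have hK : (Nat.card H.normalCore : ℂ) ≠ 0 := by exact_mod_cast Nat.card_pos.ne'
    have hT0 : T = 0 := by
      rcases mul_eq_zero.1 h2.symm with h4 | h4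
      · exact absurd h4 hK
      · exact h4
    rw [hT0, map_zero, mul_zero]
  · exact h

theorem exists_sq_mem {G : Type*} [Group G] [Finite G] (H : Subgroup G)
    (heven : Even H.normalCore.index) : ∃ g : G, g ∉ H ∧ g * g ∈ H := by
  have h2 : 2 ∣ Nat.card (G ⧸ H.normalCore) := by
    rw [← Subgroup.index_eq_card]
    exact even_iff_two_dvd.1 heven
  obtain ⟨tb, htb⟩ := exists_prime_orderOf_dvd_card' 2 h2
  obtain ⟨t, rfl⟩ := QuotientGroup.mk_surjective tb
  have ht1 : t ∉ H.normalCore := by
    intro ht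
    have : (QuotientGroup.mk t : G ⧸ H.normalCore) = 1 := (QuotientGroup.eq_one_iff t).2 ht
    rw [this, orderOf_one] at htb
    omega
  have ht2 : t * t ∈ H.normalCore := by
    rw [← QuotientGroup.eq_one_iff, QuotientGroup.mk_mul, ← pow_two, ← htb, pow_orderOf_eq_one]
  have ht3 : ¬ ∀ b : G, b * t * b⁻¹ ∈ H := ht1
  rw [not_forall] at ht3
  obtain ⟨b, hb⟩ := ht3
  refine ⟨b * t * b⁻¹, hb, ?_⟩
  have e : b * t * b⁻¹ * (b * t * b⁻¹) = b * (t * t) * b⁻¹ := by group
  rw [e]
  exact Subgroup.normalCore_le H ((Subgroup.normalCore_normal H).conj_mem _ ht2 b)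

/-- Let H be a subgroup of the finite group G and consider the permutation character of G on the cosets of H (the function induced from the principal character of H). Then exactly one irreducible constituent of it is real-valued with Frobenius–Schur indicator +1 (namely the principal character) if and only if the normal core of H has odd index in G. -/
theorem result {G : Type*} [Group G] [Fintype G] (H : Subgroup G) : Nat.card {χ : Cfsg.IrrCharacter G // Cfsg.classInner (Cfsg.indFun H (fun _ : H => (1 : ℂ))) (χ : G → ℂ) ≠ 0 ∧ (∀ g : G, (starRingEnd ℂ) ((χ : G → ℂ) g) = (χ : G → ℂ) g) ∧ (Nat.card G : ℂ)⁻¹ * ∑ g : G, (χ : G → ℂ) (g * g) = 1} = 1 ↔ Odd H.normalCore.index := by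
  classical
  have hFI := Fintype.ofFinite (IrrCharacter G)
  have hone3 : ((irrOne G : IrrCharacter G) : G → ℂ) = fun _ => (1 : ℂ) := rfl
  have hone_mem : Cfsg.classInner (Cfsg.indFun H (fun _ : H => (1 : ℂ)))
      ((irrOne G : IrrCharacter G) : G → ℂ) ≠ 0 ∧
      (∀ g : G, (starRingEnd ℂ) (((irrOne G : IrrCharacter G) : G → ℂ) g) =
        ((irrOne G : IrrCharacter G) : G → ℂ) g) ∧
      (Nat.card G : ℂ)⁻¹ * ∑ g : G, ((irrOne G : IrrCharacter G) : G → ℂ) (g * g) = 1 := by
    refine ⟨?_, ?_, ?_⟩
    · rw [hone3, inner_perm_one]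
      exact one_ne_zero
    · intro g
      rw [hone3]
      simp
    · rw [hone3]
      exact fsInd_one
  rw [Nat.card_eq_one_iff_unique]
  constructor
  · rintro ⟨hsub, _⟩
    by_contra hodd
    have heven : Even H.normalCore.index := Nat.not_odd_iff_even.1 hodd
    obtain ⟨g, hgH, hgg⟩ := exists_sq_mem H heven
    have hπ : IsCharacter G (indFun H (fun _ : H => (1 : ℂ))) :=
      isCharacter_indFun H (irr_isCharacter isIrrCharacter_one)
    have h1 := fsInd_perm H
    have h2 := fsInd_char hπ
    -- termwise bound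
    have hterm : ∀ χ : IrrCharacter G,
        (classInner (indFun H (fun _ : H => (1 : ℂ))) (χ : G → ℂ) * fsInd (χ : G → ℂ)).re ≤
          if χ = irrOne G then (1 : ℝ) else 0 := by
      intro χ
      by_cases hχ : χ = irrOne G
      · rw [if_pos hχ, hχ, hone3, inner_perm_one, fsInd_one]
        simp
      · rw [if_neg hχ]
        obtain ⟨n, hn⟩ := classInner_char_nat hπ (irr_isCharacter χ.2)
        rw [hn]
        rcases fsInd_cases χ.2 with h | h | h
        · rw [h]; simp
        · have hreal : ∀ g, ((χ : G → ℂ) g).im = 0 :=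
            (fsInd_ne_zero_iff χ.2).1 (by rw [h]; exact one_ne_zero)
          have hn0 : n = 0 := by
            by_contra hn0
            apply hχ
            have hmem : Cfsg.classInner (Cfsg.indFun H (fun _ : H => (1 : ℂ))) (χ : G → ℂ) ≠ 0 ∧
                (∀ g : G, (starRingEnd ℂ) ((χ : G → ℂ) g) = (χ : G → ℂ) g) ∧
                (Nat.card G : ℂ)⁻¹ * ∑ g : G, (χ : G → ℂ) (g * g) = 1 := by
              refine ⟨?_, ?_, h⟩
              · rw [hn]
                exact_mod_cast hn0
              · intro g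
                exact Complex.conj_eq_iff_im.2 (hreal g)
            have := @Subsingleton.elim _ hsub ⟨χ, hmem⟩ ⟨irrOne G, hone_mem⟩
            exact congrArg Subtype.val this
          rw [hn0, h]
          simp
        · rw [h]
          simp
    have hsum : (fsInd (indFun H (fun _ : H => (1 : ℂ)))).re ≤ 1 := by
      rw [h2, Complex.re_sum]
      calc ∑ χ : IrrCharacter G,
            (classInner (indFun H (fun _ : H => (1 : ℂ))) (χ : G → ℂ) * fsInd (χ : G → ℂ)).re
          ≤ ∑ χ : IrrCharacter G, (if χ = irrOne G then (1 : ℝ) else 0) :=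
            Finset.sum_le_sum (fun χ _ => hterm χ)
        _ = 1 := by rw [Finset.sum_ite_eq']; simp
    rw [h1] at hsum
    have hre : ((Nat.card H : ℂ)⁻¹ * (Nat.card {s : G // s * s ∈ H} : ℂ)).re =
        (Nat.card H : ℝ)⁻¹ * (Nat.card {s : G // s * s ∈ H} : ℝ) := by
      rw [← Complex.ofReal_natCast, ← Complex.ofReal_natCast, ← Complex.ofReal_inv,
        ← Complex.ofReal_mul, Complex.ofReal_re]
    rw [hre] at hsum
    have hHpos : (0 : ℝ) < (Nat.card H : ℝ) := by exact_mod_cast Nat.card_pos
    have h5 : (Nat.card {s : G // s * s ∈ H} : ℝ) ≤ (Nat.card H : ℝ) := by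
      have := mul_le_mul_of_nonneg_left hsum hHpos.le
      rw [← mul_assoc, mul_inv_cancel₀ hHpos.ne', one_mul, mul_one] at this
      exact this
    have h6 : Nat.card {s : G // s * s ∈ H} ≤ Nat.card H := by exact_mod_cast h5
    have h7 : Nat.card H < Nat.card {s : G // s * s ∈ H} := by
      rw [Nat.card_eq_fintype_card, Nat.card_eq_fintype_card]
      apply Fintype.card_lt_of_injective_of_notMem
        (fun x : H => (⟨x.1, H.mul_mem x.2 x.2⟩ : {s : G // s * s ∈ H})) (b := ⟨g, hgg⟩)
      · intro x y hxy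
        apply Subtype.ext
        have h := congrArg Subtype.val hxy
        exact h
      · rintro ⟨x, hx⟩
        apply hgH
        have : x.1 = g := congrArg Subtype.val hx
        rw [← this]
        exact x.2
    omega
  · intro hodd
    refine ⟨⟨?_⟩, ⟨⟨irrOne G, hone_mem⟩⟩⟩
    suffices hs : ∀ a : {χ : Cfsg.IrrCharacter G // Cfsg.classInner (Cfsg.indFun H (fun _ : H => (1 : ℂ))) (χ : G → ℂ) ≠ 0 ∧ (∀ g : G, (starRingEnd ℂ) ((χ : G → ℂ) g) = (χ : G → ℂ) g) ∧ (Nat.card G : ℂ)⁻¹ * ∑ g : G, (χ : G → ℂ) (g * g) = 1}, a = ⟨irrOne G, hone_mem⟩ by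
      intro a b
      rw [hs a, hs b]
    rintro ⟨χ, hne, hreal, hfs⟩
    apply Subtype.ext
    apply Subtype.ext
    show (χ : G → ℂ) = fun _ => (1 : ℂ)
    have hker := core_le_ker H χ.2 hne
    obtain ⟨ψ, hψ, hχψ⟩ := irr_deflation H.normalCore χ.2 hker
    have hoddq : Odd (Nat.card (G ⧸ H.normalCore)) := by
      rw [← Subgroup.index_eq_card]
      exact hodd
    have hψreal : ∀ q : G ⧸ H.normalCore, (ψ q).im = 0 := by
      intro q
      obtain ⟨g, rfl⟩ := QuotientGroup.mk_surjective q
      have : ψ (QuotientGroup.mk g) = (χ : G → ℂ) g := by rw [hχψ]; rfl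
      rw [this]
      exact Complex.conj_eq_iff_im.1 (hreal g)
    have h1 := Cfsg.Agent.S0161.result hoddq ⟨ψ, hψ⟩ hψreal
    rw [hχψ]
    funext g
    show ψ (QuotientGroup.mk g) = 1
    have : ψ = fun _ => 1 := h1
    rw [this]

end Cfsg.Agent.S4784
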