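import Cfsg.Statements.S4796
import Cfsg.Agent.Lib_helper24_FrobPrime
import Cfsg.Agent.Lib_helper24_CodPrime
import Cfsg.Agent.Lib_helper24_Inertia
import Cfsg.Agent.Lib_helper22_Clifford
-- import your own Cfsg.Agent.* helpers here

set_option autoImplicit false
open Cfsg

namespace Cfsg.Agent.S4796

open Cfsg.Agent.helper24
open scoped ComplexConjugate

universe u

theorem sum_normSq_irr {H : Type u} [Group H] [Fintype H] {ψ : H → ℂ} (hψ : IsIrrCharacter H ψ) :
    ∑ h : H, ‖ψ h‖ ^ 2 = (Nat.card H : ℝ) := by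
  have h1 := irr_classInner_self hψ
  unfold classInner at h1
  have hH : (Nat.card H : ℂ) ≠ 0 := by exact_mod_cast Nat.card_pos.ne'
  have h2 : ∑ h : H, ψ h * conj (ψ h) = (Nat.card H : ℂ) := by
    field_simp at h1
    exact h1
  have h3 : ∀ h : H, ψ h * conj (ψ h) = ((‖ψ h‖ ^ 2 : ℝ) : ℂ) := by
    intro h
    rw [Complex.mul_conj, Complex.normSq_eq_norm_sq]
  rw [Finset.sum_congr rfl (fun h _ => h3 h), ← Complex.ofReal_sum] at h2
  have h4 : ((Nat.card H : ℕ) : ℂ) = (((Nat.card H : ℕ) : ℝ) : ℂ) := by simp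
  rw [h4] at h2
  exact Complex.ofReal_injective h2

theorem centralizer_le {G : Type u} [Group G] [Fintype G] (χ : IrrCharacter G) (p : ℕ)
    (hp : p.Prime) (hcod : Nat.card G = p * charDegree (χ : G → ℂ)) (P : Subgroup G)
    [hPn : P.Normal] (hPcard : Nat.card P = p) :
    ∀ y : G, (∀ x ∈ P, y * x = x * y) → y ∈ P := by
  classical
  have : Fact p.Prime := ⟨hp⟩
  have hFP : Fintype P := Fintype.ofFinite _
  have := Fintype.ofFinite (IrrCharacter P)
  have hPcomm : ∀ a b : P, a * b = b * a := by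
    intro a b
    have hc : IsCyclic P := isCyclic_of_prime_card hPcard
    let _ : CommGroup P := IsCyclic.commGroup
    exact mul_comm a b
  -- a constituent of the restriction
  obtain ⟨θ, hθ⟩ : ∃ θ : IrrCharacter P,
      classInner (helper5.res P (χ : G → ℂ)) (θ : P → ℂ) ≠ 0 := by
    by_contra hcon
    have hcon' : ∀ θ : IrrCharacter P,
        classInner (helper5.res P (χ : G → ℂ)) (θ : P → ℂ) = 0 := by
      intro θ
      by_contra h
      exact hcon ⟨θ, h⟩
    obtain ⟨c, hexp, hc, -⟩ :=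
      helper12.char_decomp (helper5.isCharacter_res P (irr_isCharacter χ.2))
    have h0 : helper5.res P (χ : G → ℂ) = 0 := by
      rw [hexp]
      apply Finset.sum_eq_zero
      intro μ _
      have := hc μ
      rw [hcon' μ] at this
      rw [← this, zero_smul]
    have h1 := congrFun h0 1
    rw [helper5.res_apply, show ((1 : P) : G) = 1 from rfl] at h1
    exact irr_apply_one_ne_zero χ.2 h1
  obtain ⟨T, hT⟩ : ∃ T : Subgroup G, T = helper22.inertia P θ := ⟨_, rfl⟩
  have hFT : Fintype T := Fintype.ofFinite _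
  obtain ⟨ψ, hψ, _, ⟨k, hk0, hk⟩, hdeg⟩ := helper22.clifford_degree P χ.2 θ hθ T hT
  have hPT : P ≤ T := hT ▸ helper22.le_inertia P θ
  have hθ1 : (θ : P → ℂ) 1 = 1 := by
    have h1 := irr_degree_eq_one_of_comm (A := P) hPcomm θ
    rw [← char_charDegree_cast (irr_isCharacter θ.2), h1, Nat.cast_one]
  have hψ1 : ψ 1 = k := by
    have h1 := hk 1
    have h2 : (⟨(((1 : P.subgroupOf T) : T) : G), (1 : P.subgroupOf T).2⟩ : P) = 1 := rfl
    rw [h2, hθ1, mul_one] at h1
    exact h1
  have hψdeg : charDegree ψ = k := charDegree_natCast ψ k hψ1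
  rw [hψdeg] at hdeg
  have hTcard : Nat.card T = p * k := by
    have h1 := Subgroup.index_mul_card T
    rw [hcod, hdeg] at h1
    have hidx : 0 < T.index := Nat.pos_of_ne_zero (Subgroup.index_ne_zero_of_finite)
    have h2 : T.index * Nat.card T = T.index * (p * k) := by rw [h1]; ring
    exact Nat.eq_of_mul_eq_mul_left hidx h2
  -- the norm inequality
  have hineq : (k : ℝ) ^ 2 * p ≤ (Nat.card T : ℝ) := by
    rw [← sum_normSq_irr hψ]
    have hinj : Function.Injective (fun n : P => (⟨n.1, hPT n.2⟩ : T)) := by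
      intro a b hab
      apply Subtype.ext
      exact congrArg (fun t : T => (t : G)) hab
    have h1 : ∑ n : P, ‖ψ ⟨n.1, hPT n.2⟩‖ ^ 2 ≤ ∑ t : T, ‖ψ t‖ ^ 2 := by
      have h2 : ∑ n : P, ‖ψ ⟨n.1, hPT n.2⟩‖ ^ 2 =
          ∑ t ∈ Finset.univ.map ⟨fun n : P => (⟨n.1, hPT n.2⟩ : T), hinj⟩, ‖ψ t‖ ^ 2 := by
        rw [Finset.sum_map]
        rfl
      rw [h2]
      apply Finset.sum_le_sum_of_subset_of_nonneg (Finset.subset_univ _)
      intro t _ _
      positivity
    refine le_trans (le_of_eq ?_) h1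
    have h3 : ∀ n : P, ‖ψ ⟨n.1, hPT n.2⟩‖ ^ 2 = (k : ℝ) ^ 2 * ‖(θ : P → ℂ) n‖ ^ 2 := by
      intro n
      have h4 := hk ⟨⟨n.1, hPT n.2⟩, Subgroup.mem_subgroupOf.2 n.2⟩
      have h5 : ψ ⟨n.1, hPT n.2⟩ = (k : ℂ) * (θ : P → ℂ) n := h4
      rw [h5, norm_mul, mul_pow, Complex.norm_natCast]
    rw [Finset.sum_congr rfl (fun n _ => h3 n), ← Finset.mul_sum, sum_normSq_irr θ.2, hPcard]
  have hk1 : k = 1 := by
    rw [hTcard] at hineq
    have h1 : (k : ℝ) ^ 2 * p ≤ ((p * k : ℕ) : ℝ) := hineq
    have h2 : k ^ 2 * p ≤ p * k := by exact_mod_cast h1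
    have hk_pos : 0 < k := Nat.pos_of_ne_zero hk0
    have h3 : k * (k * p) ≤ 1 * (k * p) := by nlinarith
    have h4 : k ≤ 1 := Nat.le_of_mul_le_mul_right h3 (Nat.mul_pos hk_pos hp.pos)
    omega
  have hTP : T = P := by
    symm
    apply Subgroup.eq_of_le_of_card_ge hPT
    rw [hTcard, hk1, hPcard, mul_one]
  intro y hy
  rw [← hTP, hT, helper22.mem_inertia]
  funext h
  rw [helper8.conjFunN_apply]
  refine congrArg (θ : P → ℂ) (Subtype.ext ?_)
  show y * (h : G) * y⁻¹ = h
  rw [hy h h.2]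
  group

/-- Let G be a finite group with a faithful irreducible complex character χ whose codegree #G / χ(1) is a prime p (for a faithful character the kernel is trivial, so the codegree is #G / χ(1)). Then either G is cyclic of order p, or G is a Frobenius group whose Frobenius kernel has order p: some proper non-trivial subgroup H satisfies H ∩ gHg⁻¹ = 1 for every element g outside H, and the set of elements lying in no conjugate of H, together with the identity, has exactly p elements. -/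
theorem result {G : Type*} [Group G] [Finite G] (χ : Cfsg.IrrCharacter G) (hfaith : ∀ g : G, (χ : G → ℂ) g = (χ : G → ℂ) 1 → g = 1) (p : ℕ) (hp : p.Prime) (hcod : Nat.card G = p * Cfsg.charDegree (χ : G → ℂ)) : (IsCyclic G ∧ Nat.card G = p) ∨ ∃ H : Subgroup G, Cfsg.IsFrobeniusComplement H ∧ Nat.card ↥(Cfsg.frobeniusKernel H) = p := by
  classical
  have := Fintype.ofFinite G
  have hdlt := degree_lt_of_card_eq_prime_mul χ hfaith p hp hcod
  have hdpos : 0 < charDegree (χ : G → ℂ) := irr_charDegree_pos χ.2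
  by_cases hd1 : charDegree (χ : G → ℂ) = 1
  · left
    have hcard : Nat.card G = p := by rw [hcod, hd1, mul_one]
    have : Fact p.Prime := ⟨hp⟩
    exact ⟨isCyclic_of_prime_card hcard, hcard⟩
  · right
    obtain ⟨P, hPn, hPcard, hPindex⟩ :=
      exists_normal_of_card_prime_mul p (charDegree (χ : G → ℂ)) hp hdpos hdlt hcod
    have hcent := centralizer_le χ p hp hcod P hPcard
    exact frobenius_of_prime_kernel p (charDegree (χ : G → ℂ)) hp (by omega) hdlt P hPcard
      hPindex hcent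

end Cfsg.Agent.S4796
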