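import Cfsg.Statements.S4797
import Cfsg.Agent.Lib_helper24_CodPrime

set_option autoImplicit false
open Cfsg
open Cfsg.Agent.helper24

namespace Cfsg.Agent.S4797

universe u

theorem perfect_no_prime {G : Type u} [Group G] [Finite G] (hperf : commutator G = ⊤)
    (χ : IrrCharacter G) (hχ : (codeg (χ : G → ℂ)).Prime) : False := by
  have hc := irr_isCharacter χ.2
  obtain ⟨ψ, hψ, hχψ⟩ := irr_deflation (charKer hc) χ.2 (fun n hn => (mem_charKer hc n).mp hn)
  have hfaith : ∀ q : G ⧸ charKer hc, ψ q = ψ 1 → q = 1 := by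
    intro q hq
    obtain ⟨g, rfl⟩ := QuotientGroup.mk_surjective q
    have h1 : (χ : G → ℂ) g = (χ : G → ℂ) 1 := by
      rw [hχψ]
      exact hq
    exact (QuotientGroup.eq_one_iff g).mpr ((mem_charKer hc g).mpr h1)
  have hdeg : charDegree (χ : G → ℂ) = charDegree ψ := by
    simp only [charDegree, hχψ, Function.comp_apply]
    rfl
  have hcard : Nat.card (G ⧸ charKer hc) = codeg (χ : G → ℂ) * charDegree ψ := by
    have h1 := codeg_mul χ.2
    rw [card_charKer hc, Subgroup.card_eq_card_quotient_mul_card_subgroup (charKer hc), hdeg] at h1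
    have hpos : 0 < Nat.card (charKer hc) := Nat.card_pos
    apply Nat.eq_of_mul_eq_mul_right hpos
    rw [← h1]
    ring
  have hperf' : commutator (G ⧸ charKer hc) = ⊤ := by
    rw [commutator_def, ← Subgroup.map_top_of_surjective _ (QuotientGroup.mk'_surjective (charKer hc)),
      ← Subgroup.map_commutator, ← commutator_def, hperf]
  exact no_faithful_prime_cod hperf' ⟨ψ, hψ⟩ hfaith _ hχ hcard

theorem not_perfect_prime {G : Type u} [Group G] [Finite G] (h : commutator G ≠ ⊤) :
    ∃ χ : IrrCharacter G, (codeg (χ : G → ℂ)).Prime := by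
  obtain ⟨N, hN, hp⟩ := exists_normal_prime_index h
  obtain ⟨ψ, hψ⟩ := exists_codeg_prime_of_card_prime (H := G ⧸ N) hp rfl
  refine ⟨(inflEquiv N ψ).1, ?_⟩
  have : ((inflEquiv N ψ).1 : G → ℂ) = (ψ : G ⧸ N → ℂ) ∘ (QuotientGroup.mk : G → G ⧸ N) := rfl
  rw [this, codeg_inflation N (irr_isCharacter ψ.2), hψ]
  exact hp

/-- The codegree of an irreducible complex character χ of a finite group G is [G : ker χ] / χ(1), where ker χ is the set of elements at which χ takes the value χ(1). A non-trivial finite group is perfect if and only if no irreducible complex character of it has prime codegree. -/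
theorem result {G : Type*} [Group G] [Finite G] [Nontrivial G] : commutator G = ⊤ ↔ ∀ χ : Cfsg.IrrCharacter G, ¬ ((Nat.card G / (Nat.card {g : G // (χ : G → ℂ) g = (χ : G → ℂ) 1} * Cfsg.charDegree (χ : G → ℂ)))).Prime := by
  constructor
  · intro hperf χ hχ
    exact perfect_no_prime hperf χ hχ
  · intro h
    by_contra hne
    obtain ⟨χ, hχ⟩ := not_perfect_prime hne
    exact h χ hχ

end Cfsg.Agent.S4797
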