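import Cfsg.Statements.S4801
import Cfsg.Agent.Lib_helper24_CharCod

set_option autoImplicit false
open Cfsg
open Cfsg.Agent.helper24

namespace Cfsg.Agent.S4801

universe u

/-- In a simple group, for each prime `p` dividing the order there is a faithful irreducible
character of degree prime to `p`. -/
theorem exists_faithful_pprime {S : Type u} [Group S] [Finite S] (hS : IsSimpleGroup S)
    (p : ℕ) (hp : p.Prime) (hpS : p ∣ Nat.card S) :
    ∃ χ : IrrCharacter S, (∀ g, (χ : S → ℂ) g = (χ : S → ℂ) 1 → g = 1) ∧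
      ¬ p ∣ charDegree (χ : S → ℂ) := by
  classical
  have := Fintype.ofFinite (IrrCharacter S)
  have hsum : ∑ χ : IrrCharacter S, charDegree (χ : S → ℂ) ^ 2 = Nat.card S := sum_irr_degree_sq
  have hsumN := sum_degree_sq_ker (G := S) ⊤
  rw [← Finset.sum_filter_add_sum_filter_not Finset.univ
    (fun χ : IrrCharacter S => ∀ n ∈ (⊤ : Subgroup S), (χ : S → ℂ) n = (χ : S → ℂ) 1), hsumN,
    Subgroup.index_top] at hsum
  have hex : ∃ χ : IrrCharacter S, (¬ ∀ n ∈ (⊤ : Subgroup S), (χ : S → ℂ) n = (χ : S → ℂ) 1) ∧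
      ¬ p ∣ charDegree (χ : S → ℂ) := by
    by_contra hcon
    simp only [not_exists, not_and, not_not] at hcon
    have hdvd : p ∣ ∑ χ ∈ Finset.univ.filter (fun χ : IrrCharacter S =>
        ¬ ∀ n ∈ (⊤ : Subgroup S), (χ : S → ℂ) n = (χ : S → ℂ) 1), charDegree (χ : S → ℂ) ^ 2 := by
      apply Finset.dvd_sum
      intro χ hχ
      rw [Finset.mem_filter] at hχ
      exact dvd_pow (hcon χ hχ.2) two_ne_zero
    have h5 : p ∣ 1 := by
      rw [← hsum] at hpS
      exact (Nat.dvd_add_iff_left hdvd).mpr hpS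
    exact hp.one_lt.ne' (Nat.dvd_one.mp h5)
  obtain ⟨χ, hχN, hχp⟩ := hex
  refine ⟨χ, ?_, hχp⟩
  have hc := irr_isCharacter χ.2
  have hker : charKer hc = ⊥ := by
    rcases (charKer_normal hc).eq_bot_or_eq_top with h | h
    · exact h
    · exfalso
      apply hχN
      intro n _
      apply (mem_charKer hc n).mp
      rw [h]
      trivial
  intro g hg
  have : g ∈ charKer hc := (mem_charKer hc g).mpr hg
  rwa [hker, Subgroup.mem_bot] at this

/-- The codegree of an irreducible complex character χ of a finite group G is [G : ker χ] / χ(1), where ker χ is the set of elements at which χ takes the value χ(1). Let S be a finite simple group and G a finite group such that every codegree of an irreducible character of S is a codegree of an irreducible character of G. Then the order of S divides the order of G. -/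
theorem result {S : Type*} [Group S] [Finite S] (hS : IsSimpleGroup S) {G : Type*} [Group G] [Finite G] (hsub : ∀ χ : Cfsg.IrrCharacter S, ∃ ψ : Cfsg.IrrCharacter G, (Nat.card S / (Nat.card {g : S // (χ : S → ℂ) g = (χ : S → ℂ) 1} * Cfsg.charDegree (χ : S → ℂ))) = (Nat.card G / (Nat.card {g : G // (ψ : G → ℂ) g = (ψ : G → ℂ) 1} * Cfsg.charDegree (ψ : G → ℂ)))) : Nat.card S ∣ Nat.card G := by
  have hS0 : Nat.card S ≠ 0 := Nat.card_pos.ne'
  have hG0 : Nat.card G ≠ 0 := Nat.card_pos.ne'
  rw [← Nat.factorization_prime_le_iff_dvd hS0 hG0]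
  intro p hp
  by_cases hpS : p ∣ Nat.card S
  · obtain ⟨χ, hfaith, hχp⟩ := exists_faithful_pprime hS p hp hpS
    obtain ⟨ψ, hψ⟩ := hsub χ
    have h1 : codeg (χ : S → ℂ) = codeg (ψ : G → ℂ) := hψ
    have h2 : codeg (ψ : G → ℂ) ∣ Nat.card G := codeg_dvd_card ψ.2
    rw [← h1, codeg_faithful hfaith] at h2
    have hd : charDegree (χ : S → ℂ) ∣ Nat.card S := irr_degree_dvd_card χ.2
    obtain ⟨k, hk⟩ := hd
    have hpos : 0 < charDegree (χ : S → ℂ) := irr_charDegree_pos χ.2
    rw [hk, Nat.mul_div_cancel_left _ hpos] at h2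
    have hk0 : k ≠ 0 := by
      rintro rfl
      rw [mul_zero] at hk
      exact hS0 hk
    have h3 : (Nat.card S).factorization p = k.factorization p := by
      rw [hk, Nat.factorization_mul hpos.ne' hk0]
      simp [Nat.factorization_eq_zero_of_not_dvd hχp]
    rw [h3]
    exact (Nat.factorization_le_iff_dvd hk0 hG0).mpr h2 p
  · rw [Nat.factorization_eq_zero_of_not_dvd hpS]
    exact Nat.zero_le _

end Cfsg.Agent.S4801
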