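import Cfsg.Statements.S4802
import Cfsg.Agent.Lib_helper24_CharNormal

set_option autoImplicit false
open Cfsg

namespace Cfsg.Agent.S4802

open Cfsg.Agent.helper24
open scoped ComplexConjugate

/-- Let N < M be normal subgroups of the finite group G and g ∈ M ∖ N. Then the conjugacy class of g is exactly M ∖ N if and only if every irreducible complex character of G whose kernel contains N takes the same value at all elements of M ∖ N, and every irreducible complex character of G whose kernel does not contain N vanishes at g. -/
theorem result {G : Type*} [Group G] [Finite G] (N M : Subgroup G) [N.Normal] [M.Normal] (hNM : N < M) (g : G) (hgM : g ∈ M) (hgN : g ∉ N) : {h : G | IsConj g h} = (M : Set G) \ (N : Set G) ↔ ((∀ χ : Cfsg.IrrCharacter G, (∀ x ∈ N, (χ : G → ℂ) x = (χ : G → ℂ) 1) → ∀ x ∈ M, x ∉ N → ∀ y ∈ M, y ∉ N → (χ : G → ℂ) x = (χ : G → ℂ) y) ∧ (∀ χ : Cfsg.IrrCharacter G, (∃ x ∈ N, (χ : G → ℂ) x ≠ (χ : G → ℂ) 1) → (χ : G → ℂ) g = 0)) := by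
  classical
  have := Fintype.ofFinite G
  have := Fintype.ofFinite (IrrCharacter G)
  constructor
  · intro hcl
    have hconj : ∀ x ∈ M, x ∉ N → IsConj g x := by
      intro x hxM hxN
      have : x ∈ {h : G | IsConj g h} := by rw [hcl]; exact ⟨hxM, hxN⟩
      exact this
    refine ⟨?_, ?_⟩
    · intro χ _ x hxM hxN y hyM hyN
      have hcf := isClassFunction_iff_isConj.mp (char_isClassFunction (irr_isCharacter χ.2))
      rw [← hcf g x (hconj x hxM hxN), ← hcf g y (hconj y hyM hyN)]
    · intro χ ⟨x, hxN, hx⟩
      rcases irr_normal_dichotomy χ.2 N with h0 | h1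
      · have h2 := h0 g
        have hcf := isClassFunction_iff_isConj.mp (char_isClassFunction (irr_isCharacter χ.2))
        have h3 : ∀ h : G, (if h ∈ N then (χ : G → ℂ) (g * h) else 0) =
            (if h ∈ N then (χ : G → ℂ) g else 0) := by
          intro h
          split_ifs with hh
          · have hM : g * h ∈ M := M.mul_mem hgM (hNM.le hh)
            have hN' : g * h ∉ N := fun hc => hgN ((Subgroup.mul_mem_cancel_right N hh).mp hc)
            exact (hcf g (g * h) (hconj _ hM hN')).symm
          · rfl
        simp_rw [h3] at h2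
        rw [← Finset.sum_filter, Finset.sum_const, nsmul_eq_mul] at h2
        rcases mul_eq_zero.mp h2 with h4 | h4
        · exfalso
          have : (Finset.univ.filter (fun h : G => h ∈ N)).card ≠ 0 := by
            apply Finset.card_ne_zero_of_mem (a := 1)
            simp [N.one_mem]
          exact this (by exact_mod_cast h4)
        · exact h4
      · exact absurd (h1 x hxN) hx
  · intro ⟨h1, h2⟩
    apply Set.eq_of_subset_of_subset
    · intro h hh
      obtain ⟨c, hc⟩ := isConj_iff.mp hh
      refine ⟨?_, ?_⟩
      · rw [← hc]; exact Subgroup.Normal.conj_mem inferInstance g hgM c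
      · intro hN
        apply hgN
        have : c⁻¹ * h * c⁻¹⁻¹ ∈ N := Subgroup.Normal.conj_mem inferInstance h hN c⁻¹
        rw [← hc] at this
        simpa [mul_assoc] using this
    · intro x ⟨hxM, hxN⟩
      show IsConj g x
      have hcol := irr_column_orthogonality x g
      by_contra hnc
      rw [if_neg (fun h => hnc h.symm)] at hcol
      -- each term is a nonnegative real, and the principal character contributes 1
      have hterm : ∀ χ : IrrCharacter G, (χ : G → ℂ) x * conj ((χ : G → ℂ) g) =
          ((Complex.normSq ((χ : G → ℂ) g) : ℝ) : ℂ) := by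
        intro χ
        by_cases hk : ∀ y ∈ N, (χ : G → ℂ) y = (χ : G → ℂ) 1
        · rw [h1 χ hk x hxM hxN g hgM hgN, Complex.mul_conj]
        · simp only [not_forall] at hk
          obtain ⟨y, hyN, hy⟩ := hk
          rw [h2 χ ⟨y, hyN, hy⟩]
          simp
      simp_rw [hterm] at hcol
      have hre := congrArg Complex.re hcol
      rw [← Complex.ofReal_sum, Complex.ofReal_re, Complex.zero_re] at hre
      have hnn : ∀ χ ∈ (Finset.univ : Finset (IrrCharacter G)), 0 ≤ Complex.normSq ((χ : G → ℂ) g) :=
        fun χ _ => Complex.normSq_nonneg _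
      have hall := (Finset.sum_eq_zero_iff_of_nonneg hnn).mp hre
      have := hall (irrOne G) (Finset.mem_univ _)
      simp [irrOne] at this

end Cfsg.Agent.S4802
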