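import Cfsg.Statements.S4808
import Cfsg.Agent.Lib_helper24_CharCod

set_option autoImplicit false
open Cfsg
open Cfsg.Agent.helper24

namespace Cfsg.Agent.S4808

universe u

/-- If two normal subgroups intersect trivially, `|G|` divides the product of their indices. -/
theorem card_dvd_index_mul_index {G : Type u} [Group G] [Finite G] (N N' : Subgroup G)
    [N.Normal] [N'.Normal] (h : N ⊓ N' = ⊥) : Nat.card G ∣ N'.index * N.index := by
  rw [← Subgroup.card_mul_index N]
  apply Nat.mul_dvd_mul_right
  -- N embeds in G ⧸ N'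
  have hinj : Function.Injective ((QuotientGroup.mk' N').comp N.subtype) := by
    rw [injective_iff_map_eq_one]
    intro x hx
    have hx' : (x : G) ∈ N' := by
      simpa using hx
    have : (x : G) ∈ N ⊓ N' := ⟨x.2, hx'⟩
    rw [h, Subgroup.mem_bot] at this
    exact Subtype.ext this
  exact Subgroup.card_dvd_of_injective _ hinj

theorem main (p : ℕ) (hp : p.Prime) : ∀ n : ℕ, ∀ (G : Type u) [Group G] [Finite G],
    Nat.card G = n → p ∣ n → ∃ χ : IrrCharacter G, p ∣ codeg (χ : G → ℂ) := by
  intro n
  induction n using Nat.strong_induction_on with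
  | _ n ih =>
  intro G _ _ hn hpn
  classical
  by_cases hcase : ∃ N : Subgroup G, N.Normal ∧ N ≠ ⊥ ∧ p ∣ N.index
  · obtain ⟨N, hNn, hNb, hpN⟩ := hcase
    have hlt : Nat.card (G ⧸ N) < n := by
      rw [← hn, ← Subgroup.card_mul_index N]
      have h1 : 1 < Nat.card N := by
        rw [Subgroup.one_lt_card_iff_ne_bot]
        exact hNb
      have h2 : 0 < N.index := Nat.pos_of_ne_zero Subgroup.index_ne_zero_of_finite
      change N.index < _
      nlinarith
    obtain ⟨ψ, hψ⟩ := ih _ hlt (G ⧸ N) rfl hpN
    refine ⟨(inflEquiv N ψ).1, ?_⟩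
    have : ((inflEquiv N ψ).1 : G → ℂ) = (ψ : G ⧸ N → ℂ) ∘ (QuotientGroup.mk : G → G ⧸ N) := rfl
    rw [this, codeg_inflation N (irr_isCharacter ψ.2)]
    exact hψ
  · simp only [not_exists, not_and] at hcase
    have hG1 : Nat.card G ≠ 1 := by
      intro h1
      rw [hn] at h1
      rw [h1] at hpn
      exact hp.one_lt.ne' (Nat.dvd_one.mp hpn)
    have hnt : Nontrivial G := by
      rw [← Finite.one_lt_card_iff_nontrivial]
      have : 0 < Nat.card G := Nat.card_pos
      omega
    -- a minimal normal subgroup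
    obtain ⟨N, hN, hmin⟩ := WellFounded.has_min
      (InvImage.wf (fun N : Subgroup G => Nat.card N) Nat.lt_wfRel.wf)
      {N : Subgroup G | N.Normal ∧ N ≠ ⊥} ⟨⊤, Subgroup.normal_top, top_ne_bot⟩
    obtain ⟨hNn, hNb⟩ := hN
    have hle : ∀ N' : Subgroup G, N'.Normal → N' ≠ ⊥ → N ≤ N' := by
      intro N' hN'n hN'b
      have hinf : N ⊓ N' ≠ ⊥ := by
        intro hbot
        have h1 := card_dvd_index_mul_index N N' hbot
        rw [hn] at h1
        rcases (Nat.Prime.dvd_mul hp).mp (hpn.trans h1) with h2 | h2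
        · exact hcase N' hN'n hN'b h2
        · exact hcase N hNn hNb h2
      have hnorm : (N ⊓ N').Normal := inferInstance
      have h3 := hmin (N ⊓ N') ⟨hnorm, hinf⟩
      have h3' : Nat.card N ≤ Nat.card (N ⊓ N' : Subgroup G) := not_lt.mp h3
      have h4 : N ⊓ N' = N := Subgroup.eq_of_le_of_card_ge inf_le_left h3'
      rw [← h4]
      exact inf_le_right
    have := Fintype.ofFinite (IrrCharacter G)
    have hsum : ∑ χ : IrrCharacter G, charDegree (χ : G → ℂ) ^ 2 = Nat.card G := sum_irr_degree_sq
    have hsumN := sum_degree_sq_ker (G := G) N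
    rw [← Finset.sum_filter_add_sum_filter_not Finset.univ
      (fun χ : IrrCharacter G => ∀ n ∈ N, (χ : G → ℂ) n = (χ : G → ℂ) 1), hsumN] at hsum
    -- some faithful character has degree prime to p
    have hex : ∃ χ : IrrCharacter G, (¬ ∀ n ∈ N, (χ : G → ℂ) n = (χ : G → ℂ) 1) ∧
        ¬ p ∣ charDegree (χ : G → ℂ) := by
      by_contra hcon
      simp only [not_exists, not_and, not_not] at hcon
      have hdvd : p ∣ ∑ χ ∈ Finset.univ.filter (fun χ : IrrCharacter G =>
          ¬ ∀ n ∈ N, (χ : G → ℂ) n = (χ : G → ℂ) 1), charDegree (χ : G → ℂ) ^ 2 := by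
        apply Finset.dvd_sum
        intro χ hχ
        rw [Finset.mem_filter] at hχ
        exact dvd_pow (hcon χ hχ.2) two_ne_zero
      have h5 : p ∣ N.index := by
        have h6 : p ∣ Nat.card G := hn ▸ hpn
        rw [← hsum] at h6
        exact (Nat.dvd_add_iff_left hdvd).mpr h6
      exact hcase N hNn hNb h5
    obtain ⟨χ, hχN, hχp⟩ := hex
    refine ⟨χ, ?_⟩
    have hc := irr_isCharacter χ.2
    have hker : charKer hc = ⊥ := by
      by_contra hne
      have := hle (charKer hc) inferInstance hne
      exact hχN (fun n hn => (mem_charKer hc n).mp (this hn))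
    have hfaith : ∀ g, (χ : G → ℂ) g = (χ : G → ℂ) 1 → g = 1 := by
      intro g hg
      have : g ∈ charKer hc := (mem_charKer hc g).mpr hg
      rwa [hker, Subgroup.mem_bot] at this
    rw [codeg_faithful hfaith]
    have hd : charDegree (χ : G → ℂ) ∣ Nat.card G := irr_degree_dvd_card χ.2
    obtain ⟨k, hk⟩ := hd
    have hpos : 0 < charDegree (χ : G → ℂ) := irr_charDegree_pos χ.2
    rw [hk, Nat.mul_div_cancel_left _ hpos]
    have h6 : p ∣ Nat.card G := hn ▸ hpn
    rw [hk] at h6
    exact ((Nat.Prime.dvd_mul hp).mp h6).resolve_left hχp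

/-- The codegree of an irreducible complex character χ of a finite group G is [G : ker χ] / χ(1), where ker χ is the set of elements at which χ takes the value χ(1). A prime divides the order of G if and only if it divides the codegree of some irreducible complex character of G. -/
theorem result {G : Type*} [Group G] [Finite G] (p : ℕ) (hp : p.Prime) : p ∣ Nat.card G ↔ ∃ χ : Cfsg.IrrCharacter G, p ∣ (Nat.card G / (Nat.card {g : G // (χ : G → ℂ) g = (χ : G → ℂ) 1} * Cfsg.charDegree (χ : G → ℂ))) := by
  constructor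
  · intro h
    exact main p hp _ G rfl h
  · rintro ⟨χ, hχ⟩
    exact hχ.trans (codeg_dvd_card χ.2)

end Cfsg.Agent.S4808
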