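import Cfsg.Statements.S4856
import Cfsg.Agent.Lib_helper24_CharConv

set_option autoImplicit false
open Cfsg

namespace Cfsg.Agent.S4856

open Cfsg.Agent.helper24
open scoped ComplexConjugate

/-- For an element z of a finite group G, the number of pairs (x, y) of elements with x y x⁻¹ y⁻¹ = z equals the order of G times the sum over the irreducible characters χ of χ(z)/χ(1). -/
theorem result {G : Type*} [Group G] [Finite G] (z : G) : (Nat.card {xy : G × G // xy.1 * xy.2 * xy.1⁻¹ * xy.2⁻¹ = z} : ℂ) = (Nat.card G : ℂ) * ∑ᶠ χ : Cfsg.IrrCharacter G, (χ : G → ℂ) z / (χ : G → ℂ) 1 := by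
  classical
  have := Fintype.ofFinite G
  have := Fintype.ofFinite (IrrCharacter G)
  rw [finsum_eq_sum_of_fintype]
  -- count pairs by first coordinate
  have hcount : Nat.card {xy : G × G // xy.1 * xy.2 * xy.1⁻¹ * xy.2⁻¹ = z} =
      ∑ x : G, Nat.card {y : G // y * x⁻¹ * y⁻¹ = x⁻¹ * z} := by
    rw [Nat.card_eq_fintype_card, Fintype.card_subtype, Finset.card_filter, Fintype.sum_prod_type]
    refine Finset.sum_congr rfl (fun x _ => ?_)
    rw [Nat.card_eq_fintype_card, Fintype.card_subtype, Finset.card_filter]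
    refine Finset.sum_congr rfl (fun y _ => ?_)
    have : (x * y * x⁻¹ * y⁻¹ = z) ↔ (y * x⁻¹ * y⁻¹ = x⁻¹ * z) := by
      constructor
      · intro h; rw [← h]; group
      · intro h
        have : x * (y * x⁻¹ * y⁻¹) = x * (x⁻¹ * z) := by rw [h]
        rw [mul_inv_cancel_left] at this
        rw [← this]; group
    simp only [this]
  rw [hcount]
  push_cast
  simp_rw [card_conjugators_eq_sum]
  rw [Finset.sum_comm, Finset.mul_sum]
  refine Finset.sum_congr rfl (fun χ _ => ?_)
  have hχ := χ.2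
  have hgo := irr_generalized_orthogonality hχ hχ z
  rw [if_pos rfl] at hgo
  have : ∀ x : G, (χ : G → ℂ) (x⁻¹ * z) * conj ((χ : G → ℂ) x⁻¹) = (χ : G → ℂ) x * (χ : G → ℂ) (z * x⁻¹) := by
    intro x
    rw [char_conj_eq (irr_isCharacter hχ), inv_inv, char_mul_comm (irr_isCharacter hχ) x⁻¹ z, mul_comm]
  simp_rw [this]
  rw [hgo]
  ring

end Cfsg.Agent.S4856
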