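import Cfsg.Statements.S4814
import Cfsg.Agent.Lib_helper24_CharValues
import Cfsg.Agent.S4856

set_option autoImplicit false
open Cfsg

namespace Cfsg.Agent.S4814

open Cfsg.Agent.helper24
open scoped ComplexConjugate

/-- The commutator-pair count, as a complex number. -/
noncomputable def commCount {G : Type*} [Group G] (z : G) : ℂ :=
  (Nat.card {xy : G × G // xy.1 * xy.2 * xy.1⁻¹ * xy.2⁻¹ = z} : ℂ)

theorem commCount_eq {G : Type*} [Group G] [Finite G] [Fintype (IrrCharacter G)] (z : G) :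
    commCount z = (Nat.card G : ℂ) * ∑ χ : IrrCharacter G, (χ : G → ℂ) z / (χ : G → ℂ) 1 := by
  rw [commCount, Cfsg.Agent.S4856.result z, finsum_eq_sum_of_fintype]

theorem commCount_ne_zero {G : Type*} [Group G] [Finite G] {z : G} (h : commCount z ≠ 0) :
    ∃ a b : G, a * b * a⁻¹ * b⁻¹ = z := by
  by_contra hcon
  apply h
  rw [commCount]
  have : IsEmpty {xy : G × G // xy.1 * xy.2 * xy.1⁻¹ * xy.2⁻¹ = z} :=
    ⟨fun xy => hcon ⟨xy.1.1, xy.1.2, xy.2⟩⟩
  simp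

theorem sum_commCount {G : Type*} [Group G] [Fintype G] [Fintype (IrrCharacter G)] (g : G) :
    ∑ u : G, commCount u * commCount (u⁻¹ * g) =
      (Nat.card G : ℂ) ^ 3 * ∑ χ : IrrCharacter G, (χ : G → ℂ) g / ((χ : G → ℂ) 1) ^ 3 := by
  classical
  simp_rw [commCount_eq, Finset.mul_sum, Finset.sum_mul]
  rw [Finset.sum_comm]
  refine Finset.sum_congr rfl (fun χ _ => ?_)
  rw [Finset.sum_comm]
  have hχ1 := irr_apply_one_ne_zero χ.2
  have key : ∀ ψ : IrrCharacter G, ∑ u : G, (Nat.card G : ℂ) * ((ψ : G → ℂ) u / (ψ : G → ℂ) 1) *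
      ((Nat.card G : ℂ) * ((χ : G → ℂ) (u⁻¹ * g) / (χ : G → ℂ) 1)) =
      if ψ = χ then (Nat.card G : ℂ) ^ 3 * ((χ : G → ℂ) g / ((χ : G → ℂ) 1) ^ 3) else 0 := by
    intro ψ
    have hψ1 := irr_apply_one_ne_zero ψ.2
    have hgo := irr_generalized_orthogonality ψ.2 χ.2 g
    have : ∀ u : G, (Nat.card G : ℂ) * ((ψ : G → ℂ) u / (ψ : G → ℂ) 1) *
      ((Nat.card G : ℂ) * ((χ : G → ℂ) (u⁻¹ * g) / (χ : G → ℂ) 1)) =
      (Nat.card G : ℂ) ^ 2 / ((χ : G → ℂ) 1 * (ψ : G → ℂ) 1) * ((ψ : G → ℂ) u * (χ : G → ℂ) (g * u⁻¹)) := by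
      intro u
      rw [char_mul_comm (irr_isCharacter χ.2) u⁻¹ g]
      field_simp
    simp_rw [this]
    rw [← Finset.mul_sum, hgo]
    by_cases hχψ : ψ = χ
    · subst hχψ
      rw [if_pos rfl, if_pos rfl]
      field_simp
    · rw [if_neg hχψ, if_neg (fun h => hχψ (Subtype.ext h)), mul_zero]
  simp_rw [key]
  rw [Finset.sum_ite_eq']
  simp

/-- Let G be a finite group such that the sum, over the irreducible complex characters χ of G, of 1/χ(1)² is less than 2. Then every element of G is a product of two commutators. -/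
theorem result {G : Type*} [Group G] [Finite G]
    (h : ∑ᶠ χ : Cfsg.IrrCharacter G, 1 / ‖(χ : G → ℂ) 1‖ ^ 2 < (2 : ℝ)) (g : G) :
    ∃ a b c d : G, (a * b * a⁻¹ * b⁻¹) * (c * d * c⁻¹ * d⁻¹) = g := by
  classical
  have := Fintype.ofFinite G
  have := Fintype.ofFinite (IrrCharacter G)
  by_contra hcon
  have hzero : ∀ u : G, commCount u * commCount (u⁻¹ * g) = 0 := by
    intro u
    by_contra hne
    obtain ⟨h1, h2⟩ := mul_ne_zero_iff.mp hne
    obtain ⟨a, b, hab⟩ := commCount_ne_zero h1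
    obtain ⟨c, d, hcd⟩ := commCount_ne_zero h2
    exact hcon ⟨a, b, c, d, by rw [hab, hcd, mul_inv_cancel_left]⟩
  have hsum := sum_commCount g
  rw [Finset.sum_eq_zero (fun u _ => hzero u)] at hsum
  have hG : (Nat.card G : ℂ) ^ 3 ≠ 0 := pow_ne_zero _ (by exact_mod_cast Nat.card_pos.ne')
  have hS : ∑ χ : IrrCharacter G, (χ : G → ℂ) g / ((χ : G → ℂ) 1) ^ 3 = 0 := by
    rcases mul_eq_zero.mp hsum.symm with h0 | h0
    · exact absurd h0 hG
    · exact h0
  -- isolate the principal character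
  rw [← Finset.add_sum_erase _ _ (Finset.mem_univ (irrOne G))] at hS
  have h1 : ((irrOne G : IrrCharacter G) : G → ℂ) g / (((irrOne G : IrrCharacter G) : G → ℂ) 1) ^ 3 = 1 := by
    simp [irrOne]
  rw [h1] at hS
  rw [finsum_eq_sum_of_fintype, ← Finset.add_sum_erase _ _ (Finset.mem_univ (irrOne G))] at h
  have h1' : 1 / ‖((irrOne G : IrrCharacter G) : G → ℂ) 1‖ ^ 2 = (1:ℝ) := by
    simp [irrOne]
  rw [h1'] at h
  have hbound : ‖∑ χ ∈ Finset.univ.erase (irrOne G), (χ : G → ℂ) g / ((χ : G → ℂ) 1) ^ 3‖ ≤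
      ∑ χ ∈ Finset.univ.erase (irrOne G), 1 / ‖(χ : G → ℂ) 1‖ ^ 2 := by
    refine (norm_sum_le _ _).trans (Finset.sum_le_sum (fun χ _ => ?_))
    have hχ1 : 0 < ‖(χ : G → ℂ) 1‖ := norm_pos_iff.mpr (irr_apply_one_ne_zero χ.2)
    rw [norm_div, norm_pow, div_le_div_iff₀ (pow_pos hχ1 3) (pow_pos hχ1 2)]
    have := char_norm_le (irr_isCharacter χ.2) g
    nlinarith [pow_pos hχ1 2, norm_nonneg ((χ : G → ℂ) g)]
  have hnorm : ‖∑ χ ∈ Finset.univ.erase (irrOne G), (χ : G → ℂ) g / ((χ : G → ℂ) 1) ^ 3‖ = 1 := by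
    have : ∑ χ ∈ Finset.univ.erase (irrOne G), (χ : G → ℂ) g / ((χ : G → ℂ) 1) ^ 3 = -1 := by
      linear_combination hS
    rw [this]; simp
  linarith

end Cfsg.Agent.S4814
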