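import Cfsg.Statements.S4825
import Mathlib
import Cfsg.Agent.Lib_helper1_RelK0

set_option autoImplicit false
set_option linter.style.haveILetI false
set_option linter.unusedVariables false
open Cfsg

namespace Cfsg.Agent.S4825

/-- Let p be a prime, G a finite group with Sylow p-subgroup P, M a maximal ideal of the algebraic integers containing p, and B a p-block of G with defect group P. Let N be a normal subgroup of G not containing P and θ an irreducible character of N. Then the number of irreducible characters in B of degree prime to p lying over θ (having θ as a constituent on restriction to N) is either 0 or at least 2, and when p ≤ 3 it is divisible by p. -/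
theorem result {G : Type*} [Group G] [Fintype G] (p : ℕ) [Fact p.Prime] (P : Sylow p G) (M : Ideal Cfsg.AlgInt) (hM : Cfsg.IsPModular p M) (B : Set (Cfsg.IrrCharacter G)) (hB : Cfsg.IsPBlock M B) (hBP : Cfsg.IsDefectGroup p M B P) (N : Subgroup G) [N.Normal] [Fintype N] (hPN : ¬ (P : Subgroup G) ≤ N) (θ : Cfsg.IrrCharacter N) :
    (Nat.card {χ : Cfsg.IrrCharacter G // χ ∈ B ∧ ¬ p ∣ Cfsg.charDegree (χ : G → ℂ) ∧ Cfsg.classInner (fun n : N => (χ : G → ℂ) n) (θ : N → ℂ) ≠ 0} = 0 ∨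
      2 ≤ Nat.card {χ : Cfsg.IrrCharacter G // χ ∈ B ∧ ¬ p ∣ Cfsg.charDegree (χ : G → ℂ) ∧ Cfsg.classInner (fun n : N => (χ : G → ℂ) n) (θ : N → ℂ) ≠ 0}) ∧
    (p ≤ 3 → p ∣ Nat.card {χ : Cfsg.IrrCharacter G // χ ∈ B ∧ ¬ p ∣ Cfsg.charDegree (χ : G → ℂ) ∧ Cfsg.classInner (fun n : N => (χ : G → ℂ) n) (θ : N → ℂ) ≠ 0}) := by
  classical
  have hp : p.Prime := Fact.out
  haveI : Fintype (IrrCharacter G) := Fintype.ofFinite _
  -- a p-element outside N
  obtain ⟨x, hxP, hxN⟩ := SetLike.not_le_iff_exists.mp hPN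
  obtain ⟨k, hk⟩ := (IsPGroup.iff_orderOf.mp P.isPGroup') ⟨x, hxP⟩
  have hxord : orderOf x = p ^ k := by
    rw [← hk]; exact (Subgroup.orderOf_mk x hxP).symm
  have hxpow : x ^ (p ^ k) = 1 := by rw [← hxord]; exact pow_orderOf_eq_one x
  -- the multiplicities
  choose a ha using fun χ : IrrCharacter G =>
    Cfsg.Agent.helper12.classInner_char_nat
      (Cfsg.Agent.helper5.isCharacter_res N (Cfsg.Agent.helper24.irr_isCharacter χ.2))
      (Cfsg.Agent.helper24.irr_isCharacter θ.2)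
  set Bf : Finset (IrrCharacter G) := Finset.univ.filter (fun χ => χ ∈ B) with hBf
  -- Step 1
  have h1 : ∑ χ ∈ Bf, (a χ : ℂ) * (χ : G → ℂ) x = 0 := by
    have h0 := Cfsg.Agent.helper1.blockPart_indFun_pelement_eq_zero p M hM B hB N (θ : N → ℂ) x
      ⟨k, hxord⟩ hxN
    unfold blockPart at h0
    have hinst : Fintype.ofFinite G = ‹Fintype G› := Subsingleton.elim _ _
    rw [hinst] at h0
    rw [finsum_mem_eq_finite_toFinset_sum _ (Set.toFinite _)] at h0
    have h3 : (Set.toFinite B).toFinset = Bf := by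
      ext φ
      simp [hBf]
    rw [h3] at h0
    rw [← h0]
    refine Finset.sum_congr rfl (fun χ _ => ?_)
    congr 1
    symm
    rw [Cfsg.Agent.helper5.classInner_indFun_irr N (θ : N → ℂ)
      (Cfsg.Agent.helper24.irr_isCharacter χ.2), ← Cfsg.Agent.helper24.classInner_conj_symm, ha χ,
      Complex.conj_natCast]
  -- Step 2
  set S : ℕ := ∑ χ ∈ Bf, a χ * charDegree (χ : G → ℂ) with hS
  have h2 : p ∣ S := by
    have hmem : Cfsg.Agent.helper24.MemIdeal M
        (∑ χ ∈ Bf, (a χ : ℂ) * ((χ : G → ℂ) (x * 1) - (χ : G → ℂ) 1)) := by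
      apply Cfsg.Agent.helper24.MemIdeal.sum
      intro χ _
      exact (Cfsg.Agent.helper24.char_congr_pregular_part hM
        (Cfsg.Agent.helper24.irr_isCharacter χ.2) x 1 (Commute.one_right x)
        hxpow).mul_integral (isIntegral_natCast (a χ))
    have e : ∑ χ ∈ Bf, (a χ : ℂ) * ((χ : G → ℂ) (x * 1) - (χ : G → ℂ) 1) = -((S : ℤ) : ℂ) := by
      have e1 : ∑ χ ∈ Bf, (a χ : ℂ) * ((χ : G → ℂ) (x * 1) - (χ : G → ℂ) 1) =
          ∑ χ ∈ Bf, (a χ : ℂ) * (χ : G → ℂ) x - ∑ χ ∈ Bf, (a χ : ℂ) * (χ : G → ℂ) 1 := by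
        rw [← Finset.sum_sub_distrib]
        refine Finset.sum_congr rfl (fun χ _ => ?_)
        rw [mul_one]; ring
      rw [e1, h1, zero_sub, hS]
      push_cast
      congr 1
      refine Finset.sum_congr rfl (fun χ _ => ?_)
      rw [Cfsg.Agent.helper24.char_charDegree_cast (Cfsg.Agent.helper24.irr_isCharacter χ.2)]
    rw [e] at hmem
    have h4 := Cfsg.Agent.helper22.int_dvd_of_memIdeal hM (z := (S : ℤ)) (by
      have := hmem.neg
      rwa [neg_neg] at this)
    exact_mod_cast h4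
  -- Step 3
  set c : ℕ := (Cfsg.Agent.helper22.inertia N θ).index * charDegree (θ : N → ℂ) with hc
  have h3 : ∀ χ : IrrCharacter G, a χ ≠ 0 → charDegree (χ : G → ℂ) = a χ * c := by
    intro χ h0
    rw [Cfsg.Agent.helper1.degree_eq_orbit N χ.2 θ (a χ) (ha χ) h0, hc]
    ring
  have hS2 : S = c * ∑ χ ∈ Bf, a χ ^ 2 := by
    rw [hS, Finset.mul_sum]
    refine Finset.sum_congr rfl (fun χ _ => ?_)
    by_cases h0 : a χ = 0
    · rw [h0]; simp
    · rw [h3 χ h0]; ring
  -- Step 4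
  set K0 : Finset (IrrCharacter G) :=
    Bf.filter (fun χ : IrrCharacter G => ¬ p ∣ charDegree (χ : G → ℂ) ∧ a χ ≠ 0) with hK0
  have hcard : Nat.card {χ : Cfsg.IrrCharacter G // χ ∈ B ∧ ¬ p ∣ Cfsg.charDegree (χ : G → ℂ) ∧
      Cfsg.classInner (fun n : N => (χ : G → ℂ) n) (θ : N → ℂ) ≠ 0} = K0.card := by
    rw [Nat.card_eq_fintype_card, Fintype.card_subtype]
    congr 1
    ext χ
    have hiff : Cfsg.classInner (fun n : N => (χ : G → ℂ) n) (θ : N → ℂ) ≠ 0 ↔ a χ ≠ 0 := by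
      have := ha χ
      have e : Cfsg.Agent.helper5.res N (χ : G → ℂ) = fun n : N => (χ : G → ℂ) n := rfl
      rw [e] at this
      rw [this]
      exact_mod_cast Iff.rfl
    simp only [hK0, hBf, Finset.mem_filter, Finset.mem_univ, true_and, hiff]
  rw [hcard]
  by_cases hempty : K0 = ∅
  · rw [hempty]; simp
  obtain ⟨χ₀, hχ₀⟩ := Finset.nonempty_iff_ne_empty.mpr hempty
  have hχ₀' := (Finset.mem_filter.mp hχ₀).2
  have hpc : ¬ p ∣ c := by
    intro h
    apply hχ₀'.1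
    rw [h3 χ₀ hχ₀'.2]
    exact Dvd.dvd.mul_left h _
  have hS3 : p ∣ ∑ χ ∈ Bf, a χ ^ 2 := by
    rw [hS2] at h2
    exact ((Nat.Prime.dvd_mul hp).mp h2).resolve_left hpc
  have hsplit : ∑ χ ∈ Bf, a χ ^ 2 = ∑ χ ∈ K0, a χ ^ 2 +
      ∑ χ ∈ Bf.filter (fun χ : IrrCharacter G => ¬ (¬ p ∣ charDegree (χ : G → ℂ) ∧ a χ ≠ 0)), a χ ^ 2 := by
    rw [hK0]
    exact (Finset.sum_filter_add_sum_filter_not Bf _ _).symm
  have hrest : p ∣ ∑ χ ∈ Bf.filter (fun χ : IrrCharacter G => ¬ (¬ p ∣ charDegree (χ : G → ℂ) ∧ a χ ≠ 0)),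
      a χ ^ 2 := by
    apply Finset.dvd_sum
    intro χ hχ
    have hχ' := (Finset.mem_filter.mp hχ).2
    by_cases h0 : a χ = 0
    · rw [h0]; simp
    · have hd : p ∣ charDegree (χ : G → ℂ) := by
        by_contra hnd
        exact hχ' ⟨hnd, h0⟩
      rw [h3 χ h0] at hd
      have := ((Nat.Prime.dvd_mul hp).mp hd).resolve_right hpc
      exact Dvd.dvd.pow this (by norm_num)
  have hK : p ∣ ∑ χ ∈ K0, a χ ^ 2 := by
    rw [hsplit] at hS3
    exact (Nat.dvd_add_left hrest).mp hS3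
  have hna : ∀ χ ∈ K0, ¬ p ∣ a χ := by
    intro χ hχ h
    have hχ' := (Finset.mem_filter.mp hχ).2
    apply hχ'.1
    rw [h3 χ hχ'.2]
    exact Dvd.dvd.mul_right h _
  constructor
  · by_contra hcon
    push Not at hcon
    have h1c : K0.card = 1 := by
      have hpos : 0 < K0.card := Finset.card_pos.mpr ⟨χ₀, hχ₀⟩
      omega
    obtain ⟨χ₁, hχ₁⟩ := Finset.card_eq_one.mp h1c
    rw [hχ₁, Finset.sum_singleton] at hK
    have := hp.dvd_of_dvd_pow hK
    exact hna χ₁ (by rw [hχ₁]; exact Finset.mem_singleton_self _) this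
  · intro hp3
    have hsq : ∀ n : ℕ, ¬ p ∣ n → n ^ 2 % p = 1 % p := by
      intro n hn
      have hp2 : 2 ≤ p := hp.two_le
      have hcases : p = 2 ∨ p = 3 := by omega
      rcases hcases with rfl | rfl
      · have : n % 2 = 1 := by omega
        rw [Nat.pow_mod, this]
      · have : n % 3 = 1 ∨ n % 3 = 2 := by omega
        rcases this with h | h <;> rw [Nat.pow_mod, h]
    have hmod : (∑ χ ∈ K0, a χ ^ 2) % p = (∑ χ ∈ K0, 1) % p := by
      rw [Finset.sum_nat_mod, Finset.sum_nat_mod K0 p (fun _ => 1)]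
      congr 1
      refine Finset.sum_congr rfl (fun χ hχ => ?_)
      exact hsq (a χ) (hna χ hχ)
    rw [Finset.sum_const, smul_eq_mul, mul_one] at hmod
    rw [Nat.dvd_iff_mod_eq_zero] at hK ⊢
    rw [← hmod, hK]

end Cfsg.Agent.S4825
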