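import Cfsg.Statements.S4837
import Cfsg.Agent.Lib_helper24_Inertia

set_option autoImplicit false
open Cfsg
open Cfsg.Agent.helper24
open Cfsg.Agent.helper8

namespace Cfsg.Agent.S4837

/-- Let G be a finite group of order greater than 2 with an irreducible character χ nonzero on exactly two conjugacy classes, and let N be the set of elements where χ is nonzero, given as a nontrivial normal p-subgroup of G for the prime p. Then for every nonidentity x in N the centralizer C_G(x) is a Sylow p-subgroup of G, and for every irreducible character λ ≠ 1 of N the stabilizer of λ in G (its inertia group) is a Sylow p-subgroup of G. -/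
theorem result {G : Type*} [Group G] [Finite G] (hG : 2 < Nat.card G) (χ : Cfsg.IrrCharacter G) (hχ : Nat.card {C : ConjClasses G // ∃ g ∈ C.carrier, (χ : G → ℂ) g ≠ 0} = 2) (p : ℕ) [Fact p.Prime] (N : Subgroup G) [N.Normal] (hN : ∀ g : G, g ∈ N ↔ (χ : G → ℂ) g ≠ 0) (hNp : IsPGroup p N) (hN1 : N ≠ ⊥) :
    (∀ x ∈ N, x ≠ 1 → ∃ P : Sylow p G, Subgroup.centralizer ({x} : Set G) = P) ∧
      (∀ μ : Cfsg.IrrCharacter N, (μ : N → ℂ) ≠ (fun _ => (1 : ℂ)) → ∃ P : Sylow p G, ∀ g : G, g ∈ (P : Subgroup G) ↔ ∀ n n' : N, (n' : G) = g * n * g⁻¹ → (μ : N → ℂ) n' = (μ : N → ℂ) n) := by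
  constructor
  · intro x hxN hx1
    obtain ⟨hsupp, hcardN, hpc, k, hk⟩ := gagola_setup hG χ hχ p N hN hNp hN1 x hxN hx1
    have hidx : (Subgroup.centralizer ({x} : Set G)).index = Nat.card {y : G // IsConj y x} :=
      (card_conj_eq_index x).symm
    have h2 : ¬ p ∣ (Subgroup.centralizer ({x} : Set G)).index := by rw [hidx]; exact hpc
    exact ⟨(IsPGroup.of_card hk).toSylow h2, (IsPGroup.toSylow_coe _ _).symm⟩
  · intro μ hμ
    obtain ⟨⟨x, hxN⟩, hx1'⟩ := (Subgroup.ne_bot_iff_exists_ne_one).mp hN1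
    have hx1 : x ≠ 1 := fun h => hx1' (Subtype.ext h)
    obtain ⟨hsupp, hcardN, hpc, k, hk⟩ := gagola_setup hG χ hχ p N hN hNp hN1 x hxN hx1
    -- N is commutative
    have hconj : ∀ a ∈ N, ∀ b ∈ N, a ≠ 1 → b ≠ 1 → IsConj a b := by
      intro a ha b hb ha1 hb1
      have h1 : IsConj a x := ((hsupp a).mp ((hN a).mp ha)).resolve_left ha1
      have h2 : IsConj b x := ((hsupp b).mp ((hN b).mp hb)).resolve_left hb1
      exact h1.trans h2.symm
    obtain ⟨q, _, hcomm, _⟩ := elemAb_of_conj N hN1 hconj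
    have hA : ∀ a b : N, a * b = b * a := fun a b => hcomm.is_comm.comm a b
    have hdeg : charDegree (μ : N → ℂ) = 1 := irr_degree_eq_one_of_comm hA μ
    have hμ1 : (μ : N → ℂ) 1 = 1 := by
      rw [← char_charDegree_cast (irr_isCharacter μ.2), hdeg, Nat.cast_one]
    have hI := gagola_inertia_card hG χ N hN x hx1 hsupp hcardN μ hμ1 hμ
    have hC := card_conj_mul_card_centralizer x
    have hc0 : 0 < Nat.card {y : G // IsConj y x} := by
      rw [Nat.card_pos_iff]
      exact ⟨⟨x, IsConj.refl x⟩, inferInstance⟩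
    have hIcard : Nat.card (inertia N (μ : N → ℂ)) = p ^ k := by
      rw [← hk]
      exact Nat.eq_of_mul_eq_mul_left hc0 (hI.trans hC.symm)
    have hidx : (inertia N (μ : N → ℂ)).index = Nat.card {y : G // IsConj y x} := by
      have h1 := Subgroup.card_mul_index (inertia N (μ : N → ℂ))
      rw [← hI, mul_comm] at h1
      have hpos : 0 < Nat.card (inertia N (μ : N → ℂ)) := Nat.card_pos
      exact Nat.eq_of_mul_eq_mul_right hpos h1
    have h2 : ¬ p ∣ (inertia N (μ : N → ℂ)).index := by rw [hidx]; exact hpc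
    refine ⟨(IsPGroup.of_card hIcard).toSylow h2, ?_⟩
    intro g
    rw [IsPGroup.toSylow_coe, mem_inertia]
    constructor
    · intro h n n' hn'
      have h1 := congrFun h n
      rw [conjFunN_apply] at h1
      have e : n' = ⟨g * n * g⁻¹, ‹N.Normal›.conj_mem n n.2 g⟩ := Subtype.ext hn'
      rw [e]
      exact h1
    · intro h
      funext n
      rw [conjFunN_apply]
      exact h n _ rfl

end Cfsg.Agent.S4837
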