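import Cfsg.Statements.S4838
import Cfsg.Agent.Lib_helper24_Gagola3

set_option autoImplicit false
open Cfsg
open Cfsg.Agent.helper24

namespace Cfsg.Agent.S4838

/-- Let G be a finite group of order greater than 2 with an irreducible character χ nonzero on exactly two conjugacy classes, N the normal p-subgroup of elements where χ is nonzero, and P a Sylow p-subgroup of G. Then (a) for every x outside N the centralizer of x in G has the same order as the centralizer of xN in G/N; (b) the centre of P lies in N, and equals N exactly when P is normal in G; (c) N, viewed inside P, is a term of the upper central series of P. -/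
theorem result {G : Type*} [Group G] [Finite G] (hG : 2 < Nat.card G) (χ : Cfsg.IrrCharacter G) (hχ : Nat.card {C : ConjClasses G // ∃ g ∈ C.carrier, (χ : G → ℂ) g ≠ 0} = 2) (p : ℕ) [Fact p.Prime] (N : Subgroup G) [N.Normal] (hN : ∀ g : G, g ∈ N ↔ (χ : G → ℂ) g ≠ 0) (hNp : IsPGroup p N) (hN1 : N ≠ ⊥) (P : Sylow p G) :
    (∀ x : G, x ∉ N → Nat.card (Subgroup.centralizer ({x} : Set G)) = Nat.card (Subgroup.centralizer ({(x : G ⧸ N)} : Set (G ⧸ N)))) ∧
      ((Subgroup.center ↥(P : Subgroup G)).map (P : Subgroup G).subtype ≤ N ∧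
        ((Subgroup.center ↥(P : Subgroup G)).map (P : Subgroup G).subtype = N ↔ (P : Subgroup G).Normal)) ∧
      (∃ i : ℕ, Subgroup.upperCentralSeries ↥(P : Subgroup G) i = N.subgroupOf (P : Subgroup G)) := by
  have hNP : N ≤ (P : Subgroup G) := helper5.normal_le_sylow p N hNp P
  have hcardN : Nat.card (N.subgroupOf (P : Subgroup G)) = Nat.card N :=
    Nat.card_congr (Subgroup.subgroupOfEquivOfLe hNP).toEquiv
  have hNcard1 : 1 < Nat.card N := by
    rw [Subgroup.one_lt_card_iff_ne_bot]
    exact hN1
  have hbound := gagola_centralizer_bound hG χ hχ p N hN hNp P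
  -- (b1)
  have hb1 : (Subgroup.center ↥(P : Subgroup G)).map (P : Subgroup G).subtype ≤ N := by
    intro y hy
    obtain ⟨z, hz, rfl⟩ := Subgroup.mem_map.mp hy
    by_contra hzN
    have h1 := hbound z hzN
    have h2 : Subgroup.centralizer ({z} : Set ↥(P : Subgroup G)) = ⊤ := by
      rw [eq_top_iff]
      intro w _
      rw [Subgroup.mem_centralizer_iff]
      intro k hk
      rw [Set.mem_singleton_iff] at hk
      subst hk
      exact ((Subgroup.mem_center_iff.mp hz) w).symm
    rw [h2, Subgroup.card_top, hcardN] at h1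
    have hpos : 0 < Nat.card (P : Subgroup G) := Nat.card_pos
    nlinarith
  refine ⟨fun x hx => gagola_centralizer_quotient hG χ hχ N hN x hx, ⟨hb1, ?_⟩, ?_⟩
  · constructor
    · intro hZN
      -- every nonidentity element of N has centralizer P
      have hcent : ∀ x ∈ N, x ≠ 1 → Subgroup.centralizer ({x} : Set G) = (P : Subgroup G) := by
        intro x hxN hx1
        obtain ⟨P', hP'⟩ := gagola_centralizer_sylow hG χ hχ p N hN hNp hN1 x hxN hx1
        have hle : (P : Subgroup G) ≤ Subgroup.centralizer ({x} : Set G) := by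
          intro y hy
          rw [← hZN] at hxN
          obtain ⟨z, hz, hzx⟩ := Subgroup.mem_map.mp hxN
          rw [Subgroup.mem_centralizer_iff]
          intro k hk
          rw [Set.mem_singleton_iff] at hk
          subst hk
          have h1 := (Subgroup.mem_center_iff.mp hz) ⟨y, hy⟩
          have h2 := congrArg Subtype.val h1
          rw [← hzx]
          exact h2.symm
        rw [hP'] at hle ⊢
        exact P.is_maximal' P'.isPGroup' hle
      obtain ⟨⟨x₀, hx₀N⟩, hx₀1'⟩ := (Subgroup.ne_bot_iff_exists_ne_one).mp hN1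
      have hx₀1 : x₀ ≠ 1 := fun h => hx₀1' (Subtype.ext h)
      constructor
      intro y hy g
      have hgx : g * x₀ * g⁻¹ ∈ N := ‹N.Normal›.conj_mem x₀ hx₀N g
      have hgx1 : g * x₀ * g⁻¹ ≠ 1 := by
        intro h
        apply hx₀1
        have : x₀ = g⁻¹ * (g * x₀ * g⁻¹) * g := by group
        rw [this, h]
        group
      rw [← hcent x₀ hx₀N hx₀1] at hy
      rw [← hcent _ hgx hgx1, Subgroup.mem_centralizer_iff]
      intro k hk
      rw [Set.mem_singleton_iff] at hk
      subst hk
      have h1 := (Subgroup.mem_centralizer_iff.mp hy) x₀ (Set.mem_singleton x₀)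
      calc g * x₀ * g⁻¹ * (g * y * g⁻¹) = g * (x₀ * y) * g⁻¹ := by group
        _ = g * (y * x₀) * g⁻¹ := by rw [h1]
        _ = g * y * g⁻¹ * (g * x₀ * g⁻¹) := by group
    · intro hPn
      apply le_antisymm hb1
      obtain ⟨_, _, N', hN'n, hN'b, hmin, hiff, _⟩ := gagola_main hG χ hχ
      have hNN' : N' = N := by
        ext g
        rw [← hiff g, hN g]
      rw [hNN'] at hmin
      apply hmin
      · constructor
        intro k hk g
        obtain ⟨z, hz, rfl⟩ := Subgroup.mem_map.mp hk
        have hmem : g * (z : G) * g⁻¹ ∈ (P : Subgroup G) := hPn.conj_mem z z.2 g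
        refine Subgroup.mem_map.mpr ⟨⟨g * (z : G) * g⁻¹, hmem⟩, ?_, rfl⟩
        rw [Subgroup.mem_center_iff]
        intro y
        apply Subtype.ext
        have hy' : g⁻¹ * (y : G) * g ∈ (P : Subgroup G) := by
          have := hPn.conj_mem y y.2 g⁻¹
          simpa using this
        have h1 := (Subgroup.mem_center_iff.mp hz) ⟨g⁻¹ * (y : G) * g, hy'⟩
        have h2 : g⁻¹ * (y : G) * g * (z : G) = (z : G) * (g⁻¹ * (y : G) * g) :=
          congrArg Subtype.val h1
        change (y : G) * (g * (z : G) * g⁻¹) = g * (z : G) * g⁻¹ * (y : G)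
        calc (y : G) * (g * (z : G) * g⁻¹) = g * (g⁻¹ * (y : G) * g * (z : G)) * g⁻¹ := by group
          _ = g * ((z : G) * (g⁻¹ * (y : G) * g)) * g⁻¹ := by rw [h2]
          _ = g * (z : G) * g⁻¹ * (y : G) := by group
      · have hnt : Nontrivial ↥(P : Subgroup G) := by
          obtain ⟨⟨x₀, hx₀N⟩, hx₀1'⟩ := (Subgroup.ne_bot_iff_exists_ne_one).mp hN1
          refine ⟨⟨⟨x₀, hNP hx₀N⟩, 1, ?_⟩⟩
          intro h
          apply hx₀1'
          apply Subtype.ext
          have h' : x₀ = 1 := congrArg (fun t : ↥(P : Subgroup G) => (t : G)) h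
          exact h'
        have hcen : Nontrivial (Subgroup.center ↥(P : Subgroup G)) := P.isPGroup'.center_nontrivial
        obtain ⟨z, hz, hz1⟩ := (Subgroup.nontrivial_iff_exists_ne_one _).mp hcen
        intro hbot
        have hmem : (z : G) ∈ (Subgroup.center ↥(P : Subgroup G)).map (P : Subgroup G).subtype :=
          Subgroup.mem_map.mpr ⟨z, hz, rfl⟩
        rw [hbot, Subgroup.mem_bot] at hmem
        exact hz1 (Subtype.ext hmem)
  · have hnil : Group.IsNilpotent ↥(P : Subgroup G) := P.isPGroup'.isNilpotent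
    apply exists_upperCentralSeries_eq
    intro z hz
    apply hbound z
    intro h
    exact hz (Subgroup.mem_subgroupOf.mpr h)

end Cfsg.Agent.S4838
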