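import Cfsg.Statements.S4859
import Cfsg.Agent.Lib_helper24_FS
-- import your own Cfsg.Agent.* helpers here

set_option autoImplicit false
open Cfsg

namespace Cfsg.Agent.S4859

open Cfsg.Agent.helper24 Cfsg.Agent.helper22

theorem not_square {G : Type*} [Group G] [Finite G] (p : ℕ) [Fact p.Prime] (hp : p ≠ 2) (x : G)
    (hx : ∃ k : ℕ, orderOf x = p ^ k)
    (heven : Even (Nat.card (Subgroup.centralizer ({x} : Set G)))) (y : G)
    (hy : y ∈ Subgroup.centralizer ({x} : Set G)) (hy2 : ∃ k : ℕ, orderOf y = 2 ^ k)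
    (hmax : ∀ z ∈ Subgroup.centralizer ({x} : Set G), (∃ k : ℕ, orderOf z = 2 ^ k) →
      orderOf z ≤ orderOf y) : ¬ ∃ u : G, u * u = x * y := by
  rintro ⟨u, hu⟩
  obtain ⟨a, ha⟩ := hx
  obtain ⟨k, hk⟩ := hy2
  have hpp : p.Prime := Fact.out
  have hxy : Commute x y := by
    rw [Subgroup.mem_centralizer_iff] at hy
    exact hy x (Set.mem_singleton x)
  -- k ≥ 1
  have hk0 : k ≠ 0 := by
    have h2 : 2 ∣ Nat.card (Subgroup.centralizer ({x} : Set G)) := even_iff_two_dvd.1 heven
    obtain ⟨t, ht⟩ := exists_prime_orderOf_dvd_card' 2 h2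
    have ht' : orderOf (t : G) = 2 := by rw [Subgroup.orderOf_coe]; exact ht
    have h3 := hmax (t : G) t.2 ⟨1, by rw [ht', pow_one]⟩
    rw [ht', hk] at h3
    intro h0
    rw [h0, pow_zero] at h3
    omega
  obtain ⟨k', rfl⟩ := Nat.exists_eq_succ_of_ne_zero hk0
  -- u commutes with x
  have hcop : Nat.Coprime (2 ^ (k' + 1)) (orderOf x) := by
    rw [ha]
    apply Nat.Coprime.pow
    rw [Nat.coprime_primes Nat.prime_two hpp]
    exact fun h => hp h.symm
  obtain ⟨j, hj⟩ := exists_pow_eq_self_of_coprime hcop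
  have hxy2 : (x * y) ^ (2 ^ (k' + 1)) = x ^ (2 ^ (k' + 1)) := by
    rw [hxy.mul_pow, ← hk, pow_orderOf_eq_one, mul_one]
  have hxu : x = (u * u) ^ (2 ^ (k' + 1) * j) := by
    rw [pow_mul, hu, hxy2, hj]
  have hux : Commute u x := by
    rw [hxu]
    exact ((Commute.refl u).mul_right (Commute.refl u)).pow_right _
  set m := p ^ a with hm
  set v := u ^ m with hv
  have hvC : v ∈ Subgroup.centralizer ({x} : Set G) := by
    rw [Subgroup.mem_centralizer_iff]
    intro h hh
    rw [Set.mem_singleton_iff] at hh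
    rw [hh]
    exact ((hux.pow_left m).eq).symm
  have hvv : v * v = y ^ m := by
    rw [hv, ← (Commute.refl u).mul_pow, hu, hxy.mul_pow, ← ha, pow_orderOf_eq_one, one_mul]
  have hv1 : v ^ 2 ^ (k' + 1 + 1) = 1 := by
    rw [pow_succ' 2, pow_mul, pow_two, hvv, ← pow_mul, mul_comm, pow_mul, ← hk, pow_orderOf_eq_one,
      one_pow]
  have hv2 : ¬ v ^ 2 ^ (k' + 1) = 1 := by
    intro h1
    rw [pow_succ' 2, pow_mul, pow_two, hvv, ← pow_mul] at h1
    have h2 := orderOf_dvd_of_pow_eq_one h1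
    rw [hk, pow_succ, mul_comm m] at h2
    have h3 : 2 ∣ m := (Nat.mul_dvd_mul_iff_left (by positivity)).1 h2
    rw [hm] at h3
    have h4 := Nat.Prime.dvd_of_dvd_pow Nat.prime_two h3
    rw [Nat.prime_dvd_prime_iff_eq Nat.prime_two hpp] at h4
    exact hp h4.symm
  have hov : orderOf v = 2 ^ (k' + 1 + 1) := by
    have : Fact (Nat.Prime 2) := ⟨Nat.prime_two⟩
    exact orderOf_eq_prime_pow hv2 hv1
  have h5 := hmax v hvC ⟨k' + 1 + 1, hov⟩
  rw [hov, hk] at h5
  have h6 : 2 ^ (k' + 1) < 2 ^ (k' + 1 + 1) := Nat.pow_lt_pow_right (by norm_num) (by omega)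
  omega

/-- Let p be an odd prime, G a finite group and x an element of G whose order is a power of p (possibly 1) and whose centralizer has even order. Let y be a 2-element of the centralizer of x whose order is largest among the 2-elements of that centralizer. Then x * y is not a square in G, and some non-principal real-valued irreducible character of G does not vanish at x * y. -/
theorem result {G : Type*} [Group G] [Finite G] (p : ℕ) [Fact p.Prime] (hp : p ≠ 2) (x : G) (hx : ∃ k : ℕ, orderOf x = p ^ k) (heven : Even (Nat.card (Subgroup.centralizer ({x} : Set G)))) (y : G) (hy : y ∈ Subgroup.centralizer ({x} : Set G)) (hy2 : ∃ k : ℕ, orderOf y = 2 ^ k) (hmax : ∀ z ∈ Subgroup.centralizer ({x} : Set G), (∃ k : ℕ, orderOf z = 2 ^ k) → orderOf z ≤ orderOf y) : (¬ ∃ u : G, u * u = x * y) ∧ ∃ χ : Cfsg.IrrCharacter G, ¬ ((χ : G → ℂ) = fun _ => (1 : ℂ)) ∧ (∀ g : G, ((χ : G → ℂ) g).im = 0) ∧ (χ : G → ℂ) (x * y) ≠ 0 := by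
  classical
  have hns := not_square p hp x hx heven y hy hy2 hmax
  refine ⟨hns, ?_⟩
  have := Fintype.ofFinite G
  have := Fintype.ofFinite (IrrCharacter G)
  by_contra hcon
  have h0 : sqCount (x * y) = 0 := by
    unfold sqCount
    have : IsEmpty {u : G // u * u = x * y} := ⟨fun u => hns ⟨u.1, u.2⟩⟩
    exact Nat.card_of_isEmpty
  have h1 := sqCount_eq_sum (x * y)
  rw [h0, Nat.cast_zero] at h1
  have h2 : ∑ χ : IrrCharacter G, fsInd (χ : G → ℂ) * (χ : G → ℂ) (x * y) =
      fsInd ((irrOne G : IrrCharacter G) : G → ℂ) * ((irrOne G : IrrCharacter G) : G → ℂ) (x * y) := by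
    apply Finset.sum_eq_single (irrOne G)
    · intro χ _ hχ
      by_cases hreal : ∀ g : G, ((χ : G → ℂ) g).im = 0
      · by_cases hv : (χ : G → ℂ) (x * y) = 0
        · rw [hv, mul_zero]
        · exfalso
          apply hcon
          refine ⟨χ, ?_, hreal, hv⟩
          intro h1
          apply hχ
          apply Subtype.ext
          exact h1
      · rw [fsInd_of_not_real χ.2 hreal, zero_mul]
    · intro h; exact absurd (Finset.mem_univ _) h
  rw [h2] at h1
  have h3 : ((irrOne G : IrrCharacter G) : G → ℂ) = fun _ => (1 : ℂ) := rfl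
  rw [h3, fsInd_one, one_mul] at h1
  exact zero_ne_one h1

end Cfsg.Agent.S4859
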