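import Cfsg.Statements.S4866
import Cfsg.Agent.Lib_helper24_BrauerPerm
-- import your own Cfsg.Agent.* helpers here

set_option autoImplicit false
open Cfsg

namespace Cfsg.Agent.S4866

open Cfsg.Agent.helper24 Cfsg.Agent.helper1 Cfsg.Agent.helper8
open scoped ComplexConjugate

universe u

section

variable {G : Type u} [Group G] (K : Subgroup G) [hK : K.Normal]

theorem htriv1 (k : G) (hk : k ∈ K) (θ : IrrCharacter K) :
    @HSMul.hSMul G (IrrCharacter K) (IrrCharacter K)
      (@instHSMul G (IrrCharacter K) (irrAction K).toSMul) k θ = θ := by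
  apply Subtype.ext
  funext x
  rw [irrAction_apply]
  have h1 := char_isClassFunction (irr_isCharacter θ.2) x (⟨k⁻¹, K.inv_mem hk⟩ : K)
  rw [← h1]
  exact congrArg (θ : K → ℂ) (Subtype.ext (by simp))

theorem htriv2 (k : G) (hk : k ∈ K) (C : ConjClasses K) :
    @HSMul.hSMul G (ConjClasses K) (ConjClasses K)
      (@instHSMul G (ConjClasses K) (ccAction K).toSMul) k C = C := by
  induction C using Quotient.inductionOn with
  | h x =>
    show @HSMul.hSMul G (ConjClasses K) (ConjClasses K)
      (@instHSMul G (ConjClasses K) (ccAction K).toSMul) k (ConjClasses.mk x) = ConjClasses.mk x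
    rw [ccAction_mk, ConjClasses.mk_eq_mk_iff_isConj, isConj_comm, isConj_iff]
    refine ⟨⟨k, hk⟩, ?_⟩
    apply Subtype.ext
    simp [MulAut.conjNormal_apply]

theorem hcomm1 [Finite G] (g : G) (θ : IrrCharacter K) :
    irrConj (@HSMul.hSMul G (IrrCharacter K) (IrrCharacter K)
      (@instHSMul G (IrrCharacter K) (irrAction K).toSMul) g θ) =
    @HSMul.hSMul G (IrrCharacter K) (IrrCharacter K)
      (@instHSMul G (IrrCharacter K) (irrAction K).toSMul) g (irrConj θ) := by
  apply Subtype.ext
  funext x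
  rw [irrConj_apply, irrAction_apply, irrAction_apply, irrConj_apply]

theorem hcomm2 (g : G) (C : ConjClasses K) :
    ccInv K (@HSMul.hSMul G (ConjClasses K) (ConjClasses K)
      (@instHSMul G (ConjClasses K) (ccAction K).toSMul) g C) =
    @HSMul.hSMul G (ConjClasses K) (ConjClasses K)
      (@instHSMul G (ConjClasses K) (ccAction K).toSMul) g (ccInv K C) := by
  induction C using Quotient.inductionOn with
  | h x =>
    show ccInv K (@HSMul.hSMul G (ConjClasses K) (ConjClasses K)
      (@instHSMul G (ConjClasses K) (ccAction K).toSMul) g (ConjClasses.mk x)) =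
      @HSMul.hSMul G (ConjClasses K) (ConjClasses K)
      (@instHSMul G (ConjClasses K) (ccAction K).toSMul) g (ccInv K (ConjClasses.mk x))
    rw [ccAction_mk, ccInv_mk, ccInv_mk, ccAction_mk, map_inv]

theorem hterm [Finite G] (g : G) :
    Nat.card {θ : IrrCharacter K // irrConj (@HSMul.hSMul G (IrrCharacter K) (IrrCharacter K)
      (@instHSMul G (IrrCharacter K) (irrAction K).toSMul) g θ) = θ} =
    Nat.card {C : ConjClasses K // ccInv K (@HSMul.hSMul G (ConjClasses K) (ConjClasses K)
      (@instHSMul G (ConjClasses K) (ccAction K).toSMul) g C) = C} := by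
  let i1 : MulAction G (IrrCharacter K) := irrAction K
  let i2 : MulAction G (ConjClasses K) := ccAction K
  let π : Equiv.Perm (IrrCharacter K) :=
    (Function.Involutive.toPerm irrConj irrConj_irrConj) * MulAction.toPerm g
  let π' : Equiv.Perm (ConjClasses K) :=
    (Function.Involutive.toPerm (ccInv K) (ccInv_ccInv K)) * MulAction.toPerm g
  have hπ : ∀ θ : IrrCharacter K, π θ = irrConj (g • θ) := fun θ => rfl
  have hπ' : ∀ C : ConjClasses K, π' C = ccInv K (g • C) := fun C => rfl
  have hcompat : ∀ (χ : IrrCharacter K) (k k' : K), ConjClasses.mk k' = π' (ConjClasses.mk k) →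
      ((π χ : IrrCharacter K) : K → ℂ) k' = (χ : K → ℂ) k := by
    intro χ k k' h
    rw [hπ, irrConj_apply, irrAction_apply]
    rw [hπ', ccAction_mk, ccInv_mk, ConjClasses.mk_eq_mk_iff_isConj, isConj_iff] at h
    obtain ⟨c, hc⟩ := h
    have hcG : (c : G) * k' * (c : G)⁻¹ = (g * k * g⁻¹)⁻¹ := by
      have := congrArg Subtype.val hc
      simpa [MulAut.conjNormal_apply] using this
    have hk' : (k' : G) = (c : G)⁻¹ * (g * (k : G)⁻¹ * g⁻¹) * c := by
      have e : (k' : G) = (c : G)⁻¹ * ((c : G) * k' * (c : G)⁻¹) * c := by group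
      rw [e, hcG]
      group
    have hdmem : g⁻¹ * (c : G)⁻¹ * g ∈ K := by
      have := hK.conj_mem _ (K.inv_mem c.2) g⁻¹
      rwa [inv_inv] at this
    let d : K := ⟨g⁻¹ * (c : G)⁻¹ * g, hdmem⟩
    have hd : (⟨g⁻¹ * (k' : G) * g, by
        have := hK.conj_mem k' k'.2 g⁻¹
        rwa [inv_inv] at this⟩ : K) = d * k⁻¹ * d⁻¹ := by
      apply Subtype.ext
      show g⁻¹ * (k' : G) * g = g⁻¹ * (c : G)⁻¹ * g * (k : G)⁻¹ * (g⁻¹ * (c : G)⁻¹ * g)⁻¹
      rw [hk']
      group
    rw [hd, char_isClassFunction (irr_isCharacter χ.2) k⁻¹ d, char_inv (irr_isCharacter χ.2),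
      Complex.conj_conj]
  have h := card_fixed_eq_of_compat π π' hcompat
  exact h

end

/-- Let K be a normal subgroup of odd index in the finite group G. Then G has as many orbits on the real-valued irreducible complex characters of K (acting by conjugation) as it has orbits on the conjugacy classes of K that are real in K; equivalently, the number of G-orbits of real-valued irreducible characters of K equals the number of G-conjugacy classes of elements of K that are conjugate in K to their inverses. -/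
theorem result {G : Type*} [Group G] [Finite G] (K : Subgroup G) [K.Normal] (hodd : Odd K.index) : Nat.card (Quot (fun θ η : {θ : Cfsg.IrrCharacter ↥K // (∀ k : ↥K, ((θ : ↥K → ℂ) k).im = 0)} => ∃ g : G, ∀ k k' : ↥K, (k' : G) = g * (k : G) * g⁻¹ → (η.1 : ↥K → ℂ) k' = (θ.1 : ↥K → ℂ) k)) = Nat.card (Quot (fun x y : {x : ↥K // IsConj x x⁻¹} => ∃ g : G, (y.1 : G) = g * x.1 * g⁻¹)) := by
  classical
  have hKn : K.Normal := inferInstance
  let i1 : MulAction G (IrrCharacter K) := irrAction K
  let i2 : MulAction G (ConjClasses K) := ccAction K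
  have hL1 := card_mul_card_quot_fixed (X := IrrCharacter K) K hodd (htriv1 K) irrConj
    irrConj_irrConj (hcomm1 K)
  have hL2 := card_mul_card_quot_fixed (X := ConjClasses K) K hodd (htriv2 K) (ccInv K)
    (ccInv_ccInv K) (hcomm2 K)
  have hsum : ∑ᶠ g : G, Nat.card {θ : IrrCharacter K // irrConj (g • θ) = θ} =
      ∑ᶠ g : G, Nat.card {C : ConjClasses K // ccInv K (g • C) = C} :=
    finsum_congr (fun g => hterm K g)
  have hQ : Nat.card (Quot (fun x y : {θ : IrrCharacter K // irrConj θ = θ} =>
        ∃ g : G, y.1 = g • x.1)) =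
      Nat.card (Quot (fun x y : {C : ConjClasses K // ccInv K C = C} =>
        ∃ g : G, y.1 = g • x.1)) := by
    have h1 := hL1.trans (hsum.trans hL2.symm)
    exact Nat.eq_of_mul_eq_mul_left Nat.card_pos h1
  -- left side
  have hleft : Nat.card (Quot (fun θ η : {θ : Cfsg.IrrCharacter ↥K // (∀ k : ↥K, ((θ : ↥K → ℂ) k).im = 0)} => ∃ g : G, ∀ k k' : ↥K, (k' : G) = g * (k : G) * g⁻¹ → (η.1 : ↥K → ℂ) k' = (θ.1 : ↥K → ℂ) k)) =
      Nat.card (Quot (fun x y : {θ : IrrCharacter K // irrConj θ = θ} =>
        ∃ g : G, y.1 = g • x.1)) := by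
    apply Nat.card_congr
    refine Quot.congr (Equiv.subtypeEquivRight (fun θ => (irrConj_eq_self_iff θ).symm)) ?_
    intro θ η
    show (∃ g : G, ∀ k k' : ↥K, (k' : G) = g * (k : G) * g⁻¹ →
      (η.1 : ↥K → ℂ) k' = (θ.1 : ↥K → ℂ) k) ↔ ∃ g : G, η.1 = g • θ.1
    constructor
    · rintro ⟨g, hg⟩
      refine ⟨g, ?_⟩
      apply Subtype.ext
      funext k'
      rw [irrAction_apply]
      apply hg
      show (k' : G) = g * (g⁻¹ * (k' : G) * g) * g⁻¹
      group
    · rintro ⟨g, hg⟩
      refine ⟨g, ?_⟩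
      intro k k' hkk'
      rw [hg, irrAction_apply]
      refine congrArg (θ.1 : K → ℂ) (Subtype.ext ?_)
      show g⁻¹ * (k' : G) * g = k
      rw [hkk']
      group
  -- right side
  have hright : Nat.card (Quot (fun x y : {x : ↥K // IsConj x x⁻¹} =>
        ∃ g : G, (y.1 : G) = g * x.1 * g⁻¹)) =
      Nat.card (Quot (fun x y : {C : ConjClasses K // ccInv K C = C} =>
        ∃ g : G, y.1 = g • x.1)) := by
    apply card_quot_eq_of_surjective
      (fun x : {x : ↥K // IsConj x x⁻¹} => (⟨ConjClasses.mk x.1, by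
        rw [ccInv_mk, ConjClasses.mk_eq_mk_iff_isConj]
        exact x.2.symm⟩ : {C : ConjClasses K // ccInv K C = C}))
    · rintro ⟨C, hC⟩
      obtain ⟨x, rfl⟩ := ConjClasses.exists_rep C
      rw [ccInv_mk, ConjClasses.mk_eq_mk_iff_isConj] at hC
      exact ⟨⟨x, hC.symm⟩, rfl⟩
    · intro C
      exact ⟨1, (one_smul G C.1).symm⟩
    · intro x y
      show (∃ g : G, (y.1 : G) = g * x.1 * g⁻¹) ↔
        ∃ g : G, ConjClasses.mk y.1 = g • ConjClasses.mk x.1
      constructor
      · rintro ⟨g, hg⟩
        refine ⟨g, ?_⟩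
        rw [ccAction_mk]
        congr 1
        apply Subtype.ext
        rw [hg, MulAut.conjNormal_apply]
      · rintro ⟨g, hg⟩
        rw [ccAction_mk, ConjClasses.mk_eq_mk_iff_isConj, isConj_comm, isConj_iff] at hg
        obtain ⟨c, hc⟩ := hg
        refine ⟨c * g, ?_⟩
        have := congrArg Subtype.val hc
        rw [← this]
        simp only [Subgroup.coe_mul, Subgroup.coe_inv, MulAut.conjNormal_apply]
        group
  rw [hleft, hright, hQ]

end Cfsg.Agent.S4866
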