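import Cfsg.Statements.S4892
import Mathlib
import Cfsg.Agent.Lib_helper1_PRat2
import Cfsg.Agent.Lib_helper1_PRat3
import Cfsg.Agent.Lib_helper1_PRat5

set_option autoImplicit false
set_option linter.style.haveILetI false
set_option linter.unusedVariables false
open Cfsg

namespace Cfsg.Agent.S4892

/-- Let p be an odd prime, M a maximal ideal of the algebraic integers containing p, N a normal subgroup of the finite group G, and θ an irreducible character of N that is G-invariant, of degree prime to p, p-rational (values in the field generated over ℚ by a root of unity of order prime to p) and lies in the principal p-block of N. Let Q be a Sylow p-subgroup of N and suppose the index of N·C_G(Q) in G is a power of p. Then θ extends to a p-rational irreducible character of G lying in the principal p-block of G. -/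
theorem result {G : Type*} [Group G] [Finite G] (p : ℕ) [Fact p.Prime] (hp : p ≠ 2) (M : Ideal Cfsg.AlgInt) (hM : Cfsg.IsPModular p M) (N : Subgroup G) [N.Normal] (θ : Cfsg.IrrCharacter ↥N) (hinv : ∀ g : G, ∀ n n' : ↥N, (n' : G) = g * (n : G) * g⁻¹ → (θ : ↥N → ℂ) n' = (θ : ↥N → ℂ) n) (hdeg : ¬ p ∣ Cfsg.charDegree (θ : ↥N → ℂ)) (hrat : ∃ m : ℕ, ¬ p ∣ m ∧ ∀ n : ↥N, (θ : ↥N → ℂ) n ∈ IntermediateField.adjoin ℚ ({Complex.exp (2 * Real.pi * Complex.I / m)} : Set ℂ)) (hB : θ ∈ Cfsg.principalBlock M ↥N) (Q : Sylow p ↥N) (hidx : ∃ a : ℕ, (N ⊔ Subgroup.centralizer (((Q : Subgroup ↥N).map N.subtype : Subgroup G) : Set G)).index = p ^ a) : ∃ χ : Cfsg.IrrCharacter G, χ ∈ (Cfsg.principalBlock M G) ∧ (∃ n : ℕ, ¬ p ∣ n ∧ ∀ g : G, (χ : G → ℂ) g ∈ IntermediateField.adjoin ℚ ({Complex.exp (2 * Real.pi * Complex.I / n)} : Set ℂ)) ∧ ∀ n : ↥N, (χ : G → ℂ) n = (θ : ↥N → ℂ) n := by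
  classical
  haveI : Fintype G := Fintype.ofFinite G
  haveI : Fintype ↥N := Fintype.ofFinite _
  have hN : N.Normal := inferInstance
  have hpp : p.Prime := Fact.out
  obtain ⟨m, hpm, hmem⟩ := hrat
  have hm0 : 0 < m := by
    rcases Nat.eq_zero_or_pos m with h | h
    · exfalso; apply hpm; rw [h]; exact dvd_zero p
    · exact h
  obtain ⟨B, hBdef⟩ : ∃ B, B = (Nat.card G).factorization p := ⟨_, rfl⟩
  obtain ⟨c, hc⟩ : ∃ c, c = Nat.card G / p ^ B := ⟨_, rfl⟩
  have hcard : Nat.card G = p ^ B * c := by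
    rw [hc, hBdef]; exact (Nat.ordProj_mul_ordCompl_eq_self _ p).symm
  have hpc : ¬ p ∣ c := by
    rw [hc, hBdef]; exact Nat.not_dvd_ordCompl hpp Nat.card_pos.ne'
  have hNG : Nat.card ↥N ∣ Nat.card G := Subgroup.card_subgroup_dvd_card N
  -- `θ` is invariant under the admissible power maps
  have hθpow : ∀ t : ℕ, t.Coprime (Nat.card G) → t ≡ 1 [MOD c] →
      ∀ x : ↥N, (θ : ↥N → ℂ) (x ^ t) = (θ : ↥N → ℂ) x := by
    intro t ht ht1 x
    refine Cfsg.Agent.helper1.prat_char_pow_eq (Cfsg.Agent.helper24.irr_isCharacter θ.2) m hm0 hmem t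
      (Nat.Coprime.coprime_dvd_right hNG ht) ?_ x
    apply ht1.of_dvd
    have h1 : Nat.gcd (Nat.card ↥N) m ∣ p ^ B * c := hcard ▸ (Nat.gcd_dvd_left _ _).trans hNG
    have h2 : Nat.Coprime (Nat.gcd (Nat.card ↥N) m) (p ^ B) := by
      apply Nat.Coprime.pow_right
      apply Nat.Coprime.coprime_dvd_left (Nat.gcd_dvd_right _ _)
      exact ((Nat.Prime.coprime_iff_not_dvd hpp).mpr hpm).symm
    exact h2.dvd_of_dvd_mul_left h1
  have hdet : ∀ x : ↥N, detChar (θ : ↥N → ℂ) x ^ (2 * c) = 1 :=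
    Cfsg.Agent.helper1.prat_det_order p hpp hp (Nat.card G) B c hcard hpc hNG θ.2 hθpow
  -- group theory
  obtain ⟨a, ha⟩ := hidx
  haveI hLn := Cfsg.Agent.helper1.prat_L_normal N p Q
  have hcov : ∀ J : Subgroup G, N ≤ J → ¬ p ∣ N.relIndex J →
      J ≤ N ⊔ Subgroup.centralizer (((Q : Subgroup ↥N).map N.subtype : Subgroup G) : Set G) := by
    intro J _ hJ
    exact Cfsg.Agent.helper1.prat_le_L N p _ le_sup_left a ha J hJ
  obtain ⟨d, hd0, hd⟩ := Cfsg.Agent.helper24.irr_apply_one θ.2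
  have hpd : ¬ p ∣ d := by
    rw [Cfsg.Agent.helper24.charDegree_natCast _ d hd] at hdeg
    exact hdeg
  have hinv' : ∀ (g : G) (n : N),
      (θ : ↥N → ℂ) ⟨g * n * g⁻¹, hN.conj_mem (n : G) n.2 g⟩ = (θ : ↥N → ℂ) n :=
    fun g n => hinv g n ⟨g * n * g⁻¹, hN.conj_mem (n : G) n.2 g⟩ rfl
  have hc₂ : ¬ p ∣ 2 * c := by
    intro h
    rcases (Nat.Prime.dvd_mul hpp).mp h with h | h
    · exact hp ((Nat.prime_dvd_prime_iff_eq hpp Nat.prime_two).mp h)
    · exact hpc h
  obtain ⟨ψ, hψ, hψN⟩ := Cfsg.Agent.helper1.prat_exists_ext N p hM Q hcov θ hB hinv' d hd hpd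
    (2 * c) hc₂ hdet
  have hψc : IsCharacter G ψ := Cfsg.Agent.helper24.irr_isCharacter hψ
  have htw := Cfsg.Agent.helper1.prat_twist_all N p hM Q hcov θ hB hψc hψN
  have hs : Cfsg.Agent.helper1.adF p N ψ 1 ≠ 0 := by
    have h1 := (Cfsg.Agent.helper1.mem_principalBlock_iff_sum_ne_zero p M hM θ).mp hB
    rw [Finset.sum_filter] at h1
    have h2 : Cfsg.Agent.helper1.adF p N ψ 1 =
        ∑ n : N, if ¬ p ∣ orderOf n then (θ : ↥N → ℂ) n else 0 := by
      unfold Cfsg.Agent.helper1.adF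
      apply Finset.sum_congr rfl
      intro n _
      rw [one_mul, Subgroup.orderOf_coe, hψN]
    rw [h2]
    exact h1
  obtain ⟨χ, hχ, hχN, hgood, hdetχ, hsum⟩ := Cfsg.Agent.helper1.prat_construct N p hψ
    (θ : ↥N → ℂ) θ.2 hψN htw hs d hd hpd (2 * c) hc₂ hdet
  refine ⟨⟨χ, hχ⟩, ?_, ⟨c, hpc, ?_⟩, hχN⟩
  · rw [Cfsg.Agent.helper1.mem_principalBlock_iff_sum_ne_zero p M hM]
    exact hsum
  · intro g
    refine Cfsg.Agent.helper1.prat_mem_adjoin p hpp (Cfsg.Agent.helper24.irr_isCharacter hχ) B c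
      hcard hpc ?_ g
    intro t ht ht1 g'
    have hreg : ∀ x : G, ¬ p ∣ orderOf x → x ^ t = x := by
      intro x hx
      have h1 : orderOf x ∣ p ^ B * c := hcard ▸ orderOf_dvd_natCard x
      have h2 : Nat.Coprime (orderOf x) (p ^ B) :=
        Nat.Coprime.pow_right B ((Nat.Prime.coprime_iff_not_dvd hpp).mpr hx).symm
      have h3 : orderOf x ∣ c := h2.dvd_of_dvd_mul_left h1
      have h4 : t ≡ 1 [MOD orderOf x] := ht1.of_dvd h3
      have := (pow_eq_pow_iff_modEq (x := x)).mpr h4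
      rw [pow_one] at this
      exact this
    have hχt : IsIrrCharacter G (fun g => χ (g ^ t)) :=
      Cfsg.Agent.helper1.isIrrCharacter_powMap t ht hχ
    have hχtN : ∀ n : N, (fun g => χ (g ^ t)) (n : G) = (θ : ↥N → ℂ) n := by
      intro n
      show χ ((n : G) ^ t) = _
      rw [← Subgroup.coe_pow, hχN, hθpow t ht ht1]
    have hgoodt := Cfsg.Agent.helper1.prat_good_pow N p t hreg hgood
    have hdett : ¬ p ∣ detOrder (fun g => χ (g ^ t)) := by
      rw [Cfsg.Agent.helper22.detOrder_powMap t ht hχ]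
      exact hdetχ
    have := Cfsg.Agent.helper1.prat_unique N p (θ : ↥N → ℂ) θ.2 d hd hpd hχ hχt hχN hχtN hgood hgoodt
      hdetχ hdett
    exact congrFun this g'

end Cfsg.Agent.S4892
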