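import Cfsg.Statements.S4912
import Mathlib
import Cfsg.Agent.Lib_helper1_IndFS3
import Cfsg.Agent.Lib_helper24_LinStab

set_option autoImplicit false
set_option linter.style.haveILetI false
set_option linter.unusedVariables false
open Cfsg
open Cfsg.Agent.helper24 Cfsg.Agent.helper12 Cfsg.Agent.helper23
open scoped ComplexConjugate commutatorElement

namespace Cfsg.Agent.S4912

/-- Let G be a finite group with a non-abelian minimal normal subgroup N, and let φ be an irreducible complex character of N with stabilizer I in G such that φ extends to an irreducible character of I with Frobenius–Schur indicator +1. Put d = φ(1)·[G : I]. Then the number of linear characters of G with Frobenius–Schur indicator +1 is at most [G : I] times the number of irreducible characters of G of degree d with Frobenius–Schur indicator +1. -/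
theorem result {G : Type*} [Group G] [Finite G] (N : Subgroup G) (hN : N.Normal) (hN1 : N ≠ ⊥) (hmin : ∀ M : Subgroup G, M.Normal → M ≤ N → M = ⊥ ∨ M = N) (hna : ¬ IsMulCommutative ↥N) (φ : Cfsg.IrrCharacter ↥N) (I : Subgroup G) (hI : ∀ g : G, g ∈ I ↔ ∀ n n' : ↥N, (n' : G) = g * (n : G) * g⁻¹ → (φ : ↥N → ℂ) n' = (φ : ↥N → ℂ) n) (hNI : N ≤ I) (hext : ∃ ψ : Cfsg.IrrCharacter ↥I, (Nat.card ↥I : ℂ)⁻¹ * ∑ᶠ g : ↥I, (ψ : ↥I → ℂ) (g * g) = 1 ∧ ∀ n : ↥N, (ψ : ↥I → ℂ) (Subgroup.inclusion hNI n) = (φ : ↥N → ℂ) n) : Nat.card {χ : Cfsg.IrrCharacter G // Cfsg.charDegree (χ : G → ℂ) = 1 ∧ (Nat.card G : ℂ)⁻¹ * ∑ᶠ g : G, (χ : G → ℂ) (g * g) = 1} ≤ I.index * Nat.card {χ : Cfsg.IrrCharacter G // Cfsg.charDegree (χ : G → ℂ) = Cfsg.charDegree (φ : ↥N → ℂ) * I.index ∧ (Nat.card G : ℂ)⁻¹ * ∑ᶠ g : G, (χ : G → ℂ) (g * g) = 1} := by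
  classical
  haveI := hN
  have := Fintype.ofFinite G
  have := Fintype.ofFinite (IrrCharacter G)
  have := Fintype.ofFinite I
  have := Fintype.ofFinite N
  have := Fintype.ofFinite (N.subgroupOf I)
  obtain ⟨ψ, hψfs, hψ⟩ := hext
  -- indicators in `fsInd` form
  have hfsG : ∀ χ : G → ℂ, (Nat.card G : ℂ)⁻¹ * ∑ᶠ g : G, χ (g * g) = helper22.fsInd χ := by
    intro χ
    unfold helper22.fsInd
    rw [finsum_eq_sum_of_fintype]
  have hfsI : ∀ χ : I → ℂ, (Nat.card I : ℂ)⁻¹ * ∑ᶠ g : I, χ (g * g) = helper22.fsInd χ := by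
    intro χ
    unfold helper22.fsInd
    rw [finsum_eq_sum_of_fintype]
  rw [hfsI] at hψfs
  simp_rw [hfsG]
  -- ψ and φ are real-valued
  have hψreal : ∀ y : I, ((ψ : I → ℂ) y).im = 0 :=
    (helper22.fsInd_ne_zero_iff ψ.2).mp (by rw [hψfs]; exact one_ne_zero)
  have hφreal : ∀ n : N, conj ((φ : N → ℂ) n) = (φ : N → ℂ) n := by
    intro n
    rw [← hψ n]
    exact Complex.conj_eq_iff_im.mpr (hψreal _)
  -- the stabilizer in `conjFunN` form
  have hT : ∀ g : G, g ∈ I ↔ Cfsg.Agent.helper8.conjFunN N g (φ : N → ℂ) = (φ : N → ℂ) := by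
    intro g
    rw [hI g]
    constructor
    · intro h
      funext n
      rw [Cfsg.Agent.helper8.conjFunN_apply]
      exact h n ⟨g * n * g⁻¹, hN.conj_mem n n.2 g⟩ rfl
    · intro h n n' hn'
      have h1 := congrFun h n
      rw [Cfsg.Agent.helper8.conjFunN_apply] at h1
      have h2 : n' = ⟨g * n * g⁻¹, hN.conj_mem n n.2 g⟩ := Subtype.ext hn'
      rw [h2]; exact h1
  -- N is perfect, hence inside the commutator subgroup
  have hNcomm : N ≤ commutator G := by
    have hnorm : (⁅N, N⁆ : Subgroup G).Normal := inferInstance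
    have hle : ⁅N, N⁆ ≤ N := Subgroup.commutator_le_left N N
    rcases hmin ⁅N, N⁆ hnorm hle with h | h
    · exfalso
      apply hna
      refine ⟨⟨fun a b => ?_⟩⟩
      have hab : ⁅(a : G), (b : G)⁆ ∈ ⁅N, N⁆ := Subgroup.commutator_mem_commutator a.2 b.2
      rw [h, Subgroup.mem_bot, commutatorElement_eq_one_iff_mul_comm] at hab
      exact Subtype.ext hab
    · rw [commutator_def]
      calc N = ⁅N, N⁆ := h.symm
        _ ≤ ⁅(⊤ : Subgroup G), ⊤⁆ := Subgroup.commutator_mono le_top le_top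
  -- the linear characters
  have h1 : ∀ χ : {χ : IrrCharacter G // charDegree (χ : G → ℂ) = 1 ∧
      helper22.fsInd (χ : G → ℂ) = 1}, (χ.1 : G → ℂ) 1 = 1 := by
    intro χ
    have := char_charDegree_cast (irr_isCharacter χ.1.2)
    rw [χ.2.1] at this
    rw [← this]; simp
  choose L hL using fun χ : {χ : IrrCharacter G // charDegree (χ : G → ℂ) = 1 ∧
      helper22.fsInd (χ : G → ℂ) = 1} =>
    exists_hom_of_linear (irr_isCharacter χ.1.2) (h1 χ)
  have hLN : ∀ χ, ∀ n ∈ N, L χ n = 1 := by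
    intro χ n hn
    exact MonoidHom.mem_ker.1 (Abelianization.commutator_subset_ker (L χ) (hNcomm hn))
  -- squares of strongly real linear characters are trivial
  have hLsq : ∀ χ, ∀ g : G, ((L χ (g * g) : ℂˣ) : ℂ) = 1 := by
    intro χ g
    have hirr2 : IsIrrCharacter G (fun g => (((L χ * L χ) g : ℂˣ) : ℂ)) :=
      isIrrCharacter_of_hom (L χ * L χ)
    have hin := irr_classInner hirr2 (isIrrCharacter_one (G := G))
    have hval : classInner (fun g => (((L χ * L χ) g : ℂˣ) : ℂ)) (fun _ : G => (1 : ℂ)) = 1 := by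
      have h2 : helper22.fsInd (χ.1 : G → ℂ) = 1 := χ.2.2
      refine Eq.trans ?_ h2
      unfold helper22.fsInd classInner
      congr 1
      refine Finset.sum_congr rfl (fun g _ => ?_)
      rw [hL χ (g * g), map_one, mul_one, map_mul]
      rfl
    rw [hval] at hin
    by_cases heq : (fun g => (((L χ * L χ) g : ℂˣ) : ℂ)) = fun _ : G => (1 : ℂ)
    · have := congrFun heq g
      rw [map_mul]
      exact this
    · rw [if_neg heq] at hin
      exact absurd hin one_ne_zero
  -- the characters `λ ψ` of `I`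
  let ψL : {χ : IrrCharacter G // charDegree (χ : G → ℂ) = 1 ∧
      helper22.fsInd (χ : G → ℂ) = 1} → I → ℂ :=
    fun χ x => ((L χ (x : G) : ℂˣ) : ℂ) * (ψ : I → ℂ) x
  have hirr : ∀ χ, IsIrrCharacter I (ψL χ) := fun χ =>
    isIrrCharacter_hom_mul ((L χ).comp I.subtype) ψ.2
  let φ' : N.subgroupOf I → ℂ := fun x => (φ : N → ℂ) ⟨((x : I) : G), Subgroup.mem_subgroupOf.mp x.2⟩
  have hφ' : IsIrrCharacter (N.subgroupOf I) φ' :=
    Cfsg.Agent.helper8.isIrrCharacter_comp_mulEquiv (Subgroup.subgroupOfEquivOfLe hNI) φ.2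
  have hψres : ∀ x : N.subgroupOf I, (ψ : I → ℂ) (x : I) = φ' x := by
    intro x
    have hx : ((x : I) : G) ∈ N := Subgroup.mem_subgroupOf.mp x.2
    calc (ψ : I → ℂ) (x : I) = (ψ : I → ℂ) (Subgroup.inclusion hNI ⟨((x : I) : G), hx⟩) :=
          congrArg (ψ : I → ℂ) (Subtype.ext rfl)
      _ = (φ : N → ℂ) ⟨((x : I) : G), hx⟩ := hψ _
  have hres : ∀ χ, (fun x : N.subgroupOf I => ψL χ (x : I)) = φ' := by
    intro χ
    funext x
    have hx : ((x : I) : G) ∈ N := Subgroup.mem_subgroupOf.mp x.2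
    show ((L χ ((x : I) : G) : ℂˣ) : ℂ) * (ψ : I → ℂ) (x : I) = φ' x
    rw [hLN χ _ hx, Units.val_one, one_mul, hψres x]
  -- restriction to N itself
  have hresN : ∀ χ, (fun n : N => ψL χ (Subgroup.inclusion hNI n)) = (φ : N → ℂ) := by
    intro χ
    funext n
    show ((L χ ((Subgroup.inclusion hNI n : I) : G) : ℂˣ) : ℂ) *
      (ψ : I → ℂ) (Subgroup.inclusion hNI n) = (φ : N → ℂ) n
    have e : ((Subgroup.inclusion hNI n : I) : G) = (n : G) := rfl
    rw [e, hLN χ _ n.2, Units.val_one, one_mul, hψ n]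
  have hover : ∀ χ, classInner (indFun (N.subgroupOf I) φ') (ψL χ) ≠ 0 := by
    intro χ
    rw [classInner_indFun_eq_restrict _ _ _ (char_isClassFunction (irr_isCharacter (hirr χ))),
      hres χ, irr_classInner_self hφ']
    exact one_ne_zero
  have hcorr := fun χ χ' => Cfsg.Agent.helper8.clifford_corr N I (φ : N → ℂ) φ.2 hT hNI
    (ψL χ) (ψL χ') (hirr χ) (hirr χ') (hover χ) (hover χ')
  have hXirr : ∀ χ, IsIrrCharacter G (indFun I (ψL χ)) := by
    intro χ
    apply isIrrCharacter_of_classInner_self (isCharacter_indFun I (irr_isCharacter (hirr χ)))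
    rw [hcorr χ χ, if_pos rfl]
  have hψ1 : (ψ : I → ℂ) 1 = ((charDegree (φ : N → ℂ) : ℕ) : ℂ) := by
    rw [char_charDegree_cast (irr_isCharacter φ.2)]
    have := hψ 1
    rw [map_one] at this
    exact this
  have hXdeg : ∀ χ, charDegree (indFun I (ψL χ)) = charDegree (φ : N → ℂ) * I.index := by
    intro χ
    apply charDegree_natCast
    rw [Cfsg.Agent.helper5.indFun_one]
    show (I.index : ℂ) * (((L χ ((1 : I) : G) : ℂˣ) : ℂ) * (ψ : I → ℂ) 1) = _
    rw [hψ1, Subgroup.coe_one, map_one, Units.val_one, one_mul]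
    push_cast; ring
  -- the indicator of the induced character
  have hXfs : ∀ χ, helper22.fsInd (indFun I (ψL χ)) = 1 := by
    intro χ
    have hφirr : IsIrrCharacter N (fun n : N => ψL χ (Subgroup.inclusion hNI n)) := by
      rw [hresN χ]; exact φ.2
    have htw : ∀ g : G, g ∉ I →
        (fun n : N => ψL χ (Subgroup.inclusion hNI (MulAut.conjNormal g⁻¹ n))) ≠
        fun n => conj (ψL χ (Subgroup.inclusion hNI n)) := by
      intro g hg heq
      apply hg
      have hginv : g⁻¹ ∈ I := by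
        rw [hI]
        intro n n' hn'
        have h2 : n' = MulAut.conjNormal g⁻¹ n := by
          apply Subtype.ext
          rw [hn', MulAut.conjNormal_apply]
        have h3 := congrFun heq n
        have h4 := congrFun (hresN χ) (MulAut.conjNormal g⁻¹ n)
        have h5 := congrFun (hresN χ) n
        rw [h4, h5, hφreal n] at h3
        rw [h2, h3]
      have := I.inv_mem hginv
      rwa [inv_inv] at this
    rw [Cfsg.Agent.helper1.fsInd_indFun N I hNI (hirr χ) hφirr htw]
    -- ν(λψ) = ν(ψ)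
    rw [← hψfs]
    unfold helper22.fsInd
    congr 1
    refine Finset.sum_congr rfl (fun y _ => ?_)
    show ((L χ ((y * y : I) : G) : ℂˣ) : ℂ) * (ψ : I → ℂ) (y * y) = (ψ : I → ℂ) (y * y)
    rw [Subgroup.coe_mul, hLsq χ (y : G), one_mul]
  let F : {χ : IrrCharacter G // charDegree (χ : G → ℂ) = 1 ∧ helper22.fsInd (χ : G → ℂ) = 1} →
      {χ : IrrCharacter G // charDegree (χ : G → ℂ) = charDegree (φ : N → ℂ) * I.index ∧
        helper22.fsInd (χ : G → ℂ) = 1} :=
    fun χ => ⟨⟨indFun I (ψL χ), hXirr χ⟩, hXdeg χ, hXfs χ⟩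
  -- fibres of F: same restriction to I
  have hKnorm : classInner (fun k : N.subgroupOf I => (ψ : I → ℂ) k)
      (fun k : N.subgroupOf I => (ψ : I → ℂ) k) = 1 := by
    have : (fun k : N.subgroupOf I => (ψ : I → ℂ) k) = φ' := funext hψres
    rw [this]; exact irr_classInner_self hφ'
  have hfib : ∀ χ χ', F χ = F χ' → ∀ x : I, (χ.1 : G → ℂ) x = (χ'.1 : G → ℂ) x := by
    intro χ χ' h x
    have hX : indFun I (ψL χ) = indFun I (ψL χ') := by
      have := congrArg (fun b : {χ : IrrCharacter G // charDegree (χ : G → ℂ) =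
        charDegree (φ : N → ℂ) * I.index ∧ helper22.fsInd (χ : G → ℂ) = 1} => (b.1 : G → ℂ)) h
      exact this
    have hψeq : ψL χ = ψL χ' := by
      by_contra hne
      have h2 := hcorr χ χ'
      rw [if_neg hne, ← hX, hcorr χ χ, if_pos rfl] at h2
      exact one_ne_zero h2
    let mu : I →* ℂˣ := ((L χ)⁻¹ * (L χ')).comp I.subtype
    have hmu : mu = 1 := by
      apply hom_eq_one_of_mul_eq (N.subgroupOf I) ψ.2 hKnorm mu
      · intro k hk
        have hk' : (k : G) ∈ N := Subgroup.mem_subgroupOf.mp hk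
        show (L χ (k : G))⁻¹ * L χ' (k : G) = 1
        rw [hLN χ _ hk', hLN χ' _ hk']; simp
      · intro y
        have h3 := congrFun hψeq y
        have h4 : ((L χ (y : G) : ℂˣ) : ℂ) * (ψ : I → ℂ) y = ((L χ' (y : G) : ℂˣ) : ℂ) * (ψ : I → ℂ) y := h3
        show (((L χ (y : G))⁻¹ * L χ' (y : G) : ℂˣ) : ℂ) * (ψ : I → ℂ) y = (ψ : I → ℂ) y
        rw [Units.val_mul, Units.val_inv_eq_inv_val, mul_assoc, ← h4,
          inv_mul_cancel_left₀ (Units.ne_zero _)]
    have h5 : (L χ (x : G))⁻¹ * L χ' (x : G) = 1 := by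
      have := congrArg (fun m : I →* ℂˣ => m x) hmu
      exact this
    have h6 : L χ (x : G) = L χ' (x : G) := by
      have := inv_mul_eq_one.1 h5
      exact this
    rw [hL χ, hL χ', h6]
  -- counting
  have := Fintype.ofFinite {χ : IrrCharacter G // charDegree (χ : G → ℂ) = 1 ∧
    helper22.fsInd (χ : G → ℂ) = 1}
  have := Fintype.ofFinite {χ : IrrCharacter G // charDegree (χ : G → ℂ) =
    charDegree (φ : N → ℂ) * I.index ∧ helper22.fsInd (χ : G → ℂ) = 1}
  rw [Nat.card_eq_fintype_card, Nat.card_eq_fintype_card]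
  have hcount := Finset.card_le_mul_card_image (f := F)
    (Finset.univ : Finset {χ : IrrCharacter G // charDegree (χ : G → ℂ) = 1 ∧
      helper22.fsInd (χ : G → ℂ) = 1}) I.index (by
      intro b hb
      obtain ⟨χ₀, -, rfl⟩ := Finset.mem_image.1 hb
      set T := (Finset.univ : Finset {χ : IrrCharacter G // charDegree (χ : G → ℂ) = 1 ∧
        helper22.fsInd (χ : G → ℂ) = 1}).filter
        (fun χ => F χ = F χ₀) with hTdef
      have hcardmap : (T.map ⟨Subtype.val, Subtype.val_injective⟩).card = T.card := Finset.card_map _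
      rw [← hcardmap]
      apply card_linear_restrict_le I
      · intro χ hχ
        obtain ⟨a, -, rfl⟩ := Finset.mem_map.1 hχ
        exact h1 a
      · intro χ hχ χ' hχ' x
        obtain ⟨a, ha, rfl⟩ := Finset.mem_map.1 hχ
        obtain ⟨a', ha', rfl⟩ := Finset.mem_map.1 hχ'
        have e1 : F a = F χ₀ := (Finset.mem_filter.1 ha).2
        have e2 : F a' = F χ₀ := (Finset.mem_filter.1 ha').2
        exact hfib a a' (e1.trans e2.symm) x)
  calc Fintype.card {χ : IrrCharacter G // charDegree (χ : G → ℂ) = 1 ∧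
        helper22.fsInd (χ : G → ℂ) = 1}
      = (Finset.univ : Finset {χ : IrrCharacter G // charDegree (χ : G → ℂ) = 1 ∧
        helper22.fsInd (χ : G → ℂ) = 1}).card := rfl
    _ ≤ I.index * (Finset.univ.image F).card := hcount
    _ ≤ I.index * Fintype.card _ := Nat.mul_le_mul_left _ (Finset.card_le_univ _)

end Cfsg.Agent.S4912
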