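import Cfsg.Statements.S4956
import Cfsg.Agent.Lib_helper24_KGV

set_option autoImplicit false
open Cfsg
open Cfsg.Agent.helper24

namespace Cfsg.Agent.S4956

universe u

theorem main {X : Type u} [Group X] [Finite X] (V : Subgroup X) [hV : V.Normal]
    (hab : ∀ a ∈ V, ∀ b ∈ V, a * b = b * a) (G : Subgroup X) (hGV : Subgroup.IsComplement' V G)
    (hcop : (Nat.card V).Coprime (Nat.card G)) (S : Finset X) (hSV : ∀ s ∈ S, s ∈ V)
    (hrep : ∀ v ∈ V, ∃! s, s ∈ S ∧ ∃ g ∈ G, g * v * g⁻¹ = s) :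
    Nat.card (ConjClasses X) =
      ∑ s ∈ S, Nat.card (ConjClasses ↥(G ⊓ Subgroup.centralizer ({s} : Set X))) := by
  classical
  have := Fintype.ofFinite ↥G
  have := Fintype.ofFinite ↥V
  have h1 := card_commuting_pairs_decomp V G hGV
  -- each summand
  have h2 : ∀ gh : G × G, Nat.card {vw : V × V //
        ((gh.1 : X) * gh.2 = gh.2 * gh.1) ∧
          (vw.1 : X) * (gh.1 * vw.2 * (gh.1 : X)⁻¹) = vw.2 * (gh.2 * vw.1 * (gh.2 : X)⁻¹)} =
      Nat.card V * Nat.card {u : V // ((gh.1 : X) * gh.2 = gh.2 * gh.1) ∧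
        (gh.1 : X) * u * (gh.1 : X)⁻¹ = u ∧ (gh.2 : X) * u * (gh.2 : X)⁻¹ = u} := by
    intro gh
    by_cases hcomm : (gh.1 : X) * gh.2 = gh.2 * gh.1
    · have e1 : {vw : V × V // ((gh.1 : X) * gh.2 = gh.2 * gh.1) ∧
          (vw.1 : X) * (gh.1 * vw.2 * (gh.1 : X)⁻¹) = vw.2 * (gh.2 * vw.1 * (gh.2 : X)⁻¹)} ≃
          {vw : V × V // (vw.1 : X) * (gh.1 * vw.2 * (gh.1 : X)⁻¹) =
            vw.2 * (gh.2 * vw.1 * (gh.2 : X)⁻¹)} :=
        Equiv.subtypeEquivRight (fun vw => and_iff_right hcomm)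
      have e2 : {u : V // ((gh.1 : X) * gh.2 = gh.2 * gh.1) ∧
          (gh.1 : X) * u * (gh.1 : X)⁻¹ = u ∧ (gh.2 : X) * u * (gh.2 : X)⁻¹ = u} ≃
          {u : V // (gh.1 : X) * u * (gh.1 : X)⁻¹ = u ∧ (gh.2 : X) * u * (gh.2 : X)⁻¹ = u} :=
        Equiv.subtypeEquivRight (fun u => and_iff_right hcomm)
      rw [Nat.card_congr e1, Nat.card_congr e2]
      have ho : ∀ g : G, (orderOf (g : X)).Coprime (Nat.card V) := by
        intro g
        have hd : orderOf (g : X) ∣ Nat.card G := by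
          rw [Subgroup.orderOf_coe]
          exact orderOf_dvd_natCard g
        exact Nat.Coprime.coprime_dvd_left hd hcop.symm
      exact card_solutions V hab (gh.1 : X) (gh.2 : X) hcomm (ho gh.1) (ho gh.2)
    · have z1 : Nat.card {vw : V × V // ((gh.1 : X) * gh.2 = gh.2 * gh.1) ∧
          (vw.1 : X) * (gh.1 * vw.2 * (gh.1 : X)⁻¹) = vw.2 * (gh.2 * vw.1 * (gh.2 : X)⁻¹)} = 0 := by
        rw [Nat.card_eq_zero]
        left
        exact ⟨fun x => hcomm x.2.1⟩
      have z2 : Nat.card {u : V // ((gh.1 : X) * gh.2 = gh.2 * gh.1) ∧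
          (gh.1 : X) * u * (gh.1 : X)⁻¹ = u ∧ (gh.2 : X) * u * (gh.2 : X)⁻¹ = u} = 0 := by
        rw [Nat.card_eq_zero]
        left
        exact ⟨fun x => hcomm x.2.1⟩
      rw [z1, z2, mul_zero]
  -- swap the order of summation
  have h3 : ∑ gh : G × G, Nat.card {u : V // ((gh.1 : X) * gh.2 = gh.2 * gh.1) ∧
        (gh.1 : X) * u * (gh.1 : X)⁻¹ = u ∧ (gh.2 : X) * u * (gh.2 : X)⁻¹ = u} =
      ∑ u : V, fixPairs G (u : X) := by
    rw [← card_subtype_prod' (fun (gh : G × G) (u : V) => ((gh.1 : X) * gh.2 = gh.2 * gh.1) ∧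
        (gh.1 : X) * u * (gh.1 : X)⁻¹ = u ∧ (gh.2 : X) * u * (gh.2 : X)⁻¹ = u),
      card_subtype_prod (fun (gh : G × G) (u : V) => ((gh.1 : X) * gh.2 = gh.2 * gh.1) ∧
        (gh.1 : X) * u * (gh.1 : X)⁻¹ = u ∧ (gh.2 : X) * u * (gh.2 : X)⁻¹ = u)]
    rfl
  -- group by orbits
  have h4 : ∑ u : V, fixPairs G (u : X) =
      ∑ s ∈ S, Nat.card G * Nat.card (ConjClasses ↥(G ⊓ Subgroup.centralizer ({s} : Set X))) := by
    have h5 : ∀ u : V, fixPairs G (u : X) =
        ∑ s ∈ S, if (∃ g ∈ G, g * (u : X) * g⁻¹ = s) then fixPairs G s else 0 := by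
      intro u
      obtain ⟨s₀, ⟨hs₀S, g₀, hg₀, hg₀u⟩, huniq⟩ := hrep u u.2
      rw [Finset.sum_eq_single_of_mem s₀ hs₀S]
      · rw [if_pos ⟨g₀, hg₀, hg₀u⟩, ← hg₀u]
        exact (fixPairs_conj G (u : X) ⟨g₀, hg₀⟩).symm
      · intro s hsS hne
        rw [if_neg]
        intro hex
        exact hne (huniq s ⟨hsS, hex⟩)
    rw [Finset.sum_congr rfl (fun u _ => h5 u), Finset.sum_comm]
    apply Finset.sum_congr rfl
    intro s hs
    rw [Finset.sum_ite, Finset.sum_const_zero, add_zero, Finset.sum_const, smul_eq_mul,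
      fixPairs_eq, ← orbit_card_mul V G s (hSV s hs),
      Nat.card_eq_fintype_card (α := {u : V // ∃ g ∈ G, g * (u : X) * g⁻¹ = s}),
      Fintype.card_subtype]
    ring
  have h6 : Nat.card (ConjClasses X) * Nat.card X =
      (∑ s ∈ S, Nat.card (ConjClasses ↥(G ⊓ Subgroup.centralizer ({s} : Set X)))) * Nat.card X := by
    rw [← card_comm_eq_card_conjClasses_mul_card, h1, Finset.sum_congr rfl (fun gh _ => h2 gh),
      ← Finset.mul_sum, h3, h4, ← Finset.mul_sum, ← hGV.card_mul_card]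
    ring
  exact Nat.eq_of_mul_eq_mul_right Nat.card_pos h6

/-- Let X be a finite group, V an abelian normal subgroup of X (any two elements of V commute) and G a complement to V in X whose order is coprime to that of V. Let S be a set of representatives of the orbits of G on V under conjugation: S lies in V and every element of V is conjugate under G to exactly one member of S. Then the number of conjugacy classes of X equals the sum, over s in S, of the number of conjugacy classes of the centralizer of s in G. -/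
theorem result {X : Type*} [Group X] [Finite X] (V : Subgroup X) [V.Normal] (hab : ∀ a ∈ V, ∀ b ∈ V, a * b = b * a) (G : Subgroup X) (hGV : Subgroup.IsComplement' V G) (hcop : (Nat.card V).Coprime (Nat.card G)) (S : Finset X) (hSV : ∀ s ∈ S, s ∈ V) (hrep : ∀ v ∈ V, ∃! s, s ∈ S ∧ ∃ g ∈ G, g * v * g⁻¹ = s) : Nat.card (ConjClasses X) = ∑ s ∈ S, Nat.card (ConjClasses ↥(G ⊓ Subgroup.centralizer ({s} : Set X))) :=
  main V hab G hGV hcop S hSV hrep

end Cfsg.Agent.S4956
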