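import Mathlib
import Cfsg.Statements.S4965

set_option autoImplicit false
open Cfsg

namespace Cfsg.Agent.S4965

universe u

open Classical in
/-- A chosen commuting pair of lifts for a pair of elements of the quotient. -/
noncomputable def base {X : Type u} [Group X] (V : Subgroup X) [V.Normal] (a b : X ⧸ V) : X × X :=
  if h : ∃ q : X × X, Commute q.1 q.2 ∧ (QuotientGroup.mk q.1 : X ⧸ V) = a ∧
      (QuotientGroup.mk q.2 : X ⧸ V) = b then h.choose else (1, 1)

theorem base_spec {X : Type u} [Group X] (V : Subgroup X) [V.Normal] (x y : X) (hxy : Commute x y) :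
    Commute (base V (QuotientGroup.mk x) (QuotientGroup.mk y)).1
      (base V (QuotientGroup.mk x) (QuotientGroup.mk y)).2 ∧
    (QuotientGroup.mk (base V (QuotientGroup.mk x) (QuotientGroup.mk y)).1 : X ⧸ V) =
      QuotientGroup.mk x ∧
    (QuotientGroup.mk (base V (QuotientGroup.mk x) (QuotientGroup.mk y)).2 : X ⧸ V) =
      QuotientGroup.mk y := by
  have h : ∃ q : X × X, Commute q.1 q.2 ∧ (QuotientGroup.mk q.1 : X ⧸ V) = QuotientGroup.mk x ∧
      (QuotientGroup.mk q.2 : X ⧸ V) = QuotientGroup.mk y := ⟨(x, y), hxy, rfl, rfl⟩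
  unfold base
  rw [dif_pos h]
  exact h.choose_spec

theorem mul_inv_mem_of_mk_eq {X : Type u} [Group X] (V : Subgroup X) [V.Normal] {x x₀ : X}
    (h : (QuotientGroup.mk x₀ : X ⧸ V) = QuotientGroup.mk x) : x * x₀⁻¹ ∈ V := by
  have h1 : (QuotientGroup.mk (x * x₀⁻¹) : X ⧸ V) = 1 := by
    rw [QuotientGroup.mk_mul, QuotientGroup.mk_inv, h, mul_inv_cancel]
  exact (QuotientGroup.eq_one_iff _).mp h1

theorem commute_mk {X : Type u} [Group X] (V : Subgroup X) [V.Normal]
    (φ : X ⧸ V →* MulAut ↥V)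
    (hφ : ∀ (x : X) (v : ↥V), ((φ (QuotientGroup.mk x) v : ↥V) : X) = x * v * x⁻¹)
    (x y x₀ y₀ : X) (hxy : x * y = y * x) (h0 : x₀ * y₀ = y₀ * x₀)
    (a b : X ⧸ V) (h1 : (QuotientGroup.mk x₀ : X ⧸ V) = a) (h2 : (QuotientGroup.mk y₀ : X ⧸ V) = b)
    (h1' : (QuotientGroup.mk x : X ⧸ V) = a) (h2' : (QuotientGroup.mk y : X ⧸ V) = b)
    (hv : x * x₀⁻¹ ∈ V) (hw : y * y₀⁻¹ ∈ V) :
    Commute (⟨⟨x * x₀⁻¹, hv⟩, a⟩ : SemidirectProduct ↥V (X ⧸ V) φ) ⟨⟨y * y₀⁻¹, hw⟩, b⟩ := by
  have h0'' : y₀⁻¹ * x₀⁻¹ = x₀⁻¹ * y₀⁻¹ := by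
    rw [← mul_inv_rev, ← mul_inv_rev, h0]
  change _ * _ = _ * _
  apply SemidirectProduct.ext
  · apply Subtype.ext
    simp only [SemidirectProduct.mul_left, Subgroup.coe_mul]
    subst h1 h2
    rw [hφ, hφ]
    simp only
    calc x * x₀⁻¹ * (x₀ * (y * y₀⁻¹) * x₀⁻¹) = x * y * (y₀⁻¹ * x₀⁻¹) := by group
      _ = y * x * (x₀⁻¹ * y₀⁻¹) := by rw [hxy, h0'']
      _ = y * y₀⁻¹ * (y₀ * (x * x₀⁻¹) * y₀⁻¹) := by group
  · simp only [SemidirectProduct.mul_right]
    rw [← h1', ← h2', ← QuotientGroup.mk_mul, ← QuotientGroup.mk_mul, hxy]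

theorem key {X : Type u} [Group X] [Finite X] (V : Subgroup X) [V.Normal]
    (φ : X ⧸ V →* MulAut ↥V)
    (hφ : ∀ (x : X) (v : ↥V), ((φ (QuotientGroup.mk x) v : ↥V) : X) = x * v * x⁻¹) :
    Nat.card {p : X × X // Commute p.1 p.2} ≤
      Nat.card {p : SemidirectProduct ↥V (X ⧸ V) φ × SemidirectProduct ↥V (X ⧸ V) φ //
        Commute p.1 p.2} := by
  have hfin : Finite (SemidirectProduct ↥V (X ⧸ V) φ) :=
    Finite.of_equiv _ SemidirectProduct.equivProd.symm
  let Φ : {p : X × X // Commute p.1 p.2} →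
      {p : SemidirectProduct ↥V (X ⧸ V) φ × SemidirectProduct ↥V (X ⧸ V) φ // Commute p.1 p.2} :=
    fun p =>
      ⟨(⟨⟨p.1.1 * (base V (QuotientGroup.mk p.1.1) (QuotientGroup.mk p.1.2)).1⁻¹,
            mul_inv_mem_of_mk_eq V (base_spec V p.1.1 p.1.2 p.2).2.1⟩, QuotientGroup.mk p.1.1⟩,
        ⟨⟨p.1.2 * (base V (QuotientGroup.mk p.1.1) (QuotientGroup.mk p.1.2)).2⁻¹,
            mul_inv_mem_of_mk_eq V (base_spec V p.1.1 p.1.2 p.2).2.2⟩, QuotientGroup.mk p.1.2⟩),
        commute_mk V φ hφ _ _ _ _ p.2 (base_spec V p.1.1 p.1.2 p.2).1 _ _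
          (base_spec V p.1.1 p.1.2 p.2).2.1 (base_spec V p.1.1 p.1.2 p.2).2.2 rfl rfl _ _⟩
  have hinj : Function.Injective Φ := by
    rintro ⟨⟨x, y⟩, hxy⟩ ⟨⟨x', y'⟩, hxy'⟩ h
    have h' := congrArg Subtype.val h
    simp only [Φ, Prod.mk.injEq] at h'
    obtain ⟨ha, hb⟩ := h'
    have ha2 : (QuotientGroup.mk x : X ⧸ V) = QuotientGroup.mk x' :=
      congrArg SemidirectProduct.right ha
    have hb2 : (QuotientGroup.mk y : X ⧸ V) = QuotientGroup.mk y' :=
      congrArg SemidirectProduct.right hb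
    have ha1 := congrArg (fun s => ((SemidirectProduct.left s : ↥V) : X)) ha
    have hb1 := congrArg (fun s => ((SemidirectProduct.left s : ↥V) : X)) hb
    simp only at ha1 hb1
    rw [ha2, hb2] at ha1 hb1
    have hx : x = x' := mul_right_cancel ha1
    have hy : y = y' := mul_right_cancel hb1
    subst hx hy
    rfl
  exact Nat.card_le_card_of_injective Φ hinj

/-- Let X be a finite group with an abelian normal subgroup V (any two elements of V commute), and let φ be the action of X ⧸ V on V induced by conjugation (well defined because V is abelian; the hypothesis hφ says that the class of x acts as conjugation by x). Then X has at most as many conjugacy classes as the semidirect product of V by X ⧸ V formed with this action: the split extension has the largest class number among extensions with the given action. -/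
theorem result {X : Type*} [Group X] [Finite X] (V : Subgroup X) [V.Normal] (hab : ∀ a ∈ V, ∀ b ∈ V, a * b = b * a) (φ : X ⧸ V →* MulAut ↥V) (hφ : ∀ (x : X) (v : ↥V), ((φ (QuotientGroup.mk x) v : ↥V) : X) = x * v * x⁻¹) : Nat.card (ConjClasses X) ≤ Nat.card (ConjClasses (SemidirectProduct ↥V (X ⧸ V) φ)) := by
  have h := key V φ hφ
  rw [card_comm_eq_card_conjClasses_mul_card, card_comm_eq_card_conjClasses_mul_card,
    SemidirectProduct.card, mul_comm (Nat.card ↥V),
    ← Subgroup.card_eq_card_quotient_mul_card_subgroup] at h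
  exact Nat.le_of_mul_le_mul_right h Nat.card_pos

end Cfsg.Agent.S4965
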