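import Cfsg.Statements.S4966
import Mathlib

set_option autoImplicit false
open Cfsg

namespace Cfsg.Agent.S4966

open Module

section

variable {F : Type*} [Field F] {G : Type*} [Group G] {V : Type*} [AddCommGroup V] [Module F V]

def Inv (ρ : Representation F G V) (X : Submodule F V) : Prop :=
  ∀ g : G, ∀ x ∈ X, ρ g x ∈ X

def NondegOn (B : LinearMap.BilinForm F V) (X : Submodule F V) : Prop :=
  ∀ x ∈ X, (∀ y ∈ X, B x y = 0) → x = 0

def FormInv (ρ : Representation F G V) (B : LinearMap.BilinForm F V) (X : Submodule F V) : Prop :=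
  ∀ g : G, ∀ x ∈ X, ∀ y ∈ X, B (ρ g x) (ρ g y) = B x y

def lRad (B : LinearMap.BilinForm F V) (M P : Submodule F V) : Submodule F V where
  carrier := {x | x ∈ M ∧ ∀ y ∈ P, B x y = 0}
  add_mem' := by
    rintro a b ⟨ha, ha'⟩ ⟨hb, hb'⟩
    refine ⟨M.add_mem ha hb, fun y hy => ?_⟩
    rw [map_add, LinearMap.add_apply, ha' y hy, hb' y hy, add_zero]
  zero_mem' := ⟨M.zero_mem, fun y _ => by rw [map_zero, LinearMap.zero_apply]⟩
  smul_mem' := by
    rintro c a ⟨ha, ha'⟩
    refine ⟨M.smul_mem c ha, fun y hy => ?_⟩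
    rw [map_smul, LinearMap.smul_apply, ha' y hy, smul_zero]

lemma lRad_le (B : LinearMap.BilinForm F V) (M P : Submodule F V) : lRad B M P ≤ M :=
  fun _ hx => hx.1

def symRad (B : LinearMap.BilinForm F V) (N : Submodule F V) : Submodule F V where
  carrier := {x | x ∈ N ∧ ∀ y ∈ N, B x y = B y x}
  add_mem' := by
    rintro a b ⟨ha, ha'⟩ ⟨hb, hb'⟩
    refine ⟨N.add_mem ha hb, fun y hy => ?_⟩
    rw [map_add, LinearMap.add_apply, map_add, ha' y hy, hb' y hy]
  zero_mem' := ⟨N.zero_mem, fun y _ => by rw [map_zero, LinearMap.zero_apply, map_zero]⟩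
  smul_mem' := by
    rintro c a ⟨ha, ha'⟩
    refine ⟨N.smul_mem c ha, fun y hy => ?_⟩
    rw [map_smul, LinearMap.smul_apply, map_smul, ha' y hy]

def isoRad (B : LinearMap.BilinForm F V) (N : Submodule F V) (h2 : (2 : F) = 0)
    (hs : ∀ x ∈ N, ∀ y ∈ N, B x y = B y x) : Submodule F V where
  carrier := {x | x ∈ N ∧ B x x = 0}
  add_mem' := by
    rintro a b ⟨ha, ha'⟩ ⟨hb, hb'⟩
    refine ⟨N.add_mem ha hb, ?_⟩
    have e : B (a + b) (a + b) = B a a + B b b + (B a b + B b a) := by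
      simp only [map_add, LinearMap.add_apply]; ring
    rw [e, ha', hb', hs b hb a ha]
    linear_combination (B a b) * h2
  zero_mem' := ⟨N.zero_mem, by simp⟩
  smul_mem' := by
    rintro c a ⟨ha, ha'⟩
    refine ⟨N.smul_mem c ha, ?_⟩
    simp only [map_smul, LinearMap.smul_apply, ha', smul_zero]

lemma rho_inv_apply (ρ : Representation F G V) (g : G) (x : V) : ρ g (ρ g⁻¹ x) = x := by
  have h : ρ g * ρ g⁻¹ = 1 := by rw [← map_mul, mul_inv_cancel, map_one]
  calc ρ g (ρ g⁻¹ x) = (ρ g * ρ g⁻¹) x := rfl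
    _ = x := by rw [h]; rfl

lemma inv_sup {ρ : Representation F G V} {A C : Submodule F V} (hA : Inv ρ A) (hC : Inv ρ C) :
    Inv ρ (A ⊔ C) := by
  intro g x hx
  obtain ⟨a, ha, c, hc, rfl⟩ := Submodule.mem_sup.mp hx
  rw [map_add]
  exact Submodule.add_mem _ (Submodule.mem_sup_left (hA g a ha)) (Submodule.mem_sup_right (hC g c hc))

lemma lRad_inv {ρ : Representation F G V} {B : LinearMap.BilinForm F V}
    (hB : ∀ g : G, ∀ x y : V, B (ρ g x) (ρ g y) = B x y) {M P : Submodule F V}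
    (hM : Inv ρ M) (hP : Inv ρ P) : Inv ρ (lRad B M P) := by
  intro g x hx
  refine ⟨hM g x hx.1, fun y hy => ?_⟩
  rw [← rho_inv_apply ρ g y, hB]
  exact hx.2 _ (hP g⁻¹ y hy)

lemma flip_inv {ρ : Representation F G V} {B : LinearMap.BilinForm F V}
    (hB : ∀ g : G, ∀ x y : V, B (ρ g x) (ρ g y) = B x y) :
    ∀ g : G, ∀ x y : V, (LinearMap.flip B) (ρ g x) (ρ g y) = (LinearMap.flip B) x y := by
  intro g x y
  rw [LinearMap.flip_apply, LinearMap.flip_apply, hB]

lemma symRad_inv {ρ : Representation F G V} {B : LinearMap.BilinForm F V}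
    (hB : ∀ g : G, ∀ x y : V, B (ρ g x) (ρ g y) = B x y) {N : Submodule F V}
    (hN : Inv ρ N) : Inv ρ (symRad B N) := by
  intro g x hx
  refine ⟨hN g x hx.1, fun y hy => ?_⟩
  rw [← rho_inv_apply ρ g y, hB, hB]
  exact hx.2 _ (hN g⁻¹ y hy)

lemma sepLeft_of_nondegOn {B : LinearMap.BilinForm F V} {X : Submodule F V}
    (h : NondegOn B X) : (B.restrict X).SeparatingLeft := by
  intro x hx
  have := h x.1 x.2 (fun y hy => by
    have := hx ⟨y, hy⟩
    simpa using this)
  exact Subtype.ext this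

lemma nondegOn_flip [FiniteDimensional F V] {B : LinearMap.BilinForm F V} {X : Submodule F V}
    (h : NondegOn B X) : NondegOn (LinearMap.flip B) X := by
  have h2 := (LinearMap.BilinForm.Nondegenerate.ofSeparatingLeft (sepLeft_of_nondegOn h)).2
  intro x hx hxy
  have := h2 ⟨x, hx⟩ (fun y => by
    have := hxy y.1 y.2
    simpa using this)
  exact congrArg Subtype.val this

lemma exists_repr [FiniteDimensional F V] {B : LinearMap.BilinForm F V} {N : Submodule F V}
    (h : NondegOn B N) (x : V) : ∃ n ∈ N, ∀ m ∈ N, B m n = B m x := by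
  have h2 : (B.restrict N).flip.Nondegenerate :=
    (LinearMap.BilinForm.Nondegenerate.ofSeparatingLeft (sepLeft_of_nondegOn h)).flip
  obtain ⟨φ, hφ⟩ : ∃ φ : Module.Dual F N, φ = ((LinearMap.flip B) x).domRestrict N := ⟨_, rfl⟩
  refine ⟨(((B.restrict N).flip.toDual h2).symm φ : N), Subtype.property _, fun m hm => ?_⟩
  have h3 := LinearMap.BilinForm.apply_toDual_symm_apply (hB := h2) φ ⟨m, hm⟩
  rw [LinearMap.BilinForm.flip_apply, LinearMap.BilinForm.restrict_apply,
    LinearMap.domRestrict_apply] at h3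
  rw [h3, hφ, LinearMap.domRestrict_apply, LinearMap.flip_apply]

lemma perp_split [FiniteDimensional F V] {ρ : Representation F G V} {B : LinearMap.BilinForm F V}
    (hB : ∀ g : G, ∀ x y : V, B (ρ g x) (ρ g y) = B x y) {X N : Submodule F V}
    (hX : Inv ρ X) (hXnd : NondegOn B X) (hN : Inv ρ N) (hNnd : NondegOn B N) (hNX : N ≤ X) :
    ∃ X' : Submodule F V, X' ≤ X ∧ Inv ρ X' ∧ NondegOn B X' ∧ N ⊓ X' = ⊥ ∧ N ⊔ X' = X := by
  have hsub : ∀ z ∈ X, ∀ n ∈ N, (∀ m ∈ N, B m n = B m z) → z - n ∈ lRad (LinearMap.flip B) X N := by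
    intro z hz n hn hnz
    refine ⟨X.sub_mem hz (hNX hn), fun m hm => ?_⟩
    rw [LinearMap.flip_apply, map_sub, hnz m hm, sub_self]
  refine ⟨lRad (LinearMap.flip B) X N, lRad_le _ _ _, lRad_inv (flip_inv hB) hX hN, ?_, ?_, ?_⟩
  · have hr : NondegOn (LinearMap.flip B) (lRad (LinearMap.flip B) X N) := by
      intro x hx hxy
      apply nondegOn_flip hXnd x hx.1
      intro z hz
      obtain ⟨n, hn, hnz⟩ := exists_repr hNnd z
      have h1 := hxy _ (hsub z hz n hn hnz)
      have h2 := hx.2 n hn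
      have e : z = (z - n) + n := by abel
      rw [e, map_add, h1, h2, add_zero]
    have := nondegOn_flip hr
    rwa [LinearMap.flip_flip] at this
  · rw [eq_bot_iff]
    intro x hx
    have : x = 0 := nondegOn_flip hNnd x hx.1 (fun y hy => hx.2.2 y hy)
    rw [this]; exact Submodule.zero_mem _
  · apply le_antisymm (sup_le hNX (lRad_le _ _ _))
    intro x hx
    obtain ⟨n, hn, hnx⟩ := exists_repr hNnd x
    have e : x = n + (x - n) := by abel
    rw [e]
    exact Submodule.add_mem _ (Submodule.mem_sup_left hn)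
      (Submodule.mem_sup_right (hsub x hx n hn hnx))

lemma exists_rel_compl [Finite G] [NeZero (Nat.card G : F)] (ρ : Representation F G V)
    {Y Z : Submodule F V} (hY : Inv ρ Y) (hZ : Inv ρ Z) (hYZ : Y ≤ Z) :
    ∃ C : Submodule F V, Inv ρ C ∧ C ≤ Z ∧ Y ⊓ C = ⊥ ∧ Y ⊔ C = Z := by
  obtain ⟨U', hU'⟩ := exists_isCompl (⟨Y, fun g v hv => hY g v hv⟩ : Subrepresentation ρ)
  have h1 : Y ⊓ U'.toSubmodule = ⊥ :=
    congrArg Subrepresentation.toSubmodule (disjoint_iff.mp hU'.1)
  have h2 : Y ⊔ U'.toSubmodule = ⊤ :=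
    congrArg Subrepresentation.toSubmodule (codisjoint_iff.mp hU'.2)
  refine ⟨U'.toSubmodule ⊓ Z, ?_, inf_le_right, ?_, ?_⟩
  · intro g x hx
    exact ⟨U'.apply_mem_toSubmodule g hx.1, hZ g x hx.2⟩
  · rw [← inf_assoc, h1, bot_inf_eq]
  · rw [← sup_inf_assoc_of_le _ hYZ, h2, top_inf_eq]

lemma exists_min_submodule [FiniteDimensional F V] (P : Submodule F V → Prop) :
    ∀ (n : ℕ) (X : Submodule F V), finrank F X = n → P X →
      ∃ N, N ≤ X ∧ P N ∧ ∀ N', N' ≤ N → P N' → N' = N := by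
  intro n
  induction n using Nat.strong_induction_on with
  | _ n ih =>
    intro X hn hX
    by_cases h : ∀ N', N' ≤ X → P N' → N' = X
    · exact ⟨X, le_refl _, hX, h⟩
    · have : ∃ N', N' ≤ X ∧ P N' ∧ N' ≠ X := by
        by_contra hc
        apply h
        intro N' h1 h2
        by_contra h3
        exact hc ⟨N', h1, h2, h3⟩
      obtain ⟨N', h1, h2, h3⟩ := this
      have hlt : finrank F N' < n := by
        rw [← hn]
        exact Submodule.finrank_lt_finrank_of_lt (lt_of_le_of_ne h1 h3)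
      obtain ⟨N, hN1, hN2, hN3⟩ := ih _ hlt N' rfl h2
      exact ⟨N, hN1.trans h1, hN2, hN3⟩

lemma exists_proj {N P : Submodule F V} (h : N ⊓ P = ⊥) :
    ∃ π : V →ₗ[F] V, (∀ x, π x ∈ N) ∧ (∀ n ∈ N, π n = n) ∧ (∀ u ∈ P, π u = 0) := by
  obtain ⟨T, hT⟩ := Submodule.exists_isCompl (N ⊔ P)
  have hc : IsCompl N (P ⊔ T) := (disjoint_iff.mpr h).isCompl_sup_right_of_isCompl_sup_left hT
  refine ⟨N.projection (P ⊔ T) hc, fun x => Submodule.projection_apply_mem hc x,
    fun n hn => Submodule.projection_apply_of_mem_left hc hn,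
    fun u hu => Submodule.projection_apply_of_mem_right hc (Submodule.mem_sup_left hu)⟩

lemma combine {ρ : Representation F G V} {N P : Submodule F V} (hNP : N ⊓ P = ⊥)
    (hN : Inv ρ N) (hP : Inv ρ P) (β A' : LinearMap.BilinForm F V)
    (hβ : FormInv ρ β N) (hβn : NondegOn β N) (hA : FormInv ρ A' P) (hAn : NondegOn A' P) :
    ∃ A : LinearMap.BilinForm F V, FormInv ρ A (N ⊔ P) ∧ NondegOn A (N ⊔ P) ∧
      ((∀ x ∈ N, β x x = 0) → (∀ x, A' x x = 0) → ∀ x, A x x = 0) ∧
      ((∀ x ∈ N, ∀ y ∈ N, β x y = β y x) → (∀ x y, A' x y = A' y x) →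
        ∀ x y, A x y = A y x) := by
  obtain ⟨π, hπ1, hπ2, hπ3⟩ := exists_proj hNP
  obtain ⟨π', hπ'1, hπ'2, hπ'3⟩ := exists_proj (show P ⊓ N = ⊥ by rw [inf_comm]; exact hNP)
  have key : ∀ n ∈ N, ∀ u ∈ P, ∀ m ∈ N, ∀ v ∈ P,
      (β.compl₁₂ π π + A'.compl₁₂ π' π') (n + u) (m + v) = β n m + A' u v := by
    intro n hn u hu m hm v hv
    have e1 : π (n + u) = n := by rw [map_add, hπ2 n hn, hπ3 u hu, add_zero]
    have e2 : π (m + v) = m := by rw [map_add, hπ2 m hm, hπ3 v hv, add_zero]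
    have e3 : π' (n + u) = u := by rw [map_add, hπ'3 n hn, hπ'2 u hu, zero_add]
    have e4 : π' (m + v) = v := by rw [map_add, hπ'3 m hm, hπ'2 v hv, zero_add]
    rw [LinearMap.add_apply, LinearMap.add_apply, LinearMap.compl₁₂_apply,
      LinearMap.compl₁₂_apply, e1, e2, e3, e4]
  refine ⟨β.compl₁₂ π π + A'.compl₁₂ π' π', ?_, ?_, ?_, ?_⟩
  · intro g x hx y hy
    obtain ⟨n, hn, u, hu, rfl⟩ := Submodule.mem_sup.mp hx
    obtain ⟨m, hm, v, hv, rfl⟩ := Submodule.mem_sup.mp hy
    rw [map_add (ρ g) n u, map_add (ρ g) m v,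
      key _ (hN g n hn) _ (hP g u hu) _ (hN g m hm) _ (hP g v hv), key n hn u hu m hm v hv,
      hβ g n hn m hm, hA g u hu v hv]
  · intro x hx hxy
    obtain ⟨n, hn, u, hu, rfl⟩ := Submodule.mem_sup.mp hx
    have hn0 : n = 0 := by
      apply hβn n hn
      intro m hm
      have h1 := hxy (m + 0) (by rw [add_zero]; exact Submodule.mem_sup_left hm)
      rw [key n hn u hu m hm 0 P.zero_mem, map_zero, add_zero] at h1
      exact h1
    have hu0 : u = 0 := by
      apply hAn u hu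
      intro v hv
      have h1 := hxy (0 + v) (by rw [zero_add]; exact Submodule.mem_sup_right hv)
      rw [key n hn u hu 0 N.zero_mem v hv, map_zero, zero_add] at h1
      exact h1
    rw [hn0, hu0, add_zero]
  · intro h1 h2 x
    rw [LinearMap.add_apply, LinearMap.add_apply, LinearMap.compl₁₂_apply,
      LinearMap.compl₁₂_apply, h1 _ (hπ1 x), h2, add_zero]
  · intro h1 h2 x y
    rw [LinearMap.add_apply, LinearMap.add_apply, LinearMap.add_apply, LinearMap.add_apply,
      LinearMap.compl₁₂_apply, LinearMap.compl₁₂_apply, LinearMap.compl₁₂_apply,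
      LinearMap.compl₁₂_apply, h1 _ (hπ1 x) _ (hπ1 y), h2 (π' x) (π' y)]

lemma disj_aux {N X' U' W' : Submodule F V} (hd : N ⊓ X' = ⊥) (hU : U' ≤ X') (hW : W' ≤ X')
    (hUW : U' ⊓ W' = ⊥) : (N ⊔ U') ⊓ W' = ⊥ := by
  rw [eq_bot_iff]
  intro x hx
  obtain ⟨n, hn, u, hu, rfl⟩ := Submodule.mem_sup.mp hx.1
  have hnX : n ∈ X' := by
    have e : n = (n + u) - u := by abel
    rw [e]
    exact X'.sub_mem (hW hx.2) (hU hu)
  have hn0 : n = 0 := by
    have : n ∈ N ⊓ X' := ⟨hn, hnX⟩
    rw [hd] at this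
    exact (Submodule.mem_bot F).mp this
  have hu0 : u = 0 := by
    have h2 := hx.2
    rw [hn0, zero_add] at h2
    have : u ∈ U' ⊓ W' := ⟨hu, h2⟩
    rw [hUW] at this
    exact (Submodule.mem_bot F).mp this
  rw [hn0, hu0, add_zero]
  exact Submodule.zero_mem _

lemma sym_of_symRad [Finite G] [NeZero (Nat.card G : F)] [FiniteDimensional F V]
    (ρ : Representation F G V) (B : LinearMap.BilinForm F V)
    (hB : ∀ g : G, ∀ x y : V, B (ρ g x) (ρ g y) = B x y) {N : Submodule F V}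
    (hN0 : N ≠ ⊥) (hNinv : Inv ρ N) (hNnd : NondegOn B N)
    (hNmin : ∀ N', N' ≤ N → (N' ≠ ⊥ ∧ Inv ρ N' ∧ NondegOn B N') → N' = N)
    (hR : symRad B N ≠ ⊥) : ∀ x ∈ N, ∀ y ∈ N, B x y = B y x := by
  obtain ⟨M, hMR, ⟨hM0, hMinv⟩, hMmin⟩ :=
    exists_min_submodule (fun M => M ≠ ⊥ ∧ Inv ρ M) _ (symRad B N) rfl
      ⟨hR, symRad_inv hB hNinv⟩
  have hMN : M ≤ N := fun x hx => (hMR hx).1
  have hMsym : ∀ m ∈ M, ∀ n ∈ N, B m n = B n m := fun m hm n hn => (hMR hm).2 n hn
  by_cases hMk : lRad B M M = ⊥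
  · have hMnd : NondegOn B M := by
      intro x hx hxy
      have : x ∈ lRad B M M := ⟨hx, hxy⟩
      rw [hMk] at this
      exact (Submodule.mem_bot F).mp this
    have hMeq : M = N := hNmin M hMN ⟨hM0, hMinv, hMnd⟩
    intro x hx y hy
    rw [← hMeq] at hx
    exact hMsym x hx y hy
  · have hMkM : lRad B M M = M :=
      hMmin _ (lRad_le _ _ _) ⟨hMk, lRad_inv hB hMinv hMinv⟩
    have hMM : ∀ m ∈ M, ∀ m' ∈ M, B m m' = 0 := by
      intro m hm m' hm'
      have : m ∈ lRad B M M := by rw [hMkM]; exact hm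
      exact this.2 m' hm'
    have hMpinv : Inv ρ (lRad (LinearMap.flip B) N M) := lRad_inv (flip_inv hB) hNinv hMinv
    obtain ⟨C, hCinv, hCN, hC1, hC2⟩ := exists_rel_compl ρ hMpinv hNinv (lRad_le _ _ _)
    have hCa : ∀ c ∈ C, (∀ m ∈ M, B m c = 0) → c = 0 := by
      intro c hc h
      have : c ∈ lRad (LinearMap.flip B) N M ⊓ C :=
        ⟨⟨hCN hc, fun m hm => by rw [LinearMap.flip_apply]; exact h m hm⟩, hc⟩
      rw [hC1] at this
      exact (Submodule.mem_bot F).mp this
    have hMb : ∀ m ∈ M, (∀ c ∈ C, B m c = 0) → m = 0 := by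
      intro m hm h
      apply hNnd m (hMN hm)
      intro y hy
      have hy' : y ∈ lRad (LinearMap.flip B) N M ⊔ C := by rw [hC2]; exact hy
      obtain ⟨a, ha, c, hc, rfl⟩ := Submodule.mem_sup.mp hy'
      have h1 := ha.2 m hm
      rw [LinearMap.flip_apply] at h1
      rw [map_add, h1, h c hc, add_zero]
    have hC0 : C ≠ ⊥ := by
      intro hC
      apply hM0
      rw [eq_bot_iff]
      intro m hm
      have : m = 0 := hMb m hm (fun c hc => by
        rw [hC] at hc
        rw [(Submodule.mem_bot F).mp hc, map_zero])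
      rw [this]; exact Submodule.zero_mem _
    obtain ⟨C', hC'C, ⟨hC'0, hC'inv⟩, hC'min⟩ :=
      exists_min_submodule (fun M => M ≠ ⊥ ∧ Inv ρ M) _ C rfl ⟨hC0, hCinv⟩
    have hC'N : C' ≤ N := hC'C.trans hCN
    have hCC : ∀ c ∈ C', ∀ c' ∈ C', B c c' = 0 := by
      by_cases hCk : lRad B C' C' = ⊥
      · exfalso
        have hC'nd : NondegOn B C' := by
          intro x hx hxy
          have : x ∈ lRad B C' C' := ⟨hx, hxy⟩
          rw [hCk] at this
          exact (Submodule.mem_bot F).mp this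
        have hC'eq : C' = N := hNmin C' hC'N ⟨hC'0, hC'inv, hC'nd⟩
        apply hM0
        rw [eq_bot_iff]
        intro m hm
        have hmC : m ∈ C := hC'C (by rw [hC'eq]; exact hMN hm)
        have : m = 0 := hCa m hmC (fun m' hm' => hMM m' hm' m hm)
        rw [this]; exact Submodule.zero_mem _
      · have hCkC : lRad B C' C' = C' :=
          hC'min _ (lRad_le _ _ _) ⟨hCk, lRad_inv hB hC'inv hC'inv⟩
        intro c hc c' hc'
        have : c ∈ lRad B C' C' := by rw [hCkC]; exact hc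
        exact this.2 c' hc'
    have hM' : lRad B M C' = ⊥ := by
      by_contra hne
      have hM'M : lRad B M C' = M :=
        hMmin _ (lRad_le _ _ _) ⟨hne, lRad_inv hB hMinv hC'inv⟩
      apply hC'0
      rw [eq_bot_iff]
      intro c hc
      have : c = 0 := hCa c (hC'C hc) (fun m hm => by
        have : m ∈ lRad B M C' := by rw [hM'M]; exact hm
        exact this.2 c hc)
      rw [this]; exact Submodule.zero_mem _
    have hsnd : NondegOn B (M ⊔ C') := by
      intro x hx hxy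
      obtain ⟨m, hm, c, hc, rfl⟩ := Submodule.mem_sup.mp hx
      have hc0 : c = 0 := by
        apply hCa c (hC'C hc)
        intro m' hm'
        have h1 := hxy m' (Submodule.mem_sup_left hm')
        rw [map_add, LinearMap.add_apply, hMM m hm m' hm', zero_add] at h1
        rw [hMsym m' hm' c (hC'N hc)]
        exact h1
      have hm0 : m = 0 := by
        have : m ∈ lRad B M C' := by
          refine ⟨hm, fun c' hc' => ?_⟩
          have h1 := hxy c' (Submodule.mem_sup_right hc')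
          rw [hc0, add_zero] at h1
          exact h1
        rw [hM'] at this
        exact (Submodule.mem_bot F).mp this
      rw [hm0, hc0, add_zero]
    have hsup : M ⊔ C' = N := hNmin _ (sup_le hMN hC'N)
      ⟨fun h => hM0 (eq_bot_iff.mpr (h ▸ le_sup_left)), inv_sup hMinv hC'inv, hsnd⟩
    intro x hx y hy
    rw [← hsup] at hx hy
    obtain ⟨m, hm, c, hc, rfl⟩ := Submodule.mem_sup.mp hx
    obtain ⟨m', hm', c', hc', rfl⟩ := Submodule.mem_sup.mp hy
    simp only [map_add, LinearMap.add_apply]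
    rw [hMM m hm m' hm', hMM m' hm' m hm, hCC c hc c' hc', hCC c' hc' c hc,
      hMsym m hm c' (hC'N hc'), hMsym m' hm' c (hC'N hc)]
    ring

lemma min_type [Finite G] [NeZero (Nat.card G : F)] [FiniteDimensional F V]
    (ρ : Representation F G V) (B : LinearMap.BilinForm F V)
    (hB : ∀ g : G, ∀ x y : V, B (ρ g x) (ρ g y) = B x y) {N : Submodule F V}
    (hN0 : N ≠ ⊥) (hNinv : Inv ρ N) (hNnd : NondegOn B N)
    (hNmin : ∀ N', N' ≤ N → (N' ≠ ⊥ ∧ Inv ρ N' ∧ NondegOn B N') → N' = N) :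
    (∃ β : LinearMap.BilinForm F V, (∀ x ∈ N, β x x = 0) ∧ FormInv ρ β N ∧ NondegOn β N) ∨
    (∃ β : LinearMap.BilinForm F V, (∀ x ∈ N, ∀ y ∈ N, β x y = β y x) ∧ FormInv ρ β N ∧
      NondegOn β N ∧ ((2 : F) = 0 → ∀ g : G, ∀ x ∈ N, ρ g x = x)) := by
  have hBinvN : FormInv ρ B N := fun g x _ y _ => hB g x y
  by_cases hR : symRad B N = ⊥
  · left
    refine ⟨B - (LinearMap.flip B), ?_, ?_, ?_⟩
    · intro x _
      rw [LinearMap.sub_apply, LinearMap.sub_apply, LinearMap.flip_apply, sub_self]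
    · intro g x _ y _
      rw [LinearMap.sub_apply, LinearMap.sub_apply, LinearMap.sub_apply, LinearMap.sub_apply,
        LinearMap.flip_apply, LinearMap.flip_apply, hB, hB]
    · intro x hx hxy
      have : x ∈ symRad B N := by
        refine ⟨hx, fun y hy => ?_⟩
        have h1 := hxy y hy
        rw [LinearMap.sub_apply, LinearMap.sub_apply, LinearMap.flip_apply, sub_eq_zero] at h1
        exact h1
      rw [hR] at this
      exact (Submodule.mem_bot F).mp this
  · have hsym := sym_of_symRad ρ B hB hN0 hNinv hNnd hNmin hR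
    by_cases h2 : (2 : F) = 0
    · by_cases hK : isoRad B N h2 hsym = N
      · left
        refine ⟨B, ?_, hBinvN, hNnd⟩
        intro x hx
        have : x ∈ isoRad B N h2 hsym := by rw [hK]; exact hx
        exact this.2
      · right
        have hKinv : Inv ρ (isoRad B N h2 hsym) := by
          intro g x hx
          exact ⟨hNinv g x hx.1, by rw [hB]; exact hx.2⟩
        obtain ⟨L, hLinv, hLN, hL1, hL2⟩ :=
          exists_rel_compl ρ hKinv hNinv (fun x hx => hx.1)
        have hL0 : L ≠ ⊥ := by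
          intro h
          apply hK
          have h3 := hL2
          rw [h, sup_bot_eq] at h3
          exact h3
        have hLan : ∀ x ∈ L, B x x = 0 → x = 0 := by
          intro x hx h
          have : x ∈ isoRad B N h2 hsym ⊓ L := ⟨⟨hLN hx, h⟩, hx⟩
          rw [hL1] at this
          exact (Submodule.mem_bot F).mp this
        have hLnd : NondegOn B L := fun x hx h => hLan x hx (h x hx)
        have hLeq : L = N := hNmin L hLN ⟨hL0, hLinv, hLnd⟩
        have hNan : ∀ x ∈ N, B x x = 0 → x = 0 := by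
          intro x hx
          rw [← hLeq] at hx
          exact hLan x hx
        refine ⟨B, hsym, hBinvN, hNnd, fun _ g x hx => ?_⟩
        have hy : ρ g x - x ∈ N := N.sub_mem (hNinv g x hx) hx
        have : ρ g x - x = 0 := by
          apply hNan _ hy
          have e : B (ρ g x - x) (ρ g x - x) =
              B (ρ g x) (ρ g x) + B x x - (B (ρ g x) x + B x (ρ g x)) := by
            simp only [map_sub, LinearMap.sub_apply]; ring
          rw [e, hB, hsym x hx (ρ g x) (hNinv g x hx), ← two_mul, ← two_mul, h2]; ring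
        exact sub_eq_zero.mp this
    · right
      exact ⟨B, hsym, hBinvN, hNnd, fun h => absurd h h2⟩

lemma main_decomp [Finite G] [NeZero (Nat.card G : F)] [FiniteDimensional F V]
    (ρ : Representation F G V) (B : LinearMap.BilinForm F V)
    (hB : ∀ g : G, ∀ x y : V, B (ρ g x) (ρ g y) = B x y) :
    ∀ (n : ℕ) (X : Submodule F V), finrank F X = n → Inv ρ X → NondegOn B X →
      ∃ U W : Submodule F V, U ⊓ W = ⊥ ∧ U ⊔ W = X ∧ Inv ρ U ∧ Inv ρ W ∧
        (∃ A : LinearMap.BilinForm F V, (∀ x, A x x = 0) ∧ FormInv ρ A U ∧ NondegOn A U) ∧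
        (∃ S : LinearMap.BilinForm F V, (∀ x y, S x y = S y x) ∧ FormInv ρ S W ∧
          NondegOn S W) ∧
        ((2 : F) = 0 → ∀ g : G, ∀ w ∈ W, ρ g w = w) := by
  intro n
  induction n using Nat.strong_induction_on with
  | _ n ih =>
    intro X hn hX hXnd
    by_cases hX0 : X = ⊥
    · have hb : ∀ x : V, x ∈ (⊥ : Submodule F V) → x = 0 := fun x hx =>
        (Submodule.mem_bot F).mp hx
      have hbinv : Inv ρ (⊥ : Submodule F V) := by
        intro g x hx
        rw [hb x hx, map_zero]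
        exact Submodule.zero_mem _
      refine ⟨⊥, ⊥, bot_inf_eq _, by rw [hX0, bot_sup_eq], hbinv, hbinv,
        ⟨0, fun x => rfl, ?_, fun x hx _ => hb x hx⟩,
        ⟨0, fun x y => rfl, ?_, fun x hx _ => hb x hx⟩, fun _ g w hw => ?_⟩
      · intro g x _ y _
        rfl
      · intro g x _ y _
        rfl
      · rw [hb w hw, map_zero]
    · obtain ⟨N, hNX, ⟨hN0, hNinv, hNnd⟩, hNmin⟩ :=
        exists_min_submodule (fun N => N ≠ ⊥ ∧ Inv ρ N ∧ NondegOn B N) _ X rfl
          ⟨hX0, hX, hXnd⟩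
      obtain ⟨X', hX'X, hX'inv, hX'nd, hd, hs⟩ := perp_split hB hX hXnd hNinv hNnd hNX
      have hlt : finrank F X' < n := by
        have h1 := Submodule.finrank_sup_add_finrank_inf_eq N X'
        rw [hs, hd, finrank_bot, add_zero, hn] at h1
        have h2 : 0 < finrank F N := by
          rw [Module.finrank_pos_iff]
          exact Submodule.nontrivial_iff_ne_bot.mpr hN0
        omega
      obtain ⟨U', W', hUW1, hUW2, hU'inv, hW'inv, ⟨A', hA1, hA2, hA3⟩, ⟨S', hS1, hS2, hS3⟩,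
        htriv⟩ := ih _ hlt X' rfl hX'inv hX'nd
      have hU'X' : U' ≤ X' := hUW2 ▸ le_sup_left
      have hW'X' : W' ≤ X' := hUW2 ▸ le_sup_right
      rcases min_type ρ B hB hN0 hNinv hNnd hNmin with
        ⟨β, hβ1, hβ2, hβ3⟩ | ⟨β, hβ1, hβ2, hβ3, hβ4⟩
      · have hNU' : N ⊓ U' = ⊥ := eq_bot_iff.mpr (hd ▸ inf_le_inf_left N hU'X')
        obtain ⟨A, hAinv, hAnd, hAalt, _⟩ :=
          combine hNU' hNinv hU'inv β A' hβ2 hβ3 hA2 hA3
        refine ⟨N ⊔ U', W', disj_aux hd hU'X' hW'X' hUW1, ?_, inv_sup hNinv hU'inv, hW'inv,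
          ⟨A, hAalt hβ1 hA1, hAinv, hAnd⟩, ⟨S', hS1, hS2, hS3⟩, htriv⟩
        rw [sup_assoc, hUW2, hs]
      · have hNW' : N ⊓ W' = ⊥ := eq_bot_iff.mpr (hd ▸ inf_le_inf_left N hW'X')
        obtain ⟨S, hSinv, hSnd, _, hSsym⟩ :=
          combine hNW' hNinv hW'inv β S' hβ2 hβ3 hS2 hS3
        refine ⟨U', N ⊔ W', ?_, ?_, hU'inv, inv_sup hNinv hW'inv,
          ⟨A', hA1, hA2, hA3⟩, ⟨S, hSsym hβ1 hS1, hSinv, hSnd⟩, ?_⟩
        · rw [inf_comm]
          exact disj_aux hd hW'X' hU'X' (by rw [inf_comm]; exact hUW1)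
        · rw [sup_left_comm, hUW2, hs]
        · intro h2 g w hw
          obtain ⟨a, ha, c, hc, rfl⟩ := Submodule.mem_sup.mp hw
          rw [map_add, hβ4 h2 g a ha, htriv h2 g c hc]

end

/-- Let F be a finite field of characteristic p, G a finite group of order prime to p, and V a finite-dimensional representation of G over F carrying a nondegenerate G-invariant bilinear form (equivalently, V is self-dual). Then V is the direct sum of two G-invariant subspaces U and W such that U carries a G-invariant alternating bilinear form that is nondegenerate on U and W carries a G-invariant symmetric bilinear form that is nondegenerate on W; moreover when p = 2 the decomposition can be chosen with G acting trivially on W. -/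
theorem result {F : Type*} [Field F] [Fintype F] (p : ℕ) [Fact p.Prime] [CharP F p] {G : Type*} [Group G] [Finite G] (hcop : ¬ p ∣ Nat.card G) {V : Type*} [AddCommGroup V] [Module F V] [FiniteDimensional F V] (ρ : Representation F G V) (B : LinearMap.BilinForm F V) (hB : B.Nondegenerate) (hBinv : ∀ g : G, ∀ x y : V, B (ρ g x) (ρ g y) = B x y) : ∃ U W : Submodule F V, IsCompl U W ∧ (∀ g : G, ∀ u ∈ U, ρ g u ∈ U) ∧ (∀ g : G, ∀ w ∈ W, ρ g w ∈ W) ∧ (∃ A : LinearMap.BilinForm F V, (∀ x : V, A x x = 0) ∧ (∀ g : G, ∀ x ∈ U, ∀ y ∈ U, A (ρ g x) (ρ g y) = A x y) ∧ (∀ x ∈ U, (∀ y ∈ U, A x y = 0) → x = 0)) ∧ (∃ S : LinearMap.BilinForm F V, (∀ x y : V, S x y = S y x) ∧ (∀ g : G, ∀ x ∈ W, ∀ y ∈ W, S (ρ g x) (ρ g y) = S x y) ∧ (∀ x ∈ W, (∀ y ∈ W, S x y = 0) → x = 0)) ∧ (p = 2 → ∀ g : G, ∀ w ∈ W, ρ g w = w) := by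
  haveI : NeZero (Nat.card G : F) := ⟨by
    intro h
    exact hcop ((CharP.cast_eq_zero_iff F p _).mp h)⟩
  have hnd : NondegOn B ⊤ := fun x _ h => hB.1 x (fun y => h y Submodule.mem_top)
  obtain ⟨U, W, h1, h2, hU, hW, hA, hS, ht⟩ :=
    main_decomp ρ B hBinv _ ⊤ rfl (fun g x _ => Submodule.mem_top) hnd
  refine ⟨U, W, ⟨disjoint_iff.mpr h1, codisjoint_iff.mpr h2⟩, hU, hW, hA, hS, ?_⟩
  intro hp
  apply ht
  have h0 := CharP.cast_eq_zero F p
  rw [hp] at h0
  exact_mod_cast h0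

end Cfsg.Agent.S4966
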