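import Cfsg.Statements.S4989
import Mathlib
import Cfsg.Agent.Lib_helper1_GaloisSum
import Cfsg.Agent.Lib_helper24_CharOrth

set_option autoImplicit false
set_option linter.style.haveILetI false
set_option linter.unusedVariables false
open Cfsg

namespace Cfsg.Agent.S4989

/-- Let H be a subgroup of the finite group G and χ an irreducible complex character of G. Then the inner product of the restriction of χ to H with itself, (1/#H)·Σ_{h ∈ H} |χ(h)|², is at most 1 + #(Z ∖ H)/#H, where Z is the set of zeros of χ in G. -/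
theorem result {G : Type*} [Group G] [Finite G] (H : Subgroup G) (χ : Cfsg.IrrCharacter G) : (Nat.card ↥H : ℝ)⁻¹ * ∑ᶠ h : ↥H, ‖(χ : G → ℂ) h‖ ^ 2 ≤ 1 + (Set.ncard ({x : G | (χ : G → ℂ) x = 0} \ (H : Set G)) : ℝ) / (Nat.card ↥H : ℝ) := by
  classical
  obtain ⟨χ, n, ρ, hρ, rfl⟩ := χ
  haveI : Fintype G := Fintype.ofFinite G
  show (Nat.card ↥H : ℝ)⁻¹ * ∑ᶠ h : ↥H, ‖ρ.character h‖ ^ 2 ≤
    1 + (Set.ncard ({x : G | ρ.character x = 0} \ (H : Set G)) : ℝ) / (Nat.card ↥H : ℝ)
  have hN : Nat.card G ≠ 0 := helper1.card_ne_zero'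
  -- the three pieces
  set A : Finset G := Finset.univ.filter (fun g => g ∈ H) with hA
  set S : Finset G := Finset.univ.filter (fun g => g ∉ H ∧ ρ.character g ≠ 0) with hSdef
  set Z : Finset G := Finset.univ.filter (fun g => g ∉ H ∧ ρ.character g = 0) with hZ
  have hS : ∀ (σ : helper1.cycField (Nat.card G) →ₐ[ℚ] ℂ) (g : G),
      g ∈ S ↔ g ^ helper1.galExp (Nat.card G) helper1.card_ne_zero' σ ∈ S := by
    intro σ g
    simp only [hSdef, Finset.mem_filter, Finset.mem_univ, true_and, ne_eq]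
    rw [helper1.pow_mem_iff_of_coprime H _ (helper1.galExp_coprime _ _ σ) g,
      helper1.char_pow_galExp_eq_zero_iff σ ρ g]
  have hne : ∀ g ∈ S, ρ.character g ≠ 0 := by
    intro g hg
    simp only [hSdef, Finset.mem_filter] at hg
    exact hg.2.2
  have hkey := helper1.card_le_sum_normSq ρ S hS hne
  -- orthogonality
  have hirr : IsIrrCharacter G ρ.character := ⟨n, ρ, hρ, rfl⟩
  have horth := helper24.irr_classInner_self hirr
  unfold classInner at horth
  have hcardC : (Nat.card G : ℂ) ≠ 0 := by exact_mod_cast hN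
  have hsum : ∑ g : G, ‖ρ.character g‖ ^ 2 = (Nat.card G : ℝ) := by
    have h2 : ∑ g : G, ρ.character g * (starRingEnd ℂ) (ρ.character g) = (Nat.card G : ℂ) := by
      field_simp at horth
      exact horth
    have h3 : ((∑ g : G, ‖ρ.character g‖ ^ 2 : ℝ) : ℂ) = (Nat.card G : ℂ) := by
      rw [← h2]
      push_cast
      refine Finset.sum_congr rfl fun g _ => ?_
      rw [Complex.mul_conj, Complex.normSq_eq_norm_sq]
      push_cast
      rfl
    exact_mod_cast h3
  -- decomposition of the sum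
  have hsplit1 : ∑ g : G, ‖ρ.character g‖ ^ 2 =
      ∑ g ∈ A, ‖ρ.character g‖ ^ 2 + ∑ g ∈ Finset.univ.filter (fun g => g ∉ H), ‖ρ.character g‖ ^ 2 :=
    (Finset.sum_filter_add_sum_filter_not Finset.univ (fun g => g ∈ H) _).symm
  have hsplit2 : ∑ g ∈ Finset.univ.filter (fun g => g ∉ H), ‖ρ.character g‖ ^ 2 =
      ∑ g ∈ S, ‖ρ.character g‖ ^ 2 := by
    rw [hSdef, ← Finset.filter_filter]
    rw [Finset.sum_filter (s := Finset.univ.filter (fun g => g ∉ H)) (fun g => ρ.character g ≠ 0)]
    refine Finset.sum_congr rfl fun g _ => ?_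
    split_ifs with h
    · rfl
    · push Not at h
      rw [h]; simp
  have hcard1 : (Finset.univ : Finset G).card = A.card + (Finset.univ.filter (fun g => g ∉ H)).card :=
    (Finset.card_filter_add_card_filter_not (s := Finset.univ) (fun g => g ∈ H)).symm
  have hcard2 : (Finset.univ.filter (fun g : G => g ∉ H)).card = S.card + Z.card := by
    rw [hSdef, hZ, ← Finset.filter_filter, ← Finset.filter_filter]
    have := Finset.card_filter_add_card_filter_not (s := Finset.univ.filter (fun g : G => g ∉ H))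
      (fun g => ρ.character g ≠ 0)
    rw [← this]
    congr 2
    ext g
    simp
  have hAcard : Nat.card ↥H = A.card := by
    rw [Nat.card_eq_fintype_card, Fintype.card_subtype]
  have hZcard : Set.ncard ({x : G | ρ.character x = 0} \ (H : Set G)) = Z.card := by
    rw [Set.ncard_eq_toFinset_card']
    congr 1
    ext g
    simp [hZ, and_comm]
  have hfin : ∑ᶠ h : ↥H, ‖ρ.character h‖ ^ 2 = ∑ g ∈ A, ‖ρ.character g‖ ^ 2 := by
    rw [finsum_eq_sum_of_fintype]
    exact (Finset.sum_subtype A (by simp [hA]) (fun g => ‖ρ.character g‖ ^ 2)).symm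
  rw [hfin, hZcard, hAcard]
  have hGcard : (Nat.card G : ℝ) = (A.card : ℝ) + (S.card : ℝ) + (Z.card : ℝ) := by
    rw [Nat.card_eq_fintype_card, ← Finset.card_univ, hcard1, hcard2]
    push_cast
    ring
  have hApos : (0 : ℝ) < A.card := by
    rw [← hAcard]
    exact_mod_cast Nat.card_pos
  have hfinal : ∑ g ∈ A, ‖ρ.character g‖ ^ 2 ≤ (A.card : ℝ) + Z.card := by
    rw [hsplit1, hsplit2] at hsum
    linarith
  rw [inv_mul_le_iff₀ hApos]
  have : (A.card : ℝ) * (1 + (Z.card : ℝ) / (A.card : ℝ)) = (A.card : ℝ) + Z.card := by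
    field_simp
  rw [this]
  exact hfinal

end Cfsg.Agent.S4989
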