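import Cfsg.Statements.S4996
import Mathlib
import Cfsg.Agent.Lib_helper1_GaloisSum2
import Cfsg.Agent.Lib_helper1_AvgChar
import Cfsg.Agent.Lib_helper1_ProdChar
import Cfsg.Agent.Lib_helper1_ConjChar
import Cfsg.Agent.Lib_helper12_CharOps
import Cfsg.Agent.Lib_helper24_Char

set_option autoImplicit false
set_option linter.style.haveILetI false
set_option linter.unusedVariables false
open Cfsg

namespace Cfsg.Agent.S4996

/-- Let N be a normal subgroup of the finite group G and χ an irreducible complex character of G. Then the restriction of χ to N is not irreducible if and only if χ vanishes on some whole coset Nx of N in G. -/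
theorem result {G : Type*} [Group G] [Finite G] (N : Subgroup G) [N.Normal] (χ : Cfsg.IrrCharacter G) : ¬ Cfsg.IsIrrCharacter ↥N (fun n : ↥N => (χ : G → ℂ) n) ↔ ∃ x : G, ∀ n : ↥N, (χ : G → ℂ) ((n : G) * x) = 0 := by
  classical
  haveI : Fintype G := Fintype.ofFinite G
  haveI : Fintype N := Fintype.ofFinite N
  obtain ⟨χ, hχirr⟩ := χ
  show ¬ IsIrrCharacter ↥N (fun n : ↥N => χ n) ↔ ∃ x : G, ∀ n : ↥N, χ ((n : G) * x) = 0
  have hχc : IsCharacter G χ := helper24.irr_isCharacter hχirr
  -- the averaged character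
  set φ : G → ℂ := fun g => χ g * (starRingEnd ℂ) (χ g) with hφdef
  have hφ : IsCharacter G φ := helper1.isCharacter_mul hχc (helper1.isCharacter_conj hχc)
  set η : G → ℂ := fun g => (Nat.card N : ℂ)⁻¹ * ∑ᶠ n : N, φ (g * (n : G)) with hηdef
  have hη : IsCharacter G η := helper1.isCharacter_avg N hφ
  set r : G → ℝ := fun g => (Nat.card N : ℝ)⁻¹ * ∑ n : N, ‖χ (g * (n : G))‖ ^ 2 with hrdef
  have hNpos : (0 : ℝ) < Nat.card N := by exact_mod_cast Nat.card_pos
  have hφr : ∀ g, φ g = ((‖χ g‖ ^ 2 : ℝ) : ℂ) := by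
    intro g
    simp only [hφdef]
    rw [Complex.mul_conj, Complex.normSq_eq_norm_sq]
  have hηr : ∀ g, η g = ((r g : ℝ) : ℂ) := by
    intro g
    simp only [hηdef, hrdef]
    rw [finsum_eq_sum_of_fintype]
    push_cast
    congr 1
    refine Finset.sum_congr rfl fun n _ => ?_
    rw [hφr]; push_cast; rfl
  have hr0 : ∀ g, 0 ≤ r g := fun g => by
    simp only [hrdef]; positivity
  have hrzero : ∀ g, r g = 0 ↔ ∀ n : N, χ (g * (n : G)) = 0 := by
    intro g
    simp only [hrdef]
    rw [mul_eq_zero, or_iff_right (inv_ne_zero hNpos.ne'),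
      Finset.sum_eq_zero_iff_of_nonneg (fun n _ => by positivity)]
    constructor
    · intro h n
      have := h n (Finset.mem_univ n)
      simpa using this
    · intro h n _
      rw [h n]; simp
  have hcoset : ∀ x : G, (∀ n : N, χ ((n : G) * x) = 0) ↔ ∀ n : N, χ (x * (n : G)) = 0 := by
    intro x
    constructor
    · intro h n
      have hm : x * (n : G) * x⁻¹ ∈ N := ‹N.Normal›.conj_mem n n.2 x
      have := h ⟨_, hm⟩
      simpa using this
    · intro h n
      have hm : x⁻¹ * (n : G) * x ∈ N := by
        have := ‹N.Normal›.conj_mem n n.2 x⁻¹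
        simpa using this
      have := h ⟨_, hm⟩
      simpa [mul_assoc] using this
  -- r is constant on N
  have hrN : ∀ g ∈ N, r g = r 1 := by
    intro g hg
    simp only [hrdef]
    congr 1
    refine Fintype.sum_equiv (Equiv.mulLeft (⟨g, hg⟩ : N)) _ _ ?_
    intro n
    simp
  -- r 1 is the norm of the restriction
  have hr1 : classInner (fun n : N => χ n) (fun n : N => χ n) = ((r 1 : ℝ) : ℂ) := by
    unfold classInner
    simp only [hrdef]
    push_cast
    congr 1
    refine Finset.sum_congr rfl fun n _ => ?_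
    rw [one_mul, Complex.mul_conj, Complex.normSq_eq_norm_sq]
    push_cast; rfl
  -- total sum
  have hsumχ : ∑ g : G, ‖χ g‖ ^ 2 = (Nat.card G : ℝ) := by
    have horth := helper24.irr_classInner_self hχirr
    unfold classInner at horth
    have hcardC : (Nat.card G : ℂ) ≠ 0 := by
      have : 0 < Nat.card G := Nat.card_pos
      exact_mod_cast this.ne'
    have h2 : ∑ g : G, χ g * (starRingEnd ℂ) (χ g) = (Nat.card G : ℂ) := by
      field_simp at horth
      exact horth
    have h3 : ((∑ g : G, ‖χ g‖ ^ 2 : ℝ) : ℂ) = (Nat.card G : ℂ) := by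
      rw [← h2]
      push_cast
      refine Finset.sum_congr rfl fun g _ => ?_
      rw [Complex.mul_conj, Complex.normSq_eq_norm_sq]
      push_cast
      rfl
    exact_mod_cast h3
  have hsumr : ∑ g : G, r g = (Nat.card G : ℝ) := by
    simp only [hrdef]
    rw [← Finset.mul_sum, Finset.sum_comm]
    have : ∀ n : N, ∑ g : G, ‖χ (g * (n : G))‖ ^ 2 = (Nat.card G : ℝ) := by
      intro n
      rw [← hsumχ]
      exact Fintype.sum_equiv (Equiv.mulRight (n : G)) _ _ (fun g => rfl)
    rw [Finset.sum_congr rfl (fun n _ => this n), Finset.sum_const, Finset.card_univ,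
      ← Nat.card_eq_fintype_card, nsmul_eq_mul, ← mul_assoc, inv_mul_cancel₀ hNpos.ne', one_mul]
  obtain ⟨m, τ, hτ⟩ := hη
  constructor
  · -- reducible ⇒ vanishing coset
    intro hred
    by_contra hno
    push Not at hno
    have hrne : ∀ g, r g ≠ 0 := by
      intro g h0
      obtain ⟨n, hn⟩ := hno g
      exact hn (((hcoset g).mpr ((hrzero g).mp h0)) n)
    have hτne : ∀ g, τ.character g ≠ 0 := by
      intro g
      rw [hτ, hηr]
      exact_mod_cast hrne g
    set S : Finset G := Finset.univ.filter (fun g => g ∉ N) with hSdef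
    have hS : ∀ (σ : helper1.cycField (Nat.card G) →ₐ[ℚ] ℂ) (g : G),
        g ∈ S ↔ g ^ helper1.galExp (Nat.card G) helper1.card_ne_zero' σ ∈ S := by
      intro σ g
      simp only [hSdef, Finset.mem_filter, Finset.mem_univ, true_and]
      rw [helper1.pow_mem_iff_of_coprime N _ (helper1.galExp_coprime _ _ σ) g]
    have hkey := helper1.card_le_sum_norm τ S hS (fun g _ => hτne g)
    have hnorm : ∀ g, ‖τ.character g‖ = r g := by
      intro g
      rw [hτ, hηr, Complex.norm_real, Real.norm_eq_abs, abs_of_nonneg (hr0 g)]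
    rw [Finset.sum_congr rfl (fun g _ => hnorm g)] at hkey
    have hsplit : ∑ g : G, r g = ∑ g ∈ Finset.univ.filter (fun g => g ∈ N), r g + ∑ g ∈ S, r g :=
      (Finset.sum_filter_add_sum_filter_not Finset.univ (fun g => g ∈ N) _).symm
    have hNsum : ∑ g ∈ Finset.univ.filter (fun g => g ∈ N), r g =
        ((Finset.univ.filter (fun g : G => g ∈ N)).card : ℝ) * r 1 := by
      rw [Finset.sum_congr rfl (fun g hg => hrN g (Finset.mem_filter.mp hg).2), Finset.sum_const,
        nsmul_eq_mul]
    have hcard : (Finset.univ : Finset G).card =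
        (Finset.univ.filter (fun g : G => g ∈ N)).card + S.card :=
      (Finset.card_filter_add_card_filter_not (s := Finset.univ) (fun g : G => g ∈ N)).symm
    have hNc : (0 : ℝ) < ((Finset.univ.filter (fun g : G => g ∈ N)).card : ℝ) := by
      have : (Finset.univ.filter (fun g : G => g ∈ N)).Nonempty := ⟨1, by simp [N.one_mem]⟩
      exact_mod_cast this.card_pos
    have hGc : (Nat.card G : ℝ) = ((Finset.univ.filter (fun g : G => g ∈ N)).card : ℝ) + S.card := by
      rw [Nat.card_eq_fintype_card, ← Finset.card_univ, hcard]; push_cast; ring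
    have hr1le : r 1 ≤ 1 := by
      rw [hsplit, hNsum, hGc] at hsumr
      by_contra hgt
      push Not at hgt
      have : ((Finset.univ.filter (fun g : G => g ∈ N)).card : ℝ) * 1
          < ((Finset.univ.filter (fun g : G => g ∈ N)).card : ℝ) * r 1 :=
        mul_lt_mul_of_pos_left hgt hNc
      linarith
    have hχN : IsCharacter N (fun n : N => χ n) := helper12.isCharacter_restrict N hχc
    obtain ⟨k, hk⟩ := helper12.classInner_char_nat hχN hχN
    have hk' : (r 1 : ℝ) = k := by
      rw [hr1] at hk
      exact_mod_cast hk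
    have hr1pos : 0 < r 1 := lt_of_le_of_ne (hr0 1) (Ne.symm (hrne 1))
    have hk1 : k = 1 := by
      have h1 : (k : ℝ) ≤ 1 := hk' ▸ hr1le
      have h2 : (0 : ℝ) < k := hk' ▸ hr1pos
      have h1' : k ≤ 1 := by exact_mod_cast h1
      have h2' : 0 < k := by exact_mod_cast h2
      omega
    apply hred
    apply helper12.isIrrCharacter_of_classInner_self hχN
    rw [hk, hk1]; simp
  · -- vanishing coset ⇒ reducible
    rintro ⟨x, hx⟩ hirrN
    have h1 := helper24.irr_classInner_self hirrN
    rw [hr1] at h1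
    have hr1 : r 1 = 1 := by exact_mod_cast h1
    have hm : m = 1 := by
      have h2 : τ.character 1 = (m : ℂ) := by
        rw [Representation.char_one]; simp
      rw [hτ, hηr, hr1] at h2
      have : ((1 : ℕ) : ℂ) = (m : ℂ) := by simpa using h2
      exact_mod_cast this.symm
    subst hm
    obtain ⟨s, hs1, hs2, hs3⟩ := helper24.rep_char_eq_sum_roots τ x
    obtain ⟨μ, rfl⟩ := Multiset.card_eq_one.mp hs1
    have hμ : μ ^ orderOf x = 1 := hs2 μ (by simp)
    have hx0 : r x = 0 := (hrzero x).mpr ((hcoset x).mp hx)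
    rw [hτ, hηr, hx0] at hs3
    simp at hs3
    rw [← hs3] at hμ
    have hpos : 0 < orderOf x := orderOf_pos x
    simp [zero_pow hpos.ne'] at hμ

end Cfsg.Agent.S4996
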