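import Cfsg.Statements.S5001
import Cfsg.Agent.S4669
import Cfsg.Agent.Lib_helper8_Ind
import Cfsg.Agent.Lib_helper12_CharOps
import Cfsg.Agent.Lib_helper12_McKay1
import Cfsg.Agent.Lib_helper23_LinChar
import Cfsg.Agent.Lib_helper23_Central
import Cfsg.Agent.Lib_helper24_DefectValues

set_option autoImplicit false
open Cfsg

namespace Cfsg.Agent.S5001

open Cfsg.Agent.helper24
open scoped ComplexConjugate

universe u

set_option linter.style.haveILetI false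
set_option linter.unusedVariables false
set_option linter.unusedSectionVars false

theorem natInt (n : ℕ) : IsIntegral ℤ (n : ℂ) := by
  have := isIntegral_algebraMap (R := ℤ) (A := ℂ) (x := (n : ℤ))
  simpa using this

theorem lin_constituent {Γ : Type u} [Group Γ] [Fintype Γ] (p : ℕ) [Fact p.Prime]
    (M : Ideal AlgInt) (hM : IsPModular p M)
    {ψ : Γ → ℂ} (hψ : IsCharacter Γ ψ) (c₀ : Γ) (hc₀ : c₀ ∈ Subgroup.center Γ)
    (N : Subgroup Γ) [N.Normal] (hN : ∀ a ∈ N, ∀ b ∈ N, a * b = b * a) (k : ℕ)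
    (hk : N.index = p ^ k) (hnot : ¬ MemLocalIdeal M (ψ c₀)) :
    ∃ θ : IrrCharacter Γ, (θ : Γ → ℂ) 1 = 1 ∧ classInner ψ (θ : Γ → ℂ) ≠ 0 := by
  classical
  have hp : p.Prime := Fact.out
  haveI hMp : M.IsPrime := hM.2.1.isPrime
  haveI := Fintype.ofFinite (IrrCharacter Γ)
  obtain ⟨n, hdec, hn, -⟩ := Cfsg.Agent.helper12.char_decomp hψ
  by_contra hcon
  apply hnot
  have hval : ψ c₀ = ∑ θ : IrrCharacter Γ, (n θ : ℂ) * (θ : Γ → ℂ) c₀ := by
    conv_lhs => rw [hdec]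
    simp [Finset.sum_apply, Pi.smul_apply, smul_eq_mul]
  rw [hval]
  apply memLocalIdeal_sum
  intro θ _
  by_cases hnθ : n θ = 0
  · rw [hnθ, Nat.cast_zero, zero_mul]; exact memLocalIdeal_zero hMp.ne_top
  · have hdvd := Cfsg.Agent.helper12.irr_degree_dvd_index N hN θ
    rw [hk] at hdvd
    obtain ⟨j, hj, hdeg⟩ := (Nat.dvd_prime_pow hp).mp hdvd
    have hθ1 : (θ : Γ → ℂ) 1 = ((p ^ j : ℕ) : ℂ) := by
      rw [← hdeg]; exact (char_charDegree_cast (irr_isCharacter θ.2)).symm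
    have hj0 : j ≠ 0 := by
      intro h0
      rw [h0, pow_zero, Nat.cast_one] at hθ1
      apply hcon
      refine ⟨θ, hθ1, ?_⟩
      rw [hn θ]
      exact_mod_cast hnθ
    have hcent : Subgroup.centralizer ({c₀} : Set Γ) = ⊤ := by
      rw [Subgroup.centralizer_eq_top_iff_subset]
      intro x hx
      rw [Set.mem_singleton_iff] at hx
      rw [hx]; exact hc₀
    have hω := Cfsg.Agent.helper23.irr_centralChar_isIntegral θ c₀
    have hθ1ne := irr_apply_one_ne_zero θ.2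
    have hθc : (θ : Γ → ℂ) c₀ = centralChar (θ : Γ → ℂ) c₀ * (θ : Γ → ℂ) 1 := by
      unfold centralChar
      rw [hcent, Subgroup.index_top]
      field_simp
      simp
    rw [hθc, hθ1]
    obtain ⟨j', rfl⟩ := Nat.exists_eq_succ_of_ne_zero hj0
    have e : (n θ : ℂ) * (centralChar (θ : Γ → ℂ) c₀ * ((p ^ (j' + 1) : ℕ) : ℂ))
        = ((n θ : ℂ) * centralChar (θ : Γ → ℂ) c₀ * ((p ^ j' : ℕ) : ℂ)) * (p : ℂ) := by
      push_cast; ring
    rw [e]
    apply memLocalIdeal_mul_integral (prime_memLocalIdeal hM)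
    exact IsIntegral.mul (IsIntegral.mul (natInt _) hω) (natInt _)

theorem hom_eq_of_inner_ne {Γ : Type u} [Group Γ] [Fintype Γ] (ψ : Γ → ℂ) (lam : Γ →* ℂˣ)
    (γ₀ : Γ) (a : ℂ) (hψ : ∀ γ, ψ (γ * γ₀) = a * ψ γ)
    (hne : classInner ψ (fun γ => ((lam γ : ℂˣ) : ℂ)) ≠ 0) : ((lam γ₀ : ℂˣ) : ℂ) = a := by
  set S := ∑ γ : Γ, ψ γ * conj ((lam γ : ℂˣ) : ℂ) with hS
  have hS0 : S ≠ 0 := by
    intro h; apply hne; unfold classInner; rw [← hS, h, mul_zero]
  have h1 : S = a * conj ((lam γ₀ : ℂˣ) : ℂ) * S := by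
    rw [hS]
    conv_lhs => rw [← Equiv.sum_comp (Equiv.mulRight γ₀)]
    rw [Finset.mul_sum]
    apply Finset.sum_congr rfl
    intro γ _
    rw [Equiv.coe_mulRight, hψ, map_mul, Units.val_mul, map_mul]
    ring
  have h2 : a * conj ((lam γ₀ : ℂˣ) : ℂ) = 1 := by
    have h3 : (a * conj ((lam γ₀ : ℂˣ) : ℂ) - 1) * S = 0 := by
      rw [sub_mul, one_mul, ← h1, sub_self]
    rcases mul_eq_zero.mp h3 with h | h
    · exact sub_eq_zero.mp h
    · exact absurd h hS0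
  have hnorm : ‖((lam γ₀ : ℂˣ) : ℂ)‖ = 1 := by
    apply Complex.norm_eq_one_of_pow_eq_one (n := orderOf γ₀)
    · rw [← Units.val_pow_eq_pow_val, ← map_pow, pow_orderOf_eq_one, map_one, Units.val_one]
    · exact (orderOf_pos γ₀).ne'
  have h3 : conj ((lam γ₀ : ℂˣ) : ℂ) * ((lam γ₀ : ℂˣ) : ℂ) = 1 := by
    rw [mul_comm, Complex.mul_conj, Complex.normSq_eq_norm_sq, hnorm]; norm_num
  calc ((lam γ₀ : ℂˣ) : ℂ) = (a * conj ((lam γ₀ : ℂˣ) : ℂ)) * ((lam γ₀ : ℂˣ) : ℂ) := by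
        rw [h2, one_mul]
    _ = a := by rw [mul_assoc, h3, mul_one]

/-- Let p be a prime, G a finite group and B a p-block of G (relative to a maximal ideal M of the algebraic integers containing p) with defect group D. Let Z be a central p-subgroup of G contained in D and λ a linear character of Z (a homomorphism to the nonzero complex numbers). Say an irreducible character χ of G lies over λ when χ(z) = χ(1)λ(z) for all z ∈ Z. If some irreducible character in B lying over λ has height zero, then λ extends to a linear character of D. -/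
theorem result {G : Type*} [Group G] [Finite G] (p : ℕ) [Fact p.Prime] (M : Ideal Cfsg.AlgInt) (hM : Cfsg.IsPModular p M) (B : Set (Cfsg.IrrCharacter G)) (hB : Cfsg.IsPBlock M B) (D : Subgroup G) (hD : Cfsg.IsDefectGroup p M B D) (Z : Subgroup G) (hZc : Z ≤ Subgroup.center G) (hZp : IsPGroup p ↥Z) (hZD : Z ≤ D) (lam : ↥Z →* ℂˣ) (χ : Cfsg.IrrCharacter G) (hχ : χ ∈ B) (hover : (∀ z : ↥Z, (χ : G → ℂ) z = (χ : G → ℂ) 1 * (lam z : ℂ))) (h0 : Cfsg.blockHeight p B (χ : G → ℂ) = 0) : (∃ μ : ↥D →* ℂˣ, ∀ z : ↥Z, μ ⟨(z : G), hZD z.2⟩ = lam z) := by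
  classical
  have hp : p.Prime := Fact.out
  haveI := Fintype.ofFinite G
  haveI hMp : M.IsPrime := hM.2.1.isPrime
  have hMtop := hMp.ne_top
  obtain ⟨g, hdc, P, hDP⟩ := hD
  have h1 := (defectClass_values p M hM B hB g hdc P 1 (Subgroup.one_mem _)).1 χ hχ h0
  rw [Subgroup.coe_one, one_mul] at h1
  have hDg : ∀ d ∈ D, Commute d g := by
    intro d hd
    rw [hDP] at hd
    obtain ⟨c, hc, rfl⟩ := hd
    exact (Subgroup.mem_centralizer_iff.mp c.2 g rfl).symm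
  have hDpg : IsPGroup p D := by rw [hDP]; exact P.isPGroup'.map _
  have hcomm : ∀ (d : ↥D) (c : ↥(Subgroup.zpowers g)), Commute (D.subtype d) ((Subgroup.zpowers g).subtype c) := by
    intro d c
    obtain ⟨k, hk⟩ := Subgroup.mem_zpowers_iff.mp c.2
    show Commute (d : G) (c : G)
    rw [← hk]
    exact (hDg d d.2).zpow_right k
  obtain ⟨f, hfdef⟩ : ∃ f : ↥D × ↥(Subgroup.zpowers g) →* G,
      f = D.subtype.noncommCoprod (Subgroup.zpowers g).subtype hcomm := ⟨_, rfl⟩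
  have hf : ∀ γ : ↥D × ↥(Subgroup.zpowers g), f γ = (γ.1 : G) * (γ.2 : G) := by
    intro γ; rw [hfdef]; rfl
  haveI : Fintype (↥D × ↥(Subgroup.zpowers g)) := Fintype.ofFinite _
  have hψ : IsCharacter (↥D × ↥(Subgroup.zpowers g)) (fun γ => (χ : G → ℂ) (f γ)) :=
    Cfsg.Agent.helper8.isCharacter_comp_monoidHom f (irr_isCharacter χ.2)
  obtain ⟨c₀, hc₀def⟩ : ∃ c₀ : ↥D × ↥(Subgroup.zpowers g),
      c₀ = (1, ⟨g, Subgroup.mem_zpowers g⟩) := ⟨_, rfl⟩
  have hfc₀ : f c₀ = g := by rw [hf, hc₀def]; simp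
  have hzcomm : ∀ a b : ↥(Subgroup.zpowers g), a * b = b * a := by
    intro a b
    obtain ⟨i, hi⟩ := Subgroup.mem_zpowers_iff.mp a.2
    obtain ⟨j, hj⟩ := Subgroup.mem_zpowers_iff.mp b.2
    apply Subtype.ext
    rw [Subgroup.coe_mul, Subgroup.coe_mul, ← hi, ← hj, ← zpow_add, ← zpow_add, add_comm]
  have hc₀ : c₀ ∈ Subgroup.center (↥D × ↥(Subgroup.zpowers g)) := by
    rw [Subgroup.mem_center_iff]
    intro γ
    apply Prod.ext
    · rw [hc₀def]; simp
    · rw [Prod.snd_mul, Prod.snd_mul]; exact hzcomm _ _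
  obtain ⟨k, hk⟩ := hDpg.exists_card_eq
  have hidx : (Subgroup.prod (⊥ : Subgroup ↥D) (⊤ : Subgroup ↥(Subgroup.zpowers g))).index
      = p ^ k := by
    rw [Subgroup.index_prod, Subgroup.index_bot, Subgroup.index_top, mul_one, hk]
  have hNab : ∀ a ∈ Subgroup.prod (⊥ : Subgroup ↥D) (⊤ : Subgroup ↥(Subgroup.zpowers g)),
      ∀ b ∈ Subgroup.prod (⊥ : Subgroup ↥D) (⊤ : Subgroup ↥(Subgroup.zpowers g)),
      a * b = b * a := by
    intro a ha b hb
    rw [Subgroup.mem_prod] at ha hb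
    apply Prod.ext
    · rw [Prod.fst_mul, Prod.fst_mul, Subgroup.mem_bot.mp ha.1, Subgroup.mem_bot.mp hb.1]
    · rw [Prod.snd_mul, Prod.snd_mul]; exact hzcomm _ _
  obtain ⟨θ, hθ1, hθne⟩ := lin_constituent p M hM hψ c₀ hc₀ _ hNab k hidx
    (by show ¬ MemLocalIdeal M ((χ : G → ℂ) (f c₀)); rw [hfc₀]; exact h1)
  obtain ⟨lamθ, hlamθ⟩ := Cfsg.Agent.helper23.exists_hom_of_linear (irr_isCharacter θ.2) hθ1
  refine ⟨lamθ.comp (MonoidHom.inl ↥D ↥(Subgroup.zpowers g)), ?_⟩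
  intro z
  have hθfun : (θ : ↥D × ↥(Subgroup.zpowers g) → ℂ) = fun γ => ((lamθ γ : ℂˣ) : ℂ) :=
    funext hlamθ
  rw [hθfun] at hθne
  have hzc : (z : G) ∈ Subgroup.center G := hZc z.2
  obtain ⟨-, hcm⟩ := Cfsg.Agent.S4669.central_mul χ (z : G) hzc
  have hχ1 := irr_apply_one_ne_zero χ.2
  have hkey := hom_eq_of_inner_ne (fun γ => (χ : G → ℂ) (f γ)) lamθ
    ((⟨(z : G), hZD z.2⟩ : ↥D), 1) ((lam z : ℂˣ) : ℂ) ?_ hθne
  · apply Units.ext
    rw [MonoidHom.comp_apply, MonoidHom.inl_apply]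
    exact hkey
  · intro γ
    show (χ : G → ℂ) (f (γ * _)) = _ * (χ : G → ℂ) (f γ)
    rw [map_mul]
    have h5 : f ((⟨(z : G), hZD z.2⟩ : ↥D), 1) = (z : G) := by rw [hf]; simp
    rw [h5]
    have hcomm' : f γ * (z : G) = (z : G) * f γ := Subgroup.mem_center_iff.mp hzc (f γ)
    rw [hcomm', hcm, hover z]
    field_simp

end Cfsg.Agent.S5001
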