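import Cfsg.Statements.S5011

set_option autoImplicit false
open Cfsg

namespace Cfsg.Agent.S5011

theorem result {G : Type*} [Group G] [Finite G] [IsSimpleGroup G]
    (hG : ¬ IsMulCommutative G) {V : Type*} [AddCommGroup V] [Module ℂ V] [FiniteDimensional ℂ V]
    (ρ : Representation ℂ G V)
    (hirr : ∀ W : Submodule ℂ V, (∀ x : G, ∀ v ∈ W, ρ x v ∈ W) → W = ⊥ ∨ W = ⊤)
    (hdim : 1 < Module.finrank ℂ V) (g : G) (hg : g ≠ 1) :
    ∃ W : Submodule ℂ V, W ≠ ⊥ ∧ W ≠ ⊤ ∧ ∀ c ∈ Subgroup.centralizer ({g} : Set G), ∀ v ∈ W, ρ c v ∈ W := by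
  by_contra hcon
  push Not at hcon
  haveI : Nontrivial V := Module.nontrivial_of_finrank_pos (R := ℂ) (by omega)
  obtain ⟨μ, hμ⟩ := Module.End.exists_eigenvalue (ρ g)
  have hWne : Module.End.eigenspace (ρ g) μ ≠ ⊥ := hμ
  have hWinv : ∀ c ∈ Subgroup.centralizer ({g} : Set G),
      ∀ v ∈ Module.End.eigenspace (ρ g) μ, ρ c v ∈ Module.End.eigenspace (ρ g) μ := by
    intro c hc v hv
    rw [Module.End.mem_eigenspace_iff] at hv ⊢
    have hcg : g * c = c * g := Subgroup.mem_centralizer_iff.mp hc g (Set.mem_singleton g)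
    calc ρ g (ρ c v) = ρ (g * c) v := by rw [map_mul]; rfl
      _ = ρ (c * g) v := by rw [hcg]
      _ = ρ c (ρ g v) := by rw [map_mul]; rfl
      _ = ρ c (μ • v) := by rw [hv]
      _ = μ • ρ c v := by rw [map_smul]
  have hWtop : Module.End.eigenspace (ρ g) μ = ⊤ := by
    by_contra hne
    obtain ⟨c, hc, v, hv, hcv⟩ := hcon _ hWne hne
    exact hcv (hWinv c hc v hv)
  have hscal : ∀ v, ρ g v = μ • v := by
    intro v
    have : v ∈ Module.End.eigenspace (ρ g) μ := by rw [hWtop]; trivial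
    exact Module.End.mem_eigenspace_iff.mp this
  let N : Subgroup G :=
    { carrier := {x | ∃ c : ℂ, ∀ v, ρ x v = c • v}
      one_mem' := ⟨1, fun v => by simp⟩
      mul_mem' := by
        rintro a b ⟨ca, ha⟩ ⟨cb, hb⟩
        refine ⟨ca * cb, fun v => ?_⟩
        rw [map_mul]
        show ρ a (ρ b v) = _
        rw [hb, map_smul, ha, smul_smul, mul_comm]
      inv_mem' := by
        rintro a ⟨ca, ha⟩
        refine ⟨ca⁻¹, fun v => ?_⟩
        have h1 : ρ a⁻¹ (ρ a v) = v := by
          have : ρ (a⁻¹ * a) v = v := by simp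
          rwa [map_mul] at this
        rw [ha, map_smul] at h1
        have hca : ca ≠ 0 := by
          intro h0
          obtain ⟨w, hw⟩ := exists_ne (0 : V)
          have h2 : ρ a⁻¹ (ρ a w) = w := by
            have : ρ (a⁻¹ * a) w = w := by simp
            rwa [map_mul] at this
          rw [ha, h0, zero_smul, map_zero] at h2
          exact hw h2.symm
        calc ρ a⁻¹ v = ca⁻¹ • (ca • ρ a⁻¹ v) := by rw [smul_smul, inv_mul_cancel₀ hca, one_smul]
          _ = ca⁻¹ • v := by rw [h1] }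
  have hNnormal : N.Normal := by
    constructor
    rintro n ⟨c, hc⟩ x
    refine ⟨c, fun v => ?_⟩
    rw [map_mul, map_mul]
    show ρ x (ρ n (ρ x⁻¹ v)) = _
    rw [hc, map_smul]
    have : ρ x (ρ x⁻¹ v) = v := by
      have : ρ (x * x⁻¹) v = v := by simp
      rwa [map_mul] at this
    rw [this]
  have hgN : g ∈ N := ⟨μ, hscal⟩
  have hNtop : N = ⊤ := by
    rcases hNnormal.eq_bot_or_eq_top with h | h
    · exfalso
      rw [h, Subgroup.mem_bot] at hgN
      exact hg hgN
    · exact h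
  obtain ⟨w, hw⟩ := exists_ne (0 : V)
  have hspan : ∀ x : G, ∀ v ∈ Submodule.span ℂ {w}, ρ x v ∈ Submodule.span ℂ {w} := by
    intro x v hv
    have hx : x ∈ N := by rw [hNtop]; trivial
    obtain ⟨c, hc⟩ := hx
    rw [hc]
    exact Submodule.smul_mem _ _ hv
  rcases hirr _ hspan with h | h
  · rw [Submodule.span_singleton_eq_bot] at h
    exact hw h
  · have h1 : Module.finrank ℂ (Submodule.span ℂ {w}) = 1 := finrank_span_singleton hw
    rw [h, finrank_top] at h1
    omega

end Cfsg.Agent.S5011
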