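import Cfsg.Statements.S5014
import Cfsg.Agent.Lib_helper25_RankOne

set_option autoImplicit false
open Cfsg

namespace Cfsg.Agent.S5014

open Cfsg.Agent.helper25

/-- any two distinct unipotent subgroups can be moved to `(A, B)`. -/
theorem move_to_std {G : Type*} [Group G] {A B : Subgroup G} (h : Cfsg.IsRankOnePair A B)
    {C₁ C₂ : Subgroup G} (h₁ : C₁ ∈ unipotentSubgroups A B) (h₂ : C₂ ∈ unipotentSubgroups A B)
    (hne : C₁ ≠ C₂) : ∃ x ∈ A ⊔ B, conjBy C₁ x = A ∧ conjBy C₂ x = B := by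
  obtain ⟨u, hu, rfl⟩ := h₁
  have hu' : u⁻¹ ∈ A ⊔ B := Subgroup.inv_mem _ hu
  have h3 : conjBy C₂ u⁻¹ ∈ unipotentSubgroups A B := mem_unipotent_conj A B h₂ hu'
  have h4 : conjBy C₂ u⁻¹ ≠ A := by
    intro he
    apply hne
    have := (conjBy_eq_iff C₂ A u⁻¹).mp he
    rw [inv_inv] at this
    exact this.symm
  obtain ⟨a, ha, hCa⟩ := unipotent_ne_left h h3 h4
  refine ⟨a⁻¹ * u⁻¹, Subgroup.mul_mem _ (Subgroup.inv_mem _ (Subgroup.mem_sup_left ha)) hu', ?_, ?_⟩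
  · rw [conjBy_conjBy]
    have : a⁻¹ * u⁻¹ * u = a⁻¹ := by group
    rw [this]
    exact conjBy_of_mem A (A.inv_mem ha)
  · rw [← conjBy_conjBy, hCa, conjBy_conjBy, inv_mul_cancel, conjBy_one]

theorem result {G : Type*} [Group G] {A B : Subgroup G} (h : Cfsg.IsRankOnePair A B) :
    (∃ C₁ ∈ Cfsg.unipotentSubgroups A B, ∃ C₂ ∈ Cfsg.unipotentSubgroups A B, ∃ C₃ ∈ Cfsg.unipotentSubgroups A B,
      C₁ ≠ C₂ ∧ C₁ ≠ C₃ ∧ C₂ ≠ C₃) ∧
    (∀ C₁ ∈ Cfsg.unipotentSubgroups A B, ∀ C₂ ∈ Cfsg.unipotentSubgroups A B, ∀ D₁ ∈ Cfsg.unipotentSubgroups A B,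
      ∀ D₂ ∈ Cfsg.unipotentSubgroups A B, C₁ ≠ C₂ → D₁ ≠ D₂ →
        ∃ x ∈ A ⊔ B, Cfsg.conjBy C₁ x = D₁ ∧ Cfsg.conjBy C₂ x = D₂) ∧
    (∀ C ∈ Cfsg.unipotentSubgroups A B, ∀ D ∈ Cfsg.unipotentSubgroups A B, C ≠ A → D ≠ A →
      ∃! a : G, a ∈ A ∧ Cfsg.conjBy C a = D) := by
  have hA : A ∈ unipotentSubgroups A B := ⟨1, Subgroup.one_mem _, (conjBy_one A).symm⟩
  have hB : B ∈ unipotentSubgroups A B := rankOne_right_mem_unipotent h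
  refine ⟨?_, ?_, ?_⟩
  · obtain ⟨a, ha, ha1⟩ := rankOne_exists_left h
    refine ⟨A, hA, B, hB, conjBy B a, mem_unipotent_conj A B hB (Subgroup.mem_sup_left ha), h.ne,
      (rankOne_conj_right_ne_left h ha).symm, ?_⟩
    intro he
    have h1 : conjBy B 1 = conjBy B a := by rw [conjBy_one]; exact he
    exact ha1 (rankOne_conj_right_inj h A.one_mem ha h1).symm
  · intro C₁ hC₁ C₂ hC₂ D₁ hD₁ D₂ hD₂ hC hD
    obtain ⟨x, hx, hx1, hx2⟩ := move_to_std h hC₁ hC₂ hC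
    obtain ⟨y, hy, hy1, hy2⟩ := move_to_std h hD₁ hD₂ hD
    refine ⟨y⁻¹ * x, Subgroup.mul_mem _ (Subgroup.inv_mem _ hy) hx, ?_, ?_⟩
    · rw [← conjBy_conjBy, hx1]
      exact ((conjBy_eq_iff D₁ A y).mp hy1).symm
    · rw [← conjBy_conjBy, hx2]
      exact ((conjBy_eq_iff D₂ B y).mp hy2).symm
  · intro C hC D hD hCA hDA
    obtain ⟨c, hc, rfl⟩ := unipotent_ne_left h hC hCA
    obtain ⟨d, hd, rfl⟩ := unipotent_ne_left h hD hDA
    refine ⟨d * c⁻¹, ⟨A.mul_mem hd (A.inv_mem hc), ?_⟩, ?_⟩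
    · rw [conjBy_conjBy]
      have : d * c⁻¹ * c = d := by group
      rw [this]
    · rintro a ⟨ha, hae⟩
      rw [conjBy_conjBy] at hae
      have := rankOne_conj_right_inj h (A.mul_mem ha hc) hd hae
      rw [← this]; group

end Cfsg.Agent.S5014
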