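import Cfsg.Statements.S5015
import Cfsg.Agent.Lib_helper25_RankOne

set_option autoImplicit false
set_option linter.style.haveILetI false
open Cfsg

namespace Cfsg.Agent.S5015

open Cfsg.Agent.helper25

theorem result {Y Ω : Type*} [Group Y] [MulAction Y Ω]
    (h2 : MulAction.IsMultiplyPretransitive Y Ω 2) (hΩ : 3 ≤ ENat.card Ω) (α : Ω) (A : Subgroup Y)
    (hA : A ≤ MulAction.stabilizer Y α) (hAn : ∀ y ∈ MulAction.stabilizer Y α, Cfsg.conjBy A y = A)
    (hnil : Group.IsNilpotent A) (hreg : ∀ β γ : Ω, β ≠ α → γ ≠ α → ∃! a : Y, a ∈ A ∧ a • β = γ)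
    (y : Y) (hy : y ∉ MulAction.stabilizer Y α) :
    Cfsg.IsRankOnePair A (Cfsg.conjBy A y) ∧ Subgroup.normalClosure (A : Set Y) = A ⊔ Cfsg.conjBy A y := by
  have hyα : y • α ≠ α := fun h => hy (MulAction.mem_stabilizer_iff.mpr h)
  -- key lemma
  have L : ∀ g g' : Y, g • α = g' • α → conjBy A g = conjBy A g' := by
    intro g g' hgg
    have hst : g'⁻¹ * g ∈ MulAction.stabilizer Y α := by
      rw [MulAction.mem_stabilizer_iff, mul_smul, hgg, inv_smul_smul]
    have := hAn _ hst
    have h3 := congrArg (fun C => conjBy C g') this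
    simp only [conjBy_conjBy] at h3
    rwa [mul_inv_cancel_left] at h3
  have F1 : ∀ a ∈ A, a ≠ 1 → ∀ γ : Ω, γ ≠ α → a • γ ≠ γ := by
    intro a ha ha1 γ hγ he
    obtain ⟨a₀, -, huniq⟩ := hreg γ γ hγ hγ
    have h1 := huniq a ⟨ha, he⟩
    have h2 := huniq 1 ⟨A.one_mem, one_smul Y γ⟩
    exact ha1 (h1.trans h2.symm)
  have hfixα : ∀ a ∈ A, a • α = α := fun a ha => MulAction.mem_stabilizer_iff.mp (hA ha)
  have hyinv : y⁻¹ • α ≠ α := by
    intro h
    apply hyα
    rw [← h, smul_inv_smul, h]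
  -- third point
  obtain ⟨γ₀, hγ₀α, hγ₀β⟩ : ∃ γ : Ω, γ ≠ α ∧ γ ≠ y • α := by
    by_contra hcon
    push Not at hcon
    have hsub : (Set.univ : Set Ω) ⊆ {α, y • α} := by
      intro γ _
      by_cases h : γ = α
      · left; exact h
      · right; exact hcon γ h
    have h1 : ENat.card Ω ≤ 2 := by
      rw [← Set.encard_univ]
      calc (Set.univ : Set Ω).encard ≤ ({α, y • α} : Set Ω).encard := Set.encard_le_encard hsub
        _ ≤ ({y • α} : Set Ω).encard + 1 := Set.encard_insert_le _ _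
        _ = 2 := by rw [Set.encard_singleton, one_add_one_eq_two]
    have : (3 : ℕ∞) ≤ 2 := hΩ.trans h1
    exact absurd this (by decide)
  have hne : A ≠ conjBy A y := by
    intro he
    obtain ⟨a, ⟨ha, haβ⟩, -⟩ := hreg (y • α) γ₀ hyα hγ₀α
    rw [he] at ha
    obtain ⟨a₁, ha₁, rfl⟩ := ha
    apply hγ₀β
    rw [← haβ]
    show (y * a₁ * y⁻¹) • y • α = y • α
    rw [mul_smul, inv_smul_smul, mul_smul, hfixα a₁ ha₁]
  have hnilB : Group.IsNilpotent (conjBy A y) := by
    haveI := hnil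
    exact Group.nilpotent_of_surjective ((MulAut.conj y).toMonoidHom.subgroupMap A)
      (MonoidHom.subgroupMap_surjective _ _)
  have hcl : RankOneCondition A (conjBy A y) := by
    intro a ha ha1
    have ha1' : a⁻¹ ≠ 1 := fun h => ha1 (inv_eq_one.mp h)
    have hγα : a⁻¹ • y • α ≠ α := by
      intro h
      apply hyα
      have := congrArg (fun δ => a • δ) h
      simp only [smul_inv_smul] at this
      rw [this, hfixα a ha]
    have hγβ : a⁻¹ • y • α ≠ y • α := F1 a⁻¹ (A.inv_mem ha) ha1' _ hyα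
    have h1 : y⁻¹ • a⁻¹ • y • α ≠ α := by
      intro h
      apply hγβ
      have := congrArg (fun δ => y • δ) h
      simpa only [smul_inv_smul] using this
    obtain ⟨a₀, ⟨ha₀, ha₀e⟩, -⟩ := hreg (y⁻¹ • a⁻¹ • y • α) (y⁻¹ • α) h1 hyinv
    have hbγ : (y * a₀ * y⁻¹) • (a⁻¹ • y • α) = α := by
      rw [mul_smul, mul_smul, ha₀e, smul_inv_smul]
    refine ⟨y * a₀ * y⁻¹, conj_mem_conjBy A y ha₀, ?_, ?_⟩
    · intro hb1
      rw [hb1, one_smul] at hbγ
      exact hγα hbγ
    · rw [conjBy_conjBy]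
      apply L
      have e1 : (y * a₀ * y⁻¹)⁻¹ • α = a⁻¹ • y • α := by
        rw [inv_smul_eq_iff]; exact hbγ.symm
      rw [e1, mul_smul]
  have hcr : RankOneCondition (conjBy A y) A := by
    rintro _ ⟨a₁, ha₁, rfl⟩ hb1
    have ha₁1 : a₁ ≠ 1 := by
      intro h
      apply hb1
      show y * a₁ * y⁻¹ = 1
      rw [h]; group
    have hb : ∀ δ : Ω, (y * a₁ * y⁻¹) • δ = δ → δ = y • α := by
      intro δ hδ
      by_contra hne
      have h1 : y⁻¹ • δ ≠ α := by
        intro h
        apply hne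
        rw [← h, smul_inv_smul]
      apply F1 a₁ ha₁ ha₁1 _ h1
      have := congrArg (fun δ => y⁻¹ • δ) hδ
      simp only [mul_smul, inv_smul_smul] at this
      exact this
    have hbβ : (y * a₁ * y⁻¹) • (y • α) = y • α := by
      rw [mul_smul, inv_smul_smul, mul_smul, hfixα a₁ ha₁]
    set b := y * a₁ * y⁻¹ with hbdef
    have hγα : b⁻¹ • α ≠ α := by
      intro h
      have : b • α = α := by
        have := congrArg (fun δ => b • δ) h
        simp only [smul_inv_smul] at this
        exact this.symm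
      exact hyα (hb α this).symm
    have hγβ : b⁻¹ • α ≠ y • α := by
      intro h
      have : α = b • y • α := by
        have := congrArg (fun δ => b • δ) h
        simpa only [smul_inv_smul] using this
      rw [hbβ] at this
      exact hyα this.symm
    obtain ⟨a, ⟨ha, hae⟩, -⟩ := hreg (b⁻¹ • α) (y • α) hγα hyα
    refine ⟨a, ha, ?_, ?_⟩
    · intro ha1
      rw [ha1, one_smul] at hae
      exact hγβ hae
    · show conjBy (conjBy A y) a⁻¹ = conjBy A b⁻¹
      rw [conjBy_conjBy]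
      apply L
      rw [mul_smul, inv_smul_eq_iff]
      exact hae.symm
  refine ⟨⟨hne, hnil, hnilB, hcl, hcr⟩, ?_⟩
  apply le_antisymm
  · rw [Subgroup.normalClosure]
    rw [Subgroup.closure_le]
    intro x hx
    obtain ⟨a, ha, hax⟩ := Group.mem_conjugatesOfSet_iff.mp hx
    obtain ⟨c, rfl⟩ := isConj_iff.mp hax
    have hxc : c * a * c⁻¹ ∈ conjBy A c := conj_mem_conjBy A c ha
    by_cases hc : c • α = α
    · have : conjBy A c = A := hAn c (MulAction.mem_stabilizer_iff.mpr hc)
      rw [this] at hxc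
      exact Subgroup.mem_sup_left hxc
    · obtain ⟨a', ⟨ha', ha'e⟩, -⟩ := hreg (y • α) (c • α) hyα hc
      have : conjBy A c = conjBy A (a' * y) := by
        apply L
        rw [mul_smul, ha'e]
      rw [this, ← conjBy_conjBy] at hxc
      exact (conjBy_le _ _ le_sup_right (Subgroup.mem_sup_left ha')) hxc
  · apply sup_le Subgroup.le_normalClosure
    rintro _ ⟨a, ha, rfl⟩
    exact (Subgroup.normalClosure_normal).conj_mem a (Subgroup.le_normalClosure ha) y

end Cfsg.Agent.S5015
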