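import Cfsg.Statements.S5017
import Cfsg.Agent.Lib_helper25_RankOne

set_option autoImplicit false
set_option linter.style.haveILetI false
open Cfsg

namespace Cfsg.Agent.S5017

open Cfsg.Agent.helper25

theorem part1 {X : Type*} [Group X] {A B : Subgroup X} (h : Cfsg.IsRankOneGroup X A B)
    (N : Subgroup X) (hN : N.Normal) : N ⊔ A = ⊤ ∨ N ≤ Subgroup.center X := by
  obtain ⟨htop, hp⟩ := h
  -- first case analysis: does N move A?
  have case1 : ∀ n ∈ N, conjBy A n ≠ A → N ⊔ A = ⊤ := by
    intro n hn hne
    have h1 : conjBy A n ∈ unipotentSubgroups A B :=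
      ⟨n, by rw [htop]; trivial, rfl⟩
    obtain ⟨a, ha, hna⟩ := unipotent_ne_left hp h1 hne
    have hB : B = conjBy A (a⁻¹ * n) := by
      rw [← conjBy_conjBy, hna, conjBy_conjBy, inv_mul_cancel, conjBy_one]
    have hBle : B ≤ N ⊔ A := by
      rw [hB]
      apply conjBy_le _ _ le_sup_right
      exact Subgroup.mul_mem _ (Subgroup.inv_mem _ (Subgroup.mem_sup_right ha)) (Subgroup.mem_sup_left hn)
    rw [eq_top_iff, ← htop]
    exact sup_le le_sup_right hBle
  by_cases hmove : ∃ n ∈ N, conjBy A n ≠ A ∨ conjBy B n ≠ B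
  · left
    obtain ⟨n, hn, hne | hne⟩ := hmove
    · exact case1 n hn hne
    · obtain ⟨y, -, hy⟩ := rankOne_right_mem_unipotent hp
      have hn' : y⁻¹ * n * y ∈ N := by
        have := hN.conj_mem n hn y⁻¹
        rwa [inv_inv] at this
      apply case1 _ hn'
      intro he
      apply hne
      rw [hy, conjBy_conjBy]
      have e : n * y = y * (y⁻¹ * n * y) := by group
      rw [e, ← conjBy_conjBy, he]
  · right
    push Not at hmove
    haveI := hN
    have hNA : N ≤ Subgroup.normalizer (A : Set X) := fun n hn =>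
      (conjBy_eq_self_iff A n).mp (hmove n hn).1
    have hNB : N ≤ Subgroup.normalizer (B : Set X) := fun n hn =>
      (conjBy_eq_self_iff B n).mp (hmove n hn).2
    have := rankOne_central_of_normalizes hp N hNA hNB
    rwa [htop, Subgroup.coe_top, Subgroup.centralizer_univ] at this

theorem result {X : Type*} [Group X] {A B : Subgroup X} (h : Cfsg.IsRankOneGroup X A B) :
    (∀ N : Subgroup X, N.Normal → N ⊔ A = ⊤ ∨ N ≤ Subgroup.center X) ∧
    (Group.IsPerfect X → Cfsg.IsQuasisimple X) := by
  refine ⟨part1 h, ?_⟩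
  intro hperf
  refine ⟨hperf, ?_⟩
  obtain ⟨htop, hp⟩ := h
  -- center is not everything
  have hcne : Subgroup.center X ≠ ⊤ := by
    intro hc
    obtain ⟨a, ha, ha1⟩ := rankOne_exists_left hp
    obtain ⟨b, hb, hb1, hab⟩ := hp.cond_left a ha ha1
    have hall : ∀ (C : Subgroup X) (g : X), conjBy C g = C := by
      intro C g
      ext x
      rw [mem_conjBy_iff]
      have hg : g ∈ Subgroup.center X := by rw [hc]; trivial
      have : g⁻¹ * x * g = x := by
        have := Subgroup.mem_center_iff.mp hg x
        rw [mul_assoc, this]; group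
      rw [this]
    rw [hall, hall] at hab
    exact hp.ne hab
  haveI : Nontrivial (X ⧸ Subgroup.center X) := by
    rw [QuotientGroup.nontrivial_iff]
    exact hcne
  refine ⟨?_⟩
  intro H hH
  -- pull back
  have hNn : (H.comap (QuotientGroup.mk' (Subgroup.center X))).Normal := hH.comap _
  rcases part1 ⟨htop, hp⟩ _ hNn with h1 | h1
  · right
    -- X / N is nilpotent and perfect
    set N := H.comap (QuotientGroup.mk' (Subgroup.center X)) with hNdef
    haveI := hNn
    haveI := hp.nilpotent_left
    have hsurj : Function.Surjective ((QuotientGroup.mk' N).comp A.subtype) := by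
      intro q
      obtain ⟨x, rfl⟩ := QuotientGroup.mk'_surjective N q
      have hx : x ∈ N ⊔ A := by rw [h1]; trivial
      obtain ⟨n, hn, a, ha, rfl⟩ := Subgroup.mem_sup_of_normal_left.mp hx
      refine ⟨⟨a, ha⟩, ?_⟩
      show (QuotientGroup.mk' N) a = (QuotientGroup.mk' N) (n * a)
      rw [map_mul]
      have : (QuotientGroup.mk' N) n = 1 := (QuotientGroup.eq_one_iff n).mpr hn
      rw [this, one_mul]
    haveI : Group.IsNilpotent (X ⧸ N) := Group.nilpotent_of_surjective _ hsurj
    haveI : Group.IsPerfect (X ⧸ N) := inferInstance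
    have hsub : Subsingleton (X ⧸ N) := by
      by_contra hns
      rw [not_subsingleton_iff_nontrivial] at hns
      exact Group.IsPerfect.not_isNilpotent (X ⧸ N) inferInstance
    have hNtop : N = ⊤ := QuotientGroup.subsingleton_iff.mp hsub
    rw [eq_top_iff]
    intro q _
    obtain ⟨x, rfl⟩ := QuotientGroup.mk'_surjective _ q
    have : x ∈ N := by rw [hNtop]; trivial
    exact this
  · left
    rw [eq_bot_iff]
    intro q hq
    obtain ⟨x, rfl⟩ := QuotientGroup.mk'_surjective _ q
    have hx : x ∈ Subgroup.center X := h1 hq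
    exact Subgroup.mem_bot.mpr ((QuotientGroup.eq_one_iff x).mpr hx)

end Cfsg.Agent.S5017
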