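import Cfsg.Statements.S5018
import Cfsg.Agent.Lib_helper25_RankOne

set_option autoImplicit false
set_option linter.style.haveILetI false
open Cfsg

namespace Cfsg.Agent.S5018

open Cfsg.Agent.helper25
open scoped commutatorElement

theorem z2_normalizes {X : Type*} [Group X] {A B : Subgroup X} (htop : A ⊔ B = ⊤)
    (hp : Cfsg.IsRankOnePair A B) {z : X} (hz : z ∈ Subgroup.upperCentralSeries X 2) :
    conjBy A z = A := by
  by_contra hne
  have hne' : conjBy A z⁻¹ ≠ A := by
    intro he
    apply hne
    have := (conjBy_eq_iff A A z⁻¹).mp he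
    rw [inv_inv] at this
    exact this.symm
  have h1 : conjBy A z⁻¹ ∈ unipotentSubgroups A B := ⟨z⁻¹, by rw [htop]; trivial, rfl⟩
  obtain ⟨a'', ha'', hza⟩ := unipotent_ne_left hp h1 hne'
  obtain ⟨a', ha', ha'1⟩ := rankOne_exists_left hp
  have hc : ⁅z, a'⁆ ∈ Subgroup.center X := by
    have := (Subgroup.mem_upperCentralSeries_succ_iff (n := 1)).mp hz a'
    rwa [Subgroup.upperCentralSeries_one] at this
  have hcA : conjBy A ⁅z, a'⁆ = A := by
    ext x
    rw [mem_conjBy_iff]
    have : ⁅z, a'⁆⁻¹ * x * ⁅z, a'⁆ = x := by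
      have := Subgroup.mem_center_iff.mp hc x
      rw [mul_assoc, this]; group
    rw [this]
  have h2 : conjBy A (z * a' * z⁻¹) = A := by
    have e : ⁅z, a'⁆ = (z * a' * z⁻¹) * a'⁻¹ := by
      rw [commutatorElement_def]
    rw [e, ← conjBy_conjBy, conjBy_of_mem A (A.inv_mem ha')] at hcA
    exact hcA
  have h3 : conjBy (conjBy A z⁻¹) a' = conjBy A z⁻¹ := by
    have := congrArg (fun C => conjBy C z⁻¹) h2
    simp only [conjBy_conjBy] at this
    rw [conjBy_conjBy]
    have e : z⁻¹ * (z * a' * z⁻¹) = a' * z⁻¹ := by group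
    rw [e] at this
    exact this
  rw [hza, conjBy_conjBy] at h3
  have := rankOne_conj_right_inj hp (A.mul_mem ha' ha'') ha'' h3
  exact ha'1 (mul_eq_right.mp this)

theorem result {X : Type*} [Group X] {A B : Subgroup X} (h : Cfsg.IsRankOneGroup X A B) :
    Subgroup.upperCentralSeries X 2 = Subgroup.center X ∧ ¬ Group.IsNilpotent X := by
  obtain ⟨htop, hp⟩ := h
  have hs := RankOnePair_symm hp
  have htop' : B ⊔ A = ⊤ := by rw [sup_comm]; exact htop
  constructor
  · apply le_antisymm
    · have hNA : Subgroup.upperCentralSeries X 2 ≤ Subgroup.normalizer (A : Set X) := fun z hz =>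
        (conjBy_eq_self_iff A z).mp (z2_normalizes htop hp hz)
      have hNB : Subgroup.upperCentralSeries X 2 ≤ Subgroup.normalizer (B : Set X) := fun z hz =>
        (conjBy_eq_self_iff B z).mp (z2_normalizes htop' hs hz)
      have := rankOne_central_of_normalizes hp (Subgroup.upperCentralSeries X 2) hNA hNB
      rwa [htop, Subgroup.coe_top, Subgroup.centralizer_univ] at this
    · rw [← Subgroup.upperCentralSeries_one]
      exact Subgroup.upperCentralSeries_mono X one_le_two
  · intro hnil
    have hnc : NormalizerCondition X := Group.normalizerCondition_of_isNilpotent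
    have hPne : Subgroup.normalizer (A : Set X) ≠ ⊤ := by
      intro hP
      obtain ⟨y, -, hy⟩ := rankOne_right_mem_unipotent hp
      have : conjBy A y = A := (conjBy_eq_self_iff A y).mpr (by rw [hP]; trivial)
      rw [this] at hy
      exact hp.ne hy.symm
    have hlt := hnc (Subgroup.normalizer (A : Set X)) (lt_top_iff_ne_top.mpr hPne)
    obtain ⟨y, hyN, hyP⟩ := SetLike.exists_of_lt hlt
    have hne : conjBy A y ≠ A := fun he => hyP ((conjBy_eq_self_iff A y).mp he)
    have hle : conjBy A y ≤ Subgroup.normalizer (A : Set X) := by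
      rintro _ ⟨a, ha, rfl⟩
      exact (Subgroup.mem_normalizer_iff.mp hyN a).mp (Subgroup.le_normalizer ha)
    have h1 : conjBy A y ∈ unipotentSubgroups A B := ⟨y, by rw [htop]; trivial, rfl⟩
    obtain ⟨a, ha, hya⟩ := unipotent_ne_left hp h1 hne
    have hBle : B ≤ Subgroup.normalizer (A : Set X) := by
      intro b hb
      have h2 : a * b * a⁻¹ ∈ Subgroup.normalizer (A : Set X) := by
        apply hle
        rw [hya]
        exact conj_mem_conjBy B a hb
      have haN : a ∈ Subgroup.normalizer (A : Set X) := Subgroup.le_normalizer ha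
      have h3 := Subgroup.mul_mem _ (Subgroup.mul_mem _ (Subgroup.inv_mem _ haN) h2) haN
      have e : a⁻¹ * (a * b * a⁻¹) * a = b := by group
      rwa [e] at h3
    apply rankOne_right_ne_bot hp
    rw [eq_bot_iff]
    intro b hb
    exact Subgroup.mem_bot.mpr (rankOne_normalizer_right hp hb (hBle hb))

end Cfsg.Agent.S5018
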