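import Cfsg.Statements.S5021
import Mathlib
import Cfsg.Agent.H16RK3
-- import your own Cfsg.Agent.* helpers here

set_option autoImplicit false
open Cfsg

namespace Cfsg.Agent.S5021

/-- In a special rank one group with abelian unipotent subgroups A and B, either A is an elementary abelian p-group for some prime p, or A is torsion-free and divisible (every element of A has an n-th root in A for every positive n). -/
theorem result {X : Type*} [Group X] {A B : Subgroup X} (h : Cfsg.IsRankOneGroup X A B)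
    (hs : Cfsg.IsSpecialRankOnePair A B) (hab : Cfsg.HasAbelianUnipotents A B) :
    (∃ p : ℕ, p.Prime ∧ Cfsg.IsElementaryAbelian p A) ∨
    ((∀ a ∈ A, a ≠ 1 → ¬ IsOfFinOrder a) ∧ ∀ a ∈ A, ∀ n : ℕ, 0 < n → ∃ c ∈ A, c ^ n = a) := by
  have hconj : ∀ (C : Subgroup X) (g : X), Cfsg.conjBy C g⁻¹ = Cfsg.Agent.H16RK.cjr C g := by
    intro C g
    ext x
    simp only [Cfsg.conjBy, Subgroup.mem_map, MulEquiv.coe_toMonoidHom, MulAut.conj_apply,
      Cfsg.Agent.H16RK.mem_cjr, inv_inv]
    constructor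
    · rintro ⟨y, hy, rfl⟩
      simpa [mul_assoc] using hy
    · intro hx
      exact ⟨g * x * g⁻¹, hx, by group⟩
  have hcA : ∀ x ∈ A, ∀ y ∈ A, x * y = y * x := by
    intro x hx y hy
    have := hab.1.is_comm.comm ⟨x, hx⟩ ⟨y, hy⟩
    exact congrArg Subtype.val this
  have hcB : ∀ x ∈ B, ∀ y ∈ B, x * y = y * x := by
    intro x hx y hy
    have := hab.2.is_comm.comm ⟨x, hx⟩ ⟨y, hy⟩
    exact congrArg Subtype.val this
  have hSR : Cfsg.Agent.H16RK.SR A B := by
    refine ⟨h.2.ne, hcA, hcB, ?_, ?_, ?_⟩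
    · intro a ha ha1
      obtain ⟨b, hb, hb1, hab'⟩ := h.2.cond_left a ha ha1
      exact ⟨b, hb, hb1, by rw [← hconj, ← hconj]; exact hab'⟩
    · intro b hb hb1
      obtain ⟨a, ha, ha1, hab'⟩ := h.2.cond_right b hb hb1
      exact ⟨a, ha, ha1, by rw [← hconj, ← hconj]; exact hab'⟩
    · intro a ha ha1 b hb hb1 hab'
      exact hs.2 a ha ha1 b hb hb1 (by rw [hconj, hconj]; exact hab')
  rcases hSR.main with ⟨p, hp, hall⟩ | hright
  · left
    exact ⟨p, hp, hab.1, hall⟩
  · right
    exact hright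

end Cfsg.Agent.S5021
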