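import Cfsg.Statements.S5022
import Mathlib
import Cfsg.Agent.H16RK6
-- import your own Cfsg.Agent.* helpers here

set_option autoImplicit false
open Cfsg

namespace Cfsg.Agent.S5022

/-- Let X be a special rank one group with abelian unipotent subgroups A and B, where A is an elementary abelian p-group for the prime p. Then for every non-identity a in A and the non-identity b in B with b⁻¹ A b = a⁻¹ B a, the subgroup generated by a and b is isomorphic to SL₂(p) or to PSL₂(p). -/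
theorem result {X : Type*} [Group X] {A B : Subgroup X} (h : Cfsg.IsRankOneGroup X A B)
    (hs : Cfsg.IsSpecialRankOnePair A B) (hab : Cfsg.HasAbelianUnipotents A B)
    {p : ℕ} [Fact p.Prime] (hA : Cfsg.IsElementaryAbelian p A)
    {a b : X} (ha : a ∈ A) (ha1 : a ≠ 1) (hb : b ∈ B) (hb1 : b ≠ 1) (hab' : Cfsg.conjBy A b⁻¹ = Cfsg.conjBy B a⁻¹) :
    Nonempty (↥(Subgroup.closure ({a, b} : Set X)) ≃* Matrix.SpecialLinearGroup (Fin 2) (ZMod p)) ∨
    Nonempty (↥(Subgroup.closure ({a, b} : Set X)) ≃* Matrix.ProjectiveSpecialLinearGroup (Fin 2) (ZMod p)) := by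
  have hconj : ∀ (C : Subgroup X) (g : X), Cfsg.conjBy C g⁻¹ = Cfsg.Agent.H16RK.cjr C g := by
    intro C g
    ext x
    simp only [Cfsg.conjBy, Subgroup.mem_map, MulEquiv.coe_toMonoidHom, MulAut.conj_apply,
      Cfsg.Agent.H16RK.mem_cjr, inv_inv]
    constructor
    · rintro ⟨y, hy, rfl⟩
      simpa [mul_assoc] using hy
    · intro hx
      exact ⟨g * x * g⁻¹, hx, by group⟩
  have hcA : ∀ x ∈ A, ∀ y ∈ A, x * y = y * x := by
    intro x hx y hy
    have := hab.1.is_comm.comm ⟨x, hx⟩ ⟨y, hy⟩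
    exact congrArg Subtype.val this
  have hcB : ∀ x ∈ B, ∀ y ∈ B, x * y = y * x := by
    intro x hx y hy
    have := hab.2.is_comm.comm ⟨x, hx⟩ ⟨y, hy⟩
    exact congrArg Subtype.val this
  have hSR : Cfsg.Agent.H16RK.SR A B := by
    refine ⟨h.2.ne, hcA, hcB, ?_, ?_, ?_⟩
    · intro a ha ha1
      obtain ⟨b, hb, hb1, hab'⟩ := h.2.cond_left a ha ha1
      exact ⟨b, hb, hb1, by rw [← hconj, ← hconj]; exact hab'⟩
    · intro b hb hb1
      obtain ⟨a, ha, ha1, hab'⟩ := h.2.cond_right b hb hb1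
      exact ⟨a, ha, ha1, by rw [← hconj, ← hconj]; exact hab'⟩
    · intro a ha ha1 b hb hb1 hab'
      exact hs.2 a ha ha1 b hb hb1 (by rw [hconj, hconj]; exact hab')
  have hR : Cfsg.Agent.H16RK.R A B a b := ⟨ha, hb, ha1, hb1, by rw [← hconj, ← hconj]; exact hab'⟩
  exact hSR.gen_iso hA.2 hR

end Cfsg.Agent.S5022
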