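import Cfsg.Statements.S5024
import Cfsg.Agent.Lib_helper25_RootSub
import Cfsg.Agent.S5014

set_option autoImplicit false
set_option linter.style.haveILetI false
open Cfsg

namespace Cfsg.Agent.S5024

open Cfsg.Agent.helper25

variable {G : Type*} [Group G]

/-- distinct points: elements of one point normalizing another are trivial. -/
theorem points_regular {C D : Subgroup G} (h : IsRankOnePair C D) {D₁ D₂ : Subgroup G}
    (h₁ : D₁ ∈ unipotentSubgroups C D) (h₂ : D₂ ∈ unipotentSubgroups C D) (hne : D₁ ≠ D₂) {x : G}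
    (hx : x ∈ D₁) (hn : conjBy D₂ x = D₂) : x = 1 := by
  obtain ⟨y, -, hy1, hy2⟩ := Cfsg.Agent.S5014.move_to_std h h₁ h₂ hne
  have hxC : y * x * y⁻¹ ∈ C := by
    rw [← hy1]; exact conj_mem_conjBy D₁ y hx
  have hD₂ : D₂ = conjBy D y⁻¹ := (conjBy_eq_iff D₂ D y).mp hy2
  have hN : conjBy D (y * x * y⁻¹) = D := by
    have e : y * x * y⁻¹ = y * (x * y⁻¹) := by group
    rw [e, ← conjBy_conjBy, ← conjBy_conjBy, ← hD₂, hn, hy2]
  have := rankOne_normalizer_left h hxC ((conjBy_eq_self_iff D _).mp hN)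
  have e : x = y⁻¹ * (y * x * y⁻¹) * y := by group
  rw [e, this]; group

theorem conjBy_inv_eq_self {D : Subgroup G} {a : G} (h : conjBy D a = D) : conjBy D a⁻¹ = D :=
  ((conjBy_eq_iff D D a).mp h).symm

/-- an element of `Y` fixing all points centralizes `Y`. -/
theorem central_of_fixes_points {C D : Subgroup G} (h : IsRankOnePair C D) {a : G}
    (hn : ∀ D' ∈ unipotentSubgroups C D, conjBy D' a = D') :
    ∀ x ∈ C ⊔ D, x * a = a * x := by
  have hCΩ : C ∈ unipotentSubgroups C D := ⟨1, Subgroup.one_mem _, (conjBy_one C).symm⟩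
  have hDΩ : D ∈ unipotentSubgroups C D := rankOne_right_mem_unipotent h
  have hC : ∀ c ∈ C, c * a = a * c := by
    intro c hc
    have hk : a * c * a⁻¹ * c⁻¹ ∈ C := by
      have : a * c * a⁻¹ ∈ conjBy C a := conj_mem_conjBy C a hc
      rw [hn C hCΩ] at this
      exact C.mul_mem this (C.inv_mem hc)
    have hkN : conjBy D (a * c * a⁻¹ * c⁻¹) = D := by
      have e : a * c * a⁻¹ * c⁻¹ = a * (c * (a⁻¹ * c⁻¹)) := by group
      have s1 : conjBy D (a * (c * (a⁻¹ * c⁻¹))) =
          conjBy (conjBy (conjBy (conjBy D c⁻¹) a⁻¹) c) a := by simp only [conjBy_conjBy]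
      have hΩ : conjBy D c⁻¹ ∈ unipotentSubgroups C D :=
        mem_unipotent_conj C D hDΩ (Subgroup.mem_sup_left (C.inv_mem hc))
      rw [e, s1, conjBy_inv_eq_self (hn _ hΩ), conjBy_conjBy D, mul_inv_cancel, conjBy_one, hn D hDΩ]
    have h1 := rankOne_normalizer_left h hk ((conjBy_eq_self_iff D _).mp hkN)
    have e : a * c = (a * c * a⁻¹ * c⁻¹) * (c * a) := by group
    rw [e, h1, one_mul]
  have hD : ∀ d ∈ D, d * a = a * d := by
    intro d hd
    have hk : a * d * a⁻¹ * d⁻¹ ∈ D := by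
      have : a * d * a⁻¹ ∈ conjBy D a := conj_mem_conjBy D a hd
      rw [hn D hDΩ] at this
      exact D.mul_mem this (D.inv_mem hd)
    have hkN : conjBy C (a * d * a⁻¹ * d⁻¹) = C := by
      have e : a * d * a⁻¹ * d⁻¹ = a * (d * (a⁻¹ * d⁻¹)) := by group
      have s1 : conjBy C (a * (d * (a⁻¹ * d⁻¹))) =
          conjBy (conjBy (conjBy (conjBy C d⁻¹) a⁻¹) d) a := by simp only [conjBy_conjBy]
      have hΩ : conjBy C d⁻¹ ∈ unipotentSubgroups C D :=
        mem_unipotent_conj C D hCΩ (Subgroup.mem_sup_right (D.inv_mem hd))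
      rw [e, s1, conjBy_inv_eq_self (hn _ hΩ), conjBy_conjBy C, mul_inv_cancel, conjBy_one, hn C hCΩ]
    have h1 := rankOne_normalizer_right h hk ((conjBy_eq_self_iff C _).mp hkN)
    have e : a * d = (a * d * a⁻¹ * d⁻¹) * (d * a) := by group
    rw [e, h1, one_mul]
  have hle : C ⊔ D ≤ Subgroup.centralizer ({a} : Set G) := by
    apply sup_le
    · intro c hc
      rw [Subgroup.mem_centralizer_iff]
      intro m hm
      rw [Set.mem_singleton_iff.mp hm]
      exact (hC c hc).symm
    · intro d hd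
      rw [Subgroup.mem_centralizer_iff]
      intro m hm
      rw [Set.mem_singleton_iff.mp hm]
      exact (hD d hd).symm
  intro x hx
  exact (Subgroup.mem_centralizer_iff.mp (hle hx) a (Set.mem_singleton a)).symm

/-- a member of `S` inside `Y = ⟨C, D⟩` having a rank one partner inside `Y` is a point of `Y`. -/
theorem mem_points {S : Set (Subgroup G)} (hS : IsRootSubgroupSet S) {A B C D : Subgroup G}
    (hA : A ∈ S) (hAB : IsRankOnePair A B) (hC : C ∈ S) (hCD : IsRankOnePair C D)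
    (hAY : A ≤ C ⊔ D) (hBY : B ≤ C ⊔ D) : A ∈ unipotentSubgroups C D := by
  by_contra hAΩ
  -- A normalizes every point
  have hnorm : ∀ D' ∈ unipotentSubgroups C D, ∀ a ∈ A, conjBy D' a = D' := by
    intro D' hD' a ha
    have hD'S : D' ∈ S := by
      obtain ⟨y, -, rfl⟩ := hD'
      exact hS.conj_mem C hC y
    have hD'Y : D' ≤ C ⊔ D := by
      obtain ⟨y, hy, rfl⟩ := hD'
      exact conjBy_le C _ le_sup_left hy
    rcases hS.pair A hA D' hD'S with hcomm | hrank | hcase
    · exact (conjBy_eq_self_iff D' a).mpr (le_normalizer_of_commutator_eq_bot hcomm ha)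
    · exfalso
      apply hAΩ
      obtain ⟨e, he, he1⟩ := rankOne_exists_left hrank
      obtain ⟨c, hc, -, hec⟩ := hrank.cond_left e he he1
      have hAeq : A = conjBy D' (c * e⁻¹) := by
        have := (conjBy_eq_iff A _ c⁻¹).mp hec
        rw [inv_inv, conjBy_conjBy] at this
        exact this
      rw [hAeq]
      exact mem_unipotent_conj C D hD'
        (Subgroup.mul_mem _ (hD'Y hc) (Subgroup.inv_mem _ (hAY he)))
    · by_contra hne
      obtain ⟨hmem, hcentral, -, -⟩ := hcase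
      have hD''Ω : conjBy D' a ∈ unipotentSubgroups C D := mem_unipotent_conj C D hD' (hAY ha)
      -- every element of D' is trivial
      have hD'bot : D' = ⊥ := by
        rw [eq_bot_iff]
        intro d hd
        have hk : a * d * a⁻¹ * d⁻¹ ∈ ⁅A, D'⁆ := Subgroup.commutator_mem_commutator ha hd
        have hkN : a * d * a⁻¹ * d⁻¹ ∈ Subgroup.normalizer (D' : Set G) := by
          apply Subgroup.centralizer_le_normalizer
          rw [Subgroup.mem_centralizer_iff]
          intro y hy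
          exact (hcentral _ hk y (Subgroup.mem_sup_right hy)).symm
        have hd''N : a * d * a⁻¹ ∈ Subgroup.normalizer (D' : Set G) := by
          have := Subgroup.mul_mem _ hkN (Subgroup.le_normalizer hd)
          rwa [inv_mul_cancel_right] at this
        have h1 := points_regular hCD hD''Ω hD' hne (conj_mem_conjBy D' a hd)
          ((conjBy_eq_self_iff D' _).mpr hd''N)
        have e : d = a⁻¹ * (a * d * a⁻¹) * a := by group
        rw [Subgroup.mem_bot, e, h1]; group
      exact hS.ne_bot D' hD'S hD'bot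
  obtain ⟨a, ha, ha1⟩ := rankOne_exists_left hAB
  have hcen := central_of_fixes_points hCD (fun D' hD' => hnorm D' hD' a ha)
  have hN : a ∈ Subgroup.normalizer (B : Set G) := by
    apply Subgroup.centralizer_le_normalizer
    rw [Subgroup.mem_centralizer_iff]
    intro b hb
    exact hcen b (hBY hb)
  exact ha1 (rankOne_normalizer_left hAB ha hN)

theorem result {G : Type*} [Group G] {S : Set (Subgroup G)} (hS : Cfsg.IsRootSubgroupSet S)
    {A B C D : Subgroup G} (hA : A ∈ S) (hC : C ∈ S) (hB : B ∈ Cfsg.rankOnePartners S A) (hD : D ∈ Cfsg.rankOnePartners S C)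
    (hle : A ⊔ B ≤ C ⊔ D) : A ⊔ B = C ⊔ D ∧ C ∈ Cfsg.unipotentSubgroups A B ∧ D ∈ Cfsg.unipotentSubgroups A B := by
  obtain ⟨hBS, hAB⟩ := hB
  obtain ⟨hDS, hCD⟩ := hD
  have hAY : A ≤ C ⊔ D := le_sup_left.trans hle
  have hBY : B ≤ C ⊔ D := le_sup_right.trans hle
  have hAΩ : A ∈ unipotentSubgroups C D := mem_points hS hA hAB hC hCD hAY hBY
  have hBΩ : B ∈ unipotentSubgroups C D := by
    have hBY' : B ≤ C ⊔ D := hBY
    exact mem_points hS hBS (RankOnePair_symm hAB) hC hCD hBY hAY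
  obtain ⟨y, hy, hy1, hy2⟩ := Cfsg.Agent.S5014.move_to_std hCD hAΩ hBΩ hAB.ne
  -- Y = y X y⁻¹
  have hYeq : C ⊔ D = A ⊔ B := by
    apply le_antisymm _ hle
    -- C = conjBy A y, so A = conjBy C y⁻¹ ...
    have hy' : y⁻¹ ∈ C ⊔ D := Subgroup.inv_mem _ hy
    intro x hx
    -- x = y (y⁻¹ x y) y⁻¹ and y⁻¹ x y ∈ Y = ⟨C, D⟩; show conj of Y by y⁻¹ lies in X
    have hconj : ∀ w ∈ C ⊔ D, y⁻¹ * w * y ∈ A ⊔ B := by
      have hsub : C ⊔ D ≤ (A ⊔ B).comap (MulAut.conj y⁻¹).toMonoidHom := by
        apply sup_le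
        · intro c hc
          show y⁻¹ * c * y⁻¹⁻¹ ∈ A ⊔ B
          rw [inv_inv]
          rw [← hy1] at hc
          exact Subgroup.mem_sup_left ((mem_conjBy_iff A y c).mp hc)
        · intro d hd
          show y⁻¹ * d * y⁻¹⁻¹ ∈ A ⊔ B
          rw [inv_inv]
          rw [← hy2] at hd
          exact Subgroup.mem_sup_right ((mem_conjBy_iff B y d).mp hd)
      intro w hw
      have := hsub hw
      have h2 : y⁻¹ * w * y⁻¹⁻¹ ∈ A ⊔ B := this
      rwa [inv_inv] at h2
    have h1 := hconj (y * x * y⁻¹) (Subgroup.mul_mem _ (Subgroup.mul_mem _ hy hx) hy')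
    have e : y⁻¹ * (y * x * y⁻¹) * y = x := by group
    rwa [e] at h1
  refine ⟨hYeq.symm, ?_, ?_⟩
  · rw [hYeq] at hy
    exact ⟨y, hy, hy1.symm⟩
  · rw [hYeq] at hy
    have hBmem := rankOne_right_mem_unipotent hAB
    have := mem_unipotent_conj A B hBmem hy
    rwa [hy2] at this

end Cfsg.Agent.S5024
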