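import Cfsg.Statements.S5025
import Cfsg.Agent.Lib_helper25_RootSub

set_option autoImplicit false
set_option linter.style.haveILetI false
open Cfsg

namespace Cfsg.Agent.S5025

open Cfsg.Agent.helper25

theorem result {G : Type*} [Group G] {S : Set (Subgroup G)} (hS : Cfsg.IsRootSubgroupSet S)
    {A B : Subgroup G} (hA : A ∈ S) (hB : B ∈ Cfsg.rankOnePartners S A) {z : G}
    (hz : z ∈ Subgroup.centralizer ((A ⊔ B : Subgroup G) : Set G)) (hz1 : z ≠ 1) :
    ∀ a ∈ A, a ≠ 1 → z * a ∉ Cfsg.rootElements S := by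
  obtain ⟨hBS, hAB⟩ := hB
  rintro a ha ha1 ⟨hza1, E, hE, hzaE⟩
  have hzc : ∀ x ∈ A ⊔ B, x * z = z * x := fun x hx => Subgroup.mem_centralizer_iff.mp hz x hx
  have hzinv : z⁻¹ ∈ Subgroup.centralizer ((A ⊔ B : Subgroup G) : Set G) := Subgroup.inv_mem _ hz
  have hzc' : ∀ x ∈ A ⊔ B, x * z⁻¹ = z⁻¹ * x := fun x hx => Subgroup.mem_centralizer_iff.mp hzinv x hx
  -- z normalizes every subgroup of A ⊔ B
  have hzD : ∀ D : Subgroup G, D ≤ A ⊔ B → conjBy D z = D := by
    intro D hD
    ext x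
    rw [mem_conjBy_iff]
    constructor
    · intro hx
      have h1 := hzc _ (hD hx)
      have e : x = z * (z⁻¹ * x * z) * z⁻¹ := by group
      rw [e, ← h1, mul_inv_cancel_right]; exact hx
    · intro hx
      have h1 := hzc _ (hD hx)
      rw [mul_assoc, h1, inv_mul_cancel_left]; exact hx
  have hzD' : ∀ D : Subgroup G, D ≤ A ⊔ B → conjBy D z⁻¹ = D := by
    intro D hD
    have := hzD D hD
    exact ((conjBy_eq_iff D D z).mp this).symm
  have hzaD : ∀ D : Subgroup G, D ≤ A ⊔ B → conjBy D (z * a) = conjBy D a := by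
    intro D hD
    rw [← conjBy_conjBy]
    exact hzD _ (conjBy_le D _ hD (Subgroup.mem_sup_left ha))
  have hzaD' : ∀ D : Subgroup G, D ≤ A ⊔ B → conjBy D (z * a)⁻¹ = conjBy D a⁻¹ := by
    intro D hD
    rw [mul_inv_rev, ← conjBy_conjBy, hzD' D hD]
  rcases hS.pair E hE B hBS with hcomm | hrank | hcase
  · have h1 := le_normalizer_of_commutator_eq_bot hcomm hzaE
    have h2 : conjBy B (z * a) = B := (conjBy_eq_self_iff B _).mpr h1
    rw [hzaD B le_sup_right] at h2
    exact ha1 (rankOne_normalizer_left hAB ha ((conjBy_eq_self_iff B a).mp h2))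
  · obtain ⟨b, hb, -, hEb⟩ := hrank.cond_left (z * a) hzaE hza1
    rw [hzaD' B le_sup_right] at hEb
    obtain ⟨b₀, hb₀, -, hAb₀⟩ := hAB.cond_left a ha ha1
    have he : conjBy E b⁻¹ = conjBy A b₀⁻¹ := hEb.trans hAb₀.symm
    have hEeq : E = conjBy A (b * b₀⁻¹) := by
      have := (conjBy_eq_iff E _ b⁻¹).mp he
      rw [inv_inv, conjBy_conjBy] at this
      exact this
    have hbb : b * b₀⁻¹ ∈ A ⊔ B := Subgroup.mem_sup_right (B.mul_mem hb (B.inv_mem hb₀))
    have hEΩ : E ∈ unipotentSubgroups A B := by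
      rw [hEeq]; exact ⟨_, hbb, rfl⟩
    have hEle : E ≤ A ⊔ B := by
      rw [hEeq]; exact conjBy_le A _ le_sup_left hbb
    by_cases hEA : E = A
    · rw [hEA] at hzaE
      have hzA : z ∈ A := by
        have := A.mul_mem hzaE (A.inv_mem ha)
        rwa [mul_inv_cancel_right] at this
      have hzN : z ∈ Subgroup.normalizer (B : Set G) := (conjBy_eq_self_iff B z).mp (hzD B le_sup_right)
      exact hz1 (rankOne_normalizer_left hAB hzA hzN)
    · have h1 : conjBy E (z * a) = E := conjBy_of_mem E hzaE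
      rw [hzaD E hEle] at h1
      exact ha1 (rankOne_regular hAB hEΩ hEA ha h1)
  · obtain ⟨hmem, hcentral, hgen1, -⟩ := hcase
    haveI := hS.commutative B hBS
    -- every element of conjBy B (z a) commutes with B
    have hcomm : ∀ b ∈ B, ∀ b' ∈ B, b' * ((z * a) * b * (z * a)⁻¹) = ((z * a) * b * (z * a)⁻¹) * b' := by
      intro b hb b' hb'
      have hc : (z * a) * b * (z * a)⁻¹ * b⁻¹ ∈ ⁅E, B⁆ := by
        rw [← hgen1 (z * a) hzaE hza1]
        exact Subgroup.subset_closure ⟨b, hb, rfl⟩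
      have h1 := hcentral _ hc b' (Subgroup.mem_sup_right hb')
      have hbb' : b * b' = b' * b := setLike_mul_comm hb hb'
      have e1 : (z * a) * b * (z * a)⁻¹ = ((z * a) * b * (z * a)⁻¹ * b⁻¹) * b := by group
      rw [e1]
      generalize (z * a) * b * (z * a)⁻¹ * b⁻¹ = c at h1
      calc b' * (c * b) = (b' * c) * b := by rw [mul_assoc]
        _ = (c * b') * b := by rw [h1]
        _ = c * (b' * b) := by rw [mul_assoc]
        _ = c * (b * b') := by rw [hbb']
        _ = c * b * b' := by rw [mul_assoc]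
    have hnorm : B ≤ Subgroup.normalizer ((conjBy B (z * a) : Subgroup G) : Set G) := by
      intro b' hb'
      rw [Subgroup.mem_normalizer_iff]
      intro x
      constructor
      · rintro ⟨b, hb, rfl⟩
        have := hcomm b hb b' hb'
        show b' * ((z * a) * b * (z * a)⁻¹) * b'⁻¹ ∈ _
        rw [this, mul_inv_cancel_right]
        exact ⟨b, hb, rfl⟩
      · intro hx
        obtain ⟨b, hb, hbx⟩ := hx
        have h3 : (z * a) * b * (z * a)⁻¹ = b' * x * b'⁻¹ := hbx
        have := hcomm b hb b'⁻¹ (B.inv_mem hb')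
        have e : x = b'⁻¹ * (b' * x * b'⁻¹) * b'⁻¹⁻¹ := by group
        rw [e, ← h3, this, mul_inv_cancel_right]
        exact ⟨b, hb, rfl⟩
    rw [hzaD B le_sup_right] at hnorm
    have hDΩ : conjBy B a ∈ unipotentSubgroups A B :=
      conjBy_mem_unipotent_right hAB (Subgroup.mem_sup_left ha)
    have hDB : conjBy B a ≠ B := fun he =>
      ha1 (rankOne_normalizer_left hAB ha ((conjBy_eq_self_iff B a).mp he))
    exact rankOne_not_normalizes_right hAB hDΩ hDB hnorm

end Cfsg.Agent.S5025
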