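import Cfsg.Statements.S5026
import Cfsg.Agent.Lib_helper25_RootSub

set_option autoImplicit false
set_option linter.style.haveILetI false
open Cfsg

namespace Cfsg.Agent.S5026

open Cfsg.Agent.helper25

theorem result {G : Type*} [Group G] {S : Set (Subgroup G)} (hS : Cfsg.IsRootSubgroupSet S) (hdeg : Cfsg.IsDegenerateRootSet S)
    {a b : G} (ha : a ∈ Cfsg.rootElements S) (hb : b ∈ Cfsg.rootElements S) (hab : a * b = b * a) (hab1 : a * b ≠ 1) :
    Cfsg.centralizingMembers S (Subgroup.zpowers (a * b)) =
      Cfsg.centralizingMembers S (Subgroup.zpowers a) ∩ Cfsg.centralizingMembers S (Subgroup.zpowers b) := by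
  obtain ⟨ha1, A, hA, haA⟩ := ha
  obtain ⟨hb1, B, hB, hbB⟩ := hb
  ext E
  simp only [centralizingMembers, Set.mem_ofPred_eq, Set.mem_inter_iff, le_centralizer_zpowers_iff]
  constructor
  · rintro ⟨hE, hEc⟩
    -- it suffices to show E commutes with a
    suffices hEa : ∀ e ∈ E, e * a = a * e by
      refine ⟨⟨hE, hEa⟩, hE, ?_⟩
      intro e he
      have h1 := hEc e he
      have h2 := hEa e he
      have e1 : b = a⁻¹ * (a * b) := by group
      calc e * b = e * (a⁻¹ * (a * b)) := by rw [← e1]
        _ = a⁻¹ * (a * e) * a⁻¹ * (a * b) := by group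
        _ = a⁻¹ * (e * a) * a⁻¹ * (a * b) := by rw [h2]
        _ = a⁻¹ * (e * (a * b)) := by group
        _ = a⁻¹ * ((a * b) * e) := by rw [h1]
        _ = b * e := by group
    have pairEA : ⁅E, A⁆ = ⊥ ∨ IsRankOnePair E A := by
      rcases hS.pair E hE A hA with h | h | h
      · exact Or.inl h
      · exact Or.inr h
      · exact absurd h (hdeg E hE A hA)
    have pairEB : ⁅E, B⁆ = ⊥ ∨ IsRankOnePair E B := by
      rcases hS.pair E hE B hB with h | h | h
      · exact Or.inl h
      · exact Or.inr h
      · exact absurd h (hdeg E hE B hB)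
    have pairAB : ⁅A, B⁆ = ⊥ ∨ IsRankOnePair A B := by
      rcases hS.pair A hA B hB with h | h | h
      · exact Or.inl h
      · exact Or.inr h
      · exact absurd h (hdeg A hA B hB)
    rcases pairEA with hEA | hEA
    · intro e he
      exact commute_of_commutator_eq_bot hEA he haA
    rcases pairEB with hEB | hEB
    · intro e he
      have h1 := hEc e he
      have h2 : e * b = b * e := commute_of_commutator_eq_bot hEB he hbB
      have h2' : e * b⁻¹ = b⁻¹ * e := by
        have : b⁻¹ * (e * b) * b⁻¹ = b⁻¹ * (b * e) * b⁻¹ := by rw [h2]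
        have e1 : b⁻¹ * (e * b) * b⁻¹ = b⁻¹ * e := by group
        have e2 : b⁻¹ * (b * e) * b⁻¹ = e * b⁻¹ := by group
        rw [e1, e2] at this
        exact this.symm
      calc e * a = e * ((a * b) * b⁻¹) := by rw [mul_inv_cancel_right]
        _ = (e * (a * b)) * b⁻¹ := by group
        _ = ((a * b) * e) * b⁻¹ := by rw [h1]
        _ = (a * b) * (e * b⁻¹) := by group
        _ = (a * b) * (b⁻¹ * e) := by rw [h2']
        _ = a * e := by group
    -- both rank one: contradiction
    exfalso
    have hAE := RankOnePair_symm hEA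
    have hBE := RankOnePair_symm hEB
    have habN : a * b ∈ Subgroup.normalizer (E : Set G) := by
      apply Subgroup.centralizer_le_normalizer
      rw [Subgroup.mem_centralizer_iff]
      intro e he
      exact hEc e he
    have hAB : A ≠ B := by
      intro he
      rw [← he] at hbB
      exact hab1 (rankOne_normalizer_left hAE (A.mul_mem haA hbB) habN)
    have hcomm : ⁅A, B⁆ = ⊥ := by
      rcases pairAB with h | h
      · exact h
      · exfalso
        have h1 : a ∈ conjBy A b := by
          rw [mem_conjBy_iff]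
          have : b⁻¹ * a * b = a := by rw [mul_assoc, hab]; group
          rw [this]; exact haA
        have h2 : conjBy (conjBy A b) a = conjBy A b := conjBy_of_mem _ h1
        have hΩ : conjBy A b ∈ unipotentSubgroups A B :=
          conjBy_mem_unipotent_left A B (Subgroup.mem_sup_right hbB)
        by_cases h3 : conjBy A b = A
        · exact hb1 (rankOne_normalizer_right h hbB ((conjBy_eq_self_iff A b).mp h3))
        · exact ha1 (rankOne_regular h hΩ h3 haA h2)
    have h3 : conjBy E a⁻¹ = conjBy E b := by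
      have h4 : conjBy E (a * b)⁻¹ = E := (conjBy_eq_self_iff E _).mpr (Subgroup.inv_mem _ habN)
      rw [mul_inv_rev, ← conjBy_conjBy] at h4
      have := (conjBy_eq_iff _ _ b⁻¹).mp h4
      rwa [inv_inv] at this
    obtain ⟨e, he, -, hAe⟩ := hAE.cond_left a haA ha1
    have hb1' : b⁻¹ ≠ 1 := fun h => hb1 (inv_eq_one.mp h)
    obtain ⟨e', he', -, hBe⟩ := hBE.cond_left b⁻¹ (B.inv_mem hbB) hb1'
    rw [inv_inv] at hBe
    have h5 : conjBy A e⁻¹ = conjBy B e'⁻¹ := hAe.trans (h3.trans hBe.symm)
    have hAeq : A = conjBy B (e * e'⁻¹) := by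
      have := (conjBy_eq_iff A _ e⁻¹).mp h5
      rw [inv_inv, conjBy_conjBy] at this
      exact this
    have hAΩ : A ∈ unipotentSubgroups B E := by
      rw [hAeq]
      exact ⟨_, Subgroup.mem_sup_right (E.mul_mem he (E.inv_mem he')), rfl⟩
    have hcomm' : ⁅B, A⁆ = ⊥ := by rw [Subgroup.commutator_comm]; exact hcomm
    exact rankOne_not_normalizes hBE hAΩ hAB (le_normalizer_of_commutator_eq_bot hcomm')
  · rintro ⟨⟨hE, hEa⟩, -, hEb⟩
    refine ⟨hE, ?_⟩
    intro e he
    rw [← mul_assoc, hEa e he, mul_assoc, hEb e he, mul_assoc]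

end Cfsg.Agent.S5026
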