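import Cfsg.Statements.S5027
import Cfsg.Agent.Lib_helper25_RootSub

set_option autoImplicit false
set_option linter.style.haveILetI false
open Cfsg

namespace Cfsg.Agent.S5027

open Cfsg.Agent.helper25
open scoped commutatorElement

theorem result {G : Type*} [Group G] {S : Set (Subgroup G)} (hS : Cfsg.IsRootSubgroupSet S)
    (hF : ∀ A ∈ S, ¬ Cfsg.IsIsolatedIn (Cfsg.FAdj S) S A) : Subgroup.upperCentralSeries G 2 = Subgroup.center G := by
  apply le_antisymm
  swap
  · rw [← Subgroup.upperCentralSeries_one]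
    exact Subgroup.upperCentralSeries_mono G one_le_two
  intro z hz
  have hζ : ∀ x : G, z * x * z⁻¹ * x⁻¹ ∈ Subgroup.center G := by
    intro x
    have := (Subgroup.mem_upperCentralSeries_succ_iff (n := 1)).mp hz x
    rwa [Subgroup.upperCentralSeries_one, commutatorElement_def] at this
  have hcen : ∀ c ∈ Subgroup.center G, ∀ g : G, g * c = c * g := fun c hc g =>
    Subgroup.mem_center_iff.mp hc g
  -- Claim 1
  have claim1 : ∀ A ∈ S, conjBy A z = A := by
    intro A hA
    obtain ⟨B, hB, hAB⟩ := exists_partner_of_not_isolated (hF A hA) hA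
    haveI := hS.commutative A hA
    have hA'S : conjBy A z ∈ S := hS.conj_mem A hA z
    obtain ⟨a, ha, ha1⟩ := rankOne_exists_left hAB
    have ha'mem : z * a * z⁻¹ ∈ conjBy A z := conj_mem_conjBy A z ha
    have ha'1 : z * a * z⁻¹ ≠ 1 := by
      intro h
      apply ha1
      have : a = z⁻¹ * (z * a * z⁻¹) * z := by group
      rw [this, h]; group
    -- A centralizes A'
    have hP2 : A ≤ Subgroup.normalizer ((conjBy A z : Subgroup G) : Set G) := by
      apply le_trans _ (Subgroup.centralizer_le_normalizer _)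
      intro a₁ ha₁
      rw [Subgroup.mem_centralizer_iff]
      rintro _ ⟨a₂, ha₂, rfl⟩
      show z * a₂ * z⁻¹ * a₁ = a₁ * (z * a₂ * z⁻¹)
      have hc := hζ a₂
      have e : z * a₂ * z⁻¹ = (z * a₂ * z⁻¹ * a₂⁻¹) * a₂ := by group
      rw [e]
      have h12 : a₂ * a₁ = a₁ * a₂ := setLike_mul_comm ha₂ ha₁
      have h3 := hcen _ hc a₁
      generalize z * a₂ * z⁻¹ * a₂⁻¹ = c at h3
      calc c * a₂ * a₁ = c * (a₂ * a₁) := by rw [mul_assoc]
        _ = c * (a₁ * a₂) := by rw [h12]
        _ = (c * a₁) * a₂ := by rw [mul_assoc]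
        _ = (a₁ * c) * a₂ := by rw [h3]
        _ = a₁ * (c * a₂) := by rw [mul_assoc]
    rcases hS.pair _ hA'S B hB with hcomm | hrank | hcase
    · exfalso
      have hN : a ∈ Subgroup.normalizer (B : Set G) := by
        apply Subgroup.centralizer_le_normalizer
        rw [Subgroup.mem_centralizer_iff]
        intro b hb
        have h1 : (z * a * z⁻¹) * b = b * (z * a * z⁻¹) :=
          commute_of_commutator_eq_bot hcomm ha'mem hb
        have hc := hζ a
        have e : z * a * z⁻¹ = (z * a * z⁻¹ * a⁻¹) * a := by group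
        rw [e] at h1
        have h3 := hcen _ hc b
        generalize z * a * z⁻¹ * a⁻¹ = c at h1 h3
        have : c * (a * b) = c * (b * a) := by
          calc c * (a * b) = c * a * b := by rw [mul_assoc]
            _ = b * (c * a) := h1
            _ = (b * c) * a := by rw [mul_assoc]
            _ = (c * b) * a := by rw [h3]
            _ = c * (b * a) := by rw [mul_assoc]
        exact (mul_left_cancel this).symm
      exact ha1 (rankOne_normalizer_left hAB ha hN)
    · obtain ⟨b, hb, -, hA'b⟩ := hrank.cond_left _ ha'mem ha'1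
      have e : (z * a * z⁻¹)⁻¹ = (z * a * z⁻¹ * a⁻¹)⁻¹ * a⁻¹ := by
        have hc' := hcen _ (Subgroup.inv_mem _ (hζ a)) a⁻¹
        rw [← hc']; group
      rw [e, conjBy_central_mul B (Subgroup.inv_mem _ (hζ a))] at hA'b
      obtain ⟨b₀, hb₀, -, hAb₀⟩ := hAB.cond_left a ha ha1
      have he : conjBy (conjBy A z) b⁻¹ = conjBy A b₀⁻¹ := hA'b.trans hAb₀.symm
      have hA'eq : conjBy A z = conjBy A (b * b₀⁻¹) := by
        have := (conjBy_eq_iff _ _ b⁻¹).mp he
        rw [inv_inv, conjBy_conjBy] at this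
        exact this
      have hΩ : conjBy A z ∈ unipotentSubgroups A B := by
        rw [hA'eq]
        exact ⟨_, Subgroup.mem_sup_right (B.mul_mem hb (B.inv_mem hb₀)), rfl⟩
      by_contra hne
      exact rankOne_not_normalizes hAB hΩ hne hP2
    · exfalso
      obtain ⟨hmem, hcentral, hgen1, -⟩ := hcase
      haveI := hS.commutative B hB
      apply rankOne_commutators_not_central hAB (hS.commutative B hB) ha ha1
      intro b hb b' hb'
      have hc : (z * a * z⁻¹) * b * (z * a * z⁻¹)⁻¹ * b⁻¹ ∈ ⁅conjBy A z, B⁆ := by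
        rw [← hgen1 _ ha'mem ha'1]
        exact Subgroup.subset_closure ⟨b, hb, rfl⟩
      have h1 := hcentral _ hc b' (Subgroup.mem_sup_right hb')
      -- the commutator with a' equals the commutator with a
      have e2 : (z * a * z⁻¹) * b * (z * a * z⁻¹)⁻¹ * b⁻¹ = a * b * a⁻¹ * b⁻¹ := by
        have hcc := hζ a
        have e : z * a * z⁻¹ = (z * a * z⁻¹ * a⁻¹) * a := by group
        rw [e]
        have h3 := hcen _ hcc
        generalize z * a * z⁻¹ * a⁻¹ = c at h3
        have h4 : (a * b * a⁻¹) * c = c * (a * b * a⁻¹) := h3 _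
        calc c * a * b * (c * a)⁻¹ * b⁻¹ = c * (a * b * a⁻¹) * c⁻¹ * b⁻¹ := by group
          _ = (a * b * a⁻¹) * c * c⁻¹ * b⁻¹ := by rw [h4]
          _ = a * b * a⁻¹ * b⁻¹ := by group
      rw [e2] at h1
      exact h1
  -- Claim 2
  have claim2 : ∀ A ∈ S, A ≤ Subgroup.centralizer ({z} : Set G) := by
    intro A hA a ha
    obtain ⟨B, hB, hAB⟩ := exists_partner_of_not_isolated (hF A hA) hA
    have h1 : z * a * z⁻¹ ∈ A := by
      have := conj_mem_conjBy A z ha
      rwa [claim1 A hA] at this
    have h2 : z * a * z⁻¹ * a⁻¹ ∈ A := A.mul_mem h1 (A.inv_mem ha)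
    have h3 : z * a * z⁻¹ * a⁻¹ ∈ Subgroup.normalizer (B : Set G) := by
      apply Subgroup.centralizer_le_normalizer
      rw [Subgroup.mem_centralizer_iff]
      intro b _
      exact hcen _ (hζ a) b
    have h4 := rankOne_normalizer_left hAB h2 h3
    rw [Subgroup.mem_centralizer_iff]
    intro y hy
    rw [Set.mem_singleton_iff.mp hy]
    have : z * a = (z * a * z⁻¹ * a⁻¹) * (a * z) := by group
    rw [this, h4, one_mul]
  have htop : (⊤ : Subgroup G) ≤ Subgroup.centralizer ({z} : Set G) := by
    rw [← hS.generates]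
    exact iSup₂_le claim2
  rw [Subgroup.mem_center_iff]
  intro g
  have := Subgroup.mem_centralizer_iff.mp (htop (Subgroup.mem_top g)) z (Set.mem_singleton z)
  exact this.symm

end Cfsg.Agent.S5027
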