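import Cfsg.Statements.S5028
import Cfsg.Agent.Lib_helper25_RootSub

set_option autoImplicit false
open Cfsg

namespace Cfsg.Agent.S5028

open Cfsg.Agent.helper25

theorem result {G : Type*} [Group G] {S : Set (Subgroup G)} (hS : Cfsg.IsRootSubgroupSet S)
    {A : Subgroup G} (hA : ¬ Cfsg.IsIsolatedIn (Cfsg.FAdj S) S A) (hAS : A ∈ S) : ∀ B ∈ S, A ⊓ B = ⊥ ∨ A = B := by
  intro B hB
  by_contra hcon
  push Not at hcon
  obtain ⟨hne, hAB⟩ := hcon
  obtain ⟨⟨x, hxA, hxB⟩, hx1'⟩ := (Subgroup.ne_bot_iff_exists_ne_one).mp hne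
  have hx1 : x ≠ 1 := fun h => hx1' (Subtype.ext h)
  obtain ⟨C, hC, hAC⟩ := exists_partner_of_not_isolated hA hAS
  rcases hS.pair B hB C hC with hcomm | hrank | hcase
  · -- B and C commute
    have := le_normalizer_of_commutator_eq_bot hcomm hxB
    exact hx1 (rankOne_normalizer_left hAC hxA this)
  · -- (B, C) rank one
    obtain ⟨c, hc, -, hAc⟩ := hAC.cond_left x hxA hx1
    obtain ⟨c', hc', -, hBc⟩ := hrank.cond_left x hxB hx1
    have he : conjBy A c⁻¹ = conjBy B c'⁻¹ := hAc.trans hBc.symm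
    have hAeq : A = conjBy B (c * c'⁻¹) := by
      have := (conjBy_eq_iff A _ c⁻¹).mp he
      rw [inv_inv, conjBy_conjBy] at this
      exact this
    have hAΩ : A ∈ unipotentSubgroups B C := by
      rw [hAeq]
      exact ⟨_, Subgroup.mul_mem _ (Subgroup.mem_sup_right hc)
        (Subgroup.inv_mem _ (Subgroup.mem_sup_right hc')), rfl⟩
    exact hx1 (rankOne_regular hrank hAΩ hAB hxB (conjBy_of_mem A hxA))
  · -- commutator case
    obtain ⟨hmem, hcentral, hgen1, -⟩ := hcase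
    have hne' : ⁅B, C⁆ ≠ ⊥ := hS.ne_bot _ hmem
    rw [← hgen1 x hxB hx1] at hne'
    obtain ⟨d, ⟨c, hc, rfl⟩, hd1⟩ := exists_ne_one_of_closure_ne_bot hne'
    have hdmem : x * c * x⁻¹ * c⁻¹ ∈ ⁅B, C⁆ := by
      rw [← hgen1 x hxB hx1]
      exact Subgroup.subset_closure ⟨c, hc, rfl⟩
    -- d normalizes C
    have hdN : conjBy C (x * c * x⁻¹ * c⁻¹) = C := by
      rw [conjBy_eq_self_iff]
      apply Subgroup.centralizer_le_normalizer
      rw [Subgroup.mem_centralizer_iff]
      intro y hy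
      exact (hcentral _ hdmem y (Subgroup.mem_sup_right hy)).symm
    have h2 : conjBy C (x * c * x⁻¹) = C := by
      have e : x * c * x⁻¹ * c⁻¹ = (x * c * x⁻¹) * c⁻¹ := rfl
      rw [e, ← conjBy_conjBy, conjBy_of_mem C (C.inv_mem hc)] at hdN
      exact hdN
    have h3 : conjBy (conjBy C x⁻¹) c = conjBy C x⁻¹ := by
      have := congrArg (fun D => conjBy D x⁻¹) h2
      simp only [conjBy_conjBy] at this
      rw [conjBy_conjBy]
      have e : x⁻¹ * (x * c * x⁻¹) = c * x⁻¹ := by group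
      rwa [e] at this
    have hDΩ : conjBy C x⁻¹ ∈ unipotentSubgroups A C :=
      conjBy_mem_unipotent_right hAC (Subgroup.mem_sup_left (A.inv_mem hxA))
    have hDC : conjBy C x⁻¹ ≠ C := by
      intro he
      have := rankOne_normalizer_left hAC (A.inv_mem hxA) ((conjBy_eq_self_iff C _).mp he)
      exact hx1 (inv_eq_one.mp this)
    have hc1 := rankOne_regular_right hAC hDΩ hDC hc h3
    apply hd1
    rw [hc1]; group

end Cfsg.Agent.S5028
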