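import Cfsg.Statements.S5030
import Cfsg.Agent.Lib_lead_RootSub7

set_option autoImplicit false
open Cfsg

namespace Cfsg.Agent.S5030

/-- Let S be a set of abstract root subgroups of G and A, B, C ∈ S with ⁅A, B⁆ ∈ S and ⁅B, C⁆ ∈ S, where A and C are different and commute. For a non-identity b ∈ B put X = ⟨A, b⁻¹ C b⟩ and Y = ⟨b⁻¹ A b, C⟩ and R = ⟨A, B, C⟩. Then X and Y are either both abelian or both nilpotent of class exactly two; X and Y commute elementwise; XY is normal in R with R = (XY) B; and R is nilpotent. -/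
theorem result {G : Type*} [Group G] {S : Set (Subgroup G)} (hS : Cfsg.IsRootSubgroupSet S)
    {A B C : Subgroup G} (hA : A ∈ S) (hB : B ∈ S) (hC : C ∈ S) (hAB : ⁅A, B⁆ ∈ S) (hBC : ⁅B, C⁆ ∈ S)
    (hAC : C ∈ Cfsg.commutingPartners S A)
    {b : G} (hb : b ∈ B) (hb1 : b ≠ 1) :
    ((IsMulCommutative ↥(A ⊔ Cfsg.conjBy C b⁻¹) ∧ IsMulCommutative ↥(Cfsg.conjBy A b⁻¹ ⊔ C)) ∨
      ((¬ IsMulCommutative ↥(A ⊔ Cfsg.conjBy C b⁻¹) ∧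
          ⁅⁅A ⊔ Cfsg.conjBy C b⁻¹, A ⊔ Cfsg.conjBy C b⁻¹⁆, A ⊔ Cfsg.conjBy C b⁻¹⁆ = ⊥) ∧
        (¬ IsMulCommutative ↥(Cfsg.conjBy A b⁻¹ ⊔ C) ∧
          ⁅⁅Cfsg.conjBy A b⁻¹ ⊔ C, Cfsg.conjBy A b⁻¹ ⊔ C⁆, Cfsg.conjBy A b⁻¹ ⊔ C⁆ = ⊥))) ∧
    ⁅A ⊔ Cfsg.conjBy C b⁻¹, Cfsg.conjBy A b⁻¹ ⊔ C⁆ = ⊥ ∧
    (∀ r ∈ A ⊔ B ⊔ C, Cfsg.conjBy ((A ⊔ Cfsg.conjBy C b⁻¹) ⊔ (Cfsg.conjBy A b⁻¹ ⊔ C)) r =
      (A ⊔ Cfsg.conjBy C b⁻¹) ⊔ (Cfsg.conjBy A b⁻¹ ⊔ C)) ∧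
    ((A ⊔ Cfsg.conjBy C b⁻¹) ⊔ (Cfsg.conjBy A b⁻¹ ⊔ C)) ⊔ B = A ⊔ B ⊔ C ∧
    Group.IsNilpotent ↥(A ⊔ B ⊔ C) := by
  classical
  obtain ⟨_, _, hcomm⟩ := hAC
  have hBC' : ⁅C, B⁆ ∈ S := by
    rw [Subgroup.commutator_comm]
    exact hBC
  have k : Cfsg.Agent.lead.RS30 S A B C :=
    ⟨hS, hA, hB, hC, Cfsg.Agent.lead.rs_cc_of_mem hS hA hB hAB,
      Cfsg.Agent.lead.rs_cc_of_mem hS hC hB hBC',
      fun a ha c hc => Cfsg.Agent.helper25.commute_of_commutator_eq_bot hcomm ha hc⟩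
  have hbi : b⁻¹ ∈ B := B.inv_mem hb
  have hbi1 : b⁻¹ ≠ 1 := fun h0 => hb1 (inv_eq_one.mp h0)
  have hYeq : Cfsg.conjBy A b⁻¹ ⊔ C = C ⊔ Cfsg.conjBy A b⁻¹ := sup_comm _ _
  have hNeq : ⁅B, C⁆ = ⁅C, B⁆ := Subgroup.commutator_comm B C
  refine ⟨?_, k.XY_comm hbi, ?_, k.W_sup_B hbi, k.nilpotent⟩
  · by_cases h : ⁅A, ⁅C, B⁆⁆ = ⊥
    · left
      refine ⟨Cfsg.Agent.lead.rs_isMulComm_of (k.X_comm_of_bot h hbi), ?_⟩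
      rw [hYeq]
      exact Cfsg.Agent.lead.rs_isMulComm_of (k.swap.X_comm_of_bot (k.z_bot h) hbi)
    · right
      have h' : ⁅C, ⁅A, B⁆⁆ ≠ ⊥ := fun h0 => h (k.swap.z_bot h0)
      refine ⟨⟨?_, k.X_class2 hbi⟩, ⟨?_, ?_⟩⟩
      · intro hI
        exact k.X_not_comm h hbi hbi1 (fun x hx y hy => setLike_mul_comm hx hy)
      · rw [hYeq]
        intro hI
        exact k.swap.X_not_comm h' hbi hbi1 (fun x hx y hy => setLike_mul_comm hx hy)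
      · rw [hYeq]
        exact k.swap.X_class2 hbi
  · intro r hr
    exact (Cfsg.Agent.helper25.conjBy_eq_self_iff _ r).mpr (k.W_normal hbi hbi1 hr)

end Cfsg.Agent.S5030
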