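import Cfsg.Statements.S5031
import Cfsg.Agent.Lib_lead_RootSub4

set_option autoImplicit false
open Cfsg

namespace Cfsg.Agent.S5031

/-- Let S be a set of abstract root subgroups of G and let A, B ∈ S lie in different connected components of the graph of rank one pairs on S, each component having more than one member. Then B is not a line partner of A. -/
theorem result {G : Type*} [Group G] {S : Set (Subgroup G)} (hS : Cfsg.IsRootSubgroupSet S)
    {A B : Subgroup G} (hA : A ∈ S) (hB : B ∈ S)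
    (hne : Cfsg.componentOf (Cfsg.FAdj S) S A ≠ Cfsg.componentOf (Cfsg.FAdj S) S B)
    (hA2 : ∃ A' ∈ Cfsg.componentOf (Cfsg.FAdj S) S A, A' ≠ A) (hB2 : ∃ B' ∈ Cfsg.componentOf (Cfsg.FAdj S) S B, B' ≠ B) :
    B ∉ Cfsg.linePartners S A := by
  classical
  intro hBL
  obtain ⟨⟨_, hBA, hcomm⟩, hpart⟩ := hBL
  obtain ⟨A', hA', hA'ne⟩ := hA2
  obtain ⟨B', hB', hB'ne⟩ := hB2
  obtain ⟨C, hAC⟩ : ∃ C, Cfsg.FAdj S A C := by
    rcases Relation.ReflTransGen.cases_head hA'.2 with h | ⟨C, hAC, _⟩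
    · exact absurd h.symm hA'ne
    · exact ⟨C, hAC⟩
  obtain ⟨C', hBC'⟩ : ∃ C', Cfsg.FAdj S B C' := by
    rcases Relation.ReflTransGen.cases_head hB'.2 with h | ⟨C', hBC', _⟩
    · exact absurd h.symm hB'ne
    · exact ⟨C', hBC'⟩
  have hABc : ∀ a ∈ A, ∀ b ∈ B, a * b = b * a := fun a ha b hb =>
    Cfsg.Agent.helper25.commute_of_commutator_eq_bot hcomm ha hb
  have hBAc : ∀ b ∈ B, ∀ a ∈ A, b * a = a * b := fun b hb a ha => (hABc a ha b hb).symm
  obtain ⟨a, ha, ha1⟩ := (A.bot_or_exists_ne_one).resolve_left (hS.ne_bot A hA)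
  obtain ⟨b, hb, hb1⟩ := (B.bot_or_exists_ne_one).resolve_left (hS.ne_bot B hB)
  have hAm : A ∈ Cfsg.membersIn S (A ⊔ B) := ⟨hA, le_sup_left⟩
  have hBm : B ∈ Cfsg.membersIn S (A ⊔ B) := ⟨hB, le_sup_right⟩
  have hdisj : A ⊓ B = ⊥ := hpart.2.2 A hAm B hBm (fun h => hBA h.symm)
  have hy : a * b ∈ A ⊔ B := Subgroup.mul_mem _ (Subgroup.mem_sup_left ha) (Subgroup.mem_sup_right hb)
  have hy1 : a * b ≠ 1 := by
    intro h0
    have haB : a ∈ B := by
      have : a = b⁻¹ := eq_inv_of_mul_eq_one_left h0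
      rw [this]
      exact B.inv_mem hb
    have : a ∈ A ⊓ B := ⟨ha, haB⟩
    rw [hdisj, Subgroup.mem_bot] at this
    exact ha1 this
  obtain ⟨E, ⟨hE, _⟩, hyE⟩ := hpart.2.1 (a * b) hy hy1
  have hnr1 : ¬ Cfsg.IsRankOnePair C B := by
    intro hr
    apply hne
    exact Cfsg.Agent.lead.rs_comp_eq
      ((Relation.ReflTransGen.single hAC).tail ⟨hAC.2.1, hB, hr⟩)
  have hnr2 : ¬ Cfsg.IsRankOnePair C' A := by
    intro hr
    apply hne
    exact (Cfsg.Agent.lead.rs_comp_eq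
      ((Relation.ReflTransGen.single hBC').tail ⟨hBC'.2.1, hA, hr⟩)).symm
  have hEC : Cfsg.IsRankOnePair E C :=
    Cfsg.Agent.lead.rs_lemmaH hS hB hAC.2.1 hE hAC.2.2 hABc hnr1 ha ha1 hb hyE
  have hyE' : b * a ∈ E := by
    rw [← hABc a ha b hb]
    exact hyE
  have hEC' : Cfsg.IsRankOnePair E C' :=
    Cfsg.Agent.lead.rs_lemmaH hS hA hBC'.2.1 hE hBC'.2.2 hBAc hnr2 hb hb1 ha hyE'
  apply hne
  calc Cfsg.componentOf (Cfsg.FAdj S) S A
      = Cfsg.componentOf (Cfsg.FAdj S) S C :=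
        Cfsg.Agent.lead.rs_comp_eq_of_rankOne hA hAC.2.1 hAC.2.2
    _ = Cfsg.componentOf (Cfsg.FAdj S) S E :=
        (Cfsg.Agent.lead.rs_comp_eq_of_rankOne hE hAC.2.1 hEC).symm
    _ = Cfsg.componentOf (Cfsg.FAdj S) S C' :=
        Cfsg.Agent.lead.rs_comp_eq_of_rankOne hE hBC'.2.1 hEC'
    _ = Cfsg.componentOf (Cfsg.FAdj S) S B :=
        (Cfsg.Agent.lead.rs_comp_eq_of_rankOne hB hBC'.2.1 hBC'.2.2).symm

end Cfsg.Agent.S5031
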