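import Cfsg.Statements.S5032
import Cfsg.Agent.Lib_lead_RootSub4
import Cfsg.Agent.S5029
import Cfsg.Agent.S5031

set_option autoImplicit false
open Cfsg

namespace Cfsg.Agent.S5032

/-- Let S be a set of abstract root subgroups of G with more than one member. Then the graph of rank one pairs on S is connected if and only if S is a single conjugacy class of G and some member of S has a rank one partner in S. -/
theorem result {G : Type*} [Group G] {S : Set (Subgroup G)} (hS : Cfsg.IsRootSubgroupSet S) (h2 : ∃ A ∈ S, ∃ B ∈ S, A ≠ B) :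
    Cfsg.IsConnectedFamily (Cfsg.FAdj S) S ↔
      (Cfsg.IsConjClassOfSubgroups S ∧ ∃ A ∈ S, ¬ Cfsg.IsIsolatedIn (Cfsg.FAdj S) S A) := by
  classical
  constructor
  · intro hconn
    obtain ⟨A, hA, B, hB, hAB⟩ := h2
    refine ⟨⟨⟨A, hA⟩, ?_⟩, A, hA, ?_⟩
    · intro X hX Y hY
      exact Cfsg.Agent.lead.rs_conj_of_path (hconn X hX Y hY)
    · rintro ⟨_, hiso⟩
      rcases Relation.ReflTransGen.cases_head (hconn A hA B hB) with h | ⟨C, hAC, _⟩
      · exact hAB h
      · exact (hiso C).1 hAC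
  · rintro ⟨⟨_, hconj⟩, A₀, hA₀, hni⟩
    have hpartner : ∀ X ∈ S, ∃ D ∈ S, Cfsg.IsRankOnePair X D := by
      intro X hX
      obtain ⟨D₀, hD₀, hr₀⟩ := Cfsg.Agent.helper25.exists_partner_of_not_isolated hni hA₀
      obtain ⟨g, rfl⟩ := hconj A₀ hA₀ X hX
      exact ⟨Cfsg.conjBy D₀ g, hS.conj_mem D₀ hD₀ g, Cfsg.Agent.lead.rs_rankOne_conj hr₀ g⟩
    have hnotiso : ∀ X ∈ S, ¬ Cfsg.IsIsolatedIn (Cfsg.FAdj S) S X := by
      rintro X hX ⟨_, hiso⟩
      obtain ⟨D, hD, hr⟩ := hpartner X hX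
      exact (hiso D).1 ⟨hX, hD, hr⟩
    have hcomp2 : ∀ X ∈ S, ∃ X' ∈ Cfsg.componentOf (Cfsg.FAdj S) S X, X' ≠ X := by
      intro X hX
      obtain ⟨D, hD, hr⟩ := hpartner X hX
      exact ⟨D, ⟨hD, Relation.ReflTransGen.single ⟨hX, hD, hr⟩⟩, hr.ne.symm⟩
    have hstep : ∀ A ∈ S, ∀ E ∈ S, ∀ e ∈ E,
        Relation.ReflTransGen (Cfsg.FAdj S) A (Cfsg.conjBy A e) := by
      intro A hA E hE e he
      rcases hS.pair A hA E hE with hc | hr | hcc
      · exact Cfsg.Agent.lead.rs_rtg_of_eq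
          (Cfsg.Agent.lead.rs_conjBy_of_commute A e
            (fun a ha => Cfsg.Agent.helper25.commute_of_commutator_eq_bot hc ha he)).symm
      · have h1 : Cfsg.FAdj S A E := ⟨hA, hE, hr⟩
        have h2 : Cfsg.IsRankOnePair (Cfsg.conjBy A e) E := by
          have := Cfsg.Agent.lead.rs_rankOne_conj hr e
          rwa [Cfsg.Agent.helper25.conjBy_of_mem E he] at this
        exact (Relation.ReflTransGen.single h1).tail
          ⟨hE, hS.conj_mem A hA e, Cfsg.RankOnePair_symm h2⟩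
      · have hM : ⁅A, E⁆ ∈ S := hcc.1
        have hL1 : A ∈ Cfsg.linePartners S ⁅A, E⁆ :=
          (Cfsg.Agent.S5029.result hS (hnotiso A hA) hA hE hM).2.2.1
        have hA' : Cfsg.conjBy A e ∈ S := hS.conj_mem A hA e
        have hMe : ⁅Cfsg.conjBy A e, E⁆ = ⁅A, E⁆ := by
          have h3 : Cfsg.conjBy ⁅A, E⁆ e = ⁅Cfsg.conjBy A e, Cfsg.conjBy E e⁆ :=
            Subgroup.map_commutator A E _
          rw [Cfsg.Agent.helper25.conjBy_of_mem E he] at h3
          rw [← h3]
          exact Cfsg.Agent.lead.rs_conjBy_of_commute _ e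
            (fun m hm => Cfsg.Agent.lead.rs_cc_comm_right hcc hm he)
        have hM' : ⁅Cfsg.conjBy A e, E⁆ ∈ S := by
          rw [hMe]
          exact hM
        have hL2 : Cfsg.conjBy A e ∈ Cfsg.linePartners S ⁅A, E⁆ := by
          have := (Cfsg.Agent.S5029.result hS (hnotiso _ hA') hA' hE hM').2.2.1
          rwa [hMe] at this
        have e1 : Cfsg.componentOf (Cfsg.FAdj S) S ⁅A, E⁆ = Cfsg.componentOf (Cfsg.FAdj S) S A := by
          by_contra hne
          exact Cfsg.Agent.S5031.result hS hM hA hne (hcomp2 _ hM) (hcomp2 _ hA) hL1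
        have e2 : Cfsg.componentOf (Cfsg.FAdj S) S ⁅A, E⁆ =
            Cfsg.componentOf (Cfsg.FAdj S) S (Cfsg.conjBy A e) := by
          by_contra hne
          exact Cfsg.Agent.S5031.result hS hM hA' hne (hcomp2 _ hM) (hcomp2 _ hA') hL2
        have hmem : Cfsg.conjBy A e ∈ Cfsg.componentOf (Cfsg.FAdj S) S A := by
          rw [← e1, e2]
          exact ⟨hA', Relation.ReflTransGen.refl⟩
        exact hmem.2
    have hall : ∀ g : G, ∀ A ∈ S, Relation.ReflTransGen (Cfsg.FAdj S) A (Cfsg.conjBy A g) := by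
      intro g
      have hg : g ∈ (⨆ A ∈ S, A : Subgroup G) := by
        rw [hS.generates]
        exact Subgroup.mem_top g
      refine Subgroup.iSup_induction
        (C := fun g => ∀ A ∈ S, Relation.ReflTransGen (Cfsg.FAdj S) A (Cfsg.conjBy A g)) _ hg ?_ ?_ ?_
      · intro E x hx A hA
        by_cases hE : E ∈ S
        · rw [iSup_pos hE] at hx
          exact hstep A hA E hE x hx
        · rw [iSup_neg hE, Subgroup.mem_bot] at hx
          subst hx
          exact Cfsg.Agent.lead.rs_rtg_of_eq (Cfsg.Agent.helper25.conjBy_one A).symm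
      · intro A _
        exact Cfsg.Agent.lead.rs_rtg_of_eq (Cfsg.Agent.helper25.conjBy_one A).symm
      · intro x y hx hy A hA
        rw [← Cfsg.Agent.helper25.conjBy_conjBy A y x]
        exact (hy A hA).trans (hx _ (hS.conj_mem A hA y))
    intro A hA B hB
    obtain ⟨g, rfl⟩ := hconj A hA B hB
    exact hall g A hA

end Cfsg.Agent.S5032
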