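import Cfsg.Statements.S5034
import Cfsg.Agent.Lib_lead_RootSub10

set_option autoImplicit false
open Cfsg

namespace Cfsg.Agent.S5034

/-- Let S be a non-degenerate class of abstract root subgroups of G, A ∈ S and B a rank one partner of A. Then some line partner C of A has ⁅B, C⁆ ∈ S, and the rank one pair A, B is special. -/
theorem result {G : Type*} [Group G] {S : Set (Subgroup G)} (hS : Cfsg.IsRootSubgroupClass S) (hnd : Cfsg.IsNondegenerateRootSet S)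
    {A B : Subgroup G} (hA : A ∈ S) (hB : B ∈ Cfsg.rankOnePartners S A) :
    (∃ C ∈ Cfsg.linePartners S A, C ∈ Cfsg.commutatorPartners S B) ∧ Cfsg.IsSpecialRankOnePair A B := by
  classical
  obtain ⟨hset, hcls⟩ := hS
  obtain ⟨hBS, hAB⟩ := hB
  obtain ⟨_, _, ⟨A₀, hA₀, D₀, hD₀, hcc₀⟩⟩ := hnd
  have hpartner : ∀ X ∈ S, ∃ D ∈ S, Cfsg.IsRankOnePair X D := by
    intro X hX
    obtain ⟨g, rfl⟩ := hcls.2 A hA X hX
    exact ⟨Cfsg.conjBy B g, hset.conj_mem B hBS g, Cfsg.Agent.lead.rs_rankOne_conj hAB g⟩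
  obtain ⟨D, hD, hccAD⟩ : ∃ D ∈ S, Cfsg.RootCommutatorCase S A D := by
    obtain ⟨g, rfl⟩ := hcls.2 A₀ hA₀ A hA
    refine ⟨Cfsg.conjBy D₀ g, hset.conj_mem D₀ hD₀ g, ?_⟩
    apply Cfsg.Agent.lead.rs_cc_of_mem hset hA (hset.conj_mem D₀ hD₀ g)
    have h3 : Cfsg.conjBy ⁅A₀, D₀⁆ g = ⁅Cfsg.conjBy A₀ g, Cfsg.conjBy D₀ g⁆ :=
      Subgroup.map_commutator A₀ D₀ _
    rw [← h3]
    exact hset.conj_mem _ hcc₀.1 g
  obtain ⟨C, hCL, hBC⟩ := Cfsg.Agent.lead.rs_claimX hset hA hBS hD hAB hccAD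
  have hC : C ∈ S := hCL.1.1
  refine ⟨⟨C, hCL, hC, hBC⟩, hAB, ?_⟩
  have hcc : Cfsg.RootCommutatorCase S C B := by
    apply Cfsg.Agent.lead.rs_cc_of_mem hset hC hBS
    rw [Subgroup.commutator_comm]
    exact hBC
  obtain ⟨hccAK, hPC⟩ := Cfsg.Agent.lead.rs_23 hset hpartner hA hBS hAB hCL hcc
  exact Cfsg.Agent.lead.rs_special hset hA hBS hC hAB
    (fun a ha c hc => Cfsg.Agent.helper25.commute_of_commutator_eq_bot hCL.1.2.2 ha hc) hcc hccAK hPC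

end Cfsg.Agent.S5034
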