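import Cfsg.Statements.S5038
import Cfsg.Agent.Lib_lead_RootSub11

set_option autoImplicit false
open Cfsg

namespace Cfsg.Agent.lead

open Cfsg.Agent.helper25

/-- A line `A ⊔ B` contains a member of `S` different from both `A` and `B`. -/
theorem rs_third_member {G : Type*} [Group G] {S : Set (Subgroup G)} (hS : IsRootSubgroupSet S)
    {A B : Subgroup G} (hA : A ∈ S) (hBL : B ∈ linePartners S A) :
    ∃ E ∈ membersIn S (A ⊔ B), E ≠ A ∧ E ≠ B := by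
  obtain ⟨⟨hB, hBA, hbot⟩, hpart⟩ := hBL
  have hAm : A ∈ membersIn S (A ⊔ B) := ⟨hA, le_sup_left⟩
  have hBm : B ∈ membersIn S (A ⊔ B) := ⟨hB, le_sup_right⟩
  have hdAB : A ⊓ B = ⊥ := hpart.2.2 A hAm B hBm (Ne.symm hBA)
  obtain ⟨a₀, ha₀, ha₀1⟩ := (A.bot_or_exists_ne_one).resolve_left (hS.ne_bot A hA)
  obtain ⟨b₀, hb₀, hb₀1⟩ := (B.bot_or_exists_ne_one).resolve_left (hS.ne_bot B hB)
  have hy1 : a₀ * b₀ ≠ 1 := by
    intro h0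
    have h1 : a₀ = b₀⁻¹ := eq_inv_of_mul_eq_one_left h0
    have h2 : a₀ ∈ A ⊓ B := ⟨ha₀, by rw [h1]; exact B.inv_mem hb₀⟩
    rw [hdAB, Subgroup.mem_bot] at h2
    exact ha₀1 h2
  obtain ⟨E, hEm, hyE⟩ := hpart.2.1 (a₀ * b₀)
    (Subgroup.mul_mem _ (Subgroup.mem_sup_left ha₀) (Subgroup.mem_sup_right hb₀)) hy1
  refine ⟨E, hEm, ?_, ?_⟩
  · intro h1
    rw [h1] at hyE
    have h2 : b₀ ∈ A := by
      have h3 := A.mul_mem (A.inv_mem ha₀) hyE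
      rwa [inv_mul_cancel_left] at h3
    have h3 : b₀ ∈ A ⊓ B := ⟨h2, hb₀⟩
    rw [hdAB, Subgroup.mem_bot] at h3
    exact hb₀1 h3
  · intro h1
    rw [h1] at hyE
    have h2 : a₀ ∈ B := by
      have h3 := B.mul_mem hyE (B.inv_mem hb₀)
      rwa [mul_inv_cancel_right] at h3
    have h3 : a₀ ∈ A ⊓ B := ⟨ha₀, h2⟩
    rw [hdAB, Subgroup.mem_bot] at h3
    exact ha₀1 h3

/-- Two line centers with different centers, acting inside a subgroup `Nt` of the normalizer, give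
double transitivity on the members inside `N`, provided there is a third member. -/
theorem rs_two_transitive {G : Type*} [Group G] {S : Set (Subgroup G)} (hS : IsRootSubgroupSet S)
    {N Nt M₀ K₀ M₁ K₁ E₃ : Subgroup G}
    (lc₀ : LineCenter S N M₀ K₀) (lc₁ : LineCenter S N M₁ K₁) (hne : M₁ ≠ M₀)
    (hE₃ : E₃ ∈ membersIn S N) (h30 : E₃ ≠ M₀) (h31 : E₃ ≠ M₁)
    (hK₀ : K₀ ≤ Nt) (hK₁ : K₁ ≤ Nt) (hNt : Nt ≤ Subgroup.normalizer (N : Set G)) :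
    ∀ C₁ ∈ membersIn S N, ∀ C₂ ∈ membersIn S N, ∀ D₁ ∈ membersIn S N,
      ∀ D₂ ∈ membersIn S N, C₁ ≠ C₂ → D₁ ≠ D₂ →
        ∃ x ∈ Nt, conjBy C₁ x = D₁ ∧ conjBy C₂ x = D₂ := by
  classical
  have hM₀m : M₀ ∈ membersIn S N := ⟨lc₀.hM, lc₀.hMN⟩
  have hM₁m : M₁ ∈ membersIn S N := ⟨lc₁.hM, lc₁.hMN⟩
  have hconjm : ∀ x ∈ Nt, ∀ C ∈ membersIn S N, conjBy C x ∈ membersIn S N := by
    intro x hx C hC
    refine ⟨hS.conj_mem C hC.1 x, ?_⟩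
    rintro _ ⟨y, hy, rfl⟩
    exact rs_conj_mem_of_normalizer (hNt hx) (hC.2 hy)
  have hmove : ∀ C ∈ membersIn S N, ∃ x ∈ Nt, conjBy C x = M₀ := by
    intro C hC
    by_cases h0 : C = M₀
    · exact ⟨1, Nt.one_mem, by rw [h0, conjBy_one]⟩
    · by_cases h1 : C = M₁
      · obtain ⟨k, hk, hkc⟩ := lc₀.trans M₁ hM₁m E₃ hE₃ hne h30
        obtain ⟨k', hk', hkc'⟩ := lc₁.trans E₃ hE₃ M₀ hM₀m h31 (Ne.symm hne)
        refine ⟨k' * k, Nt.mul_mem (hK₁ hk') (hK₀ hk), ?_⟩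
        rw [h1, ← conjBy_conjBy, hkc, hkc']
      · obtain ⟨k, hk, hkc⟩ := lc₁.trans C hC M₀ hM₀m h1 (Ne.symm hne)
        exact ⟨k, hK₁ hk, hkc⟩
  intro C₁ hC₁ C₂ hC₂ D₁ hD₁ D₂ hD₂ hC hD
  obtain ⟨x₁, hx₁, hxc⟩ := hmove C₁ hC₁
  obtain ⟨y₁, hy₁, hyc⟩ := hmove D₁ hD₁
  have hC₂' : conjBy C₂ x₁ ≠ M₀ := by
    intro h0
    exact hC (conjBy_inj C₁ C₂ x₁ (hxc.trans h0.symm))
  have hD₂' : conjBy D₂ y₁ ≠ M₀ := by
    intro h0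
    exact hD (conjBy_inj D₁ D₂ y₁ (hyc.trans h0.symm))
  obtain ⟨k, hk, hkc⟩ := lc₀.trans _ (hconjm x₁ hx₁ C₂ hC₂) _ (hconjm y₁ hy₁ D₂ hD₂) hC₂' hD₂'
  have hexp : ∀ C : Subgroup G,
      conjBy C (y₁⁻¹ * k * x₁) = conjBy (conjBy (conjBy C x₁) k) y₁⁻¹ := by
    intro C
    rw [conjBy_conjBy, conjBy_conjBy]
  refine ⟨y₁⁻¹ * k * x₁, Nt.mul_mem (Nt.mul_mem (Nt.inv_mem hy₁) (hK₀ hk)) hx₁, ?_, ?_⟩
  · rw [hexp, hxc, lc₀.fix k hk]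
    exact ((conjBy_eq_iff D₁ M₀ y₁).mp hyc).symm
  · rw [hexp, hkc]
    exact ((conjBy_eq_iff D₂ _ y₁).mp rfl).symm

end Cfsg.Agent.lead

namespace Cfsg.Agent.S5038

open Cfsg.Agent.helper25 Cfsg.Agent.lead

/-- Let S be a set of abstract root subgroups of G in which every member has a rank one partner, A ∈ S and B a line partner of A. Then the subgroup generated by the members of S normalizing AB permutes the members of S inside AB doubly transitively by conjugation. -/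
theorem result {G : Type*} [Group G] {S : Set (Subgroup G)} (hS : Cfsg.IsRootSubgroupSet S)
    (hF : ∀ A ∈ S, ¬ Cfsg.IsIsolatedIn (Cfsg.FAdj S) S A) {A B : Subgroup G} (hA : A ∈ S) (hB : B ∈ Cfsg.linePartners S A) :
    ∀ C₁ ∈ Cfsg.membersIn S (A ⊔ B), ∀ C₂ ∈ Cfsg.membersIn S (A ⊔ B), ∀ D₁ ∈ Cfsg.membersIn S (A ⊔ B),
      ∀ D₂ ∈ Cfsg.membersIn S (A ⊔ B), C₁ ≠ C₂ → D₁ ≠ D₂ →
        ∃ x ∈ ⨆ E ∈ Cfsg.normalizingMembers S (A ⊔ B), E, Cfsg.conjBy C₁ x = D₁ ∧ Cfsg.conjBy C₂ x = D₂ := by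
  classical
  have hpartner : ∀ X ∈ S, ∃ D ∈ S, IsRankOnePair X D :=
    fun X hX => exists_partner_of_not_isolated (hF X hX) hX
  have hB' := hB
  obtain ⟨⟨hBS, hBA, hbot⟩, hpart⟩ := hB'
  have hABc : ∀ a ∈ A, ∀ b ∈ B, a * b = b * a :=
    fun a ha b hb => commute_of_commutator_eq_bot hbot ha hb
  have hAA : ∀ a ∈ A, ∀ a' ∈ A, a * a' = a' * a := by
    intro a ha a' ha'
    have := hS.commutative _ hA
    exact setLike_mul_comm ha ha'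
  have hBB : ∀ b ∈ B, ∀ b' ∈ B, b * b' = b' * b := by
    intro b hb b' hb'
    have := hS.commutative _ hBS
    exact setLike_mul_comm hb hb'
  have hNc : ∀ x ∈ A ⊔ B, ∀ y ∈ A ⊔ B, x * y = y * x := rs_sup_comm hAA hBB hABc
  obtain ⟨F, hFS, hAF⟩ := hpartner A hA
  obtain ⟨M₀, K₀, lc₀, hM₀A, hM₀m⟩ := rs_exists_center hS hpartner hA hB hFS hAF
  have hspan0 : A ⊔ M₀ = A ⊔ B := lc₀.span A ⟨hA, le_sup_left⟩ (Ne.symm hM₀A)
  have hN' : M₀ ⊔ A = A ⊔ B := by rw [sup_comm]; exact hspan0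
  have hAL : A ∈ linePartners S M₀ := by
    refine ⟨⟨hA, Ne.symm hM₀A, ?_⟩, ?_⟩
    · rw [Subgroup.commutator_eq_bot_iff_le_centralizer]
      intro m hm
      rw [Subgroup.mem_centralizer_iff]
      intro a ha
      exact hNc a (Subgroup.mem_sup_left ha) m (hM₀m.2 hm)
    · rw [hN']
      exact hpart
  obtain ⟨F', hF'S, hM₀F'⟩ := hpartner M₀ hM₀m.1
  obtain ⟨M₁, K₁, lc₁, hM₁M₀, _⟩ := rs_exists_center hS hpartner hM₀m.1 hAL hF'S hM₀F'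
  rw [hN'] at lc₁
  -- a third member
  have hthird : ∃ E₃ ∈ membersIn S (A ⊔ B), E₃ ≠ M₀ ∧ E₃ ≠ M₁ := by
    by_cases h1 : A = M₁
    · by_cases h2 : B = M₀
      · obtain ⟨E, hEm, hEA, hEB⟩ := rs_third_member hS hA hB
        exact ⟨E, hEm, h2 ▸ hEB, h1 ▸ hEA⟩
      · exact ⟨B, ⟨hBS, le_sup_right⟩, h2, h1 ▸ hBA⟩
    · exact ⟨A, ⟨hA, le_sup_left⟩, Ne.symm hM₀A, h1⟩
  obtain ⟨E₃, hE₃, h30, h31⟩ := hthird
  have hK₀ : K₀ ≤ ⨆ E ∈ normalizingMembers S (A ⊔ B), E :=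
    le_biSup (fun E : Subgroup G => E) (show K₀ ∈ normalizingMembers S (A ⊔ B) from ⟨lc₀.hK, lc₀.hKN⟩)
  have hK₁ : K₁ ≤ ⨆ E ∈ normalizingMembers S (A ⊔ B), E :=
    le_biSup (fun E : Subgroup G => E) (show K₁ ∈ normalizingMembers S (A ⊔ B) from ⟨lc₁.hK, lc₁.hKN⟩)
  have hNt : (⨆ E ∈ normalizingMembers S (A ⊔ B), E) ≤ Subgroup.normalizer ((A ⊔ B : Subgroup G) : Set G) :=
    iSup₂_le (fun E hE => hE.2)
  exact rs_two_transitive hS lc₀ lc₁ hM₁M₀ hE₃ h30 h31 hK₀ hK₁ hNt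

end Cfsg.Agent.S5038
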