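import Cfsg.Statements.S5041
import Cfsg.Agent.Lib_lead_RootSub8
import Cfsg.Agent.S5032

set_option autoImplicit false
open Cfsg

namespace Cfsg.Agent.S5041

/-- Let S be a non-degenerate class of abstract root subgroups of G. Then the graph on S joining A to its line partners, and the commuting graph on S, are both connected. -/
theorem result {G : Type*} [Group G] {S : Set (Subgroup G)} (hS : Cfsg.IsRootSubgroupClass S) (hnd : Cfsg.IsNondegenerateRootSet S) :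
    Cfsg.IsConnectedFamily (Cfsg.EAdj S S) S ∧ Cfsg.IsConnectedFamily (Cfsg.DAdj S) S := by
  classical
  obtain ⟨hset, hcls⟩ := hS
  obtain ⟨_, ⟨A₁, hA₁, B₁, hB₁, hr₁⟩, ⟨A₀, hA₀, D₀, hD₀, hcc₀⟩⟩ := hnd
  have hpartner : ∀ X ∈ S, ∃ D ∈ S, Cfsg.IsRankOnePair X D := by
    intro X hX
    obtain ⟨g, rfl⟩ := hcls.2 A₁ hA₁ X hX
    exact ⟨Cfsg.conjBy B₁ g, hset.conj_mem B₁ hB₁ g, Cfsg.Agent.lead.rs_rankOne_conj hr₁ g⟩
  have hnotiso : ∀ X ∈ S, ¬ Cfsg.IsIsolatedIn (Cfsg.FAdj S) S X := by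
    intro X hX
    obtain ⟨D, hD, hr⟩ := hpartner X hX
    exact Cfsg.Agent.lead.rs_not_isolated_of_partner hX hD hr
  have hΨ : ∀ X ∈ S, ∃ D ∈ S, Cfsg.RootCommutatorCase S X D := by
    intro X hX
    obtain ⟨g, rfl⟩ := hcls.2 A₀ hA₀ X hX
    refine ⟨Cfsg.conjBy D₀ g, hset.conj_mem D₀ hD₀ g, ?_⟩
    apply Cfsg.Agent.lead.rs_cc_of_mem hset hX (hset.conj_mem D₀ hD₀ g)
    have h3 : Cfsg.conjBy ⁅A₀, D₀⁆ g = ⁅Cfsg.conjBy A₀ g, Cfsg.conjBy D₀ g⁆ :=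
      Subgroup.map_commutator A₀ D₀ _
    rw [← h3]
    exact hset.conj_mem _ hcc₀.1 g
  have hF : Cfsg.IsConnectedFamily (Cfsg.FAdj S) S :=
    (Cfsg.Agent.S5032.result hset ⟨A₁, hA₁, B₁, hB₁, hr₁.ne⟩).mpr ⟨hcls, A₁, hA₁, hnotiso A₁ hA₁⟩
  have hedge : ∀ X Y, Cfsg.FAdj S X Y → Relation.ReflTransGen (Cfsg.EAdj S S) X Y := by
    rintro X Y ⟨hX, hY, hXY⟩
    obtain ⟨D, hD, hcc⟩ := hΨ X hX
    obtain ⟨C, hCL, hYC⟩ := Cfsg.Agent.lead.rs_claimX hset hX hY hD hXY hcc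
    have hC : C ∈ S := hCL.1.1
    have hCY : ⁅C, Y⁆ ∈ S := by
      rw [Subgroup.commutator_comm]
      exact hYC
    have hK1 : C ∈ Cfsg.linePartners S ⁅C, Y⁆ :=
      (Cfsg.Agent.S5029.result hset (hnotiso C hC) hC hY hCY).2.2.1
    have hK2 : Y ∈ Cfsg.linePartners S ⁅C, Y⁆ := by
      have := (Cfsg.Agent.S5029.result hset (hnotiso Y hY) hY hC hYC).2.2.1
      rwa [Subgroup.commutator_comm Y C] at this
    have s1 : Cfsg.EAdj S S X C := ⟨hX, hC, hCL⟩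
    have s2 : Cfsg.EAdj S S C ⁅C, Y⁆ := ⟨hC, hCY, Cfsg.Agent.lead.rs_linePartners_symm hCY hK1⟩
    have s3 : Cfsg.EAdj S S ⁅C, Y⁆ Y := ⟨hCY, hY, hK2⟩
    exact ((Relation.ReflTransGen.single s1).tail s2).tail s3
  have hEconn : Cfsg.IsConnectedFamily (Cfsg.EAdj S S) S := by
    intro X hX Y hY
    have hXY := hF X hX Y hY
    clear hY
    induction hXY with
    | refl => exact Relation.ReflTransGen.refl
    | tail _ hbc ih => exact ih.trans (hedge _ _ hbc)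
  refine ⟨hEconn, ?_⟩
  intro X hX Y hY
  have hmono : Cfsg.EAdj S S ≤ Cfsg.DAdj S := by
    rintro U V ⟨hU, hV, hVL⟩
    exact ⟨hU, hV, fun h0 => hVL.1.2.1 h0.symm, hVL.1.2.2⟩
  exact Relation.ReflTransGen.mono hmono X Y (hEconn X hX Y hY)

end Cfsg.Agent.S5041
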