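import Cfsg.Statements.S5042
import Cfsg.Agent.Lib_lead_RootSub12
import Cfsg.Agent.S5034
import Cfsg.Agent.S5041

set_option autoImplicit false
open Cfsg

namespace Cfsg.Agent.S5042

open Cfsg.Agent.helper25 Cfsg.Agent.lead

/-- Let S be a non-degenerate class of abstract root subgroups of G, A ∈ S and B a rank one partner of A. Then G is generated by the line partners of A together with B. -/
theorem result {G : Type*} [Group G] {S : Set (Subgroup G)} (hS : Cfsg.IsRootSubgroupClass S) (hnd : Cfsg.IsNondegenerateRootSet S)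
    {A B : Subgroup G} (hA : A ∈ S) (hB : B ∈ Cfsg.rankOnePartners S A) :
    (⨆ C ∈ Cfsg.linePartners S A, C) ⊔ B = ⊤ := by
  classical
  have hE := (Cfsg.Agent.S5041.result hS hnd).1
  obtain ⟨⟨C, hCL, _⟩, _⟩ := Cfsg.Agent.S5034.result hS hnd hA hB
  obtain ⟨hset, hcls⟩ := hS
  obtain ⟨hBS, hAB⟩ := hB
  have hpartner : ∀ X ∈ S, ∃ D ∈ S, Cfsg.IsRankOnePair X D := by
    intro X hX
    obtain ⟨g, rfl⟩ := hcls.2 A hA X hX
    exact ⟨Cfsg.conjBy B g, hset.conj_mem B hBS g, rs_rankOne_conj hAB g⟩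
  have hF : ∀ X ∈ S, ¬ Cfsg.IsIsolatedIn (Cfsg.FAdj S) S X := by
    intro X hX
    obtain ⟨D, hD, hr⟩ := hpartner X hX
    exact rs_not_isolated_of_partner hX hD hr
  obtain ⟨R, hR⟩ : ∃ R, R = (⨆ C ∈ Cfsg.linePartners S A, C) ⊔ B := ⟨_, rfl⟩
  rw [← hR]
  have hΛ : ∀ C ∈ linePartners S A, C ≤ R := by
    intro C hC
    rw [hR]
    exact le_sup_of_le_left (le_biSup (fun C : Subgroup G => C) hC)
  have hBR : B ≤ R := by
    rw [hR]
    exact le_sup_right
  have hAR : A ≤ R := by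
    have hCm : C ∈ membersIn S (A ⊔ C) := ⟨hCL.1.1, le_sup_right⟩
    obtain ⟨E, hEm, hEA, hEC⟩ := rs_third_member hset hA hCL
    have hEL : E ∈ linePartners S A := rs_mem_linePartners_of_member hset hF hA hCL hEm hEA
    have h1 : C ⊔ E = A ⊔ C := rs_line_sup_eq hset hF hA hCL hCm hEm (Ne.symm hEC)
    calc A ≤ A ⊔ C := le_sup_left
      _ = C ⊔ E := h1.symm
      _ ≤ R := sup_le (hΛ C hCL) (hΛ E hEL)
  have hclaim := rs_linePartner_conj_in hset hF hA hBS hAB hΛ hAR hBR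
  have hreach : ∀ D, Relation.ReflTransGen (EAdj S S) A D → ∃ r ∈ R, D = conjBy A r := by
    intro D hD
    induction hD with
    | refl => exact ⟨1, R.one_mem, (conjBy_one A).symm⟩
    | tail _ hbc ih =>
      obtain ⟨r, hr, rfl⟩ := ih
      have h1 := rs_linePartners_conj hset hbc.2.2 r⁻¹
      rw [conjBy_conjBy, inv_mul_cancel, conjBy_one] at h1
      obtain ⟨r', hr', e⟩ := hclaim _ h1
      have h2 := (conjBy_eq_iff _ (conjBy A r') r⁻¹).mp e
      rw [inv_inv, conjBy_conjBy] at h2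
      exact ⟨r * r', R.mul_mem hr hr', h2⟩
  rw [eq_top_iff, ← hset.generates]
  apply iSup₂_le
  intro D hD
  obtain ⟨r, hr, rfl⟩ := hreach D (hE A hA D hD)
  rintro _ ⟨a, ha, rfl⟩
  exact R.mul_mem (R.mul_mem hr (hAR ha)) (R.inv_mem hr)

end Cfsg.Agent.S5042
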