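import Cfsg.Statements.S5040
import Cfsg.Agent.S5042

set_option autoImplicit false
open Cfsg

namespace Cfsg.Agent.lead

open Cfsg.Agent.helper25
open scoped commutatorElement

/-- A member of a weak TI-subset has no rank one partner stabilizing the subset. -/
theorem rs_weakTI_aux {G : Type*} [Group G] {S Δ : Set (Subgroup G)} (hS : IsRootSubgroupClass S)
    (hnd : IsNondegenerateRootSet S) (hΔ : IsWeakTISubset S Δ) {A F X₀ : Subgroup G} (hA : A ∈ Δ)
    (hF : F ∈ S) (hAF : IsRankOnePair A F) (hX₀ : X₀ ∈ Δ) (hFX : ∀ f ∈ F, conjBy X₀ f = X₀) :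
    False := by
  classical
  obtain ⟨hsub, _, hne, hTI⟩ := hΔ
  have hkey : ∀ D ∈ S, ∀ X₁ ∈ Δ, (∀ d ∈ D, conjBy X₁ d = X₁) →
      ∀ d ∈ D, ∀ X ∈ Δ, conjBy X d ∈ Δ := by
    intro D hD X₁ hX₁ hfix d hd X hX
    by_cases hd1 : d = 1
    · rw [hd1, conjBy_one]
      exact hX
    · rcases hTI d ⟨hd1, D, hD, hd⟩ with h | h
      · have h1 : (fun A => conjBy A d) X ∈ (fun A => conjBy A d) '' Δ := Set.mem_image_of_mem _ hX
        rw [h] at h1
        exact h1
      · exfalso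
        have h1 : (fun A => conjBy A d) X₁ ∈ (fun A => conjBy A d) '' Δ :=
          Set.mem_image_of_mem _ hX₁
        have h2 : (fun A => conjBy A d) X₁ ∈ Δ := by
          show conjBy X₁ d ∈ Δ
          rw [hfix d hd]
          exact hX₁
        exact Set.disjoint_left.mp h h1 h2
  let T : Subgroup G :=
    { carrier := {g | ∀ X ∈ Δ, conjBy X g ∈ Δ ∧ conjBy X g⁻¹ ∈ Δ}
      mul_mem' := by
        intro g h hg hh X hX
        constructor
        · rw [← conjBy_conjBy]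
          exact (hg _ (hh X hX).1).1
        · rw [mul_inv_rev, ← conjBy_conjBy]
          exact (hh _ (hg X hX).2).2
      one_mem' := by
        intro X hX
        rw [inv_one, conjBy_one]
        exact ⟨hX, hX⟩
      inv_mem' := by
        intro g hg X hX
        rw [inv_inv]
        exact ⟨(hg X hX).2, (hg X hX).1⟩ }
  have hDT : ∀ D ∈ S, ∀ X₁ ∈ Δ, (∀ d ∈ D, conjBy X₁ d = X₁) → D ≤ T := by
    intro D hD X₁ hX₁ hfix d hd X hX
    exact ⟨hkey D hD X₁ hX₁ hfix d hd X hX, hkey D hD X₁ hX₁ hfix d⁻¹ (D.inv_mem hd) X hX⟩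
  have hFT : F ≤ T := hDT F hF X₀ hX₀ hFX
  have h42 := Cfsg.Agent.S5042.result hS hnd (hsub hA) ⟨hF, hAF⟩
  have hT : T = ⊤ := by
    rw [eq_top_iff, ← h42]
    apply sup_le _ hFT
    apply iSup₂_le
    intro C hC
    exact hDT C hC.1.1 A hA (fun c hc => rs_conjBy_of_commute A c
      (fun a ha => commute_of_commutator_eq_bot hC.1.2.2 ha hc))
  apply hne
  apply Set.Subset.antisymm hsub
  intro X hX
  obtain ⟨g, rfl⟩ := hS.2.2 A (hsub hA) X hX
  have hg : g ∈ T := by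
    rw [hT]
    exact Subgroup.mem_top g
  have hg' : ∀ X ∈ Δ, conjBy X g ∈ Δ ∧ conjBy X g⁻¹ ∈ Δ := hg
  exact (hg' A hA).1

end Cfsg.Agent.lead

namespace Cfsg.Agent.S5040

open Cfsg.Agent.helper25 Cfsg.Agent.lead
open scoped commutatorElement

/-- Let S be a non-degenerate class of abstract root subgroups of G and Δ a weak TI-subset of S. Then the members of Δ commute with one another elementwise. -/
theorem result {G : Type*} [Group G] {S : Set (Subgroup G)} (hS : Cfsg.IsRootSubgroupClass S) (hnd : Cfsg.IsNondegenerateRootSet S)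
    {Δ : Set (Subgroup G)} (hΔ : Cfsg.IsWeakTISubset S Δ) : Cfsg.IsAbelianFamily Δ := by
  classical
  have hset := hS.1
  have hcls := hS.2
  have hsub := hΔ.1
  obtain ⟨A₁, hA₁, B₁, hB₁, hr₁⟩ := hnd.2.1
  have hpartner : ∀ X ∈ S, ∃ D ∈ S, Cfsg.IsRankOnePair X D := by
    intro X hX
    obtain ⟨g, rfl⟩ := hcls.2 A₁ hA₁ X hX
    exact ⟨Cfsg.conjBy B₁ g, hset.conj_mem B₁ hB₁ g, rs_rankOne_conj hr₁ g⟩
  have hF : ∀ X ∈ S, ¬ Cfsg.IsIsolatedIn (Cfsg.FAdj S) S X := by
    intro X hX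
    obtain ⟨D, hD, hr⟩ := hpartner X hX
    exact rs_not_isolated_of_partner hX hD hr
  intro A hA B hB a ha b hb
  have hAS := hsub hA
  have hBS := hsub hB
  rcases hset.pair A hAS B hBS with hc | hr | hcc
  · exact commute_of_commutator_eq_bot hc ha hb
  · exfalso
    exact rs_weakTI_aux hS hnd hΔ hA hBS hr hB (fun f hf => conjBy_of_mem B hf)
  · exfalso
    have hE : ⁅A, B⁆ ∈ S := hcc.1
    have hAL : A ∈ linePartners S ⁅A, B⁆ :=
      (Cfsg.Agent.S5029.result hset (hF A hAS) hAS hBS hE).2.2.1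
    have hEm : ⁅A, B⁆ ∈ membersIn S (⁅A, B⁆ ⊔ A) := ⟨hE, le_sup_left⟩
    have hAm : A ∈ membersIn S (⁅A, B⁆ ⊔ A) := ⟨hAS, le_sup_right⟩
    obtain ⟨x, _, hx1, hx2⟩ := Cfsg.Agent.S5038.result hset hF hE hAL ⁅A, B⁆ hEm A hAm A hAm
      ⁅A, B⁆ hEm (Ne.symm hAL.1.2.1) hAL.1.2.1
    have hD : conjBy B x ∈ S := hset.conj_mem B hBS x
    have hDC : ⁅conjBy B x, ⁅A, B⁆⁆ = A := by
      have h3 : conjBy ⁅B, A⁆ x = ⁅conjBy B x, conjBy A x⁆ := Subgroup.map_commutator B A _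
      rw [Subgroup.commutator_comm B A, hx1, hx2] at h3
      exact h3.symm
    have hBD : IsRankOnePair B (conjBy B x) :=
      (Cfsg.Agent.S5036.result hset hAS hBS hE hD hDC).1
    have hccDE : RootCommutatorCase S (conjBy B x) ⁅A, B⁆ :=
      rs_cc_of_mem hset hD hE (by rw [hDC]; exact hAS)
    have hfixA : ∀ d ∈ conjBy B x, conjBy A d = A := by
      intro d hd
      apply rs_conjBy_of_commute A d
      intro a' ha'
      have ha'' : a' ∈ ⁅conjBy B x, ⁅A, B⁆⁆ := by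
        rw [hDC]
        exact ha'
      exact hccDE.2.1 a' ha'' d (Subgroup.mem_sup_left hd)
    exact rs_weakTI_aux hS hnd hΔ hB hD hBD hA hfixA

end Cfsg.Agent.S5040
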