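import Cfsg.Statements.S5057
import Cfsg.Agent.S3488

set_option autoImplicit false
open Cfsg

namespace Cfsg.Agent.S5057

/-- the cycle type of an even involution on six points. -/
theorem cycleType_of_even_involution (a : Equiv.Perm (Fin 6)) (h2 : orderOf a = 2)
    (hs : Equiv.Perm.sign a = 1) : a.cycleType = {2, 2} := by
  have hall : ∀ n ∈ a.cycleType, n = 2 := by
    intro n hn
    have h1 : n ∣ 2 := h2 ▸ Equiv.Perm.dvd_of_mem_cycleType hn
    have h3 : 2 ≤ n := Equiv.Perm.two_le_of_mem_cycleType hn
    exact le_antisymm (Nat.le_of_dvd two_pos h1) h3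
  have hrep := Multiset.eq_replicate_card.mpr hall
  have hsum : a.cycleType.sum ≤ 6 := by
    have := Equiv.Perm.sum_cycleType_le a
    simpa using this
  have hne : a.cycleType ≠ 0 := by
    intro h0
    have h1 : a = 1 := Equiv.Perm.cycleType_eq_zero.mp h0
    rw [h1, orderOf_one] at h2
    omega
  have hk0 : Multiset.card a.cycleType ≠ 0 := by
    intro h; exact hne (Multiset.card_eq_zero.mp h)
  have hsign := Equiv.Perm.sign_of_cycleType a
  rw [hs, hrep, Multiset.sum_replicate, Multiset.card_replicate] at hsign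
  have heven : Even (Multiset.card a.cycleType) := by
    by_contra hodd
    rw [Nat.not_even_iff_odd] at hodd
    have hodd' : Odd (Multiset.card a.cycleType • 2 + Multiset.card a.cycleType) := by
      obtain ⟨m, hm⟩ := hodd
      exact ⟨3 * m + 1, by simp only [smul_eq_mul]; omega⟩
    rw [hodd'.neg_one_pow] at hsign
    revert hsign; decide
  rw [hrep, Multiset.sum_replicate] at hsum
  have hk : Multiset.card a.cycleType = 2 := by
    obtain ⟨m, hm⟩ := heven
    simp only [smul_eq_mul] at hsum
    omega
  rw [hrep, hk]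
  rfl

theorem result :
    Cfsg.IsRootInvolutionClass {g : ↥(alternatingGroup (Fin 6)) | orderOf g = 2} ∧
    ∀ d ∈ {g : ↥(alternatingGroup (Fin 6)) | orderOf g = 2}, ∀ e ∈ {g : ↥(alternatingGroup (Fin 6)) | orderOf g = 2},
      orderOf (d * e) ≤ 5 := by
  have hord : ∀ a : alternatingGroup (Fin 6), orderOf a ≤ 5 := by
    intro a
    have h := Cfsg.Agent.S3488.a6_order a
    simp only [Set.mem_insert_iff, Set.mem_singleton_iff] at h
    omega
  have hconj : ∀ d ∈ {g : ↥(alternatingGroup (Fin 6)) | orderOf g = 2},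
      ∀ g : ↥(alternatingGroup (Fin 6)),
      g * d * g⁻¹ ∈ {g : ↥(alternatingGroup (Fin 6)) | orderOf g = 2} := by
    intro d hd g
    show orderOf (g * d * g⁻¹) = 2
    have := MulEquiv.orderOf_eq (MulAut.conj g) d
    rw [MulAut.conj_apply] at this
    rw [this]; exact hd
  have hsq : ∀ d ∈ {g : ↥(alternatingGroup (Fin 6)) | orderOf g = 2}, d * d = 1 := by
    intro d hd
    have := pow_orderOf_eq_one d
    rw [hd, pow_two] at this
    exact this
  have he2 : Cfsg.Agent.S3488.e2 ∈ {g : ↥(alternatingGroup (Fin 6)) | orderOf g = 2} :=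
    Cfsg.Agent.S3488.o2
  refine ⟨⟨⟨fun d hd => hd, ?_, hconj, ?_⟩, ⟨_, he2⟩, ?_⟩, fun d _ e _ => hord _⟩
  · -- generation
    haveI : IsSimpleGroup (alternatingGroup (Fin 6)) :=
      alternatingGroup.isSimpleGroup (by simp)
    have hnormal : (Subgroup.closure
        {g : ↥(alternatingGroup (Fin 6)) | orderOf g = 2}).Normal := by
      constructor
      intro n hn g
      induction hn using Subgroup.closure_induction with
      | mem x hx => exact Subgroup.subset_closure (hconj x hx g)
      | one => simp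
      | mul x y _ _ hx hy =>
        have : g * (x * y) * g⁻¹ = (g * x * g⁻¹) * (g * y * g⁻¹) := by group
        rw [this]; exact Subgroup.mul_mem _ hx hy
      | inv x _ hx =>
        have : g * x⁻¹ * g⁻¹ = (g * x * g⁻¹)⁻¹ := by group
        rw [this]; exact Subgroup.inv_mem _ hx
    rcases hnormal.eq_bot_or_eq_top with h | h
    · exfalso
      have h1 : Cfsg.Agent.S3488.e2 ∈ Subgroup.closure
          {g : ↥(alternatingGroup (Fin 6)) | orderOf g = 2} := Subgroup.subset_closure he2
      rw [h, Subgroup.mem_bot] at h1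
      have := Cfsg.Agent.S3488.o2
      rw [h1, orderOf_one] at this
      omega
    · exact h
  · -- the three cases
    intro a ha b hb
    have h5 := hord (a * b)
    have hpos : 0 < orderOf (a * b) := orderOf_pos _
    have haa := hsq a ha
    have hbb := hsq b hb
    by_cases h2 : orderOf (a * b) = 2
    · left
      have h1 : (a * b) * (a * b) = 1 := by
        have := pow_orderOf_eq_one (a * b)
        rw [h2, pow_two] at this
        exact this
      calc a * b = a * ((a * b) * (a * b)) * b := by rw [h1, mul_one]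
        _ = (a * a) * b * a * (b * b) := by group
        _ = b * a := by rw [haa, hbb, one_mul, mul_one]
    · by_cases h4 : orderOf (a * b) = 4
      · right; right
        refine ⟨h4, ?_⟩
        show orderOf ((a * b) ^ 2) = 2
        rw [orderOf_pow' (a * b) (by norm_num : (2 : ℕ) ≠ 0), h4]
        rfl
      · right; left
        have : orderOf (a * b) = 1 ∨ orderOf (a * b) = 3 ∨ orderOf (a * b) = 5 := by omega
        rcases this with h | h | h <;> rw [h] <;> decide
  · -- a single conjugacy class
    intro a ha b hb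
    have ha' : orderOf (a : Equiv.Perm (Fin 6)) = 2 := by
      rw [Subgroup.orderOf_coe]; exact ha
    have hb' : orderOf (b : Equiv.Perm (Fin 6)) = 2 := by
      rw [Subgroup.orderOf_coe]; exact hb
    have hcta := cycleType_of_even_involution a.1 ha' (Equiv.Perm.mem_alternatingGroup.mp a.2)
    have hctb := cycleType_of_even_involution b.1 hb' (Equiv.Perm.mem_alternatingGroup.mp b.2)
    have hc : IsConj (a : Equiv.Perm (Fin 6)) b :=
      Equiv.Perm.isConj_iff_cycleType_eq.mpr (hcta.trans hctb.symm)
    obtain ⟨c, hc⟩ := isConj_iff.mp hc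
    by_cases hsc : Equiv.Perm.sign c = 1
    · refine ⟨⟨c, Equiv.Perm.mem_alternatingGroup.mpr hsc⟩, ?_⟩
      apply Subtype.ext
      exact hc.symm
    · -- correct by a transposition commuting with `a`
      have hane : (a : Equiv.Perm (Fin 6)) ≠ 1 := by
        intro h
        rw [h, orderOf_one] at ha'
        omega
      obtain ⟨x, hx⟩ : ∃ x, (a : Equiv.Perm (Fin 6)) x ≠ x := by
        by_contra h
        push Not at h
        exact hane (Equiv.ext h)
      have haa' : (a : Equiv.Perm (Fin 6)) * (a : Equiv.Perm (Fin 6)) = 1 := by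
        have := pow_orderOf_eq_one (a : Equiv.Perm (Fin 6))
        rw [ha', pow_two] at this
        exact this
      have hax : (a : Equiv.Perm (Fin 6)) ((a : Equiv.Perm (Fin 6)) x) = x := by
        have := congrArg (fun f : Equiv.Perm (Fin 6) => f x) haa'
        exact this
      have hcomm : (a : Equiv.Perm (Fin 6)) * Equiv.swap x ((a : Equiv.Perm (Fin 6)) x) *
          (a : Equiv.Perm (Fin 6))⁻¹ = Equiv.swap x ((a : Equiv.Perm (Fin 6)) x) := by
        rw [← Equiv.swap_apply_apply, hax, Equiv.swap_comm]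
      have hst : Equiv.Perm.sign (Equiv.swap x ((a : Equiv.Perm (Fin 6)) x)) = -1 :=
        Equiv.Perm.sign_swap hx.symm
      have hsc' : Equiv.Perm.sign c = -1 := (Int.units_eq_one_or _).resolve_left hsc
      have hs' : Equiv.Perm.sign (c * Equiv.swap x ((a : Equiv.Perm (Fin 6)) x)) = 1 := by
        rw [Equiv.Perm.sign_mul, hst, hsc']; decide
      refine ⟨⟨c * Equiv.swap x ((a : Equiv.Perm (Fin 6)) x),
        Equiv.Perm.mem_alternatingGroup.mpr hs'⟩, ?_⟩
      apply Subtype.ext
      show (b : Equiv.Perm (Fin 6)) = c * Equiv.swap x ((a : Equiv.Perm (Fin 6)) x) *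
        (a : Equiv.Perm (Fin 6)) * (c * Equiv.swap x ((a : Equiv.Perm (Fin 6)) x))⁻¹
      have h2 : (a : Equiv.Perm (Fin 6)) * Equiv.swap x ((a : Equiv.Perm (Fin 6)) x) =
          Equiv.swap x ((a : Equiv.Perm (Fin 6)) x) * (a : Equiv.Perm (Fin 6)) := by
        calc (a : Equiv.Perm (Fin 6)) * Equiv.swap x ((a : Equiv.Perm (Fin 6)) x)
            = ((a : Equiv.Perm (Fin 6)) * Equiv.swap x ((a : Equiv.Perm (Fin 6)) x) *
              (a : Equiv.Perm (Fin 6))⁻¹) * (a : Equiv.Perm (Fin 6)) := by group
          _ = _ := by rw [hcomm]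
      have h1 : Equiv.swap x ((a : Equiv.Perm (Fin 6)) x) * (a : Equiv.Perm (Fin 6)) *
          (Equiv.swap x ((a : Equiv.Perm (Fin 6)) x))⁻¹ = (a : Equiv.Perm (Fin 6)) := by
        rw [← h2]; group
      calc (b : Equiv.Perm (Fin 6)) = c * (a : Equiv.Perm (Fin 6)) * c⁻¹ := hc.symm
        _ = c * (Equiv.swap x ((a : Equiv.Perm (Fin 6)) x) * (a : Equiv.Perm (Fin 6)) *
            (Equiv.swap x ((a : Equiv.Perm (Fin 6)) x))⁻¹) * c⁻¹ := by rw [h1]
        _ = _ := by group

end Cfsg.Agent.S5057
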