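import Cfsg.Statements.S5059

set_option autoImplicit false
universe u
open Cfsg

namespace Cfsg.Agent.S5059

section aux

variable {k : Type u} [Field k] {M : Type u} [AddCommGroup M] [Module k M]

local notation "GL" => LinearMap.GeneralLinearGroup k M

/-- the nilpotent part `τ - 1`. -/
def nil (τ : GL) : M →ₗ[k] M := (τ : M →ₗ[k] M) - 1

theorem coe_eq (τ : GL) : (τ : M →ₗ[k] M) = 1 + nil τ := by unfold nil; abel

theorem nil_eq_zero_iff (τ : GL) : nil τ = 0 ↔ τ = 1 := by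
  constructor
  · intro h
    apply Units.ext
    rw [coe_eq, h, add_zero]; rfl
  · rintro rfl
    unfold nil; simp

theorem nil_mul_of (τ₁ τ₂ : GL) (h : nil τ₁ * nil τ₂ = 0) :
    nil (τ₁ * τ₂) = nil τ₁ + nil τ₂ := by
  have h1 : ((τ₁ * τ₂ : GL) : M →ₗ[k] M) = (τ₁ : M →ₗ[k] M) * (τ₂ : M →ₗ[k] M) :=
    Units.val_mul τ₁ τ₂
  unfold nil at h ⊢
  rw [h1]
  have : (τ₁ : M →ₗ[k] M) * (τ₂ : M →ₗ[k] M) - 1 =
      ((τ₁ : M →ₗ[k] M) - 1) + ((τ₂ : M →ₗ[k] M) - 1) +
        ((τ₁ : M →ₗ[k] M) - 1) * ((τ₂ : M →ₗ[k] M) - 1) := by noncomm_ring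
  rw [this, h, add_zero]

theorem nil_inv_of (τ : GL) (h : nil τ * nil τ = 0) : nil τ⁻¹ = - nil τ := by
  have h1 : (τ : M →ₗ[k] M) * (1 - nil τ) = 1 := by
    rw [coe_eq]
    have : (1 + nil τ) * (1 - nil τ) = 1 - nil τ * nil τ := by noncomm_ring
    rw [this, h, sub_zero]
  have h2 := Units.inv_eq_of_mul_eq_one_right h1
  unfold nil at h2 ⊢
  rw [h2]; abel

/-- the unit `1 + c N` for a square-zero `N`. -/
def unitOf (N : M →ₗ[k] M) (h : N * N = 0) (c : k) : GL where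
  val := 1 + c • N
  inv := 1 - c • N
  val_inv := by
    have : (1 + c • N) * (1 - c • N) = 1 - (c * c) • (N * N) := by
      rw [add_mul, one_mul, mul_sub, mul_one, smul_mul_smul_comm]
      abel
    rw [this, h, smul_zero, sub_zero]
  inv_val := by
    have : (1 - c • N) * (1 + c • N) = 1 - (c * c) • (N * N) := by
      rw [sub_mul, one_mul, mul_add, mul_one, smul_mul_smul_comm]
      abel
    rw [this, h, smul_zero, sub_zero]

theorem unitOf_coe (N : M →ₗ[k] M) (h : N * N = 0) (c : k) :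
    ((unitOf N h c : GL) : M →ₗ[k] M) = 1 + c • N := rfl

end aux

theorem result {k : Type u} [Field k] (hk2 : ringChar k ≠ 2) (hk3 : Nat.card k ≠ 3)
    {M : Type u} [AddCommGroup M] [Module k M] [FiniteDimensional k M]
    {G : Subgroup (LinearMap.GeneralLinearGroup k M)} (hG : Cfsg.IsQuadraticPair G)
    {σ : LinearMap.GeneralLinearGroup k M} (hσ : σ ∈ Cfsg.minimalQuadraticElements G) :
    (Cfsg.sameActionSubgroup G σ : Set (LinearMap.GeneralLinearGroup k M)) = Cfsg.sameActionClass G σ ∪ {1} ∧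
    IsMulCommutative ↥(Cfsg.sameActionSubgroup G σ) ∧
    (∀ p : ℕ, p.Prime → ringChar k = p → ∀ x ∈ Cfsg.sameActionSubgroup G σ, x ^ p = 1) := by
  -- basic facts on σ
  have hσq : nil σ * nil σ = 0 := hσ.1.2.1.1
  have hRK : LinearMap.range (nil σ) ≤ LinearMap.ker (nil σ) := by
    rintro _ ⟨m, rfl⟩
    rw [LinearMap.mem_ker]
    have := congrArg (fun f : M →ₗ[k] M => f m) hσq
    exact this
  -- facts on members of the class
  have hker : ∀ τ ∈ Cfsg.sameActionClass G σ, LinearMap.ker (nil τ) = LinearMap.ker (nil σ) :=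
    fun τ hτ => hτ.2.1
  have hrange : ∀ τ ∈ Cfsg.sameActionClass G σ,
      LinearMap.range (nil τ) = LinearMap.range (nil σ) := fun τ hτ => hτ.2.2
  have hprod : ∀ τ₁ ∈ Cfsg.sameActionClass G σ, ∀ τ₂ ∈ Cfsg.sameActionClass G σ,
      nil τ₁ * nil τ₂ = 0 := by
    intro τ₁ h₁ τ₂ h₂
    ext m
    have h3 : nil τ₂ m ∈ LinearMap.range (nil τ₂) := ⟨m, rfl⟩
    rw [hrange τ₂ h₂] at h3
    have h4 := hRK h3
    rw [← hker τ₁ h₁, LinearMap.mem_ker] at h4
    exact h4
  -- closure under products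
  have hmul : ∀ τ₁ ∈ Cfsg.sameActionClass G σ, ∀ τ₂ ∈ Cfsg.sameActionClass G σ,
      τ₁ * τ₂ ≠ 1 → τ₁ * τ₂ ∈ Cfsg.sameActionClass G σ := by
    intro τ₁ h₁ τ₂ h₂ hne
    have hN := nil_mul_of τ₁ τ₂ (hprod τ₁ h₁ τ₂ h₂)
    have hNN : nil (τ₁ * τ₂) * nil (τ₁ * τ₂) = 0 := by
      rw [hN, add_mul, mul_add, mul_add, hprod τ₁ h₁ τ₁ h₁, hprod τ₁ h₁ τ₂ h₂,
        hprod τ₂ h₂ τ₁ h₁, hprod τ₂ h₂ τ₂ h₂]
      simp
    have hN0 : nil (τ₁ * τ₂) ≠ 0 := fun h => hne ((nil_eq_zero_iff _).mp h)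
    have hq : τ₁ * τ₂ ∈ Cfsg.quadraticElements G := by
      refine ⟨G.mul_mem h₁.1.1.1 h₂.1.1.1, ⟨hNN, hN0⟩, ?_⟩
      rintro ρ ⟨c, hc⟩
      have e : ρ = unitOf (nil τ₁) (hprod τ₁ h₁ τ₁ h₁) c * unitOf (nil τ₂) (hprod τ₂ h₂ τ₂ h₂) c := by
        apply Units.ext
        rw [Units.val_mul, unitOf_coe, unitOf_coe, hc]
        show 1 + c • nil (τ₁ * τ₂) = _
        rw [hN]
        have : (1 + c • nil τ₁) * (1 + c • nil τ₂) =
            1 + c • nil τ₁ + c • nil τ₂ + (c * c) • (nil τ₁ * nil τ₂) := by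
          rw [add_mul, one_mul, mul_add, mul_one, smul_mul_smul_comm]
          abel
        rw [this, hprod τ₁ h₁ τ₂ h₂, smul_zero, add_zero, smul_add]
        abel
      rw [e]
      apply G.mul_mem
      · exact h₁.1.1.2.2 ⟨c, rfl⟩
      · exact h₂.1.1.2.2 ⟨c, rfl⟩
    have hrle : LinearMap.range (nil (τ₁ * τ₂)) ≤ LinearMap.range (nil σ) := by
      rintro _ ⟨m, rfl⟩
      rw [hN, LinearMap.add_apply]
      apply Submodule.add_mem
      · rw [← hrange τ₁ h₁]; exact ⟨m, rfl⟩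
      · rw [← hrange τ₂ h₂]; exact ⟨m, rfl⟩
    have hrk1 : Module.finrank k (LinearMap.range (nil (τ₁ * τ₂))) ≤
        Module.finrank k (LinearMap.range (nil σ)) := Submodule.finrank_mono hrle
    have hrk2 : Module.finrank k (LinearMap.range (nil σ)) ≤
        Module.finrank k (LinearMap.range (nil (τ₁ * τ₂))) := hσ.2 _ hq
    have hreq : LinearMap.range (nil (τ₁ * τ₂)) = LinearMap.range (nil σ) :=
      Submodule.eq_of_le_of_finrank_eq hrle (le_antisymm hrk1 hrk2)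
    have hkle : LinearMap.ker (nil σ) ≤ LinearMap.ker (nil (τ₁ * τ₂)) := by
      intro m hm
      rw [LinearMap.mem_ker, hN, LinearMap.add_apply]
      have h3 : nil τ₁ m = 0 := by
        rw [← LinearMap.mem_ker, hker τ₁ h₁]; exact hm
      have h4 : nil τ₂ m = 0 := by
        rw [← LinearMap.mem_ker, hker τ₂ h₂]; exact hm
      rw [h3, h4, add_zero]
    have hd1 := LinearMap.finrank_range_add_finrank_ker (nil (τ₁ * τ₂))
    have hd2 := LinearMap.finrank_range_add_finrank_ker (nil σ)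
    have hkeq : LinearMap.ker (nil σ) = LinearMap.ker (nil (τ₁ * τ₂)) := by
      apply Submodule.eq_of_le_of_finrank_eq hkle
      rw [hreq] at hd1
      omega
    refine ⟨⟨hq, fun τ' hτ' => ?_⟩, hkeq.symm, hreq⟩
    exact hrk1.trans (hσ.2 τ' hτ')
  -- closure under inverses
  have hinv : ∀ τ ∈ Cfsg.sameActionClass G σ, τ⁻¹ ∈ Cfsg.sameActionClass G σ := by
    intro τ hτ
    have hN := nil_inv_of τ (hprod τ hτ τ hτ)
    have hNN : nil τ⁻¹ * nil τ⁻¹ = 0 := by
      rw [hN, neg_mul_neg]; exact hprod τ hτ τ hτ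
    have hN0 : nil τ⁻¹ ≠ 0 := by
      rw [hN, neg_ne_zero]; exact hτ.1.1.2.1.2
    have hreq : LinearMap.range (nil τ⁻¹) = LinearMap.range (nil τ) := by
      rw [hN]; exact LinearMap.range_neg _
    have hkeq : LinearMap.ker (nil τ⁻¹) = LinearMap.ker (nil τ) := by
      rw [hN]; exact LinearMap.ker_neg _
    have hq : τ⁻¹ ∈ Cfsg.quadraticElements G := by
      refine ⟨G.inv_mem hτ.1.1.1, ⟨hNN, hN0⟩, ?_⟩
      rintro ρ ⟨c, hc⟩
      apply hτ.1.1.2.2
      refine ⟨-c, ?_⟩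
      rw [hc]
      show 1 + c • nil τ⁻¹ = 1 + (-c) • nil τ
      rw [hN, smul_neg, neg_smul]
    refine ⟨⟨hq, fun τ' hτ' => ?_⟩, hkeq.trans (hker τ hτ), hreq.trans (hrange τ hτ)⟩
    show Module.finrank k (LinearMap.range (nil τ⁻¹)) ≤ _
    rw [hreq]
    exact hτ.1.2 τ' hτ'
  -- the subgroup
  let H : Subgroup (LinearMap.GeneralLinearGroup k M) :=
    { carrier := Cfsg.sameActionClass G σ ∪ {1}
      one_mem' := Or.inr rfl
      mul_mem' := by
        rintro a b (ha | ha) (hb | hb)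
        · by_cases h : a * b = 1
          · exact Or.inr h
          · exact Or.inl (hmul a ha b hb h)
        · rw [Set.mem_singleton_iff.mp hb, mul_one]; exact Or.inl ha
        · rw [Set.mem_singleton_iff.mp ha, one_mul]; exact Or.inl hb
        · rw [Set.mem_singleton_iff.mp ha, Set.mem_singleton_iff.mp hb, mul_one]; exact Or.inr rfl
      inv_mem' := by
        rintro a (ha | ha)
        · exact Or.inl (hinv a ha)
        · rw [Set.mem_singleton_iff.mp ha, inv_one]; exact Or.inr rfl }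
  have hle : Cfsg.sameActionSubgroup G σ ≤ H := by
    unfold Cfsg.sameActionSubgroup
    rw [Subgroup.closure_le]
    intro τ hτ; exact Or.inl hτ
  have hset : (Cfsg.sameActionSubgroup G σ : Set (LinearMap.GeneralLinearGroup k M)) =
      Cfsg.sameActionClass G σ ∪ {1} := by
    apply Set.Subset.antisymm
    · exact hle
    · rintro x (hx | hx)
      · exact Subgroup.subset_closure hx
      · rw [Set.mem_singleton_iff.mp hx]; exact Subgroup.one_mem _
  have hmem : ∀ x ∈ Cfsg.sameActionSubgroup G σ, x ∈ Cfsg.sameActionClass G σ ∨ x = 1 := by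
    intro x hx
    have : x ∈ (Cfsg.sameActionSubgroup G σ : Set (LinearMap.GeneralLinearGroup k M)) := hx
    rw [hset] at this
    exact this
  have hprod' : ∀ x ∈ Cfsg.sameActionSubgroup G σ, ∀ y ∈ Cfsg.sameActionSubgroup G σ,
      nil x * nil y = 0 := by
    intro x hx y hy
    rcases hmem x hx with hx | rfl
    · rcases hmem y hy with hy | rfl
      · exact hprod x hx y hy
      · rw [(nil_eq_zero_iff 1).mpr rfl, mul_zero]
    · rw [(nil_eq_zero_iff 1).mpr rfl, zero_mul]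
  refine ⟨hset, ⟨⟨fun a b => ?_⟩⟩, ?_⟩
  · apply Subtype.ext
    show (a : LinearMap.GeneralLinearGroup k M) * b = b * a
    apply Units.ext
    rw [coe_eq, coe_eq (_ * _), nil_mul_of _ _ (hprod' a a.2 b b.2),
      nil_mul_of _ _ (hprod' b b.2 a a.2), add_comm (nil _)]
  · intro p hp hchar x hx
    haveI : CharP k p := ringChar.of_eq hchar
    have hpow : ∀ n : ℕ, nil (x ^ n) = n • nil x := by
      intro n
      induction n with
      | zero => rw [pow_zero, zero_smul]; exact (nil_eq_zero_iff 1).mpr rfl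
      | succ n ih =>
        have hxn : x ^ n ∈ Cfsg.sameActionSubgroup G σ := Subgroup.pow_mem _ hx n
        rw [pow_succ, nil_mul_of _ _ (hprod' _ hxn _ hx), ih, succ_nsmul]
    apply (nil_eq_zero_iff _).mp
    rw [hpow p, ← Nat.cast_smul_eq_nsmul k, CharP.cast_eq_zero, zero_smul]

end Cfsg.Agent.S5059
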