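import Cfsg.Statements.S5093
import Mathlib
import Cfsg.Agent.Lib_helper10_Hyperfocal

set_option autoImplicit false
open Cfsg

namespace Cfsg.Agent.S5093

open Cfsg.Agent.helper10

/-- Membership in `Aut_G(P)`. -/
theorem mem_autGroup_groupFS {G : Type*} [Group G] (S P : Subgroup G) (α : MulAut P)
    (hα : α ∈ (Cfsg.groupFusionSystem S).autGroup P) :
    ∃ g : G, ∀ x : P, ((α x : P) : G) = g * (x : G) * g⁻¹ := by
  unfold Cfsg.FusionSystem.autGroup at hα
  induction hα using Subgroup.closure_induction with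
  | mem a ha =>
    obtain ⟨-, -, g, hg⟩ := ha
    exact ⟨g, fun x => hg x⟩
  | one => exact ⟨1, fun x => by simp⟩
  | mul a b _ _ ha hb =>
    obtain ⟨g, hg⟩ := ha
    obtain ⟨k, hk⟩ := hb
    refine ⟨g * k, fun x => ?_⟩
    rw [MulAut.mul_apply, hg, hk]
    group
  | inv a _ ha =>
    obtain ⟨g, hg⟩ := ha
    refine ⟨g⁻¹, fun x => ?_⟩
    have h1 := hg (a⁻¹ x)
    rw [MulAut.apply_inv_self] at h1
    rw [h1]
    group

/-- Elements of `O^p(Aut_G(P))` are induced by elements of `O^p(G)`. -/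
theorem pResidual_autGroup_induced {G : Type*} [Group G] [Finite G] (p : ℕ) [hp : Fact p.Prime]
    (S P : Subgroup G) (α : (Cfsg.groupFusionSystem S).autGroup P)
    (hα : α ∈ Cfsg.pResidual p ((Cfsg.groupFusionSystem S).autGroup P)) :
    ∃ h ∈ Cfsg.pResidual p G, ∀ x : P, (((α : MulAut P) x : P) : G) = h * (x : G) * h⁻¹ := by
  unfold Cfsg.pResidual at hα
  induction hα using Subgroup.closure_induction with
  | mem a ha =>
    have ha' : Nat.Coprime (orderOf a) p := ha
    obtain ⟨g, hg⟩ := mem_autGroup_groupFS S P (a : MulAut P) a.2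
    -- powers
    have hpow : ∀ j : ℕ, ∀ x : P, ((((a : MulAut P) ^ j) x : P) : G) = g ^ j * (x : G) * (g ^ j)⁻¹ := by
      intro j
      induction j with
      | zero => intro x; simp
      | succ j ih =>
        intro x
        rw [pow_succ, MulAut.mul_apply, ih, hg, pow_succ]
        group
    obtain ⟨e, he⟩ : ∃ e : ℕ, Nat.Coprime (orderOf (g ^ p ^ e)) p := by
      refine ⟨(orderOf g).factorization p, ?_⟩
      have hpos : 0 < orderOf g := orderOf_pos g
      rw [orderOf_pow' g (pow_ne_zero _ hp.out.ne_zero),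
        Nat.gcd_eq_right (Nat.ordProj_dvd (orderOf g) p)]
      exact (Nat.coprime_ordCompl hp.out hpos.ne').symm
    have hcop : Nat.Coprime (p ^ e) (orderOf a) := (Nat.Coprime.pow_right e ha').symm
    obtain ⟨k, hk⟩ := exists_pow_eq_self_of_coprime (x := a) hcop
    refine ⟨(g ^ p ^ e) ^ k, ?_, ?_⟩
    · apply Subgroup.subset_closure
      show Nat.Coprime (orderOf ((g ^ p ^ e) ^ k)) p
      exact Nat.Coprime.coprime_dvd_left (orderOf_pow_dvd k) he
    · intro x
      have h1 := hpow (p ^ e * k) x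
      rw [pow_mul, pow_mul] at h1
      have h2 : ((a : MulAut P) ^ p ^ e) ^ k = (a : MulAut P) := by
        have := congrArg Subtype.val hk
        simpa using this
      rw [h2] at h1
      exact h1
  | one => exact ⟨1, one_mem _, fun x => by simp⟩
  | mul a b _ _ ha hb =>
    obtain ⟨g, hgK, hg⟩ := ha
    obtain ⟨k, hkK, hk⟩ := hb
    refine ⟨g * k, Subgroup.mul_mem _ hgK hkK, fun x => ?_⟩
    rw [Subgroup.coe_mul, MulAut.mul_apply, hg, hk]
    group
  | inv a _ ha =>
    obtain ⟨g, hgK, hg⟩ := ha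
    refine ⟨g⁻¹, Subgroup.inv_mem _ hgK, fun x => ?_⟩
    have h1 := hg ((a : MulAut P)⁻¹ x)
    rw [MulAut.apply_inv_self] at h1
    rw [Subgroup.coe_inv, h1]
    group

/-- Hyperfocal subgroup Theorem: for a finite group G with Sylow p-subgroup S, the hyperfocal subgroup of the fusion system of G on S equals S ∩ O^p(G), where O^p(G) is the subgroup generated by the elements of order prime to p. -/
theorem result {G : Type*} [Group G] [Finite G] (p : ℕ) [Fact p.Prime] (S : Sylow p G) : (Cfsg.groupFusionSystem (S : Subgroup G)).hyperfocalSubgroup p = (S : Subgroup G) ⊓ Cfsg.pResidual p G := by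
  apply le_antisymm
  · unfold Cfsg.FusionSystem.hyperfocalSubgroup
    rw [Subgroup.closure_le]
    rintro y ⟨P, α, x, hPS, hα, rfl⟩
    obtain ⟨h, hhK, hh⟩ := pResidual_autGroup_induced p (S : Subgroup G) P α hα
    refine Subgroup.mem_inf.2 ⟨?_, ?_⟩
    · exact Subgroup.mul_mem _ (Subgroup.inv_mem _ (hPS x.2)) (hPS ((α : MulAut P) x).2)
    · rw [hh x]
      have hnorm := pResidual_normal p G
      have h1 : (x : G)⁻¹ * h * ((x : G)⁻¹)⁻¹ ∈ Cfsg.pResidual p G :=
        hnorm.conj_mem h hhK _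
      have h2 : (x : G)⁻¹ * (h * (x : G) * h⁻¹) = (x : G)⁻¹ * h * ((x : G)⁻¹)⁻¹ * h⁻¹ := by group
      rw [h2]
      exact Subgroup.mul_mem _ h1 (Subgroup.inv_mem _ hhK)
  · refine (inf_pResidual_le_closure_hypSet S).trans ?_
    rw [Subgroup.closure_le]
    rintro y ⟨U, hU, g, hg, hcop, x, hx, rfl⟩
    apply Subgroup.subset_closure
    -- the automorphism induced by `g`
    set α₀ : MulAut U := U.normalizerMonoidHom ⟨g, hg⟩ with hα₀
    have hα₀x : ∀ z : U, ((α₀ z : U) : G) = g * (z : G) * g⁻¹ := by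
      intro z
      rw [hα₀, Subgroup.normalizerMonoidHom_apply_apply_coe]
    have hα₀mem : α₀ ∈ (Cfsg.groupFusionSystem (S : Subgroup G)).autGroup U := by
      apply Subgroup.subset_closure
      refine ⟨hU, fun z => ?_, g, fun z => ?_⟩
      · exact hU (α₀ z).2
      · exact hα₀x z
    refine ⟨U, ⟨α₀, hα₀mem⟩, ⟨x, hx⟩, hU, ?_, ?_⟩
    · apply Subgroup.subset_closure
      show Nat.Coprime (orderOf (⟨α₀, hα₀mem⟩ : (Cfsg.groupFusionSystem (S : Subgroup G)).autGroup U)) p
      rw [← Subgroup.orderOf_coe]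
      have h1 : orderOf α₀ ∣ orderOf (⟨g, hg⟩ : Subgroup.normalizer (U : Set G)) :=
        orderOf_map_dvd _ _
      rw [← Subgroup.orderOf_coe] at h1
      exact Nat.Coprime.coprime_dvd_left h1 hcop
    · rw [hα₀x]

end Cfsg.Agent.S5093
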