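import Mathlib
import Cfsg.Statements.S5094
import Cfsg.Agent.Lib_helper2_ZFus

set_option autoImplicit false
open Cfsg

namespace Cfsg.Agent.S5094

open Cfsg.Agent.helper2

theorem result {G : Type*} [Group G] [Finite G] (S : Sylow 2 G) : (Cfsg.groupFusionSystem (S : Subgroup G)).center = (S : Subgroup G) ⊓ (Subgroup.center (G ⧸ Cfsg.oddCore G)).comap (QuotientGroup.mk' (Cfsg.oddCore G)) := by
  exact Cfsg.Agent.helper2.ZFus.center_eq S

end Cfsg.Agent.S5094
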