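import Cfsg.Statements.S5100
import Cfsg.Agent.Lib_helper25_GroupFS

set_option autoImplicit false
open Cfsg

namespace Cfsg.Agent.S5100

open Cfsg.FusionSystem Cfsg.Agent.helper25

theorem result {G : Type*} [Group G] [Finite G] (p : ℕ) [Fact p.Prime] (S : Sylow p G) (P : Subgroup G) (hP : P ≤ S) : (Cfsg.groupFusionSystem (S : Subgroup G)).IsFullyNormalized P ↔ ∃ R : Sylow p ↥(Subgroup.normalizer (P : Set G)), (R : Subgroup ↥(Subgroup.normalizer (P : Set G))) = (Cfsg.FusionSystem.normalizerIn (S : Subgroup G) P).subgroupOf (Subgroup.normalizer (P : Set G)) := by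
  show _ ↔ IsSylowIn p ((S : Subgroup G) ⊓ Subgroup.normalizer (P : Set G)) (Subgroup.normalizer (P : Set G))
  have hpg : ∀ Q : Subgroup G, IsPGroup p ((S : Subgroup G) ⊓ Subgroup.normalizer (Q : Set G) : Subgroup G) :=
    fun Q => S.isPGroup'.to_le inf_le_left
  rw [isSylowIn_iff_card inf_le_right]
  constructor
  · rintro ⟨-, hmax⟩
    obtain ⟨g, hgS, hgSyl⟩ := exists_cj_normalizer_sylow S hP
    have hconj : (groupFusionSystem (S : Subgroup G)).IsConj P (cj g P) :=
      (groupFS_isConj_iff _ _ _).mpr ⟨hP, hgS, g, rfl⟩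
    have h1 := hmax _ hconj
    rw [isSylowIn_iff_card inf_le_right] at hgSyl
    have hcN : Nat.card (Subgroup.normalizer ((cj g P : Subgroup G) : Set G)) =
        Nat.card (Subgroup.normalizer (P : Set G)) := by
      rw [← cj_normalizer, card_cj]
    apply le_antisymm (card_le_of_isPGroup_le inf_le_right (hpg P))
    rw [← hcN, ← hgSyl]
    exact h1
  · intro hc
    refine ⟨hP, ?_⟩
    intro Q hQ
    obtain ⟨-, hQS, g, rfl⟩ := (groupFS_isConj_iff _ _ _).mp hQ
    have hcN : Nat.card (Subgroup.normalizer ((cj g P : Subgroup G) : Set G)) =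
        Nat.card (Subgroup.normalizer (P : Set G)) := by
      rw [← cj_normalizer, card_cj]
    show Nat.card ((S : Subgroup G) ⊓ Subgroup.normalizer ((cj g P : Subgroup G) : Set G) : Subgroup G) ≤
      Nat.card ((S : Subgroup G) ⊓ Subgroup.normalizer (P : Set G) : Subgroup G)
    rw [hc, ← hcN]
    exact card_le_of_isPGroup_le inf_le_right (hpg _)

end Cfsg.Agent.S5100
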