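import Cfsg.Statements.S5118
import Cfsg.Agent.Lib_helper26_NormSub

set_option autoImplicit false
open Cfsg

namespace Cfsg.Agent.S5118

/-- For a finite group G with Sylow p-subgroup S and a normal subgroup H, the fusion system of H on S ∩ H is a normal subsystem of the fusion system of G on S. -/
theorem result {G : Type*} [Group G] [Finite G] (p : ℕ) [Fact p.Prime] (S : Sylow p G) (H : Subgroup G) [H.Normal] : (Cfsg.fusionSystemOfSubgroup H ((S : Subgroup G) ⊓ H) inf_le_right).IsNormalIn (Cfsg.groupFusionSystem (S : Subgroup G)) p := by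
  have h : Cfsg.Agent.helper26.NS.NData p (Cfsg.groupFusionSystem (S : Subgroup G))
      (S : Subgroup G).subtype H ((S : Subgroup G) ⊓ H)
      (Cfsg.fusionSystemOfSubgroup H ((S : Subgroup G) ⊓ H) inf_le_right) :=
    { real := Cfsg.Agent.helper25.groupFS_isRealizedBy (S : Subgroup G)
      syl := ⟨S, (S : Subgroup G).range_subtype.symm⟩
      nor := inferInstance
      le := inf_le_left
      mem := fun s => ⟨fun h => h.2, fun h => ⟨s.2, h⟩⟩
      hom := fun P φ => ⟨fun ⟨hP, hφ, g, hg, hx⟩ => ⟨hP, hφ, g, hg, hx⟩,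
        fun ⟨hP, hφ, g, hg, hx⟩ => ⟨hP, hφ, g, hg, hx⟩⟩ }
  exact h.isNormalIn

end Cfsg.Agent.S5118
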