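import Cfsg.Statements.S5160
-- import your own Cfsg.Agent.* helpers here
import Mathlib
import Cfsg.Agent.Lib_helper25_PrimeIdx4
import Cfsg.Agent.Lib_helper25_PPRes2
import Cfsg.Agent.Lib_helper25_Saturated

set_option autoImplicit false
open Cfsg

set_option maxHeartbeats 1600000
namespace Cfsg.Agent.S5160

open Cfsg.FusionSystem Cfsg.Agent.helper25


/-- Let G be a finite group with nontrivial Sylow p-subgroup S and F its fusion system on S. Suppose (a) no nontrivial proper subgroup of S is strongly closed in F, and (b) the automorphisms of S induced by G are generated by those induced, for R running over the fully normalized radical centric subgroups of F, by the subgroup of N_G(R) generated by its elements of p-power order. Then F is simple. -/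
theorem result {G : Type*} [Group G] [Finite G] (p : ℕ) [Fact p.Prime] (S : Sylow p G) (hS1 : (S : Subgroup G) ≠ ⊥) (ha : ∀ T : Subgroup G, (Cfsg.groupFusionSystem (S : Subgroup G)).StronglyClosed T → T = ⊥ ∨ T = (S : Subgroup G)) (hb : Cfsg.autInducedBy ⊤ (S : Subgroup G) = ⨆ (R : Subgroup G) (_ : (Cfsg.groupFusionSystem (S : Subgroup G)).IsFullyNormalized R ∧ (Cfsg.groupFusionSystem (S : Subgroup G)).IsRadical p R ∧ (Cfsg.groupFusionSystem (S : Subgroup G)).IsCentric R), Cfsg.autInducedBy (Subgroup.closure {g : G | g ∈ Subgroup.normalizer (R : Set G) ∧ ∃ k : ℕ, orderOf g = p ^ k}) (S : Subgroup G)) : (Cfsg.groupFusionSystem (S : Subgroup G)).IsSimple p := by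
  classical
  have hSp : IsPGroup p (S : Subgroup G) := S.isPGroup'
  have hFsat : (groupFusionSystem (S : Subgroup G)).IsSaturated p := groupFS_isSaturated S
  refine ⟨hFsat, hS1, ?_⟩
  intro T E hE
  obtain ⟨⟨hEsat, -, hinv⟩, -⟩ := hE
  rcases ha T hinv.2.1 with hT | hT
  · exact Or.inl hT
  right
  subst hT
  refine ⟨rfl, fun P => Set.Subset.antisymm (hinv.1 P) ?_⟩
  have hopp := opp_le_of_invariant hSp (groupFusionSystem (S : Subgroup G)) hFsat E hinv
  have key : ∀ α ∈ (groupFusionSystem (S : Subgroup G)).autGroup (S : Subgroup G),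
      (S : Subgroup G).subtype.comp α.toMonoidHom ∈ E.Hom (S : Subgroup G) := by
    intro α hα
    have h1 : α ∈ autInducedBy ⊤ (S : Subgroup G) := by
      unfold FusionSystem.autGroup at hα
      refine (Subgroup.closure_le _).mpr ?_ hα
      intro β hβ
      obtain ⟨-, -, g, hg⟩ := hβ
      exact Subgroup.subset_closure ⟨g, Subgroup.mem_top g, fun x => hg x⟩
    rw [hb] at h1
    suffices hsup : (⨆ (R : Subgroup G) (_ : (Cfsg.groupFusionSystem (S : Subgroup G)).IsFullyNormalized R ∧ (Cfsg.groupFusionSystem (S : Subgroup G)).IsRadical p R ∧ (Cfsg.groupFusionSystem (S : Subgroup G)).IsCentric R), Cfsg.autInducedBy (Subgroup.closure {g : G | g ∈ Subgroup.normalizer (R : Set G) ∧ ∃ k : ℕ, orderOf g = p ^ k}) (S : Subgroup G)) ≤ E.autGroup (S : Subgroup G) by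
      exact (mem_autGroup_iff E le_rfl α).mp (hsup h1)
    refine iSup_le fun R => iSup_le fun hR => ?_
    obtain ⟨hRfn, hRrad, hRc⟩ := hR
    unfold autInducedBy
    rw [Subgroup.closure_le]
    rintro β ⟨g, hgK, hβ⟩
    show β ∈ E.autGroup (S : Subgroup G)
    rw [mem_autGroup_iff E le_rfl]
    unfold IsFIso
    have hψF : (S : Subgroup G).subtype.comp β.toMonoidHom ∈
        (groupFusionSystem (S : Subgroup G)).Hom (S : Subgroup G) :=
      ⟨le_rfl, fun x => (β x).2, g, hβ⟩
    have hRS : R ≤ (S : Subgroup G) := hRc.1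
    have hgR : ∀ g' ∈ Subgroup.closure {g : G | g ∈ Subgroup.normalizer (R : Set G) ∧
        ∃ k : ℕ, orderOf g = p ^ k}, ∃ hgN : g' ∈ Subgroup.normalizer (R : Set G),
        normAut R g' hgN ∈ oppSub p ((groupFusionSystem (S : Subgroup G)).autGroup R) := by
      intro g' hg'
      induction hg' using Subgroup.closure_induction with
      | mem h hh =>
        obtain ⟨hN, k, hk⟩ := hh
        refine ⟨hN, ?_⟩
        have hmemF : normAut R h hN ∈ (groupFusionSystem (S : Subgroup G)).autGroup R := by
          rw [mem_autGroup_iff _ hRS]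
          exact ⟨hRS, fun x => hRS (normAut R h hN x).2, h, fun x => rfl⟩
        have hdvd : orderOf (normAut R h hN) ∣ p ^ k := by
          have h1 : orderOf (normAut R h hN) ∣ orderOf (⟨h, hN⟩ : Subgroup.normalizer (R : Set G)) :=
            orderOf_map_dvd _ _
          rw [Subgroup.orderOf_mk, hk] at h1
          exact h1
        obtain ⟨j, -, hj⟩ := (Nat.dvd_prime_pow (Fact.out : p.Prime)).mp hdvd
        exact mem_oppSub_of_orderOf hmemF hj
      | one =>
        refine ⟨Subgroup.one_mem _, ?_⟩
        have : normAut R 1 (Subgroup.one_mem _) = 1 := by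
          ext x
          rw [normAut_coe]
          simp
        rw [this]
        exact Subgroup.one_mem _
      | mul a b _ _ iha ihb =>
        obtain ⟨haN, ha'⟩ := iha
        obtain ⟨hbN, hb'⟩ := ihb
        refine ⟨Subgroup.mul_mem _ haN hbN, ?_⟩
        have : normAut R (a * b) (Subgroup.mul_mem _ haN hbN) = normAut R a haN * normAut R b hbN := by
          ext x
          rw [MulAut.mul_apply, normAut_coe, normAut_coe, normAut_coe]
          group
        rw [this]
        exact Subgroup.mul_mem _ ha' hb'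
      | inv a _ iha =>
        obtain ⟨haN, ha'⟩ := iha
        refine ⟨Subgroup.inv_mem _ haN, ?_⟩
        have : normAut R a⁻¹ (Subgroup.inv_mem _ haN) = (normAut R a haN)⁻¹ := by
          rw [eq_inv_iff_mul_eq_one]
          ext x
          rw [MulAut.mul_apply, normAut_coe, normAut_coe]
          simp only [inv_inv, MulAut.one_apply]
          group
        rw [this]
        exact Subgroup.inv_mem _ ha'
    obtain ⟨hgN, hmem⟩ := hgR g hgK
    have hE' := hopp R hRS hmem
    rw [mem_autGroup_iff E hRS] at hE'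
    apply mem_of_restrict_centric hSp (groupFusionSystem (S : Subgroup G)) hFsat E hEsat hinv.1 hψF
      (Nat.card (S : Subgroup G)) R hRc hRS (Nat.sub_le _ _)
    have e : ((S : Subgroup G).subtype.comp β.toMonoidHom).comp (Subgroup.inclusion hRS) =
        R.subtype.comp (normAut R g hgN).toMonoidHom := by
      ext x
      show ((β ⟨x, _⟩ : (S : Subgroup G)) : G) = g * x * g⁻¹
      exact hβ _
    rw [e]
    exact hE'
  intro φ hφ
  have hPS : P ≤ (S : Subgroup G) := hφ.1
  obtain ⟨α, hα, φ₀, hφ₀, hfac⟩ := hinv.2.2.2 P hPS φ hφ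
  have h₀S : ∀ x : P, φ₀ x ∈ (S : Subgroup G) := (E.le_of_mem hφ₀).2
  have hcomp := E.comp_mem hφ₀ (key α hα) h₀S
  have heq : φ = ((S : Subgroup G).subtype.comp α.toMonoidHom).comp
      (φ₀.codRestrict (S : Subgroup G) h₀S) := by
    ext x
    rw [hfac x (h₀S x)]
    rfl
  rw [heq]
  exact hcomp

end Cfsg.Agent.S5160
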