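import Mathlib
import Cfsg.Statements.S5186
import Cfsg.Agent.Lib_helper17_Chain
import Cfsg.Agent.Lib_helper17_P3
import Cfsg.Agent.Lib_helper25_Radical

set_option autoImplicit false
open Cfsg

namespace Cfsg.Agent.S5186

open Cfsg.FusionSystem Cfsg.Agent.helper25 Cfsg.Agent.helper17.Chain Cfsg.Agent.helper17.P3

universe u

/-- an essential subgroup of order `p^3` has no characteristic chain -/
theorem not_essential_of_chain {Ω : Type u} [Group Ω] {S : Subgroup Ω} [Finite S] (p : ℕ)
    [hp : Fact p.Prime] (hS : IsPGroup p S) (F : Cfsg.FusionSystem S) (H : Subgroup Ω)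
    (hH : F.IsEssential p H) (hcard : Nat.card H = p ^ 3) (hchain : HasChain ↥H p) : False := by
  have hpp : p.Prime := hp.out
  obtain ⟨hHc, hHn, hnorm, Y, hY⟩ := hH
  have hHS : H ≤ S := hHc.1
  haveI : Finite H := finite_of_le S hHS
  obtain ⟨H1, H2, h12, hc1, hc2, hch1, hch2⟩ := hchain
  obtain ⟨Kst, hKn, hKp, hKpow⟩ := chain_main H1 H2 h12 hc1 hc2 hcard hch1 hch2
  set A := F.autGroup H with hA
  set I := (Inn H).subgroupOf A with hI
  haveI : I.Normal := hnorm
  -- the image of the stability group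
  have hsurj : Function.Surjective (QuotientGroup.mk' I) := QuotientGroup.mk'_surjective _
  haveI : (Kst.subgroupOf A).Normal := inferInstance
  haveI hNn : ((Kst.subgroupOf A).map (QuotientGroup.mk' I)).Normal :=
    Subgroup.Normal.map inferInstance _ hsurj
  have hKAp : IsPGroup p (Kst.subgroupOf A) := by
    intro ⟨a, ha⟩
    obtain ⟨k, hk⟩ := hKp ⟨(a : MulAut H), Subgroup.mem_subgroupOf.mp ha⟩
    refine ⟨k, ?_⟩
    apply Subtype.ext
    apply Subtype.ext
    have := congrArg Subtype.val hk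
    simpa using this
  have hbot := normal_pSubgroup_eq_bot_of_SPE hY
    ((Kst.subgroupOf A).map (QuotientGroup.mk' I)) (hKAp.map _)
  have hdvd : p ∣ Nat.card (↥A ⧸ I) := hY.1
  obtain ⟨ξ, hξ⟩ := exists_prime_orderOf_dvd_card' p hdvd
  obtain ⟨a, rfl⟩ := hsurj ξ
  have hmem : a ^ (p - 1) ∈ Kst.subgroupOf A := by
    rw [Subgroup.mem_subgroupOf, Subgroup.coe_pow]
    exact hKpow _
  have h1 : (QuotientGroup.mk' I) (a ^ (p - 1)) ∈ (Kst.subgroupOf A).map (QuotientGroup.mk' I) :=
    ⟨_, hmem, rfl⟩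
  rw [hbot, Subgroup.mem_bot, map_pow] at h1
  have h2 : orderOf ((QuotientGroup.mk' I) a) ∣ p - 1 := orderOf_dvd_of_pow_eq_one h1
  rw [hξ] at h2
  have h3 := Nat.le_of_dvd (by have := hpp.two_le; omega) h2
  have := hpp.two_le
  omega

/-- Let F be a saturated fusion system over a finite p-group S and H an essential subgroup of order p³. Then H is elementary abelian, or p is odd and H is extraspecial of exponent p, or p = 2 and H is the quaternion group of order 8. -/
theorem result {Ω : Type u} [Group Ω] {S : Subgroup Ω} [Finite S] (p : ℕ) [Fact p.Prime] (hS : IsPGroup p S)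
    (F : Cfsg.FusionSystem S) (hF : F.IsSaturated p) (H : Subgroup Ω) (hH : F.IsEssential p H) (hcard : Nat.card H = p ^ 3) :
    Cfsg.IsElementaryAbelian p H ∨ (Odd p ∧ Cfsg.IsExtraspecial p ↥H ∧ ∀ x ∈ H, x ^ p = 1) ∨
      (p = 2 ∧ Nonempty (↥H ≃* QuaternionGroup 2)) := by
  have hpp : p.Prime := Fact.out
  have hHS : H ≤ S := hH.1.1
  haveI : Finite H := finite_of_le S hHS
  rcases order_p3_cases (H := ↥H) hcard with h | ⟨hab, hexp⟩ | ⟨hp2, hes, hexp⟩ | ⟨hp2, hq⟩
  · exact absurd (not_essential_of_chain p hS F H hH hcard h) id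
  · left
    refine ⟨⟨⟨fun a b => hab a b⟩⟩, fun a ha => ?_⟩
    have := hexp ⟨a, ha⟩
    have h2 := congrArg Subtype.val this
    rw [Subgroup.coe_pow, Subgroup.coe_one] at h2
    exact h2
  · right; left
    refine ⟨hpp.odd_of_ne_two hp2, hes, fun x hx => ?_⟩
    have := hexp ⟨x, hx⟩
    have h2 := congrArg Subtype.val this
    rw [Subgroup.coe_pow, Subgroup.coe_one] at h2
    exact h2
  · right; right
    exact ⟨hp2, hq⟩

end Cfsg.Agent.S5186
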