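import Cfsg.Statements.S5187
import Cfsg.Agent.Lib_helper26_AbEssC
import Cfsg.Agent.Lib_helper25_Radical

set_option autoImplicit false
universe u
open Cfsg

namespace Cfsg.Agent.S5187

/-- Let F be a saturated fusion system over a finite p-group S and H an abelian essential subgroup that can be generated by two elements (its Frattini quotient has order at most p²). Then H is elementary abelian of order p², or p ≤ 3 and H is homocyclic of rank two, that is isomorphic to C_{pᵏ} × C_{pᵏ} for some k. -/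
theorem result {Ω : Type u} [Group Ω] {S : Subgroup Ω} [Finite S] (p : ℕ) [Fact p.Prime] (hS : IsPGroup p S)
    (F : Cfsg.FusionSystem S) (hF : F.IsSaturated p) (H : Subgroup Ω) (hH : F.IsEssential p H) (hab : IsMulCommutative ↥H) (hrk : (frattini ↥H).index ≤ p ^ 2) :
    (Cfsg.IsElementaryAbelian p H ∧ Nat.card H = p ^ 2) ∨
      (p ≤ 3 ∧ ∃ k : ℕ, Nonempty (↥H ≃* Multiplicative (ZMod (p ^ k) × ZMod (p ^ k)))) := by
  have hHS : H ≤ S := hH.1.1
  haveI : Finite H := Cfsg.Agent.helper25.finite_of_le S hHS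
  have hc : ∀ a b : H, a * b = b * a := fun a b => hab.is_comm.comm a b
  have hInn : Cfsg.Inn H = ⊥ := by
    rw [MonoidHom.range_eq_bot_iff]
    ext g x
    show ((g * x * g⁻¹ : H) : Ω) = x
    rw [hc g x]; simp
  have hrad := Cfsg.Agent.helper25.isRadical_of_isEssential hS F hH
  have hpc : Cfsg.pCore p (F.autGroup H) = ⊥ := by
    have h1 := hrad.2
    rw [hInn] at h1
    exact (Subgroup.map_eq_bot_iff_of_injective _ (Subgroup.subtype_injective _)).mp h1
  have hcore : ∀ N : Subgroup (F.autGroup H), N.Normal → IsPGroup p N → N = ⊥ := by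
    intro N hN hNp
    rw [eq_bot_iff, ← hpc]
    exact le_sSup ⟨hN, hNp⟩
  have hdvd : p ∣ Nat.card (F.autGroup H) := by
    obtain ⟨hn, E, hE⟩ := hH.2.2
    exact hE.1.trans (Subgroup.card_quotient_dvd_card _)
  have hHp : IsPGroup p H := hS.to_le hHS
  rcases Cfsg.Agent.h26AbEss.main hc hHp (F.autGroup H) hdvd hcore hrk with ⟨h1, h2⟩ | h
  · left
    exact ⟨⟨hab, fun a ha => congrArg Subtype.val (h1 ⟨a, ha⟩)⟩, h2⟩
  · right
    exact h

end Cfsg.Agent.S5187
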