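import Cfsg.Statements.S5191
-- import your own Cfsg.Agent.* helpers here

set_option autoImplicit false
open Cfsg

namespace Cfsg.Agent.S5191

/-- Fusion in a finite group G and in its quotient by O_{p'}(G) agree. Let S be a Sylow p-subgroup of G, N = O_{p'}(G) and P ≤ S. If an element of G/N conjugates the image of P into the image of S, then some element g of G conjugates P into S and induces the same map on P modulo N. (Together with the injectivity of S → G/N this says that g ↦ gN induces an isomorphism of the fusion system of G on S with that of G/N on SN/N.) -/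
theorem result {G : Type*} [Group G] [Finite G] {p : ℕ} [Fact p.Prime]
    [hN : (Cfsg.pPrimeCore p G).Normal] (S : Sylow p G) (P : Subgroup G) (hP : P ≤ (S : Subgroup G))
    (γ : G ⧸ Cfsg.pPrimeCore p G)
    (hγ : ∀ x ∈ P, γ * QuotientGroup.mk x * γ⁻¹ ∈ ((S : Subgroup G).map (QuotientGroup.mk' (Cfsg.pPrimeCore p G)))) :
    ∃ g : G, ∀ x ∈ P, g * x * g⁻¹ ∈ S ∧
      (QuotientGroup.mk (g * x * g⁻¹) : G ⧸ Cfsg.pPrimeCore p G) = γ * QuotientGroup.mk x * γ⁻¹ := by
  obtain ⟨h, rfl⟩ := QuotientGroup.mk_surjective γ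
  generalize hNdef : Cfsg.pPrimeCore p G = N at *
  -- conjugate of P lies in S ⊔ N
  have hQH : ∀ x ∈ P, h * x * h⁻¹ ∈ (S : Subgroup G) ⊔ N := by
    intro x hx
    obtain ⟨s, hs, hsx⟩ := hγ x hx
    have h1 : (QuotientGroup.mk s : G ⧸ N) = QuotientGroup.mk (h * x * h⁻¹) := by
      simpa using hsx
    have h2 : s⁻¹ * (h * x * h⁻¹) ∈ N := QuotientGroup.eq.mp h1
    have : h * x * h⁻¹ = s * (s⁻¹ * (h * x * h⁻¹)) := by group
    rw [this]
    exact Subgroup.mul_mem_sup hs h2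
  set H := (S : Subgroup G) ⊔ N with hH
  have hSH : (S : Subgroup G) ≤ H := le_sup_left
  let S' : Sylow p H := S.subtype hSH
  -- Q' = conjugate of P inside H
  let Q' : Subgroup H := (P.map (MulAut.conj h).toMonoidHom).subgroupOf H
  have hQ'p : IsPGroup p Q' := by
    have hPp : IsPGroup p P := S.isPGroup'.to_le hP
    have : IsPGroup p (P.map (MulAut.conj h).toMonoidHom) := hPp.map _
    exact this.comap_subtype
  obtain ⟨R, hR⟩ := hQ'p.exists_le_sylow
  obtain ⟨m, hm⟩ := MulAction.exists_smul_eq H R S'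
  have hmS : ∀ x ∈ P, (m : G) * (h * x * h⁻¹) * (m : G)⁻¹ ∈ (S : Subgroup G) := by
    intro x hx
    have hxH : h * x * h⁻¹ ∈ H := hQH x hx
    have hxQ' : (⟨h * x * h⁻¹, hxH⟩ : H) ∈ Q' := by
      rw [Subgroup.mem_subgroupOf]
      exact ⟨x, hx, rfl⟩
    have hxR : (⟨h * x * h⁻¹, hxH⟩ : H) ∈ (R : Subgroup H) := hR hxQ'
    have hxmR : m * ⟨h * x * h⁻¹, hxH⟩ * m⁻¹ ∈ ((m • R : Sylow p H) : Subgroup H) := by
      rw [Sylow.coe_subgroup_smul]  
      have := Subgroup.smul_mem_pointwise_smul _ (MulAut.conj m) _ hxR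
      simpa [MulAut.smul_def] using this
    rw [hm] at hxmR
    have : m * ⟨h * x * h⁻¹, hxH⟩ * m⁻¹ ∈ (S : Subgroup G).subgroupOf H := hxmR
    rw [Subgroup.mem_subgroupOf] at this
    simpa using this
  have hmH : (m : G) ∈ (((S : Subgroup G) ⊔ N : Subgroup G) : Set G) := m.2
  rw [Subgroup.mul_normal] at hmH
  obtain ⟨s, hs, n, hn, hsn⟩ := hmH
  refine ⟨n * h, fun x hx => ⟨?_, ?_⟩⟩
  · have h1 := hmS x hx
    rw [← hsn] at h1
    have h2 : n * h * x * (n * h)⁻¹ = s⁻¹ * (s * n * (h * x * h⁻¹) * (s * n)⁻¹) * s := by group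
    rw [h2]
    exact Subgroup.mul_mem _ (Subgroup.mul_mem _ (Subgroup.inv_mem _ hs) h1) hs
  · have hn1 : (QuotientGroup.mk n : G ⧸ N) = 1 := (QuotientGroup.eq_one_iff n).mpr hn
    simp only [QuotientGroup.mk_mul, QuotientGroup.mk_inv, hn1, one_mul, mul_inv_rev, inv_one, mul_one]

end Cfsg.Agent.S5191
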