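import Cfsg.Statements.S5198
import Cfsg.Agent.Lib_helper26_ModT
import Cfsg.Agent.Lib_helper26_Fusion

set_option autoImplicit false
open Cfsg

namespace Cfsg.Agent.S5198

open Cfsg.FusionSystem Cfsg.Agent.helper25 Cfsg.Agent.helper26.ModT

/-- the elements of `S` acting on `T` as elements of `A`. -/
def actSub {Ω : Type*} [Group Ω] (S T : Subgroup Ω) (A : Subgroup (MulAut T)) : Subgroup Ω where
  carrier := {x | x ∈ S ∧ ∃ α ∈ A, ∀ t : T, ((α t : T) : Ω) = x * t * x⁻¹}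
  one_mem' := ⟨S.one_mem, 1, A.one_mem, fun t => by simp⟩
  mul_mem' := by
    rintro x y ⟨hx, α, hα, hαx⟩ ⟨hy, β, hβ, hβy⟩
    refine ⟨S.mul_mem hx hy, α * β, A.mul_mem hα hβ, fun t => ?_⟩
    show ((α (β t) : T) : Ω) = _
    rw [hαx, hβy]; group
  inv_mem' := by
    rintro x ⟨hx, α, hα, hαx⟩
    refine ⟨S.inv_mem hx, α⁻¹, A.inv_mem hα, fun t => ?_⟩
    have h := hαx (α⁻¹ t)
    rw [MulAut.apply_inv_self] at h
    calc ((α⁻¹ t : T) : Ω) = x⁻¹ * (x * ((α⁻¹ t : T) : Ω) * x⁻¹) * x⁻¹⁻¹ := by group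
      _ = x⁻¹ * (t : Ω) * x⁻¹⁻¹ := by rw [← h]

theorem mem_actSub {Ω : Type*} [Group Ω] (S T : Subgroup Ω) (A : Subgroup (MulAut T)) (x : Ω) :
    x ∈ actSub S T A ↔ x ∈ S ∧ ∃ α ∈ A, ∀ t : T, ((α t : T) : Ω) = x * t * x⁻¹ := Iff.rfl

theorem key_pprime {Ω : Type*} [Group Ω] {S : Subgroup Ω} [Finite S] {p : ℕ} [Fact p.Prime]
    (hS : IsPGroup p S) (F : Cfsg.FusionSystem S) (hF : F.IsSaturated p) {T : Subgroup Ω}
    (hT : F.StronglyClosed T) {P : Subgroup Ω} (hPS : P ≤ S) (β : MulAut P)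
    (hβ : β ∈ F.autGroup P) (hcop : Nat.Coprime (orderOf β) p) (x : P) :
    (x : Ω)⁻¹ * ((β x : P) : Ω) ∈ actSub S T
      ((Cfsg.pResidual p ↥(F.autGroup T)).map (F.autGroup T).subtype ⊔ Cfsg.Inn ↥T) := by
  have hTS := hT.1
  have hN := stronglyClosed_le_normalizer F hT
  have hDS : P ⊔ T ≤ S := sup_le hPS hTS
  haveI : Finite ↥(P ⊔ T) := finite_of_le S hDS
  haveI : Finite T := finite_of_le S hTS
  haveI : Finite P := finite_of_le S hPS
  have hβ' : P.subtype.comp β.toMonoidHom ∈ F.Hom P := (mem_autGroup_iff F hPS β).mp hβ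
  obtain ⟨ψ, hψ, hψβ⟩ := exists_extension_mod hS F hF hT hβ'
  have hψβ' : ∀ y : P, ((β y : P) : Ω)⁻¹ * ψ (Subgroup.inclusion le_sup_left y) ∈ T := hψβ
  have hval : ∀ d : ↥(P ⊔ T), ψ d ∈ P ⊔ T := by
    apply sup_hom_mem
    · intro y hy
      have e : ψ ⟨y, (le_sup_left : P ≤ P ⊔ T) hy⟩ = ((β ⟨y, hy⟩ : P) : Ω) *
          ((((β ⟨y, hy⟩ : P) : Ω))⁻¹ * ψ (Subgroup.inclusion le_sup_left ⟨y, hy⟩)) := by
        rw [mul_inv_cancel_left]; rfl
      rw [e]
      exact Subgroup.mul_mem _ (Subgroup.mem_sup_left (β ⟨y, hy⟩).2)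
        (Subgroup.mem_sup_right (hψβ' ⟨y, hy⟩))
    · intro t ht
      exact Subgroup.mem_sup_right (sc_map_mem F hT le_sup_right hψ ht)
  obtain ⟨ψh, hψh, hψhc⟩ := Cfsg.Agent.helper26.exists_mulAut_of_mem F ψ hψ hval
  have hT_inv : ∀ (j : ℕ) (t : Ω) (ht : t ∈ T),
      (((ψh ^ j) ⟨t, (le_sup_right : T ≤ P ⊔ T) ht⟩ : ↥(P ⊔ T)) : Ω) ∈ T := by
    intro j
    induction j with
    | zero => intro t ht; exact ht
    | succ j ih =>
      intro t ht
      rw [pow_succ']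
      show ((ψh ((ψh ^ j) ⟨t, (le_sup_right : T ≤ P ⊔ T) ht⟩) : ↥(P ⊔ T)) : Ω) ∈ T
      rw [hψhc]
      exact sc_map_mem F hT le_sup_right hψ (ih t ht)
  have hcong : ∀ (j : ℕ) (y : P), (((β ^ j) y : P) : Ω)⁻¹ *
      (((ψh ^ j) (Subgroup.inclusion le_sup_left y) : ↥(P ⊔ T)) : Ω) ∈ T := by
    intro j
    induction j with
    | zero =>
      intro y
      show (y : Ω)⁻¹ * (y : Ω) ∈ T
      rw [inv_mul_cancel]; exact T.one_mem
    | succ j ih =>
      intro y
      rw [pow_succ', pow_succ']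
      show ((β ((β ^ j) y) : P) : Ω)⁻¹ *
        ((ψh ((ψh ^ j) (Subgroup.inclusion le_sup_left y)) : ↥(P ⊔ T)) : Ω) ∈ T
      have htT : (((β ^ j) y : P) : Ω)⁻¹ *
        (((ψh ^ j) (Subgroup.inclusion le_sup_left y) : ↥(P ⊔ T)) : Ω) ∈ T := ih y
      have e : (ψh ^ j) (Subgroup.inclusion le_sup_left y) =
          Subgroup.inclusion le_sup_left ((β ^ j) y) *
            ⟨_, (le_sup_right : T ≤ P ⊔ T) htT⟩ := by
        apply Subtype.ext
        show _ = (((β ^ j) y : P) : Ω) * ((((β ^ j) y : P) : Ω)⁻¹ *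
          (((ψh ^ j) (Subgroup.inclusion le_sup_left y) : ↥(P ⊔ T)) : Ω))
        rw [mul_inv_cancel_left]
      rw [e, map_mul, Subgroup.coe_mul, hψhc, hψhc, ← mul_assoc]
      exact T.mul_mem (hψβ' ((β ^ j) y)) (sc_map_mem F hT le_sup_right hψ htT)
  -- the exponent
  have hNpos : 0 < orderOf ψh := orderOf_pos ψh
  have hmpos : 0 < orderOf β := orderOf_pos β
  obtain ⟨k, hk1, hpak⟩ : ∃ k : ℕ, k ≡ 1 [MOD orderOf β] ∧
      p ^ ((orderOf ψh).factorization p) ∣ k := by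
    refine ⟨(p ^ ((orderOf ψh).factorization p)) ^ (Nat.totient (orderOf β)), ?_, ?_⟩
    · exact Nat.ModEq.pow_totient (Nat.Coprime.pow_left _ hcop.symm)
    · exact dvd_pow_self _ (Nat.totient_pos.mpr hmpos).ne'
  have hβk : β ^ k = β := by
    have := (pow_eq_pow_iff_modEq (x := β)).mpr hk1
    rwa [pow_one] at this
  have hωF : ψh ^ k ∈ F.autGroup (P ⊔ T) := pow_mem hψh k
  have hωcop : Nat.Coprime (orderOf (ψh ^ k)) p := by
    have hdvd : orderOf (ψh ^ k) ∣ orderOf ψh / p ^ ((orderOf ψh).factorization p) := by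
      apply orderOf_dvd_of_pow_eq_one
      rw [← pow_mul]
      apply orderOf_dvd_iff_pow_eq_one.mp
      obtain ⟨c, hc⟩ := hpak
      rw [hc]
      have h3 : p ^ ((orderOf ψh).factorization p) *
          (orderOf ψh / p ^ ((orderOf ψh).factorization p)) = orderOf ψh :=
        Nat.ordProj_mul_ordCompl_eq_self (orderOf ψh) p
      exact ⟨c, by
        conv_rhs => rw [← h3]
        ring⟩
    have h2 : Nat.Coprime p (orderOf ψh / p ^ ((orderOf ψh).factorization p)) :=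
      Nat.coprime_ordCompl (Fact.out) hNpos.ne'
    exact Nat.Coprime.coprime_dvd_left hdvd h2.symm
  -- restriction to T
  have hωhom : (P ⊔ T).subtype.comp (ψh ^ k).toMonoidHom ∈ F.Hom (P ⊔ T) :=
    (mem_autGroup_iff F hDS (ψh ^ k)).mp hωF
  have hres := restrict_mem F (le_sup_right : T ≤ P ⊔ T) hωhom
  have hvalT : ∀ t : T, (((P ⊔ T).subtype.comp (ψh ^ k).toMonoidHom).comp
      (Subgroup.inclusion le_sup_right)) t ∈ T := fun t => hT_inv k t t.2
  obtain ⟨ωT, hωT, hωTc⟩ := Cfsg.Agent.helper26.exists_mulAut_of_mem F _ hres hvalT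
  have hωTc' : ∀ t : T, ((ωT t : T) : Ω) =
      (((ψh ^ k) (Subgroup.inclusion le_sup_right t) : ↥(P ⊔ T)) : Ω) := hωTc
  have hωTpow : ∀ (n : ℕ) (t : T), ((((ωT ^ n) t : T)) : Ω) =
      ((((ψh ^ k) ^ n) (Subgroup.inclusion le_sup_right t) : ↥(P ⊔ T)) : Ω) := by
    intro n
    induction n with
    | zero => intro t; rfl
    | succ n ih =>
      intro t
      rw [pow_succ, pow_succ]
      show (((ωT ^ n) (ωT t) : T) : Ω) =
        ((((ψh ^ k) ^ n) ((ψh ^ k) (Subgroup.inclusion le_sup_right t)) : ↥(P ⊔ T)) : Ω)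
      rw [ih (ωT t)]
      have e : Subgroup.inclusion (le_sup_right : T ≤ P ⊔ T) (ωT t) =
          (ψh ^ k) (Subgroup.inclusion le_sup_right t) := Subtype.ext (hωTc' t)
      rw [e]
  have hωTcop : Nat.Coprime (orderOf ωT) p := by
    apply Nat.Coprime.coprime_dvd_left _ hωcop
    apply orderOf_dvd_of_pow_eq_one
    apply MulEquiv.ext
    intro t
    apply Subtype.ext
    rw [hωTpow, pow_orderOf_eq_one]
    rfl
  -- the elements
  have hxS : (x : Ω) ∈ S := hPS x.2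
  have hxN : (x : Ω) ∈ Subgroup.normalizer (T : Set Ω) := hN hxS
  have hzS : (((ψh ^ k) (Subgroup.inclusion le_sup_left x) : ↥(P ⊔ T)) : Ω) ∈ S := hDS (Subtype.property _)
  have hzN : (((ψh ^ k) (Subgroup.inclusion le_sup_left x) : ↥(P ⊔ T)) : Ω) ∈
      Subgroup.normalizer (T : Set Ω) := hN hzS
  have hγx : normAut T x hxN ∈ F.autGroup T :=
    autInducedBy_le_autGroup F hTS (normAut_mem S T ⟨hxS, hxN⟩)
  have hrel : normAut T _ hzN = ωT * normAut T x hxN * ωT⁻¹ := by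
    apply MulEquiv.ext
    intro t
    apply Subtype.ext
    show (((ψh ^ k) (Subgroup.inclusion le_sup_left x) : ↥(P ⊔ T)) : Ω) * (t : Ω) *
      (((ψh ^ k) (Subgroup.inclusion le_sup_left x) : ↥(P ⊔ T)) : Ω)⁻¹ =
      ((ωT (normAut T x hxN (ωT⁻¹ t)) : T) : Ω)
    rw [hωTc']
    have e1 : Subgroup.inclusion (le_sup_right : T ≤ P ⊔ T) (normAut T x hxN (ωT⁻¹ t)) =
        Subgroup.inclusion le_sup_left x * Subgroup.inclusion le_sup_right (ωT⁻¹ t) *
          (Subgroup.inclusion le_sup_left x)⁻¹ := Subtype.ext rfl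
    rw [e1, map_mul, map_mul, map_inv, Subgroup.coe_mul, Subgroup.coe_mul, Subgroup.coe_inv,
      ← hωTc' (ωT⁻¹ t), MulAut.apply_inv_self]
  -- (i)
  have h_i : (x : Ω)⁻¹ * (((ψh ^ k) (Subgroup.inclusion le_sup_left x) : ↥(P ⊔ T)) : Ω) ∈
      actSub S T ((Cfsg.pResidual p ↥(F.autGroup T)).map (F.autGroup T).subtype ⊔ Cfsg.Inn ↥T) := by
    refine ⟨S.mul_mem (S.inv_mem hxS) hzS, (normAut T x hxN)⁻¹ * normAut T _ hzN, ?_, ?_⟩
    · apply Subgroup.mem_sup_left
      have hωTres : (⟨ωT, hωT⟩ : F.autGroup T) ∈ Cfsg.pResidual p ↥(F.autGroup T) := by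
        apply Subgroup.subset_closure
        show Nat.Coprime (orderOf (⟨ωT, hωT⟩ : F.autGroup T)) p
        rw [Subgroup.orderOf_mk]; exact hωTcop
      have hconj := (Cfsg.Agent.helper10.pResidual_normal p ↥(F.autGroup T)).conj_mem _ hωTres
        (⟨normAut T x hxN, hγx⟩ : F.autGroup T)⁻¹
      refine ⟨_, Subgroup.mul_mem _ hconj (Subgroup.inv_mem _ hωTres), ?_⟩
      rw [hrel]
      show (normAut T x hxN)⁻¹ * ωT * (normAut T x hxN)⁻¹⁻¹ * ωT⁻¹ = _
      group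
    · intro t
      show (((normAut T x hxN)⁻¹ (normAut T _ hzN t) : T) : Ω) = _
      have h := congrArg Subtype.val (MulAut.apply_inv_self _ (normAut T x hxN) (normAut T _ hzN t))
      have h' : (x : Ω) * (((normAut T x hxN)⁻¹ (normAut T _ hzN t) : T) : Ω) * (x : Ω)⁻¹ =
          (((ψh ^ k) (Subgroup.inclusion le_sup_left x) : ↥(P ⊔ T)) : Ω) * (t : Ω) *
            (((ψh ^ k) (Subgroup.inclusion le_sup_left x) : ↥(P ⊔ T)) : Ω)⁻¹ := h
      calc (((normAut T x hxN)⁻¹ (normAut T _ hzN t) : T) : Ω)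
          = (x : Ω)⁻¹ * ((x : Ω) * (((normAut T x hxN)⁻¹ (normAut T _ hzN t) : T) : Ω) *
              (x : Ω)⁻¹) * (x : Ω) := by group
        _ = _ := by rw [h']; group
  -- (ii)
  have ht₁ : ((β x : P) : Ω)⁻¹ * (((ψh ^ k) (Subgroup.inclusion le_sup_left x) : ↥(P ⊔ T)) : Ω) ∈ T := by
    have := hcong k x
    rwa [hβk] at this
  have h_ii : ((β x : P) : Ω)⁻¹ * (((ψh ^ k) (Subgroup.inclusion le_sup_left x) : ↥(P ⊔ T)) : Ω) ∈
      actSub S T ((Cfsg.pResidual p ↥(F.autGroup T)).map (F.autGroup T).subtype ⊔ Cfsg.Inn ↥T) := by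
    refine ⟨hTS ht₁, MulAut.conj ⟨_, ht₁⟩, Subgroup.mem_sup_right ⟨⟨_, ht₁⟩, rfl⟩, fun t => rfl⟩
  have e : (x : Ω)⁻¹ * ((β x : P) : Ω) =
      ((x : Ω)⁻¹ * (((ψh ^ k) (Subgroup.inclusion le_sup_left x) : ↥(P ⊔ T)) : Ω)) *
        (((β x : P) : Ω)⁻¹ * (((ψh ^ k) (Subgroup.inclusion le_sup_left x) : ↥(P ⊔ T)) : Ω))⁻¹ := by
    group
  rw [e]
  exact Subgroup.mul_mem _ h_i (Subgroup.inv_mem _ h_ii)

/-- Let F be a saturated fusion system over a finite p-group S and T a subgroup of S strongly closed in F (so T is normal in S). Then every element x of the hyperfocal subgroup of F acts on T by conjugation as an element of O^p(Aut_F(T))·Inn(T): there is an automorphism of T in the subgroup generated by the elements of Aut_F(T) of order prime to p together with the inner automorphisms of T that agrees with conjugation by x. -/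
theorem result {Ω : Type*} [Group Ω] {S : Subgroup Ω} [Finite S] (p : ℕ) [Fact p.Prime] (hS : IsPGroup p S) (F : Cfsg.FusionSystem S) (hF : F.IsSaturated p) (T : Subgroup Ω) (hT : F.StronglyClosed T) : ∀ x ∈ F.hyperfocalSubgroup p, ∃ α ∈ ((Cfsg.pResidual p ↥(F.autGroup T)).map (F.autGroup T).subtype ⊔ Cfsg.Inn ↥T : Subgroup (MulAut ↥T)), ∀ t : ↥T, ((α t : ↥T) : Ω) = x * (t : Ω) * x⁻¹ := by
  have hle : F.hyperfocalSubgroup p ≤ actSub S T
      ((Cfsg.pResidual p ↥(F.autGroup T)).map (F.autGroup T).subtype ⊔ Cfsg.Inn ↥T) := by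
    unfold Cfsg.FusionSystem.hyperfocalSubgroup
    rw [Subgroup.closure_le]
    rintro _ ⟨P, α, x, hPS, hα, rfl⟩
    let B : Subgroup (F.autGroup P) :=
      { carrier := {β | ∀ x : P, (x : Ω)⁻¹ * (((β : MulAut P) x : P) : Ω) ∈ actSub S T
          ((Cfsg.pResidual p ↥(F.autGroup T)).map (F.autGroup T).subtype ⊔ Cfsg.Inn ↥T)}
        one_mem' := by
          intro x
          show (x : Ω)⁻¹ * (x : Ω) ∈ _
          rw [inv_mul_cancel]; exact Subgroup.one_mem _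
        mul_mem' := by
          intro β γ hβ hγ x
          have e : (x : Ω)⁻¹ * ((((β * γ : F.autGroup P) : MulAut P) x : P) : Ω) =
              ((x : Ω)⁻¹ * ((((γ : MulAut P) x : P)) : Ω)) *
                (((((γ : MulAut P) x : P)) : Ω)⁻¹ *
                  (((β : MulAut P) ((γ : MulAut P) x) : P) : Ω)) := by
            rw [mul_assoc, mul_inv_cancel_left]; rfl
          rw [e]
          exact Subgroup.mul_mem _ (hγ x) (hβ _)
        inv_mem' := by
          intro β hβ x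
          have h := hβ ((β : MulAut P)⁻¹ x)
          rw [MulAut.apply_inv_self] at h
          have e : (x : Ω)⁻¹ * ((((β⁻¹ : F.autGroup P) : MulAut P) x : P) : Ω) =
              (((((β : MulAut P)⁻¹ x : P)) : Ω)⁻¹ * (x : Ω))⁻¹ := by
            rw [mul_inv_rev, inv_inv]; rfl
          rw [e]
          exact Subgroup.inv_mem _ h }
    have hB : Cfsg.pResidual p ↥(F.autGroup P) ≤ B := by
      unfold Cfsg.pResidual
      rw [Subgroup.closure_le]
      intro β hβ x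
      refine key_pprime hS F hF hT hPS (β : MulAut P) β.2 ?_ x
      rw [Subgroup.orderOf_coe]; exact hβ
    exact hB hα x
  intro x hx
  exact (hle hx).2

end Cfsg.Agent.S5198
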