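import Cfsg.Statements.S5223
import Mathlib
import Cfsg.Agent.Lib_helper26_Alperin
import Cfsg.Agent.S5083

set_option autoImplicit false
open Cfsg

namespace Cfsg.Agent.S5223

open Cfsg.FusionSystem Cfsg.Agent.helper26

theorem aut_trivial_of_chain {Ω : Type*} [Group Ω] {S : Subgroup Ω} [Finite S] (p : ℕ) [Fact p.Prime]
    (hS : IsPGroup p S) (F : Cfsg.FusionSystem S)
    (n : ℕ) (Q : Fin (n + 1) → Subgroup Ω) (hQ0 : Q 0 = S) (hQn : Q (Fin.last n) = ⊥)
    (hstep : ∀ i : Fin n, Subgroup.closure {y : Ω | ∃ x ∈ Q i.castSucc, ∃ φ ∈ F.Hom (Subgroup.zpowers x),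
      y = x⁻¹ * φ ⟨x, Subgroup.mem_zpowers x⟩} ≤ Q i.succ)
    {R : Subgroup Ω} (hRS : R ≤ S) (α : MulAut R) (hα : α ∈ F.autGroup R) (k : ℕ) (hk : α ^ k = 1)
    (hkp : k.Coprime p) : α = 1 := by
  haveI : Finite R := finite_of_le hRS
  have hα' := (mem_autGroup_iff F hRS α).mp hα
  have hRp : IsPGroup p R := hS.to_le hRS
  have main : ∀ i : Fin (n + 1), ∀ x : R, (x : Ω) ∈ Q i → α x = x := by
    intro i
    induction i using Fin.reverseInduction with
    | last =>
      intro x hx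
      rw [hQn, Subgroup.mem_bot] at hx
      have : x = 1 := Subtype.ext hx
      rw [this, map_one]
    | cast i ih =>
      intro x hx
      have hzle : Subgroup.zpowers (x : Ω) ≤ R := by
        rw [Subgroup.zpowers_le]; exact x.2
      have hφ := restrict_mem F hzle _ hα'
      have hy : ((x⁻¹ * α x : R) : Ω) ∈ Q i.succ := by
        apply hstep i
        apply Subgroup.subset_closure
        refine ⟨x, hx, _, hφ, ?_⟩
        rfl
      have hαy : α (x⁻¹ * α x) = x⁻¹ * α x := ih _ hy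
      have hpow : ∀ j : ℕ, (α ^ j) x = x * (x⁻¹ * α x) ^ j := by
        intro j
        induction j with
        | zero => simp
        | succ j ihj =>
          rw [pow_succ', MulAut.mul_apply, ihj, map_mul, map_pow, hαy, pow_succ']
          simp only [mul_assoc, mul_inv_cancel_left]
      have h1 := hpow k
      rw [hk, MulAut.one_apply] at h1
      have hyk : (x⁻¹ * α x) ^ k = 1 := mul_left_cancel (a := x) (h1.symm.trans (mul_one x).symm)
      obtain ⟨c, hc⟩ := hRp (x⁻¹ * α x)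
      have hd1 : orderOf (x⁻¹ * α x) ∣ k := orderOf_dvd_of_pow_eq_one hyk
      have hd2 : orderOf (x⁻¹ * α x) ∣ p ^ c := orderOf_dvd_of_pow_eq_one hc
      have hd := Nat.dvd_gcd hd1 hd2
      rw [Nat.Coprime.gcd_eq_one (hkp.pow_right c)] at hd
      have hy1 : x⁻¹ * α x = 1 := orderOf_eq_one_iff.mp (Nat.dvd_one.mp hd)
      exact (inv_mul_eq_one.mp hy1).symm
  ext x
  have := main 0 x (by rw [hQ0]; exact hRS x.2)
  rw [this]; rfl

/-- Let F be a saturated fusion system over a finite p-group S. Suppose there are subgroups Q₀ = S, Q₁, …, Qₙ = 1 (not required to be nested) such that for each i < n the focal subgroup of Qᵢ (generated by the elements x⁻¹φ(x), x ∈ Qᵢ, φ a map of F defined on the cyclic group generated by x) lies in Qᵢ₊₁. Then F is the inner fusion system of S. -/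
theorem result {Ω : Type*} [Group Ω] {S : Subgroup Ω} [Finite S] (p : ℕ) [Fact p.Prime] (hS : IsPGroup p S) (F : Cfsg.FusionSystem S) (hF : F.IsSaturated p) (n : ℕ) (Q : Fin (n + 1) → Subgroup Ω) (hQ0 : Q 0 = S) (hQn : Q (Fin.last n) = ⊥) (hstep : ∀ i : Fin n, Subgroup.closure {y : Ω | ∃ x ∈ Q i.castSucc, ∃ φ ∈ F.Hom (Subgroup.zpowers x), y = x⁻¹ * φ ⟨x, Subgroup.mem_zpowers x⟩} ≤ Q i.succ) : ∀ P : Subgroup Ω, F.Hom P = (Cfsg.innerFusionSystem S).Hom P := by
  have hp : ∀ P : Subgroup Ω, P ≤ S → IsPGroup p (F.autGroup P) := by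
    intro R hRS
    haveI : Finite R := Cfsg.Agent.helper26.finite_of_le hRS
    rintro ⟨α, hα⟩
    obtain ⟨a, m', hm', hord⟩ : ∃ a m', ¬ p ∣ m' ∧ orderOf α = p ^ a * m' :=
      Nat.exists_eq_pow_mul_and_not_dvd (orderOf_pos α).ne' p (Fact.out : p.Prime).ne_one
    refine ⟨a, ?_⟩
    apply Subtype.ext
    show α ^ (p ^ a) = 1
    apply aut_trivial_of_chain p hS F n Q hQ0 hQn hstep hRS (α ^ (p ^ a)) (Subgroup.pow_mem _ hα _) m'
    · rw [← pow_mul, ← hord]; exact pow_orderOf_eq_one α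
    · exact (((Nat.Prime.coprime_iff_not_dvd (Fact.out : p.Prime)).mpr hm').symm)
  have hF' := Cfsg.Agent.S5083.result p hS F hF hp
  intro P
  rw [hF']

end Cfsg.Agent.S5223
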