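import Cfsg.Statements.S5226
import Cfsg.Agent.Lib_helper25_ChainNormal2

set_option autoImplicit false
open Cfsg

namespace Cfsg.Agent.S5226

open Cfsg.FusionSystem Cfsg.Agent.helper25 in
theorem weaklyClosed_of_stronglyClosed {Ω : Type*} [Group Ω] {S : Subgroup Ω} [Finite S]
    (F : Cfsg.FusionSystem S) {Q : Subgroup Ω} (h : F.StronglyClosed Q) : F.WeaklyClosed Q := by
  refine ⟨h.1, fun φ hφ => ?_⟩
  haveI : Finite Q := finite_of_le S h.1
  have hle : φ.range ≤ Q := by rintro _ ⟨x, rfl⟩; exact h.2 Q le_rfl φ hφ x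
  apply Subgroup.eq_of_le_of_card_ge hle
  exact (Nat.card_congr (MonoidHom.ofInjective (F.injective_of_mem hφ)).toEquiv).le

open Cfsg.FusionSystem Cfsg.Agent.helper25 in
theorem weaklyClosed_le_normalizer {Ω : Type*} [Group Ω] {S : Subgroup Ω}
    (F : Cfsg.FusionSystem S) {Q : Subgroup Ω} (hQ : F.WeaklyClosed Q) :
    S ≤ Subgroup.normalizer (Q : Set Ω) := by
  apply le_normalizer_of_conj_mem
  intro s hs q hq
  have h := hQ.2 (conjHom Q s) (F.conj_mem hQ.1 hs)
  have : conjHom Q s ⟨q, hq⟩ ∈ (conjHom Q s).range := ⟨_, rfl⟩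
  rw [h] at this
  exact this

open Cfsg.FusionSystem Cfsg.Agent.helper25 in
theorem weaklyClosed_aut_mem {Ω : Type*} [Group Ω] {S : Subgroup Ω}
    (F : Cfsg.FusionSystem S) {Q P : Subgroup Ω} (hQ : F.WeaklyClosed Q) (hQP : Q ≤ P)
    (hPS : P ≤ S) {a : MulAut P} (ha : a ∈ F.autGroup P) {x : P} (hx : (x : Ω) ∈ Q) :
    ((a x : P) : Ω) ∈ Q := by
  have ha' : IsFIso F a := (mem_autGroup_iff F hPS a).mp ha
  have hres := restrict_mem F hQP ha'
  have h := hQ.2 _ hres
  have h2 : ((a x : P) : Ω) ∈ ((P.subtype.comp a.toMonoidHom).comp (Subgroup.inclusion hQP)).range :=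
    ⟨⟨x, hx⟩, rfl⟩
  rw [h] at h2
  exact h2

open Cfsg.FusionSystem Cfsg.Agent.helper25 in
open scoped commutatorElement in
theorem le_centric_radical {Ω : Type*} [Group Ω] {S : Subgroup Ω} [Finite S] (p : ℕ)
    [Fact p.Prime] (hS : IsPGroup p S) (F : Cfsg.FusionSystem S) (Q : Subgroup Ω)
    (hsc : F.StronglyClosed Q) (n : ℕ) (C : Fin (n + 1) → Subgroup Ω) (h0 : C 0 = ⊥)
    (hlast : C (Fin.last n) = Q) (hmono : Monotone C)
    (hcomm : ∀ i : Fin n, ⁅C i.succ, Q⁆ ≤ C i.castSucc)
    (hwc : ∀ j : Fin (n + 1), F.WeaklyClosed (C j))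
    (P : Subgroup Ω) (hPc : F.IsCentric P) (hPr : F.IsRadical p P) :
    ∀ j : Fin (n + 1), C j ≤ P := by
  have hPS : P ≤ S := hPc.1
  haveI : Finite P := finite_of_le S hPS
  have hQS : Q ≤ S := hsc.1
  have hSN := stronglyClosed_le_normalizer F hsc
  have hCQ : ∀ j : Fin (n + 1), C j ≤ Q := fun j => hlast ▸ hmono (Fin.le_last j)
  have hPp : IsPGroup p P := hS.to_le hPS
  intro j
  induction j using Fin.induction with
  | zero => rw [h0]; exact bot_le
  | succ i ih =>
    have hm : (i : ℕ) < n := i.2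
    have hCP : ∀ j (h : j ≤ (i : ℕ)), C ⟨j, by omega⟩ ≤ P := by
      intro j h
      refine le_trans (hmono ?_) ih
      show j ≤ (i : ℕ)
      exact h
    let c : ℕ → Subgroup P := fun j =>
      if h : j ≤ (i : ℕ) then (C ⟨j, by omega⟩).subgroupOf P
      else if j = (i : ℕ) + 1 then Q.subgroupOf P else ⊤
    have hc_le : ∀ j (h : j ≤ (i : ℕ)), c j = (C ⟨j, by omega⟩).subgroupOf P := by
      intro j h
      show (if h : j ≤ (i : ℕ) then (C ⟨j, by omega⟩).subgroupOf P
        else if j = (i : ℕ) + 1 then Q.subgroupOf P else ⊤) = _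
      rw [dif_pos h]
    have hc_m1 : c ((i : ℕ) + 1) = Q.subgroupOf P := by
      show (if h : (i : ℕ) + 1 ≤ (i : ℕ) then (C ⟨(i : ℕ) + 1, by omega⟩).subgroupOf P
        else if (i : ℕ) + 1 = (i : ℕ) + 1 then Q.subgroupOf P else ⊤) = _
      rw [dif_neg (by omega), if_pos rfl]
    have hc_gt : ∀ j, (i : ℕ) + 2 ≤ j → c j = ⊤ := by
      intro j h
      show (if h : j ≤ (i : ℕ) then (C ⟨j, by omega⟩).subgroupOf P
        else if j = (i : ℕ) + 1 then Q.subgroupOf P else ⊤) = _
      rw [dif_neg (by omega), if_neg (by omega)]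
    have hcmono : Monotone c := by
      apply monotone_nat_of_le_succ
      intro j
      by_cases h1 : j + 1 ≤ (i : ℕ)
      · rw [hc_le j (by omega), hc_le (j + 1) h1]
        intro x hx
        rw [Subgroup.mem_subgroupOf] at hx ⊢
        refine hmono ?_ hx
        show j ≤ j + 1
        omega
      · by_cases h2 : j = (i : ℕ)
        · subst h2
          rw [hc_le _ le_rfl, hc_m1]
          intro x hx
          rw [Subgroup.mem_subgroupOf] at hx ⊢
          exact hCQ _ hx
        · rw [hc_gt (j + 1) (by omega)]; exact le_top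
    have hc0 : c 0 = ⊥ := by
      rw [hc_le 0 (Nat.zero_le _)]
      have : (⟨0, by omega⟩ : Fin (n + 1)) = 0 := rfl
      rw [this, h0, Subgroup.bot_subgroupOf]
    have hctop : c ((i : ℕ) + 2) = ⊤ := hc_gt _ le_rfl
    have hainv : ∀ a ∈ F.autGroup P, ∀ j, ∀ x ∈ c j, a x ∈ c j := by
      intro a ha j x hx
      by_cases h : j ≤ (i : ℕ)
      · rw [hc_le j h] at hx ⊢
        rw [Subgroup.mem_subgroupOf] at hx ⊢
        exact weaklyClosed_aut_mem F (hwc _) (hCP j h) hPS ha hx
      · by_cases h2 : j = (i : ℕ) + 1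
        · subst h2
          rw [hc_m1] at hx ⊢
          rw [Subgroup.mem_subgroupOf] at hx ⊢
          exact stronglyClosed_aut_mem F hsc hPS ha hx
        · rw [hc_gt j (by omega)]; exact Subgroup.mem_top _
    have hAS : C i.succ ≤ S := (hCQ _).trans hQS
    have hSNA := weaklyClosed_le_normalizer F (hwc i.succ)
    apply le_of_normal_pSubgroup hS F hPc hPr hAS hSNA (chainStabSubgroup c hcmono)
    · intro a ha k hk
      exact IsChainStab.conj hk (hainv a ha) (hainv a⁻¹ (inv_mem ha))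
    · intro k hk
      apply IsChainStab.exists_pow_eq_one hPp hcmono hk _ hctop
      refine ⟨0, ?_⟩
      intro x hx
      rw [hc0, Subgroup.mem_bot] at hx
      rw [hx, map_one]
    · intro g hg
      show IsChainStab c (normAut P g hg.2)
      have hgQ : g ∈ Q := hCQ _ hg.1
      intro j x hx
      have e3 : ((x⁻¹ * normAut P g hg.2 x : P) : Ω) = ⁅((x : Ω))⁻¹, g⁆ := by
        show (x : Ω)⁻¹ * (g * x * g⁻¹) = _
        rw [commutatorElement_def]; group
      by_cases h : j + 1 ≤ (i : ℕ)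
      · rw [hc_le (j + 1) h] at hx
        rw [hc_le j (by omega)]
        rw [Subgroup.mem_subgroupOf] at hx ⊢
        have hst := hcomm ⟨j, by omega⟩
        have e1 : (⟨j, by omega⟩ : Fin n).succ = ⟨j + 1, by omega⟩ := rfl
        have e2 : Fin.castSucc (⟨j, by omega⟩ : Fin n) = ⟨j, by omega⟩ := rfl
        rw [e1, e2, Subgroup.commutator_le] at hst
        rw [e3]
        exact hst _ (inv_mem hx) g hgQ
      · by_cases h2 : j = (i : ℕ)
        · subst h2
          rw [hc_m1] at hx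
          rw [hc_le _ le_rfl]
          rw [Subgroup.mem_subgroupOf] at hx ⊢
          have hst := hcomm i
          rw [Subgroup.commutator_comm, Subgroup.commutator_le] at hst
          rw [e3]
          exact hst _ (inv_mem hx) g hg.1
        · by_cases h3 : j = (i : ℕ) + 1
          · subst h3
            rw [hc_m1, Subgroup.mem_subgroupOf]
            show (x : Ω)⁻¹ * (g * x * g⁻¹) ∈ Q
            have h5 : (x : Ω)⁻¹ * g * ((x : Ω)⁻¹)⁻¹ ∈ Q :=
              (Subgroup.mem_normalizer_iff.mp (hSN (S.inv_mem (hPS x.2))) g).mp hgQ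
            have e5 : (x : Ω)⁻¹ * (g * x * g⁻¹) = ((x : Ω)⁻¹ * g * ((x : Ω)⁻¹)⁻¹) * g⁻¹ := by
              group
            rw [e5]
            exact Q.mul_mem h5 (Q.inv_mem hgQ)
          · rw [hc_gt j (by omega)]; exact Subgroup.mem_top _

/-- Let F be a saturated fusion system over a finite p-group S and Q a subgroup of S. Then Q is normal in F (F equals the normalizer system of Q) if and only if Q is strongly closed in F and admits a central series 1 = Q₀ ≤ Q₁ ≤ ⋯ ≤ Qₙ = Q ([Qᵢ₊₁, Q] ≤ Qᵢ) all of whose proper terms are weakly closed in F. -/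
theorem result {Ω : Type*} [Group Ω] {S : Subgroup Ω} [Finite S] (p : ℕ) [Fact p.Prime] (hS : IsPGroup p S) (F : Cfsg.FusionSystem S) (hF : F.IsSaturated p) (Q : Subgroup Ω) : F.IsNormal Q ↔ F.StronglyClosed Q ∧ ∃ (n : ℕ) (C : Fin (n + 1) → Subgroup Ω), C 0 = ⊥ ∧ C (Fin.last n) = Q ∧ Monotone C ∧ (∀ i : Fin n, ⁅C i.succ, Q⁆ ≤ C i.castSucc) ∧ ∀ i : Fin n, F.WeaklyClosed (C i.castSucc) := by
  constructor
  · intro hN
    have hsc := Cfsg.Agent.helper25.isNormal_stronglyClosed F hN
    refine ⟨hsc, ?_⟩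
    obtain ⟨n, Qs, h0, hlast, hmono, hstep⟩ := Cfsg.Agent.helper25.exists_chain_of_isNormal hS F hN
    refine ⟨n, Qs, h0, hlast, hmono, ?_, ?_⟩
    · intro i
      rw [Subgroup.commutator_comm]
      exact (hstep i).2
    · intro i
      rcases Fin.eq_zero_or_eq_succ i.castSucc with h | ⟨j, hj⟩
      · rw [h, h0]
        refine ⟨bot_le, fun φ hφ => ?_⟩
        rw [eq_bot_iff]
        rintro _ ⟨x, rfl⟩
        have : x = 1 := Subtype.ext (Subgroup.mem_bot.mp x.2)
        rw [this, map_one]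
        exact Subgroup.one_mem _
      · rw [hj]
        exact weaklyClosed_of_stronglyClosed F (hstep j).1
  · rintro ⟨hsc, n, C, h0, hlast, hmono, hcomm, hwc'⟩
    have hwc : ∀ j : Fin (n + 1), F.WeaklyClosed (C j) := by
      intro j
      rcases Fin.eq_castSucc_or_eq_last j with ⟨i, rfl⟩ | rfl
      · exact hwc' i
      · rw [hlast]; exact weaklyClosed_of_stronglyClosed F hsc
    rw [Cfsg.Agent.helper25.isNormal_iff_stronglyClosed hS F hF]
    refine ⟨hsc, fun P hPc hPr => ?_⟩
    rw [← hlast]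
    exact le_centric_radical p hS F Q hsc n C h0 hlast hmono hcomm hwc P hPc hPr (Fin.last n)

end Cfsg.Agent.S5226
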