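import Cfsg.Statements.S5249
import Mathlib
import Cfsg.Agent.Lib_helper3_FS1
import Cfsg.Agent.Lib_helper3_FS2
set_option autoImplicit false
open Cfsg

namespace Cfsg.Agent.S5249


/-- Let p be an odd prime, G a finite group in which Qd(p) (the natural semidirect product of an elementary abelian group of order p² by SL₂(p)) is not involved, and P a Sylow p-subgroup of G. Then the fusion system of G on P is a solvable fusion system. -/
theorem result {G : Type*} [Group G] [Finite G] {p : ℕ} [Fact p.Prime] (hp : p ≠ 2) (hqd : ¬ Cfsg.Involves ↥(Cfsg.qd p) G) (P : Sylow p G) : (Cfsg.groupFusionSystem (P : Subgroup G)).IsSolvableSystem := by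
  classical
  intro R hsc hne inst E hfac
  have hRP : R ≤ (P : Subgroup G) := hsc.1
  have hPN : (P : Subgroup G) ≤ Subgroup.normalizer (R : Set G) :=
    Subgroup.le_normalizer_of_normal_subgroupOf hRP
  haveI hRN : (R.subgroupOf (Subgroup.normalizer (R : Set G))).Normal := Subgroup.normal_in_normalizer
  set N : Subgroup G := Subgroup.normalizer (R : Set G) with hNdef
  let π : N →* (N ⧸ R.subgroupOf N) := QuotientGroup.mk' (R.subgroupOf N)
  have hπ : Function.Surjective π := QuotientGroup.mk'_surjective _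
  have hker : ∀ n : N, π n = 1 ↔ (n : G) ∈ R := by
    intro n
    show (QuotientGroup.mk n : N ⧸ R.subgroupOf N) = 1 ↔ _
    rw [QuotientGroup.eq_one_iff, Subgroup.mem_subgroupOf]
  let θ : (P : Subgroup G) →* ((P : Subgroup G) ⧸ R.subgroupOf (P : Subgroup G)) :=
    QuotientGroup.mk' (R.subgroupOf (P : Subgroup G))
  let ι : ((P : Subgroup G) ⧸ R.subgroupOf (P : Subgroup G)) →* (N ⧸ R.subgroupOf N) :=
    QuotientGroup.map (R.subgroupOf (P : Subgroup G)) (R.subgroupOf N) (Subgroup.inclusion hPN)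
      (fun _ h => h)
  have hιθ : ∀ s : (P : Subgroup G), ι (θ s) = π ⟨s, hPN s.2⟩ := fun s => rfl
  have hθsurj : Function.Surjective θ := QuotientGroup.mk'_surjective _
  have hι : Function.Injective ι := by
    rw [injective_iff_map_eq_one]
    intro w hw
    obtain ⟨s, rfl⟩ := hθsurj w
    rw [hιθ, hker] at hw
    exact (QuotientGroup.eq_one_iff _).2 (Subgroup.mem_subgroupOf.2 hw)
  -- the Sylow subgroup of the section
  let T : Sylow p (N ⧸ R.subgroupOf N) := (P.subtype hPN).mapSurjective hπ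
  have hT : (T : Subgroup (N ⧸ R.subgroupOf N)) = ι.range := by
    ext h
    constructor
    · rintro ⟨n, hn, rfl⟩
      have hnP : (n : G) ∈ (P : Subgroup G) := hn
      exact ⟨θ ⟨n, hnP⟩, rfl⟩
    · rintro ⟨w, rfl⟩
      obtain ⟨s, rfl⟩ := hθsurj w
      exact ⟨⟨s, hPN s.2⟩, s.2, rfl⟩
  have hzj := Cfsg.Agent.helper3.zj_le_and_ne_bot (T : Subgroup (N ⧸ R.subgroupOf N)) T.isPGroup'
  set U : Subgroup (N ⧸ R.subgroupOf N) :=
    Cfsg.centerThompsonAOf (T : Subgroup (N ⧸ R.subgroupOf N)) with hUdef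
  have hU : U ≤ ι.range := hT ▸ hzj.1
  -- the image of P in the section is nontrivial
  have hTne : (T : Subgroup (N ⧸ R.subgroupOf N)) ≠ ⊥ := by
    intro hbot
    apply hne
    apply le_antisymm hRP
    intro s hs
    have h1 : ι (θ ⟨s, hs⟩) ∈ (T : Subgroup (N ⧸ R.subgroupOf N)) := by
      rw [hT]; exact ⟨_, rfl⟩
    rw [hbot, Subgroup.mem_bot, hιθ, hker] at h1
    exact h1
  have hUne : U ≠ ⊥ := hzj.2 hTne
  have hctl : ∀ (A : Set (N ⧸ R.subgroupOf N)) (h : N ⧸ R.subgroupOf N), A ⊆ ι.range →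
      (fun a => h * a * h⁻¹) '' A ⊆ ι.range →
      ∃ x ∈ Subgroup.normalizer (U : Set (N ⧸ R.subgroupOf N)), ∀ a ∈ A, h * a * h⁻¹ = x * a * x⁻¹ := by
    intro A h hA hh
    rw [← hT] at hA hh
    exact Cfsg.Agent.helper3.zj_controls_explicit hp hqd N R T A h hA hh
  have hgN : ∀ g : G, (∀ r ∈ R, g * r * g⁻¹ ∈ R) → g ∈ N := by
    intro g hg
    exact Subgroup.mem_normalizer_fintype hg
  have hnormal := Cfsg.Agent.helper3.isNormal_comap_of_control hPN θ E hfac hsc hgN π hπ hker ι hι hιθ U hU hctl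
  intro hcore
  apply hUne
  have hle : U.comap ι ≤ E.core := le_sSup hnormal
  rw [hcore] at hle
  rw [eq_bot_iff]
  intro u hu
  obtain ⟨w, rfl⟩ := hU hu
  have hw : w ∈ U.comap ι := Subgroup.mem_comap.2 hu
  have hw1 : w = 1 := Subgroup.mem_bot.1 (hle hw)
  rw [hw1, map_one]
  exact Subgroup.mem_bot.2 rfl

end Cfsg.Agent.S5249
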