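import Cfsg.Statements.S5251
import Cfsg.Agent.Lib_helper26_NormCentric

set_option autoImplicit false
open Cfsg

namespace Cfsg.Agent.S5251

/-- Let F be a saturated fusion system over a finite p-group S, E a normal subsystem of F over T, and P an F-centric subgroup of S such that P ∩ T is not E-centric. Then some F-conjugate P* of P satisfies Out_S(P*) ∩ O_p(Out_F(P*)) ≠ 1: there is an element of N_S(P*) outside P* whose conjugation action on P* lies in O_p(Aut_F(P*)). In particular P is not both centric and radical in F. -/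
theorem result {Ω : Type*} [Group Ω] {S : Subgroup Ω} [Finite S] (p : ℕ) [Fact p.Prime] (hS : IsPGroup p S) (F : Cfsg.FusionSystem S) (hF : F.IsSaturated p) {T : Subgroup Ω} (E : Cfsg.FusionSystem T) (hE : E.IsNormalIn F p) (P : Subgroup Ω) (hP : F.IsCentric P) (hPT : ¬ E.IsCentric (P ⊓ T)) : (∃ φ ∈ F.Hom P, ∃ x ∈ S ⊓ Subgroup.normalizer (φ.range : Set Ω), x ∉ φ.range ∧ ∃ α ∈ ((Cfsg.pCore p ↥(F.autGroup φ.range)).map (F.autGroup φ.range).subtype : Subgroup (MulAut ↥φ.range)), ∀ y : ↥φ.range, ((α y : ↥φ.range) : Ω) = x * (y : Ω) * x⁻¹) ∧ ¬ F.IsRadical p P := by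
  have hinvt := hE.1.2.2
  have hsub : E.IsSubsystemOf F := hinvt.1
  have hT : F.StronglyClosed T := hinvt.2.1
  have hPS : P ≤ S := hP.1
  have hex : ∃ Q', F.IsConj (P ⊓ T) Q' ∧ ¬ Cfsg.FusionSystem.centralizerIn T Q' ≤ Q' := by
    by_contra hcon
    apply hPT
    refine ⟨inf_le_right, fun Q' hQ' => ?_⟩
    by_contra hbad
    apply hcon
    obtain ⟨φ, hφ, hr⟩ := hQ'
    exact ⟨Q', ⟨φ, hsub _ hφ, hr⟩, hbad⟩
  obtain ⟨Q', hconj, hbad⟩ := hex
  obtain ⟨φ, hφ, hbadφ⟩ := Cfsg.Agent.h26NC.exists_conj_bad hS F hF hT hPS hconj hbad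
  have hPsS : φ.range ≤ S := Cfsg.Agent.helper25.range_le_of_mem F hφ
  have hPsN := Cfsg.Agent.h26NC.le_normalizer_centralizerIn F hT hPsS
  have hnle : ¬ Cfsg.FusionSystem.centralizerIn T (φ.range ⊓ T) ≤ φ.range :=
    fun h => hbadφ (le_inf h inf_le_left)
  have hCS : Cfsg.FusionSystem.centralizerIn T (φ.range ⊓ T) ≤ S := inf_le_left.trans hT.1
  obtain ⟨x, hx, hxP⟩ : ∃ x ∈ Cfsg.FusionSystem.centralizerIn T (φ.range ⊓ T) ⊓
      Subgroup.normalizer (φ.range : Set Ω), x ∉ φ.range := by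
    by_contra hcon
    push Not at hcon
    exact hnle (Cfsg.Agent.h26NC.le_of_normalizer_inf_le' hS hPsS hCS hPsN (fun x hx => hcon x hx))
  have hxT : x ∈ T := hx.1.1
  have hxC := hx.1.2
  have hxN := hx.2
  have hxS : x ∈ S := hT.1 hxT
  have hα := Cfsg.Agent.h26NC.normAut_mem_pCore hS F hT hPsS hxT hxC hxN
  refine ⟨⟨φ, hφ, x, ⟨hxS, hxN⟩, hxP, Cfsg.Agent.helper25.normAut φ.range x hxN, hα, fun y => rfl⟩, ?_⟩
  intro hrad
  apply hxP
  obtain ⟨e, he, hecoe⟩ := Cfsg.Agent.helper25.exists_isFIso_of_mem F hφ rfl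
  have hPsc : F.IsCentric φ.range := Cfsg.Agent.helper26.isCentric_of_isConj F hP ⟨φ, hφ, rfl⟩
  set α := Cfsg.Agent.helper25.normAut φ.range x hxN with hαdef
  have hαA : α ∈ F.autGroup φ.range :=
    Cfsg.Agent.helper25.autInducedBy_le_autGroup F hPsS (Cfsg.Agent.helper25.normAut_mem S _ ⟨hxS, hxN⟩)
  set α₀ : MulAut P := MulAut.congr e.symm α with hα₀
  have hα₀A : α₀ ∈ F.autGroup P := he.symm.congr_mem_autGroup hαA
  have hα₀val : ∀ y : P, α₀ y = e.symm (α (e y)) := fun y => rfl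
  have h1 : ∀ y : P, (y : Ω) ∈ T → α₀ y = y := by
    intro y hyT
    rw [hα₀val]
    have heyT : ((e y : φ.range) : Ω) ∈ T := by
      rw [hecoe]
      have hres := Cfsg.Agent.helper25.restrict_mem F (inf_le_left : P ⊓ T ≤ P) hφ
      exact hT.2 (P ⊓ T) inf_le_right _ hres ⟨y, ⟨y.2, hyT⟩⟩
    have : α (e y) = e y := by
      apply Subtype.ext
      rw [hαdef, Cfsg.Agent.helper25.normAut_coe]
      have := Subgroup.mem_centralizer_iff.mp hxC ((e y : φ.range) : Ω) ⟨(e y).2, heyT⟩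
      rw [← this, mul_inv_cancel_right]
    rw [this, MulEquiv.symm_apply_apply]
  have h2 : ∀ y : P, (y : Ω)⁻¹ * ((α₀ y : P) : Ω) ∈ T := by
    intro y
    have hw : (((e y)⁻¹ * α (e y) : φ.range) : Ω) ∈ T := by
      have := Cfsg.Agent.h26NC.inv_mul_conj_mem F hT hxT (hPsS (e y).2)
      exact this
    have hsymm : Cfsg.Agent.helper25.IsFIso F e.symm := he.symm
    have hres := Cfsg.Agent.helper25.restrict_mem F (inf_le_left : φ.range ⊓ T ≤ φ.range) hsymm
    have h3 := hT.2 (φ.range ⊓ T) inf_le_right _ hres ⟨_, ⟨((e y)⁻¹ * α (e y)).2, hw⟩⟩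
    have e1 : e.symm ((e y)⁻¹ * α (e y)) = y⁻¹ * α₀ y := by
      rw [map_mul, map_inv, MulEquiv.symm_apply_apply, hα₀val]
    have h4 : ((e.symm ((e y)⁻¹ * α (e y)) : P) : Ω) ∈ T := h3
    rw [e1] at h4
    exact h4
  have hmem := Cfsg.Agent.h26NC.mem_pCore_of_trivial hS F hT hPS hα₀A h1 h2
  rw [hrad.2] at hmem
  obtain ⟨y₀, hy₀⟩ := hmem
  have hinn : α ∈ Inn φ.range := by
    refine ⟨e y₀, ?_⟩
    ext z
    have hz : α z = e (α₀ (e.symm z)) := by
      rw [hα₀val, MulEquiv.apply_symm_apply, MulEquiv.apply_symm_apply]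
    rw [hz, ← hy₀, MulAut.conj_apply, MulAut.conj_apply, map_mul, map_mul, map_inv,
      MulEquiv.apply_symm_apply]
  exact Cfsg.Agent.helper25.mem_of_normAut_mem_inn F hPsc ⟨hxS, hxN⟩ hinn

end Cfsg.Agent.S5251
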