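import Cfsg.Statements.S5254
import Cfsg.Agent.Lib_helper26_AbIdxE
import Cfsg.Agent.Lib_helper26_AbIdxF

set_option autoImplicit false
open Cfsg

namespace Cfsg.Agent.S5254

open Cfsg.FusionSystem Cfsg.Agent.helper25 Cfsg.Agent.h26AbIdx in
theorem exists_not_mem_of_ne {Ω : Type*} [Group Ω] {S : Subgroup Ω} (F : Cfsg.FusionSystem S) {p : ℕ}
    {A : Subgroup Ω} (h : Setup S A) {P : Subgroup Ω} (hP : F.IsEssential p P) (hPA : P ≠ A) :
    ∃ x ∈ P, x ∉ A := by
  by_contra hcon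
  push Not at hcon
  have hPS : P ≤ S := hP.1.1
  have hcentric : centralizerIn S P ≤ P := hP.1.2 P (isConj_refl F hPS)
  apply hPA
  apply le_antisymm hcon
  intro a ha
  apply hcentric
  refine ⟨h.hAS ha, ?_⟩
  show a ∈ Subgroup.centralizer (P : Set Ω)
  rw [Subgroup.mem_centralizer_iff]
  intro w hw
  exact h.hAc w (hcon w hw) a ha

/-- Let p be an odd prime, S a finite nonabelian p-group with a unique abelian subgroup A of index p, and F a saturated fusion system over S. Then every F-essential subgroup P is A, or Z(S)⟨x⟩ for some x ∈ S outside A, or (when the second centre Z₂(S) lies in A) Z₂(S)⟨x⟩ for some x ∈ S outside A; and P has index p in its normalizer in S. -/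
theorem result {Ω : Type*} [Group Ω] {S : Subgroup Ω} [Finite S] (p : ℕ) [Fact p.Prime] (hS : IsPGroup p S) (F : Cfsg.FusionSystem S) (hF : F.IsSaturated p) (hp : p ≠ 2) (hna : ¬ IsMulCommutative ↥S) (A : Subgroup Ω) (hA : A ≤ S ∧ IsMulCommutative ↥A ∧ (A.subgroupOf S).index = p) (huniq : ∀ B : Subgroup Ω, B ≤ S → IsMulCommutative ↥B → (B.subgroupOf S).index = p → B = A) (P : Subgroup Ω) (hP : F.IsEssential p P) : (P = A ∨ (∃ x ∈ S, x ∉ A ∧ P = (S ⊓ Subgroup.centralizer (S : Set Ω)) ⊔ Subgroup.zpowers x) ∨ (((upperCentralSeries ↥S 2).map S.subtype) ≤ A ∧ ∃ x ∈ S, x ∉ A ∧ P = ((upperCentralSeries ↥S 2).map S.subtype) ⊔ Subgroup.zpowers x)) ∧ (P.subgroupOf (S ⊓ Subgroup.normalizer (P : Set Ω))).index = p := by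
  have h := Cfsg.Agent.h26AbIdx.setup_of hS hna hA.1 hA.2.1 hA.2.2
  by_cases hPA : P = A
  · refine ⟨Or.inl hPA, ?_⟩
    subst hPA
    have hSN : S ⊓ Subgroup.normalizer (P : Set Ω) = S := by
      apply inf_eq_left.mpr
      intro s hs
      rw [Subgroup.mem_normalizer_iff]
      intro a
      constructor
      · exact fun ha => h.hAn s hs a ha
      · intro ha
        have := h.hAn s⁻¹ (S.inv_mem hs) _ ha
        simpa [mul_assoc] using this
    rw [hSN]
    exact hA.2.2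
  · obtain ⟨x, hxP, hxA⟩ := exists_not_mem_of_ne F h hP hPA
    have hPS : P ≤ S := hP.1.1
    have hxS : x ∈ S := hPS hxP
    obtain ⟨hN1, hrel, hshape⟩ := Cfsg.Agent.h26AbIdx.main hS F hF h hA.2.2 hP hxS hxP hxA
    have hPeq := Cfsg.Agent.h26AbIdx.eq_sup_zpowers h hPS hxP hxA
    refine ⟨Or.inr ?_, hN1⟩
    rcases hshape with hsh | hsh
    · left
      rw [hsh] at hPeq
      exact ⟨x, hxS, hxA, hPeq⟩
    · right
      have hZ0 : Nat.card ↥((S ⊓ Subgroup.centralizer (S : Set Ω)) ⊓ ⁅S, S⁆) = p := by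
        rw [← h.relIndex_Z_A2 hxS hxA]; exact hrel
      have hZ2A := h.Z2_le_A hA.2.2 huniq hZ0
      have hZ2 := h.Z2_eq_A2 hxS hxA hZ2A
      refine ⟨hZ2A, x, hxS, hxA, ?_⟩
      rw [hZ2, ← hsh]
      exact hPeq

end Cfsg.Agent.S5254
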