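import Cfsg.Statements.S5255
import Cfsg.Agent.Lib_helper26_ModT

set_option autoImplicit false
open Cfsg

namespace Cfsg.Agent.S5255

/-- Let F be a saturated fusion system over a finite p-group S and T a subgroup of S strongly closed in F. Then T·C_S(T) is strongly closed in F. -/
theorem result {Ω : Type*} [Group Ω] {S : Subgroup Ω} [Finite S] (p : ℕ) [Fact p.Prime] (hS : IsPGroup p S) (F : Cfsg.FusionSystem S) (hF : F.IsSaturated p) (T : Subgroup Ω) (hT : F.StronglyClosed T) : F.StronglyClosed (T ⊔ Cfsg.FusionSystem.centralizerIn S T) := by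
  have hN := Cfsg.Agent.helper25.stronglyClosed_le_normalizer F hT
  refine ⟨sup_le hT.1 inf_le_left, ?_⟩
  intro R hR φ hφ x
  obtain ⟨ψ, hψ, hψφ⟩ := Cfsg.Agent.helper26.ModT.exists_extension_mod hS F hF hT hφ
  have hdec : ∃ t₀ ∈ T, ∃ c ∈ Cfsg.FusionSystem.centralizerIn S T, t₀ * c = (x : Ω) := by
    have h := Subgroup.coe_mul_of_right_le_normalizer_left T (Cfsg.FusionSystem.centralizerIn S T)
      ((inf_le_left : Cfsg.FusionSystem.centralizerIn S T ≤ S).trans hN)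
    have hx' : (x : Ω) ∈ ((T ⊔ Cfsg.FusionSystem.centralizerIn S T : Subgroup Ω) : Set Ω) := hR x.2
    rw [h] at hx'
    exact Set.mem_mul.mp hx'
  obtain ⟨t₀, ht₀, c, hc, hxe⟩ := hdec
  have ht₀D : t₀ ∈ R ⊔ T := (le_sup_right : T ≤ R ⊔ T) ht₀
  have hxD : (x : Ω) ∈ R ⊔ T := (le_sup_left : R ≤ R ⊔ T) x.2
  have hcD : c ∈ R ⊔ T := by
    have : c = t₀⁻¹ * (x : Ω) := by rw [← hxe]; group
    rw [this]; exact Subgroup.mul_mem _ (Subgroup.inv_mem _ ht₀D) hxD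
  have e1 : Subgroup.inclusion le_sup_left x = (⟨t₀, ht₀D⟩ : ↥(R ⊔ T)) * ⟨c, hcD⟩ :=
    Subtype.ext hxe.symm
  have h1 : ψ ⟨t₀, ht₀D⟩ ∈ T := Cfsg.Agent.helper26.ModT.sc_map_mem F hT le_sup_right hψ ht₀
  have h2 : ψ ⟨c, hcD⟩ ∈ Cfsg.FusionSystem.centralizerIn S T := by
    refine ⟨(F.le_of_mem hψ).2 _, Subgroup.mem_centralizer_iff.mpr ?_⟩
    intro t ht
    obtain ⟨t', ht', e⟩ := Cfsg.Agent.helper26.ModT.sc_map_surj F hT le_sup_right hψ ht
    rw [← e, ← map_mul, ← map_mul]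
    congr 1
    apply Subtype.ext
    exact (Subgroup.mem_centralizer_iff.mp hc.2) t' ht'
  have h3 : ψ (Subgroup.inclusion le_sup_left x) ∈ T ⊔ Cfsg.FusionSystem.centralizerIn S T := by
    rw [e1, map_mul]
    exact Subgroup.mul_mem _ (Subgroup.mem_sup_left h1) (Subgroup.mem_sup_right h2)
  have e2 : φ x = ψ (Subgroup.inclusion le_sup_left x) *
      ((φ x)⁻¹ * ψ (Subgroup.inclusion le_sup_left x))⁻¹ := by group
  rw [e2]
  exact Subgroup.mul_mem _ h3 (Subgroup.mem_sup_left (T.inv_mem (hψφ x)))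

end Cfsg.Agent.S5255
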