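import Cfsg.Statements.S5256
import Cfsg.Agent.Lib_helper26_Factor

set_option autoImplicit false
open Cfsg

namespace Cfsg.Agent.S5256

open Cfsg.FusionSystem Cfsg.Agent.helper25 Cfsg.Agent.helper26.ModT

/-- Let F be a saturated fusion system over a finite p-group S, T a subgroup of S strongly closed in F, and E a factor system F/T realised along a homomorphism θ of S with kernel T. Then the hyperfocal subgroup of E is the image under θ of the hyperfocal subgroup of F (hyp(F/T) = T·hyp(F)/T). -/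
theorem result {Ω : Type*} [Group Ω] {S : Subgroup Ω} [Finite S] (p : ℕ) [Fact p.Prime] (hS : IsPGroup p S) (F : Cfsg.FusionSystem S) (hF : F.IsSaturated p) (T : Subgroup Ω) (hT : F.StronglyClosed T) {Ω' : Type*} [Group Ω'] {S' : Subgroup Ω'} (θ : ↥S →* Ω') (E : Cfsg.FusionSystem S') (hE : F.IsFactorSystem T θ E) : E.hyperfocalSubgroup p = ((F.hyperfocalSubgroup p).subgroupOf S).map θ := by
  have hE' := hE
  obtain ⟨hTS, hker, hrange, hiff⟩ := hE
  haveI : Finite S' := by
    rw [← hrange]; exact Finite.of_surjective θ.rangeRestrict θ.rangeRestrict_surjective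
  apply le_antisymm
  · refine (Subgroup.closure_le _).mpr ?_
    rintro _ ⟨P', α', x', hP'S', hα', rfl⟩
    have key : (α' : MulAut P') ∈
        moveSub P' (((F.hyperfocalSubgroup p).subgroupOf S).map θ) := by
      refine pResidual_le_moveSub p P' _ (E.autGroup P') ?_ α' hα'
      intro γ' hγ' hcop
      obtain ⟨β, hβ, hβγ⟩ := exists_lift_aut F θ E hE' hP'S' γ' hγ'
      have hPS := preimageAlong_le θ P'
      haveI : Finite ↥(preimageAlong θ P') := finite_of_le S hPS
      haveI : Finite P' := finite_of_le S' hP'S'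
      obtain ⟨k, hk1, hkcop⟩ :=
        exists_pow_pprime β (orderOf_pos β) p (orderOf γ') (orderOf_pos γ') hcop
      have hγk : γ' ^ k = γ' := by
        have := (pow_eq_pow_iff_modEq (x := γ')).mpr hk1
        rwa [pow_one] at this
      have hpow := induced_pow θ hPS β γ' hβγ k
      rw [hγk] at hpow
      intro y'
      have hy'S' : (y' : Ω') ∈ θ.range := by rw [hrange]; exact hP'S' y'.2
      obtain ⟨s, hs⟩ := hy'S'
      have hsP : (s : Ω) ∈ preimageAlong θ P' :=
        ⟨s, (show θ s ∈ P' by rw [hs]; exact y'.2), rfl⟩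
      have hs' : θ ⟨(s : Ω), hPS hsP⟩ = (y' : Ω') := hs
      have hd' : θ ⟨(s : Ω), hPS hsP⟩ ∈ P' := by rw [hs']; exact y'.2
      have h1 := hpow ⟨s, hsP⟩ hd'
      have e1 : (⟨θ ⟨(s : Ω), hPS hsP⟩, hd'⟩ : P') = y' := Subtype.ext hs'
      rw [e1] at h1
      show (y' : Ω')⁻¹ * ((γ' y' : P') : Ω') ∈ ((F.hyperfocalSubgroup p).subgroupOf S).map θ
      rw [h1, ← hs', ← map_inv, ← map_mul]
      refine ⟨_, ?_, rfl⟩
      show (s : Ω)⁻¹ * (((β ^ k) ⟨s, hsP⟩ : ↥(preimageAlong θ P')) : Ω) ∈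
        F.hyperfocalSubgroup p
      apply Subgroup.subset_closure
      refine ⟨preimageAlong θ P', ⟨β ^ k, pow_mem hβ k⟩, ⟨s, hsP⟩, hPS, ?_, rfl⟩
      apply Subgroup.subset_closure
      show Nat.Coprime (orderOf (⟨β ^ k, pow_mem hβ k⟩ : F.autGroup (preimageAlong θ P'))) p
      rw [Subgroup.orderOf_mk]; exact hkcop
    exact key x'
  · rintro _ ⟨s, hs, rfl⟩
    have hsH : (s : Ω) ∈ F.hyperfocalSubgroup p := Subgroup.mem_subgroupOf.mp hs
    have hle : F.hyperfocalSubgroup p ≤
        ((E.hyperfocalSubgroup p).comap θ).map S.subtype := by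
      refine (Subgroup.closure_le _).mpr ?_
      rintro _ ⟨P, α, x, hPS, hα, rfl⟩
      have key : (α : MulAut P) ∈
          moveSub P (((E.hyperfocalSubgroup p).comap θ).map S.subtype) := by
        refine pResidual_le_moveSub p P _ (F.autGroup P) ?_ α hα
        intro β hβ hcop
        obtain ⟨ω, hω, hωcop, hωβ, hωT⟩ := exists_pprime_extension hS F hF hT hPS β hβ hcop
        have hTD : T ≤ P ⊔ T := le_sup_right
        have hDS : P ⊔ T ≤ S := sup_le hPS hTS
        obtain ⟨ω', hω', hω'c⟩ := exists_induced_aut F hT θ E hE' hTD hDS ω hω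
        have hω'cop : Nat.Coprime (orderOf ω') p := by
          apply Nat.Coprime.coprime_dvd_left _ hωcop
          apply orderOf_dvd_of_pow_eq_one
          apply MulEquiv.ext
          rintro ⟨_, d, hd, rfl⟩
          apply Subtype.ext
          have := induced_pow θ hDS ω ω' hω'c (orderOf ω) ⟨d, Subgroup.mem_subgroupOf.mp hd⟩
            ⟨d, hd, rfl⟩
          rw [pow_orderOf_eq_one] at this
          exact this
        intro y
        have hyS : (y : Ω) ∈ S := hPS y.2
        have hβyS : ((β y : P) : Ω) ∈ S := hPS (β y).2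
        refine ⟨(⟨(y : Ω), hyS⟩ : S)⁻¹ * ⟨((β y : P) : Ω), hβyS⟩, ?_, rfl⟩
        show θ ((⟨(y : Ω), hyS⟩ : S)⁻¹ * ⟨((β y : P) : Ω), hβyS⟩) ∈ E.hyperfocalSubgroup p
        have h1 : θ ⟨((β y : P) : Ω), hβyS⟩ =
            θ ⟨((ω (Subgroup.inclusion le_sup_left y) : ↥(P ⊔ T)) : Ω),
              hDS (ω (Subgroup.inclusion le_sup_left y)).2⟩ := by
          have h2 : θ ((⟨((β y : P) : Ω), hβyS⟩ : S)⁻¹ *
              ⟨((ω (Subgroup.inclusion le_sup_left y) : ↥(P ⊔ T)) : Ω),
                hDS (ω (Subgroup.inclusion le_sup_left y)).2⟩) = 1 := (hker _).mpr (hωβ y)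
          rw [map_mul, map_inv, inv_mul_eq_one] at h2
          exact h2
        rw [map_mul, map_inv, h1]
        have hd' : θ ⟨((Subgroup.inclusion le_sup_left y : ↥(P ⊔ T)) : Ω),
            hDS (Subgroup.inclusion le_sup_left y).2⟩ ∈ ((P ⊔ T).subgroupOf S).map θ :=
          ⟨⟨y, hyS⟩, Subgroup.mem_subgroupOf.mpr ((le_sup_left : P ≤ P ⊔ T) y.2), rfl⟩
        rw [← hω'c (Subgroup.inclusion le_sup_left y) hd']
        apply Subgroup.subset_closure
        refine ⟨((P ⊔ T).subgroupOf S).map θ, ⟨ω', hω'⟩, ⟨_, hd'⟩, ?_, ?_, rfl⟩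
        · rintro _ ⟨s, -, rfl⟩; rw [← hrange]; exact ⟨s, rfl⟩
        · apply Subgroup.subset_closure
          show Nat.Coprime (orderOf (⟨ω', hω'⟩ : E.autGroup (((P ⊔ T).subgroupOf S).map θ))) p
          rw [Subgroup.orderOf_mk]; exact hω'cop
      exact key x
    obtain ⟨s', hs', hss'⟩ := hle hsH
    have e : s' = s := Subtype.ext hss'
    rw [← e]; exact hs'

end Cfsg.Agent.S5256
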