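import Cfsg.Statements.S5265
import Cfsg.Agent.Lib_helper26_Cp2B
import Cfsg.Agent.Lib_helper26_Cp2H

set_option autoImplicit false
open Cfsg

namespace Cfsg.Agent.S5265

/-- Let p be a prime, S a nontrivial finite p-group whose centre has index at most p², and F a saturated fusion system over S with no nontrivial normal subgroup and with hyperfocal subgroup equal to S. Then S is extraspecial of order p³; for odd p it has exponent p, and for p = 2 it is dihedral of order 8. -/
theorem result {Ω : Type*} [Group Ω] {S : Subgroup Ω} [Finite S] (p : ℕ) [Fact p.Prime] (hS : IsPGroup p ↥S) (F : Cfsg.FusionSystem S) (hF : F.IsSaturated p) (hS1 : S ≠ ⊥) (hcore : F.core = ⊥) (hhyp : F.hyperfocalSubgroup p = S) (hZ : (Subgroup.center ↥S).index ≤ p ^ 2) : Cfsg.IsExtraspecial p ↥S ∧ Nat.card S = p ^ 3 ∧ (p ≠ 2 → Monoid.exponent ↥S = p) ∧ (p = 2 → Nonempty (↥S ≃* DihedralGroup 4)) := by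
  have hna := Cfsg.Agent.h26Cp2.not_comm hS F hF hS1 hcore
  have hidx := Cfsg.Agent.h26Cp2.index_center hS hna hZ
  by_cases hp2 : p = 2
  · subst hp2
    obtain ⟨z, h⟩ := Cfsg.Agent.h26Cp2.hyp_of hS F hF hna hidx
    obtain ⟨hcZ, hD⟩ := Cfsg.Agent.h26Cp2.two_final h hcore hhyp
    obtain ⟨hex, hcard⟩ := Cfsg.Agent.h26Cp2.extraspecial_of hS hna hidx hcZ
    exact ⟨hex, hcard, fun hne => absurd rfl hne, fun _ => hD⟩
  · have hcZ := Cfsg.Agent.h26Cp2.odd_card_Zs hS F hF hp2 hna hidx hcore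
    obtain ⟨hex, hcard⟩ := Cfsg.Agent.h26Cp2.extraspecial_of hS hna hidx hcZ
    refine ⟨hex, hcard, fun _ => ?_, fun h2 => absurd h2 hp2⟩
    have hexp := Cfsg.Agent.h26Cp2.odd_exponent hS F hF hp2 hna hidx hcore hcZ
    have h1 : Monoid.exponent ↥S ∣ p := by
      apply Monoid.exponent_dvd_of_forall_pow_eq_one
      intro x
      exact Subtype.ext (by rw [Subgroup.coe_pow]; exact hexp x x.2)
    rcases (Nat.dvd_prime (Fact.out : p.Prime)).mp h1 with h2 | h2
    · exfalso
      rw [Monoid.exp_eq_one_iff] at h2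
      exact hna ⟨⟨fun a b => Subsingleton.elim _ _⟩⟩
    · exact h2

end Cfsg.Agent.S5265
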