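import Cfsg.Statements.S5284
import Cfsg.Agent.Lib_helper26_ChainC
import Cfsg.Agent.Lib_helper26_ChainD
import Cfsg.Agent.Lib_helper26_ChainE

set_option autoImplicit false
open Cfsg

namespace Cfsg.Agent.S5284

/-- Let S be a finite abelian p-group. Every saturated fusion system over S is supersoluble (S has a chain of F-strongly closed subgroups from 1 to S with cyclic steps) if and only if the invariants of S are pairwise distinct, that is, S is not isomorphic to a direct product (Z/p^n × Z/p^n) × H with n ≥ 1. -/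
theorem result {Ω : Type*} [Group Ω] {S : Subgroup Ω} [Finite S] (p : ℕ) [Fact p.Prime] (hS : IsPGroup p ↥S) (hab : IsMulCommutative ↥S) : (∀ F : Cfsg.FusionSystem S, F.IsSaturated p → (∃ (m : ℕ) (c : Fin (m + 1) → Subgroup Ω), c 0 = ⊥ ∧ c (Fin.last m) = S ∧ (∀ i : Fin (m + 1), F.StronglyClosed (c i)) ∧ ∀ i : Fin m, c i.castSucc ≤ c i.succ ∧ ∃ x ∈ S, c i.succ = c i.castSucc ⊔ Subgroup.zpowers x)) ↔ ¬ ∃ (n : ℕ) (H : Type) (_ : CommGroup H), 0 < n ∧ Nonempty (↥S ≃* (Multiplicative (ZMod (p ^ n)) × Multiplicative (ZMod (p ^ n))) × H) := by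
  constructor
  · intro hall
    rintro ⟨n, H₀, iH₀, hn, ⟨ψ⟩⟩
    obtain ⟨H, hcop, hnot⟩ := Cfsg.Agent.h26Chain.not_comm_exp_of_split n hn H₀ ψ
    obtain ⟨hc, he⟩ := Cfsg.Agent.h26Chain.comm_exp_of_chain hS hall H hcop
    apply hnot
    refine ⟨fun a ha b hb => ?_, he⟩
    have := hc.is_comm.comm (⟨a, ha⟩ : H) ⟨b, hb⟩
    exact congrArg Subtype.val this
  · intro hno F hF
    letI iC : CommGroup ↥S := { (inferInstance : Group ↥S) with mul_comm := hab.is_comm.comm }
    have hH : ∀ H : Subgroup (MulAut ↥S), (Nat.card ↥H).Coprime p →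
        IsMulCommutative ↥H ∧ ∀ h ∈ H, h ^ (p - 1) = 1 := by
      intro H hcop
      obtain ⟨h1, h2⟩ := Cfsg.Agent.h26Chain.comm_exp_of_distinct (G := ↥S) hS hno H hcop
      exact ⟨⟨⟨fun a b => Subtype.ext (h1 a a.2 b b.2)⟩⟩, h2⟩
    have hN : F.IsNormal S :=
      Cfsg.Agent.helper25.isNormal_of_abelian_stronglyClosed hS F hF
        ⟨le_rfl, fun R hR φ hφ x => (F.le_of_mem hφ).2 x⟩
        (fun a ha b hb => congrArg Subtype.val (hab.is_comm.comm ⟨a, ha⟩ ⟨b, hb⟩))
    exact Cfsg.Agent.h26Chain.exists_chain_of_normal hS hH F hF hN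

end Cfsg.Agent.S5284
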