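import Cfsg.Statements.S5290
import Cfsg.Agent.Lib_helper26_WN

set_option autoImplicit false
open Cfsg

namespace Cfsg.Agent.S5290

open Cfsg.FusionSystem in
open scoped commutatorElement in
theorem normal_of_wn {Ω : Type*} [Group Ω] {S : Subgroup Ω} [Finite S] (p : ℕ) [Fact p.Prime]
    (hS : IsPGroup p S) (F : Cfsg.FusionSystem S) (hF : F.IsSaturated p)
    (Q : Subgroup Ω) (hQ : Q ≤ S)
    (hFr : ∀ (P : Subgroup Ω), P ≤ Q → ∀ (φ : P →* Ω), φ ∈ F.Hom P →
      ∃ α ∈ F.autGroup Q, ∃ φ₀ ∈ (Cfsg.innerFusionSystem Q).Hom P, ∀ (x : P) (hx : φ₀ x ∈ Q),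
        φ x = ((α ⟨φ₀ x, hx⟩ : Q) : Ω)) : F.IsNormal Q := by
  haveI : Finite Q := Cfsg.Agent.helper25.finite_of_le S hQ
  have hQp : IsPGroup p Q := hS.to_le hQ
  haveI : Group.IsNilpotent Q := hQp.isNilpotent
  have hstr : ∀ k, F.StronglyClosed ((Subgroup.upperCentralSeries Q k).map Q.subtype) := by
    intro k
    apply Cfsg.Agent.helper26.stronglyClosed_of_frattini F (Cfsg.innerFusionSystem Q) hQ hFr
    · refine ⟨Subgroup.map_subtype_le _, ?_⟩
      rintro R hRU φ ⟨-, g, hg, h⟩ x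
      obtain ⟨u, hu, hux⟩ := hRU x.2
      rw [h x, ← hux]
      refine ⟨⟨g, hg⟩ * u * ⟨g, hg⟩⁻¹, ?_, rfl⟩
      exact (inferInstance : (Subgroup.upperCentralSeries Q k).Normal).conj_mem u hu _
    · rintro α hα _ ⟨u, hu, rfl⟩ huT
      refine ⟨α u, ?_, rfl⟩
      exact Subgroup.characteristic_iff_map_le.mp inferInstance α ⟨u, hu, rfl⟩
  apply Cfsg.Agent.helper25.isNormal_of_chain hS F hF Q (Group.nilpotencyClass Q)
    (fun i => (Subgroup.upperCentralSeries Q i).map Q.subtype)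
  · show (Subgroup.upperCentralSeries Q 0).map Q.subtype = ⊥
    rw [Subgroup.upperCentralSeries_zero, Subgroup.map_bot]
  · show (Subgroup.upperCentralSeries Q (Group.nilpotencyClass Q)).map Q.subtype = Q
    rw [Subgroup.upperCentralSeries_nilpotencyClass, ← MonoidHom.range_eq_map,
      Subgroup.range_subtype]
  · intro i j hij
    exact Subgroup.map_mono (Subgroup.upperCentralSeries_mono Q hij)
  · intro i
    refine ⟨hstr _, ?_⟩
    rw [Subgroup.commutator_le]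
    rintro g₁ hg₁ _ ⟨z, hz, rfl⟩
    have hz' : z ∈ Subgroup.upperCentralSeries Q ((i : ℕ) + 1) := hz
    have h1 := Subgroup.mem_upperCentralSeries_succ_iff.mp hz' ⟨g₁, hg₁⟩
    have h2 : ⁅(⟨g₁, hg₁⟩ : Q), z⁆ ∈ Subgroup.upperCentralSeries Q (i : ℕ) := by
      rw [← commutatorElement_inv]; exact inv_mem h1
    refine ⟨⁅(⟨g₁, hg₁⟩ : Q), z⁆, h2, ?_⟩
    rw [map_commutatorElement]
    rfl

/-- Let F be a saturated fusion system over a finite p-group S and Q a subgroup of S. Then Q is normal in F (F = N_F(Q)) if and only if the inner fusion system of Q, consisting of the conjugations by elements of Q on subgroups of Q, is a weakly normal subsystem of F (both saturated, Q strongly closed, invariant under F-conjugation, with the Frattini property). -/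
theorem result {Ω : Type*} [Group Ω] {S : Subgroup Ω} [Finite S] (p : ℕ) [Fact p.Prime] (hS : IsPGroup p S)
    (F : Cfsg.FusionSystem S) (hF : F.IsSaturated p)
    (Q : Subgroup Ω) (hQ : Q ≤ S) :
    F.IsNormal Q ↔ (Cfsg.innerFusionSystem Q).IsWeaklyNormalIn F p := by
  haveI : Finite Q := Cfsg.Agent.helper25.finite_of_le S hQ
  have hQp : IsPGroup p Q := hS.to_le hQ
  constructor
  · intro hN
    refine ⟨Cfsg.Agent.helper26.inner_isSaturated p Q hQp, hF, ?_,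
      Cfsg.Agent.helper25.isNormal_stronglyClosed F hN, ?_, ?_⟩
    · rintro P φ ⟨hPQ, g, hg, h⟩
      have : φ = conjHom P g := by ext x; exact h x
      rw [this]; exact F.conj_mem (hPQ.trans hQ) (hQ hg)
    · rintro P hPQ φ ⟨-, g, hg, h⟩ α hα
      refine ⟨conjHom _ ((α ⟨g, hg⟩ : Q) : Ω), ⟨?_, _, (α ⟨g, hg⟩).2, fun y => rfl⟩, ?_⟩
      · rintro _ ⟨y, -, rfl⟩; exact (α y).2
      · intro x hφx hαx
        show ((α ⟨g, hg⟩ : Q) : Ω) * ((α ⟨x, hPQ x.2⟩ : Q) : Ω) * ((α ⟨g, hg⟩ : Q) : Ω)⁻¹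
          = ((α ⟨φ x, hφx⟩ : Q) : Ω)
        have e : (⟨φ x, hφx⟩ : Q) = ⟨g, hg⟩ * ⟨x, hPQ x.2⟩ * (⟨g, hg⟩ : Q)⁻¹ := Subtype.ext (h x)
        rw [e, map_mul, map_mul, map_inv]; rfl
    · intro P hPQ φ hφ
      obtain ⟨ψ, hψ, hψ1, hψ2⟩ := hN.2 P φ hφ
      have heq : P ⊔ Q = Q := sup_eq_right.mpr hPQ
      have hψ' : ψ.comp (Subgroup.inclusion heq.ge) ∈ F.Hom Q :=
        Cfsg.Agent.helper25.hom_congr F heq hψ
      have hval : ∀ t : Q, (ψ.comp (Subgroup.inclusion heq.ge)) t ∈ Q := by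
        intro t
        exact hψ2.le ⟨Subgroup.inclusion heq.ge t, Subgroup.mem_subgroupOf.mpr t.2, rfl⟩
      obtain ⟨α, hα, hαψ⟩ := Cfsg.Agent.helper26.exists_mulAut_of_mem F _ hψ' hval
      refine ⟨α, hα, P.subtype, ⟨hPQ, 1, Q.one_mem, fun x => by simp⟩, ?_⟩
      intro x hx
      rw [hαψ, ← hψ1 x]
      rfl
  · rintro ⟨-, -, hsub, hsc, hinvt, hFr⟩
    exact normal_of_wn p hS F hF Q hQ hFr

end Cfsg.Agent.S5290
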