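import Cfsg.Statements.S5291
import Cfsg.Agent.Lib_helper26_WN2

set_option autoImplicit false
open Cfsg

namespace Cfsg.Agent.S5291

/-- Let F be a saturated fusion system over a finite p-group S and E a weakly normal subsystem of F over a subgroup T. Suppose a subgroup R of T is normal in E (E = N_E(R)), and let R* be the subgroup of T generated by the images of R under all maps of F with source R. Then R* is normal in F (F = N_F(R*)). -/
theorem result {Ω : Type*} [Group Ω] {S : Subgroup Ω} [Finite S] (p : ℕ) [Fact p.Prime] (hS : IsPGroup p S)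
    (F : Cfsg.FusionSystem S) (hF : F.IsSaturated p)
    {T : Subgroup Ω} (E : Cfsg.FusionSystem T) (hE : E.IsWeaklyNormalIn F p)
    (R : Subgroup Ω) (hR : E.IsNormal R) :
    F.IsNormal (Subgroup.closure {x : Ω | ∃ φ ∈ F.Hom R, ∃ r : R, x = φ r}) := by
  obtain ⟨hEsat, -, hsub, hTsc, hinvt, hFr⟩ := hE
  have hTS : T ≤ S := hTsc.1
  have hRT : R ≤ T := hR.1
  haveI : Finite T := Cfsg.Agent.helper25.finite_of_le S hTS
  have hRsc := Cfsg.Agent.helper25.isNormal_stronglyClosed E hR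
  -- the set of conjugates
  set Rs : Subgroup Ω := Subgroup.closure {x : Ω | ∃ φ ∈ F.Hom R, ∃ r : R, x = φ r} with hRs
  have hautT : ∀ α ∈ F.autGroup T, T.subtype.comp α.toMonoidHom ∈ F.Hom T := fun α hα =>
    (Cfsg.Agent.helper25.mem_autGroup_iff F hTS α).mp hα
  have heq : Rs = sSup {Q : Subgroup Ω | ∃ α ∈ F.autGroup T, Q = Cfsg.Agent.helper26.autMap α R} := by
    apply le_antisymm
    · rw [hRs, Subgroup.closure_le]
      rintro _ ⟨φ, hφ, r, rfl⟩
      obtain ⟨α, hα, φ₀, hφ₀, h⟩ := hFr R hRT φ hφ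
      have h1 : φ₀ r ∈ R := hRsc.2 R le_rfl φ₀ hφ₀ r
      have h2 : φ₀ r ∈ T := hRT h1
      have h3 : φ r ∈ Cfsg.Agent.helper26.autMap α R := by
        rw [h r h2]
        exact (Cfsg.Agent.helper26.mem_autMap _ _ _).mpr ⟨⟨φ₀ r, h2⟩, h1, rfl⟩
      have hle : Cfsg.Agent.helper26.autMap α R ≤ sSup {Q : Subgroup Ω | ∃ α ∈ F.autGroup T, Q = Cfsg.Agent.helper26.autMap α R} :=
        le_sSup ⟨α, hα, rfl⟩
      exact hle h3
    · apply sSup_le
      rintro _ ⟨α, hα, rfl⟩
      intro y hy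
      obtain ⟨t, ht, rfl⟩ := (Cfsg.Agent.helper26.mem_autMap _ _ _).mp hy
      apply Subgroup.subset_closure
      exact ⟨_, Cfsg.Agent.helper25.restrict_mem F hRT (hautT α hα), ⟨t, ht⟩, rfl⟩
  have hRsN : E.IsNormal Rs := by
    rw [heq]
    have hsc : SupClosed {Q : Subgroup Ω | E.IsNormal Q} :=
      fun a ha b hb => Cfsg.Agent.helper25.isNormal_sup E ha hb
    have hfin : {Q : Subgroup Ω | ∃ α ∈ F.autGroup T, Q = Cfsg.Agent.helper26.autMap α R}.Finite := by
      apply (Cfsg.Agent.helper25.finite_subgroups_le T).subset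
      rintro _ ⟨α, -, rfl⟩
      exact Cfsg.Agent.helper26.autMap_le α R
    apply hsc.sSup_mem hfin (Cfsg.Agent.helper25.isNormal_bot E)
    rintro _ ⟨α, hα, rfl⟩
    exact Cfsg.Agent.helper26.isNormal_autMap F E hinvt hR hα
  have hRsT : Rs ≤ T := hRsN.1
  have hRsS : Rs ≤ S := hRsT.trans hTS
  haveI : Finite Rs := Cfsg.Agent.helper25.finite_of_le S hRsS
  -- invariance of Rs under Aut_F(T)
  have hRsinv : ∀ β ∈ F.autGroup T, ∀ (u : Ω) (hu : u ∈ Rs) (huT : u ∈ T),
      ((β ⟨u, huT⟩ : T) : Ω) ∈ Rs := by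
    intro β hβ u hu
    rw [hRs] at hu
    induction hu using Subgroup.closure_induction with
    | mem x hx =>
      intro huT
      obtain ⟨φ, hφ, r, rfl⟩ := hx
      apply Subgroup.subset_closure
      have hφT : ∀ x : R, φ x ∈ T := fun x => hTsc.2 R hRT φ hφ x
      exact ⟨_, F.comp_mem hφ (hautT β hβ) hφT, r, rfl⟩
    | one =>
      intro huT
      have : (⟨1, huT⟩ : T) = 1 := rfl
      rw [this, map_one]
      exact Subgroup.one_mem _
    | mul x y hx hy ihx ihy =>
      intro huT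
      have hxT : x ∈ T := hRsT hx
      have hyT : y ∈ T := hRsT hy
      have : (⟨x * y, huT⟩ : T) = ⟨x, hxT⟩ * ⟨y, hyT⟩ := rfl
      rw [this, map_mul]
      exact Subgroup.mul_mem _ (ihx hxT) (ihy hyT)
    | inv x hx ihx =>
      intro huT
      have hxT : x ∈ T := hRsT hx
      have : (⟨x⁻¹, huT⟩ : T) = (⟨x, hxT⟩ : T)⁻¹ := rfl
      rw [this, map_inv]
      exact Subgroup.inv_mem _ (ihx hxT)
  apply Cfsg.Agent.helper26.isNormal_of_ucs p hS F hF Rs hRsS
  intro k
  apply Cfsg.Agent.helper26.stronglyClosed_of_frattini F E hTS hFr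
  · exact Cfsg.Agent.helper25.isNormal_stronglyClosed E
      (Cfsg.Agent.helper25.isNormal_map_of_characteristic E hRsN _)
  · rintro β hβ _ ⟨z, hz, rfl⟩ huT
    have hχ : (T.subtype.comp β.toMonoidHom).comp (Subgroup.inclusion hRsT) ∈ F.Hom Rs :=
      Cfsg.Agent.helper25.restrict_mem F hRsT (hautT β hβ)
    have hval : ∀ t : Rs, ((T.subtype.comp β.toMonoidHom).comp (Subgroup.inclusion hRsT)) t ∈ Rs :=
      fun t => hRsinv β hβ t t.2 (hRsT t.2)
    obtain ⟨α', hα', hα'χ⟩ := Cfsg.Agent.helper26.exists_mulAut_of_mem F _ hχ hval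
    refine ⟨α' z, ?_, ?_⟩
    · exact Subgroup.characteristic_iff_map_le.mp inferInstance α' ⟨z, hz, rfl⟩
    · exact hα'χ z

end Cfsg.Agent.S5291
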