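import Cfsg.Statements.S5294
import Cfsg.Agent.Lib_helper26_Trace
import Cfsg.Agent.Lib_helper26_Factor2
import Cfsg.Agent.Lib_helper25_CentralChar

set_option autoImplicit false
universe u
open Cfsg

namespace Cfsg.Agent.S5294

open Cfsg.FusionSystem Cfsg.Agent.helper25 Cfsg.Agent.helper26.ModT Cfsg.Agent.helper26.Trace
open scoped IsMulCommutative

/-- Let F be a saturated fusion system over a finite p-group S whose centre Z(S) lies in the largest subgroup O_p(F) normal in F. Then the centre Z(F) of F is a direct factor of Z(S): there is a subgroup K of Z(S) with Z(F) ∩ K = 1 and Z(F)K = Z(S). -/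
theorem result {Ω : Type u} [Group Ω] {S : Subgroup Ω} [Finite S] (p : ℕ) [Fact p.Prime] (hS : IsPGroup p S)
    (F : Cfsg.FusionSystem S) (hF : F.IsSaturated p) (hZ : (S ⊓ Subgroup.centralizer (S : Set Ω)) ≤ F.core) :
    ∃ K : Subgroup Ω, K ≤ (S ⊓ Subgroup.centralizer (S : Set Ω)) ∧ F.center ⊓ K = ⊥ ∧ F.center ⊔ K = (S ⊓ Subgroup.centralizer (S : Set Ω)) := by
  have hQN : F.IsNormal F.core := isNormal_core F
  have hQS : F.core ≤ S := hQN.1
  haveI : Finite F.core := finite_of_le S hQS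
  have hSN : S ≤ Subgroup.normalizer (F.core : Set Ω) := isNormal_le_normalizer F hQN
  have hZc : F.IsCentral F.center := isCentral_center F
  let ρ : ↥(F.autGroup F.core) →* MulAut ↥(Subgroup.center ↥F.core) :=
    (centerAut ↥F.core).comp (F.autGroup F.core).subtype
  let P : Subgroup ↥(F.autGroup F.core) :=
    (autInducedBy S F.core).subgroupOf (F.autGroup F.core)
  let ι : ↥(Subgroup.center ↥F.core) →* Ω :=
    F.core.subtype.comp (Subgroup.center ↥F.core).subtype
  have hι : Function.Injective ι := fun a b h => Subtype.ext (Subtype.ext h)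
  have hQfn : F.IsFullyNormalized F.core := ⟨hQS, fun Q' _ => by
    have : normalizerIn S F.core = S := le_antisymm inf_le_left (le_inf le_rfl hSN)
    rw [this]; exact Subgroup.card_le_of_le inf_le_left⟩
  obtain ⟨-, hQfa⟩ := fullyNormalized_imp hS F hF hQfn
  obtain ⟨R, hR⟩ := hQfa.2
  have hcop : Nat.Coprime P.index (Nat.card ↥(Subgroup.center ↥F.core)) := by
    have h1 : ¬ p ∣ P.index := by
      show ¬ p ∣ ((autInducedBy S F.core).subgroupOf (F.autGroup F.core)).index
      rw [← hR]; exact R.not_dvd_index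
    have h2 : Nat.Coprime P.index p :=
      ((Nat.Prime.coprime_iff_not_dvd Fact.out).mpr h1).symm
    have hV : IsPGroup p ↥(Subgroup.center ↥F.core) := (hS.to_le hQS).to_subgroup _
    obtain ⟨k, hk⟩ := IsPGroup.iff_card.mp hV
    rw [hk]; exact Nat.Coprime.pow_right k h2
  obtain ⟨K, hKP, hinf, hsup⟩ := exists_complement ρ P hcop
  have hcen_of : ∀ (z : Ω) (hzQ : z ∈ F.core), z ∈ Subgroup.centralizer (S : Set Ω) →
      (⟨z, hzQ⟩ : F.core) ∈ Subgroup.center ↥F.core := by
    intro z hzQ hzC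
    rw [Subgroup.mem_center_iff]
    intro x
    apply Subtype.ext
    exact Subgroup.mem_centralizer_iff.mp hzC x (hQS x.2)
  have ha : S ⊓ Subgroup.centralizer (S : Set Ω) = (fixSub ρ P).map ι := by
    ext z
    constructor
    · rintro ⟨hzS, hzC⟩
      have hzQ : z ∈ F.core := hZ ⟨hzS, hzC⟩
      refine ⟨⟨⟨z, hzQ⟩, hcen_of z hzQ hzC⟩, ?_, rfl⟩
      intro g hg
      have hg' : (g : MulAut F.core) ∈ autInducedBy S F.core := Subgroup.mem_subgroupOf.mp hg
      obtain ⟨s, hs, hsg⟩ := (mem_autInducedBy_iff S F.core _).mp hg'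
      apply Subtype.ext
      apply Subtype.ext
      show (((g : MulAut F.core) ⟨z, hzQ⟩ : F.core) : Ω) = z
      rw [hsg]
      show s * z * s⁻¹ = z
      rw [Subgroup.mem_centralizer_iff.mp hzC s hs, mul_inv_cancel_right]
    · rintro ⟨v, hv, rfl⟩
      refine ⟨hQS v.1.2, Subgroup.mem_centralizer_iff.mpr fun s hs => ?_⟩
      have hsN : s ∈ normalizerIn S F.core := ⟨hs, hSN hs⟩
      have hmem : normAut F.core s hsN.2 ∈ F.autGroup F.core :=
        autInducedBy_le_autGroup F hQS (normAut_mem S F.core hsN)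
      have h := hv ⟨_, hmem⟩ (Subgroup.mem_subgroupOf.mpr (normAut_mem S F.core hsN))
      have h' : s * (ι v) * s⁻¹ = ι v := congrArg ι h
      calc s * ι v = (s * ι v * s⁻¹) * s := by group
        _ = ι v * s := by rw [h']
  have hb : F.center = (fixSub ρ ⊤).map ι := by
    ext z
    constructor
    · intro hz
      have hzC : z ∈ Subgroup.centralizer (S : Set Ω) :=
        Subgroup.mem_centralizer_iff.mpr fun s hs => central_comm F hZc hz hs
      have hzQ : z ∈ F.core := hZ ⟨hZc.1 hz, hzC⟩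
      refine ⟨⟨⟨z, hzQ⟩, hcen_of z hzQ hzC⟩, ?_, rfl⟩
      intro g _
      apply Subtype.ext
      apply Subtype.ext
      show (((g : MulAut F.core) ⟨z, hzQ⟩ : F.core) : Ω) = z
      have hg' : F.core.subtype.comp (g : MulAut F.core).toMonoidHom ∈ F.Hom F.core :=
        (mem_autGroup_iff F hQS _).mp g.2
      exact central_fix F hZc hg' ⟨z, hzQ⟩ hz
    · rintro ⟨v, hv, rfl⟩
      have hcentral : F.IsCentral (Subgroup.zpowers (ι v)) := by
        rw [isCentral_iff_no_fusion hS F hF]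
        refine ⟨Subgroup.zpowers_le.mpr (hQS v.1.2), ?_⟩
        rintro a ha w ⟨φ, hφ, hw⟩
        obtain ⟨i, rfl⟩ := Subgroup.mem_zpowers_iff.mp ha
        have hvi : v ^ i ∈ fixSub ρ ⊤ := (fixSub ρ ⊤).zpow_mem hv i
        have hai : (ι v) ^ i = ι (v ^ i) := (map_zpow ι v i).symm
        have haQ : (ι v) ^ i ∈ F.core := by rw [hai]; exact (v ^ i).1.2
        obtain ⟨ψ, hψ, hψ1, hψ2⟩ := hQN.2 _ φ hφ
        have heq : Subgroup.zpowers ((ι v) ^ i) ⊔ F.core = F.core :=
          sup_eq_right.mpr (Subgroup.zpowers_le.mpr haQ)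
        have hψ' : ψ.comp (Subgroup.inclusion heq.ge) ∈ F.Hom F.core := hom_congr F heq hψ
        have hval : ∀ t : F.core, (ψ.comp (Subgroup.inclusion heq.ge)) t ∈ F.core := fun t =>
          hψ2.le ⟨Subgroup.inclusion heq.ge t, Subgroup.mem_subgroupOf.mpr t.2, rfl⟩
        obtain ⟨g, hg, hgψ⟩ := Cfsg.Agent.helper26.exists_mulAut_of_mem F _ hψ' hval
        have h1 := hvi ⟨g, hg⟩ (Subgroup.mem_top _)
        have h2 : ((g ⟨(ι v) ^ i, haQ⟩ : F.core) : Ω) = (ι v) ^ i := by
          have h3 : ι (ρ ⟨g, hg⟩ (v ^ i)) = ι (v ^ i) := congrArg ι h1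
          have e : (⟨(ι v) ^ i, haQ⟩ : F.core) = ((v ^ i : Subgroup.center ↥F.core) : F.core) :=
            Subtype.ext hai
          rw [e]
          exact h3.trans hai.symm
        rw [← hw, ← hψ1 ⟨_, Subgroup.mem_zpowers _⟩]
        calc ψ (Subgroup.inclusion le_sup_left ⟨(ι v) ^ i, Subgroup.mem_zpowers _⟩)
            = (ψ.comp (Subgroup.inclusion heq.ge)) ⟨(ι v) ^ i, haQ⟩ := rfl
          _ = ((g ⟨(ι v) ^ i, haQ⟩ : F.core) : Ω) := (hgψ _).symm
          _ = (ι v) ^ i := h2
      exact (le_sSup hcentral : Subgroup.zpowers (ι v) ≤ F.center) (Subgroup.mem_zpowers _)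
  refine ⟨K.map ι, ?_, ?_, ?_⟩
  · rw [ha]; exact Subgroup.map_mono hKP
  · rw [hb, ← Subgroup.map_inf _ _ ι hι, hinf, Subgroup.map_bot]
  · rw [hb, ← Subgroup.map_sup, hsup, ha]

end Cfsg.Agent.S5294
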