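import Cfsg.Statements.S5298
import Cfsg.Agent.Lib_helper26_OmAut4
import Cfsg.Agent.S5083

set_option autoImplicit false
universe u
open Cfsg

namespace Cfsg.Agent.S5298

/-- Let F be a saturated fusion system over a finite p-group S. If every map of F between cyclic subgroups of the hyperfocal subgroup of F of order p or 4 is conjugation by an element of S, then F is the inner fusion system of S. -/
theorem result {Ω : Type u} [Group Ω] {S : Subgroup Ω} [Finite S] (p : ℕ) [Fact p.Prime] (hS : IsPGroup p S)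
    (F : Cfsg.FusionSystem S) (hF : F.IsSaturated p)
    (h : ∀ A B : Subgroup Ω, A ≤ (F.hyperfocalSubgroup p) → B ≤ (F.hyperfocalSubgroup p) → IsCyclic ↥A → (Nat.card ↥A = p ∨ Nat.card ↥A = 4) → IsCyclic ↥B → (Nat.card ↥B = p ∨ Nat.card ↥B = 4) →
      F.homSet A B ⊆ (Cfsg.innerFusionSystem S).Hom A) :
    ∀ P : Subgroup Ω, F.Hom P = (Cfsg.innerFusionSystem S).Hom P := by
  have hp : ∀ R : Subgroup Ω, R ≤ S → IsPGroup p (F.autGroup R) := by
    intro R hRS
    haveI : Finite R := Cfsg.Agent.helper25.finite_of_le S hRS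
    rintro ⟨α, hα⟩
    obtain ⟨a, m', hm', hord⟩ : ∃ a m', ¬ p ∣ m' ∧ orderOf α = p ^ a * m' :=
      Nat.exists_eq_pow_mul_and_not_dvd (orderOf_pos α).ne' p (Fact.out : p.Prime).ne_one
    refine ⟨a, ?_⟩
    apply Subtype.ext
    show α ^ (p ^ a) = 1
    apply Cfsg.Agent.h26OmAut.aut_eq_one_of_homSet hS F h hRS (α ^ (p ^ a))
      (Subgroup.pow_mem _ hα _) (m := m')
    · exact (((Nat.Prime.coprime_iff_not_dvd (Fact.out : p.Prime)).mpr hm').symm)
    · rw [← pow_mul, ← hord]; exact pow_orderOf_eq_one α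
  have hF' := Cfsg.Agent.S5083.result p hS F hF hp
  intro P
  rw [hF']

end Cfsg.Agent.S5298
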