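import Cfsg.Statements.S5299
-- import your own Cfsg.Agent.* helpers here

set_option autoImplicit false
universe u
open Cfsg

namespace Cfsg.Agent.S5299

theorem involves_of_inj_surj {A B X : Type*} [Group A] [Group B] [Group X] (j : A →* B)
    (hj : Function.Injective j) (π : A →* X) (hπ : Function.Surjective π) : Cfsg.Involves X B := by
  let e₁ : A ≃* j.range := MonoidHom.ofInjective hj
  let ψ : j.range →* X := π.comp e₁.symm.toMonoidHom
  have hψ : Function.Surjective ψ := hπ.comp e₁.symm.surjective
  have hker : ψ.ker = ((π.ker).map j).subgroupOf j.range := by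
    ext ⟨y, hy⟩
    obtain ⟨a, rfl⟩ := hy
    have he : e₁.symm ⟨j a, ⟨a, rfl⟩⟩ = a := by
      apply e₁.injective
      rw [MulEquiv.apply_symm_apply]
      rfl
    rw [MonoidHom.mem_ker, Subgroup.mem_subgroupOf]
    show π (e₁.symm ⟨j a, _⟩) = 1 ↔ _
    rw [he]
    constructor
    · intro h
      exact ⟨a, h, rfl⟩
    · rintro ⟨a', ha', h⟩
      have : a' = a := hj h
      rw [← this]
      exact ha'
  have hn : (((π.ker).map j).subgroupOf j.range).Normal := by
    rw [← hker]
    infer_instance
  exact ⟨j.range, (π.ker).map j, hn, ⟨(QuotientGroup.quotientMulEquivOfEq hker.symm).trans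
      (QuotientGroup.quotientKerEquivOfSurjective ψ hψ)⟩⟩

/-- Let F be a saturated fusion system over a finite p-group S, H a finite group and Q a p-subgroup of H. If Q is not involved in S (no section of S is isomorphic to Q), then F is H-free: H is involved in no model of the normalizer system of a fully normalized centric subgroup. -/
theorem result {Ω : Type u} [Group Ω] {S : Subgroup Ω} [Finite S] (p : ℕ) [Fact p.Prime] (hS : IsPGroup p S)
    (F : Cfsg.FusionSystem S) (hF : F.IsSaturated p) (H : Type*) [Group H] [Finite H] (Q : Subgroup H) (hQ : IsPGroup p Q)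
    (hfree : ¬ Cfsg.Involves (↥Q) (↥S)) : F.IsSectionFree p H := by
  intro Q' hfn hc N hN L _ ι hmodel hinv
  obtain ⟨hLfin, ⟨hιinj, -⟩, ⟨T, hT⟩, -⟩ := hmodel
  obtain ⟨K, R, hnorm, ⟨e⟩⟩ := hinv
  apply hfree
  let f : K →* H := e.toMonoidHom.comp (QuotientGroup.mk' (R.subgroupOf K))
  have hf : Function.Surjective f := e.surjective.comp (QuotientGroup.mk'_surjective _)
  let Qt : Subgroup K := Q.comap f
  let fQ : Qt →* Q := (f.comp Qt.subtype).codRestrict Q (fun x => x.2)
  have hfQ : Function.Surjective fQ := by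
    rintro ⟨q, hq⟩
    obtain ⟨k, rfl⟩ := hf q
    exact ⟨⟨k, hq⟩, rfl⟩
  let P₀ : Sylow p Qt := default
  have hPtop : (P₀ : Subgroup Qt).map fQ = ⊤ := by
    have := (P₀.mapSurjective hfQ).is_maximal' (hQ.to_subgroup ⊤) le_top
    rw [this]
    rfl
  let π : (P₀ : Subgroup Qt) →* Q := fQ.comp (P₀ : Subgroup Qt).subtype
  have hπ : Function.Surjective π := by
    intro q
    have : q ∈ (P₀ : Subgroup Qt).map fQ := by rw [hPtop]; trivial
    obtain ⟨x, hx, rfl⟩ := this
    exact ⟨⟨x, hx⟩, rfl⟩
  let i : (P₀ : Subgroup Qt) →* L := K.subtype.comp (Qt.subtype.comp (P₀ : Subgroup Qt).subtype)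
  have hi : Function.Injective i := by
    intro a b hab
    apply Subtype.ext
    apply Subtype.ext
    apply Subtype.ext
    exact hab
  have hip : IsPGroup p i.range :=
    IsPGroup.of_surjective P₀.isPGroup' i.rangeRestrict i.rangeRestrict_surjective
  obtain ⟨T', hT'⟩ := hip.exists_le_sylow
  obtain ⟨g, hg⟩ := MulAction.exists_smul_eq L T' T
  have hmem : ∀ a, ((MulAut.conj g).toMonoidHom.comp i) a ∈ ι.range := by
    intro a
    rw [← hT, ← hg, Sylow.coe_subgroup_smul]
    have h1 : i a ∈ (T' : Subgroup L) := hT' ⟨a, rfl⟩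
    have := Subgroup.smul_mem_pointwise_smul _ (MulAut.conj g) _ h1
    simpa [MulAut.smul_def] using this
  let j₁ : (P₀ : Subgroup Qt) →* ι.range := ((MulAut.conj g).toMonoidHom.comp i).codRestrict ι.range hmem
  have hj₁ : Function.Injective j₁ := by
    intro a b hab
    have h1 : ((MulAut.conj g).toMonoidHom.comp i) a = ((MulAut.conj g).toMonoidHom.comp i) b :=
      congrArg Subtype.val hab
    exact hi ((MulAut.conj g).injective h1)
  let e₂ : ↥(Cfsg.FusionSystem.normalizerIn S Q') ≃* ι.range := MonoidHom.ofInjective hιinj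
  let j : (P₀ : Subgroup Qt) →* S :=
    (Subgroup.inclusion (inf_le_left : Cfsg.FusionSystem.normalizerIn S Q' ≤ S)).comp (e₂.symm.toMonoidHom.comp j₁)
  have hjinj : Function.Injective j := by
    intro a b hab
    have h1 := Subgroup.inclusion_injective (inf_le_left : Cfsg.FusionSystem.normalizerIn S Q' ≤ S) hab
    exact hj₁ (e₂.symm.injective h1)
  exact involves_of_inj_surj j hjinj π hπ

end Cfsg.Agent.S5299
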