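import Cfsg.Statements.S5301
import Mathlib
import Cfsg.Agent.Lib_helper26_Alperin
import Cfsg.Agent.Lib_helper25_SatEquiv2

set_option autoImplicit false
universe u
open Cfsg

namespace Cfsg.Agent.S5301

open Cfsg.FusionSystem Cfsg.Agent.helper26

/-- the maps of `F` that extend to a map of `F` defined on all of `S` -/
def topSystem {Ω : Type*} [Group Ω] {S : Subgroup Ω} [Finite S] (F : Cfsg.FusionSystem S) :
    Cfsg.FusionSystem S where
  Hom P := {φ | P ≤ S ∧ ∃ χ ∈ F.Hom S, ∀ (x : P) (hx : (x : Ω) ∈ S), χ ⟨x, hx⟩ = φ x}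
  le_of_mem := by
    rintro P φ ⟨hP, χ, hχ, h⟩
    refine ⟨hP, fun x => ?_⟩
    rw [← h x (hP x.2)]
    exact (F.le_of_mem hχ).2 _
  injective_of_mem := by
    rintro P φ ⟨hP, χ, hχ, h⟩ a b hab
    rw [← h a (hP a.2), ← h b (hP b.2)] at hab
    have := F.injective_of_mem hχ hab
    exact Subtype.ext (Subtype.mk.inj this)
  conj_mem := by
    intro P g hP hg
    exact ⟨hP, Cfsg.conjHom S g, F.conj_mem le_rfl hg, fun x hx => rfl⟩
  comp_mem := by
    rintro P Q φ ψ ⟨hP, χ₁, hχ₁, h₁⟩ ⟨hQ, χ₂, hχ₂, h₂⟩ h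
    have hS' : ∀ s : S, χ₁ s ∈ S := (F.le_of_mem hχ₁).2
    refine ⟨hP, χ₂.comp (χ₁.codRestrict S hS'), F.comp_mem hχ₁ hχ₂ hS', fun x hx => ?_⟩
    show χ₂ ⟨χ₁ ⟨x, hx⟩, _⟩ = ψ ⟨φ x, h x⟩
    rw [← h₂ ⟨φ x, h x⟩ (hQ (h x))]
    congr 1
    apply Subtype.ext
    exact h₁ x hx
  inv_mem := by
    rintro P φ ⟨hP, χ, hχ, h⟩
    obtain ⟨χ', hχ', hχ''⟩ := F.inv_mem hχ
    have hr : χ.range = S := range_eq_of_mem_top F χ hχ
    obtain ⟨χ₂, hχ₂, hχ₂'⟩ := hom_of_eq F hr χ' hχ'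
    have hle : φ.range ≤ S := by
      rintro _ ⟨x, rfl⟩
      rw [← h x (hP x.2)]; exact (F.le_of_mem hχ).2 _
    refine ⟨χ₂.comp (Subgroup.inclusion hle), ⟨hle, χ₂, hχ₂, fun y hy => rfl⟩, fun x => ?_⟩
    show χ₂ ⟨φ x, _⟩ = x
    have hx := h x (hP x.2)
    have hmem : φ x ∈ χ.range := ⟨⟨x, hP x.2⟩, hx⟩
    rw [hχ₂' (φ x) hmem (hle ⟨x, rfl⟩)]
    have : (⟨φ x, hmem⟩ : χ.range) = ⟨χ ⟨x, hP x.2⟩, ⟨_, rfl⟩⟩ := Subtype.ext hx.symm
    rw [this, hχ'']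

theorem autGroup_le_topSystem {Ω : Type*} [Group Ω] {S : Subgroup Ω} [Finite S] (F : Cfsg.FusionSystem S) :
    F.autGroup S ≤ (topSystem F).autGroup S := by
  intro α hα
  have h := (mem_autGroup_iff F le_rfl α).mp hα
  apply Subgroup.subset_closure
  exact ⟨le_rfl, _, h, fun x hx => rfl⟩

theorem isNormal_top_of_le {Ω : Type*} [Group Ω] {S : Subgroup Ω} [Finite S] (F : Cfsg.FusionSystem S)
    (h : F ≤ topSystem F) : F.IsNormal S := by
  refine ⟨le_rfl, fun P φ hφ => ?_⟩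
  obtain ⟨hP, χ, hχ, hχφ⟩ := h P hφ
  have hsup : P ⊔ S = S := sup_eq_right.mpr hP
  obtain ⟨ψ, hψ, hψ'⟩ := hom_of_eq F hsup.symm χ hχ
  refine ⟨ψ, hψ, fun x => ?_, ?_⟩
  · have hxm : (x : Ω) ∈ P ⊔ S := Subgroup.mem_sup_left x.2
    have hincl : Subgroup.inclusion (le_sup_left : P ≤ P ⊔ S) x = ⟨(x : Ω), hxm⟩ := rfl
    rw [hincl, hψ' x (hP x.2) hxm]
    exact hχφ x (hP x.2)
  · apply le_antisymm
    · rintro _ ⟨y, _, rfl⟩
      exact (F.le_of_mem hψ).2 y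
    · intro s hs
      have hr : χ.range = S := range_eq_of_mem_top F χ hχ
      have hs' : s ∈ χ.range := by rw [hr]; exact hs
      obtain ⟨t, ht⟩ := hs'
      have htm : (t : Ω) ∈ P ⊔ S := by rw [hsup]; exact t.2
      refine ⟨⟨t, htm⟩, Subgroup.mem_subgroupOf.mpr t.2, ?_⟩
      rw [hψ' t t.2 htm]; exact ht

theorem eq_top_of_normal_sylow {Ω : Type*} [Group Ω] {S : Subgroup Ω} [Finite S] (p : ℕ) [Fact p.Prime]
    (hS : IsPGroup p S) (F : Cfsg.FusionSystem S) (hF : F.IsSaturated p) {R : Subgroup Ω}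
    (hRn : F.IsFullyNormalized R) (hRc : F.IsCentric R) (hRr : F.IsRadical p R)
    (hN : ∃ R₀ : Sylow p (F.autGroup R), (R₀ : Subgroup (F.autGroup R)).Normal) : R = S := by
  have hRS := hRn.1
  by_contra hne
  obtain ⟨g, hgN, hgR⟩ := exists_mem_normalizerIn_not_mem hS hRS hne
  obtain ⟨-, ⟨-, R₁, hR₁⟩⟩ := Cfsg.Agent.helper25.fullyNormalized_imp hS F hF hRn
  obtain ⟨R₀, hR₀⟩ := hN
  haveI : Finite R := finite_of_le hRS
  have h10 : R₁ = R₀ := by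
    haveI := Sylow.unique_of_normal R₀ hR₀
    exact Subsingleton.elim _ _
  have hnorm : ((Cfsg.autInducedBy S R).subgroupOf (F.autGroup R)).Normal := by
    rw [← hR₁, h10]; exact hR₀
  have hpg : IsPGroup p ((Cfsg.autInducedBy S R).subgroupOf (F.autGroup R)) := by
    rw [← hR₁]; exact R₁.isPGroup'
  have hle := Cfsg.Agent.helper1.le_pCore hnorm hpg
  have hc : R.normalizerMonoidHom ⟨g, hgN.2⟩ ∈ Cfsg.autInducedBy S R :=
    normalizerMonoidHom_mem_autInducedBy S R hgN.1 hgN.2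
  have hcF : R.normalizerMonoidHom ⟨g, hgN.2⟩ ∈ F.autGroup R := autInducedBy_le_autGroup F hRS hc
  have hcore : (⟨_, hcF⟩ : F.autGroup R) ∈ Cfsg.pCore p (F.autGroup R) :=
    hle (Subgroup.mem_subgroupOf.mpr hc)
  have hInn : R.normalizerMonoidHom ⟨g, hgN.2⟩ ∈ Cfsg.Inn R := by
    rw [← hRr.2]
    exact ⟨⟨_, hcF⟩, hcore, rfl⟩
  obtain ⟨x, hx⟩ := hInn
  have hcent : (x : Ω)⁻¹ * g ∈ centralizerIn S R := by
    refine ⟨S.mul_mem (S.inv_mem (hRS x.2)) hgN.1, ?_⟩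
    show _ ∈ Subgroup.centralizer (R : Set Ω)
    rw [Subgroup.mem_centralizer_iff]
    intro y hy
    have h1 := congrArg (fun β : MulAut R => ((β ⟨y, hy⟩ : R) : Ω)) hx
    have h2 : (x : Ω) * y * (x : Ω)⁻¹ = g * y * g⁻¹ := h1
    calc y * ((x : Ω)⁻¹ * g) = (x : Ω)⁻¹ * ((x : Ω) * y * (x : Ω)⁻¹) * g := by group
      _ = (x : Ω)⁻¹ * (g * y * g⁻¹) * g := by rw [h2]
      _ = (x : Ω)⁻¹ * g * y := by group
  have hmem := hRc.2 R (isConj_refl F hRS) hcent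
  apply hgR
  have : g = (x : Ω) * ((x : Ω)⁻¹ * g) := by group
  rw [this]; exact R.mul_mem x.2 hmem

/-- Let F be a saturated fusion system over a finite p-group S. If for every subgroup P of S that is fully normalized, centric and radical in F the automorphism group that F induces on P has a normal Sylow p-subgroup, then S is normal in F. -/
theorem result {Ω : Type u} [Group Ω] {S : Subgroup Ω} [Finite S] (p : ℕ) [Fact p.Prime] (hS : IsPGroup p S)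
    (F : Cfsg.FusionSystem S) (hF : F.IsSaturated p)
    (hcl : ∀ P : Subgroup Ω, F.IsFullyNormalized P → F.IsCentric P → F.IsRadical p P →
      ∃ R : Sylow p ↥(F.autGroup P), (R : Subgroup ↥(F.autGroup P)).Normal) :
    F.IsNormal S := by
  apply isNormal_top_of_le
  apply Cfsg.Agent.helper26.alperin p hS F hF (topSystem F)
  intro R hRn hRc hRr
  have hRS : R = S := eq_top_of_normal_sylow p hS F hF hRn hRc hRr (hcl R hRn hRc hRr)
  rw [hRS]
  exact autGroup_le_topSystem F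

end Cfsg.Agent.S5301
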