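import Cfsg.Statements.S5306
-- import your own Cfsg.Agent.* helpers here

set_option autoImplicit false
open Cfsg

namespace Cfsg.Agent.S5306

/-- weak closure of the Thompson subgroup -/
theorem thompson_weakly_closed {X : Type*} [Group X] [Finite X] (p : ℕ) (P : Subgroup X) (h : X)
    (hle : (Cfsg.thompsonSubgroupOf p P).map (MulAut.conj h).toMonoidHom ≤ P) :
    (Cfsg.thompsonSubgroupOf p P).map (MulAut.conj h).toMonoidHom = Cfsg.thompsonSubgroupOf p P := by
  set J := Cfsg.thompsonSubgroupOf p P with hJ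
  have hcard : Nat.card (J.map (MulAut.conj h).toMonoidHom) = Nat.card J :=
    Nat.card_congr (J.equivMapOfInjective _ (MulAut.conj h).injective).toEquiv.symm
  apply Subgroup.eq_of_le_of_card_ge _ (le_of_eq hcard.symm)
  rw [Subgroup.map_le_iff_le_comap]
  rw [hJ]
  unfold Cfsg.thompsonSubgroupOf Cfsg.thompsonSubgroup
  rw [Subgroup.map_le_iff_le_comap]
  apply sSup_le
  intro A hA a ha
  rw [Subgroup.mem_comap, Subgroup.mem_comap]
  -- the conjugate of A
  have hAJ : A.map P.subtype ≤ J := by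
    rw [hJ]
    unfold Cfsg.thompsonSubgroupOf Cfsg.thompsonSubgroup
    exact Subgroup.map_mono (le_sSup hA)
  have hKP : (A.map P.subtype).map (MulAut.conj h).toMonoidHom ≤ P :=
    (Subgroup.map_mono hAJ).trans hle
  set K := (A.map P.subtype).map (MulAut.conj h).toMonoidHom with hK
  let B : Subgroup P := K.subgroupOf P
  let e : B ≃* A :=
    ((Subgroup.subgroupOfEquivOfLe hKP).trans
      (((A.map P.subtype).equivMapOfInjective _ (MulAut.conj h).injective).symm)).trans
      ((A.equivMapOfInjective _ P.subtype_injective).symm)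
  have hBmem : B ∈ Cfsg.maxElementaryAbelianSubgroups p P := by
    obtain ⟨⟨hAc, hAp⟩, hAmax⟩ := hA
    refine ⟨⟨⟨⟨fun b1 b2 => ?_⟩⟩, ?_⟩, ?_⟩
    · apply e.injective
      rw [map_mul, map_mul]
      exact hAc.is_comm.comm _ _
    · intro b hb
      have h1 : e ⟨b, hb⟩ ^ p = 1 := by
        have := hAp (e ⟨b, hb⟩ : A) (e ⟨b, hb⟩).2
        apply Subtype.ext
        simpa using this
      have h2 : (⟨b, hb⟩ : B) ^ p = 1 := by
        apply e.injective
        rw [map_pow, h1, map_one]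
      have := congrArg Subtype.val h2
      simpa using this
    · intro B₂ hB₂
      rw [Nat.card_congr e.toEquiv]
      exact hAmax B₂ hB₂
  have hmemB : (⟨h * (a : X) * h⁻¹, hKP ⟨(a : X), ⟨a, ha, rfl⟩, rfl⟩⟩ : P) ∈ B := by
    rw [Subgroup.mem_subgroupOf]
    exact ⟨(a : X), ⟨a, ha, rfl⟩, rfl⟩
  have : (⟨h * (a : X) * h⁻¹, hKP ⟨(a : X), ⟨a, ha, rfl⟩, rfl⟩⟩ : P) ∈ sSup (Cfsg.maxElementaryAbelianSubgroups p P) :=
    (le_sSup hBmem) hmemB
  exact ⟨_, this, rfl⟩


/-- Let P be a Sylow p-subgroup of the finite group X and J = J(P) its Thompson subgroup (generated by the elementary abelian subgroups of P of largest order). If x and y lie in the centre of J and y = g x g⁻¹ for some g in X, then y = n x n⁻¹ for some n in the normalizer N_X(J). -/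
theorem result {X : Type*} [Group X] [Finite X] (p : ℕ) [Fact p.Prime] (P : Sylow p X) (J : Subgroup X) (hJ : J = Cfsg.thompsonSubgroupOf p (P : Subgroup X))
    (x y : X) (hx : x ∈ J ∧ ∀ j ∈ J, Commute j x) (hy : y ∈ J ∧ ∀ j ∈ J, Commute j y) (g : X) (hg : g * x * g⁻¹ = y) :
    ∃ n ∈ Subgroup.normalizer (J : Set X), n * x * n⁻¹ = y := by
  have hJP : J ≤ (P : Subgroup X) := by
    rw [hJ]
    unfold Cfsg.thompsonSubgroupOf
    exact Subgroup.map_subtype_le _
  have hJp : IsPGroup p J := P.isPGroup'.to_le hJP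
  have hwc : ∀ h : X, J.map (MulAut.conj h).toMonoidHom ≤ (P : Subgroup X) →
      J.map (MulAut.conj h).toMonoidHom = J := by
    intro h hle
    rw [hJ] at hle ⊢
    exact thompson_weakly_closed p (P : Subgroup X) h hle
  set C := Subgroup.centralizer ({y} : Set X) with hC
  have hJC : J ≤ C := by
    intro j hj
    rw [hC, Subgroup.mem_centralizer_iff]
    intro z hz
    rw [Set.mem_singleton_iff] at hz
    rw [hz]
    exact ((hy.2 j hj).eq).symm
  have hJgC : J.map (MulAut.conj g).toMonoidHom ≤ C := by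
    rintro _ ⟨j, hj, rfl⟩
    rw [hC, Subgroup.mem_centralizer_iff]
    intro z hz
    rw [Set.mem_singleton_iff] at hz
    rw [hz, ← hg]
    show g * x * g⁻¹ * (g * j * g⁻¹) = g * j * g⁻¹ * (g * x * g⁻¹)
    have := (hx.2 j hj).eq
    calc g * x * g⁻¹ * (g * j * g⁻¹) = g * (x * j) * g⁻¹ := by group
      _ = g * (j * x) * g⁻¹ := by rw [this]
      _ = g * j * g⁻¹ * (g * x * g⁻¹) := by group
  have hp1 : IsPGroup p (J.subgroupOf C) := hJp.comap_subtype
  have hp2 : IsPGroup p ((J.map (MulAut.conj g).toMonoidHom).subgroupOf C) :=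
    (hJp.map _).comap_subtype
  obtain ⟨R, hR⟩ := hp1.exists_le_sylow
  obtain ⟨R₂, hR₂⟩ := hp2.exists_le_sylow
  obtain ⟨c, hc⟩ := MulAction.exists_smul_eq C R₂ R
  -- K: image of R in X
  have hKp : IsPGroup p ((R : Subgroup C).map C.subtype) := R.isPGroup'.map _
  obtain ⟨P₂, hP₂⟩ := hKp.exists_le_sylow
  obtain ⟨u, hu⟩ := MulAction.exists_smul_eq X P₂ P
  -- J ≤ P₂ and (c g) J (c g)⁻¹ ≤ P₂
  have hJP₂ : J ≤ (P₂ : Subgroup X) := by
    intro j hj
    apply hP₂
    exact ⟨⟨j, hJC hj⟩, hR (Subgroup.mem_subgroupOf.mpr hj), rfl⟩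
  have hJcgP₂ : J.map (MulAut.conj ((c : X) * g)).toMonoidHom ≤ (P₂ : Subgroup X) := by
    rintro _ ⟨j, hj, rfl⟩
    apply hP₂
    have hgj : g * j * g⁻¹ ∈ C := hJgC ⟨j, hj, rfl⟩
    have h1 : (⟨g * j * g⁻¹, hgj⟩ : C) ∈ (R₂ : Subgroup C) := by
      apply hR₂
      rw [Subgroup.mem_subgroupOf]
      exact ⟨j, hj, rfl⟩
    have h2 := Subgroup.smul_mem_pointwise_smul _ (MulAut.conj c) _ h1
    rw [← Sylow.coe_subgroup_smul, hc] at h2
    refine ⟨_, h2, ?_⟩
    simp [MulAut.smul_def, mul_assoc]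
  -- move into P by u
  have hmove : ∀ K : Subgroup X, K ≤ (P₂ : Subgroup X) → K.map (MulAut.conj u).toMonoidHom ≤ (P : Subgroup X) := by
    rintro K hK _ ⟨k, hk, rfl⟩
    have h2 := Subgroup.smul_mem_pointwise_smul _ (MulAut.conj u) _ (hK hk)
    rw [← Sylow.coe_subgroup_smul, hu] at h2
    simpa [MulAut.smul_def] using h2
  have h1 : J.map (MulAut.conj u).toMonoidHom = J := hwc u (hmove J hJP₂)
  have h2 : J.map (MulAut.conj (u * ((c : X) * g))).toMonoidHom = J := by
    apply hwc
    have := hmove _ hJcgP₂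
    rw [Subgroup.map_map] at this
    convert this using 2
    ext z
    simp [mul_assoc]
  have h3 : J.map (MulAut.conj ((c : X) * g)).toMonoidHom = J := by
    have h4 : (J.map (MulAut.conj ((c : X) * g)).toMonoidHom).map (MulAut.conj u).toMonoidHom = J.map (MulAut.conj u).toMonoidHom := by
      rw [h1, Subgroup.map_map, ← h2]
      congr 1
      ext z
      simp [mul_assoc]
    exact Subgroup.map_injective (MulAut.conj u).injective h4
  refine ⟨(c : X) * g, ?_, ?_⟩
  · rw [Subgroup.mem_normalizer_iff]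
    intro z
    constructor
    · intro hz
      rw [← h3]
      exact ⟨z, hz, rfl⟩
    · intro hz
      rw [← h3] at hz
      obtain ⟨z', hz', hzz⟩ := hz
      have : z' = z := (MulAut.conj ((c : X) * g)).injective hzz
      rw [← this]
      exact hz'
  · have hcy : (c : X) * y = y * (c : X) := by
      have hcC : (c : X) ∈ Subgroup.centralizer ({y} : Set X) := c.2
      rw [Subgroup.mem_centralizer_iff] at hcC
      exact (hcC y rfl).symm
    calc (c : X) * g * x * ((c : X) * g)⁻¹ = (c : X) * (g * x * g⁻¹) * (c : X)⁻¹ := by group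
      _ = (c : X) * y * (c : X)⁻¹ := by rw [hg]
      _ = y := by rw [hcy]; group

end Cfsg.Agent.S5306
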