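import Cfsg.Statements.S5315
import Cfsg.Agent.Lib_helper26_Factor2
import Cfsg.Agent.Lib_helper25_CentralChar

set_option autoImplicit false
open Cfsg

namespace Cfsg.Agent.S5315

open Cfsg.FusionSystem Cfsg.Agent.helper25 Cfsg.Agent.helper26.ModT

set_option maxHeartbeats 1000000 in
theorem core {Ω : Type*} [Group Ω] {S : Subgroup Ω} [Finite S] (p : ℕ) [Fact p.Prime]
    (hS : IsPGroup p S) (F : Cfsg.FusionSystem S) (hF : F.IsSaturated p)
    (hperf : F.hyperfocalSubgroup p = S)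
    {Ω' : Type*} [Group Ω'] {S' : Subgroup Ω'} (θ : S →* Ω') (E : Cfsg.FusionSystem S')
    (hE : F.IsFactorSystem F.center θ E)
    (Q' : Subgroup Ω') (hQ' : E.IsCentral Q') (y : Ω) (hy : y ∈ S) (hyQ : θ ⟨y, hy⟩ ∈ Q')
    (φ : ↥(Subgroup.zpowers y) →* Ω) (hφ : φ ∈ F.Hom (Subgroup.zpowers y)) :
    φ ⟨y, Subgroup.mem_zpowers y⟩ = y := by
  have hE' := hE
  obtain ⟨hZS, hker, hrange, hiff⟩ := hE
  have hZc : F.IsCentral F.center := isCentral_center F
  have hZsc := central_stronglyClosed F hZc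
  -- Lemma M
  have lemM : ∀ (P : Subgroup Ω) (φ : P →* Ω), φ ∈ F.Hom P → ∀ (u : P) (huS : (u : Ω) ∈ S),
      θ ⟨u, huS⟩ ∈ Q' → (u : Ω)⁻¹ * φ u ∈ F.center := by
    intro P φ hφ u huS huQ
    have hPS := (F.le_of_mem hφ).1
    obtain ⟨φ₁, hφ₁, h1, h2⟩ := hZc.2 P φ hφ
    have hDS : P ⊔ F.center ≤ S := sup_le hPS hZS
    obtain ⟨φ', hφ', hφ'c⟩ := exists_induced_map F hZsc θ E hE' le_sup_right hDS φ₁ hφ₁
    have hd' : θ ⟨((Subgroup.inclusion le_sup_left u : ↥(P ⊔ F.center)) : Ω),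
        hDS (Subgroup.inclusion le_sup_left u).2⟩ ∈ ((P ⊔ F.center).subgroupOf S).map θ :=
      ⟨⟨u, huS⟩, Subgroup.mem_subgroupOf.mpr ((le_sup_left : P ≤ P ⊔ F.center) u.2), rfl⟩
    have h3 := hφ'c (Subgroup.inclusion le_sup_left u) hd'
    have h4 := central_fix E hQ' hφ' ⟨_, hd'⟩ huQ
    have e : (⟨φ₁ (Subgroup.inclusion le_sup_left u), (F.le_of_mem hφ₁).2 _⟩ : S) =
        ⟨φ u, (F.le_of_mem hφ).2 u⟩ := Subtype.ext (h1 u)
    rw [e] at h3
    have h5 : θ ((⟨(u : Ω), huS⟩ : S)⁻¹ * ⟨φ u, (F.le_of_mem hφ).2 u⟩) = 1 := by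
      rw [map_mul, map_inv, inv_mul_eq_one]
      exact h4.symm.trans h3
    exact (hker _).mp h5
  -- Lemma L
  have lemL : ∀ (P : Subgroup Ω) (φ : P →* Ω), φ ∈ F.Hom P → ∃ (D₂ : Subgroup Ω) (ψ : D₂ →* Ω),
      ψ ∈ F.Hom D₂ ∧ P ≤ D₂ ∧ y ∈ D₂ ∧
        ∀ (d : P) (hd : (d : Ω) ∈ D₂), (φ d)⁻¹ * ψ ⟨d, hd⟩ ∈ F.center := by
    intro P φ hφ
    have hPS := (F.le_of_mem hφ).1
    obtain ⟨φ₁, hφ₁, h1, h2⟩ := hZc.2 P φ hφ
    have hDS : P ⊔ F.center ≤ S := sup_le hPS hZS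
    obtain ⟨φ', hφ', hφ'c⟩ := exists_induced_map F hZsc θ E hE' le_sup_right hDS φ₁ hφ₁
    obtain ⟨ψ', hψ', hψ'1, hψ'2⟩ := hQ'.2 _ φ' hφ'
    obtain ⟨-, ψ, hψ, hD₂S, hψS, hD₂', hind⟩ := (hiff _ _).mp hψ'
    refine ⟨_, ψ, hψ, ?_, ?_, ?_⟩
    · intro u hu
      exact (mem_preimageAlong θ _ u).mpr ⟨hPS hu, Subgroup.mem_sup_left
        ⟨⟨u, hPS hu⟩, Subgroup.mem_subgroupOf.mpr ((le_sup_left : P ≤ P ⊔ F.center) hu), rfl⟩⟩
    · exact (mem_preimageAlong θ _ y).mpr ⟨hy, Subgroup.mem_sup_right hyQ⟩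
    · intro d hd
      have hdS : (d : Ω) ∈ S := hPS d.2
      have hd' : θ ⟨(d : Ω), hdS⟩ ∈ ((P ⊔ F.center).subgroupOf S).map θ :=
        ⟨⟨d, hdS⟩, Subgroup.mem_subgroupOf.mpr ((le_sup_left : P ≤ P ⊔ F.center) d.2), rfl⟩
      have h3 := hind ⟨d, hd⟩
      have h4 := hψ'1 ⟨θ ⟨(d : Ω), hdS⟩, hd'⟩
      have h5 := hφ'c (Subgroup.inclusion le_sup_left d) hd'
      have e : (⟨φ₁ (Subgroup.inclusion le_sup_left d), (F.le_of_mem hφ₁).2 _⟩ : S) =
          ⟨φ d, (F.le_of_mem hφ).2 d⟩ := Subtype.ext (h1 d)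
      rw [e] at h5
      have h6 : θ ⟨φ d, (F.le_of_mem hφ).2 d⟩ = θ ⟨ψ ⟨d, hd⟩, hψS _⟩ :=
        h5.symm.trans (h4.symm.trans h3)
      have h7 : θ ((⟨φ d, (F.le_of_mem hφ).2 d⟩ : S)⁻¹ * ⟨ψ ⟨d, hd⟩, hψS _⟩) = 1 := by
        rw [map_mul, map_inv, inv_mul_eq_one]; exact h6
      exact (hker _).mp h7
  have hzc : ∀ z ∈ F.center, ∀ g ∈ S, Commute z g :=
    fun z hz g hg => (central_comm F hZc hz hg).symm
  -- Part II
  have hζ : ∀ s ∈ S, y⁻¹ * s * y * s⁻¹ ∈ F.center := by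
    intro s hs
    have h := lemM S (conjHom S s) (F.conj_mem le_rfl hs) ⟨y, hy⟩ hy hyQ
    have h' : y⁻¹ * (s * y * s⁻¹) ∈ F.center := h
    have e : y⁻¹ * s * y * s⁻¹ = y⁻¹ * (s * y * s⁻¹) := by group
    rw [e]; exact h'
  -- Part III
  have claimA : ∀ (P : Subgroup Ω) (φ : P →* Ω), φ ∈ F.Hom P → ∀ s : P,
      y⁻¹ * (φ s) * y * (φ s)⁻¹ = y⁻¹ * (s : Ω) * y * (s : Ω)⁻¹ := by
    intro P φ hφ s
    have hPS := (F.le_of_mem hφ).1
    obtain ⟨D₂, ψ, hψ, hPD₂, hyD₂, hcong⟩ := lemL P φ hφ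
    have hsD₂ : (s : Ω) ∈ D₂ := hPD₂ s.2
    have hc : (((⟨y, hyD₂⟩ : D₂)⁻¹ * ⟨s, hsD₂⟩ * ⟨y, hyD₂⟩ * (⟨s, hsD₂⟩ : D₂)⁻¹ : D₂) : Ω) ∈
        F.center := hζ s (hPS s.2)
    have h1 := central_fix F hZc hψ _ hc
    rw [map_mul, map_mul, map_mul, map_inv, map_inv] at h1
    have hz₁Z : y⁻¹ * ψ ⟨y, hyD₂⟩ ∈ F.center := lemM D₂ ψ hψ ⟨y, hyD₂⟩ hy hyQ
    have hz₂Z : (φ s)⁻¹ * ψ ⟨s, hsD₂⟩ ∈ F.center := hcong s hsD₂
    have e1 : ψ ⟨y, hyD₂⟩ = y * (y⁻¹ * ψ ⟨y, hyD₂⟩) := (mul_inv_cancel_left _ _).symm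
    have e2 : ψ ⟨s, hsD₂⟩ = φ s * ((φ s)⁻¹ * ψ ⟨s, hsD₂⟩) := (mul_inv_cancel_left _ _).symm
    have hφsS : φ s ∈ S := (F.le_of_mem hφ).2 s
    have h2 := comm_calc y (φ s) (y⁻¹ * ψ ⟨y, hyD₂⟩) ((φ s)⁻¹ * ψ ⟨s, hsD₂⟩)
      (hzc _ hz₁Z y hy) (hzc _ hz₁Z _ hφsS) (hzc _ hz₂Z y hy) (hzc _ hz₂Z _ hφsS)
      (hzc _ hz₁Z _ (hZS hz₂Z))
    rw [← e1, ← e2] at h2
    rw [← h2]
    exact h1
  -- Part IV
  have hcomm : ∀ s ∈ S, s * y = y * s := by
    have hle : F.hyperfocalSubgroup p ≤ Subgroup.centralizer {y} := by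
      refine (Subgroup.closure_le _).mpr ?_
      rintro _ ⟨P, α, u, hPS, hα, rfl⟩
      have hα' : P.subtype.comp (α : MulAut P).toMonoidHom ∈ F.Hom P :=
        (mem_autGroup_iff F hPS _).mp α.2
      have h := claimA P _ hα' u
      have h' : (((α : MulAut P) u : P) : Ω) * y * (((α : MulAut P) u : P) : Ω)⁻¹ =
          (u : Ω) * y * (u : Ω)⁻¹ := by
        have h0 : y⁻¹ * (((α : MulAut P) u : P) : Ω) * y * (((α : MulAut P) u : P) : Ω)⁻¹ =
          y⁻¹ * (u : Ω) * y * (u : Ω)⁻¹ := h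
        have := congrArg (fun t => y * t) h0
        simpa [mul_assoc] using this
      rw [SetLike.mem_coe, Subgroup.mem_centralizer_iff]
      intro w hw
      rw [Set.mem_singleton_iff] at hw
      subst hw
      calc w * ((u : Ω)⁻¹ * (((α : MulAut P) u : P) : Ω))
          = (u : Ω)⁻¹ * ((u : Ω) * w * (u : Ω)⁻¹) * (((α : MulAut P) u : P) : Ω) := by group
        _ = (u : Ω)⁻¹ * ((((α : MulAut P) u : P) : Ω) * w * (((α : MulAut P) u : P) : Ω)⁻¹) *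
            (((α : MulAut P) u : P) : Ω) := by rw [h']
        _ = (u : Ω)⁻¹ * (((α : MulAut P) u : P) : Ω) * w := by group
    intro s hs
    have hs' : s ∈ F.hyperfocalSubgroup p := by rw [hperf]; exact hs
    exact ((Subgroup.mem_centralizer_iff.mp (hle hs')) y (Set.mem_singleton y)).symm
  -- Part V
  have hwz : y⁻¹ * φ ⟨y, Subgroup.mem_zpowers y⟩ ∈ F.center :=
    lemM _ φ hφ ⟨y, Subgroup.mem_zpowers y⟩ hy hyQ
  have hrange_comm : ∀ v ∈ φ.range, ∀ s ∈ S, s * v = v * s := by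
    rintro _ ⟨⟨u, hu⟩, rfl⟩ s hs
    obtain ⟨i, rfl⟩ := Subgroup.mem_zpowers_iff.mp hu
    have e1 : φ ⟨y ^ i, hu⟩ = (φ ⟨y, Subgroup.mem_zpowers y⟩) ^ i := by
      have e0 : (⟨y ^ i, hu⟩ : Subgroup.zpowers y) =
          (⟨y, Subgroup.mem_zpowers y⟩ : Subgroup.zpowers y) ^ i := Subtype.ext (by simp)
      rw [e0, map_zpow]
    rw [e1]
    have hsw : Commute s (φ ⟨y, Subgroup.mem_zpowers y⟩) := by
      have e : φ ⟨y, Subgroup.mem_zpowers y⟩ = y * (y⁻¹ * φ ⟨y, Subgroup.mem_zpowers y⟩) :=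
        (mul_inv_cancel_left _ _).symm
      rw [e]
      exact Commute.mul_right (hcomm s hs) (hzc _ hwz s hs).symm
    exact (hsw.zpow_right i).eq
  have hYfc : F.IsFullyCentralized φ.range := by
    refine ⟨range_le_of_mem F hφ, fun Q hQ => ?_⟩
    have hC : centralizerIn S φ.range = S := by
      apply le_antisymm inf_le_left
      intro s hs
      refine ⟨hs, Subgroup.mem_centralizer_iff.mpr (fun v hv => ?_)⟩
      exact (hrange_comm v hv s hs).symm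
    rw [hC]
    exact Subgroup.card_le_of_le inf_le_left
  have hrec := receptive_of_fullyCentralized hS F hF hYfc
  obtain ⟨ψ, hψ, hψφ⟩ := hrec.2 _ φ hφ rfl
  have hextS : S ≤ extender S (Subgroup.zpowers y) φ := by
    intro g hg
    apply Subgroup.subset_closure
    have hgcomm : ∀ x ∈ Subgroup.zpowers y, Commute g x := by
      intro x hx
      obtain ⟨i, rfl⟩ := Subgroup.mem_zpowers_iff.mp hx
      exact (show Commute g y from hcomm g hg).zpow_right i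
    refine ⟨hg, ?_, 1, S.one_mem, ?_⟩
    · apply Subgroup.centralizer_le_normalizer
      rw [Subgroup.mem_centralizer_iff]
      intro x hx
      exact (hgcomm x hx).eq.symm
    · intro x hx
      have e : (⟨g * (x : Ω) * g⁻¹, hx⟩ : Subgroup.zpowers y) = x := by
        apply Subtype.ext
        show g * (x : Ω) * g⁻¹ = x
        rw [(hgcomm x x.2).eq, mul_inv_cancel_right]
      rw [e]; simp
  have hψ' : ψ.comp (Subgroup.inclusion hextS) ∈ F.Hom S := restrict_mem F hextS hψ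
  obtain ⟨α, hα, hαc⟩ := Cfsg.Agent.helper26.exists_mulAut_of_mem_top F _ hψ'
  have hαy : ((α ⟨y, hy⟩ : S) : Ω) = φ ⟨y, Subgroup.mem_zpowers y⟩ := by
    rw [hαc]
    exact hψφ y (Subgroup.mem_zpowers y) (hextS hy)
  have hSfa : F.IsFullyAutomized p S := fullyAutomized_of_top_or_essential hS F hF (Or.inl rfl)
  obtain ⟨g, hg, k, hk, hgk⟩ := exists_conj_mul_pResidual F hSfa hα
  have hkfix : ∀ k : F.autGroup S, k ∈ Cfsg.pResidual p (F.autGroup S) →
      (k : MulAut S) ⟨y, hy⟩ = ⟨y, hy⟩ := by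
    let Fix : Subgroup (MulAut S) :=
      { carrier := {β | β ⟨y, hy⟩ = ⟨y, hy⟩}
        one_mem' := rfl
        mul_mem' := by
          intro a b ha hb
          show a (b _) = _
          rw [hb, ha]
        inv_mem' := by
          intro a ha
          show a⁻¹ _ = _
          conv_lhs => rw [← ha]
          exact MulAut.inv_apply_self _ a _ }
    have hle : Cfsg.pResidual p (F.autGroup S) ≤ Fix.comap (F.autGroup S).subtype := by
      unfold Cfsg.pResidual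
      rw [Subgroup.closure_le]
      intro β hβ
      show (β : MulAut S) ⟨y, hy⟩ = ⟨y, hy⟩
      have hβ' : Nat.Coprime (orderOf (β : MulAut S)) p := by
        rw [Subgroup.orderOf_coe]; exact hβ
      have hb : S.subtype.comp (β : MulAut S).toMonoidHom ∈ F.Hom S :=
        (mem_autGroup_iff F le_rfl _).mp β.2
      have hz : y⁻¹ * (((β : MulAut S) ⟨y, hy⟩ : S) : Ω) ∈ F.center :=
        lemM S _ hb ⟨y, hy⟩ hy hyQ
      obtain ⟨zS, hzS, hby⟩ : ∃ zS : S, (zS : Ω) ∈ F.center ∧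
          (β : MulAut S) ⟨y, hy⟩ = ⟨y, hy⟩ * zS := by
        refine ⟨⟨_, hZS hz⟩, hz, ?_⟩
        apply Subtype.ext
        show _ = y * (y⁻¹ * _)
        rw [mul_inv_cancel_left]
      have hbz : (β : MulAut S) zS = zS :=
        Subtype.ext (central_fix F hZc hb zS hzS)
      have hpow : ∀ j : ℕ, ((β : MulAut S) ^ j) ⟨y, hy⟩ = ⟨y, hy⟩ * zS ^ j := by
        intro j
        induction j with
        | zero => simp
        | succ j ih =>
          rw [pow_succ]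
          show ((β : MulAut S) ^ j) ((β : MulAut S) ⟨y, hy⟩) = _
          rw [hby, map_mul, ih, pow_apply_of_fixed hbz j, pow_succ, mul_assoc]
      have h1 := hpow (orderOf (β : MulAut S))
      rw [pow_orderOf_eq_one] at h1
      have h2 : zS ^ (orderOf (β : MulAut S)) = 1 := by
        have h3 : (⟨y, hy⟩ : S) * 1 = ⟨y, hy⟩ * zS ^ (orderOf (β : MulAut S)) := by
          rw [mul_one]; exact h1
        exact (mul_left_cancel h3).symm
      obtain ⟨m, hm⟩ := hS zS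
      have h4 : orderOf zS ∣ Nat.gcd (orderOf (β : MulAut S)) (p ^ m) :=
        Nat.dvd_gcd (orderOf_dvd_of_pow_eq_one h2) (orderOf_dvd_of_pow_eq_one hm)
      have h5 : Nat.gcd (orderOf (β : MulAut S)) (p ^ m) = 1 := Nat.Coprime.pow_right m hβ'
      rw [h5, Nat.dvd_one, orderOf_eq_one_iff] at h4
      rw [hby, h4, mul_one]
    intro k hk
    exact hle hk
  rw [← hαy, hgk, hkfix k hk]
  show g * y * g⁻¹ = y
  rw [hcomm g hg, mul_inv_cancel_right]

/-- An analogue of Grün's lemma for fusion systems. Let F be a saturated fusion system over a finite p-group S that is perfect in the sense that its hyperfocal subgroup is all of S (F coincides with its p-residual subsystem). Then the second centre of F equals its centre: every fusion system over S/(Z(F) ∩ S) that is the factor system of F modulo its centre Z(F), read through the quotient map, has trivial centre. -/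
theorem result {Ω : Type*} [Group Ω] {S : Subgroup Ω} [Finite S] (p : ℕ) [Fact p.Prime] (hS : IsPGroup p S) (F : Cfsg.FusionSystem S) (hF : F.IsSaturated p)
    (hperf : F.hyperfocalSubgroup p = S)
    (E : Cfsg.FusionSystem (⊤ : Subgroup (↥S ⧸ (F.center).subgroupOf S)))
    (hE : F.IsFactorSystem F.center (QuotientGroup.mk' ((F.center).subgroupOf S)) E) : E.center = ⊥ := by
  have hE' := hE
  obtain ⟨hZS, hker, hrange, hiff⟩ := hE
  rw [eq_bot_iff]
  show sSup {Q | E.IsCentral Q} ≤ ⊥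
  apply sSup_le
  intro Q' hQ' xb hxb
  obtain ⟨s, rfl⟩ := QuotientGroup.mk'_surjective _ xb
  rw [Subgroup.mem_bot]
  apply (hker s).mpr
  have hcentral : F.IsCentral (Subgroup.zpowers (s : Ω)) := by
    rw [isCentral_iff_no_fusion hS F hF]
    refine ⟨(Subgroup.zpowers_le).mpr s.2, ?_⟩
    rintro a ha w ⟨φ, hφ, hw⟩
    obtain ⟨i, rfl⟩ := Subgroup.mem_zpowers_iff.mp ha
    have haS : (s : Ω) ^ i ∈ S := S.zpow_mem s.2 i
    have haQ : (QuotientGroup.mk' ((F.center).subgroupOf S)) ⟨(s : Ω) ^ i, haS⟩ ∈ Q' := by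
      have e : (⟨(s : Ω) ^ i, haS⟩ : S) = s ^ i := Subtype.ext (by simp)
      rw [e, map_zpow]; exact Q'.zpow_mem hxb i
    rw [← hw]
    exact core p hS F hF hperf _ E hE' Q' hQ' _ haS haQ φ hφ
  exact (le_sSup hcentral : Subgroup.zpowers (s : Ω) ≤ F.center) (Subgroup.mem_zpowers _)

end Cfsg.Agent.S5315
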