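import Cfsg.Statements.S5327
import Mathlib
import Cfsg.Agent.Lib_helper26_Alperin

set_option autoImplicit false
open Cfsg

namespace Cfsg.Agent.S5327

open Cfsg.FusionSystem Cfsg.Agent.helper26

/-- the maps of `F` that are required to lie in `E` only on the subgroups not marked `free` -/
def mixSystem {Ω : Type*} [Group Ω] {S : Subgroup Ω} (F E : Cfsg.FusionSystem S) (free : Subgroup Ω → Prop)
    (hfree : ∀ (P P' : Subgroup Ω) (φ : P →* Ω), φ ∈ F.Hom P → (∀ x, φ x ∈ P') → P' ≤ S → free P' → free P) :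
    Cfsg.FusionSystem S where
  Hom P := {φ | φ ∈ F.Hom P ∧ (free P ∨ φ ∈ E.Hom P)}
  le_of_mem h := F.le_of_mem h.1
  injective_of_mem h := F.injective_of_mem h.1
  conj_mem hP hg := ⟨F.conj_mem hP hg, Or.inr (E.conj_mem hP hg)⟩
  comp_mem := by
    rintro P Q φ ψ ⟨hφF, hφ⟩ ⟨hψF, hψ⟩ h
    refine ⟨F.comp_mem hφF hψF h, ?_⟩
    by_cases hP : free P
    · exact Or.inl hP
    · right
      have hQ : ¬ free Q := fun hQ => hP (hfree P Q φ hφF h (F.le_of_mem hψF).1 hQ)
      exact E.comp_mem (hφ.resolve_left hP) (hψ.resolve_left hQ) h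
  inv_mem := by
    rintro P φ ⟨hφF, hφ⟩
    obtain ⟨ψ, hψ, hψ'⟩ := F.inv_mem hφF
    refine ⟨ψ, ⟨hψ, ?_⟩, hψ'⟩
    by_cases hP : free P
    · left
      refine hfree φ.range P ψ hψ ?_ (F.le_of_mem hφF).1 hP
      rintro ⟨_, x, rfl⟩
      rw [hψ' x]; exact x.2
    · right
      obtain ⟨ψ₂, hψ₂, hψ₂'⟩ := E.inv_mem (hφ.resolve_left hP)
      have : ψ = ψ₂ := by
        ext y
        obtain ⟨_, x, rfl⟩ := y
        rw [hψ' x, hψ₂' x]
      rw [this]; exact hψ₂

theorem card_le_of_hom {Ω : Type*} [Group Ω] {S : Subgroup Ω} [Finite S] (F : Cfsg.FusionSystem S)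
    {P P' : Subgroup Ω} {φ : P →* Ω} (hφ : φ ∈ F.Hom P) (h : ∀ x, φ x ∈ P') (hP' : P' ≤ S) :
    Nat.card P ≤ Nat.card P' := by
  haveI : Finite P' := finite_of_le hP'
  refine Nat.card_le_card_of_injective (φ.codRestrict P' h) ?_
  intro a b hab
  exact F.injective_of_mem hφ (congrArg Subtype.val hab)

theorem range_eq_of_card_eq {Ω : Type*} [Group Ω] {S : Subgroup Ω} [Finite S] (F : Cfsg.FusionSystem S)
    {P P' : Subgroup Ω} {φ : P →* Ω} (hφ : φ ∈ F.Hom P) (h : ∀ x, φ x ∈ P') (hP' : P' ≤ S)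
    (hc : Nat.card P = Nat.card P') : φ.range = P' := by
  haveI : Finite P' := finite_of_le hP'
  have hle : φ.range ≤ P' := by
    rintro _ ⟨x, rfl⟩; exact h x
  apply Subgroup.eq_of_le_of_card_ge hle
  rw [← hc]
  exact le_of_eq (Nat.card_congr (MonoidHom.ofInjective (F.injective_of_mem hφ)).toEquiv)

theorem step {Ω : Type*} [Group Ω] {S : Subgroup Ω} [Finite S] (F : Cfsg.FusionSystem S)
    (𝒬₁ 𝒬₂ : Set (Subgroup Ω))
    (h₂ : ∀ R ∈ 𝒬₂, ∀ R' : Subgroup Ω, F.IsConj R R' → R' ∈ 𝒬₂)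
    (hg₁ : ∀ E : Cfsg.FusionSystem S, (∀ R ∈ 𝒬₁, F.autGroup R ≤ E.autGroup R) → F ≤ E)
    (hg₂ : ∀ E : Cfsg.FusionSystem S, (∀ R ∈ 𝒬₂, F.autGroup R ≤ E.autGroup R) → F ≤ E)
    (E : Cfsg.FusionSystem S) (hE : ∀ R ∈ 𝒬₁ ∩ 𝒬₂, F.autGroup R ≤ E.autGroup R) (k : ℕ)
    (IH : ∀ P : Subgroup Ω, k < Nat.card P → F.Hom P ⊆ E.Hom P) :
    ∀ P : Subgroup Ω, k ≤ Nat.card P → F.Hom P ⊆ E.Hom P := by
  have h1 : ∀ (P P' : Subgroup Ω) (φ : P →* Ω), φ ∈ F.Hom P → (∀ x, φ x ∈ P') → P' ≤ S →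
      Nat.card P' < k → Nat.card P < k :=
    fun P P' φ hφ h hP' hlt => lt_of_le_of_lt (card_le_of_hom F hφ h hP') hlt
  have key : F ≤ mixSystem F E (fun P => Nat.card P < k) h1 := by
    apply hg₁
    intro R hR1
    apply Subgroup.closure_mono
    intro α hα
    have hRS : R ≤ S := (F.le_of_mem hα).1
    haveI : Finite R := finite_of_le hRS
    refine ⟨hα, ?_⟩
    rcases lt_trichotomy (Nat.card R) k with hlt | heq | hgt
    · exact Or.inl hlt
    · right
      by_cases hR2 : R ∈ 𝒬₂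
      · have := hE R ⟨hR1, hR2⟩ (Subgroup.subset_closure hα)
        exact (mem_autGroup_iff E hRS α).mp this
      · have h2 : ∀ (P P' : Subgroup Ω) (φ : P →* Ω), φ ∈ F.Hom P → (∀ x, φ x ∈ P') → P' ≤ S →
            (Nat.card P' < k ∨ (Nat.card P' = k ∧ ¬ F.IsConj R P')) →
            (Nat.card P < k ∨ (Nat.card P = k ∧ ¬ F.IsConj R P)) := by
          intro P P' φ hφ h hP' hfr
          have hle := card_le_of_hom F hφ h hP'
          rcases hfr with hlt | ⟨hc, hnc⟩
          · exact Or.inl (lt_of_le_of_lt hle hlt)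
          · rcases lt_or_eq_of_le hle with hlt | heq'
            · left; rw [← hc]; exact hlt
            · right
              refine ⟨heq'.trans hc, fun hRP => hnc ?_⟩
              have hr := range_eq_of_card_eq F hφ h hP' heq'
              exact isConj_trans F hRP ⟨φ, hφ, hr⟩
        have key2 : F ≤ mixSystem F E
            (fun P => Nat.card P < k ∨ (Nat.card P = k ∧ ¬ F.IsConj R P)) h2 := by
          apply hg₂
          intro R' hR'
          apply Subgroup.closure_mono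
          intro α' hα'
          have hR'S : R' ≤ S := (F.le_of_mem hα').1
          refine ⟨hα', ?_⟩
          rcases lt_trichotomy (Nat.card R') k with hlt' | heq' | hgt'
          · exact Or.inl (Or.inl hlt')
          · by_cases hc : F.IsConj R R'
            · exact absurd (h₂ R' hR' R (isConj_symm F hc)) hR2
            · exact Or.inl (Or.inr ⟨heq', hc⟩)
          · exact Or.inr (IH R' hgt' hα')
        have := key2 R hα
        rcases this.2 with hfr | hmem
        · rcases hfr with hlt | ⟨-, hnc⟩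
          · omega
          · exact absurd (isConj_refl F hRS) hnc
        · exact hmem
    · exact Or.inr (IH R hgt hα)
  intro P hP φ hφ
  rcases (key P hφ).2 with hlt | hmem
  · exact absurd hlt (not_lt.mpr hP)
  · exact hmem

/-- Let F be a saturated fusion system over a finite p-group S. Call a family of subgroups of S generating when every fusion system over S whose automorphism group of each member R contains Aut_F(R) contains every map of F. If two families are each closed under F-conjugacy and each generating, then their intersection is generating. -/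
theorem result {Ω : Type*} [Group Ω] {S : Subgroup Ω} [Finite S] (p : ℕ) [Fact p.Prime] (hS : IsPGroup p S) (F : Cfsg.FusionSystem S) (hF : F.IsSaturated p) (𝒬₁ 𝒬₂ : Set (Subgroup Ω)) (h₁ : ∀ R ∈ 𝒬₁, ∀ R' : Subgroup Ω, F.IsConj R R' → R' ∈ 𝒬₁) (h₂ : ∀ R ∈ 𝒬₂, ∀ R' : Subgroup Ω, F.IsConj R R' → R' ∈ 𝒬₂) (hg₁ : ∀ E : Cfsg.FusionSystem S, (∀ R ∈ 𝒬₁, F.autGroup R ≤ E.autGroup R) → F ≤ E) (hg₂ : ∀ E : Cfsg.FusionSystem S, (∀ R ∈ 𝒬₂, F.autGroup R ≤ E.autGroup R) → F ≤ E) (E : Cfsg.FusionSystem S) (hE : ∀ R ∈ 𝒬₁ ∩ 𝒬₂, F.autGroup R ≤ E.autGroup R) : F ≤ E := by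
  have main : ∀ d : ℕ, ∀ P : Subgroup Ω, Nat.card S + 1 - d ≤ Nat.card P → F.Hom P ⊆ E.Hom P := by
    intro d
    induction d with
    | zero =>
      intro P hP φ hφ
      have hPS : P ≤ S := (F.le_of_mem hφ).1
      have := Subgroup.card_le_of_le hPS
      omega
    | succ d ih =>
      apply step F 𝒬₁ 𝒬₂ h₂ hg₁ hg₂ E hE
      intro P hP
      apply ih
      omega
  intro P
  apply main (Nat.card S + 1) P
  omega

end Cfsg.Agent.S5327
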