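-- Statement S5328: every fusion system over a finite p-group is realized inside a finite group.
import Mathlib
import Cfsg.Statements.S5328
import Cfsg.Agent.Lib_helper25_Fusion

set_option autoImplicit false
universe u
open Cfsg Cfsg.Agent.helper25

namespace Cfsg.Agent.S5328

section Marks

variable {K : Type*} [Group K] {Y : Type*} {Y' : Type*}

/-- points of `A` fixed by `H` under `α` -/
def fx (α : K →* Equiv.Perm Y) (H : Subgroup K) (A : Set Y) : Set Y :=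
  {y | y ∈ A ∧ ∀ h ∈ H, α h y = y}

def stb (α : K →* Equiv.Perm Y) (y : Y) : Subgroup K where
  carrier := {k | α k y = y}
  mul_mem' := by
    intro a b ha hb
    simp only [Set.mem_ofPred_eq, map_mul, Equiv.Perm.mul_apply] at *
    rw [hb, ha]
  one_mem' := by simp
  inv_mem' := by
    intro a ha
    simp only [Set.mem_ofPred_eq, map_inv] at *
    rw [Equiv.Perm.inv_eq_iff_eq]
    exact ha.symm

theorem mem_stb (α : K →* Equiv.Perm Y) (y : Y) (k : K) : k ∈ stb α y ↔ α k y = y := Iff.rfl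

theorem marks_aux [Finite K] [Finite Y] [Finite Y'] [Nonempty Y']
    (α : K →* Equiv.Perm Y) (β : K →* Equiv.Perm Y') :
    ∀ (n : ℕ) (A : Set Y) (A' : Set Y'), A.ncard = n →
      (∀ k, ∀ y ∈ A, α k y ∈ A) → (∀ k, ∀ y ∈ A', β k y ∈ A') →
      (∀ H : Subgroup K, (fx α H A).ncard = (fx β H A').ncard) →
      ∃ f : Y → Y', Set.BijOn f A A' ∧ ∀ k, ∀ y ∈ A, f (α k y) = β k (f y) := by
  intro n
  induction n using Nat.strong_induction_on with
  | _ n ih =>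
  intro A A' hn hA hA' hm
  classical
  by_cases hAe : A = ∅
  · subst hAe
    have h1 : fx β ⊥ A' = A' := by
      ext y
      simp [fx]
    have h2 : fx α ⊥ (∅ : Set Y) = ∅ := by
      ext y
      simp [fx]
    have h3 := hm ⊥
    rw [h1, h2, Set.ncard_empty] at h3
    have h4 : A' = ∅ := by
      rwa [eq_comm, Set.ncard_eq_zero] at h3
    subst h4
    refine ⟨fun _ => Classical.arbitrary Y', ?_, ?_⟩
    · simp [Set.BijOn, Set.MapsTo, Set.InjOn, Set.SurjOn]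
    · intro k y hy
      exact absurd hy (Set.notMem_empty y)
  · obtain ⟨ya, hya⟩ := Set.nonempty_iff_ne_empty.mpr hAe
    have hbot : (fx α ⊥ A).Nonempty := by
      refine ⟨ya, hya, ?_⟩
      intro h hh
      rw [Subgroup.mem_bot.mp hh]
      simp
    obtain ⟨H₀, hH₀, hmax⟩ := Set.exists_max_image {H : Subgroup K | (fx α H A).Nonempty}
      (fun H => Nat.card H) (Set.toFinite _) ⟨⊥, hbot⟩
    obtain ⟨y₀, hy₀A, hy₀⟩ := hH₀
    have hs₀ : stb α y₀ = H₀ := by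
      symm
      apply Subgroup.eq_of_le_of_card_ge
      · intro h hh
        exact hy₀ h hh
      · exact hmax (stb α y₀) ⟨y₀, hy₀A, fun h hh => hh⟩
    have htr : ∀ H : Subgroup K, (fx β H A').Nonempty → (fx α H A).Nonempty := by
      intro H hne
      have h0 : (fx β H A').ncard ≠ 0 := by
        intro h0
        rw [Set.ncard_eq_zero] at h0
        rw [h0] at hne
        exact Set.not_nonempty_empty hne
      rw [← hm H] at h0
      exact Set.nonempty_of_ncard_ne_zero h0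
    have htr' : ∀ H : Subgroup K, (fx α H A).Nonempty → (fx β H A').Nonempty := by
      intro H hne
      have h0 : (fx α H A).ncard ≠ 0 := by
        intro h0
        rw [Set.ncard_eq_zero] at h0
        rw [h0] at hne
        exact Set.not_nonempty_empty hne
      rw [hm H] at h0
      exact Set.nonempty_of_ncard_ne_zero h0
    obtain ⟨y₀', hy₀'A, hy₀'⟩ := htr' H₀ ⟨y₀, hy₀A, hy₀⟩
    have hs₀' : stb β y₀' = H₀ := by
      symm
      apply Subgroup.eq_of_le_of_card_ge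
      · intro h hh
        exact hy₀' h hh
      · exact hmax (stb β y₀') (htr _ ⟨y₀', hy₀'A, fun h hh => hh⟩)
    have hkey : ∀ k l : K, α k y₀ = α l y₀ ↔ β k y₀' = β l y₀' := by
      intro k l
      have e1 : α k y₀ = α l y₀ ↔ l⁻¹ * k ∈ stb α y₀ := by
        rw [mem_stb, map_mul, map_inv, Equiv.Perm.mul_apply, Equiv.Perm.inv_eq_iff_eq]
      have e2 : β k y₀' = β l y₀' ↔ l⁻¹ * k ∈ stb β y₀' := by
        rw [mem_stb, map_mul, map_inv, Equiv.Perm.mul_apply, Equiv.Perm.inv_eq_iff_eq]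
      rw [e1, e2, hs₀, hs₀']
    obtain ⟨f₀, hf₀⟩ : ∃ f₀ : Y → Y', ∀ k, f₀ (α k y₀) = β k y₀' := by
      refine ⟨fun y => if h : ∃ k, α k y₀ = y then β h.choose y₀' else y₀', ?_⟩
      intro k
      have h : ∃ l, α l y₀ = α k y₀ := ⟨k, rfl⟩
      simp only [dif_pos h]
      exact (hkey _ _).mp h.choose_spec
    set O : Set Y := {y | ∃ k, α k y₀ = y} with hO
    set O' : Set Y' := {y | ∃ k, β k y₀' = y} with hO'
    have hOA : O ⊆ A := by
      rintro _ ⟨k, rfl⟩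
      exact hA k y₀ hy₀A
    have hOA' : O' ⊆ A' := by
      rintro _ ⟨k, rfl⟩
      exact hA' k y₀' hy₀'A
    have hOinv : ∀ k y, y ∈ O → α k y ∈ O := by
      rintro k _ ⟨l, rfl⟩
      exact ⟨k * l, by rw [map_mul]; rfl⟩
    have hOinv' : ∀ k y, α k y ∈ O → y ∈ O := by
      intro k y h
      have h2 := hOinv k⁻¹ _ h
      rwa [map_inv, Equiv.Perm.inv_eq_iff_eq.mpr rfl] at h2
    have hOinv2 : ∀ k y, y ∈ O' → β k y ∈ O' := by
      rintro k _ ⟨l, rfl⟩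
      exact ⟨k * l, by rw [map_mul]; rfl⟩
    have hOinv2' : ∀ k y, β k y ∈ O' → y ∈ O' := by
      intro k y h
      have h2 := hOinv2 k⁻¹ _ h
      rwa [map_inv, Equiv.Perm.inv_eq_iff_eq.mpr rfl] at h2
    have hf₀eq : ∀ k, ∀ y ∈ O, f₀ (α k y) = β k (f₀ y) := by
      rintro k _ ⟨l, rfl⟩
      rw [← Equiv.Perm.mul_apply, ← map_mul, hf₀, hf₀, map_mul]
      rfl
    have hf₀inj : Set.InjOn f₀ O := by
      rintro _ ⟨k, rfl⟩ _ ⟨l, rfl⟩ h
      rw [hf₀, hf₀] at h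
      exact (hkey k l).mpr h
    have hf₀maps : ∀ y ∈ O, f₀ y ∈ O' := by
      rintro _ ⟨k, rfl⟩
      exact ⟨k, (hf₀ k).symm⟩
    have hf₀surj : ∀ y' ∈ O', ∃ y ∈ O, f₀ y = y' := by
      rintro _ ⟨k, rfl⟩
      exact ⟨α k y₀, ⟨k, rfl⟩, hf₀ k⟩
    have hy₀O : y₀ ∈ O := ⟨1, by simp⟩
    have hlt : (A \ O).ncard < n := by
      rw [← hn]
      exact Set.ncard_lt_ncard ⟨Set.sdiff_subset, fun h => (h hy₀A).2 hy₀O⟩
    have hmO : ∀ H : Subgroup K, (fx α H O).ncard = (fx β H O').ncard := by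
      intro H
      have hb : Set.BijOn f₀ (fx α H O) (fx β H O') := by
        refine ⟨?_, ?_, ?_⟩
        · rintro y ⟨hyO, hyf⟩
          refine ⟨hf₀maps y hyO, fun h hh => ?_⟩
          rw [← hf₀eq h y hyO, hyf h hh]
        · exact hf₀inj.mono (fun y hy => hy.1)
        · rintro y' ⟨hy'O, hy'f⟩
          obtain ⟨y, hyO, rfl⟩ := hf₀surj y' hy'O
          refine ⟨y, ⟨hyO, fun h hh => ?_⟩, rfl⟩
          apply hf₀inj (hOinv h y hyO) hyO
          rw [hf₀eq h y hyO, hy'f h hh]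
      exact hb.ncard_eq
    have hm₁ : ∀ H : Subgroup K, (fx α H (A \ O)).ncard = (fx β H (A' \ O')).ncard := by
      intro H
      have e1 : fx α H (A \ O) = fx α H A \ fx α H O := by
        ext y
        simp only [fx, Set.mem_sdiff, Set.mem_ofPred_eq]
        tauto
      have e2 : fx β H (A' \ O') = fx β H A' \ fx β H O' := by
        ext y
        simp only [fx, Set.mem_sdiff, Set.mem_ofPred_eq]
        tauto
      have s1 : fx α H O ⊆ fx α H A := fun y hy => ⟨hOA hy.1, hy.2⟩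
      have s2 : fx β H O' ⊆ fx β H A' := fun y hy => ⟨hOA' hy.1, hy.2⟩
      rw [e1, e2, Set.ncard_sdiff s1, Set.ncard_sdiff s2, hm H, hmO H]
    have hA₁ : ∀ k, ∀ y ∈ A \ O, α k y ∈ A \ O := by
      intro k y hy
      exact ⟨hA k y hy.1, fun h => hy.2 (hOinv' k y h)⟩
    have hA₁' : ∀ k, ∀ y ∈ A' \ O', β k y ∈ A' \ O' := by
      intro k y hy
      exact ⟨hA' k y hy.1, fun h => hy.2 (hOinv2' k y h)⟩
    obtain ⟨f₁, hf₁b, hf₁e⟩ := ih _ hlt (A \ O) (A' \ O') rfl hA₁ hA₁' hm₁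
    refine ⟨fun y => if y ∈ O then f₀ y else f₁ y, ⟨?_, ?_, ?_⟩, ?_⟩
    · intro y hy
      by_cases hyO : y ∈ O
      · simp only [if_pos hyO]
        exact hOA' (hf₀maps y hyO)
      · simp only [if_neg hyO]
        exact (hf₁b.mapsTo ⟨hy, hyO⟩).1
    · intro y hy z hz hyz
      by_cases hyO : y ∈ O
      · by_cases hzO : z ∈ O
        · simp only [if_pos hyO, if_pos hzO] at hyz
          exact hf₀inj hyO hzO hyz
        · simp only [if_pos hyO, if_neg hzO] at hyz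
          exfalso
          have h1 := (hf₁b.mapsTo ⟨hz, hzO⟩).2
          rw [← hyz] at h1
          exact h1 (hf₀maps y hyO)
      · by_cases hzO : z ∈ O
        · simp only [if_neg hyO, if_pos hzO] at hyz
          exfalso
          have h1 := (hf₁b.mapsTo ⟨hy, hyO⟩).2
          rw [hyz] at h1
          exact h1 (hf₀maps z hzO)
        · simp only [if_neg hyO, if_neg hzO] at hyz
          exact hf₁b.injOn ⟨hy, hyO⟩ ⟨hz, hzO⟩ hyz
    · intro y' hy'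
      by_cases hyO' : y' ∈ O'
      · obtain ⟨y, hyO, rfl⟩ := hf₀surj y' hyO'
        exact ⟨y, hOA hyO, by simp only [if_pos hyO]⟩
      · obtain ⟨y, hy, rfl⟩ := hf₁b.surjOn ⟨hy', hyO'⟩
        exact ⟨y, hy.1, by simp only [if_neg hy.2]⟩
    · intro k y hy
      by_cases hyO : y ∈ O
      · simp only [if_pos hyO, if_pos (hOinv k y hyO)]
        exact hf₀eq k y hyO
      · have h2 : α k y ∉ O := fun h => hyO (hOinv' k y h)
        simp only [if_neg hyO, if_neg h2]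
        exact hf₁e k y ⟨hy, hyO⟩

/-- Burnside's marks theorem: two finite `K`-sets with the same fixed point counts are isomorphic. -/
theorem marks [Finite K] [Finite Y] [Finite Y'] [Nonempty Y']
    (α : K →* Equiv.Perm Y) (β : K →* Equiv.Perm Y')
    (hm : ∀ H : Subgroup K, {y | ∀ h ∈ H, α h y = y}.ncard = {y | ∀ h ∈ H, β h y = y}.ncard) :
    ∃ f : Y → Y', Function.Bijective f ∧ ∀ k y, f (α k y) = β k (f y) := by
  obtain ⟨f, hb, he⟩ := marks_aux α β _ Set.univ Set.univ rfl (fun _ _ _ => Set.mem_univ _)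
    (fun _ _ _ => Set.mem_univ _) (by
      intro H
      have e1 : fx α H Set.univ = {y | ∀ h ∈ H, α h y = y} := by
        ext y
        simp [fx]
      have e2 : fx β H Set.univ = {y | ∀ h ∈ H, β h y = y} := by
        ext y
        simp [fx]
      rw [e1, e2]
      exact hm H)
  exact ⟨f, Set.bijOn_univ.mp hb, fun k y => he k y (Set.mem_univ _)⟩

end Marks

section Weights

variable {Γ : Type*} [Group Γ] [hfin : Finite Γ] [Fintype (Subgroup Γ)]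

omit [Fintype (Subgroup Γ)] in
theorem card_lt_of_lt {H D : Subgroup Γ} (h : H < D) : Nat.card H < Nat.card D := by
  by_contra hc
  push Not at hc
  exact (ne_of_lt h) (Subgroup.eq_of_le_of_card_ge h.le hc)

open Classical in
noncomputable def vf (𝒟 : Set (Subgroup Γ)) (H : Subgroup Γ) : ℕ :=
  have _ := hfin
  if H ∈ 𝒟 then
    (1 + ∑ D : {D : Subgroup Γ // Nat.card H < Nat.card D}, vf 𝒟 D.1)
      - ∑ D : {D : Subgroup Γ // H < D}, vf 𝒟 D.1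
  else 0
termination_by Nat.card Γ - Nat.card H
decreasing_by
  · have h1 := D.2
    have h2 : Nat.card D.1 ≤ Nat.card Γ := Subgroup.card_le_card_group D.1
    omega
  · have h1 := card_lt_of_lt D.2
    have h2 : Nat.card D.1 ≤ Nat.card Γ := Subgroup.card_le_card_group D.1
    omega

open Classical in
theorem vf_eq (𝒟 : Set (Subgroup Γ)) (H : Subgroup Γ) : vf 𝒟 H =
    if H ∈ 𝒟 then
      (1 + ∑ D ∈ Finset.univ.filter (fun D : Subgroup Γ => Nat.card H < Nat.card D), vf 𝒟 D)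
        - ∑ D ∈ Finset.univ.filter (fun D : Subgroup Γ => H < D), vf 𝒟 D
    else 0 := by
  rw [vf]
  rw [Finset.sum_subtype (Finset.univ.filter (fun D : Subgroup Γ => Nat.card H < Nat.card D))
      (p := fun D : Subgroup Γ => Nat.card H < Nat.card D) (by simp) (vf 𝒟),
    Finset.sum_subtype (Finset.univ.filter (fun D : Subgroup Γ => H < D))
      (p := fun D : Subgroup Γ => H < D) (by simp) (vf 𝒟)]

open Classical in
noncomputable def Nf (𝒟 : Set (Subgroup Γ)) (m : ℕ) : ℕ :=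
  1 + ∑ D ∈ Finset.univ.filter (fun D : Subgroup Γ => m < Nat.card D), vf 𝒟 D

open Classical in
noncomputable def Wf (𝒟 : Set (Subgroup Γ)) (M : Subgroup Γ) : ℕ :=
  ∑ D ∈ Finset.univ.filter (fun D : Subgroup Γ => M ≤ D), vf 𝒟 D

theorem vf_eq_zero {𝒟 : Set (Subgroup Γ)} {H : Subgroup Γ} (h : H ∉ 𝒟) : vf 𝒟 H = 0 := by
  rw [vf_eq, if_neg h]

open Classical in
theorem small_le_big (𝒟 : Set (Subgroup Γ)) (H : Subgroup Γ) :
    ∑ D ∈ Finset.univ.filter (fun D : Subgroup Γ => H < D), vf 𝒟 D ≤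
      ∑ D ∈ Finset.univ.filter (fun D : Subgroup Γ => Nat.card H < Nat.card D), vf 𝒟 D := by
  apply Finset.sum_le_sum_of_subset
  intro D hD
  simp only [Finset.mem_filter, Finset.mem_univ, true_and] at hD ⊢
  exact card_lt_of_lt hD

theorem vf_pos {𝒟 : Set (Subgroup Γ)} {H : Subgroup Γ} (h : H ∈ 𝒟) : 0 < vf 𝒟 H := by
  classical
  rw [vf_eq, if_pos h]
  have := small_le_big 𝒟 H
  omega

theorem Wf_of_mem {𝒟 : Set (Subgroup Γ)} {M : Subgroup Γ} (h : M ∈ 𝒟) :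
    Wf 𝒟 M = Nf 𝒟 (Nat.card M) := by
  classical
  have e : Finset.univ.filter (fun D : Subgroup Γ => M ≤ D) =
      insert M (Finset.univ.filter (fun D : Subgroup Γ => M < D)) := by
    ext D
    simp only [Finset.mem_filter, Finset.mem_univ, true_and, Finset.mem_insert]
    rw [le_iff_eq_or_lt, eq_comm]
  have hn : M ∉ Finset.univ.filter (fun D : Subgroup Γ => M < D) := by
    simp
  rw [Wf, Nf, e, Finset.sum_insert hn, vf_eq 𝒟 M, if_pos h]
  have := small_le_big 𝒟 M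
  omega

theorem Wf_of_not_mem {𝒟 : Set (Subgroup Γ)} (h𝒟 : ∀ D ∈ 𝒟, ∀ M : Subgroup Γ, M ≤ D → M ∈ 𝒟)
    {M : Subgroup Γ} (h : M ∉ 𝒟) : Wf 𝒟 M = 0 := by
  classical
  rw [Wf]
  apply Finset.sum_eq_zero
  intro D hD
  simp only [Finset.mem_filter, Finset.mem_univ, true_and] at hD
  exact vf_eq_zero (fun hD' => h (h𝒟 D hD' M hD))

end Weights

section Count

variable {Γ : Type u} [Group Γ] [Fintype Γ] [Fintype (Subgroup Γ)]

/-- index type -/
abbrev Idx (𝒟 : Set (Subgroup Γ)) : Type u := Σ D : Subgroup Γ, Fin (vf 𝒟 D * Nat.card D)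

abbrev XX (𝒟 : Set (Subgroup Γ)) : Type u := Σ i : Idx 𝒟, Γ ⧸ i.1

def fixEquiv (𝒟 : Set (Subgroup Γ)) (L : Subgroup Γ) :
    {x : XX 𝒟 // ∀ g ∈ L, g • x = x} ≃
      Σ i : Idx 𝒟, {q : Γ ⧸ i.1 // ∀ g ∈ L, g • q = q} where
  toFun := fun ⟨⟨i, q⟩, hx⟩ => ⟨i, ⟨q, fun g hg => by simpa using hx g hg⟩⟩
  invFun := fun ⟨i, ⟨q, hq⟩⟩ => ⟨⟨i, q⟩, fun g hg => by rw [Sigma.smul_mk, hq g hg]⟩
  left_inv := fun ⟨⟨i, q⟩, hx⟩ => rfl
  right_inv := fun ⟨i, ⟨q, hq⟩⟩ => rfl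

/-- number of fixed points of `L` on `XX 𝒟` -/
noncomputable def mk (𝒟 : Set (Subgroup Γ)) (L : Subgroup Γ) : ℕ :=
  Nat.card {x : XX 𝒟 // ∀ g ∈ L, g • x = x}

theorem mk_eq1 (𝒟 : Set (Subgroup Γ)) (L : Subgroup Γ) :
    mk 𝒟 L = ∑ i : Idx 𝒟, Nat.card {q : Γ ⧸ i.1 // ∀ g ∈ L, g • q = q} := by
  rw [mk, Nat.card_congr (fixEquiv 𝒟 L), Nat.card_sigma]

omit [Fintype Γ] [Fintype (Subgroup Γ)] in
theorem card_fix_quot (D L : Subgroup Γ) :
    Nat.card D * Nat.card {q : Γ ⧸ D // ∀ g ∈ L, g • q = q} =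
      Nat.card {x : Γ // ∀ g ∈ L, x⁻¹ * g * x ∈ D} := by
  have e := QuotientGroup.preimageMkEquivSubgroupProdSet D {q : Γ ⧸ D | ∀ g ∈ L, g • q = q}
  have h1 := Nat.card_congr e
  rw [Nat.card_prod] at h1
  have h2 : ∀ x : Γ, (x ∈ (QuotientGroup.mk ⁻¹' {q : Γ ⧸ D | ∀ g ∈ L, g • q = q} : Set Γ)) ↔
      ∀ g ∈ L, x⁻¹ * g * x ∈ D := by
    intro x
    rw [Set.mem_preimage]
    show (∀ g ∈ L, g • (QuotientGroup.mk x : Γ ⧸ D) = QuotientGroup.mk x) ↔ _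
    refine forall₂_congr fun g hg => ?_
    rw [MulAction.Quotient.smul_mk, smul_eq_mul, eq_comm, QuotientGroup.eq, mul_assoc]
  have h3 := Nat.card_congr (Equiv.subtypeEquivRight h2)
  rw [← h3, h1]
  rfl

theorem mk_eq2 (𝒟 : Set (Subgroup Γ)) (L : Subgroup Γ) :
    mk 𝒟 L = ∑ D : Subgroup Γ, vf 𝒟 D * Nat.card {x : Γ // ∀ g ∈ L, x⁻¹ * g * x ∈ D} := by
  rw [mk_eq1, Fintype.sum_sigma]
  refine Finset.sum_congr rfl fun D _ => ?_
  show ∑ _y : Fin (vf 𝒟 D * Nat.card D), Nat.card {q : Γ ⧸ D // ∀ g ∈ L, g • q = q} = _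
  rw [Finset.sum_const, Finset.card_univ, Fintype.card_fin, smul_eq_mul, mul_assoc, card_fix_quot]

/-- conjugate subgroup -/
def cj (x : Γ) (L : Subgroup Γ) : Subgroup Γ := L.map (MulAut.conj x⁻¹).toMonoidHom

omit [Fintype Γ] [Fintype (Subgroup Γ)] in
theorem cj_le_iff (x : Γ) (L D : Subgroup Γ) : cj x L ≤ D ↔ ∀ g ∈ L, x⁻¹ * g * x ∈ D := by
  rw [cj, Subgroup.map_le_iff_le_comap]
  refine forall₂_congr fun g hg => ?_
  rw [Subgroup.mem_comap]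
  simp

omit [Fintype Γ] [Fintype (Subgroup Γ)] in
theorem cj_cj_inv (x : Γ) (L : Subgroup Γ) : cj x⁻¹ (cj x L) = L := by
  rw [cj, cj, Subgroup.map_map]
  have : (MulAut.conj x⁻¹⁻¹).toMonoidHom.comp (MulAut.conj x⁻¹).toMonoidHom = MonoidHom.id Γ := by
    ext g
    simp [mul_assoc]
  rw [this, Subgroup.map_id]

omit [Fintype Γ] [Fintype (Subgroup Γ)] in
theorem card_cj (x : Γ) (L : Subgroup Γ) : Nat.card (cj x L) = Nat.card L := by
  rw [cj]
  exact Subgroup.card_map_of_injective (MulAut.conj x⁻¹).injective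

theorem mk_eq3 (𝒟 : Set (Subgroup Γ)) (L : Subgroup Γ) :
    mk 𝒟 L = ∑ x : Γ, Wf 𝒟 (cj x L) := by
  classical
  rw [mk_eq2]
  have h1 : ∀ D : Subgroup Γ, Nat.card {x : Γ // ∀ g ∈ L, x⁻¹ * g * x ∈ D} =
      ∑ x : Γ, if cj x L ≤ D then 1 else 0 := by
    intro D
    rw [Nat.card_eq_fintype_card, Fintype.card_subtype, Finset.card_filter]
    refine Finset.sum_congr rfl fun x _ => ?_
    simp only [cj_le_iff]
  simp_rw [h1, Finset.mul_sum]
  rw [Finset.sum_comm]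
  refine Finset.sum_congr rfl fun x _ => ?_
  rw [Wf, Finset.sum_filter]
  refine Finset.sum_congr rfl fun D _ => ?_
  split_ifs <;> simp

open Classical in
theorem mk_eq4 {𝒟 : Set (Subgroup Γ)} (h𝒟 : ∀ D ∈ 𝒟, ∀ M : Subgroup Γ, M ≤ D → M ∈ 𝒟)
    (hcj : ∀ D ∈ 𝒟, ∀ x : Γ, cj x D ∈ 𝒟) (L : Subgroup Γ) :
    mk 𝒟 L = ∑ _x : Γ, (if L ∈ 𝒟 then Nf 𝒟 (Nat.card L) else 0) := by
  classical
  rw [mk_eq3]
  refine Finset.sum_congr rfl fun x _ => ?_
  by_cases hL : L ∈ 𝒟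
  · rw [if_pos hL, Wf_of_mem (hcj L hL x), card_cj]
  · rw [if_neg hL]
    apply Wf_of_not_mem h𝒟
    intro h
    apply hL
    have := hcj _ h x⁻¹
    rwa [cj_cj_inv] at this

theorem mk_congr {𝒟 : Set (Subgroup Γ)} (h𝒟 : ∀ D ∈ 𝒟, ∀ M : Subgroup Γ, M ≤ D → M ∈ 𝒟)
    (hcj : ∀ D ∈ 𝒟, ∀ x : Γ, cj x D ∈ 𝒟) {L L' : Subgroup Γ} (h : L ∈ 𝒟 ↔ L' ∈ 𝒟)
    (hc : Nat.card L = Nat.card L') : mk 𝒟 L = mk 𝒟 L' := by
  classical
  rw [mk_eq4 h𝒟 hcj, mk_eq4 h𝒟 hcj, hc]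
  refine Finset.sum_congr rfl fun x _ => ?_
  by_cases hL : L ∈ 𝒟
  · rw [if_pos hL, if_pos (h.mp hL)]
  · rw [if_neg hL, if_neg (fun h' => hL (h.mpr h'))]

end Count

section Graphs

variable {Ω : Type u} [Group Ω] {S : Subgroup Ω}

/-- the family of graphs of maps of the system -/
def gr (F : FusionSystem S) : Set (Subgroup (↥S × ↥S)) :=
  {D | ∃ (Q : Subgroup Ω) (ψ : Q →* Ω), ψ ∈ F.Hom Q ∧
    ∀ a b : ↥S, (a, b) ∈ D ↔ ∃ h : (a : Ω) ∈ Q, ψ ⟨a, h⟩ = (b : Ω)}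

theorem hom_val_congr {Q : Subgroup Ω} (ψ : Q →* Ω) {x y : Q} (h : (x : Ω) = (y : Ω)) :
    ψ x = ψ y := by
  rw [Subtype.ext h]

theorem gr_le (F : FusionSystem S) {D M : Subgroup (↥S × ↥S)} (hD : D ∈ gr F) (hM : M ≤ D) :
    M ∈ gr F := by
  obtain ⟨Q, ψ, hψ, hD⟩ := hD
  have hQ' : (M.map (MonoidHom.fst ↥S ↥S)).map S.subtype ≤ Q := by
    rintro _ ⟨a, ⟨⟨a', b⟩, hab, rfl⟩, rfl⟩
    obtain ⟨h, -⟩ := (hD a' b).mp (hM hab)
    exact h
  refine ⟨(M.map (MonoidHom.fst ↥S ↥S)).map S.subtype, ψ.comp (Subgroup.inclusion hQ'),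
    restrict_mem F hQ' hψ, ?_⟩
  intro a b
  constructor
  · intro hab
    obtain ⟨h, he⟩ := (hD a b).mp (hM hab)
    exact ⟨⟨a, ⟨(a, b), hab, rfl⟩, rfl⟩, he⟩
  · rintro ⟨h, he⟩
    obtain ⟨a', ⟨⟨a'', b'⟩, hab', rfl⟩, ha'⟩ := h
    have e1 : a'' = a := Subtype.ext ha'
    subst e1
    obtain ⟨h2, he2⟩ := (hD a'' b').mp (hM hab')
    have e2 : b' = b := Subtype.ext (he2.symm.trans he)
    subst e2
    exact hab'

omit [Group Ω] in
theorem mem_cj {Γ : Type*} [Group Γ] (x y : Γ) (L : Subgroup Γ) : y ∈ cj x L ↔ x * y * x⁻¹ ∈ L := by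
  rw [cj, Subgroup.mem_map_equiv]
  simp

theorem gr_cj (F : FusionSystem S) {D : Subgroup (↥S × ↥S)} (hD : D ∈ gr F) (x : ↥S × ↥S) :
    cj x D ∈ gr F := by
  obtain ⟨Q, ψ, hψ, hD⟩ := hD
  obtain ⟨s, t⟩ := x
  have hQS : Q ≤ S := (F.le_of_mem hψ).1
  have hQ'S : Q.comap (MulAut.conj (s : Ω)).toMonoidHom ≤ S := by
    intro a ha
    have h1 : (s : Ω) * a * (s : Ω)⁻¹ ∈ S := hQS ha
    have h2 := S.mul_mem (S.mul_mem (S.inv_mem s.2) h1) s.2
    simpa [mul_assoc] using h2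
  have hc₁ : conjHom (Q.comap (MulAut.conj (s : Ω)).toMonoidHom) (s : Ω) ∈ F.Hom _ :=
    F.conj_mem hQ'S s.2
  have hv₁ : ∀ a : Q.comap (MulAut.conj (s : Ω)).toMonoidHom,
      conjHom (Q.comap (MulAut.conj (s : Ω)).toMonoidHom) (s : Ω) a ∈ Q := fun a => a.2
  have hθ := F.comp_mem hc₁ hψ hv₁
  have hv₂ := (F.le_of_mem hθ).2
  have hc₂ : conjHom S ((t : Ω)⁻¹) ∈ F.Hom S := F.conj_mem le_rfl (S.inv_mem t.2)
  have hψ' := F.comp_mem hθ hc₂ hv₂
  refine ⟨_, _, hψ', ?_⟩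
  intro a b
  rw [mem_cj]
  have e : ((s, t) : ↥S × ↥S) * (a, b) * ((s, t) : ↥S × ↥S)⁻¹ = (s * a * s⁻¹, t * b * t⁻¹) := rfl
  rw [e, hD]
  constructor
  · rintro ⟨h, he⟩
    refine ⟨h, ?_⟩
    show (t : Ω)⁻¹ * ψ ⟨(s : Ω) * a * (s : Ω)⁻¹, _⟩ * ((t : Ω)⁻¹)⁻¹ = b
    have he' : ψ ⟨(s : Ω) * a * (s : Ω)⁻¹, h⟩ = (t : Ω) * b * (t : Ω)⁻¹ := he
    rw [he']
    group
  · rintro ⟨h, he⟩
    refine ⟨h, ?_⟩
    have he' : (t : Ω)⁻¹ * ψ ⟨(s : Ω) * a * (s : Ω)⁻¹, h⟩ * ((t : Ω)⁻¹)⁻¹ = b := he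
    show ψ ⟨(s : Ω) * a * (s : Ω)⁻¹, h⟩ = (t : Ω) * b * (t : Ω)⁻¹
    rw [← he']
    group

/-- the diagonal subgroup -/
def diag (S : Subgroup Ω) : Subgroup (↥S × ↥S) where
  carrier := {x | x.1 = x.2}
  mul_mem' := by
    intro a b ha hb
    simp only [Set.mem_ofPred_eq, Prod.fst_mul, Prod.snd_mul] at *
    rw [ha, hb]
  one_mem' := rfl
  inv_mem' := by
    intro a ha
    simp only [Set.mem_ofPred_eq, Prod.fst_inv, Prod.snd_inv] at *
    rw [ha]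

theorem mem_diag (S : Subgroup Ω) (x : ↥S × ↥S) : x ∈ diag S ↔ x.1 = x.2 := Iff.rfl

theorem diag_mem_gr (F : FusionSystem S) : diag S ∈ gr F := by
  refine ⟨S, S.subtype, subtype_mem F le_rfl, ?_⟩
  intro a b
  rw [mem_diag]
  constructor
  · intro h
    exact ⟨a.2, by rw [show a = b from h]; rfl⟩
  · rintro ⟨h, he⟩
    exact Subtype.ext he

/-- the inclusion `P × S → S × S` -/
def jj {P : Subgroup Ω} (hP : P ≤ S) : ↥P × ↥S →* ↥S × ↥S :=
  MonoidHom.prodMap (Subgroup.inclusion hP) (MonoidHom.id ↥S)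

/-- the twisted inclusion `P × S → S × S`, `(u, t) ↦ (φ u, t)` -/
def tw {P : Subgroup Ω} (φ : P →* Ω) (hφ : ∀ x : P, φ x ∈ S) : ↥P × ↥S →* ↥S × ↥S :=
  MonoidHom.prodMap (φ.codRestrict S hφ) (MonoidHom.id ↥S)

theorem jj_apply {P : Subgroup Ω} (hP : P ≤ S) (u : P) (t : S) :
    jj hP (u, t) = (⟨u, hP u.2⟩, t) := rfl

theorem tw_apply {P : Subgroup Ω} (φ : P →* Ω) (hφ : ∀ x : P, φ x ∈ S) (u : P) (t : S) :
    tw φ hφ (u, t) = (⟨φ u, hφ u⟩, t) := rfl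

theorem jj_injective {P : Subgroup Ω} (hP : P ≤ S) : Function.Injective (jj hP) := by
  rintro ⟨u, t⟩ ⟨u', t'⟩ h
  rw [jj_apply, jj_apply, Prod.mk.injEq] at h
  obtain ⟨h1, h2⟩ := h
  have h3 : (u : Ω) = u' := Subtype.mk.inj h1
  rw [Subtype.ext h3, h2]

theorem tw_injective {P : Subgroup Ω} (φ : P →* Ω) (hφ : ∀ x : P, φ x ∈ S)
    (hinj : Function.Injective φ) : Function.Injective (tw φ hφ) := by
  rintro ⟨u, t⟩ ⟨u', t'⟩ h
  rw [tw_apply, tw_apply, Prod.mk.injEq] at h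
  obtain ⟨h1, h2⟩ := h
  have h3 : φ u = φ u' := Subtype.mk.inj h1
  rw [hinj h3, h2]

theorem gr_transport (F : FusionSystem S) {P : Subgroup Ω} {φ : P →* Ω} (hφF : φ ∈ F.Hom P)
    (H : Subgroup (↥P × ↥S)) (hH : H.map (jj (F.le_of_mem hφF).1) ∈ gr F) :
    H.map (tw φ (F.le_of_mem hφF).2) ∈ gr F := by
  obtain ⟨Q, ψ, hψ, hD⟩ := hH
  have hP := (F.le_of_mem hφF).1
  have hφ := (F.le_of_mem hφF).2
  -- the first projection of `H`
  have hQ₁P : (H.map (MonoidHom.fst ↥P ↥S)).map P.subtype ≤ P := by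
    rintro _ ⟨a, -, rfl⟩
    exact a.2
  have hmem : ∀ u : P, ∀ t : S, (u, t) ∈ H → ∃ h : (u : Ω) ∈ Q, ψ ⟨u, h⟩ = (t : Ω) := by
    intro u t hut
    have h1 : ((⟨u, hP u.2⟩ : S), t) ∈ H.map (jj hP) := ⟨(u, t), hut, rfl⟩
    exact (hD _ _).mp h1
  have hQ₁Q : (H.map (MonoidHom.fst ↥P ↥S)).map P.subtype ≤ Q := by
    rintro _ ⟨a, ⟨⟨u, t⟩, hut, rfl⟩, rfl⟩
    obtain ⟨h, -⟩ := hmem u t hut
    exact h
  have hφ₁ := restrict_mem F hQ₁P hφF
  have hψ₁ := restrict_mem F hQ₁Q hψ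
  obtain ⟨χ, hχ, hχe⟩ := F.inv_mem hφ₁
  have hχv : ∀ y : (φ.comp (Subgroup.inclusion hQ₁P)).range,
      χ y ∈ (H.map (MonoidHom.fst ↥P ↥S)).map P.subtype := by
    rintro ⟨y, x, rfl⟩
    rw [hχe x]
    exact x.2
  have hψ₂ := F.comp_mem hχ hψ₁ hχv
  refine ⟨_, _, hψ₂, ?_⟩
  intro a b
  constructor
  · rintro ⟨⟨u, t⟩, hut, he⟩
    rw [tw_apply, Prod.mk.injEq] at he
    obtain ⟨rfl, rfl⟩ := he
    have hu : (u : Ω) ∈ (H.map (MonoidHom.fst ↥P ↥S)).map P.subtype :=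
      ⟨u, ⟨(u, t), hut, rfl⟩, rfl⟩
    refine ⟨⟨⟨u, hu⟩, rfl⟩, ?_⟩
    obtain ⟨h, he⟩ := hmem u t hut
    rw [← he]
    show ψ (Subgroup.inclusion hQ₁Q ⟨χ ⟨φ u, _⟩, _⟩) = ψ ⟨u, h⟩
    apply hom_val_congr
    exact hχe ⟨u, hu⟩
  · rintro ⟨⟨x, hx⟩, he⟩
    obtain ⟨x, hxQ₁⟩ := x
    obtain ⟨u', ⟨⟨u, t⟩, hut, rfl⟩, rfl⟩ := hxQ₁
    obtain ⟨h, het⟩ := hmem u t hut
    refine ⟨(u, t), hut, ?_⟩
    rw [tw_apply, Prod.mk.injEq]
    constructor
    · exact Subtype.ext hx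
    · apply Subtype.ext
      rw [← het, ← he]
      show ψ ⟨u, h⟩ = ψ (Subgroup.inclusion hQ₁Q ⟨χ ⟨a, _⟩, _⟩)
      apply hom_val_congr
      have h3 := hχe ⟨P.subtype ((MonoidHom.fst ↥P ↥S) (u, t)), ⟨_, ⟨(u, t), hut, rfl⟩, rfl⟩⟩
      show (u : Ω) = χ ⟨a, _⟩
      refine h3.symm.trans ?_
      apply hom_val_congr
      exact hx

theorem gr_transport' (F : FusionSystem S) {P : Subgroup Ω} {φ : P →* Ω} (hφF : φ ∈ F.Hom P)
    (H : Subgroup (↥P × ↥S)) (hH : H.map (tw φ (F.le_of_mem hφF).2) ∈ gr F) :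
    H.map (jj (F.le_of_mem hφF).1) ∈ gr F := by
  have hP := (F.le_of_mem hφF).1
  have hφ := (F.le_of_mem hφF).2
  obtain ⟨φ', hφ'F, hφ'e⟩ := F.inv_mem hφF
  have h1 := gr_transport F hφ'F
    (H.map (MonoidHom.prodMap φ.rangeRestrict (MonoidHom.id ↥S)))
  rw [Subgroup.map_map, Subgroup.map_map] at h1
  have e1 : (jj (F.le_of_mem hφ'F).1).comp (MonoidHom.prodMap φ.rangeRestrict (MonoidHom.id ↥S))
      = tw φ hφ := by
    apply MonoidHom.ext
    rintro ⟨u, t⟩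
    rfl
  have e2 : (tw φ' (F.le_of_mem hφ'F).2).comp
      (MonoidHom.prodMap φ.rangeRestrict (MonoidHom.id ↥S)) = jj hP := by
    apply MonoidHom.ext
    rintro ⟨u, t⟩
    show ((⟨φ' ⟨φ u, _⟩, _⟩ : S), t) = ((⟨u, _⟩ : S), t)
    rw [Prod.mk.injEq]
    exact ⟨Subtype.ext (hφ'e u), rfl⟩
  rw [e1, e2] at h1
  exact h1 hH

theorem gr_transport_iff (F : FusionSystem S) {P : Subgroup Ω} {φ : P →* Ω} (hφF : φ ∈ F.Hom P)
    (H : Subgroup (↥P × ↥S)) :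
    H.map (jj (F.le_of_mem hφF).1) ∈ gr F ↔ H.map (tw φ (F.le_of_mem hφF).2) ∈ gr F :=
  ⟨gr_transport F hφF H, gr_transport' F hφF H⟩

theorem card_transport [Finite S] (F : FusionSystem S) {P : Subgroup Ω} {φ : P →* Ω} (hφF : φ ∈ F.Hom P)
    (H : Subgroup (↥P × ↥S)) :
    Nat.card (H.map (jj (F.le_of_mem hφF).1)) = Nat.card (H.map (tw φ (F.le_of_mem hφF).2)) := by
  rw [Subgroup.card_map_of_injective (jj_injective _),
    Subgroup.card_map_of_injective (tw_injective φ _ (F.injective_of_mem hφF))]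

end Graphs

section Assembly

variable {Ω : Type u} [Group Ω] {S : Subgroup Ω}

theorem inv_hom_mem (F : FusionSystem S) {P Q : Subgroup Ω} (φ : P →* Ω) {ψ : Q →* Ω}
    (hψ : ψ ∈ F.Hom Q) (h : ∀ u : P, ∃ h : φ u ∈ Q, ψ ⟨φ u, h⟩ = (u : Ω)) : φ ∈ F.Hom P := by
  have hr : φ.range ≤ Q := by
    rintro _ ⟨u, rfl⟩
    obtain ⟨h1, -⟩ := h u
    exact h1
  have hψ' := restrict_mem F hr hψ
  obtain ⟨χ, hχ, hχe⟩ := F.inv_mem hψ'
  have hval : ∀ u : P, (ψ.comp (Subgroup.inclusion hr)) ⟨φ u, ⟨u, rfl⟩⟩ = (u : Ω) := by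
    intro u
    obtain ⟨h1, h2⟩ := h u
    exact h2
  have e : (ψ.comp (Subgroup.inclusion hr)).range = P := by
    apply le_antisymm
    · rintro _ ⟨⟨_, u, rfl⟩, rfl⟩
      rw [hval u]
      exact u.2
    · intro u hu
      exact ⟨⟨φ ⟨u, hu⟩, ⟨⟨u, hu⟩, rfl⟩⟩, hval ⟨u, hu⟩⟩
  have h3 := hom_congr F e hχ
  have h4 : χ.comp (Subgroup.inclusion e.ge) = φ := by
    apply MonoidHom.ext
    intro u
    have h5 := hχe ⟨φ u, ⟨u, rfl⟩⟩
    refine Eq.trans ?_ h5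
    show χ (Subgroup.inclusion e.ge u) = _
    apply hom_val_congr
    exact (hval u).symm
  rwa [h4] at h3

variable [Fintype (↥S × ↥S)] [Fintype (Subgroup (↥S × ↥S))] (F : FusionSystem S)

noncomputable def rho : (↥S × ↥S) →* Equiv.Perm (XX (gr F)) := MulAction.toPermHom _ _

theorem rho_apply (g : ↥S × ↥S) (x : XX (gr F)) : rho F g x = g • x := rfl

noncomputable def GG : Subgroup (Equiv.Perm (XX (gr F))) :=
  Subgroup.centralizer (Set.range fun t : ↥S => rho F (1, t))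

noncomputable def iota : ↥S →* GG F :=
  MonoidHom.codRestrict ((rho F).comp (MonoidHom.inl ↥S ↥S)) (GG F) (by
    intro s
    rw [GG, Subgroup.mem_centralizer_iff]
    rintro _ ⟨t, rfl⟩
    show rho F (1, t) * rho F (s, 1) = rho F (s, 1) * rho F (1, t)
    rw [← map_mul, ← map_mul]
    congr 1
    simp)

theorem iota_coe (s : S) : ((iota F s : GG F) : Equiv.Perm (XX (gr F))) = rho F (s, 1) := rfl

/-- the base point -/
noncomputable def x0 : XX (gr F) :=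
  ⟨⟨diag S, ⟨0, Nat.mul_pos (vf_pos (diag_mem_gr F)) Nat.card_pos⟩⟩, QuotientGroup.mk 1⟩

theorem smul_x0 (g : ↥S × ↥S) : g • x0 F = x0 F ↔ g ∈ diag S := by
  rw [x0, Sigma.smul_mk, Sigma.mk.injEq]
  simp only [heq_eq_eq, true_and]
  rw [MulAction.Quotient.smul_mk, smul_eq_mul, eq_comm, QuotientGroup.eq]
  simp

theorem stab_graph (x : XX (gr F)) : ∃ (Q : Subgroup Ω) (ψ : Q →* Ω), ψ ∈ F.Hom Q ∧
    ∀ a b : ↥S, ((a, b) : ↥S × ↥S) • x = x ↔ ∃ h : (a : Ω) ∈ Q, ψ ⟨a, h⟩ = (b : Ω) := by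
  obtain ⟨⟨D, i⟩, q⟩ := x
  obtain ⟨c, rfl⟩ := QuotientGroup.mk_surjective q
  have hD : D ∈ gr F := by
    by_contra hD
    have hpos := Fin.pos i
    rw [vf_eq_zero hD, zero_mul] at hpos
    exact lt_irrefl _ hpos
  obtain ⟨Q, ψ, hψ, hQ⟩ := gr_cj F hD c⁻¹
  refine ⟨Q, ψ, hψ, fun a b => ?_⟩
  rw [← hQ, mem_cj, Sigma.smul_mk, Sigma.mk.injEq]
  simp only [heq_eq_eq, true_and]
  rw [MulAction.Quotient.smul_mk, smul_eq_mul, eq_comm, QuotientGroup.eq, inv_inv, mul_assoc]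

theorem iota_injective : Function.Injective (iota F) := by
  rw [injective_iff_map_eq_one]
  intro s hs
  have h1 : rho F (s, 1) = 1 := by
    rw [← iota_coe, hs]
    rfl
  have h2 : ((s, 1) : ↥S × ↥S) • x0 F = x0 F := by
    rw [← rho_apply, h1]
    rfl
  rw [smul_x0, mem_diag] at h2
  exact h2

theorem forward (P : Subgroup Ω) (hP : P ≤ S) (φ : P →* Ω) (hφ : ∀ x : P, φ x ∈ S)
    (g : GG F) (hg : ∀ x : P, iota F ⟨φ x, hφ x⟩ = g * iota F ⟨x, hP x.2⟩ * g⁻¹) :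
    φ ∈ F.Hom P := by
  obtain ⟨γ, hγ⟩ := g
  rw [GG, Subgroup.mem_centralizer_iff] at hγ
  have hc : ∀ (t : S) (x : XX (gr F)), ((1, t) : ↥S × ↥S) • γ x = γ (((1, t) : ↥S × ↥S) • x) := by
    intro t x
    have h1 := hγ _ ⟨t, rfl⟩
    have h2 := congrArg (fun σ : Equiv.Perm (XX (gr F)) => σ x) h1
    exact h2
  have hu : ∀ (u : P) (x : XX (gr F)),
      (((⟨φ u, hφ u⟩ : S), (1 : S)) : ↥S × ↥S) • γ x = γ ((((⟨u, hP u.2⟩ : S), (1 : S)) : ↥S × ↥S) • x) := by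
    intro u x
    have h1 := congrArg Subtype.val (hg u)
    have h2 : rho F ((⟨φ u, hφ u⟩ : S), 1) = γ * rho F ((⟨u, hP u.2⟩ : S), 1) * γ⁻¹ := h1
    rw [eq_mul_inv_iff_mul_eq] at h2
    have h3 := congrArg (fun σ : Equiv.Perm (XX (gr F)) => σ x) h2
    exact h3
  obtain ⟨Q, ψ, hψ, hQ⟩ := stab_graph F (γ (x0 F))
  apply inv_hom_mem F φ hψ
  intro u
  have h1 : (((⟨φ u, hφ u⟩ : S), (⟨u, hP u.2⟩ : S)) : ↥S × ↥S) • γ (x0 F) = γ (x0 F) := by
    have e1 : (((⟨φ u, hφ u⟩ : S), (⟨u, hP u.2⟩ : S)) : ↥S × ↥S) =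
        ((⟨φ u, hφ u⟩ : S), (1 : S)) * ((1 : S), (⟨u, hP u.2⟩ : S)) := by
      simp
    have e2 : (((⟨u, hP u.2⟩ : S), (1 : S)) : ↥S × ↥S) * ((1 : S), (⟨u, hP u.2⟩ : S)) ∈ diag S := by
      rw [mem_diag]
      simp
    rw [e1, mul_smul, hc, hu, ← mul_smul, (smul_x0 F _).mpr e2]
  exact (hQ _ _).mp h1

theorem backward [Finite S] (P : Subgroup Ω) (hP : P ≤ S) (φ : P →* Ω) (hφ : ∀ x : P, φ x ∈ S)
    (hφF : φ ∈ F.Hom P) :
    ∃ g : GG F, ∀ x : P, iota F ⟨φ x, hφ x⟩ = g * iota F ⟨x, hP x.2⟩ * g⁻¹ := by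
  have : Finite P := Finite.of_injective (Subgroup.inclusion hP) (Subgroup.inclusion_injective hP)
  have : Nonempty (XX (gr F)) := ⟨x0 F⟩
  have h𝒟 : ∀ D ∈ gr F, ∀ M : Subgroup (↥S × ↥S), M ≤ D → M ∈ gr F :=
    fun D hD M hM => gr_le F hD hM
  have hcj : ∀ D ∈ gr F, ∀ x : ↥S × ↥S, cj x D ∈ gr F := fun D hD x => gr_cj F hD x
  have hm : ∀ H : Subgroup (↥P × ↥S),
      {x | ∀ h ∈ H, ((rho F).comp (jj hP)) h x = x}.ncard =
        {x | ∀ h ∈ H, ((rho F).comp (tw φ hφ)) h x = x}.ncard := by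
    intro H
    have e1 : {x | ∀ h ∈ H, ((rho F).comp (jj hP)) h x = x} =
        {x : XX (gr F) | ∀ g ∈ H.map (jj hP), g • x = x} := by
      ext x
      constructor
      · rintro h _ ⟨k, hk, rfl⟩
        exact h k hk
      · intro h k hk
        exact h _ ⟨k, hk, rfl⟩
    have e2 : {x | ∀ h ∈ H, ((rho F).comp (tw φ hφ)) h x = x} =
        {x : XX (gr F) | ∀ g ∈ H.map (tw φ hφ), g • x = x} := by
      ext x
      constructor
      · rintro h _ ⟨k, hk, rfl⟩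
        exact h k hk
      · intro h k hk
        exact h _ ⟨k, hk, rfl⟩
    rw [e1, e2, ← Nat.card_coe_set_eq, ← Nat.card_coe_set_eq]
    exact mk_congr h𝒟 hcj (gr_transport_iff F hφF H) (card_transport F hφF H)
  obtain ⟨f, hbij, hf⟩ := marks ((rho F).comp (jj hP)) ((rho F).comp (tw φ hφ)) hm
  have hγ : Equiv.ofBijective f hbij ∈ GG F := by
    rw [GG, Subgroup.mem_centralizer_iff]
    rintro _ ⟨t, rfl⟩
    apply Equiv.ext
    intro x
    have h1 := hf (1, t) x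
    have e : tw φ hφ (1, t) = (1, t) := by
      rw [tw_apply, Prod.mk.injEq]
      exact ⟨Subtype.ext (map_one φ), rfl⟩
    have h2 : f (rho F (1, t) x) = rho F (tw φ hφ (1, t)) (f x) := h1
    rw [e] at h2
    exact h2.symm
  refine ⟨⟨Equiv.ofBijective f hbij, hγ⟩, ?_⟩
  intro u
  apply Subtype.ext
  show rho F ((⟨φ u, hφ u⟩ : S), 1) =
    Equiv.ofBijective f hbij * rho F ((⟨u, hP u.2⟩ : S), 1) * (Equiv.ofBijective f hbij)⁻¹
  rw [eq_mul_inv_iff_mul_eq]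
  apply Equiv.ext
  intro x
  exact (hf (u, 1) x).symm

end Assembly

/-- Every fusion system over a finite p-group S, saturated or not, is realized inside some finite group: there is a finite group G and an injective homomorphism ι of S into G such that the maps of the system are exactly the homomorphisms between subgroups of S that become conjugations by elements of G (the image of S need not be a Sylow p-subgroup of G). -/
theorem result {Ω : Type u} [Group Ω] {S : Subgroup Ω} [Finite S] (p : ℕ) [Fact p.Prime] (hS : IsPGroup p S) (F : Cfsg.FusionSystem S) : ∃ (G : Type u) (_ : Group G) (_ : Finite G) (ι : ↥S →* G), F.IsRealizedBy ι := by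
  classical
  let _i1 : Fintype (↥S × ↥S) := Fintype.ofFinite _
  let _i2 : Fintype (Subgroup (↥S × ↥S)) := Fintype.ofFinite _
  refine ⟨GG F, inferInstance, inferInstance, iota F, iota_injective F, ?_⟩
  intro P hP φ hφ
  constructor
  · intro hφF
    exact backward F P hP φ hφ hφF
  · rintro ⟨g, hg⟩
    exact forward F P hP φ hφ g hg

end Cfsg.Agent.S5328
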