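import Cfsg.Statements.S5331
import Cfsg.Agent.Lib_helper26_DistInv
import Cfsg.Agent.Lib_helper26_FusionAb

set_option autoImplicit false
open Cfsg

namespace Cfsg.Agent.S5331

/-- Let S be a finite abelian 2-group that is a direct product of cyclic groups of pairwise distinct orders 2^{a_1} < 2^{a_2} < ⋯ < 2^{a_n} (all a_i ≥ 1). Then every saturated fusion system over S is the inner one: its maps are exactly the conjugations by elements of S. -/
theorem result {Ω : Type*} [Group Ω] {S : Subgroup Ω} [Finite S] (n : ℕ) (a : Fin n → ℕ) (ha : StrictMono a) (ha1 : ∀ i, 1 ≤ a i) (e : ↥S ≃* Multiplicative ((i : Fin n) → ZMod (2 ^ a i))) (F : Cfsg.FusionSystem S) (hF : F.IsSaturated 2) (P : Subgroup Ω) : F.Hom P = (Cfsg.innerFusionSystem S).Hom P := by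
  have hcomm := Cfsg.Agent.helper26.DI.comm_of_equiv e
  have hab : ∀ x ∈ S, ∀ y ∈ S, x * y = y * x := by
    intro x hx y hy
    exact congrArg Subtype.val (hcomm ⟨x, hx⟩ ⟨y, hy⟩)
  have h2 : ¬ 2 ∣ Nat.card (F.autGroup S) :=
    Cfsg.Agent.helper26.autGroup_top_coprime_of_comm F 2 hF hab
  have haut : ∀ α : MulAut S, α ∈ F.autGroup S → α = 1 := by
    intro α hα
    have hdvd : orderOf (⟨α, hα⟩ : F.autGroup S) ∣ Nat.card (F.autGroup S) := orderOf_dvd_natCard _
    have hodd : Odd (orderOf (⟨α, hα⟩ : F.autGroup S)) := by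
      rw [← Nat.not_even_iff_odd, even_iff_two_dvd]
      exact fun h => h2 (h.trans hdvd)
    have hpow : α ^ orderOf (⟨α, hα⟩ : F.autGroup S) = 1 := by
      have := pow_orderOf_eq_one (⟨α, hα⟩ : F.autGroup S)
      exact congrArg Subtype.val this
    exact Cfsg.Agent.helper26.DI.aut_trivial e ha ha1 α hodd hpow
  ext φ
  constructor
  · intro hφ
    have hPS : P ≤ S := (F.le_of_mem hφ).1
    obtain ⟨χ, hχ, hχx⟩ := Cfsg.Agent.helper26.exists_extension_of_comm F 2 hF hab P φ hφ
    obtain ⟨α, hα, hαx⟩ := Cfsg.Agent.helper26.exists_mulAut_of_mem_top F χ hχ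
    have hα1 := haut α hα
    refine ⟨hPS, 1, S.one_mem, fun x => ?_⟩
    rw [← hχx x (hPS x.2), ← hαx, hα1]
    simp
  · rintro ⟨hP, g, hg, hx⟩
    have : φ = Cfsg.conjHom P g := by
      ext x
      exact hx x
    rw [this]
    exact F.conj_mem hP hg

end Cfsg.Agent.S5331
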