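import Cfsg.Statements.S5333
import Mathlib
import Cfsg.Agent.Lib_helper26_Alperin2
import Cfsg.Agent.Lib_helper25_SatEquiv2
import Cfsg.Agent.Lib_helper25_NormSys

set_option autoImplicit false
open Cfsg

namespace Cfsg.Agent.S5333

open Cfsg.FusionSystem Cfsg.Agent.helper26

theorem aut_mem_of_central {Ω : Type*} [Group Ω] {S : Subgroup Ω} [Finite S] (p : ℕ) [Fact p.Prime]
    (hS : IsPGroup p S) (F F' : Cfsg.FusionSystem S) (hF' : F'.IsSaturated p) (hle : F' ≤ F)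
    {R Z : Subgroup Ω} (hRS : R ≤ S) (hZR : Z ≤ R) (hZc : ∀ z ∈ Z, ∀ r ∈ R, z * r = r * z)
    (hZfc : F'.IsFullyCentralized Z) (hHom : F.Hom Z = F'.Hom Z)
    (hC : ∀ P, F.centralizerHom Z P = F'.centralizerHom Z P)
    (α : R ≃* R) (hα : IsFIso F α) : IsFIso F' α := by
  have hZS : Z ≤ S := hZR.trans hRS
  have hZr : F'.IsReceptive Z := Cfsg.Agent.helper25.receptive_of_fullyCentralized hS F' hF' hZfc
  have haZ := restrict_mem F hZR _ hα
  rw [hHom] at haZ
  obtain ⟨eZ, heZ, heZ'⟩ := exists_isFIso_of_mem F' haZ rfl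
  have hγ₀ := heZ.symm
  obtain ⟨γ, hγ, hγ'⟩ := hZr.2 _ _ hγ₀ heZ.symm.range_eq
  have hRC : R ≤ centralizerIn S ((R.subtype.comp α.toMonoidHom).comp (Subgroup.inclusion hZR)).range := by
    intro r hr
    refine ⟨hRS hr, ?_⟩
    show r ∈ Subgroup.centralizer _
    rw [Subgroup.mem_centralizer_iff]
    rintro _ ⟨z, rfl⟩
    show ((α ⟨z, hZR z.2⟩ : R) : Ω) * r = r * ((α ⟨z, hZR z.2⟩ : R) : Ω)
    have h1 : (⟨z, hZR z.2⟩ : R) * α.symm ⟨r, hr⟩ = α.symm ⟨r, hr⟩ * ⟨z, hZR z.2⟩ :=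
      Subtype.ext (hZc z z.2 _ (α.symm ⟨r, hr⟩).2)
    have h2 := congrArg α h1
    rw [map_mul, map_mul, MulEquiv.apply_symm_apply] at h2
    exact congrArg Subtype.val h2
  have hRext : R ≤ extender S _ (Z.subtype.comp eZ.symm.toMonoidHom) :=
    hRC.trans (centralizerIn_le_extender S _ _)
  have hγR := restrict_mem F' hRext γ hγ
  have hδ := F.comp_mem hα (hle R hγR) (fun x => (α x).2)
  have hδx : ∀ x : R, ((γ.comp (Subgroup.inclusion hRext)).comp
      ((R.subtype.comp α.toMonoidHom).codRestrict R (fun x => (α x).2))) x =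
      γ ⟨((α x : R) : Ω), hRext (α x).2⟩ := fun x => rfl
  have hδZ : ∀ z : Z, ((γ.comp (Subgroup.inclusion hRext)).comp
      ((R.subtype.comp α.toMonoidHom).codRestrict R (fun x => (α x).2))) ⟨z, hZR z.2⟩ = z := by
    intro z
    rw [hδx]
    have hmem : ((α ⟨z, hZR z.2⟩ : R) : Ω) ∈
        ((R.subtype.comp α.toMonoidHom).comp (Subgroup.inclusion hZR)).range := ⟨z, rfl⟩
    rw [hγ' _ hmem _]
    show ((eZ.symm ⟨_, hmem⟩ : Z) : Ω) = z
    have : (⟨((α ⟨z, hZR z.2⟩ : R) : Ω), hmem⟩ :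
        ((R.subtype.comp α.toMonoidHom).comp (Subgroup.inclusion hZR)).range) = eZ z :=
      Subtype.ext (heZ' z).symm
    rw [this, MulEquiv.symm_apply_apply]
  have hδC : ((γ.comp (Subgroup.inclusion hRext)).comp
      ((R.subtype.comp α.toMonoidHom).codRestrict R (fun x => (α x).2))) ∈ F.centralizerHom Z R := by
    refine ⟨hδ, ?_, ?_, ?_⟩
    · intro r hr
      refine ⟨hRS hr, ?_⟩
      show r ∈ Subgroup.centralizer _
      rw [Subgroup.mem_centralizer_iff]
      intro z hz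
      exact hZc z hz r hr
    · intro x
      refine ⟨(F.le_of_mem hδ).2 x, ?_⟩
      show _ ∈ Subgroup.centralizer _
      rw [Subgroup.mem_centralizer_iff]
      intro z hz
      have h1 : (⟨z, hZR hz⟩ : R) * x = x * ⟨z, hZR hz⟩ := Subtype.ext (hZc z hz x x.2)
      have h2 := congrArg ((γ.comp (Subgroup.inclusion hRext)).comp
        ((R.subtype.comp α.toMonoidHom).codRestrict R (fun x => (α x).2))) h1
      rw [map_mul, map_mul, hδZ ⟨z, hz⟩] at h2
      exact h2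
    · have hsup : R ⊔ Z = R := sup_eq_left.mpr hZR
      obtain ⟨ψ, hψ, hψ'⟩ := hom_of_eq F hsup.symm _ hδ
      refine ⟨ψ, hψ, fun x => ?_, fun z => ?_⟩
      · have hxm : (x : Ω) ∈ R ⊔ Z := Subgroup.mem_sup_left x.2
        have hincl : Subgroup.inclusion (le_sup_left : R ≤ R ⊔ Z) x = ⟨(x : Ω), hxm⟩ := rfl
        rw [hincl, hψ' x x.2 hxm]
      · have hzm : (z : Ω) ∈ R ⊔ Z := Subgroup.mem_sup_right z.2
        have hincl : Subgroup.inclusion (le_sup_right : Z ≤ R ⊔ Z) z = ⟨(z : Ω), hzm⟩ := rfl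
        rw [hincl, hψ' z (hZR z.2) hzm]
        exact hδZ z
  rw [hC R] at hδC
  have hδF' := hδC.1
  obtain ⟨γi, hγi, hγi'⟩ := F'.inv_mem hγR
  have hval : ∀ x : R, ((γ.comp (Subgroup.inclusion hRext)).comp
      ((R.subtype.comp α.toMonoidHom).codRestrict R (fun x => (α x).2))) x ∈
      (γ.comp (Subgroup.inclusion hRext)).range := fun x => ⟨α x, rfl⟩
  have hc := F'.comp_mem hδF' hγi hval
  unfold IsFIso
  convert hc using 1
  ext x
  show ((α x : R) : Ω) = γi ⟨(γ.comp (Subgroup.inclusion hRext)) (α x), ⟨α x, rfl⟩⟩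
  rw [hγi']

/-- Let F′ ≤ F be saturated fusion systems over the same finite p-group S. Suppose that for every subgroup Z ≤ S of order p that is fully centralized in F′, the maps of F and of F′ with source Z coincide and the centralizer systems C_F(Z) and C_{F′}(Z) coincide. Then F = F′. -/
theorem result {Ω : Type*} [Group Ω] {S : Subgroup Ω} [Finite S] (p : ℕ) [Fact p.Prime] (hS : IsPGroup p S) (F : Cfsg.FusionSystem S) (hF : F.IsSaturated p) (F' : Cfsg.FusionSystem S) (hF' : F'.IsSaturated p) (hle : F' ≤ F) (hZ : ∀ Z : Subgroup Ω, Z ≤ S → Nat.card Z = p → F'.IsFullyCentralized Z → F.Hom Z = F'.Hom Z ∧ ∀ (C C' : Cfsg.FusionSystem (Cfsg.FusionSystem.centralizerIn S Z)), F.IsCentralizerSystem Z C → F'.IsCentralizerSystem Z C' → ∀ P : Subgroup Ω, C.Hom P = C'.Hom P) (P : Subgroup Ω) : F.Hom P = F'.Hom P := by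
  apply Set.Subset.antisymm _ (hle P)
  refine Cfsg.Agent.helper26.alperin p hS F hF F' ?_ P
  intro R hRn hRc hRr
  have hRS := hRn.1
  haveI : Finite R := finite_of_le hRS
  intro α hα
  by_cases hRbot : R = ⊥
  · have h1 : α = 1 := by
      apply MulEquiv.ext
      intro x
      apply Subtype.ext
      have h1 := Subgroup.mem_bot.mp (hRbot.le (α x).2)
      have h2 := Subgroup.mem_bot.mp (hRbot.le x.2)
      show ((α x : R) : Ω) = x
      rw [h1, h2]
    rw [h1]; exact Subgroup.one_mem _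
  haveI : Nontrivial R := (Subgroup.nontrivial_iff_ne_bot R).mpr hRbot
  have hRp : IsPGroup p R := hS.to_le hRS
  haveI := hRp.center_nontrivial
  obtain ⟨z, hz⟩ : ∃ z : Subgroup.center R, orderOf z = p := by
    have hcp : IsPGroup p (Subgroup.center R) := hRp.to_subgroup _
    rcases hcp.card_eq_or_dvd with h1 | h1
    · exact absurd h1 (ne_of_gt Finite.one_lt_card)
    · exact exists_prime_orderOf_dvd_card' p h1
  have hz₀R : ((z : R) : Ω) ∈ R := (z : R).2
  have hZ₀R : Subgroup.zpowers ((z : R) : Ω) ≤ R := by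
    rw [Subgroup.zpowers_le]; exact hz₀R
  have hZ₀S : Subgroup.zpowers ((z : R) : Ω) ≤ S := hZ₀R.trans hRS
  have hord : orderOf ((z : R) : Ω) = p := by
    rw [← hz]
    have e1 := orderOf_injective (Subgroup.center R).subtype Subtype.coe_injective z
    have e2 := orderOf_injective R.subtype Subtype.coe_injective (z : R)
    exact e2.trans e1
  have hcardZ₀ : Nat.card (Subgroup.zpowers ((z : R) : Ω)) = p := by
    rw [Nat.card_zpowers, hord]
  have hZ₀c : ∀ w ∈ Subgroup.zpowers ((z : R) : Ω), ∀ r ∈ R, w * r = r * w := by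
    intro w hw r hr
    obtain ⟨k, rfl⟩ := Subgroup.mem_zpowers_iff.mp hw
    have hcomm : Commute ((z : R) : Ω) r := by
      have := Subgroup.mem_center_iff.mp z.2 ⟨r, hr⟩
      exact (congrArg Subtype.val this).symm
    exact (hcomm.zpow_left k)
  -- an F'-fully centralized conjugate of Z₀
  obtain ⟨Z, hZ₀Z, hZfc⟩ := Cfsg.Agent.helper25.exists_fullyCentralized_conj F' hZ₀S
  have hZS : Z ≤ S := hZfc.1
  have hZr : F'.IsReceptive Z := Cfsg.Agent.helper25.receptive_of_fullyCentralized hS F' hF' hZfc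
  obtain ⟨ρ, hρ, hρr⟩ := hZ₀Z
  obtain ⟨ρ', hρ', hρ''⟩ := hZr.2 _ ρ hρ hρr
  have hRC : R ≤ centralizerIn S (Subgroup.zpowers ((z : R) : Ω)) := by
    intro r hr
    refine ⟨hRS hr, ?_⟩
    show r ∈ Subgroup.centralizer _
    rw [Subgroup.mem_centralizer_iff]
    intro w hw
    exact hZ₀c w hw r hr
  have hRext : R ≤ extender S _ ρ := hRC.trans (centralizerIn_le_extender S _ _)
  have hρR := restrict_mem F' hRext ρ' hρ'
  obtain ⟨e₁, he₁, he₁'⟩ := exists_isFIso_of_mem F' hρR rfl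
  have he₁F : IsFIso F e₁ := hle _ he₁
  have hcardZ : Nat.card Z = p := by
    rw [← hcardZ₀]
    exact (card_eq_of_isConj F' ⟨ρ, hρ, hρr⟩).symm
  obtain ⟨hHom, hCC⟩ := hZ Z hZS hcardZ hZfc
  have hC : ∀ P, F.centralizerHom Z P = F'.centralizerHom Z P := fun P =>
    hCC (Cfsg.Agent.helper25.centralizerSystem F Z hZS) (Cfsg.Agent.helper25.centralizerSystem F' Z hZS)
      (Cfsg.Agent.helper25.isCentralizerSystem_centralizerSystem F Z hZS)
      (Cfsg.Agent.helper25.isCentralizerSystem_centralizerSystem F' Z hZS) P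
  -- Z inside the image R₁ and central there
  have hρZ : ∀ w : Subgroup.zpowers ((z : R) : Ω), ρ w = ((e₁ ⟨w, hZ₀R w.2⟩ : _) : Ω) := by
    intro w
    rw [he₁']
    show ρ w = ρ' ⟨w, hRext (hZ₀R w.2)⟩
    rw [hρ'' w w.2 _]
  have hZR₁ : Z ≤ (ρ'.comp (Subgroup.inclusion hRext)).range := by
    intro y hy
    rw [← hρr] at hy
    obtain ⟨w, rfl⟩ := hy
    rw [hρZ w]
    exact (e₁ ⟨w, hZ₀R w.2⟩).2
  have hZc₁ : ∀ y ∈ Z, ∀ r ∈ (ρ'.comp (Subgroup.inclusion hRext)).range, y * r = r * y := by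
    intro y hy r hr
    rw [← hρr] at hy
    obtain ⟨w, rfl⟩ := hy
    rw [hρZ w]
    have h1 : (⟨w, hZ₀R w.2⟩ : R) * e₁.symm ⟨r, hr⟩ = e₁.symm ⟨r, hr⟩ * ⟨w, hZ₀R w.2⟩ :=
      Subtype.ext (hZ₀c w w.2 _ (e₁.symm ⟨r, hr⟩).2)
    have h2 := congrArg e₁ h1
    rw [map_mul, map_mul, MulEquiv.apply_symm_apply] at h2
    exact congrArg Subtype.val h2
  have hR₁S : (ρ'.comp (Subgroup.inclusion hRext)).range ≤ S := by
    rintro _ ⟨x, rfl⟩; exact (F'.le_of_mem hρR).2 x
  have hαF : IsFIso F (P := R) (Q := R) α := (mem_autGroup_iff_isFIso F hRS α).mp hα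
  have hα₁F : IsFIso F (e₁.symm.trans (α.trans e₁)) := he₁F.symm.trans (hαF.trans he₁F)
  have hα₁F' : IsFIso F' (e₁.symm.trans (α.trans e₁)) :=
    aut_mem_of_central p hS F F' hF' hle hR₁S hZR₁ hZc₁ hZfc hHom hC _ hα₁F
  have hback : IsFIso F' (e₁.trans ((e₁.symm.trans (α.trans e₁)).trans e₁.symm)) :=
    he₁.trans (hα₁F'.trans he₁.symm)
  have hcomp : e₁.trans ((e₁.symm.trans (α.trans e₁)).trans e₁.symm) = α := by
    apply MulEquiv.ext; intro x; simp
  rw [hcomp] at hback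
  exact (mem_autGroup_iff_isFIso F' hRS α).mpr hback

end Cfsg.Agent.S5333
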