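import Cfsg.Statements.S5335
import Mathlib
import Cfsg.Agent.Lib_helper26_Centric

set_option autoImplicit false
open Cfsg

namespace Cfsg.Agent.S5335

/-- Let F′ ≤ F be saturated fusion systems over the same finite p-group S. If the maps of F and of F′ with source Q coincide for every F-centric subgroup Q that is minimal among F-centric subgroups, then F = F′. -/
theorem result {Ω : Type*} [Group Ω] {S : Subgroup Ω} [Finite S] (p : ℕ) [Fact p.Prime] (hS : IsPGroup p S) (F : Cfsg.FusionSystem S) (hF : F.IsSaturated p) (F' : Cfsg.FusionSystem S) (hF' : F'.IsSaturated p) (hle : F' ≤ F) (hmin : ∀ Q : Subgroup Ω, F.IsCentric Q → (∀ R : Subgroup Ω, R < Q → ¬ F.IsCentric R) → F.Hom Q = F'.Hom Q) (P : Subgroup Ω) : F.Hom P = F'.Hom P := by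
  apply Set.Subset.antisymm _ (hle P)
  refine Cfsg.Agent.helper26.alperin p hS F hF F' ?_ P
  intro R hRn hRc hRr
  have hRS := hRc.1
  haveI : Finite R := Cfsg.Agent.helper26.finite_of_le hRS
  obtain ⟨Q, hQR, hQc, hQmin⟩ : ∃ Q ≤ R, F.IsCentric Q ∧ ∀ R' < Q, ¬ F.IsCentric R' := by
    have hne : {n : ℕ | ∃ Q ≤ R, F.IsCentric Q ∧ Nat.card Q = n}.Nonempty := ⟨_, R, le_rfl, hRc, rfl⟩
    obtain ⟨Q, hQR, hQc, hcard⟩ := Nat.sInf_mem hne
    refine ⟨Q, hQR, hQc, fun R' hlt hR'c => ?_⟩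
    have hmem : Nat.card R' ∈ {n : ℕ | ∃ Q ≤ R, F.IsCentric Q ∧ Nat.card Q = n} :=
      ⟨R', hlt.le.trans hQR, hR'c, rfl⟩
    have h1 := Nat.sInf_le hmem
    haveI : Finite Q := Cfsg.Agent.helper26.finite_of_le (hQR.trans hRS)
    obtain ⟨g, hgQ, hgR'⟩ := SetLike.exists_of_lt hlt
    have h2 := Cfsg.Agent.helper26.card_lt_of_le_of_not_mem hlt.le hgQ hgR'
    omega
  intro α hα
  have hα' := (Cfsg.Agent.helper26.mem_autGroup_iff F hRS α).mp hα
  rw [Cfsg.Agent.helper26.mem_autGroup_iff F' hRS]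
  have hres := Cfsg.Agent.helper26.restrict_mem F hQR _ hα'
  have hres' : (R.subtype.comp α.toMonoidHom).comp (Subgroup.inclusion hQR) ∈ F'.Hom Q := by
    rw [← hmin Q hQc hQmin]; exact hres
  exact Cfsg.Agent.helper26.mem_of_restrict_centric_mem p hS F F' hF hF' hle _ Q R hQR rfl hQc _ hα' hres'

end Cfsg.Agent.S5335
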