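import Cfsg.Statements.S5336
import Cfsg.Agent.Lib_helper26_NormSub

set_option autoImplicit false
open Cfsg

namespace Cfsg.Agent.S5336

/-- Let G be a finite group with Sylow p-subgroup S whose fusion system F_S(G) is simple. If G has no nontrivial normal subgroup of order prime to p and no proper subgroup H containing S induces the same fusion system on S as G does, then G is a simple group. -/
theorem result {G : Type*} [Group G] [Finite G] (p : ℕ) [Fact p.Prime] (S : Sylow p G) (hsimple : (Cfsg.groupFusionSystem (S : Subgroup G)).IsSimple p) (hcore : Cfsg.pPrimeCore p G = ⊥) (hmin : ∀ (H : Subgroup G) (hSH : (S : Subgroup G) ≤ H), H ≠ ⊤ → ∃ P : Subgroup G, (Cfsg.fusionSystemOfSubgroup H (S : Subgroup G) hSH).Hom P ≠ (Cfsg.groupFusionSystem (S : Subgroup G)).Hom P) : IsSimpleGroup G := by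
  have hp : p.Prime := Fact.out
  have hnt : Nontrivial G := by
    by_contra hne
    rw [not_nontrivial_iff_subsingleton] at hne
    apply hsimple.2.1
    rw [eq_bot_iff]
    intro x _
    exact Subgroup.mem_bot.mpr (Subsingleton.elim x 1)
  refine { toNontrivial := hnt, eq_bot_or_eq_top_of_normal := ?_ }
  intro N hN
  have h : Cfsg.Agent.helper26.NS.NData p (Cfsg.groupFusionSystem (S : Subgroup G))
      (S : Subgroup G).subtype N ((S : Subgroup G) ⊓ N)
      (Cfsg.fusionSystemOfSubgroup N ((S : Subgroup G) ⊓ N) inf_le_right) :=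
    { real := Cfsg.Agent.helper25.groupFS_isRealizedBy (S : Subgroup G)
      syl := ⟨S, (S : Subgroup G).range_subtype.symm⟩
      nor := hN
      le := inf_le_left
      mem := fun s => ⟨fun h => h.2, fun h => ⟨s.2, h⟩⟩
      hom := fun P φ => ⟨fun ⟨hP, hφ, g, hg, hx⟩ => ⟨hP, hφ, g, hg, hx⟩,
        fun ⟨hP, hφ, g, hg, hx⟩ => ⟨hP, hφ, g, hg, hx⟩⟩ }
  rcases hsimple.2.2 _ _ h.isNormalIn with h1 | ⟨h1, h2⟩
  · left
    have hs : Cfsg.Agent.helper25.IsSylowIn p ((S : Subgroup G) ⊓ N) N :=
      Cfsg.Agent.helper25.isSylowIn_inf_of_normal le_top (Cfsg.Agent.helper26.NS.isSylowIn_top S)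
        le_top (Subgroup.normalizer_eq_top (H := N)).ge
    have hc := (Cfsg.Agent.helper25.isSylowIn_iff_card inf_le_right).mp hs
    rw [h1, Subgroup.card_bot] at hc
    have hk : (Nat.card N).factorization p = 0 := by
      rcases Nat.pow_eq_one.mp hc.symm with h3 | h3
      · exact absurd h3 hp.one_lt.ne'
      · exact h3
    have hnd : ¬ p ∣ Nat.card N := by
      rcases (Nat.factorization_eq_zero_iff _ _).mp hk with h3 | h3 | h3
      · exact absurd hp h3
      · exact h3
      · exact absurd h3 Nat.card_pos.ne'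
    have hcop : (Nat.card N).Coprime p := ((Nat.Prime.coprime_iff_not_dvd hp).mpr hnd).symm
    have hle : N ≤ Cfsg.pPrimeCore p G := le_sSup ⟨hN, hcop⟩
    rw [hcore] at hle
    exact eq_bot_iff.mpr hle
  · right
    by_contra hne
    have hSN : (S : Subgroup G) ≤ N := inf_eq_left.mp h1
    obtain ⟨P, hP⟩ := hmin N hSN hne
    apply hP
    rw [← h2 P]
    ext φ
    constructor
    · rintro ⟨hPS, hφ, g, hg, hx⟩
      exact ⟨hPS.trans h1.ge, fun x => h1.ge (hφ x), g, hg, hx⟩
    · rintro ⟨hPS, hφ, g, hg, hx⟩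
      exact ⟨hPS.trans inf_le_left, fun x => (hφ x).1, g, hg, hx⟩

end Cfsg.Agent.S5336
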