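import Cfsg.Statements.S5337
import Cfsg.Agent.Lib_helper26_Fusion

set_option autoImplicit false
open Cfsg

namespace Cfsg.Agent.S5337

/-- Let F be a saturated fusion system over a finite abelian p-group S. Then F is simple if and only if S has order p and F is the inner system of S (whose only maps are the inclusions, S being abelian). -/
theorem result {Ω : Type*} [Group Ω] {S : Subgroup Ω} [Finite S] (p : ℕ) [Fact p.Prime] (hS : IsPGroup p S) (F : Cfsg.FusionSystem S) (hF : F.IsSaturated p) (hab : ∀ x ∈ S, ∀ y ∈ S, x * y = y * x) : F.IsSimple p ↔ (Nat.card S = p ∧ ∀ P : Subgroup Ω, F.Hom P = (Cfsg.innerFusionSystem S).Hom P) := by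
  have hid : ∀ (P : Subgroup Ω) (φ : P →* Ω), φ ∈ (Cfsg.innerFusionSystem S).Hom P → ∀ x : P, φ x = x := by
    rintro P φ ⟨hP, g, hg, hφg⟩ x
    rw [hφg x, hab g hg x (hP x.2), mul_inv_cancel_right]
  have hSsc : F.StronglyClosed S := ⟨le_rfl, fun R _ φ hφ x => (F.le_of_mem hφ).2 x⟩
  constructor
  · rintro ⟨-, hS1, hall⟩
    have hinner : ∀ P : Subgroup Ω, F.Hom P = (Cfsg.innerFusionSystem S).Hom P := by
      rcases hall S _ (Cfsg.Agent.helper26.inner_isNormalIn_of_comm F p hF hab S hSsc) with h | h
      · exact absurd h hS1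
      · intro P
        exact (h.2 P).symm
    refine ⟨?_, hinner⟩
    -- every subgroup of S is strongly closed
    have hsub : ∀ T : Subgroup Ω, T ≤ S → T = ⊥ ∨ T = S := by
      intro T hTS
      have hTsc : F.StronglyClosed T := by
        refine ⟨hTS, fun R hR φ hφ x => ?_⟩
        rw [hinner R] at hφ
        rw [hid R φ hφ x]
        exact hR x.2
      rcases hall T _ (Cfsg.Agent.helper26.inner_isNormalIn_of_comm F p hF hab T hTsc) with h | h
      · exact Or.inl h
      · exact Or.inr h.1
    have : Nontrivial S := (Subgroup.nontrivial_iff_ne_bot S).mpr hS1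
    obtain ⟨n, hn⟩ := hS.exists_card_eq
    have hn0 : n ≠ 0 := by
      rintro rfl
      rw [pow_zero] at hn
      have := Finite.one_lt_card (α := S)
      omega
    have hdvd : p ∣ Nat.card S := by
      rw [hn]
      exact dvd_pow_self p hn0
    obtain ⟨t, ht⟩ := exists_prime_orderOf_dvd_card' (G := S) p hdvd
    have htΩ : orderOf (t : Ω) = p := by rw [Subgroup.orderOf_coe]; exact ht
    have hle : Subgroup.zpowers (t : Ω) ≤ S := by
      rw [Subgroup.zpowers_le]; exact t.2
    have hcard : Nat.card (Subgroup.zpowers (t : Ω)) = p := by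
      rw [Nat.card_zpowers]; exact htΩ
    rcases hsub _ hle with h | h
    · exfalso
      rw [h] at hcard
      simp at hcard
      exact (Fact.out : p.Prime).one_lt.ne hcard
    · rw [← h]
      exact hcard
  · rintro ⟨hcard, hinner⟩
    have hS1 : S ≠ ⊥ := by
      intro h
      rw [h] at hcard
      simp at hcard
      exact (Fact.out : p.Prime).one_lt.ne hcard
    refine ⟨hF, hS1, ?_⟩
    intro T E hE
    obtain ⟨⟨-, -, hsub, hTsc, -, -⟩, -⟩ := hE
    have hTS : T ≤ S := hTsc.1
    have hdvd : Nat.card T ∣ Nat.card S := Subgroup.card_dvd_of_le hTS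
    rw [hcard] at hdvd
    rcases (Nat.dvd_prime (Fact.out : p.Prime)).mp hdvd with h | h
    · left
      exact Subgroup.card_eq_one.mp h
    · right
      have hTeq : T = S := by
        apply Subgroup.eq_of_le_of_card_ge hTS
        rw [h, hcard]
      refine ⟨hTeq, ?_⟩
      subst hTeq
      intro P
      apply Set.Subset.antisymm (hsub P)
      intro φ hφ
      rw [hinner P] at hφ
      obtain ⟨hP, g, hg, hφg⟩ := hφ
      have : φ = Cfsg.conjHom P g := by
        ext x
        exact hφg x
      rw [this]
      exact E.conj_mem hP hg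

end Cfsg.Agent.S5337
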