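import Cfsg.Statements.S5338
import Mathlib
import Cfsg.Agent.Lib_helper26_Alperin2
import Cfsg.Agent.Lib_helper25_SatEquiv2

set_option autoImplicit false
open Cfsg

namespace Cfsg.Agent.S5338

open Cfsg.FusionSystem Cfsg.Agent.helper26

theorem conj_mem_autGroup {Ω : Type*} [Group Ω] {S : Subgroup Ω} [Finite S] (F F' : Cfsg.FusionSystem S)
    (hinv : ∀ (Q : Subgroup Ω) (φ : ↥Q →* Ω), φ ∈ F.Hom Q → ∀ (R : Subgroup Ω) (hRQ : R ≤ Q) (ψ : ↥R →* Ω),
      ψ ∈ F'.Hom R → ∀ (hψQ : ∀ x : R, ψ x ∈ Q), ∃ χ ∈ F'.Hom ((R.subgroupOf Q).map φ),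
      ∀ (x : R) (hx : φ ⟨(x : Ω), hRQ x.2⟩ ∈ (R.subgroupOf Q).map φ),
        χ ⟨φ ⟨(x : Ω), hRQ x.2⟩, hx⟩ = φ ⟨ψ x, hψQ x⟩)
    {R : Subgroup Ω} (hRS : R ≤ S) (g a : MulAut R) (hg : g ∈ F.autGroup R) (ha : a ∈ F'.autGroup R) :
    g * a * g⁻¹ ∈ F'.autGroup R := by
  haveI : Finite R := finite_of_le hRS
  have hg' := (mem_autGroup_iff F hRS g).mp hg
  have ha' := (mem_autGroup_iff F' hRS a).mp ha
  obtain ⟨χ, hχ, hχ'⟩ := hinv R _ hg' R le_rfl _ ha' (fun x => (a x).2)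
  have hmap : (R.subgroupOf R).map (R.subtype.comp g.toMonoidHom) = R := by
    ext y
    constructor
    · rintro ⟨x, -, rfl⟩
      exact (g x).2
    · intro hy
      refine ⟨g⁻¹ ⟨y, hy⟩, Subgroup.mem_subgroupOf.mpr (g⁻¹ ⟨y, hy⟩).2, ?_⟩
      show ((g (g⁻¹ ⟨y, hy⟩) : R) : Ω) = y
      rw [MulAut.apply_inv_self]
  obtain ⟨χ', hχ'm, hχ''⟩ := hom_of_eq F' hmap χ hχ
  rw [mem_autGroup_iff F' hRS]
  have : R.subtype.comp (g * a * g⁻¹).toMonoidHom = χ' := by
    ext y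
    have hym : ((g (g⁻¹ y) : R) : Ω) ∈ (R.subgroupOf R).map (R.subtype.comp g.toMonoidHom) :=
      ⟨g⁻¹ y, Subgroup.mem_subgroupOf.mpr (g⁻¹ y).2, rfl⟩
    have h1 := hχ' (g⁻¹ y) hym
    have hy2 : (y : Ω) ∈ (R.subgroupOf R).map (R.subtype.comp g.toMonoidHom) := by rw [hmap]; exact y.2
    have h2 := hχ'' y hy2 y.2
    show ((g (a (g⁻¹ y)) : R) : Ω) = χ' y
    rw [show χ' y = χ' ⟨(y : Ω), y.2⟩ from rfl, h2]
    have e : (⟨(y : Ω), hy2⟩ : ((R.subgroupOf R).map (R.subtype.comp g.toMonoidHom) : Subgroup Ω)) =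
        ⟨(R.subtype.comp g.toMonoidHom) ⟨((g⁻¹ y : R) : Ω), (g⁻¹ y).2⟩, hym⟩ := by
      apply Subtype.ext
      show (y : Ω) = ((g (g⁻¹ y) : R) : Ω)
      rw [MulAut.apply_inv_self]
    rw [e, h1]
    rfl
  rw [this]
  exact hχ'm

/-- Let F be a saturated fusion system over a finite p-group S and F′ ≤ F a saturated subsystem over all of S that is invariant under F in the conjugation sense: for every map φ of F with source Q and every map ψ of F′ between subgroups R ≤ Q (with values in Q), the transported map φψφ⁻¹ defined on φ(R) is again a map of F′. If moreover Aut_{F′}(S) = Aut_F(S), then F′ = F. -/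
theorem result {Ω : Type*} [Group Ω] {S : Subgroup Ω} [Finite S] (p : ℕ) [Fact p.Prime] (hS : IsPGroup p S) (F : Cfsg.FusionSystem S) (hF : F.IsSaturated p) (F' : Cfsg.FusionSystem S) (hF' : F'.IsSaturated p) (hle : F' ≤ F) (hinv : ∀ (Q : Subgroup Ω) (φ : ↥Q →* Ω), φ ∈ F.Hom Q → ∀ (R : Subgroup Ω) (hRQ : R ≤ Q) (ψ : ↥R →* Ω), ψ ∈ F'.Hom R → ∀ (hψQ : ∀ x : R, ψ x ∈ Q), ∃ χ ∈ F'.Hom ((R.subgroupOf Q).map φ), ∀ (x : R) (hx : φ ⟨(x : Ω), hRQ x.2⟩ ∈ (R.subgroupOf Q).map φ), χ ⟨φ ⟨(x : Ω), hRQ x.2⟩, hx⟩ = φ ⟨ψ x, hψQ x⟩) (htop : F'.autGroup S = F.autGroup S) (P : Subgroup Ω) : F'.Hom P = F.Hom P := by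
  apply Set.Subset.antisymm (hle P)
  refine Cfsg.Agent.helper26.alperin_ind p hS F hF F' ?_ P
  intro R hRn hRc hRr IH
  have hRS := hRn.1
  haveI : Finite R := finite_of_le hRS
  by_cases hRtop : R = S
  · rw [hRtop, htop]
  obtain ⟨hRfc, hRa⟩ := Cfsg.Agent.helper25.fullyNormalized_imp hS F hF hRn
  have hRr' : F.IsReceptive R := Cfsg.Agent.helper25.receptive_of_fullyCentralized hS F hF hRfc
  obtain ⟨-, R₀, hR₀⟩ := hRa
  have hNnormal : ((F'.autGroup R).subgroupOf (F.autGroup R)).Normal := by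
    constructor
    intro a ha g
    rw [Subgroup.mem_subgroupOf] at ha ⊢
    exact conj_mem_autGroup F F' hinv hRS g.1 a.1 g.2 ha
  have hTN : (R₀ : Subgroup (F.autGroup R)) ≤ (F'.autGroup R).subgroupOf (F.autGroup R) := by
    intro t ht
    rw [hR₀, Subgroup.mem_subgroupOf] at ht
    rw [Subgroup.mem_subgroupOf]
    exact autInducedBy_le_autGroup F' hRS ht
  have hfr := Sylow.normalizer_sup_eq_top' R₀ hTN
  have hnorm_le : Subgroup.normalizer ((R₀ : Subgroup (F.autGroup R)) : Set (F.autGroup R)) ≤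
      (F'.autGroup R).subgroupOf (F.autGroup R) := by
    intro β hβ
    rw [Subgroup.mem_subgroupOf]
    have hb := (mem_autGroup_iff F hRS β.1).mp β.2
    have hbr : (R.subtype.comp (β : MulAut R).toMonoidHom).range = R :=
      IsFIso.range_eq (F := F) (e := (β : MulAut R)) hb
    have hext : normalizerIn S R ≤ extender S R (R.subtype.comp (β : MulAut R).toMonoidHom) := by
      rintro g ⟨hgS, hgN⟩
      have hc : R.normalizerMonoidHom ⟨g, hgN⟩ ∈ Cfsg.autInducedBy S R :=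
        normalizerMonoidHom_mem_autInducedBy S R hgS hgN
      have hcF : R.normalizerMonoidHom ⟨g, hgN⟩ ∈ F.autGroup R := autInducedBy_le_autGroup F hRS hc
      have hcR₀ : (⟨_, hcF⟩ : F.autGroup R) ∈ (R₀ : Subgroup (F.autGroup R)) := by
        rw [hR₀, Subgroup.mem_subgroupOf]; exact hc
      have h3 := (Subgroup.mem_normalizer_iff.mp hβ ⟨_, hcF⟩).mp hcR₀
      rw [hR₀, Subgroup.mem_subgroupOf] at h3
      obtain ⟨h, hhS, hh⟩ := (mem_autInducedBy_iff S R _).mp h3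
      rw [mem_extender_iff]
      refine ⟨hgS, hgN, h, hhS, fun x hx => ?_⟩
      have h5 := hh ((β : MulAut R) x)
      have key : (((β * ⟨_, hcF⟩ * β⁻¹ : F.autGroup R) : MulAut R)) ((β : MulAut R) x) =
          (β : MulAut R) (R.normalizerMonoidHom ⟨g, hgN⟩ x) := by
        show (β : MulAut R) ((R.normalizerMonoidHom ⟨g, hgN⟩) ((β : MulAut R)⁻¹ ((β : MulAut R) x))) = _
        rw [MulAut.inv_apply_self]
      rw [key] at h5
      exact h5
    obtain ⟨θ, hθ, hθ'⟩ := hRr'.2 R _ hb hbr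
    obtain ⟨g₀, hg₀N, hg₀R⟩ := exists_mem_normalizerIn_not_mem hS hRS hRtop
    have hRT : R ≤ extender S R (R.subtype.comp (β : MulAut R).toMonoidHom) := le_extender F hb
    have hTS : extender S R (R.subtype.comp (β : MulAut R).toMonoidHom) ≤ S :=
      (extender_le_normalizerIn S R _).trans (normalizerIn_le S R)
    haveI : Finite (extender S R (R.subtype.comp (β : MulAut R).toMonoidHom)) := finite_of_le hTS
    have hcard : Nat.card R < Nat.card (extender S R (R.subtype.comp (β : MulAut R).toMonoidHom)) :=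
      card_lt_of_le_of_not_mem hRT (hext hg₀N) hg₀R
    have hθF' : θ ∈ F'.Hom _ := IH _ hTS hcard hθ
    have hres := restrict_mem F' hRT θ hθF'
    rw [mem_autGroup_iff F' hRS]
    convert hres using 1
    ext x
    exact (hθ' x x.2 (hRT x.2)).symm
  have hNtop : (F'.autGroup R).subgroupOf (F.autGroup R) = ⊤ := by
    rw [← hfr]; exact (sup_eq_right.mpr hnorm_le).symm
  intro α hα
  have hmem : (⟨α, hα⟩ : F.autGroup R) ∈ (F'.autGroup R).subgroupOf (F.autGroup R) := by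
    rw [hNtop]; exact Subgroup.mem_top _
  exact Subgroup.mem_subgroupOf.mp hmem

end Cfsg.Agent.S5338
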