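import Cfsg.Statements.S5341
import Mathlib
import Cfsg.Agent.Lib_helper26_Alperin
import Cfsg.Agent.Lib_helper25_SatEquiv2

set_option autoImplicit false
open Cfsg

namespace Cfsg.Agent.S5341

/-- Let F be a saturated fusion system over a finite p-group S, T a subgroup strongly closed in F, and F′ any fusion system over T all of whose maps are maps of F. For a subgroup Q ≤ T: if Q is fully centralized in F then it is fully centralized in F′, and if Q is fully normalized in F then it is fully normalized in F′. -/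
theorem result {Ω : Type*} [Group Ω] {S : Subgroup Ω} [Finite S] (p : ℕ) [Fact p.Prime] (hS : IsPGroup p S) (F : Cfsg.FusionSystem S) (hF : F.IsSaturated p) (T : Subgroup Ω) (hT : F.StronglyClosed T) (F' : Cfsg.FusionSystem T) (hsub : F'.IsSubsystemOf F) (Q : Subgroup Ω) (hQT : Q ≤ T) : (F.IsFullyCentralized Q → F'.IsFullyCentralized Q) ∧ (F.IsFullyNormalized Q → F'.IsFullyNormalized Q) := by
  have hTS : T ≤ S := hT.1
  haveI : Finite T := Cfsg.Agent.helper26.finite_of_le hTS
  constructor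
  · intro hQ
    have hQr : F.IsReceptive Q := Cfsg.Agent.helper25.receptive_of_fullyCentralized hS F hF hQ
    refine ⟨hQT, fun Q' hQQ' => ?_⟩
    have hQQ'F : F.IsConj Q Q' := by
      obtain ⟨φ, hφ, hr⟩ := hQQ'
      exact ⟨φ, hsub Q hφ, hr⟩
    obtain ⟨φ, hφ, hr⟩ := Cfsg.Agent.helper26.isConj_symm F hQQ'F
    obtain ⟨θ, hθ, hθ'⟩ := hQr.2 Q' φ hφ hr
    have hle : Cfsg.FusionSystem.centralizerIn T Q' ≤ Cfsg.FusionSystem.extender S Q' φ :=
      fun c hc => Cfsg.Agent.helper26.centralizerIn_le_extender S Q' φ ⟨hTS hc.1, hc.2⟩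
    have hres := Cfsg.Agent.helper26.restrict_mem F hle θ hθ
    have hmem : ∀ c : Cfsg.FusionSystem.centralizerIn T Q',
        θ ⟨c, hle c.2⟩ ∈ Cfsg.FusionSystem.centralizerIn T Q := by
      intro c
      refine ⟨hT.2 _ inf_le_left _ hres c, ?_⟩
      exact (Cfsg.Agent.helper26.map_centralizerIn_mem F hφ hr hθ hθ' ⟨hTS c.2.1, c.2.2⟩).2
    haveI : Finite (Cfsg.FusionSystem.centralizerIn T Q) :=
      Cfsg.Agent.helper26.finite_of_le ((inf_le_left : Cfsg.FusionSystem.centralizerIn T Q ≤ T).trans hTS)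
    refine Nat.card_le_card_of_injective
      (fun c : Cfsg.FusionSystem.centralizerIn T Q' =>
        (⟨θ ⟨c, hle c.2⟩, hmem c⟩ : Cfsg.FusionSystem.centralizerIn T Q)) ?_
    intro a b hab
    have := F.injective_of_mem hθ (congrArg Subtype.val hab)
    exact Subtype.ext (Subtype.mk.inj this)
  · intro hQ
    obtain ⟨hQc, hQa⟩ := Cfsg.Agent.helper25.fullyNormalized_imp hS F hF hQ
    have hQr : F.IsReceptive Q := Cfsg.Agent.helper25.receptive_of_fullyCentralized hS F hF hQc
    refine ⟨hQT, fun Q' hQQ' => ?_⟩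
    have hQQ'F : F.IsConj Q Q' := by
      obtain ⟨φ, hφ, hr⟩ := hQQ'
      exact ⟨φ, hsub Q hφ, hr⟩
    obtain ⟨ψ, hψ, hψN, -⟩ := Cfsg.Agent.helper26.exists_normalizer_hom p hS F Q Q' hQa hQr
      (Cfsg.Agent.helper26.isConj_symm F hQQ'F)
    have hle : Cfsg.FusionSystem.normalizerIn T Q' ≤ Cfsg.FusionSystem.normalizerIn S Q' :=
      fun c hc => ⟨hTS hc.1, hc.2⟩
    have hres := Cfsg.Agent.helper26.restrict_mem F hle ψ hψ
    have hmem : ∀ c : Cfsg.FusionSystem.normalizerIn T Q',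
        ψ ⟨c, hle c.2⟩ ∈ Cfsg.FusionSystem.normalizerIn T Q := by
      intro c
      exact ⟨hT.2 _ inf_le_left _ hres c, (hψN ⟨c, hle c.2⟩).2⟩
    haveI : Finite (Cfsg.FusionSystem.normalizerIn T Q) :=
      Cfsg.Agent.helper26.finite_of_le ((inf_le_left : Cfsg.FusionSystem.normalizerIn T Q ≤ T).trans hTS)
    refine Nat.card_le_card_of_injective
      (fun c : Cfsg.FusionSystem.normalizerIn T Q' =>
        (⟨ψ ⟨c, hle c.2⟩, hmem c⟩ : Cfsg.FusionSystem.normalizerIn T Q)) ?_
    intro a b hab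
    have := F.injective_of_mem hψ (congrArg Subtype.val hab)
    exact Subtype.ext (Subtype.mk.inj this)

end Cfsg.Agent.S5341
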