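import Cfsg.Statements.S5343
import Cfsg.Agent.Lib_helper26_Realize

set_option autoImplicit false
universe u
open Cfsg

namespace Cfsg.Agent.S5343

/-- Let F be a simple saturated fusion system over a finite p-group S that is realized by some finite group on a Sylow p-subgroup. Then F is realized by a finite simple group on a Sylow p-subgroup. -/
theorem result {Ω : Type u} [Group Ω] {S : Subgroup Ω} [Finite S] (p : ℕ) [Fact p.Prime] (hS : IsPGroup p S) (F : Cfsg.FusionSystem S) (hsimple : F.IsSimple p) (hreal : F.IsRealizable p) : ∃ (G : Type u) (_ : Group G) (_ : Finite G) (_ : IsSimpleGroup G) (ι : ↥S →* G), F.IsRealizedBy ι ∧ ∃ T : Sylow p G, (T : Subgroup G) = ι.range := by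
  classical
  have hp : p.Prime := Fact.out
  let Q : ℕ → Prop := fun n => ∃ (G : Type u) (_ : Group G) (_ : Finite G) (ι : ↥S →* G),
    F.IsRealizedBy ι ∧ (∃ T : Sylow p G, (T : Subgroup G) = ι.range) ∧ Nat.card G = n
  have hQ : ∃ n, Q n := by
    obtain ⟨G, i1, i2, ι, h1, h2⟩ := hreal
    exact ⟨Nat.card G, G, i1, i2, ι, h1, h2, rfl⟩
  obtain ⟨G, iG, iF, ι, hF, hSyl, hcard⟩ := Nat.find_spec hQ
  have hmin : ∀ (G' : Type u) [Group G'] [Finite G'] (ι' : ↥S →* G'), F.IsRealizedBy ι' →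
      (∃ T : Sylow p G', (T : Subgroup G') = ι'.range) → Nat.card G ≤ Nat.card G' := by
    intro G' _ _ ι' h1 h2
    rw [hcard]
    exact Nat.find_min' hQ ⟨G', inferInstance, inferInstance, ι', h1, h2, rfl⟩
  have hnt : Nontrivial G := by
    by_contra hne
    rw [not_nontrivial_iff_subsingleton] at hne
    apply hsimple.2.1
    rw [eq_bot_iff]
    intro x hx
    have h1 : ι ⟨x, hx⟩ = ι 1 := Subsingleton.elim _ _
    have h2 := hF.1 h1
    exact Subgroup.mem_bot.mpr (congrArg (fun s : S => (s : Ω)) h2)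
  refine ⟨G, iG, iF, { toNontrivial := hnt, eq_bot_or_eq_top_of_normal := ?_ }, ι, hF, hSyl⟩
  intro N hN
  obtain ⟨R, hR⟩ := hSyl
  have h := Cfsg.Agent.helper26.NS.nData_subSystem (p := p) hF ⟨R, hR⟩ N
  rcases hsimple.2.2 _ _ h.isNormalIn with h1 | ⟨h1, h2⟩
  · left
    have hs := h.sylow_N
    have hc := (Cfsg.Agent.helper25.isSylowIn_iff_card (by rw [h.im_eq]; exact inf_le_right)).mp hs
    rw [Cfsg.Agent.helper25.card_im hF.1 h.le, h1, Subgroup.card_bot] at hc
    have hk : (Nat.card N).factorization p = 0 := by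
      rcases Nat.pow_eq_one.mp hc.symm with h3 | h3
      · exact absurd h3 hp.one_lt.ne'
      · exact h3
    have hnd : ¬ p ∣ Nat.card N := by
      rcases (Nat.factorization_eq_zero_iff _ _).mp hk with h3 | h3 | h3
      · exact absurd hp h3
      · exact h3
      · exact absurd h3 Nat.card_pos.ne'
    have hcop : (Nat.card N).Coprime p := ((Nat.Prime.coprime_iff_not_dvd hp).mpr hnd).symm
    obtain ⟨hq1, hq2⟩ := Cfsg.Agent.helper26.NS.realized_quotient hF R hR N hcop
    have h4 := hmin (G ⧸ N) _ hq1 hq2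
    have h5 := Subgroup.card_eq_card_quotient_mul_card_subgroup N
    have h6 : Nat.card N = 1 := by
      have hpos : 0 < Nat.card (G ⧸ N) := Nat.card_pos
      have hposN : 0 < Nat.card N := Nat.card_pos
      nlinarith
    exact Subgroup.card_eq_one.mp h6
  · right
    have hle : ∀ s : S, ι s ∈ N := fun s => (h.mem s).mp (h1.symm ▸ s.2)
    have hH : ∀ (P : Subgroup Ω) (hP : P ≤ S) (φ : P →* Ω) (hφ : ∀ x : P, φ x ∈ S), φ ∈ F.Hom P →
        ∃ g ∈ N, ∀ x : P, ι ⟨φ x, hφ x⟩ = g * ι ⟨x, hP x.2⟩ * g⁻¹ := by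
      intro P hP φ hφ hmem
      rw [← h2 P] at hmem
      obtain ⟨_, _, g, hg, hx⟩ := (h.hom P φ).mp hmem
      exact ⟨g, hg, hx⟩
    obtain ⟨hq1, hq2⟩ := Cfsg.Agent.helper26.NS.realized_subgroup hF R hR N hle hH
    have h4 := hmin N _ hq1 hq2
    exact Subgroup.eq_top_of_le_card N h4

end Cfsg.Agent.S5343
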