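import Cfsg.Statements.S5345
-- import your own Cfsg.Agent.* helpers here

set_option autoImplicit false
open Cfsg

namespace Cfsg.Agent.S5345

/-- Let D be a conjugation-invariant generating set of 3-transpositions of a finite group G and T a Sylow 2-subgroup of G. Then the members of D lying in T generate an abelian subgroup, and their number is the width of D (the largest number of pairwise commuting members of D). -/
theorem result {G : Type*} [Group G] [Finite G] {D : Set G} (hD : Cfsg.IsThreeTranspositionGroup D) (T : Sylow 2 G) : IsMulCommutative (Subgroup.closure {d : G | d ∈ D ∧ d ∈ T}) ∧ {d : G | d ∈ D ∧ d ∈ T}.ncard = Cfsg.commutingWidth D := by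
  obtain ⟨⟨hord, hprod⟩, hconj, hgen⟩ := hD
  have sq : ∀ d ∈ D, d * d = 1 := by
    intro d hd
    have := hord d hd
    rw [← pow_two, ← this, pow_orderOf_eq_one]
  have inv_eq : ∀ d ∈ D, d⁻¹ = d := fun d hd => inv_eq_of_mul_eq_one_left (sq d hd)
  have hcomm : ∀ x ∈ {d : G | d ∈ D ∧ d ∈ T}, ∀ y ∈ {d : G | d ∈ D ∧ d ∈ T}, x * y = y * x := by
    rintro x ⟨hxD, hxT⟩ y ⟨hyD, hyT⟩
    have hxy2 : (x * y) ^ 2 = 1 := by
      rcases hprod x hxD y hyD with h | h
      · exact h
      · have hmem : x * y ∈ (T : Subgroup G) := Subgroup.mul_mem _ hxT hyT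
        obtain ⟨k, hk⟩ := T.isPGroup' ⟨x * y, hmem⟩
        have hk' : (x * y) ^ (2 ^ k) = 1 := by
          have := congrArg Subtype.val hk
          simpa using this
        have h1 : orderOf (x * y) ∣ 2 ^ k := orderOf_dvd_of_pow_eq_one hk'
        have h2 : orderOf (x * y) ∣ 3 := orderOf_dvd_of_pow_eq_one h
        have hcop : Nat.Coprime (2 ^ k) 3 := Nat.Coprime.pow_left _ (by norm_num)
        have := Nat.dvd_gcd h1 h2
        rw [hcop] at this
        have h1' : x * y = 1 := orderOf_eq_one_iff.mp (Nat.dvd_one.mp this)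
        rw [h1', one_pow]
    have h3 : x * y * (x * y) = 1 := by rw [← pow_two]; exact hxy2
    calc x * y = (y * y) * (x * y) * (x * x) := by rw [sq y hyD, sq x hxD, one_mul, mul_one]
      _ = y * (y * x) * (y * x) * x := by simp only [mul_assoc]
      _ = y * x := by
        have h4 : y * x * (y * x) = 1 := by
          have : y * x = (x * y)⁻¹ := by rw [mul_inv_rev, inv_eq x hxD, inv_eq y hyD]
          rw [this, ← mul_inv_rev, h3, inv_one]
        calc y * (y * x) * (y * x) * x = y * ((y * x) * (y * x)) * x := by simp only [mul_assoc]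
          _ = y * x := by rw [h4, mul_one]
  refine ⟨Subgroup.isMulCommutative_closure hcomm, ?_⟩
  unfold Cfsg.commutingWidth
  set A := {n : ℕ | ∃ E : Set G, E ⊆ D ∧ E.Finite ∧ (∀ a ∈ E, ∀ b ∈ E, Commute a b) ∧ E.ncard = n} with hA
  have hbdd : BddAbove A := by
    refine ⟨Nat.card G, ?_⟩
    rintro n ⟨E, -, -, -, rfl⟩
    rw [← Set.ncard_univ]
    exact Set.ncard_le_ncard (Set.subset_univ _) (Set.toFinite _)
  have hmem : {d : G | d ∈ D ∧ d ∈ T}.ncard ∈ A :=
    ⟨_, fun x hx => hx.1, Set.toFinite _, hcomm, rfl⟩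
  apply le_antisymm (le_csSup hbdd hmem)
  apply csSup_le ⟨_, hmem⟩
  rintro n ⟨E, hED, -, hEc, rfl⟩
  -- closure E is a 2-group
  have hEcl : ∀ x ∈ Subgroup.closure E, x ^ 2 = 1 := by
    have := Subgroup.isMulCommutative_closure (k := E) (fun a ha b hb => hEc a ha b hb)
    intro x hx
    induction hx using Subgroup.closure_induction with
    | mem x hx => rw [pow_two]; exact sq x (hED hx)
    | one => exact one_pow 2
    | mul x y hx hy hx2 hy2 =>
      have hc : x * y = y * x := setLike_mul_comm hx hy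
      rw [(show Commute x y from hc).mul_pow, hx2, hy2, one_mul]
    | inv x hx hx2 => rw [inv_pow, hx2, inv_one]
  have hEp : IsPGroup 2 (Subgroup.closure E) := by
    rintro ⟨x, hx⟩
    refine ⟨1, ?_⟩
    apply Subtype.ext
    simpa using hEcl x hx
  obtain ⟨T', hT'⟩ := hEp.exists_le_sylow
  obtain ⟨g, hg⟩ := MulAction.exists_smul_eq G T' T
  have himg : (fun x => g * x * g⁻¹) '' E ⊆ {d : G | d ∈ D ∧ d ∈ T} := by
    rintro _ ⟨x, hx, rfl⟩
    refine ⟨hconj g x (hED hx), ?_⟩
    have h1 : x ∈ (T' : Subgroup G) := hT' (Subgroup.subset_closure hx)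
    have h2 := Subgroup.smul_mem_pointwise_smul _ (MulAut.conj g) _ h1
    rw [← Sylow.coe_subgroup_smul, hg] at h2
    have h3 : g * x * g⁻¹ ∈ (T : Subgroup G) := by simpa [MulAut.smul_def] using h2
    exact h3
  have hinj : Function.Injective (fun x : G => g * x * g⁻¹) := by
    intro x y hxy
    simpa using hxy
  calc E.ncard = ((fun x => g * x * g⁻¹) '' E).ncard := (Set.ncard_image_of_injective E hinj).symm
    _ ≤ {d : G | d ∈ D ∧ d ∈ T}.ncard := Set.ncard_le_ncard himg (Set.toFinite _)

end Cfsg.Agent.S5345
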