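import Cfsg.Statements.S5354
import Cfsg.Agent.Lib_helper26_TTM

set_option autoImplicit false
open Cfsg

namespace Cfsg.Agent.S5354

/-- Let D be a conjugation-invariant generating set of 3-transpositions of the finite group G on which G acts primitively by conjugation, and suppose two different members of D commute (width at least 2). Then G has a quasisimple normal subgroup L of index at most 2 with the generalized Fitting subgroup of G equal to L times the centre, the commuting graph of D is connected, and for d in D the subgroup generated by the members of D commuting with d is a maximal D-subgroup: it is proper, and every subgroup generated by members of D that contains it is either it or G. -/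
theorem result {G : Type*} [Group G] [Finite G] {D : Set G} (hD : Cfsg.IsThreeTranspositionGroup D) (hprim : Cfsg.IsPrimitiveUnderConj D) (hw : ∃ a ∈ D, ∃ b ∈ D, a ≠ b ∧ Commute a b) : (∃ L : Subgroup G, L.Normal ∧ Cfsg.IsQuasisimple L ∧ L.index ≤ 2 ∧ Cfsg.generalizedFittingSubgroup G = L ⊔ Subgroup.center G) ∧ (Cfsg.commutingGraph D).Connected ∧ ∀ d ∈ D, Subgroup.closure {y : G | y ∈ D ∧ Commute d y} ≠ ⊤ ∧ ∀ H : Subgroup G, Cfsg.IsDSubgroup D H → Subgroup.closure {y : G | y ∈ D ∧ Commute d y} ≤ H → H = Subgroup.closure {y : G | y ∈ D ∧ Commute d y} ∨ H = ⊤ := by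
  classical
  haveI : Fact (Nat.Prime 3) := ⟨Nat.prime_three⟩
  haveI : Fact (Nat.Prime 2) := ⟨Nat.prime_two⟩
  obtain ⟨hTS, hconj, hgen⟩ := hD
  obtain ⟨a, ha, b, hb, hab, hcab⟩ := hw
  have htrans := hprim.1
  have hcls : D = conjugatesOf a := by
    ext y
    constructor
    · intro hy
      obtain ⟨g, hg⟩ := htrans a ha y hy
      show IsConj a y
      rw [isConj_iff]
      exact ⟨g, hg⟩
    · intro hy
      obtain ⟨g, hg⟩ := isConj_iff.mp (show IsConj a y from hy)
      rw [← hg]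
      exact hconj g a ha
  have hDcls : Cfsg.IsThreeTranspositionClass D := ⟨hTS, ⟨a, ha, hcls⟩, hgen⟩
  have hD2 : ∃ a ∈ D, ∃ b ∈ D, a ≠ b := ⟨a, ha, b, hb, hab⟩
  haveI hN2 : (Cfsg.pCore 2 G).Normal := Cfsg.Agent.helper15.pCore_normal' 2
  haveI hN3 : (Cfsg.pCore 3 G).Normal := Cfsg.Agent.helper15.pCore_normal' 3
  have h2 : Cfsg.pCore 2 G ≤ Subgroup.center G := by
    apply Cfsg.Agent.h26TTQ.le_center_of_fix_one hgen htrans ha
    intro q hq
    have h49 := Cfsg.Agent.S5349.result hDcls hD2 ha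
    have hmem : q * a * q⁻¹ ∈ {v : G | ∃ g ∈ Cfsg.pCore 2 G, v = g * a * g⁻¹} := ⟨q, hq, rfl⟩
    rw [← h49.2] at hmem
    exact Cfsg.Agent.h26TTQ.V_trivial_of_primitive hTS hconj hgen hprim ha _ hmem.1 hmem.2
  have h3 : Cfsg.pCore 3 G ≤ Subgroup.center G := by
    apply Cfsg.Agent.h26TTQ.le_center_of_fix_one hgen htrans ha
    intro q hq
    have h50 := Cfsg.Agent.S5350.result hDcls hD2 ha
    have hmem : q * a * q⁻¹ ∈ {w : G | ∃ g ∈ Cfsg.pCore 3 G, w = g * a * g⁻¹} := ⟨q, hq, rfl⟩
    rw [← h50.2] at hmem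
    exact Cfsg.Agent.h26TTQ.W_trivial_of_primitive hTS hconj hgen hprim ha hb hab hcab _ hmem.1 hmem.2
  obtain ⟨L, hC⟩ := Cfsg.Agent.h26TTQ.exists_cdata hDcls hD2 h2 h3
  have hconn := Cfsg.Agent.h26TTQ.connected_of_primitive hTS hconj hgen hprim ha hb hab hcab
  refine ⟨⟨L, hC.normal, (Cfsg.Agent.helper7.qs_iff_QS L).mpr hC.comp.2,
    Cfsg.Agent.h26TTQ.index_le_two_of_connected hTS hconj hgen hC hconn, ?_⟩, hconn, ?_⟩
  · rw [Cfsg.Agent.helper7.generalizedFittingSubgroup_eq]
    unfold Cfsg.Agent.helper7.fstarOf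
    rw [hC.layer, hC.fit]
  · intro d hd
    exact ⟨Cfsg.Agent.h26TTQ.Md_ne_top htrans ha hb hab hd,
      fun H hH hle => Cfsg.Agent.h26TTQ.Md_maximal hTS hconj hgen hprim ha hb hab hcab hd H hH hle⟩

end Cfsg.Agent.S5354
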