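import Cfsg.Statements.S5355
import Cfsg.Agent.Lib_helper26_S4

set_option autoImplicit false
open Cfsg

namespace Cfsg.Agent.S5355

open Cfsg.Agent.h26S4 in
/-- the partner property of a member of `D`. -/
def Partner {G : Type*} [Group G] (D : Set G) (x x' : G) : Prop :=
  x' ∈ D ∧ x' ≠ x ∧ Commute x x' ∧ (∀ y ∈ D, Commute x y → y = x ∨ y = x') ∧
    ∀ e ∈ D, Commute x' e ↔ Commute x e

theorem conj_commute_iff {G : Type*} [Group G] (g a b : G) :
    Commute (g * a * g⁻¹) (g * b * g⁻¹) ↔ Commute a b := by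
  constructor
  · intro h
    have h1 : g * a * g⁻¹ * (g * b * g⁻¹) = g * b * g⁻¹ * (g * a * g⁻¹) := h
    have h2 : g * (a * b) * g⁻¹ = g * (b * a) * g⁻¹ := by
      calc g * (a * b) * g⁻¹ = g * a * g⁻¹ * (g * b * g⁻¹) := by group
        _ = g * b * g⁻¹ * (g * a * g⁻¹) := h1
        _ = g * (b * a) * g⁻¹ := by group
    exact mul_left_cancel (mul_right_cancel h2)
  · intro h
    have h1 : a * b = b * a := h
    show g * a * g⁻¹ * (g * b * g⁻¹) = g * b * g⁻¹ * (g * a * g⁻¹)
    calc g * a * g⁻¹ * (g * b * g⁻¹) = g * (a * b) * g⁻¹ := by group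
      _ = g * (b * a) * g⁻¹ := by rw [h1]
      _ = g * b * g⁻¹ * (g * a * g⁻¹) := by group

theorem partner_formula {G : Type*} [Group G] {D : Set G} (hD : Cfsg.IsThreeTranspositionSet D)
    (hconj : ∀ g : G, ∀ y ∈ D, g * y * g⁻¹ ∈ D) {x x' y y' : G} (hx : x ∈ D) (hy : y ∈ D)
    (hxx' : Partner D x x') (hyy' : Partner D y y') (hxy : ¬ Commute x y) :
    x' = (y * y') * x * (y * y')⁻¹ := by
  obtain ⟨hy'D, hy'ne, hyc, -, hyV⟩ := hyy'
  have hxy' : ¬ Commute x y' := fun h => hxy ((hyV x hx).mp h.symm).symm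
  have hyx : ¬ Commute y x := fun h => hxy h.symm
  obtain ⟨ψ, hψinj, h01, h12, h23⟩ :=
    Cfsg.Agent.h26S4.exists_S4_of_string hD hy hx hy'D hy'ne.symm hyc hyx hxy'
  have e1 : (Equiv.swap (0 : Fin 4) 3) =
      (Equiv.swap 0 1 * Equiv.swap 2 3) * Equiv.swap 1 2 * (Equiv.swap 0 1 * Equiv.swap 2 3)⁻¹ := by
    decide
  have e2 : Commute (Equiv.swap (1 : Fin 4) 2) (Equiv.swap (0 : Fin 4) 3) := by
    show _ * _ = _ * _
    decide
  have e3 : (Equiv.swap (0 : Fin 4) 3) ≠ Equiv.swap (1 : Fin 4) 2 := by decide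
  have hz : ψ (Equiv.swap 0 3) = (y * y') * x * (y * y')⁻¹ := by
    rw [e1, map_mul, map_mul, map_inv, map_mul, h01, h12, h23]
  have hzD : ψ (Equiv.swap 0 3) ∈ D := by rw [hz]; exact hconj _ _ hx
  have hzc : Commute x (ψ (Equiv.swap 0 3)) := by
    rw [← h12]; exact e2.map ψ
  have hzne : ψ (Equiv.swap 0 3) ≠ x := by
    rw [← h12]; exact fun h => e3 (hψinj h)
  rcases hxx'.2.2.2.1 _ hzD hzc with h | h
  · exact (hzne h).elim
  · rw [← h, hz]

/-- Let D be a conjugacy class of 3-transpositions generating the finite group G, with at least two members, and d a member of D. Suppose that every member of D commuting with d commutes with exactly the same members of D as d does, and that exactly one member of D other than d commutes with d. Then G is isomorphic to the symmetric group of degree 4. -/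
theorem result {G : Type*} [Group G] [Finite G] {D : Set G} (hD : Cfsg.IsThreeTranspositionClass D) (hD2 : ∃ a ∈ D, ∃ b ∈ D, a ≠ b) {d : G} (hd : d ∈ D) (hV : {y : G | y ∈ D ∧ Commute d y} = {v : G | v ∈ D ∧ ∀ e ∈ D, Commute v e ↔ Commute d e}) (hm : {y : G | y ∈ D ∧ Commute d y}.ncard = 2) : Nonempty (G ≃* Equiv.Perm (Fin 4)) := by
  obtain ⟨hTS, ⟨d₀, hd₀, hDc⟩, hgen⟩ := hD
  -- closure under conjugation
  have hconj : ∀ g : G, ∀ y ∈ D, g * y * g⁻¹ ∈ D := by
    intro g y hy
    rw [hDc] at hy ⊢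
    have hy' : IsConj d₀ y := hy
    exact (hy'.trans (isConj_iff.mpr ⟨g, rfl⟩) : IsConj d₀ (g * y * g⁻¹))
  have htrans : ∀ x ∈ D, ∃ g : G, x = g * d * g⁻¹ := by
    intro x hx
    have h1 : IsConj d₀ d := by
      have := hd; rw [hDc] at this; exact this
    have h2 : IsConj d₀ x := by
      have := hx; rw [hDc] at this; exact this
    obtain ⟨g, hg⟩ := isConj_iff.mp (h1.symm.trans h2)
    exact ⟨g, hg.symm⟩
  -- partner of d
  obtain ⟨p, q, hpq, hset⟩ := Set.ncard_eq_two.mp hm
  have hdset : d ∈ {y : G | y ∈ D ∧ Commute d y} := ⟨hd, Commute.refl d⟩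
  have hexv : ∃ v, v ≠ d ∧ {y : G | y ∈ D ∧ Commute d y} = {d, v} := by
    rw [hset] at hdset
    rcases hdset with h | h
    · exact ⟨q, fun h' => hpq (h.symm ▸ h'.symm), by rw [hset, h]⟩
    · have h' : d = q := h
      exact ⟨p, fun h'' => hpq (h''.trans h'), by rw [hset, h', Set.pair_comm]⟩
  obtain ⟨v, hvd, hset'⟩ := hexv
  have hvset : v ∈ {y : G | y ∈ D ∧ Commute d y} := by rw [hset']; simp
  have hvV : v ∈ {v : G | v ∈ D ∧ ∀ e ∈ D, Commute v e ↔ Commute d e} := by rw [← hV]; exact hvset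
  have hPd : Partner D d v := by
    refine ⟨hvset.1, hvd, hvset.2, ?_, hvV.2⟩
    intro y hy hc
    have : y ∈ {y : G | y ∈ D ∧ Commute d y} := ⟨hy, hc⟩
    rw [hset'] at this
    exact this
  -- partner of every member
  have hP : ∀ x ∈ D, ∃ x', Partner D x x' := by
    intro x hx
    obtain ⟨g, rfl⟩ := htrans x hx
    refine ⟨g * v * g⁻¹, hconj g v hPd.1, ?_, ?_, ?_, ?_⟩
    · intro h
      apply hPd.2.1
      exact mul_left_cancel (mul_right_cancel h)
    · exact (conj_commute_iff g d v).mpr hPd.2.2.1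
    · intro y hy hc
      have hy' : g⁻¹ * y * g⁻¹⁻¹ ∈ D := hconj g⁻¹ y hy
      have e : y = g * (g⁻¹ * y * g⁻¹⁻¹) * g⁻¹ := by group
      rw [e] at hc
      rcases hPd.2.2.2.1 _ hy' ((conj_commute_iff g d _).mp hc) with h | h
      · left; rw [e, h]
      · right; rw [e, h]
    · intro e he
      have he' : g⁻¹ * e * g⁻¹⁻¹ ∈ D := hconj g⁻¹ e he
      have ee : e = g * (g⁻¹ * e * g⁻¹⁻¹) * g⁻¹ := by group
      rw [ee, conj_commute_iff, conj_commute_iff]
      exact hPd.2.2.2.2 _ he'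
  -- some member does not commute with d
  have hexa : ∃ a ∈ D, ¬ Commute d a := by
    by_contra hcon
    push Not at hcon
    have hcen : d ∈ Subgroup.center G := by
      rw [Subgroup.mem_center_iff]
      have hle : Subgroup.closure D ≤ Subgroup.centralizer {d} := by
        rw [Subgroup.closure_le]
        intro y hy
        rw [SetLike.mem_coe, Subgroup.mem_centralizer_iff]
        intro z hz
        rw [Set.mem_singleton_iff] at hz
        rw [hz]
        exact (hcon y hy).eq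
      intro g
      have hg : g ∈ Subgroup.centralizer {d} := hle (hgen ▸ Subgroup.mem_top g)
      exact (Subgroup.mem_centralizer_iff.mp hg d rfl).symm
    obtain ⟨g, hg⟩ := htrans v hPd.1
    apply hPd.2.1
    rw [hg]
    have := Subgroup.mem_center_iff.mp hcen g
    rw [this, mul_inv_cancel_right]
  obtain ⟨a, ha, hda⟩ := hexa
  have hav : ¬ Commute a v := fun h => hda ((hPd.2.2.2.2 a ha).mp h.symm)
  obtain ⟨φ, hφinj, h01, h12, h23⟩ :=
    Cfsg.Agent.h26S4.exists_S4_of_string hTS hd ha hPd.1 hPd.2.1.symm hPd.2.2.1 hda hav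
  -- the images of the transpositions
  have hconjφ : ∀ σ τ : Equiv.Perm (Fin 4), φ τ ∈ D → φ (σ * τ * σ⁻¹) ∈ D := by
    intro σ τ h
    rw [map_mul, map_mul, map_inv]
    exact hconj _ _ h
  have hdD : φ (Equiv.swap 0 1) ∈ D := by rw [h01]; exact hd
  have haD : φ (Equiv.swap 1 2) ∈ D := by rw [h12]; exact ha
  have e02 : (Equiv.swap (0 : Fin 4) 2) = Equiv.swap 0 1 * Equiv.swap 1 2 * (Equiv.swap 0 1)⁻¹ := by
    decide
  have e13 : (Equiv.swap (1 : Fin 4) 3) =
      (Equiv.swap 0 1 * Equiv.swap 2 3) * Equiv.swap 0 2 * (Equiv.swap 0 1 * Equiv.swap 2 3)⁻¹ := by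
    decide
  have e03 : (Equiv.swap (0 : Fin 4) 3) =
      (Equiv.swap 0 1 * Equiv.swap 2 3) * Equiv.swap 1 2 * (Equiv.swap 0 1 * Equiv.swap 2 3)⁻¹ := by
    decide
  have hbD : φ (Equiv.swap 0 2) ∈ D := by rw [e02]; exact hconjφ _ _ haD
  have hb'D : φ (Equiv.swap 1 3) ∈ D := by rw [e13]; exact hconjφ _ _ hbD
  have ha'D : φ (Equiv.swap 0 3) ∈ D := by rw [e03]; exact hconjφ _ _ haD
  -- partners inside the image
  have hPa : Partner D a (φ (Equiv.swap 0 3)) := by
    obtain ⟨a', hPa'⟩ := hP a ha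
    have hc : Commute a (φ (Equiv.swap 0 3)) := by
      rw [← h12]
      have : Commute (Equiv.swap (1 : Fin 4) 2) (Equiv.swap (0 : Fin 4) 3) := by
        show _ * _ = _ * _
        decide
      exact this.map φ
    have hne : φ (Equiv.swap 0 3) ≠ a := by
      rw [← h12]
      exact fun h => (by decide : (Equiv.swap (0 : Fin 4) 3) ≠ Equiv.swap 1 2) (hφinj h)
    rcases hPa'.2.2.2.1 _ ha'D hc with h | h
    · exact (hne h).elim
    · rw [h]; exact hPa'
  have hPb : Partner D (φ (Equiv.swap 0 2)) (φ (Equiv.swap 1 3)) := by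
    obtain ⟨b', hPb'⟩ := hP _ hbD
    have hc : Commute (φ (Equiv.swap 0 2)) (φ (Equiv.swap 1 3)) := by
      have : Commute (Equiv.swap (0 : Fin 4) 2) (Equiv.swap (1 : Fin 4) 3) := by
        show _ * _ = _ * _
        decide
      exact this.map φ
    have hne : φ (Equiv.swap 1 3) ≠ φ (Equiv.swap 0 2) :=
      fun h => (by decide : (Equiv.swap (1 : Fin 4) 3) ≠ Equiv.swap 0 2) (hφinj h)
    rcases hPb'.2.2.2.1 _ hb'D hc with h | h
    · exact (hne h).elim
    · rw [h]; exact hPb'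
  -- every member of D lies in the image
  have hDle : D ⊆ (φ.range : Set G) := by
    intro e he
    by_contra heH
    have hnd : ¬ Commute e d := by
      intro h
      rcases hPd.2.2.2.1 e he h.symm with h' | h'
      · exact heH ⟨_, h01.trans h'.symm⟩
      · exact heH ⟨_, h23.trans h'.symm⟩
    have hna : ¬ Commute e a := by
      intro h
      rcases hPa.2.2.2.1 e he h.symm with h' | h'
      · exact heH ⟨_, h12.trans h'.symm⟩
      · exact heH ⟨_, h'.symm⟩
    have hnb : ¬ Commute e (φ (Equiv.swap 0 2)) := by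
      intro h
      rcases hPb.2.2.2.1 e he h.symm with h' | h'
      · exact heH ⟨_, h'.symm⟩
      · exact heH ⟨_, h'.symm⟩
    obtain ⟨e', hPe⟩ := hP e he
    have f1 := partner_formula hTS hconj he hd hPe hPd hnd
    have f2 := partner_formula hTS hconj he ha hPe hPa hna
    have f3 := partner_formula hTS hconj he hbD hPe hPb hnb
    have ht : φ (Equiv.swap 0 2) * φ (Equiv.swap 1 3) = (d * v) * (a * φ (Equiv.swap 0 3)) := by
      have e : (Equiv.swap (0 : Fin 4) 2 * Equiv.swap 1 3) =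
          (Equiv.swap 0 1 * Equiv.swap 2 3) * (Equiv.swap 1 2 * Equiv.swap 0 3) := by decide
      rw [← h01, ← h23, ← h12, ← map_mul, ← map_mul, ← map_mul, ← map_mul, e]
    have htt : (d * v) * (d * v) = 1 := by
      rw [← h01, ← h23, ← map_mul, ← map_mul]
      have : (Equiv.swap (0 : Fin 4) 1 * Equiv.swap 2 3) * (Equiv.swap 0 1 * Equiv.swap 2 3) = 1 := by
        decide
      rw [this, map_one]
    have hee : e' = e := by
      calc e' = (φ (Equiv.swap 0 2) * φ (Equiv.swap 1 3)) * e *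
            (φ (Equiv.swap 0 2) * φ (Equiv.swap 1 3))⁻¹ := f3
        _ = (d * v) * ((a * φ (Equiv.swap 0 3)) * e * (a * φ (Equiv.swap 0 3))⁻¹) * (d * v)⁻¹ := by
            rw [ht]; group
        _ = (d * v) * e' * (d * v)⁻¹ := by rw [← f2]
        _ = (d * v) * ((d * v) * e * (d * v)⁻¹) * (d * v)⁻¹ := by rw [← f1]
        _ = ((d * v) * (d * v)) * e * ((d * v) * (d * v))⁻¹ := by group
        _ = e := by rw [htt]; group
    exact hPe.2.1 hee
  have hsurj : Function.Surjective φ := by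
    rw [← MonoidHom.range_eq_top]
    apply top_le_iff.mp
    rw [← hgen, Subgroup.closure_le]
    exact hDle
  exact ⟨(MulEquiv.ofBijective φ ⟨hφinj, hsurj⟩).symm⟩

end Cfsg.Agent.S5355
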