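import Cfsg.Statements.S5358
-- import your own Cfsg.Agent.* helpers here

set_option autoImplicit false
open scoped MatrixGroups
open Cfsg Matrix

namespace Cfsg.Agent.S5358

theorem polarVec_dot (n : ℕ) (Q : QuadraticForm (ZMod 3) (Fin n → ZMod 3)) (w x : Fin n → ZMod 3) :
    Cfsg.polarVec (⇑Q) w ⬝ᵥ x = QuadraticMap.polar (⇑Q) w x := by
  have h := LinearMap.pi_apply_eq_sum_univ (QuadraticMap.polarBilin Q w) x
  have h2 : ∀ i : Fin n, (fun j => if i = j then (1 : ZMod 3) else 0) = Pi.single i 1 := by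
    intro i
    ext j
    simp [Pi.single_apply, eq_comm]
  simp only [h2] at h
  rw [QuadraticMap.polarBilin_apply_apply] at h
  rw [h]
  unfold Cfsg.polarVec dotProduct
  apply Finset.sum_congr rfl
  intro j _
  rw [QuadraticMap.polarBilin_apply_apply, smul_eq_mul, mul_comm]

theorem refl_mulVec (n : ℕ) (Q : QuadraticForm (ZMod 3) (Fin n → ZMod 3)) (w x : Fin n → ZMod 3) :
    Cfsg.reflectionMatrix (⇑Q) w *ᵥ x = x - ((Q w)⁻¹ * QuadraticMap.polar (⇑Q) w x) • w := by
  unfold Cfsg.reflectionMatrix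
  rw [Matrix.sub_mulVec, Matrix.one_mulVec, Matrix.smul_mulVec, Matrix.vecMulVec_mulVec,
    op_smul_eq_smul, polarVec_dot, smul_smul]

theorem commute_one_sub {R : Type*} [Ring R] {X Y : R} (h : Commute X Y) : Commute (1 - X) (1 - Y) :=
  ((Commute.one_left _).sub_left ((Commute.one_right X).sub_right h))

/-- Let Q be a non-degenerate quadratic form on the n-dimensional coordinate space over the field with three elements and u, v vectors of the same non-zero norm Q(u) = Q(v) spanning different lines (v ≠ u and v ≠ −u). Then the reflection matrices of u and v commute if and only if u and v are orthogonal for the polar form of Q. -/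
theorem result (n : ℕ) (Q : QuadraticForm (ZMod 3) (Fin n → ZMod 3)) (hQ : (QuadraticMap.polarBilin Q).Nondegenerate) (u v : Fin n → ZMod 3) (hu : Q u ≠ 0) (huv : Q u = Q v) (h1 : v ≠ u) (h2 : v ≠ -u) : Commute (Cfsg.reflectionMatrix (⇑Q) u) (Cfsg.reflectionMatrix (⇑Q) v) ↔ QuadraticMap.polar (⇑Q) u v = 0 := by
  constructor
  · intro hc
    by_contra hβ
    have hvec : Cfsg.reflectionMatrix (⇑Q) u *ᵥ (Cfsg.reflectionMatrix (⇑Q) v *ᵥ u) =
        Cfsg.reflectionMatrix (⇑Q) v *ᵥ (Cfsg.reflectionMatrix (⇑Q) u *ᵥ u) := by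
      rw [Matrix.mulVec_mulVec, Matrix.mulVec_mulVec, hc.eq]
    simp only [refl_mulVec] at hvec
    have hvu : QuadraticMap.polar (⇑Q) v u = QuadraticMap.polar (⇑Q) u v := QuadraticMap.polar_comm _ _ _
    have huu : QuadraticMap.polar (⇑Q) u u = 2 * Q u := by
      rw [QuadraticMap.polar_self, two_smul, two_mul]
    simp only [QuadraticMap.polar_sub_right, QuadraticMap.polar_smul_right, smul_eq_mul, huu, hvu,
      ← huv] at hvec
    have haQ : (Q u)⁻¹ * Q u = 1 := inv_mul_cancel₀ hu
    have ha0 : (Q u)⁻¹ ≠ 0 := inv_ne_zero hu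
    generalize QuadraticMap.polar (⇑Q) u v = β at hvec hβ
    generalize (Q u)⁻¹ = a at hvec haQ ha0
    have hlam : v = ((a * β) * 2⁻¹) • u := by
      funext i
      have hi := congrFun hvec i
      simp only [Pi.sub_apply, Pi.smul_apply, smul_eq_mul] at hi
      have h2ne : (2 : ZMod 3) ≠ 0 := by decide
      have haβ : a * β ≠ 0 := mul_ne_zero ha0 hβ
      have h22 : (2 : ZMod 3) * 2⁻¹ = 1 := mul_inv_cancel₀ h2ne
      have key : (a * β) * (2 * v i) = (a * β) * ((a * β) * u i) := by
        linear_combination (-1) * hi - (2 * a * β * v i) * haQ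
      have key2 := mul_left_cancel₀ haβ key
      simp only [Pi.smul_apply, smul_eq_mul]
      linear_combination (2⁻¹ : ZMod 3) * key2 - (v i) * h22
    have hQv : Q v = ((a * β) * 2⁻¹) * ((a * β) * 2⁻¹) * Q u := by
      conv_lhs => rw [hlam]
      rw [QuadraticMap.map_smul, smul_eq_mul]
    have hsq : ((a * β) * 2⁻¹) * ((a * β) * 2⁻¹) = 1 := by
      have : ((a * β) * 2⁻¹) * ((a * β) * 2⁻¹) * Q u = 1 * Q u := by rw [one_mul, ← hQv, huv]
      exact mul_right_cancel₀ hu this
    rcases mul_self_eq_one_iff.mp hsq with h | h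
    · apply h1
      rw [hlam, h, one_smul]
    · apply h2
      rw [hlam, h, neg_smul, one_smul]
  · intro hβ
    unfold Cfsg.reflectionMatrix
    apply commute_one_sub
    have hvu : QuadraticMap.polar (⇑Q) v u = 0 := by rw [QuadraticMap.polar_comm]; exact hβ
    have hAB : Matrix.vecMulVec u (Cfsg.polarVec (⇑Q) u) * Matrix.vecMulVec v (Cfsg.polarVec (⇑Q) v) = 0 := by
      rw [Matrix.vecMulVec_mul_vecMulVec, polarVec_dot, hβ, zero_smul, Matrix.vecMulVec_zero]
    have hBA : Matrix.vecMulVec v (Cfsg.polarVec (⇑Q) v) * Matrix.vecMulVec u (Cfsg.polarVec (⇑Q) u) = 0 := by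
      rw [Matrix.vecMulVec_mul_vecMulVec, polarVec_dot, hvu, zero_smul, Matrix.vecMulVec_zero]
    have hc : Commute (Matrix.vecMulVec u (Cfsg.polarVec (⇑Q) u)) (Matrix.vecMulVec v (Cfsg.polarVec (⇑Q) v)) := by
      show _ * _ = _ * _
      rw [hAB, hBA]
    exact (hc.smul_left _).smul_right _

end Cfsg.Agent.S5358
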