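import Cfsg.Statements.S5360
import Cfsg.Agent.Lib_helper26_RFL2

set_option autoImplicit false
open scoped MatrixGroups
open Cfsg

namespace Cfsg.Agent.S5360

/-- Let Q be a non-degenerate quadratic form on the n-dimensional coordinate space over the field with three elements, n ≥ 5, c a non-zero scalar, and R the subgroup of the isometry group generated by the reflections of norm c. Then the commutator subgroup of R is quasisimple of index at most 2, the generalized Fitting subgroup of R is the product of the centre and the commutator subgroup, and R acts primitively by conjugation on its reflections of norm c. -/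
theorem result (n : ℕ) (hn : 5 ≤ n) (Q : QuadraticForm (ZMod 3) (Fin n → ZMod 3)) (hQ : (QuadraticMap.polarBilin Q).Nondegenerate) (c : ZMod 3) (hc : c ≠ 0) : Cfsg.IsQuasisimple (commutator ↥(Cfsg.reflectionSubgroup (⇑Q) c)) ∧ (commutator ↥(Cfsg.reflectionSubgroup (⇑Q) c)).index ≤ 2 ∧ Cfsg.generalizedFittingSubgroup ↥(Cfsg.reflectionSubgroup (⇑Q) c) = Subgroup.center ↥(Cfsg.reflectionSubgroup (⇑Q) c) ⊔ commutator ↥(Cfsg.reflectionSubgroup (⇑Q) c) ∧ Cfsg.IsPrimitiveUnderConj {g : ↥(Cfsg.reflectionSubgroup (⇑Q) c) | (g : ↥(Cfsg.isometryGroup (ZMod 3) (⇑Q))) ∈ Cfsg.reflectionsOfNorm (⇑Q) c} := by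
  classical
  haveI : Fact (Nat.Prime 3) := ⟨Nat.prime_three⟩
  haveI : Fact (Nat.Prime 2) := ⟨Nat.prime_two⟩
  have hn' : 5 ≤ Fintype.card (Fin n) := by rw [Fintype.card_fin]; exact hn
  have hDcls := Cfsg.Agent.S5357.result n hn Q hQ c hc
  obtain ⟨a, ha, b, hb, hab, hcab⟩ := Cfsg.Agent.h26RFL.exists_pair Q c hQ hn' hc
  have hV : ∀ x ∈ {g : ↥(Cfsg.reflectionSubgroup (⇑Q) c) | (g : ↥(Cfsg.isometryGroup (ZMod 3) (⇑Q))) ∈ Cfsg.reflectionsOfNorm (⇑Q) c}, ∀ y ∈ {g : ↥(Cfsg.reflectionSubgroup (⇑Q) c) | (g : ↥(Cfsg.isometryGroup (ZMod 3) (⇑Q))) ∈ Cfsg.reflectionsOfNorm (⇑Q) c}, (∀ e ∈ {g : ↥(Cfsg.reflectionSubgroup (⇑Q) c) | (g : ↥(Cfsg.isometryGroup (ZMod 3) (⇑Q))) ∈ Cfsg.reflectionsOfNorm (⇑Q) c}, Commute y e ↔ Commute x e) → y = x :=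
    fun x hx y hy h => Cfsg.Agent.h26RFL.V_triv Q c hQ hn' hc x y hx hy h
  have hW : ∀ x ∈ {g : ↥(Cfsg.reflectionSubgroup (⇑Q) c) | (g : ↥(Cfsg.isometryGroup (ZMod 3) (⇑Q))) ∈ Cfsg.reflectionsOfNorm (⇑Q) c}, ∀ y ∈ {g : ↥(Cfsg.reflectionSubgroup (⇑Q) c) | (g : ↥(Cfsg.isometryGroup (ZMod 3) (⇑Q))) ∈ Cfsg.reflectionsOfNorm (⇑Q) c}, Cfsg.Agent.h26TTW.Dc {g : ↥(Cfsg.reflectionSubgroup (⇑Q) c) | (g : ↥(Cfsg.isometryGroup (ZMod 3) (⇑Q))) ∈ Cfsg.reflectionsOfNorm (⇑Q) c} x = Cfsg.Agent.h26TTW.Dc {g : ↥(Cfsg.reflectionSubgroup (⇑Q) c) | (g : ↥(Cfsg.isometryGroup (ZMod 3) (⇑Q))) ∈ Cfsg.reflectionsOfNorm (⇑Q) c} y → y = x :=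
    fun x hx y hy h => Cfsg.Agent.h26RFL.W_triv Q c hQ hc x y hx hy h
  have hconn := Cfsg.Agent.h26RFL.conn Q c hQ hn' hc
  haveI hfin : Finite ↥(Cfsg.reflectionSubgroup (⇑Q) c) := inferInstance
  generalize hDdef : {g : ↥(Cfsg.reflectionSubgroup (⇑Q) c) | (g : ↥(Cfsg.isometryGroup (ZMod 3) (⇑Q))) ∈ Cfsg.reflectionsOfNorm (⇑Q) c} = D at *
  have hD2 : ∃ a ∈ D, ∃ b ∈ D, a ≠ b := ⟨a, ha, b, hb, hab⟩
  have hDcls' := hDcls
  obtain ⟨hTS, ⟨d0, hd0, hcls⟩, hgen⟩ := hDcls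
  have hconj : ∀ g : ↥(Cfsg.reflectionSubgroup (⇑Q) c), ∀ y ∈ D, g * y * g⁻¹ ∈ D := by
    intro g y hy
    rw [hcls] at hy ⊢
    obtain ⟨c', hc'⟩ := isConj_iff.mp (show IsConj d0 y from hy)
    show IsConj d0 (g * y * g⁻¹)
    rw [isConj_iff]
    exact ⟨g * c', by rw [← hc']; group⟩
  have htrans : ∀ x ∈ D, ∀ y ∈ D, ∃ g : ↥(Cfsg.reflectionSubgroup (⇑Q) c), g * x * g⁻¹ = y := by
    intro x hx y hy
    have h1 : IsConj d0 x := by
      have := hx; rw [hcls] at this; exact this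
    have h2 : IsConj d0 y := by
      have := hy; rw [hcls] at this; exact this
    obtain ⟨g, hg⟩ := isConj_iff.mp (h1.symm.trans h2)
    exact ⟨g, hg⟩
  haveI hN2 : (Cfsg.pCore 2 ↥(Cfsg.reflectionSubgroup (⇑Q) c)).Normal := Cfsg.Agent.helper15.pCore_normal' 2
  haveI hN3 : (Cfsg.pCore 3 ↥(Cfsg.reflectionSubgroup (⇑Q) c)).Normal := Cfsg.Agent.helper15.pCore_normal' 3
  have h2 : Cfsg.pCore 2 ↥(Cfsg.reflectionSubgroup (⇑Q) c) ≤ Subgroup.center ↥(Cfsg.reflectionSubgroup (⇑Q) c) := by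
    apply Cfsg.Agent.h26TTQ.le_center_of_fix_one hgen htrans ha
    intro q hq
    have h49 := Cfsg.Agent.S5349.result hDcls' hD2 ha
    have hmem : q * a * q⁻¹ ∈ {v : ↥(Cfsg.reflectionSubgroup (⇑Q) c) | ∃ g ∈ Cfsg.pCore 2 ↥(Cfsg.reflectionSubgroup (⇑Q) c), v = g * a * g⁻¹} := ⟨q, hq, rfl⟩
    rw [← h49.2] at hmem
    exact hV a ha _ hmem.1 hmem.2
  have h3 : Cfsg.pCore 3 ↥(Cfsg.reflectionSubgroup (⇑Q) c) ≤ Subgroup.center ↥(Cfsg.reflectionSubgroup (⇑Q) c) := by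
    apply Cfsg.Agent.h26TTQ.le_center_of_fix_one hgen htrans ha
    intro q hq
    have h50 := Cfsg.Agent.S5350.result hDcls' hD2 ha
    have hmem : q * a * q⁻¹ ∈ {w : ↥(Cfsg.reflectionSubgroup (⇑Q) c) | ∃ g ∈ Cfsg.pCore 3 ↥(Cfsg.reflectionSubgroup (⇑Q) c), w = g * a * g⁻¹} := ⟨q, hq, rfl⟩
    rw [← h50.2] at hmem
    exact hW a ha _ hmem.1 hmem.2
  obtain ⟨L, hC⟩ := Cfsg.Agent.h26TTQ.exists_cdata hDcls' hD2 h2 h3
  have hidx := Cfsg.Agent.h26TTQ.index_le_two_of_connected hTS hconj hgen hC hconn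
  have hprim := Cfsg.Agent.h26TTQ.primitive_of_index hDcls' hD2 h2 hC hidx
  haveI := hC.normal
  have hL : L = commutator ↥(Cfsg.reflectionSubgroup (⇑Q) c) := by
    apply le_antisymm
    · calc L = ⁅L, L⁆ := hC.comp.2.1.symm
        _ ≤ ⁅(⊤ : Subgroup ↥(Cfsg.reflectionSubgroup (⇑Q) c)), ⊤⁆ := Subgroup.commutator_mono le_top le_top
        _ = commutator ↥(Cfsg.reflectionSubgroup (⇑Q) c) := (commutator_def _).symm
    · exact Cfsg.Agent.h26RFL.commutator_le_of_index_le_two L hidx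
  refine ⟨?_, ?_, ?_, hprim⟩
  · rw [← hL]; exact (Cfsg.Agent.helper7.qs_iff_QS L).mpr hC.comp.2
  · rw [← hL]; exact hidx
  · rw [← hL, Cfsg.Agent.helper7.generalizedFittingSubgroup_eq]
    unfold Cfsg.Agent.helper7.fstarOf
    rw [hC.layer, hC.fit, sup_comm]

end Cfsg.Agent.S5360
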