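import Cfsg.Statements.S5363
-- import your own Cfsg.Agent.* helpers here

set_option autoImplicit false
open Cfsg

namespace Cfsg.Agent.S5363

/-- Let D be a conjugation-invariant set of involutions of a finite group G. Then every product of two members of D has odd order or order 2 if and only if, for every a in D and every b in D different from a and commuting with a, the members of D commuting with a b are exactly those commuting with both a and b. -/
theorem result {G : Type*} [Group G] [Finite G] {D : Set G} (hinv : ∀ d ∈ D, orderOf d = 2) (hconj : ∀ g : G, ∀ d ∈ D, g * d * g⁻¹ ∈ D) : (∀ a ∈ D, ∀ b ∈ D, Odd (orderOf (a * b)) ∨ orderOf (a * b) = 2) ↔ ∀ a ∈ D, ∀ b ∈ D, b ≠ a → Commute a b → {y : G | y ∈ D ∧ Commute (a * b) y} = {y : G | y ∈ D ∧ Commute a y} ∩ {y : G | y ∈ D ∧ Commute b y} := by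
  have sq : ∀ d ∈ D, d * d = 1 := by
    intro d hd
    have := hinv d hd
    rw [← pow_two, ← this, pow_orderOf_eq_one]
  have inv_eq : ∀ d ∈ D, d⁻¹ = d := fun d hd => inv_eq_of_mul_eq_one_left (sq d hd)
  constructor
  · intro h a ha b hb hba hab
    ext y
    constructor
    · rintro ⟨hy, hyz⟩
      have haa := sq a ha
      have hbb := sq b hb
      have hzz : (a * b) * (a * b) = 1 := by
        rw [hab.symm.mul_mul_mul_comm, haa, hbb, one_mul]
      have haz : Commute a (a * b) := (Commute.refl a).mul_right hab
      have hbz : Commute b (a * b) := hab.symm.mul_right (Commute.refl b)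
      have hyb : y * b = (y * a) * (a * b) := by
        rw [mul_assoc, ← mul_assoc a a b, haa, one_mul]
      have hcomm : Commute (y * a) (a * b) := hyz.symm.mul_left haz
      -- commuting with a gives commuting with b
      have key : Commute a y → Commute b y := by
        intro hay
        have : b = a * (a * b) := by rw [← mul_assoc, haa, one_mul]
        rw [this]
        exact hay.mul_left hyz
      have key' : Commute b y → Commute a y := by
        intro hby
        have : a = (a * b) * b := by rw [mul_assoc, hbb, mul_one]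
        rw [this]
        exact hyz.mul_left hby
      have two_comm : ∀ u ∈ D, orderOf (y * u) = 2 → Commute u y := by
        intro u hu h2
        have h3 : (y * u) * (y * u) = 1 := by
          rw [← pow_two, ← h2, pow_orderOf_eq_one]
        have hyy := sq y hy
        have huu := sq u hu
        show u * y = y * u
        calc u * y = (y * y) * (u * y) * (u * u) := by rw [hyy, huu, one_mul, mul_one]
          _ = y * ((y * u) * (y * u)) * u := by simp only [mul_assoc]
          _ = y * u := by rw [h3, mul_one]
      rcases h y hy a ha with hoa | h2a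
      · rcases h y hy b hb with hob | h2b
        · exfalso
          apply hba
          have hpow : (y * b) ^ (orderOf (y * a) * orderOf (y * b)) =
              (y * a) ^ (orderOf (y * a) * orderOf (y * b)) * (a * b) ^ (orderOf (y * a) * orderOf (y * b)) := by
            rw [hyb, hcomm.mul_pow]
          have h1 : (y * b) ^ (orderOf (y * a) * orderOf (y * b)) = 1 := by
            rw [pow_mul', pow_orderOf_eq_one, one_pow]
          have h2 : (y * a) ^ (orderOf (y * a) * orderOf (y * b)) = 1 := by
            rw [pow_mul, pow_orderOf_eq_one, one_pow]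
          rw [h1, h2, one_mul] at hpow
          have hodd : Odd (orderOf (y * a) * orderOf (y * b)) := hoa.mul hob
          obtain ⟨j, hj⟩ := hodd
          rw [hj, pow_succ, pow_mul, pow_two, hzz, one_pow, one_mul] at hpow
          -- a * b = 1
          have : b = a⁻¹ := by
            rw [eq_comm, inv_eq_iff_mul_eq_one]
            exact hpow.symm
          rw [this, inv_eq a ha]
        · have hby := two_comm b hb h2b
          exact ⟨⟨hy, key' hby⟩, ⟨hy, hby⟩⟩
      · have hay := two_comm a ha h2a
        exact ⟨⟨hy, hay⟩, ⟨hy, key hay⟩⟩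
    · rintro ⟨⟨hy, hay⟩, ⟨-, hby⟩⟩
      exact ⟨hy, hay.mul_left hby⟩
  · intro h a ha b hb
    by_contra hcon
    push Not at hcon
    obtain ⟨hnodd, hn2⟩ := hcon
    have haa := sq a ha
    have hbb := sq b hb
    have hn0 : orderOf (a * b) ≠ 0 := (orderOf_pos (a * b)).ne'
    rw [Nat.not_odd_iff_even] at hnodd
    obtain ⟨m, hm⟩ := hnodd
    have hm0 : m ≠ 0 := by
      rintro rfl
      exact hn0 (by rw [hm])
    set x := a * b with hx
    have hxinv : x⁻¹ = b * a := by
      rw [hx, mul_inv_rev, inv_eq a ha, inv_eq b hb]
    have hax : a * x * a⁻¹ = x⁻¹ := by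
      rw [hxinv, hx, inv_eq a ha, ← mul_assoc, haa, one_mul]
    have hbx : b * x * b⁻¹ = x⁻¹ := by
      rw [hxinv, hx, inv_eq b hb, mul_assoc, mul_assoc, hbb, mul_one]
    have haxk : ∀ k : ℕ, a * x ^ k * a⁻¹ = (x ^ k)⁻¹ := by
      intro k
      rw [← conj_pow, hax, inv_pow]
    have hbxk : ∀ k : ℕ, b * x ^ k * b⁻¹ = (x ^ k)⁻¹ := by
      intro k
      rw [← conj_pow, hbx, inv_pow]
    have hzz : x ^ m * x ^ m = 1 := by
      rw [← pow_add, ← hm, pow_orderOf_eq_one]
    have hzinv : (x ^ m)⁻¹ = x ^ m := inv_eq_of_mul_eq_one_left hzz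
    have hz1 : x ^ m ≠ 1 := by
      intro h1
      have := orderOf_dvd_of_pow_eq_one h1
      have hle := Nat.le_of_dvd (Nat.pos_of_ne_zero hm0) this
      omega
    have haz : Commute a (x ^ m) := by
      show a * x ^ m = x ^ m * a
      have := haxk m
      rw [hzinv] at this
      calc a * x ^ m = (a * x ^ m * a⁻¹) * a := by simp [mul_assoc]
        _ = x ^ m * a := by rw [this]
    have hbz : Commute b (x ^ m) := by
      show b * x ^ m = x ^ m * b
      have := hbxk m
      rw [hzinv] at this
      calc b * x ^ m = (b * x ^ m * b⁻¹) * b := by simp [mul_assoc]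
        _ = x ^ m * b := by rw [this]
    have hmove : ∀ k : ℕ, a * x ^ k = (x ^ k)⁻¹ * a := by
      intro k
      have := haxk k
      calc a * x ^ k = (a * x ^ k * a⁻¹) * a := by simp [mul_assoc]
        _ = (x ^ k)⁻¹ * a := by rw [this]
    have hcD : a * x ^ m ∈ D := by
      rcases Nat.even_or_odd' m with ⟨k, hk | hk⟩
      · have : a * x ^ m = (x ^ k)⁻¹ * a * ((x ^ k)⁻¹)⁻¹ := by
          rw [inv_inv, ← hmove k, mul_assoc, ← pow_add, hk, two_mul]
        rw [this]
        exact hconj _ a ha
      · have : a * x ^ m = (x ^ k)⁻¹ * b * ((x ^ k)⁻¹)⁻¹ := by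
          rw [inv_inv, hk, two_mul, pow_succ, pow_add]
          have hab' : a * x = b := by rw [hx, ← mul_assoc, haa, one_mul]
          calc a * (x ^ k * x ^ k * x) = (a * x ^ k) * (x ^ k * x) := by simp only [mul_assoc]
            _ = (x ^ k)⁻¹ * a * (x ^ k * x) := by rw [hmove k]
            _ = (x ^ k)⁻¹ * a * (x * x ^ k) := by rw [← pow_succ, ← pow_succ']
            _ = (x ^ k)⁻¹ * (a * x) * x ^ k := by simp only [mul_assoc]
            _ = (x ^ k)⁻¹ * b * x ^ k := by rw [hab']
        rw [this]
        exact hconj _ b hb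
    have hca : a * x ^ m ≠ a := by
      intro h1
      apply hz1
      have := congrArg (a⁻¹ * ·) h1
      simpa using this
    have hcomm : Commute a (a * x ^ m) := (Commute.refl a).mul_right haz
    have hset := h a ha (a * x ^ m) hcD hca hcomm
    have hprod : a * (a * x ^ m) = x ^ m := by rw [← mul_assoc, haa, one_mul]
    rw [hprod] at hset
    have hbmem : b ∈ {y : G | y ∈ D ∧ Commute (x ^ m) y} := ⟨hb, hbz.symm⟩
    rw [hset] at hbmem
    have hab : Commute a b := hbmem.1.2
    have hx2 : x ^ 2 = 1 := by
      rw [pow_two, hx, hab.symm.mul_mul_mul_comm, haa, hbb, one_mul]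
    have hdvd := orderOf_dvd_of_pow_eq_one hx2
    have hle := Nat.le_of_dvd (by norm_num) hdvd
    have : m = 1 := by omega
    apply hn2
    rw [hm, this]

end Cfsg.Agent.S5363
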