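import Mathlib
import Cfsg.Statements.S5367
import Cfsg.Agent.Lib_helper17_Fischer

set_option autoImplicit false
open Cfsg

namespace Cfsg.Agent.S5367

open Cfsg.Agent.helper17.Fischer

/-- Let D be a conjugation-invariant generating set of 3-transpositions of a finite group G. Then the line system on D whose lines are the triples {x, y, y x y⁻¹} for non-commuting members x, y of D is a Fischer space: two points lie on at most one line, lines have three points, and two different meeting lines generate a subspace isomorphic to the dual affine plane of order two or to the affine plane of order three. -/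
theorem result {G : Type*} [Group G] [Finite G] {D : Set G} (hD : Cfsg.IsThreeTranspositionGroup D) :
    Cfsg.IsFischerSpace (Cfsg.threeTranspositionLines D) := by
  obtain ⟨hT, hc, _⟩ := hD
  refine ⟨partial_linear hT hc, card_three hT hc, ?_⟩
  intro l hl m hm hlm hnon
  obtain ⟨p, hpl, hpm⟩ := hnon
  by_cases hcase : ∃ x ∈ l, x ≠ p ∧ ∃ y ∈ m, y ≠ p ∧ Commute (x : G) (y : G)
  · obtain ⟨x, hxl, hxp, y, hym, hyp, hxy⟩ := hcase
    left
    exact dual_case hT hc l m hl hm hlm p hpl hpm x hxl hxp y hym hyp hxy
  · right
    apply affine_case hT hc l m hl hm p hpl hpm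
    intro x hx hxp y hy hyp hcomm
    exact hcase ⟨x, hx, hxp, y, hy, hyp, hcomm⟩

end Cfsg.Agent.S5367
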