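import Mathlib
import Cfsg.Statements.S5393
import Cfsg.Agent.Lib_helper27_Golay

set_option autoImplicit false
open Cfsg

namespace Cfsg.Agent.S5393

open Cfsg.Agent.helper27

theorem const_of_fixed (w : GolayPt → ZMod 2) (hfix : wperm gshift w = w)
    (hsum : ∑ p, w p = 0) : w = 0 ∨ w = 1 := by
  have hstep : ∀ x : ZMod 23, w (some (x - 1)) = w (some x) := by
    intro x
    have := congrFun hfix (some x)
    exact this
  obtain ⟨c, hc⟩ : ∃ c : ZMod 2, c = w (some 0) := ⟨_, rfl⟩
  have hnat : ∀ n : ℕ, w (some (n : ZMod 23)) = c := by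
    intro n
    induction n with
    | zero => rw [hc]; simp
    | succ n ih =>
      have h := hstep ((n + 1 : ℕ) : ZMod 23)
      have e : ((n + 1 : ℕ) : ZMod 23) - 1 = (n : ZMod 23) := by push_cast; ring
      rw [e] at h
      rw [← h]; exact ih
  have hall : ∀ x : ZMod 23, w (some x) = c := by
    intro x
    have := hnat x.val
    rwa [ZMod.natCast_zmod_val] at this
  have hnone : w none = c := by
    rw [Fintype.sum_option] at hsum
    have h2 : ∑ x : ZMod 23, w (some x) = ∑ _x : ZMod 23, c :=
      Finset.sum_congr rfl (fun x _ => hall x)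
    rw [h2, Finset.sum_const, Finset.card_univ, ZMod.card] at hsum
    generalize w none = d at hsum ⊢
    clear hc hnat hall h2
    revert c d
    decide
  have hconst : ∀ p, w p = c := by
    rintro (_ | x)
    · exact hnone
    · exact hall x
  have hc01 : c = 0 ∨ c = 1 := by
    clear hc hnat hall hnone hconst
    revert c
    decide
  rcases hc01 with h0 | h0
  · left; funext p; rw [hconst, h0]; rfl
  · right; funext p; rw [hconst, h0]; rfl

theorem pow_two_mod (j : ℕ) (hj : j ≤ 12) (h : 2 ^ j % 23 = 2) : j = 1 ∨ j = 12 := by
  revert j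
  decide


/-- The length-24 code built from the squares modulo 23 contains the all-ones word, and the code modulo the all-ones word is an irreducible module over the field with two elements for the code's automorphism group: a subspace of the code that contains the all-ones word and is invariant under every coordinate permutation preserving the code is either the span of the all-ones word or the whole code. -/
theorem result : (fun _ : Cfsg.GolayPt => (1 : ZMod 2)) ∈ Cfsg.golayCode ∧ ∀ W : Submodule (ZMod 2) (Cfsg.GolayPt → ZMod 2), (fun _ => (1 : ZMod 2)) ∈ W → W ≤ Cfsg.golayCode → (∀ σ ∈ Cfsg.M24, ∀ w ∈ W, (fun p => w (σ.symm p)) ∈ W) → W = Submodule.span (ZMod 2) {fun _ => (1 : ZMod 2)} ∨ W = Cfsg.golayCode := by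
  refine ⟨ones_mem_golayCode, ?_⟩
  intro W h1 hWC hinv
  have h1' : (1 : GolayPt → ZMod 2) ∈ W := h1
  haveI : Fact (Nat.Prime 23) := ⟨by norm_num⟩
  have hHM : Subgroup.zpowers gshift ≤ M24 := (Subgroup.zpowers_le).2 gshift_mem_M24
  letI : MulAction (Subgroup.zpowers gshift) W :=
    { smul := fun σ w => ⟨wperm (σ : Equiv.Perm GolayPt) w, hinv σ (hHM σ.2) w w.2⟩
      one_smul := fun w => Subtype.ext rfl
      mul_smul := fun σ τ w => Subtype.ext rfl }
  have hsmul : ∀ (σ : Subgroup.zpowers gshift) (w : W),
      ((σ • w : W) : GolayPt → ZMod 2) = wperm (σ : Equiv.Perm GolayPt) w := fun σ w => rfl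
  have hp : IsPGroup 23 (Subgroup.zpowers gshift) := by
    apply IsPGroup.of_card (n := 1)
    rw [Nat.card_zpowers, orderOf_gshift, pow_one]
  have hmod := hp.card_modEq_card_fixedPoints W
  -- fixed points
  have hfixset : MulAction.fixedPoints (Subgroup.zpowers gshift) W
      = {(0 : W), (⟨1, h1'⟩ : W)} := by
    ext w
    rw [MulAction.mem_fixedPoints]
    simp only [Set.mem_insert_iff, Set.mem_singleton_iff]
    constructor
    · intro hw
      have h2 := hw ⟨gshift, Subgroup.mem_zpowers gshift⟩
      have h3 : wperm gshift (w : GolayPt → ZMod 2) = w := by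
        have := congrArg Subtype.val h2
        rw [hsmul] at this
        exact this
      rcases const_of_fixed w h3 (golayCode_sum_eq_zero _ (hWC w.2)) with e | e
      · left; exact Subtype.ext e
      · right; exact Subtype.ext e
    · rintro (e | e) σ
      · rw [e]; apply Subtype.ext; rw [hsmul]; rfl
      · rw [e]; apply Subtype.ext; rw [hsmul]; rfl
  have hne : (0 : W) ≠ (⟨1, h1'⟩ : W) := by
    intro h
    have h2 := congrArg Subtype.val h
    have h3 : (0 : ZMod 2) = 1 := congrFun h2 none
    exact absurd h3 (by decide)
  have hfixcard : Nat.card (MulAction.fixedPoints (Subgroup.zpowers gshift) W) = 2 := by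
    rw [hfixset, Nat.card_coe_set_eq, Set.ncard_pair hne]
  rw [hfixcard] at hmod
  have hcardW : Nat.card W = 2 ^ Module.finrank (ZMod 2) W := by
    rw [Module.natCard_eq_pow_finrank (K := ZMod 2) (V := W), Nat.card_zmod]
  rw [hcardW] at hmod
  have hle : Module.finrank (ZMod 2) W ≤ 12 :=
    (Submodule.finrank_mono hWC).trans finrank_golayCode_le
  have hmod' : 2 ^ Module.finrank (ZMod 2) W % 23 = 2 := hmod
  rcases pow_two_mod _ hle hmod' with hj | hj
  · left
    symm
    apply Submodule.eq_of_le_of_finrank_le
    · rw [Submodule.span_le, Set.singleton_subset_iff]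
      exact h1
    · rw [hj]
      have hne1 : (fun _ : GolayPt => (1 : ZMod 2)) ≠ 0 := by
        intro h
        have h3 : (1 : ZMod 2) = 0 := congrFun h none
        exact absurd h3 (by decide)
      rw [finrank_span_singleton hne1]
  · right
    apply Submodule.eq_of_le_of_finrank_le hWC
    rw [hj]
    exact finrank_golayCode_le

end Cfsg.Agent.S5393
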