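import Mathlib
import Cfsg.Statements.S5394
import Cfsg.Agent.Lib_helper2_Inv2

set_option autoImplicit false
open Cfsg

namespace Cfsg.Agent.S5394

open Cfsg.Agent.helper2

open Cfsg.Agent.helper2.Golay Cfsg.Agent.helper27


theorem result : (∀ g ∈ Cfsg.M24, orderOf g = 2 → (Finset.univ.filter fun p => g p = p) ∈ Cfsg.octads ∨ ∀ p, g p ≠ p) ∧ (∃ g ∈ Cfsg.M24, orderOf g = 2 ∧ (Finset.univ.filter fun p => g p = p) ∈ Cfsg.octads) ∧ (∃ g ∈ Cfsg.M24, orderOf g = 2 ∧ ∀ p, g p ≠ p) ∧ ∀ g ∈ Cfsg.M24, ∀ h ∈ Cfsg.M24, orderOf g = 2 → orderOf h = 2 → ((∀ p, g p ≠ p) ↔ (∀ p, h p ≠ p)) → ∃ k ∈ Cfsg.M24, k * g * k⁻¹ = h := by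
  refine ⟨?_, ?_, ?_, ?_⟩
  · intro g hg h2
    rcases inv_classes hg h2 with ⟨κ, hκ, h⟩ | ⟨κ, _, h⟩
    · exact Or.inl (fix_of_conj_repA hκ h)
    · exact Or.inr (fpf_of_conj_repB h)
  · refine ⟨gperm repA, repA_mem, orderOf_two_of_sq repA_sq repA_ne_one, ?_⟩
    rw [repA_filter]
    exact o0_mem
  · exact ⟨gperm repB, repB_mem, orderOf_two_of_sq repB_sq repB_ne_one, repB_fpf⟩
  · intro g hg h hh h2g h2h hiff
    rcases inv_classes hg h2g with ⟨κ, hκ, e⟩ | ⟨κ, hκ, e⟩ <;>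
      rcases inv_classes hh h2h with ⟨κ', hκ', e'⟩ | ⟨κ', hκ', e'⟩
    · refine ⟨κ'⁻¹ * κ, Subgroup.mul_mem _ (Subgroup.inv_mem _ hκ') hκ, ?_⟩
      have : κ'⁻¹ * κ * g * (κ'⁻¹ * κ)⁻¹ = κ'⁻¹ * (κ * g * κ⁻¹) * κ' := by group
      rw [this, e, ← e']
      group
    · exact absurd (hiff.mpr (fpf_of_conj_repB e')) (not_fpf_of_conj_repA e)
    · exact absurd (hiff.mp (fpf_of_conj_repB e)) (not_fpf_of_conj_repA e')
    · refine ⟨κ'⁻¹ * κ, Subgroup.mul_mem _ (Subgroup.inv_mem _ hκ') hκ, ?_⟩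
      have : κ'⁻¹ * κ * g * (κ'⁻¹ * κ)⁻¹ = κ'⁻¹ * (κ * g * κ⁻¹) * κ' := by group
      rw [this, e, ← e']
      group

end Cfsg.Agent.S5394
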