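import Mathlib
import Cfsg.Statements.S5396
import Cfsg.Agent.Lib_helper17_ES10
import Cfsg.Agent.S3763

set_option autoImplicit false
open Cfsg

namespace Cfsg.Agent.S5396

open Cfsg.Agent.helper17.ES

theorem two_lt_pow (n : ℕ) (hn : 1 ≤ n) : (2 : ℕ) < 2 ^ (2 * n + 1) := by
  calc 2 = 2 ^ 1 := by norm_num
    _ < 2 ^ (2 * n + 1) := Nat.pow_lt_pow_right (by norm_num) (by omega)

theorem sSup_eq {E : Type} [Group E] [Finite E] (r : ℕ)
    (hle : ∀ A : Subgroup E, Ab A → Ex2 A → Nat.card A ≤ 2 ^ r)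
    (hex : ∃ A : Subgroup E, Ab A ∧ Ex2 A ∧ 2 ^ r ≤ Nat.card A) :
    sSup {k : ℕ | ∃ A : Subgroup E, Cfsg.IsElementaryAbelian 2 A ∧ Nat.card A = 2 ^ k} = r := by
  apply IsGreatest.csSup_eq
  constructor
  · obtain ⟨A, hA, hA2, hAc⟩ := hex
    exact ⟨A, ⟨Cfsg.Agent.S3763.comm_of_ab hA, hA2⟩, le_antisymm (hle A hA hA2) hAc⟩
  · rintro k ⟨A, ⟨hA, hA2⟩, hk⟩
    have := hle A (Cfsg.Agent.S3763.ab_of_comm hA) hA2
    rw [hk] at this
    exact (Nat.pow_le_pow_iff_right (by norm_num)).mp this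

/-- For every n ≥ 1 there exist finite extraspecial 2-groups of order 2^(2n+1) whose 2-rank (the largest rank of an elementary abelian subgroup) is n, and ones whose 2-rank is n + 1 (so for each such order there are two non-isomorphic extraspecial 2-groups, told apart by their 2-rank). -/
theorem result (n : ℕ) (hn : 1 ≤ n) : ∀ r ∈ ({n, n + 1} : Set ℕ), ∃ (E : Type) (_ : Group E) (_ : Finite E), Cfsg.IsExtraspecial 2 E ∧ Nat.card E = 2 ^ (2 * n + 1) ∧ sSup {k : ℕ | ∃ A : Subgroup E, Cfsg.IsElementaryAbelian 2 A ∧ Nat.card A = 2 ^ k} = r := by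
  intro r hr
  rcases hr with rfl | rfl
  · obtain ⟨E, _, _, hE, hm⟩ := exists_minus r hn
    refine ⟨E, inferInstance, inferInstance, extraspecial_of_CT hE (by rw [hm.1]; exact two_lt_pow r hn),
      hm.1, ?_⟩
    apply sSup_eq
    · intro A hA hA2
      exact (Cfsg.Agent.S3763.rank_minus hE r hm).1 A (Cfsg.Agent.S3763.comm_of_ab hA) hA2
    · exact exists_EA_minus r E hE hm
  · obtain ⟨E, _, _, hE, hp⟩ := exists_plus n
    refine ⟨E, inferInstance, inferInstance, extraspecial_of_CT hE (by rw [hp.1]; exact two_lt_pow n hn),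
      hp.1, ?_⟩
    apply sSup_eq
    · intro A hA _
      exact abelian_bound n E hE hp.1 A hA
    · exact exists_EA_plus n E hE hp

end Cfsg.Agent.S5396
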