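import Cfsg.Statements.S5420
import Cfsg.Agent.Lib_helper27_Basic

set_option autoImplicit false
open Cfsg

namespace Cfsg.Agent.S5420

/-- Let Q be an extraspecial 2-subgroup of the finite group G whose centralizer in G is its centre Z and which is normal in the centralizer of Z. If Z lies in the largest normal 2-subgroup of G, then Q is a large extraspecial 2-subgroup of G: it normalizes no non-trivial subgroup of G of odd order. -/
theorem result {G : Type*} [Group G] [Finite G] (Q : Subgroup G) (hL1 : Cfsg.IsExtraspecial 2 ↥Q) (hL2 : Subgroup.centralizer (Q : Set G) = ((Subgroup.center ↥Q).map Q.subtype)) (hL3 : Subgroup.centralizer (((Subgroup.center ↥Q).map Q.subtype) : Set G) ≤ Subgroup.normalizer (Q : Set G)) (hZ : ((Subgroup.center ↥Q).map Q.subtype) ≤ Cfsg.pCore 2 G) : Cfsg.IsLargeExtraspecial Q := by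
  refine ⟨hL1, hL2, hL3, ?_⟩
  intro K hKodd hQK
  have hQ2 : IsPGroup 2 Q := hL1.1.1
  have hO : IsPGroup 2 (Cfsg.pCore 2 G) := Cfsg.Agent.helper27.pCore_isPGroup
  have hOn : (Cfsg.pCore 2 G).Normal := Cfsg.Agent.helper27.pCore_normal 2 G
  have hKO : K ⊓ Cfsg.pCore 2 G = ⊥ := Cfsg.Agent.helper27.odd_inf_twoGroup_eq_bot K _ hKodd hO
  have hKQ : K ⊓ Q = ⊥ := Cfsg.Agent.helper27.odd_inf_twoGroup_eq_bot K _ hKodd hQ2
  have hZQ : ((Subgroup.center ↥Q).map Q.subtype) ≤ Q := by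
    rintro x ⟨y, _, rfl⟩
    exact y.2
  -- K centralizes Z
  have h1 : K ≤ Subgroup.centralizer (((Subgroup.center ↥Q).map Q.subtype) : Set G) := by
    intro k hk
    rw [Subgroup.mem_centralizer_iff]
    intro z hz
    have hzQ : z ∈ Q := hZQ hz
    have hzN : z ∈ Subgroup.normalizer (K : Set G) := hQK hzQ
    have hzO : z ∈ Cfsg.pCore 2 G := hZ hz
    have ha : z * k * z⁻¹ ∈ K := (Subgroup.mem_normalizer_iff.1 hzN k).1 hk
    have hb : z * k * z⁻¹ * k⁻¹ ∈ K := K.mul_mem ha (K.inv_mem hk)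
    have hc : z * k * z⁻¹ * k⁻¹ ∈ Cfsg.pCore 2 G := by
      have : k * z⁻¹ * k⁻¹ ∈ Cfsg.pCore 2 G := hOn.conj_mem _ ((Cfsg.pCore 2 G).inv_mem hzO) k
      have h2 := (Cfsg.pCore 2 G).mul_mem hzO this
      simpa [mul_assoc] using h2
    have hd : z * k * z⁻¹ * k⁻¹ ∈ K ⊓ Cfsg.pCore 2 G := ⟨hb, hc⟩
    rw [hKO, Subgroup.mem_bot] at hd
    have : z * k = k * z := by
      have h3 : z * k * z⁻¹ = k := by
        rw [mul_inv_eq_one] at hd
        exact hd
      rw [mul_inv_eq_iff_eq_mul] at h3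
      exact h3
    exact this
  have h2 : K ≤ Subgroup.normalizer (Q : Set G) := h1.trans hL3
  have h3 : K ≤ Subgroup.centralizer (Q : Set G) := by
    intro k hk
    rw [Subgroup.mem_centralizer_iff]
    intro q hq
    have hq' : q ∈ Q := hq
    have ha : k * q * k⁻¹ ∈ Q := (Subgroup.mem_normalizer_iff.1 (h2 hk) q).1 hq'
    have hb : k * q * k⁻¹ * q⁻¹ ∈ Q := Q.mul_mem ha (Q.inv_mem hq')
    have hc : k * q * k⁻¹ * q⁻¹ ∈ K := by
      have : q * k⁻¹ * q⁻¹ ∈ K := (Subgroup.mem_normalizer_iff.1 (hQK hq') k⁻¹).1 (K.inv_mem hk)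
      have h2 := K.mul_mem hk this
      simpa [mul_assoc] using h2
    have hd : k * q * k⁻¹ * q⁻¹ ∈ K ⊓ Q := ⟨hc, hb⟩
    rw [hKQ, Subgroup.mem_bot] at hd
    have h3 : k * q * k⁻¹ = q := by
      rw [mul_inv_eq_one] at hd
      exact hd
    rw [mul_inv_eq_iff_eq_mul] at h3
    exact h3.symm
  rw [hL2] at h3
  have h4 : K ≤ K ⊓ Q := le_inf le_rfl (h3.trans hZQ)
  rw [hKQ] at h4
  exact le_bot_iff.1 h4

end Cfsg.Agent.S5420
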