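import Cfsg.Statements.S5421
import Cfsg.Agent.Lib_helper27_Basic

set_option autoImplicit false
open Cfsg
open scoped commutatorElement

namespace Cfsg.Agent.S5421

theorem fpf_inverts {G : Type*} [Group G] [Finite G] (K : Subgroup G) (t : G) (ht : t * t = 1)
    (hN : ∀ x ∈ K, t * x * t⁻¹ ∈ K) (hfix : ∀ x ∈ K, t * x = x * t → x = 1) :
    ∀ x ∈ K, t * x * t⁻¹ = x⁻¹ := by
  have htinv : t⁻¹ = t := inv_eq_of_mul_eq_one_left ht
  let φ : K → K := fun x => ⟨(x : G)⁻¹ * (t * x * t⁻¹), K.mul_mem (K.inv_mem x.2) (hN x x.2)⟩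
  have hinj : Function.Injective φ := by
    intro x y hxy
    have h1 : (x : G)⁻¹ * (t * x * t⁻¹) = (y : G)⁻¹ * (t * y * t⁻¹) := congrArg Subtype.val hxy
    have h3 : (y : G) * (x : G)⁻¹ = t * ((y : G) * (x : G)⁻¹) * t⁻¹ := by
      calc (y : G) * (x : G)⁻¹
          = (y : G) * ((x : G)⁻¹ * (t * x * t⁻¹)) * (t * x * t⁻¹)⁻¹ := by group
        _ = (y : G) * ((y : G)⁻¹ * (t * y * t⁻¹)) * (t * x * t⁻¹)⁻¹ := by rw [h1]
        _ = t * ((y : G) * (x : G)⁻¹) * t⁻¹ := by group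
    have h2 : t * ((y : G) * (x : G)⁻¹) = ((y : G) * (x : G)⁻¹) * t := by
      calc t * ((y : G) * (x : G)⁻¹) = t * ((y : G) * (x : G)⁻¹) * t⁻¹ * t := by group
        _ = ((y : G) * (x : G)⁻¹) * t := by rw [← h3]
    have h4 := hfix _ (K.mul_mem y.2 (K.inv_mem x.2)) h2
    have h5 : (y : G) = x := by
      rw [mul_inv_eq_one] at h4; exact h4
    exact Subtype.ext h5.symm
  have hsurj : Function.Surjective φ := Finite.injective_iff_surjective.1 hinj
  intro y hy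
  obtain ⟨x, hx⟩ := hsurj ⟨y, hy⟩
  have hx' : (x : G)⁻¹ * (t * x * t⁻¹) = y := congrArg Subtype.val hx
  rw [← hx']
  calc t * ((x : G)⁻¹ * (t * x * t⁻¹)) * t⁻¹ = t * (x : G)⁻¹ * t * x * (t⁻¹ * t⁻¹) := by group
    _ = t * (x : G)⁻¹ * t * x := by rw [htinv, ht, mul_one]
    _ = t * (x : G)⁻¹ * t⁻¹ * x := by rw [htinv]
    _ = ((x : G)⁻¹ * (t * x * t⁻¹))⁻¹ := by group

theorem odd_sq_eq_one {G : Type*} [Group G] [Finite G] (K : Subgroup G) (hK : Odd (Nat.card K))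
    (x : G) (hx : x ∈ K) (hxx : x * x = 1) : x = 1 := by
  obtain ⟨k, hk⟩ := hK
  have h1 : x ^ Nat.card K = 1 := by
    have h0 : (⟨x, hx⟩ : K) ^ Nat.card K = 1 := pow_card_eq_one'
    have h2 := congrArg Subtype.val h0
    rw [Subgroup.coe_pow, Subgroup.coe_one] at h2
    exact h2
  rw [hk, pow_succ, pow_mul, pow_two, hxx, one_pow, one_mul] at h1
  exact h1


/-- Let Q be an extraspecial 2-subgroup of the finite group G whose centralizer in G is its centre Z and which is normal in the centralizer of Z. If some involution b of Q outside Z has Z inside the largest normal 2-subgroup of the centralizer of b, then Q is a large extraspecial 2-subgroup of G. -/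
theorem result {G : Type*} [Group G] [Finite G] (Q : Subgroup G) (hL1 : Cfsg.IsExtraspecial 2 ↥Q) (hL2 : Subgroup.centralizer (Q : Set G) = ((Subgroup.center ↥Q).map Q.subtype)) (hL3 : Subgroup.centralizer (((Subgroup.center ↥Q).map Q.subtype) : Set G) ≤ Subgroup.normalizer (Q : Set G)) (b : G) (hbQ : b ∈ Q) (hbZ : b ∉ ((Subgroup.center ↥Q).map Q.subtype)) (hb : orderOf b = 2) (hZ : ((Subgroup.center ↥Q).map Q.subtype) ≤ (Cfsg.pCore 2 ↥(Subgroup.centralizer ({b} : Set G))).map (Subgroup.centralizer ({b} : Set G)).subtype) : Cfsg.IsLargeExtraspecial Q := by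
  refine ⟨hL1, hL2, hL3, ?_⟩
  intro K hKodd hQK
  have hQ2 : IsPGroup 2 Q := hL1.1.1
  have hcomm : commutator Q = Subgroup.center Q := hL1.1.2.2
  have hcardZ : Nat.card (Subgroup.center Q) = 2 := hL1.2
  have hKQ : K ⊓ Q = ⊥ := Cfsg.Agent.helper27.odd_inf_twoGroup_eq_bot K _ hKodd hQ2
  have hZQ : ((Subgroup.center ↥Q).map Q.subtype) ≤ Q := by
    rintro x ⟨y, _, rfl⟩
    exact y.2
  have hnorm : ∀ q ∈ Q, ∀ x ∈ K, q * x * q⁻¹ ∈ K :=
    fun q hq x hx => (Subgroup.mem_normalizer_iff.1 (hQK hq) x).1 hx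
  have hZc : ∀ z ∈ ((Subgroup.center ↥Q).map Q.subtype), ∀ y ∈ Q, y * z = z * y := by
    rintro z ⟨z', hz', rfl⟩ y hy
    have hz'' : z' ∈ Subgroup.center Q := hz'
    rw [Subgroup.mem_center_iff] at hz''
    exact congrArg Subtype.val (hz'' ⟨y, hy⟩)
  -- Step 1
  have step1 : ∀ x ∈ K, (∀ z ∈ ((Subgroup.center ↥Q).map Q.subtype), z * x = x * z) → x = 1 := by
    intro x hx hxz
    have hxC : x ∈ Subgroup.centralizer (((Subgroup.center ↥Q).map Q.subtype) : Set G) := by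
      rw [Subgroup.mem_centralizer_iff]; intro z hz; exact hxz z hz
    have hxN : x ∈ Subgroup.normalizer (Q : Set G) := hL3 hxC
    have hxCQ : x ∈ Subgroup.centralizer (Q : Set G) := by
      rw [Subgroup.mem_centralizer_iff]
      intro q hq
      have hq' : q ∈ Q := hq
      have ha : x * q * x⁻¹ ∈ Q := (Subgroup.mem_normalizer_iff.1 hxN q).1 hq'
      have hb : x * q * x⁻¹ * q⁻¹ ∈ Q := Q.mul_mem ha (Q.inv_mem hq')
      have hc : x * q * x⁻¹ * q⁻¹ ∈ K := by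
        have : q * x⁻¹ * q⁻¹ ∈ K := hnorm q hq' _ (K.inv_mem hx)
        have h2 := K.mul_mem hx this
        simpa [mul_assoc] using h2
      have hd : x * q * x⁻¹ * q⁻¹ ∈ K ⊓ Q := ⟨hc, hb⟩
      rw [hKQ, Subgroup.mem_bot] at hd
      have h3 : x * q * x⁻¹ = q := by rw [mul_inv_eq_one] at hd; exact hd
      rw [mul_inv_eq_iff_eq_mul] at h3
      exact h3.symm
    rw [hL2] at hxCQ
    have : x ∈ K ⊓ Q := ⟨hx, hZQ hxCQ⟩
    rw [hKQ, Subgroup.mem_bot] at this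
    exact this
  -- Step 2
  have hR2 : IsPGroup 2 ((Cfsg.pCore 2 ↥(Subgroup.centralizer ({b} : Set G))).map
      (Subgroup.centralizer ({b} : Set G)).subtype) :=
    (Cfsg.Agent.helper27.pCore_isPGroup).map _
  have hKR : K ⊓ ((Cfsg.pCore 2 ↥(Subgroup.centralizer ({b} : Set G))).map
      (Subgroup.centralizer ({b} : Set G)).subtype) = ⊥ :=
    Cfsg.Agent.helper27.odd_inf_twoGroup_eq_bot K _ hKodd hR2
  have hRn : ∀ c ∈ Subgroup.centralizer ({b} : Set G),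
      ∀ r ∈ ((Cfsg.pCore 2 ↥(Subgroup.centralizer ({b} : Set G))).map
      (Subgroup.centralizer ({b} : Set G)).subtype), c * r * c⁻¹ ∈
      ((Cfsg.pCore 2 ↥(Subgroup.centralizer ({b} : Set G))).map
      (Subgroup.centralizer ({b} : Set G)).subtype) := by
    intro c hc r hr
    rw [Subgroup.mem_map] at hr ⊢
    obtain ⟨r', hr', rfl⟩ := hr
    have hn := Cfsg.Agent.helper27.pCore_normal 2 ↥(Subgroup.centralizer ({b} : Set G))
    exact ⟨⟨c, hc⟩ * r' * ⟨c, hc⟩⁻¹, hn.conj_mem r' hr' ⟨c, hc⟩, rfl⟩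
  have step2 : ∀ x ∈ K, b * x = x * b → x = 1 := by
    intro x hx hxb
    apply step1 x hx
    intro z hz
    have hxCb : x ∈ Subgroup.centralizer ({b} : Set G) := by
      rw [Subgroup.mem_centralizer_iff]
      intro y hy
      rw [Set.mem_singleton_iff] at hy
      rw [hy]; exact hxb
    have hzR := hZ hz
    have ha := Subgroup.mul_mem _ (hRn x hxCb z hzR) (Subgroup.inv_mem _ hzR)
    have hb' : x * z * x⁻¹ * z⁻¹ ∈ K := by
      have : z * x⁻¹ * z⁻¹ ∈ K := hnorm z (hZQ hz) _ (K.inv_mem hx)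
      have h2 := K.mul_mem hx this
      simpa [mul_assoc] using h2
    have hd : x * z * x⁻¹ * z⁻¹ ∈ K ⊓ ((Cfsg.pCore 2 ↥(Subgroup.centralizer ({b} : Set G))).map
      (Subgroup.centralizer ({b} : Set G)).subtype) := ⟨hb', ha⟩
    rw [hKR, Subgroup.mem_bot] at hd
    have h3 : x * z * x⁻¹ = z := by rw [mul_inv_eq_one] at hd; exact hd
    rw [mul_inv_eq_iff_eq_mul] at h3
    exact h3.symm
  -- Step 3: find q
  have hbnc : (⟨b, hbQ⟩ : Q) ∉ Subgroup.center Q := by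
    intro h
    apply hbZ
    exact ⟨⟨b, hbQ⟩, h, rfl⟩
  rw [Subgroup.mem_center_iff] at hbnc
  rw [not_forall] at hbnc
  obtain ⟨q, hq⟩ := hbnc
  have hz₀c : ⁅q, (⟨b, hbQ⟩ : Q)⁆ ∈ Subgroup.center Q := by
    rw [← hcomm]
    exact Subgroup.commutator_mem_commutator (Subgroup.mem_top q) (Subgroup.mem_top _)
  have hz₀ne : ⁅q, (⟨b, hbQ⟩ : Q)⁆ ≠ 1 := by
    intro h
    apply hq
    rw [commutatorElement_eq_one_iff_mul_comm] at h
    exact h
  obtain ⟨z₀, hz₀⟩ : ∃ z₀ : G, z₀ = (q : G) * b * (q : G)⁻¹ * b⁻¹ := ⟨_, rfl⟩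
  have hz₀coe : ((⁅q, (⟨b, hbQ⟩ : Q)⁆ : Q) : G) = z₀ := by
    rw [hz₀, commutatorElement_def]; rfl
  have hz₀Z : z₀ ∈ ((Subgroup.center ↥Q).map Q.subtype) := ⟨_, hz₀c, hz₀coe⟩
  have hz₀ne' : z₀ ≠ 1 := by
    intro h
    apply hz₀ne
    apply Subtype.ext
    rw [hz₀coe, h]; rfl
  have hz₀sq : z₀ * z₀ = 1 := by
    have h0 : (⟨_, hz₀c⟩ : Subgroup.center Q) ^ Nat.card (Subgroup.center Q) = 1 :=
      pow_card_eq_one'
    rw [hcardZ] at h0
    have h1 := congrArg (fun y : Subgroup.center Q => ((y : Q) : G)) h0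
    simp only [Subgroup.coe_pow, Subgroup.coe_one] at h1
    rw [hz₀coe, pow_two] at h1
    exact h1
  have hZelts : ∀ z ∈ ((Subgroup.center ↥Q).map Q.subtype), z = 1 ∨ z = z₀ := by
    rintro z ⟨z', hz', rfl⟩
    by_cases h1 : z' = 1
    · left; rw [h1]; rfl
    · right
      obtain ⟨y, _, hy⟩ := (Nat.card_eq_two_iff' (1 : Subgroup.center Q)).1 hcardZ
      have e1 : (⟨z', hz'⟩ : Subgroup.center Q) = y := hy _ (by
        intro h; apply h1; exact congrArg Subtype.val h)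
      have e2 : (⟨_, hz₀c⟩ : Subgroup.center Q) = y := hy _ (by
        intro h; apply hz₀ne; exact congrArg Subtype.val h)
      have e3 := congrArg (fun y : Subgroup.center Q => ((y : Q) : G)) (e1.trans e2.symm)
      simp only at e3
      rw [hz₀coe] at e3
      exact e3
  have step1' : ∀ x ∈ K, z₀ * x = x * z₀ → x = 1 := by
    intro x hx hxz
    apply step1 x hx
    intro z hz
    rcases hZelts z hz with h | h
    · rw [h, one_mul, mul_one]
    · rw [h]; exact hxz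
  have hbb : b * b = 1 := by
    have h1 : b ^ 2 = 1 := by rw [← hb]; exact pow_orderOf_eq_one b
    rw [← pow_two]; exact h1
  have hbz : b * z₀ = z₀ * b := hZc z₀ hz₀Z b hbQ
  have hbzsq : (b * z₀) * (b * z₀) = 1 := by
    calc (b * z₀) * (b * z₀) = b * (z₀ * b) * z₀ := by group
      _ = b * (b * z₀) * z₀ := by rw [hbz]
      _ = (b * b) * (z₀ * z₀) := by group
      _ = 1 := by rw [hbb, hz₀sq, one_mul]
  have hqb : (q : G) * b * (q : G)⁻¹ = b * z₀ := by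
    rw [hbz, hz₀]; group
  have hz₀Q : z₀ ∈ Q := hZQ hz₀Z
  have step3 : ∀ x ∈ K, (b * z₀) * x = x * (b * z₀) → x = 1 := by
    intro x hx hxbz
    have hx' : (q : G)⁻¹ * x * (q : G) ∈ K := by
      have := hnorm (q : G)⁻¹ (Q.inv_mem q.2) x hx
      rwa [inv_inv] at this
    have hcomm' : b * ((q : G)⁻¹ * x * (q : G)) = ((q : G)⁻¹ * x * (q : G)) * b := by
      calc b * ((q : G)⁻¹ * x * (q : G))
          = (q : G)⁻¹ * (((q : G) * b * (q : G)⁻¹) * x) * (q : G) := by group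
        _ = (q : G)⁻¹ * (x * ((q : G) * b * (q : G)⁻¹)) * (q : G) := by rw [hqb, hxbz]
        _ = ((q : G)⁻¹ * x * (q : G)) * b := by group
    have h1 := step2 _ hx' hcomm'
    have h2 : x = (q : G) * ((q : G)⁻¹ * x * (q : G)) * (q : G)⁻¹ := by group
    rw [h2, h1]; group
  have inv1 := fpf_inverts K z₀ hz₀sq (hnorm z₀ hz₀Q) step1'
  have inv2 := fpf_inverts K b hbb (hnorm b hbQ) step2
  have inv3 := fpf_inverts K (b * z₀) hbzsq (hnorm (b * z₀) (Q.mul_mem hbQ hz₀Q)) step3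
  rw [Subgroup.eq_bot_iff_forall]
  intro x hx
  apply odd_sq_eq_one K hKodd x hx
  have e1 : (b * z₀) * x * (b * z₀)⁻¹ = x⁻¹ := inv3 x hx
  have e2 : (b * z₀) * x * (b * z₀)⁻¹ = x := by
    calc (b * z₀) * x * (b * z₀)⁻¹ = b * (z₀ * x * z₀⁻¹) * b⁻¹ := by group
      _ = b * x⁻¹ * b⁻¹ := by rw [inv1 x hx]
      _ = (x⁻¹)⁻¹ := inv2 x⁻¹ (K.inv_mem hx)
      _ = x := inv_inv x
  have e3 : x⁻¹ = x := e1.symm.trans e2
  calc x * x = x⁻¹ * x := by rw [e3]
    _ = 1 := inv_mul_cancel x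

end Cfsg.Agent.S5421
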