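import Mathlib
import Cfsg.Statements.S5422
import Cfsg.Agent.S5395
import Cfsg.Agent.S5421
import Cfsg.Agent.Lib_helper1_PGroup
import Cfsg.Agent.Lib_helper27_Basic

set_option autoImplicit false
open Cfsg
open scoped commutatorElement

namespace Cfsg.Agent.S5422

section basics

variable {G : Type*} [Group G]

/-- elementwise axioms of an extraspecial 2-subgroup `Q` with centre `{1,z}`, self-centralizing,
normal in the centralizer of `z`, all automorphisms trivial on `Q/Z` inner. -/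
structure ES (Q : Subgroup G) (z : G) : Prop where
  zQ : z ∈ Q
  z_ne : z ≠ 1
  z_sq : z * z = 1
  z_comm : ∀ q ∈ Q, q * z = z * q
  comm_mem : ∀ p ∈ Q, ∀ q ∈ Q, p * q * p⁻¹ * q⁻¹ = 1 ∨ p * q * p⁻¹ * q⁻¹ = z
  sq_mem : ∀ q ∈ Q, q * q = 1 ∨ q * q = z
  cent : ∀ x : G, (∀ q ∈ Q, x * q = q * x) → x = 1 ∨ x = z
  norm : ∀ x : G, x * z = z * x → ∀ q ∈ Q, x * q * x⁻¹ ∈ Q
  inner : ∀ k : G, (∀ q ∈ Q, k * q * k⁻¹ ∈ Q) →
    (∀ q ∈ Q, k * q * k⁻¹ * q⁻¹ = 1 ∨ k * q * k⁻¹ * q⁻¹ = z) → k ∈ Q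

theorem comm_one_iff (p q : G) : p * q * p⁻¹ * q⁻¹ = 1 ↔ p * q = q * p := by
  constructor
  · intro h
    calc p * q = (p * q * p⁻¹ * q⁻¹) * (q * p) := by group
      _ = q * p := by rw [h, one_mul]
  · intro h
    calc p * q * p⁻¹ * q⁻¹ = (p * q) * (q * p)⁻¹ := by group
      _ = 1 := by rw [h]; group

namespace ES

variable {Q : Subgroup G} {z : G}

theorem z_inv (h : ES Q z) : z⁻¹ = z := inv_eq_of_mul_eq_one_left h.z_sq

/-- a commutator of elements of `Q` commutes with every element of `Q` -/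
theorem comm_central (h : ES Q z) (p q : G) (hp : p ∈ Q) (hq : q ∈ Q) (y : G) (hy : y ∈ Q) :
    y * (p * q * p⁻¹ * q⁻¹) = (p * q * p⁻¹ * q⁻¹) * y := by
  rcases h.comm_mem p hp q hq with e | e
  · rw [e, mul_one, one_mul]
  · rw [e]; exact h.z_comm y hy

theorem comm_mul_left (h : ES Q z) (p₁ p₂ q : G) (hp₁ : p₁ ∈ Q) (hp₂ : p₂ ∈ Q) (hq : q ∈ Q) :
    (p₁ * p₂) * q * (p₁ * p₂)⁻¹ * q⁻¹ = (p₁ * q * p₁⁻¹ * q⁻¹) * (p₂ * q * p₂⁻¹ * q⁻¹) := by
  have hc := h.comm_central p₂ q hp₂ hq p₁ hp₁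
  calc (p₁ * p₂) * q * (p₁ * p₂)⁻¹ * q⁻¹
      = (p₁ * (p₂ * q * p₂⁻¹ * q⁻¹)) * q * p₁⁻¹ * q⁻¹ := by group
    _ = ((p₂ * q * p₂⁻¹ * q⁻¹) * p₁) * q * p₁⁻¹ * q⁻¹ := by rw [hc]
    _ = (p₂ * q * p₂⁻¹ * q⁻¹) * (p₁ * q * p₁⁻¹ * q⁻¹) := by group
    _ = (p₁ * q * p₁⁻¹ * q⁻¹) * (p₂ * q * p₂⁻¹ * q⁻¹) := by
        rw [h.comm_central p₂ q hp₂ hq _ (Q.mul_mem (Q.mul_mem (Q.mul_mem hp₁ hq) (Q.inv_mem hp₁))
          (Q.inv_mem hq))]

theorem comm_mul_right (h : ES Q z) (p q₁ q₂ : G) (hp : p ∈ Q) (hq₁ : q₁ ∈ Q) (hq₂ : q₂ ∈ Q) :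
    p * (q₁ * q₂) * p⁻¹ * (q₁ * q₂)⁻¹ = (p * q₁ * p⁻¹ * q₁⁻¹) * (p * q₂ * p⁻¹ * q₂⁻¹) := by
  have hc := h.comm_central p q₂ hp hq₂ q₁⁻¹ (Q.inv_mem hq₁)
  calc p * (q₁ * q₂) * p⁻¹ * (q₁ * q₂)⁻¹
      = p * q₁ * p⁻¹ * ((p * q₂ * p⁻¹ * q₂⁻¹) * q₁⁻¹) := by group
    _ = p * q₁ * p⁻¹ * (q₁⁻¹ * (p * q₂ * p⁻¹ * q₂⁻¹)) := by rw [hc]
    _ = (p * q₁ * p⁻¹ * q₁⁻¹) * (p * q₂ * p⁻¹ * q₂⁻¹) := by group

/-- a non-central element of `Q` has a partner with commutator `z` -/
theorem exists_partner (h : ES Q z) (t : G) (htQ : t ∈ Q) (ht1 : t ≠ 1) (htz : t ≠ z) :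
    ∃ s ∈ Q, s * t * s⁻¹ * t⁻¹ = z := by
  by_contra hcon
  have hall : ∀ q ∈ Q, t * q = q * t := by
    intro q hq
    by_contra hne
    apply hcon
    refine ⟨q, hq, ?_⟩
    rcases h.comm_mem q hq t htQ with e | e
    · exfalso; apply hne; exact ((comm_one_iff q t).1 e).symm
    · exact e
  rcases h.cent t hall with e | e
  · exact ht1 e
  · exact htz e

/-- the double centralizer of a non-central involution `t` of `Q` is `{1,z,t,tz}` -/
theorem double_cent (h : ES Q z) (t : G) (htQ : t ∈ Q) (htt : t * t = 1) (e : G) (heQ : e ∈ Q)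
    (he : ∀ x ∈ Q, x * t = t * x → x * e = e * x) :
    e = 1 ∨ e = z ∨ e = t ∨ e = t * z := by
  by_cases hcen : ∀ q ∈ Q, e * q = q * e
  · rcases h.cent e hcen with h1 | h1
    · exact Or.inl h1
    · exact Or.inr (Or.inl h1)
  · rw [not_forall] at hcen
    obtain ⟨p, hp⟩ := hcen
    rw [Classical.not_imp] at hp
    obtain ⟨hpQ, hpe⟩ := hp
    have hpe' : p * e * p⁻¹ * e⁻¹ = z := by
      rcases h.comm_mem p hpQ e heQ with e1 | e1
      · exfalso; apply hpe; exact ((comm_one_iff p e).1 e1).symm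
      · exact e1
    have hpt : p * t * p⁻¹ * t⁻¹ = z := by
      rcases h.comm_mem p hpQ t htQ with e1 | e1
      · exfalso; apply hpe
        exact (he p hpQ ((comm_one_iff p t).1 e1)).symm
      · exact e1
    -- commutators with e and t agree
    have hagree : ∀ q ∈ Q, q * e * q⁻¹ * e⁻¹ = q * t * q⁻¹ * t⁻¹ := by
      intro q hq
      rcases h.comm_mem q hq t htQ with e1 | e1
      · rw [e1, comm_one_iff]
        exact he q hq ((comm_one_iff q t).1 e1)
      · rw [e1]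
        rcases h.comm_mem q hq e heQ with e2 | e2
        · exfalso
          have h3 : (p * q) * t * (p * q)⁻¹ * t⁻¹ = 1 := by
            rw [h.comm_mul_left p q t hpQ hq htQ, hpt, e1, h.z_sq]
          have h4 : (p * q) * e = e * (p * q) :=
            he (p * q) (Q.mul_mem hpQ hq) ((comm_one_iff _ _).1 h3)
          have h5 : (p * q) * e * (p * q)⁻¹ * e⁻¹ = z := by
            rw [h.comm_mul_left p q e hpQ hq heQ, hpe', e2, mul_one]
          rw [(comm_one_iff _ _).2 h4] at h5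
          exact h.z_ne h5.symm
        · exact e2
    -- so e * t is central
    have hcen2 : ∀ q ∈ Q, (e * t) * q = q * (e * t) := by
      intro q hq
      have h1 : q * (e * t) * q⁻¹ * (e * t)⁻¹ = 1 := by
        rw [h.comm_mul_right q e t hq heQ htQ, hagree q hq]
        rcases h.comm_mem q hq t htQ with e1 | e1
        · rw [e1, one_mul]
        · rw [e1, h.z_sq]
      exact ((comm_one_iff _ _).1 h1).symm
    have htinv : t⁻¹ = t := inv_eq_of_mul_eq_one_left htt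
    rcases h.cent (e * t) hcen2 with h1 | h1
    · right; right; left
      have : e = t⁻¹ := eq_inv_of_mul_eq_one_left h1
      rw [this, htinv]
    · right; right; right
      have h2 : e = z * t⁻¹ := by rw [← h1]; group
      rw [h2, htinv]
      exact (h.z_comm t htQ).symm

end ES

end basics

section parta

variable {G : Type*} [Group G]

theorem pair_mul {t a b : G} (htt : t * t = 1) (ha : a = 1 ∨ a = t) (hb : b = 1 ∨ b = t) :
    a * b = 1 ∨ a * b = t := by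
  rcases ha with e | e <;> rcases hb with e' | e' <;> rw [e, e']
  · left; rw [mul_one]
  · right; rw [one_mul]
  · right; rw [mul_one]
  · left; exact htt

theorem pair_inv {t a : G} (htt : t * t = 1) (ha : a = 1 ∨ a = t) : a⁻¹ = 1 ∨ a⁻¹ = t := by
  rcases ha with e | e
  · left; rw [e, inv_one]
  · right; rw [e]; exact inv_eq_of_mul_eq_one_left htt

theorem part_a {Q Q' : Subgroup G} {z t : G} (h : ES Q z) (h' : ES Q' t)
    (htQ : t ∈ Q) (htz : t ≠ z)
    (sym : ∀ n : G, n * z * n⁻¹ = t → ∀ q ∈ Q, n * q * n⁻¹ ∈ Q')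
    (x₁ x₂ : G) (hx₁ : x₁ ∈ Q) (hx₂ : x₂ ∈ Q) (hx₁t : x₁ * t = t * x₁) (hx₂t : x₂ * t = t * x₂)
    (hx : x₁ * x₂ * x₁⁻¹ * x₂⁻¹ = z) : z ∈ Q' := by
  by_contra hz
  have ht1 : t ≠ 1 := h'.z_ne
  have htt : t * t = 1 := h'.z_sq
  have htinv : t⁻¹ = t := h'.z_inv
  have hzinv : z⁻¹ = z := h.z_inv
  have hzt : z * t = t * z := (h.z_comm t htQ).symm
  have htQ' : t ∈ Q' := h'.zQ
  have htzQ' : t * z ∉ Q' := fun hmem => hz (by
    have := Q'.mul_mem (Q'.inv_mem htQ') hmem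
    rwa [inv_mul_cancel_left] at this)
  have hXn : ∀ x ∈ Q, x * t = t * x → ∀ u ∈ Q', x * u * x⁻¹ ∈ Q' :=
    fun x _ hxt u hu => h'.norm x hxt u hu
  have hzn : ∀ u ∈ Q', z * u * z⁻¹ ∈ Q' := h'.norm z hzt
  have hYn : ∀ y ∈ Q', y * z = z * y → ∀ q ∈ Q, y * q * y⁻¹ ∈ Q :=
    fun y _ hyz q hq => h.norm y hyz q hq
  -- Step 1
  have step1 : ∀ e ∈ Q, e ∈ Q' → e = 1 ∨ e = t := by
    intro e heQ heQ'
    have hcomm : ∀ x ∈ Q, x * t = t * x → x * e = e * x := by
      intro x hxQ hxt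
      rcases h.comm_mem x hxQ e heQ with e1 | e1
      · exact (comm_one_iff x e).1 e1
      · exfalso
        apply hz
        rw [← e1]
        exact Q'.mul_mem (hXn x hxQ hxt e heQ') (Q'.inv_mem heQ')
    rcases h.double_cent t htQ htt e heQ hcomm with e1 | e1 | e1 | e1
    · exact Or.inl e1
    · exfalso; rw [e1] at heQ'; exact hz heQ'
    · exact Or.inr e1
    · exfalso; rw [e1] at heQ'; exact htzQ' heQ'
  -- Step 2
  obtain ⟨s, hsQ, hs⟩ := h.exists_partner t htQ ht1 htz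
  have hst : s * t * s⁻¹ = t * z := by
    have : s * t * s⁻¹ = z * t := by
      calc s * t * s⁻¹ = (s * t * s⁻¹ * t⁻¹) * t := by group
        _ = z * t := by rw [hs]
    rw [this, hzt]
  have hsz : s * z * s⁻¹ = z := by
    rw [h.z_comm s hsQ]; group
  have step2 : ∀ u ∈ Q', u * z * u⁻¹ * z⁻¹ = t → False := by
    intro u hu huz
    have hut : u * t * u⁻¹ = t := by rw [h'.z_comm u hu]; group
    have huz' : u * z * u⁻¹ = t * z := by
      calc u * z * u⁻¹ = (u * z * u⁻¹ * z⁻¹) * z := by group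
        _ = t * z := by rw [huz]
    have huz'' : u⁻¹ * z * u = t * z := by
      have h1 : u * (t * z) * u⁻¹ = z := by
        calc u * (t * z) * u⁻¹ = (u * t * u⁻¹) * (u * z * u⁻¹) := by group
          _ = t * (t * z) := by rw [hut, huz']
          _ = z := by rw [← mul_assoc, htt, one_mul]
      calc u⁻¹ * z * u = u⁻¹ * (u * (t * z) * u⁻¹) * u := by rw [h1]
        _ = t * z := by group
    have hut' : u⁻¹ * t * u = t := by
      calc u⁻¹ * t * u = u⁻¹ * (u * t * u⁻¹) * u := by rw [hut]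
        _ = t := by group
    have hn1 : (u * s * u⁻¹) * z * (u * s * u⁻¹)⁻¹ = t := by
      calc (u * s * u⁻¹) * z * (u * s * u⁻¹)⁻¹ = u * (s * (u⁻¹ * z * u) * s⁻¹) * u⁻¹ := by group
        _ = u * (s * (t * z) * s⁻¹) * u⁻¹ := by rw [huz'']
        _ = u * ((s * t * s⁻¹) * (s * z * s⁻¹)) * u⁻¹ := by group
        _ = u * ((t * z) * z) * u⁻¹ := by rw [hst, hsz]
        _ = u * t * u⁻¹ := by rw [mul_assoc t z z, h.z_sq, mul_one]
        _ = t := hut
    have hn2 : (u * s * u⁻¹) * t * (u * s * u⁻¹)⁻¹ = z := by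
      calc (u * s * u⁻¹) * t * (u * s * u⁻¹)⁻¹ = u * (s * (u⁻¹ * t * u) * s⁻¹) * u⁻¹ := by group
        _ = u * (s * t * s⁻¹) * u⁻¹ := by rw [hut']
        _ = u * (t * z) * u⁻¹ := by rw [hst]
        _ = (u * t * u⁻¹) * (u * z * u⁻¹) := by group
        _ = t * (t * z) := by rw [hut, huz']
        _ = z := by rw [← mul_assoc, htt, one_mul]
    apply hz
    rw [← hn2]
    exact sym _ hn1 t htQ
  have step2' : ∀ u ∈ Q', (u * z * u⁻¹ * z⁻¹ = 1 ∨ u * z * u⁻¹ * z⁻¹ = t) → u * z = z * u := by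
    intro u hu hcase
    rcases hcase with e1 | e1
    · exact (comm_one_iff u z).1 e1
    · exact (step2 u hu e1).elim
  -- Step 3
  have step3 : ∀ u ∈ Q', (z * u * z⁻¹ * u⁻¹) * z = z * (z * u * z⁻¹ * u⁻¹) := by
    intro u hu
    have hcQ' : z * u * z⁻¹ * u⁻¹ ∈ Q' := Q'.mul_mem (hzn u hu) (Q'.inv_mem hu)
    apply step2' _ hcQ'
    have hkey : (z * u * z⁻¹ * u⁻¹) * z * (z * u * z⁻¹ * u⁻¹)⁻¹ * z⁻¹
        = (z * u * z⁻¹ * u⁻¹) * (z * u * z⁻¹ * u⁻¹) := by
      calc (z * u * z⁻¹ * u⁻¹) * z * (z * u * z⁻¹ * u⁻¹)⁻¹ * z⁻¹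
          = z * u * z⁻¹ * u⁻¹ * z * u * z * u⁻¹ * (z⁻¹ * z⁻¹) := by group
        _ = (z * u * z⁻¹ * u⁻¹) * (z * u * z⁻¹ * u⁻¹) := by
            rw [hzinv, h.z_sq]; simp only [mul_assoc, mul_one]
    rw [hkey]
    exact h'.sq_mem _ hcQ'
  -- [X, Y] ⊆ {1, t}
  have hXY : ∀ x ∈ Q, x * t = t * x → ∀ y ∈ Q', y * z = z * y →
      x * y * x⁻¹ * y⁻¹ = 1 ∨ x * y * x⁻¹ * y⁻¹ = t := by
    intro x hxQ hxt y hyQ' hyz
    apply step1
    · have := Q.mul_mem hxQ (hYn y hyQ' hyz x⁻¹ (Q.inv_mem hxQ))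
      simpa [mul_assoc] using this
    · exact Q'.mul_mem (hXn x hxQ hxt y hyQ') (Q'.inv_mem hyQ')
  -- Step 4
  have step4 : ∀ x ∈ Q, x * t = t * x → ∀ u ∈ Q',
      (x * u * x⁻¹ * u⁻¹) * z = z * (x * u * x⁻¹ * u⁻¹) := by
    intro x hxQ hxt u hu
    have hdQ' : x * u * x⁻¹ * u⁻¹ ∈ Q' := Q'.mul_mem (hXn x hxQ hxt u hu) (Q'.inv_mem hu)
    apply step2' _ hdQ'
    have hcQ' : z * u * z⁻¹ * u⁻¹ ∈ Q' := Q'.mul_mem (hzn u hu) (Q'.inv_mem hu)
    have hcz := step3 u hu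
    have hxz : x * z = z * x := h.z_comm x hxQ
    have hxz' : z⁻¹ * x⁻¹ * z = x⁻¹ := by
      calc z⁻¹ * x⁻¹ * z = z⁻¹ * x⁻¹ * (z * x) * x⁻¹ := by group
        _ = z⁻¹ * x⁻¹ * (x * z) * x⁻¹ := by rw [hxz]
        _ = x⁻¹ := by group
    have hε := hXY x hxQ hxt _ hcQ' hcz
    have hε' := h'.comm_mem _ hcQ' _ hdQ'
    have hw := pair_mul htt hε hε'
    have hzd : z * (x * u * x⁻¹ * u⁻¹) * z⁻¹
        = ((x * (z * u * z⁻¹ * u⁻¹) * x⁻¹ * (z * u * z⁻¹ * u⁻¹)⁻¹)
          * ((z * u * z⁻¹ * u⁻¹) * (x * u * x⁻¹ * u⁻¹) * (z * u * z⁻¹ * u⁻¹)⁻¹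
            * (x * u * x⁻¹ * u⁻¹)⁻¹)) * (x * u * x⁻¹ * u⁻¹) := by
      symm
      calc ((x * (z * u * z⁻¹ * u⁻¹) * x⁻¹ * (z * u * z⁻¹ * u⁻¹)⁻¹)
          * ((z * u * z⁻¹ * u⁻¹) * (x * u * x⁻¹ * u⁻¹) * (z * u * z⁻¹ * u⁻¹)⁻¹
            * (x * u * x⁻¹ * u⁻¹)⁻¹)) * (x * u * x⁻¹ * u⁻¹)
          = (x * z) * u * (z⁻¹ * x⁻¹ * z) * u⁻¹ * z⁻¹ := by group
        _ = (z * x) * u * x⁻¹ * u⁻¹ * z⁻¹ := by rw [hxz', hxz]
        _ = z * (x * u * x⁻¹ * u⁻¹) * z⁻¹ := by group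
    have hfin : (x * u * x⁻¹ * u⁻¹) * z * (x * u * x⁻¹ * u⁻¹)⁻¹ * z⁻¹
        = ((x * (z * u * z⁻¹ * u⁻¹) * x⁻¹ * (z * u * z⁻¹ * u⁻¹)⁻¹)
          * ((z * u * z⁻¹ * u⁻¹) * (x * u * x⁻¹ * u⁻¹) * (z * u * z⁻¹ * u⁻¹)⁻¹
            * (x * u * x⁻¹ * u⁻¹)⁻¹))⁻¹ := by
      calc (x * u * x⁻¹ * u⁻¹) * z * (x * u * x⁻¹ * u⁻¹)⁻¹ * z⁻¹
          = (x * u * x⁻¹ * u⁻¹) * (z * (x * u * x⁻¹ * u⁻¹) * z⁻¹)⁻¹ := by group
        _ = _ := by rw [hzd]; group
    rw [hfin]
    exact pair_inv htt hw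
  -- Step 5
  have hδ : ∀ u ∈ Q', ((x₁ * x₂) * u * (x₁ * x₂)⁻¹ * ((x₂ * x₁) * u * (x₂ * x₁)⁻¹)⁻¹ = 1 ∨
      (x₁ * x₂) * u * (x₁ * x₂)⁻¹ * ((x₂ * x₁) * u * (x₂ * x₁)⁻¹)⁻¹ = t) := by
    intro u hu
    have hd₁Q' : x₁ * u * x₁⁻¹ * u⁻¹ ∈ Q' :=
      Q'.mul_mem (hXn x₁ hx₁ hx₁t u hu) (Q'.inv_mem hu)
    have hd₂Q' : x₂ * u * x₂⁻¹ * u⁻¹ ∈ Q' :=
      Q'.mul_mem (hXn x₂ hx₂ hx₂t u hu) (Q'.inv_mem hu)
    have hd₁z := step4 x₁ hx₁ hx₁t u hu
    have hd₂z := step4 x₂ hx₂ hx₂t u hu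
    have hε₁ := hXY x₁ hx₁ hx₁t _ hd₂Q' hd₂z
    have hε₂ := hXY x₂ hx₂ hx₂t _ hd₁Q' hd₁z
    have hε₃ := h'.comm_mem _ hd₂Q' _ hd₁Q'
    have hid : (x₁ * x₂) * u * (x₁ * x₂)⁻¹ * ((x₂ * x₁) * u * (x₂ * x₁)⁻¹)⁻¹
        = (x₁ * (x₂ * u * x₂⁻¹ * u⁻¹) * x₁⁻¹ * (x₂ * u * x₂⁻¹ * u⁻¹)⁻¹)
          * ((x₂ * u * x₂⁻¹ * u⁻¹) * (x₁ * u * x₁⁻¹ * u⁻¹) * (x₂ * u * x₂⁻¹ * u⁻¹)⁻¹
            * (x₁ * u * x₁⁻¹ * u⁻¹)⁻¹)
          * (x₂ * (x₁ * u * x₁⁻¹ * u⁻¹) * x₂⁻¹ * (x₁ * u * x₁⁻¹ * u⁻¹)⁻¹)⁻¹ := by group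
    rw [hid]
    exact pair_mul htt (pair_mul htt hε₁ hε₃) (pair_inv htt hε₂)
  have hk2 : ∀ u ∈ Q', ((x₁ * x₂ * x₁⁻¹ * x₂⁻¹) * u * (x₁ * x₂ * x₁⁻¹ * x₂⁻¹)⁻¹ * u⁻¹ = 1 ∨
      (x₁ * x₂ * x₁⁻¹ * x₂⁻¹) * u * (x₁ * x₂ * x₁⁻¹ * x₂⁻¹)⁻¹ * u⁻¹ = t) := by
    intro u hu
    have hc21 : (x₂ * x₁)⁻¹ * t = t * (x₂ * x₁)⁻¹ := by
      have h1 : Commute x₁ t := hx₁t
      have h2 : Commute x₂ t := hx₂t
      exact ((h2.mul_left h1).inv_left).eq
    have hu' : (x₂ * x₁)⁻¹ * u * (x₂ * x₁) ∈ Q' := by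
      have := hXn (x₂ * x₁)⁻¹ (Q.inv_mem (Q.mul_mem hx₂ hx₁)) hc21 u hu
      rwa [inv_inv] at this
    have h3 := hδ _ hu'
    have hid : (x₁ * x₂ * x₁⁻¹ * x₂⁻¹) * u * (x₁ * x₂ * x₁⁻¹ * x₂⁻¹)⁻¹ * u⁻¹
        = (x₁ * x₂) * ((x₂ * x₁)⁻¹ * u * (x₂ * x₁)) * (x₁ * x₂)⁻¹
          * ((x₂ * x₁) * ((x₂ * x₁)⁻¹ * u * (x₂ * x₁)) * (x₂ * x₁)⁻¹)⁻¹ := by group
    rw [hid]
    exact h3
  have hkQ' : x₁ * x₂ * x₁⁻¹ * x₂⁻¹ ∈ Q' := by
    apply h'.inner _ _ hk2
    intro u hu
    have h3 : (x₁ * x₂ * x₁⁻¹ * x₂⁻¹) * u * (x₁ * x₂ * x₁⁻¹ * x₂⁻¹)⁻¹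
        = ((x₁ * x₂ * x₁⁻¹ * x₂⁻¹) * u * (x₁ * x₂ * x₁⁻¹ * x₂⁻¹)⁻¹ * u⁻¹) * u := by group
    rw [h3]
    apply Q'.mul_mem _ hu
    rcases hk2 u hu with e | e
    · rw [e]; exact Q'.one_mem
    · rw [e]; exact htQ'
  rw [hx] at hkQ'
  exact hz hkQ'

end parta

section build

variable {G : Type*} [Group G]

theorem mem_conj_iff (Q : Subgroup G) (g x : G) :
    x ∈ Q.map (MulAut.conj g).toMonoidHom ↔ g⁻¹ * x * g ∈ Q := by
  rw [Subgroup.mem_map]
  constructor
  · rintro ⟨q, hq, rfl⟩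
    have : g⁻¹ * ((MulAut.conj g).toMonoidHom q) * g = q := by
      show g⁻¹ * (g * q * g⁻¹) * g = q
      group
    rw [this]; exact hq
  · intro h
    refine ⟨g⁻¹ * x * g, h, ?_⟩
    show g * (g⁻¹ * x * g) * g⁻¹ = x
    group

theorem conj_mem_conj (Q : Subgroup G) (g q : G) (hq : q ∈ Q) :
    g * q * g⁻¹ ∈ Q.map (MulAut.conj g).toMonoidHom := by
  rw [mem_conj_iff]
  have : g⁻¹ * (g * q * g⁻¹) * g = q := by group
  rw [this]; exact hq

theorem ES.conj {Q : Subgroup G} {z : G} (h : ES Q z) (g : G) :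
    ES (Q.map (MulAut.conj g).toMonoidHom) (g * z * g⁻¹) := by
  have key : ∀ x, x ∈ Q.map (MulAut.conj g).toMonoidHom ↔ g⁻¹ * x * g ∈ Q := mem_conj_iff Q g
  refine ⟨?_, ?_, ?_, ?_, ?_, ?_, ?_, ?_, ?_⟩
  · exact conj_mem_conj Q g z h.zQ
  · intro e; apply h.z_ne
    calc z = g⁻¹ * (g * z * g⁻¹) * g := by group
      _ = 1 := by rw [e]; group
  · calc g * z * g⁻¹ * (g * z * g⁻¹) = g * (z * z) * g⁻¹ := by group
      _ = 1 := by rw [h.z_sq]; group
  · intro q hq
    rw [key] at hq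
    have := h.z_comm _ hq
    calc q * (g * z * g⁻¹) = g * ((g⁻¹ * q * g) * z) * g⁻¹ := by group
      _ = g * (z * (g⁻¹ * q * g)) * g⁻¹ := by rw [this]
      _ = g * z * g⁻¹ * q := by group
  · intro p hp q hq
    rw [key] at hp hq
    have hid : p * q * p⁻¹ * q⁻¹ = g * ((g⁻¹ * p * g) * (g⁻¹ * q * g) * (g⁻¹ * p * g)⁻¹
        * (g⁻¹ * q * g)⁻¹) * g⁻¹ := by group
    rcases h.comm_mem _ hp _ hq with e | e
    · left; rw [hid, e]; group
    · right; rw [hid, e]
  · intro q hq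
    rw [key] at hq
    have hid : q * q = g * ((g⁻¹ * q * g) * (g⁻¹ * q * g)) * g⁻¹ := by group
    rcases h.sq_mem _ hq with e | e
    · left; rw [hid, e]; group
    · right; rw [hid, e]
  · intro x hx
    have hx' : ∀ q ∈ Q, (g⁻¹ * x * g) * q = q * (g⁻¹ * x * g) := by
      intro q hq
      have := hx _ (conj_mem_conj Q g q hq)
      calc (g⁻¹ * x * g) * q = g⁻¹ * (x * (g * q * g⁻¹)) * g := by group
        _ = g⁻¹ * ((g * q * g⁻¹) * x) * g := by rw [this]
        _ = q * (g⁻¹ * x * g) := by group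
    rcases h.cent _ hx' with e | e
    · left
      calc x = g * (g⁻¹ * x * g) * g⁻¹ := by group
        _ = 1 := by rw [e]; group
    · right
      calc x = g * (g⁻¹ * x * g) * g⁻¹ := by group
        _ = g * z * g⁻¹ := by rw [e]
  · intro x hx q hq
    rw [key] at hq ⊢
    have hx' : (g⁻¹ * x * g) * z = z * (g⁻¹ * x * g) := by
      calc (g⁻¹ * x * g) * z = g⁻¹ * (x * (g * z * g⁻¹)) * g := by group
        _ = g⁻¹ * ((g * z * g⁻¹) * x) * g := by rw [hx]
        _ = z * (g⁻¹ * x * g) := by group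
    have := h.norm _ hx' _ hq
    have hid : g⁻¹ * (x * q * x⁻¹) * g = (g⁻¹ * x * g) * (g⁻¹ * q * g) * (g⁻¹ * x * g)⁻¹ := by
      group
    rw [hid]; exact this
  · intro k hk1 hk2
    rw [key]
    apply h.inner
    · intro q hq
      have := hk1 _ (conj_mem_conj Q g q hq)
      rw [key] at this
      have hid : (g⁻¹ * k * g) * q * (g⁻¹ * k * g)⁻¹ = g⁻¹ * (k * (g * q * g⁻¹) * k⁻¹) * g := by
        group
      rw [hid]; exact this
    · intro q hq
      have hid : (g⁻¹ * k * g) * q * (g⁻¹ * k * g)⁻¹ * q⁻¹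
          = g⁻¹ * (k * (g * q * g⁻¹) * k⁻¹ * (g * q * g⁻¹)⁻¹) * g := by group
      rcases hk2 _ (conj_mem_conj Q g q hq) with e | e
      · left; rw [hid, e]; group
      · right; rw [hid, e]; group

theorem ES.of_hyp [Finite G] (Q : Subgroup G) (hL1 : Cfsg.IsExtraspecial 2 ↥Q)
    (hL2 : Subgroup.centralizer (Q : Set G) = ((Subgroup.center ↥Q).map Q.subtype))
    (hL3 : Subgroup.centralizer (((Subgroup.center ↥Q).map Q.subtype) : Set G)
      ≤ Subgroup.normalizer (Q : Set G)) :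
    ∃ z : G, ES Q z ∧
      ∀ x : G, x ∈ ((Subgroup.center ↥Q).map Q.subtype) ↔ (x = 1 ∨ x = z) := by
  have hQ2 : IsPGroup 2 Q := hL1.1.1
  have hfr : frattini Q = Subgroup.center Q := hL1.1.2.1
  have hcomm : commutator Q = Subgroup.center Q := hL1.1.2.2
  have hcardZ : Nat.card (Subgroup.center Q) = 2 := hL1.2
  obtain ⟨z', hz'1, hz'u⟩ := (Nat.card_eq_two_iff' (1 : Subgroup.center Q)).1 hcardZ
  have hZelts : ∀ y : Subgroup.center Q, y = 1 ∨ y = z' := by
    intro y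
    by_cases hy : y = 1
    · exact Or.inl hy
    · exact Or.inr (hz'u y hy)
  have hmemZ : ∀ x : G, x ∈ ((Subgroup.center ↥Q).map Q.subtype) ↔
      (x = 1 ∨ x = ((z' : Q) : G)) := by
    intro x
    constructor
    · rintro ⟨y, hy, rfl⟩
      rcases hZelts ⟨y, hy⟩ with e | e
      · left
        have := congrArg (fun w : Subgroup.center Q => ((w : Q) : G)) e
        simpa using this
      · right
        have := congrArg (fun w : Subgroup.center Q => ((w : Q) : G)) e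
        simpa using this
    · rintro (rfl | rfl)
      · exact Subgroup.one_mem _
      · exact ⟨(z' : Q), z'.2, rfl⟩
  refine ⟨((z' : Q) : G), ?_, hmemZ⟩
  have hcenQ : ∀ q : Q, ∀ c : Subgroup.center Q, q * (c : Q) = (c : Q) * q :=
    fun q c => Subgroup.mem_center_iff.1 c.2 q
  have hZcases : ∀ y : Q, y ∈ Subgroup.center Q →
      ((y : G) = 1 ∨ (y : G) = ((z' : Q) : G)) := by
    intro y hy
    exact (hmemZ _).1 ⟨y, hy, rfl⟩
  have hcent : ∀ x : G, (∀ q ∈ Q, x * q = q * x) → x = 1 ∨ x = ((z' : Q) : G) := by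
    intro x hx
    have : x ∈ Subgroup.centralizer (Q : Set G) := by
      rw [Subgroup.mem_centralizer_iff]; intro q hq; exact (hx q hq).symm
    rw [hL2] at this
    exact (hmemZ x).1 this
  refine ⟨?_, ?_, ?_, ?_, ?_, ?_, hcent, ?_, ?_⟩
  · exact (z' : Q).2
  · intro e
    apply hz'1
    apply Subtype.ext
    apply Subtype.ext
    rw [e]; rfl
  · have h0 : z' ^ Nat.card (Subgroup.center Q) = 1 := pow_card_eq_one'
    rw [hcardZ] at h0
    have h1 := congrArg (fun w : Subgroup.center Q => ((w : Q) : G)) h0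
    simp only [Subgroup.coe_pow, Subgroup.coe_one] at h1
    rw [pow_two] at h1; exact h1
  · intro q hq
    exact congrArg Subtype.val (hcenQ ⟨q, hq⟩ z')
  · intro p hp q hq
    have hmem : ⁅(⟨p, hp⟩ : Q), (⟨q, hq⟩ : Q)⁆ ∈ Subgroup.center Q := by
      rw [← hcomm]
      exact Subgroup.commutator_mem_commutator (Subgroup.mem_top _) (Subgroup.mem_top _)
    have := hZcases _ hmem
    have hcoe : ((⁅(⟨p, hp⟩ : Q), (⟨q, hq⟩ : Q)⁆ : Q) : G) = p * q * p⁻¹ * q⁻¹ := by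
      rw [commutatorElement_def]; rfl
    rw [hcoe] at this; exact this
  · intro q hq
    haveI : Fact (Nat.Prime 2) := ⟨Nat.prime_two⟩
    have hmem : (⟨q, hq⟩ : Q) ^ 2 ∈ Subgroup.center Q := by
      rw [← hfr]; exact Cfsg.Agent.helper1.pow_mem_frattini_of_isPGroup hQ2 _
    have := hZcases _ hmem
    have hcoe : (((⟨q, hq⟩ : Q) ^ 2 : Q) : G) = q * q := by
      rw [Subgroup.coe_pow, pow_two]
    rw [hcoe] at this; exact this
  · intro x hx q hq
    have hxC : x ∈ Subgroup.centralizer (((Subgroup.center ↥Q).map Q.subtype) : Set G) := by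
      rw [Subgroup.mem_centralizer_iff]
      intro y hy
      rcases (hmemZ y).1 hy with e | e
      · rw [e, one_mul, mul_one]
      · rw [e]; exact hx.symm
    have hxN := hL3 hxC
    exact (Subgroup.mem_normalizer_iff.1 hxN q).1 hq
  · intro k hk1 hk2
    let f : Q →* Q :=
      { toFun := fun q => ⟨k * q * k⁻¹, hk1 q q.2⟩
        map_one' := by
          apply Subtype.ext
          show k * ((1 : Q) : G) * k⁻¹ = 1
          rw [Subgroup.coe_one]; group
        map_mul' := by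
          intro a b
          apply Subtype.ext
          show k * ((a * b : Q) : G) * k⁻¹ = (k * a * k⁻¹) * (k * b * k⁻¹)
          rw [Subgroup.coe_mul]; group }
    have hinj : Function.Injective f := by
      intro a b hab
      have h1 : k * (a : G) * k⁻¹ = k * (b : G) * k⁻¹ := congrArg Subtype.val hab
      apply Subtype.ext
      calc (a : G) = k⁻¹ * (k * (a : G) * k⁻¹) * k := by group
        _ = k⁻¹ * (k * (b : G) * k⁻¹) * k := by rw [h1]
        _ = b := by group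
    have hbij : Function.Bijective f := Finite.injective_iff_bijective.1 hinj
    let φ : Q ≃* Q := MulEquiv.ofBijective f hbij
    have hφ : ∀ x : Q, φ x * x⁻¹ ∈ Subgroup.center Q := by
      intro x
      have hval : ((φ x * x⁻¹ : Q) : G) = k * (x : G) * k⁻¹ * (x : G)⁻¹ := rfl
      rcases hk2 x x.2 with e | e
      · have : φ x * x⁻¹ = 1 := by
          apply Subtype.ext; rw [hval, e]; rfl
        rw [this]; exact Subgroup.one_mem _
      · have : φ x * x⁻¹ = (z' : Q) := by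
          apply Subtype.ext; rw [hval, e]
        rw [this]; exact z'.2
    obtain ⟨g', hg'⟩ := Cfsg.Agent.S5395.result hL1 φ hφ
    have hcen' : ∀ q ∈ Q, ((g' : G)⁻¹ * k) * q = q * ((g' : G)⁻¹ * k) := by
      intro q hq
      have h1 := congrArg Subtype.val (hg' ⟨q, hq⟩)
      have h2 : k * q * k⁻¹ = (g' : G) * q * (g' : G)⁻¹ := h1
      calc ((g' : G)⁻¹ * k) * q = (g' : G)⁻¹ * (k * q * k⁻¹) * k := by group
        _ = (g' : G)⁻¹ * ((g' : G) * q * (g' : G)⁻¹) * k := by rw [h2]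
        _ = q * ((g' : G)⁻¹ * k) := by group
    have hk : k = (g' : G) * ((g' : G)⁻¹ * k) := by group
    rw [hk]
    apply Q.mul_mem g'.2
    rcases hcent _ hcen' with e | e
    · rw [e]; exact Q.one_mem
    · rw [e]; exact (z' : Q).2

end build

section index

variable {G : Type*} [Group G]

theorem mem_normalizer_of_conj_mem [Finite G] (V : Subgroup G) (a : G)
    (ha : ∀ v ∈ V, a * v * a⁻¹ ∈ V) : a ∈ Subgroup.normalizer (V : Set G) := by
  have hpow : ∀ k : ℕ, ∀ v ∈ V, a ^ k * v * (a ^ k)⁻¹ ∈ V := by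
    intro k
    induction k with
    | zero => intro v hv; simpa using hv
    | succ k ih =>
      intro v hv
      have h1 := ha _ (ih v hv)
      have h2 : a ^ (k + 1) * v * (a ^ (k + 1))⁻¹ = a * (a ^ k * v * (a ^ k)⁻¹) * a⁻¹ := by
        rw [pow_succ']; group
      rw [h2]; exact h1
  have hinv : ∀ v ∈ V, a⁻¹ * v * a ∈ V := by
    intro v hv
    have hpos : 0 < orderOf a := orderOf_pos a
    have h1 : a ^ (orderOf a - 1) = a⁻¹ := by
      apply eq_inv_of_mul_eq_one_left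
      rw [← pow_succ, Nat.sub_add_cancel hpos, pow_orderOf_eq_one]
    have h2 := hpow (orderOf a - 1) v hv
    rw [h1, inv_inv] at h2
    exact h2
  rw [Subgroup.mem_normalizer_iff]
  intro v
  constructor
  · exact ha v
  · intro hv
    have := hinv _ hv
    have h2 : a⁻¹ * (a * v * a⁻¹) * a = v := by group
    rw [h2] at this
    exact this

theorem index_six [Finite G] (V : Subgroup G) (z t s u : G)
    (hz1 : z ≠ 1) (ht1 : t ≠ 1) (hzt : z ≠ t)
    (hzz : z * z = 1) (htt : t * t = 1) (hc : z * t = t * z)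
    (hV : ∀ x, x ∈ V ↔ (x = 1 ∨ x = z ∨ x = t ∨ x = t * z))
    (hsz : s * z * s⁻¹ = z) (hst : s * t * s⁻¹ = t * z)
    (hut : u * t * u⁻¹ = t) (huz : u * z * u⁻¹ = t * z) :
    (Subgroup.centralizer (V : Set G)).relIndex (Subgroup.normalizer (V : Set G)) = 6 := by
  classical
  have htz1 : t * z ≠ 1 := by
    intro h
    apply hzt
    have h1 : t = z⁻¹ := eq_inv_of_mul_eq_one_left h
    rw [h1]; exact (inv_eq_of_mul_eq_one_left hzz).symm
  have hz_tz : z ≠ t * z := by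
    intro h
    apply ht1
    have : 1 * z = t * z := by rw [one_mul]; exact h
    exact (mul_right_cancel this).symm
  have ht_tz : t ≠ t * z := by
    intro h
    apply hz1
    have : t * 1 = t * z := by rw [mul_one]; exact h
    exact (mul_left_cancel this).symm
  have hstz : s * (t * z) * s⁻¹ = t := by
    calc s * (t * z) * s⁻¹ = (s * t * s⁻¹) * (s * z * s⁻¹) := by group
      _ = t * z * z := by rw [hst, hsz]
      _ = t := by rw [mul_assoc, hzz, mul_one]
  have hutz : u * (t * z) * u⁻¹ = z := by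
    calc u * (t * z) * u⁻¹ = (u * t * u⁻¹) * (u * z * u⁻¹) := by group
      _ = t * (t * z) := by rw [hut, huz]
      _ = z := by rw [← mul_assoc, htt, one_mul]
  have hzV : z ∈ V := (hV z).2 (Or.inr (Or.inl rfl))
  have htV : t ∈ V := (hV t).2 (Or.inr (Or.inr (Or.inl rfl)))
  have htzV : t * z ∈ V := (hV _).2 (Or.inr (Or.inr (Or.inr rfl)))
  have hsN : s ∈ Subgroup.normalizer (V : Set G) := by
    apply mem_normalizer_of_conj_mem
    intro v hv
    rcases (hV v).1 hv with e | e | e | e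
    · rw [e]; simp
    · rw [e, hsz]; exact hzV
    · rw [e, hst]; exact htzV
    · rw [e, hstz]; exact htV
  have huN : u ∈ Subgroup.normalizer (V : Set G) := by
    apply mem_normalizer_of_conj_mem
    intro v hv
    rcases (hV v).1 hv with e | e | e | e
    · rw [e]; simp
    · rw [e, huz]; exact htzV
    · rw [e, hut]; exact htV
    · rw [e, hutz]; exact hzV
  -- the action on T
  have hT : ∀ n ∈ Subgroup.normalizer (V : Set G), ∀ x ∈ ({z, t, t * z} : Set G),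
      n * x * n⁻¹ ∈ ({z, t, t * z} : Set G) := by
    intro n hn x hx
    simp only [Set.mem_insert_iff, Set.mem_singleton_iff] at hx ⊢
    have hxV : x ∈ V := (hV x).2 (Or.inr hx)
    have hx1 : x ≠ 1 := by
      rcases hx with e | e | e
      · rw [e]; exact hz1
      · rw [e]; exact ht1
      · rw [e]; exact htz1
    have h1 : n * x * n⁻¹ ∈ V := (Subgroup.mem_normalizer_iff.1 hn x).1 hxV
    rcases (hV _).1 h1 with e | e
    · exfalso
      apply hx1
      calc x = n⁻¹ * (n * x * n⁻¹) * n := by group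
        _ = 1 := by rw [e]; group
    · exact e
  let φ : ↥(Subgroup.normalizer (V : Set G)) →* Equiv.Perm ↥({z, t, t * z} : Set G) :=
    { toFun := fun n =>
        { toFun := fun x => ⟨(n : G) * x * (n : G)⁻¹, hT n n.2 x x.2⟩
          invFun := fun x => ⟨(n : G)⁻¹ * x * (n : G), by
            have := hT (n : G)⁻¹ (Subgroup.inv_mem _ n.2) x x.2
            rwa [inv_inv] at this⟩
          left_inv := by
            intro x
            apply Subtype.ext
            show (n : G)⁻¹ * ((n : G) * x * (n : G)⁻¹) * (n : G) = x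
            group
          right_inv := by
            intro x
            apply Subtype.ext
            show (n : G) * ((n : G)⁻¹ * x * (n : G)) * (n : G)⁻¹ = x
            group }
      map_one' := by
        ext x
        show ((1 : ↥(Subgroup.normalizer (V : Set G))) : G) * x
          * ((1 : ↥(Subgroup.normalizer (V : Set G))) : G)⁻¹ = x
        rw [Subgroup.coe_one]; group
      map_mul' := by
        intro a b
        ext x
        show ((a * b : ↥(Subgroup.normalizer (V : Set G))) : G) * x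
          * ((a * b : ↥(Subgroup.normalizer (V : Set G))) : G)⁻¹
          = (a : G) * ((b : G) * x * (b : G)⁻¹) * (a : G)⁻¹
        rw [Subgroup.coe_mul]; group }
  have hφ : ∀ (n : ↥(Subgroup.normalizer (V : Set G))) (x : ↥({z, t, t * z} : Set G)),
      ((φ n x : ↥({z, t, t * z} : Set G)) : G) = (n : G) * x * (n : G)⁻¹ := fun n x => rfl
  have hker : φ.ker = (Subgroup.centralizer (V : Set G)).subgroupOf
      (Subgroup.normalizer (V : Set G)) := by
    ext n
    rw [MonoidHom.mem_ker, Subgroup.mem_subgroupOf, Subgroup.mem_centralizer_iff]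
    constructor
    · intro hn v hv
      have hv' : v ∈ V := hv
      rcases (hV v).1 hv' with e | e
      · rw [e, one_mul, mul_one]
      · have hvT : v ∈ ({z, t, t * z} : Set G) := by
          simp only [Set.mem_insert_iff, Set.mem_singleton_iff]; exact e
        have h1 := hφ n ⟨v, hvT⟩
        rw [hn] at h1
        have h2 : v = (n : G) * v * (n : G)⁻¹ := h1
        calc v * (n : G) = ((n : G) * v * (n : G)⁻¹) * (n : G) := by rw [← h2]
          _ = (n : G) * v := by group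
    · intro hn
      ext x
      rw [hφ]
      have hxV : (x : G) ∈ V := by
        have := x.2
        simp only [Set.mem_insert_iff, Set.mem_singleton_iff] at this
        exact (hV _).2 (Or.inr this)
      have h1 := hn (x : G) hxV
      show (n : G) * x * (n : G)⁻¹ = x
      rw [← h1]; group
  have hcardT : Nat.card ↥({z, t, t * z} : Set G) = 3 := by
    rw [Nat.card_coe_set_eq, Set.ncard_insert_of_notMem, Set.ncard_pair ht_tz]
    simp only [Set.mem_insert_iff, Set.mem_singleton_iff, not_or]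
    exact ⟨hzt, hz_tz⟩
  have hcardP : Nat.card (Equiv.Perm ↥({z, t, t * z} : Set G)) = 6 := by
    have : Finite ↥({z, t, t * z} : Set G) := Nat.finite_of_card_ne_zero (by rw [hcardT]; norm_num)
    rw [Nat.card_perm, hcardT]; rfl
  have : Finite ↥({z, t, t * z} : Set G) := Nat.finite_of_card_ne_zero (by rw [hcardT]; norm_num)
  -- points
  have hzT : z ∈ ({z, t, t * z} : Set G) := by simp
  have htT : t ∈ ({z, t, t * z} : Set G) := by simp
  have htzT : t * z ∈ ({z, t, t * z} : Set G) := by simp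
  -- elements of the range
  obtain ⟨σ₁, hσ₁⟩ : ∃ σ, σ = φ ⟨s, hsN⟩ := ⟨_, rfl⟩
  obtain ⟨σ₂, hσ₂⟩ : ∃ σ, σ = φ ⟨u, huN⟩ := ⟨_, rfl⟩
  have e1z : σ₁ ⟨z, hzT⟩ = ⟨z, hzT⟩ := by
    apply Subtype.ext; rw [hσ₁, hφ]; exact hsz
  have e1t : σ₁ ⟨t, htT⟩ = ⟨t * z, htzT⟩ := by
    apply Subtype.ext; rw [hσ₁, hφ]; exact hst
  have e1tz : σ₁ ⟨t * z, htzT⟩ = ⟨t, htT⟩ := by
    apply Subtype.ext; rw [hσ₁, hφ]; exact hstz
  have e2z : σ₂ ⟨z, hzT⟩ = ⟨t * z, htzT⟩ := by
    apply Subtype.ext; rw [hσ₂, hφ]; exact huz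
  have e2t : σ₂ ⟨t, htT⟩ = ⟨t, htT⟩ := by
    apply Subtype.ext; rw [hσ₂, hφ]; exact hut
  have n1 : σ₁ ≠ 1 := by
    intro h
    have := e1t
    rw [h, Equiv.Perm.one_apply] at this
    exact ht_tz (congrArg Subtype.val this)
  have n2 : σ₂ ≠ 1 := by
    intro h
    have := e2z
    rw [h, Equiv.Perm.one_apply] at this
    exact hz_tz (congrArg Subtype.val this)
  have n12 : σ₁ ≠ σ₂ := by
    intro h
    have := e1z
    rw [h, e2z] at this
    exact hz_tz (congrArg Subtype.val this).symm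
  have n3 : σ₁ * σ₂ ≠ 1 := by
    intro h
    have h1 : (σ₁ * σ₂) ⟨z, hzT⟩ = ⟨t, htT⟩ := by
      rw [Equiv.Perm.mul_apply, e2z, e1tz]
    rw [h, Equiv.Perm.one_apply] at h1
    exact hzt (congrArg Subtype.val h1)
  have n31 : σ₁ * σ₂ ≠ σ₁ := by
    intro h
    apply n2
    have : σ₁ * σ₂ = σ₁ * 1 := by rw [mul_one]; exact h
    exact mul_left_cancel this
  have n32 : σ₁ * σ₂ ≠ σ₂ := by
    intro h
    apply n1
    have : σ₁ * σ₂ = 1 * σ₂ := by rw [one_mul]; exact h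
    exact mul_right_cancel this
  have m1 : σ₁ ∈ φ.range := by rw [hσ₁]; exact ⟨_, rfl⟩
  have m2 : σ₂ ∈ φ.range := by rw [hσ₂]; exact ⟨_, rfl⟩
  have hge : 4 ≤ Nat.card φ.range := by
    have hsub : (({1, σ₁, σ₂, σ₁ * σ₂} : Finset (Equiv.Perm ↥({z, t, t * z} : Set G))) : Set _)
        ⊆ (φ.range : Set (Equiv.Perm ↥({z, t, t * z} : Set G))) := by
      intro x hx
      simp only [Finset.coe_insert, Finset.coe_singleton, Set.mem_insert_iff,
        Set.mem_singleton_iff] at hx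
      rcases hx with e | e | e | e
      · rw [e]; exact φ.range.one_mem
      · rw [e]; exact m1
      · rw [e]; exact m2
      · rw [e]; exact φ.range.mul_mem m1 m2
    have h1 := Set.ncard_le_ncard hsub (Set.toFinite _)
    rw [Set.ncard_coe_finset] at h1
    have h2 : ({1, σ₁, σ₂, σ₁ * σ₂} : Finset (Equiv.Perm ↥({z, t, t * z} : Set G))).card = 4 := by
      rw [Finset.card_insert_of_notMem, Finset.card_insert_of_notMem,
        Finset.card_insert_of_notMem, Finset.card_singleton]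
      · simp only [Finset.mem_singleton]; exact fun h => n32 h.symm
      · simp only [Finset.mem_insert, Finset.mem_singleton, not_or]
        exact ⟨n12, fun h => n31 h.symm⟩
      · simp only [Finset.mem_insert, Finset.mem_singleton, not_or]
        exact ⟨fun h => n1 h.symm, fun h => n2 h.symm, fun h => n3 h.symm⟩
    rw [h2] at h1
    exact h1
  have hdvd : Nat.card φ.range ∣ 6 := by
    rw [← hcardP]; exact Subgroup.card_subgroup_dvd_card _
  have hsix : Nat.card φ.range = 6 := by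
    have hle : Nat.card φ.range ≤ 6 := Nat.le_of_dvd (by norm_num) hdvd
    obtain ⟨k, hk⟩ := hdvd
    have hk1 : k = 1 := by
      rcases Nat.lt_or_ge k 2 with h | h
      · rcases Nat.eq_zero_or_pos k with h0 | h0
        · rw [h0] at hk; omega
        · omega
      · exfalso
        have : 4 * 2 ≤ Nat.card φ.range * k := Nat.mul_le_mul hge h
        omega
    rw [hk1, mul_one] at hk
    exact hk.symm
  show ((Subgroup.centralizer (V : Set G)).subgroupOf (Subgroup.normalizer (V : Set G))).index = 6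
  rw [← hker, Subgroup.index_ker, hsix]

end index

section klein

variable {G : Type*} [Group G]

theorem sq_pow_cases {z : G} (hzz : z * z = 1) (a : ℕ) : z ^ a = 1 ∨ z ^ a = z := by
  induction a with
  | zero => left; exact pow_zero z
  | succ a ih =>
    rcases ih with e | e
    · right; rw [pow_succ, e, one_mul]
    · left; rw [pow_succ, e, hzz]

theorem klein_mem (z t : G) (hzz : z * z = 1) (htt : t * t = 1) (hc : z * t = t * z)
    (Z Z' : Subgroup G) (hZ : ∀ x, x ∈ Z ↔ x = 1 ∨ x = z) (hZ' : ∀ x, x ∈ Z' ↔ x = 1 ∨ x = t) :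
    ∀ x, x ∈ Z ⊔ Z' ↔ (x = 1 ∨ x = z ∨ x = t ∨ x = t * z) := by
  have hct : Commute z t := hc
  have hzinv : z⁻¹ = z := inv_eq_of_mul_eq_one_left hzz
  have htinv : t⁻¹ = t := inv_eq_of_mul_eq_one_left htt
  let V₀ : Subgroup G :=
    { carrier := {x | ∃ a b : ℕ, x = z ^ a * t ^ b}
      one_mem' := ⟨0, 0, by simp⟩
      mul_mem' := by
        rintro x y ⟨a, b, rfl⟩ ⟨c, d, rfl⟩
        refine ⟨a + c, b + d, ?_⟩
        have h1 : t ^ b * z ^ c = z ^ c * t ^ b := ((hct.pow_pow c b).eq).symm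
        calc z ^ a * t ^ b * (z ^ c * t ^ d) = z ^ a * (t ^ b * z ^ c) * t ^ d := by group
          _ = z ^ a * (z ^ c * t ^ b) * t ^ d := by rw [h1]
          _ = z ^ (a + c) * t ^ (b + d) := by rw [pow_add, pow_add]; group
      inv_mem' := by
        rintro x ⟨a, b, rfl⟩
        refine ⟨a, b, ?_⟩
        have h1 : t ^ b * z ^ a = z ^ a * t ^ b := ((hct.pow_pow a b).eq).symm
        rw [mul_inv_rev, ← inv_pow, ← inv_pow, hzinv, htinv, h1] }
  have hV₀ : ∀ x, x ∈ V₀ → (x = 1 ∨ x = z ∨ x = t ∨ x = t * z) := by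
    rintro x ⟨a, b, rfl⟩
    rcases sq_pow_cases hzz a with e | e <;> rcases sq_pow_cases htt b with e' | e' <;>
      rw [e, e']
    · left; rw [mul_one]
    · right; right; left; rw [one_mul]
    · right; left; rw [mul_one]
    · right; right; right; exact hc
  have hzV₀ : z ∈ V₀ := ⟨1, 0, by simp⟩
  have htV₀ : t ∈ V₀ := ⟨0, 1, by simp⟩
  intro x
  constructor
  · intro hx
    apply hV₀
    have hle : Z ⊔ Z' ≤ V₀ := by
      apply sup_le
      · intro y hy
        rcases (hZ y).1 hy with e | e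
        · rw [e]; exact V₀.one_mem
        · rw [e]; exact hzV₀
      · intro y hy
        rcases (hZ' y).1 hy with e | e
        · rw [e]; exact V₀.one_mem
        · rw [e]; exact htV₀
    exact hle hx
  · have hzV : z ∈ Z ⊔ Z' := (le_sup_left : Z ≤ Z ⊔ Z') ((hZ z).2 (Or.inr rfl))
    have htV : t ∈ Z ⊔ Z' := (le_sup_right : Z' ≤ Z ⊔ Z') ((hZ' t).2 (Or.inr rfl))
    rintro (e | e | e | e)
    · rw [e]; exact Subgroup.one_mem _
    · rw [e]; exact hzV
    · rw [e]; exact htV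
    · rw [e]; exact Subgroup.mul_mem _ htV hzV

end klein



/-- Let Q be an extraspecial 2-subgroup of the finite group G whose centralizer in G is its centre Z and which is normal in the centralizer of Z; suppose Q has width at least 2 (order 2^(2w+1) with w ≥ 2) and g is an element of G not normalizing Z with g Z g⁻¹ inside Q. Then Z lies inside g Q g⁻¹; writing V for the subgroup generated by Z and g Z g⁻¹ (a four-group), the normalizer of V induces on V its full automorphism group, that is, the centralizer of V has index 6 in the normalizer of V; and Q is a large extraspecial 2-subgroup of G. -/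
theorem result {G : Type*} [Group G] [Finite G] (Q : Subgroup G) (hL1 : Cfsg.IsExtraspecial 2 ↥Q) (hL2 : Subgroup.centralizer (Q : Set G) = ((Subgroup.center ↥Q).map Q.subtype)) (hL3 : Subgroup.centralizer (((Subgroup.center ↥Q).map Q.subtype) : Set G) ≤ Subgroup.normalizer (Q : Set G)) (w : ℕ) (hw : 2 ≤ w) (hcard : Nat.card ↥Q = 2 ^ (2 * w + 1)) (g : G) (hg : g ∉ Subgroup.normalizer (((Subgroup.center ↥Q).map Q.subtype) : Set G)) (hZg : (((Subgroup.center ↥Q).map Q.subtype)).map (MulAut.conj g).toMonoidHom ≤ Q) : ((Subgroup.center ↥Q).map Q.subtype) ≤ (Q).map (MulAut.conj g).toMonoidHom ∧ (Subgroup.centralizer ((((Subgroup.center ↥Q).map Q.subtype) ⊔ (((Subgroup.center ↥Q).map Q.subtype)).map (MulAut.conj g).toMonoidHom : Subgroup G) : Set G)).relIndex (Subgroup.normalizer ((((Subgroup.center ↥Q).map Q.subtype) ⊔ (((Subgroup.center ↥Q).map Q.subtype)).map (MulAut.conj g).toMonoidHom : Subgroup G) : Set G)) = 6 ∧ Cfsg.IsLargeExtraspecial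 Q := by
  classical
  obtain ⟨z, hES, hmemZ⟩ := ES.of_hyp Q hL1 hL2 hL3
  have hQ2 : IsPGroup 2 Q := hL1.1.1
  have hzz : z * z = 1 := hES.z_sq
  have hz1 : z ≠ 1 := hES.z_ne
  have h' : ES (Q.map (MulAut.conj g).toMonoidHom) (g * z * g⁻¹) := hES.conj g
  have htt : (g * z * g⁻¹) * (g * z * g⁻¹) = 1 := h'.z_sq
  have ht1 : g * z * g⁻¹ ≠ 1 := h'.z_ne
  have hmemZ' : ∀ x : G, x ∈ ((Subgroup.center ↥Q).map Q.subtype).map (MulAut.conj g).toMonoidHom
      ↔ (x = 1 ∨ x = g * z * g⁻¹) := by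
    intro x
    rw [mem_conj_iff, hmemZ]
    constructor
    · rintro (e | e)
      · left
        calc x = g * (g⁻¹ * x * g) * g⁻¹ := by group
          _ = 1 := by rw [e]; group
      · right
        calc x = g * (g⁻¹ * x * g) * g⁻¹ := by group
          _ = g * z * g⁻¹ := by rw [e]
    · rintro (e | e)
      · left; rw [e]; group
      · right; rw [e]; group
  have htQ : g * z * g⁻¹ ∈ Q := hZg ((hmemZ' _).2 (Or.inr rfl))
  have htz : g * z * g⁻¹ ≠ z := by
    intro h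
    apply hg
    rw [Subgroup.mem_normalizer_iff]
    intro x
    rw [hmemZ, hmemZ]
    constructor
    · rintro (e | e)
      · left; rw [e]; group
      · right; rw [e]; exact h
    · rintro (e | e)
      · left
        calc x = g⁻¹ * (g * x * g⁻¹) * g := by group
          _ = 1 := by rw [e]; group
      · right
        have h2 : g * x * g⁻¹ = g * z * g⁻¹ := by rw [e]; exact h.symm
        calc x = g⁻¹ * (g * x * g⁻¹) * g := by group
          _ = g⁻¹ * (g * z * g⁻¹) * g := by rw [h2]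
          _ = z := by group
  have sym : ∀ n : G, n * z * n⁻¹ = g * z * g⁻¹ →
      ∀ q ∈ Q, n * q * n⁻¹ ∈ Q.map (MulAut.conj g).toMonoidHom := by
    intro n hn q hq
    rw [mem_conj_iff]
    have hc : (g⁻¹ * n) * z = z * (g⁻¹ * n) := by
      calc (g⁻¹ * n) * z = g⁻¹ * (n * z * n⁻¹) * n := by group
        _ = g⁻¹ * (g * z * g⁻¹) * n := by rw [hn]
        _ = z * (g⁻¹ * n) := by group
    have := hES.norm _ hc q hq
    have hid : g⁻¹ * (n * q * n⁻¹) * g = (g⁻¹ * n) * q * (g⁻¹ * n)⁻¹ := by group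
    rw [hid]; exact this
  obtain ⟨s, hsQ, hs⟩ := hES.exists_partner _ htQ ht1 htz
  have hzt : z * (g * z * g⁻¹) = (g * z * g⁻¹) * z := (hES.z_comm _ htQ).symm
  -- the centralizer of t in Q is non-abelian
  have hex : ∃ x₁ ∈ Q, ∃ x₂ ∈ Q, x₁ * (g * z * g⁻¹) = (g * z * g⁻¹) * x₁ ∧
      x₂ * (g * z * g⁻¹) = (g * z * g⁻¹) * x₂ ∧ x₁ * x₂ * x₁⁻¹ * x₂⁻¹ = z := by
    by_contra hcon
    have hab : ∀ x₁ ∈ Q, ∀ x₂ ∈ Q, x₁ * (g * z * g⁻¹) = (g * z * g⁻¹) * x₁ →
        x₂ * (g * z * g⁻¹) = (g * z * g⁻¹) * x₂ → x₁ * x₂ = x₂ * x₁ := by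
      intro x₁ h₁ x₂ h₂ c₁ c₂
      rcases hES.comm_mem x₁ h₁ x₂ h₂ with e | e
      · exact (comm_one_iff _ _).1 e
      · exact (hcon ⟨x₁, h₁, x₂, h₂, c₁, c₂, e⟩).elim
    have hX4 : ∀ x ∈ Q, x * (g * z * g⁻¹) = (g * z * g⁻¹) * x →
        x = 1 ∨ x = z ∨ x = g * z * g⁻¹ ∨ x = (g * z * g⁻¹) * z := by
      intro x hx hxt
      apply hES.double_cent _ htQ htt x hx
      intro y hy hyt
      exact hab y hy x hx hyt hxt
    have hsinv : s⁻¹ * (g * z * g⁻¹) * s⁻¹⁻¹ * (g * z * g⁻¹)⁻¹ = z := by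
      rcases hES.comm_mem s⁻¹ (Q.inv_mem hsQ) _ htQ with e | e
      · exfalso
        have h1 : s⁻¹ * (g * z * g⁻¹) = (g * z * g⁻¹) * s⁻¹ := (comm_one_iff _ _).1 e
        have h2 : s * (g * z * g⁻¹) = (g * z * g⁻¹) * s := by
          have hc1 : Commute s⁻¹ (g * z * g⁻¹) := h1
          have := hc1.inv_left
          rw [inv_inv] at this
          exact this.eq
        have h3 := (comm_one_iff s (g * z * g⁻¹)).2 h2
        rw [hs] at h3
        exact hz1 h3
      · exact e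
    have hQ8 : ∀ q ∈ Q, q ∈ ([1, z, g * z * g⁻¹, (g * z * g⁻¹) * z, s, s * z, s * (g * z * g⁻¹),
        s * ((g * z * g⁻¹) * z)] : List G).toFinset := by
      intro q hq
      simp only [List.mem_toFinset, List.mem_cons, List.not_mem_nil, or_false]
      rcases hES.comm_mem q hq _ htQ with e | e
      · have := hX4 q hq ((comm_one_iff _ _).1 e)
        tauto
      · have h1 : (s⁻¹ * q) * (g * z * g⁻¹) * (s⁻¹ * q)⁻¹ * (g * z * g⁻¹)⁻¹ = 1 := by
          rw [hES.comm_mul_left s⁻¹ q _ (Q.inv_mem hsQ) hq htQ, e, hsinv, hzz]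
        have h2 := hX4 (s⁻¹ * q) (Q.mul_mem (Q.inv_mem hsQ) hq) ((comm_one_iff _ _).1 h1)
        have h3 : q = s * (s⁻¹ * q) := by group
        rcases h2 with e2 | e2 | e2 | e2
        · right; right; right; right; left
          rw [h3, e2, mul_one]
        · right; right; right; right; right; left
          rw [h3, e2]
        · right; right; right; right; right; right; left
          rw [h3, e2]
        · right; right; right; right; right; right; right
          rw [h3, e2]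
    have hcard8 : Nat.card Q ≤ 8 := by
      have hsub : (Q : Set G) ⊆ (([1, z, g * z * g⁻¹, (g * z * g⁻¹) * z, s, s * z,
          s * (g * z * g⁻¹), s * ((g * z * g⁻¹) * z)] : List G).toFinset : Set G) := by
        intro q hq
        exact Finset.mem_coe.2 (hQ8 q hq)
      have h1 := Set.ncard_le_ncard hsub (Finset.finite_toSet _)
      rw [Set.ncard_coe_finset] at h1
      have h2 := List.toFinset_card_le ([1, z, g * z * g⁻¹, (g * z * g⁻¹) * z, s, s * z,
          s * (g * z * g⁻¹), s * ((g * z * g⁻¹) * z)] : List G)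
      have h3 : Nat.card Q = (Q : Set G).ncard := rfl
      rw [h3]
      exact h1.trans (h2.trans (by simp))
    rw [hcard] at hcard8
    have : 2 ^ 5 ≤ 2 ^ (2 * w + 1) := Nat.pow_le_pow_right (by norm_num) (by omega)
    omega
  obtain ⟨x₁, hx₁, x₂, hx₂, c₁, c₂, hx⟩ := hex
  have hzQ' : z ∈ Q.map (MulAut.conj g).toMonoidHom :=
    part_a hES h' htQ htz sym x₁ x₂ hx₁ hx₂ c₁ c₂ hx
  refine ⟨?_, ?_, ?_⟩
  · intro x hx
    rcases (hmemZ x).1 hx with e | e
    · rw [e]; exact Subgroup.one_mem _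
    · rw [e]; exact hzQ'
  · -- index six
    have hV := klein_mem z (g * z * g⁻¹) hzz htt hzt _ _ hmemZ hmemZ'
    have hz1' : z ≠ 1 := hz1
    have hzt' : z ≠ g * z * g⁻¹ := fun h => htz h.symm
    obtain ⟨u, huQ', hu⟩ := h'.exists_partner z hzQ' hz1 hzt'
    -- s: fixes z, t ↦ t z ;  u : fixes t, z ↦ z t = t z
    have hsz : s * z * s⁻¹ = z := by rw [hES.z_comm s hsQ]; group
    have hst : s * (g * z * g⁻¹) * s⁻¹ = (g * z * g⁻¹) * z := by
      have : s * (g * z * g⁻¹) * s⁻¹ = z * (g * z * g⁻¹) := by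
        calc s * (g * z * g⁻¹) * s⁻¹
            = (s * (g * z * g⁻¹) * s⁻¹ * (g * z * g⁻¹)⁻¹) * (g * z * g⁻¹) := by group
          _ = z * (g * z * g⁻¹) := by rw [hs]
      rw [this, hzt]
    have hut : u * (g * z * g⁻¹) * u⁻¹ = g * z * g⁻¹ := by
      rw [h'.z_comm u huQ']; group
    have huz : u * z * u⁻¹ = (g * z * g⁻¹) * z := by
      calc u * z * u⁻¹ = (u * z * u⁻¹ * z⁻¹) * z := by group
        _ = (g * z * g⁻¹) * z := by rw [hu]
    exact index_six _ z (g * z * g⁻¹) s u hz1 ht1 hzt' hzz htt hzt hV hsz hst hut huz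
  · -- largeness via S5421
    have hbZ : g * z * g⁻¹ ∉ ((Subgroup.center ↥Q).map Q.subtype) := by
      intro hmem
      rcases (hmemZ _).1 hmem with e | e
      · exact ht1 e
      · exact htz e
    have hord : orderOf (g * z * g⁻¹) = 2 := by
      haveI : Fact (Nat.Prime 2) := ⟨Nat.prime_two⟩
      apply orderOf_eq_prime
      · rw [pow_two]; exact htt
      · exact ht1
    apply Cfsg.Agent.S5421.result Q hL1 hL2 hL3 (g * z * g⁻¹) htQ hbZ hord
    -- Z ≤ O_2(C(t))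
    have hQ'C : Q.map (MulAut.conj g).toMonoidHom ≤ Subgroup.centralizer ({g * z * g⁻¹} : Set G) := by
      intro q hq
      rw [Subgroup.mem_centralizer_iff]
      intro y hy
      rw [Set.mem_singleton_iff] at hy
      rw [hy]
      exact (h'.z_comm q hq).symm
    have hQ'2 : IsPGroup 2 (Q.map (MulAut.conj g).toMonoidHom) := hQ2.map _
    have hP2 : IsPGroup 2 ((Q.map (MulAut.conj g).toMonoidHom).subgroupOf
        (Subgroup.centralizer ({g * z * g⁻¹} : Set G))) :=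
      hQ'2.comap_of_injective _ (Subgroup.subtype_injective _)
    have hPn : ((Q.map (MulAut.conj g).toMonoidHom).subgroupOf
        (Subgroup.centralizer ({g * z * g⁻¹} : Set G))).Normal := by
      constructor
      intro n hn c
      rw [Subgroup.mem_subgroupOf] at hn ⊢
      have hc : (c : G) * (g * z * g⁻¹) = (g * z * g⁻¹) * (c : G) := by
        have := Subgroup.mem_centralizer_iff.1 c.2 (g * z * g⁻¹) (Set.mem_singleton _)
        exact this.symm
      have := h'.norm (c : G) hc (n : G) hn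
      simpa using this
    have hPle : ((Q.map (MulAut.conj g).toMonoidHom).subgroupOf
        (Subgroup.centralizer ({g * z * g⁻¹} : Set G)))
        ≤ Cfsg.pCore 2 ↥(Subgroup.centralizer ({g * z * g⁻¹} : Set G)) :=
      le_sSup ⟨hPn, hP2⟩
    intro x hx
    have hxQ' : x ∈ Q.map (MulAut.conj g).toMonoidHom := by
      rcases (hmemZ x).1 hx with e | e
      · rw [e]; exact Subgroup.one_mem _
      · rw [e]; exact hzQ'
    refine Subgroup.mem_map.2 ⟨⟨x, hQ'C hxQ'⟩, hPle ?_, rfl⟩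
    rw [Subgroup.mem_subgroupOf]
    exact hxQ'

end Cfsg.Agent.S5422
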