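import Cfsg.Statements.S5423
import Cfsg.Agent.Lib_helper25_AffA
import Cfsg.Agent.Lib_helper25_AffD
import Cfsg.Agent.Lib_helper25_TransvE
import Cfsg.Agent.Lib_helper25_TransvF

set_option autoImplicit false
open Cfsg

namespace Cfsg.Agent.S5423

open Cfsg.Agent.S1339 Cfsg.Agent.helper25.TransvB Cfsg.Agent.helper25.TransvC
  Cfsg.Agent.helper25.TransvD Cfsg.Agent.helper25.TransvE Cfsg.Agent.helper25.TransvF
  Cfsg.Agent.helper25.AffA Cfsg.Agent.helper25.AffB Cfsg.Agent.helper25.AffC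
  Cfsg.Agent.helper25.AffD

/-- Let G be a finite group that is the split extension of an elementary abelian normal subgroup U of order 2^(n+1), n ≥ 1, by its full automorphism group: U has a complement M in G whose conjugation action on U is faithful and realizes every automorphism of U. Let Z be a subgroup of U of order 2 and Q the largest normal 2-subgroup of the centralizer C of Z. Then Q is extraspecial of order 2^(2n+1) with an elementary abelian subgroup of order 2^(n+1) (plus type), Q is a large extraspecial 2-subgroup of G, and C is the split extension of Q by the general linear group of degree n over the field with two elements. -/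
theorem result {G : Type*} [Group G] [Finite G] (n : ℕ) (hn : 1 ≤ n) (U M : Subgroup G) [U.Normal] (hU : Cfsg.IsElementaryAbelian 2 U) (hUcard : Nat.card ↥U = 2 ^ (n + 1)) (hUM : U ⊓ M = ⊥) (hUM' : U ⊔ M = ⊤) (hfaith : ∀ m ∈ M, (∀ u ∈ U, m * u * m⁻¹ = u) → m = 1) (hfull : ∀ φ : ↥U ≃* ↥U, ∃ m ∈ M, ∀ u : ↥U, ((φ u : ↥U) : G) = m * u * m⁻¹) (Z : Subgroup G) (hZU : Z ≤ U) (hZ : Nat.card ↥Z = 2) (Q : Subgroup G) (hQ : Q = (Cfsg.pCore 2 ↥(Subgroup.centralizer (Z : Set G))).map (Subgroup.centralizer (Z : Set G)).subtype) : Cfsg.IsExtraspecial 2 ↥Q ∧ Nat.card ↥Q = 2 ^ (2 * n + 1) ∧ (∃ E : Subgroup G, E ≤ Q ∧ Cfsg.IsElementaryAbelian 2 E ∧ Nat.card ↥E = 2 ^ (n + 1)) ∧ Cfsg.IsLargeExtraspecial Q ∧ ∃ K : Subgroup G, K ≤ Subgroup.centralizer (Z : Set G) ∧ Q ⊓ K = ⊥ ∧ Q ⊔ K = Subgroup.centralizer (Z : Set G) ∧ Nonempty (↥K ≃* Matrix.GeneralLinearGroup (Fin n) (ZMod 2)) := by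
  classical
  have hF : Fintype.card (ZMod 2) = 2 := ZMod.card 2
  -- the generator of Z
  obtain ⟨z', hz'1, hz'u⟩ := (Nat.card_eq_two_iff' (1 : ↥Z)).mp hZ
  have hzU : (z' : G) ∈ U := hZU z'.2
  have hz1 : (z' : G) ≠ 1 := fun h => hz'1 (Subtype.ext h)
  have hcentZ : Subgroup.centralizer (Z : Set G) = Subgroup.centralizer ({(z' : G)} : Set G) := by
    ext x
    rw [Subgroup.mem_centralizer_iff, Subgroup.mem_centralizer_singleton_iff]
    constructor
    · intro h
      exact (h _ z'.2).symm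
    · intro h y hy
      by_cases hy1 : (⟨y, hy⟩ : ↥Z) = 1
      · have : y = 1 := congrArg Subtype.val hy1
        rw [this, one_mul, mul_one]
      · have := hz'u ⟨y, hy⟩ hy1
        have hyz : y = (z' : G) := congrArg Subtype.val this
        rw [hyz]; exact h.symm
  -- coordinates
  obtain ⟨κ, hκ, hadd, hκz⟩ := exists_coord (V := ↥U)
    (fun a b => hU.1.is_comm.comm a b)
    (fun a => Subtype.ext (by simpa using hU.2 a.1 a.2)) n hUcard ⟨(z' : G), hzU⟩
    (fun h => hz1 (congrArg Subtype.val h))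
  have hc : U.IsComplement' M := by
    apply Subgroup.isComplement'_of_disjoint_and_mul_eq_univ (disjoint_iff.mpr hUM)
    rw [← Subgroup.normal_mul, hUM', Subgroup.coe_top]
  have hinj := Phi_injective U κ hκ hadd M hc hfaith
  have hΦz := Phi_z U κ hκ hadd M hc ⟨(z' : G), hzU⟩ hκz
  have hrange := Cz_le_range U κ hκ hadd M hc hfull
  set Φ := Phi U κ hκ hadd M hc with hΦ
  -- centralizer
  have hCG : Subgroup.centralizer ({(z' : G)} : Set G) = (Cz (ZMod 2) n).comap Φ := by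
    rw [centralizer_eq_comap Φ hinj]
    show (Subgroup.centralizer ({Φ ((⟨(z' : G), hzU⟩ : ↥U) : G)} : Set _)).comap Φ = _
    rw [hΦz]
    rfl
  have hQle : qSub (F := ZMod 2) (0 : Fin (n + 2)) 1 ≤ Φ.range := le_trans qSub_le_Cz hrange
  have hQeq : Q = (qSub (F := ZMod 2) (0 : Fin (n + 2)) 1).comap Φ := by
    rw [hQ, hcentZ, hCG, pCoreOf_eq_comap Φ hinj 2 _ hrange]
    have := pCoreOf_Cz' (F := ZMod 2) (m := n) hF
    unfold Cfsg.pCoreOf at this
    rw [this]
  -- a third index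
  have hb0 : (Fin.succ (Fin.succ (⟨0, by omega⟩ : Fin n)) : Fin (n + 2)) ≠ 0 := Fin.succ_ne_zero _
  have hb1 : (Fin.succ (Fin.succ (⟨0, by omega⟩ : Fin n)) : Fin (n + 2)) ≠ 1 := succ_succ_ne_one _
  have hex := isExtraspecial_qSub (F := ZMod 2) hF h01 hb0 hb1
  have hzc : (⟨tv (F := ZMod 2) 0 1 h01, tv_mem_qSub h01⟩ : ↥(qSub (F := ZMod 2) (0 : Fin (n + 2)) 1))
      ∈ Subgroup.center ↥(qSub (F := ZMod 2) (0 : Fin (n + 2)) 1) :=
    (mem_center_qSub_iff hF h01 _).mpr (Or.inr rfl)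
  have hlarge : Cfsg.IsLargeExtraspecial (qSub (F := ZMod 2) (0 : Fin (n + 2)) 1) := by
    refine ⟨hex, ?_, ?_, ?_⟩
    · ext x
      constructor
      · intro hx
        rcases centralizer_cases hF h01 hx with h | h
        · rw [h]; exact one_mem _
        · exact ⟨_, hzc, h.symm⟩
      · rintro ⟨y, hy, rfl⟩
        rcases (mem_center_qSub_iff hF h01 y).mp hy with h | h
        · show (y : Matrix.SpecialLinearGroup (Fin (n + 2)) (ZMod 2)) ∈ _
          rw [h]; exact one_mem _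
        · show (y : Matrix.SpecialLinearGroup (Fin (n + 2)) (ZMod 2)) ∈ _
          rw [h]; exact tv_mem_centralizer_qSub h01
    · intro g hg
      apply centralizer_le_normalizer_qSub (F := ZMod 2) h01
      rw [Subgroup.mem_centralizer_iff] at hg ⊢
      intro x hx
      rw [Set.mem_singleton_iff] at hx
      rw [hx]
      exact hg _ ⟨_, hzc, rfl⟩
    · intro K hodd hQK
      exact no_odd hF h01 hb0 hb1 K hodd hQK
  obtain ⟨h1, h2, h3, ⟨h4⟩⟩ := complement (F := ZMod 2) (n := n) hF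
  have hKle : (kHom (F := ZMod 2) (n := n)).range ≤ Φ.range := le_trans h1 hrange
  obtain ⟨c1, c2⟩ := complement_comap Φ hinj _ _ _ hQle hKle h2 h3
  have hEle : eSub (F := ZMod 2) (0 : Fin (n + 2)) ≤ Φ.range := le_trans (eSub_le_qSub h01) hQle
  subst hQeq
  refine ⟨isExtraspecial_of_equiv 2 (comapEquiv Φ hinj _ hQle).symm hex, ?_, ?_, ?_, ?_⟩
  · rw [Nat.card_congr (comapEquiv Φ hinj _ hQle).toEquiv]
    exact card_qSub hF
  · refine ⟨(eSub (F := ZMod 2) (0 : Fin (n + 2))).comap Φ, ?_, ?_, ?_⟩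
    · exact Subgroup.comap_mono (eSub_le_qSub h01)
    · exact isElementaryAbelian_comap Φ hinj 2 _ (isElementaryAbelian_eSub 0)
    · rw [Nat.card_congr (comapEquiv Φ hinj _ hEle).toEquiv]
      exact card_eSub hF
  · exact isLargeExtraspecial_comap Φ hinj _ hQle hlarge
  · refine ⟨(kHom (F := ZMod 2) (n := n)).range.comap Φ, ?_, c1, ?_, ?_⟩
    · rw [hcentZ, hCG]
      exact Subgroup.comap_mono h1
    · rw [hcentZ, hCG]
      exact c2
    · obtain ⟨e3⟩ := nonempty_sl_equiv_gl n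
      exact ⟨((comapEquiv Φ hinj _ hKle).trans h4).trans e3⟩

end Cfsg.Agent.S5423
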