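import Mathlib
import Cfsg.Statements.S5425
import Cfsg.Agent.Lib_helper2_Tv6

set_option autoImplicit false
open Cfsg

namespace Cfsg.Agent.S5425

open Cfsg.Agent.helper2

open Cfsg.Agent.helper2.Golay Cfsg.Agent.helper2.LXT Cfsg.Agent.helper28.LargeES
open Cfsg.Agent.helper25.Transv Cfsg.Agent.S1339 Cfsg.Agent.helper25.TransvC
  Cfsg.Agent.helper25.TransvD

/-- Conjugation between centralisers. -/
def centConj {G : Type*} [Group G] (k x : G) :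
    ↥(Subgroup.centralizer ({k * x * k⁻¹} : Set G)) ≃* ↥(Subgroup.centralizer ({x} : Set G)) where
  toFun c := ⟨k⁻¹ * c.1 * k, by
    rw [mem_cent_iff]
    have hc := mem_cent_iff.mp c.2
    calc k⁻¹ * c.1 * k * x = k⁻¹ * (c.1 * (k * x * k⁻¹)) * k := by group
      _ = k⁻¹ * ((k * x * k⁻¹) * c.1) * k := by rw [hc]
      _ = x * (k⁻¹ * c.1 * k) := by group⟩
  invFun d := ⟨k * d.1 * k⁻¹, by
    rw [mem_cent_iff]
    have hd := mem_cent_iff.mp d.2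
    calc k * d.1 * k⁻¹ * (k * x * k⁻¹) = k * (d.1 * x) * k⁻¹ := by group
      _ = k * (x * d.1) * k⁻¹ := by rw [hd]
      _ = k * x * k⁻¹ * (k * d.1 * k⁻¹) := by group⟩
  left_inv c := by
    apply Subtype.ext
    show k * (k⁻¹ * c.1 * k) * k⁻¹ = c.1
    group
  right_inv d := by
    apply Subtype.ext
    show k⁻¹ * (k * d.1 * k⁻¹) * k = d.1
    group
  map_mul' c c' := by
    apply Subtype.ext
    show k⁻¹ * (c.1 * c'.1) * k = (k⁻¹ * c.1 * k) * (k⁻¹ * c'.1 * k)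
    group

theorem tvA_mem_Qof : tvA ∈ Qof tvZ := by
  have hF : Fintype.card (ZMod 2) = 2 := ZMod.card 2
  have hq : (Cfsg.pCore 2 ↥(Subgroup.centralizer
      ({tvS} : Set (Matrix.SpecialLinearGroup (Fin 5) (ZMod 2))))).map
      (Subgroup.centralizer ({tvS} : Set (Matrix.SpecialLinearGroup (Fin 5) (ZMod 2)))).subtype
      = qSub (F := ZMod 2) (n := 5) 0 1 :=
    pCoreOf_Cz (F := ZMod 2) (n := 3) hF (by norm_num)
  rw [← pull_pCore tvZ _ tvE, mem_pull]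
  refine ⟨⟨tvA, tvA_mem_centralizer⟩, ?_, rfl⟩
  rw [theta_apply, tvE_coe, hq, mem_qSub, tvPhi_val]
  have h1 : (gperm tvTa)⁻¹ = gperm tvTa := by
    rw [inv_eq_iff_mul_eq_one]
    exact tvTa_sq
  show Supp 0 1 ((tvN (gperm tvTa)⁻¹).transpose - 1)
  rw [h1, tvN_tvTa, Matrix.transpose_add, Matrix.transpose_one, Matrix.transpose_single,
    add_sub_cancel_left]
  exact supp_single (by decide) 2 (by decide) 1

theorem result (z : ↥Cfsg.M24) (hz : orderOf z = 2) (hfix : (Finset.univ.filter fun p : Cfsg.GolayPt => (z : Equiv.Perm Cfsg.GolayPt) p = p) ∈ Cfsg.octads) (Q : Subgroup ↥Cfsg.M24) (hQ : Q = (Cfsg.pCore 2 ↥(Subgroup.centralizer ({z} : Set ↥Cfsg.M24))).map (Subgroup.centralizer ({z} : Set ↥Cfsg.M24)).subtype) : Cfsg.IsExtraspecial 2 ↥Q ∧ Nat.card ↥Q = 2 ^ 7 ∧ (∃ E : Subgroup ↥Cfsg.M24, E ≤ Q ∧ Cfsg.IsElementaryAbelian 2 E ∧ Nat.card ↥E = 2 ^ 4) ∧ Cfsg.IsLargeExtraspecial Q ∧ ∃ K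 : Subgroup ↥Cfsg.M24, K ≤ Subgroup.centralizer ({z} : Set ↥Cfsg.M24) ∧ Q ⊓ K = ⊥ ∧ Q ⊔ K = Subgroup.centralizer ({z} : Set ↥Cfsg.M24) ∧ Nonempty (↥K ≃* Matrix.SpecialLinearGroup (Fin 3) (ZMod 2)) := by
  have hcard := out_card_octad hfix
  obtain ⟨p, hp⟩ : ∃ p, z.1 p = p := by
    have hne : (Finset.univ.filter fun p : Cfsg.GolayPt =>
        (z : Equiv.Perm Cfsg.GolayPt) p = p).Nonempty := by
      apply Finset.card_pos.mp
      rw [hcard]
      norm_num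
    obtain ⟨p, hp⟩ := hne
    exact ⟨p, (Finset.mem_filter.mp hp).2⟩
  obtain ⟨k, hk⟩ := conj_of_fixed hz p hp
  subst hk
  subst hQ
  obtain ⟨g1, hg1⟩ := tvA_conj
  obtain ⟨g2, hg2⟩ := tvAZ_conj
  have hS := Cfsg.Agent.S5424.result 3 (by norm_num) tvS tvS_coe _ rfl
  have hT : Cfsg.IsExtraspecial 2 ↥((Cfsg.pCore 2 ↥(Subgroup.centralizer
      ({tvS} : Set (Matrix.SpecialLinearGroup (Fin 5) (ZMod 2))))).map
      (Subgroup.centralizer ({tvS} : Set (Matrix.SpecialLinearGroup (Fin 5) (ZMod 2)))).subtype) ∧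
      Nat.card ↥((Cfsg.pCore 2 ↥(Subgroup.centralizer
      ({tvS} : Set (Matrix.SpecialLinearGroup (Fin 5) (ZMod 2))))).map
      (Subgroup.centralizer ({tvS} : Set (Matrix.SpecialLinearGroup (Fin 5) (ZMod 2)))).subtype)
        = 2 ^ 7 ∧
      (∃ E : Subgroup (Matrix.SpecialLinearGroup (Fin 5) (ZMod 2)),
        E ≤ (Cfsg.pCore 2 ↥(Subgroup.centralizer
      ({tvS} : Set (Matrix.SpecialLinearGroup (Fin 5) (ZMod 2))))).map
      (Subgroup.centralizer ({tvS} : Set (Matrix.SpecialLinearGroup (Fin 5) (ZMod 2)))).subtype ∧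
        Cfsg.IsElementaryAbelian 2 E ∧ Nat.card ↥E = 2 ^ 4) ∧
      Cfsg.IsLargeExtraspecial ((Cfsg.pCore 2 ↥(Subgroup.centralizer
      ({tvS} : Set (Matrix.SpecialLinearGroup (Fin 5) (ZMod 2))))).map
      (Subgroup.centralizer ({tvS} : Set (Matrix.SpecialLinearGroup (Fin 5) (ZMod 2)))).subtype) ∧
      ∃ K : Subgroup (Matrix.SpecialLinearGroup (Fin 5) (ZMod 2)),
        K ≤ Subgroup.centralizer ({tvS} : Set (Matrix.SpecialLinearGroup (Fin 5) (ZMod 2))) ∧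
        (Cfsg.pCore 2 ↥(Subgroup.centralizer
      ({tvS} : Set (Matrix.SpecialLinearGroup (Fin 5) (ZMod 2))))).map
      (Subgroup.centralizer ({tvS} : Set (Matrix.SpecialLinearGroup (Fin 5) (ZMod 2)))).subtype
          ⊓ K = ⊥ ∧
        (Cfsg.pCore 2 ↥(Subgroup.centralizer
      ({tvS} : Set (Matrix.SpecialLinearGroup (Fin 5) (ZMod 2))))).map
      (Subgroup.centralizer ({tvS} : Set (Matrix.SpecialLinearGroup (Fin 5) (ZMod 2)))).subtype
          ⊔ K = Subgroup.centralizer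
            ({tvS} : Set (Matrix.SpecialLinearGroup (Fin 5) (ZMod 2))) ∧
        Nonempty (↥K ≃* Matrix.SpecialLinearGroup (Fin 3) (ZMod 2)) := hS
  have hmain := Cfsg.Agent.helper2.LXT.main (z := k * tvZ * k⁻¹) hz
    (Subgroup.centralizer ({tvS} : Set (Matrix.SpecialLinearGroup (Fin 5) (ZMod 2))))
    ((centConj k tvZ).trans tvE) (2 ^ 7) (2 ^ 4) hT (k * tvA * k⁻¹)
    (Qof_conj k tvZ tvA tvA_mem_Qof)
    ⟨k * g1 * k⁻¹, by
      calc k * g1 * k⁻¹ * (k * tvZ * k⁻¹) * (k * g1 * k⁻¹)⁻¹ = k * (g1 * tvZ * g1⁻¹) * k⁻¹ := by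
            group
        _ = k * tvA * k⁻¹ := by rw [hg1]⟩
    ⟨k * g2 * k⁻¹, by
      calc k * g2 * k⁻¹ * (k * tvZ * k⁻¹) * (k * g2 * k⁻¹)⁻¹ = k * (g2 * tvZ * g2⁻¹) * k⁻¹ := by
            group
        _ = k * (tvA * tvZ) * k⁻¹ := by rw [hg2]
        _ = k * tvA * k⁻¹ * (k * tvZ * k⁻¹) := by group⟩
  exact hmain

end Cfsg.Agent.S5425
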