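import Mathlib
import Cfsg.Statements.S5426
import Cfsg.Agent.Lib_helper7_LX9

set_option autoImplicit false
open Cfsg

namespace Cfsg.Agent.S5426

open Cfsg.Agent.helper7 in
/-- Let Q be a large extraspecial 2-subgroup of the finite group G (extraspecial; centralizer equal to its centre; normal in the centralizer of its centre; normalizing no non-trivial subgroup of odd order) with centre generated by z, and let M be the normal closure of z in G. Then one of the following holds: Q is normal in G; or M is abelian and the generalized Fitting subgroup of G is its largest normal 2-subgroup; or M is the generalized Fitting subgroup of G and is a non-abelian simple group; or M is the generalized Fitting subgroup of G and is the direct product of a non-abelian simple subgroup L and its conjugate u L u⁻¹ by some u in Q (the two meet trivially and commute elementwise), with z = z₁ (u z₁ u⁻¹) for some z₁ in L whose centralizer in L is a Sylow 2-subgroup of L with Frattini subgroup inside the subgroup generated by z₁, and Q is not the largest normal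 2-subgroup of the centralizer of z. -/
theorem result {G : Type*} [Group G] [Finite G] (Q : Subgroup G) (hQ : Cfsg.IsLargeExtraspecial Q) (z : G) (hz : ((Subgroup.center ↥Q).map Q.subtype) = Subgroup.zpowers z) (M : Subgroup G) (hM : M = Subgroup.normalClosure ({z} : Set G)) : Q.Normal ∨ (IsMulCommutative ↥M ∧ Cfsg.generalizedFittingSubgroup G = Cfsg.pCore 2 G) ∨ (M = Cfsg.generalizedFittingSubgroup G ∧ IsSimpleGroup ↥M ∧ ¬ IsMulCommutative ↥M) ∨ (M = Cfsg.generalizedFittingSubgroup G ∧ ∃ (L : Subgroup G) (u : G), u ∈ Q ∧ IsSimpleGroup ↥L ∧ ¬ IsMulCommutative ↥L ∧ L ⊓ (L).map (MulAut.conj u).toMonoidHom = ⊥ ∧ (∀ x ∈ L, ∀ y ∈ (L).map (MulAut.conj u).toMonoidHom, x * y = y * x) ∧ L ⊔ (L).map (MulAut.conj u).toMonoidHom = M ∧ ∃ z₁ ∈ L, z = z₁ * (u * z₁ * u⁻¹) ∧ (∃ R : Sylow 2 ↥L, (R : Subgroup ↥L) = (Subgroup.centralizer ({z₁} : Set G)).subgroupOf L ∧ (frattini ↥(R : Subgroup ↥L)).map ((L.subtype).comp (R : Subgroup ↥L).subtype) ≤ Subgroup.zpowers z₁) ∧ Q ≠ (Cfsg.pCore 2 ↥(Subgroup.centralizer ({z} : Set G))).map (Subgroup.centralizer ({z}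 : Set G)).subtype) := by
  have h := LX.of_large hQ hz
  subst hM
  by_cases hO : piCoreIn {2} (⊤ : Subgroup G) = ⊥
  · have hME : Subgroup.normalClosure ({z} : Set G) = layerOf (⊤ : Subgroup G) :=
      h.closure_eq_layer hO
    have hF : Cfsg.generalizedFittingSubgroup G = layerOf (⊤ : Subgroup G) := by
      rw [generalizedFittingSubgroup_eq, h.fstar_eq_layer hO]
    obtain ⟨L, hL⟩ : ∃ L : Subgroup G, Comp L ⊤ := by
      by_contra hne
      push Not at hne
      exact h.layer_ne_bot hO (layerOf_eq_bot_of_forall hne)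
    by_cases hQL : Q ≤ Subgroup.normalizer (L : Set G)
    · right; right; left
      have hEL := h.layer_eq_of_normalized hL hQL
      refine ⟨by rw [hME, hF], ?_, ?_⟩
      · rw [hME, hEL]; exact simple_of_qs hL.2 (h.comp_center_bot hO hL)
      · rw [hME, hEL]; exact not_comm_of_qs hL.2
    · right; right; right
      obtain ⟨u, hu, h1⟩ : ∃ u ∈ Q, cj u L ≠ L := by
        by_contra hcon
        push Not at hcon
        apply hQL
        intro q hq
        exact mem_normalizer_of_cj_eq (hcon q hq)
      obtain ⟨z₁, w, hd⟩ := h.exists_zdec hO hL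
      have hcu := hL.le_centralizer_of_ne (hL.conj_top_lx u) h1
      refine ⟨by rw [hME, hF], L, u, hu, simple_of_qs hL.2 (h.comp_center_bot hO hL),
        not_comm_of_qs hL.2, ?_, ?_, ?_, z₁, hd.z₁L, ?_, h.exists_sylow hO hL hu h1 hd,
        h.Q_ne_pcore hO hL hu h1⟩
      · rw [eq_bot_iff, ← h.comp_center_bot hO hL]
        exact inf_le_inf_left L hcu
      · intro x hx y hy
        have := hcu hy
        rw [Subgroup.mem_centralizer_iff] at this
        exact this x hx
      · rw [hME]; exact (h.layer_eq_sup hO hL hu h1).symm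
      · rw [← h.w_eq hO hL hu h1 hd]; exact hd.eq
  · right; left
    obtain ⟨hc, hF⟩ := h.case_two hO
    refine ⟨⟨⟨fun a b => Subtype.ext (hc a a.2 b b.2)⟩⟩, ?_⟩
    rw [generalizedFittingSubgroup_eq, hF, pCore_eq Nat.prime_two]

end Cfsg.Agent.S5426
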