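import Cfsg.Statements.S5433
import Cfsg.Agent.Lib_helper27_Basic

set_option autoImplicit false
open Cfsg

namespace Cfsg.Agent.S5433

/-- Let Q be a large extraspecial 2-subgroup of the finite group G (extraspecial; centralizer equal to its centre; normal in the centralizer of its centre; normalizing no non-trivial subgroup of odd order), and L a normal subgroup of G containing Q. Then G is the product of L and the normalizer of Q. -/
theorem result {G : Type*} [Group G] [Finite G] (Q : Subgroup G) (hQ : Cfsg.IsLargeExtraspecial Q) (L : Subgroup G) [L.Normal] (hQL : Q ≤ L) : L ⊔ Subgroup.normalizer (Q : Set G) = ⊤ := by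
  obtain ⟨hE, hC, hN, -⟩ := hQ
  have hQ2 : IsPGroup 2 Q := hE.1.1
  have hcard : Nat.card (Subgroup.center ↥Q) = 2 := hE.2
  have : Fact (Nat.Prime 2) := ⟨Nat.prime_two⟩
  -- Sylow 2-subgroup of L containing Q
  have hQ' : IsPGroup 2 (Q.subgroupOf L) := hQ2.comap_subtype
  obtain ⟨P, hP⟩ := hQ'.exists_le_sylow
  have hFr := Sylow.normalizer_sup_eq_top P
  have hQS : Q ≤ Subgroup.map L.subtype (P : Subgroup L) := by
    intro q hq
    refine ⟨⟨q, hQL hq⟩, hP ?_, rfl⟩
    rw [Subgroup.mem_subgroupOf]
    exact hq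
  -- nontrivial central element of P
  have hcardZ : Nat.card ((Subgroup.center ↥Q).map Q.subtype) = 2 := by
    rw [Subgroup.card_subtype]; exact hcard
  obtain ⟨z0, hz0, hz0ne⟩ : ∃ z0 : G, z0 ∈ (Subgroup.center ↥Q).map Q.subtype ∧ z0 ≠ 1 := by
    by_contra hcon
    push_neg at hcon
    have : ((Subgroup.center ↥Q).map Q.subtype) = ⊥ := by
      rw [eq_bot_iff]
      intro x hx
      rw [Subgroup.mem_bot]
      exact hcon x hx
    rw [this] at hcardZ
    simp at hcardZ
  have hZQ : ((Subgroup.center ↥Q).map Q.subtype) ≤ Q := by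
    rintro x ⟨y, _, rfl⟩
    exact y.2
  have hPnt : Nontrivial (P : Subgroup L) := by
    refine ⟨⟨⟨⟨z0, hQL (hZQ hz0)⟩, hP ?_⟩, 1, ?_⟩⟩
    · rw [Subgroup.mem_subgroupOf]; exact hZQ hz0
    · intro h
      apply hz0ne
      have := congrArg (fun x : (P : Subgroup L) => ((x : L) : G)) h
      simpa using this
  have hcen : Nontrivial (Subgroup.center (P : Subgroup L)) := P.2.center_nontrivial
  obtain ⟨⟨c, hc⟩, hcne⟩ := exists_ne (1 : Subgroup.center (P : Subgroup L))
  -- c as an element of G
  set cG : G := ((c : L) : G) with hcG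
  have hcG1 : cG ≠ 1 := by
    intro h
    apply hcne
    have h1 : (c : L) = 1 := Subtype.ext (by simpa [hcG] using h)
    have h2 : c = 1 := Subtype.ext (by simpa using h1)
    exact Subtype.ext h2
  have hcS : ∀ s ∈ Subgroup.map L.subtype (P : Subgroup L), s * cG = cG * s := by
    rintro s ⟨s', hs', rfl⟩
    have := Subgroup.mem_center_iff.1 hc ⟨s', hs'⟩
    have h2 := congrArg (fun x : (P : Subgroup L) => ((x : L) : G)) this
    simpa using h2
  have hcGS : cG ∈ Subgroup.map L.subtype (P : Subgroup L) := ⟨c, c.2, rfl⟩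
  have hcZ : cG ∈ (Subgroup.center ↥Q).map Q.subtype := by
    rw [← hC, Subgroup.mem_centralizer_iff]
    intro q hq
    exact hcS q (hQS hq)
  -- Z = {1, cG}
  have hZ2 : ∀ z ∈ (Subgroup.center ↥Q).map Q.subtype, z = 1 ∨ z = cG := by
    intro z hz
    by_contra hcon
    push_neg at hcon
    obtain ⟨y, -, hy⟩ := (Nat.card_eq_two_iff' (1 : ((Subgroup.center ↥Q).map Q.subtype))).1 hcardZ
    have h1 := hy ⟨z, hz⟩ (by intro h; exact hcon.1 (congrArg Subtype.val h))
    have h2 := hy ⟨cG, hcZ⟩ (by intro h; exact hcG1 (congrArg Subtype.val h))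
    exact hcon.2 (congrArg Subtype.val (h1.trans h2.symm))
  -- normalizer of S centralizes Z
  have key : Subgroup.normalizer ((Subgroup.map L.subtype (P : Subgroup L) : Subgroup G) : Set G) ≤ Subgroup.normalizer (Q : Set G) := by
    intro n hn
    apply hN
    rw [Subgroup.mem_centralizer_iff]
    intro z hz
    have hnc : n * cG * n⁻¹ ∈ (Subgroup.center ↥Q).map Q.subtype := by
      rw [← hC, Subgroup.mem_centralizer_iff]
      intro q hq
      have hqS : q ∈ Subgroup.map L.subtype (P : Subgroup L) := hQS hq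
      have h1 : n⁻¹ * q * n⁻¹⁻¹ ∈ Subgroup.map L.subtype (P : Subgroup L) :=
        (Subgroup.mem_normalizer_iff.1 (Subgroup.inv_mem _ hn) q).1 hqS
      have h2 := hcS _ h1
      simp only [inv_inv] at h2
      calc q * (n * cG * n⁻¹) = n * ((n⁻¹ * q * n) * cG) * n⁻¹ := by group
        _ = n * (cG * (n⁻¹ * q * n)) * n⁻¹ := by rw [h2]
        _ = n * cG * n⁻¹ * q := by group
    have hncne : n * cG * n⁻¹ ≠ 1 := by
      intro h
      apply hcG1
      have : cG = n⁻¹ * (n * cG * n⁻¹) * n := by group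
      rw [this, h]; group
    have hnc' : n * cG * n⁻¹ = cG := by
      rcases hZ2 _ hnc with h | h
      · exact absurd h hncne
      · exact h
    have hnc2 : n * cG = cG * n := by
      rw [mul_inv_eq_iff_eq_mul] at hnc'
      exact hnc'
    rcases hZ2 z hz with h | h
    · rw [h]; simp
    · rw [h]; exact hnc2.symm
  rw [eq_top_iff, ← hFr]
  rw [sup_comm]
  exact sup_le_sup le_rfl key

end Cfsg.Agent.S5433
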