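import Mathlib
import Cfsg.Statements.S5434
import Cfsg.Agent.Lib_lead_Coprime3
import Cfsg.Agent.Lib_helper17_ES8

set_option autoImplicit false
open Cfsg

namespace Cfsg.Agent.S5434

open Cfsg.Agent.helper17.ES
open scoped commutatorElement

/-- A subgroup with a unique non-trivial central element `z0`, all of whose commutators are `1` or `z0`,
is of central type. -/
theorem ct_of_sub {G : Type*} [Group G] (H : Subgroup G) (z0 : G) (hz0 : z0 ∈ H) (hne : z0 ≠ 1)
    (hzc : ∀ h ∈ H, h * z0 = z0 * h)
    (honly : ∀ w ∈ H, (∀ h ∈ H, h * w = w * h) → w = 1 ∨ w = z0)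
    (hcomm : ∀ a ∈ H, ∀ b ∈ H, ⁅a, b⁆ = 1 ∨ ⁅a, b⁆ = z0) : CT 2 ↥H := by
  have hzmem : (⟨z0, hz0⟩ : H) ∈ Subgroup.center H := by
    rw [Subgroup.mem_center_iff]
    intro g
    exact Subtype.ext (hzc g g.2)
  refine ⟨?_, ?_⟩
  · rw [Nat.card_eq_two_iff' (1 : Subgroup.center H)]
    refine ⟨⟨⟨z0, hz0⟩, hzmem⟩, ?_, ?_⟩
    · intro h
      apply hne
      have := congrArg (fun x : Subgroup.center H => ((x : H) : G)) h
      simpa using this
    · intro y hy
      have hyc : ∀ h ∈ H, h * ((y : H) : G) = ((y : H) : G) * h := by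
        intro h hh
        have := Subgroup.mem_center_iff.mp y.2 ⟨h, hh⟩
        exact congrArg Subtype.val this
      rcases honly _ (y : H).2 hyc with h1 | h1
      · exfalso
        apply hy
        apply Subtype.ext
        apply Subtype.ext
        simpa using h1
      · apply Subtype.ext
        apply Subtype.ext
        simpa using h1
  · intro a b
    rcases hcomm a a.2 b b.2 with h | h
    · have : ⁅a, b⁆ = 1 := by
        apply Subtype.ext
        simpa [commutatorElement_def] using h
      rw [this]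
      exact Subgroup.one_mem _
    · have : ⁅a, b⁆ = ⟨z0, hz0⟩ := by
        apply Subtype.ext
        simpa [commutatorElement_def] using h
      rw [this]
      exact hzmem

theorem big_of_noncomm {G : Type*} [Group G] [Finite G] (H : Subgroup G) (hct : CT 2 ↥H)
    (hnc : ∃ x ∈ H, ∃ y ∈ H, x * y ≠ y * x) : 2 < Nat.card ↥H := by
  by_contra hle
  push Not at hle
  obtain ⟨x, hx, y, hy, hxy⟩ := hnc
  have htop : Subgroup.center H = ⊤ := by
    apply Subgroup.eq_top_of_le_card
    rw [hct.1]
    exact hle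
  have hxc : (⟨x, hx⟩ : H) ∈ Subgroup.center H := by rw [htop]; exact Subgroup.mem_top _
  have := Subgroup.mem_center_iff.mp hxc ⟨y, hy⟩
  apply hxy
  have h2 := congrArg Subtype.val this
  simpa using h2.symm

/-- Let Q be a large extraspecial 2-subgroup of the finite group G (extraspecial; centralizer equal to its centre; normal in the centralizer of its centre; normalizing no non-trivial subgroup of odd order), and A a non-trivial subgroup of odd order of the normalizer of Q. Then Q is the central product of the centralizer of A in Q and the commutator subgroup [Q, A] (they generate Q and commute elementwise), [Q, A] is extraspecial, and the centralizer of A in Q is either the centre of Q or extraspecial. -/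
theorem result {G : Type*} [Group G] [Finite G] (Q : Subgroup G) (hQ : Cfsg.IsLargeExtraspecial Q) (A : Subgroup G) (hA : A ≤ Subgroup.normalizer (Q : Set G)) (hAodd : Odd (Nat.card ↥A)) (hA1 : A ≠ ⊥) : (Q ⊓ Subgroup.centralizer (A : Set G)) ⊔ ⁅Q, A⁆ = Q ∧ (∀ x ∈ Q ⊓ Subgroup.centralizer (A : Set G), ∀ y ∈ ⁅Q, A⁆, x * y = y * x) ∧ Cfsg.IsExtraspecial 2 ↥⁅Q, A⁆ ∧ (Q ⊓ Subgroup.centralizer (A : Set G) = ((Subgroup.center ↥Q).map Q.subtype) ∨ Cfsg.IsExtraspecial 2 ↥(Q ⊓ Subgroup.centralizer (A : Set G))) := by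
  haveI : Fact (Nat.Prime 2) := ⟨Nat.prime_two⟩
  obtain ⟨hES, hCQ, -, -⟩ := hQ
  have hQp : IsPGroup 2 ↥Q := hES.1.1
  have hctQ : CT 2 ↥Q := CT.of_extraspecial hES
  obtain ⟨z, hZ⟩ := exists_Z2 hctQ
  set z0 : G := (z : G) with hz0def
  have hz0Q : z0 ∈ Q := z.2
  have hz0ne : z0 ≠ 1 := by
    intro h
    apply hZ.ne
    apply Subtype.ext
    exact h
  have hzc : ∀ q ∈ Q, q * z0 = z0 * q := by
    intro q hq
    exact congrArg Subtype.val (hZ.cen ⟨q, hq⟩)
  have honly : ∀ w ∈ Q, (∀ q ∈ Q, q * w = w * q) → w = 1 ∨ w = z0 := by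
    intro w hw hwc
    have hmem : (⟨w, hw⟩ : Q) ∈ Subgroup.center Q := by
      rw [Subgroup.mem_center_iff]
      intro g
      exact Subtype.ext (hwc g g.2)
    rcases hZ.only _ hmem with h | h
    · left
      have := congrArg Subtype.val h
      simpa using this
    · right
      exact congrArg Subtype.val h
  have hcomm : ∀ a ∈ Q, ∀ b ∈ Q, ⁅a, b⁆ = 1 ∨ ⁅a, b⁆ = z0 := by
    intro a ha b hb
    rcases hZ.comm_cases ⟨a, ha⟩ ⟨b, hb⟩ with h | h
    · left
      have := congrArg Subtype.val h
      simpa [commutatorElement_def] using this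
    · right
      have := congrArg Subtype.val h
      simpa [commutatorElement_def] using this
  -- the map of the centre
  have hmap : ∀ w : G, w ∈ (Subgroup.center ↥Q).map Q.subtype ↔ (w = 1 ∨ w = z0) := by
    intro w
    constructor
    · rintro ⟨c, hc, rfl⟩
      rcases hZ.only c hc with h | h
      · left; rw [h]; simp
      · right; rw [h]; rfl
    · rintro (h | h)
      · rw [h]; exact Subgroup.one_mem _
      · rw [h]; exact ⟨z, hZ.mem_center, rfl⟩
  -- A centralizes z0
  have hAz : ∀ a ∈ A, a * z0 = z0 * a := by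
    intro a ha
    have hn := hA ha
    rw [Subgroup.mem_normalizer_iff] at hn
    have hwQ : a * z0 * a⁻¹ ∈ Q := (hn z0).mp hz0Q
    have hwc : ∀ q ∈ Q, q * (a * z0 * a⁻¹) = (a * z0 * a⁻¹) * q := by
      intro q hq
      have hq' : a⁻¹ * q * a ∈ Q := by
        rw [hn (a⁻¹ * q * a)]
        have : a * (a⁻¹ * q * a) * a⁻¹ = q := by group
        rw [this]; exact hq
      have h1 := hzc _ hq'
      calc q * (a * z0 * a⁻¹) = a * ((a⁻¹ * q * a) * z0) * a⁻¹ := by group
        _ = a * (z0 * (a⁻¹ * q * a)) * a⁻¹ := by rw [h1]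
        _ = (a * z0 * a⁻¹) * q := by group
    rcases honly _ hwQ hwc with h | h
    · exfalso
      apply hz0ne
      have : z0 = a⁻¹ * (a * z0 * a⁻¹) * a := by group
      rw [this, h]; group
    · calc a * z0 = (a * z0 * a⁻¹) * a := by group
        _ = z0 * a := by rw [h]
  have hz0cA : z0 ∈ Subgroup.centralizer (A : Set G) := by
    rw [Subgroup.mem_centralizer_iff]
    intro a ha
    exact hAz a ha
  have h1cA : ∀ w : G, (w = 1 ∨ w = z0) → w ∈ Subgroup.centralizer (A : Set G) := by
    rintro w (h | h)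
    · rw [h]; exact Subgroup.one_mem _
    · rw [h]; exact hz0cA
  -- coprimality and solvability
  obtain ⟨k, hk⟩ := IsPGroup.iff_card.mp hQp
  have hcop : (Nat.card A).Coprime (Nat.card Q) := by
    rw [hk]
    exact Nat.Coprime.pow_right _ hAodd.coprime_two_right
  have hsolv : Group.IsSolvable ↥Q := by
    have : Group.IsNilpotent ↥Q := hQp.isNilpotent
    infer_instance
  set C : Subgroup G := Q ⊓ Subgroup.centralizer (A : Set G) with hCdef
  set R : Subgroup G := ⁅Q, A⁆ with hRdef
  have hsup : R ⊔ C = Q :=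
    Cfsg.Agent.lead.coprime_commutator_sup_fixed A Q hA hcop (Or.inr hsolv)
  have hRR : ⁅R, A⁆ = R :=
    Cfsg.Agent.lead.coprime_commutator_commutator A Q hA hcop (Or.inr hsolv)
  have hdec : ∀ q ∈ Q, ∃ s ∈ R, ∃ c ∈ C, q = s * c := fun q hq =>
    Cfsg.Agent.lead.coprime_decomp A Q hA hcop (Or.inr hsolv) q hq
  have hRQ : R ≤ Q := by
    rw [← hsup]; exact le_sup_left
  have hCQ' : C ≤ Q := inf_le_left
  -- three subgroups lemma
  have hRC : ⁅R, C⁆ = ⊥ := by
    apply Subgroup.commutator_commutator_eq_bot_of_rotate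
    · have : ⁅A, C⁆ = ⊥ := by
        rw [Subgroup.commutator_comm, Subgroup.commutator_eq_bot_iff_le_centralizer]
        exact inf_le_right
      rw [this, Subgroup.commutator_bot_left]
    · rw [Subgroup.commutator_eq_bot_iff_le_centralizer, Subgroup.commutator_le]
      intro c hc q hq
      exact h1cA _ (hcomm c (hCQ' hc) q hq)
  have hcommRC : ∀ x ∈ C, ∀ y ∈ R, x * y = y * x := by
    rw [Subgroup.commutator_eq_bot_iff_le_centralizer] at hRC
    intro x hx y hy
    have := hRC hy
    rw [Subgroup.mem_centralizer_iff] at this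
    exact this x hx
  -- R ≠ ⊥
  have hRne : R ≠ ⊥ := by
    intro hR
    rw [hRdef, Subgroup.commutator_comm, Subgroup.commutator_eq_bot_iff_le_centralizer, hCQ] at hR
    apply hA1
    rw [eq_bot_iff]
    intro a ha
    rcases (hmap a).mp (hR ha) with h | h
    · rw [Subgroup.mem_bot]; exact h
    · exfalso
      -- z0 ∈ A has order 2, but A has odd order
      have hz0A : z0 ∈ A := h ▸ ha
      have ho : orderOf (⟨z0, hz0A⟩ : A) = 2 := by
        apply orderOf_eq_prime
        · apply Subtype.ext
          simp only [Subgroup.coe_pow, Subgroup.coe_one]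
          rw [pow_two]
          have := congrArg Subtype.val hZ.sq
          simpa using this
        · intro h1
          apply hz0ne
          simpa using congrArg Subtype.val h1
      have hdvd : 2 ∣ Nat.card A := ho ▸ orderOf_dvd_natCard _
      exact (Nat.not_even_iff_odd.mpr hAodd) (even_iff_two_dvd.mpr hdvd)
  -- elements commuting with all of R and C are central in Q
  have hcenQ : ∀ w : G, (∀ r ∈ R, r * w = w * r) → (∀ c ∈ C, c * w = w * c) →
      ∀ q ∈ Q, q * w = w * q := by
    intro w h1 h2 q hq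
    obtain ⟨s, hs, c, hc, rfl⟩ := hdec q hq
    rw [mul_assoc, h2 c hc, ← mul_assoc, h1 s hs, mul_assoc]
  -- R is non-abelian
  have hRnc : ∃ x ∈ R, ∃ y ∈ R, x * y ≠ y * x := by
    by_contra hab
    push Not at hab
    apply hRne
    rw [← hRR, Subgroup.commutator_eq_bot_iff_le_centralizer]
    intro r hr
    apply h1cA
    apply honly r (hRQ hr)
    apply hcenQ
    · intro s hs; exact hab s hs r hr
    · intro c hc; exact hcommRC c hc r hr
  have hz0R : z0 ∈ R := by
    obtain ⟨x, hx, y, hy, hxy⟩ := hRnc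
    rcases hcomm x (hRQ hx) y (hRQ hy) with h | h
    · exfalso
      exact hxy (commutatorElement_eq_one_iff_mul_comm.mp h)
    · rw [← h, commutatorElement_def]
      exact R.mul_mem (R.mul_mem (R.mul_mem hx hy) (R.inv_mem hx)) (R.inv_mem hy)
  have hz0C : z0 ∈ C := Subgroup.mem_inf.mpr ⟨hz0Q, hz0cA⟩
  have hctR : CT 2 ↥R := by
    apply ct_of_sub R z0 hz0R hz0ne
    · intro r hr; exact hzc r (hRQ hr)
    · intro w hw hwc
      apply honly w (hRQ hw)
      apply hcenQ w hwc
      intro c hc
      exact hcommRC c hc w hw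
    · intro a ha b hb; exact hcomm a (hRQ ha) b (hRQ hb)
  have hctC : CT 2 ↥C := by
    apply ct_of_sub C z0 hz0C hz0ne
    · intro r hr; exact hzc r (hCQ' hr)
    · intro w hw hwc
      apply honly w (hCQ' hw)
      apply hcenQ w _ hwc
      intro r hr
      exact (hcommRC w hw r hr).symm
    · intro a ha b hb; exact hcomm a (hCQ' ha) b (hCQ' hb)
  refine ⟨?_, hcommRC, ?_, ?_⟩
  · rw [sup_comm]; exact hsup
  · exact extraspecial_of_CT hctR (big_of_noncomm R hctR hRnc)
  · by_cases hCnc : ∃ x ∈ C, ∃ y ∈ C, x * y ≠ y * x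
    · right
      exact extraspecial_of_CT hctC (big_of_noncomm C hctC hCnc)
    · left
      push Not at hCnc
      ext w
      rw [hmap]
      constructor
      · intro hw
        apply honly w (hCQ' hw)
        apply hcenQ w
        · intro r hr; exact (hcommRC w hw r hr).symm
        · intro c hc; exact hCnc c hc w hw
      · rintro (h | h)
        · rw [h]; exact Subgroup.one_mem _
        · rw [h]; exact hz0C

end Cfsg.Agent.S5434
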