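import Mathlib
import Cfsg.Statements.S5435
import Cfsg.Agent.Lib_helper7_ThT
import Cfsg.Agent.Lib_helper1_PGroup
import Cfsg.Agent.Lib_helper12_ZS5
import Cfsg.Agent.S0206

set_option autoImplicit false
set_option linter.style.haveILetI false
set_option linter.unusedSectionVars false
set_option linter.unusedVariables false
set_option maxHeartbeats 400000

namespace Cfsg.Agent.helper7

open Subgroup

section S5435aux

variable {L : Type*} [Group L] [Finite L]

/-- a finite simple non-commutative group has no normal subgroup of index two -/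
theorem no_index_two_of_simple [IsSimpleGroup L] (hL : ¬ IsMulCommutative L)
    (U : Subgroup L) (hU : U.Normal) (hidx : U.index = 2) : False := by
  rcases hU.eq_bot_or_eq_top with h | h
  · subst h
    rw [Subgroup.index_bot] at hidx
    haveI : Fact (Nat.Prime 2) := ⟨Nat.prime_two⟩
    haveI : IsCyclic L := isCyclic_of_prime_card hidx
    apply hL
    exact IsCyclic.commutative
  · subst h
    rw [Subgroup.index_top] at hidx
    omega

theorem conj_inv_eq {g w v : L} (h : g⁻¹ * w * g = v) : w = g * v * g⁻¹ := by
  rw [← h]; group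

end S5435aux

end Cfsg.Agent.helper7

namespace Cfsg.Agent.S5435

open Cfsg.Agent.helper7 in
/-- Let L be a finite non-abelian simple group with an involution z whose centralizer R is a Sylow 2-subgroup of L whose Frattini subgroup is the subgroup generated by z. Then R is dihedral of order 8. -/
theorem result {L : Type*} [Group L] [Finite L] [IsSimpleGroup L] (hL : ¬ IsMulCommutative L) (z : L) (hz : orderOf z = 2) (R : Sylow 2 L) (hR : (R : Subgroup L) = Subgroup.centralizer ({z} : Set L)) (hΦ : (frattini ↥(R : Subgroup L)).map (R : Subgroup L).subtype = Subgroup.zpowers z) : Nonempty (↥(R : Subgroup L) ≃* DihedralGroup 4) := by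
  classical
  haveI : Fact (Nat.Prime 2) := ⟨Nat.prime_two⟩
  obtain ⟨Rs, hRs⟩ : ∃ Rs : Subgroup L, Rs = (R : Subgroup L) := ⟨_, rfl⟩
  have hP : IsPGroup 2 ↥Rs := by rw [hRs]; exact R.isPGroup'
  have hz1 : z ≠ 1 := Cfsg.Agent.helper1.ne_one_of_orderOf_eq_two hz
  have hzz : z * z = 1 := Cfsg.Agent.helper1.sq_eq_one_of_orderOf_eq_two hz
  have hzinv : z⁻¹ = z := inv_eq_of_mul_eq_one_right hzz
  have hmemR : ∀ x : L, x ∈ Rs ↔ z * x = x * z := by
    intro x
    rw [hRs, hR, Subgroup.mem_centralizer_iff]
    simp
  have hzR : z ∈ Rs := (hmemR z).mpr rfl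
  have hΦ' : (frattini ↥Rs).map Rs.subtype = Subgroup.zpowers z := by rw [hRs]; exact hΦ
  have hzp : ∀ x : L, x ∈ Subgroup.zpowers z → x = 1 ∨ x = z :=
    fun x hx => Cfsg.Agent.helper12.zs_mem_zpowers_two hz hx
  -- squares and commutators
  have hsq : ∀ r ∈ Rs, r * r = 1 ∨ r * r = z := by
    intro r hr
    apply hzp
    rw [← hΦ']
    have h := Cfsg.Agent.helper1.pow_mem_frattini_of_isPGroup (p := 2) hP (⟨r, hr⟩ : ↥Rs)
    refine ⟨_, h, ?_⟩
    simp [pow_two]
  have hcomm : ∀ a ∈ Rs, ∀ b ∈ Rs, a * b * a⁻¹ * b⁻¹ = 1 ∨ a * b * a⁻¹ * b⁻¹ = z := by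
    intro a ha b hb
    apply hzp
    rw [← hΦ']
    let a' : ↥Rs := ⟨a, ha⟩
    let b' : ↥Rs := ⟨b, hb⟩
    have h1 : a' * b' * a'⁻¹ * b'⁻¹ ∈ commutator ↥Rs := by
      rw [commutator_def, ← commutatorElement_def]
      exact Subgroup.commutator_mem_commutator (Subgroup.mem_top _) (Subgroup.mem_top _)
    have h := Cfsg.Agent.helper1.commutator_le_frattini_of_isPGroup (p := 2) hP h1
    exact ⟨_, h, rfl⟩
  -- normalizer
  have hN : Subgroup.normalizer (Rs : Set L) ≤ Rs := by
    intro n hn
    have hmap : Rs.map (MulAut.conj n).toMonoidHom = Rs :=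
      Subgroup.mem_normalizer_iff_map_conj_eq.mp hn
    let e : ↥Rs ≃* ↥Rs := ((MulAut.conj n).subgroupMap Rs).trans (MulEquiv.subgroupCongr hmap)
    have he : ∀ x : ↥Rs, ((e x : ↥Rs) : L) = n * (x : L) * n⁻¹ := by
      intro x; rfl
    have hzmem : z ∈ (frattini ↥Rs).map Rs.subtype := by
      rw [hΦ']; exact Subgroup.mem_zpowers z
    obtain ⟨w, hw, hwz⟩ := hzmem
    have hew : e w ∈ frattini ↥Rs :=
      frattini_le_comap_frattini_of_surjective (φ := e.toMonoidHom) e.surjective hw
    have h2 : n * z * n⁻¹ ∈ Subgroup.zpowers z := by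
      rw [← hΦ']
      refine ⟨e w, hew, ?_⟩
      have : ((e w : ↥Rs) : L) = n * (w : L) * n⁻¹ := he w
      have hwz' : (w : L) = z := hwz
      rw [hwz'] at this
      exact this
    rcases hzp _ h2 with h3 | h3
    · exfalso
      apply hz1
      have := congrArg (fun t => n⁻¹ * t * n) h3
      simpa [mul_assoc] using this
    · rw [hmemR]
      have : n * z = z * n := by
        have := congrArg (fun t => t * n) h3
        simpa [mul_assoc] using this
      exact this.symm
  have hodd : Odd Rs.index := by
    rw [hRs]
    have := R.not_dvd_index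
    exact Nat.odd_iff.mpr (Nat.two_dvd_ne_zero.mp this)
  -- central involutions
  have hstar : ∀ u ∈ Rs, (∀ r ∈ Rs, r * u = u * r) → u * u = 1 → u = 1 ∨ u = z := by
    intro u huR hucent hu2
    apply hzp
    by_contra hu
    have hu' : (⟨u, huR⟩ : ↥Rs) ∉ frattini ↥Rs := by
      intro h
      apply hu
      rw [← hΦ']
      exact ⟨_, h, rfl⟩
    have hex : ∃ M' : Subgroup ↥Rs, IsCoatom M' ∧ (⟨u, huR⟩ : ↥Rs) ∉ M' := by
      by_contra hcon
      push Not at hcon
      apply hu'
      unfold frattini Order.radical
      simp only [Subgroup.mem_iInf]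
      intro M hM
      exact hcon M hM
    obtain ⟨M', hM', huM'⟩ := hex
    have hidx' : M'.index = 2 := Cfsg.Agent.helper1.coatom_index_of_isPGroup hP hM'
    have hMS : M'.map Rs.subtype ≤ Rs := Subgroup.map_subtype_le M'
    have hidx : (M'.map Rs.subtype).relIndex Rs = 2 := by
      unfold Subgroup.relIndex Subgroup.subgroupOf
      rw [Subgroup.comap_map_eq_self_of_injective Rs.subtype_injective]
      exact hidx'
    have huM : u ∉ M'.map Rs.subtype := by
      rintro ⟨w, hw, hwu⟩
      apply huM'
      have : w = ⟨u, huR⟩ := Subtype.ext hwu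
      rw [← this]; exact hw
    obtain ⟨U, hUn, hUi⟩ := strong_thompson_central Rs (M'.map Rs.subtype) hP hodd hN hMS hidx u hu2
      hucent huM
    exact no_index_two_of_simple hL U hUn hUi
  -- Z*
  have hZ : ∃ g : L, Commute z (g * z * g⁻¹) ∧ g * z * g⁻¹ ≠ z := by
    by_contra hcon
    push Not at hcon
    have hiso : Cfsg.IsIsolatedInvolution z := ⟨hz, fun g hc => hcon g hc⟩
    obtain ⟨N, hNn, hNodd, hNz⟩ := Cfsg.Agent.helper12.zs_main _ L rfl z hiso
    rcases hNn.eq_bot_or_eq_top with h | h
    · subst h
      -- z central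
      have hcent : z ∈ Subgroup.center L := by
        rw [Subgroup.mem_center_iff]
        intro g
        have := hNz g
        rw [Subgroup.mem_bot] at this
        have h2 : z * g = g * z := by
          have := congrArg (fun t => t * g * z) this
          simpa [mul_assoc, hzinv, hzz] using this
        exact h2.symm
      rcases (Subgroup.center L).normal_of_characteristic.eq_bot_or_eq_top with h | h
      · rw [h, Subgroup.mem_bot] at hcent
        exact hz1 hcent
      · apply hL
        refine ⟨⟨fun a b => ?_⟩⟩
        have ha : a ∈ Subgroup.center L := by rw [h]; exact Subgroup.mem_top a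
        exact ((Subgroup.mem_center_iff.mp ha) b).symm
    · subst h
      have h2 : orderOf z ∣ Nat.card L := orderOf_dvd_natCard z
      rw [hz] at h2
      rw [Subgroup.card_top] at hNodd
      exact (Nat.not_even_iff_odd.mpr hNodd) (even_iff_two_dvd.mpr h2)
  obtain ⟨g, hgc, hgne⟩ := hZ
  obtain ⟨y, hy⟩ : ∃ y : L, y = g * z * g⁻¹ := ⟨_, rfl⟩
  rw [← hy] at hgc hgne
  have hzy : z * y = y * z := hgc.eq
  have hyR : y ∈ Rs := (hmemR y).mpr hzy
  have hy2 : y * y = 1 := by
    rw [hy]
    calc g * z * g⁻¹ * (g * z * g⁻¹) = g * (z * z) * g⁻¹ := by group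
      _ = 1 := by rw [hzz]; group
  have hy1 : y ≠ 1 := by
    intro h
    apply hz1
    rw [hy] at h
    have := congrArg (fun t => g⁻¹ * t * g) h
    simpa [mul_assoc] using this
  have hyinv : y⁻¹ = y := inv_eq_of_mul_eq_one_right hy2
  have hzg : z = g⁻¹ * y * g := by rw [hy]; group
  -- z central in Rs
  have hzc : ∀ r ∈ Rs, z * r = r * z := fun r hr => (hmemR r).mp hr
  -- conjugating R0 back
  have hback : ∀ x ∈ Rs, x * y = y * x → g⁻¹ * x * g ∈ Rs := by
    intro x hx hxy
    rw [hmemR, hzg]
    calc g⁻¹ * y * g * (g⁻¹ * x * g) = g⁻¹ * (y * x) * g := by group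
      _ = g⁻¹ * (x * y) * g := by rw [hxy]
      _ = g⁻¹ * x * g * (g⁻¹ * y * g) := by group
  have hR0sq : ∀ x ∈ Rs, x * y = y * x → x * x = 1 := by
    intro x hx hxy
    rcases hsq x hx with h | h
    · exact h
    · exfalso
      have hc : g⁻¹ * x * g * (g⁻¹ * x * g) = g⁻¹ * (x * x) * g := by group
      rcases hsq _ (hback x hx hxy) with h' | h'
      · rw [hc, h] at h'
        have := conj_inv_eq h'
        apply hz1
        rw [this]; group
      · rw [hc, h] at h'
        have := conj_inv_eq h'
        apply hgne
        rw [hy]; exact this.symm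
  have hcomm_of : ∀ a b : L, a * b * a⁻¹ * b⁻¹ = 1 → a * b = b * a := by
    intro a b h
    exact mul_inv_eq_iff_eq_mul.mp (mul_inv_eq_one.mp h)
  have hcomm_z : ∀ a b : L, a * b * a⁻¹ * b⁻¹ = z → a * b = z * b * a := by
    intro a b h
    exact mul_inv_eq_iff_eq_mul.mp (mul_inv_eq_iff_eq_mul.mp h)
  have hR0comm : ∀ a ∈ Rs, ∀ b ∈ Rs, a * y = y * a → b * y = y * b → a * b = b * a := by
    intro a ha b hb hay hby
    apply hcomm_of
    rcases hcomm a ha b hb with h | h
    · exact h
    · exfalso
      have hc : (g⁻¹ * a * g) * (g⁻¹ * b * g) * (g⁻¹ * a * g)⁻¹ * (g⁻¹ * b * g)⁻¹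
          = g⁻¹ * (a * b * a⁻¹ * b⁻¹) * g := by group
      rcases hcomm _ (hback a ha hay) _ (hback b hb hby) with h' | h'
      · rw [hc, h] at h'
        have := conj_inv_eq h'
        apply hz1
        rw [this]; group
      · rw [hc, h] at h'
        have := conj_inv_eq h'
        apply hgne
        rw [hy]; exact this.symm
  have hex_t : ∃ t ∈ Rs, t * y ≠ y * t := by
    by_contra hcon
    push Not at hcon
    rcases hstar y hyR hcon hy2 with h | h
    · exact hy1 h
    · exact hgne h
  obtain ⟨t, htR, hty⟩ := hex_t
  have hty' : t * y = z * y * t := by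
    rcases hcomm t htR y hyR with h | h
    · exact absurd (hcomm_of _ _ h) hty
    · exact hcomm_z _ _ h
  have hzt : z * t = t * z := hzc t htR
  have hzti : z * t⁻¹ = t⁻¹ * z := hzc _ (inv_mem htR)
  have hyt' : y * t = z * t * y := by
    calc y * t = z * z * y * t := by rw [hzz, one_mul]
      _ = z * (z * y * t) := by group
      _ = z * (t * y) := by rw [hty']
      _ = z * t * y := by group
  have hti : t⁻¹ * y = z * y * t⁻¹ := by
    calc t⁻¹ * y = t⁻¹ * (y * t) * t⁻¹ := by group
      _ = t⁻¹ * (z * t * y) * t⁻¹ := by rw [hyt']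
      _ = t⁻¹ * (t * z * y) * t⁻¹ := by rw [hzt]
      _ = z * y * t⁻¹ := by group
  have hcoset : ∀ r ∈ Rs, r * y = y * r ∨ (t⁻¹ * r) * y = y * (t⁻¹ * r) := by
    intro r hr
    rcases hcomm r hr y hyR with h | h
    · left; exact hcomm_of _ _ h
    · right
      have hry : r * y = z * y * r := hcomm_z _ _ h
      calc t⁻¹ * r * y = t⁻¹ * (r * y) := by group
        _ = t⁻¹ * (z * y * r) := by rw [hry]
        _ = (t⁻¹ * z) * y * r := by group
        _ = (z * t⁻¹) * y * r := by rw [hzti]
        _ = z * (t⁻¹ * y) * r := by group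
        _ = z * (z * y * t⁻¹) * r := by rw [hti]
        _ = (z * z) * y * t⁻¹ * r := by group
        _ = y * (t⁻¹ * r) := by rw [hzz]; group
  have hcentral : ∀ x ∈ Rs, x * y = y * x → x * t = t * x → x = 1 ∨ x = z := by
    intro x hx hxy hxt
    apply hstar x hx _ (hR0sq x hx hxy)
    intro r hr
    rcases hcoset r hr with h | h
    · exact hR0comm r hr x hx h hxy
    · have h1 : (t⁻¹ * r) * x = x * (t⁻¹ * r) :=
        hR0comm _ (mul_mem (inv_mem htR) hr) x hx h hxy
      calc r * x = t * ((t⁻¹ * r) * x) := by group
        _ = t * (x * (t⁻¹ * r)) := by rw [h1]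
        _ = (t * x) * (t⁻¹ * r) := by group
        _ = (x * t) * (t⁻¹ * r) := by rw [hxt]
        _ = x * r := by group
  have hR0 : ∀ x ∈ Rs, x * y = y * x → x = 1 ∨ x = z ∨ x = y ∨ x = z * y := by
    intro x hx hxy
    rcases hcomm x hx t htR with h | h
    · rcases hcentral x hx hxy (hcomm_of _ _ h) with h1 | h1
      · left; exact h1
      · right; left; exact h1
    · have hxt : x * t = z * t * x := hcomm_z _ _ h
      have hzx : z * x = x * z := hzc x hx
      have hx'y : (x * y) * y = y * (x * y) := by
        calc x * y * y = (x * y) * y := rfl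
          _ = (y * x) * y := by rw [hxy]
          _ = y * (x * y) := by group
      have hx't : (x * y) * t = t * (x * y) := by
        calc x * y * t = x * (y * t) := by group
          _ = x * (z * t * y) := by rw [hyt']
          _ = (x * z) * t * y := by group
          _ = (z * x) * t * y := by rw [hzx]
          _ = z * (x * t) * y := by group
          _ = z * (z * t * x) * y := by rw [hxt]
          _ = (z * z) * t * x * y := by group
          _ = t * (x * y) := by rw [hzz]; group
      rcases hcentral (x * y) (mul_mem hx hyR) hx'y hx't with h1 | h1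
      · right; right; left
        have : x = y⁻¹ := eq_inv_of_mul_eq_one_left h1
        rw [this, hyinv]
      · right; right; right
        have : x = z * y⁻¹ := eq_mul_inv_of_mul_eq h1
        rw [this, hyinv]
  have ht1 : t ≠ 1 := by
    rintro rfl
    apply hty; simp
  have hty_ne : t ≠ y := by
    rintro rfl
    exact hty rfl
  have hoy : orderOf y = 2 := orderOf_eq_prime (by rw [pow_two]; exact hy2) hy1
  have hfinal : ∀ a b : L, a ∈ Rs → b ∈ Rs → orderOf a = 2 → orderOf b = 2 → a ≠ b →
      (a * b) * (a * b) = z → y ∈ Subgroup.closure ({a, b} : Set L) →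
      t ∈ Subgroup.closure ({a, b} : Set L) → Nonempty (↥Rs ≃* DihedralGroup 4) := by
    intro a b ha hb hoa hob hab habz hyc htc
    have ho : orderOf (a * b) = 4 := by
      have h2 : (a * b) ^ 2 = z := by rw [pow_two]; exact habz
      have := orderOf_eq_prime_pow (p := 2) (n := 1) (x := a * b)
        (by rw [pow_one, h2]; exact hz1)
        (by
          have : (a * b) ^ 2 ^ (1 + 1) = ((a * b) ^ 2) ^ 2 := by
            rw [← pow_mul]; norm_num
          rw [this, h2, pow_two, hzz])
      simpa using this
    have hzcl : z ∈ Subgroup.closure ({a, b} : Set L) := by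
      rw [← habz]
      have ha' : a ∈ Subgroup.closure ({a, b} : Set L) := Subgroup.subset_closure (by simp)
      have hb' : b ∈ Subgroup.closure ({a, b} : Set L) := Subgroup.subset_closure (by simp)
      exact mul_mem (mul_mem ha' hb') (mul_mem ha' hb')
    obtain ⟨e⟩ := Cfsg.Agent.S0206.result a b hoa hob hab
    rw [ho] at e
    have hcl : Subgroup.closure ({a, b} : Set L) = Rs := by
      apply le_antisymm
      · rw [Subgroup.closure_le]
        intro w hw
        rcases hw with rfl | rfl
        · exact ha
        · exact hb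
      · intro r hr
        have hR0in : ∀ x ∈ Rs, x * y = y * x → x ∈ Subgroup.closure ({a, b} : Set L) := by
          intro x hx hxy
          rcases hR0 x hx hxy with h | h | h | h <;> rw [h]
          · exact one_mem _
          · exact hzcl
          · exact hyc
          · exact mul_mem hzcl hyc
        rcases hcoset r hr with h | h
        · exact hR0in r hr h
        · have h3 := hR0in _ (mul_mem (inv_mem htR) hr) h
          have h2 : r = t * (t⁻¹ * r) := by group
          rw [h2]; exact mul_mem htc h3
    exact ⟨(MulEquiv.subgroupCongr hcl).symm.trans e⟩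
  have hmain : Nonempty (↥Rs ≃* DihedralGroup 4) := by
    rcases hsq t htR with ht2 | ht2
    · -- t involution
      have hot : orderOf t = 2 := orderOf_eq_prime (by rw [pow_two]; exact ht2) ht1
      apply hfinal y t hyR htR hoy hot (Ne.symm hty_ne)
      · calc y * t * (y * t) = y * (t * y) * t := by group
          _ = y * (z * y * t) * t := by rw [hty']
          _ = (y * z) * y * (t * t) := by group
          _ = (z * y) * y * (t * t) := by rw [hzc y hyR]
          _ = z * (y * y) * (t * t) := by group
          _ = z := by rw [hy2, ht2]; group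
      · exact Subgroup.subset_closure (by simp)
      · exact Subgroup.subset_closure (by simp)
    · -- t * t = z
      have hb2 : (t * y) * (t * y) = 1 := by
        calc t * y * (t * y) = t * (y * t) * y := by group
          _ = t * (z * t * y) * y := by rw [hyt']
          _ = (t * z) * t * (y * y) := by group
          _ = (z * t) * t * (y * y) := by rw [hzt]
          _ = z * (t * t) * (y * y) := by group
          _ = 1 := by rw [ht2, hy2, hzz]; group
      have hb1 : t * y ≠ 1 := by
        intro h
        apply hty_ne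
        have : t = y⁻¹ := eq_inv_of_mul_eq_one_left h
        rw [this, hyinv]
      have hob : orderOf (t * y) = 2 := orderOf_eq_prime (by rw [pow_two]; exact hb2) hb1
      have hab : y ≠ t * y := by
        intro h
        apply ht1
        have : t * y = 1 * y := by rw [one_mul]; exact h.symm
        exact mul_right_cancel this
      apply hfinal y (t * y) hyR (mul_mem htR hyR) hoy hob hab
      · have h1 : y * (t * y) = z * t := by
          calc y * (t * y) = (y * t) * y := by group
            _ = (z * t * y) * y := by rw [hyt']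
            _ = z * t * (y * y) := by group
            _ = z * t := by rw [hy2, mul_one]
        rw [h1]
        calc z * t * (z * t) = z * (t * z) * t := by group
          _ = z * (z * t) * t := by rw [hzt]
          _ = (z * z) * (t * t) := by group
          _ = z := by rw [hzz, ht2, one_mul]
      · exact Subgroup.subset_closure (by simp)
      · have hy' : y ∈ Subgroup.closure ({y, t * y} : Set L) := Subgroup.subset_closure (by simp)
        have hb' : t * y ∈ Subgroup.closure ({y, t * y} : Set L) :=
          Subgroup.subset_closure (by simp)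
        have hteq : (t * y) * y = t := by
          rw [mul_assoc, hy2, mul_one]
        have := mul_mem hb' hy'
        rwa [hteq] at this
  obtain ⟨e⟩ := hmain
  exact ⟨(MulEquiv.subgroupCongr hRs).symm.trans e⟩

end Cfsg.Agent.S5435
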