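import Cfsg.Statements.S5437
-- import your own Cfsg.Agent.* helpers here

set_option autoImplicit false
open Cfsg

namespace Cfsg.Agent.S5437


theorem mem_conj_map {G : Type*} [Group G] (H : Subgroup G) (g x : G) :
    x ∈ H.map (MulAut.conj g).toMonoidHom ↔ g⁻¹ * x * g ∈ H := by
  constructor
  · rintro ⟨y, hy, rfl⟩
    have : g⁻¹ * ((MulAut.conj g).toMonoidHom y) * g = y := by
      simp [MulAut.conj_apply]; group
    rw [this]; exact hy
  · intro h
    refine ⟨g⁻¹ * x * g, h, ?_⟩
    simp [MulAut.conj_apply]; group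

theorem fix_iff {G : Type*} [Group G] (H : Subgroup G) (x g : G) :
    x • (QuotientGroup.mk g : G ⧸ H) = QuotientGroup.mk g ↔ g⁻¹ * x * g ∈ H := by
  rw [MulAction.Quotient.smul_mk, eq_comm, QuotientGroup.eq]
  constructor
  · intro h; simpa [mul_assoc] using h
  · intro h; simpa [mul_assoc] using h

/-- Let I be a set of involutions of the finite group G closed under conjugation, and H a subgroup of G. The following are equivalent: (1) for every member x of I lying in H, the conjugates of x lying in H form a single H-class and the centralizer of x lies in H; (2) for every g outside H, no member of I lies in both H and g H g⁻¹; (3) every member of I lying in H fixes exactly one coset in the action of G on the cosets of H. -/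
theorem result {G : Type*} [Group G] [Finite G] (I : Set G) (hI : ∀ x ∈ I, orderOf x = 2) (hIc : ∀ g : G, ∀ x ∈ I, g * x * g⁻¹ ∈ I) (H : Subgroup G) : ((∀ x ∈ I, x ∈ H → (∀ g : G, g * x * g⁻¹ ∈ H → ∃ h ∈ H, h * x * h⁻¹ = g * x * g⁻¹) ∧ Subgroup.centralizer ({x} : Set G) ≤ H) ↔ (∀ g : G, g ∉ H → ∀ x ∈ I, ¬ (x ∈ H ∧ x ∈ (H : Subgroup G).map (MulAut.conj g).toMonoidHom))) ∧ ((∀ g : G, g ∉ H → ∀ x ∈ I, ¬ (x ∈ H ∧ x ∈ (H : Subgroup G).map (MulAut.conj g).toMonoidHom)) ↔ ∀ x ∈ I, x ∈ H → ∃! c : G ⧸ H, x • c = c) := by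
  have e12 : (∀ x ∈ I, x ∈ H → (∀ g : G, g * x * g⁻¹ ∈ H → ∃ h ∈ H, h * x * h⁻¹ = g * x * g⁻¹) ∧ Subgroup.centralizer ({x} : Set G) ≤ H) ↔ (∀ g : G, g ∉ H → ∀ x ∈ I, ¬ (x ∈ H ∧ x ∈ (H : Subgroup G).map (MulAut.conj g).toMonoidHom)) := by
    constructor
    · intro h1 g hg x hxI ⟨hxH, hxg⟩
      rw [mem_conj_map] at hxg
      have hyI : g⁻¹ * x * g ∈ I := by
        have := hIc g⁻¹ x hxI
        simpa using this
      obtain ⟨hfus, hcen⟩ := h1 _ hyI hxg
      have hgy : g * (g⁻¹ * x * g) * g⁻¹ = x := by group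
      obtain ⟨h, hh, hhx⟩ := hfus g (by rw [hgy]; exact hxH)
      have hc : g⁻¹ * h ∈ Subgroup.centralizer ({g⁻¹ * x * g} : Set G) := by
        rw [Subgroup.mem_centralizer_iff]
        intro y hy
        rw [Set.mem_singleton_iff] at hy
        subst hy
        have : h * (g⁻¹ * x * g) = g * (g⁻¹ * x * g) * g⁻¹ * h := by
          rw [← hhx]; group
        calc g⁻¹ * x * g * (g⁻¹ * h) = g⁻¹ * (g * (g⁻¹ * x * g) * g⁻¹ * h) := by group
          _ = g⁻¹ * (h * (g⁻¹ * x * g)) := by rw [this]
          _ = g⁻¹ * h * (g⁻¹ * x * g) := by group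
      have h2 : g⁻¹ * h ∈ H := hcen hc
      have h3 : g⁻¹ ∈ H := by
        have := H.mul_mem h2 (H.inv_mem hh)
        simpa using this
      exact hg (by simpa using H.inv_mem h3)
    · intro h2 x hxI hxH
      constructor
      · intro g hg
        refine ⟨g, ?_, rfl⟩
        by_contra hgH
        apply h2 g hgH (g * x * g⁻¹) (hIc g x hxI)
        refine ⟨hg, ?_⟩
        rw [mem_conj_map]
        have : g⁻¹ * (g * x * g⁻¹) * g = x := by group
        rw [this]; exact hxH
      · intro c hc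
        by_contra hcH
        apply h2 c hcH x hxI
        refine ⟨hxH, ?_⟩
        rw [mem_conj_map]
        rw [Subgroup.mem_centralizer_iff] at hc
        have := hc x (Set.mem_singleton x)
        have h3 : c⁻¹ * x * c = x := by
          calc c⁻¹ * x * c = c⁻¹ * (x * c) := by group
            _ = c⁻¹ * (c * x) := by rw [this]
            _ = x := by group
        rw [h3]; exact hxH
  have e23 : (∀ g : G, g ∉ H → ∀ x ∈ I, ¬ (x ∈ H ∧ x ∈ (H : Subgroup G).map (MulAut.conj g).toMonoidHom)) ↔ ∀ x ∈ I, x ∈ H → ∃! c : G ⧸ H, x • c = c := by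
    constructor
    · intro h2 x hxI hxH
      refine ⟨QuotientGroup.mk 1, ?_, ?_⟩
      · show x • (QuotientGroup.mk 1 : G ⧸ H) = QuotientGroup.mk 1
        rw [fix_iff]; simpa using hxH
      · intro c hc
        obtain ⟨g, rfl⟩ := QuotientGroup.mk_surjective c
        rw [fix_iff] at hc
        have hgH : g ∈ H := by
          by_contra hgH
          apply h2 g hgH x hxI
          refine ⟨hxH, ?_⟩
          rw [mem_conj_map]; exact hc
        rw [QuotientGroup.eq]
        simpa using hgH
    · intro h3 g hgH x hxI ⟨hxH, hxg⟩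
      rw [mem_conj_map] at hxg
      obtain ⟨c, -, huniq⟩ := h3 x hxI hxH
      have h1 : (QuotientGroup.mk 1 : G ⧸ H) = c := huniq _ (by show x • (QuotientGroup.mk 1 : G ⧸ H) = QuotientGroup.mk 1; rw [fix_iff]; simpa using hxH)
      have h2 : (QuotientGroup.mk g : G ⧸ H) = c := huniq _ (by show x • (QuotientGroup.mk g : G ⧸ H) = QuotientGroup.mk g; rw [fix_iff]; exact hxg)
      have h4 : (QuotientGroup.mk 1 : G ⧸ H) = QuotientGroup.mk g := h1.trans h2.symm
      rw [QuotientGroup.eq] at h4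
      apply hgH
      simpa using h4
  exact ⟨e12, e23⟩

end Cfsg.Agent.S5437
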