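import Cfsg.Statements.S5438

set_option autoImplicit false
open Cfsg

namespace Cfsg.Agent.S5438

theorem parity_contra {α : Type*} [Fintype α] [DecidableEq α] (σ₁ σ₂ : Equiv.Perm α)
    (h1 : σ₁ ^ 2 = 1) (h2 : σ₂ ^ 2 = 1) (a : α) (hfix1 : ∀ b, σ₁ b = b ↔ b = a)
    (hfix2 : ∀ b, σ₂ b ≠ b) : False := by
  have : Fact (Nat.Prime 2) := ⟨Nat.prime_two⟩
  have e1 := Equiv.Perm.card_compl_support_modEq (p := 2) (n := 1) (σ := σ₁) (by simpa using h1)
  have e2 := Equiv.Perm.card_compl_support_modEq (p := 2) (n := 1) (σ := σ₂) (by simpa using h2)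
  have s1 : σ₁.supportᶜ = {a} := by
    ext b
    simp [Equiv.Perm.mem_support, hfix1]
  have s2 : σ₂.supportᶜ = ∅ := by
    ext b
    simp [Equiv.Perm.mem_support, hfix2]
  rw [s1, Finset.card_singleton] at e1
  rw [s2, Finset.card_empty] at e2
  have := e1.trans e2.symm
  exact absurd this (by decide)

theorem orbit_trans {Γ Ω : Type*} [Group Γ] [MulAction Γ Ω] [Finite Ω] (F : Set Ω)
    (hinv : ∀ ω ∈ F, ∃ k : Γ, k * k = 1 ∧ ∀ ω' : Ω, k • ω' = ω' ↔ ω' = ω)
    (ω₁ ω₂ : Ω) (h₁ : ω₁ ∈ F) (h₂ : ω₂ ∈ F) : ∃ c : Γ, c • ω₁ = ω₂ := by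
  classical
  by_contra hcon
  have hnot : ω₂ ∉ MulAction.orbit Γ ω₁ := by
    intro h
    obtain ⟨c, hc⟩ := h
    exact hcon ⟨c, hc⟩
  obtain ⟨k₁, hk₁, hf₁⟩ := hinv ω₁ h₁
  obtain ⟨k₂, hk₂, hf₂⟩ := hinv ω₂ h₂
  have : Fintype (MulAction.orbit Γ ω₁) := Fintype.ofFinite _
  refine parity_contra (MulAction.toPerm k₁ : Equiv.Perm (MulAction.orbit Γ ω₁))
    (MulAction.toPerm k₂) ?_ ?_ ⟨ω₁, MulAction.mem_orbit_self ω₁⟩ ?_ ?_
  · ext o
    simp only [pow_two, Equiv.Perm.coe_mul, Function.comp_apply, MulAction.toPerm_apply,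
      Equiv.Perm.coe_one, id_eq]
    rw [← mul_smul, hk₁, one_smul]
  · ext o
    simp only [pow_two, Equiv.Perm.coe_mul, Function.comp_apply, MulAction.toPerm_apply,
      Equiv.Perm.coe_one, id_eq]
    rw [← mul_smul, hk₂, one_smul]
  · intro o
    rw [MulAction.toPerm_apply]
    constructor
    · intro h
      have h' : k₁ • (o : Ω) = (o : Ω) := by
        have := congrArg Subtype.val h
        simpa using this
      exact Subtype.ext ((hf₁ _).1 h')
    · intro h
      apply Subtype.ext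
      have : k₁ • (o : Ω) = (o : Ω) := (hf₁ _).2 (congrArg Subtype.val h)
      simpa using this
  · intro o h
    rw [MulAction.toPerm_apply] at h
    have h' : k₂ • (o : Ω) = (o : Ω) := by
      have := congrArg Subtype.val h
      simpa using this
    have := (hf₂ _).1 h'
    apply hnot
    rw [← this]
    exact o.2

theorem fix_iff {G : Type*} [Group G] (H : Subgroup G) (x g : G) :
    x • (QuotientGroup.mk g : G ⧸ H) = QuotientGroup.mk g ↔ g⁻¹ * x * g ∈ H := by
  rw [MulAction.Quotient.smul_mk, eq_comm, QuotientGroup.eq]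
  constructor
  · intro h; simpa [mul_assoc] using h
  · intro h; simpa [mul_assoc] using h

/-- every 2-element of `H` commutes with an `H`-conjugate of `z`. -/
theorem lemmaA {G : Type*} [Group G] [Finite G] (z : G) (P : Sylow 2 G)
    (hzc : ∀ x ∈ P, x * z = z * x) (H : Subgroup G) (hPH : (P : Subgroup G) ≤ H)
    (y : G) (hyH : y ∈ H) (k : ℕ) (hy : orderOf y = 2 ^ k) :
    ∃ h ∈ H, (h * z * h⁻¹) * y = y * (h * z * h⁻¹) := by
  have : Fact (Nat.Prime 2) := ⟨Nat.prime_two⟩
  have hY : IsPGroup 2 (Subgroup.zpowers (⟨y, hyH⟩ : H)) := by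
    apply IsPGroup.of_card (n := k)
    rw [Nat.card_zpowers, ← hy]
    exact Subgroup.orderOf_mk y hyH
  obtain ⟨Q, hQ⟩ := hY.exists_le_sylow
  obtain ⟨h, hh⟩ := MulAction.exists_smul_eq H (P.subtype hPH) Q
  have hyQ : (⟨y, hyH⟩ : H) ∈ (Q : Subgroup H) := hQ (Subgroup.mem_zpowers _)
  rw [← hh, Sylow.coe_subgroup_smul, Subgroup.mem_pointwise_smul_iff_inv_smul_mem,
    Sylow.coe_subtype, Subgroup.mem_subgroupOf] at hyQ
  have h1 : (h : G)⁻¹ * y * (h : G) ∈ (P : Subgroup G) := by
    simpa [MulAut.smul_def, MulAut.conj_apply] using hyQ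
  refine ⟨h, h.2, ?_⟩
  have h2 := hzc _ h1
  calc (h : G) * z * (h : G)⁻¹ * y = (h : G) * (z * ((h : G)⁻¹ * y * (h : G))) * (h : G)⁻¹ := by group
    _ = (h : G) * (((h : G)⁻¹ * y * (h : G)) * z) * (h : G)⁻¹ := by rw [h2]
    _ = y * ((h : G) * z * (h : G)⁻¹) := by group

/-- Let z be a 2-central involution of the finite group G (an involution central in some Sylow 2-subgroup) and H a subgroup containing z such that the coset H is the only coset of H fixed by z (in the action of G on the cosets of H). Then H has odd index in G, and for every 2-element x of H the conjugates of x lying in H form a single H-class. -/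
theorem result {G : Type*} [Group G] [Finite G] (z : G) (hz : Cfsg.IsTwoCentralInvolution z) (H : Subgroup G) (hzH : z ∈ H) (hfix : ∀ g : G, g⁻¹ * z * g ∈ H → g ∈ H) : Odd H.index ∧ ∀ x ∈ H, (∃ k : ℕ, orderOf x = 2 ^ k) → ∀ g : G, g * x * g⁻¹ ∈ H → ∃ h ∈ H, h * x * h⁻¹ = g * x * g⁻¹ := by
  have : Fact (Nat.Prime 2) := ⟨Nat.prime_two⟩
  obtain ⟨hz2, P, hzP, hzc⟩ := hz
  have hzz : z * z = 1 := by
    have h1 : z ^ 2 = 1 := by rw [← hz2]; exact pow_orderOf_eq_one z
    rw [← pow_two]; exact h1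
  have hzi : z⁻¹ = z := inv_eq_of_mul_eq_one_left hzz
  have hPH : (P : Subgroup G) ≤ H := by
    intro p hp
    apply hfix
    have := hzc p hp
    have h1 : p⁻¹ * z * p = z := by
      calc p⁻¹ * z * p = p⁻¹ * (z * p) := by group
        _ = p⁻¹ * (p * z) := by rw [this]
        _ = z := by group
    rw [h1]; exact hzH
  constructor
  · have h1 : H.index ∣ (P : Subgroup G).index := Subgroup.index_dvd_of_le hPH
    have h2 : ¬ 2 ∣ (P : Subgroup G).index := P.not_dvd_index
    rw [← Nat.not_even_iff_odd, even_iff_two_dvd]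
    intro h3
    exact h2 (h3.trans h1)
  · intro x hxH ⟨k, hk⟩ g hg
    -- fixed point set of x
    -- lemma B: conjugates of z
    have lemB : ∀ b a : G, (b * z * b⁻¹) • (QuotientGroup.mk a : G ⧸ H) = QuotientGroup.mk a ↔
        (QuotientGroup.mk a : G ⧸ H) = QuotientGroup.mk b := by
      intro b a
      rw [fix_iff, eq_comm, QuotientGroup.eq]
      have e : a⁻¹ * (b * z * b⁻¹) * a = (b⁻¹ * a)⁻¹ * z * (b⁻¹ * a) := by group
      rw [e]
      constructor
      · exact hfix _
      · intro h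
        exact H.mul_mem (H.mul_mem (H.inv_mem h) hzH) h
    have key := orbit_trans (Γ := Subgroup.centralizer ({x} : Set G)) (Ω := G ⧸ H)
      {ω | x • ω = ω} ?_ (QuotientGroup.mk 1) (QuotientGroup.mk g⁻¹) ?_ ?_
    · obtain ⟨c, hc⟩ := key
      have hc' : (c : G) • (QuotientGroup.mk 1 : G ⧸ H) = QuotientGroup.mk g⁻¹ := hc
      rw [MulAction.Quotient.smul_mk, QuotientGroup.eq] at hc'
      have hcx : (c : G) * x = x * (c : G) := by
        have := Subgroup.mem_centralizer_iff.1 c.2 x (Set.mem_singleton x)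
        exact this.symm
      refine ⟨g * (c : G), ?_, ?_⟩
      · have := H.inv_mem hc'
        simpa using this
      · calc g * (c : G) * x * (g * (c : G))⁻¹ = g * ((c : G) * x) * (c : G)⁻¹ * g⁻¹ := by group
          _ = g * (x * (c : G)) * (c : G)⁻¹ * g⁻¹ := by rw [hcx]
          _ = g * x * g⁻¹ := by group
    · -- each fixed point has an involution
      intro ω hω
      obtain ⟨a, rfl⟩ := QuotientGroup.mk_surjective ω
      have hω' : x • (QuotientGroup.mk a : G ⧸ H) = QuotientGroup.mk a := hω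
      rw [fix_iff] at hω'
      have hord : orderOf (a⁻¹ * x * a) = 2 ^ k := by
        rw [← hk]
        have h1 : SemiconjBy a⁻¹ x (a⁻¹ * x * a) := by
          show a⁻¹ * x = a⁻¹ * x * a * a⁻¹
          group
        exact (SemiconjBy.orderOf_eq a⁻¹ h1).symm
      obtain ⟨h, hhH, hcomm⟩ := lemmaA z P hzc H hPH (a⁻¹ * x * a) hω' k hord
      have htK : (a * h) * z * (a * h)⁻¹ ∈ Subgroup.centralizer ({x} : Set G) := by
        rw [Subgroup.mem_centralizer_iff]
        intro x' hx'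
        rw [Set.mem_singleton_iff] at hx'
        subst hx'
        calc x' * (a * h * z * (a * h)⁻¹) = a * ((a⁻¹ * x' * a) * (h * z * h⁻¹)) * a⁻¹ := by group
          _ = a * ((h * z * h⁻¹) * (a⁻¹ * x' * a)) * a⁻¹ := by rw [hcomm]
          _ = a * h * z * (a * h)⁻¹ * x' := by group
      refine ⟨⟨_, htK⟩, ?_, ?_⟩
      · apply Subtype.ext
        show (a * h) * z * (a * h)⁻¹ * ((a * h) * z * (a * h)⁻¹) = 1
        calc (a * h) * z * (a * h)⁻¹ * ((a * h) * z * (a * h)⁻¹) = (a * h) * (z * z) * (a * h)⁻¹ := by group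
          _ = 1 := by rw [hzz]; group
      · intro ω'
        obtain ⟨a', rfl⟩ := QuotientGroup.mk_surjective ω'
        show ((a * h) * z * (a * h)⁻¹) • (QuotientGroup.mk a' : G ⧸ H) = QuotientGroup.mk a' ↔ _
        rw [lemB]
        have : (QuotientGroup.mk (a * h) : G ⧸ H) = QuotientGroup.mk a := by
          rw [eq_comm, QuotientGroup.eq]
          have : a⁻¹ * (a * h) = h := by group
          rw [this]; exact hhH
        rw [this]
    · show x • (QuotientGroup.mk 1 : G ⧸ H) = QuotientGroup.mk 1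
      rw [fix_iff]; simpa using hxH
    · show x • (QuotientGroup.mk g⁻¹ : G ⧸ H) = QuotientGroup.mk g⁻¹
      rw [fix_iff]; simpa using hg

end Cfsg.Agent.S5438
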