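import Cfsg.Statements.S5439
-- import your own Cfsg.Agent.* helpers here

set_option autoImplicit false
open Cfsg

namespace Cfsg.Agent.S5439


theorem inv_of_sq {G : Type*} [Group G] {a : G} (h : orderOf a = 2) : a * a = 1 ∧ a⁻¹ = a := by
  have h1 : a ^ 2 = 1 := by rw [← h]; exact pow_orderOf_eq_one a
  have h2 : a * a = 1 := by rw [← pow_two]; exact h1
  exact ⟨h2, inv_eq_of_mul_eq_one_left h2⟩

theorem conj_order {G : Type*} [Group G] {d a : G} (h : IsConj d a) : orderOf a = orderOf d := by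
  rw [isConj_iff] at h
  obtain ⟨c, rfl⟩ := h
  have h1 : SemiconjBy c d (c * d * c⁻¹) := by
    show c * d = c * d * c⁻¹ * c
    group
  exact (SemiconjBy.orderOf_eq c h1).symm

theorem flip_pow {G : Type*} [Group G] {e y : G} (he : e * e = 1) (hy : e * y * e = y⁻¹) (n : ℕ) :
    e * y ^ n = (y ^ n)⁻¹ * e := by
  have hei : e⁻¹ = e := inv_eq_of_mul_eq_one_left he
  have h1 : e * y ^ n * e⁻¹ = (e * y * e⁻¹) ^ n := (conj_pow).symm
  rw [hei, hy, inv_pow] at h1
  calc e * y ^ n = e * y ^ n * e * e := by rw [mul_assoc (e * y ^ n), he, mul_one]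
    _ = (y ^ n)⁻¹ * e := by rw [h1]

theorem fix_iff {G : Type*} [Group G] (H : Subgroup G) (x g : G) :
    x • (QuotientGroup.mk g : G ⧸ H) = QuotientGroup.mk g ↔ g⁻¹ * x * g ∈ H := by
  rw [MulAction.Quotient.smul_mk, eq_comm, QuotientGroup.eq]
  constructor
  · intro h; simpa [mul_assoc] using h
  · intro h; simpa [mul_assoc] using h

/-- dihedral facts: `a * r ^ m` is conjugate to `a` or to `a * r`. -/
theorem refl_conj {G : Type*} [Group G] {a r : G} (ha : a * a = 1) (har : a * r * a = r⁻¹) (m : ℕ) :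
    IsConj a (a * r ^ m) ∨ IsConj (a * r) (a * r ^ m) := by
  have hfl := flip_pow ha har
  rcases Nat.even_or_odd' m with ⟨i, hi | hi⟩
  · left
    rw [isConj_iff]
    refine ⟨(r ^ i)⁻¹, ?_⟩
    rw [inv_inv, ← hfl i, hi, two_mul, pow_add]; group
  · right
    rw [isConj_iff]
    refine ⟨(r ^ i)⁻¹, ?_⟩
    rw [inv_inv]
    calc (r ^ i)⁻¹ * (a * r) * r ^ i = ((r ^ i)⁻¹ * a) * (r * r ^ i) := by group
      _ = (a * r ^ i) * (r * r ^ i) := by rw [← hfl i]
      _ = a * r ^ m := by rw [hi, two_mul, pow_succ, pow_add]; group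

/-- Let I and J be two different conjugacy classes of involutions of the finite group G and H a subgroup such that every member of I ∪ J fixes exactly one coset in the action on the cosets of H, and such that for every a in I ∩ H and every b in (I ∪ J) ∩ H different from a and commuting with it, the centralizer of a b lies in H. Then H = G. -/
theorem result {G : Type*} [Group G] [Finite G] (I J : Set G) (a₀ b₀ : G) (ha₀ : orderOf a₀ = 2) (hb₀ : orderOf b₀ = 2) (hI : I = {x | IsConj a₀ x}) (hJ : J = {x | IsConj b₀ x}) (hIJ : I ≠ J) (H : Subgroup G) (hfix : ∀ x ∈ I ∪ J, ∃! c : G ⧸ H, x • c = c) (hcent : ∀ a ∈ I, a ∈ H → ∀ b ∈ I ∪ J, b ∈ H → a ≠ b → a * b = b * a → Subgroup.centralizer ({a * b} : Set G) ≤ H) : H = ⊤ := by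
  subst hI hJ
  obtain ⟨ha₀a₀, -⟩ := inv_of_sq ha₀
  -- I and J are disjoint
  have hdisj : ∀ y : G, IsConj a₀ y → IsConj b₀ y → False := by
    intro y h1 h2
    apply hIJ
    have h3 : IsConj a₀ b₀ := h1.trans h2.symm
    ext w
    show IsConj a₀ w ↔ IsConj b₀ w
    exact ⟨fun h => h3.symm.trans h, fun h => h3.trans h⟩
  -- main claim: for a ∈ I, b ∈ J, every coset fixed by a is fixed by b
  have main : ∀ a b : G, IsConj a₀ a → IsConj b₀ b → ∀ g : G,
      a • (QuotientGroup.mk g : G ⧸ H) = QuotientGroup.mk g →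
      b • (QuotientGroup.mk g : G ⧸ H) = QuotientGroup.mk g := by
    intro a b haI hbJ g hag
    obtain ⟨haa, hai⟩ := inv_of_sq (show orderOf a = 2 by rw [conj_order haI, ha₀])
    obtain ⟨hbb, hbi⟩ := inv_of_sq (show orderOf b = 2 by rw [conj_order hbJ, hb₀])
    have har : a * (a * b) * a = (a * b)⁻¹ := by
      rw [mul_inv_rev, hai, hbi, ← mul_assoc, haa, one_mul]
    have hfl := flip_pow haa har
    -- order of a*b is even
    have hev : Even (orderOf (a * b)) := by
      rw [← Nat.not_odd_iff_even]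
      rintro ⟨j, hj⟩
      -- then b is conjugate to a
      apply hdisj b _ hbJ
      have h1 : (a * b) ^ (2 * j + 1) = 1 := by rw [← hj]; exact pow_orderOf_eq_one _
      have h2 : b = a * (a * b) ^ (2 * (j + 1)) := by
        have : (a * b) ^ (2 * (j + 1)) = (a * b) ^ (2 * j + 1) * (a * b) := by
          rw [← pow_succ]; congr 1
        rw [this, h1, one_mul, ← mul_assoc, haa, one_mul]
      have h3 : IsConj a (a * (a * b) ^ (2 * (j + 1))) := by
        rw [isConj_iff]
        refine ⟨((a * b) ^ (j + 1))⁻¹, ?_⟩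
        rw [inv_inv, ← hfl (j + 1), two_mul, pow_add]; group
      rw [← h2] at h3
      exact haI.trans h3
    obtain ⟨m, hm⟩ := hev
    have hnpos : 0 < orderOf (a * b) := orderOf_pos (a * b)
    have hmpos : 0 < m := by omega
    set u : G := (a * b) ^ m with hu
    have huu : u * u = 1 := by
      rw [hu, ← pow_add, ← hm]; exact pow_orderOf_eq_one _
    have hui : u⁻¹ = u := inv_eq_of_mul_eq_one_left huu
    have hu1 : u ≠ 1 := by
      rw [hu]
      exact pow_ne_one_of_lt_orderOf hmpos.ne' (by omega)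
    have hau : a * u = u * a := by
      have := hfl m
      rw [← hu, hui] at this
      exact this
    have hbu : b * u = u * b := by
      -- b = a * (a*b)
      have hb' : b = a * (a * b) := by rw [← mul_assoc, haa, one_mul]
      have h1 : (a * b) * u = u * (a * b) := by
        rw [hu, ← pow_succ', ← pow_succ]
      calc b * u = (a * (a * b)) * u := by rw [← hb']
        _ = a * ((a * b) * u) := by group
        _ = a * (u * (a * b)) := by rw [h1]
        _ = (a * u) * (a * b) := by group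
        _ = (u * a) * (a * b) := by rw [hau]
        _ = u * (a * (a * b)) := by group
        _ = u * b := by rw [← hb']
    -- a' = a * u
    have ha'IJ : IsConj a₀ (a * u) ∨ IsConj b₀ (a * u) := by
      have hb' : a * (a * b) = b := by rw [← mul_assoc, haa, one_mul]
      rcases refl_conj haa har m with h | h
      · left; exact haI.trans h
      · right; rw [hb'] at h; exact hbJ.trans h
    have hne : a ≠ a * u := by
      intro h
      apply hu1
      have : a * 1 = a * u := by rw [mul_one]; exact h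
      exact (mul_left_cancel this).symm
    have hcomm : a * (a * u) = (a * u) * a := by
      rw [hau, ← mul_assoc, hau]
    have hprod : a * (a * u) = u := by rw [← mul_assoc, haa, one_mul]
    -- a' fixes mk g
    have ha'g : (a * u) • (QuotientGroup.mk g : G ⧸ H) = QuotientGroup.mk g := by
      obtain ⟨c, -, huniq⟩ := hfix a (Or.inl haI)
      have h1 : (QuotientGroup.mk g : G ⧸ H) = c := huniq _ hag
      have h2 : (a * u) • (QuotientGroup.mk g : G ⧸ H) = c := by
        apply huniq
        show a • ((a * u) • (QuotientGroup.mk g : G ⧸ H)) = (a * u) • (QuotientGroup.mk g : G ⧸ H)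
        rw [← mul_smul, hcomm, mul_smul, hag]
      rw [h2, h1]
    rw [fix_iff] at hag ha'g ⊢
    have hcen := hcent (g⁻¹ * a * g) (by
        show IsConj a₀ (g⁻¹ * a * g)
        exact haI.trans (isConj_iff.2 ⟨g⁻¹, by rw [inv_inv]⟩)) hag (g⁻¹ * (a * u) * g) (by
        rcases ha'IJ with h | h
        · left
          show IsConj a₀ (g⁻¹ * (a * u) * g)
          exact h.trans (isConj_iff.2 ⟨g⁻¹, by rw [inv_inv]⟩)
        · right
          show IsConj b₀ (g⁻¹ * (a * u) * g)
          exact h.trans (isConj_iff.2 ⟨g⁻¹, by rw [inv_inv]⟩)) ha'g (by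
        intro h
        apply hne
        have h2 : g * (g⁻¹ * a * g) * g⁻¹ = g * (g⁻¹ * (a * u) * g) * g⁻¹ := by rw [h]
        have e1 : g * (g⁻¹ * a * g) * g⁻¹ = a := by group
        have e2 : g * (g⁻¹ * (a * u) * g) * g⁻¹ = a * u := by group
        rw [e1, e2] at h2
        exact h2) (by
        calc g⁻¹ * a * g * (g⁻¹ * (a * u) * g) = g⁻¹ * (a * (a * u)) * g := by group
          _ = g⁻¹ * ((a * u) * a) * g := by rw [hcomm]
          _ = g⁻¹ * (a * u) * g * (g⁻¹ * a * g) := by group)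
    apply hcen
    rw [Subgroup.mem_centralizer_iff]
    intro w hw
    rw [Set.mem_singleton_iff] at hw
    subst hw
    have e1 : g⁻¹ * a * g * (g⁻¹ * (a * u) * g) = g⁻¹ * u * g := by
      calc g⁻¹ * a * g * (g⁻¹ * (a * u) * g) = g⁻¹ * (a * (a * u)) * g := by group
        _ = g⁻¹ * u * g := by rw [hprod]
    rw [e1]
    calc g⁻¹ * u * g * (g⁻¹ * b * g) = g⁻¹ * (u * b) * g := by group
      _ = g⁻¹ * (b * u) * g := by rw [hbu]
      _ = g⁻¹ * b * g * (g⁻¹ * u * g) := by group
  -- the fixed coset of b₀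
  obtain ⟨c₀, hc₀, huniq₀⟩ := hfix b₀ (Or.inr (IsConj.refl b₀))
  obtain ⟨g₀, rfl⟩ := QuotientGroup.mk_surjective c₀
  -- every a ∈ I fixes mk g₀
  have hall : ∀ a : G, IsConj a₀ a → a • (QuotientGroup.mk g₀ : G ⧸ H) = QuotientGroup.mk g₀ := by
    intro a haI
    obtain ⟨c, hc, -⟩ := hfix a (Or.inl haI)
    obtain ⟨g, rfl⟩ := QuotientGroup.mk_surjective c
    have h1 := main a b₀ haI (IsConj.refl b₀) g hc
    have h2 : (QuotientGroup.mk g : G ⧸ H) = QuotientGroup.mk g₀ := huniq₀ _ h1
    rw [← h2]; exact hc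
  -- G fixes mk g₀
  obtain ⟨c₁, hc₁, huniq₁⟩ := hfix a₀ (Or.inl (IsConj.refl a₀))
  have h0 : (QuotientGroup.mk g₀ : G ⧸ H) = c₁ := huniq₁ _ (hall a₀ (IsConj.refl a₀))
  have hGfix : ∀ g : G, g • (QuotientGroup.mk g₀ : G ⧸ H) = QuotientGroup.mk g₀ := by
    intro g
    have h1 := hall (g⁻¹ * a₀ * g) (isConj_iff.2 ⟨g⁻¹, by rw [inv_inv]⟩)
    have h2 : a₀ • (g • (QuotientGroup.mk g₀ : G ⧸ H)) = g • (QuotientGroup.mk g₀ : G ⧸ H) := by
      have e : a₀ * g = g * (g⁻¹ * a₀ * g) := by group
      rw [← mul_smul, e, mul_smul, h1]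
    rw [huniq₁ _ h2, h0]
  rw [eq_top_iff]
  intro h _
  have h1 := hGfix (g₀ * h * g₀⁻¹)
  rw [fix_iff] at h1
  have e : g₀⁻¹ * (g₀ * h * g₀⁻¹) * g₀ = h := by group
  rw [e] at h1
  exact h1

end Cfsg.Agent.S5439
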