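import Cfsg.Statements.S5459
-- import your own Cfsg.Agent.* helpers here

set_option autoImplicit false
open Cfsg
open scoped commutatorElement

namespace Cfsg.Agent.S5459


theorem inv_of_sq {G : Type*} [Group G] {a : G} (h : orderOf a = 2) : a * a = 1 ∧ a⁻¹ = a := by
  have h1 : a ^ 2 = 1 := by rw [← h]; exact pow_orderOf_eq_one a
  have h2 : a * a = 1 := by rw [← pow_two]; exact h1
  exact ⟨h2, inv_eq_of_mul_eq_one_left h2⟩

theorem conj_order {G : Type*} [Group G] {d a : G} (h : IsConj d a) : orderOf a = orderOf d := by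
  rw [isConj_iff] at h
  obtain ⟨c, rfl⟩ := h
  have h1 : SemiconjBy c d (c * d * c⁻¹) := by
    show c * d = c * d * c⁻¹ * c
    group
  exact (SemiconjBy.orderOf_eq c h1).symm

/-- square roots in a subgroup of odd order -/
theorem exists_sqrt {G : Type*} [Group G] [Finite G] (Z : Subgroup G) (hodd : Odd (Nat.card Z))
    (z : G) (hz : z ∈ Z) : ∃ u ∈ Z, u * u = z := by
  obtain ⟨k, hk⟩ := hodd
  refine ⟨z ^ (k + 1), Z.pow_mem hz _, ?_⟩
  have h1 : z ^ Nat.card Z = 1 := by
    have h0 : (⟨z, hz⟩ : Z) ^ Nat.card Z = 1 := pow_card_eq_one'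
    have h2 := congrArg Subtype.val h0
    rw [Subgroup.coe_pow, Subgroup.coe_one] at h2
    exact h2
  rw [← pow_add, show k + 1 + (k + 1) = (2 * k + 1) + 1 by ring, pow_succ, ← hk, h1, one_mul]

/-- conjugation as a map on the conjugacy class -/
def cj {G : Type*} [Group G] (d : G) (g : G) (a : conjugatesOf d) : conjugatesOf d :=
  ⟨g * (a : G) * g⁻¹, by
    have h : IsConj d (a : G) := a.2
    exact h.trans (isConj_iff.2 ⟨g, rfl⟩)⟩

theorem cj_adj {G : Type*} [Group G] (d g : G) (a b : conjugatesOf d)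
    (h : (Cfsg.commutingGraph (conjugatesOf d)).Adj a b) :
    (Cfsg.commutingGraph (conjugatesOf d)).Adj (cj d g a) (cj d g b) := by
  unfold Cfsg.commutingGraph at h ⊢
  rw [SimpleGraph.fromRel_adj] at h ⊢
  obtain ⟨hne, hc⟩ := h
  constructor
  · intro heq
    apply hne
    have h1 : g * (a : G) * g⁻¹ = g * (b : G) * g⁻¹ := congrArg Subtype.val heq
    apply Subtype.ext
    have h2 : g⁻¹ * (g * (a : G) * g⁻¹) * g = g⁻¹ * (g * (b : G) * g⁻¹) * g := by rw [h1]
    have e1 : g⁻¹ * (g * (a : G) * g⁻¹) * g = a := by group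
    have e2 : g⁻¹ * (g * (b : G) * g⁻¹) * g = b := by group
    rw [e1, e2] at h2
    exact h2
  · have key : ∀ x y : G, Commute x y → Commute (g * x * g⁻¹) (g * y * g⁻¹) := by
      intro x y hxy
      show g * x * g⁻¹ * (g * y * g⁻¹) = g * y * g⁻¹ * (g * x * g⁻¹)
      calc g * x * g⁻¹ * (g * y * g⁻¹) = g * (x * y) * g⁻¹ := by group
        _ = g * (y * x) * g⁻¹ := by rw [hxy.eq]
        _ = g * y * g⁻¹ * (g * x * g⁻¹) := by group
    rcases hc with hc | hc
    · left; exact key _ _ hc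
    · right; exact key _ _ hc

theorem cj_reach {G : Type*} [Group G] (d g : G) (a b : conjugatesOf d)
    (h : (Cfsg.commutingGraph (conjugatesOf d)).Reachable a b) :
    (Cfsg.commutingGraph (conjugatesOf d)).Reachable (cj d g a) (cj d g b) := by
  rw [SimpleGraph.reachable_iff_reflTransGen] at h ⊢
  exact Relation.ReflTransGen.lift (cj d g) (fun x y hxy => cj_adj d g x y hxy) _ _ h

theorem cj_mul {G : Type*} [Group G] (d g h : G) (a : conjugatesOf d) :
    cj d g (cj d h a) = cj d (g * h) a := by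
  apply Subtype.ext
  show g * (h * (a : G) * h⁻¹) * g⁻¹ = g * h * (a : G) * (g * h)⁻¹
  group

theorem cj_one {G : Type*} [Group G] (d : G) (a : conjugatesOf d) : cj d 1 a = a := by
  apply Subtype.ext
  show 1 * (a : G) * 1⁻¹ = a
  group

/-- the stabiliser of the component of `d` -/
def stab {G : Type*} [Group G] (d : G) : Subgroup G where
  carrier := {g | (Cfsg.commutingGraph (conjugatesOf d)).Reachable
    (⟨d, mem_conjugatesOf_self⟩ : conjugatesOf d) (cj d g ⟨d, mem_conjugatesOf_self⟩)}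
  one_mem' := by
    show (Cfsg.commutingGraph (conjugatesOf d)).Reachable _ (cj d 1 _)
    rw [cj_one]
  mul_mem' := by
    intro g h hg hh
    show (Cfsg.commutingGraph (conjugatesOf d)).Reachable _ (cj d (g * h) _)
    rw [← cj_mul]
    exact SimpleGraph.Reachable.trans hg (cj_reach d g _ _ hh)
  inv_mem' := by
    intro g hg
    show (Cfsg.commutingGraph (conjugatesOf d)).Reachable _ (cj d g⁻¹ _)
    have h1 := cj_reach d g⁻¹ _ _ hg
    rw [cj_mul, inv_mul_cancel, cj_one] at h1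
    exact h1.symm

theorem inverts {G : Type*} [Group G] (Z : Subgroup G) [hn : Z.Normal] (d : G)
    (hinv : ∀ c ∈ Z, d * c * d⁻¹ = c⁻¹) (a : G) (ha : IsConj d a) :
    ∀ c ∈ Z, a * c * a⁻¹ = c⁻¹ := by
  rw [isConj_iff] at ha
  obtain ⟨g, rfl⟩ := ha
  intro c hc
  have h1 : g⁻¹ * c * g ∈ Z := by
    have := hn.conj_mem c hc g⁻¹
    rwa [inv_inv] at this
  have h2 := hinv _ h1
  calc g * d * g⁻¹ * c * (g * d * g⁻¹)⁻¹ = g * (d * (g⁻¹ * c * g) * d⁻¹) * g⁻¹ := by group
    _ = g * (g⁻¹ * c * g)⁻¹ * g⁻¹ := by rw [h2]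
    _ = c⁻¹ := by group

/-- multiplying an inverting involution by an element of `Z` is conjugating by a square root -/
theorem sqrt_conj {G : Type*} [Group G] [Finite G] (Z : Subgroup G) (hodd : Odd (Nat.card Z))
    (a : G) (hinv : ∀ c ∈ Z, a * c * a⁻¹ = c⁻¹) (w : G) (hw : w ∈ Z) :
    ∃ u ∈ Z, u⁻¹ * a * u = a * w := by
  obtain ⟨u, hu, huu⟩ := exists_sqrt Z hodd w hw
  refine ⟨u, hu, ?_⟩
  have h1 := hinv u hu
  have h2 : a * u = u⁻¹ * a := by
    calc a * u = a * u * a⁻¹ * a := by group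
      _ = u⁻¹ * a := by rw [h1]
  rw [← h2, ← huu]
  group

theorem lift_comm {G : Type*} [Group G] [Finite G] (Z : Subgroup G) (hodd : Odd (Nat.card Z))
    (a b : G) (hinva : ∀ c ∈ Z, a * c * a⁻¹ = c⁻¹)
    (hz : (a * b)⁻¹ * (b * a) ∈ Z) :
    ∃ w ∈ Z, Commute a (b * w) := by
  obtain ⟨w, hw, hww⟩ := exists_sqrt Z hodd _ hz
  refine ⟨w, hw, ?_⟩
  have h1 := hinva w hw
  -- w * a = a * w⁻¹
  have h2 : w * a = a * w⁻¹ := by
    have h3 : a * w⁻¹ * a⁻¹ = w := by
      have := congrArg (fun x => x⁻¹) h1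
      simp only [mul_inv_rev, inv_inv] at this
      rw [← mul_assoc] at this
      exact this
    calc w * a = a * w⁻¹ * a⁻¹ * a := by rw [h3]
      _ = a * w⁻¹ := by group
  show a * (b * w) = b * w * a
  have h4 : a * b * (w * w) = b * a := by
    rw [hww]; group
  calc a * (b * w) = a * b * (w * w) * w⁻¹ := by group
    _ = b * a * w⁻¹ := by rw [h4]
    _ = b * (a * w⁻¹) := by group
    _ = b * (w * a) := by rw [h2]
    _ = b * w * a := by group

theorem comm_central_left {G : Type*} [Group G] (y a b : G) (hya : Commute y a) (hyb : Commute y b) :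
    ⁅y * a, b⁆ = ⁅a, b⁆ := by
  rw [commutatorElement_def, commutatorElement_def]
  have hc : Commute y (a * b * a⁻¹) := (hya.mul_right hyb).mul_right hya.inv_right
  have h1 : y * (a * b * a⁻¹) * y⁻¹ = a * b * a⁻¹ := by
    rw [hc.eq]; group
  calc y * a * b * (y * a)⁻¹ * b⁻¹ = y * (a * b * a⁻¹) * y⁻¹ * b⁻¹ := by group
    _ = a * b * a⁻¹ * b⁻¹ := by rw [h1]

theorem comm_central_right {G : Type*} [Group G] (y a b : G) (hya : Commute y a) (hyb : Commute y b) :
    ⁅a, y * b⁆ = ⁅a, b⁆ := by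
  have h1 := comm_central_left y b a hyb hya
  have h2 : ⁅a, y * b⁆ = ⁅y * b, a⁆⁻¹ := (commutatorElement_inv _ _).symm
  rw [h2, h1, commutatorElement_inv]


/-- Let G be a finite group with a quasisimple normal subgroup L and an involution d such that G is generated by L and d, the centre of L has odd order, and d inverts every element of the centre of L. If the commuting graph on the conjugacy class of the image of d in G modulo the centre of L is connected, then the commuting graph on the conjugacy class of d is connected. -/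
theorem result {G : Type*} [Group G] [Finite G] (L : Subgroup G) [L.Normal] (hL : Cfsg.IsQuasisimple ↥L) (d : G) (hd : orderOf d = 2) (hgen : L ⊔ Subgroup.zpowers d = ⊤) (hodd : Odd (Nat.card ↥(Subgroup.center ↥L))) (hinv : ∀ c ∈ (Subgroup.center ↥L).map L.subtype, d * c * d⁻¹ = c⁻¹) [hn : ((Subgroup.center ↥L).map L.subtype).Normal] (hconn : (Cfsg.commutingGraph (conjugatesOf (QuotientGroup.mk d : G ⧸ (Subgroup.center ↥L).map L.subtype))).Connected) : (Cfsg.commutingGraph (conjugatesOf d)).Connected := by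
  classical
  set Z : Subgroup G := (Subgroup.center ↥L).map L.subtype with hZ
  have hZodd : Odd (Nat.card Z) := by
    have h1 : Nat.card Z = Nat.card (Subgroup.center ↥L) :=
      Nat.card_congr ((Subgroup.center ↥L).equivMapOfInjective L.subtype
        L.subtype_injective).symm.toEquiv
    rw [h1]; exact hodd
  have hZL : ∀ y ∈ Z, ∀ l ∈ L, Commute y l := by
    intro y hy l hl
    rw [hZ, Subgroup.mem_map] at hy
    obtain ⟨z, hz, rfl⟩ := hy
    rw [Subgroup.mem_center_iff] at hz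
    have := hz ⟨l, hl⟩
    have h2 := congrArg Subtype.val this
    exact h2.symm
  have hZleL : Z ≤ L := by
    intro y hy
    rw [hZ, Subgroup.mem_map] at hy
    obtain ⟨z, _, rfl⟩ := hy
    exact z.2
  -- every conjugate of d inverts Z and is an involution
  have hDinv : ∀ a : conjugatesOf d, ∀ c ∈ Z, (a : G) * c * (a : G)⁻¹ = c⁻¹ :=
    fun a => inverts Z d hinv a a.2
  have hDord : ∀ a : conjugatesOf d, orderOf (a : G) = 2 := fun a => by
    rw [conj_order a.2, hd]
  set Γ := Cfsg.commutingGraph (conjugatesOf d) with hΓ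
  set d₀ : conjugatesOf d := ⟨d, mem_conjugatesOf_self⟩ with hd₀
  -- Step 4: lifting paths
  have key : ∀ v : conjugatesOf (QuotientGroup.mk d : G ⧸ Z),
      (Cfsg.commutingGraph (conjugatesOf (QuotientGroup.mk d : G ⧸ Z))).Reachable
        ⟨QuotientGroup.mk d, mem_conjugatesOf_self⟩ v →
      ∃ a' : conjugatesOf d, (QuotientGroup.mk (a' : G) : G ⧸ Z) = (v : G ⧸ Z) ∧
        Γ.Reachable d₀ a' := by
    intro v hv
    rw [SimpleGraph.reachable_iff_reflTransGen] at hv
    induction hv with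
    | refl => exact ⟨d₀, rfl, SimpleGraph.Reachable.refl _⟩
    | @tail v w _ hadj ih =>
      obtain ⟨a', ha'v, ha'r⟩ := ih
      -- w = mk b for b a conjugate of d
      have hw : IsConj (QuotientGroup.mk d : G ⧸ Z) (w : G ⧸ Z) := w.2
      rw [isConj_iff] at hw
      obtain ⟨cbar, hcbar⟩ := hw
      obtain ⟨c, rfl⟩ := QuotientGroup.mk_surjective cbar
      have hbD : IsConj d (c * d * c⁻¹) := isConj_iff.2 ⟨c, rfl⟩
      have hbw : (QuotientGroup.mk (c * d * c⁻¹) : G ⧸ Z) = (w : G ⧸ Z) := by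
        rw [← hcbar]; rfl
      unfold Cfsg.commutingGraph at hadj
      rw [SimpleGraph.fromRel_adj] at hadj
      obtain ⟨_, hcomm⟩ := hadj
      have hcomm' : Commute (v : G ⧸ Z) (w : G ⧸ Z) := by
        rcases hcomm with h | h
        · exact h
        · exact h.symm
      rw [← ha'v, ← hbw] at hcomm'
      have hz : ((a' : G) * (c * d * c⁻¹))⁻¹ * ((c * d * c⁻¹) * (a' : G)) ∈ Z := by
        rw [← QuotientGroup.eq]
        exact hcomm'.eq
      obtain ⟨w', hw'Z, hw'c⟩ := lift_comm Z hZodd (a' : G) (c * d * c⁻¹) (hDinv a') hz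
      obtain ⟨u, huZ, hu⟩ := sqrt_conj Z hZodd (c * d * c⁻¹) (hDinv ⟨_, hbD⟩) w' hw'Z
      have hb'D : IsConj d (c * d * c⁻¹ * w') := by
        rw [← hu]
        refine hbD.trans (isConj_iff.2 ⟨u⁻¹, ?_⟩)
        rw [inv_inv]
      refine ⟨⟨c * d * c⁻¹ * w', hb'D⟩, ?_, ?_⟩
      · show (QuotientGroup.mk (c * d * c⁻¹ * w') : G ⧸ Z) = (w : G ⧸ Z)
        rw [QuotientGroup.mk_mul_of_mem _ hw'Z, hbw]
      · refine ha'r.trans ?_
        by_cases heq : a' = ⟨c * d * c⁻¹ * w', hb'D⟩
        · rw [← heq]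
        · apply SimpleGraph.Adj.reachable
          rw [hΓ]
          unfold Cfsg.commutingGraph
          rw [SimpleGraph.fromRel_adj]
          exact ⟨heq, Or.inl hw'c⟩
  -- Step 5: every conjugate of d is a Z-conjugate of a reachable one
  have step5 : ∀ a : conjugatesOf d, ∃ a' : conjugatesOf d, Γ.Reachable d₀ a' ∧
      ∃ y ∈ Z, (a : G) = y * (a' : G) * y⁻¹ := by
    intro a
    have haq : IsConj (QuotientGroup.mk d : G ⧸ Z) (QuotientGroup.mk (a : G)) := by
      have ha : IsConj d (a : G) := a.2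
      rw [isConj_iff] at ha ⊢
      obtain ⟨g, hg⟩ := ha
      exact ⟨QuotientGroup.mk g, by rw [← hg]; rfl⟩
    obtain ⟨a', ha'q, ha'r⟩ := key ⟨_, haq⟩ (hconn.preconnected _ _)
    refine ⟨a', ha'r, ?_⟩
    have hmem : (a' : G)⁻¹ * (a : G) ∈ Z := by
      rw [← QuotientGroup.eq]
      exact ha'q
    obtain ⟨u, huZ, hu⟩ := sqrt_conj Z hZodd (a' : G) (hDinv a') _ hmem
    refine ⟨u⁻¹, Z.inv_mem huZ, ?_⟩
    rw [inv_inv, hu]
    group
  -- stab
  have hstab : ∀ g : G, g ∈ stab d ↔ Γ.Reachable d₀ (cj d g d₀) := fun g => Iff.rfl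
  have hcent : ∀ c : G, c * d * c⁻¹ = d → c ∈ stab d := by
    intro c hc
    rw [hstab]
    have : cj d c d₀ = d₀ := Subtype.ext hc
    rw [this]
  -- Step 5': G = Z * stab
  have step5' : ∀ g : G, ∃ y ∈ Z, ∃ s ∈ stab d, g = y * s := by
    intro g
    obtain ⟨a', ha'r, y, hyZ, hy⟩ := step5 (cj d g d₀)
    have ha' : IsConj d (a' : G) := a'.2
    rw [isConj_iff] at ha'
    obtain ⟨h, hh⟩ := ha'
    have hhs : h ∈ stab d := by
      rw [hstab]
      have : cj d h d₀ = a' := Subtype.ext hh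
      rw [this]; exact ha'r
    have hy' : g * d * g⁻¹ = y * (a' : G) * y⁻¹ := hy
    have hc : ((y * h)⁻¹ * g) * d * ((y * h)⁻¹ * g)⁻¹ = d := by
      calc ((y * h)⁻¹ * g) * d * ((y * h)⁻¹ * g)⁻¹
          = (y * h)⁻¹ * (g * d * g⁻¹) * (y * h) := by group
        _ = (y * h)⁻¹ * (y * (h * d * h⁻¹) * y⁻¹) * (y * h) := by rw [hy', hh]
        _ = d := by group
    refine ⟨y, hyZ, h * ((y * h)⁻¹ * g), (stab d).mul_mem hhs (hcent _ hc), ?_⟩
    group
  -- Step 6: L ≤ stab
  have hLperf : ⁅L, L⁆ = L := by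
    have : Group.IsPerfect L := hL.1
    exact Subgroup.isPerfect_iff.1 this
  have hLstab : L ≤ stab d := by
    rw [← hLperf, Subgroup.commutator_le]
    intro l₁ hl₁ l₂ hl₂
    obtain ⟨y₁, hy₁, s₁, hs₁, rfl⟩ := step5' l₁
    obtain ⟨y₂, hy₂, s₂, hs₂, rfl⟩ := step5' l₂
    have hs₁L : s₁ ∈ L := by
      have := L.mul_mem (L.inv_mem (hZleL hy₁)) hl₁
      rwa [inv_mul_cancel_left] at this
    have hs₂L : s₂ ∈ L := by
      have := L.mul_mem (L.inv_mem (hZleL hy₂)) hl₂
      rwa [inv_mul_cancel_left] at this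
    rw [comm_central_left y₁ s₁ (y₂ * s₂) (hZL y₁ hy₁ s₁ hs₁L) (hZL y₁ hy₁ _ hl₂),
      comm_central_right y₂ s₁ s₂ (hZL y₂ hy₂ s₁ hs₁L) (hZL y₂ hy₂ s₂ hs₂L)]
    rw [commutatorElement_def]
    exact (stab d).mul_mem ((stab d).mul_mem ((stab d).mul_mem hs₁ hs₂) ((stab d).inv_mem hs₁))
      ((stab d).inv_mem hs₂)
  have hdstab : Subgroup.zpowers d ≤ stab d := by
    rw [Subgroup.zpowers_le]
    apply hcent
    group
  have htop : stab d = ⊤ := by
    rw [eq_top_iff, ← hgen]
    exact sup_le hLstab hdstab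
  -- conclude
  have hpre : Γ.Preconnected := by
    have hall : ∀ a : conjugatesOf d, Γ.Reachable d₀ a := by
      intro a
      have ha : IsConj d (a : G) := a.2
      rw [isConj_iff] at ha
      obtain ⟨g, hg⟩ := ha
      have hgs : g ∈ stab d := by rw [htop]; trivial
      rw [hstab] at hgs
      have : cj d g d₀ = a := Subtype.ext hg
      rw [this] at hgs
      exact hgs
    intro a b
    exact (hall a).symm.trans (hall b)
  haveI : Nonempty (conjugatesOf d) := ⟨d₀⟩
  exact ⟨hpre⟩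

end Cfsg.Agent.S5459
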