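import Mathlib
import Cfsg.Statements.S5521
import Cfsg.Agent.Lib_helper2_M24g

set_option autoImplicit false
open Cfsg

namespace Cfsg.Agent.S5521

open Cfsg.Agent.helper2

theorem result :
    (∀ B : Finset Cfsg.GolayPt, B.card ≤ 6 → ∃ g ∈ Cfsg.M24, g ≠ 1 ∧ ∀ b ∈ B, g b = b) ∧
    (∃ B : Finset Cfsg.GolayPt, B.card = 7 ∧ ∀ g ∈ Cfsg.M24, (∀ b ∈ B, g b = b) → g = 1) := by
  classical
  constructor
  · intro B hB
    obtain ⟨B', hBB', hB'⟩ := Finset.exists_superset_card_eq hB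
      (by rw [Golay.card_golayPt]; norm_num : 6 ≤ Fintype.card GolayPt)
    let e : B' ≃ Fin 6 := B'.equivFinOfCardEq hB'
    let x : Fin 6 ↪ GolayPt := e.symm.toEmbedding.trans (Function.Embedding.subtype _)
    have hx : ∀ b ∈ B', ∃ i, x i = b := by
      intro b hb
      refine ⟨e ⟨b, hb⟩, ?_⟩
      show ((e.symm (e ⟨b, hb⟩) : B') : GolayPt) = b
      rw [Equiv.symm_apply_apply]
    let x5 : Fin 5 ↪ GolayPt := (Fin.castLEEmb (by norm_num : 5 ≤ 6)).trans x
    obtain ⟨g1, hg1, hg1x⟩ := Golay.exists_map_to_base x5 5 le_rfl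
    have hfixer : ∀ a < 24, ∃ k < 48, k ≠ 0 ∧ Golay.tb (Golay.hsD k).1 a = a := by decide +kernel
    obtain ⟨k, hk, hk0, hka⟩ := hfixer (Golay.idx (g1 (x 5))) (Golay.idx_lt _)
    have hne : Golay.hperm k ≠ 1 := by
      intro h1
      rw [← Golay.hperm_zero] at h1
      exact hk0 (Golay.hperm_inj k hk 0 (by norm_num) h1)
    refine ⟨g1⁻¹ * Golay.hperm k * g1,
      Subgroup.mul_mem _ (Subgroup.mul_mem _ (Subgroup.inv_mem _ hg1) (Golay.hperm_mem hk)) hg1,
      ?_, ?_⟩
    · intro h1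
      apply hne
      have : Golay.hperm k = g1 * (g1⁻¹ * Golay.hperm k * g1) * g1⁻¹ := by group
      rw [this, h1]
      group
    · intro b hb
      obtain ⟨i, rfl⟩ := hx b (hBB' hb)
      rw [Equiv.Perm.mul_apply, Equiv.Perm.mul_apply, Equiv.Perm.inv_eq_iff_eq]
      by_cases hi : i.val < 5
      · have h1 : x i = x5 ⟨i.val, hi⟩ := rfl
        rw [h1, hg1x ⟨i.val, hi⟩ hi]
        exact Golay.hperm_fix hk i.val hi
      · have h1 : i = 5 := by
          apply Fin.ext
          show i.val = 5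
          omega
        rw [h1, Golay.hperm_apply hk, hka, Golay.pt_idx]
  · refine ⟨([23, 0, 1, 2, 3, 4, 5].map Golay.pt).toFinset, by decide, ?_⟩
    intro g hg hfix
    apply Golay.rigid hg
    intro i hi
    apply hfix
    rw [List.mem_toFinset]
    exact List.mem_map_of_mem hi

end Cfsg.Agent.S5521
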