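import Mathlib
import Cfsg.Statements.S5522
import Cfsg.Agent.Lib_helper2_Ord3
import Cfsg.Agent.Lib_helper2_Dfs2

set_option autoImplicit false
open Cfsg

namespace Cfsg.Agent.S5522

open Cfsg.Agent.helper2

open Cfsg.Agent.helper2.Golay Cfsg.Agent.helper27
open MulAction
open scoped Pointwise

theorem perm_apply_inv (κ : Equiv.Perm GolayPt) (y : GolayPt) : κ (κ⁻¹ y) = y := by
  rw [← Equiv.Perm.mul_apply, mul_inv_cancel, Equiv.Perm.one_apply]

theorem perm_inv_apply (κ : Equiv.Perm GolayPt) (y : GolayPt) : κ⁻¹ (κ y) = y := by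
  rw [← Equiv.Perm.mul_apply, inv_mul_cancel, Equiv.Perm.one_apply]

theorem sqD_eq : Cfsg.Spor.squareDodecad = pts 0x5335f := by
  unfold Cfsg.Spor.squareDodecad
  rw [qrWord_eq 0, support₂_toWord]
  rfl

theorem sqD_mem : Cfsg.Spor.squareDodecad ∈ dodecads := by
  rw [sqD_eq]
  have h : cw (0x5335f % 4096) = 0x5335f := by decide +kernel
  rw [← h]
  exact pts_mem_dodecads (Nat.mod_lt _ (by norm_num)) (by decide +kernel)

theorem repB_fpf : ∀ i < 24, tb repB.1 i ≠ i := by decide +kernel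

theorem rep3B_fpf : ∀ i < 24, tb rep3B.1 i ≠ i := by decide +kernel

theorem repA_fix : ∀ i ∈ [0, 1, 2, 3, 5, 14, 17, 23], i < 24 ∧ tb repA.1 i = i := by decide +kernel

theorem rep3A_fix : ∀ i ∈ [4, 10, 14, 17, 18, 21], i < 24 ∧ tb rep3A.1 i = i := by decide +kernel

theorem stableA : ∀ m < 4096, wt (cw m) = 12 → img repA.1 (cw m) % 2 ^ 24 = cw m % 2 ^ 24 →
    [0, 1, 2, 3, 5, 14, 17, 23].any (fun i => !(cw m).testBit i) = true :=
  forall_lt_4096 (by decide +kernel)

theorem stable3A : ∀ m < 4096, wt (cw m) = 12 → img rep3A.1 (cw m) % 2 ^ 24 = cw m % 2 ^ 24 →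
    [4, 10, 14, 17, 18, 21].any (fun i => !(cw m).testBit i) = true :=
  forall_lt_4096 (by decide +kernel)

/-- The common argument: an element conjugate to a representative `r` with listed fixed points,
stabilising a dodecad. -/
theorem fixed_outside (r : List ℕ × List ℕ) (hr : tablesOK r.1 r.2 = true) (hlen : r.1.length = 24)
    (L : List ℕ) (hL : ∀ i ∈ L, i < 24 ∧ tb r.1 i = i)
    (hst : ∀ m < 4096, wt (cw m) = 12 → img r.1 (cw m) % 2 ^ 24 = cw m % 2 ^ 24 →
      L.any (fun i => !(cw m).testBit i) = true)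
    {g κ : Equiv.Perm GolayPt} (hκ : κ ∈ M24) (hκg : κ * g * κ⁻¹ = gperm r)
    {D : Finset GolayPt} (hD : D ∈ dodecads) (hgD : g • D = D) :
    ∃ x : GolayPt, x ∉ D ∧ g x = x := by
  have hD' : κ • D ∈ dodecads := smul_mem_dodecads' hκ hD
  obtain ⟨m, hm, hw, hDm⟩ := exists_of_mem_dodecads hD'
  have hstab : gperm r • (κ • D) = κ • D := by
    rw [← hκg, mul_smul, mul_smul, inv_smul_smul, hgD]
  rw [hDm, ← pts_img hr hlen, pts_eq_iff_mod] at hstab
  have h := hst m hm hw hstab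
  rw [List.any_eq_true] at h
  obtain ⟨i, hi, hbit⟩ := h
  rw [Bool.not_eq_true'] at hbit
  obtain ⟨hi24, hfix⟩ := hL i hi
  have hy : pt i ∉ κ • D := by
    rw [hDm, mem_pts_pt hi24, hbit]
    simp
  have hry : gperm r (pt i) = pt i := by rw [gperm_pt hr hi24, hfix]
  refine ⟨κ⁻¹ (pt i), ?_, ?_⟩
  · intro hx
    apply hy
    have := Finset.smul_mem_smul_finset (a := κ) hx
    rwa [Equiv.Perm.smul_def, perm_apply_inv] at this
  · have h1 : g = κ⁻¹ * gperm r * κ := by
      rw [← hκg]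
      group
    rw [h1, Equiv.Perm.mul_apply, Equiv.Perm.mul_apply, perm_apply_inv, hry]

theorem result (g : Equiv.Perm Cfsg.GolayPt) (hg : g ∈ Cfsg.Spor.M11) (hord : (orderOf g).Prime) :
    ∃ x : Cfsg.GolayPt, x ∉ Cfsg.Spor.squareDodecad ∧ g x = x := by
  classical
  have hg' : (g ∈ M24 ∧ g ∈ stabilizer (Equiv.Perm GolayPt) Cfsg.Spor.squareDodecad) ∧
      g ∈ stabilizer (Equiv.Perm GolayPt) (some 0 : GolayPt) := by
    unfold Cfsg.Spor.M11 Cfsg.Spor.M12 at hg
    rw [Subgroup.mem_inf, Subgroup.mem_inf] at hg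
    exact hg
  obtain ⟨⟨hgM, hgD⟩, hg0⟩ := hg'
  rw [mem_stabilizer_iff] at hgD hg0
  have hg0' : g (some 0) = some 0 := hg0
  have hp := hord
  set p := orderOf g with hpdef
  have hgp : g ^ p = 1 := pow_orderOf_eq_one g
  have hg1 : g ≠ 1 := by
    intro h
    rw [h, orderOf_one] at hpdef
    rw [hpdef] at hp
    exact Nat.not_prime_one hp
  by_contra hcon
  push Not at hcon
  -- the induced map on the complement
  have hinv : ∀ x : {x // x ∉ Cfsg.Spor.squareDodecad}, g x.1 ∉ Cfsg.Spor.squareDodecad := by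
    intro x hx
    apply x.2
    have hx' : g • x.1 ∈ g • Cfsg.Spor.squareDodecad := by
      rw [hgD]
      exact hx
    exact (Finset.smul_mem_smul_finset_iff g).mp hx'
  let f : Function.End {x // x ∉ Cfsg.Spor.squareDodecad} := fun x => ⟨g x.1, hinv x⟩
  have hfn : ∀ (n : ℕ) (x : {x // x ∉ Cfsg.Spor.squareDodecad}), ((f ^ n) x).1 = (g ^ n) x.1 := by
    intro n
    induction n with
    | zero => intro x; rfl
    | succ n ih =>
      intro x
      rw [pow_succ, pow_succ]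
      show ((f ^ n) (f x)).1 = (g ^ n) (g x.1)
      rw [ih]
  have : Fact p.Prime := ⟨hp⟩
  have hf1 : f ^ p ^ 1 = 1 := by
    rw [pow_one]
    funext x
    apply Subtype.ext
    rw [hfn, hgp]
    rfl
  have hmod := Equiv.Perm.card_fixedPoints_modEq hf1
  have hcard : Fintype.card {x // x ∉ Cfsg.Spor.squareDodecad} = 12 := by
    rw [Fintype.card_subtype_compl, Fintype.card_coe, card_of_mem_dodecads sqD_mem]
    rfl
  have hfix0 : Fintype.card (Function.fixedPoints f) = 0 := by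
    rw [Fintype.card_eq_zero_iff]
    constructor
    rintro ⟨x, hx⟩
    have h1 : g x.1 = x.1 := congrArg Subtype.val hx
    exact hcon x.1 x.2 h1
  rw [hcard, hfix0] at hmod
  have hdvd : p ∣ 12 := (Nat.modEq_zero_iff_dvd).mp hmod
  have h23 : p = 2 ∨ p = 3 := by
    have h12 : (12 : ℕ) = 2 * 2 * 3 := by norm_num
    rw [h12] at hdvd
    rcases (Nat.Prime.dvd_mul hp).mp hdvd with h | h
    · rcases (Nat.Prime.dvd_mul hp).mp h with h | h
      · exact Or.inl ((Nat.prime_dvd_prime_iff_eq hp Nat.prime_two).mp h)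
      · exact Or.inl ((Nat.prime_dvd_prime_iff_eq hp Nat.prime_two).mp h)
    · exact Or.inr ((Nat.prime_dvd_prime_iff_eq hp Nat.prime_three).mp h)
  have hfpf : ∀ (r : List ℕ × List ℕ), tablesOK r.1 r.2 = true → (∀ i < 24, tb r.1 i ≠ i) →
      ∀ κ : Equiv.Perm GolayPt, κ * g * κ⁻¹ ≠ gperm r := by
    intro r hr hfp κ hκ
    have h1 : gperm r (κ (some 0)) = κ (some 0) := by
      rw [← hκ, Equiv.Perm.mul_apply, Equiv.Perm.mul_apply, perm_inv_apply, hg0']
    rw [gperm_apply hr] at h1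
    have h2 := congrArg idx h1
    rw [idx_pt _ (tablesOK_spec hr _ (idx_lt _)).1] at h2
    exact hfp _ (idx_lt _) h2
  rcases h23 with h2 | h3
  · rw [h2] at hgp
    obtain ⟨κ, hκ, hκg | hκg⟩ := inv_classify hgM (by rw [← pow_two]; exact hgp) hg1
    · obtain ⟨x, hx, hgx⟩ := fixed_outside repA repA_ok.1 (by decide) _ repA_fix stableA hκ hκg
        sqD_mem hgD
      exact hcon x hx hgx
    · exact hfpf repB repB_ok.1 repB_fpf κ hκg
  · rw [h3] at hgp
    obtain ⟨κ, hκ, hκg | hκg⟩ := ord3_classify hgM (by rw [← pow_two, ← pow_succ]; exact hgp) hg1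
    · obtain ⟨x, hx, hgx⟩ := fixed_outside rep3A rep3A_ok.1 (by decide) _ rep3A_fix stable3A hκ hκg
        sqD_mem hgD
      exact hcon x hx hgx
    · exact hfpf rep3B rep3B_ok.1 rep3B_fpf κ hκg

end Cfsg.Agent.S5522
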