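import Cfsg.Statements.S5541
-- import your own Cfsg.Agent.* helpers here

set_option autoImplicit false
open Cfsg

namespace Cfsg.Agent.S5541

/-- Let ρ be a representation of a group H on a finite-dimensional real vector space U whose only ρ-invariant subspaces are the zero subspace and U, and suppose U carries a non-zero ρ-invariant symmetric bilinear form. Then the following are equivalent: (1) there is a non-zero ρ-equivariant commutative bilinear product on U of which every ρ-equivariant bilinear product is a scalar multiple; (2) there is a non-zero ρ-invariant trilinear form on U that is symmetric under all permutations of its arguments and of which every ρ-invariant trilinear form is a scalar multiple. -/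
theorem result {H : Type*} [Group H] {U : Type*} [AddCommGroup U] [Module ℝ U] [FiniteDimensional ℝ U] (ρ : Representation ℝ H U) (hirr : ∀ W : Submodule ℝ U, (∀ g : H, W.map (ρ g) ≤ W) → W = ⊥ ∨ W = ⊤) (B : LinearMap.BilinForm ℝ U) (hB0 : B ≠ 0) (hBs : ∀ u v, B u v = B v u) (hBi : ∀ (g : H) (u v : U), B (ρ g u) (ρ g v) = B u v) : (∃ m : U →ₗ[ℝ] U →ₗ[ℝ] U, m ≠ 0 ∧ (∀ u v, m u v = m v u) ∧ (∀ (g : H) (u v : U), m (ρ g u) (ρ g v) = ρ g (m u v)) ∧ ∀ m' : U →ₗ[ℝ] U →ₗ[ℝ] U, (∀ (g : H) (u v : U), m' (ρ g u) (ρ g v) = ρ g (m' u v)) → ∃ c : ℝ, m' = c • m) ↔ (∃ t : U →ₗ[ℝ] U →ₗ[ℝ] U →ₗ[ℝ] ℝ, t ≠ 0 ∧ (∀ u v w, t u v w = t v u w ∧ t u v w = t u w v) ∧ (∀ (g : H) (u v w : U), t (ρ g u) (ρ g v) (ρ g w) = t u v w) ∧ ∀ t' : U →ₗ[ℝ] U →ₗ[ℝ] U →ₗ[ℝ] ℝ, (∀ (g : H) (u v w : U), t' (ρ g u) (ρ g v) (ρ g w) = t' u v w) → ∃ c : ℝ, t' = c • t) := by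
  -- basic facts about ρ
  have hρ : ∀ (g : H) (w : U), ρ g (ρ g⁻¹ w) = w := by
    intro g w
    rw [← Module.End.mul_apply, ← map_mul, mul_inv_cancel, map_one, Module.End.one_apply]
  -- nondegeneracy
  have hnd : ∀ u : U, (∀ w, B u w = 0) → u = 0 := by
    have hK := hirr (LinearMap.ker B) (by
      intro g
      rintro _ ⟨u, hu, rfl⟩
      rw [SetLike.mem_coe, LinearMap.mem_ker] at hu
      rw [LinearMap.mem_ker]
      ext w
      have h1 := hBi g u (ρ g⁻¹ w)
      rw [hρ] at h1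
      rw [h1, hu]
      rfl)
    rcases hK with h | h
    · intro u hu
      have h1 : u ∈ LinearMap.ker B := by
        rw [LinearMap.mem_ker]; ext w; exact hu w
      rw [h] at h1
      simpa using h1
    · exfalso
      apply hB0
      ext u w
      have h1 : u ∈ LinearMap.ker B := by rw [h]; trivial
      rw [LinearMap.mem_ker] at h1
      rw [h1]; rfl
  have hnd2 : ∀ u u' : U, (∀ w, B u w = B u' w) → u = u' := by
    intro u u' h
    have := hnd (u - u') (by intro w; rw [map_sub, LinearMap.sub_apply, h w, sub_self])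
    exact sub_eq_zero.1 this
  have hinj : Function.Injective (B : U →ₗ[ℝ] Module.Dual ℝ U) := by
    intro u u' h
    apply hnd2
    intro w
    rw [h]
  let e : U ≃ₗ[ℝ] Module.Dual ℝ U :=
    LinearMap.linearEquivOfInjective (B : U →ₗ[ℝ] Module.Dual ℝ U) hinj Subspace.dual_finrank_eq.symm
  have he : ∀ u w, e u w = B u w := by
    intro u w
    show (LinearMap.linearEquivOfInjective (B : U →ₗ[ℝ] Module.Dual ℝ U) hinj Subspace.dual_finrank_eq.symm) u w = B u w
    rw [LinearMap.linearEquivOfInjective_apply]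
  -- from trilinear forms to products
  have hof : ∀ (t : U →ₗ[ℝ] U →ₗ[ℝ] U →ₗ[ℝ] ℝ) (u v w : U),
      B ((t.compr₂ (e.symm : Module.Dual ℝ U →ₗ[ℝ] U)) u v) w = t u v w := by
    intro t u v w
    rw [LinearMap.compr₂_apply, ← he]
    show e (e.symm (t u v)) w = t u v w
    rw [LinearEquiv.apply_symm_apply]
  -- invariance/equivariance transfer
  have L1 : ∀ m : U →ₗ[ℝ] U →ₗ[ℝ] U, (∀ (g : H) (u v : U), m (ρ g u) (ρ g v) = ρ g (m u v)) →
      ∀ (g : H) (u v w : U), B (m (ρ g u) (ρ g v)) (ρ g w) = B (m u v) w := by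
    intro m hm g u v w
    rw [hm, hBi]
  have L2 : ∀ (t : U →ₗ[ℝ] U →ₗ[ℝ] U →ₗ[ℝ] ℝ) (m : U →ₗ[ℝ] U →ₗ[ℝ] U),
      (∀ u v w, B (m u v) w = t u v w) →
      (∀ (g : H) (u v w : U), t (ρ g u) (ρ g v) (ρ g w) = t u v w) →
      ∀ (g : H) (u v : U), m (ρ g u) (ρ g v) = ρ g (m u v) := by
    intro t m hmt ht g u v
    apply hnd2
    intro w
    have h1 := ht g u v (ρ g⁻¹ w)
    rw [hρ] at h1
    have h2 := hBi g (m u v) (ρ g⁻¹ w)
    rw [hρ] at h2
    rw [hmt, h1, h2, hmt]
  constructor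
  · rintro ⟨m, hm0, hmc, hme, hmu⟩
    -- the trilinear form
    let t : U →ₗ[ℝ] U →ₗ[ℝ] U →ₗ[ℝ] ℝ := m.compr₂ (B : U →ₗ[ℝ] Module.Dual ℝ U)
    have ht : ∀ u v w, t u v w = B (m u v) w := fun u v w => rfl
    have htinv : ∀ (g : H) (u v w : U), t (ρ g u) (ρ g v) (ρ g w) = t u v w := by
      intro g u v w
      rw [ht, ht]; exact L1 m hme g u v w
    have ht0 : t ≠ 0 := by
      intro h
      apply hm0
      ext u v
      apply hnd2
      intro w
      rw [← ht, h]; simp
    have hs1 : ∀ u v w, t u v w = t v u w := by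
      intro u v w; rw [ht, ht, hmc]
    -- uniqueness transfer
    have huniq : ∀ t' : U →ₗ[ℝ] U →ₗ[ℝ] U →ₗ[ℝ] ℝ,
        (∀ (g : H) (u v w : U), t' (ρ g u) (ρ g v) (ρ g w) = t' u v w) → ∃ c : ℝ, t' = c • t := by
      intro t' ht'
      obtain ⟨c, hc⟩ := hmu (t'.compr₂ (e.symm : Module.Dual ℝ U →ₗ[ℝ] U))
        (L2 t' _ (hof t') ht')
      refine ⟨c, ?_⟩
      ext u v w
      rw [← hof t', hc]
      simp only [LinearMap.smul_apply, map_smul, smul_eq_mul]
      rw [ht]
    -- the flipped form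
    let t' : U →ₗ[ℝ] U →ₗ[ℝ] U →ₗ[ℝ] ℝ := (LinearMap.lflip (R := ℝ) (M := U) (N := U) (P := ℝ)).comp t
    have ht' : ∀ u v w, t' u v w = t u w v := fun u v w => rfl
    obtain ⟨c, hc⟩ := huniq t' (by
      intro g u v w
      rw [ht', ht', htinv])
    have hflip : ∀ u v w, t u w v = c * t u v w := by
      intro u v w
      rw [← ht', hc]; rfl
    -- c = 1
    obtain ⟨u₀, v₀, w₀, h0⟩ : ∃ u v w, t u v w ≠ 0 := by
      by_contra hcon
      push_neg at hcon
      apply ht0
      ext u v w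
      rw [hcon]; rfl
    have hc2 : c * c = 1 := by
      have h1 := hflip u₀ v₀ w₀
      have h2 := hflip u₀ w₀ v₀
      rw [h1] at h2
      have h3 : (c * c - 1) * t u₀ v₀ w₀ = 0 := by linarith
      rcases mul_eq_zero.1 h3 with h | h
      · linarith
      · exact absurd h h0
    have hc1 : c = 1 := by
      have h1 : (c - 1) * (c + 1) = 0 := by ring_nf; linarith
      rcases mul_eq_zero.1 h1 with h | h
      · linarith
      · exfalso
        have hcm : c = -1 := by linarith
        apply h0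
        have f1 : ∀ u v w, t u w v = - t u v w := by
          intro u v w; rw [hflip, hcm]; ring
        have e1 := f1 u₀ w₀ v₀       -- t u v w = - t u w v
        have e2 := hs1 u₀ w₀ v₀      -- t u w v = t w u v
        have e3 := f1 w₀ v₀ u₀       -- t w u v = - t w v u
        have e4 := hs1 w₀ v₀ u₀      -- t w v u = t v w u
        have e5 := f1 v₀ u₀ w₀       -- t v w u = - t v u w
        have e6 := hs1 v₀ u₀ w₀      -- t v u w = t u v w
        linarith
    refine ⟨t, ht0, ?_, htinv, huniq⟩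
    intro u v w
    refine ⟨hs1 u v w, ?_⟩
    have := hflip u v w
    rw [hc1, one_mul] at this
    exact this.symm
  · rintro ⟨t, ht0, hts, htinv, htu⟩
    let m : U →ₗ[ℝ] U →ₗ[ℝ] U := t.compr₂ (e.symm : Module.Dual ℝ U →ₗ[ℝ] U)
    have hm : ∀ u v w, B (m u v) w = t u v w := hof t
    have hme := L2 t m hm htinv
    refine ⟨m, ?_, ?_, hme, ?_⟩
    · intro h
      apply ht0
      ext u v w
      rw [← hm, h]; simp
    · intro u v
      apply hnd2
      intro w
      rw [hm, hm]; exact (hts u v w).1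
    · intro m' hm'
      let t' : U →ₗ[ℝ] U →ₗ[ℝ] U →ₗ[ℝ] ℝ := m'.compr₂ (B : U →ₗ[ℝ] Module.Dual ℝ U)
      have ht' : ∀ u v w, t' u v w = B (m' u v) w := fun u v w => rfl
      obtain ⟨c, hc⟩ := htu t' (by
        intro g u v w
        rw [ht', ht']; exact L1 m' hm' g u v w)
      refine ⟨c, ?_⟩
      ext u v
      apply hnd2
      intro w
      rw [← ht', hc]
      simp only [LinearMap.smul_apply, map_smul, smul_eq_mul]
      rw [hm]

end Cfsg.Agent.S5541
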