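import Cfsg.Statements.S5543
-- import your own Cfsg.Agent.* helpers here

set_option autoImplicit false
open Cfsg

namespace Cfsg.Agent.S5543

/-- Let V be a finite-dimensional real vector space with a commutative bilinear product and a positive-definite symmetric bilinear form that associates with the product and satisfies the Norton inequality (the Majorana setting of the definitions). Let X be a group of linear automorphisms of V in which every element squares to the identity, and suppose every non-identity element x of X is a Majorana involution with an axial vector a(x) of squared length 1, such that for any two distinct non-identity x, y the product a(x) ∘ a(y) equals (1/8)(a(x) + a(y) − a(xy)) (the dihedral subalgebra of type 2A whose third axis belongs to the involution xy). Then X has order at most 4. -/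
theorem result {V : Type*} [AddCommGroup V] [Module ℝ V] [FiniteDimensional ℝ V] (mul : V →ₗ[ℝ] V →ₗ[ℝ] V) (B : LinearMap.BilinForm ℝ V) (hV : Cfsg.Axial.IsMajoranaAmbient mul B) (X : Subgroup (V ≃ₗ[ℝ] V)) (hX : ∀ x ∈ X, x * x = 1) (ax : (V ≃ₗ[ℝ] V) → V) (hax : ∀ x ∈ X, x ≠ 1 → Cfsg.Axial.IsMajoranaPair mul B x (ax x)) (h1 : ∀ x ∈ X, x ≠ 1 → B (ax x) (ax x) = 1) (h2A : ∀ x ∈ X, ∀ y ∈ X, x ≠ 1 → y ≠ 1 → x ≠ y → mul (ax x) (ax y) = (1 / 8 : ℝ) • (ax x + ax y - ax (x * y))) : Nat.card ↥X ≤ 4 := by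
  classical
  by_contra hcard
  push_neg at hcard
  have hfin : Finite X := Nat.finite_of_card_ne_zero (by omega)
  obtain ⟨hcomm, hsymm, hpos, hassoc, -⟩ := hV
  -- commutativity of X
  have hXc : ∀ s ∈ X, ∀ t ∈ X, s * t = t * s := by
    intro s hs t ht
    have h3 := hX (s * t) (X.mul_mem hs ht)
    have hs2 := hX s hs
    have ht2 := hX t ht
    have e1 : s⁻¹ = s := inv_eq_of_mul_eq_one_left hs2
    have e2 : t⁻¹ = t := inv_eq_of_mul_eq_one_left ht2
    have e3 : (s * t)⁻¹ = s * t := inv_eq_of_mul_eq_one_left h3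
    rw [mul_inv_rev, e1, e2] at e3
    exact e3.symm
  have hsst : ∀ s ∈ X, ∀ t : V ≃ₗ[ℝ] V, s * (s * t) = t := by
    intro s hs t
    rw [← mul_assoc, hX s hs, one_mul]
  -- inner products
  have hinner : ∀ s ∈ X, ∀ t ∈ X, s ≠ 1 → t ≠ 1 → s ≠ t → B (ax s) (ax t) = 1 / 8 := by
    intro s hs t ht hs1 ht1 hst
    have hstX : s * t ∈ X := X.mul_mem hs ht
    have hst1 : s * t ≠ 1 := by
      intro h
      apply hst
      have := hX t ht
      have e2 : t⁻¹ = t := inv_eq_of_mul_eq_one_left this
      rw [← e2]; exact eq_inv_of_mul_eq_one_left h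
    have hsst' : s ≠ s * t := by
      intro h
      apply ht1
      have : s * 1 = s * t := by rw [mul_one]; exact h
      exact (mul_left_cancel this).symm
    have hidem : mul (ax s) (ax s) = ax s := (hax s hs hs1).2.2.1.1.2.1
    have e1 := h2A s hs t ht hs1 ht1 hst
    have e2 := h2A s hs (s * t) hstX hs1 hst1 hsst'
    rw [hsst s hs t] at e2
    have f1 := hassoc (ax s) (ax s) (ax t)
    have f2 := hassoc (ax s) (ax s) (ax (s * t))
    rw [hidem, e1] at f1
    rw [hidem, e2] at f2
    simp only [map_smul, map_add, map_sub, smul_eq_mul, h1 s hs hs1] at f1 f2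
    linarith
  have hdist : ∀ s ∈ X, ∀ t ∈ X, s ≠ 1 → t ≠ 1 → s ≠ t → ax s ≠ ax t := by
    intro s hs t ht hs1 ht1 hst h
    have e1 := hinner s hs t ht hs1 ht1 hst
    rw [← h, h1 s hs hs1] at e1
    norm_num at e1
  -- quarter eigenvectors
  have hquarter : ∀ s ∈ X, ∀ t ∈ X, s ≠ 1 → t ≠ 1 → s ≠ t →
      mul (ax s) (ax t - ax (s * t)) = (1 / 4 : ℝ) • (ax t - ax (s * t)) := by
    intro s hs t ht hs1 ht1 hst
    have hstX : s * t ∈ X := X.mul_mem hs ht
    have hst1 : s * t ≠ 1 := by
      intro h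
      apply hst
      have := hX t ht
      have e2 : t⁻¹ = t := inv_eq_of_mul_eq_one_left this
      rw [← e2]; exact eq_inv_of_mul_eq_one_left h
    have hsst' : s ≠ s * t := by
      intro h
      apply ht1
      have : s * 1 = s * t := by rw [mul_one]; exact h
      exact (mul_left_cancel this).symm
    have e1 := h2A s hs t ht hs1 ht1 hst
    have e2 := h2A s hs (s * t) hstX hs1 hst1 hsst'
    rw [hsst s hs t] at e2
    rw [map_sub, e1, e2]
    module
  -- pick three independent elements
  have : Fintype X := Fintype.ofFinite X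
  have hpick : ∀ S : Finset X, S.card ≤ 4 → ∃ w : X, w ∉ S := by
    intro S hS
    by_contra hcon
    push_neg at hcon
    have : Nat.card X ≤ S.card := by
      rw [Nat.card_eq_fintype_card, ← Finset.card_univ]
      exact Finset.card_le_card (fun w _ => hcon w)
    omega
  obtain ⟨x, hx1⟩ := hpick {1} (by simp)
  obtain ⟨y, hy⟩ := hpick {1, x} (Finset.card_le_two.trans (by norm_num))
  obtain ⟨w, hw⟩ := hpick {1, x, y, x * y} (Finset.card_le_four.trans (by norm_num))
  simp only [Finset.mem_insert, Finset.mem_singleton, not_or] at hx1 hy hw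
  obtain ⟨hy1, hyx⟩ := hy
  obtain ⟨hw1, hwx, hwy, hwxy⟩ := hw
  -- move to the ambient group
  obtain ⟨x, hxX⟩ := x
  obtain ⟨y, hyX⟩ := y
  obtain ⟨w, hwX⟩ := w
  have hx1' : x ≠ 1 := fun h => hx1 (Subtype.ext h)
  have hy1' : y ≠ 1 := fun h => hy1 (Subtype.ext h)
  have hyx' : y ≠ x := fun h => hyx (Subtype.ext h)
  have hw1' : w ≠ 1 := fun h => hw1 (Subtype.ext h)
  have hwx' : w ≠ x := fun h => hwx (Subtype.ext h)
  have hwy' : w ≠ y := fun h => hwy (Subtype.ext h)
  have hwxy' : w ≠ x * y := fun h => hwxy (Subtype.ext h)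
  have hxx := hX x hxX
  have hyy := hX y hyX
  have hww := hX w hwX
  have hxy := hXc x hxX y hyX
  have hxw := hXc x hxX w hwX
  have hyw := hXc y hyX w hwX
  have hxi : x⁻¹ = x := inv_eq_of_mul_eq_one_left hxx
  have hyi : y⁻¹ = y := inv_eq_of_mul_eq_one_left hyy
  have hwi : w⁻¹ = w := inv_eq_of_mul_eq_one_left hww
  -- membership
  have hxyX : x * y ∈ X := X.mul_mem hxX hyX
  have hxwX : x * w ∈ X := X.mul_mem hxX hwX
  have hywX : y * w ∈ X := X.mul_mem hyX hwX
  -- non-identity facts
  have hxy1 : x * y ≠ 1 := by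
    intro h; apply hyx'; rw [← hxi]; exact (inv_eq_of_mul_eq_one_right h).symm
  have hxw1 : x * w ≠ 1 := by
    intro h; apply hwx'; rw [← hxi]; exact (inv_eq_of_mul_eq_one_right h).symm
  have hyw1 : y * w ≠ 1 := by
    intro h; apply hwy'; rw [← hyi]; exact (inv_eq_of_mul_eq_one_right h).symm
  have hyw_x : x ≠ y * w := by
    intro h
    apply hwxy'
    calc w = y * (y * w) := by rw [← mul_assoc, hyy, one_mul]
      _ = y * x := by rw [← h]
      _ = x * y := hxy.symm
  have hy_xw : y ≠ x * w := by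
    intro h
    apply hwxy'
    calc w = x * (x * w) := by rw [← mul_assoc, hxx, one_mul]
      _ = x * y := by rw [← h]
  have hxy_xw : x * y ≠ x * w := by
    intro h; exact hwy' (mul_left_cancel h).symm
  -- group identities
  have g1 : y * (x * w) = x * (y * w) := by rw [← mul_assoc, ← hxy, mul_assoc]
  have g2 : x * y * w = x * (y * w) := mul_assoc x y w
  have g3 : x * y * (x * w) = y * w := by
    calc x * y * (x * w) = y * x * (x * w) := by rw [hxy]
      _ = y * (x * x) * w := by group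
      _ = y * w := by rw [hxx, mul_one]
  -- eigenvectors of a = ax x
  have q1 := hquarter x hxX y hyX hx1' hy1' hyx'.symm
  have q2 := hquarter x hxX w hwX hx1' hw1' hwx'.symm
  have q3 := hquarter x hxX (y * w) hywX hx1' hyw1 hyw_x
  -- the product of v1 v2
  have p1 := h2A y hyX w hwX hy1' hw1' hwy'.symm
  have p2 := h2A y hyX (x * w) hxwX hy1' hxw1 hy_xw
  have p3 := h2A (x * y) hxyX w hwX hxy1 hw1' hwxy'.symm
  have p4 := h2A (x * y) hxyX (x * w) hxwX hxy1 hxw1 hxy_xw
  rw [g1] at p2
  rw [g2] at p3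
  rw [g3] at p4
  have hprod : mul (ax y - ax (x * y)) (ax w - ax (x * w)) = (-(1 / 4) : ℝ) • (ax (y * w) - ax (x * (y * w))) := by
    simp only [map_sub, LinearMap.sub_apply, p1, p2, p3, p4]
    module
  -- fusion law
  obtain ⟨-, -, ⟨⟨-, -, -, hfus⟩, -⟩, -⟩ := hax x hxX hx1'
  have hS : (1 / 4 : ℝ) ∈ Cfsg.Axial.majoranaSpectrum := by
    simp [Cfsg.Axial.majoranaSpectrum]
  have m1 : ax y - ax (x * y) ∈ Cfsg.Axial.eigen mul (ax x) (1 / 4) := by
    rw [Cfsg.Axial.eigen, Module.End.mem_eigenspace_iff]; exact q1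
  have m2 : ax w - ax (x * w) ∈ Cfsg.Axial.eigen mul (ax x) (1 / 4) := by
    rw [Cfsg.Axial.eigen, Module.End.mem_eigenspace_iff]; exact q2
  have hf := hfus (1 / 4) hS (1 / 4) hS _ m1 _ m2
  have hlaw : Cfsg.Axial.monsterLaw (1 / 4 : ℝ) (1 / 32) (1 / 4) (1 / 4) = {1, 0} := by
    unfold Cfsg.Axial.monsterLaw
    norm_num
  rw [hlaw, hprod] at hf
  have hsum : Cfsg.Axial.eigenSum mul (ax x) ({1, 0} : Set ℝ) = Cfsg.Axial.eigen mul (ax x) 1 ⊔ Cfsg.Axial.eigen mul (ax x) 0 := by
    unfold Cfsg.Axial.eigenSum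
    rw [iSup_insert, iSup_singleton]
  rw [hsum, Submodule.mem_sup] at hf
  obtain ⟨p, hp, q, hq, hpq⟩ := hf
  rw [Cfsg.Axial.eigen, Module.End.mem_eigenspace_iff] at hp hq
  set v3 := ax (y * w) - ax (x * (y * w)) with hv3
  -- apply a to both sides
  have h5 : mul (ax x) (p + q) = (1 / 4 : ℝ) • (p + q) := by
    rw [hpq, map_smul, q3, smul_comm]
  rw [map_add, hp, hq, one_smul, zero_smul, add_zero] at h5
  -- p = 1/4 (p + q)  =>  3p = q ; apply a again
  have h6 : q = (3 : ℝ) • p := by
    linear_combination (norm := module) (-4 : ℝ) • h5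
  have h8 : mul (ax x) q = (3 : ℝ) • mul (ax x) p := by rw [h6, map_smul]
  rw [hq, hp, one_smul, zero_smul] at h8
  have hp0 : p = 0 := by
    have : (3 : ℝ) • p = 0 := h8.symm
    exact (smul_eq_zero.1 this).resolve_left (by norm_num)
  have hq0 : q = 0 := by rw [h6, hp0, smul_zero]
  rw [hp0, hq0, add_zero] at hpq
  have hv30 : v3 = 0 := by
    have := hpq.symm
    exact (smul_eq_zero.1 this).resolve_left (by norm_num)
  -- contradiction with distinct axes
  have hne : y * w ≠ x * (y * w) := by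
    intro h
    apply hx1'
    have : 1 * (y * w) = x * (y * w) := by rw [one_mul]; exact h
    exact (mul_right_cancel this).symm
  have hxyw1 : x * (y * w) ≠ 1 := by
    intro h
    apply hyw_x
    rw [← hxi]; exact inv_eq_of_mul_eq_one_right h
  apply hdist (y * w) hywX (x * (y * w)) (X.mul_mem hxX hywX) hyw1 hxyw1 hne
  exact sub_eq_zero.1 hv30

end Cfsg.Agent.S5543
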