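import Cfsg.Statements.S5545
-- import your own Cfsg.Agent.* helpers here

set_option autoImplicit false
open Cfsg
open Cfsg.Axial

namespace Cfsg.Agent.S5545

section helpers

variable {V : Type*} [AddCommGroup V] [Module ℝ V]

theorem eigen_mem_iff (mul : V →ₗ[ℝ] V →ₗ[ℝ] V) (a v : V) (c : ℝ) :
    v ∈ eigen mul a c ↔ mul a v = c • v := by
  unfold eigen
  exact Module.End.mem_eigenspace_iff

theorem eigen_map (mul : V →ₗ[ℝ] V →ₗ[ℝ] V) (μ : V ≃ₗ[ℝ] V)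
    (hμ : ∀ u v, μ (mul u v) = mul (μ u) (μ v)) (a : V) (c : ℝ) :
    eigen mul (μ a) c = (eigen mul a c).map (μ : V →ₗ[ℝ] V) := by
  ext v
  rw [Submodule.mem_map, eigen_mem_iff]
  constructor
  · intro hv
    refine ⟨μ.symm v, ?_, ?_⟩
    · rw [eigen_mem_iff]
      apply μ.injective
      rw [hμ, map_smul, LinearEquiv.apply_symm_apply]
      exact hv
    · show μ (μ.symm v) = v
      exact μ.apply_symm_apply v
  · rintro ⟨y, hy, rfl⟩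
    rw [eigen_mem_iff] at hy
    show mul (μ a) (μ y) = c • μ y
    rw [← hμ, hy, map_smul]

theorem eigenSum_map (mul : V →ₗ[ℝ] V →ₗ[ℝ] V) (μ : V ≃ₗ[ℝ] V)
    (hμ : ∀ u v, μ (mul u v) = mul (μ u) (μ v)) (a : V) (S : Set ℝ) :
    eigenSum mul (μ a) S = (eigenSum mul a S).map (μ : V →ₗ[ℝ] V) := by
  unfold eigenSum
  simp only [Submodule.map_iSup, eigen_map mul μ hμ]

theorem eigen_le (mul : V →ₗ[ℝ] V →ₗ[ℝ] V) (a : V) (S : Set ℝ) (c : ℝ) (hc : c ∈ S) :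
    eigen mul a c ≤ eigenSum mul a S := by
  unfold eigenSum
  exact le_iSup₂ (f := fun c _ => eigen mul a c) c hc

theorem eigenSum_singleton (mul : V →ₗ[ℝ] V →ₗ[ℝ] V) (a : V) (c : ℝ) :
    eigenSum mul a {c} = eigen mul a c := by
  unfold eigenSum
  rw [iSup_singleton]

theorem eigenSum_pair (mul : V →ₗ[ℝ] V →ₗ[ℝ] V) (a : V) (c d : ℝ) (v : V)
    (hv : v ∈ eigenSum mul a {c, d}) :
    ∃ s ∈ eigen mul a c, ∃ t ∈ eigen mul a d, v = s + t := by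
  unfold eigenSum at hv
  rw [iSup_insert, iSup_singleton, Submodule.mem_sup] at hv
  obtain ⟨s, hs, t, ht, rfl⟩ := hv
  exact ⟨s, hs, t, ht, rfl⟩

theorem decomp (mul : V →ₗ[ℝ] V →ₗ[ℝ] V) (a : V) (htop : eigenSum mul a majoranaSpectrum = ⊤)
    (v : V) :
    ∃ x₁ ∈ eigen mul a 1, ∃ x₀ ∈ eigen mul a 0, ∃ xq ∈ eigen mul a (1 / 4),
      ∃ xb ∈ eigen mul a (1 / 32), v = x₁ + x₀ + xq + xb := by
  have hv : v ∈ eigenSum mul a majoranaSpectrum := by rw [htop]; trivial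
  unfold eigenSum majoranaSpectrum at hv
  rw [iSup_insert, iSup_insert, iSup_insert, iSup_singleton] at hv
  rw [Submodule.mem_sup] at hv
  obtain ⟨x₁, hx₁, r, hr, rfl⟩ := hv
  rw [Submodule.mem_sup] at hr
  obtain ⟨x₀, hx₀, r', hr', rfl⟩ := hr
  rw [Submodule.mem_sup] at hr'
  obtain ⟨xq, hxq, xb, hxb, rfl⟩ := hr'
  exact ⟨x₁, hx₁, x₀, hx₀, xq, hxq, xb, hxb, by abel⟩

theorem law00 : monsterLaw (1 / 4 : ℝ) (1 / 32) 0 0 = {0} := by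
  unfold monsterLaw; norm_num

theorem lawqq : monsterLaw (1 / 4 : ℝ) (1 / 32) (1 / 4) (1 / 4) = {1, 0} := by
  unfold monsterLaw; norm_num

theorem law0q : monsterLaw (1 / 4 : ℝ) (1 / 32) 0 (1 / 4) = {1 / 4} := by
  unfold monsterLaw; norm_num

theorem pair_transport (mul : V →ₗ[ℝ] V →ₗ[ℝ] V) (B : LinearMap.BilinForm ℝ V)
    (μ₀ μ₁ : V ≃ₗ[ℝ] V) (a₀ : V)
    (h₀ : IsMajoranaPair mul B μ₀ a₀) (hμ₁ : ∀ u v, μ₁ (mul u v) = mul (μ₁ u) (μ₁ v))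
    (hc : μ₀ * μ₁ = μ₁ * μ₀) : IsMajoranaPair mul B μ₀ (μ₁ a₀) := by
  obtain ⟨hm, hB, ⟨⟨hne, hid, htop, hfus⟩, hprim⟩, hfix, hneg⟩ := h₀
  have hcomm : ∀ v, μ₀ (μ₁ v) = μ₁ (μ₀ v) := fun v => by
    have := congrArg (fun f : V ≃ₗ[ℝ] V => f v) hc
    exact this
  refine ⟨hm, hB, ⟨⟨?_, ?_, ?_, ?_⟩, ?_⟩, ?_, ?_⟩
  · intro h
    apply hne
    apply μ₁.injective
    rw [h, map_zero]
  · rw [← hμ₁, hid]
  · rw [eigenSum_map mul μ₁ hμ₁, htop, Submodule.map_top, LinearMap.range_eq_top]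
    exact μ₁.surjective
  · intro c hc' d hd u hu v hv
    rw [eigen_map mul μ₁ hμ₁, Submodule.mem_map] at hu hv
    obtain ⟨u', hu', rfl⟩ := hu
    obtain ⟨v', hv', rfl⟩ := hv
    rw [eigenSum_map mul μ₁ hμ₁, Submodule.mem_map]
    exact ⟨mul u' v', hfus c hc' d hd u' hu' v' hv', hμ₁ u' v'⟩
  · rw [eigen_map mul μ₁ hμ₁, hprim, Submodule.map_span, Set.image_singleton]
    rfl
  · intro v hv
    rw [eigenSum_map mul μ₁ hμ₁, Submodule.mem_map] at hv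
    obtain ⟨v', hv', rfl⟩ := hv
    show μ₀ (μ₁ v') = μ₁ v'
    rw [hcomm, show μ₀ v' = v' from hfix v' hv']
  · intro v hv
    rw [eigen_map mul μ₁ hμ₁, Submodule.mem_map] at hv
    obtain ⟨v', hv', rfl⟩ := hv
    show μ₀ (μ₁ v') = -(μ₁ v')
    rw [hcomm, show μ₀ v' = -v' from hneg v' hv', map_neg]

theorem dec (mul : V →ₗ[ℝ] V →ₗ[ℝ] V) (B : LinearMap.BilinForm ℝ V)
    (hcomm : ∀ u v, mul u v = mul v u)
    (hassoc : ∀ u v w, B u (mul v w) = B (mul u v) w)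
    (μ₁ : V ≃ₗ[ℝ] V) (a₀ a₁ : V) (h₁ : IsMajoranaPair mul B μ₁ a₁) (hn₁ : B a₁ a₁ = 1)
    (hfix : μ₁ a₀ = a₀) :
    mul a₁ (mul a₀ a₁ - (B a₀ a₁) • a₁) = (1 / 4 : ℝ) • (mul a₀ a₁ - (B a₀ a₁) • a₁) ∧
    mul a₁ (a₀ - (B a₀ a₁) • a₁ - (4 : ℝ) • (mul a₀ a₁ - (B a₀ a₁) • a₁)) = 0 := by
  obtain ⟨-, -, ⟨⟨hne, hid, htop, hfus⟩, hprim⟩, hfixS, hneg⟩ := h₁
  obtain ⟨x₁, hx₁, x₀, hx₀, xq, hxq, xb, hxb, hdec⟩ := decomp mul a₁ htop a₀
  have h1 : μ₁ x₁ = x₁ := hfixS x₁ (eigen_le mul a₁ _ 1 (by simp) hx₁)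
  have h0 : μ₁ x₀ = x₀ := hfixS x₀ (eigen_le mul a₁ _ 0 (by simp) hx₀)
  have hq : μ₁ xq = xq := hfixS xq (eigen_le mul a₁ _ (1 / 4) (by simp) hxq)
  have hb : μ₁ xb = -xb := hneg xb hxb
  have hxb0 : xb = 0 := by
    have h := hfix
    rw [hdec] at h
    simp only [map_add] at h
    rw [h1, h0, hq, hb] at h
    have h2 : (2 : ℝ) • xb = 0 := by linear_combination (norm := module) (-1 : ℝ) • h
    exact (smul_eq_zero.1 h2).resolve_left (by norm_num)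
  subst hxb0
  rw [hprim] at hx₁
  obtain ⟨c, rfl⟩ := Submodule.mem_span_singleton.1 hx₁
  have e0 : mul a₁ x₀ = 0 := by
    have := (eigen_mem_iff mul a₁ x₀ 0).1 hx₀
    rw [zero_smul] at this; exact this
  have eq : mul a₁ xq = (1 / 4 : ℝ) • xq := (eigen_mem_iff mul a₁ xq (1 / 4)).1 hxq
  have hB0 : B x₀ a₁ = 0 := by
    have h : B x₀ (mul a₁ a₁) = B (mul x₀ a₁) a₁ := hassoc _ _ _
    rw [hid, hcomm x₀ a₁, e0, map_zero, LinearMap.zero_apply] at h; exact h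
  have hBq : B xq a₁ = 0 := by
    have h : B xq (mul a₁ a₁) = B (mul xq a₁) a₁ := hassoc _ _ _
    rw [hid, hcomm xq a₁, eq, map_smul, LinearMap.smul_apply, smul_eq_mul] at h
    linarith
  have hl : B a₀ a₁ = c := by
    rw [hdec]
    simp only [map_add, LinearMap.add_apply, map_smul, LinearMap.smul_apply, smul_eq_mul, hn₁,
      hB0, hBq, map_zero, LinearMap.zero_apply]
    ring
  have hm : mul a₀ a₁ = c • a₁ + (1 / 4 : ℝ) • xq := by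
    rw [hcomm a₀ a₁, hdec]
    simp only [map_add, map_smul, hid, e0, eq, map_zero]
    module
  constructor
  · rw [hl, hm]
    simp only [map_sub, map_add, map_smul, hid, eq]
    module
  · rw [hl, hm, hdec]
    simp only [map_sub, map_add, map_smul, hid, eq, e0, map_zero]
    module

theorem core (mul : V →ₗ[ℝ] V →ₗ[ℝ] V) (hcomm : ∀ u v, mul u v = mul v u) (a₀ a₁ z q : V)
    (l : ℝ) (hdec : a₀ = l • a₁ + z + (4 : ℝ) • q) (hid₀ : mul a₀ a₀ = a₀)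
    (hid₁ : mul a₁ a₁ = a₁) (hz : mul a₁ z = 0) (hq : mul a₁ q = (1 / 4 : ℝ) • q)
    (hzz : mul a₁ (mul z z) = 0) (s₁ s₀ : V) (hqq : mul q q = s₁ + s₀) (hs₁ : mul a₁ s₁ = s₁)
    (hs₀ : mul a₁ s₀ = 0) (hzq : mul a₁ (mul z q) = (1 / 4 : ℝ) • mul z q)
    (hq' : mul a₀ (mul a₀ a₁ - l • a₀) = (1 / 4 : ℝ) • (mul a₀ a₁ - l • a₀)) :
    mul a₀ a₁ = l • a₁ + q ∧
    mul q q = (1 / 16 : ℝ) • ((3 * l) • a₀ + (2 * l) • a₁ - (1 + 4 * l) • mul a₀ a₁) ∧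
    (2 * l - 1 / 4) • q = 0 := by
  have hza : mul z a₁ = 0 := by rw [hcomm]; exact hz
  have hqa : mul q a₁ = (1 / 4 : ℝ) • q := by rw [hcomm]; exact hq
  have hqz : mul q z = mul z q := hcomm q z
  have hm : mul a₀ a₁ = l • a₁ + q := by
    rw [hdec]
    simp only [map_add, map_smul, LinearMap.add_apply, LinearMap.smul_apply, hid₁, hza, hqa]
    module
  have hstar : l • a₁ + z + (4 : ℝ) • q = (l ^ 2) • a₁ + mul z z + (16 : ℝ) • s₁ + (16 : ℝ) • s₀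
      + (2 * l) • q + (8 : ℝ) • mul z q := by
    have h := hid₀
    rw [hdec] at h
    simp only [map_add, map_smul, LinearMap.add_apply, LinearMap.smul_apply, hid₁, hza, hqa, hz,
      hq, hqz, hqq] at h
    linear_combination (norm := module) (-1 : ℝ) • h
  have hL1 : l • a₁ + q = (l ^ 2) • a₁ + (16 : ℝ) • s₁ + (l / 2) • q + (2 : ℝ) • mul z q := by
    have h := congrArg (mul a₁) hstar
    simp only [map_add, map_smul, hid₁, hz, hq, hzz, hs₁, hs₀, hzq] at h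
    linear_combination (norm := module) h
  have hL2 : l • a₁ + (1 / 4 : ℝ) • q = (l ^ 2) • a₁ + (16 : ℝ) • s₁ + (l / 8) • q
      + (1 / 2 : ℝ) • mul z q := by
    have h := congrArg (mul a₁) hL1
    simp only [map_add, map_smul, hid₁, hq, hs₁, hzq] at h
    linear_combination (norm := module) h
  have hX0q : mul z q = (1 / 2 - l / 4) • q := by
    linear_combination (norm := module) (-(2 / 3 : ℝ)) • hL1 + (2 / 3 : ℝ) • hL2
  have hs₁' : (16 : ℝ) • s₁ = (l - l ^ 2) • a₁ := by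
    linear_combination (norm := module) (-1 : ℝ) • hL1 + (-2 : ℝ) • hX0q
  have ham : mul a₀ (mul a₀ a₁) = (3 * l / 4) • a₀ + (1 / 4 : ℝ) • mul a₀ a₁ := by
    have h := hq'
    simp only [map_sub, map_smul, hid₀] at h
    linear_combination (norm := module) h
  have haq1 : mul a₀ q = (1 / 2 : ℝ) • q + (4 : ℝ) • (s₁ + s₀) := by
    rw [hdec]
    simp only [map_add, map_smul, LinearMap.add_apply, LinearMap.smul_apply, hq, hqq, hX0q]
    module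
  have hq_eq : q = mul a₀ a₁ - l • a₁ := by rw [hm]; module
  have haq2 : mul a₀ q = (3 * l / 4) • a₀ + (1 / 4 : ℝ) • mul a₀ a₁ - l • mul a₀ a₁ := by
    calc mul a₀ q = mul a₀ (mul a₀ a₁ - l • a₁) := by rw [← hq_eq]
      _ = mul a₀ (mul a₀ a₁) - l • mul a₀ a₁ := by rw [map_sub, map_smul]
      _ = _ := by rw [ham]
  have hE3 : mul q q = (1 / 16 : ℝ) • ((3 * l) • a₀ + (2 * l) • a₁ - (1 + 4 * l) • mul a₀ a₁) := by
    rw [hqq]
    have h := haq1.symm.trans haq2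
    linear_combination (norm := module) (1 / 4 : ℝ) • h + (1 / 8 : ℝ) • hm
  have hE2 : (2 * l - 1 / 4) • q = 0 := by
    have h := congrArg (mul a₁) hE3
    rw [hqq] at h
    have ham1 : mul a₁ a₀ = mul a₀ a₁ := hcomm _ _
    have hm1 : mul a₁ (mul a₀ a₁) = l • a₁ + (1 / 4 : ℝ) • q := by
      rw [hm, map_add, map_smul, hid₁, hq]
    simp only [map_add, map_sub, map_smul, hs₁, hs₀, ham1, hid₁, hm1] at h
    linear_combination (norm := module) hs₁' - (16 : ℝ) • h - (3 * l) • hm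
  exact ⟨hm, hE3, hE2⟩

theorem half (mul : V →ₗ[ℝ] V →ₗ[ℝ] V) (B : LinearMap.BilinForm ℝ V)
    (hcomm : ∀ u v, mul u v = mul v u) (μ₁ : V ≃ₗ[ℝ] V) (a₀ a₁ : V)
    (h₁ : IsMajoranaPair mul B μ₁ a₁) (l : ℝ) (hid₀ : mul a₀ a₀ = a₀)
    (hq : mul a₁ (mul a₀ a₁ - l • a₁) = (1 / 4 : ℝ) • (mul a₀ a₁ - l • a₁))
    (hz : mul a₁ (a₀ - l • a₁ - (4 : ℝ) • (mul a₀ a₁ - l • a₁)) = 0)
    (hq' : mul a₀ (mul a₀ a₁ - l • a₀) = (1 / 4 : ℝ) • (mul a₀ a₁ - l • a₀)) :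
    mul (mul a₀ a₁ - l • a₁) (mul a₀ a₁ - l • a₁)
      = (1 / 16 : ℝ) • ((3 * l) • a₀ + (2 * l) • a₁ - (1 + 4 * l) • mul a₀ a₁)
    ∧ (2 * l - 1 / 4) • (mul a₀ a₁ - l • a₁) = 0 := by
  obtain ⟨-, -, ⟨⟨hne, hid, htop, hfus⟩, hprim⟩, -, -⟩ := h₁
  obtain ⟨q, hqdef⟩ : ∃ q, q = mul a₀ a₁ - l • a₁ := ⟨_, rfl⟩
  obtain ⟨z, hzdef⟩ : ∃ z, z = a₀ - l • a₁ - (4 : ℝ) • q := ⟨_, rfl⟩
  rw [← hqdef] at hq hz ⊢
  rw [← hzdef] at hz
  have hdec : a₀ = l • a₁ + z + (4 : ℝ) • q := by rw [hzdef]; module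
  have hzmem : z ∈ eigen mul a₁ 0 := by rw [eigen_mem_iff, zero_smul]; exact hz
  have hqmem : q ∈ eigen mul a₁ (1 / 4) := by rw [eigen_mem_iff]; exact hq
  have m0 : (0 : ℝ) ∈ majoranaSpectrum := by unfold majoranaSpectrum; simp
  have mq : (1 / 4 : ℝ) ∈ majoranaSpectrum := by unfold majoranaSpectrum; simp
  have fzz := hfus 0 m0 0 m0 z hzmem z hzmem
  have fqq := hfus (1 / 4) mq (1 / 4) mq q hqmem q hqmem
  have fzq := hfus 0 m0 (1 / 4) mq z hzmem q hqmem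
  rw [law00, eigenSum_singleton, eigen_mem_iff, zero_smul] at fzz
  rw [lawqq] at fqq
  obtain ⟨s₁, hs₁, s₀, hs₀, hqq⟩ := eigenSum_pair mul a₁ 1 0 _ fqq
  rw [law0q, eigenSum_singleton, eigen_mem_iff] at fzq
  rw [eigen_mem_iff, one_smul] at hs₁
  rw [eigen_mem_iff, zero_smul] at hs₀
  obtain ⟨hm, hE3, hE2⟩ := core mul hcomm a₀ a₁ z q l hdec hid₀ hid hz hq fzz s₁ s₀ hqq hs₁ hs₀
    fzq hq'
  exact ⟨hE3, hE2⟩

end helpers


/-- Let V be a finite-dimensional real vector space with a commutative bilinear product and a positive-definite symmetric bilinear form that associates with the product and satisfies the Norton inequality (the Majorana setting of the definitions). Let μ₀, μ₁ be commuting Majorana involutions with distinct axial vectors a₀ ≠ a₁ of squared length 1, each involution having no other axial vector. Then either a₀ and a₁ are orthogonal with a₀ ∘ a₁ =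 0 (type 2B), or their inner product is 1/8 and, with a₂ = a₀ + a₁ − 8 a₀ ∘ a₁, the vector a₂ is an idempotent and a₀ ∘ a₂ = (1/8)(a₀ + a₂ − a₁), a₁ ∘ a₂ = (1/8)(a₁ + a₂ − a₀) (type 2A: the three idempotents span a subalgebra with aᵢ ∘ aⱼ = (1/8)(aᵢ + aⱼ − aₖ)). -/
theorem result {V : Type*} [AddCommGroup V] [Module ℝ V] [FiniteDimensional ℝ V] (mul : V →ₗ[ℝ] V →ₗ[ℝ] V) (B : LinearMap.BilinForm ℝ V) (hV : Cfsg.Axial.IsMajoranaAmbient mul B) (μ₀ μ₁ : V ≃ₗ[ℝ] V) (a₀ a₁ : V) (h₀ : Cfsg.Axial.IsMajoranaPair mul B μ₀ a₀) (h₁ : Cfsg.Axial.IsMajoranaPair mul B μ₁ a₁) (hu₀ : ∀ a : V, Cfsg.Axial.IsMajoranaPair mul B μ₀ a → a = a₀) (hu₁ : ∀ a : V, Cfsg.Axial.IsMajoranaPair mul B μ₁ a → a = a₁) (hn₀ : B a₀ a₀ = 1) (hn₁ : B a₁ a₁ = 1) (hc : μ₀ * μ₁ = μ₁ * μ₀) (hne : a₀ ≠ a₁) : (B a₀ a₁ = 0 ∧ mul a₀ a₁ = 0) ∨ (B a₀ a₁ = 1 / 8 ∧ mul (a₀ + a₁ - (8 : ℝ) • mul a₀ a₁) (a₀ + a₁ - (8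 : ℝ) • mul a₀ a₁) = a₀ + a₁ - (8 : ℝ) • mul a₀ a₁ ∧ mul a₀ (a₀ + a₁ - (8 : ℝ) • mul a₀ a₁) = (1 / 8 : ℝ) • (a₀ + (a₀ + a₁ - (8 : ℝ) • mul a₀ a₁) - a₁) ∧ mul a₁ (a₀ + a₁ - (8 : ℝ) • mul a₀ a₁) = (1 / 8 : ℝ) • (a₁ + (a₀ + a₁ - (8 : ℝ) • mul a₀ a₁) - a₀)) := by
  obtain ⟨hcomm, hsymm, hpos, hassoc, -⟩ := hV
  have hfix01 : μ₁ a₀ = a₀ := hu₀ _ (pair_transport mul B μ₀ μ₁ a₀ h₀ h₁.1 hc)
  have hfix10 : μ₀ a₁ = a₁ := hu₁ _ (pair_transport mul B μ₁ μ₀ a₁ h₁ h₀.1 hc.symm)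
  have hid₀ : mul a₀ a₀ = a₀ := h₀.2.2.1.1.2.1
  have hid₁ : mul a₁ a₁ = a₁ := h₁.2.2.1.1.2.1
  obtain ⟨l, hl⟩ : ∃ l : ℝ, l = B a₀ a₁ := ⟨_, rfl⟩
  have hl' : B a₁ a₀ = l := by rw [hl]; exact hsymm a₁ a₀
  obtain ⟨m, hmdef⟩ : ∃ m : V, m = mul a₀ a₁ := ⟨_, rfl⟩
  have hmm : mul a₁ a₀ = m := by rw [hmdef]; exact hcomm a₁ a₀
  obtain ⟨d01q, d01z⟩ := dec mul B hcomm hassoc μ₁ a₀ a₁ h₁ hn₁ hfix01
  obtain ⟨d10q, d10z⟩ := dec mul B hcomm hassoc μ₀ a₁ a₀ h₀ hn₀ hfix10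
  rw [← hl] at d01q d01z
  rw [hl'] at d10q d10z
  -- first half
  have d10q' : mul a₀ (mul a₀ a₁ - l • a₀) = (1 / 4 : ℝ) • (mul a₀ a₁ - l • a₀) := by
    rw [← hmdef]; rw [hmm] at d10q; exact d10q
  have d01q' : mul a₁ (mul a₁ a₀ - l • a₁) = (1 / 4 : ℝ) • (mul a₁ a₀ - l • a₁) := by
    rw [hmm]; rw [← hmdef] at d01q; exact d01q
  obtain ⟨E3a, E2a⟩ := half mul B hcomm μ₁ a₀ a₁ h₁ l hid₀ d01q d01z d10q'
  obtain ⟨-, E2b⟩ := half mul B hcomm μ₀ a₁ a₀ h₀ l hid₁ d10q d10z d01q'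
  rw [← hmdef] at E3a E2a d01q d10q'
  rw [hmm] at E2b
  rw [← hl, ← hmdef]
  -- basic products
  have ham1 : mul a₁ m = (3 * l / 4) • a₁ + (1 / 4 : ℝ) • m := by
    have h := d01q
    simp only [map_sub, map_smul, hid₁] at h
    linear_combination (norm := module) h
  have ham0 : mul a₀ m = (3 * l / 4) • a₀ + (1 / 4 : ℝ) • m := by
    have h := d10q'
    simp only [map_sub, map_smul, hid₀] at h
    linear_combination (norm := module) h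
  by_cases h8 : l = 1 / 8
  · right
    have hma₁ : mul m a₁ = mul a₁ m := hcomm _ _
    have hma₀ : mul m a₀ = mul a₀ m := hcomm _ _
    have hmm2 : mul m m = (3 / 128 : ℝ) • (a₀ + a₁) - (1 / 32 : ℝ) • m := by
      have h := E3a
      simp only [map_sub, map_smul, LinearMap.sub_apply, LinearMap.smul_apply, hma₁, hid₁, ham1]
        at h
      rw [h8] at h
      linear_combination (norm := module) h
    rw [h8] at ham0 ham1
    refine ⟨h8, ?_, ?_, ?_⟩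
    · simp only [map_sub, map_add, map_smul, LinearMap.sub_apply, LinearMap.add_apply,
        LinearMap.smul_apply, hid₀, hid₁, hmm, ← hmdef, hma₀, hma₁, ham0, ham1, hmm2]
      module
    · simp only [map_sub, map_add, map_smul, hid₀, ← hmdef, ham0]
      module
    · simp only [map_sub, map_add, map_smul, hid₁, hmm, ham1]
      module
  · left
    have hne8 : (2 * l - 1 / 4) ≠ 0 := by
      intro h; apply h8; linarith
    have ea : m - l • a₁ = 0 := (smul_eq_zero.1 E2a).resolve_left hne8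
    have eb : m - l • a₀ = 0 := (smul_eq_zero.1 E2b).resolve_left hne8
    have ec : l • (a₀ - a₁) = 0 := by
      linear_combination (norm := module) ea - eb
    have hl0 : l = 0 := by
      rcases smul_eq_zero.1 ec with h | h
      · exact h
      · exfalso; exact hne (sub_eq_zero.1 h)
    refine ⟨hl0, ?_⟩
    rw [hl0, zero_smul, sub_zero] at ea
    exact ea

end Cfsg.Agent.S5545
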