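import Cfsg.Statements.S5562
-- import your own Cfsg.Agent.* helpers here

set_option autoImplicit false
open Cfsg

namespace Cfsg.Agent.S5562


theorem mem_conj_iff {G : Type*} [Group G] {d a : G} : a ∈ conjugatesOf d ↔ IsConj d a := Iff.rfl

theorem inv_of_sq {G : Type*} [Group G] {a : G} (h : orderOf a = 2) : a * a = 1 ∧ a⁻¹ = a := by
  have h1 : a ^ 2 = 1 := by rw [← h]; exact pow_orderOf_eq_one a
  have h2 : a * a = 1 := by rw [← pow_two]; exact h1
  exact ⟨h2, inv_eq_of_mul_eq_one_left h2⟩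

theorem conj_order {G : Type*} [Group G] {d a : G} (h : a ∈ conjugatesOf d) : orderOf a = orderOf d := by
  rw [mem_conj_iff, isConj_iff] at h
  obtain ⟨c, rfl⟩ := h
  have h1 : SemiconjBy c d (c * d * c⁻¹) := by
    show c * d = c * d * c⁻¹ * c
    group
  exact (SemiconjBy.orderOf_eq c h1).symm

theorem flip_pow {G : Type*} [Group G] {e y : G} (he : e * e = 1) (hy : e * y * e = y⁻¹) (n : ℕ) :
    e * y ^ n = (y ^ n)⁻¹ * e := by
  have hei : e⁻¹ = e := inv_eq_of_mul_eq_one_left he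
  have h1 : e * y ^ n * e⁻¹ = (e * y * e⁻¹) ^ n := (conj_pow).symm
  rw [hei, hy, inv_pow] at h1
  calc e * y ^ n = e * y ^ n * e * e := by rw [mul_assoc (e * y ^ n), he, mul_one]
    _ = (y ^ n)⁻¹ * e := by rw [h1]

theorem odd_sq_eq_one {G : Type*} [Group G] {s : G} (h1 : s * s = 1) (h2 : Odd (orderOf s)) : s = 1 := by
  have h3 : orderOf s ∣ 2 := orderOf_dvd_of_pow_eq_one (by rw [pow_two]; exact h1)
  have h4 : orderOf s = 1 := by
    rcases (Nat.dvd_prime Nat.prime_two).1 h3 with h | h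
    · exact h
    · rw [h] at h2; exact absurd h2 (by decide)
  exact orderOf_eq_one_iff.1 h4

theorem odd_inverter {G : Type*} [Group G] {g s : G} (hg : Odd (orderOf g)) (h : g * s * g⁻¹ = s⁻¹) :
    s * s = 1 := by
  obtain ⟨j, hj⟩ := hg
  have h2 : Commute (g ^ 2) s := by
    have : g ^ 2 * s * (g ^ 2)⁻¹ = s := by
      calc g ^ 2 * s * (g ^ 2)⁻¹ = g * (g * s * g⁻¹) * g⁻¹ := by rw [pow_two]; group
        _ = g * s⁻¹ * g⁻¹ := by rw [h]
        _ = (g * s * g⁻¹)⁻¹ := by group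
        _ = s := by rw [h, inv_inv]
    exact mul_inv_eq_iff_eq_mul.1 this
  have h3 : Commute (g ^ (2 * j)) s := by
    rw [pow_mul]; exact h2.pow_left j
  have h4 : g ^ (2 * j) * g = 1 := by
    rw [← pow_succ, ← hj]; exact pow_orderOf_eq_one g
  have h5 : g ^ (2 * j) = g⁻¹ := eq_inv_of_mul_eq_one_left h4
  rw [h5] at h3
  have h6 : Commute g s := by
    have := h3.inv_left
    rwa [inv_inv] at this
  have h7 : g * s * g⁻¹ = s := by rw [h6.eq]; group
  rw [h7] at h
  calc s * s = s * s⁻¹ := by rw [← h]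
    _ = 1 := mul_inv_cancel s

/-- Let G be a finite group, d an involution of G whose conjugates pairwise have products of odd order, and x any involution of G. Then the conjugacy class of d is the disjoint union, over the conjugates a of d commuting with x, of the sets of conjugates of d commuting with ax: every conjugate of d commutes with ax for exactly one conjugate a of d that commutes with x. -/
theorem result {G : Type*} [Group G] [Finite G] (d : G) (hd : orderOf d = 2)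
    (hodd : ∀ a ∈ conjugatesOf d, ∀ b ∈ conjugatesOf d, Odd (orderOf (a * b)))
    (x : G) (hx : orderOf x = 2) :
    ∀ e ∈ conjugatesOf d,
      ∃! a : G, a ∈ conjugatesOf d ∧ Commute a x ∧ Commute e (a * x) := by
  intro e he
  obtain ⟨hee, hei⟩ := inv_of_sq (show orderOf e = 2 by rw [conj_order he, hd])
  obtain ⟨hxx, hxi⟩ := inv_of_sq hx
  -- f = x e x⁻¹ is a conjugate of d
  have hf : x * e * x⁻¹ ∈ conjugatesOf d := by
    rw [mem_conj_iff] at he ⊢
    exact he.trans (isConj_iff.2 ⟨x, rfl⟩)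
  set y : G := e * x with hy
  have hyy : e * (x * e * x⁻¹) = y ^ 2 := by
    rw [hxi, pow_two, hy]; group
  have hoddy : Odd (orderOf (y ^ 2)) := by
    rw [← hyy]; exact hodd e he _ hf
  obtain ⟨k, hk⟩ := hoddy
  have hyinv : y⁻¹ = x * e := by rw [hy, mul_inv_rev, hxi, hei]
  have hey : e * y * e = y⁻¹ := by
    rw [hyinv, hy, ← mul_assoc, hee, one_mul]
  have hypow : y ^ (2 * k + 1) * y ^ (2 * k + 1) = 1 := by
    rw [← pow_add, show 2 * k + 1 + (2 * k + 1) = 2 * (2 * k + 1) by ring, pow_mul, ← hk]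
    exact pow_orderOf_eq_one _
  have hyinvpow : (y ^ (2 * k + 1))⁻¹ = y ^ (2 * k + 1) := inv_eq_of_mul_eq_one_left hypow
  have hfl := flip_pow hee hey
  have hax : y ^ k * e * (y ^ k)⁻¹ * x = y ^ (2 * k + 1) := by
    have h1 : e * (y ^ k)⁻¹ = y ^ k * e := by
      have := hfl k
      -- e * y^k = (y^k)⁻¹ * e  ⇒  e * (y^k)⁻¹ = y^k * e
      calc e * (y ^ k)⁻¹ = y ^ k * ((y ^ k)⁻¹ * e) * (y ^ k)⁻¹ := by group
        _ = y ^ k * (e * y ^ k) * (y ^ k)⁻¹ := by rw [this]
        _ = y ^ k * e := by group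
    calc y ^ k * e * (y ^ k)⁻¹ * x = y ^ k * (e * (y ^ k)⁻¹) * x := by group
      _ = y ^ k * (y ^ k * e) * x := by rw [h1]
      _ = y ^ k * y ^ k * (e * x) := by group
      _ = y ^ (2 * k + 1) := by rw [← hy, ← pow_add, ← pow_succ]; congr 1; ring
  have hxy : x * y ^ k = (y ^ k)⁻¹ * x := by
    have hxyx : x * y * x = y⁻¹ := by
      rw [hyinv, hy]; calc x * (e * x) * x = x * e * (x * x) := by group
        _ = x * e := by rw [hxx, mul_one]
    exact flip_pow hxx hxyx k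
  have hxa : x * (y ^ k * e * (y ^ k)⁻¹) = y ^ (2 * k + 1) := by
    calc x * (y ^ k * e * (y ^ k)⁻¹) = (x * y ^ k) * e * (y ^ k)⁻¹ := by group
      _ = (y ^ k)⁻¹ * x * e * (y ^ k)⁻¹ := by rw [hxy]
      _ = (y ^ k)⁻¹ * y⁻¹ * (y ^ k)⁻¹ := by rw [hyinv]; group
      _ = (y ^ (2 * k + 1))⁻¹ := by
          rw [show 2 * k + 1 = k + 1 + k by ring, pow_add, pow_succ]; group
      _ = y ^ (2 * k + 1) := hyinvpow
  refine ⟨y ^ k * e * (y ^ k)⁻¹, ⟨?_, ?_, ?_⟩, ?_⟩
  · rw [mem_conj_iff] at he ⊢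
    exact he.trans (isConj_iff.2 ⟨y ^ k, rfl⟩)
  · show y ^ k * e * (y ^ k)⁻¹ * x = x * (y ^ k * e * (y ^ k)⁻¹)
    rw [hax, hxa]
  · show e * (y ^ k * e * (y ^ k)⁻¹ * x) = y ^ k * e * (y ^ k)⁻¹ * x * e
    rw [hax, hfl (2 * k + 1), hyinvpow]
  · rintro a' ⟨ha', -, hc'⟩
    -- e commutes with a x and a' x hence with a * a'
    set a : G := y ^ k * e * (y ^ k)⁻¹ with ha
    have haD : a ∈ conjugatesOf d := by
      rw [mem_conj_iff] at he ⊢
      exact he.trans (isConj_iff.2 ⟨y ^ k, rfl⟩)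
    have hc : Commute e (a * x) := by
      show e * (a * x) = a * x * e
      rw [hax, hfl (2 * k + 1), hyinvpow]
    obtain ⟨haa, hai⟩ := inv_of_sq (show orderOf a = 2 by rw [conj_order haD, hd])
    obtain ⟨haa', hai'⟩ := inv_of_sq (show orderOf a' = 2 by rw [conj_order ha', hd])
    have h1 : Commute e (a' * x * (a * x)⁻¹) := hc'.mul_right hc.inv_right
    have h2 : a' * x * (a * x)⁻¹ = a' * a := by
      rw [mul_inv_rev, hai]; group
    rw [h2] at h1
    -- (e * a') inverts s = a' * a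
    have h3 : (e * a') * (a' * a) * (e * a')⁻¹ = (a' * a)⁻¹ := by
      have h4 : e * (a' * a) * e⁻¹ = a' * a := by rw [h1.eq]; group
      calc (e * a') * (a' * a) * (e * a')⁻¹ = e * (a' * a' * a * a'⁻¹) * e⁻¹ := by group
        _ = e * (a * a') * e⁻¹ := by rw [haa', one_mul, hai']
        _ = e * (a' * a)⁻¹ * e⁻¹ := by rw [mul_inv_rev, hai, hai']
        _ = (e * (a' * a) * e⁻¹)⁻¹ := by group
        _ = (a' * a)⁻¹ := by rw [h4]
    have h5 : (a' * a) * (a' * a) = 1 := odd_inverter (hodd e he a' ha') h3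
    have h6 : a' * a = 1 := odd_sq_eq_one h5 (hodd a' ha' a haD)
    calc a' = a' * (a * a) := by rw [haa, mul_one]
      _ = (a' * a) * a := by group
      _ = a := by rw [h6, one_mul]

end Cfsg.Agent.S5562
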