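import Cfsg.Statements.S5592
import Cfsg.Agent.Lib_helper27_Leech2

set_option autoImplicit false
open Cfsg

namespace Cfsg.Agent.S5592

open Cfsg.Agent.helper27

/-- In the Leech lattice (integer coordinates, sum of squares equal to 8 times the customary norm, so the shortest non-zero vectors have sum of squares 32): if two distinct vectors of sum of squares at most 64 are congruent modulo twice the lattice, then either they are negatives of each other, or both have sum of squares 64 and they are orthogonal. -/
theorem result (x y : Cfsg.GolayPt → ℤ) (hx : x ∈ Cfsg.leechLattice) (hy : y ∈ Cfsg.leechLattice) (hxy : x ≠ y) (hxn : Cfsg.sqNorm x ≤ 64) (hyn : Cfsg.sqNorm y ≤ 64) (hc : (∃ z ∈ Cfsg.leechLattice, x - y = 2 • z)) :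
    x = -y ∨ (Cfsg.sqNorm x = 64 ∧ Cfsg.sqNorm y = 64 ∧ Cfsg.dotInt x y = 0) := by
  by_cases h2 : x = -y
  · exact Or.inl h2
  right
  obtain ⟨z, hz, hvz⟩ := hc
  have hz0 : z ≠ 0 := by
    rintro rfl
    apply hxy
    have : x - y = 0 := by rw [hvz]; simp
    exact sub_eq_zero.mp this
  have hz' : z + y ∈ leechLattice := leechLattice.add_mem hz hy
  have hvz' : x + y = 2 • (z + y) := by
    have : x = 2 • z + y := by rw [← hvz]; abel
    rw [this]
    simp only [smul_add, two_smul]
    abel
  have hz0' : z + y ≠ 0 := by
    intro h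
    apply h2
    have : x + y = 0 := by rw [hvz', h]; simp
    exact eq_neg_of_add_eq_zero_left this
  have n1 := min_sqNorm_lattice hz hz0
  have n2 := min_sqNorm_lattice hz' hz0'
  have e1 : sqNorm (x - y) = 4 * sqNorm z := by rw [hvz, sqNorm_two_smul]
  have e2 : sqNorm (x + y) = 4 * sqNorm (z + y) := by rw [hvz', sqNorm_two_smul]
  have e3 := sqNorm_parallelogram x y
  have e4 : sqNorm (x + y) - sqNorm (x - y) = 4 * dotInt x y := by
    unfold sqNorm dotInt
    rw [Finset.mul_sum, ← Finset.sum_sub_distrib]
    refine Finset.sum_congr rfl (fun i _ => ?_)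
    simp only [Pi.sub_apply, Pi.add_apply]
    ring
  refine ⟨by omega, by omega, by omega⟩

end Cfsg.Agent.S5592
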