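import Cfsg.Statements.S5596
import Cfsg.Agent.Lib_helper28_LargeES

set_option autoImplicit false
open Cfsg

namespace Cfsg.Agent.S5596

open Cfsg.Agent.helper28.LargeES
open scoped commutatorElement

/-- Setting: `z` is an involution of the finite group `G`; for each element `x`, `Q x` is the largest normal 2-subgroup of the centralizer of `x`; `Q z` is extraspecial and contains its own centralizer in `G`. A subgroup `U` is singular when it is elementary abelian, every non-identity element of `U` is conjugate to `z`, and any two non-identity elements `u`, `v` of `U` are orthogonal (`v ∈ Q u`). Write `QU` for the intersection of the `Q u` and `LU` for the join of the `Q u` over the non-identity `u` in `U`. If `U` is singular of order `2 ^ n` with `n ≥ 2`, then `U ≤ QU ≤ LU`, `LU` normalizes `U`, and `LU` induces on `U` its full automorphism group (the general linear group of dimension `n` over the field with two elements): every automorphism of `U` is conjugation by some element of `LU`. -/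
theorem result {G : Type*} [Group G] [Finite G]
    (Q : G → Subgroup G)
    (hQ : ∀ x : G, Q x = (Cfsg.pCore 2 ↥(Subgroup.centralizer ({x} : Set G))).map (Subgroup.centralizer ({x} : Set G)).subtype)
    (z : G) (hz : orderOf z = 2) (hE : Cfsg.IsExtraspecial 2 ↥(Q z))
    (hC : Subgroup.centralizer ((Q z : Subgroup G) : Set G) ≤ Q z)
    (U : Subgroup G) (hU2 : ∀ u ∈ U, u * u = 1)
    (hS : ∀ u ∈ U, u ≠ 1 → ∃ g : G, g * z * g⁻¹ = u)
    (hO : ∀ u ∈ U, ∀ v ∈ U, u ≠ 1 → v ≠ 1 → v ∈ Q u)
    (QU LU : Subgroup G) (hQU : QU = ⨅ u ∈ ((U : Set G) \ {1}), Q u) (hLU : LU = ⨆ u ∈ ((U : Set G) \ {1}), Q u)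
    (n : ℕ) (hn : 2 ≤ n) (hcard : Nat.card ↥U = 2 ^ n) :
    U ≤ QU ∧ QU ≤ LU ∧ LU ≤ Subgroup.normalizer (U : Set G) ∧
      ∀ φ : ↥U ≃* ↥U, ∃ g ∈ LU, ∀ u : ↥U, g * (u : G) * g⁻¹ = ((φ u : ↥U) : G) := by
  have hQ' : Q = Qof := funext hQ
  subst hQ'
  have hES := ES_of_hyp hz hE hC
  have hESu : ∀ u ∈ U, u ≠ 1 → ES (Qof u) u := by
    intro u hu hu1
    obtain ⟨g, rfl⟩ := hS u hu hu1
    exact ES.conj Qof_conj hES g
  have hUQ : ∀ u ∈ U, u ≠ 1 → ∀ v ∈ U, v ∈ Qof u := by
    intro u hu hu1 v hv
    by_cases hv1 : v = 1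
    · rw [hv1]; exact Subgroup.one_mem _
    · exact hO u hu v hv hu1 hv1
  have hQUle : ∀ u ∈ U, u ≠ 1 → QU ≤ Qof u := by
    intro u hu hu1
    rw [hQU]; exact iInf₂_le u ⟨hu, hu1⟩
  have hLUge : ∀ u ∈ U, u ≠ 1 → Qof u ≤ LU := by
    intro u hu hu1
    rw [hLU]
    exact le_iSup₂ (f := fun u (_ : u ∈ ((U : Set G) \ {1})) => Qof u) u ⟨hu, hu1⟩
  have step : ∀ u ∈ U, u ≠ 1 → ∀ g ∈ Qof u, (∀ v ∈ U, g * v * g⁻¹ ∈ U) := by
    intro u hu hu1 g hg
    have hE' := hESu u hu hu1
    intro v hv
    rcases hE'.cj_cases hg (hUQ u hu hu1 v hv) with e | e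
    · rw [e]; exact hv
    · rw [e]; exact U.mul_mem hu hv
  have hLUall : ∀ g ∈ LU, (∀ v ∈ U, g * v * g⁻¹ ∈ U) := by
    intro g hg
    rw [hLU] at hg
    refine Subgroup.iSup_induction (fun u => ⨆ (_ : u ∈ ((U : Set G) \ {1})), Qof u)
      (C := fun g => (∀ v ∈ U, g * v * g⁻¹ ∈ U)) hg ?_ ?_ ?_
    · intro u g hg
      by_cases hu : u ∈ ((U : Set G) \ {1})
      · rw [iSup_pos hu] at hg
        exact step u hu.1 (fun e => hu.2 e) g hg
      · rw [iSup_neg hu, Subgroup.mem_bot] at hg
        subst hg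
        intro v hv; simpa using hv
    · intro v hv; simpa using hv
    · intro g1 g2 h1 h2 v hv
      have e : g1 * g2 * v * (g1 * g2)⁻¹ = g1 * (g2 * v * g2⁻¹) * g1⁻¹ := by group
      rw [e]
      exact h1 _ (h2 v hv)
  -- a non-identity element of U
  have hex : ∃ u0 ∈ U, u0 ≠ 1 := by
    have h1 : 1 < Nat.card ↥U := by
      rw [hcard]
      calc 1 < 2 ^ 2 := by norm_num
        _ ≤ 2 ^ n := Nat.pow_le_pow_right (by norm_num) hn
    rw [Finite.one_lt_card_iff_nontrivial] at h1
    obtain ⟨y, hy⟩ := exists_ne (1 : ↥U)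
    exact ⟨y, y.2, fun e => hy (Subtype.ext e)⟩
  obtain ⟨u0, hu0, hu01⟩ := hex
  -- U is abelian
  have hUinv : ∀ a ∈ U, a⁻¹ = a := fun a ha => inv_eq_of_mul_eq_one_left (hU2 a ha)
  have hUc : ∀ a ∈ U, ∀ b ∈ U, a * b = b * a := by
    intro a ha b hb
    have h1 := hU2 (a * b) (U.mul_mem ha hb)
    calc a * b = (a * b)⁻¹ := (hUinv _ (U.mul_mem ha hb)).symm
      _ = b⁻¹ * a⁻¹ := by group
      _ = b * a := by rw [hUinv a ha, hUinv b hb]
  refine ⟨?_, ?_, ?_, ?_⟩
  · intro v hv
    rw [hQU]
    simp only [Subgroup.mem_iInf]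
    intro u hu
    exact hUQ u hu.1 (fun e => hu.2 e) v hv
  · exact (hQUle u0 hu0 hu01).trans (hLUge u0 hu0 hu01)
  · intro g hg
    rw [Subgroup.mem_normalizer_iff]
    intro v
    constructor
    · exact hLUall g hg v
    · intro hv
      have := hLUall g⁻¹ (LU.inv_mem hg) _ hv
      have e : g⁻¹ * (g * v * g⁻¹) * g⁻¹⁻¹ = v := by group
      rwa [e] at this
  · -- automorphisms
    have key : ∀ k : ℕ, ∀ f : G → G, (∀ u ∈ U, f u ∈ U) →
        (∀ u ∈ U, ∀ v ∈ U, f (u * v) = f u * f v) →
        (∀ u ∈ U, ∀ v ∈ U, f u = f v → u = v) →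
        {y | y ∈ U ∧ f y ≠ y}.ncard ≤ k → ∃ g ∈ LU, ∀ u ∈ U, g * u * g⁻¹ = f u := by
      intro k
      induction k with
      | zero =>
        intro f _ _ _ hk
        have hfin : {y | y ∈ U ∧ f y ≠ y}.Finite := Set.toFinite _
        have hempty : {y | y ∈ U ∧ f y ≠ y} = ∅ := by
          rw [← Set.ncard_eq_zero hfin]; omega
        refine ⟨1, LU.one_mem, ?_⟩
        intro u hu
        by_contra hne
        have : u ∈ {y | y ∈ U ∧ f y ≠ y} := ⟨hu, fun e => hne (by rw [e]; simp)⟩
        rw [hempty] at this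
        exact this
      | succ k ih =>
        intro f hfU hfmul hfinj hk
        by_cases hall : ∀ u ∈ U, f u = u
        · refine ⟨1, LU.one_mem, ?_⟩
          intro u hu
          rw [hall u hu]; simp
        push Not at hall
        obtain ⟨v, hv, hfv⟩ := hall
        have hwU : f v ∈ U := hfU v hv
        have hdU : v * f v ∈ U := U.mul_mem hv hwU
        have hd1 : v * f v ≠ 1 := by
          intro e
          apply hfv
          calc f v = v⁻¹ * (v * f v) := by group
            _ = v := by rw [e, mul_one, hUinv v hv]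
        have hE' := hESu _ hdU hd1
        have hf1 : f 1 = 1 := by
          have := hfmul 1 U.one_mem 1 U.one_mem
          rw [mul_one] at this
          calc f 1 = (f 1 * f 1) * (f 1)⁻¹ := by group
            _ = 1 := by rw [← this, mul_inv_cancel]
        -- the subgroup F ∪ F d
        let W' : Subgroup G :=
          { carrier := {y | y ∈ U ∧ (f y = y ∨ f (y * (v * f v)) = y * (v * f v))}
            one_mem' := ⟨U.one_mem, Or.inl hf1⟩
            mul_mem' := by
              rintro y1 y2 ⟨h1, c1⟩ ⟨h2, c2⟩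
              refine ⟨U.mul_mem h1 h2, ?_⟩
              rcases c1 with c1 | c1 <;> rcases c2 with c2 | c2
              · left; rw [hfmul y1 h1 y2 h2, c1, c2]
              · right
                rw [mul_assoc, hfmul y1 h1 _ (U.mul_mem h2 hdU), c1, c2]
              · right
                have e : y1 * y2 * (v * f v) = (y1 * (v * f v)) * y2 := by
                  rw [mul_assoc, hUc y2 h2 _ hdU, ← mul_assoc]
                rw [e, hfmul _ (U.mul_mem h1 hdU) y2 h2, c1, c2]
              · left
                have e : y1 * y2 = (y1 * (v * f v)) * (y2 * (v * f v)) := by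
                  rw [mul_assoc, hUc y2 h2 _ hdU, ← mul_assoc (v * f v) (v * f v) y2,
                    hU2 _ hdU, one_mul]
                rw [e, hfmul _ (U.mul_mem h1 hdU) _ (U.mul_mem h2 hdU), c1, c2]
            inv_mem' := by
              rintro y ⟨h1, c1⟩
              rw [hUinv y h1]
              exact ⟨h1, c1⟩ }
        have hfinF : {y | y ∈ U ∧ f y = y}.Finite := Set.toFinite _
        have hs : ∀ y ∈ hfinF.toFinset, y ∈ Qof (v * f v) := by
          intro y hy
          rw [Set.Finite.mem_toFinset] at hy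
          exact hUQ _ hdU hd1 y hy.1
        have hwn : f v ∉ Subgroup.closure (insert (v * f v) (hfinF.toFinset : Set G)) := by
          intro hm
          have hle : Subgroup.closure (insert (v * f v) (hfinF.toFinset : Set G)) ≤ W' := by
            rw [Subgroup.closure_le]
            intro y hy
            rcases hy with rfl | hy
            · refine ⟨hdU, Or.inr ?_⟩
              rw [hU2 _ hdU, hf1]
            · rw [Finset.mem_coe, Set.Finite.mem_toFinset] at hy
              exact ⟨hy.1, Or.inl hy.2⟩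
          obtain ⟨-, c⟩ := hle hm
          rcases c with c | c
          · exact hfv (hfinj _ hwU _ hv c)
          · have e : f v * (v * f v) = v := by
              rw [hUc v hv _ hwU, ← mul_assoc, hU2 _ hwU, one_mul]
            rw [e] at c
            exact hfv c
        obtain ⟨g1, hg1, hg1s, hg1w⟩ := hE'.perp hfinF.toFinset hs (f v) (hUQ _ hdU hd1 _ hwU) hwn
        have hg1LU : g1 ∈ LU := hLUge _ hdU hd1 hg1
        have hg1v : g1 * f v * g1⁻¹ = v := by
          rw [conj_eq, hg1w, mul_assoc, hU2 _ hwU, mul_one]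
        have hsub : {y | y ∈ U ∧ g1 * f y * g1⁻¹ ≠ y} ⊂ {y | y ∈ U ∧ f y ≠ y} := by
          constructor
          · rintro y ⟨hy, hne⟩
            refine ⟨hy, ?_⟩
            intro e
            apply hne
            have hys : y ∈ hfinF.toFinset := (Set.Finite.mem_toFinset hfinF).2 ⟨hy, e⟩
            rw [e, hg1s y hys, mul_inv_cancel_right]
          · intro hsup
            have := hsup (show v ∈ {y | y ∈ U ∧ f y ≠ y} from ⟨hv, hfv⟩)
            exact this.2 hg1v
        have hlt := Set.ncard_lt_ncard hsub (Set.toFinite _)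
        obtain ⟨g', hg', hg'u⟩ := ih (fun y => g1 * f y * g1⁻¹)
          (fun u hu => hLUall g1 hg1LU _ (hfU u hu))
          (fun u hu v' hv' => by
            show g1 * f (u * v') * g1⁻¹ = g1 * f u * g1⁻¹ * (g1 * f v' * g1⁻¹)
            rw [hfmul u hu v' hv']; group)
          (fun u hu v' hv' e => by
            apply hfinj u hu v' hv'
            have e' : g1 * f u * g1⁻¹ = g1 * f v' * g1⁻¹ := e
            calc f u = g1⁻¹ * (g1 * f u * g1⁻¹) * g1 := by group
              _ = g1⁻¹ * (g1 * f v' * g1⁻¹) * g1 := by rw [e']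
              _ = f v' := by group)
          (by omega)
        refine ⟨g1⁻¹ * g', LU.mul_mem (LU.inv_mem hg1LU) hg', ?_⟩
        intro u hu
        have := hg'u u hu
        calc g1⁻¹ * g' * u * (g1⁻¹ * g')⁻¹ = g1⁻¹ * (g' * u * g'⁻¹) * g1 := by group
          _ = g1⁻¹ * (g1 * f u * g1⁻¹) * g1 := by rw [this]
          _ = f u := by group
    intro φ
    classical
    obtain ⟨g, hg, hgu⟩ := key _ (fun y => if hy : y ∈ U then ((φ ⟨y, hy⟩ : ↥U) : G) else 1)
      (fun u hu => by simp only [dif_pos hu]; exact (φ ⟨u, hu⟩).2)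
      (fun u hu v hv => by
        simp only [dif_pos hu, dif_pos hv, dif_pos (U.mul_mem hu hv)]
        have : (⟨u * v, U.mul_mem hu hv⟩ : ↥U) = ⟨u, hu⟩ * ⟨v, hv⟩ := rfl
        rw [this, map_mul]; rfl)
      (fun u hu v hv e => by
        simp only [dif_pos hu, dif_pos hv] at e
        have := φ.injective (Subtype.ext e)
        exact congrArg Subtype.val this)
      (le_refl _)
    refine ⟨g, hg, ?_⟩
    intro u
    rw [hgu u u.2]
    simp only [dif_pos u.2]

end Cfsg.Agent.S5596
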