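import Cfsg.Statements.S5597
import Cfsg.Agent.Lib_helper28_LargeES

set_option autoImplicit false
open Cfsg

namespace Cfsg.Agent.S5597

open Cfsg.Agent.helper28.LargeES
open scoped commutatorElement

/-- Setting: `z` is an involution of the finite group `G`; for each element `x`, `Q x` is the largest normal 2-subgroup of the centralizer of `x`; `Q z` is extraspecial and contains its own centralizer in `G`. A subgroup `U` is singular when it is elementary abelian, every non-identity element of `U` is conjugate to `z`, and any two non-identity elements `u`, `v` of `U` are orthogonal (`v ∈ Q u`). Write `QU` for the intersection of the `Q u` and `LU` for the join of the `Q u` over the non-identity `u` in `U`. If `U` is a non-trivial singular subgroup, then `LU` acts trivially on `QU / U` (every commutator of an element of `LU` with an element of `QU` lies in `U`), and for every `x` in `QU` outside `U` the centralizer of `U` in `LU` permutes the coset `x U` transitively: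 each `x u` with `u ∈ U` is a conjugate of `x` by an element of `LU` centralizing `U`. -/
theorem result {G : Type*} [Group G] [Finite G]
    (Q : G → Subgroup G)
    (hQ : ∀ x : G, Q x = (Cfsg.pCore 2 ↥(Subgroup.centralizer ({x} : Set G))).map (Subgroup.centralizer ({x} : Set G)).subtype)
    (z : G) (hz : orderOf z = 2) (hE : Cfsg.IsExtraspecial 2 ↥(Q z))
    (hC : Subgroup.centralizer ((Q z : Subgroup G) : Set G) ≤ Q z)
    (U : Subgroup G) (hU2 : ∀ u ∈ U, u * u = 1)
    (hS : ∀ u ∈ U, u ≠ 1 → ∃ g : G, g * z * g⁻¹ = u)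
    (hO : ∀ u ∈ U, ∀ v ∈ U, u ≠ 1 → v ≠ 1 → v ∈ Q u)
    (QU LU : Subgroup G) (hQU : QU = ⨅ u ∈ ((U : Set G) \ {1}), Q u) (hLU : LU = ⨆ u ∈ ((U : Set G) \ {1}), Q u)
    (hU : U ≠ ⊥) :
    (∀ g ∈ LU, ∀ x ∈ QU, g * x * g⁻¹ * x⁻¹ ∈ U) ∧
      ∀ x ∈ QU, x ∉ U → ∀ u ∈ U, ∃ g ∈ LU ⊓ Subgroup.centralizer (U : Set G), g * x * g⁻¹ = x * u := by
  have hQ' : Q = Qof := funext hQ
  subst hQ'
  have hES := ES_of_hyp hz hE hC
  have hESu : ∀ u ∈ U, u ≠ 1 → ES (Qof u) u := by
    intro u hu hu1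
    obtain ⟨g, rfl⟩ := hS u hu hu1
    exact ES.conj Qof_conj hES g
  have hUQ : ∀ u ∈ U, u ≠ 1 → ∀ v ∈ U, v ∈ Qof u := by
    intro u hu hu1 v hv
    by_cases hv1 : v = 1
    · rw [hv1]; exact Subgroup.one_mem _
    · exact hO u hu v hv hu1 hv1
  have hQUle : ∀ u ∈ U, u ≠ 1 → QU ≤ Qof u := by
    intro u hu hu1
    rw [hQU]; exact iInf₂_le u ⟨hu, hu1⟩
  have hLUge : ∀ u ∈ U, u ≠ 1 → Qof u ≤ LU := by
    intro u hu hu1
    rw [hLU]
    exact le_iSup₂ (f := fun u (_ : u ∈ ((U : Set G) \ {1})) => Qof u) u ⟨hu, hu1⟩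
  have step : ∀ u ∈ U, u ≠ 1 → ∀ g ∈ Qof u,
      (∀ v ∈ U, g * v * g⁻¹ ∈ U) ∧ ∀ x ∈ QU, g * x * g⁻¹ * x⁻¹ ∈ U := by
    intro u hu hu1 g hg
    have hE' := hESu u hu hu1
    constructor
    · intro v hv
      rcases hE'.cj_cases hg (hUQ u hu hu1 v hv) with e | e
      · rw [e]; exact hv
      · rw [e]; exact U.mul_mem hu hv
    · intro x hx
      have e0 : g * x * g⁻¹ * x⁻¹ = ⁅g, x⁆ := (commutatorElement_def g x).symm
      rw [e0]
      rcases hE'.comm g hg x (hQUle u hu hu1 hx) with e | e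
      · rw [e]; exact U.one_mem
      · rw [e]; exact hu
  have hLUall : ∀ g ∈ LU, (∀ v ∈ U, g * v * g⁻¹ ∈ U) ∧ ∀ x ∈ QU, g * x * g⁻¹ * x⁻¹ ∈ U := by
    intro g hg
    rw [hLU] at hg
    refine Subgroup.iSup_induction (fun u => ⨆ (_ : u ∈ ((U : Set G) \ {1})), Qof u)
      (C := fun g => (∀ v ∈ U, g * v * g⁻¹ ∈ U) ∧ ∀ x ∈ QU, g * x * g⁻¹ * x⁻¹ ∈ U) hg ?_ ?_ ?_
    · intro u g hg
      by_cases hu : u ∈ ((U : Set G) \ {1})
      · rw [iSup_pos hu] at hg
        exact step u hu.1 (fun e => hu.2 e) g hg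
      · rw [iSup_neg hu, Subgroup.mem_bot] at hg
        subst hg
        constructor
        · intro v hv; simpa using hv
        · intro x _; simp
    · constructor
      · intro v hv; simpa using hv
      · intro x _; simp
    · intro g1 g2 h1 h2
      constructor
      · intro v hv
        have e : g1 * g2 * v * (g1 * g2)⁻¹ = g1 * (g2 * v * g2⁻¹) * g1⁻¹ := by group
        rw [e]
        exact h1.1 _ (h2.1 v hv)
      · intro x hx
        have e : g1 * g2 * x * (g1 * g2)⁻¹ * x⁻¹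
            = g1 * (g2 * x * g2⁻¹ * x⁻¹) * g1⁻¹ * (g1 * x * g1⁻¹ * x⁻¹) := by group
        rw [e]
        exact U.mul_mem (h1.1 _ (h2.2 x hx)) (h1.2 x hx)
  refine ⟨fun g hg x hx => (hLUall g hg).2 x hx, ?_⟩
  intro x hx hxU u hu
  by_cases hu1 : u = 1
  · refine ⟨1, Subgroup.one_mem _, ?_⟩
    rw [hu1]; simp
  · have hE' := hESu u hu hu1
    classical
    have hfin : (U : Set G).Finite := Set.toFinite _
    have hs : ∀ w ∈ hfin.toFinset, w ∈ Qof u := by
      intro w hw
      rw [Set.Finite.mem_toFinset] at hw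
      exact hUQ u hu hu1 w hw
    have hcl : Subgroup.closure (insert u (hfin.toFinset : Set G)) = U := by
      have e : insert u (hfin.toFinset : Set G) = (U : Set G) := by
        rw [Set.Finite.coe_toFinset]
        exact Set.insert_eq_of_mem hu
      rw [e, Subgroup.closure_eq]
    have hxQ : x ∈ Qof u := hQUle u hu hu1 hx
    obtain ⟨g, hg, hgs, hgx⟩ := hE'.perp hfin.toFinset hs x hxQ (by rw [hcl]; exact hxU)
    refine ⟨g, Subgroup.mem_inf.2 ⟨hLUge u hu hu1 hg, ?_⟩, ?_⟩
    · rw [Subgroup.mem_centralizer_iff]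
      intro w hw
      exact (hgs w ((Set.Finite.mem_toFinset hfin).2 hw)).symm
    · rw [conj_eq, hgx]
      exact (hE'.central x hxQ).symm

end Cfsg.Agent.S5597
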