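import Cfsg.Statements.S5598
import Cfsg.Agent.Lib_helper28_LargeES

set_option autoImplicit false
open Cfsg

namespace Cfsg.Agent.S5598

open Cfsg.Agent.helper28.LargeES

/-- Setting: `z` is an involution of the finite group `G`; for each element `x`, `Q x` is the largest normal 2-subgroup of the centralizer of `x`; `Q z` is extraspecial and contains its own centralizer in `G`. A subgroup `U` is singular when it is elementary abelian, every non-identity element of `U` is conjugate to `z`, and any two non-identity elements `u`, `v` of `U` are orthogonal (`v ∈ Q u`). Write `QU` for the intersection of the `Q u` and `LU` for the join of the `Q u` over the non-identity `u` in `U`. If the singular subgroup `U` is generated by a set `T` of non-identity elements, then `QU` is already the intersection of the `Q t` over `t ∈ T`. -/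
theorem result {G : Type*} [Group G] [Finite G]
    (Q : G → Subgroup G)
    (hQ : ∀ x : G, Q x = (Cfsg.pCore 2 ↥(Subgroup.centralizer ({x} : Set G))).map (Subgroup.centralizer ({x} : Set G)).subtype)
    (z : G) (hz : orderOf z = 2) (hE : Cfsg.IsExtraspecial 2 ↥(Q z))
    (hC : Subgroup.centralizer ((Q z : Subgroup G) : Set G) ≤ Q z)
    (U : Subgroup G) (hU2 : ∀ u ∈ U, u * u = 1)
    (hS : ∀ u ∈ U, u ≠ 1 → ∃ g : G, g * z * g⁻¹ = u)
    (hO : ∀ u ∈ U, ∀ v ∈ U, u ≠ 1 → v ≠ 1 → v ∈ Q u)
    (QU LU : Subgroup G) (hQU : QU = ⨅ u ∈ ((U : Set G) \ {1}), Q u) (hLU : LU = ⨆ u ∈ ((U : Set G) \ {1}), Q u)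
    (T : Set G) (hT : Subgroup.closure T = U) (hT1 : (1 : G) ∉ T) :
    QU = ⨅ t ∈ T, Q t := by
  have hQ' : Q = Qof := funext hQ
  subst hQ'
  have hES := ES_of_hyp hz hE hC
  have hESu : ∀ u ∈ U, u ≠ 1 → ES (Qof u) u := by
    intro u hu hu1
    obtain ⟨g, rfl⟩ := hS u hu hu1
    exact ES.conj Qof_conj hES g
  rw [hQU]
  apply le_antisymm
  · apply le_iInf₂
    intro t ht
    have htU : t ∈ U := by rw [← hT]; exact Subgroup.subset_closure ht
    have ht1 : t ≠ 1 := fun e => hT1 (e ▸ ht)
    exact iInf₂_le t ⟨htU, ht1⟩
  · apply le_iInf₂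
    intro u hu
    obtain ⟨huU, hu1⟩ := hu
    have hu1' : u ≠ 1 := hu1
    have key : ∀ w (hw : w ∈ Subgroup.closure T), w = 1 ∨ (⨅ t ∈ T, Qof t) ≤ Qof w := by
      intro w hw
      induction hw using Subgroup.closure_induction with
      | mem t ht => right; exact iInf₂_le t ht
      | one => left; rfl
      | mul a b ha hb iha ihb =>
        rw [hT] at ha hb
        by_cases ea : a = 1
        · rw [ea, one_mul]; exact ihb
        by_cases eb : b = 1
        · rw [eb, mul_one]; exact iha
        by_cases hab : a * b = 1
        · exact Or.inl hab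
        right
        have iha' := iha.resolve_left ea
        have ihb' := ihb.resolve_left eb
        have hne : a ≠ b := by
          intro e; apply hab; rw [e]; exact hU2 b hb
        intro y hy
        exact inter_le Qof_conj (hESu a ha ea) (hESu b hb eb) (hO b hb a ha eb ea)
          (hO a ha b hb ea eb) hne (iha' hy) (ihb' hy)
      | inv a ha iha =>
        rw [hT] at ha
        have : a⁻¹ = a := inv_eq_of_mul_eq_one_left (hU2 a ha)
        rw [this]; exact iha
    have huc : u ∈ Subgroup.closure T := by rw [hT]; exact huU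
    rcases key u huc with e | e
    · exact absurd e hu1'
    · exact e

end Cfsg.Agent.S5598
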