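import Mathlib
import Cfsg.Statements.S5600
import Cfsg.Agent.Lib_helper2_M24m

set_option autoImplicit false
open scoped Pointwise
open Cfsg

namespace Cfsg.Agent.S5600

open Cfsg.Agent.helper2

open Cfsg.Agent.helper2.Golay Cfsg.Agent.helper27

set_option synthInstance.maxSize 2000 in
set_option synthInstance.maxHeartbeats 200000 in
theorem H_orbits : ∀ a < 24, ∀ b < 24, (∀ j < 5, a ≠ bs j) → (∀ j < 5, b ≠ bs j) →
    (cw 47).testBit a = (cw 47).testBit b → ∃ k < 48, tb (hsD k).1 a = b := by decide +kernel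

theorem H_stab_count : ∀ a < 24, (∀ j < 5, a ≠ bs j) →
    (Finset.univ.filter (fun k : Fin 48 => tb (hsD k.val).1 a = a)).card
      = if (cw 47).testBit a = true then 16 else 3 := by decide +kernel

theorem eq_o0_of_base {o : Finset GolayPt} (ho : o ∈ octads) (h : ∀ j < 5, pt (bs j) ∈ o) :
    o = pts (cw 47) := by
  have hSt := octads_steiner
  have hs : (Finset.univ.map x0).card = 5 := by
    rw [Finset.card_map, Finset.card_univ, Fintype.card_fin]
  obtain ⟨b, _, huniq⟩ := hSt.2 _ hs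
  have h1 : o = b := by
    apply huniq
    refine ⟨ho, ?_⟩
    intro p hp
    rw [Finset.mem_map] at hp
    obtain ⟨i, _, rfl⟩ := hp
    rw [x0_apply]
    exact h i.val i.2
  have h2 : pts (cw 47) = b := by
    apply huniq
    refine ⟨o0_mem, ?_⟩
    intro p hp
    rw [Finset.mem_map] at hp
    obtain ⟨i, _, rfl⟩ := hp
    rw [x0_apply]
    exact bs_mem_o0 i.val i.2
  rw [h1, h2]

/-- Normal form of an ordered 6-set. -/
structure Norm (y : Fin 6 ↪ GolayPt) (g : Equiv.Perm GolayPt) (a : ℕ) : Prop where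
  mem : g ∈ M24
  lt : a < 24
  nb : ∀ j < 5, a ≠ bs j
  base : ∀ i : Fin 5, g (y i.castSucc) = pt (bs i.val)
  last : g (y (Fin.last 5)) = pt a

theorem normalize (y : Fin 6 ↪ GolayPt) : ∃ g a, Norm y g a := by
  obtain ⟨g, hg, hgx⟩ := exists_map_to_base (Fin.castSuccEmb.trans y) 5 le_rfl
  refine ⟨g, idx (g (y (Fin.last 5))), hg, idx_lt _, ?_, fun i => hgx i i.2, (pt_idx _).symm⟩
  intro j hj hcon
  have h1 : g (y (Fin.last 5)) = pt (bs j) := by rw [← hcon, pt_idx]
  have h2 := hgx ⟨j, hj⟩ hj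
  have h3 : y (Fin.last 5) = y (Fin.castSucc ⟨j, hj⟩) := g.injective (h1.trans h2.symm)
  have h4 := y.injective h3
  exact absurd h4 (Fin.castSucc_lt_last _).ne'

theorem all_fin6 {P : Fin 6 → Prop} (h5 : ∀ i : Fin 5, P i.castSucc) (hl : P (Fin.last 5)) :
    ∀ i, P i := by
  intro i
  refine Fin.lastCases hl h5 i

theorem in_octad_iff {y : Fin 6 ↪ GolayPt} {g : Equiv.Perm GolayPt} {a : ℕ} (h : Norm y g a) :
    (∃ o ∈ octads, ∀ i, y i ∈ o) ↔ (cw 47).testBit a = true := by
  constructor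
  · rintro ⟨o, ho, hy⟩
    have h1 : g • o = pts (cw 47) := by
      apply eq_o0_of_base (smul_mem_octads' h.mem ho)
      intro j hj
      rw [← h.base ⟨j, hj⟩, perm_mem_smul_iff]
      exact hy _
    rw [← mem_pts_pt h.lt, ← h1, ← h.last, perm_mem_smul_iff]
    exact hy _
  · intro ha
    refine ⟨g⁻¹ • pts (cw 47), smul_mem_octads' (Subgroup.inv_mem _ h.mem) o0_mem, ?_⟩
    apply all_fin6
    · intro i
      rw [← perm_mem_smul_iff g, smul_inv_smul, h.base]
      exact bs_mem_o0 i.val i.2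
    · rw [← perm_mem_smul_iff g, smul_inv_smul, h.last, mem_pts_pt h.lt]
      exact ha

/-- An ordering of a 6-set. -/
noncomputable def ordering (E : Finset GolayPt) (hE : E.card = 6) : Fin 6 ↪ GolayPt :=
  (E.equivFinOfCardEq hE).symm.toEmbedding.trans (Function.Embedding.subtype _)

theorem ordering_mem (E : Finset GolayPt) (hE : E.card = 6) (i : Fin 6) :
    ordering E hE i ∈ E := ((E.equivFinOfCardEq hE).symm i).2

theorem exists_ordering (E : Finset GolayPt) (hE : E.card = 6) {p : GolayPt} (hp : p ∈ E) :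
    ∃ i, ordering E hE i = p :=
  ⟨E.equivFinOfCardEq hE ⟨p, hp⟩, by
    show (((E.equivFinOfCardEq hE).symm (E.equivFinOfCardEq hE ⟨p, hp⟩) : ↥E) : GolayPt) = p
    rw [Equiv.symm_apply_apply]⟩

theorem octad_iff_ordering (E : Finset GolayPt) (hE : E.card = 6) :
    (∃ o ∈ octads, E ⊆ o) ↔ ∃ o ∈ octads, ∀ i, ordering E hE i ∈ o := by
  constructor
  · rintro ⟨o, ho, hEo⟩
    exact ⟨o, ho, fun i => hEo (ordering_mem E hE i)⟩
  · rintro ⟨o, ho, hy⟩
    refine ⟨o, ho, fun p hp => ?_⟩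
    obtain ⟨i, rfl⟩ := exists_ordering E hE hp
    exact hy i

theorem hperm_lt' {k : ℕ} (hk : k < 48) : ∀ i < 24, tb (hsD k).1 i < 24 :=
  fun i hi => (tablesOK_spec (hs_tables hk) i hi).1

theorem hperm_pt {k : ℕ} (hk : k < 48) {a : ℕ} (ha : a < 24) :
    hperm k (pt a) = pt (tb (hsD k).1 a) := by
  rw [hperm_apply hk, idx_pt a ha]

theorem pt_inj {a b : ℕ} (ha : a < 24) (hb : b < 24) (h : pt a = pt b) : a = b := by
  have := congrArg idx h
  rwa [idx_pt a ha, idx_pt b hb] at this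

/-- The pointwise stabiliser of a normalised 6-set. -/
theorem card_fix {E : Finset GolayPt} (hE : E.card = 6) {g : Equiv.Perm GolayPt} {a : ℕ}
    (h : Norm (ordering E hE) g a) :
    Nat.card {t : Equiv.Perm GolayPt // t ∈ M24 ∧ ∀ p ∈ E, t p = p}
      = (Finset.univ.filter (fun k : Fin 48 => tb (hsD k.val).1 a = a)).card := by
  rw [← Fintype.card_subtype, ← Nat.card_eq_fintype_card]
  symm
  apply Nat.card_congr
  refine Equiv.ofBijective (fun k => ⟨g⁻¹ * hperm k.1.val * g, ?_, ?_⟩) ⟨?_, ?_⟩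
  · exact Subgroup.mul_mem _ (Subgroup.mul_mem _ (Subgroup.inv_mem _ h.mem)
      (hperm_mem k.1.2)) h.mem
  · intro p hp
    obtain ⟨i, rfl⟩ := exists_ordering E hE hp
    rw [Equiv.Perm.mul_apply, Equiv.Perm.mul_apply, Equiv.Perm.inv_eq_iff_eq]
    clear hp
    revert i
    apply all_fin6
    · intro i
      rw [h.base]
      exact hperm_fix k.1.2 i.val i.2
    · rw [h.last, hperm_pt k.1.2 h.lt, k.2]
  · intro k k' hkk
    have h1 : g⁻¹ * hperm k.1.val * g = g⁻¹ * hperm k'.1.val * g := congrArg Subtype.val hkk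
    have h2 : hperm k.1.val = hperm k'.1.val := by
      have := congrArg (fun t => g * t * g⁻¹) h1
      simpa [mul_assoc] using this
    exact Subtype.ext (Fin.ext (hperm_inj _ k.1.2 _ k'.1.2 h2))
  · rintro ⟨t, ht, htE⟩
    have hfix : ∀ j < 5, (g * t * g⁻¹) (pt (bs j)) = pt (bs j) := by
      intro j hj
      rw [Equiv.Perm.mul_apply, Equiv.Perm.mul_apply, ← h.base ⟨j, hj⟩, perm_inv_apply,
        htE _ (ordering_mem E hE _)]
    obtain ⟨k, hk, hkt⟩ := H_classify
      (Subgroup.mul_mem _ (Subgroup.mul_mem _ h.mem ht) (Subgroup.inv_mem _ h.mem)) hfix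
    have hka : tb (hsD k).1 a = a := by
      apply pt_inj (hperm_lt' hk a h.lt) h.lt
      rw [← hperm_pt hk h.lt, ← hkt, Equiv.Perm.mul_apply, Equiv.Perm.mul_apply, ← h.last,
        perm_inv_apply, htE _ (ordering_mem E hE _)]
    refine ⟨⟨⟨k, hk⟩, hka⟩, ?_⟩
    apply Subtype.ext
    show g⁻¹ * hperm k * g = t
    rw [← hkt]
    group


theorem result (E : Finset Cfsg.GolayPt) (hE : E.card = 6) : (∀ σ : Equiv.Perm ↥E, ∃ g ∈ Cfsg.M24, ∀ p : ↥E, g p = σ p) ∧ ((∃ o ∈ Cfsg.octads, E ⊆ o) → Nat.card {g : Equiv.Perm Cfsg.GolayPt // g ∈ Cfsg.M24 ∧ ∀ p ∈ E, g p = p} = 16) ∧ ((¬ ∃ o ∈ Cfsg.octads, E ⊆ o) → Nat.card {g : Equiv.Perm Cfsg.GolayPt // g ∈ Cfsg.M24 ∧ ∀ p ∈ E, g p = p} = 3 ∧ Nat.card ↥(MulAction.stabilizer Cfsg.M24 E) = 2160) := by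
  classical
  obtain ⟨g1, a1, hN1⟩ := normalize (ordering E hE)
  have hoct := (octad_iff_ordering E hE).trans (in_octad_iff hN1)
  have hcard := card_fix hE hN1
  rw [H_stab_count a1 hN1.lt hN1.nb] at hcard
  have part1 : ∀ σ : Equiv.Perm ↥E, ∃ g ∈ M24, ∀ p : ↥E, g p = σ p := by
    intro σ
    let e := E.equivFinOfCardEq hE
    let z : Fin 6 ↪ GolayPt :=
      (e.symm.trans σ).toEmbedding.trans (Function.Embedding.subtype _)
    have hz : ∀ i, z i = ((σ (e.symm i) : ↥E) : GolayPt) := fun _ => rfl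
    have hy : ∀ i, ordering E hE i = ((e.symm i : ↥E) : GolayPt) := fun _ => rfl
    obtain ⟨g2, a2, hN2⟩ := normalize z
    have h12 : (cw 47).testBit a1 = (cw 47).testBit a2 := by
      have e1 := in_octad_iff hN1
      have e2 := in_octad_iff hN2
      have hiff : (∃ o ∈ octads, ∀ i, ordering E hE i ∈ o) ↔ (∃ o ∈ octads, ∀ i, z i ∈ o) := by
        constructor
        · rintro ⟨o, ho, hyo⟩
          refine ⟨o, ho, fun i => ?_⟩
          obtain ⟨j, hj⟩ := exists_ordering E hE (σ (e.symm i)).2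
          rw [hz, ← hj]
          exact hyo j
        · rintro ⟨o, ho, hzo⟩
          refine ⟨o, ho, fun i => ?_⟩
          have : ordering E hE i = z (e (σ⁻¹ (e.symm i))) := by
            rw [hz, hy, Equiv.symm_apply_apply]
            show ((e.symm i : ↥E) : GolayPt) = ((σ (σ.symm (e.symm i)) : ↥E) : GolayPt)
            rw [Equiv.apply_symm_apply]
          rw [this]
          exact hzo _
      exact Bool.eq_iff_iff.mpr (e1.symm.trans (hiff.trans e2))
    obtain ⟨k, hk, hka⟩ := H_orbits a1 hN1.lt a2 hN2.lt hN1.nb hN2.nb h12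
    have key : ∀ i, hperm k (g1 (ordering E hE i)) = g2 (z i) := by
      apply all_fin6
      · intro i
        rw [hN1.base, hN2.base]
        exact hperm_fix hk i.val i.2
      · rw [hN1.last, hN2.last, hperm_pt hk hN1.lt, hka]
    refine ⟨g2⁻¹ * hperm k * g1, Subgroup.mul_mem _ (Subgroup.mul_mem _
      (Subgroup.inv_mem _ hN2.mem) (hperm_mem hk)) hN1.mem, ?_⟩
    intro p
    have hp1 : (p : GolayPt) = ordering E hE (e p) := by
      rw [hy, Equiv.symm_apply_apply]
    have hp2 : ((σ p : ↥E) : GolayPt) = z (e p) := by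
      rw [hz, Equiv.symm_apply_apply]
    rw [hp2, hp1, Equiv.Perm.mul_apply, Equiv.Perm.mul_apply, Equiv.Perm.inv_eq_iff_eq]
    exact key (e p)
  refine ⟨part1, ?_, ?_⟩
  · intro h
    rw [hcard, if_pos (hoct.mp h)]
  · intro h
    have h3 : Nat.card {g : Equiv.Perm GolayPt // g ∈ M24 ∧ ∀ p ∈ E, g p = p} = 3 := by
      rw [hcard, if_neg (fun hc => h (hoct.mpr hc))]
    refine ⟨h3, ?_⟩
    have hker : Nat.card (resHom E).ker = 3 := by
      rw [← h3]
      apply Nat.card_congr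
      refine Equiv.ofBijective (fun g => ⟨g.1.1, mem_fixM24.mp ((mem_ker_resHom g.1).mp g.2)⟩)
        ⟨?_, ?_⟩
      · intro g g' hgg
        have h' : (g.1.1 : Equiv.Perm GolayPt) = g'.1.1 := by
          simpa using congrArg Subtype.val hgg
        exact Subtype.ext (Subtype.ext h')
      · rintro ⟨t, ht⟩
        have ht' : t ∈ fixM24 E := mem_fixM24.mpr ht
        exact ⟨⟨⟨t, fixM24_le_stabM24 E ht'⟩, (mem_ker_resHom _).mpr ht'⟩, rfl⟩
    have hsurj : Function.Surjective (resHom E) := by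
      intro σ
      obtain ⟨g, hg, hgσ⟩ := part1 σ
      have hsub : g • E ⊆ E := by
        intro x hx
        obtain ⟨y, hy, rfl⟩ := Finset.mem_smul_finset.mp hx
        have := hgσ ⟨y, hy⟩
        rw [Equiv.Perm.smul_def]
        show g y ∈ E
        have h2 : g y = ((σ ⟨y, hy⟩ : ↥E) : GolayPt) := this
        rw [h2]
        exact (σ ⟨y, hy⟩).2
      have hgE : g • E = E :=
        Finset.eq_of_subset_of_card_le hsub (by rw [Finset.card_smul_finset])
      refine ⟨⟨g, mem_stabM24.mpr ⟨hg, hgE⟩⟩, ?_⟩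
      apply Equiv.ext
      intro p
      apply Subtype.ext
      rw [resHom_apply]
      exact hgσ p
    have hrange : Nat.card (resHom E).range = 720 := by
      rw [MonoidHom.range_eq_top.mpr hsurj, Subgroup.card_top, Nat.card_eq_fintype_card,
        Fintype.card_perm, Fintype.card_coe, hE]
      rfl
    have hstab : Nat.card (stabM24 E) = 2160 := by
      have h1 := Subgroup.index_ker (resHom E)
      have h2 := Subgroup.index_mul_card (resHom E).ker
      rw [h1, hker, hrange] at h2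
      omega
    rw [← hstab]
    symm
    apply Nat.card_congr
    refine Equiv.ofBijective
      (fun g => ⟨⟨g.1, (mem_stabM24.mp g.2).1⟩,
        MulAction.mem_stabilizer_iff.mpr (mem_stabM24.mp g.2).2⟩) ⟨?_, ?_⟩
    · intro g g' hgg
      have h' : (g : Equiv.Perm GolayPt) = g' := by
        simpa using congrArg (fun t => ((t : MulAction.stabilizer M24 E) : M24).1) hgg
      exact Subtype.ext h'
    · rintro ⟨⟨g, hg⟩, hgo⟩
      exact ⟨⟨g, mem_stabM24.mpr ⟨hg, MulAction.mem_stabilizer_iff.mp hgo⟩⟩, rfl⟩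

end Cfsg.Agent.S5600
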