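import Mathlib
import Cfsg.Statements.S5601
import Cfsg.Agent.Lib_helper2_Ord3b

set_option autoImplicit false
open scoped Pointwise
open Cfsg

namespace Cfsg.Agent.S5601

open Cfsg.Agent.helper2

open Cfsg.Agent.helper2.Golay Cfsg.Agent.helper27
open scoped Pointwise

/-- A subgroup of order 3 is generated by an element of order 3. -/
theorem exists_gen {X : Subgroup M24} (hX : Nat.card X = 3) :
    ∃ x : M24, orderOf x = 3 ∧ X = Subgroup.zpowers x := by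
  have hfin : Finite X := Nat.finite_of_card_ne_zero (by rw [hX]; norm_num)
  obtain ⟨x, hx, hx1⟩ : ∃ x ∈ X, x ≠ 1 := by
    by_contra hcon
    push Not at hcon
    have : X = ⊥ := (Subgroup.eq_bot_iff_forall X).mpr hcon
    rw [this, Subgroup.card_bot] at hX
    exact absurd hX (by norm_num)
  have hdvd : orderOf x ∣ 3 := by
    have := orderOf_dvd_natCard (⟨x, hx⟩ : X)
    rw [hX, Subgroup.orderOf_mk] at this
    exact this
  have h3 : orderOf x = 3 := by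
    rcases (Nat.dvd_prime Nat.prime_three).mp hdvd with h | h
    · exact absurd (orderOf_eq_one_iff.mp h) hx1
    · exact h
  refine ⟨x, h3, ?_⟩
  symm
  apply Subgroup.eq_of_le_of_card_ge
  · rw [Subgroup.zpowers_le]
    exact hx
  · rw [Nat.card_zpowers, h3, hX]

/-- The fixed points of a cyclic subgroup are those of its generator. -/
theorem fix_zpowers (x : M24) :
    {p : GolayPt | ∀ y ∈ Subgroup.zpowers x, ((y : M24) : Equiv.Perm GolayPt) p = p}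
      = ↑(Finset.univ.filter fun p => (x : Equiv.Perm GolayPt) p = p) := by
  ext p
  rw [Set.mem_ofPred_eq, Finset.mem_coe, Finset.mem_filter]
  simp only [Finset.mem_univ, true_and]
  constructor
  · intro h
    exact h x (Subgroup.mem_zpowers x)
  · intro h y hy
    obtain ⟨n, rfl⟩ := Subgroup.mem_zpowers_iff.mp hy
    rw [Subgroup.coe_zpow]
    exact Equiv.Perm.zpow_apply_eq_self_of_apply_eq_self h n

theorem orderOf_coe_m24 (x : M24) : orderOf (x : Equiv.Perm GolayPt) = orderOf x :=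
  Subgroup.orderOf_coe x

theorem ncard_fix {x : M24} (h3 : orderOf x = 3) :
    ({p : GolayPt | ∀ y ∈ Subgroup.zpowers x, ((y : M24) : Equiv.Perm GolayPt) p = p}.ncard = 6 ∧
      ∃ κ ∈ M24, κ * (x : Equiv.Perm GolayPt) * κ⁻¹ = gperm rep3A) ∨
    ({p : GolayPt | ∀ y ∈ Subgroup.zpowers x, ((y : M24) : Equiv.Perm GolayPt) p = p}.ncard = 0 ∧
      ∃ κ ∈ M24, κ * (x : Equiv.Perm GolayPt) * κ⁻¹ = gperm rep3B) := by
  rw [fix_zpowers, Set.ncard_coe_finset]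
  rcases ord3_classes x.2 (by rw [orderOf_coe_m24]; exact h3) with ⟨κ, hκ, e⟩ | ⟨κ, hκ, e⟩
  · exact Or.inl ⟨card_fix_conj_rep3A e, κ, hκ, e⟩
  · exact Or.inr ⟨card_fix_conj_rep3B e, κ, hκ, e⟩

theorem conj_zpowers {x y : M24} {κ κ' : Equiv.Perm GolayPt} (hκ : κ ∈ M24) (hκ' : κ' ∈ M24)
    (r : Equiv.Perm GolayPt) (e : κ * (x : Equiv.Perm GolayPt) * κ⁻¹ = r)
    (e' : κ' * (y : Equiv.Perm GolayPt) * κ'⁻¹ = r) :
    ∃ k : M24, MulAut.conj k • Subgroup.zpowers x = Subgroup.zpowers y := by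
  refine ⟨⟨κ'⁻¹ * κ, Subgroup.mul_mem _ (Subgroup.inv_mem _ hκ') hκ⟩, ?_⟩
  rw [Subgroup.pointwise_smul_def]
  show Subgroup.map (MulAut.conj (⟨κ'⁻¹ * κ, Subgroup.mul_mem _ (Subgroup.inv_mem _ hκ') hκ⟩ :
    M24)).toMonoidHom (Subgroup.zpowers x) = Subgroup.zpowers y
  rw [MonoidHom.map_zpowers]
  congr 1
  apply Subtype.ext
  show (κ'⁻¹ * κ) * (x : Equiv.Perm GolayPt) * (κ'⁻¹ * κ)⁻¹ = (y : Equiv.Perm GolayPt)
  have : κ'⁻¹ * κ * (x : Equiv.Perm GolayPt) * (κ'⁻¹ * κ)⁻¹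
      = κ'⁻¹ * (κ * (x : Equiv.Perm GolayPt) * κ⁻¹) * κ' := by group
  rw [this, e, ← e']
  group

theorem card_zpowers_three {x : M24} (h : orderOf x = 3) : Nat.card (Subgroup.zpowers x) = 3 := by
  rw [Nat.card_zpowers, h]


theorem result : (∀ X : Subgroup ↥Cfsg.M24, Nat.card X = 3 → {p : Cfsg.GolayPt | ∀ x ∈ X, ((x : ↥Cfsg.M24) : Equiv.Perm Cfsg.GolayPt) p = p}.ncard = 6 ∨ {p : Cfsg.GolayPt | ∀ x ∈ X, ((x : ↥Cfsg.M24) : Equiv.Perm Cfsg.GolayPt) p = p}.ncard = 0) ∧ (∃ X : Subgroup ↥Cfsg.M24, Nat.card X = 3 ∧ {p : Cfsg.GolayPt | ∀ x ∈ X, ((x : ↥Cfsg.M24) : Equiv.Perm Cfsg.GolayPt) p = p}.ncard = 6) ∧ (∃ X : Subgroup ↥Cfsg.M24, Nat.card X = 3 ∧ {p : Cfsg.GolayPt | ∀ x ∈ X, ((x : ↥Cfsg.M24) : Equiv.Perm Cfsg.GolayPt) p = p}.ncard = 0) ∧ ∀ X Y : Subgroup ↥Cfsg.M24, Nat.card X = 3 → Nat.card Y = 3 → {p : Cfsg.GolayPt | ∀ x ∈ X, ((x : ↥Cfsg.M24) : Equiv.Perm Cfsg.GolayPt) p = p}.ncard = {p : Cfsg.GolayPt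 | ∀ x ∈ Y, ((x : ↥Cfsg.M24) : Equiv.Perm Cfsg.GolayPt) p = p}.ncard → ∃ k : ↥Cfsg.M24, MulAut.conj k • X = Y := by
  refine ⟨?_, ?_, ?_, ?_⟩
  · intro X hX
    obtain ⟨x, h3, rfl⟩ := exists_gen hX
    rcases ncard_fix h3 with h | h
    · exact Or.inl h.1
    · exact Or.inr h.1
  · have h3 : orderOf (⟨gperm rep3A, rep3A_mem⟩ : M24) = 3 := by
      rw [← orderOf_coe_m24]
      exact orderOf_three_of_cube rep3A_cube rep3A_ne_one
    refine ⟨Subgroup.zpowers ⟨gperm rep3A, rep3A_mem⟩, card_zpowers_three h3, ?_⟩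
    rcases ncard_fix h3 with h | h
    · exact h.1
    · exfalso
      obtain ⟨κ, _, e⟩ := h.2
      have h6 := card_fix_conj_rep3B e
      rw [rep3A_filter, card_pts] at h6
      revert h6
      decide +kernel
  · have h3 : orderOf (⟨gperm rep3B, rep3B_mem⟩ : M24) = 3 := by
      rw [← orderOf_coe_m24]
      exact orderOf_three_of_cube rep3B_cube rep3B_ne_one
    refine ⟨Subgroup.zpowers ⟨gperm rep3B, rep3B_mem⟩, card_zpowers_three h3, ?_⟩
    rcases ncard_fix h3 with h | h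
    · exfalso
      obtain ⟨κ, _, e⟩ := h.2
      have h6 := card_fix_conj_rep3A e
      have h0 : (Finset.univ.filter fun p => gperm rep3B p = p) = ∅ := by
        rw [Finset.filter_eq_empty_iff]
        intro p _
        exact rep3B_fpf p
      rw [h0, Finset.card_empty] at h6
      exact absurd h6 (by norm_num)
    · exact h.1
  · intro X Y hX hY hXY
    obtain ⟨x, hx3, rfl⟩ := exists_gen hX
    obtain ⟨y, hy3, rfl⟩ := exists_gen hY
    rcases ncard_fix hx3 with ⟨hx, κ, hκ, e⟩ | ⟨hx, κ, hκ, e⟩ <;>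
      rcases ncard_fix hy3 with ⟨hy, κ', hκ', e'⟩ | ⟨hy, κ', hκ', e'⟩
    · exact conj_zpowers hκ hκ' _ e e'
    · rw [hx, hy] at hXY
      exact absurd hXY (by norm_num)
    · rw [hx, hy] at hXY
      exact absurd hXY (by norm_num)
    · exact conj_zpowers hκ hκ' _ e e'

end Cfsg.Agent.S5601
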