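import Mathlib
import Cfsg.Statements.S5602
import Cfsg.Agent.Lib_helper2_Ord3b
import Cfsg.Agent.Lib_helper2_Tabs

set_option autoImplicit false
open scoped Pointwise
open Cfsg

namespace Cfsg.Agent.S5602

open Cfsg.Agent.helper2

open Cfsg.Agent.helper2.Golay Cfsg.Agent.helper27

theorem cntO : ((Finset.range 4096).filter (fun m =>
    (if wt (cw m) = 8 ∧ img rep3A.1 (cw m) % 2 ^ 24 = cw m % 2 ^ 24 then 1 else 0) = 1)).card
      = 21 := by
  rw [count_rows]
  decide +kernel

theorem cntD : ((Finset.range 4096).filter (fun m =>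
    (if wt (cw m) = 12 ∧ img rep3A.1 (cw m) % 2 ^ 24 = cw m % 2 ^ 24 then 1 else 0) = 1)).card
      = 20 := by
  rw [count_rows]
  decide +kernel

set_option maxRecDepth 100000 in
theorem cntT : (trTab.filter (fun L => sameMod (L.map (img rep3A.1)) L)).length = 15 := by
  decide +kernel

set_option maxRecDepth 100000 in
theorem cntS : (sxTab.filter (fun L => sameMod (L.map (img rep3A.1)) L)).length = 16 := by
  decide +kernel


theorem result (g : Equiv.Perm Cfsg.GolayPt) (hg : g ∈ Cfsg.M24) (h₃ : orderOf g = 3) (h₆ : (Finset.univ.filter fun p => g p = p).card = 6) : {o : Finset Cfsg.GolayPt | o ∈ Cfsg.octads ∧ g • o = o}.ncard = 21 ∧ {T : Finset (Finset Cfsg.GolayPt) | T ∈ Cfsg.trios ∧ g • T = T}.ncard = 15 ∧ {S : Finset (Finset Cfsg.GolayPt) | S ∈ Cfsg.sextets ∧ g • S = S}.ncard = 16 ∧ {d : Finset Cfsg.GolayPt | d ∈ Cfsg.dodecads ∧ g • d = d}.ncard = 20 := by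
  rcases ord3_classes hg h₃ with ⟨κ, hκ, e⟩ | ⟨κ, hκ, e⟩
  · refine ⟨?_, ?_, ?_, ?_⟩
    · rw [ncard_fixed_conj octads κ g (octads_smul_iff hκ), e,
        ncard_fixed_octads rep3A_ok.1 rep3A_len, cntO]
    · rw [ncard_fixed_conj trios κ g (trios_smul_iff hκ), e,
        ncard_fixed_trios rep3A_ok.1 rep3A_len, cntT]
    · rw [ncard_fixed_conj sextets κ g (sextets_smul_iff hκ), e,
        ncard_fixed_sextets rep3A_ok.1 rep3A_len, cntS]
    · rw [ncard_fixed_conj dodecads κ g (dodecads_smul_iff hκ), e,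
        ncard_fixed_dodecads rep3A_ok.1 rep3A_len, cntD]
  · exfalso
    rw [card_fix_conj_rep3B e] at h₆
    exact absurd h₆ (by norm_num)

end Cfsg.Agent.S5602
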