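import Mathlib
import Cfsg.Statements.S5603
import Cfsg.Agent.Lib_helper2_Ord3b
import Cfsg.Agent.Lib_helper2_Tabs

set_option autoImplicit false
open scoped Pointwise
open Cfsg

namespace Cfsg.Agent.S5603

open Cfsg.Agent.helper2

open Cfsg.Agent.helper2.Golay Cfsg.Agent.helper27

set_option maxRecDepth 100000 in
theorem cntT : (trTab.filter (fun L => sameMod (L.map (img rep3B.1)) L)).length = 15 := by
  decide +kernel

set_option maxRecDepth 100000 in
theorem cntS : (sxTab.filter (fun L => sameMod (L.map (img rep3B.1)) L)).length = 7 := by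
  decide +kernel


theorem result (g : Equiv.Perm Cfsg.GolayPt) (hg : g ∈ Cfsg.M24) (h₃ : orderOf g = 3) (h₀ : ∀ p, g p ≠ p) : {S : Finset (Finset Cfsg.GolayPt) | S ∈ Cfsg.sextets ∧ g • S = S}.ncard = 7 ∧ {T : Finset (Finset Cfsg.GolayPt) | T ∈ Cfsg.trios ∧ g • T = T}.ncard = 15 := by
  rcases ord3_classes hg h₃ with ⟨κ, hκ, e⟩ | ⟨κ, hκ, e⟩
  · exfalso
    have := card_fix_conj_rep3A e
    have h0 : (Finset.univ.filter fun p => g p = p) = ∅ := by
      rw [Finset.filter_eq_empty_iff]
      intro p _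
      exact h₀ p
    rw [h0, Finset.card_empty] at this
    exact absurd this (by norm_num)
  · refine ⟨?_, ?_⟩
    · rw [ncard_fixed_conj sextets κ g (sextets_smul_iff hκ), e,
        ncard_fixed_sextets rep3B_ok.1 rep3B_len, cntS]
    · rw [ncard_fixed_conj trios κ g (trios_smul_iff hκ), e,
        ncard_fixed_trios rep3B_ok.1 rep3B_len, cntT]

end Cfsg.Agent.S5603
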