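import Mathlib
import Cfsg.Statements.S5604
import Cfsg.Agent.Lib_helper2_Ord7
import Cfsg.Agent.Lib_helper2_C2B

set_option autoImplicit false
open scoped Pointwise
open Cfsg

namespace Cfsg.Agent.S5604

open Cfsg.Agent.helper2

open Cfsg.Agent.helper2.Golay Cfsg.Agent.helper27
open scoped Pointwise
open MulAction

/-- `x7` as an element of `M24`. -/
noncomputable def x7' : M24 := ⟨gperm x7, gperm_mem x7_ok.1 x7_ok.2⟩

theorem x7'_pow : x7' ^ 7 = 1 := Subtype.ext (by
  rw [Subgroup.coe_pow]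
  exact x7_pow_seven)

theorem x7'_ne : x7' ≠ 1 := fun h => x7_ne_one (congrArg Subtype.val h)

theorem orderOf_x7' : orderOf x7' = 7 := by
  have : Fact (Nat.Prime 7) := ⟨by norm_num⟩
  exact orderOf_eq_prime x7'_pow x7'_ne

/-- The standard subgroup of order 7. -/
noncomputable def S0 : Subgroup M24 := Subgroup.zpowers x7'

theorem card_S0 : Nat.card S0 = 7 := by
  unfold S0
  rw [Nat.card_zpowers, orderOf_x7']

theorem mem_S0 {y : M24} : y ∈ S0 ↔ ∃ k < 7, y = x7' ^ k := by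
  constructor
  · intro hy
    obtain ⟨k, rfl⟩ := Subgroup.mem_zpowers_iff.mp hy
    refine ⟨(k % 7).toNat, ?_, ?_⟩
    · have h1 : 0 ≤ k % 7 := Int.emod_nonneg _ (by norm_num)
      have h2 : k % 7 < 7 := Int.emod_lt_of_pos _ (by norm_num)
      omega
    · rw [← zpow_natCast, Int.toNat_of_nonneg (Int.emod_nonneg _ (by norm_num))]
      have := zpow_mod_orderOf x7' k
      rw [orderOf_x7'] at this
      exact this.symm
  · rintro ⟨k, _, rfl⟩
    exact Subgroup.pow_mem _ (Subgroup.mem_zpowers x7') k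

theorem mem_cent_S0 (c : M24) :
    c ∈ Subgroup.centralizer (S0 : Set M24) ↔ c * x7' = x7' * c := by
  rw [Subgroup.mem_centralizer_iff]
  constructor
  · intro h
    exact (h x7' (Subgroup.mem_zpowers x7')).symm
  · intro h y hy
    obtain ⟨k, rfl⟩ := Subgroup.mem_zpowers_iff.mp hy
    have hc : Commute x7' c := h.symm
    exact (hc.zpow_left k).eq

theorem card_cent_S0 : Nat.card (Subgroup.centralizer (S0 : Set M24)) = 42 := by
  rw [← ncard_cent_x7, ← Nat.card_coe_set_eq]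
  apply Nat.card_congr
  refine ⟨fun c => ⟨((c : M24) : Equiv.Perm GolayPt), (c : M24).2,
    congrArg Subtype.val ((mem_cent_S0 c.1).mp c.2)⟩,
    fun g => ⟨⟨g.1, g.2.1⟩, (mem_cent_S0 _).mpr (Subtype.ext g.2.2)⟩, ?_, ?_⟩
  · intro c
    rfl
  · intro g
    rfl

theorem mem_norm_S0 (n : M24) :
    n ∈ Subgroup.normalizer (S0 : Set M24) ↔ n * x7' * n⁻¹ ∈ S0 := by
  constructor
  · intro h
    exact (Subgroup.mem_normalizer_iff.mp h x7').mp (Subgroup.mem_zpowers x7')
  · intro h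
    apply Subgroup.mem_normalizer_fintype
    intro y hy
    obtain ⟨k, rfl⟩ := Subgroup.mem_zpowers_iff.mp hy
    rw [← conj_zpow]
    exact Subgroup.zpow_mem _ h k

/-- Elements of the normaliser conjugate `x7'` to its power 1, 2 or 4. -/
theorem norm_S0_pow {n : M24} (hn : n ∈ Subgroup.normalizer (S0 : Set M24)) :
    n * x7' * n⁻¹ = x7' ∨ n * x7' * n⁻¹ = x7' ^ 2 ∨ n * x7' * n⁻¹ = x7' ^ 4 := by
  obtain ⟨k, hk, hkn⟩ := mem_S0.mp ((mem_norm_S0 n).mp hn)
  have hrel : ((n : M24) : Equiv.Perm GolayPt) * gperm x7 = gperm x7 ^ k * n := by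
    have h1 : n * x7' = x7' ^ k * n := by
      rw [← hkn]
      group
    have := congrArg Subtype.val h1
    rwa [Subgroup.coe_mul, Subgroup.coe_mul, Subgroup.coe_pow] at this
  interval_cases k
  · exfalso
    apply x7'_ne
    rw [pow_zero] at hkn
    have : x7' = n⁻¹ * (n * x7' * n⁻¹) * n := by group
    rw [this, hkn]
    group
  · left
    rw [hkn, pow_one]
  · right; left
    exact hkn
  · exact absurd hrel (not_conj_x7 n.2 (k := 2) (Or.inl rfl))
  · right; right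
    exact hkn
  · exact absurd hrel (not_conj_x7 n.2 (k := 4) (Or.inr (Or.inl rfl)))
  · exact absurd hrel (not_conj_x7 n.2 (k := 5) (Or.inr (Or.inr rfl)))

/-- `n7` as an element of `M24`. -/
noncomputable def n7' : M24 := ⟨gperm n7, gperm_mem n7_ok.1 n7_ok.2⟩

theorem n7'_rel : n7' * x7' * n7'⁻¹ = x7' ^ 2 := by
  have h1 : n7' * x7' = x7' ^ 2 * n7' := by
    apply Subtype.ext
    rw [Subgroup.coe_mul, Subgroup.coe_mul, Subgroup.coe_pow]
    exact n7_rel
  rw [h1]
  group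

theorem n7'_mem : n7' ∈ Subgroup.normalizer (S0 : Set M24) := by
  rw [mem_norm_S0, n7'_rel]
  exact Subgroup.pow_mem _ (Subgroup.mem_zpowers x7') 2

theorem x7'_mem_norm : x7' ∈ Subgroup.normalizer (S0 : Set M24) :=
  Subgroup.le_normalizer (Subgroup.mem_zpowers x7')

theorem card_norm_S0 : Nat.card (Subgroup.normalizer (S0 : Set M24)) = 126 := by
  have hfin : Finite (Subgroup.normalizer (S0 : Set M24)) := inferInstance
  let t : Subgroup.normalizer (S0 : Set M24) := ⟨x7', x7'_mem_norm⟩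
  let ν : Subgroup.normalizer (S0 : Set M24) := ⟨n7', n7'_mem⟩
  have ht7 : orderOf t = 7 := by
    rw [← orderOf_x7']
    exact Subgroup.orderOf_mk x7' x7'_mem_norm
  have hνt : ν * t * ν⁻¹ = t ^ 2 := Subtype.ext n7'_rel
  have key := card_conj_orbit t ({t, t ^ 2, t ^ 4} : Set (Subgroup.normalizer (S0 : Set M24)))
    ?_ ?_
  · have hX : ({t, t ^ 2, t ^ 4} : Set (Subgroup.normalizer (S0 : Set M24))).ncard = 3 := by
      have hne : ∀ a b : ℕ, a < 7 → b < 7 → a ≠ b → t ^ a ≠ t ^ b := by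
        intro a b ha hb hab h
        rw [pow_eq_pow_iff_modEq, ht7] at h
        exact hab (Nat.ModEq.eq_of_lt_of_lt h ha hb)
      have h12 : t ≠ t ^ 2 := by
        have := hne 1 2 (by norm_num) (by norm_num) (by norm_num)
        rwa [pow_one] at this
      have h14 : t ≠ t ^ 4 := by
        have := hne 1 4 (by norm_num) (by norm_num) (by norm_num)
        rwa [pow_one] at this
      have h24 : t ^ 2 ≠ t ^ 4 := hne 2 4 (by norm_num) (by norm_num) (by norm_num)
      rw [Set.ncard_eq_three]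
      exact ⟨t, t ^ 2, t ^ 4, h12, h14, h24, rfl⟩
    have hC : Nat.card {c : Subgroup.normalizer (S0 : Set M24) // c * t = t * c} = 42 := by
      rw [← card_cent_S0]
      apply Nat.card_congr
      refine ⟨fun c => ⟨c.1.1, (mem_cent_S0 _).mpr (congrArg Subtype.val c.2)⟩,
        fun c => ⟨⟨c.1, Subgroup.centralizer_le_normalizer _ c.2⟩,
          Subtype.ext ((mem_cent_S0 _).mp c.2)⟩, ?_, ?_⟩
      · intro c
        rfl
      · intro c
        rfl
    rw [hX, hC] at key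
    exact key.symm
  · intro n
    rcases norm_S0_pow n.2 with h | h | h
    · left
      exact Subtype.ext h
    · right; left
      exact Subtype.ext h
    · right; right
      exact Subtype.ext h
  · intro y hy
    rcases hy with rfl | rfl | rfl
    · exact ⟨1, by group⟩
    · exact ⟨ν, hνt⟩
    · refine ⟨ν * ν, ?_⟩
      have : ν * ν * t * (ν * ν)⁻¹ = ν * (ν * t * ν⁻¹) * ν⁻¹ := by group
      rw [this, hνt, ← conj_pow, hνt, ← pow_mul]

/-- The normaliser of `S0` fixes the trio fixed by `x7`. -/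
theorem norm_S0_trio {n : M24} (hn : n ∈ Subgroup.normalizer (S0 : Set M24)) :
    ((n : M24) : Equiv.Perm GolayPt) • famFin tr7 = famFin tr7 := by
  have hT0 : famFin tr7 ∈ {X | X ∈ trios ∧ gperm x7 • X = X} := by
    rw [x7_fixed_trios]
    rfl
  have hpow : ∀ k : ℕ, (gperm x7 ^ k) • famFin tr7 = famFin tr7 := by
    intro k
    induction k with
    | zero => rw [pow_zero, one_smul]
    | succ k ih => rw [pow_succ, mul_smul, hT0.2, ih]
  have hmem : ((n : M24) : Equiv.Perm GolayPt) • famFin tr7 ∈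
      {X | X ∈ trios ∧ gperm x7 • X = X} := by
    refine ⟨smul_mem_trios n.2 hT0.1, ?_⟩
    have hn' := Subgroup.inv_mem _ hn
    obtain ⟨k, _, hk⟩ := mem_S0.mp ((mem_norm_S0 n⁻¹).mp hn')
    rw [inv_inv] at hk
    have h1 : x7' * n = n * x7' ^ k := by
      rw [← hk]
      group
    have h2 := congrArg Subtype.val h1
    rw [Subgroup.coe_mul, Subgroup.coe_mul, Subgroup.coe_pow] at h2
    have h2' : gperm x7 * ((n : M24) : Equiv.Perm GolayPt)
        = ((n : M24) : Equiv.Perm GolayPt) * gperm x7 ^ k := h2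
    rw [smul_smul, h2', mul_smul, hpow]
  rw [x7_fixed_trios] at hmem
  exact hmem

/-- Conjugation transfer for normalisers and centralisers. -/
theorem conj_transfer {G : Type*} [Group G] (S T : Subgroup G) (g : G)
    (hS : ∀ x, x ∈ S ↔ g⁻¹ * x * g ∈ T) :
    (∀ n, n ∈ Subgroup.normalizer (S : Set G) ↔ g⁻¹ * n * g ∈ Subgroup.normalizer (T : Set G)) ∧
    (∀ c, c ∈ Subgroup.centralizer (S : Set G) ↔
      g⁻¹ * c * g ∈ Subgroup.centralizer (T : Set G)) := by
  have hT : ∀ y, y ∈ T ↔ g * y * g⁻¹ ∈ S := by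
    intro y
    rw [hS]
    have : g⁻¹ * (g * y * g⁻¹) * g = y := by group
    rw [this]
  constructor
  · intro n
    rw [Subgroup.mem_normalizer_iff, Subgroup.mem_normalizer_iff]
    constructor
    · intro h y
      have h1 := h (g * y * g⁻¹)
      rw [← hT, hS] at h1
      have e : g⁻¹ * (n * (g * y * g⁻¹) * n⁻¹) * g = g⁻¹ * n * g * y * (g⁻¹ * n * g)⁻¹ := by group
      rw [e] at h1
      exact h1
    · intro h x
      have h1 := h (g⁻¹ * x * g)
      rw [← hS] at h1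
      have e : g⁻¹ * n * g * (g⁻¹ * x * g) * (g⁻¹ * n * g)⁻¹ = g⁻¹ * (n * x * n⁻¹) * g := by group
      rw [e, ← hS] at h1
      exact h1
  · intro c
    rw [Subgroup.mem_centralizer_iff, Subgroup.mem_centralizer_iff]
    constructor
    · intro h y hy
      have h1 := h (g * y * g⁻¹) ((hT y).mp hy)
      have e1 : y * (g⁻¹ * c * g) = g⁻¹ * (g * y * g⁻¹ * c) * g := by group
      rw [e1, h1]
      group
    · intro h x hx
      have h1 := h (g⁻¹ * x * g) ((hS x).mp hx)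
      have e1 : x * c = g * (g⁻¹ * x * g * (g⁻¹ * c * g)) * g⁻¹ := by group
      rw [e1, h1]
      group

theorem card_conj_eq {G : Type*} [Group G] (A B : Subgroup G) (g : G)
    (h : ∀ n, n ∈ A ↔ g⁻¹ * n * g ∈ B) : Nat.card A = Nat.card B := by
  apply Nat.card_congr
  refine ⟨fun n => ⟨g⁻¹ * n.1 * g, (h n.1).mp n.2⟩, fun m => ⟨g * m.1 * g⁻¹, ?_⟩, ?_, ?_⟩
  · rw [h]
    have : g⁻¹ * (g * m.1 * g⁻¹) * g = m.1 := by group
    rw [this]
    exact m.2
  · intro n
    apply Subtype.ext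
    show g * (g⁻¹ * n.1 * g) * g⁻¹ = n.1
    group
  · intro m
    apply Subtype.ext
    show g⁻¹ * (g * m.1 * g⁻¹) * g = m.1
    group

/-- Every subgroup of order 7 is conjugate to the standard one. -/
theorem sylow7 (S : Subgroup M24) (hS : Nat.card S = 7) :
    ∃ g : M24, ∀ x, x ∈ S ↔ g⁻¹ * x * g ∈ S0 := by
  have hp : Fact (Nat.Prime 7) := ⟨by norm_num⟩
  have key : ∀ R : Subgroup M24, Nat.card R = 7 → ∃ Q : Sylow 7 M24, (Q : Subgroup M24) = R := by
    intro R hR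
    have hRp : IsPGroup 7 R := IsPGroup.of_card (n := 1) (by rw [hR, pow_one])
    obtain ⟨Q, hQ⟩ := hRp.exists_le_sylow
    refine ⟨Q, ?_⟩
    obtain ⟨k, hk⟩ := (Q.2 : IsPGroup 7 (Q : Subgroup M24)).exists_card_eq
    have hdvd : 7 ^ k ∣ 244823040 := by
      rw [← hk, ← card_M24]
      exact Subgroup.card_subgroup_dvd_card _
    have hk1 : k ≤ 1 := by
      by_contra hcon
      push Not at hcon
      have h49 : 7 ^ 2 ∣ 244823040 := (pow_dvd_pow 7 hcon).trans hdvd
      norm_num at h49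
    have hle : Nat.card R ≤ Nat.card (Q : Subgroup M24) := Subgroup.card_le_of_le hQ
    symm
    apply Subgroup.eq_of_le_of_card_ge hQ
    rw [hk, hR]
    calc 7 ^ k ≤ 7 ^ 1 := Nat.pow_le_pow_right (by norm_num) hk1
      _ = 7 := by norm_num
  obtain ⟨Q, hQ⟩ := key S hS
  obtain ⟨Q0, hQ0⟩ := key S0 card_S0
  obtain ⟨g, hg⟩ := MulAction.exists_smul_eq M24 Q0 Q
  refine ⟨g, fun x => ?_⟩
  rw [← hQ, ← hQ0, ← hg, Sylow.coe_subgroup_smul, Subgroup.mem_pointwise_smul_iff_inv_smul_mem]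
  simp only [MulAut.smul_def, MulAut.conj_inv_apply]

theorem result (S : Subgroup ↥Cfsg.M24) (hS : Nat.card S = 7) : Nat.card ↥(Subgroup.normalizer (S : Set ↥Cfsg.M24)) = 126 ∧ Nat.card ↥(Subgroup.centralizer (S : Set ↥Cfsg.M24)) = 42 ∧ (∃ x ∈ Subgroup.centralizer (S : Set ↥Cfsg.M24), ∃ y ∈ Subgroup.centralizer (S : Set ↥Cfsg.M24), x * y ≠ y * x) ∧ ∃ T ∈ Cfsg.trios, ∀ n ∈ Subgroup.normalizer (S : Set ↥Cfsg.M24), ((n : ↥Cfsg.M24) : Equiv.Perm Cfsg.GolayPt) • T = T := by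
  obtain ⟨g, hg⟩ := sylow7 S hS
  obtain ⟨hN, hC⟩ := conj_transfer S S0 g hg
  refine ⟨?_, ?_, ?_, ?_⟩
  · rw [card_conj_eq _ _ g hN, card_norm_S0]
  · rw [card_conj_eq _ _ g hC, card_cent_S0]
  · have ha : (⟨gperm a7, gperm_mem a7_ok.1 a7_ok.2⟩ : M24) ∈
        Subgroup.centralizer (S0 : Set M24) := (mem_cent_S0 _).mpr (Subtype.ext a7_comm)
    have hb : (⟨gperm b7, gperm_mem b7_ok.1 b7_ok.2⟩ : M24) ∈
        Subgroup.centralizer (S0 : Set M24) := (mem_cent_S0 _).mpr (Subtype.ext b7_comm)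
    refine ⟨g * ⟨gperm a7, gperm_mem a7_ok.1 a7_ok.2⟩ * g⁻¹, ?_,
      g * ⟨gperm b7, gperm_mem b7_ok.1 b7_ok.2⟩ * g⁻¹, ?_, ?_⟩
    · rw [hC]
      have e : g⁻¹ * (g * (⟨gperm a7, gperm_mem a7_ok.1 a7_ok.2⟩ : M24) * g⁻¹) * g
          = ⟨gperm a7, gperm_mem a7_ok.1 a7_ok.2⟩ := by group
      rw [e]
      exact ha
    · rw [hC]
      have e : g⁻¹ * (g * (⟨gperm b7, gperm_mem b7_ok.1 b7_ok.2⟩ : M24) * g⁻¹) * g
          = ⟨gperm b7, gperm_mem b7_ok.1 b7_ok.2⟩ := by group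
      rw [e]
      exact hb
    · intro h
      apply a7_b7
      have h1 : (⟨gperm a7, gperm_mem a7_ok.1 a7_ok.2⟩ : M24) *
          ⟨gperm b7, gperm_mem b7_ok.1 b7_ok.2⟩ =
          ⟨gperm b7, gperm_mem b7_ok.1 b7_ok.2⟩ * ⟨gperm a7, gperm_mem a7_ok.1 a7_ok.2⟩ := by
        have e1 : (⟨gperm a7, gperm_mem a7_ok.1 a7_ok.2⟩ : M24) *
            ⟨gperm b7, gperm_mem b7_ok.1 b7_ok.2⟩ =
            g⁻¹ * (g * ⟨gperm a7, gperm_mem a7_ok.1 a7_ok.2⟩ * g⁻¹ *
              (g * ⟨gperm b7, gperm_mem b7_ok.1 b7_ok.2⟩ * g⁻¹)) * g := by group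
        rw [e1, h]
        group
      exact congrArg Subtype.val h1
  · refine ⟨((g : M24) : Equiv.Perm GolayPt) • famFin tr7,
      smul_mem_trios g.2 (trOK_spec tr7_ok).1, ?_⟩
    intro n hn
    have h1 := norm_S0_trio ((hN n).mp hn)
    rw [smul_smul]
    have e : ((n : M24) : Equiv.Perm GolayPt) * ((g : M24) : Equiv.Perm GolayPt)
        = ((g : M24) : Equiv.Perm GolayPt) * (((g⁻¹ * n * g : M24) : M24) :
          Equiv.Perm GolayPt) := by
      rw [Subgroup.coe_mul, Subgroup.coe_mul, Subgroup.coe_inv]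
      group
    rw [e, mul_smul, h1]

end Cfsg.Agent.S5604
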