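import Mathlib
import Cfsg.Statements.S5606
import Cfsg.Agent.Lib_helper2_Inv2
import Cfsg.Agent.Lib_helper2_Tabs

set_option autoImplicit false
open scoped Pointwise
open Cfsg

namespace Cfsg.Agent.S5606

open Cfsg.Agent.helper2

open Cfsg.Agent.helper2.Golay Cfsg.Agent.helper27

theorem repB_len : repB.1.length = 24 := by decide

theorem cntO : ((Finset.range 4096).filter (fun m =>
    (if wt (cw m) = 8 ∧ img repB.1 (cw m) % 2 ^ 24 = cw m % 2 ^ 24 then 1 else 0) = 1)).card
      = 15 := by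
  rw [count_rows]
  decide +kernel

set_option maxRecDepth 100000 in
theorem cntT : (trTab.filter (fun L => sameMod (L.map (img repB.1)) L)).length = 75 := by
  decide +kernel

set_option maxRecDepth 100000 in
theorem cntS : (sxTab.filter (fun L => sameMod (L.map (img repB.1)) L)).length = 51 := by
  decide +kernel


theorem result (g : Equiv.Perm Cfsg.GolayPt) (hg : g ∈ Cfsg.M24) (h₂ : orderOf g = 2) (h₀ : ∀ p, g p ≠ p) : {o : Finset Cfsg.GolayPt | o ∈ Cfsg.octads ∧ g • o = o}.ncard = 15 ∧ {T : Finset (Finset Cfsg.GolayPt) | T ∈ Cfsg.trios ∧ g • T = T}.ncard = 75 ∧ {S : Finset (Finset Cfsg.GolayPt) | S ∈ Cfsg.sextets ∧ g • S = S}.ncard = 51 := by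
  rcases inv_classes hg h₂ with ⟨κ, hκ, e⟩ | ⟨κ, hκ, e⟩
  · exact absurd h₀ (not_fpf_of_conj_repA e)
  · refine ⟨?_, ?_, ?_⟩
    · rw [ncard_fixed_conj octads κ g (octads_smul_iff hκ), e,
        ncard_fixed_octads repB_ok.1 repB_len, cntO]
    · rw [ncard_fixed_conj trios κ g (trios_smul_iff hκ), e,
        ncard_fixed_trios repB_ok.1 repB_len, cntT]
    · rw [ncard_fixed_conj sextets κ g (sextets_smul_iff hκ), e,
        ncard_fixed_sextets repB_ok.1 repB_len, cntS]

end Cfsg.Agent.S5606
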