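import Mathlib
import Cfsg.Statements.S5607
import Cfsg.Agent.Lib_helper2_C2B

set_option autoImplicit false
open scoped Pointwise
open Cfsg

namespace Cfsg.Agent.S5607

open Cfsg.Agent.helper2

open Cfsg.Agent.helper2.Golay Cfsg.Agent.helper27
open scoped Pointwise

theorem comm_conj_iff {G : Type*} [Group G] (g t0 c : G) :
    c * (g * t0 * g⁻¹) = g * t0 * g⁻¹ * c ↔ g⁻¹ * c * g * t0 = t0 * (g⁻¹ * c * g) := by
  constructor
  · intro h
    have e1 : g⁻¹ * c * g * t0 = g⁻¹ * (c * (g * t0 * g⁻¹)) * g := by group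
    rw [e1, h]
    group
  · intro h
    have e1 : c * (g * t0 * g⁻¹) = g * (g⁻¹ * c * g * t0) * g⁻¹ := by group
    rw [e1, h]
    group

theorem result (t : Equiv.Perm Cfsg.GolayPt) (ht : t ∈ Cfsg.M24) (h₂ : orderOf t = 2) (h₀ : ∀ p, t p ≠ p) : Nat.card {c : Equiv.Perm Cfsg.GolayPt // c ∈ Cfsg.M24 ∧ c * t = t * c} = 7680 ∧ (∀ p q : Cfsg.GolayPt, ∃ c ∈ Cfsg.M24, c * t = t * c ∧ c p = q) ∧ ∃ S ∈ Cfsg.sextets, t • S = S ∧ ∀ c ∈ Cfsg.M24, c * t = t * c → c • S = S := by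
  obtain ⟨h2, h1⟩ := sq_of_orderOf_two h₂
  obtain ⟨g, hg, hgt⟩ := conj_to_tB0 ht h2 h₀
  subst hgt
  have hgi : g⁻¹ ∈ M24 := Subgroup.inv_mem _ hg
  refine ⟨?_, ?_, ?_⟩
  · rw [← card_cent_tB0]
    apply Nat.card_congr
    refine ⟨fun c => ⟨g⁻¹ * c.1 * g, Subgroup.mul_mem _ (Subgroup.mul_mem _ hgi c.2.1) hg,
      (comm_conj_iff g _ c.1).mp c.2.2⟩, fun c => ⟨g * c.1 * g⁻¹,
      Subgroup.mul_mem _ (Subgroup.mul_mem _ hg c.2.1) hgi, ?_⟩, ?_, ?_⟩
    · rw [comm_conj_iff]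
      have e : g⁻¹ * (g * c.1 * g⁻¹) * g = c.1 := by group
      rw [e]
      exact c.2.2
    · intro c
      apply Subtype.ext
      show g * (g⁻¹ * c.1 * g) * g⁻¹ = c.1
      group
    · intro c
      apply Subtype.ext
      show g⁻¹ * (g * c.1 * g⁻¹) * g = c.1
      group
  · intro p q
    obtain ⟨c0, hc0, hc0t, hc0p⟩ := cent_trans_base (g⁻¹ p) (g⁻¹ q)
    refine ⟨g * c0 * g⁻¹, Subgroup.mul_mem _ (Subgroup.mul_mem _ hg hc0) hgi, ?_, ?_⟩
    · rw [comm_conj_iff]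
      have e : g⁻¹ * (g * c0 * g⁻¹) * g = c0 := by group
      rw [e]
      exact hc0t
    · rw [Equiv.Perm.mul_apply, Equiv.Perm.mul_apply, hc0p]
      exact Equiv.apply_symm_apply g q
  · refine ⟨g • famFin sxBase, smul_mem_sextets hg base_mem_sextets, ?_, ?_⟩
    · rw [smul_smul]
      have e : g * gperm tB0 * g⁻¹ * g = g * gperm tB0 := by group
      rw [e, mul_smul, K6_smul_base tB0_K6]
    · intro c hc hct
      have h3 := cent_stab (Subgroup.mul_mem _ (Subgroup.mul_mem _ hgi hc) hg)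
        ((comm_conj_iff g _ c).mp hct)
      rw [mul_smul, mul_smul, inv_smul_eq_iff] at h3
      exact h3

end Cfsg.Agent.S5607
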