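import Mathlib
import Cfsg.Statements.S5608
import Cfsg.Agent.Lib_helper2_Ord3b

set_option autoImplicit false
open scoped Pointwise
open Cfsg

namespace Cfsg.Agent.S5608

open Cfsg.Agent.helper2

open Cfsg.Agent.helper2.Golay Cfsg.Agent.helper27
open scoped Pointwise

def r3 : List ℕ × List ℕ := ([0, 1, 2, 3, 13, 17, 12, 18, 15, 7, 21, 10, 20, 22, 5, 19, 16, 14, 9, 8, 6, 11, 4, 23], [0, 1, 2, 3, 22, 14, 20, 9, 19, 18, 11, 21, 6, 4, 17, 8, 16, 5, 7, 15, 12, 10, 13, 23])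

def kap3 : List ℕ × List ℕ := ([7, 18, 6, 12, 23, 20, 8, 10, 14, 19, 0, 11, 15, 4, 1, 22, 5, 2, 3, 13, 17, 16, 21, 9], [10, 14, 17, 18, 13, 16, 2, 0, 6, 23, 7, 11, 3, 19, 8, 12, 21, 20, 1, 9, 5, 22, 15, 4])

def usM : List (List ℕ × List ℕ) := [
  ([23, 2, 1, 16, 17, 4, 6, 7, 20, 8, 12, 9, 15, 3, 13, 18, 14, 22, 10, 19, 11, 21, 5, 0], [23, 2, 1, 13, 5, 22, 6, 7, 9, 11, 18, 20, 10, 14, 16, 12, 3, 4, 15, 19, 8, 21, 17, 0]),
  ([23, 3, 16, 1, 4, 7, 21, 14, 22, 2, 12, 11, 8, 15, 18, 6, 17, 9, 5, 19, 20, 13, 10, 0], [23, 3, 9, 1, 4, 18, 15, 5, 12, 17, 22, 11, 10, 21, 7, 13, 2, 16, 14, 19, 20, 6, 8, 0]),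
  ([23, 16, 3, 2, 13, 6, 10, 17, 7, 11, 8, 1, 18, 14, 12, 5, 19, 20, 9, 4, 22, 15, 21, 0], [23, 11, 3, 2, 19, 15, 5, 8, 10, 18, 6, 9, 14, 4, 13, 21, 1, 7, 12, 16, 17, 22, 20, 0]),
  ([2, 23, 0, 16, 3, 4, 7, 6, 15, 8, 12, 10, 20, 17, 13, 18, 5, 22, 9, 21, 11, 19, 14, 1], [2, 23, 0, 4, 5, 16, 7, 6, 9, 18, 11, 20, 10, 14, 22, 8, 3, 13, 15, 21, 12, 19, 17, 1]),
  ([3, 23, 16, 0, 10, 18, 19, 17, 20, 14, 4, 13, 15, 11, 9, 12, 2, 7, 5, 6, 8, 22, 21, 1], [3, 23, 16, 0, 10, 18, 19, 17, 20, 14, 4, 13, 15, 11, 9, 12, 2, 7, 5, 6, 8, 22, 21, 1]),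
  ([16, 23, 3, 2, 15, 10, 6, 22, 8, 0, 9, 12, 14, 5, 21, 18, 13, 11, 4, 17, 7, 19, 20, 1], [9, 23, 3, 2, 18, 13, 6, 20, 8, 10, 5, 17, 11, 16, 12, 4, 0, 19, 15, 21, 22, 14, 7, 1]),
  ([1, 0, 23, 16, 21, 22, 18, 8, 10, 3, 17, 9, 20, 6, 4, 5, 19, 13, 15, 12, 14, 11, 7, 2], [1, 0, 23, 9, 14, 15, 13, 22, 7, 11, 8, 21, 19, 17, 20, 18, 3, 10, 6, 16, 12, 4, 5, 2]),
  ([3, 16, 23, 0, 9, 12, 19, 7, 8, 21, 1, 13, 18, 15, 20, 11, 22, 6, 17, 5, 10, 4, 14, 2], [3, 10, 23, 0, 21, 19, 17, 7, 8, 4, 20, 15, 5, 11, 22, 13, 1, 18, 12, 6, 14, 9, 16, 2]),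
  ([16, 3, 23, 1, 6, 11, 18, 17, 5, 9, 22, 7, 19, 12, 10, 15, 20, 21, 4, 13, 14, 8, 0, 2], [22, 3, 23, 1, 18, 8, 4, 11, 21, 9, 14, 5, 13, 19, 20, 15, 0, 7, 6, 12, 16, 17, 10, 2]),
  ([1, 0, 16, 23, 19, 18, 13, 12, 6, 22, 10, 4, 5, 8, 9, 14, 15, 7, 21, 11, 20, 17, 2, 3], [1, 0, 22, 23, 11, 12, 8, 17, 13, 14, 10, 19, 7, 6, 15, 16, 2, 21, 5, 4, 20, 18, 9, 3]),
  ([2, 16, 0, 23, 17, 6, 4, 11, 5, 1, 19, 13, 9, 7, 12, 15, 21, 20, 10, 18, 8, 14, 22, 3], [2, 9, 0, 23, 6, 8, 5, 13, 20, 12, 18, 7, 14, 11, 21, 15, 1, 4, 19, 10, 17, 16, 22, 3]),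
  ([16, 2, 1, 23, 7, 11, 22, 12, 9, 0, 15, 4, 17, 14, 10, 8, 6, 21, 20, 5, 19, 18, 13, 3], [9, 2, 1, 23, 11, 19, 16, 4, 15, 8, 14, 5, 7, 22, 13, 10, 0, 12, 21, 20, 18, 17, 6, 3]),
  ([1, 0, 3, 2, 11, 8, 18, 9, 10, 21, 6, 20, 22, 17, 15, 4, 12, 19, 14, 7, 5, 23, 13, 16], [1, 0, 3, 2, 15, 20, 10, 19, 5, 7, 8, 4, 16, 22, 18, 14, 23, 13, 6, 17, 11, 9, 12, 21]),
  ([2, 3, 0, 1, 13, 15, 17, 21, 4, 23, 20, 14, 18, 9, 19, 12, 10, 8, 11, 7, 6, 22, 5, 16], [2, 3, 0, 1, 8, 22, 20, 19, 17, 13, 16, 18, 15, 4, 11, 5, 23, 6, 12, 14, 10, 7, 21, 9]),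
  ([3, 2, 1, 0, 18, 8, 6, 13, 23, 9, 20, 11, 21, 12, 15, 17, 5, 19, 10, 14, 4, 7, 22, 16], [3, 2, 1, 0, 20, 16, 6, 21, 5, 9, 18, 11, 13, 7, 19, 14, 23, 15, 4, 17, 10, 12, 22, 8])]

theorem usM_ok : usM.all (fun u => tablesOK u.1 u.2 && codeOK u.2) = true := by
  decide +kernel

theorem usM_spec : ∀ u ∈ usM, tablesOK u.1 u.2 = true ∧ codeOK u.2 = true := by
  intro u hu
  have := List.all_eq_true.mp usM_ok u hu
  rwa [Bool.and_eq_true] at this

theorem r3_ok : tablesOK r3.1 r3.2 = true := by decide +kernel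

theorem kap3_ok : tablesOK kap3.1 kap3.2 = true ∧ codeOK kap3.2 = true := by
  constructor <;> decide +kernel

theorem r3_conj : comp kap3.1 (comp rep3A.1 kap3.2) = r3.1 := by decide +kernel

theorem r3_fix : ∀ i < 24, tb r3.1 i = i → i ∈ [23, 0, 1, 2, 3, 16] := by decide +kernel

set_option maxRecDepth 100000 in
/-- No candidate commutes with the representative. -/
theorem noComm : (candsOf usM).all (fun d =>
    (List.range 24).any (fun i => tb d.1 (tb r3.1 i) != tb r3.1 (tb d.1 i))) = true := by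
  decide +kernel

set_option maxRecDepth 100000 in
set_option synthInstance.maxSize 10000 in
set_option synthInstance.maxHeartbeats 2000000 in
theorem matchL : ∀ e0 ∈ [23, 0, 1, 2, 3, 16], ∀ e1 ∈ [23, 0, 1, 2, 3, 16],
    ∀ e2 ∈ [23, 0, 1, 2, 3, 16], ∀ e3 ∈ [23, 0, 1, 2, 3, 16], ∀ e4 ∈ [23, 0, 1, 2, 3, 16],
    (e0 ≠ 23 ∧ e1 ≠ 0 ∧ e2 ≠ 1 ∧ e3 ≠ 2 ∧ e4 ≠ 3) →
    (e0 ≠ e1 ∧ e0 ≠ e2 ∧ e0 ≠ e3 ∧ e0 ≠ e4 ∧ e1 ≠ e2 ∧ e1 ≠ e3 ∧ e1 ≠ e4 ∧ e2 ≠ e3 ∧ e2 ≠ e4 ∧ e3 ≠ e4) →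
    ((e0 = 0 → e1 = 23) ∧ (e0 = 1 → e2 = 23) ∧ (e0 = 2 → e3 = 23) ∧ (e0 = 3 → e4 = 23) ∧ (e1 = 23 → e0 = 0) ∧ (e1 = 1 → e2 = 0) ∧ (e1 = 2 → e3 = 0) ∧ (e1 = 3 → e4 = 0) ∧ (e2 = 23 → e0 = 1) ∧ (e2 = 0 → e1 = 1) ∧ (e2 = 2 → e3 = 1) ∧ (e2 = 3 → e4 = 1) ∧ (e3 = 23 → e0 = 2) ∧ (e3 = 0 → e1 = 2) ∧ (e3 = 1 → e2 = 2) ∧ (e3 = 3 → e4 = 2) ∧ (e4 = 23 → e0 = 3) ∧ (e4 = 0 → e1 = 3) ∧ (e4 = 1 → e2 = 3) ∧ (e4 = 2 → e3 = 3)) →
    matchB usM [e0, e1, e2, e3, e4] = true := by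
  decide +kernel

theorem conj_r3 : gperm kap3 * gperm rep3A * (gperm kap3)⁻¹ = gperm r3 := by
  obtain ⟨hct, hcg⟩ := gperm_conjD kap3_ok.1 rep3A_ok.1
  rw [← hcg]
  exact gperm_eq_of_fst hct r3_ok (by rw [conjD_fst]; exact r3_conj)

/-- No fixed-point-free involution of `M24` commutes with the representative. -/
theorem no_comm (σ : Equiv.Perm GolayPt) (hσ : σ ∈ M24) (h2 : ∀ p, σ (σ p) = p)
    (hf : ∀ p, σ p ≠ p) (hc : ∀ p, σ (gperm r3 p) = gperm r3 (σ p)) : False := by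
  have hs := tablesOK_spec r3_ok
  have hmem : ∀ b < 24, tb r3.1 b = b → idx (σ (pt b)) ∈ [23, 0, 1, 2, 3, 16] := by
    intro b hb hbb
    apply r3_fix _ (idx_lt _)
    have h1 := hc (pt b)
    rw [gperm_pt r3_ok hb, hbb, gperm_apply r3_ok] at h1
    have h3 := congrArg idx h1
    rw [idx_pt _ (hs _ (idx_lt _)).1] at h3
    exact h3.symm
  have hne : ∀ b < 24, idx (σ (pt b)) ≠ b := by
    intro b hb h
    apply hf (pt b)
    have h1 := congrArg pt h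
    rwa [pt_idx] at h1
  have hinj : ∀ b b', b < 24 → b' < 24 → b ≠ b' → idx (σ (pt b)) ≠ idx (σ (pt b')) := by
    intro b b' hb hb' hbb h
    apply hbb
    have h1 := congrArg pt h
    rw [pt_idx, pt_idx] at h1
    have h3 := congrArg idx (σ.injective h1)
    rwa [idx_pt _ hb, idx_pt _ hb'] at h3
  have hinv : ∀ b b', b < 24 → b' < 24 → idx (σ (pt b)) = b' → idx (σ (pt b')) = b := by
    intro b b' hb hb' h
    have h1 := congrArg pt h
    rw [pt_idx] at h1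
    rw [← h1, h2, idx_pt _ hb]
  obtain ⟨u, hu, u0, u1, u2, u3, u4⟩ := matchB_spec (matchL _ (hmem 23 (by norm_num) (by decide +kernel)) _ (hmem 0 (by norm_num) (by decide +kernel)) _ (hmem 1 (by norm_num) (by decide +kernel)) _ (hmem 2 (by norm_num) (by decide +kernel)) _ (hmem 3 (by norm_num) (by decide +kernel))
    ⟨hne 23 (by norm_num), hne 0 (by norm_num), hne 1 (by norm_num), hne 2 (by norm_num), hne 3 (by norm_num)⟩
    ⟨hinj 23 0 (by norm_num) (by norm_num) (by norm_num), hinj 23 1 (by norm_num) (by norm_num) (by norm_num), hinj 23 2 (by norm_num) (by norm_num) (by norm_num), hinj 23 3 (by norm_num) (by norm_num) (by norm_num), hinj 0 1 (by norm_num) (by norm_num) (by norm_num), hinj 0 2 (by norm_num) (by norm_num) (by norm_num), hinj 0 3 (by norm_num) (by norm_num) (by norm_num), hinj 1 2 (by norm_num) (by norm_num) (by norm_num), hinj 1 3 (by norm_num) (by norm_num) (by norm_num),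 hinj 2 3 (by norm_num) (by norm_num) (by norm_num)⟩
    ⟨hinv 23 0 (by norm_num) (by norm_num), hinv 23 1 (by norm_num) (by norm_num), hinv 23 2 (by norm_num) (by norm_num), hinv 23 3 (by norm_num) (by norm_num), hinv 0 23 (by norm_num) (by norm_num), hinv 0 1 (by norm_num) (by norm_num), hinv 0 2 (by norm_num) (by norm_num), hinv 0 3 (by norm_num) (by norm_num), hinv 1 23 (by norm_num) (by norm_num), hinv 1 0 (by norm_num) (by norm_num), hinv 1 2 (by norm_num) (by norm_num), hinv 1 3 (by norm_num) (by norm_num), hinv 2 23 (by norm_num) (by norm_num), hinv 2 0 (by norm_num) (by norm_num), hinv 2 1 (by norm_num) (by norm_num), hinv 2 3 (by norm_num) (by norm_num), hinv 3 23 (by norm_num) (by norm_num), hinv 3 0 (by norm_num) (by norm_num), hinv 3 1 (by norm_num) (by norm_num), hinv 3 2 (by norm_num) (by norm_num)⟩)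
  obtain ⟨m, hm, hgm⟩ := normal_form hσ (usM_spec u hu).1 (usM_spec u hu).2 (by
    intro j hj
    interval_cases j
    · show σ (pt 23) = pt (tb u.1 23)
      rw [u0, pt_idx]
    · show σ (pt 0) = pt (tb u.1 0)
      rw [u1, pt_idx]
    · show σ (pt 1) = pt (tb u.1 1)
      rw [u2, pt_idx]
    · show σ (pt 2) = pt (tb u.1 2)
      rw [u3, pt_idx]
    · show σ (pt 3) = pt (tb u.1 3)
      rw [u4, pt_idx])
  have hd := mem_candsOf hu hm
  have ht := tablesOK_candsOf usM_spec _ hd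
  have hds := tablesOK_spec ht
  have := List.all_eq_true.mp noComm _ hd
  rw [List.any_eq_true] at this
  obtain ⟨i, hi, hne'⟩ := this
  rw [List.mem_range] at hi
  rw [bne_iff_ne] at hne'
  apply hne'
  have h1 := hc (pt i)
  rw [hgm, gperm_pt r3_ok hi, gperm_pt ht (hs i hi).1, gperm_pt ht hi,
    gperm_pt r3_ok (hds i hi).1] at h1
  have h3 := congrArg idx h1
  rwa [idx_pt _ (hds _ (hs i hi).1).1, idx_pt _ (hs _ (hds i hi).1).1] at h3

theorem card_fix_conj_repA {g κ : Equiv.Perm GolayPt} (h : κ * g * κ⁻¹ = gperm repA) :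
    (Finset.univ.filter fun p => g p = p).card = 8 := by
  rw [fix_filter_conj κ g, h, repA_filter, Finset.card_smul_finset, card_pts]
  decide +kernel

theorem card_fix_conj_repB {g κ : Equiv.Perm GolayPt} (h : κ * g * κ⁻¹ = gperm repB) :
    (Finset.univ.filter fun p => g p = p).card = 0 := by
  rw [Finset.card_eq_zero, Finset.filter_eq_empty_iff]
  intro p _
  exact fpf_of_conj_repB h p

/-- An element of order 3 without fixed points does not commute with an involution with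
8 fixed points. -/
theorem no_3B_2A (x s : Equiv.Perm GolayPt) (h3 : x * x * x = 1) (hx : ∀ p, x p ≠ p)
    (hc : Commute x s) (h8 : (Finset.univ.filter fun p => s p = p).card = 8) : False := by
  have hinv : ∀ p, s (x p) = x p ↔ s p = p := by
    intro p
    have h1 : s (x p) = x (s p) := by
      have := congrArg (fun σ : Equiv.Perm GolayPt => σ p) hc.eq
      simpa using this.symm
    rw [h1]
    exact x.injective.eq_iff
  let σ : Equiv.Perm {p // s p = p} := x.subtypePerm (fun p => hinv p)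
  have hσ3 : σ ^ 3 ^ 1 = 1 := by
    apply Equiv.Perm.ext
    intro a
    apply Subtype.ext
    have := congrArg (fun τ : Equiv.Perm GolayPt => τ a.1) h3
    simp only [Equiv.Perm.mul_apply, Equiv.Perm.one_apply] at this
    simp only [pow_succ, pow_zero, one_mul, Equiv.Perm.mul_apply,
      Equiv.Perm.one_apply, σ, Equiv.Perm.subtypePerm_apply]
    exact this
  have hcard : Fintype.card {p // s p = p} = 8 := by
    rw [Fintype.card_subtype]
    exact h8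
  have hp3 : Fact (Nat.Prime 3) := ⟨Nat.prime_three⟩
  obtain ⟨a, ha⟩ := Equiv.Perm.exists_fixed_point_of_prime (p := 3) (n := 1)
    (by rw [hcard]; norm_num) hσ3
  apply hx a.1
  have := congrArg Subtype.val ha
  simpa [σ] using this

theorem result (x s : Equiv.Perm Cfsg.GolayPt) (hx : x ∈ Cfsg.M24) (hs : s ∈ Cfsg.M24) (h₃ : orderOf x = 3) (h₂ : orderOf s = 2) (hc : Commute x s) : ((Finset.univ.filter fun p => x p = p).card = 6 ∧ (Finset.univ.filter fun p => s p = p).card = 8) ∨ ((Finset.univ.filter fun p => x p = p).card = 0 ∧ (Finset.univ.filter fun p => s p = p).card = 0) := by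
  have hxcl := ord3_classes hx h₃
  have hscl := inv_classes hs h₂
  obtain ⟨hx3, hx1⟩ := cube_of_orderOf_three h₃
  obtain ⟨hs2, hs1⟩ := sq_of_orderOf_two h₂
  rcases hxcl with ⟨κ, hκ, ex⟩ | ⟨κ, hκ, ex⟩
  · rcases hscl with ⟨κ', hκ', es⟩ | ⟨κ', hκ', es⟩
    · exact Or.inl ⟨card_fix_conj_rep3A ex, card_fix_conj_repA es⟩
    · exfalso
      -- conjugate so that x becomes the representative with fixed base points
      set k := gperm kap3 * κ with hk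
      have hkm : k ∈ M24 := Subgroup.mul_mem _ (gperm_mem kap3_ok.1 kap3_ok.2) hκ
      have hkx : k * x * k⁻¹ = gperm r3 := by
        have : k * x * k⁻¹ = gperm kap3 * (κ * x * κ⁻¹) * (gperm kap3)⁻¹ := by
          rw [hk]; group
        rw [this, ex, conj_r3]
      have hfpf := fpf_of_conj_repB es
      apply no_comm (k * s * k⁻¹) (Subgroup.mul_mem _ (Subgroup.mul_mem _ hkm hs)
        (Subgroup.inv_mem _ hkm))
      · intro p
        have : (k * s * k⁻¹) ((k * s * k⁻¹) p) = (k * (s * s) * k⁻¹) p := by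
          rw [← Equiv.Perm.mul_apply]
          congr 1
          group
        rw [this, hs2]
        simp
      · intro p hp
        rw [fixed_conj] at hp
        exact hfpf _ hp
      · intro p
        rw [← hkx, ← Equiv.Perm.mul_apply, ← Equiv.Perm.mul_apply]
        congr 1
        have : k * s * k⁻¹ * (k * x * k⁻¹) = k * (s * x) * k⁻¹ := by group
        rw [this, ← hc.eq]
        group
  · rcases hscl with ⟨κ', hκ', es⟩ | ⟨κ', hκ', es⟩
    · exfalso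
      exact no_3B_2A x s hx3 (fpf_of_conj_rep3B ex) hc (card_fix_conj_repA es)
    · exact Or.inr ⟨card_fix_conj_rep3B ex, card_fix_conj_repB es⟩

end Cfsg.Agent.S5608
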