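import Mathlib
import Cfsg.Statements.S5613
import Cfsg.Agent.Lib_helper2_M24i

set_option autoImplicit false
open scoped Pointwise
open Cfsg

namespace Cfsg.Agent.S5613

open Cfsg.Agent.helper2

theorem result (o o' : Finset Cfsg.GolayPt) (ho : o ∈ Cfsg.octads) (ho' : o' ∈ Cfsg.octads) : ((o ∩ o').card = 0 → Nat.card ↥(MulAction.stabilizer Cfsg.M24 o ⊓ MulAction.stabilizer Cfsg.M24 o') = 10752) ∧ ((o ∩ o').card = 4 → Nat.card ↥(MulAction.stabilizer Cfsg.M24 o ⊓ MulAction.stabilizer Cfsg.M24 o') = 1152) ∧ ((o ∩ o').card = 2 → Nat.card ↥(MulAction.stabilizer Cfsg.M24 o ⊓ MulAction.stabilizer Cfsg.M24 o') = 720) := by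
  refine ⟨fun h => ?_, fun h => ?_, fun h => ?_⟩
  · have := Golay.card_stab_octpair ho ho' 30 (by rw [h]; exact fun a ha => Golay.card_octClass0 ha)
    omega
  · have := Golay.card_stab_octpair ho ho' 280 (by rw [h]; exact fun a ha => Golay.card_octClass4 ha)
    omega
  · have := Golay.card_stab_octpair ho ho' 448 (by rw [h]; exact fun a ha => Golay.card_octClass2 ha)
    omega

end Cfsg.Agent.S5613
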