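import Mathlib
import Cfsg.Statements.S5614
import Cfsg.Agent.Lib_helper2_M24i

set_option autoImplicit false
open Cfsg

namespace Cfsg.Agent.S5614

open Cfsg.Agent.helper2 Cfsg.Agent.helper2.Golay
open scoped Pointwise

theorem o1_mem : pts (cw 2) ∈ octads := pts_mem_octads (by norm_num) (by decide +kernel)

theorem o01_inter : (pts (cw 47) ∩ pts (cw 2)).card = 2 := by
  rw [← pts_and, card_pts]
  decide +kernel

theorem k0_stab_o1 : ∀ k < 48, k % 3 = 0 →
    (∀ i < 24, (pull (tb (hsD k).2) (cw 2)).testBit i = (cw 2).testBit i) → k = 0 := by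
  decide +kernel

/-- An element fixing an octad pointwise and stabilising an octad meeting it in two points is
trivial. -/
theorem fix_stab_trivial {o o' : Finset GolayPt} (ho : o ∈ octads) (ho' : o' ∈ octads)
    (h2 : (o ∩ o').card = 2) {t : Equiv.Perm GolayPt} (ht : t ∈ fixM24 o) (hto' : t • o' = o') :
    t = 1 := by
  have hmem : (o, o') ∈ MulAction.orbit M24 (pts (cw 47), pts (cw 2)) := by
    rw [orbit_octpair o0_mem o1_mem, o01_inter]
    exact ⟨ho, ho', h2⟩
  rw [MulAction.mem_orbit_iff] at hmem
  obtain ⟨g, hg⟩ := hmem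
  have hg0 : (g : Equiv.Perm GolayPt) • pts (cw 47) = o := congrArg Prod.fst hg
  have hg1 : (g : Equiv.Perm GolayPt) • pts (cw 2) = o' := congrArg Prod.snd hg
  rw [← hg0, conj_mem_fixM24 g.2] at ht
  obtain ⟨k, hk, hk3, hkt⟩ := mem_fixM24_o0.mp ht
  have h3 : ((g : Equiv.Perm GolayPt)⁻¹ * t * g) • pts (cw 2) = pts (cw 2) := by
    rw [mul_smul, mul_smul, hg1, hto', ← hg1, inv_smul_smul]
  rw [hkt, hperm_smul_pts hk] at h3
  have hk0 := k0_stab_o1 k hk hk3 (testBit_eq_of_pts_eq h3)
  rw [hk0, hperm_zero] at hkt
  have : t = (g : Equiv.Perm GolayPt) * ((g : Equiv.Perm GolayPt)⁻¹ * t * g) *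
      (g : Equiv.Perm GolayPt)⁻¹ := by group
  rw [this, hkt]
  group

theorem result (o o' : Finset Cfsg.GolayPt) (ho : o ∈ Cfsg.octads) (ho' : o' ∈ Cfsg.octads) (h₂ : (o ∩ o').card = 2) : Nonempty (↥(MulAction.stabilizer Cfsg.M24 o ⊓ MulAction.stabilizer Cfsg.M24 o') ≃* Equiv.Perm (Fin 6)) := by
  classical
  have hmem : ∀ g : ↥(MulAction.stabilizer M24 o ⊓ MulAction.stabilizer M24 o'),
      ((g : M24) : Equiv.Perm GolayPt) • o = o ∧ ((g : M24) : Equiv.Perm GolayPt) • o' = o' := by
    intro g
    have := g.2
    rw [Subgroup.mem_inf, MulAction.mem_stabilizer_iff, MulAction.mem_stabilizer_iff] at this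
    exact this
  have hinv : ∀ g : ↥(MulAction.stabilizer M24 o ⊓ MulAction.stabilizer M24 o'),
      ∀ x, ((g : M24) : Equiv.Perm GolayPt) x ∈ o \ o' ↔ x ∈ o \ o' := by
    intro g x
    rw [Finset.mem_sdiff, Finset.mem_sdiff, inv_iff_of_smul_eq (hmem g).1,
      inv_iff_of_smul_eq (hmem g).2]
  let ρ : ↥(MulAction.stabilizer M24 o ⊓ MulAction.stabilizer M24 o') →*
      Equiv.Perm ↥(o \ o') :=
    { toFun := fun g => ((g : M24) : Equiv.Perm GolayPt).subtypePerm (hinv g)
      map_one' := by
        apply Equiv.ext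
        intro x
        rfl
      map_mul' := fun g g' => by
        apply Equiv.ext
        intro x
        rfl }
  have hinj : Function.Injective ρ := by
    rw [injective_iff_map_eq_one]
    intro g hg
    have hfix : ∀ x ∈ o \ o', ((g : M24) : Equiv.Perm GolayPt) x = x := by
      intro x hx
      have := DFunLike.congr_fun hg ⟨x, hx⟩
      exact congrArg Subtype.val this
    obtain ⟨a, b, hab, hI⟩ := Finset.card_eq_two.mp h₂
    have hIa : a ∈ o ∩ o' := by rw [hI]; exact Finset.mem_insert_self _ _
    have hIb : b ∈ o ∩ o' := by rw [hI]; exact Finset.mem_insert_of_mem (Finset.mem_singleton_self _)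
    have hpres : ∀ x, x ∈ o ∩ o' → ((g : M24) : Equiv.Perm GolayPt) x ∈ o ∩ o' := by
      intro x hx
      rw [Finset.mem_inter] at hx ⊢
      exact ⟨(inv_iff_of_smul_eq (hmem g).1 x).mpr hx.1, (inv_iff_of_smul_eq (hmem g).2 x).mpr hx.2⟩
    have hga : ((g : M24) : Equiv.Perm GolayPt) a = a := by
      by_contra hne
      have h1 := hpres a hIa
      rw [hI, Finset.mem_insert, Finset.mem_singleton] at h1
      have hgab : ((g : M24) : Equiv.Perm GolayPt) a = b := h1.resolve_left hne
      have h2 := hpres b hIb
      rw [hI, Finset.mem_insert, Finset.mem_singleton] at h2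
      have hgba : ((g : M24) : Equiv.Perm GolayPt) b = a := by
        rcases h2 with h2 | h2
        · exact h2
        · exfalso
          apply hab
          apply ((g : M24) : Equiv.Perm GolayPt).injective
          rw [hgab, h2]
      -- the restriction to o is a transposition
      have hao : a ∈ o := (Finset.mem_inter.mp hIa).1
      have hbo : b ∈ o := (Finset.mem_inter.mp hIb).1
      have hswap : ((g : M24) : Equiv.Perm GolayPt).subtypePerm
          (inv_iff_of_smul_eq (hmem g).1) = Equiv.swap (⟨a, hao⟩ : ↥o) ⟨b, hbo⟩ := by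
        apply Equiv.ext
        intro x
        apply Subtype.ext
        by_cases hxa : x = ⟨a, hao⟩
        · rw [hxa, Equiv.swap_apply_left]
          exact hgab
        · by_cases hxb : x = ⟨b, hbo⟩
          · rw [hxb, Equiv.swap_apply_right]
            exact hgba
          · rw [Equiv.swap_apply_of_ne_of_ne hxa hxb]
            apply hfix
            rw [Finset.mem_sdiff]
            refine ⟨x.2, fun hx' => ?_⟩
            have : (x : GolayPt) ∈ o ∩ o' := Finset.mem_inter.mpr ⟨x.2, hx'⟩
            rw [hI, Finset.mem_insert, Finset.mem_singleton] at this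
            rcases this with h | h
            · exact hxa (Subtype.ext h)
            · exact hxb (Subtype.ext h)
      have halt : ((g : M24) : Equiv.Perm GolayPt).subtypePerm
          (inv_iff_of_smul_eq (hmem g).1) ∈ (alternatingGroup ↥o : Set (Equiv.Perm ↥o)) := by
        rw [← induced_eq_alternating ho]
        exact ⟨_, (g : M24).2, _, rfl⟩
      rw [hswap, SetLike.mem_coe, Equiv.Perm.mem_alternatingGroup, Equiv.Perm.sign_swap] at halt
      · exact absurd halt (by decide)
      · intro h
        exact hab (congrArg Subtype.val h)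
    have hgb : ((g : M24) : Equiv.Perm GolayPt) b = b := by
      have h2 := hpres b hIb
      rw [hI, Finset.mem_insert, Finset.mem_singleton] at h2
      rcases h2 with h2 | h2
      · exfalso
        apply hab
        apply ((g : M24) : Equiv.Perm GolayPt).injective
        rw [hga, h2]
      · exact h2
    have hfixo : ((g : M24) : Equiv.Perm GolayPt) ∈ fixM24 o := by
      rw [mem_fixM24]
      refine ⟨(g : M24).2, fun x hx => ?_⟩
      by_cases hx' : x ∈ o'
      · have : x ∈ o ∩ o' := Finset.mem_inter.mpr ⟨hx, hx'⟩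
        rw [hI, Finset.mem_insert, Finset.mem_singleton] at this
        rcases this with rfl | rfl
        · exact hga
        · exact hgb
      · exact hfix x (Finset.mem_sdiff.mpr ⟨hx, hx'⟩)
    have h1 := fix_stab_trivial ho ho' h₂ hfixo (hmem g).2
    exact Subtype.ext (Subtype.ext h1)
  have hcardG : Nat.card ↥(MulAction.stabilizer M24 o ⊓ MulAction.stabilizer M24 o') = 720 := by
    have := card_stab_octpair ho ho' 448 (by rw [h₂]; exact fun a ha => card_octClass2 ha)
    omega
  have h6 : (o \ o').card = 6 := by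
    have h1 := Finset.card_sdiff_add_card_inter o o'
    rw [h₂, octads_steiner.1 o ho] at h1
    omega
  have hcardP : Nat.card (Equiv.Perm ↥(o \ o')) = 720 := by
    rw [Nat.card_eq_fintype_card, Fintype.card_perm, Fintype.card_coe, h6]
    rfl
  have hbij := (Nat.bijective_iff_injective_and_card ρ).mpr ⟨hinj, hcardG.trans hcardP.symm⟩
  exact ⟨(MulEquiv.ofBijective ρ hbij).trans
    (Equiv.permCongrHom ((o \ o').equivFinOfCardEq h6))⟩

end Cfsg.Agent.S5614
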