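import Mathlib
import Cfsg.Statements.S5615
import Cfsg.Agent.Lib_helper2_OctTrio

set_option autoImplicit false
open scoped Pointwise
open Cfsg

namespace Cfsg.Agent.S5615

open Cfsg.Agent.helper2

open Cfsg.Agent.helper2.Golay Cfsg.Agent.helper27
open scoped Pointwise
open MulAction

theorem o0_mem_oct : pts (cw 47) ∈ octads := pts_mem_octads (by norm_num) (by decide +kernel)

theorem mem_smul_of_fix {k : Equiv.Perm GolayPt} {o : Finset GolayPt}
    {T : Finset (Finset GolayPt)} (hk : k • o = o) (ho : o ∈ T) : o ∈ k • T := by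
  have := Finset.smul_mem_smul_finset (a := k) ho
  rwa [hk] at this

/-- Two-transitivity on the trios through the base octad. -/
theorem two_trans_base {T1 T2 T1' T2' : Finset (Finset GolayPt)} (h1 : T1 ∈ trios)
    (h2 : T2 ∈ trios) (h1' : T1' ∈ trios) (h2' : T2' ∈ trios) (o1 : pts (cw 47) ∈ T1)
    (o2 : pts (cw 47) ∈ T2) (o1' : pts (cw 47) ∈ T1') (o2' : pts (cw 47) ∈ T2')
    (hne : T1 ≠ T2) (hne' : T1' ≠ T2') :
    ∃ g ∈ M24, g • pts (cw 47) = pts (cw 47) ∧ g • T1 = T1' ∧ g • T2 = T2' := by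
  obtain ⟨k, hk, hko, hkT⟩ := trans15 h1 o1
  obtain ⟨k', hk', hko', hkT'⟩ := trans15 h1' o1'
  have hkio : k⁻¹ • pts (cw 47) = pts (cw 47) := inv_smul_eq_iff.mpr hko.symm
  have hkio' : k'⁻¹ • pts (cw 47) = pts (cw 47) := inv_smul_eq_iff.mpr hko'.symm
  have hU : k⁻¹ • T2 ∈ trios := smul_mem_trios (Subgroup.inv_mem _ hk) h2
  have hU' : k'⁻¹ • T2' ∈ trios := smul_mem_trios (Subgroup.inv_mem _ hk') h2'
  have hUne : k⁻¹ • T2 ≠ famFin tr0 := by
    intro h
    apply hne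
    rw [← hkT, ← h, smul_inv_smul]
  have hUne' : k'⁻¹ • T2' ≠ famFin tr0 := by
    intro h
    apply hne'
    rw [← hkT', ← h, smul_inv_smul]
  obtain ⟨h, hh, hho, hhT0, hhU⟩ := trans14 hU (mem_smul_of_fix hkio o2) hUne
  obtain ⟨h', hh', hho', hhT0', hhU'⟩ := trans14 hU' (mem_smul_of_fix hkio' o2') hUne'
  have hhio : h⁻¹ • pts (cw 47) = pts (cw 47) := inv_smul_eq_iff.mpr hho.symm
  refine ⟨k' * h' * h⁻¹ * k⁻¹, Subgroup.mul_mem _ (Subgroup.mul_mem _ (Subgroup.mul_mem _ hk' hh')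
    (Subgroup.inv_mem _ hh)) (Subgroup.inv_mem _ hk), ?_, ?_, ?_⟩
  · rw [mul_smul, mul_smul, mul_smul, hkio, hhio, hho', hko']
  · have e1 : k⁻¹ • T1 = famFin tr0 := inv_smul_eq_iff.mpr hkT.symm
    have e2 : h⁻¹ • famFin tr0 = famFin tr0 := inv_smul_eq_iff.mpr hhT0.symm
    rw [mul_smul, mul_smul, mul_smul, e1, e2, hhT0', hkT']
  · have e2 : h⁻¹ • k⁻¹ • T2 = famFin tr1 := inv_smul_eq_iff.mpr hhU.symm
    rw [mul_smul, mul_smul, mul_smul, e2, hhU', smul_inv_smul]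

/-- The pointwise stabiliser of an octad fixes every trio through it. -/
theorem fix_trios {o : Finset GolayPt} (ho : o ∈ octads) {g : Equiv.Perm GolayPt}
    (hg : g ∈ fixM24 o) {T : Finset (Finset GolayPt)} (hT : T ∈ trios) (hoT : o ∈ T) :
    g • T = T := by
  obtain ⟨κ, hκ, hκo⟩ := octads_transitive ho o0_mem_oct
  have hκi : κ⁻¹ • pts (cw 47) = o := inv_smul_eq_iff.mpr hκo.symm
  have h1 : κ * g * κ⁻¹ ∈ fixM24 (pts (cw 47)) := by
    have := (conj_mem_fixM24 (Subgroup.inv_mem _ hκ) (pts (cw 47)) g).mp (by rw [hκi]; exact hg)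
    rwa [inv_inv] at this
  have h2 : pts (cw 47) ∈ κ • T := by
    have := Finset.smul_mem_smul_finset (a := κ) hoT
    rwa [hκo] at this
  have h3 := fix_trios_o0 h1 (smul_mem_trios hκ hT) h2
  rw [mul_smul, mul_smul, inv_smul_smul] at h3
  exact MulAction.injective κ h3

/-- An element of the octad stabiliser fixing every trio through the octad fixes the octad
pointwise. -/
theorem kernel_le {o : Finset GolayPt} (ho : o ∈ octads)
    (hmove : ∃ h ∈ stabM24 o, ∃ T ∈ trios, o ∈ T ∧ h • T ≠ T) {g : Equiv.Perm GolayPt}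
    (hg : g ∈ stabM24 o) (hfix : ∀ T ∈ trios, o ∈ T → g • T = T) : g ∈ fixM24 o := by
  classical
  have hstab : ∀ n : stabM24 o, (n : Equiv.Perm GolayPt) • o = o := fun n => (mem_stabM24.mp n.2).2
  let N : Subgroup (stabM24 o) :=
    { carrier := {n | ∀ T ∈ trios, o ∈ T → (n : Equiv.Perm GolayPt) • T = T}
      mul_mem' := by
        intro a b ha hb T hT hoT
        rw [Subgroup.coe_mul, mul_smul, hb T hT hoT, ha T hT hoT]
      one_mem' := by
        intro T _ _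
        rw [Subgroup.coe_one, one_smul]
      inv_mem' := by
        intro a ha T hT hoT
        rw [Subgroup.coe_inv, inv_smul_eq_iff, ha T hT hoT] }
  have hNn : N.Normal := by
    constructor
    intro n hn h T hT hoT
    have hhi : (h : Equiv.Perm GolayPt)⁻¹ • o = o := inv_smul_eq_iff.mpr (hstab h).symm
    have hT' : (h : Equiv.Perm GolayPt)⁻¹ • T ∈ trios :=
      smul_mem_trios (Subgroup.inv_mem _ (mem_stabM24.mp h.2).1) hT
    have hoT' : o ∈ (h : Equiv.Perm GolayPt)⁻¹ • T := mem_smul_of_fix hhi hoT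
    rw [Subgroup.coe_mul, Subgroup.coe_mul, Subgroup.coe_inv, mul_smul, mul_smul,
      hn _ hT' hoT', smul_inv_smul]
  let f : stabM24 o →* alternatingGroup ↥o := (resHom o).codRestrict (alternatingGroup ↥o)
    (fun x => by
      rw [← range_resHom ho]
      exact ⟨x, rfl⟩)
  have hf : Function.Surjective f := by
    rintro ⟨e, he⟩
    have he' : e ∈ (resHom o).range := by
      rw [range_resHom ho]
      exact he
    obtain ⟨x, rfl⟩ := he'
    exact ⟨x, Subtype.ext rfl⟩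
  have hsimple : IsSimpleGroup (alternatingGroup ↥o) := alternatingGroup.isSimpleGroup (by
    rw [Nat.card_eq_fintype_card, Fintype.card_coe, octads_steiner.1 o ho]
    norm_num)
  have hmapN : (N.map f).Normal := hNn.map f hf
  have hker : ∀ x : stabM24 o, f x = 1 → (x : Equiv.Perm GolayPt) ∈ fixM24 o := by
    intro x hx
    apply (mem_ker_resHom x).mp
    rw [MonoidHom.mem_ker]
    exact congrArg Subtype.val hx
  rcases hmapN.eq_bot_or_eq_top with hbot | htop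
  · have h1 : f ⟨g, hg⟩ ∈ N.map f := Subgroup.mem_map_of_mem f (show (⟨g, hg⟩ : stabM24 o) ∈ N from
      hfix)
    rw [hbot, Subgroup.mem_bot] at h1
    exact hker ⟨g, hg⟩ h1
  · exfalso
    obtain ⟨h, hh, T, hT, hoT, hne⟩ := hmove
    have h1 : f ⟨h, hh⟩ ∈ N.map f := by
      rw [htop]
      exact Subgroup.mem_top _
    obtain ⟨n, hn, hnf⟩ := Subgroup.mem_map.mp h1
    have h2 : f (n⁻¹ * ⟨h, hh⟩) = 1 := by
      rw [map_mul, map_inv, hnf, inv_mul_cancel]
    have h3 := hker _ h2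
    have h4 := fix_trios ho h3 hT hoT
    rw [Subgroup.coe_mul, Subgroup.coe_inv, mul_smul, inv_smul_eq_iff] at h4
    apply hne
    show h • T = T
    rw [h4]
    exact hn T hT hoT

theorem result (o : Finset Cfsg.GolayPt) (ho : o ∈ Cfsg.octads) : {T : Finset (Finset Cfsg.GolayPt) | T ∈ Cfsg.trios ∧ o ∈ T}.ncard = 15 ∧ (∀ T₁ T₂ T₁' T₂' : Finset (Finset Cfsg.GolayPt), T₁ ∈ Cfsg.trios → T₂ ∈ Cfsg.trios → T₁' ∈ Cfsg.trios → T₂' ∈ Cfsg.trios → o ∈ T₁ → o ∈ T₂ → o ∈ T₁' → o ∈ T₂' → T₁ ≠ T₂ → T₁' ≠ T₂' → ∃ g ∈ Cfsg.M24, g • o = o ∧ g • T₁ = T₁' ∧ g • T₂ = T₂') ∧ ∀ g ∈ Cfsg.M24, g • o = o → ((∀ T ∈ Cfsg.trios, o ∈ T → g • T = T) ↔ ∀ p ∈ o, g p = p) := by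
  obtain ⟨κ, hκ, hκo⟩ := octads_transitive ho o0_mem_oct
  have hκi : κ⁻¹ • pts (cw 47) = o := inv_smul_eq_iff.mpr hκo.symm
  have hκim : κ⁻¹ ∈ M24 := Subgroup.inv_mem _ hκ
  have hmem : ∀ T : Finset (Finset GolayPt), o ∈ T → pts (cw 47) ∈ κ • T := by
    intro T hoT
    have := Finset.smul_mem_smul_finset (a := κ) hoT
    rwa [hκo] at this
  have h2trans : ∀ T₁ T₂ T₁' T₂' : Finset (Finset GolayPt), T₁ ∈ trios → T₂ ∈ trios →
      T₁' ∈ trios → T₂' ∈ trios → o ∈ T₁ → o ∈ T₂ → o ∈ T₁' → o ∈ T₂' → T₁ ≠ T₂ → T₁' ≠ T₂' →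
      ∃ g ∈ M24, g • o = o ∧ g • T₁ = T₁' ∧ g • T₂ = T₂' := by
    intro T₁ T₂ T₁' T₂' h1 h2 h1' h2' o1 o2 o1' o2' hne hne'
    obtain ⟨g0, hg0, hg0o, hg01, hg02⟩ := two_trans_base (smul_mem_trios hκ h1)
      (smul_mem_trios hκ h2) (smul_mem_trios hκ h1') (smul_mem_trios hκ h2') (hmem _ o1)
      (hmem _ o2) (hmem _ o1') (hmem _ o2')
      (fun h => hne (MulAction.injective κ h)) (fun h => hne' (MulAction.injective κ h))
    refine ⟨κ⁻¹ * g0 * κ, Subgroup.mul_mem _ (Subgroup.mul_mem _ hκim hg0) hκ, ?_, ?_, ?_⟩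
    · rw [mul_smul, mul_smul, hκo, hg0o, hκi]
    · rw [mul_smul, mul_smul, hg01, inv_smul_smul]
    · rw [mul_smul, mul_smul, hg02, inv_smul_smul]
  refine ⟨?_, h2trans, ?_⟩
  · rw [← trios_o0.2]
    apply Cfsg.Agent.helper2.ncard_smul_eq_gen κ
    intro T
    rw [Set.mem_ofPred_eq, Set.mem_ofPred_eq, ← trios_smul_iff hκ, ← hκo,
      Finset.smul_mem_smul_finset_iff]
  · intro g hg hgo
    constructor
    · intro hfix
      -- two distinct trios through `o`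
      have hTa : κ⁻¹ • famFin tr0 ∈ trios := smul_mem_trios hκim (trOK_spec tr0_ok).1
      have hTb : κ⁻¹ • famFin tr1 ∈ trios := smul_mem_trios hκim (trOK_spec tr1_ok).1
      have hoa : o ∈ κ⁻¹ • famFin tr0 := by
        have := Finset.smul_mem_smul_finset (a := κ⁻¹) tr0_mem_o0
        rwa [hκi] at this
      have hob : o ∈ κ⁻¹ • famFin tr1 := by
        have := Finset.smul_mem_smul_finset (a := κ⁻¹) tr1_mem_o0
        rwa [hκi] at this
      have hab : κ⁻¹ • famFin tr0 ≠ κ⁻¹ • famFin tr1 :=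
        fun h => tr1_ne (MulAction.injective κ⁻¹ h).symm
      obtain ⟨h, hh, hho, hh1, _⟩ := h2trans _ _ _ _ hTa hTb hTb hTa hoa hob hob hoa hab hab.symm
      have := kernel_le ho ⟨h, mem_stabM24.mpr ⟨hh, hho⟩, _, hTa, hoa, by rw [hh1]; exact hab.symm⟩
        (mem_stabM24.mpr ⟨hg, hgo⟩) hfix
      exact (mem_fixM24.mp this).2
    · intro hfix T hT hoT
      exact fix_trios ho (mem_fixM24.mpr ⟨hg, hfix⟩) hT hoT

end Cfsg.Agent.S5615
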