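import Mathlib
import Cfsg.Statements.S5618
import Cfsg.Agent.Lib_helper2_M24h

set_option autoImplicit false
open scoped Pointwise
open Cfsg

namespace Cfsg.Agent.S5618

open Cfsg.Agent.helper2

open Cfsg.Agent.helper2.Golay Cfsg.Agent.helper27
open scoped Pointwise
open MulAction

/-- An embedding of `Fin 5` into a set with at least five points. -/
theorem exists_emb5 {s : Finset GolayPt} (hs : 5 ≤ s.card) :
    ∃ x5 : Fin 5 ↪ GolayPt, ∀ i, x5 i ∈ s := by
  obtain ⟨x5, hx5, _⟩ := extend_emb' (k := 0) (by norm_num) hs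
    ⟨fun i => i.elim0, fun i => i.elim0⟩ (fun i => i.elim0)
  exact ⟨x5, hx5⟩

/-- The stabiliser of a dodecad and five of its points is trivial. -/
theorem five_stab_trivial {d : Finset GolayPt} (hd : d ∈ dodecads) (z : Fin 5 ↪ GolayPt)
    (hz : ∀ i, z i ∈ d) (g : M24) (hgd : g • d = d)
    (hgz : ∀ i, (g : Equiv.Perm GolayPt) (z i) = z i) : g = 1 := by
  have h1 := card_stab_kflag le_rfl hd z hz
  have h2 : Nat.descFactorial 12 5 = 95040 := by decide
  have hcard : Nat.card (stabilizer M24 (d, z)) = 1 := by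
    rw [h2] at h1
    exact Nat.eq_of_mul_eq_mul_left (by norm_num : 0 < 2576 * 95040) (h1.trans (by norm_num))
  have hbot := Subgroup.card_eq_one.mp hcard
  have hmem : g ∈ stabilizer M24 (d, z) := by
    rw [mem_stabilizer_iff]
    apply Prod.ext
    · exact hgd
    · apply Function.Embedding.ext
      intro i
      exact hgz i
  rw [hbot] at hmem
  exact Subgroup.mem_bot.mp hmem

/-- A permutation of a six-element type fixing five points is trivial. -/
theorem perm_eq_one_of_fix5 {α : Type*} [Fintype α] [DecidableEq α] (hα : Fintype.card α = 6)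
    (τ : Equiv.Perm α) (f : Fin 5 ↪ α) (hf : ∀ i, τ (f i) = f i) : τ = 1 := by
  apply Equiv.Perm.ext
  intro a
  rw [Equiv.Perm.one_apply]
  by_cases ha : a ∈ Finset.univ.map f
  · obtain ⟨i, _, rfl⟩ := Finset.mem_map.mp ha
    exact hf i
  · have hτa : τ a ∉ Finset.univ.map f := by
      intro h
      obtain ⟨i, _, hi⟩ := Finset.mem_map.mp h
      apply ha
      have : a = f i := τ.injective (by rw [hf i, hi])
      rw [this]
      exact Finset.mem_map.mpr ⟨i, Finset.mem_univ _, rfl⟩
    have hc : (Finset.univ.map f)ᶜ.card ≤ 1 := by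
      rw [Finset.card_compl, Finset.card_map, Finset.card_univ, hα, Fintype.card_fin]
    exact Finset.card_le_one.mp hc _ (Finset.mem_compl.mpr hτa) _ (Finset.mem_compl.mpr ha)

theorem result (d : Finset Cfsg.GolayPt) (hd : d ∈ Cfsg.dodecads) (C : Finset Cfsg.GolayPt) (hC : C ∈ Cfsg.hexadsOn d) : Nonempty (↥(MulAction.stabilizer Cfsg.M24 d ⊓ MulAction.stabilizer Cfsg.M24 C) ≃* Equiv.Perm (Fin 6)) ∧ (∀ g ∈ MulAction.stabilizer Cfsg.M24 d ⊓ MulAction.stabilizer Cfsg.M24 C, (∀ p ∈ C, ((g : ↥Cfsg.M24) : Equiv.Perm Cfsg.GolayPt) p = p) → g = 1) ∧ ∀ g ∈ MulAction.stabilizer Cfsg.M24 d ⊓ MulAction.stabilizer Cfsg.M24 C, (∀ p ∈ d \ C, ((g : ↥Cfsg.M24) : Equiv.Perm Cfsg.GolayPt) p = p) → g = 1 := by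
  obtain ⟨hC6, o, ho, hoC⟩ := hC
  have hCd : C ⊆ d := by
    rw [← hoC]
    exact Finset.inter_subset_right
  have hCo : C ⊆ o := by
    rw [← hoC]
    exact Finset.inter_subset_left
  have hd12 : d.card = 12 := card_of_mem_dodecads hd
  -- faithfulness
  have hfix : ∀ s : Finset GolayPt, s ⊆ d → 5 ≤ s.card → ∀ g : M24, g • d = d →
      (∀ p ∈ s, (g : Equiv.Perm GolayPt) p = p) → g = 1 := by
    intro s hsd hs5 g hgd hgs
    obtain ⟨z, hz⟩ := exists_emb5 hs5
    exact five_stab_trivial hd z (fun i => hsd (hz i)) g hgd (fun i => hgs _ (hz i))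
  have hsd6 : (d \ C).card = 6 := by
    rw [Finset.card_sdiff_of_subset hCd, hd12, hC6]
  refine ⟨?_, ?_, ?_⟩
  · -- the isomorphism with the symmetric group
    have hstab : ∀ g : ↥(stabilizer M24 d ⊓ stabilizer M24 C),
        ∀ x, (((g : M24) : Equiv.Perm GolayPt) x ∈ C ↔ x ∈ C) := by
      intro g x
      have hgC : ((g : M24) : Equiv.Perm GolayPt) • C = C := mem_stabilizer_iff.mp g.2.2
      have h1 : ((g : M24) : Equiv.Perm GolayPt) x ∈ ((g : M24) : Equiv.Perm GolayPt) • C ↔ x ∈ C :=
        Finset.smul_mem_smul_finset_iff _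
      rw [hgC] at h1
      exact h1
    let φ : ↥(stabilizer M24 d ⊓ stabilizer M24 C) →* Equiv.Perm {x // x ∈ C} :=
      MonoidHom.mk' (fun g => Equiv.Perm.subtypePerm ((g : M24) : Equiv.Perm GolayPt) (hstab g))
        (by
          intro a b
          apply Equiv.Perm.ext
          intro x
          apply Subtype.ext
          rfl)
    have hφ : ∀ (g : ↥(stabilizer M24 d ⊓ stabilizer M24 C)) (x : {x // x ∈ C}),
        ((φ g x : {x // x ∈ C}) : GolayPt) = ((g : M24) : Equiv.Perm GolayPt) x := fun g x => rfl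
    have hinj : Function.Injective φ := by
      rw [injective_iff_map_eq_one]
      intro g hg
      have h1 : (g : M24) = 1 := by
        apply hfix C hCd (by rw [hC6]; norm_num) _ (mem_stabilizer_iff.mp g.2.1)
        intro p hp
        have := hφ g ⟨p, hp⟩
        rw [hg] at this
        exact this.symm
      exact Subtype.ext h1
    have hsurj : Function.Surjective φ := by
      intro σ
      obtain ⟨x5, hx5⟩ := exists_emb5 (s := C) (by rw [hC6]; norm_num)
      let y5 : Fin 5 ↪ GolayPt := ⟨fun i => ((σ ⟨x5 i, hx5 i⟩ : {x // x ∈ C}) : GolayPt), by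
        intro i j hij
        have := σ.injective (Subtype.ext hij)
        exact x5.injective (Subtype.ext_iff.mp this)⟩
      have hy5 : ∀ i, y5 i ∈ C := fun i => (σ ⟨x5 i, hx5 i⟩).2
      obtain ⟨g, hg, hgd, hgx⟩ := dodecad_five_transitive hd hd x5 y5 (fun i => hCd (hx5 i))
        (fun i => hCd (hy5 i))
      have hgo : g • o = o := by
        have h5 : (Finset.univ.map y5).card = 5 := by
          rw [Finset.card_map, Finset.card_univ, Fintype.card_fin]
        obtain ⟨b, _, huniq⟩ := octads_steiner.2 _ h5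
        have e1 : g • o = b := by
          apply huniq
          refine ⟨smul_mem_octads' hg ho, ?_⟩
          intro y hy
          obtain ⟨i, _, rfl⟩ := Finset.mem_map.mp hy
          rw [← hgx i]
          exact Finset.smul_mem_smul_finset (hCo (hx5 i))
        have e2 : o = b := by
          apply huniq
          refine ⟨ho, ?_⟩
          intro y hy
          obtain ⟨i, _, rfl⟩ := Finset.mem_map.mp hy
          exact hCo (hy5 i)
        rw [e1, e2]
      have hgC : g • C = C := by
        rw [← hoC, Finset.smul_finset_inter, hgo, hgd]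
      let h : ↥(stabilizer M24 d ⊓ stabilizer M24 C) :=
        ⟨⟨g, hg⟩, ⟨mem_stabilizer_iff.mpr hgd, mem_stabilizer_iff.mpr hgC⟩⟩
      refine ⟨h, ?_⟩
      have hcard : Fintype.card {x // x ∈ C} = 6 := by
        rw [Fintype.card_coe, hC6]
      have hτ := perm_eq_one_of_fix5 hcard (σ⁻¹ * φ h)
        ⟨fun i => ⟨x5 i, hx5 i⟩, fun i j hij => x5.injective (Subtype.ext_iff.mp hij)⟩ (by
          intro i
          show σ⁻¹ (φ h ⟨x5 i, hx5 i⟩) = ⟨x5 i, hx5 i⟩
          rw [Equiv.Perm.inv_eq_iff_eq]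
          apply Subtype.ext
          rw [hφ]
          exact hgx i)
      exact (inv_mul_eq_one.mp hτ).symm
    have hcard : Fintype.card {x // x ∈ C} = 6 := by
      rw [Fintype.card_coe, hC6]
    exact ⟨(MulEquiv.ofBijective φ ⟨hinj, hsurj⟩).trans
      (Fintype.equivFinOfCardEq hcard).permCongrHom⟩
  · intro g hg hgp
    exact hfix C hCd (by rw [hC6]; norm_num) g (mem_stabilizer_iff.mp hg.1) hgp
  · intro g hg hgp
    exact hfix (d \ C) Finset.sdiff_subset (by rw [hsd6]; norm_num) g
      (mem_stabilizer_iff.mp hg.1) hgp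

end Cfsg.Agent.S5618
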