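import Mathlib
import Cfsg.Statements.S5619
import Cfsg.Agent.Lib_helper2_M9

set_option autoImplicit false
open scoped Pointwise
open Cfsg

namespace Cfsg.Agent.S5619

open Cfsg.Agent.helper2

open Cfsg.Agent.helper2.Golay Cfsg.Agent.helper27
open MulAction

/-- Sylow 3-subgroups of a group of order 72 with nine elements of order dividing nine. -/
theorem sylow3_of_count {G : Type*} [Group G] [Finite G] (hG : Nat.card G = 72)
    (h9 : {x : G | x ^ 9 = 1}.ncard = 9) (h3 : ∀ x : G, x ^ 9 = 1 → x ^ 3 = 1) (Q : Sylow 3 G) :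
    (Q : Subgroup G).Normal ∧ Nat.card Q = 9 ∧ ∀ x ∈ (Q : Subgroup G), x ^ 3 = 1 := by
  have : Fact (Nat.Prime 3) := ⟨by norm_num⟩
  have hcard : ∀ R : Sylow 3 G, Nat.card R = 9 := by
    intro R
    have h1 : 3 ^ 2 ∣ Nat.card R := R.pow_dvd_card_of_pow_dvd_card (by rw [hG]; norm_num)
    obtain ⟨k, hk⟩ := (R.2 : IsPGroup 3 (R : Subgroup G)).exists_card_eq
    have hdvd : 3 ^ k ∣ 72 := by
      rw [← hk, ← hG]
      exact Subgroup.card_subgroup_dvd_card _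
    have hk2 : k ≤ 2 := by
      by_contra hcon
      push Not at hcon
      have h27 : 3 ^ 3 ∣ 72 := (pow_dvd_pow 3 hcon).trans hdvd
      norm_num at h27
    rw [hk] at h1 ⊢
    interval_cases k
    · norm_num at h1
    · norm_num at h1
    · norm_num
  have hset : ∀ R : Sylow 3 G, ((R : Subgroup G) : Set G) = {x : G | x ^ 9 = 1} := by
    intro R
    apply Set.eq_of_subset_of_ncard_le
    · intro x hx
      have := pow_card_eq_one' (G := (R : Subgroup G)) (x := ⟨x, hx⟩)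
      rw [hcard R] at this
      exact Subtype.ext_iff.mp this
    · rw [h9, ← hcard R]
      exact le_of_eq (Nat.card_coe_set_eq _).symm
    · exact Set.toFinite _
  have : Subsingleton (Sylow 3 G) :=
    ⟨fun R R' => Sylow.ext (SetLike.coe_injective ((hset R).trans (hset R').symm))⟩
  refine ⟨Sylow.normal_of_subsingleton Q, hcard Q, ?_⟩
  intro x hx
  apply h3
  have hx' : x ∈ ((Q : Subgroup G) : Set G) := hx
  rw [hset Q] at hx'
  exact hx'

/-- Sylow 2-subgroups of a group of order 72 containing a copy of a group of order 8. -/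
theorem sylow2_iso {G : Type*} [Group G] [Finite G] (hG : Nat.card G = 72) {Q8 : Type*} [Group Q8]
    (hQ : Nat.card Q8 = 8) (Ψ : Q8 →* G) (hΨ : Function.Injective Ψ) (P : Sylow 2 G) :
    Nonempty (P ≃* Q8) := by
  have : Fact (Nat.Prime 2) := ⟨by norm_num⟩
  have e0 : Q8 ≃* Ψ.range := MonoidHom.ofInjective hΨ
  have hR : Nat.card Ψ.range = 8 := by rw [← Nat.card_congr e0.toEquiv, hQ]
  have hRp : IsPGroup 2 Ψ.range := IsPGroup.of_card (n := 3) (by rw [hR]; norm_num)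
  obtain ⟨P', hP'⟩ := hRp.exists_le_sylow
  obtain ⟨k, hk⟩ := (P'.2 : IsPGroup 2 (P' : Subgroup G)).exists_card_eq
  have hdvd : 2 ^ k ∣ 72 := by
    rw [← hk, ← hG]
    exact Subgroup.card_subgroup_dvd_card _
  have hk3 : k ≤ 3 := by
    by_contra hcon
    push Not at hcon
    have h16 : 2 ^ 4 ∣ 72 := (pow_dvd_pow 2 hcon).trans hdvd
    norm_num at h16
  have heq : Ψ.range = (P' : Subgroup G) := by
    apply Subgroup.eq_of_le_of_card_ge hP'
    rw [hk, hR]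
    calc 2 ^ k ≤ 2 ^ 3 := Nat.pow_le_pow_right (by norm_num) hk3
      _ = 8 := by norm_num
  have e1 : P ≃* P' := Sylow.equiv P P'
  have e2 : (P' : Subgroup G) ≃* Ψ.range := MulEquiv.subgroupCongr heq.symm
  exact ⟨e1.trans (e2.trans e0.symm)⟩

theorem to_base3 {d : Finset GolayPt} (hd : d ∈ dodecads) {p q r : GolayPt} (hp : p ∈ d)
    (hq : q ∈ d) (hr : r ∈ d) (hpq : p ≠ q) (hpr : p ≠ r) (hqr : q ≠ r) :
    ∃ g ∈ M24, g • d = pts d0m ∧ g p = pt 23 ∧ g q = pt 0 ∧ g r = pt 1 := by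
  have hz : ∀ i, emb3 hpq hpr hqr i ∈ d := by
    intro i
    fin_cases i
    · exact hp
    · exact hq
    · exact hr
  obtain ⟨z5, hz5, hz5z⟩ := extend_emb' (by norm_num : 3 ≤ 5)
    (by rw [card_of_mem_dodecads hd]; norm_num) (emb3 hpq hpr hqr) hz
  obtain ⟨g, hg, hgx, hgd⟩ := dodecad_to_base hd z5 hz5
  refine ⟨g, hg, hgd, ?_, ?_, ?_⟩
  · have := hgx 0
    rw [show z5 0 = p from hz5z 0] at this
    exact this
  · have := hgx 1
    rw [show z5 1 = q from hz5z 1] at this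
    exact this
  · have := hgx 2
    rw [show z5 2 = r from hz5z 2] at this
    exact this

theorem result (d : Finset Cfsg.GolayPt) (hd : d ∈ Cfsg.dodecads) (p q r : Cfsg.GolayPt) (hp : p ∈ d) (hq : q ∈ d) (hr : r ∈ d) (hpq : p ≠ q) (hpr : p ≠ r) (hqr : q ≠ r) : (∀ Q : Sylow 3 ↥(MulAction.stabilizer Cfsg.M24 d ⊓ MulAction.stabilizer Cfsg.M24 p ⊓ MulAction.stabilizer Cfsg.M24 q ⊓ MulAction.stabilizer Cfsg.M24 r), (Q : Subgroup ↥(MulAction.stabilizer Cfsg.M24 d ⊓ MulAction.stabilizer Cfsg.M24 p ⊓ MulAction.stabilizer Cfsg.M24 q ⊓ MulAction.stabilizer Cfsg.M24 r)).Normal ∧ Nat.card ↥Q = 9 ∧ ∀ x ∈ (Q : Subgroup ↥(MulAction.stabilizer Cfsg.M24 d ⊓ MulAction.stabilizer Cfsg.M24 p ⊓ MulAction.stabilizer Cfsg.M24 q ⊓ MulAction.stabilizer Cfsg.M24 r)), x ^ 3 = 1) ∧ ∀ P : Sylow 2 ↥(MulAction.stabilizer Cfsg.M24 d ⊓ MulAction.stabilizer Cfsg.M24 p ⊓ MulAction.stabilizer Cfsg.M24 q ⊓ MulAction.stabilizer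 Cfsg.M24 r), Nonempty (↥P ≃* QuaternionGroup 2) := by
  obtain ⟨g, hg, hgd, hgp, hgq, hgr⟩ := to_base3 hd hp hq hr hpq hpr hqr
  set H := stabilizer M24 d ⊓ stabilizer M24 p ⊓ stabilizer M24 q ⊓ stabilizer M24 r with hH
  have hcardH : Nat.card H = 72 := three_stab_card hd hp hq hr hpq hpr hqr
  have hmemH : ∀ x : M24, x ∈ H ↔ (x.1 • d = d ∧ x.1 p = p ∧ x.1 q = q ∧ x.1 r = r) := by
    intro x
    rw [hH, Subgroup.mem_inf, Subgroup.mem_inf, Subgroup.mem_inf, mem_stabilizer_iff,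
      mem_stabilizer_iff, mem_stabilizer_iff, mem_stabilizer_iff]
    exact ⟨fun h => ⟨h.1.1.1, h.1.1.2, h.1.2, h.2⟩, fun h => ⟨⟨⟨h.1, h.2.1⟩, h.2.2.1⟩, h.2.2.2⟩⟩
  have hginv : g⁻¹ • pts d0m = d ∧ g⁻¹ (pt 23) = p ∧ g⁻¹ (pt 0) = q ∧ g⁻¹ (pt 1) = r := by
    refine ⟨?_, ?_, ?_, ?_⟩
    · rw [inv_smul_eq_iff, hgd]
    · rw [Equiv.Perm.inv_eq_iff_eq, hgp]
    · rw [Equiv.Perm.inv_eq_iff_eq, hgq]
    · rw [Equiv.Perm.inv_eq_iff_eq, hgr]
  -- conjugation to the base group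
  have hto : ∀ y : Equiv.Perm GolayPt, (y • d = d ∧ y p = p ∧ y q = q ∧ y r = r) →
      PM9 (g * y * g⁻¹) := by
    rintro y ⟨h1, h2, h3, h4⟩
    refine ⟨?_, ?_, ?_, ?_⟩
    · rw [Equiv.Perm.mul_apply, Equiv.Perm.mul_apply, hginv.2.1, h2, hgp]
    · rw [Equiv.Perm.mul_apply, Equiv.Perm.mul_apply, hginv.2.2.1, h3, hgq]
    · rw [Equiv.Perm.mul_apply, Equiv.Perm.mul_apply, hginv.2.2.2, h4, hgr]
    · rw [mul_smul, mul_smul, hginv.1, h1, hgd]
  have hfrom : ∀ y : Equiv.Perm GolayPt, PM9 y →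
      ((g⁻¹ * y * g) • d = d ∧ (g⁻¹ * y * g) p = p ∧ (g⁻¹ * y * g) q = q ∧
        (g⁻¹ * y * g) r = r) := by
    rintro y ⟨h1, h2, h3, h4⟩
    refine ⟨?_, ?_, ?_, ?_⟩
    · rw [mul_smul, mul_smul, hgd, h4, hginv.1]
    · rw [Equiv.Perm.mul_apply, Equiv.Perm.mul_apply, hgp, h1, hginv.2.1]
    · rw [Equiv.Perm.mul_apply, Equiv.Perm.mul_apply, hgq, h2, hginv.2.2.1]
    · rw [Equiv.Perm.mul_apply, Equiv.Perm.mul_apply, hgr, h3, hginv.2.2.2]
  have hpowc : ∀ (y : Equiv.Perm GolayPt) (n : ℕ), (g * y * g⁻¹) ^ n = g * y ^ n * g⁻¹ :=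
    fun y n => conj_pow
  have hpowc' : ∀ (y : Equiv.Perm GolayPt) (n : ℕ), (g⁻¹ * y * g) ^ n = g⁻¹ * y ^ n * g := by
    intro y n
    have := conj_pow (a := g⁻¹) (b := y) (i := n)
    rwa [inv_inv] at this
  have hcoe : ∀ (x : H) (n : ℕ), ((x ^ n : H) : M24).1 = x.1.1 ^ n := by
    intro x n
    rw [Subgroup.coe_pow, Subgroup.coe_pow]
  have hone : ∀ (x : H) (n : ℕ), x ^ n = 1 ↔ x.1.1 ^ n = 1 := by
    intro x n
    rw [← hcoe]
    constructor
    · intro h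
      rw [h]
      rfl
    · intro h
      apply Subtype.ext
      apply Subtype.ext
      exact h
  obtain ⟨hb9, hb3⟩ := M9_enum
  -- the map to the base group
  let c : H → Equiv.Perm GolayPt := fun x => g * x.1.1 * g⁻¹
  have hcinj : Function.Injective c := by
    intro x y hxy
    have h1 : x.1.1 = y.1.1 := by
      have : g * x.1.1 * g⁻¹ = g * y.1.1 * g⁻¹ := hxy
      exact mul_left_cancel (mul_right_cancel this)
    exact Subtype.ext (Subtype.ext h1)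
  have himg : c '' {x : H | x ^ 9 = 1} = {y | y ∈ M24 ∧ (PM9 y ∧ y ^ 9 = 1)} := by
    ext y
    constructor
    · rintro ⟨x, hx, rfl⟩
      refine ⟨Subgroup.mul_mem _ (Subgroup.mul_mem _ hg x.1.2) (Subgroup.inv_mem _ hg),
        hto _ ((hmemH x.1).mp x.2), ?_⟩
      show (g * x.1.1 * g⁻¹) ^ 9 = 1
      rw [hpowc, (hone x 9).mp hx]
      group
    · rintro ⟨hy, hP, hy9⟩
      have hm : g⁻¹ * y * g ∈ M24 :=
        Subgroup.mul_mem _ (Subgroup.mul_mem _ (Subgroup.inv_mem _ hg) hy) hg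
      refine ⟨⟨⟨g⁻¹ * y * g, hm⟩, (hmemH _).mpr (hfrom y hP)⟩, ?_, ?_⟩
      · show _ ^ 9 = 1
        rw [hone]
        show (g⁻¹ * y * g) ^ 9 = 1
        rw [hpowc', hy9]
        group
      · show g * (g⁻¹ * y * g) * g⁻¹ = y
        group
  have h9 : {x : H | x ^ 9 = 1}.ncard = 9 := by
    rw [← Set.ncard_image_of_injective _ hcinj, himg, hb9]
  have h3 : ∀ x : H, x ^ 9 = 1 → x ^ 3 = 1 := by
    intro x hx
    rw [hone] at hx ⊢
    have h1 : (g * x.1.1 * g⁻¹) ^ 9 = 1 := by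
      rw [hpowc, hx]
      group
    have h2 := hb3 _ (Subgroup.mul_mem _ (Subgroup.mul_mem _ hg x.1.2) (Subgroup.inv_mem _ hg))
      (hto _ ((hmemH x.1).mp x.2)) h1
    rw [hpowc] at h2
    have h4 : x.1.1 ^ 3 = g⁻¹ * (g * x.1.1 ^ 3 * g⁻¹) * g := by group
    rw [h4, h2]
    group
  refine ⟨fun Q => sylow3_of_count hcardH h9 h3 Q, ?_⟩
  intro P
  -- the quaternion subgroup
  have hΨmem : ∀ x : QuaternionGroup 2, g⁻¹ * q8Hom x * g ∈ M24 := fun x =>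
    Subgroup.mul_mem _ (Subgroup.mul_mem _ (Subgroup.inv_mem _ hg) (q8Hom_mem x).1) hg
  let Ψ : QuaternionGroup 2 →* H := MonoidHom.mk'
    (fun x => ⟨⟨g⁻¹ * q8Hom x * g, hΨmem x⟩, (hmemH _).mpr (hfrom _ (q8Hom_mem x).2)⟩) (by
      intro x y
      apply Subtype.ext
      apply Subtype.ext
      show g⁻¹ * q8Hom (x * y) * g = (g⁻¹ * q8Hom x * g) * (g⁻¹ * q8Hom y * g)
      rw [map_mul]
      group)
  have hΨinj : Function.Injective Ψ := by
    intro x y hxy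
    have h1 : g⁻¹ * q8Hom x * g = g⁻¹ * q8Hom y * g :=
      congrArg (fun z : H => z.1.1) hxy
    exact q8Hom_injective (mul_left_cancel (mul_right_cancel h1))
  have hQ8 : Nat.card (QuaternionGroup 2) = 8 := by
    rw [Nat.card_eq_fintype_card, QuaternionGroup.card]
  exact sylow2_iso hcardH hQ8 Ψ hΨinj P

end Cfsg.Agent.S5619
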