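import Cfsg.Statements.S5626
import Cfsg.Agent.Lib_helper28_Plane4Iso

set_option autoImplicit false
open Cfsg

namespace Cfsg.Agent.S5626

open Cfsg.Agent.helper28.Plane Cfsg.Agent.helper28.Design

/-- Uniqueness of the projective plane of order 4: any two Steiner systems S(2, 5, 21) (21 points, lines of 5 points, two points on exactly one line) are isomorphic. -/
theorem result {α β : Type*} [Fintype α] [DecidableEq α] [Fintype β] [DecidableEq β] (hα : Fintype.card α = 21) (hβ : Fintype.card β = 21) {L : Set (Finset α)} {L' : Set (Finset β)} (hL : Cfsg.IsSteinerSystem 2 5 L) (hL' : Cfsg.IsSteinerSystem 2 5 L') : Cfsg.SetSystemIso L L' := by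
  have hP : IsPlane4 (toF L) := ⟨hα, toF_card hL, toF_cnt hL⟩
  have hP' : IsPlane4 (toF L') := ⟨hβ, toF_card hL', toF_cnt hL'⟩
  obtain ⟨-, c6⟩ := lev_cards hP
  obtain ⟨-, c6'⟩ := lev_cards hP'
  obtain ⟨H, hHm⟩ := Finset.card_pos.1 (by rw [c6]; norm_num : 0 < (lev (toF L) 6).card)
  obtain ⟨H', hHm'⟩ := Finset.card_pos.1 (by rw [c6']; norm_num : 0 < (lev (toF L') 6).card)
  rw [mem_lev] at hHm hHm'
  have hH : IsHyperoval (toF L) H := ⟨hHm.1, hHm.2⟩
  have hH' : IsHyperoval (toF L') H' := ⟨hHm'.1, hHm'.2⟩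
  have hcard : Fintype.card ↥H = Fintype.card ↥H' := by
    rw [Fintype.card_coe, Fintype.card_coe, hHm.1, hHm'.1]
  let e1 : ↥H ≃ ↥H' := Fintype.equivOfCardEq hcard
  have hne : Nonempty β := Fintype.card_pos_iff.1 (by rw [hβ]; norm_num)
  obtain ⟨b0⟩ := hne
  let f0 : α → β := fun x => if hx : x ∈ H then (e1 ⟨x, hx⟩ : β) else b0
  have hf : Set.BijOn f0 ↑H ↑H' := by
    refine ⟨?_, ?_, ?_⟩
    · intro x hx
      rw [Finset.mem_coe] at hx
      simp only [f0, dif_pos hx]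
      exact (e1 ⟨x, hx⟩).2
    · intro x hx y hy hxy
      rw [Finset.mem_coe] at hx hy
      simp only [f0, dif_pos hx, dif_pos hy] at hxy
      have := e1.injective (Subtype.ext hxy)
      exact congrArg Subtype.val this
    · intro y hy
      rw [Finset.mem_coe] at hy
      refine ⟨(e1.symm ⟨y, hy⟩ : α), (e1.symm ⟨y, hy⟩).2, ?_⟩
      simp only [f0, dif_pos (e1.symm ⟨y, hy⟩).2]
      simp
  obtain ⟨e, -, he⟩ := exists_iso hH hP hH' hP' hf
  refine ⟨e, ?_⟩
  ext b'
  constructor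
  · rintro ⟨b, hb, rfl⟩
    rw [← mem_toF, ← he]
    exact Finset.mem_image_of_mem _ ((mem_toF L b).2 hb)
  · intro hb'
    rw [← mem_toF, ← he] at hb'
    obtain ⟨b, hb, rfl⟩ := Finset.mem_image.1 hb'
    exact ⟨b, (mem_toF L b).1 hb, rfl⟩

end Cfsg.Agent.S5626
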