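import Cfsg.Statements.S5627
import Cfsg.Agent.Lib_helper28_Plane4

set_option autoImplicit false
open Cfsg

namespace Cfsg.Agent.S5627

open Cfsg.Agent.helper28.Plane Cfsg.Agent.helper28.Design

/-- In a projective plane of order 4 (a Steiner system S(2, 5, 21)), call a set of points independent when no line meets it in more than two points. There are exactly 2520 independent 4-sets and exactly 168 independent 6-sets (hyperovals), and every independent 4-set lies in exactly one hyperoval. -/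
theorem result {α : Type*} [Fintype α] [DecidableEq α] (hα : Fintype.card α = 21) (L : Set (Finset α)) (hL : Cfsg.IsSteinerSystem 2 5 L) : {S : Finset α | (S.card = 4 ∧ ∀ l ∈ L, (l ∩ S).card ≤ 2)}.ncard = 2520 ∧ {H : Finset α | (H.card = 6 ∧ ∀ l ∈ L, (l ∩ H).card ≤ 2)}.ncard = 168 ∧ ∀ S : Finset α, (S.card = 4 ∧ ∀ l ∈ L, (l ∩ S).card ≤ 2) → ∃! H : Finset α, (H.card = 6 ∧ ∀ l ∈ L, (l ∩ H).card ≤ 2) ∧ S ⊆ H := by
  have hP : IsPlane4 (toF L) := ⟨hα, toF_card hL, toF_cnt hL⟩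
  have hInd : ∀ S : Finset α, (∀ l ∈ L, (l ∩ S).card ≤ 2) ↔ Ind (toF L) S := by
    intro S
    unfold Ind
    constructor
    · intro h l hl; exact h l ((mem_toF L l).1 hl)
    · intro h l hl; exact h l ((mem_toF L l).2 hl)
  have hset : ∀ k : ℕ, {S : Finset α | (S.card = k ∧ ∀ l ∈ L, (l ∩ S).card ≤ 2)}
      = ↑(lev (toF L) k) := by
    intro k
    ext S
    rw [Finset.mem_coe, mem_lev, Set.mem_ofPred_eq, hInd]
  obtain ⟨c4, c6⟩ := lev_cards hP
  refine ⟨?_, ?_, ?_⟩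
  · rw [hset 4, Set.ncard_coe_finset, c4]
  · rw [hset 6, Set.ncard_coe_finset, c6]
  · rintro S ⟨hS4, hS⟩
    obtain ⟨H, ⟨⟨h6, hI⟩, hSH⟩, hu⟩ := hyperoval_unique hP S hS4 ((hInd S).1 hS)
    refine ⟨H, ⟨⟨h6, (hInd H).2 hI⟩, hSH⟩, ?_⟩
    rintro H' ⟨⟨h6', hI'⟩, hSH'⟩
    exact hu H' ⟨⟨h6', (hInd H').1 hI'⟩, hSH'⟩

end Cfsg.Agent.S5627
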