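import Cfsg.Statements.S5628
import Cfsg.Agent.Lib_helper28_Plane4Iso

set_option autoImplicit false
open Cfsg

namespace Cfsg.Agent.S5628

open Cfsg.Agent.helper28.Plane Cfsg.Agent.helper28.Design
open scoped Pointwise

/-- In a projective plane of order 4 (a Steiner system S(2, 5, 21)), every permutation of the six points of a hyperoval (a 6-set met by no line in more than two points) is the restriction of exactly one automorphism of the plane. In particular the stabiliser of a hyperoval in the automorphism group is isomorphic to the symmetric group of degree 6 acting faithfully on the hyperoval. -/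
theorem result {α : Type*} [Fintype α] [DecidableEq α] (hα : Fintype.card α = 21) (L : Set (Finset α)) (hL : Cfsg.IsSteinerSystem 2 5 L) (H : Finset α) (hH : (H.card = 6 ∧ ∀ l ∈ L, (l ∩ H).card ≤ 2)) (σ : Equiv.Perm ↥H) : ∃! g : Equiv.Perm α, g ∈ Cfsg.setSystemAut L ∧ ∀ p : ↥H, g p = σ p := by
  have hP : IsPlane4 (toF L) := ⟨hα, toF_card hL, toF_cnt hL⟩
  have hHy : IsHyperoval (toF L) H := ⟨hH.1, fun l hl => hH.2 l ((mem_toF L l).1 hl)⟩
  let f0 : α → α := fun x => if hx : x ∈ H then (σ ⟨x, hx⟩ : α) else x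
  have hf : Set.BijOn f0 ↑H ↑H := by
    refine ⟨?_, ?_, ?_⟩
    · intro x hx
      rw [Finset.mem_coe] at hx
      simp only [f0, dif_pos hx]
      exact (σ ⟨x, hx⟩).2
    · intro x hx y hy hxy
      rw [Finset.mem_coe] at hx hy
      simp only [f0, dif_pos hx, dif_pos hy] at hxy
      have := σ.injective (Subtype.ext hxy)
      exact congrArg Subtype.val this
    · intro y hy
      rw [Finset.mem_coe] at hy
      refine ⟨(σ.symm ⟨y, hy⟩ : α), (σ.symm ⟨y, hy⟩).2, ?_⟩
      simp only [f0, dif_pos (σ.symm ⟨y, hy⟩).2]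
      simp
  have hsm : ∀ (g : Equiv.Perm α) (b : Finset α), g • b = b.image g := by
    intro g b
    rw [Finset.smul_finset_def]
    rfl
  have haut : ∀ g : Equiv.Perm α, g ∈ Cfsg.setSystemAut L → ∀ l ∈ toF L, l.image g ∈ toF L := by
    intro g hg l hl
    rw [MulAction.mem_stabilizer_iff] at hg
    rw [mem_toF] at hl ⊢
    rw [← hsm, ← hg]
    exact Set.smul_mem_smul_set hl
  obtain ⟨e, he1, he2⟩ := exists_iso hHy hP hHy hP hf
  have heaut : e ∈ Cfsg.setSystemAut L := by
    rw [MulAction.mem_stabilizer_iff]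
    ext b'
    constructor
    · rintro ⟨b, hb, rfl⟩
      show e • b ∈ L
      rw [hsm, ← mem_toF, ← he2]
      exact Finset.mem_image_of_mem _ ((mem_toF L b).2 hb)
    · intro hb'
      rw [← mem_toF, ← he2] at hb'
      obtain ⟨b, hb, rfl⟩ := Finset.mem_image.1 hb'
      exact ⟨b, (mem_toF L b).1 hb, hsm e b⟩
  refine ⟨e, ⟨heaut, ?_⟩, ?_⟩
  · intro p
    rw [he1 p p.2]
    simp only [f0, dif_pos p.2]
  · rintro g' ⟨hg'1, hg'2⟩
    apply aut_unique hHy hP (haut g' hg'1) (haut e heaut)
    intro x hx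
    rw [he1 x hx]
    simp only [f0, dif_pos hx]
    exact hg'2 ⟨x, hx⟩

end Cfsg.Agent.S5628
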