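import Cfsg.Statements.S5631
import Mathlib
import Cfsg.Agent.Lib_helper29_SLgen
import Cfsg.Agent.S0773
-- import your own Cfsg.Agent.* helpers here

set_option autoImplicit false
open Cfsg

namespace Cfsg.Agent.S5631

set_option linter.unusedSectionVars false
set_option linter.unusedVariables false
open Matrix Cfsg.Agent.S0772 Cfsg.Agent.helper29

variable {F : Type*} [Field F]

local notation "PP" n:max k:max => Cfsg.stabilizing (Cfsg.glToMat (Fin n) F) (S0771.Wk (F := F) n k)
local notation "SLn" n:max => Cfsg.Geo.specialLinear (Fin n) F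

lemma Ygood_scalar {n : ℕ} (H : Subgroup (GL (Fin n) F)) (c : F) (hc : c ≠ 0) (y : Fin n → F)
    (hy : y ∈ Ygood H) : c • y ∈ Ygood H := by
  intro ψ hψ
  have h0 : ψ ⬝ᵥ y = 0 := by
    rw [dotProduct_smul, smul_eq_mul] at hψ
    exact (mul_eq_zero.mp hψ).resolve_left hc
  have h1 : (c • ψ) ⬝ᵥ y = 0 := by
    rw [smul_dotProduct, h0, smul_zero]
  have := hy (c • ψ) h1
  rwa [Matrix.vecMulVec_smul, ← Matrix.smul_vecMulVec] at this

lemma Ygood_W' [Finite F] {n : ℕ} (k : ℕ) (H : Subgroup (GL (Fin n) F))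
    (hPH : (PP n k) ⊓ (SLn n) ≤ H)
    (x : Fin n → F) (hx : x ∈ S0771.Wk (F := F) n k) : x ∈ Ygood H := by
  intro ψ hψ
  have h1 : 1 + ψ ⬝ᵥ x ≠ 0 := by rw [hψ, add_zero]; exact one_ne_zero
  refine ⟨G1 x ψ h1, hPH (Subgroup.mem_inf.mpr ⟨?_, G1_mem_SL x ψ hψ h1⟩), rfl⟩
  rw [S0773.mem_stab_iff']
  intro i j hi hj
  rw [G1_val]
  have hij : i ≠ j := by intro e; rw [e] at hi; omega
  simp [Matrix.one_apply_ne hij, Matrix.vecMulVec_apply, hx i hi]

lemma Ygood_col' [Finite F] {n : ℕ} (k : ℕ) (H : Subgroup (GL (Fin n) F))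
    (hPH : (PP n k) ⊓ (SLn n) ≤ H)
    (y : Fin n → F) (hy : y ∈ Ygood H) (a : Fin n) (ha : k ≤ (a : ℕ)) (hya : y a ≠ 0) :
    (Pi.single a 1 : Fin n → F) ∈ Ygood H := by
  classical
  set z : Fin n → F := -(y a)⁻¹ • (y - y a • Pi.single a 1) with hz
  have hza : (Pi.single a 1 : Fin n → F) ⬝ᵥ z = 0 := by
    rw [single_dotProduct, hz]
    simp
  have h1 : 1 + (Pi.single a 1 : Fin n → F) ⬝ᵥ z ≠ 0 := by
    rw [hza, add_zero]; exact one_ne_zero
  have hp : G1 z (Pi.single a 1) h1 ∈ PP n k := by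
    rw [S0773.mem_stab_iff']
    intro i j hi hj
    rw [G1_val]
    have hij : i ≠ j := by intro e; rw [e] at hi; omega
    have hja : j ≠ a := by intro e; rw [e] at hj; omega
    simp [Matrix.one_apply_ne hij, Matrix.vecMulVec_apply, hja]
  have hpy : ((G1 z (Pi.single a 1) h1 : GL (Fin n) F) :
      Matrix (Fin n) (Fin n) F) *ᵥ y = y a • (Pi.single a 1 : Fin n → F) := by
    rw [G1_val, Matrix.add_mulVec, Matrix.one_mulVec, Matrix.vecMulVec_mulVec, single_dotProduct,
      one_mul, hz]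
    funext i
    simp only [Pi.add_apply, Pi.smul_apply, Pi.sub_apply, MulOpposite.smul_eq_mul_unop,
      MulOpposite.unop_op, smul_eq_mul, Pi.neg_apply]
    field_simp
    ring
  have h2 := Ygood_smul H _ (hPH (Subgroup.mem_inf.mpr ⟨hp, G1_mem_SL z _ hza h1⟩)) y hy
  rw [hpy] at h2
  have h3 := Ygood_scalar H (y a)⁻¹ (inv_ne_zero hya) _ h2
  rwa [smul_smul, inv_mul_cancel₀ hya, one_smul] at h3

lemma tv_mem_SL {n : ℕ} (i j : Fin n) (hij : i ≠ j) :
    S0773.tv (F := F) i j hij ∈ SLn n := by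
  rw [mem_SL]
  exact Matrix.det_transvection_of_ne i j hij 1

lemma SL_le_of_lt [Finite F] (n k : ℕ) (H : Subgroup (GL (Fin n) F))
    (hPH : (PP n k) ⊓ (SLn n) ≤ H)
    (h : GL (Fin n) F) (hh : h ∈ H) (hhP : h ∉ PP n k) : SLn n ≤ H := by
  classical
  rw [S0773.mem_stab_iff'] at hhP
  push Not at hhP
  obtain ⟨a, b, ha, hb, hab⟩ := hhP
  have heb : (Pi.single b 1 : Fin n → F) ∈ S0771.Wk (F := F) n k := by
    intro i hi
    have : i ≠ b := by intro e; rw [e] at hi; omega
    simp [this]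
  have hy : (h : Matrix (Fin n) (Fin n) F) *ᵥ (Pi.single b 1 : Fin n → F) ∈ Ygood H :=
    Ygood_smul H h hh _ (Ygood_W' k H hPH _ heb)
  have hya : ((h : Matrix (Fin n) (Fin n) F) *ᵥ (Pi.single b 1 : Fin n → F)) a ≠ 0 := by
    simpa using hab
  have hea := Ygood_col' k H hPH _ hy a ha hya
  have hall : ∀ i : Fin n, (Pi.single i 1 : Fin n → F) ∈ Ygood H := by
    intro i
    by_cases hi : (i : ℕ) < k
    · apply Ygood_W' k H hPH
      intro i' hi'
      have : i' ≠ i := by intro e; rw [e] at hi'; omega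
      simp [this]
    · by_cases hia : i = a
      · rw [hia]; exact hea
      · have h1 := Ygood_smul H (S0773.tv i a hia)
          (hPH (Subgroup.mem_inf.mpr ⟨S0773.tv_mem n k i a hia (by omega), tv_mem_SL i a hia⟩)) _ hea
        rw [S0773.tv_mulVec] at h1
        apply Ygood_col' k H hPH _ h1 i (by omega)
        simp [hia]
  have htr : ∀ t : Matrix.TransvectionStruct (Fin n) F, matIn H t.toMatrix := by
    intro t
    obtain ⟨i, j, hij, c⟩ := t
    rw [Matrix.TransvectionStruct.toMatrix_mk]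
    have h0 : (c • (Pi.single j 1 : Fin n → F)) ⬝ᵥ (Pi.single i 1 : Fin n → F) = 0 := by
      simp [hij.symm]
    have := hall i (c • Pi.single j 1) h0
    have e : Matrix.transvection i j c =
        1 + vecMulVec (Pi.single i 1 : Fin n → F) (c • (Pi.single j 1 : Fin n → F)) := by
      ext a' b'
      simp only [Matrix.transvection, Matrix.add_apply, Matrix.single_apply, Matrix.vecMulVec_apply,
        Pi.single_apply, Pi.smul_apply, smul_eq_mul]
      congr 1
      by_cases h1 : i = a'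
      · by_cases h2 : j = b'
        · simp [h1, h2]
        · simp [h1, h2, Ne.symm h2]
      · simp [h1, Ne.symm h1]
    rw [e]; exact this
  have hdiag : ∀ D : Fin n → F, Matrix.det (Matrix.diagonal D) = 1 →
      matIn H (Matrix.diagonal D) := by
    intro D hD
    have hD0 : Matrix.det (Matrix.diagonal D) ≠ 0 := by rw [hD]; exact one_ne_zero
    refine ⟨Matrix.GeneralLinearGroup.mkOfDetNeZero _ hD0, hPH (Subgroup.mem_inf.mpr ⟨?_, ?_⟩), rfl⟩
    · rw [S0773.mem_stab_iff']
      intro i j hi hj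
      have hij : i ≠ j := by intro e; rw [e] at hi; omega
      simp [Matrix.diagonal_apply_ne _ hij]
    · rw [mem_SL]
      exact hD
  exact SL_le_of H htr hdiag

section general

variable [Fintype F]

lemma finrank_WkSub (n k : ℕ) (hk : k ≤ n) :
    Module.finrank F (S0773.WkSub (F := F) n k) = k := by
  have h1 := S0773.card_Wk (F := F) n k hk
  have h2 : Nat.card (S0773.WkSub (F := F) n k)
      = Nat.card F ^ Module.finrank F (S0773.WkSub (F := F) n k) :=
    Module.natCard_eq_pow_finrank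
  have h3 : Nat.card (S0773.WkSub (F := F) n k) = Nat.card (S0771.Wk (F := F) n k) := rfl
  rw [h3, h1] at h2
  have hF : 1 < Nat.card F := by
    rw [Nat.card_eq_fintype_card]; exact Fintype.one_lt_card
  exact (Nat.pow_right_injective hF h2).symm

theorem exists_gl_conj (n : ℕ) (W : Submodule F (Fin n → F)) :
    ∃ A : GL (Fin n) F, ∀ v : Fin n → F, v ∈ S0771.Wk (F := F) n (Module.finrank F W) ↔
      (A : Matrix (Fin n) (Fin n) F) *ᵥ v ∈ (W : Set (Fin n → F)) := by
  classical
  set k := Module.finrank F W with hk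
  have hkn : k ≤ n := by
    have h1 := Submodule.finrank_le W
    rw [Module.finrank_fintype_fun_eq_card, Fintype.card_fin] at h1
    exact h1
  have hfr : Module.finrank F (S0773.WkSub (F := F) n k) = Module.finrank F W := by
    rw [finrank_WkSub n k hkn]
  let φ : S0773.WkSub (F := F) n k ≃ₗ[F] W := LinearEquiv.ofFinrankEq _ _ hfr
  obtain ⟨g, hg⟩ := Submodule.exists_linearEquiv_restrict_eq φ
  refine ⟨⟨LinearMap.toMatrix' g.toLinearMap, LinearMap.toMatrix' g.symm.toLinearMap, ?_, ?_⟩, ?_⟩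
  · rw [← LinearMap.toMatrix'_comp]
    have : g.toLinearMap ∘ₗ g.symm.toLinearMap = LinearMap.id := by
      ext x; simp
    rw [this, LinearMap.toMatrix'_id]
  · rw [← LinearMap.toMatrix'_comp]
    have : g.symm.toLinearMap ∘ₗ g.toLinearMap = LinearMap.id := by
      ext x; simp
    rw [this, LinearMap.toMatrix'_id]
  · intro v
    change v ∈ S0771.Wk (F := F) n k ↔ LinearMap.toMatrix' g.toLinearMap *ᵥ v ∈ W
    rw [LinearMap.toMatrix'_mulVec]
    constructor
    · intro hv
      have := hg ⟨v, hv⟩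
      change (φ ⟨v, hv⟩ : Fin n → F) = g v at this
      change g v ∈ W
      rw [← this]
      exact (φ ⟨v, hv⟩).2
    · intro hv
      change g v ∈ W at hv
      have h1 := hg (φ.symm ⟨g v, hv⟩)
      rw [LinearEquiv.apply_symm_apply] at h1
      have h2 : ((φ.symm ⟨g v, hv⟩ : S0773.WkSub (F := F) n k) : Fin n → F) = v :=
        (g.injective h1).symm
      rw [← h2]
      exact (φ.symm ⟨g v, hv⟩).2

theorem std_max (n k : ℕ) (hk0 : 0 < k) (hkn : k < n) :
    Cfsg.Geo.IsMaximalIn (SLn n) ((PP n k) ⊓ (SLn n)) := by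
  constructor
  · apply lt_of_le_of_ne inf_le_right
    intro heq
    have hij : (⟨k, hkn⟩ : Fin n) ≠ ⟨0, by omega⟩ := by
      intro e
      have := congrArg Fin.val e
      simp at this
      omega
    have hmem : S0773.tv (F := F) (⟨k, hkn⟩ : Fin n) ⟨0, by omega⟩ hij ∈ (PP n k) ⊓ (SLn n) := by
      rw [heq]; exact tv_mem_SL _ _ hij
    have hmem' := (Subgroup.mem_inf.mp hmem).1
    rw [S0773.mem_stab_iff'] at hmem'
    have := hmem' ⟨k, hkn⟩ ⟨0, by omega⟩ le_rfl hk0
    have h1 : (S0773.tv (F := F) (⟨k, hkn⟩ : Fin n) ⟨0, by omega⟩ hij :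
      Matrix (Fin n) (Fin n) F) = Matrix.transvection (⟨k, hkn⟩ : Fin n) ⟨0, by omega⟩ (1 : F) := rfl
    rw [h1] at this
    simp [Matrix.transvection, hij] at this
  · intro M hHM hMK
    by_cases h : M ≤ PP n k
    · left
      exact le_antisymm (le_inf h hMK) hHM
    · right
      have : ∃ g ∈ M, g ∉ PP n k := by
        by_contra hcon
        push Not at hcon
        exact h hcon
      obtain ⟨g, hgM, hgP⟩ := this
      exact le_antisymm hMK (SL_le_of_lt n k M hHM g hgM hgP)

end general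

/-- For a finite field F and n ≥ 13, the stabiliser in SL_n(F) of any proper non-zero subspace W of F^n is a maximal subgroup of SL_n(F). Here SL_n(F) is the kernel of the determinant inside GL_n(F) and the stabiliser is the set of elements of determinant one mapping W onto itself. -/
theorem result {F : Type*} [Field F] [Fintype F] (n : ℕ) (hn : 13 ≤ n) (W : Submodule F (Fin n → F)) (hW0 : W ≠ ⊥) (hW1 : W ≠ ⊤) : Cfsg.Geo.IsMaximalIn (Cfsg.Geo.specialLinear (Fin n) F) (Cfsg.Geo.subspaceStabilizer W ⊓ Cfsg.Geo.specialLinear (Fin n) F) := by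
  classical
  obtain ⟨A, hA⟩ := exists_gl_conj n W
  have hk0 : 0 < Module.finrank F W := by
    rw [Nat.pos_iff_ne_zero]
    intro h0
    exact hW0 (Submodule.finrank_eq_zero.mp h0)
  have hkn : Module.finrank F W < n := by
    have := Submodule.finrank_lt hW1
    rwa [Module.finrank_fintype_fun_eq_card, Fintype.card_fin] at this
  have h1 := isMaximalIn_conj A _ _ (std_max (F := F) n (Module.finrank F W) hk0 hkn)
  rw [Subgroup.map_inf _ _ _ (MulAut.conj A).injective, SL_map_conj,
    stab_map_conj_gl A (W : Set (Fin n → F)) _ hA] at h1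
  exact h1

end Cfsg.Agent.S5631
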