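import Cfsg.Statements.S5632
import Cfsg.Agent.Lib_helper28_Transv

set_option autoImplicit false
open Cfsg

namespace Cfsg.Agent.S5632

/-- For a finite field F and subspaces 0 < W < U of F^n with dim W + dim U = n, the elements of SL_n(F) stabilising both W and U form a subgroup that is not maximal in SL_n(F): some subgroup lies strictly between it and SL_n(F). -/
theorem result {F : Type*} [Field F] [Fintype F] (n : ℕ) (W U : Submodule F (Fin n → F)) (hW0 : W ≠ ⊥) (hWU : W < U) (hdim : Module.finrank F W + Module.finrank F U = n) : ∃ K : Subgroup (Matrix.GeneralLinearGroup (Fin n) F), Cfsg.Geo.subspaceStabilizer W ⊓ Cfsg.Geo.subspaceStabilizer U ⊓ Cfsg.Geo.specialLinear (Fin n) F < K ∧ K < Cfsg.Geo.specialLinear (Fin n) F := by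
  have hWpos : 0 < Module.finrank F W := by
    rw [Module.finrank_pos_iff_exists_ne_zero]
    obtain ⟨w, hw, hw0⟩ := (Submodule.ne_bot_iff W).1 hW0
    exact ⟨⟨w, hw⟩, fun h => hw0 (congrArg Subtype.val h)⟩
  have hUtop : U ≠ ⊤ := by
    rintro rfl
    rw [finrank_top, Module.finrank_fin_fun] at hdim
    omega
  have hWtop : W ≠ ⊤ := by
    rintro rfl
    exact not_top_lt hWU
  obtain ⟨x, hx⟩ : ∃ x, x ∉ U := by
    by_contra h
    push Not at h
    exact hUtop (eq_top_iff.2 fun v _ => h v)
  obtain ⟨u, huU, huW⟩ := SetLike.exists_of_lt hWU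
  have hu : u ∉ W ⊔ Submodule.span F {x} := by
    rw [Submodule.mem_sup]
    rintro ⟨w, hw, y, hy, hwy⟩
    rw [Submodule.mem_span_singleton] at hy
    obtain ⟨c, rfl⟩ := hy
    have hcx : c • x ∈ U := by
      have : c • x = u - w := by rw [← hwy]; abel
      rw [this]
      exact U.sub_mem huU (hWU.le hw)
    by_cases hc : c = 0
    · subst hc
      rw [zero_smul, add_zero] at hwy
      exact huW (hwy ▸ hw)
    · apply hx
      have : x = c⁻¹ • (c • x) := by rw [smul_smul, inv_mul_cancel₀ hc, one_smul]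
      rw [this]
      exact U.smul_mem _ hcx
  exact ⟨Cfsg.Geo.subspaceStabilizer W ⊓ Cfsg.Geo.specialLinear (Fin n) F,
    Cfsg.Agent.helper28.stab_stab_inf_sl_lt W U x u huU hx hu,
    Cfsg.Agent.helper28.stab_inf_sl_lt W hW0 hWtop⟩

end Cfsg.Agent.S5632
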