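import Cfsg.Statements.S5633
import Cfsg.Agent.Lib_helper28_Transv

set_option autoImplicit false
open Cfsg

namespace Cfsg.Agent.S5633

/-- For a finite field F and complementary non-zero subspaces W ⊕ U = F^n with dim W < dim U, the elements of SL_n(F) stabilising both W and U form a subgroup that is not maximal in SL_n(F): some subgroup lies strictly between it and SL_n(F). -/
theorem result {F : Type*} [Field F] [Fintype F] (n : ℕ) (W U : Submodule F (Fin n → F)) (hW0 : W ≠ ⊥) (hWU : W ⊓ U = ⊥) (hWU' : W ⊔ U = ⊤) (hdim : Module.finrank F W < Module.finrank F U) : ∃ K : Subgroup (Matrix.GeneralLinearGroup (Fin n) F), Cfsg.Geo.subspaceStabilizer W ⊓ Cfsg.Geo.subspaceStabilizer U ⊓ Cfsg.Geo.specialLinear (Fin n) F < K ∧ K < Cfsg.Geo.specialLinear (Fin n) F := by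
  have hUpos : 0 < Module.finrank F U := by omega
  obtain ⟨⟨u, huU⟩, hu0'⟩ := Module.finrank_pos_iff_exists_ne_zero.1 hUpos
  have hu0 : u ≠ 0 := fun h => hu0' (Subtype.ext h)
  obtain ⟨x, hxW, hx0⟩ := (Submodule.ne_bot_iff W).1 hW0
  have hdisj : ∀ v, v ∈ W → v ∈ U → v = 0 := by
    intro v hvW hvU
    have : v ∈ W ⊓ U := ⟨hvW, hvU⟩
    rw [hWU] at this
    simpa using this
  have hxU : x ∉ U := fun h => hx0 (hdisj x hxW h)
  have huW : u ∉ W := fun h => hu0 (hdisj u h huU)
  have hWtop : W ≠ ⊤ := by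
    rintro rfl
    exact huW trivial
  have hu : u ∉ W ⊔ Submodule.span F {x} := by
    have : W ⊔ Submodule.span F {x} = W := by
      rw [sup_eq_left, Submodule.span_singleton_le_iff_mem]
      exact hxW
    rw [this]
    exact huW
  exact ⟨Cfsg.Geo.subspaceStabilizer W ⊓ Cfsg.Geo.specialLinear (Fin n) F,
    Cfsg.Agent.helper28.stab_stab_inf_sl_lt W U x u huU hxU hu,
    Cfsg.Agent.helper28.stab_inf_sl_lt W hW0 hWtop⟩

end Cfsg.Agent.S5633
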