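import Cfsg.Statements.S5635
import Cfsg.Agent.Lib_helper13_Dec7

set_option autoImplicit false
open Cfsg

namespace Cfsg.Agent.S5635

open Cfsg.Agent.helper13


/-- For a finite field F with q elements and n ≥ 13, let D be a decomposition of F^n into t ≥ 2 independent subspaces of equal dimension m spanning F^n, where m = 1 and q ≤ 4, or m = 2 and q = 2. Then the elements of SL_n(F) permuting the members of D form a subgroup that is not maximal: some subgroup lies strictly between it and SL_n(F). -/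
theorem result {F : Type*} [Field F] [Fintype F] (n : ℕ) (hn : 13 ≤ n) {t : ℕ} (m : ℕ) (D : Fin t → Submodule F (Fin n → F)) (hD : Cfsg.Geo.IsMDecomposition m D) (h : (m = 1 ∧ Fintype.card F ≤ 4) ∨ (m = 2 ∧ Fintype.card F = 2)) : ∃ K : Subgroup (Matrix.GeneralLinearGroup (Fin n) F), Cfsg.Geo.decompositionStabilizer D ⊓ Cfsg.Geo.specialLinear (Fin n) F < K ∧ K < Cfsg.Geo.specialLinear (Fin n) F := by
  classical
  obtain ⟨E, hE⟩ := exists_coords D hD
  have htm : t * m = n := by
    have h1 := E.finrank_eq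
    rw [Module.finrank_fin_fun, Module.finrank_pi_fintype] at h1
    simp only [Module.finrank_fin_fun, Finset.sum_const, Finset.card_univ, Fintype.card_fin,
      smul_eq_mul] at h1
    exact h1.symm
  have key : ∀ h₀ : (Fin t → Fin m → F) ≃ₗ[F] (Fin t → Fin m → F),
      (∀ y, blockCount (h₀ y) = blockCount y) → LinearMap.det h₀.toLinearMap = 1 →
      (∃ (y : Fin t → Fin m → F) (i₀ ia ib : Fin t), (∀ i', i' ≠ i₀ → y i' = 0) ∧ ia ≠ ib ∧
        h₀ y ia ≠ 0 ∧ h₀ y ib ≠ 0) → 2 ≤ t → 0 < m →
      ∃ K : Subgroup (Matrix.GeneralLinearGroup (Fin n) F),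
        Cfsg.Geo.decompositionStabilizer D ⊓ Cfsg.Geo.specialLinear (Fin n) F < K ∧
          K < Cfsg.Geo.specialLinear (Fin n) F := by
    rintro h₀ hinv hdet ⟨y, i₀, ia, ib, hy, hab, ha, hb⟩ ht hm
    obtain ⟨g₂, h2s, h2⟩ := exists_shear_not_funStab E ht hm
    exact not_max_of_funStab (Cfsg.Geo.decompositionStabilizer D) _ (decompStab_le_funStab D E hE)
      (transp E h₀) (transp_mem_funStab E h₀ hinv) (transp_mem_special E h₀ hdet)
      (transp_not_mem_decompStab D E hE h₀ y i₀ hy ia ib hab ha hb) g₂ h2s h2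
  rcases h with ⟨hm, hq⟩ | ⟨hm, hq⟩
  · subst hm
    have ht : 5 ≤ t := by omega
    have hq2 : 2 ≤ Fintype.card F := by
      have := Fintype.one_lt_card (α := F)
      omega
    have hcases : Fintype.card F = 2 ∨ Fintype.card F = 3 ∨ Fintype.card F = 4 := by omega
    rcases hcases with hF | hF | hF
    · obtain ⟨h₀, hinv, hdet, hw⟩ := frame_wit2 hF ht
      exact key h₀ hinv hdet hw (by omega) (by omega)
    · obtain ⟨h₀, hinv, hdet, hw⟩ := frame_wit3 hF ht
      exact key h₀ hinv hdet hw (by omega) (by omega)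
    · obtain ⟨h₀, hinv, hdet, hw⟩ := frame_wit4 hF ht
      exact key h₀ hinv hdet hw (by omega) (by omega)
  · subst hm
    have ht : 3 ≤ t := by omega
    obtain ⟨h₀, hinv, hdet, hw⟩ := plane_wit2 hq ht
    exact key h₀ hinv hdet hw (by omega) (by omega)

end Cfsg.Agent.S5635
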