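import Cfsg.Statements.S5642
import Mathlib
import Cfsg.Agent.Lib_helper29_SLgen2
-- import your own Cfsg.Agent.* helpers here

set_option autoImplicit false
open Cfsg

namespace Cfsg.Agent.S5642

set_option linter.unusedSectionVars false
set_option linter.unusedVariables false
open Matrix Cfsg.Agent.S0772 Cfsg.Agent.helper29

section basics

variable {F : Type*} [Field F] {n : ℕ}

local notation "VV" => (Fin n → F)

variable {f : (Fin n → F) → (Fin n → F) → F}

theorem f_zero_left (hf : Cfsg.Geo.IsSymplecticForm f) (v : VV) : f 0 v = 0 := by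
  have := hf.bilinear.smul_left 0 0 v
  rw [zero_smul, zero_mul] at this
  exact this

theorem f_zero_right (hf : Cfsg.Geo.IsSymplecticForm f) (v : VV) : f v 0 = 0 := by
  have := hf.bilinear.smul_right 0 v 0
  rw [zero_smul, zero_mul] at this
  exact this

theorem f_neg_right (hf : Cfsg.Geo.IsSymplecticForm f) (u v : VV) : f u (-v) = - f u v := by
  have := hf.bilinear.smul_right (-1) u v
  rw [neg_one_smul, neg_one_mul] at this
  exact this

theorem f_neg_left (hf : Cfsg.Geo.IsSymplecticForm f) (u v : VV) : f (-u) v = - f u v := by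
  have := hf.bilinear.smul_left (-1) u v
  rw [neg_one_smul, neg_one_mul] at this
  exact this

theorem f_sub_right (hf : Cfsg.Geo.IsSymplecticForm f) (u v w : VV) :
    f u (v - w) = f u v - f u w := by
  rw [sub_eq_add_neg, hf.bilinear.add_right, f_neg_right hf, ← sub_eq_add_neg]

theorem f_sub_left (hf : Cfsg.Geo.IsSymplecticForm f) (u v w : VV) :
    f (u - v) w = f u w - f v w := by
  rw [sub_eq_add_neg, hf.bilinear.add_left, f_neg_left hf, ← sub_eq_add_neg]

/-- the vector representing the functional `f(·, w)` -/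
def fv (f : (Fin n → F) → (Fin n → F) → F) (w : VV) : VV := fun i => f (Pi.single i 1) w

theorem fv_dot (hf : Cfsg.Geo.IsSymplecticForm f) (w v : VV) : fv f w ⬝ᵥ v = f v w := by
  classical
  let L : VV →ₗ[F] F :=
    { toFun := fun v => f v w
      map_add' := fun x y => hf.bilinear.add_left x y w
      map_smul' := fun c x => by
        simp only [RingHom.id_apply, smul_eq_mul]
        exact hf.bilinear.smul_left c x w }
  have h := LinearMap.pi_apply_eq_sum_univ L v
  change f v w = _ at h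
  rw [h, dotProduct]
  apply Finset.sum_congr rfl
  intro i _
  rw [smul_eq_mul, mul_comm]
  congr 1
  change f (Pi.single i 1) w = f _ w
  congr 1
  funext j
  rw [Pi.single_apply]
  by_cases hij : i = j
  · rw [if_pos hij, if_pos hij.symm]
  · rw [if_neg hij, if_neg (Ne.symm hij)]

/-- every functional is represented -/
theorem exists_repr (hf : Cfsg.Geo.IsSymplecticForm f) (φ : VV) : ∃ w : VV, ∀ v, f v w = φ ⬝ᵥ v := by
  classical
  let Φ : VV →ₗ[F] VV :=
    { toFun := fun w => fv f w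
      map_add' := fun x y => by
        funext i
        exact hf.bilinear.add_right _ x y
      map_smul' := fun c x => by
        funext i
        simp only [RingHom.id_apply, Pi.smul_apply, smul_eq_mul]
        exact hf.bilinear.smul_right c _ x }
  have hinj : Function.Injective Φ := by
    rw [← LinearMap.ker_eq_bot, LinearMap.ker_eq_bot']
    intro w hw
    by_contra hne
    obtain ⟨⟨x, hx⟩, -⟩ := hf.nondegenerate w hne
    apply hx
    rw [← fv_dot hf]
    change Φ w ⬝ᵥ x = 0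
    rw [hw, zero_dotProduct]
  obtain ⟨w, hw⟩ := (LinearMap.injective_iff_surjective.mp hinj) φ
  refine ⟨w, fun v => ?_⟩
  rw [← fv_dot hf, ← hw]
  rfl

/-- the `f`-transvection `v ↦ v + f(v,w) y`, for `f(y,w) = 0` -/
noncomputable def tv (hf : Cfsg.Geo.IsSymplecticForm f) (y w : VV) (h : f y w = 0) : GL (Fin n) F :=
  G1 y (fv f w) (by rw [fv_dot hf, h, add_zero]; exact one_ne_zero)

theorem G1_mulVec (z φ : VV) (h : 1 + φ ⬝ᵥ z ≠ 0) (v : VV) :
    ((G1 z φ h : GL (Fin n) F) : Matrix (Fin n) (Fin n) F) *ᵥ v = v + (φ ⬝ᵥ v) • z := by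
  rw [G1_val, Matrix.add_mulVec, Matrix.one_mulVec, Matrix.vecMulVec_mulVec]
  congr 1
  funext i
  simp only [Pi.smul_apply, MulOpposite.smul_eq_mul_unop, MulOpposite.unop_op, smul_eq_mul]
  ring

theorem tv_mulVec (hf : Cfsg.Geo.IsSymplecticForm f) (y w : VV) (h : f y w = 0) (v : VV) :
    ((tv hf y w h : GL (Fin n) F) : Matrix (Fin n) (Fin n) F) *ᵥ v = v + f v w • y := by
  unfold tv
  rw [G1_mulVec, fv_dot hf]

theorem tv_mem_SL (hf : Cfsg.Geo.IsSymplecticForm f) (y w : VV) (h : f y w = 0) :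
    tv hf y w h ∈ Cfsg.Geo.specialLinear (Fin n) F := by
  unfold tv
  apply G1_mem_SL
  rw [fv_dot hf, h]

theorem gl_ext (g g' : GL (Fin n) F)
    (h : ∀ v : VV, (g : Matrix (Fin n) (Fin n) F) *ᵥ v = (g' : Matrix (Fin n) (Fin n) F) *ᵥ v) :
    g = g' := by
  apply Units.ext
  rw [Matrix.ext_iff_mulVec]
  exact h

theorem G1_eq_tv (hf : Cfsg.Geo.IsSymplecticForm f) (y φ : VV) (h0 : φ ⬝ᵥ y = 0)
    (h : 1 + φ ⬝ᵥ y ≠ 0) : ∃ (w : VV) (hw : f y w = 0), G1 y φ h = tv hf y w hw := by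
  obtain ⟨w, hw⟩ := exists_repr hf φ
  have h1 : f y w = 0 := by rw [hw, h0]
  refine ⟨w, h1, ?_⟩
  apply gl_ext
  intro v
  rw [G1_mulVec, tv_mulVec, hw]

theorem inv_mulVec_gl (g : GL (Fin n) F) (v : VV) :
    ((g⁻¹ : GL (Fin n) F) : Matrix (Fin n) (Fin n) F) *ᵥ ((g : Matrix (Fin n) (Fin n) F) *ᵥ v) = v := by
  rw [Matrix.mulVec_mulVec, ← Units.val_mul, inv_mul_cancel, Units.val_one, Matrix.one_mulVec]

theorem mulVec_inv_gl (g : GL (Fin n) F) (v : VV) :
    (g : Matrix (Fin n) (Fin n) F) *ᵥ (((g⁻¹ : GL (Fin n) F) : Matrix (Fin n) (Fin n) F) *ᵥ v) = v := by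
  rw [Matrix.mulVec_mulVec, ← Units.val_mul, mul_inv_cancel, Units.val_one, Matrix.one_mulVec]

end basics

section trans

variable {F : Type*} [Field F] {n : ℕ}

local notation "VV" => (Fin n → F)

variable {f : (Fin n → F) → (Fin n → F) → F}

/-- the symplectic transvection `v ↦ v + c f(v,x) x` -/
noncomputable def TT (hf : Cfsg.Geo.IsSymplecticForm f) (x : VV) (c : F) : GL (Fin n) F :=
  tv hf x (c • x) (by rw [hf.bilinear.smul_right, hf.alternating, mul_zero])

theorem TT_mulVec (hf : Cfsg.Geo.IsSymplecticForm f) (x : VV) (c : F) (v : VV) :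
    ((TT hf x c : GL (Fin n) F) : Matrix (Fin n) (Fin n) F) *ᵥ v = v + (c * f v x) • x := by
  unfold TT
  rw [tv_mulVec, hf.bilinear.smul_right]

theorem TT_isom (hf : Cfsg.Geo.IsSymplecticForm f) (x : VV) (c : F) (u v : VV) :
    f (((TT hf x c : GL (Fin n) F) : Matrix (Fin n) (Fin n) F) *ᵥ u)
      (((TT hf x c : GL (Fin n) F) : Matrix (Fin n) (Fin n) F) *ᵥ v) = f u v := by
  rw [TT_mulVec, TT_mulVec, hf.bilinear.add_left, hf.bilinear.add_right, hf.bilinear.add_right,
    hf.bilinear.smul_left, hf.bilinear.smul_left, hf.bilinear.smul_right, hf.bilinear.smul_right,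
    hf.alternating, hf.skew x v]
  ring

theorem TT_mem_H (hf : Cfsg.Geo.IsSymplecticForm f) (x : VV) (c : F) :
    TT hf x c ∈ Cfsg.Geo.similarityGroup f ⊓ Cfsg.Geo.specialLinear (Fin n) F := by
  apply Subgroup.mem_inf.mpr
  constructor
  · exact ⟨1, fun u v => by rw [TT_isom hf, Units.val_one, one_mul]⟩
  · exact tv_mem_SL hf _ _ _

theorem TT_TT_neg (hf : Cfsg.Geo.IsSymplecticForm f) (x : VV) (c : F) (w : VV) :
    ((TT hf x c : GL (Fin n) F) : Matrix (Fin n) (Fin n) F) *ᵥ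
      (((TT hf x (-c) : GL (Fin n) F) : Matrix (Fin n) (Fin n) F) *ᵥ w) = w := by
  rw [TT_mulVec, TT_mulVec, hf.bilinear.add_left, hf.bilinear.smul_left, hf.alternating, mul_zero,
    add_zero, add_assoc, ← add_smul]
  have : -c * f w x + c * f w x = 0 := by ring
  rw [this, zero_smul, add_zero]

/-- conjugating an `f`-transvection by an isometry -/
theorem conj_tv (hf : Cfsg.Geo.IsSymplecticForm f) (h : GL (Fin n) F)
    (hh : ∀ u v : VV, f ((h : Matrix (Fin n) (Fin n) F) *ᵥ u) ((h : Matrix (Fin n) (Fin n) F) *ᵥ v)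
      = f u v) (y w : VV) (hyw : f y w = 0) :
    h * tv hf y w hyw * h⁻¹ = tv hf ((h : Matrix (Fin n) (Fin n) F) *ᵥ y)
      ((h : Matrix (Fin n) (Fin n) F) *ᵥ w) (by rw [hh]; exact hyw) := by
  apply gl_ext
  intro v
  rw [Units.val_mul, Units.val_mul, ← Matrix.mulVec_mulVec, ← Matrix.mulVec_mulVec, tv_mulVec,
    tv_mulVec, Matrix.mulVec_add, Matrix.mulVec_smul, mulVec_inv_gl]
  congr 2
  have := hh (((h⁻¹ : GL (Fin n) F) : Matrix (Fin n) (Fin n) F) *ᵥ v) w
  rw [mulVec_inv_gl] at this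
  exact this.symm

theorem tv_mul (hf : Cfsg.Geo.IsSymplecticForm f) (y w w' : VV) (h : f y w = 0) (h' : f y w' = 0) :
    tv hf y w h * tv hf y w' h' = tv hf y (w + w') (by rw [hf.bilinear.add_right, h, h', add_zero]) := by
  apply gl_ext
  intro v
  rw [Units.val_mul, ← Matrix.mulVec_mulVec, tv_mulVec, tv_mulVec, tv_mulVec, hf.bilinear.add_left,
    hf.bilinear.smul_left, h, mul_zero, add_zero, hf.bilinear.add_right, add_smul]
  abel

theorem tv_zero (hf : Cfsg.Geo.IsSymplecticForm f) (y : VV) :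
    tv hf y 0 (f_zero_right hf y) = 1 := by
  apply gl_ext
  intro v
  rw [tv_mulVec, f_zero_right hf, zero_smul, add_zero, Units.val_one, Matrix.one_mulVec]

theorem tv_zero_left (hf : Cfsg.Geo.IsSymplecticForm f) (w : VV) :
    tv hf 0 w (f_zero_left hf w) = 1 := by
  apply gl_ext
  intro v
  rw [tv_mulVec, smul_zero, add_zero, Units.val_one, Matrix.one_mulVec]

/-- `tv y w` lies in `M` -/
def Zm (hf : Cfsg.Geo.IsSymplecticForm f) (M : Subgroup (GL (Fin n) F)) (y w : VV) : Prop :=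
  ∃ h : f y w = 0, tv hf y w h ∈ M

theorem Zm_add (hf : Cfsg.Geo.IsSymplecticForm f) (M : Subgroup (GL (Fin n) F)) (y w w' : VV)
    (h1 : Zm hf M y w) (h2 : Zm hf M y w') : Zm hf M y (w + w') := by
  obtain ⟨h, hm⟩ := h1
  obtain ⟨h', hm'⟩ := h2
  refine ⟨by rw [hf.bilinear.add_right, h, h', add_zero], ?_⟩
  rw [← tv_mul hf y w w' h h']
  exact M.mul_mem hm hm'

theorem Zm_neg (hf : Cfsg.Geo.IsSymplecticForm f) (M : Subgroup (GL (Fin n) F)) (y w : VV)
    (h1 : Zm hf M y w) : Zm hf M y (-w) := by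
  obtain ⟨h, hm⟩ := h1
  have h' : f y (-w) = 0 := by rw [f_neg_right hf, h, neg_zero]
  refine ⟨h', ?_⟩
  have h2 : tv hf y w h * tv hf y (-w) h' = 1 := by
    rw [tv_mul]
    have : tv hf y (w + -w) (by rw [hf.bilinear.add_right, h, h', add_zero])
        = tv hf y 0 (f_zero_right hf y) := by
      congr 1
      exact add_neg_cancel w
    rw [this, tv_zero]
  have h3 : tv hf y (-w) h' = (tv hf y w h)⁻¹ := (inv_eq_of_mul_eq_one_right h2).symm
  rw [h3]
  exact M.inv_mem hm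

theorem Zm_conj (hf : Cfsg.Geo.IsSymplecticForm f) (M : Subgroup (GL (Fin n) F))
    (h : GL (Fin n) F) (hM : h ∈ M)
    (hh : ∀ u v : VV, f ((h : Matrix (Fin n) (Fin n) F) *ᵥ u) ((h : Matrix (Fin n) (Fin n) F) *ᵥ v)
      = f u v) (y w : VV) (h1 : Zm hf M y w) :
    Zm hf M ((h : Matrix (Fin n) (Fin n) F) *ᵥ y) ((h : Matrix (Fin n) (Fin n) F) *ᵥ w) := by
  obtain ⟨hyw, hm⟩ := h1
  refine ⟨by rw [hh]; exact hyw, ?_⟩
  rw [← conj_tv hf h hh y w hyw]
  exact M.mul_mem (M.mul_mem hM hm) (M.inv_mem hM)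

end trans

section main

variable {F : Type*} [Field F] {n : ℕ}

local notation "VV" => (Fin n → F)

variable {f : (Fin n → F) → (Fin n → F) → F}

theorem lin_dot (ℓ : VV → F) (hadd : ∀ x y, ℓ (x + y) = ℓ x + ℓ y)
    (hsmul : ∀ (c : F) x, ℓ (c • x) = c * ℓ x) (v : VV) :
    (fun i => ℓ (Pi.single i 1)) ⬝ᵥ v = ℓ v := by
  classical
  let L : VV →ₗ[F] F :=
    { toFun := ℓ
      map_add' := hadd
      map_smul' := fun c x => by
        simp only [RingHom.id_apply, smul_eq_mul]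
        exact hsmul c x }
  have h := LinearMap.pi_apply_eq_sum_univ L v
  change ℓ v = _ at h
  rw [h, dotProduct]
  apply Finset.sum_congr rfl
  intro i _
  rw [smul_eq_mul, mul_comm]
  congr 1
  change ℓ (Pi.single i 1) = ℓ _
  congr 1
  funext j
  rw [Pi.single_apply]
  by_cases hij : i = j
  · rw [if_pos hij, if_pos hij.symm]
  · rw [if_neg hij, if_neg (Ne.symm hij)]

/-- the twisted functional `f(g⁻¹ ·, g⁻¹ y)` is represented -/
theorem repr' (hf : Cfsg.Geo.IsSymplecticForm f) (g : GL (Fin n) F) (y : VV) :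
    ∃ w : VV, ∀ v : VV, f v w = f (((g⁻¹ : GL (Fin n) F) : Matrix (Fin n) (Fin n) F) *ᵥ v)
      (((g⁻¹ : GL (Fin n) F) : Matrix (Fin n) (Fin n) F) *ᵥ y) := by
  obtain ⟨w, hw⟩ := exists_repr hf (fun i => f (((g⁻¹ : GL (Fin n) F) : Matrix (Fin n) (Fin n) F) *ᵥ
    (Pi.single i 1)) (((g⁻¹ : GL (Fin n) F) : Matrix (Fin n) (Fin n) F) *ᵥ y))
  refine ⟨w, fun v => ?_⟩
  rw [hw]
  exact lin_dot (fun v => f (((g⁻¹ : GL (Fin n) F) : Matrix (Fin n) (Fin n) F) *ᵥ v)
      (((g⁻¹ : GL (Fin n) F) : Matrix (Fin n) (Fin n) F) *ᵥ y))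
    (fun x y' => by simp only [Matrix.mulVec_add]; exact hf.bilinear.add_left _ _ _)
    (fun c x => by simp only [Matrix.mulVec_smul]; exact hf.bilinear.smul_left _ _ _) v

theorem conj_TT_general (hf : Cfsg.Geo.IsSymplecticForm f) (g : GL (Fin n) F) (x : VV) (c : F)
    (w : VV) (hw : ∀ v : VV, f v w = f (((g⁻¹ : GL (Fin n) F) : Matrix (Fin n) (Fin n) F) *ᵥ v) x)
    (h0 : f ((g : Matrix (Fin n) (Fin n) F) *ᵥ x) (c • w) = 0) :
    g * TT hf x c * g⁻¹ = tv hf ((g : Matrix (Fin n) (Fin n) F) *ᵥ x) (c • w) h0 := by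
  apply gl_ext
  intro v
  rw [Units.val_mul, Units.val_mul, ← Matrix.mulVec_mulVec, ← Matrix.mulVec_mulVec, TT_mulVec,
    tv_mulVec, Matrix.mulVec_add, Matrix.mulVec_smul, mulVec_inv_gl, hf.bilinear.smul_right, hw]

/-- local proportionality implies global proportionality -/
theorem scalar_lemma (hf : Cfsg.Geo.IsSymplecticForm f) (hn : 0 < n)
    (f' : VV → VV → F) (hadd : ∀ v x y, f' v (x + y) = f' v x + f' v y)
    (hskew : ∀ u v, f' u v = - f' v u)
    (h : ∀ y : VV, ∃ l : F, ∀ v : VV, f' v y = l * f v y) :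
    ∃ l : F, ∀ u v : VV, f' u v = l * f u v := by
  classical
  set y₁ : VV := Pi.single ⟨0, hn⟩ 1 with hy₁
  have hy₁0 : y₁ ≠ 0 := by
    intro h0
    have := congrFun h0 ⟨0, hn⟩
    simp [hy₁] at this
  obtain ⟨l₁, hl₁⟩ := h y₁
  refine ⟨l₁, ?_⟩
  have key : ∀ y : VV, f y₁ y ≠ 0 → ∀ v, f' v y = l₁ * f v y := by
    intro y hy
    obtain ⟨l, hl⟩ := h y
    have h1 := hl y₁
    have h2 : f' y₁ y = l₁ * f y₁ y := by
      rw [hskew, hl₁, hf.skew y y₁]; ring
    have h3 : l = l₁ := by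
      have : (l - l₁) * f y₁ y = 0 := by rw [sub_mul, ← h1, ← h2, sub_self]
      rcases mul_eq_zero.mp this with h4 | h4
      · exact sub_eq_zero.mp h4
      · exact absurd h4 hy
    intro v
    rw [hl v, h3]
  intro u y
  by_cases hy : f y₁ y = 0
  · obtain ⟨z, hz⟩ := (hf.nondegenerate y₁ hy₁0).2
    have h1 := key z hz u
    have h2 := key (y + z) (by rw [hf.bilinear.add_right, hy, zero_add]; exact hz) u
    rw [hadd, h1, hf.bilinear.add_right] at h2
    linear_combination h2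
  · exact key y hy u

theorem exists_indep (hf : Cfsg.Geo.IsSymplecticForm f) (y₀ w₀ : VV)
    (hindep : ∀ l : F, w₀ ≠ l • y₀) : ∃ x' : VV, f y₀ x' = 0 ∧ f w₀ x' ≠ 0 := by
  by_contra hcon
  push Not at hcon
  have hfin : ∀ (l : F), (∀ v, f w₀ v = l * f y₀ v) → False := by
    intro l hl
    apply hindep l
    by_contra hne
    have hne' : w₀ - l • y₀ ≠ 0 := sub_ne_zero.mpr hne
    obtain ⟨x, hx⟩ := (hf.nondegenerate _ hne').2
    apply hx
    rw [f_sub_left hf, hf.bilinear.smul_left, hl x, sub_self]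
  by_cases hy : y₀ = 0
  · apply hfin 0
    intro v
    rw [zero_mul]
    apply hcon
    rw [hy, f_zero_left hf]
  · obtain ⟨u, hu⟩ := (hf.nondegenerate y₀ hy).2
    set u₁ := (f y₀ u)⁻¹ • u with hu₁
    have hu1 : f y₀ u₁ = 1 := by
      rw [hu₁, hf.bilinear.smul_right, inv_mul_cancel₀ hu]
    apply hfin (f w₀ u₁)
    intro v
    have h1 : f y₀ (v - (f y₀ v) • u₁) = 0 := by
      rw [f_sub_right hf, hf.bilinear.smul_right, hu1, mul_one, sub_self]
    have h2 := hcon _ h1
    rw [f_sub_right hf, hf.bilinear.smul_right] at h2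
    linear_combination h2

theorem move1 (hf : Cfsg.Geo.IsSymplecticForm f) (y y' : VV) (h : f y y' ≠ 0) :
    ((TT hf (y - y') (f y y')⁻¹ : GL (Fin n) F) : Matrix (Fin n) (Fin n) F) *ᵥ y = y' := by
  rw [TT_mulVec, f_sub_right hf, hf.alternating, zero_sub, mul_neg, inv_mul_cancel₀ h, neg_one_smul]
  abel

theorem move2 (hf : Cfsg.Geo.IsSymplecticForm f) (y y' : VV) (hy : y ≠ 0) (hy' : y' ≠ 0) :
    ∃ z : VV, f y z ≠ 0 ∧ f z y' ≠ 0 := by
  obtain ⟨a, ha⟩ := (hf.nondegenerate y hy).2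
  obtain ⟨b, hb⟩ := (hf.nondegenerate y' hy').1
  by_cases h1 : f a y' = 0
  · by_cases h2 : f y b = 0
    · refine ⟨a + b, ?_, ?_⟩
      · rw [hf.bilinear.add_right, h2, add_zero]; exact ha
      · rw [hf.bilinear.add_left, h1, zero_add]; exact hb
    · exact ⟨b, h2, hb⟩
  · exact ⟨a, ha, h1⟩

end main

section main2

variable {F : Type*} [Field F] {n : ℕ}

local notation "VV" => (Fin n → F)

variable {f : (Fin n → F) → (Fin n → F) → F}

theorem exists_start (hf : Cfsg.Geo.IsSymplecticForm f) (hn : 0 < n) (g : GL (Fin n) F)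
    (hg : g ∉ Cfsg.Geo.similarityGroup f) :
    ∃ y₀ w₀ : VV, (∀ v : VV, f v w₀ = f (((g⁻¹ : GL (Fin n) F) : Matrix (Fin n) (Fin n) F) *ᵥ v)
      (((g⁻¹ : GL (Fin n) F) : Matrix (Fin n) (Fin n) F) *ᵥ y₀)) ∧ ∀ l : F, w₀ ≠ l • y₀ := by
  classical
  by_contra hcon
  push Not at hcon
  apply hg
  have hsc := scalar_lemma hf hn
    (fun u v => f (((g⁻¹ : GL (Fin n) F) : Matrix (Fin n) (Fin n) F) *ᵥ u)
      (((g⁻¹ : GL (Fin n) F) : Matrix (Fin n) (Fin n) F) *ᵥ v))
    (fun v x y => by simp only [Matrix.mulVec_add]; exact hf.bilinear.add_right _ _ _)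
    (fun u v => hf.skew _ _)
    (fun y => by
      obtain ⟨w, hw⟩ := repr' hf g y
      obtain ⟨l, hl⟩ := hcon y w hw
      refine ⟨l, fun v => ?_⟩
      rw [← hw v, hl, hf.bilinear.smul_right])
  obtain ⟨l₁, hl₁⟩ := hsc
  have hl₁0 : l₁ ≠ 0 := by
    intro h0
    set y₁ : VV := Pi.single ⟨0, hn⟩ 1 with hy₁
    have hy₁0 : y₁ ≠ 0 := by
      intro h0
      have := congrFun h0 ⟨0, hn⟩
      simp [hy₁] at this
    have hgy : ((g⁻¹ : GL (Fin n) F) : Matrix (Fin n) (Fin n) F) *ᵥ y₁ ≠ 0 := by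
      intro h1
      apply hy₁0
      have := mulVec_inv_gl g y₁
      rw [h1, Matrix.mulVec_zero] at this
      exact this.symm
    obtain ⟨x, hx⟩ := (hf.nondegenerate _ hgy).1
    apply hx
    have := hl₁ ((g : Matrix (Fin n) (Fin n) F) *ᵥ x) y₁
    rw [inv_mulVec_gl, h0, zero_mul] at this
    exact this
  have hinv : g⁻¹ ∈ Cfsg.Geo.similarityGroup f := ⟨Units.mk0 l₁ hl₁0, fun u v => hl₁ u v⟩
  have := (Cfsg.Geo.similarityGroup f).inv_mem hinv
  rwa [inv_inv] at this

theorem all_tv (hf : Cfsg.Geo.IsSymplecticForm f) (hn : 0 < n) (M : Subgroup (GL (Fin n) F))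
    (hHM : Cfsg.Geo.similarityGroup f ⊓ Cfsg.Geo.specialLinear (Fin n) F ≤ M)
    (g : GL (Fin n) F) (hgM : g ∈ M) (hg : g ∉ Cfsg.Geo.similarityGroup f) :
    ∀ (y w : VV) (h : f y w = 0), tv hf y w h ∈ M := by
  classical
  obtain ⟨y₀, w₀, hw₀, hindep⟩ := exists_start hf hn g hg
  have hTM : ∀ (x : VV) (c : F), TT hf x c ∈ M := fun x c => hHM (TT_mem_H hf x c)
  -- the start: Zm y₀ (c • w₀)
  have hZ0 : ∀ c : F, Zm hf M y₀ (c • w₀) := by
    intro c
    set x := ((g⁻¹ : GL (Fin n) F) : Matrix (Fin n) (Fin n) F) *ᵥ y₀ with hx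
    have hgx : (g : Matrix (Fin n) (Fin n) F) *ᵥ x = y₀ := mulVec_inv_gl g y₀
    have h0 : f ((g : Matrix (Fin n) (Fin n) F) *ᵥ x) (c • w₀) = 0 := by
      rw [hgx, hf.bilinear.smul_right, hw₀ y₀, hf.alternating, mul_zero]
    have h1 : Zm hf M ((g : Matrix (Fin n) (Fin n) F) *ᵥ x) (c • w₀) := by
      refine ⟨h0, ?_⟩
      rw [← conj_TT_general hf g x c w₀ hw₀ h0]
      exact M.mul_mem (M.mul_mem hgM (hTM x c)) (M.inv_mem hgM)
    rwa [hgx] at h1
  have hZw₀ : Zm hf M y₀ w₀ := by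
    have := hZ0 1
    rwa [one_smul] at this
  -- Step A1
  have A1 : ∀ x : VV, f y₀ x = 0 → f w₀ x ≠ 0 → ∀ a : F, Zm hf M y₀ (a • x) := by
    intro x hx1 hx2 a
    set c := a / f w₀ x with hc
    have h1 := Zm_conj hf M (TT hf x c) (hTM x c) (TT_isom hf x c) y₀ w₀ hZw₀
    rw [TT_mulVec, TT_mulVec, hx1, mul_zero, zero_smul, add_zero] at h1
    have h2 := Zm_add hf M y₀ _ _ h1 (Zm_neg hf M y₀ w₀ hZw₀)
    have h3 : w₀ + (c * f w₀ x) • x + -w₀ = a • x := by
      have : c * f w₀ x = a := by rw [hc]; field_simp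
      rw [this]; abel
    rwa [h3] at h2
  obtain ⟨x', hx'1, hx'2⟩ := exists_indep hf y₀ w₀ hindep
  -- Step A
  have stepA : ∀ x : VV, f y₀ x = 0 → Zm hf M y₀ x := by
    intro x hx
    by_cases h : f w₀ x = 0
    · have h1 := A1 (x + x') (by rw [hf.bilinear.add_right, hx, hx'1, add_zero])
        (by rw [hf.bilinear.add_right, h, zero_add]; exact hx'2) 1
      have h2 := A1 x' hx'1 hx'2 (-1)
      have h3 := Zm_add hf M y₀ _ _ h1 h2
      have : (1 : F) • (x + x') + (-1 : F) • x' = x := by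
        rw [one_smul, neg_one_smul]; abel
      rwa [this] at h3
    · have := A1 x hx h 1
      rwa [one_smul] at this
  -- Good
  have good_T : ∀ (y x : VV) (c : F), (∀ w, f y w = 0 → Zm hf M y w) →
      ∀ w, f (((TT hf x c : GL (Fin n) F) : Matrix (Fin n) (Fin n) F) *ᵥ y) w = 0 →
        Zm hf M (((TT hf x c : GL (Fin n) F) : Matrix (Fin n) (Fin n) F) *ᵥ y) w := by
    intro y x c hy w hw
    set w' := ((TT hf x (-c) : GL (Fin n) F) : Matrix (Fin n) (Fin n) F) *ᵥ w with hw'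
    have h1 : ((TT hf x c : GL (Fin n) F) : Matrix (Fin n) (Fin n) F) *ᵥ w' = w :=
      TT_TT_neg hf x c w
    have h2 : f y w' = 0 := by
      rw [← TT_isom hf x c y w', h1]; exact hw
    have h3 := Zm_conj hf M (TT hf x c) (hTM x c) (TT_isom hf x c) y w' (hy w' h2)
    rwa [h1] at h3
  have good_step : ∀ (y y' : VV), f y y' ≠ 0 → (∀ w, f y w = 0 → Zm hf M y w) →
      ∀ w, f y' w = 0 → Zm hf M y' w := by
    intro y y' h hy
    have := good_T y (y - y') (f y y')⁻¹ hy
    rwa [move1 hf y y' h] at this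
  have hy₀0 : y₀ ≠ 0 := by
    intro h0
    apply hindep 0
    rw [zero_smul]
    by_contra hne
    obtain ⟨x, hx⟩ := (hf.nondegenerate w₀ hne).1
    apply hx
    rw [hw₀ x, h0, Matrix.mulVec_zero, f_zero_right hf]
  intro y w h
  by_cases hy0 : y = 0
  · subst hy0
    rw [tv_zero_left]
    exact M.one_mem
  · have hgood : ∀ w, f y w = 0 → Zm hf M y w := by
      by_cases h1 : f y₀ y = 0
      · obtain ⟨z, hz1, hz2⟩ := move2 hf y₀ y hy₀0 hy0
        exact good_step z y hz2 (good_step y₀ z hz1 stepA)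
      · exact good_step y₀ y h1 stepA
    obtain ⟨_, hm⟩ := hgood w h
    exact hm

end main2

section final

variable {F : Type*} [Field F] {n : ℕ}

local notation "VV" => (Fin n → F)

variable {f : (Fin n → F) → (Fin n → F) → F}

theorem SL_le (hf : Cfsg.Geo.IsSymplecticForm f) (hn : 2 ≤ n) (M : Subgroup (GL (Fin n) F))
    (hHM : Cfsg.Geo.similarityGroup f ⊓ Cfsg.Geo.specialLinear (Fin n) F ≤ M)
    (g : GL (Fin n) F) (hgM : g ∈ M) (hg : g ∉ Cfsg.Geo.similarityGroup f) :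
    Cfsg.Geo.specialLinear (Fin n) F ≤ M := by
  apply SL_le_of_G1 hn
  intro y φ h0 h1
  obtain ⟨w, hw, he⟩ := G1_eq_tv hf y φ h0 h1
  rw [he]
  exact all_tv hf (by omega) M hHM g hgM hg y w hw

theorem exists_not_sim (hf : Cfsg.Geo.IsSymplecticForm f) (hn : 3 ≤ n) :
    ∃ g : GL (Fin n) F, g ∈ Cfsg.Geo.specialLinear (Fin n) F ∧ g ∉ Cfsg.Geo.similarityGroup f := by
  classical
  have hn0 : 0 < n := by omega
  set y : VV := Pi.single ⟨0, hn0⟩ 1 with hy
  have hy0 : y ≠ 0 := by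
    intro h0
    have := congrFun h0 ⟨0, hn0⟩
    simp [hy] at this
  obtain ⟨u, hu⟩ := (hf.nondegenerate y hy0).2
  set u₁ := (f y u)⁻¹ • u with hu₁
  have hu1 : f y u₁ = 1 := by
    rw [hu₁, hf.bilinear.smul_right, inv_mul_cancel₀ hu]
  -- a vector outside span {y, u₁}
  have hz : ∃ z : VV, z ∉ Submodule.span F (({y, u₁} : Finset VV) : Set VV) := by
    by_contra hcon
    push Not at hcon
    have htop : Submodule.span F (({y, u₁} : Finset VV) : Set VV) = ⊤ := by
      rw [eq_top_iff]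
      intro z _
      exact hcon z
    have h1 : Module.finrank F (Submodule.span F (({y, u₁} : Finset VV) : Set VV)) ≤
        ({y, u₁} : Finset VV).card := finrank_span_finset_le_card _
    rw [htop, finrank_top, Module.finrank_fintype_fun_eq_card, Fintype.card_fin] at h1
    have := Finset.card_le_two (a := y) (b := u₁)
    omega
  obtain ⟨z, hz⟩ := hz
  set w := z - (f y z) • u₁ with hw
  have hyw : f y w = 0 := by
    rw [hw, f_sub_right hf, hf.bilinear.smul_right, hu1, mul_one, sub_self]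
  have hindep : ∀ l : F, w ≠ l • y := by
    intro l hl
    apply hz
    have hzeq : z = l • y + (f y z) • u₁ := by
      rw [← hl, hw]; abel
    rw [hzeq]
    apply Submodule.add_mem
    · apply Submodule.smul_mem
      apply Submodule.subset_span
      simp
    · apply Submodule.smul_mem
      apply Submodule.subset_span
      simp
  have hw0 : w ≠ 0 := by
    have := hindep 0
    rwa [zero_smul] at this
  refine ⟨tv hf y w hyw, tv_mem_SL hf y w hyw, ?_⟩
  rintro ⟨c, hc⟩
  have hgy : ((tv hf y w hyw : GL (Fin n) F) : Matrix (Fin n) (Fin n) F) *ᵥ y = y := by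
    rw [tv_mulVec, hyw, zero_smul, add_zero]
  have hc1 : (c : F) = 1 := by
    have := hc y u₁
    rw [hgy, tv_mulVec] at this
    have e : f y (u₁ + f u₁ w • y) = 1 := by
      rw [hf.bilinear.add_right, hu1, hf.bilinear.smul_right (f u₁ w) y y, hf.alternating,
        mul_zero, add_zero]
    rw [e, hu1, mul_one] at this
    exact this.symm
  have hindep' : ∀ l : F, y ≠ l • w := by
    intro l hl
    have hl0 : l ≠ 0 := by
      rintro rfl
      rw [zero_smul] at hl
      exact hy0 hl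
    apply hindep l⁻¹
    rw [hl, smul_smul, inv_mul_cancel₀ hl0, one_smul]
  obtain ⟨a, ha1, ha2⟩ := exists_indep hf w y hindep'
  obtain ⟨b, hb⟩ := (hf.nondegenerate w hw0).1
  have h1 := hc a b
  rw [tv_mulVec, tv_mulVec, hc1, one_mul, hf.bilinear.add_left, hf.bilinear.add_right,
    hf.bilinear.add_right, hf.bilinear.smul_left, hf.bilinear.smul_left, hf.bilinear.smul_right,
    hf.bilinear.smul_right, hf.alternating, hf.skew a w, ha1] at h1
  have h2 : f b w * f a y = 0 := by linear_combination h1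
  rcases mul_eq_zero.mp h2 with h3 | h3
  · exact hb h3
  · apply ha2
    rw [hf.skew, h3, neg_zero]

end final

/-- For a finite field F and n ≥ 13, let f be a non-degenerate symplectic form on F^n (so n is even). Then the elements of SL_n(F) that are similarities of f (f(gu, gv) = c f(u, v) for a non-zero scalar c depending on g) form a maximal subgroup of SL_n(F). -/
theorem result {F : Type*} [Field F] [Fintype F] (n : ℕ) (hn : 13 ≤ n) (f : (Fin n → F) → (Fin n → F) → F) (hf : Cfsg.Geo.IsSymplecticForm f) : Cfsg.Geo.IsMaximalIn (Cfsg.Geo.specialLinear (Fin n) F) (Cfsg.Geo.similarityGroup f ⊓ Cfsg.Geo.specialLinear (Fin n) F) := by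
  classical
  constructor
  · apply lt_of_le_of_ne inf_le_right
    intro heq
    obtain ⟨g, hg1, hg2⟩ := exists_not_sim hf (by omega : 3 ≤ n)
    rw [← heq] at hg1
    exact hg2 (Subgroup.mem_inf.mp hg1).1
  · intro M hHM hMK
    by_cases h : M ≤ Cfsg.Geo.similarityGroup f
    · left
      exact le_antisymm (le_inf h hMK) hHM
    · right
      have : ∃ g ∈ M, g ∉ Cfsg.Geo.similarityGroup f := by
        by_contra hcon
        push Not at hcon
        exact h hcon
      obtain ⟨g, hgM, hgS⟩ := this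
      exact le_antisymm hMK (SL_le hf (by omega) M hHM g hgM hgS)

end Cfsg.Agent.S5642
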