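import Cfsg.Statements.S5643
import Mathlib
import Cfsg.Agent.Lib_helper29_UForm
-- import your own Cfsg.Agent.* helpers here

set_option autoImplicit false
open Cfsg

namespace Cfsg.Agent.S5643

/-- For a finite field F and n ≥ 13, let σ be a field automorphism of F of order two and f a non-degenerate unitary form on F^n with respect to σ. Then the elements of SL_n(F) that are similarities of f form a maximal subgroup of SL_n(F). -/
theorem result {F : Type*} [Field F] [Fintype F] (n : ℕ) (hn : 13 ≤ n) (σ : F ≃+* F) (f : (Fin n → F) → (Fin n → F) → F) (hf : Cfsg.Geo.IsUnitaryForm σ f) : Cfsg.Geo.IsMaximalIn (Cfsg.Geo.specialLinear (Fin n) F) (Cfsg.Geo.similarityGroup f ⊓ Cfsg.Geo.specialLinear (Fin n) F) := by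
  obtain ⟨q, hF, hσ⟩ := Cfsg.Agent.helper29.sigma_pow σ hf.ne_refl hf.involutive
  have hH : Cfsg.Agent.helper29.HermF q f :=
    ⟨hf.add_left, hf.smul_left, fun v w => by rw [hf.herm v w, hσ]⟩
  obtain ⟨P, hP⟩ := hH.exists_std hF hf.nondegenerate
  have hstd : Cfsg.Geo.IsMaximalIn (Cfsg.Geo.specialLinear (Fin n) F)
      (Cfsg.Geo.similarityGroup (Cfsg.hermForm n F q) ⊓ Cfsg.Geo.specialLinear (Fin n) F) :=
    ⟨Cfsg.Agent.helper29.simG_lt hF (by omega),
      fun M h1 h2 => Cfsg.Agent.helper29.thmSim hF (by omega) M h1 h2⟩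
  have h1 := Cfsg.Agent.helper29.isMaximalIn_conj P _ _ hstd
  rw [Subgroup.map_inf _ _ _ (MulAut.conj P).injective, Cfsg.Agent.helper29.SL_map_conj,
    Cfsg.Agent.helper29.sim_conj f P hP] at h1
  exact h1

end Cfsg.Agent.S5643
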