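import Cfsg.Statements.S5646
import Mathlib
import Cfsg.Agent.S5645
-- import your own Cfsg.Agent.* helpers here

set_option autoImplicit false
open Cfsg

namespace Cfsg.Agent.S5646

set_option linter.unusedSectionVars false
set_option linter.unusedVariables false
open Matrix Cfsg.Agent.helper4 Cfsg.Agent.S0245 Cfsg.Agent.S2594 Cfsg.Agent.S0440 Cfsg.Agent.helper29
  Cfsg.Agent.S0776 Cfsg.Agent.S5645

section generic

variable {F : Type*} [Field F] {n S₁ S₂ : Type} [Fintype n] [DecidableEq n]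
  [Fintype S₁] [DecidableEq S₁] [Fintype S₂] [DecidableEq S₂] (e : S₁ ⊕ S₂ ≃ n)

/-- first block of coordinates -/
def c1 (v : n → F) : S₁ → F := fun a => v (e (Sum.inl a))
/-- second block of coordinates -/
def c2 (v : n → F) : S₂ → F := fun b => v (e (Sum.inr b))
/-- assemble a vector from its two blocks -/
def emb (a : S₁ → F) (b : S₂ → F) : n → F := Sum.elim a b ∘ e.symm

theorem c1_emb (a : S₁ → F) (b : S₂ → F) : c1 e (emb e a b) = a := by
  funext x; simp [c1, emb]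

theorem c2_emb (a : S₁ → F) (b : S₂ → F) : c2 e (emb e a b) = b := by
  funext x; simp [c2, emb]

theorem emb_c (v : n → F) : emb e (c1 e v) (c2 e v) = v := by
  funext x
  obtain ⟨s, rfl⟩ := e.surjective x
  rcases s with a | b <;> simp [c1, c2, emb]

theorem ext_c (v v' : n → F) (h1 : c1 e v = c1 e v') (h2 : c2 e v = c2 e v') : v = v' := by
  rw [← emb_c e v, ← emb_c e v', h1, h2]

theorem c1_add (v v' : n → F) : c1 e (v + v') = c1 e v + c1 e v' := by
  funext x; simp [c1]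

theorem c2_add (v v' : n → F) : c2 e (v + v') = c2 e v + c2 e v' := by
  funext x; simp [c2]

theorem mem_W0_iff (v : n → F) : v ∈ W0 F e ↔ c2 e v = 0 := by
  rw [mem_W0]
  constructor
  · intro h; funext b; exact h b
  · intro h b; exact congrFun h b

theorem c1_Phi0 (A : Matrix S₁ S₁ F) (B : Matrix S₂ S₂ F) (v : n → F) :
    c1 e (Phi0 e A B *ᵥ v) = A *ᵥ c1 e v := by
  funext a
  unfold c1 Phi0
  rw [Matrix.submatrix_mulVec_equiv, Function.comp_apply, Equiv.symm_apply_apply,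
    Matrix.fromBlocks_mulVec, Sum.elim_inl, Matrix.zero_mulVec, add_zero]
  rfl

theorem c2_Phi0 (A : Matrix S₁ S₁ F) (B : Matrix S₂ S₂ F) (v : n → F) :
    c2 e (Phi0 e A B *ᵥ v) = B *ᵥ c2 e v := by
  funext a
  unfold c2 Phi0
  rw [Matrix.submatrix_mulVec_equiv, Function.comp_apply, Equiv.symm_apply_apply,
    Matrix.fromBlocks_mulVec, Sum.elim_inr, Matrix.zero_mulVec, zero_add]
  rfl

/-- a subspace mapped into the union of two subspaces is mapped into one of them -/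
theorem sub_union {V : Type*} [AddCommGroup V] [Module F V] (S U U' : Submodule F V)
    (g : V →ₗ[F] V) (h : ∀ x ∈ S, g x ∈ U ∨ g x ∈ U') :
    (∀ x ∈ S, g x ∈ U) ∨ (∀ x ∈ S, g x ∈ U') := by
  by_contra hcon
  push Not at hcon
  obtain ⟨⟨x₁, hx₁, h1⟩, ⟨x₂, hx₂, h2⟩⟩ := hcon
  have h1' : g x₁ ∈ U' := (h x₁ hx₁).resolve_left h1
  have h2' : g x₂ ∈ U := (h x₂ hx₂).resolve_right h2
  rcases h (x₁ + x₂) (S.add_mem hx₁ hx₂) with h3 | h3
  · rw [map_add] at h3
    apply h1
    have := U.sub_mem h3 h2'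
    rwa [add_sub_cancel_right] at this
  · rw [map_add] at h3
    apply h2
    have := U'.sub_mem h3 h1'
    rwa [add_sub_cancel_left] at this

end generic

section specific

variable {F : Type*} [Field F] {m : ℕ}

local notation "Sp" => Matrix.symplecticGroup (Fin m) F
local notation "ff" => Cfsg.sympForm m F
local notation "VV" => (Fin m ⊕ Fin m → F)

/-- the standard stabilizer -/
abbrev P0 (m : ℕ) (F : Type*) [Field F] (k : ℕ) (hk : k ≤ m) :
    Subgroup (Matrix.symplecticGroup (Fin m) F) :=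
  Cfsg.stabilizing (Cfsg.spToMat m F) (W0 F (ee m k hk) : Set (Fin m ⊕ Fin m → F))

theorem form_W0_W0' (k : ℕ) (hk : k ≤ m) (u x : VV) (hu : c2 (ee m k hk) u = 0)
    (hx : c1 (ee m k hk) x = 0) : ff u x = 0 := by
  rw [sympForm_eq_sum]
  apply Finset.sum_eq_zero
  intro i _
  obtain ⟨s, rfl⟩ := (sig m k hk).surjective i
  rcases s with a | b
  · have h1 : x (Sum.inl (sig m k hk (Sum.inl a))) = 0 := congrFun hx (Sum.inl a)
    have h2 : x (Sum.inr (sig m k hk (Sum.inl a))) = 0 := congrFun hx (Sum.inr a)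
    rw [h1, h2]; ring
  · have h1 : u (Sum.inl (sig m k hk (Sum.inr b))) = 0 := congrFun hu (Sum.inl b)
    have h2 : u (Sum.inr (sig m k hk (Sum.inr b))) = 0 := congrFun hu (Sum.inr b)
    rw [h1, h2]; ring

theorem TT_mem_P0_of_W0 [Finite F] (k : ℕ) (hk : k ≤ m) (x : VV) (hx : x ∈ W0 F (ee m k hk))
    (c : F) : (TT x c : Sp) ∈ P0 m F k hk := by
  apply Cfsg.Agent.S0774.mem_of_forward
  intro w hw
  change ((TT x c : Sp) : Matrix (Fin m ⊕ Fin m) (Fin m ⊕ Fin m) F) *ᵥ w ∈ W0 F (ee m k hk)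
  rw [TT_mulVec]
  exact Submodule.add_mem _ hw (Submodule.smul_mem _ _ hx)

theorem TT_mem_P0_of_W0' [Finite F] (k : ℕ) (hk : k ≤ m) (x : VV) (hx : c1 (ee m k hk) x = 0)
    (c : F) : (TT x c : Sp) ∈ P0 m F k hk := by
  apply Cfsg.Agent.S0774.mem_of_forward
  intro w hw
  change ((TT x c : Sp) : Matrix (Fin m ⊕ Fin m) (Fin m ⊕ Fin m) F) *ᵥ w ∈ W0 F (ee m k hk)
  rw [TT_mulVec, form_W0_W0' k hk w x ((mem_W0_iff _ w).mp hw) hx, mul_zero, zero_smul, add_zero]
  exact hw

theorem Phi_mem_P0 (k : ℕ) (hk : k ≤ m)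
    (p : Matrix.symplecticGroup (Fin k) F × Matrix.symplecticGroup (Fin (m - k)) F) :
    Phi k hk p ∈ P0 m F k hk := by
  change _ ∈ Cfsg.stabilizing (Cfsg.spToMat m F) (W0 F (ee m k hk) : Set (Fin m ⊕ Fin m → F))
  rw [← range_Phi k hk]
  exact ⟨p, rfl⟩

theorem mixed_trans (k : ℕ) (hk : k ≤ m) (v v' : VV)
    (h1 : c1 (ee m k hk) v ≠ 0) (h2 : c2 (ee m k hk) v ≠ 0)
    (h1' : c1 (ee m k hk) v' ≠ 0) (h2' : c2 (ee m k hk) v' ≠ 0) :
    ∃ g : Sp, g ∈ P0 m F k hk ∧ (g : Matrix (Fin m ⊕ Fin m) (Fin m ⊕ Fin m) F) *ᵥ v = v' := by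
  obtain ⟨A, hA⟩ := trans_nonzero _ _ h1 h1'
  obtain ⟨B, hB⟩ := trans_nonzero _ _ h2 h2'
  refine ⟨Phi k hk (A, B), Phi_mem_P0 k hk _, ?_⟩
  apply ext_c (ee m k hk)
  · rw [Phi_coe, c1_Phi0]; exact hA
  · rw [Phi_coe, c2_Phi0]; exact hB

theorem XX_all_of_mixed [Finite F] (k : ℕ) (hk : k ≤ m) (M : Subgroup Sp) (hM : P0 m F k hk ≤ M)
    (y₀ : VV) (hy : XX M y₀) (h1 : c1 (ee m k hk) y₀ ≠ 0) (h2 : c2 (ee m k hk) y₀ ≠ 0) :
    ∀ v : VV, XX M v := by
  intro v
  by_cases hv1 : c1 (ee m k hk) v = 0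
  · exact fun c => hM (TT_mem_P0_of_W0' k hk v hv1 c)
  · by_cases hv2 : c2 (ee m k hk) v = 0
    · exact fun c => hM (TT_mem_P0_of_W0 k hk v ((mem_W0_iff _ v).mpr hv2) c)
    · obtain ⟨g, hg, hgv⟩ := mixed_trans k hk y₀ v h1 h2 hv1 hv2
      rw [← hgv]
      exact XX_inv M g (hM hg) y₀ hy

/-- the complementary coordinate subspace -/
def W0' (m : ℕ) (F : Type*) [Field F] (k : ℕ) (hk : k ≤ m) : Submodule F (Fin m ⊕ Fin m → F) where
  carrier := {w | c1 (ee m k hk) w = 0}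
  add_mem' := by
    intro a b ha hb
    change c1 _ (a + b) = 0
    rw [c1_add, ha, hb, add_zero]
  zero_mem' := by funext x; rfl
  smul_mem' := by
    intro c a ha
    funext x
    have := congrFun ha x
    change c * a _ = 0
    change a _ = 0 at this
    rw [this, mul_zero]

theorem mem_W0' (k : ℕ) (hk : k ≤ m) (w : VV) : w ∈ W0' m F k hk ↔ c1 (ee m k hk) w = 0 := Iff.rfl

theorem emb_mem_W0 (k : ℕ) (hk : k ≤ m) (a : Fin k ⊕ Fin k → F) :
    emb (ee m k hk) a 0 ∈ W0 F (ee m k hk) := by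
  rw [mem_W0_iff, c2_emb]

theorem emb_mem_W0' (k : ℕ) (hk : k ≤ m) (b : Fin (m - k) ⊕ Fin (m - k) → F) :
    emb (ee m k hk) 0 b ∈ W0' m F k hk := by
  rw [mem_W0', c1_emb]

theorem decomp (k : ℕ) (hk : k ≤ m) (v : VV) :
    v = emb (ee m k hk) (c1 (ee m k hk) v) 0 + emb (ee m k hk) 0 (c2 (ee m k hk) v) := by
  apply ext_c (ee m k hk)
  · rw [c1_add, c1_emb, c1_emb, add_zero]
  · rw [c2_add, c2_emb, c2_emb, zero_add]

theorem exists_mixed [Fintype F] (k : ℕ) (hk : k ≤ m) (hk1 : 1 ≤ k) (hkm : 2 * k < m) (g : Sp)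
    (hg : g ∉ P0 m F k hk) :
    ∃ x : VV, (x ∈ W0 F (ee m k hk) ∨ x ∈ W0' m F k hk) ∧
      c1 (ee m k hk) ((g : Matrix (Fin m ⊕ Fin m) (Fin m ⊕ Fin m) F) *ᵥ x) ≠ 0 ∧
      c2 (ee m k hk) ((g : Matrix (Fin m ⊕ Fin m) (Fin m ⊕ Fin m) F) *ᵥ x) ≠ 0 := by
  classical
  by_contra hcon
  push Not at hcon
  set G : VV →ₗ[F] VV := Matrix.mulVecLin (g : Matrix (Fin m ⊕ Fin m) (Fin m ⊕ Fin m) F) with hG
  have hGa : ∀ x, G x = (g : Matrix (Fin m ⊕ Fin m) (Fin m ⊕ Fin m) F) *ᵥ x := fun x => rfl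
  have key : ∀ S : Submodule F VV, (∀ x ∈ S, x ∈ W0 F (ee m k hk) ∨ x ∈ W0' m F k hk) →
      (∀ x ∈ S, G x ∈ W0 F (ee m k hk)) ∨ (∀ x ∈ S, G x ∈ W0' m F k hk) := by
    intro S hS
    apply sub_union
    intro x hx
    by_cases h : c1 (ee m k hk) (G x) = 0
    · right; exact h
    · left
      rw [mem_W0_iff]
      exact hcon x (hS x hx) h
  rcases key (W0 F (ee m k hk)) (fun x hx => Or.inl hx) with h1 | h1
  · apply hg
    apply Cfsg.Agent.S0774.mem_of_forward
    intro w hw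
    exact h1 w hw
  · rcases key (W0' m F k hk) (fun x hx => Or.inr hx) with h2 | h2
    · -- counting
      let f : (Fin (m - k) ⊕ Fin (m - k) → F) → (Fin k ⊕ Fin k → F) :=
        fun b => c1 (ee m k hk) (G (emb (ee m k hk) 0 b))
      have hf : Function.Injective f := by
        intro b b' hbb
        have e1 : G (emb (ee m k hk) 0 b) = G (emb (ee m k hk) 0 b') := by
          apply ext_c (ee m k hk)
          · exact hbb
          · rw [(mem_W0_iff _ _).mp (h2 _ (emb_mem_W0' k hk b)),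
              (mem_W0_iff _ _).mp (h2 _ (emb_mem_W0' k hk b'))]
        have e2 : emb (ee m k hk) 0 b = emb (ee m k hk) (0 : Fin k ⊕ Fin k → F) b' := by
          have := congrArg (fun z => ((g⁻¹ : Sp) : Matrix (Fin m ⊕ Fin m) (Fin m ⊕ Fin m) F) *ᵥ z) e1
          simp only [hGa, inv_mulVec_mulVec] at this
          exact this
        have := congrArg (c2 (ee m k hk)) e2
        rwa [c2_emb, c2_emb] at this
      have hcard := Fintype.card_le_of_injective f hf
      simp only [Fintype.card_pi, Finset.prod_const, Finset.card_univ, Fintype.card_sum,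
        Fintype.card_fin] at hcard
      have := (Nat.pow_le_pow_iff_right (Fintype.one_lt_card (α := F))).mp hcard
      omega
    · -- everything maps into W0'
      have hall : ∀ v : VV, G v ∈ W0' m F k hk := by
        intro v
        rw [decomp k hk v, map_add]
        exact Submodule.add_mem _ (h1 _ (emb_mem_W0 k hk _)) (h2 _ (emb_mem_W0' k hk _))
      set a₀ : Fin k ⊕ Fin k := Sum.inl ⟨0, by omega⟩ with ha₀
      have hw := hall (((g⁻¹ : Sp) : Matrix (Fin m ⊕ Fin m) (Fin m ⊕ Fin m) F) *ᵥ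
        (Pi.single (ee m k hk (Sum.inl a₀)) 1 : VV))
      rw [hGa, mulVec_inv_mulVec, mem_W0'] at hw
      have := congrFun hw a₀
      simp [c1] at this

theorem thmB [Fintype F] (k : ℕ) (hk : k ≤ m) (hk1 : 1 ≤ k) (hkm : 2 * k < m)
    (M : Subgroup Sp) (hM : P0 m F k hk ≤ M) (hne : M ≠ P0 m F k hk) : M = ⊤ := by
  have : ∃ g ∈ M, g ∉ P0 m F k hk := by
    by_contra h
    push Not at h
    exact hne (le_antisymm h hM)
  obtain ⟨g, hgM, hgP⟩ := this
  obtain ⟨x, hx, h1, h2⟩ := exists_mixed k hk hk1 hkm g hgP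
  have hxX : XX M x := by
    rcases hx with hx | hx
    · exact fun c => hM (TT_mem_P0_of_W0 k hk x hx c)
    · exact fun c => hM (TT_mem_P0_of_W0' k hk x hx c)
  have hall := XX_all_of_mixed k hk M hM _ (XX_inv M g hgM x hxX) h1 h2
  apply Cfsg.Agent.S0269.eq_top_of_TT
  intro w _ c
  exact hall w c

theorem P0_ne_top (k : ℕ) (hk : k ≤ m) (hk1 : 1 ≤ k) (hkm : k < m) : P0 m F k hk ≠ ⊤ := by
  intro htop
  set a₀ : Fin k ⊕ Fin k := Sum.inl ⟨0, by omega⟩ with ha₀
  set b₀ : Fin (m - k) ⊕ Fin (m - k) := Sum.inl ⟨0, by omega⟩ with hb₀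
  have h1 : (Pi.single (ee m k hk (Sum.inl a₀)) 1 : VV) ≠ 0 := by
    intro h
    have := congrFun h (ee m k hk (Sum.inl a₀))
    simp at this
  have h2 : (Pi.single (ee m k hk (Sum.inr b₀)) 1 : VV) ≠ 0 := by
    intro h
    have := congrFun h (ee m k hk (Sum.inr b₀))
    simp at this
  obtain ⟨g, hg⟩ := trans_nonzero _ _ h1 h2
  have hgS : g ∈ P0 m F k hk := by rw [htop]; trivial
  have h4 := (hgS _).mp (single_mem_W0 (F := F) (ee m k hk) a₀)
  change (g : Matrix (Fin m ⊕ Fin m) (Fin m ⊕ Fin m) F) *ᵥ _ ∈ W0 F (ee m k hk) at h4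
  rw [hg] at h4
  have h5 := h4 b₀
  simp at h5

end specific

section general

variable {F : Type*} [Field F] {m : ℕ}

local notation "Sp" => Matrix.symplecticGroup (Fin m) F
local notation "ff" => Cfsg.sympForm m F
local notation "VV" => (Fin m ⊕ Fin m → F)

/-- a nondegenerate subspace is `Sp`-conjugate to a standard coordinate subspace -/
theorem exists_conj_W0 (W : Submodule F (Fin m ⊕ Fin m → F))
    (hW : ∀ u ∈ W, (∀ v ∈ W, Cfsg.sympForm m F u v = 0) → u = 0) :
    ∃ (k : ℕ) (hk : k ≤ m) (g : Sp), Module.finrank F W = 2 * k ∧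
      ∀ w : Fin m ⊕ Fin m → F, w ∈ W0 F (ee m k hk) ↔
        (g : Matrix (Fin m ⊕ Fin m) (Fin m ⊕ Fin m) F) *ᵥ w ∈ W := by
  classical
  let B : LinearMap.BilinForm F W := LinearMap.mk₂ F (fun u v : W => Cfsg.sympForm m F u.1 v.1)
    (fun u u' v => sympForm_add_left u.1 u'.1 v.1)
    (fun c u v => sympForm_smul_left c u.1 v.1)
    (fun u v v' => sympForm_add_right u.1 v.1 v'.1)
    (fun c u v => sympForm_smul_right c u.1 v.1)
  have hBapp : ∀ u v : W, B u v = Cfsg.sympForm m F u.1 v.1 := fun u v => rfl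
  have hA : B.IsAlt := fun x => sympForm_self x.1
  obtain ⟨m', k', b, hb1, hb2, hb3, hb4⟩ := Cfsg.Agent.S0752.result B hA
  have hk' : k' = 0 := by
    by_contra h
    have hpos : 0 < k' := Nat.pos_of_ne_zero h
    have h0 : b (Sum.inr ⟨0, hpos⟩) = 0 := by
      apply Subtype.ext
      apply hW _ (b (Sum.inr ⟨0, hpos⟩)).2
      intro v hv
      exact hb4 ⟨0, hpos⟩ ⟨v, hv⟩
    exact b.ne_zero _ h0
  subst hk'
  have hWk : Module.finrank F W = 2 * m' := by
    have := Module.finrank_eq_card_basis b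
    simp at this
    omega
  have hk : m' ≤ m := by
    have h1 := Submodule.finrank_le W
    have h4 : Module.finrank F VV = 2 * m := by
      rw [Module.finrank_fintype_fun_eq_card]; simp; ring
    omega
  refine ⟨m', hk, ?_⟩
  set u : Fin m' → (Fin m ⊕ Fin m → F) := fun i => (b (Sum.inl (Sum.inl i))).1 with hu
  set v : Fin m' → (Fin m ⊕ Fin m → F) := fun i => (b (Sum.inl (Sum.inr i))).1 with hv
  have huW : ∀ i, u i ∈ W := fun i => (b (Sum.inl (Sum.inl i))).2
  have hvW : ∀ i, v i ∈ W := fun i => (b (Sum.inl (Sum.inr i))).2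
  have h1 : ∀ i j, Cfsg.sympForm m F (u i) (v j) = if i = j then 1 else 0 := fun i j => hb1 i j
  have h2 : ∀ i j, Cfsg.sympForm m F (u i) (u j) = 0 := fun i j => hb2 i j
  have h3 : ∀ i j, Cfsg.sympForm m F (v i) (v j) = 0 := fun i j => hb3 i j
  set c : Fin m' → Fin m := fun a => sig m m' hk (Sum.inl a) with hc
  have hcinj : Function.Injective c := by
    intro a a' h
    have := (sig m m' hk).injective h
    exact Sum.inl.inj this
  obtain ⟨g, hg⟩ := exists_sp_of_hyp c hcinj u v h1 h2 h3 m' le_rfl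
  have hgu : ∀ i, (g : Matrix (Fin m ⊕ Fin m) (Fin m ⊕ Fin m) F) *ᵥ
      (eF (F := F) (Sum.inr (c i))) = u i := fun i => (hg i i.2).1
  have hgv : ∀ i, (g : Matrix (Fin m ⊕ Fin m) (Fin m ⊕ Fin m) F) *ᵥ
      (eF (F := F) (Sum.inl (c i))) = v i := fun i => (hg i i.2).2
  have he1 : ∀ i : Fin m', ee m m' hk (Sum.inl (Sum.inl i)) = Sum.inl (c i) := fun i => rfl
  have he2 : ∀ i : Fin m', ee m m' hk (Sum.inl (Sum.inr i)) = Sum.inr (c i) := fun i => rfl
  refine ⟨g, hWk, ?_⟩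
  intro w
  constructor
  · intro hw
    rw [W0_repr (ee m m' hk) w hw, ← Matrix.mulVecLin_apply, map_sum]
    apply Submodule.sum_mem
    intro a _
    rw [map_smul]
    apply Submodule.smul_mem
    rw [Matrix.mulVecLin_apply]
    rcases a with i | i
    · rw [he1]
      have := hgv i
      unfold eF at this
      rw [this]; exact hvW i
    · rw [he2]
      have := hgu i
      unfold eF at this
      rw [this]; exact huW i
  · intro hw
    set x : W := ⟨_, hw⟩ with hx
    have hsum := b.sum_repr x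
    rw [Fintype.sum_sum_type, Fintype.sum_sum_type] at hsum
    simp only [Finset.univ_eq_empty, Finset.sum_empty, add_zero] at hsum
    have hsum' := congrArg Subtype.val hsum
    rw [Submodule.coe_add, Submodule.coe_sum, Submodule.coe_sum] at hsum'
    simp only [Submodule.coe_smul] at hsum'
    set w' : Fin m ⊕ Fin m → F :=
      ∑ i : Fin m', (b.repr x (Sum.inl (Sum.inl i))) • eF (F := F) (Sum.inr (c i)) +
      ∑ i : Fin m', (b.repr x (Sum.inl (Sum.inr i))) • eF (F := F) (Sum.inl (c i)) with hw'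
    have hgw' : (g : Matrix (Fin m ⊕ Fin m) (Fin m ⊕ Fin m) F) *ᵥ w'
        = (g : Matrix (Fin m ⊕ Fin m) (Fin m ⊕ Fin m) F) *ᵥ w := by
      rw [hw', Matrix.mulVec_add, ← Matrix.mulVecLin_apply, ← Matrix.mulVecLin_apply, map_sum,
        map_sum]
      simp only [map_smul, Matrix.mulVecLin_apply, hgu, hgv]
      exact hsum'
    have hww' : w = w' := by
      have := congrArg (fun z => ((g⁻¹ : Matrix.symplecticGroup (Fin m) F) :
        Matrix (Fin m ⊕ Fin m) (Fin m ⊕ Fin m) F) *ᵥ z) hgw'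
      simp only [inv_mulVec_mulVec] at this
      exact this.symm
    rw [hww', hw']
    apply Submodule.add_mem
    · apply Submodule.sum_mem
      intro i _
      apply Submodule.smul_mem
      rw [← he2]
      exact single_mem_W0 (F := F) (ee m m' hk) (Sum.inr i)
    · apply Submodule.sum_mem
      intro i _
      apply Submodule.smul_mem
      rw [← he1]
      exact single_mem_W0 (F := F) (ee m m' hk) (Sum.inl i)

theorem sp_max_nondeg [Fintype F] (W : Submodule F VV) (hW0 : W ≠ ⊥)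
    (hW : ∀ u ∈ W, (∀ v ∈ W, Cfsg.sympForm m F u v = 0) → u = 0)
    (hdim : Module.finrank F W < m) :
    (∀ M : Subgroup Sp, Cfsg.stabilizing (Cfsg.spToMat m F) (W : Set VV) ≤ M →
      M = Cfsg.stabilizing (Cfsg.spToMat m F) (W : Set VV) ∨ M = ⊤) ∧
    Cfsg.stabilizing (Cfsg.spToMat m F) (W : Set VV) ≠ ⊤ := by
  classical
  obtain ⟨k, hk, g, hfr, hg⟩ := exists_conj_W0 W hW
  have hk1 : 1 ≤ k := by
    rw [Nat.one_le_iff_ne_zero]
    intro h0
    apply hW0
    apply Submodule.finrank_eq_zero.mp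
    rw [hfr, h0]
  have hkm : 2 * k < m := by omega
  apply max_of_conj g (W : Set VV) (W0 F (ee m k hk) : Set VV) hg
  · intro M hM
    by_cases h : M = P0 m F k hk
    · left; exact h
    · right; exact thmB k hk hk1 hkm M hM h
  · exact P0_ne_top k hk hk1 (by omega)

end general

/-- For a finite field F and m ≥ 7, in the symplectic group Sp_2m(F) of the standard alternating form on F^(2m), the stabiliser of any non-zero subspace W on which the form is non-degenerate and with dim W < m is a maximal subgroup. -/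
theorem result {F : Type*} [Field F] [Fintype F] (m : ℕ) (hm : 7 ≤ m) (W : Submodule F (Fin m ⊕ Fin m → F)) (hW0 : W ≠ ⊥) (hW : Cfsg.Geo.IsNondegenerateOn (Cfsg.sympForm m F) W) (hdim : Module.finrank F W < m) : Cfsg.Geo.IsMaximalIn (Cfsg.spGL m F) (Cfsg.Geo.subspaceStabilizer W ⊓ Cfsg.spGL m F) := by
  have hW' : ∀ u ∈ W, (∀ v ∈ W, Cfsg.sympForm m F u v = 0) → u = 0 := by
    intro u hu h
    by_contra hne
    obtain ⟨-, ⟨x, hx, hx2⟩⟩ := hW u hu hne
    exact hx2 (h x hx)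
  obtain ⟨h1, h2⟩ := sp_max_nondeg W hW0 hW' hdim
  exact transfer (W : Set (Fin m ⊕ Fin m → F)) h1 h2

end Cfsg.Agent.S5646
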