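import Cfsg.Statements.S5648
import Mathlib
import Cfsg.Agent.Lib_helper29_SpDecomp
-- import your own Cfsg.Agent.* helpers here

set_option autoImplicit false
open Cfsg

namespace Cfsg.Agent.S5648

open Matrix Cfsg.Agent.helper4 Cfsg.Agent.S0245 Cfsg.Agent.S2594 Cfsg.Agent.S0440
open Cfsg.Agent.helper29 Cfsg.Agent.S5645

section nonmax

variable {F : Type*} [Field F] {m : ℕ}

local notation "Sp" => Matrix.symplecticGroup (Fin m) F
local notation "ff" => Cfsg.sympForm m F
local notation "VV" => (Fin m ⊕ Fin m → F)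

variable {t k : ℕ} {D : Fin t → Submodule F (Fin m ⊕ Fin m → F)}

theorem t_mul_k (hD : Cfsg.Geo.IsNondegenerateMDecomposition (Cfsg.sympForm m F) k D) :
    t * k = 2 * m := by
  classical
  have hint := DirectSum.isInternal_submodule_of_iSupIndep_of_iSup_eq_top hD.decomp.indep
    hD.decomp.iSup_eq_top
  have b := hint.collectedBasis
    (fun l => Module.finBasisOfFinrankEq F (D l) (hD.decomp.finrank_eq l))
  have h1 := Module.finrank_eq_card_basis b
  rw [Module.finrank_fintype_fun_eq_card] at h1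
  simp at h1
  omega

theorem toGL_inj : Function.Injective (toGL (F := F) (m := m)) := by
  intro g g' h
  apply Subtype.ext
  have := congrArg (fun x : Matrix.GeneralLinearGroup (Fin m ⊕ Fin m) F =>
    (x : Matrix (Fin m ⊕ Fin m) (Fin m ⊕ Fin m) F)) h
  exact this

/-- transfer of non-maximality from `Sp` to `spGL` -/
theorem transfer_between (Kd : Subgroup (Matrix.GeneralLinearGroup (Fin m ⊕ Fin m) F))
    (K' : Subgroup Sp) (h1 : Kd.comap toGL < K') (h2 : K' < ⊤) :
    ∃ K : Subgroup (Matrix.GeneralLinearGroup (Fin m ⊕ Fin m) F),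
      Kd ⊓ Cfsg.spGL m F < K ∧ K < Cfsg.spGL m F := by
  refine ⟨K'.map toGL, ?_, ?_⟩
  · have hH : (Kd ⊓ Cfsg.spGL m F) = (Kd.comap toGL).map toGL := by
      rw [Subgroup.map_comap_eq, range_toGL, inf_comm]
    rw [hH]
    exact (Subgroup.map_lt_map_iff_of_injective toGL_inj).mpr h1
  · have : Cfsg.spGL m F = (⊤ : Subgroup Sp).map toGL := by
      rw [← MonoidHom.range_eq_map, range_toGL]
    rw [this]
    exact (Subgroup.map_lt_map_iff_of_injective toGL_inj).mpr h2

theorem zero_or_one [Fintype F] (hq : Fintype.card F = 2) (a : F) : a = 0 ∨ a = 1 := by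
  classical
  by_contra h
  push Not at h
  have h3 : ({0, 1, a} : Finset F).card = 3 := by
    rw [Finset.card_insert_of_notMem, Finset.card_insert_of_notMem, Finset.card_singleton]
    · rw [Finset.mem_singleton]; exact fun hh => h.2 hh.symm
    · rw [Finset.mem_insert, Finset.mem_singleton]
      rintro (hh | hh)
      · exact zero_ne_one hh
      · exact h.1 hh.symm
  have := Finset.card_le_univ ({0, 1, a} : Finset F)
  omega

theorem add_self' [Fintype F] (hq : Fintype.card F = 2) (a : F) : a + a = 0 := by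
  have h := zero_or_one hq (1 + 1)
  rcases h with h | h
  · have : a + a = a * (1 + 1) := by ring
    rw [this, h, mul_zero]
  · exfalso
    have : (1 : F) = 0 := by linear_combination h
    exact one_ne_zero this

theorem neg_eq' [Fintype F] (hq : Fintype.card F = 2) (a : F) : -a = a := by
  have := add_self' hq a
  linear_combination (-1 : F) * this

theorem vadd_self [Fintype F] (hq : Fintype.card F = 2) (x : VV) : x + x = 0 := by
  funext i
  exact add_self' hq (x i)

/-- two distinct nonzero vectors of a block pair to 1 -/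
theorem block_pair [Fintype F] (hq : Fintype.card F = 2)
    (hD : Cfsg.Geo.IsNondegenerateMDecomposition (Cfsg.sympForm m F) 2 D) (l : Fin t)
    (x y : VV) (hx : x ∈ D l) (hy : y ∈ D l) (hx0 : x ≠ 0) (hy0 : y ≠ 0) (hxy : x ≠ y) :
    ff x y = 1 := by
  obtain ⟨u, v, -, hu, hv, huv, huu, hvv, hspan⟩ := block_darboux hD l
  have hK : 0 < 2 / 2 := by norm_num
  set u0 := u ⟨0, hK⟩ with hu0
  set v0 := v ⟨0, hK⟩ with hv0
  have huv0 : ff u0 v0 = 1 := by rw [huv, if_pos rfl]
  have hvu0 : ff v0 u0 = -1 := by rw [sympForm_swap, huv0]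
  have hrep : ∀ d ∈ D l, ∃ a b : F, d = a • u0 + b • v0 := by
    intro d hd
    obtain ⟨a, b, hab⟩ := hspan d hd
    refine ⟨a ⟨0, hK⟩, b ⟨0, hK⟩, ?_⟩
    rw [hab]
    have e1 : ∀ w : Fin (2 / 2) → VV, ∑ r, w r = w ⟨0, hK⟩ := by
      intro w
      exact Fin.sum_univ_one w
    rw [e1, e1]
  obtain ⟨a, b, rfl⟩ := hrep x hx
  obtain ⟨a', b', rfl⟩ := hrep y hy
  have hform : ff (a • u0 + b • v0) (a' • u0 + b' • v0) = a * b' - b * a' := by
    rw [sympForm_add_left, sympForm_add_right, sympForm_add_right, sympForm_smul_left,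
      sympForm_smul_left, sympForm_smul_left, sympForm_smul_left, sympForm_smul_right,
      sympForm_smul_right, sympForm_smul_right, sympForm_smul_right, sympForm_self,
      sympForm_self, huv0, hvu0]
    ring
  rw [hform]
  rcases zero_or_one hq a with rfl | rfl <;> rcases zero_or_one hq b with rfl | rfl <;>
    rcases zero_or_one hq a' with rfl | rfl <;> rcases zero_or_one hq b' with rfl | rfl <;>
    first
    | (exfalso; apply hx0; simp; done)
    | (exfalso; apply hy0; simp; done)
    | (exfalso; apply hxy; rfl)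
    | (simp; done)
    | (simp; exact neg_eq' hq 1)
    | skip

end nonmax

section nonmax2

variable {F : Type*} [Field F] {m : ℕ}

local notation "Sp" => Matrix.symplecticGroup (Fin m) F
local notation "ff" => Cfsg.sympForm m F
local notation "VV" => (Fin m ⊕ Fin m → F)

variable {t : ℕ} {D : Fin t → Submodule F (Fin m ⊕ Fin m → F)}

/-- the quadratic form: parity of the support -/
noncomputable def QQ (hD : Cfsg.Geo.IsNondegenerateMDecomposition (Cfsg.sympForm m F) 2 D)
    (v : VV) : F := ((supp hD v).card : F)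

/-- indicator of being nonzero -/
noncomputable def ind (x : VV) : F := by
  classical
  exact if x = 0 then 0 else 1

theorem ind_zero : ind (0 : VV) = 0 := by
  classical
  unfold ind
  rw [if_pos rfl]

theorem ind_ne (x : VV) (hx : x ≠ 0) : ind x = 1 := by
  classical
  unfold ind
  rw [if_neg hx]

theorem QQ_eq_sum (hD : Cfsg.Geo.IsNondegenerateMDecomposition (Cfsg.sympForm m F) 2 D)
    (v : VV) : QQ hD v = ∑ l, ind (cmp hD v l) := by
  classical
  unfold QQ supp
  rw [Finset.card_filter, Nat.cast_sum]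
  apply Finset.sum_congr rfl
  intro l _
  by_cases h : cmp hD v l = 0
  · rw [if_neg (not_not.mpr h), h, ind_zero, Nat.cast_zero]
  · rw [if_pos h, ind_ne _ h, Nat.cast_one]

theorem block_id [Fintype F] (hq : Fintype.card F = 2)
    (hD : Cfsg.Geo.IsNondegenerateMDecomposition (Cfsg.sympForm m F) 2 D) (l : Fin t)
    (x y : VV) (hx : x ∈ D l) (hy : y ∈ D l) :
    ind (x + y) = ind x + ind y + ff x y := by
  by_cases hx0 : x = 0
  · subst hx0
    rw [zero_add, Cfsg.Agent.S0766.sympForm_zero_left, ind_zero]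
    ring
  by_cases hy0 : y = 0
  · subst hy0
    rw [add_zero, sympForm_zero_right', ind_zero]
    ring
  by_cases hxy : x = y
  · subst hxy
    rw [vadd_self hq, sympForm_self, ind_zero, ind_ne _ hx0, add_self' hq, add_zero]
  · have hne : x + y ≠ 0 := by
      intro h
      apply hxy
      have h2 : x = -y := eq_neg_of_add_eq_zero_left h
      rw [h2]
      funext i
      exact neg_eq' hq (y i)
    rw [ind_ne _ hne, ind_ne _ hx0, ind_ne _ hy0, block_pair hq hD l x y hx hy hx0 hy0 hxy,
      add_self' hq, zero_add]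

theorem QQ_add [Fintype F] (hq : Fintype.card F = 2)
    (hD : Cfsg.Geo.IsNondegenerateMDecomposition (Cfsg.sympForm m F) 2 D) (x y : VV) :
    QQ hD (x + y) = QQ hD x + QQ hD y + ff x y := by
  classical
  rw [QQ_eq_sum, QQ_eq_sum, QQ_eq_sum, ff_eq_sum_cmp hD x y, ← Finset.sum_add_distrib,
    ← Finset.sum_add_distrib]
  apply Finset.sum_congr rfl
  intro l _
  rw [cmp_add]
  exact block_id hq hD l _ _ (cmp_mem hD x l) (cmp_mem hD y l)

/-- the isometry group of `QQ` inside `Sp` -/
noncomputable def OQ (hD : Cfsg.Geo.IsNondegenerateMDecomposition (Cfsg.sympForm m F) 2 D) :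
    Subgroup Sp where
  carrier := {g | ∀ v : VV,
    QQ hD ((g : Matrix (Fin m ⊕ Fin m) (Fin m ⊕ Fin m) F) *ᵥ v) = QQ hD v}
  one_mem' := by
    intro v
    show QQ hD ((1 : Matrix (Fin m ⊕ Fin m) (Fin m ⊕ Fin m) F) *ᵥ v) = _
    rw [Matrix.one_mulVec]
  mul_mem' := by
    intro a b ha hb v
    show QQ hD (((a : Matrix (Fin m ⊕ Fin m) (Fin m ⊕ Fin m) F) *
      (b : Matrix (Fin m ⊕ Fin m) (Fin m ⊕ Fin m) F)) *ᵥ v) = _
    rw [← Matrix.mulVec_mulVec, ha, hb]
  inv_mem' := by
    intro a ha v
    have := ha (((a⁻¹ : Sp) : Matrix (Fin m ⊕ Fin m) (Fin m ⊕ Fin m) F) *ᵥ v)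
    rw [Cfsg.Agent.S0776.mulVec_inv_mulVec] at this
    exact this.symm

theorem mem_OQ (hD : Cfsg.Geo.IsNondegenerateMDecomposition (Cfsg.sympForm m F) 2 D) (g : Sp) :
    g ∈ OQ hD ↔ ∀ v : VV,
      QQ hD ((g : Matrix (Fin m ⊕ Fin m) (Fin m ⊕ Fin m) F) *ᵥ v) = QQ hD v := Iff.rfl

theorem HD_le_OQ (hD : Cfsg.Geo.IsNondegenerateMDecomposition (Cfsg.sympForm m F) 2 D) :
    HD D ≤ OQ hD := by
  classical
  intro g hg v
  obtain ⟨σ, hσ⟩ := (mem_HD g).mp hg
  have hfwd : ∀ l, ∀ d ∈ D l,
      (g : Matrix (Fin m ⊕ Fin m) (Fin m ⊕ Fin m) F) *ᵥ d ∈ D (σ l) := by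
    intro l d hd
    rw [← hσ l]
    exact ⟨d, hd, Matrix.toLin'_apply _ _⟩
  unfold QQ
  rw [supp_map hD g σ hfwd, Finset.card_image_of_injective _ σ.injective]

theorem TT_mem_OQ [Fintype F] (hq : Fintype.card F = 2)
    (hD : Cfsg.Geo.IsNondegenerateMDecomposition (Cfsg.sympForm m F) 2 D) (x : VV)
    (hx : QQ hD x = 1) : (TT x 1 : Sp) ∈ OQ hD := by
  intro v
  rw [TT_mulVec, one_mul]
  rcases zero_or_one hq (ff v x) with h | h
  · rw [h, zero_smul, add_zero]
  · rw [h, one_smul, QQ_add hq, hx, h, add_assoc, add_self' hq, add_zero]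

theorem TT_notMem_OQ [Fintype F] (hq : Fintype.card F = 2)
    (hD : Cfsg.Geo.IsNondegenerateMDecomposition (Cfsg.sympForm m F) 2 D) (x : VV)
    (hx0 : x ≠ 0) (hx : QQ hD x = 0) : (TT x 1 : Sp) ∉ OQ hD := by
  intro hmem
  obtain ⟨y, hy⟩ := exists_partner' x hx0
  have hyx : ff y x = 1 := by
    rw [sympForm_swap, hy, neg_eq' hq]
  have := hmem y
  rw [TT_mulVec, one_mul, hyx, one_smul, QQ_add hq, hx, hyx, add_zero] at this
  have h1 : (1 : F) = 0 := by linear_combination this
  exact one_ne_zero h1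

theorem TT_notMem_HD (hD : Cfsg.Geo.IsNondegenerateMDecomposition (Cfsg.sympForm m F) 2 D)
    (x : VV) (i0 i1 : Fin t) (h01 : i0 ≠ i1) (h0 : cmp hD x i0 ≠ 0) (h1 : cmp hD x i1 ≠ 0) :
    (TT x 1 : Sp) ∉ HD D := by
  classical
  obtain ⟨y, hy, hya⟩ : ∃ y ∈ D i0, ff y (cmp hD x i0) ≠ 0 :=
    (hD.nondegenerate i0 _ (cmp_mem hD x i0) h0).1
  have hyx : ff y x = ff y (cmp hD x i0) := by
    rw [sympForm_swap y x, ff_cmp hD x i0 y hy, ← sympForm_swap]
  intro hmem
  obtain ⟨σ, hσ⟩ := (mem_HD _).mp hmem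
  have himg : ((TT x 1 : Sp) : Matrix (Fin m ⊕ Fin m) (Fin m ⊕ Fin m) F) *ᵥ y ∈ D (σ i0) := by
    rw [← hσ i0]
    exact ⟨y, hy, Matrix.toLin'_apply _ _⟩
  rw [TT_mulVec, one_mul] at himg
  set c := ff y x with hc
  have hc0 : c ≠ 0 := by rw [hyx]; exact hya
  have hz := cmp_of_mem hD (σ i0) _ himg
  have hz1 := hz i1
  rw [cmp_add, cmp_smul, cmp_of_mem hD i0 y hy i1, if_neg (Ne.symm h01), zero_add] at hz1
  have hj : i1 = σ i0 := by
    by_contra hne
    rw [if_neg hne] at hz1
    exact smul_ne_zero hc0 h1 hz1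
  have hz0 := hz i0
  rw [cmp_add, cmp_smul, cmp_of_mem hD i0 y hy i0, if_pos rfl, if_neg (by rw [← hj]; exact h01)]
    at hz0
  have h2 : ff (y + c • cmp hD x i0) (cmp hD x i0) = 0 := by
    rw [hz0, Cfsg.Agent.S0766.sympForm_zero_left]
  rw [sympForm_add_left, sympForm_smul_left, sympForm_self, mul_zero, add_zero] at h2
  exact hya h2

end nonmax2

/-- Over the field with 2 elements and for m ≥ 7, let D be a decomposition of F^(2m) into t pairwise orthogonal non-degenerate 2-dimensional subspaces for the standard alternating form (t = m ≥ 2). Then the elements of Sp_2m(2) permuting the members of D form a subgroup that is not maximal: some subgroup lies strictly between it and Sp_2m(2). -/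
theorem result {F : Type*} [Field F] [Fintype F] (m : ℕ) (hm : 7 ≤ m) (hq : Fintype.card F = 2) {t : ℕ} (D : Fin t → Submodule F (Fin m ⊕ Fin m → F)) (hD : Cfsg.Geo.IsNondegenerateMDecomposition (Cfsg.sympForm m F) 2 D) : ∃ K : Subgroup (Matrix.GeneralLinearGroup (Fin m ⊕ Fin m) F), Cfsg.Geo.decompositionStabilizer D ⊓ Cfsg.spGL m F < K ∧ K < Cfsg.spGL m F := by
  classical
  have htk := t_mul_k hD
  have ht : 3 ≤ t := by omega
  choose a ha ha0 using fun i => Cfsg.Agent.helper29.exists_ne_zero hD i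
  set i0 : Fin t := ⟨0, by omega⟩ with hi0
  set i1 : Fin t := ⟨1, by omega⟩ with hi1
  set i2 : Fin t := ⟨2, by omega⟩ with hi2
  have h01 : i0 ≠ i1 := by
    intro h
    have := congrArg Fin.val h
    simp [hi0, hi1] at this
  have h02 : i0 ≠ i2 := by
    intro h
    have := congrArg Fin.val h
    simp [hi0, hi2] at this
  have h12 : i1 ≠ i2 := by
    intro h
    have := congrArg Fin.val h
    simp [hi1, hi2] at this
  have hsupp : ∀ S : Finset (Fin t),
      Cfsg.Agent.helper29.supp hD (∑ l, (if l ∈ S then a l else 0)) = S := by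
    intro S
    apply Cfsg.Agent.helper29.supp_family_eq hD
    · intro l
      split_ifs
      · exact ha l
      · exact (D l).zero_mem
    · intro l
      by_cases h : l ∈ S
      · rw [if_pos h]; exact ⟨fun _ => h, fun _ => ha0 l⟩
      · rw [if_neg h]; exact ⟨fun hh => absurd rfl hh, fun hh => absurd hh h⟩
  have h2F : (2 : F) = 0 := by
    have := add_self' hq (1 : F)
    rw [← this]; norm_num
  apply transfer_between (Cfsg.Geo.decompositionStabilizer D) (OQ hD)
  · refine lt_of_le_of_ne (HD_le_OQ hD) ?_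
    intro heq
    set S : Finset (Fin t) := {i0, i1, i2} with hS
    have hcard : S.card = 3 := by
      rw [hS, Finset.card_insert_of_notMem, Finset.card_insert_of_notMem, Finset.card_singleton]
      · rw [Finset.mem_singleton]; exact h12
      · rw [Finset.mem_insert, Finset.mem_singleton]
        rintro (h | h)
        · exact h01 h
        · exact h02 h
    have hQ : QQ hD (∑ l, (if l ∈ S then a l else 0)) = 1 := by
      unfold QQ
      rw [hsupp S, hcard]
      have : ((3 : ℕ) : F) = 2 + 1 := by norm_num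
      rw [this, h2F, zero_add]
    have h1 := TT_mem_OQ hq hD _ hQ
    rw [← heq] at h1
    refine TT_notMem_HD hD _ i0 i1 h01 ?_ ?_ h1
    · rw [← Cfsg.Agent.helper29.mem_supp, hsupp S, hS]
      exact Finset.mem_insert_self _ _
    · rw [← Cfsg.Agent.helper29.mem_supp, hsupp S, hS]
      exact Finset.mem_insert_of_mem (Finset.mem_insert_self _ _)
  · refine lt_of_le_of_ne le_top ?_
    intro heq
    set S : Finset (Fin t) := {i0, i1} with hS
    have hcard : S.card = 2 := by
      rw [hS, Finset.card_pair h01]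
    have hQ : QQ hD (∑ l, (if l ∈ S then a l else 0)) = 0 := by
      unfold QQ
      rw [hsupp S, hcard]
      exact_mod_cast h2F
    have hx0 : (∑ l, (if l ∈ S then a l else 0)) ≠ 0 := by
      intro h0
      have h3 : i0 ∈ Cfsg.Agent.helper29.supp hD (∑ l, (if l ∈ S then a l else 0)) := by
        rw [hsupp S, hS]; exact Finset.mem_insert_self _ _
      rw [Cfsg.Agent.helper29.mem_supp, h0] at h3
      apply h3
      have := Cfsg.Agent.helper29.cmp_smul hD (0 : F) 0 i0
      rw [zero_smul, zero_smul] at this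
      exact this
    exact TT_notMem_OQ hq hD _ hx0 hQ (by rw [heq]; trivial)

end Cfsg.Agent.S5648
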