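import Cfsg.Statements.S5675
import Cfsg.Agent.Lib_helper13_Nd8

set_option autoImplicit false
open Cfsg

namespace Cfsg.Agent.S5675

open Cfsg.Agent.helper13


/-- Let F be a finite field of odd order q, m ≥ 6, Q the standard quadratic form on F^(2m+1) and Ω the commutator subgroup of its isometry group. Let W be a non-zero subspace of even dimension on which the polar form of Q is non-degenerate; exclude the case q = 3, dim W = 2 with Q vanishing on some line of W (a plus-type plane). Then the elements of Ω stabilising W (equivalently, stabilising its orthogonal complement, of odd dimension) form a maximal subgroup of Ω. -/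
theorem result {F : Type*} [Field F] [Fintype F] (hodd : Odd (Fintype.card F)) (m : ℕ) (hm : 6 ≤ m) (W : Submodule F (Unit ⊕ (Fin m ⊕ Fin m) → F)) (hW0 : W ≠ ⊥) (hev : Even (Module.finrank F W)) (hW : Cfsg.Geo.IsNondegenerateOn (QuadraticMap.polar (Cfsg.quadFormOdd m F)) W) (hex : ¬ (Fintype.card F = 3 ∧ Module.finrank F W = 2 ∧ Cfsg.Geo.IsPlusTypeOn (Cfsg.quadFormOdd m F) W)) : Cfsg.Geo.IsMaximalIn (Cfsg.Geo.omegaGL (Cfsg.quadFormOdd m F)) (Cfsg.Geo.subspaceStabilizer W ⊓ Cfsg.Geo.omegaGL (Cfsg.quadFormOdd m F)) := by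
  classical
  have h2 : (2 : F) ≠ 0 := by
    intro h2
    haveI : CharP F 2 := CharTwo.of_one_ne_zero_of_two_eq_zero one_ne_zero h2
    have := FiniteField.even_card_of_char_two (F := F) (ringChar.eq F 2)
    have h' := Nat.odd_iff.mp hodd
    omega
  have hnd := QOdd_nondeg (F := F) h2 m
  revert hW hex
  rw [← QOdd_coe F m]
  intro hW hex
  have hcard : Fintype.card (Unit ⊕ (Fin m ⊕ Fin m)) = 2 * m + 1 := by
    simp only [Fintype.card_sum, Fintype.card_fin, Fintype.card_unit]
    omega
  have hWnd : NondegOn (QOdd F m) W := nondegOn_of_geo _ W hW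
  have hsum := finrank_add_finrank_orth (QOdd F m) hnd W
  rw [hcard] at hsum
  obtain ⟨r, hr⟩ := hev
  apply nd_isMaximalIn' (QOdd F m) h2 hnd (by rw [hcard]; omega) W hWnd hW0
  · intro h
    rw [h, finrank_bot] at hsum
    omega
  · rintro ⟨h3, h22, v, hvW, hv0, hQv⟩
    apply hex
    refine ⟨h3, h22, Submodule.span F {v}, ?_, ?_, ?_⟩
    · rw [Submodule.span_singleton_le_iff_mem]
      exact hvW
    · intro w hw
      obtain ⟨t, rfl⟩ := Submodule.mem_span_singleton.mp hw
      rw [QuadraticMap.map_smul, hQv, smul_zero]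
    · rw [finrank_span_singleton hv0, h22]
  · rintro ⟨-, h22, -⟩
    omega
  · intro g hg
    have := congrArg (fun U : Submodule F (Unit ⊕ (Fin m ⊕ Fin m) → F) => Module.finrank F U) hg
    simp only [finrank_gmap] at this
    omega

end Cfsg.Agent.S5675
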