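import Cfsg.Statements.S5687
import Cfsg.Agent.Lib_helper13_Para3

set_option autoImplicit false
open Cfsg

namespace Cfsg.Agent.S5687

open Cfsg.Agent.helper13


/-- Let F be a finite field with q elements, n ≥ 13 even, Q a non-degenerate quadratic form on F^n of minus type (no subspace of dimension n/2 is totally singular), and Ω the commutator subgroup of the isometry group of Q, viewed inside GL_n(F). The elements of Ω stabilising a non-zero subspace on which Q vanishes form a maximal subgroup of Ω. -/
theorem result {F : Type*} [Field F] [Fintype F] {n : ℕ} (hn : 13 ≤ n) (heven : Even n) (Q : (Fin n → F) → F) (hQ : Cfsg.Geo.IsNondegenerateQuadraticForm Q) (hminus : ¬ Cfsg.Geo.IsPlusTypeOn Q ⊤) (W : Submodule F (Fin n → F)) (hW0 : W ≠ ⊥) (hW : Cfsg.Geo.IsTotallySingularQuad Q W) : Cfsg.Geo.IsMaximalIn (Cfsg.Geo.omegaGL Q) (Cfsg.Geo.subspaceStabilizer W ⊓ Cfsg.Geo.omegaGL Q) := by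
  classical
  obtain ⟨Q', rfl, hnd⟩ := exists_QF Q hQ
  refine para_isMaximalIn Q' hnd (by rw [Fintype.card_fin]; omega) W hW hW0 ?_
  intro h x hx hxo
  rw [Fintype.card_fin] at h
  by_contra hxW
  apply hminus
  have hW₁ : TS Q' (W ⊔ Submodule.span F {x}) := by
    apply TS.sup hW (TS.span_singleton hx)
    intro a ha b hb
    obtain ⟨t, rfl⟩ := Submodule.mem_span_singleton.mp hb
    rw [QuadraticMap.polar_smul_right, (mem_orth_iff Q' W x).mp hxo a ha, smul_zero]
  have h1 := TS.two_finrank_le Q' hnd hW₁
  rw [Fintype.card_fin] at h1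
  have h4 : Module.finrank F W < Module.finrank F ↥(W ⊔ Submodule.span F {x}) := by
    apply Submodule.finrank_lt_finrank_of_lt
    apply lt_of_le_of_ne le_sup_left
    intro h'
    apply hxW
    rw [h']
    exact Submodule.mem_sup_right (Submodule.mem_span_singleton_self x)
  refine ⟨W ⊔ Submodule.span F {x}, le_top, hW₁, ?_⟩
  rw [finrank_top, Module.finrank_fintype_fun_eq_card, Fintype.card_fin]
  omega

end Cfsg.Agent.S5687
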