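import Cfsg.Statements.S5689
import Cfsg.Agent.Lib_helper13_Ac7

set_option autoImplicit false
open Cfsg

namespace Cfsg.Agent.S5689

open Cfsg.Agent.helper13


/-- Let F be a finite field with q elements, n ≥ 13 even, Q a non-degenerate quadratic form on F^n of minus type (no subspace of dimension n/2 is totally singular), and Ω the commutator subgroup of the isometry group of Q, viewed inside GL_n(F). Let W be a non-zero proper subspace on which the polar form of Q is non-degenerate, not of odd dimension n/2. Exclude the case q ≤ 3 in which W, or its orthogonal complement, is a plane containing a line on which Q vanishes. Then the elements of Ω stabilising W form a maximal subgroup of Ω. -/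
theorem result {F : Type*} [Field F] [Fintype F] {n : ℕ} (hn : 13 ≤ n) (heven : Even n) (Q : (Fin n → F) → F) (hQ : Cfsg.Geo.IsNondegenerateQuadraticForm Q) (hminus : ¬ Cfsg.Geo.IsPlusTypeOn Q ⊤) (W : Submodule F (Fin n → F)) (hW0 : W ≠ ⊥) (hW1 : W ≠ ⊤) (hdim : ¬ (2 * Module.finrank F W = n ∧ Odd (Module.finrank F W))) (hW : Cfsg.Geo.IsNondegenerateOn (QuadraticMap.polar Q) W) (hex : ¬ (Fintype.card F ≤ 3 ∧ (∃ U : Submodule F (Fin n → F), Module.finrank F U = 2 ∧ Cfsg.Geo.IsNondegenerateOn (QuadraticMap.polar Q) U ∧ Cfsg.Geo.IsPlusTypeOn Q U ∧ (U = W ∨ (Cfsg.Geo.AreOrthogonalFor (QuadraticMap.polar Q) U W ∧ Module.finrank F U + Module.finrank F W = n))))) : Cfsg.Geo.IsMaximalIn (Cfsg.Geo.omegaGL Q) (Cfsg.Geo.subspaceStabilizer W ⊓ Cfsg.Geo.omegaGL Q) := by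
  classical
  obtain ⟨Q', hQ'c, hQ'nd⟩ := exists_QF Q hQ
  subst hQ'c
  have hcard : Fintype.card (Fin n) = n := Fintype.card_fin n
  have hWnd : NondegOn Q' W := nondegOn_of_geo Q' W hW
  have hsum := finrank_add_finrank_orth Q' hQ'nd W
  rw [hcard] at hsum
  have hW'nd : NondegOn Q' (orthQ Q' W) := nondegOn_orth Q' hQ'nd W hWnd
  have plus_of : ∀ U : Submodule F (Fin n → F), Module.finrank F U = 2 →
      (∃ v ∈ U, v ≠ 0 ∧ Q' v = 0) → Cfsg.Geo.IsPlusTypeOn (⇑Q') U := by
    rintro U h22 ⟨v, hvU, hv0, hQv⟩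
    refine ⟨Submodule.span F {v}, ?_, ?_, ?_⟩
    · rw [Submodule.span_singleton_le_iff_mem]
      exact hvU
    · intro w hw
      obtain ⟨t, rfl⟩ := Submodule.mem_span_singleton.mp hw
      rw [QuadraticMap.map_smul, hQv, smul_zero]
    · rw [finrank_span_singleton hv0, h22]
  apply ac_isMaximalIn' Q' hQ'nd (by rw [hcard]; exact hn) W hWnd hW0
  · intro h
    rw [h, finrank_bot, add_zero] at hsum
    apply hW1
    apply Submodule.eq_top_of_finrank_eq
    rw [hsum, Module.finrank_fintype_fun_eq_card, hcard]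
  · rintro ⟨h3, h22, hv⟩
    exact hex ⟨h3, W, h22, hW, plus_of W h22 hv, Or.inl rfl⟩
  · rintro ⟨h3, h22, hv⟩
    refine hex ⟨h3, orthQ Q' W, h22, ?_, plus_of _ h22 hv, Or.inr ⟨?_, by omega⟩⟩
    · intro w hw hw0
      have hex1 : ∃ x ∈ orthQ Q' W, QuadraticMap.polar (⇑Q') x w ≠ 0 := by
        by_contra hcon
        push Not at hcon
        exact hw0 (hW'nd w hw hcon)
      refine ⟨hex1, ?_⟩
      obtain ⟨x, hx, hxw⟩ := hex1
      exact ⟨x, hx, by rw [QuadraticMap.polar_comm]; exact hxw⟩
    · intro u hu v hv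
      rw [QuadraticMap.polar_comm]
      exact (mem_orth_iff Q' W u).mp hu v hv
  · intro g hg
    have hfr := congrArg (fun U : Submodule F (Fin n → F) => Module.finrank F U) hg
    simp only [finrank_gmap] at hfr
    have h2n : 2 * Module.finrank F W = n := by omega
    rcases Nat.even_or_odd (Module.finrank F W) with hev | hod
    · obtain ⟨U, hU, hUfr⟩ := exists_ts_half_of_swap Q' hQ'nd g W hWnd hev hg
      apply hminus
      refine ⟨U, le_top, hU, ?_⟩
      rw [hUfr, finrank_top, Module.finrank_fintype_fun_eq_card, hcard]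
      exact h2n
    · exact hdim ⟨h2n, hod⟩

end Cfsg.Agent.S5689
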