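import Cfsg.Statements.S5726
import Cfsg.Agent.Lib_helper28_Derange

set_option autoImplicit false
open Cfsg

namespace Cfsg.Agent.S5726

/-- If a finite group acts faithfully and transitively on a set with p^k elements, p a prime and k ≥ 1, then some element of order p fixes no point. -/
theorem result {G Ω : Type*} [Group G] [Finite G] [MulAction G Ω] [FaithfulSMul G Ω] [Fintype Ω] (htr : MulAction.IsPretransitive G Ω)
    (p k : ℕ) (hp : p.Prime) (hk : 1 ≤ k) (hΩ : Fintype.card Ω = p ^ k) :
    ∃ g : G, orderOf g = p ∧ ∀ ω : Ω, g • ω ≠ ω := by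
  have : Fact p.Prime := Fact.mk hp
  have hcard : Nat.card Ω = p ^ k := by rw [Nat.card_eq_fintype_card, hΩ]
  have hpos : 0 < Fintype.card Ω := by rw [hΩ]; exact pow_pos hp.pos k
  obtain ⟨ω₀⟩ := Fintype.card_pos_iff.mp hpos
  let P : Sylow p G := default
  have horb : MulAction.orbit (↥(P : Subgroup G)) ω₀ = Set.univ := by
    rw [Set.eq_univ_iff_ncard, hcard]
    have h1 : p ^ k ∣ (MulAction.orbit (↥(P : Subgroup G)) ω₀).ncard :=
      Cfsg.Agent.helper28.sylow_orbit_dvd P (by rw [hcard]) ω₀
    have h2 : (MulAction.orbit (↥(P : Subgroup G)) ω₀).ncard ≤ Nat.card Ω :=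
      Set.ncard_le_card _
    have h3 : 0 < (MulAction.orbit (↥(P : Subgroup G)) ω₀).ncard := by
      rw [Set.ncard_pos]
      exact MulAction.nonempty_orbit ω₀
    have h4 := Nat.le_of_dvd h3 h1
    omega
  have hdvd : p ∣ Nat.card G := by
    have h1 : (MulAction.stabilizer G ω₀).index = Nat.card Ω :=
      MulAction.index_stabilizer_of_transitive G ω₀
    have h2 : (MulAction.stabilizer G ω₀).index ∣ Nat.card G := Subgroup.index_dvd_card _
    rw [h1, hcard] at h2
    exact (dvd_pow_self p (by omega)).trans h2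
  exact Cfsg.Agent.helper28.exists_fpf_of_transitive_pgroup (P : Subgroup G) P.isPGroup'
    (P.ne_bot_of_dvd_card hdvd) ω₀ horb

end Cfsg.Agent.S5726
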