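import Cfsg.Statements.S5727
import Cfsg.Agent.Lib_helper28_Derange

set_option autoImplicit false
open Cfsg

namespace Cfsg.Agent.S5727

/-- If a finite group acts faithfully and transitively on a set with m·p elements, where p is a prime and 1 ≤ m ≤ p, then some element of order p fixes no point. -/
theorem result {G Ω : Type*} [Group G] [Finite G] [MulAction G Ω] [FaithfulSMul G Ω] [Fintype Ω] (htr : MulAction.IsPretransitive G Ω)
    (p m : ℕ) (hp : p.Prime) (hm : 1 ≤ m) (hmp : m ≤ p) (hΩ : Fintype.card Ω = m * p) :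
    ∃ g : G, orderOf g = p ∧ ∀ ω : Ω, g • ω ≠ ω := by
  have : Fact p.Prime := Fact.mk hp
  have hcard : Nat.card Ω = m * p := by rw [Nat.card_eq_fintype_card, hΩ]
  have hpos : 0 < Fintype.card Ω := by rw [hΩ]; exact Nat.mul_pos hm hp.pos
  obtain ⟨ω₀⟩ := Fintype.card_pos_iff.mp hpos
  let P : Sylow p G := default
  have hdvd : p ∣ Nat.card G := by
    have h1 : (MulAction.stabilizer G ω₀).index = Nat.card Ω :=
      MulAction.index_stabilizer_of_transitive G ω₀
    have h2 : (MulAction.stabilizer G ω₀).index ∣ Nat.card G := Subgroup.index_dvd_card _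
    rw [h1, hcard] at h2
    exact (Dvd.intro_left m rfl).trans h2
  have hPne : (P : Subgroup G) ≠ ⊥ := P.ne_bot_of_dvd_card hdvd
  have horbdvd : ∀ ω : Ω, p ∣ (MulAction.orbit (↥(P : Subgroup G)) ω).ncard := by
    intro ω
    have := Cfsg.Agent.helper28.sylow_orbit_dvd P (j := 1)
      (by rw [hcard, pow_one]; exact Dvd.intro_left m rfl) ω
    rwa [pow_one] at this
  by_cases htrP : ∃ ω : Ω, MulAction.orbit (↥(P : Subgroup G)) ω = Set.univ
  · obtain ⟨ω, hω⟩ := htrP
    exact Cfsg.Agent.helper28.exists_fpf_of_transitive_pgroup (P : Subgroup G) P.isPGroup'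
      hPne ω hω
  · push Not at htrP
    have horb : ∀ ω : Ω, (MulAction.orbit (↥(P : Subgroup G)) ω).ncard = p := by
      intro ω
      obtain ⟨n, hn⟩ := P.isPGroup'.card_orbit ω
      rw [Nat.card_coe_set_eq] at hn
      have hle : (MulAction.orbit (↥(P : Subgroup G)) ω).ncard ≤ Nat.card Ω :=
        Set.ncard_le_card _
      have hne : (MulAction.orbit (↥(P : Subgroup G)) ω).ncard ≠ Nat.card Ω := by
        intro h
        exact htrP ω ((Set.eq_univ_iff_ncard _).mpr h)
      have h1 := horbdvd ω
      rw [hn] at h1 hle hne ⊢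
      rcases n with _ | _ | n
      · rw [pow_zero, Nat.dvd_one] at h1
        exact absurd h1 hp.one_lt.ne'
      · simp
      · exfalso
        rw [hcard] at hle hne
        have h2 : p ^ 2 ≤ p ^ (n + 1 + 1) := Nat.pow_le_pow_right hp.pos (by omega)
        have h3 : m * p ≤ p * p := Nat.mul_le_mul_right p hmp
        rw [pow_two] at h2
        omega
    obtain ⟨g, hg⟩ := Cfsg.Agent.helper28.exists_fpf_of_orbits_prime
      (Q := ↥(P : Subgroup G)) P.isPGroup' horb hm hmp hΩ
    refine ⟨(g : G), ?_, fun ω => hg ω⟩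
    have hgp : (g : G) ^ p = 1 := by
      apply eq_of_smul_eq_smul (α := Ω)
      intro ω
      rw [one_smul]
      exact Cfsg.Agent.helper28.pow_p_fix P.isPGroup' horb g ω
    have hg1 : (g : G) ≠ 1 := by
      intro h
      apply hg ω₀
      show (g : G) • ω₀ = ω₀
      rw [h, one_smul]
    exact orderOf_eq_prime hgp hg1

end Cfsg.Agent.S5727
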