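import Cfsg.Statements.S5728

set_option autoImplicit false
open Cfsg

namespace Cfsg.Agent.S5728

lemma coeff_in_prime (p s : ℕ) [Fact p.Prime] (hs : p = 2 ^ s - 1) (a : GaloisField p 2)
    (r : ℕ) (hr : r.Prime) (har : a ^ r = 1) (ha1 : a ≠ 1) :
    ∃ a' : ZMod p, a' ≠ 0 ∧ algebraMap (ZMod p) (GaloisField p 2) a' = a := by
  have hp : p.Prime := Fact.out
  have ha0 : a ≠ 0 := by
    rintro rfl
    rw [zero_pow hr.ne_zero] at har
    exact zero_ne_one har
  have hord : orderOf a = r := by
    have hdvd : orderOf a ∣ r := orderOf_dvd_of_pow_eq_one har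
    rcases (Nat.dvd_prime hr).1 hdvd with h | h
    · exact absurd (orderOf_eq_one_iff.1 h) ha1
    · exact h
  have : Fintype (GaloisField p 2) := Fintype.ofFinite _
  have hcard : Fintype.card (GaloisField p 2) = p ^ 2 := by
    rw [Fintype.card_eq_nat_card, GaloisField.card p 2 (by norm_num)]
  have hpow : a ^ (p ^ 2 - 1) = 1 := by
    have := FiniteField.pow_card_sub_one_eq_one a ha0
    rwa [hcard] at this
  have hrdvd : r ∣ p ^ 2 - 1 := by
    rw [← hord]; exact orderOf_dvd_of_pow_eq_one hpow
  have hs2 : 2 ≤ s := by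
    by_contra h
    have hs' : s = 0 ∨ s = 1 := by omega
    rcases hs' with rfl | rfl
    · simp at hs; exact hp.ne_zero hs
    · simp at hs; exact hp.ne_one hs
  have hpow2 : 1 ≤ 2 ^ s := Nat.one_le_two_pow
  have hp1 : p + 1 = 2 ^ s := by omega
  have hfac : p ^ 2 - 1 = (p - 1) * (p + 1) := by
    have h1 : 1 ≤ p := hp.one_lt.le
    obtain ⟨k, rfl⟩ : ∃ k, p = k + 1 := ⟨p - 1, by omega⟩
    simp only [Nat.add_sub_cancel]
    have : (k + 1) ^ 2 = k * (k + 1 + 1) + 1 := by ring
    rw [this, Nat.add_sub_cancel]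
  have hr1 : r ∣ p - 1 := by
    rw [hfac] at hrdvd
    rcases (Nat.Prime.dvd_mul hr).1 hrdvd with h | h
    · exact h
    · rw [hp1] at h
      have h2 : r ∣ 2 := hr.dvd_of_dvd_pow h
      have hr2 : r = 2 := (Nat.prime_dvd_prime_iff_eq hr Nat.prime_two).1 h2
      rw [hr2]
      have h4 : 4 ∣ 2 ^ s := by
        obtain ⟨k, rfl⟩ : ∃ k, s = k + 2 := ⟨s - 2, by omega⟩
        rw [pow_add]; exact Dvd.intro_left _ rfl
      omega
  have hap : a ^ p = a := by
    obtain ⟨k, hk⟩ := hr1
    have h1 : a ^ (p - 1) = 1 := by rw [hk, pow_mul, har, one_pow]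
    have h2 : (p - 1) + 1 = p := by have := hp.one_lt; omega
    calc a ^ p = a ^ ((p - 1) + 1) := by rw [h2]
      _ = a := by rw [pow_succ, h1, one_mul]
  have hmem : a ∈ (⊥ : Subfield (GaloisField p 2)) :=
    (Subfield.mem_bot_iff_pow_eq_self (GaloisField p 2) p).2 hap
  rw [← ZMod.fieldRange_castHom_eq_bot p, RingHom.mem_fieldRange] at hmem
  obtain ⟨a', ha'⟩ := hmem
  refine ⟨a', ?_, ?_⟩
  · rintro rfl
    rw [map_zero] at ha'
    exact ha0 ha'.symm
  · rw [← ha']
    exact RingHom.congr_fun (RingHom.ext_zmod _ _) a'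

/-- An elusive transitive action. Let p = 2^s − 1 be a prime and let F be the field with p² elements. Inside the group of affine maps x ↦ a·x + b of F (a ≠ 0), consider the subgroup of maps with both coefficients in the prime field. Then every element of prime order of the affine group is conjugate, within the affine group, to an element of that subgroup; equivalently, in the transitive action of the affine group on the cosets of that subgroup (of degree p(p + 1)) every element of prime order fixes a point. -/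
theorem result (p s : ℕ) [Fact p.Prime] (hs : p = 2 ^ s - 1)
    (g : Equiv.Perm (GaloisField p 2)) (hg : g ∈ Cfsg.affineGroup (GaloisField p 2)) (hord : (orderOf g).Prime) :
    ∃ x ∈ Cfsg.affineGroup (GaloisField p 2), ∃ a b : ZMod p, a ≠ 0 ∧
      ∀ y : GaloisField p 2, (x * g * x⁻¹) y = algebraMap (ZMod p) (GaloisField p 2) a * y + algebraMap (ZMod p) (GaloisField p 2) b := by
  obtain ⟨a, b, hab⟩ := hg
  by_cases ha1 : (a : GaloisField p 2) = 1
  · -- translation
    have hb0 : b ≠ 0 := by
      rintro rfl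
      have : g = 1 := by
        ext y; rw [hab, ha1]; simp
      rw [this, orderOf_one] at hord
      exact Nat.not_prime_one hord
    let bu : (GaloisField p 2)ˣ := Units.mk0 b hb0
    let x : Equiv.Perm (GaloisField p 2) := Equiv.mulLeft₀ b⁻¹ (inv_ne_zero hb0)
    have hx : x ∈ Cfsg.affineGroup (GaloisField p 2) :=
      ⟨bu⁻¹, 0, fun y => by simp [x, bu]⟩
    refine ⟨x, hx, 1, 1, one_ne_zero, fun y => ?_⟩
    have hxinv : x⁻¹ y = b * y := by
      rw [Equiv.Perm.inv_def, Equiv.symm_apply_eq]
      simp [x, hb0]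
    rw [Equiv.Perm.mul_apply, Equiv.Perm.mul_apply, hxinv, hab, ha1]
    simp only [x, Equiv.mulLeft₀_apply, map_one, one_mul]
    field_simp
  · -- fixed point
    have h1a : (1 - (a : GaloisField p 2)) ≠ 0 := by
      intro h; apply ha1; rw [sub_eq_zero] at h; exact h.symm
    set x0 : GaloisField p 2 := b / (1 - a) with hx0
    have hfix : (a : GaloisField p 2) * x0 + b = x0 := by
      rw [hx0]; field_simp; ring
    let x : Equiv.Perm (GaloisField p 2) := Equiv.addRight (-x0)
    have hx : x ∈ Cfsg.affineGroup (GaloisField p 2) :=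
      ⟨1, -x0, fun y => by simp [x]⟩
    have hxinv : ∀ y, x⁻¹ y = y + x0 := by
      intro y
      rw [Equiv.Perm.inv_def, Equiv.symm_apply_eq]
      simp [x]
    have hconj : ∀ y, (x * g * x⁻¹) y = (a : GaloisField p 2) * y := by
      intro y
      rw [Equiv.Perm.mul_apply, Equiv.Perm.mul_apply, hxinv, hab]
      simp only [x, Equiv.coe_addRight]
      have : (a : GaloisField p 2) * (y + x0) + b + -x0 = (a : GaloisField p 2) * y + ((a : GaloisField p 2) * x0 + b) - x0 := by ring
      rw [this, hfix]; ring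
    have hpowc : ∀ k : ℕ, ∀ y, ((x * g * x⁻¹) ^ k) y = (a : GaloisField p 2) ^ k * y := by
      intro k
      induction k with
      | zero => intro y; simp
      | succ k ih =>
        intro y
        rw [pow_succ, Equiv.Perm.mul_apply, hconj, ih]; ring
    have hgr : (x * g * x⁻¹) ^ (orderOf g) = 1 := by
      rw [conj_pow, pow_orderOf_eq_one, mul_one, mul_inv_cancel]
    have har : (a : GaloisField p 2) ^ (orderOf g) = 1 := by
      have := hpowc (orderOf g) 1
      rw [hgr, mul_one] at this
      exact this.symm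
    obtain ⟨a', ha'0, ha'⟩ := coeff_in_prime p s hs (a : GaloisField p 2) (orderOf g) hord har ha1
    refine ⟨x, hx, a', 0, ha'0, fun y => ?_⟩
    rw [hconj, ha', map_zero, add_zero]

end Cfsg.Agent.S5728
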