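import Cfsg.Statements.S5747
-- import your own Cfsg.Agent.* helpers here

set_option autoImplicit false
open Cfsg

namespace Cfsg.Agent.S5747

section helpers

variable {G Ω : Type*} [Group G] [MulAction G Ω]

/-- `l` is an irredundant base for the subgroup `H`. -/
def IB (H : Subgroup G) (l : List Ω) : Prop :=
  (∀ g ∈ H, (∀ x ∈ l, g • x = x) → g = 1) ∧
  ∀ k (hk : k < l.length), ∃ g ∈ H, (∀ j (hj : j < k), g • l[j] = l[j]) ∧ g • l[k] ≠ l[k]

/-- stabilizer of a point inside `H` -/
def stabPt (H : Subgroup G) (x : Ω) : Subgroup G := H ⊓ MulAction.stabilizer G x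

theorem mem_stabPt {H : Subgroup G} {x : Ω} {g : G} : g ∈ stabPt H x ↔ g ∈ H ∧ g • x = x := by
  simp [stabPt, Subgroup.mem_inf, MulAction.mem_stabilizer_iff]

theorem ib_nil (H : Subgroup G) : IB H ([] : List Ω) ↔ H = ⊥ := by
  constructor
  · intro h
    rw [Subgroup.eq_bot_iff_forall]
    intro g hg
    exact h.1 g hg (by simp)
  · intro h
    subst h
    refine ⟨fun g hg _ => Subgroup.mem_bot.mp hg, fun k hk => ?_⟩
    simp at hk

theorem ib_cons (H : Subgroup G) (x : Ω) (l : List Ω) :
    IB H (x :: l) ↔ (∃ g ∈ H, g • x ≠ x) ∧ IB (stabPt H x) l := by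
  constructor
  · rintro ⟨hb, hi⟩
    refine ⟨?_, ?_, ?_⟩
    · obtain ⟨g, hg, _, hgx⟩ := hi 0 (by simp)
      exact ⟨g, hg, by simpa using hgx⟩
    · intro g hg hfix
      rw [mem_stabPt] at hg
      apply hb g hg.1
      intro y hy
      rcases List.mem_cons.mp hy with rfl | hy
      · exact hg.2
      · exact hfix y hy
    · intro k hk
      obtain ⟨g, hg, hfix, hne⟩ := hi (k + 1) (by simpa using hk)
      refine ⟨g, mem_stabPt.mpr ⟨hg, ?_⟩, ?_, ?_⟩
      · simpa using hfix 0 (by omega)
      · intro j hj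
        simpa using hfix (j + 1) (by omega)
      · simpa using hne
  · rintro ⟨⟨g₀, hg₀, hne₀⟩, hb, hi⟩
    refine ⟨?_, ?_⟩
    · intro g hg hfix
      apply hb g (mem_stabPt.mpr ⟨hg, hfix x (by simp)⟩)
      intro y hy
      exact hfix y (List.mem_cons_of_mem _ hy)
    · intro k hk
      rcases k with _ | k
      · exact ⟨g₀, hg₀, by intro j hj; omega, by simpa using hne₀⟩
      · obtain ⟨g, hg, hfix, hne⟩ := hi k (by simpa using hk)
        rw [mem_stabPt] at hg
        refine ⟨g, hg.1, ?_, by simpa using hne⟩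
        intro j hj
        rcases j with _ | j
        · simpa using hg.2
        · simpa using hfix j (by omega)

/-- From any (possibly redundant) base one can extract an irredundant base. -/
theorem exists_sublist_ib (C : List Ω) : ∀ (K : Subgroup G),
    (∀ g ∈ K, (∀ x ∈ C, g • x = x) → g = 1) → ∃ C' : List Ω, C'.Sublist C ∧ IB K C' := by
  induction C with
  | nil =>
    intro K hK
    refine ⟨[], List.Sublist.refl _, (ib_nil K).mpr ?_⟩
    rw [Subgroup.eq_bot_iff_forall]
    intro g hg
    exact hK g hg (by simp)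
  | cons c C ih =>
    intro K hK
    by_cases hmove : ∃ g ∈ K, g • c ≠ c
    · obtain ⟨C', hsub, hC'⟩ := ih (stabPt K c) (by
        intro g hg hfix
        rw [mem_stabPt] at hg
        apply hK g hg.1
        intro y hy
        rcases List.mem_cons.mp hy with rfl | hy
        · exact hg.2
        · exact hfix y hy)
      exact ⟨c :: C', hsub.cons_cons c, (ib_cons K c C').mpr ⟨hmove, hC'⟩⟩
    · push Not at hmove
      obtain ⟨C', hsub, hC'⟩ := ih K (by
        intro g hg hfix
        apply hK g hg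
        intro y hy
        rcases List.mem_cons.mp hy with rfl | hy
        · exact hmove g hg
        · exact hfix y hy)
      exact ⟨C', hsub.cons c, hC'⟩

theorem card_stabPt_lt [Finite G] (H : Subgroup G) (x : Ω) (h : ∃ g ∈ H, g • x ≠ x) :
    Nat.card (stabPt H x) < Nat.card H := by
  obtain ⟨g, hg, hgx⟩ := h
  have hlt : stabPt H x < H := by
    refine lt_of_le_of_ne inf_le_left ?_
    intro heq
    have : g ∈ stabPt H x := by rw [heq]; exact hg
    exact hgx (mem_stabPt.mp this).2
  have h1 : ((stabPt H x : Subgroup G) : Set G) ⊂ (H : Set G) := hlt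
  have := Set.ncard_lt_ncard h1 (Set.toFinite _)
  rw [← Nat.card_coe_set_eq, ← Nat.card_coe_set_eq] at this
  exact this

def bL (H : Subgroup G) : Prop := ∀ l l' : List Ω, l.Perm l' → IB H l → IB H l'

def aL (H : Subgroup G) : Prop := ∀ l l' : List Ω, IB H l → IB H l' → l.length = l'.length

theorem bL_stab {H : Subgroup G} {x : Ω} (hx : ∃ g ∈ H, g • x ≠ x) (hb : bL (Ω := Ω) H) :
    bL (Ω := Ω) (stabPt H x) := by
  intro l l' hp hl
  have h1 : IB H (x :: l) := (ib_cons H x l).mpr ⟨hx, hl⟩
  have h2 := hb _ _ (hp.cons x) h1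
  exact ((ib_cons H x l').mp h2).2

theorem no_move_bot {x : Ω} : ¬ ∃ g ∈ (⊥ : Subgroup G), g • x ≠ x := by
  rintro ⟨g, hg, hgx⟩
  rw [Subgroup.mem_bot] at hg
  subst hg
  exact hgx (one_smul _ _)

theorem ib_bot_eq_nil {l : List Ω} (h : IB (⊥ : Subgroup G) l) : l = [] := by
  cases l with
  | nil => rfl
  | cons c C => exact absurd ((ib_cons _ c C).mp h).1 no_move_bot

theorem b_imp_a [Finite G] : ∀ n : ℕ, ∀ H : Subgroup G, Nat.card H ≤ n → bL (Ω := Ω) H →
    aL (Ω := Ω) H := by
  classical
  intro n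
  induction n with
  | zero =>
    intro H hcard
    have := Nat.card_pos (α := H)
    omega
  | succ n ih =>
    intro H hcard hb l l' hl hl'
    cases l with
    | nil =>
      have hH := (ib_nil H).mp hl
      subst hH
      rw [ib_bot_eq_nil hl']
    | cons b₁ B' =>
      obtain ⟨hmove, hB'⟩ := (ib_cons H b₁ B').mp hl
      have hlt := card_stabPt_lt H b₁ hmove
      have aK : aL (Ω := Ω) (stabPt H b₁) := ih _ (by omega) (bL_stab hmove hb)
      obtain ⟨C', hsub, hC'⟩ := exists_sublist_ib l' (stabPt H b₁) (by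
        intro g hg hfix
        exact hl'.1 g (mem_stabPt.mp hg).1 hfix)
      have hlen1 : B'.length = C'.length := aK _ _ hB' hC'
      cases C' with
      | nil =>
        have hbot : stabPt H b₁ = ⊥ := (ib_nil _).mp hC'
        have hB'nil : B' = [] := List.length_eq_zero_iff.mp (by simpa using hlen1)
        subst hB'nil
        cases l' with
        | nil =>
          have hH := (ib_nil H).mp hl'
          subst hH
          exact absurd hmove no_move_bot
        | cons c₁ C₁ =>
          obtain ⟨hmc, hC₁⟩ := (ib_cons H c₁ C₁).mp hl'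
          by_cases hK : stabPt H c₁ = ⊥
          · rw [hK] at hC₁
            rw [ib_bot_eq_nil hC₁]
            rfl
          · exfalso
            obtain ⟨g, hg1⟩ := (Subgroup.ne_bot_iff_exists_ne_one.mp hK)
            have hgb : (g : G) • b₁ ≠ b₁ := by
              intro hfix
              have : (g : G) ∈ stabPt H b₁ := mem_stabPt.mpr ⟨(mem_stabPt.mp g.2).1, hfix⟩
              rw [hbot, Subgroup.mem_bot] at this
              exact hg1 (Subtype.ext this)
            have hbot2 : stabPt (stabPt H c₁) b₁ = ⊥ := by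
              rw [Subgroup.eq_bot_iff_forall]
              intro k hk
              have : k ∈ stabPt H b₁ :=
                mem_stabPt.mpr ⟨(mem_stabPt.mp (mem_stabPt.mp hk).1).1, (mem_stabPt.mp hk).2⟩
              rwa [hbot, Subgroup.mem_bot] at this
            have h1 : IB H [c₁, b₁] :=
              (ib_cons H c₁ [b₁]).mpr ⟨hmc, (ib_cons _ b₁ []).mpr
                ⟨⟨g, g.2, hgb⟩, (ib_nil _).mpr hbot2⟩⟩
            have h2 : IB H [b₁, c₁] := hb _ _ (List.Perm.swap b₁ c₁ []) h1
            have h3 := ((ib_cons H b₁ [c₁]).mp h2).2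
            rw [hbot] at h3
            exact absurd ((ib_cons _ c₁ []).mp h3).1 no_move_bot
      | cons c C'' =>
        have hc_mem : c ∈ l' := hsub.subset (by simp)
        have h1 : IB H (b₁ :: c :: C'') := (ib_cons H b₁ _).mpr ⟨hmove, hC'⟩
        have h2 : IB H (c :: b₁ :: C'') := hb _ _ (List.Perm.swap c b₁ C'') h1
        obtain ⟨hmc, h3⟩ := (ib_cons H c (b₁ :: C'')).mp h2
        have hp : l'.Perm (c :: l'.erase c) := List.perm_cons_erase hc_mem
        have h4 : IB H (c :: l'.erase c) := hb _ _ hp hl'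
        have h5 := ((ib_cons H c _).mp h4).2
        have hltc := card_stabPt_lt H c hmc
        have aKc : aL (Ω := Ω) (stabPt H c) := ih _ (by omega) (bL_stab hmc hb)
        have hlen2 := aKc _ _ h3 h5
        have hlen3 := hp.length_eq
        simp only [List.length_cons] at hlen1 hlen2 hlen3 ⊢
        omega

theorem a_imp_b (H : Subgroup G) (ha : aL (Ω := Ω) H) : bL (Ω := Ω) H := by
  intro l l' hp hl
  obtain ⟨C', hsub, hC'⟩ := exists_sublist_ib l' H (by
    intro g hg hfix
    apply hl.1 g hg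
    intro x hx
    exact hfix x (hp.mem_iff.mp hx))
  have h1 : l.length = C'.length := ha _ _ hl hC'
  have h2 := hp.length_eq
  have h3 : C' = l' := hsub.eq_of_length (by omega)
  rw [← h3]
  exact hC'

/-- the statement's form of an irredundant base -/
def IBfun {t : ℕ} (f : Fin t → Ω) : Prop :=
  (∀ g : G, (∀ i : Fin t, g • f i = f i) → g = 1) ∧
    ∀ i : Fin t, ∃ g : G, (∀ j : Fin t, j < i → g • f j = f j) ∧ g • f i ≠ f i

theorem ib_ofFn {t : ℕ} (f : Fin t → Ω) : IB (⊤ : Subgroup G) (List.ofFn f) ↔ IBfun (G := G) f := by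
  constructor
  · rintro ⟨hb, hi⟩
    refine ⟨fun g hg => hb g trivial ?_, fun i => ?_⟩
    · intro x hx
      obtain ⟨i, rfl⟩ := (List.mem_ofFn' f x).mp hx
      exact hg i
    · obtain ⟨g, _, hfix, hne⟩ := hi i.val (by simp)
      refine ⟨g, ?_, by simpa using hne⟩
      intro j hj
      simpa using hfix j.val hj
  · rintro ⟨hb, hi⟩
    refine ⟨fun g _ hg => hb g ?_, fun k hk => ?_⟩
    · intro i
      exact hg _ ((List.mem_ofFn' f _).mpr ⟨i, rfl⟩)
    · have hk' : k < t := by simpa using hk
      obtain ⟨g, hfix, hne⟩ := hi ⟨k, hk'⟩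
      refine ⟨g, trivial, ?_, by simpa using hne⟩
      intro j hj
      simpa using hfix ⟨j, by omega⟩ (by simpa using hj)

theorem ib_nodup : ∀ (l : List Ω) (H : Subgroup G), IB H l → l.Nodup := by
  intro l
  induction l with
  | nil => intro _ _; exact List.nodup_nil
  | cons x l ih =>
    intro H h
    obtain ⟨_, h2⟩ := (ib_cons H x l).mp h
    refine List.nodup_cons.mpr ⟨?_, ih _ h2⟩
    intro hx
    obtain ⟨k, hk, hkx⟩ := List.getElem_of_mem hx
    obtain ⟨g, hg, _, hne⟩ := h2.2 k hk
    rw [hkx] at hne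
    exact hne (mem_stabPt.mp hg).2

theorem exists_perm_comp {α : Type*} {n : ℕ} (f g : Fin n → α) (hf : Function.Injective f)
    (hg : Function.Injective g) (h : Set.range g = Set.range f) :
    ∃ σ : Equiv.Perm (Fin n), f ∘ σ = g := by
  let σ : Equiv.Perm (Fin n) :=
    (Equiv.ofInjective g hg).trans ((Equiv.setCongr h).trans (Equiv.ofInjective f hf).symm)
  refine ⟨σ, funext fun i => ?_⟩
  simp only [Function.comp_apply, σ, Equiv.trans_apply]
  rw [Equiv.apply_ofInjective_symm hf]
  simp

theorem exists_perm_of_list_perm {l l' : List Ω} (hp : l.Perm l') (hnd : l.Nodup) :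
    ∃ σ : Equiv.Perm (Fin l.length), List.ofFn (l.get ∘ σ) = l' := by
  have hlen : l.length = l'.length := hp.length_eq
  have hnd' : l'.Nodup := hp.nodup_iff.mp hnd
  let g : Fin l.length → Ω := fun i => l'.get (Fin.cast hlen i)
  have hg : Function.Injective g := by
    intro i j hij
    have := (List.nodup_iff_injective_get.mp hnd') hij
    exact Fin.cast_injective hlen this
  have hf : Function.Injective l.get := List.nodup_iff_injective_get.mp hnd
  have hr : Set.range g = Set.range l.get := by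
    ext x
    constructor
    · rintro ⟨i, rfl⟩
      have : l'.get (Fin.cast hlen i) ∈ l := hp.mem_iff.mpr (List.get_mem _ _)
      obtain ⟨k, hk⟩ := List.mem_iff_get.mp this
      exact ⟨k, hk⟩
    · rintro ⟨i, rfl⟩
      have : l.get i ∈ l' := hp.mem_iff.mp (List.get_mem _ _)
      obtain ⟨k, hk⟩ := List.mem_iff_get.mp this
      exact ⟨Fin.cast hlen.symm k, by simpa [g] using hk⟩
  obtain ⟨σ, hσ⟩ := exists_perm_comp l.get g hf hg hr
  refine ⟨σ, ?_⟩
  rw [hσ]
  apply List.ext_get
  · simp [hlen]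
  · intro k h1 h2
    simp [g]

end helpers

/-- Let a finite group G act on a finite set Ω. An irredundant base is a sequence of points ω₁, …, ω_t whose pointwise stabiliser is trivial and in which each ω_i is moved by some element fixing ω₁, …, ω_{i−1}. Then all irredundant bases have the same length if and only if every reordering of an irredundant base is again an irredundant base. -/
theorem result {G Ω : Type*} [Group G] [Finite G] [MulAction G Ω] [Fintype Ω] :
    (∀ (t t' : ℕ) (f : Fin t → Ω) (f' : Fin t' → Ω), ((∀ g : G, (∀ i : Fin t, g • f i = f i) → g = 1) ∧ ∀ i : Fin t, ∃ g : G, (∀ j : Fin t, j < i → g • f j = f j) ∧ g • f i ≠ f i) → ((∀ g : G, (∀ i : Fin t', g • f' i = f' i) → g = 1) ∧ ∀ i : Fin t', ∃ g : G, (∀ j : Fin t', j < i → g • f' j = f' j) ∧ g • f' i ≠ f' i) → t = t') ↔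
    (∀ (t : ℕ) (f : Fin t → Ω) (σ : Equiv.Perm (Fin t)), ((∀ g : G, (∀ i : Fin t, g • f i = f i) → g = 1) ∧ ∀ i : Fin t, ∃ g : G, (∀ j : Fin t, j < i → g • f j = f j) ∧ g • f i ≠ f i) → ((∀ g : G, (∀ i : Fin t, g • (f ∘ σ) i = (f ∘ σ) i) → g = 1) ∧ ∀ i : Fin t, ∃ g : G, (∀ j : Fin t, j < i → g • (f ∘ σ) j = (f ∘ σ) j) ∧ g • (f ∘ σ) i ≠ (f ∘ σ) i)) := by
  constructor
  · intro ha t f σ hf
    have haL : aL (Ω := Ω) (⊤ : Subgroup G) := by
      intro l l' hl hl'
      have h1 : IBfun (G := G) l.get := (ib_ofFn l.get).mp (by rw [List.ofFn_get]; exact hl)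
      have h2 : IBfun (G := G) l'.get := (ib_ofFn l'.get).mp (by rw [List.ofFn_get]; exact hl')
      exact ha _ _ _ _ h1 h2
    have hbL := a_imp_b ⊤ haL
    have := hbL _ _ (σ.ofFn_comp_perm f).symm ((ib_ofFn f).mpr hf)
    exact (ib_ofFn _).mp this
  · intro hb t t' f f' hf hf'
    have hbL : bL (Ω := Ω) (⊤ : Subgroup G) := by
      intro l l' hp hl
      obtain ⟨σ, hσ⟩ := exists_perm_of_list_perm hp (ib_nodup l ⊤ hl)
      have h1 : IBfun (G := G) l.get := (ib_ofFn l.get).mp (by rw [List.ofFn_get]; exact hl)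
      have h2 := hb _ _ σ h1
      rw [← hσ]
      exact (ib_ofFn _).mpr h2
    have haL := b_imp_a (Nat.card (⊤ : Subgroup G)) ⊤ le_rfl hbL
    have := haL _ _ ((ib_ofFn f).mpr hf) ((ib_ofFn f').mpr hf')
    simpa using this

end Cfsg.Agent.S5747
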