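import Cfsg.Statements.S5754
-- import your own Cfsg.Agent.* helpers here

set_option autoImplicit false
open Cfsg

namespace Cfsg.Agent.S5754

open QuadraticMap MvPolynomial



variable {F V : Type*} [Field F] [AddCommGroup V] [Module F V]

theorem expand2 (Q : QuadraticForm F V) (x y : V) (α β : F) :
    Q (α • x + β • y) = α * α * Q x + β * β * Q y + α * β * polar Q x y := by
  rw [QuadraticMap.map_add Q, QuadraticMap.map_smul, QuadraticMap.map_smul, polar_smul_left,
    polar_smul_right]
  simp only [smul_eq_mul]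
  ring

theorem expand3 (Q : QuadraticForm F V) (x y z : V) (α β : F) :
    Q (x - α • y - β • z) = Q x + α * α * Q y + β * β * Q z - α * polar Q x y - β * polar Q x z
      + α * β * polar Q y z := by
  have h : x - α • y - β • z = x + ((-α) • y + (-β) • z) := by
    simp only [neg_smul]; abel
  rw [h, QuadraticMap.map_add Q, expand2, polar_add_right, polar_smul_right, polar_smul_right]
  simp only [smul_eq_mul]
  ring

theorem polar_eq (Q : QuadraticForm F V) (x y : V) :
    polar Q x y = Q x + Q y - Q (x - y) := by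
  have h := expand3 Q x y y 1 0
  simp only [one_smul, zero_smul, sub_zero, one_mul, zero_mul, mul_zero, add_zero] at h
  rw [h]; ring

section main

variable (Q : QuadraticForm F V) (hQ : Q.Anisotropic) {ι : Type*} (a b : ι → V) (i₀ : ι)
  (ha0 : a i₀ = 0) (hb0 : b i₀ = 0) (hK : ∀ i j, Q (a i - a j) = Q (b i - b j))

include ha0 hb0 hK

theorem hnorm (i : ι) : Q (a i) = Q (b i) := by
  have := hK i i₀
  rwa [ha0, hb0, sub_zero, sub_zero] at this

theorem hpol (i j : ι) : polar Q (a i) (a j) = polar Q (b i) (b j) := by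
  rw [polar_eq, polar_eq, hK i j, hnorm Q a b i₀ ha0 hb0 hK i, hnorm Q a b i₀ ha0 hb0 hK j]

theorem G3 (i j k : ι) (α β : F) :
    Q (a i - α • a j - β • a k) = Q (b i - α • b j - β • b k) := by
  rw [expand3, expand3]
  simp only [hnorm Q a b i₀ ha0 hb0 hK, hpol Q a b i₀ ha0 hb0 hK]

theorem G2 (j k : ι) (α β : F) :
    Q (α • a j + β • a k) = Q (α • b j + β • b k) := by
  rw [expand2, expand2]
  simp only [hnorm Q a b i₀ ha0 hb0 hK, hpol Q a b i₀ ha0 hb0 hK]

include hQ

theorem comb_eq (i j k : ι) (α β : F) (h : a i = α • a j + β • a k) :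
    b i = α • b j + β • b k := by
  have h0 : Q (a i - α • a j - β • a k) = 0 := by
    rw [h]
    have : α • a j + β • a k - α • a j - β • a k = 0 := by abel
    rw [this]; exact QuadraticMap.map_zero Q
  rw [G3 Q a b i₀ ha0 hb0 hK] at h0
  have := hQ _ h0
  rw [sub_sub, sub_eq_zero] at this
  exact this

theorem exists_isom [Module.Finite F V] (hdim : Module.finrank F V ≤ 2)
    (h1 : ∀ j, ∃ φ : Q.IsometryEquiv Q, φ (a j) = b j) :
    ∃ ψ : Q.IsometryEquiv Q, ∀ i, ψ (a i) = b i := by
  classical
  by_cases hind : ∃ j k, LinearIndependent F ![a j, a k]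
  · obtain ⟨j, k, hjk⟩ := hind
    have hcard : Fintype.card (Fin 2) = Module.finrank F V := by
      have := hjk.fintype_card_le_finrank
      simp only [Fintype.card_fin] at this ⊢
      omega
    let bs : Module.Basis (Fin 2) F V := basisOfLinearIndependentOfCardEqFinrank hjk hcard
    have hbs : ∀ i, bs i = ![a j, a k] i := fun i => by
      simp [bs]
    let ψ₀ : V →ₗ[F] V := bs.constr F ![b j, b k]
    have hrepr : ∀ x : V, x = bs.repr x 0 • a j + bs.repr x 1 • a k := by
      intro x
      conv_lhs => rw [← bs.sum_repr x]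
      rw [Fin.sum_univ_two, hbs, hbs]
      simp
    have hψ₀ : ∀ x : V, ψ₀ x = bs.repr x 0 • b j + bs.repr x 1 • b k := by
      intro x
      simp only [ψ₀, Module.Basis.constr_apply_fintype, Fin.sum_univ_two]
      simp
    have hiso : ∀ x : V, Q (ψ₀ x) = Q x := by
      intro x
      rw [hψ₀ x]
      conv_rhs => rw [hrepr x]
      exact (G2 Q a b i₀ ha0 hb0 hK j k _ _).symm
    have hinj : Function.Injective ψ₀ := by
      rw [injective_iff_map_eq_zero]
      intro x hx
      apply hQ
      rw [← hiso x, hx, QuadraticMap.map_zero]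
    let ψ₁ : V ≃ₗ[F] V := LinearEquiv.ofInjectiveEndo ψ₀ hinj
    have hψ₁ : ∀ x, ψ₁ x = ψ₀ x := fun x => by simp [ψ₁]
    refine ⟨⟨ψ₁, fun x => ?_⟩, fun i => ?_⟩
    · show Q (ψ₁ x) = Q x
      rw [hψ₁, hiso]
    · show ψ₁ (a i) = b i
      rw [hψ₁, hψ₀]
      exact (comb_eq Q hQ a b i₀ ha0 hb0 hK i j k _ _ (hrepr (a i))).symm
  · push Not at hind
    by_cases hz : ∀ i, a i = 0
    · refine ⟨QuadraticMap.IsometryEquiv.refl Q, fun i => ?_⟩
      have hbi : b i = 0 := by
        apply hQ
        rw [← hnorm Q a b i₀ ha0 hb0 hK i, hz i, QuadraticMap.map_zero]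
      show a i = b i
      rw [hz i, hbi]
    · push Not at hz
      obtain ⟨j, hj⟩ := hz
      obtain ⟨φ, hφ⟩ := h1 j
      refine ⟨φ, fun i => ?_⟩
      have hdep := hind j i
      rw [LinearIndependent.pair_iff' hj] at hdep
      push Not at hdep
      obtain ⟨α, hα⟩ := hdep
      have h1 : a i = α • a j + (0 : F) • a j := by rw [zero_smul, add_zero, hα]
      have h2 := comb_eq Q hQ a b i₀ ha0 hb0 hK i j j α 0 h1
      rw [zero_smul, add_zero] at h2
      rw [← hα, map_smul, hφ, h2]

end main


section dim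
variable {F V : Type*} [Field F] [AddCommGroup V] [Module F V]

theorem expand3' (Q : QuadraticForm F V) (x y z : V) (α β γ : F) :
    Q (α • x + β • y + γ • z) = α * α * Q x + β * β * Q y + γ * γ * Q z + α * β * polar Q x y
      + α * γ * polar Q x z + β * γ * polar Q y z := by
  rw [QuadraticMap.map_add Q, expand2, QuadraticMap.map_smul, polar_add_left, polar_smul_left,
    polar_smul_left, polar_smul_right, polar_smul_right]
  simp only [smul_eq_mul]
  ring

theorem term_deg (a : F) (i j : Fin 3) :
    (C a * X i * X j : MvPolynomial (Fin 3) F).totalDegree ≤ 2 := by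
  refine (totalDegree_mul _ _).trans ?_
  have h1 : (C a * X i : MvPolynomial (Fin 3) F).totalDegree ≤ 1 := by
    refine (totalDegree_mul _ _).trans ?_
    simp
  have h2 : (X j : MvPolynomial (Fin 3) F).totalDegree ≤ 1 := by simp
  omega

theorem finrank_le_two [Finite F] [Module.Finite F V] (Q : QuadraticForm F V)
    (hQ : Q.Anisotropic) : Module.finrank F V ≤ 2 := by
  classical
  by_contra hlt
  have h3 : 3 ≤ Module.finrank F V := by omega
  obtain ⟨e, he⟩ := exists_linearIndependent_of_le_finrank h3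
  have : Fintype F := Fintype.ofFinite F
  let P : MvPolynomial (Fin 3) F :=
    C (Q (e 0)) * X 0 * X 0 + C (Q (e 1)) * X 1 * X 1 + C (Q (e 2)) * X 2 * X 2
      + C (polar Q (e 0) (e 1)) * X 0 * X 1 + C (polar Q (e 0) (e 2)) * X 0 * X 2
      + C (polar Q (e 1) (e 2)) * X 1 * X 2
  have hdeg : P.totalDegree < Fintype.card (Fin 3) := by
    have : P.totalDegree ≤ 2 := by
      refine (totalDegree_add _ _).trans (max_le ?_ (term_deg _ _ _))
      refine (totalDegree_add _ _).trans (max_le ?_ (term_deg _ _ _))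
      refine (totalDegree_add _ _).trans (max_le ?_ (term_deg _ _ _))
      refine (totalDegree_add _ _).trans (max_le ?_ (term_deg _ _ _))
      refine (totalDegree_add _ _).trans (max_le (term_deg _ _ _) (term_deg _ _ _))
    simp only [Fintype.card_fin]
    omega
  have heval : ∀ x : Fin 3 → F, eval x P = Q (x 0 • e 0 + x 1 • e 1 + x 2 • e 2) := by
    intro x
    rw [expand3']
    simp only [P, map_add, map_mul, eval_C, eval_X]
    ring
  have hdvd := char_dvd_card_solutions (ringChar F) hdeg
  have hpos : 0 < Fintype.card { x : Fin 3 → F // eval x P = 0 } :=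
    Fintype.card_pos_iff.mpr ⟨⟨0, by rw [heval]; simp⟩⟩
  have hp1 : ringChar F ≠ 1 := CharP.char_ne_one F (ringChar F)
  have hp0 : ringChar F ≠ 0 := by
    intro h0
    rw [h0, zero_dvd_iff] at hdvd
    omega
  have hle := Nat.le_of_dvd hpos hdvd
  have h1lt : 1 < Fintype.card { x : Fin 3 → F // eval x P = 0 } := by omega
  obtain ⟨⟨x, hx⟩, hxne⟩ := Fintype.exists_ne_of_one_lt_card h1lt ⟨0, by rw [heval]; simp⟩
  rw [heval] at hx
  have hv := hQ _ hx
  have hx0 : ∀ i, x i = 0 := by
    have := Fintype.linearIndependent_iff.mp he x (by rw [Fin.sum_univ_three]; exact hv)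
    exact this
  apply hxne
  apply Subtype.ext
  funext i
  exact hx0 i


end dim

/-- Let V be a finite-dimensional vector space over a finite field F carrying an anisotropic quadratic form Q (Q(v) = 0 only for v = 0). Then the group of all maps v ↦ φ(v) + c, with φ an isometry of Q and c ∈ V, acts on V as a binary permutation group: given n ≥ 2 and two n-tuples u, u' of vectors such that every pair of corresponding entries of u is carried to that of u' by such a map, one such map carries u to u'. -/
theorem result {F V : Type*} [Field F] [Finite F] [AddCommGroup V] [Module F V] [Module.Finite F V]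
    (Q : QuadraticForm F V) (hQ : Q.Anisotropic) (n : ℕ) (hn : 2 ≤ n) (u u' : Fin n → V)
    (h2 : ∀ i j : Fin n, i ≠ j → ∃ (φ : Q.IsometryEquiv Q) (c : V), φ (u i) + c = u' i ∧ φ (u j) + c = u' j) :
    ∃ (φ : Q.IsometryEquiv Q) (c : V), ∀ i, φ (u i) + c = u' i := by
  have hdim := finrank_le_two Q hQ
  let i₀ : Fin n := ⟨0, by omega⟩
  let a : Fin n → V := fun i => u i - u i₀
  let b : Fin n → V := fun i => u' i - u' i₀
  have ha0 : a i₀ = 0 := sub_self _
  have hb0 : b i₀ = 0 := sub_self _
  have hK : ∀ i j, Q (a i - a j) = Q (b i - b j) := by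
    intro i j
    by_cases hij : i = j
    · subst hij; simp
    · obtain ⟨φ, c, e1, e2⟩ := h2 i j hij
      have : b i - b j = φ (a i - a j) := by
        simp only [a, b]
        rw [map_sub, map_sub, map_sub, ← e1, ← e2]
        abel
      rw [this, QuadraticMap.IsometryEquiv.map_app]
  have h1 : ∀ j, ∃ φ : Q.IsometryEquiv Q, φ (a j) = b j := by
    intro j
    by_cases hj : j = i₀
    · subst hj
      exact ⟨QuadraticMap.IsometryEquiv.refl Q, by rw [ha0, hb0]; exact map_zero _⟩
    · obtain ⟨φ, c, e1, e2⟩ := h2 j i₀ hj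
      refine ⟨φ, ?_⟩
      simp only [a, b]
      rw [map_sub, ← e1, ← e2]
      abel
  obtain ⟨ψ, hψ⟩ := exists_isom Q hQ a b i₀ ha0 hb0 hK hdim h1
  refine ⟨ψ, u' i₀ - ψ (u i₀), fun i => ?_⟩
  have h3 : ψ (u i) - ψ (u i₀) = u' i - u' i₀ := by
    have := hψ i
    simp only [a, b] at this
    rwa [map_sub] at this
  calc ψ (u i) + (u' i₀ - ψ (u i₀)) = (ψ (u i) - ψ (u i₀)) + u' i₀ := by abel
    _ = (u' i - u' i₀) + u' i₀ := by rw [h3]
    _ = u' i := by abel

end Cfsg.Agent.S5754
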