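import Cfsg.Statements.S5763
import Cfsg.Agent.Lib_helper28_S8Key

set_option autoImplicit false
open Cfsg

namespace Cfsg.Agent.S5763

open Cfsg.Agent.helper28.S8

abbrev P8 := Equiv.Perm (Fin 8)

theorem pres_comp {c : Fin 8 → Fin 4} {σ τ : Fin 8 → Fin 8} (hσ : Pres c σ) (hτ : Pres c τ) :
    Pres c (σ ∘ τ) :=
  ⟨fun i j h => hσ.1 _ _ (hτ.1 i j h), fun i j h => hσ.2 _ _ (hτ.2 i j h)⟩

theorem pres_id (c : Fin 8 → Fin 4) : Pres c id := ⟨fun _ _ h => h, fun _ _ h => h⟩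

theorem pres_mul {c : Fin 8 → Fin 4} {a b : P8} (ha : Pres c a) (hb : Pres c b) :
    Pres c ⇑(a * b) := by
  rw [Equiv.Perm.coe_mul]
  exact pres_comp ha hb

theorem pres_pow {c : Fin 8 → Fin 4} {σ : P8} (hσ : Pres c σ) (n : ℕ) : Pres c ⇑(σ ^ n) := by
  induction n with
  | zero => simpa using pres_id c
  | succ n ih =>
    rw [pow_succ]
    exact pres_mul ih hσ

theorem pres_inv {c : Fin 8 → Fin 4} {σ : P8} (hσ : Pres c σ) : Pres c ⇑(σ⁻¹) := by
  have h1 : σ⁻¹ = σ ^ (orderOf σ - 1) := by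
    apply inv_eq_of_mul_eq_one_right
    rw [← pow_succ', Nat.sub_add_cancel (orderOf_pos σ), pow_orderOf_eq_one]
  rw [h1]
  exact pres_pow hσ _

/-- the tree group -/
def H0 : Subgroup P8 where
  carrier := {σ | Pres lab σ}
  one_mem' := pres_id lab
  mul_mem' := fun ha hb => pres_mul ha hb
  inv_mem' := fun ha => pres_inv ha

theorem mem_H0 {σ : P8} : σ ∈ H0 ↔ Pres lab σ := Iff.rfl

/-- generic squaring lemma -/
theorem sq_lemma {α β γ : Type*} (σ : α → α) (r : α → β) (s : α → γ)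
    (hr : ∀ x y, r x = r y → r (σ x) = r (σ y)) (hr' : ∀ x y, r (σ x) = r (σ y) → r x = r y)
    (hs : ∀ x, s (σ x) = s x)
    (h3 : ∀ x y z, s x = s y → s y = s z → r x = r y ∨ r y = r z ∨ r x = r z) (x : α) :
    r (σ (σ x)) = r x := by
  rcases h3 x (σ x) (σ (σ x)) (hs x).symm (hs (σ x)).symm with h | h | h
  · exact (hr _ _ h).symm.trans h.symm
  · have := hr' _ _ h
    exact (hr _ _ this).symm.trans this.symm
  · exact h.symm

theorem pres_reflect {c : Fin 8 → Fin 4} {σ : P8} (hσ : Pres c σ) :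
    (∀ i j, c (σ i) = c (σ j) → c i = c j) ∧
    (∀ i j, (c (σ i)).val / 2 = (c (σ j)).val / 2 → (c i).val / 2 = (c j).val / 2) := by
  have h := pres_inv hσ
  constructor
  · intro i j hij
    have := h.1 _ _ hij
    simpa using this
  · intro i j hij
    have := h.2 _ _ hij
    simpa using this

theorem pow8 {σ : P8} (hσ : σ ∈ H0) : σ ^ 8 = 1 := by
  have h1 : Pres lab σ := hσ
  -- step 1: σ^2 fixes halves
  have s1 : ∀ x, (lab ((σ ^ 2) x)).val / 2 = (lab x).val / 2 := by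
    intro x
    have := sq_lemma (⇑σ) (fun i => (lab i).val / 2) (fun _ => ()) h1.2 (pres_reflect h1).2
      (fun _ => rfl) (by intro x y z _ _; revert x y z; decide) x
    simpa [pow_two] using this
  -- step 2: σ^4 fixes pairs
  have h2 : Pres lab ⇑(σ ^ 2) := pres_pow h1 2
  have s2 : ∀ x, lab ((σ ^ 4) x) = lab x := by
    intro x
    have := sq_lemma (⇑(σ ^ 2)) lab (fun i => (lab i).val / 2) h2.1 (pres_reflect h2).1
      s1 (by decide) x
    have e : σ ^ 4 = σ ^ 2 * σ ^ 2 := by rw [← pow_add]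
    rw [e]
    simpa using this
  -- step 3: σ^8 fixes points
  have s3 : ∀ x, (σ ^ 8) x = x := by
    intro x
    have := sq_lemma (⇑(σ ^ 4)) id lab (fun x y h => by simpa using h)
      (fun x y h => by simpa using h) s2 (by decide) x
    have e : σ ^ 8 = σ ^ 4 * σ ^ 4 := by rw [← pow_add]
    rw [e]
    simpa using this
  exact Equiv.ext s3

theorem H0_pgroup : IsPGroup 2 H0 := by
  intro g
  refine ⟨3, ?_⟩
  apply Subtype.ext
  have := pow8 g.2
  simpa using this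

def D4list : List (Fin 4 → Fin 4) :=
  [![0,1,2,3], ![1,0,2,3], ![0,1,3,2], ![1,0,3,2], ![2,3,0,1], ![3,2,0,1], ![2,3,1,0], ![3,2,1,0]]

theorem d4_specB : D4list.all (fun β => decide ((∀ a b, β a = β b → a = b) ∧
    (∀ a b : Fin 4, a.val / 2 = b.val / 2 ↔ (β a).val / 2 = (β b).val / 2) ∧
    (∀ v, (Finset.univ.filter (fun j => β (lab j) = v)).card ≤ 2))) = true := by
  decide +kernel

theorem d4_spec : ∀ β ∈ D4list, (∀ a b, β a = β b → a = b) ∧
    (∀ a b : Fin 4, a.val / 2 = b.val / 2 ↔ (β a).val / 2 = (β b).val / 2) ∧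
    (∀ v, (Finset.univ.filter (fun j => β (lab j) = v)).card ≤ 2) := by
  intro β hβ
  exact of_decide_eq_true (List.all_eq_true.mp d4_specB β hβ)

theorem d4_exists : ∀ a b : Fin 4, a ≠ b → ∃ β ∈ D4list, β a = 0 ∧ (β b = 1 ∨ β b = 2) := by
  decide

theorem count_eq (f : Fin 8 → Fin 4) (v : Fin 4) :
    List.count v [f 0, f 1, f 2, f 3, f 4, f 5, f 6, f 7]
      = (Finset.univ.filter (fun i => f i = v)).card := by
  simp only [List.count_cons, List.count_nil, Finset.card_filter, Fin.sum_univ_eight, beq_iff_eq]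
  ring

theorem pres_swap {c : Fin 8 → Fin 4} {a b : Fin 8} (hab : c a = c b) :
    Pres c ⇑(Equiv.swap a b) := by
  have h : ∀ i, c (Equiv.swap a b i) = c i := by
    intro i
    rw [Equiv.swap_apply_def]
    split_ifs with h1 h2
    · rw [h1, hab]
    · rw [h2, hab]
    · rfl
  constructor
  · intro i j hij; rw [h, h]; exact hij
  · intro i j hij; rw [h, h]; exact hij

theorem caseA (c : Fin 8 → Fin 4) (a b : Fin 8) (hne : a ≠ b)
    (hlab : Pres lab ⇑(Equiv.swap a b)) (hab : c a = c b) :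
    ∃ h : P8, h ≠ 1 ∧ Pres lab h ∧ Pres c h :=
  ⟨Equiv.swap a b, by rw [Ne, Equiv.swap_eq_one_iff]; exact hne, hlab, pres_swap hab⟩

theorem caseB (y : P8) (h01 : lab (y 0) ≠ lab (y 1)) (h23 : lab (y 2) ≠ lab (y 3))
    (h45 : lab (y 4) ≠ lab (y 5)) (h67 : lab (y 6) ≠ lab (y 7)) :
    ∃ h : P8, h ≠ 1 ∧ Pres lab h ∧ Pres (fun i => lab (y i)) h := by
  obtain ⟨β, hβ, hβ0, hβ1⟩ := d4_exists _ _ h01
  obtain ⟨hinj, hhalf, hcard⟩ := d4_spec β hβ
  set c' : Fin 8 → Fin 4 := fun i => β (lab (y i)) with hc'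
  have hNT : NoTrip [c' 0, c' 1, c' 2, c' 3, c' 4, c' 5, c' 6, c' 7] := by
    intro v
    rw [count_eq]
    calc (Finset.univ.filter (fun i => c' i = v)).card
        ≤ (Finset.univ.filter (fun j => β (lab j) = v)).card := by
          apply Finset.card_le_card_of_injOn (fun i => y i)
          · intro i hi
            simpa [hc'] using hi
          · exact fun _ _ _ _ h => y.injective h
      _ ≤ 2 := hcard v
  have hc0 : c' 0 = 0 := hβ0
  rw [hc0] at hNT
  obtain ⟨h, hh, hP⟩ := key (c' 1) hβ1 (c' 2) (c' 3) (fun e => h23 (hinj _ _ e))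
    (c' 4) (c' 5) (fun e => h45 (hinj _ _ e)) (c' 6) (c' 7) (fun e => h67 (hinj _ _ e)) hNT
  have hceq : ![0, c' 1, c' 2, c' 3, c' 4, c' 5, c' 6, c' 7] = c' := by
    funext i
    fin_cases i
    · exact hc0.symm
    all_goals rfl
  rw [hceq] at hP
  obtain ⟨hinv, hlab, h0⟩ := cand_spec h hh
  refine ⟨Function.Involutive.toPerm h hinv, ?_, hlab, ?_⟩
  · intro h1
    apply h0
    have := congrArg (fun σ : P8 => σ 0) h1
    exact this
  · constructor
    · intro i j hij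
      have := hP.1 i j (congrArg β hij)
      exact hinj _ _ this
    · intro i j hij
      have := hP.2 i j ((hhalf _ _).mp hij)
      exact (hhalf _ _).mpr this

theorem exists_common (y : P8) :
    ∃ h : P8, h ≠ 1 ∧ Pres lab h ∧ Pres (fun i => lab (y i)) h := by
  by_cases h01 : lab (y 0) = lab (y 1)
  · exact caseA _ 0 1 (by decide) (by decide) h01
  by_cases h23 : lab (y 2) = lab (y 3)
  · exact caseA _ 2 3 (by decide) (by decide) h23
  by_cases h45 : lab (y 4) = lab (y 5)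
  · exact caseA _ 4 5 (by decide) (by decide) h45
  by_cases h67 : lab (y 6) = lab (y 7)
  · exact caseA _ 6 7 (by decide) (by decide) h67
  exact caseB y h01 h23 h45 h67

/-- In the symmetric group on 8 letters any two Sylow 2-subgroups have non-trivial intersection: for a Sylow 2-subgroup H and every element x, H ∩ xHx⁻¹ ≠ 1. -/
theorem result (H : Sylow 2 (Equiv.Perm (Fin 8))) (x : Equiv.Perm (Fin 8)) :
    (H : Subgroup (Equiv.Perm (Fin 8))) ⊓ (H : Subgroup (Equiv.Perm (Fin 8))).map (MulAut.conj x).toMonoidHom ≠ ⊥ := by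
  have : Fact (Nat.Prime 2) := ⟨Nat.prime_two⟩
  obtain ⟨Q, hQ⟩ := H0_pgroup.exists_le_sylow
  obtain ⟨g, hg⟩ := MulAction.exists_smul_eq (Equiv.Perm (Fin 8)) Q H
  have hsub : ∀ a ∈ H0, g * a * g⁻¹ ∈ (H : Subgroup (Equiv.Perm (Fin 8))) := by
    intro a ha
    rw [← hg, Sylow.coe_subgroup_smul]
    have := Subgroup.smul_mem_pointwise_smul a (MulAut.conj g) (Q : Subgroup (Equiv.Perm (Fin 8))) (hQ ha)
    simpa [MulAut.smul_def] using this
  obtain ⟨h, h1, hlab, hc⟩ := exists_common (g⁻¹ * x⁻¹ * g)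
  have hmem2 : (g⁻¹ * x⁻¹ * g) * h * (g⁻¹ * x⁻¹ * g)⁻¹ ∈ H0 := by
    rw [mem_H0]
    constructor
    · intro i j hij
      have := hc.1 ((g⁻¹ * x⁻¹ * g)⁻¹ i) ((g⁻¹ * x⁻¹ * g)⁻¹ j) (by simpa using hij)
      simpa using this
    · intro i j hij
      have := hc.2 ((g⁻¹ * x⁻¹ * g)⁻¹ i) ((g⁻¹ * x⁻¹ * g)⁻¹ j) (by simpa using hij)
      simpa using this
  have hw1 : g * h * g⁻¹ ∈ (H : Subgroup (Equiv.Perm (Fin 8))) := hsub h hlab
  have hw2 : g * h * g⁻¹ ∈
      (H : Subgroup (Equiv.Perm (Fin 8))).map (MulAut.conj x).toMonoidHom := by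
    refine ⟨g * ((g⁻¹ * x⁻¹ * g) * h * (g⁻¹ * x⁻¹ * g)⁻¹) * g⁻¹, hsub _ hmem2, ?_⟩
    simp only [MulEquiv.coe_toMonoidHom, MulAut.conj_apply]
    group
  intro hbot
  have hw : g * h * g⁻¹ ∈ (H : Subgroup (Equiv.Perm (Fin 8))) ⊓
      (H : Subgroup (Equiv.Perm (Fin 8))).map (MulAut.conj x).toMonoidHom := ⟨hw1, hw2⟩
  rw [hbot, Subgroup.mem_bot] at hw
  apply h1
  have : h = g⁻¹ * (g * h * g⁻¹) * g := by group
  rw [this, hw]
  group

end Cfsg.Agent.S5763
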