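import Cfsg.Statements.S5885
-- import your own Cfsg.Agent.* helpers here

set_option autoImplicit false
open Cfsg

namespace Cfsg.Agent.S5885

open scoped Pointwise

theorem coatom_elim {G : Type*} [Group G] {H M : Subgroup G} (hHM : H ≤ M)
    (h : IsCoatom (H.subgroupOf M)) (T : Subgroup G) (hHT : H ≤ T) (hTM : T ≤ M) :
    T = H ∨ T = M := by
  have hle : H.subgroupOf M ≤ T.subgroupOf M := Subgroup.subgroupOf_mono M hHT
  rcases h.le_iff.mp hle with h1 | h1
  · right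
    rw [Subgroup.subgroupOf_eq_top] at h1
    exact le_antisymm hTM h1
  · left
    rw [Subgroup.subgroupOf_inj, inf_eq_left.mpr hTM, inf_eq_left.mpr hHM] at h1
    exact h1

theorem coatom_intro {G : Type*} [Group G] {H K : Subgroup G} (hHK : H ≤ K) (hne : H ≠ K)
    (h : ∀ L : Subgroup G, H ≤ L → L ≤ K → L = H ∨ L = K) : IsCoatom (H.subgroupOf K) := by
  constructor
  · intro htop
    rw [Subgroup.subgroupOf_eq_top] at htop
    exact hne (le_antisymm hHK htop)
  · intro L' hlt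
    have hmapH : (H.subgroupOf K).map K.subtype = H := Subgroup.map_subgroupOf_eq_of_le hHK
    have h1 : H ≤ L'.map K.subtype := by
      rw [← hmapH]; exact Subgroup.map_mono hlt.le
    have h2 : L'.map K.subtype ≤ K := Subgroup.map_subtype_le L'
    have hcm : (L'.map K.subtype).subgroupOf K = L' :=
      Subgroup.comap_map_eq_self_of_injective K.subtype_injective L'
    rcases h _ h1 h2 with h3 | h3
    · exfalso
      rw [h3] at hcm
      exact hlt.ne hcm
    · rw [h3, Subgroup.subgroupOf_self] at hcm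
      exact hcm.symm

theorem exists_three_cycle {G : Type*} [Group G] [Finite G] (n : ℕ)
    (hA : ∀ P : Subgroup (Equiv.Perm (Fin n)), MulAction.IsPreprimitive P (Fin n) →
      alternatingGroup (Fin n) ≤ P)
    (M : Subgroup G) (hM : IsCoatom M) (hn : M.index = n)
    (a b c : G ⧸ M) (hab : a ≠ b) (hac : a ≠ c) (hbc : b ≠ c) :
    ∃ g : G, g • a = b ∧ g • b = c ∧ ∀ y : G ⧸ M, y ≠ a → y ≠ b → y ≠ c → g • y = y := by
  classical
  have hnt : Nontrivial (G ⧸ M) := ⟨a, b, hab⟩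
  have hprim : MulAction.IsPreprimitive G (G ⧸ M) := by
    rw [← MulAction.isCoatom_stabilizer_iff_preprimitive G ((1 : G) : G ⧸ M),
      MulAction.stabilizer_quotient]
    exact hM
  have hcard : Nat.card (G ⧸ M) = n := hn
  let ε : G ⧸ M ≃ Fin n := Finite.equivFinOfCardEq hcard
  let ρ : G →* Equiv.Perm (Fin n) :=
    (ε.permCongrHom.toMonoidHom).comp (MulAction.toPermHom G (G ⧸ M))
  have hρ : ∀ (g : G) (i : Fin n), ρ g i = ε (g • ε.symm i) := fun g i => rfl
  let φ : G → ρ.range := fun g => ⟨ρ g, ⟨g, rfl⟩⟩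
  let f : (G ⧸ M) →ₑ[φ] Fin n :=
    { toFun := ε
      map_smul' := by
        intro g x
        change ε (g • x) = ρ g (ε x)
        rw [hρ, Equiv.symm_apply_apply] }
  have hP : MulAction.IsPreprimitive ρ.range (Fin n) :=
    MulAction.IsPreprimitive.of_surjective (f := f) ε.surjective
  have hAP := hA ρ.range hP
  have hεab : ε a ≠ ε b := fun h => hab (ε.injective h)
  have hεac : ε a ≠ ε c := fun h => hac (ε.injective h)
  have hεbc : ε b ≠ ε c := fun h => hbc (ε.injective h)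
  set σ : Equiv.Perm (Fin n) := Equiv.swap (ε a) (ε c) * Equiv.swap (ε a) (ε b) with hσdef
  have hσ : σ ∈ alternatingGroup (Fin n) := by
    rw [Equiv.Perm.mem_alternatingGroup, hσdef, map_mul, Equiv.Perm.sign_swap hεac,
      Equiv.Perm.sign_swap hεab]
    rfl
  obtain ⟨g, hg⟩ := hAP hσ
  have hgy : ∀ y : G ⧸ M, g • y = ε.symm (σ (ε y)) := by
    intro y
    rw [← hg, hρ, Equiv.symm_apply_apply, Equiv.symm_apply_apply]
  refine ⟨g, ?_, ?_, ?_⟩
  · rw [hgy, hσdef, Equiv.Perm.mul_apply, Equiv.swap_apply_left,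
      Equiv.swap_apply_of_ne_of_ne hεab.symm hεbc, Equiv.symm_apply_apply]
  · rw [hgy, hσdef, Equiv.Perm.mul_apply, Equiv.swap_apply_right, Equiv.swap_apply_left,
      Equiv.symm_apply_apply]
  · intro y hya hyb hyc
    have h1 : ε y ≠ ε a := fun h => hya (ε.injective h)
    have h2 : ε y ≠ ε b := fun h => hyb (ε.injective h)
    have h3 : ε y ≠ ε c := fun h => hyc (ε.injective h)
    rw [hgy, hσdef, Equiv.Perm.mul_apply, Equiv.swap_apply_of_ne_of_ne h1 h2,
      Equiv.swap_apply_of_ne_of_ne h1 h3, Equiv.symm_apply_apply]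

/-- Let n be an odd positive integer such that every primitive permutation group of degree n contains the alternating group (so the symmetric and alternating groups are the only primitive groups of degree n). Let G be a finite group, M a maximal subgroup of G of index n, and H a maximal subgroup of M. Then H is a second maximal subgroup of G: H is maximal in every maximal subgroup K of G containing H. -/
theorem result {G : Type*} [Group G]
    [Finite G] (n : ℕ) (hodd : Odd n)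
    (hA : ∀ P : Subgroup (Equiv.Perm (Fin n)), MulAction.IsPreprimitive P (Fin n) → alternatingGroup (Fin n) ≤ P)
    (M : Subgroup G) (hM : IsCoatom M) (hn : M.index = n) (H : Subgroup G) (hHM : H ≤ M)
    (hmax : IsCoatom (H.subgroupOf M)) (K : Subgroup G) (hK : IsCoatom K) (hHK : H ≤ K) :
    IsCoatom (H.subgroupOf K) := by
  classical
  by_cases hKM : K = M
  · subst hKM; exact hmax
  have hKMH : K ⊓ M = H := by
    rcases coatom_elim hHM hmax (K ⊓ M) (le_inf hHK hHM) inf_le_right with h1 | h1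
    · exact h1
    · exfalso
      have hMK : M ≤ K := by rw [← h1]; exact inf_le_left
      exact hKM ((hM.le_iff_eq hK.1).mp hMK)
  have hHneK : H ≠ K := by
    intro h
    have hKM' : K ≤ M := by rw [← h]; exact hHM
    exact hKM ((hK.le_iff_eq hM.1).mp hKM').symm
  apply coatom_intro hHK hHneK
  intro L hHL hLK
  by_contra hcon
  push Not at hcon
  obtain ⟨l, hlL, hlH⟩ := SetLike.exists_of_lt (lt_of_le_of_ne hHL (Ne.symm hcon.1))
  obtain ⟨k, hkK, hkL⟩ := SetLike.exists_of_lt (lt_of_le_of_ne hLK hcon.2)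
  set x₀ : G ⧸ M := ((1 : G) : G ⧸ M) with hx₀
  have hstab : ∀ g : G, g • x₀ = x₀ ↔ g ∈ M := by
    intro g
    rw [← MulAction.mem_stabilizer_iff, MulAction.stabilizer_quotient]
  set B : Set (G ⧸ M) := {x | ∃ l ∈ L, l • x₀ = x} with hB
  have hx₀B : x₀ ∈ B := ⟨1, L.one_mem, one_smul _ _⟩
  have hBL : ∀ g ∈ L, ∀ x ∈ B, g • x ∈ B := by
    rintro g hg x ⟨l', hl', rfl⟩
    exact ⟨g * l', L.mul_mem hg hl', mul_smul _ _ _⟩
  have hBK : ∀ g ∈ K, ∀ x ∈ B, g • x ∈ B → g ∈ L := by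
    rintro g hg x ⟨l₁, hl₁, rfl⟩ ⟨l₂, hl₂, h⟩
    have h1 : (l₂⁻¹ * g * l₁) • x₀ = x₀ := by
      rw [mul_smul, mul_smul, ← h, inv_smul_smul]
    have h2 : l₂⁻¹ * g * l₁ ∈ M := (hstab _).mp h1
    have h3 : l₂⁻¹ * g * l₁ ∈ K :=
      K.mul_mem (K.mul_mem (K.inv_mem (hLK hl₂)) hg) (hLK hl₁)
    have h4 : l₂⁻¹ * g * l₁ ∈ L := hHL (hKMH ▸ ⟨h3, h2⟩)
    have h5 : g = l₂ * (l₂⁻¹ * g * l₁) * l₁⁻¹ := by group
    rw [h5]
    exact L.mul_mem (L.mul_mem hl₂ h4) (L.inv_mem hl₁)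
  -- the points
  set β : G ⧸ M := l • x₀ with hβ
  have hβB : β ∈ B := ⟨l, hlL, rfl⟩
  have hβx₀ : β ≠ x₀ := by
    intro h
    have : l ∈ M := (hstab l).mp h
    exact hlH (hKMH ▸ ⟨hLK hlL, this⟩)
  set γ : G ⧸ M := k • x₀ with hγ
  set δ : G ⧸ M := k • β with hδ
  have hγB : γ ∉ B := fun h => hkL (hBK k hkK x₀ hx₀B h)
  have hδB : δ ∉ B := fun h => hkL (hBK k hkK β hβB h)
  have hγδ : γ ≠ δ := by
    intro h
    exact hβx₀ ((MulAction.injective k h).symm)
  -- a point outside B and k • B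
  obtain ⟨ε, hεB, hεkB⟩ : ∃ ε : G ⧸ M, ε ∉ B ∧ ε ∉ k • B := by
    by_contra hno
    push Not at hno
    have hdisj : Disjoint B (k • B) := by
      rw [Set.disjoint_left]
      rintro x hx ⟨x', hx', rfl⟩
      exact hkL (hBK k hkK x' hx' hx)
    have hunion : B ∪ k • B = Set.univ := by
      rw [Set.eq_univ_iff_forall]
      intro y
      by_cases hy : y ∈ B
      · exact Or.inl hy
      · exact Or.inr (hno y hy)
    have h1 : (B ∪ k • B).ncard = B.ncard + (k • B).ncard :=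
      Set.ncard_union_eq hdisj (Set.toFinite _) (Set.toFinite _)
    rw [hunion, Set.ncard_univ, Set.ncard_smul_set] at h1
    have h2 : Nat.card (G ⧸ M) = n := hn
    rw [h2] at h1
    rw [h1] at hodd
    exact (Nat.not_even_iff_odd.mpr hodd) ⟨B.ncard, rfl⟩
  have hx₀γ : x₀ ≠ γ := fun h => hγB (h ▸ hx₀B)
  have hx₀δ : x₀ ≠ δ := fun h => hδB (h ▸ hx₀B)
  have hβγ : β ≠ γ := fun h => hγB (h ▸ hβB)
  have hβδ : β ≠ δ := fun h => hδB (h ▸ hβB)
  have hγkB : γ ∈ k • B := Set.smul_mem_smul_set hx₀B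
  have hδkB : δ ∈ k • B := Set.smul_mem_smul_set hβB
  have hγε : γ ≠ ε := fun h => hεkB (h ▸ hγkB)
  have hδε : δ ≠ ε := fun h => hεkB (h ▸ hδkB)
  obtain ⟨g₁, hg₁a, -, hg₁fix⟩ := exists_three_cycle n hA M hM hn β γ δ hβγ hβδ hγδ
  obtain ⟨g₂, hg₂a, hg₂b, hg₂fix⟩ := exists_three_cycle n hA M hM hn γ δ ε hγδ hγε hδε
  have hg₁M : g₁ ∈ M := (hstab g₁).mp (hg₁fix x₀ hβx₀.symm hx₀γ hx₀δ)
  have hg₂B : ∀ x ∈ B, g₂ • x = x := by
    intro x hx
    exact hg₂fix x (fun h => hγB (h ▸ hx)) (fun h => hδB (h ▸ hx)) (fun h => hεB (h ▸ hx))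
  have hg₂M : g₂ ∈ M := (hstab g₂).mp (hg₂B x₀ hx₀B)
  -- the intermediate subgroup
  set T : Subgroup G := MulAction.stabilizer G B ⊓ M with hT
  have hHT : H ≤ T := by
    intro h hh
    refine Subgroup.mem_inf.mpr ⟨?_, hHM hh⟩
    rw [MulAction.mem_stabilizer_set]
    intro x
    constructor
    · intro hx
      have := hBL h⁻¹ (L.inv_mem (hHL hh)) _ hx
      rwa [inv_smul_smul] at this
    · exact hBL h (hHL hh) x
  rcases coatom_elim hHM hmax T hHT inf_le_right with h1 | h1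
  · -- g₂ ∈ T = H ≤ K, contradiction
    have hg₂T : g₂ ∈ T := by
      refine Subgroup.mem_inf.mpr ⟨?_, hg₂M⟩
      rw [MulAction.mem_stabilizer_set_iff_smul_set_subset (Set.toFinite B)]
      rintro x ⟨x', hx', rfl⟩
      change g₂ • x' ∈ B
      rw [hg₂B x' hx']; exact hx'
    have hg₂K : g₂ ∈ K := hHK (h1 ▸ hg₂T)
    have h2 : k⁻¹ * g₂ * k ∈ K := K.mul_mem (K.mul_mem (K.inv_mem hkK) hg₂K) hkK
    have h3 : (k⁻¹ * g₂ * k) • x₀ = β := by
      rw [mul_smul, mul_smul, ← hγ, hg₂a, hδ, inv_smul_smul]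
    have h4 : k⁻¹ * g₂ * k ∈ L := hBK _ h2 x₀ hx₀B (h3 ▸ hβB)
    have h5 : (k⁻¹ * g₂ * k) • β ∈ B := hBL _ h4 β hβB
    rw [mul_smul, mul_smul, ← hδ, hg₂b] at h5
    apply hεkB
    refine ⟨k⁻¹ • ε, h5, ?_⟩
    simp
  · -- g₁ ∈ M = T, contradiction
    have hg₁T : g₁ ∈ T := h1 ▸ hg₁M
    have h2 := (MulAction.mem_stabilizer_set.mp (Subgroup.mem_inf.mp hg₁T).1 β).mpr hβB
    rw [hg₁a] at h2
    exact hγB h2

end Cfsg.Agent.S5885
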