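import Cfsg.Statements.S5887
import Cfsg.Agent.Lib_helper13_ExtF4

set_option autoImplicit false
open Cfsg

namespace Cfsg.Agent.S5887




/-- Let F be a finite field, n a positive integer and r a composite number (r > 1, not prime) that divides n with r < n. Let K be a subalgebra of the algebra of n × n matrices over F which is a field of degree r over F (commutative, every non-zero element invertible, of dimension r over F). Then the normaliser N of K in GL_n(F) (a group of type ΓL_{n/r}(F_{q^r})) is not a maximal subgroup of GL_n(F), and N ∩ SL_n(F) is not a maximal subgroup of SL_n(F): both lie properly inside the normaliser of an intermediate subfield of prime degree over F. -/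
theorem result {F : Type*} [Field F]
    [Fintype F] (n r : ℕ) (hr1 : 1 < r) (hrp : ¬ r.Prime) (hrn : r ∣ n) (hlt : r < n)
    (K : Subalgebra F (Matrix (Fin n) (Fin n) F)) (hK : Cfsg.Geo.IsFieldSubalgebra r K) :
    ¬ IsCoatom (Cfsg.Geo.subalgebraNormalizer K) ∧
      ¬ Cfsg.Geo.IsMaximalIn (Cfsg.Geo.specialLinear (Fin n) F)
        (Cfsg.Geo.subalgebraNormalizer K ⊓ Cfsg.Geo.specialLinear (Fin n) F) := by
  classical
  have hn0 : 0 < n := by omega
  haveI : Nonempty (Fin n) := ⟨⟨0, hn0⟩⟩
  have hfield : IsField ↥K :=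
    { exists_pair_ne := ⟨0, 1, fun h => by
        have h1 := congrArg Subtype.val h
        exact zero_ne_one h1⟩
      mul_comm := fun x y => Subtype.ext (hK.comm x.1 x.2 y.1 y.2)
      mul_inv_cancel := fun {x} hx => by
        obtain ⟨y, hy, hxy⟩ := hK.inv x.1 x.2 (fun h => hx (Subtype.ext h))
        exact ⟨⟨y, hy⟩, Subtype.ext hxy⟩ }
  letI : Field ↥K := hfield.toField
  haveI : Fintype ↥K := Fintype.ofFinite _
  obtain ⟨s, hsp, hsr⟩ := Nat.exists_prime_and_dvd (by omega : r ≠ 1)
  have hs1 : 1 < s := hsp.one_lt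
  have hslt : s < r := lt_of_le_of_ne (Nat.le_of_dvd (by omega) hsr) (fun h => hrp (h ▸ hsp))
  have hrange : K.val.range = K := Subalgebra.range_val K
  have hfin : Module.finrank F ↥K = r := hK.finrank_eq
  obtain ⟨g, hgsl, hgK0, hgK⟩ := Cfsg.Agent.helper13.exists_unipotent K.val hfin (by omega) hslt hlt
  obtain ⟨x₀, hx₀, hns⟩ := Cfsg.Agent.helper13.exists_fixed_nonscalar (F := F) (L := ↥K) hfin hsr hs1
  obtain ⟨T, hTsl, hTK0⟩ := Cfsg.Agent.helper13.exists_transvection_not_mem K.val (by omega) s x₀ hx₀ hns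
  have hle := Cfsg.Agent.helper13.normalizer_le_K0 K.val hn0 s
  rw [hrange] at hgK hle
  constructor
  · intro hco
    have hlt' : Cfsg.Geo.subalgebraNormalizer K <
        Cfsg.Geo.subalgebraNormalizer (Cfsg.Agent.helper13.K0 K.val s) :=
      lt_of_le_of_ne hle (fun h => hgK (h ▸ hgK0))
    have h1 := hco.2 _ hlt'
    exact hTK0 (h1 ▸ Subgroup.mem_top T)
  · intro hmax
    rcases hmax.2 (Cfsg.Geo.subalgebraNormalizer (Cfsg.Agent.helper13.K0 K.val s) ⊓
        Cfsg.Geo.specialLinear (Fin n) F) (inf_le_inf_right _ hle) inf_le_right with h | h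
    · have h1 : g ∈ Cfsg.Geo.subalgebraNormalizer (Cfsg.Agent.helper13.K0 K.val s) ⊓
          Cfsg.Geo.specialLinear (Fin n) F := ⟨hgK0, hgsl⟩
      rw [h] at h1
      exact hgK h1.1
    · have h1 : T ∈ Cfsg.Geo.specialLinear (Fin n) F := hTsl
      rw [← h] at h1
      exact hTK0 h1.1

end Cfsg.Agent.S5887
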