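import Cfsg.Statements.S5890
-- import your own Cfsg.Agent.* helpers here
import Mathlib
import Cfsg.Agent.Lib_helper4_MzD

set_option autoImplicit false
open Cfsg

set_option maxHeartbeats 6400000
namespace Cfsg.Agent.S5890

open Matrix
open scoped LinearAlgebra.Projectivization MatrixGroups
open Cfsg.Agent.helper4.Dk Cfsg.Agent.helper4.Dn Cfsg.Agent.helper4.Mx Cfsg.Agent.helper4.My
open Cfsg.Agent.helper4.Mz


/-- Let F be a finite field with q ≥ 4 elements, let L ≤ PGL₂(F) be the image of SL₂(F) (a copy of PSL₂(F), of index gcd(2, q − 1)), and let M be a maximal subgroup of PGL₂(F) that does not contain L. Suppose q ∉ {7, 9, 11} and that q is not a prime congruent to ±11 or ±19 modulo 40. Then M ∩ L is a maximal subgroup of L. (For the excluded q there are maximal subgroups of PGL₂(q) — dihedral groups of order 12 and 16 at q = 7, of order 20 and 16 at q = 9, of order 20 at q = 11, and S₄ at the excluded primes — whose intersection with L is not maximal in L.) -/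
theorem result {F : Type*} [Field F]
    [Fintype F] (h4 : 4 ≤ Fintype.card F) (h7 : Fintype.card F ≠ 7) (h9 : Fintype.card F ≠ 9) (h11 : Fintype.card F ≠ 11)
    (h40 : (Fintype.card F).Prime → Fintype.card F % 40 ∉ ({11, 19, 21, 29} : Finset ℕ))
    (M : Subgroup (Matrix.ProjGenLinGroup (Fin 2) F)) (hM : IsCoatom M)
    (hML : ¬ (Matrix.ProjGenLinGroup.mk.comp Matrix.SpecialLinearGroup.toGL).range ≤ M) :
    IsCoatom ((M ⊓ (Matrix.ProjGenLinGroup.mk.comp Matrix.SpecialLinearGroup.toGL).range).subgroupOf
      (Matrix.ProjGenLinGroup.mk.comp Matrix.SpecialLinearGroup.toGL).range) := by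
  classical
  obtain ⟨p, hpF⟩ := CharP.exists F
  haveI := hpF
  have hpp : p.Prime := CharP.char_is_prime F p
  haveI : Fact p.Prime := ⟨hpp⟩
  obtain ⟨n, -, hn⟩ := FiniteField.card F p
  have hML0 := hML
  rw [range_eq_tau] at hML ⊢
  have hMne : M ⊓ (tauF F).range ≠ (tauF F).range := by
    intro h
    apply hML
    rw [← h]
    exact inf_le_left
  by_cases h2 : (2 : F) = 0
  · -- characteristic two: the range is everything
    have htop : (tauF F).range = ⊤ := by
      have h1 := card_comap_piF_gen (L := F)
        (⊤ : Subgroup (Matrix.ProjectiveSpecialLinearGroup (Fin 2) F))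
      rw [Subgroup.comap_top, Subgroup.card_top, Subgroup.card_top,
        Cfsg.Agent.helper12.card_SL2] at h1
      have hz : zc F = 1 := by
        rcases zc_cases F with ⟨_, hz⟩ | ⟨hz, _⟩
        · exact absurd h2 hz
        · exact hz
      rw [hz, one_mul] at h1
      have h3 : Nat.card (tauF F).range =
          Nat.card (Matrix.ProjectiveSpecialLinearGroup (Fin 2) F) :=
        (Nat.card_congr (MonoidHom.ofInjective tauF_injective).toEquiv).symm
      apply Subgroup.eq_top_of_card_eq
      rw [h3, ← h1, card_PG]
    apply isCoatom_subgroupOf _ _ inf_le_right hMne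
    intro Y hY1 hY2 hY3
    rw [htop, inf_top_eq] at hY1 hY3
    rw [htop]
    exact hM.2 Y (lt_of_le_of_ne hY1 (Ne.symm hY3))
  · -- odd characteristic
    have hpodd : Odd p := by
      apply hpp.odd_of_ne_two
      rintro rfl
      apply h2
      have := CharP.cast_eq_zero F 2
      exact_mod_cast this
    have hodd : Odd (Fintype.card F) := by
      rw [hn]; exact hpodd.pow
    have h5 : 5 ≤ Fintype.card F := by
      obtain ⟨k, hk⟩ := hodd
      omega
    haveI : Finite (Matrix.ProjectiveSpecialLinearGroup (Fin 2) F) :=
      Nat.finite_of_card_ne_zero (by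
        have := two_mul_card_PSL (F := F) h2
        intro h0
        rw [h0] at this
        have h1 : 1 < Fintype.card F ^ 2 := by nlinarith
        have : 0 < Fintype.card F * (Fintype.card F ^ 2 - 1) :=
          Nat.mul_pos (by omega) (by omega)
        omega)
    apply isCoatom_subgroupOf _ _ inf_le_right hMne
    intro Y hY1 hY2 hY3
    by_contra hYL
    obtain ⟨Z, hZ, hYZ⟩ := exists_coatom_map (tauF F) Y hY2 hYL
    refine core p hodd h5 h7 h9 h11 h40 M hM hML0 Z hZ (hY1.trans hYZ) ?_
    intro h
    apply hY3
    apply le_antisymm _ hY1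
    rw [h]; exact hYZ

end Cfsg.Agent.S5890
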