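import Cfsg.Statements.S5905
-- import your own Cfsg.Agent.* helpers here

set_option autoImplicit false
open Cfsg

namespace Cfsg.Agent.S5905

open scoped Pointwise
open MulAction

variable {Ω : Type*} [Fintype Ω] [DecidableEq Ω] {ι : Type*} [DecidableEq ι]

/-- the stabilizer of the partition into fibres of `f` -/
def wr (f : Ω → ι) : Subgroup (Equiv.Perm Ω) where
  carrier := {g | ∀ x y, f x = f y ↔ f (g x) = f (g y)}
  mul_mem' := by
    intro g h hg hh x y
    rw [hh x y, hg (h x) (h y)]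
    rfl
  one_mem' := by
    intro x y
    rfl
  inv_mem' := by
    intro g hg x y
    have := hg (g⁻¹ x) (g⁻¹ y)
    rw [Equiv.Perm.inv_def, Equiv.apply_symm_apply, Equiv.apply_symm_apply] at this
    exact this.symm

theorem mem_wr (f : Ω → ι) (g : Equiv.Perm Ω) :
    g ∈ wr f ↔ ∀ x y, f x = f y ↔ f (g x) = f (g y) := Iff.rfl

theorem closure_eq_wr (f : Ω → ι) :
    Subgroup.closure {g : Equiv.Perm Ω | ∀ x y : Ω, f x = f y ↔ f (g x) = f (g y)} = wr f :=
  Subgroup.closure_eq (wr f)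

theorem swap_mem_wr (f : Ω → ι) {u v : Ω} (h : f u = f v) : Equiv.swap u v ∈ wr f := by
  have key : ∀ z, f (Equiv.swap u v z) = f z := by
    intro z
    rw [Equiv.swap_apply_def]
    split_ifs with h1 h2
    · rw [h1, h]
    · rw [h2, h]
    · rfl
  intro x y
  rw [key, key]

theorem exists_transfer (f : Ω → ι)
    (hcard : ∀ i j : ι, Nonempty ({x : Ω // f x = i} ≃ {x : Ω // f x = j}))
    {u v : Ω} (huv : f u ≠ f v) :
    ∃ w ∈ wr f, w u = v ∧ ∀ z, f z ≠ f u → f z ≠ f v → w z = z := by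
  obtain ⟨e₀⟩ := hcard (f u) (f v)
  set u' : {x : Ω // f x = f u} := ⟨u, rfl⟩ with hu'
  set v' : {x : Ω // f x = f v} := ⟨v, rfl⟩ with hv'
  set e : {x : Ω // f x = f u} ≃ {x : Ω // f x = f v} := e₀.trans (Equiv.swap (e₀ u') v') with he
  have heu : e u' = v' := by simp [he]
  let τ : Ω → Ω := fun z =>
    if h : f z = f u then (e ⟨z, h⟩ : Ω) else if h' : f z = f v then (e.symm ⟨z, h'⟩ : Ω) else z
  have hτ1 : ∀ z (h : f z = f u), τ z = (e ⟨z, h⟩ : Ω) := by
    intro z h; simp only [τ, dif_pos h]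
  have hτ2 : ∀ z (h' : f z = f v), τ z = (e.symm ⟨z, h'⟩ : Ω) := by
    intro z h'
    have h : ¬ f z = f u := fun h => huv (h.symm.trans h')
    simp only [τ, dif_neg h, dif_pos h']
  have hτ3 : ∀ z, f z ≠ f u → f z ≠ f v → τ z = z := by
    intro z h h'; simp only [τ, dif_neg h, dif_neg h']
  have hfτ1 : ∀ z, f z = f u → f (τ z) = f v := by
    intro z h; rw [hτ1 z h]; exact (e ⟨z, h⟩).2
  have hfτ2 : ∀ z, f z = f v → f (τ z) = f u := by
    intro z h; rw [hτ2 z h]; exact (e.symm ⟨z, h⟩).2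
  have hinv : Function.Involutive τ := by
    intro z
    by_cases h : f z = f u
    · have h2 := hfτ1 z h
      rw [hτ2 (τ z) h2]
      have : (⟨τ z, h2⟩ : {x : Ω // f x = f v}) = e ⟨z, h⟩ := Subtype.ext (hτ1 z h)
      rw [this, Equiv.symm_apply_apply]
    · by_cases h' : f z = f v
      · have h2 := hfτ2 z h'
        rw [hτ1 (τ z) h2]
        have : (⟨τ z, h2⟩ : {x : Ω // f x = f u}) = e.symm ⟨z, h'⟩ := Subtype.ext (hτ2 z h')
        rw [this, Equiv.apply_symm_apply]
      · rw [hτ3 z h h', hτ3 z h h']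
  have hfτ : ∀ z, f (τ z) = Equiv.swap (f u) (f v) (f z) := by
    intro z
    by_cases h : f z = f u
    · rw [hfτ1 z h, h, Equiv.swap_apply_left]
    · by_cases h' : f z = f v
      · rw [hfτ2 z h', h', Equiv.swap_apply_right]
      · rw [hτ3 z h h', Equiv.swap_apply_of_ne_of_ne h h']
  refine ⟨hinv.toPerm τ, ?_, ?_, ?_⟩
  · intro x y
    change f x = f y ↔ f (τ x) = f (τ y)
    rw [hfτ, hfτ, Equiv.apply_eq_iff_eq]
  · change τ u = v
    rw [hτ1 u rfl]
    have : (⟨u, rfl⟩ : {x : Ω // f x = f u}) = u' := rfl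
    rw [this, heu]
  · intro z h h'
    exact hτ3 z h h'

theorem block_closed {G : Subgroup (Equiv.Perm Ω)} {B : Set Ω} (hB : IsBlock G B)
    {w : Equiv.Perm Ω} (hw : w ∈ G) {x y : Ω} (hx : x ∈ B) (hwx : w x ∈ B) (hy : y ∈ B) :
    w y ∈ B := by
  have h1 : (⟨w, hw⟩ : G) • B = B := hB.smul_eq_of_mem (g := ⟨w, hw⟩) hx hwx
  have h2 : (⟨w, hw⟩ : G) • y ∈ (⟨w, hw⟩ : G) • B := Set.smul_mem_smul_set hy
  rw [h1] at h2
  exact h2

theorem block_eq_univ (f : Ω → ι)
    (hcard : ∀ i j : ι, Nonempty ({x : Ω // f x = i} ≃ {x : Ω // f x = j}))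
    {G : Subgroup (Equiv.Perm Ω)} (hWG : wr f ≤ G) {B : Set Ω} (hB : IsBlock G B)
    {x u : Ω} (hx : x ∈ B) (hu : u ∈ B) (hxu : f x ≠ f u) : B = Set.univ := by
  have hne : x ≠ u := fun h => hxu (h ▸ rfl)
  have hFx : ∀ y, f y = f x → y ∈ B := by
    intro y hy
    by_cases hyx : y = x
    · rw [hyx]; exact hx
    · have hyu : u ≠ y := fun h => hxu (by rw [← hy, h])
      have h1 : Equiv.swap x y u = u := Equiv.swap_apply_of_ne_of_ne hne.symm hyu
      have := block_closed hB (hWG (swap_mem_wr f hy.symm)) hu (by rw [h1]; exact hu) hx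
      rwa [Equiv.swap_apply_left] at this
  have hFu : ∀ y, f y = f u → y ∈ B := by
    intro y hy
    by_cases hyu : y = u
    · rw [hyu]; exact hu
    · have hyx : x ≠ y := fun h => hxu (by rw [← hy, h])
      have h1 : Equiv.swap u y x = x := Equiv.swap_apply_of_ne_of_ne hne hyx
      have := block_closed hB (hWG (swap_mem_wr f hy.symm)) hx (by rw [h1]; exact hx) hu
      rwa [Equiv.swap_apply_left] at this
  rw [Set.eq_univ_iff_forall]
  intro v
  by_cases h1 : f v = f x
  · exact hFx v h1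
  by_cases h2 : f v = f u
  · exact hFu v h2
  obtain ⟨w, hwW, hwu, hwfix⟩ := exists_transfer f hcard (u := u) (v := v) (Ne.symm h2)
  have hwx : w x = x := hwfix x hxu (Ne.symm h1)
  have := block_closed hB (hWG hwW) hx (by rw [hwx]; exact hx) hu
  rwa [hwu] at this

theorem wr_isCoatom (f : Ω → ι) (ha : ∀ x, ∃ y, y ≠ x ∧ f y = f x)
    (hcard : ∀ i j : ι, Nonempty ({x : Ω // f x = i} ≃ {x : Ω // f x = j}))
    (hb : ∃ x y : Ω, f x ≠ f y) : IsCoatom (wr f) := by
  constructor
  · obtain ⟨x, z, hxz⟩ := hb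
    obtain ⟨y, hyx, hfy⟩ := ha x
    intro htop
    have hmem : Equiv.swap y z ∈ wr f := by rw [htop]; exact Subgroup.mem_top _
    have h1 := (hmem x y).mp hfy.symm
    have hxz' : x ≠ z := fun h => hxz (h ▸ rfl)
    rw [Equiv.swap_apply_of_ne_of_ne hyx.symm hxz', Equiv.swap_apply_left] at h1
    exact hxz h1
  · intro G hG
    obtain ⟨x, _, _⟩ := hb
    obtain ⟨y, hyx, hfy⟩ := ha x
    have hsw : Equiv.swap x y ∈ G := hG.le (swap_mem_wr f hfy.symm)
    apply Equiv.Perm.subgroup_eq_top_of_isPreprimitive_of_isSwap_mem _ (Equiv.swap x y)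
      ⟨x, y, hyx.symm, rfl⟩ hsw
    have htrans : IsPretransitive G Ω := by
      constructor
      intro p q
      by_cases hpq : f p = f q
      · exact ⟨⟨Equiv.swap p q, hG.le (swap_mem_wr f hpq)⟩, Equiv.swap_apply_left p q⟩
      · obtain ⟨w, hwW, hwu, _⟩ := exists_transfer f hcard hpq
        exact ⟨⟨w, hG.le hwW⟩, hwu⟩
    obtain ⟨g, hgG, p, q, hpq, hgpq⟩ : ∃ g ∈ G, ∃ p q, f p = f q ∧ f (g p) ≠ f (g q) := by
      obtain ⟨g, hgG, hgW⟩ := SetLike.exists_of_lt hG
      by_contra hcon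
      push Not at hcon
      apply hgW
      intro x y
      constructor
      · exact hcon g hgG x y
      · intro h
        have := hcon g⁻¹ (G.inv_mem hgG) (g x) (g y) h
        simpa using this
    apply IsPreprimitive.of_isTrivialBlock_base p
    intro B hpB hB
    by_cases hsub : B.Subsingleton
    · left; exact hsub
    right
    obtain ⟨y, hyB, hyp⟩ : ∃ y ∈ B, y ≠ p := by
      by_contra hcon
      push Not at hcon
      apply hsub
      intro s hs t ht
      rw [hcon s hs, hcon t ht]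
    by_cases hfy : f y = f p
    · have hqB : q ∈ B := by
        by_cases hqy : q = y
        · rw [hqy]; exact hyB
        by_cases hqp : q = p
        · rw [hqp]; exact hpB
        have h1 : Equiv.swap y q p = p := Equiv.swap_apply_of_ne_of_ne hyp.symm (Ne.symm hqp)
        have := block_closed hB (hG.le (swap_mem_wr f (hfy.trans hpq))) hpB
          (by rw [h1]; exact hpB) hyB
        rwa [Equiv.swap_apply_left] at this
      have hgB : IsBlock G ((⟨g, hgG⟩ : G) • B) := hB.translate _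
      have h1 : g p ∈ (⟨g, hgG⟩ : G) • B := Set.smul_mem_smul_set (a := (⟨g, hgG⟩ : G)) hpB
      have h2 : g q ∈ (⟨g, hgG⟩ : G) • B := Set.smul_mem_smul_set (a := (⟨g, hgG⟩ : G)) hqB
      have h3 := block_eq_univ f hcard hG.le hgB h1 h2 hgpq
      have h4 : B = (⟨g, hgG⟩ : G)⁻¹ • ((⟨g, hgG⟩ : G) • B) := (inv_smul_smul _ B).symm
      rw [h4, h3, Set.smul_set_univ]
    · exact block_eq_univ f hcard hG.le hB hpB hyB (Ne.symm hfy)

/-- Let Ω be a finite set and f : Ω → Fin b a map onto b ≥ 2 labels whose fibres all have the same size a ≥ 2 (a partition of Ω into b blocks of size a, so |Ω| = ab). Then the stabilizer of this partition in the symmetric group on Ω — the permutations g such that x and y lie in the same block exactly when g x and g y do, a group isomorphic to the imprimitive wreath product S_a ≀ S_b — is a maximal subgroup of the symmetric group. -/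
theorem result {Ω : Type*} [Fintype Ω] [DecidableEq Ω] (a b : ℕ) (ha : 2 ≤ a) (hb : 2 ≤ b)
    (f : Ω → Fin b) (hf : ∀ i : Fin b, Nat.card {x : Ω // f x = i} = a) :
    IsCoatom (Subgroup.closure {g : Equiv.Perm Ω | ∀ x y : Ω, f x = f y ↔ f (g x) = f (g y)}) := by
  classical
  rw [closure_eq_wr]
  have hcardF : ∀ i : Fin b, Fintype.card {x : Ω // f x = i} = a := by
    intro i; rw [← Nat.card_eq_fintype_card]; exact hf i
  apply wr_isCoatom
  · intro x
    have h1 : 1 < Fintype.card {y : Ω // f y = f x} := by rw [hcardF]; omega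
    rw [Fintype.one_lt_card_iff_nontrivial] at h1
    obtain ⟨y, hy⟩ := exists_ne (⟨x, rfl⟩ : {y : Ω // f y = f x})
    exact ⟨y.1, fun h => hy (Subtype.ext h), y.2⟩
  · intro i j
    exact Fintype.card_eq.mp ((hcardF i).trans (hcardF j).symm)
  · have h0 : 0 < Fintype.card {x : Ω // f x = (⟨0, by omega⟩ : Fin b)} := by rw [hcardF]; omega
    have h1 : 0 < Fintype.card {x : Ω // f x = (⟨1, by omega⟩ : Fin b)} := by rw [hcardF]; omega
    obtain ⟨x⟩ := Fintype.card_pos_iff.mp h0
    obtain ⟨y⟩ := Fintype.card_pos_iff.mp h1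
    refine ⟨x.1, y.1, ?_⟩
    rw [x.2, y.2]
    intro h
    simp [Fin.ext_iff] at h

end Cfsg.Agent.S5905
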