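import Cfsg.Statements.S5894
import Cfsg.Agent.S5905
import Cfsg.Agent.S5885

set_option autoImplicit false
open Cfsg
open scoped Pointwise

namespace Cfsg.Agent.S5894

theorem isCoatom_map_subgroupOf_range {G' G : Type*} [Group G'] [Group G] (φ : G' →* G)
    (hφ : Function.Injective φ) (H' : Subgroup G') (h : IsCoatom H') :
    IsCoatom ((H'.map φ).subgroupOf φ.range) := by
  let e : G' ≃* φ.range := MonoidHom.ofInjective hφ
  have key : e.comapSubgroup ((H'.map φ).subgroupOf φ.range) = H' := by
    ext x
    rw [MulEquiv.coe_comapSubgroup, Subgroup.mem_comap, Subgroup.mem_subgroupOf]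
    change φ x ∈ H'.map φ ↔ x ∈ H'
    exact Subgroup.mem_map_iff_mem hφ
  rw [← OrderIso.isCoatom_iff e.comapSubgroup, key]
  exact h

theorem fin_two_eq_of_iff : ∀ i j : Fin 2, (i = 0 ↔ j = 0) → i = j := by decide

/-- For every m ≥ 2 the symmetric group on 2m letters has a maximal subgroup M of index 2m together with a maximal subgroup H of M that is not second maximal: some maximal subgroup K of the symmetric group contains H without H being maximal in K. (One may take M the stabiliser of a letter, H ≅ S_m × S_{m−1} inside it, and K ≅ S_m ≀ S₂ the stabiliser of a partition into two m-sets, with H < S_m × S_m < K.) So the prime-index hypothesis in the second-maximality criterion cannot be relaxed to any even index ≥ 4. -/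
theorem result (m : ℕ) (hm : 2 ≤ m) :
    ∃ M H K : Subgroup (Equiv.Perm (Fin (2 * m))), IsCoatom M ∧ M.index = 2 * m ∧ H ≤ M ∧ IsCoatom (H.subgroupOf M) ∧
      IsCoatom K ∧ H ≤ K ∧ ¬ IsCoatom (H.subgroupOf K) := by
  classical
  let e : Fin (2 * m) ≃ Fin 2 × Fin m := finProdFinEquiv.symm
  let f : Fin (2 * m) → Fin 2 := fun x => (e x).1
  have hfe : ∀ (i : Fin 2) (k : Fin m), f (e.symm (i, k)) = i := by
    intro i k
    simp only [f, Equiv.apply_symm_apply]
  let k0 : Fin m := ⟨0, by omega⟩
  let k1 : Fin m := ⟨1, by omega⟩
  have hk01 : k0 ≠ k1 := by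
    intro h
    have := congrArg Fin.val h
    simp [k0, k1] at this
  let a : Fin (2 * m) := e.symm (0, k0)
  let a' : Fin (2 * m) := e.symm (0, k1)
  let c : Fin (2 * m) := e.symm (1, k0)
  have hfa : f a = 0 := hfe 0 k0
  have hfa' : f a' = 0 := hfe 0 k1
  have hfc : f c = 1 := hfe 1 k0
  have haa' : a' ≠ a := by
    intro h
    have h2 := e.symm.injective h
    exact hk01 (Prod.mk.inj h2).2.symm
  have hca : c ≠ a := by
    intro h
    have : f c = f a := by rw [h]
    rw [hfa, hfc] at this
    exact absurd this (by decide)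
  let φ : Equiv.Perm {x : Fin (2 * m) // x ≠ a} →* Equiv.Perm (Fin (2 * m)) := Equiv.Perm.ofSubtype
  have hφinj : Function.Injective φ := Equiv.Perm.ofSubtype_injective
  let P'' : Set {x : Fin (2 * m) // x ≠ a} := {x | f x.1 = 0}
  let M : Subgroup (Equiv.Perm (Fin (2 * m))) := φ.range
  let H : Subgroup (Equiv.Perm (Fin (2 * m))) :=
    (MulAction.stabilizer (Equiv.Perm {x : Fin (2 * m) // x ≠ a}) P'').map φ
  let K : Subgroup (Equiv.Perm (Fin (2 * m))) := Cfsg.Agent.S5905.wr f
  have hMstab : M = MulAction.stabilizer (Equiv.Perm (Fin (2 * m))) a := by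
    ext g
    rw [MulAction.mem_stabilizer_iff]
    constructor
    · rintro ⟨g', rfl⟩
      exact Equiv.Perm.ofSubtype_apply_of_not_mem g' (by simp)
    · intro hg
      have hg' : g a = a := hg
      refine ⟨g.subtypePerm (fun x => ?_), Equiv.Perm.ofSubtype_subtypePerm _ (fun x hx => ?_)⟩
      · constructor
        · intro h1 h2
          apply h1
          rw [h2]
          exact hg'
        · intro h1 h2
          apply h1
          apply g.injective
          rw [h2, hg']
      · intro h2
        apply hx
        rw [h2]
        exact hg'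
  have hcardΩ : Nat.card (Fin (2 * m)) = 2 * m := by simp
  have hMco : IsCoatom M := by
    rw [hMstab, ← MulAction.stabilizer_singleton]
    apply Equiv.Perm.isCoatom_stabilizer
    · exact Set.singleton_nonempty a
    · exact ⟨c, hca⟩
    · rw [hcardΩ, Set.ncard_singleton]
      omega
  have hMidx : M.index = 2 * m := by
    rw [hMstab, MulAction.index_stabilizer_of_transitive, hcardΩ]
  have hHM : H ≤ M := Subgroup.map_le_range _ _
  have hcardΩ' : Nat.card {x : Fin (2 * m) // x ≠ a} + 1 = 2 * m := by
    rw [Nat.card_eq_fintype_card, Fintype.card_subtype_compl, Fintype.card_subtype_eq,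
      Fintype.card_fin]
    omega
  have hstabco : IsCoatom (MulAction.stabilizer (Equiv.Perm {x : Fin (2 * m) // x ≠ a}) P'') := by
    apply Equiv.Perm.isCoatom_stabilizer
    · exact ⟨⟨a', haa'⟩, hfa'⟩
    · refine ⟨⟨c, hca⟩, ?_⟩
      change ¬ f c = 0
      rw [hfc]
      decide
    · omega
  have hHMco : IsCoatom (H.subgroupOf M) := isCoatom_map_subgroupOf_range φ hφinj _ hstabco
  -- every element of H preserves f
  have hfH : ∀ g ∈ H, ∀ x, f (g x) = f x := by
    rintro g ⟨g', hg', rfl⟩ x
    by_cases hx : x = a
    · rw [hx]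
      have : φ g' a = a := Equiv.Perm.ofSubtype_apply_of_not_mem g' (by simp)
      rw [this]
    · have h1 : φ g' x = g' ⟨x, hx⟩ := Equiv.Perm.ofSubtype_apply_of_mem g' hx
      rw [h1]
      apply fin_two_eq_of_iff
      exact MulAction.mem_stabilizer_set.mp hg' ⟨x, hx⟩
  have hnt : Nontrivial (Fin m) := Fin.nontrivial_iff_two_le.mpr hm
  have hKco : IsCoatom K := by
    apply Cfsg.Agent.S5905.wr_isCoatom
    · intro x
      obtain ⟨k', hk'⟩ := exists_ne (e x).2
      refine ⟨e.symm ((e x).1, k'), ?_, ?_⟩
      · intro h
        have h2 : e (e.symm ((e x).1, k')) = e x := by rw [h]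
        rw [Equiv.apply_symm_apply] at h2
        exact hk' (congrArg Prod.snd h2)
      · exact hfe _ _
    · intro i j
      refine ⟨{ toFun := fun x => ⟨e.symm (j, (e x.1).2), hfe _ _⟩
                invFun := fun y => ⟨e.symm (i, (e y.1).2), hfe _ _⟩
                left_inv := ?_
                right_inv := ?_ }⟩
      · rintro ⟨x, hx⟩
        apply Subtype.ext
        simp only [Equiv.apply_symm_apply]
        have : (i, (e x).2) = e x := by
          rw [← hx]
        rw [this, Equiv.symm_apply_apply]
      · rintro ⟨y, hy⟩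
        apply Subtype.ext
        simp only [Equiv.apply_symm_apply]
        have : (j, (e y).2) = e y := by
          rw [← hy]
        rw [this, Equiv.symm_apply_apply]
    · exact ⟨a, c, by rw [hfa, hfc]; decide⟩
  have hHK : H ≤ K := by
    intro g hg x y
    rw [hfH g hg x, hfH g hg y]
  refine ⟨M, H, K, hMco, hMidx, hHM, hHMco, hKco, hHK, ?_⟩
  intro hco
  -- the intermediate subgroup
  let P : Set (Fin (2 * m)) := {x | f x = 0}
  let L : Subgroup (Equiv.Perm (Fin (2 * m))) := MulAction.stabilizer (Equiv.Perm (Fin (2 * m))) P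
  have hHL : H ≤ L := by
    intro g hg
    rw [MulAction.mem_stabilizer_set]
    intro x
    change f (g x) = 0 ↔ f x = 0
    rw [hfH g hg x]
  have hLK : L ≤ K := by
    intro g hg x y
    have h1 : ∀ z, f (g z) = f z := by
      intro z
      apply fin_two_eq_of_iff
      exact MulAction.mem_stabilizer_set.mp hg z
    rw [h1, h1]
  rcases Cfsg.Agent.S5885.coatom_elim hHK hco L hHL hLK with h1 | h1
  · -- swap a a' ∈ L but not in H
    have hsw : Equiv.swap a a' ∈ L := by
      rw [MulAction.mem_stabilizer_set]
      intro x
      have : f (Equiv.swap a a' x) = f x := by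
        rw [Equiv.swap_apply_def]
        split_ifs with h2 h3
        · rw [h2, hfa', hfa]
        · rw [h3, hfa', hfa]
        · rfl
      change f (Equiv.swap a a' x) = 0 ↔ f x = 0
      rw [this]
    rw [h1] at hsw
    have h2 : Equiv.swap a a' ∈ M := hHM hsw
    rw [hMstab, MulAction.mem_stabilizer_iff] at h2
    have h3 : Equiv.swap a a' a = a' := Equiv.swap_apply_left a a'
    have h4 : Equiv.swap a a' a = a := h2
    rw [h3] at h4
    exact haa' h4
  · -- an element of K moving a to c is not in L
    obtain ⟨w, hwK, hwa, -⟩ := Cfsg.Agent.S5905.exists_transfer f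
      (by
        intro i j
        refine ⟨{ toFun := fun x => ⟨e.symm (j, (e x.1).2), hfe _ _⟩
                  invFun := fun y => ⟨e.symm (i, (e y.1).2), hfe _ _⟩
                  left_inv := ?_
                  right_inv := ?_ }⟩
        · rintro ⟨x, hx⟩
          apply Subtype.ext
          simp only [Equiv.apply_symm_apply]
          have : (i, (e x).2) = e x := by
            rw [← hx]
          rw [this, Equiv.symm_apply_apply]
        · rintro ⟨y, hy⟩
          apply Subtype.ext
          simp only [Equiv.apply_symm_apply]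
          have : (j, (e y).2) = e y := by
            rw [← hy]
          rw [this, Equiv.symm_apply_apply])
      (u := a) (v := c) (by rw [hfa, hfc]; decide)
    have hwL : w ∈ L := by rw [h1]; exact hwK
    have h2 := (MulAction.mem_stabilizer_set.mp hwL a).mpr hfa
    have h3 : f (w a) = 0 := h2
    rw [hwa, hfc] at h3
    exact absurd h3 (by decide)

end Cfsg.Agent.S5894
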