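import Cfsg.Statements.S5895
import Mathlib
import Cfsg.Agent.S5894
import Cfsg.Agent.S5885
-- import your own Cfsg.Agent.* helpers here

set_option autoImplicit false
open Cfsg

namespace Cfsg.Agent.S5895

section abstract
variable {N Q : Type*} [Group N] [Group Q] (φ : Q →* MulAut N)

open SemidirectProduct

/-- the subgroup `W ⋊ H` -/
def subSD (W : Subgroup N) (H : Subgroup Q) (hW : ∀ h ∈ H, ∀ w ∈ W, φ h w ∈ W) :
    Subgroup (N ⋊[φ] Q) where
  carrier := {x | x.left ∈ W ∧ x.right ∈ H}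
  mul_mem' := by
    rintro a b ⟨ha1, ha2⟩ ⟨hb1, hb2⟩
    refine ⟨?_, ?_⟩
    · rw [SemidirectProduct.mul_left]; exact W.mul_mem ha1 (hW _ ha2 _ hb1)
    · rw [SemidirectProduct.mul_right]; exact H.mul_mem ha2 hb2
  one_mem' := ⟨W.one_mem, H.one_mem⟩
  inv_mem' := by
    rintro a ⟨ha1, ha2⟩
    refine ⟨?_, ?_⟩
    · rw [SemidirectProduct.inv_left]; exact hW _ (H.inv_mem ha2) _ (W.inv_mem ha1)
    · rw [SemidirectProduct.inv_right]; exact H.inv_mem ha2

theorem sd_example [Finite Q]
    (hirr : ∀ W : Subgroup N, (∀ q : Q, ∀ w ∈ W, φ q w ∈ W) → W = ⊥ ∨ W = ⊤)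
    (H : Subgroup Q) (hH : IsCoatom H)
    (W₀ : Subgroup N) (hW₀bot : W₀ ≠ ⊥) (hW₀top : W₀ ≠ ⊤)
    (hW₀ : ∀ h ∈ H, ∀ w ∈ W₀, φ h w ∈ W₀) :
    ∃ (M H' K : Subgroup (N ⋊[φ] Q)), IsCoatom M ∧ M.index = Nat.card N ∧ H' ≤ M ∧
      IsCoatom (H'.subgroupOf M) ∧ IsCoatom K ∧ H' ≤ K ∧ ¬ IsCoatom (H'.subgroupOf K) := by
  classical
  have hMmem : ∀ x : N ⋊[φ] Q, x ∈ (inr : Q →* N ⋊[φ] Q).range ↔ x.left = 1 := by
    intro x
    constructor
    · intro hx
      obtain ⟨q, rfl⟩ := MonoidHom.mem_range.mp hx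
      rfl
    · intro h
      exact MonoidHom.mem_range.mpr
        ⟨x.right, SemidirectProduct.ext (by rw [left_inr, h]) (by rw [right_inr])⟩
  have hH'K : H.map (inr : Q →* N ⋊[φ] Q) ≤ H.comap rightHom := by
    intro y hy
    obtain ⟨h, hh, rfl⟩ := Subgroup.mem_map.mp hy
    rw [Subgroup.mem_comap, rightHom_inr]; exact hh
  refine ⟨(inr : Q →* N ⋊[φ] Q).range, H.map inr, H.comap rightHom, ?_, ?_, ?_, ?_, ?_, hH'K, ?_⟩
  · constructor
    · intro htop
      obtain ⟨⟨n, hn⟩, hne⟩ := (Subgroup.ne_bot_iff_exists_ne_one).mp hW₀bot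
      have : (inl n : N ⋊[φ] Q) ∈ (inr : Q →* N ⋊[φ] Q).range := by
        rw [htop]; exact Subgroup.mem_top _
      rw [hMmem, left_inl] at this
      exact hne (Subtype.ext this)
    · intro L hL
      obtain ⟨x, hxL, hxM⟩ := SetLike.exists_of_lt hL
      have hML : (inr : Q →* N ⋊[φ] Q).range ≤ L := hL.le
      have hinr : ∀ q, (inr q : N ⋊[φ] Q) ∈ L := fun q => hML (MonoidHom.mem_range.mpr ⟨q, rfl⟩)
      have hWinv : ∀ q : Q, ∀ w ∈ L.comap (inl : N →* N ⋊[φ] Q),
          φ q w ∈ L.comap (inl : N →* N ⋊[φ] Q) := by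
        intro q w hw
        rw [Subgroup.mem_comap] at hw ⊢
        rw [inl_aut]
        exact L.mul_mem (L.mul_mem (hinr q) hw) (hinr q⁻¹)
      rcases hirr _ hWinv with h | h
      · exfalso
        apply hxM
        rw [hMmem]
        have h1 : (inl x.left : N ⋊[φ] Q) ∈ L := by
          have : (inl x.left : N ⋊[φ] Q) = x * (inr x.right)⁻¹ := by
            rw [eq_mul_inv_iff_mul_eq]; exact inl_left_mul_inr_right x
          rw [this]; exact L.mul_mem hxL (L.inv_mem (hinr _))
        have h2 : x.left ∈ L.comap (inl : N →* N ⋊[φ] Q) := h1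
        rw [h, Subgroup.mem_bot] at h2
        exact h2
      · rw [eq_top_iff]
        intro y _
        rw [← inl_left_mul_inr_right y]
        apply L.mul_mem _ (hinr _)
        have : y.left ∈ L.comap (inl : N →* N ⋊[φ] Q) := by rw [h]; exact Subgroup.mem_top _
        exact this
  · have h1 : Nat.card (inr : Q →* N ⋊[φ] Q).range = Nat.card Q :=
      Nat.card_congr (MonoidHom.ofInjective inr_injective).toEquiv.symm
    have h2 := Subgroup.card_mul_index (inr : Q →* N ⋊[φ] Q).range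
    rw [h1, SemidirectProduct.card] at h2
    have hQpos : 0 < Nat.card Q := Nat.card_pos
    rw [mul_comm] at h2
    exact Nat.eq_of_mul_eq_mul_right hQpos h2
  · intro y hy
    obtain ⟨h, _, rfl⟩ := Subgroup.mem_map.mp hy
    exact MonoidHom.mem_range.mpr ⟨h, rfl⟩
  · exact Cfsg.Agent.S5894.isCoatom_map_subgroupOf_range inr inr_injective H hH
  · exact Subgroup.isCoatom_comap_of_surjective rightHom_surjective hH
  · intro hco
    have hH'T : H.map (inr : Q →* N ⋊[φ] Q) ≤ subSD φ W₀ H hW₀ := by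
      intro y hy
      obtain ⟨h, hh, rfl⟩ := Subgroup.mem_map.mp hy
      exact ⟨by rw [left_inr]; exact W₀.one_mem, by rw [right_inr]; exact hh⟩
    have hTK : subSD φ W₀ H hW₀ ≤ H.comap rightHom := by
      intro x hx
      rw [Subgroup.mem_comap]; exact hx.2
    rcases Cfsg.Agent.S5885.coatom_elim hH'K hco (subSD φ W₀ H hW₀) hH'T hTK with h | h
    · obtain ⟨⟨w, hw⟩, hne⟩ := (Subgroup.ne_bot_iff_exists_ne_one).mp hW₀bot
      have h1 : (inl w : N ⋊[φ] Q) ∈ subSD φ W₀ H hW₀ :=
        ⟨by rw [left_inl]; exact hw, by rw [right_inl]; exact H.one_mem⟩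
      rw [h] at h1
      obtain ⟨q, _, hq⟩ := Subgroup.mem_map.mp h1
      have := congrArg SemidirectProduct.left hq
      rw [left_inr, left_inl] at this
      exact hne (Subtype.ext this.symm)
    · obtain ⟨n, hn⟩ : ∃ n : N, n ∉ W₀ := by
        by_contra hall
        push Not at hall
        exact hW₀top (eq_top_iff.mpr fun x _ => hall x)
      have h1 : (inl n : N ⋊[φ] Q) ∈ H.comap rightHom := by
        rw [Subgroup.mem_comap, rightHom_inl]; exact H.one_mem
      rw [← h] at h1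
      exact hn (by have := h1.1; rwa [left_inl] at this)

end abstract

section concrete
variable {C I : Type*} [CommGroup C] [Group I]

/-- the monomial action of the wreath product on the power -/
instance wrAct : MulDistribMulAction (RegularWreathProduct (MulAut C) I) (I → C) where
  smul w x := fun i => (w.left i) (x (w.right⁻¹ * i))
  one_smul x := by
    funext i
    show ((1 : RegularWreathProduct (MulAut C) I).left i)
      (x ((1 : RegularWreathProduct (MulAut C) I).right⁻¹ * i)) = x i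
    simp
  mul_smul a b x := by
    funext i
    show ((a * b).left i) (x ((a * b).right⁻¹ * i))
      = (a.left i) ((b.left (a.right⁻¹ * i)) (x (b.right⁻¹ * (a.right⁻¹ * i))))
    rw [RegularWreathProduct.mul_left, RegularWreathProduct.mul_right, mul_inv_rev, mul_assoc]
    rfl
  smul_mul w x y := by
    funext i
    show (w.left i) ((x * y) (w.right⁻¹ * i))
      = (w.left i) (x (w.right⁻¹ * i)) * (w.left i) (y (w.right⁻¹ * i))
    rw [Pi.mul_apply, map_mul]
  smul_one w := by
    funext i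
    show (w.left i) ((1 : I → C) (w.right⁻¹ * i)) = 1
    rw [Pi.one_apply, map_one]

/-- the action as a hom -/
def wrHom : RegularWreathProduct (MulAut C) I →* MulAut (I → C) :=
  MulDistribMulAction.toMulAut (RegularWreathProduct (MulAut C) I) (I → C)

theorem wrHom_apply (w : RegularWreathProduct (MulAut C) I) (x : I → C) (i : I) :
    (wrHom w x) i = (w.left i) (x (w.right⁻¹ * i)) := rfl

theorem wr_irr [Finite I] {p : ℕ} [Fact p.Prime] (hp2 : p ≠ 2) (hC : Nat.card C = p)
    (W : Subgroup (I → C))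
    (hW : ∀ q : RegularWreathProduct (MulAut C) I, ∀ w ∈ W, (wrHom q) w ∈ W) :
    W = ⊥ ∨ W = ⊤ := by
  classical
  haveI := Fintype.ofFinite I
  haveI : Fact (Nat.card C).Prime := ⟨by rw [hC]; exact Fact.out⟩
  by_cases hbot : W = ⊥
  · exact Or.inl hbot
  right
  obtain ⟨⟨x, hxW⟩, hne⟩ := (Subgroup.ne_bot_iff_exists_ne_one).mp hbot
  have hx1 : x ≠ 1 := fun e => hne (Subtype.ext e)
  obtain ⟨j, hj⟩ := Function.ne_iff.mp hx1
  have hj' : x j ≠ 1 := hj
  have ht : (wrHom (⟨Pi.mulSingle j (MulEquiv.inv C), 1⟩ : RegularWreathProduct (MulAut C) I)) x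
      ∈ W := hW _ x hxW
  have hcalc : x * ((wrHom (⟨Pi.mulSingle j (MulEquiv.inv C), 1⟩ :
      RegularWreathProduct (MulAut C) I)) x)⁻¹ = Pi.mulSingle j (x j * x j) := by
    funext i
    rw [Pi.mul_apply, Pi.inv_apply, wrHom_apply]
    show x i * (((Pi.mulSingle j (MulEquiv.inv C) : I → MulAut C) i) (x ((1 : I)⁻¹ * i)))⁻¹ = _
    rw [inv_one, one_mul]
    by_cases hi : i = j
    · rw [hi, Pi.mulSingle_eq_same, Pi.mulSingle_eq_same]
      simp
    · rw [Pi.mulSingle_eq_of_ne hi, Pi.mulSingle_eq_of_ne hi]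
      simp
  have hmem : Pi.mulSingle j (x j * x j) ∈ W := by
    rw [← hcalc]; exact W.mul_mem hxW (W.inv_mem ht)
  have hsq : x j * x j ≠ 1 := by
    intro h
    have h2 : orderOf (x j) ∣ 2 := orderOf_dvd_of_pow_eq_one (by rw [pow_two]; exact h)
    have hp' : orderOf (x j) ∣ p := by rw [← hC]; exact orderOf_dvd_natCard (x j)
    have h1 : orderOf (x j) ∣ Nat.gcd 2 p := Nat.dvd_gcd h2 hp'
    have hcop : Nat.gcd 2 p = 1 :=
      (Nat.coprime_primes Nat.prime_two (Fact.out : p.Prime)).mpr (Ne.symm hp2)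
    rw [hcop, Nat.dvd_one, orderOf_eq_one_iff] at h1
    exact hj' h1
  have haxis : ∀ c : C, Pi.mulSingle j c ∈ W := by
    have hA : (W.comap (MonoidHom.mulSingle (fun _ : I => C) j)) = ⊤ := by
      rcases Subgroup.eq_bot_or_eq_top_of_prime_card
        (W.comap (MonoidHom.mulSingle (fun _ : I => C) j)) with h | h
      · exfalso
        have : x j * x j ∈ W.comap (MonoidHom.mulSingle (fun _ : I => C) j) := hmem
        rw [h, Subgroup.mem_bot] at this
        exact hsq this
      · exact h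
    intro c
    have : c ∈ W.comap (MonoidHom.mulSingle (fun _ : I => C) j) := by
      rw [hA]; exact Subgroup.mem_top _
    exact this
  have hall : ∀ (i : I) (c : C), Pi.mulSingle i c ∈ W := by
    intro i c
    have hs := hW (⟨1, i * j⁻¹⟩ : RegularWreathProduct (MulAut C) I) _ (haxis c)
    have hcalc2 : (wrHom (⟨1, i * j⁻¹⟩ : RegularWreathProduct (MulAut C) I))
        (Pi.mulSingle j c) = Pi.mulSingle i c := by
      funext k
      rw [wrHom_apply]
      show ((1 : I → MulAut C) k) ((Pi.mulSingle j c : I → C) ((i * j⁻¹)⁻¹ * k)) = _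
      rw [Pi.one_apply, MulAut.one_apply, Pi.mulSingle_apply, Pi.mulSingle_apply]
      have : (i * j⁻¹)⁻¹ * k = j ↔ k = i := by
        constructor
        · intro h
          calc k = (i * j⁻¹) * ((i * j⁻¹)⁻¹ * k) := by group
            _ = (i * j⁻¹) * j := by rw [h]
            _ = i := by group
        · intro h; rw [h]; group
      simp only [this]
    rw [hcalc2] at hs; exact hs
  rw [eq_top_iff]
  intro y _
  rw [← Finset.noncommProd_mulSingle y]
  apply Subgroup.noncommProd_mem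
  intro k _
  exact hall k (y k)

/-- functions vanishing on a subgroup of the index set -/
def W0 (H₀ : Subgroup I) : Subgroup (I → C) where
  carrier := {x | ∀ i ∈ H₀, x i = 1}
  mul_mem' := by
    intro a b ha hb i hi
    rw [Pi.mul_apply, ha i hi, hb i hi, mul_one]
  one_mem' := by intro i _; rfl
  inv_mem' := by
    intro a ha i hi
    rw [Pi.inv_apply, ha i hi, inv_one]

theorem W0_inv (H₀ : Subgroup I) :
    ∀ h ∈ H₀.comap (RegularWreathProduct.rightHom : RegularWreathProduct (MulAut C) I →* I),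
      ∀ w ∈ (W0 H₀ : Subgroup (I → C)), (wrHom h) w ∈ (W0 H₀ : Subgroup (I → C)) := by
  intro h hh w hw i hi
  rw [wrHom_apply]
  have h1 : h.right ∈ H₀ := hh
  have h2 : h.right⁻¹ * i ∈ H₀ := H₀.mul_mem (H₀.inv_mem h1) hi
  rw [hw _ h2, map_one]

theorem W0_ne_bot [Nontrivial C] (H₀ : Subgroup I) (hH₀ : H₀ ≠ ⊤) :
    (W0 H₀ : Subgroup (I → C)) ≠ ⊥ := by
  classical
  obtain ⟨j, hj⟩ : ∃ j : I, j ∉ H₀ := by
    by_contra hall
    push Not at hall
    exact hH₀ (eq_top_iff.mpr fun x _ => hall x)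
  obtain ⟨c, hc⟩ := exists_ne (1 : C)
  intro hbot
  have h1 : (Pi.mulSingle j c : I → C) ∈ (W0 H₀ : Subgroup (I → C)) := by
    intro i hi
    have : i ≠ j := fun e => hj (e ▸ hi)
    show (Pi.mulSingle j c : I → C) i = 1
    rw [Pi.mulSingle_eq_of_ne this]
  rw [hbot, Subgroup.mem_bot] at h1
  have := congrFun h1 j
  rw [Pi.mulSingle_eq_same] at this
  exact hc this

theorem W0_ne_top [Nontrivial C] (H₀ : Subgroup I) :
    (W0 H₀ : Subgroup (I → C)) ≠ ⊤ := by
  classical
  obtain ⟨c, hc⟩ := exists_ne (1 : C)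
  intro htop
  have h1 : (Pi.mulSingle (1 : I) c : I → C) ∈ (W0 H₀ : Subgroup (I → C)) := by
    rw [htop]; exact Subgroup.mem_top _
  have := h1 1 H₀.one_mem
  rw [Pi.mulSingle_eq_same] at this
  exact hc this

end concrete

theorem odd_case (p d : ℕ) (hp : p.Prime) (hp2 : p ≠ 2) (hd : 2 ≤ d) :
    ∃ (G : Type) (_ : Group G) (_ : Finite G) (M H K : Subgroup G), IsCoatom M ∧
      M.index = p ^ d ∧ H ≤ M ∧ IsCoatom (H.subgroupOf M) ∧ IsCoatom K ∧ H ≤ K ∧
      ¬ IsCoatom (H.subgroupOf K) := by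
  classical
  haveI : Fact p.Prime := ⟨hp⟩
  haveI : NeZero d := ⟨by omega⟩
  have hC : Nat.card (Multiplicative (ZMod p)) = p := by
    rw [Nat.card_congr Multiplicative.toAdd, Nat.card_zmod]
  have hI : Nat.card (Multiplicative (ZMod d)) = d := by
    rw [Nat.card_congr Multiplicative.toAdd, Nat.card_zmod]
  haveI : Nontrivial (Multiplicative (ZMod p)) := by
    rw [← Finite.one_lt_card_iff_nontrivial, hC]; exact hp.one_lt
  haveI : Nontrivial (Multiplicative (ZMod d)) := by
    rw [← Finite.one_lt_card_iff_nontrivial, hI]; omega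
  obtain ⟨H₀, hH₀⟩ : ∃ H₀ : Subgroup (Multiplicative (ZMod d)), IsCoatom H₀ := by
    rcases eq_top_or_exists_le_coatom (⊥ : Subgroup (Multiplicative (ZMod d))) with h | ⟨a, ha, _⟩
    · exact absurd h bot_ne_top
    · exact ⟨a, ha⟩
  obtain ⟨M, H', K, h1, h2, h3, h4, h5, h6, h7⟩ :=
    sd_example (wrHom : RegularWreathProduct (MulAut (Multiplicative (ZMod p)))
        (Multiplicative (ZMod d)) →* MulAut (Multiplicative (ZMod d) → Multiplicative (ZMod p)))
      (fun W hW => wr_irr hp2 hC W hW)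
      (H₀.comap RegularWreathProduct.rightHom)
      (Subgroup.isCoatom_comap_of_surjective
        (fun q => ⟨RegularWreathProduct.inl q, rfl⟩) hH₀)
      (W0 H₀) (W0_ne_bot H₀ hH₀.1) (W0_ne_top H₀) (W0_inv H₀)
  haveI : Finite (SemidirectProduct (Multiplicative (ZMod d) → Multiplicative (ZMod p))
      (RegularWreathProduct (MulAut (Multiplicative (ZMod p))) (Multiplicative (ZMod d)))
      wrHom) := Finite.of_equiv _ SemidirectProduct.equivProd.symm
  refine ⟨_, inferInstance, inferInstance, M, H', K, h1, ?_, h3, h4, h5, h6, h7⟩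
  rw [h2, Nat.card_fun, hC, hI]

theorem even_case (d : ℕ) (hd : 2 ≤ d) :
    ∃ (G : Type) (_ : Group G) (_ : Finite G) (M H K : Subgroup G), IsCoatom M ∧
      M.index = 2 ^ d ∧ H ≤ M ∧ IsCoatom (H.subgroupOf M) ∧ IsCoatom K ∧ H ≤ K ∧
      ¬ IsCoatom (H.subgroupOf K) := by
  have hm : 2 ≤ 2 ^ (d - 1) := by
    calc 2 = 2 ^ 1 := (pow_one 2).symm
      _ ≤ 2 ^ (d - 1) := Nat.pow_le_pow_right (by norm_num) (by omega)
  obtain ⟨M, H, K, h1, h2, h3, h4, h5, h6, h7⟩ := Cfsg.Agent.S5894.result (2 ^ (d - 1)) hm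
  refine ⟨Equiv.Perm (Fin (2 * 2 ^ (d - 1))), inferInstance, inferInstance, M, H, K, h1, ?_,
    h3, h4, h5, h6, h7⟩
  rw [h2, ← pow_succ']
  congr 1
  omega

/-- For every prime p and every d ≥ 2 there is a finite group G with a maximal subgroup M of index p^d and a maximal subgroup H of M that is not second maximal in G: some maximal subgroup K of G contains H without H being maximal in K. (One may take G the affine group V ⋊ GL(V) of V = 𝔽_p^d, M = GL(V), H the stabiliser in M of a line W of V, and K = V ⋊ H, with H < W ⋊ H < K.) So the prime-index hypothesis in the second-maximality criterion cannot be relaxed to prime-power index. -/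
theorem result (p d : ℕ) (hp : p.Prime)
    (hd : 2 ≤ d) :
    ∃ (G : Type) (_ : Group G) (_ : Finite G) (M H K : Subgroup G), IsCoatom M ∧ M.index = p ^ d ∧ H ≤ M ∧
      IsCoatom (H.subgroupOf M) ∧ IsCoatom K ∧ H ≤ K ∧ ¬ IsCoatom (H.subgroupOf K) := by
  rcases eq_or_ne p 2 with rfl | hp2
  · exact even_case d hd
  · exact odd_case p d hp hp2 hd

end Cfsg.Agent.S5895
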