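import Cfsg.Statements.S5896
import Mathlib
import Cfsg.Agent.S0144
-- import your own Cfsg.Agent.* helpers here

set_option autoImplicit false
open Cfsg

namespace Cfsg.Agent.S5896

open RegularWreathProduct
open scoped commutatorElement Pointwise

section
variable {L : Type} [Group L] [Fintype L] {C : Type} [CommGroup C]

def prodHom : C ≀ᵣ L →* C := MonoidHom.mk' (fun w => ∏ x, w.left x) (by
  intro a b
  simp only [mul_left, Pi.mul_apply, Finset.prod_mul_distrib]
  congr 1
  exact Fintype.prod_equiv (Equiv.mulLeft a.right⁻¹) _ _ (fun x => rfl))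

def aug : Subgroup (C ≀ᵣ L) := (prodHom (L:=L) (C:=C)).ker

def baseHom : (L → C) →* C ≀ᵣ L where
  toFun f := ⟨f, 1⟩
  map_one' := rfl
  map_mul' f g := by ext <;> simp

@[simp] lemma baseHom_left (f : L → C) : (baseHom f).left = f := rfl
@[simp] lemma baseHom_right (f : L → C) : (baseHom f).right = 1 := rfl

lemma mem_aug (w : C ≀ᵣ L) : w ∈ aug ↔ ∏ x, w.left x = 1 := MonoidHom.mem_ker

lemma baseHom_mem_aug (f : L → C) (hf : ∏ x, f x = 1) : baseHom f ∈ aug := by
  rw [mem_aug]; exact hf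

lemma inl_mem_aug (l : L) : (inl l : C ≀ᵣ L) ∈ aug := by
  rw [mem_aug]; simp

lemma comm_inl_base (b : L) (f : L → C) :
    ⁅(inl b : C ≀ᵣ L), baseHom f⁆ = baseHom (fun x => f (b⁻¹ * x) * (f x)⁻¹) := by
  rw [commutatorElement_def]
  ext x <;> simp

lemma decomp (w : C ≀ᵣ L) : w = baseHom w.left * inl w.right := by
  ext x <;> simp

theorem aug_perfect [DecidableEq L] (hL : commutator L = ⊤)
    (hroot : ∀ a : C, ∃ c : C, c ^ Fintype.card L = a) :
    commutator ↥(aug (L:=L) (C:=C)) = ⊤ := by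
  set G'W : Subgroup (C ≀ᵣ L) := (commutator ↥(aug (L:=L) (C:=C))).map aug.subtype with hG'W
  have hcomm : ∀ x y : C ≀ᵣ L, x ∈ aug → y ∈ aug → ⁅x, y⁆ ∈ G'W := by
    intro x y hx hy
    refine ⟨⁅(⟨x, hx⟩ : ↥(aug (L:=L) (C:=C))), (⟨y, hy⟩ : ↥(aug (L:=L) (C:=C)))⁆, ?_, rfl⟩
    exact Subgroup.commutator_mem_commutator (Subgroup.mem_top _) (Subgroup.mem_top _)
  have hinl : ∀ l : L, (inl l : C ≀ᵣ L) ∈ G'W := by
    intro l
    have hl : l ∈ commutator L := by rw [hL]; trivial
    rw [commutator_eq_closure] at hl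
    induction hl using Subgroup.closure_induction with
    | mem x hx =>
      obtain ⟨a, b, rfl⟩ := hx
      rw [map_commutatorElement]
      exact hcomm _ _ (inl_mem_aug a) (inl_mem_aug b)
    | one => rw [map_one]; exact G'W.one_mem
    | mul x y _ _ hx hy => rw [map_mul]; exact G'W.mul_mem hx hy
    | inv x _ hx => rw [map_inv]; exact G'W.inv_mem hx
  let T : Subgroup (L → C) := G'W.comap baseHom
  have he : ∀ (l : L) (a : C), (Pi.mulSingle l a * (Pi.mulSingle 1 a)⁻¹ : L → C) ∈ T := by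
    intro l a
    obtain ⟨c, hc⟩ := hroot a
    let u : L → C := Pi.mulSingle 1 a * (fun _ => c⁻¹)
    have hu : ∏ x, u x = 1 := by
      simp only [u, Pi.mul_apply, Finset.prod_mul_distrib, Finset.prod_const, Finset.card_univ]
      rw [Fintype.prod_pi_mulSingle', inv_pow, hc, mul_inv_cancel]
    have := hcomm _ _ (inl_mem_aug l) (baseHom_mem_aug u hu)
    rw [comm_inl_base] at this
    show baseHom _ ∈ G'W
    convert this using 2
    ext x
    simp only [u, Pi.mul_apply, Pi.inv_apply, Pi.mulSingle_apply]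
    have : (l⁻¹ * x = 1) ↔ x = l := by
      constructor
      · intro h; rw [inv_mul_eq_one] at h; exact h.symm
      · rintro rfl; simp
    simp only [this]
    split_ifs <;> simp
  have hB : ∀ f : L → C, ∏ x, f x = 1 → f ∈ T := by
    intro f hf
    have : f = ∏ l, (Pi.mulSingle l (f l) * (Pi.mulSingle 1 (f l))⁻¹ : L → C) := by
      rw [Finset.prod_mul_distrib, Finset.univ_prod_mulSingle, Finset.prod_inv_distrib]
      have := map_prod (MonoidHom.mulSingle (fun _ : L => C) 1) f Finset.univ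
      simp only [MonoidHom.mulSingle_apply] at this
      rw [← this, hf]
      simp
    rw [this]; exact T.prod_mem (fun l _ => he l (f l))
  rw [eq_top_iff]
  rintro ⟨w, hw⟩ -
  have h1 : w ∈ G'W := by
    rw [decomp w]
    exact G'W.mul_mem (hB _ ((mem_aug w).mp hw)) (hinl _)
  obtain ⟨y, hy, hyw⟩ := h1
  have : y = ⟨w, hw⟩ := Subtype.ext hyw
  rwa [this] at hy


def rH : ↥(aug (L:=L) (C:=C)) →* L := rightHom.comp aug.subtype

lemma rH_surj : Function.Surjective (rH (L:=L) (C:=C)) :=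
  fun l => ⟨⟨inl l, inl_mem_aug l⟩, rfl⟩

def bigH (L₀ : Subgroup L) : Subgroup ↥(aug (L:=L) (C:=C)) := L₀.comap rH

lemma bigH_coatom (L₀ : Subgroup L) (h : IsCoatom L₀) : IsCoatom (bigH (C:=C) L₀) :=
  Subgroup.isCoatom_comap_of_surjective rH_surj h

lemma bigH_solvable (L₀ : Subgroup L) [hs : Group.IsSolvable L₀] :
    Group.IsSolvable ↥(bigH (C:=C) L₀) := by
  let π : ↥(bigH (C:=C) L₀) →* ↥L₀ := (rH (C:=C)).subgroupComap L₀
  have hk : ∀ x : ↥(bigH (C:=C) L₀), x ∈ π.ker → x.1.1.right = 1 := by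
    intro x hx
    rw [MonoidHom.mem_ker] at hx
    exact congrArg Subtype.val hx
  haveI : Group.IsSolvable ↥π.ker := by
    apply Group.isSolvable_of_comm
    rintro ⟨x, hx⟩ ⟨y, hy⟩
    have h1 := hk x hx
    have h2 := hk y hy
    apply Subtype.ext
    apply Subtype.ext
    apply Subtype.ext
    show x.1.1 * y.1.1 = y.1.1 * x.1.1
    ext z
    · simp only [mul_left, Pi.mul_apply, h1, h2, inv_one, one_mul]
      exact mul_comm _ _
    · simp [h1, h2]
  exact Group.isSolvable_of_ker_le_range π.ker.subtype π (by rw [Subgroup.range_subtype])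

end

section growth
variable {L : Type} [Group L] [Fintype L] [DecidableEq L] {C : Type} [CommGroup C] (L₀ : Subgroup L)

def inlG : L →* ↥(aug (L:=L) (C:=C)) := (inl : L →* C ≀ᵣ L).codRestrict aug inl_mem_aug

def iota : ↥L₀ →* ↥(bigH (C:=C) L₀) :=
  ((inlG (C:=C)).comp L₀.subtype).codRestrict (bigH L₀) (fun l => by
    show rH (inlG (l : L)) ∈ L₀
    exact l.2)

def beta (f : L → C) (hf : ∏ x, f x = 1) : ↥(bigH (C:=C) L₀) :=
  ⟨⟨baseHom f, baseHom_mem_aug f hf⟩, by
    show rH _ ∈ L₀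
    exact L₀.one_mem⟩

lemma comm_iota_beta (b : ↥L₀) (f : L → C) (hf : ∏ x, f x = 1)
    (hg : ∏ x, (f ((b:L)⁻¹ * x) * (f x)⁻¹) = 1) :
    ⁅iota (C:=C) L₀ b, beta L₀ f hf⁆ = beta L₀ (fun x => f ((b:L)⁻¹ * x) * (f x)⁻¹) hg := by
  apply Subtype.ext; apply Subtype.ext
  show ⁅(inl (b:L) : C ≀ᵣ L), baseHom f⁆ = baseHom (fun x => f ((b:L)⁻¹ * x) * (f x)⁻¹)
  exact comm_inl_base _ _

lemma growth (hC : ∃ a : C, a ≠ 1) (hL₀ : L₀ ≠ ⊤) (n : ℕ)
    (hstrict : ∀ j < n, ∃ b : ↥L₀, b ∈ derivedSeries ↥L₀ j ∧ b ∉ derivedSeries ↥L₀ (j+1)) :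
    ∃ (f : L → C) (hf : ∏ x, f x = 1), f 1 ≠ 1 ∧
      (∀ x : ↥L₀, x ≠ 1 → x ∈ derivedSeries ↥L₀ n → f x = 1) ∧
      beta L₀ f hf ∈ derivedSeries ↥(bigH (C:=C) L₀) n := by
  induction n with
  | zero =>
    obtain ⟨a, ha⟩ := hC
    obtain ⟨c, hc⟩ : ∃ c, c ∉ L₀ := by
      by_contra hh
      push Not at hh
      exact hL₀ (eq_top_iff.mpr (fun x _ => hh x))
    have hc1 : c ≠ 1 := by rintro rfl; exact hc L₀.one_mem
    refine ⟨Pi.mulSingle 1 a * (Pi.mulSingle c a)⁻¹, ?_, ?_, ?_, ?_⟩
    · simp only [Pi.mul_apply, Pi.inv_apply, Finset.prod_mul_distrib, Finset.prod_inv_distrib,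
        Fintype.prod_pi_mulSingle', mul_inv_cancel]
    · simp [Pi.mulSingle_apply, Ne.symm hc1, ha]
    · intro x hx _
      have h1 : (x : L) ≠ 1 := fun h => hx (Subtype.ext h)
      have h2 : (x : L) ≠ c := by rintro rfl; exact hc x.2
      simp [Pi.mulSingle_apply, h1, h2]
    · rw [derivedSeries_zero]; trivial
  | succ n ih =>
    obtain ⟨f, hf, hf1, hfx, hmem⟩ := ih (fun j hj => hstrict j (by omega))
    obtain ⟨b, hb, hb'⟩ := hstrict n (by omega)
    have hb1 : b ≠ 1 := by rintro rfl; exact hb' (Subgroup.one_mem _)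
    have hg : ∏ x, (f ((b:L)⁻¹ * x) * (f x)⁻¹) = 1 := by
      rw [Finset.prod_mul_distrib, Finset.prod_inv_distrib, hf,
        Fintype.prod_equiv (Equiv.mulLeft (b:L)⁻¹) (fun x => f ((b:L)⁻¹ * x)) f (fun x => rfl), hf]
      simp
    refine ⟨fun x => f ((b:L)⁻¹ * x) * (f x)⁻¹, hg, ?_, ?_, ?_⟩
    · have : f ((b⁻¹ : ↥L₀) : L) = 1 :=
        hfx b⁻¹ (by simpa using hb1) (Subgroup.inv_mem _ hb)
      simp only [mul_one]
      rw [show ((b:L)⁻¹) = ((b⁻¹ : ↥L₀) : L) from rfl, this, one_mul]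
      simpa using hf1
    · intro x hx hxm
      have hxn : x ∈ derivedSeries ↥L₀ n := derivedSeries_antitone _ (Nat.le_succ n) hxm
      have h1 : f x = 1 := hfx x hx hxn
      have h2 : f ((b⁻¹ * x : ↥L₀) : L) = 1 := by
        apply hfx
        · intro h
          rw [inv_mul_eq_one] at h
          exact hb' (h ▸ hxm)
        · exact Subgroup.mul_mem _ (Subgroup.inv_mem _ hb) hxn
      show f ((b:L)⁻¹ * x) * (f x)⁻¹ = 1
      rw [h1, show ((b:L)⁻¹ * (x:L)) = ((b⁻¹ * x : ↥L₀) : L) from rfl, h2]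
      simp
    · rw [← comm_iota_beta L₀ b f hf hg, derivedSeries_succ]
      apply Subgroup.commutator_mem_commutator _ hmem
      exact map_derivedSeries_le_derivedSeries (iota (C:=C) L₀) n ⟨b, hb, rfl⟩

end growth

theorem step (d : ℕ) (L : Type) [Group L] [Finite L] (L₀ : Subgroup L)
    (hperf : commutator L = ⊤) (hco : IsCoatom L₀) (hsol : Group.IsSolvable L₀)
    (hd : derivedSeries L₀ d ≠ ⊥) :
    ∃ (G : Type) (_ : Group G) (_ : Finite G) (H : Subgroup G), commutator G = ⊤ ∧ IsCoatom H ∧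
      Group.IsSolvable H ∧ derivedSeries H (d+1) ≠ ⊥ := by
  classical
  letI : Fintype L := Fintype.ofFinite L
  obtain ⟨p, hpge, hp⟩ := Nat.exists_infinite_primes (Fintype.card L + 1)
  haveI : Fact p.Prime := ⟨hp⟩
  let C := Multiplicative (ZMod p)
  have hcardC : Nat.card C = p := by
    simp [C, Nat.card_eq_fintype_card]
  have hcop : (Nat.card C).Coprime (Fintype.card L) := by
    rw [hcardC, Nat.Prime.coprime_iff_not_dvd hp]
    intro hdvd
    have hpos : 0 < Fintype.card L := Fintype.card_pos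
    have := Nat.le_of_dvd hpos hdvd
    omega
  have hroot : ∀ a : C, ∃ c : C, c ^ Fintype.card L = a := by
    intro a
    obtain ⟨c, hc⟩ := (powCoprime hcop).surjective a
    exact ⟨c, hc⟩
  refine ⟨↥(aug (L:=L) (C:=C)), inferInstance, inferInstance, bigH L₀, aug_perfect hperf hroot,
    bigH_coatom L₀ hco, bigH_solvable L₀, ?_⟩
  have hstrict : ∀ j < d+1, ∃ b : ↥L₀, b ∈ derivedSeries ↥L₀ j ∧ b ∉ derivedSeries ↥L₀ (j+1) := by
    intro j hj
    by_contra hno
    push Not at hno
    have heq : derivedSeries ↥L₀ (j+1) = derivedSeries ↥L₀ j :=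
      le_antisymm (derivedSeries_antitone _ (Nat.le_succ j)) (fun b hb => hno b hb)
    have hall : ∀ k, derivedSeries ↥L₀ (j+k) = derivedSeries ↥L₀ j := by
      intro k
      induction k with
      | zero => rfl
      | succ k ih => rw [← add_assoc, derivedSeries_succ, ih, ← derivedSeries_succ, heq]
    obtain ⟨m, hm⟩ := hsol.solvable
    have h0 : derivedSeries ↥L₀ j = ⊥ := by
      rw [← hall m]
      exact le_bot_iff.mp (hm ▸ derivedSeries_antitone _ (Nat.le_add_left m j))
    exact hd (le_bot_iff.mp (h0 ▸ derivedSeries_antitone _ (Nat.lt_succ_iff.mp hj)))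
  have hC : ∃ a : C, a ≠ 1 := by
    refine ⟨Multiplicative.ofAdd (1 : ZMod p), ?_⟩
    intro h
    have h' : (1 : ZMod p) = 0 := ofAdd_eq_one.mp h
    exact one_ne_zero h'
  obtain ⟨f, hf, hf1, -, hmem⟩ := growth (C:=C) L₀ hC hco.1 (d+1) hstrict
  intro hbot
  rw [hbot, Subgroup.mem_bot] at hmem
  apply hf1
  have := congrArg (fun x : ↥(bigH (C:=C) L₀) => x.1.1.left 1) hmem
  exact this

theorem base : ∃ (G : Type) (_ : Group G) (_ : Finite G) (H : Subgroup G), commutator G = ⊤ ∧
    IsCoatom H ∧ Group.IsSolvable H ∧ derivedSeries H 0 ≠ ⊥ := by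
  have h5 : Nat.card (Fin 5) = 5 := by simp
  let H : Subgroup (alternatingGroup (Fin 5)) :=
    MulAction.stabilizer (alternatingGroup (Fin 5)) ({0} : Set (Fin 5))
  have hco : IsCoatom H :=
    alternatingGroup.isCoatom_stabilizer_singleton (by rw [h5]; norm_num)
      (Set.singleton_nonempty 0) Set.subsingleton_singleton
  have hperf : commutator (alternatingGroup (Fin 5)) = ⊤ := by
    rcases (inferInstance : (commutator (alternatingGroup (Fin 5))).Normal).eq_bot_or_eq_top with h | h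
    · exfalso
      rw [commutator_eq_bot_iff, alternatingGroup.isMulCommutative_iff_card_le_three, h5] at h
      omega
    · exact h
  have hcard : Nat.card H = 12 := by
    haveI : MulAction.IsPreprimitive (alternatingGroup (Fin 5)) (Fin 5) :=
      alternatingGroup.isPreprimitive_of_three_le_card _ (by rw [h5]; norm_num)
    have h1 := H.card_mul_index
    have h2 : H.index = 5 := by
      show (MulAction.stabilizer (alternatingGroup (Fin 5)) ({0} : Set (Fin 5))).index = 5
      rw [MulAction.stabilizer_singleton, MulAction.index_stabilizer_of_transitive, h5]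
    have h3 : Nat.card (alternatingGroup (Fin 5)) = 60 := by
      rw [nat_card_alternatingGroup, h5]; decide
    rw [h2, h3] at h1
    omega
  have hsol : Group.IsSolvable H :=
    Cfsg.Agent.S0144.result 2 3 2 1 Nat.prime_two Nat.prime_three (by rw [hcard]; norm_num)
  refine ⟨alternatingGroup (Fin 5), inferInstance, inferInstance, H, hperf, hco, hsol, ?_⟩
  rw [derivedSeries_zero]
  haveI : Nontrivial H := by
    rw [← Finite.one_lt_card_iff_nontrivial, hcard]; norm_num
  exact top_ne_bot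

theorem main (d : ℕ) :
    ∃ (G : Type) (_ : Group G) (_ : Finite G) (H : Subgroup G), commutator G = ⊤ ∧ IsCoatom H ∧
      Group.IsSolvable H ∧ derivedSeries H d ≠ ⊥ := by
  induction d with
  | zero => exact base
  | succ d ih =>
    obtain ⟨L, hG, hF, L₀, h1, h2, h3, h4⟩ := ih
    exact step d L L₀ h1 h2 h3 h4

/-- Finite perfect groups have solvable maximal subgroups of unbounded derived length: for every d there is a finite perfect group G (equal to its commutator subgroup) with a solvable maximal subgroup H whose derived length exceeds d, i.e. the d-th term of the derived series of H is non-trivial. (Take the derived subgroup of a wreath product S ≀ A₅ with S solvable of large derived length, and H the preimage of a maximal subgroup of A₅.) -/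
theorem result (d : ℕ) :
    ∃ (G : Type) (_ : Group G) (_ : Finite G) (H : Subgroup G), commutator G = ⊤ ∧ IsCoatom H ∧ Group.IsSolvable H ∧
      derivedSeries H d ≠ ⊥ := by
  exact main d

end Cfsg.Agent.S5896
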