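import Cfsg.Statements.S5902
import Cfsg.Agent.S5901

set_option autoImplicit false
open Cfsg

namespace Cfsg.Agent.S5902

theorem interval_of_complemented {G : Type*} [Group G] (X : Subgroup G)
    (hK : ComplementedLattice (Subgroup X)) :
    ∀ Y : Subgroup G, (⊥ : Subgroup G) ≤ Y → Y ≤ X →
      ∃ C : Subgroup G, (⊥ : Subgroup G) ≤ C ∧ C ≤ X ∧ Y ⊔ C = X ∧ Y ⊓ C = ⊥ := by
  intro Y _ hYX
  obtain ⟨C', hC'⟩ := hK.exists_isCompl (Y.subgroupOf X)
  refine ⟨C'.map X.subtype, bot_le, Subgroup.map_subtype_le C', ?_, ?_⟩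
  · have h1 : (Y.subgroupOf X).map X.subtype = Y := by
      rw [Subgroup.map_subgroupOf_eq_of_le hYX]
    have h2 : (Y.subgroupOf X ⊔ C').map X.subtype = X := by
      rw [hC'.sup_eq_top, ← MonoidHom.range_eq_map, Subgroup.range_subtype]
    rw [Subgroup.map_sup, h1] at h2
    exact h2
  · have h1 : (Y.subgroupOf X).map X.subtype = Y := by
      rw [Subgroup.map_subgroupOf_eq_of_le hYX]
    have h2 : (Y.subgroupOf X ⊓ C').map X.subtype = ⊥ := by
      rw [hC'.inf_eq_bot, Subgroup.map_bot]
    rw [Subgroup.map_inf _ _ _ X.subtype_injective, h1] at h2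
    exact h2

theorem exists_compl_of_not_le_core {G : Type*} [Group G] [Finite G] (X M : Subgroup G)
    (hK : ComplementedLattice (Subgroup X))
    (hM : IsCoatom M) (hXM : X ≤ M) (huniq : ∀ M' : Subgroup G, IsCoatom M' → X ≤ M' → M' = M)
    (H : Subgroup G) (hH : ¬ H ≤ M.normalCore) : ∃ C : Subgroup G, H ⊔ C = ⊤ ∧ H ⊓ C = ⊥ := by
  have hXtop : X ≠ ⊤ := by
    rintro rfl
    exact hM.1 (top_le_iff.mp hXM)
  obtain ⟨h, hhH, hh⟩ := SetLike.not_le_iff_exists.mp hH
  have : ∃ b : G, b * h * b⁻¹ ∉ M := by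
    by_contra hcon
    push Not at hcon
    exact hh hcon
  obtain ⟨b, hb⟩ := this
  set φ : G ≃* G := MulAut.conj b with hφ
  have hH' : ¬ H.map φ.toMonoidHom ≤ M := by
    intro hle
    apply hb
    have : φ h ∈ H.map φ.toMonoidHom := Subgroup.mem_map_of_mem _ hhH
    have := hle this
    simpa [hφ, MulAut.conj_apply] using this
  obtain ⟨C, hC1, hC2⟩ := Cfsg.Agent.S5901.result ⊥ X M bot_le hXtop
    (interval_of_complemented X hK) hM hXM huniq (H.map φ.toMonoidHom) hH' (inf_bot_eq _)
  refine ⟨C.map φ.symm.toMonoidHom, ?_, ?_⟩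
  · have h1 : (H.map φ.toMonoidHom).map φ.symm.toMonoidHom = H := by
      rw [Subgroup.map_map]
      have : φ.symm.toMonoidHom.comp φ.toMonoidHom = MonoidHom.id G := by
        ext x; simp
      rw [this, Subgroup.map_id]
    have h2 : (H.map φ.toMonoidHom ⊔ C).map φ.symm.toMonoidHom = ⊤ := by
      rw [hC1]
      exact Subgroup.map_top_of_surjective _ φ.symm.surjective
    rw [Subgroup.map_sup, h1] at h2
    exact h2
  · have h1 : (H.map φ.toMonoidHom).map φ.symm.toMonoidHom = H := by
      rw [Subgroup.map_map]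
      have : φ.symm.toMonoidHom.comp φ.toMonoidHom = MonoidHom.id G := by
        ext x; simp
      rw [this, Subgroup.map_id]
    have h2 : (H.map φ.toMonoidHom ⊓ C).map φ.symm.toMonoidHom = ⊥ := by
      rw [hC2, Subgroup.map_bot]
    rw [Subgroup.map_inf _ _ _ φ.symm.injective, h1] at h2
    exact h2

/-- Let G be a finite group, X a subgroup whose own subgroup lattice is complemented, and suppose X lies in exactly one maximal subgroup M of G. Then every subgroup H of G not contained in the normal core of M has a complement in the subgroup lattice of G (some C with H ⊔ C = G and H ⊓ C = 1); in particular the subgroup lattice of G modulo the normal core of M is complemented. -/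
theorem result {G : Type*} [Group G] [Finite G] (X M : Subgroup G)
    (hK : ComplementedLattice (Subgroup X))
    (hM : IsCoatom M) (hXM : X ≤ M) (huniq : ∀ M' : Subgroup G, IsCoatom M' → X ≤ M' → M' = M) :
    (∀ H : Subgroup G, ¬ H ≤ M.normalCore → ∃ C : Subgroup G, H ⊔ C = ⊤ ∧ H ⊓ C = ⊥) ∧
    ComplementedLattice (Subgroup (G ⧸ M.normalCore)) := by
  refine ⟨fun H hH => exists_compl_of_not_le_core X M hK hM hXM huniq H hH, ⟨fun K => ?_⟩⟩
  by_cases hKbot : K = ⊥
  · subst hKbot
    exact ⟨⊤, isCompl_bot_top⟩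
  set N := M.normalCore with hN
  set π := QuotientGroup.mk' N with hπ
  have hπs : Function.Surjective π := QuotientGroup.mk'_surjective N
  have hcm : (K.comap π).map π = K := Subgroup.map_comap_eq_self_of_surjective hπs K
  have hH : ¬ K.comap π ≤ N := by
    intro hle
    apply hKbot
    rw [← hcm, eq_bot_iff]
    calc (K.comap π).map π ≤ N.map π := Subgroup.map_mono hle
      _ = ⊥ := by rw [hπ, QuotientGroup.map_mk'_self]
  obtain ⟨C, hC1, hC2⟩ := exists_compl_of_not_le_core X M hK hM hXM huniq (K.comap π) hH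
  refine ⟨C.map π, ?_⟩
  rw [isCompl_iff, disjoint_iff, codisjoint_iff]
  constructor
  · rw [eq_bot_iff]
    rintro x ⟨hxK, c, hcC, rfl⟩
    have hc : c ∈ K.comap π ⊓ C := ⟨hxK, hcC⟩
    rw [hC2, Subgroup.mem_bot] at hc
    subst hc
    simp
  · have : (K.comap π ⊔ C).map π = ⊤ := by
      rw [hC1]; exact Subgroup.map_top_of_surjective _ hπs
    rw [Subgroup.map_sup, hcm] at this
    exact this

end Cfsg.Agent.S5902
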