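import Cfsg.Statements.S5903
import Cfsg.Agent.S5901

set_option autoImplicit false
open Cfsg

namespace Cfsg.Agent.S5903

theorem compl_of_map_equiv {G : Type*} [Group G] (φ : G ≃* G) (H : Subgroup G)
    (h : ∃ C : Subgroup G, H.map φ.toMonoidHom ⊔ C = ⊤ ∧ H.map φ.toMonoidHom ⊓ C = ⊥) :
    ∃ C : Subgroup G, H ⊔ C = ⊤ ∧ H ⊓ C = ⊥ := by
  obtain ⟨C, hC1, hC2⟩ := h
  have h1 : (H.map φ.toMonoidHom).map φ.symm.toMonoidHom = H := by
    rw [Subgroup.map_map]
    have : φ.symm.toMonoidHom.comp φ.toMonoidHom = MonoidHom.id G := by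
      ext x; simp
    rw [this, Subgroup.map_id]
  refine ⟨C.map φ.symm.toMonoidHom, ?_, ?_⟩
  · have h2 : (H.map φ.toMonoidHom ⊔ C).map φ.symm.toMonoidHom = ⊤ := by
      rw [hC1]
      exact Subgroup.map_top_of_surjective _ φ.symm.surjective
    rw [Subgroup.map_sup, h1] at h2
    exact h2
  · have h2 : (H.map φ.toMonoidHom ⊓ C).map φ.symm.toMonoidHom = ⊥ := by
      rw [hC2, Subgroup.map_bot]
    rw [Subgroup.map_inf _ _ _ φ.symm.injective, h1] at h2
    exact h2

theorem interval_of_quotient {G : Type*} [Group G] (X N : Subgroup G) (hNX : N ≤ X)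
    [(N.subgroupOf X).Normal] (hK : ComplementedLattice (Subgroup (X ⧸ N.subgroupOf X))) :
    ∀ Y : Subgroup G, N ≤ Y → Y ≤ X →
      ∃ C : Subgroup G, N ≤ C ∧ C ≤ X ∧ Y ⊔ C = X ∧ Y ⊓ C = N := by
  intro Y hNY hYX
  set N' := N.subgroupOf X with hN'
  set π := QuotientGroup.mk' N' with hπ
  have hπs : Function.Surjective π := QuotientGroup.mk'_surjective N'
  have hker : π.ker = N' := QuotientGroup.ker_mk' N'
  set Y' := Y.subgroupOf X with hY'
  have hNY' : N' ≤ Y' := fun x hx => hNY hx
  obtain ⟨Cq, hCq⟩ := hK.exists_isCompl (Y'.map π)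
  set C' := Cq.comap π with hC'
  have hNC' : N' ≤ C' := by
    rw [← hker]; exact Subgroup.ker_le_comap π Cq
  have hYcm : (Y'.map π).comap π = Y' := by
    apply Subgroup.comap_map_eq_self
    rw [hker]; exact hNY'
  have hsup : Y' ⊔ C' = ⊤ := by
    rw [← hYcm, hC', Subgroup.comap_sup_eq _ _ _ hπs, hCq.sup_eq_top, Subgroup.comap_top]
  have hinf : Y' ⊓ C' = N' := by
    rw [← hYcm, hC', ← Subgroup.comap_inf, hCq.inf_eq_bot, MonoidHom.comap_bot, hker]
  have hmY : Y'.map X.subtype = Y := Subgroup.map_subgroupOf_eq_of_le hYX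
  have hmN : N'.map X.subtype = N := Subgroup.map_subgroupOf_eq_of_le hNX
  refine ⟨C'.map X.subtype, ?_, Subgroup.map_subtype_le C', ?_, ?_⟩
  · rw [← hmN]; exact Subgroup.map_mono hNC'
  · have h2 : (Y' ⊔ C').map X.subtype = X := by
      rw [hsup, ← MonoidHom.range_eq_map, Subgroup.range_subtype]
    rw [Subgroup.map_sup, hmY] at h2
    exact h2
  · have h2 : (Y' ⊓ C').map X.subtype = N := by
      rw [hinf, hmN]
    rw [Subgroup.map_inf _ _ _ X.subtype_injective, hmY] at h2
    exact h2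

theorem exists_good_conj {G : Type*} [Group G] [Finite G] [IsSimpleGroup G] (M N H : Subgroup G)
    (hMtop : M ≠ ⊤) (hNbot : N ≠ ⊥) (hcen : ∀ n ∈ N, ∀ m ∈ M, m * n = n * m)
    (hHbot : H ≠ ⊥) (hHtop : H ≠ ⊤) :
    ∃ b : G, ¬ H ≤ M.map (MulAut.conj b).toMonoidHom ∧ ¬ N.map (MulAut.conj b).toMonoidHom ≤ H := by
  by_contra hcon
  push Not at hcon
  set K : Subgroup G := ⨆ g : {g : G // N.map (MulAut.conj g).toMonoidHom ≤ H},
    N.map (MulAut.conj (g : G)).toMonoidHom with hKdef
  have hKH : K ≤ H := iSup_le fun g => g.2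
  have hnorm : ∀ g : G, N.map (MulAut.conj g).toMonoidHom ≤ Subgroup.normalizer (K : Set G) := by
    intro g
    by_cases hg : N.map (MulAut.conj g).toMonoidHom ≤ H
    · exact (le_iSup (fun g : {g : G // N.map (MulAut.conj g).toMonoidHom ≤ H} =>
        N.map (MulAut.conj (g : G)).toMonoidHom) ⟨g, hg⟩).trans Subgroup.le_normalizer
    · have hHM : H ≤ M.map (MulAut.conj g).toMonoidHom := by
        by_contra h'
        exact hg (hcon g h')
      refine le_trans ?_ (Subgroup.centralizer_le_normalizer (K : Set G))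
      rintro x ⟨n, hn, rfl⟩
      rw [Subgroup.mem_centralizer_iff]
      intro k hk
      obtain ⟨m, hm, rfl⟩ := hHM (hKH hk)
      have := hcen n hn m hm
      simp only [MulEquiv.coe_toMonoidHom, MulAut.conj_apply]
      calc g * m * g⁻¹ * (g * n * g⁻¹) = g * (m * n) * g⁻¹ := by group
        _ = g * (n * m) * g⁻¹ := by rw [this]
        _ = g * n * g⁻¹ * (g * m * g⁻¹) := by group
  have hNC : Subgroup.normalClosure (N : Set G) = ⊤ := by
    rcases (Subgroup.normalClosure_normal (s := (N : Set G))).eq_bot_or_eq_top with h | h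
    · exfalso
      apply hNbot
      rw [eq_bot_iff, ← h]
      exact Subgroup.le_normalClosure
    · exact h
  have hKnormalizer : Subgroup.normalizer (K : Set G) = ⊤ := by
    rw [eq_top_iff, ← hNC, Subgroup.normalClosure, Subgroup.closure_le]
    intro x hx
    rw [Group.mem_conjugatesOfSet_iff] at hx
    obtain ⟨n, hn, hconj⟩ := hx
    rw [isConj_iff] at hconj
    obtain ⟨c, rfl⟩ := hconj
    apply hnorm c
    exact ⟨n, hn, by simp [MulAut.conj_apply]⟩
  have hKnormal : K.Normal := Subgroup.normalizer_eq_top_iff.mp hKnormalizer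
  have hKbot : K = ⊥ := by
    rcases hKnormal.eq_bot_or_eq_top with h | h
    · exact h
    · exfalso; apply hHtop; rw [eq_top_iff, ← h]; exact hKH
  have hall : ∀ g : G, H ≤ M.map (MulAut.conj g).toMonoidHom := by
    intro g
    by_contra h'
    have h1 := hcon g h'
    have h2 : N.map (MulAut.conj g).toMonoidHom ≤ K :=
      le_iSup (fun g : {g : G // N.map (MulAut.conj g).toMonoidHom ≤ H} =>
        N.map (MulAut.conj (g : G)).toMonoidHom) ⟨g, h1⟩
    rw [hKbot, le_bot_iff] at h2
    apply hNbot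
    rw [eq_bot_iff]
    intro n hn
    have : (MulAut.conj g).toMonoidHom n ∈ N.map (MulAut.conj g).toMonoidHom :=
      Subgroup.mem_map_of_mem _ hn
    rw [h2, Subgroup.mem_bot] at this
    have h3 : (MulAut.conj g) n = (MulAut.conj g) 1 := by
      rw [map_one]; exact this
    rw [Subgroup.mem_bot]
    exact (MulAut.conj g).injective h3
  have hcore : M.normalCore = ⊥ := by
    rcases (Subgroup.normalCore_normal M).eq_bot_or_eq_top with h | h
    · exact h
    · exfalso; apply hMtop; rw [eq_top_iff, ← h]; exact Subgroup.normalCore_le M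
  apply hHbot
  rw [eq_bot_iff, ← hcore]
  intro h hh b
  obtain ⟨m, hm, hmh⟩ := hall b⁻¹ hh
  have : b * h * b⁻¹ = m := by
    rw [← hmh]
    simp
    group
  rw [this]; exact hm

/-- Let G be a finite simple group, X a subgroup lying in exactly one maximal subgroup M of G, and N a subgroup of prime order with N ≤ X that is central in M. If the subgroup lattice of X/N is complemented, then the subgroup lattice of G is complemented. -/
theorem result {G : Type*} [Group G] [Finite G] [IsSimpleGroup G] (X M N : Subgroup G)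
    (hM : IsCoatom M) (hXM : X ≤ M) (huniq : ∀ M' : Subgroup G, IsCoatom M' → X ≤ M' → M' = M)
    (hNX : N ≤ X) (hN : (Nat.card N).Prime) (hcen : ∀ n ∈ N, ∀ m ∈ M, m * n = n * m)
    [(N.subgroupOf X).Normal] (hK : ComplementedLattice (Subgroup (X ⧸ N.subgroupOf X))) :
    ComplementedLattice (Subgroup G) := by
  refine ⟨fun H => ?_⟩
  by_cases hHbot : H = ⊥
  · subst hHbot; exact ⟨⊤, isCompl_bot_top⟩
  by_cases hHtop : H = ⊤
  · subst hHtop; exact ⟨⊥, isCompl_top_bot⟩
  have hXtop : X ≠ ⊤ := by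
    rintro rfl
    exact hM.1 (top_le_iff.mp hXM)
  have hNbot : N ≠ ⊥ := by
    rintro rfl
    rw [Subgroup.card_bot] at hN
    exact Nat.not_prime_one hN
  obtain ⟨b, hb1, hb2⟩ := exists_good_conj M N H hM.1 hNbot hcen hHbot hHtop
  set φ : G ≃* G := (MulAut.conj b)⁻¹ with hφ
  have hinv : ∀ L : Subgroup G, (L.map φ.toMonoidHom).map (MulAut.conj b).toMonoidHom = L := by
    intro L
    rw [Subgroup.map_map]
    have : (MulAut.conj b).toMonoidHom.comp φ.toMonoidHom = MonoidHom.id G := by
      ext x; simp [hφ]; group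
    rw [this, Subgroup.map_id]
  have hH' : ¬ H.map φ.toMonoidHom ≤ M := by
    intro hle
    apply hb1
    rw [← hinv H]
    exact Subgroup.map_mono hle
  have hNH' : ¬ N ≤ H.map φ.toMonoidHom := by
    intro hle
    apply hb2
    rw [← hinv H]
    exact Subgroup.map_mono hle
  have hdisj : H.map φ.toMonoidHom ⊓ N = ⊥ := by
    have : Fact (Nat.card N).Prime := ⟨hN⟩
    rcases Subgroup.eq_bot_or_eq_top_of_prime_card ((H.map φ.toMonoidHom).subgroupOf N) with h | h
    · rw [Subgroup.subgroupOf_eq_bot] at h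
      exact h.eq_bot
    · rw [Subgroup.subgroupOf_eq_top] at h
      exact absurd h hNH'
  have := Cfsg.Agent.S5901.result N X M hNX hXtop (interval_of_quotient X N hNX hK) hM hXM huniq
    (H.map φ.toMonoidHom) hH' hdisj
  obtain ⟨C, hC1, hC2⟩ := compl_of_map_equiv φ H this
  exact ⟨C, by rw [isCompl_iff, disjoint_iff, codisjoint_iff]; exact ⟨hC2, hC1⟩⟩

end Cfsg.Agent.S5903
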