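import Cfsg.Statements.S5904
-- import your own Cfsg.Agent.* helpers here

set_option autoImplicit false
open scoped Pointwise
open Cfsg

namespace Cfsg.Agent.S5904

/-- Let Ω be a finite set with more than two elements and O ⊆ Ω a subset with exactly as many elements as its complement. Then the setwise stabilizer of O in the symmetric group on Ω is not a maximal subgroup (it is properly contained in the stabilizer of the partition {O, Ω ∖ O}, which is proper). -/
theorem result {Ω : Type*} [Fintype Ω] [DecidableEq Ω] (hΩ : 2 < Fintype.card Ω)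
    (O : Set Ω) (hO : Nat.card O = Nat.card ↥Oᶜ) :
    ¬ IsCoatom (MulAction.stabilizer (Equiv.Perm Ω) O) := by
  classical
  intro hco
  have hmemK : ∀ g : Equiv.Perm Ω,
      g ∈ MulAction.stabilizer (Equiv.Perm Ω) ({O, Oᶜ} : Set (Set Ω)) ↔ (g • O = O ∨ g • O = Oᶜ) := by
    intro g
    rw [MulAction.mem_stabilizer_iff, Set.smul_set_insert, Set.smul_set_singleton, Set.smul_set_compl]
    constructor
    · intro h
      have : g • O ∈ ({g • O, (g • O)ᶜ} : Set (Set Ω)) := Set.mem_insert _ _
      rw [h] at this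
      simpa using this
    · rintro (h | h)
      · rw [h]
      · rw [h, compl_compl, Set.pair_comm]
  have hcard : O.ncard + O.ncard = Fintype.card Ω := by
    have h1 := Set.ncard_add_ncard_compl O
    rw [Nat.card_coe_set_eq, Nat.card_coe_set_eq] at hO
    rw [← hO, Nat.card_eq_fintype_card] at h1
    exact h1
  have h2 : 1 < O.ncard := by omega
  obtain ⟨a, a', ha, ha', haa'⟩ := (Set.one_lt_ncard_iff (Set.toFinite O)).mp h2
  have hc : Oᶜ.ncard ≠ 0 := by
    rw [Nat.card_coe_set_eq, Nat.card_coe_set_eq] at hO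
    omega
  obtain ⟨b, hb⟩ := Set.nonempty_of_ncard_ne_zero hc
  have hbO : b ∉ O := hb
  -- the swapping permutation
  have hcardeq : Fintype.card O = Fintype.card ↥Oᶜ := by
    rw [← Nat.card_eq_fintype_card, ← Nat.card_eq_fintype_card]; exact hO
  obtain ⟨e⟩ := Fintype.card_eq.mp hcardeq
  let f : Ω → Ω := fun x => if h : x ∈ O then (e ⟨x, h⟩ : Ω) else (e.symm ⟨x, h⟩ : Ω)
  have hfO : ∀ x, x ∈ O → f x ∉ O := by
    intro x hx
    simp only [f, dif_pos hx]
    exact (e ⟨x, hx⟩).2
  have hfOc : ∀ x, x ∉ O → f x ∈ O := by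
    intro x hx
    simp only [f, dif_neg hx]
    exact (e.symm ⟨x, hx⟩).2
  have hf : Function.Involutive f := by
    intro x
    by_cases hx : x ∈ O
    · have h1 : f x = (e ⟨x, hx⟩ : Ω) := by simp only [f, dif_pos hx]
      have h2 : f x ∉ O := hfO x hx
      have h3 : f (f x) = (e.symm ⟨f x, h2⟩ : Ω) := by simp only [f, dif_neg h2]
      rw [h3]
      have : (⟨f x, h2⟩ : ↥Oᶜ) = e ⟨x, hx⟩ := Subtype.ext h1
      rw [this, Equiv.symm_apply_apply]
    · have h1 : f x = (e.symm ⟨x, hx⟩ : Ω) := by simp only [f, dif_neg hx]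
      have h2 : f x ∈ O := hfOc x hx
      have h3 : f (f x) = (e ⟨f x, h2⟩ : Ω) := by simp only [f, dif_pos h2]
      rw [h3]
      have : (⟨f x, h2⟩ : O) = e.symm ⟨x, hx⟩ := Subtype.ext h1
      rw [this, Equiv.apply_symm_apply]
  set σ : Equiv.Perm Ω := hf.toPerm f with hσ
  have hσO : σ • O = Oᶜ := by
    apply Set.Subset.antisymm
    · rintro y ⟨x, hx, rfl⟩
      exact hfO x hx
    · have h1 : σ • Oᶜ ⊆ O := by
        rintro y ⟨x, hx, rfl⟩
        exact hfOc x hx
      rw [Set.smul_set_compl] at h1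
      exact Set.compl_subset_comm.mp h1
  have hlt : MulAction.stabilizer (Equiv.Perm Ω) O <
      MulAction.stabilizer (Equiv.Perm Ω) ({O, Oᶜ} : Set (Set Ω)) := by
    rw [lt_iff_le_and_ne]
    constructor
    · intro g hg
      rw [hmemK]
      left
      exact MulAction.mem_stabilizer_iff.mp hg
    · intro heq
      have hσK : σ ∈ MulAction.stabilizer (Equiv.Perm Ω) ({O, Oᶜ} : Set (Set Ω)) := by
        rw [hmemK]; right; exact hσO
      rw [← heq, MulAction.mem_stabilizer_iff, hσO] at hσK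
      have : a ∈ Oᶜ := by rw [hσK]; exact ha
      exact this ha
  have htop := hco.2 _ hlt
  have hsw : Equiv.swap a b ∈ MulAction.stabilizer (Equiv.Perm Ω) ({O, Oᶜ} : Set (Set Ω)) := by
    rw [htop]; exact Subgroup.mem_top _
  rw [hmemK] at hsw
  have hbmem : b ∈ Equiv.swap a b • O := ⟨a, ha, by simp⟩
  have ha'b : a' ≠ b := fun h => hbO (h ▸ ha')
  have ha'mem : a' ∈ Equiv.swap a b • O :=
    ⟨a', ha', by simp [Equiv.swap_apply_of_ne_of_ne haa'.symm ha'b]⟩
  rcases hsw with h | h
  · rw [h] at hbmem; exact hbO hbmem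
  · rw [h] at ha'mem; exact ha'mem ha'

end Cfsg.Agent.S5904
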