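import Cfsg.Statements.S5908
-- import your own Cfsg.Agent.* helpers here
import Mathlib
import Cfsg.Agent.Lib_helper4_SU32

set_option autoImplicit false
open Cfsg

namespace Cfsg.Agent.S5908

open QuaternionGroup

theorem q8_pow : ∀ s : QuaternionGroup 2, s ≠ 1 → s = a 2 ∨ s * s = a 2 := by decide

theorem q8_a2_sq : (a 2 : QuaternionGroup 2) ^ 2 = 1 := by decide

theorem q8_a2_ne : (a 2 : QuaternionGroup 2) ≠ 1 := by decide

theorem not_complemented_of_surj {G : Type*} [Group G] (ρ : G →* QuaternionGroup 2)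
    (hρ : Function.Surjective ρ) : ¬ ComplementedLattice (Subgroup G) := by
  intro hc
  set H : Subgroup G := (Subgroup.zpowers (a 2 : QuaternionGroup 2)).comap ρ with hH
  obtain ⟨K, hK⟩ := exists_isCompl H
  have h1 : (H ⊔ K).map ρ = ⊤ := by
    rw [hK.sup_eq_top, ← MonoidHom.range_eq_map, MonoidHom.range_eq_top.mpr hρ]
  rw [Subgroup.map_sup] at h1
  have h2 : H.map ρ ≤ Subgroup.zpowers (a 2 : QuaternionGroup 2) := Subgroup.map_comap_le _ _
  have h3 : Subgroup.zpowers (a 2 : QuaternionGroup 2) ⊔ K.map ρ = ⊤ :=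
    top_le_iff.mp (h1 ▸ sup_le_sup_right h2 _)
  have h4 : (a 2 : QuaternionGroup 2) ∈ K.map ρ := by
    by_contra hn
    have hbot : K.map ρ = ⊥ := by
      rw [Subgroup.eq_bot_iff_forall]
      intro s hs
      by_contra hs1
      rcases q8_pow s hs1 with h5 | h5
      · exact hn (h5 ▸ hs)
      · exact hn (h5 ▸ Subgroup.mul_mem _ hs hs)
    rw [hbot, sup_bot_eq] at h3
    have h6 : Nat.card (Subgroup.zpowers (a 2 : QuaternionGroup 2)) = 2 := by
      rw [Nat.card_zpowers]
      exact orderOf_eq_prime q8_a2_sq q8_a2_ne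
    rw [h3, Subgroup.card_top, Nat.card_eq_fintype_card, QuaternionGroup.card] at h6
    omega
  obtain ⟨k, hkK, hk⟩ := h4
  have hkH : k ∈ H := by
    rw [hH, Subgroup.mem_comap, hk]
    exact Subgroup.mem_zpowers _
  have hk1 : k = 1 := by
    have : k ∈ H ⊓ K := ⟨hkH, hkK⟩
    rw [hK.inf_eq_bot] at this
    exact this
  rw [hk1, map_one] at hk
  exact q8_a2_ne hk.symm


/-- The subgroup lattice of PSU₃(2) (the solvable group of order 72, realised over the field with 4 elements) is not complemented: some subgroup H has no subgroup X with H ⊔ X = ⊤ and H ⊓ X = ⊥. -/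
theorem result {F : Type*} [Field F] [Fintype F] (hF : Fintype.card F = 4) :
    ¬ ComplementedLattice (Subgroup (Cfsg.PSU 3 F 2)) := by
  obtain ⟨N, hN, -, -, ⟨e⟩⟩ := Cfsg.Agent.helper4.SU32.main hF
  exact not_complemented_of_surj (e.toMonoidHom.comp (QuotientGroup.mk' N))
    (e.surjective.comp (QuotientGroup.mk'_surjective N))

end Cfsg.Agent.S5908
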