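import Cfsg.Statements.S5909
import Mathlib
import Cfsg.Agent.S5905
import Cfsg.Agent.S5885
-- import your own Cfsg.Agent.* helpers here

set_option autoImplicit false
open Cfsg

namespace Cfsg.Agent.S5909

open scoped Pointwise
open MulAction Cfsg.Agent.S5905

section general
variable {Ω : Type*} [Fintype Ω] [DecidableEq Ω] {b : ℕ}

/-- room: a pair inside a fibre avoiding two given points -/
def Room (f : Ω → Fin b) : Prop :=
  ∀ x y : Ω, ∃ c d : Ω, c ≠ d ∧ f c = f d ∧ c ≠ x ∧ c ≠ y ∧ d ≠ x ∧ d ≠ y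

theorem card_eq_mul (f : Ω → Fin b) (a : ℕ)
    (hfib : ∀ i : Fin b, Fintype.card {x : Ω // f x = i} = a) :
    Fintype.card Ω = b * a := by
  rw [Fintype.card_congr (Equiv.sigmaFiberEquiv f).symm, Fintype.card_sigma]
  simp only [hfib, Finset.sum_const, Finset.card_univ, Fintype.card_fin, smul_eq_mul]

theorem room_of_card (f : Ω → Fin b) (hb : b + 2 < Fintype.card Ω) : Room f := by
  intro x y
  have hcard : (Finset.univ : Finset (Fin b)).card < ((Finset.univ : Finset Ω) \ {x, y}).card := by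
    have h1 : ((Finset.univ : Finset Ω) \ {x, y}).card ≥ Fintype.card Ω - 2 := by
      have h2 := Finset.le_card_sdiff ({x, y} : Finset Ω) Finset.univ
      have h3 : ({x, y} : Finset Ω).card ≤ 2 := Finset.card_le_two
      rw [Finset.card_univ] at h2
      omega
    rw [Finset.card_univ, Fintype.card_fin]
    omega
  obtain ⟨c, hc, d, hd, hcd, hfcd⟩ :=
    Finset.exists_ne_map_eq_of_card_lt_of_maps_to hcard (f := f) (fun _ _ => Finset.mem_coe.mpr (Finset.mem_univ _))
  simp only [Finset.mem_sdiff, Finset.mem_univ, true_and, Finset.mem_insert,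
    Finset.mem_singleton, not_or] at hc hd
  exact ⟨c, d, hcd, hfcd, hc.1, hc.2, hd.1, hd.2⟩

theorem even_fix (f : Ω → Fin b) (hroom : Room f) {K : Subgroup (Equiv.Perm Ω)}
    (hXK : wr f ⊓ alternatingGroup Ω ≤ K) {w : Equiv.Perm Ω} (hw : w ∈ wr f) (x y : Ω) :
    ∃ w' ∈ K, w' x = w x ∧ w' y = w y := by
  by_cases hs : Equiv.Perm.sign w = 1
  · exact ⟨w, hXK (Subgroup.mem_inf.mpr ⟨hw, Equiv.Perm.mem_alternatingGroup.mpr hs⟩), rfl, rfl⟩
  · obtain ⟨c, d, hcd, hfcd, hcx, hcy, hdx, hdy⟩ := hroom x y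
    refine ⟨w * Equiv.swap c d,
      hXK (Subgroup.mem_inf.mpr ⟨(wr f).mul_mem hw (swap_mem_wr f hfcd), ?_⟩), ?_, ?_⟩
    · rw [Equiv.Perm.mem_alternatingGroup, map_mul, Equiv.Perm.sign_swap hcd]
      have : Equiv.Perm.sign w = -1 := (Int.units_eq_one_or _).resolve_left hs
      rw [this]; rfl
    · rw [Equiv.Perm.mul_apply, Equiv.swap_apply_of_ne_of_ne hcx.symm hdx.symm]
    · rw [Equiv.Perm.mul_apply, Equiv.swap_apply_of_ne_of_ne hcy.symm hdy.symm]

theorem block_closed' (f : Ω → Fin b) (hroom : Room f) {K : Subgroup (Equiv.Perm Ω)}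
    (hXK : wr f ⊓ alternatingGroup Ω ≤ K) {B : Set Ω} (hB : IsBlock K B)
    {w : Equiv.Perm Ω} (hw : w ∈ wr f) {x y : Ω} (hx : x ∈ B) (hwx : w x ∈ B) (hy : y ∈ B) :
    w y ∈ B := by
  obtain ⟨w', hw'K, hw'x, hw'y⟩ := even_fix f hroom hXK hw x y
  have := block_closed hB hw'K hx (by rw [hw'x]; exact hwx) hy
  rwa [hw'y] at this

theorem block_eq_univ' (f : Ω → Fin b) (hroom : Room f)
    (hcard : ∀ i j : Fin b, Nonempty ({x : Ω // f x = i} ≃ {x : Ω // f x = j}))
    {K : Subgroup (Equiv.Perm Ω)} (hXK : wr f ⊓ alternatingGroup Ω ≤ K) {B : Set Ω}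
    (hB : IsBlock K B)
    {x u : Ω} (hx : x ∈ B) (hu : u ∈ B) (hxu : f x ≠ f u) : B = Set.univ := by
  have hne : x ≠ u := fun h => hxu (h ▸ rfl)
  have hFx : ∀ y, f y = f x → y ∈ B := by
    intro y hy
    by_cases hyx : y = x
    · rw [hyx]; exact hx
    · have hyu : u ≠ y := fun h => hxu (by rw [← hy, h])
      have h1 : Equiv.swap x y u = u := Equiv.swap_apply_of_ne_of_ne hne.symm hyu
      have := block_closed' f hroom hXK hB (swap_mem_wr f hy.symm) hu (by rw [h1]; exact hu) hx
      rwa [Equiv.swap_apply_left] at this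
  have hFu : ∀ y, f y = f u → y ∈ B := by
    intro y hy
    by_cases hyu : y = u
    · rw [hyu]; exact hu
    · have hyx : x ≠ y := fun h => hxu (by rw [← hy, h])
      have h1 : Equiv.swap u y x = x := Equiv.swap_apply_of_ne_of_ne hne hyx
      have := block_closed' f hroom hXK hB (swap_mem_wr f hy.symm) hx (by rw [h1]; exact hx) hu
      rwa [Equiv.swap_apply_left] at this
  rw [Set.eq_univ_iff_forall]
  intro v
  by_cases h1 : f v = f x
  · exact hFx v h1
  by_cases h2 : f v = f u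
  · exact hFu v h2
  obtain ⟨w, hwW, hwu, hwfix⟩ := exists_transfer f hcard (u := u) (v := v) (Ne.symm h2)
  have hwx : w x = x := hwfix x hxu (Ne.symm h1)
  have := block_closed' f hroom hXK hB hwW hx (by rw [hwx]; exact hx) hu
  rwa [hwu] at this

theorem prim_of_not_le (f : Ω → Fin b) (hroom : Room f)
    (hcard : ∀ i j : Fin b, Nonempty ({x : Ω // f x = i} ≃ {x : Ω // f x = j}))
    {K : Subgroup (Equiv.Perm Ω)} (hXK : wr f ⊓ alternatingGroup Ω ≤ K)
    (hKW : ¬ K ≤ wr f) : IsPreprimitive K Ω := by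
  have htrans : IsPretransitive K Ω := by
    constructor
    intro p q
    by_cases hpq : f p = f q
    · obtain ⟨w', hw'K, hw'p, _⟩ := even_fix f hroom hXK (swap_mem_wr f hpq) p p
      exact ⟨⟨w', hw'K⟩, by show w' p = q; rw [hw'p, Equiv.swap_apply_left]⟩
    · obtain ⟨w, hwW, hwu, _⟩ := exists_transfer f hcard hpq
      obtain ⟨w', hw'K, hw'p, _⟩ := even_fix f hroom hXK hwW p p
      exact ⟨⟨w', hw'K⟩, by show w' p = q; rw [hw'p, hwu]⟩
  obtain ⟨g, hgG, p, q, hpq, hgpq⟩ : ∃ g ∈ K, ∃ p q, f p = f q ∧ f (g p) ≠ f (g q) := by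
    obtain ⟨g, hgG, hgW⟩ := SetLike.not_le_iff_exists.mp hKW
    by_contra hcon
    push Not at hcon
    apply hgW
    intro x y
    constructor
    · exact hcon g hgG x y
    · intro h
      have := hcon g⁻¹ (K.inv_mem hgG) (g x) (g y) h
      simpa using this
  apply IsPreprimitive.of_isTrivialBlock_base p
  intro B hpB hB
  by_cases hsub : B.Subsingleton
  · left; exact hsub
  right
  obtain ⟨y, hyB, hyp⟩ : ∃ y ∈ B, y ≠ p := by
    by_contra hcon
    push Not at hcon
    apply hsub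
    intro s hs t ht
    rw [hcon s hs, hcon t ht]
  by_cases hfy : f y = f p
  · have hqB : q ∈ B := by
      by_cases hqy : q = y
      · rw [hqy]; exact hyB
      by_cases hqp : q = p
      · rw [hqp]; exact hpB
      have h1 : Equiv.swap y q p = p := Equiv.swap_apply_of_ne_of_ne hyp.symm (Ne.symm hqp)
      have := block_closed' f hroom hXK hB (swap_mem_wr f (hfy.trans hpq)) hpB
        (by rw [h1]; exact hpB) hyB
      rwa [Equiv.swap_apply_left] at this
    have hgB : IsBlock K ((⟨g, hgG⟩ : K) • B) := hB.translate _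
    have h1 : g p ∈ (⟨g, hgG⟩ : K) • B := Set.smul_mem_smul_set (a := (⟨g, hgG⟩ : K)) hpB
    have h2 : g q ∈ (⟨g, hgG⟩ : K) • B := Set.smul_mem_smul_set (a := (⟨g, hgG⟩ : K)) hqB
    have h3 := block_eq_univ' f hroom hcard hXK hgB h1 h2 hgpq
    have h4 : B = (⟨g, hgG⟩ : K)⁻¹ • ((⟨g, hgG⟩ : K) • B) := (inv_smul_smul _ B).symm
    rw [h4, h3, Set.smul_set_univ]
  · exact block_eq_univ' f hroom hcard hXK hB hpB hyB (Ne.symm hfy)

end general

section two
variable {Ω : Type*} [Fintype Ω] [DecidableEq Ω] {b : ℕ}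

/-- `π` maps every point to the other point of its fibre (fibres of size two) -/
def IsPartner (f : Ω → Fin b) (π : Ω → Ω) : Prop :=
  ∀ x, π x ≠ x ∧ f (π x) = f x ∧ ∀ y, f y = f x → y = x ∨ y = π x

variable {f : Ω → Fin b} {π : Ω → Ω}

theorem partner_invol (hπ : IsPartner f π) (x : Ω) : π (π x) = x := by
  obtain ⟨_, h2, h3⟩ := hπ x
  obtain ⟨h1', h2', _⟩ := hπ (π x)
  rcases h3 (π (π x)) (h2'.trans h2) with h | h
  · exact h
  · exact absurd h h1'

theorem partner_swap (hπ : IsPartner f π) (g : Equiv.Perm Ω) {α β : Ω}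
    (h : g (π α) = g β) : g α = g (π β) := by
  have h1 : π α = β := g.injective h
  rw [← h1, partner_invol hπ]

theorem exists_partner (f : Ω → Fin b) (hfib : ∀ i : Fin b, Nat.card {x : Ω // f x = i} = 2) :
    ∃ π : Ω → Ω, IsPartner f π := by
  have h : ∀ x : Ω, ∃ x' : Ω, x' ≠ x ∧ f x' = f x ∧ ∀ y, f y = f x → y = x ∨ y = x' := by
    intro x
    obtain ⟨u, v, huv, huniv⟩ := Nat.card_eq_two_iff.mp (hfib (f x))
    have key : ∀ y : {y : Ω // f y = f x}, y = u ∨ y = v := by
      intro y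
      have : y ∈ ({u, v} : Set {y : Ω // f y = f x}) := by rw [huniv]; exact Set.mem_univ _
      simpa using this
    rcases key ⟨x, rfl⟩ with hxu | hxv
    · refine ⟨v.1, ?_, v.2, ?_⟩
      · intro h
        apply huv
        rw [← hxu]
        exact Subtype.ext h.symm
      · intro y hy
        rcases key ⟨y, hy⟩ with h' | h'
        · left
          have := congrArg Subtype.val (h'.trans hxu.symm)
          exact this
        · right
          exact congrArg Subtype.val h'
    · refine ⟨u.1, ?_, u.2, ?_⟩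
      · intro h
        apply huv
        rw [← hxv]
        exact Subtype.ext h
      · intro y hy
        rcases key ⟨y, hy⟩ with h' | h'
        · right
          exact congrArg Subtype.val h'
        · left
          have := congrArg Subtype.val (h'.trans hxv.symm)
          exact this
  choose π hπ using h
  exact ⟨π, hπ⟩

theorem ds_mem {x x' y y' : Ω} (hx : x ≠ x') (hfx : f x = f x') (hy : y ≠ y')
    (hfy : f y = f y') :
    Equiv.swap x x' * Equiv.swap y y' ∈ wr f ⊓ alternatingGroup Ω := by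
  refine Subgroup.mem_inf.mpr ⟨(wr f).mul_mem (swap_mem_wr f hfx) (swap_mem_wr f hfy), ?_⟩
  rw [Equiv.Perm.mem_alternatingGroup, map_mul, Equiv.Perm.sign_swap hx, Equiv.Perm.sign_swap hy]
  rfl

theorem bs_mem (hπ : IsPartner f π) {x y : Ω} (hxy : f x ≠ f y) :
    Equiv.swap x y * Equiv.swap (π x) (π y) ∈ wr f ⊓ alternatingGroup Ω := by
  have hx := hπ x
  have hy := hπ y
  have hne : x ≠ y := fun h => hxy (h ▸ rfl)
  have hne' : π x ≠ π y := fun h => hxy (by rw [← hx.2.1, ← hy.2.1, h])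
  refine Subgroup.mem_inf.mpr ⟨?_, ?_⟩
  · have key : ∀ z, f ((Equiv.swap x y * Equiv.swap (π x) (π y)) z)
        = Equiv.swap (f x) (f y) (f z) := by
      intro z
      rw [Equiv.Perm.mul_apply]
      by_cases hz1 : z = π x
      · rw [hz1, Equiv.swap_apply_left]
        have h1 : π y ≠ x := fun h => hxy (by rw [← h, hy.2.1])
        rw [Equiv.swap_apply_of_ne_of_ne h1 hy.1, hy.2.1, hx.2.1, Equiv.swap_apply_left]
      by_cases hz2 : z = π y
      · rw [hz2, Equiv.swap_apply_right]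
        have h1 : π x ≠ y := fun h => hxy (by rw [← h, hx.2.1])
        rw [Equiv.swap_apply_of_ne_of_ne hx.1 h1, hx.2.1, hy.2.1, Equiv.swap_apply_right]
      rw [Equiv.swap_apply_of_ne_of_ne hz1 hz2]
      by_cases hz3 : z = x
      · rw [hz3, Equiv.swap_apply_left, Equiv.swap_apply_left]
      by_cases hz4 : z = y
      · rw [hz4, Equiv.swap_apply_right, Equiv.swap_apply_right]
      rw [Equiv.swap_apply_of_ne_of_ne hz3 hz4]
      have h5 : f z ≠ f x := fun h => by
        rcases hx.2.2 z h with h' | h'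
        · exact hz3 h'
        · exact hz1 h'
      have h6 : f z ≠ f y := fun h => by
        rcases hy.2.2 z h with h' | h'
        · exact hz4 h'
        · exact hz2 h'
      rw [Equiv.swap_apply_of_ne_of_ne h5 h6]
    intro u v
    rw [key, key, Equiv.apply_eq_iff_eq]
  · rw [Equiv.Perm.mem_alternatingGroup, map_mul, Equiv.Perm.sign_swap hne,
      Equiv.Perm.sign_swap hne']
    rfl

theorem conj_ds (h : Equiv.Perm Ω) (u v u' v' : Ω) :
    h * (Equiv.swap u v * Equiv.swap u' v') * h⁻¹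
      = Equiv.swap (h u) (h v) * Equiv.swap (h u') (h v') := by
  rw [Equiv.swap_apply_apply, Equiv.swap_apply_apply]; group

theorem cancel_ds {K : Subgroup (Equiv.Perm Ω)} {s₁ s₂ σ : Equiv.Perm Ω}
    (h1 : s₁ * σ ∈ K) (h2 : s₂ * σ ∈ K) : s₁ * s₂⁻¹ ∈ K := by
  have := K.mul_mem h1 (K.inv_mem h2)
  have e : s₁ * σ * (s₂ * σ)⁻¹ = s₁ * s₂⁻¹ := by group
  rwa [e] at this

theorem swap2_apply_of_ne {a c d e y : Ω} (h1 : y ≠ a) (h2 : y ≠ c) (h3 : y ≠ d) (h4 : y ≠ e) :
    (Equiv.swap a c * Equiv.swap d e) y = y := by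
  rw [Equiv.Perm.mul_apply, Equiv.swap_apply_of_ne_of_ne h3 h4, Equiv.swap_apply_of_ne_of_ne h1 h2]

theorem exists_not_mem_list (l : List Ω) (h : l.length < Fintype.card Ω) : ∃ z, z ∉ l := by
  by_contra hall
  push Not at hall
  have h1 : l.toFinset = Finset.univ := Finset.eq_univ_iff_forall.mpr
    (fun z => List.mem_toFinset.mpr (hall z))
  have h2 := List.toFinset_card_le l
  rw [h1, Finset.card_univ] at h2
  omega

theorem three_cycle_big (hπ : IsPartner f π) (h9 : 9 ≤ Fintype.card Ω)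
    {K : Subgroup (Equiv.Perm Ω)} (hXK : wr f ⊓ alternatingGroup Ω ≤ K)
    (g : Equiv.Perm Ω) (hgK : g ∈ K) (a₀ : Ω) (hga : f (g a₀) ≠ f (g (π a₀))) :
    ∃ c ∈ K, c.IsThreeCycle := by
  obtain ⟨p, hp⟩ : ∃ p, p = g a₀ := ⟨_, rfl⟩
  obtain ⟨q, hq⟩ : ∃ q, q = g (π a₀) := ⟨_, rfl⟩
  rw [← hp, ← hq] at hga
  have hpq : p ≠ q := fun h => hga (h ▸ rfl)
  have hP := hπ p
  have hQ := hπ q
  have hpr : p ≠ π p := hP.1.symm
  have hqr : q ≠ π p := fun h => hga (by rw [h, hP.2.1])
  have hconj : ∀ k ∈ K, g * k * g⁻¹ ∈ K :=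
    fun k hk => K.mul_mem (K.mul_mem hgK hk) (K.inv_mem hgK)
  -- the point t
  obtain ⟨t, ht⟩ := exists_not_mem_list [p, q, π p, π q] (by simp; omega)
  simp only [List.mem_cons, List.mem_nil_iff, or_false, not_or] at ht
  obtain ⟨htp, htq, htr, hts⟩ := ht
  have hT := hπ t
  have hfpt : f p ≠ f t := by
    intro h
    rcases hP.2.2 t h.symm with h' | h'
    · exact htp h'
    · exact htr h'
  have hpu : p ≠ π t := fun h => htr (by rw [h, partner_invol hπ])
  have hqu : q ≠ π t := fun h => hts (by rw [h, partner_invol hπ])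
  have hxK : Equiv.swap p t * Equiv.swap (π p) (π t) ∈ K := hXK (bs_mem hπ hfpt)
  -- the point z
  obtain ⟨z, hz⟩ := exists_not_mem_list
    [p, q, π p, t, π t, g (π (g⁻¹ (π p))), g (π (g⁻¹ t)), g (π (g⁻¹ (π t)))] (by simp; omega)
  simp only [List.mem_cons, List.mem_nil_iff, or_false, not_or] at hz
  obtain ⟨hzp, hzq, hzr, hzt, hzu, hz1, hz2, hz3⟩ := hz
  obtain ⟨ζ, hζ⟩ : ∃ ζ, g ζ = z := ⟨g⁻¹ z, by simp⟩
  have hZ := hπ ζ
  -- z'' = g (π ζ)
  have hwp : g (π ζ) ≠ p := by
    intro h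
    rw [hp] at h
    have := partner_swap hπ g h
    rw [hζ, ← hq] at this
    exact hzq this
  have hwq : g (π ζ) ≠ q := by
    intro h
    rw [hq] at h
    have := partner_swap hπ g h
    rw [hζ, partner_invol hπ, ← hp] at this
    exact hzp this
  have hgen : ∀ y : Ω, z ≠ g (π (g⁻¹ y)) → g (π ζ) ≠ y := by
    intro y hy h
    apply hy
    have h1 : g (π ζ) = g (g⁻¹ y) := by rw [h]; simp
    have := partner_swap hπ g h1
    rw [hζ] at this
    exact this
  have hwr : g (π ζ) ≠ π p := hgen _ hz1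
  have hwt : g (π ζ) ≠ t := hgen _ hz2
  have hwu : g (π ζ) ≠ π t := hgen _ hz3
  have hfa : f a₀ ≠ f ζ := by
    intro h
    rcases (hπ a₀).2.2 ζ h.symm with h' | h'
    · apply hzp; rw [← hζ, h', hp]
    · apply hzq; rw [← hζ, h', hq]
  have hy1 : Equiv.swap p z * Equiv.swap q (g (π ζ)) ∈ K := by
    have := hconj _ (hXK (bs_mem hπ hfa))
    rw [conj_ds, ← hp, ← hq, hζ] at this
    exact this
  have hy2 : Equiv.swap t z * Equiv.swap q (g (π ζ)) ∈ K := by
    have := K.mul_mem (K.mul_mem hxK hy1) (K.inv_mem hxK)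
    rw [conj_ds] at this
    have e1 : (Equiv.swap p t * Equiv.swap (π p) (π t)) p = t := by
      rw [Equiv.Perm.mul_apply, Equiv.swap_apply_of_ne_of_ne hpr hpu, Equiv.swap_apply_left]
    have e2 : (Equiv.swap p t * Equiv.swap (π p) (π t)) z = z :=
      swap2_apply_of_ne hzp hzt hzr hzu
    have e3 : (Equiv.swap p t * Equiv.swap (π p) (π t)) q = q :=
      swap2_apply_of_ne hpq.symm (Ne.symm htq) hqr hqu
    have e4 : (Equiv.swap p t * Equiv.swap (π p) (π t)) (g (π ζ)) = g (π ζ) :=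
      swap2_apply_of_ne hwp hwt hwr hwu
    rw [e1, e2, e3, e4] at this
    exact this
  have h3 := cancel_ds hy1 hy2
  rw [Equiv.swap_inv, Equiv.swap_comm p z, Equiv.swap_comm t z] at h3
  exact ⟨_, h3, Equiv.Perm.isThreeCycle_swap_mul_swap_same hzp hzt (Ne.symm htp)⟩

theorem three_cycle_six (hπ : IsPartner f π) (h6 : Fintype.card Ω = 6)
    {K : Subgroup (Equiv.Perm Ω)} (hXK : wr f ⊓ alternatingGroup Ω ≤ K)
    (g : Equiv.Perm Ω) (hgK : g ∈ K) (a₀ : Ω) (hga : f (g a₀) ≠ f (g (π a₀))) :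
    ∃ c ∈ K, c.IsThreeCycle := by
  obtain ⟨p, hp⟩ : ∃ p, p = g a₀ := ⟨_, rfl⟩
  obtain ⟨q, hq⟩ : ∃ q, q = g (π a₀) := ⟨_, rfl⟩
  rw [← hp, ← hq] at hga
  have hpq : p ≠ q := fun h => hga (h ▸ rfl)
  have hP := hπ p
  have hQ := hπ q
  have hA₀ := hπ a₀
  have hrs : f (π p) ≠ f (π q) := by rw [hP.2.1, hQ.2.1]; exact hga
  have hpr : p ≠ π p := hP.1.symm
  have hqs : q ≠ π q := hQ.1.symm
  have hqr : q ≠ π p := fun h => hga (by rw [h, hP.2.1])
  have hps : p ≠ π q := fun h => hga (by rw [h, hQ.2.1])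
  have hrs' : π p ≠ π q := fun h => hrs (by rw [h])
  have hconj : ∀ k ∈ K, g * k * g⁻¹ ∈ K :=
    fun k hk => K.mul_mem (K.mul_mem hgK hk) (K.inv_mem hgK)
  obtain ⟨ρ, hρ⟩ : ∃ ρ, g ρ = π p := ⟨g⁻¹ (π p), by simp⟩
  have hR := hπ ρ
  by_cases hA : g (π ρ) = π q
  · -- the remaining two points form a common block
    obtain ⟨t, ht⟩ := exists_not_mem_list [p, q, π p, π q] (by simp; omega)
    simp only [List.mem_cons, List.mem_nil_iff, or_false, not_or] at ht
    obtain ⟨htp, htq, htr, hts⟩ := ht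
    have hT := hπ t
    obtain ⟨τ, hτ⟩ : ∃ τ, g τ = t := ⟨g⁻¹ t, by simp⟩
    have hTT := hπ τ
    have hpu : p ≠ π t := fun h => htr (by rw [h, partner_invol hπ])
    have hqu : q ≠ π t := fun h => hts (by rw [h, partner_invol hπ])
    have hru : π p ≠ π t := fun h => htp (by
      have := congrArg π h; rw [partner_invol hπ, partner_invol hπ] at this; exact this.symm)
    have hsu : π q ≠ π t := fun h => htq (by
      have := congrArg π h; rw [partner_invol hπ, partner_invol hπ] at this; exact this.symm)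
    have htu : t ≠ π t := hT.1.symm
    -- v = g (π τ)
    have hvp : g (π τ) ≠ p := by
      intro h; rw [hp] at h
      have := partner_swap hπ g h
      rw [hτ, ← hq] at this; exact htq this
    have hvq : g (π τ) ≠ q := by
      intro h; rw [hq] at h
      have := partner_swap hπ g h
      rw [hτ, partner_invol hπ, ← hp] at this; exact htp this
    have hvr : g (π τ) ≠ π p := by
      intro h; rw [← hρ] at h
      have := partner_swap hπ g h
      rw [hτ, hA] at this; exact hts this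
    have hvs : g (π τ) ≠ π q := by
      intro h; rw [← hA] at h
      have := partner_swap hπ g h
      rw [hτ, partner_invol hπ, hρ] at this; exact htr this
    have hvt : g (π τ) ≠ t := by
      intro h; rw [← hτ] at h
      exact hTT.1 (g.injective h)
    have hv : g (π τ) = π t := by
      have hnd : [p, q, π p, π q, t, π t].Nodup := by
        simp only [List.nodup_cons, List.mem_cons, List.mem_nil_iff, or_false, not_or,
          List.not_mem_nil, not_false_iff, List.nodup_nil, and_true]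
        exact ⟨⟨hpq, hpr, hps, Ne.symm htp, hpu⟩, ⟨hqr, hqs, Ne.symm htq, hqu⟩,
          ⟨hrs', Ne.symm htr, hru⟩, ⟨Ne.symm hts, hsu⟩, htu⟩
      have hcard : ([p, q, π p, π q, t, π t].toFinset).card = Fintype.card Ω := by
        rw [List.toFinset_card_of_nodup hnd, h6]; rfl
      have huniv := Finset.eq_univ_of_card _ hcard
      have hmem : g (π τ) ∈ [p, q, π p, π q, t, π t].toFinset := by
        rw [huniv]; exact Finset.mem_univ _
      simp only [List.mem_toFinset, List.mem_cons, List.mem_nil_iff, or_false] at hmem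
      rcases hmem with h | h | h | h | h | h
      · exact absurd h hvp
      · exact absurd h hvq
      · exact absurd h hvr
      · exact absurd h hvs
      · exact absurd h hvt
      · exact h
    have h1 : Equiv.swap p q * Equiv.swap t (π t) ∈ K := by
      have := hconj _ (hXK (ds_mem (f := f) hA₀.1.symm hA₀.2.1.symm hTT.1.symm hTT.2.1.symm))
      rw [conj_ds, ← hp, ← hq, hτ, hv] at this
      exact this
    have h2 : Equiv.swap p (π p) * Equiv.swap t (π t) ∈ K :=
      hXK (ds_mem (f := f) hpr hP.2.1.symm htu hT.2.1.symm)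
    have h3 := cancel_ds h1 h2
    rw [Equiv.swap_inv] at h3
    exact ⟨_, h3, Equiv.Perm.isThreeCycle_swap_mul_swap_same hpq hpr hqr⟩
  · have h1 : Equiv.swap (π p) (g (π ρ)) * Equiv.swap p q ∈ K := by
      have := hconj _ (hXK (ds_mem (f := f) hR.1.symm hR.2.1.symm hA₀.1.symm hA₀.2.1.symm))
      rw [conj_ds, hρ, ← hp, ← hq] at this
      exact this
    have h2 : Equiv.swap (π p) (π q) * Equiv.swap p q ∈ K := by
      have := hXK (bs_mem hπ hrs)
      rw [partner_invol hπ, partner_invol hπ] at this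
      exact this
    have h3 := cancel_ds h1 h2
    rw [Equiv.swap_inv] at h3
    refine ⟨_, h3, Equiv.Perm.isThreeCycle_swap_mul_swap_same ?_ hrs' hA⟩
    intro h
    rw [← hρ] at h
    exact hR.1 (g.injective h).symm

end two

section final
variable {Ω : Type*} [Fintype Ω] [DecidableEq Ω] {b : ℕ}

theorem exists_bad (f : Ω → Fin b) {K : Subgroup (Equiv.Perm Ω)} (hKW : ¬ K ≤ wr f) :
    ∃ g ∈ K, ∃ p q, f p = f q ∧ f (g p) ≠ f (g q) := by
  obtain ⟨g, hgG, hgW⟩ := SetLike.not_le_iff_exists.mp hKW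
  by_contra hcon
  push Not at hcon
  apply hgW
  intro x y
  constructor
  · exact hcon g hgG x y
  · intro h
    have := hcon g⁻¹ (K.inv_mem hgG) (g x) (g y) h
    simpa using this

theorem trans_two {f : Ω → Fin b} {π : Ω → Ω} (hπ : IsPartner f π) (p q : Ω) (hpq : f p ≠ f q)
    (y : Ω) : ∃ e ∈ wr f ⊓ alternatingGroup Ω, e p = y := by
  by_cases hy : y = p
  · exact ⟨1, Subgroup.one_mem _, by rw [hy]; rfl⟩
  by_cases hfy : f y = f p
  · have hyπ : y = π p := by
      rcases (hπ p).2.2 y hfy with h | h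
      · exact absurd h hy
      · exact h
    refine ⟨Equiv.swap p (π p) * Equiv.swap q (π q),
      ds_mem (f := f) (hπ p).1.symm (hπ p).2.1.symm (hπ q).1.symm (hπ q).2.1.symm, ?_⟩
    have h1 : p ≠ q := fun h => hpq (h ▸ rfl)
    have h2 : p ≠ π q := fun h => hpq (by rw [h, (hπ q).2.1])
    rw [Equiv.Perm.mul_apply, Equiv.swap_apply_of_ne_of_ne h1 h2, Equiv.swap_apply_left, hyπ]
  · have hpy : f p ≠ f y := fun h => hfy h.symm
    refine ⟨Equiv.swap p y * Equiv.swap (π p) (π y), bs_mem hπ hpy, ?_⟩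
    have h1 : p ≠ π p := (hπ p).1.symm
    have h2 : p ≠ π y := fun h => hpy (by rw [h, (hπ y).2.1])
    rw [Equiv.Perm.mul_apply, Equiv.swap_apply_of_ne_of_ne h1 h2, Equiv.swap_apply_left]

theorem case_four (f : Ω → Fin b) (h4 : Fintype.card Ω = 4)
    (hfib : ∀ i : Fin b, Nat.card {x : Ω // f x = i} = 2)
    (hex : ∃ x z : Ω, f x ≠ f z)
    (L : Subgroup (Equiv.Perm Ω)) (hXL : wr f ⊓ alternatingGroup Ω ≤ L)
    (hLA : L ≤ alternatingGroup Ω) (hLX : L ≠ wr f ⊓ alternatingGroup Ω) :
    L = alternatingGroup Ω := by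
  obtain ⟨π, hπ⟩ := exists_partner f hfib
  obtain ⟨p, q, hpq⟩ := hex
  haveI : Nontrivial Ω := by
    rw [← Fintype.one_lt_card_iff_nontrivial, h4]; norm_num
  have hA : Nat.card (alternatingGroup Ω) = 12 := by
    have h1 := two_mul_nat_card_alternatingGroup (α := Ω)
    rw [Nat.card_perm, Nat.card_eq_fintype_card (α := Ω), h4] at h1
    have : (4 : ℕ).factorial = 24 := by decide
    omega
  have hX4 : 4 ≤ Nat.card (wr f ⊓ alternatingGroup Ω : Subgroup (Equiv.Perm Ω)) := by
    have hsurj : Function.Surjective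
        (fun e : (wr f ⊓ alternatingGroup Ω : Subgroup (Equiv.Perm Ω)) => (e : Equiv.Perm Ω) p) := by
      intro y
      obtain ⟨e, he, hey⟩ := trans_two hπ p q hpq y
      exact ⟨⟨e, he⟩, hey⟩
    have := Nat.card_le_card_of_surjective _ hsurj
    rw [Nat.card_eq_fintype_card, h4] at this
    exact this
  have hXL' : Nat.card (wr f ⊓ alternatingGroup Ω : Subgroup (Equiv.Perm Ω)) ∣ Nat.card L :=
    Subgroup.card_dvd_of_le hXL
  have hLA' : Nat.card L ∣ Nat.card (alternatingGroup Ω) := Subgroup.card_dvd_of_le hLA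
  rw [hA] at hLA'
  have hne : Nat.card (wr f ⊓ alternatingGroup Ω : Subgroup (Equiv.Perm Ω)) ≠ Nat.card L := by
    intro h
    apply hLX
    exact (Subgroup.eq_of_le_of_card_ge hXL h.ge).symm
  have hL12 : Nat.card L = 12 := by
    have hl : Nat.card L ≤ 12 := Nat.le_of_dvd (by norm_num) hLA'
    have hlpos : 0 < Nat.card L := Nat.card_pos
    have hx : Nat.card (wr f ⊓ alternatingGroup Ω : Subgroup (Equiv.Perm Ω)) ≤ Nat.card L :=
      Nat.le_of_dvd hlpos hXL'
    generalize Nat.card (wr f ⊓ alternatingGroup Ω : Subgroup (Equiv.Perm Ω)) = x at *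
    generalize Nat.card L = l at *
    interval_cases l <;> first | rfl | (exfalso; revert hLA'; decide) | (exfalso; interval_cases x <;> first | exact hne rfl | (revert hXL'; decide))
  apply Subgroup.eq_of_le_of_card_ge hLA
  rw [hA, hL12]

end final

/-- Let Ω be a finite set whose size is not 8, and f : Ω → Fin b a labelling with b ≥ 2 whose fibres all have the same size a ≥ 2 (a partition into b blocks of size a). Then the even permutations preserving the partition — the intersection of the imprimitive wreath product S_a ≀ S_b with the alternating group — form a maximal subgroup of the alternating group on Ω. -/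
theorem result {Ω : Type*} [Fintype Ω] [DecidableEq Ω] (h8 : Fintype.card Ω ≠ 8) (a b : ℕ) (ha : 2 ≤ a) (hb : 2 ≤ b)
    (f : Ω → Fin b) (hf : ∀ i : Fin b, Nat.card {x : Ω // f x = i} = a) :
    IsCoatom ((Subgroup.closure {g : Equiv.Perm Ω | ∀ x y : Ω, f x = f y ↔ f (g x) = f (g y)} ⊓ alternatingGroup Ω).subgroupOf (alternatingGroup Ω)) := by
  classical
  rw [closure_eq_wr]
  have hcardF : ∀ i : Fin b, Fintype.card {x : Ω // f x = i} = a := by
    intro i; rw [← Nat.card_eq_fintype_card]; exact hf i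
  have hn : Fintype.card Ω = b * a := card_eq_mul f a hcardF
  have hcard : ∀ i j : Fin b, Nonempty ({x : Ω // f x = i} ≃ {x : Ω // f x = j}) :=
    fun i j => Fintype.card_eq.mp ((hcardF i).trans (hcardF j).symm)
  -- points
  obtain ⟨x, y, z, hxy, hfxy, hfxz⟩ : ∃ x y z : Ω, x ≠ y ∧ f x = f y ∧ f x ≠ f z := by
    have hb0 : 0 < b := by omega
    have hb1 : 1 < b := by omega
    have h0 : 1 < Fintype.card {x : Ω // f x = (⟨0, hb0⟩ : Fin b)} := by rw [hcardF]; omega
    have h1 : 0 < Fintype.card {x : Ω // f x = (⟨1, hb1⟩ : Fin b)} := by rw [hcardF]; omega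
    rw [Fintype.one_lt_card_iff_nontrivial] at h0
    obtain ⟨x, y, hxy⟩ := exists_pair_ne {x : Ω // f x = (⟨0, hb0⟩ : Fin b)}
    obtain ⟨z⟩ := Fintype.card_pos_iff.mp h1
    refine ⟨x.1, y.1, z.1, fun h => hxy (Subtype.ext h), x.2.trans y.2.symm, ?_⟩
    rw [x.2, z.2]
    intro h
    simp [Fin.ext_iff] at h
  have hxz : x ≠ z := fun h => hfxz (h ▸ rfl)
  have hyz : y ≠ z := fun h => hfxz (by rw [hfxy, h])
  have hne : wr f ⊓ alternatingGroup Ω ≠ alternatingGroup Ω := by
    intro h
    have hmem : Equiv.swap x z * Equiv.swap x y ∈ alternatingGroup Ω := by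
      rw [Equiv.Perm.mem_alternatingGroup, map_mul, Equiv.Perm.sign_swap hxz,
        Equiv.Perm.sign_swap hxy]
      rfl
    rw [← h] at hmem
    have hW := (Subgroup.mem_inf.mp hmem).1
    have h1 := (hW x y).mp hfxy
    rw [Equiv.Perm.mul_apply, Equiv.Perm.mul_apply, Equiv.swap_apply_left,
      Equiv.swap_apply_right, Equiv.swap_apply_left,
      Equiv.swap_apply_of_ne_of_ne hxy.symm hyz] at h1
    exact hfxz (hfxy.trans h1)
  apply Cfsg.Agent.S5885.coatom_intro inf_le_right hne
  intro L hXL hLA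
  by_cases hLW : L ≤ wr f
  · left; exact le_antisymm (le_inf hLW hLA) hXL
  right
  by_cases h22 : a = 2 ∧ b = 2
  · obtain ⟨ha2, hb2⟩ := h22
    have h4 : Fintype.card Ω = 4 := by rw [hn, ha2, hb2]
    have hfib2 : ∀ i : Fin b, Nat.card {x : Ω // f x = i} = 2 := fun i => by rw [hf i, ha2]
    apply case_four f h4 hfib2 ⟨x, z, hfxz⟩ L hXL hLA
    intro h
    apply hLW
    rw [h]; exact inf_le_left
  · have hroom : Room f := by
      apply room_of_card
      rw [hn]
      rcases Nat.lt_or_ge a 3 with h3 | h3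
      · have ha2 : a = 2 := by omega
        have hb3 : 3 ≤ b := by
          by_contra hb3
          exact h22 ⟨ha2, by omega⟩
        rw [ha2]; omega
      · have : b * 3 ≤ b * a := Nat.mul_le_mul_left b h3
        omega
    have hprim : IsPreprimitive L Ω := prim_of_not_le f hroom hcard hXL hLW
    obtain ⟨c, hcL, hc3⟩ : ∃ c ∈ L, c.IsThreeCycle := by
      rcases Nat.lt_or_ge a 3 with h3 | h3
      · have ha2 : a = 2 := by omega
        have hfib2 : ∀ i : Fin b, Nat.card {x : Ω // f x = i} = 2 := fun i => by rw [hf i, ha2]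
        obtain ⟨π, hπ⟩ := exists_partner f hfib2
        obtain ⟨g, hgL, p, q, hpq, hgpq⟩ := exists_bad f hLW
        have hqp : q = π p := by
          rcases (hπ p).2.2 q hpq.symm with h | h
          · exact absurd (by rw [h]) hgpq
          · exact h
        rw [hqp] at hgpq
        have hb3 : 3 ≤ b := by
          by_contra hb3
          exact h22 ⟨ha2, by omega⟩
        rw [ha2] at hn
        rcases Nat.lt_or_ge b 4 with hb4 | hb4
        · have h6 : Fintype.card Ω = 6 := by omega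
          exact three_cycle_six hπ h6 hXL g hgL p hgpq
        · have h9 : 9 ≤ Fintype.card Ω := by omega
          exact three_cycle_big hπ h9 hXL g hgL p hgpq
      · have hb0 : 0 < b := by omega
        have h2 : 2 < Fintype.card {x : Ω // f x = (⟨0, hb0⟩ : Fin b)} := by
          rw [hcardF]; omega
        obtain ⟨u, v, w, huv, huw, hvw⟩ := Fintype.two_lt_card_iff.mp h2
        have huv' : u.1 ≠ v.1 := fun h => huv (Subtype.ext h)
        have huw' : u.1 ≠ w.1 := fun h => huw (Subtype.ext h)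
        have hvw' : v.1 ≠ w.1 := fun h => hvw (Subtype.ext h)
        refine ⟨Equiv.swap u.1 v.1 * Equiv.swap u.1 w.1, hXL ?_,
          Equiv.Perm.isThreeCycle_swap_mul_swap_same huv' huw' hvw'⟩
        refine Subgroup.mem_inf.mpr ⟨(wr f).mul_mem (swap_mem_wr f (u.2.trans v.2.symm))
          (swap_mem_wr f (u.2.trans w.2.symm)), ?_⟩
        rw [Equiv.Perm.mem_alternatingGroup, map_mul, Equiv.Perm.sign_swap huv',
          Equiv.Perm.sign_swap huw']
        rfl
    exact le_antisymm hLA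
      (Equiv.Perm.alternatingGroup_le_of_isPreprimitive_of_isThreeCycle_mem hprim hc3 hcL)

end Cfsg.Agent.S5909
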