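import Cfsg.Statements.S5910
import Mathlib
import Cfsg.Agent.S5905
import Cfsg.Agent.S5885
-- import your own Cfsg.Agent.* helpers here

set_option autoImplicit false
open Cfsg

namespace Cfsg.Agent.S5910

/-- block index space -/
abbrev B := Fin 2 × Fin 2
/-- the model space -/
abbrev V := B × Fin 2

theorem fin2_ne : ∀ a c : Fin 2, a ≠ c → a = c + 1 := by decide
theorem fin2_cases : ∀ b : Fin 2, b = 0 ∨ b = 1 := by decide
theorem fin2_arith : ∀ a b c x y z : Fin 2,
    a + b + c + (x + y + z) = (a + x) + (b + y) + (c + z) := by decide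

set_option maxRecDepth 100000 in
theorem even_affine : ∀ c : B → Fin 2, c (0,0) + c (0,1) + c (1,0) + c (1,1) = 0 →
    ∀ x y z : B, c (x + y + z) = c x + c y + c z := by decide

set_option maxRecDepth 100000 in
theorem perm_affine : ∀ σ : Equiv.Perm B, ∀ x y z : B,
    σ (x + y + z) = σ x + σ y + σ z := by decide

theorem sign_addLeft : ∀ a : Fin 2,
    Equiv.Perm.sign (Equiv.addLeft a) = if a = 0 then (1 : ℤˣ) else -1 := by
  rw [Fin.forall_fin_two]
  constructor
  · have : Equiv.addLeft (0 : Fin 2) = 1 := by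
      refine Equiv.ext fun x => ?_
      simp
    rw [this]; simp
  · have : Equiv.addLeft (1 : Fin 2) = Equiv.swap 0 1 := by
      refine Equiv.ext fun x => ?_
      revert x; decide
    rw [this, Equiv.Perm.sign_swap (by decide)]; simp

theorem parity_of_prod : ∀ a b c d : Fin 2,
    ((if a = 0 then (1 : ℤˣ) else -1) * (if b = 0 then (1 : ℤˣ) else -1)) *
      ((if c = 0 then (1 : ℤˣ) else -1) * (if d = 0 then (1 : ℤˣ) else -1)) = 1 →
    a + b + c + d = 0 := by decide

/-- the affine permutations of the model -/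
def affSub : Subgroup (Equiv.Perm V) where
  carrier := {g | ∀ x y z : V, g (x + y + z) = g x + g y + g z}
  mul_mem' := by
    intro g h hg hh x y z
    show g (h (x + y + z)) = g (h x) + g (h y) + g (h z)
    rw [hh, hg]
  one_mem' := by intro x y z; rfl
  inv_mem' := by
    intro g hg x y z
    show g⁻¹ (x + y + z) = g⁻¹ x + g⁻¹ y + g⁻¹ z
    apply g.injective
    rw [hg]
    simp only [Equiv.Perm.inv_def, Equiv.apply_symm_apply]

theorem block_even_affine (g : Equiv.Perm V)
    (hblk : ∀ v w : V, v.1 = w.1 ↔ (g v).1 = (g w).1) (hsign : Equiv.Perm.sign g = 1) :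
    g ∈ affSub := by
  classical
  obtain ⟨σ, hσ⟩ : ∃ σ : B → B, ∀ u, σ u = (g (u, 0)).1 := ⟨_, fun _ => rfl⟩
  obtain ⟨c, hc⟩ : ∃ c : B → Fin 2, ∀ u, c u = (g (u, 0)).2 := ⟨_, fun _ => rfl⟩
  have h1 : ∀ u b, (g (u, b)).1 = σ u := by
    intro u b
    rw [hσ]
    exact (hblk (u, b) (u, 0)).mp rfl
  have h2 : ∀ u b, (g (u, b)).2 = c u + b := by
    intro u b
    rcases fin2_cases b with rfl | rfl
    · rw [hc, add_zero]
    · rw [hc]
      apply fin2_ne
      intro h
      have h3 : g (u, 1) = g (u, 0) := Prod.ext ((h1 u 1).trans (h1 u 0).symm) h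
      have h4 := g.injective h3
      have h5 : (1 : Fin 2) = 0 := congrArg Prod.snd h4
      exact absurd h5 (by decide)
  have hg : ∀ u b, g (u, b) = (σ u, c u + b) := fun u b => Prod.ext (h1 u b) (h2 u b)
  have hσinj : Function.Injective σ := by
    intro u u' h
    rw [hσ, hσ] at h
    exact (hblk (u, 0) (u', 0)).mpr h
  let σP : Equiv.Perm B :=
    Equiv.ofBijective σ ⟨hσinj, Finite.injective_iff_surjective.mp hσinj⟩
  have hσaff := perm_affine σP
  have hdecomp : g = Equiv.prodCongrLeft (fun _ : Fin 2 => σP) *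
      Equiv.prodCongrRight (fun u : B => Equiv.addLeft (c u)) := by
    refine Equiv.ext fun v => ?_
    obtain ⟨u, b⟩ := v
    rw [hg]
    rfl
  have hsum : c (0,0) + c (0,1) + c (1,0) + c (1,1) = 0 := by
    have hs := hsign
    rw [hdecomp, map_mul, Equiv.Perm.sign_prodCongrLeft, Equiv.Perm.sign_prodCongrRight] at hs
    simp only [Finset.prod_const, Finset.card_univ, Fintype.card_fin, Int.units_sq, one_mul] at hs
    rw [Fintype.prod_prod_type, Fin.prod_univ_two, Fin.prod_univ_two, Fin.prod_univ_two] at hs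
    simp only [sign_addLeft] at hs
    exact parity_of_prod _ _ _ _ hs
  rintro ⟨u₁, b₁⟩ ⟨u₂, b₂⟩ ⟨u₃, b₃⟩
  have hc3 := even_affine c hsum u₁ u₂ u₃
  have hs3 : σ (u₁ + u₂ + u₃) = σ u₁ + σ u₂ + σ u₃ := hσaff u₁ u₂ u₃
  show g (u₁ + u₂ + u₃, b₁ + b₂ + b₃) = g (u₁, b₁) + g (u₂, b₂) + g (u₃, b₃)
  rw [hg, hg, hg, hg, hs3, hc3]
  exact Prod.ext rfl (fin2_arith _ _ _ _ _ _)

/-- a linear map not preserving the blocks -/
def k₀ : Equiv.Perm V := Equiv.swap ((1,0),0) ((0,0),1) * Equiv.swap ((1,1),0) ((0,1),1)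
/-- a three-cycle -/
def a₀ : Equiv.Perm V := Equiv.swap ((0,0),0) ((1,0),0) * Equiv.swap ((1,0),0) ((0,1),0)

set_option maxRecDepth 100000 in
theorem k₀_aff : k₀ ∈ affSub := by
  show ∀ x y z : V, k₀ (x + y + z) = k₀ x + k₀ y + k₀ z
  decide

theorem k₀_sign : Equiv.Perm.sign k₀ = 1 := by
  unfold k₀
  rw [map_mul, Equiv.Perm.sign_swap (by decide), Equiv.Perm.sign_swap (by decide)]
  rfl

set_option maxRecDepth 100000 in
theorem k₀_not_blk : ¬ (∀ v w : V, v.1 = w.1 ↔ (k₀ v).1 = (k₀ w).1) := by decide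

theorem a₀_sign : Equiv.Perm.sign a₀ = 1 := by
  unfold a₀
  rw [map_mul, Equiv.Perm.sign_swap (by decide), Equiv.Perm.sign_swap (by decide)]
  rfl

set_option maxRecDepth 100000 in
theorem a₀_not_aff : a₀ ∉ affSub := by
  show ¬ ∀ x y z : V, a₀ (x + y + z) = a₀ x + a₀ y + a₀ z
  decide

theorem exists_model {Ω : Type*} [Fintype Ω] [DecidableEq Ω] (f : Ω → Fin 4)
    (hf : ∀ i : Fin 4, Nat.card {x : Ω // f x = i} = 2) :
    ∃ e : Ω ≃ V, ∀ x y, f x = f y ↔ (e x).1 = (e y).1 := by
  classical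
  have hι : Nonempty (Fin 4 ≃ B) := ⟨Fintype.equivOfCardEq (by simp)⟩
  obtain ⟨ι⟩ := hι
  have hfib : ∀ i : Fin 4, Nonempty ({x : Ω // f x = i} ≃ Fin 2) :=
    fun i => ⟨Finite.equivFinOfCardEq (hf i)⟩
  let e : Ω ≃ V :=
    (Equiv.sigmaFiberEquiv f).symm.trans
      ((Equiv.sigmaCongrRight (fun i => (hfib i).some)).trans
        ((Equiv.sigmaEquivProd (Fin 4) (Fin 2)).trans (Equiv.prodCongr ι (Equiv.refl _))))
  refine ⟨e, fun x y => ?_⟩
  have key : ∀ x, (e x).1 = ι (f x) := fun x => rfl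
  rw [key, key, ι.apply_eq_iff_eq]

theorem blk_of_mem {Ω : Type*} [Fintype Ω] [DecidableEq Ω] (f : Ω → Fin 4) (e : Ω ≃ V)
    (he : ∀ x y, f x = f y ↔ (e x).1 = (e y).1) (g : Equiv.Perm Ω)
    (hg : g ∈ Cfsg.Agent.S5905.wr f) (v w : V) :
    v.1 = w.1 ↔ (e.permCongr g v).1 = (e.permCongr g w).1 := by
  have h1 := he (g (e.symm v)) (g (e.symm w))
  have h2 := (Cfsg.Agent.S5905.mem_wr f g).mp hg (e.symm v) (e.symm w)
  have h3 := he (e.symm v) (e.symm w)
  rw [Equiv.apply_symm_apply, Equiv.apply_symm_apply] at h3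
  rw [Equiv.permCongr_apply, Equiv.permCongr_apply]
  exact h3.symm.trans (h2.trans h1)

/-- Let Ω be a set with 8 elements and f : Ω → Fin 4 a labelling whose four fibres all have size 2 (a partition of the 8 points into 4 pairs). Then the group of even permutations preserving this partition, (S₂ ≀ S₄) ∩ A₈, is not a maximal subgroup of the alternating group A₈ (it lies in a subgroup isomorphic to the affine group AGL₃(2)). -/
theorem result {Ω : Type*} [Fintype Ω] [DecidableEq Ω] (h8 : Fintype.card Ω = 8)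
    (f : Ω → Fin 4) (hf : ∀ i : Fin 4, Nat.card {x : Ω // f x = i} = 2) :
    ¬ IsCoatom ((Subgroup.closure {g : Equiv.Perm Ω | ∀ x y : Ω, f x = f y ↔ f (g x) = f (g y)} ⊓ alternatingGroup Ω).subgroupOf (alternatingGroup Ω)) := by
  classical
  rw [Cfsg.Agent.S5905.closure_eq_wr]
  obtain ⟨e, he⟩ := exists_model f hf
  intro hco
  have hle : Cfsg.Agent.S5905.wr f ⊓ alternatingGroup Ω ≤
      (affSub.comap e.permCongrHom.toMonoidHom) ⊓ alternatingGroup Ω := by
    intro g hg
    obtain ⟨hgw, hga⟩ := Subgroup.mem_inf.mp hg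
    refine Subgroup.mem_inf.mpr ⟨?_, hga⟩
    rw [Subgroup.mem_comap]
    show e.permCongr g ∈ affSub
    apply block_even_affine
    · exact blk_of_mem f e he g hgw
    · rw [Equiv.Perm.sign_permCongr]; exact Equiv.Perm.mem_alternatingGroup.mp hga
  have hk1 : e.permCongr (e.symm.permCongr k₀) = k₀ := by
    refine Equiv.ext fun v => ?_
    simp [Equiv.permCongr_apply]
  have ha1 : e.permCongr (e.symm.permCongr a₀) = a₀ := by
    refine Equiv.ext fun v => ?_
    simp [Equiv.permCongr_apply]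
  have hkK : e.symm.permCongr k₀ ∈
      (affSub.comap e.permCongrHom.toMonoidHom) ⊓ alternatingGroup Ω := by
    refine Subgroup.mem_inf.mpr ⟨?_, ?_⟩
    · rw [Subgroup.mem_comap]
      show e.permCongr (e.symm.permCongr k₀) ∈ affSub
      rw [hk1]; exact k₀_aff
    · rw [Equiv.Perm.mem_alternatingGroup, Equiv.Perm.sign_permCongr]; exact k₀_sign
  have hkW : e.symm.permCongr k₀ ∉ Cfsg.Agent.S5905.wr f := by
    intro hmem
    apply k₀_not_blk
    intro v w
    have := blk_of_mem f e he _ hmem v w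
    rwa [hk1] at this
  have haA : e.symm.permCongr a₀ ∈ alternatingGroup Ω := by
    rw [Equiv.Perm.mem_alternatingGroup, Equiv.Perm.sign_permCongr]; exact a₀_sign
  have haK : e.symm.permCongr a₀ ∉
      (affSub.comap e.permCongrHom.toMonoidHom) ⊓ alternatingGroup Ω := by
    intro hmem
    have h1 := (Subgroup.mem_inf.mp hmem).1
    rw [Subgroup.mem_comap] at h1
    have h2 : e.permCongr (e.symm.permCongr a₀) ∈ affSub := h1
    rw [ha1] at h2
    exact a₀_not_aff h2
  rcases Cfsg.Agent.S5885.coatom_elim inf_le_right hco _ hle inf_le_right with h | h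
  · apply hkW
    have : e.symm.permCongr k₀ ∈ Cfsg.Agent.S5905.wr f ⊓ alternatingGroup Ω := by
      rw [← h]; exact hkK
    exact (Subgroup.mem_inf.mp this).1
  · apply haK
    rw [h]; exact haA

end Cfsg.Agent.S5910
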