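import Cfsg.Statements.S5911
import Mathlib
-- import your own Cfsg.Agent.* helpers here

set_option autoImplicit false
open Cfsg

namespace Cfsg.Agent.S5911

open Nat Equiv Equiv.Perm
open scoped Pointwise

lemma lt_choose' : ∀ n c : ℕ, 2 ≤ c → c + 2 ≤ n → n < Nat.choose n c := by
  intro n
  induction n with
  | zero => intro c _ h; omega
  | succ n ih =>
    intro c h2 hc
    obtain ⟨c', rfl⟩ : ∃ c', c = c' + 1 := ⟨c - 1, by omega⟩
    rw [Nat.choose_succ_succ']
    rcases Nat.lt_or_ge c' 2 with h | h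
    · have : c' = 1 := by omega
      subst this
      have h1 : Nat.choose n 1 = n := Nat.choose_one_right n
      have h3 := Nat.choose_le_choose 2 (show 3 ≤ n by omega)
      have h4 : Nat.choose 3 2 = 3 := by decide
      norm_num at *
      omega
    · have := ih c' h (by omega)
      have := Nat.choose_pos (show c'+1 ≤ n by omega)
      omega

lemma big (j m : ℕ) : 2 ^ (j+4) * (j+4)! * m ! < 2 * (m + 2*j + 6)! := by
  induction j with
  | zero =>
    have h := Nat.factorial_mul_factorial_dvd_factorial_add m 6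
    have h2 := Nat.le_of_dvd (Nat.factorial_pos _) h
    have h6 : (6:ℕ)! = 720 := by decide
    have h4 : (4:ℕ)! = 24 := by decide
    have hm := Nat.factorial_pos m
    simp only [Nat.zero_add, Nat.mul_zero, Nat.add_zero, h4]
    rw [h6] at h2
    nlinarith
  | succ j ih =>
    have e1 : (m + 2*(j+1) + 6)! = (m+2*j+8) * ((m+2*j+7) * (m+2*j+6)!) := by
      rw [show m + 2*(j+1) + 6 = (m+2*j+7)+1 by ring, Nat.factorial_succ,
        show m+2*j+7 = (m+2*j+6)+1 by ring, Nat.factorial_succ]
    have e2 : (j+1+4)! = (j+5) * (j+4)! := by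
      rw [show j+1+4 = (j+4)+1 by ring, Nat.factorial_succ]
    have e3 : 2 ^ (j+1+4) = 2 * 2 ^ (j+4) := by ring
    rw [e1, e2, e3]
    have hpos := Nat.factorial_pos (m+2*j+6)
    have key : 2 * (j+5) ≤ (m+2*j+8) * (m+2*j+7) := by nlinarith
    calc 2 * 2 ^ (j + 4) * ((j + 5) * (j + 4)!) * m ! 
        = (2 * (j+5)) * (2 ^ (j + 4) * (j + 4)! * m !) := by ring
      _ < (2 * (j+5)) * (2 * (m + 2 * j + 6)!) := by
          apply Nat.mul_lt_mul_of_pos_left ih (by omega)
      _ ≤ ((m+2*j+8) * (m+2*j+7)) * (2 * (m + 2 * j + 6)!) := Nat.mul_le_mul_right _ key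
      _ = _ := by ring

lemma num_aux (n k : ℕ) (hk : 1 ≤ k) (hkn : 2 * k ≤ n) (h5 : 5 ≤ n) (h6 : n ≠ 6)
    (h : 2 * (n - 2)! = (n - 2 * k)! * 2 ^ k * k !) : k = 1 := by
  obtain ⟨m, rfl⟩ : ∃ m, n = m + 2 * k := ⟨n - 2 * k, by omega⟩
  rw [Nat.add_sub_cancel] at h
  by_contra hk1
  rcases Nat.lt_or_ge k 4 with h4 | h4
  · interval_cases k
    · omega
    · -- k = 2
      have e : (m + 2 * 2 - 2)! = (m+2) * ((m+1) * m !) := by
        rw [show m + 2 * 2 - 2 = (m+1)+1 by omega, Nat.factorial_succ, Nat.factorial_succ]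
      rw [e] at h
      have hm := Nat.factorial_pos m
      have h2 : (2:ℕ)! = 2 := by decide
      rw [h2] at h
      have : 1 ≤ m := by omega
      have h' : (2 * ((m+2)*(m+1))) * m ! = 8 * m ! := by linarith
      have h'' := Nat.eq_of_mul_eq_mul_right hm h'
      nlinarith
    · -- k = 3
      have e : (m + 2 * 3 - 2)! = (m+4) * ((m+3) * ((m+2) * ((m+1) * m !))) := by
        rw [show m + 2 * 3 - 2 = (m+3)+1 by omega, Nat.factorial_succ, Nat.factorial_succ,
          Nat.factorial_succ, Nat.factorial_succ]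
      rw [e] at h
      have hm := Nat.factorial_pos m
      have h2 : (3:ℕ)! = 6 := by decide
      rw [h2] at h
      have : 1 ≤ m := by omega
      have : 120 ≤ (m+4) * ((m+3) * ((m+2) * (m+1))) := by
        have a1 : 5 ≤ m + 4 := by omega
        have a2 : 4 ≤ m + 3 := by omega
        have a3 : 3 ≤ m + 2 := by omega
        have a4 : 2 ≤ m + 1 := by omega
        calc 120 = 5 * (4 * (3 * 2)) := by norm_num
          _ ≤ _ := Nat.mul_le_mul a1 (Nat.mul_le_mul a2 (Nat.mul_le_mul a3 a4))
      have h' : (2 * ((m+4) * ((m+3) * ((m+2) * (m+1))))) * m ! = 48 * m ! := by linarith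
      have h'' := Nat.eq_of_mul_eq_mul_right hm h'
      omega
  · obtain ⟨j, rfl⟩ : ∃ j, k = j + 4 := ⟨k - 4, by omega⟩
    have := big j m
    rw [show m + 2 * (j + 4) - 2 = m + 2 * j + 6 by omega] at h
    nlinarith


lemma card_centralizer_swap {α : Type*} [Fintype α] [DecidableEq α] (σ : Perm α) (hσ : σ.IsSwap) :
    Nat.card (Subgroup.centralizer {σ}) = 2 * (Fintype.card α - 2)! := by
  rw [Equiv.Perm.nat_card_centralizer, isSwap_iff_cycleType.mp hσ]
  simp
  ring

lemma isSwap_of_card_centralizer {α : Type*} [Fintype α] [DecidableEq α]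
    (h5 : 5 ≤ Fintype.card α) (h6 : Fintype.card α ≠ 6)
    (σ : Perm α) (ho : orderOf σ = 2)
    (hc : Nat.card (Subgroup.centralizer {σ}) = 2 * (Fintype.card α - 2)!) : σ.IsSwap := by
  obtain ⟨k, hk⟩ := Equiv.Perm.cycleType_prime_order (σ := σ) (by rw [ho]; exact Nat.prime_two)
  rw [ho] at hk
  have hsum : σ.cycleType.sum ≤ Fintype.card α := by
    rw [Equiv.Perm.sum_cycleType]; exact Finset.card_le_univ _
  rw [Equiv.Perm.nat_card_centralizer, hk] at hc
  rw [hk] at hsum
  simp only [Multiset.sum_replicate, smul_eq_mul, Multiset.prod_replicate] at hc hsum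
  have htf : (Multiset.replicate (k+1) 2).toFinset = {2} := by
    ext x
    rw [Multiset.mem_toFinset, Multiset.mem_replicate, Finset.mem_singleton]
    exact ⟨fun h => h.2, fun h => ⟨by omega, h⟩⟩
  rw [htf] at hc
  simp only [Finset.prod_singleton, Multiset.count_replicate_self] at hc
  have := num_aux (Fintype.card α) (k+1) (by omega) (by omega) h5 h6 (by rw [← hc]; ring_nf)
  have hk0 : k = 0 := by omega
  subst hk0
  rw [isSwap_iff_cycleType, hk]
  simp

lemma iso_swap {α β : Type*} [Fintype α] [DecidableEq α] [Fintype β] [DecidableEq β]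
    (hcard : Fintype.card α = Fintype.card β) (h5 : 5 ≤ Fintype.card α) (h6 : Fintype.card α ≠ 6)
    (ψ : Perm α ≃* Perm β) (σ : Perm α) (hσ : σ.IsSwap) : (ψ σ).IsSwap := by
  apply isSwap_of_card_centralizer (hcard ▸ h5) (hcard ▸ h6)
  · rw [MulEquiv.orderOf_eq, hσ.orderOf]
  · rw [← hcard, ← card_centralizer_swap σ hσ]
    symm
    apply Nat.card_congr
    refine ψ.toEquiv.subtypeEquiv ?_
    intro x
    simp only [Subgroup.mem_centralizer_singleton_iff, MulEquiv.toEquiv_eq_coe, MulEquiv.coe_toEquiv]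
    rw [← map_mul, ← map_mul, ψ.injective.eq_iff]


lemma normal_le_eq_bot {Ω : Type*} [Fintype Ω] [DecidableEq Ω] (h5 : 5 ≤ Fintype.card Ω)
    (N H : Subgroup (Perm Ω)) [hN : N.Normal] (hNH : N ≤ H) (hH : 2 < H.index) : N = ⊥ := by
  haveI : IsSimpleGroup (alternatingGroup Ω) :=
    alternatingGroup.isSimpleGroup (by rwa [Nat.card_eq_fintype_card])
  haveI : Nontrivial Ω := by
    rw [← Fintype.one_lt_card_iff_nontrivial]; omega
  rcases (inferInstance : (N.subgroupOf (alternatingGroup Ω)).Normal).eq_bot_or_eq_top with h | h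
  · rw [Subgroup.subgroupOf_eq_bot, Subgroup.disjoint_def] at h
    by_contra hNb
    obtain ⟨⟨σ, hσN'⟩, hσ1⟩ := (Subgroup.ne_bot_iff_exists_ne_one).mp hNb
    have hσ1' : σ ≠ 1 := fun hh => hσ1 (Subtype.ext hh)
    have hodd : ∀ τ ∈ N, τ ≠ 1 → sign τ = -1 := by
      intro τ hτ hτ1
      rcases Int.units_eq_one_or (sign τ) with h1 | h1
      · exact absurd (h hτ (mem_alternatingGroup.mpr h1)) hτ1
      · exact h1
    have huniq : ∀ τ ∈ N, τ ≠ 1 → τ = σ := by
      intro τ hτ hτ1
      have h1 : σ⁻¹ * τ ∈ N := N.mul_mem (N.inv_mem hσN') hτ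
      have h2 : sign (σ⁻¹ * τ) = 1 := by
        rw [Perm.sign_mul, Perm.sign_inv, hodd σ hσN' hσ1', hodd τ hτ hτ1]; decide
      have := h h1 (mem_alternatingGroup.mpr h2)
      rw [inv_mul_eq_one] at this
      exact this.symm
    have hcent : ∀ g : Perm Ω, g * σ * g⁻¹ = σ := by
      intro g
      apply huniq _ (hN.conj_mem σ hσN' g)
      intro hh
      apply hσ1'
      have : σ = g⁻¹ * (g * σ * g⁻¹) * g := by group
      rw [this, hh]; group
    obtain ⟨a, ha⟩ : ∃ a, σ a ≠ a := by
      by_contra hh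
      push Not at hh
      exact hσ1' (Equiv.Perm.ext hh)
    obtain ⟨c, hc1, hc2⟩ : ∃ c, c ≠ a ∧ c ≠ σ a := by
      have : 2 < Fintype.card Ω := by omega
      obtain ⟨c, hc⟩ := Finset.exists_mem_notMem_of_card_lt_card
        (s := ({a, σ a} : Finset Ω)) (t := Finset.univ) (by
          rw [Finset.card_univ]
          exact lt_of_le_of_lt (Finset.card_le_two) this)
      simp at hc
      exact ⟨c, hc.1, hc.2⟩
    have := congrArg (fun f => f a) (hcent (swap (σ a) c))
    simp only [Perm.coe_mul, Function.comp_apply, swap_inv] at this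
    rw [swap_apply_of_ne_of_ne (Ne.symm ha) (Ne.symm hc1), swap_apply_left] at this
    exact hc2 this
  · rw [Subgroup.subgroupOf_eq_top] at h
    have := Subgroup.index_dvd_of_le (h.trans hNH)
    rw [alternatingGroup.index_eq_two] at this
    have := Nat.le_of_dvd (by norm_num) this
    omega


lemma fixed_point_big {Ω : Type*} [Fintype Ω] [DecidableEq Ω] (h5 : 5 ≤ Fintype.card Ω)
    (h6 : Fintype.card Ω ≠ 6)
    (H : Subgroup (Perm Ω)) (hH : H.index = Fintype.card Ω) : ∃ x : Ω, ∀ h ∈ H, h x = x := by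
  classical
  let X := Perm Ω ⧸ H
  letI : Fintype X := Fintype.ofFinite X
  have hXcard : Fintype.card X = Fintype.card Ω := by
    rw [← hH, Subgroup.index, Nat.card_eq_fintype_card]
  let ρ : Perm Ω →* Perm X := MulAction.toPermHom (Perm Ω) X
  let pt : X := QuotientGroup.mk 1
  have hρ : ∀ g : Perm Ω, ρ g pt = pt ↔ g ∈ H := by
    intro g
    show g • (QuotientGroup.mk 1 : X) = QuotientGroup.mk 1 ↔ _
    rw [MulAction.Quotient.smul_mk, QuotientGroup.eq]
    simp
  have hker : ρ.ker = ⊥ := by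
    apply normal_le_eq_bot h5 ρ.ker H
    · intro g hg
      rw [← hρ]
      rw [MonoidHom.mem_ker] at hg
      rw [hg]; rfl
    · omega
  have hinj : Function.Injective ρ := (MonoidHom.ker_eq_bot_iff ρ).mp hker
  have hbij : Function.Bijective ρ := by
    rw [Fintype.bijective_iff_injective_and_card]
    exact ⟨hinj, by rw [Fintype.card_perm, Fintype.card_perm, hXcard]⟩
  let ψ : Perm Ω ≃* Perm X := MulEquiv.ofBijective ρ hbij
  have hψ : ∀ g, ψ g = ρ g := fun g => rfl
  have hsw : ∀ a b : X, a ≠ pt → b ≠ pt → a ≠ b →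
      (ψ.symm (swap a b)) ∈ H ∧ (ψ.symm (swap a b)).IsSwap := by
    intro a b ha hb hab
    constructor
    · rw [← hρ, ← hψ, ψ.apply_symm_apply]
      exact swap_apply_of_ne_of_ne ha.symm hb.symm
    · exact iso_swap hXcard (by rw [hXcard]; exact h5) (by rw [hXcard]; exact h6) ψ.symm _ ⟨a, b, hab, rfl⟩
  let S : Set (Perm Ω) := {σ | σ.IsSwap ∧ σ ∈ H}
  have hS : ∀ f ∈ S, f.IsSwap := fun f hf => hf.1
  have hcl : Subgroup.closure S = H := by
    apply le_antisymm
    · rw [Subgroup.closure_le]; exact fun f hf => hf.2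
    · intro h hh
      let S' : Set (Perm X) := {τ | ∃ a b, a ≠ pt ∧ b ≠ pt ∧ a ≠ b ∧ τ = swap a b}
      have hS' : ∀ f ∈ S', f.IsSwap := by
        rintro f ⟨a, b, _, _, hab, rfl⟩; exact ⟨a, b, hab, rfl⟩
      have h1 : ρ h ∈ Subgroup.closure S' := by
        rw [mem_closure_isSwap hS']
        refine ⟨Set.toFinite _, fun x => ?_⟩
        by_cases hx : ρ h x = x
        · rw [hx]; exact MulAction.mem_orbit_self x
        · have hxpt : x ≠ pt := by
            rintro rfl; exact hx ((hρ h).mpr hh)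
          have hgx : ρ h x ≠ pt := by
            intro h2
            apply hxpt
            have := (hρ h).mpr hh
            exact (ρ h).injective (h2.trans this.symm)
          have hm : swap x (ρ h x) ∈ Subgroup.closure S' :=
            Subgroup.subset_closure ⟨x, ρ h x, hxpt, hgx, Ne.symm hx, rfl⟩
          exact ⟨⟨_, hm⟩, by simp [Subgroup.smul_def]⟩
      have h2 : ∀ g ∈ Subgroup.closure S', ψ.symm g ∈ Subgroup.closure S := by
        intro g hg
        induction hg using Subgroup.closure_induction with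
        | mem g hg =>
          obtain ⟨a, b, ha, hb, hab, rfl⟩ := hg
          exact Subgroup.subset_closure ⟨(hsw a b ha hb hab).2, (hsw a b ha hb hab).1⟩
        | one => rw [map_one]; exact Subgroup.one_mem _
        | mul x y _ _ hx hy => rw [map_mul]; exact Subgroup.mul_mem _ hx hy
        | inv x _ hx => rw [map_inv]; exact Subgroup.inv_mem _ hx
      have := h2 _ h1
      rwa [show ψ.symm (ρ h) = h from ψ.symm_apply_apply h] at this
  have hnt : ¬ (∀ x y : Ω, ∃ h ∈ H, h x = y) := by
    intro ht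
    have : MulAction.IsPretransitive (Subgroup.closure S) Ω := by
      refine ⟨fun x y => ?_⟩
      obtain ⟨g, hg, hgy⟩ := ht x y
      exact ⟨⟨g, hcl ▸ hg⟩, hgy⟩
    have := closure_of_isSwap_of_isPretransitive hS
    rw [hcl] at this
    rw [this, Subgroup.index_top] at hH; omega
  by_contra hno
  push Not at hno
  obtain ⟨x₀⟩ : Nonempty Ω := Fintype.card_pos_iff.mp (by omega)
  let C : Finset Ω := Finset.univ.filter (fun y => ∃ h ∈ H, h x₀ = y)
  have hCmem : ∀ y, y ∈ C ↔ ∃ h ∈ H, h x₀ = y := by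
    intro y; simp [C]
  have hCinv : ∀ h ∈ H, ∀ y, y ∈ C → h y ∈ C := by
    intro h hh y hy
    rw [hCmem] at hy ⊢
    obtain ⟨g, hg, rfl⟩ := hy
    exact ⟨h * g, H.mul_mem hh hg, rfl⟩
  have hCinv' : ∀ h ∈ H, ∀ y, h y ∈ C → y ∈ C := by
    intro h hh y hy
    have := hCinv h⁻¹ (H.inv_mem hh) _ hy
    simpa using this
  have hx₀ : x₀ ∈ C := (hCmem x₀).mpr ⟨1, H.one_mem, rfl⟩
  have hc2 : 2 ≤ C.card := by
    obtain ⟨h, hh, hne⟩ := hno x₀
    have : 1 < C.card := Finset.one_lt_card.mpr ⟨x₀, hx₀, h x₀, hCinv h hh _ hx₀, Ne.symm hne⟩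
    exact this
  obtain ⟨y, hy⟩ : ∃ y, y ∉ C := by
    by_contra hall
    push Not at hall
    apply hnt
    intro x z
    obtain ⟨g1, hg1, rfl⟩ := (hCmem x).mp (hall x)
    obtain ⟨g2, hg2, rfl⟩ := (hCmem z).mp (hall z)
    exact ⟨g2 * g1⁻¹, H.mul_mem hg2 (H.inv_mem hg1), by simp⟩
  have hcc2 : 2 ≤ Cᶜ.card := by
    obtain ⟨h, hh, hne⟩ := hno y
    have : 1 < Cᶜ.card := Finset.one_lt_card.mpr
      ⟨y, by simpa using hy, h y, by
        rw [Finset.mem_compl]; exact fun h1 => hy (hCinv' h hh y h1), Ne.symm hne⟩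
    exact this
  have hsum : C.card + Cᶜ.card = Fintype.card Ω := Finset.card_add_card_compl C
  have hle : H ≤ MulAction.stabilizer (Perm Ω) (C : Set Ω) := by
    intro h hh
    rw [MulAction.mem_stabilizer_iff]
    ext z
    rw [Set.mem_smul_set_iff_inv_smul_mem]
    simp only [Finset.mem_coe, Perm.smul_def]
    constructor
    · intro hz; have := hCinv h hh _ hz; simpa using this
    · intro hz; exact hCinv h⁻¹ (H.inv_mem hh) _ hz
  let s : Set.powersetCard Ω C.card := ⟨C, rfl⟩
  have hst : MulAction.stabilizer (Perm Ω) s = MulAction.stabilizer (Perm Ω) (C : Set Ω) :=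
    Set.powersetCard.stabilizer_coe s
  haveI := Set.powersetCard.isPretransitive (α := Ω) (n := C.card)
  have hidx : (MulAction.stabilizer (Perm Ω) (C : Set Ω)).index = (Fintype.card Ω).choose C.card := by
    rw [← hst, MulAction.index_stabilizer_of_transitive, Set.powersetCard.card,
      Nat.card_eq_fintype_card]
  have hdvd := Subgroup.index_dvd_of_le hle
  rw [hidx, hH] at hdvd
  have := Nat.le_of_dvd (by omega) hdvd
  have := lt_choose' (Fintype.card Ω) C.card hc2 (by omega)
  omega


lemma fixed_point_small {Ω : Type*} [Fintype Ω] [DecidableEq Ω] (p : ℕ) (hp : p.Prime)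
    (hn : Fintype.card Ω = p + 1) (hp2 : (p - 1)! ≤ 2)
    (H : Subgroup (Perm Ω)) (hH : H.index = Fintype.card Ω) : ∃ x : Ω, ∀ h ∈ H, h x = x := by
  classical
  haveI : Fact p.Prime := ⟨hp⟩
  have hp2' := hp.two_le
  have hcardH : Nat.card H = p ! := by
    have h1 := H.card_mul_index
    rw [hH, hn, Nat.card_perm, Nat.card_eq_fintype_card (α := Ω), hn, Nat.factorial_succ] at h1
    have : Nat.card H * (p+1) = p ! * (p+1) := by rw [h1]; ring
    exact Nat.eq_of_mul_eq_mul_right (by omega) this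
  obtain ⟨σ, hσ⟩ := exists_prime_orderOf_dvd_card' (G := H) p (by
    rw [hcardH]; exact Nat.dvd_factorial hp.pos le_rfl)
  have hσ' : orderOf (σ : Perm Ω) = p := by rw [Subgroup.orderOf_coe, hσ]
  obtain ⟨k, hk⟩ := Equiv.Perm.cycleType_prime_order (σ := (σ : Perm Ω)) (by rw [hσ']; exact hp)
  rw [hσ'] at hk
  have hsum : (σ : Perm Ω).cycleType.sum ≤ Fintype.card Ω := by
    rw [Equiv.Perm.sum_cycleType]; exact Finset.card_le_univ _
  have hk0 : k = 0 := by
    rw [hk, Multiset.sum_replicate, smul_eq_mul, hn] at hsum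
    by_contra hk0
    have : 2 * p ≤ (k+1) * p := Nat.mul_le_mul_right p (by omega)
    omega
  subst hk0
  have hsupp : (σ : Perm Ω).support.card = p := by
    rw [← Equiv.Perm.sum_cycleType, hk]; simp
  -- a fixed point
  obtain ⟨d, hd⟩ : ∃ d, (σ : Perm Ω) d = d := by
    by_contra hno
    push Not at hno
    have : (σ : Perm Ω).support = Finset.univ := by
      ext x; simp [hno x]
    rw [this, Finset.card_univ, hn] at hsupp
    omega
  have huniq : ∀ e, (σ : Perm Ω) e = e → e = d := by
    intro e he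
    by_contra hne
    have hsub : (σ : Perm Ω).support ⊆ (Finset.univ.erase d).erase e := by
      intro x hx
      rw [Equiv.Perm.mem_support] at hx
      simp only [Finset.mem_erase, Finset.mem_univ, and_true]
      refine ⟨?_, ?_⟩
      · rintro rfl; exact hx he
      · rintro rfl; exact hx hd
    have := Finset.card_le_card hsub
    rw [Finset.card_erase_of_mem (by simp [hne]), Finset.card_erase_of_mem (Finset.mem_univ _),
      Finset.card_univ, hn, hsupp] at this
    omega
  -- P normal
  let P : Subgroup H := Subgroup.zpowers σ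
  have hcardP : Nat.card P = p := by rw [Nat.card_zpowers, hσ]
  have hPidx : P.index = (p - 1)! := by
    have h1 := P.card_mul_index
    rw [hcardP, hcardH] at h1
    have : p ! = p * (p-1)! := by
      rw [show p = (p - 1) + 1 by omega, Nat.factorial_succ]; simp
    rw [this] at h1
    exact Nat.eq_of_mul_eq_mul_left hp.pos h1
  have hPn : P.Normal := by
    have h0 : P.index ≠ 0 := Subgroup.index_ne_zero_of_finite
    have : P.index = 1 ∨ P.index = 2 := by omega
    rcases this with h1 | h2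
    · rw [Subgroup.index_eq_one] at h1
      rw [h1]; infer_instance
    · exact Subgroup.normal_of_index_eq_two h2
  refine ⟨d, fun h hh => ?_⟩
  have hconj : (⟨h, hh⟩ : H) * σ * (⟨h, hh⟩ : H)⁻¹ ∈ P :=
    hPn.conj_mem σ (Subgroup.mem_zpowers σ) ⟨h, hh⟩
  obtain ⟨i, hi⟩ := Subgroup.mem_zpowers_iff.mp hconj
  have hi' : ((σ : Perm Ω)) ^ i = h * σ * h⁻¹ := by
    have := congrArg (Subtype.val) hi
    simpa using this
  have h1 : ((σ : Perm Ω) ^ i) d = d := Equiv.Perm.zpow_apply_eq_self_of_apply_eq_self hd i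
  rw [hi'] at h1
  simp only [Perm.coe_mul, Function.comp_apply] at h1
  have h2 : (σ : Perm Ω) (h⁻¹ d) = h⁻¹ d := by
    have := congrArg (fun z => h⁻¹ z) h1
    simpa using this
  have h3 := huniq _ h2
  have := congrArg (fun z => h z) h3
  simpa using this.symm

/-- Let Ω be a finite set whose size n is not 6. Then every subgroup of the symmetric group on Ω of index n is the stabilizer of a point. -/
theorem result {Ω : Type*} [Fintype Ω] [DecidableEq Ω] (h6 : Fintype.card Ω ≠ 6)
    (H : Subgroup (Equiv.Perm Ω)) (hH : H.index = Fintype.card Ω) :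
    ∃ x : Ω, H = MulAction.stabilizer (Equiv.Perm Ω) x := by
  classical
  have key : (∃ x : Ω, ∀ h ∈ H, h x = x) → ∃ x : Ω, H = MulAction.stabilizer (Perm Ω) x := by
    rintro ⟨x, hx⟩
    refine ⟨x, ?_⟩
    have hle : H ≤ MulAction.stabilizer (Perm Ω) x := fun h hh => by
      rw [MulAction.mem_stabilizer_iff]; exact hx h hh
    have hidx : (MulAction.stabilizer (Perm Ω) x).index = Fintype.card Ω := by
      rw [MulAction.index_stabilizer_of_transitive, Nat.card_eq_fintype_card]
    have := Subgroup.relIndex_mul_index hle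
    rw [hidx, hH] at this
    have hpos : 0 < Fintype.card Ω := Fintype.card_pos_iff.mpr ⟨x⟩
    have hr : H.relIndex (MulAction.stabilizer _ x) = 1 :=
      Nat.eq_of_mul_eq_mul_right hpos (by simpa using this)
    exact le_antisymm hle (Subgroup.relIndex_eq_one.mp hr)
  apply key
  rcases Nat.lt_or_ge (Fintype.card Ω) 5 with hlt | h5
  · have h0 : H.index ≠ 0 := Subgroup.index_ne_zero_of_finite
    have hn : Fintype.card Ω = 1 ∨ Fintype.card Ω = 2 ∨ Fintype.card Ω = 3 ∨ Fintype.card Ω = 4 := by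
      omega
    rcases hn with hn | hn | hn | hn
    · obtain ⟨x⟩ : Nonempty Ω := Fintype.card_pos_iff.mp (by omega)
      haveI : Subsingleton Ω := Fintype.card_le_one_iff_subsingleton.mp (by omega)
      exact ⟨x, fun h _ => Subsingleton.elim _ _⟩
    · obtain ⟨x⟩ : Nonempty Ω := Fintype.card_pos_iff.mp (by omega)
      have h1 := H.card_mul_index
      rw [hH, hn, Nat.card_perm, Nat.card_eq_fintype_card (α := Ω), hn] at h1
      have hc : Nat.card H = 1 := by
        have : (2:ℕ)! = 2 := by decide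
        rw [this] at h1; omega
      have hb : H = ⊥ := Subgroup.eq_bot_of_card_eq H hc
      refine ⟨x, fun h hh => ?_⟩
      rw [hb, Subgroup.mem_bot] at hh
      rw [hh]; rfl
    · exact fixed_point_small 2 Nat.prime_two hn (by decide) H hH
    · exact fixed_point_small 3 Nat.prime_three hn (by decide) H hH
  · exact fixed_point_big h5 h6 H hH

end Cfsg.Agent.S5911
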