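import Cfsg.Statements.S5912
import Mathlib
import Cfsg.Agent.S5911
-- import your own Cfsg.Agent.* helpers here

set_option autoImplicit false
open Cfsg

namespace Cfsg.Agent.S5912

open Equiv Equiv.Perm
open scoped Pointwise


abbrev S5 := Perm (Fin 5)

instance fact5 : Fact (Nat.Prime 5) := ⟨Nat.prime_five⟩

lemma card_S5 : Nat.card S5 = 120 := by
  rw [Nat.card_perm]; simp; decide

/-- a Sylow 5-subgroup of a group of order 5 * m with m < 25, 5 ∤ m has order 5 -/
lemma card_sylow5_of {G : Type*} [Group G] [Finite G] (m : ℕ) (hG : Nat.card G = 5 * m)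
    (hm : ¬ 5 ∣ m) (P : Sylow 5 G) : Nat.card P = 5 := by
  obtain ⟨k, hk⟩ := IsPGroup.iff_card.mp P.isPGroup'
  have h1 := (P : Subgroup G).card_mul_index
  have h2 : ¬ 5 ∣ (P : Subgroup G).index := P.not_dvd_index
  rw [hG] at h1
  rw [hk] at h1 ⊢
  rcases k with _ | _ | k
  · exfalso; apply h2
    simp at h1
    rw [h1]; exact dvd_mul_right 5 m
  · simp
  · exfalso
    apply hm
    have : 5 * (5 * 5 ^ k * (P : Subgroup G).index) = 5 * m := by rw [← h1]; ring
    have := Nat.eq_of_mul_eq_mul_left (by norm_num) this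
    rw [← this]
    exact ⟨5 ^ k * (P : Subgroup G).index, by ring⟩

lemma card_sylow5_S5 (P : Sylow 5 S5) : Nat.card P = 5 :=
  card_sylow5_of 24 (by rw [card_S5]) (by decide) P

lemma index_sylow5_S5 (P : Sylow 5 S5) : (P : Subgroup S5).index = 24 := by
  have h1 := (P : Subgroup S5).card_mul_index
  rw [card_S5] at h1
  have := card_sylow5_S5 P
  have h3 : Nat.card (P : Subgroup S5) = 5 := this
  rw [h3] at h1
  omega

lemma card_sylow_S5 : Nat.card (Sylow 5 S5) = 6 := by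
  obtain ⟨P⟩ : Nonempty (Sylow 5 S5) := inferInstance
  have h1 : Nat.card (Sylow 5 S5) ≡ 1 [MOD 5] := card_sylow_modEq_one 5 S5
  have h2 : Nat.card (Sylow 5 S5) ∣ 24 := by
    rw [← index_sylow5_S5 P]; exact P.card_dvd_index
  have h3 : Nat.card (Sylow 5 S5) ≤ 24 := Nat.le_of_dvd (by norm_num) h2
  have h4 : Nat.card (Sylow 5 S5) = 1 ∨ Nat.card (Sylow 5 S5) = 6 := by
    unfold Nat.ModEq at h1
    generalize Nat.card (Sylow 5 S5) = n at *
    interval_cases n <;> simp_all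
  rcases h4 with h4 | h4
  · exfalso
    haveI : Subsingleton (Sylow 5 S5) := (Nat.card_eq_one_iff_unique.mp h4).1
    haveI : (P : Subgroup S5).Normal := P.normal_of_subsingleton
    have hb := Cfsg.Agent.S5911.normal_le_eq_bot (Ω := Fin 5) (by simp) (P : Subgroup S5)
      (P : Subgroup S5) le_rfl (by rw [index_sylow5_S5 P]; norm_num)
    have := card_sylow5_S5 P
    have h5 : Nat.card (P : Subgroup S5) = 5 := this
    rw [hb] at h5
    simp at h5
  · exact h4

lemma index_normalizer_S5 (P : Sylow 5 S5) :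
    (Subgroup.normalizer (P : Set S5)).index = 6 := by
  rw [← P.card_eq_index_normalizer, card_sylow_S5]

lemma index6_is_normalizer (K : Subgroup S5) (hK : K.index = 6) :
    ∃ P : Sylow 5 S5, K = Subgroup.normalizer (P : Set S5) := by
  have hcK : Nat.card K = 20 := by
    have h1 := K.card_mul_index
    rw [hK, card_S5] at h1
    omega
  obtain ⟨Q⟩ : Nonempty (Sylow 5 K) := inferInstance
  have hQ5 : Nat.card Q = 5 := card_sylow5_of 4 (by rw [hcK]) (by decide) Q
  have hQidx : (Q : Subgroup K).index = 4 := by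
    have h1 := (Q : Subgroup K).card_mul_index
    rw [hcK] at h1
    have h3 : Nat.card (Q : Subgroup K) = 5 := hQ5
    rw [h3] at h1
    omega
  have hn : Nat.card (Sylow 5 K) = 1 := by
    have h1 : Nat.card (Sylow 5 K) ≡ 1 [MOD 5] := card_sylow_modEq_one 5 K
    have h2 : Nat.card (Sylow 5 K) ∣ 4 := by
      rw [← hQidx]; exact Q.card_dvd_index
    have h3 : Nat.card (Sylow 5 K) ≤ 4 := Nat.le_of_dvd (by norm_num) h2
    unfold Nat.ModEq at h1
    generalize Nat.card (Sylow 5 K) = n at *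
    interval_cases n <;> simp_all
  haveI : Subsingleton (Sylow 5 K) := (Nat.card_eq_one_iff_unique.mp hn).1
  haveI hQn : (Q : Subgroup K).Normal := Q.normal_of_subsingleton
  let Q' : Subgroup S5 := (Q : Subgroup K).map K.subtype
  have hQ'K : Q' ≤ K := Subgroup.map_subtype_le _
  have hQ'card : Nat.card Q' = 5 := by
    rw [Subgroup.card_map_of_injective K.subtype_injective]
    exact hQ5
  have hQ'p : IsPGroup 5 Q' := IsPGroup.of_card (n := 1) (by rw [hQ'card]; norm_num)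
  obtain ⟨P, hP⟩ := hQ'p.exists_le_sylow
  have hPQ : Q' = (P : Subgroup S5) := by
    apply Subgroup.eq_of_le_of_card_ge hP
    rw [hQ'card]
    exact (card_sylow5_S5 P).le
  refine ⟨P, ?_⟩
  have hsub : (Q'.subgroupOf K) = (Q : Subgroup K) := by
    ext x
    simp only [Subgroup.mem_subgroupOf, Q', Subgroup.mem_map, Subgroup.subtype_apply]
    constructor
    · rintro ⟨y, hy, hyx⟩
      have : y = x := Subtype.ext hyx
      rwa [← this]
    · intro hx
      exact ⟨x, hx, rfl⟩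
  have hle : K ≤ Subgroup.normalizer (P : Set S5) := by
    rw [← P.coe_coe, ← hPQ, ← Subgroup.normal_subgroupOf_iff_le_normalizer hQ'K, hsub]
    exact hQn
  apply Subgroup.eq_of_le_of_card_ge hle
  have h1 := (Subgroup.normalizer (P : Set S5)).card_mul_index
  rw [index_normalizer_S5 P, card_S5] at h1
  rw [hcK]
  omega

lemma index6_conj (K₁ K₂ : Subgroup S5) (h₁ : K₁.index = 6) (h₂ : K₂.index = 6) :
    ∃ s : S5, K₂ = K₁.map (MulAut.conj s).toMonoidHom := by
  obtain ⟨P₁, rfl⟩ := index6_is_normalizer K₁ h₁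
  obtain ⟨P₂, rfl⟩ := index6_is_normalizer K₂ h₂
  obtain ⟨s, hs⟩ := MulAction.exists_smul_eq S5 P₁ P₂
  refine ⟨s, ?_⟩
  rw [← Sylow.stabilizer_eq_normalizer, ← Sylow.stabilizer_eq_normalizer, ← hs,
    MulAction.stabilizer_smul_eq_stabilizer_map_conj]



lemma conj_of_equiv_actions {S Ω : Type*} [Group S] [Finite Ω] (θ₁ θ₂ : S →* Perm Ω) (ω₁ ω₂ : Ω)
    (ht₁ : ∀ ω, ∃ s, θ₁ s ω₁ = ω) (hstab : ∀ s, θ₁ s ω₁ = ω₁ ↔ θ₂ s ω₂ = ω₂) :
    ∃ f : Perm Ω, ∀ s, f * θ₁ s * f⁻¹ = θ₂ s := by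
  classical
  choose c hc using ht₁
  let f₀ : Ω → Ω := fun ω => θ₂ (c ω) ω₂
  have key : ∀ s ω, θ₁ s ω₁ = ω → θ₂ s ω₂ = f₀ ω := by
    intro s ω h
    have h1 : θ₁ ((c ω)⁻¹ * s) ω₁ = ω₁ := by
      rw [map_mul, Perm.mul_apply, h, map_inv, Perm.inv_eq_iff_eq]
      exact (hc ω).symm
    have h2 := (hstab _).mp h1
    rw [map_mul, Perm.mul_apply, map_inv, Perm.inv_eq_iff_eq] at h2
    exact h2
  have hinj : Function.Injective f₀ := by
    intro ω ω' h
    have h1 : θ₂ ((c ω')⁻¹ * c ω) ω₂ = ω₂ := by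
      rw [map_mul, Perm.mul_apply, map_inv, Perm.inv_eq_iff_eq]
      exact h
    have h2 := (hstab _).mpr h1
    rw [map_mul, Perm.mul_apply, map_inv, Perm.inv_eq_iff_eq, hc, hc] at h2
    exact h2
  have hbij : Function.Bijective f₀ := Finite.injective_iff_bijective.mp hinj
  let f : Perm Ω := Equiv.ofBijective f₀ hbij
  refine ⟨f, fun s => ?_⟩
  rw [mul_inv_eq_iff_eq_mul]
  ext ω
  simp only [Perm.mul_apply]
  show f₀ (θ₁ s ω) = θ₂ s (f₀ ω)
  have := key (s * c ω) (θ₁ s ω) (by rw [map_mul, Perm.mul_apply, hc])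
  rw [← this, map_mul, Perm.mul_apply]



/-- an index-`n` subgroup of `S_n` that is not transitive has a fixed point -/
lemma fixed_of_not_trans {Ω : Type*} [Fintype Ω] [DecidableEq Ω]
    (H : Subgroup (Perm Ω)) (hH : H.index = Fintype.card Ω) (hpos : 0 < Fintype.card Ω)
    (hnt : ¬ (∀ x y : Ω, ∃ h ∈ H, h x = y)) : ∃ x : Ω, ∀ h ∈ H, h x = x := by
  classical
  by_contra hno
  push Not at hno
  obtain ⟨x₀⟩ : Nonempty Ω := Fintype.card_pos_iff.mp hpos
  let C : Finset Ω := Finset.univ.filter (fun y => ∃ h ∈ H, h x₀ = y)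
  have hCmem : ∀ y, y ∈ C ↔ ∃ h ∈ H, h x₀ = y := by
    intro y; simp [C]
  have hCinv : ∀ h ∈ H, ∀ y, y ∈ C → h y ∈ C := by
    intro h hh y hy
    rw [hCmem] at hy ⊢
    obtain ⟨g, hg, rfl⟩ := hy
    exact ⟨h * g, H.mul_mem hh hg, rfl⟩
  have hCinv' : ∀ h ∈ H, ∀ y, h y ∈ C → y ∈ C := by
    intro h hh y hy
    have := hCinv h⁻¹ (H.inv_mem hh) _ hy
    simpa using this
  have hx₀ : x₀ ∈ C := (hCmem x₀).mpr ⟨1, H.one_mem, rfl⟩
  have hc2 : 2 ≤ C.card := by
    obtain ⟨h, hh, hne⟩ := hno x₀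
    have : 1 < C.card := Finset.one_lt_card.mpr ⟨x₀, hx₀, h x₀, hCinv h hh _ hx₀, Ne.symm hne⟩
    exact this
  obtain ⟨y, hy⟩ : ∃ y, y ∉ C := by
    by_contra hall
    push Not at hall
    apply hnt
    intro x z
    obtain ⟨g1, hg1, rfl⟩ := (hCmem x).mp (hall x)
    obtain ⟨g2, hg2, rfl⟩ := (hCmem z).mp (hall z)
    exact ⟨g2 * g1⁻¹, H.mul_mem hg2 (H.inv_mem hg1), by simp⟩
  have hcc2 : 2 ≤ Cᶜ.card := by
    obtain ⟨h, hh, hne⟩ := hno y
    have : 1 < Cᶜ.card := Finset.one_lt_card.mpr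
      ⟨y, by simpa using hy, h y, by
        rw [Finset.mem_compl]; exact fun h1 => hy (hCinv' h hh y h1), Ne.symm hne⟩
    exact this
  have hsum : C.card + Cᶜ.card = Fintype.card Ω := Finset.card_add_card_compl C
  have hle : H ≤ MulAction.stabilizer (Perm Ω) (C : Set Ω) := by
    intro h hh
    rw [MulAction.mem_stabilizer_iff]
    ext z
    rw [Set.mem_smul_set_iff_inv_smul_mem]
    simp only [Finset.mem_coe, Perm.smul_def]
    constructor
    · intro hz; have := hCinv h hh _ hz; simpa using this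
    · intro hz; exact hCinv h⁻¹ (H.inv_mem hh) _ hz
  let s : Set.powersetCard Ω C.card := ⟨C, rfl⟩
  have hst : MulAction.stabilizer (Perm Ω) s = MulAction.stabilizer (Perm Ω) (C : Set Ω) :=
    Set.powersetCard.stabilizer_coe s
  haveI := Set.powersetCard.isPretransitive (α := Ω) (n := C.card)
  have hidx : (MulAction.stabilizer (Perm Ω) (C : Set Ω)).index =
      (Fintype.card Ω).choose C.card := by
    rw [← hst, MulAction.index_stabilizer_of_transitive, Set.powersetCard.card,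
      Nat.card_eq_fintype_card]
  have hdvd := Subgroup.index_dvd_of_le hle
  rw [hidx, hH] at hdvd
  have := Nat.le_of_dvd hpos hdvd
  have := Cfsg.Agent.S5911.lt_choose' (Fintype.card Ω) C.card hc2 (by omega)
  omega

lemma eq_stab_of_fixed {Ω : Type*} [Fintype Ω] [DecidableEq Ω]
    (H : Subgroup (Perm Ω)) (hH : H.index = Fintype.card Ω) (x : Ω) (hx : ∀ h ∈ H, h x = x) :
    H = MulAction.stabilizer (Perm Ω) x := by
  have hle : H ≤ MulAction.stabilizer (Perm Ω) x := fun h hh => by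
    rw [MulAction.mem_stabilizer_iff]; exact hx h hh
  have hidx : (MulAction.stabilizer (Perm Ω) x).index = Fintype.card Ω := by
    rw [MulAction.index_stabilizer_of_transitive, Nat.card_eq_fintype_card]
  have := Subgroup.relIndex_mul_index hle
  rw [hidx, hH] at this
  have hpos : 0 < Fintype.card Ω := Fintype.card_pos_iff.mpr ⟨x⟩
  have hr : H.relIndex (MulAction.stabilizer _ x) = 1 :=
    Nat.eq_of_mul_eq_mul_right hpos (by simpa using this)
  exact le_antisymm hle (Subgroup.relIndex_eq_one.mp hr)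

/-- an index-6 subgroup of `S_6` is isomorphic to `S_5` -/
lemma iso_S5 {Ω : Type*} [Fintype Ω] [DecidableEq Ω] (h6 : Fintype.card Ω = 6)
    (H : Subgroup (Perm Ω)) (hH : H.index = 6) : Nonempty (H ≃* Perm (Fin 5)) := by
  classical
  let X := Perm Ω ⧸ H
  letI : Fintype X := Fintype.ofFinite X
  have hXcard : Fintype.card X = 6 := by
    rw [← hH, Subgroup.index, Nat.card_eq_fintype_card]
  let ρ : Perm Ω →* Perm X := MulAction.toPermHom (Perm Ω) X
  let pt : X := QuotientGroup.mk 1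
  have hρ : ∀ g : Perm Ω, ρ g pt = pt ↔ g ∈ H := by
    intro g
    show g • (QuotientGroup.mk 1 : X) = QuotientGroup.mk 1 ↔ _
    rw [MulAction.Quotient.smul_mk, QuotientGroup.eq]
    simp
  have hker : ρ.ker = ⊥ := by
    apply Cfsg.Agent.S5911.normal_le_eq_bot (by omega) ρ.ker H
    · intro g hg
      rw [← hρ]
      rw [MonoidHom.mem_ker] at hg
      rw [hg]; rfl
    · omega
  have hinj : Function.Injective ρ := (MonoidHom.ker_eq_bot_iff ρ).mp hker
  have hbij : Function.Bijective ρ := by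
    rw [Fintype.bijective_iff_injective_and_card]
    exact ⟨hinj, by rw [Fintype.card_perm, Fintype.card_perm, hXcard, h6]⟩
  let ψ : Perm Ω ≃* Perm X := MulEquiv.ofBijective ρ hbij
  let K : Subgroup (Perm X) := (ofSubtype : Perm {x : X // x ≠ pt} →* Perm X).range
  have hK : ∀ g : Perm X, g ∈ K ↔ g pt = pt := by
    intro g
    rw [mem_range_ofSubtype_iff]
    constructor
    · intro h
      by_contra hg
      have := h (Finset.mem_coe.mpr (Perm.mem_support.mpr hg))
      exact this rfl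
    · intro h x hx
      rw [Finset.mem_coe, Perm.mem_support] at hx
      show x ≠ pt
      rintro rfl
      exact hx h
  have hmap : H.map ψ.toMonoidHom = K := by
    ext g
    rw [hK]
    constructor
    · rintro ⟨h, hh, rfl⟩
      exact (hρ h).mpr hh
    · intro hg
      refine ⟨ψ.symm g, ?_, ψ.apply_symm_apply g⟩
      apply (hρ _).mp
      show ψ (ψ.symm g) pt = pt
      rw [ψ.apply_symm_apply]; exact hg
  have e1 : H ≃* K := (ψ.subgroupMap H).trans (MulEquiv.subgroupCongr hmap)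
  have e2 : Perm {x : X // x ≠ pt} ≃* K := MonoidHom.ofInjective ofSubtype_injective
  have hc : Fintype.card {x : X // x ≠ pt} = 5 := by
    rw [Fintype.card_subtype_compl, Fintype.card_subtype_eq, hXcard]
  have e3 : {x : X // x ≠ pt} ≃ Fin 5 := Fintype.equivFinOfCardEq hc
  exact ⟨e1.trans (e2.symm.trans e3.permCongrHom)⟩



lemma exotic_hom {Ω : Type*} [Fintype Ω] [DecidableEq Ω] (h6 : Fintype.card Ω = 6) :
    ∃ θ : S5 →* Perm Ω, Function.Injective θ ∧ (∀ x y : Ω, ∃ s, θ s x = y) := by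
  classical
  let Y := Sylow 5 S5
  letI : Fintype Y := Fintype.ofFinite Y
  have hY : Fintype.card Y = 6 := by
    rw [← Nat.card_eq_fintype_card]; exact card_sylow_S5
  let e : Y ≃ Ω := Fintype.equivOfCardEq (hY.trans h6.symm)
  let φ : S5 →* Perm Y := MulAction.toPermHom S5 Y
  have hφ : Function.Injective φ := by
    rw [← MonoidHom.ker_eq_bot_iff]
    obtain ⟨P⟩ : Nonempty Y := inferInstance
    apply Cfsg.Agent.S5911.normal_le_eq_bot (Ω := Fin 5) (by simp) φ.ker
      (Subgroup.normalizer (P : Set S5))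
    · intro g hg
      rw [← Sylow.stabilizer_eq_normalizer, MulAction.mem_stabilizer_iff]
      rw [MonoidHom.mem_ker] at hg
      have := congrArg (fun σ : Perm Y => σ P) hg
      exact this
    · rw [index_normalizer_S5]; norm_num
  refine ⟨e.permCongrHom.toMonoidHom.comp φ, ?_, ?_⟩
  · exact e.permCongrHom.injective.comp hφ
  · intro x y
    obtain ⟨s, hs⟩ := MulAction.exists_smul_eq S5 (e.symm x) (e.symm y)
    refine ⟨s, ?_⟩
    show e (s • e.symm x) = y
    rw [hs]; simp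

lemma stab_index {Ω : Type*} [Fintype Ω] [DecidableEq Ω] (θ : S5 →* Perm Ω)
    (htr : ∀ x y : Ω, ∃ s, θ s x = y) (ω₀ : Ω) :
    ((MulAction.stabilizer (Perm Ω) ω₀).comap θ).index = Fintype.card Ω := by
  letI : MulAction S5 Ω := MulAction.compHom Ω θ
  haveI : MulAction.IsPretransitive S5 Ω := ⟨fun x y => htr x y⟩
  have h1 := MulAction.index_stabilizer_of_transitive S5 ω₀
  rw [Nat.card_eq_fintype_card] at h1
  rw [← h1]
  congr 1

lemma trans_conj {Ω : Type*} [Fintype Ω] [DecidableEq Ω] (h6 : Fintype.card Ω = 6)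
    (θ₁ θ₂ : S5 →* Perm Ω)
    (htr₁ : ∀ x y : Ω, ∃ s, θ₁ s x = y) (htr₂ : ∀ x y : Ω, ∃ s, θ₂ s x = y) :
    ∃ f : Perm Ω, ∀ s, f * θ₁ s * f⁻¹ = θ₂ s := by
  obtain ⟨ω₀⟩ : Nonempty Ω := Fintype.card_pos_iff.mp (by omega)
  have i₁ := stab_index θ₁ htr₁ ω₀
  have i₂ := stab_index θ₂ htr₂ ω₀
  rw [h6] at i₁ i₂
  obtain ⟨s, hs⟩ := index6_conj _ _ i₁ i₂
  apply conj_of_equiv_actions θ₁ θ₂ ω₀ (θ₂ s⁻¹ ω₀) (fun ω => htr₁ ω₀ ω)
  intro t
  have hu : θ₂ s (θ₂ s⁻¹ ω₀) = ω₀ := by
    rw [← Perm.mul_apply, ← map_mul, mul_inv_cancel, map_one]; rfl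
  have key : θ₂ t (θ₂ s⁻¹ ω₀) = θ₂ s⁻¹ ω₀ ↔
      s * t * s⁻¹ ∈ (MulAction.stabilizer (Perm Ω) ω₀).comap θ₂ := by
    rw [Subgroup.mem_comap, MulAction.mem_stabilizer_iff, Perm.smul_def, map_mul, map_mul,
      Perm.mul_apply, Perm.mul_apply]
    constructor
    · intro h; rw [h, hu]
    · intro h; apply (θ₂ s).injective; rw [h, hu]
  rw [key, hs, Subgroup.mem_map_equiv]
  simp only [MulAut.conj_symm_apply, Subgroup.mem_comap, MulAction.mem_stabilizer_iff,
    Perm.smul_def]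
  rw [show s⁻¹ * (s * t * s⁻¹) * s = t by group]


lemma index_range_of_injective {Ω : Type*} [Fintype Ω] [DecidableEq Ω] (h6 : Fintype.card Ω = 6)
    (θ : S5 →* Perm Ω) (hinj : Function.Injective θ) : θ.range.index = 6 := by
  have h1 := θ.range.card_mul_index
  have h2 : Nat.card θ.range = 120 := by
    rw [← card_S5]; exact (Nat.card_congr (MonoidHom.ofInjective hinj).toEquiv).symm
  rw [h2, Nat.card_perm, Nat.card_eq_fintype_card, h6] at h1
  have : (6:ℕ).factorial = 720 := by decide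
  omega

theorem main12 {Ω : Type*} [Fintype Ω] [DecidableEq Ω] (h6 : Fintype.card Ω = 6) :
    ∃ H₁ H₂ : Subgroup (Equiv.Perm Ω), H₁.index = 6 ∧ H₂.index = 6 ∧
      (¬ ∃ g : Equiv.Perm Ω, Subgroup.map (MulAut.conj g).toMonoidHom H₁ = H₂) ∧
      ∀ H : Subgroup (Equiv.Perm Ω), H.index = 6 →
        ∃ g : Equiv.Perm Ω, Subgroup.map (MulAut.conj g).toMonoidHom H₁ = H ∨
          Subgroup.map (MulAut.conj g).toMonoidHom H₂ = H := by
  classical
  obtain ⟨ω₀⟩ : Nonempty Ω := Fintype.card_pos_iff.mp (by omega)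
  haveI : Nontrivial Ω := Fintype.one_lt_card_iff_nontrivial.mp (by omega)
  obtain ⟨θ₂, hinj₂, htr₂⟩ := exotic_hom h6
  have hidx₁ : (MulAction.stabilizer (Perm Ω) ω₀).index = 6 := by
    rw [MulAction.index_stabilizer_of_transitive, Nat.card_eq_fintype_card, h6]
  have hidx₂ : θ₂.range.index = 6 := index_range_of_injective h6 θ₂ hinj₂
  refine ⟨MulAction.stabilizer (Perm Ω) ω₀, θ₂.range, hidx₁, hidx₂, ?_, ?_⟩
  · rintro ⟨g, hg⟩
    obtain ⟨y, hy⟩ : ∃ y, y ≠ g ω₀ := exists_ne _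
    obtain ⟨s, hs⟩ := htr₂ (g ω₀) y
    have hmem : θ₂ s ∈ θ₂.range := ⟨s, rfl⟩
    rw [← hg] at hmem
    obtain ⟨h, hh, hhs⟩ := hmem
    apply hy
    rw [← hs, ← hhs]
    have h0 : h ω₀ = ω₀ := hh
    simp [MulAut.conj_apply, h0]
  · intro H hH
    by_cases htr : ∀ x y : Ω, ∃ h ∈ H, h x = y
    · obtain ⟨e⟩ := iso_S5 h6 H hH
      let θ₁ : S5 →* Perm Ω := H.subtype.comp e.symm.toMonoidHom
      have htr₁ : ∀ x y, ∃ s, θ₁ s x = y := by
        intro x y
        obtain ⟨h, hh, hxy⟩ := htr x y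
        exact ⟨e ⟨h, hh⟩, by simp [θ₁, hxy]⟩
      obtain ⟨f, hf⟩ := trans_conj h6 θ₂ θ₁ htr₂ htr₁
      refine ⟨f, Or.inr ?_⟩
      ext x
      constructor
      · rintro ⟨_, ⟨s, rfl⟩, rfl⟩
        show f * θ₂ s * f⁻¹ ∈ H
        rw [hf]; exact (e.symm s).2
      · intro hx
        refine ⟨θ₂ (e ⟨x, hx⟩), ⟨_, rfl⟩, ?_⟩
        show f * θ₂ _ * f⁻¹ = x
        rw [hf]; simp [θ₁]
    · obtain ⟨x, hx⟩ := fixed_of_not_trans H (hH.trans h6.symm) (by omega) htr
      have := eq_stab_of_fixed H (hH.trans h6.symm) x hx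
      refine ⟨swap ω₀ x, Or.inl ?_⟩
      rw [this, ← MulAction.stabilizer_smul_eq_stabilizer_map_conj]
      congr 1
      simp

/-- The symmetric group on a 6-element set Ω has exactly two conjugacy classes of subgroups of index 6: there are two non-conjugate subgroups of index 6 (a point stabilizer and a transitive subgroup isomorphic to S₅), and every subgroup of index 6 is conjugate to one of them. -/
theorem result {Ω : Type*} [Fintype Ω] [DecidableEq Ω] (h6 : Fintype.card Ω = 6) :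
    ∃ H₁ H₂ : Subgroup (Equiv.Perm Ω), H₁.index = 6 ∧ H₂.index = 6 ∧
      (¬ ∃ g : Equiv.Perm Ω, Subgroup.map (MulAut.conj g).toMonoidHom H₁ = H₂) ∧
      ∀ H : Subgroup (Equiv.Perm Ω), H.index = 6 →
        ∃ g : Equiv.Perm Ω, Subgroup.map (MulAut.conj g).toMonoidHom H₁ = H ∨ Subgroup.map (MulAut.conj g).toMonoidHom H₂ = H := by
  exact main12 h6

end Cfsg.Agent.S5912
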