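import Cfsg.Statements.S5913
-- import your own Cfsg.Agent.* helpers here

set_option autoImplicit false
open Cfsg

namespace Cfsg.Agent.S5913

/-- Let S be a non-abelian simple group and n a natural number. Every normal subgroup N of the direct power S^n (functions Fin n → S) is a subproduct: there is a set T of coordinates such that N consists exactly of the elements whose coordinates outside T are trivial. In particular the minimal normal subgroups of S^n are its n factors. -/
theorem result {S : Type*} [Group S] [IsSimpleGroup S] (hS : ¬ IsMulCommutative S) (n : ℕ)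
    (N : Subgroup (Fin n → S)) [N.Normal] :
    ∃ T : Finset (Fin n), ∀ x : Fin n → S, x ∈ N ↔ ∀ i, i ∉ T → x i = 1 := by
  classical
  -- centre of S is trivial
  have hcenter : Subgroup.center S = ⊥ := by
    rcases (inferInstance : (Subgroup.center S).Normal).eq_bot_or_eq_top with h | h
    · exact h
    · exfalso
      apply hS
      rw [isMulCommutative_iff]
      intro a b
      have hb : b ∈ Subgroup.center S := by rw [h]; exact Subgroup.mem_top _
      exact Subgroup.mem_center_iff.mp hb a
  -- the key step
  have key : ∀ i : Fin n, (∃ x ∈ N, x i ≠ 1) → ∀ s : S, Pi.mulSingle i s ∈ N := by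
    rintro i ⟨x, hxN, hxi⟩
    let Ni : Subgroup S :=
      { carrier := {s | Pi.mulSingle i s ∈ N}
        mul_mem' := by
          intro a b ha hb
          change Pi.mulSingle i (a * b) ∈ N
          rw [Pi.mulSingle_mul]
          exact N.mul_mem ha hb
        one_mem' := by
          change Pi.mulSingle i (1 : S) ∈ N
          rw [Pi.mulSingle_one]
          exact N.one_mem
        inv_mem' := by
          intro a ha
          change Pi.mulSingle i a⁻¹ ∈ N
          rw [Pi.mulSingle_inv]
          exact N.inv_mem ha }
    have hNi_normal : Ni.Normal := by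
      constructor
      intro s hs t
      change Pi.mulSingle i (t * s * t⁻¹) ∈ N
      rw [Pi.mulSingle_mul, Pi.mulSingle_mul, Pi.mulSingle_inv]
      exact ‹N.Normal›.conj_mem _ hs _
    have hxc : x i ∉ Subgroup.center S := by
      rw [hcenter, Subgroup.mem_bot]; exact hxi
    rw [Subgroup.mem_center_iff] at hxc
    push Not at hxc
    obtain ⟨t, ht⟩ := hxc
    have hcomm : Pi.mulSingle i t * x * (Pi.mulSingle i t)⁻¹ * x⁻¹ ∈ N :=
      N.mul_mem (‹N.Normal›.conj_mem _ hxN _) (N.inv_mem hxN)
    have heq : Pi.mulSingle i t * x * (Pi.mulSingle i t)⁻¹ * x⁻¹ =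
        Pi.mulSingle i (t * x i * t⁻¹ * (x i)⁻¹) := by
      ext j
      by_cases hj : j = i
      · subst hj
        simp
      · simp [Pi.mulSingle_eq_of_ne hj]
    rw [heq] at hcomm
    have hne : t * x i * t⁻¹ * (x i)⁻¹ ≠ 1 := by
      intro h
      apply ht
      have h2 : t * x i = x i * t := by
        have := congrArg (fun z => z * x i * t) h
        simpa [mul_assoc] using this
      exact h2
    have hNi_ne : Ni ≠ ⊥ := by
      intro h
      have hmem : t * x i * t⁻¹ * (x i)⁻¹ ∈ Ni := hcomm
      rw [h, Subgroup.mem_bot] at hmem
      exact hne hmem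
    have hNi_top : Ni = ⊤ := (hNi_normal.eq_bot_or_eq_top).resolve_left hNi_ne
    intro s
    have : s ∈ Ni := by rw [hNi_top]; exact Subgroup.mem_top _
    exact this
  refine ⟨Finset.univ.filter (fun i => ∃ x ∈ N, x i ≠ 1), fun x => ⟨?_, ?_⟩⟩
  · intro hx i hi
    by_contra hne
    apply hi
    simp only [Finset.mem_filter, Finset.mem_univ, true_and]
    exact ⟨x, hx, hne⟩
  · intro hx
    rw [← Finset.noncommProd_mulSingle x]
    apply Subgroup.noncommProd_mem
    intro i _
    by_cases hi : ∃ y ∈ N, y i ≠ 1
    · exact key i hi (x i)
    · have : x i = 1 := by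
        apply hx
        simp only [Finset.mem_filter, Finset.mem_univ, true_and]
        exact hi
      rw [this, Pi.mulSingle_one]
      exact N.one_mem

end Cfsg.Agent.S5913
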